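import Cfsg.Statements.S0499
import Cfsg.Agent.Lib.Transfer.Frobenius

set_option autoImplicit false
open Cfsg

namespace Cfsg.Agent.S0499

/-- An automorphism of odd prime order `q` of a group of order `2 ^ j ≤ 8` has `q = 3` and
`4 ≤ 2 ^ j`, or `q = 7` and `2 ^ j = 8`. -/
theorem aut_prime {Q : Type*} [Group Q] [Finite Q] {j : ℕ} (hj : Nat.card Q = 2 ^ j) (hj3 : j ≤ 3)
    (φ : MulAut Q) {q : ℕ} (hq : q.Prime) (hq2 : q ≠ 2) (hφ : orderOf φ = q) :
    (q = 3 ∧ 2 ≤ j) ∨ (q = 7 ∧ j = 3) := by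
  haveI : Fact q.Prime := ⟨hq⟩
  let F : Subgroup Q :=
    { carrier := {x | φ x = x}
      one_mem' := map_one φ
      mul_mem' := fun {x y} hx hy => by
        simp only [Set.mem_ofPred_eq] at hx hy ⊢
        rw [map_mul, hx, hy]
      inv_mem' := fun {x} hx => by
        simp only [Set.mem_ofPred_eq] at hx ⊢
        rw [map_inv, hx] }
  have hA : IsPGroup q (Subgroup.zpowers φ) := IsPGroup.of_card (n := 1) (by
    rw [Nat.card_zpowers, hφ, pow_one])
  have hmod := hA.card_modEq_card_fixedPoints Q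
  have hfix : MulAction.fixedPoints (Subgroup.zpowers φ) Q = (F : Set Q) := by
    ext x
    constructor
    · exact fun h => h ⟨φ, Subgroup.mem_zpowers φ⟩
    · intro h g
      have hst : φ ∈ MulAction.stabilizer (MulAut Q) x := h
      exact (Subgroup.zpowers_le.2 hst) g.2
  rw [hfix] at hmod
  have hF : Nat.card F ∣ 2 ^ j := hj ▸ Subgroup.card_subgroup_dvd_card F
  obtain ⟨i, hi, hFi⟩ := (Nat.dvd_prime_pow Nat.prime_two).1 hF
  change Nat.card Q ≡ Nat.card F [MOD q] at hmod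
  rw [hj, hFi] at hmod
  have hlt : i < j := by
    refine lt_of_le_of_ne hi fun h => ?_
    have htop : F = ⊤ := Subgroup.eq_top_of_card_eq F (by rw [hFi, h, hj])
    have h1 : φ = 1 := MulEquiv.ext fun x => (htop ▸ Subgroup.mem_top x : x ∈ F)
    rw [h1, orderOf_one] at hφ
    exact hq.one_lt.ne hφ
  have hdvd : q ∣ 2 ^ j - 2 ^ i :=
    (Nat.modEq_iff_dvd' (Nat.pow_le_pow_right two_pos hi)).1 hmod.symm
  have h2 : q ≤ 2 ^ j - 2 ^ i := Nat.le_of_dvd (by
    have := Nat.pow_lt_pow_right (show 1 < 2 by norm_num) hlt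
    omega) hdvd
  have h7 : q ≤ 7 := by
    have := Nat.pow_le_pow_right (show 0 < 2 by norm_num) hj3
    have := Nat.two_pow_pos i
    omega
  interval_cases j <;> interval_cases i <;> interval_cases q <;> norm_num at *

/-- A non-abelian finite simple group of even order has order divisible by 12, 16 or 56. -/
theorem result {G : Type*} [Group G] [Finite G] [IsSimpleGroup G]
    (hG : ¬ IsMulCommutative G) (h2 : Even (Nat.card G)) :
    12 ∣ Nat.card G ∨ 16 ∣ Nat.card G ∨ 56 ∣ Nat.card G := by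
  haveI : Fact (Nat.Prime 2) := ⟨Nat.prime_two⟩
  obtain ⟨P⟩ := (inferInstance : Nonempty (Sylow 2 G))
  obtain ⟨k, hk⟩ := P.isPGroup'.exists_card_eq
  have hPG : 2 ^ k ∣ Nat.card G := hk ▸ Subgroup.card_subgroup_dvd_card _
  by_cases hk4 : 4 ≤ k
  · exact Or.inr (Or.inl ((pow_dvd_pow 2 hk4).trans hPG))
  -- a simple group of even order has no normal 2-complement
  have hnc : ¬ Cfsg.HasNormalPComplement 2 G := by
    rintro ⟨P', N, hN, hc⟩
    rcases hN.eq_bot_or_eq_top with h | h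
    · subst h
      have htop : (P' : Subgroup G) = ⊤ := Subgroup.isComplement'_bot_left.1 hc
      have hp : IsPGroup 2 G := fun g => by
        obtain ⟨n, hn⟩ := P'.isPGroup' ⟨g, htop ▸ Subgroup.mem_top g⟩
        exact ⟨n, congrArg Subtype.val hn⟩
      haveI := hp.center_nontrivial
      rcases (inferInstance : (Subgroup.center G).Normal).eq_bot_or_eq_top with h | h
      · exact (Subgroup.nontrivial_iff_ne_bot _).1 inferInstance h
      · exact hG ⟨⟨fun a b => (Subgroup.mem_center_iff.1 (h ▸ Subgroup.mem_top b) a)⟩⟩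
    · subst h
      have hbot : (P' : Subgroup G) = ⊥ := Subgroup.isComplement'_top_left.1 hc
      have h1 := P'.dvd_card_of_dvd_card (even_iff_two_dvd.1 h2)
      rw [hbot, Subgroup.card_bot] at h1
      omega
  have hex : ∃ Q : Subgroup G, Q ≤ (P : Subgroup G) ∧ ∃ g ∈ Subgroup.normalizer (Q : Set G),
      Nat.Coprime (orderOf g) 2 ∧ g ∉ Subgroup.centralizer (Q : Set G) := by
    by_contra hcon
    push Not at hcon
    exact hnc (Transfer.hasNormalPComplement_of_centralizer P hcon)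
  obtain ⟨Q, hQP, g, hgN, hco, hgC⟩ := hex
  let g' : Subgroup.normalizer (Q : Set G) := ⟨g, hgN⟩
  let φ₀ : MulAut Q := Subgroup.normalizerMonoidHom Q g'
  have hord : orderOf φ₀ ∣ orderOf g :=
    Subgroup.orderOf_mk g hgN ▸ orderOf_map_dvd _ g'
  have hne : φ₀ ≠ 1 := by
    intro h
    apply hgC
    rw [Subgroup.mem_centralizer_iff]
    intro x hx
    have h1 : ((φ₀ ⟨x, hx⟩ : Q) : G) = x := by rw [h]; rfl
    have h2 : g * x * g⁻¹ = x := h1
    exact (mul_inv_eq_iff_eq_mul.1 h2).symm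
  obtain ⟨q, hq, hqd⟩ := Nat.exists_prime_and_dvd (fun h => hne (orderOf_eq_one_iff.1 h))
  obtain ⟨φ, hφ⟩ : ∃ φ : MulAut Q, orderOf φ = q := by
    exact ⟨_, orderOf_pow_orderOf_div (orderOf_pos φ₀).ne' hqd⟩
  have hqg : q ∣ Nat.card G := (hqd.trans hord).trans (orderOf_dvd_natCard g)
  have hq2 : q ≠ 2 := by
    rintro rfl
    exact absurd (Nat.Coprime.eq_one_of_dvd hco.symm (hqd.trans hord)) (by norm_num)
  obtain ⟨j, hj⟩ := (P.isPGroup'.to_le hQP).exists_card_eq
  have hjk : j ≤ k := by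
    have := Subgroup.card_le_of_le hQP
    rw [hj, hk] at this
    exact (Nat.pow_le_pow_iff_right (by norm_num)).1 this
  rcases aut_prime hj (by omega) φ hq hq2 hφ with ⟨rfl, hj2⟩ | ⟨rfl, rfl⟩
  · left
    have h4 : 2 ^ 2 ∣ Nat.card G := (pow_dvd_pow 2 (by omega)).trans hPG
    exact Nat.Coprime.mul_dvd_of_dvd_of_dvd (m := 3) (n := 2 ^ 2) (by norm_num) hqg h4
  · right; right
    have h8 : 2 ^ 3 ∣ Nat.card G := (pow_dvd_pow 2 hjk).trans hPG
    exact Nat.Coprime.mul_dvd_of_dvd_of_dvd (m := 7) (n := 2 ^ 3) (by norm_num) hqg h8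

end Cfsg.Agent.S0499
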