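import Cfsg.Statements.S0129
import Cfsg.Agent.Lib.PGroup.HomCount
import Cfsg.Agent.Lib.PGroup.Basic

set_option autoImplicit false
open Cfsg

namespace Cfsg.Agent.S0129

universe u

open scoped commutatorElement in
theorem centralizer_index_le {p : ℕ} [Fact p.Prime] :
    ∀ (b : ℕ) (G : Type u) [Group G] [Finite G], IsPGroup p G → ∀ (B : Subgroup G) [B.Normal],
      IsMulCommutative B → Nat.card B = p ^ b →
      (Subgroup.centralizer (B : Set G)).index ≤ p ^ (b * (b - 1) / 2) := by
  intro b
  induction b with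
  | zero =>
    intro G _ _ _ B _ _ hc
    rw [pow_zero] at hc
    have hbot := Subgroup.card_eq_one.1 hc
    have : Subgroup.centralizer (B : Set G) = ⊤ := by
      rw [Subgroup.eq_top_iff']
      intro x
      refine Subgroup.mem_centralizer_iff.2 fun y hy => ?_
      rw [hbot] at hy
      simp [Subgroup.mem_bot.1 hy]
    simp [this]
  | succ b ih =>
    intro G _ _ hG B _ hB hc
    have hBne : B ≠ ⊥ := fun h => by
      rw [h, Subgroup.card_bot] at hc
      exact absurd hc (Nat.one_lt_pow (Nat.succ_ne_zero b) (Fact.out : p.Prime).one_lt).ne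
    obtain ⟨z, hzB, hzZ, hz⟩ := PGroup.exists_orderOf_eq_mem_center hG B hBne
    set Z := Subgroup.zpowers z
    have hZp : Nat.card Z = p := by rw [Nat.card_zpowers, hz]
    have hZB : Z ≤ B := Subgroup.zpowers_le.2 hzB
    have hZc : Z ≤ Subgroup.center G := Subgroup.zpowers_le.2 hzZ
    haveI : Z.Normal := ⟨fun n hn g => by rwa [Subgroup.mem_center_iff.1 (hZc hn) g, mul_inv_cancel_right]⟩
    let π := QuotientGroup.mk' Z
    haveI : (B.map π).Normal := Subgroup.Normal.map inferInstance π (QuotientGroup.mk'_surjective Z)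
    have hrel : Z.relIndex B = p ^ b := by
      have h1 := Subgroup.relIndex_mul_relIndex (⊥ : Subgroup G) Z B bot_le hZB
      rw [Subgroup.relIndex_bot_left, Subgroup.relIndex_bot_left, hZp, hc, pow_succ'] at h1
      exact Nat.eq_of_mul_eq_mul_left (Fact.out : p.Prime).pos h1
    have hcard : Nat.card (B.map π) = p ^ b := by
      rw [← Subgroup.relIndex_ker, QuotientGroup.ker_mk', hrel]
    have hcomm : IsMulCommutative (B.map π) := by
      constructor; constructor
      rintro ⟨_, x, hx, rfl⟩ ⟨_, y, hy, rfl⟩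
      exact Subtype.ext (by rw [Subgroup.coe_mul, Subgroup.coe_mul, ← map_mul, ← map_mul]; exact congrArg π (congrArg Subtype.val (hB.is_comm.comm ⟨x, hx⟩ ⟨y, hy⟩)))
    have h2 := ih (G ⧸ Z) (hG.to_quotient Z) (B.map π) hcomm hcard
    set D := (Subgroup.centralizer ((B.map π : Subgroup (G ⧸ Z)) : Set (G ⧸ Z))).comap π
    have hD : D.index ≤ p ^ (b * (b - 1) / 2) := by
      rw [Subgroup.index_comap_of_surjective _ (QuotientGroup.mk'_surjective Z)]
      exact h2
    have hle : Subgroup.centralizer (B : Set G) ≤ D := by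
      intro x hx
      refine Subgroup.mem_centralizer_iff.2 ?_
      rintro _ ⟨y, hy, rfl⟩
      rw [← map_mul, ← map_mul, Subgroup.mem_centralizer_iff.1 hx y hy]
    have hDB : ⁅D, B⁆ ≤ Z := by
      rw [Subgroup.commutator_le]
      intro d hd x hx
      rw [← QuotientGroup.eq_one_iff]
      have := Subgroup.mem_centralizer_iff.1 hd (π x) ⟨x, hx, rfl⟩
      show π ⁅d, x⁆ = 1
      rw [map_commutatorElement]
      exact commutatorElement_eq_one_iff_mul_comm.2 this.symm
    have hBB : ⁅B, B⁆ ≤ Z := by
      rw [Subgroup.commutator_le]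
      intro x hx y hy
      rw [commutatorElement_eq_one_iff_mul_comm.2 (congrArg Subtype.val (hB.is_comm.comm ⟨x, hx⟩ ⟨y, hy⟩))]
      exact one_mem _
    have h3 := PGroup.relIndex_centralizer_le_of_bracket D B Z hZB hZc hZp hBB hDB
    rw [hrel] at h3
    rw [← Subgroup.relIndex_mul_index hle]
    calc _ ≤ p ^ b * p ^ (b * (b - 1) / 2) := Nat.mul_le_mul h3 hD
      _ = _ := by
        rw [← pow_add]
        congr 1
        rcases b with _ | c
        · rfl
        · simp only [Nat.add_sub_cancel]
          have : (c + 1 + 1) * (c + 1) = (c + 1) * c + (c + 1) * 2 := by ring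
          rw [this, Nat.add_mul_div_right _ _ (by norm_num : 0 < 2)]
          ring


/-- The order of a p-group is bounded by p^(a(a+1)/2) when it has a maximal normal abelian subgroup of order p^a. -/
theorem result {G : Type*} [Group G] [Finite G] {p : ℕ} [Fact p.Prime] (hG : IsPGroup p G) (A : Subgroup G) [A.Normal] (hA : IsMulCommutative A) (hmax : ∀ B : Subgroup G, B.Normal → IsMulCommutative B → A ≤ B → B = A) (a : ℕ) (ha : Nat.card A = p ^ a) : Nat.card G ≤ p ^ (a * (a + 1) / 2) := by
  have hA' : ∀ x ∈ A, ∀ y ∈ A, x * y = y * x := fun x hx y hy => congrArg Subtype.val (hA.is_comm.comm ⟨x, hx⟩ ⟨y, hy⟩)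
  have hAC : A ≤ Subgroup.centralizer (A : Set G) := fun x hx =>
    Subgroup.mem_centralizer_iff.2 fun y hy => hA' y hy x hx
  have hsc : Subgroup.centralizer (A : Set G) = A := by
    refine le_antisymm ?_ hAC
    by_contra hne
    let π := QuotientGroup.mk' A
    haveI : ((Subgroup.centralizer (A : Set G)).map π).Normal := Subgroup.Normal.map inferInstance π (QuotientGroup.mk'_surjective A)
    have hCne : (Subgroup.centralizer (A : Set G)).map π ≠ ⊥ := by
      rwa [Ne, Subgroup.map_eq_bot_iff, QuotientGroup.ker_mk']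
    have hne2 := PGroup.inf_center_ne_bot (hG.to_quotient A) _ hCne
    obtain ⟨y, hy, hy1⟩ := (Subgroup.ne_bot_iff_exists_ne_one.1 hne2 |> fun ⟨y, hy⟩ => (⟨y.1, y.2, fun h => hy (Subtype.ext h)⟩ : ∃ y, y ∈ (Subgroup.centralizer (A : Set G)).map π ⊓ Subgroup.center _ ∧ y ≠ 1))
    obtain ⟨⟨x, hxC, rfl⟩, hyz⟩ := hy
    set B := A ⊔ Subgroup.zpowers x with hB
    have hBn : B.Normal := ⟨fun n hn g => by
      have hnz : π n ∈ Subgroup.center (G ⧸ A) := by
        refine (sup_le ?_ (Subgroup.zpowers_le.2 hyz) : B ≤ (Subgroup.center (G ⧸ A)).comap π) hn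
        intro a ha
        rw [Subgroup.mem_comap, show π a = 1 from (QuotientGroup.eq_one_iff a).2 ha]
        exact one_mem _
      have h1 : π (g * n * g⁻¹) = π n := by
        rw [map_mul, map_mul, Subgroup.mem_center_iff.1 hnz, map_inv, mul_inv_cancel_right]
      have h2 : n⁻¹ * (g * n * g⁻¹) ∈ A := QuotientGroup.eq.1 h1.symm
      have h3 := mul_mem hn (le_sup_left (b := Subgroup.zpowers x) h2 : n⁻¹ * (g * n * g⁻¹) ∈ B)
      rwa [mul_inv_cancel_left] at h3⟩
    have hBc : IsMulCommutative B := by
      have hBC : B ≤ Subgroup.centralizer (B : Set G) := by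
        refine sup_le ?_ ?_
        · rw [Subgroup.le_centralizer_iff]
          exact sup_le hAC (Subgroup.zpowers_le.2 hxC)
        · rw [Subgroup.le_centralizer_iff]
          refine sup_le ?_ ?_
          · rw [Subgroup.le_centralizer_iff]
            exact Subgroup.zpowers_le.2 hxC
          · exact Subgroup.le_centralizer (Subgroup.zpowers x)
      exact ⟨⟨fun a b => Subtype.ext ((Subgroup.mem_centralizer_iff.1 (hBC b.2)) a a.2)⟩⟩
    have := hmax B hBn hBc le_sup_left
    apply hy1
    exact (QuotientGroup.eq_one_iff x).2 (this ▸ (le_sup_right : Subgroup.zpowers x ≤ B) (Subgroup.mem_zpowers x))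
  have key := centralizer_index_le a G hG A hA ha
  rw [hsc] at key
  rw [← A.card_mul_index, ha]
  calc p ^ a * A.index ≤ p ^ a * p ^ (a * (a - 1) / 2) := Nat.mul_le_mul le_rfl key
    _ = p ^ (a * (a + 1) / 2) := by
      rw [← pow_add]
      congr 1
      rcases a with _ | b
      · rfl
      · rw [Nat.add_sub_cancel]
        have : (b + 1) * (b + 1 + 1) = (b + 1) * b + (b + 1) * 2 := by ring
        rw [this, Nat.add_mul_div_right _ _ (by norm_num : 0 < 2)]
        ring

end Cfsg.Agent.S0129
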