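import Cfsg.Statements.S1414
import Cfsg.Agent.Lib.OddOrder.StructureP
import Cfsg.Agent.Lib.OddOrder.SigmaCore
import Cfsg.Agent.Lib.OddOrder.PLengthMaximal
import Cfsg.Agent.Lib.Transfer.Residual
-- import your own Cfsg.Agent.* helpers here

set_option autoImplicit false
open Cfsg

namespace Cfsg.Agent.S1414

/-- Let G be a minimal simple group of odd order, M a maximal subgroup, β(M) the set of ideal primes in α(M), and M_β = O_{β(M)}(M). Then M_β is a Hall β(M)-subgroup of M and of G; M' and M_σ each have a nilpotent Hall β(M)'-subgroup; and for each prime p dividing the order of M with p ∉ β(M), both M' and M_σ have normal p-complements and every prime dividing the index of O_{p'}(M) in M is at most p. -/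
theorem result {G : Type*} [Group G] [Finite G] (hG : Cfsg.IsMinSimpleOddOrder G)
    (M : Subgroup G) (hM : IsCoatom M) :
    Cfsg.IsPiHallOf (Cfsg.beta M) (Cfsg.piCoreOf (Cfsg.beta M) M) M ∧ Cfsg.IsPiHall (Cfsg.beta M) (Cfsg.piCoreOf (Cfsg.beta M) M) ∧
      (∃ H : Subgroup G, Cfsg.IsPiHallOf {q | q.Prime ∧ q ∉ Cfsg.beta M} H ⁅M, M⁆ ∧ Group.IsNilpotent H) ∧
      (∃ H : Subgroup G, Cfsg.IsPiHallOf {q | q.Prime ∧ q ∉ Cfsg.beta M} H (Cfsg.sigmaCore M) ∧ Group.IsNilpotent H) ∧
      ∀ p : ℕ, p.Prime → p ∣ Nat.card M → p ∉ Cfsg.beta M →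
        Cfsg.HasNormalPComplement p ↥⁅M, M⁆ ∧ Cfsg.HasNormalPComplement p ↥(Cfsg.sigmaCore M) ∧
        ∀ q : ℕ, q.Prime → q ∣ (Cfsg.pPrimeCore p ↥M).index → q ≤ p := by
  classical
  haveI := Cfsg.Agent.OddOrder.isSolvable_of_coatom hG hM
  have hoddM : Odd (Nat.card M) := Cfsg.Agent.OddOrder.odd_subgroup hG.1 M
  -- a maximal elementary abelian subgroup of order `p²` when `p` is not ideal
  have hstruct : ∀ (p : ℕ) [Fact p.Prime], p ∣ Nat.card M → p ∉ Cfsg.beta M →
      (∀ q : ℕ, q.Prime → q ∣ (Cfsg.pPrimeCore p ↥M).index → q ≤ p) ∧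
        Cfsg.HasNormalPComplement p ↥(_root_.commutator M) := by
    intro p _ hd hb
    obtain ⟨S⟩ : Nonempty (Sylow p M) := inferInstance
    have h : Cfsg.PRankLE p 2 ↥(S : Subgroup M) ∨ (Cfsg.PLengthLE p 1 M ∧
        ∃ E : Subgroup ↥(S : Subgroup M), Cfsg.IsElementaryAbelian p E ∧ Nat.card E = p ^ 2 ∧
          ∀ B : Subgroup ↥(S : Subgroup M), Cfsg.IsElementaryAbelian p B → E ≤ B → B = E) := by
      by_cases hr : Cfsg.PRankLE p 2 M
      · exact Or.inl (Cfsg.Agent.OddOrder.pRankLE_of_injective (f := (S : Subgroup M).subtype)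
          (Subgroup.subtype_injective _) hr)
      refine Or.inr ⟨Cfsg.Agent.OddOrder.pLengthLE_one_coatom hG hM, ?_⟩
      have hpa : p ∈ Cfsg.alpha M := ⟨Fact.out, hr⟩
      obtain ⟨P, hP⟩ := Cfsg.Agent.OddOrder.sigma_sylow_eq (Cfsg.Agent.OddOrder.alpha_subset_sigma hG hM hpa) S
      have hrG : ¬ Cfsg.PRankLE p 2 G := fun h => hr (Cfsg.Agent.OddOrder.pRankLE_of_injective
        (f := M.subtype) M.subtype_injective h)
      have hni : ¬ ∀ (P : Sylow p G) (A : Subgroup G), A ≤ (P : Subgroup G) →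
          Cfsg.IsElementaryAbelian p A → Nat.card A = p ^ 2 →
          ∃ B : Subgroup G, B ≤ (P : Subgroup G) ∧ Cfsg.IsElementaryAbelian p B ∧ A < B :=
        fun h => hb ⟨hpa, Fact.out, hrG, h⟩
      push Not at hni
      obtain ⟨P', A, hAP, hA, hA2, hAmax⟩ := hni
      obtain ⟨g, hg⟩ := MulAction.exists_smul_eq G P' P
      set c : G →* G := (MulAut.conj g).toMonoidHom
      have hci : Function.Injective c := (MulAut.conj g).injective
      have hP'P : (P' : Subgroup G).map c = (P : Subgroup G) := by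
        rw [← hg, Sylow.coe_subgroup_smul]
        rfl
      let f : ↥(S : Subgroup M) →* G := M.subtype.comp (S : Subgroup M).subtype
      have hf : Function.Injective f := M.subtype_injective.comp (Subgroup.subtype_injective _)
      have hfr : f.range = (P : Subgroup G) := by
        rw [hP, MonoidHom.range_comp, Subgroup.range_subtype]
      have hAc : A.map c ≤ f.range := hfr.ge.trans' (hP'P ▸ Subgroup.map_mono hAP)
      refine ⟨(A.map c).comap f, ?_, ?_, fun B hB hEB => ?_⟩
      · refine ⟨⟨⟨fun a b => Subtype.ext (hf ?_)⟩⟩, fun a ha => hf ?_⟩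
        · have := Cfsg.Agent.PGroup.mul_comm_of_elementaryAbelian
            (Cfsg.Agent.PGroup.isElementaryAbelian_map hA c) (Subgroup.mem_comap.1 a.2) (Subgroup.mem_comap.1 b.2)
          simpa using this
        · rw [map_pow, map_one]
          exact (Cfsg.Agent.PGroup.isElementaryAbelian_map hA c).2 _ (Subgroup.mem_comap.1 ha)
      · rw [← Subgroup.card_map_of_injective hf, Subgroup.map_comap_eq_self hAc,
          Subgroup.card_map_of_injective hci, hA2]
      · by_contra hne
        have hlt : (A.map c).comap f < B := lt_of_le_of_ne hEB (Ne.symm hne)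
        set B' := (B.map f).comap c with hB'
        have hBc : B.map f ≤ c.range := fun y _ => (MulAut.conj g).surjective y
        refine hAmax B' ?_ ⟨⟨⟨fun a b => Subtype.ext (hci ?_)⟩⟩, fun a ha => hci ?_⟩ ?_
        · rw [hB', ← Subgroup.comap_map_eq_self_of_injective hci (P' : Subgroup G), hP'P, ← hfr]
          exact Subgroup.comap_mono (Subgroup.map_le_range f B)
        · have := Cfsg.Agent.PGroup.mul_comm_of_elementaryAbelian
            (Cfsg.Agent.PGroup.isElementaryAbelian_map hB f) (Subgroup.mem_comap.1 a.2) (Subgroup.mem_comap.1 b.2)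
          simpa using this
        · rw [map_pow, map_one]
          exact (Cfsg.Agent.PGroup.isElementaryAbelian_map hB f).2 _ (Subgroup.mem_comap.1 ha)
        · have h1 : (A.map c) < B.map f := by
            rw [← Subgroup.map_comap_eq_self hAc]
            exact (Subgroup.map_lt_map_iff_of_injective hf).2 hlt
          rw [hB', ← Subgroup.comap_map_eq_self_of_injective hci A]
          exact (Subgroup.comap_lt_comap_of_surjective (MulAut.conj g).surjective).2 h1
    obtain ⟨h1, -, h3, -⟩ := Cfsg.Agent.OddOrder.structure_of_maximal_square hoddM p hd S h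
    exact ⟨h1, h3⟩
  set C := _root_.commutator M with hC
  have hCM : C.map M.subtype = ⁅M, M⁆ := Subgroup.map_subtype_commutator M
  have hcompl : ∀ p : ℕ, p.Prime → p ∣ Nat.card M → p ∉ Cfsg.beta M →
      Cfsg.HasNormalPComplement p ↥⁅M, M⁆ := fun p hp hd hb => by
    haveI := Fact.mk hp
    rw [← hCM]
    exact Cfsg.Agent.Transfer.hasNormalPComplement_of_injective
      (C.equivMapOfInjective M.subtype M.subtype_injective).symm.toMonoidHom (MulEquiv.injective _)
      (hstruct p hd hb).2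
  -- the `β`-part of `M'`
  let ι : Type := {p : ℕ // p ∈ ((Nat.card M).primeFactors.filter (fun p => p ∉ Cfsg.beta M))}
  have hι : ∀ i : ι, (i : ℕ).Prime ∧ (i : ℕ) ∣ Nat.card M ∧ (i : ℕ) ∉ Cfsg.beta M := fun i => by
    have h := Finset.mem_filter.1 i.2
    exact ⟨(Nat.mem_primeFactors.1 h.1).1, (Nat.mem_primeFactors.1 h.1).2.1, h.2⟩
  let π : C →* ∀ i : ι, C ⧸ Cfsg.pPrimeCore (i : ℕ) C :=
    Pi.monoidHom fun i => QuotientGroup.mk' _
  set K := π.ker with hK
  have hpow : ∀ i : ι, IsPGroup (i : ℕ) (C ⧸ Cfsg.pPrimeCore (i : ℕ) C) := fun i => by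
    haveI := Fact.mk (hι i).1
    obtain ⟨P, N, hN, hNP⟩ := (hstruct _ (hι i).2.1 (hι i).2.2).2
    haveI := hN
    have hle : N ≤ Cfsg.pPrimeCore (i : ℕ) C := Cfsg.Agent.PCore.le_pPrimeCore (by
      have h : (P : Subgroup C).index = Nat.card N := Subgroup.IsComplement'.index_eq_card hNP
      exact h ▸ (((hι i).1.coprime_iff_not_dvd.2 P.not_dvd_index).symm))
    obtain ⟨k, hk⟩ := P.2.exists_card_eq
    have hd : (Cfsg.pPrimeCore (i : ℕ) C).index ∣ (i : ℕ) ^ k := hk ▸ (Subgroup.IsComplement'.index_eq_card (Subgroup.IsComplement'.symm hNP)) ▸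
      Subgroup.index_dvd_of_le hle
    obtain ⟨j, -, hj⟩ := (Nat.dvd_prime_pow (hι i).1).1 hd
    exact IsPGroup.of_card (n := j) (by rw [← Subgroup.index_eq_card, hj])
  have hnilq : Group.IsNilpotent (C ⧸ K) := by
    haveI : ∀ i : ι, Group.IsNilpotent (C ⧸ Cfsg.pPrimeCore (i : ℕ) C) := fun i => by
      haveI := Fact.mk (hι i).1
      exact (hpow i).isNilpotent
    exact Group.nilpotent_of_mulEquiv (QuotientGroup.quotientKerEquivRange π).symm
  have hKb : ∀ l : ℕ, l.Prime → l ∣ Nat.card K → l ∈ Cfsg.beta M := by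
    intro l hl hd
    by_contra hb
    have hlM : l ∣ Nat.card M := hd.trans ((Subgroup.card_subgroup_dvd_card K).trans
      (Subgroup.card_subgroup_dvd_card C))
    let i : ι := ⟨l, Finset.mem_filter.2 ⟨Nat.mem_primeFactors.2 ⟨hl, hlM, Nat.card_pos.ne'⟩, hb⟩⟩
    have hle : K ≤ Cfsg.pPrimeCore l C := fun y hy => (QuotientGroup.eq_one_iff y).1
      (congrFun (show π y = 1 from hy) i)
    haveI := Fact.mk hl
    exact Cfsg.Agent.PCore.not_dvd_card_pPrimeCore (hd.trans (Subgroup.card_dvd_of_le hle))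
  haveI : ∀ i : ι, (Cfsg.pPrimeCore (i : ℕ) C).Characteristic := fun i => inferInstance
  haveI hKchar : K.Characteristic := by
    refine Subgroup.characteristic_iff_comap_le.2 fun φ y hy => ?_
    refine funext fun i => (QuotientGroup.eq_one_iff y).2 ?_
    have h1 : φ y ∈ Cfsg.pPrimeCore (i : ℕ) C := (QuotientGroup.eq_one_iff (φ y)).1
      (congrFun (show π (φ y) = 1 from hy) i)
    rw [← Subgroup.Characteristic.fixed (H := Cfsg.pPrimeCore (i : ℕ) C) inferInstance φ]
    exact h1
  set KM := K.map C.subtype with hKM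
  haveI : KM.Normal := ConjAct.normal_of_characteristic_of_normal
  have hKMle : KM ≤ Cfsg.piCore (Cfsg.beta M) ↥M := le_sSup ⟨inferInstance, fun l hl hd => by
    rw [hKM, Subgroup.card_map_of_injective C.subtype_injective] at hd
    exact hKb l hl hd⟩
  have hsyl : ∀ (l : ℕ) [Fact l.Prime], l ∈ Cfsg.beta M → ∀ T : Sylow l M,
      (T : Subgroup M) ≤ KM := by
    intro l _ hlb T y hy
    have hyC : y ∈ C := by
      have h := Cfsg.Agent.OddOrder.sylow_le_commutator_of_sigma hG hM
        (Cfsg.Agent.OddOrder.alpha_subset_sigma hG hM hlb.1) T ⟨y, hy, rfl⟩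
      rw [← hCM] at h
      obtain ⟨z, hz, hzy⟩ := h
      rwa [← Subtype.ext hzy]
    refine ⟨⟨y, hyC⟩, ?_, rfl⟩
    show π ⟨y, hyC⟩ = 1
    funext i
    haveI := Fact.mk (hι i).1
    obtain ⟨j, hj⟩ := T.2 ⟨y, hy⟩
    replace hj : y ^ l ^ j = 1 := congrArg Subtype.val hj
    obtain ⟨m, hm⟩ := hpow i (π ⟨y, hyC⟩ i)
    have hj2 : (π ⟨y, hyC⟩ i) ^ l ^ j = 1 := by
      rw [← Pi.pow_apply, ← map_pow, show (⟨y, hyC⟩ : C) ^ l ^ j = 1 from Subtype.ext hj, map_one]
      rfl
    have hne : (i : ℕ) ≠ l := fun e => (hι i).2.2 (e ▸ hlb)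
    exact orderOf_eq_one_iff.1 (Nat.eq_one_of_dvd_coprimes
      (((Nat.coprime_primes (hι i).1 Fact.out).2 hne).pow m j)
      (orderOf_dvd_of_pow_eq_one hm) (orderOf_dvd_of_pow_eq_one hj2))
  have hHallM : Cfsg.IsPiHall (Cfsg.beta M) (Cfsg.piCoreOf (Cfsg.beta M) M) := by
    refine ⟨Cfsg.Agent.OddOrder.isPiGrp_piCoreOf (Cfsg.beta M) M, fun l hl hlb hd => ?_⟩
    haveI := Fact.mk hl
    obtain ⟨T⟩ : Nonempty (Sylow l M) := inferInstance
    obtain ⟨P, hP⟩ := Cfsg.Agent.OddOrder.sigma_sylow_eq (Cfsg.Agent.OddOrder.alpha_subset_sigma hG hM hlb.1) T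
    exact P.not_dvd_index (hd.trans (Subgroup.index_dvd_of_le
      (hP.le.trans (Subgroup.map_mono ((hsyl l hlb T).trans hKMle)))))
  -- nilpotent complements
  have hcompl2 : ∀ D : Subgroup C, ∃ H : Subgroup G,
      Cfsg.IsPiHallOf {q | q.Prime ∧ q ∉ Cfsg.beta M} H ((D.map C.subtype).map M.subtype) ∧
        Group.IsNilpotent H := by
    intro D
    set KD := K.subgroupOf D
    have hKDb : ∀ l : ℕ, l.Prime → l ∣ Nat.card KD → l ∈ Cfsg.beta M := fun l hl hd =>
      hKb l hl (hd.trans (Subgroup.card_comap_dvd_of_injective K D.subtype D.subtype_injective))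
    have hidx : ∀ l : ℕ, l.Prime → l ∈ Cfsg.beta M → ¬ l ∣ KD.index := by
      intro l hl hlb hd
      haveI := Fact.mk hl
      obtain ⟨T⟩ : Nonempty (Sylow l M) := inferInstance
      have h1 : l ∣ K.index := by
        have : KD.index ∣ K.index := Subgroup.relIndex_dvd_index_of_normal K D
        exact hd.trans this
      have h2 : KM.index = K.index * C.index := Subgroup.index_map_subtype K
      exact T.not_dvd_index ((h1.trans (h2 ▸ dvd_mul_right _ _)).trans
        (Subgroup.index_dvd_of_le (hsyl l hlb T)))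
    obtain ⟨H, hH⟩ := Subgroup.exists_right_complement'_of_coprime (N := KD)
      (Nat.coprime_of_dvd fun l hl h1 h2 => hidx l hl (hKDb l hl h1) h2)
    have hHc : Nat.card H = KD.index := hH.symm.index_eq_card.symm
    set f : D →* G := M.subtype.comp (C.subtype.comp D.subtype)
    have hf : Function.Injective f :=
      M.subtype_injective.comp (C.subtype_injective.comp D.subtype_injective)
    have hrange : f.range = (D.map C.subtype).map M.subtype := by
      rw [Subgroup.map_map, MonoidHom.range_eq_map, show f = (M.subtype.comp C.subtype).comp D.subtype from rfl,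
        ← Subgroup.map_map, ← MonoidHom.range_eq_map, Subgroup.range_subtype]
    refine ⟨H.map f, ⟨hrange ▸ Subgroup.map_le_range f H, fun l hl hd => ⟨hl, fun hlb => ?_⟩,
      fun l hl hlb hd => ?_⟩, ?_⟩
    · rw [Subgroup.card_map_of_injective hf, hHc] at hd
      exact hidx l hl hlb hd
    · rw [← hrange, MonoidHom.range_eq_map, Subgroup.relIndex_map_map_of_injective _ _ hf,
        Subgroup.relIndex_top_right, hH.index_eq_card] at hd
      exact hlb.2 (hKDb l hl hd)
    · haveI := hnilq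
      let ψ : D →* C ⧸ K := (QuotientGroup.mk' K).comp D.subtype
      haveI : Group.IsNilpotent H := by
        refine Subgroup.isNilpotent_of_ker_le_center (ψ.comp H.subtype) ?_
        refine (le_of_eq ((MonoidHom.ker_eq_bot_iff _).2 ?_)).trans bot_le
        refine (injective_iff_map_eq_one _).2 fun y hy => ?_
        have h1 : (y : D) ∈ KD ⊓ H := ⟨(QuotientGroup.eq_one_iff (((y : D)) : C)).1 hy, y.2⟩
        rw [hH.disjoint.eq_bot, Subgroup.mem_bot] at h1
        exact Subtype.ext h1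
      exact Group.nilpotent_of_surjective _ (f.subgroupMap_surjective H)
  have hσC : (Cfsg.sigmaCore M) ≤ ⁅M, M⁆ := Cfsg.Agent.OddOrder.sigmaCore_le_commutator hG hM
  refine ⟨⟨Cfsg.Agent.OddOrder.piCoreOf_le _ M, hHallM.1, fun l hl hlb hd => hHallM.2 l hl hlb
    (hd.trans (Subgroup.relIndex_dvd_index_of_le (Cfsg.Agent.OddOrder.piCoreOf_le _ M)))⟩, hHallM, ?_, ?_,
    fun p hp hd hb => ⟨hcompl p hp hd hb, ?_, ?_⟩⟩
  · obtain ⟨H, h1, h2⟩ := hcompl2 ⊤
    refine ⟨H, ?_, h2⟩
    rwa [← MonoidHom.range_eq_map, Subgroup.range_subtype, hCM] at h1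
  · obtain ⟨H, h1, h2⟩ := hcompl2 (((Cfsg.sigmaCore M).subgroupOf M).subgroupOf C)
    refine ⟨H, ?_, h2⟩
    have hle : (Cfsg.sigmaCore M).subgroupOf M ≤ C := by
      rw [← Subgroup.map_le_map_iff_of_injective M.subtype_injective,
        Subgroup.map_subgroupOf_eq_of_le (show Cfsg.sigmaCore M ≤ M from Subgroup.map_subtype_le _), hCM]
      exact hσC
    rwa [Subgroup.map_subgroupOf_eq_of_le hle,
      Subgroup.map_subgroupOf_eq_of_le (show Cfsg.sigmaCore M ≤ M from Subgroup.map_subtype_le _)] at h1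
  · haveI := Fact.mk hp
    exact Cfsg.Agent.Transfer.hasNormalPComplement_of_injective (Subgroup.inclusion hσC)
      (Subgroup.inclusion_injective hσC) (hcompl p hp hd hb)
  · haveI := Fact.mk hp
    exact (hstruct p hd hb).1

end Cfsg.Agent.S1414
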