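import Cfsg.Statements.S1451
import Cfsg.Agent.Lib.OddOrder.RankTwoStructure
import Cfsg.Agent.Lib.Components.Subnormal
-- import your own Cfsg.Agent.* helpers here

set_option autoImplicit false
open Cfsg

namespace Cfsg.Agent.S1451

/-- Elements of `r`-power order centralise a rank-two normal q-subgroup, `q < r`. -/
theorem mem_centralizer_of_lt {G : Type*} [Group G] [Finite G] [Group.IsSolvable G] (hodd : Odd (Nat.card G))
    {q r : ℕ} [Fact q.Prime] (hr : r.Prime) (hqr : q < r) (U : Subgroup G) [U.Normal] (hU : IsPGroup q U)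
    (hrk : Cfsg.PRankLE q 2 U) {x : G} {k : ℕ} (hx : x ^ r ^ k = 1) :
    x ∈ Subgroup.centralizer (U : Set G) := by
  have hq : q.Prime := Fact.out
  by_cases hd : q ∣ Nat.card G
  swap
  · have : U = ⊥ := PCore.eq_bot_of_isPGroup_of_coprime hU
      ((hq.coprime_iff_not_dvd.2 hd).symm.coprime_dvd_left U.card_subgroup_dvd_card)
    rw [this]
    refine Subgroup.mem_centralizer_iff.2 fun y hy => ?_
    rw [Subgroup.mem_bot.1 hy, one_mul, mul_one]
  have hq2 := OddOrder.ne_two_of_odd_of_dvd hodd hd
  obtain ⟨D, hDn, V, hVn, hVp, hV2, hcent⟩ := OddOrder.exists_rankTwo_section hq2 U hU hrk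
  refine hcent x ?_ ?_
  · exact ((Nat.coprime_primes hr hq).2 hqr.ne').pow_left k |>.coprime_dvd_left (orderOf_dvd_of_pow_eq_one hx)
  · induction k generalizing x with
    | zero =>
      rw [pow_zero, pow_one] at hx
      rw [hx, map_one]
      exact one_mem _
    | succ k ih =>
      by_contra hc
      refine absurd (OddOrder.prime_lt_of_small_action hq2 hr ?_ hqr.ne' V hVp hV2 ?_ hc) (by omega)
      · have := hq.two_le
        omega
      · rw [← map_pow]
        exact ih (x := x ^ r) (by rwa [← pow_mul, ← pow_succ'])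

theorem piCore_characteristic {G : Type*} [Group G] [Finite G] (π : Set ℕ) :
    (Cfsg.piCore π G).Characteristic := by
  refine Subgroup.characteristic_iff_map_le.2 fun φ => Subgroup.map_le_iff_le_comap.2 (sSup_le fun N hN => ?_)
  refine Subgroup.map_le_iff_le_comap.1 (le_sSup (⟨hN.1.map _ φ.surjective, fun p hp hd => hN.2 p hp ?_⟩))
  rwa [Subgroup.card_map_of_injective φ.injective] at hd

/-- Let G be a solvable group of odd order such that G, or its Fitting subgroup, has no elementary abelian subgroup of order q ^ 3 for any prime q. Then G' is nilpotent; for every Sylow subgroup S of G, every characteristic subgroup T of S with T ≤ [S, S] is normal in G; and for every prime p, G has a characteristic subgroup that is a Hall subgroup for the set of primes greater than p. -/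
theorem result {G : Type*} [Group G] [Finite G] [Group.IsSolvable G] (hodd : Odd (Nat.card G)) (hr : Cfsg.RankLE 2 G ∨ Cfsg.RankLE 2 (Cfsg.fittingSubgroup G)) :
    Group.IsNilpotent ↥(commutator G) ∧
      (∀ (q : ℕ) [Fact q.Prime] (S : Sylow q G) (T : Subgroup ↥(S : Subgroup G)), T.Characteristic → T.map (S : Subgroup G).subtype ≤ ⁅(S : Subgroup G), (S : Subgroup G)⁆ →
        (T.map (S : Subgroup G).subtype).Normal) ∧
      ∀ p : ℕ, ∃ N : Subgroup G, N.Characteristic ∧ Cfsg.IsPiHall {q | q.Prime ∧ p < q} N := by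
  have hF : Cfsg.RankLE 2 (Cfsg.fittingSubgroup G) := by
    rcases hr with h | h
    · exact fun q hq => OddOrder.pRankLE_of_injective
        (f := (Cfsg.fittingSubgroup G).subtype) (Subgroup.subtype_injective _) (h q hq)
    · exact h
  have hrk : ∀ q : ℕ, q.Prime → Cfsg.PRankLE q 2 (Cfsg.pCore q G) := fun q hq =>
    OddOrder.pRankLE_of_le (Components.pCore_le_fittingSubgroup hq) (hF q hq)
  have hD : commutator G ≤ Cfsg.fittingSubgroup G := OddOrder.commutator_le_fittingSubgroup hodd hrk
  have hFn : Group.IsNilpotent (Cfsg.fittingSubgroup G) := by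
    rw [Components.fittingSubgroup_eq_iSup_pCore]
    exact Components.isNilpotent_iSup_pCore
  refine ⟨(haveI := hFn; Group.nilpotent_of_surjective (Subgroup.subgroupOfEquivOfLe hD).toMonoidHom (MulEquiv.surjective _)),
    fun q hq S T hT hle => ?_, fun p => ?_⟩
  · -- characteristic subgroups of `S` inside `S'`
    set T' := T.map (S : Subgroup G).subtype
    have hTQ : T' ≤ Cfsg.pCore q G := fun x hx => by
      obtain ⟨k, hk⟩ := S.2 ⟨x, Subgroup.map_subtype_le T hx⟩
      refine Subnormal.mem_pCore_of_mem_fittingSubgroup (hD ?_) (congrArg Subtype.val hk : x ^ q ^ k = 1)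
      rw [commutator_def]
      exact Subgroup.commutator_mono le_top le_top (hle hx)
    have hNS : Subgroup.normalizer ((S : Subgroup G) : Set G) ≤ Subgroup.normalizer (T' : Set G) := by
      haveI := hT
      exact Components.normalizer_le_normalizer_map_of_characteristic _ T
    have hFT : Cfsg.fittingSubgroup G ≤ Subgroup.normalizer (T' : Set G) := by
      intro x hx
      refine OddOrder.mem_of_forall_primePart fun r hr' _ u hu ⟨k, hk⟩ => ?_
      haveI := Fact.mk hr'
      have hur : u ∈ Cfsg.pCore r G :=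
        Subnormal.mem_pCore_of_mem_fittingSubgroup (Subgroup.zpowers_le.2 hx hu) hk
      rcases eq_or_ne r q with rfl | hne
      · exact hNS (Subgroup.le_normalizer (PCore.pCore_le_sylow S hur))
      · refine Subgroup.centralizer_le_normalizer _ (Subgroup.mem_centralizer_iff.2 fun t ht => ?_)
        exact (PCore.commute_of_normal_of_disjoint PCore.pCore_normal PCore.pCore_normal
          (PCore.pCore_disjoint_pCore hne) hur (hTQ ht)).symm
    haveI hn : ((S : Subgroup G) ⊔ Cfsg.fittingSubgroup G).Normal :=
      Subgroup.Normal.of_commutator_le G (hD.trans le_sup_right)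
    rw [← Subgroup.normalizer_eq_top_iff, eq_top_iff, ← Sylow.normalizer_sup_eq_top' S
      (le_sup_left : (S : Subgroup G) ≤ (S : Subgroup G) ⊔ Cfsg.fittingSubgroup G)]
    exact sup_le hNS (sup_le (Subgroup.le_normalizer.trans hNS) hFT)
  · -- the Hall subgroup for the primes above `p`
    set π : Set ℕ := {q | q.Prime ∧ p < q}
    set N := Cfsg.piCore π G
    have hNπ := OddOrder.isPiGrp_piCore π G
    refine ⟨N, piCore_characteristic π, hNπ, fun r hr hrπ hd => ?_⟩
    haveI := Fact.mk hr
    obtain ⟨S⟩ : Nonempty (Sylow r G) := inferInstance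
    suffices hS : (S : Subgroup G) ≤ N from S.not_dvd_index (hd.trans (Subgroup.index_dvd_of_le hS))
    let C : Subgroup G := ⨅ q, ⨅ (_ : q.Prime ∧ q ≤ p), Subgroup.centralizer (Cfsg.pCore q G : Set G)
    haveI hCn : C.Normal := Subgroup.normal_iInf_normal fun q => Subgroup.normal_iInf_normal fun _ => inferInstance
    set f := QuotientGroup.mk' N
    have hsurj : Function.Surjective f := QuotientGroup.mk'_surjective N
    have hnil : Group.IsNilpotent (C.map f) := by
      refine Components.isNilpotent_of_commutator_commutator ?_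
      rw [← Subgroup.map_commutator, Subgroup.commutator_eq_bot_iff_le_centralizer,
        Subgroup.map_le_iff_le_comap]
      intro z hz
      refine OddOrder.mem_of_forall_primePart fun t ht _ u hu ⟨k, hk⟩ => ?_
      haveI := Fact.mk ht
      have hzF : z ∈ Cfsg.fittingSubgroup G := hD (by
        rw [commutator_def]; exact Subgroup.commutator_mono le_top le_top hz)
      have hut : u ∈ Cfsg.pCore t G :=
        Subnormal.mem_pCore_of_mem_fittingSubgroup (Subgroup.zpowers_le.2 hzF hu) hk
      show f u ∈ Subgroup.centralizer ((C.map f : Subgroup (G ⧸ N)) : Set (G ⧸ N))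
      refine Subgroup.mem_centralizer_iff.2 ?_
      rintro _ ⟨c, hc, rfl⟩
      by_cases htp : t ≤ p
      · rw [← map_mul, ← map_mul, Subgroup.mem_centralizer_iff.1
          (Subgroup.mem_iInf.1 (Subgroup.mem_iInf.1 hc t) ⟨ht, htp⟩) u hut]
      · have huN : u ∈ N := (show Cfsg.pCore t G ≤ Cfsg.piCore π G from le_sSup
          ⟨PCore.pCore_normal, fun l hl hdl => ⟨hl, by
            obtain ⟨j, hj⟩ := (PCore.isPGroup_pCore (p := t) (G := G)).exists_card_eq
            rw [(Nat.prime_dvd_prime_iff_eq hl ht).1 (hl.dvd_of_dvd_pow (hj ▸ hdl))]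
            omega⟩⟩) hut
        rw [show f u = 1 from (QuotientGroup.eq_one_iff u).2 huN, one_mul, mul_one]
    have hKN : (Cfsg.pCore r (G ⧸ N)).comap f ≤ N := by
      refine le_sSup ⟨(inferInstance : ((Cfsg.pCore r (G ⧸ N)).comap f).Normal), fun l hl hdl => ?_⟩
      have hd' := hdl.trans (PCore.card_comap_dvd f (Cfsg.pCore r (G ⧸ N)))
      rw [QuotientGroup.ker_mk'] at hd'
      rcases hl.dvd_mul.1 hd' with h | h
      · exact hNπ l hl h
      · obtain ⟨j, hj⟩ := (PCore.isPGroup_pCore (p := r) (G := G ⧸ N)).exists_card_eq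
        rw [(Nat.prime_dvd_prime_iff_eq hl hr).1 (hl.dvd_of_dvd_pow (hj ▸ h))]
        exact hrπ
    intro x hx
    obtain ⟨k, hk⟩ := S.2 ⟨x, hx⟩
    have hk' : x ^ r ^ k = 1 := congrArg Subtype.val hk
    have hxC : x ∈ C := Subgroup.mem_iInf.2 fun q => Subgroup.mem_iInf.2 fun hq => by
      haveI := Fact.mk hq.1
      exact mem_centralizer_of_lt hodd hr (lt_of_le_of_lt hq.2 hrπ.2) _ PCore.isPGroup_pCore (hrk q hq.1) hk'
    refine hKN (Subnormal.mem_pCore_of_mem_fittingSubgroup (k := k)
      (Components.le_fittingSubgroup (hCn.map f hsurj) ⟨x, hxC, rfl⟩) ?_)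
    rw [← map_pow, hk', map_one]

end Cfsg.Agent.S1451
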