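import Cfsg.Statements.S1415
import Cfsg.Agent.S1451
import Cfsg.Agent.Lib.OddOrder.SigmaCore
-- import your own Cfsg.Agent.* helpers here

set_option autoImplicit false
open Cfsg
open scoped Pointwise commutatorElement

namespace Cfsg.Agent.S1415

/-- Let G be a minimal simple group of odd order, M a maximal subgroup and E a complement to M_σ in M. Then the derived subgroup E' is nilpotent; every Hall τ₁(M)-subgroup of E is cyclic; and every Hall τ₃(M)-subgroup E₃ of E is cyclic, contained in E' and normal in E. -/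
theorem result {G : Type*} [Group G] [Finite G] (hG : Cfsg.IsMinSimpleOddOrder G)
    (M : Subgroup G) (hM : IsCoatom M) (E : Subgroup G) (hE : Cfsg.IsComplIn E (Cfsg.sigmaCore M) M) :
    Group.IsNilpotent ↥⁅E, E⁆ ∧
      (∀ E₁ : Subgroup G, Cfsg.IsPiHallOf (Cfsg.tau1 M) E₁ E → IsCyclic E₁) ∧
      ∀ E₃ : Subgroup G, Cfsg.IsPiHallOf (Cfsg.tau3 M) E₃ E → IsCyclic E₃ ∧ E₃ ≤ ⁅E, E⁆ ∧ E ≤ Subgroup.normalizer (E₃ : Set G) := by
  haveI := Cfsg.Agent.OddOrder.isSolvable_of_coatom hG hM
  have hEM := hE.1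
  haveI : Group.IsSolvable E := Cfsg.Agent.Coprime.isSolvable_of_le hEM inferInstance
  have hoddE : Odd (Nat.card E) := hG.1.of_dvd_nat (Subgroup.card_subgroup_dvd_card E)
  obtain ⟨hnil, -, -⟩ := S1451.result hoddE (Or.inl (Cfsg.Agent.OddOrder.rankLE_of_compl hG hM hE))
  have hEE : (_root_.commutator E).map E.subtype = ⁅E, E⁆ := Subgroup.map_subtype_commutator E
  have hnilE : Group.IsNilpotent ↥⁅E, E⁆ := by
    haveI := hnil
    rw [← hEE]
    exact Group.nilpotent_of_surjective _ (E.subtype.subgroupMap_surjective (_root_.commutator E))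
  have hns : ∀ p : ℕ, p.Prime → p ∣ Nat.card E → p ∉ Cfsg.sigma M :=
    fun p hp hd => Cfsg.Agent.OddOrder.not_mem_sigma_of_compl hG hM hE hp hd
  -- Sylow subgroups for primes of rank one are cyclic
  have hcyc : ∀ (p : ℕ) [Fact p.Prime] (X : Subgroup G), X ≤ E → IsPGroup p X → Cfsg.PRankLE p 1 M →
      IsCyclic X := fun p _ X hX hXp hr => by
    rcases eq_or_ne X ⊥ with h | h
    · rw [h]; exact isCyclic_of_subsingleton
    refine Cfsg.Agent.IsolatedP.isCyclic_of_pRankLE_one ?_ hXp
      (Cfsg.Agent.OddOrder.pRankLE_of_injective (f := Subgroup.inclusion (hX.trans hEM))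
        (Subgroup.inclusion_injective _) hr)
    obtain ⟨j, hj⟩ := hXp.exists_card_eq
    have hj0 : j ≠ 0 := fun e => h (Subgroup.card_eq_one.1 (by rw [hj, e, pow_zero]))
    exact Cfsg.Agent.OddOrder.ne_two_of_odd_of_dvd hG.1
      ((hj ▸ dvd_pow_self p hj0).trans (Subgroup.card_subgroup_dvd_card X))
  have hZ : ∀ (E₁ : Subgroup G), E₁ ≤ E → (∀ p : ℕ, p.Prime → p ∣ Nat.card E₁ → Cfsg.PRankLE p 1 M) →
      IsZGroup E₁ := fun E₁ h1 h2 => by
    rw [isZGroup_iff]
    intro p hp S
    haveI := Fact.mk hp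
    by_cases hd : p ∣ Nat.card E₁
    · haveI := hcyc p ((S : Subgroup E₁).map E₁.subtype) ((Subgroup.map_subtype_le _).trans h1)
        (S.2.map _) (h2 p hp hd)
      exact isCyclic_of_surjective
        ((S : Subgroup E₁).equivMapOfInjective E₁.subtype E₁.subtype_injective).symm.toMonoidHom
        (MulEquiv.surjective _)
    · have : (S : Subgroup E₁) = ⊥ := Cfsg.Agent.PCore.eq_bot_of_isPGroup_of_coprime S.2
        ((hp.coprime_iff_not_dvd.2 fun hd' => hd (hd'.trans (S : Subgroup E₁).card_subgroup_dvd_card)).symm)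
      show IsCyclic (S : Subgroup E₁)
      rw [this]
      infer_instance
  have hEM' : ⁅E, E⁆ ≤ ⁅M, M⁆ := Subgroup.commutator_mono hEM hEM
  refine ⟨hnilE, fun E₁ hE₁ => ?_, fun E₃ hE₃ => ?_⟩
  · obtain ⟨h1, h2, -⟩ := hE₁
    haveI := hZ E₁ h1 fun p hp hd => (h2 p hp hd).2.2.2.2
    have hab : ∀ a b : E₁, a * b = b * a := fun a b => by
      have hc : ⁅a, b⁆ = 1 := by
        by_contra hne
        obtain ⟨l, hl, hld⟩ := Nat.exists_prime_and_dvd (n := orderOf (⁅a, b⁆ : E₁))
          (fun h => hne (orderOf_eq_one_iff.1 h))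
        have hmem : ((⁅a, b⁆ : E₁) : G) ∈ ⁅M, M⁆ := hEM'
          (Subgroup.commutator_mem_commutator (h1 a.2) (h1 b.2))
        rw [← Subgroup.orderOf_coe] at hld
        exact (h2 l hl (hld.trans (Subgroup.orderOf_dvd_natCard _ (SetLike.coe_mem _)))).2.2.2.1
          (hld.trans (Subgroup.orderOf_dvd_natCard _ hmem))
      exact commutatorElement_eq_one_iff_mul_comm.1 hc
    haveI : IsMulCommutative E₁ := ⟨⟨hab⟩⟩
    open scoped IsMulCommutative in
    haveI : Group.IsNilpotent E₁ := CommGroup.isNilpotent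
    infer_instance
  · obtain ⟨h1, h2, h3⟩ := hE₃
    haveI := hZ E₃ h1 fun p hp hd => (h2 p hp hd).2.2.2
    set C := _root_.commutator E with hC
    -- primes of `τ₃` do not divide `[E : E']`
    have hidx : ∀ p : ℕ, p ∈ Cfsg.tau3 M → p ∣ Nat.card E → ¬ p ∣ C.index := by
      rintro p ⟨hp, hps, hpM', hr⟩ hpE
      haveI := Fact.mk hp
      have hpC : p ∣ Nat.card C := by
        by_contra hnd
        haveI := Cfsg.Agent.OddOrder.sigmaCore_normal_subgroupOf (M := M)
        have hMσ : M ≤ Subgroup.normalizer ((Cfsg.sigmaCore M : Subgroup G) : Set G) :=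
          (Subgroup.normal_subgroupOf_iff_le_normalizer (Subgroup.map_subtype_le _)).1
            Cfsg.Agent.OddOrder.sigmaCore_normal_subgroupOf
        have hle : ⁅M, M⁆ ≤ ⁅E, E⁆ ⊔ Cfsg.sigmaCore M := by
          haveI := Cfsg.Agent.Coprime.normal_subgroupOf_of_le_normalizer hMσ
          set K := (Cfsg.sigmaCore M).subgroupOf M
          set π := QuotientGroup.mk' K
          refine Subgroup.commutator_le.2 fun g hg g' hg' => ?_
          obtain ⟨e, he, k, hk, rfl⟩ := hE.2.2.2 g hg
          obtain ⟨e', he', k', hk', rfl⟩ := hE.2.2.2 g' hg'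
          have heq : ∀ {a b : G} (ha : a * b ∈ M) (hb : b ∈ Cfsg.sigmaCore M) (haM : a ∈ M),
              π ⟨a * b, ha⟩ = π ⟨a, haM⟩ := fun {a b} ha hb haM => by
            refine (QuotientGroup.eq).2 ?_
            show (a * b)⁻¹ * a ∈ Cfsg.sigmaCore M
            simpa using (Cfsg.sigmaCore M).inv_mem hb
          have h4 : π ⁅(⟨e * k, hg⟩ : M), ⟨e' * k', hg'⟩⁆ = π ⁅(⟨e, hEM he⟩ : M), ⟨e', hEM he'⟩⁆ := by
            rw [map_commutatorElement, map_commutatorElement, heq hg hk (hEM he), heq hg' hk' (hEM he')]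
          have h5 := (QuotientGroup.eq).1 h4.symm
          have h6 : (⁅e, e'⁆)⁻¹ * ⁅e * k, e' * k'⁆ ∈ Cfsg.sigmaCore M := by
            have h7 : ((⁅(⟨e, hEM he⟩ : M), ⟨e', hEM he'⟩⁆⁻¹ * ⁅(⟨e * k, hg⟩ : M), ⟨e' * k', hg'⟩⁆ : M) : G)
              ∈ Cfsg.sigmaCore M := h5
            simpa [commutatorElement_def] using h7
          have := mul_mem (Subgroup.mem_sup_left (T := Cfsg.sigmaCore M)
            (Subgroup.commutator_mem_commutator he he')) (Subgroup.mem_sup_right (S := ⁅E, E⁆) h6)
          rwa [mul_inv_cancel_left] at this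
        have hcard : Nat.card ↥(⁅E, E⁆ ⊔ Cfsg.sigmaCore M) ∣ Nat.card C * Nat.card (Cfsg.sigmaCore M) := by
          rw [Cfsg.Agent.Coprime.card_sup_of_le_normalizer (((Subgroup.commutator_le_self E).trans hEM).trans hMσ)
            (le_bot_iff.1 (hE.2.2.1 ▸ inf_le_inf_right _ (Subgroup.commutator_le_self E))),
            ← hEE, Subgroup.card_map_of_injective E.subtype_injective]
        rcases hp.dvd_mul.1 (hpM'.trans ((Subgroup.card_dvd_of_le hle).trans hcard)) with h | h
        · exact hnd h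
        · exact hps ((Cfsg.Agent.OddOrder.sigmaCore_isPiHall hG hM).1 p hp h)
      obtain ⟨S⟩ : Nonempty (Sylow p E) := inferInstance
      haveI := hcyc p ((S : Subgroup E).map E.subtype) (Subgroup.map_subtype_le _) (S.2.map _) hr
      haveI : IsCyclic (S : Subgroup E) := isCyclic_of_surjective
        ((S : Subgroup E).equivMapOfInjective E.subtype E.subtype_injective).symm.toMonoidHom
        (MulEquiv.surjective _)
      exact (Sylow.not_dvd_card_commutator_or_not_dvd_index_commutator S).resolve_left (not_not.2 hpC)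
    have hle : E₃ ≤ ⁅E, E⁆ := by
      set X := E₃.subgroupOf E with hX
      have hXC : X ≤ C := by
        have hcop : (Nat.card X).Coprime C.index := Nat.coprime_of_dvd fun l hl hl1 hl2 => by
          have hl3 : l ∣ Nat.card E₃ := by rwa [hX, Cfsg.Agent.Coprime.card_subgroupOf h1] at hl1
          exact hidx l (h2 l hl hl3) (hl3.trans (Subgroup.card_dvd_of_le h1)) hl2
        intro y hy
        have h4 : orderOf (QuotientGroup.mk' C y) ∣ C.index := by
          rw [Subgroup.index_eq_card]; exact orderOf_dvd_natCard _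
        have h5 : orderOf (QuotientGroup.mk' C y) ∣ Nat.card X :=
          (orderOf_map_dvd _ y).trans (Subgroup.orderOf_dvd_natCard _ hy)
        exact (QuotientGroup.eq_one_iff y).1
          (orderOf_eq_one_iff.1 (Nat.eq_one_of_dvd_coprimes hcop h5 h4))
      intro y hy
      rw [← hEE]
      exact ⟨⟨y, h1 hy⟩, hXC hy, rfl⟩
    haveI := hnilE
    haveI : Group.IsNilpotent E₃ :=
      Group.nilpotent_of_mulEquiv (Subgroup.subgroupOfEquivOfLe hle)
    refine ⟨inferInstance, hle, fun g hg => ?_⟩
    -- Hall subgroups of the nilpotent group `E'` are normal in `E`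
    set D := ⁅E, E⁆ with hD
    have htfae : ∀ (l : ℕ) (_hl : Fact l.Prime) (T : Sylow l D), (T : Subgroup D).Normal := by
      have h : Group.IsNilpotent D ↔ ∀ (l : ℕ) (_hl : Fact l.Prime) (T : Sylow l D), (T : Subgroup D).Normal :=
        (Group.isNilpotent_of_finite_tfae (G := D)).out 0 3
      exact h.1 hnilE
    have hsyl : ∀ p : ℕ, ∀ _ : Fact p.Prime, ∀ T : Sylow p D, p ∈ Cfsg.tau3 M →
        (T : Subgroup D).map D.subtype ≤ E₃ := by
      intro p _ T hpt y hy
      have hnS : ∀ (l : ℕ) [Fact l.Prime] (T : Sylow l D), (T : Subgroup D).Normal := fun l _ T =>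
        htfae l inferInstance T
      obtain ⟨S⟩ : Nonempty (Sylow p E₃) := inferInstance
      set S' := (S : Subgroup E₃).map E₃.subtype
      have hS'E : S' ≤ D := (Subgroup.map_subtype_le _).trans hle
      obtain ⟨U, hU⟩ := ((S.2.map E₃.subtype : IsPGroup p S').comap_of_injective D.subtype
        D.subtype_injective).exists_le_sylow
      haveI := hnS p U
      haveI := Sylow.unique_of_normal U inferInstance
      have hTU : T = U := Subsingleton.elim _ _
      subst hTU
      suffices hle2 : (T : Subgroup D).map D.subtype ≤ S' from Subgroup.map_subtype_le _ (hle2 hy)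
      refine (Subgroup.eq_of_le_of_card_ge ((Subgroup.map_subgroupOf_eq_of_le hS'E).ge.trans
        (Subgroup.map_mono hU)) ?_).ge
      have hd : p ^ (Nat.card D).factorization p ∣ Nat.card E₃ * E₃.relIndex E := by
        have h4 : Nat.card E₃ * E₃.relIndex E = Nat.card E := by
          rw [Subgroup.relIndex, ← Cfsg.Agent.Coprime.card_subgroupOf h1, Subgroup.card_mul_index]
        rw [h4]
        exact (Nat.ordProj_dvd _ p).trans (Subgroup.card_dvd_of_le (Subgroup.commutator_le_self E))
      have h5 : p ^ (Nat.card D).factorization p ∣ Nat.card E₃ :=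
        Nat.Coprime.dvd_of_dvd_mul_right (((Fact.out : p.Prime).coprime_iff_not_dvd.2
          (h3 p Fact.out hpt)).pow_left _) hd
      rw [Subgroup.card_map_of_injective D.subtype_injective, T.card_eq_multiplicity,
        Subgroup.card_map_of_injective E₃.subtype_injective, S.card_eq_multiplicity]
      exact Nat.pow_le_pow_right (Fact.out : p.Prime).pos
        (((Fact.out : p.Prime).pow_dvd_iff_le_factorization Nat.card_pos.ne').1 h5)
    have hgD : g ∈ Subgroup.normalizer (D : Set G) := Subgroup.normalizer_commutator_ge_left E E hg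
    refine Cfsg.Agent.Coprime.mem_normalizer_of_conj_smul_eq ?_
    suffices h : Nat.card E₃ ∣ Nat.card ↥(E₃ ⊓ MulAut.conj g • E₃) by
      refine (Subgroup.eq_of_le_of_card_ge ?_ (Cfsg.Agent.Coprime.card_conj_smul g E₃).le).symm
      exact (Subgroup.eq_of_le_of_card_ge inf_le_left (Nat.le_of_dvd Nat.card_pos h)).ge.trans inf_le_right
    rw [Nat.dvd_iff_prime_pow_dvd_dvd]
    intro p k hp hk
    haveI := Fact.mk hp
    rcases Nat.eq_zero_or_pos k with rfl | hk0
    · simp
    have hpt : p ∈ Cfsg.tau3 M := h2 p hp ((dvd_pow_self p hk0.ne').trans hk)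
    obtain ⟨T⟩ : Nonempty (Sylow p D) := inferInstance
    haveI : (T : Subgroup D).Normal := htfae p inferInstance T
    haveI := T.characteristic_of_normal inferInstance
    set T' := (T : Subgroup D).map D.subtype
    have hgT : MulAut.conj g • T' = T' := Cfsg.Agent.Coprime.conj_smul_eq_self_of_mem
      (Cfsg.Agent.Components.normalizer_le_normalizer_map_of_characteristic _ _ hgD)
    have hT' : T' ≤ E₃ ⊓ MulAut.conj g • E₃ := le_inf (hsyl p inferInstance T hpt)
      (hgT.ge.trans (Subgroup.pointwise_smul_le_pointwise_smul_iff.2 (hsyl p inferInstance T hpt)))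
    refine dvd_trans ?_ (Subgroup.card_dvd_of_le hT')
    rw [Subgroup.card_map_of_injective D.subtype_injective, T.card_eq_multiplicity]
    exact Nat.pow_dvd_pow p ((hp.pow_dvd_iff_le_factorization Nat.card_pos.ne').1
      (hk.trans (Subgroup.card_dvd_of_le hle)))

end Cfsg.Agent.S1415
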