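import Cfsg.Statements.S0126
import Cfsg.Agent.Lib.PGroup.Basic
import Cfsg.Agent.Lib.PGroup.Class2
import Cfsg.Agent.Lib.PGroup.ElementaryAbelian

set_option autoImplicit false
open Cfsg

namespace Cfsg.Agent.S0126

universe u

open scoped commutatorElement in
theorem exists_normal {p : ℕ} [Fact p.Prime] (hp : p ≠ 2) : ∀ (n : ℕ) (R : Type u) [Group R] [Finite R],
    IsPGroup p R → Nat.card R ≤ n → ¬ IsCyclic R →
    ∃ A : Subgroup R, A.Normal ∧ Cfsg.IsElementaryAbelian p A ∧ Nat.card A = p ^ 2 := by
  intro n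
  induction n with
  | zero => intro R _ _ _ h _; exact absurd h (Nat.not_le.2 Nat.card_pos)
  | succ n ih =>
    intro R _ _ hR hn hnc
    have hp' : p.Prime := Fact.out
    have hne : (⊤ : Subgroup R) ≠ ⊥ := fun h => hnc (by
      haveI : Subsingleton R := subsingleton_of_forall_eq 1 fun x => Subgroup.mem_bot.1 (h ▸ Subgroup.mem_top x)
      infer_instance)
    obtain ⟨z, -, hzZ, hz⟩ := PGroup.exists_orderOf_eq_mem_center hR ⊤ hne
    set Z := Subgroup.zpowers z with hZ
    have hZp : Nat.card Z = p := by rw [Nat.card_zpowers, hz]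
    have hZc : Z ≤ Subgroup.center R := Subgroup.zpowers_le.2 hzZ
    haveI : Z.Normal := ⟨fun m hm g => by rwa [Subgroup.mem_center_iff.1 (hZc hm) g, mul_inv_cancel_right]⟩
    have hzpow : ∀ w ∈ Z, w ^ p = 1 := by
      intro w hw
      rw [← hZp]
      exact congrArg Subtype.val (pow_card_eq_one' (x := (⟨w, hw⟩ : Z)))
    let π := QuotientGroup.mk' Z
    by_cases hcy : IsCyclic (R ⧸ Z)
    · have hab : ∀ a b : R, a * b = b * a := commutative_of_cyclic_center_quotient π (by rw [QuotientGroup.ker_mk']; exact hZc)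
      obtain ⟨r', hr'⟩ := hcy.exists_generator
      obtain ⟨r, rfl⟩ := QuotientGroup.mk'_surjective Z r'
      have hgen : ∀ g : R, ∃ k : ℤ, (r ^ k)⁻¹ * g ∈ Z := by
        intro g
        obtain ⟨k, hk⟩ := Subgroup.mem_zpowers_iff.1 (hr' (π g))
        exact ⟨k, QuotientGroup.eq.1 (by rw [← QuotientGroup.mk'_apply, map_zpow, hk]; rfl)⟩
      have hzr : z ∉ Subgroup.zpowers r := by
        intro h
        apply hnc
        refine ⟨⟨r, fun g => ?_⟩⟩
        obtain ⟨k, hk⟩ := hgen g
        have h2 := mul_mem (zpow_mem (Subgroup.mem_zpowers r) k) ((Subgroup.zpowers_le.2 h) hk)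
        rwa [mul_inv_cancel_left] at h2
      have hr1 : r ≠ 1 := by
        rintro rfl
        apply hnc
        refine ⟨⟨z, fun g => ?_⟩⟩
        obtain ⟨k, hk⟩ := hgen g
        rwa [one_zpow, inv_one, one_mul] at hk
      haveI : Nontrivial (Subgroup.zpowers r) := ⟨⟨⟨r, Subgroup.mem_zpowers r⟩, 1, fun h => hr1 (congrArg Subtype.val h)⟩⟩
      have hd : p ∣ Nat.card (Subgroup.zpowers r) := by
        obtain ⟨j, hj⟩ := (hR.to_subgroup (Subgroup.zpowers r)).exists_card_eq
        have h1 : 1 < Nat.card (Subgroup.zpowers r) := Finite.one_lt_card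
        rcases j with _ | j
        · rw [hj, pow_zero] at h1; omega
        · rw [hj]; exact dvd_pow_self p (Nat.succ_ne_zero j)
      obtain ⟨w, hw⟩ := exists_prime_orderOf_dvd_card' p hd
      have hwZ : (w : R) ∉ Z := by
        intro h
        apply hzr
        have h2 : Subgroup.zpowers (w : R) = Z := by
          apply Subgroup.eq_of_le_of_card_ge (Subgroup.zpowers_le.2 h)
          rw [hZp, Nat.card_zpowers, Subgroup.orderOf_coe, hw]
        exact (Subgroup.zpowers_le.2 w.2) (h2 ▸ Subgroup.mem_zpowers z : z ∈ Subgroup.zpowers (w : R))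
      have hwp : (w : R) ^ p = 1 := by rw [← hw, ← Subgroup.orderOf_coe, pow_orderOf_eq_one]
      refine ⟨Z ⊔ Subgroup.zpowers (w : R), ⟨fun m hm g => by rwa [hab g m, mul_inv_cancel_right]⟩, ?_, ?_⟩
      · exact PGroup.isElementaryAbelian_sup
          (PGroup.isElementaryAbelian_of_forall (fun a _ b _ => hab a b) hzpow)
          (PGroup.isElementaryAbelian_zpowers hwp) (fun a _ b _ => hab a b)
      · rw [PGroup.card_sup_zpowers Z hwZ (by rw [hwp]; exact one_mem _), hZp, sq]
    · have hlt : Nat.card (R ⧸ Z) ≤ n := by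
        have h1 := Z.card_mul_index
        rw [hZp] at h1
        have h2 : 0 < Z.index := Nat.pos_of_ne_zero Subgroup.FiniteIndex.index_ne_zero
        have h3 : Z.index < p * Z.index := lt_mul_of_one_lt_left h2 hp'.one_lt
        change Z.index ≤ n
        omega
      obtain ⟨A', hA'n, hA', hA'c⟩ := ih (R ⧸ Z) (hR.to_quotient Z) hlt hcy
      set N := A'.comap π with hN
      haveI : N.Normal := hA'n.comap π
      have hc : ∀ a ∈ N, ∀ b ∈ N, ⁅b, a⁆ ∈ Z := by
        intro a ha b hb
        rw [← QuotientGroup.eq_one_iff]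
        show π ⁅b, a⁆ = 1
        rw [map_commutatorElement]
        exact commutatorElement_eq_one_iff_mul_comm.2 (congrArg Subtype.val (hA'.1.is_comm.comm ⟨π b, hb⟩ ⟨π a, ha⟩))
      letI : CommGroup Z := { (inferInstance : Group Z) with mul_comm := fun a b => Subtype.ext (Subgroup.mem_center_iff.1 (hZc b.2) a) }
      let f : N →* Z :=
        { toFun := fun x => ⟨(x : R) ^ p, (QuotientGroup.eq_one_iff _).1 (by
            show π ((x : R) ^ p) = 1
            rw [map_pow]; exact hA'.2 _ x.2)⟩
          map_one' := Subtype.ext (by simp)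
          map_mul' := fun x y => Subtype.ext (PGroup.mul_pow_prime hp' hp (hZc (hc _ x.2 _ y.2)) (hzpow _ (hc _ x.2 _ y.2))) }
      set K := f.ker.map N.subtype with hK
      have hKN : K ≤ N := Subgroup.map_subtype_le _
      have hKp : ∀ x ∈ K, x ^ p = 1 := by
        rintro _ ⟨x, hx, rfl⟩
        exact congrArg Subtype.val hx
      have hZK : Z ≤ K := by
        intro w hw
        have hwN : w ∈ N := by
          rw [hN, Subgroup.mem_comap, show π w = 1 from (QuotientGroup.eq_one_iff w).2 hw]
          exact one_mem _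
        exact ⟨⟨w, hwN⟩, Subtype.ext (hzpow w hw), rfl⟩
      haveI : K.Normal := ⟨fun m hm g => by
        have hgm : g * m * g⁻¹ ∈ N := (inferInstance : N.Normal).conj_mem m (hKN hm) g
        refine ⟨⟨_, hgm⟩, Subtype.ext ?_, rfl⟩
        show (g * m * g⁻¹) ^ p = 1
        rw [conj_pow, hKp m hm, mul_one, mul_inv_cancel]⟩
      have hZK' : Z < K := by
        refine lt_of_le_of_ne hZK fun heq => ?_
        have hNcard : Nat.card N = p ^ 3 := by
          have hZN : Z ≤ N := hZK.trans hKN
          have h4 : Z.relIndex N = p ^ 2 := by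
            rw [← hA'c, ← Subgroup.map_comap_eq_self_of_surjective (QuotientGroup.mk'_surjective Z) A', ← hN, ← Subgroup.relIndex_ker, QuotientGroup.ker_mk']
          have h5 := Subgroup.relIndex_mul_relIndex (⊥ : Subgroup R) Z N bot_le hZN
          rw [Subgroup.relIndex_bot_left, Subgroup.relIndex_bot_left, hZp, h4] at h5
          rw [← h5, pow_succ' p 2]
        have h6 := f.ker.card_mul_index
        rw [Subgroup.index_ker, hNcard] at h6
        have h7 : Nat.card f.ker = p := by
          rw [Nat.card_congr (f.ker.equivMapOfInjective N.subtype Subtype.coe_injective).toEquiv, ← hK, ← heq, hZp]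
        have h8 : Nat.card f.range ≤ p := hZp ▸ Subgroup.card_le_card_group _
        rw [h7] at h6
        have h9 : p ^ 3 ≤ p * p := h6 ▸ Nat.mul_le_mul_left p h8
        have : p ^ 2 < p ^ 3 := Nat.pow_lt_pow_right hp'.one_lt (by norm_num)
        rw [← sq] at h9
        omega
      obtain ⟨L, hLn, -, hLK, hLc⟩ := PGroup.exists_normal_step hR Z K hZK'
      have hLc' : Nat.card L = p ^ 2 := by rw [hLc, hZp, sq]
      exact ⟨L, hLn, ⟨IsPGroup.isMulCommutative_of_card_eq_prime_sq hLc', fun x hx => hKp x (hLK hx)⟩, hLc'⟩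


/-- For odd p, every non-cyclic p-group contains a normal elementary abelian subgroup of order p^2. -/
theorem result {R : Type*} [Group R] [Finite R] {p : ℕ} [Fact p.Prime] (hp : p ≠ 2) (hR : IsPGroup p R) (hnc : ¬ IsCyclic R) : ∃ A : Subgroup R, A.Normal ∧ Cfsg.IsElementaryAbelian p A ∧ Nat.card A = p ^ 2 := by
  exact exists_normal hp (Nat.card R) R hR le_rfl hnc

end Cfsg.Agent.S0126
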