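import Cfsg.Statements.S1337
import Cfsg.Agent.S0126
import Cfsg.Agent.Lib.Invol.NormalFour
import Cfsg.Agent.Lib.PGroup.ElementaryAbelian

set_option autoImplicit false
open Cfsg

namespace Cfsg.Agent.S1337

variable {P : Type*} [Group P] [Finite P] {p : ℕ} [Fact p.Prime]

/-- The centraliser of a normal subgroup of order `p²` has index at most `p`. -/
theorem card_le_mul_inf_centralizer (hP : IsPGroup p P) (U : Subgroup P) [U.Normal]
    (hUc : Nat.card ↥U = p ^ 2) (F : Subgroup P) :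
    Nat.card ↥F ≤ p * Nat.card ↥(F ⊓ Subgroup.centralizer (U : Set P)) := by
  have hp := Fact.out (p := p.Prime)
  have hUne : U ≠ ⊥ := fun h => by
    rw [h, Subgroup.card_bot] at hUc
    have := Nat.pow_left_injective (n := 2) two_ne_zero (show p ^ 2 = 1 ^ 2 by rw [← hUc, one_pow])
    exact hp.ne_one this
  obtain ⟨z, hzU, hzc, hzo⟩ := PGroup.exists_orderOf_eq_mem_center hP U hUne
  have hzle : Subgroup.zpowers z ≤ U := Subgroup.zpowers_le.mpr hzU
  have hzn : (Subgroup.zpowers z).Normal := ⟨fun w hw g => by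
    rw [Subgroup.mem_center_iff.mp (Subgroup.zpowers_le.mpr hzc hw) g, mul_inv_cancel_right]
    exact hw⟩
  obtain ⟨u, huU, huz⟩ : ∃ u ∈ U, u ∉ Subgroup.zpowers z := by
    by_contra hh
    push Not at hh
    have h1 := Subgroup.card_le_of_le (show U ≤ Subgroup.zpowers z from hh)
    rw [hUc, Nat.card_zpowers, hzo, sq] at h1
    nlinarith [hp.two_le]
  set K := ⁅U, (⊤ : Subgroup P)⁆ with hK
  have hKlt : K < U := PGroup.commutator_top_lt hP U hUne
  have hKc : Nat.card ↥K ≤ p := by
    obtain ⟨k, hk⟩ := PGroup.card_eq_pow hP K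
    have h1 : Nat.card ↥K ≤ Nat.card ↥U := Subgroup.card_le_of_le hKlt.le
    have h2 : Nat.card ↥K ≠ Nat.card ↥U := fun h => hKlt.ne (Subgroup.eq_of_le_of_card_ge hKlt.le h.ge)
    rw [hk, hUc] at h1 h2
    rw [hk]
    have : k < 2 := lt_of_le_of_ne ((Nat.pow_le_pow_iff_right hp.one_lt).mp h1) fun h => h2 (by rw [h])
    calc p ^ k ≤ p ^ 1 := Nat.pow_le_pow_right hp.pos (by omega)
      _ = p := pow_one p
  have hgen : Subgroup.zpowers z ⊔ Subgroup.zpowers u = U := by
    refine Subgroup.eq_of_le_of_card_ge (sup_le hzle (Subgroup.zpowers_le.mpr huU)) ?_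
    obtain ⟨k, hk⟩ := PGroup.card_eq_pow hP (Subgroup.zpowers z ⊔ Subgroup.zpowers u)
    have hlt : Subgroup.zpowers z < Subgroup.zpowers z ⊔ Subgroup.zpowers u :=
      left_lt_sup.mpr fun h => huz (h (Subgroup.mem_zpowers u))
    have h1 : Nat.card ↥(Subgroup.zpowers z) ≤ Nat.card ↥(Subgroup.zpowers z ⊔ Subgroup.zpowers u) :=
      Subgroup.card_le_of_le hlt.le
    have h2 : Nat.card ↥(Subgroup.zpowers z) ≠ Nat.card ↥(Subgroup.zpowers z ⊔ Subgroup.zpowers u) :=
      fun h => hlt.ne (Subgroup.eq_of_le_of_card_ge hlt.le h.ge)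
    rw [Nat.card_zpowers, hzo, hk] at h1 h2
    rw [hUc, hk]
    refine Nat.pow_le_pow_right hp.pos ?_
    by_contra hh
    interval_cases k <;> simp_all [hp.one_lt.not_ge]
  set C := (F ⊓ Subgroup.centralizer (U : Set P)).subgroupOf F with hC
  have hmem : ∀ f : P, f * u * f⁻¹ * u⁻¹ ∈ K := fun f => by
    have h1 : u * f * u⁻¹ * f⁻¹ ∈ K := Subgroup.commutator_mem_commutator huU (Subgroup.mem_top f)
    have h2 := inv_mem h1
    rwa [show (u * f * u⁻¹ * f⁻¹)⁻¹ = f * u * f⁻¹ * u⁻¹ by group] at h2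
  have hidx : C.index ≤ p := by
    rw [Subgroup.index_eq_card]
    refine le_trans (Nat.card_le_card_of_injective
      (fun q : ↥F ⧸ C => (⟨(q.out : P) * u * (q.out : P)⁻¹ * u⁻¹, hmem _⟩ : ↥K)) ?_) hKc
    intro q1 q2 h
    have he : (q1.out : P) * u * (q1.out : P)⁻¹ = (q2.out : P) * u * (q2.out : P)⁻¹ :=
      mul_right_cancel (congrArg Subtype.val h)
    rw [← QuotientGroup.out_eq' q1, ← QuotientGroup.out_eq' q2]
    refine QuotientGroup.eq.mpr (Subgroup.mem_subgroupOf.mpr ⟨Subtype.prop _, ?_⟩)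
    rw [← hgen]
    have hu : ((q1.out⁻¹ * q2.out : ↥F) : P) ∈ Subgroup.centralizer ({u} : Set P) := by
      rw [Subgroup.mem_centralizer_singleton_iff, Subgroup.coe_mul, Subgroup.coe_inv]
      calc (q1.out : P)⁻¹ * (q2.out : P) * u
          = (q1.out : P)⁻¹ * ((q2.out : P) * u * (q2.out : P)⁻¹) * (q2.out : P) := by group
        _ = (q1.out : P)⁻¹ * ((q1.out : P) * u * (q1.out : P)⁻¹) * (q2.out : P) := by rw [he]
        _ = u * ((q1.out : P)⁻¹ * (q2.out : P)) := by group
    have hle : Subgroup.zpowers z ⊔ Subgroup.zpowers u ≤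
        Subgroup.centralizer ({((q1.out⁻¹ * q2.out : ↥F) : P)} : Set P) :=
      sup_le (Subgroup.zpowers_le.mpr (Subgroup.mem_centralizer_singleton_iff.mpr
          (Subgroup.mem_center_iff.mp hzc _).symm))
        (Subgroup.zpowers_le.mpr (Subgroup.mem_centralizer_singleton_iff.mpr
          (Subgroup.mem_centralizer_singleton_iff.mp hu).symm))
    intro y hy
    exact Subgroup.mem_centralizer_singleton_iff.mp (hle hy)
  rw [← Subgroup.card_mul_index C, mul_comm,
    show Nat.card ↥C = Nat.card ↥(F ⊓ Subgroup.centralizer (U : Set P)) from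
      Nat.card_congr (Subgroup.subgroupOfEquivOfLe inf_le_left).toEquiv]
  exact Nat.mul_le_mul_right _ hidx

/-- `C(X)` has rank above 2 iff some elementary abelian group of order `≥ p³` contains `X`. -/
theorem not_rankLE_centralizer_iff {X : Subgroup P} (hX : IsElementaryAbelian p X) :
    ¬ Cfsg.PRankLE p 2 ↥(Subgroup.centralizer (X : Set P)) ↔
      ∃ F : Subgroup P, IsElementaryAbelian p F ∧ X ≤ F ∧ p ^ 2 < Nat.card ↥F := by
  constructor
  · intro h
    rw [Cfsg.PRankLE] at h
    push Not at h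
    obtain ⟨E, hEc, hEp, hEcard⟩ := h
    have hE' : IsElementaryAbelian p (E.map (Subgroup.centralizer (X : Set P)).subtype) :=
      PGroup.isElementaryAbelian_map ⟨hEc, hEp⟩ _
    refine ⟨X ⊔ E.map (Subgroup.centralizer (X : Set P)).subtype,
      PGroup.isElementaryAbelian_sup hX hE' ?_, le_sup_left, lt_of_lt_of_le ?_
        (Subgroup.card_le_of_le le_sup_right)⟩
    · rintro a ha _ ⟨e, -, rfl⟩
      exact Subgroup.mem_centralizer_iff.mp e.2 a ha
    · rwa [Subgroup.card_map_of_injective Subtype.val_injective]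
  · rintro ⟨F, hF, hXF, hFc⟩ h
    have hFle : F ≤ Subgroup.centralizer (X : Set P) := fun f hf x hx =>
      PGroup.mul_comm_of_elementaryAbelian hF (hXF hx) hf
    have hF' : IsElementaryAbelian p (F.subgroupOf (Subgroup.centralizer (X : Set P))) :=
      PGroup.isElementaryAbelian_comap hF Subtype.val_injective
    have := h _ hF'.1 hF'.2
    rw [Nat.card_congr (Subgroup.subgroupOfEquivOfLe hFle).toEquiv] at this
    omega

theorem exists_normal_sq (hP : IsPGroup p P) (hrk : ¬ Cfsg.PRankLE p 2 P) :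
    ∃ U : Subgroup P, U.Normal ∧ IsElementaryAbelian p U ∧ Nat.card ↥U = p ^ 2 := by
  have hp := Fact.out (p := p.Prime)
  rw [Cfsg.PRankLE] at hrk
  push Not at hrk
  obtain ⟨E, hEc, hEp, hEcard⟩ := hrk
  by_cases hp2 : p = 2
  · subst hp2
    obtain ⟨k, hk⟩ := PGroup.card_eq_pow hP E
    have hk3 : 3 ≤ k := by
      rw [hk] at hEcard
      exact (Nat.pow_lt_pow_iff_right (by norm_num)).mp hEcard
    obtain ⟨E', hE'⟩ := Sylow.exists_subgroup_card_pow_prime (G := ↥E) 2 (n := 3)
      (by rw [hk]; exact Nat.pow_dvd_pow 2 hk3)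
    obtain ⟨U, hUn, hUc, hU⟩ := Invol.exists_normal_four hP (E'.map E.subtype)
      (by rw [Subgroup.card_map_of_injective Subtype.val_injective, hE']; norm_num)
      (by rintro _ ⟨e, -, rfl⟩; exact hEp _ e.2)
    refine ⟨U, hUn, PGroup.isElementaryAbelian_of_forall (fun a ha b hb => ?_) hU, by rw [hUc]; norm_num⟩
    have h1 := hU _ (mul_mem ha hb)
    rw [sq] at h1
    calc a * b = a * ((a * b) * (a * b)) * b := by rw [h1, mul_one]
      _ = (a * a) * (b * a) * (b * b) := by group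
      _ = b * a := by rw [← sq a, ← sq b, hU a ha, hU b hb, one_mul, mul_one]
  · refine S0126.result hp2 hP fun hcyc => ?_
    have : IsCyclic ↥E := inferInstance
    obtain ⟨g, hg⟩ := IsCyclic.exists_generator (α := ↥E)
    have h1 : orderOf g ∣ p := orderOf_dvd_of_pow_eq_one (Subtype.ext (hEp _ g.2))
    have h2 : orderOf g = Nat.card ↥E := orderOf_eq_card_of_forall_mem_zpowers hg
    have := Nat.le_of_dvd hp.pos (h2 ▸ h1)
    nlinarith [hp.two_le]

/-- Let P be a finite p-group of p-rank greater than 2. Then P has a normal elementary abelian subgroup U of order p², and for every elementary abelian X ≤ P with |X| ≥ p²: X is joined to U by a chain of pairwise commuting elementary abelian subgroups of order ≥ p² if and only if C_P(X) has p-rank greater than 2. -/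
theorem result {P : Type*} [Group P] [Finite P] (p : ℕ) [Fact p.Prime] (hP : IsPGroup p P) (hrk : ¬ Cfsg.PRankLE p 2 P) : ∃ U : Subgroup P, U.Normal ∧ Cfsg.IsElementaryAbelian p U ∧ Nat.card ↥U = p ^ 2 ∧ ∀ X : Subgroup P, Cfsg.IsElementaryAbelian p X → p ^ 2 ≤ Nat.card ↥X → (Relation.ReflTransGen (fun A B : Subgroup P => Cfsg.IsElementaryAbelian p A ∧ p ^ 2 ≤ Nat.card ↥A ∧ Cfsg.IsElementaryAbelian p B ∧ p ^ 2 ≤ Nat.card ↥B ∧ ∀ a ∈ A, ∀ b ∈ B, a * b = b * a) X U ↔ ¬ Cfsg.PRankLE p 2 ↥(Subgroup.centralizer (X : Set P))) := by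
  have hp := Fact.out (p := p.Prime)
  obtain ⟨U, hUn, hU, hUc⟩ := exists_normal_sq hP hrk
  -- inside every elementary abelian group of rank ≥ 3 there is a way to `U`
  have hbridge : ∀ F : Subgroup P, IsElementaryAbelian p F → p ^ 2 < Nat.card ↥F →
      p ^ 2 ≤ Nat.card ↥(F ⊓ Subgroup.centralizer (U : Set P)) := by
    intro F hF hFc
    obtain ⟨k, hk⟩ := PGroup.card_eq_pow hP F
    obtain ⟨j, hj⟩ := PGroup.card_eq_pow hP (F ⊓ Subgroup.centralizer (U : Set P))
    have h := card_le_mul_inf_centralizer hP U hUc F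
    rw [hk, hj, ← pow_succ'] at h
    rw [hk] at hFc
    have h1 := (Nat.pow_lt_pow_iff_right hp.one_lt).mp hFc
    have h2 := (Nat.pow_le_pow_iff_right hp.one_lt).mp h
    rw [hj]
    exact Nat.pow_le_pow_right hp.pos (by omega)
  have hinfU : ∀ F : Subgroup P, ∀ a ∈ F ⊓ Subgroup.centralizer (U : Set P), ∀ b ∈ U, a * b = b * a :=
    fun F a ha b hb => (Subgroup.mem_centralizer_iff.mp ha.2 b hb).symm
  -- `U` itself
  have hQU : ¬ Cfsg.PRankLE p 2 ↥(Subgroup.centralizer (U : Set P)) := by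
    rw [not_rankLE_centralizer_iff hU]
    rw [Cfsg.PRankLE] at hrk
    push Not at hrk
    obtain ⟨E, hEc, hEp, hEcard⟩ := hrk
    have hE : IsElementaryAbelian p E := ⟨hEc, hEp⟩
    by_cases hUE : U ≤ E
    · exact ⟨E, hE, hUE, hEcard⟩
    set D := E ⊓ Subgroup.centralizer (U : Set P) with hD
    refine ⟨U ⊔ D, PGroup.isElementaryAbelian_sup hU (PGroup.isElementaryAbelian_mono hE inf_le_left)
      (fun a ha b hb => (hinfU E b hb a ha).symm), le_sup_left, ?_⟩
    refine lt_of_le_of_lt (hbridge E hE hEcard) ?_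
    have hlt : D < U ⊔ D := right_lt_sup.mpr fun h => hUE (h.trans inf_le_left)
    exact lt_of_le_of_ne (Subgroup.card_le_of_le hlt.le)
      fun h => hlt.ne (Subgroup.eq_of_le_of_card_ge hlt.le h.ge)
  refine ⟨U, hUn, hU, hUc, fun X hX hXc => ⟨fun h => ?_, fun h => ?_⟩⟩
  · -- along a chain
    revert hX hXc
    induction h using Relation.ReflTransGen.head_induction_on with
    | refl => exact fun _ _ => hQU
    | @head A B hAB _ ih =>
      intro hA hAc
      obtain ⟨-, -, hB, hBc, hcomm⟩ := hAB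
      by_cases hEq : A = B
      · subst hEq; exact ih hB hBc
      rw [not_rankLE_centralizer_iff hA]
      refine ⟨A ⊔ B, PGroup.isElementaryAbelian_sup hA hB hcomm, le_sup_left, ?_⟩
      by_contra hle
      push Not at hle
      exact hEq ((Subgroup.eq_of_le_of_card_ge le_sup_left (hle.trans hAc)).trans
        (Subgroup.eq_of_le_of_card_ge le_sup_right (hle.trans hBc)).symm)
  · -- towards `U`
    obtain ⟨F, hF, hXF, hFc⟩ := (not_rankLE_centralizer_iff hX).mp h
    have hD := PGroup.isElementaryAbelian_mono hF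
      (inf_le_left : F ⊓ Subgroup.centralizer (U : Set P) ≤ F)
    refine Relation.ReflTransGen.head (b := F) ⟨hX, hXc, hF, hFc.le, fun a ha b hb =>
      PGroup.mul_comm_of_elementaryAbelian hF (hXF ha) hb⟩ ?_
    refine Relation.ReflTransGen.head (b := F ⊓ Subgroup.centralizer (U : Set P))
      ⟨hF, hFc.le, hD, hbridge F hF hFc, fun a ha b hb =>
        PGroup.mul_comm_of_elementaryAbelian hF ha hb.1⟩ ?_
    exact Relation.ReflTransGen.single ⟨hD, hbridge F hF hFc, hU, hUc.ge, hinfU F⟩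

end Cfsg.Agent.S1337
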