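import Cfsg.Statements.S1396
import Cfsg.Agent.Lib.OddOrder.TransitivityGeneral
import Cfsg.Agent.Lib.PCore.PSolvable

set_option autoImplicit false
open Cfsg

namespace Cfsg.Agent.S1396

/-- Let G be a minimal simple group of odd order, p a prime dividing the order of G and A an abelian p-subgroup. Suppose either (1) A consists exactly of the elements x of C_G(A) with x^p = 1, and every proper subgroup of G has p-length at most one, or (2) A is normal and self-centralizing in some Sylow p-subgroup of G and has rank at least 2. Then A satisfies the transitivity hypothesis. -/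
theorem result {G : Type*} [Group G] [Finite G] (hG : Cfsg.IsMinSimpleOddOrder G)
    (p : ℕ) [Fact p.Prime] (hp : p ∣ Nat.card G) (A : Subgroup G) (hAp : IsPGroup p A) (hAc : IsMulCommutative A)
    (h : (∀ x ∈ Subgroup.centralizer (A : Set G), x ^ p = 1 ↔ x ∈ A) ∧ (∀ H : Subgroup G, H ≠ ⊤ → Cfsg.PLengthLE p 1 H) ∨
      ∃ P : Sylow p G, Cfsg.IsSCN (P : Subgroup G) A ∧ ¬ Cfsg.PRankLE p 1 A) :
    Cfsg.TransitivityHypothesis A := by
  have hpp : p.Prime := Fact.out
  have hp2 : p ≠ 2 := by
    rintro rfl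
    exact Nat.not_even_iff_odd.mpr hG.1 (even_iff_two_dvd.mpr hp)
  have hA1 : A ≠ ⊥ := by
    rintro rfl
    rcases h with ⟨h1, -⟩ | ⟨P, -, h2⟩
    · obtain ⟨x, hx⟩ := exists_prime_orderOf_dvd_card' p hp
      have h := (h1 x (Subgroup.mem_centralizer_iff.mpr fun a ha => by simp [Subgroup.mem_bot.mp ha])).mp
        (hx ▸ pow_orderOf_eq_one x)
      rw [Subgroup.mem_bot] at h
      rw [h, orderOf_one] at hx
      exact hpp.ne_one hx.symm
    · refine h2 fun B _ _ => ?_
      have hB : Nat.card B = 1 := by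
        rw [Subgroup.card_eq_one]
        exact (Subgroup.eq_bot_iff_forall _).mpr fun b _ => Subsingleton.elim _ _
      rw [hB, pow_one]
      exact hpp.one_lt.le
  have hAtop : A ≠ ⊤ := by
    rintro rfl
    exact hG.2.2.1 ⟨⟨fun a b => congrArg Subtype.val
      (hAc.1.comm (⟨a, Subgroup.mem_top a⟩ : (⊤ : Subgroup G)) ⟨b, Subgroup.mem_top b⟩)⟩⟩
  have hsets : Cfsg.primesNotDvd (Nat.card A) = Cfsg.primesNotDvd p := by
    obtain ⟨k, hk⟩ := hAp.exists_card_eq
    have hk0 : k ≠ 0 := by
      rintro rfl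
      exact hA1 (Subgroup.card_eq_one.mp (by rw [hk, pow_zero]))
    ext r
    simp only [Cfsg.primesNotDvd, Set.mem_setOf_eq, hk]
    refine and_congr_right fun hr => not_congr ⟨fun h => hr.dvd_of_dvd_pow h, fun h => dvd_pow h hk0⟩
  refine ⟨hA1, hAtop, fun X hX hAX => ?_⟩
  rw [hsets]
  apply le_antisymm
  · refine sSup_le fun Y hY => ?_
    obtain ⟨hYX, hYπ, hYA⟩ := hY
    have hYp : (Nat.card Y).Coprime p := Cfsg.Agent.OddOrder.coprime_of_isPiGrp_primesNotDvd hYπ
    haveI : Group.IsSolvable X := hG.2.2.2 X hX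
    have hXc : Cfsg.IsPConstrained p X :=
      Cfsg.Agent.PCore.isPConstrained_of_isPSolvable Cfsg.Agent.PCore.isPSolvable_of_isSolvable
    rcases h with ⟨h1, h2⟩ | ⟨P, hPA, -⟩
    · have hsub : Y.subgroupOf X ≤ Cfsg.pPrimeCore p X := by
        refine Cfsg.Agent.OddOrder.le_pPrimeCore_of_pLength hp2 hXc (h2 X hX) (A := A.subgroupOf X)
          (hAp.comap_of_injective X.subtype X.subtype_injective) ?_ ?_ ?_
        · rwa [Nat.card_congr (Subgroup.subgroupOfEquivOfLe hYX).toEquiv]
        · intro a ha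
          exact Subgroup.mem_normalizer_iff.mpr fun w => Subgroup.mem_normalizer_iff.mp (hYA ha) w
        · intro x hx hxp
          refine (h1 x (Subgroup.mem_centralizer_iff.mpr fun a ha => ?_)).mp (congrArg Subtype.val hxp)
          exact congrArg Subtype.val (Subgroup.mem_centralizer_iff.mp hx ⟨a, hAX ha⟩
            (show (⟨a, hAX ha⟩ : X) ∈ A.subgroupOf X from ha))
      refine (Subgroup.map_subgroupOf_eq_of_le hYX).ge.trans ((Subgroup.map_mono hsub).trans
        (Cfsg.Agent.OddOrder.le_piCoreOf (Subgroup.map_subtype_le _) ?_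
          (Cfsg.Agent.OddOrder.isPiGrp_primesNotDvd ?_)))
      · rw [← Subgroup.normal_subgroupOf_iff_le_normalizer (Subgroup.map_subtype_le _)]
        have e : ((Cfsg.pPrimeCore p X).map X.subtype).subgroupOf X = Cfsg.pPrimeCore p X :=
          Subgroup.comap_map_eq_self_of_injective X.subtype_injective _
        rw [e]
        exact Cfsg.Agent.PCore.pPrimeCore_normal
      · rw [Subgroup.card_map_of_injective X.subtype_injective]
        exact Cfsg.Agent.PCore.coprime_card_pPrimeCore
    · obtain ⟨hAP, hPN, hPC⟩ := hPA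
      refine Cfsg.Agent.OddOrder.le_piCoreOf_of_full hXc hAp hAX hYX hYp hYA (fun h => absurd h hp2) ?_
      intro x hx hxp
      set N := Subgroup.normalizer (A : Set G)
      have hxN : x ∈ N := Subgroup.centralizer_le_normalizer _ hx
      obtain ⟨S, hS⟩ := (hxp.comap_of_injective N.subtype N.subtype_injective).exists_le_sylow
      obtain ⟨g, hg⟩ := MulAction.exists_smul_eq N (P.subtype hPN) S
      have hxS : (⟨x, hxN⟩ : N) ∈ (S : Subgroup N) := hS (Subgroup.mem_zpowers x)
      rw [← hg, Sylow.coe_subgroup_smul, Cfsg.Agent.Coprime.mem_conj_smul_iff] at hxS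
      have hy : (g : G)⁻¹ * x * (g : G) ∈ (P : Subgroup G) := hxS
      have hyC : (g : G)⁻¹ * x * (g : G) ∈ Subgroup.centralizer (A : Set G) := by
        refine Subgroup.mem_centralizer_iff.mpr fun b hb => ?_
        have h := Subgroup.mem_centralizer_iff.mp hx _ ((Subgroup.mem_normalizer_iff.mp g.2 b).mp hb)
        calc b * ((g : G)⁻¹ * x * g) = (g : G)⁻¹ * ((g : G) * b * (g : G)⁻¹ * x) * g := by group
          _ = (g : G)⁻¹ * (x * ((g : G) * b * (g : G)⁻¹)) * g := by rw [h]
          _ = (g : G)⁻¹ * x * g * b := by group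
      have hyA : (g : G)⁻¹ * x * (g : G) ∈ A := hPC ▸ ⟨hy, hyC⟩
      have := (Subgroup.mem_normalizer_iff.mp g.2 _).mp hyA
      simpa [mul_assoc] using this
  · exact le_sSup ⟨Cfsg.Agent.OddOrder.piCoreOf_le _ _, Cfsg.Agent.OddOrder.isPiGrp_piCoreOf _ _,
      hAX.trans (Cfsg.Agent.OddOrder.le_normalizer_piCoreOf _ _)⟩

end Cfsg.Agent.S1396
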