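import Cfsg.Statements.S1393
import Cfsg.Agent.Lib.OddOrder.Transitivity
import Cfsg.Agent.Lib.OddOrder.Elementary

set_option autoImplicit false
open Cfsg

namespace Cfsg.Agent.S1393

/-- In an elementary `p ^ 3` acting on a nontrivial `q`-group some `p ^ 2` has a common fixed point. -/
theorem exists_plane {G : Type*} [Group G] [Finite G] {A E Q : Subgroup G} {p q : ℕ} [hp : Fact p.Prime]
    [Fact q.Prime] (hqA : ¬ q ∣ Nat.card A) (hEA : E ≤ A) (hEc : Nat.card E = p ^ (2 + 1))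
    (hEp : ∀ a ∈ E, a ^ p = 1) (hEcomm : ∀ a ∈ E, ∀ b ∈ E, Commute a b)
    (hQ : IsPGroup q Q) (hQ1 : Q ≠ ⊥) (hQA : A ≤ Subgroup.normalizer (Q : Set G)) :
    ∃ B ≤ E, Nat.card B = p ^ 2 ∧ ∃ x ∈ Q, x ≠ 1 ∧ ∀ g ∈ B, Commute g x := by
  have hbig : ∀ S : Subgroup G, Nat.card S < p ^ (2 + 1) → ∃ a ∈ E, a ∉ S := by
    intro S hS
    by_contra h
    push Not at h
    exact absurd ((Subgroup.card_le_of_le (show E ≤ S from h))) (by rw [hEc]; omega)
  obtain ⟨f₀, hf₀, hf₀1⟩ := hbig ⊥ (by rw [Subgroup.card_bot]; exact Nat.one_lt_pow (by norm_num) hp.out.one_lt)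
  rw [Subgroup.mem_bot] at hf₀1
  have hp3 : ∀ a : G, a ∈ E → Nat.card (Subgroup.zpowers a) < p ^ (2 + 1) := by
    intro a ha
    rw [Nat.card_zpowers]
    calc orderOf a ≤ p := Nat.le_of_dvd hp.out.pos (orderOf_dvd_of_pow_eq_one (hEp a ha))
      _ < p ^ (2 + 1) := lt_self_pow₀ hp.out.one_lt (by norm_num)
  obtain ⟨e₀, he₀, hne₀⟩ := hbig _ (hp3 f₀ hf₀)
  obtain ⟨b, hb, hb1, x, hx, hx1, hbx⟩ := OddOrder.exists_fixed_in hqA hQ hQ1 (hEA hf₀)
    (hEcomm e₀ he₀ f₀ hf₀) (hEp e₀ he₀) (hEp f₀ hf₀) hf₀1 hne₀ (hQA (hEA he₀)) (hQA (hEA hf₀))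
  have hbE : b ∈ E := sup_le (Subgroup.zpowers_le.mpr he₀) (Subgroup.zpowers_le.mpr hf₀) hb
  obtain ⟨f, hf, hfb⟩ := hbig _ (hp3 b hbE)
  have hf1 : f ≠ 1 := fun h => hfb (h ▸ Subgroup.one_mem _)
  have hcard := OddOrder.card_zpowers_sup (p := p) (hEcomm b hbE f hf) (hEp b hbE) hb1 (hEp f hf) hfb
  obtain ⟨e, he, heb⟩ := hbig _ (hcard.trans_lt (Nat.pow_lt_pow_right hp.out.one_lt (by norm_num)))
  set Q' : Subgroup G := Q ⊓ Subgroup.centralizer ({b} : Set G) with hQ'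
  have hQ'1 : Q' ≠ ⊥ := fun h =>
    hx1 (Subgroup.mem_bot.mp (h ▸ ⟨hx, Subgroup.mem_centralizer_singleton_iff.mpr hbx.eq.symm⟩))
  have hnorm : ∀ a ∈ E, a ∈ Subgroup.normalizer (Q' : Set G) := fun a ha =>
    Subgroup.inf_normalizer_le_normalizer_inf ⟨hQA (hEA ha), Subgroup.le_normalizer
      (Subgroup.mem_centralizer_singleton_iff.mpr (hEcomm a ha b hbE).eq)⟩
  have hef : e ∉ Subgroup.zpowers f := fun h => heb (Subgroup.mem_sup_right h)
  obtain ⟨d, hd, hd1, y, hy, hy1, hdy⟩ := OddOrder.exists_fixed_in hqA (hQ.to_le inf_le_left) hQ'1 (hEA hf)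
    (hEcomm e he f hf) (hEp e he) (hEp f hf) hf1 hef (hnorm e he) (hnorm f hf)
  have hdE : d ∈ E := sup_le (Subgroup.zpowers_le.mpr he) (Subgroup.zpowers_le.mpr hf) hd
  have hdb : d ∉ Subgroup.zpowers b := by
    intro h
    have hzd : Subgroup.zpowers d = Subgroup.zpowers b := Subgroup.eq_of_le_of_card_ge (Subgroup.zpowers_le.mpr h)
      (by rw [Nat.card_zpowers, Nat.card_zpowers, orderOf_eq_prime (hEp d hdE) hd1, orderOf_eq_prime (hEp b hbE) hb1])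
    have hle : Subgroup.zpowers b ⊔ Subgroup.zpowers f ≤ Subgroup.zpowers f ⊔ Subgroup.zpowers e :=
      sup_le (hzd ▸ Subgroup.zpowers_le.mpr (sup_comm (Subgroup.zpowers e) _ ▸ hd)) le_sup_left
    have heq := Subgroup.eq_of_le_of_card_ge hle (by
      rw [hcard, OddOrder.card_zpowers_sup (p := p) (hEcomm f hf e he) (hEp f hf) hf1 (hEp e he) hef])
    exact heb (heq.symm ▸ Subgroup.mem_sup_right (Subgroup.mem_zpowers e))
  refine ⟨_, sup_le (Subgroup.zpowers_le.mpr hbE) (Subgroup.zpowers_le.mpr hdE),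
    OddOrder.card_zpowers_sup (p := p) (hEcomm b hbE d hdE) (hEp b hbE) hb1 (hEp d hdE) hdb,
    y, hy.1, hy1, ?_⟩
  have hle : Subgroup.zpowers b ⊔ Subgroup.zpowers d ≤ Subgroup.centralizer ({y} : Set G) :=
    sup_le (Subgroup.zpowers_le.mpr (Subgroup.mem_centralizer_singleton_iff.mpr
        (Subgroup.mem_centralizer_singleton_iff.mp hy.2).symm))
      (Subgroup.zpowers_le.mpr (Subgroup.mem_centralizer_singleton_iff.mpr hdy.eq))
  exact fun g hg => Subgroup.mem_centralizer_singleton_iff.mp (hle hg)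

/-- Let G be a minimal simple group of odd order, A a subgroup satisfying the transitivity hypothesis whose centre has rank at least 3, K = O_{π(A)'}(C_G(A)), and q a prime not dividing the order of A. Then any two maximal A-invariant q-subgroups of G are conjugate by an element of K. -/
theorem result {G : Type*} [Group G] [Finite G] (hG : Cfsg.IsMinSimpleOddOrder G)
    (A : Subgroup G) (hA : Cfsg.TransitivityHypothesis A) (hZ : ¬ Cfsg.RankLE 2 ↥(A ⊓ Subgroup.centralizer (A : Set G)))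
    (q : ℕ) (hq : q.Prime) (hqA : ¬ q ∣ Nat.card A) :
    ∀ Q₁ ∈ Cfsg.maxInvSubgroups ⊤ A {q}, ∀ Q₂ ∈ Cfsg.maxInvSubgroups ⊤ A {q}, ∃ k ∈ Cfsg.piCoreOf (Cfsg.primesNotDvd (Nat.card A)) (Subgroup.centralizer (A : Set G)), Q₂ = Q₁.map (MulAut.conj k).toMonoidHom := by
  haveI := Fact.mk hq
  obtain ⟨p, hp, E, hEZ, hEc, hEp, hEcomm⟩ := OddOrder.exists_elementary_of_not_rankLE hZ
  haveI := Fact.mk hp
  intro Q₁ h₁ Q₂ h₂
  rcases eq_or_ne Q₁ ⊥ with h | hQ₁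
  · refine ⟨1, Subgroup.one_mem _, ?_⟩
    rw [h₁.2 Q₂ h₂.1 (h ▸ bot_le)]
    ext x
    simp
  rcases eq_or_ne Q₂ ⊥ with h | hQ₂
  · exact absurd ((h₂.2 Q₁ h₁.1 (h ▸ bot_le)).trans h) hQ₁
  obtain ⟨B₁, hB₁E, hB₁, x₁, hx₁, hx₁1, hfix₁⟩ := exists_plane hqA (fun a ha => (hEZ ha).1) hEc hEp hEcomm
    (OddOrder.isPGroup_of_maxInv h₁) hQ₁ (OddOrder.le_normalizer_of_maxInv h₁)
  obtain ⟨B₂, hB₂E, hB₂, x₂, hx₂, hx₂1, hfix₂⟩ := exists_plane hqA (fun a ha => (hEZ ha).1) hEc hEp hEcomm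
    (OddOrder.isPGroup_of_maxInv h₂) hQ₂ (OddOrder.le_normalizer_of_maxInv h₂)
  have hne : B₁ ⊓ B₂ ≠ ⊥ := by
    intro h
    have hB : B₁ ≤ Subgroup.normalizer (B₂ : Set G) := by
      refine (Subgroup.le_centralizer_iff.mpr ?_).trans (Subgroup.centralizer_le_normalizer _)
      exact fun b hb => Subgroup.mem_centralizer_iff.mpr fun a ha => (hEcomm a (hB₁E ha) b (hB₂E hb)).eq
    have e := Coprime.card_sup_of_le_normalizer hB h
    have h' := Subgroup.card_le_of_le (sup_le hB₁E hB₂E)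
    rw [e, hB₁, hB₂, hEc, ← pow_add] at h'
    exact absurd h' (not_le.mpr (Nat.pow_lt_pow_right hp.one_lt (by norm_num)))
  obtain ⟨g, hg, hg1⟩ := (B₁ ⊓ B₂).bot_or_exists_ne_one.resolve_left hne
  have hgA := hEZ (hB₁E hg.1)
  refine (OddOrder.linked_of_meet hG hA hqA h₁ h₂
    (OddOrder.centralizer_singleton_ne_top_of_minSimple hG hg1) ?_ ?_ ?_).exists_map
  · intro a ha
    exact Subgroup.mem_centralizer_singleton_iff.mpr (Subgroup.mem_centralizer_iff.mp hgA.2 a ha)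
  · intro h
    exact hx₁1 (Subgroup.mem_bot.mp (h ▸ ⟨Subgroup.mem_centralizer_singleton_iff.mpr (hfix₁ g hg.1).eq.symm, hx₁⟩))
  · intro h
    exact hx₂1 (Subgroup.mem_bot.mp (h ▸ ⟨Subgroup.mem_centralizer_singleton_iff.mpr (hfix₂ g hg.2).eq.symm, hx₂⟩))

end Cfsg.Agent.S1393
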