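import Cfsg.Statements.S1395
import Cfsg.Agent.Lib.OddOrder.Transitivity

set_option autoImplicit false
open Cfsg

namespace Cfsg.Agent.S1395

open OddOrder
open scoped Pointwise commutatorElement

universe u

variable {G : Type u} [Group G] [Finite G] {A : Subgroup G} {q : ℕ} [Fact q.Prime]

/-- The inductive invariant along the subnormal chain. -/
def Good (A : Subgroup G) (q : ℕ) (B : Subgroup G) : Prop :=
  (∀ Q₁ ∈ maxInvSubgroups ⊤ B {q}, ∀ Q₂ ∈ maxInvSubgroups ⊤ B {q},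
      ∃ k ∈ coreC A B, Q₂ = MulAut.conj k • Q₁) ∧
    maxInvSubgroups ⊤ B {q} ⊆ maxInvSubgroups ⊤ A {q}

theorem coreC_le_coreC (hG : IsMinSimpleOddOrder G) (hA : TransitivityHypothesis A) {B : Subgroup G}
    (hAB : A ≤ B) : coreC A B ≤ coreC A A :=
  le_coreC hG hA ((piCoreOf_le _ _).trans (Subgroup.centralizer_le hAB)) (isPiGrp_piCoreOf _ _)

theorem coreC_inf_centralizer (hG : IsMinSimpleOddOrder G) (hA : TransitivityHypothesis A) {B : Subgroup G}
    (hAB : A ≤ B) : coreC A A ⊓ Subgroup.centralizer (B : Set G) = coreC A B := by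
  refine le_antisymm (le_piCoreOf inf_le_right ?_ ((isPiGrp_piCoreOf _ _).mono inf_le_left))
    (le_inf (coreC_le_coreC hG hA hAB) (piCoreOf_le _ _))
  exact fun c hc => Subgroup.inf_normalizer_le_normalizer_inf
    ⟨le_normalizer_piCoreOf _ _ (Subgroup.centralizer_le hAB hc), Subgroup.le_normalizer hc⟩

theorem good_step (hG : IsMinSimpleOddOrder G) (hA : TransitivityHypothesis A) (hqA : ¬ q ∣ Nat.card A)
    {H K : Subgroup G} (hAH : A ≤ H) (hHK : H ≤ K) (hKn : K ≤ Subgroup.normalizer (H : Set G))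
    (hKπ : ∀ r : ℕ, r.Prime → r ∣ Nat.card K → r ∣ Nat.card A) (hH : Good A q H) : Good A q K := by
  have hAK : A ≤ K := hAH.trans hHK
  have hKL : K ≤ Subgroup.normalizer (coreC A H : Set G) := by
    refine hKn.trans ((le_trans ?_ (normalizer_le_normalizer_piCoreOf _ _)))
    intro g hg
    have hg' := Coprime.conj_smul_eq_self_of_mem hg
    refine Subgroup.mem_normalizer_iff.mpr fun c => ?_
    simp only [Subgroup.mem_centralizer_iff]
    constructor
    · intro hc x hx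
      have hxm : g⁻¹ * x * g ∈ H := by
        rwa [← SetLike.mem_coe, SetLike.mem_coe, ← Coprime.mem_conj_smul_iff, hg']
      calc x * (g * c * g⁻¹) = g * ((g⁻¹ * x * g) * c) * g⁻¹ := by group
        _ = g * (c * (g⁻¹ * x * g)) * g⁻¹ := by rw [hc _ hxm]
        _ = g * c * g⁻¹ * x := by group
    · intro hc x hx
      have h := hc _ ((Subgroup.mem_normalizer_iff.mp hg x).mp hx)
      have h' : g * (x * c) * g⁻¹ = g * (c * x) * g⁻¹ := by
        calc g * (x * c) * g⁻¹ = g * x * g⁻¹ * (g * c * g⁻¹) := by group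
          _ = g * c * g⁻¹ * (g * x * g⁻¹) := h
          _ = g * (c * x) * g⁻¹ := by group
      exact mul_left_cancel (mul_right_cancel h')
  have hcop : (Nat.card K).Coprime (Nat.card (coreC A H)) :=
    Nat.coprime_of_dvd fun r hr h1 h2 => (isPiGrp_piCoreOf _ _ r hr h2).2 (hKπ r hr h1)
  have hs : Group.IsSolvable K ∨ Group.IsSolvable (coreC A H) :=
    Or.inr (Coprime.isSolvable_of_le ((coreC_le_centralizer A H).trans
        ((Subgroup.centralizer_le hAH).trans (Subgroup.centralizer_le_normalizer _)))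
      (hG.2.2.2 _ (normalizer_ne_top_of_minSimple hG hA.1 hA.2.1)))
  letI : MulAction G (Subgroup G) := MulAction.compHom _ (MulAut.conj (G := G))
  have hsub : maxInvSubgroups ⊤ K {q} ⊆ maxInvSubgroups ⊤ A {q} := by
    intro R hR
    have hRp := isPGroup_of_maxInv hR
    have hRK := le_normalizer_of_maxInv hR
    rcases eq_or_ne R ⊥ with hR1 | hR1
    · obtain ⟨Q₀, hQ₀, -⟩ := exists_maxInv_ge (B := H) (IsPGroup.of_bot (G := G) (p := q))
        ((Subgroup.normalizer_eq_top_iff.mpr inferInstance).ge.trans' le_top)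
      obtain ⟨k, hk, hfix⟩ := Coprime.exists_fixed_point (X := Subgroup G) hKL hcop hs Q₀ fun a ha => by
        obtain ⟨k, hk, hk'⟩ := hH.1 Q₀ hQ₀ _ (conj_smul_mem_maxInv (hKn ha) hQ₀)
        exact ⟨k, hk, hk'.symm⟩
      have hQ' : MulAut.conj k • Q₀ ∈ maxInvSubgroups ⊤ H {q} :=
        conj_smul_mem_maxInv (coreC_le_normalizer A H hk) hQ₀
      have hQ'K : K ≤ Subgroup.normalizer ((MulAut.conj k • Q₀ : Subgroup G) : Set G) :=
        fun a ha => Coprime.mem_normalizer_of_conj_smul_eq (hfix a ha)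
      have h0 := hR.2 _ (mem_invSubgroups_iff.mpr ⟨isPGroup_of_maxInv hQ', hQ'K⟩) (hR1 ▸ bot_le)
      exact h0 ▸ hH.2 hQ'
    · obtain ⟨Q, hQ, hRQ⟩ := exists_maxInv_ge hRp (hAK.trans hRK)
      suffices h : Q = R from h ▸ hQ
      set N := Subgroup.normalizer (R : Set G) with hN
      have hNtop : N ≠ ⊤ := pgroup_normalizer_ne_top hG hA hqA hRp hR1
      set W := piCoreOf (primesNotDvd (Nat.card A)) N with hW
      have hRW : R ≤ W := le_core_of_invariant hA hqA hNtop (hAK.trans hRK) Subgroup.le_normalizer hRp (hAK.trans hRK)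
      have hcW : (Nat.card K).Coprime (Nat.card W) :=
        Nat.coprime_of_dvd fun r hr h1 h2 => (isPiGrp_piCoreOf _ _ r hr h2).2 (hKπ r hr h1)
      obtain ⟨S, hRS, hSK⟩ := Coprime.exists_invariant_sylow_ge (hRK.trans (le_normalizer_piCoreOf _ _)) hcW
        (Or.inr (Coprime.isSolvable_of_le (piCoreOf_le _ _) (hG.2.2.2 N hNtop))) hRW hRp hRK
      have hSR := hR.2 _ (mem_invSubgroups_iff.mpr ⟨S.isPGroup'.map W.subtype, hSK⟩) hRS
      by_contra hne
      have hlt : R < Q ⊓ N := lt_inf_normalizer (isPGroup_of_maxInv hQ).isNilpotent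
        (lt_of_le_of_ne hRQ (Ne.symm hne))
      have hUW : Q ⊓ N ≤ W := le_core_of_invariant hA hqA hNtop (hAK.trans hRK) inf_le_right
        ((isPGroup_of_maxInv hQ).to_le inf_le_left)
        (Coprime.le_normalizer_inf_of_le (le_normalizer_of_maxInv hQ) ((hAK.trans hRK).trans Subgroup.le_normalizer))
      have hSU : (S : Subgroup W) ≤ (Q ⊓ N).subgroupOf W := fun x hx =>
        hlt.le (hSR.le (Subgroup.mem_map_of_mem W.subtype hx))
      have hUeq := S.3 (((isPGroup_of_maxInv hQ).to_le inf_le_left).comap_of_injective W.subtype W.subtype_injective) hSU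
      apply hlt.ne
      rw [← hSR, ← hUeq]
      exact Subgroup.map_subgroupOf_eq_of_le hUW
  refine ⟨fun Q₁ h₁ Q₂ h₂ => ?_, hsub⟩
  have hmax : ∀ R ∈ maxInvSubgroups ⊤ K {q}, R ∈ maxInvSubgroups ⊤ H {q} := by
    intro R hR
    refine ⟨mem_invSubgroups_iff.mpr ⟨isPGroup_of_maxInv hR, hHK.trans (le_normalizer_of_maxInv hR)⟩,
      fun S hS hle => (hsub hR).2 S ?_ hle⟩
    exact ⟨hS.1, hS.2.1, hAH.trans hS.2.2⟩
  obtain ⟨k, hk, hk'⟩ := hH.1 Q₁ (hmax _ h₁) Q₂ (hmax _ h₂)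
  obtain ⟨c, hc, hc'⟩ := Coprime.exists_centralizer_smul_eq (X := Subgroup G) hKL hcop hs
    (x := Q₁) (y := Q₂)
    (fun a ha => Coprime.conj_smul_eq_self_of_mem (le_normalizer_of_maxInv h₁ ha))
    (fun a ha => Coprime.conj_smul_eq_self_of_mem (le_normalizer_of_maxInv h₂ ha)) hk hk'.symm
  exact ⟨c, coreC_inf_centralizer hG hA hAK ▸ ⟨coreC_le_coreC hG hA hAH hc.1, hc.2⟩, hc'.symm⟩

theorem mem_of_mul_mem_coprime {G : Type u} [Group G] {M' : Subgroup G} {l m : G} (hm : m ∈ M')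
    (hl : l ∈ Subgroup.normalizer (M' : Set G)) {n : ℕ} (hn : l ^ n = 1) :
    (l * m) ^ n ∈ M' := by
  suffices h : ∀ i : ℕ, (l ^ i)⁻¹ * (l * m) ^ i ∈ M' by simpa [hn] using h n
  intro i
  induction i with
  | zero => simp
  | succ i ih =>
    have h1 := (Subgroup.mem_normalizer_iff''.mp hl _).mp ih
    have h2 := M'.mul_mem h1 hm
    convert h2 using 1
    rw [pow_succ l, pow_succ (l * m)]
    group

/-- Let G be a minimal simple group of odd order, A a subgroup satisfying the transitivity hypothesis with K = O_{π(A)'}(C_G(A)), q a prime not dividing the order of A, and P a proper subgroup all of whose prime divisors divide the order of A, containing A as a subnormal subgroup, such that any two maximal A-invariant q-subgroups are conjugate under K. Then (a) K ∩ C_G(P) = O_{π(A)'}(C_G(P)); (b) any two maximal P-invariant q-subgroups are conjugate under O_{π(A)'}(C_G(P)); (c) every maximal P-invariant q-subgroup is a maximal A-invariant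 q-subgroup; (d) for every maximal P-invariant q-subgroup Q, P ∩ N_G(P)' ≤ N_G(Q)' and N_G(P) is generated by O_{π(A)'}(C_G(P)) and N_G(P) ∩ N_G(Q). -/
theorem result {G : Type*} [Group G] [Finite G] (hG : Cfsg.IsMinSimpleOddOrder G)
    (A : Subgroup G) (hA : Cfsg.TransitivityHypothesis A) (q : ℕ) (hq : q.Prime) (hqA : ¬ q ∣ Nat.card A)
    (P : Subgroup G) (hP : P ≠ ⊤) (hPπ : (∀ r : ℕ, r.Prime → r ∣ Nat.card P → r ∣ Nat.card A)) (hAP : A ≤ P) (hsn : (A.subgroupOf P).IsSubnormal)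
    (htr : ∀ Q₁ ∈ Cfsg.maxInvSubgroups ⊤ A {q}, ∀ Q₂ ∈ Cfsg.maxInvSubgroups ⊤ A {q}, ∃ k ∈ Cfsg.piCoreOf (Cfsg.primesNotDvd (Nat.card A)) (Subgroup.centralizer (A : Set G)), Q₂ = Q₁.map (MulAut.conj k).toMonoidHom) :
    Cfsg.piCoreOf (Cfsg.primesNotDvd (Nat.card A)) (Subgroup.centralizer (A : Set G)) ⊓ Subgroup.centralizer (P : Set G) = Cfsg.piCoreOf (Cfsg.primesNotDvd (Nat.card A)) (Subgroup.centralizer (P : Set G)) ∧
      (∀ Q₁ ∈ Cfsg.maxInvSubgroups ⊤ P {q}, ∀ Q₂ ∈ Cfsg.maxInvSubgroups ⊤ P {q}, ∃ k ∈ Cfsg.piCoreOf (Cfsg.primesNotDvd (Nat.card A)) (Subgroup.centralizer (P : Set G)), Q₂ = Q₁.map (MulAut.conj k).toMonoidHom) ∧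
      Cfsg.maxInvSubgroups ⊤ P {q} ⊆ Cfsg.maxInvSubgroups ⊤ A {q} ∧
      ∀ Q ∈ Cfsg.maxInvSubgroups ⊤ P {q},
        P ⊓ ⁅Subgroup.normalizer (P : Set G), Subgroup.normalizer (P : Set G)⁆ ≤ ⁅Subgroup.normalizer (Q : Set G), Subgroup.normalizer (Q : Set G)⁆ ∧
        Subgroup.normalizer (P : Set G) = Cfsg.piCoreOf (Cfsg.primesNotDvd (Nat.card A)) (Subgroup.centralizer (P : Set G)) ⊔ (Subgroup.normalizer (P : Set G) ⊓ Subgroup.normalizer (Q : Set G)) := by
  haveI := Fact.mk hq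
  have hind : ∀ H : Subgroup P, H.IsSubnormal → A ≤ H.map P.subtype → Good A q (H.map P.subtype) → Good A q P := by
    intro H hH
    induction hH with
    | top =>
      intro _ h
      rwa [← MonoidHom.range_eq_map, Subgroup.range_subtype] at h
    | step H K hle _ hN ih =>
      intro hA' hgood
      refine ih (hA'.trans (Subgroup.map_mono hle)) ?_
      refine good_step hG hA hqA hA' (Subgroup.map_mono hle) ?_ ?_ hgood
      · exact (Subgroup.map_mono ((Subgroup.normal_subgroupOf_iff_le_normalizer hle).mp hN)).trans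
          (Subgroup.le_normalizer_map _)
      · exact fun r hr hd => hPπ r hr (hd.trans (Subgroup.card_dvd_of_le (Subgroup.map_subtype_le _)))
  have hA0 : (A.subgroupOf P).map P.subtype = A := Subgroup.map_subgroupOf_eq_of_le hAP
  obtain ⟨htrP, hsubP⟩ := hind _ hsn hA0.ge (hA0.symm ▸ ⟨fun Q₁ h₁ Q₂ h₂ => htr Q₁ h₁ Q₂ h₂, subset_rfl⟩)
  refine ⟨coreC_inf_centralizer hG hA hAP, fun Q₁ h₁ Q₂ h₂ => htrP Q₁ h₁ Q₂ h₂, hsubP, fun Q hQ => ?_⟩
  set L := coreC A P with hL
  set N := Subgroup.normalizer (P : Set G) with hN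
  set M := N ⊓ Subgroup.normalizer (Q : Set G) with hM
  have hNL : N ≤ Subgroup.normalizer (L : Set G) := by
    refine le_trans ?_ (normalizer_le_normalizer_piCoreOf _ _)
    intro g hg
    rw [Subgroup.mem_normalizer_iff_map_conj_eq]
    have hg' := Subgroup.mem_normalizer_iff_map_conj_eq.mp hg
    refine Subgroup.eq_of_le_of_card_ge ?_ (Subgroup.card_map_of_injective (MulAut.conj g).injective).ge
    rintro _ ⟨c, hc, rfl⟩
    rw [Subgroup.mem_centralizer_iff]
    intro x hx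
    rw [← hg'] at hx
    obtain ⟨y, hy, rfl⟩ := hx
    rw [← map_mul, ← map_mul, Subgroup.mem_centralizer_iff.mp hc y hy]
  have hML : N = L ⊔ M := by
    refine le_antisymm (fun n hn => ?_) (sup_le (coreC_le_normalizer A P) inf_le_left)
    obtain ⟨k, hk, hk'⟩ := htrP Q hQ _ (conj_smul_mem_maxInv hn hQ)
    have hkn : k⁻¹ * n ∈ M := by
      refine ⟨N.mul_mem (N.inv_mem (coreC_le_normalizer A P hk)) hn, ?_⟩
      exact Coprime.mem_normalizer_of_conj_smul_eq
        (by rw [← Coprime.conj_smul_smul, hk', Coprime.conj_smul_smul, inv_mul_cancel, map_one, one_smul])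
    rw [show n = k * (k⁻¹ * n) by group]
    exact Subgroup.mul_mem_sup hk hkn
  refine ⟨?_, hML⟩
  intro x hx
  have hM'N : ⁅M, M⁆ ≤ ⁅Subgroup.normalizer (Q : Set G), Subgroup.normalizer (Q : Set G)⁆ :=
    Subgroup.commutator_mono inf_le_right inf_le_right
  apply hM'N
  have hcomm : ⁅N, N⁆ ≤ L ⊔ ⁅M, M⁆ := by
    rw [Subgroup.commutator_le]
    intro a ha b hb
    have hMN : M ≤ Subgroup.normalizer (L : Set G) := inf_le_left.trans hNL
    haveI : (L.subgroupOf N).Normal :=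
      (Subgroup.normal_subgroupOf_iff_le_normalizer (coreC_le_normalizer A P)).mpr hNL
    rw [hML] at ha hb
    obtain ⟨a₁, ha₁, a₂, ha₂, rfl⟩ := (Coprime.mem_sup_iff_of_le_normalizer' hMN).mp ((sup_comm L M) ▸ ha)
    obtain ⟨b₁, hb₁, b₂, hb₂, rfl⟩ := (Coprime.mem_sup_iff_of_le_normalizer' hMN).mp ((sup_comm L M) ▸ hb)
    have hLN := coreC_le_normalizer A P
    let A₁ : N := ⟨a₁, hLN ha₁⟩
    let A₂ : N := ⟨a₂, ha₂.1⟩
    let B₁ : N := ⟨b₁, hLN hb₁⟩
    let B₂ : N := ⟨b₂, hb₂.1⟩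
    have hz : ∀ u : N, (u : G) ∈ L → (u : N ⧸ L.subgroupOf N) = 1 := fun u hu =>
      (QuotientGroup.eq_one_iff u).mpr (Subgroup.mem_subgroupOf.mpr hu)
    have key : ((⁅A₁ * A₂, B₁ * B₂⁆ * ⁅A₂, B₂⁆⁻¹ : N) : N ⧸ L.subgroupOf N) = 1 := by
      simp [commutatorElement_def, hz A₁ ha₁, hz B₁ hb₁, mul_assoc]
    have key' : ⁅a₁ * a₂, b₁ * b₂⁆ * ⁅a₂, b₂⁆⁻¹ ∈ L :=
      Subgroup.mem_subgroupOf.mp ((QuotientGroup.eq_one_iff _).mp key)
    have := Subgroup.mul_mem_sup key' (Subgroup.commutator_mem_commutator ha₂ hb₂)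
    rwa [inv_mul_cancel_right] at this
  have hM'L : ⁅M, M⁆ ≤ Subgroup.normalizer (L : Set G) :=
    (M.commutator_le_self.trans inf_le_left).trans hNL
  obtain ⟨l, hl, m, hm, hlm⟩ :=
    (Coprime.mem_sup_iff_of_le_normalizer' hM'L).mp ((sup_comm L ⁅M, M⁆) ▸ hcomm hx.2)
  have hxM : x ∈ M := ⟨Subgroup.le_normalizer hx.1, le_normalizer_of_maxInv hQ hx.1⟩
  have hlM : l ∈ M := by
    have := M.mul_mem hxM (M.inv_mem (M.commutator_le_self hm))
    rwa [← hlm, mul_inv_cancel_right] at this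
  have hMM : M ≤ Subgroup.normalizer ((⁅M, M⁆ : Subgroup G) : Set G) := by
    intro g hg
    rw [Subgroup.mem_normalizer_iff_map_conj_eq, Subgroup.map_commutator,
      Subgroup.mem_normalizer_iff_map_conj_eq.mp (Subgroup.le_normalizer hg)]
  have hpow : x ^ Nat.card L ∈ ⁅M, M⁆ := hlm ▸ mem_of_mul_mem_coprime hm (hMM hlM)
    (orderOf_dvd_iff_pow_eq_one.mp (Subgroup.orderOf_dvd_natCard L hl))
  have hcop : (Nat.card L).Coprime (orderOf x) :=
    Nat.coprime_of_dvd fun r hr h1 h2 =>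
      (isPiGrp_piCoreOf _ _ r hr h1).2 (hPπ r hr (h2.trans (Subgroup.orderOf_dvd_natCard P hx.1)))
  obtain ⟨j, hj⟩ := exists_pow_eq_self_of_coprime hcop
  exact hj ▸ Subgroup.pow_mem _ hpow j

end Cfsg.Agent.S1395
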