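import Cfsg.Statements.S1457
import Cfsg.Agent.Lib.OddOrder.Stability

set_option autoImplicit false
open Cfsg

namespace Cfsg.Agent.S1457

/-- Let G be a solvable group of odd order, p a prime, S a Sylow p-subgroup of G and A an abelian subgroup of S normal in S. Then A ≤ O_{p',p}(G). -/
theorem result {G : Type*} [Group G] [Finite G] [Group.IsSolvable G] (hodd : Odd (Nat.card G)) (p : ℕ) [Fact p.Prime] (S : Sylow p G) (A : Subgroup G) (hA : A ≤ (S : Subgroup G)) (hAc : IsMulCommutative A)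
    (hAn : (S : Subgroup G) ≤ Subgroup.normalizer (A : Set G)) :
    A ≤ Cfsg.pPrimePCore p G := by
  by_cases hd : p ∣ Nat.card G
  swap
  · intro a ha
    have hS : (S : Subgroup G) = ⊥ := Cfsg.Agent.PCore.eq_bot_of_isPGroup_of_coprime S.2
      ((Fact.out : p.Prime).coprime_iff_not_dvd.mpr fun h =>
        hd (h.trans (S : Subgroup G).card_subgroup_dvd_card)).symm
    have := hA ha
    rw [hS, Subgroup.mem_bot] at this
    rw [this]
    exact one_mem _
  have hp := Cfsg.Agent.OddOrder.ne_two_of_odd_of_dvd hodd hd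
  set π := QuotientGroup.mk' (Cfsg.pPrimeCore p G)
  have hsurj : Function.Surjective π := QuotientGroup.mk'_surjective _
  haveI : (Cfsg.pCore p (G ⧸ Cfsg.pPrimeCore p G)).Normal := Cfsg.Agent.PCore.pCore_normal
  refine Subgroup.map_le_iff_le_comap.1 (Cfsg.Agent.OddOrder.le_pCore_of_abelian
    (Cfsg.Agent.OddOrder.odd_quotient hodd _) hp Cfsg.Agent.PCore.pPrimeCore_quotient_self_eq_bot
    (Cfsg.pCore p (G ⧸ Cfsg.pPrimeCore p G)) Cfsg.Agent.PCore.isPGroup_pCore inf_le_left (A.map π) ?_ ?_)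
  · refine Cfsg.Agent.PGroup.isMulCommutative_of_forall ?_
    rintro _ ⟨x, hx, rfl⟩ _ ⟨y, hy, rfl⟩
    rw [← map_mul, ← map_mul, Cfsg.Agent.PGroup.mul_comm_of_isMulCommutative hAc hx hy]
  · refine (Cfsg.Agent.PCore.pCore_le_sylow (S.mapSurjective hsurj)).trans ?_
    rw [Sylow.coe_mapSurjective]
    exact (Subgroup.map_mono hAn).trans (Subgroup.le_normalizer_map π)

end Cfsg.Agent.S1457
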