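import Cfsg.Statements.S1398
import Cfsg.Agent.Lib.OddOrder.MaximalSubgroups
import Cfsg.Agent.Lib.PGroup.NormalElementary
import Cfsg.Agent.Lib.Coprime.Generation
import Cfsg.Agent.S1393
import Cfsg.Agent.S1395
import Cfsg.Agent.S1396
import Cfsg.Agent.S1457
-- import your own Cfsg.Agent.* helpers here

set_option autoImplicit false
open Cfsg

namespace Cfsg.Agent.S1398

open OddOrder
open scoped Pointwise
open Subgroup (centralizer normalizer)

universe u
variable {G : Type u} [Group G] [Finite G] {p : ℕ} [Fact p.Prime]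

/-- A self-centralizing normal abelian subgroup of rank at least 3. -/
theorem exists_scn_three (hp : p ≠ 2) {P : Subgroup G} (hP : IsPGroup p P) (hr : ¬ PRankLE p 2 P) :
    ∃ A : Subgroup G, IsSCN P A ∧ IsMulCommutative A ∧ ¬ PRankLE p 2 A := by
  haveI : (⊥ : Subgroup P).Normal := inferInstance
  obtain ⟨U, -, hUn, hU, hU3⟩ :=
    PGroup.exists_normal_elementary_cube_ge hp hP hr (E := (⊥ : Subgroup P)) PGroup.isElementaryAbelian_bot
  haveI := hUn
  obtain ⟨A₀, hUA, hAn, hAc, hAmax⟩ := PGroup.exists_maximal_abelian_normal_ge U hU.1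
  haveI := hAn
  have hC := PGroup.centralizer_eq_of_maximal_abelian_normal hP hAc hAmax
  refine ⟨A₀.map P.subtype, ⟨Subgroup.map_subtype_le _, ?_, ?_⟩, ?_, ?_⟩
  · have := Subgroup.le_normalizer_map P.subtype (H := A₀)
    rwa [Subgroup.normalizer_eq_top_iff.mpr hAn, ← MonoidHom.range_eq_map, Subgroup.range_subtype] at this
  · refine le_antisymm ?_ (le_inf (Subgroup.map_subtype_le _) ?_)
    · intro x hx
      refine ⟨⟨x, hx.1⟩, hC.le ?_, rfl⟩
      exact Subgroup.mem_centralizer_iff.2 fun a ha =>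
        Subtype.ext (Subgroup.mem_centralizer_iff.1 hx.2 a ⟨a, ha, rfl⟩)
    · rintro _ ⟨a, ha, rfl⟩
      refine Subgroup.mem_centralizer_iff.2 ?_
      rintro _ ⟨b, hb, rfl⟩
      rw [← map_mul, ← map_mul, PGroup.mul_comm_of_isMulCommutative hAc hb ha]
  · refine PGroup.isMulCommutative_of_forall ?_
    rintro _ ⟨a, ha, rfl⟩ _ ⟨b, hb, rfl⟩
    rw [← map_mul, ← map_mul, PGroup.mul_comm_of_isMulCommutative hAc ha hb]
  · intro h
    have h1 := pRankLE_of_injective (f := (A₀.equivMapOfInjective _ P.subtype_injective).toMonoidHom)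
      (MulEquiv.injective _) h
    have h2 := pRankLE_of_le hUA h1 ⊤
      ⟨⟨fun a b => Subtype.ext (Subtype.ext (PGroup.mul_comm_of_isMulCommutative hU.1 a.1.2 b.1.2))⟩⟩
      (fun x _ => Subtype.ext (hU.2 x x.2))
    rw [Subgroup.card_top] at h2
    exact absurd (hU3.trans h2) (Nat.pow_lt_pow_right (Fact.out : p.Prime).one_lt (by norm_num)).not_ge

/-- `N(Q) ≤ N(X)` by the transitivity theorem. -/
theorem normalizer_le_normalizer_core (hG : IsMinSimpleOddOrder G) {M : Subgroup G} (hM : IsCoatom M)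
    (P : Sylow p G) (hPM : (P : Subgroup G) ≤ M) {A Q : Subgroup G}
    (hSCN : IsSCN (P : Subgroup G) A) (hAc : IsMulCommutative A) (hA3 : ¬ PRankLE p 2 A)
    (hAQ : A ≤ Q) (hQP : Q ≤ (P : Subgroup G)) (hPQ : (P : Subgroup G) ≤ normalizer (Q : Set G))
    (hX : ∀ Y : Subgroup G, (Nat.card Y).Coprime p → (P : Subgroup G) ≤ normalizer (Y : Set G) →
      Y ≤ core p M) :
    normalizer (Q : Set G) ≤ normalizer (core p M : Set G) := by
  have hp : p.Prime := Fact.out
  obtain ⟨hAP, hPA, hCA⟩ := id hSCN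
  have hAp : IsPGroup p A := P.2.to_le hAP
  have hA1 : A ≠ ⊥ := by
    intro h
    refine hA3 fun B _ _ => (B.card_le_card_group.trans ?_)
    rw [h, Subgroup.card_bot]
    exact Nat.one_le_pow _ _ hp.pos
  obtain ⟨k, hk⟩ := hAp.exists_card_eq
  have hk0 : k ≠ 0 := fun h => hA1 (Subgroup.card_eq_one.1 (by rw [hk, h, pow_zero]))
  have hpA : p ∣ Nat.card A := hk ▸ dvd_pow_self p hk0
  have hAG : p ∣ Nat.card G := hpA.trans A.card_subgroup_dvd_card
  have hA2 : ¬ PRankLE p 1 A := fun h => hA3 fun B hB hB' =>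
    (h B hB hB').trans (Nat.pow_le_pow_right hp.pos (by norm_num))
  have hA : TransitivityHypothesis A := S1396.result hG p hAG A hAp hAc (Or.inr ⟨P, hSCN, hA2⟩)
  have hZ : ¬ RankLE 2 ↥(A ⊓ centralizer (A : Set G)) := by
    rw [inf_eq_left.2 (PGroup.le_centralizer_of_isMulCommutative hAc)]
    exact fun h => hA3 (h p hp)
  have hXM : core p M ≤ M := core_le M
  intro n hn
  set X := core p M with hXdef
  have hcop : (Nat.card (P : Subgroup G)).Coprime (Nat.card X) := by
    obtain ⟨m, hm⟩ := P.2.exists_card_eq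
    rw [hm]
    exact ((coprime_card_core M).symm).pow_left m
  suffices h : X ≤ MulAut.conj n⁻¹ • X by
    refine Coprime.mem_normalizer_of_conj_smul_eq (Subgroup.eq_of_le_of_card_ge ?_ ?_)
    · have := Subgroup.pointwise_smul_le_pointwise_smul_iff (a := MulAut.conj n).mpr h
      rwa [Coprime.conj_smul_smul, mul_inv_cancel, map_one, one_smul] at this
    · rw [Coprime.card_conj_smul]
  refine inf_eq_left.1 (Coprime.eq_of_forall_invariant_pgroup_le (hPM.trans (le_normalizer_core M)) hcop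
    (Or.inr (Coprime.isSolvable_of_le hXM (hG.2.2.2 M hM.1))) inf_le_left fun q Z hq hZq hZX hZP => ?_)
  refine le_inf hZX ?_
  haveI := Fact.mk hq
  rcases eq_or_ne q p with rfl | hqp
  · rw [PCore.eq_bot_of_isPGroup_of_coprime hZq ((coprime_card_core M).coprime_dvd_left
      (Subgroup.card_dvd_of_le hZX))]
    exact bot_le
  have hqA : ¬ q ∣ Nat.card A := fun h =>
    hqp ((Nat.prime_dvd_prime_iff_eq hq hp).1 (hq.dvd_of_dvd_pow (hk ▸ h)))
  have hcq : ∀ {Y : Subgroup G}, IsPGroup q Y → (Nat.card Y).Coprime p := fun {Y} hY => by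
    obtain ⟨m, hm⟩ := hY.exists_card_eq
    rw [hm]
    exact ((Nat.coprime_primes hq hp).2 hqp).pow_left m
  have htr := S1393.result hG A hA hZ q hq hqA
  have hπ : ∀ S : Subgroup G, IsPGroup p S → ∀ r : ℕ, r.Prime → r ∣ Nat.card S → r ∣ Nat.card A := by
    intro S hS r hr hd
    obtain ⟨m, hm⟩ := hS.exists_card_eq
    rw [(Nat.prime_dvd_prime_iff_eq hr hp).1 (hr.dvd_of_dvd_pow (hm ▸ hd))]
    exact hpA
  obtain ⟨-, -, hcP, -⟩ := S1395.result hG A hA q hq hqA (P : Subgroup G) (ne_top_of_isPGroup hG P.2)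
    (hπ _ P.2) hAP ((Subgroup.normal_subgroupOf_iff_le_normalizer hAP).2 hPA).isSubnormal htr
  obtain ⟨-, hbQ, -, -⟩ := S1395.result hG A hA q hq hqA Q (ne_top_of_isPGroup hG (P.2.to_le hQP))
    (hπ _ (P.2.to_le hQP)) hAQ
    ((Subgroup.normal_subgroupOf_iff_le_normalizer hAQ).2 (hQP.trans hPA)).isSubnormal htr
  obtain ⟨R, hR, hZR⟩ := exists_maxInv_ge hZq hZP
  have hRX : R ≤ X := hX R (hcq (isPGroup_of_maxInv hR)) (le_normalizer_of_maxInv hR)
  have hRQ : R ∈ maxInvSubgroups ⊤ Q {q} :=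
    ⟨mem_invSubgroups_iff.mpr ⟨isPGroup_of_maxInv hR, hQP.trans (le_normalizer_of_maxInv hR)⟩,
      fun S hS hle => (hcP hR).2 S ⟨hS.1, hS.2.1, hAQ.trans hS.2.2⟩ hle⟩
  obtain ⟨l, hl, hl'⟩ := hbQ R hRQ _ (conj_smul_mem_maxInv hn hRQ)
  have hlX : l ∈ X := by
    refine hX _ ((coprime_of_primesNotDvd (isPiGrp_piCoreOf _ _)).coprime_dvd_right hpA) ?_ hl
    exact (Coprime.le_normalizer_centralizer hPQ).trans (normalizer_le_normalizer_piCoreOf _ _)
  have h1 : MulAut.conj n • R ≤ X := by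
    rw [hl']
    exact (Subgroup.map_mono hRX).trans
      (Coprime.conj_smul_eq_self_of_mem (le_normalizer_core M (hXM hlX))).le
  have h2 := Subgroup.pointwise_smul_le_pointwise_smul_iff (a := MulAut.conj n⁻¹).mpr h1
  rw [Coprime.conj_smul_smul, inv_mul_cancel, map_one, one_smul] at h2
  exact hZR.trans h2

/-- The case in which a Sylow `p`-subgroup of `M` lies in `H`. -/
theorem le_of_sylow_le (hG : IsMinSimpleOddOrder G) {M : Subgroup G} (hM : IsCoatom M) {B : Subgroup G}
    (hI : ∀ Y : Subgroup G, (Nat.card Y).Coprime p → B ≤ normalizer (Y : Set G) → Y ≤ M)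
    {P : Subgroup G} (hPp : IsPGroup p P) (hP1 : P ≠ ⊥) (hBP : B ≤ P)
    (S : Sylow p M) (hS : (S : Subgroup M).map M.subtype = P)
    {H : Subgroup G} (hH : IsCoatom H) (hPH : P ≤ H) : H ≤ M := by
  have hp2 := ne_two_of_minSimple hG hPp hP1
  haveI := isSolvable_of_coatom hG hM
  have hPM : P ≤ M := hS ▸ Subgroup.map_subtype_le _
  set X := core p M with hXdef
  have hX : ∀ Y : Subgroup G, (Nat.card Y).Coprime p → P ≤ normalizer (Y : Set G) → Y ≤ X := fun Y hY hn =>
    le_core_of_sylow_invariant hp2 S (hI Y hY (hBP.trans hn)) hY (hS.symm ▸ hn)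
  have hX1 : X = ⊥ → normalizer (centerThompsonOf p P : Set G) = M := by
    intro h
    refine (hM.le_iff.1 (le_of_zj hG hM.1 S hS (h.le.trans bot_le) inf_le_right)).resolve_left ?_
    exact normalizer_ne_top_of_pgroup hG (hPp.to_le (zj_le P)) (zjOf_ne_bot hPp hP1)
  have hXn : X ≠ ⊥ → normalizer (X : Set G) = M := fun h =>
    normalizer_eq_of_normal hG hM (core_le M) (le_normalizer_core M) h
  have hNP : normalizer (P : Set G) ≤ M := by
    rcases eq_or_ne X ⊥ with h | h
    · exact (normalizer_le_normalizer_zj P).trans (hX1 h).le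
    · intro n hn
      rw [← hXn h]
      refine Coprime.mem_normalizer_of_conj_smul_eq
        (Subgroup.eq_of_le_of_card_ge (hX _ ?_ ?_) (Coprime.card_conj_smul n X).ge)
      · rw [Coprime.card_conj_smul]
        exact coprime_card_core M
      · conv_lhs => rw [← Coprime.conj_smul_eq_self_of_mem hn]
        exact (Subgroup.map_mono (hPM.trans (le_normalizer_core M))).trans (Subgroup.le_normalizer_map _)
  obtain ⟨SG, hSG⟩ := hPp.exists_le_sylow
  have hPeq : (SG : Subgroup G) = P := by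
    by_contra hne
    have h1 := lt_inf_normalizer SG.2.isNilpotent (lt_of_le_of_ne hSG (Ne.symm hne))
    refine h1.not_ge ?_
    have hle : (SG : Subgroup G) ⊓ normalizer (P : Set G) ≤ M := inf_le_right.trans hNP
    have h2 := S.3 ((SG.2.to_le inf_le_left).comap_of_injective M.subtype M.subtype_injective)
      (fun x hx => show (x : G) ∈ _ from h1.le (hS.le ⟨x, hx, rfl⟩))
    refine le_trans ?_ hS.le
    rw [← h2]
    exact (Subgroup.map_subgroupOf_eq_of_le hle).ge
  subst hPeq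
  have hsub : ∀ {L : Subgroup G} (h : (SG : Subgroup G) ≤ L),
      ((SG.subtype h : Sylow p L) : Subgroup L).map L.subtype = SG := fun {L} h => by
    rw [SG.coe_subtype, Subgroup.map_subgroupOf_eq_of_le h]
  have hcore : ∀ {L : Subgroup G}, (SG : Subgroup G) ≤ L → core p L ≤ M := fun {L} h =>
    hI _ (coprime_card_core L) (hBP.trans (h.trans (le_normalizer_core L)))
  by_cases hr : PRankLE p 2 (SG : Subgroup G)
  · exact le_of_rankTwo hG hH.1 _ (hsub hPH) hr (hcore hPH) (inf_le_right.trans hNP)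
  refine le_of_zj hG hH.1 _ (hsub hPH) (hcore hPH) (inf_le_right.trans ?_)
  rcases eq_or_ne X ⊥ with h | hXne
  · exact (hX1 h).le
  refine le_of_forall_coatom (normalizer_ne_top_of_pgroup hG (hPp.to_le (zj_le _)) (zjOf_ne_bot hPp hP1))
    fun L hL hYL => eq_of_coatom_le hL hM ?_
  have hPL : (SG : Subgroup G) ≤ L :=
    (Subgroup.le_normalizer.trans (normalizer_le_normalizer_zj _)).trans hYL
  haveI := isSolvable_of_coatom hG hL
  obtain ⟨A, hSCN, hAc, hA3⟩ := exists_scn_three hp2 hPp hr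
  set SL : Sylow p L := SG.subtype hPL with hSL
  set K := pPrimePCore p L with hK
  set Q₀ := (SL : Subgroup L) ⊓ K with hQ₀
  have hsup : Q₀ ⊔ pPrimeCore p L = K := Replacement.sylow_inf_sup_eq SL PCore.pPrimeCore_le_pPrimePCore
    (by rw [PCore.map_pPrimePCore]; exact PCore.isPGroup_pCore)
  have hfr := Replacement.sup_normalizer_eq_top SL (hsup.symm ▸ inferInstance : (Q₀ ⊔ pPrimeCore p L).Normal)
    (by rw [hsup])
  set Q := Q₀.map L.subtype with hQ
  have hQP : Q ≤ (SG : Subgroup G) := (Subgroup.map_mono inf_le_left).trans (hsub hPL).le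
  have hPQ : (SG : Subgroup G) ≤ normalizer (Q : Set G) := by
    refine (hsub hPL).ge.trans ((Subgroup.map_mono ?_).trans (Subgroup.le_normalizer_map _))
    refine le_trans (le_inf Subgroup.le_normalizer ?_) Subgroup.inf_normalizer_le_normalizer_inf
    rw [Subgroup.normalizer_eq_top_iff.mpr inferInstance]
    exact le_top
  have hAL : A ≤ L := hSCN.1.trans hPL
  have hAQ : A ≤ Q := by
    refine (Subgroup.map_subgroupOf_eq_of_le hAL).ge.trans (Subgroup.map_mono (le_inf ?_ ?_))
    · rw [hSL, SG.coe_subtype]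
      exact fun a ha => hSCN.1 ha
    · refine S1457.result (odd_subgroup hG.1 L) p SL _ ?_ ?_ ?_
      · rw [hSL, SG.coe_subtype]
        exact fun a ha => hSCN.1 ha
      · exact PGroup.isMulCommutative_of_forall fun a ha b hb =>
          Subtype.ext (PGroup.mul_comm_of_isMulCommutative hAc ha hb)
      · rw [hSL, SG.coe_subtype]
        exact fun a ha => Subgroup.mem_normalizer_iff.mpr fun w =>
          Subgroup.mem_normalizer_iff.mp (hSCN.2.1 ha) w
  have h3 := congrArg (Subgroup.map L.subtype) hfr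
  rw [Subgroup.map_sup, ← MonoidHom.range_eq_map, Subgroup.range_subtype] at h3
  rw [← h3]
  refine sup_le (hcore hPL) ((Subgroup.le_normalizer_map _).trans ?_)
  rw [← hXn hXne]
  exact normalizer_le_normalizer_core hG hM SG hPM hSCN hAc hA3 hAQ hQP hPQ hX

/-- Uniqueness from `И(B; p') ⊆ M`. -/
theorem uniqueness (hG : IsMinSimpleOddOrder G) {M : Subgroup G} (hM : IsCoatom M) {B : Subgroup G}
    (hBM : B ≤ M) (hBp : IsPGroup p B) (hB1 : B ≠ ⊥)
    (hI : ∀ Y : Subgroup G, (Nat.card Y).Coprime p → B ≤ normalizer (Y : Set G) → Y ≤ M) :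
    InUniqueMaximal B := by
  refine ⟨M, ⟨hM, hBM⟩, ?_⟩
  by_contra hne
  push Not at hne
  obtain ⟨H₀, ⟨hH₀, hBH₀⟩, hH₀M⟩ := hne
  let s : Set (Subgroup G × Subgroup G) :=
    {x | IsCoatom x.1 ∧ x.1 ≠ M ∧ IsPGroup p x.2 ∧ B ≤ x.2 ∧ x.2 ≤ x.1 ⊓ M}
  obtain ⟨⟨H, R⟩, ⟨hH, hHM, hR, hBR, hRHM⟩, hmax⟩ := Set.exists_max_image s
    (fun x => Nat.card x.2) (Set.toFinite s) ⟨(H₀, B), hH₀, hH₀M, hBp, le_rfl, le_inf hBH₀ hBM⟩
  have hR1 : R ≠ ⊥ := ne_bot_of_le_ne_bot hB1 hBR
  have hkey : ∀ {L R' : Subgroup G}, IsCoatom L → IsPGroup p R' → R < R' → R' ≤ L → R' ≤ M → L = M := by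
    intro L R' hL hR' hlt hR'L hR'M
    by_contra hLM
    exact hlt.ne (Subgroup.eq_of_le_of_card_ge hlt.le
      (hmax (L, R') ⟨hL, hLM, hR', hBR.trans hlt.le, le_inf hR'L hR'M⟩))
  refine hHM (eq_of_coatom_le hH hM ?_)
  have hRH : R ≤ H := hRHM.trans inf_le_left
  have hRM : R ≤ M := hRHM.trans inf_le_right
  obtain ⟨S, hS⟩ := (hR.comap_of_injective M.subtype M.subtype_injective).exists_le_sylow
  set P := (S : Subgroup M).map M.subtype with hP
  have hPp : IsPGroup p P := S.2.map _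
  have hRP : R ≤ P := (Subgroup.map_subgroupOf_eq_of_le hRM).ge.trans (Subgroup.map_mono hS)
  rcases eq_or_lt_of_le hRP with heq | hlt
  · exact le_of_sylow_le hG hM hI hPp (ne_bot_of_le_ne_bot hR1 hRP) (hBR.trans hRP) S rfl hH (heq ▸ hRH)
  have h1 := lt_inf_normalizer hPp.isNilpotent hlt
  have hP₁ : IsPGroup p (P ⊓ normalizer (R : Set G) : Subgroup G) := hPp.to_le inf_le_left
  have hP₁M : P ⊓ normalizer (R : Set G) ≤ M := inf_le_left.trans (Subgroup.map_subtype_le _)
  have hX : ∀ {T : Subgroup G}, T ≠ ⊤ → P ⊓ normalizer (R : Set G) ≤ T → T ≤ M := fun {T} hT hle =>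
    le_of_forall_coatom hT fun L hL hTL => hkey hL hP₁ h1 (hle.trans hTL) hP₁M
  have hNR : normalizer (R : Set G) ≤ M := hX (normalizer_ne_top_of_pgroup hG hR hR1) inf_le_right
  have hNY : normalizer (centerThompsonOf p R : Set G) ≤ M :=
    hX (normalizer_ne_top_of_pgroup hG (hR.to_le (zj_le R)) (zjOf_ne_bot hR hR1))
      (inf_le_right.trans (normalizer_le_normalizer_zj R))
  obtain ⟨T, hT⟩ := (hR.comap_of_injective H.subtype H.subtype_injective).exists_le_sylow
  have hRT : R ≤ (T : Subgroup H).map H.subtype :=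
    (Subgroup.map_subgroupOf_eq_of_le hRH).ge.trans (Subgroup.map_mono hT)
  rcases eq_or_lt_of_le hRT with heq | hlt'
  · exact le_of_zj hG hH.1 T heq.symm
      (hI _ (coprime_card_core H) ((hBR.trans hRH).trans (le_normalizer_core H)))
      (inf_le_right.trans hNY)
  · have h2 := lt_inf_normalizer (T.2.map H.subtype).isNilpotent hlt'
    exact (hkey hH ((T.2.map H.subtype).to_le inf_le_left) h2
      (inf_le_left.trans (Subgroup.map_subtype_le _)) (inf_le_right.trans hNR)).le

/-- Let G be a minimal simple group of odd order, M a maximal subgroup, p a prime, and B a noncyclic elementary abelian p-subgroup of M. If C_G(b) ≤ M for every non-identity b ∈ B, or if every subgroup of G of order coprime to p normalized by B is contained in M, then M is the only maximal subgroup of G containing B. -/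
theorem result {G : Type*} [Group G] [Finite G] (hG : Cfsg.IsMinSimpleOddOrder G)
    (M : Subgroup G) (hM : IsCoatom M) (p : ℕ) [Fact p.Prime] (B : Subgroup G) (hBM : B ≤ M)
    (hBe : Cfsg.IsElementaryAbelian p B) (hBnc : ¬ IsCyclic B)
    (h : (∀ b ∈ B, b ≠ 1 → Subgroup.centralizer ({b} : Set G) ≤ M) ∨
      ∀ Y ∈ Cfsg.invSubgroups ⊤ B (Cfsg.primesNotDvd p), Y ≤ M) :
    Cfsg.InUniqueMaximal B := by
  have hBp : IsPGroup p B := PGroup.isPGroup_of_elementaryAbelian hBe
  have hB1 : B ≠ ⊥ := fun h => hBnc (by subst h; infer_instance)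
  refine uniqueness hG hM hBM hBp hB1 fun Y hY hn => ?_
  rcases h with h | h
  · haveI := hBe.1
    obtain ⟨k, hk⟩ := hBp.exists_card_eq
    refine inf_eq_left.1 (Coprime.eq_of_forall_centralizer_le hBnc hn ?_ inf_le_left
      fun a ha ha1 => le_inf inf_le_left (inf_le_right.trans (h a ha ha1)))
    rw [hk]
    exact hY.symm.pow_left k
  · exact h Y (mem_invSubgroups_primesNotDvd hY hn)

end Cfsg.Agent.S1398
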