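import Cfsg.Statements.S1402
import Cfsg.Agent.Lib.OddOrder.UniquenessConfig
import Cfsg.Agent.S1396
-- import your own Cfsg.Agent.* helpers here

set_option autoImplicit false
open Cfsg

namespace Cfsg.Agent.S1402

/-- Let G be a minimal simple group of odd order, p a prime, P a Sylow p-subgroup of G and A a normal subgroup of P with C_P(A) = A containing an elementary abelian subgroup of order p ^ 3. Then A lies in exactly one maximal subgroup of G. -/
theorem result {G : Type*} [Group G] [Finite G] (hG : Cfsg.IsMinSimpleOddOrder G)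
    (p : ℕ) [Fact p.Prime] (P : Sylow p G) (A : Subgroup G) (hA : Cfsg.IsSCN (P : Subgroup G) A) (hA3 : ¬ Cfsg.PRankLE p 2 ↥A) :
    Cfsg.InUniqueMaximal A := by
  have hp : p.Prime := Fact.out
  by_contra hnu
  have hAc : IsMulCommutative A := PGroup.isMulCommutative_of_forall fun a ha b hb =>
    (Subgroup.mem_centralizer_iff.1 (hA.2.2.ge hb).2 a ha)
  have hAp : IsPGroup p A := P.2.to_le hA.1
  let A₁ : Subgroup G :=
    { carrier := {x | x ∈ A ∧ x ^ p = 1}
      one_mem' := ⟨one_mem _, one_pow _⟩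
      mul_mem' := fun {a b} ha hb => ⟨mul_mem ha.1 hb.1, by
        rw [(show Commute a b from PGroup.mul_comm_of_isMulCommutative hAc ha.1 hb.1).mul_pow, ha.2, hb.2,
          one_mul]⟩
      inv_mem' := fun {a} ha => ⟨inv_mem ha.1, by rw [inv_pow, ha.2, inv_one]⟩ }
  have hle : A₁ ≤ A := fun x hx => hx.1
  have hel : IsElementaryAbelian p A₁ := PGroup.isElementaryAbelian_of_forall
    (fun a ha b hb => PGroup.mul_comm_of_isMulCommutative hAc ha.1 hb.1) fun a ha => ha.2
  obtain ⟨E, hEA, hE, hE3⟩ := OddOrder.exists_elementary_cube hA3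
  have hcube : p ^ 3 ≤ Nat.card A₁ :=
    hE3.trans (Subgroup.card_le_of_le fun x hx => (⟨hEA hx, hE.2 x hx⟩ : x ∈ A₁))
  have hA₁u : ¬ InUniqueMaximal A₁ := fun h =>
    hnu (OddOrder.inUniqueMaximal_of_le h hle (OddOrder.ne_top_of_isPGroup hG hAp))
  have hA1 : A ≠ ⊥ := fun h => hA3 fun B _ _ => by
    refine B.card_le_card_group.trans ?_
    rw [h, Subgroup.card_bot]
    exact Nat.one_le_pow _ _ hp.pos
  have hpG : p ∣ Nat.card G := by
    obtain ⟨k, hk⟩ := hAp.exists_card_eq
    have hk0 : k ≠ 0 := fun h => hA1 (Subgroup.card_eq_one.1 (by rw [hk, h, pow_zero]))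
    exact (hk ▸ dvd_pow_self p hk0).trans A.card_subgroup_dvd_card
  refine OddOrder.false_of_setup hG (A := A) (A₁ := A₁) ⟨hAp, hAc, hle, hel, hcube, ?_, ?_, ?_, ?_⟩ P hA.1
  · exact S1396.result hG p hpG A hAp hAc (Or.inr ⟨P, hA, fun h => hA3 fun B hB hB' =>
      (h B hB hB').trans (Nat.pow_le_pow_right hp.pos (by norm_num))⟩)
  · rw [inf_eq_left.2 (PGroup.le_centralizer_of_isMulCommutative hAc)]
    exact fun h => hA3 (h p hp)
  · intro B hB hB2 hBu
    exact hA₁u (OddOrder.inUniqueMaximal_of_commute hG hBu hel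
      ((Nat.pow_le_pow_right hp.pos (by norm_num)).trans hcube)
      ((PGroup.le_centralizer_of_isMulCommutative hel.1).trans (Subgroup.centralizer_le hB)))
  · intro M hM
    by_contra hF
    exact hA₁u (S1401.elementary_unique hG hM hF hel hcube)

end Cfsg.Agent.S1402
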