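import Cfsg.Statements.S1403
import Cfsg.Agent.S1402
-- import your own Cfsg.Agent.* helpers here

set_option autoImplicit false
open Cfsg

namespace Cfsg.Agent.S1403

/-- Let G be a minimal simple group of odd order and K a proper subgroup having an elementary abelian subgroup of order p ^ 2 for some prime p. If K, or its centralizer C_G(K), has an elementary abelian subgroup of order q ^ 3 for some prime q, then K lies in exactly one maximal subgroup of G. -/
theorem result {G : Type*} [Group G] [Finite G] (hG : Cfsg.IsMinSimpleOddOrder G)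
    (K : Subgroup G) (hK : K ≠ ⊤) (hK2 : ¬ Cfsg.RankLE 1 K)
    (hK3 : ¬ Cfsg.RankLE 2 K ∨ ¬ Cfsg.RankLE 2 (Subgroup.centralizer (K : Set G))) :
    Cfsg.InUniqueMaximal K := by
  have hall : ∀ (H : Subgroup G), ¬ RankLE 2 H → ∃ (q : ℕ) (E : Subgroup G), q.Prime ∧ E ≤ H ∧
      InUniqueMaximal E := by
    intro H h
    simp only [RankLE, not_forall] at h
    obtain ⟨q, hq, hr⟩ := h
    haveI := Fact.mk hq
    obtain ⟨E, hEH, hE, hE3⟩ := OddOrder.exists_elementary_cube hr
    refine ⟨q, E, hq, hEH, ?_⟩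
    have hEp : IsPGroup q E := PGroup.isPGroup_of_elementaryAbelian hE
    obtain ⟨P, hP⟩ := hEp.exists_le_sylow
    have hE1 : E ≠ ⊥ := fun h => by
      rw [h, Subgroup.card_bot] at hE3
      exact absurd hE3 (Nat.one_lt_pow (by norm_num) hq.one_lt).not_ge
    have hrP : ¬ PRankLE q 2 (P : Subgroup G) := fun h => by
      have h2 := OddOrder.pRankLE_of_le hP h ⊤
        ⟨⟨fun a b => Subtype.ext (Subtype.ext (PGroup.mul_comm_of_elementaryAbelian hE a.1.2 b.1.2))⟩⟩
        fun x _ => Subtype.ext (hE.2 x x.2)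
      rw [Subgroup.card_top] at h2
      exact absurd (hE3.trans h2) (Nat.pow_lt_pow_right hq.one_lt (by norm_num)).not_ge
    obtain ⟨A, hA, hAc, hA3⟩ := S1398.exists_scn_three (OddOrder.ne_two_of_minSimple hG hEp hE1) P.2 hrP
    exact OddOrder.elementary_unique_of_abelian hG hAc hA3 (S1402.result hG q P A hA hA3) hE hE3
  rcases hK3 with h | h
  · obtain ⟨q, E, -, hEK, hE⟩ := hall K h
    exact OddOrder.inUniqueMaximal_of_le hE hEK hK
  · obtain ⟨q, E, -, hEC, hE⟩ := hall _ h
    exact S1399.result hG E K hE (Subgroup.le_centralizer_iff.1 hEC) hK2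

end Cfsg.Agent.S1403
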