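import Cfsg.Statements.S4225
import Mathlib
import Cfsg.Agent.Lib.PGroup.ElementaryAbelian

set_option autoImplicit false
open Cfsg

namespace Cfsg.Agent.S4225

section helpers

open scoped commutatorElement

variable {G : Type*} [Group G] {p : ℕ}

/-- the commutator subgroup of a two-generated subgroup lies in any normalised subgroup containing the commutator of the generators -/
theorem derived_pair_le {W : Subgroup G} {a b : G} (ha : a ∈ Subgroup.normalizer (W : Set G))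
    (hb : b ∈ Subgroup.normalizer (W : Set G)) (hab : a⁻¹ * b⁻¹ * a * b ∈ W) :
    ⁅Subgroup.closure ({a, b} : Set G), Subgroup.closure ({a, b} : Set G)⁆ ≤ W := by
  set N := Subgroup.normalizer (W : Set G) with hN
  have hK : Subgroup.closure ({a, b} : Set G) ≤ N :=
    (Subgroup.closure_le _).2 (Set.insert_subset ha (Set.singleton_subset_iff.2 hb))
  have : (W.subgroupOf N).Normal := Subgroup.normal_in_normalizer
  let q : N →* N ⧸ W.subgroupOf N := QuotientGroup.mk' _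
  have hcomm : q ⟨a, ha⟩ * q ⟨b, hb⟩ = q ⟨b, hb⟩ * q ⟨a, ha⟩ := by
    rw [← map_mul, ← map_mul]
    symm
    apply QuotientGroup.eq.2
    rw [Subgroup.mem_subgroupOf]
    simpa [mul_assoc] using hab
  set S : Set N := {⟨a, ha⟩, ⟨b, hb⟩} with hS
  have hgen : Subgroup.closure ({a, b} : Set G) = (Subgroup.closure S).map N.subtype := by
    rw [MonoidHom.map_closure, hS, Set.image_pair]
    rfl
  have hIm : ∀ u ∈ Subgroup.closure S, ∀ v ∈ Subgroup.closure S, q u * q v = q v * q u := by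
    intro u hu v hv
    have hc := Subgroup.isMulCommutative_closure (k := q '' S) (by
      rw [hS, Set.image_pair]
      rintro x (rfl | rfl) y (rfl | rfl)
      all_goals first | rfl | exact hcomm | exact hcomm.symm)
    rw [← MonoidHom.map_closure] at hc
    exact congrArg Subtype.val (hc.is_comm.comm ⟨_, Subgroup.mem_map_of_mem q hu⟩ ⟨_, Subgroup.mem_map_of_mem q hv⟩)
  rw [hgen, ← Subgroup.map_commutator, Subgroup.map_le_iff_le_comap, Subgroup.commutator_le]
  intro u hu v hv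
  have h1 : q ⁅u, v⁆ = 1 := by
    rw [map_commutatorElement, commutatorElement_eq_one_iff_mul_comm]
    exact hIm u hu v hv
  exact Subgroup.mem_subgroupOf.1 ((QuotientGroup.eq_one_iff _).1 h1)

/-- the key identity: `(ab)^(p^n) = a^(p^n) b^(p^n)` if `[a,b]` lies in a normalised subgroup of exponent `p^n` -/
theorem mul_pow_of_commutator (hG : Cfsg.IsRegularPGroup p G) {W : Subgroup G} {n : ℕ}
    (hW : ∀ w ∈ W, w ^ p ^ n = 1) {a b : G} (ha : a ∈ Subgroup.normalizer (W : Set G))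
    (hb : b ∈ Subgroup.normalizer (W : Set G)) (hab : a⁻¹ * b⁻¹ * a * b ∈ W) :
    (a * b) ^ p ^ n = a ^ p ^ n * b ^ p ^ n := by
  obtain ⟨c, hc, he⟩ := hG.2 a b n
  have hbot : Cfsg.powerClosure p n ⁅Subgroup.closure ({a, b} : Set G), Subgroup.closure ({a, b} : Set G)⁆ ≤ ⊥ :=
    PGroup.powerClosure_le_iff.2 fun x hx => Subgroup.mem_bot.2 (hW x (derived_pair_le ha hb hab hx))
  rw [he, Subgroup.mem_bot.1 (hbot hc), mul_one]

variable [Finite G]

/-- a maximal normal subgroup of a subgroup of a `p`-group -/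
theorem exists_maximal_in [Fact p.Prime] (hG : IsPGroup p G) {K : Subgroup G} {x : G} (hx : x ∈ K)
    (hne : ¬ K ≤ Subgroup.zpowers x) :
    ∃ M : Subgroup G, M < K ∧ x ∈ M ∧ (∀ g ∈ K, ∀ m ∈ M, g * m * g⁻¹ ∈ M) ∧
      ∀ g ∈ K, ∀ h ∈ K, g⁻¹ * h⁻¹ * g * h ∈ M := by
  have hle : Subgroup.zpowers (⟨x, hx⟩ : K) ≠ ⊤ := by
    intro h
    apply hne
    intro k hk
    obtain ⟨i, hi⟩ := Subgroup.mem_zpowers_iff.1 (h ▸ Subgroup.mem_top (⟨k, hk⟩ : K))
    exact Subgroup.mem_zpowers_iff.2 ⟨i, by simpa using congrArg Subtype.val hi⟩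
  obtain ⟨M, hM, hxM⟩ := (eq_top_or_exists_le_coatom _).resolve_left hle
  have hGK : IsPGroup p K := hG.to_subgroup K
  have hn := PGroup.normal_of_isCoatom hGK hM
  have hc := PGroup.commutator_le_of_index_eq M (PGroup.index_of_isCoatom hGK hM)
  refine ⟨M.map K.subtype, ?_, ⟨_, hxM (Subgroup.mem_zpowers _), rfl⟩, ?_, ?_⟩
  · refine lt_of_le_of_ne (Subgroup.map_subtype_le _) fun h => hM.1 ?_
    rw [eq_top_iff]
    intro k _
    obtain ⟨m, hm, hmk⟩ : (k : G) ∈ M.map K.subtype := h.symm ▸ k.2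
    rwa [← Subtype.ext hmk]
  · rintro g hg _ ⟨m, hm, rfl⟩
    exact ⟨_, hn.conj_mem m hm ⟨g, hg⟩, rfl⟩
  · intro g hg h hh
    refine ⟨(⟨g, hg⟩ : K)⁻¹ * (⟨h, hh⟩ : K)⁻¹ * ⟨g, hg⟩ * ⟨h, hh⟩, hc ?_, rfl⟩
    have hmem := Subgroup.commutator_mem_commutator (Subgroup.mem_top (⟨g, hg⟩ : K)⁻¹)
      (Subgroup.mem_top (⟨h, hh⟩ : K)⁻¹)
    rw [commutatorElement_def, inv_inv, inv_inv] at hmem
    exact hmem

theorem omega_mul [Fact p.Prime] (hG : Cfsg.IsRegularPGroup p G) (n : ℕ) (K : Subgroup G) :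
    ∀ x ∈ K, ∀ y ∈ K, x ^ p ^ n = 1 → y ^ p ^ n = 1 → (x * y) ^ p ^ n = 1 := by
  induction K using WellFoundedLT.induction with
  | ind K ih =>
    intro x hx y hy hxq hyq
    set L := Subgroup.closure ({x, y} : Set G) with hL
    have hxL : x ∈ L := Subgroup.subset_closure (Set.mem_insert x _)
    have hyL : y ∈ L := Subgroup.subset_closure (Set.mem_insert_of_mem x rfl)
    have hLK : L ≤ K := (Subgroup.closure_le _).2 (Set.insert_subset hx (Set.singleton_subset_iff.2 hy))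
    rcases hLK.eq_or_lt with heq | hlt
    swap
    · exact ih L hlt x hxL y hyL hxq hyq
    by_cases hcyc : K ≤ Subgroup.zpowers x
    · obtain ⟨i, hi⟩ := Subgroup.mem_zpowers_iff.1 (hcyc hy)
      rw [(hi ▸ (Commute.refl x).zpow_right i : Commute x y).mul_pow, hxq, hyq, one_mul]
    obtain ⟨M, hMK, hxM, hMn, hMc⟩ := exists_maximal_in hG.1 hx hcyc
    let W : Subgroup G :=
      { carrier := {u | u ∈ M ∧ u ^ p ^ n = 1}
        one_mem' := ⟨M.one_mem, one_pow _⟩
        mul_mem' := fun {u v} hu hv => ⟨M.mul_mem hu.1 hv.1, ih M hMK u hu.1 v hv.1 hu.2 hv.2⟩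
        inv_mem' := fun {u} hu => ⟨M.inv_mem hu.1, by rw [inv_pow, hu.2, inv_one]⟩ }
    have hfwd : ∀ g ∈ K, ∀ u ∈ W, g * u * g⁻¹ ∈ W := fun g hg u hu =>
      ⟨hMn g hg u hu.1, by rw [conj_pow, hu.2, mul_one, mul_inv_cancel]⟩
    have hnorm : K ≤ Subgroup.normalizer (W : Set G) := by
      intro g hg
      rw [Subgroup.mem_normalizer_iff]
      intro u
      refine ⟨hfwd g hg u, fun hu => ?_⟩
      have := hfwd g⁻¹ (K.inv_mem hg) _ hu
      simpa [mul_assoc] using this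
    have hz : x⁻¹ * y⁻¹ * x * y ∈ W := by
      have e : x⁻¹ * y⁻¹ * x * y = x⁻¹ * (y⁻¹ * x * (y⁻¹)⁻¹) := by group
      rw [e]
      exact W.mul_mem ⟨M.inv_mem hxM, by rw [inv_pow, hxq, inv_one]⟩
        (hfwd _ (K.inv_mem hy) x ⟨hxM, hxq⟩)
    rw [mul_pow_of_commutator hG (W := W) (fun w hw => hw.2) (hnorm hx) (hnorm hy) hz, hxq, hyq, one_mul]

/-- `Ω_k` of a regular `p`-group -/
def omega [Fact p.Prime] (hG : Cfsg.IsRegularPGroup p G) (k : ℕ) : Subgroup G where
  carrier := {x | x ^ p ^ k = 1}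
  one_mem' := one_pow _
  mul_mem' := fun {x y} hx hy => omega_mul hG k ⊤ x (Subgroup.mem_top x) y (Subgroup.mem_top y) hx hy
  inv_mem' := fun {x} (hx : x ^ p ^ k = 1) => show x⁻¹ ^ p ^ k = 1 by rw [inv_pow, hx, inv_one]

theorem omega_normal [Fact p.Prime] (hG : Cfsg.IsRegularPGroup p G) (k : ℕ) : (omega hG k).Normal :=
  ⟨fun x (hx : x ^ p ^ k = 1) g => show (g * x * g⁻¹) ^ p ^ k = 1 by rw [conj_pow, hx, mul_one, mul_inv_cancel]⟩

theorem omega_characteristic [Fact p.Prime] (hG : Cfsg.IsRegularPGroup p G) (k : ℕ) :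
    (omega hG k).Characteristic := by
  refine Subgroup.characteristic_iff_le_comap.2 fun φ x (hx : x ^ p ^ k = 1) => ?_
  show (φ x) ^ p ^ k = 1
  rw [← map_pow, hx, map_one]

/-- in a regular `p`-group, `(ab)^(p^k) = a^(p^k) b^(p^k)` as soon as `[a,b]^(p^k) = 1` -/
theorem mul_pow_of_omega [Fact p.Prime] (hG : Cfsg.IsRegularPGroup p G) {k : ℕ} {a b : G}
    (hab : (a⁻¹ * b⁻¹ * a * b) ^ p ^ k = 1) : (a * b) ^ p ^ k = a ^ p ^ k * b ^ p ^ k := by
  have hn := omega_normal hG k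
  have htop : Subgroup.normalizer ((omega hG k : Subgroup G) : Set G) = ⊤ :=
    Subgroup.normalizer_eq_top_iff.2 hn
  exact mul_pow_of_commutator hG (fun w hw => hw) (htop ▸ Subgroup.mem_top a) (htop ▸ Subgroup.mem_top b) hab

end helpers

/-- In a regular `p`-group, for every `k` the elements whose `p^k`-th power is `1` form a characteristic subgroup. -/
theorem result {G : Type*} [Group G] [Finite G] {p : ℕ} [Fact p.Prime] (hG : Cfsg.IsRegularPGroup p G) (k : ℕ) : ∃ H : Subgroup G, H.Characteristic ∧ (H : Set G) = {x : G | x ^ p ^ k = 1} := by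
  exact ⟨omega hG k, omega_characteristic hG k, rfl⟩

end Cfsg.Agent.S4225
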