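import Cfsg.Statements.S1406
import Cfsg.Agent.Lib.OddOrder.AlphaCore
import Cfsg.Agent.Lib.OddOrder.Elementary
import Cfsg.Agent.Lib.OddOrder.Narrow
-- import your own Cfsg.Agent.* helpers here

set_option autoImplicit false
open Cfsg

namespace Cfsg.Agent.S1406

/-- Let G be a minimal simple group of odd order, M a maximal subgroup, and X a subgroup of M no prime divisor of whose order lies in α(M). If M_α ∩ C_G(X) has an elementary abelian subgroup of order p ^ 2 for some prime p, then C_M(X) is contained in exactly one maximal subgroup of G. -/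
theorem result {G : Type*} [Group G] [Finite G] (hG : Cfsg.IsMinSimpleOddOrder G)
    (M : Subgroup G) (hM : IsCoatom M) (X : Subgroup G) (hXM : X ≤ M) (hXα : ∀ p : ℕ, p.Prime → p ∣ Nat.card X → p ∉ Cfsg.alpha M)
    (hr : ¬ Cfsg.RankLE 1 ↥(Cfsg.alphaCore M ⊓ Subgroup.centralizer (X : Set G))) :
    Cfsg.InUniqueMaximal (M ⊓ Subgroup.centralizer (X : Set G)) := by
  obtain ⟨r, hrp, E, hEle, hE2, hEexp, hEcomm⟩ := OddOrder.exists_elementary_of_not_rankLE hr
  clear hr
  have hr : r.Prime := hrp
  haveI := Fact.mk hr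
  have hE : Cfsg.IsElementaryAbelian r E := PGroup.isElementaryAbelian_of_forall hEcomm hEexp
  rw [show (1 + 1 : ℕ) = 2 from rfl] at hE2
  set K := Cfsg.alphaCore M with hK
  have hKM : K ≤ M := OddOrder.piCoreOf_le _ M
  have hEK : E ≤ K := hEle.trans inf_le_left
  have hEX : E ≤ Subgroup.centralizer (X : Set G) := hEle.trans inf_le_right
  have htop : (M ⊓ Subgroup.centralizer (X : Set G)) ≠ ⊤ := fun h => hM.1 (top_unique (h ▸ inf_le_left))
  by_cases hC : Cfsg.RankLE 2 (Subgroup.centralizer (E : Set G))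
  swap
  · exact OddOrder.inUniqueMaximal_of_le (S1403.result hG E
      (OddOrder.ne_top_of_isPGroup hG (PGroup.isPGroup_of_elementaryAbelian hE))
      (OddOrder.not_rankLE_one_of_elementary hE hE2.ge) (Or.inr hC)) (le_inf (hEK.trans hKM) hEX) htop
  haveI := OddOrder.isSolvable_of_coatom hG hM
  have hXK : X ≤ Subgroup.normalizer (K : Set G) := hXM.trans (OddOrder.le_normalizer_piCoreOf _ M)
  have hcop : (Nat.card X).Coprime (Nat.card K) := Nat.coprime_of_dvd fun l hl h1 h2 =>
    hXα l hl h1 (OddOrder.isPiGrp_piCoreOf (Cfsg.alpha M) M l hl h2)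
  have hXE : X ≤ Subgroup.normalizer (E : Set G) :=
    (Subgroup.le_centralizer_iff.1 hEX).trans (Subgroup.centralizer_le_normalizer _)
  obtain ⟨R, hER, hXR⟩ := Coprime.exists_invariant_sylow_ge hXK hcop
    (Or.inr (Coprime.isSolvable_of_le hKM inferInstance)) hEK (PGroup.isPGroup_of_elementaryAbelian hE) hXE
  have hra : r ∈ Cfsg.alpha M := by
    refine OddOrder.isPiGrp_piCoreOf (Cfsg.alpha M) M r hr ((?_ : r ∣ Nat.card E).trans (Subgroup.card_dvd_of_le hEK))
    exact hE2 ▸ dvd_pow_self r (by norm_num)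
  set R' := (R : Subgroup K).map K.subtype with hR'
  have hR'p : IsPGroup r R' := R.2.map _
  obtain ⟨S, hS⟩ := OddOrder.exists_sylow_map_ge hR'p ((Subgroup.map_subtype_le _).trans hKM)
  have hSeq : R' = (S : Subgroup M).map M.subtype := by
    refine le_antisymm hS ?_
    have hSK := OddOrder.sylow_le_alphaCore hG hM hra S
    have h := R.3 ((S.2.map M.subtype).comap_of_injective K.subtype K.subtype_injective)
      (fun x hx => hS ⟨x, hx, rfl⟩)
    exact (Subgroup.map_subgroupOf_eq_of_le hSK).ge.trans (Subgroup.map_mono h.le)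
  have hR3 : ¬ Cfsg.PRankLE r 2 R' := hSeq ▸ OddOrder.not_pRankLE_sylow hra.2 S
  have hR1 : R' ≠ ⊥ := fun h => hR3 fun B _ _ => by
    refine B.card_le_card_group.trans ?_
    rw [h, Subgroup.card_bot]
    exact Nat.one_le_pow _ _ hr.pos
  have hr2 : r ≠ 2 := OddOrder.ne_two_of_minSimple hG hR'p hR1
  -- `X` centralises `R'`
  have hXC : X ≤ Subgroup.centralizer (R' : Set G) := by
    intro x hx
    set N := Subgroup.normalizer (R' : Set G)
    haveI : (R'.subgroupOf N).Normal :=
      (Subgroup.normal_subgroupOf_iff_le_normalizer Subgroup.le_normalizer).2 le_rfl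
    let e := (Subgroup.subgroupOfEquivOfLe (Subgroup.le_normalizer : R' ≤ N))
    have hrU : ¬ Cfsg.PRankLE r 2 (R'.subgroupOf N) := fun h => hR3
      (OddOrder.pRankLE_of_injective (f := e.symm.toMonoidHom) e.symm.injective h)
    set E₀ := (E.subgroupOf N).subgroupOf (R'.subgroupOf N) with hE₀def
    have hE₀ : Cfsg.IsElementaryAbelian r E₀ := PGroup.isElementaryAbelian_of_forall
      (fun a ha b hb => Subtype.ext (Subtype.ext (PGroup.mul_comm_of_elementaryAbelian hE ha hb)))
      fun a ha => Subtype.ext (Subtype.ext (hE.2 _ ha))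
    have hE₀2 : Nat.card E₀ = r ^ 2 := by
      rw [hE₀def, Coprime.card_subgroupOf (show E.subgroupOf N ≤ R'.subgroupOf N from fun a ha => hER ha), Coprime.card_subgroupOf (hER.trans Subgroup.le_normalizer), hE2]
    have hmax : ∀ B : Subgroup (R'.subgroupOf N), Cfsg.IsElementaryAbelian r B → E₀ ≤ B → B = E₀ := by
      intro B hB hle
      set B' := B.map ((N.subtype).comp (R'.subgroupOf N).subtype) with hB'
      have hB'e : Cfsg.IsElementaryAbelian r B' := PGroup.isElementaryAbelian_map hB _
      have hEB : E ≤ B' := fun a ha =>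
        ⟨⟨⟨a, Subgroup.le_normalizer (hER ha)⟩, hER ha⟩, hle ha, rfl⟩
      have hB'2 : Nat.card B' ≤ r ^ 2 := by
        have hBC : B' ≤ Subgroup.centralizer (E : Set G) :=
          (PGroup.le_centralizer_of_isMulCommutative hB'e.1).trans (Subgroup.centralizer_le hEB)
        rw [← Coprime.card_subgroupOf hBC]
        exact hC r hr _ (PGroup.isMulCommutative_of_forall fun a ha b hb =>
          Subtype.ext (PGroup.mul_comm_of_elementaryAbelian hB'e ha hb)) fun a ha => Subtype.ext (hB'e.2 _ ha)
      refine (Subgroup.eq_of_le_of_card_ge hle ?_).symm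
      rw [hE₀2, ← Subgroup.card_map_of_injective (f := (N.subtype).comp (R'.subgroupOf N).subtype)
        (N.subtype_injective.comp (Subgroup.subtype_injective _))]
      exact hB'2
    have hxo : (orderOf (⟨x, hXR hx⟩ : N)).Coprime r := by
      rw [← Subgroup.orderOf_coe]
      refine ((hcop.coprime_dvd_left (Subgroup.orderOf_dvd_natCard X hx)).coprime_dvd_right ?_)
      exact (hE2 ▸ dvd_pow_self r (by norm_num : 2 ≠ 0)).trans (Subgroup.card_dvd_of_le hEK)
    have h := OddOrder.mem_centralizer_of_fixed hr2 (R'.subgroupOf N) hR'p.comap_subtype hrU hE₀ hE₀2 hmax hxo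
      (fun a ha => Subtype.ext (Subgroup.mem_centralizer_iff.1 (hEX (x := ((a : N) : G)) ha) x hx))
    exact Subgroup.mem_centralizer_iff.2 fun y hy =>
      congrArg Subtype.val (Subgroup.mem_centralizer_iff.1 h ⟨y, Subgroup.le_normalizer hy⟩ hy)
  exact OddOrder.inUniqueMaximal_of_le
    (OddOrder.inUniqueMaximal_of_rank hG (OddOrder.ne_top_of_isPGroup hG hR'p) hR3)
    (le_inf ((Subgroup.map_subtype_le _).trans hKM) (Subgroup.le_centralizer_iff.1 hXC)) htop

end Cfsg.Agent.S1406
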