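import Cfsg.Statements.S1408
import Cfsg.Agent.Lib.OddOrder.SigmaLocal
-- import your own Cfsg.Agent.* helpers here

set_option autoImplicit false
open Cfsg

namespace Cfsg.Agent.S1408

/-- Let G be a minimal simple group of odd order, M a maximal subgroup, and p a prime not in σ(M) such that M has p-rank exactly 2. Then p is not an ideal prime for G, and every elementary abelian subgroup of M of order p ^ 2 is maximal among elementary abelian p-subgroups of G. -/
theorem result {G : Type*} [Group G] [Finite G] (hG : Cfsg.IsMinSimpleOddOrder G)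
    (M : Subgroup G) (hM : IsCoatom M) (p : ℕ) [Fact p.Prime] (hp : p ∉ Cfsg.sigma M) (hr2 : Cfsg.PRankLE p 2 M) (hr1 : ¬ Cfsg.PRankLE p 1 M) :
    ¬ Cfsg.IsIdealPrime p G ∧ ∀ A : Subgroup G, A ≤ M → Cfsg.IsElementaryAbelian p A → Nat.card A = p ^ 2 →
        ∀ B : Subgroup G, Cfsg.IsElementaryAbelian p B → A ≤ B → B = A := by
  have hpp : p.Prime := Fact.out
  have hmax : ∀ A : Subgroup G, A ≤ M → Cfsg.IsElementaryAbelian p A → Nat.card A = p ^ 2 →
      ∀ B : Subgroup G, Cfsg.IsElementaryAbelian p B → A ≤ B → B = A := by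
    intro A hAM hA hA2 B hB hAB
    by_contra hne
    refine hp ?_
    have hB3 : p ^ 3 ≤ Nat.card B := by
      obtain ⟨k, hk⟩ := (PGroup.isPGroup_of_elementaryAbelian hB).exists_card_eq
      rw [hk]
      refine Nat.pow_le_pow_right hpp.pos ?_
      by_contra hk3
      exact hne (Subgroup.eq_of_le_of_card_ge hAB
        (by rw [hk, hA2]; exact Nat.pow_le_pow_right hpp.pos (by omega))).symm
    have hBu : Cfsg.InUniqueMaximal B := OddOrder.inUniqueMaximal_of_rank hG
      (OddOrder.ne_top_of_isPGroup hG (PGroup.isPGroup_of_elementaryAbelian hB))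
      (OddOrder.not_pRankLE_of_elementary hB le_rfl hB3)
    have hAu : Cfsg.InUniqueMaximal A := OddOrder.inUniqueMaximal_of_commute hG hBu hA hA2.ge
      (hAB.trans (PGroup.le_centralizer_of_isMulCommutative hB.1))
    obtain ⟨S, hS⟩ := OddOrder.exists_sylow_map_ge (PGroup.isPGroup_of_elementaryAbelian hA) hAM
    have hA1 : A ≠ ⊥ := fun h => by
      rw [h, Subgroup.card_bot] at hA2
      exact absurd hA2.symm (Nat.one_lt_pow (by norm_num) hpp.one_lt).ne'
    refine ⟨hpp, ?_, S, OddOrder.le_of_inUniqueMaximal hAu hM hAM (hS.trans Subgroup.le_normalizer)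
      (OddOrder.normalizer_ne_top_of_pgroup hG (S.2.map _) (ne_bot_of_le_ne_bot hA1 hS))⟩
    exact (hA2 ▸ dvd_pow_self p (by norm_num : 2 ≠ 0)).trans (Subgroup.card_dvd_of_le hAM)
  refine ⟨fun hid => ?_, hmax⟩
  obtain ⟨E, hEM, hE, hE2⟩ : ∃ E : Subgroup G, E ≤ M ∧ Cfsg.IsElementaryAbelian p E ∧ p ^ 2 ≤ Nat.card E := by
    by_contra hcon
    push Not at hcon
    refine hr1 fun B hB hBp => ?_
    rw [← Subgroup.card_map_of_injective M.subtype_injective]
    have hel := PGroup.isElementaryAbelian_map (p := p) ⟨hB, hBp⟩ M.subtype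
    obtain ⟨k, hk⟩ := (PGroup.isPGroup_of_elementaryAbelian hel).exists_card_eq
    have hlt := hcon _ (Subgroup.map_subtype_le B) hel
    rw [hk, Nat.pow_lt_pow_iff_right hpp.one_lt] at hlt
    rw [hk]
    exact Nat.pow_le_pow_right hpp.pos (by omega)
  have hEeq : Nat.card E = p ^ 2 := by
    refine le_antisymm ?_ hE2
    have h := hr2 (E.subgroupOf M) (PGroup.isMulCommutative_of_forall fun a ha b hb =>
      Subtype.ext (PGroup.mul_comm_of_elementaryAbelian hE ha hb)) fun a ha => Subtype.ext (hE.2 _ ha)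
    rwa [Coprime.card_subgroupOf hEM] at h
  obtain ⟨P, hP⟩ := (PGroup.isPGroup_of_elementaryAbelian hE).exists_le_sylow
  obtain ⟨B, -, hB, hlt⟩ := hid.2.2 P E hP hE hEeq
  exact hlt.ne (hmax E hEM hE hEeq B hB hlt.le).symm

end Cfsg.Agent.S1408
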