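import Cfsg.Statements.S1409
import Cfsg.Agent.S1408
import Cfsg.Agent.Lib.IsolatedP.Cyclic
import Cfsg.Agent.Lib.OddOrder.CyclicSylows
-- import your own Cfsg.Agent.* helpers here

set_option autoImplicit false
open Cfsg

namespace Cfsg.Agent.S1409

/-- Let G be a minimal simple group of odd order, M a maximal subgroup, p a prime not in σ(M), and X a subgroup of order p with N_G(X) ≤ M. Then M has p-rank exactly 2, p is not an ideal prime for G, and X is contained in some elementary abelian subgroup of G of order p ^ 2. -/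
theorem result {G : Type*} [Group G] [Finite G] (hG : Cfsg.IsMinSimpleOddOrder G)
    (M : Subgroup G) (hM : IsCoatom M) (p : ℕ) [Fact p.Prime] (hp : p ∉ Cfsg.sigma M) (X : Subgroup G) (hX : Nat.card X = p)
    (hNX : Subgroup.normalizer (X : Set G) ≤ M) :
    (Cfsg.PRankLE p 2 M ∧ ¬ Cfsg.PRankLE p 1 M) ∧ ¬ Cfsg.IsIdealPrime p G ∧
      ∃ A : Subgroup G, Cfsg.IsElementaryAbelian p A ∧ Nat.card A = p ^ 2 ∧ X ≤ A := by
  have hpp : p.Prime := Fact.out
  have hXM : X ≤ M := Subgroup.le_normalizer.trans hNX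
  have hXp : IsPGroup p X := IsPGroup.of_card (n := 1) (by rw [hX, pow_one])
  have hX1 : X ≠ ⊥ := fun h => by
    rw [h, Subgroup.card_bot] at hX
    exact hpp.ne_one hX.symm
  have hp2 : p ≠ 2 := OddOrder.ne_two_of_minSimple hG hXp hX1
  have hXe : ∀ x ∈ X, x ^ p = 1 := fun x hx => by
    rw [← orderOf_dvd_iff_pow_eq_one, ← hX]
    exact Subgroup.orderOf_dvd_natCard X hx
  obtain ⟨S, hS⟩ := OddOrder.exists_sylow_map_ge hXp hXM
  set P := (S : Subgroup M).map M.subtype with hP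
  have hPp : IsPGroup p P := S.2.map _
  have hpM : p ∣ Nat.card M := hX ▸ Subgroup.card_dvd_of_le hXM
  -- `X` is not fixed by `N(P)`
  have hnot : ¬ Subgroup.normalizer (P : Set G) ≤ Subgroup.normalizer (X : Set G) := fun h =>
    hp ⟨hpp, hpM, S, h.trans hNX⟩
  obtain ⟨z, hzP, hzp, hzX, hzc⟩ : ∃ z, z ∈ P ∧ z ^ p = 1 ∧ z ∉ X ∧ ∀ x ∈ X, x * z = z * x := by
    by_contra hcon
    push Not at hcon
    refine hnot fun n hn => ?_
    -- otherwise `X` is `Ω₁Z(P)`
    have hall : ∀ z ∈ P, z ^ p = 1 → (∀ y ∈ P, y * z = z * y) → z ∈ X := fun z hz hzp' hc => by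
      by_contra hzX
      obtain ⟨x, hx, hne⟩ := hcon z hz hzp' hzX
      exact hne (hc x (hS hx))
    haveI : Nontrivial P := (Subgroup.nontrivial_iff_ne_bot _).2 (ne_bot_of_le_ne_bot hX1 hS)
    haveI := hPp.center_nontrivial
    obtain ⟨j, hj⟩ := (hPp.to_subgroup (Subgroup.center P)).exists_card_eq
    have h1 := Finite.one_lt_card (α := Subgroup.center P)
    have hj0 : j ≠ 0 := fun h => by rw [hj, h, pow_zero] at h1; omega
    obtain ⟨z, hz⟩ := exists_prime_orderOf_dvd_card' p (hj ▸ dvd_pow_self p hj0)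
    set w : G := ((z : P) : G) with hw
    have hwo : orderOf w = p := by rw [hw, Subgroup.orderOf_coe, Subgroup.orderOf_coe, hz]
    have hwc : ∀ y ∈ P, y * w = w * y := fun y hy =>
      congrArg Subtype.val (Subgroup.mem_center_iff.1 z.2 ⟨y, hy⟩)
    have hXw : X = Subgroup.zpowers w := (Subgroup.eq_of_le_of_card_ge
      (Subgroup.zpowers_le.2 (hall w (z : P).2 (hwo ▸ pow_orderOf_eq_one w) hwc))
      (by rw [Nat.card_zpowers, hwo, hX])).symm
    have hn' := Subgroup.mem_normalizer_iff.1 hn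
    have hw' : n * w * n⁻¹ ∈ X := by
      have hwp : w ^ p = 1 := hwo ▸ pow_orderOf_eq_one w
      refine hall _ ((hn' w).1 (z : P).2) (by
        rw [conj_pow, hwp, mul_one, mul_inv_cancel]) fun y hy => ?_
      have h2 : n⁻¹ * y * n ∈ P := (hn' _).2 (by simpa [mul_assoc] using hy)
      calc y * (n * w * n⁻¹) = n * ((n⁻¹ * y * n) * w) * n⁻¹ := by group
        _ = n * (w * (n⁻¹ * y * n)) * n⁻¹ := by rw [hwc _ h2]
        _ = n * w * n⁻¹ * y := by group
    rw [Subgroup.mem_normalizer_iff_map_conj_eq, hXw, MonoidHom.map_zpowers]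
    refine Subgroup.eq_of_le_of_card_ge (Subgroup.zpowers_le.2 (hXw ▸ hw')) ?_
    rw [Nat.card_zpowers, Nat.card_zpowers]
    exact (orderOf_injective (MulAut.conj n).toMonoidHom (MulEquiv.injective _) w).ge
  have hXel : Cfsg.IsElementaryAbelian p X := by
    haveI : IsCyclic X := isCyclic_of_prime_card hX
    exact PGroup.isElementaryAbelian_of_forall
      (fun a ha b hb => congrArg Subtype.val (IsCyclic.commGroup.mul_comm (⟨a, ha⟩ : X) ⟨b, hb⟩)) hXe
  have hz1 : z ≠ 1 := fun h => hzX (h ▸ one_mem X)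
  have hAe := OddOrder.isElementaryAbelian_sup hXel (OddOrder.isElementaryAbelian_zpowers hzp)
    (Subgroup.zpowers_le.2 (Subgroup.mem_centralizer_iff.2 hzc))
  have hd : Subgroup.zpowers z ⊓ X = ⊥ := (Subgroup.eq_bot_iff_forall _).2 fun y hy => by
    by_contra hy1
    exact hzX (Subgroup.zpowers_le.2 hy.2
      ((OddOrder.zpowers_eq_of_mem hzp hy.1 hy1).ge (Subgroup.mem_zpowers z)))
  have hA2 : Nat.card (X ⊔ Subgroup.zpowers z : Subgroup G) = p ^ 2 := by
    rw [sup_comm, Coprime.card_sup_of_le_normalizer ((Subgroup.zpowers_le.2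
      (Subgroup.mem_centralizer_iff.2 hzc)).trans (Subgroup.centralizer_le_normalizer _)) hd,
      OddOrder.card_zpowers_eq hzp hz1, hX, pow_two]
  have hr2 : Cfsg.PRankLE p 2 M := by
    by_contra h
    exact hp (OddOrder.mem_sigma_of_rank hG hM h)
  have hr1 : ¬ Cfsg.PRankLE p 1 M :=
    OddOrder.not_pRankLE_of_elementary hAe (sup_le hXM (Subgroup.zpowers_le.2
      (Subgroup.map_subtype_le _ hzP))) hA2.ge
  exact ⟨⟨hr2, hr1⟩, (S1408.result hG M hM p hp hr2 hr1).1, _, hAe, hA2, le_sup_left⟩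

end Cfsg.Agent.S1409
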