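import Cfsg.Statements.S1417
import Cfsg.Agent.Lib.OddOrder.TauTwo

set_option autoImplicit false
open Cfsg

namespace Cfsg.Agent.S1417

open Subgroup (centralizer normalizer zpowers)
open Cfsg.Agent.OddOrder

/-- Let G be a minimal simple group of odd order, M a maximal subgroup, p ∈ τ₂(M) and A ≤ M elementary abelian of order p ^ 2. Then (a) M_σ is nilpotent; (b) every Sylow p-subgroup P of M is abelian, and if A ≤ P then the elements of P of order dividing p are exactly those of A and N_G(P) is not contained in M; (c) M normalizes M_σA; (d) M_σ ∩ C_G(A) = 1; (e) M_σ ∩ M* = 1 for every maximal subgroup M* ≠ M containing A; (f) M_σ ∩ C_G(A₁) = 1 for some subgroup A₁ ≤ A of order p. -/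
theorem result {G : Type*} [Group G] [Finite G] (hG : Cfsg.IsMinSimpleOddOrder G)
    (M : Subgroup G) (hM : IsCoatom M) (p : ℕ) [Fact p.Prime] (hp : p ∈ Cfsg.tau2 M) (A : Subgroup G) (hA : (A ≤ M ∧ Cfsg.IsElementaryAbelian p A ∧ Nat.card A = p ^ 2)) :
    Group.IsNilpotent (Cfsg.sigmaCore M) ∧
      (∀ P : Sylow p M, IsMulCommutative (P : Subgroup M) ∧
        (A ≤ (P : Subgroup M).map M.subtype →
          (∀ x ∈ (P : Subgroup M).map M.subtype, x ^ p = 1 ↔ x ∈ A) ∧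
          ¬ Subgroup.normalizer ((((P : Subgroup M).map M.subtype : Subgroup G)) : Set G) ≤ M)) ∧
      M ≤ Subgroup.normalizer ((Cfsg.sigmaCore M ⊔ A : Subgroup G) : Set G) ∧
      Cfsg.sigmaCore M ⊓ Subgroup.centralizer (A : Set G) = ⊥ ∧
      (∀ Mstar : Subgroup G, IsCoatom Mstar → Mstar ≠ M → A ≤ Mstar → Cfsg.sigmaCore M ⊓ Mstar = ⊥) ∧
      ∃ A₁ : Subgroup G, A₁ ≤ A ∧ Nat.card A₁ = p ∧ Cfsg.sigmaCore M ⊓ Subgroup.centralizer (A₁ : Set G) = ⊥ := by
  obtain ⟨hAM, hAel, hAc⟩ := hA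
  obtain ⟨-, hps, -, hr1⟩ := hp
  obtain ⟨A₀, h⟩ := exists_exc hG hM hps hAM hAel hAc
  refine ⟨h.isNilpotent_sigmaCore, fun P => ?_, ?_, h.sigmaCore_inf_centralizer,
    fun L hL hne hAL => h.sigmaCore_inf_eq_bot hL hne hAL, ?_⟩
  · refine ⟨PGroup.isMulCommutative_of_forall fun x hx y hy => Subtype.ext
      (PGroup.mul_comm_of_isMulCommutative (sylow_isMulCommutative hG hM hps hr1 P) ⟨x, hx, rfl⟩ ⟨y, hy, rfl⟩),
      fun hAP => ⟨fun x hx => ⟨h.mem_of_sylow P hAP hx, fun ha => hAel.2 x ha⟩, fun hle => ?_⟩⟩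
    obtain ⟨g, hg, hgM⟩ := h.exists_mem_normalizer P
    exact hgM (hle hg)
  · have hcop := h.setting.coprime_sigmaCore (PGroup.isPGroup_of_elementaryAbelian hAel)
    obtain ⟨E, hE, hAE⟩ := exists_compl hG hM hAM hcop
    intro m hm
    obtain ⟨e, he, k, hk, rfl⟩ := hE.2.2.2 m hm
    refine Subgroup.mul_mem _ ?_ (Subgroup.le_normalizer (Subgroup.mem_sup_left hk))
    rw [Subgroup.mem_normalizer_iff_map_conj_eq, Subgroup.map_sup,
      Subgroup.mem_normalizer_iff_map_conj_eq.1 (le_normalizer_sigmaCore M (hE.1 he)),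
      Subgroup.mem_normalizer_iff_map_conj_eq.1 (h.complement_le_normalizer hE hAE he)]
  · obtain ⟨b, hb, -, hbo, hfix⟩ := h.exists_fpf
    refine ⟨zpowers b, Subgroup.zpowers_le.2 hb, by rw [Nat.card_zpowers, hbo], ?_⟩
    rwa [Subgroup.zpowers_eq_closure, Subgroup.centralizer_closure]

end Cfsg.Agent.S1417
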