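import Cfsg.Statements.S1418
import Cfsg.Agent.Lib.OddOrder.TauTwo

set_option autoImplicit false
open Cfsg

namespace Cfsg.Agent.S1418

open Subgroup (centralizer normalizer zpowers)
open Cfsg.Agent.OddOrder

/-- Let G be a minimal simple group of odd order, M a maximal subgroup, E a complement to M_σ in M, p ∈ τ₂(M), and A ≤ E elementary abelian of order p ^ 2. Then A is normal in E and contains every subgroup of E of order p; C_G(A) ≤ M ∩ N_G(A) = E and N_G(A) is not contained in M; and for every subgroup X ≤ A of order p centralizing a non-identity element of M_σ, C_G(X) ≤ M and M is the unique maximal subgroup containing C_G(X). -/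
theorem result {G : Type*} [Group G] [Finite G] (hG : Cfsg.IsMinSimpleOddOrder G)
    (M : Subgroup G) (hM : IsCoatom M) (E : Subgroup G) (hE : Cfsg.IsComplIn E (Cfsg.sigmaCore M) M) (p : ℕ) [Fact p.Prime] (hp : p ∈ Cfsg.tau2 M) (A : Subgroup G) (hA : (A ≤ E ∧ Cfsg.IsElementaryAbelian p A ∧ Nat.card A = p ^ 2)) :
    (E ≤ Subgroup.normalizer (A : Set G) ∧ ∀ X : Subgroup G, X ≤ E → Nat.card X = p → X ≤ A) ∧
      (Subgroup.centralizer (A : Set G) ≤ M ⊓ Subgroup.normalizer (A : Set G) ∧ M ⊓ Subgroup.normalizer (A : Set G) = E ∧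
        ¬ Subgroup.normalizer (A : Set G) ≤ M) ∧
      ∀ X : Subgroup G, X ≤ A → Nat.card X = p → Cfsg.sigmaCore M ⊓ Subgroup.centralizer (X : Set G) ≠ ⊥ → (Subgroup.centralizer (X : Set G) ≤ M ∧ ∀ L : Subgroup G, IsCoatom L → Subgroup.centralizer (X : Set G) ≤ L → L = M) := by
  obtain ⟨hAE, hAel, hAc⟩ := hA
  obtain ⟨-, hps, -, hr1⟩ := hp
  have hAM : A ≤ M := hAE.trans hE.1
  obtain ⟨A₀, h⟩ := exists_exc hG hM hps hAM hAel hAc
  have hEA := h.complement_le_normalizer hE hAE
  have hAp := PGroup.isPGroup_of_elementaryAbelian hAel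
  refine ⟨⟨hEA, fun X hXE hXc x hx => ?_⟩,
    ⟨le_inf h.centralizer_le (Subgroup.centralizer_le_normalizer _), h.inf_normalizer_eq hE hAE,
      h.not_normalizer_le⟩, fun X hXA hXc hXfix => ?_⟩
  · have hXp : IsPGroup p X := IsPGroup.of_card (n := 1) (by rw [hXc, pow_one])
    obtain ⟨S, hS⟩ := exists_sylow_map_ge (hXp.to_sup_of_normal_right' hAp (hXE.trans hEA))
      (sup_le (hXE.trans hE.1) hAM)
    refine h.mem_of_sylow S (le_sup_right.trans hS) (hS (Subgroup.mem_sup_left hx)) ?_
    have h1 := congrArg Subtype.val (pow_card_eq_one' (x := (⟨x, hx⟩ : X)))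
    rwa [hXc] at h1
  · obtain ⟨y, ⟨hy, hyX⟩, hy1⟩ := (Subgroup.bot_or_exists_ne_one _).resolve_left hXfix
    obtain ⟨x, hx, hx1⟩ := (Subgroup.bot_or_exists_ne_one X).resolve_left fun e => by
      rw [e, Subgroup.card_bot] at hXc
      exact (Fact.out : p.Prime).ne_one hXc.symm
    refine h.unique_of_fixed (fun e => ?_) (fun a ha => ?_) hy hy1 hyX
    · exact centralizer_singleton_ne_top_of_minSimple hG hx1
        (top_le_iff.1 (e ▸ Subgroup.centralizer_le (Set.singleton_subset_iff.2 hx)))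
    · exact Subgroup.mem_centralizer_iff.2 fun z hz => PGroup.mul_comm_of_elementaryAbelian hAel (hXA hz) ha

end Cfsg.Agent.S1418
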