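import Cfsg.Statements.S1420
import Cfsg.Agent.Lib.OddOrder.TauTwo
import Cfsg.Agent.S1451

set_option autoImplicit false
open Cfsg

namespace Cfsg.Agent.S1420

open Subgroup (centralizer normalizer zpowers)
open Cfsg.Agent.OddOrder
open scoped Pointwise commutatorElement

universe u
variable {G : Type u} [Group G] [Finite G]

theorem part_nilpotent (hG : Cfsg.IsMinSimpleOddOrder G) {M : Subgroup G} (hM : IsCoatom M) {N : Subgroup G}
    (hNM : N ≤ M) (hN : Group.IsNilpotent N) (hπ : ∀ p : ℕ, p.Prime → p ∣ Nat.card N → p ∉ Cfsg.sigma M) :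
    IsMulCommutative N := by
  refine PGroup.isMulCommutative_of_forall fun x hx y hy => ?_
  suffices hh : x ∈ centralizer ({y} : Set G) from Subgroup.mem_centralizer_singleton_iff.1 hh
  refine mem_of_forall_primePart fun r hr hd u hu hku => Subgroup.mem_centralizer_singleton_iff.2 ?_
  suffices hh : y ∈ centralizer ({u} : Set G) from (Subgroup.mem_centralizer_singleton_iff.1 hh).symm
  refine mem_of_forall_primePart fun s hs _ v hv hkv => Subgroup.mem_centralizer_singleton_iff.2 ?_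
  haveI := Fact.mk hr
  haveI := Fact.mk hs
  have huN : u ∈ N := Subgroup.zpowers_le.2 hx hu
  have hvN : v ∈ N := Subgroup.zpowers_le.2 hy hv
  rcases eq_or_ne s r with rfl | hne
  · have hmem : ∀ w ∈ N, (∃ k, w ^ s ^ k = 1) → w ∈ pOf s N := fun w hw ⟨k, hk⟩ => by
      obtain ⟨i, -, hi⟩ := (Nat.dvd_prime_pow hs).1 (orderOf_dvd_of_pow_eq_one hk)
      obtain ⟨T, hT⟩ := exists_sylow_map_ge (p := s) (X := zpowers w)
        (IsPGroup.of_card (n := i) (by rw [Nat.card_zpowers, hi])) (Subgroup.zpowers_le.2 hw)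
      haveI : (T : Subgroup N).Normal := by
        haveI := hN
        exact Sylow.normal_of_normalizerCondition Group.normalizerCondition_of_isNilpotent T
      exact Subgroup.map_mono (PCore.le_pCore T.2) (hT (Subgroup.mem_zpowers w))
    exact pgroup_comm hG hM (hπ s hs (hd.trans (Subgroup.orderOf_dvd_natCard N hx))) ((pOf_le N).trans hNM)
      (isPGroup_pOf N) v (hmem v hvN hkv) u (hmem u huN hku)
  · haveI := hN
    obtain ⟨k, hk⟩ := hku
    obtain ⟨j, hj⟩ := hkv
    refine congrArg Subtype.val (Subnormal.commute_of_coprime (G := N) (p := r) (k := k)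
      (u := ⟨u, huN⟩) (y := ⟨v, hvN⟩) (Subtype.ext hk) ?_).eq
    rw [Subgroup.orderOf_mk]
    exact ((Nat.coprime_primes hs hr).2 hne).pow_left j |>.coprime_dvd_left (orderOf_dvd_of_pow_eq_one hj)

theorem part_noncyclic (hG : Cfsg.IsMinSimpleOddOrder G) {M : Subgroup G} (hM : IsCoatom M) {p : ℕ}
    (hp : p ∈ Cfsg.sigma M) {P : Subgroup G} (hP : IsPGroup p P) (hPM : P ≤ M) (hnc : ¬ IsCyclic P) :
    normalizer (P : Set G) ≤ M := by
  haveI := Fact.mk hp.1
  have hP1 : P ≠ ⊥ := by
    rintro rfl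
    exact hnc inferInstance
  have hr : ¬ Cfsg.PRankLE p 1 P := fun h =>
    hnc (IsolatedP.isCyclic_of_pRankLE_one (ne_two_of_minSimple hG hP hP1) hP h)
  obtain ⟨S⟩ : Nonempty (Sylow p P) := inferInstance
  obtain ⟨A, hAS, hA, hc⟩ := exists_square_le hr S
  have hAP : A ≤ P := hAS.trans (Subgroup.map_subtype_le _)
  intro n hn
  obtain ⟨m, hm, c, hc', rfl⟩ := exists_mul_centralizer hG hM hp hP hP1 hPM (g := n)
    ((Coprime.conj_smul_eq_self_of_mem hn).trans_le hPM)
  exact M.mul_mem hm ((S1416.result hG M hM p A ⟨hAP.trans hPM, hA, hc⟩).1 (Subgroup.centralizer_le hAP hc'))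

theorem part_tau_two (hG : Cfsg.IsMinSimpleOddOrder G) {M : Subgroup G} (hM : IsCoatom M) {x : G}
    (hxM : x ∈ M) (hx1 : x ≠ 1) (hπ : ∀ p : ℕ, p.Prime → p ∣ orderOf x → p ∈ Cfsg.tau2 M)
    (hxh : x ∈ Cfsg.sigmaHat M) :
    centralizer ({x} : Set G) ≤ M ∧
      ∀ L : Subgroup G, IsCoatom L → centralizer ({x} : Set G) ≤ L → L = M := by
  obtain ⟨-, y, hy, hy1, hxy⟩ := hxh
  obtain ⟨E, hE, hxE⟩ := exists_compl hG hM (Subgroup.zpowers_le.2 hxM) (Nat.coprime_of_dvd fun l hl h1 h2 =>
    (hπ l hl (Nat.card_zpowers x ▸ h1)).2.1 (isPiGrp_piCoreOf (Cfsg.sigma M) M l hl h2))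
  have hr := Nat.minFac_prime (fun e => hx1 (orderOf_eq_one_iff.1 e))
  haveI := Fact.mk hr
  obtain ⟨-, hrs, -, hr1⟩ := hπ _ hr (Nat.minFac_dvd _)
  obtain ⟨A, hAE, hA, hc⟩ := exists_square_le_compl hE hrs hr1
  have hAp := PGroup.isPGroup_of_elementaryAbelian hA
  obtain ⟨A₀, h⟩ := exists_exc hG hM hrs (hAE.trans hE.1) hA hc
  have hEA := h.complement_le_normalizer hE hAE
  have hxA : x ∈ centralizer (A : Set G) := by
    refine mem_of_forall_primePart fun s hs hd u hu hku => ?_
    haveI := Fact.mk hs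
    obtain ⟨k, hk⟩ := hku
    have huE : u ∈ E := Subgroup.zpowers_le.2 (hxE (Subgroup.mem_zpowers x)) hu
    rcases eq_or_ne s (orderOf x).minFac with rfl | hne
    · obtain ⟨i, -, hi⟩ := (Nat.dvd_prime_pow hs).1 (orderOf_dvd_of_pow_eq_one hk)
      have hup : IsPGroup (orderOf x).minFac (zpowers u) :=
        IsPGroup.of_card (n := i) (by rw [Nat.card_zpowers, hi])
      obtain ⟨S, hS⟩ := exists_sylow_map_ge
        (hup.to_sup_of_normal_right' hAp (Subgroup.zpowers_le.2 (hEA huE)))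
        (sup_le (Subgroup.zpowers_le.2 (hE.1 huE)) h.le)
      exact h.le_centralizer_of_sylow S (le_sup_right.trans hS)
        (hS (Subgroup.mem_sup_left (Subgroup.mem_zpowers u)))
    · haveI : Group.IsSolvable E := Coprime.isSolvable_of_le hE.1 (isSolvable_of_coatom hG hM)
      haveI : (A.subgroupOf E).Normal := Coprime.normal_subgroupOf_of_le_normalizer hEA
      have h2 := S1451.mem_centralizer_of_lt (G := E) (OddOrder.odd_subgroup hG.1 E) hs
        (lt_of_le_of_ne (Nat.minFac_le_of_dvd hs.two_le hd) hne.symm) (A.subgroupOf E) hAp.comap_subtype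
        (fun B _ _ => by
          refine (B.card_le_card_group).trans (le_of_eq ?_)
          rw [Coprime.card_subgroupOf hAE, hc])
        (x := (⟨u, huE⟩ : E)) (k := k) (Subtype.ext hk)
      exact Subgroup.mem_centralizer_iff.2 fun a ha =>
        congrArg Subtype.val (Subgroup.mem_centralizer_iff.1 h2 ⟨a, hAE ha⟩ ha)
  exact h.unique_of_fixed (centralizer_singleton_ne_top_of_minSimple hG hx1)
    (fun a ha => Subgroup.mem_centralizer_singleton_iff.2 (Subgroup.mem_centralizer_iff.1 hxA a ha))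
    hy hy1 (Subgroup.mem_centralizer_singleton_iff.2 hxy.symm)


/-- Let G be a minimal simple group of odd order, M a maximal subgroup and E a complement to M_σ in M. Then every nilpotent subgroup of M whose order involves no prime of σ(M) is abelian; E' is abelian; for p ∈ σ(M) and every noncyclic p-subgroup P of M, N_G(P) ≤ M; and if x ≠ 1 in M has every prime divisor of its order in τ₂(M) and centralizes a non-identity element of M_σ, then C_G(x) ≤ M and M is the unique maximal subgroup containing C_G(x). -/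
theorem result {G : Type*} [Group G] [Finite G] (hG : Cfsg.IsMinSimpleOddOrder G)
    (M : Subgroup G) (hM : IsCoatom M) (E : Subgroup G) (hE : Cfsg.IsComplIn E (Cfsg.sigmaCore M) M) :
    (∀ N : Subgroup G, N ≤ M → Group.IsNilpotent N → (∀ p : ℕ, p.Prime → p ∣ Nat.card N → p ∉ Cfsg.sigma M) → IsMulCommutative N) ∧
      IsMulCommutative ↥⁅E, E⁆ ∧
      (∀ (p : ℕ) (P : Subgroup G), p ∈ Cfsg.sigma M → IsPGroup p P → P ≤ M → ¬ IsCyclic P → Subgroup.normalizer (P : Set G) ≤ M) ∧
      ∀ x ∈ M, x ≠ 1 → (∀ p : ℕ, p.Prime → p ∣ orderOf x → p ∈ Cfsg.tau2 M) → x ∈ Cfsg.sigmaHat M →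
        Subgroup.centralizer ({x} : Set G) ≤ M ∧ ∀ L : Subgroup G, IsCoatom L → Subgroup.centralizer ({x} : Set G) ≤ L → L = M := by
  refine ⟨fun N hNM hN hπ => part_nilpotent hG hM hNM hN hπ, ?_,
    fun p P hp hP hPM hnc => part_noncyclic hG hM hp hP hPM hnc,
    fun x hxM hx1 hπ hxh => part_tau_two hG hM hxM hx1 hπ hxh⟩
  have hle : ⁅E, E⁆ ≤ E := Subgroup.commutator_le_self E
  exact part_nilpotent hG hM (hle.trans hE.1) (S1415.result hG M hM E hE).1 fun p hp hd =>
    not_mem_sigma_of_compl hG hM hE hp (hd.trans (Subgroup.card_dvd_of_le hle))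

end Cfsg.Agent.S1420
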