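import Cfsg.Statements.S1411
import Cfsg.Agent.Lib.OddOrder.SylowSetting
-- import your own Cfsg.Agent.* helpers here

set_option autoImplicit false
open Cfsg
open scoped commutatorElement

namespace Cfsg.Agent.S1411

/-- Let G be a minimal simple group of odd order, p a prime, P a Sylow p-subgroup of G and V a complement to P in its normalizer N_G(P). Then P equals the commutator subgroup [P, V], and P is contained in the derived subgroup of N_G(P). -/
theorem result {G : Type*} [Group G] [Finite G] (hG : Cfsg.IsMinSimpleOddOrder G) (p : ℕ) [Fact p.Prime] (P : Sylow p G)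
    (V : Subgroup G) (hV : Cfsg.IsComplIn (P : Subgroup G) V (Subgroup.normalizer ((P : Subgroup G) : Set G))) :
    (P : Subgroup G) = ⁅(P : Subgroup G), V⁆ ∧
      (P : Subgroup G) ≤ ⁅Subgroup.normalizer ((P : Subgroup G) : Set G), Subgroup.normalizer ((P : Subgroup G) : Set G)⁆ := by
  obtain ⟨hPN, hVN, hPV, hdec⟩ := hV
  have hcomm := Cfsg.Agent.OddOrder.sylow_le_commutator_normalizer hG P
  refine ⟨le_antisymm ?_ (Subgroup.le_normalizer_iff_commutator_le_left.1 hVN), hcomm⟩
  set A : Subgroup G := (P : Subgroup G) with hA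
  set N := Subgroup.normalizer (A : Set G) with hN
  set C := ⁅A, V⁆ with hC
  set D := ⁅A, A⁆ ⊔ C with hD
  set W := D ⊔ ⁅V, V⁆ with hW
  have hCA : C ≤ A := Subgroup.le_normalizer_iff_commutator_le_left.1 hVN
  have hDA : D ≤ A := sup_le (Subgroup.commutator_le_self A) hCA
  have hND : N ≤ Subgroup.normalizer (D : Set G) := by
    intro m hm
    obtain ⟨a, ha, v, hv, rfl⟩ := hdec m hm
    have hNA : N ≤ Subgroup.normalizer ((⁅A, A⁆ : Subgroup G) : Set G) :=
      Cfsg.Agent.Signalizer.GenFixed.le_normalizer_commutator' le_rfl le_rfl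
    refine Subgroup.mul_mem _ ?_ ?_
    · exact Cfsg.Agent.Signalizer.GenFixed.le_normalizer_sup' (Subgroup.le_normalizer.trans hNA)
        (Subgroup.normalizer_commutator_ge_left A V) ha
    · exact Cfsg.Agent.Signalizer.GenFixed.le_normalizer_sup' (hVN.trans hNA)
        (Subgroup.normalizer_commutator_ge_right A V) hv
  have hCW : C ≤ W := le_sup_right.trans le_sup_left
  have hAW : A ≤ Subgroup.normalizer (W : Set G) := by
    rw [Subgroup.le_normalizer_iff_commutator_le_right]
    refine Subgroup.commutator_le.2 fun a ha w hw => ?_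
    obtain ⟨c, hc, d, hd, rfl⟩ := (Cfsg.Agent.Coprime.mem_sup_iff_of_le_normalizer (H := ⁅V, V⁆) (N := D)
      (((Subgroup.commutator_le_self V).trans hVN).trans hND)).1 (by rw [sup_comm]; exact hw)
    rw [show ⁅a, c * d⁆ = ⁅a, c⁆ * (c * ⁅a, d⁆ * c⁻¹) by simp only [commutatorElement_def]; group]
    refine W.mul_mem (hCW (Subgroup.commutator_mem_commutator ha (Subgroup.commutator_le_self V hc))) ?_
    have h1 : ⁅a, d⁆ ∈ D := Subgroup.mem_sup_left (Subgroup.commutator_mem_commutator ha (hDA hd))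
    exact Subgroup.mem_sup_left ((Subgroup.mem_normalizer_iff.1
      (hND (hVN (Subgroup.commutator_le_self V hc))) _).1 h1)
  have hle : ⁅N, N⁆ ≤ W := by
    refine Subgroup.commutator_le.2 fun g hg g' hg' => ?_
    obtain ⟨a, ha, v, hv, rfl⟩ := hdec g hg
    obtain ⟨a', ha', v', hv', rfl⟩ := hdec g' hg'
    have h1 : ∀ y ∈ W, ∀ z ∈ A, z * y * z⁻¹ ∈ W := fun y hy z hz =>
      (Subgroup.mem_normalizer_iff.1 (hAW hz) y).1 hy
    rw [show ⁅a * v, a' * v'⁆ = (a * (⁅v, a'⁆ * (a' * ⁅v, v'⁆ * a'⁻¹)) * a⁻¹) *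
      (⁅a, a'⁆ * (a' * ⁅a, v'⁆ * a'⁻¹)) by simp only [commutatorElement_def]; group]
    refine W.mul_mem (h1 _ (W.mul_mem (hCW ?_) (h1 _ (Subgroup.mem_sup_right
      (Subgroup.commutator_mem_commutator hv hv')) a' ha')) a ha) (W.mul_mem
      (Subgroup.mem_sup_left (Subgroup.mem_sup_left (Subgroup.commutator_mem_commutator ha ha')))
      (h1 _ (hCW (Subgroup.commutator_mem_commutator ha hv')) a' ha'))
    rw [hC, Subgroup.commutator_comm]
    exact Subgroup.commutator_mem_commutator hv ha'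
  have hAD : A ≤ D := by
    intro x hx
    obtain ⟨c, hc, d, hd, rfl⟩ := (Cfsg.Agent.Coprime.mem_sup_iff_of_le_normalizer (H := ⁅V, V⁆) (N := D)
      (((Subgroup.commutator_le_self V).trans hVN).trans hND)).1 (by rw [sup_comm]; exact hle (hcomm hx))
    have hc1 : c ∈ A ⊓ V := ⟨by simpa using A.mul_mem hx (A.inv_mem (hDA hd)),
      Subgroup.commutator_le_self V hc⟩
    rw [hPV, Subgroup.mem_bot] at hc1
    rwa [hc1, one_mul]
  have htop : C.subgroupOf A = ⊤ := by
    refine frattini_nongenerating (top_unique ?_)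
    have h1 : (⊤ : Subgroup A) ≤ (⁅A, A⁆ ⊔ C).subgroupOf A := fun x _ => hAD x.2
    rw [Subgroup.subgroupOf_sup (Subgroup.commutator_le_self A) hCA] at h1
    refine h1.trans (sup_le ?_ le_sup_left)
    refine le_trans ?_ ((Cfsg.Agent.PGroup.commutator_le_frattini (p := p) P.2).trans le_sup_right)
    intro x hx
    have h2 : (x : G) ∈ (_root_.commutator A).map A.subtype := by
      rw [Subgroup.map_subtype_commutator]; exact hx
    obtain ⟨y, hy, hyx⟩ := h2
    rwa [← Subtype.ext hyx]
  exact fun x hx => Subgroup.subgroupOf_eq_top.1 htop hx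

end Cfsg.Agent.S1411
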