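import Cfsg.Statements.S1416
import Cfsg.Agent.S1411
import Cfsg.Agent.Lib.OddOrder.ExceptionalFixed

set_option autoImplicit false
open Cfsg

namespace Cfsg.Agent.S1416

open Subgroup (centralizer normalizer zpowers)
open scoped Pointwise commutatorElement
open Cfsg.Agent.OddOrder

universe u

section
variable {G : Type u} [Group G] [Finite G]

theorem exists_centralizer_conj_sylow {q : ℕ} [Fact q.Prime] {K X : Subgroup G}
    (hX : X ≤ normalizer (K : Set G)) (hcop : (Nat.card X).Coprime (Nat.card K))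
    (hs : Group.IsSolvable K) (Q₁ Q₂ : Sylow q G) (h₁ : (Q₁ : Subgroup G) ≤ K)
    (h₂ : (Q₂ : Subgroup G) ≤ K) (n₁ : X ≤ normalizer ((Q₁ : Subgroup G) : Set G))
    (n₂ : X ≤ normalizer ((Q₂ : Subgroup G) : Set G)) :
    ∃ c ∈ K, c ∈ centralizer (X : Set G) ∧ (Q₂ : Subgroup G) = MulAut.conj c • (Q₁ : Subgroup G) := by
  obtain ⟨c, hc, hc'⟩ := Coprime.exists_centralizer_smul_sylow hX hcop (Or.inr hs) (Q₁.subtype h₁) (Q₂.subtype h₂)
    (by rwa [Sylow.coe_subtype, Subgroup.map_subgroupOf_eq_of_le h₁])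
    (by rwa [Sylow.coe_subtype, Subgroup.map_subgroupOf_eq_of_le h₂])
  refine ⟨c, c.2, hc, ?_⟩
  have h := congrArg (fun S : Sylow q K => (S : Subgroup K).map K.subtype) hc'
  rw [Sylow.coe_subgroup_smul, Coprime.map_conj_smul, Sylow.coe_subtype, Sylow.coe_subtype,
    Subgroup.map_subgroupOf_eq_of_le h₁, Subgroup.map_subgroupOf_eq_of_le h₂] at h
  exact h.symm

variable {p : ℕ} [Fact p.Prime]

/-- `Ω₁(Z(P))` for a Sylow subgroup `P` containing `A`. -/
theorem omega_center {A : Subgroup G} (hmax : ∀ x ∈ centralizer (A : Set G), x ^ p = 1 → x ∈ A)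
    (P : Sylow p G) (hAP : A ≤ P) (hA1 : A ≠ ⊥) :
    ∃ Y : Subgroup G, Y ≠ ⊥ ∧ Y ≤ A ∧
      normalizer ((P : Subgroup G) : Set G) ≤ normalizer (Y : Set G) := by
  refine ⟨omegaOne p ((P : Subgroup G) ⊓ centralizer ((P : Subgroup G) : Set G)), ?_,
    PGroup.omegaOne_le_iff.2 fun x hx hxp => hmax x (Subgroup.centralizer_le hAP hx.2) hxp,
    (Coprime.le_normalizer_inf_of_le le_rfl (Coprime.le_normalizer_centralizer le_rfl)).trans
      (normalizer_le_normalizer_omegaOne p _)⟩
  obtain ⟨z, hz, hz1, hzp, hzc⟩ := exists_central_pow_eq_one P.2 fun e => hA1 (le_bot_iff.1 (e ▸ hAP))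
  intro e
  have := PGroup.mem_omegaOne_of_pow_eq_one (H := (P : Subgroup G) ⊓ centralizer ((P : Subgroup G) : Set G))
    ⟨hz, Subgroup.mem_centralizer_iff.2 fun y hy => Subgroup.mem_centralizer_singleton_iff.1 (hzc hy)⟩ hzp
  rw [e, Subgroup.mem_bot] at this
  exact hz1 this

variable (hG : IsMinSimpleOddOrder G) {M A : Subgroup G} (hM : IsCoatom M) (hAM : A ≤ M)
  (hA : IsElementaryAbelian p A) (hc : Nat.card A = p ^ 2)
include hG hM hAM hA hc

theorem exceptional_lines_main
    (hne : ∀ A₀ : Subgroup G, A₀ ≤ A → Nat.card A₀ = p →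
      ¬ (normalizer (A₀ : Set G) ≤ M ∧ ∀ L : Subgroup G, IsCoatom L → normalizer (A₀ : Set G) ≤ L → L = M)) :
    centralizer (A : Set G) ≤ M ∧ p ∈ sigma M ∧ alphaCore M = ⊥ ∧ Group.IsNilpotent (sigmaCore M) := by
  have hp := (Fact.out : p.Prime)
  have hAp := PGroup.isPGroup_of_elementaryAbelian hA
  have hlineP : ∀ A₀ : Subgroup G, A₀ ≤ A → Nat.card A₀ = p → normalizer (A₀ : Set G) ≠ ⊤ := fun A₀ h0 h0c =>
    normalizer_ne_top_of_pgroup hG (hAp.to_le h0) fun e => hp.ne_one (by rw [← h0c, e, Subgroup.card_bot])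
  have hlines : ∀ A₀ : Subgroup G, A₀ ≤ A → Nat.card A₀ = p →
      ∃ L : Subgroup G, IsCoatom L ∧ L ≠ M ∧ normalizer (A₀ : Set G) ≤ L := by
    intro A₀ h0 h0c
    by_contra hno
    push Not at hno
    have hun : ∀ L : Subgroup G, IsCoatom L → normalizer (A₀ : Set G) ≤ L → L = M := fun L hL hN => by
      by_contra e
      exact hno L hL e hN
    exact hne A₀ h0 h0c ⟨le_of_forall_coatom (hlineP A₀ h0 h0c) hun, hun⟩
  have hline : ∀ a ∈ A, a ≠ 1 → Nat.card (zpowers a) = p := fun a ha ha1 => by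
    rw [Nat.card_zpowers, orderOf_eq_prime (hA.2 a ha) ha1]
  obtain ⟨a, ha, ha1⟩ := (Subgroup.bot_or_exists_ne_one A).resolve_left (square_ne_bot hA hc)
  have hAC : A ≤ centralizer (A : Set G) := fun x hx => Subgroup.mem_centralizer_iff.2 fun b hb =>
    PGroup.mul_comm_of_elementaryAbelian hA hb hx
  -- `C(A)` has rank at most two
  have hCr : RankLE 2 (centralizer (A : Set G)) := by
    by_contra hr
    have hu := S1403.result hG A (ne_top_of_isPGroup hG hAp)
      (not_rankLE_one_of_elementary hA hc.ge) (Or.inr hr)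
    obtain ⟨L, hL, hLM, hN⟩ := hlines _ (Subgroup.zpowers_le.2 ha) (hline a ha ha1)
    refine hLM (hu.unique ⟨hL, fun x hx => hN (Subgroup.centralizer_le_normalizer _ ?_)⟩ ⟨hM, hAM⟩)
    exact Subgroup.centralizer_le (Subgroup.zpowers_le.2 ha) (hAC hx)
  have hmax : ∀ x ∈ centralizer (A : Set G), x ^ p = 1 → x ∈ A := fun x hx hxp =>
    mem_of_pow_eq_one_of_rank hA hc (hCr p hp) hAC hx hx hxp
  -- `α(M)` is empty
  have hpα : p ∉ alpha M := by
    intro hpa
    obtain ⟨S, hS⟩ := exists_sylow_map_ge hAp hAM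
    obtain ⟨z, hz, hz1, hzp, hzc⟩ := exists_central_pow_eq_one (S.2.map M.subtype)
      fun e => square_ne_bot hA hc (le_bot_iff.1 (e ▸ hS))
    have hzA : z ∈ A := hmax z (Subgroup.mem_centralizer_iff.2 fun b hb =>
      Subgroup.mem_centralizer_singleton_iff.1 (hzc (hS hb))) hzp
    obtain ⟨L, hL, hLM, hN⟩ := hlines _ (Subgroup.zpowers_le.2 hzA) (hline z hzA hz1)
    refine hLM (eq_of_rank_three hG (r := p) hM (Subgroup.map_subtype_le _) (not_pRankLE_sylow hpa.2 S) hL ?_)
    refine le_trans ?_ hN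
    refine le_trans hzc ?_
    rw [Subgroup.zpowers_eq_closure, ← Subgroup.centralizer_closure]
    exact Subgroup.centralizer_le_normalizer _
  have hr : RankLE 2 M := by
    intro q hq
    by_contra hqa
    haveI := Fact.mk hq
    have hqα : q ∈ alpha M := ⟨hq, hqa⟩
    have hqs := alpha_subset_sigma hG hM hqα
    have hqp : q ≠ p := fun e => hpα (e ▸ hqα)
    obtain ⟨Q, -, hQ, hn⟩ := exists_sylow_invariant_ge (q := q) (K := alphaCore M) (U := ⊥)
      (Coprime.isSolvable_of_le (piCoreOf_le (alpha M) M) (isSolvable_of_coatom hG hM))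
      (hAM.trans (le_normalizer_piCoreOf _ M))
      (coprime_of_isPGroup hAp fun hd => hpα (isPiGrp_piCoreOf (alpha M) M p hp hd))
      ((alphaCore_isPiHall hG hM).2 q hq hqα) bot_le IsPGroup.of_bot (le_top.trans (Subgroup.normalizer_eq_top (H := (⊥ : Subgroup G))).ge)
    have hQM : (Q : Subgroup G) ≤ M := hQ.trans (piCoreOf_le (alpha M) M)
    have hQC := sigma_sylow_le_centralizer hG hM hAM hA hc hmax hlines hqp hqs Q hQM hn
    refine not_pRankLE_sylow hqa (Q.subtype hQM) ?_
    rw [Sylow.coe_subtype, Subgroup.map_subgroupOf_eq_of_le hQM]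
    exact pRankLE_of_le hQC (hCr q hq)
  have hα : alphaCore M = ⊥ := by
    refine Subgroup.card_eq_one.1 (by_contra fun h => ?_)
    obtain ⟨l, hl, hd⟩ := Nat.exists_prime_and_dvd h
    exact (isPiGrp_piCoreOf (alpha M) M l hl hd).2 (hr l hl)
  haveI := isSolvable_of_coatom hG hM
  have hM' : Group.IsNilpotent ↥⁅M, M⁆ := by
    haveI := (S1451.result (odd_subgroup hG.1 M) (Or.inl hr)).1
    rw [← Subgroup.map_subtype_commutator]
    exact Group.nilpotent_of_mulEquiv ((_root_.commutator M).equivMapOfInjective M.subtype M.subtype_injective)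
  have hσnil : Group.IsNilpotent (sigmaCore M) := by
    haveI := hM'
    exact Group.nilpotent_of_mulEquiv (Subgroup.subgroupOfEquivOfLe (sigmaCore_le_commutator hG hM))
  have hMn : M ≤ normalizer ((⁅M, M⁆ : Subgroup G) : Set G) := Subgroup.normalizer_commutator_ge_left M M
  -- a Sylow subgroup of `G` inside `M'` is normal in `M`
  have hnorm : ∀ P : Sylow p G, (P : Subgroup G) ≤ ⁅M, M⁆ → M ≤ normalizer ((P : Subgroup G) : Set G) := by
    intro P hP
    obtain ⟨D, -, hD, hPD, hDn⟩ := exists_normal_pgroup_ge (M := M) hM' hMn hP P.2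
    rwa [P.is_maximal' hD hPD] at hDn
  have hpM : p ∣ Nat.card M := (square_dvd_card hA hc).trans (Subgroup.card_dvd_of_le hAM)
  have hσ : p ∈ sigma M := by
    by_contra hps
    have hne' : (Nat.card M).primeFactors.Nonempty :=
      ⟨p, Nat.mem_primeFactors.2 ⟨hp, hpM, Nat.card_pos.ne'⟩⟩
    set q := (Nat.card M).primeFactors.max' hne' with hq_def
    have hq' := Nat.mem_primeFactors.1 ((Nat.card M).primeFactors.max'_mem hne')
    haveI := Fact.mk hq'.1
    obtain ⟨hqs, Q, hQM, hQn⟩ := normal_sylow_of_max hG hM hr hq'.2.1 fun l hl hd =>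
      Finset.le_max' _ _ (Nat.mem_primeFactors.2 ⟨hl, hd, Nat.card_pos.ne'⟩)
    have hqp : q ≠ p := fun e => hps (e ▸ hqs)
    have hpq : p < q := lt_of_le_of_ne (Finset.le_max' _ _ (Nat.mem_primeFactors.2 ⟨hp, hpM, Nat.card_pos.ne'⟩)) hqp.symm
    have hQC := sigma_sylow_le_centralizer hG hM hAM hA hc hmax hlines hqp hqs Q hQM (hAM.trans hQn)
    obtain ⟨R, hR⟩ := hAp.exists_le_sylow
    obtain ⟨Y, hY1, hYA, hYn⟩ := omega_center hmax R hR (square_ne_bot hA hc)
    obtain ⟨L, hL, hNL⟩ := exists_coatom_ge (normalizer_ne_top_of_pgroup hG (hAp.to_le hYA) hY1)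
    have hNR : normalizer ((R : Subgroup G) : Set G) ≤ L := hYn.trans hNL
    have hRL : (R : Subgroup G) ≤ L := Subgroup.le_normalizer.trans hNR
    have hpL : p ∈ sigma L := ⟨hp, (square_dvd_card hA hc).trans (Subgroup.card_dvd_of_le (hR.trans hRL)),
      R.subtype hRL, by rwa [Sylow.coe_subtype, Subgroup.map_subgroupOf_eq_of_le hRL]⟩
    have hQL : (Q : Subgroup G) ≤ L :=
      hQC.trans ((Subgroup.centralizer_le hYA).trans ((Subgroup.centralizer_le_normalizer _).trans hNL))
    obtain ⟨-, -, -, -, hkey⟩ := S1414.result hG L hL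
    obtain ⟨-, -, hp2⟩ := hkey p hp hpL.2.1 fun hb => not_ideal_of_square hA hc hmax hb.2
    haveI := isSolvable_of_coatom hG hL
    haveI : (pPrimeCore p ↥L).Normal := PCore.pPrimeCore_normal
    set K := core p L with hK
    have hQK : (Q : Subgroup G) ≤ K :=
      le_map_of_not_dvd_index hQL Q.2 fun hd => absurd (hp2 q Fact.out hd) (by omega)
    have hcopK : ∀ {X : Subgroup G}, IsPGroup p X → (Nat.card X).Coprime (Nat.card K) := fun {X} hX =>
      coprime_of_isPGroup hX fun hd => hp.coprime_iff_not_dvd.1 (coprime_card_core (p := p) L).symm hd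
    have hKs : Group.IsSolvable K := Coprime.isSolvable_of_le (core_le L) inferInstance
    have hKn : L ≤ normalizer (K : Set G) := le_normalizer_core L
    obtain ⟨Q₁, -, hQ₁, hn₁⟩ := exists_sylow_invariant_ge (q := q) (U := ⊥) hKs (hRL.trans hKn) (hcopK R.2)
      (fun hd => Q.not_dvd_index (hd.trans (Subgroup.index_dvd_of_le hQK))) bot_le IsPGroup.of_bot
      (le_top.trans (Subgroup.normalizer_eq_top (H := (⊥ : Subgroup G))).ge)
    obtain ⟨c, hcK, hcA, hcQ⟩ := exists_centralizer_conj_sylow ((hR.trans hRL).trans hKn) (hcopK hAp) hKs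
      Q Q₁ hQK hQ₁ (hAM.trans hQn) (hR.trans hn₁)
    -- replace `R` by a conjugate inside `M`
    set P : Sylow p G := c⁻¹ • R with hP
    have hPc : (P : Subgroup G) = MulAut.conj c⁻¹ • (R : Subgroup G) := Sylow.coe_subgroup_smul ..
    have hNQ : normalizer ((Q : Subgroup G) : Set G) ≤ M := normalizer_sylow_le hqs Q hQM
    have hPQ : (P : Subgroup G) ≤ normalizer ((Q : Subgroup G) : Set G) := by
      rw [hPc]
      refine (le_normalizer_conj_smul hn₁ c⁻¹).trans (le_of_eq ?_)
      rw [hcQ, Coprime.conj_smul_smul, inv_mul_cancel, map_one, one_smul]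
    have hPM : (P : Subgroup G) ≤ M := hPQ.trans hNQ
    have hAP : A ≤ (P : Subgroup G) := by
      rw [hPc]
      exact (Coprime.conj_smul_eq_self_of_mem (Subgroup.centralizer_le_normalizer _ (inv_mem hcA))).ge.trans
        (Subgroup.pointwise_smul_le_pointwise_smul_iff.2 hR)
    have hNP : normalizer ((P : Subgroup G) : Set G) ≤ L := by
      intro n hn
      have h1 : c * n * c⁻¹ ∈ normalizer ((R : Subgroup G) : Set G) := by
        refine Coprime.mem_normalizer_of_conj_smul_eq ?_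
        have h2 := Coprime.conj_smul_eq_self_of_mem hn
        rw [hPc, Coprime.conj_smul_smul] at h2
        rw [show c * n * c⁻¹ = c * (n * c⁻¹) by group, ← Coprime.conj_smul_smul, h2, Coprime.conj_smul_smul,
          mul_inv_cancel, map_one, one_smul]
      have h3 := L.mul_mem (L.mul_mem (L.inv_mem (core_le L hcK)) (hNR h1)) (core_le L hcK)
      rwa [show c⁻¹ * (c * n * c⁻¹) * c = n by group] at h3
    have hPL : (P : Subgroup G) ≤ L := Subgroup.le_normalizer.trans hNP
    have hdec : ∀ n ∈ normalizer ((P : Subgroup G) : Set G), ∃ d ∈ centralizer ((P : Subgroup G) : Set G),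
        ∃ m ∈ M, n = d * m := by
      intro n hn
      have hnQK : ((n • Q : Sylow q G) : Subgroup G) ≤ K := by
        rw [Sylow.coe_subgroup_smul]
        exact (Subgroup.pointwise_smul_le_pointwise_smul_iff.2 hQK).trans
          (Coprime.conj_smul_eq_self_of_mem (hKn (hNP hn))).le
      have hnn : (P : Subgroup G) ≤ normalizer (((n • Q : Sylow q G) : Subgroup G) : Set G) := by
        rw [Sylow.coe_subgroup_smul]
        exact (Coprime.conj_smul_eq_self_of_mem hn).ge.trans (le_normalizer_conj_smul hPQ n)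
      obtain ⟨d, -, hdP, hd⟩ := exists_centralizer_conj_sylow (hPL.trans hKn) (hcopK P.2) hKs Q (n • Q)
        hQK hnQK hPQ hnn
      refine ⟨d, hdP, d⁻¹ * n, hNQ (Coprime.mem_normalizer_of_conj_smul_eq ?_), by group⟩
      rw [← Coprime.conj_smul_smul, ← Sylow.coe_subgroup_smul (g := n) (P := Q), hd, Coprime.conj_smul_smul,
        inv_mul_cancel, map_one, one_smul]
    -- `P = [P, V] ≤ M'`
    set N := normalizer ((P : Subgroup G) : Set G) with hN
    haveI : ((P.subtype Subgroup.le_normalizer : Sylow p N) : Subgroup N).Normal := by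
      rw [Sylow.coe_subtype]
      exact Subgroup.normal_in_normalizer
    obtain ⟨V, hV⟩ := Subgroup.exists_right_complement'_of_coprime
      (P.subtype Subgroup.le_normalizer : Sylow p N).card_coprime_index
    have hcompl : IsComplIn (P : Subgroup G) (V.map N.subtype) N := by
      refine ⟨Subgroup.le_normalizer, Subgroup.map_subtype_le _, ?_, fun m hm => ?_⟩
      · rw [eq_bot_iff]
        rintro _ ⟨hx, ⟨v, hv, rfl⟩⟩
        have h2 := hV.disjoint.le_bot ⟨hx, hv⟩
        rw [Subgroup.mem_bot] at h2 ⊢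
        rw [h2]
        rfl
      · obtain ⟨⟨x, y⟩, hxy⟩ := hV.2 ⟨m, hm⟩
        exact ⟨(x : N), x.2, (y : N), ⟨y, y.2, rfl⟩, congrArg Subtype.val hxy.symm⟩
    obtain ⟨hPV, -⟩ := S1411.result hG p P _ hcompl
    have hPM' : (P : Subgroup G) ≤ ⁅M, M⁆ := by
      conv_lhs => rw [hPV]
      refine Subgroup.commutator_le.2 fun x hx v hv => ?_
      obtain ⟨d, hd, m, hm, rfl⟩ := hdec v (Subgroup.map_subtype_le _ hv)
      have hxm : ⁅x, d * m⁆ = d * ⁅x, m⁆ * d⁻¹ := by
        have h1 : Commute d x := (Subgroup.mem_centralizer_iff.1 hd x hx).symm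
        calc ⁅x, d * m⁆ = x * d * m * x⁻¹ * (m⁻¹ * d⁻¹) := by simp only [commutatorElement_def]; group
          _ = d * x * m * x⁻¹ * (m⁻¹ * d⁻¹) := by rw [h1.eq]
          _ = _ := by simp only [commutatorElement_def]; group
      have hxP : ⁅x, d * m⁆ ∈ (P : Subgroup G) :=
        Coprime.commutator_le_left_of_le_normalizer (Subgroup.map_subtype_le V)
          (Subgroup.commutator_mem_commutator hx hv)
      have h2 : Commute d ⁅x, d * m⁆ := (Subgroup.mem_centralizer_iff.1 hd _ hxP).symm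
      have h3 : ⁅x, m⁆ = ⁅x, d * m⁆ := by
        calc ⁅x, m⁆ = d⁻¹ * ⁅x, d * m⁆ * d := by rw [hxm]; group
          _ = _ := by rw [mul_assoc, ← h2.eq, inv_mul_cancel_left]
      rw [← h3]
      exact Subgroup.commutator_mem_commutator (hPM hx) hm
    exact hps ⟨hp, hpM, P.subtype hPM, by
      rw [Sylow.coe_subtype, Subgroup.map_subgroupOf_eq_of_le hPM]
      exact le_of_eq (normalizer_eq_of_normal hG hM hPM (hnorm P hPM') fun e => square_ne_bot hA hc (le_bot_iff.1 (e ▸ hAP)))⟩
  -- `C(A) ≤ M`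
  obtain ⟨S, hS⟩ := exists_sylow_map_ge hAp hAM
  obtain ⟨P, hP⟩ := sigma_sylow_eq hσ S
  have hAP : A ≤ (P : Subgroup G) := hP.symm ▸ hS
  have hPM : (P : Subgroup G) ≤ M := hP.trans_le (Subgroup.map_subtype_le _)
  have hPn := hnorm P ((hP.trans_le (sylow_le_sigmaCore hG hM hσ S)).trans (sigmaCore_le_commutator hG hM))
  obtain ⟨Y, hY1, hYA, hYn⟩ := omega_center hmax P hAP (square_ne_bot hA hc)
  have hYM := normalizer_eq_of_normal hG hM (hYA.trans hAM) (hPn.trans hYn) hY1
  exact ⟨(Subgroup.centralizer_le hYA).trans ((Subgroup.centralizer_le_normalizer _).trans hYM.le), hσ, hα, hσnil⟩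

end

/-- Let G be a minimal simple group of odd order, M a maximal subgroup, p a prime and A ≤ M elementary abelian of order p ^ 2. Then C_G(A) ≤ M. If moreover for every subgroup A₀ of A of order p, M is not the unique maximal subgroup containing N_G(A₀), then p ∈ σ(M), M_α = 1 and M_σ is nilpotent. -/
theorem result {G : Type*} [Group G] [Finite G] (hG : Cfsg.IsMinSimpleOddOrder G)
    (M : Subgroup G) (hM : IsCoatom M) (p : ℕ) [Fact p.Prime] (A : Subgroup G) (hA : (A ≤ M ∧ Cfsg.IsElementaryAbelian p A ∧ Nat.card A = p ^ 2)) :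
    Subgroup.centralizer (A : Set G) ≤ M ∧
      ((∀ A₀ : Subgroup G, A₀ ≤ A → Nat.card A₀ = p →
          ¬ (Subgroup.normalizer (A₀ : Set G) ≤ M ∧ ∀ L : Subgroup G, IsCoatom L → Subgroup.normalizer (A₀ : Set G) ≤ L → L = M)) →
        p ∈ Cfsg.sigma M ∧ Cfsg.alphaCore M = ⊥ ∧ Group.IsNilpotent (Cfsg.sigmaCore M)) := by
  obtain ⟨hAM, hA, hc⟩ := hA
  by_cases h : ∀ A₀ : Subgroup G, A₀ ≤ A → Nat.card A₀ = p →
      ¬ (Subgroup.normalizer (A₀ : Set G) ≤ M ∧ ∀ L : Subgroup G, IsCoatom L → Subgroup.normalizer (A₀ : Set G) ≤ L → L = M)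
  · obtain ⟨h1, h2⟩ := exceptional_lines_main hG hM hAM hA hc h
    exact ⟨h1, fun _ => h2⟩
  · refine ⟨?_, fun hall => absurd hall h⟩
    push Not at h
    obtain ⟨A₀, h0, -, hN, -⟩ := h
    exact ((Subgroup.centralizer_le h0).trans (Subgroup.centralizer_le_normalizer _)).trans hN

end Cfsg.Agent.S1416
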