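import Cfsg.Statements.S1422
import Cfsg.Agent.Lib.OddOrder.SigmaEmbed
import Cfsg.Agent.Lib.OddOrder.NonabelianSylow
import Cfsg.Agent.S1416

set_option autoImplicit false
open Cfsg

namespace Cfsg.Agent.S1422

open Subgroup (centralizer normalizer zpowers)
open scoped Pointwise commutatorElement
open Cfsg.Agent.OddOrder

universe u

section

variable {G : Type u} [Group G] [Finite G] {p : ℕ} [Fact p.Prime] (hG : IsMinSimpleOddOrder G)
include hG

/-- If `M_α = 1` the Sylow subgroups for `σ(M)` are normal in `M`. -/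
theorem le_normalizer_sylow {M : Subgroup G} (hM : IsCoatom M) (hα : alphaCore M = ⊥)
    (hp : p ∈ sigma M) (S : Sylow p M) : M ≤ normalizer ((S : Subgroup M).map M.subtype : Set G) := by
  set N := piCore (alpha M) ↥M
  have hN : N = ⊥ := (Subgroup.map_eq_bot_iff_of_injective _ M.subtype_injective).1 hα
  set π := QuotientGroup.mk' N
  set D := (pCore p (↥M ⧸ N)).comap π
  have hD : IsPGroup p D := by
    obtain ⟨j, hj⟩ := (PCore.isPGroup_pCore (p := p) (G := ↥M ⧸ N)).exists_card_eq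
    have h := PCore.card_comap_dvd π (pCore p (↥M ⧸ N))
    rw [QuotientGroup.ker_mk', show Nat.card N = 1 from hN.symm ▸ Subgroup.card_bot, one_mul, hj] at h
    obtain ⟨i, -, hi⟩ := (Nat.dvd_prime_pow (Fact.out : p.Prime)).1 h
    exact IsPGroup.of_card hi
  have hSD : (S : Subgroup M) ≤ D := fun x hx => by
    obtain ⟨k, hk⟩ := S.2 ⟨x, hx⟩
    refine Subnormal.mem_pCore_of_mem_fittingSubgroup (k := k) (commutator_quotient_le_fitting hG hM ?_)
      (by rw [← map_pow, show x ^ p ^ k = 1 from congrArg Subtype.val hk, map_one])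
    have h := sylow_le_commutator_of_sigma hG hM hp S ⟨x, hx, rfl⟩
    rw [← Subgroup.map_subtype_commutator] at h
    obtain ⟨x', hx', e⟩ := h
    have h2 := Subgroup.mem_map_of_mem π ((Subtype.ext e : x' = x) ▸ hx')
    rw [commutator_def, Subgroup.map_commutator] at h2
    exact Subgroup.commutator_mono le_top le_top h2
  haveI : (S : Subgroup M).Normal := by
    rw [← S.3 hD hSD]; infer_instance
  exact le_normalizer_map_of_normal _

/-- The configuration with `C(a) ≤ L` for the noncentral elements of order `p` is impossible. -/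
theorem false_of_centralizer_le {M L : Subgroup G} (hM : IsCoatom M) (hL : IsCoatom L) (hne : L ≠ M)
    (S : Sylow p G) (hr : PRankLE p 2 (S : Subgroup G)) (hSM : (S : Subgroup G) ≤ M)
    (hNM : normalizer ((S : Subgroup G) : Set G) ≤ M) (hSL : (S : Subgroup G) ≤ L)
    (hpM : p ∈ sigma M) (hpL : p ∈ sigma L) (hα : alphaCore M ≠ ⊥) {z : G} {P₁ : Subgroup G}
    (hzP : z ∈ P₁) (hz : z ^ p = 1) (hz1 : z ≠ 1) (hSz : (S : Subgroup G) ≤ centralizer ({z} : Set G))
    (hP₁ : P₁ ≤ S) (hexp : ∀ x ∈ P₁, x ^ p = 1) (hnc : ∀ a ∈ P₁, zpowers z ⊔ zpowers a ≠ P₁)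
    (hcomm : ∀ s ∈ (S : Subgroup G), ∀ t ∈ (S : Subgroup G), ⁅s, t⁆ ∈ zpowers z)
    (hC : ∀ a ∈ (S : Subgroup G), a ^ p = 1 → a ∉ zpowers z → centralizer ({a} : Set G) ≤ L) :
    False := by
  have hn : NotConj M L := fun g hg => by
    have hS1 : (S : Subgroup G) ≠ ⊥ := fun e => hz1 (Subgroup.mem_bot.1 (e ▸ hP₁ hzP))
    obtain ⟨m, hm, c, hc, hmc⟩ := exists_mul_centralizer hG hM hpM S.2 hS1 hSM (g := g⁻¹)
      (conj_smul_le (hg ▸ hSL))
    have hg' : g ∈ M := by
      have h := M.mul_mem hm (hNM (Subgroup.centralizer_le_normalizer _ hc))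
      rw [← hmc] at h
      simpa using h
    exact hne (hg.trans (Coprime.conj_smul_eq_self_of_mem (Subgroup.le_normalizer hg')))
  obtain ⟨q, hq, hqd⟩ := Nat.exists_prime_and_dvd fun e => hα (Subgroup.card_eq_one.1 e)
  haveI := Fact.mk hq
  have hqα : q ∈ alpha M := isPiGrp_piCoreOf (alpha M) M q hq hqd
  have hpα : p ∉ alpha M := fun h => by
    refine not_pRankLE_sylow h.2 (S.subtype hSM) ?_
    rw [Sylow.coe_subtype, Subgroup.map_subgroupOf_eq_of_le hSM]
    exact hr
  have hqL : q ∉ sigma L := disjoint_alpha_sigma hG hL hM hn.symm hqα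
  have hqp : q ≠ p := fun e => hpα (e ▸ hqα)
  set K := alphaCore M
  have hcopK : ∀ {X : Subgroup G}, IsPGroup p X → (Nat.card X).Coprime (Nat.card K) := fun hX =>
    coprime_of_isPGroup hX fun hd => hpα (isPiGrp_piCoreOf (alpha M) M p Fact.out hd)
  have hSK : (S : Subgroup G) ≤ normalizer (K : Set G) := hSM.trans (le_normalizer_piCoreOf _ M)
  obtain ⟨Q₀, hQ₀⟩ := Coprime.exists_invariant_sylow (p := q) hSK (hcopK S.2)
    (Or.inl (haveI := S.2.isNilpotent; inferInstance))
  set Q := (Q₀ : Subgroup K).map K.subtype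
  have hQq : IsPGroup q Q := Q₀.2.map _
  have hcopQ : (Nat.card (S : Subgroup G)).Coprime (Nat.card Q) :=
    (hcopK S.2).coprime_dvd_right (Subgroup.card_dvd_of_le (Subgroup.map_subtype_le _))
  have hSQ : (S : Subgroup G) ≤ normalizer (Q : Set G) := hQ₀
  set T := Q ⊓ L
  have hST : (S : Subgroup G) ≤ centralizer (T : Set G) :=
    le_centralizer_of_le_derived hG hL hqp S.2 (le_derived_of_sigma hG hL hpL S.2 hSL)
      (hQq.to_le inf_le_left) inf_le_right
      (Coprime.le_normalizer_inf_of_le hSQ (hSL.trans Subgroup.le_normalizer))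
      fun h => hqL (alpha_subset_sigma hG hL h)
  have hCT : ∀ a ∈ (S : Subgroup G), a ^ p = 1 → a ∉ zpowers z →
      Q ⊓ centralizer ({a} : Set G) ≤ T := fun a ha hap haz =>
    le_inf inf_le_left (inf_le_right.trans (hC a ha hap haz))
  -- the centraliser of `z`
  have hW : Q ⊓ centralizer ({z} : Set G) ≤ T := by
    refine le_of_forall_centralizer_le_mod (hP₁.trans hSz) inf_le_right hzP
      (fun a ha b hb => hcomm a (hP₁ ha) b (hP₁ hb)) hnc ?_
      ((hcopQ.coprime_dvd_left (Subgroup.card_dvd_of_le hP₁)).coprime_dvd_right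
        (Subgroup.card_dvd_of_le inf_le_left))
      fun a ha haz => (inf_le_inf_right _ inf_le_left).trans (hCT a (hP₁ ha) (hexp a ha) haz)
    exact Coprime.le_normalizer_inf_of_le (hP₁.trans hSQ)
      ((hP₁.trans hSz).trans Subgroup.le_normalizer)
  obtain ⟨a, ha, haz⟩ : ∃ a ∈ P₁, a ∉ zpowers z := by
    by_contra h
    push Not at h
    refine hnc z hzP ?_
    rw [sup_idem]
    exact le_antisymm (Subgroup.zpowers_le.2 hzP) h
  have hca : Commute a z :=
    Subgroup.mem_centralizer_singleton_iff.1 ((hP₁.trans hSz) ha)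
  obtain ⟨hA, hAc⟩ := square_of_line hz hz1 (hexp a ha) haz hca
  set A := zpowers z ⊔ zpowers a
  have hAP : A ≤ P₁ := sup_le (Subgroup.zpowers_le.2 hzP) (Subgroup.zpowers_le.2 ha)
  haveI := hA.1
  have hQT : T = Q := by
    refine Coprime.eq_of_forall_centralizer_le (square_not_cyclic hA hAc) ((hAP.trans hP₁).trans hSQ)
      (hcopQ.coprime_dvd_left (Subgroup.card_dvd_of_le (hAP.trans hP₁))) inf_le_left fun b hb hb1 => ?_
    by_cases hbz : b ∈ zpowers z
    · refine le_trans (inf_le_inf_left _ ?_) hW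
      have hzb : z ∈ zpowers b := by
        have e : zpowers b = zpowers z := Subgroup.eq_of_le_of_card_ge (Subgroup.zpowers_le.2 hbz) (by
          rw [Nat.card_zpowers, Nat.card_zpowers, orderOf_eq_prime hz hz1,
            orderOf_eq_prime (hA.2 b hb) hb1])
        exact e.ge (Subgroup.mem_zpowers z)
      obtain ⟨i, rfl⟩ := hzb
      intro x hx
      exact Subgroup.mem_centralizer_singleton_iff.2
        (Commute.zpow_right (Subgroup.mem_centralizer_singleton_iff.1 hx) i).eq
    · exact hCT b (hP₁ (hAP hb)) (hA.2 b hb) hbz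
  have hQL : Q ≤ L := hQT.ge.trans inf_le_right
  -- `Q` contains a Sylow subgroup of `M`
  obtain ⟨R⟩ : Nonempty (Sylow q M) := inferInstance
  have hR : (R : Subgroup M).map M.subtype ≤ K :=
    Subgroup.map_mono (sylow_le_piCore_alpha hG hM hqα R)
  obtain ⟨k, -, hk⟩ := IsSyl.exists_conj_le (A := K) ⟨Q₀, rfl⟩ (R.2.map _) hR
  refine hqL (alpha_subset_sigma hG hL ⟨hq, fun hL2 => not_pRankLE_sylow hqα.2 R ?_⟩)
  rw [← pRankLE_conj_iff k]
  exact pRankLE_of_injective (f := Subgroup.inclusion (hk.trans hQL))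
    (Subgroup.inclusion_injective _) hL2

end

/-- Let G be a minimal simple group of odd order, p a prime and P a non-abelian p-subgroup of G. Then P lies in exactly one maximal subgroup of G. -/
theorem result {G : Type*} [Group G] [Finite G] (hG : Cfsg.IsMinSimpleOddOrder G) (p : ℕ) [Fact p.Prime] (P : Subgroup G) (hP : IsPGroup p P) (hPna : ¬ IsMulCommutative P) :
    Cfsg.InUniqueMaximal P := by
  have hcycP : ¬ IsCyclic P := fun h => hPna inferInstance
  have hP1 : P ≠ ⊥ := fun e => hPna (e ▸ inferInstance)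
  have hσ : ∀ M : Subgroup G, IsCoatom M → P ≤ M → p ∈ sigma M := fun M hM hPM => by
    by_contra hps
    obtain ⟨E, hE⟩ := exists_complIn hG hM
    refine hPna ((S1420.result hG M hM E hE).1 P hPM hP.isNilpotent fun r hr hd => ?_)
    obtain ⟨k, hk⟩ := hP.exists_card_eq
    rw [(Nat.prime_dvd_prime_iff_eq hr Fact.out).1 (hr.dvd_of_dvd_pow (hk ▸ hd))]
    exact hps
  obtain ⟨M, hM, hPM⟩ := exists_coatom_ge (ne_top_of_isPGroup hG hP)
  refine ⟨M, ⟨hM, hPM⟩, ?_⟩
  rintro L ⟨hL, hPL⟩
  by_contra hne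
  obtain ⟨T, hT, hPT⟩ := exists_isSyl_ge hP (le_inf hPM hPL)
  have hTc : ¬ IsCyclic T := fun h => by
    haveI := h
    exact hcycP (isCyclic_of_injective (Subgroup.inclusion hPT) (Subgroup.inclusion_injective hPT))
  have hN : ∀ K : Subgroup G, IsCoatom K → P ≤ K → T ≤ K → normalizer (T : Set G) ≤ K := fun K hK hPK hTK => by
    obtain ⟨E, hE⟩ := exists_complIn hG hK
    exact (S1420.result hG K hK E hE).2.2.1 p T (hσ K hK hPK) hT.isPGroup hTK hTc
  have hNM := hN M hM hPM (hT.le.trans inf_le_left)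
  have hNL := hN L hL hPL (hT.le.trans inf_le_right)
  obtain ⟨S, hS⟩ := hT.exists_sylow (le_inf hNM hNL)
  subst hS
  have hSM : (S : Subgroup G) ≤ M := hT.le.trans inf_le_left
  have hSL : (S : Subgroup G) ≤ L := hT.le.trans inf_le_right
  have hr : PRankLE p 2 (S : Subgroup G) := by_contra fun h =>
    hne (eq_of_rank_three hG hM hSM h hL hSL)
  obtain ⟨z, P₁, hzP, hz, hz1, hSz, hP₁, hexp, hnc, hcomm, hmem⟩ := exists_center_data hG S hr fun h =>
    hPna ⟨⟨fun a b => Subtype.ext (haveI := h; setLike_mul_comm (hPT a.2) (hPT b.2))⟩⟩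
  have hα : ∀ K K' : Subgroup G, IsCoatom K → IsCoatom K' → K ≠ K' → P ≤ K →
      (S : Subgroup G) ≤ K → normalizer ((S : Subgroup G) : Set G) ≤ K' → alphaCore K ≠ ⊥ := by
    intro K K' hK hK' hKK hPK hSK hNK' hbot
    have h := le_normalizer_sylow hG hK hbot (hσ K hK hPK) (S.subtype hSK)
    rw [Sylow.coe_subtype, Subgroup.map_subgroupOf_eq_of_le hSK] at h
    exact hKK (eq_of_coatom_le hK hK' (h.trans hNK'))
  have hαM := hα M L hM hL (Ne.symm hne) hPM hSM hNL
  have hαL := hα L M hL hM hne hPL hSL hNM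
  -- either the central line is exceptional for `K`, or every noncentral one is
  have key : ∀ K : Subgroup G, IsCoatom K → (S : Subgroup G) ≤ K → alphaCore K ≠ ⊥ →
      ¬ (normalizer (zpowers z : Set G) ≤ K ∧
        ∀ N : Subgroup G, IsCoatom N → normalizer (zpowers z : Set G) ≤ N → N = K) →
      ∀ a ∈ (S : Subgroup G), a ^ p = 1 → a ∉ zpowers z → centralizer ({a} : Set G) ≤ K := by
    intro K hK hSK hαK hzK a ha hap haz
    have hzS : z ∈ (S : Subgroup G) := hP₁ hzP
    obtain ⟨hA, hAc⟩ := square_of_line hz hz1 hap haz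
      (Subgroup.mem_centralizer_singleton_iff.1 (hSz ha))
    have hAK : zpowers z ⊔ zpowers a ≤ K :=
      sup_le (Subgroup.zpowers_le.2 (hSK hzS)) (Subgroup.zpowers_le.2 (hSK ha))
    have h16 := (S1416.result hG K hK p _ ⟨hAK, hA, hAc⟩).2
    by_contra hCK
    refine hαK (h16 fun A₀ h0 h0c hA₀ => ?_).2.1
    have hAz : A₀ ≠ zpowers z := fun e => hzK (e ▸ hA₀)
    obtain ⟨g, hg, hgA⟩ := exists_conj_line hz hz1 hSz hcomm ha hap
      (fun h => haz (hmem a ha hap h)) h0 h0c hAz
    refine hCK ((centralizer_singleton_le_normalizer_zpowers a).trans ?_)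
    rw [← hgA, normalizer_conj_smul]
    exact (Subgroup.pointwise_smul_le_pointwise_smul_iff.2 hA₀.1).trans
      (Coprime.conj_smul_eq_self_of_mem (Subgroup.le_normalizer (hSK hg))).le
  by_cases hzM : normalizer (zpowers z : Set G) ≤ M ∧
      ∀ N : Subgroup G, IsCoatom N → normalizer (zpowers z : Set G) ≤ N → N = M
  · exact false_of_centralizer_le hG hM hL hne S hr hSM hNM hSL (hσ M hM hPM) (hσ L hL hPL) hαM
      hzP hz hz1 hSz hP₁ hexp hnc hcomm (key L hL hSL hαL fun h => hne (hzM.2 L hL h.1))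
  · exact false_of_centralizer_le hG hL hM (Ne.symm hne) S hr hSL hNL hSM (hσ L hL hPL) (hσ M hM hPM)
      hαL hzP hz hz1 hSz hP₁ hexp hnc hcomm (key M hM hSM hαM hzM)

end Cfsg.Agent.S1422
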