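import Cfsg.Statements.S1423
import Cfsg.Agent.Lib.OddOrder.SigmaLine
import Cfsg.Agent.S1422

set_option autoImplicit false
open Cfsg

namespace Cfsg.Agent.S1423

open Subgroup (centralizer normalizer zpowers)
open scoped Pointwise commutatorElement
open Cfsg.Agent.OddOrder

/-- Let G be a minimal simple group of odd order, M a maximal subgroup, p ∈ σ(M), X ≤ M a subgroup of order p and P a Sylow p-subgroup of M_σ. If p ∈ β(M) or X ≤ (M_σ)', then C_G(X) ≤ M, M is the unique maximal subgroup containing C_G(X), and M is the unique maximal subgroup containing P. -/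
theorem result {G : Type*} [Group G] [Finite G] (hG : Cfsg.IsMinSimpleOddOrder G)
    (M : Subgroup G) (hM : IsCoatom M) (p : ℕ) [Fact p.Prime] (hp : p ∈ Cfsg.sigma M) (X : Subgroup G) (hXM : X ≤ M) (hX : Nat.card X = p)
    (P : Sylow p ↥(Cfsg.sigmaCore M)) (h : p ∈ Cfsg.beta M ∨ X ≤ ⁅Cfsg.sigmaCore M, Cfsg.sigmaCore M⁆) :
    (Subgroup.centralizer (X : Set G) ≤ M ∧ ∀ L : Subgroup G, IsCoatom L → Subgroup.centralizer (X : Set G) ≤ L → L = M) ∧ Cfsg.InUniqueMaximal ((P : Subgroup ↥(Cfsg.sigmaCore M)).map (Cfsg.sigmaCore M).subtype) ∧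
      (P : Subgroup ↥(Cfsg.sigmaCore M)).map (Cfsg.sigmaCore M).subtype ≤ M := by
  set P₀ := (P : Subgroup (Cfsg.sigmaCore M)).map (Cfsg.sigmaCore M).subtype
  have hKM : (Cfsg.sigmaCore M) ≤ M := piCoreOf_le _ M
  have hP₀M : P₀ ≤ M := (Subgroup.map_subtype_le _).trans hKM
  have hind : ¬ p ∣ P₀.index := by
    rw [Subgroup.index_map_subtype]
    exact (Fact.out : p.Prime).not_dvd_mul P.not_dvd_index ((sigmaCore_isPiHall hG hM).2 p Fact.out hp)
  let Q : Sylow p G := (P.2.map (Cfsg.sigmaCore M).subtype).toSylow hind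
  have hQ : (Q : Subgroup G) = P₀ := rfl
  have hXp : IsPGroup p X := isPGroup_of_card_prime hX
  have hX1 : X ≠ ⊥ := ne_bot_of_card_prime hX
  have hconj : ∀ R : Sylow p G, (R : Subgroup G) ≤ M → ¬ PRankLE p 2 (R : Subgroup G) →
      ¬ PRankLE p 2 P₀ := by
    intro R _ hr h
    obtain ⟨g, hg⟩ := MulAction.exists_smul_eq G Q R
    refine hr ?_
    rw [← hg, Sylow.coe_subgroup_smul, hQ]
    exact pRankLE_conj g h
  by_cases hb : p ∈ Cfsg.beta M
  · obtain ⟨S, hS⟩ := exists_sylow_map_ge hXp hXM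
    obtain ⟨R, hR⟩ := sigma_sylow_eq hp S
    have hr : ¬ PRankLE p 2 (R : Subgroup G) := by
      rw [hR]
      exact not_pRankLE_sylow hb.1.2 S
    have hRM : (R : Subgroup G) ≤ M := hR.trans_le (Subgroup.map_subtype_le _)
    obtain ⟨Y, hYR, hYX, hY⟩ := exists_cube_ideal hb.2 R hr hX (hR.symm ▸ hS)
    exact ⟨centralizer_le_of_rank hG hM hXp hX1 (hYR.trans hRM) hYX hY,
      inUniqueMaximal_of_rank hG (fun e => hM.1 (top_unique (e ▸ hP₀M))) (hconj R hRM hr), hP₀M⟩
  · obtain ⟨R, hRK, hXR⟩ := exists_sylow_derived_ge hG hM hp hb hXp (h.resolve_left hb)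
    have hRM : (R : Subgroup G) ≤ M := hRK.trans hKM
    have hna : ¬ IsMulCommutative (R : Subgroup G) := fun hc => hX1 (le_bot_iff.1 (hXR.trans (by
      haveI := hc
      exact (Subgroup.commutator_eq_bot_iff_le_centralizer.2 fun a ha =>
        Subgroup.mem_centralizer_iff.2 fun b hb => setLike_mul_comm hb ha).le)))
    have hP₀ : InUniqueMaximal P₀ := by
      refine S1422.result hG p P₀ (P.2.map (Cfsg.sigmaCore M).subtype) fun hc => hna ?_
      obtain ⟨g, hg⟩ := MulAction.exists_smul_eq G Q R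
      rw [← hg, Sylow.coe_subgroup_smul, hQ]
      haveI := hc
      exact Subgroup.map_isMulCommutative P₀ (MulAut.conj g).toMonoidHom
    by_cases hr : PRankLE p 2 (R : Subgroup G)
    · obtain ⟨z, P₁, -, -, -, hRz, -, -, -, hcomm, -⟩ := exists_center_data hG R hr hna
      have hRX : (R : Subgroup G) ≤ centralizer (X : Set G) := fun r hr' => by
        have hXz : X ≤ zpowers z := hXR.trans (Subgroup.commutator_le.2 hcomm)
        exact Subgroup.centralizer_le hXz (le_centralizer_zpowers (fun y hy =>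
          Subgroup.mem_centralizer_singleton_iff.1 (hRz hy)) hr')
      have hu := (S1422.result hG p (R : Subgroup G) R.2 hna)
      have hC : ∀ L : Subgroup G, IsCoatom L → centralizer (X : Set G) ≤ L → L = M := fun L hL hle =>
        hu.unique ⟨hL, hRX.trans hle⟩ ⟨hM, hRM⟩
      exact ⟨⟨le_of_forall_coatom (fun e => normalizer_ne_top_of_pgroup hG hXp hX1
        (top_unique (e.ge.trans (Subgroup.centralizer_le_normalizer _)))) hC, hC⟩, hP₀, hP₀M⟩
    · have hpα : p ∈ Cfsg.alpha M := ⟨Fact.out, fun h => hr (pRankLE_of_injective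
        (f := Subgroup.inclusion hRM) (Subgroup.inclusion_injective _) h)⟩
      obtain ⟨Y, hYR, hYX, hY⟩ := exists_cube_derived hG (fun hid => hb ⟨hpα, hid⟩) R hr hX hXR
      exact ⟨centralizer_le_of_rank hG hM hXp hX1 (hYR.trans hRM) hYX hY, hP₀, hP₀M⟩

end Cfsg.Agent.S1423
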