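import Cfsg.Statements.S1459
import Cfsg.Agent.Lib.Coprime.Commutator
import Cfsg.Agent.Lib.PCore.Basic
import Cfsg.Agent.Lib.PGroup.Frattini
-- import your own Cfsg.Agent.* helpers here

set_option autoImplicit false
open Cfsg

namespace Cfsg.Agent.S1459

/-- Let G be a finite solvable group. (a) If H is a normal subgroup of order coprime to its index, K is a complement to H, and H ≤ G', then H = [H, K] and H ∩ C_G(K) ≤ [H, H]. (b) If G' is nilpotent and has prime index in G, then the order of G' is coprime to its index and G' = [G, K] (the subgroup generated by commutators of elements of G with elements of K) for every complement K of G'. -/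
theorem result {G : Type*} [Group G] [Finite G] [Group.IsSolvable G] :
    (∀ (H K : Subgroup G), H.Normal → (Nat.card H).Coprime H.index → Subgroup.IsComplement' H K → H ≤ commutator G →
        H = ⁅H, K⁆ ∧ H ⊓ Subgroup.centralizer (K : Set G) ≤ ⁅H, H⁆) ∧
      (Group.IsNilpotent ↥(commutator G) → (commutator G).index.Prime →
        (Nat.card ↥(commutator G)).Coprime (commutator G).index ∧
        ∀ K : Subgroup G, Subgroup.IsComplement' (commutator G) K → commutator G = ⁅(⊤ : Subgroup G), K⁆) := by
  classical
  have part1 : ∀ (H K : Subgroup G), H.Normal → (Nat.card H).Coprime H.index →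
      Subgroup.IsComplement' H K → H ≤ commutator G →
      H = ⁅H, K⁆ ∧ H ⊓ Subgroup.centralizer (K : Set G) ≤ ⁅H, H⁆ := by
    intro H K hHn hcop hc hHG
    have hKH : K ≤ Subgroup.normalizer (H : Set G) := by rw [Subgroup.normalizer_eq_top]; exact le_top
    set M := ⁅H, K⁆ with hM
    have hMH : M ≤ H := Cfsg.Agent.Coprime.commutator_le_left_of_le_normalizer hKH
    have hMn : M.Normal := by
      rw [← Subgroup.normalizer_eq_top_iff, eq_top_iff, ← hc.sup_eq_top]
      exact sup_le (Subgroup.normalizer_commutator_ge_left H K) (Subgroup.normalizer_commutator_ge_right H K)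
    set π := QuotientGroup.mk' M with hπ
    have hcomm : ⁅H.map π, K.map π⁆ = ⊥ := by
      rw [← Subgroup.map_commutator, Subgroup.map_eq_bot_iff, QuotientGroup.ker_mk']
    have hgen : commutator G ≤ (⁅H, H⁆ ⊔ ⁅K, K⁆) ⊔ M := by
      set S := (⁅H, H⁆ ⊔ ⁅K, K⁆) ⊔ M with hS
      have hSn : S.Normal := by
        rw [← Subgroup.normalizer_eq_top_iff, eq_top_iff, ← hc.sup_eq_top]
        refine sup_le ?_ ?_
        · intro h hh
          refine Cfsg.Agent.Coprime.mem_normalizer_of_conj_smul_eq (Subgroup.eq_of_le_of_card_ge ?_ (by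
            rw [Cfsg.Agent.Coprime.card_conj_smul]))
          simp only [hS, Subgroup.smul_sup]
          refine sup_le (sup_le ?_ ?_) ?_
          · rw [Cfsg.Agent.Coprime.conj_smul_eq_self_of_mem (Subgroup.normalizer_commutator_ge_left H H hh)]
            exact le_sup_of_le_left le_sup_left
          · intro x hx
            rw [Cfsg.Agent.Coprime.mem_conj_smul_iff] at hx
            have hk : h⁻¹ * x * h ∈ K := K.commutator_le_self hx
            have h1 : h * (h⁻¹ * x * h) * h⁻¹ * (h⁻¹ * x * h)⁻¹ ∈ M :=
              Subgroup.commutator_mem_commutator hh hk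
            have h2 := S.mul_mem (Subgroup.mem_sup_right h1 : _ ∈ S)
              (Subgroup.mem_sup_left (Subgroup.mem_sup_right hx) : h⁻¹ * x * h ∈ S)
            convert h2 using 1
            group
          · rw [Cfsg.Agent.Coprime.conj_smul_eq_self_of_mem (Subgroup.normalizer_commutator_ge_left H K hh)]
            exact le_sup_right
        · intro k hk
          refine Cfsg.Agent.Coprime.mem_normalizer_of_conj_smul_eq (Subgroup.eq_of_le_of_card_ge ?_ (by
            rw [Cfsg.Agent.Coprime.card_conj_smul]))
          simp only [hS, Subgroup.smul_sup]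
          refine sup_le (sup_le ?_ ?_) ?_
          · refine le_trans (le_of_eq ?_) (le_sup_of_le_left le_sup_left)
            show Subgroup.map (MulAut.conj k).toMonoidHom _ = _
            rw [Subgroup.map_commutator]
            exact congrArg₂ (fun X Y => ⁅X, Y⁆) (Cfsg.Agent.Coprime.conj_smul_eq_self_of_mem (hKH hk))
              (Cfsg.Agent.Coprime.conj_smul_eq_self_of_mem (hKH hk))
          · rw [Cfsg.Agent.Coprime.conj_smul_eq_self_of_mem (Subgroup.normalizer_commutator_ge_left K K hk)]
            exact le_sup_of_le_left le_sup_right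
          · rw [Cfsg.Agent.Coprime.conj_smul_eq_self_of_mem (Subgroup.normalizer_commutator_ge_right H K hk)]
            exact le_sup_right
      rw [commutator_def, ← hc.sup_eq_top]
      refine Subgroup.commutator_le.2 fun a ha b hb => ?_
      rw [← QuotientGroup.eq_one_iff, ← QuotientGroup.mk'_apply, map_commutatorElement,
        commutatorElement_eq_one_iff_commute]
      have hin : ∀ x ∈ H ⊔ K, ∀ y ∈ H ⊔ K, Commute (QuotientGroup.mk' S x) (QuotientGroup.mk' S y) := by
        have hgenc : ∀ x ∈ (H : Set G) ∪ K, ∀ y ∈ (H : Set G) ∪ K,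
            Commute (QuotientGroup.mk' S x) (QuotientGroup.mk' S y) := by
          intro x hx y hy
          rw [← commutatorElement_eq_one_iff_commute, ← map_commutatorElement, QuotientGroup.mk'_apply,
            QuotientGroup.eq_one_iff]
          rcases hx with hx | hx <;> rcases hy with hy | hy
          · exact Subgroup.mem_sup_left (Subgroup.mem_sup_left (Subgroup.commutator_mem_commutator hx hy))
          · exact Subgroup.mem_sup_right (Subgroup.commutator_mem_commutator hx hy)
          · rw [← commutatorElement_inv]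
            exact S.inv_mem (Subgroup.mem_sup_right (Subgroup.commutator_mem_commutator hy hx))
          · exact Subgroup.mem_sup_left (Subgroup.mem_sup_right (Subgroup.commutator_mem_commutator hx hy))
        intro x hx y hy
        rw [Subgroup.sup_eq_closure] at hx hy
        induction hx, hy using Subgroup.closure_induction₂ with
        | mem x y hx hy => exact hgenc x hx y hy
        | one_left x _ => rw [map_one]; exact Commute.one_left _
        | one_right x _ => rw [map_one]; exact Commute.one_right _
        | mul_left x y z _ _ _ h1 h2 => rw [map_mul]; exact h1.mul_left h2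
        | mul_right x y z _ _ _ h1 h2 => rw [map_mul]; exact h1.mul_right h2
        | inv_left x y _ _ h => rw [map_inv]; exact h.inv_left
        | inv_right x y _ _ h => rw [map_inv]; exact h.inv_right
      exact hin a ha b hb
    have hHM : H ≤ ⁅H, H⁆ ⊔ M := by
      intro h hh
      have h1 := hgen (hHG hh)
      rw [sup_comm ⁅H, H⁆ ⁅K, K⁆, sup_assoc] at h1
      have hsub : ⁅H, H⁆ ⊔ M ≤ H := sup_le H.commutator_le_self hMH
      have hKn : ⁅K, K⁆ ≤ Subgroup.normalizer ((⁅H, H⁆ ⊔ M : Subgroup G) : Set G) := by
        have : (⁅H, H⁆ ⊔ M).Normal := Subgroup.sup_normal _ _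
        rw [Subgroup.normalizer_eq_top]; exact le_top
      obtain ⟨k, hk, m, hm, rfl⟩ := (Cfsg.Agent.Coprime.mem_sup_iff_of_le_normalizer hKn).1 h1
      have hkH : k ∈ H := by simpa using H.mul_mem hh (H.inv_mem (hsub hm))
      have : k = 1 := (Subgroup.mem_bot).1 (hc.disjoint.le_bot (Subgroup.mem_inf.2 ⟨hkH, K.commutator_le_self hk⟩))
      rw [this, one_mul]
      exact hm
    have hHeq : M = H := by
      refine le_antisymm hMH ?_
      have : (M.subgroupOf H).Normal := Subgroup.Normal.subgroupOf hMn H
      have hperf : _root_.commutator (↥H ⧸ M.subgroupOf H) = ⊤ := by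
        rw [eq_top_iff]
        intro q _
        obtain ⟨⟨h, hh⟩, rfl⟩ := QuotientGroup.mk'_surjective _ q
        obtain ⟨c, hc', m, hm, hcm⟩ := (Cfsg.Agent.Coprime.mem_sup_iff_of_le_normalizer
          (show ⁅H, H⁆ ≤ Subgroup.normalizer (M : Set G) by
            rw [Subgroup.normalizer_eq_top]; exact le_top)).1 (hHM hh)
        have h2 : c ∈ (_root_.commutator (↥H)).map H.subtype := by
          rw [Subgroup.map_subtype_commutator]; exact hc'
        obtain ⟨c', hc'', rfl⟩ := h2
        have h3 : QuotientGroup.mk' (M.subgroupOf H) ⟨h, hh⟩ = QuotientGroup.mk' (M.subgroupOf H) c' := by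
          rw [QuotientGroup.mk'_apply, QuotientGroup.mk'_apply, QuotientGroup.eq, Subgroup.mem_subgroupOf]
          have : ((⟨h, hh⟩ : H)⁻¹ * c' : H) = (c'.1 * m)⁻¹ * c'.1 := by
            show h⁻¹ * (c' : G) = _
            rw [← hcm]; rfl
          rw [this]
          simpa using M.inv_mem hm
        rw [h3]
        have h5 : (_root_.commutator (↥H)).map (QuotientGroup.mk' (M.subgroupOf H)) ≤
            _root_.commutator (↥H ⧸ M.subgroupOf H) := by
          rw [commutator_def, commutator_def, Subgroup.map_commutator]
          exact Subgroup.commutator_mono le_top le_top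
        exact h5 (Subgroup.mem_map_of_mem _ hc'')
      rcases subsingleton_or_nontrivial (↥H ⧸ M.subgroupOf H) with hs | hnt
      · exact Subgroup.subgroupOf_eq_top.1 (QuotientGroup.subsingleton_iff.1 hs)
      · exact absurd hperf (Group.IsSolvable.commutator_lt_top_of_nontrivial (G := ↥H ⧸ M.subgroupOf H)).ne
    refine ⟨hHeq.symm, ?_⟩
    set N := ⁅H, H⁆ with hN
    have hNn : N.Normal := Subgroup.commutator_normal H H
    set ρ := QuotientGroup.mk' N with hρ
    have hab : IsMulCommutative (H.map ρ) := by
      rw [← Subgroup.commutator_self_eq_bot_iff, ← Subgroup.map_commutator, Subgroup.map_eq_bot_iff,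
        QuotientGroup.ker_mk']
    intro x hx
    have hnorm : K.map ρ ≤ Subgroup.normalizer ((H.map ρ : Subgroup (G ⧸ N)) : Set (G ⧸ N)) := by
      have : (H.map ρ).Normal := hHn.map ρ (QuotientGroup.mk'_surjective N)
      rw [Subgroup.normalizer_eq_top]; exact le_top
    have hcop' : (Nat.card (K.map ρ)).Coprime (Nat.card (H.map ρ)) := by
      refine (Nat.Coprime.coprime_dvd_left (Subgroup.card_map_dvd K ρ) ?_).coprime_dvd_right (Subgroup.card_map_dvd H ρ)
      rw [← hc.symm.index_eq_card]
      exact hcop.symm
    have h1 : ρ x ∈ (H.map ρ ⊓ Subgroup.centralizer ((K.map ρ : Subgroup (G ⧸ N)) : Set (G ⧸ N))) ⊓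
        ⁅H.map ρ, K.map ρ⁆ := by
      refine Subgroup.mem_inf.2 ⟨Subgroup.mem_inf.2 ⟨Subgroup.mem_map_of_mem ρ hx.1,
        Subgroup.mem_centralizer_iff.2 ?_⟩, ?_⟩
      · rintro _ ⟨k, hk, rfl⟩
        rw [← map_mul, ← map_mul, Subgroup.mem_centralizer_iff.1 hx.2 k hk]
      · rw [← Subgroup.map_commutator, ← hM, hHeq]
        exact Subgroup.mem_map_of_mem ρ hx.1
    rw [Cfsg.Agent.Coprime.inf_centralizer_inf_commutator_eq_bot hnorm hcop', Subgroup.mem_bot,
      hρ, QuotientGroup.mk'_apply, QuotientGroup.eq_one_iff] at h1
    exact h1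
  refine ⟨part1, fun hnil hprime => ?_⟩
  set H := commutator G with hH
  set q := H.index with hq
  have : Fact q.Prime := ⟨hprime⟩
  have hcop : (Nat.card H).Coprime q := by
    rw [Nat.coprime_comm, hprime.coprime_iff_not_dvd]
    intro hdvd
    set R₀ := Cfsg.pPrimeCore q H with hR₀
    set R : Subgroup G := R₀.map H.subtype with hR
    have : R₀.Characteristic := by rw [hR₀]; infer_instance
    have hRn : R.Normal := inferInstance
    have hRH : R ≤ H := Subgroup.map_subtype_le _
    have hidx : ∀ r : ℕ, r.Prime → r ∣ R₀.index → r = q := by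
      intro r hr hrd
      by_contra hne
      have := Fact.mk hr
      let T : Sylow r H := default
      have hTn : (T : Subgroup H).Normal :=
        Sylow.normal_of_normalizerCondition Group.normalizerCondition_of_isNilpotent T
      have hTR : (T : Subgroup H) ≤ R₀ := Cfsg.Agent.PCore.le_pPrimeCore (by
        obtain ⟨k, hk⟩ := T.2.exists_card_eq
        exact hk ▸ (((Nat.coprime_primes hr hprime).2 hne).pow_left k))
      exact T.not_dvd_index (hrd.trans (Subgroup.index_dvd_of_le hTR))
    have hp : IsPGroup q (G ⧸ R) := by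
      have hcard : Nat.card (G ⧸ R) = R₀.index * q := by
        rw [← Subgroup.index_eq_card, ← Subgroup.relIndex_mul_index hRH]
        congr 1
        show (R.subgroupOf H).index = _
        rw [hR, Subgroup.subgroupOf, Subgroup.comap_map_eq_self_of_injective H.subtype_injective]
      have he : R₀.index = q ^ R₀.index.primeFactorsList.length :=
        Nat.eq_prime_pow_of_unique_prime_dvd Subgroup.index_ne_zero_of_finite (fun hr hd => hidx _ hr hd)
      rw [he, ← pow_succ] at hcard
      exact IsPGroup.of_card hcard
    have hRne : R ≠ H := by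
      intro hRH'
      have h1 : (Nat.card R).Coprime q := by
        rw [hR, Subgroup.card_map_of_injective H.subtype_injective]
        exact Cfsg.Agent.PCore.coprime_card_pPrimeCore
      rw [hRH'] at h1
      exact hprime.not_dvd_one (h1 ▸ Nat.dvd_gcd hdvd dvd_rfl)
    -- `G / R` is a `q`-group whose derived subgroup has index `q`
    set ρ := QuotientGroup.mk' R with hρ
    have hcm : commutator (G ⧸ R) = H.map ρ := by
      rw [hH, commutator_def, commutator_def, Subgroup.map_commutator,
        Subgroup.map_top_of_surjective ρ (QuotientGroup.mk'_surjective R)]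
    obtain ⟨g, hg⟩ : ∃ g : G ⧸ R, g ∉ commutator (G ⧸ R) := by
      by_contra hall
      push Not at hall
      have h1 : (H.map ρ).index = q := by
        rw [Subgroup.index_map_eq H (QuotientGroup.mk'_surjective R) (by rw [QuotientGroup.ker_mk']; exact hRH)]
      rw [← hcm, show commutator (G ⧸ R) = ⊤ from top_unique fun x _ => hall x, Subgroup.index_top] at h1
      exact hprime.ne_one h1.symm
    have hidx' : (commutator (G ⧸ R)).index = q := by
      rw [hcm, Subgroup.index_map_eq H (QuotientGroup.mk'_surjective R) (by rw [QuotientGroup.ker_mk']; exact hRH)]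
    have hsup : Subgroup.closure {g} ⊔ frattini (G ⧸ R) = ⊤ := by
      refine top_unique (le_trans ?_ (sup_le_sup_left (Cfsg.Agent.PGroup.commutator_le_frattini hp) _))
      have h2 := Subgroup.relIndex_mul_index (le_sup_right : commutator (G ⧸ R) ≤ Subgroup.closure {g} ⊔ commutator (G ⧸ R))
      rw [hidx'] at h2
      rcases (Nat.dvd_prime hprime).1 (Dvd.intro_left _ h2) with h3 | h3
      · rw [Subgroup.index_eq_one.1 h3]
      · rw [h3] at h2
        have h4 : (commutator (G ⧸ R)).relIndex (Subgroup.closure {g} ⊔ commutator (G ⧸ R)) = 1 :=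
          Nat.eq_of_mul_eq_mul_right hprime.pos (h2.trans (one_mul q).symm)
        exact absurd (Subgroup.relIndex_eq_one.1 h4 (Subgroup.mem_sup_left (Subgroup.subset_closure rfl))) hg
    have hcyc := Cfsg.Agent.PGroup.closure_eq_top_of_sup_frattini hsup
    have hab : IsMulCommutative (G ⧸ R) := by
      refine ⟨⟨fun a b => ?_⟩⟩
      have ha : a ∈ Subgroup.closure {g} := hcyc ▸ Subgroup.mem_top a
      have hb : b ∈ Subgroup.closure {g} := hcyc ▸ Subgroup.mem_top b
      rw [Subgroup.mem_closure_singleton] at ha hb
      obtain ⟨i, rfl⟩ := ha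
      obtain ⟨j, rfl⟩ := hb
      exact zpow_mul_comm g i j
    rw [(commutator_eq_bot_iff (G ⧸ R)).2 hab] at hcm
    exact hRne (le_antisymm hRH (by rw [← QuotientGroup.ker_mk' R, ← Subgroup.map_eq_bot_iff]; exact hcm.symm))
  refine ⟨hcop, fun K hK => le_antisymm ?_ ?_⟩
  · exact (part1 H K inferInstance hcop hK le_rfl).1.le.trans (Subgroup.commutator_mono le_top le_rfl)
  · exact Subgroup.commutator_mono le_top le_top

end Cfsg.Agent.S1459
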