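import Cfsg.Statements.S1426
import Cfsg.Agent.Lib.OddOrder.SigmaEmbed
import Cfsg.Agent.S1423
import Cfsg.Agent.S1459

set_option autoImplicit false
open Cfsg

namespace Cfsg.Agent.S1426

open Subgroup (centralizer normalizer zpowers)
open scoped Pointwise commutatorElement
open Cfsg.Agent.OddOrder

universe u

theorem mem_of_le_conj {G : Type u} [Group G] [Finite G] (hG : IsMinSimpleOddOrder G) {M X : Subgroup G}
    (hM : IsCoatom M) {p : ℕ} [Fact p.Prime] (hp : p ∈ sigma M) (hX : IsPGroup p X) (hX1 : X ≠ ⊥)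
    (hXM : X ≤ M) {g : G} (hXg : X ≤ MulAut.conj g • M) (hC : centralizer (X : Set G) ≤ M) : g ∈ M := by
  obtain ⟨m, hm, c, hc, hmc⟩ := exists_mul_centralizer hG hM hp hX hX1 hXM (g := g⁻¹) (conj_smul_le hXg)
  have h := M.mul_mem hm (hC hc)
  rw [← hmc] at h
  simpa using h

/-- Let G be a minimal simple group of odd order, M a maximal subgroup and E a complement to M_σ in M. Then M_σ ∩ C_G(E) ≤ (M_σ)', the commutator subgroup [M_σ, E] equals M_σ, and for every g outside M the intersection M_σ ∩ gMg⁻¹ is cyclic, has no prime divisor in β(M), and meets (M_σ)' trivially. -/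
theorem result {G : Type*} [Group G] [Finite G] (hG : Cfsg.IsMinSimpleOddOrder G)
    (M : Subgroup G) (hM : IsCoatom M) (E : Subgroup G) (hE : Cfsg.IsComplIn E (Cfsg.sigmaCore M) M) :
    Cfsg.sigmaCore M ⊓ Subgroup.centralizer (E : Set G) ≤ ⁅Cfsg.sigmaCore M, Cfsg.sigmaCore M⁆ ∧
      ⁅Cfsg.sigmaCore M, E⁆ = Cfsg.sigmaCore M ∧
      ∀ g : G, g ∉ M → IsCyclic ↥(Cfsg.sigmaCore M ⊓ M.map (MulAut.conj g).toMonoidHom) ∧
        (∀ p : ℕ, p.Prime → p ∣ Nat.card ↥(Cfsg.sigmaCore M ⊓ M.map (MulAut.conj g).toMonoidHom) → p ∉ Cfsg.beta M) ∧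
        Cfsg.sigmaCore M ⊓ M.map (MulAut.conj g).toMonoidHom ⊓ ⁅Cfsg.sigmaCore M, Cfsg.sigmaCore M⁆ = ⊥ := by
  haveI := isSolvable_of_coatom hG hM
  have hσle : Cfsg.sigmaCore M ≤ M := piCoreOf_le _ M
  set H := (Cfsg.sigmaCore M).subgroupOf M
  set K := E.subgroupOf M
  haveI hHn : H.Normal := sigmaCore_normal_subgroupOf
  have hHc : (Nat.card H).Coprime H.index := Nat.coprime_of_dvd fun l hl h1 h2 => by
    rw [Coprime.card_subgroupOf hσle] at h1
    exact (sigmaCore_hall hG hM).2.2 l hl (isPiGrp_piCoreOf (sigma M) M l hl h1) h2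
  have hcompl : Subgroup.IsComplement' H K := by
    refine Subgroup.isComplement'_of_disjoint_and_mul_eq_univ (disjoint_iff.2 ?_)
      (Set.eq_univ_of_forall fun m => ?_)
    · exact (Subgroup.eq_bot_iff_forall _).2 fun x hx => Subtype.ext (Subgroup.mem_bot.1 (hE.2.2.1.le ⟨hx.2, hx.1⟩))
    · obtain ⟨e, he, k, hk, hek⟩ := hE.2.2.2 m m.2
      refine Set.mem_mul.2 ⟨⟨e, hE.1 he⟩ * ⟨k, hσle hk⟩ * ⟨e, hE.1 he⟩⁻¹, ?_, ⟨e, hE.1 he⟩, he, ?_⟩
      · exact hHn.conj_mem _ hk _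
      · rw [inv_mul_cancel_right]; exact Subtype.ext hek.symm
  have hHd : H ≤ _root_.commutator M := by
    rw [← Subgroup.map_le_map_iff_of_injective M.subtype_injective, Subgroup.map_subtype_commutator,
      Subgroup.map_subgroupOf_eq_of_le hσle]
    exact sigmaCore_le_commutator hG hM
  obtain ⟨h1, h2⟩ := S1459.result.1 H K hHn hHc hcompl hHd
  refine ⟨fun x hx => ?_, ?_, fun g hg => ?_⟩
  · have h3 := Subgroup.mem_map_of_mem M.subtype (h2 (show (⟨x, hσle hx.1⟩ : M) ∈ H ⊓ centralizer (K : Set M)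
      from ⟨hx.1, Subgroup.mem_centralizer_iff.2 fun k hk =>
        Subtype.ext (Subgroup.mem_centralizer_iff.1 hx.2 k hk)⟩))
    rw [Subgroup.map_commutator, Subgroup.map_subgroupOf_eq_of_le hσle] at h3
    exact h3
  · have h3 := congrArg (Subgroup.map M.subtype) h1
    rw [Subgroup.map_commutator, Subgroup.map_subgroupOf_eq_of_le hσle,
      Subgroup.map_subgroupOf_eq_of_le hE.1] at h3
    exact h3.symm
  set D := Cfsg.sigmaCore M ⊓ M.map (MulAut.conj g).toMonoidHom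
  have hDσ : D ≤ Cfsg.sigmaCore M := inf_le_left
  -- a subgroup of order `p` of `D`
  have key : ∀ (p : ℕ) [Fact p.Prime] (X : Subgroup G), X ≤ D → Nat.card X = p →
      p ∉ Cfsg.beta M ∧ ¬ X ≤ ⁅Cfsg.sigmaCore M, Cfsg.sigmaCore M⁆ := by
    intro p _ X hXD hX
    refine not_or.1 fun h => hg ?_
    have hp : p ∈ Cfsg.sigma M := isPiGrp_piCoreOf (sigma M) M p Fact.out
      (hX ▸ Subgroup.card_dvd_of_le (hXD.trans hDσ))
    have hXM : X ≤ M := (hXD.trans hDσ).trans hσle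
    exact mem_of_le_conj hG hM hp (isPGroup_of_card_prime hX) (ne_bot_of_card_prime hX) hXM
      (hXD.trans inf_le_right) (S1423.result hG M hM p hp X hXM hX default h).1.1
  have hline : ∀ (p : ℕ) (U : Subgroup G), p.Prime → p ∣ Nat.card U → ∃ X ≤ U, Nat.card X = p := by
    intro p U hp hd
    haveI := Fact.mk hp
    obtain ⟨z, hz⟩ := exists_prime_orderOf_dvd_card' p hd
    exact ⟨zpowers (z : G), Subgroup.zpowers_le.2 z.2, by rw [Nat.card_zpowers, Subgroup.orderOf_coe, hz]⟩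
  have hbot : D ⊓ ⁅Cfsg.sigmaCore M, Cfsg.sigmaCore M⁆ = ⊥ := by
    refine Subgroup.card_eq_one.1 (by_contra fun h => ?_)
    obtain ⟨p, hp, hd⟩ := Nat.exists_prime_and_dvd h
    haveI := Fact.mk hp
    obtain ⟨X, hX, hXc⟩ := hline p _ hp hd
    exact (key p X (hX.trans inf_le_left) hXc).2 (hX.trans inf_le_right)
  refine ⟨?_, fun p hp hd hb => ?_, hbot⟩
  · have hab : ∀ a ∈ D, ∀ b ∈ D, a * b = b * a := fun a ha b hb =>
      commutatorElement_eq_one_iff_mul_comm.1 (Subgroup.mem_bot.1 (hbot ▸ Subgroup.mem_inf.2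
        ⟨Subgroup.commutator_le_self D (Subgroup.commutator_mem_commutator ha hb),
          Subgroup.commutator_mem_commutator (hDσ ha) (hDσ hb)⟩))
    letI : CommGroup D := { (inferInstance : Group D) with
      mul_comm := fun a b => Subtype.ext (hab a a.2 b b.2) }
    by_contra hc
    obtain ⟨q, hq, a, b, ha, hb, ha1, hba⟩ := Coprime.exists_prime_pow_eq_one_not_mem_zpowers (Q := D) hc
    haveI := Fact.mk hq
    obtain ⟨hA, hAc⟩ := square_of_line (p := q) (z := (a : G)) (a := (b : G)) (congrArg Subtype.val ha)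
      (fun e => ha1 (Subtype.ext e)) (congrArg Subtype.val hb)
      (fun ⟨i, hi⟩ => hba ⟨i, Subtype.ext hi⟩) (hab b b.2 a a.2)
    set A := zpowers (a : G) ⊔ zpowers (b : G)
    have hAD : A ≤ D := sup_le (Subgroup.zpowers_le.2 a.2) (Subgroup.zpowers_le.2 b.2)
    have hAM : A ≤ M := (hAD.trans hDσ).trans hσle
    have hAp := PGroup.isPGroup_of_elementaryAbelian hA
    have hqσ : q ∈ Cfsg.sigma M := isPiGrp_piCoreOf (sigma M) M q hq
      ((hAc ▸ dvd_pow_self q (by norm_num : (2 : ℕ) ≠ 0)).trans (Subgroup.card_dvd_of_le (hAD.trans hDσ)))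
    exact hg (mem_of_le_conj hG hM hqσ hAp (square_ne_bot hA hAc) hAM (hAD.trans inf_le_right)
      ((Subgroup.centralizer_le_normalizer _).trans
        ((S1420.result hG M hM E hE).2.2.1 q A hqσ hAp hAM (square_not_cyclic hA hAc))))
  · haveI := Fact.mk hp
    obtain ⟨X, hX, hXc⟩ := hline p _ hp hd
    exact (key p X hX hXc).1 hb

end Cfsg.Agent.S1426
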