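import Cfsg.Statements.S1427
import Cfsg.Agent.Lib.OddOrder.SigmaEmbed
import Cfsg.Agent.Lib.OddOrder.SigmaLine

set_option autoImplicit false
open Cfsg

namespace Cfsg.Agent.S1427

open Subgroup (centralizer normalizer zpowers)
open scoped Pointwise
open Cfsg.Agent.OddOrder

/-- Let G be a minimal simple group of odd order, M a maximal subgroup, E a complement to M_σ in M, and S a nontrivial cyclic Sylow subgroup of E (for some prime). Then M_σ ∩ C_G(x) = M_σ ∩ C_G(S) for every non-identity x ∈ S. -/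
theorem result {G : Type*} [Group G] [Finite G] (hG : Cfsg.IsMinSimpleOddOrder G)
    (M : Subgroup G) (hM : IsCoatom M) (E : Subgroup G) (hE : Cfsg.IsComplIn E (Cfsg.sigmaCore M) M) (p : ℕ) [Fact p.Prime] (S : Sylow p E) (hS1 : (S : Subgroup E) ≠ ⊥) (hSc : IsCyclic (S : Subgroup E)) :
    ∀ x ∈ (S : Subgroup E).map E.subtype, x ≠ 1 →
        Cfsg.sigmaCore M ⊓ Subgroup.centralizer ({x} : Set G) = Cfsg.sigmaCore M ⊓ Subgroup.centralizer (((S : Subgroup E).map E.subtype : Subgroup G) : Set G) := by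
  intro x hx hx1
  set T := (S : Subgroup E).map E.subtype
  have hTsyl : IsSyl p T E := ⟨S, rfl⟩
  have hT1 : T ≠ ⊥ := by
    rwa [Ne, Subgroup.map_eq_bot_iff_of_injective _ E.subtype_injective]
  have hpM : p ∉ Cfsg.sigma M := not_mem_sigma_of_compl hG hM hE Fact.out (dvd_card_of_ne_bot hTsyl.isPGroup hT1 hTsyl.le)
  have hTM : IsSyl p T M := isSyl_of_compl hG hpM hE hTsyl
  haveI hTc : IsCyclic T := isCyclic_of_surjective
    ((S : Subgroup E).equivMapOfInjective _ E.subtype_injective).toMonoidHom (MulEquiv.surjective _)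
  have hr : Cfsg.PRankLE p 1 M := fun A hA hAp => by
    have hAp' : IsPGroup p (A.map M.subtype) :=
      (PGroup.isPGroup_of_elementaryAbelian (⟨hA, hAp⟩ : Cfsg.IsElementaryAbelian p A)).map _
    obtain ⟨a, -, ha⟩ := hTM.exists_conj_le hAp' (Subgroup.map_subtype_le A)
    set B := MulAut.conj a • A.map M.subtype
    have hB : Cfsg.IsElementaryAbelian p B :=
      PGroup.isElementaryAbelian_map (PGroup.isElementaryAbelian_map ⟨hA, hAp⟩ _) _
    haveI : IsCyclic B := isCyclic_of_injective (Subgroup.inclusion ha) (Subgroup.inclusion_injective _)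
    obtain ⟨b, hb⟩ := (isCyclic_iff_exists_zpowers_eq_top (α := B)).1 inferInstance
    have hc : Nat.card A = orderOf b := by
      rw [← Nat.card_zpowers, hb, Subgroup.card_top, Coprime.card_conj_smul,
        Subgroup.card_map_of_injective M.subtype_injective]
    rw [hc, pow_one]
    exact Nat.le_of_dvd (Fact.out : p.Prime).pos (orderOf_dvd_of_pow_eq_one (Subtype.ext (hB.2 b b.2)))
  have hxp : IsPGroup p (zpowers x) := hTsyl.isPGroup.to_le (Subgroup.zpowers_le.2 hx)
  obtain ⟨X, hXx, hX⟩ := exists_le_card_prime hxp fun e => hx1 (Subgroup.zpowers_eq_bot.1 e)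
  obtain ⟨L, hL, hNL⟩ := exists_coatom_ge (normalizer_ne_top_of_pgroup hG (hxp.to_le hXx) (ne_bot_of_card_prime hX))
  have hCL : centralizer ({x} : Set G) ≤ L := by
    refine le_trans (fun y hy => ?_) ((Subgroup.centralizer_le_normalizer _).trans hNL)
    exact Subgroup.centralizer_le hXx (le_centralizer_zpowers (Y := centralizer ({x} : Set G))
      (fun w hw => Subgroup.mem_centralizer_singleton_iff.1 hw) hy)
  letI := IsCyclic.commGroup (α := T)
  have hTx : T ≤ centralizer ({x} : Set G) := fun t ht => Subgroup.mem_centralizer_singleton_iff.2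
    (congrArg Subtype.val (mul_comm (⟨t, ht⟩ : T) ⟨x, hx⟩))
  obtain ⟨-, -, hc⟩ := centralizer_norm_tau13 hG hM hL hpM hr hX hNL
  have h := hc T hTsyl.isPGroup hTM.le (hTx.trans hCL)
  refine le_antisymm (fun y hy => ⟨hy.1, Subgroup.mem_centralizer_iff.2 fun t ht => ?_⟩)
    (inf_le_inf_left _ (Subgroup.centralizer_le (Set.singleton_subset_iff.2 hx)))
  exact (Subgroup.mem_centralizer_iff.1 (h ht) y ⟨hy.1, hCL hy.2⟩).symm

end Cfsg.Agent.S1427
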