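import Cfsg.Statements.S1428
import Cfsg.Agent.Lib.OddOrder.TauOneCentralizer

set_option autoImplicit false
open Cfsg

namespace Cfsg.Agent.S1428

open Subgroup (centralizer normalizer zpowers)
open Cfsg.Agent.OddOrder

/-- Let G be a minimal simple group of odd order, M a maximal subgroup, E a complement to M_σ in M, p ∈ τ₁(M), P ≤ E a subgroup of order p, and R a subgroup of prime order of E ∩ C_G(P). Then M_σ ∩ C_G(P) ≤ M_σ ∩ C_G(R). -/
theorem result {G : Type*} [Group G] [Finite G] (hG : Cfsg.IsMinSimpleOddOrder G)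
    (M : Subgroup G) (hM : IsCoatom M) (E : Subgroup G) (hE : Cfsg.IsComplIn E (Cfsg.sigmaCore M) M) (p : ℕ) (hp : p ∈ Cfsg.tau1 M) (P : Subgroup G) (hPE : P ≤ E) (hP : Nat.card P = p)
    (R : Subgroup G) (hRE : R ≤ E ⊓ Subgroup.centralizer (P : Set G)) (hR : (Nat.card R).Prime) :
    Cfsg.sigmaCore M ⊓ Subgroup.centralizer (P : Set G) ≤ Cfsg.sigmaCore M ⊓ Subgroup.centralizer (R : Set G) := by
  obtain ⟨hpp, hpM, -, hpd, hpr⟩ := hp
  haveI := Fact.mk hpp
  haveI := Fact.mk hR
  have hRP : R ≤ centralizer (P : Set G) := hRE.trans inf_le_right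
  have hRM : R ≤ M := (hRE.trans inf_le_left).trans hE.1
  have hPM : P ≤ M := hPE.trans hE.1
  have hrM : Nat.card R ∉ Cfsg.sigma M :=
    not_mem_sigma_of_compl hG hM hE hR (Subgroup.card_dvd_of_le (hRE.trans inf_le_left))
  refine le_inf inf_le_left ?_
  by_cases hne : p = Nat.card R
  · -- `R = P`
    obtain ⟨x, hx, hx1, rfl⟩ := exists_eq_zpowers hP
    obtain ⟨y, hy, hy1, hyR⟩ := exists_eq_zpowers (p := p) (X := R) hne.symm
    have hyx : y ∈ zpowers x := by
      by_contra hyx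
      have hc : Commute y x := (Subgroup.mem_centralizer_iff.1 (hRP (hyR.le (Subgroup.mem_zpowers y))) x
        (Subgroup.mem_zpowers x)).symm
      obtain ⟨hA, hAc⟩ := square_of_line hx hx1 hy hyx hc
      exact not_pRankLE_of_elementary hA (sup_le hPM (hyR.le.trans hRM)) hAc.ge hpr
    exact inf_le_right.trans (Subgroup.centralizer_le (hyR.ge.trans (Subgroup.zpowers_le.2 hyx)))
  refine Subgroup.le_centralizer_iff.1 (by_contra fun hc => ?_)
  have hRn : R ≤ normalizer ((Cfsg.sigmaCore M ⊓ centralizer (P : Set G) : Subgroup G) : Set G) :=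
    Coprime.le_normalizer_inf_of_le (hRM.trans (le_normalizer_piCoreOf _ M)) (hRP.trans Subgroup.le_normalizer)
  have hcop : (Nat.card R).Coprime (Nat.card ↥(Cfsg.sigmaCore M ⊓ centralizer (P : Set G))) :=
    hR.coprime_iff_not_dvd.2 fun hd => not_dvd_sigmaCore hrM (hd.trans (Subgroup.card_dvd_of_le inf_le_left))
  obtain ⟨q, Q, hq, hQ, hQK, hRQ, hQ1, hQR⟩ := exists_commutator_eq hG hRn hcop
    (fun e => hM.1 (top_unique (e.ge.trans (inf_le_left.trans (piCoreOf_le _ M))))) hc
  exact TauOneWitness.false_of_witness (M := M) (P := P) (R := R) (Q := Q) (p := p) (r := Nat.card R)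
    ⟨hG, hM, hpp, hR, hq, hne, hpM, hpr, hpd, hrM, hP, rfl, hPM, hRM, hRP, hQ,
      hQK.trans inf_le_left, hQK.trans inf_le_right, hRQ, hQ1, hQR⟩

end Cfsg.Agent.S1428
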