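import Cfsg.Statements.S1429
import Cfsg.Agent.S1417
import Cfsg.Agent.Lib.OddOrder.SigmaPrime
-- import your own Cfsg.Agent.* helpers here

set_option autoImplicit false
open Cfsg

namespace Cfsg.Agent.S1429

open Subgroup (centralizer normalizer zpowers)
open Cfsg.Agent.OddOrder

/-- Let G be a minimal simple group of odd order and M a maximal subgroup such that κ(M) is not the whole of the primes of M outside σ(M) (M is not of type P₁). Let p divide the order of M with p ∉ σ(M) ∪ κ(M), S a Sylow p-subgroup of M, and A the subgroup generated by the elements of S of order dividing p. Then A has order at most p ^ 2, M_σ ∩ C_G(A) = 1, and M_σ is nilpotent. -/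
theorem result {G : Type*} [Group G] [Finite G] (hG : Cfsg.IsMinSimpleOddOrder G)
    (M : Subgroup G) (hM : IsCoatom M) (hP1 : ¬ (∀ q : ℕ, q.Prime → q ∣ Nat.card M → q ∉ Cfsg.sigma M → q ∈ Cfsg.kappa M))
    (p : ℕ) [Fact p.Prime] (hpM : p ∣ Nat.card M) (hp : p ∉ Cfsg.sigma M ∪ Cfsg.kappa M) (S : Sylow p M) :
    Nat.card ↥(Subgroup.closure {x : G | x ∈ (S : Subgroup M).map M.subtype ∧ x ^ p = 1}) ≤ p ^ 2 ∧
      Cfsg.sigmaCore M ⊓ Subgroup.centralizer ((Subgroup.closure {x : G | x ∈ (S : Subgroup M).map M.subtype ∧ x ^ p = 1} : Subgroup G) : Set G) = ⊥ ∧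
      Group.IsNilpotent (Cfsg.sigmaCore M) := by
  have hps : p ∉ Cfsg.sigma M := fun h => hp (Or.inl h)
  set S' := (S : Subgroup M).map M.subtype with hS'
  by_cases hr : Cfsg.PRankLE p 1 M
  · have hk : p ∉ Cfsg.kappa M := fun h => hp (Or.inr h)
    have hc := isCyclic_of_rank_one hG hr (Subgroup.map_subtype_le _) (S.2.map M.subtype)
    obtain ⟨z, hz⟩ := exists_prime_orderOf_dvd_card' (G := (S : Subgroup M)) p
      (S.dvd_card_of_dvd_card hpM)
    rw [← Subgroup.orderOf_coe, ← Subgroup.orderOf_coe] at hz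
    have hzS : ((z : M) : G) ∈ S' := ⟨z, z.2, rfl⟩
    have hzp : ((z : M) : G) ^ p = 1 := orderOf_dvd_iff_pow_eq_one.1 (dvd_of_eq hz)
    have hz1 : ((z : M) : G) ≠ 1 := fun e => (Fact.out : p.Prime).ne_one (hz.symm.trans (by rw [e, orderOf_one]))
    have e : Subgroup.closure {x : G | x ∈ S' ∧ x ^ p = 1} = zpowers ((z : M) : G) := by
      refine le_antisymm ((Subgroup.closure_le _).2 fun x hx => ?_)
        (Subgroup.zpowers_le.2 (Subgroup.subset_closure ⟨hzS, hzp⟩))
      rcases eq_or_ne x 1 with rfl | hx1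
      · exact one_mem _
      · rw [← zpowers_eq_of_isCyclic hc hzS hx.1 hzp hx.2 hz1 hx1]
        exact Subgroup.mem_zpowers x
    have hcard : Nat.card (zpowers ((z : M) : G)) = p := by rw [Nat.card_zpowers, hz]
    have hfpf := sigmaCore_inf_centralizer_eq_bot_of_not_kappa hG hr hps hk
      (Subgroup.zpowers_le.2 (z : M).2) hcard
    rw [e]
    exact ⟨hcard.le.trans (Nat.le_self_pow two_ne_zero p), hfpf,
      isNilpotent_sigmaCore_of_fpf (Subgroup.zpowers_le.2 (z : M).2) hcard hfpf⟩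
  · obtain ⟨A, hAS, hA, hAc⟩ := exists_square_le hr S
    obtain ⟨hnil, hP, -, hfpf, -, -⟩ := S1417.result hG M hM p
      ⟨Fact.out, hps, pRankLE_two_of_not_sigma hG hM hps, hr⟩ A ⟨hAS.trans (Subgroup.map_subtype_le _), hA, hAc⟩
    have e : Subgroup.closure {x : G | x ∈ S' ∧ x ^ p = 1} = A :=
      le_antisymm ((Subgroup.closure_le _).2 fun x hx => (((hP S).2 hAS).1 x hx.1).1 hx.2)
        fun x hx => Subgroup.subset_closure ⟨hAS hx, hA.2 x hx⟩
    rw [e]
    exact ⟨hAc.le, hfpf, hnil⟩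
end Cfsg.Agent.S1429
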