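import Cfsg.Statements.S0198
import Cfsg.Agent.Lib.Char.Generalized
import Mathlib.Tactic.Linarith

set_option autoImplicit false
open Cfsg

namespace Cfsg.Agent.S0198

/-- A generalized character of norm 2 vanishing at `1` is a difference of two irreducibles. -/
theorem exists_sub_of_norm_two {G : Type*} [Group G] [Fintype G] {θ : G → ℂ}
    (h : Cfsg.IsGeneralizedCharacter G θ) (h1 : θ 1 = 0) (h2 : Cfsg.classInner θ θ = 2) :
    ∃ a b : Cfsg.IrrCharacter G, a ≠ b ∧ θ = a.1 - b.1 := by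
  classical
  obtain ⟨m, hm, -⟩ := Cfsg.Agent.Char.IsGeneralizedCharacter.exists_decomp h
  have hsum : ∑ ψ, m ψ ^ 2 = 2 := by
    have := Cfsg.Agent.Char.IsGeneralizedCharacter.classInner_self_eq_sum hm
    rw [h2] at this; exact_mod_cast this.symm
  have hle : ∀ ψ, m ψ ^ 2 ≤ 2 := fun ψ => hsum ▸
    Finset.single_le_sum (f := fun x => m x ^ 2) (fun x _ => sq_nonneg _) (Finset.mem_univ ψ)
  have hcases : ∀ ψ, m ψ = 0 ∨ m ψ = 1 ∨ m ψ = -1 := fun ψ => by
    have hu : m ψ ≤ 1 := by nlinarith [hle ψ]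
    have hl : -1 ≤ m ψ := by nlinarith [hle ψ]
    omega
  have hsupp : (Finset.univ.filter fun ψ => m ψ ≠ 0).card = 2 := by
    have he : ∀ ψ, m ψ ^ 2 = if m ψ ≠ 0 then 1 else 0 := fun ψ => by
      rcases hcases ψ with hh | hh | hh <;> simp [hh]
    rw [Finset.sum_congr rfl fun ψ _ => he ψ, Finset.sum_boole] at hsum
    exact_mod_cast hsum
  obtain ⟨a, b, hab, hset⟩ := Finset.card_eq_two.mp hsupp
  have hθ : θ = (m a : ℂ) • a.1 + (m b : ℂ) • b.1 := by
    rw [hm, ← Finset.sum_pair (f := fun ψ => (m ψ : ℂ) • ψ.1) hab, ← hset, Finset.sum_filter]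
    refine Finset.sum_congr rfl fun ψ _ => ?_
    by_cases hh : m ψ = 0 <;> simp [hh]
  have hdeg : m a * (Cfsg.Agent.Char.degree a : ℤ) + m b * (Cfsg.Agent.Char.degree b : ℤ) = 0 := by
    have := congrFun hθ 1
    rw [h1, Pi.add_apply, Pi.smul_apply, Pi.smul_apply, smul_eq_mul, smul_eq_mul,
      Cfsg.Agent.Char.apply_one_eq_degree, Cfsg.Agent.Char.apply_one_eq_degree] at this
    exact_mod_cast this.symm
  have hmemab : ∀ x ∈ ({a, b} : Finset (Cfsg.IrrCharacter G)), m x ≠ 0 := fun x hx => by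
    rw [← hset] at hx; exact (Finset.mem_filter.mp hx).2
  have ha0 : m a ≠ 0 := hmemab a (by simp)
  have hb0 : m b ≠ 0 := hmemab b (by simp)
  have hda := Cfsg.Agent.Char.degree_pos a
  have hdb := Cfsg.Agent.Char.degree_pos b
  rcases hcases a with hh | ha | ha
  · exact absurd hh ha0
  · rcases hcases b with hh | hb | hb
    · exact absurd hh hb0
    · exfalso; rw [ha, hb] at hdeg; omega
    · refine ⟨a, b, hab, ?_⟩
      rw [hθ, ha, hb]
      funext x
      simp [sub_eq_add_neg]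
  · rcases hcases b with hh | hb | hb
    · exact absurd hh hb0
    · refine ⟨b, a, Ne.symm hab, ?_⟩
      rw [hθ, ha, hb]
      funext x
      simp [sub_eq_add_neg, add_comm]
    · exfalso; rw [ha, hb] at hdeg; omega

theorem classInner_sub_sub {G : Type*} [Group G] [Fintype G] [DecidableEq (Cfsg.IrrCharacter G)]
    (a b c d : Cfsg.IrrCharacter G) :
    Cfsg.classInner (a.1 - b.1) (c.1 - d.1) =
      ((if a = c then 1 else 0) - (if a = d then 1 else 0) - (if b = c then 1 else 0) +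
        (if b = d then 1 else 0) : ℂ) := by
  rw [Cfsg.Agent.Char.classInner_sub_left, Cfsg.Agent.Char.classInner_sub_right,
    Cfsg.Agent.Char.classInner_sub_right]
  simp only [Cfsg.Agent.Char.classInner_irr]
  split_ifs <;> ring

/-- The isometry lemma behind exceptional characters. Let τ be a family of generalized characters of a finite group G indexed by Fin n, with τ i₀ = 0, every τ i vanishing at the identity, and inner products ⟨τ i, τ j⟩ = 2 if i = j and 1 otherwise for i, j ≠ i₀. Then there are a sign ε and pairwise distinct irreducible characters μ i with τ i = ε (μ i − μ i₀) for all i. -/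
theorem result {G : Type*} [Group G] [Fintype G] (n : ℕ) (i₀ : Fin n) (τ : Fin n → (G → ℂ)) (h0 : τ i₀ = 0) (hgen : ∀ i, Cfsg.IsGeneralizedCharacter G (τ i)) (hone : ∀ i, τ i 1 = 0) (hgram : ∀ i j, i ≠ i₀ → j ≠ i₀ → Cfsg.classInner (τ i) (τ j) = if i = j then 2 else 1) : ∃ ε : ℂ, (ε = 1 ∨ ε = -1) ∧ ∃ μ : Fin n → (G → ℂ), (∀ i, Cfsg.IsIrrCharacter G (μ i)) ∧ Function.Injective μ ∧ ∀ i, τ i = ε • (μ i - μ i₀) := by
  classical
  let J := {i : Fin n // i ≠ i₀}
  have hrep : ∀ i : J, ∃ p : Cfsg.IrrCharacter G × Cfsg.IrrCharacter G,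
      p.1 ≠ p.2 ∧ τ i = p.1.1 - p.2.1 := fun i => by
    obtain ⟨a, b, hab, h⟩ := exists_sub_of_norm_two (hgen i) (hone i) (by rw [hgram i i i.2 i.2, if_pos rfl])
    exact ⟨(a, b), hab, h⟩
  choose p hp hτ using hrep
  set a : J → Cfsg.IrrCharacter G := fun i => (p i).1 with ha
  set b : J → Cfsg.IrrCharacter G := fun i => (p i).2 with hb
  have hpair : ∀ i j : J, i ≠ j → (a i = a j ∧ b i ≠ b j) ∨ (a i ≠ a j ∧ b i = b j) := by
    intro i j hij
    have h := hgram i j i.2 j.2
    rw [if_neg (fun h => hij (Subtype.ext h)), hτ i, hτ j, classInner_sub_sub] at h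
    have hi := hp i
    have hj := hp j
    simp only [ha, hb]
    by_cases h1 : (p i).1 = (p j).1 <;> by_cases h2 : (p i).2 = (p j).2
    · simp [h1, h2, hj, Ne.symm hj] at h
    · exact Or.inl ⟨h1, h2⟩
    · exact Or.inr ⟨h1, h2⟩
    · exfalso
      simp only [if_neg h1, if_neg h2] at h
      split_ifs at h <;> norm_num at h
  have hall : (∀ i j, a i = a j) ∨ (∀ i j, b i = b j) := by
    by_contra hcon
    push Not at hcon
    obtain ⟨⟨i, j, hij⟩, ⟨k, l, hkl⟩⟩ := hcon
    have hne : i ≠ j := fun h => hij (by rw [h])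
    have hbij : b i = b j := ((hpair i j hne).resolve_left fun h => hij h.1).2
    -- everybody shares the `b` of `i`
    have key : ∀ m, b m = b i := by
      intro m
      by_contra hm
      have hmi : m ≠ i := fun h => hm (by rw [h])
      have hmj : m ≠ j := fun h => hm (by rw [h, hbij])
      have h1 := ((hpair m i hmi).resolve_right fun h => hm h.2).1
      have h2 := ((hpair m j hmj).resolve_right fun h => hm (h.2.trans hbij.symm)).1
      exact hij (h1.symm.trans h2)
    exact hkl ((key k).trans (key l).symm)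
  have hτinj : ∀ i j : J, i ≠ j → τ i ≠ τ j := fun i j hij he => by
    have h := hgram i j i.2 j.2
    have h' := hgram i i i.2 i.2
    rw [if_neg fun h => hij (Subtype.ext h)] at h
    rw [if_pos rfl] at h'
    rw [← he, h'] at h
    norm_num at h
  have build : ∀ (f : J → Cfsg.IrrCharacter G) (c : Cfsg.IrrCharacter G) (ε : ℂ), (∀ i, f i ≠ c) →
      (∀ i : J, τ i = ε • ((f i).1 - c.1)) → ∃ μ : Fin n → (G → ℂ), (∀ i, Cfsg.IsIrrCharacter G (μ i)) ∧
        Function.Injective μ ∧ ∀ i, τ i = ε • (μ i - μ i₀) := by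
    intro f c ε hfc hf
    let μ : Fin n → (G → ℂ) := fun i => if h : i = i₀ then c.1 else (f ⟨i, h⟩).1
    have hμ0 : μ i₀ = c.1 := dif_pos rfl
    have hμ : ∀ i (h : i ≠ i₀), μ i = (f ⟨i, h⟩).1 := fun i h => dif_neg h
    refine ⟨μ, fun i => ?_, fun i j he => ?_, fun i => ?_⟩
    · by_cases h : i = i₀
      · rw [h, hμ0]; exact c.2
      · rw [hμ i h]; exact (f ⟨i, h⟩).2
    · by_cases h : i = i₀ <;> by_cases h' : j = i₀
      · exact h.trans h'.symm
      · rw [h, hμ0, hμ j h'] at he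
        exact absurd (Subtype.ext he.symm) (hfc _)
      · rw [h', hμ0, hμ i h] at he
        exact absurd (Subtype.ext he) (hfc _)
      · by_contra hij
        refine hτinj ⟨i, h⟩ ⟨j, h'⟩ (fun e => hij (congrArg Subtype.val e)) ?_
        rw [hμ i h, hμ j h'] at he
        rw [hf, hf, he]
    · by_cases h : i = i₀
      · rw [h, h0, sub_self, smul_zero]
      · rw [hμ i h, hμ0]; exact hf ⟨i, h⟩
  rcases isEmpty_or_nonempty J with hJ | ⟨⟨j₀⟩⟩
  · exact ⟨1, Or.inl rfl, build isEmptyElim (Cfsg.Agent.Char.trivialChar G) 1 isEmptyElim isEmptyElim⟩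
  rcases hall with h | h
  · refine ⟨-1, Or.inr rfl, build b (a j₀) (-1) (fun i he => hp i ((h i j₀).trans he.symm)) fun i => ?_⟩
    rw [hτ i, ← h i j₀, neg_one_smul, neg_sub]
  · refine ⟨1, Or.inl rfl, build a (b j₀) 1 (fun i he => hp i (he.trans (h i j₀).symm)) fun i => ?_⟩
    rw [hτ i, ← h i j₀, one_smul]

end Cfsg.Agent.S0198
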