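import Cfsg.Statements.S0161
import Cfsg.Agent.Lib.Char.RealChar

set_option autoImplicit false
open Cfsg

namespace Cfsg.Agent.S0161

/-- In a finite group of odd order, a real-valued irreducible complex character is the trivial character. -/
theorem result {G : Type*} [Group G] [Finite G] (hodd : Odd (Nat.card G)) (χ : Cfsg.IrrCharacter G) (hreal : ∀ g : G, ((χ : G → ℂ) g).im = 0) : (χ : G → ℂ) = fun _ => 1 := by
  haveI := Fintype.ofFinite G
  by_contra hne
  have h1 := Cfsg.Agent.Char.fsIndicator_of_real χ hreal
  have hcop : (Nat.card G).Coprime 2 := (Nat.coprime_two_right).mpr hodd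
  have hsum : Cfsg.Agent.Char.fsIndicator χ.1 = classInner χ.1 (fun _ => 1) := by
    rw [Cfsg.Agent.Char.fsIndicator_eq_sum]
    simp only [classInner, map_one, mul_one]
    congr 1
    exact Fintype.sum_equiv (powCoprime hcop) _ _ fun g => by simp [pow_two]
  rw [hsum, Cfsg.Agent.Char.classInner_irr_of_ne χ.2 Cfsg.Agent.Char.isIrrCharacter_one hne] at h1
  rcases h1 with h1 | h1 <;> simp at h1

end Cfsg.Agent.S0161
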