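import Cfsg.Statements.S0196
import Mathlib.GroupTheory.GroupAction.Quotient
import Mathlib.GroupTheory.Subgroup.Centralizer
import Mathlib.Data.Set.Card
import Mathlib.Algebra.BigOperators.Ring.Finset
import Mathlib.Tactic.Group

set_option autoImplicit false
open Cfsg

namespace Cfsg.Agent.S0196

/-- Let A be a subgroup of a finite group G that equals the centralizer of each of its non-identity elements, and let N be its normalizer. Then the index of A in N divides |A| − 1 (N/A permutes the non-identity elements of A in orbits of full length). -/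
theorem result {G : Type*} [Group G] [Finite G] (A : Subgroup G) (hA : ∀ x ∈ A, x ≠ 1 → Subgroup.centralizer ({x} : Set G) = A) : (A.subgroupOf (Subgroup.normalizer (A : Set G))).index ∣ Nat.card A - 1 := by
  classical
  let N : Subgroup G := Subgroup.normalizer (A : Set G)
  let X := {a : G // a ∈ A ∧ a ≠ 1}
  letI : MulAction N X :=
    { smul := fun n a => ⟨n * a * (n : G)⁻¹, (Subgroup.mem_normalizer_iff.mp n.2 a).mp a.2.1,
        fun h => a.2.2 (conj_eq_one_iff.mp h)⟩
      one_smul := fun a => Subtype.ext (by
        show ((1 : N) : G) * a * ((1 : N) : G)⁻¹ = a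
        simp)
      mul_smul := fun m n a => Subtype.ext (by
        show ((m * n : N) : G) * a * ((m * n : N) : G)⁻¹ = m * (n * a * (n : G)⁻¹) * (m : G)⁻¹
        push_cast
        group) }
  have hstab : ∀ a : X, MulAction.stabilizer N a = A.subgroupOf N := by
    intro a
    ext n
    rw [MulAction.mem_stabilizer_iff, Subgroup.mem_subgroupOf, Subtype.ext_iff]
    show (n : G) * a * (n : G)⁻¹ = a ↔ _
    rw [mul_inv_eq_iff_eq_mul]
    conv_rhs => rw [← hA _ a.2.1 a.2.2, Subgroup.mem_centralizer_singleton_iff]
  haveI : Fintype (MulAction.orbitRel.Quotient N X) := Fintype.ofFinite _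
  have hX : Nat.card X = Nat.card A - 1 := by
    have h1 : {a : G | a ∈ A ∧ a ≠ 1} = (A : Set G) \ {1} := by ext a; simp
    calc Nat.card X = ({a : G | a ∈ A ∧ a ≠ 1}).ncard := Nat.card_coe_set_eq _
      _ = (A : Set G).ncard - 1 := by rw [h1, Set.ncard_diff_singleton_of_mem (one_mem A)]
      _ = Nat.card A - 1 := by rw [← Nat.card_coe_set_eq]; rfl
  rw [← hX, Nat.card_congr (MulAction.selfEquivSigmaOrbitsQuotientStabilizer N X), Nat.card_sigma]
  refine Finset.dvd_sum fun ω _ => ?_
  rw [hstab]
  exact dvd_rfl

end Cfsg.Agent.S0196
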