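import Cfsg.Statements.S1535
import Cfsg.Agent.Lib.OddOrder.CoherenceFeit
-- import your own Cfsg.Agent.* helpers here

set_option autoImplicit false
open Cfsg

namespace Cfsg.Agent.S1535

/-- Let N be a finite group with a proper nontrivial normal subgroup H such that every element commuting with a non-identity element of H lies in H (N is a Frobenius group with kernel H); let e be the index of H and suppose Nat.card H ≠ e + 1. Let S be the set of irreducible characters χ of N with χ h ≠ χ 1 for some h ∈ H, and τ a linear isometry on the integer combinations of S vanishing at 1, with values virtual characters of a finite group G vanishing at 1. Then (S, N minus 1, τ) is coherent, or there is a prime p with Nat.card H a power of p, H non-abelian and [H : [H,H]] ≤ 4e² + 1. -/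
theorem result {N : Type*} [Group N] [Fintype N] {G : Type*} [Group G] [Fintype G] (H : Subgroup N) [H.Normal] (hH1 : H ≠ ⊥) (hH2 : H ≠ ⊤) (hC : ∀ h ∈ H, h ≠ 1 → Subgroup.centralizer ({h} : Set N) ≤ H) (he : Nat.card H ≠ H.index + 1) (τ : (N → ℂ) → (G → ℂ)) (hτ : Cfsg.IsLinearIsometryOn (Cfsg.zspanOn {χ : N → ℂ | Cfsg.IsIrrCharacter N χ ∧ ∃ h ∈ H, χ h ≠ χ 1} {1}ᶜ) τ) (hτ1 : ∀ α ∈ Cfsg.zspanOn {χ : N → ℂ | Cfsg.IsIrrCharacter N χ ∧ ∃ h ∈ H, χ h ≠ χ 1} {1}ᶜ, τ α 1 = 0) : Cfsg.IsCoherent {χ : N → ℂ | Cfsg.IsIrrCharacter N χ ∧ ∃ h ∈ H, χ h ≠ χ 1} {1}ᶜ τ ∨ ∃ p : ℕ, p.Prime ∧ (∃ m : ℕ, Nat.card H = p ^ m) ∧ ¬ IsMulCommutative H ∧ (⁅H, H⁆.subgroupOf H).index ≤ 4 * H.index ^ 2 + 1 := by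
  classical
  haveI : Fintype H := Fintype.ofFinite _
  haveI hnil := OddOrder.isNilpotent_of_cent hC hH1 hH2
  haveI : Nontrivial H := (Subgroup.nontrivial_iff_ne_bot H).2 hH1
  obtain ⟨E, hE, ρ, hρ⟩ := OddOrder.exists_free_action hC
  haveI : Fintype E := Fintype.ofFinite _
  have hEc : Fintype.card E = H.index := by rw [← Nat.card_eq_fintype_card, hE]
  have he2 : 1 < H.index := Subgroup.one_lt_index_of_ne_top hH2
  have hidx : (⁅H, H⁆.subgroupOf H).index = (commutator H).index := by
    congr 1
    apply Subgroup.map_injective H.subtype_injective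
    rw [Subgroup.map_subgroupOf_eq_of_le (Subgroup.commutator_le_self H), Subgroup.map_subtype_commutator]
  rw [hidx]
  have hlincard := Char.card_linear (G := H)
  have hlinfil : (Finset.univ.filter fun η : IrrCharacter H => Char.degree η = 1).card =
      (commutator H).index := by
    rw [← hlincard, Nat.card_eq_fintype_card, Fintype.card_subtype]
    simp only [Char.apply_one_eq_degree, Nat.cast_eq_one]
  have habel : (∀ a b : H, a * b = b * a) →
      IsCoherent {χ : N → ℂ | IsIrrCharacter N χ ∧ ∃ h ∈ H, χ h ≠ χ 1} {1}ᶜ τ := by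
    intro hab
    have h1 : ∀ θ : IrrCharacter H, Char.degree θ = 1 := fun θ => by
      have := Char.apply_one_of_comm hab θ
      rwa [Char.apply_one_eq_degree, Nat.cast_eq_one] at this
    refine OddOrder.isCoherent_frobKernel hC ?_ (fun θ h => absurd (h1 θ) h) hτ hτ1
    have hge := ZassenhausFeit.succ_le_card_linear hρ ZassenhausFeit.commutator_ne_top
    rw [hEc] at hge
    have hc : (Finset.univ.filter fun η : IrrCharacter H => Char.degree η = 1).card = Nat.card H := by
      rw [hlinfil, (commutator_eq_bot_iff H).2 ⟨⟨hab⟩⟩, Subgroup.index_bot]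
    rw [hc] at hge
    rw [hlincard, ← hlinfil, hc]
    omega
  by_cases hab : IsMulCommutative H
  · exact Or.inl (habel hab.is_comm.comm)
  by_cases hpp : IsPrimePow (Nat.card H)
  · obtain ⟨p, k, hp, hk, hcard⟩ := hpp
    have hp' : p.Prime := Nat.prime_iff.2 hp
    by_cases hsmall : (commutator H).index ≤ 4 * H.index ^ 2 + 1
    · exact Or.inr ⟨p, hp', ⟨k, hcard.symm⟩, hab, hsmall⟩
    push Not at hsmall
    left
    refine OddOrder.isCoherent_frobKernel hC ?_ (fun θ hθ => ?_) hτ hτ1
    · rw [hlincard]; nlinarith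
    obtain ⟨d, hd⟩ : ∃ d, Char.degree θ = d := ⟨_, rfl⟩
    have hd1 : 1 < d := by have := Char.degree_pos θ; omega
    rw [hd]
    have hlin : (commutator H).index ≤
        ∑ η ∈ Finset.univ.filter (fun η : IrrCharacter H => Char.degree η < d), Char.degree η ^ 2 := by
      rw [← hlinfil, Finset.card_eq_sum_ones]
      refine (le_of_eq (Finset.sum_congr rfl fun η hη => ?_)).trans
        (Finset.sum_le_sum_of_subset (f := fun η : IrrCharacter H => Char.degree η ^ 2) fun η hη => ?_)
      · rw [(Finset.mem_filter.1 hη).2, one_pow]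
      · simp only [Finset.mem_filter, Finset.mem_univ, true_and] at hη ⊢
        omega
    have hsq := ZassenhausFeit.sq_le_sum_lt_of_nilpotent H θ hθ
    rw [hd] at hsq
    rcases Nat.lt_or_ge d (2 * H.index + 1) with h | h
    · have : 2 * H.index * d ≤ 2 * H.index * (2 * H.index) := Nat.mul_le_mul_left _ (by omega)
      nlinarith
    · have : (2 * H.index + 1) * d ≤ d ^ 2 := by rw [sq]; exact Nat.mul_le_mul_right d h
      rw [add_mul, one_mul] at this
      omega
  left
  rcases Nat.even_or_odd H.index with hev | hodd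
  · refine habel (OddOrder.comm_of_even_index hC ?_ hev)
    rw [← Nat.not_even_iff_odd]
    intro h
    exact Nat.not_coprime_of_dvd_of_dvd one_lt_two (even_iff_two_dvd.1 h) (even_iff_two_dvd.1 hev)
      (OddOrder.coprime_card_index_of_cent hC)
  have hH : 1 < Nat.card H := Finite.one_lt_card
  refine OddOrder.isCoherent_frobKernel hC ?_ (fun θ hθ => ?_) hτ hτ1
  · have := ZassenhausFeit.linear_bound hρ (hEc ▸ hodd) hH hpp
    rw [hlincard, ← hlinfil]
    rw [hEc] at this
    nlinarith
  · have := ZassenhausFeit.nonlinear_bound hρ (hEc ▸ hodd) (hEc ▸ he2) hH hpp θ hθ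
    rw [hEc] at this
    nlinarith

end Cfsg.Agent.S1535
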