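import Cfsg.Statements.S1524
import Cfsg.Agent.Lib.OddOrder.FeitSibley
-- import your own Cfsg.Agent.* helpers here

set_option autoImplicit false
open Cfsg

namespace Cfsg.Agent.S1524

/-- Let G be a finite group and H ≤ L subgroups with L of odd order, H ≠ ⊥ nilpotent and normal in L with a nontrivial complement W₁ in L (H ⊓ W₁ = ⊥, H ⊔ W₁ = L) acting on H without non-identity fixed points (L is a Frobenius group with kernel H), and suppose the underlying set of H is a TI-subset of G whose normaliser is L. Let S be the set of functions on L induced from the non-principal irreducible characters of H. Then (S, L minus 1, induction to G) is coherent. -/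
theorem result {G : Type*} [Group G] [Fintype G] (H L W₁ : Subgroup G) [Fintype L] (hodd : Odd (Nat.card L)) (hHL : H ≤ L) (hW₁L : W₁ ≤ L) (hH1 : H ≠ ⊥) (hW1 : W₁ ≠ ⊥) (hnil : Group.IsNilpotent H) (hHn : ∀ x ∈ L, ∀ h ∈ H, x * h * x⁻¹ ∈ H) (hinf : H ⊓ W₁ = ⊥) (hsup : H ⊔ W₁ = L) (hfpf : ∀ w ∈ W₁, w ≠ 1 → ∀ h ∈ H, w * h = h * w → h = 1) (hTI : Cfsg.IsTISubset (H : Set G)) (hN : Subgroup.normalizer (H : Set G) = L) : Cfsg.IsCoherent (Cfsg.inducedIrrAbove (H.subgroupOf L) ⊥) {1}ᶜ (fun α : L → ℂ => Cfsg.indFun L α) := by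
  classical
  subst hN
  haveI := OddOrder.tiKernel_normal (K := H)
  haveI : Fintype (H.subgroupOf (Subgroup.normalizer (H : Set G))) := Fintype.ofFinite _
  have hlt : H < Subgroup.normalizer (H : Set G) := by
    refine lt_of_le_of_ne hHL fun h => hW1 ?_
    rw [← inf_eq_right.2 (h.symm ▸ hW₁L : W₁ ≤ H), hinf]
  have hC : ∀ k ∈ H, k ≠ 1 → Subgroup.centralizer ({k} : Set G) ≤ H := by
    intro k hk hk1 g hg
    rw [Subgroup.mem_centralizer_singleton_iff] at hg
    have hgN : g ∈ Subgroup.normalizer (H : Set G) := by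
      by_contra hgN
      exact hk1 (hTI g hgN k hk (by rw [hg, mul_inv_cancel_right]; exact hk))
    obtain ⟨a, ha, w, hw, rfl⟩ : ∃ a ∈ H, ∃ w ∈ W₁, a * w = g := by
      have hgm : (⟨g, hgN⟩ : Subgroup.normalizer (H : Set G)) ∈
          H.subgroupOf _ ⊔ W₁.subgroupOf _ := by
        rw [← Subgroup.subgroupOf_sup hHL hW₁L, Subgroup.mem_subgroupOf]
        exact hsup.symm ▸ hgN
      obtain ⟨a, ha, w, hw, he⟩ := Subgroup.mem_sup_of_normal_left.1 hgm
      exact ⟨a, ha, w, hw, congrArg Subtype.val he⟩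
    by_cases hw1 : w = 1
    · rw [hw1, mul_one]; exact ha
    exfalso
    let f : H → H := fun x => x * ⟨w * (x : G)⁻¹ * w⁻¹, hHn w (hW₁L hw) _ (inv_mem x.2)⟩
    have hf : Function.Surjective f := by
      refine Finite.surjective_of_injective fun x y hxy => ?_
      have h := congrArg Subtype.val hxy
      simp only [f, Subgroup.coe_mul] at h
      have h' : w * ((y : G)⁻¹ * x) = (y : G)⁻¹ * x * w := by
        calc w * ((y : G)⁻¹ * x) = (y : G)⁻¹ * ((y : G) * (w * (y : G)⁻¹ * w⁻¹)) * w * x := by group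
          _ = (y : G)⁻¹ * ((x : G) * (w * (x : G)⁻¹ * w⁻¹)) * w * x := by rw [h]
          _ = _ := by group
      exact (Subtype.ext (inv_mul_eq_one.1 (hfpf w hw hw1 _ (mul_mem (inv_mem y.2) x.2) h'))).symm
    obtain ⟨x, hx⟩ := hf ⟨a, ha⟩
    have hx' : (x : G) * (w * (x : G)⁻¹ * w⁻¹) = a := congrArg Subtype.val hx
    have hk' : (x : G)⁻¹ * k * x ∈ H := mul_mem (mul_mem (inv_mem x.2) hk) x.2
    have := hfpf w hw hw1 _ hk' (by
      calc w * ((x : G)⁻¹ * k * x) = (x : G)⁻¹ * ((x : G) * (w * (x : G)⁻¹ * w⁻¹) * w * k) * x := by group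
        _ = (x : G)⁻¹ * (k * ((x : G) * (w * (x : G)⁻¹ * w⁻¹) * w)) * x := by rw [hx', hg]
        _ = _ := by group)
    refine hk1 ?_
    calc k = (x : G) * ((x : G)⁻¹ * k * x) * (x : G)⁻¹ := by group
      _ = 1 := by rw [this]; group
  have hCI := OddOrder.tiKernel_centIn hC
  have hset : inducedIrrAbove (H.subgroupOf (Subgroup.normalizer (H : Set G))) ⊥ =
      {χ : ↥(Subgroup.normalizer (H : Set G)) → ℂ | IsIrrCharacter _ χ ∧
        ∃ k : ↥(Subgroup.normalizer (H : Set G)), (k : G) ∈ H ∧ χ k ≠ χ 1} := by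
    refine Eq.trans ?_ (OddOrder.coe_kerChars hCI)
    ext φ
    rw [Finset.mem_coe, OddOrder.mem_kerChars_iff, OddOrder.mem_inducedIrrAbove_iff]
    refine exists_congr fun θ => and_congr_left fun _ => ?_
    rw [OddOrder.mem_aboveChars]
    exact ⟨fun h => h.1, fun h => ⟨h, fun a ha => by
      rw [show a = 1 from Subtype.ext (Subgroup.mem_bot.1 ha)]⟩⟩
  rw [hset]
  have hcard : Nat.card H ≠ (H.subgroupOf (Subgroup.normalizer (H : Set G))).index + 1 := by
    intro h
    have h1 : Odd (Nat.card H) := hodd.of_dvd_nat (Subgroup.card_dvd_of_le hHL)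
    have h2 : Odd (H.subgroupOf (Subgroup.normalizer (H : Set G))).index :=
      hodd.of_dvd_nat (Subgroup.index_dvd_card _)
    obtain ⟨i, hi⟩ := h1
    obtain ⟨j, hj⟩ := h2
    omega
  rcases OddOrder.coherent_or_sylow hH1 hTI hlt hC hcard with h | ⟨p, hp, ⟨P, rfl⟩, hna, -⟩
  · exact h
  haveI := Fact.mk hp
  refine OddOrder.isCoherent_sylow_ti p (fun h2 => ?_) P hna hTI hlt hC
  subst h2
  obtain ⟨c, hc⟩ := IsPGroup.iff_card.1 P.isPGroup'
  rcases c with _ | c
  · exact hH1 (Subgroup.card_eq_one.1 (by rw [hc, pow_zero]))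
  · exact Nat.not_even_iff_odd.2 hodd (even_iff_two_dvd.2
      ((hc ▸ dvd_pow_self 2 (Nat.succ_ne_zero c)).trans (Subgroup.card_dvd_of_le hHL)))

end Cfsg.Agent.S1524
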