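import Cfsg.Statements.S1419
import Cfsg.Agent.Lib.OddOrder.TauTwoNonabelian

set_option autoImplicit false
open Cfsg

namespace Cfsg.Agent.S1419

open Subgroup (centralizer normalizer zpowers)
open Cfsg.Agent.OddOrder

/-- Let G be a minimal simple group of odd order whose Sylow p-subgroups are nonabelian, M a maximal subgroup with p ∈ τ₂(M), E a complement to M_σ in M and A ≤ E elementary abelian of order p ^ 2. Then τ₂(M) = {p}; A₀ = A ∩ C_G(M_σ) has order p and F(M) is generated by M_σ and A₀ (a direct product); and every subgroup X ≠ A₀ of E of order p satisfies M_σ ∩ C_G(X) = 1 and C_G(X) ⊄ M. -/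
theorem result {G : Type*} [Group G] [Finite G] (hG : Cfsg.IsMinSimpleOddOrder G)
    (M : Subgroup G) (hM : IsCoatom M) (E : Subgroup G) (hE : Cfsg.IsComplIn E (Cfsg.sigmaCore M) M) (p : ℕ) [Fact p.Prime] (hp : p ∈ Cfsg.tau2 M) (hS : ∀ S : Sylow p G, ¬ IsMulCommutative (S : Subgroup G))
    (A : Subgroup G) (hA : (A ≤ E ∧ Cfsg.IsElementaryAbelian p A ∧ Nat.card A = p ^ 2)) :
    Cfsg.tau2 M = {p} ∧
      (Nat.card ↥(A ⊓ Subgroup.centralizer (Cfsg.sigmaCore M : Set G)) = p ∧
        Cfsg.fittingOf M = Cfsg.sigmaCore M ⊔ (A ⊓ Subgroup.centralizer (Cfsg.sigmaCore M : Set G))) ∧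
      ∀ X : Subgroup G, X ≤ E → Nat.card X = p → X ≠ A ⊓ Subgroup.centralizer (Cfsg.sigmaCore M : Set G) →
        Cfsg.sigmaCore M ⊓ Subgroup.centralizer (X : Set G) = ⊥ ∧ ¬ Subgroup.centralizer (X : Set G) ≤ M := by
  obtain ⟨hAE, hAel, hAc⟩ := hA
  have hpt := hp
  obtain ⟨-, hps, -, hr1⟩ := hp
  obtain ⟨A₀, h⟩ := exists_exc hG hM hps (hAE.trans hE.1) hAel hAc
  obtain ⟨R, n, z, hd⟩ := h.exists_movingData hS
  obtain ⟨hlines, hσ, hA0⟩ := h.lines_spec hd
  have huniq : ∀ q : ℕ, q ∈ Cfsg.tau2 M → q = p := by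
    intro q hq
    by_contra hne
    haveI := Fact.mk hq.1
    obtain ⟨B, hBE, hB, hBc⟩ := exists_square_le_compl hE hq.2.1 hq.2.2.2
    obtain ⟨B₀, h'⟩ := exists_exc hG hM hq.2.1 (hBE.trans hE.1) hB hBc
    exact h.not_second_prime hS hne h' hE hAE hBE
  refine ⟨Set.ext fun q => ⟨huniq q, fun e => (Set.mem_singleton_iff.1 e).symm ▸ hpt⟩,
    ⟨by rw [hA0, h.card_line], ?_⟩, fun X hXE hXc hXne => ?_⟩
  · rw [hA0]
    refine le_antisymm ?_ (sup_le ?_ ?_)
    · refine fittingOf_le_of_forall fun r hr => ?_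
      haveI := Fact.mk hr
      have hU := isPGroup_pOf (r := r) M
      by_cases hrs : r ∈ Cfsg.sigma M
      · refine le_sup_of_le_left (le_sigmaCore_of_isPiGrp hG hM (pOf_le M) fun l hl hd' => ?_)
        obtain ⟨k, hk⟩ := hU.exists_card_eq
        exact (Nat.prime_dvd_prime_iff_eq hl hr).1 (hl.dvd_of_dvd_pow (hk ▸ hd')) ▸ hrs
      rcases eq_or_ne r p with rfl | hne
      · exact le_sup_of_le_right (h.pOf_le_line hd)
      rcases eq_or_ne (pOf r M) ⊥ with e | e
      · rw [e]; exact bot_le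
      exfalso
      have hcen : pOf r M ≤ centralizer (Cfsg.sigmaCore M : Set G) := le_centralizer_of_normalize
        (Coprime.disjoint_of_coprime_card (coprime_of_isPGroup hU (not_dvd_sigmaCore hrs)))
        ((pOf_le M).trans (le_normalizer_sigmaCore M)) ((sigmaCore_le M).trans (le_normalizer_pOf M))
      obtain ⟨-, B₀, -, -, -, hSyl⟩ := normal_cyclic_data hG hM hrs (pOf_le M) hU (le_normalizer_pOf M) hcen e
      obtain ⟨T⟩ : Nonempty (Sylow r M) := inferInstance
      obtain ⟨B, hB, -⟩ := hSyl T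
      exact hne (huniq r ⟨hr, hrs, hB.setting.rank,
        not_pRankLE_of_elementary hB.elem hB.le (by rw [hB.card])⟩)
    · haveI := h.isNilpotent_sigmaCore
      refine fun y hy => mem_of_forall_primePart fun r hr _ u hu ⟨k, hk⟩ => ?_
      haveI := Fact.mk hr
      have huK : u ∈ Cfsg.sigmaCore M := Subgroup.zpowers_le.2 hy hu
      have hup : IsPGroup r (zpowers u) := by
        obtain ⟨i, -, hi⟩ := (Nat.dvd_prime_pow hr).1 (orderOf_dvd_of_pow_eq_one hk)
        exact IsPGroup.of_card (n := i) (by rw [Nat.card_zpowers, hi])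
      obtain ⟨D, hDC, hD, hUD, hDn⟩ := exists_normal_pgroup_ge (M := M) h.isNilpotent_sigmaCore
        (le_normalizer_sigmaCore M) (Subgroup.zpowers_le.2 huK) hup
      exact pOf_le_fittingOf M hr (le_pOf (hDC.trans (sigmaCore_le M)) hDn hD (hUD (Subgroup.mem_zpowers u)))
    · have hn : M ≤ normalizer (A₀ : Set G) := by
        intro m hm
        obtain ⟨e, he, k, hk, rfl⟩ := hE.2.2.2 m hm
        refine Subgroup.mul_mem _ ?_ (Subgroup.centralizer_le_normalizer _ (hσ hk))
        rw [← hA0]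
        exact Coprime.le_normalizer_inf_of_le (h.complement_le_normalizer hE hAE)
          (Coprime.le_normalizer_centralizer (hE.1.trans (le_normalizer_sigmaCore M))) he
      exact (le_pOf (h.line_le.trans h.le) hn ((PGroup.isPGroup_of_elementaryAbelian hAel).to_le h.line_le)).trans
        (pOf_le_fittingOf M Fact.out)
  · obtain ⟨x, hx, hx1⟩ := (Subgroup.bot_or_exists_ne_one X).resolve_left fun e => by
      rw [e, Subgroup.card_bot] at hXc
      exact (Fact.out : p.Prime).ne_one hXc.symm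
    have hxp : x ^ p = 1 := by
      have h1 := congrArg Subtype.val (pow_card_eq_one' (x := (⟨x, hx⟩ : X)))
      rwa [hXc] at h1
    have hgen : zpowers x = X := Subgroup.eq_of_le_of_card_ge (Subgroup.zpowers_le.2 hx)
      (by rw [hXc, Nat.card_zpowers, orderOf_eq_prime hxp hx1])
    have hx0 : x ∉ A₀ := fun e => hXne (by
      rw [hA0]
      exact Subgroup.eq_of_le_of_card_ge (hgen ▸ Subgroup.zpowers_le.2 e) (by rw [hXc, h.card_line]))
    rw [← hgen, Subgroup.zpowers_eq_closure, Subgroup.centralizer_closure]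
    exact hlines x (h.mem_of_compl hE hAE (hXE hx) hxp) hx0

end Cfsg.Agent.S1419
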