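import Cfsg.Statements.S1358
import Cfsg.Agent.S1420
import Cfsg.Agent.Lib.OddOrder.SigmaDecomp

set_option autoImplicit false
open Cfsg

namespace Cfsg.Agent.S1358

/-- Let G be a minimal simple group of odd order and M a maximal subgroup with standard factorisation M = K U M_σ. Then for every prime p, every Sylow p-subgroup of U is abelian and has no elementary abelian subgroup of order p ^ 3. -/
theorem result {G : Type*} [Group G] [Finite G] (hG : Cfsg.IsMinSimpleOddOrder G)
    (M : Subgroup G) (hM : IsCoatom M) (K U : Subgroup G) (hKU : Cfsg.IsSigmaDecomposition M K U) :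
    ∀ (p : ℕ), p.Prime → ∀ P : Sylow p U, IsMulCommutative (P : Subgroup U) ∧ Cfsg.PRankLE p 2 (P : Subgroup U) := by
  intro p hp P
  haveI := Fact.mk hp
  have hle : (P : Subgroup U).map U.subtype ≤ U := Subgroup.map_subtype_le _
  have hPn : Group.IsNilpotent ↥((P : Subgroup U).map U.subtype) :=
    (P.2.map U.subtype).isNilpotent
  obtain ⟨E, hE⟩ : ∃ E, Cfsg.IsComplIn E (Cfsg.sigmaCore M) M :=
    ⟨U ⊔ K, Cfsg.Agent.OddOrder.Decomp.isComplIn_sup hG hM hKU⟩
  have hc := (S1420.result hG M hM E hE).1 _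
    (hle.trans (Cfsg.Agent.OddOrder.Decomp.le_right hKU)) hPn fun q hq hd =>
      Cfsg.Agent.OddOrder.Decomp.not_mem_sigma hG hM hKU hq (hd.trans (Subgroup.card_dvd_of_le hle))
  refine ⟨Cfsg.Agent.PGroup.isMulCommutative_of_forall fun a ha b hb => Subtype.ext ?_, ?_⟩
  · exact Cfsg.Agent.PGroup.mul_comm_of_isMulCommutative hc ⟨a, ha, rfl⟩ ⟨b, hb, rfl⟩
  by_cases hd : p ∣ Nat.card U
  · have hr : Cfsg.PRankLE p 2 M := by
      by_contra h
      exact Cfsg.Agent.OddOrder.Decomp.not_mem_sigma hG hM hKU hp hd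
        (Cfsg.Agent.OddOrder.alpha_subset_sigma hG hM ⟨hp, h⟩)
    exact Cfsg.Agent.OddOrder.pRankLE_of_injective
      (f := (Subgroup.inclusion (Cfsg.Agent.OddOrder.Decomp.le_right hKU)).comp (P : Subgroup U).subtype)
      ((Subgroup.inclusion_injective (Cfsg.Agent.OddOrder.Decomp.le_right hKU)).comp
        (P : Subgroup U).subtype_injective) hr
  · have h1 : (P : Subgroup U) = ⊥ := Cfsg.Agent.PCore.eq_bot_of_isPGroup_of_coprime P.2
      ((hp.coprime_iff_not_dvd.2 fun hd' => hd (hd'.trans (P : Subgroup U).card_subgroup_dvd_card)).symm)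
    intro A _ _
    refine le_trans (Nat.le_of_dvd Nat.card_pos A.card_subgroup_dvd_card) ?_
    rw [h1, Subgroup.card_bot]
    exact Nat.one_le_pow _ _ hp.pos

end Cfsg.Agent.S1358
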