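import Cfsg.Statements.S1362
import Cfsg.Agent.S1420
import Cfsg.Agent.Lib.OddOrder.SigmaDecomp

set_option autoImplicit false
open Cfsg
open scoped Pointwise

namespace Cfsg.Agent.S1362

/-- Let G be a minimal simple group of odd order and M a maximal subgroup with standard factorisation M = K U M_σ, and let A(M) be the set of elements of U M_σ centralizing some non-identity element of M_σ. Then A(M) with M_σ removed is a TI-subset of G. -/
theorem result {G : Type*} [Group G] [Finite G] (hG : Cfsg.IsMinSimpleOddOrder G)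
    (M : Subgroup G) (hM : IsCoatom M) (K U : Subgroup G) (hKU : Cfsg.IsSigmaDecomposition M K U) :
    Cfsg.IsTISubset (Cfsg.sigmaA M U \ (Cfsg.sigmaCore M : Set G)) := by
  intro g hg a ha hga
  refine absurd ?_ hg
  obtain ⟨r, hr, hrs, hd, ho⟩ :=
    Cfsg.Agent.OddOrder.exists_prime_not_sigma hG hM ha.1.1.1 ha.2
  haveI := Fact.mk hr
  set b := a ^ (orderOf a / r) with hb
  have hτ := Cfsg.Agent.OddOrder.Decomp.mem_tau2_of_sigmaA hG hM hKU ha.1 hr hrs hd
  obtain ⟨E, hE⟩ : ∃ E, Cfsg.IsComplIn E (Cfsg.sigmaCore M) M :=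
    ⟨U ⊔ K, Cfsg.Agent.OddOrder.Decomp.isComplIn_sup hG hM hKU⟩
  have key : ∀ c : G, c ∈ Cfsg.sigmaHat M → orderOf c = r →
      Subgroup.centralizer ({c} : Set G) ≤ M ∧
        ∀ L : Subgroup G, IsCoatom L → Subgroup.centralizer ({c} : Set G) ≤ L → L = M :=
    fun c hc hco => (S1420.result hG M hM E hE).2.2.2 c hc.1 (fun e => hr.ne_one (by rw [← hco, e, orderOf_one]))
      (fun q hq hqd => (Nat.prime_dvd_prime_iff_eq hq hr).1 (hco ▸ hqd) ▸ hτ) hc
  have hcb : g * b * g⁻¹ = (g * a * g⁻¹) ^ (orderOf a / r) := by rw [conj_pow]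
  obtain ⟨hb1, -⟩ := key b (Cfsg.Agent.OddOrder.pow_mem_sigmaHat ha.1.1 _) ho
  have ho' : orderOf (g * b * g⁻¹) = r := by
    rw [show g * b * g⁻¹ = MulAut.conj g b from rfl, MulEquiv.orderOf_eq, ho]
  obtain ⟨-, huniq⟩ := key (g * b * g⁻¹) (hcb ▸ Cfsg.Agent.OddOrder.pow_mem_sigmaHat hga.1.1 _) ho'
  have hMM := huniq (MulAut.conj g • M) ((OrderIso.isCoatom_iff (MulAut.conj g : MulAut G).mapSubgroup M).2 hM) (by
    rw [← Cfsg.Agent.OddOrder.conj_smul_centralizer]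
    exact Subgroup.pointwise_smul_le_pointwise_smul_iff.2 hb1)
  have hgN : g ∈ Subgroup.normalizer (M : Set G) := Cfsg.Agent.Coprime.mem_normalizer_of_conj_smul_eq hMM
  have hMn : Subgroup.normalizer (M : Set G) = M :=
    (hM.le_iff.1 Subgroup.le_normalizer).resolve_left fun h => by
      haveI : M.Normal := Subgroup.normalizer_eq_top_iff.1 h
      rcases hG.2.1.eq_bot_or_eq_top_of_normal M inferInstance with h' | h'
      · exact hr.ne_one (by rw [← ho, show b = 1 from Subgroup.mem_bot.1 (h' ▸ M.pow_mem ha.1.1.1 _), orderOf_one])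
      · exact hM.1 h'
  rw [hMn] at hgN
  have hconj : ∀ m ∈ M, ∀ x ∈ Cfsg.sigmaA M U \ (Cfsg.sigmaCore M : Set G),
      m * x * m⁻¹ ∈ Cfsg.sigmaA M U \ (Cfsg.sigmaCore M : Set G) := fun m hm x hx =>
    ⟨⟨Cfsg.Agent.OddOrder.conj_mem_sigmaHat hx.1.1 hm,
      (Subgroup.mem_normalizer_iff.1 (Cfsg.Agent.OddOrder.Decomp.le_normalizer_sup hKU hm) x).1 hx.1.2⟩,
      fun h => hx.2 ((Subgroup.mem_normalizer_iff.1 (Cfsg.Agent.OddOrder.le_normalizer_sigmaCore M hm) x).2 h)⟩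
  show ∀ x, _ ↔ _
  refine fun x => ⟨fun hx => hconj g hgN x hx, fun hx => ?_⟩
  have h2 := hconj g⁻¹ (M.inv_mem hgN) _ hx
  simpa [mul_assoc] using h2

end Cfsg.Agent.S1362
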