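import Cfsg.Statements.S1425
import Cfsg.Agent.Lib.OddOrder.SigmaEmbed

set_option autoImplicit false
open Cfsg

namespace Cfsg.Agent.S1425

open Subgroup (centralizer normalizer)
open scoped Pointwise
open Cfsg.Agent.OddOrder

universe u

/-- The case of a `σ(M)`-group with a normal `q`-subgroup inside `M`. -/
theorem exists_conj_le_of_normal {G : Type u} [Group G] [Finite G] (hG : IsMinSimpleOddOrder G)
    {M Y X : Subgroup G} (hM : IsCoatom M) (hY : IsPiGrp (sigma M) Y) {q : ℕ} [Fact q.Prime]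
    (hX : IsPGroup q X) (hX1 : X ≠ ⊥) (hXY : X ≤ Y) (hYX : Y ≤ normalizer (X : Set G)) (hXM : X ≤ M) :
    ∃ g : G, MulAut.conj g • Y ≤ sigmaCore M := by
  have hq : q ∈ sigma M := hY q Fact.out (dvd_card_of_ne_bot hX hX1 hXY)
  obtain ⟨H, hH, hNX⟩ := exists_coatom_ge (normalizer_ne_top_of_pgroup hG hX hX1)
  have hYH : Y ≤ H := hYX.trans hNX
  rcases eq_or_ne H M with rfl | hne
  · exact ⟨1, by rw [map_one, one_smul]; exact le_sigmaCore_of_isPiGrp hG hM hYH hY⟩
  obtain ⟨T, hT, hXT⟩ := exists_isSyl_ge hX (le_inf hXM (hXY.trans hYH))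
  obtain ⟨K, hKH, hKn, hprod, hKσ, -⟩ := exists_supplement hG hM hH hne hq hX hX1 hXM hNX hT hXT
  haveI := isSolvable_of_coatom hG hH
  have hσle : sigmaCore M ≤ M := piCoreOf_le _ M
  set Z : Subgroup H := (sigmaCore M ⊓ H).subgroupOf H
  set K' : Subgroup H := K.subgroupOf H
  set D : Subgroup H := (M ⊓ H).subgroupOf H
  haveI : K'.Normal := (Subgroup.normal_subgroupOf_iff_le_normalizer hKH).2 hKn
  have hsup : K' ⊔ D = ⊤ := eq_top_iff.2 fun h _ => by
    obtain ⟨k, hk, d, hd, hkd⟩ := hprod h h.2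
    have he : h = (⟨k, hKH hk⟩ : H) * ⟨d, hd.2⟩ := Subtype.ext hkd
    rw [he]
    exact mul_mem (Subgroup.mem_sup_left hk) (Subgroup.mem_sup_right hd)
  have hD : D.index ∣ Nat.card K' := by
    have h1 : K'.relIndex D = K'.index := by
      rw [← Subgroup.relIndex_sup_left, hsup, Subgroup.relIndex_top_right]
    have h2 : Nat.card ↥(K' ⊓ D) * K'.index = Nat.card D := by
      have := Subgroup.relIndex_mul_relIndex ⊥ (K' ⊓ D) D bot_le inf_le_right
      rwa [Subgroup.relIndex_bot_left, Subgroup.relIndex_bot_left, Subgroup.inf_relIndex_right, h1] at this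
    refine ⟨Nat.card ↥(K' ⊓ D), Nat.eq_of_mul_eq_mul_right (Nat.pos_of_ne_zero K'.index_ne_zero_of_finite) ?_⟩
    rw [mul_assoc, h2, mul_comm D.index, D.card_mul_index, K'.card_mul_index]
  have hZ : ∀ r : ℕ, r.Prime → r ∣ Z.index → r ∉ sigma M := by
    intro r hr hd hrσ
    haveI := Fact.mk hr
    have hZD : Z ≤ D := fun x hx => ⟨hσle hx.1, hx.2⟩
    rw [← Subgroup.relIndex_mul_index hZD] at hd
    rcases hr.dvd_mul.1 hd with h | h
    · rw [Subgroup.relIndex_subgroupOf inf_le_right] at h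
      have e : (sigmaCore M ⊓ H).relIndex (M ⊓ H) = (sigmaCore M).relIndex (M ⊓ H) := by
        rw [← Subgroup.inf_relIndex_right (sigmaCore M) (M ⊓ H),
          show sigmaCore M ⊓ (M ⊓ H) = sigmaCore M ⊓ H by rw [← inf_assoc, inf_eq_left.2 hσle]]
      rw [e] at h
      haveI := sigmaCore_normal_subgroupOf (M := M)
      have h2 : r ∣ ((sigmaCore M).subgroupOf M).index := by
        refine h.trans ?_
        rw [← Subgroup.relIndex_subgroupOf (inf_le_left : M ⊓ H ≤ M)]
        exact Subgroup.relIndex_dvd_index_of_normal _ _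
      exact (sigmaCore_hall hG hM).2.2 r hr hrσ h2
    · refine hKσ r hr ?_ hrσ
      rw [← Coprime.card_subgroupOf hKH]
      exact h.trans hD
  have hZπ : ∀ r : ℕ, r.Prime → r ∣ Nat.card Z → r ∈ sigma M := fun r hr hd =>
    isPiGrp_piCoreOf (sigma M) M r hr (by
      rw [Coprime.card_subgroupOf inf_le_right] at hd
      exact hd.trans (Subgroup.card_dvd_of_le inf_le_left))
  have hcop : (Nat.card Z).Coprime Z.index := Nat.coprime_of_dvd fun r hr h1 h2 => hZ r hr h2 (hZπ r hr h1)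
  have hY' : (Nat.card (Y.subgroupOf H)).Coprime Z.index := Nat.coprime_of_dvd fun r hr h1 h2 => by
    rw [Coprime.card_subgroupOf hYH] at h1
    exact hZ r hr h2 (hY r hr h1)
  obtain ⟨g, hg⟩ := Solvable.exists_le_conj_hall Z.card_mul_index.symm hcop rfl hY'
  refine ⟨(g : G)⁻¹, conj_smul_le fun y hy => ?_⟩
  obtain ⟨z, hz, hzy⟩ := hg (show (⟨y, hYH hy⟩ : H) ∈ Y.subgroupOf H from hy)
  exact ⟨(z : G), hz.1, congrArg Subtype.val hzy⟩

/-- Let G be a minimal simple group of odd order, M a maximal subgroup and Y a nontrivial subgroup of G all of whose prime divisors lie in σ(M). Then gYg⁻¹ ≤ M_σ for some g ∈ G. -/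
theorem result {G : Type*} [Group G] [Finite G] (hG : Cfsg.IsMinSimpleOddOrder G)
    (M : Subgroup G) (hM : IsCoatom M) (Y : Subgroup G) (hY1 : Y ≠ ⊥) (hY : ∀ p : ℕ, p.Prime → p ∣ Nat.card Y → p ∈ Cfsg.sigma M) :
    ∃ g : G, Y.map (MulAut.conj g).toMonoidHom ≤ Cfsg.sigmaCore M := by
  haveI hσ := sigmaCore_isPiHall hG hM
  have hYt : Y ≠ ⊤ := fun e => by
    have h1 : (sigmaCore M).index = 1 := Nat.eq_one_iff_not_exists_prime_dvd.2 fun r hr hd =>
      hσ.2 r hr (hY r hr (by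
        rw [e, Subgroup.card_top]
        exact hd.trans (Subgroup.index_dvd_card _))) hd
    exact hM.1 (top_unique (Subgroup.index_eq_one.1 h1 ▸ piCoreOf_le (sigma M) M))
  haveI := hG.2.2.2 Y hYt
  haveI : Nontrivial Y := (Subgroup.nontrivial_iff_ne_bot Y).2 hY1
  obtain ⟨q, X₀, hq, hX₀n, hX₀1, hX₀⟩ := Coprime.exists_normal_isPGroup (G := Y)
  haveI := Fact.mk hq
  set X := X₀.map Y.subtype
  have hX : IsPGroup q X := hX₀.map _
  have hX1 : X ≠ ⊥ := by
    rwa [Ne, Subgroup.map_eq_bot_iff_of_injective _ Y.subtype_injective]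
  have hXY : X ≤ Y := Subgroup.map_subtype_le _
  have hYX : Y ≤ normalizer (X : Set G) := le_normalizer_map_of_normal _
  have hqσ : q ∈ sigma M := hY q hq (dvd_card_of_ne_bot hX hX1 hXY)
  obtain ⟨Q, -, hQ, -⟩ := exists_sylow_sigmaCore_ge hG hM hqσ (A := ⊥) (U := ⊥) bot_le
    (by rw [Subgroup.card_bot]; exact Nat.coprime_one_left _) bot_le IsPGroup.of_bot bot_le
  obtain ⟨P, hP⟩ := hX.exists_le_sylow
  obtain ⟨a, ha⟩ := MulAction.exists_smul_eq G P Q
  have hXa : MulAut.conj a • X ≤ M := by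
    refine le_trans ?_ (hQ.trans (piCoreOf_le _ M))
    rw [← ha, Sylow.coe_subgroup_smul]
    exact Subgroup.pointwise_smul_le_pointwise_smul_iff.2 hP
  obtain ⟨g, hg⟩ := exists_conj_le_of_normal hG hM (Y := MulAut.conj a • Y) (X := MulAut.conj a • X)
    (fun r hr hd => hY r hr (by rwa [Coprime.card_conj_smul] at hd)) (q := q) (hX.map _)
    (fun h => hX1 (Subgroup.card_eq_one.1 (by rw [← Coprime.card_conj_smul a X, h, Subgroup.card_bot])))
    (Subgroup.pointwise_smul_le_pointwise_smul_iff.2 hXY) (le_normalizer_conj_smul hYX a) hXa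
  exact ⟨g * a, by rw [Coprime.conj_smul_smul] at hg; exact hg⟩

end Cfsg.Agent.S1425
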