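import Cfsg.Statements.S3745
import Cfsg.Agent.Lib.Solvable.Hall
import Cfsg.Agent.Lib.PCore.Basic
import Cfsg.Agent.Lib.Coprime.Sylow

set_option autoImplicit false
open Cfsg

namespace Cfsg.Agent.S3745

open scoped Pointwise
open Cfsg.Agent.Coprime

universe u

/-- Data of the π-part of `n`. -/
theorem exists_pi_part (π : Set ℕ) (n : ℕ) (hn : n ≠ 0) :
    ∃ m k : ℕ, n = m * k ∧ (∀ p : ℕ, p.Prime → p ∣ m → p ∈ π) ∧ (∀ p : ℕ, p.Prime → p ∣ k → p ∉ π) := by
  classical
  have aux : ∀ (P : ℕ → Prop) [DecidablePred P], ∀ p : ℕ, p.Prime →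
      p ∣ (n.factorization.filter P).prod (fun q e => q ^ e) → P p := by
    intro P _ p hp hd
    rw [Finsupp.prod, Prime.dvd_finsetProd_iff hp.prime] at hd
    obtain ⟨q, hq, hdq⟩ := hd
    rw [Finsupp.support_filter, Finset.mem_filter] at hq
    have hq' : q.Prime := Nat.prime_of_mem_primeFactors (Nat.support_factorization n ▸ hq.1)
    exact (Nat.prime_dvd_prime_iff_eq hp hq').1 (hp.dvd_of_dvd_pow hdq) ▸ hq.2
  refine ⟨_, _, ?_, aux (· ∈ π), aux (fun p => ¬ p ∈ π)⟩
  rw [Finsupp.prod_filter_mul_prod_filter_not]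
  exact (Nat.prod_factorization_pow_eq_self hn).symm

theorem coprime_of {π : Set ℕ} {a b : ℕ} (ha : ∀ p : ℕ, p.Prime → p ∣ a → p ∈ π)
    (hb : ∀ p : ℕ, p.Prime → p ∣ b → p ∉ π) : a.Coprime b :=
  Nat.coprime_of_dvd fun p hp h1 h2 => hb p hp h2 (ha p hp h1)

variable {X : Type u} [Group X] [Finite X] {π : Set ℕ}

theorem hall_exists (G : Subgroup X) (hs : Group.IsSolvable G) : ∃ H : Subgroup X, Cfsg.IsPiHallOf π H G := by
  obtain ⟨m, k, hmk, hm, hk⟩ := exists_pi_part π (Nat.card G) Nat.card_pos.ne'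
  obtain ⟨H, hH⟩ := Cfsg.Agent.Solvable.exists_hall (G := G) hmk (coprime_of hm hk)
  have hc : Nat.card ↥(H.map G.subtype) = m := by rw [Subgroup.card_map_of_injective G.subtype_injective, hH]
  refine ⟨H.map G.subtype, Subgroup.map_subtype_le H, fun p hp hd => hm p hp (hc ▸ hd), fun p hp hpπ hd => ?_⟩
  have h1 := Subgroup.relIndex_mul_relIndex ⊥ (H.map G.subtype) G bot_le (Subgroup.map_subtype_le H)
  rw [Subgroup.relIndex_bot_left, Subgroup.relIndex_bot_left, hc, hmk] at h1
  have hm0 : 0 < m := hH ▸ Nat.card_pos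
  rw [Nat.eq_of_mul_eq_mul_left hm0 h1] at hd
  exact hk p hp hd hpπ

/-- A Hall subgroup has order the π-part and index prime to it. -/
theorem hall_data {G H : Subgroup X} (hH : Cfsg.IsPiHallOf π H G) :
    Nat.card G = Nat.card H * H.relIndex G ∧ (Nat.card H).Coprime (H.relIndex G) := by
  refine ⟨?_, coprime_of hH.2.1 fun p hp hd hpπ => hH.2.2 p hp hpπ hd⟩
  rw [← Subgroup.relIndex_bot_left H, Subgroup.relIndex_mul_relIndex ⊥ H G bot_le hH.1, Subgroup.relIndex_bot_left]

theorem hall_conj {G H : Subgroup X} (hH : Cfsg.IsPiHallOf π H G) {g : X}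
    (hg : MulAut.conj g • G = G) : Cfsg.IsPiHallOf π (MulAut.conj g • H) G := by
  refine ⟨hg ▸ Subgroup.pointwise_smul_le_pointwise_smul_iff.2 hH.1,
    fun p hp hd => hH.2.1 p hp (by rwa [card_conj_smul] at hd), fun p hp hpπ => ?_⟩
  have : (MulAut.conj g • H).relIndex G = H.relIndex G := by
    conv_lhs => rw [← hg]
    exact Subgroup.relIndex_map_map_of_injective H G (MulAut.conj g).injective
  rw [this]
  exact hH.2.2 p hp hpπ

theorem hall_conjugate {G H K : Subgroup X} (hs : Group.IsSolvable G) (hH : Cfsg.IsPiHallOf π H G)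
    (hK : Cfsg.IsPiHallOf π K G) : ∃ g ∈ G, MulAut.conj g • H = K := by
  obtain ⟨h1, h2⟩ := hall_data hH
  obtain ⟨h3, h4⟩ := hall_data hK
  have hc : Nat.card K = Nat.card H := by
    have e := h3.symm.trans h1
    exact Nat.dvd_antisymm
      ((coprime_of hK.2.1 fun p hp hd hpπ => hH.2.2 p hp hpπ hd).dvd_of_dvd_mul_right ⟨_, e.symm⟩)
      ((coprime_of hH.2.1 fun p hp hd hpπ => hK.2.2 p hp hpπ hd).dvd_of_dvd_mul_right ⟨_, e⟩)
  obtain ⟨g, hg⟩ := Cfsg.Agent.Solvable.exists_conj_eq_hall (G := G) h1 h2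
    (H := H.subgroupOf G) (K := K.subgroupOf G)
    (Nat.card_congr (Subgroup.subgroupOfEquivOfLe hH.1).toEquiv)
    ((Nat.card_congr (Subgroup.subgroupOfEquivOfLe hK.1).toEquiv).trans hc)
  refine ⟨g, g.2, ?_⟩
  have := congrArg (fun S : Subgroup G => S.map G.subtype) hg
  simp only [Subgroup.map_subgroupOf_eq_of_le hK.1] at this
  rwa [map_conj_smul, Subgroup.map_subgroupOf_eq_of_le hH.1, G.coe_subtype] at this

/-- An invariant Hall subgroup exists. -/
theorem invariant_hall {A G : Subgroup X} (hAG : A ≤ Subgroup.normalizer (G : Set X))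
    (hcop : (Nat.card A).Coprime (Nat.card G)) (hs : Group.IsSolvable G) :
    ∃ H : Subgroup X, Cfsg.IsPiHallOf π H G ∧ A ≤ Subgroup.normalizer (H : Set X) := by
  obtain ⟨H, hH⟩ := hall_exists (π := π) G hs
  letI : MulAction X (Subgroup X) := MulAction.compHom _ (MulAut.conj : X →* MulAut X)
  obtain ⟨k, hk, hfix⟩ := exists_fixed_point (X := Subgroup X) hAG hcop (Or.inr hs) H
    (fun a ha => hall_conjugate hs hH (hall_conj hH (conj_smul_eq_self_of_mem (hAG ha))))
  exact ⟨MulAut.conj k • H, hall_conj hH (conj_smul_eq_self_of_mem (Subgroup.le_normalizer hk)),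
    fun a ha => mem_normalizer_of_conj_smul_eq (hfix a ha)⟩

omit X in
/-- Dominance. -/
theorem dominance : ∀ (n : ℕ) (Y : Type u) [Group Y] [Finite Y] (A G H U : Subgroup Y), Nat.card G = n → G.Normal →
    Group.IsSolvable G → (Nat.card A).Coprime (Nat.card G) → Cfsg.IsPiHallOf π H G →
    A ≤ Subgroup.normalizer (H : Set Y) → U ≤ G → A ≤ Subgroup.normalizer (U : Set Y) →
    (∀ p : ℕ, p.Prime → p ∣ Nat.card U → p ∈ π) →
    ∃ g ∈ G, U ≤ MulAut.conj g • H ∧ A ≤ Subgroup.normalizer ((MulAut.conj g • H : Subgroup Y) : Set Y) := by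
  intro n
  induction n using Nat.strong_induction_on with
  | _ n ih =>
    intro Y _ _ A G H U hn hGn hs hcop hH hAH hUG hAU hUπ
    rcases subsingleton_or_nontrivial G with hsub | hnt
    · refine ⟨1, one_mem G, fun x hx => ?_, by simpa using hAH⟩
      have : x = 1 := congrArg Subtype.val (Subsingleton.elim (⟨x, hUG hx⟩ : G) 1)
      rw [this]; exact one_mem _
    haveI := hGn
    obtain ⟨p, M₀, hp, hM₀n, hM₀b, hM₀p⟩ := Cfsg.Agent.Coprime.exists_normal_isPGroup (G := G)
    haveI := Fact.mk hp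
    set M := (Cfsg.pCore p G).map G.subtype with hMdef
    have hMG : M ≤ G := Subgroup.map_subtype_le _
    haveI : M.Normal := ConjAct.normal_of_characteristic_of_normal
    have hMb : M ≠ ⊥ := by
      rw [hMdef, Ne, Subgroup.map_eq_bot_iff_of_injective _ G.subtype_injective]
      exact fun h => hM₀b (eq_bot_iff.2 (h ▸ Cfsg.Agent.PCore.le_pCore hM₀p))
    have hMp : IsPGroup p M := (Cfsg.Agent.PCore.isPGroup_pCore (G := G)).map G.subtype
    set f := QuotientGroup.mk' M
    have hf : Function.Surjective f := QuotientGroup.mk'_surjective M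
    have hcardlt : Nat.card (G.map f) < n := by
      have h1 := Subgroup.relIndex_ker f (K := G)
      rw [QuotientGroup.ker_mk'] at h1
      have h2 := Subgroup.relIndex_mul_relIndex ⊥ M G bot_le hMG
      rw [Subgroup.relIndex_bot_left, Subgroup.relIndex_bot_left, h1, hn] at h2
      have h3 : 1 < Nat.card M := (Subgroup.one_lt_card_iff_ne_bot M).2 hMb
      have h4 : 0 < Nat.card (G.map f) := Nat.card_pos
      nlinarith
    have hHimg : Cfsg.IsPiHallOf π (H.map f) (G.map f) := by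
      refine ⟨Subgroup.map_mono hH.1, fun q hq hd => hH.2.1 q hq (hd.trans (Subgroup.card_map_dvd H f)),
        fun q hq hqπ hd => hH.2.2 q hq hqπ (hd.trans ?_)⟩
      rw [Subgroup.relIndex_map_map, QuotientGroup.ker_mk', sup_eq_left.2 hMG]
      exact Subgroup.relIndex_dvd_of_le_left G le_sup_left
    obtain ⟨g', hg', hUg, hAg⟩ := ih _ hcardlt (Y ⧸ M) (A.map f) (G.map f) (H.map f) (U.map f) rfl
      (hGn.map f hf) (Group.isSolvable_of_surjective (f := f.subgroupMap G) (f.subgroupMap_surjective G))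
      ((hcop.coprime_dvd_left (Subgroup.card_map_dvd A f)).coprime_dvd_right (Subgroup.card_map_dvd G f)) hHimg
      ((Subgroup.map_mono hAH).trans (H.le_normalizer_map f)) (Subgroup.map_mono hUG)
      ((Subgroup.map_mono hAU).trans (U.le_normalizer_map f))
      (fun q hq hd => hUπ q hq (hd.trans (Subgroup.card_map_dvd U f)))
    obtain ⟨g, hgG, rfl⟩ := hg'
    rw [← map_conj_smul] at hUg hAg
    set H₁ := MulAut.conj g • H
    have hH₁ : Cfsg.IsPiHallOf π H₁ G := hall_conj hH (conj_smul_eq_self_of_mem (Subgroup.le_normalizer hgG))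
    set K := (H₁.map f).comap f with hKdef
    have hKeq : K = H₁ ⊔ M := by rw [hKdef, Subgroup.comap_map_eq, QuotientGroup.ker_mk']
    have hAK : A ≤ Subgroup.normalizer (K : Set Y) := by
      intro a ha
      apply mem_normalizer_of_conj_smul_eq
      have h1 := conj_smul_eq_self_of_mem (hAg (Subgroup.mem_map_of_mem f ha))
      ext y
      rw [mem_conj_smul_iff, hKdef, Subgroup.mem_comap, Subgroup.mem_comap]
      conv_rhs => rw [← h1, mem_conj_smul_iff]
      simp
    have hUK : U ≤ K := fun x hx => hUg (Subgroup.mem_map_of_mem f hx)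
    obtain ⟨e, he⟩ := hMp.exists_card_eq
    have hMnorm : ∀ S : Subgroup Y, S ≤ Subgroup.normalizer (M : Set Y) := fun S =>
      (Subgroup.normalizer_eq_top_iff.2 inferInstance : Subgroup.normalizer (M : Set Y) = ⊤) ▸ le_top
    by_cases hpπ : p ∈ π
    · have hMH : M ≤ H₁ := by
        obtain ⟨h1, h2⟩ := hall_data hH₁
        refine (le_sup_right : M ≤ H₁ ⊔ M).trans (Subgroup.relIndex_eq_one.1 ?_)
        refine Nat.eq_one_of_dvd_coprimes (coprime_of (π := π) (a := Nat.card ↥(H₁ ⊔ M)) (b := H₁.relIndex G) ?_ ?_)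
          (Subgroup.relIndex_dvd_card H₁ (H₁ ⊔ M))
          ⟨_, (Subgroup.relIndex_mul_relIndex H₁ (H₁ ⊔ M) G le_sup_left (sup_le hH₁.1 hMG)).symm⟩
        · intro q hq hd
          have hd' : q ∣ Nat.card M * Nat.card H₁ :=
            hd.trans (sup_comm H₁ M ▸ Cfsg.Agent.PCore.card_sup_dvd M H₁)
          rcases hq.dvd_mul.1 hd' with h | h
          · rw [he] at h
            exact (Nat.prime_dvd_prime_iff_eq hq hp).1 (hq.dvd_of_dvd_pow h) ▸ hpπ
          · exact hH₁.2.1 q hq h
        · exact fun q hq hd hqπ => hH₁.2.2 q hq hqπ hd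
      rw [hKeq, sup_eq_left.2 hMH] at hUK hAK
      exact ⟨g, hgG, hUK, hAK⟩
    · have hKG : K ≤ G := hKeq ▸ sup_le hH₁.1 hMG
      have hKs : Group.IsSolvable K := isSolvable_of_le hKG hs
      obtain ⟨H₂, hH₂, hAH₂⟩ := invariant_hall (π := π) hAK (hcop.coprime_dvd_right (Subgroup.card_dvd_of_le hKG)) hKs
      have hH₁K : Cfsg.IsPiHallOf π H₁ K :=
        ⟨hKeq ▸ le_sup_left, hH₁.2.1, fun q hq hqπ hd => hH₁.2.2 q hq hqπ
          (hd.trans ⟨K.relIndex G, (Subgroup.relIndex_mul_relIndex H₁ K G (hKeq ▸ le_sup_left) hKG).symm⟩)⟩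
      obtain ⟨k, hk, hkH⟩ := hall_conjugate hKs hH₁K hH₂
      have hdisj : ∀ S : Subgroup Y, S ≤ G → A ⊓ S = ⊥ := fun S hS =>
        eq_bot_iff.2 (le_trans (inf_le_inf_left A hS) (disjoint_of_coprime_card hcop).le)
      have hcopM : ∀ S : Subgroup Y, S ≤ G → A ≤ Subgroup.normalizer (S : Set Y) →
          (∀ q : ℕ, q.Prime → q ∣ Nat.card S → q ∈ π) → (Nat.card ↥(A ⊔ S)).Coprime (Nat.card M) := by
        intro S hS hAS hSπ
        rw [card_sup_of_le_normalizer hAS (hdisj S hS), he]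
        refine Nat.Coprime.mul_left (he ▸ hcop.coprime_dvd_right (Subgroup.card_dvd_of_le hMG)) ?_
        exact Nat.Coprime.pow_right e (Nat.Coprime.symm ((Nat.Prime.coprime_iff_not_dvd hp).2 fun h => hpπ (hSπ p hp h)))
      have hKH₂ : K ≤ H₂ ⊔ M := by
        rw [← conj_smul_eq_self_of_mem (Subgroup.le_normalizer hk : k ∈ Subgroup.normalizer (K : Set Y)), hKeq,
          Subgroup.smul_sup, hkH, conj_smul_eq_self_of_mem (hMnorm K hk)]
      have hMs : Group.IsSolvable M := by
        haveI := hMp.isNilpotent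
        infer_instance
      obtain ⟨m, hm, hle⟩ := exists_le_conj_of_le_sup (A := A ⊔ H₂) (N := M) (B := A ⊔ U)
        (hMnorm _) (sup_le (le_sup_left.trans le_sup_left) ((hUK.trans hKH₂).trans (sup_le_sup_right le_sup_right M)))
        (hcopM H₂ (hH₂.1.trans hKG) hAH₂ hH₂.2.1) (hcopM U hUG hAU hUπ) (Or.inr hMs)
      have hconj : MulAut.conj (m * k * g) • H = MulAut.conj m • H₂ := by
        rw [← hkH]
        simp only [H₁, conj_smul_smul, mul_assoc]
      refine ⟨m * k * g, mul_mem (mul_mem (hMG hm) (hKG hk)) hgG, ?_, ?_⟩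
      · intro x hx
        rw [hconj, mem_conj_smul_iff]
        have h1 : m⁻¹ * x * m ∈ A ⊔ H₂ := mem_conj_smul_iff.1 (hle (Subgroup.mem_sup_right hx))
        obtain ⟨a, ha, h, hh, hah⟩ := (mem_sup_iff_of_le_normalizer hAH₂).1 h1
        have haG : a ∈ G := by
          have : a * h ∈ G := hah ▸ mul_mem (mul_mem (inv_mem (hMG hm)) (hUG hx)) (hMG hm)
          simpa using mul_mem this (inv_mem (hH₂.1.trans hKG hh))
        have : a ∈ A ⊓ G := ⟨ha, haG⟩
        rw [hdisj G le_rfl, Subgroup.mem_bot] at this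
        rw [this, one_mul] at hah
        exact hah ▸ hh
      · rw [hconj]
        intro a ha
        have h1 : m⁻¹ * a * m ∈ Subgroup.normalizer (H₂ : Set Y) :=
          sup_le hAH₂ Subgroup.le_normalizer (mem_conj_smul_iff.1 (hle (Subgroup.mem_sup_left ha)))
        apply mem_normalizer_of_conj_smul_eq
        rw [conj_smul_smul, show a * m = m * (m⁻¹ * a * m) by group, ← conj_smul_smul,
          conj_smul_eq_self_of_mem h1]

/-- Coprime action on a solvable group and Hall subgroups. Let A and G be subgroups of a finite group with A normalizing G, the orders of A and G coprime, and G solvable, and let π be a set of primes. Then (a) G has an A-invariant Hall π-subgroup; (b) any two A-invariant Hall π-subgroups of G are conjugate by an element of C_G(A); (c) every A-invariant π-subgroup of G lies in an A-invariant Hall π-subgroup of G. -/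
theorem result {X : Type*} [Group X] [Finite X] (A G : Subgroup X) (hAG : A ≤ Subgroup.normalizer (G : Set X)) (hcop : (Nat.card A).Coprime (Nat.card G)) (hsolv : Group.IsSolvable G) (π : Set ℕ) : (∃ H : Subgroup X, Cfsg.IsPiHallOf π H G ∧ A ≤ Subgroup.normalizer (H : Set X)) ∧ (∀ H₁ H₂ : Subgroup X, Cfsg.IsPiHallOf π H₁ G → A ≤ Subgroup.normalizer (H₁ : Set X) → Cfsg.IsPiHallOf π H₂ G → A ≤ Subgroup.normalizer (H₂ : Set X) → ∃ c ∈ G ⊓ Subgroup.centralizer (A : Set X), H₂ = H₁.map (MulAut.conj c).toMonoidHom) ∧ (∀ U : Subgroup X, U ≤ G → A ≤ Subgroup.normalizer (U : Set X) → (∀ p : ℕ, p.Prime → p ∣ Nat.card U → p ∈ π) → ∃ H : Subgroup X, Cfsg.IsPiHallOf π H G ∧ A ≤ Subgroup.normalizer (H : Set X) ∧ U ≤ H) := by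
  refine ⟨invariant_hall hAG hcop hsolv, fun H₁ H₂ h₁ a₁ h₂ a₂ => ?_, fun U hUG hAU hUπ => ?_⟩
  · letI : MulAction X (Subgroup X) := MulAction.compHom _ (MulAut.conj : X →* MulAut X)
    obtain ⟨g, hg, hgH⟩ := hall_conjugate hsolv h₁ h₂
    obtain ⟨c, hc, hcH⟩ := exists_centralizer_smul_eq (X := Subgroup X) hAG hcop (Or.inr hsolv) (x := H₁) (y := H₂)
      (fun a ha => conj_smul_eq_self_of_mem (a₁ ha)) (fun a ha => conj_smul_eq_self_of_mem (a₂ ha)) hg hgH
    exact ⟨c, hc, hcH.symm⟩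
  · obtain ⟨H, hH, hAH⟩ := invariant_hall (π := π) hAG hcop hsolv
    set Y := A ⊔ G
    have hYG : Y ≤ Subgroup.normalizer (G : Set X) := sup_le hAG Subgroup.le_normalizer
    have hcard : ∀ {S : Subgroup X}, S ≤ Y → Nat.card (S.subgroupOf Y) = Nat.card S := fun hS =>
      card_subgroupOf hS
    have hGY : G ≤ Y := le_sup_right
    have hnorm : ∀ {S : Subgroup X}, A ≤ Subgroup.normalizer (S : Set X) →
        A.subgroupOf Y ≤ Subgroup.normalizer ((S.subgroupOf Y : Subgroup Y) : Set Y) := by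
      intro S hS a ha
      rw [Subgroup.mem_normalizer_iff]
      intro y
      simp only [Subgroup.mem_subgroupOf, Subgroup.coe_mul, Subgroup.coe_inv]
      exact Subgroup.mem_normalizer_iff.1 (hS ha) y
    obtain ⟨g, hg, hUg, hAg⟩ := dominance (π := π) _ Y (A.subgroupOf Y) (G.subgroupOf Y) (H.subgroupOf Y)
      (U.subgroupOf Y) rfl (Subgroup.normal_subgroupOf_of_le_normalizer hYG)
      (isSolvable_subgroupOf hGY hsolv)
      (by rw [hcard le_sup_left, hcard hGY]; exact hcop)
      ⟨Subgroup.comap_mono hH.1, fun q hq hd => hH.2.1 q hq (hcard (hH.1.trans hGY) ▸ hd),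
        fun q hq hqπ => by rw [Subgroup.relIndex_subgroupOf hGY]; exact hH.2.2 q hq hqπ⟩
      (hnorm hAH) (Subgroup.comap_mono hUG) (hnorm hAU)
      (fun q hq hd => hUπ q hq (hcard (hUG.trans hGY) ▸ hd))
    refine ⟨MulAut.conj (g : X) • H, hall_conj hH (conj_smul_eq_self_of_mem (Subgroup.le_normalizer hg)), ?_, ?_⟩
    · intro a ha
      apply mem_normalizer_of_conj_smul_eq
      have h1 := conj_smul_eq_self_of_mem (hAg (show (⟨a, Subgroup.mem_sup_left ha⟩ : Y) ∈ A.subgroupOf Y from ha))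
      have h2 := congrArg (fun S : Subgroup Y => S.map Y.subtype) h1
      simp only [map_conj_smul, Subgroup.map_subgroupOf_eq_of_le (hH.1.trans hGY), Y.coe_subtype] at h2
      exact h2
    · intro x hx
      have h1 := hUg (show (⟨x, hGY (hUG hx)⟩ : Y) ∈ U.subgroupOf Y from hx)
      rw [mem_conj_smul_iff] at h1 ⊢
      simpa [Subgroup.mem_subgroupOf] using h1

end Cfsg.Agent.S3745
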