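import Cfsg.Statements.S1389
import Cfsg.Agent.Lib.OddOrder.TauThreeRegular
import Cfsg.Agent.Lib.OddOrder.TypesIff
import Cfsg.Agent.Lib.OddOrder.TheoremC
import Cfsg.Agent.Lib.OddOrder.TypeTheorems
import Cfsg.Agent.S1351
import Cfsg.Agent.S1352
-- import your own Cfsg.Agent.* helpers here

set_option autoImplicit false
open Cfsg

namespace Cfsg.Agent.S1389

/-- Let G be a minimal simple group of odd order and M a maximal subgroup, and let M_s be M' if M is of Type III or IV and M_F otherwise. Then N_G(P) ≤ M for every nontrivial Sylow subgroup P of M_s, and both M_F and M_s have order coprime to their index in G. -/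
theorem result {G : Type*} [Group G] [Finite G] (hG : Cfsg.IsMinSimpleOddOrder G)
    (M : Subgroup G) (hM : IsCoatom M) :
    (∀ (p : ℕ), p.Prime → ∀ (P : Sylow p ↥(Cfsg.typeCore M)), (P : Subgroup ↥(Cfsg.typeCore M)) ≠ ⊥ →
        Subgroup.normalizer ((((P : Subgroup ↥(Cfsg.typeCore M)).map (Cfsg.typeCore M).subtype : Subgroup G)) : Set G) ≤ M) ∧
      (Nat.card (Cfsg.fittingHallOf M)).Coprime (Cfsg.fittingHallOf M).index ∧
      (Nat.card (Cfsg.typeCore M)).Coprime (Cfsg.typeCore M).index := by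
  refine OddOrder.TypeTheorems.theoremA hG hM fun hT => ?_
  have h13 := OddOrder.bg13 hG
  obtain ⟨⟨K, hK⟩, hc⟩ := S1351.result hG M hM
  obtain ⟨U, hKU⟩ := (S1352.result hG M hM K (hc K hK) hK).1
  obtain ⟨hK1, hU, -⟩ := (OddOrder.TypesIff.typeIII_IV_iff hG h13 hM hKU).1 hT
  rw [(OddOrder.TheoremC.derived hG h13 hM hKU hK1).1, hU, bot_sup_eq]

end Cfsg.Agent.S1389
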