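import Cfsg.Statements.S1237
import Cfsg.Agent.Lib.HigmanRankTwo.Structure
import Cfsg.Agent.Lib.HigmanRankTwo.Model
-- import your own Cfsg.Agent.* helpers here

set_option autoImplicit false
set_option linter.style.haveILetI false
open Cfsg

namespace Cfsg.Agent.S1237

/-- Let T be a finite 2-group of 2-rank exactly 2 (it has a Klein four-subgroup but no elementary abelian subgroup of order 8) admitting an automorphism φ such that any two involutions of T are carried to one another by a power of φ. Then T ≅ Z_{2^n} × Z_{2^n} for some n ≥ 1, or T is isomorphic to a Sylow 2-subgroup of PSU(3) over the field with 16 elements. -/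
theorem result {T : Type*} [Group T] [Finite T] (hT : IsPGroup 2 T) (h2 : Cfsg.PRankLE 2 2 T) (h1 : ¬ Cfsg.PRankLE 2 1 T) (φ : MulAut T) (htrans : ∀ s t : T, orderOf s = 2 → orderOf t = 2 → ∃ k : ℕ, (φ ^ k) s = t) {F : Type*} [Field F] [Fintype F] (hF : Fintype.card F = 16) (P : Sylow 2 (Cfsg.PSU 3 F 4)) : (∃ n : ℕ, 1 ≤ n ∧ Nonempty (T ≃* Multiplicative (ZMod (2 ^ n) × ZMod (2 ^ n)))) ∨ Nonempty (T ≃* (P : Subgroup (Cfsg.PSU 3 F 4))) := by
  classical
  haveI : Fact (Nat.Prime 2) := ⟨Nat.prime_two⟩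
  haveI : Fintype T := Fintype.ofFinite T
  -- the four-group
  obtain ⟨V, hVc, hVsq, hV4⟩ : ∃ V : Subgroup T, IsMulCommutative V ∧ (∀ v ∈ V, v ^ 2 = 1) ∧ Nat.card V = 4 := by
    unfold Cfsg.PRankLE at h1
    push Not at h1
    obtain ⟨V, hc, hsq, hlt⟩ := h1
    have hle := h2 V hc hsq
    obtain ⟨k, hk⟩ := Agent.PGroup.card_eq_pow hT V
    have hk2 : k ≤ 2 := (Nat.pow_le_pow_iff_right (le_refl 2)).mp (hk ▸ hle : 2 ^ k ≤ 2 ^ 2)
    exact ⟨V, hc, hsq, by interval_cases k <;> simp_all⟩
  haveI : Nontrivial V := Finite.one_lt_card_iff_nontrivial.mp (by omega)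
  haveI : Nontrivial T := V.subtype_injective.nontrivial
  have hord : ∀ x : T, x * x = 1 → x ≠ 1 → orderOf x = 2 := fun x hx hx1 =>
    orderOf_eq_prime (by rw [sq]; exact hx) hx1
  -- all involutions are central
  have hcentral : ∀ x : T, x * x = 1 → x ∈ Subgroup.center T := by
    intro x hx
    by_cases hx1 : x = 1
    · rw [hx1]; exact one_mem _
    obtain ⟨z, hzo⟩ := exists_prime_orderOf_dvd_card' (G := Subgroup.center T) 2 (by
      haveI := hT.center_nontrivial
      obtain ⟨k, hk, hc⟩ := (hT.to_subgroup (Subgroup.center T)).nontrivial_iff_card.mp inferInstance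
      exact hc ▸ dvd_pow_self 2 hk.ne')
    obtain ⟨k, hk⟩ := htrans (z : T) x (by rwa [Subgroup.orderOf_coe]) (hord x hx hx1)
    exact hk ▸ Cfsg.Agent.SylL34.Fpf.apply_mem_center (φ ^ k) z.2
  have hinv : ∀ x : T, x * x = 1 ↔ x ∈ V := by
    let Ω : Subgroup T :=
      { carrier := {x | x * x = 1}
        one_mem' := mul_one 1
        mul_mem' := fun {a b} ha hb => by
          show a * b * (a * b) = 1
          calc a * b * (a * b) = a * (b * a) * b := by group
            _ = a * a * (b * b) := by rw [Subgroup.mem_center_iff.mp (hcentral a ha) b]; group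
            _ = 1 := by rw [ha, hb, mul_one]
        inv_mem' := fun {a} ha => by
          show a⁻¹ * a⁻¹ = 1
          rw [← mul_inv_rev, ha, inv_one] }
    have hle : V ≤ Ω := fun v hv => by show v * v = 1; rw [← sq]; exact hVsq v hv
    have hΩ : Nat.card Ω ≤ 4 := h2 Ω
      ⟨⟨fun a b => Subtype.ext (Subgroup.mem_center_iff.mp (hcentral b b.2) a)⟩⟩
      (fun a ha => by rw [sq]; exact ha)
    have heq : V = Ω := Subgroup.eq_of_le_of_card_ge hle (by rw [hV4]; exact hΩ)
    exact fun x => ⟨fun hx => heq ▸ hx, fun hx => hle hx⟩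
  -- the `3`-part of `φ`
  obtain ⟨k, m, hm3, hkm⟩ := Nat.exists_eq_pow_mul_and_not_dvd (orderOf_pos φ).ne' 3 (by norm_num)
  set ψ := φ ^ m with hψ
  have hit : ∀ (j : ℕ) (y : T), (φ ^ j : MulAut T) y = φ^[j] y := fun j => by
    induction j with
    | zero => intro y; rfl
    | succ j ih => intro y; rw [pow_succ', Function.iterate_succ_apply', ← ih]; rfl
  have hVmove : ∀ v ∈ V, v ≠ 1 → ψ v ≠ v := by
    intro v hv hv1 he
    set d := Function.minimalPeriod φ v with hd
    have hpos : 0 < d := Function.IsPeriodicPt.minimalPeriod_pos (orderOf_pos φ) (by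
      show φ^[orderOf φ] v = v
      rw [← hit, pow_orderOf_eq_one]; rfl)
    set O := Finset.image (fun i => φ^[i] v) (Finset.range d) with hO
    have hOcard : O.card = d := by
      rw [hO, Finset.card_image_of_injOn, Finset.card_range]
      intro i hi j hj e
      simp only [Finset.coe_range, Set.mem_Iio] at hi hj
      exact (Function.iterate_eq_iterate_iff_of_lt_minimalPeriod hi hj).mp e
    have hOeq : O = (Finset.univ.filter fun x : T => x ∈ V).erase 1 := by
      ext x
      simp only [hO, Finset.mem_image, Finset.mem_range, Finset.mem_erase, Finset.mem_filter,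
        Finset.mem_univ, true_and]
      constructor
      · rintro ⟨i, -, rfl⟩
        refine ⟨?_, (hinv _).mp ?_⟩
        · rw [← hit]; exact fun e => hv1 ((map_eq_one_iff _ (φ ^ i).injective).mp e)
        · rw [← hit, ← map_mul, (hinv v).mpr hv, map_one]
      · rintro ⟨hx1, hx⟩
        obtain ⟨i, hi⟩ := htrans v x (hord v ((hinv v).mpr hv) hv1) (hord x ((hinv x).mpr hx) hx1)
        refine ⟨i % d, Nat.mod_lt _ hpos, ?_⟩
        rw [Function.iterate_mod_minimalPeriod_eq, ← hit, hi]
    have hd3 : d = 3 := by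
      rw [← hOcard, hOeq, Finset.card_erase_of_mem (by simp [one_mem]), ← Fintype.card_subtype,
        ← Nat.card_eq_fintype_card, show Nat.card {x : T // x ∈ V} = 4 from hV4]
    refine hm3 (hd3 ▸ ?_)
    refine Function.IsPeriodicPt.minimalPeriod_dvd ?_
    show φ^[m] v = v
    rw [← hit]; exact he
  have hmove : ∀ x : T, ψ x = x → x = 1 := by
    intro x hx
    by_contra hx1
    let C : Subgroup T :=
      { carrier := {y | ψ y = y}
        one_mem' := map_one ψ
        mul_mem' := fun {a b} ha hb => by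
          show ψ (a * b) = a * b
          rw [map_mul, ha, hb]
        inv_mem' := fun {a} ha => by
          show ψ a⁻¹ = a⁻¹
          rw [map_inv, ha] }
    have hC : Nontrivial C := ⟨⟨⟨x, hx⟩, 1, fun e => hx1 (congrArg Subtype.val e)⟩⟩
    obtain ⟨j, hj, hc⟩ := (hT.to_subgroup C).nontrivial_iff_card.mp hC
    obtain ⟨⟨y, hy⟩, hyo⟩ := exists_prime_orderOf_dvd_card' (G := C) 2 (hc ▸ dvd_pow_self 2 hj.ne')
    rw [← Subgroup.orderOf_coe] at hyo
    have hy2 : y * y = 1 := by rw [← sq, ← hyo]; exact pow_orderOf_eq_one y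
    exact hVmove y ((hinv y).mp hy2) (fun e => by subst e; simp at hyo) hy
  have hX : Agent.HigmanRankTwo.ThreeInv T ψ V :=
    ⟨hT, hV4, fun v hv => hcentral v ((hinv v).mpr hv), hinv, hmove, k, by
      rw [hψ, ← pow_mul, mul_comm, ← hkm, pow_orderOf_eq_one]⟩
  rcases hX.structure_theorem with h | ⟨hFp, hinv'⟩
  · exact Or.inl h
  · exact Or.inr (Agent.HigmanRankTwo.equiv_syl_of_fpf hFp hinv' hF P)

end Cfsg.Agent.S1237
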