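import Cfsg.Statements.S0247
import Mathlib
import Cfsg.Agent.S0245

set_option autoImplicit false
open Cfsg

namespace Cfsg.Agent.S0247

open Matrix

/-- Even-weight vectors of `F₂⁶`: a symplectic basis modulo the all-one vector. -/
def emb : Matrix (Fin 6) (Fin 2 ⊕ Fin 2) (ZMod 2) :=
  fun i k => match k with
  | .inl a => if a = 0 then ![1, 1, 0, 0, 0, 0] i else ![0, 0, 0, 1, 1, 0] i
  | .inr a => if a = 0 then ![0, 1, 1, 0, 0, 0] i else ![0, 0, 0, 0, 1, 1] i

/-- The dual basis, as a matrix of row vectors. -/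
def proj : Matrix (Fin 2 ⊕ Fin 2) (Fin 6) (ZMod 2) :=
  fun k i => emb i k.swap

def onesVec : Fin 6 → ZMod 2 := fun _ => 1

def firstHalf : Fin 6 → ZMod 2 := ![1, 1, 1, 0, 0, 0]

def secondHalf : Fin 6 → ZMod 2 := ![0, 0, 0, 1, 1, 1]

theorem emb_mul_proj : emb * proj = 1 + vecMulVec onesVec secondHalf + vecMulVec firstHalf onesVec := by
  decide +kernel

theorem proj_mul_ones : proj *ᵥ onesVec = 0 := by decide +kernel

theorem ones_mul_emb : onesVec ᵥ* emb = 0 := by decide +kernel

theorem emb_mul_J : emb * J (Fin 2) (ZMod 2) = proj.transpose := by decide +kernel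

theorem proj_mul_transpose : proj * proj.transpose = J (Fin 2) (ZMod 2) := by decide +kernel

/-- The matrix of the action of a permutation. -/
def mat (σ : Equiv.Perm (Fin 6)) : Matrix (Fin 2 ⊕ Fin 2) (Fin 2 ⊕ Fin 2) (ZMod 2) :=
  proj.submatrix id σ * emb

theorem proj_submatrix_ones (σ : Equiv.Perm (Fin 6)) : proj.submatrix id σ *ᵥ onesVec = 0 := by
  rw [Matrix.submatrix_mulVec_equiv]
  exact funext fun k => congrFun proj_mul_ones k

theorem ones_emb_submatrix (σ : Equiv.Perm (Fin 6)) : onesVec ᵥ* emb.submatrix σ id = 0 := by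
  rw [Matrix.submatrix_vecMul_equiv]
  exact funext fun k => congrFun ones_mul_emb k

theorem mat_mul (σ τ : Equiv.Perm (Fin 6)) : mat (σ * τ) = mat σ * mat τ := by
  have h1 : proj.submatrix id (σ * τ : Equiv.Perm (Fin 6)) * emb =
      proj.submatrix id σ * emb.submatrix τ.symm id := by
    ext k l
    simp only [Matrix.mul_apply, Matrix.submatrix_apply, id_eq]
    rw [← Equiv.sum_comp τ (fun i => proj k (σ i) * emb (τ.symm i) l)]
    simp
  have h3 : proj.submatrix id τ * emb = proj * emb.submatrix τ.symm id := by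
    ext k l
    simp only [Matrix.mul_apply, Matrix.submatrix_apply, id_eq]
    rw [← Equiv.sum_comp τ (fun i => proj k i * emb (τ.symm i) l)]
    simp
  show _ = mat σ * (proj.submatrix id τ * emb)
  rw [h3]
  show proj.submatrix id (σ * τ : Equiv.Perm (Fin 6)) * emb = _
  rw [h1, mat, Matrix.mul_assoc, ← Matrix.mul_assoc emb, emb_mul_proj, Matrix.add_mul,
    Matrix.add_mul, Matrix.one_mul, Matrix.mul_add, Matrix.mul_add, Matrix.vecMulVec_mul,
    Matrix.vecMulVec_mul, Matrix.mul_vecMulVec, Matrix.mul_vecMulVec, proj_submatrix_ones,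
    ones_emb_submatrix]
  simp

theorem mat_transpose (σ : Equiv.Perm (Fin 6)) : mat σ * J (Fin 2) (ZMod 2) * (mat σ).transpose =
    J (Fin 2) (ZMod 2) := by
  have hswap : emb * J (Fin 2) (ZMod 2) * emb.transpose = (emb * proj).transpose := by
    rw [emb_mul_J, Matrix.transpose_mul]
  have h : mat σ * J (Fin 2) (ZMod 2) * (mat σ).transpose =
      proj.submatrix id σ * (emb * J (Fin 2) (ZMod 2) * emb.transpose) *
        (proj.submatrix id σ).transpose := by
    simp only [mat, Matrix.transpose_mul, Matrix.mul_assoc]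
  rw [h, hswap, emb_mul_proj, Matrix.transpose_add, Matrix.transpose_add, Matrix.transpose_one,
    Matrix.transpose_vecMulVec, Matrix.transpose_vecMulVec, Matrix.mul_add, Matrix.mul_add,
    Matrix.mul_one, Matrix.mul_vecMulVec, Matrix.mul_vecMulVec, proj_submatrix_ones,
    Matrix.add_mul, Matrix.add_mul, Matrix.vecMulVec_mul, Matrix.vecMulVec_mul,
    Matrix.vecMul_transpose, Matrix.vecMul_transpose, proj_submatrix_ones]
  simp only [Matrix.vecMulVec_zero, Matrix.zero_vecMulVec, add_zero]
  rw [Matrix.transpose_submatrix, Matrix.submatrix_mul_equiv, proj_mul_transpose]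
  simp

theorem mat_one : mat 1 = 1 := by decide +kernel

theorem mat_injective : ∀ σ : Equiv.Perm (Fin 6), mat σ = 1 → σ = 1 := by decide +kernel

/-- Sp_4(2) is isomorphic to the symmetric group S_6. -/
theorem result {F : Type*} [Field F] [Fintype F] (hF : Fintype.card F = 2) : Nonempty (Matrix.symplecticGroup (Fin 2) F ≃* Equiv.Perm (Fin 6)) := by
  classical
  haveI : Fact (Nat.Prime 2) := ⟨Nat.prime_two⟩
  have hch : CharP F 2 := by
    obtain ⟨p, hp⟩ := CharP.exists F
    obtain ⟨n, hp', hcard⟩ := FiniteField.card F p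
    rw [hF] at hcard
    obtain rfl : p = 2 := (Nat.prime_dvd_prime_iff_eq hp' Nat.prime_two).1
      (hcard ▸ dvd_pow_self p n.ne_zero)
    exact hp
  let ι : ZMod 2 →+* F := ZMod.castHom dvd_rfl F
  have hmem : ∀ σ, (mat σ).map ι ∈ Matrix.symplecticGroup (Fin 2) F := by
    intro σ
    have h := congrArg (fun M => ι.mapMatrix M) (mat_transpose σ)
    simp only [map_mul] at h
    have hJ : ι.mapMatrix (Matrix.J (Fin 2) (ZMod 2)) = Matrix.J (Fin 2) F := by
      ext i j
      rcases i with i | i <;> rcases j with j | j <;>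
        simp [Matrix.J, RingHom.mapMatrix_apply, Matrix.one_apply, apply_ite ι, CharTwo.neg_eq]
    rw [hJ] at h
    show (mat σ).map ι * Matrix.J (Fin 2) F * ((mat σ).map ι).transpose = Matrix.J (Fin 2) F
    rw [← Matrix.transpose_map]
    exact h
  let φ : Equiv.Perm (Fin 6) →* Matrix.symplecticGroup (Fin 2) F :=
    { toFun := fun σ => ⟨(mat σ).map ι, hmem σ⟩
      map_one' := Subtype.ext (by
        show (mat 1).map ι = 1
        rw [mat_one]
        exact ι.mapMatrix.map_one)
      map_mul' := fun σ τ => Subtype.ext (by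
        show (mat (σ * τ)).map ι = (mat σ).map ι * (mat τ).map ι
        rw [mat_mul, Matrix.map_mul]) }
  have hinj : Function.Injective φ := by
    rw [injective_iff_map_eq_one]
    intro σ h
    apply mat_injective
    have h' : (mat σ).map ι = (1 : Matrix (Fin 2 ⊕ Fin 2) (Fin 2 ⊕ Fin 2) (ZMod 2)).map ι := by
      rw [Matrix.map_one ι (map_zero ι) (map_one ι)]
      exact congrArg Subtype.val h
    exact Matrix.map_injective ι.injective h'
  have hcard : Nat.card (Equiv.Perm (Fin 6)) = Nat.card (Matrix.symplecticGroup (Fin 2) F) := by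
    rw [S0245.result hF 2, Nat.card_perm, Nat.card_fin, Finset.prod_range_succ,
      Finset.prod_range_succ, Finset.prod_range_zero]
    norm_num [Nat.factorial]
  haveI : Fintype (Matrix.symplecticGroup (Fin 2) F) := Fintype.ofFinite _
  have hbij : Function.Bijective φ := by
    rw [Fintype.bijective_iff_injective_and_card]
    exact ⟨hinj, by simpa [Nat.card_eq_fintype_card] using hcard⟩
  exact ⟨(MulEquiv.ofBijective φ hbij).symm⟩

end Cfsg.Agent.S0247
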