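import Cfsg.Statements.S3908
import Cfsg.Agent.Lib.PGroup.UniqueOrderP
import Mathlib

set_option autoImplicit false
open Cfsg

namespace Cfsg.Agent.S3908

/-- Let G be a finite group in which any two abelian subgroups of the same order are conjugate. Then a Sylow 2-subgroup of G is cyclic, elementary abelian or generalized quaternion, and for an odd prime p a Sylow p-subgroup of G is cyclic or has exponent dividing p. -/
theorem result {G : Type*} [Group G] [Finite G] (hB : ∀ A B : Subgroup G, IsMulCommutative ↥A → IsMulCommutative ↥B → Nat.card ↥A = Nat.card ↥B → ∃ g : G, B = A.map (MulAut.conj g).toMonoidHom) :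
    (∀ P : Sylow 2 G, IsCyclic ↥(P : Subgroup G) ∨ Cfsg.IsElementaryAbelian 2 (P : Subgroup G) ∨ ∃ k : ℕ, Nonempty (↥(P : Subgroup G) ≃* QuaternionGroup (2 ^ k))) ∧
    ∀ (p : ℕ) [Fact p.Prime], p ≠ 2 → ∀ P : Sylow p G, IsCyclic ↥(P : Subgroup G) ∨ ∀ x ∈ (P : Subgroup G), x ^ p = 1 := by
  -- cyclic or exponent `p` unless quaternion
  have key : ∀ (p : ℕ) [Fact p.Prime] (P : Sylow p G),
      (IsCyclic ↥(P : Subgroup G) ∨ (p = 2 ∧ ∃ k : ℕ, Nonempty (↥(P : Subgroup G) ≃* QuaternionGroup (2 ^ k)))) ∨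
        ∀ x ∈ (P : Subgroup G), x ^ p = 1 := by
    intro p hp P
    by_cases hu : ∀ H K : Subgroup ↥(P : Subgroup G), Nat.card H = p → Nat.card K = p → H = K
    · left
      rcases Agent.PGroup.cyclic_or_quaternion_of_unique P.2 hu with h | ⟨hp2, k, -, -, he⟩
      · exact Or.inl h
      · exact Or.inr ⟨hp2, k, he⟩
    right
    push Not at hu
    obtain ⟨H, K, hH, hK, hne⟩ := hu
    have : Nontrivial ↥(P : Subgroup G) := by
      by_contra hnt
      rw [not_nontrivial_iff_subsingleton] at hnt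
      exact hne (Subsingleton.elim H K)
    have hcn : Subgroup.center ↥(P : Subgroup G) ≠ ⊥ := by
      have := P.2.center_nontrivial
      exact (Subgroup.nontrivial_iff_ne_bot _).mp this
    obtain ⟨k, hk⟩ := (P.2.to_subgroup (Subgroup.center ↥(P : Subgroup G))).exists_card_eq
    have hk0 : k ≠ 0 := fun h0 => hcn (Subgroup.card_eq_one.mp (by rw [hk, h0, pow_zero]))
    obtain ⟨z, hz⟩ := exists_prime_orderOf_dvd_card' p (hk ▸ dvd_pow_self p hk0 :
      p ∣ Nat.card ↥(Subgroup.center ↥(P : Subgroup G)))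
    rw [← Subgroup.orderOf_coe] at hz
    obtain ⟨x, hxo, hxz⟩ : ∃ x : ↥(P : Subgroup G), orderOf x = p ∧
        x ∉ Subgroup.zpowers (z : ↥(P : Subgroup G)) := by
      by_contra hall
      push Not at hall
      have hle : ∀ L : Subgroup ↥(P : Subgroup G), Nat.card L = p →
          L = Subgroup.zpowers (z : ↥(P : Subgroup G)) := by
        intro L hL
        refine Subgroup.eq_of_le_of_card_ge (fun y hy => ?_) (by rw [Nat.card_zpowers, hz, hL])
        by_cases hy1 : y = 1
        · exact hy1 ▸ one_mem _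
        · exact hall y (orderOf_eq_prime
            (orderOf_dvd_iff_pow_eq_one.mp ((Subgroup.orderOf_dvd_natCard L hy).trans hL.dvd)) hy1)
      exact hne ((hle H hH).trans (hle K hK).symm)
    let z' : G := ((z : ↥(P : Subgroup G)) : G)
    let x' : G := (x : G)
    have hcomm : Commute z' x' := congrArg Subtype.val (Subgroup.mem_center_iff.mp z.2 x).symm
    have hxz' : x' ∉ Subgroup.zpowers z' := fun h => by
      obtain ⟨i, hi⟩ := h
      exact hxz ⟨i, Subtype.ext (by simpa using hi)⟩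
    set E : Subgroup G := Subgroup.zpowers z' ⊔ Subgroup.zpowers x'
    have hEc : IsMulCommutative ↥E := Agent.PGroup.isMulCommutative_sup_zpowers inferInstance (by
      rw [Subgroup.mem_centralizer_iff]
      rintro _ ⟨i, rfl⟩
      exact (hcomm.zpow_left i).eq)
    have hmulc : ∀ a ∈ E, ∀ b ∈ E, a * b = b * a := fun a ha b hb =>
      Agent.PGroup.mul_comm_of_isMulCommutative hEc ha hb
    have hexp : ∀ e ∈ E, e ^ p = 1 := by
      intro e he
      let Ep : Subgroup G :=
        { carrier := {e | e ∈ E ∧ e ^ p = 1}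
          one_mem' := ⟨one_mem _, one_pow p⟩
          mul_mem' := fun {a b} ha hb => ⟨mul_mem ha.1 hb.1, by
            rw [(show Commute a b from hmulc a ha.1 b hb.1).mul_pow, ha.2, hb.2, one_mul]⟩
          inv_mem' := fun {a} ha => ⟨inv_mem ha.1, by rw [inv_pow, ha.2, inv_one]⟩ }
      have hle : E ≤ Ep := sup_le
        (Subgroup.zpowers_le.mpr ⟨Subgroup.mem_sup_left (Subgroup.mem_zpowers z'), by
          rw [show p = orderOf z' by rw [← hz, ← Subgroup.orderOf_coe], pow_orderOf_eq_one]⟩)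
        (Subgroup.zpowers_le.mpr ⟨Subgroup.mem_sup_right (Subgroup.mem_zpowers x'), by
          rw [show p = orderOf x' by rw [← hxo, ← Subgroup.orderOf_coe], pow_orderOf_eq_one]⟩)
      exact (hle he).2
    have hEle : E ≤ (P : Subgroup G) :=
      sup_le (Subgroup.zpowers_le.mpr (z : ↥(P : Subgroup G)).2) (Subgroup.zpowers_le.mpr x.2)
    obtain ⟨m, hm⟩ := (P.2.to_le hEle).exists_card_eq
    have hm2 : 2 ≤ m := by
      have hlt : Subgroup.zpowers z' < E :=
        lt_of_le_of_ne le_sup_left fun h => hxz' (h ▸ Subgroup.mem_sup_right (Subgroup.mem_zpowers x'))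
      have h1 : Nat.card ↥(Subgroup.zpowers z') < Nat.card ↥E := by
        refine lt_of_le_of_ne (Subgroup.card_le_of_le hlt.le) fun h => ?_
        exact hlt.ne (Subgroup.eq_of_le_of_card_ge hlt.le h.ge)
      rw [Nat.card_zpowers, show orderOf z' = p by rw [← hz, ← Subgroup.orderOf_coe], hm] at h1
      nth_rw 1 [← pow_one p] at h1
      exact (Nat.pow_lt_pow_iff_right hp.out.one_lt).mp h1
    intro y hy
    obtain ⟨j, hj⟩ := IsPGroup.iff_orderOf.mp P.2 ⟨y, hy⟩
    rw [Subgroup.orderOf_mk] at hj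
    rcases le_or_gt j 1 with hj1 | hj1
    · refine orderOf_dvd_iff_pow_eq_one.mp ?_
      rw [hj]
      exact (pow_dvd_pow p hj1).trans (by rw [pow_one])
    exfalso
    obtain ⟨C, hC⟩ := Sylow.exists_subgroup_card_pow_prime (G := ↥E) p (hm ▸ pow_dvd_pow p hm2)
    have := hEc
    obtain ⟨g, hg⟩ := hB (C.map E.subtype) (Subgroup.zpowers (y ^ p ^ (j - 2)))
      (Subgroup.map_isMulCommutative C _) inferInstance (by
        rw [Subgroup.card_map_of_injective E.subtype_injective, hC, Nat.card_zpowers,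
          orderOf_pow' _ (pow_ne_zero _ hp.out.ne_zero), hj, Nat.gcd_eq_right (pow_dvd_pow p (Nat.sub_le j 2)),
          Nat.pow_div (Nat.sub_le j 2) hp.out.pos, show j - (j - 2) = 2 by omega])
    have hy1 : y ^ p ^ (j - 2) ∈ Subgroup.zpowers (y ^ p ^ (j - 2)) := Subgroup.mem_zpowers _
    rw [hg] at hy1
    obtain ⟨_, ⟨c, -, rfl⟩, hc⟩ := hy1
    have h1 : (y ^ p ^ (j - 2)) ^ p = 1 := by
      rw [← hc, ← map_pow, Subgroup.subtype_apply, hexp _ c.2, map_one]
    rw [← pow_mul, ← pow_succ, ← orderOf_dvd_iff_pow_eq_one, hj,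
      Nat.pow_dvd_pow_iff_le_right hp.out.one_lt] at h1
    omega
  refine ⟨fun P => ?_, fun p _ hp P => ?_⟩
  · have : Fact (Nat.Prime 2) := ⟨Nat.prime_two⟩
    rcases key 2 P with (h | ⟨-, h⟩) | h
    · exact Or.inl h
    · exact Or.inr (Or.inr h)
    · refine Or.inr (Or.inl ⟨⟨⟨fun a b => Subtype.ext ?_⟩⟩, h⟩)
      have hh : ∀ c ∈ (P : Subgroup G), c⁻¹ = c := fun c hc =>
        inv_eq_of_mul_eq_one_right (by rw [← sq]; exact h c hc)
      show (a : G) * b = b * a
      rw [← hh _ (mul_mem a.2 b.2), mul_inv_rev, hh _ a.2, hh _ b.2]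
  · rcases key p P with (h | ⟨h, -⟩) | h
    · exact Or.inl h
    · exact absurd h hp
    · exact Or.inr h

end Cfsg.Agent.S3908
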