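import Cfsg.Statements.S3911
import Cfsg.Agent.S3908
import Cfsg.Agent.Lib.Solvable.Basic
import Cfsg.Agent.Lib.PGroup.Frattini
import Cfsg.Agent.Lib.CharInt.BrauerSuzuki
import Cfsg.Agent.Lib.Subnormal.Nilpotent
import Mathlib

set_option autoImplicit false
open Cfsg

namespace Cfsg.Agent.S3911

universe u

variable {G : Type u} [Group G] [Finite G]

/-- In a nilpotent group a commutative Sylow subgroup is central. -/
theorem sylow_le_center [Group.IsNilpotent G] {p : ℕ} [Fact p.Prime] (P : Sylow p G)
    (hP : ∀ a ∈ (P : Subgroup G), ∀ b ∈ (P : Subgroup G), a * b = b * a) :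
    (P : Subgroup G) ≤ Subgroup.center G := by
  intro z hz
  have hle : (⊤ : Subgroup G) ≤ Subgroup.centralizer {z} := by
    rw [← Agent.Subnormal.sylow_sup_centralizer P]
    refine sup_le (fun y hy => ?_) (fun y hy => ?_)
    · exact Subgroup.mem_centralizer_singleton_iff.mpr (hP y hy z hz)
    · exact Subgroup.mem_centralizer_singleton_iff.mpr (Subgroup.mem_centralizer_iff.mp hy z hz).symm
  exact Subgroup.mem_center_iff.mpr fun y =>
    Subgroup.mem_centralizer_singleton_iff.mp (hle (Subgroup.mem_top y))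

/-- A nilpotent group with commutative Sylow subgroups is commutative. -/
theorem comm_of_sylow [Group.IsNilpotent G]
    (h : ∀ (p : ℕ) [Fact p.Prime] (P : Sylow p G), ∀ a ∈ (P : Subgroup G), ∀ b ∈ (P : Subgroup G), a * b = b * a) :
    IsMulCommutative G := by
  have htop : Subgroup.center G = ⊤ := Agent.Components.eq_top_of_forall_sylow fun p hp _ => by
    have := Fact.mk hp
    exact ⟨default, sylow_le_center _ (h p _)⟩
  exact ⟨⟨fun a b => Subgroup.mem_center_iff.mp (htop ▸ Subgroup.mem_top b) a⟩⟩

open scoped Classical in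
/-- The `p`-part of the order of the lift of a subgroup of order `n`. -/
noncomputable def target (M : Subgroup G) (n p : ℕ) : ℕ :=
  if n.factorization p = 0 then 0 else n.factorization p + (Nat.card ↥M).factorization p

/-- Nilpotent subgroups of known order over abelian subgroups of a quotient. -/
theorem exists_lift (M : Subgroup G) [M.Normal]
    (hloc : ∀ (p : ℕ) [Fact p.Prime], p ∣ Nat.card ↥M → ∀ P : Sylow p G,
      ∀ R : Subgroup G, R ≤ P → R ≤ M ∨ M ⊓ (P : Subgroup G) ≤ R)
    (A : Subgroup (G ⧸ M)) (hA : IsMulCommutative ↥A) :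
    ∃ H : Subgroup G, H.map (QuotientGroup.mk' M) = A ∧ Group.IsNilpotent ↥H ∧
      ∀ p : ℕ, p.Prime → (Nat.card ↥H).factorization p = target M (Nat.card ↥A) p := by
  obtain ⟨H, hH⟩ := (Set.toFinite {H : Subgroup G | H.map (QuotientGroup.mk' M) = A}).exists_minimal
    ⟨A.comap (QuotientGroup.mk' M), Subgroup.map_comap_eq_self_of_surjective (QuotientGroup.mk'_surjective M) A⟩
  have hHA : H.map (QuotientGroup.mk' M) = A := hH.1
  let f : ↥H →* ↥A := ((QuotientGroup.mk' M).comp H.subtype).codRestrict A fun x =>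
    hHA ▸ Subgroup.mem_map_of_mem _ x.2
  have hf : Function.Surjective f := fun a => by
    have ha : (a : G ⧸ M) ∈ H.map (QuotientGroup.mk' M) := by rw [hHA]; exact a.2
    obtain ⟨x, hx, hxa⟩ := ha
    exact ⟨⟨x, hx⟩, Subtype.ext hxa⟩
  have hfk : ∀ x : ↥H, x ∈ f.ker ↔ (x : G) ∈ M := fun x => by
    rw [MonoidHom.mem_ker, ← QuotientGroup.eq_one_iff (N := M)]
    exact ⟨fun h => congrArg Subtype.val h, fun h => Subtype.ext h⟩
  -- the kernel lies in every maximal subgroup
  have hΦ : f.ker ≤ frattini ↥H := by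
    refine Agent.PGroup.le_frattini_of_forall_coatom fun K hK x hx => ?_
    by_contra hxK
    have hsup : K ⊔ f.ker = ⊤ := hK.2 _ (lt_of_le_of_ne le_sup_left fun h => hxK (h ▸ Subgroup.mem_sup_right hx))
    have hmap : (K.map H.subtype).map (QuotientGroup.mk' M) = A := by
      have h1 : K.map f = ⊤ := by
        rw [← Subgroup.map_top_of_surjective f hf, ← hsup, Subgroup.map_sup, (Subgroup.map_eq_bot_iff _).mpr le_rfl,
          sup_bot_eq]
      have h2 := congrArg (Subgroup.map A.subtype) h1
      rw [Subgroup.map_map, ← MonoidHom.range_eq_map, Subgroup.range_subtype] at h2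
      rw [Subgroup.map_map]
      exact h2
    have h3 : H ≤ K.map H.subtype := hH.2 hmap (Subgroup.map_subtype_le K)
    exact hK.1 ((Subgroup.eq_top_iff' K).mpr fun y => by
      obtain ⟨y', hy', he⟩ := h3 y.2
      rwa [Subtype.ext he] at hy')
  have hnil : Group.IsNilpotent ↥H := by
    have hAn : Group.IsNilpotent ↥A := by
      let _ : CommGroup ↥A := { (inferInstance : Group ↥A) with mul_comm := hA.is_comm.comm }
      infer_instance
    have h1 : Group.IsNilpotent ↥((⊤ : Subgroup ↥H).map (QuotientGroup.mk' (frattini ↥H))) := by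
      let g : ↥A →* ↥H ⧸ frattini ↥H := MonoidHom.liftOfSurjective f hf
        ⟨QuotientGroup.mk' _, by rw [QuotientGroup.ker_mk']; exact hΦ⟩
      rw [Subgroup.map_top_of_surjective _ (QuotientGroup.mk'_surjective _)]
      have hgsurj : Function.Surjective g := fun q => by
        obtain ⟨x, rfl⟩ := QuotientGroup.mk'_surjective _ q
        exact ⟨f x, MonoidHom.liftOfRightInverse_comp_apply _ _ _ _ x⟩
      have : Group.IsNilpotent (↥H ⧸ frattini ↥H) := Group.nilpotent_of_surjective g hgsurj
      exact Group.nilpotent_of_mulEquiv Subgroup.topEquiv.symm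
    have := Agent.Solvable.isNilpotent_of_frattini (⊤ : Subgroup ↥H) le_top h1
    exact Group.nilpotent_of_mulEquiv Subgroup.topEquiv
  refine ⟨H, hHA, hnil, fun p hp => ?_⟩
  have := Fact.mk hp
  let R : Sylow p ↥H := default
  have hcard : Nat.card ↥H = Nat.card ↥A * Nat.card ↥f.ker := by
    rw [Subgroup.card_eq_card_quotient_mul_card_subgroup f.ker,
      Nat.card_congr (QuotientGroup.quotientKerEquivOfSurjective f hf).toEquiv]
  have hkdvd : Nat.card ↥f.ker ∣ Nat.card ↥M :=
    Subgroup.card_dvd_of_injective ((H.subtype.comp f.ker.subtype).codRestrict M fun x => (hfk x).mp x.2)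
      fun a b h => Subtype.ext (Subtype.ext (congrArg (fun z : ↥M => (z : G)) h))
  have hRmap : IsPGroup p ↥((R : Subgroup ↥H).map H.subtype) := R.2.map _
  have hzero : (R : Subgroup ↥H) ≤ f.ker → (Nat.card ↥H).factorization p = 0 := by
    intro hle
    have hC : Subgroup.centralizer ((R : Subgroup ↥H) : Set ↥H) = ⊤ :=
      frattini_nongenerating (top_unique ((Agent.Subnormal.sylow_sup_centralizer R).ge.trans
        (sup_le (le_sup_of_le_right (hle.trans hΦ)) le_sup_left)))
    by_contra hne
    have hRc : (R : Subgroup ↥H) ≤ Subgroup.center ↥H := Subgroup.centralizer_eq_top_iff_subset.mp hC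
    have hRn : (R : Subgroup ↥H).Normal := ⟨fun a ha g => by
      rw [Subgroup.mem_center_iff.mp (hRc ha) g, mul_inv_cancel_right]; exact ha⟩
    have hcop : (Nat.card ↥(R : Subgroup ↥H)).Coprime (R : Subgroup ↥H).index := R.card_coprime_index
    obtain ⟨D, hD⟩ := Subgroup.exists_left_complement'_of_coprime hcop
    have hDtop : D = ⊤ := frattini_nongenerating (top_unique (hD.sup_eq_top.ge.trans
      (sup_le le_sup_left (le_sup_of_le_right (hle.trans hΦ)))))
    rw [hDtop, Subgroup.isComplement'_top_left] at hD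
    have h1 := R.card_eq_multiplicity
    rw [hD, Subgroup.card_bot] at h1
    exact (Nat.one_lt_pow hne hp.one_lt).ne h1
  unfold target
  split_ifs with hn
  · refine hzero fun x hx => ?_
    rw [MonoidHom.mem_ker]
    obtain ⟨k, hk⟩ := IsPGroup.iff_orderOf.mp R.2 ⟨x, hx⟩
    rw [Subgroup.orderOf_mk] at hk
    have h2 : orderOf (f x) ∣ p ^ k := hk ▸ orderOf_map_dvd f x
    obtain ⟨j, -, hj⟩ := (Nat.dvd_prime_pow hp).mp h2
    rcases Nat.eq_zero_or_pos j with rfl | hj0
    · exact orderOf_eq_one_iff.mp (by rw [hj, pow_zero])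
    · exfalso
      have h3 : p ∣ Nat.card ↥A := ((dvd_pow_self p hj0.ne').trans (hj ▸ orderOf_dvd_natCard (f x)))
      rcases (Nat.factorization_eq_zero_iff _ _).mp hn with h | h | h
      · exact h hp
      · exact h h3
      · exact Nat.card_pos.ne' h
  · rw [hcard, Nat.factorization_mul Nat.card_pos.ne' Nat.card_pos.ne', Finsupp.add_apply]
    congr 1
    by_cases hpM : p ∣ Nat.card ↥M
    · obtain ⟨P, hP⟩ := hRmap.exists_le_sylow
      rcases hloc p hpM P _ hP with h | h
      · exfalso
        have h0 := hzero fun x hx => (hfk x).mpr (h (Subgroup.mem_map_of_mem _ hx))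
        rw [hcard, Nat.factorization_mul Nat.card_pos.ne' Nat.card_pos.ne', Finsupp.add_apply] at h0
        omega
      · refine le_antisymm ((Nat.factorization_le_iff_dvd Nat.card_pos.ne' Nat.card_pos.ne').mpr hkdvd p) ?_
        have hMP : Nat.card ↥(M ⊓ (P : Subgroup G)) = p ^ (Nat.card ↥M).factorization p := by
          obtain ⟨k, hk⟩ := (P.2.to_le (inf_le_right : M ⊓ (P : Subgroup G) ≤ P)).exists_card_eq
          have hnd : ¬ p ∣ (M ⊓ (P : Subgroup G)).relIndex M := by
            intro hd
            refine P.not_dvd_index (hd.trans ?_)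
            have e1 : Nat.card ↥(M ⊔ (P : Subgroup G)) = Nat.card ↥M * M.relIndex (P : Subgroup G) := by
              rw [← Subgroup.relIndex_sup_left (H := (P : Subgroup G)) (K := M), Subgroup.relIndex,
                ← Nat.card_congr (Subgroup.subgroupOfEquivOfLe (le_sup_left : M ≤ M ⊔ (P : Subgroup G))).toEquiv,
                Subgroup.card_mul_index]
            have e2 : Nat.card ↥(P : Subgroup G) = Nat.card ↥(M ⊓ (P : Subgroup G)) * M.relIndex (P : Subgroup G) := by
              rw [← Subgroup.inf_relIndex_right, Subgroup.relIndex,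
                ← Nat.card_congr (Subgroup.subgroupOfEquivOfLe (inf_le_right : M ⊓ (P : Subgroup G) ≤ P)).toEquiv,
                Subgroup.card_mul_index]
            have e3 : Nat.card ↥M = Nat.card ↥(M ⊓ (P : Subgroup G)) * (M ⊓ (P : Subgroup G)).relIndex M := by
              rw [Subgroup.relIndex,
                ← Nat.card_congr (Subgroup.subgroupOfEquivOfLe (inf_le_left : M ⊓ (P : Subgroup G) ≤ M)).toEquiv,
                Subgroup.card_mul_index]
            have e4 : Nat.card ↥(M ⊔ (P : Subgroup G)) =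
                (M ⊓ (P : Subgroup G)).relIndex M * Nat.card ↥(P : Subgroup G) := by
              rw [e1, e2, e3]; ring
            have e5 := Subgroup.card_subgroup_dvd_card (M ⊔ (P : Subgroup G))
            rw [e4, ← Subgroup.index_mul_card (P : Subgroup G)] at e5
            exact Nat.dvd_of_mul_dvd_mul_right Nat.card_pos e5
          have h1 := Subgroup.card_mul_index ((M ⊓ (P : Subgroup G)).subgroupOf M)
          rw [Nat.card_congr (Subgroup.subgroupOfEquivOfLe inf_le_left).toEquiv, hk] at h1
          rw [hk, ← h1, Nat.factorization_mul (pow_ne_zero _ hp.ne_zero) Subgroup.FiniteIndex.index_ne_zero,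
            Finsupp.add_apply, Nat.Prime.factorization_pow hp, Finsupp.single_eq_same,
            show ((M ⊓ (P : Subgroup G)).subgroupOf M).index.factorization p = 0 from
              Nat.factorization_eq_zero_of_not_dvd hnd, add_zero]
        have hdvd : p ^ (Nat.card ↥M).factorization p ∣ Nat.card ↥f.ker := by
          rw [← hMP]
          have hle : M ⊓ (P : Subgroup G) ≤ H := h.trans (Subgroup.map_subtype_le _)
          exact Subgroup.card_dvd_of_injective
            ((Subgroup.inclusion hle).codRestrict f.ker fun x => (hfk _).mpr x.2.1)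
            fun a b hab => Subtype.ext (congrArg (fun z : ↥f.ker => ((z : ↥H) : G)) hab)
        exact (hp.pow_dvd_iff_le_factorization Nat.card_pos.ne').mp hdvd
    · rw [Nat.factorization_eq_zero_of_not_dvd hpM, Nat.factorization_eq_zero_of_not_dvd]
      exact fun h => hpM (h.trans hkdvd)

omit [Finite G] in
/-- Conjugate lifts give conjugate subgroups. -/
theorem exists_conj_map (M : Subgroup G) [M.Normal] {H K : Subgroup G} {g : G}
    (h : K = H.map (MulAut.conj g).toMonoidHom) :
    K.map (QuotientGroup.mk' M) =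
      (H.map (QuotientGroup.mk' M)).map (MulAut.conj (QuotientGroup.mk' M g)).toMonoidHom := by
  rw [h, Subgroup.map_map, Subgroup.map_map]
  rfl

/-- Commutativity of lifts over quotients with cyclic or contained Sylow subgroups. -/
theorem isMulCommutative_lift (M : Subgroup G) [M.Normal] {A : Subgroup (G ⧸ M)} (hA : IsMulCommutative ↥A)
    {H : Subgroup G} (hHA : H.map (QuotientGroup.mk' M) = A) {p : ℕ} [Fact p.Prime] (R : Sylow p ↥H)
    (hfac : (Nat.card ↥H).factorization p = target M (Nat.card ↥A) p)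
    (hS : p ∣ Nat.card ↥M → ∀ P : Sylow p G, IsCyclic ↥(P : Subgroup G) ∨ (P : Subgroup G) ≤ M) :
    ∀ a ∈ (R : Subgroup ↥H), ∀ b ∈ (R : Subgroup ↥H), a * b = b * a := by
  intro a ha b hb
  have hp : p.Prime := Fact.out
  by_cases hpM : p ∣ Nat.card ↥M
  · obtain ⟨P, hP⟩ := (R.2.map H.subtype).exists_le_sylow
    rcases hS hpM P with hc | hle
    · have := hc.isMulCommutative.is_comm.comm
        (⟨_, hP (Subgroup.mem_map_of_mem _ ha)⟩ : ↥(P : Subgroup G)) ⟨_, hP (Subgroup.mem_map_of_mem _ hb)⟩
      exact Subtype.ext (congrArg (fun z : ↥(P : Subgroup G) => (z : G)) this)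
    · have hnA : ¬ p ∣ Nat.card ↥A := fun h => P.not_dvd_index
        ((h.trans ((Subgroup.card_subgroup_dvd_card A).trans (Subgroup.index_eq_card M).symm.dvd)).trans
          (Subgroup.index_dvd_of_le hle))
      have h1 := R.card_eq_multiplicity
      rw [hfac, target, if_pos (Nat.factorization_eq_zero_of_not_dvd hnA), pow_zero, Subgroup.card_eq_one] at h1
      rw [h1, Subgroup.mem_bot] at ha
      rw [ha, one_mul, mul_one]
  · refine commutatorElement_eq_one_iff_mul_comm.mp ?_
    open scoped commutatorElement in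
    have hmem : (⁅a, b⁆ : ↥H).1 ∈ M := by
      refine (QuotientGroup.eq_one_iff _).mp ?_
      show QuotientGroup.mk' M (⁅(a : G), (b : G)⁆) = 1
      rw [map_commutatorElement, commutatorElement_eq_one_iff_mul_comm]
      exact congrArg Subtype.val (hA.is_comm.comm
        (⟨_, hHA ▸ Subgroup.mem_map_of_mem _ a.2⟩ : ↥A) ⟨_, hHA ▸ Subgroup.mem_map_of_mem _ b.2⟩)
    open scoped commutatorElement in
    have hR : ⁅a, b⁆ ∈ (R : Subgroup ↥H) :=
      mul_mem (mul_mem (mul_mem ha hb) (inv_mem ha)) (inv_mem hb)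
    open scoped commutatorElement in
    obtain ⟨k, hk⟩ := IsPGroup.iff_orderOf.mp R.2 ⟨⁅a, b⁆, hR⟩
    rw [Subgroup.orderOf_mk, ← Subgroup.orderOf_coe] at hk
    have h2 := Subgroup.orderOf_dvd_natCard M hmem
    rw [hk] at h2
    rcases k with _ | k
    · rw [pow_zero, orderOf_eq_one_iff] at hk
      exact Subtype.ext hk
    · exact absurd ((dvd_pow_self p k.succ_ne_zero).trans h2) hpM

theorem card_eq_of_target {M : Subgroup G} {n : ℕ} {H K : Subgroup G}
    (hH : ∀ p : ℕ, p.Prime → (Nat.card ↥H).factorization p = target M n p)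
    (hK : ∀ p : ℕ, p.Prime → (Nat.card ↥K).factorization p = target M n p) : Nat.card ↥H = Nat.card ↥K := by
  refine Nat.eq_of_factorization_eq Nat.card_pos.ne' Nat.card_pos.ne' fun p => ?_
  by_cases hp : p.Prime
  · rw [hH p hp, hK p hp]
  · rw [Nat.factorization_eq_zero_of_not_prime _ hp, Nat.factorization_eq_zero_of_not_prime _ hp]


/-- Let G be a finite group in which any two abelian subgroups of the same order are conjugate. If M is a normal subgroup of G of odd order, then any two abelian subgroups of G/M of the same order are conjugate in G/M. -/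
theorem result {G : Type*} [Group G] [Finite G] (hB : ∀ A B : Subgroup G, IsMulCommutative ↥A → IsMulCommutative ↥B → Nat.card ↥A = Nat.card ↥B → ∃ g : G, B = A.map (MulAut.conj g).toMonoidHom) (M : Subgroup G) [M.Normal] (hM : Odd (Nat.card ↥M)) :
    ∀ A B : Subgroup (G ⧸ M), IsMulCommutative ↥A → IsMulCommutative ↥B → Nat.card ↥A = Nat.card ↥B →
      ∃ g : G ⧸ M, B = A.map (MulAut.conj g).toMonoidHom := by
  intro A B hA hB' hcard
  have hS : ∀ (p : ℕ) [Fact p.Prime], p ∣ Nat.card ↥M → ∀ P : Sylow p G,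
      IsCyclic ↥(P : Subgroup G) ∨ (P : Subgroup G) ≤ M := by
    intro p hp hpM P
    have hp2 : p ≠ 2 := fun h => (Nat.not_even_iff_odd.mpr hM) (even_iff_two_dvd.mpr (h ▸ hpM))
    rcases (S3908.result hB).2 p hp2 P with hc | hexp
    · exact Or.inl hc
    refine Or.inr fun x hx => ?_
    by_cases hx1 : x = 1
    · exact hx1 ▸ one_mem M
    obtain ⟨y, hy⟩ := exists_prime_orderOf_dvd_card' p hpM
    rw [← Subgroup.orderOf_coe] at hy
    obtain ⟨g, hg⟩ := hB (Subgroup.zpowers (y : G)) (Subgroup.zpowers x) inferInstance inferInstance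
      (by rw [Nat.card_zpowers, Nat.card_zpowers, hy, orderOf_eq_prime (hexp x hx) hx1])
    have hxm : x ∈ Subgroup.zpowers x := Subgroup.mem_zpowers x
    rw [hg] at hxm
    obtain ⟨z, hz, rfl⟩ := hxm
    exact (inferInstance : M.Normal).conj_mem z (Subgroup.zpowers_le.mpr y.2 hz) g
  have hloc : ∀ (p : ℕ) [Fact p.Prime], p ∣ Nat.card ↥M → ∀ P : Sylow p G,
      ∀ R : Subgroup G, R ≤ P → R ≤ M ∨ M ⊓ (P : Subgroup G) ≤ R := by
    intro p hp hpM P R hR
    rcases hS p hpM P with hc | hle
    · obtain ⟨i, hi⟩ := (P.2.to_le hR).exists_card_eq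
      obtain ⟨j, hj⟩ := (P.2.to_le (inf_le_right : M ⊓ (P : Subgroup G) ≤ P)).exists_card_eq
      obtain ⟨c, hc⟩ := (Subgroup.isCyclic_iff_exists_zpowers_eq_top (P : Subgroup G)).mp hc
      have key : ∀ X Y : Subgroup G, X ≤ P → Y ≤ P → Nat.card ↥X ∣ Nat.card ↥Y → X ≤ Y := by
        intro X Y hX hY hd
        have hcP : IsCyclic ↥(P : Subgroup G) :=
          (Subgroup.isCyclic_iff_exists_zpowers_eq_top (P : Subgroup G)).mpr ⟨c, hc⟩
        have hYc : IsCyclic ↥Y := Subgroup.isCyclic_of_le hY
        obtain ⟨Z, hZ, hZc⟩ : ∃ Z : Subgroup ↥Y, True ∧ Nat.card Z = Nat.card ↥X := by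
          obtain ⟨y, hy⟩ := hYc.exists_generator
          obtain ⟨t, ht⟩ := hd
          refine ⟨Subgroup.zpowers (y ^ t), trivial, ?_⟩
          have ht0 : t ≠ 0 := fun h0 => by rw [h0, mul_zero] at ht; exact Nat.card_pos.ne' ht
          rw [Nat.card_zpowers, orderOf_pow' _ ht0, orderOf_eq_card_of_forall_mem_zpowers hy, ht,
            Nat.gcd_eq_right (dvd_mul_left t _), Nat.mul_div_cancel _ (Nat.pos_of_ne_zero ht0)]
        have huniq : ((Z.map Y.subtype).subgroupOf (P : Subgroup G)) = X.subgroupOf (P : Subgroup G) := by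
          have := hcP
          refine Agent.CharInt.eq_of_card_eq_of_isCyclic ?_
          rw [Nat.card_congr (Subgroup.subgroupOfEquivOfLe ((Subgroup.map_subtype_le _).trans hY)).toEquiv,
            Nat.card_congr (Subgroup.subgroupOfEquivOfLe hX).toEquiv,
            Subgroup.card_map_of_injective Y.subtype_injective, hZc]
        intro x hx
        have h2 : (⟨x, hX hx⟩ : ↥(P : Subgroup G)) ∈ (Z.map Y.subtype).subgroupOf (P : Subgroup G) :=
          huniq ▸ hx
        exact Subgroup.map_subtype_le Z h2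
      rcases le_total i j with hij | hij
      · exact Or.inl ((key R (M ⊓ (P : Subgroup G)) hR inf_le_right (by rw [hi, hj]; exact pow_dvd_pow p hij)).trans
          inf_le_left)
      · exact Or.inr (key _ R inf_le_right hR (by rw [hi, hj]; exact pow_dvd_pow p hij))
    · exact Or.inl (hR.trans hle)
  obtain ⟨H, hHA, hHn, hH⟩ := exists_lift M hloc A hA
  obtain ⟨K, hKB, hKn, hK⟩ := exists_lift M hloc B hB'
  have hHc : IsMulCommutative ↥H := by
    have := hHn
    exact comm_of_sylow fun p hp R => isMulCommutative_lift M hA hHA R (hH p hp.out) (fun h => hS p h)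
  have hKc : IsMulCommutative ↥K := by
    have := hKn
    exact comm_of_sylow fun p hp R => isMulCommutative_lift M hB' hKB R (hK p hp.out) (fun h => hS p h)
  rw [← hcard] at hK
  obtain ⟨g, hg⟩ := hB H K hHc hKc (card_eq_of_target hH hK)
  refine ⟨QuotientGroup.mk' M g, ?_⟩
  rw [← hKB, ← hHA]
  exact exists_conj_map M hg

end Cfsg.Agent.S3911
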