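import Cfsg.Statements.S3912
import Cfsg.Agent.S3911
import Cfsg.Agent.Lib.PCore.HallHigman
import Mathlib

set_option autoImplicit false
open Cfsg

namespace Cfsg.Agent.S3912

universe u

variable {G : Type u} [Group G] [Finite G]

theorem mem_zpowers_a {n : ℕ} (m : ZMod (2 * n)) {w : QuaternionGroup n}
    (hw : w ∈ Subgroup.zpowers (QuaternionGroup.a m)) : ∃ i, w = QuaternionGroup.a i := by
  let A : Subgroup (QuaternionGroup n) :=
    { carrier := {w | ∃ i, w = QuaternionGroup.a i}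
      one_mem' := ⟨0, rfl⟩
      mul_mem' := by rintro _ _ ⟨i, rfl⟩ ⟨j, rfl⟩; exact ⟨i + j, QuaternionGroup.a_mul_a i j⟩
      inv_mem' := by rintro _ ⟨i, rfl⟩; exact ⟨-i, rfl⟩ }
  exact (Subgroup.zpowers_le.mpr (show QuaternionGroup.a m ∈ A from ⟨m, rfl⟩)) hw

/-- Subgroups of a cyclic Sylow subgroup are comparable. -/
theorem cyclic_le_or_le {p : ℕ} [Fact p.Prime] (M : Subgroup G) (P : Sylow p G)
    (hc : IsCyclic ↥(P : Subgroup G)) (R : Subgroup G) (hR : R ≤ P) :
    R ≤ M ∨ M ⊓ (P : Subgroup G) ≤ R := by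
  obtain ⟨i, hi⟩ := (P.2.to_le hR).exists_card_eq
  obtain ⟨j, hj⟩ := (P.2.to_le (inf_le_right : M ⊓ (P : Subgroup G) ≤ P)).exists_card_eq
  have key : ∀ X Y : Subgroup G, X ≤ P → Y ≤ P → Nat.card ↥X ∣ Nat.card ↥Y → X ≤ Y := by
    intro X Y hX hY hd
    obtain ⟨t, ht⟩ := hd
    have ht0 : t ≠ 0 := fun h0 => by rw [h0, mul_zero] at ht; exact Nat.card_pos.ne' ht
    have hYc : IsCyclic ↥Y := Subgroup.isCyclic_of_le hY
    obtain ⟨y, hy⟩ := hYc.exists_generator
    have hyP : (y : G) ^ t ∈ (P : Subgroup G) := pow_mem (hY y.2) t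
    have heq : Subgroup.zpowers (⟨(y : G) ^ t, hyP⟩ : ↥(P : Subgroup G)) = X.subgroupOf (P : Subgroup G) := by
      refine Agent.CharInt.eq_of_card_eq_of_isCyclic ?_
      rw [Nat.card_zpowers, Subgroup.orderOf_mk, orderOf_pow' _ ht0, Subgroup.orderOf_coe,
        orderOf_eq_card_of_forall_mem_zpowers hy, Nat.card_congr (Subgroup.subgroupOfEquivOfLe hX).toEquiv, ht,
        Nat.gcd_eq_right (dvd_mul_left t _), Nat.mul_div_cancel _ (Nat.pos_of_ne_zero ht0)]
    intro x hx
    have h2 : (⟨x, hX hx⟩ : ↥(P : Subgroup G)) ∈ X.subgroupOf (P : Subgroup G) := hx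
    rw [← heq] at h2
    obtain ⟨n, hn⟩ := h2
    have hxn : ((y : G) ^ t) ^ n = x := congrArg Subtype.val hn
    rw [← hxn]
    exact zpow_mem (pow_mem y.2 t) n
  rcases le_total i j with hij | hij
  · exact Or.inl ((key R (M ⊓ (P : Subgroup G)) hR inf_le_right (by rw [hi, hj]; exact pow_dvd_pow p hij)).trans
      inf_le_left)
  · exact Or.inr (key _ R inf_le_right hR (by rw [hi, hj]; exact pow_dvd_pow p hij))

/-- The elements of order four generate a quaternion group. -/
theorem mem_of_orderOf_four {k : ℕ} (A : Subgroup (QuaternionGroup (2 ^ k)))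
    (hA : ∀ w, orderOf w = 4 → w ∈ A) (w : QuaternionGroup (2 ^ k)) : w ∈ A := by
  have : NeZero (2 ^ k) := ⟨by positivity⟩
  have hxa : ∀ i, QuaternionGroup.xa i ∈ A := fun i => hA _ (QuaternionGroup.orderOf_xa i)
  cases w with
  | a i =>
    have h := mul_mem (hxa 0) (hxa (i - ((2 ^ k : ℕ) : ZMod (2 * 2 ^ k))))
    rw [QuaternionGroup.xa_mul_xa] at h
    convert h using 2
    abel
  | xa i => exact hxa i

/-- Elements of square one in a quaternion group are central. -/
theorem comm_of_sq_eq_one {k : ℕ} {w : QuaternionGroup (2 ^ k)} (hw : w ^ 2 = 1)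
    (v : QuaternionGroup (2 ^ k)) : w * v = v * w := by
  have : NeZero (2 ^ k) := ⟨by positivity⟩
  cases w with
  | xa i =>
    have := orderOf_dvd_iff_pow_eq_one.mpr hw
    rw [QuaternionGroup.orderOf_xa] at this
    norm_num at this
  | a i =>
    rw [sq, QuaternionGroup.a_mul_a, QuaternionGroup.one_def, QuaternionGroup.a.injEq] at hw
    cases v with
    | a j => rw [QuaternionGroup.a_mul_a, QuaternionGroup.a_mul_a, add_comm]
    | xa j =>
      rw [QuaternionGroup.a_mul_xa, QuaternionGroup.xa_mul_a, QuaternionGroup.xa.injEq, sub_eq_add_neg,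
        neg_eq_of_add_eq_zero_left hw]

/-- In a solvable group all of whose cyclic subgroups of order four are conjugate, a quaternion Sylow
subgroup has order at most eight. -/
theorem quat_small [Group.IsSolvable G] (P : Sylow 2 G) {k : ℕ}
    (e : ↥(P : Subgroup G) ≃* QuaternionGroup (2 ^ k))
    (h4 : ∀ x y : G, orderOf x = 4 → orderOf y = 4 → ∃ g : G, y ∈ Subgroup.zpowers (g * x * g⁻¹)) : k ≤ 1 := by
  have h2 : Fact (Nat.Prime 2) := ⟨Nat.prime_two⟩
  by_contra hk
  push Not at hk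
  have : NeZero (2 ^ k) := ⟨by positivity⟩
  set π := QuotientGroup.mk' (pPrimeCore 2 G) with hπdef
  let F : Subgroup (G ⧸ pPrimeCore 2 G) := pCore 2 (G ⧸ pPrimeCore 2 G)
  let ρ : QuaternionGroup (2 ^ k) →* G ⧸ pPrimeCore 2 G :=
    (π.comp (P : Subgroup G).subtype).comp e.symm.toMonoidHom
  have hπ : Function.Surjective π := QuotientGroup.mk'_surjective _
  let P' : Sylow 2 (G ⧸ pPrimeCore 2 G) := P.mapSurjective hπ
  have hP' : (P' : Subgroup (G ⧸ pPrimeCore 2 G)) = ρ.range := by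
    show (P : Subgroup G).map π = _
    ext y
    constructor
    · rintro ⟨x, hx, rfl⟩
      exact ⟨e ⟨x, hx⟩, congrArg π (congrArg Subtype.val (e.symm_apply_apply ⟨x, hx⟩))⟩
    · rintro ⟨w, rfl⟩
      exact ⟨_, (e.symm w).2, rfl⟩
  have hρ : Function.Injective ρ := by
    rw [injective_iff_map_eq_one]
    intro w hw
    have hmem : ((e.symm w : ↥(P : Subgroup G)) : G) ∈ pPrimeCore 2 G := (QuotientGroup.eq_one_iff _).mp hw
    have hd := Nat.dvd_gcd (Subgroup.orderOf_dvd_natCard _ hmem) (Subgroup.orderOf_dvd_natCard _ (e.symm w).2)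
    rw [Nat.Coprime.gcd_eq_one (by
      obtain ⟨n, hn⟩ := P.2.exists_card_eq
      rw [hn]
      exact Nat.Coprime.pow_right _ Agent.PCore.coprime_card_pPrimeCore), Nat.dvd_one,
      Subgroup.orderOf_coe, MulEquiv.orderOf_eq, orderOf_eq_one_iff] at hd
    exact hd
  -- conjugacy in the quotient
  have h4' : ∀ v w : QuaternionGroup (2 ^ k), orderOf v = 4 → orderOf w = 4 →
      ∃ g, ρ w ∈ Subgroup.zpowers (g * ρ v * g⁻¹) := by
    intro v w hv hw
    obtain ⟨g, i, hi⟩ := h4 (e.symm v : ↥(P : Subgroup G)) (e.symm w : ↥(P : Subgroup G))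
      (by rw [Subgroup.orderOf_coe, MulEquiv.orderOf_eq, hv]) (by rw [Subgroup.orderOf_coe, MulEquiv.orderOf_eq, hw])
    refine ⟨π g, i, ?_⟩
    show (π g * π _ * (π g)⁻¹) ^ i = π _
    rw [← map_inv, ← map_mul, ← map_mul, ← map_zpow]
    exact congrArg π hi
  have hFle : F ≤ P' := Agent.PCore.pCore_le_sylow P'
  have hcent : Subgroup.centralizer (F : Set (G ⧸ pPrimeCore 2 G)) ≤ F :=
    Agent.PCore.centralizer_pCore_le_of_isSolvable Agent.PCore.pPrimeCore_quotient_self_eq_bot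
  -- the core contains an element of order four
  obtain ⟨v, hvo, hvF⟩ : ∃ v, orderOf v = 4 ∧ ρ v ∈ F := by
    by_contra hall
    push Not at hall
    have hsq : ∀ w, ρ w ∈ F → w ^ 2 = 1 := by
      intro w hw
      obtain ⟨j, hj⟩ := (IsPGroup.iff_orderOf.mp (P.2.of_equiv e)) w
      rcases le_or_gt j 1 with hj1 | hj1
      · exact orderOf_dvd_iff_pow_eq_one.mp (hj ▸ (pow_dvd_pow 2 hj1).trans (by norm_num))
      · exfalso
        refine hall (w ^ 2 ^ (j - 2)) ?_ (map_pow ρ w _ ▸ pow_mem hw _)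
        rw [orderOf_pow' _ (pow_ne_zero _ two_ne_zero), hj, Nat.gcd_eq_right (pow_dvd_pow 2 (Nat.sub_le j 2)),
          Nat.pow_div (Nat.sub_le j 2) two_pos, show j - (j - 2) = 2 by omega]
        norm_num
    refine hall (QuaternionGroup.xa 0) (QuaternionGroup.orderOf_xa 0) (hcent ?_)
    rw [Subgroup.mem_centralizer_iff]
    intro f hf
    have hf' := hFle hf
    rw [hP'] at hf'
    obtain ⟨w, rfl⟩ := hf'
    rw [← map_mul, ← map_mul, comm_of_sq_eq_one (hsq w hf)]
  have hFn : F.Normal := inferInstanceAs (pCore 2 (G ⧸ pPrimeCore 2 G)).Normal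
  -- so the core is the Sylow subgroup
  have hall : ∀ w, ρ w ∈ F := fun w => mem_of_orderOf_four (F.comap ρ) (fun u hu => by
    obtain ⟨g, hg⟩ := h4' v u hvo hu
    exact Subgroup.zpowers_le.mpr (hFn.conj_mem _ hvF g) hg) w
  have hrange : ∀ y, y ∈ F → ∃ w, ρ w = y := fun y hy => by
    have := hFle hy
    rw [hP'] at this
    exact this
  -- the cyclic subgroup of order four inside the maximal one is characteristic
  set m : ZMod (2 * 2 ^ k) := ((2 ^ (k - 1) : ℕ) : ZMod (2 * 2 ^ k))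
  have hmo : orderOf (QuaternionGroup.a m) = 4 := by
    rw [← QuaternionGroup.a_one_pow, orderOf_pow' _ (pow_ne_zero _ two_ne_zero), QuaternionGroup.orderOf_a_one,
      Nat.gcd_eq_right (dvd_mul_of_dvd_right (pow_dvd_pow 2 (Nat.sub_le k 1)) 2)]
    refine Nat.div_eq_of_eq_mul_left (by positivity) ?_
    obtain ⟨l, rfl⟩ : ∃ l, k = l + 1 := ⟨k - 1, by omega⟩
    rw [Nat.add_sub_cancel, pow_succ']
    ring
  obtain ⟨g, hg⟩ := h4' _ (QuaternionGroup.xa 0) hmo (QuaternionGroup.orderOf_xa 0)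
  obtain ⟨u, hu⟩ := hrange (g * ρ (QuaternionGroup.a 1) * g⁻¹) (hFn.conj_mem _ (hall _) g)
  have huo : orderOf u = 2 * 2 ^ k := by
    rw [← orderOf_injective ρ hρ, hu, Agent.CharInt.orderOf_conj', orderOf_injective ρ hρ,
      QuaternionGroup.orderOf_a_one]
  cases u with
  | xa j =>
    rw [QuaternionGroup.orderOf_xa] at huo
    have : 2 ^ 2 ≤ 2 ^ k := Nat.pow_le_pow_right two_pos hk
    omega
  | a j =>
    have h1 : g * ρ (QuaternionGroup.a m) * g⁻¹ = ρ (QuaternionGroup.a j ^ 2 ^ (k - 1)) := by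
      rw [map_pow, hu, conj_pow, ← map_pow, QuaternionGroup.a_one_pow]
    rw [h1] at hg
    obtain ⟨i, hi⟩ := hg
    beta_reduce at hi
    rw [← map_zpow] at hi
    have h2 := hρ hi
    have hmem : (QuaternionGroup.xa 0 : QuaternionGroup (2 ^ k)) ∈ Subgroup.zpowers (QuaternionGroup.a j) :=
      h2 ▸ zpow_mem (pow_mem (Subgroup.mem_zpowers _) _) i
    obtain ⟨i', hi'⟩ := mem_zpowers_a j hmem
    cases hi'

theorem q8_facts : (∀ w : QuaternionGroup 2, w ^ 4 = 1) ∧
    (∀ w : QuaternionGroup 2, w ^ 2 = 1 → w = 1 ∨ ∃ v : QuaternionGroup 2, v ^ 2 = w ∧ v ^ 2 ≠ 1) ∧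
    (∀ w w' : QuaternionGroup 2, w ^ 2 = 1 → w ≠ 1 → w' ^ 2 = 1 → w' ≠ 1 → w = w') := by decide

/-- A Sylow subgroup in `M` in the presence of an element of order four. -/
theorem q8_le_or (M : Subgroup G) [M.Normal] (P : Sylow 2 G) (e : ↥(P : Subgroup G) ≃* QuaternionGroup 2)
    (h4 : ∀ x y : G, orderOf x = 4 → orderOf y = 4 → ∃ g : G, y ∈ Subgroup.zpowers (g * x * g⁻¹)) :
    (P : Subgroup G) ≤ M ∨ ∀ R : Subgroup G, R ≤ P → R ≠ ⊥ → M ⊓ (P : Subgroup G) ≤ R := by
  obtain ⟨hexp, hroot, huniq⟩ := q8_facts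
  have h2 : Fact (Nat.Prime 2) := ⟨Nat.prime_two⟩
  have ho4 : ∀ x : ↥(P : Subgroup G), x ^ 2 ≠ 1 → orderOf (x : G) = 4 := by
    intro x hx
    rw [Subgroup.orderOf_coe, show (4 : ℕ) = 2 ^ (1 + 1) by rfl]
    exact orderOf_eq_prime_pow (by simpa using hx) (e.injective (by rw [map_pow, map_one]; exact hexp _))
  by_cases hM : ∀ x : ↥(P : Subgroup G), (x : G) ∈ M → x ^ 2 = 1
  · refine Or.inr fun R hR hne u hu => ?_
    by_cases hu1 : u = 1
    · exact hu1 ▸ one_mem R
    obtain ⟨r, hr⟩ : ∃ r : ↥R, orderOf r = 2 := by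
      obtain ⟨n, hn⟩ := (P.2.to_le hR).exists_card_eq
      refine exists_prime_orderOf_dvd_card' 2 (hn ▸ dvd_pow_self 2 fun h0 => hne ?_)
      exact Subgroup.card_eq_one.mp (by rw [hn, h0, pow_zero])
    have hr2 : (⟨r, hR r.2⟩ : ↥(P : Subgroup G)) ^ 2 = 1 := Subtype.ext (by
      show (r : G) ^ 2 = 1
      rw [← orderOf_dvd_iff_pow_eq_one, Subgroup.orderOf_coe, hr])
    have hr1 : (⟨r, hR r.2⟩ : ↥(P : Subgroup G)) ≠ 1 := fun h => by
      have h' : orderOf (r : G) = 1 := orderOf_eq_one_iff.mpr (congrArg Subtype.val h)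
      rw [Subgroup.orderOf_coe, hr] at h'
      norm_num at h'
    have := huniq (e ⟨u, hu.2⟩) (e ⟨r, hR r.2⟩)
      (by rw [← map_pow, hM ⟨u, hu.2⟩ hu.1, map_one])
      (fun h => hu1 (congrArg Subtype.val ((EmbeddingLike.map_eq_one_iff (f := e)).mp h)))
      (by rw [← map_pow, hr2, map_one]) (fun h => hr1 ((EmbeddingLike.map_eq_one_iff (f := e)).mp h))
    have hur : u = r := congrArg Subtype.val (e.injective this)
    exact hur ▸ r.2
  · push Not at hM
    obtain ⟨x, hxM, hx⟩ := hM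
    have hfour : ∀ y : ↥(P : Subgroup G), y ^ 2 ≠ 1 → (y : G) ∈ M := fun y hy => by
      obtain ⟨g, hg⟩ := h4 x y (ho4 x hx) (ho4 y hy)
      exact Subgroup.zpowers_le.mpr ((inferInstance : M.Normal).conj_mem _ hxM g) hg
    refine Or.inl fun y hy => ?_
    by_cases hy2 : (⟨y, hy⟩ : ↥(P : Subgroup G)) ^ 2 = 1
    · rcases hroot (e ⟨y, hy⟩) (by rw [← map_pow, hy2, map_one]) with h | ⟨v, hv, hv1⟩
      · have hy1 : y = 1 := congrArg Subtype.val ((EmbeddingLike.map_eq_one_iff (f := e)).mp h)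
        exact hy1 ▸ one_mem M
      · have hvy : (e.symm v) ^ 2 = ⟨y, hy⟩ := by rw [← map_pow, hv, MulEquiv.symm_apply_apply]
        have h := hfour (e.symm v) (fun h => hv1 (e.symm.injective (by rw [map_pow, h, map_one])))
        have hyv : y = ((e.symm v : ↥(P : Subgroup G)) : G) ^ 2 := (congrArg Subtype.val hvy).symm
        exact hyv ▸ pow_mem h 2
    · exact hfour ⟨y, hy⟩ hy2

/-- The two parts of a nilpotent group with commutative Sylow subgroups for odd primes. -/
theorem exists_parts {H : Type u} [Group H] [Finite H] [Group.IsNilpotent H]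
    (hodd : ∀ (p : ℕ) [Fact p.Prime], p ≠ 2 → ∀ R : Sylow p H, ∀ a ∈ (R : Subgroup H),
      ∀ b ∈ (R : Subgroup H), a * b = b * a) (R : Sylow 2 H) :
    ∃ D : Subgroup H, D ≤ Subgroup.center H ∧ (R : Subgroup H) ⊔ D = ⊤ ∧
      Nat.card ↥D * Nat.card ↥(R : Subgroup H) = Nat.card H := by
  have h2 : Fact (Nat.Prime 2) := ⟨Nat.prime_two⟩
  have hRn : (R : Subgroup H).Normal := inferInstance
  obtain ⟨D, hD⟩ := Subgroup.exists_left_complement'_of_coprime R.card_coprime_index
  refine ⟨D, fun d hd => (QuotientGroup.eq_one_iff d).mp ?_, (sup_comm _ _).trans hD.sup_eq_top, hD.card_mul_card⟩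
  have hdodd : orderOf d ∣ (R : Subgroup H).index := by
    rw [hD.index_eq_card]
    exact Subgroup.orderOf_dvd_natCard D hd
  rw [← orderOf_eq_one_iff, ← Nat.dvd_one]
  have hgcd : ((R : Subgroup H).index).Coprime (Subgroup.center H).index := by
    refine Nat.coprime_of_dvd fun q hq hq1 hq2 => ?_
    have := Fact.mk hq
    have hq2' : q ≠ 2 := fun h => R.not_dvd_index (h ▸ hq1)
    exact (default : Sylow q H).not_dvd_index
      (hq2.trans (Subgroup.index_dvd_of_le (S3911.sylow_le_center _ (hodd q hq2' default))))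
  rw [← hgcd.gcd_eq_one, Subgroup.index_eq_card (Subgroup.center H)]
  exact Nat.dvd_gcd ((orderOf_map_dvd (QuotientGroup.mk' _) d).trans hdodd) (orderOf_dvd_natCard _)

/-- Conjugacy of nilpotent subgroups containing Sylow 2-subgroups. -/
theorem conj_of_full (hB : ∀ A B : Subgroup G, IsMulCommutative ↥A → IsMulCommutative ↥B →
      Nat.card ↥A = Nat.card ↥B → ∃ g : G, B = A.map (MulAut.conj g).toMonoidHom)
    {H K : Subgroup G} [Group.IsNilpotent ↥H] [Group.IsNilpotent ↥K] (hcard : Nat.card ↥H = Nat.card ↥K)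
    (hoddH : ∀ (p : ℕ) [Fact p.Prime], p ≠ 2 → ∀ R : Sylow p ↥H, ∀ a ∈ (R : Subgroup ↥H),
      ∀ b ∈ (R : Subgroup ↥H), a * b = b * a)
    (hoddK : ∀ (p : ℕ) [Fact p.Prime], p ≠ 2 → ∀ R : Sylow p ↥K, ∀ a ∈ (R : Subgroup ↥K),
      ∀ b ∈ (R : Subgroup ↥K), a * b = b * a)
    (hfull : (Nat.card ↥H).factorization 2 = (Nat.card G).factorization 2) :
    ∃ g : G, K = H.map (MulAut.conj g).toMonoidHom := by
  have h2 : Fact (Nat.Prime 2) := ⟨Nat.prime_two⟩
  let RH : Sylow 2 ↥H := default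
  let RK : Sylow 2 ↥K := default
  obtain ⟨DH, hDH, hsupH, hcardH⟩ := exists_parts hoddH RH
  obtain ⟨DK, hDK, hsupK, hcardK⟩ := exists_parts hoddK RK
  set RH' : Subgroup G := (RH : Subgroup ↥H).map H.subtype
  set RK' : Subgroup G := (RK : Subgroup ↥K).map K.subtype
  set DH' : Subgroup G := DH.map H.subtype
  set DK' : Subgroup G := DK.map K.subtype
  have hH : H = RH' ⊔ DH' := by
    rw [← Subgroup.map_sup, hsupH, ← MonoidHom.range_eq_map, Subgroup.range_subtype]
  have hK : K = RK' ⊔ DK' := by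
    rw [← Subgroup.map_sup, hsupK, ← MonoidHom.range_eq_map, Subgroup.range_subtype]
  have hRHc : Nat.card ↥RH' = 2 ^ (Nat.card G).factorization 2 := by
    rw [Subgroup.card_map_of_injective H.subtype_injective, ← hfull]
    exact RH.card_eq_multiplicity
  have hRKc : Nat.card ↥RK' = 2 ^ (Nat.card G).factorization 2 := by
    rw [Subgroup.card_map_of_injective K.subtype_injective, ← hfull, hcard]
    exact RK.card_eq_multiplicity
  have hcomm : ∀ {L : Subgroup G} (E : Subgroup ↥L), E ≤ Subgroup.center ↥L →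
      IsMulCommutative ↥(E.map L.subtype) ∧ ∀ S : Subgroup ↥L, S.map L.subtype ≤
        Subgroup.centralizer (E.map L.subtype : Set G) := by
    intro L E hE
    refine ⟨⟨⟨fun a b => Subtype.ext ?_⟩⟩, fun S => ?_⟩
    · obtain ⟨a', ha', hae⟩ := a.2
      obtain ⟨b', -, hbe⟩ := b.2
      show (a : G) * b = b * a
      rw [← hae, ← hbe]
      exact congrArg Subtype.val (Subgroup.mem_center_iff.mp (hE ha') b').symm
    · rintro _ ⟨s, -, rfl⟩
      rw [Subgroup.mem_centralizer_iff]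
      rintro _ ⟨a', ha', rfl⟩
      exact congrArg Subtype.val (Subgroup.mem_center_iff.mp (hE ha') s).symm
  obtain ⟨g, hg⟩ := hB DH' DK' (hcomm DH hDH).1 (hcomm DK hDK).1 (by
    rw [Subgroup.card_map_of_injective H.subtype_injective, Subgroup.card_map_of_injective K.subtype_injective]
    refine Nat.eq_of_mul_eq_mul_right (Nat.card_pos (α := ↥(RH : Subgroup ↥H))) ?_
    rw [hcardH, RH.card_eq_multiplicity, hcard, ← RK.card_eq_multiplicity, hcardK])
  set S1 : Subgroup G := RH'.map (MulAut.conj g).toMonoidHom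
  set C : Subgroup G := Subgroup.centralizer (DK' : Set G)
  have hS1C : S1 ≤ C := by
    rintro _ ⟨r, hr, rfl⟩
    rw [Subgroup.mem_centralizer_iff]
    intro d hd
    rw [SetLike.mem_coe, hg] at hd
    obtain ⟨d', hd', rfl⟩ := hd
    rw [← map_mul, ← map_mul, Subgroup.mem_centralizer_iff.mp ((hcomm DH hDH).2 _ hr) d' hd']
  have hS1c : Nat.card ↥S1 = 2 ^ (Nat.card G).factorization 2 := by
    rw [Subgroup.card_map_of_injective (MulAut.conj g).injective, hRHc]
  let P1 : Sylow 2 G := Sylow.ofCard S1 hS1c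
  let P2 : Sylow 2 G := Sylow.ofCard RK' hRKc
  obtain ⟨c, hc⟩ := MulAction.exists_smul_eq ↥C (P1.subtype (N := C) hS1C)
    (P2.subtype (N := C) ((hcomm DK hDK).2 _))
  have hRK : RK' = S1.map (MulAut.conj (c : G)).toMonoidHom := by
    refine (Subgroup.eq_of_le_of_card_ge ?_ ?_).symm
    · rintro _ ⟨s, hs, rfl⟩
      have h1 : c * ⟨s, hS1C hs⟩ * c⁻¹ ∈ ((P2.subtype (N := C) ((hcomm DK hDK).2 _)) : Subgroup ↥C) := by
        rw [← hc, Sylow.coe_subgroup_smul]
        exact ⟨⟨s, hS1C hs⟩, hs, rfl⟩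
      exact h1
    · rw [Subgroup.card_map_of_injective (f := (MulAut.conj (c : G)).toMonoidHom) (MulAut.conj (c : G)).injective, hS1c, hRKc]
  have hDK' : DK' = DK'.map (MulAut.conj (c : G)).toMonoidHom := by
    refine (Subgroup.eq_of_le_of_card_ge ?_ ?_).symm
    · rintro _ ⟨d, hd, rfl⟩
      show (c : G) * d * (c : G)⁻¹ ∈ DK'
      rw [(Subgroup.mem_centralizer_iff.mp c.2 d hd).symm, mul_inv_cancel_right]
      exact hd
    · rw [Subgroup.card_map_of_injective (f := (MulAut.conj (c : G)).toMonoidHom) (MulAut.conj (c : G)).injective]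
  refine ⟨c * g, ?_⟩
  have hcg : (MulAut.conj ((c : G) * g)).toMonoidHom =
      (MulAut.conj (c : G)).toMonoidHom.comp (MulAut.conj g).toMonoidHom := by
    rw [map_mul]; rfl
  rw [hH, hK, hcg, Subgroup.map_sup, ← Subgroup.map_map, ← Subgroup.map_map, ← hg, ← hDK', hRK]

/-- Let G be a finite solvable group in which any two abelian subgroups of the same order are conjugate. Then every quotient of G has the same property: any two abelian subgroups of the quotient of the same order are conjugate. -/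
theorem result {G : Type*} [Group G] [Finite G] (hB : ∀ A B : Subgroup G, IsMulCommutative ↥A → IsMulCommutative ↥B → Nat.card ↥A = Nat.card ↥B → ∃ g : G, B = A.map (MulAut.conj g).toMonoidHom) (hsol : Group.IsSolvable G) (M : Subgroup G) [M.Normal] :
    ∀ A B : Subgroup (G ⧸ M), IsMulCommutative ↥A → IsMulCommutative ↥B → Nat.card ↥A = Nat.card ↥B →
      ∃ g : G ⧸ M, B = A.map (MulAut.conj g).toMonoidHom := by
  intro A B hA hB' hcard
  have h4 : ∀ x y : G, orderOf x = 4 → orderOf y = 4 → ∃ g : G, y ∈ Subgroup.zpowers (g * x * g⁻¹) := by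
    intro x y hx hy
    obtain ⟨g, hg⟩ := hB (Subgroup.zpowers x) (Subgroup.zpowers y) inferInstance inferInstance
      (by rw [Nat.card_zpowers, Nat.card_zpowers, hx, hy])
    rw [MonoidHom.map_zpowers] at hg
    exact ⟨g, hg ▸ Subgroup.mem_zpowers y⟩
  -- structure of the relevant Sylow subgroups
  have hS : ∀ (p : ℕ) [Fact p.Prime], p ∣ Nat.card ↥M → ∀ P : Sylow p G,
      (IsCyclic ↥(P : Subgroup G) ∨ (P : Subgroup G) ≤ M) ∨ (p = 2 ∧ Nat.card ↥(P : Subgroup G) = 8 ∧
        ∀ R : Subgroup G, R ≤ P → R ≠ ⊥ → M ⊓ (P : Subgroup G) ≤ R) := by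
    intro p hp hpM P
    have hexpM : (∀ x ∈ (P : Subgroup G), x ^ p = 1) → (P : Subgroup G) ≤ M := by
      intro hexp x hx
      by_cases hx1 : x = 1
      · exact hx1 ▸ one_mem M
      obtain ⟨y, hy⟩ := exists_prime_orderOf_dvd_card' p hpM
      rw [← Subgroup.orderOf_coe] at hy
      obtain ⟨g, hg⟩ := hB (Subgroup.zpowers (y : G)) (Subgroup.zpowers x) inferInstance inferInstance
        (by rw [Nat.card_zpowers, Nat.card_zpowers, hy, orderOf_eq_prime (hexp x hx) hx1])
      have hxm : x ∈ Subgroup.zpowers x := Subgroup.mem_zpowers x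
      rw [hg] at hxm
      obtain ⟨z, hz, rfl⟩ := hxm
      exact (inferInstance : M.Normal).conj_mem z (Subgroup.zpowers_le.mpr y.2 hz) g
    by_cases hp2 : p = 2
    · subst hp2
      rcases (S3908.result hB).1 P with hc | hel | ⟨k, ⟨e⟩⟩
      · exact Or.inl (Or.inl hc)
      · exact Or.inl (Or.inr (hexpM hel.2))
      have hk := quat_small P e h4
      rcases Nat.le_one_iff_eq_zero_or_eq_one.mp hk with rfl | rfl
      · refine Or.inl (Or.inl ?_)
        refine isCyclic_of_orderOf_eq_card (e.symm (QuaternionGroup.xa 0)) ?_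
        rw [MulEquiv.orderOf_eq, QuaternionGroup.orderOf_xa, Nat.card_congr e.toEquiv, Nat.card_eq_fintype_card,
          QuaternionGroup.card]
        rfl
      · rcases q8_le_or M P e h4 with h | h
        · exact Or.inl (Or.inr h)
        · refine Or.inr ⟨rfl, ?_, h⟩
          rw [Nat.card_congr e.toEquiv, Nat.card_eq_fintype_card, QuaternionGroup.card]
          rfl
    · rcases (S3908.result hB).2 p hp2 P with hc | hexp
      · exact Or.inl (Or.inl hc)
      · exact Or.inl (Or.inr (hexpM hexp))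
  have hloc : ∀ (p : ℕ) [Fact p.Prime], p ∣ Nat.card ↥M → ∀ P : Sylow p G,
      ∀ R : Subgroup G, R ≤ P → R ≤ M ∨ M ⊓ (P : Subgroup G) ≤ R := by
    intro p hp hpM P R hR
    rcases hS p hpM P with (hc | hle) | ⟨-, -, h⟩
    · exact cyclic_le_or_le M P hc R hR
    · exact Or.inl (hR.trans hle)
    · by_cases hR0 : R = ⊥
      · exact Or.inl (hR0 ▸ bot_le)
      · exact Or.inr (h R hR hR0)
  obtain ⟨H, hHA, hHn, hH⟩ := S3911.exists_lift M hloc A hA
  obtain ⟨K, hKB, hKn, hK⟩ := S3911.exists_lift M hloc B hB'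
  have hcardHK : Nat.card ↥H = Nat.card ↥K := by
    refine S3911.card_eq_of_target hH ?_
    rw [hcard]
    exact hK
  have hodd : ∀ {L : Subgroup G} {Q : Subgroup (G ⧸ M)}, IsMulCommutative ↥Q → L.map (QuotientGroup.mk' M) = Q →
      (∀ p : ℕ, p.Prime → (Nat.card ↥L).factorization p = S3911.target M (Nat.card ↥Q) p) →
      ∀ (p : ℕ) [Fact p.Prime], p ≠ 2 → ∀ R : Sylow p ↥L, ∀ a ∈ (R : Subgroup ↥L),
      ∀ b ∈ (R : Subgroup ↥L), a * b = b * a := by
    intro L Q hQ hLQ hL p hp hp2 R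
    refine S3911.isMulCommutative_lift M hQ hLQ R (hL p hp.out) fun h P => ?_
    exact (hS p h P).resolve_right fun hh => hp2 hh.1
  suffices hconj : ∃ g : G, K = H.map (MulAut.conj g).toMonoidHom by
    obtain ⟨g, hg⟩ := hconj
    refine ⟨QuotientGroup.mk' M g, ?_⟩
    rw [← hKB, ← hHA]
    exact S3911.exists_conj_map M hg
  by_cases hfull : (Nat.card ↥H).factorization 2 = (Nat.card G).factorization 2
  · exact conj_of_full hB hcardHK (hodd hA hHA hH) (hodd hB' hKB hK) hfull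
  have htwo : ∀ {L : Subgroup G} {Q : Subgroup (G ⧸ M)}, IsMulCommutative ↥Q → L.map (QuotientGroup.mk' M) = Q →
      (∀ p : ℕ, p.Prime → (Nat.card ↥L).factorization p = S3911.target M (Nat.card ↥Q) p) →
      Nat.card ↥L = Nat.card ↥H →
      ∀ (_ : Fact (Nat.Prime 2)) (R : Sylow 2 ↥L), ∀ a ∈ (R : Subgroup ↥L),
      ∀ b ∈ (R : Subgroup ↥L), a * b = b * a := by
    intro L Q hQ hLQ hL hcardL _ R
    by_cases hgood : 2 ∣ Nat.card ↥M → ∀ P : Sylow 2 G, IsCyclic ↥(P : Subgroup G) ∨ (P : Subgroup G) ≤ M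
    · exact S3911.isMulCommutative_lift M hQ hLQ R (hL 2 Nat.prime_two) hgood
    push Not at hgood
    obtain ⟨h2M, P, hP1, hP2⟩ := hgood
    obtain ⟨-, hP8, -⟩ := (hS 2 h2M P).resolve_left (not_or.mpr ⟨hP1, hP2⟩)
    have hG3 : (Nat.card G).factorization 2 = 3 := by
      have := P.card_eq_multiplicity
      rw [hP8, show (8 : ℕ) = 2 ^ 3 by rfl] at this
      exact (Nat.pow_right_injective le_rfl this).symm
    have hle : (Nat.card ↥H).factorization 2 ≤ (Nat.card G).factorization 2 :=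
      (Nat.factorization_le_iff_dvd Nat.card_pos.ne' Nat.card_pos.ne').mpr (Subgroup.card_subgroup_dvd_card H) 2
    have hRc := R.card_eq_multiplicity
    rw [hcardL] at hRc
    have : IsMulCommutative ↥(R : Subgroup ↥L) := by
      rcases (show (Nat.card ↥H).factorization 2 ≤ 1 ∨ (Nat.card ↥H).factorization 2 = 2 by omega) with h | h
      · rcases Nat.le_one_iff_eq_zero_or_eq_one.mp h with h | h
        · rw [h, pow_zero, Subgroup.card_eq_one] at hRc
          rw [hRc]; infer_instance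
        · rw [h, pow_one] at hRc
          have := isCyclic_of_prime_card hRc
          exact IsCyclic.isMulCommutative
      · rw [h] at hRc
        exact ⟨⟨IsPGroup.commutative_of_card_eq_prime_sq hRc⟩⟩
    intro a ha b hb
    exact congrArg Subtype.val (this.is_comm.comm ⟨a, ha⟩ ⟨b, hb⟩)
  have hcom : ∀ {L : Subgroup G} {Q : Subgroup (G ⧸ M)}, IsMulCommutative ↥Q → L.map (QuotientGroup.mk' M) = Q →
      (∀ p : ℕ, p.Prime → (Nat.card ↥L).factorization p = S3911.target M (Nat.card ↥Q) p) →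
      Nat.card ↥L = Nat.card ↥H → Group.IsNilpotent ↥L → IsMulCommutative ↥L := by
    intro L Q hQ hLQ hL hcardL hLn
    refine S3911.comm_of_sylow fun p hp R => ?_
    by_cases hp2 : p = 2
    · subst hp2
      exact htwo hQ hLQ hL hcardL hp R
    · exact hodd hQ hLQ hL p hp2 R
  exact hB H K (hcom hA hHA hH rfl hHn) (hcom hB' hKB hK hcardHK.symm hKn) hcardHK

end Cfsg.Agent.S3912
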