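import Cfsg.Statements.S0728
import Mathlib
import Cfsg.Agent.Lib.Perm.Transitive

set_option autoImplicit false
open Cfsg

namespace Cfsg.Agent.S0728

open Finset Cfsg.Agent.Perm in
/-- In a sharply 3-transitive group exactly two elements of order 3 fix a given pair, if any does. -/
private theorem count {α : Type*} [Fintype α] [DecidableEq α] (h4 : 4 ≤ Fintype.card α)
    (G : Subgroup (Equiv.Perm α)) (h3 : MulAction.IsMultiplyPretransitive G α 3)
    (hsharp : ∀ x : Fin 3 ↪ α, MulAction.stabilizer G x = ⊥) {a b : α} (hab : a ≠ b) [Fintype G]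
    {g₀ : G} (hg₀ : orderOf g₀ = 3) (ha : g₀ • a = a) (hb : g₀ • b = b) :
    (univ.filter fun g : G => orderOf g = 3 ∧ g • a = a ∧ g • b = b).card = 2 := by
  classical
  let T : Finset G := univ.filter fun g => orderOf g = 3
  have hcube : ∀ g ∈ T, ∀ x : α, g • g • g • x = x := by
    intro g hg x
    have : g ^ 3 = 1 := (mem_filter.1 hg).2 ▸ pow_orderOf_eq_one g
    rw [← mul_smul, ← mul_smul, show g * g * g = g ^ 3 from (pow_three' g).symm, this, one_smul]
  have hne : ∀ g ∈ T, g ≠ 1 := by
    intro g hg e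
    have := (mem_filter.1 hg).2
    rw [e, orderOf_one] at this; omega
  have hdist : ∀ g ∈ T, ∀ x : α, g • x ≠ x → x ≠ g • g • x ∧ g • x ≠ g • g • x := by
    intro g hg x hx
    refine ⟨fun e => hx ?_, fun e => hx ?_⟩
    · conv_lhs => rw [e]
      exact hcube g hg x
    · exact (smul_left_cancel g e).symm
  have huniq : ∀ g ∈ T, ∀ g' ∈ T, ∀ x : α, g • x ≠ x → g' • x = g • x → g' • g' • x = g • g • x → g' = g := by
    intro g hg g' hg' x hx h1 h2
    obtain ⟨d1, d2⟩ := hdist g hg x hx
    refine (inv_mul_eq_one.1 (eq_one_of_fixes_three hsharp (Ne.symm hx) d1 d2 ?_ ?_ ?_)).symm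
    · rw [mul_smul, h1, inv_smul_smul]
    · rw [mul_smul, show g' • g • x = g • g • x by rw [← h1]; exact h2.trans (by rw [h1]), inv_smul_smul]
    · rw [mul_smul, show g' • g • g • x = g • g • g • x by
        rw [← h2, hcube g' hg', h2, hcube g hg], inv_smul_smul]
  have hg₀T : g₀ ∈ T := mem_filter.2 ⟨mem_univ _, hg₀⟩
  obtain ⟨c, hca, hcb⟩ : ∃ c, c ≠ a ∧ c ≠ b := by
    obtain ⟨c, -, hc⟩ := exists_mem_notMem_of_card_lt_card (s := ({a, b} : Finset α)) (t := univ)
      (by rw [card_pair hab, card_univ]; omega)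
    simp at hc; exact ⟨c, hc⟩
  have hc₀ : g₀ • c ≠ c := fun e =>
    hne g₀ hg₀T (eq_one_of_fixes_three hsharp hab hca.symm hcb.symm ha hb e)
  have hconj : ∀ g ∈ T, ∃ t : G, g = t * g₀ * t⁻¹ := by
    intro g hg
    obtain ⟨x, hx⟩ : ∃ x : α, g • x ≠ x := by
      by_contra h
      push Not at h
      exact hne g hg (Subtype.ext (Equiv.ext h))
    obtain ⟨d1, d2⟩ := hdist g₀ hg₀T c hc₀
    obtain ⟨e1, e2⟩ := hdist g hg x hx
    obtain ⟨t, t1, t2, t3⟩ := exists_smul_eq_three h3 (Ne.symm hc₀) d1 d2 (Ne.symm hx) e1 e2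
    refine ⟨t, (huniq g hg _ (mem_filter.2 ⟨mem_univ _, ?_⟩) x hx ?_ ?_).symm⟩
    · rw [show t * g₀ * t⁻¹ = MulAut.conj t g₀ from rfl, MulEquiv.orderOf_eq, hg₀]
    · rw [mul_smul, mul_smul, inv_smul_eq_iff.2 t1.symm, t2]
    · simp only [mul_smul, inv_smul_smul]
      rw [inv_smul_eq_iff.2 t1.symm, t3]
  have hfix : ∀ g ∈ T, (univ.filter fun x : α => g • x = x).card = 2 := by
    intro g hg
    obtain ⟨t, rfl⟩ := hconj g hg
    refine le_antisymm ?_ (one_lt_card.2 ⟨t • a, ?_, t • b, ?_, fun e => hab (smul_left_cancel t e)⟩)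
    · by_contra h
      obtain ⟨u, v, w, hu, hv, hw, huv, huw, hvw⟩ := two_lt_card_iff.1 (not_le.1 h)
      simp only [mem_filter, mem_univ, true_and] at hu hv hw
      exact hne _ hg (eq_one_of_fixes_three hsharp huv huw hvw hu hv hw)
    · simp [mul_smul, ha]
    · simp [mul_smul, hb]
  have htrip : T.card * (Fintype.card α - 2) = Fintype.card α * (Fintype.card α - 1) * (Fintype.card α - 2) := by
    have h1 : (T.sigma fun g => univ.filter fun x : α => ¬ g • x = x).card = T.card * (Fintype.card α - 2) := by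
      rw [card_sigma, sum_congr rfl (g := fun _ => Fintype.card α - 2)]
      · simp
      · intro g hg
        have := card_filter_add_card_filter_not (s := (univ : Finset α)) (p := fun x => g • x = x)
        rw [hfix g hg, card_univ] at this
        omega
    have h2 : (univ : Finset (Fin 3 ↪ α)).card = Fintype.card α * (Fintype.card α - 1) * (Fintype.card α - 2) := by
      rw [card_univ, Fintype.card_embedding_eq, Fintype.card_fin]
      simp [Nat.descFactorial_succ]; ring
    rw [← h1, ← h2]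
    refine card_bij (fun q hq => ⟨![q.2, q.1 • q.2, q.1 • q.1 • q.2], ?_⟩) (fun _ _ => mem_univ _) ?_ ?_
    · simp only [mem_sigma, mem_filter, mem_univ, true_and] at hq
      obtain ⟨d1, d2⟩ := hdist q.1 hq.1 q.2 hq.2
      intro i j
      fin_cases i <;> fin_cases j <;> simp [Ne.symm hq.2, hq.2, d1, d1.symm, d2, d2.symm]
    · rintro ⟨g, x⟩ hq ⟨g', x'⟩ hq' e
      simp only [mem_sigma, mem_filter, mem_univ, true_and] at hq hq'
      have e0 := congrArg (fun f : Fin 3 ↪ α => f 0) e
      have e1 := congrArg (fun f : Fin 3 ↪ α => f 1) e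
      have e2 := congrArg (fun f : Fin 3 ↪ α => f 2) e
      simp only [Function.Embedding.coeFn_mk, Matrix.cons_val] at e0 e1 e2
      subst e0
      rw [huniq g hq.1 g' hq'.1 x hq.2 e1.symm e2.symm]
    · intro f _
      have f01 : f 0 ≠ f 1 := f.injective.ne (by decide)
      have f02 : f 0 ≠ f 2 := f.injective.ne (by decide)
      have f12 : f 1 ≠ f 2 := f.injective.ne (by decide)
      obtain ⟨g, g1, g2, g3⟩ := exists_smul_eq_three h3 f01 f02 f12 f12 f01.symm f02.symm
      have hg3 : g ^ 3 = 1 := eq_one_of_fixes_three hsharp f01 f02 f12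
        (by rw [pow_three, mul_smul, mul_smul, g1, g2, g3])
        (by rw [pow_three, mul_smul, mul_smul, g2, g3, g1])
        (by rw [pow_three, mul_smul, mul_smul, g3, g1, g2])
      have hg1 : g ≠ 1 := fun e => f01 (by simpa [e] using g1)
      have : Fact (Nat.Prime 3) := ⟨by norm_num⟩
      refine ⟨⟨g, f 0⟩, ?_, Function.Embedding.ext fun i => ?_⟩
      · simp only [mem_sigma, mem_filter, mem_univ, true_and, T]
        exact ⟨orderOf_eq_prime hg3 hg1, by rw [g1]; exact f01.symm⟩
      · fin_cases i <;> simp [g1, g2]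
  have hT : T.card = Fintype.card α * (Fintype.card α - 1) :=
    Nat.eq_of_mul_eq_mul_right (by omega) htrip
  let P : Finset (α × α) := univ.offDiag
  let N := (univ.filter fun g : G => orderOf g = 3 ∧ g • a = a ∧ g • b = b).card
  have hN : ∀ p ∈ P, (T.filter fun g => g • p.1 = p.1 ∧ g • p.2 = p.2).card = N := by
    intro p hp
    obtain ⟨c', hc1, hc2⟩ : ∃ c', c' ≠ p.1 ∧ c' ≠ p.2 := by
      obtain ⟨c', -, hc⟩ := exists_mem_notMem_of_card_lt_card (s := ({p.1, p.2} : Finset α)) (t := univ)
        (by have := card_le_two (a := p.1) (b := p.2); rw [card_univ]; omega)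
      simp at hc; exact ⟨c', hc⟩
    obtain ⟨t, t1, t2, -⟩ := exists_smul_eq_three h3 (mem_offDiag.1 hp).2.2 hc1.symm hc2.symm hab hca.symm hcb.symm
    refine card_bij' (fun g _ => t * g * t⁻¹) (fun g _ => t⁻¹ * g * t) ?_ ?_ ?_ ?_
    · intro g hg
      simp only [T, mem_filter, mem_univ, true_and] at hg ⊢
      refine ⟨by rw [show t * g * t⁻¹ = MulAut.conj t g from rfl, MulEquiv.orderOf_eq, hg.1], ?_, ?_⟩
      · rw [mul_smul, mul_smul, inv_smul_eq_iff.2 t1.symm, hg.2.1, t1]
      · rw [mul_smul, mul_smul, inv_smul_eq_iff.2 t2.symm, hg.2.2, t2]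
    · intro g hg
      simp only [T, mem_filter, mem_univ, true_and] at hg ⊢
      refine ⟨by rw [show t⁻¹ * g * t = MulAut.conj t⁻¹ g by simp, MulEquiv.orderOf_eq, hg.1], ?_, ?_⟩
      · rw [mul_smul, mul_smul, t1, hg.2.1, inv_smul_eq_iff, t1]
      · rw [mul_smul, mul_smul, t2, hg.2.2, inv_smul_eq_iff, t2]
    · intro g _; group
    · intro g _; group
  have hdouble : P.card * N = T.card * 2 := by
    have h1 : ∑ g ∈ T, (P.filter fun p => g • p.1 = p.1 ∧ g • p.2 = p.2).card = T.card * 2 := by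
      rw [sum_congr rfl (g := fun _ => 2)]
      · simp
      · intro g hg
        rw [show (P.filter fun p => g • p.1 = p.1 ∧ g • p.2 = p.2) = (univ.filter fun x : α => g • x = x).offDiag by
          ext p
          simp only [P, mem_filter, mem_offDiag, mem_univ, true_and]
          exact ⟨fun h => ⟨h.2.1, h.2.2, h.1⟩, fun h => ⟨h.2.2, h.1, h.2.1⟩⟩]
        rw [offDiag_card, hfix g hg]
    rw [← h1]
    simp only [card_filter]
    rw [sum_comm]
    simp only [← card_filter]
    rw [sum_congr rfl hN]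
    simp
  have hP : P.card = Fintype.card α * (Fintype.card α - 1) := by
    simp [P, offDiag_card, Nat.mul_sub_one]
  rw [hP, hT] at hdouble
  exact Nat.eq_of_mul_eq_mul_left (Nat.mul_pos (by omega) (by omega)) hdouble

/-- In a sharply triply transitive group of even degree at least 6 (degree `q + 1`, `q` odd), a two-point stabiliser has at most one subgroup of order 3. -/
theorem result {α : Type*} [Fintype α] [DecidableEq α] (heven : Even (Fintype.card α)) (h6 : 6 ≤ Fintype.card α) (G : Subgroup (Equiv.Perm α)) (h3 : MulAction.IsMultiplyPretransitive G α 3) (hsharp : ∀ x : Fin 3 ↪ α, MulAction.stabilizer G x = ⊥) {a b : α} (hab : a ≠ b) (A B : Subgroup G) (hA : A ≤ MulAction.stabilizer G a ⊓ MulAction.stabilizer G b) (hB : B ≤ MulAction.stabilizer G a ⊓ MulAction.stabilizer G b) (hA3 : Nat.card A = 3) (hB3 : Nat.card B = 3) : A = B := by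
  classical
  have : Fintype G := Fintype.ofFinite G
  have key : ∀ A : Subgroup G, A ≤ MulAction.stabilizer G a ⊓ MulAction.stabilizer G b → Nat.card A = 3 →
      (Finset.univ.filter fun g : G => g ∈ A ∧ g ≠ 1) =
        Finset.univ.filter fun g : G => orderOf g = 3 ∧ g • a = a ∧ g • b = b := by
    intro A hA hA3
    have : Fact (Nat.Prime 3) := ⟨by norm_num⟩
    have hsub : (Finset.univ.filter fun g : G => g ∈ A ∧ g ≠ 1) ⊆
        Finset.univ.filter fun g : G => orderOf g = 3 ∧ g • a = a ∧ g • b = b := by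
      intro g hg
      simp only [Finset.mem_filter, Finset.mem_univ, true_and] at hg ⊢
      refine ⟨orderOf_eq_prime ?_ hg.2, (hA hg.1).1, (hA hg.1).2⟩
      have : (⟨g, hg.1⟩ : A) ^ Nat.card A = 1 := pow_card_eq_one'
      rw [hA3] at this
      exact congrArg Subtype.val this
    have hc : (Finset.univ.filter fun g : G => g ∈ A ∧ g ≠ 1).card = 2 := by
      rw [show (Finset.univ.filter fun g : G => g ∈ A ∧ g ≠ 1) = (Finset.univ.filter fun g : G => g ∈ A).erase 1 by
        ext g; simp [and_comm], Finset.card_erase_of_mem (by simp), ← Fintype.card_subtype,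
        ← Nat.card_eq_fintype_card, show Nat.card {g : G // g ∈ A} = 3 from hA3]
    obtain ⟨g₀, hg₀⟩ := Finset.card_pos.1 (show 0 < (Finset.univ.filter fun g : G => g ∈ A ∧ g ≠ 1).card by omega)
    have h₀ := (Finset.mem_filter.1 (hsub hg₀)).2
    refine Finset.eq_of_subset_of_card_le hsub ?_
    rw [hc, count (by omega) G h3 hsharp hab h₀.1 h₀.2.1 h₀.2.2]
  ext g
  rcases eq_or_ne g 1 with rfl | hg
  · simp
  have h := Finset.ext_iff.1 ((key A hA hA3).trans (key B hB hB3).symm) g
  simpa [hg] using h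

end Cfsg.Agent.S0728
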