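import Cfsg.Statements.S0947
import Cfsg.Agent.Lib.Blocks.SecondMain
import Cfsg.Agent.Lib.BlockCount.CentralizerBlocks
import Cfsg.Agent.Lib.Blocks.PPrimeNormal
import Cfsg.Agent.Lib.Char.KernelSum
-- import your own Cfsg.Agent.* helpers here

set_option autoImplicit false
open Cfsg

namespace Cfsg.Agent.S0947

/-- The characters of the principal block of the centralizer of a `p`-element are those whose blocks
induce the principal block. -/
theorem inducingSet_principal {G : Type*} [Group G] [Finite G] {p : ℕ} [Fact p.Prime]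
    {M : Ideal Cfsg.AlgInt} [M.IsMaximal] (hpM : (p : Cfsg.AlgInt) ∈ M) {z : G}
    (hz : ∃ k : ℕ, orderOf z = p ^ k) :
    Blocks.inducingSet M (Subgroup.centralizer ({z} : Set G)) (principalBlock M G) =
      principalBlock M (Subgroup.centralizer ({z} : Set G)) := by
  obtain ⟨hC, hQ⟩ := BlockCount.zpowers_facts z
  ext η
  show IsInducedBlock M _ _ _ ↔ _
  rw [BlockCount.isInducedBlock_principal_iff hpM (Blocks.isPGroup_zpowers hz) hC hQ
    (Blocks.isPBlock_blockOf η)]
  exact ⟨fun h => h ▸ Blocks.mem_blockOf_self η,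
    fun h => (Blocks.block_eq (Blocks.isPBlock_principalBlock hpM) h).symm⟩

/-- Let z ≠ 1 be a p-element of the finite group G with centralizer H, and fix a maximal ideal M of the algebraic integers containing p. (i) For every y ∈ H of order prime to p, the sum over ζ in the principal block of G of |ζ (z * y)|² equals the sum over χ in the principal block of H of |χ y|². (ii) If moreover H has a normal p-complement (its largest normal subgroup of order prime to p has p-power index), that common value is the largest power of p dividing the order of H. -/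
theorem result {G : Type*} [Group G] [Finite G] (p : ℕ) [Fact p.Prime] (M : Ideal Cfsg.AlgInt) (hM : Cfsg.IsPModular p M) (z : G) (hz : ∃ k : ℕ, orderOf z = p ^ k) (hz1 : z ≠ 1) (y : Subgroup.centralizer ({z} : Set G)) (hy : ¬ p ∣ orderOf y) : (∑ᶠ ζ ∈ Cfsg.principalBlock M G, ‖(ζ : G → ℂ) (z * (y : G))‖ ^ 2 = ∑ᶠ χ ∈ Cfsg.principalBlock M (Subgroup.centralizer ({z} : Set G)), ‖(χ : Subgroup.centralizer ({z} : Set G) → ℂ) y‖ ^ 2) ∧ ((∃ k : ℕ, (Cfsg.pPrimeCore p (Subgroup.centralizer ({z} : Set G))).index = p ^ k) → ∑ᶠ ζ ∈ Cfsg.principalBlock M G, ‖(ζ : G → ℂ) (z * (y : G))‖ ^ 2 = ((p ^ (Nat.card (Subgroup.centralizer ({z} : Set G))).factorization p : ℕ) : ℝ)) := by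
  classical
  haveI := hM.2.1
  haveI := Fintype.ofFinite G
  haveI := Fintype.ofFinite (Subgroup.centralizer ({z} : Set G))
  have hpM := hM.2.2
  have h1 : ∑ᶠ ζ ∈ Cfsg.principalBlock M G, ‖(ζ : G → ℂ) (z * (y : G))‖ ^ 2 =
      ∑ᶠ χ ∈ Cfsg.principalBlock M (Subgroup.centralizer ({z} : Set G)), ‖(χ : (Subgroup.centralizer ({z} : Set G)) → ℂ) y‖ ^ 2 := by
    have h := Blocks.second_main_orth hpM hz (Blocks.isPBlock_principalBlock (G := G) hpM)
      (s := y) (s' := y) hy hy
    rw [inducingSet_principal hpM hz] at h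
    simp only [Complex.mul_conj'] at h
    rw [finsum_mem_eq_toFinset_sum, finsum_mem_eq_toFinset_sum]
    apply Complex.ofReal_injective
    push_cast
    refine (Finset.sum_congr (by ext; simp) fun _ _ => rfl).trans (h.trans ?_)
    exact Finset.sum_congr (by ext; simp) fun _ _ => rfl
  refine ⟨h1, fun hnc => ?_⟩
  rw [h1, Blocks.principalBlock_eq_of_index hpM hnc, finsum_mem_eq_toFinset_sum]
  obtain ⟨k, hk⟩ := hnc
  set K := Cfsg.pPrimeCore p (Subgroup.centralizer ({z} : Set G))
  have hyK : y ∈ K := by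
    have e1 : orderOf (y : (Subgroup.centralizer ({z} : Set G)) ⧸ K) ∣ orderOf y := orderOf_map_dvd (QuotientGroup.mk' K) y
    have e2 : orderOf (y : (Subgroup.centralizer ({z} : Set G)) ⧸ K) ∣ p ^ k := by
      rw [← hk, Subgroup.index_eq_card]; exact orderOf_dvd_natCard _
    exact (QuotientGroup.eq_one_iff y).1 (orderOf_eq_one_iff.1 (Nat.eq_one_of_dvd_coprimes
      (Nat.Coprime.pow_left _ ((Nat.Prime.coprime_iff_not_dvd Fact.out).2 hy)) e2 e1))
  have hfac : (Nat.card (Subgroup.centralizer ({z} : Set G))).factorization p = k := by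
    rw [← K.card_mul_index, hk, Nat.factorization_mul Nat.card_pos.ne'
      (pow_ne_zero _ (Fact.out : p.Prime).ne_zero), Finsupp.add_apply,
      Nat.factorization_eq_zero_of_not_dvd PCore.not_dvd_card_pPrimeCore, zero_add,
      Nat.Prime.factorization_pow Fact.out, Finsupp.single_eq_same]
  rw [hfac, ← hk, ← Char.sum_trivOn_degree_sq K, Nat.cast_sum]
  refine Finset.sum_congr (by ext; simp [Char.TrivOn]) fun χ hχ => ?_
  have hχy : χ.1 y = χ.1 1 := (Finset.mem_filter.1 hχ).2 y hyK
  rw [hχy, ← Char.charDegree_cast, Complex.norm_natCast, Nat.cast_pow]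

end Cfsg.Agent.S0947
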