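import Cfsg.Statements.S3279
import Cfsg.Agent.Lib.Involution.Dihedral
import Cfsg.Agent.S0215
import Mathlib.GroupTheory.Nilpotent

set_option autoImplicit false
open Cfsg

namespace Cfsg.Agent.S3279

open Subgroup

variable {G : Type*} [Group G]

theorem mem_cent {a g : G} : g ∈ Subgroup.centralizer ({a} : Set G) ↔ g * a = a * g :=
  Subgroup.mem_centralizer_singleton_iff

theorem order_conj (v w : G) : orderOf (v * w * v⁻¹) = orderOf w := (MulAut.conj v).orderOf_eq w

/-- In a simple group an element commuting with all its conjugates is central and the group is abelian. -/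
theorem comm_of_commuting_class [IsSimpleGroup G] {z : G} (hz1 : z ≠ 1)
    (h : ∀ g : G, g * z * g⁻¹ * z = z * (g * z * g⁻¹)) : ∀ a b : G, a * b = b * a := by
  set A := Subgroup.normalClosure ({z} : Set G) with hA
  have hpair : ∀ a ∈ Group.conjugatesOfSet ({z} : Set G), ∀ b ∈ Group.conjugatesOfSet ({z} : Set G),
      a * b = b * a := by
    intro a ha b hb
    obtain ⟨z1, hz1', hga⟩ := Group.mem_conjugatesOfSet_iff.mp ha
    obtain ⟨z2, hz2', hgb⟩ := Group.mem_conjugatesOfSet_iff.mp hb
    rw [Set.mem_singleton_iff] at hz1' hz2'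
    subst z1
    subst z2
    obtain ⟨g, rfl⟩ := isConj_iff.mp hga
    obtain ⟨k, rfl⟩ := isConj_iff.mp hgb
    have := h (g⁻¹ * k)
    calc g * z * g⁻¹ * (k * z * k⁻¹) = g * (z * (g⁻¹ * k * z * (g⁻¹ * k)⁻¹)) * g⁻¹ := by group
      _ = g * (g⁻¹ * k * z * (g⁻¹ * k)⁻¹ * z) * g⁻¹ := by rw [this]
      _ = k * z * k⁻¹ * (g * z * g⁻¹) := by group
  have h1 : A ≤ Subgroup.centralizer (Group.conjugatesOfSet ({z} : Set G)) :=
    (Subgroup.closure_le _).mpr fun a ha => Subgroup.mem_centralizer_iff.mpr fun b hb => hpair b hb a ha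
  have h2 : A ≤ Subgroup.centralizer (A : Set G) :=
    (Subgroup.closure_le _).mpr fun a ha => Subgroup.mem_centralizer_iff.mpr fun b hb =>
      (Subgroup.mem_centralizer_iff.mp (h1 hb) a ha).symm
  have htop : A = ⊤ := (Subgroup.normalClosure_normal).eq_bot_or_eq_top.resolve_left fun e => hz1 (by
    have : z ∈ A := Subgroup.subset_normalClosure rfl
    have e' : A = ⊥ := e
    rw [e', Subgroup.mem_bot] at this
    exact this)
  rw [htop] at h2
  exact fun a b => Subgroup.mem_centralizer_iff.mp (h2 (Subgroup.mem_top b)) a (Subgroup.mem_top a)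

variable [Finite G]

/-- Non-conjugate involutions commute with a common involution. -/
theorem exists_common {x y : G} (hx : orderOf x = 2) (hy : orderOf y = 2) (hne : ¬ IsConj x y) :
    ∃ w : G, orderOf w = 2 ∧ w * x = x * w ∧ w * y = y * w := by
  have hx2 := Involution.sq_of_orderOf_two hx
  have hy2 := Involution.sq_of_orderOf_two hy
  have heven : Even (orderOf (x * y)) := by
    rw [← Nat.not_odd_iff_even]
    intro hodd
    obtain ⟨d, -, hd⟩ := Involution.exists_conj_pair_of_odd hx2 hy2 hodd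
    exact hne (isConj_iff.mpr ⟨d, hd⟩)
  obtain ⟨hw, hwx, hwy⟩ := Involution.half_power_facts hx2 hy2 heven
  exact ⟨_, hw, hwx.eq, hwy.eq⟩

/-- The centralizer of `x` contains no involution besides `x`, `a`, `x * a`. -/
theorem three {x a : G} (hx : orderOf x = 2) (ha : orderOf a = 2) (hax : a ≠ x) (hc : a * x = x * a)
    (h3 : Nat.card {u : ↥(Subgroup.centralizer ({x} : Set G)) // orderOf u = 2} ≤ 3)
    {u : G} (hu : orderOf u = 2) (huc : u * x = x * u) : u = x ∨ u = a ∨ u = x * a := by
  classical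
  by_contra h
  push Not at h
  obtain ⟨h1, h2, h4⟩ := h
  have hxa : orderOf (x * a) = 2 := by
    refine orderOf_eq_prime ?_ ?_
    · rw [pow_two, show x * a * (x * a) = x * (a * x) * a by group, hc,
        show x * (x * a) * a = (x * x) * (a * a) by group, Involution.sq_of_orderOf_two hx,
        Involution.sq_of_orderOf_two ha, one_mul]
    · exact fun e => hax (by rw [eq_inv_of_mul_eq_one_right e, Involution.inv_of_orderOf_two hx])
  have m1 : x * a * x = x * (x * a) := by rw [mul_assoc, hc]
  let mk : (v : G) → v * x = x * v → orderOf v = 2 →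
      {u : ↥(Subgroup.centralizer ({x} : Set G)) // orderOf u = 2} :=
    fun v hv ho => ⟨⟨v, mem_cent.mpr hv⟩, by rw [← Subgroup.orderOf_coe]; exact ho⟩
  let f : Fin 4 → {u : ↥(Subgroup.centralizer ({x} : Set G)) // orderOf u = 2} :=
    ![mk u huc hu, mk x rfl hx, mk a hc ha, mk (x * a) m1 hxa]
  have n4 : x ≠ x * a := fun e => by
    have : a = 1 := by simpa using e.symm
    rw [this, orderOf_one] at ha; omega
  have n5 : a ≠ x * a := fun e => by
    have : x = 1 := by simpa using e.symm
    rw [this, orderOf_one] at hx; omega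
  have hf : Function.Injective f := by
    intro i j hij
    have e := congrArg (fun q : {u : ↥(Subgroup.centralizer ({x} : Set G)) // orderOf u = 2} => ((q.1 : ↥(Subgroup.centralizer ({x} : Set G))) : G)) hij
    fin_cases i <;> fin_cases j <;>
      simp [f, mk, h1, h2, h4, Ne.symm h1, Ne.symm h2, Ne.symm h4, hax, Ne.symm hax, n4, Ne.symm n4, n5,
        Ne.symm n5] at e ⊢
  have := Nat.card_le_card_of_injective f hf
  rw [Nat.card_eq_fintype_card, Fintype.card_fin] at this
  omega

omit [Finite G] in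
theorem card_conj_involutions (g x : G) :
    Nat.card {u : ↥(Subgroup.centralizer ({g * x * g⁻¹} : Set G)) // orderOf u = 2} =
      Nat.card {u : ↥(Subgroup.centralizer ({x} : Set G)) // orderOf u = 2} := by
  have key : ∀ a : G, a * x = x * a ↔ g * a * g⁻¹ * (g * x * g⁻¹) = g * x * g⁻¹ * (g * a * g⁻¹) := fun a => by
    constructor
    · intro e
      calc g * a * g⁻¹ * (g * x * g⁻¹) = g * (a * x) * g⁻¹ := by group
        _ = g * (x * a) * g⁻¹ := by rw [e]
        _ = g * x * g⁻¹ * (g * a * g⁻¹) := by group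
    · intro e
      calc a * x = g⁻¹ * (g * a * g⁻¹ * (g * x * g⁻¹)) * g := by group
        _ = g⁻¹ * (g * x * g⁻¹ * (g * a * g⁻¹)) * g := by rw [e]
        _ = x * a := by group
  refine (Nat.card_congr (((MulAut.conj g).toEquiv.subtypeEquiv fun a => ?_).subtypeEquiv fun u => ?_)).symm
  · rw [mem_cent, mem_cent]; exact key a
  · rw [← Subgroup.orderOf_coe, ← Subgroup.orderOf_coe]
    exact ((MulAut.conj g).orderOf_eq _).symm ▸ Iff.rfl

theorem exists_sylow [IsSimpleGroup G] {x : G} (hx : orderOf x = 2)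
    (h3 : Nat.card {u : ↥(Subgroup.centralizer ({x} : Set G)) // orderOf u = 2} ≤ 3) :
    ∃ S : Sylow 2 G, (S : Subgroup G) ≤ Subgroup.centralizer ({x} : Set G) := by
  haveI := Fact.mk Nat.prime_two
  by_contra hno
  push Not at hno
  obtain ⟨S, hS⟩ := (IsPGroup.of_card (n := 1) (by rw [Nat.card_zpowers, hx, pow_one])
    : IsPGroup 2 (Subgroup.zpowers x)).exists_le_sylow
  have hxS : x ∈ (S : Subgroup G) := hS (Subgroup.mem_zpowers x)
  have hSp : IsPGroup 2 S := S.2
  haveI : Nontrivial S := ⟨⟨⟨x, hxS⟩, 1, fun e => by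
    have : x = 1 := congrArg Subtype.val e
    rw [this, orderOf_one] at hx; omega⟩⟩
  haveI := hSp.center_nontrivial
  obtain ⟨z0, hz0⟩ := exists_prime_orderOf_dvd_card' 2 (G := Subgroup.center S) (by
    obtain ⟨n, hn, hc⟩ := (IsPGroup.to_subgroup hSp (Subgroup.center S)).nontrivial_iff_card.mp inferInstance
    rw [hc]; exact dvd_pow_self 2 hn.ne')
  rw [← Subgroup.orderOf_coe, ← Subgroup.orderOf_coe] at hz0
  set z : G := ((z0 : S) : G) with hz
  have hzc : ∀ b ∈ (S : Subgroup G), b * z = z * b := fun b hb =>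
    congrArg Subtype.val (Subgroup.mem_center_iff.mp z0.2 ⟨b, hb⟩)
  have hzS : z ∈ (S : Subgroup G) := (z0 : S).2
  have hzx : z ≠ x := fun e => hno S fun b hb => mem_cent.mpr (e ▸ hzc b hb)
  have hxz : z * x = x * z := (hzc x hxS).symm
  -- `x` is conjugate to `x * z` in `S`
  set T := Subgroup.centralizer ({(⟨x, hxS⟩ : S)} : Set S) with hT
  haveI : Group.IsNilpotent S := hSp.isNilpotent
  have hlt : T < ⊤ := lt_top_iff_ne_top.mpr fun h => hno S fun b hb => mem_cent.mpr
    (congrArg Subtype.val (mem_cent.mp (show (⟨b, hb⟩ : S) ∈ T from h ▸ Subgroup.mem_top _)))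
  obtain ⟨n, hnN, hn⟩ := SetLike.exists_of_lt (Group.normalizerCondition_of_isNilpotent _ hlt)
  have hmem : n * ⟨x, hxS⟩ * n⁻¹ ∈ T := (Subgroup.mem_normalizer_iff.mp hnN _).mp (mem_cent.mpr rfl)
  have hxx : IsConj x (x * z) := by
    refine isConj_iff.mpr ⟨n, ?_⟩
    have hc : (n : G) * x * (n : G)⁻¹ * x = x * ((n : G) * x * (n : G)⁻¹) :=
      congrArg Subtype.val (mem_cent.mp hmem)
    rcases three hx hz0 hzx hxz h3 ((order_conj _ _).trans hx) hc with e | e | e
    · exact absurd (mem_cent.mpr (Subtype.ext (mul_inv_eq_iff_eq_mul.mp e))) hn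
    · refine absurd ?_ hzx
      have e' : (n : G) * x * (n : G)⁻¹ = (n : G) * z * (n : G)⁻¹ := by
        rw [e, hzc _ n.2, mul_inv_cancel_right]
      exact (mul_left_cancel (mul_right_cancel e')).symm
    · exact e
  have hnxz : ¬ IsConj x z := fun h => by
    obtain ⟨g, hg⟩ := isConj_iff.mp h.symm
    refine hno (g • S) ?_
    rw [Sylow.coe_subgroup_smul]
    rintro _ ⟨b, hb, rfl⟩
    refine mem_cent.mpr ?_
    show g * b * g⁻¹ * x = x * (g * b * g⁻¹)
    rw [← hg]
    calc g * b * g⁻¹ * (g * z * g⁻¹) = g * (b * z) * g⁻¹ := by group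
      _ = g * (z * b) * g⁻¹ := by rw [hzc b hb]
      _ = g * z * g⁻¹ * (g * b * g⁻¹) := by group
  have hxz2 : orderOf (x * z) = 2 := by
    obtain ⟨g, hg⟩ := isConj_iff.mp hxx
    rw [← hg, order_conj, hx]
  have h3' : Nat.card {u : ↥(Subgroup.centralizer ({x * z} : Set G)) // orderOf u = 2} ≤ 3 := by
    obtain ⟨g, hg⟩ := isConj_iff.mp hxx
    rw [← hg, card_conj_involutions]
    exact h3
  have hcomm : ∀ a b : G, a * b = b * a := by
    refine comm_of_commuting_class (z := z) (fun e => by rw [e, orderOf_one] at hz0; omega) fun g => ?_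
    have hz' : orderOf (g * z * g⁻¹) = 2 := (order_conj _ _).trans hz0
    have hzz : IsConj z (g * z * g⁻¹) := isConj_iff.mpr ⟨g, rfl⟩
    obtain ⟨w, hw, hwx, hwz⟩ := exists_common hx hz' fun h => hnxz (h.trans hzz.symm)
    have hfin : g * z * g⁻¹ = x ∨ g * z * g⁻¹ = z ∨ g * z * g⁻¹ = x * z →
        g * z * g⁻¹ * z = z * (g * z * g⁻¹) := by
      rintro (e | e | e)
      · rw [e, hxz]
      · rw [e]
      · rw [e, mul_assoc, ← mul_assoc z x z, hxz, mul_assoc]
    rcases three hx hz0 hzx hxz h3 hw hwx with e | e | e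
    · subst e; exact hfin (three hx hz0 hzx hxz h3 hz' hwz.symm)
    · subst e; exact hwz.symm
    · subst e
      have hzz' : z * (x * z) = x * z * z := by rw [← mul_assoc, hxz]
      have hne : z ≠ x * z := fun e => by
        have : x = 1 := by simpa using e.symm
        rw [this, orderOf_one] at hx; omega
      have hx' : x * z * z = x := by rw [mul_assoc, Involution.sq_of_orderOf_two hz0, mul_one]
      rcases three hxz2 hz0 hne hzz' h3' hz' hwz.symm with e | e | e
      · exact hfin (Or.inr (Or.inr e))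
      · exact hfin (Or.inr (Or.inl e))
      · exact hfin (Or.inl (e.trans hx'))
  exact hno S fun b _ => mem_cent.mpr (hcomm b x)

theorem one_class [IsSimpleGroup G] {x : G} (hx : orderOf x = 2)
    (h3 : Nat.card {u : ↥(Subgroup.centralizer ({x} : Set G)) // orderOf u = 2} ≤ 3) (S : Sylow 2 G)
    (hS : (S : Subgroup G) ≤ Subgroup.centralizer ({x} : Set G)) {u : G} (hu : orderOf u = 2) : IsConj x u := by
  haveI := Fact.mk Nat.prime_two
  have hxS : x ∈ (S : Subgroup G) := by
    have hp : IsPGroup 2 (Subgroup.zpowers x) := IsPGroup.of_card (n := 1) (by rw [Nat.card_zpowers, hx, pow_one])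
    have hsup : IsPGroup 2 ((S : Subgroup G) ⊔ Subgroup.zpowers x : Subgroup G) :=
      IsPGroup.to_sup_of_normal_right' S.2 hp (fun b hb => by
        refine Subgroup.mem_normalizer_iff.mpr fun y => ?_
        have hb' : ∀ c ∈ Subgroup.zpowers x, b * c * b⁻¹ = c := fun c hc => by
          obtain ⟨i, rfl⟩ := Subgroup.mem_zpowers_iff.mp hc
          exact mul_inv_eq_iff_eq_mul.mpr (Commute.zpow_right (mem_cent.mp (hS hb)) i).eq
        refine ⟨fun hy => by rw [hb' y hy]; exact hy, fun hy => ?_⟩
        have := hb' _ hy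
        rwa [mul_left_cancel (mul_right_cancel this)] at hy)
    rw [← S.3 hsup le_sup_left]
    exact Subgroup.mem_sup_right (Subgroup.mem_zpowers x)
  obtain ⟨R, hR⟩ := (IsPGroup.of_card (n := 1) (by rw [Nat.card_zpowers, hu, pow_one])
    : IsPGroup 2 (Subgroup.zpowers u)).exists_le_sylow
  obtain ⟨v, hv⟩ := MulAction.exists_smul_eq G R S
  have huS : v * u * v⁻¹ ∈ (S : Subgroup G) := by
    rw [← hv, Sylow.coe_subgroup_smul]
    exact ⟨u, hR (Subgroup.mem_zpowers u), rfl⟩
  suffices h : ∀ y ∈ (S : Subgroup G), orderOf y = 2 → IsConj x y from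
    (h _ huS ((order_conj _ _).trans hu)).trans (isConj_iff.mpr ⟨v, rfl⟩ : IsConj u (v * u * v⁻¹)).symm
  intro y hy hy2
  by_contra hne
  have hyc : y * x = x * y := mem_cent.mp (hS hy)
  have hyx : y ≠ x := fun e => hne (e ▸ IsConj.refl _)
  -- some conjugate of `x` different from `x` lies in `S`
  obtain ⟨g, hgS, hgne⟩ : ∃ g : G, g * x * g⁻¹ ∈ (S : Subgroup G) ∧ g * x * g⁻¹ ≠ x := by
    by_contra hall
    push Not at hall
    obtain ⟨N, hN, hodd, hNc⟩ := Cfsg.Agent.S0215.result S x hx hxS hall
    rcases hN.eq_bot_or_eq_top with e | e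
    · have hcen : ∀ g, x * g = g * x := fun g => by
        have := hNc g
        rw [e, Subgroup.mem_bot, mul_inv_eq_one, mul_inv_eq_iff_eq_mul] at this
        exact this
      have hn : (Subgroup.zpowers x).Normal := ⟨fun c hc g => by
        obtain ⟨i, rfl⟩ := Subgroup.mem_zpowers_iff.mp hc
        rw [mul_inv_eq_iff_eq_mul.mpr (Commute.zpow_right (hcen g).symm i).eq]
        exact hc⟩
      rcases hn.eq_bot_or_eq_top with e' | e'
      · rw [Subgroup.zpowers_eq_bot] at e'
        rw [e', orderOf_one] at hx; omega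
      · obtain ⟨i, hi⟩ := Subgroup.mem_zpowers_iff.mp (show y ∈ Subgroup.zpowers x from e' ▸ Subgroup.mem_top y)
        rw [← zpow_mod_orderOf, hx] at hi
        rcases Int.emod_two_eq_zero_or_one i with e'' | e'' <;>
          rw [show ((2 : ℕ) : ℤ) = 2 from rfl, e''] at hi
        · rw [← hi, zpow_zero, orderOf_one] at hy2; omega
        · exact hyx (by rw [← hi, zpow_one])
    · have h2 : 2 ∣ Nat.card G := hx ▸ orderOf_dvd_natCard x
      rw [e, Subgroup.card_top] at hodd
      exact Nat.not_even_iff_odd.mpr hodd (even_iff_two_dvd.mpr h2)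
  set a := g * x * g⁻¹ with ha
  have ha2 : orderOf a = 2 := (order_conj _ _).trans hx
  have hac : a * x = x * a := mem_cent.mp (hS hgS)
  have hxa : IsConj x a := isConj_iff.mpr ⟨g, rfl⟩
  have hy' : y = x * a := by
    rcases three hx ha2 hgne hac h3 hy2 hyc with e | e | e
    · exact absurd e hyx
    · exact absurd (e ▸ hxa) hne
    · exact e
  have h3a : Nat.card {u : ↥(Subgroup.centralizer ({a} : Set G)) // orderOf u = 2} ≤ 3 := by
    rw [ha, card_conj_involutions]; exact h3
  have hcomm : ∀ p q : G, p * q = q * p := by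
    refine comm_of_commuting_class (z := y) (fun e => by rw [e, orderOf_one] at hy2; omega) fun k => ?_
    have hk : orderOf (k * y * k⁻¹) = 2 := (order_conj _ _).trans hy2
    have hyk : IsConj y (k * y * k⁻¹) := isConj_iff.mpr ⟨k, rfl⟩
    obtain ⟨w, hw, hwx, hwk⟩ := exists_common hx hk fun h => hne (h.trans hyk.symm)
    have hend : k * y * k⁻¹ = y → k * y * k⁻¹ * y = y * (k * y * k⁻¹) := fun e => by rw [e]
    rcases three hx ha2 hgne hac h3 hw hwx with e | e | e
    · subst e
      rcases three hx ha2 hgne hac h3 hk hwk.symm with e | e | e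
      · exact absurd (hyk.trans (e ▸ IsConj.refl _)).symm hne
      · exact absurd ((hyk.trans (e ▸ IsConj.refl _)).trans hxa.symm).symm hne
      · exact hend (e.trans hy'.symm)
    · subst e
      rcases three ha2 hx hgne.symm hac.symm h3a hk hwk.symm with e | e | e
      · exact absurd ((hyk.trans (e ▸ IsConj.refl _)).trans hxa.symm).symm hne
      · exact absurd (hyk.trans (e ▸ IsConj.refl _)).symm hne
      · exact hend (e.trans (hac.trans hy'.symm))
    · rw [← hy'] at e; subst e; exact hwk.symm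
  exact hgne (by rw [ha, hcomm g x, mul_inv_cancel_right])

/-- Let G be a finite simple group and x an involution of G whose centralizer contains at most three involutions. Then C_G(x) contains a Sylow 2-subgroup of G, and all involutions of G are conjugate. -/
theorem result {G : Type*} [Group G] [Finite G] [IsSimpleGroup G] (x : G) (hx : orderOf x = 2)
    (h3 : Nat.card {u : ↥(Subgroup.centralizer ({x} : Set G)) // orderOf u = 2} ≤ 3) :
    (∃ S : Sylow 2 G, (S : Subgroup G) ≤ Subgroup.centralizer ({x} : Set G)) ∧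
      ∀ u v : G, orderOf u = 2 → orderOf v = 2 → IsConj u v := by
  obtain ⟨S, hS⟩ := exists_sylow hx h3
  exact ⟨⟨S, hS⟩, fun u v hu hv => (one_class hx h3 S hS hu).symm.trans (one_class hx h3 S hS hv)⟩

end Cfsg.Agent.S3279
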