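import Cfsg.Statements.S2820
import Cfsg.Agent.Lib.LocalStructure.PClosed

set_option autoImplicit false
open Cfsg
open Subgroup Cfsg.Agent.LocalStructure
open scoped commutatorElement

namespace Cfsg.Agent.S2820

/-- Let A and B be subnormal subgroups of the finite group H with A a p-group and B = O^p(B) (B generated by its elements of order prime to p). Then A normalizes B and B = O^p(AB), the subgroup of ⟨A, B⟩ generated by its elements of order prime to p. -/
theorem result {H : Type*} [Group H] [Finite H] {p : ℕ} [Fact p.Prime] (A B : Subgroup H) (hA : A.IsSubnormal) (hB : B.IsSubnormal) (hAp : IsPGroup p ↥A) (hBres : (Cfsg.pResidual p ↥B).map B.subtype = B) : A ≤ Subgroup.normalizer (B : Set H) ∧ (Cfsg.pResidual p ↥(A ⊔ B)).map (A ⊔ B).subtype = B := by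
  have hAO : A ≤ pCore p H := le_pCore_of_isSubnormal hA hAp
  have := pCore_normal p H
  have key : ∀ K : Subgroup H, K.IsSubnormal → B ≤ K →
      resOf p (B ⊔ pCore p H) ≤ K := by
    intro K hK
    induction hK with
    | top => exact fun _ => le_top
    | step K₁ K₂ hle _ hN ih =>
      intro hBK
      rw [resOf_le_iff]
      intro y hy hc
      have hy2 : y ∈ K₂ := ih (hBK.trans hle) (mem_resOf hy hc)
      obtain ⟨b, hb, o, ho, rfl⟩ :=
        exists_mul_of_mem_sup (le_normalizer_of_normal (H := pCore p H)) hy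
      have ho2 : o ∈ K₂ := (K₂.mul_mem_cancel_left (hle (hBK hb))).1 hy2
      have hn := (normal_subgroupOf_iff_le_normalizer hle).1 hN
      have hmem : b * o ∈ (pCore p H ⊓ K₂) ⊔ K₁ :=
        mul_mem (le_sup_right (a := pCore p H ⊓ K₂) (hBK hb))
          (le_sup_left (b := K₁) ⟨ho, ho2⟩)
      obtain ⟨k, hk⟩ := exists_pow_mem_of_mem_sup (inf_le_right.trans hn)
        ((isPGroup_pCore p).to_le inf_le_left) hmem
      exact mem_of_pow_mem hc hk
  have h1 : resOf p (A ⊔ B) ≤ B :=
    (resOf_mono (sup_le (hAO.trans le_sup_right) le_sup_left)).trans (key B hB le_rfl)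
  have h2 : resOf p (A ⊔ B) = B :=
    le_antisymm h1 (hBres.ge.trans (resOf_mono le_sup_right))
  refine ⟨?_, h2⟩
  calc A ≤ A ⊔ B := le_sup_left
    _ ≤ _ := le_normalizer_resOf p (A ⊔ B)
    _ = _ := by rw [h2]

end Cfsg.Agent.S2820
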