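import Cfsg.Statements.S1327
import Cfsg.Agent.Lib.Components.PComponentQuot
import Cfsg.Agent.Lib.PCore.HallHigman
-- import your own Cfsg.Agent.* helpers here

set_option autoImplicit false
open Cfsg

namespace Cfsg.Agent.S1327

open Cfsg.Agent.Components Subgroup
open scoped commutatorElement

/-- A finite group X is p-constrained if and only if its p-layer L_{p'}(X) is trivial (equivalently X / O_{p'}(X) has trivial layer). -/
theorem result {X : Type*} [Group X] [Finite X] (p : ℕ) [Fact p.Prime] : Cfsg.IsPConstrained p X ↔ Cfsg.pLayer p X = ⊥ := by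
  have hcore : Cfsg.pPrimeCore p (X ⧸ Cfsg.pPrimeCore p X) = ⊥ :=
    Cfsg.Agent.PCore.pPrimeCore_quotient_self_eq_bot
  rw [Cfsg.Agent.PCore.isPConstrained_iff, pLayer_eq_bot_iff, ← fittingSubgroup_eq_pCore hcore]
  constructor
  · intro h
    rw [layer_eq_bot_iff]
    rintro ⟨K, hK⟩
    have hle : K ≤ Cfsg.fittingSubgroup _ :=
      (le_centralizer_of_commutator_eq_bot (IsComponent.commutator_fittingSubgroup hK)).trans h
    exact IsComponent.not_isSolvable hK
      (Group.isSolvable_of_isSolvable_injective (f := inclusion hle) (inclusion_injective hle))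
  · intro h
    have := centralizer_generalizedFittingSubgroup_le (G := X ⧸ Cfsg.pPrimeCore p X)
    rwa [Cfsg.generalizedFittingSubgroup, h, bot_sup_eq] at this

end Cfsg.Agent.S1327
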