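import Cfsg.Statements.S1279
import Cfsg.Agent.Lib.Signalizer.Family
import Cfsg.Agent.Lib.PCore.PSolvable

set_option autoImplicit false
open Cfsg
open scoped Pointwise

namespace Cfsg.Agent.S1279

/-- Let A be a noncyclic elementary abelian p-subgroup of the finite group G such that C_G(a) is solvable for every non-identity a ∈ A. Then a ↦ O_{p'}(C_G(a)) is a solvable A-signalizer functor on G. -/
theorem result {G : Type*} [Group G] [Finite G] (p : ℕ) [Fact p.Prime] (A : Subgroup G) (hA : Cfsg.IsElementaryAbelian p A) (hA2 : p ^ 2 ≤ Nat.card ↥A) (hsolv : ∀ a ∈ A, a ≠ 1 → Group.IsSolvable ↥(Subgroup.centralizer ({a} : Set G))) : Cfsg.IsSolvableSignalizerFunctor p A (fun a => Cfsg.centralizerPPrimeCore p a) := by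
  refine ⟨⟨fun a _ _ => Subgroup.map_subtype_le _, fun a _ _ => ?_, fun a ha _ b hb x hx => ?_, fun a ha _ b hb hb1 => ?_⟩,
    fun a ha ha1 => ?_⟩
  · show ¬ p ∣ Nat.card (Cfsg.centralizerPPrimeCore p a)
    rw [Cfsg.centralizerPPrimeCore, Subgroup.card_map_of_injective (Subgroup.subtype_injective _)]
    exact Cfsg.Agent.PCore.not_dvd_card_pPrimeCore
  · obtain ⟨y, hy, rfl⟩ := hx
    have hbC : b ∈ Subgroup.centralizer ({a} : Set G) := Subgroup.mem_centralizer_singleton_iff.mpr
      (congrArg Subtype.val (hA.1.1.comm (⟨b, hb⟩ : A) ⟨a, ha⟩))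
    exact ⟨⟨b, hbC⟩ * y * ⟨b, hbC⟩⁻¹, Cfsg.Agent.PCore.pPrimeCore_normal.conj_mem y hy _, rfl⟩
  · set C := Subgroup.centralizer ({b} : Set G) with hC
    haveI : Group.IsSolvable C := hsolv b hb hb1
    have hab : a * b = b * a := congrArg Subtype.val (hA.1.1.comm (⟨a, ha⟩ : A) ⟨b, hb⟩)
    have hbC : b ∈ C := Subgroup.mem_centralizer_singleton_iff.mpr rfl
    have haC : a ∈ C := Subgroup.mem_centralizer_singleton_iff.mpr hab
    set Y := Cfsg.centralizerPPrimeCore p a ⊓ C with hY
    have hYC : Y ≤ C := inf_le_right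
    have hYa : Y ≤ Subgroup.centralizer ({a} : Set G) := inf_le_left.trans (Subgroup.map_subtype_le _)
    have h : Y.subgroupOf C ≤ Cfsg.pPrimeCore p C := by
      refine Cfsg.Agent.OddOrder.le_pPrimeCore_of_centralized (B := Subgroup.zpowers (⟨a, haC⟩ : C))
        (Cfsg.Agent.PCore.isPConstrained_of_isPSolvable Cfsg.Agent.PCore.isPSolvable_of_isSolvable) ?_ ?_ ?_ ?_
      · intro x
        obtain ⟨i, hi⟩ := Subgroup.mem_zpowers_iff.mp x.2
        refine ⟨1, Subtype.ext ?_⟩
        have e : (⟨a, haC⟩ : C) ^ p = 1 := Subtype.ext (hA.2 a ha)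
        rw [SubmonoidClass.coe_pow, ← hi, pow_one, ← zpow_natCast, ← zpow_mul, mul_comm, zpow_mul, zpow_natCast,
          e, one_zpow]
        rfl
      · rw [Nat.card_congr (Subgroup.subgroupOfEquivOfLe hYC).toEquiv]
        refine Nat.Coprime.coprime_dvd_left (Subgroup.card_dvd_of_le (inf_le_left : Y ≤ _)) ?_
        rw [Cfsg.centralizerPPrimeCore, Subgroup.card_map_of_injective (Subgroup.subtype_injective _)]
        exact Cfsg.Agent.PCore.coprime_card_pPrimeCore
      · rw [Cfsg.Agent.Signalizer.centralizer_zpowers]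
        intro y hy
        exact Subgroup.mem_centralizer_singleton_iff.mpr
          (Subtype.ext (Subgroup.mem_centralizer_singleton_iff.mp (hYa hy)))
      · rw [Cfsg.Agent.Signalizer.centralizer_zpowers]
        intro g hg
        have hga : (g : G) ∈ Subgroup.centralizer ({a} : Set G) := Subgroup.mem_centralizer_singleton_iff.mpr
          (congrArg Subtype.val (Subgroup.mem_centralizer_singleton_iff.mp hg))
        have key : ∀ c : C, (c : G) ∈ Subgroup.centralizer ({a} : Set G) → ∀ y ∈ Y.subgroupOf C,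
            c * y * c⁻¹ ∈ Y.subgroupOf C := by
          intro c hca y hy
          refine ⟨?_, C.mul_mem (C.mul_mem c.2 y.2) (C.inv_mem c.2)⟩
          obtain ⟨w, hw, hwy⟩ := hy.1
          refine ⟨⟨c, hca⟩ * w * ⟨c, hca⟩⁻¹, Cfsg.Agent.PCore.pPrimeCore_normal.conj_mem w hw _, ?_⟩
          show (c : G) * (w : G) * (c : G)⁻¹ = _
          rw [show (w : G) = (y : G) from hwy]
          rfl
        refine Subgroup.mem_normalizer_iff.mpr fun y => ⟨key g hga y, fun h => ?_⟩
        simpa [mul_assoc] using key g⁻¹ (Subgroup.inv_mem _ hga) _ h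
    exact (Subgroup.map_subgroupOf_eq_of_le hYC).ge.trans (Subgroup.map_mono h)
  · haveI := hsolv a ha ha1
    exact Cfsg.Agent.Coprime.isSolvable_map _ _ inferInstance

end Cfsg.Agent.S1279
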