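import Cfsg.Statements.S4444
import Cfsg.Agent.Lib.Glauberman.Operators

set_option autoImplicit false
open Cfsg

namespace Cfsg.Agent.S4444

/-- The Glauberman correspondence for a p-group of operators. Inside a finite group Γ let S normalise G with the orders of G and S coprime, S a p-group, and let C = G ⊓ C(S) be the fixed points. Call an irreducible character χ of G S-invariant when χ(s g s⁻¹) = χ(g) for s ∈ S, g ∈ G. Then: (i) for every S-invariant χ there is exactly one irreducible character β of C whose multiplicity [χ_C, β] in the restriction of χ is not divisible by p; (ii) that multiplicity is ≡ 1 or ≡ −1 (mod p); (iii) distinct S-invariant χ give distinct β; (iv) every irreducible character of C arises in this way. So χ ↦ β is a bijection from the S-invariant irreducible characters of G onto the irreducible characters of C. -/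
theorem result {Γ : Type*} [Group Γ] [Fintype Γ] (G S : Subgroup Γ) [Fintype G] (hnorm : ∀ s ∈ S, ∀ g ∈ G, s * g * s⁻¹ ∈ G) (hcop : (Nat.card G).Coprime (Nat.card S)) (p : ℕ) (hp : p.Prime) (hS : IsPGroup p S) (C : Subgroup Γ) [Fintype C] (hC : C = G ⊓ Subgroup.centralizer (S : Set Γ)) (hCG : C ≤ G) : (∀ χ : Cfsg.IrrCharacter G, (∀ s ∈ S, ∀ g g' : G, (g' : Γ) = s * g * s⁻¹ → (χ : G → ℂ) g' = (χ : G → ℂ) g) → ∃! β : Cfsg.IrrCharacter C, ∃ m : ℕ, Cfsg.classInner (fun c : C => (χ : G → ℂ) ⟨c, hCG c.2⟩) (β : C → ℂ) = (m : ℂ) ∧ ¬ p ∣ m) ∧ (∀ χ : Cfsg.IrrCharacter G, (∀ s ∈ S, ∀ g g' : G, (g' : Γ) = s * g * s⁻¹ → (χ : G → ℂ) g' = (χ : G → ℂ) g) → ∀ β : Cfsg.IrrCharacter C, ∀ m : ℕ, Cfsg.classInner (fun c : C => (χ : G → ℂ) ⟨c, hCG c.2⟩) (β : C → ℂ) = (m : ℂ) → ¬ p ∣ m → ((m : ℤ) ≡ 1 [ZMOD p] ∨ (m : ℤ) ≡ -1 [ZMOD p])) ∧ (∀ χ χ' : Cfsg.IrrCharacter G, (∀ s ∈ S, ∀ g g' : G, (g' : Γ) = s * g * s⁻¹ → (χ : G → ℂ) g' = (χ : G → ℂ) g) → (∀ s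 ∈ S, ∀ g g' : G, (g' : Γ) = s * g * s⁻¹ → (χ' : G → ℂ) g' = (χ' : G → ℂ) g) → ∀ β : Cfsg.IrrCharacter C, ∀ m m' : ℕ, Cfsg.classInner (fun c : C => (χ : G → ℂ) ⟨c, hCG c.2⟩) (β : C → ℂ) = (m : ℂ) → ¬ p ∣ m → Cfsg.classInner (fun c : C => (χ' : G → ℂ) ⟨c, hCG c.2⟩) (β : C → ℂ) = (m' : ℂ) → ¬ p ∣ m' → χ = χ') ∧ (∀ β : Cfsg.IrrCharacter C, ∃ χ : Cfsg.IrrCharacter G, (∀ s ∈ S, ∀ g g' : G, (g' : Γ) = s * g * s⁻¹ → (χ : G → ℂ) g' = (χ : G → ℂ) g) ∧ ∃ m : ℕ, Cfsg.classInner (fun c : C => (χ : G → ℂ) ⟨c, hCG c.2⟩) (β : C → ℂ) = (m : ℂ) ∧ ¬ p ∣ m) := by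
  haveI := Fact.mk hp
  haveI : Finite Γ := inferInstance
  by_cases hpG : p ∣ Nat.card G
  · -- then `S` is trivial and `C = G`
    obtain ⟨k, hk⟩ := hS.exists_card_eq
    have hS1 : S = ⊥ := by
      refine Subgroup.eq_bot_of_card_eq S ?_
      rcases Nat.eq_zero_or_pos k with rfl | hk0
      · simpa using hk
      · exact absurd (Nat.eq_one_of_dvd_coprimes hcop hpG (hk ▸ dvd_pow_self p hk0.ne'))
          hp.one_lt.ne'
    subst hS1
    have hCG' : C = G := by
      rw [hC, inf_eq_left]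
      intro x _
      rw [Subgroup.mem_centralizer_iff]
      intro y hy
      rw [Subgroup.mem_bot.1 hy, one_mul, mul_one]
    subst hCG'
    have hfun : ∀ χ : Cfsg.IrrCharacter C, (fun c : C => (χ : C → ℂ) ⟨c, hCG c.2⟩) = (χ : C → ℂ) :=
      fun χ => rfl
    have hG' : ∀ (i : Fintype C) (χ β : Cfsg.IrrCharacter C) (m : ℕ),
        @Cfsg.classInner C _ i (fun c : C => (χ : C → ℂ) ⟨c, hCG c.2⟩) (β : C → ℂ) = (m : ℂ) →
        m = if χ = β then 1 else 0 := by
      intro i χ β m hm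
      letI := i
      rw [hfun] at hm
      have h1 : Cfsg.classInner (χ : C → ℂ) (β : C → ℂ) = if χ = β then 1 else 0 := by
        convert Char.classInner_irr χ β using 2
      rw [h1] at hm
      split_ifs at hm ⊢ <;> exact_mod_cast hm.symm
    have hnd : ¬ p ∣ 1 := hp.not_dvd_one
    refine ⟨fun χ _ => ?_, fun χ _ β m hm hpm => ?_, fun χ χ' _ _ β m m' hm hpm hm' hpm' => ?_,
      fun β => ?_⟩
    · refine ⟨χ, ⟨1, ?_, hnd⟩, fun β ⟨m, hm, hpm⟩ => ?_⟩
      · rw [hfun, Nat.cast_one]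
        convert Char.classInner_irr_self χ.2
      · by_contra hne
        rw [hG' _ χ β m hm, if_neg (Ne.symm hne)] at hpm
        exact hpm (dvd_zero p)
    · left
      have := hG' _ χ β m hm
      by_cases he : χ = β
      · rw [this, if_pos he]; rfl
      · rw [this, if_neg he] at hpm; exact absurd (dvd_zero p) hpm
    · have h1 := hG' _ χ β m hm
      have h2 := hG' _ χ' β m' hm'
      by_cases he : χ = β
      · by_cases he' : χ' = β
        · rw [he, he']
        · rw [h2, if_neg he'] at hpm'; exact absurd (dvd_zero p) hpm'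
      · rw [h1, if_neg he] at hpm; exact absurd (dvd_zero p) hpm
    · refine ⟨β, fun s hs g g' he => ?_, 1, ?_, hnd⟩
      · rw [Subgroup.mem_bot.1 hs] at he
        simp only [one_mul, inv_one, mul_one] at he
        rw [Subtype.ext he]
      · rw [hfun, Nat.cast_one]
        convert Char.classInner_irr_self β.2
  · have hι : Glauberman.IsFixedEmbedding (Glauberman.conjOn hnorm) (Subgroup.inclusion hCG) := by
      refine ⟨Subgroup.inclusion_injective hCG, fun g => ?_⟩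
      constructor
      · rintro ⟨c, rfl⟩ s
        apply Subtype.ext
        have hc : (c : Γ) ∈ Subgroup.centralizer (S : Set Γ) := by
          exact (hC.le c.2).2
        have := Subgroup.mem_centralizer_iff.1 hc (s : Γ) s.2
        show (s : Γ) * c * (s : Γ)⁻¹ = c
        rw [this, mul_inv_cancel_right]
      · intro h
        refine ⟨⟨g, ?_⟩, Subtype.ext rfl⟩
        rw [hC]
        refine ⟨g.2, Subgroup.mem_centralizer_iff.2 fun s hs => ?_⟩
        have := congrArg Subtype.val (h ⟨s, hs⟩)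
        simp only [Glauberman.coe_conjOn] at this
        exact mul_inv_eq_iff_eq_mul.1 this
    have hmult : ∀ (χ : Cfsg.IrrCharacter G) (β : Cfsg.IrrCharacter C) (m : ℕ),
        Cfsg.classInner (fun c : C => (χ : G → ℂ) ⟨c, hCG c.2⟩) (β : C → ℂ) = (m : ℂ) →
        m = Glauberman.mult (Subgroup.inclusion hCG) χ β := by
      intro χ β m hm
      have h1 : Cfsg.classInner (fun c : C => (χ : G → ℂ) ⟨c, hCG c.2⟩) (β : C → ℂ) = _ :=
        Glauberman.mult_eq (ι := Subgroup.inclusion hCG) χ β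
      exact Nat.cast_injective (R := ℂ) (hm.symm.trans h1)
    refine ⟨fun χ hχ => ?_, fun χ hχ β m hm hpm => ?_, fun χ χ' hχ hχ' β m m' hm hpm hm' hpm' => ?_,
      fun β => ?_⟩
    · obtain ⟨β, hβ, huniq⟩ := Glauberman.existsUnique_corr hS hι hpG
        ((Glauberman.isFix_conjOn_iff hnorm _).2 hχ)
      refine ⟨β, ⟨_, Glauberman.mult_eq (ι := Subgroup.inclusion hCG) χ β, hβ.2⟩,
        fun γ ⟨m, hm, hpm⟩ => huniq γ ⟨hβ.1, hmult χ γ m hm ▸ hpm⟩⟩
    · have hb : Glauberman.Corr p (Glauberman.conjOn hnorm) (Subgroup.inclusion hCG) χ β :=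
        ⟨(Glauberman.isFix_conjOn_iff hnorm _).2 hχ, hmult χ β m hm ▸ hpm⟩
      rw [hmult χ β m hm]
      exact Glauberman.mult_modEq hS hι hpG hb
    · exact Glauberman.corr_left_unique hS hι hpG
        (β := β) ⟨(Glauberman.isFix_conjOn_iff hnorm _).2 hχ, hmult χ β m hm ▸ hpm⟩
        ⟨(Glauberman.isFix_conjOn_iff hnorm _).2 hχ', hmult χ' β m' hm' ▸ hpm'⟩
    · obtain ⟨χ, hχ⟩ := Glauberman.exists_corr_left hS hι hpG β
      exact ⟨χ, (Glauberman.isFix_conjOn_iff hnorm _).1 hχ.1, _,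
        Glauberman.mult_eq (ι := Subgroup.inclusion hCG) χ β, hχ.2⟩

end Cfsg.Agent.S4444
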