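import Cfsg.Statements.S4642
import Cfsg.Agent.Lib.BlockLow.FongConstrained
import Cfsg.Agent.Lib.Blocks.FirstMain
import Cfsg.Agent.Lib.Char.Monomial
import Cfsg.Agent.S4444
-- import your own Cfsg.Agent.* helpers here

set_option autoImplicit false
open Cfsg

namespace Cfsg.Agent.S4642

set_option linter.style.haveILetI false

open scoped ComplexConjugate
open Cfsg

universe u

variable {G : Type u} [Group G] [Fintype G] {p : ℕ} [Fact p.Prime] {M : Ideal AlgInt}

/-- Existence: a subgroup of a defect group has a block of its centraliser inducing `B`. -/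
theorem exists_inducing_centralizer [M.IsMaximal] (hpM : (p : AlgInt) ∈ M) {R : Subgroup G}
    (hR : IsPGroup p R) {B : Set (IrrCharacter G)} (hB : IsPBlock M B) {D : Subgroup G}
    (hD : IsDefectGroup p M B D) (hRD : ∃ x : G, R.map (MulAut.conj x).toMonoidHom ≤ D) :
    ∃ b, IsInducedBlock M (Subgroup.centralizer (R : Set G)) b B := by
  classical
  set H := Subgroup.centralizer (R : Set G) with hH
  have hCH : Subgroup.centralizer (R : Set G) ≤ H := le_rfl
  have hHN : H ≤ Subgroup.normalizer (R : Set G) := Subgroup.centralizer_le_normalizer _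
  obtain ⟨g, hgB, hg⟩ := (Blocks.exists_support_centralizing_iff hpM hB hD hR).2 hRD
  set e := Blocks.brH R H (Blocks.blockIdem B) with he
  have heC : Blocks.IsCentralElt e :=
    Blocks.isCentralElt_brH hHN (Blocks.isCentralElt_blockIdem B)
  have heS : Blocks.SCoeff M e := Blocks.scoeff_brH (Blocks.scoeff_blockIdem hB)
  have heq : ∀ z : MonoidAlgebra ℂ G, Blocks.brH R H z = Blocks.resH H z := fun z =>
    Blocks.alg_ext fun h => by rw [Blocks.coeff_brH, Blocks.coeff_resH, if_pos h.2]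
  by_contra hno
  have hall : ∀ ξ : IrrCharacter H, MemLocalIdeal M (Blocks.omega ξ.1 e) := fun ξ => by
    by_contra h
    refine hno ⟨blockOf M ξ.1, Blocks.isPBlock_blockOf ξ, hB, fun ξ' hξ' χ hχ y => ?_⟩
    rw [← Blocks.omega_resH_classSum, ← heq,
      ← Blocks.omega_classSum (Blocks.irr_classFun χ)]
    have h1 := Blocks.SameBlock.omega_sub (M := M)
      (Blocks.sameBlock_of_mem (Blocks.isPBlock_blockOf ξ) hξ' (Blocks.mem_blockOf_self ξ))
      (Blocks.isCentralElt_brH (R := ℂ) hHN (Blocks.isCentralElt_classSum y))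
      (Blocks.scoeff_brH (Blocks.scoeff_classSum y))
    simpa using Blocks.MemLocalIdeal.add h1
      (Blocks.omega_brH_eq hpM hR hCH hHN ξ hB h hχ (Blocks.isCentralElt_classSum y)
        (Blocks.scoeff_classSum y))
  have hN := Blocks.mcoeff_pow_of_omega heC heS hall
  have hidem : Blocks.redA M e * Blocks.redA M e = Blocks.redA M e := by
    rw [he, ← Blocks.redA_brH_mul hpM hR hCH (Blocks.isCentralElt_blockIdem B)
      (Blocks.isCentralElt_blockIdem B) (Blocks.scoeff_blockIdem hB) (Blocks.scoeff_blockIdem hB),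
      Blocks.blockIdem_mul_self]
  have hpow : ∀ k, 1 ≤ k → Blocks.redA M e ^ k = Blocks.redA M e := fun k hk => by
    induction k, hk using Nat.le_induction with
    | base => rw [pow_one]
    | succ k _ ih => rw [pow_succ, ih, hidem]
  rw [← Blocks.redA_eq_zero_iff (Blocks.SCoeff.pow heS _), Blocks.redA_pow heS,
    hpow _ (Fintype.card_pos_iff.2 ⟨Char.trivialChar H⟩)] at hN
  have := (Blocks.redA_eq_zero_iff heS).1 hN ⟨g, hg⟩
  rw [he, Blocks.coeff_brH, if_pos hg, Blocks.coeff_blockIdem] at this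
  exact hgB this

variable (K : Subgroup G) [K.Normal] [Fintype K]

/-- `θ` restricted to `C ∩ K`, as a function on `K.subgroupOf C`. -/
def resTo (C : Subgroup G) (θ : K → ℂ) : K.subgroupOf C → ℂ :=
  fun n => θ ⟨((n : C) : G), n.2⟩

/-- Constituents of members of an inducing block have multiplicity prime to `p` in `θ`. -/
theorem not_dvd_mult [M.IsMaximal] (hpM : (p : AlgInt) ∈ M) (hKp : ¬ p ∣ Nat.card K)
    (θ : IrrCharacter K)
    (hinv : ∀ g y : G, extendByZero K θ.1 (g * y * g⁻¹) = extendByZero K θ.1 y)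
    {B : Set (IrrCharacter G)} {χ : IrrCharacter G} (hχ : χ ∈ B)
    (hover : classInner (Char.resFun K χ.1) θ.1 ≠ 0)
    {C : Subgroup G} {f : Set (IrrCharacter C)} (hf : IsInducedBlock M C f B)
    {ξ : IrrCharacter C} (hξ : ξ ∈ f) [Fintype C] [Fintype (K.subgroupOf C)]
    (φ : IrrCharacter (K.subgroupOf C))
    (hφ : classInner (Char.resFun (K.subgroupOf C) ξ.1) φ.1 ≠ 0) (m : ℕ)
    (hm : classInner (resTo K C θ.1) φ.1 = (m : ℂ)) : ¬ p ∣ m := by
  classical
  intro hdvd
  obtain ⟨j, rfl⟩ := hdvd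
  set z := BlockLow.sElt K K θ.1 1 with hz
  have hzc := BlockLow.isCentralElt_sElt_one (N := K) θ.1 hinv
  have hzS := BlockLow.scoeff_sElt (N := K) hpM hKp θ (1 : G)
  have h1 : Blocks.omega χ.1 z = 1 :=
    BlockLow.omega_sElt_one (N := K) le_rfl θ (fun n => rfl) hinv hover
  have h2 := Blocks.IsInducedBlock.omega_sub hf hξ hχ hzc hzS
  rw [h1] at h2
  -- the value at `ξ`
  have hres : Blocks.omega ξ.1 (Blocks.resH C z) =
      θ.1 1 / (Nat.card K : ℂ) * ((Nat.card (K.subgroupOf C) : ℂ) * classInner (Char.resFun (K.subgroupOf C) ξ.1) (resTo K C θ.1)) /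
        ξ.1 1 := by
    rw [Blocks.omega, Blocks.chiL_eq_sum]
    congr 1
    rw [← Finset.sum_filter_add_sum_filter_not Finset.univ (· ∈ (K.subgroupOf C)),
      Finset.sum_eq_zero (s := Finset.univ.filter fun y => ¬ y ∈ (K.subgroupOf C)) fun y hy => by
        rw [Blocks.coeff_resH, BlockLow.coeff_sElt, if_neg (fun hh => (Finset.mem_filter.1 hy).2
          (by simpa [Subgroup.mem_subgroupOf] using hh)), zero_mul],
      add_zero, Finset.sum_subtype _ (by simp : ∀ y : C, y ∈ Finset.univ.filter (· ∈ (K.subgroupOf C)) ↔ y ∈ (K.subgroupOf C))]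
    rw [Finset.sum_congr rfl fun (n : (K.subgroupOf C)) _ => (show (Blocks.resH C z).coeff (n : C) * ξ.1 n =
        θ.1 1 / (Nat.card K : ℂ) * (Char.resFun (K.subgroupOf C) ξ.1 n * conj (resTo K C θ.1 n)) by
      rw [Blocks.coeff_resH, BlockLow.coeff_sElt, if_pos (show (1 : G)⁻¹ * (((n : C)) : G) ∈ K by rw [inv_one, one_mul]; exact n.2),
        show extendByZero K θ.1 ((n : C) : G) = resTo K C θ.1 n from
          Char.extendByZero_coe K θ.1 ⟨_, n.2⟩, Char.resFun_apply]
      ring), ← Finset.mul_sum, classInner]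
    have : (Nat.card (K.subgroupOf C) : ℂ) ≠ 0 := Nat.cast_ne_zero.2 Nat.card_pos.ne'
    field_simp
  -- multiplicities are constant on the orbit
  have horb : ∀ η ∈ Char.orbitFinset (K.subgroupOf C) φ, classInner η.1 (resTo K C θ.1) = ((p * j : ℕ) : ℂ) := by
    intro η hη
    obtain ⟨c, rfl⟩ := (Char.mem_orbitFinset (N := (K.subgroupOf C))).1 hη
    have hfix : Char.conjFun (K.subgroupOf C) (resTo K C θ.1) c = resTo K C θ.1 := by
      refine (Char.conjFun_eq_self_iff (K.subgroupOf C) _ c).2 fun n n' h => ?_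
      have := hinv (c : G) ((n : C) : G)
      rw [show ((c : G) * ((n : C) : G) * (c : G)⁻¹) = ((n' : C) : G) by
        simpa using (congrArg Subtype.val h).symm] at this
      exact ((Char.extendByZero_coe K θ.1 ⟨_, n'.2⟩).symm.trans this).trans
        (Char.extendByZero_coe K θ.1 ⟨_, n.2⟩)
    rw [show (Char.conjChar (K.subgroupOf C) φ c).1 = Char.conjFun (K.subgroupOf C) φ.1 c from rfl, ← hfix,
      Char.classInner_conjFun, ← Char.conj_classInner, hm, Complex.conj_natCast]
  have hdeg := Char.apply_one_eq_mul_card_orbit (K.subgroupOf C) ξ φ hφ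
  have hr : ((Char.orbitFinset (K.subgroupOf C) φ).card : ℂ) ≠ 0 := by
    rw [← Char.index_inertia]
    exact Nat.cast_ne_zero.2 Subgroup.index_ne_zero_of_finite
  have hsum : classInner (Char.resFun (K.subgroupOf C) ξ.1) (resTo K C θ.1) =
      classInner (Char.resFun (K.subgroupOf C) ξ.1) φ.1 * ((Char.orbitFinset (K.subgroupOf C) φ).card * ((p * j : ℕ) : ℂ)) := by
    conv_lhs => rw [Char.resFun_eq_smul_orbitSum (K.subgroupOf C) ξ φ hφ]
    rw [Char.classInner_smul_left, Char.orbitSum, Char.classInner_sum_left,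
      Finset.sum_congr rfl horb, Finset.sum_const, nsmul_eq_mul]
  rw [hres, hsum, hdeg, Char.apply_one_eq_degree θ, Char.apply_one_eq_degree φ] at h2
  have hd0 : Char.degree φ ≠ 0 := fun h0 => Char.IsIrrCharacter.apply_one_ne_zero φ.2
    (by rw [Char.apply_one_eq_degree, h0, Nat.cast_zero])
  have hK0p : ¬ p ∣ Char.degree φ := fun h => hKp ((h.trans (Char.degree_dvd_natCard φ)).trans
    (Subgroup.card_dvd_of_injective ((C.subtype.comp (K.subgroupOf C).subtype).codRestrict K fun n => n.2)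
      fun a b h => Subtype.ext (Subtype.ext (congrArg Subtype.val h :))))
  have hval : (Char.degree θ : ℂ) / (Nat.card K : ℂ) * ((Nat.card (K.subgroupOf C) : ℂ) *
      (classInner (Char.resFun (K.subgroupOf C) ξ.1) φ.1 * ((Char.orbitFinset (K.subgroupOf C) φ).card * ((p * j : ℕ) : ℂ)))) /
      (classInner (Char.resFun (K.subgroupOf C) ξ.1) φ.1 * ((Char.orbitFinset (K.subgroupOf C) φ).card * (Char.degree φ : ℂ))) =
      (p : ℂ) * ((j : ℂ) * ((Nat.card (K.subgroupOf C) : ℂ) * ((Char.degree θ : ℂ) *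
        ((Nat.card K : ℂ)⁻¹ * (Char.degree φ : ℂ)⁻¹)))) := by
    have : (Char.degree φ : ℂ) ≠ 0 := Nat.cast_ne_zero.2 hd0
    have : (Nat.card K : ℂ) ≠ 0 := Nat.cast_ne_zero.2 Nat.card_pos.ne'
    push_cast
    field_simp
  rw [hval] at h2
  have h3 : MemLocalIdeal M ((p : ℂ) * ((j : ℂ) * ((Nat.card (K.subgroupOf C) : ℂ) * ((Char.degree θ : ℂ) *
      ((Nat.card K : ℂ)⁻¹ * (Char.degree φ : ℂ)⁻¹))))) :=
    Blocks.MemLocalIdeal.mul_right (Blocks.memLocalIdeal_p hpM) <|
      Blocks.MemLocalRing.mul (Blocks.memLocalRing_natCast j) <|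
        Blocks.MemLocalRing.mul (Blocks.memLocalRing_natCast _) <|
          Blocks.MemLocalRing.mul (Blocks.memLocalRing_natCast _) <|
            Blocks.MemLocalRing.mul (Blocks.memLocalRing_inv_natCast hpM hKp)
              (Blocks.memLocalRing_inv_natCast hpM hK0p)
  exact Blocks.not_memLocalIdeal_one (M := M) (by simpa using Blocks.MemLocalIdeal.sub h3 h2)

/-- Two blocks of `C(R)` inducing `B` coincide. -/
theorem eq_of_inducing (hM : IsPModular p M) (hKp : ¬ p ∣ Nat.card K)
    (hX : Subgroup.centralizer (pCore p (G ⧸ K) : Set (G ⧸ K)) ≤ pCore p (G ⧸ K))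
    (θ : IrrCharacter K)
    (hinv : ∀ g y : G, extendByZero K θ.1 (g * y * g⁻¹) = extendByZero K θ.1 y)
    {B : Set (IrrCharacter G)} {χ : IrrCharacter G} (hχ : χ ∈ B)
    (hover : classInner (Char.resFun K χ.1) θ.1 ≠ 0) {R : Subgroup G} (hR : IsPGroup p R)
    {C : Subgroup G} (hC : C = Subgroup.centralizer (R : Set G))
    {f f' : Set (IrrCharacter C)}
    (hf : IsInducedBlock M C f B) (hf' : IsInducedBlock M C f' B) : f = f' := by
  classical
  haveI := hM.2.1
  have hp : p.Prime := Fact.out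
  letI : Fintype C := Fintype.ofFinite C
  letI : Fintype (K.subgroupOf C) := Fintype.ofFinite _
  letI : Fintype ↥(K ⊓ C) := Fintype.ofFinite _
  have hcop : (Nat.card K).Coprime (Nat.card R) := by
    obtain ⟨k, hk⟩ := hR.exists_card_eq
    rw [hk]
    exact Nat.Coprime.pow_right k ((hp.coprime_iff_not_dvd.2 hKp).symm)
  obtain ⟨h4, -⟩ := S4444.result K R (fun s _ g hg => Subgroup.Normal.conj_mem inferInstance g hg s)
    hcop p hp hR (K ⊓ C) (by rw [hC]) inf_le_left
  obtain ⟨β, -, hβ⟩ := h4 θ fun s _ g g' h => by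
    have := hinv s (g : G)
    rw [← h, show extendByZero K θ.1 (g' : G) = θ.1 g' from Char.extendByZero_coe K θ.1 g',
      show extendByZero K θ.1 (g : G) = θ.1 g from Char.extendByZero_coe K θ.1 g] at this
    exact this
  let e : ↥(K.subgroupOf C) ≃* ↥(K ⊓ C) :=
    { toFun := fun n => ⟨((n : C) : G), n.2, (n : C).2⟩
      invFun := fun k => ⟨⟨(k : G), k.2.2⟩, k.2.1⟩
      left_inv := fun _ => rfl
      right_inv := fun _ => rfl
      map_mul' := fun _ _ => rfl }
  have hconst : ∀ {b : Set (IrrCharacter C)}, IsInducedBlock M C b B → ∀ ξ ∈ b,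
      ∀ φ : IrrCharacter (K.subgroupOf C),
        classInner (Char.resFun (K.subgroupOf C) ξ.1) φ.1 ≠ 0 →
          (fun k => φ.1 (e.symm k)) = β.1 := by
    intro b hb ξ hξ φ hφ
    obtain ⟨m, hm⟩ := Char.IsCharacter.exists_nat_classInner
      (χ := resTo K C θ.1) (ψ := φ.1) (Char.IsCharacter.comp (Char.irr_isCharacter θ)
        ((C.subtype.comp (K.subgroupOf C).subtype).codRestrict K fun n => n.2))
      (Char.irr_isCharacter φ)
    have hnd := not_dvd_mult K hM.2.2 hKp θ hinv hχ hover hb hξ φ hφ m hm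
    let φ' : IrrCharacter ↥(K ⊓ C) :=
      ⟨fun k => φ.1 (e.symm k), Char.IsIrrCharacter.comp_surjective φ.2 e.symm.toMonoidHom e.symm.surjective⟩
    exact congrArg Subtype.val (hβ φ' ⟨m, (Char.classInner_comp_mulEquiv e.symm
      (resTo K C θ.1) φ.1).trans hm, hnd⟩)
  obtain ⟨ξ, hξ⟩ := Blocks.block_nonempty hf.1
  obtain ⟨ξ', hξ'⟩ := Blocks.block_nonempty hf'.1
  obtain ⟨φ, hφ⟩ := Char.exists_constituent (N := K.subgroupOf C) ξ
  obtain ⟨φ', hφ'⟩ := Char.exists_constituent (N := K.subgroupOf C) ξ'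
  have heq : φ' = φ := Subtype.ext (funext fun n => by
    have := congrFun ((hconst hf' ξ' hξ' φ' hφ').trans (hconst hf ξ hξ φ hφ).symm) (e n)
    simpa using this)
  subst heq
  have hinvφ : ∀ (c : C) (n : K.subgroupOf C),
      φ'.1 ⟨c * n * c⁻¹, Subgroup.Normal.conj_mem inferInstance _ n.2 c⟩ = φ'.1 n := by
    intro c n
    have h1 : classInner (Char.resFun (K.subgroupOf C) ξ.1) (Char.conjChar (K.subgroupOf C) φ' c).1 ≠ 0 := by
      have hfix : Char.conjFun (K.subgroupOf C) (Char.resFun (K.subgroupOf C) ξ.1) c =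
          Char.resFun (K.subgroupOf C) ξ.1 := by
        refine (Char.conjFun_eq_self_iff _ _ c).2 fun a a' h => ?_
        rw [Char.resFun_apply, Char.resFun_apply, show (a' : C) = c * a * c⁻¹ from h]
        exact Blocks.irr_classFun ξ _ _
      rw [← hfix, show (Char.conjChar (K.subgroupOf C) φ' c).1 =
        Char.conjFun (K.subgroupOf C) φ'.1 c from rfl, Char.classInner_conjFun]
      exact hφ
    have h2 := (hconst hf ξ hξ _ h1).trans (hconst hf ξ hξ φ' hφ).symm
    have h3 : Char.conjFun (K.subgroupOf C) φ'.1 c = φ'.1 := funext fun a => by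
      have := congrFun h2 (e a)
      simp only [MulEquiv.symm_apply_apply] at this
      exact this
    exact (Char.conjFun_eq_self_iff _ _ c).1 h3 n _ rfl
  let ι : C ⧸ K.subgroupOf C →* G ⧸ K := QuotientGroup.map _ K C.subtype le_rfl
  have hι : Function.Injective ι := by
    rw [← MonoidHom.ker_eq_bot_iff, eq_bot_iff]
    intro q hq
    obtain ⟨c, rfl⟩ := QuotientGroup.mk_surjective q
    have hc : (c : G) ∈ K := (QuotientGroup.eq_one_iff _).1 (MonoidHom.mem_ker.1 hq)
    exact Subgroup.mem_bot.2 ((QuotientGroup.eq_one_iff c).2 hc)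
  have hrange : ι.range = Subgroup.centralizer (R.map (QuotientGroup.mk' K) : Set (G ⧸ K)) := by
    rw [← PCore.map_centralizer_mk' K (hp.coprime_iff_not_dvd.2 hKp).symm hR]
    ext q
    constructor
    · rintro ⟨q', rfl⟩
      obtain ⟨c, rfl⟩ := QuotientGroup.mk_surjective q'
      exact ⟨c, hC ▸ c.2, rfl⟩
    · rintro ⟨c, hc, rfl⟩
      exact ⟨((⟨c, hC ▸ hc⟩ : C) : C ⧸ K.subgroupOf C), rfl⟩
  obtain ⟨B₀, hB₀, hB₀mem, -⟩ := FongConstrained.exists_block_over p M hM (K.subgroupOf C)
    (fun h => hKp (h.trans (Subgroup.card_dvd_of_injective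
      ((C.subtype.comp (K.subgroupOf C).subtype).codRestrict K fun n => n.2)
      fun a b h => Subtype.ext (Subtype.ext (congrArg Subtype.val h :)))))
    (FongConstrained.centralizer_pCore_le_of_centralizer_range hX (hR.map _) ι hι hrange) φ' hinvφ
  have e1 : f = B₀ := (Blocks.block_eq hf.1 hξ).trans (Blocks.block_eq hB₀ ((hB₀mem ξ).2 hφ)).symm
  have e2 : f' = B₀ := (Blocks.block_eq hf'.1 hξ').trans (Blocks.block_eq hB₀ ((hB₀mem ξ').2 hφ')).symm
  rw [e1, e2]

/-- Let G be a finite group, p a prime, M a maximal ideal of the algebraic integers containing p, K the largest normal subgroup of G of order prime to p, and L the preimage in G of the largest normal p-subgroup of G/K. Let Q be a Sylow p-subgroup of L and suppose C_G(Q) ≤ L. Let θ be an irreducible character of K invariant under conjugation by every element of G, and let B be the set of irreducible characters of G whose restriction to K contains θ. Then B is a block of G, every Sylow p-subgroup of G is a defect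 group of B, and B is of principal type: for every p-subgroup R of G exactly one block of C_G(R) induces B. -/
theorem result {G : Type*} [Group G] [Fintype G] (p : ℕ) [Fact p.Prime] (M : Ideal Cfsg.AlgInt) (hM : Cfsg.IsPModular p M) (K : Subgroup G) (hK : K = Cfsg.pPrimeCore p G) [Fintype K] (L : Subgroup G) (hL : L = Cfsg.pPrimePCore p G) (Q : Subgroup G) (hQL : Q ≤ L) (hQp : IsPGroup p Q) (hQS : ¬ p ∣ Q.relIndex L) (hCQ : Subgroup.centralizer (Q : Set G) ≤ L) (θ : Cfsg.IrrCharacter K) (hθ : ∀ g : G, Cfsg.IsConjCharOf K g (θ : K → ℂ) (θ : K → ℂ)) (B : Set (Cfsg.IrrCharacter G)) (hBdef : ∀ χ : Cfsg.IrrCharacter G, χ ∈ B ↔ Cfsg.classInner (fun k : K => (χ : G → ℂ) k) (θ : K → ℂ) ≠ 0) : Cfsg.IsPBlock M B ∧ (∀ S : Sylow p G, Cfsg.IsDefectGroup p M B S) ∧ ∀ R : Subgroup G, IsPGroup p R → ∃! f : Set (Cfsg.IrrCharacter (Subgroup.centralizer (R : Set G))), Cfsg.IsInducedBlock M (Subgroup.centralizer (R : Set G)) f B := by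
  classical
  have hp : p.Prime := Fact.out
  haveI : K.Normal := by rw [hK]; infer_instance
  have hKc : (Nat.card K).Coprime p := by rw [hK]; exact PCore.coprime_card_pPrimeCore
  have hKp : ¬ p ∣ Nat.card K := hp.coprime_iff_not_dvd.1 hKc.symm
  set π := QuotientGroup.mk' K with hπ
  have hL' : L = (pCore p (G ⧸ K)).comap π := by
    subst hK
    exact hL
  -- the image of `Q`
  have hQmap : Q.map π = pCore p (G ⧸ K) := by
    have hle : Q.map π ≤ pCore p (G ⧸ K) := Subgroup.map_le_iff_le_comap.2 (hL' ▸ hQL)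
    refine le_antisymm hle ?_
    have hmap : L.map π = pCore p (G ⧸ K) := by
      rw [hL', Subgroup.map_comap_eq_self_of_surjective (QuotientGroup.mk'_surjective K)]
    obtain ⟨k, hk⟩ := IsPGroup.iff_card.1 (PCore.isPGroup_pCore (p := p) (G := G ⧸ K))
    have h1 : (Q.map π).relIndex (L.map π) ∣ Q.relIndex L := by
      have hker : π.ker ≤ L := by
        rw [hL', ← MonoidHom.comap_bot]
        exact Subgroup.comap_mono bot_le
      rw [Subgroup.relIndex_map_map, sup_eq_left.2 hker]
      exact Subgroup.relIndex_dvd_of_le_left _ le_sup_left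
    rw [hmap] at h1
    have h2 : (Q.map π).relIndex (pCore p (G ⧸ K)) ∣ p ^ k :=
      hk ▸ Subgroup.relIndex_dvd_card _ _
    obtain ⟨i, -, hi⟩ := (Nat.dvd_prime_pow hp).1 h2
    rcases i with _ | i
    · exact Subgroup.relIndex_eq_one.1 (by rw [hi, pow_zero])
    · exact absurd ((hi ▸ dvd_pow_self p i.succ_ne_zero).trans h1) hQS
  have hX : Subgroup.centralizer (pCore p (G ⧸ K) : Set (G ⧸ K)) ≤ pCore p (G ⧸ K) := by
    rw [← hQmap, ← PCore.map_centralizer_mk' K hKc hQp]
    refine (Subgroup.map_mono hCQ).trans ?_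
    rw [hL', Subgroup.map_comap_eq_self_of_surjective (QuotientGroup.mk'_surjective K), hQmap]
  have hinv : ∀ (g : G) (n : K),
      (θ : K → ℂ) ⟨g * n * g⁻¹, Subgroup.Normal.conj_mem inferInstance _ n.2 g⟩ = (θ : K → ℂ) n :=
    fun g n => hθ g n _ rfl
  obtain ⟨B₀, hB₀, hmem, hsyl, -⟩ :=
    FongConstrained.exists_block_over p M hM K hKp hX θ hinv
  have hBeq : B = B₀ := Set.ext fun χ => (hBdef χ).trans (hmem χ).symm
  subst hBeq
  refine ⟨hB₀, hsyl, fun R hR => ?_⟩
  haveI := hM.2.1
  obtain ⟨S, hRS⟩ := hR.exists_le_sylow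
  obtain ⟨b, hb⟩ := exists_inducing_centralizer hM.2.2 hR hB₀ (hsyl S)
    ⟨1, by rw [Blocks.map_conj_one]; exact hRS⟩
  refine ⟨b, hb, fun b' hb' => ?_⟩
  obtain ⟨χ, hχ⟩ := Blocks.block_nonempty hB₀
  have hinv' : ∀ g y : G, extendByZero K θ.1 (g * y * g⁻¹) = extendByZero K θ.1 y := by
    intro g y
    by_cases hy : y ∈ K
    · rw [Char.extendByZero_coe K θ.1 ⟨y, hy⟩, show extendByZero K θ.1 (g * y * g⁻¹) =
        θ.1 ⟨g * y * g⁻¹, Subgroup.Normal.conj_mem inferInstance _ hy g⟩ from
          Char.extendByZero_coe K θ.1 ⟨_, _⟩]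
      exact hinv g ⟨y, hy⟩
    · rw [Char.extendByZero_of_notMem K _ hy, Char.extendByZero_of_notMem K _ fun h => hy ?_]
      simpa [mul_assoc] using Subgroup.Normal.conj_mem (inferInstance : K.Normal) _ h g⁻¹
  exact eq_of_inducing K hM hKp hX θ hinv' hχ ((hBdef χ).1 hχ) hR rfl hb' hb

end Cfsg.Agent.S4642
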