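import Cfsg.Statements.S4652
import Cfsg.Agent.Lib.BrauerPairs.Bridge

set_option autoImplicit false
open Cfsg Cfsg.Agent Cfsg.Agent.BrauerPairs
open scoped Cfsg.Agent.Blocks

namespace Cfsg.Agent.S4652

/-- Fix a prime p and a maximal ideal M of the algebraic integers containing p. The defect groups of the principal p-block of a finite group G are exactly the Sylow p-subgroups of G: a subgroup D is a defect group of the principal block if and only if D is a Sylow p-subgroup. -/
theorem result {G : Type*} [Group G] [Fintype G] (p : ℕ) [Fact p.Prime] (M : Ideal Cfsg.AlgInt) (hM : Cfsg.IsPModular p M) (D : Subgroup G) : Cfsg.IsDefectGroup p M (Cfsg.principalBlock M G) D ↔ ∃ S : Sylow p G, (S : Subgroup G) = D := by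
  have : M.IsMaximal := hM.2.1
  have : CharP (AlgInt ⧸ M) p := Blocks.charP_residue hM.2.2
  have hblk : ∀ H : Subgroup G, HasBlocks (AlgInt ⧸ M) H := fun H => hasBlocks M H
  have hB := isPBlock_principalBlock (M := M) (G := G)
  constructor
  · rintro ⟨g, ⟨-, -, hω⟩, P, rfl⟩
    have h := hω (Char.trivialChar G) trivialChar_mem_principalBlock
    rw [centralChar, Char.trivialChar_apply, Char.trivialChar_apply, mul_one, div_one,
      Blocks.memLocalIdeal_natCast_iff hM.2.2] at h
    obtain ⟨S, hS⟩ := (P.isPGroup'.map (Subgroup.centralizer ({g} : Set G)).subtype).exists_le_sylow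
    refine ⟨S, (Subgroup.eq_of_le_of_card_ge hS ?_).symm⟩
    rw [← Nat.card_congr ((P : Subgroup (Subgroup.centralizer ({g} : Set G))).equivMapOfInjective
      (Subgroup.centralizer ({g} : Set G)).subtype (Subgroup.subtype_injective _)).toEquiv,
      Sylow.card_eq_multiplicity, Sylow.card_eq_multiplicity]
    refine Nat.pow_le_pow_right (Fact.out : p.Prime).pos (le_of_eq ?_)
    rw [← Subgroup.card_mul_index (Subgroup.centralizer ({g} : Set G)),
      Nat.factorization_mul Nat.card_pos.ne' Subgroup.index_ne_zero_of_finite]
    simp [Nat.factorization_eq_zero_of_not_dvd h]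
  · rintro ⟨S, rfl⟩
    have ha := isMax_of_sylow (isPairOf_of_isPrincipal (isPrincipal_blkG (M := M)) S.isPGroup'
      (isPrincipal_blk (M := M) (Subgroup.centralizer ((S : Subgroup G) : Set G)))) S rfl
    exact isDefectGroup_of_isMax hB ha

end Cfsg.Agent.S4652
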