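import Cfsg.Statements.S0875
import Cfsg.Agent.Lib.Char.PRegular
-- import your own Cfsg.Agent.* helpers here

set_option autoImplicit false
open Cfsg

namespace Cfsg.Agent.S0875

/-- Let G be a finite group of order m * n with m and n coprime, and g an element whose order is coprime to m. Every x in G factors uniquely as x = u * v with u, v commuting, the order of u coprime to n and the order of v coprime to m; let ϑ be the function on G equal to n at those x whose factor v is conjugate to g and equal to 0 elsewhere. Then ϑ is a linear combination of the irreducible characters of G with algebraic-integer coefficients. -/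
theorem result {G : Type*} [Group G] [Fintype G] (m n : ℕ) (hmn : Nat.card G = m * n) (hcop : Nat.Coprime m n) (g : G) (hg : Nat.Coprime (orderOf g) m) (ϑ : G → ℂ) (hϑ1 : ∀ x : G, (∃ v : G, IsConj v g ∧ (∃ u : G, x = u * v ∧ Commute u v ∧ Nat.Coprime (orderOf u) n ∧ Nat.Coprime (orderOf v) m)) → ϑ x = n) (hϑ0 : ∀ x : G, (¬ ∃ v : G, IsConj v g ∧ (∃ u : G, x = u * v ∧ Commute u v ∧ Nat.Coprime (orderOf u) n ∧ Nat.Coprime (orderOf v) m)) → ϑ x = 0) : ∃ c : Cfsg.IrrCharacter G → ℂ, (∀ χ, c χ ∈ Cfsg.AlgInt) ∧ ϑ = ∑ᶠ χ : Cfsg.IrrCharacter G, c χ • (χ : G → ℂ) := by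
  classical
  obtain ⟨s, t, hst⟩ : ∃ s t : ℤ, (m : ℤ) * s + (n : ℤ) * t = 1 := by
    refine ⟨Nat.gcdA m n, Nat.gcdB m n, ?_⟩
    rw [← Nat.gcd_eq_gcd_ab, hcop]
    rfl
  -- the order of an element of order prime to `n` divides `m`, and vice versa
  have hdm : ∀ x : G, (orderOf x).Coprime n → orderOf x ∣ m := fun x hx =>
    hx.dvd_of_dvd_mul_right (hmn ▸ orderOf_dvd_natCard x)
  have hdn : ∀ x : G, (orderOf x).Coprime m → orderOf x ∣ n := fun x hx =>
    hx.dvd_of_dvd_mul_left (hmn ▸ orderOf_dvd_natCard x)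
  have hpowm : ∀ (x : G), orderOf x ∣ m → x ^ ((m : ℤ) * s) = 1 := fun x hx => by
    rw [zpow_mul, zpow_natCast, orderOf_dvd_iff_pow_eq_one.1 hx, one_zpow]
  have hpown : ∀ (x : G), orderOf x ∣ n → x ^ ((m : ℤ) * s) = x := fun x hx => by
    rw [show (m : ℤ) * s = 1 - (n : ℤ) * t by omega, zpow_sub, zpow_one, zpow_mul, zpow_natCast,
      orderOf_dvd_iff_pow_eq_one.1 hx, one_zpow, inv_one, mul_one]
  have hval : ∀ u v : G, Commute u v → (orderOf u).Coprime n → (orderOf v).Coprime m →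
      ϑ (u * v) = if IsConj v g then (n : ℂ) else 0 := by
    intro u v huv hu hv
    split_ifs with hvg
    · exact hϑ1 _ ⟨v, hvg, u, rfl, huv, hu, hv⟩
    · refine hϑ0 _ fun ⟨v', hv'g, u', he, hc', hu', hv'⟩ => hvg ?_
      have h1 : (u * v) ^ ((m : ℤ) * s) = v := by
        rw [huv.mul_zpow, hpowm u (hdm u hu), hpown v (hdn v hv), one_mul]
      have h2 : (u' * v') ^ ((m : ℤ) * s) = v' := by
        rw [hc'.mul_zpow, hpowm u' (hdm u' hu'), hpown v' (hdn v' hv'), one_mul]
      rw [← h1, he, h2]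
      exact hv'g
  have hcl : Cfsg.IsClassFunction G ϑ := by
    intro x h
    have key : ∀ y w : G, (∃ v : G, IsConj v g ∧ (∃ u : G, y = u * v ∧ Commute u v ∧
        Nat.Coprime (orderOf u) n ∧ Nat.Coprime (orderOf v) m)) →
        ∃ v : G, IsConj v g ∧ (∃ u : G, w * y * w⁻¹ = u * v ∧ Commute u v ∧
          Nat.Coprime (orderOf u) n ∧ Nat.Coprime (orderOf v) m) := by
      rintro y w ⟨v, hv, u, rfl, hc, hu, hv'⟩
      refine ⟨w * v * w⁻¹, (isConj_iff.2 ⟨w, rfl⟩ : IsConj v _).symm.trans hv, w * u * w⁻¹,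
        by group, ?_, ?_, ?_⟩
      · exact hc.map (MulAut.conj w).toMonoidHom
      · rw [← MulAut.conj_apply, MulEquiv.orderOf_eq]; exact hu
      · rw [← MulAut.conj_apply, MulEquiv.orderOf_eq]; exact hv'
    by_cases hx : ∃ v : G, IsConj v g ∧ (∃ u : G, x = u * v ∧ Commute u v ∧
        Nat.Coprime (orderOf u) n ∧ Nat.Coprime (orderOf v) m)
    · rw [hϑ1 x hx, hϑ1 _ (key x h hx)]
    · rw [hϑ0 x hx, hϑ0]
      intro hy
      have := key _ h⁻¹ hy
      rw [inv_inv, show h⁻¹ * (h * x * h⁻¹) * h = x by group] at this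
      exact hx this
  refine ⟨fun χ => Cfsg.classInner ϑ χ.1, fun χ => ?_, by
    rw [finsum_eq_sum_of_fintype]; exact Char.eq_sum_classInner_smul hcl⟩
  refine Char.classInner_mem_of_elementary Cfsg.AlgInt.toSubring.toAddSubgroup hcl
    (fun E _ q lam hq hE => ?_) (Char.irr_isGeneralized χ)
  show _ ∈ Cfsg.AlgInt
  haveI := Char.IsElementary.isNilpotent hq hE
  obtain ⟨V, hVn, hV, hVc, -⟩ := Char.exists_primeTo_subgroup (E := E) m
  obtain ⟨U, hUn, hU, hUc, -⟩ := Char.exists_primeTo_subgroup (E := E) n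
  haveI := Fintype.ofFinite U
  haveI := Fintype.ofFinite V
  have hEmn : Nat.card E ∣ m * n := hmn ▸ E.card_subgroup_dvd_card
  have hVn' : Nat.card V ∣ n :=
    hVc.dvd_of_dvd_mul_left (V.card_subgroup_dvd_card.trans hEmn)
  have hUm' : Nat.card U ∣ m :=
    hUc.dvd_of_dvd_mul_right (U.card_subgroup_dvd_card.trans hEmn)
  have hdisj : Disjoint U V := Subgroup.disjoint_def.2 fun {a} hu hv =>
    orderOf_eq_one_iff.1 (Nat.eq_one_of_dvd_coprimes hcop
      ((U.orderOf_dvd_natCard hu).trans hUm') ((V.orderOf_dvd_natCard hv).trans hVn'))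
  have hcomm : ∀ (u : U) (v : V), Commute (u : E) (v : E) := fun u v =>
    Subgroup.commute_of_normal_of_disjoint U V hUn hVn hdisj u v u.2 v.2
  have hbij : Function.Bijective fun z : U × V => (z.1 : E) * (z.2 : E) := by
    refine ⟨fun a b h => Subgroup.mul_injective_of_disjoint hdisj h, fun e => ?_⟩
    have hemn : (e : G) ^ ((m : ℤ) * n) = 1 := by
      rw [← Nat.cast_mul, zpow_natCast, ← hmn, pow_card_eq_one']
    have hu : e ^ ((n : ℤ) * t) ∈ U := by
      rw [hU]
      refine Nat.Coprime.coprime_dvd_left (orderOf_dvd_of_pow_eq_one (n := m) ?_) hcop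
      rw [← zpow_natCast, ← zpow_mul]
      apply Subtype.ext
      rw [Subgroup.coe_zpow, show (n : ℤ) * t * m = (m : ℤ) * n * t by ring, zpow_mul, hemn,
        one_zpow, Subgroup.coe_one]
    have hv : e ^ ((m : ℤ) * s) ∈ V := by
      rw [hV]
      refine Nat.Coprime.coprime_dvd_left (orderOf_dvd_of_pow_eq_one (n := n) ?_) hcop.symm
      rw [← zpow_natCast, ← zpow_mul]
      apply Subtype.ext
      rw [Subgroup.coe_zpow, show (m : ℤ) * s * n = (m : ℤ) * n * s by ring, zpow_mul, hemn,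
        one_zpow, Subgroup.coe_one]
    refine ⟨(⟨_, hu⟩, ⟨_, hv⟩), ?_⟩
    show e ^ ((n : ℤ) * t) * e ^ ((m : ℤ) * s) = e
    rw [← zpow_add, add_comm, hst, zpow_one]
  obtain ⟨z, hz⟩ := Char.IsGeneralizedCharacter.exists_int_classInner
    (Char.IsCharacter.isGeneralized (Char.isCharacter_one (G := U)))
    (Char.IsCharacter.isGeneralized (Char.IsCharacter.restrict
      (Char.IsIrrCharacter.isCharacter (Char.isIrrCharacter_of_monoidHom lam)) U))
  obtain ⟨r, hr⟩ := hVn'
  have hcard : (Nat.card E : ℂ) = (Nat.card U : ℂ) * (Nat.card V : ℂ) := by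
    rw [← Nat.cast_mul, ← Nat.card_prod, Nat.card_congr (Equiv.ofBijective _ hbij)]
  have key : Cfsg.classInner (fun e : E => ϑ e) lam =
      (r : ℂ) * z * ∑ v : V, if IsConj ((v : E) : G) g then starRingEnd ℂ (lam v) else 0 := by
    have hUne : (Nat.card U : ℂ) ≠ 0 := Char.card_ne_zero
    have hVne : (Nat.card V : ℂ) ≠ 0 := Char.card_ne_zero
    rw [← hz, Cfsg.classInner, Cfsg.classInner, hcard,
      ← (Equiv.ofBijective _ hbij).sum_comp, Fintype.sum_prod_type_right]
    simp only [Equiv.ofBijective_apply, map_mul, one_mul, Finset.mul_sum, Finset.sum_mul]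
    refine Finset.sum_congr rfl fun v _ => Finset.sum_congr rfl fun u _ => ?_
    have hu' : (orderOf ((u : E) : G)).Coprime n := by
      rw [Subgroup.orderOf_coe]; exact (hU _).1 u.2
    have hv' : (orderOf ((v : E) : G)).Coprime m := by
      rw [Subgroup.orderOf_coe]; exact (hV _).1 v.2
    rw [Subgroup.coe_mul, hval _ _ (congrArg Subtype.val (hcomm u v).eq) hu' hv', hr, Nat.cast_mul]
    split_ifs
    · field_simp
    · simp
  rw [key]
  have hi : ∀ k : ℤ, ((k : ℤ) : ℂ) ∈ Cfsg.AlgInt := fun k => by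
    rw [← eq_intCast (algebraMap ℤ ℂ) k]; exact Cfsg.AlgInt.algebraMap_mem k
  refine mul_mem (mul_mem (by exact_mod_cast hi r) (hi z)) (sum_mem fun v _ => ?_)
  split_ifs
  · rw [Char.IsCharacter.conj_apply
      (Char.IsIrrCharacter.isCharacter (Char.isIrrCharacter_of_monoidHom lam))]
    exact CharInt.isIntegral_char
      (Char.IsIrrCharacter.isCharacter (Char.isIrrCharacter_of_monoidHom lam)) _
  · exact zero_mem _

end Cfsg.Agent.S0875
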