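import Cfsg.Statements.S4692
import Cfsg.Agent.Lib.BrauerPairs.Covering
import Cfsg.Agent.Lib.BrauerPairs.NilpotentBlock
import Cfsg.Agent.Lib.Blocks.Core

set_option autoImplicit false
open Cfsg Cfsg.Agent Cfsg.Agent.BrauerPairs
open scoped Cfsg.Agent.Blocks

namespace Cfsg.Agent.S4692

universe u

section Abstract

variable {k : Type*} [Field k] {G : Type u} [Group G] [Finite G]

/-- Blocks of a normal subgroup under one block of the group are conjugate. -/
theorem exists_conj_of_under {L H : Subgroup G} (hLH : L ≤ H) (hHN : H ≤ Subgroup.normalizer (L : Set G))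
    {r f₁ f₂ : MonoidAlgebra k G} (hr : IsBlockIdem H r) (h₁ : IsBlockIdem L f₁) (h₂ : IsBlockIdem L f₂)
    (hn₁ : r * f₁ ≠ 0) (hn₂ : r * f₂ ≠ 0) : ∃ h ∈ H, conjEl h f₁ = f₂ := by
  classical
  letI := Fintype.ofFinite G
  have hblock : ∀ h ∈ H, IsBlockIdem L (conjEl h f₁) := fun h hh => by
    have h1 := h₁.conj h
    rwa [map_conj_eq_of_mem_normalizer (hHN hh)] at h1
  set S : Finset (MonoidAlgebra k G) := (Finset.univ.filter (· ∈ H)).image fun h => conjEl h f₁ with hS
  have hmem : ∀ a ∈ S, IsBlockIdem L a := fun a ha => by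
    obtain ⟨h, hh, rfl⟩ := Finset.mem_image.1 ha
    exact hblock h (Finset.mem_filter.1 hh).2
  have horth : ∀ a ∈ S, (∑ b ∈ S, b) * a = a := fun a ha => by
    rw [Finset.sum_mul, Finset.sum_eq_single_of_mem a ha
      fun b hb hne => (hmem a ha).mul_eq_zero_of_ne (hmem b hb) (Ne.symm hne), (hmem a ha).idem]
  have hE : ∑ b ∈ S, b ∈ centerIn k H := by
    refine ⟨Subalgebra.sum_mem _ fun b hb => suppIn_mono hLH (hmem b hb).mem.1, fun g hg => ?_⟩
    rw [map_sum]
    refine Finset.sum_bij (fun b _ => conjEl g b) (fun b hb => ?_)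
      (fun a _ b _ h => (conjEl g).injective h) (fun b hb => ?_) fun _ _ => rfl
    · obtain ⟨h, hh, rfl⟩ := Finset.mem_image.1 hb
      exact Finset.mem_image.2 ⟨g * h, Finset.mem_filter.2
        ⟨Finset.mem_univ _, mul_mem hg (Finset.mem_filter.1 hh).2⟩, conjEl_mul _ _ _⟩
    · obtain ⟨h, hh, rfl⟩ := Finset.mem_image.1 hb
      refine ⟨conjEl (g⁻¹ * h) f₁, Finset.mem_image.2 ⟨g⁻¹ * h, Finset.mem_filter.2
        ⟨Finset.mem_univ _, mul_mem (inv_mem hg) (Finset.mem_filter.1 hh).2⟩, rfl⟩, ?_⟩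
      rw [← conjEl_mul, mul_inv_cancel_left]
  have hEE : (∑ b ∈ S, b) * (∑ b ∈ S, b) = ∑ b ∈ S, b := by
    rw [Finset.mul_sum, Finset.sum_congr rfl horth]
  have hf₁ : f₁ ∈ S := Finset.mem_image.2 ⟨1, Finset.mem_filter.2 ⟨Finset.mem_univ _, one_mem H⟩, conjEl_one f₁⟩
  have hcomm : r * (∑ b ∈ S, b) = (∑ b ∈ S, b) * r := centerIn_commute hr.mem.1 hE.2
  have hEr : (∑ b ∈ S, b) * r = r := hr.mul_eq_self_of_ne hE hEE fun h => hn₁ (by
    rw [← horth f₁ hf₁, ← mul_assoc, hcomm, h, zero_mul])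
  by_contra hno
  simp only [not_exists, not_and] at hno
  apply hn₂
  rw [← hEr, ← hcomm, mul_assoc, Finset.sum_mul]
  refine mul_eq_zero_of_right r (Finset.sum_eq_zero fun a ha => ?_)
  obtain ⟨h, hh, rfl⟩ := Finset.mem_image.1 ha
  exact h₂.mul_eq_zero_of_ne (hblock h (Finset.mem_filter.1 hh).2) (Ne.symm (hno h (Finset.mem_filter.1 hh).2))

/-- A `p'`-element stabilising the series `1 ≤ R ≤ Q` centralises `Q`. -/
theorem centralizes_of_series {p : ℕ} [Fact p.Prime] {Q R : Subgroup G} (hR : IsPGroup p R) {x : G}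
    (hx : IsPRegular p x) (hxR : x ∈ Subgroup.centralizer (R : Set G))
    (hQ : ∀ q ∈ Q, q⁻¹ * (x * q * x⁻¹) ∈ R) : x ∈ Subgroup.centralizer (Q : Set G) := by
  rw [Subgroup.mem_centralizer_iff]
  intro q hq
  set z := q⁻¹ * (x * q * x⁻¹) with hz
  have hzR := hQ q hq
  have hc : x * z = z * x := (Subgroup.mem_centralizer_iff.1 hxR z hzR).symm
  have hpow : ∀ n : ℕ, x ^ n * q * (x ^ n)⁻¹ = q * z ^ n := by
    intro n
    induction n with
    | zero => simp
    | succ n ih =>
      have h1 : x * z ^ n = z ^ n * x := (Commute.pow_right (show Commute x z from hc) n).eq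
      calc x ^ (n + 1) * q * (x ^ (n + 1))⁻¹ = x * (x ^ n * q * (x ^ n)⁻¹) * x⁻¹ := by
            rw [pow_succ']; group
        _ = x * q * x⁻¹ * ((x * z ^ n) * x⁻¹) := by rw [ih]; group
        _ = q * z * z ^ n := by rw [h1, hz]; group
        _ = _ := by rw [pow_succ', mul_assoc]
  have h1 := hpow (orderOf x)
  rw [pow_orderOf_eq_one, one_mul, inv_one, mul_one, left_eq_mul] at h1
  obtain ⟨n, hn⟩ := hR ⟨z, hzR⟩
  have hn' : z ^ p ^ n = 1 := congrArg Subtype.val hn
  have hz1 : z = 1 := orderOf_eq_one_iff.1 (Nat.eq_one_of_dvd_coprimes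
    ((((Fact.out : p.Prime).coprime_iff_not_dvd).2 hx).pow_left n) (orderOf_dvd_of_pow_eq_one hn')
    (orderOf_dvd_of_pow_eq_one h1))
  rw [hz, inv_mul_eq_one] at hz1
  calc q * x = x * q * x⁻¹ * x := by rw [← hz1]
    _ = x * q := inv_mul_cancel_right _ _

end Abstract

/-- Fix a prime p and a maximal ideal M of the algebraic integers containing p. Let N be a normal subgroup of p-power index in the finite group G and c a p-block of N stable under conjugation by G, and let B be the p-block of G whose idempotent is that of c (it exists and is unique). Then c is nilpotent as a block of N if and only if B is nilpotent as a block of G. -/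
theorem result {G : Type*} [Group G] [Fintype G] (p : ℕ) [Fact p.Prime] (M : Ideal Cfsg.AlgInt) (hM : Cfsg.IsPModular p M) (N : Subgroup G) [N.Normal] (hN : ∃ k : ℕ, N.index = p ^ k) (c : Set (Cfsg.IrrCharacter N)) (hc : Cfsg.IsPBlock M c) (hst : ∀ x : G, Cfsg.StabilizesBlock N c x) (B : Set (Cfsg.IrrCharacter G)) (hB : Cfsg.IsPBlock M B) (hBc : ∀ g : G, Cfsg.blockCoeff B g = Cfsg.subgroupBlockCoeff N c g) : Cfsg.IsNilpotentBlock p M c ↔ Cfsg.IsNilpotentBlock p M B := by
  classical
  have : M.IsMaximal := hM.2.1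
  have : CharP (AlgInt ⧸ M) p := Blocks.charP_residue hM.2.2
  have hblk : ∀ H : Subgroup G, HasBlocks (AlgInt ⧸ M) H := fun H => hasBlocks M H
  have hBi := isBlockIdem_blkG hB
  have hbc : blkG M B = blk M N c := Blocks.alg_ext fun g => by rw [coeff_blkG, coeff_blk, hBc]
  have hregN : ∀ x : G, IsPRegular p x → x ∈ N := fun x hx =>
    BlocksX.mem_of_isPRegular_of_index (G := G) (N := N) hN hx
  -- blocks of `H` are supported on `H ∩ N`
  have hsupp : ∀ (H : Subgroup G) (r : MonoidAlgebra (AlgInt ⧸ M) G), IsBlockIdem H r →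
      r ∈ centerIn (AlgInt ⧸ M) (N ⊓ H) := by
    intro H r hr
    refine ⟨fun x hx => ?_, fixedBy_anti inf_le_right hr.mem.2⟩
    by_cases hxH : x ∈ H
    · obtain ⟨F, hF, rfl⟩ := exists_eq_blk H hr
      rw [coeff_blk]
      unfold subgroupBlockCoeff
      rw [dif_pos hxH, Blocks.blockCoeff_eq_zero hM.2.2 hF ?_, Blocks.red_zero]
      intro hreg
      exact hx ⟨hregN x (fun hd => hreg (Subgroup.orderOf_coe (⟨x, hxH⟩ : H) ▸ hd)), hxH⟩
    · exact hr.mem.1 x hxH
  -- translation between pairs of `c` in `N` and pairs in `G`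
  have hmapC : ∀ Q' : Subgroup N, (Subgroup.centralizer (Q' : Set N)).map N.subtype =
      N ⊓ Subgroup.centralizer ((Q'.map N.subtype : Subgroup G) : Set G) := fun Q' => map_centralizer_sub Q'
  have hnC : ∀ Q : Subgroup G, Subgroup.centralizer (Q : Set G) ≤
      Subgroup.normalizer ((N ⊓ Subgroup.centralizer (Q : Set G) : Subgroup G) : Set G) := fun Q g hg =>
    mem_normalizer_of_conj_le fun u hu =>
      ⟨‹N.Normal›.conj_mem u hu.1 g, Subgroup.mul_mem _ (Subgroup.mul_mem _ hg hu.2) (Subgroup.inv_mem _ hg)⟩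
  rw [isNilpotentBlock_iff hc, isNilpotentBlock_iff hB]
  constructor
  · intro hnil Q f hQf x hx hreg
    have hQp := hQf.1.1
    have hxN := hregN x hreg
    set R : Subgroup G := Q ⊓ N with hR
    obtain ⟨r, hr⟩ := exists_ple hblk hQf.1 R inf_le_left
    have hRr : IsPairOf p (blkG M B) (R, r) := (ple_isPairOf_iff hBi hr).1 hQf
    have hxR : x ∈ Subgroup.normalizer (R : Set G) := mem_normalizer_of_conj_le fun u hu =>
      ⟨((Subgroup.mem_normalizer_iff.1 hx.1) u).1 hu.1, ‹N.Normal›.conj_mem u hu.2 x⟩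
    have hxr : conjEl x r = r := by
      refine conjEl_eq_of_ple hblk hQf.1 hr hxR ?_
      have h := hr.conj x
      rwa [show conjPair x (Q, f) = (Q, f) from
        Prod.ext (map_conj_eq_of_mem_normalizer hx.1) hx.2] at h
    refine centralizes_of_series (R := R) (hQp.to_le inf_le_left) hreg ?_ fun q hq => ⟨?_, ?_⟩
    · obtain ⟨f₁, hf₁, hne₁⟩ := exists_blockIdem_mul_ne_zero hblk
        (N ⊓ Subgroup.centralizer (R : Set G)) hRr.1.2.ne_zero
      have hne₂ : r * conjEl x f₁ ≠ 0 := by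
        rw [← hxr, ← map_mul]
        exact (map_ne_zero_iff _ (conjEl x).injective).2 hne₁
      have hf₂ : IsBlockIdem (N ⊓ Subgroup.centralizer (R : Set G)) (conjEl x f₁) := by
        have h := hf₁.conj x
        rwa [Subgroup.map_inf _ _ _ (MulAut.conj x).injective, map_conj_centralizer,
          map_conj_eq_of_mem_normalizer hxR,
          map_conj_eq_of_mem_normalizer (by rw [Subgroup.normalizer_eq_top]; exact Subgroup.mem_top x)] at h
      obtain ⟨z, hz, hzf⟩ := exists_conj_of_under inf_le_right (hnC R) hRr.1.2 hf₁ hf₂ hne₁ hne₂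
      set h₀ : G := z⁻¹ * x with hh₀
      have hfix : conjEl h₀ f₁ = f₁ := by
        rw [conjEl_mul, ← hzf, ← conjEl_mul, inv_mul_cancel, conjEl_one]
      have hh₀R : h₀ ∈ Subgroup.normalizer (R : Set G) :=
        mul_mem (inv_mem (Subgroup.centralizer_le_normalizer _ hz)) hxR
      set a := (Nat.card G).factorization p
      have hy : h₀ ^ p ^ a ∈ N := hregN _ (Blocks.isPRegular_pow_of_le h₀ le_rfl)
      obtain ⟨f₁', hf₁'⟩ := exists_incl_eq_of_supp (suppIn_mono inf_le_left hf₁.mem.1)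
      have hmapR := Subgroup.map_subgroupOf_eq_of_le (inf_le_right : R ≤ N)
      have hb : IsBlockIdem (Subgroup.centralizer ((R.subgroupOf N : Subgroup N) : Set N)) f₁' := by
        rw [← isBlockIdem_incl_iff, hmapC, hmapR, hf₁']
        exact hf₁
      have hpair : IsPairOf p (blkG M c) (R.subgroupOf N, f₁') := by
        refine ⟨⟨(hQp.to_le inf_le_left).of_equiv (Subgroup.subgroupOfEquivOfLe inf_le_right).symm, hb⟩,
          incl_injective N ?_⟩
        show incl N _ (br (R.subgroupOf N) (blkG M c) * f₁') = incl N _ f₁'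
        rw [map_mul, ← br_incl]
        show br ((R.subgroupOf N).map N.subtype) (blk M N c) * _ = _
        rw [hmapR, hf₁', ← hbc]
        have hzB : br R (blkG M B) ∈ centerIn (AlgInt ⧸ M) (Subgroup.centralizer (R : Set G)) :=
          br_top_mem hBi.mem
        refine hf₁.mul_eq_self_of_ne ⟨?_, fixedBy_anti inf_le_right hzB.2⟩
          (by rw [← br_mul hRr.1.1 (mem_fixedBy_of_top hBi.mem _) (mem_fixedBy_of_top hBi.mem _), hBi.idem]) ?_
        · intro y hy'
          rw [coeff_br, hbc]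
          split_ifs with hyC
          · exact (isBlockIdem_blk N hc).mem.1 y fun h => hy' ⟨h, hyC⟩
          · rfl
        · intro h
          apply hne₁
          rw [← hRr.2, show ((R, r) : Subgroup G × MonoidAlgebra (AlgInt ⧸ M) G).1 = R from rfl,
            show br R (blkG M B) * r = r * br R (blkG M B) from centerIn_commute hzB.1 hRr.1.2.mem.2,
            mul_assoc, h, mul_zero]
      have hC : (⟨h₀ ^ p ^ a, hy⟩ : N) ∈ Subgroup.centralizer ((R.subgroupOf N : Subgroup N) : Set N) := by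
        refine hnil _ _ hpair ⟨_, hy⟩ ⟨?_, incl_injective N ?_⟩ ?_
        · exact Subgroup.mem_normalizer_iff.2 fun u =>
            Subgroup.mem_normalizer_iff.1 (pow_mem hh₀R (p ^ a)) (u : G)
        · rw [conjEl_incl, hf₁']
          exact pow_mem (show h₀ ∈ fixGroup f₁ from hfix) (p ^ a)
        · intro hd
          rw [← Subgroup.orderOf_coe] at hd
          exact Blocks.isPRegular_pow_of_le h₀ le_rfl hd
      have hC' : h₀ ^ p ^ a ∈ Subgroup.centralizer (R : Set G) := by
        refine Subgroup.mem_centralizer_iff.2 fun u hu => ?_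
        exact congrArg Subtype.val (Subgroup.mem_centralizer_iff.1 hC ⟨u, hu.2⟩ hu)
      obtain ⟨w, hw, hxw⟩ := exists_pow_eq_mul_centralizer hh₀R (Q := R) (y := x) (u := h₀)
        (by
          rw [hh₀, mul_inv_rev, inv_inv, show x⁻¹ * z * x = x⁻¹ * z * x from rfl]
          exact ((Subgroup.mem_normalizer_iff''.1 (normalizer_le_normalizer_centralizer R hxR)) z).1 hz) (p ^ a)
      obtain ⟨m, hm⟩ := exists_pow_eq_self_of_coprime
        ((((Fact.out : p.Prime).coprime_iff_not_dvd).2 hreg).pow_left a : (p ^ a).Coprime (orderOf x))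
      rw [← hm, hxw]
      exact pow_mem (mul_mem hC' hw) m
    · exact Subgroup.mul_mem _ (Subgroup.inv_mem _ hq) (((Subgroup.mem_normalizer_iff.1 hx.1) q).1 hq)
    · rw [show q⁻¹ * (x * q * x⁻¹) = q⁻¹ * x * q * x⁻¹ by group]
      exact N.mul_mem (by simpa using ‹N.Normal›.conj_mem x hxN q⁻¹) (N.inv_mem hxN)
  · intro hnil Q' f' hQf x hx hreg
    set Q : Subgroup G := Q'.map N.subtype with hQ
    have hQp : IsPGroup p Q := hQf.1.1.map _
    have hf : IsBlockIdem (N ⊓ Subgroup.centralizer (Q : Set G)) (incl N (AlgInt ⧸ M) f') := by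
      rw [hQ, ← hmapC, isBlockIdem_incl_iff]
      exact hQf.1.2
    obtain ⟨r, hr, hne⟩ := exists_blockIdem_mul_ne_zero hblk (Subgroup.centralizer (Q : Set G)) hf.ne_zero
    have hcomm : r * incl N (AlgInt ⧸ M) f' = incl N (AlgInt ⧸ M) f' * r :=
      (centerIn_commute (suppIn_mono inf_le_right hf.mem.1) hr.mem.2).symm
    have hrf : r * incl N (AlgInt ⧸ M) f' = incl N (AlgInt ⧸ M) f' :=
      hf.mul_eq_self_of_ne (hsupp _ r hr) hr.idem (hcomm ▸ hne)
    have hbrf : br Q (blkG M B) * incl N (AlgInt ⧸ M) f' = incl N (AlgInt ⧸ M) f' := by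
      rw [hbc, hQ]
      show br _ (incl N _ (blkG M c)) * _ = _
      rw [br_incl, ← map_mul, hQf.2]
    have hpair : IsPairOf p (blkG M B) (Q, r) := by
      refine ⟨⟨hQp, hr⟩, hr.mul_eq_self_of_ne (br_top_mem hBi.mem)
        (by rw [← br_mul hQp (mem_fixedBy_of_top hBi.mem _) (mem_fixedBy_of_top hBi.mem _), hBi.idem]) ?_⟩
      intro h
      apply hf.ne_zero
      rw [← hbrf, ← hrf, ← mul_assoc, h, zero_mul]
    have hxQ : (x : G) ∈ Subgroup.normalizer (Q : Set G) := by
      refine mem_normalizer_of_conj_le ?_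
      rintro _ ⟨u, hu, rfl⟩
      exact ⟨x * u * x⁻¹, ((Subgroup.mem_normalizer_iff.1 hx.1) u).1 hu, by simp⟩
    have hxr : conjEl (x : G) r = r := by
      have hr' : IsBlockIdem (Subgroup.centralizer (Q : Set G)) (conjEl (x : G) r) := by
        have h := hr.conj (x : G)
        rwa [map_conj_centralizer, map_conj_eq_of_mem_normalizer hxQ] at h
      refine (IsBlockIdem.eq_of_mul_ne_zero hr hr' fun h => hf.ne_zero ?_).symm
      have hfx : conjEl (x : G) (incl N (AlgInt ⧸ M) f') = incl N (AlgInt ⧸ M) f' := by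
        rw [← conjEl_incl, hx.2]
      have h1 : conjEl (x : G) r * incl N (AlgInt ⧸ M) f' = incl N (AlgInt ⧸ M) f' := by
        rw [← hfx, ← map_mul, hrf]
      rw [← h1, ← hrf, ← mul_assoc, h, zero_mul]
    have hC := hnil Q r hpair x ⟨hxQ, hxr⟩ (fun hd => hreg (Subgroup.orderOf_coe x ▸ hd))
    refine Subgroup.mem_centralizer_iff.2 fun u hu => Subtype.ext ?_
    exact Subgroup.mem_centralizer_iff.1 hC _ ⟨u, hu, rfl⟩

end Cfsg.Agent.S4692
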