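import Cfsg.Statements.S4733
import Cfsg.Agent.Lib.BlockCount.Criterion
-- import your own Cfsg.Agent.* helpers here

set_option autoImplicit false
open Cfsg

namespace Cfsg.Agent.S4733

/-- Let p be a prime, M a maximal ideal of the algebraic integers containing p, and B a p-block of the finite group G with k irreducible characters and p-regular rank l (the number of irreducible Brauer characters). Then l ≤ k, and the following are equivalent: B has defect 0; k = l = 1; k = l. -/
theorem result {G : Type*} [Group G] [Finite G] (p : ℕ) [Fact p.Prime] (M : Ideal Cfsg.AlgInt) (hM : Cfsg.IsPModular p M) (B : Set (Cfsg.IrrCharacter G)) (hB : Cfsg.IsPBlock M B) : Cfsg.blockRank p B ≤ Nat.card B ∧ (Cfsg.blockDefect p B = 0 ↔ (Nat.card B = 1 ∧ Cfsg.blockRank p B = 1)) ∧ (Cfsg.blockDefect p B = 0 ↔ Nat.card B = Cfsg.blockRank p B) := by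
  classical
  haveI := Fintype.ofFinite G
  haveI := hM.2.1
  have hp : p.Prime := Fact.out
  set a := (Nat.card G).factorization p with ha
  have hBne := Agent.Blocks.block_nonempty hB
  have hle : Cfsg.blockRank p B ≤ Nat.card B := by
    rw [Cfsg.blockRank, Nat.card_eq_fintype_card, ← Set.toFinset_card]
    refine (finrank_span_le_card _).trans ?_
    rw [Set.toFinset_image]
    exact Finset.card_image_le
  have hdz : ∀ χ ∈ B, Cfsg.blockDefect p B = 0 → p ^ a ∣ Cfsg.charDegree (χ : G → ℂ) := by
    intro χ hχ h0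
    rw [Cfsg.blockDefect, Nat.sub_eq_zero_iff_le] at h0
    have h1 : a ≤ (Cfsg.charDegree (χ : G → ℂ)).factorization p :=
      h0.trans (Nat.sInf_le ⟨χ, hχ, rfl⟩)
    exact (pow_dvd_pow p h1).trans (Nat.ordProj_dvd _ _)
  -- a member of full p-part is alone in its block
  have hsingle : ∀ χ ∈ B, p ^ a ∣ Cfsg.charDegree (χ : G → ℂ) → B = {χ} := by
    intro χ hχ hdvd
    refine Set.Subset.antisymm ?_ (Set.singleton_subset_iff.2 hχ)
    rw [Agent.Blocks.block_eq hB hχ]
    refine Agent.Blocks.blockOf_subset_of_scoeff (fun g => ?_) rfl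
    rw [Agent.Blocks.coeff_blockIdem, Cfsg.blockCoeff, finsum_mem_singleton,
      Agent.BlockCount.apply_one_eq_charDegree, ← mul_assoc, inv_mul_eq_div]
    have hd0 : Cfsg.charDegree (χ : G → ℂ) ≠ 0 := by
      rw [Agent.BlockCount.charDegree_eq_degree]; exact (Agent.Char.degree_pos χ).ne'
    refine Agent.Blocks.MemLocalRing.mul ?_ (Agent.Blocks.memLocalRing_of_isIntegral ?_)
    · refine Agent.Blocks.memLocalRing_natCast_div hM.2.2 hd0 Nat.card_pos.ne' ?_
      exact (hp.pow_dvd_iff_le_factorization hd0).1 hdvd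
    · rw [Agent.Char.IsCharacter.conj_apply (Agent.Char.irr_isCharacter χ)]
      exact Agent.CharInt.isIntegral_char (Agent.Char.irr_isCharacter χ) _
  have hone : Cfsg.blockDefect p B = 0 → Nat.card B = 1 ∧ Cfsg.blockRank p B = 1 := by
    intro h0
    obtain ⟨χ, hχ⟩ := hBne
    rw [hsingle χ hχ (hdz χ hχ h0)]
    refine ⟨by simp, ?_⟩
    rw [Cfsg.blockRank, Set.image_singleton]
    refine finrank_span_singleton fun h => Agent.Char.IsIrrCharacter.apply_one_ne_zero χ.2 ?_
    simpa [Cfsg.pRegularPart, Cfsg.IsPRegular, hp.ne_one] using congrFun h 1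
  -- equality forces defect zero
  have heq : Nat.card B = Cfsg.blockRank p B → Cfsg.blockDefect p B = 0 := by
    intro hkl
    have hli : LinearIndependent ℂ (fun χ : B => Cfsg.pRegularPart p (χ.1 : G → ℂ)) := by
      rw [linearIndependent_iff_card_eq_finrank_span, Set.finrank, ← Nat.card_eq_fintype_card, hkl,
        Cfsg.blockRank, Set.image_eq_range]
    have hvan : ∀ χ ∈ B, ∀ y : G, ¬ Cfsg.IsPRegular p y → (χ : G → ℂ) y = 0 := by
      intro χ hχ y hy
      have h1 : ∑ ψ : B, (starRingEnd ℂ) ((ψ.1 : G → ℂ) y) •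
          Cfsg.pRegularPart p (ψ.1 : G → ℂ) = 0 := by
        funext x
        simp only [Finset.sum_apply, Pi.smul_apply, smul_eq_mul, Pi.zero_apply, Cfsg.pRegularPart]
        by_cases hx : Cfsg.IsPRegular p x
        · have := Agent.Blocks.weak_orthogonality hM.2.2 hB hx hy
          simp only [if_pos hx]
          rw [← this, ← Finset.sum_subtype (Finset.univ.filter (· ∈ B)) (by simp)
            (fun ψ : Cfsg.IrrCharacter G => (starRingEnd ℂ) ((ψ : G → ℂ) y) * (ψ : G → ℂ) x)]
          exact Finset.sum_congr rfl fun ψ _ => mul_comm _ _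
        · simp [hx]
      exact (map_eq_zero _).1 (Fintype.linearIndependent_iff.1 hli _ h1 ⟨χ, hχ⟩)
    rw [Cfsg.blockDefect, Nat.sub_eq_zero_iff_le]
    refine le_csInf (hBne.image _) ?_
    rintro _ ⟨χ, hχ, rfl⟩
    obtain ⟨P⟩ : Nonempty (Sylow p G) := inferInstance
    obtain ⟨m, hm⟩ := ((Agent.BlockCount.isRepChar_of_isCharacter
      (Agent.Char.irr_isCharacter χ)).comp (P : Subgroup G).subtype).sum_eq
    rw [Finset.sum_eq_single (1 : (P : Subgroup G)) (fun u _ hu => hvan χ hχ _ fun hreg => hu ?_)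
      (fun h => absurd (Finset.mem_univ _) h)] at hm
    · have hd : Cfsg.charDegree (χ : G → ℂ) = Nat.card (P : Subgroup G) * m := by
        apply Nat.cast_injective (R := ℂ)
        push_cast
        rw [← Agent.BlockCount.apply_one_eq_charDegree, ← hm]
        simp
      refine (hp.pow_dvd_iff_le_factorization ?_).1 ?_
      · rw [Agent.BlockCount.charDegree_eq_degree]; exact (Agent.Char.degree_pos χ).ne'
      · rw [hd, Sylow.card_eq_multiplicity]
        exact dvd_mul_right _ _
    · obtain ⟨j, hj⟩ := IsPGroup.iff_orderOf.1 P.isPGroup' u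
      rcases Nat.eq_zero_or_pos j with rfl | hj'
      · rwa [pow_zero, orderOf_eq_one_iff] at hj
      · exact absurd (by rw [Subgroup.subtype_apply, Subgroup.orderOf_coe, hj]
                         exact dvd_pow_self p hj'.ne') hreg
  refine ⟨hle, ⟨hone, fun h => heq (h.1.trans h.2.symm)⟩, ⟨fun h => ?_, heq⟩⟩
  rw [(hone h).1, (hone h).2]

end Cfsg.Agent.S4733
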