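import Cfsg.Statements.S4688
import Cfsg.Agent.Lib.BrauerPairs.NilpotentBlock

set_option autoImplicit false
open Cfsg Cfsg.Agent Cfsg.Agent.BrauerPairs
open scoped Cfsg.Agent.Blocks

namespace Cfsg.Agent.S4688

/-- Fix a prime p and a maximal ideal M of the algebraic integers containing p, and a nilpotent p-block B of the finite group G with maximal Brauer pair (P, e). Then for every Brauer pair (Q, f) of B, f is a nilpotent block of C_G(Q); and if moreover (Q, f) ≤ (P, e), then C_P(Q) is a defect group of f as a block of C_G(Q). -/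
theorem result {G : Type*} [Group G] [Fintype G] (p : ℕ) [Fact p.Prime] (M : Ideal Cfsg.AlgInt) (hM : Cfsg.IsPModular p M) (B : Set (Cfsg.IrrCharacter G)) (P : Subgroup G) (e : Set (Cfsg.IrrCharacter (Subgroup.centralizer (P : Set G)))) (hmax : Cfsg.IsMaximalBrauerPair p M B P e) (hnil : Cfsg.IsNilpotentBlock p M B) (Q : Subgroup G) (f : Set (Cfsg.IrrCharacter (Subgroup.centralizer (Q : Set G)))) (hQf : Cfsg.IsBrauerPairOf p M B Q f) : Cfsg.IsNilpotentBlock p M f ∧ (Cfsg.SubpairLE p M Q f P e → Cfsg.IsDefectGroup p M f ((P ⊓ Subgroup.centralizer (Q : Set G)).subgroupOf (Subgroup.centralizer (Q : Set G)))) := by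
  have : M.IsMaximal := hM.2.1
  have : CharP (AlgInt ⧸ M) p := Blocks.charP_residue hM.2.2
  have hblk : ∀ H : Subgroup G, HasBlocks (AlgInt ⧸ M) H := fun H => hasBlocks M H
  have hB : IsPBlock M B := hmax.1.2.1
  obtain ⟨he, ha⟩ := (isMaximalBrauerPair_iff hB).1 hmax
  have hBi := isBlockIdem_blkG hB
  have hnilp := (isNilpotentBlock_iff hB).1 hnil
  obtain ⟨hf, hpair⟩ := (isBrauerPairOf_iff hB).1 hQf
  refine ⟨(isNilpotentBlock_iff hf).2 fun R r hR x hx hreg => ?_, fun hle => ?_⟩
  · have hcent : (Subgroup.centralizer (R : Set (Subgroup.centralizer (Q : Set G)))).map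
        (Subgroup.centralizer (Q : Set G)).subtype =
        Subgroup.centralizer ((Q ⊔ R.map (Subgroup.centralizer (Q : Set G)).subtype : Subgroup G) : Set G) := by
      rw [map_centralizer_sub, centralizer_sup_eq]
    have hRC := Subgroup.map_subtype_le R
    have hS : IsPGroup p (Q ⊔ R.map (Subgroup.centralizer (Q : Set G)).subtype : Subgroup G) :=
      hpair.1.1.to_sup_of_normal_left' (hR.1.1.map _) (hRC.trans (Subgroup.centralizer_le_normalizer _))
    have hr : IsPair p (Q ⊔ R.map (Subgroup.centralizer (Q : Set G)).subtype,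
        incl (Subgroup.centralizer (Q : Set G)) (AlgInt ⧸ M) r) := by
      refine ⟨hS, ?_⟩
      show IsBlockIdem (Subgroup.centralizer _) _
      rw [← hcent]
      exact (isBlockIdem_incl_iff _ r).2 hR.1.2
    have hstep : Step p (Q, blk M _ f) (Q ⊔ R.map (Subgroup.centralizer (Q : Set G)).subtype,
        incl (Subgroup.centralizer (Q : Set G)) (AlgInt ⧸ M) r) := by
      refine ⟨hpair.1, hr, le_sup_left, sup_le Subgroup.le_normalizer
        (hRC.trans (Subgroup.centralizer_le_normalizer _)), ?_, ?_⟩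
      · exact fun u hu => ((sup_le (self_le_stabOf hpair.1.2)
          (hRC.trans (centralizer_le_stabOf hpair.1.2))) hu).2
      · show br (Q ⊔ _) (blk M _ f) * _ = _
        rw [br_sup_eq _ hpair.1.2.mem.1, blk, br_incl, ← map_mul, hR.2]
    have hx' : (x : G) ∈ stabOf (Q ⊔ R.map (Subgroup.centralizer (Q : Set G)).subtype)
        (incl (Subgroup.centralizer (Q : Set G)) (AlgInt ⧸ M) r) := by
      refine ⟨?_, (conjEl_incl x r).symm.trans (congrArg _ hx.2)⟩
      refine mem_normalizer_of_conj_le fun u hu => ?_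
      have h1 : (Q ⊔ R.map (Subgroup.centralizer (Q : Set G)).subtype).map (MulAut.conj (x : G)).toMonoidHom =
          Q ⊔ R.map (Subgroup.centralizer (Q : Set G)).subtype := by
        rw [Subgroup.map_sup, map_conj_eq_of_mem_normalizer (Subgroup.centralizer_le_normalizer _ x.2),
          ← map_map_conj_subtype, map_conj_eq_of_mem_normalizer hx.1]
      exact h1.le ⟨u, hu, rfl⟩
    have hxS := hnilp _ _ ((step_isPairOf_iff hBi hstep).2 hpair) (x : G) hx'
      (fun hd => hreg (Subgroup.orderOf_coe x ▸ hd))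
    rw [centralizer_sup_eq] at hxS
    refine Subgroup.mem_centralizer_iff.2 fun v hv => Subtype.ext ?_
    exact Subgroup.mem_centralizer_iff.1 hxS.2 (v : G) ⟨v, hv, rfl⟩
  · have hp := ple_of_subpairLE hle
    refine (isDefectGroup_subgroupOf_iff hf inf_le_right).2 ?_
    refine (forall_centralizer_le_iff hblk hBi ha hp).1 fun g hg => ?_
    obtain ⟨u, hu, hx⟩ := hnilp.exists_mem_conj hblk hBi ha hg
    have hmap : Q.map (MulAut.conj g).toMonoidHom = Q.map (MulAut.conj u).toMonoidHom := by
      ext y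
      constructor
      · rintro ⟨q, hq, rfl⟩; exact ⟨q, hq, (hx q hq).symm⟩
      · rintro ⟨q, hq, rfl⟩; exact ⟨q, hq, hx q hq⟩
    rw [← BrauerPairs.card_map_conj u (P ⊓ Subgroup.centralizer (Q : Set G)), map_conj_inf_centralizer,
      map_conj_eq_of_mem_normalizer (Subgroup.le_normalizer hu), hmap]

end Cfsg.Agent.S4688
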