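import Cfsg.Statements.S4209
import Mathlib
import Cfsg.Agent.S4206
import Cfsg.Agent.Lib.PGroup.ElementaryAbelian

set_option autoImplicit false
open Cfsg
open scoped commutatorElement

namespace Cfsg.Agent.S4209

section helpers

/-! Polynomial sequences in a filtered group (Lazard, Leibman) give the Hall–Petrescu congruence. -/

variable {G : Type*} [Group G]

/-- a filtration of `G` -/
structure Filt (G : Type*) [Group G] where
  F : ℕ → Subgroup G
  anti : ∀ i, F (i + 1) ≤ F i
  comm : ∀ i j, ∀ x ∈ F i, ∀ y ∈ F j, x⁻¹ * y⁻¹ * x * y ∈ F (i + j)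

theorem Filt.mono (Φ : Filt G) {i j : ℕ} (h : i ≤ j) : Φ.F j ≤ Φ.F i :=
  antitone_nat_of_succ_le Φ.anti h

/-- the forward difference -/
def dff (f : ℕ → G) : ℕ → G := fun m => (f m)⁻¹ * f (m + 1)

/-- polynomial sequences of shift `s`, tested up to order `j` -/
def PolyUp (Φ : Filt G) : ℕ → ℕ → (ℕ → G) → Prop
  | 0, s, f => ∀ m, f m ∈ Φ.F s
  | j + 1, s, f => (∀ m, f m ∈ Φ.F s) ∧ PolyUp Φ j (s + 1) (dff f)

theorem polyUp_val (Φ : Filt G) : ∀ {j s : ℕ} {f : ℕ → G}, PolyUp Φ j s f → ∀ m, f m ∈ Φ.F s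
  | 0, _, _, h => h
  | _ + 1, _, _, h => h.1

theorem polyUp_pred (Φ : Filt G) : ∀ {j s : ℕ} {f : ℕ → G}, PolyUp Φ (j + 1) s f → PolyUp Φ j s f
  | 0, _, _, h => h.1
  | _ + 1, _, _, h => ⟨h.1, polyUp_pred Φ h.2⟩

theorem polyUp_shift (Φ : Filt G) : ∀ {j s t : ℕ} {f : ℕ → G}, t ≤ s → PolyUp Φ j s f → PolyUp Φ j t f
  | 0, _, _, _, hts, h => fun m => Φ.mono hts (h m)
  | _ + 1, _, _, _, hts, h => ⟨fun m => Φ.mono hts (h.1 m), polyUp_shift Φ (by omega) h.2⟩

/-- the commutator `x⁻¹y⁻¹xy` of sequences -/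
def cm (f g : ℕ → G) : ℕ → G := fun m => (f m)⁻¹ * (g m)⁻¹ * f m * g m

theorem polyUp_closure (Φ : Filt G) : ∀ j : ℕ,
    (∀ s f g, PolyUp Φ j s f → PolyUp Φ j s g → PolyUp Φ j s (fun m => f m * g m)) ∧
    (∀ s f, PolyUp Φ j s f → PolyUp Φ j s (fun m => (f m)⁻¹)) ∧
    (∀ s t f g, PolyUp Φ j s f → PolyUp Φ j t g → PolyUp Φ j (s + t) (cm f g)) := by
  intro j
  induction j with
  | zero =>
    exact ⟨fun s f g hf hg m => (Φ.F s).mul_mem (hf m) (hg m), fun s f hf m => (Φ.F s).inv_mem (hf m),
      fun s t f g hf hg m => Φ.comm s t _ (hf m) _ (hg m)⟩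
  | succ j ih =>
    obtain ⟨hmul, hinv, hcm⟩ := ih
    refine ⟨fun s f g hf hg => ⟨fun m => (Φ.F s).mul_mem (hf.1 m) (hg.1 m), ?_⟩,
      fun s f hf => ⟨fun m => (Φ.F s).inv_mem (hf.1 m), ?_⟩,
      fun s t f g hf hg => ⟨fun m => Φ.comm s t _ (hf.1 m) _ (hg.1 m), ?_⟩⟩
    · have e : dff (fun m => f m * g m) = fun m => dff f m * cm (dff f) g m * dff g m := by
        funext m; simp only [dff, cm]; group
      rw [e]
      exact hmul _ _ _ (hmul _ _ _ hf.2 (polyUp_shift Φ (by omega) (hcm _ _ _ _ hf.2 (polyUp_pred Φ hg)))) hg.2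
    · have e : dff (fun m => (f m)⁻¹) =
          fun m => (dff f m)⁻¹ * cm (fun m => (dff f m)⁻¹) (fun m => (f m)⁻¹) m := by
        funext m; simp only [dff, cm]; group
      rw [e]
      exact hmul _ _ _ (hinv _ _ hf.2)
        (polyUp_shift Φ (by omega) (hcm _ _ _ _ (hinv _ _ hf.2) (hinv _ _ (polyUp_pred Φ hf))))
    · have hf' := polyUp_pred Φ hf
      have hg' := polyUp_pred Φ hg
      have hfg := hcm _ _ _ _ hf' hg'
      have hfv := hcm _ _ _ _ hf' hg.2
      have hfgv := hcm _ _ _ _ hfg hg.2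
      have hX : PolyUp Φ j (s + t) (fun m => cm f (dff g) m * cm f g m * cm (cm f g) (dff g) m) :=
        hmul _ _ _ (hmul _ _ _ (polyUp_shift Φ (by omega) hfv) hfg) (polyUp_shift Φ (by omega) hfgv)
      have hgv : PolyUp Φ j t (fun m => g m * dff g m) := hmul _ _ _ hg' (polyUp_shift Φ (by omega) hg.2)
      have e : dff (cm f g) = fun m => cm f (dff g) m * cm (cm f (dff g)) (cm f g) m *
          cm (cm f g) (dff g) m *
          cm (fun m => cm f (dff g) m * cm f g m * cm (cm f g) (dff g) m) (dff f) m *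
          cm (dff f) (fun m => g m * dff g m) m := by
        funext m; simp only [dff, cm]; group
      rw [e]
      refine hmul _ _ _ (hmul _ _ _ (hmul _ _ _ (hmul _ _ _ ?_ ?_) ?_) ?_) ?_
      · exact polyUp_shift Φ (by omega) hfv
      · exact polyUp_shift Φ (by omega) (hcm _ _ _ _ hfv hfg)
      · exact polyUp_shift Φ (by omega) hfgv
      · exact polyUp_shift Φ (by omega) (hcm _ _ _ _ hX hf.2)
      · exact polyUp_shift Φ (by omega) (hcm _ _ _ _ hf.2 hgv)

/-- a polynomial sequence -/
def Poly (Φ : Filt G) (f : ℕ → G) : Prop := ∀ j, PolyUp Φ j 0 f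

theorem polyUp_iter (Φ : Filt G) : ∀ {j s : ℕ} {f : ℕ → G}, PolyUp Φ j s f → ∀ m, dff^[j] f m ∈ Φ.F (s + j)
  | 0, _, _, h => h
  | j + 1, s, f, h => fun m => by
    rw [Function.iterate_succ_apply, show s + (j + 1) = s + 1 + j by omega]
    exact polyUp_iter Φ h.2 m

theorem polyUp_one (Φ : Filt G) : ∀ j s, PolyUp Φ j s (fun _ => 1)
  | 0, s => fun _ => (Φ.F s).one_mem
  | j + 1, s => ⟨fun _ => (Φ.F s).one_mem, by
      rw [show dff (fun _ => (1 : G)) = fun _ => 1 from funext fun _ => by simp [dff]]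
      exact polyUp_one Φ j (s + 1)⟩

/-- `m ↦ c ^ C(m,k)` for `c ∈ F i`, `k + s ≤ i` -/
theorem polyUp_binom (Φ : Filt G) : ∀ j k s i (c : G), c ∈ Φ.F i → k + s ≤ i →
    PolyUp Φ j s (fun m => c ^ m.choose k)
  | 0, k, s, i, c, hc, h => fun m => (Φ.F s).pow_mem (Φ.mono (by omega) hc) _
  | j + 1, k, s, i, c, hc, h => by
    refine ⟨fun m => (Φ.F s).pow_mem (Φ.mono (by omega) hc) _, ?_⟩
    rcases Nat.eq_zero_or_pos k with rfl | hk
    · rw [show dff (fun m => c ^ m.choose 0) = fun _ => 1 from funext fun m => by simp [dff]]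
      exact polyUp_one Φ j _
    · obtain ⟨k', rfl⟩ : ∃ k', k = k' + 1 := ⟨k - 1, by omega⟩
      rw [show dff (fun m => c ^ m.choose (k' + 1)) = fun m => c ^ m.choose k' from funext fun m => by
        simp only [dff]
        rw [Nat.choose_succ_succ', Nat.add_comm (m.choose k'), pow_add, inv_mul_cancel_left]]
      exact polyUp_binom Φ j k' (s + 1) i c hc (by omega)

/-- Newton's interpolation product -/
def newton (c : ℕ → G) : ℕ → ℕ → G
  | 0, m => c 0 ^ m.choose 0
  | t + 1, m => newton c t m * c (t + 1) ^ m.choose (t + 1)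

theorem newton_comm {A : Type*} [CommGroup A] (t : ℕ) : ∀ (f : ℕ → A), (∀ m, dff^[t + 1] f m = 1) →
    ∀ m, f m = ∏ j ∈ Finset.range (t + 1), (dff^[j] f 0) ^ m.choose j := by
  induction t with
  | zero =>
    intro f hf m
    simp only [zero_add, Finset.range_one, Finset.prod_singleton, Function.iterate_zero, id_eq,
      Nat.choose_zero_right, pow_one]
    induction m with
    | zero => rfl
    | succ m ihm =>
      have := hf m
      rw [Function.iterate_one] at this
      rw [← ihm]
      exact (inv_mul_eq_one.1 this).symm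
  | succ t ih =>
    intro f hf m
    have hd := ih (dff f) (fun m => by rw [← Function.iterate_succ_apply]; exact hf m)
    induction m with
    | zero =>
      rw [Finset.prod_range_succ']
      simp
    | succ m ihm =>
      have e : f (m + 1) = f m * dff f m := (mul_inv_cancel_left (f m) (f (m + 1))).symm
      rw [e, ihm, hd m, Finset.prod_range_succ' _ (t + 1), Finset.prod_range_succ' _ (t + 1)]
      simp only [Nat.choose_succ_succ, pow_add, Finset.prod_mul_distrib, Nat.choose_zero_right, pow_one,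
        Function.iterate_succ_apply, Function.iterate_zero, id_eq]
      rw [mul_right_comm, mul_comm (∏ x ∈ Finset.range (t + 1), (dff^[x] (dff f) 0) ^ m.choose (x + 1))]

theorem newton_eq_prod {A : Type*} [CommGroup A] (c : ℕ → A) (t m : ℕ) :
    newton c t m = ∏ j ∈ Finset.range (t + 1), c j ^ m.choose j := by
  induction t with
  | zero => simp [newton]
  | succ t ih => rw [newton, ih, Finset.prod_range_succ _ (t + 1)]

theorem map_newton {H : Type*} [Group H] (φ : G →* H) (c : ℕ → G) : ∀ t m,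
    φ (newton c t m) = newton (fun j => φ (c j)) t m
  | 0, m => by simp [newton]
  | t + 1, m => by simp [newton, map_newton φ c t m]

theorem dvd_choose_prime_pow {p : ℕ} (hp : p.Prime) (n j : ℕ) (hj : 1 ≤ j) (hjp : j < p) :
    p ^ n ∣ (p ^ n).choose j := by
  obtain ⟨j', rfl⟩ : ∃ j', j = j' + 1 := ⟨j - 1, by omega⟩
  obtain ⟨q, hq⟩ : ∃ q, p ^ n = q + 1 := ⟨p ^ n - 1, by have := pow_pos hp.pos n; omega⟩
  have h := Nat.add_one_mul_choose_eq q j'
  rw [← hq] at h
  refine Nat.Coprime.dvd_of_dvd_mul_right ?_ (Dvd.intro _ h)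
  exact (hp.coprime_iff_not_dvd.2 fun hd => absurd (Nat.le_of_dvd (by omega) hd) (by omega)).pow_left n

variable {p n : ℕ}

/-- the key congruence: a polynomial sequence in the derived part -/
theorem poly_congr (Φ : Filt G) (hp : p.Prime) (htriv : Φ.F p = ⊥) (W : Subgroup G)
    (hW : ∀ x ∈ Φ.F 2, x ^ p ^ n ∈ W) :
    ∀ d i, p ≤ i + d → 2 ≤ i → ∀ f, Poly Φ f → (∀ m, f m ∈ Φ.F i) → (f 0)⁻¹ * f (p ^ n) ∈ W := by
  intro d
  induction d with
  | zero =>
    intro i hid hi f hf hv
    have h1 : ∀ m, f m = 1 := fun m => Subgroup.mem_bot.1 (htriv ▸ Φ.mono (show p ≤ i by omega) (hv m))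
    rw [h1, h1, inv_one, one_mul]
    exact W.one_mem
  | succ d ih =>
    intro i hid hi f hf hv
    rcases le_or_gt p i with hpi | hpi
    · have h1 : ∀ m, f m = 1 := fun m => Subgroup.mem_bot.1 (htriv ▸ Φ.mono hpi (hv m))
      rw [h1, h1, inv_one, one_mul]
      exact W.one_mem
    let c : ℕ → G := fun j => dff^[j] f 0
    have hvj : ∀ j m, dff^[j] f m ∈ Φ.F i := by
      intro j
      induction j with
      | zero => exact hv
      | succ j ihj =>
        intro m
        rw [Function.iterate_succ_apply']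
        exact (Φ.F i).mul_mem ((Φ.F i).inv_mem (ihj m)) (ihj (m + 1))
    have hnewton : ∀ t, t ≤ i → Poly Φ (newton c t) := by
      intro t
      induction t with
      | zero => exact fun _ j => polyUp_binom Φ j 0 0 i (c 0) (hvj 0 0) (by omega)
      | succ t iht =>
        exact fun ht j => (polyUp_closure Φ j).1 0 _ _ (iht (by omega) j)
          (polyUp_binom Φ j (t + 1) 0 i _ (hvj _ 0) (by omega))
    have hg : Poly Φ (fun m => (newton c i m)⁻¹ * f m) := fun j =>
      (polyUp_closure Φ j).1 0 _ _ ((polyUp_closure Φ j).2.1 0 _ (hnewton i le_rfl j)) (hf j)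
    -- modulo F (i+1)
    have hnormal : ((Φ.F (i + 1)).subgroupOf (Φ.F i)).Normal := by
      refine ⟨fun x hx y => ?_⟩
      rw [Subgroup.mem_subgroupOf] at hx ⊢
      have h1 := Φ.comm (i + 1) i _ hx _ ((Φ.F i).inv_mem y.2)
      have h2 : (y : G) * x * (y : G)⁻¹ = x * ((x : G)⁻¹ * ((y : G)⁻¹)⁻¹ * x * (y : G)⁻¹) := by group
      simp only [Subgroup.coe_mul, Subgroup.coe_inv]
      rw [h2]
      exact (Φ.F (i + 1)).mul_mem hx (Φ.mono (by omega) h1)
    let φ : Φ.F i →* Φ.F i ⧸ (Φ.F (i + 1)).subgroupOf (Φ.F i) := QuotientGroup.mk' _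
    letI : CommGroup (Φ.F i ⧸ (Φ.F (i + 1)).subgroupOf (Φ.F i)) :=
      { (inferInstance : Group (Φ.F i ⧸ (Φ.F (i + 1)).subgroupOf (Φ.F i))) with
        mul_comm := fun a b => by
          obtain ⟨a, rfl⟩ := QuotientGroup.mk_surjective a
          obtain ⟨b, rfl⟩ := QuotientGroup.mk_surjective b
          rw [← QuotientGroup.mk_mul, ← QuotientGroup.mk_mul, QuotientGroup.eq, Subgroup.mem_subgroupOf]
          have := Φ.comm i i _ b.2 _ a.2
          simp only [Subgroup.coe_mul, Subgroup.coe_inv, mul_inv_rev]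
          refine Φ.mono (by omega) (?_ : _ ∈ Φ.F (i + i))
          simpa [mul_assoc] using this }
    let f' : ℕ → Φ.F i := fun m => ⟨f m, hv m⟩
    have hiter : ∀ j m, ((dff^[j] f' m : Φ.F i) : G) = dff^[j] f m := by
      intro j
      induction j with
      | zero => exact fun _ => rfl
      | succ j ihj =>
        intro m
        rw [Function.iterate_succ_apply', Function.iterate_succ_apply']
        simp [dff, ihj]
    have hiterφ : ∀ j m, dff^[j] (fun m => φ (f' m)) m = φ (dff^[j] f' m) := by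
      intro j
      induction j with
      | zero => exact fun _ => rfl
      | succ j ihj =>
        intro m
        rw [Function.iterate_succ_apply', Function.iterate_succ_apply']
        simp [dff, ihj]
    have hdeg : ∀ m, dff^[i + 1] (fun m => φ (f' m)) m = 1 := by
      intro m
      rw [hiterφ]
      apply (QuotientGroup.eq_one_iff _).2
      rw [Subgroup.mem_subgroupOf, hiter]
      have := polyUp_iter Φ (hf (i + 1)) m
      rwa [zero_add] at this
    let c' : ℕ → Φ.F i := fun j => dff^[j] f' 0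
    have hc' : ∀ t m, ((newton c' t m : Φ.F i) : G) = newton c t m := by
      intro t m
      have e : (fun j => ((c' j : Φ.F i) : G)) = c := funext fun j => hiter j 0
      have h := map_newton (Φ.F i).subtype c' t m
      simp only [Subgroup.subtype_apply] at h
      rw [h, e]
    have hval : ∀ m, (newton c i m)⁻¹ * f m ∈ Φ.F (i + 1) := by
      intro m
      have key : φ (newton c' i m) = φ (f' m) := by
        rw [map_newton, newton_eq_prod, newton_comm i (fun m => φ (f' m)) hdeg m]
        exact Finset.prod_congr rfl fun j _ => by rw [hiterφ]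
      have hq := QuotientGroup.eq.1 key
      rw [Subgroup.mem_subgroupOf] at hq
      simpa [hc'] using hq
    have hrec := ih (i + 1) (by omega) (by omega) _ hg hval
    have h0 : ∀ t, newton c t 0 = c 0 := by
      intro t
      induction t with
      | zero => simp [newton]
      | succ t iht => simp [newton, iht, Nat.choose_zero_succ]
    have hq : ∀ t, t ≤ i → (c 0)⁻¹ * newton c t (p ^ n) ∈ W := by
      intro t
      induction t with
      | zero => exact fun _ => by simp [newton]
      | succ t iht =>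
        intro ht
        simp only [newton]
        rw [← mul_assoc]
        refine W.mul_mem (iht (by omega)) ?_
        obtain ⟨k, hk⟩ := dvd_choose_prime_pow hp n (t + 1) (by omega) (by omega)
        rw [hk, mul_comm, pow_mul]
        exact hW _ ((Φ.F 2).pow_mem (Φ.mono hi (hvj _ 0)) _)
    simp only [h0] at hrec
    have hc0 : c 0 = f 0 := rfl
    rw [hc0, inv_mul_cancel, inv_one, one_mul] at hrec
    have := W.mul_mem (hq i le_rfl) hrec
    rw [hc0, mul_assoc, mul_inv_cancel_left] at this
    exact this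

theorem lcs_comm (i j : ℕ) :
    ⁅(⊤ : Subgroup G).lowerCentralSeries i, (⊤ : Subgroup G).lowerCentralSeries j⁆ ≤
      (⊤ : Subgroup G).lowerCentralSeries (i + j + 1) :=
  S4206.descend (fun i => (⊤ : Subgroup G).lowerCentralSeries i) (fun _ => inferInstance) ⊤
    (fun _ => le_rfl) j i

/-- the lower central filtration -/
def lcFilt (G : Type*) [Group G] : Filt G where
  F i := (⊤ : Subgroup G).lowerCentralSeries (i - 1)
  anti i := (⊤ : Subgroup G).lowerCentralSeries_antitone (by omega)
  comm i j x hx y hy := by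
    have h := Subgroup.commutator_mem_commutator (Subgroup.inv_mem _ hx) (Subgroup.inv_mem _ hy)
    rw [commutatorElement_def, inv_inv, inv_inv] at h
    rcases Nat.eq_zero_or_pos i with rfl | hi
    · have h2 := Subgroup.commutator_le_right ((⊤ : Subgroup G).lowerCentralSeries (0 - 1))
        ((⊤ : Subgroup G).lowerCentralSeries (j - 1)) h
      simpa using h2
    rcases Nat.eq_zero_or_pos j with rfl | hj
    · have h2 := Subgroup.commutator_le_left ((⊤ : Subgroup G).lowerCentralSeries (i - 1))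
        ((⊤ : Subgroup G).lowerCentralSeries (0 - 1)) h
      simpa using h2
    exact (⊤ : Subgroup G).lowerCentralSeries_antitone (by omega) (lcs_comm _ _ h)

theorem poly_pow (a : G) : Poly (lcFilt G) (fun m => a ^ m) := by
  intro j
  have := polyUp_binom (lcFilt G) j 1 0 1 a (by simp [lcFilt]) le_rfl
  simpa using this

theorem hall_petrescu (hp : p.Prime) (hcl : (⊤ : Subgroup G).lowerCentralSeries (p - 1) = ⊥)
    (a b : G) (n : ℕ) :
    ∃ c ∈ Cfsg.powerClosure p n (commutator G), (a * b) ^ p ^ n = a ^ p ^ n * b ^ p ^ n * c := by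
  let f : ℕ → G := fun m => (b ^ m)⁻¹ * (a ^ m)⁻¹ * (a * b) ^ m
  have hf : Poly (lcFilt G) f := fun j =>
    (polyUp_closure _ j).1 0 _ _ ((polyUp_closure _ j).1 0 _ _ ((polyUp_closure _ j).2.1 0 _ (poly_pow b j))
      ((polyUp_closure _ j).2.1 0 _ (poly_pow a j))) (poly_pow (a * b) j)
  have hv : ∀ m, f m ∈ (lcFilt G).F 2 := by
    intro m
    show f m ∈ (⊤ : Subgroup G).lowerCentralSeries 1
    rw [Subgroup.top_lowerCentralSeries_one]
    have hA : Abelianization.of (f m) = 1 := by
      simp only [f, map_mul, map_inv, map_pow, mul_pow]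
      rw [mul_comm ((Abelianization.of b ^ m)⁻¹), ← mul_inv_rev, mul_comm (Abelianization.of b ^ m),
        inv_mul_cancel]
    exact (QuotientGroup.eq_one_iff (N := commutator G) _).1 hA
  have hW : ∀ x ∈ (lcFilt G).F 2, x ^ p ^ n ∈ Cfsg.powerClosure p n (commutator G) := by
    intro x hx
    refine Subgroup.subset_closure ⟨x, ?_, rfl⟩
    rw [← Subgroup.top_lowerCentralSeries_one]
    exact hx
  have h := poly_congr (lcFilt G) hp (by simp only [lcFilt]; exact hcl) _ hW p 2 (by omega) le_rfl f hf hv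
  simp only [f, pow_zero, inv_one, one_mul, mul_one] at h
  exact ⟨_, h, by group⟩

theorem regular_of_class [Finite G] [Fact p.Prime] (hG : IsPGroup p G)
    (hcl : (⊤ : Subgroup G).lowerCentralSeries (p - 1) = ⊥) : Cfsg.IsRegularPGroup p G := by
  refine ⟨hG, fun a b n => ?_⟩
  set K := Subgroup.closure ({a, b} : Set G) with hK
  have hclK : (⊤ : Subgroup K).lowerCentralSeries (p - 1) = ⊥ := by
    rw [← Subgroup.map_eq_bot_iff_of_injective _ K.subtype_injective, Subgroup.map_lowerCentralSeries,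
      eq_bot_iff, ← hcl]
    exact Subgroup.lowerCentralSeries_mono _ le_top
  obtain ⟨c, hc, he⟩ := hall_petrescu Fact.out hclK (⟨a, Subgroup.subset_closure (Set.mem_insert a _)⟩ : K)
    ⟨b, Subgroup.subset_closure (Set.mem_insert_of_mem a rfl)⟩ n
  refine ⟨c, ?_, ?_⟩
  · have h2 := Subgroup.mem_map_of_mem K.subtype hc
    rw [PGroup.map_powerClosure, Subgroup.map_subtype_commutator] at h2
    exact h2
  · simpa using congrArg Subtype.val he

end helpers

/-- A finite `p`-group of nilpotency class less than `p` (the term of index `p - 1` of the lower central series of the whole group, indexed from `0`, is trivial) is a regular `p`-group. -/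
theorem result {G : Type*} [Group G] [Finite G] {p : ℕ} [Fact p.Prime] (hG : IsPGroup p G) (hcl : (⊤ : Subgroup G).lowerCentralSeries (p - 1) = ⊥) : Cfsg.IsRegularPGroup p G := by
  exact regular_of_class hG hcl

end Cfsg.Agent.S4209
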