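import Cfsg.Statements.S4511
import Cfsg.Agent.Lib.Blocks.SecondMain
import Cfsg.Agent.Lib.BrauerPairs.Rank

set_option autoImplicit false
set_option linter.style.haveILetI false
set_option linter.unusedSectionVars false
open Cfsg

namespace Cfsg.Agent.S4511

open scoped Classical ComplexConjugate
open Agent

universe u

variable {G : Type u} [Group G] [Finite G] {p : ℕ} [Fact p.Prime] {M : Ideal AlgInt} [M.IsMaximal]

/-- The squared norms over a block, summed over the `p`-regular elements, give the rank. -/
theorem sum_regular_block (hpM : (p : AlgInt) ∈ M) [Fintype G] {b : Set (IrrCharacter G)}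
    (hb : IsPBlock M b) :
    ∑ s ∈ Finset.univ.filter (fun s : G => IsPRegular p s),
      ∑ η ∈ Finset.univ.filter (· ∈ b), η.1 s * conj (η.1 s) =
        (Nat.card G : ℂ) * (blockRank p b : ℂ) := by
  rw [BrauerPairs.blockRank_eq_sum hpM Fact.out hb, Finset.mul_sum, Finset.sum_comm,
    ← Finset.sum_subtype (Finset.univ.filter (· ∈ b)) (by simp)
      (fun η : IrrCharacter G => (Nat.card G : ℂ) * classInner (Char.regFun p η.1) η.1)]
  refine Finset.sum_congr rfl fun η _ => ?_
  rw [classInner, ← mul_assoc, mul_inv_cancel₀ (Nat.cast_ne_zero.2 Nat.card_pos.ne'), one_mul,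
    Finset.sum_filter]
  refine Finset.sum_congr rfl fun s _ => ?_
  rw [← BrauerPairs.pRegularPart_eq_regFun]
  unfold pRegularPart
  split_ifs <;> simp

/-- The `p`-section of `x`, summed. -/
theorem sum_section (hpM : (p : AlgInt) ∈ M) [Fintype G] {B : Set (IrrCharacter G)}
    (hB : IsPBlock M B) {x : G} (hx : ∃ k, orderOf x = p ^ k) :
    ∑ g ∈ Finset.univ.filter (fun g : G => IsPPart p g x),
      ∑ χ ∈ Finset.univ.filter (· ∈ B), χ.1 g * conj (χ.1 g) =
    (Nat.card (Subgroup.centralizer ({x} : Set G)) : ℂ) *
      ((∑ᶠ b ∈ {b : Set (IrrCharacter ↥(Subgroup.centralizer ({x} : Set G))) |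
        IsInducedBlock M (Subgroup.centralizer ({x} : Set G)) b B}, blockRank p b : ℕ) : ℂ) := by
  haveI := Fintype.ofFinite (Subgroup.centralizer ({x} : Set G))
  set C := Subgroup.centralizer ({x} : Set G)
  let R := Finset.univ.filter (fun s : C => IsPRegular p s)
  have hsec : Finset.univ.filter (fun g : G => IsPPart p g x) =
      R.image (fun s : C => x * (s : G)) := by
    ext g
    simp only [Finset.mem_filter, Finset.mem_univ, true_and, Finset.mem_image, R]
    constructor
    · intro hg
      obtain ⟨s, hs, hr⟩ := Blocks.exists_regular_factor hg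
      exact ⟨s, hr, hs⟩
    · rintro ⟨s, hr, rfl⟩
      refine Blocks.isPPart_mul (Subgroup.mem_centralizer_singleton_iff.1 s.2).symm hx ?_
      show ¬ p ∣ orderOf (s : G)
      rw [Subgroup.orderOf_coe]
      exact hr
  rw [hsec, Finset.sum_image (fun a _ b _ h => Subtype.ext (mul_left_cancel h)),
    Finset.sum_congr rfl fun s hs => Blocks.second_main_orth hpM hx hB (Finset.mem_filter.1 hs).2
      (Finset.mem_filter.1 hs).2]
  set U := Blocks.inducingSet M C B
  rw [Finset.sum_congr rfl fun s _ =>
    (Blocks.isBlockUnion_inducingSet (M := M) C B).sum_eq (fun η => η.1 s * conj (η.1 s)),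
    Finset.sum_comm, Finset.sum_congr rfl fun b hb => sum_regular_block hpM (by
      obtain ⟨η, -, rfl⟩ := Finset.mem_image.1 hb
      exact Blocks.isPBlock_blockOf η), ← Finset.mul_sum, ← Nat.cast_sum]
  congr 2
  refine (finsum_mem_eq_sum_of_inter_support_eq _ ?_).symm
  congr 1
  ext b
  simp only [Set.mem_setOf_eq, Finset.coe_image, Finset.coe_filter, Finset.mem_univ, true_and,
    Set.mem_image]
  constructor
  · intro h
    obtain ⟨η, hη⟩ := Blocks.block_nonempty h.1
    refine ⟨η, ?_, (Blocks.block_eq h.1 hη).symm⟩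
    show IsInducedBlock M C (blockOf M η.1) B
    rwa [← Blocks.block_eq h.1 hη]
  · rintro ⟨η, h, rfl⟩
    exact h

/-- Brauer's count of the irreducible characters in a block by subsections. Let M be a maximal ideal of the algebraic integers containing the prime p, B a p-block of the finite group G, and X a set of representatives of the conjugacy classes of p-elements of G (elements of p-power order, the identity included: every p-element is conjugate to exactly one member of X). Then the number of irreducible characters in B is the sum, over x ∈ X and over the blocks b of C_G(x) that induce B, of the p-regular rank of b (the number of irreducible Brauer characters of b, here the dimension of the span of the restrictions of the members of b to the p-regular elements of C_G(x)). -/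
theorem result {G : Type*} [Group G] [Finite G] (p : ℕ) (M : Ideal Cfsg.AlgInt) (hM : Cfsg.IsPModular p M)
    (B : Set (Cfsg.IrrCharacter G)) (hB : Cfsg.IsPBlock M B) (X : Finset G)
    (hX : ∀ x ∈ X, ∃ k : ℕ, orderOf x = p ^ k)
    (hXrep : ∀ g : G, (∃ k : ℕ, orderOf g = p ^ k) → ∃! x, x ∈ X ∧ IsConj g x) :
    Nat.card B = ∑ x ∈ X, ∑ᶠ b ∈ {b : Set (Cfsg.IrrCharacter ↥(Subgroup.centralizer ({x} : Set G))) | Cfsg.IsInducedBlock M (Subgroup.centralizer ({x} : Set G)) b B},
      Cfsg.blockRank p b := by
  classical
  haveI := Fintype.ofFinite G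
  haveI : Fact p.Prime := ⟨hM.1⟩
  haveI := hM.2.1
  -- group the elements by their `p`-parts
  choose pp hpp using fun g : G => Blocks.exists_isPPart (p := p) g
  obtain ⟨F, hF⟩ : ∃ F : G → ℂ, F = fun g =>
      ∑ χ ∈ Finset.univ.filter (· ∈ B), χ.1 g * (starRingEnd ℂ) (χ.1 g) := ⟨_, rfl⟩
  have hFc : ∀ a g : G, F (a * g * a⁻¹) = F g := fun a g => by
    simp only [hF]
    exact Finset.sum_congr rfl fun χ _ => by
      rw [Char.IsCharacter.isClassFunction (Char.irr_isCharacter χ) g a]
  have h1 : ∑ g : G, F g = (Nat.card G : ℂ) * (Nat.card B : ℂ) := by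
    simp only [hF]
    rw [Finset.sum_comm, Finset.sum_congr rfl (g := fun _ => (Nat.card G : ℂ)) fun χ _ => ?_,
      Finset.sum_const, nsmul_eq_mul, mul_comm]
    · congr 2
      rw [Nat.card_eq_fintype_card, ← Fintype.card_subtype]
    · have h := Char.classInner_irr_self χ.2
      rw [Cfsg.classInner, inv_mul_eq_one₀ (Nat.cast_ne_zero.2 Nat.card_pos.ne')] at h
      exact h.symm
  have hppc : ∀ a g : G, pp (a * g * a⁻¹) = a * pp g * a⁻¹ := fun a g =>
    Blocks.IsPPart.unique (hpp _) (Blocks.IsPPart.conj (hpp g) a)
  have h2 : ∑ g : G, F g = ∑ x ∈ X, ∑ g ∈ Finset.univ.filter (fun g => IsConj x (pp g)), F g := by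
    simp only [Finset.sum_filter]
    rw [Finset.sum_comm]
    refine Finset.sum_congr rfl fun g _ => ?_
    obtain ⟨x, ⟨hxX, hgx⟩, hu⟩ := hXrep (pp g) (Blocks.IsPPart.isPElement (hpp g))
    rw [Finset.sum_eq_single_of_mem x hxX fun y hy hne => if_neg fun h => hne (hu y ⟨hy, h.symm⟩),
      if_pos hgx.symm]
  have h3 : ∀ x : G, (∃ k, orderOf x = p ^ k) →
      (Nat.card (Subgroup.centralizer ({x} : Set G)) : ℂ) *
        ∑ g ∈ Finset.univ.filter (fun g => IsConj x (pp g)), F g =
      (Nat.card G : ℂ) * ∑ g ∈ Finset.univ.filter (fun g => IsPPart p g x), F g := by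
    intro x hx
    have hA : ∀ a : G, ∑ g ∈ Finset.univ.filter (fun g => pp g = a * x * a⁻¹), F g =
        ∑ g ∈ Finset.univ.filter (fun g => IsPPart p g x), F g := fun a => by
      refine Finset.sum_equiv (MulAut.conj a⁻¹).toEquiv (fun g => ?_) fun g _ => ?_
      · simp only [Finset.mem_filter, Finset.mem_univ, true_and, MulEquiv.toEquiv_eq_coe,
          MulEquiv.coe_toEquiv, MulAut.conj_apply]
        constructor
        · intro h
          have h' := hpp (a⁻¹ * g * a⁻¹⁻¹)
          rwa [hppc, h, show a⁻¹ * (a * x * a⁻¹) * a⁻¹⁻¹ = x by group] at h'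
        · intro h
          have := Blocks.IsPPart.unique h (hpp _)
          rw [hppc] at this
          rw [this]; group
      · simp only [MulEquiv.toEquiv_eq_coe, MulEquiv.coe_toEquiv, MulAut.conj_apply, hFc]
    calc _ = ∑ g : G, ∑ a : G, if pp g = a * x * a⁻¹ then F g else 0 := by
          rw [Finset.mul_sum, Finset.sum_filter]
          refine Finset.sum_congr rfl fun g _ => ?_
          rw [← Finset.sum_filter, Finset.sum_const, nsmul_eq_mul]
          split_ifs with hc
          · obtain ⟨c, hc⟩ := isConj_iff.1 hc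
            congr 2
            rw [Nat.card_eq_fintype_card, Fintype.card_subtype]
            refine Finset.card_equiv (Equiv.mulLeft c) fun a => ?_
            simp only [Finset.mem_filter, Finset.mem_univ, true_and, Equiv.coe_mulLeft, ← hc,
              Subgroup.mem_centralizer_singleton_iff]
            constructor
            · intro h
              calc c * x * c⁻¹ = c * (a * x * a⁻¹) * c⁻¹ := by rw [h, mul_inv_cancel_right]
                _ = c * a * x * (c * a)⁻¹ := by group
            · intro h
              have : a * x * a⁻¹ = x := by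
                calc a * x * a⁻¹ = c⁻¹ * (c * a * x * (c * a)⁻¹) * c := by group
                  _ = x := by rw [← h]; group
              exact mul_inv_eq_iff_eq_mul.1 this
          · rw [Finset.card_eq_zero.2, Nat.cast_zero, zero_mul]
            exact Finset.filter_eq_empty_iff.2 fun a _ h => hc (isConj_iff.2 ⟨a, h.symm⟩)
      _ = _ := by
          rw [Finset.sum_comm]
          simp only [← Finset.sum_filter, hA, Finset.sum_const, nsmul_eq_mul, Finset.card_univ,
            ← Nat.card_eq_fintype_card]
  have hG0 : (Nat.card G : ℂ) ≠ 0 := Nat.cast_ne_zero.2 Nat.card_pos.ne'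
  refine Nat.cast_injective (R := ℂ) (mul_left_cancel₀ hG0 ?_)
  rw [← h1, h2, Nat.cast_sum, Finset.mul_sum]
  refine Finset.sum_congr rfl fun x hx => ?_
  refine mul_left_cancel₀ (Nat.cast_ne_zero.2 (Nat.card_pos.ne' :
    Nat.card (Subgroup.centralizer ({x} : Set G)) ≠ 0) : ((_ : ℕ) : ℂ) ≠ 0) ?_
  rw [h3 x (hX x hx), hF, sum_section hM.2.2 hB (hX x hx)]
  ring

end Cfsg.Agent.S4511
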