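import Cfsg.Statements.S4646
import Cfsg.Agent.Lib.BrauerPairs.PrincipalNilpotent
import Cfsg.Agent.Lib.Blocks.Core
import Cfsg.Agent.Lib.CharInt.Basic

set_option autoImplicit false
open Cfsg Cfsg.Agent Cfsg.Agent.BrauerPairs
open scoped ComplexConjugate

namespace Cfsg.Agent.S4646

/-- A normal subgroup of order prime to `p` acts trivially in the principal block. -/
theorem kernel_of_normal {G : Type*} [Group G] [Finite G] {p : ℕ} [Fact p.Prime] {M : Ideal AlgInt}
    [M.IsMaximal] (hpM : (p : AlgInt) ∈ M) (N : Subgroup G) [N.Normal] (hN : ¬ p ∣ Nat.card N)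
    {χ : IrrCharacter G} (hχ : χ ∈ principalBlock M G) {n : G} (hn : n ∈ N) : χ.1 n = χ.1 1 := by
  classical
  letI := Fintype.ofFinite G
  haveI := Fintype.ofFinite N
  have hN0 : (Nat.card N : ℂ) ≠ 0 := Nat.cast_ne_zero.2 Nat.card_pos.ne'
  set u : MonoidAlgebra ℂ G := Blocks.ofFun fun g => if g ∈ N then (Nat.card N : ℂ)⁻¹ else 0 with hu
  have huc : Blocks.IsCentralElt u := Blocks.isCentralElt_ofFun fun g h => by
    refine if_congr ⟨fun h' => ?_, fun h' => ‹N.Normal›.conj_mem g h' h⟩ rfl rfl
    simpa [mul_assoc] using ‹N.Normal›.conj_mem _ h' h⁻¹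
  have huS : Blocks.SCoeff M u := Blocks.scoeff_ofFun fun g => by
    split_ifs
    · exact Blocks.memLocalRing_inv_natCast hpM hN
    · exact Blocks.memLocalRing_zero
  have huu : u * u = u := by
    refine Blocks.alg_ext fun g => ?_
    rw [Blocks.coeff_mul_eq_sum, hu]
    simp only [Blocks.coeff_ofFun]
    by_cases hg : g ∈ N
    · rw [if_pos hg, Finset.sum_congr rfl (g := fun x => if x ∈ N then (Nat.card N : ℂ)⁻¹ * (Nat.card N : ℂ)⁻¹ else 0)
        (fun x _ => ?_), Finset.sum_ite, Finset.sum_const_zero, add_zero, Finset.sum_const, nsmul_eq_mul]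
      · rw [show (Finset.univ.filter fun x => x ∈ N).card = Nat.card N by
          rw [Nat.card_eq_fintype_card, Fintype.card_subtype], ← mul_assoc, mul_inv_cancel₀ hN0, one_mul]
      · by_cases hx : x ∈ N
        · rw [if_pos hx, if_pos hx, if_pos (mul_mem (inv_mem hx) hg)]
        · rw [if_neg hx, if_neg hx, zero_mul]
    · rw [if_neg hg]
      refine Finset.sum_eq_zero fun x _ => ?_
      by_cases hx : x ∈ N
      · have hxg : x⁻¹ * g ∉ N := fun h => hg (by rw [← mul_inv_cancel_left x g]; exact mul_mem hx h)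
        rw [if_neg hxg, mul_zero]
      · rw [if_neg hx, zero_mul]
  have hchiL : ∀ ψ : IrrCharacter G, Blocks.chiL ψ.1 u = (Nat.card N : ℂ)⁻¹ * ∑ x : N, ψ.1 x := by
    intro ψ
    rw [Blocks.chiL_eq_sum, hu, Finset.mul_sum]
    simp only [Blocks.coeff_ofFun, ite_mul, zero_mul]
    rw [Finset.sum_ite, Finset.sum_const_zero, add_zero]
    exact (Finset.sum_subtype (Finset.univ.filter fun x => x ∈ N) (by simp) _)
  have hω : Blocks.omega χ.1 u = 1 := by
    have h1 : Blocks.omega (Char.trivialChar G).1 u = 1 := by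
      have e : ∀ x : G, (Char.trivialChar G).1 x = 1 := fun x => rfl
      rw [Blocks.omega, hchiL]
      simp only [e, Finset.sum_const, Finset.card_univ, nsmul_eq_mul, mul_one, div_one]
      rw [← Nat.card_eq_fintype_card, inv_mul_cancel₀ hN0]
    have h2 := omega_sub_mem (M := M) (χ := Char.trivialChar G) (ψ := χ)
      hχ huc huS
    rw [h1] at h2
    have h3 := Blocks.omega_mul χ huc u
    rw [huu] at h3
    rcases eq_or_ne (Blocks.omega χ.1 u) 0 with h0 | h0
    · exfalso
      rw [h0, sub_zero] at h2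
      exact Blocks.not_memLocalIdeal_one h2
    · exact (mul_eq_left₀ h0).1 h3.symm
  have hsum : ∑ x : N, χ.1 x = (Nat.card N : ℂ) * χ.1 1 := by
    have h1 := hω
    rw [Blocks.omega, div_eq_one_iff_eq (Blocks.irr_one_ne_zero χ), hchiL, inv_mul_eq_iff_eq_mul₀ hN0] at h1
    exact h1
  have hc : Cfsg.IsCharacter G χ.1 := CharInt.isCharacter_of_isIrr χ.2
  obtain ⟨d, hd⟩ := CharInt.exists_degree hc
  have hle : ∀ x : N, (χ.1 x).re ≤ d := fun x => by
    refine (Complex.re_le_norm _).trans ((CharInt.norm_char_le hc x).trans_eq ?_)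
    rw [hd, Complex.norm_natCast]
  have hre : ∑ x : N, ((d : ℝ) - (χ.1 x).re) = 0 := by
    have h1 := congrArg Complex.re hsum
    rw [Complex.re_sum, hd, ← Nat.cast_mul, Complex.natCast_re, Nat.cast_mul] at h1
    rw [Finset.sum_sub_distrib, h1, Finset.sum_const, Finset.card_univ, nsmul_eq_mul,
      Nat.card_eq_fintype_card, sub_self]
  have h2 := (Finset.sum_eq_zero_iff_of_nonneg fun x _ => sub_nonneg.2 (hle x)).1 hre ⟨n, hn⟩ (Finset.mem_univ _)
  have hnorm : ‖χ.1 n‖ ≤ d := (CharInt.norm_char_le hc n).trans_eq (by rw [hd, Complex.norm_natCast])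
  rw [hd]
  have hre' : (χ.1 n).re = d := (sub_eq_zero.1 h2).symm
  have hsq : (χ.1 n).re * (χ.1 n).re + (χ.1 n).im * (χ.1 n).im ≤ (d : ℝ) * d := by
    rw [← Complex.normSq_apply, Complex.normSq_eq_norm_sq, sq]
    exact mul_self_le_mul_self (norm_nonneg _) hnorm
  refine Complex.ext (by simpa using hre') ?_
  rw [hre'] at hsq
  simpa using mul_self_eq_zero.1 (le_antisymm (by linarith) (mul_self_nonneg (χ.1 n).im))

/-- For a finite group G, a prime p and a maximal ideal M of the algebraic integers containing p: the principal block of G is nilpotent if and only if its p-regular rank is 1 (the trivial Brauer character is its only irreducible Brauer character). -/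
theorem result {G : Type*} [Group G] [Finite G] (p : ℕ) [Fact p.Prime] (M : Ideal Cfsg.AlgInt) (hM : Cfsg.IsPModular p M) : Cfsg.IsNilpotentBlock p M (Cfsg.principalBlock M G) ↔ Cfsg.blockRank p (Cfsg.principalBlock M G) = 1 := by
  classical
  have : M.IsMaximal := hM.2.1
  have : CharP (AlgInt ⧸ M) p := Blocks.charP_residue hM.2.2
  rw [isNilpotentBlock_principal_iff]
  have h1B : Char.trivialChar G ∈ principalBlock M G := trivialChar_mem_principalBlock
  have hne : pRegularPart p (Char.trivialChar G).1 ≠ 0 := fun h => by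
    have := congrFun h 1
    simp [pRegularPart, IsPRegular, (Fact.out : p.Prime).ne_one] at this
  have hmem1 : pRegularPart p (Char.trivialChar G).1 ∈
      Submodule.span ℂ ((fun χ : IrrCharacter G => pRegularPart p χ.1) '' principalBlock M G) :=
    Submodule.subset_span ⟨_, h1B, rfl⟩
  constructor
  · rintro ⟨P, N, hN, hcomp⟩
    have hcard := hcomp.card_mul_card
    have hNp : ¬ p ∣ Nat.card N := fun hd => by
      have h1 := Nat.mul_dvd_mul hd (dvd_refl (Nat.card (P : Subgroup G)))
      rw [hcard, P.card_eq_multiplicity, ← pow_succ'] at h1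
      exact Nat.pow_succ_factorization_not_dvd Nat.card_pos.ne' (Fact.out : p.Prime) h1
    have hregN : ∀ g : G, IsPRegular p g → g ∈ N := fun g hg => by
      have h1 : g ^ N.index ∈ N := Subgroup.pow_index_mem N g
      rw [hcomp.symm.index_eq_card, P.card_eq_multiplicity] at h1
      obtain ⟨m, hm⟩ := exists_pow_eq_self_of_coprime (x := g)
        ((((Fact.out : p.Prime).coprime_iff_not_dvd).2 hg).pow_left ((Nat.card G).factorization p))
      rw [← hm]
      exact pow_mem h1 m
    have hspan : Submodule.span ℂ ((fun χ : IrrCharacter G => pRegularPart p χ.1) '' principalBlock M G) =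
        Submodule.span ℂ {pRegularPart p (Char.trivialChar G).1} := by
      refine le_antisymm (Submodule.span_le.2 ?_) ((Submodule.span_singleton_le_iff_mem _ _).2 hmem1)
      rintro _ ⟨χ, hχ, rfl⟩
      refine Submodule.mem_span_singleton.2 ⟨χ.1 1, funext fun g => ?_⟩
      simp only [Pi.smul_apply, smul_eq_mul, pRegularPart]
      split_ifs with hg
      · rw [show (Char.trivialChar G).1 g = 1 from rfl, mul_one,
          kernel_of_normal hM.2.2 N hNp hχ (hregN g hg)]
      · rw [mul_zero]
    unfold blockRank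
    rw [hspan, finrank_span_singleton hne]
  · intro hrank
    unfold blockRank at hrank
    have hval : ∀ χ ∈ principalBlock M G, ∀ g : G, IsPRegular p g → χ.1 g = χ.1 1 := by
      intro χ hχ g hg
      obtain ⟨c, hc⟩ := exists_smul_eq_of_finrank_eq_one hrank
        (x := (⟨_, hmem1⟩ : Submodule.span ℂ _)) (by simpa using hne)
        ⟨pRegularPart p χ.1, Submodule.subset_span ⟨χ, hχ, rfl⟩⟩
      have hc' := congrArg Subtype.val hc
      have h1 := congrFun hc' g
      have h2 := congrFun hc' 1
      have h11 : IsPRegular p (1 : G) := by simp [IsPRegular, (Fact.out : p.Prime).ne_one]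
      simp only [Submodule.coe_smul, Pi.smul_apply, smul_eq_mul, pRegularPart, if_pos hg, if_pos h11,
        show ∀ x : G, (Char.trivialChar G).1 x = 1 from fun _ => rfl] at h1 h2
      rw [← h1, ← h2]
    let K : Subgroup G := ⨅ χ : principalBlock M G, CharInt.charKernel (CharInt.isCharacter_of_isIrr χ.1.2)
    have hKmem : ∀ g, g ∈ K ↔ ∀ χ ∈ principalBlock M G, χ.1 g = χ.1 1 := fun g => by
      simp only [K, Subgroup.mem_iInf, CharInt.mem_charKernel, Subtype.forall]
    have hKreg : ∀ g ∈ K, IsPRegular p g := by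
      intro g hg
      by_contra h
      have h0 := Blocks.blockCoeff_eq_zero hM.2.2 (isPBlock_principalBlock (M := M) (G := G)) h
      rw [Blocks.blockCoeff_eq_sum, mul_eq_zero, inv_eq_zero] at h0
      have h2 := h0.resolve_left (Nat.cast_ne_zero.2 Nat.card_pos.ne')
      have e : ∀ χ ∈ Finset.univ.filter (· ∈ principalBlock M G), χ.1 1 * conj (χ.1 g) =
          ((Char.degree χ * Char.degree χ : ℕ) : ℂ) := fun χ hχ => by
        rw [(hKmem g).1 hg χ (Finset.mem_filter.1 hχ).2, Char.apply_one_eq_degree, Complex.conj_natCast,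
          Nat.cast_mul]
      rw [Finset.sum_congr rfl e, ← Nat.cast_sum, Nat.cast_eq_zero, Finset.sum_eq_zero_iff] at h2
      have h3 := h2 _ (Finset.mem_filter.2 ⟨Finset.mem_univ (Char.trivialChar G), h1B⟩)
      have h4 : Char.degree (Char.trivialChar G) = 0 := mul_self_eq_zero.1 h3
      have h5 : (Char.trivialChar G).1 1 = 0 := by rw [Char.apply_one_eq_degree, h4, Nat.cast_zero]
      exact absurd h5 (Blocks.irr_one_ne_zero _)
    have hKp : ¬ p ∣ Nat.card K := fun hd => by
      obtain ⟨x, hx⟩ := exists_prime_orderOf_dvd_card' p hd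
      refine hKreg x x.2 ?_
      rw [Subgroup.orderOf_coe, hx]
    have hKn : K.Normal := ⟨fun g hg x => by
      rw [hKmem] at hg ⊢
      intro χ hχ
      rw [Blocks.irr_classFun χ g x, hg χ hχ]⟩
    obtain ⟨P⟩ := Sylow.nonempty (p := p) (G := G)
    have hpow : ∀ g : G, g ^ Nat.card (P : Subgroup G) ∈ K := fun g => by
      refine (hKmem _).2 fun χ hχ => hval χ hχ _ ?_
      rw [P.card_eq_multiplicity]
      exact Blocks.isPRegular_pow_of_le g le_rfl
    have hq : IsPGroup p (G ⧸ K) := fun x => by
      induction x using QuotientGroup.induction_on with | _ g =>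
      refine ⟨(Nat.card G).factorization p, ?_⟩
      rw [← QuotientGroup.mk_pow, QuotientGroup.eq_one_iff, ← P.card_eq_multiplicity]
      exact hpow g
    obtain ⟨i, hi⟩ := IsPGroup.iff_card.1 hq
    have hcop : (Nat.card K).Coprime (Nat.card (P : Subgroup G)) := by
      rw [P.card_eq_multiplicity]
      exact (((Fact.out : p.Prime).coprime_iff_not_dvd).2 hKp).symm.pow_right _
    refine ⟨P, K, hKn, Subgroup.isComplement'_of_coprime ?_ hcop⟩
    have hmul := K.card_mul_index
    rw [Subgroup.index, hi] at hmul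
    have hG : (Nat.card G).factorization p = i := by
      rw [← hmul, Nat.factorization_mul Nat.card_pos.ne' (pow_ne_zero _ (Fact.out : p.Prime).ne_zero),
        Finsupp.add_apply, Nat.factorization_eq_zero_of_not_dvd hKp, (Fact.out : p.Prime).factorization_pow]
      simp
    rw [P.card_eq_multiplicity, hG, hmul]

end Cfsg.Agent.S4646
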