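import Cfsg.Statements.S4606
import Cfsg.Agent.S4511
import Cfsg.Agent.S4646
import Cfsg.Agent.S4492
import Cfsg.Agent.Lib.BrauerPairs.AlternatingSum
import Cfsg.Agent.Lib.BlocksX.FongReynolds
import Cfsg.Agent.Lib.DefectOne.Principal
import Cfsg.Agent.Lib.Blocks.PPartDefect
import Cfsg.Agent.Lib.PCore.Faithful
import Cfsg.Agent.Lib.PCore.UpperSeries

set_option autoImplicit false
set_option linter.unusedSectionVars false
set_option linter.style.haveILetI false
open Cfsg

namespace Cfsg.Agent.S4606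

open scoped ComplexConjugate Classical
open Agent

universe u

variable {G : Type u} [Group G] [Fintype G] {p : ℕ} [hp : Fact p.Prime] {M : Ideal AlgInt}
  [M.IsMaximal]

/-- The sum of `|χ g|²` over a block. -/
noncomputable def normAt (B : Set (IrrCharacter G)) (g : G) : ℝ :=
  ∑ χ ∈ Finset.univ.filter (· ∈ B), Complex.normSq (χ.1 g)

theorem normAt_coe (B : Set (IrrCharacter G)) (g : G) :
    (normAt B g : ℂ) = ∑ χ ∈ Finset.univ.filter (· ∈ B), χ.1 g * conj (χ.1 g) := by
  simp only [normAt, Complex.ofReal_sum, Complex.mul_conj]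

theorem normAt_nonneg (B : Set (IrrCharacter G)) (g : G) : 0 ≤ normAt B g :=
  Finset.sum_nonneg fun _ _ => Complex.normSq_nonneg _

/-- The class of a `p`-section contributes `|G|` times a rank. -/
theorem sum_class_section (hpM : (p : AlgInt) ∈ M) {B : Set (IrrCharacter G)} (hB : IsPBlock M B)
    (pp : G → G) (hpp : ∀ g, IsPPart p g (pp g)) {x : G} (hx : ∃ k, orderOf x = p ^ k) :
    ∑ g ∈ Finset.univ.filter (fun g => IsConj x (pp g)), normAt B g = (Nat.card G : ℝ) *
      ((∑ᶠ b ∈ {b : Set (IrrCharacter ↥(Subgroup.centralizer ({x} : Set G))) |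
        IsInducedBlock M (Subgroup.centralizer ({x} : Set G)) b B}, blockRank p b : ℕ) : ℝ) := by
  set F : G → ℂ := fun g => ∑ χ ∈ Finset.univ.filter (· ∈ B), χ.1 g * conj (χ.1 g) with hF
  have hFc : ∀ a g : G, F (a * g * a⁻¹) = F g := fun a g => by
    simp only [hF]
    exact Finset.sum_congr rfl fun χ _ => by
      rw [Char.IsCharacter.isClassFunction (Char.irr_isCharacter χ) g a]
  have hppc : ∀ a g : G, pp (a * g * a⁻¹) = a * pp g * a⁻¹ := fun a g =>
    Blocks.IsPPart.unique (hpp _) (Blocks.IsPPart.conj (hpp g) a)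
  have hA : ∀ a : G, ∑ g ∈ Finset.univ.filter (fun g => pp g = a * x * a⁻¹), F g =
      ∑ g ∈ Finset.univ.filter (fun g => IsPPart p g x), F g := fun a => by
    refine Finset.sum_equiv (MulAut.conj a⁻¹).toEquiv (fun g => ?_) fun g _ => ?_
    · simp only [Finset.mem_filter, Finset.mem_univ, true_and, MulEquiv.toEquiv_eq_coe,
        MulEquiv.coe_toEquiv, MulAut.conj_apply]
      constructor
      · intro h
        have h' := hpp (a⁻¹ * g * a⁻¹⁻¹)
        rwa [hppc, h, show a⁻¹ * (a * x * a⁻¹) * a⁻¹⁻¹ = x by group] at h'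
      · intro h
        have := Blocks.IsPPart.unique h (hpp _)
        rw [hppc] at this
        rw [this]; group
    · simp only [MulEquiv.toEquiv_eq_coe, MulEquiv.coe_toEquiv, MulAut.conj_apply, hFc]
  have h3 : (Nat.card (Subgroup.centralizer ({x} : Set G)) : ℂ) *
        ∑ g ∈ Finset.univ.filter (fun g => IsConj x (pp g)), F g =
      (Nat.card G : ℂ) * ∑ g ∈ Finset.univ.filter (fun g => IsPPart p g x), F g := by
    calc _ = ∑ g : G, ∑ a : G, if pp g = a * x * a⁻¹ then F g else 0 := by
          rw [Finset.mul_sum, Finset.sum_filter]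
          refine Finset.sum_congr rfl fun g _ => ?_
          rw [← Finset.sum_filter, Finset.sum_const, nsmul_eq_mul]
          split_ifs with hc
          · obtain ⟨c, hc⟩ := isConj_iff.1 hc
            congr 2
            rw [Nat.card_eq_fintype_card, Fintype.card_subtype]
            refine Finset.card_equiv (Equiv.mulLeft c) fun a => ?_
            simp only [Finset.mem_filter, Finset.mem_univ, true_and, Equiv.coe_mulLeft, ← hc,
              Subgroup.mem_centralizer_singleton_iff]
            constructor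
            · intro h
              calc c * x * c⁻¹ = c * (a * x * a⁻¹) * c⁻¹ := by rw [h, mul_inv_cancel_right]
                _ = c * a * x * (c * a)⁻¹ := by group
            · intro h
              have : a * x * a⁻¹ = x := by
                calc a * x * a⁻¹ = c⁻¹ * (c * a * x * (c * a)⁻¹) * c := by group
                  _ = x := by rw [← h]; group
              exact mul_inv_eq_iff_eq_mul.1 this
          · rw [Finset.card_eq_zero.2, Nat.cast_zero, zero_mul]
            exact Finset.filter_eq_empty_iff.2 fun a _ h => hc (isConj_iff.2 ⟨a, h.symm⟩)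
      _ = _ := by
          rw [Finset.sum_comm]
          simp only [← Finset.sum_filter, hA, Finset.sum_const, nsmul_eq_mul, Finset.card_univ,
            ← Nat.card_eq_fintype_card]
  rw [hF, S4511.sum_section hpM hB hx, mul_left_comm] at h3
  have h4 := mul_left_cancel₀ (Nat.cast_ne_zero.2 (Nat.card_pos.ne' :
    Nat.card (Subgroup.centralizer ({x} : Set G)) ≠ 0) : ((_ : ℕ) : ℂ) ≠ 0) h3
  refine Complex.ofReal_injective ?_
  simp only [Complex.ofReal_sum, normAt_coe]
  rw [h4, Complex.ofReal_mul, Complex.ofReal_natCast, Complex.ofReal_natCast]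

/-- If `k(B) = l(B) + 1` and some member of `B` has `p'`-degree, there is one class of nontrivial
`p`-elements, and it carries rank one. -/
theorem one_class (hpM : (p : AlgInt) ∈ M) {B : Set (IrrCharacter G)} (hB : IsPBlock M B)
    (hk : Nat.card B = blockRank p B + 1) {χ₀ : IrrCharacter G} (hχ₀ : χ₀ ∈ B)
    (hdeg : ¬ p ∣ charDegree χ₀.1) {x : G} (hx : ∃ k, orderOf x = p ^ k) (hx1 : x ≠ 1) :
    (∀ y : G, y ≠ 1 → (∃ k, orderOf y = p ^ k) → IsConj x y) ∧
      ∑ᶠ b ∈ {b : Set (IrrCharacter ↥(Subgroup.centralizer ({x} : Set G))) |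
        IsInducedBlock M (Subgroup.centralizer ({x} : Set G)) b B}, blockRank p b = 1 := by
  choose pp hpp using fun g : G => Blocks.exists_isPPart (p := p) g
  set L : G → ℕ := fun y => ∑ᶠ b ∈ {b : Set (IrrCharacter ↥(Subgroup.centralizer ({y} : Set G))) |
    IsInducedBlock M (Subgroup.centralizer ({y} : Set G)) b B}, blockRank p b with hL
  set S := Finset.univ.filter fun g : G => ¬ IsPRegular p g
  have hsing : ∑ g ∈ S, normAt B g = (Nat.card G : ℝ) := by
    refine Complex.ofReal_injective ?_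
    simp only [Complex.ofReal_sum, normAt_coe, Complex.ofReal_natCast]
    rw [← BrauerPairs.card_sub_blockRank_union hpM (U := B)
      (fun η hη ψ hψ => by rw [Blocks.block_eq hB hη]; exact hψ), hk]
    push_cast
    ring
  have hpos : ∀ y : G, (∃ k, orderOf y = p ^ k) → 1 ≤ L y := by
    intro y hy
    by_contra hlt
    have h0 := sum_class_section hpM hB pp hpp hy
    rw [show (∑ᶠ b ∈ {b : Set (IrrCharacter ↥(Subgroup.centralizer ({y} : Set G))) |
      IsInducedBlock M (Subgroup.centralizer ({y} : Set G)) b B}, blockRank p b) = 0 from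
      Nat.lt_one_iff.1 (not_le.1 hlt), Nat.cast_zero, mul_zero] at h0
    have hppy : pp y = y := Blocks.IsPPart.unique (hpp y)
      ⟨1, mul_one _, Commute.one_right _, hy, by simp [hp.out.ne_one]⟩
    have h1 := (Finset.sum_eq_zero_iff_of_nonneg fun g _ => normAt_nonneg B g).1 h0 y
      (Finset.mem_filter.2 ⟨Finset.mem_univ _, by rw [hppy]⟩)
    have h2 := (Finset.sum_eq_zero_iff_of_nonneg fun χ _ => Complex.normSq_nonneg _).1 h1 χ₀
      (Finset.mem_filter.2 ⟨Finset.mem_univ _, hχ₀⟩)
    obtain ⟨k, hk'⟩ := hy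
    have h3 := Blocks.memLocalIdeal_char_mul_sub hpM (Char.irr_isCharacter χ₀)
      (Commute.one_right y) hk'
    rw [mul_one, Complex.normSq_eq_zero.1 h2, zero_sub, Char.memLocalIdeal_neg_iff,
      ← Char.charDegree_cast, Blocks.memLocalIdeal_natCast_iff hpM] at h3
    exact hdeg h3
  have hsub : ∀ y : G, y ≠ 1 → ∀ g : G, IsConj y (pp g) → g ∈ S := by
    intro y hy g hg
    refine Finset.mem_filter.2 ⟨Finset.mem_univ _, fun hr => hy ?_⟩
    rw [Blocks.IsPPart.unique (hpp g)
      ⟨g, one_mul _, Commute.one_left _, ⟨0, by simp⟩, hr⟩] at hg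
    exact isConj_one_left.1 hg
  have hcard : (0 : ℝ) < Nat.card G := Nat.cast_pos.2 Nat.card_pos
  refine ⟨fun y hy hy' => ?_, ?_⟩
  · by_contra hne
    set A := fun z : G => Finset.univ.filter (fun g => IsConj z (pp g))
    have hd : Disjoint (A x) (A y) := Finset.disjoint_left.2 fun g h1 h2 =>
      hne ((Finset.mem_filter.1 h1).2.trans (Finset.mem_filter.1 h2).2.symm)
    have h := Finset.sum_le_sum_of_subset_of_nonneg (f := normAt B) (t := S)
      (s := A x ∪ A y) (fun g hg => by
        rcases Finset.mem_union.1 hg with h | h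
        exacts [hsub x hx1 g (Finset.mem_filter.1 h).2, hsub y hy g (Finset.mem_filter.1 h).2])
      fun g _ _ => normAt_nonneg B g
    rw [Finset.sum_union hd, hsing, sum_class_section hpM hB pp hpp hx,
      sum_class_section hpM hB pp hpp hy'] at h
    have h1 : (1 : ℝ) ≤ L x := by exact_mod_cast hpos x hx
    have h2 : (1 : ℝ) ≤ L y := by exact_mod_cast hpos y hy'
    simp only [hL] at h1 h2
    nlinarith
  · refine le_antisymm ?_ (hpos x hx)
    have h := Finset.sum_le_sum_of_subset_of_nonneg (f := normAt B) (t := S)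
      (s := Finset.univ.filter (fun g => IsConj x (pp g)))
      (fun g hg => hsub x hx1 g (Finset.mem_filter.1 hg).2) fun g _ _ => normAt_nonneg B g
    rw [hsing, sum_class_section hpM hB pp hpp hx] at h
    have h' := le_of_mul_le_mul_left (h.trans_eq (mul_one _).symm) hcard
    exact_mod_cast h'

/-- In a group with a normal `p`-complement, a `p'`-element normalising a `p`-element's subgroup
centralises it. -/
theorem eq_one_of_complement {H : Type u} [Group H] [Finite H] (h : HasNormalPComplement p H)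
    (t q : H) (ht : ¬ p ∣ orderOf t) (hc : ∃ k, orderOf (t * q * t⁻¹ * q⁻¹) = p ^ k) :
    t * q * t⁻¹ * q⁻¹ = 1 := by
  obtain ⟨k, hk⟩ := hc
  obtain ⟨-, hreg⟩ := DefectOne.index_pPrimeCore_of_hasNormalPComplement h
  have hK : t * q * t⁻¹ * q⁻¹ ∈ pPrimeCore p H := by
    rw [show t * q * t⁻¹ * q⁻¹ = t * (q * t⁻¹ * q⁻¹) by group]
    exact mul_mem (hreg t ht) ((inferInstance : (pPrimeCore p H).Normal).conj_mem _
      (inv_mem (hreg t ht)) q)
  refine orderOf_eq_one_iff.1 (Nat.eq_one_of_dvd_coprimes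
    (Nat.Coprime.pow_right k (PCore.coprime_card_pPrimeCore (p := p) (G := H)))
    (Subgroup.orderOf_dvd_natCard _ hK) hk.dvd)

/-- Centralisers of nontrivial `p`-elements are `p`-nilpotent when `k(B₀) - l(B₀) = 1`. -/
theorem hasNormalPComplement_centralizer (hM : IsPModular p M)
    (hk : Nat.card (principalBlock M G) = blockRank p (principalBlock M G) + 1) {x : G}
    (hx : ∃ k, orderOf x = p ^ k) (hx1 : x ≠ 1) :
    HasNormalPComplement p (Subgroup.centralizer ({x} : Set G)) := by
  have hpM := hM.2.2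
  haveI := Blocks.charP_residue (p := p) hpM
  have hdeg : ¬ p ∣ charDegree (Char.trivialChar G).1 := by
    simp [charDegree, hp.out.ne_one]
  set C := Subgroup.centralizer ({x} : Set G)
  have hind := Blocks.inducingSet_principalBlock (M := M) hpM hx
  have hb : IsInducedBlock M C (principalBlock M C) (principalBlock M G) := by
    have h : Char.trivialChar C ∈ Blocks.inducingSet M C (principalBlock M G) := by
      rw [hind]; exact Blocks.trivial_mem_principalBlock
    exact h
  have hset : {b : Set (IrrCharacter C) | IsInducedBlock M C b (principalBlock M G)} =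
      {principalBlock M C} := by
    refine Set.eq_singleton_iff_unique_mem.2 ⟨hb, fun b hb' => ?_⟩
    obtain ⟨η, hη⟩ := Blocks.block_nonempty hb'.1
    have h : η ∈ Blocks.inducingSet M C (principalBlock M G) := by
      show IsInducedBlock M C (blockOf M η.1) (principalBlock M G)
      rw [← Blocks.block_eq hb'.1 hη]; exact hb'
    rw [hind] at h
    rw [Blocks.block_eq hb'.1 hη, ← Blocks.block_eq (Blocks.isPBlock_principalBlock hpM) h]
  have h1 := (one_class hpM (Blocks.isPBlock_principalBlock hpM) hk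
    Blocks.trivial_mem_principalBlock hdeg hx hx1).2
  rw [hset, finsum_mem_singleton] at h1
  exact BrauerPairs.isNilpotentBlock_principal_iff.1 ((S4646.result p M hM).2 h1)

/-- The principal block case. -/
theorem abelian_principal (hM : IsPModular p M)
    (hk : Nat.card (principalBlock M G) = blockRank p (principalBlock M G) + 1) (P : Sylow p G) :
    (∀ a ∈ (P : Subgroup G), a ^ p = 1) ∧
      ∀ a ∈ (P : Subgroup G), ∀ b ∈ (P : Subgroup G), a * b = b * a := by
  have hpM := hM.2.2
  haveI := Blocks.charP_residue (p := p) hpM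
  have hdeg : ¬ p ∣ charDegree (Char.trivialChar G).1 := by
    simp [charDegree, hp.out.ne_one]
  have hone := fun (x : G) hx hx1 => one_class (x := x) hpM (Blocks.isPBlock_principalBlock hpM)
    hk Blocks.trivial_mem_principalBlock hdeg hx hx1
  have hPel : ∀ a ∈ (P : Subgroup G), ∃ k, orderOf a = p ^ k := fun a ha => by
    obtain ⟨k, hk'⟩ := IsPGroup.iff_orderOf.1 P.isPGroup' ⟨a, ha⟩
    exact ⟨k, by rwa [Subgroup.orderOf_mk] at hk'⟩
  have hnil := fun (x : G) hx hx1 => hasNormalPComplement_centralizer (x := x) hM hk hx hx1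
  have hexp : ∀ a ∈ (P : Subgroup G), a ^ p = 1 := by
    intro a ha
    by_cases ha1 : a = 1
    · rw [ha1, one_pow]
    obtain ⟨e, he⟩ := exists_prime_orderOf_dvd_card' (G := G) p (by
      obtain ⟨k, hk'⟩ := hPel a ha
      refine (dvd_pow_self p fun h => ha1 ?_).trans (hk' ▸ orderOf_dvd_natCard a)
      rwa [h, pow_zero, orderOf_eq_one_iff] at hk')
    have he1 : e ≠ 1 := fun h => by
      rw [h, orderOf_one] at he
      exact hp.out.ne_one he.symm
    obtain ⟨c, rfl⟩ := isConj_iff.1 ((hone e ⟨1, by simpa using he⟩ he1).1 a ha1 (hPel a ha))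
    rw [conj_pow, ← he, pow_orderOf_eq_one]
    group
  refine ⟨hexp, fun a ha b hb => ?_⟩
  rcases hp.out.eq_two_or_odd' with rfl | hodd
  · have e : ∀ c ∈ (P : Subgroup G), c⁻¹ = c := fun c hc =>
      inv_eq_of_mul_eq_one_left (by rw [← pow_two]; exact hexp c hc)
    calc a * b = (a * b)⁻¹ := (e _ (mul_mem ha hb)).symm
      _ = b⁻¹ * a⁻¹ := mul_inv_rev a b
      _ = b * a := by rw [e a ha, e b hb]
  by_cases hbot : (P : Subgroup G) = ⊥
  · rw [hbot, Subgroup.mem_bot] at ha hb
    rw [ha, hb]
  haveI : Nontrivial (P : Subgroup G) := (Subgroup.nontrivial_iff_ne_bot _).2 hbot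
  haveI : Nontrivial (Subgroup.center (P : Subgroup G)) := P.isPGroup'.center_nontrivial
  obtain ⟨z₀, hz₀⟩ := exists_ne (1 : Subgroup.center (P : Subgroup G))
  set z : G := ((z₀ : (P : Subgroup G)) : G) with hzdef
  have hzP : z ∈ (P : Subgroup G) := (z₀ : (P : Subgroup G)).2
  have hz1 : z ≠ 1 := fun h => hz₀ (Subtype.ext (Subtype.ext h))
  have hzc : ∀ y ∈ (P : Subgroup G), y * z = z * y := fun y hy =>
    congrArg Subtype.val (Subgroup.mem_center_iff.1 z₀.2 ⟨y, hy⟩)
  have hzC : z ∈ Subgroup.centralizer ((P : Subgroup G) : Set G) :=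
    Subgroup.mem_centralizer_iff.2 hzc
  have hzsq : z⁻¹ ≠ z := fun h => by
    have h2 : z ^ 2 = 1 := by
      rw [pow_two]
      nth_rw 1 [← h]
      exact inv_mul_cancel z
    have h3 := Nat.eq_one_of_dvd_coprimes
      ((Nat.coprime_primes hp.out Nat.prime_two).2 fun h => by subst h; exact absurd hodd (by decide))
      (orderOf_dvd_of_pow_eq_one (hexp z hzP)) (orderOf_dvd_of_pow_eq_one h2)
    exact hz1 (orderOf_eq_one_iff.1 h3)
  -- an element of the normaliser inverting `z`
  obtain ⟨g, hg⟩ := isConj_iff.1 ((hone z (hPel z hzP) hz1).1 z⁻¹ (inv_ne_one.2 hz1)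
    (hPel _ (inv_mem hzP)))
  obtain ⟨n, hn, hnz⟩ := Sylow.conj_eq_normalizer_conj_of_mem_centralizer P z g⁻¹ hzC
    (by rw [inv_inv, hg]; exact inv_mem hzC)
  rw [inv_inv, hg] at hnz
  set v := n⁻¹ with hv
  have hvz : v * z * v⁻¹ = z⁻¹ := by rw [hv, inv_inv]; exact hnz.symm
  have hvz' : v * z⁻¹ * v⁻¹ = z := by
    have := congrArg (·⁻¹) hvz
    simpa [mul_assoc] using this
  set o := orderOf v
  set m := o / 2 ^ o.factorization 2
  have ho : o ≠ 0 := (orderOf_pos v).ne'
  have hm : Odd m := by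
    rw [Nat.odd_iff, ← Nat.two_dvd_ne_zero]
    exact Nat.not_dvd_ordCompl Nat.prime_two ho
  set t := v ^ m
  have htord : ∀ j : ℕ, ¬ p ∣ orderOf (t ^ j) := by
    intro j h
    have h1 : orderOf (t ^ j) ∣ 2 ^ o.factorization 2 := by
      refine (orderOf_dvd_of_pow_eq_one ?_)
      rw [← pow_mul, mul_comm j, pow_mul, ← pow_mul v, mul_comm m,
        Nat.ordProj_mul_ordCompl_eq_self, pow_orderOf_eq_one, one_pow]
    have h2 := (Nat.prime_dvd_prime_iff_eq hp.out Nat.prime_two).1
      (hp.out.dvd_of_dvd_pow (h.trans h1))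
    subst h2
    exact absurd hodd (by decide)
  have htz : t * z * t⁻¹ = z⁻¹ := by
    obtain ⟨i, hi⟩ := hm
    have hc : Commute (v ^ 2) z := by
      have : v ^ 2 * z * (v ^ 2)⁻¹ = z := by
        rw [pow_two, show v * v * z * (v * v)⁻¹ = v * (v * z * v⁻¹) * v⁻¹ by group, hvz, hvz']
      exact mul_inv_eq_iff_eq_mul.1 this
    show v ^ m * z * (v ^ m)⁻¹ = z⁻¹
    rw [hi, pow_succ', pow_mul,
      show v * (v ^ 2) ^ i * z * (v * (v ^ 2) ^ i)⁻¹ =
        v * ((v ^ 2) ^ i * z * ((v ^ 2) ^ i)⁻¹) * v⁻¹ by group,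
      (hc.pow_left i).eq, mul_inv_cancel_right, hvz]
  have htN : t ∈ Subgroup.normalizer ((P : Subgroup G) : Set G) := pow_mem (inv_mem hn) m
  have htP : ∀ (j : ℕ) (y : G), y ∈ (P : Subgroup G) → t ^ j * y * (t ^ j)⁻¹ ∈ (P : Subgroup G) :=
    fun j y hy => (Subgroup.mem_normalizer_iff.1 (pow_mem htN j) y).1 hy
  -- the `p`-nilpotent centralisers
  have key : ∀ (e : G), e ∈ (P : Subgroup G) → e ≠ 1 → ∀ (j : ℕ), t ^ j * e * (t ^ j)⁻¹ = e →
      ∀ y ∈ (P : Subgroup G), y * e = e * y → t ^ j * y * (t ^ j)⁻¹ = y := by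
    intro e he he1 j hje y hy hye
    have hT : t ^ j ∈ Subgroup.centralizer ({e} : Set G) :=
      Subgroup.mem_centralizer_singleton_iff.2 (mul_inv_eq_iff_eq_mul.1 hje)
    have hY : y ∈ Subgroup.centralizer ({e} : Set G) :=
      Subgroup.mem_centralizer_singleton_iff.2 hye
    have h := eq_one_of_complement (hnil e (hPel e he) he1) ⟨_, hT⟩ ⟨_, hY⟩
      (by rw [Subgroup.orderOf_mk]; exact htord j) (by
        obtain ⟨k, hk'⟩ := hPel _ (mul_mem (htP j y hy) (inv_mem hy))
        exact ⟨k, by rw [← hk', ← Subgroup.orderOf_coe]; rfl⟩)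
    exact mul_inv_eq_one.1 (congrArg Subtype.val h)
  let φ : (P : Subgroup G) →* (P : Subgroup G) :=
    { toFun := fun y => ⟨t * y * t⁻¹, by simpa using htP 1 y y.2⟩
      map_one' := Subtype.ext (by simp)
      map_mul' := fun y y' => Subtype.ext (by simp [mul_assoc]) }
  have hfix : MonoidHom.FixedPointFree φ := by
    intro y hy
    by_contra hy1
    have h1 : t * (y : G) * t⁻¹ = y := congrArg Subtype.val hy
    have h2 := key y y.2 (fun h => hy1 (Subtype.ext h)) 1 (by simpa using h1) z hzP
      (hzc y y.2).symm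
    rw [pow_one, htz] at h2
    exact hzsq h2
  have hinv : Function.Involutive φ := by
    intro y
    refine Subtype.ext ?_
    show t * (t * (y : G) * t⁻¹) * t⁻¹ = y
    have h := key z hzP hz1 2 (by
      rw [pow_two, show t * t * z * (t * t)⁻¹ = t * (t * z * t⁻¹) * t⁻¹ by group, htz,
        show t * z⁻¹ * t⁻¹ = (t * z * t⁻¹)⁻¹ by group, htz, inv_inv]) y y.2 (hzc y y.2)
    rw [show t * (t * (y : G) * t⁻¹) * t⁻¹ = t ^ 2 * (y : G) * (t ^ 2)⁻¹ by
      rw [pow_two, mul_inv_rev]; simp only [mul_assoc]]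
    exact h
  exact congrArg Subtype.val (hfix.commute_all_of_involutive hinv ⟨a, ha⟩ ⟨b, hb⟩)

/-- Regular parts commute with induction. -/
theorem regFun_indFun (T : Subgroup G) [Fintype T] (f : T → ℂ) :
    Char.regFun p (indFun T f) = indFun T (Char.regFun p f) := by
  funext g
  have hord : ∀ x : G, orderOf (x⁻¹ * g * x) = orderOf g := fun x => by
    rw [show x⁻¹ * g * x = MulAut.conj x⁻¹ g by simp [MulAut.conj_apply],
      MulEquiv.orderOf_eq]
  have hext : ∀ x : G, extendByZero T (Char.regFun p f) (x⁻¹ * g * x) =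
      if p ∣ orderOf g then 0 else extendByZero T f (x⁻¹ * g * x) := by
    intro x
    by_cases hT : x⁻¹ * g * x ∈ T
    · rw [Char.extendByZero_of_mem T _ hT, Char.extendByZero_of_mem T f hT, Char.regFun,
        ← Subgroup.orderOf_coe, hord]
    · rw [Char.extendByZero_of_notMem T _ hT, Char.extendByZero_of_notMem T f hT, ite_self]
  show (if p ∣ orderOf g then 0 else indFun T f g) = indFun T (Char.regFun p f) g
  simp only [indFun]
  by_cases h : p ∣ orderOf g
  · rw [if_pos h, Finset.sum_eq_zero fun x _ => by rw [hext, if_pos h], mul_zero]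
  · rw [if_neg h]
    exact congrArg _ (Finset.sum_congr rfl fun x _ => by rw [hext, if_neg h])

/-- The Fong–Reynolds correspondence keeps the rank. -/
theorem blockRank_frMap (hpM : (p : AlgInt) ∈ M) {N : Subgroup G} [N.Normal] [Fintype N]
    {T : Subgroup G} [Fintype T] {b : Set (IrrCharacter N)} (D : BlocksX.StabData M N T b)
    {B' : Set (IrrCharacter T)} (hB' : IsPBlock M B') (hsub : B' ⊆ BlocksX.overB T b) :
    blockRank p (BlocksX.frMap T (Char.trivialChar G) '' B') = blockRank p B' := by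
  obtain ⟨ψ₀, hψ₀⟩ := Blocks.block_nonempty hB'
  have hB : IsPBlock M (BlocksX.frMap T (Char.trivialChar G) '' B') :=
    D.image_block hB' hsub hψ₀ ▸ Blocks.isPBlock_blockOf _
  refine Nat.cast_injective (R := ℂ) ?_
  rw [BrauerPairs.blockRank_eq_sum hpM hp.out hB, BrauerPairs.blockRank_eq_sum hpM hp.out hB',
    ← Finset.sum_subtype (Finset.univ.filter (· ∈ BlocksX.frMap T (Char.trivialChar G) '' B'))
      (by simp) (fun χ : IrrCharacter G => classInner (Char.regFun p χ.1) χ.1),
    ← Finset.sum_subtype (Finset.univ.filter (· ∈ B'))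
      (by simp) (fun χ : IrrCharacter T => classInner (Char.regFun p χ.1) χ.1),
    show Finset.univ.filter (· ∈ BlocksX.frMap T (Char.trivialChar G) '' B') =
        (Finset.univ.filter (· ∈ B')).image (BlocksX.frMap T (Char.trivialChar G)) by
      ext χ; simp [Set.mem_image],
    Finset.sum_image fun a ha c hc h => D.frMap_injOn (hsub (Finset.mem_filter.1 ha).2)
      (hsub (Finset.mem_filter.1 hc).2) h]
  refine Finset.sum_congr rfl fun ψ₁ hψ₁ => ?_
  obtain ⟨ψ, rfl⟩ : ∃ ψ : B', ψ.1 = ψ₁ := ⟨⟨ψ₁, (Finset.mem_filter.1 hψ₁).2⟩, rfl⟩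
  rw [D.frMap_coe (hsub ψ.2), regFun_indFun,
    Char.classInner_indFun T _ (Char.isClassFunction_indFun T _)]
  have hres : IsClassFunction T (fun t : T => indFun T ψ.1.1 t) := fun a c => by
    have := Char.isClassFunction_indFun T ψ.1.1 (a : G) (c : G)
    simpa using this
  conv_lhs => rw [Char.eq_sum_classInner_smul hres, Char.classInner_sum_right]
  rw [Finset.sum_eq_single ψ.1]
  · rw [Char.classInner_smul_right, show classInner (fun t : T => indFun T ψ.1.1 t) ψ.1.1 =
      classInner (indFun T ψ.1.1) (indFun T ψ.1.1) from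
      (Char.classInner_indFun_right T _ (Char.isClassFunction_indFun T _)).symm,
      D.classInner_indFun (hsub ψ.2) (hsub ψ.2), if_pos rfl, map_one, one_mul]
  · intro η _ hne
    rw [Char.classInner_smul_right]
    by_cases hη : η ∈ B'
    · rw [show classInner (fun t : T => indFun T ψ.1.1 t) η.1 =
        classInner (indFun T ψ.1.1) (indFun T η.1) from
        (Char.classInner_indFun_right T _ (Char.isClassFunction_indFun T _)).symm,
        D.classInner_indFun (hsub ψ.2) (hsub hη), if_neg (Ne.symm hne), map_zero, zero_mul]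
    · rw [show classInner (Char.regFun p ψ.1.1) η.1 = 0 from
        BrauerPairs.regDot_eq_zero hpM hp.out hB' ψ.2 hη, mul_zero]
  · exact fun h => absurd (Finset.mem_univ _) h

/-- The `p`-solvable case with an invariant character below. -/
theorem abelian_invariant (hM : IsPModular p M) (hs : IsPSolvable p G)
    {B : Set (IrrCharacter G)} (hB : IsPBlock M B) (hk : Nat.card B = blockRank p B + 1)
    (P : Sylow p G) (hP : IsDefectGroup p M B (P : Subgroup G)) :
    (∀ a ∈ (P : Subgroup G), a ^ p = 1) ∧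
      ∀ a ∈ (P : Subgroup G), ∀ b ∈ (P : Subgroup G), a * b = b * a := by
  have hpM := hM.2.2
  obtain ⟨χ₀, hχ₀, h0⟩ := Blocks.exists_height_zero hpM hB
  have hdeg : ¬ p ∣ charDegree χ₀.1 := by
    have h1 := Blocks.card_defectGroup hpM hB hP
    rw [P.card_eq_multiplicity] at h1
    have h1' : (Nat.card G).factorization p = blockDefect p B :=
      Nat.pow_right_injective hp.out.two_le h1
    have h2 := Char.factorization_degree_of_height_zero hχ₀ h0
    have h3 : (Char.degree χ₀).factorization p ≤ (Nat.card G).factorization p :=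
      (Nat.factorization_le_iff_dvd (Char.degree_pos χ₀).ne' Nat.card_pos.ne').2
        (Char.degree_dvd_natCard χ₀) p
    rw [blockDefect, ← h2] at h1'
    rw [Blocks.charDegree_eq]
    intro hd
    have := (hp.out.dvd_iff_one_le_factorization (Char.degree_pos χ₀).ne').1 hd
    omega
  have hone := fun (x : G) hx hx1 => one_class (x := x) hpM hB hk hχ₀ hdeg hx hx1
  have hPel : ∀ a ∈ (P : Subgroup G), ∃ k, orderOf a = p ^ k := fun a ha => by
    obtain ⟨k, hk'⟩ := IsPGroup.iff_orderOf.1 P.isPGroup' ⟨a, ha⟩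
    exact ⟨k, by rwa [Subgroup.orderOf_mk] at hk'⟩
  have hexp : ∀ a ∈ (P : Subgroup G), a ^ p = 1 := by
    intro a ha
    by_cases ha1 : a = 1
    · rw [ha1, one_pow]
    obtain ⟨e, he⟩ := exists_prime_orderOf_dvd_card' (G := G) p (by
      obtain ⟨k, hk'⟩ := hPel a ha
      refine (dvd_pow_self p fun h => ha1 ?_).trans (hk' ▸ orderOf_dvd_natCard a)
      rwa [h, pow_zero, orderOf_eq_one_iff] at hk')
    have he1 : e ≠ 1 := fun h => by
      rw [h, orderOf_one] at he
      exact hp.out.ne_one he.symm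
    obtain ⟨c, rfl⟩ := isConj_iff.1 ((hone e ⟨1, by simpa using he⟩ he1).1 a ha1 (hPel a ha))
    rw [conj_pow, ← he, pow_orderOf_eq_one]
    group
  refine ⟨hexp, fun a ha b hb => ?_⟩
  by_cases ha1 : a = 1
  · simp [ha1]
  haveI : Nontrivial (P : Subgroup G) := ⟨⟨a, ha⟩, 1, fun h => ha1 (congrArg Subtype.val h)⟩
  haveI : Nontrivial (Subgroup.center (P : Subgroup G)) := P.isPGroup'.center_nontrivial
  obtain ⟨z₀, hz₀⟩ := exists_ne (1 : Subgroup.center (P : Subgroup G))
  set z : G := ((z₀ : (P : Subgroup G)) : G) with hzdef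
  have hzP : z ∈ (P : Subgroup G) := (z₀ : (P : Subgroup G)).2
  have hz1 : z ≠ 1 := fun h => hz₀ (Subtype.ext (Subtype.ext h))
  set N := pPrimeCore p G with hN
  set π := QuotientGroup.mk' N with hπ
  set Q := pCore p (G ⧸ N) with hQ
  have hzL : π z ∈ Q :=
    PCore.sylow_center_le_pPrimePCore hs P ⟨z₀, z₀.2, rfl⟩
  have hQn : Q.Normal := inferInstance
  have hall : ∀ y ∈ (P : Subgroup G), π y ∈ Q := by
    intro y hy
    by_cases hy1 : y = 1
    · rw [hy1, map_one]; exact one_mem _
    obtain ⟨c, rfl⟩ := isConj_iff.1 ((hone z (hPel z hzP) hz1).1 y hy1 (hPel y hy))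
    rw [map_mul, map_mul, map_inv]
    exact hQn.conj_mem _ hzL _
  have hPQ : (P : Subgroup G).map π = Q := by
    refine Subgroup.eq_of_le_of_card_ge (fun q hq => ?_) ?_
    · obtain ⟨y, hy, rfl⟩ := Subgroup.mem_map.1 hq
      exact hall y hy
    · obtain ⟨i, hi⟩ := IsPGroup.iff_card.1 (PCore.isPGroup_pCore (p := p) (G := G ⧸ N))
      have h1 : Nat.card Q ∣ Nat.card G :=
        (Subgroup.card_subgroup_dvd_card Q).trans (Subgroup.card_quotient_dvd_card N)
      rw [hi] at h1 ⊢
      have hinj : Function.Injective ((π.comp (P : Subgroup G).subtype)) := by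
        rw [injective_iff_map_eq_one]
        intro y hy
        have hyN : (y : G) ∈ N := (QuotientGroup.eq_one_iff (y : G)).1 hy
        obtain ⟨k, hk'⟩ := hPel y y.2
        refine Subtype.ext (orderOf_eq_one_iff.1 (Nat.eq_one_of_dvd_coprimes
          (Nat.Coprime.pow_right k (PCore.coprime_card_pPrimeCore (p := p) (G := G)))
          (Subgroup.orderOf_dvd_natCard _ hyN) hk'.dvd))
      have h2 : Nat.card ((P : Subgroup G).map π) = p ^ (Nat.card G).factorization p := by
        rw [← P.card_eq_multiplicity, ← Nat.card_range_of_injective hinj, ← MonoidHom.coe_range,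
          MonoidHom.range_comp, Subgroup.range_subtype]
        rfl
      rw [h2]
      exact Nat.pow_le_pow_right hp.out.pos
        ((hp.out.pow_dvd_iff_le_factorization Nat.card_pos.ne').1 h1)
  obtain ⟨c, hc⟩ := isConj_iff.1 ((hone z (hPel z hzP) hz1).1 a ha1 (hPel a ha))
  have hcb : π (c⁻¹ * b * c) ∈ Q := by
    rw [show c⁻¹ * b * c = c⁻¹ * b * c⁻¹⁻¹ by group, map_mul, map_mul, map_inv π c⁻¹]
    exact hQn.conj_mem _ (hall b hb) _
  rw [← hPQ] at hcb
  obtain ⟨y, hy, hye⟩ := Subgroup.mem_map.1 hcb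
  have hzy : y * z = z * y :=
    congrArg Subtype.val (Subgroup.mem_center_iff.1 z₀.2 ⟨y, hy⟩)
  have hπab : π a * π b = π b * π a := by
    have h1 : π y * π z = π z * π y := by rw [← map_mul, hzy, map_mul]
    rw [hye] at h1
    rw [← hc]
    simp only [map_mul, map_inv] at h1 ⊢
    calc π c * π z * (π c)⁻¹ * π b
        = π c * (π z * ((π c)⁻¹ * π b * π c)) * (π c)⁻¹ := by group
      _ = π c * ((π c)⁻¹ * π b * π c * π z) * (π c)⁻¹ := by rw [h1]
      _ = π b * (π c * π z * (π c)⁻¹) := by group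
  have hN' : a * b * (b * a)⁻¹ ∈ N := (QuotientGroup.eq_one_iff _).1 (by
    show π (a * b * (b * a)⁻¹) = 1
    rw [map_mul, map_inv, map_mul, map_mul, hπab, mul_inv_cancel])
  obtain ⟨k, hk'⟩ := hPel _ (mul_mem (mul_mem ha hb) (inv_mem (mul_mem hb ha)))
  exact mul_inv_eq_one.1 (orderOf_eq_one_iff.1 (Nat.eq_one_of_dvd_coprimes
    (Nat.Coprime.pow_right k (PCore.coprime_card_pPrimeCore (p := p) (G := G)))
    (Subgroup.orderOf_dvd_natCard _ hN') hk'.dvd))

omit [Group G] [Fintype G] [M.IsMaximal] in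
/-- The `p`-solvable case. -/
theorem abelian_psolvable (hM : IsPModular p M) :
    ∀ (n : ℕ) (G : Type u) [Group G] [Fintype G], Nat.card G = n → IsPSolvable p G →
      ∀ (B : Set (IrrCharacter G)), IsPBlock M B → Nat.card B = blockRank p B + 1 →
      ∀ D : Subgroup G, IsDefectGroup p M B D →
        (∀ a ∈ D, a ^ p = 1) ∧ ∀ a ∈ D, ∀ b ∈ D, a * b = b * a := by
  haveI := hM.2.1
  intro n
  induction n using Nat.strong_induction_on with
  | _ n ih =>
  intro G _ _ hn hs B hB hk D hD
  have hpM := hM.2.2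
  obtain ⟨χ, hχ⟩ := Blocks.block_nonempty hB
  set N := pPrimeCore p G with hNdef
  haveI := Fintype.ofFinite N
  have hNp : ¬ p ∣ Nat.card N :=
    hp.out.coprime_iff_not_dvd.1 (PCore.coprime_card_pPrimeCore (p := p) (G := G)).symm
  obtain ⟨θ, hθ⟩ := Char.exists_constituent N χ
  have hb : blockOf M θ.1 = {θ} := (Blocks.blockOf_eq_singleton_iff hpM θ).2 (by
    rw [Nat.factorization_eq_zero_of_not_dvd hNp,
      Nat.factorization_eq_zero_of_not_dvd fun h => hNp (h.trans (Char.degree_dvd_natCard θ))])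
  set T := Char.inertia N θ.1 with hT
  haveI := Fintype.ofFinite T
  have hNT : N ≤ T := Char.le_inertia N (Char.IsCharacter.isClassFunction (Char.irr_isCharacter θ))
  have SD : BlocksX.StabData M N T {θ} := ⟨hNT, hb ▸ Blocks.isPBlock_blockOf θ, fun g => by
    rw [hT, Char.mem_inertia]
    exact ⟨fun h η hη => by
      rw [Set.mem_singleton_iff] at hη ⊢
      subst hη
      exact Subtype.ext h, fun h => congrArg Subtype.val (Set.mem_singleton_iff.1 (h θ rfl))⟩⟩
  by_cases htop : T = ⊤
  · have hinv : ∀ g : G, Char.conjFun N θ.1 g = θ.1 := fun g => by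
      rw [← Char.mem_inertia, ← hT, htop]; exact Subgroup.mem_top g
    obtain ⟨B₀, hB₀, hiff, hsyl, hdef⟩ := S4492.result p M hM hs N hNdef θ fun g m =>
      (Char.conjFun_eq_self_iff N θ.1 g).1 (hinv g) m _ rfl
    obtain rfl : B = B₀ := Blocks.block_eq_of_mem hB hB₀ hχ ((hiff χ).2 hθ)
    obtain ⟨P, rfl⟩ := hdef D hD
    exact abelian_invariant hM hs hB hk P hD
  · have hlt : Nat.card T < n := by
      rw [← hn]
      refine lt_of_le_of_ne (Nat.le_of_dvd Nat.card_pos T.card_subgroup_dvd_card) fun h => htop ?_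
      exact Subgroup.eq_top_of_card_eq T h
    obtain ⟨ψ, hψ, he⟩ := SD.exists_over_T (Set.mem_singleton θ) hθ
    have hB' := Blocks.isPBlock_blockOf (M := M) ψ
    have hsub : blockOf M ψ.1 ⊆ BlocksX.overB T {θ} := SD.blockOf_subset hψ
    have hχeq : BlocksX.frMap T (Char.trivialChar G) ψ = χ :=
      Subtype.ext ((SD.frMap_coe hψ).trans he.symm)
    have himg : B = BlocksX.frMap T (Char.trivialChar G) '' blockOf M ψ.1 := by
      rw [SD.image_block hB' hsub (Blocks.mem_blockOf_self ψ), hχeq]
      exact Blocks.block_eq hB hχ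
    obtain ⟨Q, hQ⟩ := Blocks.exists_defectGroup (p := p) hB'
    have hQG := SD.defectGroup hpM hsub (B := B) (himg ▸ SD.isInducedBlock hB' hsub) hQ
    obtain ⟨x, hx⟩ := Blocks.defectGroup_conj hpM hB hD hQG
    have hk' : Nat.card (blockOf M ψ.1) = blockRank p (blockOf M ψ.1) + 1 := by
      have h1 : Nat.card B = Nat.card (blockOf M ψ.1) := by
        rw [himg]
        exact Nat.card_image_of_injOn (SD.frMap_injOn.mono hsub)
      rw [← h1, hk, himg, blockRank_frMap hpM SD hB' hsub]
    obtain ⟨hq1, hq2⟩ := ih _ hlt T rfl (PCore.isPSolvable_subgroup hs T) _ hB' hk' Q hQ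
    constructor
    · intro a ha
      rw [← hx] at ha
      obtain ⟨a', ⟨a'', ha'', rfl⟩, rfl⟩ := ha
      have h := congrArg Subtype.val (hq1 a'' ha'')
      rw [← map_pow]
      show MulAut.conj x ((T.subtype a'') ^ p) = 1
      rw [← map_pow, hq1 a'' ha'', map_one, map_one]
    · intro a ha b hb'
      rw [← hx] at ha hb'
      obtain ⟨a', ⟨a'', ha'', rfl⟩, rfl⟩ := ha
      obtain ⟨b', ⟨b'', hb'', rfl⟩, rfl⟩ := hb'
      rw [← map_mul, ← map_mul, ← map_mul, ← map_mul, hq2 a'' ha'' b'' hb'']

/-- Let G be a finite group, p a prime, M a maximal ideal of the algebraic integers containing p, and B a p-block of G with defect group D. Suppose the number of irreducible characters in B exceeds the p-regular rank of B (the number of irreducible Brauer characters in B) by exactly one. If B is the principal block, or if G is p-solvable, then D is elementary abelian. -/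
theorem result {G : Type*} [Group G] [Finite G] (p : ℕ) [Fact p.Prime] (M : Ideal Cfsg.AlgInt) (hM : Cfsg.IsPModular p M) (B : Set (Cfsg.IrrCharacter G)) (hB : Cfsg.IsPBlock M B) (D : Subgroup G) (hD : Cfsg.IsDefectGroup p M B D)
    (hk : Nat.card B = Cfsg.blockRank p B + 1) (hB0 : B = Cfsg.principalBlock M G ∨ Cfsg.IsPSolvable p G) :
    Cfsg.IsElementaryAbelian p D := by
  haveI := Fintype.ofFinite G
  haveI := hM.2.1
  have hpM := hM.2.2
  have h : (∀ a ∈ D, a ^ p = 1) ∧ ∀ a ∈ D, ∀ b ∈ D, a * b = b * a := by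
    rcases hB0 with rfl | hs
    · have hcard : Nat.card D = p ^ (Nat.card G).factorization p := by
        rw [Blocks.card_defectGroup hpM hB hD]
        congr 1
        have h0 : sInf ((fun χ : IrrCharacter G => (charDegree χ.1).factorization p) ''
            principalBlock M G) = 0 :=
          Nat.le_zero.1 (Nat.sInf_le ⟨Char.trivialChar G, Blocks.trivial_mem_principalBlock,
            by simp [charDegree]⟩)
        rw [blockDefect, h0, Nat.sub_zero]
      exact abelian_principal hM hk (Sylow.ofCard D hcard)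
    · exact abelian_psolvable hM _ G rfl hs B hB hk D hD
  exact ⟨⟨⟨fun a b => Subtype.ext (h.2 a a.2 b b.2)⟩⟩, h.1⟩

end Cfsg.Agent.S4606
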