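import Cfsg.Statements.S4607
import Cfsg.Agent.Lib.Blocks.TwoChars

set_option autoImplicit false
open Cfsg

namespace Cfsg.Agent.S4607

open scoped ComplexConjugate
open Cfsg.Agent.BrauerPairs

universe u

variable {G : Type u} [Group G] [Fintype G] {p : ℕ} {M : Ideal AlgInt}

/-- A character whose restriction to the singular elements vanishes is alone in its block. -/
theorem regDot_ne_zero [M.IsMaximal] [Fact p.Prime] (hpM : (p : AlgInt) ∈ M)
    {B : Set (IrrCharacter G)} (hB : IsPBlock M B) (hd : blockDefect p B ≠ 0) {χ : IrrCharacter G}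
    (hχ : χ ∈ B) : Char.regFun p χ.1 ≠ χ.1 := by
  intro h
  have hp : p.Prime := Fact.out
  obtain ⟨z, hz⟩ := Char.exists_int_apply_one_eq_pPow_mul hp
    (Char.irr_isGeneralized χ) (fun x hx => by rw [← h, Char.regFun, if_pos hx])
  have hdvd : p ^ (Nat.card G).factorization p ∣ Char.degree χ := by
    rw [Char.apply_one_eq_degree] at hz
    have hz' : ((Char.degree χ : ℤ)) = ((p ^ (Nat.card G).factorization p : ℕ) : ℤ) * z := by
      exact_mod_cast hz
    exact Int.natCast_dvd_natCast.1 ⟨z, hz'⟩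
  have hfac : (Char.degree χ).factorization p = (Nat.card G).factorization p :=
    le_antisymm ((Nat.factorization_le_iff_dvd (Char.degree_pos χ).ne' Nat.card_pos.ne').2
      (Char.degree_dvd_natCard χ) p)
      ((hp.pow_dvd_iff_le_factorization (Char.degree_pos χ).ne').1 hdvd)
  have hB' := (Blocks.blockOf_eq_singleton_iff hpM χ).2 hfac
  apply hd
  rw [Blocks.block_eq hB hχ, hB', blockDefect, Set.image_singleton, csInf_singleton,
    Blocks.charDegree_eq, hfac, Nat.sub_self]

/-- In a block with two characters the rank is one. -/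
theorem rank_one_of_card_two [M.IsMaximal] [Fact p.Prime] (hpM : (p : AlgInt) ∈ M)
    {B : Set (IrrCharacter G)} (hB : IsPBlock M B) (hk : Nat.card B = 2) :
    blockRank p B = 1 ∧ blockDefect p B ≠ 0 := by
  classical
  have hp : p.Prime := Fact.out
  have hd : blockDefect p B ≠ 0 := by
    intro hd
    obtain ⟨χ, hχ, h0⟩ := Blocks.exists_height_zero hpM hB
    have hb := Char.factorization_degree_of_height_zero hχ h0
    have hle : (Char.degree χ).factorization p ≤ (Nat.card G).factorization p :=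
      (Nat.factorization_le_iff_dvd (Char.degree_pos χ).ne' Nat.card_pos.ne').2
        (Char.degree_dvd_natCard χ) p
    rw [blockDefect, ← hb] at hd
    rw [Blocks.block_eq hB hχ, (Blocks.blockOf_eq_singleton_iff hpM χ).2 (by omega)] at hk
    simp at hk
  refine ⟨?_, hd⟩
  obtain ⟨χ, ψ, hne, huniv⟩ := Nat.card_eq_two_iff.1 hk
  have huniv' : (Finset.univ : Finset B) = {χ, ψ} := by
    ext x
    have : x ∈ ({χ, ψ} : Set B) := huniv ▸ Set.mem_univ x
    simpa using this
  have hsum : ∀ f : B → ℂ, ∑ ν : B, f ν = f χ + f ψ := fun f => by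
    rw [huniv', Finset.sum_pair hne]
  have h1 := sum_regDot_mul hpM hp hB χ.2 χ.1.1
  have h2 := sum_regDot_mul hpM hp hB χ.2 ψ.1.1
  rw [hsum, regDot_comm hp ψ.1 χ.1] at h1
  rw [hsum] at h2
  have hC : regDot p χ.1.1 ψ.1.1 ≠ 0 := by
    intro hC
    have hz : ∀ ν : IrrCharacter G, ν ≠ χ.1 → regDot p χ.1.1 ν.1 = 0 := by
      intro ν hν
      by_cases hνB : ν ∈ B
      · have hm : (⟨ν, hνB⟩ : B) ∈ ({χ, ψ} : Set B) := huniv ▸ Set.mem_univ _
        rcases hm with hm | hm
        · exact absurd (congrArg Subtype.val hm) hν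
        · have h' : ν = ψ.1 := congrArg Subtype.val hm
          rw [h']
          exact hC
      · exact regDot_eq_zero hpM hp hB χ.2 hνB
    have hexp : Char.regFun p χ.1.1 = regDot p χ.1.1 χ.1.1 • χ.1.1 := by
      refine (Char.eq_sum_classInner_smul (Char.isClassFunction_regFun p
        (Char.IsCharacter.isClassFunction (Char.irr_isCharacter χ.1)))).trans ?_
      refine Finset.sum_eq_single χ.1 (fun ν _ hν => ?_) (fun h => absurd (Finset.mem_univ _) h)
      exact (congrArg (fun z : ℂ => z • ν.1) (hz ν hν)).trans (zero_smul ℂ _)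
    refine regDot_ne_zero hpM hB hd χ.2 ?_
    have h1' := congrFun hexp 1
    have h0 : Char.regFun p χ.1.1 1 = χ.1.1 1 := by simp [Char.regFun, hp.ne_one]
    rw [h0, Pi.smul_apply, smul_eq_mul] at h1'
    have hA1 : regDot p χ.1.1 χ.1.1 = 1 :=
      mul_right_cancel₀ (Blocks.irr_one_ne_zero χ.1) (h1'.symm.trans (one_mul _).symm)
    exact hexp.trans ((congrArg (fun z : ℂ => z • χ.1.1) hA1).trans (one_smul ℂ _))
  have hAE : regDot p χ.1.1 χ.1.1 + regDot p ψ.1.1 ψ.1.1 = 1 := by
    refine mul_left_cancel₀ hC ?_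
    rw [mul_one]
    linear_combination h2
  have h := blockRank_eq_sum hpM hp hB
  simp only [← regDot.eq_def] at h
  rw [hsum, hAE] at h
  exact_mod_cast h

theorem arith {p D g a b n : ℕ} (hp : p.Prime) (hD : D ≠ 0) (hg : g ≠ 0) (hab : Nat.Coprime a b)
    (hs : a ^ 2 + b ^ 2 = p ^ D) (h : g ^ 2 * p ^ D = 2 * n ^ 2) : p ^ D = 2 := by
  have hpD : p ^ D ≠ 0 := pow_ne_zero _ hp.ne_zero
  have hn : n ≠ 0 := fun hn => by
    rw [hn, zero_pow two_ne_zero, mul_zero] at h
    exact mul_ne_zero (pow_ne_zero _ hg) hpD h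
  have h2 : (p ^ D).factorization 2 % 2 = 1 := by
    have := congrArg (fun x => x.factorization 2) h
    simp only [Nat.factorization_mul (pow_ne_zero 2 hg) hpD,
      Nat.factorization_mul two_ne_zero (pow_ne_zero 2 hn), Nat.factorization_pow,
      Finsupp.add_apply, Finsupp.smul_apply, smul_eq_mul, Nat.prime_two.factorization_self] at this
    simp only [Nat.factorization_pow, Finsupp.smul_apply, smul_eq_mul]
    omega
  have hp2 : p = 2 := by
    by_contra hne
    rw [Nat.factorization_pow, Finsupp.smul_apply, hp.factorization,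
      Finsupp.single_eq_of_ne (fun h => hne h.symm), smul_zero] at h2
    omega
  subst hp2
  rcases Nat.lt_or_ge D 2 with hD2 | hD2
  · rw [show D = 1 by omega, pow_one]
  exfalso
  have h4 : 4 ∣ a ^ 2 + b ^ 2 := hs ▸ pow_dvd_pow 2 hD2
  have key : ∀ x : ℕ, x ^ 2 % 4 = if x % 2 = 0 then 0 else 1 := fun x => by
    rw [Nat.pow_mod]
    have h1 : x % 4 < 4 := Nat.mod_lt _ (by norm_num)
    have h2 : x % 2 = x % 4 % 2 := by omega
    rw [h2]
    interval_cases (x % 4) <;> simp
  have ha := key a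
  have hb := key b
  split_ifs at ha hb with h1 h3
  · exact Nat.not_coprime_of_dvd_of_dvd one_lt_two (Nat.dvd_of_mod_eq_zero h1)
      (Nat.dvd_of_mod_eq_zero h3) hab
  all_goals omega

theorem card_defect_of_card_two [M.IsMaximal] [Fact p.Prime] (hpM : (p : AlgInt) ∈ M)
    {B : Set (IrrCharacter G)} (hB : IsPBlock M B) (hk : Nat.card B = 2) :
    p ^ blockDefect p B = 2 := by
  classical
  have hp : p.Prime := Fact.out
  haveI := Blocks.charP_residue (p := p) hpM
  obtain ⟨hl, hd⟩ := rank_one_of_card_two hpM hB hk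
  obtain ⟨φ, d, ⟨m, hm⟩, hφ, hS⟩ := rank_one_data hpM hB hl
  obtain ⟨n, hn⟩ := Blocks.TwoChars.exists_degree_sum_sq hpM hB hk hl
  obtain ⟨χ, ψ, hne, huniv⟩ := Nat.card_eq_two_iff.1 hk
  have huniv' : (Finset.univ : Finset B) = {χ, ψ} := by
    ext x
    have : x ∈ ({χ, ψ} : Set B) := huniv ▸ Set.mem_univ x
    simpa using this
  have h1 : IsPRegular p (1 : G) := by simp [IsPRegular, hp.ne_one]
  rw [finsum_mem_eq_toFinset_sum, Finset.sum_subtype (p := (· ∈ B)) B.toFinset
    (fun _ => Set.mem_toFinset), huniv', Finset.sum_pair hne] at hS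
  rw [huniv', Finset.sum_pair hne] at hn
  have hφ1 := hm 1 h1
  rw [finsum_mem_eq_toFinset_sum, Finset.sum_subtype (p := (· ∈ B)) B.toFinset
    (fun _ => Set.mem_toFinset), huniv', Finset.sum_pair hne] at hφ1
  simp only [Char.apply_one_eq_degree] at hφ1
  set g0 : ℤ := m χ.1 * (Char.degree χ.1 : ℤ) + m ψ.1 * (Char.degree ψ.1 : ℤ) with hg0
  have hg : φ 1 = (g0 : ℂ) := by rw [hφ1, hg0]; push_cast; ring
  have hdeg : ∀ ν : B, (Char.degree ν.1 : ℤ) = (d ν.1 : ℤ) * g0 := fun ν => by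
    have h := hφ ν.1 ν.2 1 h1
    rw [Char.apply_one_eq_degree, hg] at h
    exact_mod_cast h
  have hg0ne : g0 ≠ 0 := fun h => by
    have := hdeg χ
    rw [h, mul_zero] at this
    exact (Char.degree_pos χ.1).ne' (by exact_mod_cast this)
  have hab : Nat.Coprime (d χ.1) (d ψ.1) := by
    rw [← Nat.isCoprime_iff_coprime]
    refine ⟨m χ.1, m ψ.1, mul_right_cancel₀ hg0ne ?_⟩
    rw [one_mul]
    conv_rhs => rw [hg0, hdeg χ, hdeg ψ]
    ring
  refine arith hp hd (g := g0.natAbs) (n := n) (by simpa using hg0ne) hab hS ?_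
  rw [← hS, ← hn, mul_add]
  have h2 : ∀ ν : B, Char.degree ν.1 = d ν.1 * g0.natAbs := fun ν => by
    have := congrArg Int.natAbs (hdeg ν)
    rwa [Int.natAbs_natCast, Int.natAbs_mul, Int.natAbs_natCast] at this
  rw [h2 χ, h2 ψ]
  ring

theorem card_two_of_card_defect [M.IsMaximal] [Fact p.Prime] (hpM : (p : AlgInt) ∈ M)
    {B : Set (IrrCharacter G)} (hB : IsPBlock M B) (h2 : p ^ blockDefect p B = 2) :
    Nat.card B = 2 := by
  classical
  have hp : p.Prime := Fact.out
  have hd : blockDefect p B ≠ 0 := fun h => by rw [h, pow_zero] at h2; exact absurd h2 (by norm_num)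
  obtain ⟨χ, hχ⟩ := Blocks.block_nonempty hB
  obtain ⟨c, hc⟩ := exists_int_regDot hpM hp hB hχ
  rw [h2, Nat.cast_ofNat] at hc
  have hsum : ∑ ν : B, c ν.1 * c ν.1 = 2 * c χ := by
    have h := sum_regDot_mul hpM hp hB hχ χ.1
    have : ((∑ ν : B, c ν.1 * c ν.1 : ℤ) : ℂ) = ((2 * c χ : ℤ) : ℂ) := by
      push_cast
      simp only [← hc]
      rw [← h]
      rw [Finset.mul_sum, Finset.mul_sum]
      exact Finset.sum_congr rfl fun ν _ => by rw [regDot_comm hp ν.1 χ]; ring
    exact_mod_cast this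
  have hexp : Char.regFun p χ.1 = ∑ ν : IrrCharacter G, regDot p χ.1 ν.1 • ν.1 :=
    Char.eq_sum_classInner_smul (Char.isClassFunction_regFun p
      (Char.IsCharacter.isClassFunction (Char.irr_isCharacter χ)))
  have hout : ∀ ν, ν ∉ B → c ν = 0 := fun ν hν => by
    have := hc ν
    rw [regDot_eq_zero hpM hp hB hχ hν, mul_zero] at this
    exact_mod_cast this.symm
  have hr : ∀ ν, regDot p χ.1 ν.1 = (c ν : ℂ) / 2 := fun ν => by rw [← hc]; ring
  rw [← Finset.add_sum_erase _ _ (Finset.mem_univ (⟨χ, hχ⟩ : B))] at hsum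
  simp only at hsum
  set rest := ∑ ν ∈ Finset.univ.erase (⟨χ, hχ⟩ : B), c ν.1 * c ν.1 with hrest
  have hnn : 0 ≤ rest := Finset.sum_nonneg fun ν _ => mul_self_nonneg _
  have hcχ : 0 ≤ c χ ∧ c χ ≤ 2 := by constructor <;> nlinarith
  have hrest0 : rest = 0 → ∀ ν, ν ≠ χ → c ν = 0 := fun h0 ν hν => by
    by_cases hνB : ν ∈ B
    · exact mul_self_eq_zero.1 ((Finset.sum_eq_zero_iff_of_nonneg fun x _ => mul_self_nonneg _).1 h0
        ⟨ν, hνB⟩ (by simp [hν]))
    · exact hout ν hνB
  have hc1 : c χ = 1 := by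
    by_contra hne
    have hc02 : c χ = 0 ∨ c χ = 2 := by omega
    have h0 : ∀ ν, ν ≠ χ → c ν = 0 := hrest0 (by rcases hc02 with e | e <;> rw [e] at hsum <;> omega)
    have heq : Char.regFun p χ.1 = ((c χ : ℂ) / 2) • χ.1 := by
      rw [hexp, Finset.sum_eq_single χ (fun ν _ hν => by rw [hr, h0 ν hν]; simp)
        (fun h => absurd (Finset.mem_univ _) h), hr]
    rcases hc02 with e | e <;> rw [e] at heq
    · have := congrFun heq 1
      simp [Char.regFun, hp.ne_one, Blocks.irr_one_ne_zero] at this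
    · refine regDot_ne_zero hpM hB hd hχ ?_
      rw [heq]
      norm_num
  have hrest1 : rest = 1 := by rw [hc1] at hsum; omega
  obtain ⟨⟨ψ, hψB⟩, hψ, hψ0⟩ := Finset.exists_ne_zero_of_sum_ne_zero
    (by rw [← hrest, hrest1]; exact one_ne_zero :
      ∑ ν ∈ Finset.univ.erase (⟨χ, hχ⟩ : B), c ν.1 * c ν.1 ≠ 0)
  have hψχ : ψ ≠ χ := fun h => by simp [h] at hψ
  rw [hrest, ← Finset.add_sum_erase _ _ hψ] at hrest1
  simp only at hψ0 hrest1
  set rest2 := ∑ ν ∈ (Finset.univ.erase (⟨χ, hχ⟩ : B)).erase ⟨ψ, hψB⟩, c ν.1 * c ν.1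
  have hnn2 : 0 ≤ rest2 := Finset.sum_nonneg fun ν _ => mul_self_nonneg _
  have hψsq : c ψ * c ψ = 1 := by
    have : 0 < c ψ * c ψ := lt_of_le_of_ne (mul_self_nonneg _) (Ne.symm hψ0)
    omega
  have h0 : ∀ ν, ν ≠ χ → ν ≠ ψ → c ν = 0 := fun ν h1 h2 => by
    by_cases hνB : ν ∈ B
    · exact mul_self_eq_zero.1 ((Finset.sum_eq_zero_iff_of_nonneg fun x _ => mul_self_nonneg _).1
        (by omega : rest2 = 0) ⟨ν, hνB⟩ (by simp [h1, h2]))
    · exact hout ν hνB
  have heq : Char.regFun p χ.1 = (1 / 2 : ℂ) • χ.1 + ((c ψ : ℂ) / 2) • ψ.1 := by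
    rw [hexp, ← Finset.sum_subset (Finset.subset_univ {χ, ψ}) (fun ν _ hν => by
        simp only [Finset.mem_insert, Finset.mem_singleton, not_or] at hν
        rw [hr, h0 ν hν.1 hν.2]; simp), Finset.sum_pair hψχ.symm, hr, hr, hc1]
    norm_num
  have hwo : ∀ x y : G, IsPRegular p x → ¬ IsPRegular p y →
      ∑ ν ∈ Finset.univ.filter (· ∈ ({χ, ψ} : Set (IrrCharacter G))), ν.1 x * conj (ν.1 y) = 0 := by
    intro x y hx hy
    have hfil : Finset.univ.filter (· ∈ ({χ, ψ} : Set (IrrCharacter G))) = {χ, ψ} := by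
      ext; simp
    have e1 := congrFun heq x
    have e2 := congrFun heq y
    simp only [Char.regFun, if_neg hx, if_pos (not_not.1 hy), Pi.add_apply, Pi.smul_apply,
      smul_eq_mul] at e1 e2
    have hcr : χ.1 x = (c ψ : ℂ) * ψ.1 x := by linear_combination 2 * e1
    have hcs : χ.1 y = -((c ψ : ℂ) * ψ.1 y) := by linear_combination (-2 : ℂ) * e2
    have hsq : (c ψ : ℂ) * c ψ = 1 := by exact_mod_cast hψsq
    rw [hfil, Finset.sum_pair hψχ.symm, hcr, hcs, map_neg, map_mul, map_intCast]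
    linear_combination -(ψ.1 x * conj (ψ.1 y)) * hsq
  have hsub := Blocks.blockOf_subset_of_scoeff (A := {χ, ψ})
    (Blocks.scoeff_of_weak_orthogonality hpM _ hwo) (Set.mem_insert χ {ψ})
  have hBeq : B = {χ, ψ} := Set.Subset.antisymm (Blocks.block_eq hB hχ ▸ hsub)
    (Set.insert_subset hχ (Set.singleton_subset_iff.2 hψB))
  rw [hBeq, Nat.card_coe_set_eq, Set.ncard_pair hψχ.symm]

/-- Let G be a finite group, p a prime, M a maximal ideal of the algebraic integers containing p, and B a p-block of G with defect group D. Then B contains exactly two irreducible characters if and only if D has order 2. -/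
theorem result {G : Type*} [Group G] [Finite G] (p : ℕ) [Fact p.Prime] (M : Ideal Cfsg.AlgInt) (hM : Cfsg.IsPModular p M) (B : Set (Cfsg.IrrCharacter G)) (hB : Cfsg.IsPBlock M B) (D : Subgroup G) (hD : Cfsg.IsDefectGroup p M B D) : Nat.card B = 2 ↔ Nat.card D = 2 := by
  classical
  haveI := Fintype.ofFinite G
  haveI := hM.2.1
  rw [Agent.Blocks.card_defectGroup hM.2.2 hB hD]
  exact ⟨card_defect_of_card_two hM.2.2 hB, card_two_of_card_defect hM.2.2 hB⟩

end Cfsg.Agent.S4607
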