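import Cfsg.Statements.S4687
import Cfsg.Agent.Lib.BrauerPairs.NilpotentBlock

set_option autoImplicit false
open Cfsg Cfsg.Agent Cfsg.Agent.BrauerPairs
open scoped Cfsg.Agent.Blocks

namespace Cfsg.Agent.S4687

/-- Fix a prime p and a maximal ideal M of the algebraic integers containing p, and a p-block B of the finite group G with maximal Brauer pair (P, e), P abelian. Then B is nilpotent if and only if its inertial quotient is trivial: every element of N_G(P) stabilizing e centralizes P. -/
theorem result {G : Type*} [Group G] [Fintype G] (p : ℕ) [Fact p.Prime] (M : Ideal Cfsg.AlgInt) (hM : Cfsg.IsPModular p M) (B : Set (Cfsg.IrrCharacter G)) (P : Subgroup G) (e : Set (Cfsg.IrrCharacter (Subgroup.centralizer (P : Set G)))) (hmax : Cfsg.IsMaximalBrauerPair p M B P e) (hab : ∀ x ∈ P, ∀ y ∈ P, x * y = y * x) : Cfsg.IsNilpotentBlock p M B ↔ ∀ x : G, x ∈ Subgroup.normalizer (P : Set G) → Cfsg.StabilizesBlock (Subgroup.centralizer (P : Set G)) e x → x ∈ Subgroup.centralizer (P : Set G) := by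
  have : M.IsMaximal := hM.2.1
  have : CharP (AlgInt ⧸ M) p := Blocks.charP_residue hM.2.2
  have hblk : ∀ H : Subgroup G, HasBlocks (AlgInt ⧸ M) H := fun H => hasBlocks M H
  have hB : IsPBlock M B := hmax.1.2.1
  obtain ⟨he, ha⟩ := (isMaximalBrauerPair_iff hB).1 hmax
  have hBi := isBlockIdem_blkG hB
  rw [isNilpotentBlock_iff hB]
  constructor
  · intro hnil x hxN hst
    have hxT : x ∈ stabOf P (blk M _ e) :=
      ⟨hxN, (stabilizesBlock_iff he (normalizer_le_normalizer_centralizer P hxN)).1 hst⟩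
    have hH : BHom p P (blk M _ e) x P := by
      refine (bhom_iff hblk ha.1.1 Relation.ReflTransGen.refl x).2 ?_
      rw [show conjPair x (P, blk M _ e) = (P, blk M _ e) from
        Prod.ext (map_conj_eq_of_mem_normalizer hxN) hxT.2]
      exact Relation.ReflTransGen.refl
    obtain ⟨u, hu, hx⟩ := hnil.exists_mem_conj hblk hBi ha hH
    refine Subgroup.mem_centralizer_iff.2 fun q hq => ?_
    have h1 := hx q hq
    rw [show u * q * u⁻¹ = q by rw [hab u hu q hq, mul_inv_cancel_right], mul_inv_eq_iff_eq_mul] at h1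
    exact h1.symm
  · intro h
    refine isNilpotentPairs_of_inner hblk hBi ha fun g Q hH => ⟨1, one_mem P, fun q hq => ?_⟩
    have hQP := hH.1
    obtain ⟨-, f, hf, hgf⟩ := hH
    have hgQ : Q.map (MulAut.conj g).toMonoidHom ≤ P := hgf.le
    have hPC : ∀ R : Subgroup G, R ≤ P → P ≤ Subgroup.centralizer (R : Set G) := fun R hR x hx =>
      Subgroup.mem_centralizer_iff.2 fun y hy => hab y (hR hy) x hx
    have hD : DefectIn p (Subgroup.centralizer ((Q.map (MulAut.conj g).toMonoidHom : Subgroup G) : Set G))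
        (conjEl g f)
        (P ⊓ Subgroup.centralizer ((Q.map (MulAut.conj g).toMonoidHom : Subgroup G) : Set G)) := by
      refine (forall_centralizer_le_iff hblk hBi ha hgf).1 fun x hx => ?_
      rw [inf_eq_left.2 (hPC _ hgQ)]
      exact Subgroup.card_le_of_le inf_le_left
    obtain ⟨c, hc, hcH⟩ := exists_extension_map hblk hBi ha hgf hD (R := Q) (N := P) (g := g)
      ⟨hQP, f, hf, hgf⟩ rfl hQP
      (le_inf le_rfl ((hPC Q hQP).trans (Subgroup.centralizer_le_normalizer _)))
      (le_trans (by rw [← BrauerPairs.map_conj_centralizer]; exact Subgroup.map_mono (hPC Q hQP)) le_sup_right)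
    have hT : c * g ∈ Subgroup.normalizer (P : Set G) :=
      mem_normalizer_of_conj_le fun u hu => hcH.map_le ⟨u, hu, rfl⟩
    have hfix := conjEl_eq_of_ple hblk ha.1.1 Relation.ReflTransGen.refl hT
      ((bhom_iff hblk ha.1.1 Relation.ReflTransGen.refl (c * g)).1 hcH)
    have hC := h (c * g) hT ((stabilizesBlock_iff he (normalizer_le_normalizer_centralizer P hT)).2 hfix)
    have h1 := Subgroup.mem_centralizer_iff.1 hC q (hQP hq)
    have h2 := Subgroup.mem_centralizer_iff.1 hc (g * q * g⁻¹) ⟨q, hq, rfl⟩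
    calc g * q * g⁻¹ = g * q * g⁻¹ * c * c⁻¹ := by group
      _ = c * g * q * g⁻¹ * c⁻¹ := by rw [h2]; group
      _ = q * (c * g) * g⁻¹ * c⁻¹ := by rw [h1]
      _ = 1 * q * 1⁻¹ := by group

end Cfsg.Agent.S4687
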