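import Cfsg.Statements.S4648
import Cfsg.Agent.S4607
import Cfsg.Agent.S4687
import Cfsg.Agent.Lib.Blocks.FewChars
import Cfsg.Agent.Lib.Watanabe.Main
import Cfsg.Agent.Lib.Blocks.NilpotentRank.Main

set_option autoImplicit false
open Cfsg

namespace Cfsg.Agent.S4648

open Cfsg.Agent Cfsg.Agent.BrauerPairs
open scoped Cfsg.Agent.Blocks

universe u

/-- A block of rank one with at most four characters has as many characters as its defect group has
elements. -/
theorem card_eq_defect {G : Type u} [Group G] [Fintype G] {p : ℕ} [Fact p.Prime] {M : Ideal AlgInt}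
    [M.IsMaximal] [CharP (AlgInt ⧸ M) p] (hpM : (p : AlgInt) ∈ M) {B : Set (IrrCharacter G)}
    (hB : IsPBlock M B) (hl : blockRank p B = 1) (hk : Nat.card B ≤ 4) (hd : blockDefect p B ≠ 0) :
    p ^ blockDefect p B = Nat.card B ∧ (p = 2 ∨ p = 3) := by
  classical
  have hp : p.Prime := Fact.out
  obtain ⟨φ, d, ⟨m, hm⟩, hφ, hS⟩ := rank_one_data hpM hB hl
  obtain ⟨n, hn, hdvd⟩ := Blocks.FewChars.exists_degree_sum_sq hpM hB hk hl
  obtain ⟨χ, hχ, h0⟩ := Blocks.exists_height_zero hpM hB
  set a := (Nat.card G).factorization p with ha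
  set s := sInf ((fun χ : IrrCharacter G => (charDegree (χ : G → ℂ)).factorization p) '' B) with hs
  have hdef : blockDefect p B = a - s := rfl
  have hsle : s ≤ a := by
    rw [hs, ← Char.factorization_degree_of_height_zero hχ h0]
    exact (Nat.factorization_le_iff_dvd (Char.degree_pos χ).ne' Nat.card_pos.ne').2
      (Char.degree_dvd_natCard χ) p
  have h1 : IsPRegular p (1 : G) := by simp [IsPRegular, hp.ne_one]
  have hφ1 := hm 1 h1
  simp only [Char.apply_one_eq_degree] at hφ1
  rw [finsum_mem_eq_toFinset_sum, Finset.sum_subtype (p := (· ∈ B)) B.toFinset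
    (fun _ => Set.mem_toFinset)] at hφ1 hS
  set g0 : ℤ := ∑ ν : B, m ν.1 * (Char.degree ν.1 : ℤ) with hg0
  have hg : φ 1 = (g0 : ℂ) := by rw [hφ1, hg0]; push_cast; rfl
  have hdeg : ∀ ν : B, Char.degree ν.1 = d ν.1 * g0.natAbs := fun ν => by
    have h := hφ ν.1 ν.2 1 h1
    rw [Char.apply_one_eq_degree, hg] at h
    have h' : (Char.degree ν.1 : ℤ) = (d ν.1 : ℤ) * g0 := by exact_mod_cast h
    have := congrArg Int.natAbs h'
    rwa [Int.natAbs_natCast, Int.natAbs_mul, Int.natAbs_natCast] at this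
  set g := g0.natAbs with hgdef
  have hgpos : g ≠ 0 := fun h => by
    have := hdeg ⟨χ, hχ⟩
    rw [h, mul_zero] at this
    exact (Char.degree_pos χ).ne' this
  have hgs : g.factorization p = s := by
    refine le_antisymm ?_ ?_
    · rw [hs, ← Char.factorization_degree_of_height_zero hχ h0]
      exact (Nat.factorization_le_iff_dvd hgpos (Char.degree_pos χ).ne').2
        ⟨d χ, by rw [hdeg ⟨χ, hχ⟩, mul_comm]⟩ p
    · refine (hp.pow_dvd_iff_le_factorization hgpos).1 (Int.natCast_dvd.1 ?_)
      rw [hg0]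
      refine Finset.dvd_sum fun ν _ => dvd_mul_of_dvd_right ?_ _
      refine Int.natCast_dvd_natCast.2 ?_
      refine (hp.pow_dvd_iff_le_factorization (Char.degree_pos ν.1).ne').2 ?_
      rw [← Blocks.charDegree_eq]
      exact Nat.sInf_le ⟨ν.1, ν.2, rfl⟩
  have hsum : g ^ 2 * p ^ (a - s) = Nat.card B * n ^ 2 := by
    rw [← hn, ← hdef, ← hS, Finset.mul_sum]
    exact Finset.sum_congr rfl fun ν _ => by rw [hdeg ν]; ring
  have hB0 : Nat.card B ≠ 0 := by
    obtain h := hB
    haveI : Nonempty B := ⟨⟨χ, hχ⟩⟩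
    exact Nat.card_pos.ne'
  have hn0 : n ≠ 0 := fun h => by
    rw [h, zero_pow two_ne_zero, mul_zero] at hsum
    exact mul_ne_zero (pow_ne_zero _ hgpos) (pow_ne_zero _ hp.ne_zero) hsum
  have hv := congrArg (fun x => x.factorization p) hsum
  simp only [Nat.factorization_mul (pow_ne_zero 2 hgpos) (pow_ne_zero _ hp.ne_zero),
    Nat.factorization_mul hB0 (pow_ne_zero 2 hn0), Nat.factorization_pow, Finsupp.add_apply,
    Finsupp.smul_apply, smul_eq_mul, hp.factorization_self, hgs] at hv
  have hv2 := (hp.pow_dvd_iff_le_factorization (mul_ne_zero hn0 hB0)).1 hdvd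
  rw [Nat.factorization_mul hn0 hB0, Finsupp.add_apply] at hv2
  have hdk : p ^ blockDefect p B ∣ Nat.card B := by
    refine (hp.pow_dvd_iff_le_factorization hB0).2 ?_
    rw [hdef]
    omega
  have hle := Nat.le_of_dvd (Nat.pos_of_ne_zero hB0) hdk
  have h2le : 2 ≤ p ^ blockDefect p B :=
    le_trans hp.two_le (Nat.le_self_pow hd p)
  have hp4 : p ≤ 4 := le_trans (Nat.le_self_pow hd p) (hle.trans hk)
  have hp23 : p = 2 ∨ p = 3 := by
    have := hp.two_le
    interval_cases p <;> first | omega | norm_num at hp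
  refine ⟨?_, hp23⟩
  by_contra hne
  rcases hdk with ⟨t, ht⟩
  have ht2 : 2 ≤ t := by
    rcases Nat.lt_or_ge t 2 with h | h
    · interval_cases t <;> omega
    · exact h
  have h4 : p ^ blockDefect p B * 2 ≤ 4 := le_trans (Nat.mul_le_mul_left _ ht2) (ht ▸ hk)
  have h2 := S4607.card_two_of_card_defect hpM hB (by omega)
  omega

/-- A fixed point other than `1` in a group of order at most four: the square of the element
centralizes the group. -/
theorem sq_mem_centralizer {G : Type u} [Group G] [Finite G] {P : Subgroup G} (hP : Nat.card P ≤ 4)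
    {t y : G} (ht : t ∈ Subgroup.normalizer (P : Set G)) (hy : y ∈ P) (hy1 : y ≠ 1)
    (hty : t * y * t⁻¹ = y) :
    t ^ 2 ∈ Subgroup.centralizer (P : Set G) ∧
      (Nat.card P ≤ 3 → t ∈ Subgroup.centralizer (P : Set G)) := by
  classical
  letI := Fintype.ofFinite P
  have hmem : ∀ z ∈ P, t * z * t⁻¹ ∈ P := fun z hz => (Subgroup.mem_normalizer_iff.1 ht z).1 hz
  have hinj : ∀ {z w : G}, t * z * t⁻¹ = t * w * t⁻¹ → z = w := fun {z w} h => by
    simpa using h
  let S : Finset P := Finset.univ.filter fun z : P => t * (z : G) * t⁻¹ ≠ z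
  have hS : S.card + 2 ≤ Nat.card P := by
    have hdis : Disjoint S {(1 : P), ⟨y, hy⟩} := by
      rw [Finset.disjoint_left]
      intro z hz hz'
      rcases Finset.mem_insert.1 hz' with rfl | h
      · simp [S] at hz
      · rw [Finset.mem_singleton.1 h] at hz
        simp [S, hty] at hz
    have h2 : ({(1 : P), ⟨y, hy⟩} : Finset P).card = 2 :=
      Finset.card_pair fun h => hy1 (congrArg Subtype.val h).symm
    rw [← h2, ← Finset.card_union_of_disjoint hdis, Nat.card_eq_fintype_card]
    exact Finset.card_le_univ _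
  constructor
  · rw [Subgroup.mem_centralizer_iff]
    intro z hz
    suffices h : t * (t * z * t⁻¹) * t⁻¹ = z by
      calc z * t ^ 2 = t * (t * z * t⁻¹) * t⁻¹ * t ^ 2 := by rw [h]
        _ = t ^ 2 * z := by simp only [pow_two, mul_assoc, inv_mul_cancel_left, inv_mul_cancel, mul_one]
    by_cases h1 : t * z * t⁻¹ = z
    · rw [h1, h1]
    by_contra h2
    have hz1 : (⟨z, hz⟩ : P) ∈ S := by simp [S, h1]
    have hw1 : (⟨_, hmem z hz⟩ : P) ∈ S := by
      simp only [S, Finset.mem_filter, Finset.mem_univ, true_and]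
      exact fun h => h1 (hinj h)
    have hv1 : (⟨_, hmem _ (hmem z hz)⟩ : P) ∈ S := by
      simp only [S, Finset.mem_filter, Finset.mem_univ, true_and]
      exact fun h => h1 (hinj (hinj h))
    have h3 : ({⟨z, hz⟩, ⟨_, hmem z hz⟩, ⟨_, hmem _ (hmem z hz)⟩} : Finset P).card = 3 := by
      refine Finset.card_eq_three.2 ⟨_, _, _, ?_, ?_, ?_, rfl⟩
      · exact fun h => h1 (congrArg Subtype.val h).symm
      · exact fun h => h2 (congrArg Subtype.val h).symm
      · exact fun h => h1 (hinj (congrArg Subtype.val h).symm)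
    have h4 := Finset.card_le_card (Finset.insert_subset hz1 (Finset.insert_subset hw1
      (Finset.singleton_subset_iff.2 hv1)))
    rw [h3] at h4
    omega
  · intro hP3
    rw [Subgroup.mem_centralizer_iff]
    intro z hz
    by_cases h1 : t * z * t⁻¹ = z
    · exact (mul_inv_eq_iff_eq_mul.1 h1).symm
    exfalso
    have hz1 : (⟨z, hz⟩ : P) ∈ S := by simp [S, h1]
    have hw1 : (⟨_, hmem z hz⟩ : P) ∈ S := by
      simp only [S, Finset.mem_filter, Finset.mem_univ, true_and]
      exact fun h => h1 (hinj h)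
    have h2 : ({⟨z, hz⟩, ⟨_, hmem z hz⟩} : Finset P).card = 2 :=
      Finset.card_pair fun h => h1 (congrArg Subtype.val h).symm
    have h4 := Finset.card_le_card (Finset.insert_subset hz1 (Finset.singleton_subset_iff.2 hw1))
    rw [h2] at h4
    omega

/-- Let B be a block of the finite group G relative to a maximal ideal M of the algebraic integers containing the prime p, with a nontrivial defect group D. If B has p-regular rank 1 and at most four irreducible characters, then B is nilpotent, D has exactly as many elements as B has irreducible characters, and p is 2 or 3. -/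
theorem result {G : Type*} [Group G] [Finite G] (p : ℕ) [Fact p.Prime] (M : Ideal Cfsg.AlgInt) (hM : Cfsg.IsPModular p M) (B : Set (Cfsg.IrrCharacter G)) (hB : Cfsg.IsPBlock M B) (D : Subgroup G) (hD : Cfsg.IsDefectGroup p M B D) (hD1 : D ≠ ⊥) (hl : Cfsg.blockRank p B = 1) (hk : Nat.card B ≤ 4) : Cfsg.IsNilpotentBlock p M B ∧ Nat.card D = Nat.card B ∧ (p = 2 ∨ p = 3) := by
  classical
  letI := Fintype.ofFinite G
  have : M.IsMaximal := hM.2.1
  have : CharP (AlgInt ⧸ M) p := Blocks.charP_residue hM.2.2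
  have hp : p.Prime := Fact.out
  have hpM := hM.2.2
  have hDcard := Blocks.card_defectGroup hpM hB hD
  have hd : blockDefect p B ≠ 0 := fun h => hD1 (by
    rw [h, pow_zero] at hDcard
    exact Subgroup.eq_bot_of_card_eq D hDcard)
  obtain ⟨hpd, hp23⟩ := card_eq_defect hpM hB hl hk hd
  have hDk : Nat.card D = Nat.card B := hDcard.trans hpd
  refine ⟨?_, hDk, hp23⟩
  have hblk : ∀ H : Subgroup G, HasBlocks (AlgInt ⧸ M) H := fun H => hasBlocks M H
  have hBi := isBlockIdem_blkG hB
  obtain ⟨c, hc, ha⟩ := exists_isMax_of_isDefectGroup hB hD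
  have hab : ∀ x ∈ D, ∀ y ∈ D, x * y = y * x := by
    have h4 : blockDefect p B = 1 ∨ blockDefect p B = 2 := by
      have h : 2 ^ blockDefect p B ≤ 2 ^ 2 :=
        (Nat.pow_le_pow_left hp.two_le _).trans (hpd ▸ hk)
      have := (Nat.pow_le_pow_iff_right (show 1 < 2 by norm_num)).1 h
      omega
    intro x hx y hy
    rcases h4 with h | h <;> rw [h] at hDcard
    · rw [pow_one] at hDcard
      haveI : IsCyclic D := isCyclic_of_prime_card hDcard
      exact congrArg Subtype.val (IsCyclic.commGroup.mul_comm (⟨x, hx⟩ : D) ⟨y, hy⟩)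
    · exact congrArg Subtype.val (IsPGroup.commutative_of_card_eq_prime_sq hDcard ⟨x, hx⟩ ⟨y, hy⟩)
  have hDC : D ≤ Subgroup.centralizer (D : Set G) := fun x hx =>
    Subgroup.mem_centralizer_iff.2 fun y hy => hab y hy x hx
  set T := stabOf D (blk M _ c) with hT
  have hindex : ¬ p ∣ (Subgroup.centralizer (D : Set G)).relIndex T := by
    have h := Watanabe.not_dvd_relIndex_stabIn hB ha hDC (R := ⊥) bot_le
    rwa [show Watanabe.stabIn D (blk M _ c) ⊥ = T from inf_eq_left.2 fun g _ =>
      Subgroup.mem_centralizer_iff.2 fun x hx => by rw [Subgroup.mem_bot.1 hx, one_mul, mul_one]] at h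
  have hfree : ∀ t ∈ T, ∀ y ∈ D, y ≠ 1 → t * y * t⁻¹ = y →
      t ∈ Subgroup.centralizer (D : Set G) := by
    intro t ht y hy hy1 hty
    obtain ⟨h2, h3⟩ := sq_mem_centralizer (hDk ▸ hk) ht.1 hy hy1 hty
    rcases Nat.lt_or_ge (Nat.card D) 4 with hlt | hge
    · exact h3 (by omega)
    have hp2 : p = 2 := by
      rcases hp23 with h | h
      · exact h
      have h4 : p ^ blockDefect p B = 4 := by omega
      have : p ∣ 4 := h4 ▸ dvd_pow_self p hd
      rw [h] at this
      omega
    haveI : ((Subgroup.centralizer (D : Set G)).subgroupOf T).Normal :=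
      Subgroup.normal_subgroupOf_of_le_normalizer
        ((stabOf_le D _).trans (normalizer_le_normalizer_centralizer D))
    set r := (Subgroup.centralizer (D : Set G)).relIndex T with hr
    have hr1 : t ^ r ∈ Subgroup.centralizer (D : Set G) := by
      have h := ((Subgroup.centralizer (D : Set G)).subgroupOf T).pow_index_mem ⟨t, ht⟩
      exact h
    obtain ⟨j, hj⟩ : Odd r := Nat.odd_iff.2 (by rw [hp2] at hindex; omega)
    have h5 := mul_mem (inv_mem (pow_mem h2 j)) hr1
    rwa [hj, ← pow_mul, pow_succ, ← mul_assoc, inv_mul_cancel, one_mul] at h5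
  -- the rank of every section is one
  have hrho : ∀ y ∈ D, blockRank p (Blocks.NilRank.blkSet M (Subgroup.centralizer ({y} : Set G))
      (Blocks.NilRank.eU p D (blk M _ c) y)) = Watanabe.rho p D (blk M _ c) (Subgroup.zpowers y) := by
    intro y hy
    have hspec := Blocks.NilRank.blkSet_spec (M := M)
      (Blocks.NilRank.isBlockIdem_eU ha.1.1 hy)
    exact (Watanabe.rho_kap_eq ha.1.1 Blocks.centralizer_zpowers_eq.symm hspec.1
      (by rw [hspec.2]; exact Blocks.NilRank.eU_spec ha.1.1 hy)).1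
  have hone : ∀ y ∈ D, Watanabe.rho p D (blk M _ c) (Subgroup.zpowers y) = 1 := by
    intro y hy
    rcases eq_or_ne y 1 with rfl | hy1
    · rw [Subgroup.zpowers_one_eq_bot, (Watanabe.rho_kap_bot hB ha.1).1, hl]
    have hR : Subgroup.zpowers y ≤ D := Subgroup.zpowers_le.2 hy
    set K := Subgroup.centralizer ((Subgroup.zpowers y : Subgroup G) : Set G) with hK
    obtain ⟨b, hb, hle⟩ := Watanabe.exists_block ha.1.1 hR
    rw [← (Watanabe.rho_kap_eq ha.1.1 rfl hb hle).1]
    have hst := step_of_ple_comm hblk ha.1.1 hDC hle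
    have hCK : Subgroup.centralizer (D : Set G) ≤ K := Subgroup.centralizer_le hR
    have hDK : D ≤ K := hDC.trans hCK
    have hdf := defectIn_centralizer_of_comm hblk hBi ha hDC hle
    obtain ⟨e', he', hinc⟩ := exists_maximalPair_sub hb hdf hCK hc hst.2.2.2.2.2
    refine Blocks.NilRank.blockRank_eq_one_of_nilpotent hM ?_
    letI := Fintype.ofFinite K
    refine (S4687.result p M hM b _ e' he' fun x hx z hz => Subtype.ext (hab _ hx _ hz)).2 ?_
    intro x hxN hst'
    have hxD : (x : G) ∈ Subgroup.normalizer (D : Set G) := mem_normalizer_of_conj_le fun u hu =>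
      (Subgroup.mem_normalizer_iff.1 hxN ⟨u, hDK hu⟩).1 hu
    have he'' := ((isMaximalBrauerPair_iff hb).1 he').1
    have hfix : conjEl (x : G) (blk M _ c) = blk M _ c := by
      rw [← hinc, ← conjEl_incl,
        (stabilizesBlock_iff he'' (normalizer_le_normalizer_centralizer _ hxN)).1 hst']
    have hxC := hfree x ⟨hxD, hfix⟩ y hy hy1 (by
      rw [← Subgroup.mem_centralizer_iff.1 x.2 y (Subgroup.mem_zpowers y), mul_inv_cancel_right])
    exact Subgroup.mem_centralizer_iff.2 fun u hu =>
      Subtype.ext (Subgroup.mem_centralizer_iff.1 hxC _ hu)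
  -- all orbits are trivial
  have hsum := Watanabe.sum_wt hpM hB ha hDC
  have hwt : ∀ y : D, Watanabe.wt p D (blk M _ c) (y : G) =
      1 / ((Watanabe.orb T (y : G)).card : ℂ) := fun y => by
    rw [Watanabe.wt, hrho _ y.2, hone _ y.2, Nat.cast_one]
  simp only [hwt] at hsum
  have horb : ∀ y : D, (Watanabe.orb T (y : G)).card = 1 := by
    by_contra hno
    push Not at hno
    obtain ⟨y₀, hy₀⟩ := hno
    have hpos : ∀ y : D, 1 ≤ (Watanabe.orb T (y : G)).card := fun y =>
      Finset.card_pos.2 ⟨_, Watanabe.self_mem_orb T (y : G)⟩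
    have hlt : ∑ y : D, (1 : ℝ) / (Watanabe.orb T (y : G)).card < ∑ _y : D, (1 : ℝ) := by
      refine Finset.sum_lt_sum (fun y _ => ?_) ⟨y₀, Finset.mem_univ _, ?_⟩
      · rw [div_le_one (by exact_mod_cast hpos y)]
        exact_mod_cast hpos y
      · rw [div_lt_one (by exact_mod_cast hpos y₀)]
        exact_mod_cast lt_of_le_of_ne (hpos y₀) (Ne.symm hy₀)
    have heq : ∑ y : D, (1 : ℝ) / (Watanabe.orb T (y : G)).card = Nat.card B := by
      have := congrArg Complex.re hsum
      simpa [Complex.re_sum, ← Complex.ofReal_natCast, ← Complex.ofReal_one, ← Complex.ofReal_div,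
        Complex.ofReal_re] using this
    rw [heq, Finset.sum_const, Finset.card_univ, nsmul_eq_mul, mul_one, ← Nat.card_eq_fintype_card,
      hDk] at hlt
    exact lt_irrefl _ hlt
  refine (S4687.result p M hM B D c ((isMaximalBrauerPair_iff hB).2 ⟨hc, ha⟩) hab).2 ?_
  intro x hxN hst
  have hxT : x ∈ T :=
    ⟨hxN, (stabilizesBlock_iff hc (normalizer_le_normalizer_centralizer D hxN)).1 hst⟩
  refine Subgroup.mem_centralizer_iff.2 fun q hq => ?_
  have h := Finset.card_le_one.1 (horb ⟨q, hq⟩).le (x * q * x⁻¹)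
    (Watanabe.mem_orb.2 ⟨x, hxT, rfl⟩) q (Watanabe.self_mem_orb T q)
  exact (mul_inv_eq_iff_eq_mul.1 h).symm

end Cfsg.Agent.S4648
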