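import Cfsg.Statements.S0887
import Cfsg.Agent.Lib.Clifford.DegreeRatio

set_option autoImplicit false
open Cfsg

namespace Cfsg.Agent.S0887

/-- Let N be a normal subgroup of the finite group G, χ an irreducible character of G and ϑ an irreducible character of N having nonzero inner product with the restriction of χ. If χ 1 = c and ϑ 1 = d as natural numbers, then d divides c and c / d divides the index of N. -/
theorem result {G : Type*} [Group G] [Fintype G] (N : Subgroup G) [N.Normal] [Fintype N] (χ : G → ℂ) (hχ : Cfsg.IsIrrCharacter G χ) (ϑ : N → ℂ) (hϑ : Cfsg.IsIrrCharacter N ϑ) (hcon : Cfsg.classInner (fun n : N => χ n) ϑ ≠ 0) (c d : ℕ) (hc : χ 1 = c) (hd : ϑ 1 = d) : d ∣ c ∧ c / d ∣ N.index := by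
  obtain ⟨m, ρ, hρ, rfl⟩ := hχ
  obtain ⟨k, θ, hθ, rfl⟩ := hϑ
  haveI := hρ
  haveI := hθ
  have hdim : 0 < Module.finrank ℂ
      (Representation.IntertwiningMap θ (ρ.comp N.subtype)) := by
    rcases Nat.eq_zero_or_pos (Module.finrank ℂ
      (Representation.IntertwiningMap θ (ρ.comp N.subtype))) with h | h
    · exact absurd (by rw [show (fun n : N => ρ.character n) =
        Representation.character (ρ.comp N.subtype) from rfl, Char.classInner_character, h,
        Nat.cast_zero]) hcon
    · exact h
  haveI := Module.nontrivial_of_finrank_pos hdim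
  obtain ⟨f, hf⟩ := exists_ne (0 : Representation.IntertwiningMap θ (ρ.comp N.subtype))
  have hmem : f.toLinearMap ∈ Clifford.multSpace θ ρ := fun n => LinearMap.ext fun v =>
    Representation.IntertwiningMap.isIntertwining θ (ρ.comp N.subtype) f n v
  have hf0 : f.toLinearMap ≠ 0 := fun h =>
    hf (Representation.IntertwiningMap.toLinearMap_injective _ _ h)
  have hc' : c = m := by
    have : (m : ℂ) = (c : ℂ) := by rw [← hc]; simp
    exact_mod_cast this.symm
  have hd' : d = k := by
    have : (k : ℂ) = (d : ℂ) := by rw [← hd]; simp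
    exact_mod_cast this.symm
  subst hc'; subst hd'
  have h1 := Clifford.finrank_dvd θ ρ hmem hf0
  have h2 := Clifford.dvd_index_mul θ ρ hmem hf0
  simp only [Module.finrank_fin_fun] at h1 h2
  refine ⟨h1, ?_⟩
  obtain ⟨r, hr⟩ := h1
  haveI := Char.nontrivial_of_isIrreducible θ
  have hpos : 0 < d := by
    simpa using (Module.finrank_pos (R := ℂ) (M := Fin d → ℂ))
  rw [hr, Nat.mul_div_cancel_left _ hpos]
  rw [hr, mul_comm N.index] at h2
  exact Nat.dvd_of_mul_dvd_mul_left hpos h2

end Cfsg.Agent.S0887
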