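import Cfsg.Statements.S0801
import Cfsg.Agent.Lib.PSL2.LowerUpper
-- import your own Cfsg.Agent.* helpers here

set_option autoImplicit false
open Cfsg

namespace Cfsg.Agent.S0801

/-- Let F be a finite field of odd characteristic and λ ≠ 0 an element generating F as a field. Then the lower and upper unitriangular matrices with off-diagonal entries 1 and λ generate SL_2(F), unless |F| = 9 and λ² = −1, in which case they generate a subgroup of order 120. -/
theorem result {F : Type*} [Field F] [Fintype F] (h2 : (2 : F) ≠ 0) (lam : F) (hlam : lam ≠ 0) (hgen : Subfield.closure ({lam} : Set F) = ⊤) : (Subgroup.closure {g : Matrix.SpecialLinearGroup (Fin 2) F | (g : Matrix (Fin 2) (Fin 2) F) = !![1, 0; 1, 1] ∨ (g : Matrix (Fin 2) (Fin 2) F) = !![1, lam; 0, 1]} = ⊤ ∧ ¬ (Fintype.card F = 9 ∧ lam ^ 2 = -1)) ∨ (Fintype.card F = 9 ∧ lam ^ 2 = -1 ∧ Nat.card ↥(Subgroup.closure {g : Matrix.SpecialLinearGroup (Fin 2) F | (g : Matrix (Fin 2) (Fin 2) F) = !![1, 0; 1, 1]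 ∨ (g : Matrix (Fin 2) (Fin 2) F) = !![1, lam; 0, 1]}) = 120) := by
  classical
  obtain ⟨p, hpc⟩ := CharP.exists F
  haveI : Fact p.Prime := ⟨CharP.char_is_prime F p⟩
  have hp : p ≠ 2 := fun h => h2 (by subst h; exact CharP.cast_eq_zero F 2)
  have hset : {g : Matrix.SpecialLinearGroup (Fin 2) F |
      (g : Matrix (Fin 2) (Fin 2) F) = !![1, 0; 1, 1] ∨ (g : Matrix (Fin 2) (Fin 2) F) = !![1, lam; 0, 1]} =
      {Cfsg.Agent.PSL2.ll 1, Cfsg.Agent.PSL2.uu lam} := by
    ext g
    constructor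
    · rintro (h | h)
      · exact Or.inl (Subtype.ext h)
      · exact Or.inr (Subtype.ext h)
    · rintro (h | h) <;> subst h
      · exact Or.inl rfl
      · exact Or.inr rfl
  rw [hset]
  by_cases hex : Fintype.card F = 9 ∧ lam ^ 2 = -1
  · refine Or.inr ⟨hex.1, hex.2, ?_⟩
    obtain ⟨n, -, hn⟩ := FiniteField.card F p
    rw [hex.1] at hn
    have hd : p ∣ 3 ^ 2 := by rw [show (3 : ℕ) ^ 2 = 9 from rfl, hn]; exact dvd_pow_self p n.ne_zero
    have : p = 3 := (Nat.prime_dvd_prime_iff_eq Fact.out Nat.prime_three).1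
      ((Fact.out : p.Prime).dvd_of_dvd_pow hd)
    subst this
    exact Cfsg.Agent.PSL2.NineTable.card_closure hex.2
  · exact Or.inl ⟨(Cfsg.Agent.PSL2.lowerUpper_cases p hp lam hlam hgen).resolve_right hex, hex⟩

end Cfsg.Agent.S0801
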