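import Cfsg.Statements.S2278
import Cfsg.Agent.Lib.GL.Simple
-- import your own Cfsg.Agent.* helpers here

set_option autoImplicit false
open Cfsg
open scoped commutatorElement MatrixGroups

namespace Cfsg.Agent.S2278

section
variable {F : Type*} [Field F]

/-- An element that lies in no proper subring. -/
def Generates (θ : F) : Prop := ∀ K : Subring F, θ ∈ K → K = ⊤

theorem eq_top_of_closed {θ : F} (hθ : Generates θ) (hθ0 : θ ≠ 0) (B : AddSubgroup F)
    (hmul : ∀ a b, a ∈ B → b ∈ B → a * b ∈ B) (hmem : θ ∈ B) : ∀ a, a ∈ B := by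
  let K : Subring F :=
    { carrier := {x | ∀ b ∈ B, x * b ∈ B}
      one_mem' := fun b hb => by rwa [one_mul]
      zero_mem' := fun b _ => by rw [zero_mul]; exact B.zero_mem
      add_mem' := fun {x y} hx hy b hb => by rw [add_mul]; exact B.add_mem (hx b hb) (hy b hb)
      neg_mem' := fun {x} hx b hb => by rw [neg_mul]; exact B.neg_mem (hx b hb)
      mul_mem' := fun {x y} hx hy b hb => by rw [mul_assoc]; exact hx _ (hy b hb) }
  have hK : K = ⊤ := hθ K (fun b hb => hmul θ b hmem hb)
  intro a
  have h : a / θ ∈ K := hK ▸ Subring.mem_top _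
  have := h θ hmem
  rwa [div_mul_cancel₀ a hθ0] at this

variable [Fintype F]

theorem subring_data {p f : ℕ} [Fact p.Prime] [CharP F p] (hq : Fintype.card F = p ^ f)
    {K : Subring F} (hK : K ≠ ⊤) :
    ∃ d : ℕ, 1 ≤ d ∧ 2 * d ≤ f ∧ ∀ x ∈ K, x ^ p ^ d = x := by
  classical
  have hq1 := Fintype.one_lt_card (α := F)
  let K' : Subfield F :=
    { K with
      inv_mem' := fun x hx => by
        rcases eq_or_ne x 0 with rfl | hx0
        · rw [inv_zero]; exact K.zero_mem
        · have h := FiniteField.pow_card_sub_one_eq_one x hx0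
          have : x⁻¹ = x ^ (Fintype.card F - 2) := by
            refine inv_eq_of_mul_eq_one_right ?_
            rw [← pow_succ', show Fintype.card F - 2 + 1 = Fintype.card F - 1 by omega, h]
          rw [this]
          exact K.pow_mem hx _ }
  obtain ⟨d, -, hd⟩ := FiniteField.card K' p
  have hr := Module.card_eq_pow_finrank (K := K') (V := F)
  have hpow : ∀ x ∈ K, x ^ p ^ (d : ℕ) = x := by
    intro x hx
    have h := FiniteField.pow_card (⟨x, hx⟩ : K')
    rw [hd] at h
    exact congrArg Subtype.val h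
  refine ⟨d, d.2, ?_, hpow⟩
  rw [hd, hq, ← pow_mul] at hr
  have hf := Nat.pow_right_injective (Fact.out : p.Prime).two_le hr
  set r := Module.finrank K' F with hrdef
  rcases Nat.lt_or_ge r 2 with h | h
  · exfalso
    have hr0 : r ≠ 0 := by
      intro h0
      rw [h0, mul_zero] at hf
      rw [hf, pow_zero] at hq
      omega
    have hr1 : r = 1 := by omega
    rw [hr1, mul_one] at hf
    refine hK (eq_top_iff.2 fun x _ => ?_)
    have hcard : Fintype.card K' = Fintype.card F := by rw [hd, hq, hf]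
    have hbij : Function.Bijective (Subtype.val : K' → F) :=
      (Fintype.bijective_iff_injective_and_card _).2 ⟨Subtype.val_injective, hcard⟩
    obtain ⟨y, rfl⟩ := hbij.2 x
    exact y.2
  · calc 2 * (d : ℕ) ≤ r * d := Nat.mul_le_mul_right _ h
      _ = f := by rw [hf, mul_comm]

theorem sum_pow_le {p : ℕ} (hp : 5 ≤ p) (m : ℕ) :
    4 * ∑ i ∈ Finset.range m, p ^ (i + 1) ≤ 5 * p ^ m := by
  induction m with
  | zero => simp
  | succ m ih =>
    rw [Finset.sum_range_succ, Nat.mul_add, pow_succ]
    nlinarith [Nat.zero_le (p ^ m)]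

theorem exists_parameter (h4 : Fintype.card F ≠ 4) :
    ∃ L : F, L * (-L ^ 2 - 12) ≠ 0 ∧ Generates (L * (-L ^ 2 - 12)) := by
  classical
  obtain ⟨p, hp⟩ := CharP.exists F
  obtain ⟨f, hpp, hf⟩ := FiniteField.card F p
  have : Fact p.Prime := ⟨hpp⟩
  have hq1 := Fintype.one_lt_card (α := F)
  rcases Nat.lt_or_ge p 5 with hp5 | hp5
  · -- characteristic two or three
    have hp23 : p = 2 ∨ p = 3 := by
      have := hpp.two_le
      interval_cases p <;> first | omega | (exfalso; revert hpp; decide)
    have h12 : (12 : F) = 0 := by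
      have : ((12 : ℕ) : F) = 0 := (CharP.cast_eq_zero_iff F p 12).2 (by
        rcases hp23 with rfl | rfl <;> decide)
      exact_mod_cast this
    obtain ⟨g, hg⟩ := IsCyclic.exists_ofOrder_eq_natCard (α := Fˣ)
    have hgne : (g : F) ≠ 0 := g.ne_zero
    have hne : (g : F) * (-(g : F) ^ 2 - 12) ≠ 0 := by
      rw [h12, sub_zero]; simp [hgne]
    refine ⟨g, hne, fun K hK => ?_⟩
    by_contra hKT
    obtain ⟨d, hd1, hd2, hd⟩ := subring_data hf hKT
    have h1 := hd _ hK
    set m := p ^ d with hm
    have hm2 : 2 ≤ m := hpp.two_le.trans (Nat.le_self_pow (by omega) p)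
    have hneg : ((-1 : F)) ^ (m - 1) = 1 := by
      rcases hp23 with rfl | rfl
      · rw [CharTwo.neg_eq, one_pow]
      · refine Even.neg_one_pow ?_
        obtain ⟨j, hj⟩ : Odd m := hm ▸ Odd.pow (by decide)
        exact ⟨j, by omega⟩
    have h2 : ((g : F)) ^ (3 * (m - 1)) = 1 := by
      have h3 : ((g : F) * (-(g : F) ^ 2 - 12)) ^ (m - 1) = 1 := by
        have : ((g : F) * (-(g : F) ^ 2 - 12)) ^ (m - 1) * ((g : F) * (-(g : F) ^ 2 - 12)) =
            1 * ((g : F) * (-(g : F) ^ 2 - 12)) := by
          rw [← pow_succ, show m - 1 + 1 = m by omega, one_mul, h1]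
        exact mul_right_cancel₀ hne this
      rw [show (g : F) * (-(g : F) ^ 2 - 12) = (-1) * (g : F) ^ 3 by rw [h12]; ring, mul_pow, hneg,
        one_mul, ← pow_mul] at h3
      exact h3
    have h5 := orderOf_le_of_pow_eq_one (show 0 < 3 * (m - 1) by omega)
      (Units.ext (by simpa using h2) : g ^ (3 * (m - 1)) = 1)
    rw [hg, Nat.card_units, Nat.card_eq_fintype_card, hf] at h5
    have h6 : m ^ 2 ≤ p ^ (f : ℕ) := by
      rw [hm, ← pow_mul]
      exact Nat.pow_le_pow_right hpp.pos (by omega)
    have h7 : m = 2 := by nlinarith [Nat.sub_add_cancel (show 1 ≤ m by omega), Nat.sub_add_cancel (Nat.one_le_pow (f : ℕ) p hpp.pos)]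
    rw [hf] at h4
    rw [h7] at h5 h6
    omega
  · -- characteristic at least five: count
    set m := (f : ℕ) / 2 with hmdef
    open Polynomial in
    let θ : F[X] := X * (-X ^ 2 - C 12)
    have hdeg : θ.natDegree = 3 := by
      simp only [θ]
      compute_degree!
    have hθ0 : θ ≠ 0 := fun h => by rw [h, Polynomial.natDegree_zero] at hdeg; omega
    have hfac : ∀ i : ℕ, (θ ^ p ^ (i + 1) - θ).natDegree = 3 * p ^ (i + 1) := by
      intro i
      have h2 : 2 ≤ p ^ (i + 1) := hpp.two_le.trans (Nat.le_self_pow (by omega) p)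
      rw [Polynomial.natDegree_sub_eq_left_of_natDegree_lt] <;>
        rw [Polynomial.natDegree_pow, hdeg] <;> omega
    set P := θ * ∏ i ∈ Finset.range m, (θ ^ p ^ (i + 1) - θ) with hP
    have hP0 : P ≠ 0 := mul_ne_zero hθ0 (Finset.prod_ne_zero_iff.2 fun i _ h => by
      have := hfac i
      rw [h, Polynomial.natDegree_zero] at this
      have : 0 < p ^ (i + 1) := pow_pos hpp.pos _
      omega)
    have hPdeg : P.natDegree < Fintype.card F := by
      refine lt_of_le_of_lt (Polynomial.natDegree_mul_le) ?_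
      refine lt_of_le_of_lt (Nat.add_le_add_left (Polynomial.natDegree_prod_le _ _) _) ?_
      simp only [Finset.sum_congr rfl fun i _ => hfac i, ← Finset.mul_sum, hdeg, hf]
      rcases Nat.eq_zero_or_pos m with h0 | h0
      · rw [h0]
        simp only [Finset.range_zero, Finset.sum_empty, mul_zero, add_zero]
        exact lt_of_lt_of_le (by omega : 3 < p) (Nat.le_self_pow f.2.ne' p)
      · have hs := sum_pow_le hp5 m
        have hx : 5 ≤ p ^ m := hp5.trans (Nat.le_self_pow h0.ne' p)
        have h2m : p ^ m * p ^ m ≤ p ^ (f : ℕ) := by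
          rw [← pow_add]
          exact Nat.pow_le_pow_right hpp.pos (by omega)
        nlinarith
    obtain ⟨L, hL⟩ : ∃ L : F, P.eval L ≠ 0 := by
      by_contra hcon
      simp only [not_exists, not_not] at hcon
      exact hP0 (Polynomial.eq_zero_of_natDegree_lt_card_of_eval_eq_zero P
        (Function.injective_id) hcon hPdeg)
    have hev : θ.eval L = L * (-L ^ 2 - 12) := by simp [θ]
    rw [hP, Polynomial.eval_mul, Polynomial.eval_prod, mul_ne_zero_iff, Finset.prod_ne_zero_iff] at hL
    refine ⟨L, hev ▸ hL.1, fun K hK => ?_⟩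
    by_contra hKT
    obtain ⟨d, hd1, hd2, hd⟩ := subring_data hf hKT
    have := hL.2 (d - 1) (Finset.mem_range.2 (by omega))
    rw [show d - 1 + 1 = d by omega] at this
    exact this (by rw [Polynomial.eval_sub, Polynomial.eval_pow, hev, hd _ hK, sub_self])

end

section
variable {F : Type*} [Field F]

local notation "T" => Matrix.SpecialLinearGroup.transvection
local notation "SL3" => Matrix.SpecialLinearGroup (Fin 3) F

theorem h01 : (0 : Fin 3) ≠ 1 := by decide
theorem h02 : (0 : Fin 3) ≠ 2 := by decide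
theorem h12 : (1 : Fin 3) ≠ 2 := by decide
theorem h10 : (1 : Fin 3) ≠ 0 := by decide
theorem h20 : (2 : Fin 3) ≠ 0 := by decide
theorem h21 : (2 : Fin 3) ≠ 1 := by decide

theorem comm_mem {H : Subgroup SL3} {i j k : Fin 3} (hij : i ≠ j) (hjk : j ≠ k) (hik : i ≠ k)
    (a b : F) (ha : T hij a ∈ H) (hb : T hjk b ∈ H) : T hik (a * b) ∈ H := by
  rw [← GL.commutator_transvection hij hjk hik, commutatorElement_def]
  exact H.mul_mem (H.mul_mem (H.mul_mem ha hb) (H.inv_mem ha)) (H.inv_mem hb)

theorem eq_top_of_six {H : Subgroup SL3} (h1 : ∀ a : F, T h01 a ∈ H) (h2 : ∀ a : F, T h02 a ∈ H)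
    (h3 : ∀ a : F, T h12 a ∈ H) (h4 : ∀ a : F, T h10 a ∈ H) (h5 : ∀ a : F, T h20 a ∈ H)
    (h6 : ∀ a : F, T h21 a ∈ H) : H = ⊤ := by
  refine GL.SL_eq_top_of_transvection_mem fun i j hij a => ?_
  fin_cases i <;> fin_cases j
  · exact absurd rfl hij
  · exact h1 a
  · exact h2 a
  · exact h4 a
  · exact absurd rfl hij
  · exact h3 a
  · exact h5 a
  · exact h6 a
  · exact absurd rfl hij

/-- The companion matrix of `(X - 1)^3`. -/
def W : SL3 := ⟨!![0, 0, 1; 1, 0, -3; 0, 1, 3], by simp [Matrix.det_fin_three]⟩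

/-- The element with eigenvalues `-1, 1, -1`. -/
def E (L : F) : SL3 :=
  ⟨!![-1, L, 6 + 3 * L; 0, 1, 6 - L; 0, 0, -1], by simp [Matrix.det_fin_three]⟩

/-- The base change conjugating `W` to `W⁻¹ * E L`. -/
def P (L : F) : SL3 :=
  ⟨!![1, -3, L - 12; 0, 3, 10; 0, -1, -3], by simp [Matrix.det_fin_three]; ring⟩

theorem W_coe : ((W : SL3) : Matrix (Fin 3) (Fin 3) F) = !![0, 0, 1; 1, 0, -3; 0, 1, 3] := rfl

theorem E_coe (L : F) : ((E L : SL3) : Matrix (Fin 3) (Fin 3) F) =
    !![-1, L, 6 + 3 * L; 0, 1, 6 - L; 0, 0, -1] := rfl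

theorem P_coe (L : F) : ((P L : SL3) : Matrix (Fin 3) (Fin 3) F) =
    !![1, -3, L - 12; 0, 3, 10; 0, -1, -3] := rfl

theorem W_mul_P (L : F) : W * P L * W = E L * P L := by
  refine Matrix.SpecialLinearGroup.coeMonoidHom_injective ?_
  simp only [map_mul, Matrix.SpecialLinearGroup.coeMonoidHom_apply, W_coe, E_coe, P_coe]
  ext i j
  fin_cases i <;> fin_cases j <;> simp [Matrix.mul_apply, Fin.sum_univ_three] <;> ring

theorem eq_top_of_param {L : F} (hne : L * (-L ^ 2 - 12) ≠ 0) (hgen : Generates (L * (-L ^ 2 - 12)))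
    (H : Subgroup SL3) (hW : W ∈ H) (hE : E L ∈ H) : H = ⊤ := by
  have hL : L ≠ 0 := fun h => hne (by rw [h, zero_mul])
  have eW10 : ∀ a : F, W * T h02 a = T h10 a * W := fun a => by
    refine Matrix.SpecialLinearGroup.coeMonoidHom_injective ?_
    simp only [map_mul, Matrix.SpecialLinearGroup.coeMonoidHom_apply, W_coe,
      Matrix.SpecialLinearGroup.transvection_coe]
    ext i j
    fin_cases i <;> fin_cases j <;> simp [Matrix.mul_apply, Fin.sum_univ_three] <;> ring
  have eW20 : ∀ a : F, W * T h12 a = T h20 a * W := fun a => by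
    refine Matrix.SpecialLinearGroup.coeMonoidHom_injective ?_
    simp only [map_mul, Matrix.SpecialLinearGroup.coeMonoidHom_apply, W_coe,
      Matrix.SpecialLinearGroup.transvection_coe]
    ext i j
    fin_cases i <;> fin_cases j <;> simp [Matrix.mul_apply, Fin.sum_univ_three] <;> ring
  have eW21 : ∀ a : F, W * T h10 a = T h21 a * T h20 (3 * a) * W := fun a => by
    refine Matrix.SpecialLinearGroup.coeMonoidHom_injective ?_
    simp only [map_mul, Matrix.SpecialLinearGroup.coeMonoidHom_apply, W_coe,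
      Matrix.SpecialLinearGroup.transvection_coe]
    ext i j
    fin_cases i <;> fin_cases j <;> simp [Matrix.mul_apply, Fin.sum_univ_three] <;> ring
  have eE : ∀ a : F, E L * T h12 a = T h02 (-(L * a)) * T h12 (-a) * E L := fun a => by
    refine Matrix.SpecialLinearGroup.coeMonoidHom_injective ?_
    simp only [map_mul, Matrix.SpecialLinearGroup.coeMonoidHom_apply, E_coe,
      Matrix.SpecialLinearGroup.transvection_coe]
    ext i j
    fin_cases i <;> fin_cases j <;> simp [Matrix.mul_apply, Fin.sum_univ_three] <;> ring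
  have eEE : E L * E L = T h02 (-L ^ 2 - 12) := by
    refine Matrix.SpecialLinearGroup.coeMonoidHom_injective ?_
    simp only [map_mul, Matrix.SpecialLinearGroup.coeMonoidHom_apply, E_coe,
      Matrix.SpecialLinearGroup.transvection_coe]
    ext i j
    fin_cases i <;> fin_cases j <;> simp [Matrix.mul_apply, Fin.sum_univ_three] <;> ring
  have c10 : ∀ a : F, T h02 a ∈ H → T h10 a ∈ H := fun a h =>
    (H.mul_mem_cancel_right hW).1 (eW10 a ▸ H.mul_mem hW h)
  have hneg : ∀ {i j : Fin 3} (h : i ≠ j) (a : F), T h a ∈ H → T h (-a) ∈ H := fun h a ha => by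
    rw [← Matrix.SpecialLinearGroup.transvection_inv]; exact H.inv_mem ha
  have hclosed : ∀ a b : F, T h02 a ∈ H → T h02 b ∈ H → T h02 (L * (a * b)) ∈ H := by
    intro a b ha hb
    have h1 := comm_mem h10 h02 h12 a b (c10 a ha) hb
    have h2 := (H.mul_mem_cancel_right hE).1 (eE (a * b) ▸ H.mul_mem hE h1)
    have h3 := hneg h02 _ ((H.mul_mem_cancel_right (hneg h12 _ h1)).1 h2)
    rwa [neg_neg] at h3
  let B : AddSubgroup F :=
    { carrier := {x | T h02 (x / L) ∈ H}
      zero_mem' := by
        show T h02 (0 / L) ∈ H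
        rw [zero_div, Matrix.SpecialLinearGroup.transvection_coeff_zero]; exact H.one_mem
      add_mem' := fun {x y} hx hy => by
        show T h02 ((x + y) / L) ∈ H
        rw [add_div, Matrix.SpecialLinearGroup.transvection_add]; exact H.mul_mem hx hy
      neg_mem' := fun {x} hx => by
        show T h02 (-x / L) ∈ H
        rw [neg_div]; exact hneg h02 _ hx }
  have hA : ∀ a : F, T h02 a ∈ H := by
    intro a
    have h : L * a ∈ B := eq_top_of_closed hgen hne B (fun x y hx hy => by
      show T h02 (x * y / L) ∈ H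
      have := hclosed _ _ hx hy
      rwa [show L * (x / L * (y / L)) = x * y / L by field_simp] at this) (by
      show T h02 (L * (-L ^ 2 - 12) / L) ∈ H
      rw [mul_div_cancel_left₀ _ hL, ← eEE]
      exact H.mul_mem hE hE) (L * a)
    have : T h02 (L * a / L) ∈ H := h
    rwa [mul_div_cancel_left₀ _ hL] at this
  have h10' : ∀ a, T h10 a ∈ H := fun a => c10 a (hA a)
  have h12' : ∀ a, T h12 a ∈ H := fun a => by
    have := comm_mem h10 h02 h12 a 1 (h10' a) (hA 1)
    rwa [mul_one] at this
  have h20' : ∀ a, T h20 a ∈ H := fun a =>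
    (H.mul_mem_cancel_right hW).1 (eW20 a ▸ H.mul_mem hW (h12' a))
  have h21' : ∀ a, T h21 a ∈ H := fun a =>
    (H.mul_mem_cancel_right (h20' _)).1 ((H.mul_mem_cancel_right hW).1 (eW21 a ▸ H.mul_mem hW (h10' a)))
  refine eq_top_of_six (fun a => ?_) hA h12' h10' h20' h21'
  have := comm_mem h02 h21 h01 a 1 (hA a) (h21' 1)
  rwa [mul_one] at this

/-- The pair used over the field with four elements. -/
def U4 : SL3 := ⟨!![1, 1, 0; 0, 1, 1; 0, 0, 1], by simp [Matrix.det_fin_three]⟩

/-- The conjugate used over the field with four elements. -/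
def V4 (w : F) : SL3 := ⟨!![1, 0, 0; 1, 1, 0; w, 1, 1], by simp [Matrix.det_fin_three]⟩

theorem eq_top_of_four [Fintype F] (hF : Fintype.card F = 4) (w : F) (hw : w * w = w + 1)
    (h2 : (2 : F) = 0) (H : Subgroup SL3) (hu : U4 ∈ H) (hv : V4 w ∈ H) : H = ⊤ := by
  set s := w + 1 with hs
  have r1 : w * s = 1 := by grind
  have r2 : s * w = 1 := by grind
  have r3 : s * s = w := by grind
  have r4 : w + 1 = s := rfl
  have r5 : 1 + w = s := by grind
  have r6 : (1 : F) + 1 = 0 := by grind
  have r7 : w + w = 0 := by grind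
  have r8 : s + s = 0 := by grind
  have r9 : w + s = 1 := by grind
  have r10 : s + w = 1 := by grind
  have r11 : 1 + s = w := by grind
  have r12 : s + 1 = w := by grind
  have cases4 : ∀ a : F, a = 0 ∨ a = 1 ∨ a = w ∨ a = s := by
    classical
    intro a
    by_contra hcon
    simp only [not_or] at hcon
    have h0 : w ≠ 0 := fun h => by rw [h] at r1; simp at r1
    have h1 : w ≠ 1 := fun h => by rw [h] at hw; grind
    have h3 : s ≠ 0 := fun h => by rw [h] at r1; simp at r1
    have h4 : s ≠ 1 := fun h => h0 (by grind)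
    have h5 : w ≠ s := fun h => by grind
    have : ({a, 0, 1, w, s} : Finset F).card = 5 := by
      rw [Finset.card_insert_of_notMem (by simp [hcon]), Finset.card_insert_of_notMem
        (by simp [Ne.symm h0, Ne.symm h3]), Finset.card_insert_of_notMem
        (by simp [Ne.symm h1, Ne.symm h4]), Finset.card_pair h5]
    have := Finset.card_le_univ ({a, 0, 1, w, s} : Finset F)
    omega
  let U : Matrix (Fin 3) (Fin 3) F := !![1, 1, 0; 0, 1, 1; 0, 0, 1]
  let V : Matrix (Fin 3) (Fin 3) F := !![1, 0, 0; 1, 1, 0; w, 1, 1]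
  have t02 : T h02 (1 : F) ∈ H := by
    have e : T h02 (1 : F) = U4 * U4 := by
      refine Subtype.ext ?_
      show 1 + Matrix.single _ _ _ = U * U
      simp [U, V, Matrix.mul_fin_three, hw, r1, r2, r3, r4, r5, r6, r7, r8, r9, r10, r11, r12]
      ext i j
      fin_cases i <;> fin_cases j <;> simp
    rw [e]
    repeat' apply H.mul_mem
    all_goals first | exact hu | exact hv
  have t20 : T h20 (1 : F) ∈ H := by
    have e : T h20 (1 : F) = V4 w * V4 w := by
      refine Subtype.ext ?_
      show 1 + Matrix.single _ _ _ = V * V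
      simp [U, V, Matrix.mul_fin_three, hw, r1, r2, r3, r4, r5, r6, r7, r8, r9, r10, r11, r12]
      ext i j
      fin_cases i <;> fin_cases j <;> simp
    rw [e]
    repeat' apply H.mul_mem
    all_goals first | exact hu | exact hv
  have t02w : T h02 (w : F) ∈ H := by
    have e : T h02 (w : F) = U4 * U4 * U4 * V4 w * V4 w * U4 * U4 * V4 w * U4 * U4 * V4 w * V4 w := by
      refine Subtype.ext ?_
      show 1 + Matrix.single _ _ _ = U * U * U * V * V * U * U * V * U * U * V * V
      simp [U, V, Matrix.mul_fin_three, hw, r1, r2, r3, r4, r5, r6, r7, r8, r9, r10, r11, r12]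
      ext i j
      fin_cases i <;> fin_cases j <;> simp
    rw [e]
    repeat' apply H.mul_mem
    all_goals first | exact hu | exact hv
  have t01 : T h01 (1 : F) ∈ H := by
    have e : T h01 (1 : F) = U4 * V4 w * V4 w * U4 * V4 w * U4 * V4 w * U4 * V4 w * V4 w * U4 * V4 w * V4 w * V4 w * U4 * V4 w := by
      refine Subtype.ext ?_
      show 1 + Matrix.single _ _ _ = U * V * V * U * V * U * V * U * V * V * U * V * V * V * U * V
      simp [U, V, Matrix.mul_fin_three, hw, r1, r2, r3, r4, r5, r6, r7, r8, r9, r10, r11, r12]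
      ext i j
      fin_cases i <;> fin_cases j <;> simp
    rw [e]
    repeat' apply H.mul_mem
    all_goals first | exact hu | exact hv
  have t12 : T h12 (1 : F) ∈ H := by
    have e : T h12 (1 : F) = V4 w * U4 * V4 w * V4 w * V4 w * U4 * V4 w * V4 w * U4 * V4 w * U4 * V4 w * U4 * V4 w * V4 w * U4 := by
      refine Subtype.ext ?_
      show 1 + Matrix.single _ _ _ = V * U * V * V * V * U * V * V * U * V * U * V * U * V * V * U
      simp [U, V, Matrix.mul_fin_three, hw, r1, r2, r3, r4, r5, r6, r7, r8, r9, r10, r11, r12]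
      ext i j
      fin_cases i <;> fin_cases j <;> simp
    rw [e]
    repeat' apply H.mul_mem
    all_goals first | exact hu | exact hv
  have t10 : T h10 (1 : F) ∈ H := by
    have e : T h10 (1 : F) = U4 * V4 w * V4 w * U4 * U4 * U4 * V4 w * V4 w * U4 * V4 w * V4 w * U4 * U4 * U4 := by
      refine Subtype.ext ?_
      show 1 + Matrix.single _ _ _ = U * V * V * U * U * U * V * V * U * V * V * U * U * U
      simp [U, V, Matrix.mul_fin_three, hw, r1, r2, r3, r4, r5, r6, r7, r8, r9, r10, r11, r12]
      ext i j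
      fin_cases i <;> fin_cases j <;> simp
    rw [e]
    repeat' apply H.mul_mem
    all_goals first | exact hu | exact hv
  have t21 : T h21 (1 : F) ∈ H := by
    have e : T h21 (1 : F) = U4 * U4 * U4 * V4 w * V4 w * U4 * V4 w * V4 w * U4 * U4 * U4 * V4 w * V4 w * U4 := by
      refine Subtype.ext ?_
      show 1 + Matrix.single _ _ _ = U * U * U * V * V * U * V * V * U * U * U * V * V * U
      simp [U, V, Matrix.mul_fin_three, hw, r1, r2, r3, r4, r5, r6, r7, r8, r9, r10, r11, r12]
      ext i j
      fin_cases i <;> fin_cases j <;> simp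
    rw [e]
    repeat' apply H.mul_mem
    all_goals first | exact hu | exact hv
  have full : ∀ {i j : Fin 3} (h : i ≠ j), T h (1 : F) ∈ H → T h w ∈ H → ∀ a, T h a ∈ H := by
    intro i j h ha hb a
    rcases cases4 a with rfl | rfl | rfl | rfl
    · rw [Matrix.SpecialLinearGroup.transvection_coeff_zero]; exact H.one_mem
    · exact ha
    · exact hb
    · rw [← r4, Matrix.SpecialLinearGroup.transvection_add]; exact H.mul_mem hb ha
  have b01 : T h01 w ∈ H := by simpa using comm_mem h02 h21 h01 w 1 t02w t21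
  have b12 : T h12 w ∈ H := by simpa using comm_mem h10 h02 h12 1 w t10 t02w
  have b21 : T h21 w ∈ H := by simpa using comm_mem h20 h01 h21 1 w t20 b01
  have b10 : T h10 w ∈ H := by simpa using comm_mem h12 h20 h10 w 1 b12 t20
  have b20 : T h20 w ∈ H := by simpa using comm_mem h21 h10 h20 w 1 b21 t10
  exact eq_top_of_six (full h01 t01 b01) (full h02 t02 t02w) (full h12 t12 b12) (full h10 t10 b10)
    (full h20 t20 b20) (full h21 t21 b21)

end

/-- Let F be a finite field. Then SL_3(F) is generated by two conjugate regular unipotent elements: there are u with u − 1 nilpotent and (u − 1)² ≠ 0, and g, such that u and g u g⁻¹ generate SL_3(F). -/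
theorem result {F : Type*} [Field F] [Fintype F] :
    ∃ u g : Matrix.SpecialLinearGroup (Fin 3) F, IsNilpotent ((u : Matrix (Fin 3) (Fin 3) F) - 1) ∧ ((u : Matrix (Fin 3) (Fin 3) F) - 1) ^ (3 - 1) ≠ 0 ∧
      Subgroup.closure ({u, g * u * g⁻¹} : Set (Matrix.SpecialLinearGroup (Fin 3) F)) = ⊤ := by
  classical
  by_cases h4 : Fintype.card F = 4
  · have hc : CharP F 2 := charP_of_card_eq_prime_pow (R := F) (f := 2) (by rw [h4]; norm_num)
    have h2 : (2 : F) = 0 := CharTwo.two_eq_zero
    obtain ⟨w, hw0, hw1⟩ : ∃ w : F, w ≠ 0 ∧ w ≠ 1 := by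
      by_contra hcon
      simp only [not_exists, not_and, not_not] at hcon
      have hsub : (Finset.univ : Finset F) ⊆ {0, 1} := fun x _ => by
        rcases eq_or_ne x 0 with h | h
        · simp [h]
        · simp [hcon x h]
      have := (Finset.card_le_card hsub).trans Finset.card_le_two
      rw [Finset.card_univ] at this
      omega
    have hw : w * w = w + 1 := by
      have h := FiniteField.pow_card_sub_one_eq_one w hw0
      rw [h4] at h
      norm_num at h
      have : (w - 1) * (w * w + w + 1) = 0 := by linear_combination h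
      rcases mul_eq_zero.1 this with h' | h'
      · exact absurd (sub_eq_zero.1 h') hw1
      · linear_combination h' - (w + 1) * h2
    let g : Matrix.SpecialLinearGroup (Fin 3) F := ⟨!![0, 0, 1; 0, 1, 0; 1, w, 0], by
      simp [Matrix.det_fin_three]; linear_combination -h2⟩
    have hg : g * U4 * g⁻¹ = V4 w := by
      rw [mul_inv_eq_iff_eq_mul]
      refine Subtype.ext ?_
      show (!![0, 0, 1; 0, 1, 0; 1, w, 0] : Matrix (Fin 3) (Fin 3) F) * !![1, 1, 0; 0, 1, 1; 0, 0, 1] =
        !![1, 0, 0; 1, 1, 0; w, 1, 1] * !![0, 0, 1; 0, 1, 0; 1, w, 0]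
      ext i j
      fin_cases i <;> fin_cases j <;> simp [Matrix.mul_apply, Fin.sum_univ_three] <;> grind
    refine ⟨U4, g, ⟨3, ?_⟩, ?_, ?_⟩
    · ext i j
      fin_cases i <;> fin_cases j <;>
        simp [U4, pow_succ, Matrix.mul_apply, Fin.sum_univ_three]
    · intro h
      have := congrFun (congrFun h 0) 2
      simp [U4, pow_succ, Matrix.mul_apply, Fin.sum_univ_three] at this
    · rw [hg]
      exact eq_top_of_four h4 w hw h2 _ (Subgroup.subset_closure (by simp))
        (Subgroup.subset_closure (by simp))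
  · obtain ⟨L, hne, hgen⟩ := exists_parameter h4
    refine ⟨W, P L, ⟨3, ?_⟩, ?_, ?_⟩
    · ext i j
      fin_cases i <;> fin_cases j <;>
        simp [W, pow_succ, Matrix.mul_apply, Fin.sum_univ_three] <;> ring
    · intro h
      have := congrFun (congrFun h 0) 0
      simp [W, pow_succ, Matrix.mul_apply, Fin.sum_univ_three] at this
    · have hv : P L * W * (P L)⁻¹ = W⁻¹ * E L := by
        rw [mul_inv_eq_iff_eq_mul, mul_assoc, eq_inv_mul_iff_mul_eq, ← mul_assoc, W_mul_P]
      rw [hv]
      refine eq_top_of_param hne hgen _ (Subgroup.subset_closure (by simp)) ?_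
      have := Subgroup.mul_mem _
        (Subgroup.subset_closure (show W ∈ ({W, W⁻¹ * E L} : Set (Matrix.SpecialLinearGroup (Fin 3) F)) by simp))
        (Subgroup.subset_closure (show W⁻¹ * E L ∈ ({W, W⁻¹ * E L} : Set (Matrix.SpecialLinearGroup (Fin 3) F)) by simp))
      rwa [mul_inv_cancel_left] at this

end Cfsg.Agent.S2278
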