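import Cfsg.Statements.S2286
import Cfsg.Agent.Lib.SL2Presentation.Even

set_option autoImplicit false
open Cfsg

namespace Cfsg.Agent.S2286

/-- For every finite field F, SL_2(F) and PSL_2(F) have presentations with 3 generators and at most 9 relations; when F has characteristic 2, PSL_2(F) has a presentation with 3 generators and at most 5 relations. -/
theorem result {F : Type*} [Field F] [Fintype F] :
    (∃ rels : Finset (FreeGroup (Fin 3)), rels.card ≤ 9 ∧ Nonempty (PresentedGroup (↑rels : Set (FreeGroup (Fin 3))) ≃* Matrix.SpecialLinearGroup (Fin 2) F)) ∧ (∃ rels : Finset (FreeGroup (Fin 3)), rels.card ≤ 9 ∧ Nonempty (PresentedGroup (↑rels : Set (FreeGroup (Fin 3))) ≃* Matrix.ProjectiveSpecialLinearGroup (Fin 2) F)) ∧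
    (CharP F 2 → ∃ rels : Finset (FreeGroup (Fin 3)), rels.card ≤ 5 ∧ Nonempty (PresentedGroup (↑rels : Set (FreeGroup (Fin 3))) ≃* Matrix.ProjectiveSpecialLinearGroup (Fin 2) F)) := by
  open Cfsg.Agent.SL2Presentation in
  obtain ⟨p, hc⟩ := CharP.exists F
  have hp : Fact p.Prime := ⟨CharP.char_is_prime F p⟩
  by_cases h2 : p = 2
  · subst h2
    obtain ⟨rels, hcard, ⟨e⟩⟩ := presentation_char_two (F := F)
    obtain ⟨e'⟩ := nonempty_equiv_psl (F := F)
    exact ⟨⟨rels, hcard.trans (by norm_num), ⟨e⟩⟩, ⟨rels, hcard.trans (by norm_num), ⟨e.trans e'⟩⟩,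
      fun _ => ⟨rels, hcard, ⟨e.trans e'⟩⟩⟩
  · letI := ZMod.algebra F p
    obtain ⟨h1, h3⟩ := presentation_odd (F := F) (p := p) h2
    exact ⟨h1, h3, fun h => absurd (CharP.eq F hc h) h2⟩

end Cfsg.Agent.S2286
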