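import Cfsg.Statements.S3225
import Mathlib
set_option linter.style.haveILetI false
-- import your own Cfsg.Agent.* helpers here

set_option autoImplicit false
open Cfsg

namespace Cfsg.Agent.S3225

lemma two_dvd_index_false {G : Type*} [Group G] [Finite G] (hG : ∀ H : Subgroup G, H.index ≠ 2)
    (f : G →* Multiplicative (ZMod 2)) (x : G) : f x = 1 := by
  by_contra h
  have hr : f.range = ⊤ := by
    rcases Subgroup.eq_bot_or_eq_top_of_prime_card (hp := ⟨by simp; norm_num⟩) f.range with h' | h'
    · exact absurd (Subgroup.mem_bot.1 (h' ▸ (⟨x, rfl⟩ : f x ∈ f.range))) h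
    · exact h'
  apply hG f.ker
  rw [Subgroup.index_ker, hr]
  simp


/-- Let G be a finite group of even order with no subgroup of index 2, S a Sylow 2-subgroup of G and M a subgroup of index 2 in S such that, for some n ≥ 1, every element of S outside M has order greater than 2^(n−1). Then every element of S of order 2ⁿ is conjugate in G to an element of M. -/
theorem result {G : Type*} [Group G] [Finite G] (hev : Even (Nat.card G))
    (hG : ∀ H : Subgroup G, H.index ≠ 2) (S : Sylow 2 G) (M : Subgroup G) (hMS : M ≤ (S : Subgroup G)) (hM : M.relIndex (S : Subgroup G) = 2)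
    (n : ℕ) (hn : 1 ≤ n) (hord : ∀ y ∈ (S : Subgroup G), y ∉ M → 2 ^ (n - 1) < orderOf y)
    (x : G) (hx : x ∈ (S : Subgroup G)) (hxn : orderOf x = 2 ^ n) :
    ∃ g : G, g * x * g⁻¹ ∈ M := by
  classical
  by_contra hcon
  push Not at hcon
  have hidx : (M.subgroupOf (S : Subgroup G)).index = 2 := hM
  haveI : (M.subgroupOf (S : Subgroup G)).Normal := Subgroup.normal_of_index_eq_two hidx
  have hcard : Nat.card (↥(S : Subgroup G) ⧸ M.subgroupOf (S : Subgroup G)) = 2 := by
    rw [← Subgroup.index_eq_card, hidx]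
  haveI : IsCyclic (↥(S : Subgroup G) ⧸ M.subgroupOf (S : Subgroup G)) :=
    isCyclic_of_prime_card hcard
  let e : (↥(S : Subgroup G) ⧸ M.subgroupOf (S : Subgroup G)) ≃* Multiplicative (ZMod 2) :=
    mulEquivOfCyclicCardEq (by rw [hcard]; simp)
  let φ : ↥(S : Subgroup G) →* Multiplicative (ZMod 2) :=
    e.toMonoidHom.comp (QuotientGroup.mk' _)
  have hφ : ∀ y : ↥(S : Subgroup G), φ y = if (y : G) ∈ M then 1 else Multiplicative.ofAdd 1 := by
    intro y
    split_ifs with hy
    · have : QuotientGroup.mk' (M.subgroupOf (S : Subgroup G)) y = 1 :=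
        (QuotientGroup.eq_one_iff y).2 hy
      show e (QuotientGroup.mk' _ y) = 1
      rw [this, map_one]
    · have hne : φ y ≠ 1 := by
        intro h1
        apply hy
        have : QuotientGroup.mk' (M.subgroupOf (S : Subgroup G)) y = 1 := by
          apply e.injective
          rw [map_one]; exact h1
        exact (QuotientGroup.eq_one_iff y).1 this
      revert hne
      generalize φ y = z
      revert z
      decide
  haveI : Fintype (Quotient (MulAction.orbitRel (Subgroup.zpowers x) (G ⧸ (S : Subgroup G)))) :=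
    Fintype.ofFinite _
  have key := MonoidHom.transfer_eq_prod_quotient_orbitRel_zpowers_quot φ x
  rw [two_dvd_index_false hG (MonoidHom.transfer φ) x] at key
  have hterm : ∀ q : Quotient (MulAction.orbitRel (Subgroup.zpowers x) (G ⧸ (S : Subgroup G))),
      φ ⟨q.out.out⁻¹ * x ^ Function.minimalPeriod (x • ·) q.out * q.out.out,
        QuotientGroup.out_conj_pow_minimalPeriod_mem (S : Subgroup G) x q.out⟩ =
      Multiplicative.ofAdd (1 : ZMod 2) ^ Function.minimalPeriod (x • ·) q.out := by
    intro q
    rw [hφ]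
    obtain ⟨r, hr⟩ : ∃ r : ℕ, r = Function.minimalPeriod (x • ·) q.out := ⟨_, rfl⟩
    show (if (q.out.out⁻¹ * x ^ Function.minimalPeriod (x • ·) q.out * q.out.out) ∈ M then (1 : Multiplicative (ZMod 2)) else Multiplicative.ofAdd 1) = Multiplicative.ofAdd 1 ^ Function.minimalPeriod (x • ·) q.out
    simp only [← hr]
    have hmem := QuotientGroup.out_conj_pow_minimalPeriod_mem (S : Subgroup G) x q.out
    rw [← hr] at hmem
    have hdvd : r ∣ 2 ^ n := by
      have : Function.IsPeriodicPt (x • ·) (2 ^ n) q.out := by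
        show (x • ·)^[2 ^ n] q.out = q.out
        rw [smul_iterate, ← hxn, pow_orderOf_eq_one]
        simp
      rw [hr]; exact this.minimalPeriod_dvd
    obtain ⟨s, hs, hrs⟩ := (Nat.dvd_prime_pow Nat.prime_two).1 hdvd
    rcases Nat.eq_zero_or_pos s with h0 | h0
    · have hr1 : r = 1 := by rw [hrs, h0]; simp
      rw [hr1, pow_one, pow_one, if_neg]
      have := hcon (q.out.out⁻¹)
      simpa using this
    · have hev : (2 : ℕ) ∣ r := by rw [hrs]; exact dvd_pow_self 2 (by omega)
      obtain ⟨t, ht⟩ := hev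
      have hp : Multiplicative.ofAdd (1 : ZMod 2) ^ r = 1 := by
        rw [ht, pow_mul, show Multiplicative.ofAdd (1 : ZMod 2) ^ 2 = 1 by decide, one_pow]
      rw [hp, if_pos]
      by_contra hnM
      have h1 := hord _ hmem hnM
      have hc : q.out.out⁻¹ * x ^ r * q.out.out = MulAut.conj (q.out.out⁻¹) (x ^ r) := by simp
      rw [hc, MulEquiv.orderOf_eq, hrs,
        orderOf_pow_of_dvd (by positivity) (by rw [hxn]; exact pow_dvd_pow 2 hs), hxn,
        Nat.pow_div hs (by norm_num)] at h1
      have := Nat.pow_le_pow_right (show 0 < 2 by norm_num) (show n - s ≤ n - 1 by omega)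
      omega
  rw [Finset.prod_congr rfl (fun q _ => hterm q), Finset.prod_pow_eq_pow_sum,
    ← Subgroup.index_eq_sum_minimalPeriod] at key
  obtain ⟨k, hk⟩ : Odd (S : Subgroup G).index :=
    Nat.odd_iff.2 (Nat.two_dvd_ne_zero.1 S.not_dvd_index)
  rw [hk, pow_succ, pow_mul, show Multiplicative.ofAdd (1 : ZMod 2) ^ 2 = 1 by decide, one_pow, one_mul] at key
  exact absurd key (by decide)

end Cfsg.Agent.S3225
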