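import Cfsg.Statements.S0345
import Mathlib
import Cfsg.Agent.Lib.Perm.ZassenhausEven
import Cfsg.Agent.Lib.ZassenhausOdd.Basic
-- import your own Cfsg.Agent.* helpers here

set_option autoImplicit false
open Cfsg

namespace Cfsg.Agent.S0345

/-- In a finite simple Zassenhaus group the stabiliser `H` of two points `a ≠ b` is cyclic, and some involution
interchanging `a` and `b` inverts every element of `H`. -/
theorem result {G Ω : Type*} [Group G] [Finite G] [MulAction G Ω] [Finite Ω]
    (hZ : Cfsg.IsZassenhausGroup G Ω) [IsSimpleGroup G]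
    {a b : Ω} (hab : a ≠ b) :
    IsCyclic ↥(MulAction.stabilizer G a ⊓ MulAction.stabilizer G b) ∧
      ∃ v : G, orderOf v = 2 ∧ v • a = b ∧ v • b = a ∧ ∀ h ∈ MulAction.stabilizer G a ⊓ MulAction.stabilizer G b, v * h * v⁻¹ = h⁻¹ := by
  classical
  have := Fintype.ofFinite Ω
  obtain ⟨v, hv, hva, hvb⟩ := Cfsg.Agent.Perm.Zass.exists_swap hZ hab
  rcases Nat.even_or_odd (Nat.card ↥(MulAction.stabilizer G a ⊓ MulAction.stabilizer G b)) with heven | hodd
  · obtain ⟨hc, hinv⟩ := Cfsg.Agent.Perm.ZassEven.twoStab_cyclic_inverted hZ hab heven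
    exact ⟨hc, v, hv, hva, hvb, (hinv v hva hvb).2⟩
  · have hG : 2 < Nat.card G := by
      rw [Cfsg.Agent.ZassenhausOdd.card_group hZ hab]
      calc 2 < 3 * (1 * 1) := by norm_num
        _ ≤ _ := Nat.mul_le_mul (Cfsg.Agent.Perm.Zass.three_le hZ)
          (Nat.mul_le_mul (by have := Cfsg.Agent.Perm.Zass.three_le hZ; omega) Nat.card_pos)
    have hnc : ¬ ∀ x y : G, x * y = y * x := by
      intro hc
      have := hZ.1
      obtain ⟨g, hg, p, q, hpq, hgp, hgq⟩ := hZ.2.2.2.1
      refine hg (FaithfulSMul.eq_of_smul_eq_smul (α := Ω) fun x => ?_)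
      rw [one_smul]
      rcases eq_or_ne x p with rfl | hxp
      · exact hgp
      obtain ⟨k, hk, -⟩ := Cfsg.Agent.Perm.Zass.two_trans hZ hpq hxp
      rw [← hk, ← mul_smul, hc g k, mul_smul, hgp]
    have hperf : commutator G = ⊤ :=
      (IsSimpleGroup.eq_bot_or_eq_top_of_normal _ inferInstance).resolve_left fun h => hnc fun x y => by
        rw [← commutatorElement_eq_one_iff_mul_comm, ← Subgroup.mem_bot, ← h]
        exact Subgroup.commutator_mem_commutator (Subgroup.mem_top x) (Subgroup.mem_top y)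
    have hinv := Cfsg.Agent.ZassenhausOdd.twoStab_inverted hZ hab hperf hodd hva
      (Cfsg.Agent.Perm.Zass.sq_eq_one_of_order hv)
    refine ⟨?_, v, hv, hva, hvb, hinv⟩
    haveI : IsZGroup ↥(MulAction.stabilizer G a ⊓ MulAction.stabilizer G b) :=
      Cfsg.Agent.ZassenhausOdd.isZGroup_twoStab hZ hab hodd
    haveI : IsMulCommutative ↥(MulAction.stabilizer G a ⊓ MulAction.stabilizer G b) := by
      refine ⟨⟨fun x y => Subtype.ext ?_⟩⟩
      have e1 := hinv _ (mul_mem x.2 y.2)
      rw [show v * ((x : G) * y) * v⁻¹ = (v * x * v⁻¹) * (v * y * v⁻¹) by group,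
        hinv _ x.2, hinv _ y.2, ← mul_inv_rev] at e1
      exact (inv_injective e1).symm
    open scoped IsMulCommutative in infer_instance

end Cfsg.Agent.S0345
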