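import Cfsg.Statements.S0742
import Mathlib
import Cfsg.Agent.Lib.Perm.Coords
import Cfsg.Agent.Lib.Perm.Zassenhaus
import Cfsg.Agent.Lib.Perm.Transitive

set_option autoImplicit false
open Cfsg

namespace Cfsg.Agent.S0742

open Finset in
/-- A subgroup `M` of index two in the multiplicative group cannot have `M ∪ {0}` closed under `+1`. -/
private theorem exists_add_one_notMem {F : Type} [Field F] [Fintype F] [DecidableEq F] (M : Finset F)
    (h1 : (1 : F) ∈ M) (h0 : (0 : F) ∉ M) (hneg : (-1 : F) ∈ M)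
    (hmul : ∀ x ∈ M, ∀ y ∈ M, x * y ∈ M) (hinv : ∀ x ∈ M, x⁻¹ ∈ M)
    (hc : 2 * M.card + 1 = Fintype.card F) : ∃ y ∈ M, y + 1 ∉ M ∧ y + 1 ≠ 0 := by
  by_contra hcon
  push Not at hcon
  let L : AddSubgroup F :=
    { carrier := {x | x = 0 ∨ x ∈ M}
      zero_mem' := Or.inl rfl
      add_mem' := by
        rintro x y (rfl | hx) (rfl | hy)
        · exact Or.inl (add_zero 0)
        · exact Or.inr (by rwa [zero_add])
        · exact Or.inr (by rwa [add_zero])
        · have hy0 : y ≠ 0 := fun e => h0 (e ▸ hy)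
          by_cases hs : x * y⁻¹ + 1 ∈ M
          · refine Or.inr ?_
            rw [show x + y = (x * y⁻¹ + 1) * y by field_simp]
            exact hmul _ hs _ hy
          · refine Or.inl ?_
            rw [show x + y = (x * y⁻¹ + 1) * y by field_simp, hcon _ (hmul _ hx _ (hinv _ hy)) hs, zero_mul]
      neg_mem' := by
        rintro x (rfl | hx)
        · exact Or.inl neg_zero
        · exact Or.inr (by rw [← neg_one_mul]; exact hmul _ hneg _ hx) }
  have hL : Nat.card L = M.card + 1 := by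
    rw [← card_insert_of_notMem h0, ← Nat.card_eq_finsetCard]
    exact Nat.card_congr (Equiv.subtypeEquivRight fun x => by simp [L])
  have h := AddSubgroup.card_addSubgroup_dvd_card L
  rw [hL, Nat.card_eq_fintype_card, ← hc, show 2 * M.card + 1 = (M.card + 1) + M.card by ring,
    Nat.dvd_add_right dvd_rfl] at h
  have hpos : 0 < M.card := card_pos.2 ⟨1, h1⟩
  have := Nat.le_of_dvd hpos h
  omega

open MulAction Finset Cfsg.Agent.Perm in
/-- The core: coordinates in which the two-point stabiliser is the group of squares. -/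
private theorem core {G Ω : Type*} [Group G] [Finite G] [MulAction G Ω] [Fintype Ω]
    (hZ : Cfsg.IsZassenhausGroup G Ω) {a b : Ω} (hab : a ≠ b)
    (heven : Even (Nat.card ↥(stabilizer G a ⊓ stabilizer G b)))
    (hd : 2 * Nat.card ↥(stabilizer G a ⊓ stabilizer G b) = Fintype.card Ω - 2) :
    ∃ (K : Type) (_ : Field K) (_ : Fintype K), (2 : K) ≠ 0 ∧ Fintype.card Ω = Fintype.card K + 1 ∧
      Nonempty (G ≃* Matrix.ProjectiveSpecialLinearGroup (Fin 2) K) := by
  classical
  have := Fintype.ofFinite G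
  have h3 := Zass.three_le hZ
  let d := Nat.card ↥(stabilizer G a ⊓ stabilizer G b)
  let Hf : Finset G := univ.filter fun g => g • a = a ∧ g • b = b
  have hHf : Hf.card = d := by
    rw [← Fintype.card_subtype, ← Nat.card_eq_fintype_card]
    rfl
  obtain ⟨z, hz, hza, hzb⟩ := Zass.exists_involution_of_even heven
  have hz1 : z ≠ 1 := fun e => by rw [e, orderOf_one] at hz; omega
  -- every element swapping `a` and `b` is an involution with two fixed points
  let S0 : Finset G := univ.filter fun g : G =>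
    (orderOf g = 2 ∧ ∃ x y : Ω, x ≠ y ∧ g • x = x ∧ g • y = y) ∧ g • a = b
  have hS0 : 2 * S0.card = Fintype.card Ω - 2 := by
    convert Zass.two_mul_card_swapping hZ hab heven
  let Sw : Finset G := univ.filter fun g => g • a = b ∧ g • b = a
  have hsub : S0 ⊆ Sw := by
    intro g hg
    simp only [S0, Sw, mem_filter, mem_univ, true_and] at hg ⊢
    refine ⟨hg.2, ?_⟩
    rw [← hg.2, Zass.smul_smul_of_sq (Zass.sq_eq_one_of_order hg.1.1)]
  obtain ⟨s₀, hs₀⟩ := card_pos.1 (show 0 < S0.card by omega)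
  have hSw : Sw.card = d := by
    obtain ⟨h1, h2⟩ := (mem_filter.1 (hsub hs₀)).2
    have hS := Zass.sq_eq_one_of_order (mem_filter.1 hs₀).2.1.1
    rw [← hHf]
    refine card_bij' (fun g _ => s₀ * g) (fun g _ => s₀ * g) ?_ ?_ ?_ ?_
    · intro g hg
      simp only [Sw, Hf, mem_filter, mem_univ, true_and] at hg ⊢
      exact ⟨by rw [mul_smul, hg.1, h2], by rw [mul_smul, hg.2, h1]⟩
    · intro g hg
      simp only [Sw, Hf, mem_filter, mem_univ, true_and] at hg ⊢
      exact ⟨by rw [mul_smul, hg.1, h1], by rw [mul_smul, hg.2, h2]⟩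
    · intro g _; simp [← mul_assoc, hS]
    · intro g _; simp [← mul_assoc, hS]
  have heq : S0 = Sw := eq_of_subset_of_card_le hsub (by omega)
  have hswap : ∀ g : G, g • a = b → g • b = a → g * g = 1 ∧ ∃ e, e ≠ a ∧ e ≠ b ∧ g • e = e := by
    intro g hga hgb
    have hg : g ∈ S0 := heq ▸ mem_filter.2 ⟨mem_univ _, hga, hgb⟩
    obtain ⟨⟨h2, x, y, hxy, hx, hy⟩, -⟩ := (mem_filter.1 hg).2
    exact ⟨Zass.sq_eq_one_of_order h2, x, fun e => hab (by rw [e, hga] at hx; exact hx.symm),
      fun e => hab (by rw [e, hgb] at hx; exact hx), hx⟩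
  obtain ⟨h0a, h0b⟩ := (mem_filter.1 (hsub hs₀)).2
  obtain ⟨hss, e, hea, heb, hse⟩ := hswap s₀ h0a h0b
  have hinv : ∀ h : G, h • a = a → h • b = b → s₀ * h * s₀ = h⁻¹ := by
    intro h ha hb
    have h1 := (hswap (s₀ * h) (by rw [mul_smul, ha, h0a]) (by rw [mul_smul, hb, h0b])).1
    rw [eq_inv_iff_mul_eq_one, mul_assoc]
    exact h1
  have hHc : ∀ h h' : G, h • a = a → h • b = b → h' • a = a → h' • b = b → h * h' = h' * h := by
    intro h h' ha hb ha' hb'
    have e1 := hinv (h * h') (by rw [mul_smul, ha', ha]) (by rw [mul_smul, hb', hb])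
    rw [show s₀ * (h * h') * s₀ = (s₀ * h * s₀) * (s₀ * h' * s₀) by
      calc s₀ * (h * h') * s₀ = s₀ * h * 1 * h' * s₀ := by group
        _ = s₀ * h * (s₀ * s₀) * h' * s₀ := by rw [hss]
        _ = _ := by group, hinv h ha hb, hinv h' ha' hb', ← mul_inv_rev] at e1
    exact (inv_injective e1).symm
  obtain ⟨K, hKa, hreg, hKc, hnorm⟩ := Zass.exists_kernel_of_even hZ hab heven
  have hKcard : Nat.card K = Fintype.card Ω - 1 := by
    rw [Nat.card_congr (Equiv.ofBijective (fun k : K => (⟨(k : G) • b, fun h =>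
        hab.symm (smul_left_cancel _ (h.trans (hKa _ k.2).symm))⟩ : {x : Ω // x ≠ a})) ⟨?_, ?_⟩),
      Nat.card_eq_fintype_card, Fintype.card_subtype_compl, Fintype.card_subtype_eq]
    · intro k k' h
      have hk' : (k' : G) • b ≠ a := fun h => hab.symm (smul_left_cancel _ (h.trans (hKa _ k'.2).symm))
      obtain ⟨v, -, hv⟩ := hreg ((k' : G) • b) hk'
      exact (hv k (congrArg Subtype.val h)).trans (hv k' rfl).symm
    · intro x
      obtain ⟨v, hv, -⟩ := hreg x.1 x.2
      exact ⟨v, Subtype.ext hv⟩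
  obtain ⟨F, _, _, pt, hpa, hpb, hpe, hT, hM⟩ := Coords.exists_coords hab.symm heb hea K hKa hreg hKc
    (fun h ha _ => hnorm h ha) hHc (by
      intro L hL hLinv
      refine (em (L = ⊥)).imp id fun hne => ?_
      obtain ⟨l, hl, hl1⟩ := L.bot_or_exists_ne_one.resolve_left hne
      have hinj : Set.InjOn (fun h : G => h * l * h⁻¹) Hf := by
        intro h hh h' hh' hhh
        simp only [Hf, coe_filter, mem_univ, true_and, Set.mem_ofPred_eq] at hh hh'
        have hlb : l • b ≠ b := by
          intro hb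
          obtain ⟨v, -, hv⟩ := hreg b hab.symm
          exact hl1 (congrArg Subtype.val ((hv ⟨l, hL hl⟩ hb).trans (hv 1 (one_smul G b)).symm))
        have hla : l • b ≠ a := fun h => hab.symm (smul_left_cancel _ (h.trans (hKa l (hL hl)).symm))
        have e' : h • l • b = h' • l • b := by
          have := congrArg (fun g : G => g • b) hhh
          simpa only [mul_smul, inv_smul_eq_iff.2 hh.2.symm, inv_smul_eq_iff.2 hh'.2.symm] using this
        have := Zass.eq_one_of_three hZ hab hlb.symm hla.symm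
          (show (h'⁻¹ * h) • a = a by rw [mul_smul, hh.1, inv_smul_eq_iff, hh'.1])
          (by rw [mul_smul, hh.2, inv_smul_eq_iff, hh'.2]) (by rw [mul_smul, e', inv_smul_smul])
        exact (inv_mul_eq_one.1 this).symm
      have hc : d + 1 ≤ Nat.card L := by
        rw [← hHf, Nat.card_eq_fintype_card, Fintype.card_subtype, ← card_image_of_injOn hinj]
        refine le_trans (card_insert_of_notMem (a := (1 : G)) ?_).ge (card_le_card fun g hg => ?_)
        · intro h1
          obtain ⟨h, -, hh⟩ := mem_image.1 h1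
          exact hl1 (by simpa using hh)
        · rcases mem_insert.1 hg with rfl | hg
          · simp
          · obtain ⟨h, hh, rfl⟩ := mem_image.1 hg
            simp only [Hf, mem_filter, mem_univ, true_and] at hh ⊢
            exact hLinv h hh.1 hh.2 l hl
      have hdvd := Subgroup.card_dvd_of_le hL
      rw [hKcard] at hdvd
      refine Subgroup.eq_of_le_of_card_ge hL ?_
      obtain ⟨c, hc'⟩ := hdvd
      have hdef : Fintype.card Ω - 1 = 2 * d + 1 := by omega
      rw [hKcard, hdef]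
      rw [hdef] at hc'
      rcases c with _ | _ | c
      · omega
      · omega
      · nlinarith)
  have hcardF : Fintype.card Ω = Fintype.card F + 1 := by
    rw [← Fintype.card_option]; exact (Fintype.card_congr pt).symm
  -- the multipliers
  let M : Finset F := univ.filter fun x : F => ∃ h : G, h • a = a ∧ h • b = b ∧ h • e = pt (some x)
  have hmult : ∀ h : G, h • a = a → h • b = b →
      ∃ m : F, m ∈ M ∧ m ≠ 0 ∧ ∀ x, h • pt (some x) = pt (some (m * x)) := by
    intro h ha hb
    obtain ⟨m, hm, hmx⟩ := hM h ha hb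
    exact ⟨m, mem_filter.2 ⟨mem_univ _, h, ha, hb, by rw [← hpe, hmx, mul_one]⟩, hm, hmx⟩
  have hMspec : ∀ m ∈ M, m ≠ 0 ∧ ∃ h : G, h • a = a ∧ h • b = b ∧ ∀ x, h • pt (some x) = pt (some (m * x)) := by
    intro m hm
    obtain ⟨-, h, ha, hb, he⟩ := mem_filter.1 hm
    obtain ⟨m', hm', hmx⟩ := hM h ha hb
    have : m' = m := by
      have h1 := hmx 1
      rw [hpe, he, mul_one] at h1
      exact (Option.some_injective _ (pt.injective h1)).symm
    subst this
    exact ⟨hm', h, ha, hb, hmx⟩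
  have hmulM : ∀ x ∈ M, ∀ y ∈ M, x * y ∈ M := by
    intro x hx y hy
    obtain ⟨-, h, ha, hb, hh⟩ := hMspec x hx
    obtain ⟨-, h', ha', hb', hh'⟩ := hMspec y hy
    exact mem_filter.2 ⟨mem_univ _, h * h', by rw [mul_smul, ha', ha], by rw [mul_smul, hb', hb],
      by rw [mul_smul, ← hpe, hh', hh, mul_one]⟩
  have hone : (1 : F) ∈ M := mem_filter.2 ⟨mem_univ _, 1, one_smul G a, one_smul G b, by rw [one_smul, hpe]⟩
  have hinvM : ∀ x ∈ M, x⁻¹ ∈ M := by
    intro x hx
    obtain ⟨hx0, h, ha, hb, hh⟩ := hMspec x hx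
    refine mem_filter.2 ⟨mem_univ _, h⁻¹, inv_smul_eq_iff.2 ha.symm, inv_smul_eq_iff.2 hb.symm, ?_⟩
    rw [inv_smul_eq_iff, hh, mul_inv_cancel₀ hx0, hpe]
  have h0M : (0 : F) ∉ M := fun h => (hMspec 0 h).1 rfl
  have hMc : M.card = d := by
    rw [← hHf]
    refine (card_bij (fun h _ => (pt.symm (h • e)).getD 0) ?_ ?_ ?_).symm
    · intro h hh
      obtain ⟨ha, hb⟩ := (mem_filter.1 hh).2
      obtain ⟨m, hm, -, hmx⟩ := hmult h ha hb
      rw [← hpe, hmx, mul_one, Equiv.symm_apply_apply, Option.getD_some]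
      exact hm
    · intro h hh h' hh' he
      obtain ⟨ha, hb⟩ := (mem_filter.1 hh).2
      obtain ⟨ha', hb'⟩ := (mem_filter.1 hh').2
      obtain ⟨m, -, -, hmx⟩ := hmult h ha hb
      obtain ⟨m', -, -, hmx'⟩ := hmult h' ha' hb'
      rw [← hpe, hmx, hmx', Equiv.symm_apply_apply, Equiv.symm_apply_apply] at he
      simp at he
      have := Zass.eq_one_of_three hZ hab heb.symm hea.symm
        (show (h'⁻¹ * h) • a = a by rw [mul_smul, ha, inv_smul_eq_iff, ha'])
        (by rw [mul_smul, hb, inv_smul_eq_iff, hb'])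
        (by rw [mul_smul, ← hpe, hmx, he, ← hmx', inv_smul_smul])
      exact (inv_mul_eq_one.1 this).symm
    · intro m hm
      obtain ⟨-, h, ha, hb, hh⟩ := hMspec m hm
      exact ⟨h, mem_filter.2 ⟨mem_univ _, ha, hb⟩, by rw [← hpe, hh, mul_one, Equiv.symm_apply_apply]; rfl⟩
  have hq : 2 * M.card + 1 = Fintype.card F := by omega
  -- the product of two non-multipliers is a multiplier
  have hnm : ∀ x y : F, x ≠ 0 → x ∉ M → y ≠ 0 → y ∉ M → x * y ∈ M := by
    intro x y hx0 hx hy0 hy
    let U : Finset F := univ.erase 0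
    have hU : U.card = 2 * M.card := by simp [U]; omega
    have hC : U \ M = M.image fun m => x * m := by
      refine (eq_of_subset_of_card_le (fun u hu => ?_) ?_).symm
      · obtain ⟨m, hm, rfl⟩ := mem_image.1 hu
        refine mem_sdiff.2 ⟨mem_erase.2 ⟨mul_ne_zero hx0 (hMspec m hm).1, mem_univ _⟩, fun h => hx ?_⟩
        have := hmulM _ h _ (hinvM m hm)
        rwa [mul_inv_cancel_right₀ (hMspec m hm).1] at this
      · rw [card_image_of_injective _ (mul_right_injective₀ hx0), card_sdiff_of_subset, hU]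
        · omega
        · exact fun m hm => mem_erase.2 ⟨(hMspec m hm).1, mem_univ _⟩
    by_contra hxy
    obtain ⟨m, hm, hmeq⟩ := mem_image.1 (hC ▸ mem_sdiff.2 ⟨mem_erase.2 ⟨mul_ne_zero hx0 hy0, mem_univ _⟩, hxy⟩)
    exact hy ((mul_left_cancel₀ hx0 hmeq) ▸ hm)
  -- `-1` is the multiplier of `z`
  obtain ⟨mz, hmzM, hmz0, hzx⟩ := hmult z hza hzb
  have hmz : mz = -1 := by
    have h2 : z • z • pt (some 1) = pt (some (mz * mz)) := by rw [hzx, hzx, mul_one]
    rw [Zass.smul_smul_of_sq (Zass.sq_eq_one_of_order hz)] at h2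
    have hsq : mz * mz = 1 := (Option.some_injective _ (pt.injective h2)).symm
    refine (mul_self_eq_one_iff.1 hsq).resolve_left fun h1 => hz1 ?_
    refine Zass.eq_one_of_three hZ hab heb.symm hea.symm hza hzb ?_
    rw [← hpe, hzx, h1, one_mul]
  subst hmz
  have h2F : (2 : F) ≠ 0 := by
    intro h2
    refine hz1 (Zass.eq_one_of_three hZ hab heb.symm hea.symm hza hzb ?_)
    rw [← hpe, hzx, mul_one]
    congr 2
    linear_combination -h2
  -- the inversion
  have hs1 : ∀ x ∈ M, s₀ • pt (some x) = pt (some (1 / x)) := by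
    intro x hx
    obtain ⟨hx0, h, ha, hb, hh⟩ := hMspec x hx
    have h2 : h⁻¹ • e = pt (some (1 / x)) := by
      rw [inv_smul_eq_iff, hh, mul_one_div_cancel hx0, hpe]
    rw [show pt (some x) = h • e by rw [← hpe, hh, mul_one], ← mul_smul,
      show s₀ * h = h⁻¹ * s₀ by rw [← hinv h ha hb, mul_assoc, hss, mul_one], mul_smul, hse, h2]
  obtain ⟨ν, hν⟩ : ∃ ν, ν ∈ (univ : Finset F).erase 0 \ M := by
    refine card_pos.1 ?_
    rw [card_sdiff_of_subset (fun m hm => mem_erase.2 ⟨(hMspec m hm).1, mem_univ _⟩)]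
    simp only [card_erase_of_mem, mem_univ, card_univ]
    omega
  simp only [mem_sdiff, mem_erase, mem_univ, and_true] at hν
  obtain ⟨μ, hμ⟩ : ∃ μ, s₀ • pt (some ν) = pt (some μ) ∧ μ ≠ 0 ∧ μ ∉ M := by
    have hne1 : s₀ • pt (some ν) ≠ a := by
      intro h
      rw [← h0b] at h
      have := pt.injective ((smul_left_cancel _ h).trans hpb.symm)
      exact hν.1 (Option.some_injective _ this)
    obtain ⟨o, ho⟩ := pt.surjective (s₀ • pt (some ν))
    rcases o with _ | μ
    · exact absurd (ho.symm.trans hpa) hne1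
    refine ⟨μ, ho.symm, fun h0 => ?_, fun hμM => hν.2 ?_⟩
    · have h1 : s₀ • pt (some ν) = b := by rw [← ho, h0, hpb]
      rw [← h0a] at h1
      exact Option.some_ne_none _ (pt.injective ((smul_left_cancel _ h1).trans hpa.symm))
    · have h1 := congrArg (fun w => s₀ • w) ho
      simp only [hs1 μ hμM, Zass.smul_smul_of_sq hss] at h1
      rw [← Option.some_injective _ (pt.injective h1), one_div]
      exact hinvM μ hμM
  obtain ⟨β, hβdef⟩ : ∃ β, β = ν * μ := ⟨_, rfl⟩
  have hs2 : ∀ x, x ≠ 0 → x ∉ M → s₀ • pt (some x) = pt (some (β / x)) := by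
    intro x hx0 hx
    have hm : x * ν⁻¹ ∈ M := hnm x ν⁻¹ hx0 hx (inv_ne_zero hν.1) (fun h => hν.2 (by simpa using hinvM _ h))
    obtain ⟨-, h, ha, hb, hh⟩ := hMspec _ hm
    rw [show pt (some x) = h • pt (some ν) by rw [hh, inv_mul_cancel_right₀ hν.1], ← mul_smul,
      show s₀ * h = h⁻¹ * s₀ by rw [← hinv h ha hb, mul_assoc, hss, mul_one], mul_smul, hμ.1,
      inv_smul_eq_iff, hh, hβdef]
    congr 2
    field_simp [hν.1]
  -- `β = 1`
  obtain ⟨σ₁, hσ₁a, hσ₁⟩ := hT 1
  obtain ⟨σ₂, hσ₂a, hσ₂⟩ := hT (-1)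
  simp only [one_mul] at hσ₁ hσ₂
  have hm1 : s₀ • pt (some (-1)) = pt (some (-1)) := by
    rw [hs1 _ hmzM]; norm_num
  have hs10 : s₀ • pt (some (0 : F)) = a := by rw [hpb, h0b]
  have hβ : β = 1 := by
    let g := σ₂ * s₀ * σ₁ * s₀ * σ₂ * s₀
    have hga : g • a = a := by
      simp only [g, mul_smul]
      rw [h0a, ← hpb, hσ₂, zero_add, hm1, hσ₁, neg_add_cancel, hs10, hσ₂a]
    have hgb : g • b = b := by
      simp only [g, mul_smul]
      rw [h0b, hσ₂a, h0a, ← hpb, hσ₁, zero_add, show pt (some (1 : F)) = e from hpe, hse, ← hpe, hσ₂, add_neg_cancel]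
    obtain ⟨m, hmM, hm0, hmx⟩ := hmult g hga hgb
    have hgval : g • pt (some (1 : F)) = pt (some (-1)) := by
      simp only [g, mul_smul]
      rw [show s₀ • pt (some (1 : F)) = pt (some 1) by rw [hpe, hse], hσ₂, add_neg_cancel, hs10, hσ₁a, h0a,
        ← hpb, hσ₂, zero_add]
    rw [hmx, mul_one] at hgval
    have hm : m = -1 := Option.some_injective _ (pt.injective hgval)
    subst hm
    obtain ⟨y, hy, hy1, hy10⟩ := exists_add_one_notMem M hone h0M hmzM hmulM hinvM hq
    have hy0 : y ≠ 0 := (hMspec y hy).1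
    -- evaluate at the preimage of `y + 1`
    have hx := hmx (β / (y + 1))
    have hsx : s₀ • pt (some (β / (y + 1))) = pt (some (y + 1)) := by
      rw [← hs2 _ hy10 hy1, Zass.smul_smul_of_sq hss]
    simp only [g, mul_smul] at hx
    rw [hsx, hσ₂, show y + 1 + -1 = y by ring, hs1 y hy, hσ₁] at hx
    have hne : (1 / y + 1 : F) ≠ 0 := by
      rw [div_add_one hy0, add_comm]; exact div_ne_zero hy10 hy0
    have hnM : (1 / y + 1 : F) ∉ M := by
      intro h
      have := hmulM _ h _ hy
      rw [add_mul, one_div, inv_mul_cancel₀ hy0, one_mul, add_comm] at this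
      exact hy1 this
    rw [hs2 _ hne hnM, hσ₂] at hx
    have := Option.some_injective _ (pt.injective hx)
    rw [div_add_one hy0] at this
    rw [add_comm 1 y] at this
    field_simp at this
    have : (β - 1) * (y + 1) = 0 := by linear_combination this
    exact sub_eq_zero.1 ((mul_eq_zero.1 this).resolve_right hy10)
  have hinvs : ∀ x, x ≠ 0 → s₀ • pt (some x) = pt (some (1 / x)) := fun x hx => by
    by_cases h : x ∈ M
    · exact hs1 x h
    · rw [hs2 x hx h, hβ]
  refine ⟨F, inferInstance, inferInstance, h2F, hcardF, ?_⟩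
  have := hZ.1
  refine Mobius.nonempty_mulEquiv_PSL (pt := pt) pt.bijective h2F (fun c => ?_) ⟨z * s₀, ?_⟩ ?_
  · obtain ⟨σ, hσ, hσx⟩ := hT c
    exact ⟨σ, Coords.realises_affine (by rw [hpa, hσ]) hσx⟩
  · refine Coords.realises_inversion (by rw [mul_smul, hpa, h0a, hzb, hpb]) (by rw [mul_smul, hpb, h0b, hza, hpa])
      fun x hx => ?_
    rw [mul_smul, hinvs x hx, hzx]
    congr 2
    ring
  · have htr : IsPretransitive G (Fin 2 ↪ Ω) := hZ.2.1
    let x : Fin 2 ↪ Ω := ⟨![a, b], by intro i j; fin_cases i <;> fin_cases j <;> simp [hab, hab.symm]⟩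
    have hst : Nat.card (stabilizer G x) = d := by
      rw [← hHf, ← Nat.card_eq_finsetCard]
      exact Nat.card_congr (Equiv.subtypeEquivRight fun g => by
        simp only [Hf, mem_filter, mem_univ, true_and, mem_stabilizer_iff]
        refine ⟨fun hg => ⟨congrArg (fun f : Fin 2 ↪ Ω => f 0) hg, congrArg (fun f : Fin 2 ↪ Ω => f 1) hg⟩,
          fun hg => Function.Embedding.ext fun i => ?_⟩
        fin_cases i
        · exact hg.1
        · exact hg.2)
    rw [← card_eq_descFactorial_mul (G := G) x, hst, Nat.card_eq_fintype_card, hcardF,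
      show Fintype.card F ^ 2 - 1 = (Fintype.card F + 1) * (2 * d) by
        rw [show 2 * d = Fintype.card F - 1 by omega, ← Nat.sq_sub_sq, one_pow]]
    simp only [Nat.descFactorial_succ, Nat.descFactorial_zero, Nat.sub_zero, mul_one, Nat.add_sub_cancel]
    ring

/-- A finite Zassenhaus group of degree `n + 1` with two-point stabilisers of even order `d` satisfying `2d ≤ n - 1` has `n = p^f` for an odd prime `p` and is isomorphic to `PSL(2, p^f)`. -/
theorem result {G Ω : Type*} [Group G] [Finite G] [MulAction G Ω] [Fintype Ω] (hZ : Cfsg.IsZassenhausGroup G Ω) {a b : Ω} (hab : a ≠ b) (heven : Even (Nat.card ↥(MulAction.stabilizer G a ⊓ MulAction.stabilizer G b))) (hd : 2 * Nat.card ↥(MulAction.stabilizer G a ⊓ MulAction.stabilizer G b) ≤ Fintype.card Ω - 2) : ∃ (p f : ℕ) (K : Type) (_ : Field K) (_ : Fintype K), p.Prime ∧ p ≠ 2 ∧ Fintype.card K = p ^ f ∧ Fintype.card Ω = p ^ f + 1 ∧ Nonempty (G ≃* Matrix.ProjectiveSpecialLinearGroup (Fin 2) K) := by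
  classical
  have hd' := Cfsg.Agent.Perm.Zass.degree_le_of_even hZ hab heven
  obtain ⟨K, _, _, h2, hcard, hiso⟩ := core hZ hab heven (le_antisymm hd hd')
  obtain ⟨p, hp⟩ := CharP.exists K
  obtain ⟨f, hpp, hf⟩ := FiniteField.card K p
  refine ⟨p, f, K, inferInstance, inferInstance, hpp, ?_, hf, by rw [hcard, hf], hiso⟩
  rintro rfl
  exact h2 (CharTwo.two_eq_zero)

end Cfsg.Agent.S0742
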