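import Cfsg.Statements.S0346
import Mathlib
import Cfsg.Agent.Lib.Perm.ZassenhausEven
import Cfsg.Agent.Lib.ZassenhausFeit.Kernel
import Cfsg.Agent.S0742
-- import your own Cfsg.Agent.* helpers here

set_option autoImplicit false
open Cfsg

namespace Cfsg.Agent.S0346

/-- The number of points of a finite simple Zassenhaus group is `p^k + 1` for some prime power `p^k` (the regular normal
subgroup of a point stabiliser is a `p`-group). -/
theorem result {G Ω : Type*} [Group G] [Finite G] [MulAction G Ω] [Fintype Ω]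
    (hZ : Cfsg.IsZassenhausGroup G Ω) [IsSimpleGroup G] :
    IsPrimePow (Fintype.card Ω - 1) := by
  classical
  obtain ⟨_, -, a, b, hab, -, -⟩ := hZ.2.2.2.1
  rcases Nat.even_or_odd (Nat.card ↥(MulAction.stabilizer G a ⊓ MulAction.stabilizer G b)) with
    heven | hodd
  · have h2 := Cfsg.Agent.Perm.ZassEven.two_mul_card_stab hZ hab heven
    obtain ⟨p, f, K, _, _, hp, -, hcard, hΩ, -⟩ := Cfsg.Agent.S0742.result hZ hab heven h2.le
    rw [hΩ, Nat.add_sub_cancel]
    refine ⟨p, f, hp.prime, Nat.pos_of_ne_zero fun hf => ?_, rfl⟩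
    have := Fintype.one_lt_card (α := K)
    rw [hcard, hf, pow_zero] at this
    exact lt_irrefl _ this
  · obtain ⟨H, hHa, hHcard, hHfix⟩ := Cfsg.Agent.ZassenhausFeit.exists_kernel hZ hab
    rw [← hHcard, Nat.add_sub_cancel]
    exact Cfsg.Agent.ZassenhausFeit.isPrimePow_card_kernel hZ hab hHa hHcard hHfix hodd

end Cfsg.Agent.S0346
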