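import Cfsg.Statements.S0727
import Mathlib
import Cfsg.Agent.Lib.Perm.Coords
import Cfsg.Agent.Lib.Perm.Sharply

set_option autoImplicit false
open Cfsg

namespace Cfsg.Agent.S0727

open MulAction Cfsg.Agent.Perm

/-- In odd degree every element exchanging two points is an involution. -/
private theorem swap_involution {α : Type*} [Fintype α] [DecidableEq α] (hodd : Odd (Fintype.card α))
    (G : Subgroup (Equiv.Perm α)) (h3 : IsMultiplyPretransitive G α 3)
    (hsharp : ∀ x : Fin 3 ↪ α, stabilizer G x = ⊥) {a b : α} (hab : a ≠ b) (g : G)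
    (hga : g • a = b) (hgb : g • b = a) : g * g = 1 := by
  classical
  have key : ∀ c : α, c ≠ a → c ≠ b → ∃ t : G, t • a = b ∧ t • b = a ∧ t • c = c :=
    fun c hca hcb => exists_smul_eq_three h3 hab hca.symm hcb.symm hab.symm hcb.symm hca.symm
  choose! t hta htb htc using key
  have hsq : ∀ c, c ≠ a → c ≠ b → t c * t c = 1 := fun c hca hcb =>
    eq_one_of_fixes_three hsharp hab hca.symm hcb.symm
      (by rw [mul_smul, hta c hca hcb, htb c hca hcb]) (by rw [mul_smul, htb c hca hcb, hta c hca hcb])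
      (by rw [mul_smul, htc c hca hcb, htc c hca hcb])
  -- an involution has only one fixed point
  have huniq : ∀ u : G, u * u = 1 → u • a = b → ∀ c d : α, u • c = c → u • d = d → c = d := by
    intro u hu hua c d hc hd
    by_contra hcd
    have hu1 : u ≠ 1 := fun e => hab (by rw [← hua, e, one_smul])
    have : Fact (Nat.Prime 2) := ⟨Nat.prime_two⟩
    have hP : IsPGroup 2 (Subgroup.zpowers u) := IsPGroup.of_card (n := 1) (by
      rw [Nat.card_zpowers, pow_one, orderOf_eq_prime (by rw [pow_two]; exact hu) hu1])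
    have hmod := hP.card_modEq_card_fixedPoints α
    have hfix : fixedPoints (Subgroup.zpowers u) α = ({c, d} : Set α) := by
      ext x
      constructor
      · intro hx
        have hx' : u • x = x := hx ⟨u, Subgroup.mem_zpowers u⟩
        by_contra hne
        simp only [Set.mem_insert_iff, Set.mem_singleton_iff, not_or] at hne
        exact hu1 (eq_one_of_fixes_three hsharp hcd (Ne.symm hne.1) (Ne.symm hne.2) hc hd hx')
      · rintro (rfl | rfl) <;> rintro ⟨v, hv⟩
        · obtain ⟨i, rfl⟩ := Subgroup.mem_zpowers_iff.1 hv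
          exact (stabilizer G x).zpow_mem hc i
        · obtain ⟨i, rfl⟩ := Subgroup.mem_zpowers_iff.1 hv
          exact (stabilizer G x).zpow_mem hd i
    rw [hfix, Nat.card_eq_fintype_card, show Nat.card ({c, d} : Set α) = 2 by
      rw [Nat.card_coe_set_eq, Set.ncard_pair hcd]] at hmod
    have := Nat.odd_iff.1 hodd
    have := hmod
    unfold Nat.ModEq at this
    omega
  by_cases hc0 : ∃ c₀ : α, c₀ ≠ a ∧ c₀ ≠ b
  swap
  · push Not at hc0
    have : Fintype.card α ≤ 2 := by
      rw [← Finset.card_univ]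
      refine le_trans (Finset.card_le_card (t := {a, b}) fun x _ => ?_) (Finset.card_pair hab).le
      by_cases hxa : x = a
      · simp [hxa]
      · simp [hc0 x hxa]
    have := Finset.card_le_univ ({a, b} : Finset α)
    rw [Finset.card_pair hab] at this
    rw [Nat.odd_iff] at hodd
    omega
  obtain ⟨c₀, hc₀a, hc₀b⟩ := hc0
  have hne : ∀ u : G, u • a = b → u • b = a → u • c₀ ≠ a ∧ u • c₀ ≠ b := fun u hua hub =>
    ⟨fun e => hc₀b (smul_left_cancel u (e.trans hub.symm)), fun e => hc₀a (smul_left_cancel u (e.trans hua.symm))⟩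
  let f : {c : α // c ≠ a ∧ c ≠ b} → {c : α // c ≠ a ∧ c ≠ b} := fun c =>
    ⟨t c • c₀, hne _ (hta c c.2.1 c.2.2) (htb c c.2.1 c.2.2)⟩
  have hf : Function.Injective f := by
    intro c d hcd
    have e : t c = t d := (inv_mul_eq_one.1 (eq_one_of_fixes_three hsharp hab hc₀a.symm hc₀b.symm
      (by rw [mul_smul, hta c c.2.1 c.2.2, inv_smul_eq_iff, hta d d.2.1 d.2.2])
      (by rw [mul_smul, htb c c.2.1 c.2.2, inv_smul_eq_iff, htb d d.2.1 d.2.2])
      (by rw [mul_smul, show t c • c₀ = t d • c₀ from congrArg Subtype.val hcd, inv_smul_smul]))).symm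
    exact Subtype.ext (huniq (t c) (hsq c c.2.1 c.2.2) (hta c c.2.1 c.2.2) _ _ (htc c c.2.1 c.2.2)
      (by rw [e]; exact htc d d.2.1 d.2.2))
  obtain ⟨c, hc⟩ := (Finite.injective_iff_surjective.1 hf) ⟨g • c₀, hne g hga hgb⟩
  have e : g = t c := (inv_mul_eq_one.1 (eq_one_of_fixes_three hsharp hab hc₀a.symm hc₀b.symm
      (by rw [mul_smul, hga, inv_smul_eq_iff, hta c c.2.1 c.2.2])
      (by rw [mul_smul, hgb, inv_smul_eq_iff, htb c c.2.1 c.2.2])
      (by rw [mul_smul, ← show t c • c₀ = g • c₀ from congrArg Subtype.val hc, inv_smul_smul]))).symm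
  rw [e]; exact hsq c c.2.1 c.2.2

/-- A point stabiliser has an abelian normal subgroup regular on the other points. -/
private theorem kernel {α : Type*} [Fintype α] [DecidableEq α] (h3' : 3 ≤ Fintype.card α)
    (G : Subgroup (Equiv.Perm α)) (h3 : IsMultiplyPretransitive G α 3)
    (hsharp : ∀ x : Fin 3 ↪ α, stabilizer G x = ⊥) (ω o : α) (ho : o ≠ ω) :
    ∃ K : Subgroup G, (∀ k ∈ K, k • ω = ω) ∧ (∀ x, x ≠ ω → ∃! k : K, (k : G) • o = x) ∧
      IsMulCommutative K ∧ ∀ h : G, h • ω = ω → ∀ k ∈ K, h * k * h⁻¹ ∈ K := by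
  classical
  have : Nontrivial (SubMulAction.ofStabilizer G ω) := by
    obtain ⟨c, -, hc⟩ := Finset.exists_mem_notMem_of_card_lt_card (s := ({ω, o} : Finset α))
      (t := Finset.univ) (by rw [Finset.card_pair ho.symm, Finset.card_univ]; omega)
    simp only [Finset.mem_insert, Finset.mem_singleton, not_or] at hc
    exact ⟨⟨o, ho⟩, ⟨c, hc.1⟩, fun e => hc.2 (congrArg Subtype.val e).symm⟩
  have htr : IsPretransitive G α := by
    refine ⟨fun x y => ?_⟩
    obtain ⟨c, hc1, hc2⟩ : ∃ c, c ≠ x ∧ c ≠ y := by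
      obtain ⟨c, -, hc⟩ := Finset.exists_mem_notMem_of_card_lt_card (s := ({x, y} : Finset α))
        (t := Finset.univ) (by have := Finset.card_le_two (a := x) (b := y); rw [Finset.card_univ]; omega)
      simp at hc; exact ⟨c, hc⟩
    rcases eq_or_ne x y with rfl | hxy
    · exact ⟨1, one_smul G x⟩
    obtain ⟨g, hg, -, -⟩ := exists_smul_eq_three h3 hxy hc1.symm hc2.symm hxy.symm hc2.symm hc1.symm
    exact ⟨g, hg⟩
  have h2 : IsMultiplyPretransitive (stabilizer G ω) (SubMulAction.ofStabilizer G ω) 2 :=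
    SubMulAction.ofStabilizer.isMultiplyPretransitive.1 h3
  have hsharp2 : ∀ x : Fin 2 ↪ SubMulAction.ofStabilizer G ω, stabilizer (stabilizer G ω) x = ⊥ := by
    intro x
    rw [Subgroup.eq_bot_iff_forall]
    intro g hg
    refine Subtype.ext (eq_one_of_fixes_three hsharp (fun h : ω = ((x 0 : SubMulAction.ofStabilizer G ω) : α) => (x 0).2 h.symm)
      (fun h : ω = ((x 1 : SubMulAction.ofStabilizer G ω) : α) => (x 1).2 h.symm)
      (fun e => absurd (x.injective (Subtype.ext e)) (by decide)) g.2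
      (congrArg Subtype.val (congrArg (fun e : Fin 2 ↪ SubMulAction.ofStabilizer G ω => e 0) hg))
      (congrArg Subtype.val (congrArg (fun e : Fin 2 ↪ SubMulAction.ofStabilizer G ω => e 1) hg)))
  have : FaithfulSMul (stabilizer G ω) (SubMulAction.ofStabilizer G ω) := ⟨fun {g g'} h => by
    refine Subtype.ext (Subtype.ext (Equiv.ext fun x => ?_))
    rcases eq_or_ne x ω with rfl | hx
    · exact (g.2 : (g : G) • x = x).trans (g'.2 : (g' : G) • x = x).symm
    · exact congrArg Subtype.val (h ⟨x, hx⟩)⟩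
  obtain ⟨K, hKn, hKt, hKs, -, hKc, -⟩ := exists_kernel_of_sharply_two hsharp2
  refine ⟨K.map (stabilizer G ω).subtype, ?_, ?_, ?_, ?_⟩
  · rintro _ ⟨k, -, rfl⟩; exact k.2
  · intro x hx
    obtain ⟨k, hk⟩ := hKt.exists_smul_eq (⟨o, ho⟩ : SubMulAction.ofStabilizer G ω) ⟨x, hx⟩
    refine ⟨⟨_, k, k.2, rfl⟩, congrArg Subtype.val hk, ?_⟩
    rintro ⟨_, k', hk', rfl⟩ he
    have : (⟨k', hk'⟩ : K) = k := by
      refine eq_of_inv_mul_eq_one ((Subgroup.eq_bot_iff_forall _).1 (hKs ⟨o, ho⟩) _ ?_) |>.symm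
      show (k⁻¹ * ⟨k', hk'⟩ : K) • (⟨o, ho⟩ : SubMulAction.ofStabilizer G ω) = _
      rw [mul_smul, show (⟨k', hk'⟩ : K) • (⟨o, ho⟩ : SubMulAction.ofStabilizer G ω) = ⟨x, hx⟩ from Subtype.ext he,
        ← hk, inv_smul_smul]
    subst this
    rfl
  · refine ⟨⟨?_⟩⟩
    rintro ⟨_, k, hk, rfl⟩ ⟨_, k', hk', rfl⟩
    exact Subtype.ext (congrArg (fun u : K => ((u : stabilizer G ω) : G)) (hKc.1.1 ⟨k, hk⟩ ⟨k', hk'⟩))
  · rintro h hh _ ⟨k, hk, rfl⟩
    exact ⟨⟨h, hh⟩ * k * ⟨h, hh⟩⁻¹, hKn.conj_mem k hk _, rfl⟩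

/-- A sharply triply transitive permutation group of degree `2^f + 1` is isomorphic to the projective general linear group of degree 2 over the field with `2^f` elements. -/
theorem result {α : Type*} [Fintype α] [DecidableEq α] {f : ℕ} (hf : 1 ≤ f) (hα : Fintype.card α = 2 ^ f + 1) (G : Subgroup (Equiv.Perm α)) (h3 : MulAction.IsMultiplyPretransitive G α 3) (hsharp : ∀ x : Fin 3 ↪ α, MulAction.stabilizer G x = ⊥) : ∃ (F : Type) (_ : Field F) (_ : Fintype F), Fintype.card F = 2 ^ f ∧ Nonempty (G ≃* Matrix.ProjGenLinGroup (Fin 2) F) := by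
  classical
  have := Fintype.ofFinite G
  have hq : 2 ≤ 2 ^ f := le_self_pow₀ one_le_two (by omega)
  have h3' : 3 ≤ Fintype.card α := by omega
  have hodd : Odd (Fintype.card α) := by
    rw [hα]; exact (Nat.even_pow.2 ⟨even_two, by omega⟩).add_one
  obtain ⟨ω, o, e, -, -, -, hωo, hωe, hoe⟩ := Finset.two_lt_card_iff.1
    (show 2 < (Finset.univ : Finset α).card by rw [Finset.card_univ]; omega)
  obtain ⟨K, hKω, hreg, hKc, hnorm⟩ := kernel h3' G h3 hsharp ω o hωo.symm
  obtain ⟨s, hsω, hso, hse⟩ := exists_smul_eq_three h3 hωo hωe hoe hωo.symm hoe hωe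
  have hss : s * s = 1 := swap_involution hodd G h3 hsharp hωo s hsω hso
  have hinv : ∀ h : G, h • ω = ω → h • o = o → s * h * s = h⁻¹ := by
    intro h hω ho
    have h1 := swap_involution hodd G h3 hsharp hωo (s * h) (by rw [mul_smul, hω, hsω]) (by rw [mul_smul, ho, hso])
    rw [eq_inv_iff_mul_eq_one, mul_assoc]
    exact h1
  have hHc : ∀ h h' : G, h • ω = ω → h • o = o → h' • ω = ω → h' • o = o → h * h' = h' * h := by
    intro h h' hω ho hω' ho'
    have e1 := hinv (h * h') (by rw [mul_smul, hω', hω]) (by rw [mul_smul, ho', ho])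
    rw [show s * (h * h') * s = (s * h * s) * (s * h' * s) by
      calc s * (h * h') * s = s * h * 1 * h' * s := by group
        _ = s * h * (s * s) * h' * s := by rw [hss]
        _ = _ := by group, hinv h hω ho, hinv h' hω' ho', ← mul_inv_rev] at e1
    exact (inv_injective e1).symm
  obtain ⟨F, _, _, pt, hpω, hpo, hpe, hT, hM⟩ := Coords.exists_coords hωo.symm hoe.symm hωe.symm
    K hKω hreg hKc (fun h hω _ => hnorm h hω) hHc (by
      intro L hL hLinv
      refine (em (L = ⊥)).imp id fun hne => le_antisymm hL fun k hk => ?_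
      obtain ⟨l, hl, hl1⟩ := L.bot_or_exists_ne_one.resolve_left hne
      rcases eq_or_ne k 1 with rfl | hk1
      · exact one_mem L
      have hne' : ∀ u ∈ K, u ≠ 1 → u • o ≠ ω ∧ u • o ≠ o := by
        refine fun u hu hu1 => ⟨fun h' => hωo (smul_left_cancel u (h'.trans (hKω u hu).symm)).symm, fun h' => hu1 ?_⟩
        obtain ⟨v, -, hv⟩ := hreg o hωo.symm
        exact congrArg Subtype.val ((hv ⟨u, hu⟩ h').trans (hv 1 (one_smul G o)).symm)
      obtain ⟨l1, l2⟩ := hne' l (hL hl) hl1
      obtain ⟨k1, k2⟩ := hne' k hk hk1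
      obtain ⟨h, hω, ho, hh⟩ := exists_smul_eq_three h3 hωo l1.symm l2.symm hωo k1.symm k2.symm
      have hmem := hLinv h hω ho l hl
      have : (h * l * h⁻¹) • o = k • o := by
        rw [mul_smul, inv_smul_eq_iff.2 ho.symm, mul_smul, hh]
      obtain ⟨v, -, hv⟩ := hreg (k • o) k1
      have := congrArg Subtype.val ((hv ⟨_, hL hmem⟩ this).trans (hv ⟨k, hk⟩ rfl).symm)
      rw [← show h * l * h⁻¹ = k from this]
      exact hmem)
  refine ⟨F, inferInstance, inferInstance, ?_, ?_⟩
  · have := Fintype.card_congr pt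
    rw [Fintype.card_option, hα] at this
    omega
  have hcardF : Fintype.card F + 1 = Fintype.card α := by
    rw [← Fintype.card_option]; exact Fintype.card_congr pt
  refine Mobius.nonempty_mulEquiv_PGL (pt := pt) pt.bijective (fun c => ?_) (fun a ha => ?_) ⟨s, ?_⟩ ?_
  · obtain ⟨σ, hσ, hσx⟩ := hT c
    exact ⟨σ, Coords.realises_affine (by rw [hpω, hσ]) hσx⟩
  · obtain ⟨h, hω, ho, hh⟩ := exists_smul_eq_three h3 hωo hωe hoe hωo
      (show ω ≠ pt (some a) by rw [← hpω]; exact pt.injective.ne (by simp))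
      (show o ≠ pt (some a) by rw [← hpo]; exact pt.injective.ne (by simpa using ha.symm))
    obtain ⟨a', ha', hax⟩ := hM h hω ho
    have : a' = a := by
      have h1 := hax 1
      rw [hpe, hh, mul_one] at h1
      exact (Option.some_injective _ (pt.injective h1)).symm
    subst this
    exact ⟨h, Coords.realises_affine (by rw [hpω, hω]) (fun x => by rw [add_zero, hax])⟩
  · refine Coords.realises_inversion (by rw [hpω, hsω, hpo]) (by rw [hpo, hso, hpω]) fun x hx => ?_
    obtain ⟨h, hω, ho, hh⟩ := exists_smul_eq_three h3 hωo hωe hoe hωo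
      (show ω ≠ pt (some x) by rw [← hpω]; exact pt.injective.ne (by simp))
      (show o ≠ pt (some x) by rw [← hpo]; exact pt.injective.ne (by simpa using hx.symm))
    obtain ⟨a, ha, hax⟩ := hM h hω ho
    have hax1 : a = x := by
      have h1 := hax 1
      rw [hpe, hh, mul_one] at h1
      exact (Option.some_injective _ (pt.injective h1)).symm
    subst hax1
    have h2 : h⁻¹ • e = pt (some (1 / a)) := by
      rw [inv_smul_eq_iff, hax, mul_one_div_cancel ha, hpe]
    rw [← hh, ← mul_smul, show s * h = h⁻¹ * s by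
      rw [← hinv h hω ho, mul_assoc, hss, mul_one], mul_smul, hse, h2]
  · have hx : Nonempty (Fin 3 ↪ α) := Function.Embedding.nonempty_of_card_le (by simpa using h3')
    obtain ⟨x⟩ := hx
    rw [card_eq_of_sharply (hsharp x), Nat.card_eq_fintype_card, ← hcardF]
    generalize Fintype.card F = q
    simp only [Nat.descFactorial_succ, Nat.descFactorial_zero, Nat.sub_zero, mul_one]
    rw [show q + 1 - 1 = q by omega, show q + 1 - 2 = q - 1 by omega,
      show q ^ 2 - 1 = (q + 1) * (q - 1) by rw [← Nat.sq_sub_sq, one_pow]]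
    ring

end Cfsg.Agent.S0727
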