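import Cfsg.Statements.S0731
import Mathlib
import Cfsg.Agent.Lib.Perm.ZassenhausPSL
import Cfsg.Agent.Lib.Perm.ZassenhausEven
import Cfsg.Agent.S0742

set_option autoImplicit false
open Cfsg

namespace Cfsg.Agent.S0731

/-- A finite Zassenhaus group whose point stabiliser has an abelian regular normal subgroup on the remaining points is sharply triply transitive or isomorphic to `PSL(2, F)` for a finite field `F` of odd characteristic. -/
theorem result {G Ω : Type*} [Group G] [Finite G] [MulAction G Ω] [Finite Ω] (hZ : Cfsg.IsZassenhausGroup G Ω) (x : Ω) (F : Subgroup G) (hFle : F ≤ MulAction.stabilizer G x) (hFn : (F.subgroupOf (MulAction.stabilizer G x)).Normal) (hFab : IsMulCommutative F) (hreg : ∀ y z : Ω, y ≠ x → z ≠ x → ∃! u : F, (u : G) • y = z) : (MulAction.IsMultiplyPretransitive G Ω 3 ∧ ∀ t : Fin 3 ↪ Ω, MulAction.stabilizer G t = ⊥) ∨ ∃ (K : Type) (_ : Field K) (_ : Fintype K), ringChar K ≠ 2 ∧ Nonempty (G ≃* Matrix.ProjectiveSpecialLinearGroup (Fin 2) K) :=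 by
  classical
  haveI := Fintype.ofFinite Ω
  haveI := Fintype.ofFinite G
  haveI : FaithfulSMul G Ω := hZ.1
  obtain ⟨b, hb, -⟩ := Cfsg.Agent.Perm.Zass.exists_third hZ x x
  set d := Nat.card ↥(MulAction.stabilizer G x ⊓ MulAction.stabilizer G b) with hd
  have h3 := Cfsg.Agent.Perm.Zass.three_le hZ
  have hdd : d ∣ Fintype.card Ω - 2 := Cfsg.Agent.Perm.ZassEven.card_stab_dvd hZ hb.symm
  have hdle : d ≤ Fintype.card Ω - 2 := Nat.le_of_dvd (by omega) hdd
  have hne2 : ∀ (K : Type) (_ : Field K), (2 : K) ≠ 0 → ringChar K ≠ 2 := fun K _ h2 e => h2 (by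
    have := ringChar.Nat.cast_ringChar (R := K); rw [e] at this; exact_mod_cast this)
  have hlarge : Fintype.card Ω - 2 ≤ 2 * d ∧ (2 * d = Fintype.card Ω - 2 →
      ∃ (K : Type) (_ : Field K) (_ : Fintype K), ringChar K ≠ 2 ∧
        Nonempty (G ≃* Matrix.ProjectiveSpecialLinearGroup (Fin 2) K)) := by
    rcases Nat.even_or_odd d with heven | hodd
    · refine ⟨Cfsg.Agent.Perm.Zass.degree_le_of_even hZ hb.symm heven, fun h => ?_⟩
      obtain ⟨p, f, K, iK, iK', hp, hp2, hcard, -, hiso⟩ :=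
        Cfsg.Agent.S0742.result hZ hb.symm heven h.le
      refine ⟨K, iK, iK', fun e => ?_, hiso⟩
      have := FiniteField.even_card_iff_char_two.1 e
      rw [hcard] at this
      exact Nat.not_even_iff_odd.2 ((hp.odd_of_ne_two hp2).pow) (Nat.even_iff.2 this)
    · have hFc : Nat.card F + 1 = Fintype.card Ω := by
        have he : Nat.card F = Nat.card {c : Ω // c ≠ x} := Nat.card_congr (Equiv.ofBijective
          (fun u : F => (⟨(u : G) • b, fun e => hb (smul_left_cancel (u : G)
            (e.trans (hFle u.2 : (u : G) • x = x).symm))⟩ : {c : Ω // c ≠ x}))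
          ⟨fun u v e => (hreg b ((v : G) • b) hb (fun e' => hb (smul_left_cancel (v : G)
              (e'.trans (hFle v.2 : (v : G) • x = x).symm)))).unique (congrArg Subtype.val e) rfl,
            fun c => let ⟨u, hu, _⟩ := hreg b c hb c.2; ⟨u, Subtype.ext hu⟩⟩)
        rw [he, Nat.card_eq_fintype_card, Fintype.card_subtype_compl, Fintype.card_subtype_eq]
        omega
      have hFfix : ∀ u ∈ F, u ≠ 1 → ∀ c : Ω, u • c = c → c = x := by
        intro u hu hu1 c hc
        by_contra hcx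
        exact hu1 (congrArg Subtype.val
          ((hreg c c hcx hcx).unique (y₁ := ⟨u, hu⟩) (y₂ := 1) hc (one_smul G c)))
      have hFc' : ∀ u ∈ F, ∀ v ∈ F, u * v = v * u := fun u hu v hv =>
        congrArg Subtype.val (hFab.is_comm.comm ⟨u, hu⟩ ⟨v, hv⟩)
      refine ⟨Nat.le_of_dvd (by have : 0 < d := Nat.card_pos; omega)
        (Cfsg.Agent.ZassenhausOdd.dvd_two_mul_of_abelian hZ hb.symm hodd hFle hFc hFfix hFc'), fun h => ?_⟩
      obtain ⟨K, iK, iK', h2, -, hiso⟩ :=
        Cfsg.Agent.Perm.ZassPSL.psl_of_odd hZ hb.symm hodd hFle hFc hFfix hFc' h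
      exact ⟨K, iK, iK', hne2 K iK h2, hiso⟩
  obtain ⟨c, hc⟩ := hdd
  have hdpos : 0 < d := Nat.card_pos
  rcases c with _ | _ | _ | c
  · omega
  · -- sharply triply transitive
    refine Or.inl ⟨Cfsg.Agent.Perm.isMultiplyPretransitive_of_forall fun y z hy hz => ?_, fun t => ?_⟩
    swap
    · rw [Subgroup.eq_bot_iff_forall]
      intro g hg
      have hfix : ∀ i, g • t i = t i := fun i => congrArg (fun e : Fin 3 ↪ Ω => e i) hg
      exact Cfsg.Agent.Perm.Zass.eq_one_of_three hZ (t.injective.ne (by decide : (0 : Fin 3) ≠ 1))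
        (t.injective.ne (by decide : (1 : Fin 3) ≠ 2)) (t.injective.ne (by decide : (0 : Fin 3) ≠ 2))
        (hfix 0) (hfix 1) (hfix 2)
    have key : ∀ w w' : Ω, w ≠ x → w ≠ b → w' ≠ x → w' ≠ b →
        ∃ g : G, g • x = x ∧ g • b = b ∧ g • w = w' := by
      intro w w' hwx hwb hwx' hwb'
      let f : ↥(MulAction.stabilizer G x ⊓ MulAction.stabilizer G b) → {c : Ω // c ≠ x ∧ c ≠ b} :=
        fun g => ⟨(g : G) • w,
          fun e => hwx (smul_left_cancel (g : G) (e.trans (show (g : G) • x = x from g.2.1).symm)),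
          fun e => hwb (smul_left_cancel (g : G) (e.trans (show (g : G) • b = b from g.2.2).symm))⟩
      have hf : Function.Injective f := by
        intro g g' e
        have e' : (g : G) • w = (g' : G) • w := congrArg Subtype.val e
        refine Subtype.ext (inv_mul_eq_one.1 (Cfsg.Agent.Perm.Zass.eq_one_of_three hZ hb.symm hwb.symm
          hwx.symm ?_ ?_ ?_)).symm
        · rw [mul_smul, (show (g : G) • x = x from g.2.1), inv_smul_eq_iff]; exact (show (g' : G) • x = x from g'.2.1).symm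
        · rw [mul_smul, (show (g : G) • b = b from g.2.2), inv_smul_eq_iff]; exact (show (g' : G) • b = b from g'.2.2).symm
        · rw [mul_smul, e', inv_smul_smul]
      have hcard : Nat.card {c : Ω // c ≠ x ∧ c ≠ b} = Fintype.card Ω - 2 := by
        rw [Nat.subtype_card ((Finset.univ.erase x).erase b) (fun c => by simp [and_comm]),
          Finset.card_erase_of_mem (by simp [hb]), Finset.card_erase_of_mem (Finset.mem_univ _),
          Finset.card_univ]
        (clear hlarge hne2; omega)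
      obtain ⟨g, hg⟩ := (hf.bijective_of_nat_card_le (by rw [hcard, ← hd]; omega)).2 ⟨w', hwx', hwb'⟩
      exact ⟨g, g.2.1, g.2.2, congrArg Subtype.val hg⟩
    obtain ⟨g₁, h1a, h1b⟩ := Cfsg.Agent.Perm.Zass.two_trans hZ (hy.ne (by decide : (0 : Fin 3) ≠ 1)) hb.symm
    obtain ⟨g₂, h2a, h2b⟩ := Cfsg.Agent.Perm.Zass.two_trans hZ (hz.ne (by decide : (0 : Fin 3) ≠ 1)) hb.symm
    obtain ⟨g, hga, hgb, hgc⟩ := key (g₁ • y 2) (g₂ • z 2)
      (fun e => hy.ne (by decide : (2 : Fin 3) ≠ 0) (smul_left_cancel g₁ (e.trans h1a.symm)))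
      (fun e => hy.ne (by decide : (2 : Fin 3) ≠ 1) (smul_left_cancel g₁ (e.trans h1b.symm)))
      (fun e => hz.ne (by decide : (2 : Fin 3) ≠ 0) (smul_left_cancel g₂ (e.trans h2a.symm)))
      (fun e => hz.ne (by decide : (2 : Fin 3) ≠ 1) (smul_left_cancel g₂ (e.trans h2b.symm)))
    refine ⟨g₂⁻¹ * g * g₁, fun i => ?_⟩
    rw [mul_smul, mul_smul, inv_smul_eq_iff]
    fin_cases i
    · simp [h1a, h2a, hga]
    · simp [h1b, h2b, hgb]
    · simpa using hgc
  · exact Or.inr (hlarge.2 (by omega))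
  · exfalso
    have := hlarge.1
    have h4 := Nat.mul_le_mul_left d (show 3 ≤ c + 1 + 1 + 1 by omega)
    omega

end Cfsg.Agent.S0731
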