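import Cfsg.Statements.S0508
import Cfsg.Agent.Lib.BSW.DihedralTI

set_option autoImplicit false
set_option linter.style.haveILetI false
open Cfsg

namespace Cfsg.Agent.S0508

/-- Let G be a finite simple group with a dihedral Sylow 2-subgroup S (of order at least 4), t an involution in the
centre of S, C the centralizer of t and O the core of C (its largest normal subgroup of odd order). Suppose that: if O
is nontrivial then the centralizer of O in S is cyclic of index 2 in S; every element of S not centralizing O inverts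
every element of O; and the normalizer of every nontrivial subgroup of O lies in C. Then G is isomorphic to a projective
special linear group of dimension 2 over a field of odd order. -/
theorem result {G : Type*} [Group G] [Finite G] [IsSimpleGroup G] (S : Sylow 2 G) (n : ℕ)
    (hn : 2 ≤ n) (hS : Nonempty ((S : Subgroup G) ≃* DihedralGroup n)) (t : G) (ht : orderOf t = 2)
    (htS : t ∈ (S : Subgroup G))
    (htZ : ∀ s ∈ (S : Subgroup G), s * t = t * s) (O : Subgroup G)
    (hO : O = (Cfsg.oddCore (Subgroup.centralizer ({t} : Set G))).map (Subgroup.centralizer ({t} : Set G)).subtype)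
    (ha : O ≠ ⊥ → IsCyclic ((S : Subgroup G) ⊓ Subgroup.centralizer (O : Set G) : Subgroup G) ∧
      ((S : Subgroup G) ⊓ Subgroup.centralizer (O : Set G)).relIndex (S : Subgroup G) = 2)
    (hb : ∀ s ∈ (S : Subgroup G), s ∉ Subgroup.centralizer (O : Set G) → ∀ y ∈ O, s * y * s⁻¹ = y⁻¹)
    (hc : ∀ Y : Subgroup G, Y ≤ O → Y ≠ ⊥ → Subgroup.normalizer (Y : Set G) ≤ Subgroup.centralizer ({t} : Set G)) :
    ∃ (F : Type) (_ : Field F) (_ : Fintype F), Odd (Fintype.card F) ∧ Nonempty (G ≃* Matrix.ProjectiveSpecialLinearGroup (Fin 2) F) := by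
  obtain ⟨e⟩ := hS
  obtain ⟨g⟩ := Cfsg.Agent.BSW.DihedralTI.exists_gens S hn e ht htS htZ
  haveI : Fact (Nat.Prime 2) := ⟨Nat.prime_two⟩
  have h4 : 4 ∣ Nat.card G := by
    refine Dvd.dvd.trans ?_ (S : Subgroup G).card_subgroup_dvd_card
    rw [g.hcard, g.hn, ← pow_succ']
    exact Dvd.intro (2 ^ g.k) (by ring)
  have hnc : ¬ IsMulCommutative G := fun h => by
    letI : CommGroup G := { (inferInstance : Group G) with mul_comm := h.is_comm.comm }
    have hp := IsSimpleGroup.prime_card (α := G)
    obtain ⟨m, hm⟩ := h4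
    exact Nat.not_prime_mul (show 2 ≠ 1 by omega) (show 2 * m ≠ 1 by omega)
      (show (2 * (2 * m)).Prime by rwa [← mul_assoc, show 2 * 2 = 4 from rfl, ← hm])
  have hM : ∀ M : Subgroup G, M.Normal → M.index ≠ 2 := by
    intro M hMn hMi
    rcases hMn.eq_bot_or_eq_top with rfl | rfl
    · rw [Subgroup.index_bot] at hMi; omega
    · rw [Subgroup.index_top] at hMi; omega
  letI := Fintype.ofFinite G
  obtain ⟨c, hct, hSC⟩ :=
    Cfsg.Agent.BSW.DihedralTI.exists_config g htS htZ ht hM O hO ha hb hc
  obtain ⟨Q, D, hG, hQC, -, hD, hQD, hN, -⟩ := c.conclusion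
  refine Cfsg.Agent.BSW.DihedralTI.exists_psl hG hQC hD hQD hN ?_
  by_contra h5
  have hpos : 0 < Nat.card D := Nat.card_pos
  have hq3 : Nat.card Q = 3 := by omega
  rw [hq3] at hG
  have h12 : Nat.card G = 12 := by omega
  -- a simple group of order twelve does not exist
  have hcG := c.card_G
  rw [h12] at hcG
  have hHtop : c.H ≠ ⊤ := fun h => by
    have htc : c.t ∈ Subgroup.center G := Subgroup.mem_center_iff.2 fun x =>
      Subgroup.mem_centralizer_singleton_iff.1 (h ▸ Subgroup.mem_top x : x ∈ c.H)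
    rcases (inferInstance : (Subgroup.center G).Normal).eq_bot_or_eq_top with hz | hz
    · rw [hz, Subgroup.mem_bot] at htc; exact c.t_ne htc
    · exact hnc ⟨⟨fun a b => Subgroup.mem_center_iff.1 (hz ▸ Subgroup.mem_top b) a⟩⟩
  have hHlt : Nat.card c.H < 12 := by
    refine lt_of_le_of_ne (h12 ▸ Subgroup.card_le_card_group _) fun h => hHtop ?_
    exact Subgroup.eq_top_of_card_eq _ (h.trans h12.symm)
  have h4H : 4 ∣ Nat.card c.H := by
    refine Dvd.dvd.trans ?_ (Subgroup.card_dvd_of_le (show (S : Subgroup G) ≤ Subgroup.centralizer ({c.t} : Set G) by rw [hct]; exact hSC))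
    rw [g.hcard, g.hn, ← pow_succ']
    exact Dvd.intro (2 ^ g.k) (by ring)
  have hHdvd : Nat.card c.H ∣ 12 := h12 ▸ Subgroup.card_subgroup_dvd_card _
  have hH4 : Nat.card c.H = 4 := by
    obtain ⟨m, hm⟩ := h4H
    rw [hm] at hHdvd hHlt ⊢
    have : m = 0 ∨ m = 1 ∨ m = 2 := by omega
    rcases this with rfl | rfl | rfl
    · norm_num at hHdvd
    · rfl
    · norm_num at hHdvd
  have hK2 : Nat.card c.K = 2 := by have := c.card_H; omega
  have hN3 : c.numInv = 3 := by rw [hK2] at hcG; omega
  have hinv : ∀ x ∈ c.H, x ≠ 1 → orderOf x = 2 := by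
    intro x hx hx1
    by_cases hxK : x ∈ c.K
    · rcases c.mem_K_two hK2 hxK with rfl | rfl
      · exact absurd rfl hx1
      · exact c.ht
    · exact c.coset_sq hx hxK
  have hall : ∀ x : G, orderOf x = 2 → x ∈ c.H := by
    have hsub : ((c.H : Set G) \ {1}) ⊆ {x : G | orderOf x = 2} := fun x hx =>
      hinv x hx.1 hx.2
    have heq : ((c.H : Set G) \ {1}) = {x : G | orderOf x = 2} := by
      refine Set.eq_of_subset_of_ncard_le hsub ?_ (Set.toFinite _)
      rw [Set.ncard_sdiff_singleton_of_mem (one_mem c.H), ← Nat.card_coe_set_eq, ← Nat.card_coe_set_eq]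
      show c.numInv ≤ Nat.card c.H - 1
      omega
    exact fun x hx => (heq.ge hx).1
  have hnorm : c.H.Normal := ⟨fun x hx a => by
    by_cases hx1 : x = 1
    · subst hx1; simp
    · exact hall _ (((MulAut.conj a).orderOf_eq x).trans (hinv x hx hx1))⟩
  rcases hnorm.eq_bot_or_eq_top with h | h
  · exact c.t_ne (Subgroup.mem_bot.1 (h ▸ c.t_mem_H))
  · exact hHtop h

end Cfsg.Agent.S0508
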