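import Cfsg.Statements.S0805
import Cfsg.Agent.Lib.PSL2.Subfield
import Cfsg.Agent.Lib.GL.Basic

set_option autoImplicit false
open Cfsg

namespace Cfsg.Agent.S0805

/-- Subfield subgroups: let F be a finite field of odd order q and K a finite field with |K|^m = q, m ≥ 1. Then PSL_2(F) has a subgroup isomorphic to PSL_2(K), and has a subgroup isomorphic to PGL_2(K) if and only if m is even. -/
theorem result {F K : Type*} [Field F] [Fintype F] [Field K] [Fintype K] {q : ℕ} (hF : Fintype.card F = q) (hodd : Odd q) (m : ℕ) (hm : 1 ≤ m) (hK : Fintype.card K ^ m = q) : (∃ H : Subgroup (Matrix.ProjectiveSpecialLinearGroup (Fin 2) F), Nonempty (H ≃* Matrix.ProjectiveSpecialLinearGroup (Fin 2) K)) ∧ ((∃ H : Subgroup (Matrix.ProjectiveSpecialLinearGroup (Fin 2) F), Nonempty (H ≃* Matrix.ProjGenLinGroup (Fin 2) K)) ↔ Even m) := by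
  have hF' : Fintype.card F = Fintype.card K ^ m := hF.trans hK.symm
  obtain ⟨φ⟩ := FieldExt.exists_ringHom_of_card_pow (F := K) (K := F) (by omega : m ≠ 0) hF'
  refine ⟨⟨_, ⟨(MonoidHom.ofInjective (PSL2.pslMap_injective φ)).symm⟩⟩, ?_, fun hev => ?_⟩
  · rintro ⟨H, ⟨e⟩⟩
    by_contra hev
    rw [Nat.not_even_iff_odd] at hev
    obtain ⟨r, rfl⟩ := hev
    have h2 : (2 : F) ≠ 0 := PSL2.odd_card_iff.1 (hF ▸ hodd)
    have hd := H.card_subgroup_dvd_card
    rw [Nat.card_congr e.toEquiv, GL.card_PGL, PSL2.card_SL] at hd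
    have hd2 := Nat.mul_dvd_mul_left 2 hd
    rw [PSL2.two_mul_card_PSL h2, hF'] at hd2
    have hkodd : Odd (Fintype.card K) := by
      rw [← hK] at hodd
      exact (Nat.odd_pow_iff (by omega)).1 hodd
    have hk1 : 1 < Fintype.card K := Fintype.one_lt_card
    generalize Fintype.card K = k at *
    have hgeom : (k ^ (2 * r + 1)) ^ 2 - 1 =
        (k ^ 2 - 1) * ∑ i ∈ Finset.range (2 * r + 1), (k ^ 2) ^ i := by
      rw [← pow_mul, mul_comm (2 * r + 1) 2, pow_mul, mul_comm (k ^ 2 - 1)]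
      exact (geom_sum_mul_of_one_le (Nat.one_le_pow 2 k (by omega)) _).symm
    rw [hgeom] at hd2
    have hpos : 0 < k * (k ^ 2 - 1) := by
      have : 2 * 2 ≤ k * k := Nat.mul_le_mul hk1 hk1
      have : 0 < k ^ 2 - 1 := by rw [pow_two]; omega
      positivity
    have h2dvd : 2 * (k * (k ^ 2 - 1)) ∣
        k ^ (2 * r) * (∑ i ∈ Finset.range (2 * r + 1), (k ^ 2) ^ i) * (k * (k ^ 2 - 1)) :=
      hd2.trans (dvd_of_eq (by ring))
    have hfin := Nat.dvd_of_mul_dvd_mul_right hpos h2dvd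
    rw [Nat.dvd_iff_mod_eq_zero, Nat.mul_mod, Finset.sum_nat_mod] at hfin
    simp [Nat.pow_mod, Nat.odd_iff.1 hkodd, Nat.add_mod] at hfin
  · obtain ⟨f, hf⟩ := PSL2.exists_pgl_embedding φ (PSL2.isSquare_of_even φ hev hF'.symm)
    exact ⟨_, ⟨(MonoidHom.ofInjective hf).symm⟩⟩

end Cfsg.Agent.S0805
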