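import Cfsg.Statements.S3008
import Cfsg.Agent.Lib.CLarge.Replacement
import Mathlib.GroupTheory.Nilpotent

set_option autoImplicit false
open Cfsg

namespace Cfsg.Agent.S3008

open Subgroup CLarge
open scoped Pointwise

theorem card_mul_eq_of_centrallyLarge {G : Type*} [Group G] [Finite G] {Q : Subgroup G}
    (hQ : Cfsg.IsCentrallyLarge Q) :
    Nat.card Q * Nat.card ↥(centralizer (Q : Set G)) = Cfsg.maxCentralizerProduct G :=
  (isCentrallyLarge_iff.mp hQ).1

theorem exists_normalized {G : Type*} [Group G] [Finite G] [Group.IsNilpotent G] :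
    ∃ Q : Subgroup G, Cfsg.IsMinimalCentrallyLarge Q ∧
      Cfsg.thompsonSubgroupA G ≤ normalizer (Q : Set G) ∧
      Cfsg.minimalCentrallyLargeJoin G ≤ normalizer (Q : Set G) := by
  obtain ⟨Q₀, hQ₀⟩ := exists_isCentrallyLarge (G := G)
  obtain ⟨R₀, -, hR₀⟩ := exists_isMinimalCentrallyLarge_le hQ₀
  obtain ⟨Q, hQ, hmax⟩ := Set.exists_max_image {Q : Subgroup G | Cfsg.IsMinimalCentrallyLarge Q} depth
    (Set.toFinite _) ⟨R₀, hR₀⟩
  obtain ⟨hQm, hZQ⟩ := isCentrallyLarge_iff.mp hQ.1
  obtain ⟨-, hCC⟩ := isCentralizerLarge_centralizer hQm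
  set A := centralizer (Q : Set G) with hA
  have key : ∀ T : Subgroup G, T ≤ centralizer (T : Set G) →
      ((A ⊔ T : Subgroup G) : Set G) = (A : Set G) * (T : Set G) → T ≤ normalizer (A : Set G) := by
    intro T hT hp
    by_contra h
    obtain ⟨Q', hQ', hlt⟩ := exists_depth_lt hQ hT hp h
    exact absurd (hmax Q' hQ') (not_le.mpr hlt)
  have hNA : normalizer (A : Set G) ≤ normalizer (Q : Set G) := by
    have := normalizer_le_normalizer_centralizer' (A : Set G)
    rwa [hCC] at this
  refine ⟨Q, hQ, sSup_le fun T hT => (key T (isMulCommutative_iff_le_centralizer.mp hT.1) ?_).trans hNA,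
    sSup_le fun R hR => ?_⟩
  · obtain ⟨hprod, -, hX⟩ := sup_maxAbelian hQ.1 hT
    have hCX := centralizer_eq_of_mem_maxAbelian hX
    set I := Q ⊓ T
    refine Set.Subset.antisymm (fun y hy => ?_) ?_
    · obtain ⟨q, hq, t, ht, rfl⟩ : y ∈ (Q : Set G) * (T : Set G) := hprod ▸ (sup_le_sup_right hZQ T) hy
      have hle : A ⊔ T ≤ centralizer (I : Set G) := sup_le
        (centralizer_le (SetLike.coe_subset_coe.mpr inf_le_left))
        ((centralizer_eq_of_mem_maxAbelian hT).ge.trans (centralizer_le (SetLike.coe_subset_coe.mpr inf_le_right)))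
      have hqI : q ∈ centralizer (I : Set G) := by
        have := mul_mem (hle hy) (inv_mem (hle (mem_sup_right ht)))
        rwa [mul_inv_cancel_right] at this
      have hqX : q ∈ A ⊔ I := by
        rw [← hCX, centralizer_sup]
        exact ⟨by rw [hCC]; exact hq, hqI⟩
      obtain ⟨a, ha, i, hi, rfl⟩ := exists_mul_of_commute (le_centralizer_iff.mp
        (centralizer_le (SetLike.coe_subset_coe.mpr inf_le_left) : A ≤ centralizer (I : Set G))) hqX
      exact ⟨a, ha, i * t, T.mul_mem hi.2 ht, (mul_assoc a i t).symm⟩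
    · rintro _ ⟨a, ha, t, ht, rfl⟩
      exact mul_mem (mem_sup_left ha) (mem_sup_right ht)
  · obtain ⟨hRm, hZR⟩ := isCentrallyLarge_iff.mp hR.1
    have hR' := (pair_facts hR hQ.1).1
    rw [hR']
    refine sup_le (inf_le_right.trans le_normalizer) ((key _ ?_ ?_).trans hNA)
    · exact hZR.trans (isCentralizerLarge_centralizer hRm).2.ge
    · exact (chermakDelgado hQm hRm).2.2.2.2.1

/-- Let P be a finite p-group, with J(P) generated by its abelian subgroups of largest order and J̃(P) = C_P(Z(J(P))); call R ≤ P centrally large if |R|·|Z(R)| is as large as possible, and let P_MCL be generated by the minimal centrally large subgroups. Then: for every centrally large Q, Q·J(P) ⊇ J̃(P); some minimal centrally large subgroup of P is normalized by both J(P) and P_MCL; if P = J(P) and d(P)² = |P|·|Z(P)|, where d(P) is the largest order of an abelian subgroup, then every minimal centrally large subgroup of P is abelian; and if every minimal centrally large subgroup is abelian then J̃(P)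 = J(P). -/
theorem result {p : ℕ} [Fact p.Prime] (P : Type*) [Group P] [Finite P] (hP : IsPGroup p P) : (∀ Q : Subgroup P, Cfsg.IsCentrallyLarge Q → Subgroup.centralizer ((Cfsg.thompsonSubgroupA P ⊓ Subgroup.centralizer (Cfsg.thompsonSubgroupA P : Set P) : Subgroup P) : Set P) ≤ Q ⊔ Cfsg.thompsonSubgroupA P) ∧ (∃ Q : Subgroup P, Cfsg.IsMinimalCentrallyLarge Q ∧ Cfsg.thompsonSubgroupA P ≤ Subgroup.normalizer (Q : Set P) ∧ Cfsg.minimalCentrallyLargeJoin P ≤ Subgroup.normalizer (Q : Set P)) ∧ (Cfsg.thompsonSubgroupA P = ⊤ → (∀ A ∈ Cfsg.maxAbelianSubgroups P, Nat.card ↥A ^ 2 = Nat.card P * Nat.card ↥(Subgroup.center P)) → ∀ Q : Subgroup P, Cfsg.IsMinimalCentrallyLarge Q → IsMulCommutative ↥Q) ∧ ((∀ Q : Subgroup P, Cfsg.IsMinimalCentrallyLarge Q → IsMulCommutative ↥Q) → Subgroup.centralizer ((Cfsg.thompsonSubgroupA P ⊓ Subgroup.centralizer (Cfsg.thompsonSubgroupA P : Set P) : Subgroup P) : Set P) = Cfsg.thompsonSubgroupA P) := by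
  have : Group.IsNilpotent P := hP.isNilpotent
  obtain ⟨A, hA⟩ := exists_mem_maxAbelian P
  have hAA : Subgroup.centralizer (A : Set P) = A := centralizer_eq_of_mem_maxAbelian hA
  refine ⟨fun Q hQ => centralizer_thompsonCenter_le (isCentrallyLarge_sup_thompsonSubgroupA hQ) le_sup_right,
    exists_normalized, fun hJ hd Q hQ => ?_, fun hall => ?_⟩
  · obtain ⟨hQm, hZQ⟩ := isCentrallyLarge_iff.mp hQ.1
    have hPCL : Cfsg.IsCentrallyLarge (⊤ : Subgroup P) := by
      have := isCentrallyLarge_sup_thompsonSubgroupA hQ.1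
      rwa [hJ, sup_top_eq] at this
    have hf : Cfsg.maxCentralizerProduct P = Nat.card P * Nat.card ↥(Subgroup.center P) := by
      rw [← (isCentrallyLarge_iff.mp hPCL).1, Subgroup.card_top, Subgroup.coe_top, Subgroup.centralizer_univ]
    obtain ⟨-, -, hX⟩ := sup_maxAbelian hQ.1 hA
    have hXCL : Cfsg.IsCentrallyLarge (Subgroup.centralizer (Q : Set P) ⊔ (Q ⊓ A)) := by
      have hCX := centralizer_eq_of_mem_maxAbelian hX
      refine isCentrallyLarge_iff.mpr ⟨?_, hCX.le⟩
      rw [Cfsg.IsCentralizerLarge, hCX, ← sq, hd _ hX, hf]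
    have hXQ := hQ.2 _ (sup_le hZQ inf_le_left) hXCL
    rw [← hXQ]
    exact hX.1
  · refine le_antisymm ?_ (Subgroup.le_centralizer_iff.mp inf_le_right)
    obtain ⟨Q₀, hQ₀⟩ := exists_isCentrallyLarge (G := P)
    obtain ⟨Q, -, hQ⟩ := exists_isMinimalCentrallyLarge_le hQ₀
    obtain ⟨hQm, hZQ⟩ := isCentrallyLarge_iff.mp hQ.1
    have hCQ : Subgroup.centralizer (Q : Set P) = Q :=
      le_antisymm hZQ (isMulCommutative_iff_le_centralizer.mp (hall Q hQ))
    have hQA : Nat.card A ≤ Nat.card Q := by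
      have h1 := le_maxCentralizerProduct A
      rw [hAA] at h1
      rw [Cfsg.IsCentralizerLarge, hCQ] at hQm
      rw [← hQm] at h1
      exact Nat.mul_self_le_mul_self_iff.mp h1
    have hQJ : Q ≤ Cfsg.thompsonSubgroupA P := le_sSup ⟨hall Q hQ, fun B hB => (hA.2 B hB).trans hQA⟩
    refine (centralizer_thompsonCenter_le (isCentrallyLarge_sup_thompsonSubgroupA hQ.1) le_sup_right).trans ?_
    exact sup_le hQJ le_rfl

end Cfsg.Agent.S3008
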