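import Cfsg.Statements.S0319
import Cfsg.Agent.Lib.BNPair.Basic

set_option autoImplicit false
open Cfsg

namespace Cfsg.Agent.S0319

/-- Simplicity criterion for groups with a (B,N)-pair: if the distinguished generators admit no
splitting into two non-empty mutually commuting parts, `B` is solvable, `G` is perfect and the intersection
of all conjugates of `B` is trivial, then `G` is simple. -/
theorem result {G : Type*} [Group G] [Nontrivial G]
    (P : Cfsg.BNPair G) (hirr : P.Irreducible) (hsolv : Group.IsSolvable P.B) (hperf : commutator G = ⊤)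
    (hcore : P.B.normalCore = ⊥) : IsSimpleGroup G := by
  refine ⟨fun N' hN' => ?_⟩
  by_cases hle : N' ≤ P.B
  · left
    rw [eq_bot_iff, ← hcore]
    exact (Subgroup.normal_le_normalCore (hN := hN')).2 hle
  right
  set M := N' ⊔ P.B with hMdef
  have hM : P.B ≤ M := le_sup_right
  set J := P.S ∩ (M : Set G) with hJdef
  have hMJ : M = P.parabolic J := BN.eq_parabolic_inter P hM
  by_cases hall : J = P.S
  · have htop : M = ⊤ := by rw [hMJ, hall, BN.parabolic_S]
    let π := (QuotientGroup.mk' N').comp P.B.subtype
    have hπ : Function.Surjective π := by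
      intro q
      obtain ⟨g, rfl⟩ := QuotientGroup.mk_surjective q
      have hg : g ∈ M := htop ▸ Subgroup.mem_top g
      obtain ⟨a, ha, b, hb, rfl⟩ := Subgroup.mem_sup_of_normal_left.1 hg
      refine ⟨⟨b, hb⟩, ?_⟩
      have : (QuotientGroup.mk a : G ⧸ N') = 1 := (QuotientGroup.eq_one_iff a).2 ha
      simp [π, this]
    have hs : Group.IsSolvable (G ⧸ N') := Group.isSolvable_of_surjective hπ
    have hp : commutator (G ⧸ N') = ⊤ := by
      rw [commutator_def, ← Subgroup.map_top_of_surjective (QuotientGroup.mk' N')
        (QuotientGroup.mk'_surjective N'), ← Subgroup.map_commutator, ← commutator_def, hperf]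
    by_contra hne
    haveI : Nontrivial (G ⧸ N') := by
      by_contra hnt
      rw [not_nontrivial_iff_subsingleton, QuotientGroup.subsingleton_iff] at hnt
      exact hne hnt
    exact absurd hp (ne_of_lt (Group.IsSolvable.commutator_lt_top_of_nontrivial _))
  · exfalso
    have hJne : J.Nonempty := by
      rw [Set.nonempty_iff_ne_empty]
      intro he
      apply hle
      refine le_trans le_sup_left (le_of_eq (hMJ.trans ?_))
      rw [he, BNPair.parabolic, Subgroup.closure_empty, sup_bot_eq]
    have hJS : J ⊆ P.S := Set.inter_subset_left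
    have hdiff : (P.S \ J).Nonempty := by
      rw [Set.nonempty_iff_ne_empty]
      exact fun he => hall (hJS.antisymm (Set.sdiff_eq_empty.1 he))
    obtain ⟨s, hs, s', ⟨hs'S, hs'J⟩, hcomm⟩ := hirr J hJS hJne hdiff
    have hsM : s ∈ M := hs.2
    have hs'M : s' ∉ M := fun h => hs'J ⟨hs'S, h⟩
    -- `s' s` conjugated into `M`
    obtain ⟨a, ha, b, hb, hab⟩ := Subgroup.mem_sup_of_normal_left.1 hsM
    have hyM : s' * s * b⁻¹ * s'⁻¹ ∈ M := by
      refine Subgroup.mem_sup_left ?_
      have e : s' * s * b⁻¹ * s'⁻¹ = s' * a * s'⁻¹ := by rw [← hab]; group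
      rw [e]
      exact hN'.conj_mem a ha s'
    let s0 : P.S := ⟨s, hJS hs⟩
    let t0 : P.S := ⟨s', hs'S⟩
    let n1 : P.N := ⟨s', P.subset hs'S⟩
    let n2 : P.N := ⟨s, P.subset (hJS hs)⟩
    have h1 : s' * s ∈ BN.cell P (BN.refl P t0 * BN.refl P s0) :=
      BN.mem_cell_self P (n1 * n2)
    have h2 : b⁻¹ * s'⁻¹ ∈ BN.cell P (BN.refl P t0) := by
      have := BN.inv_mem_cell P (BN.coe_mem_cell_refl P t0)
      rw [BN.refl_inv] at this
      simpa using BN.mul_mem_cell P this (P.B.inv_mem hb) P.B.one_mem
    rcases BN.mul_mem_or_right P h1 h2 with h3 | h3 <;>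
      rw [show s' * s * (b⁻¹ * s'⁻¹) = s' * s * b⁻¹ * s'⁻¹ by group] at h3
    · rw [hMJ] at hyM
      obtain ⟨l, hl, hyl⟩ := BN.exists_word_of_mem_parabolic P hJS hyM
      have hw := BN.cell_disjoint P hyl h3
      obtain ⟨l', hl', hw', hlen⟩ :=
        BN.exists_reduced_sublist P (J := {x : P.S | (x : G) ∈ J}) l hl
      have hne : t0 ≠ s0 := fun e => hs'J (by rw [show s' = s from congrArg Subtype.val e]; exact hs)
      -- the reduced word of `s' s s'` has length one
      have hlen1 : BN.len P (BN.word P l) = 1 := by
        have hl2 : BN.len P (BN.word P l) ≤ 3 := by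
          rw [hw]
          simpa [BN.word, mul_assoc] using BN.len_word_le P [t0, s0, t0]
        rcases Nat.lt_or_ge (BN.len P (BN.word P l)) 3 with hlt | hge
        · have e1 : BN.refl P t0 * BN.word P l = BN.refl P s0 * BN.refl P t0 := by
            rw [hw, ← mul_assoc, ← mul_assoc, BN.refl_mul_self, one_mul]
          have hz : BN.len P (BN.word P l) ≠ 0 := by
            intro hz
            rw [BN.len_eq_zero, hw] at hz
            have : BN.refl P s0 = 1 := by
              rw [← mul_left_cancel_iff (a := BN.refl P t0),
                ← mul_right_cancel_iff (a := BN.refl P t0), hz, mul_one, BN.refl_mul_self]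
            exact BN.refl_ne_one P _ this
          have h2ne : BN.len P (BN.word P l) ≠ 2 := by
            intro h2
            have h5 : BN.len P (BN.refl P s0 * BN.refl P t0) = 2 := by
              rcases BN.len_refl_mul_cases P s0 (BN.refl P t0) with h6 | h6 <;> rw [BN.len_refl] at h6
              · exact h6
              · exfalso
                have h7 : BN.len P (BN.refl P s0 * BN.refl P t0) = 0 := by omega
                rw [BN.len_eq_zero] at h7
                exact hne (BN.refl_injective P (mul_left_cancel (h7.trans (BN.refl_mul_self P s0).symm)))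
            rcases BN.len_refl_mul_cases P t0 (BN.word P l) with h6 | h6 <;>
              rw [e1, h5, h2] at h6 <;> omega
          omega
        · exfalso
          have hred : BN.len P (BN.word P [t0, s0, t0]) = [t0, s0, t0].length := by
            have : BN.word P [t0, s0, t0] = BN.word P l := by rw [hw]; simp [BN.word, mul_assoc]
            rw [this]
            simp only [List.length_cons, List.length_nil]
            omega
          have h3' : s' * s * b⁻¹ * s'⁻¹ ∈ BN.cell P (BN.word P [t0, s0, t0]) := by
            simpa [BN.word, mul_assoc] using h3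
          have hyM' : s' * s * b⁻¹ * s'⁻¹ ∈ M := by rwa [hMJ]
          exact hs'M ((BN.mem_of_conj_le P hM _ hred h3' (fun c hc =>
            M.mul_mem (M.mul_mem hyM' (hM hc)) (M.inv_mem hyM'))).2 t0 List.mem_cons_self)
      rw [hlen1] at hlen
      obtain ⟨r, rfl⟩ := List.length_eq_one_iff.1 hlen.symm
      rw [BN.word_singleton, hw] at hw'
      have hrJ : (r : G) ∈ J := hl' r List.mem_cons_self
      have hr : r = s0 := by
        have hmem : r ∈ ({t0, s0} : Set P.S) := by
          refine BN.mem_of_word_eq_refl P (l := [t0, s0, t0]) ?_ (by simp [BN.word, hw', mul_assoc])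
          intro x hx
          simp only [List.mem_cons, List.not_mem_nil, or_false] at hx
          rcases hx with rfl | rfl | rfl <;> simp
        rcases hmem with h | h
        · exact absurd (show s' ∈ J by rw [show s' = (r : G) by rw [h]]; exact hrJ) hs'J
        · exact h
      subst hr
      apply hcomm
      have hc : BN.refl P s0 * BN.refl P t0 = BN.refl P t0 * BN.refl P s0 := by
        calc BN.refl P s0 * BN.refl P t0
            = BN.refl P t0 * BN.refl P s0 * BN.refl P t0 * BN.refl P t0 := by rw [← hw']
          _ = _ := by rw [BN.refl_cancel_right]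
      have hc1 : BN.refl P s0 * BN.refl P t0 * (BN.refl P s0)⁻¹ * (BN.refl P t0)⁻¹ = 1 := by
        rw [hc]; group
      let n1 : P.N := ⟨s, P.subset (hJS hs)⟩
      let n2 : P.N := ⟨s', P.subset hs'S⟩
      have := (BN.mk_eq_one P (n := n1 * n2 * n1⁻¹ * n2⁻¹)).1 hc1
      simpa [n1, n2] using this
    · apply hs'M
      have := BN.cell_subset_of_mem P hM h3 hyM h1
      have := M.mul_mem this (M.inv_mem hsM)
      simpa using this

end Cfsg.Agent.S0319
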