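import Cfsg.Statements.S2518
import Cfsg.Agent.Lib.GTwoThree.Module
import Cfsg.Agent.Lib.PSL2.DicksonOrders
-- import your own Cfsg.Agent.* helpers here

set_option autoImplicit false
open Cfsg

namespace Cfsg.Agent.S2518

theorem prime_dvd_iff {r : ℕ} (hr : r.Prime) (a b c d : ℕ) (ha : 0 < a) (hb : 0 < b) (hc : 0 < c) (hd : 0 < d) :
    r ∣ 2 ^ a * 3 ^ b * 7 ^ c * 13 ^ d ↔ r = 2 ∨ r = 3 ∨ r = 7 ∨ r = 13 := by
  constructor
  · intro h
    have e : ∀ q k, q.Prime → r ∣ q ^ k → r = q := fun q k hq hqk =>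
      (Nat.prime_dvd_prime_iff_eq hr hq).1 (hr.dvd_of_dvd_pow hqk)
    rcases hr.dvd_mul.1 h with h | h
    · rcases hr.dvd_mul.1 h with h | h
      · rcases hr.dvd_mul.1 h with h | h
        · exact Or.inl (e 2 a Nat.prime_two h)
        · exact Or.inr (Or.inl (e 3 b Nat.prime_three h))
      · exact Or.inr (Or.inr (Or.inl (e 7 c (by norm_num) h)))
    · exact Or.inr (Or.inr (Or.inr (e 13 d (by norm_num) h)))
  · rintro (rfl | rfl | rfl | rfl)
    · exact (((dvd_pow_self 2 ha.ne').mul_right _).mul_right _).mul_right _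
    · exact (((dvd_pow_self 3 hb.ne').mul_left _).mul_right _).mul_right _
    · exact ((dvd_pow_self 7 hc.ne').mul_left _).mul_right _
    · exact (dvd_pow_self 13 hd.ne').mul_left _

open Cfsg.Lie in
theorem chevG2_equiv {F : Type*} [Field F] [Fintype F] (hF : Fintype.card F = 3) :
    Nonempty (chevG2.group F ≃* chevG2.group GTwoThree.K) := by
  haveI := Fact.mk Nat.prime_three
  let e : F ≃+* GTwoThree.K := (ZMod.ringEquivOfPrime F Nat.prime_three hF).symm
  have hinj : Function.Injective (Chev.BNSetup.entryMap chevG2 (e : F →+* GTwoThree.K)) :=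
    Units.map_injective fun A B h => Matrix.map_injective e.injective h
  refine ⟨((chevG2.group F).equivMapOfInjective _ hinj).trans (MulEquiv.subgroupCongr ?_)⟩
  rw [Chev.BNSetup.group_eq_closure_xe Chev.G2.good, Chev.BNSetup.group_eq_closure_xe Chev.G2.good,
    MonoidHom.map_closure]
  congr 1
  ext g
  constructor
  · rintro ⟨_, ⟨r, hr, t, rfl⟩, rfl⟩
    exact ⟨r, hr, e t, Chev.BNSetup.entryMap_xe Chev.G2.good _ r t⟩
  · rintro ⟨r, hr, t, rfl⟩
    refine ⟨_, ⟨r, hr, e.symm t, rfl⟩, ?_⟩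
    rw [Chev.BNSetup.entryMap_xe Chev.G2.good]
    simp

theorem two_pow_facts : (2 : ZMod 13) ≠ 0 ∧ ((2 : ZMod 13) ^ 6 = 1 ∨ (2 : ZMod 13) ^ 6 = -1) ∧
    ∀ m < 6, 0 < m → ¬((2 : ZMod 13) ^ m = 1 ∨ (2 : ZMod 13) ^ m = -1) := by decide

open Cfsg.Agent.PSL2 in
theorem psl_facts {E : Type*} [Field E] [Fintype E] (hE : Fintype.card E = 13) :
    Nat.card (Matrix.ProjectiveSpecialLinearGroup (Fin 2) E) = 1092 ∧
      (∃ y : Matrix.ProjectiveSpecialLinearGroup (Fin 2) E, orderOf y = 6) ∧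
      ∀ y : Matrix.ProjectiveSpecialLinearGroup (Fin 2) E, orderOf y ≤ 13 := by
  haveI := Fact.mk (show Nat.Prime 13 by norm_num)
  let e : ZMod 13 ≃+* E := ZMod.ringEquivOfPrime E (by norm_num) hE
  have hne : ∀ a b : ZMod 13, a ≠ b → e a ≠ e b := fun a b h h' => h (e.injective h')
  have h2 : (2 : E) ≠ 0 := by
    have := hne 2 0 two_pow_facts.1
    rwa [map_ofNat, map_zero] at this
  refine ⟨?_, ?_, fun y => hE ▸ (orderOf_psl_le y).2 h2⟩
  · have := two_mul_card_PSL (F := E) h2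
    rw [hE] at this
    omega
  · let u : Eˣ := Units.mk0 (2 : E) h2
    have hu : ∀ k : ℕ, ((u ^ k : Eˣ) : E) = e (2 ^ k) := fun k => by
      rw [Units.val_pow_eq_pow_val, map_pow, map_ofNat]; rfl
    refine ⟨mk (dd u), ?_⟩
    have key : ∀ k : ℕ, mk (dd u) ^ k = 1 ↔ ((2 : ZMod 13) ^ k = 1 ∨ (2 : ZMod 13) ^ k = -1) := by
      intro k
      rw [← map_pow, dd_pow, mk_eq_one]
      constructor
      · rintro (h | h)
        · exact Or.inl (e.injective (by rw [← hu, map_one]; simpa using congrArg (fun g : Matrix.SpecialLinearGroup (Fin 2) E => g.1 0 0) h))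
        · exact Or.inr (e.injective (by rw [← hu, map_neg, map_one]; simpa using congrArg (fun g : Matrix.SpecialLinearGroup (Fin 2) E => g.1 0 0) h))
      · rintro (h | h)
        · refine Or.inl ?_
          have : u ^ k = 1 := Units.ext (by rw [hu, h, map_one, Units.val_one])
          rw [this]; apply ext2 <;> simp
        · refine Or.inr ?_
          have : u ^ k = -1 := Units.ext (by rw [hu, h, map_neg, map_one, Units.val_neg, Units.val_one])
          rw [this]; apply ext2 <;> simp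
    rw [orderOf_eq_iff (by norm_num)]
    exact ⟨(key 6).2 two_pow_facts.2.1, fun m hm hm0 h => two_pow_facts.2.2 m hm hm0 ((key m).1 h)⟩

/-- Let F₃ be the field with 3 elements and F₁₃ the field with 13 elements. The Chevalley group G₂(F₃) and PSL(2, F₁₃) have the same prime graph: the same prime divisors of their orders, and for distinct primes r, s an element of order rs in one iff in the other. -/
theorem result {F : Type*} [Field F] [Fintype F] (hF : Fintype.card F = 3) {E : Type*} [Field E] [Fintype E] (hE : Fintype.card E = 13) :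
    ((∀ r : ℕ, r.Prime → (r ∣ Nat.card ↥(Cfsg.Lie.chevG2.group F) ↔ r ∣ Nat.card (Matrix.ProjectiveSpecialLinearGroup (Fin 2) E))) ∧
      (∀ r s : ℕ, r.Prime → s.Prime → r ≠ s → ((∃ x : ↥(Cfsg.Lie.chevG2.group F), orderOf x = r * s) ↔ (∃ y : (Matrix.ProjectiveSpecialLinearGroup (Fin 2) E), orderOf y = r * s)))) := by
  obtain ⟨φ⟩ := chevG2_equiv hF
  obtain ⟨hcard, ⟨y6, hy6⟩, hle⟩ := psl_facts hE
  have hG : Nat.card ↥(Cfsg.Lie.chevG2.group F) = 2 ^ 6 * 3 ^ 6 * 7 ^ 1 * 13 ^ 1 := by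
    rw [Nat.card_congr φ.toEquiv, GTwoThree.card_group]; norm_num
  have hP : Nat.card (Matrix.ProjectiveSpecialLinearGroup (Fin 2) E) = 2 ^ 2 * 3 ^ 1 * 7 ^ 1 * 13 ^ 1 := by
    rw [hcard]; norm_num
  refine ⟨fun r hr => ?_, fun r s hr hs hrs => ?_⟩
  · rw [hG, hP, prime_dvd_iff hr 6 6 1 1 (by norm_num) (by norm_num) one_pos one_pos,
      prime_dvd_iff hr 2 1 1 1 (by norm_num) one_pos one_pos one_pos]
  obtain ⟨x6, hx6⟩ := GTwoThree.exists_order_six
  have hx6' : orderOf (φ.symm x6) = 6 := by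
    rw [← hx6]; exact orderOf_injective φ.symm.toMonoidHom φ.symm.injective x6
  by_cases h6 : r * s = 6
  · exact ⟨fun _ => ⟨y6, by rw [hy6, h6]⟩, fun _ => ⟨φ.symm x6, by rw [hx6', h6]⟩⟩
  constructor
  · rintro ⟨x, hx⟩
    exfalso
    have hd : r * s ∣ Nat.card ↥(Cfsg.Lie.chevG2.group F) := hx ▸ orderOf_dvd_natCard x
    rw [hG] at hd
    have hr' := (prime_dvd_iff hr 6 6 1 1 (by norm_num) (by norm_num) one_pos one_pos).1
      ((Dvd.intro s rfl).trans hd)
    have hs' := (prime_dvd_iff hs 6 6 1 1 (by norm_num) (by norm_num) one_pos one_pos).1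
      ((Dvd.intro_left r rfl).trans hd)
    have hφ : orderOf (φ x) = r * s := by
      rw [← hx]; exact orderOf_injective φ.toMonoidHom φ.injective x
    by_cases hr7 : r = 7 ∨ r = 13
    · exact GTwoThree.no_order_mul hr7 hs _ hφ
    by_cases hs7 : s = 7 ∨ s = 13
    · exact GTwoThree.no_order_mul hs7 hr _ (by rw [hφ, mul_comm])
    rcases hr' with rfl | rfl | rfl | rfl <;> rcases hs' with rfl | rfl | rfl | rfl <;> omega
  · rintro ⟨y, hy⟩
    exfalso
    have hd : r * s ∣ Nat.card (Matrix.ProjectiveSpecialLinearGroup (Fin 2) E) := hy ▸ orderOf_dvd_natCard y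
    rw [hP] at hd
    have hr' := (prime_dvd_iff hr 2 1 1 1 (by norm_num) one_pos one_pos one_pos).1
      ((Dvd.intro s rfl).trans hd)
    have hs' := (prime_dvd_iff hs 2 1 1 1 (by norm_num) one_pos one_pos one_pos).1
      ((Dvd.intro_left r rfl).trans hd)
    have := hle y
    rw [hy] at this
    rcases hr' with rfl | rfl | rfl | rfl <;> rcases hs' with rfl | rfl | rfl | rfl <;> omega

end Cfsg.Agent.S2518
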