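import Cfsg.Statements.S1623
import Cfsg.Agent.Lib.HallJanko.CentralizerJ2

set_option autoImplicit false
open Quaternion
open Cfsg

namespace Cfsg.Agent.S1623

/-- A reflection centraliser in the Hall–Janko group is an extension of an extraspecial group of order 32 by the alternating group of degree 5. -/
theorem result (f : Equiv.Perm ↥Cfsg.Spor.icoLeech) (hf : Cfsg.Spor.IsIcoReflection f) (hfm : f ∈ Cfsg.Spor.twoJ2) : ∃ (Q : Subgroup ↥(Subgroup.centralizer {(QuotientGroup.mk ⟨f, hfm⟩ : Cfsg.Spor.J2)})) (_ : Q.Normal), Nat.card Q = 32 ∧ Cfsg.IsExtraspecial 2 Q ∧ Nonempty (↥(Subgroup.centralizer {(QuotientGroup.mk ⟨f, hfm⟩ : Cfsg.Spor.J2)}) ⧸ Q ≃* alternatingGroup (Fin 5)) := by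
  obtain ⟨e⟩ := HJ.reflection_centralizer f hf hfm
  let φ := HJ.five.comp e.toMonoidHom
  have hk : φ.ker = HJ.Q32.comap e.toMonoidHom := rfl
  let eQ : HJ.Q32 ≃* φ.ker :=
    ((e.subgroupMap φ.ker).trans (MulEquiv.subgroupCongr (by
      rw [hk]; exact Subgroup.map_comap_eq_self_of_surjective e.surjective _))).symm
  have hr : φ.range = alternatingGroup (Fin 5) := by
    rw [MonoidHom.range_comp, MonoidHom.range_eq_top.2 e.surjective, ← MonoidHom.range_eq_map,
      HJ.five_range]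
  exact ⟨φ.ker, inferInstance, (Nat.card_congr eQ.toEquiv).symm.trans HJ.card_five_eq.2,
    TI.isExtraspecial_congr eQ HJ.Q32_extraspecial,
    ⟨(QuotientGroup.quotientKerEquivRange φ).trans (MulEquiv.subgroupCongr hr)⟩⟩

end Cfsg.Agent.S1623
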