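import Cfsg.Statements.S3378
import Cfsg.Agent.Lib.Presented.A5
import Cfsg.Agent.Lib.SmallSimple.Low
import Cfsg.Agent.Lib.GL.Basic

set_option autoImplicit false
open Cfsg

namespace Cfsg.Agent.S3378

universe v

/-- A group of order 120 is not simple. -/
theorem not_simple_120 {G : Type*} [Group G] [Finite G] (h : Nat.card G = 120)
    (hns : ¬ Group.IsSolvable G) : ¬ IsSimpleGroup G := by
  intro hs
  have hG : ¬ IsMulCommutative G := fun hc => hns (Group.isSolvable_of_comm fun a b => hc.is_comm.comm a b)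
  haveI : Fact (Nat.Prime 5) := ⟨by norm_num⟩
  have h5 := SmallSimple.five_le_card_sylow (p := 5) hG (by rw [h]; norm_num)
  obtain ⟨P⟩ : Nonempty (Sylow 5 G) := Sylow.nonempty
  have hmod := card_sylow_modEq_one 5 G
  have hdvd := P.card_dvd_index
  have hPc : Nat.card (P : Subgroup G) = 5 := by
    obtain ⟨k, hk⟩ := IsPGroup.iff_card.1 P.2
    have h1 : 5 ∣ Nat.card (P : Subgroup G) := P.dvd_card_of_dvd_card (by rw [h]; norm_num)
    have h2 : 5 ^ k ∣ 120 := by rw [← hk, ← h]; exact Subgroup.card_subgroup_dvd_card _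
    rw [hk] at h1 ⊢
    rcases k with _ | _ | k
    · norm_num at h1
    · rfl
    · exact absurd ((pow_dvd_pow 5 (show 2 ≤ k + 1 + 1 by omega)).trans h2) (by norm_num)
  have hidx : (P : Subgroup G).index = 24 := by
    have := (P : Subgroup G).card_mul_index
    rw [hPc, h] at this; omega
  rw [hidx] at hdvd
  have hn : (Subgroup.normalizer ((P : Subgroup G) : Set G)).index = 6 := by
    refine (Sylow.card_eq_index_normalizer P).symm.trans ?_
    generalize Nat.card (Sylow 5 G) = s at h5 hmod hdvd
    have hle : s ≤ 24 := Nat.le_of_dvd (by norm_num) hdvd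
    interval_cases s <;> first | rfl | omega | (simp [Nat.ModEq] at hmod; done)
  set H := Subgroup.normalizer ((P : Subgroup G) : Set G)
  have hH : H ≠ ⊤ := fun e => by rw [e, Subgroup.index_top] at hn; omega
  let e : G ⧸ H ≃ Fin 6 := Finite.equivFinOfCardEq hn
  let f : G →* Equiv.Perm (Fin 6) := (Equiv.permCongrHom e).toMonoidHom.comp (MulAction.toPermHom G (G ⧸ H))
  have hf : Function.Injective f := (Equiv.permCongrHom e).injective.comp (SmallSimple.toPermHom_injective hH)
  let g : G →* alternatingGroup (Fin 6) := f.codRestrict _ fun x => SmallSimple.mem_alternating_of_simple hG f x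
  have hg : Function.Injective g := fun x y h => hf (congrArg Subtype.val h)
  have hgc : Nat.card g.range = 120 := (Nat.card_congr (MonoidHom.ofInjective hg).toEquiv).symm.trans h
  have hgi : g.range.index = 3 := by
    have := g.range.card_mul_index
    rw [hgc, nat_card_alternatingGroup, Nat.card_fin, show Nat.factorial 6 / 2 = 360 by decide] at this
    omega
  haveI : IsSimpleGroup (alternatingGroup (Fin 6)) := alternatingGroup.isSimpleGroup (by simp)
  have := SmallSimple.card_dvd_factorial (G := alternatingGroup (Fin 6)) (H := g.range)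
    (fun e => by rw [e, Subgroup.index_top] at hgi; omega)
  rw [hgi, nat_card_alternatingGroup, Nat.card_fin, show Nat.factorial 6 / 2 = 360 by decide,
    show Nat.factorial 3 = 6 by decide] at this
  norm_num at this

/-- A nonsolvable group of order properly dividing 120 has order 60. -/
theorem card_eq_sixty_of_nonsolvable {G : Type*} [Group G] [Finite G] (h : Nat.card G ∣ 120)
    (hlt : Nat.card G < 120) (hns : ¬ Group.IsSolvable G) : Nat.card G = 60 := by
  have hpq : ∀ {p q a b : ℕ}, p.Prime → q.Prime → Nat.card G = p ^ a * q ^ b → False :=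
    fun hp hq e => hns (CharInt.isSolvable_of_card_eq hp hq e)
  have hd : Nat.card G ∈ Nat.divisors 120 := Nat.mem_divisors.2 ⟨h, by norm_num⟩
  rw [show Nat.divisors 120 = {1, 2, 3, 4, 5, 6, 8, 10, 12, 15, 20, 24, 30, 40, 60, 120} by decide +kernel] at hd
  simp only [Finset.mem_insert, Finset.mem_singleton] at hd
  rcases hd with e | e | e | e | e | e | e | e | e | e | e | e | e | e | e | e
  · exact (hpq (a := 0) (b := 0) Nat.prime_two Nat.prime_three (by rw [e]; norm_num)).elim
  · exact (hpq (a := 1) (b := 0) Nat.prime_two Nat.prime_three (by rw [e]; norm_num)).elim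
  · exact (hpq (a := 0) (b := 1) Nat.prime_two Nat.prime_three (by rw [e]; norm_num)).elim
  · exact (hpq (a := 2) (b := 0) Nat.prime_two Nat.prime_three (by rw [e]; norm_num)).elim
  · exact (hpq (a := 0) (b := 1) Nat.prime_two Nat.prime_five (by rw [e]; norm_num)).elim
  · exact (hpq (a := 1) (b := 1) Nat.prime_two Nat.prime_three (by rw [e]; norm_num)).elim
  · exact (hpq (a := 3) (b := 0) Nat.prime_two Nat.prime_three (by rw [e]; norm_num)).elim
  · exact (hpq (a := 1) (b := 1) Nat.prime_two Nat.prime_five (by rw [e]; norm_num)).elim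
  · exact (hpq (a := 2) (b := 1) Nat.prime_two Nat.prime_three (by rw [e]; norm_num)).elim
  · exact (hpq (a := 1) (b := 1) Nat.prime_three Nat.prime_five (by rw [e]; norm_num)).elim
  · exact (hpq (a := 2) (b := 1) Nat.prime_two Nat.prime_five (by rw [e]; norm_num)).elim
  · exact (hpq (a := 3) (b := 1) Nat.prime_two Nat.prime_three (by rw [e]; norm_num)).elim
  · exfalso
    haveI : IsZGroup G := IsZGroup.of_squarefree (by rw [e]; decide +kernel)
    exact hns inferInstance
  · exact (hpq (a := 3) (b := 1) Nat.prime_two Nat.prime_five (by rw [e]; norm_num)).elim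
  · exact e
  · omega

theorem isSolvable_of_normal {G : Type*} [Group G] (M : Subgroup G) [M.Normal]
    (h1 : Group.IsSolvable M) (h2 : Group.IsSolvable (G ⧸ M)) : Group.IsSolvable G := by
  haveI := h1; haveI := h2
  exact Group.isSolvable_of_ker_le_range M.subtype (QuotientGroup.mk' M) (by simp)

/-- A nonsolvable group of order 60 is simple. -/
theorem simple_60 {Q : Type*} [Group Q] [Finite Q] (h : Nat.card Q = 60) (hns : ¬ Group.IsSolvable Q) :
    IsSimpleGroup Q := by
  haveI : Nontrivial Q := Finite.one_lt_card_iff_nontrivial.1 (by omega)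
  refine ⟨fun M hM => ?_⟩
  by_contra hc
  rw [not_or] at hc
  haveI := hM
  have h1 := Subgroup.card_eq_card_quotient_mul_card_subgroup M
  have hM1 : 1 < Nat.card M := (Subgroup.one_lt_card_iff_ne_bot M).2 hc.1
  have hQ1 : 1 < Nat.card (Q ⧸ M) := Subgroup.one_lt_index_of_ne_top hc.2
  rw [h] at h1
  refine hns (isSolvable_of_normal M (by_contra fun hs => ?_) (by_contra fun hs => ?_))
  · have h60 := card_eq_sixty_of_nonsolvable (Dvd.dvd.trans (Dvd.intro_left _ h1.symm) (by norm_num)) (by nlinarith) hs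
    rw [h60] at h1; omega
  · have h60 := card_eq_sixty_of_nonsolvable (Dvd.dvd.trans (Dvd.intro _ h1.symm) (by norm_num)) (by nlinarith) hs
    rw [h60] at h1; omega

abbrev rels : Set (FreeGroup (Fin 3)) := {FreeGroup.of (0 : Fin 3) ^ 3, FreeGroup.of (1 : Fin 3) ^ 5, FreeGroup.of (2 : Fin 3) ^ 2,
    (FreeGroup.of (2 : Fin 3))⁻¹ * FreeGroup.of 0 * FreeGroup.of 2 * (FreeGroup.of (0 : Fin 3))⁻¹,
    (FreeGroup.of (2 : Fin 3))⁻¹ * FreeGroup.of 1 * FreeGroup.of 2 * (FreeGroup.of (1 : Fin 3))⁻¹,
    (FreeGroup.of (0 : Fin 3) * FreeGroup.of 1) ^ 2 * (FreeGroup.of (2 : Fin 3))⁻¹}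

theorem presented_card_le : Finite (PresentedGroup rels) ∧ Nat.card (PresentedGroup rels) ≤ 120 := by
  let x : PresentedGroup rels := PresentedGroup.of 0
  let y : PresentedGroup rels := PresentedGroup.of 1
  let z : PresentedGroup rels := PresentedGroup.of 2
  have hrel : ∀ r ∈ rels, PresentedGroup.mk rels r = 1 := fun r hr => PresentedGroup.one_of_mem hr
  have hx : x ^ 3 = 1 := hrel _ (by simp)
  have hy : y ^ 5 = 1 := hrel _ (by simp)
  have hz : z ^ 2 = 1 := hrel _ (by simp)
  have hzx : z⁻¹ * x * z * x⁻¹ = 1 := hrel _ (by simp)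
  have hzy : z⁻¹ * y * z * y⁻¹ = 1 := hrel _ (by simp)
  have hxy : (x * y) ^ 2 * z⁻¹ = 1 := hrel _ (by simp)
  have hc : ∀ g : PresentedGroup rels, g * z = z * g := by
    intro g
    have hg : g ∈ Subgroup.closure (Set.range (PresentedGroup.of (rels := rels))) := by
      rw [PresentedGroup.closure_range_of]; trivial
    have hle : Subgroup.closure (Set.range (PresentedGroup.of (rels := rels))) ≤ Subgroup.centralizer {z} := by
      rw [Subgroup.closure_le]
      rintro _ ⟨i, rfl⟩
      rw [SetLike.mem_coe, Subgroup.mem_centralizer_singleton_iff]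
      fin_cases i
      · show x * z = z * x
        rw [mul_inv_eq_one, mul_assoc, inv_mul_eq_iff_eq_mul] at hzx
        exact hzx
      · show y * z = z * y
        rw [mul_inv_eq_one, mul_assoc, inv_mul_eq_iff_eq_mul] at hzy
        exact hzy
      · rfl
    exact Subgroup.mem_centralizer_singleton_iff.1 (hle hg)
  let Z := Subgroup.zpowers z
  haveI hZn : Z.Normal := ⟨fun a ha g => by
    obtain ⟨k, rfl⟩ := Subgroup.mem_zpowers_iff.1 ha
    rw [((show Commute g z from hc g).zpow_right k).eq, mul_inv_cancel_right]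
    exact Subgroup.zpow_mem_zpowers z k⟩
  let π := QuotientGroup.mk' Z
  have hπz : π z = 1 := (QuotientGroup.eq_one_iff z).2 (Subgroup.mem_zpowers z)
  have hgen : Subgroup.closure {π x, π y} = ⊤ := by
    rw [eq_top_iff, ← Subgroup.map_top_of_surjective π (QuotientGroup.mk'_surjective Z),
      ← PresentedGroup.closure_range_of rels, MonoidHom.map_closure, Subgroup.closure_le]
    rintro _ ⟨_, ⟨i, rfl⟩, rfl⟩
    fin_cases i
    · exact Subgroup.subset_closure (Or.inl rfl)
    · exact Subgroup.subset_closure (Or.inr rfl)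
    · show π z ∈ _; rw [hπz]; exact one_mem _
  obtain ⟨hfin, hle⟩ := Presented.A5.card_le (x := π x) (y := π y) hgen (by rw [← map_pow, hx, map_one])
    (by rw [← map_pow, hy, map_one])
    (by rw [← map_mul, ← map_pow, mul_inv_eq_one.1 hxy, hπz])
  have hZc : Nat.card Z ≤ 2 := by
    rw [Nat.card_zpowers]; exact orderOf_le_of_pow_eq_one two_pos hz
  haveI : Finite Z := Nat.finite_of_card_ne_zero (by
    rw [Nat.card_zpowers]; exact (orderOf_pos_iff.2 (isOfFinOrder_iff_pow_eq_one.2 ⟨2, two_pos, hz⟩)).ne')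
  haveI : Finite (PresentedGroup rels ⧸ Z) := hfin
  have hF : Finite (PresentedGroup rels) := Finite.of_subgroup_quotient Z
  refine ⟨hF, ?_⟩
  rw [Subgroup.card_eq_card_quotient_mul_card_subgroup Z]
  exact (Nat.mul_le_mul hle hZc).trans_eq (by norm_num)

/-- The presented group maps isomorphically onto any group of order 120 generated by such a triple. -/
theorem iso_of_gens {H : Type*} [Group H] [Finite H] (hH : Nat.card H = 120) (a b c : H)
    (ha : a ^ 3 = 1) (hb : b ^ 5 = 1) (hc : c ^ 2 = 1) (hac : a * c = c * a) (hbc : b * c = c * b)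
    (hab : (a * b) ^ 2 = c) (hgen : Subgroup.closure {a, b} = ⊤) : Nonempty (PresentedGroup rels ≃* H) := by
  have hlift : ∀ r ∈ rels, FreeGroup.lift ![a, b, c] r = 1 := by
    rintro r (rfl | rfl | rfl | rfl | rfl | rfl)
    · simp [ha]
    · simp [hb]
    · simp [hc]
    · simp [mul_assoc]; rw [← mul_assoc a c, hac]; simp
    · simp [mul_assoc]; rw [← mul_assoc b c, hbc]; simp
    · simp [hab]
  let f := PresentedGroup.toGroup (rels := rels) hlift
  have hf : Function.Surjective f := by
    rw [← MonoidHom.range_eq_top, eq_top_iff, ← hgen, Subgroup.closure_le]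
    rintro u (rfl | rfl)
    · exact ⟨_, PresentedGroup.toGroup.of hlift (x := 0)⟩
    · exact ⟨_, PresentedGroup.toGroup.of hlift (x := 1)⟩
  obtain ⟨hfin, hle⟩ := presented_card_le
  exact ⟨MulEquiv.ofBijective f ((Nat.bijective_iff_surjective_and_card f).2
    ⟨hf, le_antisymm (hle.trans hH.ge) (Nat.card_le_card_of_surjective f hf)⟩)⟩

def X5 : Matrix.SpecialLinearGroup (Fin 2) (ZMod 5) := ⟨!![0, -1; 1, -1], by decide +kernel⟩
def Y5 : Matrix.SpecialLinearGroup (Fin 2) (ZMod 5) := ⟨!![1, 1; 0, 1], by decide +kernel⟩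
def c5 : Matrix.SpecialLinearGroup (Fin 2) (ZMod 5) := ⟨!![-1, 0; 0, -1], by decide +kernel⟩

theorem transvection_pow : ∀ t : ZMod 5,
    Matrix.SpecialLinearGroup.transvection (show (0 : Fin 2) ≠ 1 by decide) t = Y5 ^ t.val ∧
    Matrix.SpecialLinearGroup.transvection (show (1 : Fin 2) ≠ 0 by decide) t =
        (X5 * Y5) * Y5 ^ (-t).val * (X5 * Y5)⁻¹ := by
  decide +kernel

theorem card_sl25 : Fintype.card (Matrix.SpecialLinearGroup (Fin 2) (ZMod 5)) = 120 := by decide +kernel

theorem sl25 : Nonempty (PresentedGroup rels ≃* Matrix.SpecialLinearGroup (Fin 2) (ZMod 5)) := by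
  refine iso_of_gens ?_ X5 Y5 c5 (by decide +kernel) (by decide +kernel) (by decide +kernel) (by decide +kernel)
    (by decide +kernel) (by decide +kernel) ?_
  · rw [Nat.card_eq_fintype_card]; exact card_sl25
  · haveI : Fact (Nat.Prime 5) := ⟨by norm_num⟩
    set H := Subgroup.closure ({X5, Y5} : Set (Matrix.SpecialLinearGroup (Fin 2) (ZMod 5)))
    have hX : X5 ∈ H := Subgroup.subset_closure (Or.inl rfl)
    have hY : Y5 ∈ H := Subgroup.subset_closure (Or.inr rfl)
    refine GL.SL_eq_top_of_transvection_mem fun i j hij t => ?_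
    fin_cases i <;> fin_cases j <;> first | exact absurd rfl hij | skip
    · exact (transvection_pow t).1.symm ▸ H.pow_mem hY _
    · exact (transvection_pow t).2.symm ▸ H.mul_mem (H.mul_mem (H.mul_mem hX hY) (H.pow_mem hY _)) (H.inv_mem (H.mul_mem hX hY))

theorem unique120 (G : Type v) [Group G] [Finite G] (hG : Nat.card G = 120) (hns : ¬ Group.IsSolvable G)
    (hQ : ∀ P : Sylow 2 G, Nonempty ((P : Subgroup G) ≃* QuaternionGroup 2)) :
    Nonempty (G ≃* Matrix.SpecialLinearGroup (Fin 2) (ZMod 5)) := by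
  haveI : Fact (Nat.Prime 2) := ⟨Nat.prime_two⟩
  have hnotsimple := not_simple_120 hG hns
  haveI : Nontrivial G := Finite.one_lt_card_iff_nontrivial.1 (by omega)
  obtain ⟨N, hNn, hNb, hNt⟩ : ∃ N : Subgroup G, N.Normal ∧ N ≠ ⊥ ∧ N ≠ ⊤ := by
    by_contra hc
    push_neg at hc
    exact hnotsimple ⟨fun N hN => or_iff_not_imp_left.2 (hc N hN)⟩
  haveI := hNn
  have hcard := Subgroup.card_eq_card_quotient_mul_card_subgroup N
  rw [hG] at hcard
  have hN1 : 1 < Nat.card N := (Subgroup.one_lt_card_iff_ne_bot N).2 hNb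
  have hQ1 : 1 < Nat.card (G ⧸ N) := Subgroup.one_lt_index_of_ne_top hNt
  by_cases hNs : Group.IsSolvable N
  swap
  · exfalso
    have h60 := card_eq_sixty_of_nonsolvable (Dvd.intro_left _ hcard.symm) (by nlinarith) hNs
    -- every Sylow subgroup of a subgroup of order 60 is cyclic
    have hz : IsZGroup N := by
      refine ⟨fun p hp P => ?_⟩
      haveI := Fact.mk hp
      obtain ⟨Q, hPQ⟩ := (P.2.map N.subtype).exists_le_sylow
      obtain ⟨k, hk⟩ := IsPGroup.iff_card.1 P.2
      have hd : p ^ k ∣ 60 := by rw [← hk, ← h60]; exact Subgroup.card_subgroup_dvd_card _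
      by_cases hp2 : p = 2
      · subst hp2
        obtain ⟨e⟩ := hQ Q
        let g : (P : Subgroup N) →* QuaternionGroup 2 := (e.toMonoidHom.comp (Subgroup.inclusion hPQ)).comp
          ((P : Subgroup N).equivMapOfInjective N.subtype N.subtype_injective).toMonoidHom
        have hg : Function.Injective g :=
          (e.injective.comp (Subgroup.inclusion_injective hPQ)).comp (MulEquiv.injective _)
        have hk2 : k ≤ 2 := by
          have h4 : 2 ^ k ∣ 4 := (Nat.Coprime.pow_left k (by norm_num : Nat.Coprime 2 15)).dvd_of_dvd_mul_right (by simpa using hd : 2 ^ k ∣ 4 * 15)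
          exact (Nat.pow_dvd_pow_iff_le_right (by norm_num : 1 < 2)).1 (by simpa using h4)
        interval_cases k
        · haveI : Subsingleton (P : Subgroup N) := (Nat.card_eq_one_iff_unique.1 (by simpa using hk)).1
          exact isCyclic_of_subsingleton
        · exact isCyclic_of_prime_card (p := 2) (by simpa using hk)
        · by_contra hcyc
          have hexp : ∀ u : (P : Subgroup N), u ^ 2 = 1 := by
            intro u
            by_contra hu
            refine hcyc (isCyclic_of_orderOf_eq_card u ?_)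
            rw [hk, orderOf_eq_prime_pow (p := 2) (n := 1) (by simpa using hu)]
            rw [show 2 ^ (1 + 1) = Nat.card (P : Subgroup N) by rw [hk]]
            exact pow_card_eq_one'
          have huniq : ∀ u : QuaternionGroup 2, u ^ 2 = 1 → u = 1 ∨ u = QuaternionGroup.a 2 := by decide +kernel
          have hle : Nat.card (P : Subgroup N) ≤ Nat.card {u : QuaternionGroup 2 // u ^ 2 = 1} :=
            Nat.card_le_card_of_injective (fun u => ⟨g u, by rw [← map_pow, hexp, map_one]⟩)
              (fun u w h => hg (congrArg Subtype.val h))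
          rw [hk, Nat.card_eq_fintype_card] at hle
          have : Fintype.card {u : QuaternionGroup 2 // u ^ 2 = 1} = 2 := by decide +kernel
          omega
      · rcases Nat.lt_or_ge k 2 with hk2 | hk2
        · interval_cases k
          · haveI : Subsingleton (P : Subgroup N) := (Nat.card_eq_one_iff_unique.1 (by simpa using hk)).1
            exact isCyclic_of_subsingleton
          · exact isCyclic_of_prime_card (p := p) (by simpa using hk)
        · exfalso
          have h2 : p ^ 2 ∣ 60 := (pow_dvd_pow p hk2).trans hd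
          have hle : p ^ 2 ≤ 60 := Nat.le_of_dvd (by norm_num) h2
          have : p ≤ 7 := by nlinarith
          interval_cases p <;> first | omega | (norm_num at hp; done) | (norm_num at h2; done)
    exact hNs inferInstance
  have hQs : ¬ Group.IsSolvable (G ⧸ N) := fun h => hns (isSolvable_of_normal N hNs h)
  have hQ60 := card_eq_sixty_of_nonsolvable (Dvd.intro _ hcard.symm) (by nlinarith) hQs
  have hN2 : Nat.card N = 2 := by rw [hQ60] at hcard; omega
  haveI := simple_60 hQ60 hQs
  have hQc : ¬ IsMulCommutative (G ⧸ N) := fun hc => hQs (Group.isSolvable_of_comm fun a b => hc.is_comm.comm a b)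
  obtain ⟨φ⟩ := SmallSimple.iso_alternating_five hQc hQ60
  obtain ⟨c, hc⟩ : ∃ c : N, orderOf c = 2 := exists_prime_orderOf_dvd_card' 2 (dvd_of_eq hN2.symm)
  rw [← Subgroup.orderOf_coe] at hc
  have hNc : ∀ u ∈ N, u = 1 ∨ u = (c : G) := by
    intro u hu
    by_contra hcon
    rw [not_or] at hcon
    have h3 : 3 ≤ Nat.card N := by
      classical
      haveI := Fintype.ofFinite N
      rw [Nat.card_eq_fintype_card]
      refine le_trans (le_of_eq ?_) (Finset.card_le_univ ({1, c, ⟨u, hu⟩} : Finset N))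
      rw [Finset.card_eq_three.2]
      refine ⟨1, c, ⟨u, hu⟩, ?_, ?_, ?_, rfl⟩
      · intro e; rw [← e] at hc; simp at hc
      · intro e; exact hcon.1 (congrArg Subtype.val e).symm
      · intro e; exact hcon.2 (congrArg Subtype.val e).symm
    omega
  have hcen : ∀ g : G, g * (c : G) = (c : G) * g := by
    intro g
    rcases hNc _ (hNn.conj_mem _ c.2 g) with h | h
    · rw [conj_eq_one_iff.1 h] at hc; simp at hc
    · exact mul_inv_eq_iff_eq_mul.1 h
  -- the only involution is `c`
  have hinv : ∀ t : G, orderOf t = 2 → t = c := by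
    intro t ht
    have hK : IsPGroup 2 ↥(Subgroup.zpowers (c : G) ⊔ Subgroup.zpowers t) := by
      refine IsPGroup.to_sup_of_normal_left' (IsPGroup.of_card (n := 1) (by rw [Nat.card_zpowers, hc]; rfl))
        (IsPGroup.of_card (n := 1) (by rw [Nat.card_zpowers, ht]; rfl)) ?_
      rw [Subgroup.zpowers_le, Subgroup.mem_normalizer_iff_map_conj_eq, MonoidHom.map_zpowers]
      congr 1
      show t * c * t⁻¹ = c
      rw [hcen, mul_inv_cancel_right]
    obtain ⟨P, hP⟩ := hK.exists_le_sylow
    obtain ⟨e⟩ := hQ P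
    have huniq : ∀ u : QuaternionGroup 2, u ^ 2 = 1 → u = 1 ∨ u = QuaternionGroup.a 2 := by decide +kernel
    have key : ∀ u : G, orderOf u = 2 → ∀ hu : u ∈ (P : Subgroup G), e ⟨u, hu⟩ = QuaternionGroup.a 2 := by
      intro u hu hmem
      refine (huniq _ ?_).resolve_left fun h => ?_
      · rw [← map_pow]
        refine (congrArg e (Subtype.ext ?_)).trans (map_one e)
        show u ^ 2 = 1
        rw [← hu, pow_orderOf_eq_one]
      · rw [MulEquiv.map_eq_one_iff] at h
        rw [show u = 1 from congrArg Subtype.val h, orderOf_one] at hu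
        omega
    have h1 := key t ht (hP (Subgroup.mem_sup_right (Subgroup.mem_zpowers t)))
    have h2 := key c hc (hP (Subgroup.mem_sup_left (Subgroup.mem_zpowers _)))
    exact congrArg Subtype.val (e.injective (h1.trans h2.symm))
  obtain ⟨a, b, ha, hb, hab, hgen⟩ := Presented.A5.exists_gens
  let π : G →* alternatingGroup (Fin 5) := φ.toMonoidHom.comp (QuotientGroup.mk' N)
  have hπ : Function.Surjective π := φ.surjective.comp (QuotientGroup.mk'_surjective N)
  have hker : ∀ u, π u = 1 → u = 1 ∨ u = (c : G) := fun u hu =>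
    hNc u ((QuotientGroup.eq_one_iff u).1 (φ.map_eq_one_iff.1 hu))
  have hπc : π c = 1 := by
    show φ (QuotientGroup.mk' N (c : G)) = 1
    rw [QuotientGroup.mk'_apply, (QuotientGroup.eq_one_iff (c : G)).2 c.2, map_one]
  have hc2 : (c : G) ^ 2 = 1 := orderOf_dvd_iff_pow_eq_one.1 hc.dvd
  have hlift : ∀ (m : ℕ) (u : alternatingGroup (Fin 5)), Odd m → u ^ m = 1 → ∃ v : G, v ^ m = 1 ∧ π v = u := by
    intro m u hm hu
    obtain ⟨v, rfl⟩ := hπ u
    rcases hker (v ^ m) (by rw [map_pow, hu]) with h | h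
    · exact ⟨v, h, rfl⟩
    · refine ⟨v * c, ?_, by rw [map_mul, hπc, mul_one]⟩
      obtain ⟨j, rfl⟩ := hm
      rw [(show Commute v (c : G) from hcen v).mul_pow, h, ← pow_succ', show 2 * j + 1 + 1 = 2 * (j + 1) by ring, pow_mul, hc2, one_pow]
  obtain ⟨x, hx, hxa⟩ := hlift 3 a (by decide) ha
  obtain ⟨y, hy, hyb⟩ := hlift 5 b (by decide) hb
  have hne : π (x * y) ≠ 1 := by
    intro h
    rw [map_mul, hxa, hyb] at h
    have hba : b = a⁻¹ := eq_inv_of_mul_eq_one_right h
    rw [hba] at hb
    have h1 : a = 1 := by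
      have h5 : a ^ 5 = 1 := by rw [← inv_inj, ← inv_pow, hb, inv_one]
      calc a = (a ^ 3) ^ 2 * (a ^ 5)⁻¹ := by group
        _ = 1 := by rw [ha, h5]; group
    rw [hba, h1, inv_one, Set.pair_eq_singleton, Subgroup.closure_singleton_one] at hgen
    exact absurd hgen bot_ne_top
  have hxy2 : (x * y) ^ 2 = (c : G) := by
    refine (hker _ (by rw [map_pow, map_mul, hxa, hyb, hab])).resolve_left fun h => hne ?_
    have h2 : orderOf (x * y) = 2 := orderOf_eq_prime h (fun e => hne (by rw [e, map_one]))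
    rw [hinv _ h2, hπc]
  have htop : Subgroup.closure {x, y} = ⊤ := by
    rw [eq_top_iff]
    intro g _
    set H := Subgroup.closure ({x, y} : Set G)
    have hc' : (c : G) ∈ H := hxy2 ▸ H.pow_mem (H.mul_mem (Subgroup.subset_closure (Or.inl rfl)) (Subgroup.subset_closure (Or.inr rfl))) 2
    have hg : π g ∈ Subgroup.closure {a, b} := hgen ▸ Subgroup.mem_top _
    rw [← hxa, ← hyb, show ({π x, π y} : Set _) = π '' {x, y} by rw [Set.image_pair], ← MonoidHom.map_closure] at hg
    obtain ⟨h, hh, e⟩ := hg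
    rcases hker (h⁻¹ * g) (by rw [map_mul, map_inv, e, inv_mul_cancel]) with k | k
    · rw [← inv_mul_eq_one.1 k]; exact hh
    · rw [inv_mul_eq_iff_eq_mul.1 k]; exact H.mul_mem hh hc'
  obtain ⟨e1⟩ := iso_of_gens hG x y c hx hy hc2 (hcen x) (hcen y) hxy2 htop
  obtain ⟨e2⟩ := sl25
  exact ⟨e1.symm.trans e2⟩

/-- Every non-solvable group of order 120 whose Sylow 2-subgroups are quaternion of order 8 is isomorphic to SL(2,5), and SL(2,5) has the presentation ⟨x, y, z | x³ = y⁵ = z² = 1, z⁻¹xz = x, z⁻¹yz = y, (xy)² = z⟩. -/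
theorem result :
    (∀ (G : Type*) [Group G] [Finite G], Nat.card G = 120 → ¬ Group.IsSolvable G →
      (∀ P : Sylow 2 G, Nonempty ((P : Subgroup G) ≃* QuaternionGroup 2)) →
      Nonempty (G ≃* Matrix.SpecialLinearGroup (Fin 2) (ZMod 5))) ∧
    Nonempty (PresentedGroup ({FreeGroup.of (0 : Fin 3) ^ 3, FreeGroup.of (1 : Fin 3) ^ 5, FreeGroup.of (2 : Fin 3) ^ 2,
        (FreeGroup.of (2 : Fin 3))⁻¹ * FreeGroup.of 0 * FreeGroup.of 2 * (FreeGroup.of (0 : Fin 3))⁻¹,
        (FreeGroup.of (2 : Fin 3))⁻¹ * FreeGroup.of 1 * FreeGroup.of 2 * (FreeGroup.of (1 : Fin 3))⁻¹,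
        (FreeGroup.of (0 : Fin 3) * FreeGroup.of 1) ^ 2 * (FreeGroup.of (2 : Fin 3))⁻¹} : Set (FreeGroup (Fin 3)))
      ≃* Matrix.SpecialLinearGroup (Fin 2) (ZMod 5)) := by
  exact ⟨fun G _ _ => unique120 G, sl25⟩

end Cfsg.Agent.S3378
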