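import Cfsg.Statements.S3360
import Cfsg.Agent.Lib.SolvableTransitive.Main

set_option autoImplicit false
open Cfsg

namespace Cfsg.Agent.S3360

/-- Let q be a prime and V a non-trivial finite vector space over the field with q elements, and let G be a finite solvable group acting faithfully and linearly on V and transitively on the non-zero vectors. Then either V can be identified with the additive group of a finite field F in such a way that every element of G acts as x ↦ a·σ(x) for some a ∈ F and some field automorphism σ, or the number of elements of V is one of 3^2, 5^2, 7^2, 11^2, 23^2, 3^4. -/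
theorem result
    (q : ℕ) [Fact q.Prime] {V : Type*} [AddCommGroup V] [Module (ZMod q) V] [Finite V] [Nontrivial V]
    {G : Type*} [Group G] [Finite G] (hsol : Group.IsSolvable G)
    (ρ : G →* (V ≃ₗ[ZMod q] V)) (hρ : Function.Injective ρ)
    (htrans : ∀ v w : V, v ≠ 0 → w ≠ 0 → ∃ g : G, ρ g v = w) :
    (∃ (F : Type) (_ : Field F) (_ : Fintype F) (e : V ≃+ F),
        ∀ g : G, ∃ (a : F) (σ : F ≃+* F), ∀ v : V, e (ρ g v) = a * σ (e v)) ∨
    Nat.card V ∈ ({9, 25, 49, 121, 529, 81} : Set ℕ) := by
  letI : DistribMulAction G V :=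
    { smul := fun g v => ρ g v
      one_smul := fun v => by show ρ 1 v = v; rw [map_one]; rfl
      mul_smul := fun g h v => by show ρ (g * h) v = ρ g (ρ h v); rw [map_mul]; rfl
      smul_zero := fun g => map_zero (ρ g)
      smul_add := fun g v w => map_add (ρ g) v w }
  haveI : FaithfulSMul G V := ⟨fun h => hρ (LinearEquiv.ext h)⟩
  have hq : q.Prime := Fact.out
  have hV : ∀ v : V, q • v = 0 := fun v => by
    rw [← Nat.cast_smul_eq_nsmul (ZMod q), ZMod.natCast_self, zero_smul]
  refine (SolvableTransitive.selfCentralizing_or_exception hsol hq hV htrans).imp ?_ id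
  rintro ⟨A, hAn, hA, -, hone⟩
  have hR := SolvableTransitive.isField_spanRing htrans hA (V := V)
  letI : Field ↥(SolvableTransitive.spanRing V A) := hR.toField
  haveI : Finite (AddMonoid.End V) :=
    Finite.of_injective (fun f => (f : V → V)) DFunLike.coe_injective
  obtain ⟨v₀, hv₀⟩ := exists_ne (0 : V)
  have hq0 : (q : ↥(SolvableTransitive.spanRing V A)) = 0 :=
    Subtype.ext (AddMonoidHom.ext fun v => hV v)
  haveI : CharP ↥(SolvableTransitive.spanRing V A) q := (CharP.charP_iff_prime_eq_zero hq).mpr hq0
  obtain ⟨d, hd⟩ : ∃ d, Nat.card ↥(SolvableTransitive.spanRing V A) = q ^ d := by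
    letI := ZMod.algebra ↥(SolvableTransitive.spanRing V A) q
    exact ⟨_, by rw [Module.natCard_eq_pow_finrank (K := ZMod q), Nat.card_zmod]⟩
  have hd0 : d ≠ 0 := fun h => by
    rw [h, pow_zero] at hd
    exact absurd hd Finite.one_lt_card.ne'
  haveI : Fintype ↥(SolvableTransitive.spanRing V A) := Fintype.ofFinite _
  letI : Fintype (GaloisField q d) := Fintype.ofFinite _
  let f : ↥(SolvableTransitive.spanRing V A) ≃+* GaloisField q d :=
    FiniteField.ringEquivOfCardEq (by
      rw [← Nat.card_eq_fintype_card, ← Nat.card_eq_fintype_card, hd, GaloisField.card q d hd0])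
  let ev : ↥(SolvableTransitive.spanRing V A) →+ V :=
    (AddMonoidHom.eval v₀).comp (SolvableTransitive.spanRing V A).subtype.toAddMonoidHom
  have hev : Function.Bijective ev := by
    refine ⟨fun x y h => Subtype.ext (sub_eq_zero.mp
      (SolvableTransitive.eq_zero_of_apply_eq_zero htrans hA (sub_mem x.2 y.2) hv₀ ?_)), fun w => ?_⟩
    · show (x : AddMonoid.End V) v₀ - (y : AddMonoid.End V) v₀ = 0
      exact sub_eq_zero.mpr h
    · obtain ⟨x, hx, hxv⟩ := hone v₀ w hv₀
      exact ⟨⟨x, hx⟩, hxv⟩
  let e : V ≃+ GaloisField q d := (AddEquiv.ofBijective ev hev).symm.trans f.toAddEquiv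
  refine ⟨GaloisField q d, inferInstance, inferInstance, e, fun g => ?_⟩
  obtain ⟨t, ht⟩ := hev.2 (g • v₀)
  refine ⟨f t, f.symm.trans ((SolvableTransitive.galois V A g).trans f), fun v => ?_⟩
  obtain ⟨r, rfl⟩ := hev.2 v
  have hee : ∀ x, e (ev x) = f x := fun x => congrArg f ((AddEquiv.ofBijective ev hev).symm_apply_apply x)
  have hg : ρ g (ev r) = ev (SolvableTransitive.galois V A g r * t) := by
    show g • (r : AddMonoid.End V) v₀ =
      ((SolvableTransitive.galois V A g r * t : ↥(SolvableTransitive.spanRing V A)) : AddMonoid.End V) v₀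
    rw [SolvableTransitive.smul_apply_eq_galois, ← ht]
    rfl
  rw [hg, hee, hee, map_mul, mul_comm]
  exact congrArg (fun z => f t * f (SolvableTransitive.galois V A g z)) (f.symm_apply_apply r).symm

end Cfsg.Agent.S3360
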