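import Cfsg.Statements.S4455
import Cfsg.Agent.Lib.Clifford.GallagherExtension
import Cfsg.Agent.Lib.Glauberman.Congr
import Cfsg.Agent.Lib.Transfer.Residual
import Cfsg.Agent.Lib.Char.KernelSum
import Cfsg.Agent.Lib.Char.NormalAction
import Cfsg.Agent.S0887

set_option autoImplicit false
set_option linter.style.haveILetI false
open Cfsg

namespace Cfsg.Agent.S4455

open Cfsg.Agent.Char Cfsg.Agent.Glauberman
open Cfsg.Agent


/-- Fix a prime p and a finite group G. Let s be the sum of χ(1)² over the irreducible characters χ of G whose degree is not divisible by p and whose determinantal order o(χ) is not divisible by p. Then the order of O^p(G), the subgroup generated by the elements of order prime to p, is congruent to s modulo p. -/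
theorem result {G : Type*} [Group G] [Finite G] (p : ℕ) (hp : p.Prime) : (Nat.card (Cfsg.pResidual p G) : ℤ) ≡ (∑ᶠ χ ∈ {χ : Cfsg.IrrCharacter G | ¬ p ∣ Cfsg.charDegree (χ : G → ℂ) ∧ ¬ p ∣ Cfsg.detOrder (χ : G → ℂ)}, (Cfsg.charDegree (χ : G → ℂ) : ℤ) ^ 2) [ZMOD p] := by
  classical
  haveI := Fact.mk hp
  haveI := Fintype.ofFinite G
  haveI : (Cfsg.pResidual p G).Normal := Transfer.pResidual_normal p
  set K := Cfsg.pResidual p G with hK
  haveI := Fintype.ofFinite K
  obtain ⟨a, ha⟩ := Transfer.index_pResidual_eq_pow (G := G) p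
  have hco : ∀ k : ℕ, ¬ p ∣ k → Nat.Coprime K.index k := fun k hk => by
    rw [ha]
    exact (hp.coprime_iff_not_dvd.2 hk).pow_left a
  -- invariant characters have determinantal order prime to `p`
  have hdet : ∀ θ : IrrCharacter K, (∀ g, conjFun K θ.1 g = θ.1) →
      ¬ p ∣ Cfsg.detOrder θ.1 := fun θ hθ hpo => by
    obtain ⟨o, ho⟩ := hpo
    have hinv : ∀ (g : G) (n : K), Clifford.detChar θ (MulAut.conjNormal g n) =
        Clifford.detChar θ n := fun g n =>
      (Clifford.detChar_comp θ (MulAut.conjNormal g : MulAut K).toMonoidHom θ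
        (fun x => (congrFun (hθ g) x).symm) n).symm
    set μ : K →* ℂ := (powMonoidHom o).comp (Clifford.detChar θ)
    set M : Subgroup G := μ.ker.map K.subtype
    haveI : M.Normal := ⟨by
      rintro _ ⟨n, hn, rfl⟩ g
      refine ⟨MulAut.conjNormal g n, ?_, by simp⟩
      show Clifford.detChar θ (MulAut.conjNormal g n) ^ o = 1
      rw [hinv]
      exact hn⟩
    have hquot : IsPGroup p (G ⧸ M) := fun q => by
      obtain ⟨g, rfl⟩ := QuotientGroup.mk_surjective q
      refine ⟨a + 1, ?_⟩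
      rw [← QuotientGroup.mk_pow, QuotientGroup.eq_one_iff, pow_succ, pow_mul, ← ha]
      refine ⟨⟨_, K.pow_index_mem g⟩ ^ p, ?_, rfl⟩
      show Clifford.detChar θ (⟨_, K.pow_index_mem g⟩ ^ p) ^ o = 1
      rw [map_pow, ← pow_mul, ← ho]
      exact (Clifford.detOrder_dvd_iff θ).1 dvd_rfl _
    have hle : K ≤ M := Transfer.pResidual_le_of_isPGroup_quotient M hquot
    have h1 : Cfsg.detOrder θ.1 ∣ o := (Clifford.detOrder_dvd_iff θ).2 fun n => by
      obtain ⟨n', hn', he⟩ := hle n.2
      rw [← show n' = n from Subtype.ext he]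
      exact hn'
    have hpos := Clifford.detOrder_pos θ
    rw [ho] at h1 hpos
    have ho0 : 0 < o := Nat.pos_of_mul_pos_left hpos
    exact absurd (Nat.le_of_dvd ho0 h1) (by nlinarith [hp.two_le])
  -- the two index sets
  set S := (Finset.univ : Finset (IrrCharacter G)).filter
    fun χ => ¬ p ∣ degree χ ∧ ¬ p ∣ Cfsg.detOrder χ.1 with hS
  set A := (Finset.univ : Finset (IrrCharacter K)).filter
    fun θ => (∀ g, conjFun K θ.1 g = θ.1) ∧ ¬ p ∣ degree θ with hA
  have hres : ∀ χ ∈ S, IsIrrCharacter K (resFun K χ.1) := fun χ hχ => by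
    obtain ⟨θ, hθ⟩ := exists_constituent K χ
    obtain ⟨hd, hd'⟩ := Cfsg.Agent.S0887.result K χ.1 χ.2 θ.1 θ.2 hθ (degree χ) (degree θ)
      (apply_one_eq_degree χ) (apply_one_eq_degree θ)
    have hnd : ¬ p ∣ degree χ / degree θ := fun h =>
      (Finset.mem_filter.1 hχ).2.1 (h.trans (Nat.div_dvd_of_dvd hd))
    have h1 : degree χ / degree θ = 1 :=
      Nat.Coprime.eq_one_of_dvd (hco _ hnd).symm hd'
    have heq : degree χ = degree θ := by rw [← Nat.div_mul_cancel hd, h1, one_mul]
    obtain ⟨e, he⟩ := IsCharacter.exists_nat_classInner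
      (IsCharacter.restrict (irr_isCharacter χ) K) (irr_isCharacter θ)
    have hdeg := apply_one_eq_mul_card_orbit K χ θ hθ
    rw [show classInner (resFun K χ.1) θ.1 = (e : ℂ) from he, apply_one_eq_degree,
      apply_one_eq_degree, heq] at hdeg
    have hdeg' : degree θ = e * ((orbitFinset K θ).card * degree θ) := by exact_mod_cast hdeg
    have h2 : e * (orbitFinset K θ).card = 1 := by
      rw [← mul_assoc] at hdeg'
      exact (Nat.mul_eq_right (degree_pos θ).ne').1 hdeg'.symm
    obtain ⟨he1, hc1⟩ := mul_eq_one.1 h2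
    obtain ⟨η, hη⟩ := Finset.card_eq_one.1 hc1
    rw [resFun_eq_smul_orbitSum K χ θ hθ, show classInner (resFun K χ.1) θ.1 = (e : ℂ) from he,
      he1, Nat.cast_one, one_smul, orbitSum, hη, Finset.sum_singleton]
    exact η.2
  have hdeg : ∀ χ ∈ S, ∀ θ : IrrCharacter K, θ.1 = resFun K χ.1 → degree θ = degree χ :=
    fun χ _ θ hθ => (Clifford.degree_eq_of_extension θ χ fun n => by rw [hθ]; rfl).symm
  have hbij : ∑ χ ∈ S, degree χ ^ 2 = ∑ θ ∈ A, degree θ ^ 2 := by
    refine Finset.sum_bij (fun χ hχ => (⟨resFun K χ.1, hres χ hχ⟩ : IrrCharacter K))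
      (fun χ hχ => ?_) (fun χ hχ ψ hψ h => ?_) (fun θ hθ => ?_) (fun χ hχ => ?_)
    · refine Finset.mem_filter.2 ⟨Finset.mem_univ _, fun g =>
        conjFun_resFun K (IsCharacter.isClassFunction (irr_isCharacter χ)) g, ?_⟩
      rw [hdeg χ hχ _ rfl]
      exact (Finset.mem_filter.1 hχ).2.1
    · set θ : IrrCharacter K := ⟨resFun K χ.1, hres χ hχ⟩
      have hinv : ∀ g, conjFun K θ.1 g = θ.1 := fun g =>
        conjFun_resFun K (IsCharacter.isClassFunction (irr_isCharacter χ)) g
      have hψN : ∀ n : K, ψ.1 n = θ.1 n := fun n => (congrFun (congrArg Subtype.val h) n).symm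
      have hk := hdet θ hinv
      have key : ∀ φ ∈ S, (∀ n : K, φ.1 n = θ.1 n) →
          ∀ g, Clifford.detChar φ g ^ Cfsg.detOrder θ.1 = 1 := fun φ hφ hφN => by
        refine (Clifford.detOrder_dvd_iff φ).1
          ((hco _ (Finset.mem_filter.1 hφ).2.2).symm.dvd_of_dvd_mul_left
            ((Clifford.detOrder_dvd_iff φ).2 fun g => ?_))
        rw [pow_mul, ← map_pow, show g ^ K.index = ((⟨_, K.pow_index_mem g⟩ : K) : G) from rfl,
          Clifford.detChar_extension θ φ hφN]
        exact (Clifford.detOrder_dvd_iff θ).1 dvd_rfl _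
      have hcop : Nat.Coprime K.index (degree θ * Cfsg.detOrder θ.1) :=
        Nat.Coprime.mul_right (hco _ (by rw [hdeg χ hχ θ rfl]; exact (Finset.mem_filter.1 hχ).2.1))
          (hco _ hk)
      exact (Clifford.existsUnique_extension_of_coprime θ hinv (Clifford.detOrder_pos θ).ne'
        (fun n => (Clifford.detOrder_dvd_iff θ).1 dvd_rfl n) hcop).unique
        ⟨fun n => rfl, key χ hχ fun n => rfl⟩ ⟨hψN, key ψ hψ hψN⟩
    · obtain ⟨hinv, hd⟩ := (Finset.mem_filter.1 hθ).2
      have hk := hdet θ hinv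
      obtain ⟨χ, ⟨hχN, hχdet⟩, -⟩ := Clifford.existsUnique_extension_of_coprime θ hinv
        (Clifford.detOrder_pos θ).ne' (fun n => (Clifford.detOrder_dvd_iff θ).1 dvd_rfl n)
        (Nat.Coprime.mul_right (hco _ hd) (hco _ hk))
      refine ⟨χ, Finset.mem_filter.2 ⟨Finset.mem_univ _, ?_, ?_⟩, Subtype.ext (funext hχN)⟩
      · rw [Clifford.degree_eq_of_extension θ χ hχN]; exact hd
      · exact fun h => hk (h.trans ((Clifford.detOrder_dvd_iff χ).2 hχdet))
    · show degree χ ^ 2 = _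
      rw [hdeg χ hχ _ rfl]
  -- orbit count
  obtain ⟨P⟩ : Nonempty (Sylow p G) := inferInstance
  letI := irrConjAction (G := G) K
  letI : MulAction (P : Subgroup G) (IrrCharacter K) :=
    MulAction.compHom _ (P : Subgroup G).subtype
  have hfix : ∀ θ : IrrCharacter K,
      θ ∈ MulAction.fixedPoints (P : Subgroup G) (IrrCharacter K) ↔
        ∀ g, conjFun K θ.1 g = θ.1 := fun θ => by
    constructor
    · intro h g
      have hmem : g ∈ (P : Subgroup G) ⊔ K :=
        (Transfer.sylow_sup_pResidual_eq_top P).symm ▸ Subgroup.mem_top g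
      obtain ⟨x, hx, k, hk, rfl⟩ := Subgroup.mem_sup_of_normal_right.1 hmem
      have hx' : conjFun K θ.1 x = θ.1 := by
        have h1 : conjChar K θ (x⁻¹)⁻¹ = θ := h ⟨x⁻¹, inv_mem hx⟩
        rw [inv_inv] at h1
        exact congrArg Subtype.val h1
      rw [conjFun_mul, hx']
      exact congrArg Subtype.val (conjChar_of_mem K θ hk)
    · exact fun h x => Subtype.ext (h _)
  have hsq : ∀ θ : IrrCharacter K, IsIntegral ℤ ((degree θ ^ 2 : ℕ) : ℂ) := fun θ => by
    rw [← Int.cast_natCast]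
    exact isIntegral_intCast _
  have hcong := pCong_sum_fixedPoints (p := p) P.isPGroup'
    (fun θ : IrrCharacter K => ((degree θ ^ 2 : ℕ) : ℂ)) (fun x θ => by
      have h1 : (conjChar K θ ((x : G))⁻¹).1 1 = θ.1 1 := conjFun_apply_one K _ _
      rw [apply_one_eq_degree, apply_one_eq_degree, Nat.cast_inj] at h1
      show ((degree (conjChar K θ ((x : G))⁻¹) ^ 2 : ℕ) : ℂ) = _
      rw [h1]) hsq
  rw [← Nat.cast_sum, ← Nat.cast_sum, sum_degree_sq] at hcong
  have hdvd := dvd_sub_of_pCong (m := (Nat.card K : ℤ))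
    (n := ((∑ θ ∈ Finset.univ.filter
      (fun θ : IrrCharacter K => θ ∈ MulAction.fixedPoints (P : Subgroup G) (IrrCharacter K)),
        degree θ ^ 2 : ℕ) : ℤ)) (by exact_mod_cast hcong)
  have hsplit : p ∣ (∑ θ ∈ (Finset.univ.filter
      (fun θ : IrrCharacter K => θ ∈ MulAction.fixedPoints (P : Subgroup G) (IrrCharacter K))).filter
        (fun θ => ¬ ¬ p ∣ degree θ), degree θ ^ 2) :=
    Finset.dvd_sum fun θ hθ => Dvd.dvd.pow (not_not.1 (Finset.mem_filter.1 hθ).2) two_ne_zero
  rw [← Finset.sum_filter_add_sum_filter_not _ (fun θ => ¬ p ∣ degree θ), Finset.filter_filter]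
    at hdvd
  rw [show {χ : IrrCharacter G | ¬ p ∣ Cfsg.charDegree (χ : G → ℂ) ∧
      ¬ p ∣ Cfsg.detOrder (χ : G → ℂ)} = ↑S from Set.ext fun χ => by
        simp [hS, charDegree_eq_degree], finsum_mem_coe_finset,
    Finset.sum_congr rfl fun (χ : IrrCharacter G) _ => show (Cfsg.charDegree (χ : G → ℂ) : ℤ) ^ 2 =
      ((degree χ ^ 2 : ℕ) : ℤ) by rw [charDegree_eq_degree, Nat.cast_pow], ← Nat.cast_sum, hbij]
  refine (Int.modEq_iff_dvd.2 ?_).symm
  have hAeq : A = Finset.univ.filter (fun θ : IrrCharacter K =>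
      θ ∈ MulAction.fixedPoints (P : Subgroup G) (IrrCharacter K) ∧ ¬ p ∣ degree θ) :=
    Finset.filter_congr fun θ _ => by rw [hfix]
  rw [hAeq]
  have h2 := dvd_add hdvd (Int.natCast_dvd_natCast.2 hsplit)
  push_cast at h2 ⊢
  refine (dvd_iff_dvd_of_dvd_sub ?_).1 h2
  exact ⟨0, by ring⟩

end Cfsg.Agent.S4455
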