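import Cfsg.Statements.S4212
import Mathlib
import Cfsg.Agent.Lib.Involution.BrauerFowler
-- import your own Cfsg.Agent.* helpers here

set_option autoImplicit false
open Cfsg

namespace Cfsg.Agent.S4212

universe u

/-- For `c ≠ 1` a `p`-element, the `p^b`-th roots of `c` fall into blocks of size `p^b`. -/
theorem roots_dvd {G : Type*} [Group G] [Finite G] {p : ℕ} [hp : Fact p.Prime] (b : ℕ) {c : G}
    {e : ℕ} (he : orderOf c = p ^ (e + 1)) : p ^ b ∣ Nat.card {v : G // v ^ p ^ b = c} := by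
  classical
  let _ : Fintype G := Fintype.ofFinite G
  set E := p ^ (e + 1) with hE
  have hEpos : 0 < E := pow_pos hp.out.pos _
  set S := Finset.univ.filter fun v : G => v ^ p ^ b = c with hS
  have hord : ∀ v ∈ S, orderOf v = p ^ b * E := by
    intro v hv
    have hv : v ^ p ^ b = c := (Finset.mem_filter.1 hv).2
    rw [hE, ← pow_add, ← add_assoc]
    refine orderOf_eq_prime_pow ?_ ?_
    · intro h
      rw [pow_add, pow_mul, hv, ← orderOf_dvd_iff_pow_eq_one, he,
        Nat.pow_dvd_pow_iff_le_right hp.out.one_lt] at h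
      omega
    · rw [add_assoc, pow_add, pow_mul, hv, ← hE]
      rw [← he]
      exact pow_orderOf_eq_one c
  rw [Nat.card_eq_fintype_card, Fintype.card_subtype, ← hS,
    Finset.card_eq_sum_card_image (fun v : G => Subgroup.zpowers v) S]
  refine Finset.dvd_sum fun U hU => ?_
  obtain ⟨v, hv, rfl⟩ := Finset.mem_image.1 hU
  have hv' : v ^ p ^ b = c := (Finset.mem_filter.1 hv).2
  refine dvd_of_eq ?_
  rw [← Finset.card_range (p ^ b)]
  refine Finset.card_bij (fun i _ => v ^ (1 + E * i)) ?_ ?_ ?_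
  · intro i _
    have hi : (v ^ (1 + E * i)) ^ p ^ b = c := by
      rw [← pow_mul, mul_comm, pow_mul, hv', pow_add, pow_one, pow_mul, ← he, pow_orderOf_eq_one,
        one_pow, mul_one]
    refine Finset.mem_filter.2 ⟨Finset.mem_filter.2 ⟨Finset.mem_univ _, hi⟩, ?_⟩
    refine Subgroup.eq_of_le_of_card_ge (Subgroup.zpowers_le.2 ⟨((1 + E * i : ℕ) : ℤ), zpow_natCast v _⟩) ?_
    rw [Nat.card_zpowers, Nat.card_zpowers, hord v hv,
      hord _ (Finset.mem_filter.2 ⟨Finset.mem_univ _, hi⟩)]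
  · intro i hi j hj hij
    have h1 := pow_eq_pow_iff_modEq.1 hij
    rw [hord v hv, mul_comm (p ^ b)] at h1
    exact Nat.ModEq.eq_of_lt_of_lt (Nat.ModEq.mul_left_cancel' hEpos.ne' (Nat.ModEq.add_left_cancel' 1 h1))
      (Finset.mem_range.1 hi) (Finset.mem_range.1 hj)
  · intro w hw
    rw [Finset.mem_filter] at hw
    have hw1 : w ^ p ^ b = c := (Finset.mem_filter.1 hw.1).2
    obtain ⟨k, hk⟩ : ∃ k : ℕ, v ^ k = w := by
      have : w ∈ Subgroup.zpowers v := hw.2 ▸ Subgroup.mem_zpowers w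
      exact mem_powers_iff_mem_zpowers.2 this
    have hck : c ^ k = c ^ 1 := by
      rw [pow_one, ← hv', ← pow_mul, mul_comm, pow_mul, hk, hw1, hv']
    rw [pow_eq_pow_iff_modEq, he] at hck
    set j := k + (p ^ b * E - 1) with hj
    have hbE : 1 ≤ p ^ b * E := Nat.mul_pos (pow_pos hp.out.pos b) hEpos
    have hdvd : E ∣ j := by
      rw [← Nat.modEq_zero_iff_dvd]
      have h2 : 1 + (p ^ b * E - 1) = p ^ b * E := by omega
      have h3 : j ≡ 1 + (p ^ b * E - 1) [MOD E] := hck.add_right _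
      rw [h2] at h3
      exact h3.trans (Nat.modEq_zero_iff_dvd.2 (dvd_mul_left E _))
    obtain ⟨i, hi⟩ := hdvd
    refine ⟨i % p ^ b, Finset.mem_range.2 (Nat.mod_lt _ (pow_pos hp.out.pos b)), ?_⟩
    rw [← hk, pow_eq_pow_iff_modEq, hord v hv]
    have h4 : 1 + E * (i % p ^ b) ≡ 1 + E * i [MOD p ^ b * E] := by
      rw [mul_comm (p ^ b) E]
      exact ((Nat.mod_modEq i (p ^ b)).mul_left' E).add_left 1
    refine h4.trans ?_
    rw [← hi, hj]
    have h5 : 1 + (k + (p ^ b * E - 1)) = k + p ^ b * E := by omega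
    rw [h5]
    exact Nat.add_modEq_right

/-- Splitting `x` into its `p`-part and its `p'`-part. -/
theorem card_roots_eq_sigma {G : Type*} [Group G] [Finite G] (P Q e f : ℕ)
    (hG : Nat.card G ∣ P * Q) (heP : e ≡ 0 [MOD P]) (heQ : e ≡ 1 [MOD Q])
    (hfP : f ≡ 1 [MOD P]) (hfQ : f ≡ 0 [MOD Q]) (hPQ : P.Coprime Q) (c : G) (n : ℕ) :
    Nat.card {x : G // x ^ n = c} =
      Nat.card (Σ u : {u : G // u ^ Q = 1 ∧ u ^ n = c ^ e},
        {v : G // v * u.1 = u.1 * v ∧ v ^ P = 1 ∧ v ^ n = c ^ f}) := by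
  have hord : ∀ x : G, x ^ (P * Q) = 1 := fun x =>
    orderOf_dvd_iff_pow_eq_one.1 ((orderOf_dvd_natCard x).trans hG)
  have hef : e + f ≡ 1 [MOD P * Q] := by
    refine (Nat.modEq_and_modEq_iff_modEq_mul hPQ).1 ⟨?_, ?_⟩
    · simpa using heP.add hfP
    · simpa using heQ.add hfQ
  have hsplit : ∀ x : G, x ^ e * x ^ f = x := fun x => by
    rw [← pow_add]
    conv_rhs => rw [← pow_one x]
    exact pow_eq_pow_iff_modEq.2 (hef.of_dvd (orderOf_dvd_of_pow_eq_one (hord x)))
  refine Nat.card_congr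
    { toFun := fun x => ⟨⟨x.1 ^ e, ?_, ?_⟩, ⟨x.1 ^ f, ?_, ?_, ?_⟩⟩
      invFun := fun s => ⟨s.1.1 * s.2.1, ?_⟩
      left_inv := fun x => Subtype.ext (hsplit x.1)
      right_inv := ?_ }
  · obtain ⟨k, hk⟩ := Nat.modEq_zero_iff_dvd.1 heP
    rw [← pow_mul, hk, mul_comm P k, mul_assoc, mul_comm k, pow_mul, hord, one_pow]
  · rw [← pow_mul, mul_comm, pow_mul, x.2]
  · exact ((Commute.refl x.1).pow_pow f e).eq
  · obtain ⟨k, hk⟩ := Nat.modEq_zero_iff_dvd.1 hfQ
    rw [← pow_mul, hk, mul_comm (Q * k), ← mul_assoc, pow_mul, hord, one_pow]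
  · rw [← pow_mul, mul_comm, pow_mul, x.2]
  · rw [(show Commute s.1.1 s.2.1 from s.2.2.1.symm).mul_pow, s.1.2.2, s.2.2.2.2, hsplit]
  · rintro ⟨⟨u, hu, hu'⟩, ⟨v, hvu, hv, hv'⟩⟩
    have hc : Commute u v := hvu.symm
    have h1 : (u * v) ^ e = u := by
      rw [hc.mul_pow, pow_eq_pow_iff_modEq.2 (heQ.of_dvd (orderOf_dvd_of_pow_eq_one hu)),
        pow_eq_pow_iff_modEq.2 (heP.of_dvd (orderOf_dvd_of_pow_eq_one hv))]
      simp
    have h2 : (u * v) ^ f = v := by
      rw [hc.mul_pow, pow_eq_pow_iff_modEq.2 (hfQ.of_dvd (orderOf_dvd_of_pow_eq_one hu)),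
        pow_eq_pow_iff_modEq.2 (hfP.of_dvd (orderOf_dvd_of_pow_eq_one hv))]
      simp
    simp only [h1]
    refine Sigma.ext (Subtype.ext h1) ?_
    refine (Subtype.heq_iff_coe_eq fun w => ?_).2 h2
    simp [h1]

/-- A class function sum is divisible as soon as every class contribution is. -/
theorem dvd_sum_classFun {G : Type*} [Group G] [Fintype G] (d : ℕ) (f : G → ℕ)
    (hf : ∀ u v, IsConj u v → f u = f v)
    (h : ∀ u, d ∣ (Subgroup.centralizer ({u} : Set G)).index * f u) : d ∣ ∑ u, f u := by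
  classical
  rw [← Finset.sum_fiberwise (g := ConjClasses.mk)]
  refine Finset.dvd_sum fun C _ => ?_
  induction C using Quotient.inductionOn' with
  | h u =>
    rw [Finset.sum_congr rfl (g := fun _ => f u) fun v hv => (hf u v
      (ConjClasses.mk_eq_mk_iff_isConj.1 (show ConjClasses.mk u = ConjClasses.mk v from
        (by simpa using hv : ConjClasses.mk v = Quotient.mk'' u).symm))).symm,
      Finset.sum_const, smul_eq_mul]
    refine dvd_trans (h u) (dvd_of_eq ?_)
    congr 1
    rw [← Cfsg.Agent.Involution.card_conjugates, Nat.card_eq_fintype_card, Fintype.card_subtype]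
    congr 1
    ext v
    simp only [Finset.mem_filter, Finset.mem_univ, true_and]
    exact ⟨fun hv => (ConjClasses.mk_eq_mk_iff_isConj.2 hv).symm,
      fun hv => ConjClasses.mk_eq_mk_iff_isConj.1 hv.symm⟩

theorem card_comm_roots {G : Type*} [Group G] [Finite G] (u : G) (P : ℕ) (c : G)
    (hc : c * u = u * c) :
    Nat.card {v : G // v * u = u * v ∧ v ^ P = c} =
      Nat.card {v : Subgroup.centralizer ({u} : Set G) //
        v ^ P = ⟨c, Subgroup.mem_centralizer_singleton_iff.2 hc⟩} := by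
  refine Nat.card_congr
    { toFun := fun v => ⟨⟨v.1, Subgroup.mem_centralizer_singleton_iff.2 v.2.1⟩, Subtype.ext v.2.2⟩
      invFun := fun v => ⟨v.1.1, Subgroup.mem_centralizer_singleton_iff.1 v.1.2, congrArg Subtype.val v.2⟩
      left_inv := fun v => rfl
      right_inv := fun v => rfl }

/-- The number of `p`-elements is divisible by the order of a Sylow `p`-subgroup. -/
theorem pElements_dvd {p : ℕ} [hp : Fact p.Prime] : ∀ N : ℕ, ∀ (G : Type u) [Group G] [Finite G],
    Nat.card G = N → ∀ t : ℕ, (Nat.card G).factorization p ≤ t →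
      p ^ (Nat.card G).factorization p ∣ Nat.card {v : G // v ^ p ^ t = 1} := by
  intro N
  induction N using Nat.strong_induction_on with
  | _ N ih =>
  intro G _ _ hN t ht
  classical
  let _ : Fintype G := Fintype.ofFinite G
  set β := (Nat.card G).factorization p with hβ
  set Q := Nat.card G / p ^ β with hQ
  have hG0 : Nat.card G ≠ 0 := Nat.card_pos.ne'
  have hem : p ^ β * Q = Nat.card G := Nat.ordProj_mul_ordCompl_eq_self _ p
  have hpQ : ¬ p ∣ Q := Nat.not_dvd_ordCompl hp.out hG0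
  have hco : (p ^ β).Coprime Q := (hp.out.coprime_iff_not_dvd.2 hpQ).pow_left β
  obtain ⟨e, heP, heQ⟩ := Nat.chineseRemainder hco 0 1
  obtain ⟨f, hfP, hfQ⟩ := Nat.chineseRemainder hco 1 0
  have h0 := card_roots_eq_sigma (p ^ β) Q e f hem.symm.dvd heP heQ hfP hfQ hco (1 : G) 0
  simp only [pow_zero, one_pow, and_true, Nat.card_sigma] at h0
  have hall : Nat.card {x : G // True} = Nat.card G := Nat.card_congr (Equiv.subtypeUnivEquiv fun _ => trivial)
  rw [hall] at h0
  set F : G → ℕ := fun u => if u ^ Q = 1 then Nat.card {v : G // v * u = u * v ∧ v ^ p ^ β = 1} else 0 with hF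
  have hsum : ∑ u, F u = Nat.card G := by
    rw [h0, hF, ← Finset.sum_filter]
    exact Finset.sum_subtype _ (fun x => by simp) _
  -- all `p`-elements
  set Pn := Nat.card {v : G // v ^ p ^ β = 1} with hPn
  have hPt : Nat.card {v : G // v ^ p ^ t = 1} = Pn := by
    refine Nat.card_congr (Equiv.subtypeEquivRight fun v => ⟨fun h => ?_, fun h => ?_⟩)
    · obtain ⟨k, -, hk⟩ := (Nat.dvd_prime_pow hp.out).1 (orderOf_dvd_of_pow_eq_one h)
      rw [← orderOf_dvd_iff_pow_eq_one, hk]
      exact pow_dvd_pow p ((hp.out.pow_dvd_iff_le_factorization hG0).1 (hk ▸ orderOf_dvd_natCard v))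
    · obtain ⟨d, rfl⟩ := Nat.exists_eq_add_of_le ht
      rw [pow_add, pow_mul, h, one_pow]
  rw [hPt]
  let Zc : G → Prop := fun u => u ∈ Subgroup.center G
  have hnon : p ^ β ∣ ∑ u ∈ Finset.univ.filter (fun u => ¬ Zc u), F u := by
    rw [Finset.sum_filter]
    refine dvd_sum_classFun _ _ (fun u v huv => ?_) fun u => ?_
    · obtain ⟨g, rfl⟩ := isConj_iff.1 huv
      have hcen : Zc (g * u * g⁻¹) ↔ Zc u := by
        constructor
        · intro h
          have := (inferInstance : (Subgroup.center G).Normal).conj_mem _ h g⁻¹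
          simpa [Zc, mul_assoc] using this
        · intro h
          exact (inferInstance : (Subgroup.center G).Normal).conj_mem _ h g
      have hpw : ((g * u * g⁻¹) ^ Q = 1) ↔ u ^ Q = 1 := by
        rw [conj_pow, mul_inv_eq_one, mul_eq_left]
      have hcard : Nat.card {v : G // v * (g * u * g⁻¹) = g * u * g⁻¹ * v ∧ v ^ p ^ β = 1} =
          Nat.card {v : G // v * u = u * v ∧ v ^ p ^ β = 1} := by
        refine (Nat.card_congr (Equiv.subtypeEquiv (MulAut.conj g).toEquiv fun v => ?_)).symm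
        show _ ↔ g * v * g⁻¹ * (g * u * g⁻¹) = g * u * g⁻¹ * (g * v * g⁻¹) ∧ (g * v * g⁻¹) ^ p ^ β = 1
        rw [show g * v * g⁻¹ * (g * u * g⁻¹) = g * (v * u) * g⁻¹ by group,
          show g * u * g⁻¹ * (g * v * g⁻¹) = g * (u * v) * g⁻¹ by group, conj_pow, mul_inv_eq_one,
          mul_eq_left, mul_left_inj, mul_right_inj]
      simp only [hF, hcen, hpw, hcard]
    · by_cases hz : Zc u
      · simp [hz]
      simp only [hz, not_false_eq_true, if_true, hF]
      split_ifs with hu
      swap; · exact dvd_zero _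
      set C := Subgroup.centralizer ({u} : Set G) with hC
      have hlt : Nat.card C < N := by
        rw [← hN]
        refine lt_of_le_of_ne (Nat.le_of_dvd Nat.card_pos C.card_subgroup_dvd_card) fun he => hz ?_
        have ht : C = ⊤ := Subgroup.eq_top_of_card_eq C he
        refine Subgroup.mem_center_iff.2 fun g => ?_
        exact Subgroup.mem_centralizer_singleton_iff.1 (ht ▸ Subgroup.mem_top g : g ∈ C)
      have hle : (Nat.card C).factorization p ≤ β :=
        (Nat.factorization_le_iff_dvd Nat.card_pos.ne' hG0).2 C.card_subgroup_dvd_card p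
      have h1 := ih _ hlt C rfl β hle
      rw [card_comm_roots u _ 1 (by simp)]
      refine dvd_trans ?_ (Nat.mul_dvd_mul (Nat.ordProj_dvd C.index p) h1)
      rw [← pow_add, hβ, ← C.index_mul_card, Nat.factorization_mul Subgroup.index_ne_zero_of_finite Nat.card_pos.ne']
      exact dvd_rfl
  have htot : p ^ β ∣ Nat.card G := Dvd.intro Q hem
  rw [← hsum, ← Finset.sum_filter_add_sum_filter_not Finset.univ Zc, Nat.dvd_add_left hnon] at htot
  have hZ : ∑ u ∈ Finset.univ.filter Zc, F u = (Finset.univ.filter fun u => Zc u ∧ u ^ Q = 1).card * Pn := by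
    rw [← smul_eq_mul, ← Finset.sum_const, ← Finset.filter_filter]
    conv_rhs => rw [Finset.sum_filter]
    refine Finset.sum_congr rfl fun u hu => ?_
    simp only [hF]
    split_ifs with h
    · refine Nat.card_congr (Equiv.subtypeEquivRight fun v => and_iff_right ?_)
      exact Subgroup.mem_center_iff.1 (Finset.mem_filter.1 hu).2 v
    · rfl
  rw [hZ] at htot
  refine (Nat.Coprime.pow_left β ?_).dvd_of_dvd_mul_left htot
  let Z' : Subgroup G :=
    { carrier := {u | u ∈ Subgroup.center G ∧ u ^ Q = 1}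
      one_mem' := ⟨one_mem _, one_pow _⟩
      mul_mem' := by
        rintro a b ⟨ha, ha'⟩ ⟨hb, hb'⟩
        exact ⟨mul_mem ha hb, by
          rw [(show Commute a b from Subgroup.mem_center_iff.1 hb a).mul_pow, ha', hb', one_mul]⟩
      inv_mem' := by
        rintro a ⟨ha, ha'⟩
        exact ⟨inv_mem ha, by rw [inv_pow, ha', inv_one]⟩ }
  rw [← Fintype.card_subtype, ← Nat.card_eq_fintype_card]
  refine hp.out.coprime_iff_not_dvd.2 fun hd => ?_
  obtain ⟨z, hz⟩ := exists_prime_orderOf_dvd_card' (G := Z') p hd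
  exact hpQ (hz ▸ orderOf_dvd_of_pow_eq_one (Subtype.ext (by simpa using z.2.2)))

/-- Frobenius: the number of solutions of `v^(p^b) = 1`. -/
theorem one_roots_dvd {G : Type u} [Group G] [Finite G] {p : ℕ} [hp : Fact p.Prime] (b : ℕ) :
    p ^ min b ((Nat.card G).factorization p) ∣ Nat.card {v : G // v ^ p ^ b = 1} := by
  classical
  let _ : Fintype G := Fintype.ofFinite G
  set β := (Nat.card G).factorization p with hβ
  suffices ∀ d b, β ≤ b + d → p ^ min b β ∣ Nat.card {v : G // v ^ p ^ b = 1} from this β b (by omega)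
  intro d
  induction d with
  | zero =>
    intro b hb
    rw [min_eq_right (by omega : β ≤ b)]
    exact pElements_dvd _ G rfl b (by omega)
  | succ d ih =>
    intro b hb
    have h1 : p ^ min b β ∣ Nat.card {v : G // v ^ p ^ (b + 1) = 1} :=
      (pow_dvd_pow p (min_le_min_right β (Nat.le_succ b))).trans (ih (b + 1) (by omega))
    rw [Nat.card_eq_fintype_card, Fintype.card_subtype,
      ← Finset.card_filter_add_card_filter_not (s := Finset.univ.filter fun v : G => v ^ p ^ (b + 1) = 1)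
        (p := fun v => v ^ p ^ b = 1)] at h1
    have h2 : p ^ min b β ∣ ((Finset.univ.filter fun v : G => v ^ p ^ (b + 1) = 1).filter
        fun v => ¬ v ^ p ^ b = 1).card := by
      rw [Finset.card_eq_sum_card_image (fun v : G => v ^ p ^ b)]
      refine Finset.dvd_sum fun c hc => ?_
      obtain ⟨v, hv, rfl⟩ := Finset.mem_image.1 hc
      simp only [Finset.mem_filter, Finset.mem_univ, true_and] at hv
      have hcp : (v ^ p ^ b) ^ p = 1 := by rw [← pow_mul, ← pow_succ, hv.1]
      have ho : orderOf (v ^ p ^ b) = p ^ (0 + 1) := by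
        rw [zero_add, pow_one]; exact orderOf_eq_prime hcp hv.2
      refine (pow_dvd_pow p (min_le_left b β)).trans ((roots_dvd b ho).trans (dvd_of_eq ?_))
      rw [Nat.card_eq_fintype_card, Fintype.card_subtype]
      congr 1
      ext w
      simp only [Finset.mem_filter, Finset.mem_univ, true_and]
      refine ⟨fun hw => ⟨⟨by rw [pow_succ, pow_mul, hw, hcp], fun h => hv.2 (hw ▸ h)⟩, hw⟩, fun h => h.2⟩
    have h3 := (Nat.dvd_add_left h2).1 h1
    rw [Nat.card_eq_fintype_card, Fintype.card_subtype]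
    refine h3.trans (dvd_of_eq (congrArg Finset.card ?_))
    ext w
    simp only [Finset.mem_filter, Finset.mem_univ, true_and]
    exact ⟨fun h => h.2, fun h => ⟨by rw [pow_succ, pow_mul, h, one_pow], h⟩⟩

/-- Frobenius' theorem for a central element. -/
theorem central_roots_dvd {L : Type u} [Group L] [Finite L] (c : L) (hc : ∀ g, g * c = c * g) (n : ℕ) :
    Nat.gcd n (Nat.card L) ∣ Nat.card {x : L // x ^ n = c} := by
  classical
  let _ : Fintype L := Fintype.ofFinite L
  set n' := n + Nat.card L with hn'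
  have hn'0 : n' ≠ 0 := by
    have : 0 < Nat.card L := Nat.card_pos
    omega
  have hpw : Nat.card {x : L // x ^ n = c} = Nat.card {x : L // x ^ n' = c} := by
    refine Nat.card_congr (Equiv.subtypeEquivRight fun x => ?_)
    rw [hn', pow_add, pow_card_eq_one', mul_one]
  rw [hpw, show n.gcd (Nat.card L) = n'.gcd (Nat.card L) by rw [hn', Nat.gcd_add_self_left],
    Nat.dvd_iff_prime_pow_dvd_dvd]
  intro p a hp hpa
  have := Fact.mk hp
  have haG := hpa.trans (Nat.gcd_dvd_right _ _)
  have han := hpa.trans (Nat.gcd_dvd_left _ _)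
  set β := (Nat.card L).factorization p with hβ
  set Q := Nat.card L / p ^ β with hQ
  have hG0 : Nat.card L ≠ 0 := Nat.card_pos.ne'
  have hem : p ^ β * Q = Nat.card L := Nat.ordProj_mul_ordCompl_eq_self _ p
  have hpQ : ¬ p ∣ Q := Nat.not_dvd_ordCompl hp hG0
  have hco : (p ^ β).Coprime Q := (hp.coprime_iff_not_dvd.2 hpQ).pow_left β
  obtain ⟨e, heP, heQ⟩ := Nat.chineseRemainder hco 0 1
  obtain ⟨f, hfP, hfQ⟩ := Nat.chineseRemainder hco 1 0
  rw [card_roots_eq_sigma (p ^ β) Q e f hem.symm.dvd heP heQ hfP hfQ hco c n', Nat.card_sigma]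
  set b := n'.factorization p with hb
  set m := n' / p ^ b with hm
  have hbm : p ^ b * m = n' := Nat.ordProj_mul_ordCompl_eq_self _ p
  have hpm : ¬ p ∣ m := Nat.not_dvd_ordCompl hp hn'0
  have hab : a ≤ b := (hp.pow_dvd_iff_le_factorization hn'0).1 han
  have haβ : a ≤ β := (hp.pow_dvd_iff_le_factorization hG0).1 haG
  -- the root to be taken
  obtain ⟨i, hi1, hi0⟩ := Nat.chineseRemainder
    (((hp.coprime_iff_not_dvd.2 hpm).pow_left β)) 1 0
  obtain ⟨i', hi'⟩ := Nat.modEq_zero_iff_dvd.1 hi0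
  set c' := (c ^ f) ^ i' with hc'
  have hcP : (c ^ f) ^ p ^ β = 1 := by
    obtain ⟨k, hk⟩ := Nat.modEq_zero_iff_dvd.1 hfQ
    rw [← pow_mul, hk, mul_comm (Q * k), ← mul_assoc, hem, pow_mul, pow_card_eq_one', one_pow]
  have hc'P : c' ^ p ^ β = 1 := by rw [hc', ← pow_mul, mul_comm, pow_mul, hcP, one_pow]
  have hkey : ∀ v : L, (v ^ p ^ β = 1 ∧ v ^ n' = c ^ f) ↔ v ^ p ^ b = c' := by
    intro v
    have hone : ∀ w : L, w ^ p ^ β = 1 → w ^ i = w := fun w hw => by
      conv_rhs => rw [← pow_one w]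
      exact pow_eq_pow_iff_modEq.2 (hi1.of_dvd (orderOf_dvd_of_pow_eq_one hw))
    constructor
    · rintro ⟨hv, hvn⟩
      have h1 : (v ^ p ^ b) ^ p ^ β = 1 := by rw [← pow_mul, mul_comm, pow_mul, hv, one_pow]
      rw [hc', ← hvn, ← hbm, pow_mul v, ← pow_mul (v ^ p ^ b), ← hi', hone _ h1]
    · intro hv
      have hvP : v ^ p ^ β = 1 := by
        have h1 : v ^ (p ^ (b + β)) = 1 := by rw [pow_add, pow_mul, hv, hc'P]
        obtain ⟨k, -, hk⟩ := (Nat.dvd_prime_pow hp).1 (orderOf_dvd_of_pow_eq_one h1)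
        rw [← orderOf_dvd_iff_pow_eq_one, hk]
        exact pow_dvd_pow p ((hp.pow_dvd_iff_le_factorization hG0).1 (hk ▸ orderOf_dvd_natCard v))
      refine ⟨hvP, ?_⟩
      rw [← hbm, pow_mul, hv, hc', ← pow_mul, mul_comm i' m, ← hi', hone _ hcP]
  set F : L → ℕ := fun u => if u ^ Q = 1 ∧ u ^ n' = c ^ e then
      Nat.card {v : L // v * u = u * v ∧ v ^ p ^ β = 1 ∧ v ^ n' = c ^ f} else 0 with hF
  have hsum : (∑ u : {u : L // u ^ Q = 1 ∧ u ^ n' = c ^ e},
      Nat.card {v : L // v * u.1 = u.1 * v ∧ v ^ p ^ β = 1 ∧ v ^ n' = c ^ f}) = ∑ u, F u := by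
    rw [hF, ← Finset.sum_filter, Finset.sum_subtype (p := fun u : L => u ^ Q = 1 ∧ u ^ n' = c ^ e)]
    simp
  rw [hsum]
  have hcen : ∀ (k : ℕ) (g : L), g * c ^ k * g⁻¹ = c ^ k := fun k g => by
    rw [((show Commute g c from hc g).pow_right k).eq, mul_inv_cancel_right]
  refine dvd_sum_classFun _ _ (fun u v huv => ?_) fun u => ?_
  · obtain ⟨g, rfl⟩ := isConj_iff.1 huv
    have hiff : ((g * u * g⁻¹) ^ Q = 1 ∧ (g * u * g⁻¹) ^ n' = c ^ e) ↔ (u ^ Q = 1 ∧ u ^ n' = c ^ e) := by
      rw [conj_pow, conj_pow, mul_inv_eq_one, mul_eq_left]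
      constructor
      · rintro ⟨h1, h2⟩
        refine ⟨h1, ?_⟩
        conv_rhs at h2 => rw [← hcen e g]
        exact mul_left_cancel (mul_right_cancel h2)
      · rintro ⟨h1, h2⟩
        exact ⟨h1, by rw [h2, hcen]⟩
    have hcard : Nat.card {v : L // v * (g * u * g⁻¹) = g * u * g⁻¹ * v ∧ v ^ p ^ β = 1 ∧ v ^ n' = c ^ f} =
        Nat.card {v : L // v * u = u * v ∧ v ^ p ^ β = 1 ∧ v ^ n' = c ^ f} := by
      refine (Nat.card_congr (Equiv.subtypeEquiv (MulAut.conj g).toEquiv fun v => ?_)).symm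
      show _ ↔ g * v * g⁻¹ * (g * u * g⁻¹) = g * u * g⁻¹ * (g * v * g⁻¹) ∧ (g * v * g⁻¹) ^ p ^ β = 1 ∧
        (g * v * g⁻¹) ^ n' = c ^ f
      rw [show g * v * g⁻¹ * (g * u * g⁻¹) = g * (v * u) * g⁻¹ by group,
        show g * u * g⁻¹ * (g * v * g⁻¹) = g * (u * v) * g⁻¹ by group, conj_pow, conj_pow, mul_inv_eq_one,
        mul_eq_left, mul_left_inj, mul_right_inj]
      conv_rhs => rw [← hcen f g, mul_left_inj, mul_right_inj]
    simp only [hF, hiff, hcard]
  · simp only [hF]
    split_ifs with hu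
    swap; · exact dvd_zero _
    have he' : Nat.card {v : L // v * u = u * v ∧ v ^ p ^ β = 1 ∧ v ^ n' = c ^ f} =
        Nat.card {v : L // v * u = u * v ∧ v ^ p ^ b = c'} :=
      Nat.card_congr (Equiv.subtypeEquivRight fun v => and_congr_right fun _ => hkey v)
    have hc'u : c' * u = u * c' := by
      have h1 : Commute u c := hc u
      exact (((h1.pow_right f).pow_right i').eq).symm
    rw [he', card_comm_roots u _ c' hc'u]
    set C := Subgroup.centralizer ({u} : Set L)
    set c'' : C := ⟨c', Subgroup.mem_centralizer_singleton_iff.2 hc'u⟩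
    obtain ⟨j, -, hj⟩ := (Nat.dvd_prime_pow hp).1 (orderOf_dvd_of_pow_eq_one
      (show c'' ^ p ^ β = 1 from Subtype.ext (by simpa [c''] using hc'P)))
    rcases j with _ | j
    · have : c'' = 1 := orderOf_eq_one_iff.1 (by rw [hj, pow_zero])
      rw [this]
      refine dvd_trans ?_ (Nat.mul_dvd_mul (Nat.ordProj_dvd C.index p) (one_roots_dvd b))
      rw [← pow_add]
      refine pow_dvd_pow p ?_
      have h2 : β = C.index.factorization p + (Nat.card C).factorization p := by
        rw [hβ, ← C.index_mul_card,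
          Nat.factorization_mul Subgroup.index_ne_zero_of_finite Nat.card_pos.ne', Finsupp.add_apply]
      have h3 : (Nat.card ↥(Subgroup.centralizer ({u} : Set L))).factorization p = (Nat.card C).factorization p := rfl
      omega
    · exact dvd_mul_of_dvd_right ((pow_dvd_pow p hab).trans (roots_dvd b hj)) _

theorem frobenius_class {G : Type u} [Group G] [Finite G] (c : G) (n : ℕ) :
    Nat.gcd (Nat.card {y : G // IsConj c y} * n) (Nat.card G) ∣
      Nat.card {x : G // IsConj c (x ^ n)} := by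
  classical
  let _ : Fintype G := Fintype.ofFinite G
  set C := Subgroup.centralizer ({c} : Set G) with hC
  have hN : Nat.card {x : G // x ^ n = c} = Nat.card {x : C //
      x ^ n = ⟨c, Subgroup.mem_centralizer_singleton_iff.2 rfl⟩} := by
    refine Nat.card_congr
      { toFun := fun x => ⟨⟨x.1, Subgroup.mem_centralizer_singleton_iff.2 ?_⟩, Subtype.ext x.2⟩
        invFun := fun x => ⟨x.1.1, congrArg Subtype.val x.2⟩
        left_inv := fun x => rfl
        right_inv := fun x => rfl }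
    have h := ((Commute.refl x.1).pow_right n).eq
    rwa [x.2] at h
  have hall : Nat.card {x : G // IsConj c (x ^ n)} =
      Nat.card {y : G // IsConj c y} * Nat.card {x : G // x ^ n = c} := by
    rw [Nat.card_congr ((Equiv.sigmaSubtypeFiberEquivSubtype (fun x : G => x ^ n) (p := fun x => IsConj c (x ^ n))
      (q := fun y => IsConj c y) fun x => Iff.rfl).symm), Nat.card_sigma,
      Nat.card_eq_fintype_card (α := {y : G // IsConj c y}), ← Finset.card_univ, ← smul_eq_mul, ← Finset.sum_const]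
    refine Finset.sum_congr rfl fun y _ => ?_
    obtain ⟨g, hg⟩ := isConj_iff.1 y.2
    refine (Nat.card_congr (Equiv.subtypeEquiv (MulAut.conj g).toEquiv fun x => ?_)).symm
    show _ ↔ (g * x * g⁻¹) ^ n = y.1
    rw [conj_pow, ← hg, mul_left_inj, mul_right_inj]
  rw [hall]
  have hidx : Nat.card {y : G // IsConj c y} = C.index := Cfsg.Agent.Involution.card_conjugates c
  rw [hidx, ← C.index_mul_card, Nat.gcd_mul_left, hN]
  refine Nat.mul_dvd_mul_left _ (central_roots_dvd _ (fun g => Subtype.ext ?_) n)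
  exact Subgroup.mem_centralizer_singleton_iff.1 g.2


/-- Let `G` be a finite group of order `g`, `c` an element whose conjugacy class has `h` elements, and `n` a natural number. Then the number of elements `x` of `G` with `x^n` conjugate to `c` is a multiple of `gcd(hn, g)`. -/
theorem result {G : Type*} [Group G] [Finite G] (c : G) (n : ℕ) : Nat.gcd (Nat.card {y : G // IsConj c y} * n) (Nat.card G) ∣ Nat.card {x : G // IsConj c (x ^ n)} := by
  exact frobenius_class c n

end Cfsg.Agent.S4212
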