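import Cfsg.Statements.S3438
import Mathlib
import Cfsg.Agent.Lib.Spectrum.QuadMatrix
-- import your own Cfsg.Agent.* helpers here

set_option autoImplicit false
open Cfsg

namespace Cfsg.Agent.S3438

open Cfsg.Agent

/-- An explicit list of 24 encoded matrices. -/
def L0 : List Spectrum.MN := [((1, 0), (0, 0), (0, 0), (1, 0)),
  ((0, 0), (1, 0), (0, 1), (0, 0)),
  ((2, 0), (0, 0), (0, 0), (4, 0)),
  ((0, 1), (0, 0), (0, 0), (0, 1)),
  ((0, 0), (4, 0), (0, 2), (0, 0)),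
  ((0, 0), (2, 0), (0, 4), (0, 0)),
  ((4, 0), (0, 0), (0, 0), (2, 0)),
  ((0, 0), (0, 1), (6, 0), (0, 0)),
  ((0, 2), (0, 0), (0, 0), (0, 4)),
  ((0, 4), (0, 0), (0, 0), (0, 2)),
  ((6, 0), (0, 0), (0, 0), (6, 0)),
  ((0, 0), (0, 4), (5, 0), (0, 0)),
  ((0, 0), (0, 2), (3, 0), (0, 0)),
  ((0, 0), (6, 0), (0, 6), (0, 0)),
  ((5, 0), (0, 0), (0, 0), (3, 0)),
  ((3, 0), (0, 0), (0, 0), (5, 0)),
  ((0, 6), (0, 0), (0, 0), (0, 6)),
  ((0, 0), (3, 0), (0, 5), (0, 0)),
  ((0, 0), (5, 0), (0, 3), (0, 0)),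
  ((0, 0), (0, 6), (1, 0), (0, 0)),
  ((0, 5), (0, 0), (0, 0), (0, 3)),
  ((0, 3), (0, 0), (0, 0), (0, 5)),
  ((0, 0), (0, 3), (2, 0), (0, 0)),
  ((0, 0), (0, 5), (4, 0), (0, 0))]

/-- An explicit list of 3 encoded matrices. -/
def L1 : List Spectrum.MN := [((1, 0), (0, 0), (0, 0), (1, 0)),
  ((2, 0), (0, 0), (0, 0), (4, 0)),
  ((4, 0), (0, 0), (0, 0), (2, 0))]

/-- An explicit list of 1 encoded matrices. -/
def L2 : List Spectrum.MN := [((1, 0), (0, 0), (0, 0), (1, 0))]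

lemma chain_ok : Spectrum.chainOK 7 6 [L0, L1, L2] = true := by decide +kernel

lemma top_ok : Spectrum.topOK 7 6 L0 [8, 12] = true := by decide +kernel

lemma witness : ∃ (H : Type) (_ : Group H) (_ : Fintype H), Group.IsSolvable H ∧
    Set.range (orderOf : H → ℕ) = {d | ∃ k ∈ insert 7 ([8, 12] : List ℕ).toFinset, d ∣ k} :=
  have : Fact (Nat.Prime 7) := ⟨by norm_num⟩
  Spectrum.exists_quad_witness 7 6 L0 [L1, L2] [8, 12] chain_ok top_ok


/-- The field with 9 elements as a quadratic extension of `ZMod 3`. -/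
abbrev K9 : Type := QuadraticAlgebra (ZMod 3) 2 0

/-- Finiteness of `K9`. -/
instance fintypeK9 : Fintype K9 := Fintype.ofEquiv _ (QuadraticAlgebra.equivProd _ _).symm

lemma two_eq : (2 : ZMod 3) = -1 := by decide +kernel

lemma norm_eq_zero : ∀ z : K9, z.re * z.re + z.im * z.im = 0 → z = 0 := by decide +kernel

lemma card_K9 : Fintype.card K9 = 9 := by decide +kernel

variable {F : Type*} [Field F] [Fintype F]

/-- A field with nine elements is isomorphic to `K9`. -/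
lemma exists_equiv (hF : Fintype.card F = 9) : Nonempty (K9 ≃+* F) := by
  have : Fact (Nat.Prime 3) := ⟨Nat.prime_three⟩
  have : CharP F 3 := by
    refine charP_of_card_eq_prime_pow (p := 3) (f := 2) ?_
    simp [hF]
  obtain ⟨i, hi⟩ : ∃ i : F, i * i = -1 := by
    obtain ⟨r, hr⟩ := FiniteField.isSquare_neg_one_iff.2 (show Fintype.card F % 4 ≠ 3 by simp [hF])
    exact ⟨r, hr.symm⟩
  let c : ZMod 3 →+* F := ZMod.castHom dvd_rfl F
  have h2 : c 2 = -1 := by
    rw [two_eq, map_neg, map_one]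
  let f : K9 →+* F :=
    { toFun := fun z => c z.re + c z.im * i
      map_one' := by
        change c 1 + c 0 * i = 1
        simp
      map_zero' := by
        change c 0 + c 0 * i = 0
        simp
      map_add' := fun x y => by simp only [QuadraticAlgebra.re_add, QuadraticAlgebra.im_add, map_add]; ring
      map_mul' := fun x y => by
        simp only [QuadraticAlgebra.re_mul, QuadraticAlgebra.im_mul, map_add, map_mul, map_zero, h2]
        linear_combination (-(c x.im * c y.im)) * hi }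
  refine ⟨RingEquiv.ofBijective f ((Fintype.bijective_iff_injective_and_card f).2 ⟨?_, ?_⟩)⟩
  · refine (injective_iff_map_eq_zero f).2 fun z hz => ?_
    change c z.re + c z.im * i = 0 at hz
    have h : c (z.re * z.re + z.im * z.im) = 0 := by
      rw [map_add, map_mul, map_mul]
      linear_combination (c z.re - c z.im * i) * hz + (c z.im * c z.im) * hi
    rw [map_eq_zero] at h
    exact norm_eq_zero z h
  · rw [hF, card_K9]

/-- The adjugate of a unitary matrix of determinant one is its conjugate transpose. -/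
lemma adjugate_eq (hF : Fintype.card F = 9) (M : SU 3 F 3) (a b : Fin 3) :
    ((M : Matrix.SpecialLinearGroup (Fin 3) F) : Matrix (Fin 3) (Fin 3) F).adjugate a b =
      (((M : Matrix.SpecialLinearGroup (Fin 3) F) : Matrix (Fin 3) (Fin 3) F) b a) ^ 3 := by
  set A := ((M : Matrix.SpecialLinearGroup (Fin 3) F) : Matrix (Fin 3) (Fin 3) F) with hA
  have key : A.transpose * A.map (· ^ 3) = 1 := by
    ext i j
    have h : hermForm 3 F 3 (A.mulVec (Pi.single i 1)) (A.mulVec (Pi.single j 1)) =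
        hermForm 3 F 3 (Pi.single i 1) (Pi.single j 1) := M.2 _ _
    fin_cases i <;> fin_cases j <;>
      simpa [hermForm, Matrix.mul_apply, Fin.sum_univ_three, Matrix.mulVec_single, Pi.single_apply,
        Matrix.one_apply] using h
  have h9 : ∀ x : F, (x ^ 3) ^ 3 = x := fun x => by
    rw [← pow_mul, show 3 * 3 = Fintype.card F by rw [hF]]
    exact FiniteField.pow_card x
  have key' : (A.map (· ^ 3)).transpose * A = 1 := by
    have := congrArg Matrix.transpose key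
    rwa [Matrix.transpose_mul, Matrix.transpose_transpose, Matrix.transpose_one] at this
  have hd : A.det = 1 := (M : Matrix.SpecialLinearGroup (Fin 3) F).2
  have : A.adjugate = (A.map (· ^ 3)).transpose := by
    have h := congrArg (fun B => B * A.adjugate) key'
    simp only [mul_assoc, Matrix.mul_adjugate, hd, one_smul, mul_one, one_mul] at h
    exact h.symm
  rw [this]
  rfl

lemma killed (hF : Fintype.card F = 9) (M : SU 3 F 3) :
    ∃ k ∈ ({7, 8, 12} : Finset ℕ), M ^ k = 1 := by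
  obtain ⟨e⟩ := exists_equiv hF
  set A := ((M : Matrix.SpecialLinearGroup (Fin 3) F) : Matrix (Fin 3) (Fin 3) F) with hA
  have hd : A.det = 1 := (M : Matrix.SpecialLinearGroup (Fin 3) F).2
  have ht : A.adjugate.trace = A.trace ^ 3 := by
    have : CharP F 3 := charP_of_card_eq_prime_pow (f := 2) (hp := ⟨Nat.prime_three⟩) (by simp [hF])
    rw [Matrix.trace_fin_three, Matrix.trace_fin_three, adjugate_eq hF, adjugate_eq hF,
      adjugate_eq hF, add_pow_char, add_pow_char]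
  have h : ∀ a : K9, ∃ k ∈ ({7, 8, 12} : Finset ℕ),
      Spectrum.powCoeff a (-a ^ 3) 1 k = (0, 0, 1) := by decide +kernel
  obtain ⟨k, hk, hc⟩ := h (e.symm A.trace)
  refine ⟨k, hk, Subtype.ext (Subtype.ext ?_)⟩
  rw [SubmonoidClass.coe_pow, Matrix.SpecialLinearGroup.coe_pow]
  refine Spectrum.pow_eq_one_of_powCoeff (a := A.trace) (b := -A.trace ^ 3) (c := 1) ?_ ?_
  · have := Spectrum.cayley_hamilton_three A
    rwa [hd, ht] at this
  · have key : ∀ n, Spectrum.powCoeff A.trace (-A.trace ^ 3) 1 n =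
        (e (Spectrum.powCoeff (e.symm A.trace) (-(e.symm A.trace) ^ 3) 1 n).1,
          e (Spectrum.powCoeff (e.symm A.trace) (-(e.symm A.trace) ^ 3) 1 n).2.1,
          e (Spectrum.powCoeff (e.symm A.trace) (-(e.symm A.trace) ^ 3) 1 n).2.2) := by
      intro n
      induction n with
      | zero => simp [Spectrum.powCoeff]
      | succ n ih => simp [Spectrum.powCoeff, ih]
    rw [key k, hc]
    simp

/-- Transport a matrix over `K9` into `SU`. -/
lemma exists_order (hF : Fintype.card F = 9) (A : Matrix (Fin 3) (Fin 3) K9) (hd : A.det = 1)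
    (hu : A.transpose * A.map (· ^ 3) = 1) {k : ℕ} (hk : 0 < k) (h1 : A ^ k = 1)
    (B : Matrix (Fin 3) (Fin 3) K9) (hdB : B.det = 1) (huB : B.transpose * B.map (· ^ 3) = 1)
    (h2 : ∀ m < k, 0 < m → A ^ m * B ≠ B * A ^ m) : ∃ x : PSU 3 F 3, orderOf x = k := by
  obtain ⟨e⟩ := exists_equiv hF
  have : CharP F 3 := charP_of_card_eq_prime_pow (f := 2) (hp := ⟨Nat.prime_three⟩) (by simp [hF])
  have mk : ∀ C : Matrix (Fin 3) (Fin 3) K9, C.det = 1 → C.transpose * C.map (· ^ 3) = 1 →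
      ∃ x : SU 3 F 3,
        ((x : Matrix.SpecialLinearGroup (Fin 3) F) : Matrix (Fin 3) (Fin 3) F) =
          e.toRingHom.mapMatrix C := by
    intro C hC hCu
    refine ⟨⟨⟨e.toRingHom.mapMatrix C, by rw [← RingHom.map_det, hC, map_one]⟩, ?_⟩, rfl⟩
    intro u v
    have hu' : (e.toRingHom.mapMatrix C).transpose * (e.toRingHom.mapMatrix C).map (· ^ 3) = 1 := by
      have := congrArg e.toRingHom.mapMatrix hCu
      rw [map_mul, map_one] at this
      rw [← this]
      ext i j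
      simp [Matrix.mul_apply]
    change hermForm 3 F 3 ((e.toRingHom.mapMatrix C).mulVec u) ((e.toRingHom.mapMatrix C).mulVec v) = _
    have hconv : ∀ u v : Fin 3 → F, hermForm 3 F 3 u v = u ⬝ᵥ (fun i => v i ^ 3) := fun u v => rfl
    have hfrob : (fun i => (e.toRingHom.mapMatrix C).mulVec v i ^ 3) =
        ((e.toRingHom.mapMatrix C).map (· ^ 3)).mulVec (fun i => v i ^ 3) := by
      ext i
      simp only [Matrix.mulVec, dotProduct, Fin.sum_univ_three, Matrix.map_apply, add_pow_char, mul_pow]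
    rw [hconv, hconv, hfrob, ← Matrix.vecMul_transpose, ← Matrix.dotProduct_mulVec, Matrix.mulVec_mulVec, hu',
      Matrix.one_mulVec]
  obtain ⟨x, hx⟩ := mk A hd hu
  obtain ⟨y, hy⟩ := mk B hdB huB
  refine ⟨QuotientGroup.mk' _ x, Spectrum.orderOf_eq_of_forall hk ?_ ?_⟩
  · rw [← map_pow]
    have : x ^ k = 1 := by
      refine Subtype.ext (Subtype.ext ?_)
      rw [SubmonoidClass.coe_pow, Matrix.SpecialLinearGroup.coe_pow, hx, ← map_pow, h1, map_one]
      rfl
    rw [this, map_one]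
  · intro m hm hm0 h
    rw [← map_pow, QuotientGroup.mk'_apply, QuotientGroup.eq_one_iff, Subgroup.mem_center_iff] at h
    have h' := congrArg
      (fun z : SU 3 F 3 => ((z : Matrix.SpecialLinearGroup (Fin 3) F) : Matrix (Fin 3) (Fin 3) F)) (h y)
    simp only [Subgroup.coe_mul, SubmonoidClass.coe_pow, Matrix.SpecialLinearGroup.coe_mul,
      Matrix.SpecialLinearGroup.coe_pow, hx, hy, ← map_pow, ← map_mul] at h'
    exact h2 m hm hm0 ((Matrix.map_injective e.injective h').symm)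

lemma spectrum_psu (hF : Fintype.card F = 9) :
    Set.range (orderOf : PSU 3 F 3 → ℕ) = {d | ∃ k ∈ ({7, 8, 12} : Finset ℕ), d ∣ k} := by
  refine Spectrum.range_orderOf_eq_divisors _ (fun x => ?_) fun k hk => ?_
  · obtain ⟨z, rfl⟩ := QuotientGroup.mk'_surjective _ x
    obtain ⟨k, hk, h⟩ := killed hF z
    exact ⟨k, hk, by rw [← map_pow, h, map_one]⟩
  simp only [Finset.mem_insert, Finset.mem_singleton] at hk
  rcases hk with rfl | rfl | rfl
  · exact ⟨by norm_num, exists_order hF !![⟨0, 0⟩, ⟨0, 0⟩, ⟨0, 1⟩; ⟨1, 1⟩, ⟨1, 1⟩, ⟨0, 0⟩; ⟨1, 1⟩, ⟨2, 2⟩, ⟨0, 0⟩] (by rw [Matrix.det_fin_three]; decide +kernel)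
      (by decide +kernel) (by norm_num) (by decide +kernel) !![⟨0, 0⟩, ⟨0, 0⟩, ⟨0, 1⟩; ⟨0, 0⟩, ⟨0, 1⟩, ⟨0, 0⟩; ⟨1, 0⟩, ⟨0, 0⟩, ⟨0, 0⟩]
      (by rw [Matrix.det_fin_three]; decide +kernel) (by decide +kernel) (by decide +kernel)⟩
  · exact ⟨by norm_num, exists_order hF !![⟨0, 0⟩, ⟨0, 0⟩, ⟨0, 1⟩; ⟨0, 0⟩, ⟨0, 1⟩, ⟨0, 0⟩; ⟨1, 0⟩, ⟨0, 0⟩, ⟨0, 0⟩] (by rw [Matrix.det_fin_three]; decide +kernel)
      (by decide +kernel) (by norm_num) (by decide +kernel) !![⟨0, 0⟩, ⟨0, 0⟩, ⟨0, 1⟩; ⟨1, 1⟩, ⟨1, 1⟩, ⟨0, 0⟩; ⟨1, 1⟩, ⟨2, 2⟩, ⟨0, 0⟩]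
      (by rw [Matrix.det_fin_three]; decide +kernel) (by decide +kernel) (by decide +kernel)⟩
  · exact ⟨by norm_num, exists_order hF !![⟨0, 0⟩, ⟨0, 0⟩, ⟨0, 1⟩; ⟨1, 1⟩, ⟨2, 1⟩, ⟨0, 0⟩; ⟨1, 2⟩, ⟨2, 2⟩, ⟨0, 0⟩] (by rw [Matrix.det_fin_three]; decide +kernel)
      (by decide +kernel) (by norm_num) (by decide +kernel) !![⟨0, 0⟩, ⟨0, 0⟩, ⟨0, 1⟩; ⟨1, 1⟩, ⟨1, 1⟩, ⟨0, 0⟩; ⟨1, 1⟩, ⟨2, 2⟩, ⟨0, 0⟩]
      (by rw [Matrix.det_fin_three]; decide +kernel) (by decide +kernel) (by decide +kernel)⟩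

/-- There is a finite solvable group with exactly the same set of element orders as the simple group PSU(3,3) (realised over the field with 9 elements). -/
theorem result {F : Type*} [Field F] [Fintype F] (hF : Fintype.card F = 9) :
    ∃ (H : Type) (_ : Group H) (_ : Fintype H), Group.IsSolvable H ∧ Set.range (orderOf : H → ℕ) = Set.range (orderOf : Cfsg.PSU 3 F 3 → ℕ) := by
  obtain ⟨H, iH, iF, hs, hsp⟩ := witness
  exact ⟨H, iH, iF, hs, hsp.trans (spectrum_psu hF).symm⟩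

end Cfsg.Agent.S3438
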