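import Cfsg.Statements.S2157

set_option autoImplicit false
open Cfsg

namespace Cfsg.Agent.S2157

open Cfsg.Lie

/-- One chain of a row: each root is the next step from the previous one. -/
def stepOK (n : ℕ) (row : List (ℕ × Array (ℕ × ℤ))) : ℕ → List (ℕ × ℤ) → Bool
  | _, [] => true
  | prev, (u, _) :: l =>
    decide (u < n) &&
      (match row.find? (fun e => e.1 = prev) with
        | none => false
        | some e => match e.2.toList with
          | [] => false
          | (w, _) :: _ => decide (w = u)) &&
      stepOK n row u l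

/-- All chains of the table are consistent. -/
def tableOK (D : ChevalleyDatum) : Bool :=
  D.chain.toList.all fun row => row.toList.all fun e =>
    decide (e.1 < D.nroots) && stepOK D.nroots row.toList e.1 e.2.toList

theorem tableOK_G2 : tableOK chevG2 = true := by decide +kernel
theorem tableOK_B2 : tableOK chevB2 = true := by decide +kernel
theorem tableOK_D4 : tableOK chevD4 = true := by decide +kernel
theorem tableOK_F4 : tableOK chevF4 = true := by decide +kernel
theorem tableOK_E6 : tableOK chevE6 = true := by decide +kernel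
theorem tableOK_E7 : tableOK chevE7 = true := by decide +kernel
theorem tableOK_E8 : tableOK chevE8 = true := by decide +kernel

variable {D : ChevalleyDatum} {F : Type*} [Field F] {χ : ℕ → Fˣ}

theorem step_char (hχ : D.IsRootCharacter χ) {r : ℕ} (hr : r < D.nroots) :
    ∀ (l : List (ℕ × ℤ)) (prev : ℕ), prev < D.nroots →
      stepOK D.nroots (D.chain.getD r #[]).toList prev l = true →
      ∀ q ∈ l.zipIdx, χ q.1.1 = χ r ^ (q.2 + 1) * χ prev := by
  intro l
  induction l with
  | nil => intro _ _ _ q hq; simp at hq
  | cons a l ih =>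
    intro prev hp hs q hq
    obtain ⟨u, m⟩ := a
    simp only [stepOK, Bool.and_eq_true, decide_eq_true_eq] at hs
    obtain ⟨⟨hu, hm⟩, hrest⟩ := hs
    have hroot : D.chainRoot r prev 1 = some u := by
      split at hm
      · simp at hm
      · rename_i e he
        unfold ChevalleyDatum.chainRoot ChevalleyDatum.chainEntry
        rw [he]
        cases hl : e.2.toList with
        | nil => simp [hl] at hm
        | cons b t =>
          simp [hl] at hm ⊢
          exact hm
    have hmul : χ u = χ r * χ prev := hχ.2 r prev u hr hp hroot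
    rw [List.zipIdx_cons, List.mem_cons] at hq
    rcases hq with rfl | hq
    · simpa using hmul
    · rw [List.zipIdx_succ] at hq
      obtain ⟨q', hq', rfl⟩ := List.mem_map.1 hq
      have := ih u hu hrest q' hq'
      dsimp only [Prod.map, id]
      rw [this, hmul, pow_succ _ (q'.2 + 1), ← mul_assoc]

theorem chainCoeff_char (hD : tableOK D = true) (hχ : D.IsRootCharacter χ) {r s u : ℕ}
    (hr : r < D.nroots) {km : ℕ × ℤ} (h : km ∈ D.chainCoeff r s u) :
    χ u = χ r ^ km.1 * χ s := by
  simp only [ChevalleyDatum.chainCoeff, List.mem_flatMap, List.mem_filter, List.mem_map,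
    decide_eq_true_eq] at h
  obtain ⟨e, ⟨he, hes⟩, q, ⟨hq, hqu⟩, rfl⟩ := h
  have hrow : (D.chain.getD r #[]) ∈ D.chain.toList := by
    by_cases hlt : r < D.chain.size
    · rw [Array.getD, dif_pos hlt]
      exact Array.getElem_mem_toList hlt
    · exfalso
      rw [Array.getD, dif_neg hlt] at he
      simp at he
  unfold tableOK at hD
  have h1 := List.all_eq_true.1 (List.all_eq_true.1 hD _ hrow) e he
  rw [Bool.and_eq_true, decide_eq_true_eq] at h1
  subst hes hqu
  exact step_char hχ hr _ _ h1.1 h1.2 q hq

theorem conj_entry (hD : tableOK D = true) (hχ : D.IsRootCharacter χ) (r : Fin D.nroots) (t : F)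
    (i j : D.Idx) :
    Sum.elim (fun _ => (1 : F)) (fun s => (χ s.val : F)) i * D.xMat F r t i j *
        Sum.elim (fun _ => (1 : F)) (fun s => (((χ s.val)⁻¹ : Fˣ) : F)) j =
      D.xMat F r ((χ r.val : F) * t) i j := by
  have hneg : χ (D.negIdx.getD r.val 0) = (χ r.val)⁻¹ := hχ.1 r.val r.isLt
  rcases j with i₀ | s
  · rcases i with i₁ | u
    · simp [ChevalleyDatum.xMat]
    · by_cases hu : u = r
      · subst hu; simp [ChevalleyDatum.xMat]; ring
      · simp [ChevalleyDatum.xMat, hu]
  · by_cases hs : s = r
    · subst hs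
      rcases i with i₁ | u
      · simp [ChevalleyDatum.xMat]
      · by_cases hu : u = s
        · subst hu; simp [ChevalleyDatum.xMat]
        · simp [ChevalleyDatum.xMat, hu]
    · by_cases hn : s.val = D.negIdx.getD r.val 0
      · have hcs : χ s.val = (χ r.val)⁻¹ := by rw [hn]; exact hneg
        rcases i with i₁ | u
        · simp only [ChevalleyDatum.xMat, Matrix.of_apply, if_neg hs, if_pos hn, Sum.elim_inl,
            Sum.elim_inr, hcs, inv_inv]
          ring
        · simp only [ChevalleyDatum.xMat, Matrix.of_apply, if_neg hs, if_pos hn, Sum.elim_inr,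
            hcs, inv_inv]
          by_cases hu : u = s
          · subst hu; rw [if_pos rfl, if_pos rfl, hcs]; simp
          · rw [if_neg hu, if_neg hu]
            by_cases hur : u = r
            · subst hur; rw [if_pos rfl, if_pos rfl]; ring
            · rw [if_neg hur, if_neg hur]; simp
      · rcases i with i₁ | u
        · simp only [ChevalleyDatum.xMat, Matrix.of_apply, if_neg hs, if_neg hn, Sum.elim_inl,
            mul_zero, zero_mul]
        · simp only [ChevalleyDatum.xMat, Matrix.of_apply, if_neg hs, if_neg hn, Sum.elim_inr]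
          rw [mul_add, add_mul]
          congr 1
          · by_cases hu : u = s
            · subst hu; rw [if_pos rfl]; simp
            · rw [if_neg hu]; simp
          · rw [← List.sum_map_mul_left, ← List.sum_map_mul_right]
            refine congrArg List.sum (List.map_congr_left fun km hkm => ?_)
            rw [chainCoeff_char hD hχ r.isLt hkm, mul_pow, Units.val_mul, Units.val_pow_eq_pow_val,
              Units.val_inv_eq_inv_val]
            field_simp

/-- In a Chevalley group of type G₂, B₂, D₄, F₄, E₆, E₇ or E₈, for every character `χ` of the root lattice with values in `Fˣ` the diagonal matrix `ĥ(χ)` (identity on the coroot coordinates, `χ(s)` on the coordinate of `e_s`) conjugates each root element `x_r(t)` to `x_r(χ(r) t)`: `ĥ(χ) x_r(t) ĥ(χ)⁻¹ = x_r(χ(r) t)` as matrices, with `ĥ(χ)⁻¹` written as `ĥ(χ⁻¹)`. -/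
theorem result {F : Type*} [Field F] (D : Cfsg.Lie.ChevalleyDatum) (hD : D ∈ [Cfsg.Lie.chevG2, Cfsg.Lie.chevB2, Cfsg.Lie.chevD4, Cfsg.Lie.chevF4, Cfsg.Lie.chevE6, Cfsg.Lie.chevE7, Cfsg.Lie.chevE8]) (χ : ℕ → Fˣ) (hχ : D.IsRootCharacter χ) (r : ℕ) (hr : r < D.nroots) (t : F) :
    D.charDiag F χ * D.x F r t * D.charDiag F (fun s => (χ s)⁻¹) = D.x F r ((χ r : F) * t) := by
  have hOK : tableOK D = true := by
    simp only [List.mem_cons, List.not_mem_nil, or_false] at hD
    rcases hD with rfl | rfl | rfl | rfl | rfl | rfl | rfl
    exacts [tableOK_G2, tableOK_B2, tableOK_D4, tableOK_F4, tableOK_E6, tableOK_E7, tableOK_E8]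
  simp only [ChevalleyDatum.x, dif_pos hr]
  ext i j
  unfold ChevalleyDatum.charDiag
  rw [Matrix.mul_diagonal, Matrix.diagonal_mul]
  exact conj_entry hOK hχ ⟨r, hr⟩ t i j

end Cfsg.Agent.S2157
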