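import Cfsg.Statements.S1080
import Mathlib

set_option autoImplicit false
open Cfsg

namespace Cfsg.Agent.S1080

theorem map_xMat {F : Type*} [Field F] (D : Cfsg.Lie.ChevalleyDatum) (f : F →+* F)
    (r : Fin D.nroots) (t : F) : (D.xMat F r t).map f = D.xMat F r (f t) := by
  ext row col
  simp only [Matrix.map_apply, Cfsg.Lie.ChevalleyDatum.xMat, Matrix.of_apply]
  rcases col with i | s
  · rcases row with i' | u <;> simp [apply_ite f]
  · simp only
    split_ifs <;> rcases row with i' | u <;>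
      simp [apply_ite f, map_list_sum, List.map_map, Function.comp_def]

theorem map_group_le {F : Type*} [Field F] (D : Cfsg.Lie.ChevalleyDatum) (f : F →+* F) :
    (D.group F).map (Matrix.GeneralLinearGroup.map f) ≤ D.group F := by
  rw [Cfsg.Lie.ChevalleyDatum.group, Subgroup.map_le_iff_le_comap, Subgroup.closure_le]
  rintro g ⟨r, t, hg⟩
  refine Subgroup.subset_closure ⟨r, f t, ?_⟩
  rw [← map_xMat D f r t, ← hg]
  rfl


/-- Field automorphisms: for every field automorphism `f` there is a group automorphism sending each `x_r(t)` to `x_r(f t)`. -/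
theorem result {F : Type*} [Field F] (D : Cfsg.Lie.ChevalleyDatum) (hD : D ∈ [Cfsg.Lie.chevG2, Cfsg.Lie.chevB2, Cfsg.Lie.chevD4, Cfsg.Lie.chevF4, Cfsg.Lie.chevE6, Cfsg.Lie.chevE7, Cfsg.Lie.chevE8]) (f : F ≃+* F) :
    ∃ α : ↥(D.group F) ≃* ↥(D.group F), ∀ (g : ↥(D.group F)) (r : ℕ) (t : F), r < D.nroots →
      ((g : GL D.Idx F) : Matrix D.Idx D.Idx F) = D.x F r t → ((α g : GL D.Idx F) : Matrix D.Idx D.Idx F) = D.x F r (f t) := by
  have hinv : ∀ (e e' : F →+* F), (∀ x, e (e' x) = x) → ∀ g : GL D.Idx F,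
      Matrix.GeneralLinearGroup.map e (Matrix.GeneralLinearGroup.map e' g) = g := by
    intro e e' he g
    apply Units.ext
    ext i j
    simp [he]
  let a : ↥(D.group F) ≃* ↥(D.group F) :=
    { toFun := fun g => ⟨Matrix.GeneralLinearGroup.map f.toRingHom g.1,
        map_group_le D _ ⟨g.1, g.2, rfl⟩⟩
      invFun := fun g => ⟨Matrix.GeneralLinearGroup.map f.symm.toRingHom g.1,
        map_group_le D _ ⟨g.1, g.2, rfl⟩⟩
      left_inv := fun g => Subtype.ext (hinv _ _ f.symm_apply_apply g.1)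
      right_inv := fun g => Subtype.ext (hinv _ _ f.apply_symm_apply g.1)
      map_mul' := fun g h => Subtype.ext (map_mul _ g.1 h.1) }
  refine ⟨a, fun g r t hr hg => ?_⟩
  show (Matrix.GeneralLinearGroup.map f.toRingHom g.1 : Matrix D.Idx D.Idx F) = _
  rw [Cfsg.Lie.ChevalleyDatum.x, dif_pos hr] at hg ⊢
  have := map_xMat D f.toRingHom ⟨r, hr⟩ t
  rw [← hg] at this
  exact this

end Cfsg.Agent.S1080
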