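import Cfsg.Statements.S1098
import Cfsg.Agent.Lib.Twisted.Iso.DataB2
import Cfsg.Agent.Lib.Twisted.Iso.DataF4

set_option autoImplicit false
open Cfsg

namespace Cfsg.Agent.S1098

open Cfsg.Agent.Twisted.Iso in
theorem exists_auto {K : Type*} [Field K] [CharP K 2] (hperf : ∀ x : K, ∃ y : K, y ^ 2 = x)
    {D : Cfsg.Lie.ChevalleyDatum} {L : List (ℕ × ℕ)} {C : Cert} {tabs simps w0 : List ℕ}
    (S : Setup D 2 C tabs simps w0)
    (hchk : ∀ i < D.rank, D.simple i < D.nroots ∧ D.neg (D.simple i) < D.nroots ∧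
      C.br (D.simple i) = D.simple (L.getD i (0, 1)).1 ∧
      C.br (D.neg (D.simple i)) = D.neg (D.simple (L.getD i (0, 1)).1) ∧
      C.lam 2 0 (D.simple i) = (L.getD i (0, 1)).2 ∧
      C.lam 2 0 (D.neg (D.simple i)) = (L.getD i (0, 1)).2) :
    ∃ α : ↥(D.group K) ≃* ↥(D.group K), ∀ (g : ↥(D.group K)) (i : ℕ) (t : K), i < D.rank →
      (((g : GL D.Idx K) : Matrix D.Idx D.Idx K) = D.x K (D.simple i) t →
        ((α g : GL D.Idx K) : Matrix D.Idx D.Idx K) =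
          D.x K (D.simple (L.getD i (0, 1)).1) (t ^ (L.getD i (0, 1)).2)) ∧
      (((g : GL D.Idx K) : Matrix D.Idx D.Idx K) = D.x K (D.neg (D.simple i)) t →
        ((α g : GL D.Idx K) : Matrix D.Idx D.Idx K) =
          D.x K (D.neg (D.simple (L.getD i (0, 1)).1)) (t ^ (L.getD i (0, 1)).2)) := by
  refine ⟨MulEquiv.ofBijective (endo S 0) (endo_bijective S hperf), fun g i t hi => ?_⟩
  obtain ⟨h1, h2, h3, h4, h5, h6⟩ := hchk i hi
  refine ⟨fun hg => ?_, fun hg => ?_⟩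
  · rw [← h3, ← h5]; exact endo_of_coe S 0 h1 hg
  · rw [← h4, ← h6]; exact endo_of_coe S 0 h2 hg

/-- Graph automorphisms in characteristic 2 (K perfect): for B₂ (a short, b long) `x_a(t) ↦ x_b(t²)`, `x_b(t) ↦ x_a(t)`, and for F₄ (p₁, p₂ short, p₃, p₄ long) `x_{p₁}(t) ↦ x_{p₄}(t²)`, `x_{p₂}(t) ↦ x_{p₃}(t²)`, `x_{p₃}(t) ↦ x_{p₂}(t)`, `x_{p₄}(t) ↦ x_{p₁}(t)`, likewise on the negatives, extend to an automorphism of the group. -/
theorem result {K : Type*} [Field K] [CharP K 2] (hperf : ∀ x : K, ∃ y : K, y ^ 2 = x)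
    (p : Cfsg.Lie.ChevalleyDatum × List (ℕ × ℕ))
    (hp : p ∈ [(Cfsg.Lie.chevB2, [(1, 2), (0, 1)]), (Cfsg.Lie.chevF4, [(3, 2), (2, 2), (1, 1), (0, 1)])]) :
    ∃ α : ↥(p.1.group K) ≃* ↥(p.1.group K), ∀ (g : ↥(p.1.group K)) (i : ℕ) (t : K), i < p.1.rank →
      (((g : GL p.1.Idx K) : Matrix p.1.Idx p.1.Idx K) = p.1.x K (p.1.simple i) t →
        ((α g : GL p.1.Idx K) : Matrix p.1.Idx p.1.Idx K) = p.1.x K (p.1.simple (p.2.getD i (0, 1)).1) (t ^ (p.2.getD i (0, 1)).2)) ∧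
      (((g : GL p.1.Idx K) : Matrix p.1.Idx p.1.Idx K) = p.1.x K (p.1.neg (p.1.simple i)) t →
        ((α g : GL p.1.Idx K) : Matrix p.1.Idx p.1.Idx K) = p.1.x K (p.1.neg (p.1.simple (p.2.getD i (0, 1)).1)) (t ^ (p.2.getD i (0, 1)).2)) := by
  simp only [List.mem_cons, List.not_mem_nil, or_false] at hp
  rcases hp with rfl | rfl
  · exact exists_auto hperf Cfsg.Agent.Twisted.Iso.setupB2 (by decide +kernel)
  · exact exists_auto hperf Cfsg.Agent.Twisted.Iso.setupF4 (by decide +kernel)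

end Cfsg.Agent.S1098
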