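import Cfsg.Statements.S1099
import Cfsg.Agent.Lib.Twisted.Ree.Bijective
-- import your own Cfsg.Agent.* helpers here

set_option autoImplicit false
open Cfsg

namespace Cfsg.Agent.S1099

/-- Graph automorphism of G₂ in characteristic 3 (K perfect): `x_a(t) ↦ x_b(t³)`, `x_b(t) ↦ x_a(t)`, `x_{-a}(t) ↦ x_{-b}(t³)`, `x_{-b}(t) ↦ x_{-a}(t)` extend to an automorphism of the group. -/
theorem result {K : Type*} [Field K] [CharP K 3] (hperf : ∀ x : K, ∃ y : K, y ^ 3 = x) :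
    ∃ α : ↥(Cfsg.Lie.chevG2.group K) ≃* ↥(Cfsg.Lie.chevG2.group K), ∀ (g : ↥(Cfsg.Lie.chevG2.group K)) (t : K),
      (((g : GL Cfsg.Lie.chevG2.Idx K) : Matrix _ _ K) = Cfsg.Lie.chevG2.x K Cfsg.Lie.g2a t →
        ((α g : GL Cfsg.Lie.chevG2.Idx K) : Matrix _ _ K) = Cfsg.Lie.chevG2.x K Cfsg.Lie.g2b (t ^ 3)) ∧
      (((g : GL Cfsg.Lie.chevG2.Idx K) : Matrix _ _ K) = Cfsg.Lie.chevG2.x K Cfsg.Lie.g2b t →
        ((α g : GL Cfsg.Lie.chevG2.Idx K) : Matrix _ _ K) = Cfsg.Lie.chevG2.x K Cfsg.Lie.g2a t) ∧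
      (((g : GL Cfsg.Lie.chevG2.Idx K) : Matrix _ _ K) = Cfsg.Lie.chevG2.x K Cfsg.Lie.g2ma t →
        ((α g : GL Cfsg.Lie.chevG2.Idx K) : Matrix _ _ K) = Cfsg.Lie.chevG2.x K Cfsg.Lie.g2mb (t ^ 3)) ∧
      (((g : GL Cfsg.Lie.chevG2.Idx K) : Matrix _ _ K) = Cfsg.Lie.chevG2.x K Cfsg.Lie.g2mb t →
        ((α g : GL Cfsg.Lie.chevG2.Idx K) : Matrix _ _ K) = Cfsg.Lie.chevG2.x K Cfsg.Lie.g2ma t) := by
  refine ⟨MulEquiv.ofBijective (Twisted.Ree.endo (F := K) 0)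
    ⟨Twisted.Ree.endo_injective, Twisted.Ree.endo_surjective hperf⟩, fun g t => ?_⟩
  have key : ∀ r s e, ∀ hr : r < 12, Twisted.Ree.bar r = s → Twisted.Ree.lam 0 r = e →
      ((g : GL Cfsg.Lie.chevG2.Idx K) : Matrix _ _ K) = Cfsg.Lie.chevG2.x K r t →
      ((MulEquiv.ofBijective (Twisted.Ree.endo (F := K) 0)
        ⟨Twisted.Ree.endo_injective, Twisted.Ree.endo_surjective hperf⟩ g : GL Cfsg.Lie.chevG2.Idx K) :
          Matrix _ _ K) = Cfsg.Lie.chevG2.x K s (t ^ e) := by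
    intro r s e hr hs he h
    obtain rfl : g = Twisted.Ree.xg' r hr t := Subtype.ext (Units.ext h)
    show (((Twisted.Ree.endo 0 (Twisted.Ree.xg' r hr t)).1 : GL Cfsg.Lie.chevG2.Idx K) :
      Matrix Cfsg.Lie.chevG2.Idx Cfsg.Lie.chevG2.Idx K) = _
    rw [Twisted.Ree.endo_xe, ← hs, ← he]
    rfl
  refine ⟨key Cfsg.Lie.g2a Cfsg.Lie.g2b 3 (by decide) (by decide) (by decide), fun h => ?_,
    key Cfsg.Lie.g2ma Cfsg.Lie.g2mb 3 (by decide) (by decide) (by decide), fun h => ?_⟩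
  · simpa using key Cfsg.Lie.g2b Cfsg.Lie.g2a 1 (by decide) (by decide) (by decide) h
  · simpa using key Cfsg.Lie.g2mb Cfsg.Lie.g2ma 1 (by decide) (by decide) (by decide) h

end Cfsg.Agent.S1099
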