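import Cfsg.Statements.S2117
import Cfsg.Agent.Lib.Schur.Stem

set_option autoImplicit false
open Cfsg

namespace Cfsg.Agent.S2117

open Matrix
open scoped MatrixGroups

variable {F : Type*} [Field F]

/-! ### An invariant alternating pairing on a finite field vanishes -/

theorem pairing_trivial [Fintype F] (hnp : ¬ (Fintype.card F).Prime) (h4 : Fintype.card F ≠ 4)
    (h9 : Fintype.card F ≠ 9) {M : Type*} [CommGroup M] (β : F → F → M)
    (addl : ∀ u u' v, β (u + u') v = β u v * β u' v)
    (addr : ∀ u v v', β u (v + v') = β u v * β u v')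
    (inv : ∀ a u v, a ≠ 0 → β (a * a * u) (a * a * v) = β u v) :
    ∀ u v, β u v = 1 := by
  have zl : ∀ v, β 0 v = 1 := fun v => by
    have := addl 0 0 v; rw [add_zero] at this; exact left_eq_mul.1 this
  have zr : ∀ u, β u 0 = 1 := fun u => by
    have := addr u 0 0; rw [add_zero] at this; exact left_eq_mul.1 this
  have nl : ∀ u v, β (-u) v = (β u v)⁻¹ := fun u v => by
    have := addl (-u) u v; rw [neg_add_cancel, zl] at this
    exact eq_inv_of_mul_eq_one_left this.symm
  have nr : ∀ u v, β u (-v) = (β u v)⁻¹ := fun u v => by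
    have := addr u (-v) v; rw [neg_add_cancel, zr] at this
    exact eq_inv_of_mul_eq_one_left this.symm
  -- the adjoint relation
  let R : F → F → Prop := fun c d => ∀ u v, β (c * u) v = β u (d * v)
  have Radd : ∀ {c d c' d'}, R c d → R c' d' → R (c + c') (d + d') := fun h h' u v => by
    rw [add_mul, add_mul, addl, addr, h, h']
  have Rneg : ∀ {c d}, R c d → R (-c) (-d) := fun h u v => by
    rw [neg_mul, neg_mul, nl, nr, h]
  have Rsq : ∀ a : F, a ≠ 0 → R (a * a) (a⁻¹ * a⁻¹) := fun a ha u v => by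
    rw [← inv a u (a⁻¹ * a⁻¹ * v) ha]
    congr 1; field_simp
  have R0 : R 0 0 := fun u v => by rw [zero_mul, zero_mul, zl, zr]
  have R1 : R 1 1 := fun u v => by rw [one_mul, one_mul]
  have Rmul : ∀ {c d c' d'}, R c d → R c' d' → R (c * c') (d * d') := fun {c d c' d'} h h' u v => by
    rw [mul_assoc, h, h', mul_comm d d', mul_assoc]
  have Rsq' : ∀ b : F, ∃ d, R (b * b) d := fun b => by
    rcases eq_or_ne b 0 with rfl | hb
    · exact ⟨0, by rw [zero_mul]; exact R0⟩
    · exact ⟨_, Rsq b hb⟩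
  have hex : ∀ c : F, ∃ d, R c d := by
    intro c
    by_cases h2 : ringChar F = 2
    · obtain ⟨b, rfl⟩ := FiniteField.isSquare_of_char_two h2 c
      exact Rsq' b
    · have h2' : (2 : F) ≠ 0 := Ring.two_ne_zero h2
      obtain ⟨d₁, hd₁⟩ := Rsq' ((c + 1) / 2)
      obtain ⟨d₂, hd₂⟩ := Rsq' ((c - 1) / 2)
      refine ⟨d₁ + -d₂, ?_⟩
      have := Radd hd₁ (Rneg hd₂)
      convert this using 1
      field_simp
      ring
  choose α hα using hex
  by_contra hne
  push Not at hne
  obtain ⟨u₀, v₀, huv⟩ := hne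
  have huniq : ∀ {c d}, R c d → α c = d := by
    intro c d h
    by_contra hcd
    let w := α c - d
    have hw : w ≠ 0 := sub_ne_zero.2 hcd
    have hwker : ∀ u v, β u (w * v) = 1 := fun u v => by
      show β u ((α c - d) * v) = 1
      rw [sub_mul, sub_eq_add_neg, addr, nr, ← hα c u v, ← h u v, mul_inv_cancel]
    apply huv
    have := hwker u₀ (w⁻¹ * v₀)
    rwa [← mul_assoc, mul_inv_cancel₀ hw, one_mul] at this
  have α1 : α 1 = 1 := huniq R1
  have αadd : ∀ a b, α (a + b) = α a + α b := fun a b => huniq (Radd (hα a) (hα b))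
  have hu : ∀ a : F, a ≠ 0 → a * α a = 1 ∨ a * α a = -1 := fun a ha => by
    have h1 : α a * α a = a⁻¹ * a⁻¹ := (huniq (Rmul (hα a) (hα a))).symm.trans (huniq (Rsq a ha))
    apply mul_self_eq_one_iff.1
    calc a * α a * (a * α a) = a * a * (α a * α a) := by ring
      _ = 1 := by rw [h1]; field_simp
  have hpp : IsPrimePow (Fintype.card F) := Fintype.isPrimePow_card_of_field
  open Polynomial in
  by_cases h2 : ringChar F = 2
  · haveI : CharP F 2 := by rw [← h2]; exact ringChar.charP F
    have hneg : (-1 : F) = 1 := CharTwo.neg_eq 1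
    have key : ∀ a : F, a ≠ 0 → a ≠ 1 → ((X : F[X]) ^ 2 + X + 1).eval a = 0 := by
      intro a ha ha1
      have e1 : a * α a = 1 := by rcases hu a ha with h | h <;> simp [h, hneg]
      have ha2 : a + 1 ≠ 0 := fun h => ha1 (by
        have := eq_neg_of_add_eq_zero_left h; rwa [hneg] at this)
      have e2 : (a + 1) * (α a + 1) = 1 := by
        have := hu (a + 1) ha2
        rw [αadd, α1, hneg] at this
        tauto
      simp only [eval_add, eval_pow, eval_X, eval_one]
      linear_combination a * e2 - (a + 1) * e1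
    have hp0 : ((X : F[X]) ^ 2 + X + 1) ≠ 0 := by
      intro h
      have := congrArg (fun p => p.coeff 2) h
      simp [coeff_one, coeff_X] at this
    classical
    have hsub : (Finset.univ : Finset F) ⊆ {0, 1} ∪ ((X : F[X]) ^ 2 + X + 1).roots.toFinset := by
      intro a _
      by_cases ha : a = 0
      · simp [ha]
      by_cases ha1 : a = 1
      · simp [ha1]
      exact Finset.mem_union_right _ (Multiset.mem_toFinset.2 ((mem_roots hp0).2 (key a ha ha1)))
    have hdeg : ((X : F[X]) ^ 2 + X + 1).natDegree ≤ 2 := by compute_degree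
    have hcard : Fintype.card F ≤ 4 := by
      have h1 := Finset.card_le_card hsub
      have h2 := Finset.card_union_le ({0, 1} : Finset F)
        ((X : F[X]) ^ 2 + X + 1).roots.toFinset
      have h3 := (Multiset.toFinset_card_le _).trans (card_roots' ((X : F[X]) ^ 2 + X + 1))
      have h4 : ({0, 1} : Finset F).card ≤ 2 := Finset.card_le_two
      rw [Finset.card_univ] at h1
      omega
    have := hpp.two_le
    interval_cases hq : Fintype.card F <;>
      first | (exact absurd rfl h4) | (exact absurd (by decide) hnp)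
  · have key : ∀ a : F, a ≠ 0 → a ≠ -1 →
        (((X : F[X]) ^ 2 + X + 1) * (X ^ 2 + C 3 * X + 1) * (X ^ 2 - X - 1) *
          (X ^ 2 + X - 1)).eval a = 0 := by
      intro a ha ha1
      have e2 := hu (a + 1) (fun h => ha1 (eq_neg_of_add_eq_zero_left h))
      rw [αadd, α1] at e2
      simp only [eval_add, eval_sub, eval_mul, eval_pow, eval_X, eval_one, eval_C, mul_eq_zero]
      rcases hu a ha with e1 | e1 <;> rcases e2 with e2 | e2
      · exact Or.inl (Or.inl (Or.inl (by linear_combination a * e2 - (a + 1) * e1)))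
      · exact Or.inl (Or.inl (Or.inr (by linear_combination a * e2 - (a + 1) * e1)))
      · exact Or.inl (Or.inr (by linear_combination a * e2 - (a + 1) * e1))
      · exact Or.inr (by linear_combination a * e2 - (a + 1) * e1)
    have hne0 : ∀ b c : F, ((X : F[X]) ^ 2 + C b * X + C c) ≠ 0 := by
      intro b c h
      have := congrArg (fun p => p.coeff 2) h
      simp [coeff_C, coeff_X] at this
    have hp0 : (((X : F[X]) ^ 2 + X + 1) * (X ^ 2 + C 3 * X + 1) * (X ^ 2 - X - 1) *
          (X ^ 2 + X - 1)) ≠ 0 := by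
      have a1 : ((X : F[X]) ^ 2 + X + 1) ≠ 0 := by simpa using hne0 1 1
      have a2 : ((X : F[X]) ^ 2 + C 3 * X + 1) ≠ 0 := by simpa using hne0 3 1
      have a3 : ((X : F[X]) ^ 2 - X - 1) ≠ 0 := by simpa [sub_eq_add_neg] using hne0 (-1) (-1)
      have a4 : ((X : F[X]) ^ 2 + X - 1) ≠ 0 := by simpa [sub_eq_add_neg] using hne0 1 (-1)
      exact mul_ne_zero (mul_ne_zero (mul_ne_zero a1 a2) a3) a4
    classical
    generalize hP : (((X : F[X]) ^ 2 + X + 1) * (X ^ 2 + C 3 * X + 1) * (X ^ 2 - X - 1) *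
          (X ^ 2 + X - 1)) = P at key hp0
    have hdeg : P.natDegree ≤ 8 := by
      rw [← hP]; compute_degree
    have hsub : (Finset.univ : Finset F) ⊆ {0, -1} ∪ P.roots.toFinset := by
      intro a _
      by_cases ha : a = 0
      · simp [ha]
      by_cases ha1 : a = -1
      · simp [ha1]
      exact Finset.mem_union_right _ (Multiset.mem_toFinset.2 ((mem_roots hp0).2 (key a ha ha1)))
    have hcard : Fintype.card F ≤ 10 := by
      have h1 := Finset.card_le_card hsub
      have h2 := Finset.card_union_le ({0, -1} : Finset F) P.roots.toFinset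
      have h3 := (Multiset.toFinset_card_le _).trans (card_roots' P)
      have h4 : ({0, -1} : Finset F).card ≤ 2 := Finset.card_le_two
      rw [Finset.card_univ] at h1
      omega
    have hodd := FiniteField.odd_card_of_char_ne_two h2
    have := hpp.two_le
    interval_cases hq : Fintype.card F <;> first | omega | norm_num at hnp

/-! ### 2 × 2 matrices -/

/-- `x` is a scalar matrix. -/
def IsScal (x : SL(2, F)) : Prop := x 0 1 = 0 ∧ x 1 0 = 0 ∧ x 0 0 = x 1 1

theorem det_eq (x : SL(2, F)) : x 0 0 * x 1 1 - x 0 1 * x 1 0 = 1 := by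
  rw [← Matrix.det_fin_two]; exact x.2

theorem coe_mul2 (x y : SL(2, F)) (i j : Fin 2) : (x * y) i j = x i 0 * y 0 j + x i 1 * y 1 j := by
  simp [Matrix.mul_apply, Fin.sum_univ_two]

theorem IsScal.eq_one_or {x : SL(2, F)} (h : IsScal x) : x = 1 ∨ x = -1 := by
  have hd := det_eq x
  rw [h.1, ← h.2.2, zero_mul, sub_zero] at hd
  rcases mul_self_eq_one_iff.1 hd with h' | h'
  · left; ext i j; fin_cases i <;> fin_cases j <;> simp [h.1, h.2.1, h', ← h.2.2]
  · right; ext i j; fin_cases i <;> fin_cases j <;> simp [h.1, h.2.1, h', ← h.2.2]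

theorem isScal_one : IsScal (1 : SL(2, F)) := by simp [IsScal]

theorem not_scal_ne_one {x : SL(2, F)} (h : ¬ IsScal x) : x ≠ 1 := fun e => h (e ▸ isScal_one)

theorem centralizer_form {x g : SL(2, F)} (hx : ¬ IsScal x) (hc : g * x = x * g) :
    ∃ u v : F, (g : Matrix (Fin 2) (Fin 2) F) = u • 1 + v • (x : Matrix (Fin 2) (Fin 2) F) := by
  have e00 := congrArg (fun m : SL(2, F) => m 0 0) hc
  have e01 := congrArg (fun m : SL(2, F) => m 0 1) hc
  have e10 := congrArg (fun m : SL(2, F) => m 1 0) hc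
  simp only [coe_mul2] at e00 e01 e10
  suffices h : ∃ v : F, g 0 1 = v * x 0 1 ∧ g 1 0 = v * x 1 0 ∧
      g 1 1 - g 0 0 = v * (x 1 1 - x 0 0) by
    obtain ⟨v, h1, h2, h3⟩ := h
    refine ⟨g 0 0 - v * x 0 0, v, ?_⟩
    ext i j
    fin_cases i <;> fin_cases j <;> simp [h1, h2]
    linear_combination h3
  by_cases hb : x 0 1 = 0
  · by_cases hcc : x 1 0 = 0
    · have hd : x 1 1 - x 0 0 ≠ 0 := fun h => hx ⟨hb, hcc, (sub_eq_zero.1 h).symm⟩
      refine ⟨(g 1 1 - g 0 0) / (x 1 1 - x 0 0), ?_, ?_, ?_⟩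
      · field_simp; rw [hb] at e01 ⊢; linear_combination e01
      · field_simp; rw [hcc] at e10 ⊢; linear_combination -e10
      · field_simp
    · refine ⟨g 1 0 / x 1 0, ?_, ?_, ?_⟩
      · field_simp; linear_combination e00
      · field_simp
      · field_simp; linear_combination e10
  · refine ⟨g 0 1 / x 0 1, ?_, ?_, ?_⟩
    · field_simp
    · field_simp; linear_combination -e00
    · field_simp; linear_combination -e01

theorem coeff_unique {x : SL(2, F)} (hx : ¬ IsScal x) {u v u' v' : F}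
    (h : u • (1 : Matrix (Fin 2) (Fin 2) F) + v • (x : Matrix (Fin 2) (Fin 2) F) =
      u' • 1 + v' • (x : Matrix (Fin 2) (Fin 2) F)) : u = u' ∧ v = v' := by
  have e00 := congrFun (congrFun h 0) 0
  have e01 := congrFun (congrFun h 0) 1
  have e10 := congrFun (congrFun h 1) 0
  have e11 := congrFun (congrFun h 1) 1
  simp at e00 e01 e10 e11
  by_cases hv : v = v'
  · subst hv; simp at e00; exact ⟨e00, rfl⟩
  · exfalso
    have hv' : v - v' ≠ 0 := sub_ne_zero.2 hv
    refine hx ⟨?_, ?_, ?_⟩
    · exact (e01.resolve_left hv)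
    · exact (e10.resolve_left hv)
    · exact mul_left_cancel₀ hv' (by linear_combination e00 - e11)

theorem mul_self_coe (x : SL(2, F)) :
    (x : Matrix (Fin 2) (Fin 2) F) * (x : Matrix (Fin 2) (Fin 2) F) =
      (-1 : F) • 1 + (x 0 0 + x 1 1) • (x : Matrix (Fin 2) (Fin 2) F) := by
  have hd := det_eq x
  ext i j
  fin_cases i <;> fin_cases j <;> simp [Matrix.mul_apply, Fin.sum_univ_two] <;>
    first | linear_combination -hd | ring

/-- A finite group of matrices commuting with a regular semisimple element is cyclic. -/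
theorem isCyclic_of_commute [Finite F] (A : Subgroup SL(2, F)) {x : SL(2, F)} (hx : ¬ IsScal x)
    (ht : (x 0 0 + x 1 1) ^ 2 ≠ 4) (hc : ∀ g ∈ A, g * x = x * g) : IsCyclic A := by
  let K := AlgebraicClosure F
  let i : F →+* K := algebraMap F K
  let t := x 0 0 + x 1 1
  obtain ⟨l, hl⟩ := IsAlgClosed.exists_root
    (Polynomial.X ^ 2 - Polynomial.C (i t) * Polynomial.X + Polynomial.C (1 : K))
    (by
      have : (Polynomial.X ^ 2 - Polynomial.C (i t) * Polynomial.X + Polynomial.C (1 : K)).degree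
          = 2 := by compute_degree!
      rw [this]; decide)
  simp [Polynomial.IsRoot] at hl
  choose u v huv using fun g : A => centralizer_form hx (hc g g.2)
  have hone : u 1 = 1 ∧ v 1 = 0 := by
    refine coeff_unique hx ((huv 1).symm.trans ?_)
    simp
  let f : A →* K :=
    { toFun := fun g => i (u g) + i (v g) * l
      map_one' := by simp [hone.1, hone.2]
      map_mul' := fun g h => by
        have e : ((g * h : A) : SL(2, F)).1 =
            (u g * u h - v g * v h) • 1 +
              (u g * v h + v g * u h + v g * v h * t) • (x : Matrix (Fin 2) (Fin 2) F) := by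
          show (g : SL(2, F)).1 * (h : SL(2, F)).1 = _
          rw [huv g, huv h]
          simp only [add_mul, mul_add, smul_mul_assoc, mul_smul_comm, one_mul, mul_one,
            mul_self_coe x, smul_smul, smul_add]
          show _ = _ • _ + (_ + _ * (x 0 0 + x 1 1)) • (_ : Matrix (Fin 2) (Fin 2) F)
          module
        obtain ⟨e1, e2⟩ := coeff_unique hx ((huv (g * h)).symm.trans e)
        simp only [e1, e2, map_sub, map_add, map_mul]
        linear_combination -(i (v g) * i (v h)) * hl }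
  refine isCyclic_of_subgroup_isDomain f ?_
  rw [injective_iff_map_eq_one]
  intro g hg
  replace hg : i (u g) + i (v g) * l = 1 := hg
  have hd : u g * u g + u g * v g * t + v g * v g = 1 := by
    have h1 := det_eq (g : SL(2, F))
    have h2 := det_eq x
    have h3 := huv g
    have a00 := congrFun (congrFun h3 0) 0
    have a01 := congrFun (congrFun h3 0) 1
    have a10 := congrFun (congrFun h3 1) 0
    have a11 := congrFun (congrFun h3 1) 1
    simp at a00 a01 a10 a11
    rw [a00, a01, a10, a11] at h1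
    show u g * u g + u g * v g * (x 0 0 + x 1 1) + v g * v g = 1
    linear_combination h1 - v g * v g * h2
  have hd' := congrArg i hd
  simp only [map_add, map_mul, map_one] at hd'
  have hconj : i (u g) + i (v g) * (i t - l) = 1 := by
    linear_combination hd' - (i (v g))^2 * hl - (i (u g) + i (v g) * (i t - l)) * hg
  have hv0 : v g = 0 := by
    by_contra hv
    apply ht
    have hl2 : 2 * l = i t := by
      have hiv : i (v g) ≠ 0 := (map_ne_zero i).2 hv
      exact mul_left_cancel₀ hiv (by linear_combination hg - hconj)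
    apply i.injective
    simp only [map_pow, map_ofNat]
    show i t ^ 2 = 4
    linear_combination (-4 : K) * hl + (2 * l - i t) * hl2
  have hu0 : u g = 1 := by
    rw [hv0, map_zero, zero_mul, add_zero] at hg
    exact i.injective (hg.trans (map_one i).symm)
  apply Subtype.ext; apply Subtype.ext
  rw [huv g, hu0, hv0]; simp

/-- A non-scalar element whose order is a power of a prime different from the characteristic is
regular semisimple. -/
theorem trace_sq_ne {x : SL(2, F)} (hx : ¬ IsScal x) {n : ℕ} (hn : (n : F) ≠ 0) (hxn : x ^ n = 1) :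
    (x 0 0 + x 1 1) ^ 2 ≠ 4 := by
  intro ht
  obtain ⟨e, he, het⟩ : ∃ e : F, e * e = 1 ∧ x 0 0 + x 1 1 = 2 * e := by
    by_cases h2 : (2 : F) = 0
    · refine ⟨1, by ring, ?_⟩
      rw [mul_one, h2]
      exact eq_zero_of_pow_eq_zero (n := 2) (by rw [ht]; linear_combination 2 * h2)
    · refine ⟨(x 0 0 + x 1 1) / 2, ?_, by field_simp⟩
      field_simp
      linear_combination ht
  obtain ⟨N, hNdef⟩ : ∃ N : Matrix (Fin 2) (Fin 2) F,
      N = (-e) • 1 + (x : Matrix (Fin 2) (Fin 2) F) := ⟨_, rfl⟩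
  have hN : N * N = 0 := by
    simp only [hNdef, add_mul, mul_add, smul_mul_assoc, mul_smul_comm, one_mul, mul_one, smul_smul,
      mul_self_coe x, smul_add, het]
    have : (0 : Matrix (Fin 2) (Fin 2) F) = (0 : F) • 1 + (0 : F) • x.1 := by simp
    rw [this]
    match_scalars
    · linear_combination he
    · ring
  have hpow : ∀ k : ℕ, (x : Matrix (Fin 2) (Fin 2) F) ^ k =
      (e ^ k) • 1 + ((k : F) * e ^ k * e) • N := by
    intro k
    induction k with
    | zero => simp
    | succ k ih =>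
      have hxN : (x : Matrix (Fin 2) (Fin 2) F) = e • 1 + N := by simp [hNdef]
      rw [pow_succ, ih, hxN]
      simp only [add_mul, mul_add, smul_mul_assoc, mul_smul_comm, one_mul, mul_one, smul_smul, hN,
        smul_zero, add_zero, Nat.cast_succ]
      match_scalars
      · ring
      · linear_combination (-(1 : F) * e ^ k) * he
  have h1 := hpow n
  rw [show (x : Matrix (Fin 2) (Fin 2) F) ^ n = 1 from by
    simpa using congrArg Subtype.val hxn] at h1
  simp only [hNdef, smul_add, smul_smul, ← add_assoc, ← add_smul] at h1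
  have h2 : (1 : F) • (1 : Matrix (Fin 2) (Fin 2) F) + (0 : F) • x.1 = 1 := by simp
  obtain ⟨-, hb⟩ := coeff_unique hx (h2.trans h1)
  have he0 : e ≠ 0 := fun h => by rw [h, mul_zero] at he; exact zero_ne_one he
  exact mul_ne_zero (mul_ne_zero hn (pow_ne_zero n he0)) he0 hb.symm

/-! ### Sylow subgroups in characteristic prime to p -/

open Subgroup in
theorem commutator_inf_ker_cross {Γ : Type*} [Group Γ] [Finite F] (σ : Γ →* SL(2, F))
    (hz : σ.ker ≤ center Γ) {p : ℕ} [hp : Fact p.Prime] (hpF : (p : F) ≠ 0) (P : Subgroup Γ)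
    (hP : IsPGroup p P) : ⁅P, P⁆ ⊓ σ.ker = ⊥ := by
  have hQ : IsPGroup p (P.map σ) := hP.map σ
  by_cases hx : ∃ x ∈ P.map σ, ¬ IsScal x ∧ ∀ g ∈ P.map σ, g * x = x * g
  · obtain ⟨x, hxQ, hxs, hxc⟩ := hx
    obtain ⟨k, hk⟩ := hQ ⟨x, hxQ⟩
    have hk' : x ^ (p ^ k) = 1 := congrArg Subtype.val hk
    haveI := isCyclic_of_commute (P.map σ) hxs
      (trace_sq_ne hxs (by rw [Nat.cast_pow]; exact pow_ne_zero _ hpF) hk') hxc
    exact Schur.commutator_inf_ker_eq_bot_of_isCyclic σ hz P
  push Not at hx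
  by_cases hbot : ∀ g ∈ P.map σ, IsScal g
  · haveI : IsCyclic (P.map σ) := by
      refine isCyclic_iff_exists_zpowers_eq_top.2 ?_
      by_cases h1 : (-1 : SL(2, F)) ∈ P.map σ
      · refine ⟨⟨-1, h1⟩, eq_top_iff.2 fun g _ => ?_⟩
        rcases (hbot g g.2).eq_one_or with h | h
        · rw [show g = 1 from Subtype.ext h]; exact one_mem _
        · rw [show g = ⟨-1, h1⟩ from Subtype.ext h]; exact mem_zpowers _
      · refine ⟨1, eq_top_iff.2 fun g _ => ?_⟩
        rcases (hbot g g.2).eq_one_or with h | h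
        · rw [show g = 1 from Subtype.ext h]; exact one_mem _
        · exact absurd (h ▸ g.2) h1
    exact Schur.commutator_inf_ker_eq_bot_of_isCyclic σ hz P
  push Not at hbot
  obtain ⟨g₀, hg₀, hg₀s⟩ := hbot
  -- a non-scalar element normalised up to sign
  obtain ⟨x, hxQ, hxs, hxn⟩ : ∃ x ∈ P.map σ, ¬ IsScal x ∧
      ∀ g ∈ P.map σ, g * x = x * g ∨ g * x = -(x * g) := by
    let Z := center (P.map σ)
    have : Nontrivial ((P.map σ) ⧸ Z) := by
      refine ⟨⟨(QuotientGroup.mk ⟨g₀, hg₀⟩), 1, fun h => ?_⟩⟩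
      obtain ⟨g, hg, hne⟩ := hx g₀ hg₀ hg₀s
      exact hne (congrArg Subtype.val
        (mem_center_iff.1 ((QuotientGroup.eq_one_iff _).1 h) ⟨g, hg⟩))
    haveI := (hQ.to_quotient Z).center_nontrivial
    obtain ⟨y, hy⟩ := exists_ne (1 : center ((P.map σ) ⧸ Z))
    obtain ⟨x, hxy⟩ := QuotientGroup.mk_surjective (y : (P.map σ) ⧸ Z)
    have hxZ : x ∉ Z := fun h => hy (Subtype.ext (by
      rw [← hxy, (QuotientGroup.eq_one_iff _).2 h]; rfl))
    have hscal : ∀ z ∈ Z, IsScal (z : SL(2, F)) := fun z hz' => by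
      by_contra hs
      obtain ⟨g, hg, hne⟩ := hx z z.2 hs
      exact hne (congrArg Subtype.val (mem_center_iff.1 hz' ⟨g, hg⟩))
    refine ⟨x, x.2, fun hs => hxZ (mem_center_iff.2 fun g => Subtype.ext ?_), fun g hg => ?_⟩
    · rcases hs.eq_one_or with h | h <;> simp [h]
    · have hc := mem_center_iff.1 y.2 (QuotientGroup.mk ⟨g, hg⟩)
      rw [← hxy, ← QuotientGroup.mk_mul, ← QuotientGroup.mk_mul, QuotientGroup.eq] at hc
      have hgoal : g * x.1 = x.1 * g * ((g * x.1)⁻¹ * (x.1 * g))⁻¹ := by group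
      rcases (hscal _ hc).eq_one_or with h | h <;> simp only [Subgroup.coe_mul,
        InvMemClass.coe_inv] at h <;> rw [h] at hgoal <;> simp at hgoal
      · exact Or.inl hgoal
      · exact Or.inr hgoal
  obtain ⟨b, hb, hbne⟩ := hx x hxQ hxs
  have hbx : b * x = -(x * b) := (hxn b hb).resolve_left hbne
  obtain ⟨k, hk⟩ := hQ ⟨x, hxQ⟩
  have hk' : x ^ (p ^ k) = 1 := congrArg Subtype.val hk
  let A : Subgroup SL(2, F) := P.map σ ⊓ centralizer {x}
  have hmemA : ∀ {g}, g ∈ A ↔ g ∈ P.map σ ∧ g * x = x * g := by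
    intro g; simp [A, mem_centralizer_singleton_iff, eq_comm]
  haveI : IsCyclic A := isCyclic_of_commute A hxs
      (trace_sq_ne hxs (by rw [Nat.cast_pow]; exact pow_ne_zero _ hpF) hk') (fun g hg => (hmemA.1 hg).2)
  have hb2c : b * b * x = x * (b * b) := by
    rw [mul_assoc, hbx, mul_neg, ← mul_assoc, hbx, neg_mul, neg_neg, mul_assoc]
  have h2 : (2 : F) ≠ 0 := by
    intro h
    apply hbne
    rw [hbx]
    apply Subtype.ext
    ext i j
    show -((x * b) i j) = (x * b) i j
    linear_combination (-(x * b) i j) * h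
  have hbs : ¬ IsScal b := by
    intro hs; apply hbne; rcases hs.eq_one_or with h | h <;> simp [h]
  have hbb : b * b = -1 := by
    have hbx' : b.1 * x.1 = -(x.1 * b.1) := congrArg Subtype.val hbx
    have hsq : b.1 * b.1 * x.1 = x.1 * (b.1 * b.1) := congrArg Subtype.val hb2c
    rw [mul_self_coe b] at hsq
    simp only [add_mul, mul_add, smul_mul_assoc, mul_smul_comm, one_mul, mul_one, hbx', smul_neg]
      at hsq
    have hxb : (x : Matrix (Fin 2) (Fin 2) F) * b ≠ 0 := by
      intro h
      have := congrArg Matrix.det h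
      simp [x.2, b.2] at this
    have ht : b 0 0 + b 1 1 = 0 := by
      have h3 : (2 * (b 0 0 + b 1 1)) • ((x : Matrix (Fin 2) (Fin 2) F) * b) = 0 := by
        linear_combination (norm := module) (-1 : F) • hsq
      exact (mul_eq_zero.1 ((smul_eq_zero.1 h3).resolve_right hxb)).resolve_left h2
    apply Subtype.ext
    show b.1 * b.1 = -(1 : Matrix (Fin 2) (Fin 2) F)
    rw [mul_self_coe b, ht]
    simp
  refine Schur.commutator_inf_ker_eq_bot_of_quaternion σ hz P A inf_le_left hb ?_ ?_ ?_ ?_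
  · intro a ha
    refine hmemA.2 ⟨mul_mem (mul_mem hb (hmemA.1 ha).1) (inv_mem hb), ?_⟩
    have hbinv : b⁻¹ * x = -(x * b⁻¹) := by
      have := congrArg (fun m => b⁻¹ * m * b⁻¹) hbx
      simp [mul_assoc] at this
      rw [this, neg_neg]
    calc b * a * b⁻¹ * x = b * a * (b⁻¹ * x) := mul_assoc _ _ _
      _ = -(b * (a * x) * b⁻¹) := by rw [hbinv]; simp [mul_assoc]
      _ = -((b * x) * a * b⁻¹) := by rw [(hmemA.1 ha).2]; simp [mul_assoc]
      _ = x * (b * a * b⁻¹) := by rw [hbx]; simp [mul_assoc]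
  · exact hmemA.2 ⟨mul_mem hb hb, hb2c⟩
  · intro g hg
    rcases hxn g hg with h | h
    · exact Or.inl (hmemA.2 ⟨hg, h⟩)
    · refine Or.inr (hmemA.2 ⟨mul_mem hg (inv_mem hb), ?_⟩)
      have hbinv : b⁻¹ * x = -(x * b⁻¹) := by
        have := congrArg (fun m => b⁻¹ * m * b⁻¹) hbx
        simp [mul_assoc] at this
        rw [this, neg_neg]
      rw [mul_assoc, hbinv, mul_neg, ← mul_assoc, h, neg_mul, neg_neg, mul_assoc]
  · intro a ha hab
    obtain ⟨u, v, huv⟩ := centralizer_form hxs (hmemA.1 ha).2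
    have h : b.1 * a.1 = a.1 * b.1 := congrArg Subtype.val hab
    have hbx' : b.1 * x.1 = -(x.1 * b.1) := congrArg Subtype.val hbx
    simp only [huv, add_mul, mul_add, smul_mul_assoc, mul_smul_comm, one_mul, mul_one, hbx',
      smul_neg] at h
    have hxb : (x : Matrix (Fin 2) (Fin 2) F) * b ≠ 0 := by
      intro h
      have := congrArg Matrix.det h
      simp [x.2, b.2] at this
    have hv : v = 0 := by
      have h3 : (2 * v) • ((x : Matrix (Fin 2) (Fin 2) F) * b) = 0 := by
        linear_combination (norm := module) (-1 : F) • h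
      exact (mul_eq_zero.1 ((smul_eq_zero.1 h3).resolve_right hxb)).resolve_left h2
    have hs : IsScal a := by
      refine ⟨?_, ?_, ?_⟩ <;> simp [huv, hv]
    rcases hs.eq_one_or with h | h
    · exact Or.inl h
    · exact Or.inr (h.trans hbb.symm)

/-! ### The defining characteristic -/

/-- The upper unitriangular element. -/
def U1 (a : F) : SL(2, F) := ⟨!![1, a; 0, 1], by simp [Matrix.det_fin_two]⟩

theorem U1_val (a : F) : (U1 a : Matrix (Fin 2) (Fin 2) F) = !![1, a; 0, 1] := rfl

theorem U1_mul (a b : F) : U1 a * U1 b = U1 (a + b) := by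
  apply Subtype.ext
  show (U1 a : Matrix (Fin 2) (Fin 2) F) * (U1 b : Matrix (Fin 2) (Fin 2) F) = _
  rw [U1_val, U1_val, U1_val]
  simp [add_comm]

/-- The unitriangular group as a homomorphism. -/
def U1Hom : Multiplicative F →* SL(2, F) where
  toFun a := U1 a.toAdd
  map_one' := by apply Subtype.ext; simp [U1, Matrix.one_fin_two]
  map_mul' a b := (U1_mul _ _).symm

open Subgroup in
theorem eq_range_of_le {p : ℕ} [hp : Fact p.Prime] [CharP F p] [Finite F]
    (Q : Subgroup SL(2, F)) (hQ : IsPGroup p Q) (hle : U1Hom.range ≤ Q) : Q = U1Hom.range := by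
  refine le_antisymm ?_ hle
  have hnt : Nontrivial Q := by
    refine ⟨⟨⟨U1 1, hle ⟨Multiplicative.ofAdd 1, rfl⟩⟩, 1, fun h => ?_⟩⟩
    have := congrArg (fun m : Q => (m : SL(2, F)) 0 1) h
    simp [U1] at this
  haveI := hQ.center_nontrivial
  obtain ⟨x, hx⟩ := exists_ne (1 : center Q)
  have hone : ∀ (g : Q) (a : F), (g : SL(2, F)) 1 0 = 0 → (g : SL(2, F)) 0 0 = a →
      (g : SL(2, F)) 1 1 = a → a = 1 := by
    intro g a h10 h00 h11
    have hd := det_eq (g : SL(2, F))
    rw [h10, h00, h11, mul_zero, sub_zero] at hd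
    rcases mul_self_eq_one_iff.1 hd with h | h
    · exact h
    · subst h
      obtain ⟨k, hk⟩ := hQ g
      have hk' := congrArg (fun m : Q => (m : SL(2, F))) hk
      simp only [SubgroupClass.coe_pow, OneMemClass.coe_one] at hk'
      have hpow : ∀ n : ℕ, ((g : SL(2, F)) ^ n) 0 0 = (-1 : F) ^ n ∧
          ((g : SL(2, F)) ^ n) 1 0 = 0 := by
        intro n
        induction n with
        | zero => simp
        | succ n ih =>
          rw [pow_succ]
          constructor
          · rw [coe_mul2, ih.1, h00, h10, mul_zero, add_zero, pow_succ]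
          · rw [coe_mul2, ih.2, h10, zero_mul, mul_zero, add_zero]
      have := (hpow (p ^ k)).1
      rw [hk', neg_one_pow_char_pow] at this
      simp at this
      exact this.symm
  have hcomm : ∀ g : Q, (g : SL(2, F)) * x.1.1 = x.1.1 * g :=
    fun g => congrArg Subtype.val (mem_center_iff.1 x.2 g)
  have h1 := hcomm ⟨U1 1, hle ⟨Multiplicative.ofAdd 1, rfl⟩⟩
  have x10 : x.1.1 1 0 = 0 := by
    have := congrArg (fun m : SL(2, F) => m 0 0) h1
    simpa [coe_mul2, U1_val] using this
  have x00 : x.1.1 0 0 = x.1.1 1 1 := by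
    have := congrArg (fun m : SL(2, F) => m 0 1) h1
    simp [coe_mul2, U1_val] at this
    linear_combination -this
  have xa := hone x.1 _ x10 rfl x00.symm
  have x01 : x.1.1 0 1 ≠ 0 := by
    intro h
    apply hx
    apply Subtype.ext; apply Subtype.ext; apply Subtype.ext
    ext i j
    fin_cases i <;> fin_cases j <;> simp [h, x10, xa, ← x00]
  intro g hg
  have h2 := hcomm ⟨g, hg⟩
  have g10 : g 1 0 = 0 := by
    have := congrArg (fun m : SL(2, F) => m 0 0) h2
    simp [coe_mul2, x10] at this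
    exact (mul_eq_zero.1 (show x.1.1 0 1 * g 1 0 = 0 by linear_combination -this)).resolve_left x01
  have g00 : g 0 0 = g 1 1 := by
    have := congrArg (fun m : SL(2, F) => m 0 1) h2
    simp [coe_mul2, xa, ← x00] at this
    exact mul_right_cancel₀ x01 (by linear_combination this)
  have ga := hone ⟨g, hg⟩ _ g10 rfl g00.symm
  refine ⟨Multiplicative.ofAdd (g 0 1), ?_⟩
  show U1 (g 0 1) = g
  apply Subtype.ext
  ext i j
  fin_cases i <;> fin_cases j <;> simp [U1_val, g10, ← g00, show g 0 0 = 1 from ga]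

set_option maxHeartbeats 1000000 in
open Subgroup in
theorem commutator_inf_ker_defining {Γ : Type*} [Group Γ] [Fintype F] (h4 : Fintype.card F ≠ 4)
    (h9 : Fintype.card F ≠ 9) (σ : Γ →* SL(2, F)) (hs : Function.Surjective σ)
    (hz : σ.ker ≤ center Γ) (P : Subgroup Γ) (hP : P.map σ = U1Hom.range) :
    ⁅P, P⁆ ⊓ σ.ker = ⊥ := by
  by_cases hprime : (Fintype.card F).Prime
  · haveI := Fact.mk hprime
    haveI : IsCyclic (Multiplicative F) := isCyclic_of_prime_card (p := Fintype.card F) (by simp)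
    haveI : IsCyclic (P.map σ) := by
      rw [hP]
      exact isCyclic_of_surjective (U1Hom (F := F)).rangeRestrict (MonoidHom.rangeRestrict_surjective _)
    exact Schur.commutator_inf_ker_eq_bot_of_isCyclic σ hz P
  choose s hs' using fun a : F => hs (U1 a)
  have hcz : ∀ a b : Γ, σ a * σ b = σ b * σ a → a * b * a⁻¹ * b⁻¹ ∈ center Γ := fun a b h => hz (by
    show σ _ = 1
    rw [map_mul, map_mul, map_mul, map_inv, map_inv, h]; group)
  have hU : ∀ a b : F, U1 a * U1 b = U1 b * U1 a := fun a b => by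
    rw [U1_mul, U1_mul, add_comm]
  let cm : Γ → Γ → Γ := fun a b => a * b * a⁻¹ * b⁻¹
  -- commutators ignore central factors
  have cml : ∀ k a b, k ∈ center Γ → cm (k * a) b = cm a b := fun k a b hk => by
    show k * a * b * (k * a)⁻¹ * b⁻¹ = a * b * a⁻¹ * b⁻¹
    have := mem_center_iff.1 hk (a * b * a⁻¹)
    calc k * a * b * (k * a)⁻¹ * b⁻¹ = k * (a * b * a⁻¹) * k⁻¹ * b⁻¹ := by group
      _ = (a * b * a⁻¹ * k) * k⁻¹ * b⁻¹ := by rw [this]
      _ = a * b * a⁻¹ * b⁻¹ := by group
  have cmr : ∀ k a b, k ∈ center Γ → cm a (k * b) = cm a b := fun k a b hk => by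
    show a * (k * b) * a⁻¹ * (k * b)⁻¹ = a * b * a⁻¹ * b⁻¹
    have := mem_center_iff.1 hk a
    calc a * (k * b) * a⁻¹ * (k * b)⁻¹ = (a * k) * (b * a⁻¹ * b⁻¹) * k⁻¹ := by group
      _ = k * (a * b * a⁻¹ * b⁻¹) * k⁻¹ := by rw [this]; group
      _ = a * b * a⁻¹ * b⁻¹ := by
        rw [← mem_center_iff.1 hk (a * b * a⁻¹ * b⁻¹)]; group
  have dec : ∀ (g : Γ) (a : F), σ g = U1 a → ∃ k ∈ center Γ, g = k * s a := fun g a h =>
    ⟨g * (s a)⁻¹, hz (by show σ _ = 1; rw [map_mul, map_inv, hs', h, mul_inv_cancel]), by group⟩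
  let β : F → F → center Γ := fun a b => ⟨cm (s a) (s b), hcz _ _ (by rw [hs', hs', hU])⟩
  letI : CommGroup (center Γ) :=
    { (inferInstance : Group (center Γ)) with
      mul_comm := fun x y => Subtype.ext (mem_center_iff.1 y.2 x.1) }
  have key : ∀ a b : F, β a b = 1 := by
    apply pairing_trivial hprime h4 h9 β
    · intro a a' b
      apply Subtype.ext
      obtain ⟨k, hk, hk'⟩ := dec (s a * s a') (a + a') (by rw [map_mul, hs', hs', U1_mul])
      show cm (s (a + a')) (s b) = cm (s a) (s b) * cm (s a') (s b)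
      rw [← cml k (s (a + a')) (s b) hk, ← hk']
      have hc := mem_center_iff.1 (β a' b).2 (s a)
      calc cm (s a * s a') (s b) = s a * cm (s a') (s b) * (s b * (s a)⁻¹ * (s b)⁻¹) := by
            show s a * s a' * s b * (s a * s a')⁻¹ * (s b)⁻¹ =
              s a * (s a' * s b * (s a')⁻¹ * (s b)⁻¹) * _
            group
        _ = cm (s a') (s b) * s a * (s b * (s a)⁻¹ * (s b)⁻¹) := by
            rw [show s a * cm (s a') (s b) = cm (s a') (s b) * s a from hc]
        _ = cm (s a') (s b) * cm (s a) (s b) := by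
            show _ * s a * (s b * (s a)⁻¹ * (s b)⁻¹) = _ * (s a * s b * (s a)⁻¹ * (s b)⁻¹)
            group
        _ = cm (s a) (s b) * cm (s a') (s b) := mem_center_iff.1 (β a b).2 _
    · intro a b b'
      apply Subtype.ext
      obtain ⟨k, hk, hk'⟩ := dec (s b * s b') (b + b') (by rw [map_mul, hs', hs', U1_mul])
      show cm (s a) (s (b + b')) = cm (s a) (s b) * cm (s a) (s b')
      rw [← cmr k (s a) (s (b + b')) hk, ← hk']
      have hc := mem_center_iff.1 (β a b').2 (s b)
      calc cm (s a) (s b * s b') = cm (s a) (s b) * (s b * cm (s a) (s b') * (s b)⁻¹) := by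
            show s a * (s b * s b') * (s a)⁻¹ * (s b * s b')⁻¹ = s a * s b * (s a)⁻¹ * (s b)⁻¹ *
              (s b * (s a * s b' * (s a)⁻¹ * (s b')⁻¹) * (s b)⁻¹)
            group
        _ = cm (s a) (s b) * cm (s a) (s b') := by
            rw [show s b * cm (s a) (s b') = cm (s a) (s b') * s b from hc, mul_inv_cancel_right]
    · intro c a b hc0
      apply Subtype.ext
      let g0 : SL(2, F) := ⟨!![c, 0; 0, c⁻¹], by simp [Matrix.det_fin_two, hc0]⟩
      obtain ⟨g, hg⟩ := hs g0
      have hconj : ∀ z : F, σ (g * s z * g⁻¹) = U1 (c * c * z) := fun z => by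
        rw [map_mul, map_mul, map_inv, hg, hs', mul_inv_eq_iff_eq_mul]
        apply Subtype.ext
        show g0.1 * (U1 z).1 = (U1 (c * c * z)).1 * g0.1
        simp [U1_val, g0]
        field_simp
      obtain ⟨k, hk, hk'⟩ := dec _ _ (hconj a)
      obtain ⟨l, hl, hl'⟩ := dec _ _ (hconj b)
      show cm (s (c * c * a)) (s (c * c * b)) = cm (s a) (s b)
      rw [← cml k _ _ hk, ← cmr l _ _ hl, ← hk', ← hl']
      show g * s a * g⁻¹ * (g * s b * g⁻¹) * (g * s a * g⁻¹)⁻¹ * (g * s b * g⁻¹)⁻¹ = _
      calc _ = g * cm (s a) (s b) * g⁻¹ := by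
            show _ = g * (s a * s b * (s a)⁻¹ * (s b)⁻¹) * g⁻¹
            group
        _ = cm (s a) (s b) := by
            rw [show g * cm (s a) (s b) = cm (s a) (s b) * g from mem_center_iff.1 (β a b).2 g,
              mul_inv_cancel_right]
  have hbot : ⁅P, P⁆ = ⊥ := by
    rw [eq_bot_iff, Subgroup.commutator_le]
    intro x hx y hy
    obtain ⟨a, ha⟩ : σ x ∈ U1Hom.range := hP ▸ ⟨x, hx, rfl⟩
    obtain ⟨b, hb⟩ : σ y ∈ U1Hom.range := hP ▸ ⟨y, hy, rfl⟩
    obtain ⟨k, hk, rfl⟩ := dec x a.toAdd ha.symm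
    obtain ⟨l, hl, rfl⟩ := dec y b.toAdd hb.symm
    rw [mem_bot, commutatorElement_def]
    show cm (k * s _) (l * s _) = 1
    rw [cml _ _ _ hk, cmr _ _ _ hl]
    exact congrArg Subtype.val (key _ _)
  rw [hbot, bot_inf_eq]

/-- For a finite field with q elements, q ≠ 4 and q ≠ 9, the special linear group SL₂ has trivial Schur multiplier (here the Schur multiplier is described through stem extensions, as in the definitions). -/
theorem result {F : Type*} [Field F] [Fintype F] (h4 : Fintype.card F ≠ 4) (h9 : Fintype.card F ≠ 9) : Cfsg.HasCyclicSchurMultiplier (Matrix.SpecialLinearGroup (Fin 2) F) 1 := by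
  refine Schur.hasCyclicSchurMultiplier_one fun Γ _ _ σ hσ => ?_
  refine Schur.ker_eq_bot_of_sylow σ hσ.2.1 hσ.2.2 fun p hp => ?_
  haveI := Fact.mk hp
  by_cases hpF : (p : F) = 0
  · haveI : CharP F p := by
      rw [← CharP.ringChar_of_prime_eq_zero hp hpF]; exact ringChar.charP F
    have hU : IsPGroup p (U1Hom (F := F)).range := by
      intro g
      obtain ⟨a, ha⟩ := g.2
      refine ⟨1, Subtype.ext ?_⟩
      rw [SubgroupClass.coe_pow, ← ha, pow_one, ← map_pow]
      rw [show a ^ p = 1 from Multiplicative.toAdd.injective (by simp [nsmul_eq_mul, hpF]), map_one]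
      rfl
    obtain ⟨P, hP⟩ := Schur.exists_sylow_le_map σ hσ.1 hU
    exact ⟨P, commutator_inf_ker_defining h4 h9 σ hσ.1 hσ.2.1 P
      (eq_range_of_le _ (P.isPGroup'.map σ) hP)⟩
  · exact ⟨default, commutator_inf_ker_cross σ hσ.2.1 hpF _ (default : Sylow p Γ).isPGroup'⟩

end Cfsg.Agent.S2117
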