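import Cfsg.Statements.S2156
import Cfsg.Agent.Lib.Chev.AutGraph

set_option autoImplicit false
open Cfsg

namespace Cfsg.Agent.S2156

/-- Over a finite field, every automorphism of the Chevalley group of type G₂, B₂, D₄, F₄, E₆, E₇ or E₈ is the composite of a field automorphism, a graph automorphism, a diagonal automorphism and an inner automorphism: `θ y = x · d(g(f y)) · x⁻¹` for some group element `x`, diagonal `d`, graph `g` and field `f` (each possibly the identity; diagonal here includes conjugation by elements of the diagonal subgroup H). -/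
theorem result {F : Type*} [Field F] [Finite F] (D : Cfsg.Lie.ChevalleyDatum) (hD : D ∈ [Cfsg.Lie.chevG2, Cfsg.Lie.chevB2, Cfsg.Lie.chevD4, Cfsg.Lie.chevF4, Cfsg.Lie.chevE6, Cfsg.Lie.chevE7, Cfsg.Lie.chevE8]) (θ : ↥(D.group F) ≃* ↥(D.group F)) :
    ∃ (x : ↥(D.group F)) (d g f : ↥(D.group F) ≃* ↥(D.group F)),
      D.IsDiagonalAut d ∧ D.IsGraphAut g ∧ D.IsFieldAut f ∧ ∀ y : ↥(D.group F), θ y = x * d (g (f y)) * x⁻¹ := by
  classical
  have hG := Cfsg.Agent.Chev.good_of_mem hD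
  obtain ⟨tabs, simps, w0, hf, hw⟩ := Cfsg.Agent.Chev.BNSetup.exists_facts_longest hD
  obtain ⟨dd, Bc, hC, hN⟩ := Cfsg.Agent.Chev.BNSetup.exists_autCerts hD
  obtain ⟨x, d, θ', ρ, s, hd, hθd, hθ'⟩ := Cfsg.Agent.Chev.BNSetup.exists_nodeAut hG hf hD hw
    (Cfsg.Agent.Chev.BNSetup.negTri_of_mem hD) hC hN θ
  obtain ⟨hsym, σ, hσ⟩ := Cfsg.Agent.Chev.BNSetup.field_graph hD hG hf hθ'
  obtain ⟨f, hf'⟩ := S1080.result D hD σ
  have hfx : ∀ r < D.nroots, ∀ t : F, f.symm (Cfsg.Agent.Chev.BNSetup.xG hG r t) =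
      Cfsg.Agent.Chev.BNSetup.xG hG r (σ.symm t) := fun r hr t => by
    rw [MulEquiv.symm_apply_eq]
    refine (Cfsg.Agent.Chev.BNSetup.eq_xG hG ?_).symm
    rw [hf' _ r (σ.symm t) hr (Cfsg.Agent.Chev.BNSetup.coe_xe hG r _), RingEquiv.apply_symm_apply]
  refine ⟨x, d, f.symm.trans θ', f, hd, ⟨ρ, hsym, fun g i t => ⟨fun hg => ?_, fun hg => ?_⟩⟩, ⟨σ, hf'⟩, fun y => ?_⟩
  · rw [Cfsg.Agent.Chev.BNSetup.eq_xG hG hg, MulEquiv.trans_apply, hfx _ (hG.simple_lt i.2), (hθ' i).1,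
      hσ, RingEquiv.apply_symm_apply]
    rfl
  · rw [Cfsg.Agent.Chev.BNSetup.eq_xG hG hg, MulEquiv.trans_apply, hfx _ (hG.neg_lt (hG.simple_lt i.2)),
      (hθ' i).2, hσ, RingEquiv.apply_symm_apply]
    rfl
  · rw [hθd y, MulEquiv.trans_apply, MulEquiv.symm_apply_apply]

end Cfsg.Agent.S2156
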