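import Cfsg.Statements.S2160
import Cfsg.Agent.Lib.Chev.SimpleGen
import Cfsg.Agent.Lib.Chev.Seven

set_option autoImplicit false
open Cfsg

namespace Cfsg.Agent.S2160

open Cfsg.Lie Cfsg.Agent.Chev in
theorem field_graph_comm {F : Type*} [Field F] {D : ChevalleyDatum} (hG : Good D)
    (f g : ↥(D.group F) ≃* ↥(D.group F)) (hf : D.IsFieldAut f) (hg : D.IsGraphAut g)
    (y : ↥(D.group F)) : f (g y) = g (f y) := by
  obtain ⟨σ, hσ⟩ := hf
  obtain ⟨π, -, hπ⟩ := hg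
  have hf' : ∀ r < D.nroots, ∀ t : F, f (hG.xgrp r t) = hG.xgrp r (σ t) := fun r hr t =>
    hG.eq_xgrp (hσ _ r t hr (hG.coe_xgrp r t))
  have key : f.toMonoidHom.comp g.toMonoidHom = g.toMonoidHom.comp f.toMonoidHom := by
    refine hG.hom_ext_simple (fun i hi t => ?_) fun i hi t => ?_
    · have hg' : ∀ t : F, g (hG.xgrp (D.simple i) t) = hG.xgrp (D.simple (π ⟨i, hi⟩))
          (t ^ D.graphExp (ringChar F) i (π ⟨i, hi⟩)) := fun t =>
        hG.eq_xgrp ((hπ _ ⟨i, hi⟩ t).1 (hG.coe_xgrp _ t))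
      show f (g _) = g (f _)
      rw [hg', hf' _ (hG.simple_lt (π ⟨i, hi⟩).2), hf' _ (hG.simple_lt hi), hg', map_pow]
    · have hg' : ∀ t : F, g (hG.xgrp (D.neg (D.simple i)) t) =
          hG.xgrp (D.neg (D.simple (π ⟨i, hi⟩))) (t ^ D.graphExp (ringChar F) i (π ⟨i, hi⟩)) := fun t =>
        hG.eq_xgrp ((hπ _ ⟨i, hi⟩ t).2 (hG.coe_xgrp _ t))
      show f (g _) = g (f _)
      rw [hg', hf' _ (hG.neg_lt (hG.simple_lt (π ⟨i, hi⟩).2)), hf' _ (hG.neg_lt (hG.simple_lt hi)), hg',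
        map_pow]
  exact DFunLike.congr_fun key y

/-- In a Chevalley group of type G₂, B₂, D₄, F₄, E₆, E₇ or E₈ over a finite field, every field automorphism commutes with every graph automorphism. -/
theorem result {F : Type*} [Field F] [Finite F] (D : Cfsg.Lie.ChevalleyDatum) (hD : D ∈ [Cfsg.Lie.chevG2, Cfsg.Lie.chevB2, Cfsg.Lie.chevD4, Cfsg.Lie.chevF4, Cfsg.Lie.chevE6, Cfsg.Lie.chevE7, Cfsg.Lie.chevE8]) (f g : ↥(D.group F) ≃* ↥(D.group F))
    (hf : D.IsFieldAut f) (hg : D.IsGraphAut g) (y : ↥(D.group F)) : f (g y) = g (f y) := by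
  exact field_graph_comm (Chev.good_of_mem hD) f g hf hg y

end Cfsg.Agent.S2160
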