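import Cfsg.Statements.S0206
import Cfsg.Agent.Lib.Involution.Dihedral

set_option autoImplicit false
open Cfsg

namespace Cfsg.Agent.S0206

/-- Two distinct involutions x, y of a finite group generate a subgroup isomorphic to the dihedral group of order 2·|xy|. -/
theorem result {G : Type*} [Group G] [Finite G] (x y : G) (hx : orderOf x = 2) (hy : orderOf y = 2) (hxy : x ≠ y) : Nonempty (↥(Subgroup.closure ({x, y} : Set G)) ≃* DihedralGroup (orderOf (x * y))) := by
  have hx1 := Cfsg.Agent.Involution.sq_of_orderOf_two hx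
  have hy1 := Cfsg.Agent.Involution.sq_of_orderOf_two hy
  have hz := Cfsg.Agent.Involution.invol_conj_mul hx1 hy1
  have hxn : ∀ k : ℤ, (x * y) ^ k ≠ x := by
    intro k hk
    have hc : Commute x (x * y) := by
      have := (Commute.refl (x * y)).zpow_left k
      rwa [hk] at this
    have h1 : x * y = (x * y)⁻¹ := by
      rw [← hz, hc.eq, mul_inv_cancel_right]
    have h2 : (x * y) ^ (2 : ℤ) = 1 := by rw [zpow_two]; nth_rw 2 [h1]; rw [mul_inv_cancel]
    obtain ⟨i, hi | hi⟩ := Int.even_or_odd' k
    · rw [hi, zpow_mul, h2, one_zpow] at hk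
      rw [← hk, orderOf_one] at hx
      omega
    · rw [hi, zpow_add, zpow_mul, h2, one_zpow, one_mul, zpow_one] at hk
      have hy0 : y = 1 := by simpa using hk
      rw [hy0, orderOf_one] at hy
      omega
  let n := orderOf (x * y)
  let e : ZMod n → G := fun i => (x * y) ^ (ZMod.cast i : ℤ)
  have he : ∀ k : ℤ, e (k : ZMod n) = (x * y) ^ k := by
    intro k
    show (x * y) ^ _ = _
    rw [zpow_eq_zpow_iff_modEq, ← ZMod.intCast_eq_intCast_iff, ZMod.intCast_zmod_cast]
  have hei : ∀ i : ZMod n, ∃ k : ℤ, (k : ZMod n) = i := fun i => ⟨_, ZMod.intCast_zmod_cast i⟩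
  let f : DihedralGroup n → G := fun d => match d with
    | DihedralGroup.r i => e i
    | DihedralGroup.sr i => x * e i
  have hmul : ∀ a b, f (a * b) = f a * f b := by
    rintro (i | i) (j | j) <;> obtain ⟨k, rfl⟩ := hei i <;> obtain ⟨l, rfl⟩ := hei j
    · rw [DihedralGroup.r_mul_r, ← Int.cast_add]
      show e _ = e _ * e _
      rw [he, he, he, zpow_add]
    · rw [DihedralGroup.r_mul_sr, ← Int.cast_sub]
      show x * e _ = e _ * (x * e _)
      rw [he, he, he, ← mul_assoc, Cfsg.Agent.Involution.zpow_mul_invol hz, mul_assoc, ← zpow_add,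
        neg_add_eq_sub]
    · rw [DihedralGroup.sr_mul_r, ← Int.cast_add]
      show x * e _ = x * e _ * e _
      rw [he, he, he, mul_assoc, ← zpow_add]
    · rw [DihedralGroup.sr_mul_sr, ← Int.cast_sub]
      show e _ = x * e _ * (x * e _)
      rw [he, he, he, mul_assoc, ← mul_assoc ((x * y) ^ k),
        Cfsg.Agent.Involution.zpow_mul_invol hz, mul_assoc x, ← mul_assoc x x, hx1, one_mul,
        ← zpow_add, neg_add_eq_sub]
  let F : DihedralGroup n →* G := MonoidHom.mk' f hmul
  have hinj : Function.Injective F := by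
    rw [← MonoidHom.ker_eq_bot_iff, eq_bot_iff]
    rintro (i | i) hi <;> obtain ⟨k, rfl⟩ := hei i <;>
      rw [MonoidHom.mem_ker] at hi <;> rw [Subgroup.mem_bot]
    · change e _ = 1 at hi
      rw [he, ← orderOf_dvd_iff_zpow_eq_one] at hi
      rw [DihedralGroup.one_def, (ZMod.intCast_zmod_eq_zero_iff_dvd k n).mpr hi]
    · change x * e _ = 1 at hi
      rw [he] at hi
      exact absurd ((eq_inv_of_mul_eq_one_right hi).trans (inv_eq_of_mul_eq_one_right hx1)) (hxn k)
  have hrange : F.range = Subgroup.closure ({x, y} : Set G) := by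
    apply le_antisymm
    · rintro _ ⟨i | i, rfl⟩ <;> obtain ⟨k, rfl⟩ := hei i
      · show e _ ∈ _
        rw [he]
        exact Cfsg.Agent.Involution.zpow_mem_closure_pair x y k
      · show x * e _ ∈ _
        rw [he]
        exact mul_mem (Cfsg.Agent.Involution.left_mem_closure_pair x y)
          (Cfsg.Agent.Involution.zpow_mem_closure_pair x y k)
    · intro d hd
      obtain ⟨k, rfl | rfl⟩ := Cfsg.Agent.Involution.mem_closure_pair_cases hx1 hy1 hd
      · exact ⟨DihedralGroup.r (k : ZMod n), he k⟩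
      · exact ⟨DihedralGroup.sr (k : ZMod n), congrArg (x * ·) (he k)⟩
  exact ⟨((MonoidHom.ofInjective hinj).trans (MulEquiv.subgroupCongr hrange)).symm⟩

end Cfsg.Agent.S0206
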