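import Cfsg.Statements.S0514
import Cfsg.Agent.Lib.Transfer.Frobenius
import Mathlib.GroupTheory.SpecificGroups.Dihedral
import Mathlib.FieldTheory.Finite.Basic

set_option autoImplicit false
open Cfsg

namespace Cfsg.Agent.S0514

open Subgroup DihedralGroup

theorem mem_zpowers_of_orderOf_eq {K : Type*} [Group K] [Finite K] [IsCyclic K] {x y : K}
    (h : orderOf y = orderOf x) : y ∈ zpowers x := by
  classical
  have := Fintype.ofFinite K
  have hsub : (zpowers x : Set K).toFinset ⊆
      (Finset.univ.filter fun z : K => z ^ orderOf x = 1) := by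
    intro z hz
    rw [Set.mem_toFinset] at hz
    obtain ⟨k, rfl⟩ := mem_zpowers_iff.mp hz
    simp only [Finset.mem_filter, Finset.mem_univ, true_and]
    rw [← zpow_natCast, zpow_comm, zpow_natCast, pow_orderOf_eq_one, one_zpow]
  have heq := Finset.eq_of_subset_of_card_le hsub (by
    refine (IsCyclic.card_pow_eq_one_le (orderOf_pos x)).trans ?_
    exact le_of_eq (by rw [← Fintype.card_zpowers (x := x), Set.toFinset_card]; rfl))
  have hy : y ∈ (Finset.univ.filter fun z : K => z ^ orderOf x = 1) := by
    simp [← h, pow_orderOf_eq_one]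
  rw [← heq, Set.mem_toFinset] at hy
  exact hy

/-- An automorphism of odd order of a 2-group embedded in a dihedral group, fixing some
nonidentity element, is trivial. -/
theorem eq_one_of_odd {Q : Type*} [Group Q] [Finite Q] {n : ℕ} [NeZero n]
    (φ : Q →* DihedralGroup n) (hφ : Function.Injective φ) (hQ : IsPGroup 2 Q)
    (α : MulAut Q) (hα : Odd (orderOf α)) {t : Q} (ht : t ≠ 1) (htα : α t = t) : α = 1 := by
  classical
  obtain ⟨m, hm⟩ := IsPGroup.iff_card.mp hQ
  have hco : ∀ i : ℕ, Nat.Coprime (2 ^ i) (orderOf α) := fun i =>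
    Nat.Coprime.pow_left i ((Nat.coprime_two_left).mpr hα)
  have hfix : ∀ (x : Q) (i : ℕ), (α ^ (2 ^ i)) x = x → α x = x := by
    intro x i hx
    obtain ⟨k, hk⟩ := exists_pow_eq_self_of_coprime (hco i)
    have hkx : ∀ k : ℕ, ((α ^ (2 ^ i)) ^ k) x = x := by
      intro k
      induction k with
      | zero => rfl
      | succ k ih => rw [pow_succ, MulAut.mul_apply, hx, ih]
    have := hkx k
    rwa [hk] at this
  let R : Subgroup Q := (zpowers (r 1 : DihedralGroup n)).comap φ
  have hrot : ∀ x : Q, x ∈ R ∨ x * x = 1 := by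
    intro x
    rcases hx : φ x with i | i
    · left
      show φ x ∈ zpowers (r 1)
      exact ⟨i.cast, by simp [hx]⟩
    · right
      apply hφ
      rw [map_mul, hx, sr_mul_self, map_one]
  have hRc : IsCyclic R := isCyclic_of_injective (φ.subgroupComap (zpowers (r 1 : DihedralGroup n)))
    (fun a b e => Subtype.ext (hφ (congrArg Subtype.val e)))
  by_cases hx0 : ∃ x₀ : Q, x₀ * x₀ ≠ 1
  · obtain ⟨x₀, hx0⟩ := hx0
    have hbig : ∀ x : Q, x * x ≠ 1 → α x = x := by
      intro x hx
      have hxR : x ∈ R := (hrot x).resolve_right hx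
      have haR : α x ∈ R := (hrot (α x)).resolve_right fun e =>
        hx (α.injective (by rw [map_mul, e, map_one]))
      obtain ⟨j, hj⟩ := mem_powers_iff_mem_zpowers.mpr (mem_zpowers_of_orderOf_eq
        (x := (⟨x, hxR⟩ : R)) (y := ⟨α x, haR⟩)
        (by rw [← Subgroup.orderOf_coe, ← Subgroup.orderOf_coe]; exact MulEquiv.orderOf_eq α x))
      have hj' : x ^ j = α x := congrArg Subtype.val hj
      obtain ⟨a, ha⟩ : ∃ a, orderOf x = 2 ^ a := IsPGroup.iff_orderOf.mp hQ x
      have ha0 : a ≠ 0 := by
        rintro rfl
        exact hx (by simp [orderOf_eq_one_iff.mp (by simpa using ha)])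
      have hpow : ∀ k, (α ^ k) x = x ^ (j ^ k) := by
        intro k
        induction k with
        | zero => simp
        | succ k ih => rw [pow_succ', MulAut.mul_apply, ih, map_pow, ← hj', ← pow_mul, pow_succ, mul_comm]
      have hjco : j.Coprime (2 ^ a) := by
        refine Nat.Coprime.pow_right a ((Nat.coprime_two_right).mpr ?_)
        by_contra hev
        rw [Nat.not_odd_iff_even, even_iff_two_dvd] at hev
        obtain ⟨j', rfl⟩ := hev
        have h1 : orderOf (α x) ∣ 2 ^ (a - 1) := by
          apply orderOf_dvd_of_pow_eq_one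
          rw [← hj', ← pow_mul, show 2 * j' * 2 ^ (a - 1) = 2 ^ a * j' by
            rw [mul_right_comm, ← pow_succ', Nat.sub_add_cancel (Nat.one_le_iff_ne_zero.mpr ha0)],
            pow_mul, ← ha, pow_orderOf_eq_one, one_pow]
        rw [MulEquiv.orderOf_eq, ha] at h1
        have := Nat.pow_dvd_pow_iff_le_right (x := 2) (by omega) |>.mp h1
        omega
      refine hfix x (a - 1) ?_
      rw [hpow]
      conv_rhs => rw [← pow_one x]
      rw [pow_eq_pow_iff_modEq, ha, ← Nat.totient_prime_pow_succ Nat.prime_two (a - 1) |>.trans (mul_one _),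
        Nat.sub_add_cancel (Nat.one_le_iff_ne_zero.mpr ha0)]
      exact Nat.ModEq.pow_totient hjco
    have hRfix : ∀ z ∈ R, α z = z := by
      intro z hz
      by_cases hzz : z * z = 1
      · have hx₀R : x₀ ∈ R := (hrot x₀).resolve_right hx0
        have hc : z * x₀ = x₀ * z := by
          have := hRc.isMulCommutative
          exact setLike_mul_comm hz hx₀R
        have h1 := hbig (z * x₀) (by
          rw [show z * x₀ * (z * x₀) = z * (x₀ * z) * x₀ by group, ← hc,
            show z * (z * x₀) * x₀ = (z * z) * (x₀ * x₀) by group, hzz, one_mul]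
          exact hx0)
        rw [map_mul, hbig x₀ hx0] at h1
        exact mul_right_cancel h1
      · exact hbig z hzz
    ext y
    by_cases hy : y ∈ R
    · exact hRfix y hy
    have hay : α y ∉ R := fun h => hy (by
      have := hRfix (α y) h
      rw [α.injective this] at h
      exact h)
    have hmem : y⁻¹ * α y ∈ R := by
      show φ (y⁻¹ * α y) ∈ zpowers (r 1)
      rw [map_mul, map_inv]
      rcases h1 : φ y with i | i
      · exact absurd (show φ y ∈ zpowers (r 1) from ⟨i.cast, by simp [h1]⟩) hy
      rcases h2 : φ (α y) with j | j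
      · exact absurd (show φ (α y) ∈ zpowers (r 1) from ⟨j.cast, by simp [h2]⟩) hay
      rw [inv_sr, sr_mul_sr]
      exact ⟨(j - i).cast, by simp⟩
    set c := y⁻¹ * α y with hc
    have hk : ∀ k, (α ^ k) y = y * c ^ k := by
      intro k
      induction k with
      | zero => simp
      | succ k ih => rw [pow_succ', MulAut.mul_apply, ih, map_mul, map_pow, hRfix c hmem, pow_succ',
          ← mul_assoc, hc, mul_inv_cancel_left]
    have h1 := hk (orderOf α)
    rw [pow_orderOf_eq_one, MulAut.one_apply, left_eq_mul] at h1
    obtain ⟨i, hi⟩ := IsPGroup.iff_orderOf.mp hQ c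
    have h2 : c = 1 := orderOf_eq_one_iff.mp
      (Nat.eq_one_of_dvd_coprimes (hco i) (dvd_of_eq hi) (orderOf_dvd_of_pow_eq_one h1))
    rw [hc, inv_mul_eq_one] at h2
    exact h2.symm
  · push Not at hx0
    have hR2 : Nat.card R ≤ 2 := by
      have := Fintype.ofFinite R
      rw [Nat.card_eq_fintype_card, ← Finset.card_univ]
      refine le_trans (le_of_eq (congrArg Finset.card ?_)) (IsCyclic.card_pow_eq_one_le (α := R) (n := 2) two_pos)
      rw [Finset.filter_true_of_mem]
      intro z _
      exact Subtype.ext (by simpa [sq] using hx0 z)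
    have hcard : Nat.card Q ≤ 4 := by
      rw [← R.card_mul_index]
      have h2 : R.index ≤ 2 := by
        refine Nat.le_of_dvd two_pos ((index_comap _ φ).symm ▸ ?_)
        have hidx : (zpowers (r 1 : DihedralGroup n)).index = 2 := by
          have := (zpowers (r 1 : DihedralGroup n)).card_mul_index
          rw [Nat.card_zpowers, orderOf_r_one, nat_card, mul_comm 2] at this
          exact Nat.eq_of_mul_eq_mul_left (NeZero.pos n) this
        have : (zpowers (r 1 : DihedralGroup n)).Normal := normal_of_index_eq_two hidx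
        exact hidx ▸ relIndex_dvd_index_of_normal _ _
      calc _ ≤ 2 * 2 := Nat.mul_le_mul hR2 h2
        _ = 4 := rfl
    have hsq : ∀ y, α (α y) = y := by
      intro y
      by_contra hne
      have hy1 : α y ≠ y := fun e => hne (by rw [e, e])
      have hne1 : y ≠ 1 := fun e => hy1 (by rw [e, map_one])
      have hnet : y ≠ t := fun e => hy1 (by rw [e, htα])
      have e1 : ∀ u v : Q, u ≠ v → α u ≠ α v := fun u v h e => h (α.injective e)
      have := Fintype.ofFinite Q
      have h5 : ({1, t, y, α y, α (α y)} : Finset Q).card = 5 := by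
        rw [Finset.card_insert_of_notMem, Finset.card_insert_of_notMem, Finset.card_insert_of_notMem,
          Finset.card_pair]
        · exact e1 _ _ (Ne.symm hy1)
        · simp only [Finset.mem_insert, Finset.mem_singleton, not_or]
          exact ⟨Ne.symm hy1, Ne.symm hne⟩
        · simp only [Finset.mem_insert, Finset.mem_singleton, not_or]
          exact ⟨Ne.symm hnet, htα ▸ e1 _ _ (Ne.symm hnet),
            fun e => hnet (α.injective (α.injective (by rw [htα, htα]; exact e.symm)))⟩
        · simp only [Finset.mem_insert, Finset.mem_singleton, not_or]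
          exact ⟨Ne.symm ht, Ne.symm hne1, fun e => hne1 (α.injective (by rw [map_one]; exact e.symm)),
            fun e => hne1 (α.injective (α.injective (by rw [map_one, map_one]; exact e.symm)))⟩
      have := (Finset.card_le_univ ({1, t, y, α y, α (α y)} : Finset Q))
      rw [h5, ← Nat.card_eq_fintype_card] at this
      omega
    ext y
    refine hfix y 1 ?_
    rw [pow_one, pow_two, MulAut.mul_apply]
    exact hsq y

/-- In a finite group whose Sylow 2-subgroups are dihedral of order at least 4, the centralizer of any involution has a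
normal subgroup of odd order whose index in the centralizer is a power of 2. -/
theorem result {X : Type*} [Group X] [Finite X]
    (S : Sylow 2 X) (n : ℕ) (hn : 2 ≤ n) (hS : Nonempty ((S : Subgroup X) ≃* DihedralGroup n)) (t : X)
    (ht : orderOf t = 2) :
    ∃ N : Subgroup (Subgroup.centralizer ({t} : Set X)), N.Normal ∧ Odd (Nat.card N) ∧ ∃ k : ℕ, N.index = 2 ^ k := by
  have : NeZero n := ⟨by omega⟩
  obtain ⟨e₀⟩ := hS
  set C := Subgroup.centralizer ({t} : Set X) with hC
  obtain ⟨T⟩ := (inferInstance : Nonempty (Sylow 2 C))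
  have key : Cfsg.HasNormalPComplement 2 C := by
    refine Transfer.hasNormalPComplement_of_centralizer T fun Q hQ g hg hco => ?_
    let tc : C := ⟨t, mem_centralizer_singleton_iff.mpr rfl⟩
    have hcen : ∀ c : C, c * tc = tc * c := fun c =>
      Subtype.ext (mem_centralizer_singleton_iff.mp c.2)
    set Q' := Q ⊔ zpowers tc with hQ'
    have hQp : IsPGroup 2 Q' := by
      have hz : IsPGroup 2 (zpowers tc) := IsPGroup.of_card (n := 1) (by
        rw [Nat.card_zpowers, ← orderOf_coe, pow_one]; exact ht)
      have hnorm : Q ≤ normalizer (zpowers tc : Set C) := by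
        rw [le_normalizer_iff]
        intro c _ z hz
        obtain ⟨k, rfl⟩ := mem_zpowers_iff.mp hz
        rw [(show Commute c tc from hcen c).zpow_right k |>.eq, mul_inv_cancel_right]
        exact ⟨k, rfl⟩
      exact (T.2.to_le hQ).to_sup_of_normal_right' hz hnorm
    obtain ⟨T', hT'⟩ := (hQp.map C.subtype).exists_le_sylow
    let φ : Q' →* DihedralGroup n := ((T'.equiv S).trans e₀).toMonoidHom.comp
      ((Subgroup.inclusion hT').comp (C.subtype.subgroupMap Q'))
    have hφ : Function.Injective φ := ((T'.equiv S).trans e₀).injective.comp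
      ((inclusion_injective hT').comp fun a b e =>
        Subtype.ext (C.subtype_injective ((congrArg Subtype.val e :))))
    have hg' : g ∈ normalizer (Q' : Set C) := by
      rw [mem_normalizer_iff_map_conj_eq, hQ', Subgroup.map_sup, mem_normalizer_iff_map_conj_eq.mp hg,
        MonoidHom.map_zpowers]
      congr 2
      show g * tc * g⁻¹ = tc
      rw [hcen, mul_inv_cancel_right]
    let α : MulAut Q' := (MulAut.conjNormal (H := Q'.subgroupOf (normalizer (Q' : Set C))) ⟨g, hg'⟩
      |> fun a => ((subgroupOfEquivOfLe le_normalizer).symm.trans a).trans (subgroupOfEquivOfLe le_normalizer))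
    have hα : ∀ q : Q', ((α q : Q') : C) = g * q * g⁻¹ := fun q => rfl
    have hαo : Odd (orderOf α) := by
      have hodd : Odd (orderOf g) := Nat.coprime_two_right.mp hco
      refine hodd.of_dvd_nat (orderOf_dvd_of_pow_eq_one ?_)
      have hk : ∀ (k : ℕ) (q : Q'), (((α ^ k) q : Q') : C) = g ^ k * q * (g ^ k)⁻¹ := by
        intro k
        induction k with
        | zero => simp
        | succ k ih => intro q; rw [pow_succ', MulAut.mul_apply, hα, ih]; group
      ext q
      rw [hk, pow_orderOf_eq_one]; simp
    have hmem : tc ∈ Q' := mem_sup_right (mem_zpowers tc)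
    have h1 := eq_one_of_odd φ hφ hQp α hαo (t := ⟨tc, hmem⟩)
      (fun e => by
        have := congrArg (fun z : Q' => ((z : C) : X)) e
        simp only [tc, OneMemClass.coe_one] at this
        rw [this, orderOf_one] at ht
        exact absurd ht (by norm_num))
      (Subtype.ext (by rw [hα]; show g * tc * g⁻¹ = tc; rw [hcen, mul_inv_cancel_right]))
    rw [mem_centralizer_iff]
    intro q hq
    have h2 := hα ⟨q, mem_sup_left hq⟩
    rw [h1, MulAut.one_apply] at h2
    calc q * g = g * q * g⁻¹ * g := by rw [← h2]
      _ = g * q := by group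
  obtain ⟨P, N, hN, hc⟩ := key
  have hco := Transfer.coprime_card_of_isComplement'_sylow P hc
  obtain ⟨k, hk⟩ := IsPGroup.iff_card.mp P.2
  exact ⟨N, hN, Nat.coprime_two_left.mp hco.symm, k, by rw [hc.symm.index_eq_card, hk]⟩

end Cfsg.Agent.S0514
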