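import Cfsg.Statements.S3993
import Mathlib

set_option autoImplicit false
open Cfsg

namespace Cfsg.Agent.S3993

open scoped Classical

universe u

/-- A number dividing all fibres of a map divides the cardinality of its domain. -/
theorem dvd_card_of_forall_fiber {α β : Type*} [Finite α] (f : α → β) (d : ℕ)
    (h : ∀ a, d ∣ Nat.card {x // f x = f a}) : d ∣ Nat.card α := by
  let _ := Fintype.ofFinite α
  rw [Nat.card_eq_fintype_card, ← Finset.card_univ, Finset.card_eq_sum_card_image f]
  refine Finset.dvd_sum fun b hb => ?_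
  obtain ⟨a, -, rfl⟩ := Finset.mem_image.1 hb
  have := h a
  rwa [Nat.card_eq_fintype_card, Fintype.card_subtype] at this

theorem orderOf_eq_of_zpowers_eq {G : Type*} [Group G] {x y : G}
    (h : Subgroup.zpowers x = Subgroup.zpowers y) : orderOf x = orderOf y := by
  rw [← Nat.card_zpowers, h, Nat.card_zpowers]

theorem card_generators {G : Type*} [Group G] [Finite G] (g : G) :
    Nat.card {x : G // Subgroup.zpowers x = Subgroup.zpowers g} = (orderOf g).totient := by
  set Z := Subgroup.zpowers g with hZ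
  let _ := Fintype.ofFinite Z
  let e : {x : G // Subgroup.zpowers x = Z} ≃ {z : Z // orderOf z = orderOf g} :=
    { toFun := fun x => ⟨⟨x.1, x.2.le (Subgroup.mem_zpowers x.1)⟩, by
        rw [← Subgroup.orderOf_coe]; exact orderOf_eq_of_zpowers_eq (x.2.trans hZ)⟩
      invFun := fun z => ⟨z.1.1, Subgroup.eq_of_le_of_card_ge (Subgroup.zpowers_le.2 z.1.2) (by
        show Nat.card (Subgroup.zpowers g) ≤ _
        rw [Nat.card_zpowers, Nat.card_zpowers, Subgroup.orderOf_coe, z.2])⟩
      left_inv := fun x => rfl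
      right_inv := fun z => rfl }
  rw [Nat.card_congr e, Nat.card_eq_fintype_card, Fintype.card_subtype]
  refine IsCyclic.card_orderOf_eq_totient ?_
  rw [← Nat.card_eq_fintype_card, hZ, Nat.card_zpowers]

/-- A set of elements closed under change of generator, all orders being divisible by `d`. -/
theorem totient_dvd_card {G : Type*} [Group G] [Finite G] (P : G → Prop) {d : ℕ}
    (hclosed : ∀ x y, Subgroup.zpowers x = Subgroup.zpowers y → P y → P x)
    (hd : ∀ x, P x → d ∣ orderOf x) : d.totient ∣ Nat.card {x // P x} := by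
  refine dvd_card_of_forall_fiber (fun x : {x // P x} => Subgroup.zpowers x.1) _ fun a => ?_
  have e : {x : {x // P x} // Subgroup.zpowers x.1 = Subgroup.zpowers a.1} ≃
      {x : G // Subgroup.zpowers x = Subgroup.zpowers a.1} :=
    { toFun := fun x => ⟨x.1.1, x.2⟩
      invFun := fun x => ⟨⟨x.1, hclosed x.1 a.1 x.2 a.2⟩, x.2⟩
      left_inv := fun x => rfl
      right_inv := fun x => rfl }
  rw [Nat.card_congr e, card_generators]
  exact Nat.totient_dvd_of_dvd (hd a.1 a.2)

theorem card_isConj_mul {G : Type*} [Group G] [Finite G] (a : G) :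
    Nat.card {x : G // IsConj a x} * Nat.card (Subgroup.centralizer ({a} : Set G)) = Nat.card G := by
  rw [Subgroup.nat_card_centralizer_nat_card_stabilizer,
    ← Nat.card_congr (ConjAct.ofConjAct (G := G)).toEquiv,
    mul_comm, ← Subgroup.card_mul_index (MulAction.stabilizer (ConjAct G) a),
    MulAction.index_stabilizer]
  congr 1
  rw [← Nat.card_coe_set_eq]
  refine Nat.card_congr (Equiv.subtypeEquivRight fun x => ?_)
  rw [ConjAct.mem_orbit_conjAct, isConj_comm]

/-- A number dividing the sums over conjugacy classes of a class function divides its sum. -/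
theorem dvd_card_sigma_of_class {G : Type*} [Group G] [Finite G] (A : G → Prop) (F : G → Type*)
    [∀ a, Finite (F a)] (hA : ∀ a x, IsConj a x → A a → A x)
    (hF : ∀ a x, IsConj a x → Nat.card (F x) = Nat.card (F a)) (d : ℕ)
    (h : ∀ a, A a → d ∣ Nat.card {x // IsConj a x} * Nat.card (F a)) :
    d ∣ Nat.card (Σ a : {a // A a}, F a.1) := by
  refine dvd_card_of_forall_fiber (fun y => ConjClasses.mk y.1.1) d fun y => ?_
  let e : {z : Σ a : {a // A a}, F a.1 // ConjClasses.mk z.1.1 = ConjClasses.mk y.1.1} ≃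
      Σ x : {x // IsConj y.1.1 x}, F x.1 :=
    { toFun := fun z => ⟨⟨z.1.1.1, (ConjClasses.mk_eq_mk_iff_isConj.1 z.2).symm⟩, z.1.2⟩
      invFun := fun z => ⟨⟨⟨z.1.1, hA _ _ z.1.2 y.1.2⟩, z.2⟩,
        ConjClasses.mk_eq_mk_iff_isConj.2 z.1.2.symm⟩
      left_inv := fun z => rfl
      right_inv := fun z => rfl }
  let _ := Fintype.ofFinite {x // IsConj y.1.1 x}
  rw [Nat.card_congr e, Nat.card_sigma, Finset.sum_congr rfl fun x _ => hF _ _ x.2, Finset.sum_const,
    Finset.card_univ, ← Nat.card_eq_fintype_card, smul_eq_mul]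
  exact h _ y.1.2

/-- Exponents selecting the two parts of an element of order dividing a coprime product. -/
theorem exists_split_exponents {N s : ℕ} (h : N.Coprime s) :
    ∃ e f : ℕ, s ∣ e ∧ N ∣ f ∧ e ≡ 1 [MOD N] ∧ f ≡ 1 [MOD s] := by
  obtain ⟨e, he1, he2⟩ := Nat.chineseRemainder h 1 0
  obtain ⟨f, hf1, hf2⟩ := Nat.chineseRemainder h 0 1
  exact ⟨e, f, Nat.modEq_zero_iff_dvd.1 he2, Nat.modEq_zero_iff_dvd.1 hf1, he1, hf2⟩

/-- The elements `g` with `g ^ (N * s) = 1` and the `N`-part in `A` are the commuting pairs. -/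
theorem card_split {G : Type*} [Group G] [Finite G] {N s : ℕ} (h : N.Coprime s) (A : G → Prop)
    (hA : ∀ a, A a → a ^ N = 1) (P : G → Prop)
    (hP : ∀ g, P g → g ^ (N * s) = 1)
    (hPA : ∀ a b : G, Commute a b → a ^ N = 1 → b ^ s = 1 → (P (a * b) ↔ A a)) :
    Nat.card {g // P g} = Nat.card (Σ a : {a // A a}, {b : G // Commute a.1 b ∧ b ^ s = 1}) := by
  obtain ⟨e, f, hse, hNf, he1, hf1⟩ := exists_split_exponents h
  have hzero : ∀ {x : G} {m i : ℕ}, x ^ m = 1 → m ∣ i → x ^ i = 1 := by
    rintro x m i hx ⟨c, rfl⟩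
    rw [pow_mul, hx, one_pow]
  have hone : ∀ {x : G} {m i : ℕ}, x ^ m = 1 → i ≡ 1 [MOD m] → x ^ i = x := fun {x m i} hx hi => by
    conv_rhs => rw [← pow_one x]
    exact pow_eq_pow_iff_modEq.2 (hi.of_dvd (orderOf_dvd_of_pow_eq_one hx))
  have hgN : ∀ g, P g → (g ^ e) ^ N = 1 := fun g hg => by
    rw [← pow_mul]
    exact hzero (hP g hg) (by rw [mul_comm e]; exact Nat.mul_dvd_mul_left N hse)
  have hgs : ∀ g, P g → (g ^ f) ^ s = 1 := fun g hg => by
    rw [← pow_mul]; exact hzero (hP g hg) (Nat.mul_dvd_mul_right hNf s)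
  have hsplit : ∀ g, P g → g ^ e * g ^ f = g := fun g hg => by
    rw [← pow_add]
    refine hone (hP g hg) ((Nat.modEq_and_modEq_iff_modEq_mul h).1 ⟨?_, ?_⟩)
    · simpa using he1.add (Nat.modEq_zero_iff_dvd.2 hNf)
    · simpa using (Nat.modEq_zero_iff_dvd.2 hse).add hf1
  refine Nat.card_congr
    { toFun := fun g => ⟨⟨g.1 ^ e, (hPA _ _ (Commute.pow_pow_self g.1 e f) (hgN _ g.2) (hgs _ g.2)).1
        (by rw [hsplit _ g.2]; exact g.2)⟩, ⟨g.1 ^ f, Commute.pow_pow_self g.1 e f, hgs _ g.2⟩⟩
      invFun := fun y => ⟨y.1.1 * y.2.1, (hPA _ _ y.2.2.1 (hA _ y.1.2) y.2.2.2).2 y.1.2⟩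
      left_inv := fun g => Subtype.ext (hsplit _ g.2)
      right_inv := ?_ }
  rintro ⟨⟨a, ha⟩, ⟨b, hab, hb⟩⟩
  refine Sigma.subtype_ext (Subtype.ext ?_) ?_
  · show (a * b) ^ e = a
    rw [hab.mul_pow, hone (hA a ha) he1, hzero hb hse, mul_one]
  · show (a * b) ^ f = b
    rw [hab.mul_pow, hzero (hA a ha) hNf, hone hb hf1, one_mul]

theorem card_centralizing_conj {G : Type*} [Group G] (Q : G → Prop)
    (hQ : ∀ c b : G, Q b → Q (c * b * c⁻¹)) {a x : G} (h : IsConj a x) :
    Nat.card {b : G // Commute x b ∧ Q b} = Nat.card {b : G // Commute a b ∧ Q b} := by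
  obtain ⟨c, rfl⟩ := isConj_iff.1 h
  refine Nat.card_congr
    { toFun := fun b => ⟨c⁻¹ * b.1 * c, ?_, by simpa using hQ c⁻¹ b.1 b.2.2⟩
      invFun := fun b => ⟨c * b.1 * c⁻¹, ?_, hQ c b.1 b.2.2⟩
      left_inv := fun b => Subtype.ext (by group)
      right_inv := fun b => Subtype.ext (by group) }
  · show a * (c⁻¹ * b.1 * c) = c⁻¹ * b.1 * c * a
    have e : c * a * c⁻¹ * b.1 = b.1 * (c * a * c⁻¹) := b.2.1
    calc a * (c⁻¹ * b.1 * c) = c⁻¹ * (c * a * c⁻¹ * b.1) * c := by group
      _ = c⁻¹ * (b.1 * (c * a * c⁻¹)) * c := by rw [e]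
      _ = c⁻¹ * b.1 * c * a := by group
  · show c * a * c⁻¹ * (c * b.1 * c⁻¹) = c * b.1 * c⁻¹ * (c * a * c⁻¹)
    have e : a * b.1 = b.1 * a := b.2.1
    calc _ = c * (a * b.1) * c⁻¹ := by group
      _ = c * (b.1 * a) * c⁻¹ := by rw [e]
      _ = _ := by group

/-- Frobenius' theorem for every group of a smaller order gives the step from `m` to `m p`. -/
theorem frobenius_aux : ∀ (n : ℕ) (G : Type u) [Group G] [Finite G], Nat.card G = n →
    ∀ m, m ∣ Nat.card G → m ∣ Nat.card {g : G // g ^ m = 1} := by
  intro n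
  induction n using Nat.strong_induction_on with
  | _ n ih =>
    intro G _ _ hn
    suffices H : ∀ k m, m * k = Nat.card G → m ∣ Nat.card {g : G // g ^ m = 1} by
      intro m hm
      exact H _ m (Nat.mul_div_cancel' hm)
    intro k
    induction k using Nat.strong_induction_on with
    | _ k ihk =>
      intro m hm
      have hk0 : k ≠ 0 := fun h => by
        rw [h, mul_zero] at hm; exact Nat.card_pos.ne' hm.symm
      by_cases hk1 : k = 1
      · rw [hk1, mul_one] at hm
        rw [hm, Nat.card_congr (Equiv.subtypeUnivEquiv fun g : G => pow_card_eq_one')]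
      obtain ⟨p, hp, k', rfl⟩ : ∃ p, p.Prime ∧ ∃ k', k = p * k' := by
        obtain ⟨p, hp, hpd⟩ := Nat.exists_prime_and_dvd hk1
        exact ⟨p, hp, hpd⟩
      have hmp : (m * p) ∣ Nat.card {g : G // g ^ (m * p) = 1} := by
        refine ihk k' ?_ (m * p) (by rw [mul_assoc]; exact hm)
        have := hp.two_le
        have : 0 < k' := Nat.pos_of_ne_zero fun h => hk0 (by rw [h, mul_zero])
        nlinarith
      have hm0 : m ≠ 0 := fun h => by rw [h, zero_mul] at hm; exact Nat.card_pos.ne' hm.symm
      obtain ⟨j, s, hps, hms⟩ := Nat.exists_eq_pow_mul_and_not_dvd hm0 p hp.ne_one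
      set D := {g : G // g ^ (m * p) = 1 ∧ ¬ g ^ m = 1}
      have hsum : Nat.card {g : G // g ^ (m * p) = 1} =
          Nat.card {g : G // g ^ m = 1} + Nat.card D := by
        rw [← Nat.card_sum]
        refine Nat.card_congr ((Equiv.sumCompl (fun g : {g : G // g ^ (m * p) = 1} =>
          g.1 ^ m = 1)).symm.trans (Equiv.sumCongr ?_ ?_))
        · exact
            { toFun := fun g => ⟨g.1.1, g.2⟩
              invFun := fun g => ⟨⟨g.1, by rw [pow_mul, g.2, one_pow]⟩, g.2⟩
              left_inv := fun g => rfl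
              right_inv := fun g => rfl }
        · exact
            { toFun := fun g => ⟨g.1.1, g.1.2, g.2⟩
              invFun := fun g => ⟨⟨g.1, g.2.1⟩, g.2.2⟩
              left_inv := fun g => rfl
              right_inv := fun g => rfl }
      suffices hD : m ∣ Nat.card D by
        refine (Nat.dvd_add_left hD).1 ?_
        rw [← hsum]
        exact (dvd_mul_right m p).trans hmp
      have hcops : (p ^ (j + 1)).Coprime s := Nat.Coprime.pow_left _ (hp.coprime_iff_not_dvd.2 hps)
      have hmp' : m * p = p ^ (j + 1) * s := by rw [hms, pow_succ]; ring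
      rw [hms]
      refine Nat.Coprime.mul_dvd_of_dvd_of_dvd
        (Nat.Coprime.pow_left _ (hp.coprime_iff_not_dvd.2 hps)) ?_ ?_
      · refine Dvd.dvd.trans (b := (p ^ (j + 1)).totient) ?_ (totient_dvd_card _ ?_ ?_)
        · rw [Nat.totient_prime_pow hp (Nat.succ_pos j), Nat.succ_sub_one]
          exact dvd_mul_right _ _
        · intro x y h hy
          simp only [← orderOf_dvd_iff_pow_eq_one] at hy ⊢
          rwa [orderOf_eq_of_zpowers_eq h]
        · intro x hx
          simp only [← orderOf_dvd_iff_pow_eq_one] at hx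
          by_contra hnd
          apply hx.2
          rw [hms]
          have hd := hx.1
          rw [hmp'] at hd
          obtain ⟨i, hi⟩ : ∃ i, orderOf x = i := ⟨_, rfl⟩
          rw [hi] at hd hnd ⊢
          obtain ⟨a, b, ha, hb, rfl⟩ := exists_dvd_and_dvd_of_dvd_mul hd
          obtain ⟨t, ht, rfl⟩ := (Nat.dvd_prime_pow hp).1 ha
          refine mul_dvd_mul (pow_dvd_pow p ?_) hb
          by_contra htj
          exact hnd ((pow_dvd_pow p (by omega : j + 1 ≤ t)).trans (dvd_mul_right _ _))
      · rw [card_split hcops (fun a => a ^ p ^ (j + 1) = 1 ∧ ¬ a ^ p ^ j = 1) (fun a ha => ha.1)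
          (fun g : G => g ^ (m * p) = 1 ∧ ¬ g ^ m = 1) (fun g hg => by rw [← hmp']; exact hg.1)
          (fun a b hab ha hb => by
            constructor
            · rintro ⟨-, h⟩
              refine ⟨ha, fun hj => h ?_⟩
              rw [hms, hab.mul_pow, pow_mul, hj, one_pow, one_mul, mul_comm, pow_mul, hb, one_pow]
            · rintro ⟨-, h⟩
              refine ⟨by rw [hmp', hab.mul_pow, pow_mul, ha, one_pow, one_mul, mul_comm, pow_mul, hb,
                one_pow], fun hm' => h ?_⟩
              rw [hms, hab.mul_pow] at hm'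
              rw [show b ^ (p ^ j * s) = 1 by rw [mul_comm, pow_mul, hb, one_pow], mul_one,
                pow_mul] at hm'
              have hd1 := orderOf_dvd_of_pow_eq_one hm'
              have hd2 : orderOf (a ^ p ^ j) ∣ p := orderOf_dvd_of_pow_eq_one (by
                rw [← pow_mul, ← pow_succ, ha])
              rw [← orderOf_eq_one_iff]
              exact Nat.eq_one_of_dvd_coprimes (hp.coprime_iff_not_dvd.2 hps) hd2 hd1)]
        refine dvd_card_sigma_of_class _ (fun a => {b : G // Commute a b ∧ b ^ s = 1}) ?_ ?_ s ?_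
        · rintro a x hax ⟨h1, h2⟩
          obtain ⟨c, rfl⟩ := isConj_iff.1 hax
          exact ⟨by rw [conj_pow, h1, mul_one, mul_inv_cancel],
            fun h => h2 (by rwa [conj_pow, conj_eq_one_iff] at h)⟩
        · intro a x hax
          exact card_centralizing_conj (fun b => b ^ s = 1) (fun c b hb => by
            rw [conj_pow, hb, mul_one, mul_inv_cancel]) hax
        rintro a ⟨ha, ha'⟩
        set C := Subgroup.centralizer ({a} : Set G) with hC
        let aC : C := ⟨a, Subgroup.mem_centralizer_singleton_iff.2 rfl⟩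
        set Z := Subgroup.zpowers aC with hZ
        have hZn : Z.Normal := by
          refine ⟨fun z hz g => ?_⟩
          obtain ⟨i, rfl⟩ := hz
          have hg : Commute g aC := Subtype.ext (Subgroup.mem_centralizer_singleton_iff.1 g.2)
          show g * aC ^ i * g⁻¹ ∈ Z
          rw [(hg.zpow_right i).eq, mul_inv_cancel_right]
          exact ⟨i, rfl⟩
        have haC : aC ^ p ^ (j + 1) = 1 := Subtype.ext ha
        have hcop : (orderOf aC).Coprime s :=
          hcops.coprime_dvd_left (orderOf_dvd_of_pow_eq_one haC)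
        have hlt : Nat.card (C ⧸ Z) < n := by
          have h1 : 1 < Nat.card Z := by
            rw [Subgroup.one_lt_card_iff_ne_bot, hZ, Ne, Subgroup.zpowers_eq_bot]
            intro h
            apply ha'
            rw [show a = 1 from congrArg Subtype.val h, one_pow]
          calc Nat.card (C ⧸ Z) < Nat.card C := by
                rw [Subgroup.card_eq_card_quotient_mul_card_subgroup Z]
                exact lt_mul_of_one_lt_right Nat.card_pos h1
            _ ≤ n := hn ▸ Subgroup.card_le_card_group C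
        have hdiv := ih _ hlt (C ⧸ Z) rfl (Nat.gcd s (Nat.card (C ⧸ Z))) (Nat.gcd_dvd_right _ _)
        rw [Nat.card_congr (Equiv.subtypeEquivRight fun x : C ⧸ Z => show
          x ^ Nat.gcd s (Nat.card (C ⧸ Z)) = 1 ↔ x ^ s = 1 by
            rw [pow_gcd_eq_one, and_iff_left pow_card_eq_one'])] at hdiv
        have hbij : Nat.card {b : G // Commute a b ∧ b ^ s = 1} =
            Nat.card {x : C ⧸ Z // x ^ s = 1} := by
          let ι : {b : G // Commute a b ∧ b ^ s = 1} → C := fun b =>
            ⟨b.1, Subgroup.mem_centralizer_singleton_iff.2 b.2.1.eq.symm⟩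
          have hι : ∀ b, ι b ^ s = 1 := fun b => Subtype.ext b.2.2
          refine Nat.card_eq_of_bijective (fun b => ⟨(ι b : C ⧸ Z), by
            rw [← QuotientGroup.mk_pow, hι, QuotientGroup.mk_one]⟩) ⟨fun b b' h => ?_, ?_⟩
          · have h' := QuotientGroup.eq.1 (congrArg Subtype.val h)
            obtain ⟨i, hi⟩ := h'
            have hi' : ι b' = ι b * aC ^ i := by rw [show aC ^ i = _ from hi, mul_inv_cancel_left]
            have h1 : (aC ^ i) ^ s = 1 := by
              have hc : Commute (ι b) (aC ^ i) :=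
                Commute.zpow_right (Subtype.ext b.2.1.eq.symm) i
              have := hι b'
              rwa [hi', hc.mul_pow, hι, one_mul] at this
            have h2 : aC ^ i = 1 := by
              rw [← orderOf_eq_one_iff]
              exact Nat.eq_one_of_dvd_coprimes hcop (orderOf_dvd_of_mem_zpowers ⟨i, rfl⟩)
                (orderOf_dvd_of_pow_eq_one h1)
            rw [h2, mul_one] at hi'
            exact Subtype.ext (congrArg Subtype.val hi').symm
          · rintro ⟨x, hx⟩
            induction x using QuotientGroup.induction_on with | _ y => ?_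
            rw [← QuotientGroup.mk_pow, QuotientGroup.eq_one_iff] at hx
            obtain ⟨i, hi⟩ := hx
            obtain ⟨t, ht⟩ := exists_pow_eq_self_of_coprime
              (x := aC ^ i) (hcop.coprime_dvd_left (orderOf_dvd_of_mem_zpowers ⟨i, rfl⟩)).symm
            set z := (aC ^ i) ^ t
            have hzs : z ^ s = y ^ s := by
              rw [← show aC ^ i = y ^ s from hi, ← pow_mul, mul_comm, pow_mul, ht]
            have hcz : Commute y z :=
              (Commute.zpow_right (Subtype.ext (Subgroup.mem_centralizer_singleton_iff.1 y.2)) i).pow_right t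
            have hb : (y * z⁻¹) ^ s = 1 := by
              rw [hcz.inv_right.mul_pow, inv_pow, hzs, mul_inv_cancel]
            refine ⟨⟨((y * z⁻¹ : C) : G),
              (Subgroup.mem_centralizer_singleton_iff.1 (y * z⁻¹).2).symm,
              congrArg Subtype.val hb⟩, Subtype.ext ?_⟩
            show ((y * z⁻¹ : C) : C ⧸ Z) = (y : C ⧸ Z)
            rw [QuotientGroup.eq]
            simp only [mul_inv_rev, inv_inv, inv_mul_cancel_right]
            exact Subgroup.pow_mem Z (show aC ^ i ∈ Z from ⟨i, rfl⟩) _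
        rw [hbij]
        obtain ⟨r, hr⟩ := hdiv
        rw [hr]
        have hsG : s ∣ Nat.card G := by
          rw [← hm, hms]
          exact (dvd_mul_left s (p ^ j)).trans (dvd_mul_right _ _)
        rw [← mul_assoc]
        refine Dvd.dvd.mul_right ?_ r
        have hcs : Nat.gcd s (Nat.card C) = Nat.gcd s (Nat.card (C ⧸ Z)) := by
          rw [Subgroup.card_eq_card_quotient_mul_card_subgroup Z]
          refine Nat.Coprime.gcd_mul_right_cancel_right _ ?_
          rw [hZ, Nat.card_zpowers]
          exact hcop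
        rw [← hcs, ← Nat.gcd_mul_left, card_isConj_mul]
        exact Nat.dvd_gcd (dvd_mul_left _ _) hsG

/-- Frobenius' divisibility Theorem: if m divides the order of a finite group G, then m divides the number of elements g of G with g^m = 1. -/
theorem result {G : Type*} [Group G] [Finite G] (m : ℕ) (hm : m ∣ Nat.card G) :
    m ∣ Nat.card {g : G // g ^ m = 1} := by
  exact frobenius_aux _ G rfl m hm

end Cfsg.Agent.S3993
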