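import Cfsg.Statements.S4702
import Cfsg.Agent.Lib.Perm.Sharply
import Cfsg.Agent.Lib.Perm.Zassenhaus
import Cfsg.Agent.Lib.PSL2.Basic
-- import your own Cfsg.Agent.* helpers here

set_option autoImplicit false
open Cfsg

namespace Cfsg.Agent.S4702

open MulAction Matrix OnePoint Agent
open scoped MatrixGroups

/-- A sharply 3-transitive group of odd degree: the points other than `o` form a field of
characteristic two over which the group is `SL(2)`. -/
theorem exists_field_iso {α : Type*} [Fintype α] [DecidableEq α] (hm : 3 ≤ Fintype.card α)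
    (hodd : Odd (Fintype.card α)) (G : Subgroup (Equiv.Perm α))
    (h3 : IsMultiplyPretransitive G α 3)
    (hfix : ∀ g : G, 3 ≤ Nat.card (fixedBy α g) → g = 1) :
    ∃ a : ℕ, 1 ≤ a ∧ Fintype.card α = 2 ^ a + 1 ∧ ∃ (o : α) (_ : Field {x : α // x ≠ o}),
      Fintype.card {x : α // x ≠ o} = 2 ^ a ∧ Nonempty (G ≃* SL(2, {x : α // x ≠ o})) := by
  classical
  haveI := h3
  obtain ⟨o, z₀, e₀, hoz, hoe, hze⟩ := Fintype.two_lt_card_iff.1 (by omega : 2 < Fintype.card α)
  have hthree : ∀ {g : G} {a b c : α}, a ≠ b → a ≠ c → b ≠ c →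
      g • a = a → g • b = b → g • c = c → g = 1 := by
    intro g a b c hab hac hbc ha hb hc
    refine hfix g ?_
    rw [Nat.card_eq_fintype_card]
    calc 3 = ({a, b, c} : Finset α).card := by simp [hab, hac, hbc]
      _ ≤ _ := by
        rw [← Set.toFinset_card]
        refine Finset.card_le_card fun x hx => ?_
        simp only [Finset.mem_insert, Finset.mem_singleton] at hx
        rw [Set.mem_toFinset, mem_fixedBy]
        rcases hx with rfl | rfl | rfl <;> assumption
  -- the point stabiliser on the remaining points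
  let H := stabilizer G o
  let Ω := {x : α // x ≠ o}
  letI actH : MulAction H Ω :=
    { smul := fun h x => ⟨(h : G) • x.1, fun e => x.2 (smul_left_cancel _ (e.trans h.2.symm))⟩
      one_smul := fun x => Subtype.ext (by
        show ((1 : H) : G) • x.1 = x.1
        rw [Subgroup.coe_one, one_smul])
      mul_smul := fun g h x => Subtype.ext (by
        show ((g * h : H) : G) • x.1 = (g : G) • (h : G) • x.1
        rw [Subgroup.coe_mul, mul_smul]) }
  have hsm : ∀ (h : H) (x : Ω), (h • x).1 = (h : G) • x.1 := fun _ _ => rfl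
  haveI : FaithfulSMul H Ω := ⟨fun {g h} hgh => Subtype.ext (eq_of_smul_eq_smul fun x : α => by
    by_cases hx : x = o
    · rw [hx]; exact g.2.trans h.2.symm
    · exact congrArg Subtype.val (hgh ⟨x, hx⟩))⟩
  let z : Ω := ⟨z₀, hoz.symm⟩
  let e : Ω := ⟨e₀, hoe.symm⟩
  have hze' : z ≠ e := fun h => hze (congrArg Subtype.val h)
  haveI : Nontrivial Ω := ⟨⟨z, e, hze'⟩⟩
  haveI h2 : IsMultiplyPretransitive H Ω 2 := by
    refine is_two_pretransitive_iff.2 fun {a b c d} hab hcd => ?_
    obtain ⟨g, hgo, hga, hgb⟩ := Perm.exists_smul_eq_three h3 a.2.symm b.2.symm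
      (fun h => hab (Subtype.ext h)) c.2.symm d.2.symm (fun h => hcd (Subtype.ext h))
    exact ⟨⟨g, hgo⟩, Subtype.ext hga, Subtype.ext hgb⟩
  have hsharp : ∀ x : Fin 2 ↪ Ω, stabilizer H x = ⊥ := fun x => by
    refine (Subgroup.eq_bot_iff_forall _).2 fun h hh => Subtype.ext ?_
    have hh' : ∀ i, h • x i = x i := fun i => congrArg (fun e : Fin 2 ↪ Ω => e i) hh
    exact hthree (x 0).2.symm (x 1).2.symm
      (fun h' => absurd (x.injective (Subtype.ext h')) (by decide)) h.2
      (congrArg Subtype.val (hh' 0)) (congrArg Subtype.val (hh' 1))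
  obtain ⟨K, hKn, hKt, hKs, -, hKc, p, j, hp, hj, hΩp, hKcard, hKexp⟩ :=
    Perm.exists_kernel_of_sharply_two (G := H) (α := Ω) hsharp
  have hq : Fintype.card Ω + 1 = Fintype.card α := by
    rw [Fintype.card_subtype_compl, Fintype.card_subtype_eq]; omega
  rw [Nat.card_eq_fintype_card] at hΩp
  obtain rfl : p = 2 := by
    have heven : Even (p ^ j) := by
      rw [← hΩp]
      obtain ⟨r, hr⟩ := hodd
      exact ⟨r, by omega⟩
    exact ((Nat.prime_dvd_prime_iff_eq Nat.prime_two hp).1
      (Nat.prime_two.dvd_of_dvd_pow (even_iff_two_dvd.1 heven))).symm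
  -- the regular kernel
  have hKbij : Function.Bijective fun k : K => k • z :=
    ⟨fun k k' h => by
      have hk : k'⁻¹ * k ∈ stabilizer K z := by
        rw [mem_stabilizer_iff, mul_smul]
        exact inv_smul_eq_iff.2 h
      rw [hKs z, Subgroup.mem_bot, inv_mul_eq_one] at hk
      exact hk.symm,
    fun y => exists_smul_eq K z y⟩
  obtain ⟨κ, hκ, hκz⟩ : ∃ κ : Ω → K, (∀ x, κ x • z = x) ∧ ∀ k : K, κ (k • z) = k :=
    ⟨fun x => (Equiv.ofBijective _ hKbij).symm x,
      fun x => (Equiv.ofBijective _ hKbij).apply_symm_apply x,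
      fun k => (Equiv.ofBijective _ hKbij).symm_apply_apply k⟩
  have hKcomm : ∀ k k' : K, k * k' = k' * k := fun k k' => hKc.is_comm.comm k k'
  have hK2 : ∀ k : K, k * k = 1 := fun k => Subtype.ext (by
    rw [Subgroup.coe_mul, ← pow_two, Subgroup.coe_one]; exact hKexp k k.2)
  -- the two-point stabiliser is abelian, inverted by an involution
  let T := stabilizer H z
  obtain ⟨t, hto, htz, hte⟩ := Perm.exists_smul_eq_three h3 hoz hoe hze hoz.symm hze hoe
  have ht2 : t * t = 1 := hthree hoz hoe hze (by rw [mul_smul, hto, htz])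
    (by rw [mul_smul, htz, hto]) (by rw [mul_smul, hte, hte])
  have htne : t ≠ 1 := fun h => hoz (by rw [← hto, h, one_smul])
  have htfix : ∀ x : α, t • x = x → x = e₀ := by
    intro x hx
    by_contra hxe
    have hodd' : ¬ Even (Finset.univ.filter fun x : α => t • x = x).card := fun h =>
      (Nat.not_even_iff_odd.2 hodd) ((Perm.Zass.card_fixed_parity ht2).1 h)
    refine htne (hfix t ?_)
    have h2le : ({x, e₀} : Finset α) ⊆ Finset.univ.filter fun x : α => t • x = x := by
      intro y hy
      simp only [Finset.mem_insert, Finset.mem_singleton] at hy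
      simp only [Finset.mem_filter, Finset.mem_univ, true_and]
      rcases hy with rfl | rfl <;> assumption
    have h2c := Finset.card_le_card h2le
    rw [Finset.card_pair hxe] at h2c
    have heq : Nat.card (fixedBy α t) = (Finset.univ.filter fun x : α => t • x = x).card := by
      rw [Nat.card_eq_fintype_card, ← Set.toFinset_card]
      congr 1
      ext y
      simp
    rw [heq]
    rcases Nat.lt_or_ge (Finset.univ.filter fun x : α => t • x = x).card 3 with h | h
    · exact absurd (⟨1, by omega⟩ : Even _) hodd'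
    · exact h
  have hTfix : ∀ u : T, ((u : H) : G) • o = o ∧ ((u : H) : G) • z₀ = z₀ := fun u =>
    ⟨(u : H).2, congrArg Subtype.val u.2⟩
  have htinv : ∀ u : T, t * ((u : H) : G) * t = ((u : H) : G)⁻¹ := by
    let tw : T → T := fun u => u⁻¹ * ⟨⟨t * ((u : H) : G) * t, by
        show (t * ((u : H) : G) * t) • o = o
        rw [mul_smul, mul_smul, hto, (hTfix u).2, htz]⟩, Subtype.ext (by
        show (t * ((u : H) : G) * t) • z₀ = z₀
        rw [mul_smul, mul_smul, htz, (hTfix u).1, hto])⟩
    have hinj : Function.Injective tw := by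
      intro u v huv
      have h1 : ((u : H) : G)⁻¹ * (t * ((u : H) : G) * t) =
          ((v : H) : G)⁻¹ * (t * ((v : H) : G) * t) :=
        congrArg (fun w : T => ((w : H) : G)) huv
      have h2 : t * (((v : H) : G) * ((u : H) : G)⁻¹) = (((v : H) : G) * ((u : H) : G)⁻¹) * t := by
        calc t * (((v : H) : G) * ((u : H) : G)⁻¹)
            = ((v : H) : G) * (((v : H) : G)⁻¹ * (t * ((v : H) : G) * t)) *
                (t⁻¹ * ((u : H) : G)⁻¹) := by group
          _ = ((v : H) : G) * (((u : H) : G)⁻¹ * (t * ((u : H) : G) * t)) *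
                (t⁻¹ * ((u : H) : G)⁻¹) := by rw [h1]
          _ = _ := by group
      have h3' : (((v : H) : G) * ((u : H) : G)⁻¹) • e₀ = e₀ := htfix _ (by
        rw [← mul_smul, h2, mul_smul, hte])
      have h4 : ((v : H) : G) * ((u : H) : G)⁻¹ = 1 := hthree hoz hoe hze
        ((v * u⁻¹ : T) : H).2 (congrArg Subtype.val (v * u⁻¹).2) h3'
      exact Subtype.ext (Subtype.ext (mul_inv_eq_one.1 h4).symm)
    intro u
    obtain ⟨v, rfl⟩ := (Finite.injective_iff_surjective.1 hinj) u
    show t * (((v : H) : G)⁻¹ * (t * ((v : H) : G) * t)) * t =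
      (((v : H) : G)⁻¹ * (t * ((v : H) : G) * t))⁻¹
    have htinv' : t⁻¹ = t := inv_eq_of_mul_eq_one_right ht2
    simp only [_root_.mul_inv_rev, inv_inv, htinv', mul_assoc, ht2, mul_one]
  have hTcomm : ∀ u v : T, u * v = v * u := by
    intro u v
    have h1 := htinv (u * v)
    have h2 : t * (((u * v : T) : H) : G) * t =
        (t * ((u : H) : G) * t) * (t * ((v : H) : G) * t) := by
      simp only [Subgroup.coe_mul, mul_assoc]
      rw [← mul_assoc t t, ht2, one_mul]
    rw [h2, htinv u, htinv v, Subgroup.coe_mul, Subgroup.coe_mul, _root_.mul_inv_rev] at h1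
    have h3' := congrArg (fun g : G => g⁻¹) h1
    simp only [_root_.mul_inv_rev, inv_inv] at h3'
    exact Subtype.ext (Subtype.ext h3'.symm)
  have hTuniq : ∀ {u v : T}, u • e = v • e → u = v := fun {u v} h => by
    have h1 : (v⁻¹ * u : H) = 1 := Perm.eq_one_of_fixes_two hsharp hze'
      (v⁻¹ * u).2 (by rw [mul_smul]; exact inv_smul_eq_iff.2 h)
    exact Subtype.ext (inv_mul_eq_one.1 h1).symm
  have hTex : ∀ x : Ω, ∃ u : T, x ≠ z → u • e = x := fun x => by
    by_cases hx : x = z
    · exact ⟨1, fun h => absurd hx h⟩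
    · obtain ⟨g, hgz, hge⟩ := is_two_pretransitive_iff.1 h2 hze' (Ne.symm hx)
      exact ⟨⟨g, hgz⟩, fun _ => hge⟩
  choose τ hτ using hTex
  have hTz : ∀ u : T, u • z = z := fun u => u.2
  have hTne : ∀ (u : T) {x : Ω}, x ≠ z → u • x ≠ z := fun u x hx h =>
    hx (smul_left_cancel u (h.trans (hTz u).symm))
  have hτe : τ e = 1 := hTuniq (by rw [hτ e hze'.symm, one_smul])
  -- the field
  let add : Ω → Ω → Ω := fun x y => (κ x * κ y) • z
  let mul : Ω → Ω → Ω := fun x y => if x = z then z else τ x • y
  have hmul : ∀ x y, x ≠ z → mul x y = τ x • y := fun x y hx => if_neg hx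
  have hmz : ∀ y, mul z y = z := fun y => if_pos rfl
  have hmulz : ∀ x, mul x z = z := fun x => by
    by_cases hx : x = z
    · rw [hx, hmz]
    · rw [hmul x z hx, hTz]
  have hmul_comm : ∀ x y, mul x y = mul y x := by
    intro x y
    by_cases hx : x = z
    · rw [hx, hmz, hmulz]
    by_cases hy : y = z
    · rw [hy, hmz, hmulz]
    rw [hmul x y hx, hmul y x hy]
    conv_lhs => rw [← hτ y hy]
    conv_rhs => rw [← hτ x hx]
    rw [← mul_smul, ← mul_smul, hTcomm]
  have hone_mul : ∀ x, mul e x = x := fun x => by rw [hmul e x hze'.symm, hτe, one_smul]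
  have hκTκ : ∀ (u : T) (w : Ω), (κ (u • w) : H) = (u : H) * (κ w : H) * (u : H)⁻¹ := by
    intro u w
    have h1 : κ (u • w) = ⟨(u : H) * (κ w : H) * (u : H)⁻¹, hKn.conj_mem _ (κ w).2 _⟩ := by
      conv_rhs => rw [← hκz ⟨(u : H) * (κ w : H) * (u : H)⁻¹, hKn.conj_mem _ (κ w).2 _⟩]
      congr 1
      show u • w = ((u : H) * (κ w : H) * (u : H)⁻¹) • z
      rw [mul_smul, mul_smul, show (u : H)⁻¹ • z = z from inv_smul_eq_iff.2 (hTz u).symm]
      conv_lhs => rw [← hκ w]
      rfl
    exact congrArg Subtype.val h1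
  have hdistrib : ∀ x y w, mul x (add y w) = add (mul x y) (mul x w) := by
    intro x y w
    by_cases hx : x = z
    · subst hx
      simp only [hmz, add]
      rw [hK2, one_smul]
    rw [hmul x _ hx, hmul x y hx, hmul x w hx]
    show (τ x : H) • ((κ y * κ w : K) : H) • z = ((κ (τ x • y) * κ (τ x • w) : K) : H) • z
    rw [Subgroup.coe_mul, Subgroup.coe_mul, hκTκ, hκTκ, ← mul_smul]
    conv_rhs => rw [show (τ x : H) * (κ y : H) * (τ x : H)⁻¹ *
      ((τ x : H) * (κ w : H) * (τ x : H)⁻¹) = (τ x : H) * ((κ y : H) * (κ w : H)) * (τ x : H)⁻¹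
      by group, mul_smul, show (τ x : H)⁻¹ • z = z from inv_smul_eq_iff.2 (hTz (τ x)).symm]
  letI : Zero Ω := ⟨z⟩
  letI : Add Ω := ⟨add⟩
  letI : Neg Ω := ⟨id⟩
  letI : CommRing Ω :=
    { add := add
      add_assoc := fun a b c => by show add (add a b) c = add a (add b c); simp [add, hκz, mul_assoc]
      zero := z
      zero_add := fun a => by
        show add z a = a
        have : κ z = 1 := by simpa using hκz 1
        simp [add, this, hκ]
      add_zero := fun a => by
        show add a z = a
        have : κ z = 1 := by simpa using hκz 1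
        simp [add, this, hκ]
      nsmul := nsmulRec
      neg := id
      zsmul := zsmulRec
      neg_add_cancel := fun a => by show add a a = z; simp [add, hK2]
      add_comm := fun a b => by show add a b = add b a; simp only [add, hKcomm]
      mul := mul
      mul_assoc := fun a b c => by
        show mul (mul a b) c = mul a (mul b c)
        by_cases ha : a = z
        · simp [ha, hmz]
        by_cases hb : b = z
        · simp [hb, hmz, hmulz]
        have hab : τ (mul a b) = τ a * τ b := hTuniq (by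
          rw [hτ _ (by rw [hmul a b ha]; exact hTne _ hb), hmul a b ha, mul_smul, hτ b hb])
        rw [hmul (mul a b) c (by rw [hmul a b ha]; exact hTne _ hb), hab, mul_smul,
          hmul a _ ha, hmul b c hb]
      one := e
      one_mul := hone_mul
      mul_one := fun a => (hmul_comm a e).trans (hone_mul a)
      zero_mul := hmz
      mul_zero := hmulz
      left_distrib := hdistrib
      right_distrib := fun a b c => by
        show mul (add a b) c = add (mul a c) (mul b c)
        rw [hmul_comm, hdistrib, hmul_comm c a, hmul_comm c b]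
      mul_comm := hmul_comm }
  have hmuldef : ∀ x y : Ω, x * y = mul x y := fun _ _ => rfl
  have hadddef : ∀ x y : Ω, x + y = add x y := fun _ _ => rfl
  have hzero : (0 : Ω) = z := rfl
  have honedef : (1 : Ω) = e := rfl
  have hfield : IsField Ω :=
    { exists_pair_ne := ⟨z, e, hze'⟩
      mul_comm := mul_comm
      mul_inv_cancel := fun {x} hx => by
        have hx' : x ≠ z := hx
        exact ⟨(τ x)⁻¹ • e, by rw [hmuldef, hmul x _ hx', smul_inv_smul, honedef]⟩ }
  letI F : Field Ω := hfield.toField
  have hinv : ∀ x : Ω, x ≠ z → x⁻¹ = (τ x)⁻¹ • e := fun x hx =>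
    (eq_inv_of_mul_eq_one_right (by rw [hmuldef, hmul x _ hx, smul_inv_smul, honedef])).symm
  have hchar : ∀ x : Ω, x + x = 0 := fun x => by
    rw [hadddef, hzero]; simp [add, hK2]
  have hneg : ∀ x : Ω, -x = x := fun x => neg_eq_of_add_eq_zero_right (hchar x)
  have htwo : (2 : Ω) = 0 := by rw [← one_add_one_eq_two]; exact hchar 1
  -- the projective line
  let E : OnePoint Ω ≃ α := Equiv.optionSubtypeNe o
  have hEinf : E ∞ = o := rfl
  have hEsome : ∀ x : Ω, E (x : OnePoint Ω) = x.1 := fun _ => rfl
  let φ : SL(2, Ω) →* Equiv.Perm α := (E.permCongrHom).toMonoidHom.comp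
    ((MulAction.toPermHom (GL (Fin 2) Ω) (OnePoint Ω)).comp Matrix.SpecialLinearGroup.toGL)
  have hφ : ∀ (g : SL(2, Ω)) (y : OnePoint Ω),
      φ g (E y) = E (Matrix.SpecialLinearGroup.toGL g • y) := fun g y => by
    simp [φ, Equiv.permCongr_apply]
  have hφG : ∀ g, φ g ∈ G := by
    have hext : ∀ (g : SL(2, Ω)) (w : G),
        (∀ y : OnePoint Ω, E (Matrix.SpecialLinearGroup.toGL g • y) = w • E y) →
          g ∈ G.comap φ := by
      intro g w h
      have : φ g = (w : Equiv.Perm α) := Equiv.ext fun a => by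
        obtain ⟨y, rfl⟩ := E.surjective a
        rw [hφ, h]
        rfl
      rw [Subgroup.mem_comap, this]
      exact w.2
    have huu : ∀ b : Ω, PSL2.uu b ∈ G.comap φ := by
      intro b
      refine hext _ ((κ b : H) : G) fun y => ?_
      cases y with
      | infty =>
        rw [smul_infty_eq_ite, if_pos (by simp), hEinf]
        exact ((κ b : H).2).symm
      | coe x =>
        rw [smul_some_eq_ite, if_neg (by simp), hEsome, hEsome]
        have : x + b = κ b • x := by
          rw [hadddef]
          show (κ x * κ b) • z = κ b • x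
          rw [hKcomm, mul_smul, hκ]
        simp only [Matrix.SpecialLinearGroup.coe_GL_coe_matrix, PSL2.uu00, PSL2.uu01, PSL2.uu10,
          PSL2.uu11, zero_mul, zero_add, div_one, one_mul]
        rw [this]
        rfl
    have hww : (PSL2.ww : SL(2, Ω)) ∈ G.comap φ := by
      have w00 : (PSL2.ww : SL(2, Ω)) 0 0 = 0 := rfl
      have w01 : (PSL2.ww : SL(2, Ω)) 0 1 = 1 := rfl
      have w10 : (PSL2.ww : SL(2, Ω)) 1 0 = -1 := rfl
      have w11 : (PSL2.ww : SL(2, Ω)) 1 1 = 0 := rfl
      refine hext _ t fun y => ?_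
      cases y with
      | infty =>
        rw [smul_infty_eq_ite, if_neg (by simp [w10]), hEinf, hEsome, hto]
        simp only [Matrix.SpecialLinearGroup.coe_GL_coe_matrix, w00, zero_div]
        rfl
      | coe x =>
        rw [smul_some_eq_ite, hEsome]
        simp only [Matrix.SpecialLinearGroup.coe_GL_coe_matrix, w00, w01, w10, w11, zero_mul,
          zero_add, add_zero, hneg, one_mul, one_div]
        by_cases hx : x = 0
        · rw [if_pos hx, hEinf, hx, hzero]
          exact htz.symm
        · rw [if_neg hx, hEsome, hinv x hx]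
          conv_rhs => rw [← hτ x hx]
          show (((τ x)⁻¹ : H) : G) • e₀ = t • ((τ x : H) : G) • e₀
          have h := htinv (τ x)
          rw [← mul_smul, show t * ((τ x : H) : G) = ((τ x : H) : G)⁻¹ * t by
            rw [← h, mul_assoc (t * _), ht2, mul_one], mul_smul, hte]
          rfl
    intro g
    have htop : G.comap φ = ⊤ := PSL2.eq_top_of_uu_ll huu fun b => by
      rw [← neg_neg b, ← PSL2.ww_conj_uu]
      exact mul_mem (mul_mem hww (huu _)) (inv_mem hww)
    exact Subgroup.mem_comap.1 (htop ▸ Subgroup.mem_top g)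
  have hφinj : Function.Injective φ := by
    refine (injective_iff_map_eq_one φ).2 fun g hg => ?_
    have hy : ∀ y : OnePoint Ω, Matrix.SpecialLinearGroup.toGL g • y = y := fun y =>
      E.injective (by rw [← hφ, hg]; rfl)
    have h10 : g 1 0 = 0 := by simpa using smul_infty_eq_self_iff.1 (hy ∞)
    have hdet := PSL2.det_eq g
    rw [h10, mul_zero, sub_zero] at hdet
    have h11 : g 1 1 ≠ 0 := right_ne_zero_of_mul_eq_one hdet
    have h01 : g 0 1 = 0 := by
      have := hy ((0 : Ω) : OnePoint Ω)
      rw [smul_some_eq_ite] at this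
      simp only [Matrix.SpecialLinearGroup.coe_GL_coe_matrix, h10, mul_zero, zero_add,
        h11, if_false, OnePoint.coe_eq_coe, div_eq_zero_iff, or_false] at this
      exact this
    have h00 : g 0 0 = g 1 1 := by
      have := hy ((1 : Ω) : OnePoint Ω)
      rw [smul_some_eq_ite] at this
      simp only [Matrix.SpecialLinearGroup.coe_GL_coe_matrix, h10, h01, zero_mul, zero_add,
        add_zero, mul_one, h11, if_false, OnePoint.coe_eq_coe] at this
      exact (div_eq_one_iff_eq h11).1 this
    rw [← h00] at hdet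
    have h1 : g 0 0 = 1 := by
      have hsq : (g 0 0 - 1) * (g 0 0 - 1) = 0 := by
        linear_combination hdet + (1 - g 0 0) * htwo
      exact sub_eq_zero.1 ((mul_eq_zero.1 hsq).elim id id)
    exact PSL2.ext2 (by simp [h1]) (by simp [h01]) (by simp [h10]) (by simp [← h00, h1])
  have hrange : φ.range = G := by
    refine Subgroup.eq_of_le_of_card_ge ?_ (le_of_eq ?_)
    · rintro _ ⟨g, rfl⟩
      exact hφG g
    rw [← Nat.card_congr (MonoidHom.ofInjective hφinj).toEquiv, PSL2.card_SL']
    obtain ⟨a, b, c, hab, hac, hbc⟩ := Fintype.two_lt_card_iff.1 (by omega : 2 < Fintype.card α)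
    let x₃ : Fin 3 ↪ α := ⟨![a, b, c], by
      intro i k; fin_cases i <;> fin_cases k <;>
        simp [hab, hac, hbc, hab.symm, hac.symm, hbc.symm]⟩
    rw [Perm.card_eq_of_sharply (G := G) (x := x₃) ((Subgroup.eq_bot_iff_forall _).2 fun g hg =>
      hthree hab hac hbc (congrArg (fun f : Fin 3 ↪ α => f 0) hg)
        (congrArg (fun f : Fin 3 ↪ α => f 1) hg) (congrArg (fun f : Fin 3 ↪ α => f 2) hg)),
      Nat.card_eq_fintype_card, ← hq]
    simp only [Nat.descFactorial_succ, Nat.descFactorial_zero, Nat.add_sub_cancel, Nat.sub_zero,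
      mul_one, show Fintype.card Ω + 1 - 2 = Fintype.card Ω - 1 by omega]
    ring
  exact ⟨j, hj, by rw [← hq, hΩp], o, F, hΩp,
    ⟨((MonoidHom.ofInjective hφinj).trans (MulEquiv.subgroupCongr hrange)).symm⟩⟩

/-- Let G be a triply transitive permutation group on a finite set of odd size m ≥ 3 in which only the identity fixes three or more points. Then m = 2^a + 1 for some a ≥ 1 and G is isomorphic to SL(2, 2^a). -/
theorem result {α : Type*} [Fintype α] [DecidableEq α] (hm : 3 ≤ Fintype.card α) (hodd : Odd (Fintype.card α)) (G : Subgroup (Equiv.Perm α)) (h3 : MulAction.IsMultiplyPretransitive G α 3) (hfix : ∀ g : G, 3 ≤ Nat.card (MulAction.fixedBy α g) → g = 1) : ∃ a : ℕ, 1 ≤ a ∧ Fintype.card α = 2 ^ a + 1 ∧ ∃ (F : Type) (_ : Field F) (_ : Fintype F), Fintype.card F = 2 ^ a ∧ Nonempty (G ≃* Matrix.SpecialLinearGroup (Fin 2) F) := by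
  classical
  obtain ⟨a, ha, hcard, o, F, hF, ⟨e⟩⟩ := exists_field_iso hm hodd G h3 hfix
  haveI : Fact (Nat.Prime 2) := ⟨Nat.prime_two⟩
  haveI : Fintype (GaloisField 2 a) := Fintype.ofFinite _
  have hGF : Fintype.card (GaloisField 2 a) = 2 ^ a := by
    rw [← Nat.card_eq_fintype_card]; exact GaloisField.card 2 a (by omega)
  let r : {x : α // x ≠ o} ≃+* GaloisField 2 a :=
    FiniteField.ringEquivOfCardEq (hF.trans hGF.symm)
  exact ⟨a, ha, hcard, GaloisField 2 a, inferInstance, inferInstance, hGF,
    ⟨e.trans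
      { toFun := Matrix.SpecialLinearGroup.map r.toRingHom
        invFun := Matrix.SpecialLinearGroup.map r.symm.toRingHom
        left_inv := fun g => by ext i j; simp
        right_inv := fun g => by ext i j; simp
        map_mul' := map_mul _ }⟩⟩

end Cfsg.Agent.S4702
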