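import Cfsg.Statements.S1230
import Cfsg.Agent.Lib.Involution.ElemCentralizerTriple
import Cfsg.Agent.Lib.PSL2.Basic
import Cfsg.Agent.S4702

set_option autoImplicit false
open Cfsg

namespace Cfsg.Agent.S1230

/-- Let G be a finite group with a Sylow 2-subgroup T that is neither cyclic nor normal, such that the centralizer of every involution is an elementary abelian 2-group. Then G ≅ PSL(2,F) for a finite field F with |F| = |T|. -/
theorem result {G : Type*} [Group G] [Finite G] (T : Sylow 2 G) (hnc : ¬ IsCyclic (T : Subgroup G)) (hnn : ¬ (T : Subgroup G).Normal) (hC : ∀ t : G, orderOf t = 2 → IsMulCommutative (Subgroup.centralizer ({t} : Set G)) ∧ ∀ c ∈ Subgroup.centralizer ({t} : Set G), c ^ 2 = 1) : ∃ (F : Type) (_ : Field F) (_ : Fintype F), Fintype.card F = Nat.card T ∧ Nonempty (G ≃* Matrix.ProjectiveSpecialLinearGroup (Fin 2) F) := by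
  classical
  haveI : Fact (Nat.Prime 2) := ⟨Nat.prime_two⟩
  let X := G ⧸ Subgroup.normalizer ((T : Subgroup G) : Set G)
  letI : Fintype X := Fintype.ofFinite X
  obtain ⟨u, huH, hu⟩ := Involution.StrongEmb.exists_involution_not_mem
    (Involution.ElemCentralizer.isStronglyEmbedded T hnc hC hnn)
  have hcardX : Fintype.card X = Nat.card (T : Subgroup G) + 1 := by
    rw [← Nat.card_eq_fintype_card]
    exact Involution.ElemCentralizer.card_quotient T hnc hC hnn hu huH
  have hT1 := Involution.ElemCentralizer.one_lt_card T hnc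
  have hm : 3 ≤ Fintype.card X := by omega
  have hodd : Odd (Fintype.card X) := by
    rw [hcardX]
    obtain ⟨k, hk⟩ := (IsPGroup.iff_card (p := 2)).mp T.2
    rw [hk] at hT1 ⊢
    exact Even.add_one (Nat.even_pow.mpr ⟨even_two, fun h => by simp [h] at hT1⟩)
  let φ : G →* Equiv.Perm X := MulAction.toPermHom G X
  have hinj : Function.Injective φ := by
    rw [injective_iff_map_eq_one]
    intro g hg
    obtain ⟨x₁, x₂, x₃, h12, h13, h23⟩ := Fintype.two_lt_card_iff.mp (show 2 < Fintype.card X by omega)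
    have h : ∀ x : X, g • x = x := fun x => by
      have h1 : φ g x = x := by rw [hg]; rfl
      exact h1
    exact Involution.ElemCentralizer.eq_one_of_fixes_three T hnc hC hnn h12 h13 h23 (h _) (h _) (h _)
  have h3 : MulAction.IsMultiplyPretransitive φ.range X 3 := by
    refine ⟨fun x y => ?_⟩
    obtain ⟨g, g1, g2, g3⟩ := Involution.ElemCentralizer.exists_smul_three T hnc hC hnn
      (x.injective.ne (show (0 : Fin 3) ≠ 1 by decide)) (x.injective.ne (show (0 : Fin 3) ≠ 2 by decide))
      (x.injective.ne (show (1 : Fin 3) ≠ 2 by decide)) (y.injective.ne (show (0 : Fin 3) ≠ 1 by decide))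
      (y.injective.ne (show (0 : Fin 3) ≠ 2 by decide)) (y.injective.ne (show (1 : Fin 3) ≠ 2 by decide))
    refine ⟨⟨φ g, g, rfl⟩, Function.Embedding.ext fun i => ?_⟩
    fin_cases i
    · exact g1
    · exact g2
    · exact g3
  have hfix : ∀ g : φ.range, 3 ≤ Nat.card (MulAction.fixedBy X g) → g = 1 := by
    rintro ⟨σ, g, rfl⟩ hg
    rw [Nat.card_eq_fintype_card] at hg
    obtain ⟨a, b, c, hab, hac, hbc⟩ := Fintype.two_lt_card_iff.mp (Nat.lt_of_succ_le hg)
    have h1 := Involution.ElemCentralizer.eq_one_of_fixes_three T hnc hC hnn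
      (fun h => hab (Subtype.ext h)) (fun h => hac (Subtype.ext h)) (fun h => hbc (Subtype.ext h))
      (g := g) a.2 b.2 c.2
    exact Subtype.ext ((congrArg φ h1).trans φ.map_one)
  obtain ⟨a, ha, hcard, F, iF, iFt, hF, ⟨e⟩⟩ := S4702.result hm hodd φ.range h3 hfix
  have h2 : (2 : F) = 0 := by
    have h0 : ((Fintype.card F : ℕ) : F) = 0 := FiniteField.cast_card_eq_zero F
    rw [hF, Nat.cast_pow] at h0
    exact eq_zero_of_pow_eq_zero (by exact_mod_cast h0)
  have hmk : Function.Bijective
      (QuotientGroup.mk' (Subgroup.center (Matrix.SpecialLinearGroup (Fin 2) F))) := by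
    refine ⟨(injective_iff_map_eq_one _).mpr fun g hg => ?_, QuotientGroup.mk'_surjective _⟩
    rcases PSL2.mk_eq_one.mp hg with h | h
    · exact h
    · rw [h, PSL2.neg_one_eq_one_iff.mpr h2]
  refine ⟨F, iF, iFt, by rw [hF]; omega, ⟨?_⟩⟩
  exact ((MonoidHom.ofInjective hinj).trans e).trans (MulEquiv.ofBijective _ hmk)

end Cfsg.Agent.S1230
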