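import Cfsg.Statements.S0560
import Mathlib.Tactic.Group

set_option autoImplicit false
open Pointwise
open Cfsg

namespace Cfsg.Agent.S0560

open Subgroup
open scoped Pointwise

theorem exists_mul_of_relIndex_le {G : Type*} [Group G] [Finite G] {P Q R : Subgroup G}
    (hP : P ≤ R) (h : Q.relIndex R ≤ Q.relIndex P) {r : G} (hr : r ∈ R) :
    ∃ x ∈ P, ∃ y ∈ Q, r = x * y := by
  let φ : P ⧸ Q.subgroupOf P → R ⧸ Q.subgroupOf R :=
    Quotient.map' (Subgroup.inclusion hP) (fun a b hab => by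
      rw [QuotientGroup.leftRel_apply] at hab ⊢
      exact hab)
  have hinj : Function.Injective φ := fun a b => by
    induction a using QuotientGroup.induction_on with | _ a => ?_
    induction b using QuotientGroup.induction_on with | _ b => ?_
    intro hab
    exact QuotientGroup.eq.2 (QuotientGroup.eq.1 hab : (Subgroup.inclusion hP a)⁻¹ * Subgroup.inclusion hP b ∈ Q.subgroupOf R)
  have hb := (Nat.bijective_iff_injective_and_card φ).2
    ⟨hinj, le_antisymm (Nat.card_le_card_of_injective φ hinj) h⟩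
  obtain ⟨a, ha⟩ := hb.2 ((⟨r, hr⟩ : R) : R ⧸ Q.subgroupOf R)
  induction a using QuotientGroup.induction_on with | _ a => ?_
  exact ⟨a, a.2, (a : G)⁻¹ * r, (QuotientGroup.eq.1 ha :), by group⟩

theorem exists_sylow_le {G : Type*} [Group G] [Finite G] (H : Subgroup G) (p : ℕ) [Fact p.Prime] :
    ∃ (R : Sylow p G) (P : Sylow p H), (P : Subgroup H).map H.subtype ≤ (R : Subgroup G) := by
  obtain ⟨P⟩ := (inferInstance : Nonempty (Sylow p H))
  obtain ⟨R, hR⟩ := (P.2.map H.subtype).exists_le_sylow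
  exact ⟨R, P, hR⟩

/-- Let the finite group G be the product HK of two subgroups and p a prime. Then there are Sylow p-subgroups P of H and Q of K and a Sylow p-subgroup R of G whose underlying set is the product set of P and Q. -/
theorem result {G : Type*} [Group G] [Finite G] (H K : Subgroup G) (hHK : ∀ g : G, ∃ h ∈ H, ∃ k ∈ K, g = h * k) (p : ℕ) [Fact p.Prime] : ∃ (P : Sylow p H) (Q : Sylow p K) (R : Sylow p G), ((R : Subgroup G) : Set G) = (((P : Subgroup H).map H.subtype : Subgroup G) : Set G) * (((Q : Subgroup K).map K.subtype : Subgroup G) : Set G) := by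
  obtain ⟨R₁, P₁, hP₁⟩ := exists_sylow_le H p
  obtain ⟨R₂, Q₂, hQ₂⟩ := exists_sylow_le K p
  obtain ⟨g, hg⟩ := MulAction.exists_smul_eq G R₂ R₁
  obtain ⟨h, hh, k, hk, rfl⟩ := hHK g
  rw [mul_smul] at hg
  let R := k • R₂
  refine ⟨(⟨h⁻¹, inv_mem hh⟩ : H) • P₁, (⟨k, hk⟩ : K) • Q₂, R, ?_⟩
  set P := ((((⟨h⁻¹, inv_mem hh⟩ : H) • P₁ : Sylow p H) : Subgroup H).map H.subtype) with hPdef
  set Q := ((((⟨k, hk⟩ : K) • Q₂ : Sylow p K) : Subgroup K).map K.subtype) with hQdef
  have hR' : R = h⁻¹ • R₁ := by rw [← hg, inv_smul_smul]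
  have hPR : P ≤ (R : Subgroup G) := by
    rintro _ ⟨x, hx, rfl⟩
    rw [hR', Sylow.coe_subgroup_smul, mem_pointwise_smul_iff_inv_smul_mem]
    rw [Sylow.coe_subgroup_smul, SetLike.mem_coe, mem_pointwise_smul_iff_inv_smul_mem] at hx
    simpa using hP₁ (mem_map_of_mem _ hx)
  have hQR : Q ≤ (R : Subgroup G) := by
    rintro _ ⟨x, hx, rfl⟩
    rw [Sylow.coe_subgroup_smul, mem_pointwise_smul_iff_inv_smul_mem]
    rw [Sylow.coe_subgroup_smul, SetLike.mem_coe, mem_pointwise_smul_iff_inv_smul_mem] at hx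
    simpa using hQ₂ (mem_map_of_mem _ hx)
  have hPc : Nat.card P = p ^ (Nat.card H).factorization p := by
    rw [hPdef, card_map_of_injective H.subtype_injective, Sylow.card_eq_multiplicity]
  have hQc : Nat.card Q = p ^ (Nat.card K).factorization p := by
    rw [hQdef, card_map_of_injective K.subtype_injective, Sylow.card_eq_multiplicity]
  have hsurj : Function.Surjective fun hk : H × K => ((hk.1 : G) * hk.2) := fun g => by
    obtain ⟨a, ha, b, hb, rfl⟩ := hHK g
    exact ⟨(⟨a, ha⟩, ⟨b, hb⟩), rfl⟩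
  have hGcard : Nat.card H * Nat.card K = Nat.card G * Nat.card (H ⊓ K : Subgroup G) := by
    rw [← Nat.card_prod, ← Nat.card_prod]
    refine (Nat.card_congr ?_).symm
    choose a ha b hb hab using hHK
    exact
      { toFun := fun z => (⟨a z.1 * z.2, H.mul_mem (ha _) z.2.2.1⟩, ⟨(z.2 : G)⁻¹ * b z.1, K.mul_mem (K.inv_mem z.2.2.2) (hb _)⟩)
        invFun := fun w => ((w.1 : G) * w.2, ⟨(a ((w.1 : G) * w.2))⁻¹ * w.1, ⟨H.mul_mem (H.inv_mem (ha _)) w.1.2, by
          rw [show (a ((w.1 : G) * w.2))⁻¹ * w.1 = b ((w.1 : G) * w.2) * (w.2 : G)⁻¹ by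
            rw [inv_mul_eq_iff_eq_mul, ← mul_assoc, ← hab, mul_inv_cancel_right]]
          exact K.mul_mem (hb _) (K.inv_mem w.2.2)⟩⟩)
        left_inv := fun z => by
          have e : a z.1 * (z.2 : G) * ((z.2 : G)⁻¹ * b z.1) = z.1 := by
            rw [mul_assoc, mul_inv_cancel_left, ← hab]
          refine Prod.ext e (Subtype.ext ?_)
          simp [e]
        right_inv := fun w => by
          refine Prod.ext (Subtype.ext (by simp)) (Subtype.ext ?_)
          simp only [mul_inv_rev, inv_inv]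
          rw [mul_assoc, ← hab, inv_mul_cancel_left] }
  have hp := (Fact.out : p.Prime)
  have hI : Nat.card (P ⊓ Q : Subgroup G) ∣ p ^ (Nat.card (H ⊓ K : Subgroup G)).factorization p := by
    obtain ⟨i, hi⟩ := IsPGroup.iff_card.mp (R.2.to_le (inf_le_left.trans hPR) : IsPGroup p (P ⊓ Q : Subgroup G))
    rw [hi]
    refine pow_dvd_pow p ((hp.pow_dvd_iff_le_factorization Nat.card_pos.ne').mp (hi ▸ card_dvd_of_le ?_))
    exact inf_le_inf (map_subtype_le _) (map_subtype_le _)
  have hrel : Q.relIndex (R : Subgroup G) ≤ Q.relIndex P := by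
    have e1 : Q.relIndex (R : Subgroup G) * Nat.card Q = Nat.card (R : Subgroup G) := by
      rw [← index_mul_card (Q.subgroupOf (R : Subgroup G)), Nat.card_congr (subgroupOfEquivOfLe hQR).toEquiv]
      rfl
    have e2 : Q.relIndex P * Nat.card (P ⊓ Q : Subgroup G) = Nat.card P := by
      rw [← inf_relIndex_left, ← index_mul_card ((P ⊓ Q).subgroupOf P),
        Nat.card_congr (subgroupOfEquivOfLe (inf_le_left : P ⊓ Q ≤ P)).toEquiv]
      rfl
    have e3 : Nat.card (R : Subgroup G) * p ^ (Nat.card (H ⊓ K : Subgroup G)).factorization p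
        = Nat.card P * Nat.card Q := by
      have := congrArg (fun n => n.factorization p) hGcard
      simp only [Nat.factorization_mul Nat.card_pos.ne' Nat.card_pos.ne', Finsupp.add_apply] at this
      rw [hPc, hQc, Sylow.card_eq_multiplicity, ← pow_add, ← pow_add, this]
    have h4 : Nat.card (R : Subgroup G) * Nat.card (P ⊓ Q : Subgroup G) ≤ Nat.card P * Nat.card Q :=
      e3 ▸ Nat.mul_le_mul_left _ (Nat.le_of_dvd (pow_pos hp.pos _) hI)
    rw [← e1, ← e2] at h4
    refine Nat.le_of_mul_le_mul_right ?_ (Nat.mul_pos (Nat.card_pos (α := Q)) (Nat.card_pos (α := (P ⊓ Q : Subgroup G))))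
    calc _ ≤ _ := le_of_eq (mul_assoc _ _ _).symm
      _ ≤ _ := h4
      _ = _ := by ring
  apply Set.Subset.antisymm
  · intro r hr
    obtain ⟨x, hx, y, hy, rfl⟩ := exists_mul_of_relIndex_le hPR hrel hr
    exact Set.mul_mem_mul hx hy
  · rintro _ ⟨x, hx, y, hy, rfl⟩
    exact mul_mem (hPR hx) (hQR hy)

end Cfsg.Agent.S0560
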