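import Cfsg.Statements.S1526
import Cfsg.Agent.Lib.OddOrder.FrobeniusTI

set_option autoImplicit false
open Cfsg

namespace Cfsg.Agent.S1526

open scoped ComplexConjugate
open Cfsg.Agent.Char Cfsg.Agent.OddOrder

variable {G : Type*} [Group G] [Fintype G]

theorem int_one_le_sq {z : ℤ} (hz : z ≠ 0) : (1 : ℝ) ≤ (z : ℝ) ^ 2 := by
  have h : 1 ≤ z ^ 2 := by
    have := sq_pos_of_ne_zero hz
    omega
  exact_mod_cast h

theorem disjoint_union {A B : Subgroup G} (hcop : Nat.Coprime (Nat.card A) (Nat.card B)) :
    Disjoint (conjUnion A) (conjUnion B) := by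
  rw [Finset.disjoint_left]
  intro u hA hB
  obtain ⟨hu1, c, hc⟩ := mem_conjUnion.mp hA
  obtain ⟨-, d, hd⟩ := mem_conjUnion.mp hB
  refine hu1 (orderOf_eq_one_iff.mp (Nat.dvd_one.mp (hcop.gcd_eq_one ▸ Nat.dvd_gcd ?_ ?_)))
  · rw [show orderOf u = orderOf (c⁻¹ * u * c) by
      simpa using (orderOf_injective (MulAut.conj c⁻¹).toMonoidHom
        (MulAut.conj c⁻¹).injective u).symm]
    rw [← Subgroup.orderOf_mk _ hc]
    exact orderOf_dvd_natCard _
  · rw [show orderOf u = orderOf (d⁻¹ * u * d) by
      simpa using (orderOf_injective (MulAut.conj d⁻¹).toMonoidHom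
        (MulAut.conj d⁻¹).injective u).symm]
    rw [← Subgroup.orderOf_mk _ hd]
    exact orderOf_dvd_natCard _

section Pair

variable {A B : Subgroup G} (I : FamilyData A) (J : FamilyData B)
  (hd : Disjoint (conjUnion A) (conjUnion B))
include hd

theorem inner_diff_eq_zero {χ φ : IrrCharacter G} (hχ : χ ∈ J.F) (hφ : φ ∈ J.F) {f : G → ℂ}
    (hf : ∀ g ∉ conjUnion A, f g = 0) : classInner f (χ.1 - φ.1) = 0 := by
  rw [classInner, Finset.sum_eq_zero, mul_zero]
  intro g _
  by_cases hg : g ∈ conjUnion A
  · rw [Pi.sub_apply, J.off χ hχ φ hφ g (Finset.disjoint_left.mp hd hg), sub_self, map_zero, mul_zero]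
  · rw [hf g hg, zero_mul]

theorem coef_const {χ φ : IrrCharacter G} (hχ : χ ∈ J.F) (hφ : φ ∈ J.F) : I.coef χ = I.coef φ := by
  have h := inner_diff_eq_zero J hd hχ hφ I.T_off
  rw [classInner_sub_right, I.coef_spec, I.coef_spec, sub_eq_zero] at h
  exact_mod_cast h

theorem disjoint_F : Disjoint I.F J.F := by
  classical
  rw [Finset.disjoint_left]
  intro χ hA hB
  obtain ⟨χ', hA', hne'⟩ := Finset.exists_mem_ne (by rw [I.card_F]; exact I.s_two) χ
  obtain ⟨φ, hB', hneφ⟩ := Finset.exists_mem_ne (by rw [J.card_F]; exact J.s_two) χ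
  have h0 := inner_diff_eq_zero J hd hB hB' (f := χ.1 - χ'.1) fun g hg => by
    rw [Pi.sub_apply, I.off χ hA χ' hA' g hg, sub_self]
  rw [classInner_sub_left, classInner_sub_right, classInner_sub_right, classInner_irr, classInner_irr,
    classInner_irr, classInner_irr, if_pos rfl, if_neg (Ne.symm hneφ), if_neg hne'] at h0
  split_ifs at h0 <;> norm_num at h0

end Pair

/-- The endgame on the numerical data. -/
theorem numeric {ι : Type*} [Fintype ι] [DecidableEq ι] [Nonempty ι] (e s : ι → ℕ) (u : ι → ℝ)
    (he : ∀ i, 3 ≤ e i) (heo : ∀ i, Odd (e i)) (hs : ∀ i, 2 ≤ s i) (hse : ∀ i, Even (s i))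
    (hne : ∀ i j, i ≠ j → s i * e i + 1 ≠ s j * e j + 1)
    (hu : ∀ i, u i ≤ 1 / (e i : ℝ))
    (hA : ∀ i, 1 ≤ 1 / (e i : ℝ) + ∑ j ∈ Finset.univ.erase i, u j)
    (S : ι → Finset ι) (hSs : ∀ i, S i ⊆ Finset.univ.erase i)
    (hS : ∀ i, ∑ j ∈ S i, s j ≤ e i - 1)
    (hR : ∀ i, ∑ j ∈ Finset.univ.erase i \ S i, (s j : ℝ) / (s j * e j + 1) ≤
      (e i : ℝ) / (s i * e i + 1)) : False := by
  obtain ⟨A, -, hmin⟩ := Finset.exists_min_image Finset.univ e Finset.univ_nonempty
  have hmin' : ∀ j, e A ≤ e j := fun j => hmin j (Finset.mem_univ _)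
  set R := Finset.univ.erase A \ S A with hRdef
  have hsplit : ∑ j ∈ Finset.univ.erase A, u j = ∑ j ∈ R, u j + ∑ j ∈ S A, u j :=
    (Finset.sum_sdiff (hSs A)).symm
  have hA' := hA A
  rw [hsplit] at hA'
  have he' : (3 : ℝ) ≤ e A := by exact_mod_cast he A
  -- `R` with a lower bound on the `s j * e j + 1`
  have hRb : ∀ m : ℕ, 2 ≤ m → (∀ j ∈ R, m ≤ s j * e j + 1) →
      ∑ j ∈ R, u j ≤ (m : ℝ) / (m - 1) * ((e A : ℝ) / (s A * e A + 1)) := by
    intro m hm2 hm
    have hm' : (2 : ℝ) ≤ m := by exact_mod_cast hm2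
    refine le_trans ?_ (mul_le_mul_of_nonneg_left (hR A)
      (div_nonneg (by linarith) (by linarith)))
    rw [Finset.mul_sum]
    refine Finset.sum_le_sum fun j hj => (hu j).trans ?_
    have hmj : (m : ℝ) ≤ s j * e j + 1 := by exact_mod_cast hm j hj
    have hej : (3 : ℝ) ≤ e j := by exact_mod_cast he j
    have hsj : (2 : ℝ) ≤ s j := by exact_mod_cast hs j
    rw [div_mul_div_comm, div_le_div_iff₀ (by linarith) (by nlinarith)]
    nlinarith [mul_le_mul_of_nonneg_left hmj (by norm_num : (0 : ℝ) ≤ 1)]
  -- `S` with a lower bound on the `s j * e j`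
  have hSb : ∀ K : ℝ, 0 < K → (∀ j ∈ S A, K ≤ s j * e j) →
      ∑ j ∈ S A, u j ≤ ((e A : ℝ) - 1) / K := by
    intro K hK hKj
    have h1 : (∑ j ∈ S A, (s j : ℝ)) ≤ (e A : ℝ) - 1 := by
      have h2 : ((∑ j ∈ S A, s j : ℕ) : ℝ) ≤ ((e A - 1 : ℕ) : ℝ) := by exact_mod_cast hS A
      rw [Nat.cast_sub (by linarith [he A]), Nat.cast_sum, Nat.cast_one] at h2
      exact h2
    refine le_trans ?_ (div_le_div_of_nonneg_right h1 hK.le)
    rw [Finset.sum_div]
    refine Finset.sum_le_sum fun j hj => (hu j).trans ?_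
    have hej : (3 : ℝ) ≤ e j := by exact_mod_cast he j
    rw [div_le_div_iff₀ (by linarith) hK]
    linarith [hKj j hj]
  by_cases hs2 : s A = 2
  · -- the other indices
    have hother : ∀ j, j ≠ A → (s j = 2 ∧ e A + 2 ≤ e j) ∨ 4 ≤ s j := by
      intro j hj
      obtain ⟨k, hk⟩ := hse j
      rcases eq_or_ne (s j) 2 with h2 | h2
      · refine Or.inl ⟨h2, ?_⟩
        obtain ⟨a, ha⟩ := heo A
        obtain ⟨b, hb⟩ := heo j
        have hne' : e j ≠ e A := fun h => hne j A hj (by rw [h2, hs2, h])
        have := hmin' j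
        omega
      · exact Or.inr (by have := hs j; omega)
    have hprod : ∀ j, j ≠ A → 2 * e A + 4 ≤ s j * e j := by
      intro j hj
      have := hmin' j
      have := he A
      rcases hother j hj with ⟨h2, h3⟩ | h4
      · rw [h2]; omega
      · have := Nat.mul_le_mul h4 (hmin' j)
        omega
    have hS2 := hSb (2 * (e A : ℝ) + 4) (by linarith) fun j hj => by
      exact_mod_cast hprod j (Finset.ne_of_mem_erase (hSs A hj))
    have hR2 := hRb (2 * e A + 5) (by omega) fun j hj => by
      have := hprod j (Finset.ne_of_mem_erase (Finset.mem_sdiff.mp hj).1)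
      omega
    rw [hs2] at hR2
    push_cast at hR2
    rcases (Nat.lt_or_ge (e A) 4) with h3 | h5
    · have heA : e A = 3 := by have := he A; omega
      rcases (S A).eq_empty_or_nonempty with h0 | ⟨b, hb⟩
      · rw [h0, Finset.sum_empty] at hA'
        rw [heA] at hA' hR2
        norm_num at hA' hR2
        linarith
      · have hsum := hS A
        rw [heA] at hsum
        have hbs : s b = 2 := by
          have := Finset.single_le_sum (fun j _ => Nat.zero_le (s j)) hb
          have := hs b
          omega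
        have hSeq : S A = {b} := by
          refine Finset.eq_singleton_iff_unique_mem.mpr ⟨hb, fun c hc => ?_⟩
          by_contra hcb
          have h1 : s b + s c ≤ ∑ j ∈ S A, s j := by
            rw [← Finset.sum_pair (Ne.symm hcb)]
            exact Finset.sum_le_sum_of_subset (by simp [Finset.insert_subset_iff, hb, hc])
          have := hs c
          omega
        rw [hSeq, Finset.sum_singleton] at hA'
        have hub := hu b
        have hbA : b ≠ A := Finset.ne_of_mem_erase (hSs A hb)
        have hb5 : 5 ≤ e b := by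
          rcases hother b hbA with ⟨-, h⟩ | h <;> omega
        rcases Nat.lt_or_ge (e b) 7 with hlt | hge
        · have heb : e b = 5 := by
            obtain ⟨l, hl⟩ := heo b
            omega
          have hR13 := hRb 13 (by norm_num) fun j hj => by
            obtain ⟨hj1, hj2⟩ := Finset.mem_sdiff.mp hj
            have hjA := Finset.ne_of_mem_erase hj1
            have hjb : j ≠ b := fun h => hj2 (h ▸ hb)
            have h1 := hne j b hjb
            rw [hbs, heb] at h1
            rcases hother j hjA with ⟨h2, -⟩ | h4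
            · rw [h2] at h1 ⊢
              have := hmin' j
              obtain ⟨l, hl⟩ := heo j
              rcases hother j hjA with ⟨-, h⟩ | h <;> omega
            · have := Nat.mul_le_mul h4 (hmin' j)
              omega
          rw [hs2, heA] at hR13
          rw [heA] at hA'
          rw [heb] at hub
          norm_num at hA' hR13 hub
          linarith
        · have : (1 : ℝ) / e b ≤ 1 / 7 :=
            one_div_le_one_div_of_le (by norm_num) (by exact_mod_cast hge)
          rw [heA] at hA' hR2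
          norm_num at hA' hR2 this hub
          linarith
    · have he5 : (5 : ℝ) ≤ e A := by
        obtain ⟨l, hl⟩ := heo A
        have : 5 ≤ e A := by omega
        exact_mod_cast this
      set x : ℝ := (e A : ℝ) with hx
      have hkey : 1 / x + (2 * x + 5) / (2 * x + 5 - 1) * (x / (2 * x + 1)) +
          (x - 1) / (2 * x + 4) < 1 := by
        rw [show (2 : ℝ) * x + 5 - 1 = 2 * x + 4 by ring, div_mul_div_comm,
          div_add_div _ _ (by positivity) (by positivity),
          div_add_div _ _ (by positivity) (by positivity), div_lt_one (by positivity)]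
        nlinarith [mul_le_mul_of_nonneg_left he5 (by linarith : (0 : ℝ) ≤ x),
          mul_le_mul_of_nonneg_left he5 (mul_self_nonneg x)]
      linarith
  · have hs4 : 4 ≤ s A := by
      obtain ⟨k, hk⟩ := hse A
      have := hs A
      omega
    have hprod : ∀ j, 2 * e A ≤ s j * e j := fun j => Nat.mul_le_mul (hs j) (hmin' j)
    have hS4 := hSb (2 * (e A : ℝ)) (by linarith) fun j _ => by exact_mod_cast hprod j
    have hR4 := hRb (2 * e A + 1) (by have := he A; omega) fun j _ => by
      have := hprod j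
      omega
    push_cast at hR4
    set x : ℝ := (e A : ℝ) with hx
    have hn4 : x / ((s A : ℝ) * x + 1) ≤ x / (4 * x + 1) := by
      refine div_le_div_of_nonneg_left (by linarith) (by linarith) ?_
      have : (4 : ℝ) ≤ s A := by exact_mod_cast hs4
      nlinarith
    have hR5 := hR4.trans (mul_le_mul_of_nonneg_left hn4
      (div_nonneg (by linarith) (by linarith)))
    have hkey : 1 / x + (2 * x + 1) / (2 * x + 1 - 1) * (x / (4 * x + 1)) + (x - 1) / (2 * x) < 1 := by
      rw [show (2 : ℝ) * x + 1 - 1 = 2 * x by ring, div_mul_div_comm,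
        div_add_div _ _ (by positivity) (by positivity),
        div_add_div _ _ (by positivity) (by positivity), div_lt_one (by positivity)]
      nlinarith [mul_le_mul_of_nonneg_left he' (by linarith : (0 : ℝ) ≤ x),
        mul_le_mul_of_nonneg_left he' (mul_self_nonneg x)]
    linarith

theorem false_of_data {ι : Type*} [Fintype ι] [Nonempty ι] (hodd : Odd (Nat.card G))
    (H : ι → Subgroup G) (D : ∀ i, FamilyData (H i))
    (hcop : ∀ i j, i ≠ j → Nat.Coprime (Nat.card (H i)) (Nat.card (H j)))
    (hcover : ∀ g : G, g ≠ 1 → ∃ i, ∃ x : G, x * g * x⁻¹ ∈ H i) : False := by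
  classical
  have hd : ∀ i j, i ≠ j → Disjoint (conjUnion (H i)) (conjUnion (H j)) := fun i j hij =>
    disjoint_union (hcop i j hij)
  have hFd : ∀ i j, i ≠ j → Disjoint (D i).F (D j).F := fun i j hij =>
    disjoint_F (D i) (D j) (hd i j hij)
  set G0 : ℝ := (Nat.card G : ℝ) with hG0
  have hGpos : 0 < G0 := by rw [hG0]; exact_mod_cast Nat.card_pos
  -- coefficient of `T i` on the family `j`
  let c : ι → ι → ℤ := fun i j => (D i).coef (D j).θ
  have hc : ∀ i j, i ≠ j → ∀ χ ∈ (D j).F, (D i).coef χ = c i j := fun i j hij χ hχ =>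
    coef_const (D i) (D j) (hd i j hij) hχ (D j).θ_mem
  -- norm
  have hnorm : ∀ i, ∑ j ∈ Finset.univ.erase i, ((D j).s : ℤ) * c i j ^ 2 ≤ (D i).e - 1 := by
    intro i
    have hdis : (↑(Finset.univ : Finset ι) : Set ι).PairwiseDisjoint fun j => (D j).F :=
      fun a _ b _ hab => hFd a b hab
    have hsub : insert (trivialChar G) (Finset.univ.biUnion fun j => (D j).F) ⊆
        (Finset.univ : Finset (IrrCharacter G)) := Finset.subset_univ _
    have h1 := Finset.sum_le_sum_of_subset_of_nonneg (f := fun χ => (D i).coef χ ^ 2) hsub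
      fun χ _ _ => sq_nonneg _
    have h3 : ∑ j ∈ Finset.univ.erase i, ∑ χ ∈ (D j).F, (D i).coef χ ^ 2 =
        ∑ j ∈ Finset.univ.erase i, ((D j).s : ℤ) * c i j ^ 2 := by
      refine Finset.sum_congr rfl fun j hj => ?_
      rw [Finset.sum_congr rfl (g := fun _ => c i j ^ 2) fun χ hχ => by
          rw [hc i j (Finset.ne_of_mem_erase hj).symm χ hχ],
        Finset.sum_const, (D j).card_F, nsmul_eq_mul]
    rw [Finset.sum_insert, (D i).norm_T, (D i).coef_triv, Finset.sum_biUnion hdis,
      ← Finset.add_sum_erase _ _ (Finset.mem_univ i), h3] at h1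
    · have h2 : 1 ≤ ∑ χ ∈ (D i).F, (D i).coef χ ^ 2 := by
        obtain ⟨χ, hχ, hne⟩ := Finset.exists_ne_zero_of_sum_ne_zero
          (fun h0 => by
            have := (D i).odd_sum
            rw [h0] at this
            exact Int.not_odd_zero this :
            ∑ χ ∈ (D i).F, (D i).coef χ ≠ 0)
        refine le_trans ?_ (Finset.single_le_sum (f := fun χ => (D i).coef χ ^ 2)
          (fun χ _ => sq_nonneg _) hχ)
        have := sq_pos_of_ne_zero hne
        omega
      linarith
    · rw [Finset.mem_biUnion]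
      rintro ⟨j, -, hj⟩
      exact (D j).triv_notMem hj
  -- parity
  have hpar : ∀ i j, i ≠ j → c i j ≠ 0 ∨ c j i ≠ 0 := by
    intro i j hij
    by_contra hcon
    push Not at hcon
    obtain ⟨h1, h2⟩ := hcon
    have h0 : classInner (D i).T (D j).T = 0 := by
      rw [classInner, Finset.sum_eq_zero, mul_zero]
      intro g _
      by_cases hg : g ∈ conjUnion (H i)
      · rw [(D j).T_off g (Finset.disjoint_left.mp (hd i j hij) hg), map_zero, mul_zero]
      · rw [(D i).T_off g hg, zero_mul]
    rw [classInner_eq_sum_coeff (D j).T_class] at h0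
    simp only [(D i).coef_spec, (D j).coef_spec, map_intCast] at h0
    have h0' : ∑ χ : IrrCharacter G, (D i).coef χ * (D j).coef χ = 0 := by exact_mod_cast h0
    have hz : ((∑ χ : IrrCharacter G, (D i).coef χ * (D j).coef χ : ℤ) : ZMod 2) = 0 := by
      rw [h0']; rfl
    set R := (Finset.univ.erase (trivialChar G)) \ ((D i).F ∪ (D j).F) with hR
    have hmemR : ∀ χ, χ ∈ R ↔ χ ≠ trivialChar G ∧ χ ∉ (D i).F ∧ χ ∉ (D j).F := fun χ => by
      simp [hR, and_assoc]
    have hclosed : ∀ χ ∈ R, conjIrr χ ∈ R := by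
      intro χ hχ
      rw [hmemR] at hχ ⊢
      refine ⟨fun h => hχ.1 ?_, fun h => hχ.2.1 ?_, fun h => hχ.2.2 ?_⟩
      · rw [← conjIrr_conjIrr χ, h]
        exact Subtype.ext (funext fun g => map_one conj)
      · rw [← conjIrr_conjIrr χ]; exact (D i).conj_mem _ h
      · rw [← conjIrr_conjIrr χ]; exact (D j).conj_mem _ h
    have heven : ((∑ χ ∈ R, (D i).coef χ * (D j).coef χ : ℤ) : ZMod 2) = 0 := by
      push_cast
      refine Finset.sum_involution (fun χ _ => conjIrr χ) ?_ ?_ hclosed
        (fun χ _ => conjIrr_conjIrr χ)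
      · intro χ hχ
        rw [hmemR] at hχ
        rw [(D i).coef_conj χ hχ.2.1, (D j).coef_conj χ hχ.2.2]
        exact CharTwo.add_self_eq_zero _
      · intro χ hχ _ hfix
        have h1 := Cfsg.Agent.S0161.result hodd χ ((conjIrr_eq_self_iff χ).mp hfix)
        exact ((hmemR χ).mp hχ).1 (Subtype.ext h1)
    have hFF : ∑ χ ∈ (D i).F ∪ (D j).F, (D i).coef χ * (D j).coef χ = 0 := by
      refine Finset.sum_eq_zero fun χ hχ => ?_
      rcases Finset.mem_union.mp hχ with h | h
      · rw [hc j i hij.symm χ h, h2, mul_zero]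
      · rw [hc i j hij χ h, h1, zero_mul]
    rw [← Finset.add_sum_erase _ _ (Finset.mem_univ (trivialChar G)), (D i).coef_triv, (D j).coef_triv,
      ← Finset.sum_sdiff (fun χ hχ => Finset.mem_erase.mpr ⟨fun h => by
          rcases Finset.mem_union.mp hχ with h' | h'
          · exact (D i).triv_notMem (h ▸ h')
          · exact (D j).triv_notMem (h ▸ h'), Finset.mem_univ _⟩ :
        (D i).F ∪ (D j).F ⊆ Finset.univ.erase (trivialChar G)), hFF, ← hR] at hz
    push_cast at hz heven
    rw [heven] at hz
    norm_num at hz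
  -- masses
  have hmass : ∀ i, ∑ j, unionMass (H j) (D i).θ.1 ≤ G0 := by
    intro i
    have h := classInner_irr_self (D i).θ.2
    rw [classInner_self] at h
    have h' : (Nat.card G : ℝ)⁻¹ * ∑ g : G, Complex.normSq ((D i).θ.1 g) = 1 := by exact_mod_cast h
    rw [inv_mul_eq_one₀ (Nat.cast_ne_zero.2 Nat.card_pos.ne')] at h'
    rw [hG0, h']
    simp only [unionMass]
    rw [← Finset.sum_biUnion fun a _ b _ hab => hd a b hab]
    exact Finset.sum_le_sum_of_subset_of_nonneg (Finset.subset_univ _)
      fun g _ _ => Complex.normSq_nonneg _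
  have hR : ∀ i, ∑ j ∈ Finset.univ.erase i,
      (c j i : ℝ) ^ 2 * ((D j).s / ((D j).s * (D j).e + 1)) ≤
        ((D i).e : ℝ) / ((D i).s * (D i).e + 1) := by
    intro i
    have h1 := hmass i
    rw [← Finset.add_sum_erase _ _ (Finset.mem_univ i)] at h1
    have hn : (0 : ℝ) < (D i).s * (D i).e + 1 := by positivity
    have h3 : G0 * (∑ j ∈ Finset.univ.erase i,
        (c j i : ℝ) ^ 2 * ((D j).s / ((D j).s * (D j).e + 1))) ≤
        ∑ j ∈ Finset.univ.erase i, unionMass (H j) (D i).θ.1 := by
      rw [Finset.mul_sum]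
      refine Finset.sum_le_sum fun j hj => ?_
      have hji := Finset.ne_of_mem_erase hj
      have hnj : (0 : ℝ) < (D j).s * (D j).e + 1 := by positivity
      have h4 := (D j).mass_other (D i).θ
        (Finset.disjoint_left.mp (hFd i j hji.symm) (D i).θ_mem)
      rw [← mul_div_assoc, ← mul_div_assoc, div_le_iff₀ hnj, mul_comm (unionMass _ _), ← mul_assoc]
      exact h4
    have h5 := (D i).mass_self
    rw [le_div_iff₀ hn]
    refine le_of_mul_le_mul_left ?_ hGpos
    nlinarith
  -- sizes of the unions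
  have hhpos : ∀ i, (0 : ℝ) < Nat.card (H i) * (D i).e := fun i => by
    have := (D i).e_three
    have h1 : 0 < Nat.card (H i) * (D i).e := Nat.mul_pos Nat.card_pos (by omega)
    exact_mod_cast h1
  let u : ι → ℝ := fun i => ((conjUnion (H i)).card : ℝ) / G0
  have hU : ∀ i, u i + 1 / ((Nat.card (H i) : ℝ) * (D i).e) = 1 / ((D i).e : ℝ) := by
    intro i
    have h1 := congrArg (Nat.cast (R := ℝ)) (D i).card_union
    push_cast [Nat.cast_sub (Nat.card_pos (α := H i))] at h1
    have he : (0 : ℝ) < (D i).e := by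
      have := (D i).e_three
      exact_mod_cast (by omega : 0 < (D i).e)
    have hh : (0 : ℝ) < Nat.card (H i) := by exact_mod_cast Nat.card_pos
    simp only [u]
    field_simp
    linear_combination h1
  have hcov : ∑ i, u i + 1 / G0 = 1 := by
    have h1 : (Finset.univ.biUnion fun i => conjUnion (H i)) = Finset.univ.erase (1 : G) := by
      ext g
      simp only [Finset.mem_biUnion, Finset.mem_univ, true_and, Finset.mem_erase, and_true,
        mem_conjUnion]
      refine ⟨fun ⟨i, hg, _⟩ => hg, fun hg => ?_⟩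
      obtain ⟨i, x, hx⟩ := hcover g hg
      exact ⟨i, hg, x⁻¹, by rwa [inv_inv]⟩
    have h2 : ∑ i, (conjUnion (H i)).card = Nat.card G - 1 := by
      rw [← Finset.card_biUnion fun a _ b _ hab => hd a b hab, h1,
        Finset.card_erase_of_mem (Finset.mem_univ _), Finset.card_univ, Nat.card_eq_fintype_card]
    have h3 := congrArg (Nat.cast (R := ℝ)) h2
    push_cast [Nat.cast_sub (Nat.card_pos (α := G))] at h3
    simp only [u, ← Finset.sum_div, h3, ← hG0]
    rw [← add_div, sub_add_cancel, div_self hGpos.ne']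
  refine numeric (fun i => (D i).e) (fun i => (D i).s) u (fun i => (D i).e_three)
    (fun i => (D i).e_odd) (fun i => (D i).s_two) (fun i => (D i).s_even) ?_ ?_ ?_
    (fun i => (Finset.univ.erase i).filter fun j => c i j ≠ 0)
    (fun i => Finset.filter_subset _ _) ?_ ?_
  · intro i j hij heq
    have h2 : (D i).s * (D i).e + 1 = 1 :=
      Nat.eq_one_of_dvd_coprimes (hcop i j hij) (D i).dvd_card (heq ▸ (D j).dvd_card)
    have h3 := Nat.mul_le_mul (D i).s_two (D i).e_three
    omega
  · intro i
    have := hU i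
    have h1 : (0 : ℝ) < 1 / ((Nat.card (H i) : ℝ) * (D i).e) := one_div_pos.mpr (hhpos i)
    linarith
  · intro i
    have h1 := hcov
    rw [← Finset.add_sum_erase _ _ (Finset.mem_univ i)] at h1
    have h2 : 1 / G0 ≤ 1 / ((Nat.card (H i) : ℝ) * (D i).e) := by
      refine one_div_le_one_div_of_le (hhpos i) ?_
      have h3 : Nat.card (H i) * (D i).e ≤ Nat.card G :=
        (D i).card_norm ▸ Subgroup.card_le_card_group _
      rw [hG0]; exact_mod_cast h3
    have := hU i
    linarith
  · intro i
    have h1 : ∑ j ∈ (Finset.univ.erase i).filter (fun j => c i j ≠ 0), ((D j).s : ℤ) ≤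
        (D i).e - 1 := by
      refine le_trans ?_ (hnorm i)
      rw [Finset.sum_filter]
      refine Finset.sum_le_sum fun j _ => ?_
      split_ifs with h
      · refine le_mul_of_one_le_right (Int.natCast_nonneg _) ?_
        have := sq_pos_of_ne_zero h
        omega
      · positivity
    have := (D i).e_three
    have h2 : ((∑ j ∈ (Finset.univ.erase i).filter (fun j => c i j ≠ 0), (D j).s : ℕ) : ℤ) ≤
        (D i).e - 1 := by push_cast; exact h1
    omega
  · intro i
    refine le_trans ?_ (hR i)
    rw [← Finset.filter_not, Finset.sum_filter]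
    refine Finset.sum_le_sum fun j hj => ?_
    have hpos : (0 : ℝ) ≤ (D j).s / ((D j).s * (D j).e + 1) := by positivity
    by_cases h : c i j = 0
    · rw [if_pos (not_not.mpr h)]
      exact le_mul_of_one_le_left hpos
        (int_one_le_sq ((hpar i j (Finset.ne_of_mem_erase hj).symm).resolve_left (not_not.mpr h)))
    · rw [if_neg (not_not.mpr h)]
      positivity

/-- Let G be a finite group of odd order and (L i, H i), i in a finite index type with at least two elements, pairs of subgroups with H i a nontrivial proper normal subgroup of L i such that every non-identity element of H i has its centraliser within L i contained in H i (L i is a Frobenius group with kernel H i), the orders of the H i pairwise coprime, and the underlying set of each H i a TI-subset of G with normaliser L i. If every non-identity element of G is conjugate to an element of some H i, we reach a contradiction. -/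
theorem result {G : Type*} [Group G] [Finite G] (hodd : Odd (Nat.card G)) {ι : Type*} [Fintype ι] (hι : 2 ≤ Fintype.card ι) (L H : ι → Subgroup G) (hHL : ∀ i, H i < L i) (hH1 : ∀ i, H i ≠ ⊥) (hHn : ∀ i, ∀ x ∈ L i, ∀ h ∈ H i, x * h * x⁻¹ ∈ H i) (hfrob : ∀ i, ∀ h ∈ H i, h ≠ 1 → L i ⊓ Subgroup.centralizer ({h} : Set G) ≤ H i) (hcop : ∀ i j, i ≠ j → Nat.Coprime (Nat.card (H i)) (Nat.card (H j))) (hTI : ∀ i, Cfsg.IsTISubset (H i : Set G) ∧ Subgroup.normalizer (H i : Set G) = L i) (hcover : ∀ g : G, g ≠ 1 → ∃ i, ∃ x : G, x * g * x⁻¹ ∈ H i) : False := by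
  classical
  haveI := Fintype.ofFinite G
  haveI : Nonempty ι := Fintype.card_pos_iff.mp (by omega)
  refine false_of_data hodd H (fun i => (exists_familyData ?_ hodd).some) hcop hcover
  obtain ⟨n, hnL, hnH⟩ := SetLike.exists_of_lt (hHL i)
  have hN := (hTI i).2
  exact
    { ne_bot := hH1 i
      exists_notMem := ⟨n, hN.symm ▸ hnL, hnH⟩
      frob := fun m hm h hh h1 hcomm => hfrob i h hh h1
        ⟨hN ▸ hm, Subgroup.mem_centralizer_singleton_iff.mpr hcomm⟩
      ti := fun g x hx hx1 hgx => by_contra fun hg => hx1 ((hTI i).1 g hg x hx hgx) }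

end Cfsg.Agent.S1526
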