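import Cfsg.Statements.S4035
import Cfsg.Agent.Lib.PrimeParts.Basic
import Cfsg.Agent.Lib.PCore.Basic
import Mathlib.GroupTheory.SchurZassenhaus
import Mathlib.GroupTheory.GroupAction.Quotient

set_option autoImplicit false
open Cfsg

namespace Cfsg.Agent.S4035

/-- Jordan: if every element is conjugate into `H` then `H = ⊤`. -/
theorem eq_top_of_forall_conj_mem {G : Type*} [Group G] [Finite G] (H : Subgroup G)
    (h : ∀ g : G, ∃ a : G, a⁻¹ * g * a ∈ H) : H = ⊤ := by
  classical
  by_contra hH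
  haveI := Fintype.ofFinite G
  haveI := Fintype.ofFinite (G ⧸ H)
  have hone : 1 < Fintype.card (G ⧸ H) := by
    rw [← Nat.card_eq_fintype_card, ← Subgroup.index_eq_card]
    have h1 := Subgroup.index_ne_zero_of_finite (H := H)
    have h2 : H.index ≠ 1 := fun h2 => hH (Subgroup.index_eq_one.1 h2)
    omega
  haveI : ∀ g : G, Fintype (MulAction.fixedBy (G ⧸ H) g) := fun g => Fintype.ofFinite _
  have hsum := MulAction.sum_card_fixedBy_eq_card_orbits_mul_card_group G (G ⧸ H)
  haveI : Subsingleton (MulAction.orbitRel.Quotient G (G ⧸ H)) :=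
    (MulAction.pretransitive_iff_subsingleton_quotient G (G ⧸ H)).1 inferInstance
  have hq : Fintype.card (MulAction.orbitRel.Quotient G (G ⧸ H)) ≤ 1 :=
    Fintype.card_le_one_iff_subsingleton.2 inferInstance
  have hlt : ∑ _g : G, 1 < ∑ g : G, Fintype.card (MulAction.fixedBy (G ⧸ H) g) := by
    refine Finset.sum_lt_sum (fun g _ => ?_) ⟨1, Finset.mem_univ _, ?_⟩
    · obtain ⟨a, ha⟩ := h g
      refine Fintype.card_pos_iff.2 ⟨⟨(a : G ⧸ H), ?_⟩⟩
      show ((g * a : G) : G ⧸ H) = (a : G ⧸ H)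
      refine (QuotientGroup.eq.2 ?_).symm
      rwa [← mul_assoc]
    · refine lt_of_lt_of_le hone (le_of_eq ?_)
      exact (Fintype.card_congr (Equiv.subtypeUnivEquiv (fun x => by simp))).symm
  rw [hsum, Finset.sum_const, Finset.card_univ, smul_eq_mul, mul_one] at hlt
  haveI : Subsingleton (Quotient (MulAction.orbitRel G (G ⧸ H))) :=
    inferInstanceAs (Subsingleton (MulAction.orbitRel.Quotient G (G ⧸ H)))
  refine absurd hlt (not_lt.2 ?_)
  calc _ ≤ 1 * Fintype.card G :=
        Nat.mul_le_mul_right _ (Fintype.card_le_one_iff_subsingleton.2 inferInstance)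
    _ = _ := one_mul _

/-- Let G be a finite group and p a prime such that p divides the size of no conjugacy class of p-regular elements (elements of order prime to p). Then G is the internal direct product of a Sylow p-subgroup P and a normal subgroup H of order prime to p: P is normal, P ⊓ H = 1 and PH = G. -/
theorem result {G : Type*} [Group G] [Finite G] {p : ℕ} [Fact p.Prime]
    (h : ∀ x : G, (orderOf x).Coprime p → ¬ p ∣ (ConjClasses.mk x).carrier.ncard) (P : Sylow p G) :
    (P : Subgroup G).Normal ∧ ∃ H : Subgroup G, H.Normal ∧ ¬ p ∣ Nat.card H ∧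
      (P : Subgroup G) ⊓ H = ⊥ ∧ (P : Subgroup G) ⊔ H = ⊤ := by
  have hp : p.Prime := Fact.out
  have hC : ∀ x : G, (orderOf x).Coprime p →
      ¬ p ∣ (Subgroup.centralizer ({x} : Set G)).index := fun x hx => by
    rw [← PrimeParts.ncard_carrier]; exact h x hx
  have hcov : ∀ g : G, ∃ a : G, a⁻¹ * g * a ∈ Subgroup.normalizer ((P : Subgroup G) : Set G) := by
    intro g
    obtain ⟨e, m, hm, hd⟩ := Nat.exists_eq_pow_mul_and_not_dvd (orderOf_pos g).ne' p hp.ne_one
    have hs : orderOf (g ^ p ^ e) = m := by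
      rw [orderOf_pow, hd, Nat.gcd_eq_right (dvd_mul_right _ _),
        Nat.mul_div_cancel_left m (pow_pos hp.pos e)]
    set C := Subgroup.centralizer ({g ^ p ^ e} : Set G) with hCdef
    have hidx : ¬ p ∣ C.index := hC _ (hs ▸ ((hp.coprime_iff_not_dvd.2 hm).symm))
    have hu : g ^ m ∈ C := Subgroup.mem_centralizer_singleton_iff.2 ((Commute.refl g).pow_pow m (p ^ e)).eq
    have hup : IsPGroup p (Subgroup.zpowers (⟨g ^ m, hu⟩ : C)) := by
      obtain ⟨l, -, hl⟩ := (Nat.dvd_prime_pow hp).1 (orderOf_dvd_of_pow_eq_one (x := g ^ m) (n := p ^ e)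
        (by rw [← pow_mul, mul_comm, ← hd, pow_orderOf_eq_one]))
      exact IsPGroup.of_card (n := l) (by rw [Nat.card_zpowers, Subgroup.orderOf_mk, hl])
    obtain ⟨R, hR⟩ := hup.exists_le_sylow
    have hRi : ¬ p ∣ ((R : Subgroup C).map C.subtype).index := by
      rw [Subgroup.index_map_subtype]
      intro hd'
      rcases hp.dvd_mul.1 hd' with h1 | h1
      · exact R.not_dvd_index h1
      · exact hidx h1
    let R' : Sylow p G := (R.isPGroup'.map C.subtype).toSylow hRi
    obtain ⟨a, ha⟩ := MulAction.exists_smul_eq G P R'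
    refine ⟨a, ?_⟩
    have hm1 : g ^ m ∈ (R' : Subgroup G) :=
      ⟨⟨g ^ m, hu⟩, hR (Subgroup.mem_zpowers _), rfl⟩
    have hs1 : g ^ p ^ e ∈ Subgroup.normalizer ((R' : Subgroup G) : Set G) := by
      refine Subgroup.mem_normalizer_iff.2 fun x => ?_
      have hfix : ∀ y ∈ (R' : Subgroup G), g ^ p ^ e * y * (g ^ p ^ e)⁻¹ = y := fun y hy => by
        have := Subgroup.mem_centralizer_singleton_iff.1 (show y ∈ C from Subgroup.map_subtype_le (R : Subgroup C) hy)
        rw [← this, mul_inv_cancel_right]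
      constructor
      · intro hx; rwa [hfix x hx]
      · intro hx
        have h2 := hfix _ hx
        have h3 : g ^ p ^ e * x * (g ^ p ^ e)⁻¹ = x :=
          mul_left_cancel (mul_right_cancel h2)
        rwa [h3] at hx
    have hg : g ∈ Subgroup.normalizer ((R' : Subgroup G) : Set G) := by
      have hco : Nat.gcd (p ^ e) m = 1 := (hp.coprime_iff_not_dvd.2 hm).pow_left e
      have hb := Nat.gcd_eq_gcd_ab (p ^ e) m
      rw [hco, Nat.cast_one] at hb
      rw [← zpow_one g, hb, zpow_add, zpow_mul, zpow_mul, zpow_natCast, zpow_natCast]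
      exact mul_mem (zpow_mem hs1 _) (zpow_mem (Subgroup.le_normalizer hm1) _)
    rw [Subgroup.mem_normalizer_iff] at hg ⊢
    intro x
    have key : ∀ z, z ∈ (P : Subgroup G) ↔ a * z * a⁻¹ ∈ (R' : Subgroup G) := by
      intro z
      rw [← ha, Sylow.coe_subgroup_smul, Subgroup.mem_pointwise_smul_iff_inv_smul_mem,
        MulAut.smul_def, MulAut.conj_inv_apply]
      simp [mul_assoc]
    rw [key, key, hg]
    simp [mul_assoc]
  haveI hPn : (P : Subgroup G).Normal :=
    Subgroup.normalizer_eq_top_iff.1 (eq_top_of_forall_conj_mem _ hcov)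
  refine ⟨hPn, ?_⟩
  obtain ⟨H, hH⟩ := Subgroup.exists_right_complement'_of_coprime
    (P.card_coprime_index : (Nat.card (P : Subgroup G)).Coprime (P : Subgroup G).index)
  have hHp : ¬ p ∣ Nat.card H := by
    rw [← hH.symm.index_eq_card]; exact P.not_dvd_index
  have hcent : ∀ y ∈ H, ∀ x ∈ (P : Subgroup G), x * y = y * x := by
    intro y hy x hx
    have hoy : (orderOf y).Coprime p :=
      (hp.coprime_iff_not_dvd.2 fun hd => hHp (hd.trans (Subgroup.orderOf_dvd_natCard H hy))).symm
    have hle : (P : Subgroup G) ≤ Subgroup.centralizer ({y} : Set G) := by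
      refine Subgroup.relIndex_eq_one.1 ?_
      have h1 := PrimeParts.relIndex_dvd_index_of_normal' (Subgroup.centralizer ({y} : Set G))
        (P : Subgroup G)
      obtain ⟨n, hn⟩ := P.isPGroup'.exists_card_eq
      exact Nat.eq_one_of_dvd_coprimes (((hp.coprime_iff_not_dvd.2 (hC y hoy))).pow_left n)
        (hn ▸ Subgroup.index_dvd_card _) h1
    exact Subgroup.mem_centralizer_singleton_iff.1 (hle hx)
  refine ⟨H, ⟨fun y hy g => ?_⟩, hHp, hH.disjoint.eq_bot, hH.sup_eq_top⟩
  obtain ⟨⟨x, z⟩, hxz, -⟩ := hH.existsUnique g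
  simp only at hxz
  have hcz : (z : G) * y * (z : G)⁻¹ ∈ H := mul_mem (mul_mem z.2 hy) (inv_mem z.2)
  have h2 := hcent _ hcz x x.2
  have : g * y * g⁻¹ = (z : G) * y * (z : G)⁻¹ := by
    rw [← hxz, mul_inv_rev]
    calc (x : G) * z * y * ((z : G)⁻¹ * (x : G)⁻¹)
        = (x : G) * ((z : G) * y * (z : G)⁻¹) * (x : G)⁻¹ := by group
      _ = (z : G) * y * (z : G)⁻¹ := by rw [h2, mul_inv_cancel_right]
  rw [this]; exact hcz

end Cfsg.Agent.S4035
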