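import Cfsg.Statements.S0526
import Cfsg.Agent.Lib.Supersolvable.Basic

set_option autoImplicit false
open Cfsg

namespace Cfsg.Agent.S0526

universe u

theorem aux (G : Type u) [Group G] [Finite G] (hG : Cfsg.IsSupersolvable G) :
    Group.IsNilpotent (commutator G) := by
  induction hn : Nat.card G using Nat.strong_induction_on generalizing G with
  | _ n ih =>
    subst hn
    rcases subsingleton_or_nontrivial G with hs | hs
    · infer_instance
    obtain ⟨N, hN, hp⟩ := Supersolvable.exists_prime_normal hG
    have := Fact.mk hp
    have : IsCyclic N := isCyclic_of_prime_card rfl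
    have hq := ih _ (Supersolvable.card_quotient_lt N hp.one_lt) (G ⧸ N) (Supersolvable.quotient hG N) rfl
    let f : ↥(commutator G) →* G ⧸ N := (QuotientGroup.mk' N).comp (commutator G).subtype
    have hr : ∀ x, f x ∈ commutator (G ⧸ N) := fun x => by
      rw [← derivedSeries_one, ← map_derivedSeries_eq (QuotientGroup.mk'_surjective N) 1,
        derivedSeries_one]
      exact Subgroup.mem_map_of_mem _ x.2
    refine Subgroup.isNilpotent_of_ker_le_center (f.codRestrict _ hr) ?_
    intro x hx
    rw [Subgroup.mem_center_iff]
    intro g
    have hxN : (x : G) ∈ N := (QuotientGroup.eq_one_iff (x : G)).mp (congrArg Subtype.val hx)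
    let e := IsCyclic.mulAutMulEquiv N
    have h1 : (e.toMonoidHom.comp (MulAut.conjNormal : G →* MulAut N)) (g : G) = 1 :=
      Abelianization.commutator_subset_ker _ g.2
    have h2 : (MulAut.conjNormal (g : G) : MulAut N) = 1 := e.injective (by rw [map_one]; exact h1)
    have h3 := congrArg (fun φ : MulAut N => ((φ ⟨x, hxN⟩ : N) : G)) h2
    simp only [MulAut.conjNormal_apply, MulAut.one_apply] at h3
    exact Subtype.ext (mul_inv_eq_iff_eq_mul.mp h3)

/-- In a finite supersolvable group the commutator subgroup is nilpotent. -/
theorem result {G : Type*} [Group G] [Finite G] (hG : Cfsg.IsSupersolvable G) : Group.IsNilpotent (commutator G) := by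
  exact aux G hG

end Cfsg.Agent.S0526
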