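import Cfsg.Statements.S0527
import Cfsg.Agent.Lib.Supersolvable.Basic
import Mathlib.GroupTheory.Complement

set_option autoImplicit false
open Cfsg

namespace Cfsg.Agent.S0527

universe u

theorem aux (G : Type u) [Group G] [Finite G] (hG : Cfsg.IsSupersolvable G) (M : Subgroup G)
    (hM : IsCoatom M) : M.index.Prime := by
  induction hn : Nat.card G using Nat.strong_induction_on generalizing G with
  | _ n ih =>
    subst hn
    rcases subsingleton_or_nontrivial G with hs | hs
    · exact absurd (Subsingleton.elim M ⊤) hM.1
    obtain ⟨N, hN, hp⟩ := Supersolvable.exists_prime_normal hG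
    by_cases hle : N ≤ M
    · have hsurj := QuotientGroup.mk'_surjective N
      have hk : (QuotientGroup.mk' N).ker ≤ M := by rwa [QuotientGroup.ker_mk']
      have hc : IsCoatom (M.map (QuotientGroup.mk' N)) := by
        constructor
        · intro e
          apply hM.1
          rw [← Subgroup.comap_map_eq_self hk, e, Subgroup.comap_top]
        · intro K hK
          have h1 : M < K.comap (QuotientGroup.mk' N) := by
            rw [← Subgroup.comap_map_eq_self hk]
            exact (Subgroup.comap_lt_comap_of_surjective hsurj).mpr hK
          have := hM.2 _ h1
          rw [← Subgroup.map_comap_eq_self_of_surjective hsurj K, this,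
            Subgroup.map_top_of_surjective _ hsurj]
      have := ih _ (Supersolvable.card_quotient_lt N hp.one_lt) (G ⧸ N)
        (Supersolvable.quotient hG N) _ hc rfl
      rwa [Subgroup.index_map_eq M hsurj hk] at this
    · have htop : M ⊔ N = ⊤ := hM.2 _ (lt_of_le_of_ne le_sup_left fun e => hle (e ▸ le_sup_right))
      have hd : Disjoint M N := by
        rw [disjoint_iff]
        refine Subgroup.card_eq_one.mp ?_
        rcases (Nat.dvd_prime hp).mp (Subgroup.card_dvd_of_le (inf_le_right : M ⊓ N ≤ N)) with h | h
        · exact h
        · exact absurd (le_trans (Subgroup.eq_of_le_of_card_ge inf_le_right h.ge).ge inf_le_left) hle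
      have hc : Subgroup.IsComplement' M N :=
        Subgroup.isComplement'_of_disjoint_and_mul_eq_univ hd
          (by rw [← Subgroup.mul_normal, htop]; rfl)
      rw [hc.symm.index_eq_card]
      exact hp

/-- In a finite supersolvable group the index of any maximal subgroup is a prime number. -/
theorem result {G : Type*} [Group G] [Finite G] (hG : Cfsg.IsSupersolvable G) (M : Subgroup G) (hM : IsCoatom M) : M.index.Prime := by
  exact aux G hG M hM

end Cfsg.Agent.S0527
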