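import Cfsg.Statements.S4034
import Cfsg.Agent.Lib.PrimeParts.Basic
import Cfsg.Agent.Lib.CharInt.Burnside
import Cfsg.Agent.Lib.Components.Fitting
import Cfsg.Agent.Lib.PCore.Basic
import Cfsg.Agent.Lib.Solvable.Hall

set_option autoImplicit false
open Cfsg
open scoped Pointwise

namespace Cfsg.Agent.S4034


/-- Every `q`-element, `q ≠ p`, has a class of `p`-power size. -/
def ClassPow (G : Type*) [Group G] (p : ℕ) : Prop :=
  ∀ q b : ℕ, q.Prime → q ≠ p → ∀ y : G, orderOf y = q ^ b →
    ∃ k : ℕ, (Subgroup.centralizer ({y} : Set G)).index = p ^ k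

theorem classPow_quotient {G : Type*} [Group G] [Finite G] {p : ℕ} (hp : p.Prime)
    (h : ClassPow G p) (N : Subgroup G) [N.Normal] : ClassPow (G ⧸ N) p := by
  intro q b hq hqp y hy
  have hf := QuotientGroup.mk'_surjective N
  obtain ⟨x, c, rfl, hx⟩ := PrimeParts.exists_primePow_lift _ hf hq hy
  obtain ⟨k, hk⟩ := h q c hq hqp x hx
  obtain ⟨l, -, hl⟩ := (Nat.dvd_prime_pow hp).1 (hk ▸ PrimeParts.index_centralizer_map_dvd _ hf x)
  exact ⟨l, hl⟩

theorem classPow_normal {G : Type*} [Group G] [Finite G] {p : ℕ} (hp : p.Prime)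
    (h : ClassPow G p) (N : Subgroup G) [N.Normal] : ClassPow N p := by
  intro q b hq hqp y hy
  obtain ⟨k, hk⟩ := h q b hq hqp (y : G) (by rw [Subgroup.orderOf_coe, hy])
  have h1 : Subgroup.centralizer ({y} : Set N) =
      (Subgroup.centralizer ({(y : G)} : Set G)).subgroupOf N := by
    ext z
    simp only [Subgroup.mem_centralizer_singleton_iff, Subgroup.mem_subgroupOf]
    exact Subtype.ext_iff
  obtain ⟨l, -, hl⟩ := (Nat.dvd_prime_pow hp).1
    (hk ▸ PrimeParts.relIndex_dvd_index_of_normal' (Subgroup.centralizer ({(y : G)} : Set G)) N)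
  exact ⟨l, by rw [h1]; exact hl⟩

theorem isSolvable_of_classPow.{u} {p : ℕ} (hp : p.Prime) : ∀ (k : ℕ) (G : Type u) [Group G]
    [Finite G], Nat.card G = k → ClassPow G p → Group.IsSolvable G := by
  intro k
  induction k using Nat.strong_induction_on with
  | _ k ih =>
  intro G _ _ hk h
  rcases subsingleton_or_nontrivial G with hs | hs
  · infer_instance
  by_cases hsimple : IsSimpleGroup G
  · by_cases hG : IsPGroup p G
    · haveI := Fact.mk hp
      haveI := hG.isNilpotent
      infer_instance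
    · haveI := Fact.mk hp
      rw [IsPGroup.iff_card] at hG
      obtain ⟨q, hq, hqG, hqp⟩ : ∃ q : ℕ, q.Prime ∧ q ∣ Nat.card G ∧ q ≠ p := by
        by_contra hc
        push Not at hc
        exact hG ⟨_, Nat.eq_prime_pow_of_unique_prime_dvd Nat.card_pos.ne' fun hr hd => hc _ hr hd⟩
      haveI := Fact.mk hq
      obtain ⟨y, hy⟩ := exists_prime_orderOf_dvd_card' q hqG
      obtain ⟨j, hj⟩ := h q 1 hq hqp y (by rw [hy, pow_one])
      have hpr := CharInt.card_prime_of_class_prime_pow hp
        (fun h1 => hq.ne_one (by rw [← hy, h1, orderOf_one])) hj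
      haveI := Fact.mk hpr
      haveI : IsCyclic G := isCyclic_of_prime_card rfl
      exact Group.isSolvable_of_comm fun a b => (IsCyclic.isMulCommutative (α := G)).is_comm.comm a b
  · obtain ⟨N, hN, hN0, hN1⟩ : ∃ N : Subgroup G, N.Normal ∧ N ≠ ⊥ ∧ N ≠ ⊤ := by
      by_contra hc
      push Not at hc
      exact hsimple ⟨fun N hN => or_iff_not_imp_left.2 fun h0 => hc N hN h0⟩
    have h1 : Nat.card N < k := by
      rw [← hk]
      exact lt_of_le_of_ne (Subgroup.card_le_card_group N) fun he =>
        hN1 (Subgroup.eq_top_of_card_eq N he)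
    have h2 : Nat.card (G ⧸ N) < k := by
      rw [← hk, Subgroup.card_eq_card_quotient_mul_card_subgroup N]
      exact lt_mul_of_one_lt_right Nat.card_pos (N.one_lt_card_iff_ne_bot.2 hN0)
    haveI := ih _ h1 N rfl (classPow_normal hp h N)
    haveI := ih _ h2 (G ⧸ N) rfl (classPow_quotient hp h N)
    exact Group.isSolvable_of_ker_le_range N.subtype (QuotientGroup.mk' N)
      (by rw [QuotientGroup.ker_mk', Subgroup.range_subtype])

theorem comm_of_classPow.{u} {p : ℕ} (hp : p.Prime) : ∀ (k : ℕ) (G : Type u) [Group G]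
    [Finite G], Nat.card G = k → ClassPow G p → ∀ H : Subgroup G, ¬ p ∣ Nat.card H →
      ∀ a ∈ H, ∀ b ∈ H, a * b = b * a := by
  intro k
  induction k using Nat.strong_induction_on with
  | _ k ih =>
  intro G _ _ hk h H hH a ha b hb
  haveI := Fact.mk hp
  haveI := isSolvable_of_classPow hp _ G rfl h
  by_cases hO : pCore p G = ⊥
  · let F : Subgroup G := fittingSubgroup G
    haveI hFn : Group.IsNilpotent F := Components.fittingSubgroup_isNilpotent G
    haveI hFnorm : F.Normal := Components.fittingSubgroup_normal G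
    have hpF : ¬ p ∣ Nat.card F := by
      intro hd
      let P : Sylow p F := default
      haveI : (P : Subgroup F).Characteristic := P.characteristic_of_normal inferInstance
      have hle : (P : Subgroup F).map F.subtype ≤ pCore p G :=
        le_sSup ⟨ConjAct.normal_of_characteristic_of_normal, P.isPGroup'.map F.subtype⟩
      rw [hO, le_bot_iff, Subgroup.map_eq_bot_iff_of_injective _ F.subtype_injective] at hle
      exact P.ne_bot_of_dvd_card hd hle
    let S : Subgroup G := F ⊓ Subgroup.centralizer (F : Set G)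
    have hS : ∀ (q c : ℕ), q.Prime → q ≠ p → ∀ y : G, orderOf y = q ^ c → y ∈ S := by
      intro q c hq hqp y hy
      obtain ⟨j, hj⟩ := h q c hq hqp y hy
      let C : Subgroup G := Subgroup.centralizer ({y} : Set G)
      have h1 : C.relIndex F ∣ p ^ j := hj ▸ PrimeParts.relIndex_dvd_index_of_normal' C F
      have h2 : C.relIndex F ∣ Nat.card F := Subgroup.index_dvd_card _
      have h3 : F ≤ C := Subgroup.relIndex_eq_one.1
        (Nat.eq_one_of_dvd_coprimes ((hp.coprime_iff_not_dvd.2 hpF).pow_left j) h1 h2)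
      have h4 : y ∈ Subgroup.centralizer (F : Set G) :=
        Subgroup.mem_centralizer_iff.2 fun f hf => Subgroup.mem_centralizer_singleton_iff.1 (h3 hf)
      exact ⟨Components.centralizer_fittingSubgroup_le h4, h4⟩
    have hHS : ∀ x ∈ H, x ∈ S := by
      intro x hx
      by_contra hxS
      obtain ⟨q, c, y, hq, hqd, -, hy, hyS⟩ := PrimeParts.exists_part_not_mem hxS
      exact hyS (hS q c hq
        (fun he => hH (he ▸ hqd.trans (Subgroup.orderOf_dvd_natCard H hx))) y hy)
    exact (Subgroup.mem_centralizer_iff.1 (hHS b hb).2 a (hHS a ha).1)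
  · let O : Subgroup G := pCore p G
    have hlt : Nat.card (G ⧸ O) < k := by
      rw [← hk, Subgroup.card_eq_card_quotient_mul_card_subgroup O]
      exact lt_mul_of_one_lt_right Nat.card_pos (O.one_lt_card_iff_ne_bot.2 hO)
    let f := QuotientGroup.mk' O
    have hc := ih _ hlt (G ⧸ O) rfl (classPow_quotient hp h O) (H.map f)
      (fun hd => hH (hd.trans (Subgroup.card_map_dvd H f))) (f a) (Subgroup.mem_map_of_mem f ha)
      (f b) (Subgroup.mem_map_of_mem f hb)
    rw [← map_mul, ← map_mul] at hc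
    have hin : (a * b)⁻¹ * (b * a) ∈ O := QuotientGroup.eq.1 hc
    have hinH : (a * b)⁻¹ * (b * a) ∈ H :=
      H.mul_mem (H.inv_mem (H.mul_mem ha hb)) (H.mul_mem hb ha)
    obtain ⟨n, hn⟩ := (PCore.isPGroup_pCore (p := p) (G := G)).exists_card_eq
    have h1 : orderOf ((a * b)⁻¹ * (b * a)) = 1 :=
      Nat.eq_one_of_dvd_coprimes ((hp.coprime_iff_not_dvd.2 hH).pow_left n)
        (hn ▸ Subgroup.orderOf_dvd_natCard O hin) (Subgroup.orderOf_dvd_natCard H hinH)
    exact eq_of_inv_mul_eq_one (orderOf_eq_one_iff.1 h1)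

theorem classPow_of_mem_conj {G : Type*} [Group G] [Finite G] {p k : ℕ} (hp : p.Prime)
    {H : Subgroup G} (hab : IsMulCommutative H) (hk : H.index = p ^ k) (g : G) {x : G}
    (hx : x ∈ MulAut.conj g • H) :
    ∃ j : ℕ, (Subgroup.centralizer ({x} : Set G)).index = p ^ j := by
  have hle : MulAut.conj g • H ≤ Subgroup.centralizer ({x} : Set G) := by
    intro z hz
    rw [Subgroup.mem_pointwise_smul_iff_inv_smul_mem, ← map_inv, MulAut.smul_def,
      MulAut.conj_apply, inv_inv] at hx hz
    rw [Subgroup.mem_centralizer_singleton_iff]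
    have hc : (⟨_, hz⟩ : H) * ⟨_, hx⟩ = ⟨_, hx⟩ * ⟨_, hz⟩ := hab.is_comm.comm _ _
    have hc' := congrArg (fun w : H => g * (w : G) * g⁻¹) hc
    simpa [mul_assoc] using hc'
  have hd : (Subgroup.centralizer ({x} : Set G)).index ∣ p ^ k := by
    refine (Subgroup.index_dvd_of_le hle).trans ?_
    rw [← hk]
    exact dvd_of_eq (Subgroup.index_map_equiv H (MulAut.conj g))
  obtain ⟨j, -, hj⟩ := (Nat.dvd_prime_pow hp).1 hd
  exact ⟨j, hj⟩

theorem classPow_of_complement {G : Type*} [Group G] [Finite G] {p k : ℕ} (hp : p.Prime)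
    {H : Subgroup G} (hab : IsMulCommutative H) (hk : H.index = p ^ k) : ClassPow G p := by
  intro q b hq hqp y hy
  haveI := Fact.mk hq
  let Q : Sylow q H := default
  have hidx : ¬ q ∣ ((Q : Subgroup H).map H.subtype).index := by
    rw [Subgroup.index_map_subtype, hk]
    intro hd
    rcases hq.dvd_mul.1 hd with h | h
    · exact Q.not_dvd_index h
    · exact hqp ((Nat.prime_dvd_prime_iff_eq hq hp).1 (hq.dvd_of_dvd_pow h))
  let R : Sylow q G := (Q.isPGroup'.map H.subtype).toSylow hidx
  obtain ⟨R', hR'⟩ := (IsPGroup.of_card (G := Subgroup.zpowers y) (p := q) (n := b)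
    (by rw [Nat.card_zpowers, hy])).exists_le_sylow
  obtain ⟨g, hg⟩ := MulAction.exists_smul_eq G R R'
  refine classPow_of_mem_conj hp hab hk g ?_
  have hy' : y ∈ MulAut.conj g • (R : Subgroup G) := by
    rw [← hg] at hR'
    exact hR' (Subgroup.mem_zpowers y)
  exact Subgroup.pointwise_smul_le_pointwise_smul_iff.2
    (Subgroup.map_subtype_le (Q : Subgroup H)) hy'

/-- Let G be a finite group and p a prime. Every conjugacy class of p-regular elements of G (elements of order prime to p) has p-power size if and only if G has an abelian p-complement, i.e. an abelian subgroup of order prime to p and p-power index. -/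
theorem result {G : Type*} [Group G] [Finite G] {p : ℕ} (hp : p.Prime) :
    (∀ x : G, (orderOf x).Coprime p → ∃ k : ℕ, (ConjClasses.mk x).carrier.ncard = p ^ k) ↔
    (∃ H : Subgroup G, IsMulCommutative H ∧ ¬ p ∣ Nat.card H ∧ ∃ k : ℕ, H.index = p ^ k) := by
  constructor
  · intro h
    have hA : ClassPow G p := by
      intro q b hq hqp y hy
      obtain ⟨k, hk⟩ := h y (by
        rw [hy]; exact ((Nat.coprime_primes hq hp).2 hqp).pow_left b)
      exact ⟨k, by rw [← PrimeParts.ncard_carrier, hk]⟩
    haveI := isSolvable_of_classPow hp _ G rfl hA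
    obtain ⟨H, hH, hHp⟩ := Solvable.exists_pComplement (G := G) hp
    exact ⟨H, ⟨⟨fun a b => Subtype.ext (comm_of_classPow hp _ G rfl hA H hHp a a.2 b b.2)⟩⟩,
      hHp, _, hH⟩
  · rintro ⟨H, hab, hHp, k, hk⟩ x hx
    rw [PrimeParts.ncard_carrier]
    haveI := isSolvable_of_classPow hp _ G rfl (classPow_of_complement hp hab hk)
    have hG : Nat.card G = Nat.card H * p ^ k := by rw [← hk, H.card_mul_index]
    obtain ⟨g, hg⟩ := Solvable.exists_le_conj_hall hG ((hp.coprime_iff_not_dvd.2 hHp).symm.pow_right k)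
      (H := H) rfl (K := Subgroup.zpowers x) (by rw [Nat.card_zpowers]; exact hx.pow_right k)
    exact classPow_of_mem_conj hp hab hk g (hg (Subgroup.mem_zpowers x))

end Cfsg.Agent.S4034
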