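import Cfsg.Statements.S4134
import Cfsg.Agent.Lib.ClassSize.OneSize

set_option autoImplicit false
set_option linter.style.haveILetI false
open Cfsg

namespace Cfsg.Agent.S4134

/-- Let G be a finite group whose conjugacy classes have exactly two sizes, 1 and n > 1. Then n is a power of a prime p and G is the direct product of a p-group and an abelian group of order prime to p: its Sylow p-subgroup P is normal with an abelian normal complement centralizing it; moreover P has an abelian normal subgroup A with P/A of exponent dividing p. -/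
theorem result {G : Type*} [Group G] [Finite G] (n : ℕ) (hn : 1 < n)
    (h : ∀ x : G, (Subgroup.centralizer ({x} : Set G)).index = 1 ∨ (Subgroup.centralizer ({x} : Set G)).index = n) (hex : ∃ x : G, (Subgroup.centralizer ({x} : Set G)).index = n) :
    ∃ (p : ℕ) (_ : Fact p.Prime) (a : ℕ), n = p ^ a ∧ ∀ P : Sylow p G, (P : Subgroup G).Normal ∧
      (∃ N : Subgroup G, N.Normal ∧ N.IsComplement' (P : Subgroup G) ∧ IsMulCommutative N ∧
        ∀ x ∈ N, ∀ y ∈ (P : Subgroup G), x * y = y * x) ∧
      ∃ A : Subgroup (P : Subgroup G), A.Normal ∧ IsMulCommutative A ∧ ∀ y : (P : Subgroup G), y ^ p ∈ A := by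
  classical
  obtain ⟨x₀, hx₀⟩ := hex
  have h' : ∀ x : G, Cfsg.Agent.ClassSize.CoprimeTop.cl x = 1 ∨
      Cfsg.Agent.ClassSize.CoprimeTop.cl x = n := h
  have hx₀Z : x₀ ∉ Subgroup.center G := fun hZ => by
    have h1 := ClassSize.CoprimeTop.cl_eq_one.2 hZ
    rw [ClassSize.CoprimeTop.cl, ClassSize.CoprimeTop.cent, hx₀] at h1
    omega
  set p := n.minFac
  have hp : p.Prime := Nat.minFac_prime (by omega)
  haveI := Fact.mk hp
  have huniq : ∀ {d : ℕ}, d.Prime → d ∣ n → d = p := by
    intro d hd hdn
    by_contra hne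
    haveI := Fact.mk hd
    exact ClassSize.OneSize.not_two_primes h' hn hdn (q := p) (Nat.minFac_dvd n) hne hx₀Z
  refine ⟨p, ⟨hp⟩, _, Nat.eq_prime_pow_of_unique_prime_dvd (by omega) huniq, fun P => ?_⟩
  have hq : ∀ (q : ℕ) (d : G) (b : ℕ), q.Prime → q ≠ p → orderOf d = q ^ b →
      d ∈ Subgroup.center G := fun q d b hq hne hd =>
    haveI := Fact.mk hq
    ClassSize.OneSize.mem_center_of_not_dvd h' (fun hd' => hne (huniq hq hd')) hd
  have hGZ : IsPGroup p (G ⧸ Subgroup.center G) := by
    intro u
    obtain ⟨g, rfl⟩ := QuotientGroup.mk_surjective u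
    obtain ⟨a, b, -, -, hab, hcomm, -, hpa, hpb⟩ := ClassSize.CoprimeTop.exists_split p g
    obtain ⟨k, hk⟩ : ∃ k, orderOf a = p ^ k :=
      ⟨_, Nat.eq_prime_pow_of_unique_prime_dvd (orderOf_pos a).ne' fun {d} hd hda =>
        (Nat.prime_dvd_prime_iff_eq hd hp).1 (hpa d hd hda)⟩
    refine ⟨k, ?_⟩
    rw [← QuotientGroup.mk_pow, QuotientGroup.eq_one_iff, hab,
      (show Commute a b from hcomm).mul_pow, ← hk, pow_orderOf_eq_one, one_mul]
    refine pow_mem ?_ _
    by_contra hbZ
    obtain ⟨y, hy, hyZ, r, e, hr, hye⟩ := ClassSize.OneSize.exists_primePow h' b hbZ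
    refine hyZ (hq r y e hr (fun hrp => ?_) hye)
    rcases e with _ | e
    · rw [pow_zero, orderOf_eq_one_iff] at hye
      exact hyZ (hye ▸ one_mem _)
    · have h1 : r ∣ orderOf b :=
        ((dvd_pow_self r (Nat.succ_ne_zero e)).trans hye.symm.dvd).trans
          (orderOf_dvd_of_mem_zpowers hy)
      exact hp.coprime_iff_not_dvd.1 hpb.symm (hrp ▸ h1)
  haveI : Group.IsNilpotent (G ⧸ Subgroup.center G) := hGZ.isNilpotent
  haveI : Group.IsNilpotent G := Group.of_quotient_center_nilpotent inferInstance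
  haveI hPn : (P : Subgroup G).Normal := P.normal_of_normalizerCondition normalizerCondition_of_isNilpotent
  refine ⟨hPn, ?_, ?_⟩
  · obtain ⟨N, hN⟩ := Subgroup.exists_left_complement'_of_coprime P.card_coprime_index
    have hNZ : N ≤ Subgroup.center G := by
      intro v hv
      rw [← QuotientGroup.eq_one_iff, ← orderOf_eq_one_iff]
      obtain ⟨k, hk⟩ := hGZ.exists_orderOf_eq_pow (v : G ⧸ Subgroup.center G)
      refine Nat.eq_one_of_dvd_coprimes (P.card_coprime_index.pow_left 1) ?_ ?_
      · rw [pow_one, hk]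
        have := orderOf_map_dvd (QuotientGroup.mk' (Subgroup.center G)) v
        rw [QuotientGroup.mk'_apply, hk] at this
        rcases k with _ | k
        · simp
        · exfalso
          have h1 : p ∣ Nat.card N := ((dvd_pow_self p (Nat.succ_ne_zero k)).trans this).trans
            (Subgroup.orderOf_dvd_natCard N hv)
          exact P.not_dvd_index (hN.index_eq_card ▸ h1)
      · rw [hN.index_eq_card]
        exact (orderOf_map_dvd (QuotientGroup.mk' (Subgroup.center G)) v).trans
          (Subgroup.orderOf_dvd_natCard N hv)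
    have hcomm : ∀ v ∈ N, ∀ y : G, v * y = y * v := fun v hv y =>
      (Subgroup.mem_center_iff.1 (hNZ hv) y).symm
    refine ⟨N, ⟨fun v hv g => ?_⟩, hN, ⟨⟨fun u v => Subtype.ext (hcomm u u.2 v)⟩⟩,
      fun v hv y _ => hcomm v hv y⟩
    rw [← hcomm v hv g, mul_inv_cancel_right]
    exact hv
  · refine ClassSize.OneSize.exists_abelian_exponent P.2 fun x y hxy hyZ => ?_
    have hyG : (y : G) ∉ Subgroup.center G := fun hc => hyZ (Subgroup.mem_center_iff.2
      fun g => Subtype.ext (Subgroup.mem_center_iff.1 hc g))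
    -- centralisers in `G` are generated by those in `P` and the centre
    have hlift : ClassSize.CoprimeTop.cent (x : G) ≤ ClassSize.CoprimeTop.cent (y : G) := by
      intro v hv
      obtain ⟨a, b, ha, -, hab, -, -, hpa, hpb⟩ := ClassSize.CoprimeTop.exists_split p v
      have haP : a ∈ (P : Subgroup G) := by
        obtain ⟨k, hk⟩ : ∃ k, orderOf a = p ^ k :=
          ⟨_, Nat.eq_prime_pow_of_unique_prime_dvd (orderOf_pos a).ne' fun {d} hd hda =>
            (Nat.prime_dvd_prime_iff_eq hd hp).1 (hpa d hd hda)⟩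
        obtain ⟨R, hR⟩ := (IsPGroup.of_card (n := k) (by rw [Nat.card_zpowers, hk]) :
          IsPGroup p (Subgroup.zpowers a)).exists_le_sylow
        haveI := Sylow.unique_of_normal P hPn
        rw [Subsingleton.elim P R]
        exact hR (Subgroup.mem_zpowers a)
      have hbZ : b ∈ Subgroup.center G := by
        by_contra hbZ
        obtain ⟨w, hw, hwZ, r, e, hr, hwe⟩ := ClassSize.OneSize.exists_primePow h' b hbZ
        refine hwZ (hq r w e hr (fun hrp => ?_) hwe)
        rcases e with _ | e
        · rw [pow_zero, orderOf_eq_one_iff] at hwe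
          exact hwZ (hwe ▸ one_mem _)
        · have h1 : r ∣ orderOf b :=
            ((dvd_pow_self r (Nat.succ_ne_zero e)).trans hwe.symm.dvd).trans
              (orderOf_dvd_of_mem_zpowers hw)
          exact hp.coprime_iff_not_dvd.1 hpb.symm (hrp ▸ h1)
      rw [hab]
      refine mul_mem ?_ (ClassSize.CoprimeTop.center_le_cent _ hbZ)
      have hax : a ∈ ClassSize.CoprimeTop.cent (x : G) := Subgroup.zpowers_le.2 hv ha
      have := hxy (show (⟨a, haP⟩ : P) ∈ ClassSize.CoprimeTop.cent x from
        ClassSize.CoprimeTop.mem_cent.2 (Subtype.ext (ClassSize.CoprimeTop.mem_cent.1 hax)))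
      exact ClassSize.CoprimeTop.mem_cent.2
        (congrArg Subtype.val (ClassSize.CoprimeTop.mem_cent.1 this))
    have heq := ClassSize.OneSize.cent_eq h' hlift hyG
    intro v hv
    have hv' : (v : G) ∈ ClassSize.CoprimeTop.cent (y : G) :=
      ClassSize.CoprimeTop.mem_cent.2 (congrArg Subtype.val (ClassSize.CoprimeTop.mem_cent.1 hv))
    rw [← heq] at hv'
    exact ClassSize.CoprimeTop.mem_cent.2 (Subtype.ext (ClassSize.CoprimeTop.mem_cent.1 hv'))

end Cfsg.Agent.S4134
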