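import Cfsg.Statements.S3975
import Mathlib

set_option autoImplicit false
open Cfsg

namespace Cfsg.Agent.S3975

theorem choose_pred_modEq {p : ℕ} [Fact p.Prime] (β m : ℕ) (hm : 0 < m) :
    (p ^ β * m - 1).choose (p ^ β - 1) ≡ 1 [MOD p] := by
  have hp : p.Prime := Fact.out
  induction β with
  | zero => simp [Nat.ModEq.refl]
  | succ β ih =>
    have hq : 0 < p ^ β * m := Nat.mul_pos (pow_pos hp.pos β) hm
    have key : ∀ a, 0 < a → (p * a - 1) % p = p - 1 ∧ (p * a - 1) / p = a - 1 := by
      intro a ha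
      obtain ⟨b, rfl⟩ := Nat.exists_eq_succ_of_ne_zero ha.ne'
      have he : p * (b + 1) - 1 = (p - 1) + p * b := by
        have := hp.pos
        rw [Nat.mul_succ]
        omega
      rw [he, Nat.add_mul_mod_self_left, Nat.mod_eq_of_lt (Nat.sub_lt hp.pos one_pos),
        Nat.add_mul_div_left _ _ hp.pos, Nat.div_eq_of_lt (Nat.sub_lt hp.pos one_pos)]
      exact ⟨rfl, by omega⟩
    obtain ⟨h1, h2⟩ := key _ hq
    obtain ⟨h3, h4⟩ := key _ (pow_pos hp.pos β)
    have h := Choose.choose_modEq_choose_mod_mul_choose_div_nat (p := p)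
      (n := p * (p ^ β * m) - 1) (k := p * p ^ β - 1)
    rw [h1, h2, h3, h4, Nat.choose_self, one_mul] at h
    rw [show p ^ (β + 1) * m = p * (p ^ β * m) by ring, show p ^ (β + 1) = p * p ^ β by ring]
    exact h.trans ih

section Count

variable {G : Type*} [Group G]

/-- Right translation on subsets of a fixed size. -/
instance powAction (k : ℕ) : MulAction G {S : Finset G // S.card = k} where
  smul x S := ⟨S.1.map ⟨fun y => y * x⁻¹, mul_left_injective _⟩, (Finset.card_map _).trans S.2⟩
  one_smul S := Subtype.ext (by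
    show S.1.map _ = S.1
    ext y
    simp)
  mul_smul x z S := Subtype.ext (by
    show S.1.map _ = (S.1.map _).map _
    rw [Finset.map_map]
    congr 1
    ext y
    simp [mul_assoc])

theorem mem_smul_iff {k : ℕ} (x y : G) (S : {S : Finset G // S.card = k}) :
    y ∈ (x • S).1 ↔ y * x ∈ S.1 := by
  show y ∈ S.1.map _ ↔ _
  rw [Finset.mem_map]
  constructor
  · rintro ⟨z, hz, rfl⟩
    simpa using hz
  · intro h
    exact ⟨y * x, h, by simp⟩

theorem eq_preimage_image {k : ℕ} (S : {S : Finset G // S.card = k}) :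
    (S.1 : Set G) = QuotientGroup.mk ⁻¹'
      ((QuotientGroup.mk : G → G ⧸ MulAction.stabilizer G S) '' (S.1 : Set G)) := by
  refine (Set.subset_preimage_image _ _).antisymm ?_
  rintro y ⟨s, hs, hsy⟩
  have hx : s⁻¹ * y ∈ MulAction.stabilizer G S := QuotientGroup.eq.mp hsy
  have := (mem_smul_iff (s⁻¹ * y)⁻¹ y S).mpr (by simpa [mul_assoc] using hs)
  rw [show (s⁻¹ * y)⁻¹ • S = S from MulAction.mem_stabilizer_iff.mp (inv_mem hx)] at this
  exact this

variable [Finite G]

theorem card_eq_mul_image {k : ℕ} (S : {S : Finset G // S.card = k}) :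
    k = Nat.card ↥(MulAction.stabilizer G S) *
      Nat.card ((QuotientGroup.mk : G → G ⧸ MulAction.stabilizer G S) '' (S.1 : Set G)) := by
  rw [← Nat.card_prod, ← Nat.card_congr (QuotientGroup.preimageMkEquivSubgroupProdSet _ _),
    ← eq_preimage_image S]
  simp [S.2]

/-- The subsets with stabilizer of full size are the cosets of the subgroups of that order. -/
theorem card_full {k : ℕ} (hk : 0 < k) :
    Nat.card {S : {S : Finset G // S.card = k} // Nat.card ↥(MulAction.stabilizer G S) = k} =
      Nat.card (Σ H : {H : Subgroup G // Nat.card H = k}, G ⧸ H.1) := by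
  classical
  have := Fintype.ofFinite G
  have hone : ∀ (H : {H : Subgroup G // Nat.card H = k}) (c : G ⧸ H.1),
      (QuotientGroup.mk ⁻¹' ({c} : Set (G ⧸ H.1)) : Set G).toFinset.card = k := by
    intro H c
    rw [← Nat.card_eq_card_toFinset, Nat.card_congr (QuotientGroup.preimageMkEquivSubgroupProdSet _ _),
      Nat.card_prod, H.2]
    simp
  let f : (Σ H : {H : Subgroup G // Nat.card H = k}, G ⧸ H.1) → {S : Finset G // S.card = k} :=
    fun z => ⟨_, hone z.1 z.2⟩
  have hmem : ∀ z y, y ∈ (f z).1 ↔ (QuotientGroup.mk y : G ⧸ z.1.1) = z.2 := fun z y => by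
    simp [f]
  have hst : ∀ z, MulAction.stabilizer G (f z) = z.1.1 := by
    intro z
    obtain ⟨y, hy⟩ := QuotientGroup.mk_surjective z.2
    ext x
    rw [MulAction.mem_stabilizer_iff]
    constructor
    · intro hx
      have h1 : y ∈ (x • f z).1 := by rw [hx, hmem, hy]
      rw [mem_smul_iff, hmem, ← hy, QuotientGroup.eq] at h1
      simpa using h1
    · intro hx
      refine Subtype.ext (Finset.ext fun w => ?_)
      rw [mem_smul_iff, hmem, hmem]
      rw [show (QuotientGroup.mk (w * x) : G ⧸ z.1.1) = QuotientGroup.mk w from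
        QuotientGroup.mk_mul_of_mem w hx]
  refine (Nat.card_congr (Equiv.ofBijective
    (fun z => (⟨f z, by rw [hst z]; exact z.1.2⟩ :
      {S : {S : Finset G // S.card = k} // Nat.card ↥(MulAction.stabilizer G S) = k})) ⟨?_, ?_⟩)).symm
  · rintro ⟨H, c⟩ ⟨H', c'⟩ h
    have h' : f ⟨H, c⟩ = f ⟨H', c'⟩ := congrArg Subtype.val h
    have hH : H = H' := Subtype.ext (by
      have h1 := hst ⟨H, c⟩
      rw [h', hst] at h1
      exact h1.symm)
    subst hH
    obtain ⟨y, rfl⟩ := QuotientGroup.mk_surjective c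
    have h1 := (hmem ⟨H, QuotientGroup.mk y⟩ y).mpr rfl
    rw [h', hmem] at h1
    rw [h1]
  · rintro ⟨S, hS⟩
    obtain ⟨s, hs⟩ : S.1.Nonempty := Finset.card_pos.mp (by rw [S.2]; exact hk)
    refine ⟨⟨⟨_, hS⟩, QuotientGroup.mk s⟩, Subtype.ext (Subtype.ext (Finset.ext fun y => ?_))⟩
    have himg : (QuotientGroup.mk : G → G ⧸ MulAction.stabilizer G S) '' (S.1 : Set G) =
        {QuotientGroup.mk s} := by
      have h1 := card_eq_mul_image S
      rw [hS] at h1
      have h2 : Nat.card ((QuotientGroup.mk : G → G ⧸ MulAction.stabilizer G S) '' (S.1 : Set G)) = 1 :=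
        (mul_eq_left₀ hk.ne').mp h1.symm
      rw [Nat.card_coe_set_eq, Set.ncard_eq_one] at h2
      obtain ⟨c, hc⟩ := h2
      have h3 : (QuotientGroup.mk s : G ⧸ MulAction.stabilizer G S) = c :=
        Set.mem_singleton_iff.mp (hc ▸ Set.mem_image_of_mem _ (Finset.mem_coe.mpr hs))
      rw [hc, h3]
    show y ∈ (f _).1 ↔ _
    rw [hmem, ← Finset.mem_coe (s := S.1), eq_preimage_image S, himg]
    rfl

end Count

/-- Let `p` be a prime and `G` a finite group whose order is divisible by `p ^ β`. Then the number of subgroups of `G` of order `p ^ β` is congruent to `1` modulo `p`. (When `p ^ β` is the full power of `p` dividing the order, these are the Sylow `p`-subgroups and this is the usual Sylow count.) -/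
theorem result {G : Type*} [Group G] [Finite G] (p β : ℕ) (hp : p.Prime) (hdiv : p ^ β ∣ Nat.card G) : Nat.card {H : Subgroup G // Nat.card H = p ^ β} ≡ 1 [MOD p] := by
  classical
  have := Fact.mk hp
  have := Fintype.ofFinite G
  obtain ⟨m, hm⟩ := hdiv
  set k := p ^ β with hkdef
  have hk : 0 < k := pow_pos hp.pos β
  have hm0 : 0 < m := Nat.pos_of_ne_zero fun h => Nat.card_pos.ne' (by rw [hm, h, mul_zero])
  -- the subsets with smaller stabilizer
  let bad : SubMulAction G {S : Finset G // S.card = k} :=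
    { carrier := {S | Nat.card ↥(MulAction.stabilizer G S) ≠ k}
      smul_mem' := fun x S hS => by
        rw [Set.mem_ofPred_eq, MulAction.stabilizer_smul_eq_stabilizer_map_conj,
          Subgroup.card_map_of_injective (MulEquiv.injective _)]
        exact hS }
  have hbad : p * m ∣ Nat.card ↥bad := by
    rw [Nat.card_congr (MulAction.selfEquivSigmaOrbits G ↥bad), Nat.card_sigma]
    refine Finset.dvd_sum fun ω _ => ?_
    rw [Nat.card_congr (MulAction.orbitEquivQuotientStabilizer G ω.out), SubMulAction.stabilizer_of_subMul]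
    set T := MulAction.stabilizer G (ω.out : {S : Finset G // S.card = k}) with hT
    have hTk : Nat.card ↥T ∣ p ^ β :=
      Dvd.intro _ (card_eq_mul_image (ω.out : {S : Finset G // S.card = k})).symm
    obtain ⟨j, hj, hjT⟩ := (Nat.dvd_prime_pow hp).mp hTk
    have hne : Nat.card ↥T ≠ k := (ω.out).2
    have hjlt : j < β := lt_of_le_of_ne hj fun h => hne (by rw [hjT, h])
    have h1 : T.index * p ^ j = p ^ j * (p ^ (β - j) * m) := by
      rw [← hjT, Subgroup.index_mul_card, hm, hkdef, ← mul_assoc, hjT, ← pow_add,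
        Nat.add_sub_cancel' hj]
    have h2 : T.index = p ^ (β - j) * m := by
      rw [mul_comm] at h1
      exact Nat.eq_of_mul_eq_mul_left (pow_pos hp.pos j) h1
    rw [← Subgroup.index_eq_card, h2]
    exact Nat.mul_dvd_mul_right (dvd_pow_self p (by omega)) m
  have hN : Nat.card (Σ H : {H : Subgroup G // Nat.card H = k}, G ⧸ H.1) =
      Nat.card {H : Subgroup G // Nat.card H = k} * m := by
    rw [Nat.card_sigma, Finset.sum_const_nat (m := m), Finset.card_univ, ← Nat.card_eq_fintype_card]
    intro H _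
    have h1 := Subgroup.card_mul_index H.1
    rw [H.2, hm] at h1
    rw [← Subgroup.index_eq_card]
    exact Nat.eq_of_mul_eq_mul_left hk h1
  have htot : Nat.card {S : Finset G // S.card = k} =
      Nat.card {H : Subgroup G // Nat.card H = k} * m + Nat.card ↥bad := by
    rw [← hN, ← card_full hk, ← Nat.card_sum]
    exact Nat.card_congr (Equiv.sumCompl fun S : {S : Finset G // S.card = k} =>
      Nat.card ↥(MulAction.stabilizer G S) = k).symm
  have hchoose : Nat.card {S : Finset G // S.card = k} = m * (k * m - 1).choose (k - 1) := by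
    rw [Nat.card_eq_fintype_card, Fintype.card_finset_len, ← Nat.card_eq_fintype_card, hm]
    have h1 := Nat.add_one_mul_choose_eq (k * m - 1) (k - 1)
    rw [Nat.sub_add_cancel (Nat.mul_pos hk hm0), Nat.sub_add_cancel hk] at h1
    refine Nat.eq_of_mul_eq_mul_left hk ?_
    rw [mul_comm k ((k * m).choose k), ← h1, mul_assoc]
  have h3 : Nat.card {H : Subgroup G // Nat.card H = k} * m ≡ (k * m - 1).choose (k - 1) * m [MOD p * m] := by
    rw [mul_comm ((k * m - 1).choose (k - 1)) m, ← hchoose, htot]
    have h4 := Nat.ModEq.add (Nat.ModEq.refl (Nat.card {H : Subgroup G // Nat.card H = k} * m) (n := p * m))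
      (Nat.modEq_zero_iff_dvd.mpr hbad)
    rw [add_zero] at h4
    exact h4.symm
  exact (Nat.ModEq.mul_right_cancel' hm0.ne' h3).trans (choose_pred_modEq β m hm0)

end Cfsg.Agent.S3975
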