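import Cfsg.Statements.S1545
import Cfsg.Agent.Lib.Coprime.LiftModPow
import Cfsg.Agent.Lib.Coprime.Action

set_option autoImplicit false
open Cfsg
open Matrix

namespace Cfsg.Agent.S1545

open Cfsg.Agent.Coprime (fixedBy redMat)

universe u

/-- A class-sum identity on a Frobenius group. -/
theorem sum_identity {A : Type*} [Group A] [Fintype A] (U E : Subgroup A) [Fintype U] [Fintype E]
    (hUn : ∀ a : A, ∀ u ∈ U, a * u * a⁻¹ ∈ U) (hgen : U ⊔ E = ⊤) (hUE : U ⊓ E = ⊥)
    (hfpf : ∀ e ∈ E, e ≠ 1 → ∀ u ∈ U, e * u = u * e → u = 1) {R : Type*} [CommRing R] (f : A → R)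
    (hf : ∀ a b, f (a * b * a⁻¹) = f b) :
    ∑ a, f a + (Fintype.card U : R) * f 1 = (Fintype.card U : R) * ∑ e : E, f e + ∑ u : U, f u := by
  classical
  haveI hN : U.Normal := ⟨fun u hu a => hUn a u hu⟩
  let Es : Finset E := Finset.univ.erase 1
  let g : U × E → A := fun q => (q.1 : A) * q.2 * (q.1 : A)⁻¹
  have hprod : ∀ a : A, ∃ u ∈ U, ∃ e ∈ E, u * e = a := fun a => by
    have : a ∈ (↑(U ⊔ E) : Set A) := by rw [hgen]; trivial
    rw [Subgroup.normal_mul] at this
    exact this
  have hinf : ∀ x, x ∈ U → x ∈ E → x = 1 := fun x h1 h2 => by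
    have : x ∈ U ⊓ E := ⟨h1, h2⟩
    rwa [hUE, Subgroup.mem_bot] at this
  have key : ∀ (x y : U) (e e' : E), (x : A) * e * (x : A)⁻¹ = (y : A) * e' * (y : A)⁻¹ → e = e' := by
    intro x y e e' h
    have h1 : ((e : A) * (e' : A)⁻¹) ∈ U := by
      have : (e : A) * (e' : A)⁻¹ = ((x : A)⁻¹ * y) * ((e' : A) * ((y : A)⁻¹ * x) * (e' : A)⁻¹) := by
        calc (e : A) * (e' : A)⁻¹ = (x : A)⁻¹ * ((x : A) * e * (x : A)⁻¹) * x * (e' : A)⁻¹ := by group
          _ = _ := by rw [h]; group
      rw [this]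
      exact mul_mem (mul_mem (inv_mem x.2) y.2) (hUn _ _ (mul_mem (inv_mem y.2) x.2))
    have := hinf _ h1 (mul_mem e.2 (inv_mem e'.2))
    exact Subtype.ext (mul_inv_eq_one.1 this)
  have hinj : Set.InjOn g ↑((Finset.univ : Finset U) ×ˢ Es) := by
    rintro ⟨x, e⟩ hxe ⟨y, e'⟩ _ h
    obtain rfl := key x y e e' h
    simp only [Es, Finset.coe_product, Set.mem_prod, Finset.mem_coe, Finset.mem_erase] at hxe
    have : (y : A)⁻¹ * x = 1 := by
      refine hfpf e e.2 (fun h1 => hxe.2.1 (Subtype.ext h1)) _ (mul_mem (inv_mem y.2) x.2) ?_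
      simp only [g] at h
      calc (e : A) * ((y : A)⁻¹ * x) = (y : A)⁻¹ * ((y : A) * e * (y : A)⁻¹) * x := by group
        _ = (y : A)⁻¹ * ((x : A) * e * (x : A)⁻¹) * x := by rw [h]
        _ = _ := by group
    rw [inv_mul_eq_one] at this
    exact Prod.ext (Subtype.ext this.symm) rfl
  set T := ((Finset.univ : Finset U) ×ˢ Es).image g with hT
  set V := Finset.univ.filter (fun a : A => a ∈ U) with hV
  have hdis : Disjoint V T := by
    rw [Finset.disjoint_left]
    intro a ha hb
    obtain ⟨⟨x, e⟩, hxe, rfl⟩ := Finset.mem_image.1 hb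
    have he : (e : A) ∈ U := by
      have h := hUn (x : A)⁻¹ _ (Finset.mem_filter.1 ha).2
      simpa [g, mul_assoc] using h
    exact (Finset.mem_erase.1 (Finset.mem_product.1 hxe).2).1 (Subtype.ext (hinf _ he e.2))
  have hcardA : Fintype.card A = Fintype.card U * Fintype.card E := by
    rw [← Fintype.card_prod]
    refine (Fintype.card_of_bijective (f := fun q : U × E => (q.1 : A) * q.2) ⟨?_, fun a => ?_⟩).symm
    · rintro ⟨x, e⟩ ⟨y, e'⟩ h
      have h' : (y : A)⁻¹ * x = e' * (e : A)⁻¹ := by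
        simp only at h
        rw [eq_mul_inv_iff_mul_eq, mul_assoc, h, inv_mul_cancel_left]
      have h1 := hinf _ (mul_mem (inv_mem y.2) x.2) (h' ▸ mul_mem e'.2 (inv_mem e.2))
      rw [inv_mul_eq_one] at h1
      obtain rfl : y = x := Subtype.ext h1
      obtain rfl : e = e' := Subtype.ext (mul_left_cancel h)
      rfl
    · obtain ⟨u, hu, e, he, rfl⟩ := hprod a
      exact ⟨(⟨u, hu⟩, ⟨e, he⟩), rfl⟩
  have hVcard : V.card = Fintype.card U := by rw [hV, Fintype.card_subtype]
  have huniv : V ∪ T = Finset.univ := by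
    apply Finset.eq_univ_of_card
    rw [Finset.card_union_of_disjoint hdis, hVcard, hT, Finset.card_image_of_injOn hinj,
      Finset.card_product, Finset.card_univ, Finset.card_erase_of_mem (Finset.mem_univ _),
      Finset.card_univ, hcardA]
    have : 1 ≤ Fintype.card E := Fintype.card_pos
    rw [Nat.mul_sub, mul_one]
    have : Fintype.card U ≤ Fintype.card U * Fintype.card E := Nat.le_mul_of_pos_right _ Fintype.card_pos
    omega
  have hVsum : ∑ a ∈ V, f a = ∑ u : U, f u := Finset.sum_subtype _ (fun x => by simp [hV]) f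
  have hTsum : ∑ a ∈ T, f a = (Fintype.card U : R) * ∑ e ∈ Es, f (e : A) := by
    rw [hT, Finset.sum_image hinj, Finset.sum_product]
    simp only [g, hf, Finset.sum_const, Finset.card_univ, nsmul_eq_mul]
  rw [← huniv, Finset.sum_union hdis, hVsum, hTsum,
    ← Finset.sum_erase_add (Finset.univ : Finset E) _ (Finset.mem_univ 1), Subgroup.coe_one]
  simp only [Es]
  ring

/-- The fixed points of a subgroup. -/
def fix {A H : Type*} [Group A] [Group H] (φ : A →* MulAut H) (S : Subgroup A) : Subgroup H :=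
  fixedBy (φ.comp S.subtype)

theorem mem_fix {A H : Type*} [Group A] [Group H] {φ : A →* MulAut H} {S : Subgroup A} {h : H} :
    h ∈ fix φ S ↔ ∀ s ∈ S, φ s h = h :=
  ⟨fun H' s hs => H' ⟨s, hs⟩, fun H' s => H' s s.2⟩

/-- The elementary abelian case. -/
theorem base_case {A : Type*} [Group A] [Finite A] (U E : Subgroup A)
    (hUn : ∀ a : A, ∀ u ∈ U, a * u * a⁻¹ ∈ U) (hgen : U ⊔ E = ⊤) (hUE : U ⊓ E = ⊥)
    (hfpf : ∀ e ∈ E, e ≠ 1 → ∀ u ∈ U, e * u = u * e → u = 1) {H : Type*} [CommGroup H] [Finite H]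
    (φ : A →* MulAut H) (p : ℕ) [Fact p.Prime] (hexp : ∀ x : H, x ^ p = 1)
    (hA : (Nat.card A).Coprime p) :
    Nat.card (fix φ ⊤) ^ Nat.card E * Nat.card H =
      Nat.card (fix φ E) ^ Nat.card E * Nat.card (fix φ U) := by
  classical
  haveI := Fintype.ofFinite A
  haveI := Fintype.ofFinite U
  haveI := Fintype.ofFinite E
  letI : Module (ZMod p) (Additive H) := AddCommGroup.zmodModule (n := p) fun x => hexp x.toMul
  haveI : Module.Finite (ZMod p) (Additive H) := Module.Finite.of_finite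
  set n := Module.finrank (ZMod p) (Additive H) with hn
  let b : Additive H ≃ₗ[ZMod p] (Fin n → ZMod p) := (Module.finBasis _ _).equivFun
  let lin : A →* Module.End (ZMod p) (Additive H) :=
    { toFun := fun a => ((φ a).toMonoidHom.toAdditive).toZModLinearMap p
      map_one' := LinearMap.ext fun x => by simp [map_one φ]
      map_mul' := fun x y => LinearMap.ext fun z => by simp [map_mul φ] }
  let ρ : A →* Matrix (Fin n) (Fin n) (ZMod p) :=
    (LinearMap.toMatrixAlgEquiv' : _ ≃ₐ[ZMod p] _).toMonoidHom.comp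
      ((b.conjRingEquiv : _ ≃+* _).toMonoidHom.comp lin)
  have hρ : ∀ a (x : H), ρ a *ᵥ b (Additive.ofMul x) = b (Additive.ofMul (φ a x)) := by
    intro a x
    show LinearMap.toMatrix' (b.conjRingEquiv (lin a)) *ᵥ _ = _
    rw [LinearMap.toMatrix'_mulVec]
    simp [LinearEquiv.conjRingEquiv, lin]
  set e := Fintype.card E with he
  set k := (e + 1) * n + 1 with hk
  have hk0 : k ≠ 0 := by omega
  obtain ⟨ρ', hρ'⟩ := Cfsg.Agent.Coprime.exists_lift hk0 hA ρ
  have hS : ∀ (S : Subgroup A) [Fintype S], ∃ r, r ≤ n ∧ Nat.card (fix φ S) = p ^ r ∧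
      ∑ s : S, (ρ' (s : A)).trace = ((Fintype.card S * r : ℕ) : ZMod (p ^ k)) := by
    intro S _
    obtain ⟨r, hr, hc, ht⟩ := Cfsg.Agent.Coprime.trace_sum_eq hk0 S
      (Nat.Coprime.coprime_dvd_left (by rw [← Nat.card_eq_fintype_card]; exact S.card_subgroup_dvd_card) hA)
      ρ ρ' hρ'
    refine ⟨r, hr, ?_, ht⟩
    rw [← hc]
    refine Nat.card_congr ((Additive.ofMul.trans b.toEquiv).subtypeEquiv fun x => ?_)
    simp only [mem_fix, Equiv.trans_apply, LinearEquiv.coe_toEquiv, hρ, b.injective.eq_iff,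
      EmbeddingLike.apply_eq_iff_eq]
  obtain ⟨rA, hrA, hcA, htA⟩ := hS ⊤
  obtain ⟨rE, hrE, hcE, htE⟩ := hS E
  obtain ⟨rU, hrU, hcU, htU⟩ := hS U
  have hid := sum_identity U E hUn hgen hUE hfpf (fun a => (ρ' a).trace) (fun x y => by
    rw [map_mul, map_mul, Matrix.trace_mul_comm, ← Matrix.mul_assoc, ← map_mul, inv_mul_cancel, map_one,
      Matrix.one_mul])
  have hcardA : Fintype.card A = Fintype.card U * e := by
    rw [he, ← Nat.card_eq_fintype_card, ← Nat.card_eq_fintype_card, ← Nat.card_eq_fintype_card]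
    haveI hN : U.Normal := ⟨fun u hu a => hUn a u hu⟩
    exact (Subgroup.isComplement'_of_disjoint_and_mul_eq_univ (disjoint_iff.2 hUE)
      (by rw [← Subgroup.normal_mul, hgen]; rfl)).card_mul.symm
  have htop : ∑ a : A, (ρ' a).trace = ((Fintype.card A * rA : ℕ) : ZMod (p ^ k)) := by
    rw [← Fintype.card_congr Subgroup.topEquiv.toEquiv, ← htA]
    exact (Fintype.sum_equiv Subgroup.topEquiv.toEquiv _ _ fun s => rfl).symm
  rw [htop, htE, htU, map_one, Matrix.trace_one, Fintype.card_fin, hcardA] at hid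
  set u := ZMod.unitOfCoprime (Fintype.card U)
    (Nat.Coprime.pow_right k (Nat.Coprime.coprime_dvd_left
      (by rw [← Nat.card_eq_fintype_card]; exact U.card_subgroup_dvd_card) hA))
  have hid' : ((e * rA + n : ℕ) : ZMod (p ^ k)) = ((e * rE + rU : ℕ) : ZMod (p ^ k)) := by
    apply u.isUnit.mul_left_cancel
    rw [ZMod.coe_unitOfCoprime]
    push_cast at hid ⊢
    linear_combination hid
  have hlt : (e + 1) * n < p ^ k := by
    calc (e + 1) * n < k := by omega
      _ ≤ p ^ k := (Nat.lt_pow_self (Fact.out : p.Prime).one_lt).le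
  have b1 : e * rA + n ≤ (e + 1) * n := by rw [add_mul, one_mul]; gcongr
  have b2 : e * rE + rU ≤ (e + 1) * n := by rw [add_mul, one_mul]; gcongr
  have heq : e * rA + n = e * rE + rU := by
    have := congrArg ZMod.val hid'
    rwa [ZMod.val_natCast_of_lt (by omega), ZMod.val_natCast_of_lt (by omega)] at this
  have hcH : Nat.card H = p ^ n := by
    rw [Nat.card_congr (Additive.ofMul.trans b.toEquiv), Nat.card_eq_fintype_card, Fintype.card_fun,
      ZMod.card, Fintype.card_fin]
  rw [hcA, hcE, hcU, hcH, Nat.card_eq_fintype_card (α := E), ← he, ← pow_mul, ← pow_mul, ← pow_add,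
    ← pow_add, mul_comm rA, mul_comm rE, heq]

/-- The Wielandt formula for a Frobenius group of operators. -/
theorem wielandt {A : Type*} [Group A] [Finite A] (U E : Subgroup A)
    (hUn : ∀ a : A, ∀ u ∈ U, a * u * a⁻¹ ∈ U) (hgen : U ⊔ E = ⊤) (hUE : U ⊓ E = ⊥)
    (hfpf : ∀ e ∈ E, e ≠ 1 → ∀ u ∈ U, e * u = u * e → u = 1) :
    ∀ (m : ℕ) (H : Type u) [Group H] [Finite H], Nat.card H = m → Group.IsSolvable H →
      (Nat.card A).Coprime (Nat.card H) → ∀ φ : A →* MulAut H,
      Nat.card (fix φ ⊤) ^ Nat.card E * Nat.card H =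
        Nat.card (fix φ E) ^ Nat.card E * Nat.card (fix φ U) := by
  intro m
  induction m using Nat.strong_induction_on with
  | _ m ih =>
  intro H _ _ hm hsol hcop φ
  classical
  -- reduction by an invariant normal subgroup
  have step : ∀ N : Subgroup H, N.Normal → (∀ a, ∀ x ∈ N, φ a x ∈ N) → N ≠ ⊥ → N ≠ ⊤ →
      Nat.card (fix φ ⊤) ^ Nat.card E * Nat.card H =
        Nat.card (fix φ E) ^ Nat.card E * Nat.card (fix φ U) := by
    intro N hN hinv hbot htop
    have hinv' : ∀ a, N.map (φ a).toMonoidHom = N := fun a => by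
      ext x
      simp only [Subgroup.mem_map, MulEquiv.coe_toMonoidHom]
      refine ⟨by rintro ⟨y, hy, rfl⟩; exact hinv a y hy, fun hx => ⟨φ a⁻¹ x, hinv _ x hx, ?_⟩⟩
      rw [← MulAut.mul_apply, ← map_mul, mul_inv_cancel, map_one, MulAut.one_apply]
    let φN : A →* MulAut N :=
      { toFun := fun a =>
          { toFun := fun x => ⟨φ a x, hinv a x x.2⟩
            invFun := fun x => ⟨φ a⁻¹ x, hinv _ x x.2⟩
            left_inv := fun x => Subtype.ext (by
              show φ a⁻¹ (φ a x) = x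
              rw [← MulAut.mul_apply, ← map_mul, inv_mul_cancel, map_one, MulAut.one_apply])
            right_inv := fun x => Subtype.ext (by
              show φ a (φ a⁻¹ x) = x
              rw [← MulAut.mul_apply, ← map_mul, mul_inv_cancel, map_one, MulAut.one_apply])
            map_mul' := fun x y => Subtype.ext (map_mul _ _ _) }
        map_one' := MulEquiv.ext fun x => Subtype.ext (by simp)
        map_mul' := fun a b => MulEquiv.ext fun x => Subtype.ext (by simp) }
    let φQ : A →* MulAut (H ⧸ N) :=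
      { toFun := fun a => QuotientGroup.congr N N (φ a) (hinv' a)
        map_one' := MulEquiv.ext fun x => by
          induction x using QuotientGroup.induction_on with
          | _ z =>
            show ((φ 1 z : H) : H ⧸ N) = (z : H ⧸ N)
            rw [map_one]
            rfl
        map_mul' := fun a b => MulEquiv.ext fun x => by
          induction x using QuotientGroup.induction_on with
          | _ z =>
            show ((φ (a * b) z : H) : H ⧸ N) = ((φ a (φ b z) : H) : H ⧸ N)
            rw [map_mul]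
            rfl }
    have hcN : (Nat.card A).Coprime (Nat.card N) :=
      Nat.Coprime.coprime_dvd_right N.card_subgroup_dvd_card hcop
    have hsN : Group.IsSolvable N := Group.isSolvable_of_isSolvable_injective N.subtype_injective
    have hmul : ∀ S : Subgroup A,
        Nat.card (fix φ S) = Nat.card (fix φN S) * Nat.card (fix φQ S) := by
      intro S
      let g : ↥(fix φ S) →* H ⧸ N := (QuotientGroup.mk' N).comp (fix φ S).subtype
      have hr : g.range = fix φQ S := by
        ext q
        constructor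
        · rintro ⟨⟨x, hx⟩, rfl⟩
          rw [mem_fix] at hx ⊢
          intro s hs
          show ((φ s x : H) : H ⧸ N) = (x : H ⧸ N)
          rw [hx s hs]
        · intro hq
          obtain ⟨x, rfl⟩ := QuotientGroup.mk_surjective q
          rw [mem_fix] at hq
          obtain ⟨y, hy, hxy⟩ := Cfsg.Agent.Coprime.exists_fixed_mul_mem_hom (φ.comp S.subtype)
            (N := N) (fun a => hinv a) (Nat.Coprime.coprime_dvd_left S.card_subgroup_dvd_card hcN)
            (Or.inr hsN) (k := x) (fun a => QuotientGroup.eq.1 (hq a a.2).symm)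
          exact ⟨⟨x * y, hxy⟩, (QuotientGroup.eq.2 (by simpa using hy)).symm⟩
      have hk : Nat.card g.ker = Nat.card (fix φN S) := by
        refine Nat.card_congr
          { toFun := fun x => ⟨⟨x.1.1, (QuotientGroup.eq_one_iff _).1 x.2⟩, fun s => Subtype.ext (x.1.2 s)⟩
            invFun := fun x => ⟨⟨x.1.1, fun s => congrArg Subtype.val (x.2 s)⟩, (QuotientGroup.eq_one_iff _).2 x.1.2⟩
            left_inv := fun x => rfl
            right_inv := fun x => rfl }
      rw [← Subgroup.card_mul_index g.ker, Subgroup.index_ker, hk, hr]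
    have hlt1 : Nat.card N < m := by
      rw [← hm]
      exact lt_of_le_of_ne (Subgroup.card_le_card_group N) fun h => htop (Subgroup.eq_top_of_card_eq N h)
    have hHN : Nat.card H = Nat.card N * Nat.card (H ⧸ N) := by
      rw [Subgroup.card_eq_card_quotient_mul_card_subgroup N, mul_comm]
    have hlt2 : Nat.card (H ⧸ N) < m := by
      rw [← hm, hHN]
      exact lt_mul_of_one_lt_left Nat.card_pos (N.one_lt_card_iff_ne_bot.2 hbot)
    have h1 := ih _ hlt1 N rfl hsN hcN φN
    have h2 := ih _ hlt2 (H ⧸ N) rfl inferInstance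
      (Nat.Coprime.coprime_dvd_right (hHN ▸ dvd_mul_left _ _) hcop) φQ
    rw [hmul, hmul, hmul, hHN, mul_pow, mul_pow]
    calc _ = (Nat.card (fix φN ⊤) ^ Nat.card E * Nat.card N) *
          (Nat.card (fix φQ ⊤) ^ Nat.card E * Nat.card (H ⧸ N)) := by ring
      _ = _ := by rw [h1, h2]; ring
  rcases subsingleton_or_nontrivial H with hH | hH
  · have h1 : ∀ S, Nat.card (fix φ S) = 1 := fun S => Nat.card_eq_one_iff_unique.2 ⟨inferInstance, ⟨1⟩⟩
    simp [h1, Nat.card_eq_one_iff_unique.2 ⟨hH, ⟨(1 : H)⟩⟩]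
  by_cases hcomm : commutator H = ⊥
  swap
  · refine step _ inferInstance (fun a x hx => ?_) hcomm (Group.IsSolvable.commutator_lt_top_of_nontrivial H).ne
    have := Subgroup.characteristic_iff_comap_eq.1 (inferInstance : (commutator H).Characteristic) (φ a)
    rw [← this] at hx
    exact hx
  have hc : ∀ a b : H, a * b = b * a := fun a b => by
    have h := Subgroup.commutator_eq_bot_iff_le_centralizer.1 hcomm (Subgroup.mem_top a)
    exact (Subgroup.mem_centralizer_iff.1 h b (Subgroup.mem_top b)).symm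
  letI : CommGroup H := { (inferInstance : Group H) with mul_comm := hc }
  obtain ⟨p, hp, hpd⟩ := Nat.exists_prime_and_dvd (Finite.one_lt_card (α := H)).ne'
  haveI : Fact p.Prime := ⟨hp⟩
  set T : Subgroup H := (powMonoidHom p : H →* H).ker with hT
  by_cases hTt : T = ⊤
  · refine base_case U E hUn hgen hUE hfpf φ p (fun x => ?_) (Nat.Coprime.coprime_dvd_right hpd hcop)
    have : x ∈ T := by rw [hTt]; trivial
    exact this
  · refine step T inferInstance (fun a x hx => ?_) ?_ hTt
    · show (φ a x) ^ p = 1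
      rw [← map_pow, show x ^ p = 1 from hx, map_one]
    · obtain ⟨x, hx⟩ := exists_prime_orderOf_dvd_card' p hpd
      intro hb
      have hxT : x ∈ T := by
        show x ^ p = 1
        rw [← hx]; exact pow_orderOf_eq_one x
      rw [hb, Subgroup.mem_bot] at hxT
      rw [hxT, orderOf_one] at hx
      exact hp.one_lt.ne hx

/-- Let X be a finite group with subgroups U, E and H such that U and E generate a subgroup UE = U ⊔ E normalising H, with U normal in UE, U ⊓ E = ⊥, U ≠ ⊥, E ≠ ⊥, every non-identity element of E commuting with no non-identity element of U (UE is a Frobenius group with kernel U acting on H by conjugation), H solvable, H ⊓ (U ⊔ E) = ⊥ and the orders of H and U ⊔ E coprime. Then Nat.card (H ⊓ C(U ⊔ E)) ^ Nat.card E * Nat.card H = Nat.card (H ⊓ C(E)) ^ Nat.card E * Nat.card (H ⊓ C(U)), where C(·) denotes the centraliser. -/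
theorem result {X : Type*} [Group X] [Finite X] (U E H : Subgroup X) (hU1 : U ≠ ⊥) (hE1 : E ≠ ⊥) (hUE : U ⊓ E = ⊥) (hUn : ∀ e ∈ E, ∀ u ∈ U, e * u * e⁻¹ ∈ U) (hfpf : ∀ e ∈ E, e ≠ 1 → ∀ u ∈ U, e * u = u * e → u = 1) (hHn : ∀ x ∈ U ⊔ E, ∀ h ∈ H, x * h * x⁻¹ ∈ H) (hdisj : H ⊓ (U ⊔ E) = ⊥) (hsolv : Group.IsSolvable H) (hcop : Nat.Coprime (Nat.card H) (Nat.card ↥(U ⊔ E))) : Nat.card ↥(H ⊓ Subgroup.centralizer ((U ⊔ E : Subgroup X) : Set X)) ^ Nat.card E * Nat.card H = Nat.card ↥(H ⊓ Subgroup.centralizer (E : Set X)) ^ Nat.card E * Nat.card ↥(H ⊓ Subgroup.centralizer (U : Set X)) := by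
  classical
  set A : Subgroup X := U ⊔ E with hA
  have hle : A ≤ Subgroup.normalizer (H : Set X) := by
    intro x hx
    rw [Subgroup.mem_normalizer_iff]
    intro h
    refine ⟨hHn x hx h, fun hh => ?_⟩
    have := hHn x⁻¹ (inv_mem hx) _ hh
    simpa [mul_assoc] using this
  let φ : ↥A →* MulAut H := (Subgroup.normalizerMonoidHom H).comp (Subgroup.inclusion hle)
  have hφ : ∀ (a : A) (h : H), ((φ a h : H) : X) = (a : X) * h * (a : X)⁻¹ := fun _ _ => rfl
  have hUn' : ∀ a : A, ∀ u ∈ U.subgroupOf A, a * u * a⁻¹ ∈ U.subgroupOf A := by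
    have hAN : A ≤ Subgroup.normalizer (U : Set X) := sup_le Subgroup.le_normalizer (by
      intro e he
      rw [Subgroup.mem_normalizer_iff]
      intro u
      refine ⟨hUn e he u, fun hh => ?_⟩
      have := hUn e⁻¹ (inv_mem he) _ hh
      simpa [mul_assoc] using this)
    intro a u hu
    exact (Subgroup.mem_normalizer_iff.1 (hAN a.2) u).1 hu
  have hgen : U.subgroupOf A ⊔ E.subgroupOf A = ⊤ := by
    rw [← Subgroup.subgroupOf_sup le_sup_left le_sup_right]
    exact Subgroup.subgroupOf_self _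
  have hbot : U.subgroupOf A ⊓ E.subgroupOf A = ⊥ := by
    rw [eq_bot_iff]
    intro x hx
    have : (x : X) ∈ U ⊓ E := ⟨hx.1, hx.2⟩
    rw [hUE, Subgroup.mem_bot] at this
    exact Subtype.ext this
  have hfpf' : ∀ e ∈ E.subgroupOf A, e ≠ 1 → ∀ u ∈ U.subgroupOf A, e * u = u * e → u = 1 :=
    fun e he hne u hu h => Subtype.ext (hfpf e he (fun h1 => hne (Subtype.ext h1)) u hu
      (congrArg Subtype.val h))
  have hW := wielandt (U.subgroupOf A) (E.subgroupOf A) hUn' hgen hbot hfpf' _ H rfl hsolv hcop.symm φ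
  have hfix : ∀ (S : Subgroup A) (S' : Subgroup X), S' ≤ A → (∀ a : A, a ∈ S ↔ (a : X) ∈ S') →
      Nat.card (fix φ S) = Nat.card ↥(H ⊓ Subgroup.centralizer (S' : Set X)) := by
    intro S S' hle' hS
    refine Nat.card_congr
      { toFun := fun h => ⟨(h.1 : X), h.1.2, fun a ha => ?_⟩
        invFun := fun h => ⟨⟨h.1, h.2.1⟩, fun s => Subtype.ext ?_⟩
        left_inv := fun h => rfl
        right_inv := fun h => rfl }
    · have := congrArg Subtype.val (mem_fix.1 h.2 ⟨a, hle' ha⟩ ((hS _).2 ha))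
      rw [hφ] at this
      exact mul_inv_eq_iff_eq_mul.1 this
    · show (φ (s : A) ⟨h.1, _⟩ : X) = h.1
      rw [hφ, mul_inv_eq_iff_eq_mul]
      exact h.2.2 _ ((hS _).1 s.2)
  rw [hfix ⊤ A le_rfl (fun a => by simp), hfix (E.subgroupOf A) E le_sup_right (fun a => Iff.rfl),
    hfix (U.subgroupOf A) U le_sup_left (fun a => Iff.rfl),
    Nat.card_congr (Subgroup.subgroupOfEquivOfLe (le_sup_right : E ≤ A)).toEquiv] at hW
  exact hW

end Cfsg.Agent.S1545
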