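import Cfsg.Statements.S3770
import Cfsg.Agent.Lib.HallHigman.Bridge
import Cfsg.Agent.Lib.HallHigman.FixedLine
import Cfsg.Agent.Lib.Frobenius.Basic
import Cfsg.Agent.S0042


set_option autoImplicit false
open Cfsg

namespace Cfsg.Agent.S3770

/-- Let G and V be subgroups of a finite group with G a Frobenius group with complement R of prime order and kernel K, G normalizing V, and V an elementary abelian ℓ-group for a prime ℓ not dividing the order of G. If C_V(R) has order ℓ, then the derived subgroup of K centralizes V. -/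
theorem result {X : Type*} [Group X] [Finite X] (G : Subgroup X) (V : Subgroup X) {ℓ : ℕ} (hℓ : ℓ.Prime) (hV : Cfsg.IsElementaryAbelian ℓ V) (hℓG : ¬ ℓ ∣ Nat.card G) (hGV : G ≤ Subgroup.normalizer (V : Set X)) (R : Subgroup ↥G) (hR : Cfsg.IsFrobeniusComplement R) (hRp : (Nat.card R).Prime) (hCV : Nat.card ↥(V ⊓ Subgroup.centralizer ((R.map G.subtype : Subgroup X) : Set X)) = ℓ) : ⁅Subgroup.closure (Subtype.val '' Cfsg.frobeniusKernel R), Subgroup.closure (Subtype.val '' Cfsg.frobeniusKernel R)⁆ ≤ Subgroup.centralizer (V : Set X) := by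
  classical
  haveI := Fact.mk hℓ
  set r := Nat.card R with hr
  haveI := Fact.mk hRp
  obtain ⟨N, hN, hNn, hNnil⟩ := Cfsg.Agent.S0042.result R hR
  haveI : N.Normal := hNn
  haveI : Group.IsNilpotent N := hNnil
  obtain ⟨⟨x, hxR⟩, hxgen⟩ := (isCyclic_of_prime_card (p := r) (α := R) rfl).exists_generator
  have hox : orderOf x = r := by
    rw [hr, ← orderOf_eq_card_of_forall_mem_zpowers hxgen, Subgroup.orderOf_mk x]
  have hRzp : R = Subgroup.zpowers x := by
    refine (Subgroup.eq_of_le_of_card_ge (Subgroup.zpowers_le.2 hxR) ?_).symm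
    rw [Nat.card_zpowers, hox]
  obtain ⟨m, ρ, hρ1, -, hρ3⟩ := Agent.HallHigman.exists_rep' V hV
  let ρG : G →* Module.End (AlgebraicClosure (ZMod ℓ)) (Fin m → AlgebraicClosure (ZMod ℓ)) :=
    ρ.comp (Subgroup.inclusion hGV)
  let σ : MulAut N := MulAut.conjNormal x
  have hσpow : ∀ k : ℕ, ∀ n : N, (((σ ^ k) n : N) : G) = x ^ k * n * (x ^ k)⁻¹ := fun k n => by
    rw [← map_pow, MulAut.conjNormal_apply]
  have hne : ∀ s : ℕ, s ∣ Nat.card G → (s : AlgebraicClosure (ZMod ℓ)) ≠ 0 := fun s hs e => by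
    rw [CharP.cast_eq_zero_iff (AlgebraicClosure (ZMod ℓ)) ℓ] at e
    exact hℓG (e.trans hs)
  have key := Agent.HallHigman.rep_commutator_eq_one (r := r) hRp (ρG.comp N.subtype) σ (ρG x)
    (by rw [← map_pow, ← hox, pow_orderOf_eq_one, map_one])
    (MulEquiv.ext fun n => Subtype.ext (by rw [hσpow, ← hox, pow_orderOf_eq_one]; simp))
    (fun n => by
      show ρG x * ρG n = ρG ((σ n : N) : G) * ρG x
      rw [← map_mul, ← map_mul, ← pow_one σ, hσpow, pow_one, inv_mul_cancel_right])
    (fun k hk0 hkr n hn => by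
      have h1 : x ^ k * (n : G) * (x ^ k)⁻¹ = n := by rw [← hσpow, hn]
      have hx1 : x ^ k ≠ 1 := pow_ne_one_of_lt_orderOf hk0.ne' (hox ▸ hkr)
      have h2 : (n : G) ∈ R := Cfsg.Agent.Frobenius.mem_of_commute hR (R.pow_mem hxR k) hx1 (by
        calc (n : G) * x ^ k = (x ^ k * n * (x ^ k)⁻¹) * x ^ k := by rw [h1]
          _ = x ^ k * n := by group)
      have h3 : (n : G) ∈ Cfsg.frobeniusKernel R := hN ▸ n.2
      rcases h3 with h3 | h3
      · exact Subtype.ext h3
      · exact absurd (by simpa using h2) (h3 1))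
    (hne _ (Subgroup.card_subgroup_dvd_card N))
    (hρ3 _ (by
      have hc : Subgroup.centralizer (((R.map G.subtype : Subgroup X)) : Set X) = Subgroup.centralizer ({(x : X)} : Set X) := by
        refine le_antisymm (Subgroup.centralizer_le (Set.singleton_subset_iff.2 ⟨x, hxR, rfl⟩)) ?_
        rw [hRzp, MonoidHom.map_zpowers, Subgroup.zpowers_eq_closure, Subgroup.centralizer_closure]
        rfl
      show Nat.card ↥(V ⊓ Subgroup.centralizer ({(x : X)} : Set X)) = ℓ
      rw [← hc]; exact hCV))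
  have hcl : Subgroup.closure (Subtype.val '' Cfsg.frobeniusKernel R) = N.map G.subtype := by
    rw [← hN, show Subtype.val '' (N : Set G) = G.subtype '' (N : Set G) from rfl, ← Subgroup.coe_map, Subgroup.closure_eq]
  rw [hcl, ← Subgroup.map_commutator]
  intro y hy
  obtain ⟨g, hg, rfl⟩ := hy
  rw [← N.map_subtype_commutator] at hg
  obtain ⟨d, hd, rfl⟩ := hg
  exact (hρ1 _).1 (key d hd)

end Cfsg.Agent.S3770
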