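import Cfsg.Statements.S1446
import Cfsg.Agent.S1545
import Cfsg.Agent.S3770
import Cfsg.Agent.S0039
import Cfsg.Agent.Lib.Coprime.Commutator
import Cfsg.Agent.Lib.Coprime.Quotient
import Cfsg.Agent.Lib.Components.Subnormal
import Cfsg.Agent.Lib.PGroup.Frattini

set_option autoImplicit false
open Cfsg

namespace Cfsg.Agent.S1446

open scoped commutatorElement
open Subgroup

section

variable {X : Type*} [Group X] [Finite X]

/-- Wielandt's formula with `C_V(U) = 1`. -/
theorem card_eq_pow {U E V : Subgroup X} (hU1 : U ≠ ⊥) (hE1 : E ≠ ⊥) (hUE : U ⊓ E = ⊥)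
    (hEU : E ≤ normalizer (U : Set X))
    (hfpf : ∀ e ∈ E, e ≠ 1 → U ⊓ centralizer ({e} : Set X) = ⊥)
    (hUV : U ≤ normalizer (V : Set X)) (hEV : E ≤ normalizer (V : Set X))
    (hV : Group.IsSolvable V) (hcop : (Nat.card ↥(U ⊔ E)).Coprime (Nat.card V))
    (hCU : V ⊓ centralizer (U : Set X) = ⊥) :
    Nat.card V = Nat.card ↥(V ⊓ centralizer (E : Set X)) ^ Nat.card E := by
  have h := Cfsg.Agent.S1545.result U E V hU1 hE1 hUE
    (fun e he u hu => (mem_normalizer_iff.1 (hEU he) u).1 hu)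
    (fun e he he1 u hu hc => mem_bot.1 (hfpf e he he1 ▸
      ⟨hu, mem_centralizer_singleton_iff.2 hc.symm⟩))
    (fun x hx h hh => (mem_normalizer_iff.1 (sup_le hUV hEV hx) h).1 hh)
    (disjoint_iff.1 (disjoint_of_coprime_natCard hcop.symm)) hV hcop.symm
  have h1 : V ⊓ centralizer ((U ⊔ E : Subgroup X) : Set X) = ⊥ :=
    le_bot_iff.1 ((inf_le_inf_left V
      (centralizer_le (SetLike.coe_subset_coe.2 le_sup_left))).trans hCU.le)
  rw [h1, hCU, Subgroup.card_bot, one_pow, one_mul, mul_one] at h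
  exact h

theorem subgroupOf_inf_centralizer {H S T : Subgroup X} (hT : T ≤ H) :
    S.subgroupOf H ⊓ centralizer ((T.subgroupOf H : Subgroup H) : Set H) =
      (S ⊓ centralizer (T : Set X)).subgroupOf H := by
  ext x
  refine and_congr Iff.rfl ?_
  show x ∈ centralizer ((T.subgroupOf H : Subgroup H) : Set H) ↔ (x : X) ∈ centralizer (T : Set X)
  rw [mem_centralizer_iff, mem_centralizer_iff]
  exact ⟨fun h t ht => congrArg Subtype.val (h ⟨t, hT ht⟩ ht),
    fun h t ht => Subtype.ext (h t ht)⟩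

/-- Image of a `p`-group modulo its Frattini subgroup is elementary abelian. -/
theorem isElementaryAbelian_map {Y Z : Type*} [Group Y] [Finite Y] [Group Z] {l : ℕ} [Fact l.Prime]
    {S : Subgroup Y} (hS : IsPGroup l S) (f : Y →* Z)
    (h : ∀ y ∈ frattini S, f (y : Y) = 1) : Cfsg.IsElementaryAbelian l (S.map f) := by
  refine ⟨⟨⟨?_⟩⟩, ?_⟩
  · rintro ⟨_, x, hx, rfl⟩ ⟨_, y, hy, rfl⟩
    have h1 := h _ (PGroup.commutator_le_frattini hS
      (commutator_mem_commutator (mem_top (⟨x, hx⟩ : S)) (mem_top (⟨y, hy⟩ : S))))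
    refine Subtype.ext ?_
    show f x * f y = f y * f x
    refine commutatorElement_eq_one_iff_mul_comm.1 ?_
    rw [← map_commutatorElement]
    simpa [commutatorElement_def] using h1
  · rintro _ ⟨x, hx, rfl⟩
    rw [← map_pow]
    exact h _ (PGroup.pow_mem_frattini hS ⟨x, hx⟩)

/-- The elementary abelian case of the cyclic clause. -/
theorem commutator_le_of_elementary {K R V : Subgroup X} (hK1 : K ≠ ⊥) (hKR : K ⊓ R = ⊥)
    (hRK : R ≤ normalizer (K : Set X))
    (hfrob : ∀ r ∈ R, r ≠ 1 → K ⊓ centralizer ({r} : Set X) = ⊥) (hRp : (Nat.card R).Prime)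
    {l : ℕ} (hl : l.Prime) (hV : Cfsg.IsElementaryAbelian l V)
    (hKV : K ≤ normalizer (V : Set X)) (hRV : R ≤ normalizer (V : Set X))
    (hlG : ¬ l ∣ Nat.card ↥(K ⊔ R))
    (hC : Nat.card ↥(V ⊓ centralizer (R : Set X)) = l) :
    ⁅K, K⁆ ≤ centralizer (V : Set X) := by
  set G := K ⊔ R with hG
  have hKn : (K.subgroupOf G).Normal :=
    normal_subgroupOf_of_le_normalizer (sup_le le_normalizer hRK)
  have hinj : ∀ {S : Subgroup X}, S ≤ G → (S.subgroupOf G).map G.subtype = S := fun h => by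
    rw [subgroupOf_map_subtype, inf_eq_left.2 h]
  have hR1 : R ≠ ⊥ := fun h => by
    rw [h, Subgroup.card_bot] at hRp; exact Nat.not_prime_one hRp
  have hdis : Disjoint (K.subgroupOf G) (R.subgroupOf G) := disjoint_iff.2 (by
    show K.comap G.subtype ⊓ R.comap G.subtype = ⊥
    rw [← comap_inf, hKR, MonoidHom.comap_bot, ker_subtype])
  have hc : IsComplement' (K.subgroupOf G) (R.subgroupOf G) := by
    refine isComplement'_of_disjoint_and_mul_eq_univ hdis ?_
    rw [← Set.univ_subset_iff]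
    rintro ⟨g, hg⟩ -
    obtain ⟨k, hk, r, hr, rfl⟩ := (Coprime.mem_sup_iff_of_le_normalizer' hRK).1 (show g ∈ R ⊔ K by rw [sup_comm]; exact hg)
    exact ⟨⟨k, le_sup_left (b := R) hk⟩, hk, ⟨r, le_sup_right (a := K) hr⟩, hr, rfl⟩
  have hFC : Cfsg.IsFrobeniusComplement (R.subgroupOf G) := by
    refine (Cfsg.Agent.S0039.result _ _ hc ?_ ?_).2 fun h hh hh1 => ?_
    · rw [Ne, subgroupOf_eq_bot]
      exact fun hd => hK1 (le_bot_iff.1 (hd le_rfl le_sup_left))
    · rw [Ne, subgroupOf_eq_bot]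
      exact fun hd => hR1 (le_bot_iff.1 (hd le_rfl le_sup_right))
    · refine le_bot_iff.1 fun k hk => mem_bot.2 (Subtype.ext (mem_bot.1 (hfrob h hh
        (fun e => hh1 (Subtype.ext e)) ▸ ⟨hk.1, mem_centralizer_singleton_iff.2 ?_⟩)))
      exact congrArg Subtype.val (mem_centralizer_singleton_iff.1 hk.2)
  have hker : (K : Set X) ⊆ Subtype.val '' Cfsg.frobeniusKernel (R.subgroupOf G) := by
    intro k hk
    refine ⟨⟨k, le_sup_left (b := R) hk⟩, ?_, rfl⟩
    rcases eq_or_ne k 1 with rfl | hk1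
    · exact Or.inl rfl
    refine Or.inr fun g hg => hk1 ?_
    rw [Coprime.mem_conj_smul_iff] at hg
    have h1 : g⁻¹ * (⟨k, le_sup_left (b := R) hk⟩ : G) * g ∈ K.subgroupOf G := by
      have := hKn.conj_mem ⟨k, le_sup_left (b := R) hk⟩ hk g⁻¹
      rwa [inv_inv] at this
    have h2 := disjoint_def.1 hdis h1 hg
    have h3 : (⟨k, le_sup_left (b := R) hk⟩ : G) = 1 := by
      have h4 := congrArg (fun z : G => g * z * g⁻¹) h2
      simpa [mul_assoc] using h4
    exact congrArg Subtype.val h3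
  have hRc : Nat.card (R.subgroupOf G) = Nat.card R :=
    Nat.card_congr (subgroupOfEquivOfLe le_sup_right).toEquiv
  have key := Cfsg.Agent.S3770.result G V hl hV hlG (sup_le hKV hRV) (R.subgroupOf G) hFC
    (by rwa [hRc]) (by rwa [hinj le_sup_right])
  exact (commutator_mono (fun k hk => subset_closure (hker hk))
    (fun k hk => subset_closure (hker hk))).trans key

end

/-- Let X be a finite group with subgroups K, R, M such that: K and R are nontrivial, K ∩ R = 1, R normalizes K, no non-identity element of R centralizes a non-identity element of K, K ⊔ R is solvable of odd order; M is nilpotent and nontrivial, normalized by K and by R, with order coprime to that of K ⊔ R, M ∩ C(K) = 1, and M ∩ C(x) = M ∩ C(R) for all non-identity x ∈ R. Then R has prime order p, #M = #(M ∩ C(R)) ^ p, and if M ∩ C(R) is cyclic then [K, K] centralizes M. -/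
theorem result {X : Type*} [Group X] [Finite X] (K R M : Subgroup X) (hK1 : K ≠ ⊥) (hR1 : R ≠ ⊥) (hKR : K ⊓ R = ⊥)
    (hRK : R ≤ Subgroup.normalizer (K : Set X)) (hfrob : ∀ r ∈ R, r ≠ 1 → K ⊓ Subgroup.centralizer ({r} : Set X) = ⊥)
    (hsolv : Group.IsSolvable ↥(K ⊔ R)) (hodd : Odd (Nat.card ↥(K ⊔ R)))
    (hM1 : M ≠ ⊥) (hMn : Group.IsNilpotent M) (hKM : K ≤ Subgroup.normalizer (M : Set X)) (hRM : R ≤ Subgroup.normalizer (M : Set X))
    (hcop : (Nat.card ↥(K ⊔ R)).Coprime (Nat.card M)) (hCK : M ⊓ Subgroup.centralizer (K : Set X) = ⊥)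
    (hpr : ∀ x ∈ R, x ≠ 1 → M ⊓ Subgroup.centralizer ({x} : Set X) = M ⊓ Subgroup.centralizer (R : Set X)) :
    (Nat.card R).Prime ∧ Nat.card M = Nat.card ↥(M ⊓ Subgroup.centralizer (R : Set X)) ^ Nat.card R ∧
      (IsCyclic ↥(M ⊓ Subgroup.centralizer (R : Set X)) → ⁅K, K⁆ ≤ Subgroup.centralizer (M : Set X)) := by
  classical
  have hMs : Group.IsSolvable M := inferInstance
  have hform : ∀ T ≤ R, T ≠ ⊥ → Nat.card M =
      Nat.card ↥(M ⊓ centralizer (R : Set X)) ^ Nat.card T := by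
    intro T hTR hT
    obtain ⟨t, ht, ht1⟩ := (bot_or_exists_ne_one T).resolve_left hT
    have h1 := card_eq_pow hK1 hT (le_bot_iff.1 ((inf_le_inf_left K hTR).trans hKR.le))
      (hTR.trans hRK) (fun e he he1 => hfrob e (hTR he) he1) hKM (hTR.trans hRM) hMs
      (hcop.coprime_dvd_left (card_dvd_of_le (sup_le_sup_left hTR K))) hCK
    have h2 : M ⊓ centralizer (T : Set X) = M ⊓ centralizer (R : Set X) := by
      refine le_antisymm ?_ (inf_le_inf_left M (centralizer_le hTR))
      exact (inf_le_inf_left M (centralizer_le (Set.singleton_subset_iff.2 ht))).trans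
        (hpr t (hTR ht) ht1).le
    rwa [h2] at h1
  have hR := hform R le_rfl hR1
  have hC2 : 2 ≤ Nat.card ↥(M ⊓ centralizer (R : Set X)) := by
    by_contra h
    have h1 : Nat.card ↥(M ⊓ centralizer (R : Set X)) = 1 := by
      have := Nat.card_pos (α := ↥(M ⊓ centralizer (R : Set X)))
      omega
    rw [h1, one_pow] at hR
    exact hM1 (Subgroup.card_eq_one.1 hR)
  have hprime : (Nat.card R).Prime := by
    obtain ⟨q, hq, hqd⟩ := Nat.exists_prime_and_dvd
      (fun h => hR1 (Subgroup.card_eq_one.1 h))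
    have := Fact.mk hq
    obtain ⟨x, hx⟩ := exists_prime_orderOf_dvd_card' (G := R) q hqd
    have hx' : orderOf (x : X) = q := by rw [Subgroup.orderOf_coe, hx]
    have h1 := hform (zpowers (x : X)) (zpowers_le.2 x.2) (by
      rw [Ne, zpowers_eq_bot]
      intro h
      rw [h, orderOf_one] at hx'
      exact hq.ne_one hx'.symm)
    rw [Nat.card_zpowers, hx'] at h1
    rw [Nat.pow_right_injective hC2 (hR.symm.trans h1)]
    exact hq
  refine ⟨hprime, hR, fun hcyc => ?_⟩
  rw [← le_centralizer_iff]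
  refine subgroupOf_eq_top.1 (Components.eq_top_of_forall_sylow
    (X := (centralizer ((⁅K, K⁆ : Subgroup X) : Set X)).subgroupOf M) fun l hl hld => ?_)
  have := Fact.mk hl
  refine ⟨default, ?_⟩
  set P : Sylow l M := default
  have hPn : (P : Subgroup M).Normal := inferInstance
  have hPc : (P : Subgroup M).Characteristic := Sylow.characteristic_of_normal P hPn
  set P' := (P : Subgroup M).map M.subtype with hP'def
  have hP'M : P' ≤ M := map_subtype_le _
  have hP'p : IsPGroup l P' := P.isPGroup'.map _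
  have hNP : normalizer (M : Set X) ≤ normalizer (P' : Set X) :=
    Components.normalizer_le_normalizer_map_of_characteristic M _
  set D := (frattini P').map P'.subtype with hDdef
  have hND : normalizer (P' : Set X) ≤ normalizer (D : Set X) :=
    Components.normalizer_le_normalizer_map_of_characteristic P' _
  set H := normalizer (D : Set X) with hHdef
  have hDP : D ≤ P' := map_subtype_le _
  have hP'H : P' ≤ H := le_normalizer.trans hND
  have hGN : K ⊔ R ≤ normalizer (P' : Set X) := (sup_le hKM hRM).trans hNP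
  have hKH : K ≤ H := (le_sup_left.trans hGN).trans hND
  have hRH : R ≤ H := (le_sup_right.trans hGN).trans hND
  have hcopP : (Nat.card ↥(K ⊔ R)).Coprime (Nat.card P') :=
    hcop.coprime_dvd_right (card_dvd_of_le hP'M)
  suffices hkey : ∀ a ∈ ⁅K, K⁆, ∀ x ∈ P', a * x * a⁻¹ * x⁻¹ ∈ D by
    have hKK : ⁅K, K⁆ ≤ K ⊔ R := K.commutator_le_self.trans le_sup_left
    have h1 := Coprime.le_centralizer_of_frattini (A := ⁅K, K⁆) (K := P')
      (hKK.trans hGN)
      ((hcopP.coprime_dvd_left (card_dvd_of_le hKK)).coprime_dvd_right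
        (card_subgroup_dvd_card (frattini P'))) hkey
    exact fun x hx => le_centralizer_iff.1 h1 (mem_map_of_mem M.subtype hx)
  have hDn : (D.subgroupOf H).Normal := normal_subgroupOf_of_le_normalizer le_rfl
  set f := QuotientGroup.mk' (D.subgroupOf H) with hfdef
  set Pb := (P'.subgroupOf H).map f
  set Kb := (K.subgroupOf H).map f
  set Rb := (R.subgroupOf H).map f
  intro a ha x hx
  have hcard : ∀ {S : Subgroup X}, S ≤ H → Nat.card (S.subgroupOf H) = Nat.card S :=
    fun h => Nat.card_congr (subgroupOfEquivOfLe h).toEquiv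
  have hGker : ∀ g : H, (g : X) ∈ K ⊔ R → f g = 1 → g = 1 := fun g hg hg1 =>
    Subtype.ext (disjoint_def.1 (disjoint_of_coprime_natCard
      (hcopP.coprime_dvd_right (card_dvd_of_le hDP))) hg ((QuotientGroup.eq_one_iff g).1 hg1))
  have hnorm : ∀ {S T : Subgroup X}, S ≤ H → T ≤ H → S ≤ normalizer (T : Set X) →
      (S.subgroupOf H).map f ≤ normalizer (((T.subgroupOf H).map f : Subgroup _) : Set (H ⧸ D.subgroupOf H)) := by
    intro S T _ _ h
    refine (map_mono ?_).trans (le_normalizer_map f)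
    exact (comap_mono h).trans (le_normalizer_comap _)
  have hRp' : Nat.card Rb = Nat.card R := by
    refine (Nat.card_image_of_injOn (f := f) (s := (R.subgroupOf H : Set H)) ?_).trans (hcard hRH)
    intro g hg g' hg' he
    have := hGker (g⁻¹ * g') (mem_sup_right (R.mul_mem (R.inv_mem hg) hg'))
      (by rw [map_mul, map_inv, he, inv_mul_cancel])
    exact inv_mul_eq_one.1 this
  have hcopH : ∀ {S : Subgroup X}, S ≤ H → S ≤ K ⊔ R →
      (Nat.card (S.subgroupOf H)).Coprime (Nat.card (P'.subgroupOf H)) := fun hS hS' => by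
    rw [hcard hS, hcard hP'H]
    exact hcopP.coprime_dvd_left (card_dvd_of_le hS')
  have hPs : Group.IsSolvable (P'.subgroupOf H) := by
    have hn : Group.IsNilpotent (P'.subgroupOf H) :=
      (hP'p.comap_subtype (K := H)).isNilpotent
    infer_instance
  have hfix : ∀ {S : Subgroup X}, S ≤ H → S ≤ K ⊔ R →
      Pb ⊓ centralizer (((S.subgroupOf H).map f : Subgroup _) : Set (H ⧸ D.subgroupOf H)) =
        ((P' ⊓ centralizer (S : Set X)).subgroupOf H).map f := fun hS hS' => by
    rw [← subgroupOf_inf_centralizer hS]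
    exact (Coprime.map_inf_centralizer f ((comap_mono (hS'.trans hGN)).trans (le_normalizer_comap _))
      (hcopH hS hS') (Or.inr hPs)).symm
  by_cases hPb : Pb = ⊥
  · have hPD : P' ≤ D := fun y hy => by
      have h1 : f ⟨y, hP'H hy⟩ ∈ Pb := mem_map_of_mem f (show (⟨y, hP'H hy⟩ : H) ∈ P'.subgroupOf H from hy)
      rw [hPb, mem_bot] at h1
      exact (QuotientGroup.eq_one_iff (⟨y, hP'H hy⟩ : H)).1 h1
    exact hPD (P'.mul_mem ((mem_normalizer_iff.1 (hGN (mem_sup_left (K.commutator_le_self ha))) x).1 hx)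
      (P'.inv_mem hx))
  have hel : Cfsg.IsElementaryAbelian l Pb := by
    refine isElementaryAbelian_map (hP'p.comap_subtype (K := H)) f fun y hy => ?_
    refine (QuotientGroup.eq_one_iff _).2 ?_
    let e : P'.subgroupOf H ≃* P' := subgroupOfEquivOfLe hP'H
    have h1 := PGroup.map_frattini (hP'p.comap_subtype (K := H)) e.toMonoidHom e.surjective
    exact ⟨e y, h1 ▸ mem_map_of_mem e.toMonoidHom hy, rfl⟩
  have hKb1 : Kb ≠ ⊥ := by
    obtain ⟨k, hk, hk1⟩ := (bot_or_exists_ne_one K).resolve_left hK1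
    intro h
    have h1 : f ⟨k, hKH hk⟩ ∈ Kb := mem_map_of_mem f (show (⟨k, hKH hk⟩ : H) ∈ K.subgroupOf H from hk)
    rw [h, mem_bot] at h1
    exact hk1 (congrArg Subtype.val (hGker _ (mem_sup_left hk) h1))
  have hfrobB : ∀ r ∈ Rb, r ≠ 1 → Kb ⊓ centralizer ({r} : Set (H ⧸ D.subgroupOf H)) = ⊥ := by
    rintro _ ⟨r, hr, rfl⟩ hr1
    refine le_bot_iff.1 ?_
    rintro _ ⟨⟨k, hk, rfl⟩, hkr⟩
    have h1 : f ⁅k, r⁆ = 1 := by
      rw [map_commutatorElement, commutatorElement_eq_one_iff_mul_comm]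
      exact mem_centralizer_singleton_iff.1 hkr
    have h2 := commutatorElement_eq_one_iff_mul_comm.1 (hGker _
      (Subgroup.commutator_le_self _ (commutator_mem_commutator
        (mem_sup_left hk) (mem_sup_right hr))) h1)
    have h3 : (k : X) = 1 := mem_bot.1 (hfrob r hr
      (fun e => hr1 (by rw [show r = 1 from Subtype.ext e, map_one])) ▸
      ⟨hk, mem_centralizer_singleton_iff.2 (congrArg Subtype.val h2)⟩)
    rw [show k = 1 from Subtype.ext h3, map_one]
    exact one_mem _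
  have hKRb : Kb ⊓ Rb = ⊥ := by
    refine le_bot_iff.1 ?_
    rintro _ ⟨⟨k, hk, rfl⟩, ⟨r, hr, hrk⟩⟩
    have := hGker (r⁻¹ * k) (mul_mem (inv_mem (mem_sup_right hr)) (mem_sup_left hk))
      (by rw [map_mul, map_inv, hrk, inv_mul_cancel])
    rw [inv_mul_eq_one] at this
    have hk1 : (k : X) = 1 := mem_bot.1 (hKR ▸ ⟨hk, this ▸ hr⟩)
    rw [show k = 1 from Subtype.ext hk1, map_one]
    exact one_mem _
  have hsupb : Kb ⊔ Rb = ((K ⊔ R).subgroupOf H).map f := by
    rw [subgroupOf_sup hKH hRH, Subgroup.map_sup]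
  have hcardG : Nat.card ↥(Kb ⊔ Rb) ∣ Nat.card ↥(K ⊔ R) := by
    rw [hsupb, ← hcard (sup_le hKH hRH)]
    exact card_map_dvd _ f
  have hcardP : Nat.card Pb ∣ Nat.card P' := by
    rw [← hcard hP'H]; exact card_map_dvd _ f
  have hC1 : Pb ⊓ centralizer (Rb : Set (H ⧸ D.subgroupOf H)) ≠ ⊥ := by
    intro h
    have h1 := card_eq_pow hKb1 (fun e => hprime.ne_one (by rw [← hRp', e, Subgroup.card_bot]))
      hKRb (hnorm hRH hKH hRK) hfrobB (hnorm hKH hP'H (le_sup_left.trans hGN))
      (hnorm hRH hP'H (le_sup_right.trans hGN))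
      (Group.isSolvable_of_surjective (f.subgroupMap_surjective (P'.subgroupOf H)))
      ((hcopP.coprime_dvd_left hcardG).coprime_dvd_right hcardP)
      (by
        rw [hfix hKH le_sup_left, show P' ⊓ centralizer (K : Set X) = ⊥ from
          le_bot_iff.1 ((inf_le_inf_right _ hP'M).trans hCK.le), bot_subgroupOf, Subgroup.map_bot])
    rw [h, Subgroup.card_bot, one_pow] at h1
    exact hPb (Subgroup.card_eq_one.1 h1)
  have hCl : Nat.card ↥(Pb ⊓ centralizer (Rb : Set (H ⧸ D.subgroupOf H))) = l := by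
    have hcy : IsCyclic ↥(Pb ⊓ centralizer (Rb : Set (H ⧸ D.subgroupOf H))) := by
      rw [hfix hRH le_sup_right]
      have h1 : IsCyclic ↥(P' ⊓ centralizer (R : Set X)) :=
        isCyclic_of_injective (inclusion (inf_le_inf_right _ hP'M)) (inclusion_injective _)
      have h2 : IsCyclic ↥((P' ⊓ centralizer (R : Set X)).subgroupOf H) :=
        isCyclic_of_surjective _ (subgroupOfEquivOfLe (inf_le_left.trans hP'H)).symm.surjective
      exact isCyclic_of_surjective _ (f.subgroupMap_surjective _)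
    obtain ⟨g, hg⟩ := hcy.exists_ofOrder_eq_natCard
    have h1 : orderOf g ∣ l := orderOf_dvd_of_pow_eq_one (Subtype.ext (hel.2 _ g.2.1))
    rw [hg] at h1
    exact ((Nat.dvd_prime hl).1 h1).resolve_left fun h => hC1 (Subgroup.card_eq_one.1 h)
  have key := commutator_le_of_elementary hKb1 hKRb (hnorm hRH hKH hRK) hfrobB (by rwa [hRp']) hl
    hel (hnorm hKH hP'H (le_sup_left.trans hGN)) (hnorm hRH hP'H (le_sup_right.trans hGN))
    (fun h => (hl.coprime_iff_not_dvd.1 ((hcop.coprime_dvd_right hld).symm)) (h.trans hcardG)) hCl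
  have hmapK : (⁅K.subgroupOf H, K.subgroupOf H⁆).map H.subtype = ⁅K, K⁆ := by
    rw [map_commutator, subgroupOf_map_subtype, inf_eq_left.2 hKH]
  rw [← hmapK] at ha
  obtain ⟨a', ha', rfl⟩ := ha
  have h1 : f a' ∈ centralizer (Pb : Set (H ⧸ D.subgroupOf H)) :=
    key (by rw [← map_commutator]; exact mem_map_of_mem f ha')
  have h2 := mem_centralizer_iff.1 h1 (f ⟨x, hP'H hx⟩)
    (mem_map_of_mem f (show (⟨x, hP'H hx⟩ : H) ∈ P'.subgroupOf H from hx))
  have h3 : f ⁅a', (⟨x, hP'H hx⟩ : H)⁆ = 1 := by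
    rw [map_commutatorElement, commutatorElement_eq_one_iff_mul_comm]
    exact h2.symm
  exact (QuotientGroup.eq_one_iff ⁅a', (⟨x, hP'H hx⟩ : H)⁆).1 h3

end Cfsg.Agent.S1446
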