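import Cfsg.Statements.S0892
import Cfsg.Agent.Lib.SpinCover.MultiplierFour

set_option autoImplicit false
open Cfsg

namespace Cfsg.Agent.S0892

/-- Let n ≥ 4 with n ≠ 6 and n ≠ 7, and let Γ be a finite group with a subgroup Z contained in both the centre and the commutator subgroup of Γ such that Γ / Z is isomorphic to the alternating group on n letters. Then Z has order at most 2. -/
theorem result (n : ℕ) (hn : 4 ≤ n) (h6 : n ≠ 6) (h7 : n ≠ 7) {Γ : Type*} [Group Γ] [Finite Γ] (Z : Subgroup Γ) [Z.Normal] (hZc : Z ≤ Subgroup.center Γ) (hZd : Z ≤ commutator Γ) (e : Γ ⧸ Z ≃* alternatingGroup (Fin n)) : Nat.card Z ≤ 2 := by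
  classical
  let f : Γ →* Equiv.Perm (Fin n) :=
    (alternatingGroup (Fin n)).subtype.comp (e.toMonoidHom.comp (QuotientGroup.mk' Z))
  have H : Agent.SpinCover.Multiplier.IsExt f Z := by
    refine ⟨fun g => ?_, hZc, fun g => (e (QuotientGroup.mk' Z g)).2, fun σ hσ => ?_⟩
    · show (e (QuotientGroup.mk' Z g) : Equiv.Perm (Fin n)) = 1 ↔ g ∈ Z
      rw [OneMemClass.coe_eq_one, map_eq_one_iff e e.injective]
      exact QuotientGroup.eq_one_iff g
    · obtain ⟨g, hg⟩ := QuotientGroup.mk'_surjective Z (e.symm ⟨σ, hσ⟩)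
      refine ⟨g, ?_⟩
      show (e (QuotientGroup.mk' Z g) : Equiv.Perm (Fin n)) = σ
      rw [hg, MulEquiv.apply_symm_apply]
  rcases Nat.lt_or_ge n 5 with h | h
  · obtain rfl : n = 4 := by omega
    exact Agent.SpinCover.MultiplierFour.card_ker_le_two_four H hZd
  · exact Agent.SpinCover.Multiplier.card_ker_le_two H hZd h h6 h7

end Cfsg.Agent.S0892
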