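import Cfsg.Statements.S2086
import Cfsg.Agent.Lib.Schur.SLn
import Cfsg.Agent.S2117

set_option autoImplicit false
open Cfsg

namespace Cfsg.Agent.S2086

/-- Schur multipliers of the linear groups: for n ≥ 2 and a field F with q elements (q ≥ 4 when n = 2), apart from the five exceptional pairs (n, q) = (2, 4), (2, 9), (3, 2), (3, 4), (4, 2), the Schur multiplier of PSL_n(F) is cyclic of order gcd(n, q − 1); here the Schur multiplier is described through stem extensions, as in the definitions. -/
theorem result {F : Type*} [Field F] [Fintype F] {q : ℕ} (hF : Fintype.card F = q) (n : ℕ) (hn : 2 ≤ n) (h2 : n = 2 → 4 ≤ q) (hexc : (n, q) ∉ ({(2, 4), (2, 9), (3, 2), (3, 4), (4, 2)} : Set (ℕ × ℕ))) : Cfsg.HasCyclicSchurMultiplier (Matrix.ProjectiveSpecialLinearGroup (Fin n) F) (Nat.gcd n (q - 1)) := by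
  classical
  have hq : Nat.card F = q := by rw [Nat.card_eq_fintype_card, hF]
  have hq2 : 2 ≤ q := hF ▸ Fintype.one_lt_card
  simp only [Set.mem_insert_iff, Set.mem_singleton_iff, Prod.mk.injEq, not_or] at hexc
  obtain ⟨e24, e29, e32, e34, e42⟩ := hexc
  have hperf : commutator (Matrix.SpecialLinearGroup (Fin n) F) = ⊤ :=
    Agent.GL.SL_commutator_eq_top n hn fun h =>
      Agent.GL.exists_sq_ne_one_of_four_le_card (by rw [hq]; exact h2 h)
  have htriv : Cfsg.HasCyclicSchurMultiplier (Matrix.SpecialLinearGroup (Fin n) F) 1 := by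
    rcases hn.eq_or_lt with rfl | hn3
    · exact S2117.result (fun h => e24 ⟨rfl, hF ▸ h⟩) (fun h => e29 ⟨rfl, hF ▸ h⟩)
    · refine Agent.Schur.SLn.hasCyclicSchurMultiplier hn3 (fun h3 => ?_) fun h4 => ?_
      · by_contra hall
        push Not at hall
        obtain ⟨x, hx⟩ := IsCyclic.exists_generator (α := Fˣ)
        have h := orderOf_eq_card_of_forall_mem_zpowers hx
        have hdvd : Nat.card Fˣ ∣ 3 := h ▸ orderOf_dvd_of_pow_eq_one (Units.ext (hall x x.ne_zero))
        have := Nat.card_eq_card_units_add_one F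
        rcases (Nat.dvd_prime Nat.prime_three).1 hdvd with h1 | h1
        · exact e32 ⟨h3, by omega⟩
        · exact e34 ⟨h3, by omega⟩
      · rcases Nat.lt_or_ge q 3 with h | h
        · exact absurd ⟨h4, by omega⟩ e42
        · omega
  have : NeZero n := ⟨by omega⟩
  have hcent : Nat.card ↥(Subgroup.center (Matrix.SpecialLinearGroup (Fin n) F)) = Nat.gcd n (q - 1) := by
    rw [Nat.card_congr (Matrix.SpecialLinearGroup.center_equiv_rootsOfUnity' (0 : Fin n)).toEquiv,
      Fintype.card_fin]
    have he : rootsOfUnity n F = (powMonoidHom n : Fˣ →* Fˣ).ker := by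
      ext x; simp [mem_rootsOfUnity]
    rw [he, IsCyclic.card_powMonoidHom_ker, Agent.GL.card_units_field, hF, Nat.gcd_comm]
  have hcyc : IsCyclic ↥(Subgroup.center (Matrix.SpecialLinearGroup (Fin n) F)) :=
    isCyclic_of_injective (Matrix.SpecialLinearGroup.center_equiv_rootsOfUnity' (0 : Fin n)).toMonoidHom
      (MulEquiv.injective _)
  refine Agent.Schur.hasSchurMultiplier_quotient hperf htriv _ le_rfl ?_
  have hcy : IsCyclic (Multiplicative (ZMod (Nat.gcd n (q - 1)))) := inferInstance
  exact mulEquivOfCyclicCardEq (by rw [hcent, Nat.card_congr Multiplicative.toAdd, Nat.card_zmod])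

end Cfsg.Agent.S2086
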