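import Cfsg.Statements.S2089
import Cfsg.Agent.Lib.Schur.Unitary.Defining
import Cfsg.Agent.Lib.Schur.Unitary.Cross
import Cfsg.Agent.Lib.Schur.PerfectCover

set_option autoImplicit false
open Cfsg

namespace Cfsg.Agent.S2089

open Cfsg.Agent Cfsg.Agent.ClassicalSimple

/-- The centre of `SU` is cyclic: it consists of scalars. -/
theorem isCyclic_center {F : Type*} [Field F] [Fintype F] {q n : ℕ} (hF : Fintype.card F = q ^ 2) (hn : 1 ≤ n) :
    IsCyclic (Subgroup.center (Cfsg.SU n F q)) := by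
  have hscal : ∀ z : Subgroup.center (Cfsg.SU n F q), (z.1.1 : Matrix (Fin n) (Fin n) F) =
      Matrix.diagonal fun _ => (z.1.1 : Matrix (Fin n) (Fin n) F) ⟨0, hn⟩ ⟨0, hn⟩ := by
    intro z
    ext r s
    by_cases h : r = s
    · subst h
      rw [Matrix.diagonal_apply_eq]
      by_cases h0 : r = ⟨0, hn⟩
      · rw [h0]
      · exact (Forms.center_SU_diagonal hF z.1 z.2 r ⟨0, hn⟩ h0).2
    · rw [Matrix.diagonal_apply_ne _ h]
      exact (Forms.center_SU_diagonal hF z.1 z.2 r s h).1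
  let f : Subgroup.center (Cfsg.SU n F q) →* F :=
    { toFun := fun z => (z.1.1 : Matrix (Fin n) (Fin n) F) ⟨0, hn⟩ ⟨0, hn⟩
      map_one' := by simp
      map_mul' := fun a b => by
        show ((a * b).1.1 : Matrix (Fin n) (Fin n) F) ⟨0, hn⟩ ⟨0, hn⟩ = _
        rw [Subgroup.coe_mul, Subgroup.coe_mul, Matrix.SpecialLinearGroup.coe_mul, hscal a, hscal b,
          Matrix.diagonal_mul_diagonal, Matrix.diagonal_apply_eq, Matrix.diagonal_apply_eq, Matrix.diagonal_apply_eq] }
  refine isCyclic_of_subgroup_isDomain f fun a b e => ?_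
  refine Subtype.ext (Subtype.ext (Subtype.ext ?_))
  have e' : (a.1.1 : Matrix (Fin n) (Fin n) F) ⟨0, hn⟩ ⟨0, hn⟩ = (b.1.1 : Matrix (Fin n) (Fin n) F) ⟨0, hn⟩ ⟨0, hn⟩ := e
  rw [hscal a, hscal b, e']

/-- Schur multipliers of the unitary groups: for n ≥ 3 and a field F with q² elements, (n, q) ≠ (3, 2), apart from the exceptional pairs (n, q) = (4, 2), (4, 3), (6, 2), the Schur multiplier of PSU_n(q) is cyclic of order gcd(n, q + 1); here the Schur multiplier is described through stem extensions, as in the definitions. -/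
theorem result {F : Type*} [Field F] [Fintype F] (n q : ℕ) (hF : Fintype.card F = q ^ 2) (hn : 3 ≤ n) (h3 : ¬ (n = 3 ∧ q = 2)) (hexc : (n, q) ∉ ({(4, 2), (4, 3), (6, 2)} : Set (ℕ × ℕ))) : Cfsg.HasCyclicSchurMultiplier (Cfsg.PSU n F q) (Nat.gcd n (q + 1)) := by
  classical
  have hperf := SU_perfect hF hn h3
  have hexc' : ¬ Schur.Unitary.Exceptional n q := by
    rintro (⟨rfl, rfl⟩ | ⟨rfl, rfl⟩ | ⟨rfl, rfl⟩) <;> simp at hexc
  obtain ⟨p, hp⟩ := CharP.exists F
  have hpp : p.Prime := CharP.char_is_prime F p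
  have hh := hermB_isUnitary hF (n := n)
  have htriv : Cfsg.HasCyclicSchurMultiplier (Cfsg.SU n F q) 1 := by
    refine Schur.hasCyclicSchurMultiplier_one_of_exponent fun r hr Γ _ _ τ hτ hexp => ?_
    have hM : Schur.Unitary.MulTriv r (Cfsg.SU n F q) := by
      refine Schur.Unitary.MulTriv.congr ?_ (suEquiv hF (n := n)).symm
      rcases eq_or_ne r p with rfl | hrp
      · exact Schur.Unitary.mulTriv_defining hF hr n _ _ hh (by simp) hn hexc'
      · exact Schur.Unitary.mulTriv_cross hF hr hpp hrp _ _ hh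
    have h1 := hM Γ τ ⟨hτ.1, hτ.2.1, hexp⟩
    rwa [inf_eq_right.2 hτ.2.2] at h1
  haveI := isCyclic_center hF (n := n) (by omega)
  refine Schur.hasSchurMultiplier_quotient hperf htriv _ le_rfl ?_
  exact mulEquivOfCyclicCardEq (by
    rw [Forms.card_center_SU hF (by omega), Nat.card_congr Multiplicative.toAdd, Nat.card_zmod])

end Cfsg.Agent.S2089
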