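import Cfsg.Statements.S2092
import Cfsg.Agent.Lib.Schur.Transvection.Lift
import Cfsg.Agent.Lib.Schur.Stem
import Cfsg.Agent.Lib.ClassicalSimple.SympMatrix
import Mathlib.RingTheory.RootsOfUnity.Basic

set_option autoImplicit false
open Cfsg

namespace Cfsg.Agent.S2092

open Cfsg.Agent.ClassicalSimple

/-- The centre of the symplectic group consists of the scalars squaring to one. -/
theorem exists_equiv_center {F : Type*} [Field F] [Fintype F] (m : ℕ) (hm : 1 ≤ m) :
    Nonempty (rootsOfUnity 2 F ≃* Subgroup.center (Matrix.symplecticGroup (Fin m) F)) := by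
  haveI := nontrivial_symplectic_space (F := F) hm
  have hA := sympBilin_isAlt (m := m) (F := F)
  have hN := sympBilin_nondegenerate (m := m) (F := F)
  have hsq : ∀ a : rootsOfUnity 2 F, ((a : Fˣ) : F) * ((a : Fˣ) : F) = 1 := fun a => by
    rw [← Units.val_mul, ← pow_two, (mem_rootsOfUnity _ _).1 a.2, Units.val_one]
  let sc : rootsOfUnity 2 F →* SpB (sympBilin m F) :=
    { toFun := fun a => ⟨LinearEquiv.smulOfUnit (a : Fˣ), fun x y => by
        show sympBilin m F ((a : Fˣ) • x) ((a : Fˣ) • y) = sympBilin m F x y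
        simp [Units.smul_def, ← mul_assoc, hsq a]⟩
      map_one' := SpB.ext' fun x => by
        show ((1 : rootsOfUnity 2 F) : Fˣ) • x = x
        simp
      map_mul' := fun a b => SpB.ext' fun x => by
        show ((a * b : rootsOfUnity 2 F) : Fˣ) • x = (a : Fˣ) • (b : Fˣ) • x
        simp [mul_smul] }
  have hsc : ∀ (a : rootsOfUnity 2 F) (x : Fin m ⊕ Fin m → F), sc a • x = ((a : Fˣ) : F) • x := fun a x => rfl
  let sc' : rootsOfUnity 2 F →* Subgroup.center (SpB (sympBilin m F)) :=
    sc.codRestrict _ fun a =>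
      (mem_center_iff_scalar hA hN _).2 ⟨((a : Fˣ) : F), hsq a, fun x => hsc a x⟩
  have hb : Function.Bijective sc' := by
    constructor
    · intro a b h
      obtain ⟨v, hv⟩ := exists_ne (0 : Fin m ⊕ Fin m → F)
      have h' := congrArg (fun g : Subgroup.center (SpB (sympBilin m F)) =>
        (g : SpB (sympBilin m F)) • v) h
      have h'' : ((a : Fˣ) : F) • v = ((b : Fˣ) : F) • v := h'
      exact Subtype.ext (Units.ext (smul_left_injective F hv h''))
    · rintro ⟨g, hg⟩
      obtain ⟨a, ha, hga⟩ := (mem_center_iff_scalar hA hN g).1 hg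
      refine ⟨⟨⟨a, a, ha, ha⟩, ?_⟩, Subtype.ext (SpB.ext' fun x => (hga x).symm)⟩
      rw [mem_rootsOfUnity, pow_two]
      exact Units.ext ha
  exact ⟨(MulEquiv.ofBijective sc' hb).trans (Subgroup.centerCongr symplecticEquiv).symm⟩

/-- Schur multipliers of the symplectic groups: for m ≥ 2 and a field F with q elements (q ≥ 3 when m = 2), with (m, q) ≠ (3, 2), the Schur multiplier of PSp_2m(F) is cyclic of order gcd(2, q − 1); here the Schur multiplier is described through stem extensions, as in the definitions. -/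
theorem result {F : Type*} [Field F] [Fintype F] {q : ℕ} (hF : Fintype.card F = q) (m : ℕ) (hm : 2 ≤ m) (h2 : m = 2 → 3 ≤ q) (hexc : ¬ (m = 3 ∧ q = 2)) : Cfsg.HasCyclicSchurMultiplier (Cfsg.PSp m F) (Nat.gcd 2 (q - 1)) := by
  classical
  have hq2 : 2 ≤ q := hF ▸ Fintype.one_lt_card
  have hcase : 3 ≤ m ∨ (m = 2 ∧ 3 ≤ Fintype.card F) ∨ 4 ≤ Fintype.card F := by
    rcases hm.eq_or_lt with h | h
    · exact Or.inr (Or.inl ⟨h.symm, hF ▸ h2 h.symm⟩)
    · exact Or.inl h
  have hperf := symplectic_commutator_eq_top (F := F) hcase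
  have hr : Module.finrank F (Fin m ⊕ Fin m → F) = 2 * m := by
    simp [Module.finrank_fintype_fun_eq_card]; omega
  have hG : Schur.Transvection.Good F (Fin m ⊕ Fin m → F) := by
    refine ⟨by rw [hr]; omega, ?_⟩
    rw [hr, hF]
    omega
  have htriv : Cfsg.HasCyclicSchurMultiplier (Matrix.symplecticGroup (Fin m) F) 1 := by
    refine Schur.hasCyclicSchurMultiplier_one fun Γ _ _ σ hσ => ?_
    have hΓ : commutator Γ = ⊤ := by
      rw [eq_top_iff]
      intro y _
      have hy : σ y ∈ (commutator Γ).map σ := by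
        rw [commutator_def, Subgroup.map_commutator, Subgroup.map_top_of_surjective σ hσ.1,
          ← commutator_def, hperf]
        exact Subgroup.mem_top _
      obtain ⟨c, hc, hcy⟩ := hy
      have : c⁻¹ * y ∈ σ.ker := by rw [MonoidHom.mem_ker, map_mul, map_inv, hcy, inv_mul_cancel]
      simpa using mul_mem hc (hσ.2.2 this)
    let e := symplecticEquiv (m := m) (F := F)
    have hker : (e.toMonoidHom.comp σ).ker = σ.ker := by
      ext x
      simp
    have hinj := Schur.Transvection.injective_of_perfect_extension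
      (σ := e.toMonoidHom.comp σ) sympBilin_isAlt sympBilin_nondegenerate hG
      (e.surjective.comp hσ.1) (hker ▸ hσ.2.1) hΓ
    rw [← hker, MonoidHom.ker_eq_bot_iff]
    exact hinj
  obtain ⟨ec⟩ := exists_equiv_center (F := F) m (by omega)
  have hcard : Nat.card (rootsOfUnity 2 F) = Nat.gcd 2 (q - 1) := by
    have he : rootsOfUnity 2 F = (powMonoidHom 2 : Fˣ →* Fˣ).ker := by
      ext x; simp [mem_rootsOfUnity]
    rw [he, IsCyclic.card_powMonoidHom_ker, Nat.card_eq_fintype_card, Fintype.card_units, hF,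
      Nat.gcd_comm]
  have hcyc : IsCyclic (Subgroup.center (Matrix.symplecticGroup (Fin m) F)) :=
    isCyclic_of_surjective ec.toMonoidHom ec.surjective
  refine Schur.hasSchurMultiplier_quotient hperf htriv _ le_rfl ?_
  exact mulEquivOfCyclicCardEq (by
    rw [← Nat.card_congr ec.toEquiv, hcard, Nat.card_congr Multiplicative.toAdd, Nat.card_zmod])

end Cfsg.Agent.S2092
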