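import Cfsg.Statements.S2116
import Cfsg.Agent.Lib.Schur.SmallSylow
import Cfsg.Agent.Lib.Schur.FibreProduct
import Cfsg.Agent.Lib.SpinCover.Triple
import Cfsg.Agent.Lib.SpinCover.General

set_option autoImplicit false
open Cfsg

namespace Cfsg.Agent.S2116

open Cfsg.Agent.Schur Cfsg.Agent.Schur.SmallSylow Cfsg.Agent.SpinCover
open Subgroup Equiv
open scoped commutatorElement

/-- The generators of a dihedral Sylow subgroup. -/
def rP (m : ℕ) : Perm (Fin (m + 4)) := swap 0 1 * swap 1 2 * swap 2 3 * swap 4 5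

def sP (m : ℕ) : Perm (Fin (m + 4)) := swap 0 2 * swap 4 5

theorem dihedral_data : ∀ m : ℕ, m = 2 ∨ m = 3 → Perm.sign (rP m) = 1 ∧ Perm.sign (sP m) = 1 ∧
    rP m ^ 4 = 1 ∧ rP m ^ 2 ≠ 1 ∧ sP m * sP m = 1 ∧ sP m * rP m * sP m = rP m * rP m * rP m ∧
    sP m ≠ 1 ∧ sP m ≠ rP m ∧ sP m ≠ rP m ^ 2 ∧ sP m ≠ rP m ^ 3 := by
  intro m hm
  rcases hm with rfl | rfl <;> decide +kernel

theorem local_two (m : ℕ) (hm : m = 2 ∨ m = 3) {Δ : Type} [Group Δ] [Finite Δ]
    (σ : Δ →* alternatingGroup (Fin (m + 4))) (hs : Function.Surjective σ) (hz : σ.ker ≤ center Δ) :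
    ∃ P : Sylow 2 Δ, Nat.card ↥(⁅(P : Subgroup Δ), (P : Subgroup Δ)⁆ ⊓ σ.ker) ∣ 2 := by
  obtain ⟨hr, hsg, hr4, hr2, hs2, hsr, hn0, hn1, hn2, hn3⟩ := dihedral_data m hm
  let r : alternatingGroup (Fin (m + 4)) := ⟨rP m, Perm.mem_alternatingGroup.2 hr⟩
  let s : alternatingGroup (Fin (m + 4)) := ⟨sP m, Perm.mem_alternatingGroup.2 hsg⟩
  have er4 : r ^ 4 = 1 := Subtype.ext hr4
  have er2 : r ^ 2 ≠ 1 := fun h => hr2 (congrArg Subtype.val h)
  have es2 : s * s = 1 := Subtype.ext hs2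
  have esi : s⁻¹ = s := inv_eq_of_mul_eq_one_right es2
  have esr : s * r * s⁻¹ = r⁻¹ := by
    rw [esi]
    refine eq_inv_of_mul_eq_one_left (Subtype.ext ?_)
    show sP m * rP m * sP m * rP m = 1
    rw [hsr, ← pow_two, ← pow_succ, ← pow_succ]
    exact hr4
  haveI : Fact (Nat.Prime 2) := ⟨Nat.prime_two⟩
  have hQ : IsPGroup 2 ↥(zpowers r ⊔ zpowers s) := by
    have h1 : IsPGroup 2 (zpowers r) := IsPGroup.of_card_dvd_pow (n := 2)
      (by rw [Nat.card_zpowers]; exact orderOf_dvd_of_pow_eq_one er4)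
    have h2 : IsPGroup 2 (zpowers s) := IsPGroup.of_card_dvd_pow (n := 1)
      (by rw [Nat.card_zpowers]; exact orderOf_dvd_of_pow_eq_one (by rw [pow_one, pow_two, es2]))
    refine h1.to_sup_of_normal_left' h2 (zpowers_le.2 (mem_normalizer_iff.2 fun y => ?_))
    have hconj : ∀ y ∈ zpowers r, s * y * s⁻¹ ∈ zpowers r := by
      intro y hy
      obtain ⟨i, rfl⟩ := mem_zpowers_iff.1 hy
      rw [← conj_zpow, esr]
      exact zpow_mem (inv_mem (mem_zpowers r)) i
    refine ⟨hconj y, fun hy => ?_⟩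
    have := hconj _ hy
    rw [esi] at this
    rwa [show s * (s * y * s) * s = (s * s) * y * (s * s) by group, es2, one_mul, mul_one] at this
  obtain ⟨P, hP⟩ := exists_sylow_le_map σ hs hQ
  refine ⟨P, card_local_dihedral σ hz P (hP (mem_sup_left (mem_zpowers r)))
    (hP (mem_sup_right (mem_zpowers s))) er4 er2 es2 esr ?_⟩
  obtain ⟨b, hG, hb⟩ : ∃ b, Nat.card (alternatingGroup (Fin (m + 4))) = 2 ^ 3 * b ∧ ¬ 2 ∣ b := by
    rw [nat_card_alternatingGroup, Nat.card_fin]
    rcases hm with rfl | rfl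
    · exact ⟨45, rfl, by norm_num⟩
    · exact ⟨315, rfl, by norm_num⟩
  have h8 : Nat.card ((P : Subgroup Δ).map σ) ∣ 2 ^ 3 := card_map_dvd σ _ P.isPGroup' hG hb
  have hle : closure {r, s} ≤ (P : Subgroup Δ).map σ := (closure_le _).2 (by
    rintro x (rfl | rfl)
    · exact hP (mem_sup_left (mem_zpowers _))
    · exact hP (mem_sup_right (mem_zpowers _)))
  refine (eq_of_le_of_card_ge hle (le_trans (Nat.le_of_dvd (by norm_num) h8) ?_)).ge
  have h4 : orderOf r = 2 ^ (1 + 1) := orderOf_eq_prime_pow (by simpa using er2) (by simpa using er4)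
  have hlt : zpowers r < closure {r, s} := by
    refine lt_of_le_of_ne (zpowers_le.2 (subset_closure (by simp))) fun h => ?_
    have hsm : s ∈ zpowers r := h ▸ subset_closure (by simp)
    rw [mem_zpowers_iff_mem_range_orderOf, Finset.mem_image] at hsm
    obtain ⟨i, hi, e⟩ := hsm
    rw [Finset.mem_range, h4] at hi
    have e' : rP m ^ i = sP m := by
      have := congrArg Subtype.val e
      rwa [SubgroupClass.coe_pow] at this
    norm_num at hi
    interval_cases i
    · exact hn0 (by rw [← e', pow_zero])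
    · exact hn1 (by rw [← e', pow_one])
    · exact hn2 e'.symm
    · exact hn3 e'.symm
  have h1 : Nat.card (zpowers r) < Nat.card (closure {r, s} : Subgroup (alternatingGroup (Fin (m + 4)))) :=
    lt_of_le_of_ne (card_le_of_le hlt.le) fun h => hlt.ne (eq_of_le_of_card_ge hlt.le h.ge)
  obtain ⟨k, hk, hk'⟩ := (Nat.dvd_prime_pow Nat.prime_two).1 ((card_dvd_of_le hle).trans h8)
  rw [Nat.card_zpowers, h4, hk'] at h1
  rw [hk']
  interval_cases k <;> simp at h1 ⊢

theorem local_all (n : ℕ) (hn : n = 6 ∨ n = 7) {Δ : Type} [Group Δ] [Finite Δ]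
    (σ : Δ →* alternatingGroup (Fin n)) (hs : Function.Surjective σ) (hz : σ.ker ≤ center Δ)
    (p : ℕ) (hp : p.Prime) :
    ∃ P : Sylow p Δ, Nat.card ↥(⁅(P : Subgroup Δ), (P : Subgroup Δ)⁆ ⊓ σ.ker) ∣ Nat.gcd p 6 := by
  haveI := Fact.mk hp
  obtain ⟨m, rfl, hm⟩ : ∃ m, n = m + 4 ∧ (m = 2 ∨ m = 3) := ⟨n - 4, by omega, by omega⟩
  have hG : Nat.card (alternatingGroup (Fin (m + 4))) = if m = 2 then 360 else 2520 := by
    rw [nat_card_alternatingGroup, Nat.card_fin]
    rcases hm with rfl | rfl <;> rfl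
  by_cases h2 : p = 2
  · subst h2
    exact local_two m hm σ hs hz
  by_cases h3 : p = 3
  · subst h3
    refine ⟨default, card_local_prime_sq σ hz hp _ ?_⟩
    rcases hm with rfl | rfl
    · exact card_map_dvd σ _ (default : Sylow 3 Δ).isPGroup' (a := 2) (b := 40) (by rw [hG]; rfl) (by norm_num)
    · exact card_map_dvd σ _ (default : Sylow 3 Δ).isPGroup' (a := 2) (b := 280) (by rw [hG]; rfl) (by norm_num)
  refine ⟨default, ?_⟩
  rw [card_local_prime σ hz hp _ ?_]
  · exact one_dvd _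
  obtain ⟨k, hk⟩ := IsPGroup.iff_card.1 ((default : Sylow p Δ).isPGroup'.map σ)
  have h1 : p ^ k ∣ 2520 := by
    rw [← hk]
    refine (card_subgroup_dvd_card _).trans ?_
    rw [hG]; split_ifs <;> norm_num
  have hco : ∀ q a, q.Prime → p ≠ q → Nat.Coprime (p ^ k) (q ^ a) := fun q a hq hne =>
    Nat.Coprime.pow k a ((Nat.coprime_primes hp hq).2 hne)
  have h35 : p ^ k ∣ 35 := (hco 3 2 Nat.prime_three h3).dvd_of_dvd_mul_left
    ((hco 2 3 Nat.prime_two h2).dvd_of_dvd_mul_left (show p ^ k ∣ 2 ^ 3 * (3 ^ 2 * 35) from h1))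
  rw [hk]
  rcases Nat.lt_or_ge k 2 with h | h
  · exact (Nat.pow_dvd_pow p (Nat.le_of_lt_succ h)).trans (pow_one p).dvd
  · exfalso
    have hsq : p * p ∣ 35 := (pow_two p) ▸ (Nat.pow_dvd_pow p h).trans h35
    exact hp.ne_one (Nat.isUnit_iff.1 ((show Squarefree 35 by decide +kernel) p hsq))

theorem double_stem {n : ℕ} (h4 : 4 ≤ n) :
    Cfsg.IsStemExtension (General.proj (n := n)) := by
  refine ⟨General.proj_surjective (by omega), ?_, ?_⟩ <;> rw [General.ker_eq, zpowers_le]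
  · exact General.z_mem_center
  · exact General.z_mem_commutator h4

/-- Exceptional Schur multipliers of the alternating groups: for n = 6 and n = 7 the Schur multiplier of the alternating group of degree n is cyclic of order 6 (here the Schur multiplier is described through stem extensions, as in the definitions). -/
theorem result (n : ℕ) (hn : n = 6 ∨ n = 7) : Cfsg.HasCyclicSchurMultiplier (alternatingGroup (Fin n)) 6 := by
  obtain ⟨m, rfl, h4, h5⟩ : ∃ m, n = m + 2 ∧ 4 ≤ m ∧ m ≤ 5 := ⟨n - 2, by omega, by omega, by omega⟩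
  haveI : Finite (General.cover (m + 2)) := inferInstance
  have hB : ∀ b ∈ (General.proj (n := m + 2)).ker, b ^ 2 = 1 := by
    intro b hb
    rw [General.ker_eq] at hb
    obtain ⟨i, rfl⟩ := mem_zpowers_iff.1 hb
    rw [← zpow_natCast, ← zpow_mul, mul_comm, zpow_mul, zpow_natCast, pow_two, General.z_sq, one_zpow]
  have hA : ∀ a ∈ (Triple.proj h5).ker, a ^ 3 = 1 := fun a ha => Triple.ker_pow_three h5 ha
  obtain ⟨hst, ⟨e⟩⟩ := isStemExtension_fibre (double_stem (n := m + 2) (by omega))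
    (Triple.isStemExtension h4 h5) (by norm_num : Nat.Coprime 2 3) hB hA
  refine hasCyclicSchurMultiplier_of (by decide +kernel) _ hst ?_
    fun Δ _ _ σ hσ p hp => local_all _ hn σ hσ.1 hσ.2.1 p hp
  rw [Nat.card_congr e.toEquiv, Nat.card_prod, General.ker_eq, Triple.ker_eq, Nat.card_zpowers,
    Nat.card_zpowers, General.orderOf_z, Triple.orderOf_Wmem]

end Cfsg.Agent.S2116
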