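import Cfsg.Statements.S2118
import Cfsg.Agent.Lib.Schur.SmallSylow
import Cfsg.Agent.Lib.Schur.FibreProduct
import Cfsg.Agent.Lib.SpinCover.Triple
import Cfsg.Agent.Lib.PSL2.SmallIso
import Cfsg.Agent.Lib.SmallSimple.Order360
import Cfsg.Agent.S2117

set_option autoImplicit false
open Cfsg

namespace Cfsg.Agent.S2118

open Cfsg.Agent.Schur Cfsg.Agent.Schur.SmallSylow Cfsg.Agent.SpinCover
open Subgroup Matrix
open scoped MatrixGroups commutatorElement

/-- For the field with 9 elements, the special linear group SL₂ has Schur multiplier cyclic of order 3 (here the Schur multiplier is described through stem extensions, as in the definitions). -/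
theorem result {F : Type*} [Field F] [Fintype F] (hF : Fintype.card F = 9) : Cfsg.HasCyclicSchurMultiplier (Matrix.SpecialLinearGroup (Fin 2) F) 3 := by
  have h2 : (2 : F) ≠ 0 := by rw [← PSL2.odd_card_iff, hF]; decide
  have := PSL2.psl_isSimpleGroup (F := F) (by omega)
  have hcard : Nat.card PSL(2, F) = 360 := by
    have := PSL2.two_mul_card_PSL h2
    rw [hF] at this
    omega
  obtain ⟨e⟩ := SmallSimple.iso_alternating_six hcard
  let ψ : SL(2, F) →* alternatingGroup (Fin (4 + 2)) := e.toMonoidHom.comp PSL2.mk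
  have hψs : Function.Surjective ψ := e.surjective.comp PSL2.mk_surjective
  have hψ2 : ∀ b ∈ ψ.ker, b ^ 2 = 1 := by
    intro b hb
    rcases PSL2.mk_eq_one.1 (e.injective ((show e (PSL2.mk b) = 1 from hb).trans (map_one e).symm))
      with rfl | rfl
    · exact one_pow 2
    · exact neg_one_sq
  have h5 : (4 : ℕ) ≤ 5 := by norm_num
  have hA : ∀ a ∈ (Triple.proj h5).ker, a ^ 3 = 1 := fun a ha => Triple.ker_pow_three h5 ha
  have hT := Triple.isStemExtension (le_refl 4) h5
  let τ := fibreSnd (Triple.proj h5) ψ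
  have hker : ∀ x : fibre (Triple.proj h5) ψ, x ∈ τ.ker →
      x.1.1 ∈ (Triple.proj h5).ker ∧ x.1.2 = 1 := fun x hx => by
    have hx2 : x.1.2 = 1 := hx
    refine ⟨?_, hx2⟩
    rw [MonoidHom.mem_ker, mem_fibre.1 x.2, hx2, map_one]
  have hτ : Cfsg.IsStemExtension τ := by
    refine ⟨fibreSnd_surjective hT.1 _, fun x hx => ?_, fun x hx => ?_⟩
    · obtain ⟨h1, h2⟩ := hker x hx
      exact mem_center_iff.2 fun g => Subtype.ext (Prod.ext (mem_center_iff.1 (hT.2.1 h1) _)
        (by show g.1.2 * x.1.2 = x.1.2 * g.1.2; rw [h2, one_mul, mul_one]))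
    · obtain ⟨h1, h2⟩ := hker x hx
      exact exists_zpow_fst _ hT.1 hψs (by norm_num : Nat.Coprime 3 2) hT.2.2 hA hψ2 h1 x
        (Prod.ext rfl h2)
  let E : τ.ker ≃ (Triple.proj h5).ker :=
    { toFun := fun x => ⟨_, (hker x.1 x.2).1⟩
      invFun := fun a => ⟨⟨(a.1, 1), mem_fibre.2 (by rw [map_one]; exact a.2)⟩, rfl⟩
      left_inv := fun x => Subtype.ext (Subtype.ext (Prod.ext rfl (hker x.1 x.2).2.symm))
      right_inv := fun a => rfl }
  refine hasCyclicSchurMultiplier_of (by decide +kernel) τ hτ ?_ fun Δ _ _ σ hσ p hp => ?_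
  · rw [Nat.card_congr E, Triple.ker_eq, Nat.card_zpowers, Triple.orderOf_Wmem]
  haveI := Fact.mk hp
  refine ⟨default, ?_⟩
  by_cases h3 : p = 3
  · subst h3
    refine card_local_prime_sq σ hσ.2.1 hp _ (card_map_dvd σ _
      (default : Sylow 3 Δ).isPGroup' (a := 2) (b := 80) ?_ (by norm_num))
    rw [PSL2.card_SL, hF]; rfl
  have hpF : (p : F) ≠ 0 := by
    intro h0
    apply h3
    have h1 : ringChar F = p := CharP.ringChar_of_prime_eq_zero hp h0
    haveI : CharP F p := by rw [← h1]; exact ringChar.charP F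
    obtain ⟨k, -, hk⟩ := FiniteField.card F p
    rw [hF] at hk
    have : p ∣ 3 ^ 2 := by
      rw [show (3 : ℕ) ^ 2 = 9 by norm_num, hk]
      exact dvd_pow_self p k.ne_zero
    exact (Nat.prime_dvd_prime_iff_eq hp Nat.prime_three).1 (hp.dvd_of_dvd_pow this)
  rw [S2117.commutator_inf_ker_cross σ hσ.2.1 hpF _ (default : Sylow p Δ).isPGroup', card_bot]
  exact one_dvd _

end Cfsg.Agent.S2118
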