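import Cfsg.Statements.S0102
import Cfsg.Agent.Lib.Transfer.Central

set_option autoImplicit false
open Cfsg

namespace Cfsg.Agent.S0102

/-- A finite perfect group with cyclic Sylow p-subgroups has no perfect central extension whose kernel has order divisible by p. -/
theorem result {G : Type*} {H : Type*} [Group G] [Group H] [Finite G] [Finite H] (hG : commutator G = ⊤) {p : ℕ} [Fact p.Prime] (hcyc : ∀ P : Sylow p G, IsCyclic P) (σ : H →* G) (hσ : Function.Surjective σ) (hz : σ.ker ≤ Subgroup.center H) (hH : commutator H = ⊤) : ¬ p ∣ Nat.card σ.ker := by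
  intro hdvd
  obtain ⟨x, hx⟩ := exists_prime_orderOf_dvd_card' p hdvd
  let P : Sylow p H := default
  haveI hcy : IsCyclic ((P : Subgroup H).map σ) := hcyc (P.mapSurjective hσ)
  haveI : IsMulCommutative P := by
    refine ⟨⟨commutative_of_cyclic_center_quotient (σ.subgroupMap (P : Subgroup H)) fun y hy => ?_⟩⟩
    rw [Subgroup.mem_center_iff]
    intro z
    apply Subtype.ext
    exact Subgroup.mem_center_iff.1 (hz (show (y : H) ∈ σ.ker from congrArg Subtype.val hy)) (z : H)
  apply Transfer.not_dvd_orderOf_central_commutator P (hz x.2) (hH ▸ Subgroup.mem_top (x : H))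
  rw [Subgroup.orderOf_coe, hx]

end Cfsg.Agent.S0102
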