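import Cfsg.Statements.S0256
import Cfsg.Agent.Lib.GL.FourTwo

set_option autoImplicit false
open Cfsg

namespace Cfsg.Agent.S0256

/-- PSL_4(2) is isomorphic to A_8. -/
theorem result {F : Type*} [Field F] [Fintype F] (hF : Fintype.card F = 2) : Nonempty (Matrix.ProjectiveSpecialLinearGroup (Fin 4) F ≃* alternatingGroup (Fin 8)) := by
  obtain ⟨e⟩ := GL.FourTwo.iso_alternating
  let σ : ZMod 2 ≃+* F := FiniteField.ringEquivOfCardEq (by rw [ZMod.card, hF])
  let φ : Matrix.SpecialLinearGroup (Fin 4) (ZMod 2) →* Matrix.SpecialLinearGroup (Fin 4) F :=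
    Matrix.SpecialLinearGroup.map σ.toRingHom
  have hinj : Function.Injective φ := fun A B h => Subtype.ext (Matrix.ext fun i j =>
    σ.injective (congrFun₂ (congrArg Subtype.val h) i j))
  have hbij : Function.Bijective φ := (Nat.bijective_iff_injective_and_card φ).2
    ⟨hinj, by rw [GL.FourTwo.card_eq (ZMod.card 2), GL.FourTwo.card_eq hF]⟩
  exact ⟨((GL.FourTwo.pslEquiv hF).trans (MulEquiv.ofBijective φ hbij).symm).trans e⟩

end Cfsg.Agent.S0256
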