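import Cfsg.Statements.S4210
import Mathlib
import Cfsg.Agent.S4225

set_option autoImplicit false
open Cfsg

namespace Cfsg.Agent.S4210

section helpers

variable {G : Type*} [Group G] [Finite G] {p : ℕ} [Fact p.Prime]

theorem pow_eq_of_omega (hG : Cfsg.IsRegularPGroup p G) {a b : G} {k : ℕ}
    (h : (a * b⁻¹) ^ p ^ k = 1) : a ^ p ^ k = b ^ p ^ k := by
  set x := a * b⁻¹ with hx
  have hz : (x⁻¹ * b⁻¹ * x * b) ^ p ^ k = 1 := by
    have e : x⁻¹ * b⁻¹ * x * b = x⁻¹ * (b⁻¹ * x * (b⁻¹)⁻¹) := by group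
    rw [e]
    exact (S4225.omega hG k).mul_mem ((S4225.omega hG k).inv_mem h)
      ((S4225.omega_normal hG k).conj_mem x h b⁻¹)
  have := S4225.mul_pow_of_omega hG hz
  rw [h, one_mul] at this
  rwa [show x * b = a by rw [hx]; group] at this

theorem omega_of_pow_eq (hG : Cfsg.IsRegularPGroup p G) (k : ℕ) (K : Subgroup G) :
    ∀ a ∈ K, ∀ b ∈ K, a ^ p ^ k = b ^ p ^ k → (a * b⁻¹) ^ p ^ k = 1 := by
  induction K using WellFoundedLT.induction with
  | ind K ih =>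
    intro a ha b hb h
    set L := Subgroup.closure ({a, b} : Set G) with hL
    have haL : a ∈ L := Subgroup.subset_closure (Set.mem_insert a _)
    have hbL : b ∈ L := Subgroup.subset_closure (Set.mem_insert_of_mem a rfl)
    have hLK : L ≤ K := (Subgroup.closure_le _).2 (Set.insert_subset ha (Set.singleton_subset_iff.2 hb))
    rcases hLK.eq_or_lt with heq | hlt
    swap
    · exact ih L hlt a haL b hbL h
    by_cases hcyc : K ≤ Subgroup.zpowers a
    · obtain ⟨i, hi⟩ := Subgroup.mem_zpowers_iff.1 (hcyc hb)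
      rw [((hi ▸ (Commute.refl a).zpow_right i : Commute a b)).inv_right.mul_pow, inv_pow, h, mul_inv_cancel]
    obtain ⟨M, hMK, haM, hMn, -⟩ := S4225.exists_maximal_in hG.1 ha hcyc
    have h2 : a ^ p ^ k = (b * a * b⁻¹) ^ p ^ k := by
      rw [conj_pow, h, ((Commute.refl b).pow_right (p ^ k)).eq, mul_inv_cancel_right]
    have h3 := ih M hMK a haM _ (hMn b hb a haM) h2
    have hab : (a⁻¹ * (b⁻¹)⁻¹ * a * b⁻¹) ^ p ^ k = 1 := by
      have h4 := (S4225.omega_normal hG k).conj_mem _ ((S4225.omega hG k).inv_mem h3) a⁻¹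
      have e : a⁻¹ * (b⁻¹)⁻¹ * a * b⁻¹ = a⁻¹ * (a * (b * a * b⁻¹)⁻¹)⁻¹ * (a⁻¹)⁻¹ := by group
      rw [e]
      exact h4
    rw [S4225.mul_pow_of_omega hG hab, inv_pow, h, mul_inv_cancel]

theorem pow_eq_iff (hG : Cfsg.IsRegularPGroup p G) (a b : G) (k : ℕ) :
    a ^ p ^ k = b ^ p ^ k ↔ (a * b⁻¹) ^ p ^ k = 1 :=
  ⟨omega_of_pow_eq hG k ⊤ a (Subgroup.mem_top a) b (Subgroup.mem_top b), pow_eq_of_omega hG⟩

end helpers

/-- In a regular `p`-group, for all elements `a`, `b` and every power `q = p^k`: `a^q = b^q` if and only if `(ab⁻¹)^q = 1`. -/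
theorem result {G : Type*} [Group G] [Finite G] {p : ℕ} [Fact p.Prime] (hG : Cfsg.IsRegularPGroup p G) (a b : G) (k : ℕ) : a ^ p ^ k = b ^ p ^ k ↔ (a * b⁻¹) ^ p ^ k = 1 := by
  exact pow_eq_iff hG a b k

end Cfsg.Agent.S4210
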