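import Cfsg.Statements.S4224
import Mathlib
import Cfsg.Agent.S4210

set_option autoImplicit false
open Cfsg

namespace Cfsg.Agent.S4224

/-- In a regular `p`-group, for all elements `a`, `b` and every power `q = p^k`: `a^q` commutes with `b` if and only if the commutator `a⁻¹b⁻¹ab` has `q`-th power equal to `1`. -/
theorem result {G : Type*} [Group G] [Finite G] {p : ℕ} [Fact p.Prime] (hG : Cfsg.IsRegularPGroup p G) (a b : G) (k : ℕ) : a ^ p ^ k * b = b * a ^ p ^ k ↔ (a⁻¹ * b⁻¹ * a * b) ^ p ^ k = 1 := by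
  have h1 := S4210.pow_eq_iff hG a⁻¹ (b⁻¹ * a⁻¹ * b) k
  have e1 : a⁻¹ * (b⁻¹ * a⁻¹ * b)⁻¹ = a⁻¹ * b⁻¹ * a * b := by group
  have e2 : (b⁻¹ * a⁻¹ * b) ^ p ^ k = b⁻¹ * (a ^ p ^ k)⁻¹ * b := by
    have := conj_pow (i := p ^ k) (a := b⁻¹) (b := a⁻¹)
    rw [inv_inv] at this
    rw [this, inv_pow]
  rw [e1, e2, inv_pow] at h1
  rw [← h1]
  set u := a ^ p ^ k
  constructor
  · intro h
    calc u⁻¹ = b⁻¹ * (b * u⁻¹) := (inv_mul_cancel_left _ _).symm
      _ = b⁻¹ * (u⁻¹ * b) := by rw [(show Commute u b from h).inv_left.eq]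
      _ = _ := (mul_assoc _ _ _).symm
  · intro h
    have h' : b * u⁻¹ = u⁻¹ * b := by
      conv_lhs => rw [h]
      group
    calc u * b = u * (b * u⁻¹) * u := by group
      _ = u * (u⁻¹ * b) * u := by rw [h']
      _ = b * u := by group

end Cfsg.Agent.S4224
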