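import Cfsg.Statements.S4018
import Cfsg.Agent.Lib.SmallDihedral.Chars
import Cfsg.Agent.Lib.Transfer.Burnside
import Cfsg.Agent.Lib.Transfer.Residual
import Cfsg.Agent.Lib.Transfer.Thompson
-- import your own Cfsg.Agent.* helpers here

set_option autoImplicit false
open Cfsg Subgroup

namespace Cfsg.Agent.S4018

/-- Let G be a finite group with an abelian Sylow 3-subgroup P such that the normalizer of P has order 4·#P, the centralizer C of P has order 2·#P, C meets each of its conjugates by elements outside its normalizer trivially, and every proper subgroup of G of even order has order dividing 4·#P. Then G is not simple. -/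
theorem result {G : Type*} [Group G] [Finite G]
    (P : Sylow 3 G) (hab : IsMulCommutative P)
    (hN : Nat.card (Subgroup.normalizer ((P : Subgroup G) : Set G)) = 4 * Nat.card P)
    (hC : Nat.card (Subgroup.centralizer (P : Set G)) = 2 * Nat.card P)
    (hTI : Cfsg.IsTISubset (Subgroup.centralizer (P : Set G) : Set G))
    (heven : ∀ H : Subgroup G, H ≠ ⊤ → 2 ∣ Nat.card H → Nat.card H ∣ 4 * Nat.card P) :
    ¬ IsSimpleGroup G := by
  classical
  intro hS
  haveI := hS
  haveI := Fintype.ofFinite G
  haveI : Fact (Nat.Prime 2) := ⟨Nat.prime_two⟩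
  haveI : Fact (Nat.Prime 3) := ⟨Nat.prime_three⟩
  set q := Nat.card P with hqdef
  set C := centralizer (P : Set G) with hCdef
  set N := normalizer ((P : Subgroup G) : Set G) with hNdef
  have hq0 : 0 < q := Nat.card_pos
  obtain ⟨a, ha⟩ := IsPGroup.iff_card.1 P.2
  rw [← hqdef] at ha
  have hodd : Odd q := by rw [ha]; exact Odd.pow (by decide)
  have hCN : C ≤ N := centralizer_le_normalizer _
  have hPbot : (P : Subgroup G) ≠ ⊥ := by
    intro e
    have h1 : N = ⊤ := by rw [hNdef, e]; exact normalizer_eq_top_iff.2 inferInstance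
    have h2 : C = ⊤ := by
      rw [hCdef, eq_top_iff]
      intro x _
      rw [mem_centralizer_iff]
      intro y hy
      replace hy : y ∈ (P : Subgroup G) := hy
      rw [e] at hy
      rw [mem_bot.1 hy, one_mul, mul_one]
    rw [h1] at hN
    rw [h2] at hC
    omega
  have ha1 : 1 ≤ a := by
    by_contra h
    exact hPbot (eq_bot_of_card_eq _ (by rw [← hqdef, ha, show a = 0 by omega, pow_zero]))
  have hq3 : 3 ≤ q := by
    rw [ha]; exact (pow_one 3).ge.trans (Nat.pow_le_pow_right (by norm_num) ha1)
  have hNle : 4 * q ≤ Nat.card G := hN ▸ card_le_card_group N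
  have hcenter : center G = ⊥ := by
    refine (IsSimpleGroup.eq_bot_or_eq_top_of_normal (center G) inferInstance).resolve_right fun e => ?_
    have h2 : C = ⊤ := centralizer_eq_top_iff_subset.2 fun x _ => by rw [e]; trivial
    rw [h2, card_top] at hC
    omega
  have hcent_bot : ∀ z : G, (∀ g, g * z = z * g) → z = 1 := fun z hz => by
    have : z ∈ center G := mem_center_iff.2 hz
    rwa [hcenter, mem_bot] at this
  have hperf : _root_.commutator G = ⊤ := by
    refine (IsSimpleGroup.eq_bot_or_eq_top_of_normal _ inferInstance).resolve_left fun e => hPbot ?_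
    rw [Subgroup.eq_bot_iff_forall]
    intro x _
    exact hcent_bot x fun g => commutatorElement_eq_one_iff_mul_comm.1
      (mem_bot.1 (e ▸ commutator_mem_commutator (mem_top g) (mem_top x)))
  -- `C` and its involution
  have hPcomm : ∀ x ∈ (P : Subgroup G), ∀ y ∈ (P : Subgroup G), x * y = y * x := fun x hx y hy => by
    exact congrArg Subtype.val (hab.is_comm.comm (⟨x, hx⟩ : P) ⟨y, hy⟩)
  have hPC : (P : Subgroup G) ≤ C := fun x hx => mem_centralizer_iff.2 fun y hy => hPcomm y hy x hx
  obtain ⟨t', ht'⟩ := exists_prime_orderOf_dvd_card' (G := C) 2 (by rw [hC]; exact dvd_mul_right 2 _)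
  obtain ⟨t, htC⟩ := t'
  have ht : orderOf t = 2 := by rwa [← Subgroup.orderOf_coe] at ht'
  have hC_eq : C = closure (((P : Subgroup G) : Set G) ∪ {t}) := by
    refine (eq_of_le_of_card_ge ((closure_le _).2 (Set.union_subset hPC
      (Set.singleton_subset_iff.2 htC))) (Nat.le_of_dvd Nat.card_pos ?_)).symm
    rw [hC]
    refine Nat.Coprime.mul_dvd_of_dvd_of_dvd (Nat.coprime_two_left.2 hodd) ?_
      (card_dvd_of_le fun x hx => subset_closure (Set.mem_union_left _ hx))
    rw [← ht, ← Nat.card_zpowers]
    exact card_dvd_of_le (zpowers_le.2 (subset_closure (Set.mem_union_right _ rfl)))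
  have hcomm : ∀ x ∈ C, ∀ y ∈ C, x * y = y * x := by
    have : IsMulCommutative (closure (((P : Subgroup G) : Set G) ∪ {t})) :=
      isMulCommutative_closure (by
        rintro x (hx | rfl) y (hy | rfl)
        · exact hPcomm x hx y hy
        · exact mem_centralizer_iff.1 htC x hx
        · exact (mem_centralizer_iff.1 htC y hy).symm
        · rfl)
    intro x hx y hy
    rw [hC_eq] at hx hy
    exact congrArg Subtype.val (this.is_comm.comm ⟨x, hx⟩ ⟨y, hy⟩)
  have hPidx : ((P : Subgroup G).subgroupOf C).index = 2 := by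
    have h1 := ((P : Subgroup G).subgroupOf C).card_mul_index
    rw [Nat.card_congr (subgroupOfEquivOfLe hPC).toEquiv, ← hqdef, hC, mul_comm 2 q] at h1
    exact Nat.eq_of_mul_eq_mul_left hq0 h1
  have hsqP : ∀ x ∈ (P : Subgroup G), x * x = 1 → x = 1 := fun x hx hxx => by
    have h1 : orderOf x ∣ q := by
      rw [← Subgroup.orderOf_mk x hx]; exact orderOf_dvd_natCard _
    have h2 : orderOf x ∣ 2 := orderOf_dvd_of_pow_eq_one (by rwa [pow_two])
    exact orderOf_eq_one_iff.1 (Nat.eq_one_of_dvd_coprimes (Nat.coprime_two_right.2 hodd) h1 h2)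
  have ht1 : t ≠ 1 := fun e => by rw [e, orderOf_one] at ht; exact absurd ht (by norm_num)
  have htt : t * t = 1 := Involution.sq_of_orderOf_two ht
  have huniq : ∀ x ∈ C, x * x = 1 → x ≠ 1 → x = t := by
    intro x hx hxx hx1
    have hmem := Subgroup.mul_mem_iff_of_index_two hPidx (a := ⟨x, hx⟩) (b := ⟨t, htC⟩)
    simp only [mem_subgroupOf, Subgroup.coe_mul] at hmem
    have hxt := hmem.2 (iff_of_false (fun h => hx1 (hsqP x h hxx)) (fun h => ht1 (hsqP t h htt)))
    have h1 : x * t = 1 := hsqP _ hxt (by
      rw [(show Commute t x from hcomm t htC x hx).mul_mul_mul_comm, hxx, htt, one_mul])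
    rw [eq_inv_of_mul_eq_one_left h1, inv_eq_of_mul_eq_one_right htt]
  have hconjC : ∀ n ∈ N, ∀ c ∈ C, n * c * n⁻¹ ∈ C := by
    intro n hn c hc
    refine mem_centralizer_iff.2 fun y hy => ?_
    have hy' : n⁻¹ * y * n ∈ (P : Subgroup G) := by
      have := (mem_normalizer_iff.1 (inv_mem hn) y).1 hy
      rwa [inv_inv] at this
    have hcy := mem_centralizer_iff.1 hc _ hy'
    calc y * (n * c * n⁻¹) = n * (n⁻¹ * y * n * c) * n⁻¹ := by group
      _ = n * (c * (n⁻¹ * y * n)) * n⁻¹ := by rw [hcy]
      _ = n * c * n⁻¹ * y := by group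
  have hN_even : ∀ M : Subgroup G, M ≠ ⊤ → N ≤ M → M = N := by
    intro M hM hle
    have h1 : 2 ∣ Nat.card M := by
      refine Nat.dvd_trans ?_ (card_dvd_of_le hle)
      rw [hN]; exact dvd_mul_of_dvd_left (by norm_num) _
    have h2 := heven M hM h1
    refine (eq_of_le_of_card_ge hle ?_).symm
    rw [hN]
    exact Nat.le_of_dvd (by omega) h2
  have hti : ∀ g : G, ∀ c ∈ C, c ≠ 1 → g * c * g⁻¹ ∈ C → g ∈ N := by
    intro g c hc hc1 hg
    by_contra hgN
    refine hc1 (hTI g (fun hmem => hgN ?_) c hc hg)
    have hle : N ≤ normalizer ((C : Subgroup G) : Set G) := fun n hn => by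
      rw [mem_normalizer_iff]
      refine fun x => ⟨hconjC n hn x, fun h => ?_⟩
      have := hconjC _ (inv_mem hn) _ h
      rwa [show n⁻¹ * (n * x * n⁻¹) * n⁻¹⁻¹ = x by group] at this
    have hne : normalizer ((C : Subgroup G) : Set G) ≠ ⊤ := fun e => by
      rcases (normalizer_eq_top_iff.1 e).eq_bot_or_eq_top with h | h
      · rw [h, card_bot] at hC; omega
      · rw [h, card_top] at hC; omega
    exact hN_even _ hne hle ▸ hmem
  have hcentt : centralizer ({t} : Set G) = N := by
    refine hN_even _ (fun e => ht1 (hcent_bot t fun g => ?_)) fun n hn => ?_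
    · exact mem_centralizer_singleton_iff.1 (e ▸ mem_top g)
    · have h1 : n * t * n⁻¹ = t := by
        refine huniq _ (hconjC n hn t htC) ?_ (fun e => ht1 ?_)
        · rw [show n * t * n⁻¹ * (n * t * n⁻¹) = n * (t * t) * n⁻¹ by group, htt]; group
        · have := congrArg (fun y => n⁻¹ * y * n) e
          simpa [mul_assoc] using this
      rw [mem_centralizer_singleton_iff]
      exact mul_inv_eq_iff_eq_mul.1 h1
  -- a Sylow 2-subgroup
  have htp : IsPGroup 2 (zpowers t) := IsPGroup.of_card (n := 1) (by rw [Nat.card_zpowers, ht, pow_one])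
  obtain ⟨S, htS⟩ := htp.exists_le_sylow
  have htmem : t ∈ (S : Subgroup G) := htS (mem_zpowers t)
  have h4G : 2 ^ 2 ∣ Nat.card G := by
    refine Nat.dvd_trans ?_ N.card_subgroup_dvd_card
    rw [hN]; exact dvd_mul_right 4 _
  have hScard : Nat.card (S : Subgroup G) = 4 := by
    obtain ⟨k, hk⟩ := IsPGroup.iff_card.1 S.2
    have h4 : 2 ^ 2 ∣ Nat.card (S : Subgroup G) := S.pow_dvd_card_of_pow_dvd_card h4G
    have hne : (S : Subgroup G) ≠ ⊤ := fun e => by
      have h3 : 3 ∣ Nat.card G := by
        refine Nat.dvd_trans ?_ (P : Subgroup G).card_subgroup_dvd_card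
        rw [← hqdef, ha]; exact dvd_pow_self 3 (by omega)
      rw [e, card_top] at hk
      rw [hk] at h3
      have := Nat.prime_three.dvd_of_dvd_pow h3
      omega
    have h5 : 2 ^ k ∣ 2 ^ 2 * q := hk ▸ heven _ hne (Nat.dvd_trans (by norm_num) h4)
    have h6 := ((Nat.coprime_two_left.2 hodd).pow_left k).dvd_of_dvd_mul_right h5
    rw [hk] at h4 ⊢
    exact le_antisymm (Nat.le_of_dvd (by norm_num) h6) (Nat.le_of_dvd (by positivity) h4)
  have hS2 : ∀ x ∈ (S : Subgroup G), x * x = 1 := by
    intro x hx
    by_contra hxx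
    haveI : IsCyclic (S : Subgroup G) := by
      refine isCyclic_of_orderOf_eq_card ⟨x, hx⟩ ?_
      rw [hScard, Subgroup.orderOf_mk]
      have h1 : orderOf x ∣ 4 := by
        rw [← hScard, ← Subgroup.orderOf_mk x hx]; exact orderOf_dvd_natCard _
      have h2 : ¬ orderOf x ∣ 2 := fun h => hxx (by
        rw [← pow_two]; exact orderOf_dvd_iff_pow_eq_one.1 h)
      have h3 := Nat.le_of_dvd (by norm_num) h1
      have h4 : orderOf x = 0 ∨ orderOf x = 1 ∨ orderOf x = 2 ∨ orderOf x = 3 ∨ orderOf x = 4 := by omega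
      rcases h4 with e | e | e | e | e <;> rw [e] at h1 h2 ⊢ <;>
        first
        | omega
        | (norm_num at h1)
        | (norm_num at h2)
    have hmin : (Nat.card G).minFac = 2 :=
      (Nat.minFac_eq_two_iff _).2 (Nat.dvd_trans (by norm_num) h4G)
    have := Transfer.hasNormalPComplement_of_normalizer_le_centralizer S
      (IsCyclic.normalizer_le_centralizer hmin ‹_›)
    obtain ⟨S', K, hK, hKc⟩ := this
    rcases hK.eq_bot_or_eq_top with h | h
    · have h1 := hKc.card_mul_card
      rw [h, card_bot, one_mul, S'.card_eq_multiplicity, ← S.card_eq_multiplicity, hScard] at h1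
      omega
    · have h1 := hKc.card_mul_card
      rw [h, card_top, S'.card_eq_multiplicity, ← S.card_eq_multiplicity, hScard] at h1
      omega
  have hScomm : ∀ x ∈ (S : Subgroup G), ∀ y ∈ (S : Subgroup G), x * y = y * x := by
    intro x hx y hy
    rw [eq_inv_of_mul_eq_one_left (hS2 _ (mul_mem hx hy)), mul_inv_rev,
      inv_eq_of_mul_eq_one_right (hS2 x hx), inv_eq_of_mul_eq_one_right (hS2 y hy)]
  have hSN : (S : Subgroup G) ≤ N := fun x hx => by
    rw [← hcentt, mem_centralizer_singleton_iff]
    exact hScomm x hx t htmem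
  -- the inverting involution
  obtain ⟨u, huS, huC⟩ : ∃ u ∈ (S : Subgroup G), u ∉ C := by
    by_contra h
    push Not at h
    have h1 := card_dvd_of_le (show (S : Subgroup G) ≤ C from h)
    rw [hScard, hC] at h1
    obtain ⟨k, hk⟩ := hodd
    omega
  have huu : u * u = 1 := hS2 u huS
  have huN : u ∈ N := hSN huS
  have hu : u⁻¹ = u := inv_eq_of_mul_eq_one_right huu
  have hNidx : (C.subgroupOf N).index = 2 := by
    have h1 := (C.subgroupOf N).card_mul_index
    rw [Nat.card_congr (subgroupOfEquivOfLe hCN).toEquiv, hC, hN,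
      show 4 * q = 2 * q * 2 by ring] at h1
    exact Nat.eq_of_mul_eq_mul_left (by omega) h1
  have humul : ∀ n ∈ N, n ∉ C → u * n ∈ C := by
    intro n hn hnC
    have h1 := Subgroup.mul_mem_iff_of_index_two hNidx (a := ⟨u, huN⟩) (b := ⟨n, hn⟩)
    simp only [mem_subgroupOf, Subgroup.coe_mul] at h1
    exact h1.2 (iff_of_false huC hnC)
  have hfix : ∀ v ∈ (P : Subgroup G), u * v * u⁻¹ = v → v = 1 := by
    intro v hv hvu
    have huv : v * u = u * v := (mul_inv_eq_iff_eq_mul.1 hvu).symm
    have hvN : v ∈ centralizer (N : Set G) := by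
      refine mem_centralizer_iff.2 fun n hn => ?_
      by_cases hnC : n ∈ C
      · exact (mem_centralizer_iff.1 hnC v hv).symm
      · have h1 := mem_centralizer_iff.1 (humul n hn hnC) v hv
        calc n * v = u * ((u * n) * v) := by rw [← mul_assoc, ← mul_assoc, huu, one_mul]
          _ = u * (v * (u * n)) := by rw [h1]
          _ = v * n := by rw [← mul_assoc, ← huv, mul_assoc, ← mul_assoc u u n, huu, one_mul]
    have h2 := Transfer.inf_centralizer_normalizer_inf_commutator_eq_bot P hab
    have h3 : v ∈ (P : Subgroup G) ⊓ centralizer (N : Set G) ⊓ _root_.commutator G :=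
      mem_inf.2 ⟨mem_inf.2 ⟨hv, hvN⟩, hperf ▸ mem_top v⟩
    exact mem_bot.1 (h2.le h3)
  have hinvP : ∀ v ∈ (P : Subgroup G), u * v * u⁻¹ = v⁻¹ := by
    intro v hv
    have hw : u * v * u⁻¹ ∈ (P : Subgroup G) := (mem_normalizer_iff.1 huN v).1 hv
    refine eq_inv_of_mul_eq_one_left (hfix _ (mul_mem hw hv) ?_)
    rw [show u * (u * v * u⁻¹ * v) * u⁻¹ = u * u * v * (u⁻¹ * v * u⁻¹) by group, huu, one_mul, hu]
    exact hPcomm v hv _ (by rwa [hu] at hw)
  have hinv : ∀ c ∈ C, u * c * u⁻¹ = c⁻¹ := by
    intro c hc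
    rw [hC_eq] at hc
    induction hc using Subgroup.closure_induction with
    | mem x hx =>
      rcases hx with hx | rfl
      · exact hinvP x hx
      · rw [hScomm u huS x htmem, mul_inv_cancel_right, inv_eq_of_mul_eq_one_right htt]
    | one => simp
    | mul x y hx hy ihx ihy =>
      rw [← hC_eq] at hx hy
      rw [show u * (x * y) * u⁻¹ = u * x * u⁻¹ * (u * y * u⁻¹) by group, ihx, ihy, mul_inv_rev]
      exact hcomm _ (inv_mem hx) _ (inv_mem hy)
    | inv x _ ihx =>
      rw [show u * x⁻¹ * u⁻¹ = (u * x * u⁻¹)⁻¹ by group, ihx]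
  have hsqN : ∀ n ∈ N, n ∉ C → n * n = 1 := by
    intro n hn hnC
    have h1 := hinv _ (humul n hn hnC)
    rw [mul_inv_rev, hu, ← mul_assoc, huu, one_mul] at h1
    calc n * n = n * (n * u) * u := by rw [mul_assoc, mul_assoc, huu, mul_one]
      _ = 1 := by rw [h1, mul_inv_cancel_left, huu]
  -- all involutions are conjugate to `t`
  have hres : Cfsg.pResidual 2 G = ⊤ := by
    haveI := Transfer.pResidual_normal (G := G) 2
    refine (IsSimpleGroup.eq_bot_or_eq_top_of_normal (Cfsg.pResidual 2 G) inferInstance).resolve_left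
      fun e => hPbot ((Subgroup.eq_bot_iff_forall _).2 fun x hx => ?_)
    have h1 : orderOf x ∣ q := by
      rw [← Subgroup.orderOf_mk x hx]; exact orderOf_dvd_natCard _
    exact mem_bot.1 (e ▸ subset_closure
      (Nat.Coprime.of_dvd_left h1 (Nat.coprime_two_right.2 hodd)))
  have hQi : (zpowers t).relIndex (S : Subgroup G) = 2 := by
    have h1 := ((zpowers t).subgroupOf (S : Subgroup G)).card_mul_index
    rw [Nat.card_congr (subgroupOfEquivOfLe htS).toEquiv, Nat.card_zpowers, ht, hScard] at h1
    rw [Subgroup.relIndex]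
    omega
  have hordconj : ∀ g x : G, orderOf (g * x * g⁻¹) = orderOf x := fun g x => by
    rw [← MulAut.conj_apply]; exact MulEquiv.orderOf_eq _ x
  have hinvconj : ∀ s : G, orderOf s = 2 → IsConj t s := by
    intro s hs
    have hsp : IsPGroup 2 (zpowers s) :=
      IsPGroup.of_card (n := 1) (by rw [Nat.card_zpowers, hs, pow_one])
    obtain ⟨S', hS'⟩ := hsp.exists_le_sylow
    obtain ⟨g, hg⟩ := MulAction.exists_smul_eq G S' S
    have hmem : g * s * g⁻¹ ∈ (S : Subgroup G) := by
      rw [← hg]
      exact Subgroup.smul_mem_pointwise_smul s (MulAut.conj g) (S' : Subgroup G) (hS' (mem_zpowers s))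
    obtain ⟨k, hk⟩ := Transfer.exists_conj_mem_of_pResidual_eq_top S (zpowers t) htS hQi hres
      (g * s * g⁻¹) (by rw [pow_two]; exact hS2 _ hmem) hmem
    have ho : orderOf (k * (g * s * g⁻¹) * k⁻¹) = 2 := by rw [hordconj, hordconj, hs]
    have heq := huniq _ ((zpowers_le.2 htC) hk) (Involution.sq_of_orderOf_two ho)
      (fun e => by rw [e, orderOf_one] at ho; exact absurd ho (by norm_num))
    refine (isConj_iff.2 ⟨k * g, ?_⟩).symm
    rw [← heq]; group
  -- products of two involutions
  have hprod : ∀ x y : G, orderOf x = 2 → orderOf y = 2 → x ≠ y →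
      ∃ g : G, ∃ c ∈ C, c ≠ 1 ∧ g * c * g⁻¹ = x * y := by
    intro x y hx hy hxy
    have hxx := Involution.sq_of_orderOf_two hx
    have hyy := Involution.sq_of_orderOf_two hy
    have hxi := Involution.inv_of_orderOf_two hx
    have hyi := Involution.inv_of_orderOf_two hy
    set z := x * y with hz
    have hz1 : z ≠ 1 := fun e => hxy (by
      rw [eq_inv_of_mul_eq_one_left e, hyi])
    have hxz : x * z * x⁻¹ = z⁻¹ := Involution.invol_conj_mul hxx hyy
    have hyz : y * z * y⁻¹ = z⁻¹ := by
      rw [hz, mul_inv_rev, hxi, hyi, mul_assoc y (x * y) y, mul_assoc x y y, hyy, mul_one]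
    set H := closure ({x, y} : Set G) with hH
    have hxH : x ∈ H := Involution.left_mem_closure_pair x y
    have hyH : y ∈ H := Involution.right_mem_closure_pair x y
    have hHne : H ≠ ⊤ := by
      intro e
      have hn : H ≤ normalizer ((zpowers z : Subgroup G) : Set G) := by
        rw [hH, closure_le]
        have key : ∀ w : G, w * z * w⁻¹ = z⁻¹ → w * w = 1 →
            w ∈ normalizer ((zpowers z : Subgroup G) : Set G) := by
          intro w hw hww
          rw [mem_normalizer_iff]
          have hwk : ∀ k : ℤ, w * z ^ k * w⁻¹ = z ^ (-k) := fun k => by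
            rw [← conj_zpow, hw, inv_zpow']
          intro v
          constructor
          · rintro ⟨k, rfl⟩
            exact ⟨-k, (hwk k).symm⟩
          · rintro ⟨k, hk⟩
            simp only at hk
            refine ⟨-k, ?_⟩
            simp only
            rw [← hwk k, hk, inv_eq_of_mul_eq_one_right hww,
              show w * (w * v * w) * w = (w * w) * v * (w * w) by group, hww, one_mul, mul_one]
        rintro w (rfl | rfl)
        · exact key _ hxz hxx
        · exact key _ hyz hyy
      have hnor : (zpowers z).Normal := normalizer_eq_top_iff.1 (top_le_iff.1 (e ▸ hn))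
      rcases hnor.eq_bot_or_eq_top with h | h
      · exact hz1 (mem_bot.1 (h ▸ mem_zpowers z))
      · refine hz1 (hcent_bot z fun g => ?_)
        obtain ⟨i, rfl⟩ := (h ▸ mem_top g : g ∈ zpowers z)
        exact ((Commute.refl z).zpow_left i).eq
    have hHeven : 2 ∣ Nat.card H := by
      rw [← hx, ← Subgroup.orderOf_mk x hxH]; exact orderOf_dvd_natCard _
    have hzH : z ∈ H := mul_mem hxH hyH
    have hm4 : orderOf z ∣ 4 * q := by
      refine Nat.dvd_trans ?_ (heven H hHne hHeven)
      rw [← Subgroup.orderOf_mk z hzH]; exact orderOf_dvd_natCard _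
    have hm0 : 0 < orderOf z := orderOf_pos z
    rcases Nat.even_or_odd (orderOf z) with hev | hod
    · obtain ⟨r, hr⟩ := hev
      have hr0 : 0 < r := by omega
      have hz2 : orderOf (z ^ r) = 2 := by
        rw [orderOf_pow' z hr0.ne', hr, ← two_mul, Nat.gcd_mul_left_left,
          Nat.mul_div_cancel _ hr0]
      obtain ⟨g, hg⟩ := isConj_iff.1 (hinvconj _ hz2)
      rcases eq_or_ne r 1 with rfl | hr1
      · rw [pow_one] at hg
        exact ⟨g, t, htC, ht1, hg⟩
      · have hcz : ∀ w : G, w * z * w⁻¹ = z⁻¹ → w * z ^ r * w⁻¹ = z ^ r := fun w hw => by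
          rw [← conj_pow, hw, inv_pow]
          exact Involution.inv_of_orderOf_two hz2
        have hmem : ∀ w : G, w * z * w⁻¹ = z⁻¹ → g⁻¹ * w * g ∈ N := fun w hw => by
          have h1 := mul_inv_eq_iff_eq_mul.1 (hcz w hw)
          rw [← hcentt, mem_centralizer_singleton_iff]
          rw [← hg] at h1
          calc g⁻¹ * w * g * t = g⁻¹ * (w * (g * t * g⁻¹)) * g := by group
            _ = g⁻¹ * (g * t * g⁻¹ * w) * g := by rw [h1]
            _ = t * (g⁻¹ * w * g) := by group
        have hzN : g⁻¹ * z * g ∈ N := by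
          rw [hz, show g⁻¹ * (x * y) * g = g⁻¹ * x * g * (g⁻¹ * y * g) by group]
          exact mul_mem (hmem x hxz) (hmem y hyz)
        refine ⟨g, g⁻¹ * z * g, ?_, ?_, by group⟩
        · by_contra hC'
          have h1 := hsqN _ hzN hC'
          have h2 : z * z = 1 := by
            have := congrArg (fun v => g * v * g⁻¹) h1
            simpa [mul_assoc] using this
          have h3 := Nat.le_of_dvd (by norm_num) (orderOf_dvd_of_pow_eq_one (x := z) (n := 2) (by rwa [pow_two]))
          omega
        · intro e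
          have := congrArg (fun v => g * v * g⁻¹) e
          exact hz1 (by simpa [mul_assoc] using this)
    · have hmq : orderOf z ∣ q := by
        refine (Nat.Coprime.dvd_of_dvd_mul_left ?_ hm4)
        exact (Nat.coprime_two_right.2 hod).pow_right 2
      have hzp : IsPGroup 3 (zpowers z) := by
        obtain ⟨k, -, hk⟩ := (Nat.dvd_prime_pow Nat.prime_three).1 (ha ▸ hmq)
        exact IsPGroup.of_card (n := k) (by rw [Nat.card_zpowers, hk])
      obtain ⟨P', hP'⟩ := hzp.exists_le_sylow
      obtain ⟨g, hg⟩ := MulAction.exists_smul_eq G P' P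
      have hmem : g * z * g⁻¹ ∈ (P : Subgroup G) := by
        rw [← hg]
        exact Subgroup.smul_mem_pointwise_smul z (MulAut.conj g) (P' : Subgroup G) (hP' (mem_zpowers z))
      refine ⟨g⁻¹, g * z * g⁻¹, hPC hmem, fun e => hz1 ?_, by group⟩
      have := congrArg (fun v => g⁻¹ * v * g) e
      simpa [mul_assoc] using this
  have h : SmallDihedral.Config C N t u q :=
    ⟨hcomm, hC, hN, hodd, htC, ht, hCN, huN, huC, huu, hinv, hcentt, hti, hinvconj, hprod⟩
  by_cases hbig : 27 ≤ q
  · exact h.false_of_large hbig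
  · have hn := h.index_add
    have ha2 : a = 1 ∨ a = 2 := by
      by_contra hh
      have : 3 ^ 3 ≤ 3 ^ a := Nat.pow_le_pow_right (by norm_num) (by omega)
      rw [← ha] at this
      omega
    obtain ⟨hp, hlt, hn'⟩ : N.index.Prime ∧ 4 * q < N.index ∧ 4 ≤ N.index := by
      rcases ha2 with rfl | rfl
      · rw [show q = 3 by simpa using ha] at hn ⊢
        have : N.index = 31 := by omega
        rw [this]; norm_num
      · rw [show q = 9 by simpa using ha] at hn ⊢
        have : N.index = 307 := by omega
        rw [this]; norm_num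
    haveI : Fact N.index.Prime := ⟨hp⟩
    have hG : Nat.card G = 4 * q * N.index := by rw [← N.card_mul_index, hN]
    obtain ⟨R⟩ : Nonempty (Sylow N.index G) := inferInstance
    have hRcard : Nat.card (R : Subgroup G) = N.index := by
      rw [R.card_eq_multiplicity, hG, Nat.factorization_mul (by omega) hp.ne_zero, Finsupp.add_apply,
        hp.factorization_self, Nat.factorization_eq_zero_of_not_dvd
          (fun hd => absurd (Nat.le_of_dvd (by omega) hd) (by omega)), zero_add, pow_one]
    have hidx : (R : Subgroup G).index = 4 * q := by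
      have h1 := (R : Subgroup G).card_mul_index
      rw [hRcard, hG, mul_comm (4 * q)] at h1
      exact Nat.eq_of_mul_eq_mul_left hp.pos h1
    have h1 : Nat.card (Sylow N.index G) ∣ 4 * q := hidx ▸ R.card_dvd_index
    have h2 := card_sylow_modEq_one N.index G
    have h3 : Nat.card (Sylow N.index G) = 1 := by
      have hle := Nat.le_of_dvd (by omega) h1
      rw [Nat.ModEq, Nat.mod_eq_of_lt (by omega), Nat.mod_eq_of_lt (by omega)] at h2
      exact h2
    haveI : Subsingleton (Sylow N.index G) := (Nat.card_eq_one_iff_unique.1 h3).1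
    rcases (Sylow.normal_of_subsingleton R).eq_bot_or_eq_top with e | e
    · rw [e, card_bot] at hRcard; omega
    · rw [e, index_top] at hidx; omega

end Cfsg.Agent.S4018
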