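import Cfsg.Statements.S1951
import Cfsg.Agent.Lib.BlockCount.SingularSum
import Cfsg.Agent.Lib.BlockCount.PairArith
import Cfsg.Agent.Lib.PCore.PairCongruence
import Cfsg.Agent.Lib.CharInt.Kazarin

/-!
# S1951: one class of p-elements, p-nilpotent centralisers, pairs generating p-solvable groups

For `x` of order `p` at most `#class / (p - 1)` members `y` of the class have `x⁻¹ y` p-regular;
evaluating this count with the principal block contradicts the orthogonality relations.
-/

set_option autoImplicit false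
set_option linter.style.haveILetI false
open Cfsg

namespace Cfsg.Agent.S1951

open Cfsg.Agent.Blocks Cfsg.Agent.BlockCount
open scoped Classical ComplexConjugate

/-- Let p be a prime and P a nontrivial elementary abelian Sylow p-subgroup of a finite nonabelian simple group G whose nonidentity elements are all conjugate in G. Suppose that two elements of P are conjugate in G only if they are conjugate in N_G(P), that the centralizer of every element of order p of P has a normal p-complement, and that every two elements of order p of G generate a p-solvable subgroup. Then p = 2. -/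
theorem result {G : Type*} [Group G] [Finite G] [IsSimpleGroup G] (hG : ¬ IsMulCommutative G) {p : ℕ} [Fact p.Prime] (P : Sylow p G)
    (hP1 : (P : Subgroup G) ≠ ⊥) (hPe : Cfsg.IsElementaryAbelian p (P : Subgroup G))
    (hconj : ∀ x ∈ (P : Subgroup G), ∀ y ∈ (P : Subgroup G), x ≠ 1 → y ≠ 1 → ∃ g : G, g * x * g⁻¹ = y)
    (ha : ∀ x ∈ (P : Subgroup G), ∀ y ∈ (P : Subgroup G), (∃ g : G, g * x * g⁻¹ = y) →
      ∃ n ∈ Subgroup.normalizer ((P : Subgroup G) : Set G), n * x * n⁻¹ = y)
    (hb : ∀ x ∈ (P : Subgroup G), orderOf x = p → Cfsg.HasNormalPComplement p ↥(Subgroup.centralizer ({x} : Set G)))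
    (hc : ∀ x y : G, orderOf x = p → orderOf y = p → Cfsg.IsPSolvable p ↥(Subgroup.closure ({x, y} : Set G))) :
    p = 2 := by
  have hpp : p.Prime := Fact.out
  by_contra hp2
  have hp3 : 3 ≤ p := by have := hpp.two_le; omega
  haveI := Fintype.ofFinite G
  obtain ⟨⟨x, hxP⟩, hx1'⟩ := (P : Subgroup G).ne_bot_iff_exists_ne_one.1 hP1
  have hx1 : x ≠ 1 := fun h => hx1' (Subtype.ext h)
  have hx : orderOf x = p := orderOf_eq_prime (hPe.2 x hxP) hx1
  have hxk : ∃ k, orderOf x = p ^ k := ⟨1, by rw [hx, pow_one]⟩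
  set C := Subgroup.centralizer ({x} : Set G) with hC
  have hnc : HasNormalPComplement p C := hb x hxP hx
  have hintoP : ∀ R : Subgroup G, IsPGroup p R → ∃ t : G, ∀ r ∈ R, t⁻¹ * r * t ∈ (P : Subgroup G) := by
    intro R hR
    obtain ⟨S, hS⟩ := hR.exists_le_sylow
    obtain ⟨t, ht⟩ := MulAction.exists_smul_eq G P S
    refine ⟨t, fun r hr => ?_⟩
    have h1 := hS hr
    rw [← ht, Sylow.coe_subgroup_smul, Subgroup.mem_pointwise_smul_iff_inv_smul_mem] at h1
    simpa [MulAut.conj_inv_apply] using h1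
  have hab : ∀ R : Subgroup G, IsPGroup p R → IsMulCommutative R := by
    intro R hR
    obtain ⟨t, ht⟩ := hintoP R hR
    refine ⟨⟨fun a b => Subtype.ext ?_⟩⟩
    have h2 := congrArg Subtype.val
      (hPe.1.is_comm.comm ⟨_, ht _ a.2⟩ ⟨_, ht _ b.2⟩)
    have h3 : t⁻¹ * ((a : G) * b) * t = t⁻¹ * ((b : G) * a) * t := by simpa [mul_assoc] using h2
    exact mul_left_cancel (mul_right_cancel h3)
  have hsec : ∀ g : G, ¬ IsPRegular p g → ∃ h : G, IsPPart p g (h * x * h⁻¹) := by
    intro g hg
    obtain ⟨z, hz⟩ := exists_isPPart (p := p) g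
    have hz1 : z ≠ 1 := by
      rintro rfl
      obtain ⟨w, hw, -, -, hwr⟩ := hz
      rw [one_mul] at hw
      exact hg (hw ▸ hwr)
    obtain ⟨k, hk⟩ := IsPPart.isPElement hz
    obtain ⟨t, ht⟩ := hintoP (Subgroup.zpowers z) (IsPGroup.of_card (n := k)
      (by rw [Nat.card_zpowers, hk]))
    obtain ⟨s, hs⟩ := hconj x hxP _ (ht z (Subgroup.mem_zpowers z)) hx1 fun he => hz1 (by
      have : z = t * (t⁻¹ * z * t) * t⁻¹ := by group
      rw [this, he]; group)
    refine ⟨t * s, ?_⟩
    have : t * s * x * (t * s)⁻¹ = t * (s * x * s⁻¹) * t⁻¹ := by group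
    rw [this, hs, show t * (t⁻¹ * z * t) * t⁻¹ = z by group]
    exact hz
  obtain ⟨M, hM⟩ := CharInt.exists_isPModular_of_prime hpp
  haveI := hM.2.1
  have hpM : (p : AlgInt) ∈ M := hM.2.2
  set q := Nat.card (P : Subgroup G) with hqdef
  obtain ⟨n, hn⟩ := P.2.exists_card_eq
  have hq1 : 1 < q := (Subgroup.one_lt_card_iff_ne_bot _).2 hP1
  have hn0 : n ≠ 0 := fun h => by rw [hqdef, hn, h] at hq1; simp at hq1
  set Vf := Finset.univ.filter (· ∈ centralizerPPrimeCore p x) with hVfd
  set m := Vf.card with hmd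
  have hPC : (P : Subgroup G) ≤ C := fun z hz => Subgroup.mem_centralizer_singleton_iff.2
    (congrArg Subtype.val (hPe.1.is_comm.comm ⟨z, hz⟩ ⟨x, hxP⟩))
  have hcardC : Nat.card C = q * m := by
    haveI := Transfer.pResidual_normal (G := C) p
    have hreq : Cfsg.pResidual p C = pPrimeCore p C := le_antisymm
      (PCore.le_pPrimeCore ((Nat.Prime.coprime_iff_not_dvd hpp).2
        (Transfer.hasNormalPComplement_iff.1 hnc)).symm)
      (fun v hv => Transfer.mem_residual_of_coprime
        ((PCore.coprime_card_pPrimeCore (p := p) (G := C)).coprime_dvd_left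
          (Subgroup.orderOf_dvd_natCard _ hv)))
    have hm' : Nat.card (pPrimeCore p C) = m := by
      rw [Nat.card_congr ((pPrimeCore p C).equivMapOfInjective C.subtype
        C.subtype_injective).toEquiv, hmd, hVfd, Nat.card_eq_fintype_card, Fintype.card_subtype]
      rfl
    rw [← (Transfer.isComplement'_pResidual (P.subtype hPC)
      (Transfer.hasNormalPComplement_iff.1 hnc)).card_mul, hreq, hm', mul_comm]
    congr 1
    exact Nat.card_congr (Subgroup.subgroupOfEquivOfLe hPC).toEquiv
  have hCpos : (Nat.card C : ℂ) ≠ 0 := Nat.cast_ne_zero.2 Nat.card_pos.ne'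
  have hGpos : (Nat.card G : ℂ) ≠ 0 := Nat.cast_ne_zero.2 Nat.card_pos.ne'
  have hqm : (Nat.card C : ℂ) = (q : ℂ) * m := by rw [hcardC, Nat.cast_mul]
  have hm0 : (m : ℂ) ≠ 0 := fun h => hCpos (by rw [hqm, h, mul_zero])
  have hqc : (q : ℂ) ≠ 0 := Nat.cast_ne_zero.2 (by omega)
  -- sums over the section and over the p-regular elements
  set B := Finset.univ.filter (· ∈ principalBlock M G) with hB
  set one := Char.trivialChar G with hone'
  have honeB : one ∈ B := Finset.mem_filter.2 ⟨Finset.mem_univ _, trivial_mem_principalBlock⟩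
  have hV : ∀ χ : IrrCharacter G, ∑ v ∈ Vf, χ.1 (x * v) =
      if χ ∈ B then (m : ℂ) * χ.1 x else 0 := by
    intro χ
    by_cases hχ : χ ∈ B
    · rw [if_pos hχ, Finset.sum_congr rfl (g := fun _ => χ.1 x) (fun v hv =>
        principal_apply_mul_core hpM hxk (Finset.mem_filter.1 hv).2 (Finset.mem_filter.1 hχ).2),
        Finset.sum_const, nsmul_eq_mul]
    · rw [if_neg hχ]
      have hne : χ ≠ one := fun h => hχ (h ▸ honeB)
      have h0 : omega χ.1 (regSum p G) = 0 := omega_regSum_eq_zero hpM fun h =>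
        hχ (Finset.mem_filter.2 ⟨Finset.mem_univ _, h⟩)
      rw [omega, div_eq_zero_iff, or_iff_left (irr_one_ne_zero χ), chiL_eq_sum] at h0
      simp only [coeff_regSum, ite_mul, one_mul, zero_mul, ← Finset.sum_filter] at h0
      have h1 := sum_singular hx hsec hnc (irr_classFun χ)
      have h2 := sum_univ_irr χ
      rw [if_neg hne, ← Finset.sum_filter_add_sum_filter_not _ (IsPRegular p), h0, zero_add] at h2
      rw [h2, mul_zero] at h1
      exact (mul_eq_zero.1 h1.symm).resolve_left hGpos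
  have hreg : ∀ χ : IrrCharacter G, ∑ g ∈ Finset.univ.filter (IsPRegular p), χ.1 g =
      if χ ∈ B then (Nat.card G : ℂ) * ((if χ = one then 1 else 0) - χ.1 x / q) else 0 := by
    intro χ
    have h1 := sum_singular hx hsec hnc (irr_classFun χ)
    have h2 := sum_univ_irr χ
    rw [← Finset.sum_filter_add_sum_filter_not _ (IsPRegular p)] at h2
    rw [hV χ] at h1
    rw [eq_sub_of_add_eq h2]
    by_cases hχ : χ ∈ B
    · rw [if_pos hχ] at h1 ⊢
      rw [hqm] at h1
      have h4 : ∑ g ∈ Finset.univ.filter (fun g => ¬ IsPRegular p g), χ.1 g =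
          (Nat.card G : ℂ) * (χ.1 x / q) := by
        field_simp
        exact mul_left_cancel₀ hm0 (by linear_combination h1)
      rw [h4]
      split_ifs <;> ring
    · rw [if_neg hχ, mul_zero, mul_eq_zero, or_iff_right hCpos] at h1
      rw [if_neg hχ, h1, if_neg fun h : χ = one => hχ (h ▸ honeB), sub_zero]
  -- values at x
  have hval : ∀ χ : IrrCharacter G, ∃ a k : ℤ, χ.1 x = a ∧
      (Char.degree χ : ℤ) - a = (q : ℤ) * k := fun χ =>
    exists_int_value _ χ hq1 fun z hz h1 => by
      obtain ⟨g, hg⟩ := hconj x hxP z hz hx1 h1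
      rw [← hg]
      exact irr_classFun χ x g
  choose A K hA hAK using hval
  have hxv : ∀ v ∈ Vf, IsConj (x * v) x → v = 1 := fun v hv hcj => by
    obtain ⟨c, hc'⟩ := isConj_iff.1 hcj
    have h1 := IsPPart.conj (isPPart_mul_core hx (Finset.mem_filter.1 hv).2) c
    rw [hc'] at h1
    have h2 := IsPPart.unique h1 (⟨1, mul_one _, Commute.one_right _, hxk, by
      rw [orderOf_one]; exact hpp.not_dvd_one⟩ : IsPPart p x x)
    have h3 : c * (x * v) * c⁻¹ = c * x * c⁻¹ := hc'.trans h2.symm
    exact mul_left_cancel (a := x)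
      (by rw [mul_one]; exact mul_left_cancel (mul_right_cancel h3))
  have hfil : ∀ f : IrrCharacter G → ℂ, (∑ χ, if χ ∈ B then f χ else 0) = ∑ χ ∈ B, f χ :=
    fun f => Finset.sum_ite_mem_eq B f
  have hsq : ∑ χ ∈ B, (A χ) ^ 2 = (q : ℤ) := by
    have h : ∑ χ : IrrCharacter G, (∑ v ∈ Vf, χ.1 (x * v)) * conj (χ.1 x) = (Nat.card C : ℂ) := by
      simp only [Finset.sum_mul]
      rw [Finset.sum_comm, Finset.sum_eq_single (1 : G)]
      · rw [mul_one, Char.sum_irr_mul_conj, if_pos (IsConj.refl x)]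
      · intro v hv hv1
        rw [Char.sum_irr_mul_conj, if_neg fun hcj => hv1 (hxv v hv hcj)]
      · exact fun h => absurd (Finset.mem_filter.2 ⟨Finset.mem_univ _, one_mem _⟩) h
    simp only [hV, ite_mul, zero_mul, hfil, hA, map_intCast] at h
    have h' : (m : ℂ) * ((∑ χ ∈ B, (A χ) ^ 2 : ℤ) : ℂ) = (m : ℂ) * ((q : ℤ) : ℂ) := by
      push_cast
      rw [Finset.mul_sum, mul_comm (m : ℂ) q, ← hqm, ← h]
      exact Finset.sum_congr rfl fun χ _ => by ring
    exact_mod_cast mul_left_cancel₀ hm0 h'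
  have hdeg : ∑ χ ∈ B, (Char.degree χ : ℤ) * A χ = 0 := by
    have h : ∑ χ : IrrCharacter G, χ.1 1 * (∑ v ∈ Vf, χ.1 (x * v)) = 0 := by
      simp only [Finset.mul_sum]
      rw [Finset.sum_comm]
      refine Finset.sum_eq_zero fun v hv => ?_
      rw [Char.sum_irr_degree_mul, if_neg]
      intro h1
      exact hx1 (IsPPart.unique (isPPart_mul_core hx (Finset.mem_filter.1 hv).2)
        (isPPart_one_of_regular (g := x * v)
          (by rw [h1, IsPRegular, orderOf_one]; exact hpp.not_dvd_one)))
    simp only [hV, mul_ite, mul_zero, hfil, hA, Char.apply_one_eq_degree] at h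
    have h' : (m : ℂ) * ((∑ χ ∈ B, (Char.degree χ : ℤ) * A χ : ℤ) : ℂ) = (m : ℂ) * ((0 : ℤ) : ℂ) := by
      push_cast
      rw [mul_zero, Finset.mul_sum, ← h]
      exact Finset.sum_congr rfl fun χ _ => by ring
    exact_mod_cast mul_left_cancel₀ hm0 h'
  have hone1 : A one = 1 := by
    have : (A one : ℂ) = 1 := by rw [← hA]; exact Char.trivialChar_apply x
    exact_mod_cast this
  have honed : Char.degree one = 1 := by
    have : (Char.degree one : ℂ) = 1 := by
      rw [← Char.apply_one_eq_degree]; exact Char.trivialChar_apply 1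
    exact_mod_cast this
  -- the count
  set Cl := Finset.univ.filter (fun y : G => IsConj y x) with hCl
  set T := (Cl.filter fun y => IsPRegular p (x⁻¹ * y)).card with hTd
  have hTf : (Nat.card C : ℂ) * (T : ℂ) =
      (Nat.card G : ℂ) * (1 - (∑ χ ∈ B, (A χ : ℂ) ^ 3 / Char.degree χ) / q) := by
    have h1 : (T : ℂ) = ∑ g ∈ Finset.univ.filter (IsPRegular p),
        if IsConj (x * g) x then (1 : ℂ) else 0 := by
      rw [← Finset.sum_filter, Finset.sum_const, nsmul_eq_mul, mul_one, hTd]
      congr 1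
      refine Finset.card_bij' (fun y _ => x⁻¹ * y) (fun g _ => x * g) ?_ ?_ ?_ ?_ <;>
        simp +contextual [hCl]
    rw [h1, Finset.mul_sum]
    simp only [hC, mul_ite, mul_one, mul_zero]
    trans ∑ g ∈ Finset.univ.filter (IsPRegular p), ∑ χ : IrrCharacter G,
        χ.1 (x * g) * conj (χ.1 x)
    · refine Finset.sum_congr rfl fun g _ => ?_
      rw [Char.sum_irr_mul_conj]
      split_ifs <;> rfl
    rw [Finset.sum_comm]
    simp only [← Finset.sum_mul, sum_regular_shift, hreg, ite_mul, zero_mul, zero_div,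
      ite_div, hfil, hA, map_intCast, Char.apply_one_eq_degree]
    rw [Finset.sum_congr rfl (g := fun χ => (if χ = one then (Nat.card G : ℂ) else 0) -
        (Nat.card G : ℂ) * ((A χ : ℂ) ^ 3 / Char.degree χ / q)) ?_, Finset.sum_sub_distrib,
      Finset.sum_ite_eq', if_pos honeB, mul_sub, mul_one, Finset.sum_div, Finset.mul_sum]
    intro χ _
    split_ifs with h1
    · rw [h1, hone1, honed]
      push_cast
      ring
    · ring
  have hTle : (p - 1) * T ≤ Cl.card := by
    set S : ℕ → Finset G := fun i => Cl.filter fun y => IsPRegular p ((x ^ i)⁻¹ * y) with hS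
    have hSc : ∀ i ∈ Finset.Icc 1 (p - 1), (S i).card = T := by
      intro i hi
      rw [Finset.mem_Icc] at hi
      obtain ⟨g, hg⟩ := hconj x hxP (x ^ i) (pow_mem hxP i) hx1 (fun h1 => by
        have := Nat.le_of_dvd (by omega) (orderOf_dvd_of_pow_eq_one h1)
        omega)
      refine (Finset.card_equiv (MulAut.conj g).toEquiv fun y => ?_).symm
      simp only [hS, hCl, Finset.mem_filter, Finset.mem_univ, true_and, MulEquiv.toEquiv_eq_coe,
        EquivLike.coe_coe, MulAut.conj_apply]
      refine and_congr ?_ ?_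
      · have : IsConj y (g * y * g⁻¹) := isConj_iff.2 ⟨g, rfl⟩
        exact ⟨fun h => this.symm.trans h, fun h => this.trans h⟩
      · rw [← hg, show (g * x * g⁻¹)⁻¹ * (g * y * g⁻¹) = g * (x⁻¹ * y) * g⁻¹ by group,
          isPRegular_conj]
    have hdisj : (↑(Finset.Icc 1 (p - 1)) : Set ℕ).PairwiseDisjoint S := by
      intro i hi j hj hij
      rw [Function.onFun, Finset.disjoint_left]
      intro y hyi hyj
      simp only [hS, hCl, Finset.mem_filter, Finset.mem_univ, true_and] at hyi hyj
      obtain ⟨c, hc'⟩ := isConj_iff.1 hyi.1.symm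
      have hy : orderOf y = p := by
        rw [← hc', show c * x * c⁻¹ = MulAut.conj c x from rfl, MulEquiv.orderOf_eq, hx]
      have h1 := PCore.pow_eq_pow_of_regular hab hx hy (hc x y hx hy) hyi.2 hyj.2
      simp only [Finset.coe_Icc, Set.mem_Icc] at hi hj
      exact hij (pow_injOn_Iio_orderOf (Set.mem_Iio.2 (by omega)) (Set.mem_Iio.2 (by omega)) h1)
    have h1 := Finset.card_biUnion hdisj
    rw [Finset.sum_congr rfl hSc, Finset.sum_const, Nat.card_Icc, smul_eq_mul,
      Nat.add_sub_cancel] at h1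
    rw [← h1]
    exact Finset.card_le_card (Finset.biUnion_subset.2 fun i _ => Finset.filter_subset _ _)
  have hcl : (Nat.card C : ℕ) * Cl.card = Nat.card G := by
    rw [← Char.card_centralizer_mul_card_conj x, Nat.card_eq_fintype_card
      (α := {y : G // IsConj x y}), Fintype.card_subtype]
    congr 2
    ext y
    simp only [hCl, Finset.mem_filter, Finset.mem_univ, true_and]
    exact isConj_comm
  -- assembling
  have hTq : (T : ℚ) * q =
      (Cl.card : ℚ) * ((q : ℚ) - ∑ χ ∈ B, (A χ : ℚ) ^ 3 / Char.degree χ) := by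
    apply Rat.cast_injective (α := ℂ)
    push_cast
    refine mul_left_cancel₀ hCpos ?_
    rw [← mul_assoc, hTf, ← mul_assoc, ← Nat.cast_mul, hcl, mul_assoc, sub_mul, one_mul,
      div_mul_cancel₀ _ hqc]
  rw [← Finset.add_sum_erase _ _ honeB, hone1] at hsq
  rw [← Finset.add_sum_erase _ _ honeB, hone1, honed] at hdeg
  rw [← Finset.add_sum_erase _ _ honeB, hone1, honed] at hTq
  have hle : ((p : ℚ) - 1) * T ≤ Cl.card := by
    have : (((p - 1) * T : ℕ) : ℚ) ≤ (Cl.card : ℚ) := Nat.cast_le.2 hTle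
    rw [Nat.cast_mul, Nat.cast_sub (by omega), Nat.cast_one] at this
    exact this
  have hpq : p ≤ q := (Nat.le_self_pow hn0 p).trans_eq hn.symm
  refine false_of_pair_bound (B.erase one) A (fun χ => Char.degree χ) p q hp3 hpq ?_ ?_ ?_
    (by linarith [hsq]) (by push_cast at hdeg; linarith) ?_
  · intro hq4
    have hp' : p = 3 := by
      rcases (by omega : p = 3 ∨ p = 4) with h | h
      · exact h
      · rw [h] at hpp; norm_num at hpp
    subst hp'
    have : n = 1 := by
      by_contra hne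
      have : 3 ^ 2 ≤ 3 ^ n := Nat.pow_le_pow_right (by norm_num) (by omega)
      omega
    subst this
    exact ⟨by omega, rfl⟩
  · intro χ hχ
    have hne := (Finset.mem_erase.1 hχ).1
    have hle' : (A χ : ℤ) ≤ Char.degree χ := by
      have h1 := CharInt.norm_char_le (Char.irr_isCharacter χ) x
      rw [hA, Char.apply_one_eq_degree, Complex.norm_natCast, Complex.norm_intCast] at h1
      exact_mod_cast (le_abs_self ((A χ : ℤ) : ℝ)).trans h1
    have hlt : (A χ : ℤ) < Char.degree χ := lt_of_le_of_ne hle' fun he => hne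
      (eq_trivial_of_apply_eq χ hx1 (by rw [hA, Char.apply_one_eq_degree, he, Int.cast_natCast]))
    have h1 := hAK χ
    have hq0 : (0 : ℤ) ≤ q := Int.natCast_nonneg q
    have hk : 1 ≤ K χ := by
      by_contra hk
      nlinarith [show K χ ≤ 0 by omega]
    show (A χ : ℤ) + q ≤ (Char.degree χ : ℤ)
    nlinarith
  · intro χ hχ
    have h1 := Finset.single_le_sum (f := fun χ => A χ ^ 2) (fun i _ => sq_nonneg _) hχ
    have h2 : A χ ^ 2 ≤ ∑ i ∈ B.erase one, A i ^ 2 := h1
    linarith [hsq]
  · have hN : (0 : ℚ) < Cl.card :=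
      Nat.cast_pos.2 (Finset.card_pos.2 ⟨x, Finset.mem_filter.2 ⟨Finset.mem_univ _, IsConj.refl x⟩⟩)
    refine le_of_mul_le_mul_left ?_ hN
    have h4 := mul_le_mul_of_nonneg_right hle (Nat.cast_nonneg (α := ℚ) q)
    push_cast at hTq
    linear_combination h4 - ((p : ℚ) - 1) * hTq

end Cfsg.Agent.S1951
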