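import Cfsg.Statements.S2119
import Mathlib

set_option autoImplicit false
open Cfsg

namespace Cfsg.Agent.S2119

open scoped Nat Pointwise
open Equiv Equiv.Perm MulAction

variable {Ω : Type*} [Fintype Ω] [DecidableEq Ω]

theorem fact_ineq (m : ℕ) : ∀ i : ℕ, (1 ≤ m ∨ 1 ≤ i) →
    2 * 3 ^ (i + 1) * (i + 2)! * m ! < (3 * i + 3 + m)! := by
  intro i
  induction i with
  | zero =>
    intro h
    have hm : 1 ≤ m := h.resolve_right (by omega)
    rw [show 3 * 0 + 3 + m = (m + 2) + 1 by omega, Nat.factorial_succ (m + 2),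
      show m + 2 = (m + 1) + 1 by omega, Nat.factorial_succ (m + 1), Nat.factorial_succ m]
    norm_num
    have h1 : 12 < (m + 1 + 1 + 1) * ((m + 1 + 1) * (m + 1)) :=
      lt_of_lt_of_le (show 12 < 4 * (3 * 2) by norm_num)
        (Nat.mul_le_mul (by omega) (Nat.mul_le_mul (by omega) (by omega)))
    have h2 := Nat.mul_lt_mul_of_pos_right h1 (Nat.factorial_pos m)
    nlinarith [h2]
  | succ i ih =>
    intro _
    by_cases hb : i = 0 ∧ m = 0
    · obtain ⟨rfl, rfl⟩ := hb
      decide
    have h1 := ih (by omega)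
    rw [show 3 * (i + 1) + 3 + m = ((3 * i + 3 + m + 1) + 1) + 1 by omega, Nat.factorial_succ (3 * i + 3 + m + 1 + 1),
      Nat.factorial_succ (3 * i + 3 + m + 1), Nat.factorial_succ (3 * i + 3 + m),
      show i + 1 + 2 = (i + 2) + 1 by omega, Nat.factorial_succ (i + 2), pow_succ]
    generalize (3 * i + 3 + m)! = A at h1
    have h2 : 3 * (i + 2 + 1) ≤ (3 * i + 3 + m + 1 + 1 + 1) * ((3 * i + 3 + m + 1 + 1) * (3 * i + 3 + m + 1)) := by
      calc 3 * (i + 2 + 1) ≤ (3 * i + 3 + m + 1 + 1 + 1) * (2 * 1) := by omega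
        _ ≤ _ := Nat.mul_le_mul_left _ (Nat.mul_le_mul (by omega) (by omega))
    calc 2 * (3 ^ (i + 1) * 3) * ((i + 2 + 1) * (i + 2)!) * m !
        = 3 * (i + 2 + 1) * (2 * 3 ^ (i + 1) * (i + 2)! * m !) := by ring
      _ < 3 * (i + 2 + 1) * A := Nat.mul_lt_mul_of_pos_left h1 (by omega)
      _ ≤ _ := Nat.mul_le_mul_right A h2
      _ = _ := by ring

theorem lt_choose : ∀ (n k : ℕ), 2 ≤ k → k + 2 ≤ n → n < n.choose k := by
  intro n
  induction n with
  | zero => intro k h1 h2; omega
  | succ n ih =>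
    intro k h1 h2
    obtain ⟨j, rfl⟩ : ∃ j, k = j + 1 := ⟨k - 1, by omega⟩
    rw [Nat.choose_succ_succ' n j]
    rcases Nat.lt_or_ge j 2 with hj | hj
    · obtain rfl : j = 1 := by omega
      rw [Nat.choose_one_right]
      have : 2 ≤ n.choose (1 + 1) := le_trans (by norm_num [Nat.choose]) (Nat.choose_le_choose 2 (show 3 ≤ n by omega))
      omega
    · have := ih j hj (by omega)
      have := Nat.choose_pos (show j + 1 ≤ n by omega)
      omega

/-- an automorphism of the alternating group maps 3-cycles to 3-cycles -/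
theorem three_image (h6 : Fintype.card Ω ≠ 6) (α : MulAut (alternatingGroup Ω)) (σ : alternatingGroup Ω)
    (hσ : (σ : Perm Ω).IsThreeCycle) : (α σ : Perm Ω).IsThreeCycle := by
  classical
  haveI : Fact (Nat.Prime 3) := ⟨Nat.prime_three⟩
  have ho : orderOf ((α σ : Perm Ω)) = 3 := by
    rw [Subgroup.orderOf_coe, MulEquiv.orderOf_eq, ← Subgroup.orderOf_coe]
    exact hσ.orderOf
  obtain ⟨j, hj⟩ := Equiv.Perm.cycleType_prime_order (σ := (α σ : Perm Ω)) (by rw [ho]; exact Nat.prime_three)
  rw [ho] at hj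
  rcases Nat.eq_zero_or_pos j with rfl | hjpos
  · exact hj
  exfalso
  obtain ⟨i, rfl⟩ : ∃ i, j = i + 1 := ⟨j - 1, by omega⟩
  have hle := Equiv.Perm.sum_cycleType_le (α σ : Perm Ω)
  rw [hj, Multiset.sum_replicate, smul_eq_mul] at hle
  set C : alternatingGroup Ω → Subgroup (Perm Ω) := fun τ => Subgroup.centralizer {(τ : Perm Ω)} with hC
  have hcA : ∀ τ : alternatingGroup Ω,
      Nat.card (Subgroup.centralizer ({τ} : Set (alternatingGroup Ω))) = Nat.card ((C τ).subgroupOf (alternatingGroup Ω)) := by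
    intro τ
    refine congrArg (fun K : Subgroup (alternatingGroup Ω) => Nat.card K) ?_
    ext x
    rw [Subgroup.mem_subgroupOf, hC, Subgroup.mem_centralizer_singleton_iff, Subgroup.mem_centralizer_singleton_iff,
      Subtype.ext_iff]
    rfl
  have heq : Nat.card (Subgroup.centralizer ({σ} : Set (alternatingGroup Ω)))
      = Nat.card (Subgroup.centralizer ({α σ} : Set (alternatingGroup Ω))) := by
    refine Nat.card_congr (α.toEquiv.subtypeEquiv fun x => ?_)
    rw [Subgroup.mem_centralizer_singleton_iff, Subgroup.mem_centralizer_singleton_iff]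
    show _ ↔ α x * α σ = α σ * α x
    rw [← map_mul, ← map_mul, α.injective.eq_iff]
  haveI : Nontrivial Ω := Fintype.one_lt_card_iff_nontrivial.1 (by omega)
  have hub : Nat.card (C σ) ≤ 2 * Nat.card ((C σ).subgroupOf (alternatingGroup Ω)) := by
    have h1 := Subgroup.relIndex_inf_mul_relIndex (alternatingGroup Ω) (C σ) (C σ)
    have e1 : Nat.card ((C σ).subgroupOf (alternatingGroup Ω)) = Nat.card ((alternatingGroup Ω).subgroupOf (C σ)) := by
      rw [← Subgroup.inf_subgroupOf_right, ← Subgroup.inf_subgroupOf_right (H := alternatingGroup Ω),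
        Nat.card_congr (Subgroup.subgroupOfEquivOfLe inf_le_right).toEquiv,
        Nat.card_congr (Subgroup.subgroupOfEquivOfLe inf_le_right).toEquiv, inf_comm]
    have e2 : ((alternatingGroup Ω).subgroupOf (C σ)).index ≤ 2 := by
      have := Subgroup.relIndex_dvd_index_of_normal (alternatingGroup Ω) (C σ)
      rw [alternatingGroup.index_eq_two] at this
      exact Nat.le_of_dvd (by omega) this
    rw [e1, ← Subgroup.card_mul_index ((alternatingGroup Ω).subgroupOf (C σ)), mul_comm]
    exact Nat.mul_le_mul_right _ e2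
  have hlb : Nat.card ((C (α σ)).subgroupOf (alternatingGroup Ω)) ≤ Nat.card (C (α σ)) := by
    rw [← Subgroup.inf_subgroupOf_right, Nat.card_congr (Subgroup.subgroupOfEquivOfLe inf_le_right).toEquiv]
    exact Nat.card_le_card_of_injective _ (Subgroup.inclusion_injective inf_le_left)
  rw [← hcA, heq, hcA] at hub
  have h := hub.trans (Nat.mul_le_mul_left 2 hlb)
  rw [hC, Equiv.Perm.nat_card_centralizer, Equiv.Perm.nat_card_centralizer, hj, hσ.cycleType,
    Multiset.sum_replicate, Multiset.prod_replicate, Multiset.toFinset_replicate] at h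
  simp only [Nat.succ_ne_zero, ↓reduceIte, Finset.prod_singleton, Multiset.count_replicate_self,
    Multiset.sum_singleton, Multiset.prod_singleton, Multiset.toFinset_singleton, smul_eq_mul,
    Multiset.count_singleton_self, Nat.factorial_one, mul_one] at h
  obtain ⟨m, hm⟩ : ∃ m, Fintype.card Ω = m + (i + 2) * 3 := ⟨Fintype.card Ω - (i + 2) * 3, by omega⟩
  have h2 := fact_ineq m i (by omega)
  rw [hm, show m + (i + 2) * 3 - (i + 1 + 1) * 3 = m by omega,
    show m + (i + 2) * 3 - 3 = 3 * i + 3 + m by omega, show i + 1 + 1 = i + 2 from rfl, pow_succ] at h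
  nlinarith [h, h2]

/-- 3-cycles of a subgroup moving `u` -/
noncomputable def deg (K : Subgroup (Perm Ω)) (u : Ω) : ℕ :=
  Nat.card {g : Perm Ω // g ∈ K ∧ g.IsThreeCycle ∧ g u ≠ u}

noncomputable def num (K : Subgroup (Perm Ω)) : ℕ := Nat.card {g : Perm Ω // g ∈ K ∧ g.IsThreeCycle}

theorem sum_deg (K : Subgroup (Perm Ω)) : ∑ u, deg K u = 3 * num K := by
  classical
  simp only [deg, num, Nat.card_eq_fintype_card, Fintype.card_subtype, Finset.card_filter]
  rw [Finset.sum_comm, Finset.mul_sum]
  refine Finset.sum_congr rfl fun g _ => ?_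
  by_cases hg : g ∈ K ∧ g.IsThreeCycle
  · rw [if_pos hg, mul_one, ← hg.2.card_support, Equiv.Perm.support, Finset.card_filter]
    refine Finset.sum_congr rfl fun u _ => ?_
    simp [hg.1, hg.2]
  · rw [if_neg hg, mul_zero]
    refine Finset.sum_eq_zero fun u _ => if_neg fun h => hg ⟨h.1, h.2.1⟩

theorem deg_const (K : Subgroup (Perm Ω)) {g : Perm Ω} (hg : g ∈ K) (u : Ω) : deg K (g u) = deg K u := by
  refine (Nat.card_congr ((MulAut.conj g).toEquiv.subtypeEquiv fun x => ?_)).symm
  show x ∈ K ∧ x.IsThreeCycle ∧ x u ≠ u ↔ g * x * g⁻¹ ∈ K ∧ (g * x * g⁻¹).IsThreeCycle ∧ (g * x * g⁻¹) (g u) ≠ g u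
  have e : ((g * x * g⁻¹) (g u)) = g (x u) := by simp
  have e2 : (g * x * g⁻¹).IsThreeCycle ↔ x.IsThreeCycle := by
    simp only [Equiv.Perm.IsThreeCycle, Equiv.Perm.cycleType_conj]
  rw [e, e2, g.injective.ne_iff]
  refine and_congr_left' ⟨fun h => mul_mem (mul_mem hg h) (inv_mem hg), fun h => ?_⟩
  simpa [mul_assoc] using mul_mem (mul_mem (inv_mem hg) h) hg

theorem deg_top (h3 : 4 ≤ Fintype.card Ω) (u : Ω) :
    deg (⊤ : Subgroup (Perm Ω)) u = (Fintype.card Ω - 1) * (Fintype.card Ω - 2) := by
  classical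
  have hsum := sum_deg (⊤ : Subgroup (Perm Ω))
  rw [Finset.sum_congr rfl fun v _ => (show deg (⊤ : Subgroup (Perm Ω)) v = deg ⊤ u by
    have := deg_const (⊤ : Subgroup (Perm Ω)) (g := Equiv.swap u v) trivial u
    rwa [Equiv.swap_apply_left] at this), Finset.sum_const, Finset.card_univ, smul_eq_mul] at hsum
  have hnum : num (⊤ : Subgroup (Perm Ω)) * ((Fintype.card Ω - 3)! * 3) = (Fintype.card Ω)! := by
    have h := Equiv.Perm.card_of_cycleType_mul_eq (α := Ω) {3}
    rw [if_pos ⟨by rw [Multiset.sum_singleton]; omega, by simp⟩] at h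
    simp only [Multiset.sum_singleton, Multiset.prod_singleton, Multiset.toFinset_singleton, Finset.prod_singleton,
      Multiset.count_singleton_self, Nat.factorial_one, mul_one] at h
    rw [← h]
    congr 1
    rw [num, Nat.card_eq_fintype_card, Fintype.card_subtype]
    congr 1
    ext g
    simp [Equiv.Perm.IsThreeCycle]
  obtain ⟨t, ht⟩ : ∃ t, Fintype.card Ω = t + 3 := ⟨Fintype.card Ω - 3, by omega⟩
  rw [ht] at hsum hnum ⊢
  rw [show t + 3 - 3 = t by omega, show t + 3 = t + 2 + 1 from rfl, Nat.factorial_succ,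
    show t + 2 = t + 1 + 1 from rfl, Nat.factorial_succ, Nat.factorial_succ] at hnum
  rw [show t + 3 - 1 = t + 2 by omega, show t + 3 - 2 = t + 1 by omega]
  refine Nat.eq_of_mul_eq_mul_left (Nat.mul_pos (show 0 < t + 3 by omega) (Nat.factorial_pos t)) ?_
  calc (t + 3) * t ! * deg ⊤ u = (3 * num (⊤ : Subgroup (Perm Ω))) * t ! := by rw [← hsum]; ring
    _ = num (⊤ : Subgroup (Perm Ω)) * (t ! * 3) := by ring
    _ = _ := by rw [hnum]; ring

theorem stab_injective (h4 : 4 ≤ Fintype.card Ω) :
    Function.Injective (fun x : Ω => stabilizer (alternatingGroup Ω) x) := by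
  classical
  intro x y h
  by_contra hne
  obtain ⟨a, ha⟩ : ∃ a, a ∉ ({x, y} : Finset Ω) := by
    by_contra hcon
    push Not at hcon
    have := Finset.card_le_card (Finset.subset_iff.2 fun v (_ : v ∈ Finset.univ) => hcon v)
    rw [Finset.card_univ] at this
    have h2 := Finset.card_le_two (a := x) (b := y)
    omega
  obtain ⟨b, hb⟩ : ∃ b, b ∉ ({x, y, a} : Finset Ω) := by
    by_contra hcon
    push Not at hcon
    have := Finset.card_le_card (Finset.subset_iff.2 fun v (_ : v ∈ Finset.univ) => hcon v)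
    rw [Finset.card_univ] at this
    have h2 := Finset.card_le_three (a := x) (b := y) (c := a)
    omega
  simp only [Finset.mem_insert, Finset.mem_singleton, not_or] at ha hb
  have hg : Equiv.swap y a * Equiv.swap y b ∈ alternatingGroup Ω := by
    rw [Equiv.Perm.mem_alternatingGroup, map_mul, Equiv.Perm.sign_swap (Ne.symm ha.2), Equiv.Perm.sign_swap (Ne.symm hb.2.1)]
    rfl
  have hx : (⟨_, hg⟩ : alternatingGroup Ω) ∈ stabilizer (alternatingGroup Ω) x := by
    show (Equiv.swap y a * Equiv.swap y b) x = x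
    rw [Equiv.Perm.mul_apply, Equiv.swap_apply_of_ne_of_ne hne (Ne.symm hb.1),
      Equiv.swap_apply_of_ne_of_ne hne (Ne.symm ha.1)]
  have hy : (⟨_, hg⟩ : alternatingGroup Ω) ∈ stabilizer (alternatingGroup Ω) y := by
    have h' : stabilizer (alternatingGroup Ω) x = stabilizer (alternatingGroup Ω) y := h
    rwa [← h']
  have hy' : (Equiv.swap y a * Equiv.swap y b) y = y := hy
  rw [Equiv.Perm.mul_apply, Equiv.swap_apply_left, Equiv.swap_apply_of_ne_of_ne hb.2.1 hb.2.2] at hy'
  exact hb.2.1 hy'

theorem image_stab (h4 : 4 ≤ Fintype.card Ω) (h6 : Fintype.card Ω ≠ 6) (α : MulAut (alternatingGroup Ω)) (q : Ω) :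
    ∃ y : Ω, (stabilizer (alternatingGroup Ω) q).map α.toMonoidHom = stabilizer (alternatingGroup Ω) y := by
  classical
  haveI := alternatingGroup.isPretransitive_of_three_le_card Ω (by rw [Nat.card_eq_fintype_card]; omega)
  set KA := (stabilizer (alternatingGroup Ω) q).map α.toMonoidHom with hKA
  have hidx : KA.index = Fintype.card Ω := by
    rw [hKA, show ((stabilizer (alternatingGroup Ω) q).map α.toMonoidHom).index = (stabilizer (alternatingGroup Ω) q).index
      from Subgroup.index_map_equiv _ α, MulAction.index_stabilizer_of_transitive,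
      Nat.card_eq_fintype_card]
  suffices h : ∃ y, ∀ g ∈ KA, g • y = y by
    obtain ⟨y, hy⟩ := h
    refine ⟨y, Subgroup.eq_of_le_of_card_ge (fun g hg => hy g hg) ?_⟩
    have h1 := Subgroup.card_mul_index KA
    have h2 := Subgroup.card_mul_index (stabilizer (alternatingGroup Ω) y)
    rw [MulAction.index_stabilizer_of_transitive, Nat.card_eq_fintype_card (α := Ω)] at h2
    rw [hidx] at h1
    exact (Nat.eq_of_mul_eq_mul_right (by omega) (h2.trans h1.symm)).le
  let O : Finset Ω := Finset.univ.filter fun y => ∃ g ∈ KA, g • q = y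
  have hO : ∀ y, y ∈ O ↔ ∃ g ∈ KA, g • q = y := by simp [O]
  have hqO : q ∈ O := (hO q).2 ⟨1, one_mem _, one_smul _ _⟩
  have hinv : ∀ g ∈ KA, ∀ y, y ∈ O ↔ g • y ∈ O := by
    intro g hg y
    rw [hO, hO]
    constructor
    · rintro ⟨k, hk, rfl⟩; exact ⟨g * k, mul_mem hg hk, mul_smul _ _ _⟩
    · rintro ⟨k, hk, e⟩; exact ⟨g⁻¹ * k, mul_mem (inv_mem hg) hk, by rw [mul_smul, e, inv_smul_smul]⟩
  by_cases hOu : O = Finset.univ
  · -- transitive: impossible by counting 3-cycles
    exfalso
    set K := KA.map (alternatingGroup Ω).subtype with hK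
    have hK3 : num K = num ((stabilizer (alternatingGroup Ω) q).map (alternatingGroup Ω).subtype) := by
      have hmem : ∀ (H : Subgroup (alternatingGroup Ω)) (g : alternatingGroup Ω),
          (g : Perm Ω) ∈ H.map (alternatingGroup Ω).subtype ↔ g ∈ H := fun H g =>
        ⟨fun ⟨a, ha, e⟩ => by rwa [← Subtype.ext (show (a : Perm Ω) = g from e)], fun h => ⟨g, h, rfl⟩⟩
      have hsub : ∀ H : Subgroup (alternatingGroup Ω), num (H.map (alternatingGroup Ω).subtype)
          = Nat.card {g : alternatingGroup Ω // g ∈ H ∧ (g : Perm Ω).IsThreeCycle} := by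
        intro H
        refine (Nat.card_congr (Equiv.ofBijective (fun g => ⟨g.1.1, (hmem H g.1).2 g.2.1, g.2.2⟩) ⟨?_, ?_⟩)).symm
        · intro a b e
          simp only [Subtype.mk.injEq] at e
          exact Subtype.ext (Subtype.ext e)
        · rintro ⟨g, hg, h3⟩
          obtain ⟨a, ha, rfl⟩ := hg
          exact ⟨⟨a, ha, h3⟩, rfl⟩
      rw [hK, hsub, hsub]
      refine (Nat.card_congr (α.toEquiv.subtypeEquiv fun g => ?_)).symm
      show g ∈ _ ∧ _ ↔ α g ∈ KA ∧ _
      refine and_congr ⟨fun h => ⟨g, h, rfl⟩, fun ⟨a, ha, e⟩ => α.injective e ▸ ha⟩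
        ⟨three_image h6 α g, fun h => ?_⟩
      have := three_image h6 α.symm (α g) h
      rwa [MulEquiv.symm_apply_apply] at this
    have hconst : ∀ u, deg K u = deg K q := by
      intro u
      obtain ⟨g, hg, rfl⟩ := (hO u).1 (hOu ▸ Finset.mem_univ u)
      exact deg_const K (g := (g : Perm Ω)) ⟨g, hg, rfl⟩ q
    have hsum := sum_deg K
    rw [Finset.sum_congr rfl fun u _ => hconst u, Finset.sum_const, Finset.card_univ, smul_eq_mul, hK3] at hsum
    -- 3-cycles fixing `q`
    have hsplit : num (⊤ : Subgroup (Perm Ω))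
        = num ((stabilizer (alternatingGroup Ω) q).map (alternatingGroup Ω).subtype) + deg (⊤ : Subgroup (Perm Ω)) q := by
      simp only [num, deg, Nat.card_eq_fintype_card, Fintype.card_subtype]
      rw [← Finset.card_union_of_disjoint (Finset.disjoint_filter.2 fun g _ h1 h2 => by
        obtain ⟨⟨a, ha, rfl⟩, -⟩ := h1
        exact h2.2.2 ha)]
      congr 1
      ext g
      simp only [Finset.mem_filter, Finset.mem_univ, true_and, Finset.mem_union, Subgroup.mem_top]
      constructor
      · intro h3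
        by_cases hq : g q = q
        · exact Or.inl ⟨⟨⟨g, h3.mem_alternatingGroup⟩, hq, rfl⟩, h3⟩
        · exact Or.inr ⟨h3, hq⟩
      · rintro (⟨-, h⟩ | ⟨h, -⟩) <;> exact h
    have htop := sum_deg (⊤ : Subgroup (Perm Ω))
    rw [Finset.sum_congr rfl fun u _ => deg_top h4 u, Finset.sum_const, Finset.card_univ, smul_eq_mul, hsplit,
      deg_top h4 q] at htop
    obtain ⟨t, ht⟩ : ∃ t, Fintype.card Ω = t + 4 := ⟨Fintype.card Ω - 4, by omega⟩
    rw [ht, show t + 4 - 1 = t + 3 by omega, show t + 4 - 2 = t + 2 by omega] at htop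
    rw [ht] at hsum
    have key : (t + 4) * ((t + 3) * (t + 2)) = (t + 4) * deg K q + 3 * ((t + 3) * (t + 2)) := by
      rw [htop, hsum]; ring
    have hdvd : t + 4 ∣ 3 * ((t + 3) * (t + 2)) :=
      (Nat.dvd_add_right (dvd_mul_right _ _)).1 (key ▸ dvd_mul_right _ _)
    have h67 : t + 4 ∣ 6 := by
      have e : 3 * ((t + 3) * (t + 2)) = (t + 4) * (3 * t + 3) + 6 := by ring
      rw [e] at hdvd
      exact (Nat.dvd_add_right (dvd_mul_right _ _)).1 hdvd
    have := Nat.le_of_dvd (by omega) h67
    rcases (show t = 0 ∨ t = 1 ∨ t = 2 by omega) with rfl | rfl | rfl <;> omega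
  -- intransitive
  have hlt : O.card < Fintype.card Ω := by
    rw [← Finset.card_univ]
    exact Finset.card_lt_card (Finset.ssubset_univ_iff.2 hOu)
  have hpos : 1 ≤ O.card := Finset.card_pos.2 ⟨q, hqO⟩
  by_cases hk1 : O.card = 1
  · obtain ⟨z, hz⟩ := Finset.card_eq_one.1 hk1
    refine ⟨q, fun g hg => ?_⟩
    have h1 := (hinv g hg q).1 hqO
    rw [hz, Finset.mem_singleton] at h1 hqO
    rw [h1, hqO]
  by_cases hk2 : O.card + 1 = Fintype.card Ω
  · obtain ⟨z, hz⟩ := Finset.card_eq_one.1 (show Oᶜ.card = 1 by rw [Finset.card_compl]; omega)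
    refine ⟨z, fun g hg => ?_⟩
    have hzO : z ∉ O := Finset.mem_compl.1 (hz ▸ Finset.mem_singleton_self z)
    have h1 : g • z ∈ Oᶜ := Finset.mem_compl.2 fun h => hzO ((hinv g hg z).2 h)
    rw [hz, Finset.mem_singleton] at h1
    exact h1
  exfalso
  haveI := Set.powersetCard.isPretransitive_alternatingGroup (α := Ω) (n := O.card)
    (by rw [Nat.card_eq_fintype_card]; omega)
  let s : Set.powersetCard Ω O.card := ⟨O, rfl⟩
  have hle : KA ≤ stabilizer (alternatingGroup Ω) s := by
    intro g hg
    rw [MulAction.mem_stabilizer_iff]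
    refine Subtype.ext ?_
    show g • O = O
    refine Finset.eq_of_subset_of_card_le (fun y hy => ?_) (by rw [Finset.card_smul_finset])
    obtain ⟨w, hw, rfl⟩ := Finset.mem_smul_finset.1 hy
    exact (hinv g hg w).1 hw
  have h1 := Subgroup.index_antitone hle
  rw [hidx, MulAction.index_stabilizer_of_transitive, Set.powersetCard.card, Nat.card_eq_fintype_card] at h1
  have h2 := lt_choose (Fintype.card Ω) O.card (by omega) (by omega)
  omega

theorem conjNormal_bijective (h4 : 4 ≤ Fintype.card Ω) (h6 : Fintype.card Ω ≠ 6) :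
    Function.Bijective (MulAut.conjNormal : Perm Ω →* MulAut (alternatingGroup Ω)) := by
  classical
  haveI := alternatingGroup.isPretransitive_of_three_le_card Ω (by rw [Nat.card_eq_fintype_card]; omega)
  have hconj : ∀ (π : Perm Ω) (x : Ω), (stabilizer (alternatingGroup Ω) x).map
      ((MulAut.conjNormal π : MulAut (alternatingGroup Ω))).toMonoidHom = stabilizer (alternatingGroup Ω) (π x) := by
    intro π x
    ext g
    constructor
    · rintro ⟨a, ha, rfl⟩
      show ((MulAut.conjNormal π a : alternatingGroup Ω) : Perm Ω) (π x) = π x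
      rw [MulAut.conjNormal_apply]
      have ha' : (a : Perm Ω) x = x := ha
      simp [ha']
    · intro hg
      refine ⟨MulAut.conjNormal π⁻¹ g, ?_, ?_⟩
      · show ((MulAut.conjNormal π⁻¹ g : alternatingGroup Ω) : Perm Ω) x = x
        have hg' : (g : Perm Ω) (π x) = π x := hg
        rw [MulAut.conjNormal_apply]
        simp [hg']
      · show MulAut.conjNormal π (MulAut.conjNormal π⁻¹ g) = g
        rw [← MulAut.mul_apply, ← map_mul, mul_inv_cancel, map_one, MulAut.one_apply]
  refine ⟨fun π π' h => ?_, fun α => ?_⟩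
  · refine Equiv.ext fun x => stab_injective h4 ?_
    show stabilizer (alternatingGroup Ω) (π x) = stabilizer (alternatingGroup Ω) (π' x)
    rw [← hconj, ← hconj, h]
  · choose f hf using image_stab h4 h6 α
    have hinj : Function.Injective f := by
      intro x y h
      refine stab_injective h4 (Subgroup.map_injective (f := α.toMonoidHom) α.injective ?_)
      rw [hf x, hf y, h]
    let π : Perm Ω := Equiv.ofBijective f ⟨hinj, Finite.injective_iff_surjective.1 hinj⟩
    refine ⟨π, MulEquiv.ext fun g => Subtype.ext (Equiv.ext fun v => ?_)⟩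
    obtain ⟨x, rfl⟩ := π.surjective v
    rw [MulAut.conjNormal_apply]
    simp only [Equiv.Perm.mul_apply, Equiv.Perm.inv_def, Equiv.symm_apply_apply]
    refine stab_injective h4 ?_
    show stabilizer (alternatingGroup Ω) (f ((g : Perm Ω) x)) = stabilizer (alternatingGroup Ω) ((α g) • f x)
    rw [← hf, MulAction.stabilizer_smul_eq_stabilizer_map_conj, ← hf x,
      show (g : Perm Ω) x = g • x from rfl, MulAction.stabilizer_smul_eq_stabilizer_map_conj, Subgroup.map_map,
      Subgroup.map_map]
    congr 1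
    ext a : 1
    simp [MulAut.conj_apply]

/-- Automorphisms of the alternating groups: for n ≥ 4 with n ≠ 6, every automorphism of the alternating group of degree n is conjugation by a unique permutation, i.e. conjugation induces an isomorphism from the symmetric group of degree n onto the automorphism group of the alternating group (so the outer automorphism group has order 2). -/
theorem result (n : ℕ) (hn : 4 ≤ n) (h6 : n ≠ 6) : Function.Bijective (MulAut.conjNormal : Equiv.Perm (Fin n) →* MulAut ↥(alternatingGroup (Fin n))) :=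
  conjNormal_bijective (by rwa [Fintype.card_fin]) (by rwa [Fintype.card_fin])

end Cfsg.Agent.S2119
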