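import Cfsg.Statements.S0572
import Mathlib.Tactic.Group

set_option autoImplicit false
open Cfsg

namespace Cfsg.Agent.S0572

open scoped commutatorElement

/-- Itô's Theorem: if a group G is the product AB of two abelian subgroups, then the commutator subgroup of G is abelian, i.e. the second term of the derived series is trivial. -/
theorem result {G : Type*} [Group G] (A B : Subgroup G) [IsMulCommutative A] [IsMulCommutative B] (hAB : ∀ g : G, ∃ a ∈ A, ∃ b ∈ B, g = a * b) : derivedSeries G 2 = ⊥ := by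
  have hA : ∀ x ∈ A, ∀ y ∈ A, x * y = y * x := fun x hx y hy => setLike_mul_comm hx hy
  have hB : ∀ x ∈ B, ∀ y ∈ B, x * y = y * x := fun x hx y hy => setLike_mul_comm hx hy
  have hBA : ∀ g : G, ∃ b ∈ B, ∃ a ∈ A, g = b * a := by
    intro g
    obtain ⟨a, ha, b, hb, h⟩ := hAB g⁻¹
    exact ⟨b⁻¹, inv_mem hb, a⁻¹, inv_mem ha, by rw [← mul_inv_rev, ← h, inv_inv]⟩
  let C : Set G := {c | ∃ a ∈ A, ∃ b ∈ B, c = ⁅a, b⁆}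
  have conjA : ∀ a₁ ∈ A, ∀ b ∈ B, ∃ b₂ ∈ B, ∀ a ∈ A, a₁ * ⁅a, b⁆ * a₁⁻¹ = ⁅a, b₂⁆ := by
    intro a₁ ha₁ b hb
    obtain ⟨b₂, hb₂, a₂, ha₂, h⟩ := hBA (a₁ * b * a₁⁻¹)
    refine ⟨b₂, hb₂, fun a ha => ?_⟩
    have h1 : a₁ * a * a₁⁻¹ = a := by rw [hA a₁ ha₁ a ha, mul_inv_cancel_right]
    rw [conjugate_commutatorElement, h1, h]
    simp only [commutatorElement_def, mul_inv_rev]
    have h2 : a₂ * a⁻¹ * a₂⁻¹ = a⁻¹ := by rw [hA a₂ ha₂ a⁻¹ (inv_mem ha), mul_inv_cancel_right]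
    calc a * (b₂ * a₂) * a⁻¹ * (a₂⁻¹ * b₂⁻¹) = a * b₂ * (a₂ * a⁻¹ * a₂⁻¹) * b₂⁻¹ := by group
      _ = _ := by rw [h2]
  have conjB : ∀ b₁ ∈ B, ∀ a ∈ A, ∃ a₃ ∈ A, ∀ b ∈ B, b₁ * ⁅a, b⁆ * b₁⁻¹ = ⁅a₃, b⁆ := by
    intro b₁ hb₁ a ha
    obtain ⟨a₃, ha₃, b₃, hb₃, h⟩ := hAB (b₁ * a * b₁⁻¹)
    refine ⟨a₃, ha₃, fun b hb => ?_⟩
    have h1 : b₁ * b * b₁⁻¹ = b := by rw [hB b₁ hb₁ b hb, mul_inv_cancel_right]
    rw [conjugate_commutatorElement, h1, h]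
    simp only [commutatorElement_def, mul_inv_rev]
    have h2 : b₃ * b * b₃⁻¹ = b := by rw [hB b₃ hb₃ b hb, mul_inv_cancel_right]
    calc a₃ * b₃ * b * (b₃⁻¹ * a₃⁻¹) * b⁻¹ = a₃ * (b₃ * b * b₃⁻¹) * a₃⁻¹ * b⁻¹ := by group
      _ = _ := by rw [h2]
  have hcomm : ∀ x ∈ C, ∀ y ∈ C, x * y = y * x := by
    rintro _ ⟨a, ha, b, hb, rfl⟩ _ ⟨a₁, ha₁, b₁, hb₁, rfl⟩
    obtain ⟨b₂, hb₂, hc⟩ := conjA a₁⁻¹ (inv_mem ha₁) b hb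
    obtain ⟨a₃, ha₃, hd⟩ := conjB b₁⁻¹ (inv_mem hb₁) a ha
    have e1 := hc a ha
    have e2 := hd b₂ hb₂
    have e3 := hd b hb
    have e4 := hc a₃ ha₃
    have key : b₁⁻¹ * a₁⁻¹ * ⁅a, b⁆ * (b₁⁻¹ * a₁⁻¹)⁻¹
        = a₁⁻¹ * b₁⁻¹ * ⁅a, b⁆ * (a₁⁻¹ * b₁⁻¹)⁻¹ :=
      calc _ = b₁⁻¹ * (a₁⁻¹ * ⁅a, b⁆ * a₁⁻¹⁻¹) * b₁⁻¹⁻¹ := by group
        _ = ⁅a₃, b₂⁆ := by rw [e1, e2]
        _ = a₁⁻¹ * (b₁⁻¹ * ⁅a, b⁆ * b₁⁻¹⁻¹) * a₁⁻¹⁻¹ := by rw [e3, e4]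
        _ = _ := by group
    generalize ⁅a, b⁆ = x at key ⊢
    rw [commutatorElement_def]
    calc x * (a₁ * b₁ * a₁⁻¹ * b₁⁻¹)
        = a₁ * b₁ * (b₁⁻¹ * a₁⁻¹ * x * (b₁⁻¹ * a₁⁻¹)⁻¹) * a₁⁻¹ * b₁⁻¹ := by group
      _ = _ := by rw [key]; group
  have hN : commutator G ≤ Subgroup.closure C := by
    rw [commutator_def, Subgroup.commutator_le]
    intro g _ h _
    obtain ⟨a, ha, b, hb, rfl⟩ := hAB g
    obtain ⟨a', ha', b', hb', rfl⟩ := hAB h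
    have h1 : ⁅a * b, a' * b'⁆ = (a * ⁅a', b⁆ * a⁻¹)⁻¹ * (a' * ⁅a, b'⁆ * a'⁻¹) := by
      have e1 : a' * (b * b' * b⁻¹ * b'⁻¹) * a'⁻¹ = 1 := by
        rw [hB b hb b' hb']; group
      have e2 : a * a' * a⁻¹ * a'⁻¹ = 1 := by rw [hA a ha a' ha']; group
      calc ⁅a * b, a' * b'⁆
          = (a * ⁅a', b⁆ * a⁻¹)⁻¹ * (a * (a' * (b * b' * b⁻¹ * b'⁻¹) * a'⁻¹) * a⁻¹) *
              (a * a' * a⁻¹ * a'⁻¹) * (a' * ⁅a, b'⁆ * a'⁻¹) := by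
            simp only [commutatorElement_def]; group
        _ = _ := by rw [e1, e2]; group
    rw [h1]
    obtain ⟨b₂, hb₂, hc⟩ := conjA a ha b hb
    obtain ⟨b₃, hb₃, hc'⟩ := conjA a' ha' b' hb'
    rw [hc a' ha', hc' a ha]
    exact mul_mem (inv_mem (Subgroup.subset_closure ⟨a', ha', b₂, hb₂, rfl⟩))
      (Subgroup.subset_closure ⟨a, ha, b₃, hb₃, rfl⟩)
  rw [derivedSeries_succ, derivedSeries_one, Subgroup.commutator_eq_bot_iff_le_centralizer]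
  refine hN.trans (le_trans ?_ (Subgroup.centralizer_le hN))
  rw [Subgroup.closure_le, Subgroup.centralizer_closure]
  intro x hx
  rw [SetLike.mem_coe, Subgroup.mem_centralizer_iff]
  exact fun y hy => hcomm y hy x hx

end Cfsg.Agent.S0572
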