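import Cfsg.Statements.S5217
import Cfsg.Agent.Lib.Bicyclic2.Config
import Cfsg.Agent.Lib.Bicyclic2.System
import Cfsg.Agent.Lib.Bicyclic2.Param
import Cfsg.Agent.S0572

set_option autoImplicit false
open Cfsg

namespace Cfsg.Agent.S5217

/-- Let S be a finite bicyclic 2-group (S = ⟨x⟩⟨y⟩) that is not metacyclic. Then S supports a saturated fusion system other than its inner fusion system if and only if the commutator subgroup of S is cyclic. -/
theorem result {Ω : Type*} [Group Ω] {S : Subgroup Ω} [Finite S] (hS : IsPGroup 2 S) (hb : ∃ x y : ↥S, ∀ g : ↥S, ∃ i j : ℤ, g = x ^ i * y ^ j) (hm : ¬ Cfsg.IsMetacyclic ↥S) : (∃ F : Cfsg.FusionSystem S, F.IsSaturated 2 ∧ ¬ ∀ P : Subgroup Ω, F.Hom P = (Cfsg.innerFusionSystem S).Hom P) ↔ IsCyclic ↥(commutator ↥S) := by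
  obtain ⟨x, y, hxy⟩ := hb
  have h : Cfsg.Agent.Bicyclic2.Factor x y := ⟨hxy⟩
  have hgen : Cfsg.Agent.Bicyclic2.Gen2 (⊤ : Subgroup ↥S) := ⟨x, y, h.closure_eq⟩
  obtain ⟨hΦ, hΦm, M, hM, hMm⟩ := Cfsg.Agent.Bicyclic2.structure_bicyclic hS h hm
  have hab : ∀ p ∈ commutator ↥S, ∀ q ∈ commutator ↥S, p * q = q * p := by
    have hd := Cfsg.Agent.S0572.result (Subgroup.zpowers x) (Subgroup.zpowers y)
      (fun g => by
        obtain ⟨i, j, rfl⟩ := hxy g
        exact ⟨_, Subgroup.zpow_mem_zpowers x i, _, Subgroup.zpow_mem_zpowers y j, rfl⟩)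
    intro p hp q hq
    rw [← commutatorElement_eq_one_iff_mul_comm, ← Subgroup.mem_bot, ← hd]
    rw [derivedSeries_succ, derivedSeries_one]
    exact Subgroup.commutator_mem_commutator hp hq
  constructor
  · rintro ⟨F, hF, hne⟩
    exact Cfsg.Agent.Bicyclic2.isCyclic_of_noninner hS hgen hm hΦm hM hMm hab hF hne
  · intro hcyc
    obtain ⟨a, b, c, w, r, f, s, ν, P⟩ := Cfsg.Agent.Bicyclic2.exists_params hS hgen hΦ hm hcyc
    obtain ⟨x', y', w', g', D⟩ := P.exists_setup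
    exact D.coe.exists_noninner hS

end Cfsg.Agent.S5217
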