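import Cfsg.Statements.S3224
import Cfsg.Agent.Lib.PGroup.MaximalClassTwo

set_option autoImplicit false
open Cfsg

namespace Cfsg.Agent.S3224

/-- A finite 2-group containing an involution whose centralizer has order 4 is dihedral, quasi-dihedral (semidihedral), or of order 4. -/
theorem result {S : Type*} [Group S] [Finite S] (hS : IsPGroup 2 S)
    (x : S) (hx : orderOf x = 2) (hC : Nat.card ↥(Subgroup.centralizer ({x} : Set S)) = 4) :
    (∃ n : ℕ, Nonempty (S ≃* DihedralGroup n)) ∨ Cfsg.IsQuasiDihedral S ∨ Nat.card S = 4 := by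
  have : Fact (Nat.Prime 2) := ⟨Nat.prime_two⟩
  obtain ⟨n, hn⟩ := IsPGroup.iff_card.mp hS
  by_cases hcen : x ∈ Subgroup.center S
  · refine Or.inr (Or.inr ?_)
    rw [Subgroup.centralizer_eq_top_iff_subset.mpr (by simpa using hcen), Subgroup.card_top] at hC
    exact hC
  have hna : ¬ IsMulCommutative S := fun h =>
    hcen (Subgroup.mem_center_iff.mpr fun g => h.is_comm.comm g x)
  have hidx := PGroup.index_commutator_eq_four_of_centralizer hn hna x hC
  have hn3 : 3 ≤ n := by
    by_contra h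
    have hlt : n ≤ 2 := by omega
    rcases Nat.eq_or_lt_of_le hlt with rfl | h1
    · exact hna (IsPGroup.isMulCommutative_of_card_eq_prime_sq hn)
    · have hle : (commutator S).index ≤ 2 ^ n := hn ▸ Nat.le_of_dvd Nat.card_pos (Subgroup.index_dvd_card _)
      have := (Nat.pow_le_pow_iff_right (by norm_num : 1 < 2)).mp
        ((show (2 : ℕ) ^ 2 = (commutator S).index by rw [hidx]; norm_num).trans_le hle)
      omega
  obtain ⟨m, rfl⟩ : ∃ m, n = m + 1 := ⟨n - 1, by omega⟩
  obtain ⟨a, b, ha, hb, hgen, h⟩ :=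
    PGroup.two_group_commutator_index_four (by omega : 2 ≤ m) hn hidx
  rcases h with ⟨hb2, hconj⟩ | ⟨hb2, hconj⟩ | ⟨hm, hb2, hconj⟩
  · exact Or.inl ⟨_, PGroup.dihedralEquivOfRel ha hb hb2 hconj (by rw [hn, pow_succ, mul_comm])⟩
  · exfalso
    have hx2 : x ^ 2 = 1 := by rw [← hx, pow_orderOf_eq_one]
    obtain ⟨i, hi | hi⟩ := PGroup.two_group_elements hn ha hb x
    · refine hcen ?_
      have hfix : b * x * b⁻¹ = x := by
        rw [hi, ← conj_zpow, hconj, inv_zpow]
        exact inv_eq_of_mul_eq_one_left (by rw [← pow_two, ← hi, hx2])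
      have htop : (⊤ : Subgroup S) ≤ Subgroup.centralizer {x} := by
        rw [← hgen]
        refine sup_le (Subgroup.zpowers_le.mpr ?_) (Subgroup.zpowers_le.mpr ?_)
        · exact Subgroup.mem_centralizer_singleton_iff.mpr (hi ▸ (Commute.refl a).zpow_right i)
        · exact Subgroup.mem_centralizer_singleton_iff.mpr (mul_inv_eq_iff_eq_mul.mp hfix)
      exact Subgroup.mem_center_iff.mpr fun g =>
        Subgroup.mem_centralizer_singleton_iff.mp (htop (Subgroup.mem_top g))
    · rw [hi, PGroup.mul_zpow_sq (r := -1) (t := ((2 ^ (m - 1) : ℕ) : ℤ))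
        (by rw [hconj, zpow_neg_one]) (by rw [hb2, zpow_natCast]),
        ← orderOf_dvd_iff_zpow_eq_one, ha] at hx2
      rw [show (-1 : ℤ) * i + ((2 ^ (m - 1) : ℕ) : ℤ) + i = ((2 ^ (m - 1) : ℕ) : ℤ) by ring,
        Int.natCast_dvd_natCast, Nat.pow_dvd_pow_iff_le_right (by norm_num)] at hx2
      omega
  · exact Or.inr (Or.inl ⟨m, hm, hn, a, b, ha,
      orderOf_eq_prime hb2 (fun h1 => hb (h1 ▸ one_mem _)), hconj⟩)

end Cfsg.Agent.S3224
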