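import Cfsg.Statements.S0955
import Cfsg.Agent.Lib.Blocks.FirstMain
import Cfsg.Agent.Lib.PCore.Basic

set_option autoImplicit false
open Cfsg
open Cfsg.Agent

namespace Cfsg.Agent.S0955

/-- Let D be a defect group of a block of the finite group G relative to a maximal ideal M of the algebraic integers containing the prime p. Then D is the largest normal p-subgroup of its own normalizer: O_p(N_G(D)) = D. -/
theorem result {G : Type*} [Group G] [Finite G] (p : ℕ) [Fact p.Prime] (M : Ideal Cfsg.AlgInt) (hM : Cfsg.IsPModular p M) (B : Set (Cfsg.IrrCharacter G)) (hB : Cfsg.IsPBlock M B) (D : Subgroup G) (hD : Cfsg.IsDefectGroup p M B D) : (Cfsg.pCore p (Subgroup.normalizer (D : Set G))).map (Subgroup.normalizer (D : Set G)).subtype = D := by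
  haveI := hM.2.1
  have hDp := Blocks.IsDefectGroup.isPGroup hD
  refine le_antisymm (Blocks.pGroup_le_of_normal_normalizer hM.2.2 hB hD PCore.isPGroup_pCore) ?_
  haveI := Blocks.normal_subgroupOf_of_le_normalizer (le_refl (Subgroup.normalizer (D : Set G)))
  have h := Subgroup.map_mono (f := (Subgroup.normalizer (D : Set G)).subtype)
    (PCore.le_pCore (N := D.subgroupOf (Subgroup.normalizer (D : Set G)))
      (hDp.of_equiv (Subgroup.subgroupOfEquivOfLe Subgroup.le_normalizer).symm))
  rwa [Subgroup.map_subgroupOf_eq_of_le Subgroup.le_normalizer] at h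

end Cfsg.Agent.S0955
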