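import Cfsg.Statements.S1086
import Cfsg.Agent.Lib.Chev.TwistE6Group

set_option autoImplicit false
open Cfsg

namespace Cfsg.Agent.S1086

/-- |U¹| = |G¹ ∩ U| = q ^ 36 for ²E₆(q). -/
theorem result {K : Type*} [Field K] [Fintype K] {q : ℕ} (hq : IsPrimePow q) (hK : Fintype.card K = q ^ 2) :
    Nat.card ↥(Cfsg.Lie.chevE6.posUnipotent K ⊓ Cfsg.Lie.twistedE6 K q) = q ^ 36 := by
  obtain ⟨φ, -, hGt, hinv, hcard⟩ := Agent.Chev.BNSetup.exists_frob2 hq hK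
  rw [← hGt]
  exact (Agent.Chev.BNSetup.card_U_inf Agent.Chev.E6.good Agent.Chev.BNSetup.orbE6_ok φ
    Agent.Chev.BNSetup.facts_chevE6 Agent.Chev.BNSetup.negTri_chevE6 Agent.Chev.BNSetup.graphE6_cols
    (Agent.Chev.BNSetup.card_X'_E6 hK hinv hcard) 0).trans (congrArg (q ^ ·) (by decide +kernel))

end Cfsg.Agent.S1086
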