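import Cfsg.Statements.S0948
import Cfsg.Agent.Lib.ZStar.KleinBlock
-- import your own Cfsg.Agent.* helpers here

set_option autoImplicit false
open Cfsg

namespace Cfsg.Agent.S0948

/-- Let the finite group G have a Sylow 2-subgroup P that is a Klein four-group, suppose all involutions of G are conjugate, and fix a maximal ideal M of the algebraic integers containing 2. Then the principal block consists of exactly four irreducible characters, the principal character and ζ₂, ζ₃, ζ₄, and there is a sign ε such that for every involution z: ζ₂ z = 1, ζ₃ z = ε, ζ₄ z = -1; moreover ζ₂ 1 ≡ 1, ζ₃ 1 ≡ ε, ζ₄ 1 ≡ -1 (mod 4), and 1 + ζ₂ y + ε ζ₃ y - ζ₄ y = 0 for every y of odd order. -/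
theorem result {G : Type*} [Group G] [Finite G] (M : Ideal Cfsg.AlgInt) (hM : Cfsg.IsPModular 2 M) (P : Sylow 2 G) (hP : IsKleinFour (P : Subgroup G)) (hone : ∀ s t : G, orderOf s = 2 → orderOf t = 2 → IsConj s t) : ∃ ζ₂ ζ₃ ζ₄ : Cfsg.IrrCharacter G, ∃ ε : ℤ, (ε = 1 ∨ ε = -1) ∧ (ζ₂ : G → ℂ) ≠ (fun _ => 1) ∧ (ζ₃ : G → ℂ) ≠ (fun _ => 1) ∧ ζ₂ ≠ ζ₃ ∧ ζ₂ ≠ ζ₄ ∧ ζ₃ ≠ ζ₄ ∧ Cfsg.principalBlock M G = {χ : Cfsg.IrrCharacter G | (χ : G → ℂ) = (fun _ => 1) ∨ χ = ζ₂ ∨ χ = ζ₃ ∨ χ = ζ₄} ∧ (∀ z : G, orderOf z = 2 → (ζ₂ : G → ℂ) z = 1 ∧ (ζ₃ : G → ℂ) z = (ε : ℂ) ∧ (ζ₄ : G → ℂ) z = -1) ∧ (4 : ℤ) ∣ (Cfsg.charDegree (ζ₂ : G → ℂ) : ℤ) - 1 ∧ (4 : ℤ) ∣ (Cfsg.charDegree (ζ₃ : G → ℂ) : ℤ) - ε ∧ (4 : ℤ) ∣ (Cfsg.charDegree (ζ₄ : G → ℂ) : ℤ) + 1 ∧ ∀ y : G, Odd (orderOf y) → 1 + (ζ₂ : G → ℂ) y + (ε : ℂ) * (ζ₃ : G → ℂ) y - (ζ₄ : G → ℂ) y = 0 := by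
  classical
  haveI := Fintype.ofFinite G
  haveI := hM.2.1
  obtain ⟨t, htP, ht⟩ := ZStar.exists_invData P hP hone
  obtain ⟨w, hwB, hsupp, horth, hsq, htriv⟩ := ht.exists_weights ZStar.secondPrincipal hM
  set T := Char.trivialChar G with hT
  set S := Finset.univ.filter (fun χ : Cfsg.IrrCharacter G => w χ ≠ 0) with hS
  have hTS : T ∈ S := Finset.mem_filter.2 ⟨Finset.mem_univ _, by omega⟩
  have hsum : ∑ χ ∈ S, w χ * w χ = 4 := by
    rw [hS, Finset.sum_filter_of_ne (fun χ _ h => left_ne_zero_of_mul h), hsq]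
  have hone' : ∀ χ ∈ S, w χ = 1 ∨ w χ = -1 := by
    intro χ hχ
    have h0 : w χ ≠ 0 := (Finset.mem_filter.1 hχ).2
    by_contra hc
    have hc1 : w χ ≠ 1 ∧ w χ ≠ -1 := ⟨fun h => hc (Or.inl h), fun h => hc (Or.inr h)⟩
    have hne : χ ≠ T := fun h => hc1.1 (h ▸ htriv)
    have h4 : 4 ≤ w χ * w χ := by
      rcases le_or_gt 2 (w χ) with h | h
      · nlinarith
      · have : w χ ≤ -2 := by omega
        nlinarith
    have hle : ∑ ψ ∈ ({χ, T} : Finset (Cfsg.IrrCharacter G)), w ψ * w ψ ≤ ∑ ψ ∈ S, w ψ * w ψ :=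
      Finset.sum_le_sum_of_subset_of_nonneg (by
        intro ψ hψ
        rcases Finset.mem_insert.1 hψ with rfl | h
        · exact hχ
        · rw [Finset.mem_singleton] at h; exact h ▸ hTS) (fun ψ _ _ => mul_self_nonneg _)
    rw [Finset.sum_pair hne, htriv, hsum] at hle
    omega
  have hcard : S.card = 4 := by
    rw [Finset.sum_congr rfl (g := fun _ => (1 : ℤ)) (fun χ hχ => by
      rcases hone' χ hχ with h | h <;> rw [h] <;> norm_num), Finset.sum_const, nsmul_one] at hsum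
    exact_mod_cast hsum
  have hrel : ∀ y : G, Odd (orderOf y) →
      1 + ∑ χ ∈ S.erase T, (w χ : ℂ) * χ.1 y = 0 := by
    intro y hy
    have h := horth y hy
    rw [← Finset.sum_filter_of_ne (p := fun χ : Cfsg.IrrCharacter G => w χ ≠ 0) (fun χ _ h0 => by
      intro h1; rw [h1, Int.cast_zero, zero_mul] at h0; exact h0 rfl), ← hS,
      ← Finset.add_sum_erase _ _ hTS, htriv] at h
    simpa [hT, Char.trivialChar] using h
  have hdeg1 : ∀ χ : Cfsg.IrrCharacter G, 1 ≤ (Cfsg.charDegree χ.1 : ℤ) := fun χ => by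
    have : Cfsg.charDegree χ.1 ≠ 0 := fun h => Blocks.irr_one_ne_zero χ (by
      rw [← Char.charDegree_cast, h, Nat.cast_zero])
    exact_mod_cast Nat.pos_of_ne_zero this
  have hdeg : 1 + ∑ χ ∈ S.erase T, w χ * (Cfsg.charDegree χ.1 : ℤ) = 0 := by
    have h := hrel 1 (by rw [orderOf_one]; decide)
    simp only [← Char.charDegree_cast] at h
    exact_mod_cast h
  have hc3 : (S.erase T).card = 3 := by rw [Finset.card_erase_of_mem hTS, hcard]
  obtain ⟨a, ha, hwa⟩ : ∃ a ∈ S.erase T, w a = 1 := by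
    by_contra hne
    have hm : ∀ χ ∈ S.erase T, w χ * (Cfsg.charDegree χ.1 : ℤ) ≤ -1 := fun χ hχ => by
      rcases hone' χ (Finset.mem_of_mem_erase hχ) with h | h
      · exact absurd ⟨χ, hχ, h⟩ hne
      · rw [h]; linarith [hdeg1 χ]
    have := Finset.sum_le_card_nsmul _ _ _ hm
    rw [hc3] at this
    simp at this
    omega
  obtain ⟨b, hb, hwb⟩ : ∃ b ∈ S.erase T, w b = -1 := by
    by_contra hne
    have hm : ∀ χ ∈ S.erase T, 0 ≤ w χ * (Cfsg.charDegree χ.1 : ℤ) := fun χ hχ => by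
      rcases hone' χ (Finset.mem_of_mem_erase hχ) with h | h
      · rw [h]; linarith [hdeg1 χ]
      · exact absurd ⟨χ, hχ, h⟩ hne
    have := Finset.sum_nonneg hm
    omega
  have hab : a ≠ b := fun h => by rw [h, hwb] at hwa; norm_num at hwa
  obtain ⟨c, hc⟩ : ∃ c, c ∈ ((S.erase T).erase a).erase b := by
    refine Finset.card_pos.1 ?_
    rw [Finset.card_erase_of_mem (Finset.mem_erase.2 ⟨hab.symm, hb⟩),
      Finset.card_erase_of_mem ha, hc3]
    norm_num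
  obtain ⟨hcb, hc'⟩ := Finset.mem_erase.1 hc
  obtain ⟨hca, hcE⟩ := Finset.mem_erase.1 hc'
  have hE : S.erase T = {a, c, b} := by
    refine (Finset.eq_of_subset_of_card_le ?_ ?_).symm
    · intro x hx
      simp only [Finset.mem_insert, Finset.mem_singleton] at hx
      rcases hx with rfl | rfl | rfl
      · exact ha
      · exact hcE
      · exact hb
    · rw [hc3, Finset.card_eq_three.2 ⟨a, c, b, hca.symm, hab, hcb, rfl⟩]
  have hmemS : ∀ χ : Cfsg.IrrCharacter G, χ ∈ S ↔ χ ∈ Cfsg.principalBlock M G := fun χ => by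
    rw [hsupp]; simp [hS]
  have hTone : ∀ χ : Cfsg.IrrCharacter G, (χ : G → ℂ) = (fun _ => 1) ↔ χ = T := fun χ =>
    ⟨fun h => Subtype.ext (h.trans (by funext g; simp [hT, Char.trivialChar])),
      fun h => by rw [h]; funext g; simp [hT, Char.trivialChar]⟩
  have hval : ∀ χ ∈ S, ∀ z : G, orderOf z = 2 → (χ : G → ℂ) z = (w χ : ℂ) := fun χ hχ z hz => by
    obtain ⟨g, hg⟩ := isConj_iff.1 (ht.isConj_inv z hz)
    rw [← hg, Blocks.irr_classFun χ, hwB χ ((hmemS χ).1 hχ)]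
  have hdvd : ∀ χ ∈ S, (4 : ℤ) ∣ (Cfsg.charDegree χ.1 : ℤ) - w χ := fun χ hχ =>
    ht.four_dvd_degree_sub P hP χ (hwB χ ((hmemS χ).1 hχ))
  have haS := Finset.mem_of_mem_erase ha
  have hbS := Finset.mem_of_mem_erase hb
  have hcS := Finset.mem_of_mem_erase hcE
  refine ⟨a, c, b, w c, hone' c hcS, fun h => Finset.ne_of_mem_erase ha ((hTone a).1 h),
    fun h => Finset.ne_of_mem_erase hcE ((hTone c).1 h), hca.symm, hab, hcb, ?_,
    fun z hz => ⟨?_, ?_, ?_⟩, ?_, hdvd c hcS, ?_, fun y hy => ?_⟩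
  · ext χ
    rw [Set.mem_ofPred_eq, ← hmemS, hTone, ← Finset.insert_erase hTS, hE]
    simp only [Finset.mem_insert, Finset.mem_singleton]
  · rw [hval a haS z hz, hwa, Int.cast_one]
  · exact hval c hcS z hz
  · rw [hval b hbS z hz, hwb, Int.cast_neg, Int.cast_one]
  · simpa [hwa] using hdvd a haS
  · simpa [hwb] using hdvd b hbS
  · have h := hrel y hy
    rw [hE, Finset.sum_insert (by simp [hca.symm, hab]), Finset.sum_pair hcb, hwa, hwb] at h
    push_cast at h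
    linear_combination h

end Cfsg.Agent.S0948
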