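import Cfsg.Statements.S1181
import Cfsg.Agent.Lib.Involution.Isolated
-- import your own Cfsg.Agent.* helpers here

set_option autoImplicit false
open Cfsg

namespace Cfsg.Agent.S1181

/-- Let z be an isolated involution of the finite group G and N a normal subgroup with z ∉ N. Then the centralizer of zN in G/N is the image of C_G(z), and zN is an isolated involution of G/N. -/
theorem result {G : Type*} [Group G] [Finite G] (z : G) (hz : Cfsg.IsIsolatedInvolution z) (N : Subgroup G) [N.Normal] (hzN : z ∉ N) : Subgroup.centralizer ({(QuotientGroup.mk z : G ⧸ N)} : Set (G ⧸ N)) = (Subgroup.centralizer ({z} : Set G)).map (QuotientGroup.mk' N) ∧ Cfsg.IsIsolatedInvolution (QuotientGroup.mk z : G ⧸ N) :=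
  by
  have hz2 := Involution.Isolated.mul_self hz
  refine ⟨le_antisymm ?_ ?_, ?_, ?_⟩
  · intro q hq
    induction q using QuotientGroup.induction_on with
    | _ g =>
      rw [Subgroup.mem_centralizer_singleton_iff, ← QuotientGroup.mk_mul, ← QuotientGroup.mk_mul,
        QuotientGroup.eq] at hq
      -- `g z g⁻¹` lies in `N ⊔ ⟨z⟩`
      have hcon : g * z * g⁻¹ ∈ N ⊔ Subgroup.zpowers z := by
        have h1 : z * g * ((g * z)⁻¹ * (z * g))⁻¹ = g * z := by group
        have h2 : g * z * g⁻¹ = z * (g * ((g * z)⁻¹ * (z * g))⁻¹ * g⁻¹) := by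
          nth_rw 1 [← h1]
          group
        rw [h2]
        exact mul_mem (Subgroup.mem_sup_right (Subgroup.mem_zpowers z))
          (Subgroup.mem_sup_left (Subgroup.Normal.conj_mem inferInstance _ (inv_mem hq) g))
      obtain ⟨h, hh, he⟩ := Involution.Isolated.exists_mem_conj_eq hz
        (Subgroup.mem_sup_right (Subgroup.mem_zpowers z)) (isConj_iff.mpr ⟨g, rfl⟩) hcon
      obtain ⟨n, hn, w, hw, hnw⟩ := Subgroup.mem_sup_of_normal_left.mp hh
      refine ⟨n⁻¹ * g, ?_, ?_⟩
      · rw [SetLike.mem_coe, Subgroup.mem_centralizer_singleton_iff]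
        obtain ⟨i, rfl⟩ := Subgroup.mem_zpowers_iff.mp hw
        have h3 : n * z * n⁻¹ = g * z * g⁻¹ := by rw [← he, ← hnw]; group
        calc n⁻¹ * g * z = n⁻¹ * (g * z * g⁻¹) * g := by group
          _ = z * (n⁻¹ * g) := by rw [← h3]; group
      · show ((n⁻¹ * g : G) : G ⧸ N) = (g : G ⧸ N)
        rw [QuotientGroup.eq]
        have : (n⁻¹ * g)⁻¹ * g = g⁻¹ * n * g⁻¹⁻¹ := by group
        rw [this]
        exact Subgroup.Normal.conj_mem inferInstance n hn g⁻¹
  · rintro _ ⟨c, hc, rfl⟩
    rw [SetLike.mem_coe, Subgroup.mem_centralizer_singleton_iff] at hc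
    rw [Subgroup.mem_centralizer_singleton_iff]
    exact (congrArg (QuotientGroup.mk' N) hc : _)
  · rw [orderOf_eq_prime_iff]
    refine ⟨?_, fun h => hzN ((QuotientGroup.eq_one_iff z).mp h)⟩
    rw [pow_two, ← QuotientGroup.mk_mul, hz2, QuotientGroup.mk_one]
  · intro q hq
    induction q using QuotientGroup.induction_on with
    | _ g =>
      rw [← QuotientGroup.mk_mul, ← QuotientGroup.mk_inv, ← QuotientGroup.mk_mul] at hq ⊢
      set s := g * z * g⁻¹ with hs
      have hcs : IsConj z s := isConj_iff.mpr ⟨g, rfl⟩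
      have hs2 := Involution.Isolated.conj_mul_self hz hcs
      have hodd := Involution.Isolated.odd_orderOf_mul hz (IsConj.refl z) hcs
      have h2 : ((z * s : G) : G ⧸ N) * ((z * s : G) : G ⧸ N) = 1 := by
        have hzq : (z : G ⧸ N) * (z : G ⧸ N) = 1 := by
          rw [← QuotientGroup.mk_mul, hz2, QuotientGroup.mk_one]
        have hsq : (s : G ⧸ N) * (s : G ⧸ N) = 1 := by
          rw [← QuotientGroup.mk_mul, hs2, QuotientGroup.mk_one]
        rw [QuotientGroup.mk_mul]
        nth_rw 1 [hq.eq]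
        rw [mul_assoc, ← mul_assoc (z : G ⧸ N), hzq, one_mul, hsq]
      have h3 : ((z * s : G) : G ⧸ N) = 1 :=
        Involution.Isolated.eq_one_of_eq_inv (hodd.of_dvd_nat (orderOf_map_dvd (QuotientGroup.mk' N) _))
          (eq_inv_of_mul_eq_one_left h2)
      have h4 := eq_inv_of_mul_eq_one_right ((QuotientGroup.mk_mul N z s).symm.trans h3)
      rw [h4, ← QuotientGroup.mk_inv, Involution.Isolated.inv_mul_self_eq hz2]

end Cfsg.Agent.S1181
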