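import Cfsg.Statements.S0385
import Cfsg.Agent.Lib.Mathieu.Hexads
-- import your own Cfsg.Agent.* helpers here

set_option autoImplicit false
open Cfsg

namespace Cfsg.Agent.S0385

/-- The 6-point intersections of octads with a fixed dodecad form a Steiner system S(5, 6, 12) on the dodecad. -/
theorem result (d : Finset Cfsg.GolayPt) (hd : d ∈ Cfsg.dodecads) : Cfsg.IsSteinerSystem 5 6 {h : Finset {p : Cfsg.GolayPt // p ∈ d} | ∃ o ∈ Cfsg.octads, (o ∩ d).card = 6 ∧ h = Finset.subtype (fun p => p ∈ d) o} := by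
  classical
  constructor
  · rintro _ ⟨o, ho, h6, rfl⟩
    rw [Finset.card_subtype, Finset.filter_mem_eq_inter]
    exact h6
  · intro s hs
    have hsd : s.map (Function.Embedding.subtype fun p => p ∈ d) ⊆ d := fun x hx => by
      obtain ⟨y, -, rfl⟩ := Finset.mem_map.1 hx
      exact y.2
    obtain ⟨o, ⟨ho, hso, h6⟩, hu⟩ := Cfsg.Agent.Mathieu.exists_unique_hexad hd hsd
      ((Finset.card_map _).trans hs)
    refine ⟨Finset.subtype (fun p => p ∈ d) o, ⟨⟨o, ho, h6, rfl⟩, fun x hx => ?_⟩, ?_⟩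
    · exact Finset.mem_subtype.2 (hso (Finset.mem_map.2 ⟨x, hx, rfl⟩))
    · rintro _ ⟨⟨o', ho', h6', rfl⟩, hs'⟩
      rw [hu o' ⟨ho', fun x hx => by
        obtain ⟨y, hy, rfl⟩ := Finset.mem_map.1 hx
        exact Finset.mem_subtype.1 (hs' hy), h6'⟩]

end Cfsg.Agent.S0385
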