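import Cfsg.Statements.S0496
import Cfsg.Agent.Lib.SmallSimple.Below1092.Sweep
import Cfsg.Agent.Lib.SmallSimple.Below1092.Easy
import Cfsg.Agent.Lib.SmallSimple.Below1092.Hard
import Cfsg.Agent.Lib.SmallSimple.Below1092.Order720

set_option autoImplicit false
open Cfsg

namespace Cfsg.Agent.S0496

/-- A non-abelian finite simple group of order at most 1092 has order 60, 168, 360, 504, 660 or 1092. -/
theorem result {G : Type*} [Group G] [Finite G] [IsSimpleGroup G]
    (hG : ¬ IsMulCommutative G) (h : Nat.card G ≤ 1092) :
    Nat.card G = 60 ∨ Nat.card G = 168 ∨ Nat.card G = 360 ∨ Nat.card G = 504 ∨ Nat.card G = 660 ∨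
      Nat.card G = 1092 := by
  rcases Nat.lt_or_ge 100 (Nat.card G) with h1 | h1
  · have hm := Cfsg.Agent.SmallSimple.Below1092.mem_rest hG h1 h
    simp only [Cfsg.Agent.SmallSimple.Below1092.rest, List.mem_cons, List.not_mem_nil, or_false] at hm
    have := SmallSimple.Below1092.card_ne_420 hG
    have := SmallSimple.Below1092.card_ne_600 hG
    have := SmallSimple.Below1092.card_ne_720 hG
    have := SmallSimple.Below1092.card_ne_780 hG
    have := SmallSimple.Below1092.card_ne_792 hG
    have := SmallSimple.Below1092.card_ne_840 hG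
    have := SmallSimple.Below1092.card_ne_924 hG
    have := SmallSimple.Below1092.card_ne_936 hG
    have := SmallSimple.Below1092.card_ne_1008 hG
    have := SmallSimple.Below1092.card_ne_1020 hG
    have := SmallSimple.Below1092.card_ne_1080 hG
    omega
  · exact Or.inl (Cfsg.Agent.SmallSimple.card_eq_sixty hG h1)

end Cfsg.Agent.S0496
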