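import Cfsg.Statements.S0976
import Cfsg.Agent.Lib.SmallSimple.CentralizerOrbits
import Cfsg.Agent.Lib.SmallSimple.ExceptionalDegree
-- import your own Cfsg.Agent.* helpers here

set_option autoImplicit false
open Cfsg

namespace Cfsg.Agent.S0976

theorem card_centralizer_seven : ∀ {α : Type*} [Fintype α] [DecidableEq α], Fintype.card α = 8 →
    ∀ a b : Equiv.Perm α, orderOf a = 7 → Commute b a → orderOf b ∣ 7 := by
  intro α _ _ hα a b ha hb
  haveI : Fact (Nat.Prime 7) := ⟨by norm_num⟩
  obtain ⟨k, hk⟩ := Equiv.Perm.cycleType_prime_order (σ := a) (by rw [ha]; norm_num)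
  rw [ha] at hk
  have hk0 : k = 0 := by
    have h := Equiv.Perm.sum_cycleType a
    have h2 := a.support.card_le_univ
    rw [hk, Multiset.sum_replicate, smul_eq_mul] at h
    rw [hα] at h2
    omega
  subst hk0
  have hcard : Nat.card (Subgroup.centralizer ({a} : Set (Equiv.Perm α))) = 7 := by
    rw [Equiv.Perm.nat_card_centralizer, hk, hα]
    rfl
  have := Subgroup.orderOf_dvd_natCard (Subgroup.centralizer ({a} : Set (Equiv.Perm α)))
    (x := b) (Subgroup.mem_centralizer_singleton_iff.2 hb.eq)
  rwa [hcard] at this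

theorem false_of_sixtyfour {G : Type*} [Group G] [Finite G] [IsSimpleGroup G]
    (hG : ¬ IsMulCommutative G) (hn : Nat.card G = 4032) (hns : Nat.card (Sylow 7 G) = 64)
    [Fact (Nat.Prime 7)] (P : Sylow 7 G)
    (hC : Nat.card (Subgroup.centralizer ((P : Subgroup G) : Set G)) = 21) : False := by
  classical
  haveI := Fintype.ofFinite G
  haveI : Fact (Nat.Prime 3) := ⟨Nat.prime_three⟩
  have hP : Nat.card (P : Subgroup G) = 7 := by
    rw [Agent.SmallSimple.card_sylow_subgroup (k := 1) (m := 576) (by rw [hn]; norm_num)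
      (by norm_num) P, pow_one]
  set N := Subgroup.normalizer ((P : Subgroup G) : Set G)
  set C := Subgroup.centralizer ((P : Subgroup G) : Set G)
  have hN : Nat.card N = 63 := by
    have := Agent.SmallSimple.card_sylow_mul_card_normalizer P
    rw [hns, hn] at this
    exact Nat.eq_of_mul_eq_mul_left (by norm_num : 0 < 64) (this.trans (by norm_num))
  have hCN : C ≤ N := Agent.SmallSimple.centralizer_le_normalizer _
  have hPN : (P : Subgroup G) ≤ N := Subgroup.le_normalizer
  have hPC : (P : Subgroup G) ≤ C := by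
    haveI : IsCyclic (P : Subgroup G) := isCyclic_of_prime_card hP
    intro a ha b hb
    have := IsCyclic.isMulCommutative (α := (P : Subgroup G))
    exact congrArg Subtype.val (mul_comm' (⟨b, hb⟩ : (P : Subgroup G)) ⟨a, ha⟩)
  obtain ⟨⟨z, hzC⟩, hz⟩ := exists_prime_orderOf_dvd_card' (G := C) 3 (by rw [hC]; norm_num)
  rw [Subgroup.orderOf_mk] at hz
  have hz1 : z ≠ 1 := fun h => by rw [h, orderOf_one] at hz; norm_num at hz
  -- the Sylow 3-subgroup through `z`
  obtain ⟨R, hzR, hR, hRN⟩ : ∃ R : Sylow 3 G, z ∈ (R : Subgroup G) ∧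
      Nat.card (R : Subgroup G) = 9 ∧ (R : Subgroup G) ≤ N := by
    have hp : IsPGroup 3 (Subgroup.zpowers (⟨z, hCN hzC⟩ : N)) :=
      IsPGroup.of_card (n := 1) (by rw [Nat.card_zpowers, Subgroup.orderOf_mk, hz]; norm_num)
    obtain ⟨R₀, hR₀⟩ := hp.exists_le_sylow
    have h0 : Nat.card ((R₀ : Subgroup N).map N.subtype) = 9 := by
      rw [Subgroup.card_map_of_injective N.subtype_injective,
        Agent.SmallSimple.card_sylow_subgroup (k := 2) (m := 7) (by rw [hN]; norm_num) (by norm_num)]
      norm_num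
    refine ⟨Sylow.ofCard ((R₀ : Subgroup N).map N.subtype) ?_, ⟨_, hR₀ (Subgroup.mem_zpowers _), rfl⟩,
      h0, Subgroup.map_subtype_le _⟩
    rw [h0, hn, show (4032 : ℕ) = 3 ^ 2 * 448 by norm_num,
      Nat.factorization_mul (by norm_num) (by norm_num), Finsupp.add_apply,
      Nat.Prime.factorization_pow Nat.prime_three, Finsupp.single_eq_same,
      Nat.factorization_eq_zero_of_not_dvd (by norm_num : ¬ 3 ∣ 448)]
    norm_num
  haveI hRab : IsMulCommutative (R : Subgroup G) :=
    IsPGroup.isMulCommutative_of_card_eq_prime_sq (p := 3) (by rw [hR]; norm_num)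
  have hRcomm : ∀ a ∈ (R : Subgroup G), ∀ b ∈ (R : Subgroup G), a * b = b * a := fun a ha b hb =>
    congrArg Subtype.val (mul_comm' (⟨a, ha⟩ : (R : Subgroup G)) ⟨b, hb⟩)
  set Z := Subgroup.centralizer ({z} : Set G)
  have hPZ : (P : Subgroup G) ≤ Z := fun a ha =>
    Subgroup.mem_centralizer_singleton_iff.2 (hzC a ha)
  have hRZ : (R : Subgroup G) ≤ Z := fun a ha =>
    Subgroup.mem_centralizer_singleton_iff.2 (hRcomm a ha z hzR)
  have hNZ : N ≤ Z := by
    have h1 : 63 ∣ Nat.card (N ⊓ Z : Subgroup G) := by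
      have h7 := Subgroup.card_dvd_of_le (le_inf hPN hPZ)
      have h9 := Subgroup.card_dvd_of_le (le_inf hRN hRZ)
      rw [hP] at h7; rw [hR] at h9
      exact Nat.Coprime.mul_dvd_of_dvd_of_dvd (by norm_num : Nat.Coprime 7 9) h7 h9
    have h2 : N ⊓ Z = N := Subgroup.eq_of_le_of_card_ge inf_le_left
      (by rw [hN]; exact Nat.le_of_dvd Nat.card_pos h1)
    exact h2 ▸ inf_le_right
  have hZ : Z = N := by
    have h1 : Nat.card (Sylow 7 Z) * 63 = Nat.card Z := by
      have h := Agent.SmallSimple.card_sylow_mul_card_normalizer (P.subtype hPZ)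
      rw [Sylow.coe_subtype, ← Subgroup.subgroupOf_normalizer_eq hPZ] at h
      rwa [Nat.card_congr (Subgroup.subgroupOfEquivOfLe hNZ).toEquiv, hN] at h
    have h2 : Nat.card (Sylow 7 Z) % 7 = 1 := card_sylow_modEq_one 7 Z
    have h3 : Nat.card Z ∣ 4032 := hn ▸ Subgroup.card_subgroup_dvd_card Z
    have h4 : Nat.card Z ≠ 4032 := fun h => Agent.SmallSimple.centralizer_singleton_ne_top hG hz1
      ((Subgroup.card_eq_iff_eq_top Z).1 (by rw [h, hn]))
    generalize hk : Nat.card (Sylow 7 Z) = k at h1 h2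
    have hk64 : k ∣ 64 := by
      obtain ⟨c, hc⟩ := h3
      exact ⟨c, by rw [← h1] at hc; linarith⟩
    have hk' : k = 1 ∨ k = 8 := by
      have hle := Nat.le_of_dvd (by norm_num) hk64
      have hlist : ∀ d ∈ (64 : ℕ).divisors, d % 7 = 1 → d = 1 ∨ d = 8 ∨ d = 64 := by decide +kernel
      rcases hlist k (Nat.mem_divisors.2 ⟨hk64, by norm_num⟩) h2 with h | h | h
      · exact Or.inl h
      · exact Or.inr h
      · exact absurd (by rw [← h1, h]) h4
    rcases hk' with rfl | rfl
    · exact (Subgroup.eq_of_le_of_card_ge hNZ (by rw [hN, ← h1, one_mul])).symm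
    · exfalso
      have hidx : Z.index = 8 := by
        have := Subgroup.card_mul_index Z
        rw [← h1, hn] at this; omega
      obtain ⟨x, hx⟩ := exists_prime_orderOf_dvd_card' (G := (P : Subgroup G)) 7 (by rw [hP])
      have hinj := Agent.SmallSimple.toPermHom_injective (G := G) (H := Z) (fun h => h4 (by
        rw [h, Subgroup.card_top, hn]))
      haveI := Fintype.ofFinite (G ⧸ Z)
      have h := card_centralizer_seven (by rw [← Nat.card_eq_fintype_card]; exact hidx)
        (MulAction.toPermHom G (G ⧸ Z) x) (MulAction.toPermHom G (G ⧸ Z) z)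
        (by rw [orderOf_injective _ hinj, Subgroup.orderOf_coe, hx])
        ((show Commute z (x : G) from (hzC x x.2).symm).map _)
      rw [orderOf_injective _ hinj, hz] at h
      norm_num at h
  have hZcard : Nat.card Z = 63 := hZ ▸ hN
  -- `z` is real
  have hreal : IsConj z z⁻¹ := by
    set NR := Subgroup.normalizer ((R : Subgroup G) : Set G)
    letI : MulAction NR (R : Subgroup G) :=
      MulAction.compHom (R : Subgroup G) (Subgroup.normalizerMonoidHom (R : Subgroup G))
    have hsmul : ∀ (g : NR) (a : (R : Subgroup G)), ((g • a : (R : Subgroup G)) : G) = g * a * g⁻¹ :=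
      fun g a => rfl
    set zR : (R : Subgroup G) := ⟨z, hzR⟩
    have hxR : ¬ N ≤ NR := by
      intro h
      -- then `P` and `R` commute, too much for `C(P)`
      have h9 : 9 ∣ Nat.card C := hR ▸ Subgroup.card_dvd_of_le (fun a ha b hb => by
        have h1 : b * a * b⁻¹ * a⁻¹ ∈ (R : Subgroup G) ⊓ (P : Subgroup G) :=
          Subgroup.mem_inf.2 ⟨mul_mem ((Subgroup.mem_normalizer_iff.1 (h (hPN hb)) a).1 ha) (inv_mem ha), by
            rw [mul_assoc, mul_assoc]
            exact mul_mem hb (by
              simpa [mul_assoc] using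
                (Subgroup.mem_normalizer_iff.1 (hRN ha) b⁻¹).1 (inv_mem hb))⟩
        have h2 : (R : Subgroup G) ⊓ (P : Subgroup G) = ⊥ :=
          Subgroup.inf_eq_bot_of_coprime (by rw [hR, hP]; norm_num)
        rw [h2, Subgroup.mem_bot, mul_inv_eq_one, mul_inv_eq_iff_eq_mul] at h1
        exact h1)
      rw [hC] at h9; norm_num at h9
    have hstab : Nat.card (MulAction.stabilizer NR zR) = 9 := by
      have hle : Nat.card (MulAction.stabilizer NR zR) = Nat.card (NR ⊓ Z : Subgroup G) :=
        Nat.card_congr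
          { toFun := fun g => ⟨g.1.1, g.1.2, Subgroup.mem_centralizer_singleton_iff.2
              (mul_inv_eq_iff_eq_mul.1 ((hsmul g.1 zR).symm.trans (congrArg Subtype.val g.2)))⟩
            invFun := fun g => ⟨⟨g.1, g.2.1⟩, Subtype.ext ((hsmul ⟨g.1, g.2.1⟩ zR).trans
              (mul_inv_eq_iff_eq_mul.2 (Subgroup.mem_centralizer_singleton_iff.1 g.2.2)))⟩
            left_inv := fun g => rfl
            right_inv := fun g => rfl }
      rw [hle, hZ]
      have h1 : 9 ∣ Nat.card (NR ⊓ N : Subgroup G) :=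
        hR ▸ Subgroup.card_dvd_of_le (le_inf Subgroup.le_normalizer hRN)
      have h2 : Nat.card (NR ⊓ N : Subgroup G) ∣ 63 := hN ▸ Subgroup.card_dvd_of_le inf_le_right
      have h3 : Nat.card (NR ⊓ N : Subgroup G) ≠ 63 := fun h => hxR
        ((Subgroup.eq_of_le_of_card_ge (inf_le_right : NR ⊓ N ≤ N) (by rw [h, hN])).ge.trans
          inf_le_left)
      obtain ⟨j, hj⟩ := h1
      rw [hj] at h2 h3 ⊢
      have : j ∣ 7 := Nat.dvd_of_mul_dvd_mul_left (by norm_num : 0 < 9) h2
      rcases (Nat.dvd_prime (by norm_num)).1 this with rfl | rfl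
      · rfl
      · omega
    set O := MulAction.orbit NR zR
    have hO1 : ∀ a ∈ O, a ≠ 1 := by
      rintro a ⟨g, rfl⟩ h
      have h' : (g : G) * z * (g : G)⁻¹ = 1 := (hsmul g zR).symm.trans (congrArg Subtype.val h)
      exact hz1 (conj_eq_one_iff.1 h')
    have hOle : Nat.card O ≤ 8 := by
      rw [Nat.card_coe_set_eq]
      refine (Set.ncard_le_ncard (t := ({1}ᶜ : Set (R : Subgroup G))) (fun a ha => hO1 a ha)
        (Set.toFinite _)).trans (le_of_eq ?_)
      have h := Set.ncard_add_ncard_compl ({1} : Set (R : Subgroup G))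
      rw [Set.ncard_singleton, hR] at h; omega
    have hos := Agent.SmallSimple.card_orbit_mul_card_stabilizer (G := NR) zR
    rw [hstab] at hos
    have hn3 := Agent.SmallSimple.card_sylow_mul_card_normalizer R
    rw [hn, ← hos] at hn3
    have hmod : Nat.card (Sylow 3 G) % 3 = 1 := card_sylow_modEq_one 3 G
    have hO : Nat.card O = 1 ∨ Nat.card O = 4 ∨ Nat.card O = 7 := by
      have h0 : 0 < Nat.card O := @Nat.card_pos _ ⟨⟨zR, MulAction.mem_orbit_self _⟩⟩ _
      generalize Nat.card (Sylow 3 G) = k at hn3 hmod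
      change k * (Nat.card O * 9) = 4032 at hn3
      generalize Nat.card O = o at hn3 hOle h0
      interval_cases o <;> omega
    rcases hO with h | h | h
    · exfalso
      refine Agent.SmallSimple.not_hasNormalPComplement hG (by rw [hn]; norm_num)
        (Agent.Transfer.hasNormalPComplement_of_normalizer_le_centralizer R ?_)
      have h9 : Nat.card NR = 9 := by rw [← hos]; show Nat.card O * 9 = 9; rw [h, one_mul]
      intro a ha b hb
      exact hRcomm b hb a ((Subgroup.eq_of_le_of_card_ge Subgroup.le_normalizer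
        (by rw [hR]; exact h9.le)).ge ha)
    · by_contra hne
      have hNR : Nat.card NR = 36 := by rw [← hos]; show Nat.card O * 9 = 36; rw [h]
      haveI : Fact (Nat.Prime 2) := ⟨Nat.prime_two⟩
      obtain ⟨n, hn2⟩ := exists_prime_orderOf_dvd_card' (G := NR) 2 (by rw [hNR]; norm_num)
      set O' : Set (R : Subgroup G) := (·⁻¹) '' O
      have hcover : O ∪ O' = {1}ᶜ := by
        refine Set.eq_of_subset_of_ncard_le ?_ ?_ (Set.toFinite _)
        · rintro a (ha | ⟨b, hb, rfl⟩)
          · exact hO1 a ha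
          · exact fun h => hO1 b hb (inv_eq_one.1 h)
        · have hdis : Disjoint O O' := by
            rw [Set.disjoint_left]
            rintro a ⟨g, rfl⟩ ⟨b, ⟨g', rfl⟩, hb⟩
            apply hne
            have h1 : ((g' : G) * z * (g' : G)⁻¹)⁻¹ = (g : G) * z * (g : G)⁻¹ := by
              have h2 := congrArg Subtype.val hb
              rw [Subgroup.coe_inv, hsmul, hsmul] at h2
              exact h2
            refine isConj_iff.2 ⟨(g' : G)⁻¹ * g, ?_⟩
            calc (g' : G)⁻¹ * g * z * ((g' : G)⁻¹ * g)⁻¹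
                = (g' : G)⁻¹ * ((g : G) * z * (g : G)⁻¹) * g' := by group
              _ = z⁻¹ := by rw [← h1]; group
          have hc := Set.ncard_add_ncard_compl ({1} : Set (R : Subgroup G))
          rw [Set.ncard_singleton, hR] at hc
          rw [Set.ncard_union_eq hdis (Set.toFinite _) (Set.toFinite _),
            Set.ncard_image_of_injective _ inv_injective,
            show O.ncard = 4 by rw [← Nat.card_coe_set_eq]; exact h]
          omega
      have hnofix : ∀ a : (R : Subgroup G), n • a = a → a = 1 := by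
        intro a ha
        by_contra ha1
        have hc : (n : G) * a = a * n := mul_inv_eq_iff_eq_mul.1 ((hsmul n a).symm.trans
          (congrArg Subtype.val ha))
        obtain ⟨g, hg⟩ : ∃ g : G, g * z * g⁻¹ = a ∨ g * z * g⁻¹ = (a : G)⁻¹ := by
          have : a ∈ O ∪ O' := hcover ▸ (by simpa using ha1)
          rcases this with ⟨g, hg⟩ | ⟨b, ⟨g, rfl⟩, hb⟩
          · exact ⟨g, Or.inl ((hsmul g zR).symm.trans (congrArg Subtype.val hg))⟩
          · refine ⟨g, Or.inr ?_⟩
            have h2 := congrArg Subtype.val hb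
            rw [Subgroup.coe_inv, hsmul] at h2
            exact inv_eq_iff_eq_inv.1 h2
        have hmem : g⁻¹ * n * g ∈ Z := by
          refine Subgroup.mem_centralizer_singleton_iff.2 ?_
          have h3 : (n : G) * (g * z * g⁻¹) = g * z * g⁻¹ * n := by
            rcases hg with hg | hg <;> rw [hg]
            · exact hc
            · exact (Commute.inv_right hc).eq
          calc g⁻¹ * n * g * z = g⁻¹ * ((n : G) * (g * z * g⁻¹)) * g := by group
            _ = z * (g⁻¹ * n * g) := by rw [h3]; group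
        have h4 := Subgroup.orderOf_dvd_natCard Z hmem
        have h5 : orderOf (g⁻¹ * n * g) = 2 := by
          rw [show g⁻¹ * (n : G) * g = MulAut.conj g⁻¹ n by simp, MulEquiv.orderOf_eq,
            Subgroup.orderOf_coe, hn2]
        rw [h5, hZcard] at h4
        norm_num at h4
      let f : ↥(R : Subgroup G) → ↥(R : Subgroup G) := fun a => a⁻¹ * n • a
      have hf : Function.Surjective f := by
        refine Finite.surjective_of_injective fun a b hab => ?_
        have h1 : a⁻¹ * n • a = b⁻¹ * n • b := hab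
        have h2 : n • (b⁻¹ * a) = b⁻¹ * a := by
          have h3 : n • (b⁻¹ * a) = (n • b)⁻¹ * n • a := by
            apply Subtype.ext
            simp only [hsmul, Subgroup.coe_mul, Subgroup.coe_inv]
            group
          rw [h3, show n • a = a * (b⁻¹ * n • b) by rw [← h1, mul_inv_cancel_left],
            mul_comm' a, mul_comm' b⁻¹ (n • b), mul_assoc, inv_mul_cancel_left]
        exact (inv_mul_eq_one.1 (hnofix _ h2)).symm
      obtain ⟨a, ha⟩ := hf zR
      have hzz : n • zR = zR⁻¹ := by
        have hnn : n • n • a = a := by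
          rw [← mul_smul, show n * n = 1 by rw [← pow_two, ← hn2, pow_orderOf_eq_one], one_smul]
        have h3 : n • zR = (n • a)⁻¹ * n • n • a := by
          rw [← ha]
          apply Subtype.ext
          simp only [f, hsmul, Subgroup.coe_mul, Subgroup.coe_inv]
          group
        rw [h3, hnn, ← ha, mul_inv_rev, inv_inv]
      have h4 := congrArg Subtype.val hzz
      rw [hsmul, Subgroup.coe_inv] at h4
      exact hne (isConj_iff.2 ⟨n, h4⟩)
    · exfalso
      have hNR : Nat.card NR = 63 := by rw [← hos]; show Nat.card O * 9 = 63; rw [h]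
      obtain ⟨y, hy⟩ := exists_prime_orderOf_dvd_card' (G := NR) 7 (by rw [hNR]; norm_num)
      have hfix := (IsPGroup.of_card (p := 7) (n := 1)
        (by rw [Nat.card_zpowers, hy, pow_one] : Nat.card (Subgroup.zpowers y) = 7 ^ 1)
        ).card_modEq_card_fixedPoints (R : Subgroup G)
      rw [hR] at hfix
      have hY : Nat.card ((R : Subgroup G) ⊓ Subgroup.centralizer ({(y : G)} : Set G) : Subgroup G) =
          Nat.card (MulAction.fixedPoints (Subgroup.zpowers y) (R : Subgroup G)) :=
        Nat.card_congr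
          { toFun := fun a => ⟨⟨a.1, a.2.1⟩, by
              rintro ⟨g, hg⟩
              obtain ⟨j, rfl⟩ := Subgroup.mem_zpowers_iff.1 hg
              apply Subtype.ext
              show ((y ^ j : NR) : G) * a.1 * ((y ^ j : NR) : G)⁻¹ = a.1
              rw [Subgroup.coe_zpow, mul_inv_eq_iff_eq_mul]
              exact ((show Commute a.1 (y : G) from
                Subgroup.mem_centralizer_singleton_iff.1 a.2.2).zpow_right j).symm.eq⟩
            invFun := fun a => ⟨a.1.1, a.1.2, Subgroup.mem_centralizer_singleton_iff.2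
              (mul_inv_eq_iff_eq_mul.1 ((hsmul y a.1).symm.trans
                (congrArg Subtype.val (a.2 ⟨y, Subgroup.mem_zpowers y⟩)))).symm⟩
            left_inv := fun a => rfl
            right_inv := fun a => rfl }
      rw [← hY] at hfix
      have hd : Nat.card ((R : Subgroup G) ⊓ Subgroup.centralizer ({(y : G)} : Set G) : Subgroup G) ∣
          9 := hR ▸ Subgroup.card_dvd_of_le inf_le_left
      have h9 : Nat.card ((R : Subgroup G) ⊓ Subgroup.centralizer ({(y : G)} : Set G) : Subgroup G) =
          9 := by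
        have hfix' : 9 % 7 = _ % 7 := hfix
        have hl : ∀ d ∈ (9 : ℕ).divisors, 9 % 7 = d % 7 → d = 9 := by decide +kernel
        exact hl _ (Nat.mem_divisors.2 ⟨hd, by norm_num⟩) hfix'
      have heq := Subgroup.eq_of_le_of_card_ge (inf_le_left :
        (R : Subgroup G) ⊓ Subgroup.centralizer ({(y : G)} : Set G) ≤ R) (by rw [hR, h9])
      have hyst : y ∈ MulAction.stabilizer NR zR := by
        refine Subtype.ext ((hsmul y zR).trans (mul_inv_eq_iff_eq_mul.2 ?_))
        exact (Subgroup.mem_centralizer_singleton_iff.1 (inf_le_right (a := (R : Subgroup G))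
          (heq.ge hzR))).symm
      have h4 := Subgroup.orderOf_dvd_natCard _ hyst
      rw [hy, hstab] at h4
      norm_num at h4
  -- counting the conjugates of `z` in `N`
  set S := {g : G // g ∈ N ∧ IsConj z g}
  set F := {Q : Sylow 7 G // z • Q = Q}
  have hSF : Nat.card S = Nat.card F := by
    haveI := Fintype.ofFinite S
    haveI := Fintype.ofFinite F
    let T := {h : G // h⁻¹ * z * h ∈ N}
    have e1 : Nat.card T = Nat.card S * 63 := by
      have hf : ∀ g : S, Nat.card {h : G // h⁻¹ * z * h = g.1} = 63 := by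
        rintro ⟨g, hgN, hgc⟩
        obtain ⟨c, hc⟩ := isConj_iff.1 hgc
        rw [← hZcard]
        refine Nat.card_congr
          { toFun := fun h => ⟨h.1 * c, Subgroup.mem_centralizer_singleton_iff.2 ?_⟩
            invFun := fun w => ⟨w.1 * c⁻¹, ?_⟩
            left_inv := fun h => Subtype.ext (mul_inv_cancel_right _ _)
            right_inv := fun w => Subtype.ext (inv_mul_cancel_right _ _) }
        · calc h.1 * c * z = h.1 * (c * z * c⁻¹) * c := by group
            _ = h.1 * (h.1⁻¹ * z * h.1) * c := by rw [hc, h.2]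
            _ = z * (h.1 * c) := by group
        · calc (w.1 * c⁻¹)⁻¹ * z * (w.1 * c⁻¹) = c * (w.1⁻¹ * (z * w.1)) * c⁻¹ := by group
            _ = g := by
              rw [← Subgroup.mem_centralizer_singleton_iff.1 w.2, inv_mul_cancel_left, hc]
      rw [Nat.card_congr (β := Σ g : S, {h : G // h⁻¹ * z * h = g.1})
        { toFun := fun h => ⟨⟨h.1⁻¹ * z * h.1, h.2,
            isConj_iff.2 ⟨h.1⁻¹, by rw [inv_inv]⟩⟩, ⟨h.1, rfl⟩⟩
          invFun := fun w => ⟨w.2.1, (congrArg (· ∈ N) w.2.2).mpr w.1.2.1⟩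
          left_inv := fun h => rfl
          right_inv := by rintro ⟨⟨g, hg⟩, ⟨h, hh⟩⟩; dsimp only at hh; subst hh; rfl },
        Nat.card_sigma, Finset.sum_congr rfl fun g _ => hf g, Finset.sum_const, Finset.card_univ,
        smul_eq_mul, ← Nat.card_eq_fintype_card]
    have hTiff : ∀ h : G, h⁻¹ * z * h ∈ N ↔ z • (h • P) = h • P := by
      intro h
      rw [← Agent.SmallSimple.smul_sylow_eq_iff, mul_smul, mul_smul, inv_smul_eq_iff]
    have e2 : Nat.card T = Nat.card F * 63 := by
      have hf : ∀ Q : F, Nat.card {h : G // h • P = Q.1} = 63 := by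
        rintro ⟨Q, hQ⟩
        obtain ⟨c, hc⟩ := MulAction.exists_smul_eq G P Q
        rw [← hN]
        exact Nat.card_congr
          { toFun := fun h => ⟨c⁻¹ * h.1, Agent.SmallSimple.smul_sylow_eq_iff.1 (by
              rw [mul_smul, h.2, inv_smul_eq_iff]; exact hc.symm)⟩
            invFun := fun w => ⟨c * w.1, by
              rw [mul_smul, Agent.SmallSimple.smul_sylow_eq_iff.2 w.2]; exact hc⟩
            left_inv := fun h => Subtype.ext (mul_inv_cancel_left _ _)
            right_inv := fun w => Subtype.ext (inv_mul_cancel_left _ _) }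
      rw [Nat.card_congr (β := Σ Q : F, {h : G // h • P = Q.1})
        { toFun := fun h => ⟨⟨h.1 • P, (hTiff h.1).1 h.2⟩, ⟨h.1, rfl⟩⟩
          invFun := fun w => ⟨w.2.1, (hTiff _).2 ((congrArg (fun U : Sylow 7 G => z • U = U) w.2.2).mpr w.1.2)⟩
          left_inv := fun h => rfl
          right_inv := by rintro ⟨⟨Q, hQ⟩, ⟨h, hh⟩⟩; dsimp only at hh; subst hh; rfl },
        Nat.card_sigma, Finset.sum_congr rfl fun g _ => hf g, Finset.sum_const, Finset.card_univ,
        smul_eq_mul, ← Nat.card_eq_fintype_card]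
    omega
  -- `P` acting on `F`
  letI : MulAction (P : Subgroup G) F :=
    { smul := fun a Q => ⟨(a : G) • Q.1, by
        rw [← mul_smul, ← hzC a a.2, mul_smul, Q.2]⟩
      one_smul := fun Q => Subtype.ext (one_smul G Q.1)
      mul_smul := fun a b Q => Subtype.ext (mul_smul (a : G) (b : G) Q.1) }
  -- `P` acting on `S`
  letI : MulAction (P : Subgroup G) S :=
    { smul := fun a g => ⟨(a : G) * g.1 * (a : G)⁻¹,
        mul_mem (mul_mem (hPN a.2) g.2.1) (inv_mem (hPN a.2)),
        g.2.2.trans (isConj_iff.2 ⟨a, rfl⟩)⟩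
      one_smul := fun g => Subtype.ext (by show (1 : G) * g.1 * (1 : G)⁻¹ = g.1; group)
      mul_smul := fun a b g => Subtype.ext (by
        show ((a : G) * b) * g.1 * ((a : G) * b)⁻¹ = a * ((b : G) * g.1 * (b : G)⁻¹) * (a : G)⁻¹
        group) }
  have hmF := P.isPGroup'.card_modEq_card_fixedPoints F
  have hmS := P.isPGroup'.card_modEq_card_fixedPoints S
  have hfF : Nat.card (MulAction.fixedPoints (P : Subgroup G) F) = 1 := by
    refine Nat.card_eq_one_iff_unique.2 ⟨⟨?_⟩, ⟨⟨P, ?_⟩, ?_⟩⟩
    · intro Q Q'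
      have key : ∀ Q : MulAction.fixedPoints (P : Subgroup G) F, (Q.1.1 : Sylow 7 G) = P := by
        intro Q
        obtain ⟨x, hx⟩ := exists_prime_orderOf_dvd_card' (G := (P : Subgroup G)) 7 (by rw [hP])
        by_contra hQ
        have h1 := Agent.SmallSimple.eq_one_of_smul_eq hP hQ x.2
          (congrArg Subtype.val (Q.2 x))
        rw [show x = 1 from Subtype.ext h1, orderOf_one] at hx
        norm_num at hx
      exact Subtype.ext (Subtype.ext ((key Q).trans (key Q').symm))
    · exact Agent.SmallSimple.smul_sylow_eq_iff.2 (hCN hzC)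
    · intro a
      exact Subtype.ext (Agent.SmallSimple.smul_sylow_eq_iff.2 (hPN a.2))
  have hfS : Nat.card (MulAction.fixedPoints (P : Subgroup G) S) = 2 := by
    have hz3 : z ^ 3 = 1 := hz ▸ pow_orderOf_eq_one z
    have hne : z ≠ z⁻¹ := fun h => by
      have h2 : z ^ 2 = 1 := by rw [pow_two]; nth_rw 2 [h]; exact mul_inv_cancel z
      have := orderOf_dvd_of_pow_eq_one h2
      rw [hz] at this; norm_num at this
    have hcomp : Subgroup.IsComplement' ((P : Subgroup G).subgroupOf C)
        (Subgroup.zpowers (⟨z, hzC⟩ : C)) := Subgroup.isComplement'_of_coprime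
      (by rw [Nat.card_congr (Subgroup.subgroupOfEquivOfLe hPC).toEquiv, hP, Nat.card_zpowers,
        Subgroup.orderOf_mk, hz, hC])
      (by rw [Nat.card_congr (Subgroup.subgroupOfEquivOfLe hPC).toEquiv, hP, Nat.card_zpowers,
        Subgroup.orderOf_mk, hz]; norm_num)
    rw [Nat.card_coe_set_eq]
    refine Set.ncard_eq_two.2 ⟨⟨z, hCN hzC, IsConj.refl z⟩, ⟨z⁻¹, inv_mem (hCN hzC), hreal⟩,
      fun h => hne (congrArg Subtype.val h), ?_⟩
    ext ⟨g, hgN, hgc⟩
    simp only [MulAction.mem_fixedPoints, Set.mem_insert_iff, Set.mem_singleton_iff, Subtype.mk.injEq]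
    constructor
    · intro hfix
      have hgC : g ∈ C := fun a ha => by
        have h := congrArg Subtype.val (hfix ⟨a, ha⟩)
        exact mul_inv_eq_iff_eq_mul.1 h
      obtain ⟨⟨⟨a, haP⟩, ⟨w, hw⟩⟩, hv⟩ := hcomp.2 ⟨g, hgC⟩
      obtain ⟨j, rfl⟩ := Subgroup.mem_zpowers_iff.1 hw
      have hv' : (a : G) * z ^ j = g := by
        have h := congrArg Subtype.val hv
        simpa using h
      have hg3 : g ^ 3 = 1 := by
        obtain ⟨c, rfl⟩ := isConj_iff.1 hgc
        rw [conj_pow, hz3]; group
      have hcomm : Commute (a : G) (z ^ j) :=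
        (show Commute (a : G) z from hzC a haP).zpow_right j
      rw [← hv', hcomm.mul_pow,
        show (z ^ j) ^ 3 = 1 by
          rw [← zpow_natCast, ← zpow_mul, mul_comm, zpow_mul, zpow_natCast, hz3, one_zpow],
        mul_one] at hg3
      have ha1 : (a : G) = 1 := by
        have h7 : orderOf (a : G) ∣ 7 := hP ▸ Subgroup.orderOf_dvd_natCard _ haP
        have h3' := orderOf_dvd_of_pow_eq_one hg3
        exact orderOf_eq_one_iff.1 (Nat.eq_one_of_dvd_coprimes (by norm_num : Nat.Coprime 7 3) h7 h3')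
      rw [ha1, one_mul] at hv'
      have hj : z ^ j = z ^ (j % 3) := by
        rw [← zpow_mod_orderOf z j, hz]; rfl
      have hr : j % 3 = 0 ∨ j % 3 = 1 ∨ j % 3 = 2 := by omega
      have hg' : g = z ∨ g = z⁻¹ := by
        rcases hr with h | h | h
        · exfalso
          rw [hj, h, zpow_zero] at hv'
          subst hv'
          exact hz1 (isConj_one_left.1 hgc)
        · rw [hj, h, zpow_one] at hv'
          exact Or.inl hv'.symm
        · refine Or.inr (eq_inv_of_mul_eq_one_left ?_)
          rw [← hv', hj, h, show (2 : ℤ) = ((2 : ℕ) : ℤ) from rfl, zpow_natCast, ← pow_succ, hz3]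
      exact hg'.imp (fun h => Subtype.ext h) (fun h => Subtype.ext h)
    · rintro (h | h) a <;> apply Subtype.ext <;> obtain rfl : g = _ := congrArg Subtype.val h
      · show (a : G) * g * (a : G)⁻¹ = g
        rw [hzC a a.2, mul_inv_cancel_right]
      · show (a : G) * z⁻¹ * (a : G)⁻¹ = z⁻¹
        rw [(show Commute (a : G) z from hzC a a.2).inv_right.eq, mul_inv_cancel_right]
  rw [hfF] at hmF
  rw [hfS, hSF] at hmS
  have h12 : 1 % 7 = 2 % 7 := hmF.symm.trans hmS
  norm_num at h12

/-- No finite simple group has order 4032 = 2^6 * 3^2 * 7. -/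
theorem result {G : Type*} [Group G] [Finite G] [IsSimpleGroup G] : Nat.card G ≠ 4032 := by
  intro hn
  haveI : Fact (Nat.Prime 7) := ⟨by norm_num⟩
  have hG : ¬ IsMulCommutative G := fun h => by
    have := CharInt.card_prime_of_simple_comm (G := G) (fun a b => mul_comm' a b)
    rw [hn] at this
    norm_num at this
  have h7 : 7 ∣ Nat.card G := by rw [hn]; norm_num
  obtain ⟨P⟩ : Nonempty (Sylow 7 G) := inferInstance
  have hP : Nat.card (P : Subgroup G) = 7 := by
    rw [Agent.SmallSimple.card_sylow_subgroup (k := 1) (m := 576) (by rw [hn]; norm_num)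
      (by norm_num) P, pow_one]
  have hdiv : ∀ d ∈ (576 : ℕ).divisors, d % 7 = 1 → 5 ≤ d →
      d = 8 ∨ d = 36 ∨ d = 64 ∨ d = 288 := by decide +kernel
  have hmem := hdiv (Nat.card (Sylow 7 G)) (Nat.mem_divisors.2 ⟨by
      have h1 := P.card_dvd_index
      have h2 := Subgroup.card_mul_index (P : Subgroup G)
      rw [hP, hn] at h2
      rwa [show (P : Subgroup G).index = 576 by omega] at h1, by norm_num⟩)
    (Eq.trans (card_sylow_modEq_one 7 G) (by norm_num)) (Agent.SmallSimple.five_le_card_sylow hG h7)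
  set c := Nat.card (Subgroup.centralizer ((P : Subgroup G) : Set G)) with hc
  set N := Nat.card (Subgroup.normalizer ((P : Subgroup G) : Set G)) with hNdef
  have hburn : c ≠ N := fun h =>
    Agent.SmallSimple.not_hasNormalPComplement hG h7
      (Agent.Transfer.hasNormalPComplement_of_normalizer_le_centralizer P
        (Subgroup.eq_of_le_of_card_ge (Agent.SmallSimple.centralizer_le_normalizer _) h.ge).ge)
  have hcN : c ∣ N := Subgroup.card_dvd_of_le (Agent.SmallSimple.centralizer_le_normalizer _)
  have hNc : N ∣ c * 6 := Agent.SmallSimple.card_normalizer_dvd P hP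
  have hN := Agent.SmallSimple.card_sylow_mul_card_normalizer P
  rw [hn, ← hNdef] at hN
  haveI : Fact (Nat.Prime 2) := ⟨Nat.prime_two⟩
  haveI : Fact (Nat.Prime 3) := ⟨Nat.prime_three⟩
  rcases hmem with h | h | h | h
  · have hN' : N = 504 := by rw [h] at hN; omega
    have hA : Nat.card (alternatingGroup (Fin 1)) = 1 :=
      Nat.card_eq_one_iff_unique.2 ⟨inferInstance, inferInstance⟩
    have h2 := Agent.SmallSimple.not_dvd_centralizer hG (by decide) h7 P hP (k := 1)
      (by rw [h]) (r := 2) (n := 1) (by norm_num) (by rw [hA]; norm_num)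
    have h3 := Agent.SmallSimple.not_dvd_centralizer hG (by decide) h7 P hP (k := 1)
      (by rw [h]) (r := 3) (n := 1) (by norm_num) (by rw [hA]; norm_num)
    have hl : ∀ d ∈ (504 : ℕ).divisors, ¬ 2 ∣ d → ¬ 3 ∣ d → ¬ 504 ∣ d * 6 := by decide +kernel
    rw [pow_one, ← hc] at h2 h3
    exact hl c (Nat.mem_divisors.2 ⟨hN' ▸ hcN, by norm_num⟩) h2
      h3 (hN' ▸ hNc)
  · have hN' : N = 112 := by rw [h] at hN; omega
    have hA : Nat.card (alternatingGroup (Fin 5)) = 60 := by
      rw [nat_card_alternatingGroup, Nat.card_eq_fintype_card, Fintype.card_fin]; rfl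
    have h2 := Agent.SmallSimple.not_dvd_centralizer hG (by decide) h7 P hP (k := 5)
      (by rw [h]) (r := 2) (n := 3) (by norm_num) (by rw [hA]; norm_num)
    have hl : ∀ d ∈ (112 : ℕ).divisors, d ≠ 112 → 112 ∣ d * 6 → 2 ^ 3 ∣ d := by decide +kernel
    exact h2 (hl c (Nat.mem_divisors.2 ⟨hN' ▸ hcN, by norm_num⟩) (hN' ▸ hburn) (hN' ▸ hNc))
  · have hN' : N = 63 := by rw [h] at hN; omega
    refine false_of_sixtyfour hG hn h P ?_
    have hl : ∀ d ∈ (63 : ℕ).divisors, d ≠ 63 → 63 ∣ d * 6 → d = 21 := by decide +kernel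
    exact hl c (Nat.mem_divisors.2 ⟨hN' ▸ hcN, by norm_num⟩) (hN' ▸ hburn) (hN' ▸ hNc)
  · exact Agent.SmallSimple.false_of_square_check hG (p := 7) (m := 576) (by rw [hn])
      (by norm_num) le_rfl P (by rw [h] at hN; omega) (by decide +kernel)

end Cfsg.Agent.S0976
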