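import Cfsg.Statements.S0977
import Cfsg.Agent.Lib.SmallSimple.FiveCases
import Cfsg.Agent.Lib.SmallSimple.FiveThirtySix

set_option autoImplicit false
open Cfsg

namespace Cfsg.Agent.S0977

/-- No finite simple group has order 4320 = 2^5 * 3^3 * 5. -/
theorem result {G : Type*} [Group G] [Finite G] [IsSimpleGroup G] : Nat.card G ≠ 4320 := by
  intro hn
  haveI : Fact (Nat.Prime 5) := ⟨by norm_num⟩
  haveI := Fintype.ofFinite G
  have hG : ¬ IsMulCommutative G := fun h => by
    have := CharInt.card_prime_of_simple_comm (G := G) (fun a b => mul_comm' a b)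
    rw [hn] at this
    norm_num at this
  have hn5 : Nat.card G = 5 * 864 := by rw [hn]
  obtain ⟨P⟩ : Nonempty (Sylow 5 G) := inferInstance
  have hP : Nat.card (P : Subgroup G) = 5 := by
    rw [Agent.SmallSimple.card_sylow_subgroup (k := 1) (m := 864) (by rw [pow_one, hn5]) (by norm_num) P, pow_one]
  have hdvd : Nat.card (Sylow 5 G) ∣ 864 := by
    have h1 := P.card_dvd_index
    have h2 := Subgroup.card_mul_index (P : Subgroup G)
    rw [hP, hn5] at h2
    rwa [Nat.eq_of_mul_eq_mul_left (by norm_num : 0 < 5) h2] at h1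
  have hmod : Nat.card (Sylow 5 G) % 5 = 1 :=
    Eq.trans (card_sylow_modEq_one 5 G) (Nat.mod_eq_of_lt (by norm_num))
  have h5 : 5 ≤ Nat.card (Sylow 5 G) := Agent.SmallSimple.five_le_card_sylow hG (hn5 ▸ dvd_mul_right 5 864)
  obtain ⟨h6, h16, h36, h96⟩ := Agent.SmallSimple.card_sylow_five_cases hG hn5 (by norm_num) (by norm_num) hdvd
  have hcases : ∀ d ∈ Nat.divisors 864, d % 5 = 1 → 5 ≤ d → d = 6 ∨ d = 16 ∨ d = 36 ∨ d = 96 ∨ d = 216 := by
    decide +kernel
  rcases hcases _ (Nat.mem_divisors.2 ⟨hdvd, by norm_num⟩) hmod h5 with h | h | h | h | h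
  · exact h6 h
  · exact h16 (by norm_num) h
  · exact h36 (by norm_num) h
  · exact h96 (by decide) h
  · obtain ⟨k, hk, hrel⟩ := Agent.FivePairs.normalizer_split hG hn5 (by norm_num) P h (N := 20) (by norm_num)
    rcases hrel with ⟨hrel, h2⟩ | ⟨hrel, h4⟩
    · obtain rfl : k = 2 := by omega
      exact Agent.FivePairs.false_of_index_two (m := 864) (r := 4) (k := 2) (T := 32) (s := 5) hG hn
        (by norm_num) (by norm_num) (by norm_num) P hk hrel (by norm_num) (by norm_num) (by norm_num) [-54, -24, -9, -4, 6, 16, 36]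
        (by decide +kernel) (by decide +kernel)
    · obtain rfl : k = 1 := by omega
      exact Agent.FivePairs.false_of_index_four (m := 864) (r := 4) (k := 1) hG hn (by norm_num) (by norm_num)
        (by norm_num) odd_one P hk hrel [-54, -24, -9, -4, 6, 16, 36] (by decide +kernel) [] (by simp) (fun _ _ _ _ _ _ => by simp)
        [1, 2, 3, 4, 5, 6, 8, 9, 10, 12, 15, 16, 18, 20, 24, 27, 30, 32, 36, 40, 45, 48, 54, 60, 72, 80, 90, 96, 108, 120, 135, 144, 160, 180, 216, 240, 270, 288, 360, 432, 480, 540, 720, 864, 1080, 1440, 2160] (by decide +kernel) (by decide +kernel)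

end Cfsg.Agent.S0977
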