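import Cfsg.Statements.S0985
import Cfsg.Agent.Lib.SmallSimple.Basic

set_option autoImplicit false
open Cfsg

namespace Cfsg.Agent.S0985

/-- If the number of Sylow p-subgroups of a finite group is not congruent to 1 modulo p^k, then there are two distinct Sylow p-subgroups P and R such that the index of P ∩ R in P is at most p^(k-1). -/
theorem result {G : Type*} [Group G] [Finite G] (p k : ℕ) [Fact p.Prime] (h : ¬ Nat.card (Sylow p G) ≡ 1 [MOD p ^ k]) : ∃ P R : Sylow p G, P ≠ R ∧ ((R : Subgroup G).subgroupOf (P : Subgroup G)).index ≤ p ^ (k - 1) := by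
  classical
  obtain ⟨P⟩ : Nonempty (Sylow p G) := inferInstance
  by_contra hc
  push Not at hc
  apply h
  have key : ∀ R : Sylow p G, R ≠ P → p ^ k ∣ Nat.card (MulAction.orbit (P : Subgroup G) R) := by
    intro R hR
    have h1 := hc P R hR.symm
    rw [SmallSimple.card_orbit_sylow]
    obtain ⟨j, hj⟩ : ∃ j, ((R : Subgroup G).subgroupOf (P : Subgroup G)).index = p ^ j := by
      obtain ⟨n, hn⟩ := P.isPGroup'.exists_card_eq
      obtain ⟨j, -, hj⟩ := (Nat.dvd_prime_pow Fact.out).mp
        (hn ▸ Subgroup.index_dvd_card ((R : Subgroup G).subgroupOf (P : Subgroup G)))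
      exact ⟨j, hj⟩
    rw [hj] at h1 ⊢
    apply Nat.pow_dvd_pow
    by_contra hlt
    have : j ≤ k - 1 := by omega
    exact absurd (Nat.pow_le_pow_right (Fact.out : p.Prime).pos this) (by omega)
  have hfix : ∀ (x : (P : Subgroup G)) (R : Sylow p G), R ≠ P → x • R ≠ P := by
    intro x R hR he
    apply hR
    have h2 : x⁻¹ • P = R := inv_smul_eq_iff.mpr he.symm
    rw [← h2, Subgroup.smul_def, Sylow.smul_eq_iff_mem_normalizer]
    exact Subgroup.le_normalizer (x⁻¹).2
  let act : MulAction (P : Subgroup G) {R : Sylow p G // R ≠ P} :=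
    { smul := fun x R => ⟨x • R.1, hfix x R.1 R.2⟩
      mul_smul := fun a b R => Subtype.ext (mul_smul a b R.1)
      one_smul := fun R => Subtype.ext (one_smul _ R.1) }
  have hd : p ^ k ∣ Nat.card {R : Sylow p G // R ≠ P} := by
    refine SmallSimple.dvd_card_of_dvd_card_orbit (G := (P : Subgroup G)) _ fun R => ?_
    have : Nat.card (MulAction.orbit (P : Subgroup G) R)
        = Nat.card (MulAction.orbit (P : Subgroup G) R.1) := by
      have him : Subtype.val '' (MulAction.orbit (P : Subgroup G) R)
          = MulAction.orbit (P : Subgroup G) R.1 := by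
        ext T
        constructor
        · rintro ⟨_, ⟨x, rfl⟩, rfl⟩
          exact ⟨x, rfl⟩
        · rintro ⟨x, rfl⟩
          exact ⟨_, ⟨x, rfl⟩, rfl⟩
      rw [← him, Nat.card_image_of_injective Subtype.val_injective]
    rw [this]
    exact key R.1 R.2
  have hsplit : Nat.card (Sylow p G) = 1 + Nat.card {R : Sylow p G // R ≠ P} := by
    rw [← Nat.card_congr (Equiv.sumCompl (fun R : Sylow p G => R = P)), Nat.card_sum]
    simp
  rw [hsplit]
  conv_rhs => rw [show (1 : ℕ) = 1 + 0 from rfl]
  exact (Nat.ModEq.refl 1).add (Nat.modEq_zero_iff_dvd.mpr hd)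

end Cfsg.Agent.S0985
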