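import Cfsg.Statements.S1010
import Cfsg.Agent.Lib.SmallSimple.Degree21Small
import Cfsg.Agent.S0985

set_option autoImplicit false
open Cfsg

namespace Cfsg.Agent.S1010

/-- No finite group has exactly twenty-one Sylow 5-subgroups. -/
theorem result {G : Type*} [Group G] [Finite G] : Nat.card (Sylow 5 G) ≠ 21 := by
  intro h21
  refine SmallSimple.tight21_reduction (P := False) (fun H _ _ hH => ?_) _ G rfl h21
  refine SmallSimple.no_tight21_small hH fun P => SmallSimple.card_sylow_eq_five hH P fun h => ?_
  exact S0985.result 5 2 h

end Cfsg.Agent.S1010
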