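import Cfsg.Statements.S0979
import Cfsg.Agent.Lib.SmallSimple.ExceptionalDegree
-- import your own Cfsg.Agent.* helpers here

set_option autoImplicit false
open Cfsg

namespace Cfsg.Agent.S0979

/-- No finite simple group has order 5472 = 2^5 * 3^2 * 19. -/
theorem result {G : Type*} [Group G] [Finite G] [IsSimpleGroup G] : Nat.card G ≠ 5472 := by
  intro hn
  haveI : Fact (Nat.Prime 19) := ⟨by norm_num⟩
  have hG : ¬ IsMulCommutative G := fun h => by
    have := CharInt.card_prime_of_simple_comm (G := G) (fun a b => mul_comm' a b)
    rw [hn] at this
    norm_num at this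
  exact Agent.SmallSimple.false_of_degree_check hG (p := 19) (e := 3) (n0 := 96) (m := 288)
    (by norm_num) (by rw [hn]) (by norm_num) (by norm_num) (by norm_num) (by norm_num)
    (by decide +kernel) [96, -18] (by decide +kernel)
    (by decide +kernel) (by decide +kernel)

end Cfsg.Agent.S0979
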