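import Cfsg.Statements.S0980
import Cfsg.Agent.Lib.SmallSimple.FiveCases
import Cfsg.Agent.Lib.SmallSimple.FiveThirtySix

set_option autoImplicit false
open Cfsg

namespace Cfsg.Agent.S0980

open scoped Classical in
/-- No faithful character of degree four is constant `-1` on the singular elements of a cyclic group of order 15. -/
theorem no_degree_four {G : Type*} [Group G] [Fintype G] [IsSimpleGroup G] (hG : ¬ IsMulCommutative G)
    (_hn : Nat.card G = 5760) (χ : IrrCharacter G) (hχ : χ ≠ Agent.Char.trivialChar G) {y : G}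
    (hy : orderOf y = 5) (hC : Nat.card (Subgroup.centralizer ({y} : Set G)) = 5 * 3)
    (hsec : ∀ g : G, g ^ (1152 * 3) ≠ 1 → χ.1 g = χ.1 y) (hv : χ.1 y = -1)
    (hd : charDegree χ.1 = 4) : False := by
  haveI : Fact (Nat.Prime 3) := ⟨Nat.prime_three⟩
  obtain ⟨⟨u, huC⟩, hu⟩ := exists_prime_orderOf_dvd_card' (G := Subgroup.centralizer ({y} : Set G)) 3
    (by rw [hC]; norm_num)
  rw [Subgroup.orderOf_mk] at hu
  have hc : Commute y u := (Subgroup.mem_centralizer_singleton_iff.1 huC).symm
  set g := y * u with hg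
  have hord : orderOf g = 15 := by
    rw [hg, hc.orderOf_mul_eq_mul_orderOf_of_coprime (by rw [hy, hu]; norm_num), hy, hu]
  obtain ⟨n, μ, h1, hμ, hpow⟩ := Agent.CharInt.exists_roots (Agent.Char.irr_isCharacter χ) g
  have hval : ∀ a : ℕ, ¬ 5 ∣ a → ∑ i, μ i ^ a = -1 := fun a ha => by
    rw [← hpow, hsec _ (fun h => ha ?_), hv]
    have hy5 : y ^ 5 = 1 := by rw [← hy, pow_orderOf_eq_one]
    have hu3 : u ^ 3 = 1 := by rw [← hu, pow_orderOf_eq_one]
    rw [← pow_mul, hg, hc.mul_pow, show a * (1152 * 3) = 3 * (a * 1152) by ring, pow_mul u, hu3, one_pow,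
      mul_one] at h
    have := orderOf_dvd_of_pow_eq_one h
    rw [hy] at this
    omega
  have hgeom : ∀ i, ∑ a ∈ Finset.range 15, μ i ^ a = ((if μ i = 1 then 15 else 0 : ℕ) : ℂ) := fun i => by
    split_ifs with h
    · simp [h]
    · rw [geom_sum_eq h, ← hord, hμ i]; simp
  have hsum : ∑ a ∈ Finset.range 15, ∑ i, μ i ^ a = ((∑ i, (if μ i = 1 then 15 else 0) : ℕ) : ℂ) := by
    rw [Finset.sum_comm, Nat.cast_sum]
    exact Finset.sum_congr rfl fun i _ => hgeom i
  simp only [Finset.sum_range_succ, Finset.sum_range_zero, zero_add] at hsum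
  rw [hval 1 (by norm_num), hval 2 (by norm_num), hval 3 (by norm_num), hval 4 (by norm_num),
    hval 6 (by norm_num), hval 7 (by norm_num), hval 8 (by norm_num), hval 9 (by norm_num),
    hval 11 (by norm_num), hval 12 (by norm_num), hval 13 (by norm_num), hval 14 (by norm_num),
    ← hpow 0, ← hpow 5, ← hpow 10, pow_zero, ← Agent.Char.charDegree_cast, hd] at hsum
  have hre := congrArg Complex.re hsum
  simp only [Complex.add_re, Complex.natCast_re, Complex.neg_re, Complex.one_re] at hre
  have hnn : (0 : ℝ) ≤ ((∑ i, (if μ i = 1 then 15 else 0) : ℕ) : ℝ) := Nat.cast_nonneg _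
  have hb : ∀ a : ℕ, ‖χ.1 (g ^ a)‖ ≤ 4 := fun a => by
    refine (Agent.CharInt.norm_char_le (Agent.Char.irr_isCharacter χ) _).trans (le_of_eq ?_)
    rw [← Agent.Char.charDegree_cast, hd, Complex.norm_natCast]
    norm_num
  have h10 := (Complex.re_le_norm (χ.1 (g ^ 10))).trans (hb 10)
  have h5le := (Complex.re_le_norm (χ.1 (g ^ 5))).trans (hb 5)
  have h4 : (χ.1 (g ^ 5)).re = 4 := by push_cast at hre hnn; linarith
  have hn4 : ‖χ.1 (g ^ 5)‖ = (χ.1 (g ^ 5)).re :=
    le_antisymm ((hb 5).trans h4.ge) (Complex.re_le_norm _)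
  have hz := (Complex.re_eq_norm).1 hn4.symm
  have heq : χ.1 (g ^ 5) = χ.1 1 := by
    rw [← Agent.Char.charDegree_cast, hd]
    exact Complex.ext (by rw [h4]; simp) (by rw [← (Complex.nonneg_iff.1 hz).2]; simp)
  have := Agent.SmallCofactor.eq_one_of_apply_eq hG hχ heq
  have h15 := orderOf_dvd_of_pow_eq_one this
  rw [hord] at h15
  norm_num at h15

/-- No finite simple group has order 5760 = 2^7 * 3^2 * 5. -/
theorem result {G : Type*} [Group G] [Finite G] [IsSimpleGroup G] : Nat.card G ≠ 5760 := by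
  intro hn
  haveI : Fact (Nat.Prime 5) := ⟨by norm_num⟩
  haveI := Fintype.ofFinite G
  have hG : ¬ IsMulCommutative G := fun h => by
    have := CharInt.card_prime_of_simple_comm (G := G) (fun a b => mul_comm' a b)
    rw [hn] at this
    norm_num at this
  have hn5 : Nat.card G = 5 * 1152 := by rw [hn]
  obtain ⟨P⟩ : Nonempty (Sylow 5 G) := inferInstance
  have hP : Nat.card (P : Subgroup G) = 5 := by
    rw [Agent.SmallSimple.card_sylow_subgroup (k := 1) (m := 1152) (by rw [pow_one, hn5]) (by norm_num) P, pow_one]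
  have hdvd : Nat.card (Sylow 5 G) ∣ 1152 := by
    have h1 := P.card_dvd_index
    have h2 := Subgroup.card_mul_index (P : Subgroup G)
    rw [hP, hn5] at h2
    rwa [Nat.eq_of_mul_eq_mul_left (by norm_num : 0 < 5) h2] at h1
  have hmod : Nat.card (Sylow 5 G) % 5 = 1 :=
    Eq.trans (card_sylow_modEq_one 5 G) (Nat.mod_eq_of_lt (by norm_num))
  have h5 : 5 ≤ Nat.card (Sylow 5 G) := Agent.SmallSimple.five_le_card_sylow hG (hn5 ▸ dvd_mul_right 5 1152)
  obtain ⟨h6, h16, h36, h96⟩ := Agent.SmallSimple.card_sylow_five_cases hG hn5 (by norm_num) (by norm_num) hdvd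
  have hcases : ∀ d ∈ Nat.divisors 1152, d % 5 = 1 → 5 ≤ d → d = 6 ∨ d = 16 ∨ d = 36 ∨ d = 96 ∨ d = 576 := by
    decide +kernel
  rcases hcases _ (Nat.mem_divisors.2 ⟨hdvd, by norm_num⟩) hmod h5 with h | h | h | h | h
  · exact h6 h
  · exact h16 (by norm_num) h
  · exact h36 (by norm_num) h
  · obtain ⟨k, hk, hrel⟩ := Agent.FivePairs.normalizer_split hG hn5 (by norm_num) P h (N := 60) (by norm_num)
    rcases hrel with ⟨hrel, h2⟩ | ⟨hrel, h4⟩
    · obtain rfl : k = 6 := by omega
      exact Agent.FivePairs.false_of_index_two (m := 1152) (r := 3) (k := 6) (T := 128) (s := 7) hG hn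
        (by norm_num) (by norm_num) (by norm_num) P hk hrel (by norm_num) (by norm_num) (by norm_num) [-64, -24, -9, -4, 6, 16, 36]
        (by decide +kernel) (by decide +kernel)
    · obtain rfl : k = 3 := by omega
      refine Agent.FivePairs.false_of_index_four (m := 1152) (r := 3) (k := 3) hG hn (by norm_num) (by norm_num)
        (by norm_num) (by decide) P hk hrel [-64, -24, -9, -4, 6, 16, 36] (by decide +kernel) [-4] (by simp)
        (fun χ y hχ hy hsec hv hmem => ?_) [1, 2, 3, 4, 5, 6, 8, 9, 10, 12, 15, 16, 18, 20, 24, 30, 32, 36, 40, 45, 48, 60, 64, 72, 80, 90, 96, 120, 128, 144, 160, 180, 192, 240, 288, 320, 360, 384, 480, 576, 640, 720, 960, 1152, 1440, 1920, 2880] (by decide +kernel) (by decide +kernel)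
      refine no_degree_four hG hn χ hχ hy
        ((Agent.FivePairs.setup (m := 1152) (r := 3) hn (by norm_num) (by norm_num) (by norm_num) P hk).hcent y hy)
        hsec hv ?_
      simp only [List.mem_singleton, neg_inj] at hmem
      exact_mod_cast hmem
  · obtain ⟨k, hk, hrel⟩ := Agent.FivePairs.normalizer_split hG hn5 (by norm_num) P h (N := 10) (by norm_num)
    rcases hrel with ⟨hrel, h2⟩ | ⟨hrel, h4⟩
    · obtain rfl : k = 1 := by omega
      exact Agent.FivePairs.false_of_index_two (m := 1152) (r := 3) (k := 1) (T := 128) (s := 7) hG hn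
        (by norm_num) (by norm_num) (by norm_num) P hk hrel (by norm_num) (by norm_num) (by norm_num) [-64, -24, -9, -4, 6, 16, 36]
        (by decide +kernel) (by decide +kernel)
    · omega

end Cfsg.Agent.S0980
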