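import Cfsg.Statements.S0983
import Cfsg.Agent.Lib.SmallSimple.Below6233.Sweep
import Cfsg.Agent.Lib.SmallSimple.Below6233.CasesC
import Cfsg.Agent.Lib.SmallSimple.Below6233.CasesD
import Cfsg.Agent.S0975
import Cfsg.Agent.S0976
import Cfsg.Agent.S0977
import Cfsg.Agent.S0978
import Cfsg.Agent.S0979
import Cfsg.Agent.S0980

set_option autoImplicit false
open Cfsg

namespace Cfsg.Agent.S0983

/-- A non-abelian finite simple group of order greater than 3640 and at most 6232 has order 4080, 5616, 6048 or 6072. -/
theorem result {G : Type*} [Group G] [Finite G] [IsSimpleGroup G] (hG : ¬ IsMulCommutative G) (h1 : 3640 < Nat.card G) (h2 : Nat.card G ≤ 6232) : Nat.card G = 4080 ∨ Nat.card G = 5616 ∨ Nat.card G = 6048 ∨ Nat.card G = 6072 := by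
  have h := SmallSimple.Below6233.mem_rest hG h1 h2
  simp only [SmallSimple.Below6233.rest, List.mem_cons, List.not_mem_nil, or_false] at h
  open SmallSimple.Below6233 in
  rcases h with h | h | h | h | h | h | h | h | h | h | h | h | h | h | h | h | h | h | h | h | h | h | h | h |
    h | h | h <;>
    first
    | exact Or.inl h
    | exact Or.inr (Or.inl h)
    | exact Or.inr (Or.inr (Or.inl h))
    | exact Or.inr (Or.inr (Or.inr h))
    | exact absurd h (card_ne_3696 hG)
    | exact absurd h (card_ne_3780 hG)
    | exact absurd h (card_ne_3960 hG)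
    | exact absurd h (card_ne_4200 hG)
    | exact absurd h (card_ne_4400 hG)
    | exact absurd h (card_ne_4536 hG)
    | exact absurd h (card_ne_4620 hG)
    | exact absurd h (card_ne_4680 hG)
    | exact absurd h (card_ne_4760 hG)
    | exact absurd h (card_ne_4800 hG)
    | exact absurd h (card_ne_4896 hG)
    | exact absurd h (card_ne_5148 hG)
    | exact absurd h (card_ne_5400 hG)
    | exact absurd h (card_ne_5460 hG)
    | exact absurd h (card_ne_5600 hG)
    | exact absurd h (card_ne_5880 hG)
    | exact absurd h (card_ne_5940 hG)
    | exact absurd h S0975.result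
    | exact absurd h S0976.result
    | exact absurd h S0977.result
    | exact absurd h S0978.result
    | exact absurd h S0979.result
    | exact absurd h S0980.result

end Cfsg.Agent.S0983
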