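import Cfsg.Statements.S4774
import Cfsg.Agent.Lib.GL2Char.DegreeGraphAux
import Cfsg.Agent.Lib.GL2Char.OddCount
import Cfsg.Agent.Lib.GL2Char.SLCuspidal
import Cfsg.Agent.Lib.Char.Descend
import Mathlib.NumberTheory.MulChar.Lemmas

set_option autoImplicit false
open Cfsg Cfsg.Agent Cfsg.Agent.GL2Char Matrix

set_option autoImplicit false
open Cfsg

namespace Cfsg.Agent.S4774

section Exist
variable {F : Type*} [Field F] [Fintype F] [DecidableEq F]

/-- The degrees `q` and `q ± 1` are attained by characters trivial on the centre. -/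
theorem exists_chars (hodd : Odd (Fintype.card F)) (h5 : 5 < Fintype.card F) :
    ∀ k ∈ [Fintype.card F, Fintype.card F + 1, Fintype.card F - 1],
      ∃ χ : IrrCharacter (SpecialLinearGroup (Fin 2) F),
        χ.1 1 = (k : ℂ) ∧ χ.1 (-1) = χ.1 1 := by
  classical
  intro k hk
  simp only [List.mem_cons, List.not_mem_nil, or_false] at hk
  rcases hk with rfl | rfl | rfl
  · refine ⟨stS, stS_apply_one, ?_⟩
    rw [stS_apply_one, ← bmkS_neg_one_zero, stS_bmkS, if_neg (by simp), if_pos rfl]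
  · obtain ⟨β, hβ⟩ := MulChar.exists_mulChar_orderOf F (R := ℂ) (n := Fintype.card F - 1) dvd_rfl
      (Complex.isPrimitiveRoot_exp _ (by omega))
    have h4 : (β ^ 2) ^ 2 ≠ 1 := fun h => by
      rw [← pow_mul, ← orderOf_dvd_iff_pow_eq_one, hβ] at h
      have := Nat.le_of_dvd (by norm_num) h
      obtain ⟨c, hc⟩ := hodd
      omega
    have hneg : (β ^ 2 : MulChar F ℂ) (-1) = 1 := by
      rw [MulChar.pow_apply' _ two_ne_zero, sq, mulChar_neg_one_mul_self]
    refine ⟨⟨_, (isIrrCharacter_PSS_iff (β ^ 2)).2 h4⟩, ?_, ?_⟩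
    · show PSS (β ^ 2) 1 = _
      rw [PSS_one']
      push_cast
      ring
    · show PSS (β ^ 2) (-1) = PSS (β ^ 2) 1
      rw [← bmkS_neg_one_zero, PSS_bmkS_cases, if_neg (by simp), if_pos rfl, PSS_one']
      simp [hneg]
  · obtain ⟨g, hg⟩ := PSL2.exists_elliptic F
    have h2 : (2 : F) ≠ 0 := two_ne_zero_of_odd_card hodd
    have hC : Torus (PSL2.cent g) := ⟨h2, hg.card_cent, hg.isCyclic_cent⟩
    obtain ⟨c0, -, -, hgen⟩ := hC.exists_gen
    have hord : orderOf c0 = Fintype.card F + 1 := by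
      rw [orderOf_eq_card_of_forall_mem_zpowers hgen, hC.card]
    set ζ : ℂˣ := ((Complex.isPrimitiveRoot_exp (Fintype.card F + 1) (by omega)).isUnit (by omega)).unit
    have hζ : orderOf ζ = Fintype.card F + 1 := by
      rw [← orderOf_units]
      exact ((Complex.isPrimitiveRoot_exp (Fintype.card F + 1) (by omega)).eq_orderOf).symm
    let ψ := monoidHomOfForallMemZpowers hgen (g' := ζ) (by rw [hζ, hord])
    have hψ : ψ c0 = ζ := monoidHomOfForallMemZpowers_apply_gen hgen _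
    have hnot : ¬ ∀ c, (ψ ^ 2) c ^ 2 = 1 := fun h => by
      have h1 := h c0
      rw [MonoidHom.pow_apply, hψ, ← pow_mul, ← orderOf_dvd_iff_pow_eq_one, hζ] at h1
      have := Nat.le_of_dvd (by norm_num) h1
      omega
    have hcompat : hC.Compat 1 (ψ ^ 2) := by
      show (1 : MulChar F ℂ) (-1) = _
      rw [MulChar.one_apply isUnit_one.neg, MonoidHom.pow_apply, ← map_pow,
        show (⟨-1, hC.neg_one_mem⟩ : PSL2.cent g) ^ 2 = 1 from Subtype.ext (by simp), map_one,
        Units.val_one]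
    refine ⟨⟨_, hC.isIrr_XC 1 (ψ ^ 2) hcompat hnot⟩, ?_, ?_⟩
    · show XC _ 1 (ψ ^ 2) 1 = _
      rw [hC.XC_one, Nat.cast_sub (by omega), Nat.cast_one]
    · show XC _ 1 (ψ ^ 2) (-1) = XC _ 1 (ψ ^ 2) 1
      rw [hC.XC_neg_one 1 _ hcompat, hC.XC_one, MulChar.one_apply isUnit_one.neg, one_mul]

end Exist

/-- Let F be a finite field of odd characteristic t with q > 5 elements and let S be isomorphic to PSL(2,F) or to SL(2,F). Then the vertices of the character degree graph of S are the primes dividing q(q²−1); the prime t is adjacent to no vertex; two distinct primes dividing q² − 1 are adjacent exactly when one of them is 2, or both divide q + 1, or both divide q − 1. -/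
theorem result (F : Type*) [Field F] [Fintype F] (t : ℕ) [Fact t.Prime] [CharP F t] (ht : t ≠ 2) (q : ℕ) (hq : Fintype.card F = q) (h5 : 5 < q) {S : Type*} [Group S] [Finite S] (hS : Nonempty (S ≃* Matrix.ProjectiveSpecialLinearGroup (Fin 2) F) ∨ Nonempty (S ≃* Matrix.SpecialLinearGroup (Fin 2) F)) : Cfsg.degreePrimes S = {r : ℕ | r.Prime ∧ r ∣ q * (q ^ 2 - 1)} ∧ ∀ r s : ℕ, (Cfsg.degreeGraph S).Adj r s ↔ (r ≠ s ∧ r.Prime ∧ s.Prime ∧ r ∣ q ^ 2 - 1 ∧ s ∣ q ^ 2 - 1 ∧ (r = 2 ∨ s = 2 ∨ (r ∣ q + 1 ∧ s ∣ q + 1) ∨ (r ∣ q - 1 ∧ s ∣ q - 1))) := by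
  classical
  subst hq
  obtain ⟨n, -, hn⟩ := FiniteField.card F t
  have hodd : Odd (Fintype.card F) := by
    rw [hn]
    exact ((Fact.out : t.Prime).eq_two_or_odd'.resolve_left ht).pow
  have hq1 : 1 ≤ Fintype.card F := by omega
  have hsubSL : ∀ d ∈ charDegrees (SpecialLinearGroup (Fin 2) F),
      d = 1 ∨ d = Fintype.card F ∨ d ∣ Fintype.card F + 1 ∨ d ∣ Fintype.card F - 1 := by
    rintro _ ⟨φ, rfl⟩
    have hdiv : ∀ m : ℕ, Even m → m / 2 ∣ m := fun m hm =>
      ⟨2, by obtain ⟨r, rfl⟩ := hm; omega⟩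
    rcases degree_mem_SL_odd hodd φ with h | h | h | h | h | h <;> rw [← Char.charDegree_cast φ] at h
    · exact Or.inl (by exact_mod_cast h)
    · exact Or.inr (Or.inl (by exact_mod_cast h))
    · refine Or.inr (Or.inr (Or.inl ?_))
      rw [← Nat.cast_one, ← Nat.cast_add, Nat.cast_inj] at h
      rw [h]
    · refine Or.inr (Or.inr (Or.inr ?_))
      rw [← Nat.cast_one, ← Nat.cast_sub hq1, Nat.cast_inj] at h
      rw [h]
    · refine Or.inr (Or.inr (Or.inl ?_))
      rw [Nat.cast_injective h]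
      exact hdiv _ (hodd.add_one)
    · refine Or.inr (Or.inr (Or.inr ?_))
      rw [Nat.cast_injective h]
      exact hdiv _ (Nat.Odd.sub_odd hodd odd_one)
  have hex := exists_chars hodd h5
  have key : (∀ d ∈ charDegrees S, d = 1 ∨ d = Fintype.card F ∨ d ∣ Fintype.card F + 1 ∨ d ∣ Fintype.card F - 1) ∧
      ∀ k ∈ [Fintype.card F, Fintype.card F + 1, Fintype.card F - 1], k ∈ charDegrees S := by
    rcases hS with h | h <;> obtain ⟨e⟩ := h
    · rw [charDegrees_congr e]
      refine ⟨?_, fun k hk => ?_⟩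
      · rintro _ ⟨ψ, rfl⟩
        have h := hsubSL _ ⟨Char.inflate _ ψ, rfl⟩
        have hd : Cfsg.charDegree (Char.inflate _ ψ).1 = Cfsg.charDegree ψ.1 := by
          unfold Cfsg.charDegree; simp
        rwa [hd] at h
      · obtain ⟨χ, h1, h2⟩ := hex k hk
        obtain ⟨ψ, hψ⟩ := Char.exists_descend (Subgroup.center (SpecialLinearGroup (Fin 2) F)) χ fun z hz => by
          rcases PSL2.mem_center_iff_pm.1 hz with h | h <;> rw [h]
          exact h2
        exact mem_charDegrees ψ (by rw [← h1, ← hψ 1, QuotientGroup.mk_one])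
    · rw [charDegrees_congr e]
      refine ⟨hsubSL, fun k hk => ?_⟩
      obtain ⟨χ, h1, -⟩ := hex k hk
      exact mem_charDegrees χ h1
  obtain ⟨g1, g2⟩ := graph_of_degrees (Fact.out : t.Prime) ⟨n, hn⟩ key.1 (key.2 _ (by simp))
    (key.2 _ (by simp)) (key.2 _ (by simp))
  refine ⟨g1, fun r s => ?_⟩
  have hsq : Fintype.card F ^ 2 - 1 = (Fintype.card F + 1) * (Fintype.card F - 1) := by
    simpa using Nat.sq_sub_sq (Fintype.card F) 1
  have he1 : 2 ∣ Fintype.card F + 1 := even_iff_two_dvd.1 hodd.add_one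
  have he2 : 2 ∣ Fintype.card F - 1 := even_iff_two_dvd.1 (Nat.Odd.sub_odd hodd odd_one)
  rw [g2 r s, hsq]
  constructor
  · rintro ⟨hrs, hr, hs, h⟩
    refine ⟨hrs, hr, hs, ?_, ?_, Or.inr (Or.inr h)⟩
    · rcases h with h | h
      · exact h.1.mul_right _
      · exact h.1.mul_left _
    · rcases h with h | h
      · exact h.2.mul_right _
      · exact h.2.mul_left _
  · rintro ⟨hrs, hr, hs, hr', hs', h⟩
    refine ⟨hrs, hr, hs, ?_⟩
    rcases h with rfl | rfl | h
    · rcases hs.dvd_mul.1 hs' with h | h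
      · exact Or.inl ⟨he1, h⟩
      · exact Or.inr ⟨he2, h⟩
    · rcases hr.dvd_mul.1 hr' with h | h
      · exact Or.inl ⟨h, he1⟩
      · exact Or.inr ⟨h, he2⟩
    · exact h

end Cfsg.Agent.S4774
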