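import Cfsg.Statements.S4812
import Cfsg.Agent.Lib.GL2Char.DegreeGraphAux
import Cfsg.Agent.Lib.GL2Char.Even
import Cfsg.Agent.Lib.PSL2.Basic

set_option autoImplicit false
open Cfsg Cfsg.Agent Cfsg.Agent.GL2Char Matrix

set_option autoImplicit false
open Cfsg

namespace Cfsg.Agent.S4812

/-- Let F be a finite field of characteristic 2 with q ≥ 4 elements and let S be isomorphic to PSL(2,F) or to SL(2,F). Then the vertices of the character degree graph of S are the primes dividing q(q²−1), and two distinct primes are adjacent exactly when both divide q + 1 or both divide q − 1; so the graph has the three connected components {2}, the primes dividing q + 1 and the primes dividing q − 1, each complete. -/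
theorem result (F : Type*) [Field F] [Fintype F] [CharP F 2] (q : ℕ) (hq : Fintype.card F = q) (h4 : 4 ≤ q) {S : Type*} [Group S] [Finite S] (hS : Nonempty (S ≃* Matrix.ProjectiveSpecialLinearGroup (Fin 2) F) ∨ Nonempty (S ≃* Matrix.SpecialLinearGroup (Fin 2) F)) : Cfsg.degreePrimes S = {r : ℕ | r.Prime ∧ r ∣ q * (q ^ 2 - 1)} ∧ ∀ r s : ℕ, (Cfsg.degreeGraph S).Adj r s ↔ (r ≠ s ∧ r.Prime ∧ s.Prime ∧ ((r ∣ q + 1 ∧ s ∣ q + 1) ∨ (r ∣ q - 1 ∧ s ∣ q - 1))) := by
  classical
  subst hq
  have hbot : Subgroup.center (SpecialLinearGroup (Fin 2) F) = ⊥ := by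
    refine eq_bot_iff.2 fun x hx => Subgroup.mem_bot.2 ?_
    rcases PSL2.mem_center_iff_pm.1 hx with h | h
    · exact h
    · rw [h]
      apply Matrix.SpecialLinearGroup.ext
      intro i j
      fin_cases i <;> fin_cases j <;> simp [CharTwo.neg_eq]
  obtain ⟨e⟩ : Nonempty (S ≃* SpecialLinearGroup (Fin 2) F) := by
    rcases hS with h | h
    · obtain ⟨e⟩ := h
      exact ⟨e.trans ((QuotientGroup.quotientMulEquivOfEq hbot).trans QuotientGroup.quotientBot)⟩
    · exact h
  have hdeg := charDegrees_congr e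
  obtain ⟨n, -, hn⟩ := FiniteField.card F 2
  obtain ⟨-, c2, c3, c4⟩ := card_degrees_SL h4
  have mk : ∀ (c : ℂ) (k : ℕ) (N : ℕ), c = (k : ℂ) → 0 < N →
      Nat.card {φ : IrrCharacter (SpecialLinearGroup (Fin 2) F) // φ.1 1 = c} = N → k ∈ charDegrees S := by
    intro c k N hck hN hcard
    obtain ⟨⟨φ, hφ⟩⟩ : Nonempty {φ : IrrCharacter (SpecialLinearGroup (Fin 2) F) // φ.1 1 = c} :=
      (Nat.card_pos_iff.1 (hcard ▸ hN)).1
    rw [hdeg]
    exact mem_charDegrees φ (hφ.trans hck)
  refine graph_of_degrees Nat.prime_two ⟨n, hn⟩ (fun d hd => ?_) ?_ ?_ ?_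
  · rw [hdeg] at hd
    obtain ⟨φ, rfl⟩ := hd
    have hq1 : 1 ≤ Fintype.card F := by omega
    rcases degree_mem_SL φ with h | h | h | h <;> rw [← Char.charDegree_cast φ] at h
    · exact Or.inl (by exact_mod_cast h)
    · refine Or.inr (Or.inr (Or.inr ?_))
      rw [← Nat.cast_one, ← Nat.cast_sub hq1, Nat.cast_inj] at h
      rw [h]
    · exact Or.inr (Or.inl (by exact_mod_cast h))
    · refine Or.inr (Or.inr (Or.inl ?_))
      rw [← Nat.cast_one, ← Nat.cast_add, Nat.cast_inj] at h
      rw [h]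
  · exact mk _ _ _ rfl one_pos c2
  · exact mk _ _ _ (by push_cast; ring) (by omega) c3
  · exact mk _ _ _ (by rw [Nat.cast_sub (by omega), Nat.cast_one]) (by omega) c4

end Cfsg.Agent.S4812
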