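import Cfsg.Statements.S3335
import Cfsg.Agent.Lib.Perm.CoxeterPresentation

set_option autoImplicit false
open Cfsg

namespace Cfsg.Agent.S3335

open Cfsg.Agent.Perm

theorem reassoc_one {K : Type*} [Group K] {a : K} (ha : a * a = 1) (b : K) : a * (a * b) = b := by
  rw [← mul_assoc, ha, one_mul]

abbrev rels (m : ℕ) : Set (FreeGroup (Fin m)) :=
  {g : FreeGroup (Fin m) | ∃ i : Fin m, i.val = 0 ∧ g = FreeGroup.of i ^ 3} ∪
  {g | ∃ i : Fin m, 1 ≤ i.val ∧ g = FreeGroup.of i ^ 2} ∪
  {g | ∃ i j : Fin m, j.val = i.val + 1 ∧ g = (FreeGroup.of i * FreeGroup.of j) ^ 3} ∪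
  {g | ∃ i j : Fin m, i.val + 1 < j.val ∧ g = (FreeGroup.of i * FreeGroup.of j) ^ 2}

theorem braid_pow_three {K : Type*} [Group K] {a b : K} (ha : a * a = 1) (hb : b * b = 1)
    (h : a * b * a = b * a * b) : (a * b) ^ 3 = 1 := by
  have : (a * b) ^ 3 = (a * b * a) * (b * a * b) := by simp [pow_succ, mul_assoc]
  rw [this, h]
  simp [mul_assoc, reassoc_one ha, reassoc_one hb, hb]

theorem image_rels (m : ℕ) (G : Type*) [Group G] (t : ℕ → G) (h : BraidRels t (m + 1)) :
    ∀ r ∈ rels m, FreeGroup.lift (fun i : Fin m => t 0 * t (i.val + 1)) r = 1 := by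
  have hconj : ∀ a b : Fin m, a.val < b.val → (t 0 * t (a.val + 1) * (t 0 * t (b.val + 1))) =
      t 0 * (t (a.val + 1) * t (b.val + 1)) * (t 0)⁻¹ := by
    intro a b hab
    rw [inv_eq_of_mul_eq_one_right (h.sq 0 (by omega)), mul_assoc, mul_assoc, mul_assoc,
      ← h.comm 0 (b.val + 1) (by omega) (by omega)]
  rintro r (((⟨i, hi, rfl⟩ | ⟨i, hi, rfl⟩) | ⟨i, j, hij, rfl⟩) | ⟨i, j, hij, rfl⟩)
  · simp only [map_pow, FreeGroup.lift_apply_of]
    have hm := i.isLt
    rw [hi]
    exact braid_pow_three (h.sq 0 (by omega)) (h.sq 1 (by omega)) (h.braid 0 (by omega))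
  · simp only [map_pow, FreeGroup.lift_apply_of]
    rw [(show Commute (t 0) (t (i.val + 1)) from h.comm 0 _ (by omega) (by omega)).mul_pow, sq, sq,
      h.sq 0 (by omega), h.sq _ (by omega), one_mul]
  · simp only [map_pow, map_mul, FreeGroup.lift_apply_of]
    rw [hconj i j (by omega), conj_pow, hij,
      braid_pow_three (h.sq _ (by omega)) (h.sq _ (by omega)) (h.braid _ (by omega)), mul_one, mul_inv_cancel]
  · simp only [map_pow, map_mul, FreeGroup.lift_apply_of]
    rw [hconj i j (by omega), conj_pow,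
      (show Commute (t (i.val + 1)) (t (j.val + 1)) from h.comm _ _ (by omega) (by omega)).mul_pow, sq, sq,
      h.sq _ (by omega), h.sq _ (by omega), one_mul, mul_one, mul_inv_cancel]

theorem sign_adjSwap {n i : ℕ} (hi : i < n) : Equiv.Perm.sign (adjSwap n i) = -1 := by
  rw [adjSwap, dif_pos hi, Equiv.Perm.sign_swap]
  simp [Fin.ext_iff]

theorem iso (m : ℕ) (hm : 1 ≤ m) : Nonempty (PresentedGroup (rels m) ≃* alternatingGroup (Fin (m + 2))) := by
  have hn : ∀ k, k < m + 1 → k < m + 1 := fun _ h => h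
  let x : Fin m → PresentedGroup (rels m) := PresentedGroup.of
  have hrel : ∀ r ∈ rels m, PresentedGroup.mk (rels m) r = 1 := fun r hr => PresentedGroup.one_of_mem hr
  have h3 : ∀ i : Fin m, i.val = 0 → x i ^ 3 = 1 := fun i hi => hrel _ (Or.inl (Or.inl (Or.inl ⟨i, hi, rfl⟩)))
  have h2 : ∀ i : Fin m, 1 ≤ i.val → x i ^ 2 = 1 := fun i hi => hrel _ (Or.inl (Or.inl (Or.inr ⟨i, hi, rfl⟩)))
  have hb3 : ∀ i j : Fin m, j.val = i.val + 1 → (x i * x j) ^ 3 = 1 := fun i j h => hrel _ (Or.inl (Or.inr ⟨i, j, h, rfl⟩))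
  have hb2 : ∀ i j : Fin m, i.val + 1 < j.val → (x i * x j) ^ 2 = 1 := fun i j h => hrel _ (Or.inr ⟨i, j, h, rfl⟩)
  let y : Fin m → PresentedGroup (rels m) := fun i => if i.val = 0 then (x i)⁻¹ else x i
  have hlift : ∀ r ∈ rels m, FreeGroup.lift y r = 1 := by
    rintro r (((⟨i, hi, rfl⟩ | ⟨i, hi, rfl⟩) | ⟨i, j, hij, rfl⟩) | ⟨i, j, hij, rfl⟩)
    · simp [y, hi, inv_pow, h3 i hi]
    · simp [y, show i.val ≠ 0 by omega, h2 i hi]
    all_goals
      have hj0 : j.val ≠ 0 := by omega
      have hjinv : (x j)⁻¹ = x j := inv_eq_of_mul_eq_one_right (by rw [← sq]; exact h2 j (by omega))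
      simp only [map_pow, map_mul, FreeGroup.lift_apply_of, y, hj0, if_false]
      split
      · -- the image is conjugate to the inverse of the original relator
        have e : (x i)⁻¹ * x j = (x j * x i)⁻¹ := by rw [mul_inv_rev, hjinv]
        have e2 : x j * x i = x j * (x i * x j) * (x j)⁻¹ := by group
        rw [e, inv_pow, inv_eq_one, e2, conj_pow]
        first
        | rw [hb3 i j hij, mul_one, mul_inv_cancel]
        | rw [hb2 i j hij, mul_one, mul_inv_cancel]
      · first | exact hb3 i j hij | exact hb2 i j hij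
  let a := PresentedGroup.toGroup (rels := rels m) hlift
  have hax : ∀ i, a (x i) = y i := fun i => PresentedGroup.toGroup.of hlift
  have haa : a.comp a = MonoidHom.id _ := by
    refine PresentedGroup.ext fun i => ?_
    show a (a (x i)) = x i
    rw [hax]
    by_cases hi : i.val = 0
    · simp [y, hi, hax]
    · simp [y, hi, hax]
  let α : MulAut (PresentedGroup (rels m)) := MonoidHom.toMulEquiv a a haa haa
  have hα : ∀ i, α (x i) = y i := hax
  have hα2 : α ^ 2 = 1 := by
    ext z
    rw [sq]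
    exact DFunLike.congr_fun haa z
  let C := Subgroup.zpowers α
  let t : PresentedGroup (rels m) ⋊[C.subtype] C := SemidirectProduct.inr ⟨α, Subgroup.mem_zpowers α⟩
  have htt : t * t = 1 := by
    rw [← map_mul, ← map_one (SemidirectProduct.inr)]
    congr 1
    exact Subtype.ext (by rw [Subgroup.coe_mul, ← sq]; exact hα2)
  have htinv : t⁻¹ = t := inv_eq_of_mul_eq_one_right htt
  have htx : ∀ u, t * SemidirectProduct.inl u * t = SemidirectProduct.inl (α u) := by
    intro u
    nth_rewrite 2 [← htinv]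
    exact (SemidirectProduct.inl_aut (φ := C.subtype) ⟨α, Subgroup.mem_zpowers α⟩ u).symm
  let s : ℕ → PresentedGroup (rels m) ⋊[C.subtype] C := fun k =>
    match k with
    | 0 => t
    | j + 1 => if h : j < m then t * SemidirectProduct.inl (x ⟨j, h⟩) else 1
  have hs0 : s 0 = t := rfl
  have hsj : ∀ i : Fin m, s (i.val + 1) = t * SemidirectProduct.inl (x i) := fun i => dif_pos i.isLt
  have hsq : ∀ k < m + 1, s k * s k = 1 := by
    rintro (_ | j) hk
    · exact htt
    · obtain ⟨i, rfl⟩ : ∃ i : Fin m, i.val = j := ⟨⟨j, by omega⟩, rfl⟩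
      rw [hsj, ← mul_assoc, htx, hα, ← map_mul]
      by_cases hi : i.val = 0
      · simp [y, hi]
      · simp only [y, hi, if_false]; rw [← sq, h2 i (by omega), map_one]
  have hprod : ∀ i j : Fin m, 1 ≤ j.val → s (i.val + 1) * s (j.val + 1) = SemidirectProduct.inl (α (x i * x j)) := by
    intro i j hj
    rw [hsj, hsj, ← mul_assoc, htx, ← map_mul, map_mul α, hα j]
    simp [y, show j.val ≠ 0 by omega]
  have hcomm0 : ∀ j : Fin m, 1 ≤ j.val → Commute t (s (j.val + 1)) := by
    intro j hj
    show t * s (j.val + 1) = s (j.val + 1) * t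
    rw [hsj, htx, hα, ← mul_assoc, htt, one_mul]
    simp [y, show j.val ≠ 0 by omega]
  have hswap : ∀ p q : PresentedGroup (rels m) ⋊[C.subtype] C, p * p = 1 → q * q = 1 → (p * q) ^ 2 = 1 → p * q = q * p := by
    intro p q hp hq h
    have := eq_inv_of_mul_eq_one_left (show p * q * (p * q) = 1 by rw [← sq]; exact h)
    rwa [mul_inv_rev, inv_eq_of_mul_eq_one_right hp, inv_eq_of_mul_eq_one_right hq] at this
  have hbr : ∀ p q : PresentedGroup (rels m) ⋊[C.subtype] C, p * p = 1 → q * q = 1 → (p * q) ^ 3 = 1 → p * q * p = q * p * q := by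
    intro p q hp hq h
    have h' : (p * q * p) * (q * p * q) = 1 := by rw [← h]; simp [pow_succ, mul_assoc]
    rw [eq_inv_of_mul_eq_one_left h', mul_inv_rev, mul_inv_rev, inv_eq_of_mul_eq_one_right hp, inv_eq_of_mul_eq_one_right hq, mul_assoc]
  have hrels : BraidRels s (m + 1) := by
    refine ⟨hsq, ?_, ?_⟩
    · intro k hk
      refine hbr _ _ (hsq k (by omega)) (hsq (k + 1) hk) ?_
      rcases k with _ | j
      · have e : s 0 * s (0 + 1) = SemidirectProduct.inl (x ⟨0, hm⟩) := by
          rw [hs0, show (0 : ℕ) + 1 = (⟨0, hm⟩ : Fin m).val + 1 from rfl, hsj, ← mul_assoc, htt, one_mul]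
        rw [e, ← map_pow, h3 _ rfl, map_one]
      · rw [hprod ⟨j, by omega⟩ ⟨j + 1, by omega⟩ (by simp), ← map_pow, ← map_pow, hb3 _ _ rfl, map_one, map_one]
    · intro i j hij hj
      obtain ⟨j, rfl⟩ : ∃ j', j = j' + 1 := ⟨j - 1, by omega⟩
      rcases i with _ | i
      · exact (hcomm0 ⟨j, by omega⟩ (by simp; omega)).eq
      · refine hswap _ _ (hsq (i + 1) (by omega)) (hsq (j + 1) hj) ?_
        rw [hprod ⟨i, by omega⟩ ⟨j, by omega⟩ (by simp; omega), ← map_pow, ← map_pow, hb2 _ _ (by simp; omega), map_one, map_one]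
  obtain ⟨φ, hφ⟩ := exists_hom_of_braidRels hrels
  have hφs : Function.Surjective φ := by
    rw [← MonoidHom.range_eq_top, eq_top_iff]
    have hinl : ∀ z, SemidirectProduct.inl z ∈ φ.range := by
      intro z
      have hz : z ∈ Subgroup.closure (Set.range x) := by rw [PresentedGroup.closure_range_of]; trivial
      induction hz using Subgroup.closure_induction with
      | mem u hu =>
        obtain ⟨i, rfl⟩ := hu
        refine ⟨adjSwap (m + 1) 0 * adjSwap (m + 1) (i.val + 1), ?_⟩
        rw [map_mul, hφ _ (by omega), hφ _ (by omega), hs0, hsj, ← mul_assoc, htt, one_mul]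
      | one => rw [map_one]; exact one_mem _
      | mul u v _ _ hu hv => rw [map_mul]; exact mul_mem hu hv
      | inv u _ hu => rw [map_inv]; exact inv_mem hu
    rintro ⟨u, v, hv⟩ _
    obtain ⟨k, rfl⟩ := Subgroup.mem_zpowers_iff.1 hv
    have e : (⟨u, ⟨α ^ k, hv⟩⟩ : PresentedGroup (rels m) ⋊[C.subtype] C) = SemidirectProduct.inl u * t ^ k := by
      exact SemidirectProduct.ext (by simp [t, ← map_zpow]) (by simp [t, ← map_zpow, Subtype.ext_iff])
    rw [e]
    exact mul_mem (hinl u) (zpow_mem (show t ∈ φ.range from ⟨adjSwap (m + 1) 0, hφ 0 (by omega)⟩) k)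
  haveI : Finite (PresentedGroup (rels m) ⋊[C.subtype] C) := Finite.of_surjective φ hφs
  haveI : Finite (PresentedGroup (rels m)) := Finite.of_injective _ (SemidirectProduct.inl_injective (φ := C.subtype))
  -- the map to the alternating group
  have hT : ∀ r ∈ rels m, FreeGroup.lift (fun i : Fin m =>
      (⟨adjSwap (m + 1) 0 * adjSwap (m + 1) (i.val + 1), by
        rw [Equiv.Perm.mem_alternatingGroup, map_mul, sign_adjSwap (by omega), sign_adjSwap (by omega)]
        rfl⟩ : alternatingGroup (Fin (m + 2)))) r = 1 := by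
    intro r hr
    apply Subtype.ext
    have := image_rels m _ _ (adjSwap_rels (m + 1)) r hr
    refine Eq.trans ?_ this
    rw [← Subgroup.coe_subtype, ← MonoidHom.comp_apply]
    congr 1
    refine FreeGroup.ext_hom _ _ fun i => ?_
    simp
  let f := PresentedGroup.toGroup (rels := rels m) hT
  have hfx : ∀ i : Fin m, (f (x i) : Equiv.Perm (Fin (m + 2))) = adjSwap (m + 1) 0 * adjSwap (m + 1) (i.val + 1) :=
    fun i => congrArg Subtype.val (PresentedGroup.toGroup.of hT)
  let H : Subgroup (Equiv.Perm (Fin (m + 2))) := f.range.map (alternatingGroup (Fin (m + 2))).subtype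
  have hA : Nat.card (alternatingGroup (Fin (m + 2))) * 2 = (m + 2).factorial := by
    rw [nat_card_alternatingGroup, Nat.card_fin]
    exact Nat.div_mul_cancel (Nat.dvd_factorial two_pos (by omega))
  have hfs : Function.Surjective f := by
    have hgen : ∀ i : Fin m, adjSwap (m + 1) 0 * adjSwap (m + 1) (i.val + 1) ∈ H :=
      fun i => ⟨f (x i), ⟨x i, rfl⟩, hfx i⟩
    set t0 := adjSwap (m + 1) 0
    have ht0 : t0 * t0 = 1 := (adjSwap_rels (m + 1)).sq 0 (by omega)
    have ht0inv : t0⁻¹ = t0 := inv_eq_of_mul_eq_one_right ht0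
    have hnorm : ∀ u ∈ H, t0 * u * t0 ∈ H := by
      rintro _ ⟨_, ⟨z, rfl⟩, rfl⟩
      have hz : z ∈ Subgroup.closure (Set.range x) := by rw [PresentedGroup.closure_range_of]; trivial
      induction hz using Subgroup.closure_induction with
      | mem u hu =>
        obtain ⟨i, rfl⟩ := hu
        rw [Subgroup.coe_subtype, hfx, ← mul_assoc, ht0, one_mul]
        have h1 : adjSwap (m + 1) (i.val + 1) * t0 = (t0 * adjSwap (m + 1) (i.val + 1))⁻¹ := by
          rw [mul_inv_rev, ht0inv, inv_eq_of_mul_eq_one_right ((adjSwap_rels (m + 1)).sq _ (by omega))]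
        rw [h1]
        exact H.inv_mem (hgen i)
      | one => simp [ht0, H.one_mem]
      | mul u v _ _ hu hv =>
        have := H.mul_mem hu hv
        simpa [mul_assoc, reassoc_one ht0] using this
      | inv u _ hu =>
        have := H.inv_mem hu
        simpa [mul_inv_rev, ht0inv, mul_assoc] using this
    have hcover : ∀ σ : Equiv.Perm (Fin (m + 2)), σ ∈ H ∨ t0 * σ ∈ H := by
      intro σ
      have hσ : σ ∈ Subgroup.closure (adjSwap (m + 1) '' Set.Iio (m + 1)) := by rw [closure_adjSwap]; trivial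
      have hstep : ∀ u, (u ∈ H ∨ t0 * u ∈ H) → ∀ k < m + 1, (u * adjSwap (m + 1) k ∈ H ∨ t0 * (u * adjSwap (m + 1) k) ∈ H) := by
        intro u hu k hk
        have htk : t0 * adjSwap (m + 1) k ∈ H := by
          rcases k with _ | j
          · rw [ht0]; exact H.one_mem
          · exact hgen ⟨j, by omega⟩
        rcases hu with hu | hu
        · right
          have := H.mul_mem (hnorm u hu) htk
          simpa [mul_assoc, reassoc_one ht0] using this
        · left
          have := H.mul_mem (hnorm _ hu) htk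
          simpa [mul_assoc, reassoc_one ht0] using this
      induction hσ using Subgroup.closure_induction_right with
      | one => exact Or.inl H.one_mem
      | mul_right u _ g hg hu => obtain ⟨k, hk, rfl⟩ := hg; exact hstep u hu k hk
      | mul_inv_cancel u _ g hg hu =>
        obtain ⟨k, hk, rfl⟩ := hg
        rw [inv_eq_of_mul_eq_one_right ((adjSwap_rels (m + 1)).sq k hk)]
        exact hstep u hu k hk
    intro z
    rcases hcover z.1 with h | h
    · obtain ⟨_, ⟨w, rfl⟩, hw⟩ := h
      exact ⟨w, Subtype.ext hw⟩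
    · obtain ⟨_, ⟨w, rfl⟩, hw⟩ := h
      exfalso
      have hsign : Equiv.Perm.sign (t0 * z.1) = 1 := by rw [← hw]; exact (f w).2
      rw [map_mul, sign_adjSwap (by omega), Equiv.Perm.mem_alternatingGroup.1 z.2] at hsign
      exact absurd hsign (by decide)
  have hα1 : α ≠ 1 := by
    intro h
    have h1 : f ((x ⟨0, hm⟩) ^ 2) = 1 := by
      have := hα ⟨0, hm⟩
      rw [h] at this
      simp only [MulAut.one_apply, y, if_true] at this
      rw [sq]
      nth_rewrite 1 [this]
      simp
    have h3' : f ((x ⟨0, hm⟩) ^ 3) = 1 := by rw [h3 _ rfl, map_one]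
    rw [pow_succ, map_mul, h1, one_mul] at h3'
    have h0 := hfx ⟨0, hm⟩
    rw [h3', OneMemClass.coe_one] at h0
    have := congrArg (fun p : Equiv.Perm (Fin (m + 2)) => p ⟨0, by omega⟩) h0
    simp only [adjSwap, Equiv.Perm.one_apply, dif_pos (show 0 < m + 1 by omega), dif_pos (show 0 + 1 < m + 1 by omega),
      Equiv.Perm.mul_apply, Equiv.swap_apply_def, Fin.ext_iff] at this
    simp at this
  refine ⟨MulEquiv.ofBijective f ((Nat.bijective_iff_surjective_and_card f).2 ⟨hfs, le_antisymm ?_ (Nat.card_le_card_of_surjective f hfs)⟩)⟩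
  have hle := Nat.card_le_card_of_surjective φ hφs
  rw [SemidirectProduct.card, Nat.card_zpowers, orderOf_eq_prime hα2 hα1, Nat.card_perm, Nat.card_fin, ← hA] at hle
  exact Nat.le_of_mul_le_mul_right hle two_pos

/-- A presentation of the alternating group of degree n ≥ 3 on generators x_1, …, x_{n−2} (indexed here by 0, …, n−3): the first generator cubes to 1, every other generator squares to 1, the product of two consecutive generators has order dividing 3, and the product of two generators at distance at least 2 has order dividing 2. The group so presented is isomorphic to the alternating group of degree n. -/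
theorem result (n : ℕ) (hn : 3 ≤ n) :
    Nonempty (PresentedGroup
      ({g : FreeGroup (Fin (n - 2)) | ∃ i : Fin (n - 2), i.val = 0 ∧ g = FreeGroup.of i ^ 3} ∪
       {g | ∃ i : Fin (n - 2), 1 ≤ i.val ∧ g = FreeGroup.of i ^ 2} ∪
       {g | ∃ i j : Fin (n - 2), j.val = i.val + 1 ∧ g = (FreeGroup.of i * FreeGroup.of j) ^ 3} ∪
       {g | ∃ i j : Fin (n - 2), i.val + 1 < j.val ∧ g = (FreeGroup.of i * FreeGroup.of j) ^ 2})
      ≃* alternatingGroup (Fin n)) := by
  obtain ⟨m, rfl⟩ : ∃ m, n = m + 2 := ⟨n - 2, by omega⟩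
  exact iso m (by omega)

end Cfsg.Agent.S3335
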