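import Cfsg.Statements.S3331
import Cfsg.Agent.Lib.SelfCentThree.Quotient
import Cfsg.Agent.Lib.SmallSimple.Low
import Cfsg.Agent.Lib.SmallSimple.Order168Iso
import Cfsg.Agent.Lib.PSL2.Basic

set_option autoImplicit false
open Cfsg

namespace Cfsg.Agent.S3331

open SelfCentThree

universe u

/-- A non-commutative group of order six is symmetric. -/
theorem equiv_perm_three {Q : Type u} [Group Q] [Finite Q] {x : Q} (h : SelfThree x)
    (h6 : Nat.card Q = 6) : Nonempty (Q ≃* Equiv.Perm (Fin 3)) := by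
  classical
  haveI : Fact (Nat.Prime 2) := ⟨Nat.prime_two⟩
  obtain ⟨t, ht⟩ := exists_prime_orderOf_dvd_card' 2 (show 2 ∣ Nat.card Q by rw [h6]; norm_num)
  set H := Subgroup.zpowers t with hH
  have hHc : Nat.card H = 2 := by rw [hH, Nat.card_zpowers, ht]
  have hidx : Nat.card (Q ⧸ H) = 3 := by
    have := H.index_mul_card
    rw [h6, hHc] at this
    change H.index = 3
    omega
  let f : Q →* Equiv.Perm (Q ⧸ H) := MulAction.toPermHom Q (Q ⧸ H)
  have hker : f.ker = ⊥ := by
    show (MulAction.toPermHom Q (Q ⧸ H)).ker = ⊥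
    rw [← Subgroup.normalCore_eq_ker, eq_bot_iff]
    intro c hc
    have h2 : ¬ 3 ∣ Nat.card H := by rw [hHc]; norm_num
    have hc' : x * c * x⁻¹ ∈ H.normalCore := H.normalCore_normal.conj_mem c hc x
    have hdis : ∀ a ∈ H, a = 1 ∨ a = t := by
      intro a ha
      rw [hH, mem_zpowers_iff_mem_range_orderOf, ht] at ha
      simpa [Finset.range_add_one, or_comm, eq_comm] using ha
    rw [Subgroup.mem_bot]
    by_contra hc1
    have e : c = t := (hdis c (H.normalCore_le hc)).resolve_left hc1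
    refine hc1 (h.eq_one_of_fixed (D := H) h2 (H.normalCore_le hc) ?_)
    rcases hdis _ (H.normalCore_le hc') with e' | e'
    · exact absurd (conj_eq_one_iff.1 e') hc1
    · rw [e', e]
  have hinj : Function.Injective f := (MonoidHom.ker_eq_bot_iff f).1 hker
  haveI := Fintype.ofFinite (Q ⧸ H)
  have hbij : Function.Bijective f := by
    refine (Nat.bijective_iff_injective_and_card f).2 ⟨hinj, ?_⟩
    rw [h6, Nat.card_perm, hidx]
    rfl
  exact ⟨(MulEquiv.ofBijective f hbij).trans
    (Finite.equivFinOfCardEq hidx).permCongrHom⟩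

/-- Let G be a finite group containing a subgroup X of order 3 with C_G(X) = X. Then one of the following holds: G has a nilpotent normal subgroup N of order prime to 3 with G/N of order 3 or isomorphic to Sym(3); or G has an elementary abelian normal 2-subgroup N with G/N isomorphic to the alternating group of degree 5; or G is isomorphic to PSL(2,7). -/
theorem result {G : Type*} [Group G] [Finite G]
    (X : Subgroup G) (hX : Nat.card X = 3) (hC : Subgroup.centralizer (X : Set G) = X) :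
    (∃ (N : Subgroup G) (hN : N.Normal), Group.IsNilpotent N ∧ (Nat.card N).Coprime 3 ∧
        (Nat.card (G ⧸ N) = 3 ∨ Nonempty (G ⧸ N ≃* Equiv.Perm (Fin 3)))) ∨
    (∃ (N : Subgroup G) (hN : N.Normal), IsMulCommutative N ∧ (∀ n ∈ N, n ^ 2 = 1) ∧
        Nonempty (G ⧸ N ≃* alternatingGroup (Fin 5))) ∨
    Nonempty (G ≃* Matrix.ProjectiveSpecialLinearGroup (Fin 2) (ZMod 7)) := by
  haveI : Fact (Nat.Prime 3) := ⟨Nat.prime_three⟩
  haveI : Fact (Nat.Prime 7) := ⟨by norm_num⟩
  haveI := Fintype.ofFinite G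
  obtain ⟨⟨x, hxX⟩, hx1⟩ : ∃ a : X, a ≠ 1 := by
    haveI : Nontrivial X := Finite.one_lt_card_iff_nontrivial.1 (by rw [hX]; norm_num)
    exact exists_ne 1
  have hxo : orderOf x = 3 := by
    have hd := hX ▸ Subgroup.orderOf_dvd_natCard X hxX
    refine ((Nat.dvd_prime Nat.prime_three).1 hd).resolve_left fun e => hx1 ?_
    exact Subtype.ext (orderOf_eq_one_iff.1 e)
  have hgen : Subgroup.zpowers x = X :=
    Subgroup.eq_of_le_of_card_ge (Subgroup.zpowers_le.2 hxX)
      (by rw [hX, Nat.card_zpowers, hxo])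
  have h : SelfThree x := ⟨hxo, fun g hg => by
    rw [hgen, ← hC, Subgroup.mem_centralizer_iff, ← hgen]
    rintro _ ⟨k, rfl⟩
    exact ((Commute.symm hg).zpow_left k).eq⟩
  set N := pPrimeCore 3 G with hN
  have h3 : ¬ 3 ∣ Nat.card N := PCore.not_dvd_card_pPrimeCore
  have hq := h.quotient N h3
  rcases hq.normal_or_simple PCore.pPrimeCore_quotient_self_eq_bot with hnor | ⟨hsimp, hnc⟩
  · refine Or.inl ⟨N, inferInstance, h.isNilpotent (fun d hd => ?_) h3,
      PCore.coprime_card_pPrimeCore, ?_⟩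
    · exact Subgroup.Normal.conj_mem inferInstance d hd x
    rcases hq.card_of_normal hnor with e | ⟨e, -⟩
    · exact Or.inl e
    · exact Or.inr (equiv_perm_three hq e)
  haveI := hsimp
  haveI := Fintype.ofFinite (G ⧸ N)
  rcases hq.card_simple hnc with e | e
  · obtain ⟨φ⟩ := SmallSimple.iso_alternating_five hnc e
    exact Or.inr (Or.inl ⟨N, inferInstance,
      ⟨⟨fun a b => Subtype.ext (h.comm_of_simple N h3 hnc a a.2 b b.2)⟩⟩,
      h.sq_eq_one_of_altFive N h3 hnc φ, ⟨φ⟩⟩)
  · have hbot : N = ⊥ := h.eq_bot_of_card_quotient N h3 hnc e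
    let ψ : G ≃* G ⧸ N :=
      QuotientGroup.quotientBot.symm.trans (QuotientGroup.quotientMulEquivOfEq hbot.symm)
    have h4 : 4 ≤ Fintype.card (ZMod 7) := by rw [ZMod.card]; norm_num
    haveI : IsSimpleGroup (Matrix.ProjectiveSpecialLinearGroup (Fin 2) (ZMod 7)) :=
      PSL2.psl_isSimpleGroup (F := ZMod 7) (by rw [ZMod.card]; norm_num)
    haveI : Finite (Matrix.ProjectiveSpecialLinearGroup (Fin 2) (ZMod 7)) :=
      Finite.of_surjective _ (PSL2.mk_surjective (F := ZMod 7))
    obtain ⟨φ⟩ := SmallSimple.nonempty_mulEquiv_168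
      (G' := Matrix.ProjectiveSpecialLinearGroup (Fin 2) (ZMod 7)) e
      (by rw [PSL2.card_PSL, ZMod.card]; rfl)
    exact Or.inr (Or.inr ⟨ψ.trans φ⟩)

end Cfsg.Agent.S3331
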