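import Cfsg.Statements.S0788
import Cfsg.Agent.Lib.QForm.OmegaQuot

set_option autoImplicit false
open Cfsg

namespace Cfsg.Agent.S0788

/-- Ω has index 4 in O for q odd: if F is finite of odd characteristic, n ≥ 2 and Q is a quadratic form on F^n with non-degenerate polar form, then the commutator subgroup of the isometry group of Q (the group Ω of our definitions) has index 4 in it. -/
theorem result {F : Type*} [Field F] [Fintype F] (h2 : (2 : F) ≠ 0) {n : ℕ} (hn : 2 ≤ n) (Q : QuadraticForm F (Fin n → F)) (hQ : (QuadraticMap.polarBilin Q).Nondegenerate) : (Cfsg.Omega F ⇑Q).index = 4 := by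
  classical
  have hchar : ringChar F ≠ 2 := fun hc => h2 (by
    have : CharP F 2 := ringChar.of_eq hc
    exact CharTwo.two_eq_zero)
  let dt : ↥(Cfsg.isometryGroup F ⇑Q) →* Fˣ :=
    Matrix.GeneralLinearGroup.det.comp (Cfsg.isometryGroup F ⇑Q).subtype
  let Φ := (QForm.sphereSign Q).prod dt
  have hker : Φ.ker = Cfsg.Omega F ⇑Q := by
    ext g
    rw [MonoidHom.mem_ker, QForm.mem_omega_iff_invariants h2 hQ g, MonoidHom.prod_apply, Prod.mk_eq_one,
      Units.ext_iff (u := dt g)]
    rfl
  rw [← hker, Subgroup.index_ker]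
  have hrange : (Φ.range : Set (ℤˣ × Fˣ)) = (Set.univ : Set ℤˣ) ×ˢ ({1, -1} : Set Fˣ) := by
    refine Set.Subset.antisymm ?_ ?_
    · rintro _ ⟨g, rfl⟩
      refine ⟨Set.mem_univ _, ?_⟩
      rcases ClassicalSimple.isometry_det Q (ClassicalSimple.bil_nondegenerate Q hQ) g with h | h
      · exact Or.inl (Units.ext h)
      · exact Or.inr (Units.ext h)
    · obtain ⟨u, hu⟩ := FiniteField.exists_nonsquare hchar
      have hu0 : u ≠ 0 := fun h => hu (h ▸ IsSquare.zero)
      obtain ⟨v, hv⟩ := QForm.exists_apply_eq h2 hQ (by simpa using hn) 1 one_ne_zero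
      obtain ⟨w, hw⟩ := QForm.exists_apply_eq h2 hQ (by simpa using hn) u hu0
      have hv0 : Q v ≠ 0 := by rw [hv]; exact one_ne_zero
      have hw0 : Q w ≠ 0 := by rw [hw]; exact hu0
      have hΦv : Φ (QForm.refl Q v hv0) = (-1, -1) := by
        refine Prod.ext (Units.ext ?_) (Units.ext ?_)
        · show (QForm.sphereSign Q _ : ℤ) = _
          rw [QForm.sphereSign_refl Q h2 v hv0, hv, map_one]; rfl
        · exact QForm.det_reflectionMatrix Q hv0
      have hΦw : Φ (QForm.refl Q w hw0) = (1, -1) := by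
        refine Prod.ext (Units.ext ?_) (Units.ext ?_)
        · show (QForm.sphereSign Q _ : ℤ) = _
          rw [QForm.sphereSign_refl Q h2 w hw0, hw, quadraticChar_neg_one_iff_not_isSquare.2 hu]; rfl
        · exact QForm.det_reflectionMatrix Q hw0
      rintro ⟨a, b⟩ ⟨-, rfl | rfl⟩ <;> rcases Int.units_eq_one_or a with rfl | rfl
      · exact one_mem Φ.range
      · refine ⟨QForm.refl Q v hv0 * QForm.refl Q w hw0, ?_⟩
        rw [map_mul, hΦv, hΦw]; simp
      · exact ⟨_, hΦw⟩
      · exact ⟨_, hΦv⟩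
  have hne : (1 : Fˣ) ≠ -1 := fun h =>
    Ring.neg_one_ne_one_of_char_ne_two hchar (congrArg Units.val h).symm
  show Nat.card ↥(Φ.range : Set (ℤˣ × Fˣ)) = 4
  rw [Nat.card_coe_set_eq, hrange, Set.ncard_prod, Set.ncard_pair hne, Set.ncard_univ,
    Nat.card_eq_fintype_card, Fintype.card_units_int]

end Cfsg.Agent.S0788
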