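import Cfsg.Statements.S0789
import Cfsg.Agent.Lib.QForm.OmegaQuot

set_option autoImplicit false
open Cfsg

namespace Cfsg.Agent.S0789

/-- Ω has index 2 in O for q even: if F is finite of characteristic two, n ≥ 2, Q is a quadratic form on F^n with non-degenerate polar form, and (|F|, n) ≠ (2, 4), then the commutator subgroup of the isometry group of Q has index 2 in it. -/
theorem result {F : Type*} [Field F] [Fintype F] [CharP F 2] {n : ℕ} (hn : 2 ≤ n) (Q : QuadraticForm F (Fin n → F)) (hQ : (QuadraticMap.polarBilin Q).Nondegenerate) (h : Fintype.card F ≠ 2 ∨ n ≠ 4) : (Cfsg.Omega F ⇑Q).index = 2 := by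
  classical
  have hh : Fintype.card F ≠ 2 ∨ Fintype.card (Fin n) ≠ 4 := by simpa using h
  obtain ⟨v, hv⟩ := QForm.exists_ne_zero hQ (by simp; omega)
  rw [Subgroup.index_eq_two_iff]
  refine ⟨QForm.refl Q v hv, fun b => ?_⟩
  obtain ⟨vs, hvs, hb⟩ := QForm.exists_list hQ hh b
  rw [QForm.mem_omega_iff_even hQ hh b vs hvs hb,
    QForm.mem_omega_iff_even hQ hh (b * QForm.refl Q v hv) (vs ++ [v])
      (List.forall_mem_append.2 ⟨hvs, by simpa using hv⟩) (by
        rw [List.map_append, List.prod_append, ← hb, List.map_cons, List.map_nil, List.prod_singleton]; rfl),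
    List.length_append, List.length_singleton, Nat.even_add_one]
  rcases Classical.em (Even vs.length) with he | he
  · exact Or.inr ⟨he, fun h => h he⟩
  · exact Or.inl ⟨he, he⟩

end Cfsg.Agent.S0789
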