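import Cfsg.Statements.S4609
import Cfsg.Agent.Lib.Blocks.ThreeChars.NormalPart
import Cfsg.Agent.Lib.Blocks.CyclicDefect.Orth
import Cfsg.Agent.Lib.Char.Ito
import Cfsg.Agent.Lib.Char.HeightZeroInduced

set_option autoImplicit false
set_option linter.style.haveILetI false
open Cfsg
open scoped commutatorElement Cfsg.Agent.Blocks

namespace Cfsg.Agent.S4609

open Cfsg.Agent

universe u

variable {G : Type u} [Group G] [Fintype G] {M : Ideal AlgInt} [M.IsMaximal]

/-- A `2`-block with three characters does not exist. -/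
theorem ne_two {p : ℕ} [Fact p.Prime] (hpM : (p : AlgInt) ∈ M) {B : Set (IrrCharacter G)}
    (hB : IsPBlock M B) (hd : blockDefect p B ≠ 0) (hk : Nat.card B = 3) : p ≠ 2 := by
  classical
  rintro rfl
  have hp : Nat.Prime 2 := Nat.prime_two
  set b := sInf ((fun χ : IrrCharacter G => (charDegree χ.1).factorization 2) '' B) with hb
  set a := (Nat.card G).factorization 2 with ha
  have hdef : blockDefect 2 B = a - b := rfl
  set S := Finset.univ.filter (fun χ : IrrCharacter G => χ ∈ B) with hS
  have hc : ∀ χ ∈ S, ∃ c : ℕ, Char.degree χ = 2 ^ b * c ∧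
      (c % 2 = 1 ↔ blockHeight 2 B χ.1 = 0) := by
    intro χ hχ
    have hχB : χ ∈ B := (Finset.mem_filter.1 hχ).2
    have hle := Char.sInf_le_factorization_degree (p := 2) hχB
    obtain ⟨c, hc⟩ := (hp.pow_dvd_iff_le_factorization (Char.degree_pos χ).ne').2 hle
    refine ⟨c, hc, ?_⟩
    have hh : blockHeight 2 B χ.1 = c.factorization 2 := by
      have hc0 : c ≠ 0 := fun h => (Char.degree_pos χ).ne' (by rw [hc, h, mul_zero])
      rw [blockHeight, Blocks.charDegree_eq, hc, Nat.factorization_mul (by positivity) hc0,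
        Finsupp.add_apply, hp.factorization_pow, Finsupp.single_eq_same, ← hb]
      omega
    have hc0 : c ≠ 0 := fun h => (Char.degree_pos χ).ne' (by rw [hc, h, mul_zero])
    rw [hh, Nat.factorization_eq_zero_iff]
    simp only [hp, not_true, false_or, hc0, or_false]
    omega
  choose! c hc hc2 using hc
  have hcard : S.card = 3 := by
    rw [← hk, hS, Nat.card_eq_fintype_card, ← Fintype.card_subtype]
  obtain ⟨χ₀, hχ₀, h0⟩ := Blocks.exists_height_zero hpM hB
  have hχ₀S : χ₀ ∈ S := by simp [hS, hχ₀]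
  have hba : b ≤ a := by
    rw [hb, ← Char.factorization_degree_of_height_zero hχ₀ h0]
    exact (Nat.factorization_le_iff_dvd (Char.degree_pos χ₀).ne' Nat.card_pos.ne').2
      (Char.degree_dvd_natCard χ₀) 2
  have hT : 0 < ∑ χ ∈ S, c χ ^ 2 := by
    refine Finset.sum_pos' (fun _ _ => Nat.zero_le _) ⟨χ₀, hχ₀S, ?_⟩
    have := (hc2 χ₀ hχ₀S).2 h0
    exact pow_pos (by omega) 2
  have hv : (∑ χ ∈ S, c χ ^ 2).factorization 2 = blockDefect 2 B := by
    have h := Char.factorization_sum_degree_sq hpM hp hB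
    rw [Finset.sum_congr rfl (fun χ hχ => by rw [hc χ hχ, mul_pow]), ← Finset.mul_sum,
      Nat.factorization_mul (by positivity) hT.ne', Finsupp.add_apply, ← pow_mul,
      hp.factorization_pow, Finsupp.single_eq_same, hdef, ← ha] at h
    rw [hdef]
    omega
  obtain ⟨x, y, z, hxy, hxz, hyz, hxyz⟩ := Finset.card_eq_three.1 hcard
  have hsum : ∑ χ ∈ S, c χ ^ 2 = c x ^ 2 + c y ^ 2 + c z ^ 2 := by
    rw [hxyz, Finset.sum_insert (by simp [hxy, hxz]), Finset.sum_pair hyz, add_assoc]
  have hm4 : ∀ n : ℕ, n ^ 2 % 4 = n % 2 := fun n => by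
    rw [Nat.pow_mod]
    have := Nat.mod_lt n (show 4 > 0 by norm_num)
    interval_cases h : n % 4 <;> omega
  have hodd : c x % 2 = 1 ∨ c y % 2 = 1 ∨ c z % 2 = 1 := by
    have h := (hc2 χ₀ hχ₀S).2 h0
    have hm : χ₀ ∈ ({x, y, z} : Finset _) := hxyz ▸ hχ₀S
    simp only [Finset.mem_insert, Finset.mem_singleton] at hm
    rcases hm with rfl | rfl | rfl
    · exact Or.inl h
    · exact Or.inr (Or.inl h)
    · exact Or.inr (Or.inr h)
  rw [hsum] at hv hT
  have hev : 2 ∣ c x ^ 2 + c y ^ 2 + c z ^ 2 := by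
    have h := (hp.pow_dvd_iff_le_factorization hT.ne').2
      (show 1 ≤ (c x ^ 2 + c y ^ 2 + c z ^ 2).factorization 2 by omega)
    rwa [pow_one] at h
  have h4 : ¬ 2 ^ 2 ∣ c x ^ 2 + c y ^ 2 + c z ^ 2 := by
    have := hm4 (c x); have := hm4 (c y); have := hm4 (c z)
    omega
  rw [hp.pow_dvd_iff_le_factorization hT.ne', hv] at h4
  have hd1 : blockDefect 2 B = 1 := by omega
  have := S4607.card_two_of_card_defect hpM hB (by rw [hd1, pow_one])
  omega

/-- In a group with a normal defect group, a member of the block trivial on its Frattini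
subgroup has height zero. -/
theorem height_zero_of_trivOn {p : ℕ} [Fact p.Prime] (hpM : (p : AlgInt) ∈ M)
    {b : Set (IrrCharacter G)} (hb : IsPBlock M b) {D : Subgroup G} [D.Normal]
    (hbD : IsDefectGroup p M b D) {ψ : IrrCharacter G} (hψ : ψ ∈ b)
    (ht : Char.TrivOn (Blocks.ThreeChars.phiSub D) ψ.1) : blockHeight p b ψ.1 = 0 := by
  classical
  have hp : p.Prime := Fact.out
  set Φ := Blocks.ThreeChars.phiSub D
  haveI : Φ.Normal := ConjAct.normal_of_characteristic_of_normal
  obtain ⟨h, hh, hhD⟩ := Blocks.isDefectGroup_iff.1 hbD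
  have hidx : (Subgroup.centralizer ({h} : Set G)).index.factorization p =
      D.index.factorization p := by
    have h1 := Blocks.factorization_index (p := p) (Subgroup.centralizer ({h} : Set G))
    have h2 := Blocks.factorization_index (p := p) D
    rw [hhD.2, hp.factorization_pow, Finsupp.single_eq_same] at h2
    omega
  rw [Blocks.blockHeight_eq_zero_iff hpM hb hh hψ]
  refine le_antisymm ?_ (Blocks.factorization_index_le_degree hpM ψ (hh.2.2 ψ hψ))
  rw [hidx]
  obtain ⟨ψ', hψ'⟩ := Char.exists_descend Φ ψ ht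
  have hdeg : Char.degree ψ' = Char.degree ψ := by
    have e := hψ' 1
    rw [QuotientGroup.mk_one, Char.apply_one_eq_degree, Char.apply_one_eq_degree] at e
    exact_mod_cast e
  haveI : (D.map (QuotientGroup.mk' Φ)).Normal :=
    Subgroup.Normal.map ‹D.Normal› _ (QuotientGroup.mk'_surjective _)
  letI := Fintype.ofFinite (G ⧸ Φ)
  letI := Fintype.ofFinite (D.map (QuotientGroup.mk' Φ))
  have hdvd := Char.degree_dvd_index_of_comm (N := D.map (QuotientGroup.mk' Φ)) (by
    rintro _ ⟨x, hx, rfl⟩ _ ⟨y, hy, rfl⟩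
    rw [← commutatorElement_eq_one_iff_mul_comm, ← map_commutatorElement]
    exact (QuotientGroup.eq_one_iff _).2 ⟨⁅(⟨x, hx⟩ : D), (⟨y, hy⟩ : D)⁆,
      PGroup.commutator_le_frattini (Blocks.IsDefectGroup.isPGroup hbD)
        (Subgroup.commutator_mem_commutator (Subgroup.mem_top _) (Subgroup.mem_top _)), rfl⟩) ψ'
  rw [Subgroup.index_map, QuotientGroup.ker_mk',
    sup_eq_left.2 (Blocks.ThreeChars.phiSub_le D), MonoidHom.range_eq_top.2
      (QuotientGroup.mk'_surjective Φ), Subgroup.index_top, mul_one, hdeg] at hdvd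
  exact (Nat.factorization_le_iff_dvd (Char.degree_pos ψ).ne'
    Subgroup.index_ne_zero_of_finite).2 hdvd p

/-- Let G be a finite group, p a prime, M a maximal ideal of the algebraic integers containing p, and B a p-block of G with defect group D containing exactly three irreducible characters. Suppose the number of height-zero characters of B equals the number of height-zero characters of its Brauer correspondent b, the block of N_G(D) with defect group D inducing B (as the Alperin–McKay conjecture predicts). Then D has order 3. -/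
theorem result {G : Type*} [Group G] [Finite G] (p : ℕ) [Fact p.Prime] (M : Ideal Cfsg.AlgInt) (hM : Cfsg.IsPModular p M) (B : Set (Cfsg.IrrCharacter G)) (hB : Cfsg.IsPBlock M B) (D : Subgroup G) (hD : Cfsg.IsDefectGroup p M B D) (hk : Nat.card B = 3)
    (b : Set (Cfsg.IrrCharacter (Subgroup.normalizer (D : Set G)))) (hbB : Cfsg.IsInducedBlock M (Subgroup.normalizer (D : Set G)) b B)
    (hbD : Cfsg.IsDefectGroup p M b (D.subgroupOf (Subgroup.normalizer (D : Set G))))
    (hAM : Nat.card {χ : Cfsg.IrrCharacter G // χ ∈ B ∧ Cfsg.blockHeight p B (χ : G → ℂ) = 0} =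
           Nat.card {ψ : Cfsg.IrrCharacter (Subgroup.normalizer (D : Set G)) // ψ ∈ b ∧ Cfsg.blockHeight p b (ψ : Subgroup.normalizer (D : Set G) → ℂ) = 0}) :
    Nat.card D = 3 := by
  classical
  letI := Fintype.ofFinite G
  haveI : M.IsMaximal := hM.2.1
  haveI : CharP (AlgInt ⧸ M) p := Blocks.charP_residue hM.2.2
  have hp : p.Prime := Fact.out
  have hpM := hM.2.2
  have hDcard := Blocks.card_defectGroup hpM hB hD
  have hd : blockDefect p B ≠ 0 := fun hd => by
    obtain ⟨χ, hχ, h0⟩ := Blocks.exists_height_zero hpM hB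
    have hb := Char.factorization_degree_of_height_zero hχ h0
    have hle : (Char.degree χ).factorization p ≤ (Nat.card G).factorization p :=
      (Nat.factorization_le_iff_dvd (Char.degree_pos χ).ne' Nat.card_pos.ne').2
        (Char.degree_dvd_natCard χ) p
    rw [blockDefect, ← hb] at hd
    rw [Blocks.block_eq hB hχ, (Blocks.blockOf_eq_singleton_iff hpM χ).2 (by omega)] at hk
    simp at hk
  have hp2 := ne_two hpM hB hd hk
  have hDne : D ≠ ⊥ := fun e => by
    rw [e, Subgroup.card_bot] at hDcard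
    exact hp.ne_one ((pow_eq_one_iff.1 hDcard.symm).resolve_right hd)
  -- the normalizer
  letI := Fintype.ofFinite (Subgroup.normalizer (D : Set G))
  set D' := D.subgroupOf (Subgroup.normalizer (D : Set G)) with hD'
  haveI : D'.Normal := Subgroup.normal_subgroupOf_of_le_normalizer le_rfl
  have hDN : D ≤ Subgroup.normalizer (D : Set G) := Subgroup.le_normalizer
  have hD'ne : D' ≠ ⊥ := fun e => hDne (by
    rw [hD', Subgroup.subgroupOf_eq_bot] at e
    exact e.eq_bot_of_le hDN)
  have hheight : ∀ ψ : IrrCharacter (Subgroup.normalizer (D : Set G)), ψ ∈ b → Char.TrivOn (Blocks.ThreeChars.phiSub D') ψ.1 →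
      blockHeight p b ψ.1 = 0 := fun ψ hψ ht => height_zero_of_trivOn hpM hbB.1 hbD hψ ht
  have hcount : Nat.card {ψ : IrrCharacter (Subgroup.normalizer (D : Set G)) // ψ ∈ b ∧ Char.TrivOn (Blocks.ThreeChars.phiSub D') ψ.1} ≤ 3 := by
    refine le_trans (Nat.card_le_card_of_injective
      (fun ψ => (⟨ψ.1, ψ.2.1, hheight ψ.1 ψ.2.1 ψ.2.2⟩ :
        {ψ : IrrCharacter (Subgroup.normalizer (D : Set G)) // ψ ∈ b ∧ blockHeight p b ψ.1 = 0})) ?_) ?_
    · exact fun a c e => Subtype.ext (congrArg (fun z => z.1) e)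
    · rw [← hAM, ← hk]
      exact Nat.card_le_card_of_injective (fun χ => (⟨χ.1, χ.2.1⟩ : B))
        fun a c e => Subtype.ext (congrArg (fun z => z.1) e)
  obtain ⟨hp3, hcyc'⟩ :=
    Blocks.ThreeChars.card_eq_three_mul_frattini hp2 hM hbB.1 hbD hD'ne hcount
  haveI := hcyc'
  have hcyc : IsCyclic D := isCyclic_of_surjective _ (Subgroup.subgroupOfEquivOfLe hDN).surjective
  -- the cyclic theory
  obtain ⟨c, dat⟩ := Blocks.CyclicDefect.exists_datum hM hB hD hcyc hDne
  have he := dat.dvd_pred
  have hel := dat.inIndex_le_blockRank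
  obtain ⟨θ, -, -, hθ⟩ := dat.exists_theta
  have heq := dat.card_eq hθ
  have hepos := dat.inIndex_pos
  rw [hk] at heq
  have he2 : Blocks.CyclicDefect.inIndex M D c ≤ 2 :=
    Nat.le_of_dvd (by norm_num) (by rw [hp3] at he; exact he)
  have hle : Nat.card D ≤ 3 := by
    interval_cases Blocks.CyclicDefect.inIndex M D c <;> omega
  have hdvd : 3 ∣ Nat.card D := by rw [hDcard, hp3]; exact dvd_pow_self 3 (by rwa [hp3] at hd)
  have := Nat.le_of_dvd Nat.card_pos hdvd
  omega

end Cfsg.Agent.S4609
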