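import Cfsg.Statements.S0228
import Mathlib
import Cfsg.Agent.Lib.Invol.Basic

set_option autoImplicit false
open Cfsg

namespace Cfsg.Agent.S0228

/-- A group of order 12 in which no involution is central is isomorphic to the alternating group on four letters. -/
theorem result {G : Type*} [Group G] [Finite G] (hG : Nat.card G = 12) (hz : ∀ z : G, orderOf z = 2 → z ∉ Subgroup.center G) : Nonempty (G ≃* alternatingGroup (Fin 4)) := by
  have : Fact (Nat.Prime 2) := ⟨Nat.prime_two⟩
  have : Fact (Nat.Prime 3) := ⟨Nat.prime_three⟩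
  obtain ⟨x, hx⟩ := exists_prime_orderOf_dvd_card' (G := G) 3 (by rw [hG]; norm_num)
  let C := Subgroup.centralizer ({x} : Set G)
  have hxC : x ∈ C := Invol.mem_centralizer_singleton_iff'.2 (Commute.refl x)
  have h3C : 3 ∣ Nat.card C := by
    have := orderOf_dvd_natCard (⟨x, hxC⟩ : C)
    rwa [← Subgroup.orderOf_coe, show orderOf ((⟨x, hxC⟩ : C) : G) = 3 from hx] at this
  have hCdvd : Nat.card C ∣ 12 := hG ▸ C.card_subgroup_dvd_card
  have hodd : Odd (Nat.card C) := by
    rw [← Nat.not_even_iff_odd]
    intro he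
    obtain ⟨t, htC, ht⟩ := Invol.exists_involution_mem he
    refine hz t ht (Subgroup.mem_center_iff.2 fun g => ?_)
    let D := Subgroup.centralizer ({t} : Set G)
    have hxD : x ∈ D := Invol.mem_centralizer_singleton_iff'.2
      (Invol.mem_centralizer_singleton_iff'.1 htC).symm
    have h3D : 3 ∣ Nat.card D := by
      have := orderOf_dvd_natCard (⟨x, hxD⟩ : D)
      rwa [← Subgroup.orderOf_coe, show orderOf ((⟨x, hxD⟩ : D) : G) = 3 from hx] at this
    obtain ⟨T, hT⟩ := (IsPGroup.of_card (p := 2) (n := 1) (G := Subgroup.zpowers t)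
      (by rw [Nat.card_zpowers, ht, pow_one])).exists_le_sylow
    have htT : t ∈ (T : Subgroup G) := hT (Subgroup.mem_zpowers t)
    have hT4 : Nat.card T = 4 := by
      rw [T.card_eq_multiplicity, hG, show (12 : ℕ) = 2 ^ 2 * 3 from rfl,
        Nat.factorization_mul (by norm_num) (by norm_num), Nat.Prime.factorization_pow Nat.prime_two,
        Nat.Prime.factorization Nat.prime_three]
      simp
    have hTD : (T : Subgroup G) ≤ D := fun y hy => by
      refine Invol.mem_centralizer_singleton_iff'.2 ?_
      have hc := IsPGroup.commutative_of_card_eq_prime_sq (p := 2) (G := T) (by rw [hT4]; rfl)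
        ⟨y, hy⟩ ⟨t, htT⟩
      exact congrArg Subtype.val hc
    have h4D : 4 ∣ Nat.card D := hT4 ▸ Subgroup.card_dvd_of_le hTD
    have h12 : 12 ∣ Nat.card D := Nat.Coprime.mul_dvd_of_dvd_of_dvd (by norm_num) h4D h3D
    have hD : D = ⊤ := D.eq_top_of_le_card (hG ▸ Nat.le_of_dvd Nat.card_pos h12)
    exact (Invol.mem_centralizer_singleton_iff'.1 (show g ∈ D by rw [hD]; exact Subgroup.mem_top g)).eq
  have hC3 : Nat.card C = 3 := by
    have hle := Nat.le_of_dvd (by norm_num) hCdvd
    interval_cases h : Nat.card C <;> simp_all +decide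
  have hidx : C.index = 4 := by
    have := C.card_mul_index
    rw [hC3, hG] at this
    omega
  let φ : G →* Equiv.Perm (G ⧸ C) := MulAction.toPermHom G (G ⧸ C)
  have hker : φ.ker = ⊥ := by
    show (MulAction.toPermHom G (G ⧸ C)).ker = ⊥
    rw [← Subgroup.normalCore_eq_ker]
    by_contra hne
    have hdvd := Subgroup.card_dvd_of_le C.normalCore_le
    rw [hC3] at hdvd
    rcases (Nat.dvd_prime Nat.prime_three).1 hdvd with h1 | h3
    · exact hne (Subgroup.eq_bot_of_card_eq _ h1)
    have heq : C.normalCore = C :=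
      Subgroup.eq_of_le_of_card_ge C.normalCore_le (by rw [h3, hC3])
    have hn : C.Normal := heq ▸ C.normalCore_normal
    haveI := Fintype.ofFinite G
    classical
    have hcomm : ∀ a b : C, a * b = b * a := by
      haveI := isCyclic_of_prime_card hC3
      letI := IsCyclic.commGroup (α := C)
      exact fun a b => mul_comm a b
    have hfib : ∀ r ∈ Finset.univ.image (fun g : G => g * x * g⁻¹),
        (Finset.univ.filter fun g : G => g * x * g⁻¹ = r).card = 3 := by
      intro r hr
      obtain ⟨g, -, rfl⟩ := Finset.mem_image.1 hr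
      rw [← hC3, ← Invol.card_conj_eq _ ⟨g, rfl⟩, Nat.card_eq_fintype_card, Fintype.card_subtype]
    have hcount := Finset.card_eq_sum_card_image (fun g : G => g * x * g⁻¹) Finset.univ
    rw [Finset.sum_congr rfl hfib, Finset.sum_const, smul_eq_mul, Finset.card_univ,
      ← Nat.card_eq_fintype_card, hG] at hcount
    have hsub : Finset.univ.image (fun g : G => g * x * g⁻¹) ⊆
        Finset.univ.filter fun g : G => g ∈ C := by
      intro r hr
      obtain ⟨g, -, rfl⟩ := Finset.mem_image.1 hr
      simp [hn.conj_mem x hxC g]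
    have := Finset.card_le_card hsub
    rw [← Fintype.card_subtype, ← Nat.card_eq_fintype_card, hC3] at this
    omega
  have hinj : Function.Injective φ := (MonoidHom.ker_eq_bot_iff φ).1 hker
  haveI := Fintype.ofFinite (G ⧸ C)
  classical
  let e : (G ⧸ C) ≃ Fin 4 := Fintype.equivFinOfCardEq (by
    rw [← Nat.card_eq_fintype_card, ← Subgroup.index_eq_card, hidx])
  let ψ : G →* Equiv.Perm (Fin 4) := e.permCongrHom.toMonoidHom.comp φ
  have hψ : Function.Injective ψ := e.permCongrHom.injective.comp hinj
  have hr : ψ.range.index = 2 := by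
    have h1 : Nat.card ψ.range = 12 := by
      rw [← hG]
      exact (Nat.card_congr (MonoidHom.ofInjective hψ).toEquiv).symm
    have := ψ.range.card_mul_index
    rw [h1, Nat.card_perm, Nat.card_fin] at this
    norm_num [Nat.factorial] at this
    omega
  exact ⟨(MonoidHom.ofInjective hψ).trans
    (MulEquiv.subgroupCongr (Equiv.Perm.eq_alternatingGroup_of_index_eq_two hr))⟩

end Cfsg.Agent.S0228
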