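import Cfsg.Statements.S0813
import Cfsg.Agent.Lib.AutPSL.Group
import Cfsg.Agent.Lib.AutPSLOuter.Outer
-- import your own Cfsg.Agent.* helpers here

set_option autoImplicit false
open Cfsg

namespace Cfsg.Agent.S0813

open Agent.AutPSL in
/-- In dimension two, inverse transpose is inner-diagonal. -/
theorem exists_invP_conjP {F : Type*} [Field F] :
    ∃ w : GL (Fin (1 + 1)) F, (invP : MulAut (Matrix.ProjectiveSpecialLinearGroup (Fin (1 + 1)) F)) = conjP w := by
  refine ⟨⟨!![0, 1; -1, 0], !![0, -1; 1, 0], by ext i j; fin_cases i <;> fin_cases j <;> simp,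
    by ext i j; fin_cases i <;> fin_cases j <;> simp⟩,
    MulEquiv.ext fun x => ?_⟩
  induction x using QuotientGroup.induction_on with
  | _ s =>
    rw [invP_mk, conjP_mk]
    refine congrArg QuotientGroup.mk (Subtype.ext ?_)
    rw [invT_coe, conjSL_coe, Matrix.SpecialLinearGroup.coe_inv, Matrix.adjugate_fin_two]
    ext i j
    fin_cases i <;> fin_cases j <;> simp [Matrix.mul_apply, Fin.sum_univ_two, Matrix.vecMul, dotProduct]

/-- |Aut(PSL_n(q))|, q = p^f: for n ≥ 3 it is 2 f |PGL_n(q)|, and for n = 2 (q ≥ 4) it is f |PGL_2(q)|. -/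
theorem result {F : Type*} [Field F] [Fintype F] (p f : ℕ) [Fact p.Prime] (hf : 1 ≤ f) (hF : Fintype.card F = p ^ f) (n : ℕ) (hn : 2 ≤ n) (h2 : n = 2 → 4 ≤ p ^ f) : Nat.card (MulAut (Matrix.ProjectiveSpecialLinearGroup (Fin n) F)) = (if n = 2 then 1 else 2) * f * Nat.card (Matrix.ProjGenLinGroup (Fin n) F) := by
  classical
  obtain ⟨m, rfl⟩ : ∃ m, n = m + 1 := ⟨n - 1, by omega⟩
  have hm : 1 ≤ m := by omega
  set R := (AutPSL.conjP : GL (Fin (m + 1)) F →* MulAut (Matrix.ProjectiveSpecialLinearGroup (Fin (m + 1)) F)).range with hR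
  have hker : (AutPSL.conjP : GL (Fin (m + 1)) F →* MulAut (Matrix.ProjectiveSpecialLinearGroup (Fin (m + 1)) F)).ker =
      Subgroup.center (GL (Fin (m + 1)) F) := by
    rw [Matrix.GeneralLinearGroup.center_eq_range_scalar]
    ext g
    rw [MonoidHom.mem_ker, AutPSL.conjP_eq_one_iff hm, MonoidHom.mem_range]
    exact exists_congr fun c => eq_comm
  have hRcard : Nat.card R = Nat.card (Matrix.ProjGenLinGroup (Fin (m + 1)) F) := by
    rw [hR, ← Nat.card_congr (QuotientGroup.quotientKerEquivRange _).toEquiv]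
    exact Nat.card_congr (QuotientGroup.quotientMulEquivOfEq hker).toEquiv
  have hfield : Nat.card (F ≃+* F) = f := by
    obtain ⟨e⟩ := AutPSLOuter.exists_fieldAut_iso (F := F) hf hF
    rw [Nat.card_congr e.toEquiv, Nat.card_congr Multiplicative.toAdd, Nat.card_zmod]
  have hsame : ∀ (g g' : GL (Fin (m + 1)) F) (σ σ' : F ≃+* F),
      (AutPSL.conjP g * AutPSL.fieldP σ : MulAut (Matrix.ProjectiveSpecialLinearGroup (Fin (m + 1)) F)) =
        AutPSL.conjP g' * AutPSL.fieldP σ' → σ = σ' ∧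
      (AutPSL.conjP g : MulAut (Matrix.ProjectiveSpecialLinearGroup (Fin (m + 1)) F)) = AutPSL.conjP g' := by
    intro g g' σ σ' h
    have h' : (AutPSL.fieldPHom (σ * σ'⁻¹) : MulAut (Matrix.ProjectiveSpecialLinearGroup (Fin (m + 1)) F)) =
        AutPSL.conjP (g⁻¹ * g') := by
      rw [map_mul, map_inv, map_mul, map_inv, eq_inv_mul_iff_mul_eq, ← mul_assoc, mul_inv_eq_iff_eq_mul]
      exact h
    have hσ : σ = σ' := by
      have h1 : σ * σ'⁻¹ = 1 := AutPSL.fieldP_eq_conjP hm h'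
      exact mul_inv_eq_one.1 h1
    exact ⟨hσ, mul_right_cancel (hσ ▸ h)⟩
  by_cases hm1 : m = 1
  · subst hm1
    obtain ⟨w, hw⟩ := exists_invP_conjP (F := F)
    have hbij : Function.Bijective (fun x : R × (F ≃+* F) => x.1.1 * AutPSL.fieldP x.2) := by
      constructor
      · rintro ⟨⟨_, g, rfl⟩, σ⟩ ⟨⟨_, g', rfl⟩, σ'⟩ h
        obtain ⟨h1, h2⟩ := hsame g g' σ σ' h
        exact Prod.ext (Subtype.ext h2) h1
      · intro β
        obtain ⟨g, σ, γ, hγ, rfl⟩ := AutPSL.exists_decomposition (le_refl 1) β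
        rcases hγ with rfl | rfl
        · exact ⟨(⟨_, g, rfl⟩, σ), (mul_one _).symm⟩
        · refine ⟨(⟨_, g * FieldExt.glMap σ w, rfl⟩, σ), ?_⟩
          show AutPSL.conjP (g * FieldExt.glMap σ w) * AutPSL.fieldP σ = _
          rw [map_mul, hw, mul_assoc, ← AutPSL.fieldP_mul_conjP, ← mul_assoc]
    rw [← Nat.card_congr (Equiv.ofBijective _ hbij), Nat.card_prod, hRcard, hfield, if_pos rfl, one_mul, mul_comm]
  · have hm2 : 2 ≤ m := by omega
    have hne : ∀ (g g' : GL (Fin (m + 1)) F) (σ σ' : F ≃+* F),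
        (AutPSL.conjP g * AutPSL.fieldP σ * AutPSL.invP : MulAut (Matrix.ProjectiveSpecialLinearGroup (Fin (m + 1)) F)) ≠
          AutPSL.conjP g' * AutPSL.fieldP σ' := by
      intro g g' σ σ' h
      refine AutPSL.invP_ne hm2 (FieldExt.glMap σ⁻¹ (g⁻¹ * g')) (σ⁻¹ * σ') ?_
      have hb : (AutPSL.invP : MulAut (Matrix.ProjectiveSpecialLinearGroup (Fin (m + 1)) F)) =
          AutPSL.fieldP σ⁻¹ * AutPSL.conjP (g⁻¹ * g') * AutPSL.fieldP σ' := by
        show _ = AutPSL.fieldPHom σ⁻¹ * _ * _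
        rw [map_inv, map_mul, map_inv, mul_assoc, mul_assoc, eq_inv_mul_iff_mul_eq, eq_inv_mul_iff_mul_eq, ← mul_assoc]
        exact h
      rw [hb, AutPSL.fieldP_mul_conjP, mul_assoc]
      exact congrArg _ (map_mul AutPSL.fieldPHom _ _).symm
    have hbij : Function.Bijective (fun x : (R × (F ≃+* F)) × Bool =>
        x.1.1.1 * AutPSL.fieldP x.1.2 * (if x.2 then AutPSL.invP else 1)) := by
      constructor
      · rintro ⟨⟨⟨_, g, rfl⟩, σ⟩, e⟩ ⟨⟨⟨_, g', rfl⟩, σ'⟩, e'⟩ h
        cases e <;> cases e' <;> simp only [mul_one, if_true, Bool.false_eq_true, if_false, mul_left_inj] at h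
        · obtain ⟨h1, h2⟩ := hsame g g' σ σ' h
          exact Prod.ext (Prod.ext (Subtype.ext h2) h1) rfl
        · exact absurd h.symm (hne g' g σ' σ)
        · exact absurd h (hne g g' σ σ')
        · obtain ⟨h1, h2⟩ := hsame g g' σ σ' h
          exact Prod.ext (Prod.ext (Subtype.ext h2) h1) rfl
      · intro β
        obtain ⟨g, σ, γ, hγ, rfl⟩ := AutPSL.exists_decomposition hm β
        rcases hγ with rfl | rfl
        · exact ⟨((⟨_, g, rfl⟩, σ), false), rfl⟩
        · exact ⟨((⟨_, g, rfl⟩, σ), true), rfl⟩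
    rw [← Nat.card_congr (Equiv.ofBijective _ hbij), Nat.card_prod, Nat.card_prod, hRcard, hfield,
      if_neg (by omega : ¬ m + 1 = 2), Nat.card_eq_fintype_card (α := Bool), Fintype.card_bool]
    ring

end Cfsg.Agent.S0813
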