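import Cfsg.Statements.S3701
import Cfsg.Agent.Lib.Exceptional.InvolPairs
import Cfsg.Agent.Lib.Exceptional.ThreePairs
import Cfsg.Agent.Lib.Exceptional.S3Cube
import Cfsg.Agent.Lib.Char.PermChar
import Cfsg.Agent.Lib.Char.Linear
import Cfsg.Agent.Lib.Coprime.Generation

set_option autoImplicit false
open Cfsg

namespace Cfsg.Agent.S3701

open Cfsg.Agent.Exceptional

/-- The natural action of the dihedral group of order six on three points. -/
def toPerm3 : S3Cube.D →* Equiv.Perm (Fin 3) where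
  toFun
    | .r i => (Equiv.swap 0 1 * Equiv.swap 1 2) ^ i.val
    | .sr i => Equiv.swap 0 1 * (Equiv.swap 0 1 * Equiv.swap 1 2) ^ i.val
  map_one' := rfl
  map_mul' := by decide +kernel

theorem isCharacter_sgnD : IsCharacter S3Cube.D (fun x => (S3Cube.sgnD x : ℂ)) :=
  Char.IsIrrCharacter.isCharacter
    (Char.isIrrCharacter_of_monoidHom ((Int.castRingHom ℂ : ℤ →* ℂ).comp S3Cube.sgnHom))

theorem isGen_sigD : IsGeneralizedCharacter S3Cube.D (fun x => (S3Cube.sigD x : ℂ)) := by
  have h := Char.IsCharacter.isGeneralized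
    (Char.IsCharacter.comp (Char.isCharacter_fixedBy (G := Equiv.Perm (Fin 3)) (Fin 3)) toPerm3)
  have h1 := Char.IsCharacter.isGeneralized (Char.isCharacter_one (G := S3Cube.D))
  convert Char.IsGeneralizedCharacter.sub h h1 using 1
  funext x
  have key : ∀ x : S3Cube.D,
      ((Finset.univ.filter fun a => toPerm3 x a = a).card : ℤ) - 1 = S3Cube.sigD x := by decide +kernel
  have hcard : Nat.card (MulAction.fixedBy (Fin 3) (toPerm3 x)) =
      (Finset.univ.filter fun a => toPerm3 x a = a).card := by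
    rw [Nat.card_eq_fintype_card, ← Fintype.card_subtype]
    exact Fintype.card_congr (Equiv.refl _)
  rw [Pi.sub_apply, ← key x, hcard]
  push_cast
  ring

section Transfer

variable {X : Type*} [Group X] (π : X →* S3Cube.D × S3Cube.D × S3Cube.D)

theorem isGen_sgn (pr : S3Cube.D × S3Cube.D × S3Cube.D →* S3Cube.D) :
    IsGeneralizedCharacter X (fun x => (S3Cube.sgnD (pr (π x)) : ℂ)) :=
  Char.IsCharacter.isGeneralized (Char.IsCharacter.comp isCharacter_sgnD (pr.comp π))

theorem isGen_sig (pr : S3Cube.D × S3Cube.D × S3Cube.D →* S3Cube.D) :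
    IsGeneralizedCharacter X (fun x => (S3Cube.sigD (pr (π x)) : ℂ)) :=
  Char.IsGeneralizedCharacter.comp isGen_sigD (pr.comp π)

abbrev pr0 : S3Cube.D × S3Cube.D × S3Cube.D →* S3Cube.D := MonoidHom.fst _ _
abbrev pr1 : S3Cube.D × S3Cube.D × S3Cube.D →* S3Cube.D :=
  (MonoidHom.fst _ _).comp (MonoidHom.snd _ _)
abbrev pr2 : S3Cube.D × S3Cube.D × S3Cube.D →* S3Cube.D :=
  (MonoidHom.snd _ _).comp (MonoidHom.snd _ _)

/-- The eight functions, indexed together. -/
def fn : Fin 3 ⊕ Fin 3 ⊕ Fin 2 → S3Cube.D × S3Cube.D × S3Cube.D → ℤ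
  | .inl i => S3Cube.fA i
  | .inr (.inl i) => S3Cube.fB i
  | .inr (.inr 0) => S3Cube.fD
  | .inr (.inr 1) => S3Cube.fP

theorem isGen_fn [Finite X] (k : Fin 3 ⊕ Fin 3 ⊕ Fin 2) :
    IsGeneralizedCharacter X (fun x => (fn k (π x) : ℂ)) := by
  have one : IsGeneralizedCharacter X (fun _ => (1 : ℂ)) :=
    Char.IsCharacter.isGeneralized Char.isCharacter_one
  have sub : ∀ {f g : X → ℂ}, IsGeneralizedCharacter X f → IsGeneralizedCharacter X g →
      IsGeneralizedCharacter X (fun x => f x - g x) := fun h1 h2 => Char.IsGeneralizedCharacter.sub h1 h2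
  have add : ∀ {f g : X → ℂ}, IsGeneralizedCharacter X f → IsGeneralizedCharacter X g →
      IsGeneralizedCharacter X (fun x => f x + g x) := fun h1 h2 => Char.IsGeneralizedCharacter.add h1 h2
  have mul : ∀ {f g : X → ℂ}, IsGeneralizedCharacter X f → IsGeneralizedCharacter X g →
      IsGeneralizedCharacter X (fun x => f x * g x) := fun h1 h2 => Char.IsGeneralizedCharacter.mul h1 h2
  have s0 := isGen_sgn π pr0
  have s1 := isGen_sgn π pr1
  have s2 := isGen_sgn π pr2
  have t0 := isGen_sig π pr0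
  have t1 := isGen_sig π pr1
  have t2 := isGen_sig π pr2
  rcases k with i | i | i <;> fin_cases i <;>
    simp only [fn, S3Cube.fA, S3Cube.fB, S3Cube.fD, S3Cube.fP, Int.cast_sub, Int.cast_add,
      Int.cast_mul, Int.cast_one]
  exacts [sub (sub t0 one) s0, sub (sub t1 one) s1, sub (sub t2 one) s2,
    sub (sub (mul t0 s1) s1) s2, sub (sub (mul t1 s2) s2) s0, sub (sub (mul t2 s0) s0) s1,
    sub (add (add (add one s0) s1) s2) (mul t0 t1), sub (mul t0 t1) (mul t0 t2)]

end Transfer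

theorem vanish_fn (k : Fin 3 ⊕ Fin 3 ⊕ Fin 2) :
    ∀ p ∈ S3Cube.K, p * p = 1 → fn k p = 0 := by
  rcases k with i | i | i
  · exact S3Cube.vanishA i
  · exact S3Cube.vanishB i
  · fin_cases i
    exacts [S3Cube.vanishD, S3Cube.vanishP]

/-- The character part: four homomorphisms to the multiplicative monoid of `ℂ`. -/
theorem four_le_index_commutator {G : Type*} [Group G] [Finite G] (H : Subgroup G)
    (e : H ≃* S3Cube.K)
    (hTI : ∀ g s : G, s ∈ H → s * s ≠ 1 → g⁻¹ * s * g ∈ H → g ∈ H)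
    (hpair : ∀ u v : G, u * u = 1 → v * v = 1 → u * v ∈ H → u * v * (u * v) ≠ 1 → u ∈ H) :
    4 ≤ (commutator G).index := by
  classical
  haveI := Fintype.ofFinite G
  haveI := Fintype.ofFinite H
  let π : H →* S3Cube.D × S3Cube.D × S3Cube.D := S3Cube.K.subtype.comp e.toMonoidHom
  have hπmem : ∀ h, π h ∈ S3Cube.K := fun h => (e h).2
  have hπinj : Function.Injective π := Subtype.val_injective.comp e.injective
  obtain ⟨V, hVip, hV1, hVd, hVs, hVq⟩ := exists_vec (fun k h => (fn k (π h) : ℂ)) (isGen_fn π)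
    (fun k h hh => by
      rw [vanish_fn k _ (hπmem h) (by rw [← map_mul, hh, map_one]), Int.cast_zero]) hTI hpair
  have himg : Finset.univ.map ⟨π, hπinj⟩ = Finset.univ.filter (· ∈ S3Cube.K) := by
    ext p
    simp only [Finset.mem_map, Finset.mem_univ, true_and, Function.Embedding.coeFn_mk,
      Finset.mem_filter]
    refine ⟨fun ⟨h, hh⟩ => hh ▸ hπmem h, fun hp => ⟨e.symm ⟨p, hp⟩, ?_⟩⟩
    show ((e (e.symm ⟨p, hp⟩) : S3Cube.K) : S3Cube.D × S3Cube.D × S3Cube.D) = p
    rw [e.apply_symm_apply]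
  have himgU : (invols H).map ⟨π, hπinj⟩ =
      Finset.univ.filter (fun p => p ∈ S3Cube.K ∧ p * p = 1 ∧ p ≠ 1) := by
    ext p
    simp only [Finset.mem_map, Finset.mem_univ, true_and, Function.Embedding.coeFn_mk,
      Finset.mem_filter, mem_invols]
    constructor
    · rintro ⟨h, ⟨h1, h2⟩, rfl⟩
      exact ⟨hπmem h, by rw [← map_mul, h1, map_one], fun hh => h2 (hπinj (hh.trans (map_one π).symm))⟩
    · rintro ⟨hp, h1, h2⟩
      obtain ⟨h, -, hh⟩ := Finset.mem_map.1 (himg.symm ▸ Finset.mem_filter.2 ⟨Finset.mem_univ p, hp⟩)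
      have hh' : π h = p := hh
      subst hh'
      exact ⟨h, ⟨hπinj (by rw [map_mul, h1, map_one]), fun hh => h2 (by rw [hh, map_one])⟩, rfl⟩
  have hcard : (Nat.card H : ℂ) = 108 := by
    rw [Nat.card_congr e.toEquiv, Nat.card_eq_fintype_card, S3Cube.card_K]
    norm_num
  have hip : ∀ f f' : S3Cube.D × S3Cube.D × S3Cube.D → ℤ,
      classInner (fun h : H => (f (π h) : ℂ)) (fun h => (f' (π h) : ℂ)) =
        (S3Cube.ip f f' : ℂ) / 108 := by
    intro f f'
    rw [S3Cube.ip, ← himg, Finset.sum_map]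
    simp only [classInner, hcard, map_intCast, Function.Embedding.coeFn_mk]
    push_cast
    rw [div_eq_inv_mul]
  have hipV : ∀ k l (z : ℤ), S3Cube.ip (fn k) (fn l) = 108 * z → V k ⬝ᵥ V l = z := by
    intro k l z hz
    have h := (hVip k l).trans (hip (fn k) (fn l))
    rw [hz, Int.cast_mul, Int.cast_ofNat, mul_div_cancel_left₀ _ (by norm_num)] at h
    exact_mod_cast h
  have hipV1 : ∀ k (z : ℤ), S3Cube.ip (fn k) (fun _ => 1) = 108 * z →
      V k (Char.trivialChar G) = z := by
    intro k z hz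
    have h := hV1 k
    rw [show (fun _ : H => (1 : ℂ)) = fun h => (((fun _ => 1 : _ → ℤ) (π h) : ℤ) : ℂ) by simp,
      hip (fn k) (fun _ => 1), hz, Int.cast_mul, Int.cast_ofNat, mul_div_cancel_left₀ _ (by norm_num)] at h
    exact_mod_cast h
  set c : ℂ := (Nat.card G : ℂ) / (Nat.card H : ℂ) with hc
  have hpr : ∀ k (z : ℤ), S3Cube.pr (fn k) = z →
      linForm (fun χ : IrrCharacter G => pairInv χ.1) (V k) = c * z := by
    intro k z hz
    rw [linForm_apply, hVq, ← hz, S3Cube.pr, ← himgU, Finset.sum_map]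
    simp [pairInv, Finset.sum_map, map_mul, hc]
  have hc0 : c ≠ 0 := div_ne_zero Char.card_ne_zero Char.card_ne_zero
  obtain ⟨f, hf, hf'⟩ := three_pairs (d := fun χ : IrrCharacter G => (charDegree χ.1 : ℤ))
    (fun χ => by exact_mod_cast Char.charDegree_pos χ) (Char.trivialChar G)
    (by
      have : (charDegree (Char.trivialChar G).1 : ℂ) = 1 := by simp [Char.charDegree_cast]
      exact_mod_cast this)
    (fun χ => sumInv χ.1) (fun χ => pairInv χ.1)
    (fun χ => by
      rw [Int.cast_natCast, Char.charDegree_cast, mul_comm, apply_one_mul_pairInv χ.2])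
    (81 * c) (mul_ne_zero (by norm_num) hc0)
    (fun i => V (.inl i)) (fun i => V (.inr (.inl i))) (V (.inr (.inr 0))) (V (.inr (.inr 1)))
    (fun i j => hipV _ _ _ (S3Cube.ipAA i j))
    (fun i => hipV1 _ _ (S3Cube.ipA1 i))
    (hipV _ _ _ S3Cube.ipDD) (hipV1 _ _ S3Cube.ipD1) (fun i => hipV _ _ _ (S3Cube.ipAD i))
    (fun i => hipV _ _ _ (S3Cube.ipBB i)) (fun i => hipV1 _ 0 (S3Cube.ipB1 i))
    (fun i j => hipV _ _ _ (S3Cube.ipBA i j)) (fun i => hipV _ _ _ (S3Cube.ipBD i))
    (hipV _ _ _ S3Cube.ipPP) (hipV1 _ 0 S3Cube.ipP1) (fun i => hipV _ _ 0 (S3Cube.ipAP i))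
    (fun i => hipV _ _ 0 (S3Cube.ipBP i)) (hipV _ _ (-1) S3Cube.ipDP)
    (fun i => hVd _) (fun i => hVd _) (hVd _) (hVd _)
    (fun i => hVs _) (fun i => hVs _) (hVs _)
    (fun i => by rw [hpr (.inl i) _ (S3Cube.prA i)]; push_cast; ring)
    (fun i => by rw [hpr (.inr (.inl i)) _ (S3Cube.prB i)]; simp)
    (by rw [hpr (.inr (.inr 0)) _ S3Cube.prD]; push_cast; ring)
  have hlin : ∀ i, ∃ lam : G →* ℂ, ⇑lam = (f i).1 := fun i => by
    refine Char.IsCharacter.exists_monoidHom (Char.irr_isCharacter _) ?_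
    rw [← Char.charDegree_cast]
    exact_mod_cast (hf' i).2
  choose lam hlam using hlin
  rw [← Char.card_monoidHom_complex]
  have hinj : Function.Injective (fun o : Option (Fin 3) => o.elim (1 : G →* ℂ) lam) := by
    have h1 : ∀ i, lam i ≠ 1 := fun i h => (hf' i).1 (Subtype.ext (by rw [← hlam i, h]; rfl))
    rintro (_ | i) (_ | j) hij
    · rfl
    · exact absurd hij.symm (h1 j)
    · exact absurd hij (h1 i)
    · exact congrArg some (hf (Subtype.ext (by rw [← hlam i, ← hlam j]; exact congrArg DFunLike.coe hij)))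
  haveI : Finite (G →* ℂ) := Nat.finite_of_card_ne_zero (by
    rw [Char.card_monoidHom_complex]; exact Subgroup.index_ne_zero_of_finite)
  simpa using Nat.card_le_card_of_injective _ hinj

/-- Let H₀ ≤ Sym(9) be generated by the 3-cycles (1 2 3), (4 5 6), (7 8 9) and the involutions (1 2)(4 5), (1 2)(7 8) (a group of order 108, elementary abelian of order 27 extended by a four-group). Let G be a finite group with a subgroup H ≅ H₀, and T ≤ H of order 27 (a Sylow 3-subgroup of H) with N_G(T) = H and C_G(t) ≤ H for every t ≠ 1 in T. Then G = H. -/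
theorem result {G : Type*} [Group G] [Finite G] (H : Subgroup G)
    (hH : Nonempty (↥H ≃* ↥(Subgroup.closure ({Equiv.swap (0 : Fin 9) 1 * Equiv.swap 1 2, Equiv.swap (3 : Fin 9) 4 * Equiv.swap 4 5, Equiv.swap (6 : Fin 9) 7 * Equiv.swap 7 8,
        Equiv.swap (0 : Fin 9) 1 * Equiv.swap 3 4, Equiv.swap (0 : Fin 9) 1 * Equiv.swap 6 7} : Set (Equiv.Perm (Fin 9))))))
    (T : Subgroup G) (hTH : T ≤ H) (hT : Nat.card T = 27) (hN : Subgroup.normalizer (T : Set G) = H)
    (hC : ∀ t ∈ T, t ≠ 1 → Subgroup.centralizer ({t} : Set G) ≤ H) : H = ⊤ := by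
  classical
  obtain ⟨e₀⟩ := hH
  let e : H ≃* S3Cube.K := e₀.trans S3Cube.equivPerm.symm
  let π : H →* S3Cube.D × S3Cube.D × S3Cube.D := S3Cube.K.subtype.comp e.toMonoidHom
  have hπmem : ∀ h, π h ∈ S3Cube.K := fun h => (e h).2
  have hπinj : Function.Injective π := Subtype.val_injective.comp e.injective
  have hH108 : Nat.card H = 108 := by
    rw [Nat.card_congr e.toEquiv, Nat.card_eq_fintype_card, S3Cube.card_K]
  have hsix : ∀ x : G, x ∈ H → (x * x) * (x * x) * (x * x) = 1 := fun x hx => by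
    have h := S3Cube.pow_six _ (hπmem ⟨x, hx⟩)
    simp only [← map_mul] at h
    exact congrArg Subtype.val (hπinj (h.trans (map_one π).symm))
  haveI hTn : (T.subgroupOf H).Normal :=
    (Subgroup.normal_subgroupOf_iff_le_normalizer hTH).2 (hN ▸ le_rfl)
  -- the elements of `H` of order dividing three are those of `T`
  have hTmem : ∀ x : G, x ∈ T ↔ x ∈ H ∧ x * x * x = 1 := by
    intro x
    refine ⟨fun hx => ⟨hTH hx, ?_⟩, fun ⟨hx, hx3⟩ => ?_⟩
    · have h27 : x ^ 27 = 1 := by
        have := pow_card_eq_one' (x := (⟨x, hx⟩ : T))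
        rw [hT] at this
        exact congrArg Subtype.val this
      have h6 : x ^ 6 = 1 := by rw [← hsix x (hTH hx)]; simp only [pow_succ, pow_zero, one_mul, mul_assoc]
      calc x * x * x = x ^ 27 * ((x ^ 6) ^ 4)⁻¹ := by rw [← pow_three']; group
        _ = 1 := by rw [h27, h6]; group
    · have h4 : (T.subgroupOf H).index = 4 := by
        have := (T.subgroupOf H).card_mul_index
        rw [Nat.card_congr (Subgroup.subgroupOfEquivOfLe hTH).toEquiv, hT, hH108] at this
        omega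
      have h := Subgroup.pow_index_mem (T.subgroupOf H) (⟨x, hx⟩ : H)
      rw [h4, Subgroup.mem_subgroupOf, SubgroupClass.coe_pow] at h
      have : x = x ^ 4 := by
        calc x = (x * x * x) * x := by rw [hx3, one_mul]
          _ = x ^ 4 := by simp only [pow_succ, pow_zero, one_mul, mul_assoc]
      rw [this]
      exact h
  have hTc : ∀ x ∈ T, ∀ y ∈ T, x * y = y * x := by
    intro x hx y hy
    have key : π ⟨x, hTH hx⟩ * π ⟨y, hTH hy⟩ = π ⟨y, hTH hy⟩ * π ⟨x, hTH hx⟩ := by
      have h3 : ∀ z (hz : z ∈ T), π ⟨z, hTH hz⟩ * π ⟨z, hTH hz⟩ * π ⟨z, hTH hz⟩ = 1 := fun z hz => by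
        rw [← map_mul, ← map_mul]
        exact (congrArg π (Subtype.ext ((hTmem z).1 hz).2)).trans (map_one π)
      have a := h3 x hx
      have b := h3 y hy
      simp only [Prod.ext_iff, Prod.fst_mul, Prod.snd_mul, Prod.fst_one, Prod.snd_one] at a b ⊢
      exact ⟨S3Cube.comm_of_cube _ _ a.1 b.1, S3Cube.comm_of_cube _ _ a.2.1 b.2.1,
        S3Cube.comm_of_cube _ _ a.2.2 b.2.2⟩
    rw [← map_mul, ← map_mul] at key
    exact congrArg Subtype.val (hπinj key)
  -- an element conjugating a nontrivial element of `T` into `T` lies in `H`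
  have hctl : ∀ g t : G, t ∈ T → t ≠ 1 → g * t * g⁻¹ ∈ T → g ∈ H := by
    intro g t ht ht1 hgt
    have hle : T.map (MulAut.conj g).toMonoidHom ≤ T := by
      rintro - ⟨y, hy, rfl⟩
      show g * y * g⁻¹ ∈ T
      rw [hTmem]
      refine ⟨hC _ hgt (fun h => ht1 (conj_eq_one_iff.1 h)) (Subgroup.mem_centralizer_singleton_iff.2 ?_), ?_⟩
      · calc g * y * g⁻¹ * (g * t * g⁻¹) = g * (y * t) * g⁻¹ := by group
          _ = g * (t * y) * g⁻¹ := by rw [hTc y hy t ht]
          _ = _ := by group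
      · calc g * y * g⁻¹ * (g * y * g⁻¹) * (g * y * g⁻¹) = g * (y * y * y) * g⁻¹ := by group
          _ = 1 := by rw [((hTmem y).1 hy).2]; group
    rw [← hN, Subgroup.mem_normalizer_iff_map_conj_eq]
    exact Subgroup.eq_of_le_of_card_ge hle
      (by rw [Subgroup.card_map_of_injective (MulAut.conj g).injective])
  have hsqT : ∀ s : G, s ∈ H → s * s ∈ T := fun s hs => (hTmem _).2 ⟨mul_mem hs hs, hsix s hs⟩
  have hTI : ∀ g s : G, s ∈ H → s * s ≠ 1 → g⁻¹ * s * g ∈ H → g ∈ H := by
    intro g s hs hs1 hgs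
    refine inv_mem_iff.1 (hctl g⁻¹ (s * s) (hsqT s hs) hs1 ?_)
    have := hsqT _ hgs
    rwa [show g⁻¹ * s * g * (g⁻¹ * s * g) = g⁻¹ * (s * s) * g⁻¹⁻¹ by group] at this
  have hpair : ∀ u v : G, u * u = 1 → v * v = 1 → u * v ∈ H → u * v * (u * v) ≠ 1 → u ∈ H := by
    intro u v hu hv hd hd1
    refine hctl u (u * v * (u * v)) (hsqT _ hd) hd1 ?_
    have hui : u⁻¹ = u := inv_eq_of_mul_eq_one_right hu
    have hvi : v⁻¹ = v := inv_eq_of_mul_eq_one_right hv
    have : u * (u * v * (u * v)) * u⁻¹ = (u * v * (u * v))⁻¹ := by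
      simp only [mul_inv_rev, hui, hvi, mul_assoc]
      rw [← mul_assoc u u, hu, one_mul]
    rw [this]
    exact inv_mem (hsqT _ hd)
  have h4 := four_le_index_commutator H e hTI hpair
  set M := commutator G with hM
  haveI : Fact (Nat.Prime 3) := ⟨Nat.prime_three⟩
  have hTM : T ≤ M := by
    intro x hx
    obtain ⟨hxH, hx3⟩ := (hTmem x).1 hx
    have key := S3Cube.mem_commutator_of_cube _ (hπmem ⟨x, hxH⟩) (by
      rw [← map_mul, ← map_mul]
      exact (congrArg π (Subtype.ext hx3)).trans (map_one π))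
    have hw : ∀ w : S3Cube.D × S3Cube.D × S3Cube.D, w ∈ S3Cube.K → ∃ h : H, π h = w := fun w hw =>
      ⟨e.symm ⟨w, hw⟩, by
        show ((e (e.symm ⟨w, hw⟩) : S3Cube.K) : S3Cube.D × S3Cube.D × S3Cube.D) = w
        rw [e.apply_symm_apply]⟩
    obtain ⟨a, ha⟩ := hw (1, .sr 0, .sr 0) (show S3Cube.sgn3 _ = 1 from rfl)
    obtain ⟨b, hb⟩ := hw (.sr 0, 1, .sr 0) (show S3Cube.sgn3 _ = 1 from rfl)
    obtain ⟨c, hc⟩ := hw (.sr 0, .sr 0, 1) (show S3Cube.sgn3 _ = 1 from rfl)
    rw [← ha, ← hb, ← hc] at key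
    simp only [← map_inv, ← map_mul] at key
    have key' := congrArg Subtype.val (hπinj key)
    simp only [Subgroup.coe_mul, Subgroup.coe_inv] at key'
    rw [key']
    have hmem : ∀ y : G, x * y * x⁻¹ * y⁻¹ ∈ M := fun y =>
      Subgroup.commutator_mem_commutator (Subgroup.mem_top x) (Subgroup.mem_top y)
    exact mul_mem (mul_mem (hmem _) (hmem _)) (hmem _)
  -- `T` is a Sylow subgroup
  obtain ⟨P, hP⟩ : ∃ P : Sylow 3 G, (P : Subgroup G) = T := by
    have hTp : IsPGroup 3 T := IsPGroup.of_card (n := 3) hT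
    obtain ⟨P, hTP⟩ := hTp.exists_le_sylow
    refine ⟨P, ?_⟩
    by_contra hne
    have hlt : T.subgroupOf (P : Subgroup G) < ⊤ := by
      rw [lt_top_iff_ne_top]
      exact fun h => hne (le_antisymm (Subgroup.subgroupOf_eq_top.1 h) hTP)
    haveI := P.2.isNilpotent
    obtain ⟨x, hx, hxT⟩ := SetLike.exists_of_lt (Group.normalizerCondition_of_isNilpotent _ hlt)
    have hxn : (x : G) ∈ Subgroup.normalizer (T : Set G) := by
      refine Subgroup.mem_normalizer_iff.2 fun y => ⟨fun hy => ?_, fun hy => ?_⟩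
      · exact (Subgroup.mem_normalizer_iff.1 hx ⟨y, hTP hy⟩).1 hy
      · have hyP : y ∈ (P : Subgroup G) := by
          have := mul_mem (mul_mem (inv_mem x.2) (hTP hy)) x.2
          simpa [mul_assoc] using this
        exact (Subgroup.mem_normalizer_iff.1 hx ⟨y, hyP⟩).2 hy
    rw [hN] at hxn
    apply hxT
    rw [Subgroup.mem_subgroupOf, hTmem]
    refine ⟨hxn, ?_⟩
    obtain ⟨k, hk⟩ := P.2 x
    have h3 : orderOf (x : G) ∣ 3 ^ k := orderOf_dvd_of_pow_eq_one (congrArg Subtype.val hk)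
    have h6 : orderOf (x : G) ∣ 6 := orderOf_dvd_of_pow_eq_one (by rw [← hsix _ hxn]; simp only [pow_succ, pow_zero, one_mul, mul_assoc])
    have h2 : orderOf (x : G) ∣ 3 := by
      have hc : (orderOf (x : G)).Coprime 2 :=
        Nat.Coprime.coprime_dvd_left h3 (Nat.Coprime.pow_left k (by norm_num))
      exact hc.dvd_of_dvd_mul_left (show orderOf (x : G) ∣ 2 * 3 from h6)
    rw [← pow_three']
    exact orderOf_dvd_iff_pow_eq_one.1 h2
  -- `H ∩ M = T`
  have hsup : H ⊔ M = ⊤ := by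
    have h := Sylow.normalizer_sup_eq_top' (N := M) P (hP ▸ hTM)
    rwa [show Subgroup.normalizer ((P : Sylow 3 G) : Set G) = H by
      rw [← hN, ← hP]; rfl] at h
  have hHM : H ⊓ M = T := by
    refine (Subgroup.eq_of_le_of_card_ge (le_inf hTH hTM) ?_).symm
    have hidx : M.index = M.relIndex H := by
      rw [← Subgroup.relIndex_top_right, ← hsup, Subgroup.relIndex_sup_right]
    have hmul : Nat.card (H ⊓ M : Subgroup G) * M.index = 108 := by
      rw [hidx, ← Subgroup.inf_relIndex_left H M, ← hH108, ← Subgroup.relIndex_bot_left H,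
        ← Subgroup.relIndex_mul_relIndex ⊥ (H ⊓ M) H bot_le inf_le_left, Subgroup.relIndex_bot_left]
    rw [hT]
    nlinarith
  -- Burnside
  have hTMP : ((P.subtype (hP ▸ hTM) : Sylow 3 M) : Subgroup M) = T.subgroupOf M := by
    rw [Sylow.coe_subtype, hP]
  set PM : Sylow 3 M := P.subtype (hP ▸ hTM)
  have hburn : Subgroup.normalizer ((PM : Subgroup M) : Set M) ≤
      Subgroup.centralizer ((PM : Subgroup M) : Set M) := by
    rw [hTMP]
    intro m hm
    have hmT : (m : G) ∈ T := by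
      rw [← hHM]
      refine ⟨?_, m.2⟩
      rw [← hN]
      refine Subgroup.mem_normalizer_iff.2 fun y => ⟨fun hy => ?_, fun hy => ?_⟩
      · exact (Subgroup.mem_normalizer_iff.1 hm ⟨y, hTM hy⟩).1 hy
      · have hyM : y ∈ M := by
          have := mul_mem (mul_mem (inv_mem m.2) (hTM hy)) m.2
          simpa [mul_assoc] using this
        exact (Subgroup.mem_normalizer_iff.1 hm ⟨y, hyM⟩).2 hy
    exact fun y hy => Subtype.ext (hTc _ hy _ hmT)
  set K := (MonoidHom.transferSylow PM hburn).ker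
  have hK3 : ¬ 3 ∣ Nat.card K := MonoidHom.not_dvd_card_ker_transferSylow PM hburn
  have hcompl := MonoidHom.ker_transferSylow_isComplement' PM hburn
  haveI : IsMulCommutative T := ⟨⟨fun a b => Subtype.ext (hTc _ a.2 _ b.2)⟩⟩
  have hKbot : K = ⊥ := by
    set K' := K.map M.subtype with hK'
    have hK'3 : ¬ 3 ∣ Nat.card K' := by rwa [hK', Subgroup.card_map_of_injective M.subtype_injective]
    have hTK : T ≤ Subgroup.normalizer (K' : Set G) := by
      refine le_trans ?_ (Subgroup.le_normalizer_map (H := K) M.subtype)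
      rw [Subgroup.normalizer_eq_top_iff.2 (inferInstance : K.Normal)]
      intro t ht
      exact ⟨⟨t, hTM ht⟩, Subgroup.mem_top _, rfl⟩
    have hcop : (Nat.card T).Coprime (Nat.card K') := by
      rw [hT, show 27 = 3 ^ 3 by rfl]
      exact ((Nat.Prime.coprime_iff_not_dvd Nat.prime_three).2 hK'3).pow_left 3
    have hnc : ¬ IsCyclic T := by
      intro hcy
      obtain ⟨t, ht⟩ := hcy.exists_ofOrder_eq_natCard
      have : orderOf t ∣ 3 := orderOf_dvd_of_pow_eq_one (Subtype.ext (by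
        rw [SubgroupClass.coe_pow, pow_three']; exact ((hTmem _).1 t.2).2))
      rw [ht, hT] at this
      exact absurd (Nat.le_of_dvd (by norm_num) this) (by norm_num)
    have hbot : (⊥ : Subgroup G) = K' := Coprime.eq_of_forall_centralizer_le hnc hTK hcop bot_le
      fun a ha ha1 => by
        rw [← Subgroup.inf_eq_bot_of_coprime hcop]
        refine le_inf ?_ inf_le_left
        refine le_trans (le_inf (inf_le_right.trans (hC a ha ha1))
          (inf_le_left.trans (Subgroup.map_subtype_le K))) hHM.le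
    exact (Subgroup.map_eq_bot_iff_of_injective _ M.subtype_injective).1 hbot.symm
  rw [show (MonoidHom.transferSylow PM hburn).ker = ⊥ from hKbot, Subgroup.isComplement'_bot_left, hTMP, Subgroup.subgroupOf_eq_top] at hcompl
  have hMT : M = T := le_antisymm hcompl hTM
  haveI : T.Normal := hMT ▸ (inferInstance : (commutator G).Normal)
  rw [← hN, Subgroup.normalizer_eq_top_iff]
  infer_instance

end Cfsg.Agent.S3701
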