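import Cfsg.Statements.S3716
import Cfsg.Agent.Lib.Exceptional.Wreath2Local
import Cfsg.Agent.Lib.Exceptional.Wreath2Core
import Cfsg.Agent.Lib.Exceptional.ClassPairs
import Cfsg.Agent.Lib.Char.Linear

set_option autoImplicit false
open Cfsg

namespace Cfsg.Agent.S3716

open Cfsg.Agent.Exceptional

universe u

theorem dihedral_gen : ∀ x : DihedralGroup 4,
    x ∈ Subgroup.closure ({DihedralGroup.sr 0, DihedralGroup.sr 1} : Set (DihedralGroup 4)) := by
  have h0 : (DihedralGroup.sr 0 : DihedralGroup 4) ∈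
      Subgroup.closure ({DihedralGroup.sr 0, DihedralGroup.sr 1} : Set (DihedralGroup 4)) :=
    Subgroup.subset_closure (by simp)
  have h1 : (DihedralGroup.sr 1 : DihedralGroup 4) ∈
      Subgroup.closure ({DihedralGroup.sr 0, DihedralGroup.sr 1} : Set (DihedralGroup 4)) :=
    Subgroup.subset_closure (by simp)
  have key : ∀ x : DihedralGroup 4, ∃ k : Fin 4,
      x = (DihedralGroup.sr 0 * DihedralGroup.sr 1) ^ k.val ∨
        x = DihedralGroup.sr 0 * (DihedralGroup.sr 0 * DihedralGroup.sr 1) ^ k.val := by decide +kernel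
  intro x
  obtain ⟨k, rfl | rfl⟩ := key x
  · exact pow_mem (mul_mem h0 h1) _
  · exact mul_mem h0 (pow_mem (mul_mem h0 h1) _)

variable {G : Type u} [Group G] [Finite G]

/-- An element fixed by `a` and one fixed by `b` that are not conjugate in `N` separate the classes. -/
theorem not_isConj {N M : Subgroup G} (a b e e' : G) (heM : e ∈ M)
    (hord : orderOf e = 3) (hord' : orderOf e' = 3) (hMe : ∀ m ∈ M, Commute m e)
    (hctl : ∀ h : G, h * e * h⁻¹ ∈ M → h ∈ N)
    (he'M : e' ∈ M) (hea : Commute e a) (he'b : Commute e' b)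
    (hcent : ∀ (x : G) (y : G), (x = a ∧ y = e ∨ x = b ∧ y = e') →
      ¬ 9 ∣ Nat.card ↥(Subgroup.centralizer ({x, y} : Set G)))
    (hnf : ∀ h ∈ N, h * e * h⁻¹ ≠ e' ∧ h * e * h⁻¹ ≠ e'⁻¹) : ¬ IsConj a b := by
  classical
  haveI := Fact.mk Nat.prime_three
  intro hab
  obtain ⟨g, hg⟩ := isConj_iff.1 hab
  set C := Subgroup.centralizer ({b} : Set G) with hC
  -- the subgroup generated by `e'` is a Sylow subgroup of the centraliser of `b`
  have h9 : ¬ 9 ∣ Nat.card C := by
    intro h
    let Z : Subgroup C := Subgroup.zpowers ⟨e', Subgroup.mem_centralizer_singleton_iff.2 he'b⟩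
    have hZ : Nat.card Z = 3 ^ 1 := by
      rw [Nat.card_zpowers, ← Subgroup.orderOf_coe, pow_one]
      exact hord'
    obtain ⟨K, hK, hZK⟩ := Sylow.exists_subgroup_card_pow_succ (p := 3) (n := 1)
      (by rw [show (3 : ℕ) ^ (1 + 1) = 9 by norm_num]; exact h) hZ
    have hK2 : Nat.card K = 3 ^ 2 := hK
    have hKc : ∀ x ∈ K, ∀ y ∈ K, x * y = y * x := fun x hx y hy => by
      have h := IsPGroup.commutative_of_card_eq_prime_sq hK2 ⟨x, hx⟩ ⟨y, hy⟩
      exact congrArg Subtype.val h
    refine hcent b e' (Or.inr ⟨rfl, rfl⟩) ?_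
    have hle : K.map C.subtype ≤ Subgroup.centralizer ({b, e'} : Set G) := by
      rintro - ⟨x, hx, rfl⟩
      rw [Subgroup.mem_centralizer_iff]
      rintro y (rfl | rfl)
      · exact (Subgroup.mem_centralizer_singleton_iff.1 x.2).symm
      · exact congrArg Subtype.val (hKc _ (hZK (Subgroup.mem_zpowers _)) x hx)
    have := Subgroup.card_dvd_of_le hle
    rwa [Subgroup.card_map_of_injective C.subtype_injective, hK2] at this
  have he1 : (⟨g * e * g⁻¹, Subgroup.mem_centralizer_singleton_iff.2 (by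
      rw [← hg]
      show Commute (g * e * g⁻¹) (g * a * g⁻¹)
      exact hea.conj _)⟩ : C) ^ 3 = 1 := Subtype.ext (by
        show (g * e * g⁻¹) ^ 3 = 1
        rw [conj_pow, orderOf_dvd_iff_pow_eq_one.1 (dvd_of_eq hord), mul_one, mul_inv_cancel])
  let Q : Subgroup C := Subgroup.zpowers ⟨e', Subgroup.mem_centralizer_singleton_iff.2 he'b⟩
  have hQ : Nat.card Q = 3 := by
    rw [Nat.card_zpowers, ← Subgroup.orderOf_coe]
    exact hord'
  have hQp : IsPGroup 3 Q := IsPGroup.of_card (n := 1) (by rw [hQ, pow_one])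
  obtain ⟨S, hS⟩ := hQp.exists_le_sylow
  have hSQ : (S : Subgroup C) = Q := by
    refine (Subgroup.eq_of_le_of_card_ge hS ?_).symm
    rw [hQ]
    obtain ⟨n, hn⟩ := IsPGroup.iff_card.1 S.isPGroup'
    rcases Nat.lt_or_ge n 2 with hn2 | hn2
    · rw [hn]; exact le_trans (Nat.pow_le_pow_right (by norm_num) (by omega : n ≤ 1)) (le_of_eq (pow_one 3))
    · exfalso
      refine h9 ((pow_dvd_pow 3 hn2).trans ?_)
      rw [← hn]
      exact Subgroup.card_subgroup_dvd_card _
  let x : C := ⟨g * e * g⁻¹, Subgroup.mem_centralizer_singleton_iff.2 (by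
      rw [← hg]
      show Commute (g * e * g⁻¹) (g * a * g⁻¹)
      exact hea.conj _)⟩
  have hx3 : x ^ 3 = 1 := he1
  have hxp : IsPGroup 3 (Subgroup.zpowers x) := by
    obtain ⟨k, -, hk⟩ := (Nat.dvd_prime_pow Nat.prime_three).1
      (show orderOf x ∣ 3 ^ 1 by rw [pow_one]; exact orderOf_dvd_of_pow_eq_one hx3)
    exact IsPGroup.of_card (n := k) (by rw [Nat.card_zpowers, hk])
  obtain ⟨S', hS'⟩ := hxp.exists_le_sylow
  obtain ⟨c, hc⟩ := MulAction.exists_smul_eq C S' S
  have hmem : c * x * c⁻¹ ∈ Q := by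
    rw [← hSQ, ← hc, Sylow.coe_subgroup_smul]
    exact ⟨x, hS' (Subgroup.mem_zpowers x), rfl⟩
  obtain ⟨k, hk⟩ := Subgroup.mem_zpowers_iff.1 hmem
  have hk' : (c : G) * (g * e * g⁻¹) * (c : G)⁻¹ = e' ^ k := by
    have := congrArg Subtype.val hk
    simpa using this.symm
  have heq : ((c : G) * g) * e * ((c : G) * g)⁻¹ = e' ^ k := by rw [← hk']; group
  have hN : (c : G) * g ∈ N := hctl _ (by rw [heq]; exact zpow_mem he'M k)
  have := hnf _ hN
  rw [heq, ← zpow_mod_orderOf, hord'] at this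
  have hk3 : k % 3 = 0 ∨ k % 3 = 1 ∨ k % 3 = 2 := by omega
  rcases hk3 with h | h | h
  · have he : e = 1 := by
      rw [← zpow_mod_orderOf, hord', Nat.cast_ofNat, h, zpow_zero] at heq
      exact conj_eq_one_iff.1 heq
    rw [he, orderOf_one] at hord
    norm_num at hord
  · rw [Nat.cast_ofNat, h, zpow_one] at this
    exact this.1 rfl
  · rw [Nat.cast_ofNat, h] at this
    refine this.2 (eq_inv_of_mul_eq_one_left ?_)
    rw [← zpow_add_one]
    exact (zpow_natCast e' 3).trans (orderOf_dvd_iff_pow_eq_one.1 (dvd_of_eq hord'))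

theorem card_cent_lt {N : Subgroup G} (e : Wreath2.W ≃* N) (a b : Wreath2.W)
    (hle : Subgroup.centralizer ({(e a : G), (e b : G)} : Set G) ≤ N)
    (h6 : (Finset.univ.filter fun g : Wreath2.W => g * b = b * g ∧ g * a = a * g).card = 6) :
    ¬ 9 ∣ Nat.card ↥(Subgroup.centralizer ({(e a : G), (e b : G)} : Set G)) := by
  classical
  have h : Nat.card ↥(Subgroup.centralizer ({(e a : G), (e b : G)} : Set G)) = 6 := by
    rw [← h6, ← Nat.card_eq_finsetCard]
    refine Nat.card_congr
      { toFun := fun x => ⟨e.symm ⟨x.1, hle x.2⟩, ?_⟩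
        invFun := fun g => ⟨(e g.1 : G), ?_⟩
        left_inv := fun x => by simp
        right_inv := fun g => by simp }
    · have hx := Subgroup.mem_centralizer_iff.1 x.2
      rw [Finset.mem_filter]
      refine ⟨Finset.mem_univ _, ?_, ?_⟩ <;> apply e.injective <;>
        rw [map_mul, map_mul, e.apply_symm_apply] <;> apply Subtype.ext
      · exact (hx _ (by simp)).symm
      · exact (hx _ (by simp)).symm
    · have hg := (Finset.mem_filter.1 g.2).2
      rw [Subgroup.mem_centralizer_iff]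
      rintro y (rfl | rfl)
      · exact congrArg Subtype.val (show e a * e g.1 = e g.1 * e a by rw [← map_mul, ← map_mul, hg.2])
      · exact congrArg Subtype.val (show e b * e g.1 = e g.1 * e b by rw [← map_mul, ← map_mul, hg.1])
  rw [h]
  norm_num

theorem exists_linear {M N : Subgroup G}
    (hM9 : Nat.card M = 9) (hMel : ∀ m ∈ M, m ^ 3 = 1)
    (hCM : Subgroup.centralizer (M : Set G) = M)
    (hN : N = Subgroup.normalizer (M : Set G)) (hN72 : Nat.card N = 72)
    (hMN8 : ∀ g ∈ N, g ^ 8 ∈ M)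
    (hCg : ∀ g ∈ M, g ≠ 1 → Subgroup.centralizer ({g} : Set G) ≤ N)
    (P : Subgroup G) (hP : Nat.card P = 8) {a b : G} (haN : a ∈ N) (hbN : b ∈ N)
    (hPgen : P ≤ Subgroup.closure {a, b}) (haP : a ∈ P) (hbP : b ∈ P) (ha : a * a = 1) (hb : b * b = 1)
    (h4 : a * b * (a * b) * (a * b * (a * b)) = 1) (h2 : a * b * (a * b) ≠ 1) :
    ∃ lam : G →* ℂ, lam ≠ 1 := by
  classical
  haveI := Fintype.ofFinite G
  haveI := Fintype.ofFinite N
  have hMc : ∀ x ∈ M, ∀ y ∈ M, x * y = y * x := fun x hx y hy => by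
    rw [← hCM] at hy
    exact Subgroup.mem_centralizer_iff.1 hy x hx
  have hctl : ∀ g t : G, t ∈ M → t ≠ 1 → g * t * g⁻¹ ∈ M → g ∈ N := by
    intro g t ht ht1 hgt
    have hle : M.map (MulAut.conj g).toMonoidHom ≤ M := by
      rintro - ⟨y, hy, rfl⟩
      show g * y * g⁻¹ ∈ M
      have hyN : g * y * g⁻¹ ∈ N := hCg _ hgt (fun h => ht1 (conj_eq_one_iff.1 h))
        (Subgroup.mem_centralizer_singleton_iff.2 (by
          calc g * y * g⁻¹ * (g * t * g⁻¹) = g * (y * t) * g⁻¹ := by group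
            _ = g * (t * y) * g⁻¹ := by rw [hMc y hy t ht]
            _ = _ := by group))
      have h8 := hMN8 _ hyN
      have : g * y * g⁻¹ = ((g * y * g⁻¹) ^ 8) ^ 2 := by
        have h3 : (g * y * g⁻¹) ^ 3 = 1 := by rw [conj_pow, hMel y hy, mul_one, mul_inv_cancel]
        calc g * y * g⁻¹ = ((g * y * g⁻¹) ^ 3) ^ 5 * (g * y * g⁻¹) := by rw [h3, one_pow, one_mul]
          _ = _ := by rw [← pow_mul, ← pow_mul, ← pow_succ]
      rw [this]
      exact pow_mem h8 2
    rw [hN, Subgroup.mem_normalizer_iff_map_conj_eq]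
    exact Subgroup.eq_of_le_of_card_ge hle
      (by rw [Subgroup.card_map_of_injective (MulAut.conj g).injective])
  -- the classes of the two generators differ
  have hnc : ∀ e : Wreath2.W ≃* N, ¬ IsConj (e Wreath2.s : G) (e Wreath2.t : G) := by
    intro e
    have hm : ∀ w : Wreath2.W, w ^ 3 = 1 → (e w : G) ∈ M := fun w hw => by
      have h := hMN8 _ (e (w * w)).2
      rw [← SubgroupClass.coe_pow, ← map_pow, show (w * w) ^ 8 = w by
        calc (w * w) ^ 8 = (w ^ 3) ^ 5 * w := by rw [← sq, ← pow_mul, ← pow_mul, ← pow_succ]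
          _ = w := by rw [hw, one_pow, one_mul]] at h
      exact h
    have hord : ∀ w : Wreath2.W, w ^ 3 = 1 → w ≠ 1 → orderOf (e w : G) = 3 := fun w hw hw1 =>
      orderOf_eq_prime (hMel _ (hm w hw)) (by
        intro h
        exact hw1 (e.injective ((Subtype.ext h).trans (map_one e).symm)))
    have hne : ∀ w : Wreath2.W, w ^ 3 = 1 → w ≠ 1 → (e w : G) ≠ 1 := fun w hw hw1 h => by
      have := hord w hw hw1
      rw [h, orderOf_one] at this
      norm_num at this
    have com : ∀ v w : Wreath2.W, v * w = w * v → Commute (e v : G) (e w : G) := fun v w h =>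
      congrArg Subtype.val (show e v * e w = e w * e v by rw [← map_mul, ← map_mul, h])
    have he2 : (Wreath2.e₂ ^ 3 = 1 ∧ Wreath2.e₂ ≠ 1) ∧ (Wreath2.e₃ ^ 3 = 1 ∧ Wreath2.e₃ ≠ 1) := by
      decide
    refine not_isConj (N := N) (M := M) _ _ (e Wreath2.e₂ : G) (e Wreath2.e₃ : G) (hm _ he2.1.1)
      (hord _ he2.1.1 he2.1.2) (hord _ he2.2.1 he2.2.2)
      (fun m hm' => hMc m hm' _ (hm _ he2.1.1))
      (fun h hh => hctl h _ (hm _ he2.1.1) (hne _ he2.1.1 he2.1.2) hh) (hm _ he2.2.1)
      (com _ _ (by decide)) (com _ _ (by decide)) ?_ ?_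
    · rintro x y (⟨rfl, rfl⟩ | ⟨rfl, rfl⟩)
      · refine card_cent_lt e _ _ ((Subgroup.centralizer_le (by simp)).trans
          (hCg _ (hm _ he2.1.1) (hne _ he2.1.1 he2.1.2))) ?_
        exact Wreath2.card_cent_s
      · refine card_cent_lt e _ _ ((Subgroup.centralizer_le (by simp)).trans
          (hCg _ (hm _ he2.2.1) (hne _ he2.2.1 he2.2.2))) ?_
        exact Wreath2.card_cent_t
    · intro h hh
      obtain ⟨w, hw⟩ := e.surjective ⟨h, hh⟩
      have hwh : (e w : G) = h := congrArg Subtype.val hw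
      subst hwh
      refine ⟨fun h' => (Wreath2.not_fused w).1 (e.injective (Subtype.ext ?_)),
        fun h' => (Wreath2.not_fused w).2 (e.injective (Subtype.ext ?_))⟩ <;> simpa using h'
  -- choose the identification with `z` not conjugate to the interchange
  obtain ⟨e, hzt⟩ : ∃ e : Wreath2.W ≃* N, ¬ IsConj (e Wreath2.z : G) (e Wreath2.t : G) := by
    obtain ⟨e₁, h1a, h1b, h1z⟩ :=
      Wreath2.model_of_pair M N hM9 hMel hCM hN hN72 P hP haN hbN hPgen haP hbP ha hb h4 h2
    by_cases hzb : IsConj (e₁ Wreath2.z : G) (e₁ Wreath2.t : G)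
    swap
    · exact ⟨e₁, hzb⟩
    have hai : a⁻¹ = a := inv_eq_of_mul_eq_one_right ha
    have hbi : b⁻¹ = b := inv_eq_of_mul_eq_one_right hb
    have hswap : b * a * (b * a) = a * b * (a * b) := by
      calc b * a * (b * a) = (a * b * (a * b))⁻¹ := by simp only [mul_inv_rev, hai, hbi, mul_assoc]
        _ = a * b * (a * b) := inv_eq_of_mul_eq_one_left h4
    obtain ⟨e₂, -, h2b, h2z⟩ :=
      Wreath2.model_of_pair M N hM9 hMel hCM hN hN72 P hP hbN haN (by rwa [Set.pair_comm]) hbP haP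
        hb ha (by rw [hswap]; exact h4) (by rw [hswap]; exact h2)
    refine ⟨e₂, fun hza => hnc e₁ ?_⟩
    rw [h1a, h1b]
    rw [h1z, h1b] at hzb
    rw [h2z, h2b, hswap] at hza
    exact hza.symm.trans hzb
  have hst := hnc e
  -- the two sets of involutions
  set A : Finset G := classFinset (e Wreath2.z : G) ∪ classFinset (e Wreath2.s : G) with hA
  set B : Finset G := classFinset (e Wreath2.t : G) with hB
  have hinv : ∀ w : Wreath2.W, w * w = 1 → (e w : G) * (e w : G) = 1 := fun w hw =>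
    congrArg Subtype.val (show e w * e w = 1 by rw [← map_mul, hw, map_one])
  have hA' : IsConjInv A := fun x g hg => by
    rcases Finset.mem_union.1 hg with h | h
    · exact Finset.mem_union_left _ (isConjInv_classFinset _ x g h)
    · exact Finset.mem_union_right _ (isConjInv_classFinset _ x g h)
  have hB' : IsConjInv B := isConjInv_classFinset _
  have hA2 : ∀ g ∈ A, g * g = 1 := fun g hg => by
    rcases Finset.mem_union.1 hg with h | h
    · exact classFinset_sq (hinv _ (by decide)) g h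
    · exact classFinset_sq (hinv _ (by decide)) g h
  have hB2 : ∀ g ∈ B, g * g = 1 := classFinset_sq (hinv _ (by decide))
  have hconjN : ∀ x w : Wreath2.W, IsConj (e w : G) (e (x * w * x⁻¹) : G) := fun x w =>
    isConj_iff.2 ⟨(e x : G), by simp⟩
  have hcaseA : ∀ w ∈ Wreath2.WA, (e w : G) ∈ A := fun w hw => by
    rcases Wreath2.mem_WA hw with ⟨x, rfl⟩ | ⟨x, rfl⟩
    · exact Finset.mem_union_left _ (mem_classFinset.2 (hconjN x _))
    · exact Finset.mem_union_right _ (mem_classFinset.2 (hconjN x _))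
  have hcaseB : ∀ w ∈ Wreath2.WB, (e w : G) ∈ B := fun w hw => by
    obtain ⟨x, rfl⟩ := Wreath2.mem_WB hw
    exact mem_classFinset.2 (hconjN x _)
  have hAB : ∀ g, g ∈ A → g ∈ B → False := fun g h h' => by
    have h2' := mem_classFinset.1 h'
    rcases Finset.mem_union.1 h with h | h
    · exact hzt ((mem_classFinset.1 h).trans h2'.symm)
    · exact hst ((mem_classFinset.1 h).trans h2'.symm)
  have hdich : ∀ w : Wreath2.W, (e w : G) * (e w : G) = 1 → (e w : G) ≠ 1 →
      w ∈ Wreath2.WA ∨ w ∈ Wreath2.WB := fun w h h1 =>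
    Wreath2.invol_cases (e.injective (Subtype.ext (by simpa using h)))
      (fun hw => h1 (by rw [hw, map_one]; rfl))
  have hAne : ∀ g ∈ A, g ≠ 1 := fun g hg h => by
    subst h
    have h0 : ∀ w : Wreath2.W, w ≠ 1 → ¬ IsConj (e w : G) 1 := fun w hw h => by
      rw [isConj_one_left] at h
      exact hw (e.injective ((Subtype.ext h).trans (map_one e).symm))
    rcases Finset.mem_union.1 hg with h | h
    · exact h0 _ (by decide) (mem_classFinset.1 h)
    · exact h0 _ (by decide) (mem_classFinset.1 h)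
  have hBne : ∀ g ∈ B, g ≠ 1 := fun g hg h => by
    subst h
    have h := mem_classFinset.1 hg
    rw [isConj_one_left] at h
    exact absurd (e.injective ((Subtype.ext h).trans (map_one e).symm)) (by decide : Wreath2.t ≠ 1)
  have himgA : inSub N A = Wreath2.WA.map e.toEquiv.toEmbedding := by
    ext h
    rw [mem_inSub, Finset.mem_map_equiv]
    constructor
    · intro hh
      have hh' : (e (e.symm h) : G) ∈ A := by rwa [e.apply_symm_apply]
      rcases hdich _ (hA2 _ hh') (hAne _ hh') with h' | h'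
      · exact h'
      · exact absurd (hcaseB _ h') (hAB _ hh')
    · intro hh
      have := hcaseA _ hh
      rwa [show e (e.toEquiv.symm h) = h from e.apply_symm_apply h] at this
  have himgB : inSub N B = Wreath2.WB.map e.toEquiv.toEmbedding := by
    ext h
    rw [mem_inSub, Finset.mem_map_equiv]
    constructor
    · intro hh
      have hh' : (e (e.symm h) : G) ∈ B := by rwa [e.apply_symm_apply]
      rcases hdich _ (hB2 _ hh') (hBne _ hh') with h' | h'
      · exact absurd hh' (hAB _ (hcaseA _ h'))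
      · exact h'
    · intro hh
      have := hcaseB _ hh
      rwa [show e (e.toEquiv.symm h) = h from e.apply_symm_apply h] at this
  -- the virtual characters
  let α : Fin 4 → N → ℂ := fun k h => (Wreath2.vec k (e.symm h) : ℂ)
  have hgen : ∀ k, IsGeneralizedCharacter N (α k) := fun k =>
    Char.IsGeneralizedCharacter.comp (Wreath2.isGen_vec.1 k) e.symm.toMonoidHom
  let S : Set G := {g | g ∈ N ∧ g ^ 8 ≠ 1}
  have hS1 : (1 : G) ∉ S := fun h => h.2 (one_pow 8)
  have hS2 : ∀ g ∈ S, g * g ≠ 1 := fun g hg h => hg.2 (by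
    rw [show 8 = 2 * 4 from rfl, pow_mul, sq, h, one_pow])
  have hTI : ∀ g : G, ∀ x ∈ S, g⁻¹ * x * g ∈ S → g ∈ N := fun g x hx hgx =>
    inv_mem_iff.1 (hctl g⁻¹ _ (hMN8 x hx.1) hx.2 (by
      have := hMN8 _ hgx.1
      rwa [show (g⁻¹ * x * g) ^ 8 = g⁻¹ * x ^ 8 * g⁻¹⁻¹ by rw [← conj_pow, inv_inv]] at this))
  have hpair : ∀ u v : G, u * u = 1 → v * v = 1 → u * v ∈ N → u * v ∈ S → u ∈ N := by
    intro u v hu hv hd hdS
    refine hctl u _ (hMN8 _ hd) hdS.2 ?_
    have hui : u⁻¹ = u := inv_eq_of_mul_eq_one_right hu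
    have hvi : v⁻¹ = v := inv_eq_of_mul_eq_one_right hv
    rw [← conj_pow, show u * (u * v) * u⁻¹ = (u * v)⁻¹ by
      rw [mul_inv_rev, hui, hvi, ← mul_assoc, hu, one_mul], inv_pow]
    exact inv_mem (hMN8 _ hd)
  have hα : ∀ k, ∀ h : N, (h : G) ∉ S → α k h = 0 := by
    intro k h hh
    have h8 : (h : G) ^ 8 = 1 := by
      by_contra h'
      exact hh ⟨h.2, h'⟩
    show (Wreath2.vec k (e.symm h) : ℂ) = 0
    rw [Wreath2.vec_vanish k _ (by
      rw [Wreath2.pow8_eq, ← map_pow, show h ^ 8 = 1 from Subtype.ext h8, map_one]), Int.cast_zero]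
  have hpo : ∀ (X Y : Finset Wreath2.W) k,
      pairOn (X.map e.toEquiv.toEmbedding) (Y.map e.toEquiv.toEmbedding) (α k) =
        ((∑ x ∈ X, ∑ y ∈ Y, Wreath2.vec k (x * y) : ℤ) : ℂ) := by
    intro X Y k
    simp [pairOn, α, Finset.sum_map]
  obtain ⟨V, p, q, hp0, hq0, hV, hVV, hV1, hVd, hlin, hquad⟩ := exists_points A B hA' hB' hA2 hB2
    hS1 hS2 hTI hpair α hgen hα ![396, 576, 252, 180] ![108, 0, 108, 108] ![36, 72, -36, 36]
    (fun k => by rw [himgA, hpo, Wreath2.vec_AA])
    (fun k => by rw [himgA, himgB, hpo, Wreath2.vec_AB])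
    (fun k => by rw [himgB, hpo, Wreath2.vec_BB])
  have hcard : (Nat.card N : ℂ) = 72 := by rw [hN72]; norm_num
  have hip : ∀ f f' : Wreath2.W → ℤ,
      classInner (fun h : N => (f (e.symm h) : ℂ)) (fun h => (f' (e.symm h) : ℂ)) =
        ((∑ w, f w * f' w : ℤ) : ℂ) / 72 := by
    intro f f'
    rw [classInner, hcard, div_eq_inv_mul, Int.cast_sum,
      ← e.toEquiv.sum_comp (fun h => (f (e.symm h) : ℂ) * (starRingEnd ℂ) (f' (e.symm h) : ℂ))]
    simp
  have hG : ∀ k l, V k ⬝ᵥ V l = Wreath2.gram k l := by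
    intro k l
    have h := (hVV k l).trans (hip (Wreath2.vec k) (Wreath2.vec l))
    rw [Wreath2.vec_gram, Int.cast_mul, Int.cast_ofNat, mul_div_cancel_left₀ _ (by norm_num)] at h
    exact_mod_cast h
  have hbase : ∀ k, V k (Char.trivialChar G) = 1 := by
    intro k
    have h := hV1 k
    rw [show (fun _ : N => (1 : ℂ)) = fun h => (((fun _ => 1 : Wreath2.W → ℤ) (e.symm h) : ℤ) : ℂ) by
      simp, hip (Wreath2.vec k) (fun _ => 1)] at h
    simp only [mul_one, Wreath2.vec_sum] at h
    norm_num at h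
    exact_mod_cast h
  let d : IrrCharacter G → ℤ := fun χ => (charDegree χ.1 : ℤ)
  have hd : ∀ χ, 0 < d χ := fun χ => Int.natCast_pos.2 (Char.charDegree_pos χ)
  have hd0 : d (Char.trivialChar G) = 1 := by
    have : (charDegree (Char.trivialChar G).1 : ℂ) = 1 := by simp [Char.charDegree_cast]
    show ((charDegree (Char.trivialChar G).1 : ℕ) : ℤ) = 1
    exact_mod_cast this
  -- the congruence
  have hcong : ∀ χ, (9 : ℤ) ∣ d χ + 8 * V 0 χ + 8 * V 1 χ - 4 * V 2 χ - 4 * V 3 χ := by
    intro χ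
    have hVi : ∀ k, (V k χ : ℂ) = classInner (α k) (fun h : N => χ.1 h) := by
      intro k
      rw [← Char.classInner_indFun N _ (Char.IsCharacter.isClassFunction (Char.irr_isCharacter χ)),
        hV k]
      exact (Char.classInner_sum_irr_left (fun ψ => (V k ψ : ℂ)) χ).symm
    obtain ⟨z, hz⟩ := Char.IsGeneralizedCharacter.exists_int_classInner
      (Char.IsGeneralizedCharacter.comp Wreath2.isGen_vec.2 e.symm.toMonoidHom)
      (Char.IsCharacter.isGeneralized (Char.IsCharacter.restrict (Char.irr_isCharacter χ) N))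
    refine ⟨z, ?_⟩
    have hd' : (d χ : ℂ) = χ.1 1 := by simp [d, Char.charDegree_cast]
    have key : (8 : ℂ) * V 0 χ + 8 * V 1 χ - 4 * V 2 χ - 4 * V 3 χ = 9 * (z : ℂ) - (d χ : ℂ) := by
      rw [hVi, hVi, hVi, hVi, ← hz, hd']
      have h1 : (Nat.card N : ℂ)⁻¹ * ∑ h : N,
          (if h = 1 then (72 : ℂ) else 0) * (starRingEnd ℂ) (χ.1 h) = χ.1 1 := by
        simp only [ite_mul, zero_mul, Finset.sum_ite_eq', Finset.mem_univ, if_true, hcard,
          OneMemClass.coe_one]
        rw [Char.apply_one_eq_degree χ]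
        simp
      conv_rhs => rw [← h1]
      simp only [classInner, α, Finset.mul_sum, ← Finset.sum_add_distrib, ← Finset.sum_sub_distrib]
      refine Finset.sum_congr rfl fun h _ => ?_
      have hc := congrArg (Int.cast : ℤ → ℂ) (Wreath2.vec_comb (e.symm h))
      have hite : (if e.symm h = 1 then (72 : ℤ) else 0 : ℤ) = if h = 1 then 72 else 0 := by
        by_cases hh : h = 1
        · simp [hh]
        · rw [if_neg hh, if_neg (fun h' => hh (e.symm.injective (h'.trans (map_one _).symm)))]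
      rw [hite] at hc
      push_cast at hc
      simp only [Function.comp_apply, MulEquiv.coe_toMonoidHom]
      linear_combination ((Nat.card N : ℂ)⁻¹ * (starRingEnd ℂ) (χ.1 h)) * hc
    have : (d χ + 8 * V 0 χ + 8 * V 1 χ - 4 * V 2 χ - 4 * V 3 χ : ℂ) = 9 * (z : ℂ) := by
      linear_combination key
    exact_mod_cast this
  set K : ℚ := (Nat.card G : ℚ) / (Nat.card N : ℚ) * 9 with hK
  have hK0 : K ≠ 0 := mul_ne_zero (div_ne_zero (Nat.cast_ne_zero.2 Nat.card_pos.ne')
    (Nat.cast_ne_zero.2 Nat.card_pos.ne')) (by norm_num)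
  have mv : ∀ (k : Fin 4) (g₁ g₂ g₃ : ℚ), ((![396, 576, 252, 180] k : ℤ) : ℚ) = 9 * g₁ →
      ((![108, 0, 108, 108] k : ℤ) : ℚ) = 9 * g₂ → ((![36, 72, -36, 36] k : ℤ) : ℚ) = 9 * g₃ →
      MomentVec (Char.trivialChar G) d p q K g₁ g₂ g₃ (V k) := by
    intro k g₁ g₂ g₃ e1 e2 e3
    have hkk : Wreath2.gram k k = 4 := by fin_cases k <;> rfl
    refine ⟨hbase k, (hG k k).trans hkk, hVd k, ?_, ?_, ?_, ?_, ?_⟩
    · rw [← (hlin k).1]; simp [form, d, mul_assoc]
    · rw [← (hlin k).2]; simp [form, d, mul_assoc]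
    all_goals simp only [d, Int.cast_natCast, mul_assoc]
    · rw [hK, mul_assoc, ← e1, ← (hquad k).1]; simp [form, mul_assoc]
    · rw [hK, mul_assoc, ← e2, ← (hquad k).2.1]; simp [form, mul_assoc]
    · rw [hK, mul_assoc, ← e3, ← (hquad k).2.2]; simp [form, mul_assoc]
  obtain ⟨χ, hne, h1⟩ := wreath2_core (p := p) (q := q) hd hd0 hp0 hq0 hK0 (V 0) (V 1) (V 2) (V 3)
    (mv 0 44 12 4 (by simp; norm_num) (by simp <;> norm_num) (by simp; norm_num))
    (mv 1 64 0 8 (by simp; norm_num) (by simp <;> norm_num) (by simp; norm_num))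
    (mv 2 28 12 (-4) (by simp; norm_num) (by simp <;> norm_num) (by simp; norm_num))
    (mv 3 20 12 4 (by simp; norm_num) (by simp <;> norm_num) (by simp; norm_num))
    (hG 0 1) (hG 0 2) (hG 1 3) (hG 2 3) hcong
  obtain ⟨lam, hlam⟩ := Char.IsCharacter.exists_monoidHom (Char.irr_isCharacter χ) (by
    rw [← Char.charDegree_cast]
    have h1' : charDegree χ.1 = 1 := Int.natCast_inj.1 (h1.trans Nat.cast_one.symm)
    rw [h1', Nat.cast_one])
  exact ⟨lam, fun h => hne (Subtype.ext (by rw [← hlam, h]; rfl))⟩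

/-- Let G be a finite group with an elementary abelian Sylow 3-subgroup M of order 9 which is self-centralizing (C_G(M) = M), let N = N_G(M), and suppose C_G(g) ≤ N for every nonidentity g ∈ M. If the Sylow 2-subgroups of N are dihedral of order 8, then G is not simple. -/
theorem result {G : Type*} [Group G] [Finite G] (M : Sylow 3 G) (hM9 : Nat.card ↥(M : Subgroup G) = 9)
    (hMel : ∀ m ∈ (M : Subgroup G), m ^ 3 = 1)
    (hCM : Subgroup.centralizer ((M : Subgroup G) : Set G) = (M : Subgroup G))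
    (N : Subgroup G) (hN : N = Subgroup.normalizer ((M : Subgroup G) : Set G))
    (hCg : ∀ g ∈ (M : Subgroup G), g ≠ 1 → Subgroup.centralizer ({g} : Set G) ≤ N)
    (hS : ∀ S : Sylow 2 ↥N, Nonempty (↥(S : Subgroup ↥N) ≃* DihedralGroup 4)) :
    ¬ IsSimpleGroup G := by
  classical
  intro hsimp
  haveI := Fact.mk Nat.prime_two
  subst hN
  set N := Subgroup.normalizer ((M : Subgroup G) : Set G) with hN
  obtain ⟨S⟩ : Nonempty (Sylow 2 N) := inferInstance
  obtain ⟨iso⟩ := hS S
  have hS8 : Nat.card S = 8 := by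
    rw [Nat.card_congr iso.toEquiv, DihedralGroup.nat_card]
  have hN72 : Nat.card N = 72 := Wreath2.card_normalizer M hM9 hMel hCM S hS8
  have hMN : (M : Subgroup G) ≤ N := Subgroup.le_normalizer
  have hMN8 : ∀ g ∈ N, g ^ 8 ∈ (M : Subgroup G) := by
    intro g hg
    haveI : ((M : Subgroup G).subgroupOf N).Normal := Subgroup.normal_in_normalizer
    have hidx : ((M : Subgroup G).subgroupOf N).index = 8 := by
      have := ((M : Subgroup G).subgroupOf N).card_mul_index
      rw [Nat.card_congr (Subgroup.subgroupOfEquivOfLe hMN).toEquiv, hM9, hN72] at this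
      omega
    have h := Subgroup.pow_index_mem ((M : Subgroup G).subgroupOf N) (⟨g, hg⟩ : N)
    rw [hidx, Subgroup.mem_subgroupOf, SubgroupClass.coe_pow] at h
    exact h
  let φ : DihedralGroup 4 →* G :=
    N.subtype.comp ((S : Subgroup N).subtype.comp iso.symm.toMonoidHom)
  have hφ : Function.Injective φ :=
    N.subtype_injective.comp ((S : Subgroup N).subtype_injective.comp iso.symm.injective)
  have hmem : ∀ x, φ x ∈ N := fun x => SetLike.coe_mem _
  obtain ⟨lam, hlam⟩ := exists_linear hM9 hMel hCM hN hN72 hMN8 hCg φ.range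
    (by rw [← Nat.card_congr (MonoidHom.ofInjective hφ).toEquiv, DihedralGroup.nat_card])
    (a := φ (.sr 0)) (b := φ (.sr 1)) (hmem _) (hmem _)
    (by
      rintro - ⟨x, rfl⟩
      have := Subgroup.mem_map_of_mem φ (dihedral_gen x)
      rwa [MonoidHom.map_closure, Set.image_pair] at this)
    ⟨_, rfl⟩ ⟨_, rfl⟩ (by rw [← map_mul, DihedralGroup.sr_mul_self, map_one])
    (by rw [← map_mul, DihedralGroup.sr_mul_self, map_one])
    (by simp only [← map_mul]; rw [show (DihedralGroup.sr 0 * DihedralGroup.sr 1 *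
        (DihedralGroup.sr 0 * DihedralGroup.sr 1) * (DihedralGroup.sr 0 * DihedralGroup.sr 1 *
        (DihedralGroup.sr 0 * DihedralGroup.sr 1)) : DihedralGroup 4) = 1 by decide, map_one])
    (by
      simp only [← map_mul]
      intro h
      exact absurd (hφ (h.trans (map_one φ).symm)) (by decide))
  have hcomm : ∀ a b : G, a * b = b * a := by
    rcases lam.normal_ker.eq_bot_or_eq_top with h | h
    · intro a b
      exact (MonoidHom.ker_eq_bot_iff lam).1 h (by rw [map_mul, map_mul, mul_comm])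
    · exact absurd (MonoidHom.ext fun g => MonoidHom.mem_ker.1 (h ▸ Subgroup.mem_top g)) hlam
  haveI : IsMulCommutative G := ⟨⟨hcomm⟩⟩
  have hn : ((M : Subgroup G)).Normal :=
    ⟨fun m hm g => by rw [hcomm g m, mul_inv_cancel_right]; exact hm⟩
  rcases hn.eq_bot_or_eq_top with h | h
  · rw [h, Subgroup.card_bot] at hM9
    norm_num at hM9
  · have htop : N = ⊤ := top_le_iff.1 (h ▸ hMN)
    rw [htop, Subgroup.card_top] at hN72
    rw [h, Subgroup.card_top, hN72] at hM9
    norm_num at hM9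

end Cfsg.Agent.S3716
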