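import Cfsg.Statements.S2395
-- import your own Cfsg.Agent.* helpers here

set_option autoImplicit false
open Cfsg

namespace Cfsg.Agent.S2395

open Cfsg.Lie

def certG2₁ : List (ℕ × ℕ) := [(1, 5), (0, 6), (0, 10), (1, 11), (5, 11), (6, 10)]
def certG2₂ : List (ℕ × ℕ) := [(0, 8), (0, 9), (1, 7), (1, 9), (2, 10), (2, 11), (3, 6), (3, 11), (4, 5), (4, 10), (5, 4), (5, 8), (6, 3), (6, 7), (7, 1), (7, 6), (8, 0), (8, 5), (9, 0), (9, 1), (10, 2), (10, 4), (11, 2), (11, 3)]
def certB2₁ : List (ℕ × ℕ) := []
def certB2₂ : List (ℕ × ℕ) := [(0, 5), (0, 6), (1, 4), (1, 7), (2, 3), (2, 7), (3, 2), (3, 6), (4, 1), (4, 5), (5, 0), (5, 4), (6, 0), (6, 3), (7, 1), (7, 2)]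
def certD4₁ : List (ℕ × ℕ) := [(1, 9), (0, 14), (0, 15), (0, 16), (0, 17), (1, 17), (0, 19), (0, 20), (0, 21), (0, 22), (1, 20), (1, 21), (2, 22), (3, 22), (1, 23), (2, 23), (3, 23), (4, 23), (6, 22), (6, 23), (7, 23), (8, 23), (9, 23), (14, 22)]
def certF4₁ : List (ℕ × ℕ) := [(1, 23), (0, 24), (0, 26), (7, 14), (0, 31), (0, 32), (1, 32), (3, 33), (3, 34), (3, 35), (3, 36), (3, 37), (3, 38), (3, 39), (3, 40), (0, 42), (0, 43), (1, 43), (7, 37), (7, 38), (7, 39), (0, 45), (1, 45), (0, 46), (1, 47), (2, 46), (2, 47), (8, 40), (9, 40), (10, 40), (4, 46), (4, 47), (5, 47), (7, 44), (8, 44), (9, 44), (10, 44), (11, 44), (12, 44), (13, 44), (14, 44), (15, 46), (15, 47), (16, 47), (33, 40), (21, 47), (23, 47), (24, 46)]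
def certE6₁ : List (ℕ × ℕ) := [(1, 25), (0, 46), (0, 47), (0, 48), (0, 49), (0, 50), (0, 51), (0, 52), (0, 53), (0, 54), (0, 55), (1, 53), (1, 54), (1, 55), (2, 55), (5, 55), (0, 61), (0, 62), (0, 63), (0, 64), (0, 65), (0, 66), (0, 67), (0, 68), (0, 69), (0, 70), (1, 64), (1, 65), (1, 66), (2, 66), (1, 67), (1, 68), (1, 69), (2, 67), (2, 68), (3, 67), (4, 68), (3, 69), (4, 69), (2, 70), (3, 70), (4, 70), (5, 69), (5, 70), (6, 70), (7, 70), (1, 71), (2, 71), (3, 71), (4, 71), (5, 71), (6, 71), (7, 71), (8, 71), (9, 71), (10, 71), (16, 66), (16, 69), (16, 70), (17, 70), (18, 70), (16, 71), (17, 71), (18, 71), (19, 71), (20, 71), (21, 71), (22, 71), (23, 71), (24, 71), (25, 71), (46, 70)]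
def certE7₁ : List (ℕ × ℕ) := [(1, 32), (0, 93), (0, 94), (0, 95), (0, 96), (0, 97), (0, 98), (0, 99), (0, 100), (0, 101), (0, 102), (0, 103), (0, 104), (0, 105), (0, 106), (0, 107), (0, 108), (0, 109), (0, 110), (0, 111), (0, 112), (0, 113), (0, 114), (0, 115), (0, 116), (0, 117), (0, 118), (0, 119), (0, 120), (0, 121), (0, 122), (0, 123), (0, 124), (1, 109), (1, 110), (1, 111), (1, 112), (1, 113), (1, 114), (1, 115), (1, 116), (1, 117), (1, 118), (2, 115), (2, 116), (2, 117), (2, 118), (3, 118), (1, 119), (1, 120), (1, 121), (1, 122), (1, 123), (2, 119), (2, 120), (2, 121), (2, 122), (3, 119), (3, 120), (3, 121), (4, 119), (4, 120), (5, 119), (6, 120), (5, 121), (6, 121), (4, 122), (5, 122), (6, 122), (3, 123), (4, 123), (5, 123), (6, 123), (2, 124), (3, 124), (4, 124), (5, 124), (6, 124), (7, 122), (7, 123), (8, 123), (9, 123), (10, 123), (7, 124), (8, 124), (9, 124), (10, 124), (11, 124), (12, 124), (13, 124), (14, 124), (15, 124), (16, 124), (1, 125), (2, 125), (3, 125), (4, 125), (5, 125), (6, 125),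 (7, 125), (8, 125), (9, 125), (10, 125), (11, 125), (12, 125), (13, 125), (14, 125), (15, 125), (16, 125), (17, 125), (18, 125), (19, 125), (20, 125), (21, 125), (22, 125), (23, 125), (24, 125), (25, 125), (26, 125), (27, 125), (28, 125), (29, 125), (30, 125), (31, 125), (32, 125), (93, 124)]
def certE8₁ : List (ℕ × ℕ) := [(1, 119), (0, 120), (0, 122), (0, 125), (0, 129), (0, 134), (0, 140), (0, 146), (0, 151), (0, 155), (0, 158), (0, 160), (0, 161), (1, 161), (0, 168), (0, 173), (0, 177), (0, 180), (0, 182), (0, 183), (1, 183), (0, 187), (0, 190), (0, 192), (0, 193), (1, 193), (0, 196), (0, 198), (0, 199), (1, 199), (0, 201), (0, 202), (1, 202), (0, 203), (1, 203), (2, 203), (0, 206), (0, 208), (0, 209), (1, 209), (0, 211), (0, 212), (1, 212), (0, 213), (1, 213), (2, 213), (0, 215), (0, 216), (1, 216), (0, 217), (1, 217), (2, 217), (0, 218), (1, 218), (2, 218), (3, 218), (0, 220), (0, 221), (1, 221), (0, 222), (1, 222), (2, 222), (0, 223), (1, 223), (2, 223), (3, 223), (0, 224), (1, 224), (2, 224), (3,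 224), (4, 224), (0, 225), (1, 225), (2, 225), (3, 225), (4, 225), (5, 225), (6, 225), (0, 227), (0, 228), (1, 228), (0, 229), (1, 229), (2, 229), (0, 230), (1, 230), (2, 230), (3, 230), (0, 231), (1, 231), (2, 231), (3, 231), (4, 231), (0, 232), (1, 232), (2, 232), (3, 232), (4, 232), (5, 232), (0, 233), (1, 233), (2, 233), (3, 233), (4, 233), (5, 233), (0, 234), (1, 234), (2, 234), (3, 234), (4, 234), (0, 235), (1, 235), (2, 235), (3, 235), (0, 236), (1, 236), (2, 236), (0, 237), (1, 237), (0, 238), (1, 239), (2, 238), (2, 239), (3, 237), (3, 238), (3, 239), (4, 236), (4, 237), (4, 238), (4, 239), (5, 235), (5, 236), (5, 237), (5, 238), (5, 239), (6, 234), (6, 235), (6, 236), (6, 237), (6, 238), (6, 239), (7, 234), (7, 235), (7, 236), (7, 237), (7, 238), (7, 239), (8, 235), (8, 236), (8, 237), (8, 238), (8, 239), (9, 236), (9, 237), (9, 238), (9, 239), (10, 237), (10, 238), (10, 239), (11, 238), (11, 239), (12, 239), (14, 233), (14, 234), (14, 235), (14, 236), (14, 237), (14, 238), (14, 239), (15, 235),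 (15, 236), (15, 237), (15, 238), (15, 239), (16, 236), (16, 237), (16, 238), (16, 239), (17, 237), (17, 238), (17, 239), (18, 238), (18, 239), (19, 239), (21, 236), (21, 237), (21, 238), (21, 239), (22, 237), (22, 238), (22, 239), (23, 238), (23, 239), (24, 239), (26, 237), (26, 238), (26, 239), (27, 238), (27, 239), (28, 239), (30, 238), (30, 239), (31, 239), (33, 239), (36, 237), (36, 238), (36, 239), (37, 238), (37, 239), (38, 239), (40, 238), (40, 239), (41, 239), (43, 239), (46, 238), (46, 239), (47, 239), (49, 239), (52, 239), (56, 238), (56, 239), (57, 239), (59, 239), (62, 239), (66, 239), (71, 239), (78, 238), (78, 239), (79, 239), (81, 239), (84, 239), (88, 239), (93, 239), (99, 239), (105, 239), (110, 239), (114, 239), (117, 239), (119, 239), (120, 238)]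

/-- An integer sign. -/
def isSign (c : ℤ) : Bool := c == 1 || c == -1

/-- Roots killed by a single-term relator. -/
def stageOne (D : ChevalleyDatum) (L : List (ℕ × ℕ)) : List ℕ :=
  L.filterMap fun p =>
    if decide (p.1 < D.nroots ∧ p.2 < D.nroots ∧ p.2 ≠ p.1 ∧ p.2 ≠ D.neg p.1) then
      match D.commTerms p.1 p.2 with
      | [(k, c, 1, 1)] => if isSign c then some k else none
      | _ => none
    else none

/-- Roots killed by a two-term relator, modulo the first stage. -/
def stageTwo (D : ChevalleyDatum) (known : List ℕ) (L : List (ℕ × ℕ)) : List ℕ :=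
  L.flatMap fun p =>
    if decide (p.1 < D.nroots ∧ p.2 < D.nroots ∧ p.2 ≠ p.1 ∧ p.2 ≠ D.neg p.1) then
      match (D.commTerms p.1 p.2).filter (fun x => !known.contains x.1) with
      | [(k, c, 1, 1), (l, d, 2, 1)] => if isSign c && isSign d then [k, l] else []
      | [(k, c, 1, 1), (l, d, 1, 2)] => if isSign c && isSign d then [k, l] else []
      | _ => []
    else []

/-- All roots are covered by the certificate. -/
def check (D : ChevalleyDatum) (L₁ L₂ : List (ℕ × ℕ)) : Bool :=
  let known := stageOne D L₁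
  let two := stageTwo D known L₂
  (List.range D.nroots).all fun r => known.contains r || two.contains r

variable {K : Type*} [Field K] (D : ChevalleyDatum)

/-- The image of a generator in the abelianization. -/
def f (r : ℕ) (t : K) : Abelianization (D.SteinbergCover K) := Abelianization.of (D.scGen K r t)

theorem f_add {r : ℕ} (hr : r < D.nroots) (t u : K) : f D r t * f D r u = f D r (t + u) := by
  have h : PresentedGroup.mk (D.steinbergRelsAB K) (D.stX r t * D.stX r u * (D.stX r (t + u))⁻¹) = 1 :=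
    PresentedGroup.one_of_mem (Or.inl ⟨r, t, u, hr, rfl⟩)
  rw [map_mul, map_mul, map_inv, mul_inv_eq_one] at h
  have h' := congrArg (Abelianization.of (G := D.SteinbergCover K)) h
  rwa [map_mul] at h'

theorem f_out {r : ℕ} (hr : ¬ r < D.nroots) (t : K) : f D r t = 1 := by
  simp [f, ChevalleyDatum.scGen, ChevalleyDatum.stX, hr]

theorem rel {a b : ℕ} (h : decide (a < D.nroots ∧ b < D.nroots ∧ b ≠ a ∧ b ≠ D.neg a) = true) (t u : K) :
    ((D.commTerms a b).map fun c => f D c.1 ((c.2.1 : K) * (-t) ^ c.2.2.1 * u ^ c.2.2.2)).prod = 1 := by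
  obtain ⟨ha, hb, h1, h2⟩ := of_decide_eq_true h
  have h : PresentedGroup.mk (D.steinbergRelsAB K) ((D.stX b u)⁻¹ * (D.stX a t)⁻¹ * D.stX b u * D.stX a t *
      (D.stWord (D.commWord K a b t u))⁻¹) = 1 :=
    PresentedGroup.one_of_mem (Or.inr ⟨a, b, t, u, ha, hb, h1, h2, rfl⟩)
  rw [map_mul, map_inv (PresentedGroup.mk (D.steinbergRelsAB K)) (D.stWord _), mul_inv_eq_one] at h
  have h' := congrArg (Abelianization.of (G := D.SteinbergCover K)) h
  have hl : ∀ x y : D.SteinbergCover K, Abelianization.of (x⁻¹ * y⁻¹ * x * y) = 1 := by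
    intro x y
    simp only [map_mul, map_inv]
    rw [mul_comm (Abelianization.of x)⁻¹, mul_assoc (Abelianization.of y)⁻¹, inv_mul_cancel, mul_one,
      inv_mul_cancel]
  simp only [map_mul, map_inv] at hl h'
  rw [hl] at h'
  rw [h', ChevalleyDatum.stWord, ChevalleyDatum.commWord, map_list_prod, map_list_prod, List.map_map,
    List.map_map, List.map_map]
  rfl

theorem prod_filter {α M : Type*} [CommMonoid M] (g : α → M) (q : α → Bool) (L : List α)
    (h : ∀ x ∈ L, q x = false → g x = 1) : (L.map g).prod = ((L.filter q).map g).prod := by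
  induction L with
  | nil => rfl
  | cons x L ih =>
    have hL := ih fun y hy => h y (List.mem_cons_of_mem _ hy)
    cases hq : q x
    · simp [hq, h x (List.mem_cons_self ..) hq, hL]
    · simp [hq, hL]

theorem sign_cast {c : ℤ} (h : isSign c = true) : (c : K) * (c : K) = 1 := by
  simp only [isSign, Bool.or_eq_true, beq_iff_eq] at h
  rcases h with rfl | rfl <;> simp

theorem stageOne_spec (L : List (ℕ × ℕ)) {r : ℕ} (hr : r ∈ stageOne D L) (v : K) : f D r v = 1 := by
  obtain ⟨p, -, hp⟩ := List.mem_filterMap.1 hr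
  split at hp
  · next hcond =>
    split at hp
    · next k c hterms =>
      split at hp
      · next hc =>
        cases hp
        have h := rel D hcond (-(v * (c : K))) 1
        rw [hterms] at h
        simp only [List.map_cons, List.map_nil, List.prod_cons, List.prod_nil, mul_one, neg_neg, pow_one] at h
        rwa [mul_comm v, ← mul_assoc, sign_cast hc, one_mul] at h
      · simp at hp
    · simp at hp
  · simp at hp

theorem two_term {k l : ℕ} (hk : k < D.nroots) (hl : l < D.nroots) {c d : K} (hc : c * c = 1) (hd : d * d = 1)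
    (hs : ∃ s : K, s ≠ 0 ∧ s ≠ 1)
    (h : ∀ t u : K, f D k (c * (t * u)) * f D l (d * (t ^ 2 * u)) = 1) (v : K) :
    f D k v = 1 ∧ f D l v = 1 := by
  obtain ⟨s, hs0, hs1⟩ := hs
  have hz : ∀ {m : ℕ}, m < D.nroots → ∀ x : K, f D m x * f D m (-x) = 1 := by
    intro m hm x
    rw [f_add D hm, add_neg_cancel]
    have := f_add D hm (0 : K) 0
    rw [add_zero] at this
    exact mul_eq_left.1 this
  have hl1 : ∀ w : K, f D l w = 1 := by
    intro w
    -- compare the parameters (s, x) and (1, s x)
    set x := d * w / (s ^ 2 - s) with hx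
    have hne : s ^ 2 - s ≠ 0 := by
      rw [show s ^ 2 - s = s * (s - 1) by ring]
      exact mul_ne_zero hs0 (sub_ne_zero.2 hs1)
    have a := h s x
    have b := h 1 (s * x)
    rw [one_mul] at b
    rw [← b] at a
    have e := mul_left_cancel a
    have hw : w = d * (s ^ 2 * x) + -(d * (1 ^ 2 * (s * x))) := by
      rw [hx]
      field_simp
      linear_combination -(w * (s - 1)) * hd
    rw [hw, ← f_add D hl, e, hz hl]
  refine ⟨?_, hl1 v⟩
  have a := h (c * v) 1
  rwa [hl1, mul_one, mul_one, ← mul_assoc, hc, one_mul] at a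

theorem lt_of_mem {k : ℕ} {P : Prop} (h : k < D.nroots → P) (h' : ¬ k < D.nroots → P) : P :=
  (em _).elim h h'

theorem two_term' {k l : ℕ} {c d : K} (hc : c * c = 1) (hd : d * d = 1)
    (hs : ∃ s : K, s ≠ 0 ∧ s ≠ 1)
    (h : ∀ t u : K, f D k (c * (t * u)) * f D l (d * (t ^ 2 * u)) = 1) (v : K) :
    f D k v = 1 ∧ f D l v = 1 := by
  by_cases hk : k < D.nroots
  · by_cases hl : l < D.nroots
    · exact two_term D hk hl hc hd hs h v
    · refine ⟨?_, f_out D hl v⟩
      have a := h (c * v) 1
      rwa [f_out D hl, mul_one, mul_one, ← mul_assoc, hc, one_mul] at a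
  · refine ⟨f_out D hk v, ?_⟩
    have a := h 1 (d * v)
    rwa [f_out D hk, one_mul, one_pow, one_mul, ← mul_assoc, hd, one_mul] at a

theorem stageTwo_spec (known : List ℕ) (hknown : ∀ r ∈ known, ∀ v : K, f D r v = 1)
    (hs : ∃ s : K, s ≠ 0 ∧ s ≠ 1) (L : List (ℕ × ℕ)) {r : ℕ} (hr : r ∈ stageTwo D known L) (v : K) :
    f D r v = 1 := by
  obtain ⟨p, -, hp⟩ := List.mem_flatMap.1 hr
  split at hp
  case isFalse => simp at hp
  case isTrue hcond =>
    have hrel : ∀ t u : K, (((D.commTerms p.1 p.2).filter fun x => !known.contains x.1).map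
        fun c => f D c.1 ((c.2.1 : K) * (-t) ^ c.2.2.1 * u ^ c.2.2.2)).prod = 1 := by
      intro t u
      rw [← prod_filter, rel D hcond t u]
      intro x _ hx
      exact hknown _ (by simpa using hx) _
    split at hp
    · next k c l d hterms =>
      split at hp
      · next hcd =>
        rw [Bool.and_eq_true] at hcd
        simp only [hterms, List.map_cons, List.map_nil, List.prod_cons, List.prod_nil, mul_one, pow_one] at hrel
        have := two_term' D (k := k) (l := l) (sign_cast hcd.1) (sign_cast hcd.2) hs (fun t u => by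
          convert hrel (-t) u using 3 <;> ring) v
        rcases List.mem_cons.1 hp with rfl | hp'
        · exact this.1
        · rw [List.mem_singleton] at hp'; subst hp'; exact this.2
      · simp at hp
    · next k c l d hterms =>
      split at hp
      · next hcd =>
        rw [Bool.and_eq_true] at hcd
        simp only [hterms, List.map_cons, List.map_nil, List.prod_cons, List.prod_nil, mul_one, pow_one] at hrel
        have hd : (-(d : K)) * (-(d : K)) = 1 := by rw [neg_mul_neg]; exact sign_cast hcd.2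
        have hc : (-(c : K)) * (-(c : K)) = 1 := by rw [neg_mul_neg]; exact sign_cast hcd.1
        have := two_term' D (k := k) (l := l) hc hd hs (fun t u => by
          convert hrel u t using 3 <;> ring) v
        rcases List.mem_cons.1 hp with rfl | hp'
        · exact this.1
        · rw [List.mem_singleton] at hp'; subst hp'; exact this.2
      · simp at hp
    · simp at hp

theorem perfect_of_check (L₁ L₂ : List (ℕ × ℕ)) (hc : check D L₁ L₂ = true)
    (hs : L₂ = [] ∨ ∃ s : K, s ≠ 0 ∧ s ≠ 1) : commutator (D.SteinbergCover K) = ⊤ := by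
  rw [eq_top_iff, ← PresentedGroup.closure_range_of, Subgroup.closure_le]
  rintro _ ⟨⟨⟨r, hr⟩, v⟩, rfl⟩
  have hgen : PresentedGroup.of (rels := D.steinbergRelsAB K) (⟨r, hr⟩, v) = D.scGen K r v := by
    simp [ChevalleyDatum.scGen, ChevalleyDatum.stX, hr, PresentedGroup.of]
  have key : f D r v = 1 := by
    have := List.all_eq_true.1 hc r (List.mem_range.2 hr)
    simp only [Bool.or_eq_true, List.contains_iff_mem] at this
    rcases this with h | h
    · exact stageOne_spec D L₁ h v
    · rcases hs with rfl | hs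
      · simp [stageTwo] at h
      · exact stageTwo_spec D _ (fun r hr v => stageOne_spec D L₁ hr v) hs L₂ h v
  rw [SetLike.mem_coe, hgen, ← Abelianization.ker_of, MonoidHom.mem_ker]
  exact key


/-- The group presented by Steinberg's generators x̄_r(t) subject only to (R1) (additivity) and (R2) (the commutator formula) is perfect, for each of the types G₂, B₂, D₄, F₄, E₆, E₇, E₈ over any field (for types B₂ and G₂ the field must have more than two elements — the cases where the Chevalley group is not simple are set aside). -/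
theorem result {K : Type*} [Field K] (D : Cfsg.Lie.ChevalleyDatum) (hD : D ∈ [Cfsg.Lie.chevG2, Cfsg.Lie.chevB2, Cfsg.Lie.chevD4, Cfsg.Lie.chevF4, Cfsg.Lie.chevE6, Cfsg.Lie.chevE7, Cfsg.Lie.chevE8]) (hK : D ∈ [Cfsg.Lie.chevB2, Cfsg.Lie.chevG2] → ∃ x : K, x ≠ 0 ∧ x ≠ 1) :
    commutator (D.SteinbergCover K) = ⊤ := by
  simp only [List.mem_cons, List.not_mem_nil, or_false] at hD
  rcases hD with rfl | rfl | rfl | rfl | rfl | rfl | rfl
  · exact perfect_of_check _ certG2₁ certG2₂ (by decide +kernel) (Or.inr (hK (by simp)))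
  · exact perfect_of_check _ certB2₁ certB2₂ (by decide +kernel) (Or.inr (hK (by simp)))
  · exact perfect_of_check _ certD4₁ [] (by decide +kernel) (Or.inl rfl)
  · exact perfect_of_check _ certF4₁ [] (by decide +kernel) (Or.inl rfl)
  · exact perfect_of_check _ certE6₁ [] (by decide +kernel) (Or.inl rfl)
  · exact perfect_of_check _ certE7₁ [] (by decide +kernel) (Or.inl rfl)
  · exact perfect_of_check _ certE8₁ [] (by decide +kernel) (Or.inl rfl)

end Cfsg.Agent.S2395
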