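import Cfsg.Statements.S2834
import Cfsg.Agent.Lib.LocalStructure.Basic
import Cfsg.Agent.Lib.LocalStructure.Minimal
import Cfsg.Agent.Lib.LocalStructure.LLemma

set_option autoImplicit false
open Cfsg
open Subgroup Cfsg.Agent.LocalStructure
open scoped commutatorElement

namespace Cfsg.Agent.S2834

/-- The L-Lemma: let H be a finite group with Sylow p-subgroup T such that H is T-minimal (generated by the conjugates of T, T in exactly one maximal subgroup M), and let A ≤ T with A not contained in O_p(H). Then there is a subgroup L of H containing A·O_p(H) such that (a) A·O_p(L) lies in exactly one maximal subgroup L₀ of L, and L₀ = L ∩ gMg⁻¹ for some g ∈ H; (b) L = ⟨A, xAx⁻¹⟩·O_p(L) for every x ∈ L outside L₀. -/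
theorem result {H : Type*} [Group H] [Finite H] {p : ℕ} [Fact p.Prime] (T : Sylow p H) (hmin : Cfsg.IsMinimalOver (T : Subgroup H)) (M : Subgroup H) (hM : IsCoatom M ∧ (T : Subgroup H) ≤ M) (A : Subgroup H) (hAT : A ≤ (T : Subgroup H)) (hA : ¬ A ≤ Cfsg.pCore p H) : ∃ L : Subgroup H, A ⊔ Cfsg.pCore p H ≤ L ∧ ∃ L₀ : Subgroup H, A ⊔ (Cfsg.pCoreOf p L) ≤ L₀ ∧ L₀ < L ∧ (∀ X : Subgroup H, A ⊔ (Cfsg.pCoreOf p L) ≤ X → X < L → X ≤ L₀) ∧ (∃ g : H, L₀ = L ⊓ ((M : Subgroup H).map (MulAut.conj (g : H)).toMonoidHom)) ∧ ∀ x ∈ L, x ∉ L₀ → (A ⊔ ((A : Subgroup H).map (MulAut.conj (x : H)).toMonoidHom)) ⊔ (Cfsg.pCoreOf p L) = L := by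
  set O := Cfsg.pCore p H with hO
  have hOn : O.Normal := LocalStructure.pCore_normal p H
  have hOp : IsPGroup p O := isPGroup_pCore p
  have hOT : O ≤ (T : Subgroup H) := hOp.le_sylow_of_normal T
  have hU : aJoin A O (T : Subgroup H) ≤ (T : Subgroup H) := aJoin_le hOT
  have hAU : A ≤ aJoin A O (T : Subgroup H) := by
    have := conj_le_aJoin (A := A) (O := O) (P := (T : Subgroup H)) (h := 1) (by rw [map_conj_one]; exact hAT)
    rwa [map_conj_one] at this
  have hNM : normalizer (aJoin A O (T : Subgroup H) : Set H) ≤ M := by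
    refine minOver_le hmin hM.1 hM.2 (le_trans Subgroup.le_normalizer (normalizer_le_normalizer_aJoin hOn _)) ?_
    intro htop
    exact hA (hAU.trans (le_pCore (normalizer_eq_top_iff.1 htop) (T.2.to_le hU)))
  have hcand : LCand p A O M (⊤ : Subgroup H) :=
    ⟨1, (T : Subgroup H), isSylowIn_of_sylow T le_top, by rw [map_conj_one]; exact hM.2,
      fun h => hM.1.1 (top_le_iff.1 (by rwa [map_conj_one] at h)),
      by rw [map_conj_one, top_inf_eq]; exact hNM, hOT, 1, by rw [map_conj_one]; exact hAT⟩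
  obtain ⟨L₁, hL₁, hmin₁⟩ := Set.exists_min_image {L | LCand p A O M L} (fun L => Nat.card L)
    (Set.toFinite _) ⟨⊤, hcand⟩
  obtain ⟨g, h, hBO, hLM, hhO, hnn, hmax⟩ := lCand_min hOn hOp M hL₁ fun L' hlt hc =>
    hlt.ne (Subgroup.eq_of_le_of_card_ge hlt.le (hmin₁ L' hc))
  set f := (MulAut.conj h⁻¹).toMonoidHom with hf
  set k := (MulAut.conj h).toMonoidHom with hk
  have hfk : ∀ X : Subgroup H, (X.map f).map k = X := fun X => by
    rw [← map_conj_mul, mul_inv_cancel, map_conj_one]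
  have hkf : ∀ X : Subgroup H, (X.map k).map f = X := fun X => by
    rw [← map_conj_mul, inv_mul_cancel, map_conj_one]
  have hOk : O.map k = O := map_conj_eq_self (normalizer_eq_top_iff.2 hOn ▸ Subgroup.mem_top _)
  have hOf : O.map f = O := map_conj_eq_self (normalizer_eq_top_iff.2 hOn ▸ Subgroup.mem_top _)
  set L := L₁.map f with hL
  set L₀ := L ⊓ M.map (MulAut.conj (h⁻¹ * g)).toMonoidHom with hL₀
  have hMg : (M.map (MulAut.conj g).toMonoidHom).map f = M.map (MulAut.conj (h⁻¹ * g)).toMonoidHom := by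
    rw [← map_conj_mul]
  have hAO : A ⊔ O ≤ L₀ := by
    have h1 := Subgroup.map_mono (f := f) hBO
    rw [Subgroup.map_sup, hkf, hOf, Subgroup.map_inf _ _ _ (MulAut.conj h⁻¹).injective, hMg] at h1
    exact h1
  have hmax' : ∀ X : Subgroup H, A ⊔ O ≤ X → X < L → X ≤ L₀ := by
    intro X hX hXL
    refine le_inf hXL.le ?_
    have h1 := hmax (X.map k) (by rw [← hOk, ← Subgroup.map_sup]; exact Subgroup.map_mono hX)
      (by
        rw [← hfk L₁]
        exact (Subgroup.map_lt_map_iff_of_injective (MulAut.conj h).injective).2 hXL)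
    have h2 := Subgroup.map_mono (f := f) h1
    rwa [hkf, hMg] at h2
  have hAL : ¬ A ≤ pCoreOf p L := by
    intro hc
    apply hhO
    have h1 : A.map k ≤ (pCoreOf p L).map k := Subgroup.map_mono hc
    refine h1.trans (le_pCoreOf ?_ ?_ ((isPGroup_pCoreOf p L).map _))
    · rw [← hfk L₁]
      exact Subgroup.map_mono (LocalStructure.pCoreOf_le p L)
    · rw [← hfk L₁]
      exact (Subgroup.map_mono (le_normalizer_pCoreOf p L)).trans (Subgroup.le_normalizer_map _)
  have hnn' : ¬ L ≤ normalizer (L₀ : Set H) := by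
    intro hc
    apply hnn
    have h1 : L₁ ≤ (normalizer (L₀ : Set H)).map k := (hfk L₁).ge.trans (Subgroup.map_mono hc)
    refine h1.trans ((Subgroup.le_normalizer_map _).trans (le_of_eq ?_))
    have e : L₀.map k = L₁ ⊓ M.map (MulAut.conj g).toMonoidHom := by
      rw [hL₀, Subgroup.map_inf _ _ _ (MulAut.conj h).injective, hL, hfk, ← hMg, hfk]
    rw [e]
  have hLlt : L₀ < L := lt_of_le_of_ne inf_le_left fun e => hnn' (by rw [e]; exact Subgroup.le_normalizer)
  have hOL : O ≤ pCoreOf p L := le_pCoreOf ((le_sup_right.trans hAO).trans inf_le_left)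
    (fun x _ => normalizer_eq_top_iff.2 hOn ▸ Subgroup.mem_top x) hOp
  have hAL0 : A ≤ L := (le_sup_left.trans hAO).trans inf_le_left
  have hsupLt : A ⊔ pCoreOf p L < L := by
    refine lt_of_le_of_ne (sup_le hAL0 (LocalStructure.pCoreOf_le p L)) fun e => hAL ?_
    have hp : IsPGroup p L := e ▸ isPGroup_sup (T.2.to_le hAT) (isPGroup_pCoreOf p L)
      (hAL0.trans (le_normalizer_pCoreOf p L))
    exact hAL0.trans (le_pCoreOf le_rfl Subgroup.le_normalizer hp)
  refine ⟨L, sup_le hAL0 (hOL.trans (LocalStructure.pCoreOf_le p L)), L₀,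
    hmax' _ (sup_le_sup le_rfl hOL) hsupLt, hLlt,
    fun X hX hXL => hmax' X ((sup_le_sup le_rfl hOL).trans hX) hXL, ⟨_, rfl⟩, fun x hx hx₀ => ?_⟩
  have hle : A ⊔ A.map (MulAut.conj x).toMonoidHom ⊔ pCoreOf p L ≤ L :=
    sup_le (sup_le hAL0 (map_conj_le hAL0 hx)) (LocalStructure.pCoreOf_le p L)
  refine hle.eq_of_not_lt fun hlt => ?_
  have h1 := hmax' _ (sup_le (le_sup_left.trans le_sup_left) (hOL.trans le_sup_right)) hlt
  have hA1 : A.map (MulAut.conj x).toMonoidHom ≤ L₀ := (le_sup_right.trans le_sup_left).trans h1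
  have hLx : L.map (MulAut.conj x⁻¹).toMonoidHom = L :=
    map_conj_eq_self (Subgroup.le_normalizer (L.inv_mem hx))
  set Z := L₀.map (MulAut.conj x⁻¹).toMonoidHom with hZ
  have hAZ : A ⊔ O ≤ Z := by
    refine sup_le ?_ ?_
    · have := Subgroup.map_mono (f := (MulAut.conj x⁻¹).toMonoidHom) hA1
      rwa [← map_conj_mul, inv_mul_cancel, map_conj_one] at this
    · rw [← map_conj_eq_self (normalizer_eq_top_iff.2 hOn ▸ Subgroup.mem_top x⁻¹ : x⁻¹ ∈ normalizer (O : Set H))]
      exact Subgroup.map_mono (le_sup_right.trans hAO)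
  have hZL : Z < L := by
    rw [← hLx]
    exact (Subgroup.map_lt_map_iff_of_injective (MulAut.conj x⁻¹).injective).2 hLlt
  have hZe : Z = L₀ := Subgroup.eq_of_le_of_card_ge (hmax' Z hAZ hZL) (by rw [card_map_conj])
  have hxn : x ∈ normalizer (L₀ : Set H) := by
    simpa using inv_mem (mem_normalizer_of_map_conj (g := x⁻¹) hZe)
  by_cases hlt' : L ⊓ normalizer (L₀ : Set H) < L
  · exact hx₀ (hmax' _ (hAO.trans (le_inf inf_le_left Subgroup.le_normalizer)) hlt' ⟨hx, hxn⟩)
  · exact hnn' ((inf_le_left.eq_of_not_lt hlt').ge.trans inf_le_right)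

end Cfsg.Agent.S2834
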