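import Cfsg.Statements.S0735
import Mathlib


set_option autoImplicit false
open Cfsg
open Pointwise

namespace Cfsg.Agent.S0735

/-- A 2-homogeneous permutation group (transitive on 2-subsets) of even order is doubly transitive; a non-trivial 2-homogeneous group is primitive. -/
theorem result {α : Type*} [Fintype α] [DecidableEq α] (G : Subgroup (Equiv.Perm α)) (h2 : MulAction.IsPretransitive G (Set.powersetCard α 2)) (hα : 3 ≤ Fintype.card α) : (Even (Nat.card G) → MulAction.IsMultiplyPretransitive G α 2) ∧ (G ≠ ⊥ → MulAction.IsPreprimitive G α) := by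
  classical
  have htwo : ∀ a b c d : α, a ≠ b → c ≠ d → ∃ g : G, (g • a = c ∧ g • b = d) ∨ (g • a = d ∧ g • b = c) := by
    intro a b c d hab hcd
    obtain ⟨g, hg⟩ := h2.exists_smul_eq (Set.powersetCard.ofCard (Finset.card_pair hab))
      (Set.powersetCard.ofCard (Finset.card_pair hcd))
    have hg' : g • ({a, b} : Finset α) = {c, d} := congrArg Subtype.val hg
    have ha : g • a ∈ ({c, d} : Finset α) := hg' ▸ Finset.smul_mem_smul_finset (by simp)
    have hb : g • b ∈ ({c, d} : Finset α) := hg' ▸ Finset.smul_mem_smul_finset (by simp)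
    simp only [Finset.mem_insert, Finset.mem_singleton] at ha hb
    have hne : g • a ≠ g • b := fun e => hab (smul_left_cancel g e)
    refine ⟨g, ?_⟩
    rcases ha with ha | ha <;> rcases hb with hb | hb <;>
      first
        | exact Or.inl ⟨ha, hb⟩
        | exact Or.inr ⟨ha, hb⟩
        | exact absurd (ha.trans hb.symm) hne
  constructor
  · intro hev
    rw [MulAction.is_two_pretransitive_iff]
    intro a b c d hab hcd
    have := Fact.mk Nat.prime_two
    obtain ⟨s, hs⟩ := exists_prime_orderOf_dvd_card' 2 (even_iff_two_dvd.1 hev)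
    obtain ⟨x, hx⟩ : ∃ x : α, s • x ≠ x := by
      by_contra h
      push Not at h
      rw [show s = 1 from Subtype.ext (Equiv.ext h), orderOf_one] at hs
      omega
    have hsx : s • s • x = x := by
      rw [← mul_smul, ← pow_two, ← hs, pow_orderOf_eq_one, one_smul]
    obtain ⟨g, hg⟩ := htwo a b x (s • x) hab (Ne.symm hx)
    obtain ⟨k, hk⟩ := htwo c d x (s • x) hcd (Ne.symm hx)
    rcases hg with ⟨h1, h2⟩ | ⟨h1, h2⟩ <;> rcases hk with ⟨k1, k2⟩ | ⟨k1, k2⟩
    · exact ⟨k⁻¹ * g, by rw [mul_smul, h1, ← k1, inv_smul_smul], by rw [mul_smul, h2, ← k2, inv_smul_smul]⟩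
    · exact ⟨k⁻¹ * (s * g), by rw [mul_smul, mul_smul, h1, ← k1, inv_smul_smul],
        by rw [mul_smul, mul_smul, h2, hsx, ← k2, inv_smul_smul]⟩
    · exact ⟨k⁻¹ * (s * g), by rw [mul_smul, mul_smul, h1, hsx, ← k1, inv_smul_smul],
        by rw [mul_smul, mul_smul, h2, ← k2, inv_smul_smul]⟩
    · exact ⟨k⁻¹ * g, by rw [mul_smul, h1, ← k1, inv_smul_smul], by rw [mul_smul, h2, ← k2, inv_smul_smul]⟩
  · intro _
    have hex : ∀ u v : α, ∃ w, w ≠ u ∧ w ≠ v := by
      intro u v
      obtain ⟨w, -, hw⟩ := Finset.exists_mem_notMem_of_card_lt_card (s := ({u, v} : Finset α))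
        (t := Finset.univ) (by have := Finset.card_le_two (a := u) (b := v); rw [Finset.card_univ]; omega)
      simp at hw; exact ⟨w, hw⟩
    have htr : MulAction.IsPretransitive G α := by
      refine ⟨fun a b => ?_⟩
      by_cases hab : a = b
      · exact ⟨1, by rw [one_smul, hab]⟩
      by_contra hcon
      -- then `{a, c}` and `{b, c}` lie in different orbit patterns
      obtain ⟨c, hca, hcb⟩ := hex a b
      have key : ∀ u v : α, u ≠ v → (∃ g : G, g • a = u) ∨ (∃ g : G, g • a = v) := by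
        intro u v huv
        obtain ⟨g, hg⟩ := htwo a c u v hca.symm huv
        rcases hg with ⟨h1, -⟩ | ⟨h1, -⟩
        · exact Or.inl ⟨g, h1⟩
        · exact Or.inr ⟨g, h1⟩
      rcases key b c hcb.symm with h | ⟨g, hg⟩
      · exact hcon h
      obtain ⟨k, hk⟩ := htwo a c b a hca.symm (Ne.symm hab)
      rcases hk with ⟨h1, -⟩ | ⟨-, h2⟩
      · exact hcon ⟨k, h1⟩
      · exact hcon ⟨k * g, by rw [mul_smul, hg, h2]⟩
    refine ⟨fun {B} hB => ?_⟩
    rw [MulAction.IsTrivialBlock]
    by_contra hcon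
    push Not at hcon
    obtain ⟨hsub, huniv⟩ := hcon
    obtain ⟨x, hx, y, hy, hxy⟩ := hsub
    obtain ⟨z, hz⟩ := (Set.ne_univ_iff_exists_notMem B).1 huniv
    obtain ⟨g, hg⟩ := htwo x y x z hxy (fun e => hz (e ▸ hx))
    rw [MulAction.isBlock_iff_smul_eq_of_mem] at hB
    rcases hg with ⟨h1, h2⟩ | ⟨h1, h2⟩
    · have := hB hx (h1.symm ▸ hx)
      exact hz (by rw [← this, ← h2]; exact Set.smul_mem_smul_set hy)
    · have := hB hy (h2.symm ▸ hx)
      exact hz (by rw [← this, ← h1]; exact Set.smul_mem_smul_set hx)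

end Cfsg.Agent.S0735
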