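import Cfsg.Statements.S0817
import Cfsg.Agent.Lib.AutPOmega.OutEight

set_option autoImplicit false
open Cfsg

namespace Cfsg.Agent.S0817

/-- |Aut(PΩ⁺_2m(q))| for q = p^f, m ≥ 4: |PΩ⁺_2m(q)| times f, times 3 when m = 4, times 2 if p = 2, and times 8 or 4 if p is odd according as m(q−1)/2 is even or odd. -/
theorem result {F : Type*} [Field F] [Fintype F] (p f : ℕ) [Fact p.Prime] (hf : 1 ≤ f) (hF : Fintype.card F = p ^ f) (m : ℕ) (hm : 4 ≤ m) : Nat.card (MulAut (Cfsg.POmega F (Cfsg.quadFormPlus m F))) = (if m = 4 then 3 else 1) * (if p = 2 then 2 else (if Even (m * (p ^ f - 1) / 2) then 8 else 4)) * f * Nat.card (Cfsg.POmega F (Cfsg.quadFormPlus m F)) := by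
  have : CharP F p := charP_of_card_eq_prime_pow hF
  rw [← Cfsg.Agent.QForm.coe_plusForm]
  rw [Cfsg.Agent.AutPOmega.card_mulAut (Cfsg.Agent.AutPOmega.nondeg_bil_plus (F := F) (m := m) (by omega))
    (Cfsg.Agent.AutPOmega.five_plus (by omega))]
  congr 1
  by_cases hp : p = 2
  · subst hp
    rw [if_pos rfl]
    by_cases h : m = 4
    · subst h
      obtain ⟨i⟩ := Cfsg.Agent.AutPOmega.out_eight_two (F := F) hf hF
      rw [if_pos rfl, Nat.card_congr i.toEquiv, Nat.card_prod, Nat.card_perm, Nat.card_fin,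
        Nat.card_congr Multiplicative.toAdd, Nat.card_zmod]
      rfl
    · obtain ⟨i⟩ := Cfsg.Agent.AutPOmega.out_plus_two (F := F) (m := m) (by omega) (by omega) hf hF
      rw [if_neg h, Nat.card_congr i.toEquiv, Nat.card_congr Multiplicative.toAdd, Nat.card_prod,
        Nat.card_zmod, Nat.card_zmod, one_mul]
  rw [if_neg hp]
  have hpo : Odd p := (Fact.out : p.Prime).odd_of_ne_two hp
  have hodd : Odd (Fintype.card F) := hF ▸ hpo.pow
  have hq : p ^ f % 2 = 1 := Nat.odd_iff.1 hpo.pow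
  obtain ⟨k, hk⟩ : ∃ k, p ^ f = 2 * k + 1 := ⟨p ^ f / 2, by omega⟩
  have hk2 : m * (p ^ f - 1) / 2 = m * k := by
    rw [hk, Nat.add_sub_cancel, ← mul_assoc, mul_comm m 2, mul_assoc,
      Nat.mul_div_cancel_left _ two_pos]
  rw [hk2]
  by_cases h : m = 4
  · subst h
    obtain ⟨i⟩ := Cfsg.Agent.AutPOmega.out_eight_odd (F := F) p hodd hf hF
    rw [if_pos rfl, if_pos ⟨2 * k, by ring⟩, Nat.card_congr i.toEquiv, Nat.card_prod, Nat.card_perm,
      Nat.card_fin, Nat.card_congr Multiplicative.toAdd, Nat.card_zmod]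
    rfl
  rw [if_neg h, one_mul]
  by_cases hn : Odd m ∧ Fintype.card F % 4 = 3
  · obtain ⟨i⟩ := Cfsg.Agent.AutPOmega.out_plus_pos (F := F) (m := m) (by omega) p (by omega) hodd hf hF hn
    have hkodd : Odd k := by
      rw [Nat.odd_iff]; have := hn.2; rw [hF, hk] at this; omega
    rw [if_neg (Nat.not_even_iff_odd.2 (hn.1.mul hkodd)), Nat.card_congr i.toEquiv,
      Nat.card_congr Multiplicative.toAdd, Nat.card_prod, Nat.card_prod, Nat.card_zmod, Nat.card_zmod]
    ring
  · obtain ⟨i⟩ := Cfsg.Agent.AutPOmega.out_plus_neg (F := F) (m := m) (by omega) p (by omega) hodd hf hF hn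
    have hev : Even (m * k) := by
      rw [← Nat.not_odd_iff_even, Nat.odd_mul, Nat.odd_iff (n := k)]
      rintro ⟨hm', hk'⟩
      exact hn ⟨hm', by rw [hF, hk]; omega⟩
    rw [if_pos hev, Nat.card_congr i.toEquiv, Nat.card_prod, DihedralGroup.nat_card,
      Nat.card_congr Multiplicative.toAdd, Nat.card_zmod]

end Cfsg.Agent.S0817
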