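import Cfsg.Statements.S0798
import Cfsg.Agent.Lib.QForm.ReflectionClasses

set_option autoImplicit false
open Cfsg

namespace Cfsg.Agent.S0798

open QForm Matrix
open scoped Matrix

variable {F : Type*} [Field F] [Fintype F]

/-- In dimension two an isometry of determinant `-1` is an involution. -/
theorem sq_eq_one_of_det {Q : QuadraticForm F (Fin 2 → F)} (hQ : (QuadraticMap.polarBilin Q).Nondegenerate)
    (h2 : (2 : F) ≠ 0) (g : ↥(Cfsg.isometryGroup F ⇑Q))
    (hdet : ((g : GeneralLinearGroup (Fin 2) F) : Matrix (Fin 2) (Fin 2) F).det = -1) : g * g = 1 := by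
  set M := ((g : GeneralLinearGroup (Fin 2) F) : Matrix (Fin 2) (Fin 2) F) with hM
  set G := LinearMap.BilinForm.toMatrix' (pB Q) with hG
  have hGdet : G.det ≠ 0 := LinearMap.BilinForm.nondegenerate_toBilin'_iff_det_ne_zero.1 (by
    rw [hG, Matrix.toBilin'_toMatrix']; exact hQ)
  have hiso : Mᵀ * G * M = G := by
    apply Matrix.toBilin'.injective
    refine LinearMap.ext₂ fun x y => ?_
    rw [← Matrix.toBilin'_comp, LinearMap.BilinForm.comp_apply, hG, Matrix.toBilin'_toMatrix',
      Matrix.toLin'_apply, Matrix.toLin'_apply]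
    exact act_polar Q g x y
  have htr : M.trace = 0 := by
    have hinv : M⁻¹ = G⁻¹ * Mᵀ * G := by
      refine Matrix.inv_eq_left_inv ?_
      rw [Matrix.mul_assoc, Matrix.mul_assoc, ← Matrix.mul_assoc Mᵀ, hiso, Matrix.nonsing_inv_mul _ hGdet.isUnit]
    have h1 : (M⁻¹).trace = M.trace := by
      rw [hinv, Matrix.trace_mul_cycle, Matrix.mul_nonsing_inv _ hGdet.isUnit, Matrix.one_mul,
        Matrix.trace_transpose]
    rw [Matrix.inv_def, hdet, Matrix.trace_smul, smul_eq_mul, Matrix.trace_fin_two,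
      Matrix.adjugate_fin_two] at h1
    simp [Matrix.trace_fin_two] at h1
    rw [Matrix.trace_fin_two]
    have : 2 * (M 0 0 + M 1 1) = 0 := by linear_combination -h1
    exact (mul_eq_zero.1 this).resolve_left h2
  refine Subtype.ext (Units.ext ?_)
  show M * M = 1
  have hc := Matrix.aeval_self_charpoly M
  rw [Matrix.charpoly_fin_two, htr, hdet] at hc
  simpa [sq, sub_eq_zero, ← sub_eq_add_neg] using hc

variable {n : ℕ} {Q : QuadraticForm F (Fin n → F)} {c : F}

/-- The subgroup of the statement. -/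
def classSubgroup (Q : QuadraticForm F (Fin n → F)) (c : F) : Subgroup ↥(Cfsg.isometryGroup F ⇑Q) :=
  Subgroup.closure {g : ↥(Cfsg.isometryGroup F ⇑Q) | ∃ (v : Fin n → F) (t : F), t ≠ 0 ∧ Q v = c * t ^ 2 ∧
    ((g : GeneralLinearGroup (Fin n) F) : Matrix (Fin n) (Fin n) F) = Cfsg.reflectionMatrix ⇑Q v}

theorem refl_mem {v : Fin n → F} (hv : Q v ≠ 0) {t : F} (ht : Q v = c * t ^ 2) :
    refl Q v hv ∈ classSubgroup Q c := by
  refine Subgroup.subset_closure ⟨v, t, ?_, ht, rfl⟩
  rintro rfl
  simp [ht] at hv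

theorem refl_mem_of_isSquare (hc : c ≠ 0) {v : Fin n → F} (hv : Q v ≠ 0) (h : IsSquare (Q v * c)) :
    refl Q v hv ∈ classSubgroup Q c := by
  obtain ⟨r, hr⟩ := h
  exact refl_mem hv (t := r / c) (by field_simp; linear_combination hr)

theorem classSubgroup_normal : (classSubgroup Q c).Normal := by
  refine ⟨fun h hh g => ?_⟩
  induction hh using Subgroup.closure_induction with
  | mem x hx =>
    obtain ⟨v, t, ht, hv, hx⟩ := hx
    by_cases hc : c = 0
    · subst hc
      have hv0 : Q v = 0 := by rw [hv, zero_mul]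
      have : x = 1 := Subtype.ext (Units.ext (by
        rw [hx, Cfsg.reflectionMatrix, hv0, _root_.inv_zero, zero_smul, sub_zero]; simp))
      subst this; simp
    · have hv0 : Q v ≠ 0 := by rw [hv]; exact mul_ne_zero hc (pow_ne_zero _ ht)
      obtain rfl : x = refl Q v hv0 := Subtype.ext (Units.ext hx)
      rw [conj_refl]
      exact refl_mem _ (t := t) (by rw [act_map, hv])
  | one => simp
  | mul a b _ _ ha hb =>
    rw [show g * (a * b) * g⁻¹ = (g * a * g⁻¹) * (g * b * g⁻¹) by group]
    exact mul_mem ha hb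
  | inv a _ ha =>
    rw [show g * a⁻¹ * g⁻¹ = (g * a * g⁻¹)⁻¹ by group]
    exact inv_mem ha

/-- Orthogonal vectors of equal norm. -/
theorem mem_of_orth (h2 : (2 : F) ≠ 0) {v u : Fin n → F} (hv : Q v ≠ 0) (hu : Q u ≠ 0) (he : Q u = Q v)
    (hvu : QuadraticMap.polar (⇑Q) v u = 0) (hc : c ≠ 0) : refl Q v hv * refl Q u hu ∈ classSubgroup Q c := by
  have hchar : ringChar F ≠ 2 := fun h => h2 (by
    have := ringChar.Nat.cast_ringChar (R := F); rw [h] at this; exact_mod_cast this)
  obtain ⟨α, β, h⟩ := FiniteField.exists_root_sum_quadratic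
    (f := Polynomial.X ^ 2) (g := Polynomial.X ^ 2 - Polynomial.C (c / Q v))
    (Polynomial.degree_X_pow 2) (Polynomial.degree_X_pow_sub_C two_pos _)
    (FiniteField.odd_card_of_char_ne_two hchar)
  simp at h
  have hαβ : Q v * (α ^ 2 + β ^ 2) = c := by
    have : α ^ 2 + β ^ 2 = c / Q v := by linear_combination h
    rw [this]; field_simp
  have hnorm : ∀ x y : F, Q (x • v + y • u) = Q v * (x ^ 2 + y ^ 2) := by
    intro x y
    rw [Forms.quadratic_map_add, QuadraticMap.map_smul, QuadraticMap.map_smul, LinearMap.map_smul₂, map_smul,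
      show QuadraticMap.polarBilin Q v u = 0 from hvu, he, smul_zero, smul_zero, add_zero, smul_eq_mul,
      smul_eq_mul]
    ring
  have ha : Q (α • v + β • u) = c := by rw [hnorm, hαβ]
  have hb : Q ((-β) • v + α • u) = c := by rw [hnorm, ← hαβ]; ring
  have e : refl Q v hv * refl Q u hu =
      refl Q (α • v + β • u) (ha.symm ▸ hc) * refl Q ((-β) • v + α • u) (hb.symm ▸ hc) := by
    refine isometry_ext Q fun x => ?_
    rw [act_mul, act_mul]
    simp only [act_refl, QuadraticMap.polar_sub_right, QuadraticMap.polar_smul_right,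
      QuadraticMap.polar_add_left, QuadraticMap.polar_smul_left, QuadraticMap.polar_add_right,
      QuadraticMap.polar_self, QuadraticMap.polar_comm (⇑Q) u v, hvu, ha, hb, smul_eq_mul, nsmul_eq_mul, he]
    rw [← hαβ]
    have hs : α ^ 2 + β ^ 2 ≠ 0 := fun hs => hc (by rw [← hαβ, hs, mul_zero])
    match_scalars <;> field_simp <;> ring
  rw [e]
  exact mul_mem (refl_mem _ (t := 1) (by rw [ha, one_pow, mul_one]))
    (refl_mem _ (t := 1) (by rw [hb, one_pow, mul_one]))

/-- The planes: two vectors of equal norm outside the class of `c`. -/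
theorem mem_of_dim_two {Q : QuadraticForm F (Fin 2 → F)} (hQ : (QuadraticMap.polarBilin Q).Nondegenerate)
    (h2 : (2 : F) ≠ 0) {v w : Fin 2 → F} (hv : Q v ≠ 0) (hw : Q w ≠ 0)
    (he : Q w = Q v) (hvc : ¬IsSquare (Q v * c)) (hc : c ≠ 0) :
    refl Q v hv * refl Q w hw ∈ classSubgroup Q c := by
  haveI := classSubgroup_normal (Q := Q) (c := c)
  set H := classSubgroup Q c with hH
  -- the product of a rotation with a reflection of the class is an involution
  obtain ⟨b, hb⟩ := exists_norm_eq_top hQ h2 (by simp) c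
  have hb0 : Q b ≠ 0 := hb ▸ hc
  have hbH : refl Q b hb0 ∈ H := refl_mem _ (t := 1) (by rw [hb, one_pow, mul_one])
  have hsq : ∀ (u : Fin 2 → F) (hu : Q u ≠ 0), (refl Q v hv * refl Q u hu) ^ 2 ∈ H := by
    intro u hu
    set ρ := refl Q v hv * refl Q u hu with hρ
    have hdet : ((refl Q b hb0 * ρ : ↥(Cfsg.isometryGroup F ⇑Q)) : GeneralLinearGroup (Fin 2) F).val.det = -1 := by
      show (Cfsg.reflectionMatrix ⇑Q b * (Cfsg.reflectionMatrix ⇑Q v * Cfsg.reflectionMatrix ⇑Q u)).det = -1
      rw [Matrix.det_mul, Matrix.det_mul, det_reflectionMatrix Q hb0, det_reflectionMatrix Q hv,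
        det_reflectionMatrix Q hu]
      ring
    have h1 := sq_eq_one_of_det hQ h2 _ hdet
    have h3 : refl Q b hb0 * (ρ * refl Q b hb0 * ρ⁻¹) = (ρ ^ 2)⁻¹ := by
      have h4 : refl Q b hb0 * ρ * refl Q b hb0 = ρ⁻¹ := eq_inv_of_mul_eq_one_left (by
        simpa [mul_assoc] using h1)
      rw [← mul_assoc, ← mul_assoc, h4, sq]
      exact (_root_.mul_inv_rev ρ ρ).symm
    exact inv_mem_iff.1 (h3 ▸ mul_mem hbH (‹H.Normal›.conj_mem _ hbH ρ))
  have hneg : ∀ h', refl Q (-w) h' = refl Q w hw := fun h' => refl_congr Q hw h' (neg_one_smul F w).symm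
  by_cases ha : Q (v + w) = 0
  · -- then `v - w` is anisotropic
    have hd : Q (v - w) = 4 * Q v := by
      have h1 := Forms.quadratic_map_add (Q := Q) v w
      rw [ha, he] at h1
      rw [sub_eq_add_neg, Forms.quadratic_map_add, QuadraticMap.map_neg, map_neg, he]
      linear_combination h1
    have hd0 : Q (v - w) ≠ 0 := by
      rw [hd]; exact mul_ne_zero (by rw [show (4 : F) = 2 * 2 by norm_num]; exact mul_ne_zero h2 h2) hv
    have hp : QuadraticMap.polar (⇑Q) v w = -(2 * Q v) := by
      have h1 := Forms.quadratic_map_add (Q := Q) v w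
      rw [ha, he] at h1
      change 0 = Q v + Q v + QuadraticMap.polar (⇑Q) v w at h1
      linear_combination -h1
    have hmap : act Q (refl Q (v - w) hd0) v = w := by
      rw [act_refl, QuadraticMap.polar_sub_left, QuadraticMap.polar_self, QuadraticMap.polar_comm (⇑Q) w v, hp,
        nsmul_eq_mul, hd, show ((2 : ℕ) : F) * Q v - -(2 * Q v) = 4 * Q v by push_cast; ring,
        inv_mul_cancel₀ (hd ▸ hd0), one_smul]
      abel
    have e : refl Q w hw = refl Q (v - w) hd0 * refl Q v hv * (refl Q (v - w) hd0)⁻¹ := by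
      simp only [conj_refl, hmap]
    by_cases hcl : IsSquare (Q (v - w) * c)
    · have hin := refl_mem_of_isSquare hc hd0 hcl
      rw [e, ← mul_assoc, ← mul_assoc]
      exact mul_mem (‹H.Normal›.conj_mem _ hin (refl Q v hv) |> fun h => by
        rwa [inv_eq_of_mul_eq_one_right (refl_mul_self Q v hv)] at h) (inv_mem hin)
    · rw [e, inv_eq_of_mul_eq_one_right (refl_mul_self Q (v - w) hd0), ← mul_assoc, ← mul_assoc]
      simpa [sq, mul_assoc] using hsq (v - w) hd0
  · have hp : QuadraticMap.polar (⇑Q) v w = Q (v + w) - 2 * Q v := by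
      rw [QuadraticMap.polar, he]; ring
    have hmap : act Q (refl Q (v + w) ha) v = -w := by
      rw [act_refl, QuadraticMap.polar_add_left, QuadraticMap.polar_self, QuadraticMap.polar_comm (⇑Q) w v, hp,
        nsmul_eq_mul, show ((2 : ℕ) : F) * Q v + (Q (v + w) - 2 * Q v) = Q (v + w) by push_cast; ring,
        inv_mul_cancel₀ ha, one_smul]
      abel
    have e : refl Q w hw = refl Q (v + w) ha * refl Q v hv * (refl Q (v + w) ha)⁻¹ := by
      simp only [conj_refl, hmap, hneg]
    by_cases hcl : IsSquare (Q (v + w) * c)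
    · have hin := refl_mem_of_isSquare hc ha hcl
      rw [e, ← mul_assoc, ← mul_assoc]
      exact mul_mem (‹H.Normal›.conj_mem _ hin (refl Q v hv) |> fun h => by
        rwa [inv_eq_of_mul_eq_one_right (refl_mul_self Q v hv)] at h) (inv_mem hin)
    · rw [e, inv_eq_of_mul_eq_one_right (refl_mul_self Q (v + w) ha), ← mul_assoc, ← mul_assoc]
      simpa [sq, mul_assoc] using hsq (v + w) ha

/-- Two vectors of equal norm, dimension at least four. -/
theorem mem_of_four_le (hQ : (QuadraticMap.polarBilin Q).Nondegenerate) (h2 : (2 : F) ≠ 0)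
    (h4 : 4 ≤ n) (h43 : ¬(n = 4 ∧ Fintype.card F = 3)) (heven : Even n) (hc : c ≠ 0)
    {v w : Fin n → F} (hv : Q v ≠ 0) (hw : Q w ≠ 0) (he : Q w = Q v) :
    refl Q v hv * refl Q w hw ∈ classSubgroup Q c := by
  classical
  set P := pB Q with hP
  have hvv : ∀ x, P x x = 2 * Q x := pB_self Q
  have h2v : 2 * Q v ≠ 0 := mul_ne_zero h2 hv
  have trans' : ∀ (a b e : Fin n → F) (ha : Q a ≠ 0) (hb : Q b ≠ 0) (he : Q e ≠ 0),
      refl Q a ha * refl Q b hb ∈ classSubgroup Q c → refl Q b hb * refl Q e he ∈ classSubgroup Q c →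
      refl Q a ha * refl Q e he ∈ classSubgroup Q c := by
    intro a b e ha hb he h1 h3
    have := mul_mem h1 h3
    rwa [mul_assoc, ← mul_assoc (refl Q b hb), refl_mul_self, one_mul] at this
  -- a common perpendicular vector of norm `Q v`
  have perp : ∀ (k : ℕ) (s : Fin k → (Fin n → F)), k + 2 ≤ n →
      Submodule.span F (Set.range s) ⊓ P.orthogonal (Submodule.span F (Set.range s)) = ⊥ →
      ∃ u, Q u = Q v ∧ ∀ i, QuadraticMap.polar (⇑Q) (s i) u = 0 := by
    intro k s hk hdis
    have hrank : Module.finrank F (Submodule.span F (Set.range s)) ≤ k :=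
      (finrank_range_le_card s).trans_eq (Fintype.card_fin k)
    obtain ⟨u, hu, hQu⟩ := exists_norm_eq Q h2 (inf_orthogonal_orth hQ hdis)
      (by rw [LinearMap.BilinForm.finrank_orthogonal hQ, Module.finrank_fin_fun]; omega) (Q v)
    exact ⟨u, hQu, fun i => hu _ (Submodule.subset_span ⟨i, rfl⟩)⟩
  have plane : ∀ (a b : Fin n → F) (ha : Q a ≠ 0) (hb : Q b ≠ 0), Q a = Q v → Q b = Q v →
      (QuadraticMap.polar (⇑Q) a b) ^ 2 ≠ (2 * Q v) ^ 2 →
      refl Q a ha * refl Q b hb ∈ classSubgroup Q c := by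
    intro a b ha hb hea heb hab
    obtain ⟨u, hu, hperp⟩ := perp 2 ![a, b] h4 (by
      refine eq_bot_iff.2 fun x hx => ?_
      obtain ⟨coef, rfl⟩ := (Submodule.mem_span_range_iff_exists_fun F).1 hx.1
      have e1 : P a (∑ i, coef i • ![a, b] i) = 0 := hx.2 a (Submodule.subset_span ⟨0, rfl⟩)
      have e2 : P b (∑ i, coef i • ![a, b] i) = 0 := hx.2 b (Submodule.subset_span ⟨1, rfl⟩)
      have hba : P b a = P a b := QuadraticMap.polar_comm Q b a
      simp [Fin.sum_univ_two, hvv, hea, heb, hba] at e1 e2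
      set t := P a b
      have hD : (2 * Q v) ^ 2 - t ^ 2 ≠ 0 := sub_ne_zero.2 (Ne.symm hab)
      have c0 : coef 0 = 0 := by
        refine (mul_eq_zero.1 (?_ : ((2 * Q v) ^ 2 - t ^ 2) * coef 0 = 0)).resolve_left hD
        linear_combination (2 * Q v) * e1 - t * e2
      have c1 : coef 1 = 0 := by
        refine (mul_eq_zero.1 (?_ : ((2 * Q v) ^ 2 - t ^ 2) * coef 1 = 0)).resolve_left hD
        linear_combination (2 * Q v) * e2 - t * e1
      simp [Fin.sum_univ_two, c0, c1])
    have hu0 : Q u ≠ 0 := by rw [hu]; exact hv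
    refine trans' a u b ha hu0 hb (mem_of_orth h2 ha hu0 (hu.trans hea.symm) (hperp 0) hc) ?_
    exact mem_of_orth h2 hu0 hb (heb.trans hu.symm) ((QuadraticMap.polar_comm _ _ _).trans (hperp 1)) hc
  by_cases ht : (QuadraticMap.polar (⇑Q) v w) ^ 2 = (2 * Q v) ^ 2
  swap
  · exact plane v w hv hw rfl he ht
  set r := QuadraticMap.polar (⇑Q) v w / (2 * Q v) with hr
  have hrt : QuadraticMap.polar (⇑Q) v w = r * (2 * Q v) := by rw [hr, div_mul_cancel₀ _ h2v]
  have hr2 : r ^ 2 = 1 := by rw [hr, div_pow, ht, div_self (pow_ne_zero _ h2v)]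
  set z := w - r • v with hz
  have hwz : w = r • v + z := by rw [hz]; abel
  have hvz : P v z = 0 := by
    rw [hz, map_sub, map_smul, hvv, smul_eq_mul]
    show QuadraticMap.polar (⇑Q) v w - _ = 0
    rw [hrt]; ring
  have hQz : Q z = 0 := by
    have := Forms.quadratic_map_add (Q := Q) (r • v) z
    rw [← hwz, he, QuadraticMap.map_smul, LinearMap.map_smul₂, smul_eq_mul] at this
    rw [show QuadraticMap.polarBilin Q v z = 0 from hvz, smul_zero, add_zero] at this
    linear_combination -this - Q v * hr2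
  rcases eq_or_ne z 0 with hz0 | hz0
  · rw [hz0, add_zero] at hwz
    rw [refl_congr Q hv hw hwz, refl_mul_self]
    exact one_mem _
  obtain ⟨y, hy⟩ : ∃ y, P v y = 0 ∧ P z y = 1 ∧ Q y = 0 := by
    obtain ⟨y0, hy0⟩ : ∃ y0, P z y0 ≠ 0 := by
      by_contra hne; push Not at hne; exact hz0 (hQ.1 z hne)
    set y1 := y0 - (P v y0 / (2 * Q v)) • v with hy1
    have hv1 : P v y1 = 0 := by rw [hy1, map_sub, map_smul, hvv, smul_eq_mul, div_mul_cancel₀ _ h2v, sub_self]
    have hz1 : P z y1 = P z y0 := by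
      rw [hy1, map_sub, map_smul, show P z v = 0 from (QuadraticMap.polar_comm Q z v).trans hvz, smul_zero,
        sub_zero]
    set y2 := (P z y0)⁻¹ • y1 with hy2
    have hv2 : P v y2 = 0 := by rw [hy2, map_smul, hv1, smul_zero]
    have hz2 : P z y2 = 1 := by rw [hy2, map_smul, hz1, smul_eq_mul, inv_mul_cancel₀ hy0]
    have hzz : P z z = 0 := by rw [hvv, hQz, mul_zero]
    refine ⟨y2 - Q y2 • z, ?_, ?_, ?_⟩
    · rw [map_sub, hv2, map_smul, hvz, smul_zero, sub_zero]
    · rw [map_sub, hz2, map_smul, hzz, smul_zero, sub_zero]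
    · have h21 : QuadraticMap.polar (⇑Q) z y2 = 1 := hz2
      rw [apply_sub_smul, hQz, h21]
      ring
  obtain ⟨hvy, hzy, hQy⟩ := hy
  by_cases hq : Fintype.card F = 3
  · have hn6 : 3 + 2 ≤ n := by
      have : n ≠ 4 := fun h => h43 ⟨h, hq⟩
      omega
    obtain ⟨u, hu, hperp⟩ := perp 3 ![v, z, y] hn6 (by
      refine eq_bot_iff.2 fun x hx => ?_
      obtain ⟨coef, rfl⟩ := (Submodule.mem_span_range_iff_exists_fun F).1 hx.1
      have e0 : P v (∑ i, coef i • ![v, z, y] i) = 0 := hx.2 v (Submodule.subset_span ⟨0, rfl⟩)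
      have e1 : P z (∑ i, coef i • ![v, z, y] i) = 0 := hx.2 z (Submodule.subset_span ⟨1, rfl⟩)
      have e2 : P y (∑ i, coef i • ![v, z, y] i) = 0 := hx.2 y (Submodule.subset_span ⟨2, rfl⟩)
      have s1 : P z v = 0 := (QuadraticMap.polar_comm Q z v).trans hvz
      have s2 : P y v = 0 := (QuadraticMap.polar_comm Q y v).trans hvy
      have s3 : P y z = 1 := (QuadraticMap.polar_comm Q y z).trans hzy
      have s4 : P z z = 0 := by rw [hvv, hQz, mul_zero]
      have s5 : P y y = 0 := by rw [hvv, hQy, mul_zero]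
      simp [Fin.sum_univ_three, hvv v, hvz, hvy, hzy, s1, s2, s3, s4, s5, h2, hv] at e0 e1 e2
      simp [Fin.sum_univ_three, e0, e1, e2])
    have hu0 : Q u ≠ 0 := by rw [hu]; exact hv
    have huw : QuadraticMap.polar (⇑Q) u w = 0 := by
      rw [hwz, QuadraticMap.polar_add_right, QuadraticMap.polar_smul_right, QuadraticMap.polar_comm _ u v,
        QuadraticMap.polar_comm _ u z, show QuadraticMap.polar (⇑Q) v u = 0 from hperp 0,
        show QuadraticMap.polar (⇑Q) z u = 0 from hperp 1, smul_zero, add_zero]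
    exact trans' v u w hv hu0 hw (mem_of_orth h2 hv hu0 hu (hperp 0) hc)
      (mem_of_orth h2 hu0 hw (he.trans hu.symm) huw hc)
  · obtain ⟨s, -, hs⟩ := Finset.exists_mem_notMem_of_card_lt_card
      (s := ({0, 2 * Q v, -(2 * Q v)} : Finset F)) (t := (Finset.univ : Finset F))
      (Finset.card_le_three.trans_lt (by
        rw [Finset.card_univ]
        have h1 : 1 < Fintype.card F := Fintype.one_lt_card
        have hchar : ringChar F ≠ 2 := fun h => h2 (by
          have := ringChar.Nat.cast_ringChar (R := F); rw [h] at this; exact_mod_cast this)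
        have hodd := FiniteField.odd_card_of_char_ne_two hchar
        omega))
    simp only [Finset.mem_insert, Finset.mem_singleton, not_or] at hs
    obtain ⟨hs0, hs1, hs2⟩ := hs
    set u := (Q v / s) • z + s • y with hu'
    have hu : Q u = Q v := by
      rw [hu', Forms.quadratic_map_add, QuadraticMap.map_smul, QuadraticMap.map_smul, hQz, hQy,
        LinearMap.map_smul₂, map_smul, show QuadraticMap.polarBilin Q z y = 1 from hzy]
      simp only [smul_eq_mul, mul_zero, zero_add, mul_one]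
      field_simp
    have hu0 : Q u ≠ 0 := by rw [hu]; exact hv
    have hvu : QuadraticMap.polar (⇑Q) v u = 0 := by
      show P v u = 0
      rw [hu', map_add, map_smul, map_smul, hvz, hvy, smul_zero, smul_zero, add_zero]
    have huw : QuadraticMap.polar (⇑Q) u w = s := by
      rw [hwz, QuadraticMap.polar_add_right, QuadraticMap.polar_smul_right, QuadraticMap.polar_comm _ u v, hvu,
        smul_zero, zero_add, QuadraticMap.polar_comm]
      show P z u = s
      rw [hu', map_add, map_smul, map_smul, hvv z, hQz, hzy, mul_zero, smul_zero, zero_add, smul_eq_mul, mul_one]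
    refine trans' v u w hv hu0 hw (mem_of_orth h2 hv hu0 hu hvu hc)
      (plane u w hu0 hw hu he ?_)
    rw [huw]
    exact fun h => (sq_eq_sq_iff_eq_or_eq_neg.1 h).elim hs1 hs2

/-- For q odd, n ≥ 2 even, Q with non-degenerate polar form (n, |F|) ≠ (4, 3), and a fixed c ≠ 0: the subgroup of the isometry group generated by the reflections r_v with Q(v) ∈ c·(F^×)² has index 2. -/
theorem result {F : Type*} [Field F] [Fintype F] (h2 : (2 : F) ≠ 0) {n : ℕ} (hn : 2 ≤ n) (heven : Even n) (Q : QuadraticForm F (Fin n → F)) (hQ : (QuadraticMap.polarBilin Q).Nondegenerate) (h43 : ¬ (n = 4 ∧ Fintype.card F = 3)) (c : F) (hc : c ≠ 0) : (Subgroup.closure {g : ↥(Cfsg.isometryGroup F ⇑Q) | ∃ (v : Fin n → F) (t : F), t ≠ 0 ∧ Q v = c * t ^ 2 ∧ ((g : Matrix.GeneralLinearGroup (Fin n) F) : Matrix (Fin n) (Fin n) F) = Cfsg.reflectionMatrix ⇑Q v}).index = 2 := by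
  classical
  have hchar : ringChar F ≠ 2 := fun h => h2 (by
    have := ringChar.Nat.cast_ringChar (R := F); rw [h] at this; exact_mod_cast this)
  show (classSubgroup Q c).index = 2
  haveI := classSubgroup_normal (Q := Q) (c := c)
  obtain ⟨ε, hε⟩ := FiniteField.exists_nonsquare hchar
  have hε0 : ε ≠ 0 := by rintro rfl; exact hε IsSquare.zero
  obtain ⟨χ, hχ⟩ := exists_hom_refl Q h2 hc
  obtain ⟨v0, hv0⟩ := exists_norm_eq_top hQ h2 (by simpa using hn) (c * ε)
  have hv00 : Q v0 ≠ 0 := by rw [hv0]; exact mul_ne_zero hc hε0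
  have hv0c : ¬IsSquare (Q v0 * c) := by
    rw [hv0]
    rintro ⟨r, hr⟩
    exact hε ⟨r / c, by field_simp; linear_combination hr⟩
  have hle : classSubgroup Q c ≤ χ.ker := by
    rw [classSubgroup, Subgroup.closure_le]
    rintro g ⟨v, t, ht, hv, hg⟩
    have hv' : Q v ≠ 0 := by rw [hv]; exact mul_ne_zero hc (pow_ne_zero _ ht)
    obtain rfl : g = refl Q v hv' := Subtype.ext (Units.ext hg)
    rw [SetLike.mem_coe, MonoidHom.mem_ker, hχ, if_pos]
    exact ⟨c * t, by rw [hv]; ring⟩
  -- all reflections outside the class agree modulo the subgroup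
  have key : ∀ v (hv : Q v ≠ 0), ¬IsSquare (Q v * c) → refl Q v hv * refl Q v0 hv00 ∈ classSubgroup Q c := by
    intro v hv hvc
    have hsq : IsSquare (Q v0 * Q v) := by
      have h1 := quadraticChar_neg_one_iff_not_isSquare.2 hv0c
      have h3 := quadraticChar_neg_one_iff_not_isSquare.2 hvc
      rw [map_mul] at h1 h3
      rw [← quadraticChar_one_iff_isSquare (mul_ne_zero hv00 hv), map_mul]
      have h5 : quadraticChar F c ^ 2 = 1 := quadraticChar_sq_one hc
      linear_combination -(quadraticChar F (Q v0) * quadraticChar F (Q v)) * h5 +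
        (quadraticChar F (Q v) * quadraticChar F c) * h1 - h3
    obtain ⟨r, hr⟩ := hsq
    have hr0 : r ≠ 0 := by rintro rfl; simp [hv, hv00] at hr
    set w := (r / Q v0) • v0 with hwdef
    have hw : Q w = Q v := by
      rw [hwdef, QuadraticMap.map_smul, smul_eq_mul]; field_simp; linear_combination -hr
    have hw0 : Q w ≠ 0 := by rw [hw]; exact hv
    rw [← refl_congr Q hv00 hw0 (c := r / Q v0) hwdef]
    rcases eq_or_lt_of_le hn with h | h
    · subst h
      exact mem_of_dim_two hQ h2 hv hw0 hw hvc hc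
    · exact mem_of_four_le hQ h2 (by obtain ⟨k, rfl⟩ := heven; omega) h43 heven hc hv hw0 hw
  have hmem : ∀ g, g ∈ classSubgroup Q c ∨ g * refl Q v0 hv00 ∈ classSubgroup Q c := by
    have hcomm : ∀ h ∈ classSubgroup Q c,
        refl Q v0 hv00 * h * refl Q v0 hv00 ∈ classSubgroup Q c := fun h hh => by
      have := (classSubgroup_normal (Q := Q) (c := c)).conj_mem h hh (refl Q v0 hv00)
      rwa [inv_eq_of_mul_eq_one_right (refl_mul_self Q v0 hv00)] at this
    intro g
    have hg : g ∈ Subgroup.closure {g : ↥(Cfsg.isometryGroup F ⇑Q) | ∃ v, ∃ hv : Q v ≠ 0, g = refl Q v hv} := by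
      rw [closure_refl_eq_top hQ h2]; trivial
    have hr2 := refl_mul_self Q v0 hv00
    induction hg using Subgroup.closure_induction with
    | mem x hx =>
      obtain ⟨v, hv, rfl⟩ := hx
      by_cases hvc : IsSquare (Q v * c)
      · exact Or.inl (refl_mem_of_isSquare hc hv hvc)
      · exact Or.inr (key v hv hvc)
    | one => exact Or.inl (one_mem _)
    | mul a b _ _ ha hb =>
      rcases ha with ha | ha <;> rcases hb with hb | hb
      · exact Or.inl (mul_mem ha hb)
      · exact Or.inr (by rw [mul_assoc]; exact mul_mem ha hb)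
      · refine Or.inr ?_
        have := mul_mem ha (hcomm b hb)
        rwa [← mul_assoc, ← mul_assoc, mul_assoc a, hr2, mul_one] at this
      · refine Or.inl ?_
        have := mul_mem ha (hcomm _ hb)
        rwa [mul_assoc (refl Q v0 hv00), mul_assoc b, hr2, mul_one, ← mul_assoc, mul_assoc a, hr2, mul_one] at this
    | inv a _ ha =>
      rcases ha with ha | ha
      · exact Or.inl (inv_mem ha)
      · refine Or.inr ?_
        have := hcomm _ (inv_mem ha)
        rwa [_root_.mul_inv_rev, inv_eq_of_mul_eq_one_right hr2, ← mul_assoc, hr2, one_mul] at this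
  rw [Subgroup.index_eq_two_iff]
  refine ⟨refl Q v0 hv00, fun b => ?_⟩
  rcases hmem b with hb | hb
  · refine Or.inr ⟨hb, fun h => ?_⟩
    have := hle ((Subgroup.mul_mem_cancel_left _ hb).1 h)
    rw [MonoidHom.mem_ker, hχ, if_neg hv0c] at this
    exact absurd this (by decide)
  · refine Or.inl ⟨hb, fun h => ?_⟩
    have := hle ((Subgroup.mul_mem_cancel_left _ h).1 hb)
    rw [MonoidHom.mem_ker, hχ, if_neg hv0c] at this
    exact absurd this (by decide)

end Cfsg.Agent.S0798
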