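import Cfsg.Statements.S0790
import Cfsg.Agent.Lib.QForm.SpinorApps

set_option autoImplicit false
open Cfsg
open scoped Matrix

namespace Cfsg.Agent.S0790

/-- −1 ∈ Ω⁺_2m(q) iff q^m ≡ 1 (mod 4), for q odd and m ≥ 1 (so that in the other case SO⁺_2m(q) = 2 × Ω⁺_2m(q)). -/
theorem result {F : Type*} [Field F] [Fintype F] {q : ℕ} (hF : Fintype.card F = q) (hodd : Odd q) (m : ℕ) (hm : 1 ≤ m) : (∃ g : ↥(Cfsg.isometryGroup F (Cfsg.quadFormPlus m F)), g ∈ Cfsg.Omega F (Cfsg.quadFormPlus m F) ∧ ((g : Matrix.GeneralLinearGroup (Fin m ⊕ Fin m) F) : Matrix (Fin m ⊕ Fin m) (Fin m ⊕ Fin m) F) = -1) ↔ q ^ m % 4 = 1 := by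
  classical
  have h2 := QForm.two_ne_zero_of_odd hF hodd
  have h := QForm.neg_one_mem_omega_iff h2 (Forms.quadPlus_nondegenerate (F := F) m)
    (by simp) (Pi.basisFun F (Fin m ⊕ Fin m))
  have hc : ⇑(Forms.quadPlus m F) = Cfsg.quadFormPlus m F := funext Forms.quadPlus_apply
  rw [show Forms.quadPlus m F = QForm.plusForm F m from QuadraticMap.ext fun v => by
    rw [Forms.quadPlus_apply, QForm.plusForm_apply], QForm.det_gram_plus, QForm.coe_plusForm] at h
  rw [h, QForm.isSquare_neg_one_pow_iff hF hodd, QForm.pow_mod_four_eq_one_iff hodd]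

end Cfsg.Agent.S0790
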