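import Cfsg.Statements.S5359
import Mathlib
import Cfsg.Agent.Lib.QForm.ReflectionClasses
import Cfsg.Agent.S0798

set_option autoImplicit false
open scoped MatrixGroups
open Cfsg

namespace Cfsg.Agent.S5359

open Cfsg.Agent Cfsg.Agent.QForm Cfsg.Agent.S0798 Matrix
open scoped Matrix

variable {F : Type*} [Field F] [Fintype F] {n : ℕ} {Q : QuadraticForm F (Fin n → F)} {c : F}

/-- Two vectors of equal norm, dimension at least four. -/
theorem mem_of_four_le (hQ : (QuadraticMap.polarBilin Q).Nondegenerate) (h2 : (2 : F) ≠ 0)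
    (h4 : 4 ≤ n) (h43 : ¬(n = 4 ∧ Fintype.card F = 3)) (hc : c ≠ 0)
    {v w : Fin n → F} (hv : Q v ≠ 0) (hw : Q w ≠ 0) (he : Q w = Q v) :
    refl Q v hv * refl Q w hw ∈ classSubgroup Q c := by
  classical
  set P := pB Q with hP
  have hvv : ∀ x, P x x = 2 * Q x := pB_self Q
  have h2v : 2 * Q v ≠ 0 := mul_ne_zero h2 hv
  have trans' : ∀ (a b e : Fin n → F) (ha : Q a ≠ 0) (hb : Q b ≠ 0) (he : Q e ≠ 0),
      refl Q a ha * refl Q b hb ∈ classSubgroup Q c → refl Q b hb * refl Q e he ∈ classSubgroup Q c →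
      refl Q a ha * refl Q e he ∈ classSubgroup Q c := by
    intro a b e ha hb he h1 h3
    have := mul_mem h1 h3
    rwa [mul_assoc, ← mul_assoc (refl Q b hb), refl_mul_self, one_mul] at this
  -- a common perpendicular vector of norm `Q v`
  have perp : ∀ (k : ℕ) (s : Fin k → (Fin n → F)), k + 2 ≤ n →
      Submodule.span F (Set.range s) ⊓ P.orthogonal (Submodule.span F (Set.range s)) = ⊥ →
      ∃ u, Q u = Q v ∧ ∀ i, QuadraticMap.polar (⇑Q) (s i) u = 0 := by
    intro k s hk hdis
    have hrank : Module.finrank F (Submodule.span F (Set.range s)) ≤ k :=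
      (finrank_range_le_card s).trans_eq (Fintype.card_fin k)
    obtain ⟨u, hu, hQu⟩ := exists_norm_eq Q h2 (inf_orthogonal_orth hQ hdis)
      (by rw [LinearMap.BilinForm.finrank_orthogonal hQ, Module.finrank_fin_fun]; omega) (Q v)
    exact ⟨u, hQu, fun i => hu _ (Submodule.subset_span ⟨i, rfl⟩)⟩
  have plane : ∀ (a b : Fin n → F) (ha : Q a ≠ 0) (hb : Q b ≠ 0), Q a = Q v → Q b = Q v →
      (QuadraticMap.polar (⇑Q) a b) ^ 2 ≠ (2 * Q v) ^ 2 →
      refl Q a ha * refl Q b hb ∈ classSubgroup Q c := by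
    intro a b ha hb hea heb hab
    obtain ⟨u, hu, hperp⟩ := perp 2 ![a, b] h4 (by
      refine eq_bot_iff.2 fun x hx => ?_
      obtain ⟨coef, rfl⟩ := (Submodule.mem_span_range_iff_exists_fun F).1 hx.1
      have e1 : P a (∑ i, coef i • ![a, b] i) = 0 := hx.2 a (Submodule.subset_span ⟨0, rfl⟩)
      have e2 : P b (∑ i, coef i • ![a, b] i) = 0 := hx.2 b (Submodule.subset_span ⟨1, rfl⟩)
      have hba : P b a = P a b := QuadraticMap.polar_comm Q b a
      simp [Fin.sum_univ_two, hvv, hea, heb, hba] at e1 e2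
      set t := P a b
      have hD : (2 * Q v) ^ 2 - t ^ 2 ≠ 0 := sub_ne_zero.2 (Ne.symm hab)
      have c0 : coef 0 = 0 := by
        refine (mul_eq_zero.1 (?_ : ((2 * Q v) ^ 2 - t ^ 2) * coef 0 = 0)).resolve_left hD
        linear_combination (2 * Q v) * e1 - t * e2
      have c1 : coef 1 = 0 := by
        refine (mul_eq_zero.1 (?_ : ((2 * Q v) ^ 2 - t ^ 2) * coef 1 = 0)).resolve_left hD
        linear_combination (2 * Q v) * e2 - t * e1
      simp [Fin.sum_univ_two, c0, c1])
    have hu0 : Q u ≠ 0 := by rw [hu]; exact hv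
    refine trans' a u b ha hu0 hb (mem_of_orth h2 ha hu0 (hu.trans hea.symm) (hperp 0) hc) ?_
    exact mem_of_orth h2 hu0 hb (heb.trans hu.symm) ((QuadraticMap.polar_comm _ _ _).trans (hperp 1)) hc
  by_cases ht : (QuadraticMap.polar (⇑Q) v w) ^ 2 = (2 * Q v) ^ 2
  swap
  · exact plane v w hv hw rfl he ht
  set r := QuadraticMap.polar (⇑Q) v w / (2 * Q v) with hr
  have hrt : QuadraticMap.polar (⇑Q) v w = r * (2 * Q v) := by rw [hr, div_mul_cancel₀ _ h2v]
  have hr2 : r ^ 2 = 1 := by rw [hr, div_pow, ht, div_self (pow_ne_zero _ h2v)]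
  set z := w - r • v with hz
  have hwz : w = r • v + z := by rw [hz]; abel
  have hvz : P v z = 0 := by
    rw [hz, map_sub, map_smul, hvv, smul_eq_mul]
    show QuadraticMap.polar (⇑Q) v w - _ = 0
    rw [hrt]; ring
  have hQz : Q z = 0 := by
    have := Forms.quadratic_map_add (Q := Q) (r • v) z
    rw [← hwz, he, QuadraticMap.map_smul, LinearMap.map_smul₂, smul_eq_mul] at this
    rw [show QuadraticMap.polarBilin Q v z = 0 from hvz, smul_zero, add_zero] at this
    linear_combination -this - Q v * hr2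
  rcases eq_or_ne z 0 with hz0 | hz0
  · rw [hz0, add_zero] at hwz
    rw [refl_congr Q hv hw hwz, refl_mul_self]
    exact one_mem _
  obtain ⟨y, hy⟩ : ∃ y, P v y = 0 ∧ P z y = 1 ∧ Q y = 0 := by
    obtain ⟨y0, hy0⟩ : ∃ y0, P z y0 ≠ 0 := by
      by_contra hne; push Not at hne; exact hz0 (hQ.1 z hne)
    set y1 := y0 - (P v y0 / (2 * Q v)) • v with hy1
    have hv1 : P v y1 = 0 := by rw [hy1, map_sub, map_smul, hvv, smul_eq_mul, div_mul_cancel₀ _ h2v, sub_self]
    have hz1 : P z y1 = P z y0 := by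
      rw [hy1, map_sub, map_smul, show P z v = 0 from (QuadraticMap.polar_comm Q z v).trans hvz, smul_zero,
        sub_zero]
    set y2 := (P z y0)⁻¹ • y1 with hy2
    have hv2 : P v y2 = 0 := by rw [hy2, map_smul, hv1, smul_zero]
    have hz2 : P z y2 = 1 := by rw [hy2, map_smul, hz1, smul_eq_mul, inv_mul_cancel₀ hy0]
    have hzz : P z z = 0 := by rw [hvv, hQz, mul_zero]
    refine ⟨y2 - Q y2 • z, ?_, ?_, ?_⟩
    · rw [map_sub, hv2, map_smul, hvz, smul_zero, sub_zero]
    · rw [map_sub, hz2, map_smul, hzz, smul_zero, sub_zero]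
    · have h21 : QuadraticMap.polar (⇑Q) z y2 = 1 := hz2
      rw [apply_sub_smul, hQz, h21]
      ring
  obtain ⟨hvy, hzy, hQy⟩ := hy
  by_cases hq : Fintype.card F = 3
  · have hn6 : 3 + 2 ≤ n := by
      have : n ≠ 4 := fun h => h43 ⟨h, hq⟩
      omega
    obtain ⟨u, hu, hperp⟩ := perp 3 ![v, z, y] hn6 (by
      refine eq_bot_iff.2 fun x hx => ?_
      obtain ⟨coef, rfl⟩ := (Submodule.mem_span_range_iff_exists_fun F).1 hx.1
      have e0 : P v (∑ i, coef i • ![v, z, y] i) = 0 := hx.2 v (Submodule.subset_span ⟨0, rfl⟩)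
      have e1 : P z (∑ i, coef i • ![v, z, y] i) = 0 := hx.2 z (Submodule.subset_span ⟨1, rfl⟩)
      have e2 : P y (∑ i, coef i • ![v, z, y] i) = 0 := hx.2 y (Submodule.subset_span ⟨2, rfl⟩)
      have s1 : P z v = 0 := (QuadraticMap.polar_comm Q z v).trans hvz
      have s2 : P y v = 0 := (QuadraticMap.polar_comm Q y v).trans hvy
      have s3 : P y z = 1 := (QuadraticMap.polar_comm Q y z).trans hzy
      have s4 : P z z = 0 := by rw [hvv, hQz, mul_zero]
      have s5 : P y y = 0 := by rw [hvv, hQy, mul_zero]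
      simp [Fin.sum_univ_three, hvv v, hvz, hvy, hzy, s1, s2, s3, s4, s5, h2, hv] at e0 e1 e2
      simp [Fin.sum_univ_three, e0, e1, e2])
    have hu0 : Q u ≠ 0 := by rw [hu]; exact hv
    have huw : QuadraticMap.polar (⇑Q) u w = 0 := by
      rw [hwz, QuadraticMap.polar_add_right, QuadraticMap.polar_smul_right, QuadraticMap.polar_comm _ u v,
        QuadraticMap.polar_comm _ u z, show QuadraticMap.polar (⇑Q) v u = 0 from hperp 0,
        show QuadraticMap.polar (⇑Q) z u = 0 from hperp 1, smul_zero, add_zero]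
    exact trans' v u w hv hu0 hw (mem_of_orth h2 hv hu0 hu (hperp 0) hc)
      (mem_of_orth h2 hu0 hw (he.trans hu.symm) huw hc)
  · obtain ⟨s, -, hs⟩ := Finset.exists_mem_notMem_of_card_lt_card
      (s := ({0, 2 * Q v, -(2 * Q v)} : Finset F)) (t := (Finset.univ : Finset F))
      (Finset.card_le_three.trans_lt (by
        rw [Finset.card_univ]
        have h1 : 1 < Fintype.card F := Fintype.one_lt_card
        have hchar : ringChar F ≠ 2 := fun h => h2 (by
          have := ringChar.Nat.cast_ringChar (R := F); rw [h] at this; exact_mod_cast this)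
        have hodd := FiniteField.odd_card_of_char_ne_two hchar
        omega))
    simp only [Finset.mem_insert, Finset.mem_singleton, not_or] at hs
    obtain ⟨hs0, hs1, hs2⟩ := hs
    set u := (Q v / s) • z + s • y with hu'
    have hu : Q u = Q v := by
      rw [hu', Forms.quadratic_map_add, QuadraticMap.map_smul, QuadraticMap.map_smul, hQz, hQy,
        LinearMap.map_smul₂, map_smul, show QuadraticMap.polarBilin Q z y = 1 from hzy]
      simp only [smul_eq_mul, mul_zero, zero_add, mul_one]
      field_simp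
    have hu0 : Q u ≠ 0 := by rw [hu]; exact hv
    have hvu : QuadraticMap.polar (⇑Q) v u = 0 := by
      show P v u = 0
      rw [hu', map_add, map_smul, map_smul, hvz, hvy, smul_zero, smul_zero, add_zero]
    have huw : QuadraticMap.polar (⇑Q) u w = s := by
      rw [hwz, QuadraticMap.polar_add_right, QuadraticMap.polar_smul_right, QuadraticMap.polar_comm _ u v, hvu,
        smul_zero, zero_add, QuadraticMap.polar_comm]
      show P z u = s
      rw [hu', map_add, map_smul, map_smul, hvv z, hQz, hzy, mul_zero, smul_zero, zero_add, smul_eq_mul, mul_one]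
    refine trans' v u w hv hu0 hw (mem_of_orth h2 hv hu0 hu hvu hc)
      (plane u w hu0 hw hu he ?_)
    rw [huw]
    exact fun h => (sq_eq_sq_iff_eq_or_eq_neg.1 h).elim hs1 hs2

/-- the index of the subgroup attached to one class of reflections -/
theorem index_two {F : Type*} [Field F] [Fintype F] (h2 : (2 : F) ≠ 0) {n : ℕ} (hn : 5 ≤ n) (Q : QuadraticForm F (Fin n → F)) (hQ : (QuadraticMap.polarBilin Q).Nondegenerate) (c : F) (hc : c ≠ 0) : (classSubgroup Q c).index = 2 := by
  have h43 : ¬ (n = 4 ∧ Fintype.card F = 3) := by omega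

  classical
  have hchar : ringChar F ≠ 2 := fun h => h2 (by
    have := ringChar.Nat.cast_ringChar (R := F); rw [h] at this; exact_mod_cast this)
  show (classSubgroup Q c).index = 2
  haveI := classSubgroup_normal (Q := Q) (c := c)
  obtain ⟨ε, hε⟩ := FiniteField.exists_nonsquare hchar
  have hε0 : ε ≠ 0 := by rintro rfl; exact hε IsSquare.zero
  obtain ⟨χ, hχ⟩ := exists_hom_refl Q h2 hc
  obtain ⟨v0, hv0⟩ := exists_norm_eq_top hQ h2 (by simp; omega) (c * ε)
  have hv00 : Q v0 ≠ 0 := by rw [hv0]; exact mul_ne_zero hc hε0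
  have hv0c : ¬IsSquare (Q v0 * c) := by
    rw [hv0]
    rintro ⟨r, hr⟩
    exact hε ⟨r / c, by field_simp; linear_combination hr⟩
  have hle : classSubgroup Q c ≤ χ.ker := by
    rw [classSubgroup, Subgroup.closure_le]
    rintro g ⟨v, t, ht, hv, hg⟩
    have hv' : Q v ≠ 0 := by rw [hv]; exact mul_ne_zero hc (pow_ne_zero _ ht)
    obtain rfl : g = refl Q v hv' := Subtype.ext (Units.ext hg)
    rw [SetLike.mem_coe, MonoidHom.mem_ker, hχ, if_pos]
    exact ⟨c * t, by rw [hv]; ring⟩
  -- all reflections outside the class agree modulo the subgroup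
  have key : ∀ v (hv : Q v ≠ 0), ¬IsSquare (Q v * c) → refl Q v hv * refl Q v0 hv00 ∈ classSubgroup Q c := by
    intro v hv hvc
    have hsq : IsSquare (Q v0 * Q v) := by
      have h1 := quadraticChar_neg_one_iff_not_isSquare.2 hv0c
      have h3 := quadraticChar_neg_one_iff_not_isSquare.2 hvc
      rw [map_mul] at h1 h3
      rw [← quadraticChar_one_iff_isSquare (mul_ne_zero hv00 hv), map_mul]
      have h5 : quadraticChar F c ^ 2 = 1 := quadraticChar_sq_one hc
      linear_combination -(quadraticChar F (Q v0) * quadraticChar F (Q v)) * h5 +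
        (quadraticChar F (Q v) * quadraticChar F c) * h1 - h3
    obtain ⟨r, hr⟩ := hsq
    have hr0 : r ≠ 0 := by rintro rfl; simp [hv, hv00] at hr
    set w := (r / Q v0) • v0 with hwdef
    have hw : Q w = Q v := by
      rw [hwdef, QuadraticMap.map_smul, smul_eq_mul]; field_simp; linear_combination -hr
    have hw0 : Q w ≠ 0 := by rw [hw]; exact hv
    rw [← refl_congr Q hv00 hw0 (c := r / Q v0) hwdef]
    exact mem_of_four_le hQ h2 (by omega) h43 hc hv hw0 hw
  have hmem : ∀ g, g ∈ classSubgroup Q c ∨ g * refl Q v0 hv00 ∈ classSubgroup Q c := by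
    have hcomm : ∀ h ∈ classSubgroup Q c,
        refl Q v0 hv00 * h * refl Q v0 hv00 ∈ classSubgroup Q c := fun h hh => by
      have := (classSubgroup_normal (Q := Q) (c := c)).conj_mem h hh (refl Q v0 hv00)
      rwa [inv_eq_of_mul_eq_one_right (refl_mul_self Q v0 hv00)] at this
    intro g
    have hg : g ∈ Subgroup.closure {g : ↥(Cfsg.isometryGroup F ⇑Q) | ∃ v, ∃ hv : Q v ≠ 0, g = refl Q v hv} := by
      rw [closure_refl_eq_top hQ h2]; trivial
    have hr2 := refl_mul_self Q v0 hv00
    induction hg using Subgroup.closure_induction with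
    | mem x hx =>
      obtain ⟨v, hv, rfl⟩ := hx
      by_cases hvc : IsSquare (Q v * c)
      · exact Or.inl (refl_mem_of_isSquare hc hv hvc)
      · exact Or.inr (key v hv hvc)
    | one => exact Or.inl (one_mem _)
    | mul a b _ _ ha hb =>
      rcases ha with ha | ha <;> rcases hb with hb | hb
      · exact Or.inl (mul_mem ha hb)
      · exact Or.inr (by rw [mul_assoc]; exact mul_mem ha hb)
      · refine Or.inr ?_
        have := mul_mem ha (hcomm b hb)
        rwa [← mul_assoc, ← mul_assoc, mul_assoc a, hr2, mul_one] at this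
      · refine Or.inl ?_
        have := mul_mem ha (hcomm _ hb)
        rwa [mul_assoc (refl Q v0 hv00), mul_assoc b, hr2, mul_one, ← mul_assoc, mul_assoc a, hr2, mul_one] at this
    | inv a _ ha =>
      rcases ha with ha | ha
      · exact Or.inl (inv_mem ha)
      · refine Or.inr ?_
        have := hcomm _ (inv_mem ha)
        rwa [_root_.mul_inv_rev, inv_eq_of_mul_eq_one_right hr2, ← mul_assoc, hr2, one_mul] at this
  rw [Subgroup.index_eq_two_iff]
  refine ⟨refl Q v0 hv00, fun b => ?_⟩
  rcases hmem b with hb | hb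
  · refine Or.inr ⟨hb, fun h => ?_⟩
    have := hle ((Subgroup.mul_mem_cancel_left _ hb).1 h)
    rw [MonoidHom.mem_ker, hχ, if_neg hv0c] at this
    exact absurd this (by decide)
  · refine Or.inl ⟨hb, fun h => ?_⟩
    have := hle ((Subgroup.mul_mem_cancel_left _ h).1 hb)
    rw [MonoidHom.mem_ker, hχ, if_neg hv0c] at this
    exact absurd this (by decide)



/-- Let Q be a non-degenerate quadratic form on the n-dimensional coordinate space over the field with three elements, n odd and at least 5, and c a non-zero scalar. Then the subgroup of the isometry group of Q generated by the reflections in vectors of norm c has index 2 in the isometry group. -/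
theorem result (n : ℕ) (hn : 5 ≤ n) (hodd : Odd n) (Q : QuadraticForm (ZMod 3) (Fin n → ZMod 3)) (hQ : (QuadraticMap.polarBilin Q).Nondegenerate) (c : ZMod 3) (hc : c ≠ 0) : (Cfsg.reflectionSubgroup (⇑Q) c).index = 2 := by
  rw [← index_two (F := ZMod 3) (by decide) hn Q hQ c hc]
  congr 1
  apply congrArg Subgroup.closure
  ext g
  constructor
  · rintro ⟨v, hv, hg⟩
    exact ⟨v, 1, one_ne_zero, by rw [hv, one_pow, mul_one], hg⟩
  · rintro ⟨v, t, ht, hv, hg⟩
    have h : ∀ t : ZMod 3, t ≠ 0 → t ^ 2 = 1 := by decide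
    exact ⟨v, by rw [hv, h t ht, mul_one], hg⟩

end Cfsg.Agent.S5359
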