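import Cfsg.Statements.S5361
import Cfsg.Agent.Lib.Fischer.Primitive

set_option autoImplicit false
open Cfsg

namespace Cfsg.Agent.S5361

open Cfsg.Agent.Fischer
open scoped commutatorElement

/-- Statement S5361: simple derived group, primitivity and connected commuting graph. -/
theorem result {G : Type*} [Group G] [Finite G] {D : Set G} (hD : Cfsg.IsThreeTranspositionClass D) (hZ : Subgroup.center G = ⊥) (hw : ∃ a ∈ D, ∃ b ∈ D, a ≠ b ∧ Commute a b) : (IsSimpleGroup (commutator G) ↔ Cfsg.IsPrimitiveUnderConj D) ∧ (Cfsg.IsPrimitiveUnderConj D ↔ (Cfsg.pCore 2 G = ⊥ ∧ Cfsg.pCore 3 G = ⊥ ∧ (Cfsg.commutingGraph D).Connected)) := by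
  have hT := TClass.of hD
  obtain ⟨a, ha, b, hb, hab, hc⟩ := hw
  have hD2 : ∃ p ∈ D, ∃ q ∈ D, p ≠ q := ⟨a, ha, b, hb, hab⟩
  have hfwd : Cfsg.IsPrimitiveUnderConj D → IsSimpleGroup (commutator G) ∧
      Cfsg.pCore 2 G = ⊥ ∧ Cfsg.pCore 3 G = ⊥ ∧ (Cfsg.commutingGraph D).Connected := by
    intro hprim
    obtain ⟨h2, h3⟩ := cores_central hT hprim ⟨a, ha, b, hb, hab, hc⟩
    have hconn := connected_of_primitive hT hprim ⟨a, ha, b, hb, hab, hc⟩
    refine ⟨?_, eq_bot_iff.2 (h2.trans hZ.le), eq_bot_iff.2 (h3.trans hZ.le), hconn⟩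
    obtain ⟨L, hLn, hL, -⟩ := exists_normal_component hT hD2 h2 h3
    have heq : commutator G = L := le_antisymm
      (commutator_le_of_index hT (index_le_two_of_connected hT hL hconn))
      (component_le_commutator hT hL)
    rw [heq]
    have hs := hL.2.2
    have hcb : Subgroup.center L = ⊥ := by
      have : ((Subgroup.center L).map L.subtype).Normal := inferInstance
      have hsol : Group.IsSolvable ((Subgroup.center L).map L.subtype) :=
        Group.isSolvable_of_comm fun p q => by
          obtain ⟨p', hp', hpe⟩ := p.2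
          obtain ⟨q', -, hqe⟩ := q.2
          apply Subtype.ext
          show (p : G) * q = q * p
          rw [← hpe, ← hqe]
          exact (congrArg Subtype.val (Subgroup.mem_center_iff.1 hp' q')).symm
      have := (solvable_le_center hT hD2 h2 h3 (N := (Subgroup.center L).map L.subtype)).trans hZ.le
      rwa [← eq_bot_iff, Subgroup.map_eq_bot_iff_of_injective _ L.subtype_injective] at this
    let e : (L ⧸ Subgroup.center L) ≃* L :=
      (QuotientGroup.quotientMulEquivOfEq hcb).trans QuotientGroup.quotientBot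
    exact e.symm.isSimpleGroup
  have hback : (Cfsg.pCore 2 G = ⊥ ∧ Cfsg.pCore 3 G = ⊥ ∧ (Cfsg.commutingGraph D).Connected) →
      Cfsg.IsPrimitiveUnderConj D := by
    rintro ⟨h2, h3, hconn⟩
    have h2' : Cfsg.pCore 2 G ≤ Subgroup.center G := h2.le.trans bot_le
    have h3' : Cfsg.pCore 3 G ≤ Subgroup.center G := h3.le.trans bot_le
    obtain ⟨L, hLn, hL, -⟩ := exists_normal_component hT hD2 h2' h3'
    exact primitive_of_index hT hD2 hL h2' h3' (index_le_two_of_connected hT hL hconn)
  refine ⟨⟨fun hs => ?_, fun h => (hfwd h).1⟩, fun h => (hfwd h).2, hback⟩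
  have hmem : ∀ {p q : G}, p ∈ D → q ∈ D → p * q ∈ commutator G :=
    fun hp hq => pair_mem_commutator hT hp hq
  have hcases : ∀ N : Subgroup G, N.Normal → N ⊓ commutator G = ⊥ ∨ commutator G ≤ N := by
    intro N hN
    have : (N.subgroupOf (commutator G)).Normal := inferInstance
    rcases this.eq_bot_or_eq_top with h | h
    · exact Or.inl (disjoint_iff.1 (Subgroup.subgroupOf_eq_bot.1 h))
    · exact Or.inr (Subgroup.subgroupOf_eq_top.1 h)
  -- a normal subgroup meeting the derived group trivially is central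
  have hbot : ∀ N : Subgroup G, N.Normal → N ⊓ commutator G = ⊥ → N = ⊥ := by
    intro N hN h
    rw [eq_bot_iff, ← hZ]
    intro g hg
    refine Subgroup.mem_center_iff.2 fun k => ?_
    rw [← commutatorElement_eq_one_iff_mul_comm, ← Subgroup.mem_bot, ← h]
    refine ⟨?_, Subgroup.commutator_mem_commutator (Subgroup.mem_top _) (Subgroup.mem_top _)⟩
    show ⁅k, g⁆ ∈ N
    rw [commutatorElement_def]
    exact mul_mem (hN.conj_mem g hg k) (inv_mem hg)
  have hns : ¬Group.IsSolvable (commutator G) := by
    intro hsol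
    have hcomm : ∀ p q : commutator G, p * q = q * p := IsSimpleGroup.comm_iff_isSolvable.2 hsol
    have hprime : (Nat.card (commutator G)).Prime :=
      haveI : IsMulCommutative (commutator G) := ⟨⟨hcomm⟩⟩
      Group.is_simple_iff_prime_card.1 hs
    have habm : (a * b) ^ 2 = 1 := by
      rw [hc.mul_pow, pow_two, pow_two, hT.sq a ha, hT.sq b hb, one_mul]
    have habne : (⟨a * b, hmem ha hb⟩ : commutator G) ≠ 1 := fun h => hab (by
      have h' : a * b = 1 := congrArg Subtype.val h
      rwa [mul_eq_one_iff_inv_eq, hT.toTSet.inv_eq ha] at h')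
    have : Fact (Nat.Prime 2) := ⟨Nat.prime_two⟩
    have hord : orderOf (⟨a * b, hmem ha hb⟩ : commutator G) = 2 :=
      orderOf_eq_prime (Subtype.ext habm) habne
    have hcard : Nat.card (commutator G) = 2 := by
      have := (Nat.prime_dvd_prime_iff_eq Nat.prime_two hprime).1 (hord ▸ orderOf_dvd_natCard _)
      exact this.symm
    have hcen : commutator G ≤ Subgroup.center G := by
      intro g hg
      refine Subgroup.mem_center_iff.2 fun k => ?_
      by_cases hg1 : g = 1
      · simp [hg1]
      have hk : k * g * k⁻¹ ∈ commutator G := (inferInstance : (commutator G).Normal).conj_mem g hg k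
      obtain ⟨u, v, -, huv⟩ := Nat.card_eq_two_iff.1 hcard
      have key : ∀ z : commutator G, z ≠ 1 → z = ⟨g, hg⟩ := by
        intro z hz
        have h1 : (⟨g, hg⟩ : commutator G) ≠ 1 := fun h => hg1 (congrArg Subtype.val h)
        have hall : ∀ w : commutator G, w = u ∨ w = v := fun w => by
          have : w ∈ ({u, v} : Set (commutator G)) := huv.symm ▸ Set.mem_univ w
          simpa using this
        rcases hall z with rfl | rfl <;> rcases hall ⟨g, hg⟩ with h | h <;>
          rcases hall 1 with h' | h' <;> simp_all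
      have := congrArg Subtype.val (key ⟨k * g * k⁻¹, hk⟩ fun h => hg1 (by
        simpa using congrArg Subtype.val h))
      exact mul_inv_eq_iff_eq_mul.1 this
    rw [hZ, le_bot_iff] at hcen
    exact habne (Subtype.ext (Subgroup.mem_bot.1 (hcen ▸ hmem ha hb)))
  have hcore : ∀ p : ℕ, p.Prime → Cfsg.pCore p G = ⊥ := by
    intro p hp
    have := Fact.mk hp
    refine hbot _ PCore.pCore_normal ((hcases _ PCore.pCore_normal).resolve_right fun h => hns ?_)
    have : Group.IsNilpotent (Cfsg.pCore p G) := PCore.isPGroup_pCore.isNilpotent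
    exact Group.isSolvable_of_isSolvable_injective (Subgroup.inclusion_injective h)
  have h2 : Cfsg.pCore 2 G ≤ Subgroup.center G := (hcore 2 Nat.prime_two).le.trans bot_le
  have h3 : Cfsg.pCore 3 G ≤ Subgroup.center G := (hcore 3 Nat.prime_three).le.trans bot_le
  obtain ⟨L, hLn, hL, -⟩ := exists_normal_component hT hD2 h2 h3
  have heq : L = commutator G := by
    refine le_antisymm (component_le_commutator hT hL) ((hcases L hLn).resolve_left fun h => ?_)
    rw [inf_eq_left.2 (component_le_commutator hT hL)] at h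
    exact Components.IsComponent.ne_bot hL h
  refine primitive_of_index hT hD2 hL h2 h3 ?_
  have htop : ∀ q : G ⧸ L, q ∈ Subgroup.zpowers (a : G ⧸ L) := by
    intro q
    obtain ⟨g, rfl⟩ := QuotientGroup.mk_surjective q
    have hle : Subgroup.closure D ≤
        (Subgroup.zpowers (a : G ⧸ L)).comap (QuotientGroup.mk' L) :=
      (Subgroup.closure_le _).2 fun e he => by
        show (e : G ⧸ L) ∈ Subgroup.zpowers (a : G ⧸ L)
        have : (a : G ⧸ L) = e := by
          rw [QuotientGroup.eq, hT.toTSet.inv_eq ha, heq]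
          exact hmem ha he
        exact this ▸ Subgroup.mem_zpowers _
    exact hle (show g ∈ Subgroup.closure D by rw [hT.gen]; trivial)
  rw [Subgroup.index_eq_card, ← orderOf_eq_card_of_forall_mem_zpowers htop]
  exact Nat.le_of_dvd (by norm_num) (orderOf_dvd_of_pow_eq_one (by
    rw [← QuotientGroup.mk_pow, pow_two, hT.sq a ha, QuotientGroup.mk_one]))

end Cfsg.Agent.S5361
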