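import Cfsg.Statements.S4204
-- import your own Cfsg.Agent.* helpers here

set_option autoImplicit false
set_option maxHeartbeats 400000
open Cfsg

namespace Cfsg.Agent.S4204

section helpers

variable {G : Type*} [Group G]

/-- commutator containment modulo a normal subgroup, as containment in a subgroup -/
lemma comm_le_iff (N M T : Subgroup G) [T.Normal] :
    ⁅N, M⁆ ≤ T ↔ N ≤ (Subgroup.centralizer ((M.map (QuotientGroup.mk' T) : Subgroup (G ⧸ T)) : Set (G ⧸ T))).comap
      (QuotientGroup.mk' T) := by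
  rw [← Subgroup.map_le_iff_le_comap, ← Subgroup.commutator_eq_bot_iff_le_centralizer,
    ← Subgroup.map_commutator, Subgroup.map_eq_bot_iff, QuotientGroup.ker_mk']

lemma comm_sup_le {N₁ N₂ M T : Subgroup G} [T.Normal] (h₁ : ⁅N₁, M⁆ ≤ T) (h₂ : ⁅N₂, M⁆ ≤ T) :
    ⁅N₁ ⊔ N₂, M⁆ ≤ T := by
  rw [comm_le_iff] at *
  exact sup_le h₁ h₂

lemma comm_iSup_le {ι : Sort*} {N : ι → Subgroup G} {M T : Subgroup G} [T.Normal]
    (h : ∀ i, ⁅N i, M⁆ ≤ T) : ⁅⨆ i, N i, M⁆ ≤ T := by
  simp only [comm_le_iff] at *
  exact iSup_le h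

/-- the series `⊤, H, [H,H], …` -/
def ser (H : Subgroup G) : ℕ → Subgroup G
  | 0 => ⊤
  | i + 1 => H.lowerCentralSeries i

lemma ser_normal (H : Subgroup G) [hH : H.Normal] (i : ℕ) : (ser H i).Normal := by
  cases i with
  | zero => exact Subgroup.normal_top
  | succ i =>
    induction i with
    | zero => exact hH
    | succ i ih =>
      have : (H.lowerCentralSeries i).Normal := ih
      exact Subgroup.commutator_normal _ _

lemma ser_comm (H : Subgroup G) [H.Normal] (i : ℕ) : ⁅ser H i, H⁆ ≤ ser H (i + 1) := by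
  cases i with
  | zero => exact Subgroup.commutator_le_right _ _
  | succ i => exact le_rfl

/-- Fitting's estimate for the lower central series of a product of normal subgroups. -/
lemma lcs_sup_le (H K : Subgroup G) [H.Normal] [K.Normal] (n : ℕ) :
    (H ⊔ K).lowerCentralSeries n ≤
      ⨆ (q : ℕ × ℕ) (_ : q.1 + q.2 = n + 1), ser H q.1 ⊓ ser K q.2 := by
  induction n with
  | zero =>
    refine sup_le ?_ ?_
    · refine le_trans ?_ (le_iSup₂ (f := fun (q : ℕ × ℕ) (_ : q.1 + q.2 = 0 + 1) => ser H q.1 ⊓ ser K q.2) (1, 0) rfl)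
      exact le_inf le_rfl le_top
    · refine le_trans ?_ (le_iSup₂ (f := fun (q : ℕ × ℕ) (_ : q.1 + q.2 = 0 + 1) => ser H q.1 ⊓ ser K q.2) (0, 1) rfl)
      exact le_inf le_top le_rfl
  | succ n ih =>
    have := fun i => ser_normal H i
    have := fun i => ser_normal K i
    set T := ⨆ (q : ℕ × ℕ) (_ : q.1 + q.2 = n + 1 + 1), ser H q.1 ⊓ ser K q.2 with hT
    have : T.Normal :=
      @Subgroup.iSup_normal G _ _ _ (fun q => @Subgroup.iSup_normal G _ _ _ (fun _ => Subgroup.normal_inf_normal _ _))
    rw [Subgroup.lowerCentralSeries_succ]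
    refine le_trans (Subgroup.commutator_mono ih le_rfl) ?_
    refine comm_iSup_le fun q => comm_iSup_le fun hq => ?_
    rw [Subgroup.commutator_comm]
    apply comm_sup_le
    · rw [Subgroup.commutator_comm]
      refine le_trans ?_ (le_iSup₂ (f := fun (q : ℕ × ℕ) (_ : q.1 + q.2 = n + 1 + 1) => ser H q.1 ⊓ ser K q.2)
        (q.1 + 1, q.2) (by simp only; omega))
      exact le_inf ((Subgroup.commutator_mono inf_le_left le_rfl).trans (ser_comm H _))
        ((Subgroup.commutator_mono inf_le_right le_rfl).trans (Subgroup.commutator_le_left _ _))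
    · rw [Subgroup.commutator_comm]
      refine le_trans ?_ (le_iSup₂ (f := fun (q : ℕ × ℕ) (_ : q.1 + q.2 = n + 1 + 1) => ser H q.1 ⊓ ser K q.2)
        (q.1, q.2 + 1) (by simp only; omega))
      exact le_inf ((Subgroup.commutator_mono inf_le_left le_rfl).trans (Subgroup.commutator_le_left _ _))
        ((Subgroup.commutator_mono inf_le_right le_rfl).trans (ser_comm K _))

theorem fitting_class (H K : Subgroup G) [H.Normal] [K.Normal] (c d : ℕ)
    (hH : H.lowerCentralSeries c = ⊥) (hK : K.lowerCentralSeries d = ⊥) :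
    (H ⊔ K).lowerCentralSeries (c + d) = ⊥ := by
  rw [eq_bot_iff]
  refine (lcs_sup_le H K _).trans (iSup₂_le fun q hq => ?_)
  by_cases h : c + 1 ≤ q.1
  · refine inf_le_left.trans ?_
    obtain ⟨i, hi⟩ : ∃ i, q.1 = i + 1 := ⟨q.1 - 1, by omega⟩
    rw [hi, ← hH]
    exact H.lowerCentralSeries_antitone (by omega)
  · refine inf_le_right.trans ?_
    obtain ⟨i, hi⟩ : ∃ i, q.2 = i + 1 := ⟨q.2 - 1, by omega⟩
    rw [hi, ← hK]
    exact K.lowerCentralSeries_antitone (by omega)


end helpers

/-- If `H` and `K` are normal subgroups of a finite group with `H` nilpotent of class at most `c` and `K` nilpotent of class at most `d` (the terms with index `c`, respectively `d`, of their lower central series are trivial, indices starting at `0`), then `HK` is nilpotent of class at most `c + d`. -/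
theorem result {G : Type*} [Group G] [Finite G] (H K : Subgroup G) [H.Normal] [K.Normal] (c d : ℕ) (hH : H.lowerCentralSeries c = ⊥) (hK : K.lowerCentralSeries d = ⊥) : (H ⊔ K).lowerCentralSeries (c + d) = ⊥ := by
  exact fitting_class H K c d hH hK

end Cfsg.Agent.S4204
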