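import Cfsg.Statements.S4263
import Cfsg.Agent.S4204

set_option autoImplicit false
set_option maxHeartbeats 400000
open Cfsg

namespace Cfsg.Agent.S4263

section helpers

variable {G : Type*} [Group G] [Finite G]

lemma fitting_nilpotent : Group.IsNilpotent (Cfsg.fittingSubgroup G) := by
  let S : Set (Subgroup G) := {N : Subgroup G | N.Normal ∧ Group.IsNilpotent N}
  have hfin : S.Finite := Set.toFinite _
  suffices h : ∀ T : Set (Subgroup G), T.Finite → T ⊆ S → (sSup T).Normal ∧ Group.IsNilpotent ↥(sSup T) from
    (h S hfin le_rfl).2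
  intro T hT
  induction T, hT using Set.Finite.induction_on with
  | empty =>
    intro _
    rw [sSup_empty]
    refine ⟨Subgroup.normal_bot, ?_⟩
    rw [Subgroup.isNilpotent_iff_lowerCentralSeries]
    exact ⟨0, rfl⟩
  | insert _ _ ih =>
    intro hTS
    rw [Set.insert_subset_iff] at hTS
    obtain ⟨⟨hn, hnil⟩, hrest⟩ := hTS
    obtain ⟨hn', hnil'⟩ := ih hrest
    rw [sSup_insert]
    have := hn
    have := hn'
    refine ⟨Subgroup.sup_normal _ _, ?_⟩
    rw [Subgroup.isNilpotent_iff_lowerCentralSeries] at hnil hnil' ⊢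
    obtain ⟨c, hc⟩ := hnil
    obtain ⟨d, hd⟩ := hnil'
    exact ⟨c + d, S4204.fitting_class _ _ c d hc hd⟩

/-- In a finite nilpotent group every element powered by the index lies in the subgroup. -/
lemma pow_index_mem_of_nilpotent {F : Type*} [Group F] [Finite F] [Group.IsNilpotent F] (x : F) :
    ∀ K : Subgroup F, x ^ K.index ∈ K := by
  intro K
  induction K using WellFoundedGT.induction with
  | ind K ih =>
    rcases eq_or_ne K ⊤ with rfl | hK
    · simp
    · have hlt : K < Subgroup.normalizer (K : Set F) :=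
        Group.normalizerCondition_of_isNilpotent K hK.lt_top
      have h1 := ih _ hlt
      set N := Subgroup.normalizer (K : Set F) with hN
      have : (K.subgroupOf N).Normal := Subgroup.normal_in_normalizer
      have h2 := Subgroup.pow_index_mem (K.subgroupOf N) ⟨x ^ N.index, h1⟩
      rw [Subgroup.mem_subgroupOf] at h2
      rw [← Subgroup.relIndex_mul_index hlt.le, mul_comm, pow_mul]
      exact h2

lemma relIndex_sup_of_normal (H F : Subgroup G) [F.Normal] : H.relIndex (H ⊔ F) = H.relIndex F := by
  have e : ∀ A B : Subgroup G, A ≤ B → Nat.card A * A.relIndex B = Nat.card B := fun A B hAB => by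
    rw [← Subgroup.relIndex_bot_left, ← Subgroup.relIndex_bot_left,
      Subgroup.relIndex_mul_relIndex _ _ _ bot_le hAB]
  have h1 := e H (H ⊔ F) le_sup_left
  have h2 := e F (H ⊔ F) le_sup_right
  have h3 := e (H ⊓ F) F inf_le_right
  have h4 := e (H ⊓ F) H inf_le_left
  rw [Subgroup.inf_relIndex_right] at h3
  rw [inf_comm, Subgroup.inf_relIndex_right, inf_comm] at h4
  rw [Subgroup.relIndex_sup_right, ← h1] at h2
  apply Nat.eq_of_mul_eq_mul_left (Nat.card_pos (α := H))
  rw [← h2, ← h3, mul_right_comm, h4]

lemma fitting_pow_index_mem {x : G} (hx : x ∈ Cfsg.fittingSubgroup G) (H : Subgroup G) : x ^ H.index ∈ H := by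
  have := fitting_nilpotent (G := G)
  set F := Cfsg.fittingSubgroup G
  have h1 := pow_index_mem_of_nilpotent (⟨x, hx⟩ : F) (H.subgroupOf F)
  rw [Subgroup.mem_subgroupOf] at h1
  have : F.Normal := Subgroup.sSup_normal _ fun _ h => h.1
  have hdvd : (H.subgroupOf F).index ∣ H.index := by
    refine dvd_trans (Dvd.intro 1 ?_) (Subgroup.relIndex_dvd_index_of_le (le_sup_left : H ≤ H ⊔ F))
    rw [mul_one]
    exact (relIndex_sup_of_normal H F).symm
  obtain ⟨m, hm⟩ := hdvd
  rw [hm, pow_mul]
  exact H.pow_mem h1 m

/-- the normal core of a Sylow subgroup lies in the Fitting subgroup -/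
lemma core_le_fitting (p : ℕ) [Fact p.Prime] (P : Sylow p G) :
    (P : Subgroup G).normalCore ≤ Cfsg.fittingSubgroup G := by
  refine le_sSup ⟨Subgroup.normalCore_normal _, ?_⟩
  exact (P.isPGroup'.to_le (Subgroup.normalCore_le _)).isNilpotent

lemma mem_fitting_of_pow_index {x : G} (h : ∀ H : Subgroup G, x ^ H.index ∈ H) :
    x ∈ Cfsg.fittingSubgroup G := by
  have : (Cfsg.fittingSubgroup G).Normal := Subgroup.sSup_normal _ fun _ h => h.1
  rw [← QuotientGroup.eq_one_iff, ← orderOf_eq_one_iff, Nat.eq_one_iff_not_exists_prime_dvd]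
  intro p hp hdvd
  have : Fact p.Prime := ⟨hp⟩
  let P : Sylow p G := default
  have hmem : x ^ (P : Subgroup G).index ∈ (P : Subgroup G).normalCore := by
    intro g
    have hi : ((P : Subgroup G).comap (MulAut.conj g).toMonoidHom).index = (P : Subgroup G).index :=
      Subgroup.index_comap_of_surjective (P : Subgroup G) (MulAut.conj g).surjective
    have hg := h ((P : Subgroup G).comap (MulAut.conj g).toMonoidHom)
    rw [hi, Subgroup.mem_comap] at hg
    exact hg
  have hF := core_le_fitting p P hmem
  rw [← QuotientGroup.eq_one_iff, QuotientGroup.mk_pow, ← orderOf_dvd_iff_pow_eq_one] at hF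
  exact P.not_dvd_index (hdvd.trans hF)


end helpers

/-- Let G be a finite group. An element x lies in the Fitting subgroup F(G) if and only if, for every subgroup H of G, the power x^[G : H] lies in H. -/
theorem result {G : Type*} [Group G] [Finite G] (x : G) :
    x ∈ Cfsg.fittingSubgroup G ↔ ∀ H : Subgroup G, x ^ H.index ∈ H := by
  exact ⟨fun hx H => fitting_pow_index_mem hx H, mem_fitting_of_pow_index⟩

end Cfsg.Agent.S4263
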