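import Cfsg.Statements.S4203
import Cfsg.Agent.S4263

set_option autoImplicit false
open Cfsg

namespace Cfsg.Agent.S4203

section helpers

theorem solvable_perm_four : Group.IsSolvable (Equiv.Perm (Fin 4)) := by
  set V : Finset (Equiv.Perm (Fin 4)) := Finset.univ.filter fun σ => σ = 1 ∨ (σ * σ = 1 ∧ ∀ i, σ i ≠ i) with hV
  have hmul : ∀ a ∈ V, ∀ b ∈ V, a * b ∈ V := by rw [hV]; decide +kernel
  have hinv : ∀ a ∈ V, a⁻¹ ∈ V := by rw [hV]; decide +kernel
  have hone : (1 : Equiv.Perm (Fin 4)) ∈ V := by rw [hV]; decide +kernel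
  have hcomm : ∀ a ∈ V, ∀ b ∈ V, a * b = b * a := by rw [hV]; decide +kernel
  have hc : ∀ a b : Equiv.Perm (Fin 4), Equiv.Perm.sign a = 1 → Equiv.Perm.sign b = 1 →
      a * b * a⁻¹ * b⁻¹ ∈ V := by rw [hV]; decide +kernel
  let W : Subgroup (Equiv.Perm (Fin 4)) :=
    { carrier := {σ | σ ∈ V}
      one_mem' := hone
      mul_mem' := fun {a b} ha hb => hmul a ha b hb
      inv_mem' := fun {a} ha => hinv a ha }
  refine ⟨⟨3, ?_⟩⟩
  have h1 : derivedSeries (Equiv.Perm (Fin 4)) 1 ≤ (Equiv.Perm.sign (α := Fin 4)).ker := by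
    rw [derivedSeries_one]
    exact Abelianization.commutator_subset_ker _
  have h2 : derivedSeries (Equiv.Perm (Fin 4)) 2 ≤ W := by
    rw [derivedSeries_succ, Subgroup.commutator_le]
    intro a ha b hb
    exact hc a b (h1 ha) (h1 hb)
  rw [derivedSeries_succ, eq_bot_iff, Subgroup.commutator_le]
  intro a ha b hb
  rw [Subgroup.mem_bot, commutatorElement_eq_one_iff_mul_comm]
  exact hcomm a (h2 ha) b (h2 hb)

variable {G : Type*} [Group G] [Finite G]

theorem solvable_minimal_normal
    (h : ∀ M : Subgroup G, IsCoatom M → ∃ p : ℕ, p.Prime ∧ (M.index = p ∨ M.index = p ^ 2))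
    (N : Subgroup G) [N.Normal] (hNb : N ≠ ⊥) (hmin : ∀ K : Subgroup G, K.Normal → K ≤ N → K ≠ ⊥ → K = N) :
    Group.IsSolvable N := by
  have hcard : Nat.card N ≠ 1 := fun h => hNb (Subgroup.eq_bot_of_card_eq N h)
  obtain ⟨r, hr, hmax⟩ := (Nat.card N).primeFactors.exists_max_image id
    ⟨(Nat.card N).minFac, (Nat.minFac_prime hcard).mem_primeFactors (Nat.minFac_dvd _) Nat.card_pos.ne'⟩
  have hrp := Nat.prime_of_mem_primeFactors hr
  have : Fact r.Prime := ⟨hrp⟩
  let R : Sylow r N := default
  set R' := (R : Subgroup N).map N.subtype with hR'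
  by_cases htop : Subgroup.normalizer (R' : Set G) = ⊤
  · rw [Subgroup.normalizer_eq_top_iff] at htop
    have hR'b : R' ≠ ⊥ := by
      intro hb
      rw [Subgroup.map_eq_bot_iff_of_injective _ N.subtype_injective] at hb
      apply R.ne_bot_of_dvd_card (Nat.dvd_of_mem_primeFactors hr) hb
    have := hmin R' htop (Subgroup.map_subtype_le _) hR'b
    have hN : IsPGroup r N := by
      rw [← this]
      exact R.isPGroup'.map _
    have := hN.isNilpotent
    infer_instance
  · obtain ⟨M, hM, hle⟩ := (eq_top_or_exists_le_coatom (Subgroup.normalizer (R' : Set G))).resolve_left htop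
    have hMN : M ⊔ N = ⊤ := top_le_iff.1 ((Sylow.normalizer_sup_eq_top R).ge.trans (sup_le_sup_right hle N))
    obtain ⟨q, hq, hidx⟩ := h M hM
    have hrel : (M.subgroupOf N).index = M.index := by
      show M.relIndex N = M.index
      rw [← S4263.relIndex_sup_of_normal M N, hMN, Subgroup.relIndex_top_right]
    -- index ≡ 1 mod r
    set N0 := M.subgroupOf N with hN0
    have hnle : Subgroup.normalizer ((R : Subgroup N) : Set N) ≤ N0 := by
      intro x hx
      refine Subgroup.mem_subgroupOf.2 (hle ?_)
      rw [Subgroup.mem_normalizer_iff]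
      intro b
      constructor
      · rintro ⟨c, hc, rfl⟩
        exact ⟨x * c * x⁻¹, (Subgroup.mem_normalizer_iff.1 hx c).1 hc, by simp⟩
      · rintro ⟨c, hc, hce⟩
        refine ⟨x⁻¹ * c * x, ?_, ?_⟩
        · have := (Subgroup.mem_normalizer_iff.1 (inv_mem hx) c).1 hc
          simp only [inv_inv] at this
          exact this
        · simp only [Subgroup.coe_subtype, Subgroup.coe_mul, Subgroup.coe_inv] at hce ⊢
          rw [hce]
          group
    have hRle : (R : Subgroup N) ≤ N0 := Subgroup.le_normalizer.trans hnle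
    have e1 : N0.index * Nat.card (Sylow r N0) = Nat.card (Sylow r N) := by
      rw [(R.subtype hRle).card_eq_index_normalizer, R.card_eq_index_normalizer, mul_comm]
      show (Subgroup.normalizer (((R : Subgroup N).subgroupOf N0 : Subgroup N0) : Set N0)).index * _ = _
      rw [← Subgroup.subgroupOf_normalizer_eq hRle]
      exact Subgroup.relIndex_mul_index hnle
    have e2 : N0.index ≡ 1 [MOD r] := by
      have := (card_sylow_modEq_one r N0).mul_left N0.index
      rw [e1, mul_one] at this
      exact this.symm.trans (card_sylow_modEq_one r N)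
    have hqd : q ∣ Nat.card N := by
      refine dvd_trans ?_ N0.index_dvd_card
      rw [hrel]
      rcases hidx with h | h <;> simp [h, pow_two]
    have hqr : q ≤ r := hmax q (hq.mem_primeFactors hqd Nat.card_pos.ne')
    have hqne : q ≠ r := by
      rintro rfl
      rw [hrel] at e2
      have h0 : M.index ≡ 0 [MOD q] := by
        rcases hidx with h | h <;> simp [h, Nat.ModEq, pow_two]
      have h10 : 1 ≡ 0 [MOD q] := e2.symm.trans h0
      rw [Nat.modEq_zero_iff_dvd, Nat.dvd_one] at h10
      exact hq.one_lt.ne' h10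
    have hqlt : q < r := lt_of_le_of_ne hqr hqne
    have h4 : M.index = 4 := by
      rw [hrel] at e2
      rcases hidx with h | h
      · rw [h] at e2
        have := e2.eq_of_lt_of_lt hqlt hrp.one_lt
        exact absurd this hq.one_lt.ne'
      · rw [h] at e2
        have hd : r ∣ (q - 1) * (q + 1) := by
          have := (Nat.modEq_iff_dvd' (Nat.one_le_pow _ _ hq.pos)).1 e2.symm
          have e : q ^ 2 - 1 = (q - 1) * (q + 1) := by
            rw [mul_comm, ← Nat.sq_sub_sq, one_pow]
          rwa [e] at this
        rcases hrp.dvd_mul.1 hd with hd | hd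
        · have := Nat.le_of_dvd (by have := hq.two_le; omega) hd
          omega
        · have := Nat.le_of_dvd (by omega) hd
          have hre : r = q + 1 := by omega
          rcases hq.eq_two_or_odd with h2 | h2
          · rw [h, h2]; norm_num
          · rcases hrp.eq_two_or_odd with h3 | h3
            · have := hq.two_le; omega
            · omega
    -- embed N in Perm (G ⧸ M)
    have hinj : Function.Injective ((MulAction.toPermHom G (G ⧸ M)).comp N.subtype) := by
      rw [← MonoidHom.ker_eq_bot_iff, ← Subgroup.map_eq_bot_iff_of_injective _ N.subtype_injective]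
      by_contra hne
      have hn : ((MulAction.toPermHom G (G ⧸ M)).comp N.subtype).ker.map N.subtype = M.normalCore ⊓ N := by
        rw [Subgroup.normalCore_eq_ker, ← MonoidHom.comap_ker]
        exact (Subgroup.subgroupOf_map_subtype _ _)
      have := hmin _ (hn ▸ Subgroup.normal_inf_normal _ _) (Subgroup.map_subtype_le _) hne
      have hNM : N ≤ M := by
        rw [← this, hn]
        exact inf_le_left.trans M.normalCore_le
      exact hM.1 (by rw [← hMN, sup_eq_left.2 hNM])
    have hS : Group.IsSolvable (Equiv.Perm (G ⧸ M)) := by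
      have e : Nonempty ((G ⧸ M) ≃ Fin 4) := ⟨Finite.equivFinOfCardEq (by rw [← Subgroup.index_eq_card, h4])⟩
      obtain ⟨e⟩ := e
      have := solvable_perm_four
      exact Group.isSolvable_of_surjective (f := (e.symm.permCongrHom).toMonoidHom) (e.symm.permCongrHom).surjective
    exact Group.isSolvable_of_isSolvable_injective hinj

theorem solvable_of_index.{u} : ∀ (n : ℕ) {G : Type u} [Group G] [Finite G], Nat.card G = n →
    (∀ M : Subgroup G, IsCoatom M → ∃ p : ℕ, p.Prime ∧ (M.index = p ∨ M.index = p ^ 2)) →
    Group.IsSolvable G := by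
  intro n
  induction n using Nat.strong_induction_on with
  | _ n ih =>
    intro G _ _ hn h
    rcases subsingleton_or_nontrivial G with hs | hs
    · exact Group.isSolvable_of_comm fun a b => Subsingleton.elim _ _
    obtain ⟨N, ⟨hNn, hNb⟩, hminimal⟩ := wellFounded_lt.has_min {K : Subgroup G | K.Normal ∧ K ≠ ⊥}
      ⟨⊤, Subgroup.normal_top, top_ne_bot⟩
    have hmin : ∀ K : Subgroup G, K.Normal → K ≤ N → K ≠ ⊥ → K = N := fun K hK hle hne =>
      hle.eq_of_not_lt (hminimal K ⟨hK, hne⟩)
    have hsN := solvable_minimal_normal h N hNb hmin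
    have hlt : Nat.card (G ⧸ N) < n := by
      rw [← hn, Subgroup.card_eq_card_quotient_mul_card_subgroup N]
      refine lt_mul_of_one_lt_right Nat.card_pos ?_
      rcases (Nat.one_le_iff_ne_zero.2 (Nat.card_pos (α := N)).ne').eq_or_lt with h | h
      · exact absurd (Subgroup.eq_bot_of_card_eq N h.symm) hNb
      · exact h
    have hsQ : Group.IsSolvable (G ⧸ N) := by
      refine ih _ hlt rfl fun M hM => ?_
      have := h _ (Subgroup.isCoatom_comap_of_surjective (QuotientGroup.mk'_surjective N) hM)
      rwa [Subgroup.index_comap_of_surjective _ (QuotientGroup.mk'_surjective N)] at this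
    exact Group.isSolvable_of_ker_le_range N.subtype (QuotientGroup.mk' N)
      (by rw [QuotientGroup.ker_mk', Subgroup.range_subtype])

end helpers

/-- A finite group in which every maximal subgroup has index a prime or the square of a prime is solvable. -/
theorem result {G : Type*} [Group G] [Finite G] (h : ∀ M : Subgroup G, IsCoatom M → ∃ p : ℕ, p.Prime ∧ (M.index = p ∨ M.index = p ^ 2)) : Group.IsSolvable G := by
  exact solvable_of_index _ rfl h

end Cfsg.Agent.S4203
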