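import Cfsg.Statements.S3357
import Cfsg.Agent.Lib.Frobenius.FpfAutomorphism
import Cfsg.Agent.Lib.Frobenius.Module
import Cfsg.Agent.S0033

set_option autoImplicit false
open Cfsg

namespace Cfsg.Agent.S3357

/-- The matrices mapping to the identity modulo `p` form a `p`-group. -/
theorem pow_eq_one_of_congr {p k : ℕ} {n : ℕ} (A B : Matrix (Fin n) (Fin n) (ZMod (p ^ (k + 1))))
    (hA : A = 1 + (p : Matrix (Fin n) (Fin n) (ZMod (p ^ (k + 1)))) * B) : A ^ p ^ k = 1 := by
  have h : (p : Polynomial (ZMod (p ^ (k + 1)))) ∣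
      (1 + (p : Polynomial (ZMod (p ^ (k + 1)))) * Polynomial.X) - 1 := ⟨Polynomial.X, by ring⟩
  obtain ⟨q, hq⟩ := dvd_sub_pow_of_dvd_sub h k
  have hp0 : ((p : Polynomial (ZMod (p ^ (k + 1))))) ^ (k + 1) = 0 := by
    have h0 : (((p ^ (k + 1) : ℕ)) : ZMod (p ^ (k + 1))) = 0 := ZMod.natCast_self _
    rw [← Nat.cast_pow, ← Polynomial.C_eq_natCast, h0, map_zero]
  rw [hp0, zero_mul, one_pow, sub_eq_zero] at hq
  have := congrArg (Polynomial.aeval B) hq
  simpa [hA, map_pow] using this

/-- Reduction modulo `p` of invertible matrices. -/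
noncomputable def red (p k n : ℕ) : GL (Fin n) (ZMod (p ^ (k + 1))) →* GL (Fin n) (ZMod p) :=
  Units.map ((ZMod.castHom (dvd_pow_self p (Nat.succ_ne_zero k)) (ZMod p)).mapMatrix.toMonoidHom)

theorem red_val (p k n : ℕ) (A : GL (Fin n) (ZMod (p ^ (k + 1)))) :
    ((red p k n A : GL (Fin n) (ZMod p)) : Matrix (Fin n) (Fin n) (ZMod p)) =
      (A : Matrix (Fin n) (Fin n) (ZMod (p ^ (k + 1)))).map
        (ZMod.castHom (dvd_pow_self p (Nat.succ_ne_zero k)) (ZMod p)) := rfl

theorem exists_eq_mul {p k : ℕ} [Fact p.Prime] {n : ℕ} {C : Matrix (Fin n) (Fin n) (ZMod (p ^ (k + 1)))}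
    (hC : C.map (ZMod.castHom (dvd_pow_self p (Nat.succ_ne_zero k)) (ZMod p)) = 0) :
    ∃ B : Matrix (Fin n) (Fin n) (ZMod (p ^ (k + 1))),
      C = (p : Matrix (Fin n) (Fin n) (ZMod (p ^ (k + 1)))) * B := by
  have h : ∀ i j, ∃ b : ZMod (p ^ (k + 1)), C i j = (p : ZMod (p ^ (k + 1))) * b := by
    intro i j
    haveI : NeZero (p ^ (k + 1)) := ⟨pow_ne_zero _ (Fact.out : p.Prime).ne_zero⟩
    have h0 := congrFun (congrFun hC i) j
    rw [Matrix.map_apply, ← ZMod.natCast_zmod_val (C i j), map_natCast, Matrix.zero_apply,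
      ZMod.natCast_eq_zero_iff] at h0
    obtain ⟨b, hb⟩ := h0
    exact ⟨b, by rw [← ZMod.natCast_zmod_val (C i j), hb, Nat.cast_mul]⟩
  choose B hB using h
  refine ⟨Matrix.of B, ?_⟩
  rw [← nsmul_eq_mul]
  ext i j
  rw [Matrix.smul_apply, nsmul_eq_mul, Matrix.of_apply, hB]

theorem isPGroup_ker_red (p k n : ℕ) [Fact p.Prime] : IsPGroup p (red p k n).ker := by
  rintro ⟨A, hA⟩
  refine ⟨k, Subtype.ext (Units.ext ?_)⟩
  have hA' := congrArg Units.val (show red p k n A = 1 from hA)
  rw [red_val, Units.val_one] at hA'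
  obtain ⟨B, hB⟩ := exists_eq_mul (C := (A : Matrix (Fin n) (Fin n) (ZMod (p ^ (k + 1)))) - 1) (by
    rw [← RingHom.mapMatrix_apply, map_sub, map_one, RingHom.mapMatrix_apply, hA', sub_self])
  simp only [SubmonoidClass.coe_pow, Units.val_pow_eq_pow_val, OneMemClass.coe_one, Units.val_one]
  exact pow_eq_one_of_congr _ B (by rw [← hB, add_sub_cancel])

theorem red_surjective (p k n : ℕ) [Fact p.Prime] : Function.Surjective (red p k n) := by
  intro A
  haveI : NeZero (p ^ (k + 1)) := ⟨pow_ne_zero _ (Fact.out : p.Prime).ne_zero⟩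
  let φ := ZMod.castHom (dvd_pow_self p (Nat.succ_ne_zero k)) (ZMod p)
  let M : Matrix (Fin n) (Fin n) (ZMod (p ^ (k + 1))) :=
    (A : Matrix (Fin n) (Fin n) (ZMod p)).map fun a => (a.val : ZMod (p ^ (k + 1)))
  have hM : M.map φ = (A : Matrix (Fin n) (Fin n) (ZMod p)) := by
    ext i j
    simp only [M, Matrix.map_apply, map_natCast, ZMod.natCast_zmod_val]
  have hdet : IsUnit M.det := by
    have h0 : φ M.det ≠ 0 := by
      rw [RingHom.map_det, RingHom.mapMatrix_apply, hM]
      exact ((Matrix.isUnit_iff_isUnit_det _).1 A.isUnit).ne_zero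
    rw [← ZMod.natCast_zmod_val M.det, map_natCast, Ne, ZMod.natCast_eq_zero_iff] at h0
    rw [← ZMod.natCast_zmod_val M.det, ZMod.isUnit_iff_coprime]
    exact (((Fact.out : p.Prime).coprime_iff_not_dvd.2 h0).symm).pow_right _
  exact ⟨((Matrix.isUnit_iff_isUnit_det M).2 hdet).unit, Units.ext (by rw [red_val]; exact hM)⟩

/-- Lifting of a coprime representation modulo `p` to one modulo `p ^ (k + 1)`. -/
theorem exists_lift {G : Type*} [Group G] [Finite G] (p k n : ℕ) [Fact p.Prime]
    (hcop : (Nat.card G).Coprime p) (σ : G →* GL (Fin n) (ZMod p)) :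
    ∃ τ : G →* GL (Fin n) (ZMod (p ^ (k + 1))), ∀ g, red p k n (τ g) = σ g := by
  let E : Subgroup (G × GL (Fin n) (ZMod (p ^ (k + 1)))) :=
    MonoidHom.eqLocus (σ.comp (MonoidHom.fst _ _)) ((red p k n).comp (MonoidHom.snd _ _))
  let π : E →* G := (MonoidHom.fst _ _).comp E.subtype
  haveI : NeZero (p ^ (k + 1)) := ⟨pow_ne_zero _ (Fact.out : p.Prime).ne_zero⟩
  haveI : Finite (GL (Fin n) (ZMod (p ^ (k + 1)))) := inferInstance
  have hπ : Function.Surjective π := fun g => by
    obtain ⟨A, hA⟩ := red_surjective p k n (σ g)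
    exact ⟨⟨(g, A), hA.symm⟩, rfl⟩
  have hker : IsPGroup p π.ker := by
    let f : π.ker →* (red p k n).ker :=
      (((MonoidHom.snd _ _).comp E.subtype).comp π.ker.subtype).codRestrict _ fun x => by
        have h1 : (x : E).1.1 = 1 := x.2
        have h2 : σ (x : E).1.1 = red p k n (x : E).1.2 := (x : E).2
        rw [h1, map_one] at h2
        exact h2.symm
    refine (isPGroup_ker_red p k n).of_injective f fun x y h => ?_
    exact Subtype.ext (Subtype.ext (Prod.ext ((show (x : E).1.1 = 1 from x.2).trans (show (y : E).1.1 = 1 from y.2).symm)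
      (congrArg Subtype.val h :)))
  obtain ⟨j, hj⟩ := IsPGroup.iff_card.1 hker
  have hidx : π.ker.index = Nat.card G := by
    rw [Subgroup.index_ker, MonoidHom.range_eq_top.2 hπ, Subgroup.card_top]
  obtain ⟨C, hC⟩ := Subgroup.exists_right_complement'_of_coprime (N := π.ker)
    (by rw [hj, hidx]; exact (hcop.symm).pow_left j)
  have hbij : Function.Bijective (π.comp C.subtype) := by
    have hinj : Function.Injective (π.comp C.subtype) := by
      rw [injective_iff_map_eq_one]
      intro c hc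
      exact Subtype.ext (Subgroup.disjoint_def.1 hC.disjoint (show (c : E) ∈ π.ker from hc) c.2)
    refine (Nat.bijective_iff_injective_and_card _).2 ⟨hinj, ?_⟩
    rw [← hidx, hC.symm.index_eq_card]
  let e := MulEquiv.ofBijective _ hbij
  refine ⟨((MonoidHom.snd _ _).comp E.subtype).comp (C.subtype.comp e.symm.toMonoidHom), fun g => ?_⟩
  have h1 : σ ((e.symm g : C) : E).1.1 = red p k n ((e.symm g : C) : E).1.2 := ((e.symm g : C) : E).2
  rw [show (((e.symm g : C) : E).1.1) = g from e.apply_symm_apply g] at h1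
  exact h1.symm

/-- A sum over the powers of `x` of a fixed-point-free matrix vanishes. -/
theorem geomSum_eq_zero {n : ℕ} {R : Type*} [CommRing R] (x : Matrix (Fin n) (Fin n) R) {r : ℕ} (hx : x ^ r = 1)
    (hf : ∀ v : Fin n → R, x.mulVec v = v → v = 0) : ∑ i ∈ Finset.range r, x ^ i = 0 := by
  refine Matrix.toLin'.injective (LinearMap.ext fun v => ?_)
  rw [map_zero, LinearMap.zero_apply, Matrix.toLin'_apply]
  refine hf _ ?_
  have h := mul_geom_sum x r
  rw [hx, sub_self, sub_mul, one_mul, sub_eq_zero] at h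
  rw [Matrix.mulVec_mulVec, h]

/-- The sum over powers of an element of order `r` in a lift is zero. -/
theorem lift_geomSum_eq_zero {p k n r : ℕ} [Fact p.Prime] (hr : ¬ p ∣ r)
    (x : Matrix (Fin n) (Fin n) (ZMod (p ^ (k + 1)))) (hx : x ^ r = 1)
    (h0 : (∑ i ∈ Finset.range r, x ^ i).map (ZMod.castHom (dvd_pow_self p (Nat.succ_ne_zero k)) (ZMod p)) = 0) :
    ∑ i ∈ Finset.range r, x ^ i = 0 := by
  set S := ∑ i ∈ Finset.range r, x ^ i with hS
  obtain ⟨B, hB⟩ := exists_eq_mul h0
  have hxS : x * S = S := by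
    have h := mul_geom_sum x r
    rw [hx, sub_self, sub_mul, one_mul, sub_eq_zero] at h
    exact h
  have hxiS : ∀ i : ℕ, x ^ i * S = S := by
    intro i
    induction i with
    | zero => rw [pow_zero, one_mul]
    | succ i ih => rw [pow_succ x i, mul_assoc, hxS, ih]
  have hS2 : S * S = r • S := by
    conv_lhs => arg 1; rw [hS]
    rw [Finset.sum_mul, Finset.sum_congr rfl fun i _ => hxiS i, Finset.sum_const, Finset.card_range]
  have hpow : ∀ j : ℕ, S ^ (j + 1) = (r ^ j) • S := by
    intro j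
    induction j with
    | zero => simp
    | succ j ih => rw [pow_succ S (j + 1), ih, smul_mul_assoc, hS2, ← mul_smul, ← pow_succ r j]
  have hSk : S ^ (k + 1) = 0 := by
    rw [hB, (Nat.cast_commute p B).mul_pow, ← Nat.cast_pow, ← nsmul_eq_mul]
    ext i j
    rw [Matrix.smul_apply, nsmul_eq_mul, ZMod.natCast_self, zero_mul, Matrix.zero_apply]
  rw [hpow k] at hSk
  have hu : IsUnit ((r ^ k : ℕ) : ZMod (p ^ (k + 1))) := by
    rw [ZMod.isUnit_iff_coprime]
    exact ((((Fact.out : p.Prime).coprime_iff_not_dvd.2 hr).symm).pow_left k).pow_right _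
  ext i j
  have h := congrFun (congrFun hSk i) j
  rw [Matrix.smul_apply, nsmul_eq_mul, Matrix.zero_apply] at h
  rw [Matrix.zero_apply]
  exact hu.mul_right_eq_zero.1 h

section Integral

variable {G : Type*} [Group G] [Fintype G]

/-- The equations expressing that the orbit sums of every element of prime order vanish. -/
noncomputable def eqs (G : Type*) [Group G] : Matrix ({g : G // (orderOf g).Prime} × G) G ℤ :=
  fun gx y => by
    classical exact ∑ i ∈ Finset.range (orderOf gx.1.1), if gx.1.1 ^ i * gx.2 = y then 1 else 0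

theorem eqs_mulVec {R : Type*} [CommRing R] (v : G → R) (g : {g : G // (orderOf g).Prime}) (x : G) :
    ((eqs G).map (fun z : ℤ => (z : R))).mulVec v (g, x) =
      ∑ i ∈ Finset.range (orderOf g.1), v (g.1 ^ i * x) := by
  classical
  simp only [Matrix.mulVec, dotProduct, Matrix.map_apply, eqs]
  simp only [Int.cast_sum, Finset.sum_mul]
  rw [Finset.sum_comm]
  refine Finset.sum_congr rfl fun i _ => ?_
  simp [apply_ite ((↑) : ℤ → R)]

/-- A module of a fixed point free group gives an integral solution of the equations. -/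
theorem exists_int_solution {p n : ℕ} [Fact p.Prime] (hn : 0 < n) (hcop : (Nat.card G).Coprime p)
    (σ : G →* GL (Fin n) (ZMod p))
    (hσ : ∀ g, g ≠ 1 → ∀ v, ((σ g : GL (Fin n) (ZMod p)) : Matrix (Fin n) (Fin n) (ZMod p)).mulVec v = v → v = 0) :
    ∃ v : G → ℤ, v ≠ 0 ∧ (eqs G).mulVec v = 0 := by
  classical
  haveI : Fintype {g : G // (orderOf g).Prime} := Fintype.ofFinite _
  by_cases hdet : (Matrix.transpose (eqs G) * eqs G).det = 0
  · obtain ⟨v, hv0, hv⟩ := Matrix.exists_mulVec_eq_zero_iff.2 hdet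
    refine ⟨v, hv0, ?_⟩
    have h : v ⬝ᵥ (Matrix.transpose (eqs G) * eqs G).mulVec v = 0 := by rw [hv, dotProduct_zero]
    rw [← Matrix.mulVec_mulVec, Matrix.dotProduct_mulVec, Matrix.vecMul_transpose] at h
    exact dotProduct_self_eq_zero.1 h
  exfalso
  set M := Matrix.transpose (eqs G) * eqs G with hM
  obtain ⟨k, hk⟩ : ∃ k, M.det.natAbs < p ^ (k + 1) :=
    ⟨M.det.natAbs, (Nat.lt_pow_self (Fact.out : p.Prime).one_lt).trans (Nat.pow_lt_pow_right (Fact.out : p.Prime).one_lt (by omega))⟩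
  obtain ⟨τ, hτ⟩ := exists_lift p k n hcop σ
  let f : G → ZMod (p ^ (k + 1)) := fun x =>
    (τ x : Matrix (Fin n) (Fin n) (ZMod (p ^ (k + 1)))) ⟨0, hn⟩ ⟨0, hn⟩
  have hf : ((eqs G).map (fun z : ℤ => (z : ZMod (p ^ (k + 1))))).mulVec f = 0 := by
    funext ⟨g, x⟩
    rw [eqs_mulVec]
    have hg1 : (g : G) ≠ 1 := fun e => by
      have := g.2; rw [e, orderOf_one] at this; exact Nat.not_prime_one this
    have hr : ¬ p ∣ orderOf g.1 := fun h => by
      have h1 : p ∣ Nat.card G := h.trans (orderOf_dvd_natCard _)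
      exact (Fact.out : p.Prime).not_dvd_one (hcop ▸ Nat.dvd_gcd h1 dvd_rfl)
    have hS : ∑ i ∈ Finset.range (orderOf g.1), (τ g.1 : Matrix (Fin n) (Fin n) (ZMod (p ^ (k + 1)))) ^ i = 0 := by
      refine lift_geomSum_eq_zero hr _ (by rw [← Units.val_pow_eq_pow_val, ← map_pow, pow_orderOf_eq_one, map_one, Units.val_one]) ?_
      rw [← RingHom.mapMatrix_apply, map_sum]
      simp only [map_pow, RingHom.mapMatrix_apply, ← red_val, hτ]
      exact geomSum_eq_zero _ (by rw [← Units.val_pow_eq_pow_val, ← map_pow, pow_orderOf_eq_one, map_one, Units.val_one]) (hσ _ hg1)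
    simp only [f, map_mul, map_pow, Units.val_mul, Units.val_pow_eq_pow_val, Pi.zero_apply]
    rw [← Matrix.sum_apply, ← Finset.sum_mul, hS, zero_mul, Matrix.zero_apply]
  have h1 : ((M.det : ℤ) : ZMod (p ^ (k + 1))) • f = 0 := by
    have h2 : (M.map (fun z : ℤ => (z : ZMod (p ^ (k + 1))))).mulVec f = 0 := by
      rw [hM, show (fun z : ℤ => (z : ZMod (p ^ (k + 1)))) = (Int.castRingHom (ZMod (p ^ (k + 1)))) from rfl,
        Matrix.map_mul, ← Matrix.mulVec_mulVec]
      rw [show ((eqs G).map (Int.castRingHom (ZMod (p ^ (k + 1))))).mulVec f = 0 from hf, Matrix.mulVec_zero]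
    have h3 := congrArg ((M.map (fun z : ℤ => (z : ZMod (p ^ (k + 1))))).adjugate.mulVec) h2
    rw [Matrix.mulVec_mulVec, Matrix.adjugate_mul, Matrix.smul_mulVec, Matrix.one_mulVec, Matrix.mulVec_zero] at h3
    rw [Int.cast_det]
    exact h3
  have h4 := congrFun h1 1
  rw [Pi.smul_apply, Pi.zero_apply, show f 1 = 1 by simp [f], smul_eq_mul, mul_one,
    ZMod.intCast_zmod_eq_zero_iff_dvd, Int.natCast_dvd] at h4
  exact absurd (Nat.le_of_dvd (Int.natAbs_pos.2 hdet) h4) (not_le.2 hk)

end Integral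

/-- A fixed point free module over a prime field gives an irreducible fixed point free one over any
field of characteristic zero. -/
theorem exists_char_zero {G : Type*} [Group G] [Finite G] (F : Type*) [Field F] [CharZero F]
    {p n : ℕ} [Fact p.Prime] (hn : 0 < n) (hcop : (Nat.card G).Coprime p)
    (σ : G →* GL (Fin n) (ZMod p))
    (hσ : ∀ g, g ≠ 1 → ∀ v, ((σ g : GL (Fin n) (ZMod p)) : Matrix (Fin n) (Fin n) (ZMod p)).mulVec v = v → v = 0) :
    ∃ (m : ℕ) (ρ : G →* GL (Fin m) F), 0 < m ∧ Function.Injective ρ ∧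
      (∀ W : Submodule F (Fin m → F),
        (∀ g : G, ∀ w ∈ W, ((ρ g : GL (Fin m) F) : Matrix (Fin m) (Fin m) F).mulVec w ∈ W) → W = ⊥ ∨ W = ⊤) ∧
      ∀ g : G, g ≠ 1 → ∀ v : Fin m → F, ((ρ g : GL (Fin m) F) : Matrix (Fin m) (Fin m) F).mulVec v = v → v = 0 := by
  classical
  haveI := Fintype.ofFinite G
  obtain ⟨v₀, hv₀, hv₀e⟩ := exists_int_solution hn hcop σ hσ
  haveI : Fintype {g : G // (orderOf g).Prime} := Fintype.ofFinite _
  let R : G → (G → F) →ₗ[F] (G → F) := fun h => LinearMap.funLeft F F (· * h)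
  have hR : ∀ h v x, R h v x = v (x * h) := fun h v x => rfl
  let V0 : Submodule F (G → F) := LinearMap.ker (Matrix.mulVecLin ((eqs G).map (fun z : ℤ => (z : F))))
  have hV0 : ∀ v, v ∈ V0 ↔ ∀ (g : {g : G // (orderOf g).Prime}) x, ∑ i ∈ Finset.range (orderOf g.1), v (g.1 ^ i * x) = 0 := by
    intro v
    simp only [V0, LinearMap.mem_ker, Matrix.mulVecLin_apply, funext_iff, Prod.forall, eqs_mulVec, Pi.zero_apply]
  let Inv : Submodule F (G → F) → Prop := fun W => ∀ h, ∀ w ∈ W, R h w ∈ W
  have hex : ∃ d, ∃ W : Submodule F (G → F), W ≤ V0 ∧ W ≠ ⊥ ∧ Inv W ∧ Module.finrank F W = d := by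
    refine ⟨_, V0, le_rfl, ?_, ?_, rfl⟩
    · rw [Submodule.ne_bot_iff]
      refine ⟨fun x => (v₀ x : F), ?_, fun h => hv₀ (funext fun x => Int.cast_eq_zero.1 (congrFun h x))⟩
      rw [hV0]
      intro g x
      have := congrFun hv₀e (g, x)
      have h2 := congrArg (fun z : ℤ => (z : F)) this
      simp only [Pi.zero_apply, Int.cast_zero] at h2
      rw [← h2, ← eqs_mulVec (R := F) (fun y => (v₀ y : F)) g x]
      simp [Matrix.mulVec, dotProduct, Int.cast_sum]
    · intro h w hw
      rw [hV0] at hw ⊢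
      intro g x
      simp only [hR, mul_assoc]
      exact hw g (x * h)
  obtain ⟨W, hWV, hW0, hWinv, hWd⟩ := Nat.find_spec hex
  have hmin : ∀ W' : Submodule F (G → F), W' ≤ W → W' ≠ ⊥ → Inv W' → W' = W := by
    intro W' h1 h2 h3
    refine Submodule.eq_of_le_of_finrank_le h1 ?_
    rw [hWd]
    exact Nat.find_min' hex ⟨W', h1.trans hWV, h2, h3, rfl⟩
  have hfix : ∀ g : G, g ≠ 1 → ∀ w ∈ W, R g w = w → w = 0 := by
    intro g hg w hw hgw
    obtain ⟨r, hr, hrd⟩ := Nat.exists_prime_and_dvd (mt orderOf_eq_one_iff.1 hg)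
    set g' := g ^ (orderOf g / r)
    have hord : orderOf g' = r := orderOf_pow_orderOf_div (orderOf_pos g).ne' hrd
    have hpow : ∀ j x, w (x * g' ^ j) = w x := by
      intro j x
      rw [← pow_mul]
      generalize orderOf g / r * j = l
      induction l with
      | zero => rw [pow_zero, mul_one]
      | succ l ih => rw [pow_succ, ← mul_assoc]; exact (congrFun hgw (x * g ^ l)).trans ih
    funext x
    have hg'' : orderOf (x * g' * x⁻¹) = r :=
      (orderOf_injective (MulAut.conj x).toMonoidHom (MulAut.conj x).injective g').trans hord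
    have h := (hV0 w).1 (hWV hw) ⟨x * g' * x⁻¹, by rw [hg'']; exact hr⟩ x
    simp only [hg'', conj_pow, inv_mul_cancel_right, hpow, Finset.sum_const, Finset.card_range, nsmul_eq_mul] at h
    exact (mul_eq_zero.1 h).resolve_left (Nat.cast_ne_zero.2 hr.ne_zero)
  let m := Module.finrank F W
  let b := Module.finBasis F W
  let T : G → (W →ₗ[F] W) := fun h => (R h).restrict (hWinv h)
  have hT : ∀ h w, ((T h w : W) : G → F) = R h w := fun h w => rfl
  let M : G →* Matrix (Fin m) (Fin m) F :=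
    { toFun := fun g => LinearMap.toMatrixAlgEquiv b (T g)
      map_one' := by
        rw [← map_one (LinearMap.toMatrixAlgEquiv b)]
        congr 1
        refine LinearMap.ext fun w => Subtype.ext (funext fun x => ?_)
        rw [hT, hR, mul_one]; rfl
      map_mul' := fun g h => by
        rw [← map_mul]
        congr 1
        refine LinearMap.ext fun w => Subtype.ext (funext fun x => ?_)
        rw [hT, hR, ← mul_assoc]
        rfl }
  let ρ : G →* GL (Fin m) F := M.toHomUnits
  have hρ : ∀ g (w : W), ((ρ g : GL (Fin m) F) : Matrix (Fin m) (Fin m) F).mulVec (b.equivFun w) = b.equivFun (T g w) := by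
    intro g w
    rw [Module.Basis.equivFun_apply, Module.Basis.equivFun_apply]
    show (LinearMap.toMatrix b b (T g)).mulVec _ = _
    exact LinearMap.toMatrix_mulVec_repr b b (T g) w
  have hfpf : ∀ g : G, g ≠ 1 → ∀ v : Fin m → F, ((ρ g : GL (Fin m) F) : Matrix (Fin m) (Fin m) F).mulVec v = v → v = 0 := by
    intro g hg v hv
    obtain ⟨w, rfl⟩ := b.equivFun.surjective v
    rw [hρ] at hv
    have := hfix g hg w w.2 (by rw [← hT, b.equivFun.injective hv])
    rw [show w = 0 from Subtype.ext this, map_zero]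
  have hm : 0 < m := Module.finrank_pos_iff.2 ((Submodule.nontrivial_iff_ne_bot).2 hW0)
  refine ⟨m, ρ, hm, ?_, ?_, hfpf⟩
  · rw [injective_iff_map_eq_one]
    intro g hg
    by_contra hg1
    have h := hfpf g hg1 (fun _ => (1 : F)) (by rw [hg, Units.val_one, Matrix.one_mulVec])
    exact one_ne_zero (congrFun h ⟨0, hm⟩)
  · intro U hU
    let U' : Submodule F (G → F) := (U.comap b.equivFun.toLinearMap).map W.subtype
    have hU' : Inv U' := by
      rintro g _ ⟨w, hw, rfl⟩
      refine ⟨T g w, ?_, rfl⟩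
      show b.equivFun (T g w) ∈ U
      rw [← hρ]
      exact hU g _ hw
    by_cases h0 : U' = ⊥
    · left
      rw [Submodule.eq_bot_iff]
      intro u hu
      obtain ⟨w, rfl⟩ := b.equivFun.surjective u
      have : ((w : W) : G → F) ∈ U' := ⟨w, hu, rfl⟩
      rw [h0, Submodule.mem_bot] at this
      rw [show w = 0 from Subtype.ext this, map_zero]
    · right
      have hWU := hmin U' (Submodule.map_subtype_le _ _) h0 hU'
      rw [Submodule.eq_top_iff']
      intro u
      obtain ⟨w, rfl⟩ := b.equivFun.surjective u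
      have hmem : ((w : W) : G → F) ∈ U' := by rw [hWU]; exact w.2
      obtain ⟨w', hw', e⟩ := hmem
      rwa [← Subtype.ext e]

/-- A Frobenius complement has a fixed point free module over some prime field. -/
theorem exists_module {L : Type*} [Group L] [Finite L] {H : Subgroup L} (hH : Cfsg.IsFrobeniusComplement H) :
    ∃ (p n : ℕ) (_ : Fact p.Prime) (σ : H →* GL (Fin n) (ZMod p)), 0 < n ∧ (Nat.card H).Coprime p ∧
      ∀ g, g ≠ 1 → ∀ v, ((σ g : GL (Fin n) (ZMod p)) : Matrix (Fin n) (Fin n) (ZMod p)).mulVec v = v → v = 0 := by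
  obtain ⟨N, hNk, hNn, φ, r, hφ, hr, hord⟩ := Frobenius.exists_fpf_automorphism hH
  obtain ⟨N', hN'k, -, hNc⟩ := CharInt.exists_frobeniusKernel hH
  obtain rfl : N' = N := SetLike.coe_injective (hN'k.trans hNk.symm)
  haveI := hNn
  have hN : N' ≠ ⊥ := fun h => hH.2.1 (by
    have := hNc.sup_eq_top
    rwa [h, bot_sup_eq] at this)
  have hf := (Frobenius.isFrobeniusComplement_iff hNc hN hH.1).1 hH
  haveI := S0033.result φ hφ r hr hord
  obtain ⟨p, hp, hpd⟩ := Nat.exists_prime_and_dvd (fun h => hN (Subgroup.card_eq_one.1 h) : Nat.card N' ≠ 1)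
  haveI := Fact.mk hp
  have hcop : (Nat.card H).Coprime p :=
    (Frobenius.coprime_of_fpf (by rw [Subgroup.normalizer_eq_top]; exact le_top) hf).coprime_dvd_right hpd
  obtain ⟨P⟩ : Nonempty (Sylow p N') := Sylow.nonempty
  haveI hPn : (P : Subgroup N').Normal :=
    Sylow.normal_of_normalizerCondition Group.normalizerCondition_of_isNilpotent P
  haveI hPc : (P : Subgroup N').Characteristic := P.characteristic_of_normal hPn
  set Q : Subgroup L := (P : Subgroup N').map N'.subtype with hQdef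
  have hQn : Q.Normal := inferInstance
  have hQp : IsPGroup p Q := P.2.map _
  haveI : Nontrivial Q := (Subgroup.nontrivial_iff_ne_bot Q).2 fun h =>
    P.ne_bot_of_dvd_card hpd ((Subgroup.map_eq_bot_iff_of_injective _ N'.subtype_injective).1 h)
  haveI := hQp.center_nontrivial
  have hQN : Q ≤ N' := Subgroup.map_subtype_le _
  let W : Subgroup L :=
    { carrier := {x | x ∈ Q ∧ (∀ u ∈ Q, u * x = x * u) ∧ x ^ p = 1}
      one_mem' := ⟨one_mem _, by simp, one_pow p⟩
      mul_mem' := by
        rintro a b ⟨ha, hac, hap⟩ ⟨hb, hbc, hbp⟩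
        refine ⟨mul_mem ha hb, fun u hu => ?_, ?_⟩
        · rw [← mul_assoc, hac u hu, mul_assoc, hbc u hu, mul_assoc]
        · rw [(show Commute a b from hbc a ha).mul_pow, hap, hbp, one_mul]
      inv_mem' := by
        rintro a ⟨ha, hac, hap⟩
        exact ⟨inv_mem ha, fun u hu => ((show Commute u a from hac u hu).inv_right).eq, by rw [inv_pow, hap, inv_one]⟩ }
  haveI hWne : Nontrivial W := by
    obtain ⟨⟨z, hz⟩, hzp⟩ := exists_prime_orderOf_dvd_card' (G := Subgroup.center Q) p (by
      obtain ⟨j, hj⟩ := IsPGroup.iff_card.1 (hQp.to_subgroup (Subgroup.center Q))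
      rcases j with _ | j
      · rw [pow_zero] at hj; exact absurd hj (Finite.one_lt_card.ne')
      · rw [hj]; exact dvd_pow_self p (Nat.succ_ne_zero j))
    rw [Subgroup.orderOf_mk] at hzp
    refine ⟨⟨⟨(z : L), z.2, fun u hu => congrArg Subtype.val (Subgroup.mem_center_iff.1 hz ⟨u, hu⟩),
      by rw [← hzp, ← Subgroup.orderOf_coe, pow_orderOf_eq_one]⟩, 1, fun e => hp.ne_one ?_⟩⟩
    rw [← hzp, ← Subgroup.orderOf_coe, show (z : L) = 1 from congrArg Subtype.val e, orderOf_one]
  have hconj : ∀ (g : L) x, x ∈ W → g * x * g⁻¹ ∈ W := by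
    rintro g x ⟨hx, hxc, hxp⟩
    refine ⟨hQn.conj_mem x hx g, fun u hu => ?_, by rw [conj_pow, hxp, mul_one, mul_inv_cancel]⟩
    have h := hxc (g⁻¹ * u * g) (by simpa using hQn.conj_mem u hu g⁻¹)
    calc u * (g * x * g⁻¹) = g * (g⁻¹ * u * g * x) * g⁻¹ := by group
      _ = g * x * g⁻¹ * u := by rw [h]; group
  haveI hWn : W.Normal := ⟨fun x hx g => hconj g x hx⟩
  letI : CommGroup W := { (inferInstance : Group W) with
    mul_comm := fun a b => Subtype.ext (b.2.2.1 a a.2.1) }
  have hexp : ∀ a : Additive W, p • a = 0 := fun a => by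
    apply Additive.toMul.injective
    rw [toMul_nsmul, toMul_zero]
    exact Subtype.ext a.toMul.2.2.2
  letI : Module (ZMod p) (Additive W) := AddCommGroup.zmodModule (n := p) hexp
  let T : H → Module.End (ZMod p) (Additive W) := fun h =>
    ((MulAut.conjNormal (H := W) (h : L)).toMonoidHom.toAdditive).toZModLinearMap p
  have hT : ∀ h (a : Additive W), ((Additive.toMul (T h a) : W) : L) = h * (Additive.toMul a : W) * (h : L)⁻¹ := fun h a => rfl
  let b := Module.finBasis (ZMod p) (Additive W)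
  let n := Module.finrank (ZMod p) (Additive W)
  let M : H →* Matrix (Fin n) (Fin n) (ZMod p) :=
    { toFun := fun g => LinearMap.toMatrixAlgEquiv b (T g)
      map_one' := by
        rw [← map_one (LinearMap.toMatrixAlgEquiv b)]
        congr 1
        refine LinearMap.ext fun w => Additive.toMul.injective (Subtype.ext ?_)
        rw [hT]; simp
      map_mul' := fun g h => by
        rw [← map_mul]
        congr 1
        refine LinearMap.ext fun w => Additive.toMul.injective (Subtype.ext ?_)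
        rw [hT, Module.End.mul_apply, hT, hT]
        simp [mul_assoc] }
  refine ⟨p, n, inferInstance, M.toHomUnits, Module.finrank_pos, hcop, fun g hg v hv => ?_⟩
  obtain ⟨w, rfl⟩ := b.equivFun.surjective v
  have hv' : (LinearMap.toMatrix b b (T g)).mulVec (b.equivFun w) = b.equivFun w := hv
  rw [Module.Basis.equivFun_apply, LinearMap.toMatrix_mulVec_repr] at hv'
  have hgw := congrArg (fun a => ((Additive.toMul a : W) : L)) (b.repr.injective (DFunLike.coe_injective hv'))
  rw [hT, mul_inv_eq_iff_eq_mul] at hgw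
  have hmem : ((Additive.toMul w : W) : L) ∈ N' ⊓ Subgroup.centralizer {(g : L)} :=
    ⟨hQN (Additive.toMul w).2.1, Subgroup.mem_centralizer_singleton_iff.2 hgw.symm⟩
  rw [hf g g.2 (fun e => hg (Subtype.ext e)), Subgroup.mem_bot] at hmem
  rw [show w = 0 from Additive.toMul.injective (Subtype.ext hmem), map_zero]

/-- Let G be a finite group that occurs as a Frobenius complement. Then G has a faithful irreducible representation over an algebraic closure of the rationals in which no non-identity element of G has 1 as an eigenvalue: there are n ≥ 1 and an injective homomorphism ρ from G to GL(n) over that field, with no invariant subspace other than 0 and the whole space, such that for g ≠ 1 the only vector fixed by ρ(g) is 0. -/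
theorem result {G : Type*} [Group G] [Finite G]
    (hFC : ∃ (L : Type) (_ : Group L) (_ : Finite L) (H : Subgroup L), Cfsg.IsFrobeniusComplement H ∧ Nonempty (G ≃* H)) :
    ∃ (n : ℕ) (ρ : G →* GL (Fin n) (AlgebraicClosure ℚ)), 0 < n ∧ Function.Injective ρ ∧
      (∀ W : Submodule (AlgebraicClosure ℚ) (Fin n → AlgebraicClosure ℚ),
        (∀ g : G, ∀ w ∈ W, ((ρ g : GL (Fin n) (AlgebraicClosure ℚ)) : Matrix (Fin n) (Fin n) (AlgebraicClosure ℚ)).mulVec w ∈ W) → W = ⊥ ∨ W = ⊤) ∧
      ∀ g : G, g ≠ 1 → ∀ v : Fin n → AlgebraicClosure ℚ,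
        ((ρ g : GL (Fin n) (AlgebraicClosure ℚ)) : Matrix (Fin n) (Fin n) (AlgebraicClosure ℚ)).mulVec v = v → v = 0 := by
  obtain ⟨L, _, _, H, hH, ⟨e⟩⟩ := hFC
  obtain ⟨p, n, _, σ, hn, hcop, hσ⟩ := exists_module hH
  refine exists_char_zero (AlgebraicClosure ℚ) hn (by rwa [Nat.card_congr e.toEquiv]) (σ.comp e.toMonoidHom) fun g hg => hσ (e g) ?_
  exact fun h => hg (e.map_eq_one_iff.1 h)

end Cfsg.Agent.S3357
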