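import Mathlib
import Cfsg.Statements.S0338
import Cfsg.Agent.Lib.Perm.ZassenhausNormal
import Cfsg.Agent.Lib.ZassenhausOdd.Basic

set_option autoImplicit false
set_option linter.style.haveILetI false
open Cfsg

namespace Cfsg.Agent.S0338

open MulAction Finset

/-- A Zassenhaus group of odd degree is a simple group. -/
theorem result {G Ω : Type*} [Group G] [MulAction G Ω] [Fintype Ω]
    (hZ : Cfsg.IsZassenhausGroup G Ω) (hodd : Odd (Fintype.card Ω)) : IsSimpleGroup G := by
  classical
  haveI := hZ.1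
  haveI := Perm.Zass.finite_group hZ
  haveI := Fintype.ofFinite G
  obtain ⟨g₀, hg₀, a, b, hab, -, -⟩ := hZ.2.2.2.1
  haveI : Nontrivial G := ⟨g₀, 1, hg₀⟩
  have honly : ∀ s : G, s * s = 1 → s ≠ 1 → ∃ c : Ω, s • c = c ∧ ∀ x : Ω, s • x = x → x = c := by
    intro s hs hs1
    have h1 := Perm.Zass.card_fixed_le hZ hs1
    have h2 : ¬ Even (univ.filter fun x : Ω => s • x = x).card := by
      exact fun e => Nat.not_even_iff_odd.2 hodd ((Perm.Zass.card_fixed_parity hs).1 (by convert e))
    have h3 : (univ.filter fun x : Ω => s • x = x).card = 1 := by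
      rcases Nat.lt_or_ge (univ.filter fun x : Ω => s • x = x).card 1 with h | h
      · exact absurd (by simp [show (univ.filter fun x : Ω => s • x = x).card = 0 by omega]) h2
      · rcases Nat.lt_or_ge (univ.filter fun x : Ω => s • x = x).card 2 with h' | h'
        · omega
        · exact absurd (by rw [show (univ.filter fun x : Ω => s • x = x).card = 2 by omega]; norm_num) h2
    obtain ⟨c, hc⟩ := card_eq_one.1 h3
    have hc' : ∀ x, s • x = x ↔ x = c := fun x => by
      have := Finset.ext_iff.1 hc x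
      simpa using this
    exact ⟨c, (hc' c).2 rfl, fun x => (hc' x).1⟩
  set D := ZassenhausOdd.twoStab G a b
  have hDodd : Odd (Nat.card D) := by
    rw [← Nat.not_even_iff_odd]
    intro hev
    obtain ⟨⟨z, hz⟩, hzo⟩ := exists_prime_orderOf_dvd_card' 2 (G := D) hev.two_dvd
    rw [Subgroup.orderOf_mk] at hzo
    obtain ⟨c, -, hc⟩ := honly z (Perm.Zass.sq_eq_one_of_order hzo)
      (fun e => by rw [e, orderOf_one] at hzo; omega)
    exact hab ((hc a hz.1).trans (hc b hz.2).symm)
  -- an involution exchanging `a` and `b`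
  obtain ⟨g, hga, hgb⟩ := Perm.Zass.two_trans hZ hab hab.symm
  obtain ⟨k, hk⟩ := hDodd
  have hg2 : g ^ 2 ∈ D := ⟨by change g ^ 2 • a = a; rw [pow_two, mul_smul, hga, hgb],
    by change g ^ 2 • b = b; rw [pow_two, mul_smul, hgb, hga]⟩
  have hg2e : (g ^ 2) ^ Nat.card D = 1 := by
    have := congrArg Subtype.val (pow_card_eq_one' (x := (⟨g ^ 2, hg2⟩ : D)))
    rwa [SubmonoidClass.coe_pow, OneMemClass.coe_one] at this
  set t := g ^ Nat.card D with ht
  have htt : t * t = 1 := by rw [ht, ← pow_two, ← pow_mul, mul_comm, pow_mul, hg2e]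
  have hgk : t = g * (g ^ 2) ^ k := by rw [ht, hk, ← pow_mul, ← pow_succ']
  have hgkD : (g ^ 2) ^ k ∈ D := pow_mem hg2 k
  have hta : t • a = b := by rw [hgk, mul_smul, (show (g ^ 2) ^ k • a = a from hgkD.1), hga]
  have htb : t • b = a := by rw [hgk, mul_smul, (show (g ^ 2) ^ k • b = b from hgkD.2), hgb]
  have ht1 : t ≠ 1 := fun e => hab (by rw [← hta, e, one_smul])
  obtain ⟨c, htc, -⟩ := honly t htt ht1
  have hca : c ≠ a := fun e => hab (by rw [← hta, ← e, htc, e])
  have hcb : c ≠ b := fun e => hab (by rw [← htb, ← e, htc, e])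
  refine ⟨fun N hN => ?_⟩
  by_cases hNb : N = ⊥
  · exact Or.inl hNb
  refine Or.inr (eq_top_iff.2 fun x _ => ?_)
  have hZN := Perm.Zass.normal_isZassenhausGroup hZ N hNb
  -- elements fixing exactly one point lie in `N`
  have hmem : ∀ (p : Ω) (s : G), s • p = p → (∀ y : Ω, s • y = y → y = p) → s ∈ N := by
    intro p s hsp hs
    obtain ⟨q, hq⟩ : ∃ q, q ≠ p := by
      by_cases h : a = p
      · exact ⟨b, fun e => hab (h.trans e.symm)⟩
      · exact ⟨a, h⟩
    have h1 := ZassenhausOdd.card_fix_only hZ (a := p) (b := q) hq.symm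
    have h2 := ZassenhausOdd.card_fix_only hZN (a := p) (b := q) hq.symm
    have h3 : (univ.filter fun g : N => g • p = p ∧ ∀ c : Ω, g • c = c → c = p).map
        (Function.Embedding.subtype _) =
        univ.filter fun g : G => g • p = p ∧ ∀ c : Ω, g • c = c → c = p := by
      refine eq_of_subset_of_card_le (fun y hy => ?_) (by rw [card_map, h1]; exact h2.ge)
      simp only [Finset.mem_map, mem_filter, mem_univ, true_and] at hy ⊢
      obtain ⟨z, hz, rfl⟩ := hy
      exact hz
    have hs' : s ∈ univ.filter fun g : G => g • p = p ∧ ∀ c : Ω, g • c = c → c = p := by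
      simp only [mem_filter, mem_univ, true_and]; exact ⟨hsp, hs⟩
    rw [← h3, Finset.mem_map] at hs'
    obtain ⟨z, -, hz⟩ := hs'
    rw [← hz]; exact z.2
  have htN : t ∈ N := by
    obtain ⟨c', h1, h2⟩ := honly t htt ht1
    exact hmem c' t h1 h2
  -- conjugation by `t` inverts `D`
  have hconj : ∀ d ∈ D, t * d * t ∈ D := by
    intro d hd
    refine ⟨?_, ?_⟩
    · change (t * d * t) • a = a
      rw [mul_smul, mul_smul, hta, (show d • b = b from hd.2), htb]
    · change (t * d * t) • b = b
      rw [mul_smul, mul_smul, htb, (show d • a = a from hd.1), hta]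
  let φ : D →* D :=
    MonoidHom.mk' (fun d => ⟨t * d * t, hconj d d.2⟩) fun u v => Subtype.ext <| by
      change t * (u * v : G) * t = (t * u * t) * (t * v * t)
      calc t * (u * v : G) * t = t * u * 1 * v * t := by group
        _ = _ := by rw [← htt]; group
  have hfpf : MonoidHom.FixedPointFree φ := by
    intro d hd
    have h1 : t * (d : G) * t = d := congrArg Subtype.val hd
    have h2 : (d : G) • c = c := by
      obtain ⟨c', hc', huniq⟩ := honly t htt ht1
      have hcc : c = c' := huniq c htc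
      have : t • (d : G) • c = (d : G) • c := by
        conv_rhs => rw [← h1, mul_smul, mul_smul, htc]
      exact (huniq _ this).trans hcc.symm
    exact Subtype.ext (Perm.Zass.eq_one_of_three hZ hab hcb.symm hca.symm d.2.1 d.2.2 h2)
  have hinv : ∀ d ∈ D, t * d * t = d⁻¹ := fun d hd => by
    have := congrFun (MonoidHom.FixedPointFree.coe_eq_inv_of_involutive hfpf fun u => Subtype.ext <| by
      change t * (t * (u : G) * t) * t = u
      calc t * (t * (u : G) * t) * t = (t * t) * u * (t * t) := by group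
        _ = u := by rw [htt, one_mul, mul_one]) ⟨d, hd⟩
    exact congrArg Subtype.val this
  have hDN : ∀ d ∈ D, d ∈ N := by
    intro d hd
    have h1 : d⁻¹ * t * d * t ∈ N := N.mul_mem (hN.conj_mem' t htN d) htN
    have h2 : d⁻¹ * t * d * t = (d ^ 2)⁻¹ := by
      rw [mul_assoc d⁻¹ t d, mul_assoc, hinv d hd, pow_two, mul_inv_rev]
    rw [h2, inv_mem_iff] at h1
    have h3 : d ^ Nat.card D = 1 := by
      have := congrArg Subtype.val (pow_card_eq_one' (x := (⟨d, hd⟩ : D)))
      rwa [SubmonoidClass.coe_pow, OneMemClass.coe_one] at this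
    have h4 : d = ((d ^ 2) ^ k)⁻¹ := by
      rw [eq_inv_iff_mul_eq_one, ← pow_mul, ← pow_succ', ← hk, h3]
    rw [h4]
    exact N.inv_mem (N.pow_mem h1 k)
  obtain ⟨⟨n, hn⟩, hna, hnb⟩ := (is_two_pretransitive_iff).1 hZN.2.1 hab
    (show x • a ≠ x • b from fun e => hab (smul_left_cancel x e))
  have hd : n⁻¹ * x ∈ D := ⟨by
      change (n⁻¹ * x) • a = a
      rw [mul_smul, inv_smul_eq_iff]; exact hna.symm, by
      change (n⁻¹ * x) • b = b
      rw [mul_smul, inv_smul_eq_iff]; exact hnb.symm⟩
  have := N.mul_mem hn (hDN _ hd)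
  rwa [mul_inv_cancel_left] at this

end Cfsg.Agent.S0338
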