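import Cfsg.Statements.S0295
import Cfsg.Agent.Lib.ClassicalSimple.OrthMatrix
import Cfsg.Agent.Lib.Forms.Quad
-- import your own Cfsg.Agent.* helpers here

set_option autoImplicit false
open Cfsg

namespace Cfsg.Agent.S0295

/-- PΩ_{2m+1}(q) is simple for q odd and m at least 3. -/
theorem result {F : Type*} [Field F] [Fintype F] (hodd : Odd (Fintype.card F)) (m : ℕ) (hm : 3 ≤ m) : IsSimpleGroup (Cfsg.POmega F (Cfsg.quadFormOdd m F)) := by
  rw [show Cfsg.quadFormOdd m F = ⇑(Forms.quadOdd m F) from (funext Forms.quadOdd_apply).symm]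
  refine ClassicalSimple.POmega_isSimpleGroup _ (Forms.quadOdd_nondegenerate ?_ m) ?_
  · intro h2
    have : CharP F 2 := CharTwo.of_one_ne_zero_of_two_eq_zero one_ne_zero h2
    have hd : 2 ∣ Fintype.card F := (CharP.cast_eq_zero_iff F 2 _).1 (FiniteField.cast_card_eq_zero F)
    exact Nat.not_even_iff_odd.2 hodd (even_iff_two_dvd.2 hd)
  · simp only [Fintype.card_sum, Fintype.card_unique, Fintype.card_fin]
    omega

end Cfsg.Agent.S0295
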