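import Cfsg.Statements.S5251
import Cfsg.Agent.Lib.Fusion.NormalCriteria
import Cfsg.Agent.Lib.Fusion.Factor

set_option autoImplicit false
open Cfsg

namespace Cfsg.Agent.S5251

open Cfsg.FusionSystem Cfsg.Agent.Fusion

universe v
variable {Ω : Type v} [Group Ω] {S T : Subgroup Ω} [Finite S] {p : ℕ} [Fact p.Prime]
  {F : Cfsg.FusionSystem S}

theorem mem_normalizer_centralizer {Q : Subgroup Ω} {x : Ω}
    (hx : x ∈ Subgroup.normalizer (Q : Set Ω)) :
    x ∈ Subgroup.normalizer (Subgroup.centralizer (Q : Set Ω) : Set Ω) := by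
  refine Subgroup.mem_normalizer_iff.2 fun y => ?_
  simp only [Subgroup.mem_centralizer_iff]
  have hq := fun q => Subgroup.mem_normalizer_iff.1 hx q
  constructor
  · intro h q hq'
    have h1 := h (x⁻¹ * q * x) ((hq _).2 (by simpa [mul_assoc] using hq'))
    have h2 : x * (x⁻¹ * q * x * y) * x⁻¹ = x * (y * (x⁻¹ * q * x)) * x⁻¹ := by rw [h1]
    simpa [mul_assoc] using h2
  · intro h q hq'
    have h1 := h (x * q * x⁻¹) ((hq q).1 hq')
    have h2 : x⁻¹ * (x * q * x⁻¹ * (x * y * x⁻¹)) * x = x⁻¹ * (x * y * x⁻¹ * (x * q * x⁻¹)) * x := by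
      rw [h1]
    simpa [mul_assoc] using h2

/-- Automorphisms fixing `P ⊓ T` and translating in `T` lie in `O_p(Aut_F(P))`. -/
theorem mem_pCore_of_stab (hS : IsPGroup p S) (hT : F.StronglyClosed T) {P : Subgroup Ω}
    (hP : P ≤ S) {β : MulAut P} (hβ : β ∈ F.autGroup P)
    (h1 : ∀ x : P, (x : Ω) ∈ T → β x = x)
    (h2 : ∀ x : P, (x : Ω)⁻¹ * ((β x : P) : Ω) ∈ T) :
    β ∈ (Cfsg.pCore p ↥(F.autGroup P)).map (F.autGroup P).subtype := by
  let K : Subgroup (F.autGroup P) :=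
    { carrier := {a | (∀ x : P, (x : Ω) ∈ T → (a : MulAut P) x = x) ∧ a ∈ modKernel F hT hP}
      one_mem' := ⟨fun _ _ => rfl, one_mem _⟩
      mul_mem' := fun {a b} ha hb => ⟨fun x hx => by
        show (a : MulAut P) ((b : MulAut P) x) = x
        rw [hb.1 x hx, ha.1 x hx], mul_mem ha.2 hb.2⟩
      inv_mem' := fun {a} ha => ⟨fun x hx => by
        show (a : MulAut P)⁻¹ x = x
        conv_lhs => rw [← ha.1 x hx]
        exact MulAut.inv_apply_self _ _ _, inv_mem ha.2⟩ }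
  have hKn : K.Normal := ⟨fun k hk a => ⟨fun x hx => by
    show (a : MulAut P) ((k : MulAut P) ((a : MulAut P)⁻¹ x)) = x
    rw [hk.1 _ (apply_mem_of_stronglyClosed hT hP (inv_mem a.2) hx), MulAut.apply_inv_self],
    (modKernel_normal hT hP).conj_mem k hk.2 a⟩⟩
  have := finite_of_le (Ω := Ω) hP
  have hKp : IsPGroup p K := by
    obtain ⟨m, hm⟩ := IsPGroup.iff_card.1 (hS.to_le hP)
    rintro ⟨a, ha1, ha2⟩
    refine ⟨m, Subtype.ext (Subtype.ext (MulEquiv.ext fun x => ?_))⟩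
    set w := x⁻¹ * (a : MulAut P) x with hw
    have hwT : (w : Ω) ∈ T := ha2 x
    show ((a : MulAut P) ^ p ^ m) x = x
    rw [aut_pow_apply_of_fixed _ (z := w) (by rw [hw, mul_inv_cancel_left]) (ha1 w hwT),
      show w ^ p ^ m = 1 by rw [← hm]; exact pow_card_eq_one', mul_one]
  exact ⟨⟨β, hβ⟩, PCore.le_pCore hKp ⟨h1, h2⟩, rfl⟩

/-- Let F be a saturated fusion system over a finite p-group S, E a normal subsystem of F over T, and P an F-centric subgroup of S such that P ∩ T is not E-centric. Then some F-conjugate P* of P satisfies Out_S(P*) ∩ O_p(Out_F(P*)) ≠ 1: there is an element of N_S(P*) outside P* whose conjugation action on P* lies in O_p(Aut_F(P*)). In particular P is not both centric and radical in F. -/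
theorem result {Ω : Type*} [Group Ω] {S : Subgroup Ω} [Finite S] (p : ℕ) [Fact p.Prime] (hS : IsPGroup p S) (F : Cfsg.FusionSystem S) (hF : F.IsSaturated p) {T : Subgroup Ω} (E : Cfsg.FusionSystem T) (hE : E.IsNormalIn F p) (P : Subgroup Ω) (hP : F.IsCentric P) (hPT : ¬ E.IsCentric (P ⊓ T)) : (∃ φ ∈ F.Hom P, ∃ x ∈ S ⊓ Subgroup.normalizer (φ.range : Set Ω), x ∉ φ.range ∧ ∃ α ∈ ((Cfsg.pCore p ↥(F.autGroup φ.range)).map (F.autGroup φ.range).subtype : Subgroup (MulAut ↥φ.range)), ∀ y : ↥φ.range, ((α y : ↥φ.range) : Ω) = x * (y : Ω) * x⁻¹) ∧ ¬ F.IsRadical p P := by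
  obtain ⟨⟨-, -, hsub, hT, -, -⟩, -⟩ := hE
  have hPS := hP.1
  have hTS := hT.1
  set Q₀ := P ⊓ T with hQ₀
  have hQ₀S : Q₀ ≤ S := inf_le_right.trans hTS
  have hTn := le_normalizer_of_stronglyClosed hT
  -- a bad conjugate
  obtain ⟨Q', hQ', hbad⟩ : ∃ Q', E.IsConj Q₀ Q' ∧ ¬ centralizerIn T Q' ≤ Q' := by
    by_contra! h
    exact hPT ⟨inf_le_right, h⟩
  obtain ⟨g, hg, hgQ⟩ := SetLike.not_le_iff_exists.1 hbad
  have hQ'F : F.IsConj Q₀ Q' := by
    obtain ⟨φ, hφ, hr⟩ := hQ'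
    exact ⟨φ, hsub _ hφ, hr⟩
  obtain ⟨Q, hQQ, hQn⟩ := exists_fullyNormalized F hQ₀S
  -- `C_T(Q)` is not in `Q`
  obtain ⟨d, hd, hdQ⟩ : ∃ d ∈ centralizerIn T Q, d ∉ Q := by
    obtain ⟨χ, hχ, hχN, hχQ⟩ :=
      exists_hom_fullyNormalized hS hF hQn (isConj_trans (isConj_symm hQ'F) hQQ)
    have hgN : g ∈ normalizerIn S Q' :=
      ⟨hTS hg.1, Subgroup.centralizer_le_normalizer _ hg.2⟩
    refine ⟨χ ⟨g, hgN⟩, ⟨apply_mem_closed hT hχ _ hg.1, ?_⟩, fun h => hgQ ?_⟩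
    · refine Subgroup.mem_centralizer_iff.2 fun y hy => ?_
      obtain ⟨x, hx, rfl⟩ := hχQ.ge hy
      rw [← map_mul, ← map_mul]
      exact congrArg χ (Subtype.ext (Subgroup.mem_centralizer_iff.1 hg.2 _ hx))
    · obtain ⟨x, hx, he⟩ := hχQ.ge h
      have h1 : x = ⟨g, hgN⟩ := F.injective_of_mem hχ he
      rw [h1] at hx
      exact hx
  obtain ⟨ψ, hψ, hψN, hψQ⟩ := exists_hom_fullyNormalized hS hF hQn hQQ
  have hPN : P ≤ normalizerIn S Q₀ := le_inf hPS fun x hx => by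
    have := finite_of_le (Ω := Ω) hQ₀S
    refine Subgroup.mem_normalizer_iff.2 fun y => ⟨fun hy => ⟨?_, ?_⟩, fun hy => ⟨?_, ?_⟩⟩
    · exact P.mul_mem (P.mul_mem hx hy.1) (P.inv_mem hx)
    · exact (Subgroup.mem_normalizer_iff.1 (hTn (hPS hx)) y).1 hy.2
    · simpa [mul_assoc] using P.mul_mem (P.mul_mem (P.inv_mem hx) hy.1) hx
    · exact (Subgroup.mem_normalizer_iff.1 (hTn (hPS hx)) y).2 hy.2
  set φ := ψ.comp (Subgroup.inclusion hPN) with hφdef
  have hφ : φ ∈ F.Hom P := restrict_mem hψ hPN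
  have hRS : φ.range ≤ S := range_le hφ
  have hRT : φ.range ⊓ T = Q := by
    refine le_antisymm ?_ fun y hy => ?_
    · rintro _ ⟨⟨x, rfl⟩, hxT⟩
      obtain ⟨ρ, hρ, -, hρi, -⟩ := exists_inverse hφ (rfl : φ.range = φ.range)
      have h1 := apply_mem_closed hT hρ ⟨φ x, x, rfl⟩ hxT
      rw [hρi x ⟨x, rfl⟩] at h1
      exact hψQ.le ⟨_, ⟨x.2, h1⟩, rfl⟩
    · obtain ⟨x, hx, rfl⟩ := hψQ.ge hy
      exact ⟨⟨⟨x, hx.1⟩, rfl⟩, apply_mem_closed hT hψ x hx.2⟩
  have hCn : φ.range ≤ Subgroup.normalizer (centralizerIn T Q : Set Ω) := by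
    rintro _ ⟨x, rfl⟩
    have h1 : φ x ∈ Subgroup.normalizer (Q : Set Ω) := (hψN _).2
    refine Subgroup.mem_normalizer_iff.2 fun y => and_congr
      (Subgroup.mem_normalizer_iff.1 (hTn (apply_mem hφ x)) y)
      (Subgroup.mem_normalizer_iff.1 (mem_normalizer_centralizer h1) y)
  obtain ⟨x, hx, hxN, hxR⟩ : ∃ x ∈ centralizerIn T Q, x ∈ Subgroup.normalizer (φ.range : Set Ω) ∧
      x ∉ φ.range := by
    have hCS : centralizerIn T Q ≤ S := inf_le_left.trans hTS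
    have hsup : φ.range ⊔ centralizerIn T Q ≤ S := sup_le hRS hCS
    have hlt : φ.range < φ.range ⊔ centralizerIn T Q := lt_of_le_of_ne le_sup_left fun he =>
      hdQ (hRT.le ⟨he.ge (Subgroup.mem_sup_right hd), hd.1⟩)
    have := finite_of_le (Ω := Ω) hsup
    obtain ⟨g', ⟨hgm, hgN⟩, hgP⟩ := SetLike.exists_of_lt (lt_normalizerIn (hS.to_le hsup) hlt)
    have hgm' : g' ∈ ((φ.range ⊔ centralizerIn T Q : Subgroup Ω) : Set Ω) := hgm
    rw [Subgroup.coe_mul_of_left_le_normalizer_right _ _ hCn] at hgm'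
    obtain ⟨y, hy, q, hq, rfl⟩ := hgm'
    refine ⟨q, hq, ?_, fun hqP => hgP (φ.range.mul_mem hy hqP)⟩
    have h1 := Subgroup.mul_mem _ (Subgroup.inv_mem _ (Subgroup.le_normalizer hy)) hgN
    simpa using h1
  have hxS : x ∈ S := hTS hx.1
  have hα := autInducedBy_le_autGroup F hRS (conjAut_mem_autInducedBy hxS hxN)
  have hfix : ∀ y : φ.range, (y : Ω) ∈ T → conjAut hxN y = y := fun y hy => Subtype.ext (by
    show x * (y : Ω) * x⁻¹ = y
    rw [← Subgroup.mem_centralizer_iff.1 hx.2 _ (hRT.le ⟨y.2, hy⟩), mul_inv_cancel_right])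
  have htr : ∀ y : φ.range, (y : Ω)⁻¹ * ((conjAut hxN y : φ.range) : Ω) ∈ T := fun y => by
    have h1 := (Subgroup.mem_normalizer_iff.1 (hTn (S.inv_mem (hRS y.2))) x).1 hx.1
    have := T.mul_mem h1 (T.inv_mem hx.1)
    simpa [mul_assoc] using this
  refine ⟨⟨φ, hφ, x, ⟨hxS, hxN⟩, hxR, conjAut hxN, mem_pCore_of_stab hS hT hRS hα hfix htr,
    fun y => rfl⟩, fun hrad => ?_⟩
  -- back to `P`
  let e : P ≃* φ.range := homEquiv hφ rfl
  obtain ⟨ρ, hρ, hρr, hρi, -⟩ := exists_inverse hφ (rfl : φ.range = φ.range)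
  let β : MulAut P := MulAut.congr (homEquiv hρ hρr) (conjAut hxN)
  have hβ : β ∈ F.autGroup P := congr_mem_autGroup hρ hρr hα
  have hβv : ∀ y : φ.range, ((β (homEquiv hρ hρr y) : P) : Ω) = ρ (conjAut hxN y) := fun y => by
    show ((MulAut.congr _ _ (homEquiv hρ hρr y) : P) : Ω) = _
    rw [congr_apply, coe_homEquiv]
  have hβm : β ∈ (Cfsg.pCore p ↥(F.autGroup P)).map (F.autGroup P).subtype := by
    refine mem_pCore_of_stab hS hT hPS hβ (fun z hz => ?_) fun z => ?_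
    · obtain ⟨y, rfl⟩ := (homEquiv hρ hρr).surjective z
      refine Subtype.ext ?_
      rw [hβv, coe_homEquiv, hfix y]
      obtain ⟨z', hz'⟩ := y.2
      have h1 := apply_mem_closed hT hφ (homEquiv hρ hρr y) hz
      rw [show homEquiv hρ hρr y = z' from Subtype.ext (by
        rw [coe_homEquiv, show y = ⟨φ z', z', rfl⟩ from Subtype.ext hz'.symm]
        exact hρi z' ⟨z', rfl⟩), hz'] at h1
      exact h1
    · obtain ⟨y, rfl⟩ := (homEquiv hρ hρr).surjective z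
      rw [hβv, coe_homEquiv, ← map_inv, ← map_mul]
      exact apply_mem_closed hT hρ _ (htr y)
  obtain ⟨u, hu⟩ := hrad.2.le hβm
  refine hxR ?_
  have hRc := isCentric_of_isConj hP ⟨φ, hφ, rfl⟩
  by_contra hxR'
  refine conjAut_notMem_inn (isCentric_centralizerIn_le hRc) hRS hxS hxN hxR'
    ⟨(homEquiv hρ hρr).symm u, MulEquiv.ext fun y => ?_⟩
  apply (homEquiv hρ hρr).injective
  rw [MulAut.conj_apply, map_mul, map_mul, map_inv, MulEquiv.apply_symm_apply]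
  have h := congrArg (fun b : MulAut P => b (homEquiv hρ hρr y)) hu
  simp only [MulAut.conj_apply] at h
  rw [h]
  exact congr_apply _ _ _

end Cfsg.Agent.S5251
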