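import Cfsg.Statements.S5199
import Cfsg.Agent.Lib.Fusion.Alperin
import Cfsg.Agent.Lib.Transfer.Residual

set_option autoImplicit false
open Cfsg

namespace Cfsg.Agent.S5199

open Cfsg.FusionSystem Cfsg.Agent.Fusion

variable {Ω : Type*} [Group Ω] {T U S : Subgroup Ω}

/-- The intersection of two systems, over the smaller subgroup. -/
def interSystem (E : Cfsg.FusionSystem T) (D : Cfsg.FusionSystem U) (h : T ≤ U) : Cfsg.FusionSystem T where
  Hom P := E.Hom P ∩ D.Hom P
  le_of_mem hφ := E.le_of_mem hφ.1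
  injective_of_mem hφ := E.injective_of_mem hφ.1
  conj_mem hP hg := ⟨E.conj_mem hP hg, D.conj_mem (hP.trans h) (h hg)⟩
  comp_mem hφ hψ hQ := ⟨E.comp_mem hφ.1 hψ.1 hQ, D.comp_mem hφ.2 hψ.2 hQ⟩
  inv_mem := by
    rintro P φ ⟨hE, hD⟩
    obtain ⟨ψ, hψ, hi⟩ := E.inv_mem hE
    exact ⟨ψ, ⟨hψ, inv_mem' hD rfl fun x _ => hi x⟩, hi⟩

theorem map_aut_le {E : Cfsg.FusionSystem T} {F : Cfsg.FusionSystem S} (h : E.IsSubsystemOf F)
    (P : Subgroup Ω) : E.autGroup P ≤ F.autGroup P :=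
  Subgroup.closure_mono fun _ hα => h _ hα

theorem pResidual_mono {G : Type*} [Group G] {A B : Subgroup G} (h : A ≤ B) (p : ℕ) :
    (Cfsg.pResidual p A).map A.subtype ≤ (Cfsg.pResidual p B).map B.subtype := by
  rw [Cfsg.pResidual, MonoidHom.map_closure, Subgroup.closure_le]
  rintro _ ⟨g, hg, rfl⟩
  refine ⟨⟨g, h g.2⟩, Subgroup.subset_closure ?_, rfl⟩
  show Nat.Coprime (orderOf (⟨(g : G), h g.2⟩ : B)) p
  rw [Subgroup.orderOf_mk, Subgroup.orderOf_coe]
  exact hg

/-- A saturated system is contained in any system seeing `O^p` of its automisers and its inner part. -/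
theorem le_of_pResidual {p : ℕ} [Fact p.Prime] [Finite T] (hT : IsPGroup p T) {E D : Cfsg.FusionSystem T}
    (hE : E.IsSaturated p)
    (h : ∀ R : Subgroup Ω, R ≤ T → (Cfsg.pResidual p (E.autGroup R)).map (E.autGroup R).subtype ≤ D.autGroup R) :
    E ≤ D := by
  refine alperin hT hE D fun R hR _ _ => ?_
  obtain ⟨-, P, hP⟩ := isFullyAutomized_of_fullyNormalized hT hE hR
  have := finite_autGroup (F := E) hR.1
  intro α hα
  have h1 : (⟨α, hα⟩ : E.autGroup R) ∈ (P : Subgroup (E.autGroup R)) ⊔ Cfsg.pResidual p (E.autGroup R) := by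
    rw [Cfsg.Agent.Transfer.sylow_sup_pResidual_eq_top P]; trivial
  rw [hP] at h1
  have h2 := Subgroup.mem_map_of_mem (E.autGroup R).subtype h1
  rw [Subgroup.map_sup] at h2
  refine sup_le ?_ (h R hR.1) h2
  rw [Subgroup.map_subgroupOf_eq_of_le (autInducedBy_le_autGroup E hR.1)]
  exact autInducedBy_le_autGroup D hR.1

/-- Let F be a saturated fusion system over a finite p-group S, E a normal subsystem of F over T, and F₀ a normal subsystem of F over a subgroup U containing both T and the hyperfocal subgroup of F, such that F₀ has p-power index in F. Then E is a subsystem of F₀. -/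
theorem result {Ω : Type*} [Group Ω] {S : Subgroup Ω} [Finite S] (p : ℕ) [Fact p.Prime] (hS : IsPGroup p S) (F : Cfsg.FusionSystem S) (hF : F.IsSaturated p) {T U : Subgroup Ω} (E : Cfsg.FusionSystem T) (hE : E.IsNormalIn F p) (F₀ : Cfsg.FusionSystem U) (hF₀ : F₀.IsNormalIn F p) (hU : T ⊔ F.hyperfocalSubgroup p ≤ U) (hidx : F₀.HasPPowerIndexIn F p) : E.IsSubsystemOf F₀ := by
  obtain ⟨⟨hEsat, -, hEsub, hTc, -⟩, -⟩ := hE
  have hTU : T ≤ U := le_sup_left.trans hU
  have : Finite T := finite_of_le hTc.1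
  intro P φ hφ
  refine (le_of_pResidual (hS.to_le hTc.1) (D := interSystem E F₀ hTU) hEsat (fun R hR => ?_) P hφ).2
  rintro α ⟨a, ha, rfl⟩
  refine Subgroup.subset_closure ⟨(mem_autGroup_iff hR).1 a.2, ?_⟩
  refine (mem_autGroup_iff (hR.trans hTU)).1 ?_
  exact hidx.2.2 R (hR.trans hTU) (pResidual_mono (map_aut_le hEsub R) p ⟨a, ha, rfl⟩)

end Cfsg.Agent.S5199
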