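import Cfsg.Statements.S5137
import Cfsg.Agent.Lib.Fusion.Alperin

set_option autoImplicit false
open Cfsg

namespace Cfsg.Agent.S5137

open Cfsg.FusionSystem Cfsg.Agent.Fusion

variable {A B : Type*} [Group A] [Group B] {S₁ : Subgroup A} {S₂ : Subgroup B}
  {F₁ : Cfsg.FusionSystem S₁} {F₂ : Cfsg.FusionSystem S₂} {E : Cfsg.FusionSystem (S₁.prod S₂)}
  (hE : Cfsg.FusionSystem.IsProductSystem F₁ F₂ E)

theorem proj_fst_le {P : Subgroup (A × B)} (hP : P ≤ S₁.prod S₂) : P.map (MonoidHom.fst A B) ≤ S₁ := by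
  rintro _ ⟨x, hx, rfl⟩; exact (hP hx).1

theorem proj_snd_le {P : Subgroup (A × B)} (hP : P ≤ S₁.prod S₂) : P.map (MonoidHom.snd A B) ≤ S₂ := by
  rintro _ ⟨x, hx, rfl⟩; exact (hP hx).2

/-- The product of two maps, restricted to a subgroup. -/
def prodMap {P : Subgroup (A × B)} {U : Subgroup A} {V : Subgroup B} (φ₁ : U →* A) (φ₂ : V →* B)
    (h : P ≤ U.prod V) : P →* A × B where
  toFun x := (φ₁ ⟨(x : A × B).1, (h x.2).1⟩, φ₂ ⟨(x : A × B).2, (h x.2).2⟩)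
  map_one' := Prod.ext ((congrArg φ₁ (Subtype.ext rfl)).trans φ₁.map_one) ((congrArg φ₂ (Subtype.ext rfl)).trans φ₂.map_one)
  map_mul' x y := Prod.ext
    (show φ₁ _ = φ₁ _ * φ₁ _ by rw [← map_mul]; rfl) (show φ₂ _ = φ₂ _ * φ₂ _ by rw [← map_mul]; rfl)

include hE in
theorem prodMap_mem {P : Subgroup (A × B)} {U : Subgroup A} {V : Subgroup B} {φ₁ : U →* A} {φ₂ : V →* B}
    (h₁ : φ₁ ∈ F₁.Hom U) (h₂ : φ₂ ∈ F₂.Hom V) (h : P ≤ U.prod V) : prodMap φ₁ φ₂ h ∈ E.Hom P := by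
  refine (hE P _).2 ⟨fun x hx => ⟨dom_le h₁ (h hx).1, dom_le h₂ (h hx).2⟩, ?_⟩
  have l₁ : P.map (MonoidHom.fst A B) ≤ U := by rintro _ ⟨x, hx, rfl⟩; exact (h hx).1
  have l₂ : P.map (MonoidHom.snd A B) ≤ V := by rintro _ ⟨x, hx, rfl⟩; exact (h hx).2
  exact ⟨_, restrict_mem h₁ l₁, _, restrict_mem h₂ l₂, fun x _ _ => rfl⟩

theorem normalizer_proj_fst {P : Subgroup (A × B)} {g : A × B} (hg : g ∈ Subgroup.normalizer (P : Set (A × B))) :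
    g.1 ∈ Subgroup.normalizer ((P.map (MonoidHom.fst A B) : Subgroup A) : Set A) :=
  Subgroup.le_normalizer_map (MonoidHom.fst A B) ⟨g, hg, rfl⟩

theorem normalizer_proj_snd {P : Subgroup (A × B)} {g : A × B} (hg : g ∈ Subgroup.normalizer (P : Set (A × B))) :
    g.2 ∈ Subgroup.normalizer ((P.map (MonoidHom.snd A B) : Subgroup B) : Set B) :=
  Subgroup.le_normalizer_map (MonoidHom.snd A B) ⟨g, hg, rfl⟩

include hE in
/-- A subgroup with receptive projections is receptive. -/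
theorem receptive_of_proj {P : Subgroup (A × B)} (hP : P ≤ S₁.prod S₂)
    (h₁ : F₁.IsReceptive (P.map (MonoidHom.fst A B))) (h₂ : F₂.IsReceptive (P.map (MonoidHom.snd A B))) :
    E.IsReceptive P := by
  refine ⟨hP, fun R φ hφ hr => ?_⟩
  obtain ⟨-, φ₁, hφ₁, φ₂, hφ₂, hv⟩ := (hE R φ).1 hφ
  have v : ∀ x : R, φ x = (φ₁ ⟨_, ⟨_, x.2, rfl⟩⟩, φ₂ ⟨_, ⟨_, x.2, rfl⟩⟩) := fun x => hv x _ _
  have r₁ : φ₁.range = P.map (MonoidHom.fst A B) := by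
    rw [← hr]
    apply le_antisymm
    · rintro _ ⟨⟨_, x, hx, rfl⟩, rfl⟩
      exact ⟨_, ⟨⟨x, hx⟩, rfl⟩, congrArg Prod.fst (v ⟨x, hx⟩)⟩
    · rintro _ ⟨_, ⟨x, rfl⟩, rfl⟩
      exact ⟨_, (congrArg Prod.fst (v x)).symm⟩
  have r₂ : φ₂.range = P.map (MonoidHom.snd A B) := by
    rw [← hr]
    apply le_antisymm
    · rintro _ ⟨⟨_, x, hx, rfl⟩, rfl⟩
      exact ⟨_, ⟨⟨x, hx⟩, rfl⟩, congrArg Prod.snd (v ⟨x, hx⟩)⟩
    · rintro _ ⟨_, ⟨x, rfl⟩, rfl⟩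
      exact ⟨_, (congrArg Prod.snd (v x)).symm⟩
  obtain ⟨ψ₁, hψ₁, e₁⟩ := h₁.2 _ φ₁ hφ₁ r₁
  obtain ⟨ψ₂, hψ₂, e₂⟩ := h₂.2 _ φ₂ hφ₂ r₂
  have hle : extender (S₁.prod S₂) R φ ≤
      (extender S₁ (R.map (MonoidHom.fst A B)) φ₁).prod (extender S₂ (R.map (MonoidHom.snd A B)) φ₂) := by
    intro g hg
    obtain ⟨hgS, hgN, k, hk, hx⟩ := mem_extender_iff.1 hg
    refine ⟨mem_extender_iff.2 ⟨hgS.1, normalizer_proj_fst hgN, k.1, hk.1, ?_⟩,
      mem_extender_iff.2 ⟨hgS.2, normalizer_proj_snd hgN, k.2, hk.2, ?_⟩⟩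
    · rintro ⟨_, x, hxR, rfl⟩ _
      have h := congrArg Prod.fst (hx ⟨x, hxR⟩ ((Subgroup.mem_normalizer_iff.1 hgN x).1 hxR))
      rw [v, Prod.fst_mul, Prod.fst_mul, v] at h
      exact h
    · rintro ⟨_, x, hxR, rfl⟩ _
      have h := congrArg Prod.snd (hx ⟨x, hxR⟩ ((Subgroup.mem_normalizer_iff.1 hgN x).1 hxR))
      rw [v, Prod.snd_mul, Prod.snd_mul, v] at h
      exact h
  refine ⟨prodMap ψ₁ ψ₂ hle, prodMap_mem hE hψ₁ hψ₂ hle, fun x hxR hxN => ?_⟩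
  rw [v ⟨x, hxR⟩]
  exact Prod.ext (e₁ x.1 ⟨x, hxR, rfl⟩ (hle hxN).1) (e₂ x.2 ⟨x, hxR, rfl⟩ (hle hxN).2)

/-- `p`-elements of the automiser of `S` act as inner automorphisms. -/
theorem inner_of_pPower {Ω : Type*} [Group Ω] {S : Subgroup Ω} [Finite S] {p : ℕ} [Fact p.Prime]
    (hS : IsPGroup p S) {F : Cfsg.FusionSystem S} (hF : F.IsSaturated p) {α : MulAut S}
    (hα : α ∈ F.autGroup S) {k : ℕ} (hk : α ^ p ^ k = 1) :
    ∃ g ∈ S, ∀ x : S, ((α x : S) : Ω) = g * (x : Ω) * g⁻¹ := by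
  have := finite_autGroup (F := F) (le_refl S)
  have := inn_subgroupOf_normal S (F.autGroup S)
  obtain ⟨-, R, hR⟩ := isFullyAutomized_self hS hF
  have hz : IsPGroup p (Subgroup.zpowers (⟨α, hα⟩ : F.autGroup S)) := by
    obtain ⟨j, -, hj⟩ := (Nat.dvd_prime_pow Fact.out).mp
      (orderOf_dvd_of_pow_eq_one (x := (⟨α, hα⟩ : F.autGroup S)) (n := p ^ k) (Subtype.ext hk))
    exact IsPGroup.of_card (n := j) (by rw [Nat.card_zpowers, hj])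
  have hn : ((R : Subgroup (F.autGroup S))).Normal := by rw [hR, autInducedBy_self]; infer_instance
  have h1 := hz.to_sup_of_normal_right R.2
  have h2 : (R : Subgroup (F.autGroup S)) = Subgroup.zpowers (⟨α, hα⟩ : F.autGroup S) ⊔ R :=
    (R.3 h1 le_sup_right).symm
  have h3 : (⟨α, hα⟩ : F.autGroup S) ∈ (R : Subgroup (F.autGroup S)) :=
    h2.ge (Subgroup.mem_sup_left (Subgroup.mem_zpowers _))
  rw [hR] at h3
  exact mem_autInducedBy_iff.1 h3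

include hE in
theorem fullyAutomized_top [Finite S₁] [Finite S₂] {p : ℕ} [Fact p.Prime] (h₁ : IsPGroup p S₁)
    (h₂ : IsPGroup p S₂) (hF₁ : F₁.IsSaturated p) (hF₂ : F₂.IsSaturated p) :
    E.IsFullyAutomized p (S₁.prod S₂) := by
  have : Finite (S₁.prod S₂) := Finite.of_equiv _ (Subgroup.prodEquiv S₁ S₂).symm.toEquiv
  have hfin := finite_autGroup (F := E) (le_refl (S₁.prod S₂))
  set N := (Cfsg.autInducedBy (S₁.prod S₂) (S₁.prod S₂)).subgroupOf (E.autGroup (S₁.prod S₂))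
  have hNp : IsPGroup p N := by
    refine IsPGroup.of_equiv ?_ (Subgroup.subgroupOfEquivOfLe (autInducedBy_le_autGroup E le_rfl)).symm
    refine isPGroup_autInducedBy ?_ _
    intro x
    obtain ⟨a, ha⟩ := h₁ ⟨(x : A × B).1, x.2.1⟩
    obtain ⟨b, hb⟩ := h₂ ⟨(x : A × B).2, x.2.2⟩
    refine ⟨a + b, Subtype.ext (Prod.ext ?_ ?_)⟩
    · show (x : A × B).1 ^ (p ^ (a + b)) = 1
      rw [pow_add, pow_mul, show (x : A × B).1 ^ p ^ a = 1 from congrArg Subtype.val ha, one_pow]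
    · show (x : A × B).2 ^ (p ^ (a + b)) = 1
      rw [pow_add, mul_comm, pow_mul, show (x : A × B).2 ^ p ^ b = 1 from congrArg Subtype.val hb, one_pow]
  obtain ⟨R, hR⟩ := hNp.exists_le_sylow
  refine ⟨le_rfl, R, le_antisymm ?_ hR⟩
  rintro ⟨α, hα⟩ hαR
  obtain ⟨k, hk⟩ := R.2 ⟨_, hαR⟩
  have hk' : α ^ p ^ k = 1 := congrArg Subtype.val (congrArg Subtype.val hk)
  obtain ⟨hφ, -⟩ := hom_of_mem_autGroup le_rfl hα
  obtain ⟨-, φ₁, hφ₁, φ₂, hφ₂, hv⟩ := (hE _ _).1 hφ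
  have p₁ : (S₁.prod S₂).map (MonoidHom.fst A B) = S₁ :=
    le_antisymm (proj_fst_le le_rfl) fun a ha => ⟨(a, 1), ⟨ha, S₂.one_mem⟩, rfl⟩
  have p₂ : (S₁.prod S₂).map (MonoidHom.snd A B) = S₂ :=
    le_antisymm (proj_snd_le le_rfl) fun b hb => ⟨(1, b), ⟨S₁.one_mem, hb⟩, rfl⟩
  let θ₁ : S₁ →* A := φ₁.comp (Subgroup.inclusion p₁.ge)
  let θ₂ : S₂ →* B := φ₂.comp (Subgroup.inclusion p₂.ge)
  have hθ₁ : θ₁ ∈ F₁.Hom S₁ := restrict_mem hφ₁ p₁.ge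
  have hθ₂ : θ₂ ∈ F₂.Hom S₂ := restrict_mem hφ₂ p₂.ge
  have hr₁ : θ₁.range = S₁ := range_eq_of_le hθ₁ le_rfl (apply_mem hθ₁) le_rfl
  have hr₂ : θ₂.range = S₂ := range_eq_of_le hθ₂ le_rfl (apply_mem hθ₂) le_rfl
  have hpow : ∀ (m : ℕ) (x : S₁.prod S₂), (((α ^ m) x : S₁.prod S₂) : A × B) =
      (((((toAut hθ₁ hr₁) ^ m) ⟨_, x.2.1⟩ : S₁) : A), ((((toAut hθ₂ hr₂) ^ m) ⟨_, x.2.2⟩ : S₂) : B)) := by
    intro m
    induction m with
    | zero => intro x; rfl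
    | succ m ih =>
      intro x
      rw [pow_succ, MulAut.mul_apply, ih, pow_succ, MulAut.mul_apply, pow_succ, MulAut.mul_apply]
      have hx := hv x (p₁.ge x.2.1) (p₂.ge x.2.2)
      exact Prod.ext
        (congrArg (fun z => (((toAut hθ₁ hr₁) ^ m) z : S₁).1) (Subtype.ext (congrArg Prod.fst hx)))
        (congrArg (fun z => (((toAut hθ₂ hr₂) ^ m) z : S₂).1) (Subtype.ext (congrArg Prod.snd hx)))
  have q₁ : (toAut hθ₁ hr₁) ^ p ^ k = 1 := MulEquiv.ext fun x => Subtype.ext <| by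
    have := congrArg Prod.fst (hpow (p ^ k) ⟨((x : A), 1), x.2, S₂.one_mem⟩)
    rw [hk', MulAut.one_apply] at this
    exact this.symm
  have q₂ : (toAut hθ₂ hr₂) ^ p ^ k = 1 := MulEquiv.ext fun x => Subtype.ext <| by
    have := congrArg Prod.snd (hpow (p ^ k) ⟨(1, (x : B)), S₁.one_mem, x.2⟩)
    rw [hk', MulAut.one_apply] at this
    exact this.symm
  obtain ⟨g₁, hg₁, e₁⟩ := inner_of_pPower h₁ hF₁ (toAut_mem hθ₁ hr₁) q₁
  obtain ⟨g₂, hg₂, e₂⟩ := inner_of_pPower h₂ hF₂ (toAut_mem hθ₂ hr₂) q₂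
  refine mem_autInducedBy_iff.2 ⟨(g₁, g₂), ⟨hg₁, hg₂⟩, fun x => ?_⟩
  have := hpow 1 x
  rw [pow_one, pow_one, pow_one, e₁, e₂] at this
  exact this

include hE in
theorem receptive_of_fullyNormalized [Finite S₁] [Finite S₂] [Finite (S₁.prod S₂)] {p : ℕ} [Fact p.Prime]
    (h₁ : IsPGroup p S₁) (h₂ : IsPGroup p S₂) (hF₁ : F₁.IsSaturated p) (hF₂ : F₂.IsSaturated p)
    {P : Subgroup (A × B)} (hP : E.IsFullyNormalized P) : E.IsReceptive P := by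
  obtain ⟨Q₁, c₁, hQ₁⟩ := exists_fullyNormalized F₁ (proj_fst_le hP.1)
  obtain ⟨Q₂, c₂, hQ₂⟩ := exists_fullyNormalized F₂ (proj_snd_le hP.1)
  obtain ⟨ψ₁, hψ₁, -, hm₁⟩ := exists_hom_fullyNormalized h₁ hF₁ hQ₁ c₁
  obtain ⟨ψ₂, hψ₂, -, hm₂⟩ := exists_hom_fullyNormalized h₂ hF₂ hQ₂ c₂
  have hle : normalizerIn (S₁.prod S₂) P ≤
      (normalizerIn S₁ (P.map (MonoidHom.fst A B))).prod (normalizerIn S₂ (P.map (MonoidHom.snd A B))) :=
    fun g hg => ⟨⟨hg.1.1, normalizer_proj_fst hg.2⟩, ⟨hg.1.2, normalizer_proj_snd hg.2⟩⟩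
  set ψ := prodMap ψ₁ ψ₂ hle
  have hψ : ψ ∈ E.Hom (normalizerIn (S₁.prod S₂) P) := prodMap_mem hE hψ₁ hψ₂ hle
  set P'' := (P.subgroupOf (normalizerIn (S₁.prod S₂) P)).map ψ with hP''
  have hconj : E.IsConj P P'' := isConj_of_map_normalizerIn hP.1 hψ hP''.symm
  have hm : ∀ g, ψ g ∈ normalizerIn (S₁.prod S₂) P'' := apply_mem_normalizerIn hP.1 hψ hP''.symm
  have hsurj : ∀ y ∈ normalizerIn (S₁.prod S₂) P'', ∃ g, ψ g = y := by
    have := finite_of_le (normalizerIn_le (S₁.prod S₂) P'')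
    let f : normalizerIn (S₁.prod S₂) P → normalizerIn (S₁.prod S₂) P'' := fun g => ⟨ψ g, hm g⟩
    have hf : Function.Injective f := fun a b h => E.injective_of_mem hψ (congrArg Subtype.val h)
    intro y hy
    obtain ⟨g, hg⟩ := ((Nat.bijective_iff_injective_and_card f).2 ⟨hf, le_antisymm
      (Nat.card_le_card_of_injective f hf) (hP.2 P'' hconj)⟩).2 ⟨y, hy⟩
    exact ⟨g, congrArg Subtype.val hg⟩
  have hC : Nat.card (centralizerIn (S₁.prod S₂) P'') ≤ Nat.card (centralizerIn (S₁.prod S₂) P) := by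
    have := finite_of_le (centralizerIn_le (S₁.prod S₂) P)
    choose g hg using fun c : centralizerIn (S₁.prod S₂) P'' =>
      hsurj c (centralizerIn_le_normalizerIn _ _ c.2)
    have hgC : ∀ c, (g c : A × B) ∈ centralizerIn (S₁.prod S₂) P := by
      intro c
      refine mem_centralizerIn.2 ⟨normalizerIn_le _ _ (g c).2, fun x hx => ?_⟩
      have hxN := le_normalizerIn hP.1 hx
      have h1 := (mem_centralizerIn.1 c.2).2 _ ⟨⟨x, hxN⟩, hx, rfl⟩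
      rw [← hg c, ← map_mul, ← map_mul] at h1
      exact congrArg Subtype.val (E.injective_of_mem hψ h1)
    refine Nat.card_le_card_of_injective (fun c => (⟨_, hgC c⟩ : centralizerIn (S₁.prod S₂) P))
      fun a b h => ?_
    have h' : g a = g b := Subtype.ext (congrArg (fun z : centralizerIn (S₁.prod S₂) P => (z : A × B)) h)
    exact Subtype.ext (by rw [← hg a, ← hg b, h'])
  refine isReceptive_of_map hP.1 (receptive_of_proj hE (isConj_le hconj).2 ?_ ?_) hψ hP''.symm hC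
  · have h : P''.map (MonoidHom.fst A B) = Q₁ := by
      rw [← hm₁]
      apply le_antisymm
      · rintro _ ⟨_, ⟨g, hg, rfl⟩, rfl⟩
        exact ⟨⟨_, (hle g.2).1⟩, ⟨_, hg, rfl⟩, rfl⟩
      · rintro _ ⟨⟨a, ha⟩, ⟨x, hx, hxa⟩, rfl⟩
        exact ⟨_, ⟨⟨x, le_normalizerIn hP.1 hx⟩, hx, rfl⟩, congrArg ψ₁ (Subtype.ext hxa)⟩
    rw [h]; exact isReceptive_of_fullyNormalized h₁ hF₁ hQ₁
  · have h : P''.map (MonoidHom.snd A B) = Q₂ := by
      rw [← hm₂]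
      apply le_antisymm
      · rintro _ ⟨_, ⟨g, hg, rfl⟩, rfl⟩
        exact ⟨⟨_, (hle g.2).2⟩, ⟨_, hg, rfl⟩, rfl⟩
      · rintro _ ⟨⟨a, ha⟩, ⟨x, hx, hxa⟩, rfl⟩
        exact ⟨_, ⟨⟨x, le_normalizerIn hP.1 hx⟩, hx, rfl⟩, congrArg ψ₂ (Subtype.ext hxa)⟩
    rw [h]; exact isReceptive_of_fullyNormalized h₂ hF₂ hQ₂

/-- Let F₁ and F₂ be saturated fusion systems over finite p-groups S₁ and S₂. Then their direct product (the fusion system over S₁ × S₂ whose maps are the restrictions of the product maps (φ₁, φ₂)) is saturated. -/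
theorem result {Ω₁ Ω₂ : Type*} [Group Ω₁] [Group Ω₂] {S₁ : Subgroup Ω₁} {S₂ : Subgroup Ω₂} [Finite S₁] [Finite S₂] (p : ℕ) [Fact p.Prime] (h₁ : IsPGroup p S₁) (h₂ : IsPGroup p S₂) (F₁ : Cfsg.FusionSystem S₁) (F₂ : Cfsg.FusionSystem S₂) (hF₁ : F₁.IsSaturated p) (hF₂ : F₂.IsSaturated p) (E : Cfsg.FusionSystem (S₁.prod S₂)) (hE : Cfsg.FusionSystem.IsProductSystem F₁ F₂ E) : E.IsSaturated p := by
  have : Finite (S₁.prod S₂) := Finite.of_equiv _ (Subgroup.prodEquiv S₁ S₂).symm.toEquiv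
  have hp : IsPGroup p (S₁.prod S₂) := by
    obtain ⟨a, ha⟩ := IsPGroup.iff_card.mp h₁
    obtain ⟨b, hb⟩ := IsPGroup.iff_card.mp h₂
    exact IsPGroup.of_card (n := a + b) (by
      rw [Nat.card_congr (Subgroup.prodEquiv S₁ S₂).toEquiv, Nat.card_prod, ha, hb, pow_add])
  exact (isSaturated_iff_receptive hp).2 ⟨fullyAutomized_top hE h₁ h₂ hF₁ hF₂,
    fun P hP => receptive_of_fullyNormalized hE h₁ h₂ hF₁ hF₂ hP⟩

end Cfsg.Agent.S5137
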