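import Cfsg.Statements.S5144
-- import your own Cfsg.Agent.* helpers here

set_option autoImplicit false
open Cfsg

namespace Cfsg.Agent.S5144

open Cfsg.FusionSystem in
theorem central_bot {Ω : Type*} [Group Ω] {S : Subgroup Ω} (F : Cfsg.FusionSystem S) :
    F.IsCentral ⊥ := by
  refine ⟨bot_le, fun P φ hφ => ?_⟩
  have hP : P ⊔ ⊥ = P := sup_bot_eq P
  have hmem : ∀ Q : Subgroup Ω, Q = P → ∀ h : P ≤ Q, ∃ ψ ∈ F.Hom Q,
      ∀ x : P, ψ (Subgroup.inclusion h x) = φ x := by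
    rintro Q rfl h
    exact ⟨φ, hφ, fun x => congrArg φ (Subtype.ext rfl)⟩
  obtain ⟨ψ, hψ, h1⟩ := hmem (P ⊔ ⊥) hP le_sup_left
  refine ⟨ψ, hψ, h1, fun x => ?_⟩
  have hx : (x : Ω) = 1 := Subgroup.mem_bot.mp x.2
  have : Subgroup.inclusion (le_sup_right : (⊥ : Subgroup Ω) ≤ P ⊔ ⊥) x = 1 := Subtype.ext hx
  rw [this, map_one, hx]

open Cfsg.FusionSystem in
theorem central_sup {Ω : Type*} [Group Ω] {S : Subgroup Ω} (F : Cfsg.FusionSystem S)
    {A B : Subgroup Ω} (hA : F.IsCentral A) (hB : F.IsCentral B) : F.IsCentral (A ⊔ B) := by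
  refine ⟨sup_le hA.1 hB.1, fun P φ hφ => ?_⟩
  obtain ⟨ψ, hψ, hψP, hψA⟩ := hA.2 P φ hφ
  obtain ⟨χ, hχ, hχP, hχB⟩ := hB.2 (P ⊔ A) ψ hψ
  have key : ∀ R : Subgroup Ω, R = P ⊔ A ⊔ B → ∀ (h₁ : P ≤ R) (h₂ : A ⊔ B ≤ R), ∃ ξ ∈ F.Hom R,
      (∀ x : P, ξ (Subgroup.inclusion h₁ x) = φ x) ∧
      ∀ x : ↥(A ⊔ B), ξ (Subgroup.inclusion h₂ x) = x := by
    rintro R rfl h₁ h₂
    refine ⟨χ, hχ, fun x => ?_, fun x => ?_⟩
    · rw [show Subgroup.inclusion h₁ x = Subgroup.inclusion (le_sup_left : P ⊔ A ≤ P ⊔ A ⊔ B)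
        (Subgroup.inclusion (le_sup_left : P ≤ P ⊔ A) x) from Subtype.ext rfl, hχP, hψP]
    · have hle : A ⊔ B ≤ (MonoidHom.eqLocus χ (Subgroup.subtype _)).map (P ⊔ A ⊔ B).subtype := by
        refine sup_le (fun a ha => ?_) (fun b hb => ?_)
        · refine ⟨⟨a, h₂ (le_sup_left (a := A) ha)⟩, ?_, rfl⟩
          show χ _ = a
          rw [show (⟨a, h₂ (le_sup_left (a := A) ha)⟩ : ↥(P ⊔ A ⊔ B)) =
            Subgroup.inclusion (le_sup_left : P ⊔ A ≤ P ⊔ A ⊔ B)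
              (Subgroup.inclusion (le_sup_right : A ≤ P ⊔ A) ⟨a, ha⟩) from Subtype.ext rfl, hχP, hψA]
        · refine ⟨⟨b, h₂ (le_sup_right (a := A) hb)⟩, ?_, rfl⟩
          show χ _ = b
          exact hχB ⟨b, hb⟩
      obtain ⟨y, hy, hyx⟩ := hle x.2
      have hy' : χ y = (y : Ω) := hy
      rw [show Subgroup.inclusion h₂ x = y from Subtype.ext hyx.symm, hy']
      exact hyx
  exact key (P ⊔ (A ⊔ B)) (sup_assoc P A B).symm le_sup_left le_sup_right

theorem finite_le {Ω : Type*} [Group Ω] (S : Subgroup Ω) [Finite S] :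
    {Q : Subgroup Ω | Q ≤ S}.Finite := by
  refine Set.Finite.subset (Set.finite_range (fun K : Subgroup S => K.map S.subtype)) ?_
  intro Q hQ
  exact ⟨Q.subgroupOf S, Subgroup.map_subgroupOf_eq_of_le hQ⟩

/-- For a fusion system over a finite subgroup S, the centre of the system (the join of all subgroups central in it) is itself central in the system, hence its largest central subgroup. -/
theorem result {Ω : Type*} [Group Ω] {S : Subgroup Ω} [Finite S] (F : Cfsg.FusionSystem S) : F.IsCentral F.center := by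
  have hfin : {Q : Subgroup Ω | F.IsCentral Q}.Finite :=
    (finite_le S).subset fun Q hQ => hQ.1
  have : sSup {Q : Subgroup Ω | F.IsCentral Q} = hfin.toFinset.sup id := by
    rw [Finset.sup_id_eq_sSup, Set.Finite.coe_toFinset]
  show F.IsCentral (sSup _)
  rw [this]
  exact Finset.sup_induction (p := F.IsCentral) (central_bot F)
    (fun a ha b hb => central_sup F ha hb) (fun Q hQ => hfin.mem_toFinset.mp hQ)

end Cfsg.Agent.S5144
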