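import Cfsg.Statements.S2799
import Cfsg.Agent.Lib.WeakClosure.SFourFree

set_option autoImplicit false
open Cfsg Cfsg.Agent

namespace Cfsg.Agent.S2799

/-- Let S be a Sylow p-subgroup of the finite group G, J(S) the subgroup generated by the abelian subgroups of S of largest order, and x an element of S lying in the centre of N_G(J(S)). Assume that p is odd, or that x is a p-th power of an element of Z(S), or that the symmetric group of degree 4 is not involved in G. Then x is weakly closed in S with respect to G: every G-conjugate of x that lies in S equals x. -/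
theorem result {G : Type*} [Group G] [Finite G] {p : ℕ} [Fact p.Prime] (S : Sylow p G) (x : G) (hxS : x ∈ (S : Subgroup G)) (hxZ : x ∈ (Subgroup.center ↥(Subgroup.normalizer ((Cfsg.thompsonSubgroupAOf (S : Subgroup G)) : Set G))).map (Subgroup.normalizer ((Cfsg.thompsonSubgroupAOf (S : Subgroup G)) : Set G)).subtype) (h : p ≠ 2 ∨ (∃ z ∈ (S : Subgroup G) ⊓ Subgroup.centralizer ((S : Subgroup G) : Set G), z ^ p = x) ∨ ¬ Cfsg.Involves (Equiv.Perm (Fin 4)) G) : ∀ g : G, g * x * g⁻¹ ∈ (S : Subgroup G) → g * x * g⁻¹ = x := by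
  intro g hg
  set J := Cfsg.thompsonSubgroupAOf (S : Subgroup G) with hJdef
  have hxN : Subgroup.normalizer (J : Set G) ≤ Subgroup.centralizer ({x} : Set G) := by
    intro u hu
    obtain ⟨z, hz, rfl⟩ := hxZ
    exact Subgroup.mem_centralizer_singleton_iff.2
      (congrArg Subtype.val (Subgroup.mem_center_iff.1 hz ⟨u, hu⟩))
  have hW := WeakClosure.isConjugacyFunctor_thompsonA (G := G) (p := p)
  have hWZ : ∀ P : Subgroup G, IsPGroup p ↥P →
      P ⊓ Subgroup.centralizer (P : Set G) ≤ Cfsg.thompsonSubgroupAOf P :=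
    fun P _ => WeakClosure.center_le_thompsonA P
  have hxc : x ∈ Subgroup.centralizer (Subgroup.normalizer (J : Set G) : Set G) :=
    Subgroup.mem_centralizer_iff.2 fun u hu => Subgroup.mem_centralizer_singleton_iff.1 (hxN hu)
  have hidx : ¬ p ∣ (S : Subgroup G).relIndex ⊤ := by
    rw [Subgroup.relIndex_top_right]; exact S.not_dvd_index
  by_cases hp : p = 2
  · subst hp
    rcases h with h | ⟨z, hz, hzx⟩ | h
    · exact absurd rfl h
    · exact (S1974.result S _ hW hWZ
        (fun H T h1 h2 h3 h4 => WeakClosure.exists_quadratic_local H T h1 h2 h3 h4) _ rfl).1 x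
        (Subgroup.mem_inf.2 ⟨Subgroup.subset_closure ⟨z, hz, hzx⟩, hxc⟩) g hg
    · exact WeakClosure.weaklyClosed_two _ G rfl h S x hxS hxN g hg
  · refine Transfer.weaklyClosed_element hW hWZ ?_ ⊤ (S : Subgroup G) le_top S.2 hidx x
      (Subgroup.mem_inf.2 ⟨hxS, by rw [top_inf_eq]; exact hxc⟩) g (Subgroup.mem_top g) hg
    intro H T h1 h2 h3 h4
    obtain ⟨a, ha, haQ, hq⟩ := WeakClosure.exists_quadratic_local H T h1 h2 h3 h4
    refine ⟨a, ha, haQ, fun U V _ hU => ?_⟩
    obtain ⟨k, hk⟩ : ∃ k, p - 1 = 2 + k := ⟨p - 3, by have := (Fact.out : p.Prime).two_le; omega⟩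
    have key : ∀ k, Cfsg.iterCommutator (U.map H.subtype) (Subgroup.zpowers a) (2 + k) = ⊥ := by
      intro k
      induction k with
      | zero =>
        refine le_bot_iff.1 ((Subgroup.commutator_mono (Subgroup.commutator_mono hU le_rfl) le_rfl).trans
          hq.le)
      | succ k ih =>
        show ⁅Cfsg.iterCommutator (U.map H.subtype) (Subgroup.zpowers a) (2 + k),
          Subgroup.zpowers a⁆ = ⊥
        rw [ih, Subgroup.commutator_bot_left]
    rw [hk, key]
    exact bot_le

end Cfsg.Agent.S2799
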