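import Cfsg.Statements.S5148
import Cfsg.Agent.S5144
import Cfsg.Agent.Lib.Fusion.Basic

set_option autoImplicit false
open Cfsg

namespace Cfsg.Agent.S5148

open Cfsg.FusionSystem Cfsg.Agent.Fusion

variable {Ω : Type*} [Group Ω] {S : Subgroup Ω}

theorem center_fix [Finite S] (F : Cfsg.FusionSystem S) {P : Subgroup Ω} (hP : F.center ≤ P) {φ : P →* Ω}
    (hφ : φ ∈ F.Hom P) (z : Ω) (hz : z ∈ F.center) : φ ⟨z, hP hz⟩ = z := by
  obtain ⟨ψ, -, h1, h2⟩ := (Cfsg.Agent.S5144.result F).2 P φ hφ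
  rw [← h1 ⟨z, hP hz⟩]
  exact (congrArg ψ (Subtype.ext rfl)).trans (h2 ⟨z, hz⟩)

theorem map_mul_inv_aux {A B : Type*} [Group A] [Group B] (f : A →* B) (g x : A) :
    f g * f x * (f g)⁻¹ = f (g * x * g⁻¹) := by rw [map_mul, map_mul, map_inv]

theorem mem_pre {Ω' : Type*} [Group Ω'] (θ : S →* Ω') (P' : Subgroup Ω') {x : Ω} :
    x ∈ preimageAlong θ P' ↔ ∃ h : x ∈ S, θ ⟨x, h⟩ ∈ P' := by
  constructor
  · rintro ⟨y, hy, rfl⟩; exact ⟨y.2, hy⟩
  · rintro ⟨h, hx⟩; exact ⟨⟨x, h⟩, hx, rfl⟩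

theorem center_le_pre [Finite S] (F : Cfsg.FusionSystem S) (P' : Subgroup (S ⧸ F.center.subgroupOf S)) :
    F.center ≤ preimageAlong (QuotientGroup.mk' (F.center.subgroupOf S)) P' := by
  intro z hz
  refine (mem_pre _ _).mpr ⟨(Cfsg.Agent.S5144.result F).1 hz, ?_⟩
  have : QuotientGroup.mk' (F.center.subgroupOf S) ⟨z, (Cfsg.Agent.S5144.result F).1 hz⟩ = 1 :=
    (QuotientGroup.eq_one_iff _).mpr hz
  rw [this]; exact P'.one_mem

theorem induced_injective [Finite S] (F : Cfsg.FusionSystem S) {P' : Subgroup (S ⧸ F.center.subgroupOf S)}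
    {φ : preimageAlong (QuotientGroup.mk' (F.center.subgroupOf S)) P' →* Ω}
    {φ' : P' →* S ⧸ F.center.subgroupOf S}
    (hφ : φ ∈ F.Hom (preimageAlong (QuotientGroup.mk' (F.center.subgroupOf S)) P'))
    (hind : InducedAlong (QuotientGroup.mk' (F.center.subgroupOf S)) φ φ') : Function.Injective φ' := by
  obtain ⟨hP, hφS, hm, hind⟩ := hind
  rw [injective_iff_map_eq_one]
  intro y hy
  obtain ⟨⟨x, hxS⟩, hx⟩ := QuotientGroup.mk'_surjective (F.center.subgroupOf S) y.1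
  have hxP : x ∈ preimageAlong (QuotientGroup.mk' (F.center.subgroupOf S)) P' :=
    (mem_pre _ _).mpr ⟨hxS, hx ▸ y.2⟩
  have h1 := hind ⟨x, hxP⟩
  rw [show (⟨_, hm ⟨x, hxP⟩⟩ : P') = y from Subtype.ext hx, hy] at h1
  have hz : φ ⟨x, hxP⟩ ∈ F.center :=
    (QuotientGroup.eq_one_iff (N := F.center.subgroupOf S) (⟨φ ⟨x, hxP⟩, hφS _⟩ : S)).mp h1.symm
  have h3 : (φ ⟨x, hxP⟩) = x :=
    congrArg Subtype.val (F.injective_of_mem hφ (center_fix F (center_le_pre F P') hφ _ hz))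
  refine Subtype.ext ?_
  rw [← hx]
  exact (QuotientGroup.eq_one_iff (N := F.center.subgroupOf S) (⟨x, hxS⟩ : S)).mpr (show x ∈ F.center from h3 ▸ hz)

/-- The factor system modulo the centre. -/
def centralQuotient [Finite S] (F : Cfsg.FusionSystem S) :
    Cfsg.FusionSystem (⊤ : Subgroup (S ⧸ F.center.subgroupOf S)) where
  Hom P' := {φ' | P' ≤ ⊤ ∧ ∃ φ ∈ F.Hom (preimageAlong (QuotientGroup.mk' (F.center.subgroupOf S)) P'),
    InducedAlong (QuotientGroup.mk' (F.center.subgroupOf S)) φ φ'}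
  le_of_mem h := ⟨h.1, fun _ => trivial⟩
  injective_of_mem := by
    rintro P' φ' ⟨-, φ, hφ, hind⟩
    exact induced_injective F hφ hind
  conj_mem := by
    intro P' g _ _
    obtain ⟨g, rfl⟩ := QuotientGroup.mk'_surjective (F.center.subgroupOf S) g
    have hP : preimageAlong (QuotientGroup.mk' (F.center.subgroupOf S)) P' ≤ S :=
      fun x hx => ((mem_pre _ _).mp hx).1
    refine ⟨le_top, _, F.conj_mem hP g.2, hP, fun x => S.mul_mem (S.mul_mem g.2 (hP x.2)) (S.inv_mem g.2),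
      fun x => ((mem_pre _ _).mp x.2).2, fun x => ?_⟩
    exact (map_mul_inv_aux (QuotientGroup.mk' (F.center.subgroupOf S)) g ⟨x, hP x.2⟩)
  comp_mem := by
    rintro P' Q' φ' ψ' ⟨-, φ, hφ, hP, hφS, hm, hind⟩ ⟨-, ψ, hψ, hQ, hψS, hn, hind'⟩ hQ'
    have hmem : ∀ x, φ x ∈ preimageAlong (QuotientGroup.mk' (F.center.subgroupOf S)) Q' := fun x =>
      (mem_pre _ _).mpr ⟨hφS x, hind x ▸ hQ' _⟩
    refine ⟨le_top, _, F.comp_mem hφ hψ hmem, hP, fun x => hψS _, hm, fun x => ?_⟩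
    refine Eq.trans ?_ (hind' ⟨φ x, hmem x⟩)
    exact congrArg ψ' (Subtype.ext (hind x))
  inv_mem := by
    intro P' φ' hφ'
    have hinj : Function.Injective φ' := by
      obtain ⟨-, φ, hφ, hind⟩ := hφ'
      exact induced_injective F hφ hind
    obtain ⟨-, φ, hφ, hP, hφS, hm, hind⟩ := hφ'
    have hrange : φ.range = preimageAlong (QuotientGroup.mk' (F.center.subgroupOf S)) φ'.range := by
      apply le_antisymm
      · rintro _ ⟨x, rfl⟩
        exact (mem_pre _ _).mpr ⟨hφS x, ⟨_, hind x⟩⟩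
      · intro y hy
        obtain ⟨hyS, w, hw⟩ := (mem_pre _ _).mp hy
        obtain ⟨⟨x, hxS⟩, hx⟩ := QuotientGroup.mk'_surjective (F.center.subgroupOf S) w.1
        have hxP : x ∈ preimageAlong (QuotientGroup.mk' (F.center.subgroupOf S)) P' :=
          (mem_pre _ _).mpr ⟨hxS, hx ▸ w.2⟩
        have h1 := hind ⟨x, hxP⟩
        rw [show (⟨_, hm ⟨x, hxP⟩⟩ : P') = w from Subtype.ext hx, hw] at h1
        have hz : (φ ⟨x, hxP⟩)⁻¹ * y ∈ F.center :=
          show ((⟨φ ⟨x, hxP⟩, hφS _⟩ : S)⁻¹ * ⟨y, hyS⟩ : S) ∈ F.center.subgroupOf S from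
            QuotientGroup.eq.mp h1.symm
        refine ⟨⟨x, hxP⟩ * ⟨_, center_le_pre F P' hz⟩, ?_⟩
        rw [map_mul, center_fix F (center_le_pre F P') hφ _ hz, mul_inv_cancel_left]
    obtain ⟨ψ, hψ, hψr, hi, -⟩ := exists_inverse hφ hrange
    let e := MonoidHom.ofInjective hinj
    have he : ∀ x : P', e.symm ⟨φ' x, x, rfl⟩ = x := fun x => e.injective (by rw [e.apply_symm_apply]; rfl)
    refine ⟨P'.subtype.comp e.symm.toMonoidHom, ⟨le_top, ψ, hψ, fun x hx => ((mem_pre _ _).mp hx).1,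
      fun y => hP (hψr.le ⟨y, rfl⟩), fun y => ((mem_pre _ _).mp y.2).2, fun y => ?_⟩,
      fun x => congrArg Subtype.val (he x)⟩
    obtain ⟨x, hx⟩ := hrange.ge y.2
    have hx' : φ x ∈ preimageAlong (QuotientGroup.mk' (F.center.subgroupOf S)) φ'.range := hx ▸ y.2
    have hy : y = ⟨φ x, hx'⟩ := Subtype.ext hx.symm
    subst hy
    refine ((congrArg (P'.subtype.comp e.symm.toMonoidHom) (Subtype.ext (hind x).symm)).trans
      (congrArg Subtype.val (he ⟨_, hm x⟩))).trans ?_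
    exact congrArg (QuotientGroup.mk' _) (Subtype.ext (hi x hx').symm)

theorem centralQuotient_isFactor [Finite S] (F : Cfsg.FusionSystem S) :
    F.IsFactorSystem F.center (QuotientGroup.mk' (F.center.subgroupOf S)) (centralQuotient F) :=
  ⟨(Cfsg.Agent.S5144.result F).1, fun s => QuotientGroup.eq_one_iff s,
    MonoidHom.range_eq_top.mpr (QuotientGroup.mk'_surjective _), fun _ _ => Iff.rfl⟩

theorem inner_hom_eq {A : Type*} [Group A] (hA : ∀ a b : A, a * b = b * a) {P : Subgroup A} {φ : P →* A}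
    (h : φ ∈ (Cfsg.innerFusionSystem (⊤ : Subgroup A)).Hom P) (x : P) : φ x = x := by
  obtain ⟨-, g, -, hg⟩ := h
  rw [hg, hA g, mul_inv_cancel_right]

theorem inner_aut_trivial {A : Type*} [Group A] (hA : ∀ a b : A, a * b = b * a) (P : Subgroup A) :
    (Cfsg.innerFusionSystem (⊤ : Subgroup A)).autGroup P = ⊥ := by
  rw [Cfsg.FusionSystem.autGroup, Subgroup.closure_eq_bot_iff]
  intro α hα
  exact MulEquiv.ext fun x => Subtype.ext (inner_hom_eq hA hα x)

/-- A simple saturated system over an abelian group has no non-identity map. -/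
theorem hom_trivial {A : Type*} [Group A] [Finite A] (hA : ∀ a b : A, a * b = b * a) {p : ℕ}
    [Fact p.Prime] (E : Cfsg.FusionSystem (⊤ : Subgroup A)) (hE : E.IsSimple p)
    {P : Subgroup A} {φ : P →* A} (hφ : φ ∈ E.Hom P) (x : P) : φ x = x := by
  obtain ⟨hsat, hne, hnorm⟩ := hE
  have hext : ∀ (R : Subgroup A) (ψ : R →* A), ψ ∈ E.Hom R →
      ∃ α ∈ E.autGroup (⊤ : Subgroup A), ∀ y : R, ψ y = ((α ⟨y, trivial⟩ : (⊤ : Subgroup A)) : A) := by
    intro R ψ hψ
    obtain ⟨Q, hconj, -, hrec⟩ := hsat R le_top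
    have hext1 : ∀ (R' : Subgroup A) (χ : R' →* A), χ ∈ E.Hom R' → χ.range = Q →
        ∃ θ ∈ E.Hom ⊤, ∀ y : R', θ ⟨y, trivial⟩ = χ y := by
      intro R' χ hχ hr
      have hle : (⊤ : Subgroup A) ≤ extender ⊤ R' χ := fun g _ => Subgroup.subset_closure ⟨trivial,
        Subgroup.mem_normalizer_iff.mpr fun y => by rw [hA g, mul_inv_cancel_right], 1, trivial, fun y hy => by
          rw [one_mul, inv_one, mul_one]
          exact congrArg χ (Subtype.ext (show g * (y : A) * g⁻¹ = y by rw [hA g, mul_inv_cancel_right]))⟩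
      obtain ⟨θ, hθ, h⟩ := exists_extension hrec hχ hr hle
      exact ⟨θ, hθ, fun y => h y.1 y.2 trivial⟩
    obtain ⟨χ, hχ, hχr⟩ := hconj
    obtain ⟨ψi, hψi, hψir, hi, -⟩ := exists_inverse hψ rfl
    have hmem : ∀ y, ψi y ∈ R := fun y => hψir.le ⟨y, rfl⟩
    have hr2 : (χ.comp (ψi.codRestrict R hmem)).range = Q := by
      rw [← hχr]
      apply le_antisymm
      · rintro _ ⟨y, rfl⟩; exact ⟨_, rfl⟩
      · rintro _ ⟨y, rfl⟩
        exact ⟨⟨ψ y, y, rfl⟩, congrArg χ (Subtype.ext (hi y _))⟩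
    obtain ⟨θ₁, hθ₁, e₁⟩ := hext1 R χ hχ hχr
    obtain ⟨θ₂, hθ₂, e₂⟩ := hext1 ψ.range _ (E.comp_mem hψi hχ hmem) hr2
    have hr : ∀ θ ∈ E.Hom (⊤ : Subgroup A), θ.range = ⊤ := fun θ hθ =>
      range_eq_of_le hθ le_rfl (fun _ => trivial) le_rfl
    refine ⟨(toAut hθ₂ (hr _ hθ₂))⁻¹ * toAut hθ₁ (hr _ hθ₁),
      Subgroup.mul_mem _ (Subgroup.inv_mem _ (toAut_mem _ _)) (toAut_mem _ _), fun y => ?_⟩
    have h3 : toAut hθ₂ (hr _ hθ₂) ⟨ψ y, trivial⟩ = toAut hθ₁ (hr _ hθ₁) ⟨y, trivial⟩ := by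
      refine Subtype.ext ?_
      rw [coe_toAut, coe_toAut, e₁ y, e₂ ⟨ψ y, y, rfl⟩]
      exact congrArg χ (Subtype.ext (hi y _))
    rw [MulAut.mul_apply, ← h3, MulAut.inv_apply_self]
  set I := Cfsg.innerFusionSystem (⊤ : Subgroup A) with hI
  have hIsub : I.IsSubsystemOf E := by
    rintro R ψ ⟨hR, g, -, hg⟩
    exact mem_of_conj hR (Subgroup.mem_top g) hg
  have hIsat : I.IsSaturated p := by
    intro R hR
    refine ⟨R, isConj_refl I hR, ⟨hR, ?_⟩, hR, fun R' ψ hψ _ => ?_⟩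
    · have : Subsingleton (I.autGroup R) := by rw [hI, inner_aut_trivial hA]; infer_instance
      obtain ⟨T⟩ := Sylow.nonempty (p := p) (G := I.autGroup R)
      exact ⟨T, Subsingleton.elim _ _⟩
    · exact ⟨_, subtype_mem I le_top, fun y hy hy' => (inner_hom_eq hA hψ ⟨y, hy⟩).symm⟩
  have hnormI : I.IsNormalIn E p := by
    refine ⟨⟨hIsat, hsat, hIsub, ⟨le_rfl, fun _ _ _ _ _ => trivial⟩, ?_, ?_⟩, ?_⟩
    · intro R hR ψ hψ α _
      refine ⟨_, subtype_mem I le_top, fun y hψy hy => ?_⟩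
      exact congrArg (fun z => ((α z : (⊤ : Subgroup A)) : A)) (Subtype.ext (inner_hom_eq hA hψ y).symm)
    · intro R hR ψ hψ
      obtain ⟨α, hα, h⟩ := hext R ψ hψ
      exact ⟨α, hα, R.subtype, subtype_mem I le_top, fun y hy => h y⟩
    · intro α hα
      rw [inner_aut_trivial hA, Subgroup.mem_bot] at hα
      subst hα
      refine ⟨1, Subgroup.one_mem _, fun y => rfl, fun c _ => ?_⟩
      rw [MulAut.one_apply, inv_mul_cancel]
      exact Subgroup.one_mem _
  rcases hnorm _ I hnormI with h | ⟨-, h⟩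
  · exact absurd h hne
  · exact inner_hom_eq hA ((h P).ge hφ) x

/-- A quasisimple fusion system over a finite p-group S (saturated, equal to its p-residual subsystem, with simple — in particular nontrivial — factor system modulo its centre) has S nonabelian. -/
theorem result {Ω : Type*} [Group Ω] {S : Subgroup Ω} [Finite S] (p : ℕ) [Fact p.Prime] (hS : IsPGroup p S) (F : Cfsg.FusionSystem S) (hq : F.Quasisimple p) : ¬ IsMulCommutative S := by
  intro hcomm
  obtain ⟨hsat, hhyp, hsimple⟩ := hq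
  have hE := hsimple _ (centralQuotient_isFactor F)
  have hA : ∀ a b : S ⧸ F.center.subgroupOf S, a * b = b * a := by
    intro a b
    obtain ⟨a, rfl⟩ := QuotientGroup.mk_surjective a
    obtain ⟨b, rfl⟩ := QuotientGroup.mk_surjective b
    rw [← QuotientGroup.mk_mul, ← QuotientGroup.mk_mul, hcomm.is_comm.comm a b]
  apply hE.2.1
  suffices h0 : F.hyperfocalSubgroup p = ⊥ by
    rw [Subgroup.eq_bot_iff_forall]
    intro q _
    obtain ⟨x, rfl⟩ := QuotientGroup.mk_surjective q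
    have hS1 : x = 1 := Subtype.ext (Subgroup.mem_bot.mp (h0 ▸ hhyp.ge x.2))
    rw [hS1]; rfl
  rw [Cfsg.FusionSystem.hyperfocalSubgroup, Subgroup.closure_eq_bot_iff]
  rintro y ⟨P, α, x, hP, hα, rfl⟩
  suffices hα1 : α = 1 by rw [hα1]; simp
  have hres : Cfsg.pResidual p (F.autGroup P) = ⊥ := by
    rw [Cfsg.pResidual, Subgroup.closure_eq_bot_iff]
    intro β hβ
    obtain ⟨hφ, -⟩ := hom_of_mem_autGroup hP β.2
    obtain ⟨ψ, hψ, hψP, hψZ⟩ := (Cfsg.Agent.S5144.result F).2 P _ hφ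
    have hle : P ⊔ F.center ≤ S := sup_le hP (Cfsg.Agent.S5144.result F).1
    set θ := QuotientGroup.mk' (F.center.subgroupOf S)
    set P' := ((P ⊔ F.center).subgroupOf S).map θ
    have hpre : Cfsg.FusionSystem.preimageAlong θ P' = P ⊔ F.center := by
      rw [Cfsg.FusionSystem.preimageAlong, Subgroup.comap_map_eq_self, Subgroup.map_subgroupOf_eq_of_le hle]
      rw [QuotientGroup.ker_mk']
      exact fun z hz => Subgroup.mem_subgroupOf.mpr (le_sup_right (a := P) hz)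
    have hψ' : ψ.comp (Subgroup.inclusion hpre.le) ∈ F.Hom (Cfsg.FusionSystem.preimageAlong θ P') :=
      restrict_mem hψ hpre.le
    let f : ↥(P ⊔ F.center) →* P' :=
      (θ.comp (Subgroup.inclusion hle)).codRestrict P' fun w => ⟨⟨w, hle w.2⟩, w.2, rfl⟩
    have hf : Function.Surjective f := by
      rintro ⟨_, w, hw, rfl⟩
      exact ⟨⟨w, hw⟩, Subtype.ext rfl⟩
    let g : ↥(P ⊔ F.center) →* S ⧸ F.center.subgroupOf S := θ.comp (ψ.codRestrict S (apply_mem hψ))
    have hfg : f.ker ≤ g.ker := by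
      intro w hw
      have hw' : (w : Ω) ∈ F.center :=
        (QuotientGroup.eq_one_iff (N := F.center.subgroupOf S) (⟨w, hle w.2⟩ : S)).mp (congrArg Subtype.val hw)
      refine (QuotientGroup.eq_one_iff (N := F.center.subgroupOf S) (⟨ψ w, apply_mem hψ w⟩ : S)).mpr ?_
      show ψ w ∈ F.center
      rw [show ψ w = (w : Ω) from center_fix F le_sup_right hψ (w : Ω) hw']
      exact hw'
    let φ' : P' →* S ⧸ F.center.subgroupOf S := f.liftOfSurjective hf ⟨g, hfg⟩
    have hφ'v : ∀ w, φ' (f w) = g w := fun w => f.liftOfRightInverse_comp_apply _ _ ⟨g, hfg⟩ w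
    have hφ'E : φ' ∈ (centralQuotient F).Hom P' :=
      ⟨le_top, _, hψ', fun w hw => hle (hpre.le hw), fun w => apply_mem hψ _,
        fun w => ((mem_pre _ _).mp w.2).2, fun w => hφ'v (Subgroup.inclusion hpre.le w)⟩
    have hkey : ∀ w : P, (((β : MulAut P) w : P) : Ω) * (w : Ω)⁻¹ ∈ F.center := by
      intro w
      have h1 : g (Subgroup.inclusion le_sup_left w) = (f (Subgroup.inclusion le_sup_left w) : P').1 :=
        (hφ'v _).symm.trans (hom_trivial hA _ hE hφ'E _)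
      have h2 := (QuotientGroup.eq_iff_div_mem (N := F.center.subgroupOf S)
        (x := ⟨ψ (Subgroup.inclusion le_sup_left w), apply_mem hψ _⟩) (y := ⟨w, hP w.2⟩)).mp h1
      rw [div_eq_mul_inv, Subgroup.mem_subgroupOf, Subgroup.coe_mul, Subgroup.coe_inv] at h2
      have h3 := hψP w
      simp only at h2
      rw [h3] at h2
      exact h2
    have hfix : ∀ w : P, (w : Ω) ∈ F.center → (β : MulAut P) w = w := by
      intro w hw
      refine Subtype.ext ((hψP w).symm.trans ?_)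
      exact (congrArg ψ (Subtype.ext rfl)).trans (hψZ ⟨w, hw⟩)
    have hiter : ∀ (m : ℕ) (w : P), ((β : MulAut P) ^ m) w = ((β : MulAut P) w * w⁻¹) ^ m * w := by
      intro m
      induction m with
      | zero => intro w; simp
      | succ m ih =>
        intro w
        have hd : (β : MulAut P) (((β : MulAut P) w * w⁻¹) ^ m) = ((β : MulAut P) w * w⁻¹) ^ m :=
          hfix _ (by simpa using F.center.pow_mem (hkey w) m)
        rw [pow_succ' (β : MulAut P), MulAut.mul_apply, ih, map_mul, hd, pow_succ, mul_assoc,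
          inv_mul_cancel_right]
    have : Finite P := finite_of_le hP
    obtain ⟨k, hk⟩ := IsPGroup.iff_card.mp (hS.to_le hP)
    have hβpow : (β : MulAut P) ^ (p ^ k) = 1 := by
      refine MulEquiv.ext fun w => ?_
      rw [hiter, ← hk, pow_card_eq_one', one_mul, MulAut.one_apply]
    have hco : (orderOf β).Coprime (p ^ k) := Nat.Coprime.pow_right k hβ
    have hdvd : orderOf β ∣ p ^ k := orderOf_dvd_of_pow_eq_one (Subtype.ext hβpow)
    exact orderOf_eq_one_iff.mp (Nat.eq_one_of_dvd_coprimes hco dvd_rfl hdvd)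
  rw [hres, Subgroup.mem_bot] at hα
  exact hα

end Cfsg.Agent.S5148
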