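import Cfsg.Statements.S5155
import Cfsg.Agent.Lib.Fusion.CentralizerSubsystem

set_option autoImplicit false
open Cfsg

open Cfsg.FusionSystem Cfsg.Agent.Fusion Cfsg.Agent.Fusion.NormalCentralizer

namespace Cfsg.Agent.S5155

/-- Let F be a saturated fusion system over a finite p-group S, E a normal subsystem over T, and Y the largest subgroup of C_S(T) such that E is a subsystem of the centralizer system of Y (every map of E extends to a map of F fixing Y elementwise). Then there is a normal subsystem of F over Y that is a subsystem of the centralizer system of T. -/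
theorem result {Ω : Type*} [Group Ω] {S : Subgroup Ω} [Finite S] (p : ℕ) [Fact p.Prime] (hS : IsPGroup p S) (F : Cfsg.FusionSystem S) (hF : F.IsSaturated p) {T : Subgroup Ω} (E : Cfsg.FusionSystem T) (hE : E.IsNormalIn F p) (Y : Subgroup Ω) (hY : Y ≤ Cfsg.FusionSystem.centralizerIn S T) (hEY : ∀ P : Subgroup Ω, E.Hom P ⊆ F.centralizerHom Y P) (hmax : ∀ Y' : Subgroup Ω, Y' ≤ Cfsg.FusionSystem.centralizerIn S T → (∀ P : Subgroup Ω, E.Hom P ⊆ F.centralizerHom Y' P) → Y' ≤ Y) : ∃ D : Cfsg.FusionSystem Y, D.IsNormalIn F p ∧ ∀ P : Subgroup Ω, D.Hom P ⊆ F.centralizerHom T P := by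
  have hTS : T ≤ S := hE.1.2.2.2.1.1
  have hYeq : Y = sSup (centralizing F E) := by
    refine le_antisymm (le_sSup ⟨hY, hEY⟩) (hmax _ (sSup_mem_centralizing hS hE).1
      (sSup_mem_centralizing hS hE).2)
  set C₀ := centralizerSystem F T hTS with hC₀
  have hTn := isFullyNormalized_of_stronglyClosed hE.1.2.2.2.1
  have hTc := isFullyCentralized_of_fullyNormalized hS hF hTn
  have hC₀s : C₀.IsSaturated p := centralizerSystem_saturated hS hF hTc
    (centralizerSystem_spec F T hTS)
  have hfoc : C₀.focalSubgroup ≤ Y := hYeq ▸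
    le_sSup ⟨focalSubgroup_le _, fun P => hom_subset_centralizerHom_focal hS hE hTS P⟩
  have := finite_of_le (Ω := Ω) (centralizerIn_le S T)
  obtain ⟨D, hDs, hDi⟩ := exists_pPowerIndex (hS.to_le (centralizerIn_le S T)) hC₀s hY
    ((hyperfocal_le_focal C₀ p).trans hfoc)
  exact ⟨D, CentralizerSubsystem.isNormalIn_centralizer hS hE hYeq hDs hDi,
    fun P φ hφ => hDi.1 P hφ⟩

end Cfsg.Agent.S5155
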