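import Cfsg.Statements.S5343
import Cfsg.Agent.Lib.Fusion.NormalOfNormal
import Cfsg.Agent.Lib.Fusion.QuotientLift
-- import your own Cfsg.Agent.* helpers here

set_option autoImplicit false
universe u
open Cfsg Cfsg.FusionSystem Cfsg.Agent.Fusion
open Cfsg

namespace Cfsg.Agent.S5343

/-- Killing a normal subgroup meeting the image of `S` trivially keeps the realized system. -/
theorem quotient_realized {Ω : Type*} [Group Ω] {S : Subgroup Ω} {G : Type u} [Group G] [Finite G]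
    {p : ℕ} [Fact p.Prime] {F : Cfsg.FusionSystem S} {ι : S →* G} (h : F.IsRealizedBy ι)
    (T : Sylow p G) (hT : (T : Subgroup G) = ι.range) (N : Subgroup G) [N.Normal]
    (hN : (T : Subgroup G) ⊓ N = ⊥) :
    F.IsRealizedBy ((QuotientGroup.mk' N).comp ι) := by
  have heq : ∀ a b : G, a ∈ (T : Subgroup G) → b ∈ (T : Subgroup G) →
      QuotientGroup.mk' N a = QuotientGroup.mk' N b → a = b := by
    intro a b ha hb hab
    have h1 : a⁻¹ * b ∈ (T : Subgroup G) ⊓ N :=
      ⟨mul_mem ((T : Subgroup G).inv_mem ha) hb, QuotientGroup.eq.1 hab⟩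
    rw [hN, Subgroup.mem_bot, inv_mul_eq_one] at h1
    exact h1
  refine ⟨fun a b hab => h.1 (heq _ _ (hT.ge ⟨a, rfl⟩) (hT.ge ⟨b, rfl⟩) hab),
    fun P hP φ hφ => ?_⟩
  rw [h.2 P hP φ hφ]
  constructor
  · rintro ⟨g, hg⟩
    refine ⟨QuotientGroup.mk' N g, fun x => ?_⟩
    rw [MonoidHom.comp_apply, MonoidHom.comp_apply, hg x, map_mul, map_mul, map_inv]
  · rintro ⟨q, hq⟩
    obtain ⟨g, rfl⟩ := QuotientGroup.mk'_surjective N q
    obtain ⟨n, hn, hnx⟩ := QuotientLift.exists_mem_conj_le T N (P := pushSub ι P)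
      (T.2.to_le ((pushSub_le ι P).trans hT.ge)) g (by
        rintro _ ⟨x, hx, rfl⟩
        refine ⟨ι ⟨φ ⟨x, hx⟩, hφ _⟩, hT.ge ⟨_, rfl⟩, ?_⟩
        refine (hq ⟨x, hx⟩).trans ?_
        show _ = QuotientGroup.mk' N (g * ι x * g⁻¹)
        rw [MonoidHom.comp_apply, map_mul, map_mul, map_inv])
    refine ⟨n * g, fun x => heq _ _ (hT.ge ⟨_, rfl⟩) (hnx _ ⟨⟨x, hP x.2⟩, x.2, rfl⟩) ?_⟩
    refine (hq x).trans ?_
    have h1 : QuotientGroup.mk' N n = 1 := (QuotientGroup.eq_one_iff n).2 hn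
    rw [MonoidHom.comp_apply, map_mul, map_mul, map_inv, map_mul, h1, one_mul]


/-- Let F be a simple saturated fusion system over a finite p-group S that is realized by some finite group on a Sylow p-subgroup. Then F is realized by a finite simple group on a Sylow p-subgroup. -/
theorem result {Ω : Type u} [Group Ω] {S : Subgroup Ω} [Finite S] (p : ℕ) [Fact p.Prime] (hS : IsPGroup p S) (F : Cfsg.FusionSystem S) (hsimple : F.IsSimple p) (hreal : F.IsRealizable p) : ∃ (G : Type u) (_ : Group G) (_ : Finite G) (_ : IsSimpleGroup G) (ι : ↥S →* G), F.IsRealizedBy ι ∧ ∃ T : Sylow p G, (T : Subgroup G) = ι.range := by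
  classical
  have hex : ∃ n, ∃ (G : Type u) (_ : Group G) (_ : Finite G) (ι : S →* G),
      F.IsRealizedBy ι ∧ (∃ T : Sylow p G, (T : Subgroup G) = ι.range) ∧ Nat.card G = n := by
    obtain ⟨G, hG, hfin, ι, h, hT⟩ := hreal
    exact ⟨_, G, hG, hfin, ι, h, hT, rfl⟩
  obtain ⟨G, hG, hfin, ι, h, ⟨T, hT⟩, hcard⟩ := Nat.find_spec hex
  have hmin : ∀ (H : Type u) (_ : Group H) (_ : Finite H) (κ : S →* H), F.IsRealizedBy κ →
      (∃ U : Sylow p H, (U : Subgroup H) = κ.range) → Nat.card G ≤ Nat.card H := by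
    intro H iG iF κ h' hU
    rw [hcard]
    exact Nat.find_min' hex ⟨H, iG, iF, κ, h', hU, rfl⟩
  have hS1 : S ≠ ⊥ := hsimple.2.1
  have hnt : Nontrivial G := by
    obtain ⟨x, hxS, hx⟩ := (Subgroup.bot_or_exists_ne_one S).resolve_left hS1
    exact ⟨⟨ι ⟨x, hxS⟩, ι 1, fun he => hx (congrArg Subtype.val (h.1 he))⟩⟩
  refine ⟨G, hG, hfin, ⟨fun N hN => ?_⟩, ι, h, T, hT⟩
  rcases hsimple.2.2 _ _ (realized_isNormalIn h T hT N) with h0 | ⟨h1, h2⟩
  · left
    have hTN : (T : Subgroup G) ⊓ N = ⊥ := by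
      rw [Subgroup.eq_bot_iff_forall]
      rintro _ ⟨ht, htN⟩
      obtain ⟨s, rfl⟩ := hT.le ht
      have h3 : (s : Ω) ∈ pullSub ι N := mem_pullSub.2 ⟨s.2, htN⟩
      rw [h0, Subgroup.mem_bot] at h3
      rw [show s = 1 from Subtype.ext h3, map_one]
    have hsurj := QuotientGroup.mk'_surjective N
    have hle := hmin (G ⧸ N) inferInstance inferInstance _ (quotient_realized h T hT N hTN)
      ⟨T.mapSurjective hsurj, by rw [Sylow.coe_mapSurjective, hT, MonoidHom.range_comp]⟩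
    by_contra hne
    have h4 : 1 < Nat.card N := Finite.one_lt_card_iff_nontrivial.2 ((Subgroup.nontrivial_iff_ne_bot N).2 hne)
    have h5 := Subgroup.card_eq_card_quotient_mul_card_subgroup N
    have h6 : 0 < Nat.card (G ⧸ N) := Nat.card_pos
    nlinarith
  · right
    have hιN : ∀ s : S, ι s ∈ N := fun s => (mem_pullSub.1 (h1.ge s.2)).2
    have hr : F.IsRealizedBy (ι.codRestrict N hιN) := by
      refine ⟨fun a b hab => h.1 (congrArg Subtype.val hab), fun P hP φ hφ => ?_⟩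
      rw [← h2 P]
      constructor
      · rintro ⟨_hP, _hφ, n, hn⟩
        exact ⟨n, fun x => Subtype.ext (congrArg Subtype.val (hn x) :)⟩
      · rintro ⟨n, hn⟩
        exact ⟨fun x hx => h1.ge (hP hx), fun x => h1.ge (hφ x), n,
          fun x => Subtype.ext (congrArg Subtype.val (hn x) :)⟩
    obtain ⟨R, hR⟩ := isSylowIn_of_normal T N
    have hle := hmin N inferInstance inferInstance _ hr ⟨R, by
      rw [hR]
      ext y
      constructor
      · rintro ⟨hy, -⟩
        obtain ⟨s, hs⟩ := hT.le hy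
        exact ⟨s, Subtype.ext hs⟩
      · rintro ⟨s, rfl⟩
        exact ⟨hT.ge ⟨s, rfl⟩, hιN s⟩⟩
    exact Subgroup.eq_top_of_le_card N hle

end Cfsg.Agent.S5343
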