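import Cfsg.Statements.S1217
import Cfsg.Agent.Lib.Forms.SylowTwoRankTwo
import Mathlib

set_option autoImplicit false
open scoped MatrixGroups
open Cfsg

namespace Cfsg.Agent.S1217

/-- Let F be a finite field with q elements, q odd, and P a Sylow 2-subgroup of GL(2,F). If q ≡ 3 (mod 4) then P is quasi-dihedral; if q ≡ 1 (mod 4) then P is wreathed. -/
theorem result {F : Type*} [Field F] [Fintype F] (P : Sylow 2 (GL (Fin 2) F)) : (Fintype.card F % 4 = 3 → Cfsg.IsQuasiDihedral (P : Subgroup (GL (Fin 2) F))) ∧ (Fintype.card F % 4 = 1 → Cfsg.IsWreathed (P : Subgroup (GL (Fin 2) F))) := by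
  classical
  have hcard : Nat.card (GL (Fin 2) F) = (Fintype.card F ^ 2 - 1) * (Fintype.card F ^ 2 - Fintype.card F) := by
    rw [Matrix.card_GL_field, Fin.prod_univ_two]
    simp
  obtain ⟨q, hq⟩ : ∃ q, Fintype.card F = q := ⟨_, rfl⟩
  rw [hq] at hcard ⊢
  have hq1 : 1 < q := hq ▸ Fintype.one_lt_card
  have hfac : ((q ^ 2 - 1) * (q ^ 2 - q)).factorization 2
      = (q + 1).factorization 2 + (q - 1).factorization 2 + (q.factorization 2 + (q - 1).factorization 2) := by
    have e1 : q ^ 2 - 1 = (q + 1) * (q - 1) := by rw [← Nat.sq_sub_sq, one_pow]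
    have e2 : q ^ 2 - q = q * (q - 1) := by rw [sq, Nat.mul_sub_one]
    rw [e1, e2, Nat.factorization_mul (Nat.mul_ne_zero (by omega) (by omega)) (Nat.mul_ne_zero (by omega) (by omega)),
      Nat.factorization_mul (by omega) (by omega), Nat.factorization_mul (by omega) (by omega)]
    simp [Finsupp.add_apply]
  constructor
  · intro h3
    obtain ⟨v, j, hv, hvf, hvj⟩ := Forms.exists_two_pow_mul_odd (a := q + 1) (by omega) (by omega)
    have hns : ∀ b : F, b ^ 2 ≠ -1 := fun b hb =>
      FiniteField.isSquare_neg_one_iff.1 ⟨b, by rw [← hb, sq]⟩ (by rw [hq, h3])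
    haveI : Fact (Irreducible (Polynomial.X ^ 2 - Polynomial.C (-1 : F))) :=
      ⟨X_pow_sub_C_irreducible_of_prime Nat.prime_two hns⟩
    let K := AdjoinRoot (Polynomial.X ^ 2 - Polynomial.C (-1 : F))
    let pb := AdjoinRoot.powerBasis (f := Polynomial.X ^ 2 - Polynomial.C (-1 : F))
      (Polynomial.X_pow_sub_C_ne_zero two_pos _)
    have hdim : pb.dim = 2 := by
      exact (AdjoinRoot.powerBasis_dim _).trans Polynomial.natDegree_X_pow_sub_C
    let bb : Module.Basis (Fin 2) F K := pb.basis.reindex (finCongr hdim)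
    haveI : Finite K := Finite.of_equiv _ bb.equivFun.symm.toEquiv
    haveI : Fintype K := Fintype.ofFinite K
    have hK : Nat.card K = q ^ 2 := by
      rw [Nat.card_congr bb.equivFun.toEquiv, Nat.card_fun, Nat.card_eq_fintype_card, Nat.card_eq_fintype_card, hq,
        Fintype.card_fin]
    have hd : 2 ^ (v + 1) ∣ Nat.card Kˣ := by
      rw [Nat.card_units, hK, show q ^ 2 - 1 = (q + 1) * (q - 1) by rw [← Nat.sq_sub_sq, one_pow], hvj, pow_succ,
        mul_assoc (2 ^ v) (2 * j + 1)]
      exact mul_dvd_mul_left _ (Dvd.dvd.mul_left (by omega) _)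
    obtain ⟨lam, hlam⟩ := Forms.exists_orderOf_eq_of_dvd hd
    let φ : Kˣ →* GL (Fin 2) F := Units.map (Algebra.leftMulMatrix bb).toRingHom.toMonoidHom
    have hφ : Function.Injective φ := fun a b h =>
      Units.ext (Algebra.leftMulMatrix_injective bb (congrArg Units.val h))
    let fr : K →ₐ[F] K := FiniteField.frobeniusAlgHom F K
    have hfr : ∀ z : K, fr z = z ^ q := fun z => by
      rw [← hq]; rfl
    have hfr2 : fr.toLinearMap * fr.toLinearMap = 1 := LinearMap.ext fun z => by
      show fr (fr z) = z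
      rw [hfr, hfr, ← pow_mul, ← sq, ← hK, Nat.card_eq_fintype_card, FiniteField.pow_card]
    let Y : Matrix (Fin 2) (Fin 2) F := LinearMap.toMatrix bb bb fr.toLinearMap
    have hY : Y * Y = 1 := by
      rw [← LinearMap.toMatrix_comp]
      show LinearMap.toMatrix bb bb (fr.toLinearMap * fr.toLinearMap) = 1
      rw [hfr2, LinearMap.toMatrix_one]
    let y : GL (Fin 2) F := ⟨Y, Y, hY, hY⟩
    have hconj : y * φ lam * y⁻¹ = φ (lam ^ q) := by
      refine mul_inv_eq_of_eq_mul (Units.ext ?_)
      show Y * Algebra.leftMulMatrix bb (lam : K) = Algebra.leftMulMatrix bb ((lam ^ q : Kˣ) : K) * Y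
      rw [Algebra.leftMulMatrix_apply, Algebra.leftMulMatrix_apply, ← LinearMap.toMatrix_comp,
        ← LinearMap.toMatrix_comp]
      congr 1
      refine LinearMap.ext fun z => ?_
      show fr ((lam : K) * z) = ((lam ^ q : Kˣ) : K) * fr z
      rw [map_mul, hfr, hfr, Units.val_pow_eq_pow_val]
    have hord : orderOf (φ lam) = 2 ^ (v + 1) := (orderOf_injective φ hφ lam).trans hlam
    refine Forms.sylow_quasiDihedral_of_rel P (n := v + 1) (by omega) ?_ (x := φ lam) (y := y) hord
      (Units.ext hY) ?_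
    · rw [hcard, hfac, Forms.factorization_two_of_mod_four (a := q - 1) (by omega), hvf,
        Forms.factorization_two_of_odd (a := q) (Nat.odd_iff.2 (by omega))]
    · rw [hconj, map_pow, Nat.add_sub_cancel, pow_eq_pow_iff_modEq, hord]
      have h1 : 1 ≤ 2 ^ v := Nat.one_le_two_pow
      have e : q = (2 ^ v - 1) + 2 ^ (v + 1) * j := by
        have : 2 ^ v * (2 * j + 1) = 2 ^ v + 2 ^ (v + 1) * j := by ring
        omega
      rw [e]
      simp [Nat.ModEq]
  · intro h1
    obtain ⟨v, j, hv, hvf, hvj⟩ := Forms.exists_two_pow_mul_odd (a := q - 1) (by omega) (by omega)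
    obtain ⟨a, ha⟩ := Forms.exists_orderOf_eq_of_dvd (G := Fˣ) (d := 2 ^ v) (by
      rw [Nat.card_units, Nat.card_eq_fintype_card, hq, hvj]; exact dvd_mul_right _ _)
    refine Forms.sylow_wreathed_of_monomial P (MonoidHom.id _) Function.injective_id hv ?_ ha
      (x := Matrix.GeneralLinearGroup.mkOfDetNeZero (Matrix.diagonal ![(a : F), 1]) (by simp))
      (y := Matrix.GeneralLinearGroup.mkOfDetNeZero (Matrix.diagonal ![1, (a : F)]) (by simp))
      (z := Matrix.GeneralLinearGroup.mkOfDetNeZero !![0, 1; 1, 0] (by simp [Matrix.det_fin_two])) rfl rfl rfl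
    rw [hcard, hfac, Forms.factorization_two_of_mod_four (a := q + 1) (by omega), hvf,
      Forms.factorization_two_of_odd (a := q) (Nat.odd_iff.2 (by omega))]
    ring

end Cfsg.Agent.S1217
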