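import Cfsg.Statements.S5337
import Cfsg.Agent.Lib.Fusion.InnerWeaklyNormal
import Cfsg.Agent.Lib.Fusion.SimpleCriterion


set_option autoImplicit false
open Cfsg Cfsg.FusionSystem Cfsg.Agent.Fusion

namespace Cfsg.Agent.S5337

/-- Let F be a saturated fusion system over a finite abelian p-group S. Then F is simple if and only if S has order p and F is the inner system of S (whose only maps are the inclusions, S being abelian). -/
theorem result {Ω : Type*} [Group Ω] {S : Subgroup Ω} [Finite S] (p : ℕ) [Fact p.Prime] (hS : IsPGroup p S) (F : Cfsg.FusionSystem S) (hF : F.IsSaturated p) (hab : ∀ x ∈ S, ∀ y ∈ S, x * y = y * x) : F.IsSimple p ↔ (Nat.card S = p ∧ ∀ P : Subgroup Ω, F.Hom P = (Cfsg.innerFusionSystem S).Hom P) := by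
  have hcomm : ∀ g ∈ S, ∀ x ∈ S, g * x * g⁻¹ = x := fun g hg x hx => by
    rw [hab g hg x hx, mul_inv_cancel_right]
  constructor
  · intro hsimple
    have hSn : F.IsNormal S := isNormal_of_abelian hS hF ⟨le_rfl, fun _ _ φ hφ x => apply_mem hφ x⟩
      ⟨⟨fun a b => Subtype.ext (hab a a.2 b b.2)⟩⟩
    have hw := inner_isWeaklyNormal hS hF hSn
    have hext : ∀ Q : Subgroup Ω, Q ≤ S → ∀ α ∈ (Cfsg.innerFusionSystem Q).autGroup Q, α = 1 := by
      intro Q hQS α hα
      obtain ⟨-, g, hg, hgx⟩ := (mem_autGroup_iff (le_refl Q)).1 hα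
      exact MulEquiv.ext fun x => Subtype.ext ((hgx x).trans (hcomm g (hQS hg) x (hQS x.2)))
    have hnormal : ∀ Q : Subgroup Ω, Q ≤ S → (Cfsg.innerFusionSystem Q).IsWeaklyNormalIn F p →
        (Cfsg.innerFusionSystem Q).IsNormalIn F p := fun Q hQS hQ => by
      refine ⟨hQ, fun α hα => ⟨1, one_mem _, fun x => ?_, fun c _ => ?_⟩⟩
      · rw [hext Q hQS α hα]; rfl
      · simp
    have hinner : ∀ P : Subgroup Ω, F.Hom P = (Cfsg.innerFusionSystem S).Hom P := by
      rcases hsimple.2.2 S _ (hnormal S le_rfl hw) with h | ⟨-, h⟩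
      · exact absurd h hsimple.2.1
      · exact fun P => (h P).symm
    refine ⟨?_, hinner⟩
    obtain ⟨n, hn⟩ := hS.exists_card_eq
    have hdvd : p ∣ Nat.card S := by
      rcases n with _ | n
      · exact absurd (Subgroup.eq_bot_of_card_eq S (by simpa using hn)) hsimple.2.1
      · exact hn ▸ dvd_pow_self p n.succ_ne_zero
    obtain ⟨t, ht⟩ := exists_prime_orderOf_dvd_card' p hdvd
    set T := Subgroup.zpowers (t : Ω)
    have hTS : T ≤ S := Subgroup.zpowers_le.2 t.2
    have hTn : F.IsNormal T := by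
      refine isNormal_of_abelian hS hF ⟨hTS, fun R hR φ hφ x => ?_⟩ inferInstance
      rw [hinner] at hφ
      obtain ⟨-, g, hg, hgx⟩ := hφ
      rw [hgx x, hcomm g hg x (hTS (hR x.2))]
      exact hR x.2
    have hcard : Nat.card T = p := by rw [Nat.card_zpowers, Subgroup.orderOf_coe, ht]
    rcases hsimple.2.2 T _ (hnormal T hTS (inner_isWeaklyNormal hS hF hTn)) with h | ⟨h, -⟩
    · rw [h, Subgroup.card_bot] at hcard
      exact absurd hcard.symm (Fact.out : p.Prime).ne_one
    · rw [← h]; exact hcard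
  · rintro ⟨hcard, hinner⟩
    have hS1 : S ≠ ⊥ := fun h => (Fact.out : p.Prime).ne_one (by rw [← hcard, h, Subgroup.card_bot])
    refine isSimple_of_autGroup_eq_inn hF hS1 (le_antisymm (fun α hα => ?_) (inn_le_autGroup F le_rfl))
      fun T hT => ?_
    · have h := (mem_autGroup_iff le_rfl).1 hα
      rw [hinner] at h
      obtain ⟨-, g, hg, hgx⟩ := h
      exact ⟨⟨g, hg⟩, MulEquiv.ext fun x => Subtype.ext (hgx x).symm⟩
    · have hfinT := finite_of_le hT.1
      rcases (Nat.dvd_prime (Fact.out : p.Prime)).1 (hcard ▸ Subgroup.card_dvd_of_le hT.1) with h | h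
      · exact Or.inl (Subgroup.card_eq_one.1 h)
      · exact Or.inr (Subgroup.eq_of_le_of_card_ge hT.1 (hcard.trans h.symm).le)

end Cfsg.Agent.S5337
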