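import Cfsg.Statements.S1196
import Cfsg.Agent.Lib.TwoGroups.Wreathed

set_option autoImplicit false
open Cfsg

namespace Cfsg.Agent.S1196

open Cfsg.Agent.TwoGroups Cfsg.Agent.TwoGroups.WRGen

theorem base_one_unique {S : Type*} [Group S] [Finite S] {x y z : S} {n : ℕ} (h : WRGen x y z n)
    (A : Subgroup S) (hA : IsMulCommutative A) (hc : Nat.card A = 2 ^ (2 * n)) : A = h.base 1 := by
  have hcard : Nat.card (h.base 1) = 2 ^ n * 2 ^ n := by simpa using h.card_base (one_dvd _)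
  by_cases hle : A ≤ h.base 1
  · exact Subgroup.eq_of_le_of_card_ge hle (by rw [hc, hcard, two_mul, pow_add])
  exfalso
  obtain ⟨g, hg, hgb⟩ := SetLike.not_le_iff_exists.1 hle
  obtain ⟨i, j, rfl | rfl⟩ := h.exists_form g
  · exact hgb ((h.pr_mem_base (one_dvd _)).2 (one_dvd _))
  have hsub : h.base 1 ⊓ A ≤ Subgroup.center S := by
    rintro a ⟨⟨k, l, rfl, -⟩, ha⟩
    rw [h.pr_mem_center_iff]
    exact (h.commute_prz_iff i j k l).1
      (congrArg Subtype.val (hA.is_comm.comm (⟨_, ha⟩ : A) ⟨_, hg⟩))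
  have hidx : (h.base 1).index = 2 := by
    have h1 := (h.base 1).card_mul_index
    rw [hcard, h.card, mul_comm 2] at h1
    exact Nat.eq_of_mul_eq_mul_left (by positivity) h1
  have hrel : (h.base 1).relIndex A ≤ 2 := by
    have h2 := Subgroup.relIndex_le_of_le_right (H := h.base 1) (le_top : A ≤ ⊤)
      (by rw [Subgroup.relIndex_top_right, hidx]; norm_num)
    rwa [Subgroup.relIndex_top_right, hidx] at h2
  have h3 := Subgroup.relIndex_mul_relIndex ⊥ (h.base 1 ⊓ A) A bot_le inf_le_right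
  rw [Subgroup.relIndex_bot_left, Subgroup.relIndex_bot_left, Subgroup.inf_relIndex_right, hc] at h3
  have h4 := Subgroup.card_le_of_le hsub
  rw [h.center_eq, Nat.card_zpowers] at h4
  have h5 : orderOf (pr x y 1 1) ≤ 2 ^ n := by
    refine Nat.le_of_dvd (by positivity) (orderOf_dvd_of_pow_eq_one ?_)
    rw [pr, zpow_one, zpow_one, h.comm.mul_pow]
    conv_lhs => rw [← h.ordX, pow_orderOf_eq_one, h.ordX, ← h.ordY, pow_orderOf_eq_one]
    simp
  have h6 : 2 ^ n * 2 ≥ 2 ^ n * 2 ^ n :=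
    calc 2 ^ n * 2 ^ n = 2 ^ (2 * n) := by rw [two_mul, pow_add]
      _ = Nat.card ↥(h.base 1 ⊓ A) * (h.base 1).relIndex A := h3.symm
      _ ≤ 2 ^ n * 2 := Nat.mul_le_mul (h4.trans h5) hrel
  have h7 : 4 ≤ 2 ^ n := by
    calc 4 = 2 ^ 2 := by norm_num
      _ ≤ _ := Nat.pow_le_pow_right (by norm_num) h.two_le
  have := Nat.le_of_mul_le_mul_left h6 (by positivity)
  omega

theorem base_one_comm {S : Type*} [Group S] [Finite S] {x y z : S} {n : ℕ} (h : WRGen x y z n) :
    IsMulCommutative (h.base 1) := by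
  refine ⟨⟨?_⟩⟩
  rintro ⟨a, i, j, rfl, -⟩ ⟨b, k, l, rfl, -⟩
  exact Subtype.ext (h.pr_comm i j k l)


/-- A wreathed 2-group S of order 2^(2n+1) has a unique commutative subgroup of order 2^(2n), and this subgroup is isomorphic to the direct product of two cyclic groups of order 2^n. -/
theorem result {S : Type*} [Group S] [Finite S] (hS : Cfsg.IsWreathed S) (n : ℕ) (hn : Nat.card S = 2 ^ (2 * n + 1)) : (∃! U : Subgroup S, IsMulCommutative U ∧ Nat.card U = 2 ^ (2 * n)) ∧ ∀ U : Subgroup S, IsMulCommutative U → Nat.card U = 2 ^ (2 * n) → Nonempty (U ≃* Multiplicative (ZMod (2 ^ n) × ZMod (2 ^ n))) := by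
  obtain ⟨x, y, z, h⟩ := exists_wrGen_of_card hS hn
  have hcard : Nat.card (h.base 1) = 2 ^ (2 * n) := by
    rw [two_mul, pow_add]; simpa using h.card_base (one_dvd _)
  refine ⟨⟨h.base 1, ⟨base_one_comm h, hcard⟩, fun A hA => base_one_unique h A hA.1 hA.2⟩,
    fun A hA hc => ?_⟩
  rw [base_one_unique h A hA hc]
  haveI : NeZero (2 ^ n) := ⟨by positivity⟩
  haveI := Fintype.ofFinite (h.base 1)
  let f : Multiplicative (ZMod (2 ^ n) × ZMod (2 ^ n)) →* h.base 1 :=
    MonoidHom.mk' (fun p => ⟨pr x y p.toAdd.1.val p.toAdd.2.val, (h.pr_mem_base (one_dvd _)).2 (one_dvd _)⟩)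
      (fun p q => Subtype.ext (by
        have key : ∀ a b : ZMod (2 ^ n), (2 : ℤ) ^ n ∣ ((a + b).val : ℤ) - (a.val + b.val) := by
          intro a b
          have := (ZMod.intCast_eq_intCast_iff_dvd_sub ((a.val : ℤ) + b.val) ((a + b).val : ℤ) (2 ^ n)).1
            (by push_cast; simp)
          exact_mod_cast this
        show pr x y _ _ = pr x y _ _ * pr x y _ _
        rw [h.pr_mul, h.pr_eq_iff]
        exact ⟨key _ _, key _ _⟩))
  have hinj : Function.Injective f := by
    intro p q e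
    have e' := (h.pr_eq_iff _ _ _ _).1 (congrArg Subtype.val e)
    have key : ∀ a b : ZMod (2 ^ n), (2 : ℤ) ^ n ∣ (a.val : ℤ) - b.val → a = b := by
      intro a b hd
      have := (ZMod.intCast_eq_intCast_iff_dvd_sub (b.val : ℤ) (a.val : ℤ) (2 ^ n)).2 (by exact_mod_cast hd)
      push_cast at this
      simpa using this.symm
    exact Multiplicative.toAdd.injective (Prod.ext (key _ _ e'.1) (key _ _ e'.2))
  refine ⟨(MulEquiv.ofBijective f ((Nat.bijective_iff_injective_and_card f).2 ⟨hinj, ?_⟩)).symm⟩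
  rw [hcard, two_mul, pow_add]
  simp

end Cfsg.Agent.S1196
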