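import Cfsg.Statements.S1201
import Cfsg.Agent.Lib.TwoGroups.Wreathed

set_option autoImplicit false
open Cfsg

namespace Cfsg.Agent.S1201

open Cfsg.Agent.TwoGroups Cfsg.Agent.TwoGroups.WRGen


/-- If X is a non-commutative subgroup of a wreathed 2-group S, then Z(X) ≤ Z(S). -/
theorem result {S : Type*} [Group S] [Finite S] (hS : Cfsg.IsWreathed S) (X : Subgroup S) (hX : ¬ IsMulCommutative X) : (Subgroup.center X).map X.subtype ≤ Subgroup.center S := by
  obtain ⟨x, y, z, n, h⟩ := exists_wrGen hS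
  rintro _ ⟨⟨g, hgX⟩, hg, rfl⟩
  have hcomm : ∀ w ∈ X, w * g = g * w := fun w hw =>
    congrArg Subtype.val (Subgroup.mem_center_iff.1 hg ⟨w, hw⟩)
  obtain ⟨i, j, rfl | rfl⟩ := h.exists_form g
  · by_cases hX' : ∀ k l : ℤ, pr x y k l * z ∉ X
    · refine absurd ⟨⟨?_⟩⟩ hX
      rintro ⟨u, hu⟩ ⟨v, hv⟩
      obtain ⟨k, l, rfl | rfl⟩ := h.exists_form u
      · obtain ⟨k', l', rfl | rfl⟩ := h.exists_form v
        · exact Subtype.ext (h.pr_comm _ _ _ _)
        · exact absurd hv (hX' _ _)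
      · exact absurd hu (hX' _ _)
    · push Not at hX'
      obtain ⟨k, l, hkl⟩ := hX'
      exact (h.pr_mem_center_iff i j).2 ((h.commute_prz_iff k l i j).1 (hcomm _ hkl).symm)
  · exfalso
    refine hX ⟨⟨?_⟩⟩
    have hz : ∀ k l : ℤ, pr x y k l ∈ X → pr x y k l ∈ Subgroup.center S := fun k l hkl =>
      (h.pr_mem_center_iff k l).2 ((h.commute_prz_iff i j k l).1 (hcomm _ hkl))
    have hsplit : ∀ w ∈ X, ∃ c ∈ Subgroup.center S, w = c ∨ w = c * (pr x y i j * z) := by
      intro w hw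
      obtain ⟨k, l, rfl | rfl⟩ := h.exists_form w
      · exact ⟨_, hz k l hw, Or.inl rfl⟩
      · have hp := mul_mem hw (inv_mem hgX)
        rw [h.prz_inv, h.prz_mul_prz] at hp
        refine ⟨_, hz _ _ hp, Or.inr ?_⟩
        rw [← h.prz_mul_prz k l (-j) (-i), ← h.prz_inv, inv_mul_cancel_right]
    rintro ⟨u, hu⟩ ⟨v, hv⟩
    obtain ⟨c, hc, rfl | rfl⟩ := hsplit u hu
    · exact Subtype.ext (Subgroup.mem_center_iff.1 hc v).symm
    obtain ⟨d, hd, rfl | rfl⟩ := hsplit v hv
    · exact Subtype.ext (Subgroup.mem_center_iff.1 hd _)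
    · apply Subtype.ext
      show c * _ * (d * _) = d * _ * (c * _)
      have cc := fun w => Subgroup.mem_center_iff.1 hc w
      have dd := fun w => Subgroup.mem_center_iff.1 hd w
      calc c * (pr x y i j * z) * (d * (pr x y i j * z)) = c * ((pr x y i j * z) * d) * (pr x y i j * z) := by
            simp [mul_assoc]
        _ = (c * d) * ((pr x y i j * z) * (pr x y i j * z)) := by rw [dd]; simp [mul_assoc]
        _ = d * (c * (pr x y i j * z)) * (pr x y i j * z) := by rw [dd c]; simp [mul_assoc]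
        _ = d * ((pr x y i j * z) * c) * (pr x y i j * z) := by rw [cc]
        _ = _ := by simp [mul_assoc]

end Cfsg.Agent.S1201
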