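import Cfsg.Statements.S1202
import Cfsg.Agent.Lib.TwoGroups.WreathedDiag

set_option autoImplicit false
open Cfsg

namespace Cfsg.Agent.S1202

open Cfsg.Agent.TwoGroups Cfsg.Agent.TwoGroups.WRGen

theorem iff_of_forward {X : Type*} [Group X] [Finite X] (σ : MulAut X) (P : X → Prop)
    (hf : ∀ w, P w → P (σ w)) (w : X) : P (σ w) ↔ P w := by
  refine ⟨fun hw => ?_, hf w⟩
  let f : {w : X // P w} → {w : X // P w} := fun a => ⟨σ a.1, hf a.1 a.2⟩
  obtain ⟨⟨b, hb⟩, he⟩ := Finite.injective_iff_surjective.1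
    (show Function.Injective f from fun a b e => Subtype.ext (σ.injective (congrArg Subtype.val e)))
    ⟨σ w, hw⟩
  rwa [← σ.injective (congrArg Subtype.val he : σ b = σ w)]

theorem center_iff {S : Type*} [Group S] [Finite S] {x y z : S} {n : ℕ} (h : WRGen x y z n) {a : ℕ}
    (ha : a < n) {e : ℤ} (w : h.diag (2 ^ a) e) :
    (w : S) ∈ Subgroup.center S ↔ w ∈ Subgroup.center ↥(h.diag (2 ^ a) e) := by
  have hk : 2 ^ a ∣ 2 ^ n := pow_dvd_pow 2 ha.le
  refine ⟨fun hw => Subgroup.mem_center_iff.2 fun v => Subtype.ext (Subgroup.mem_center_iff.1 hw v.1),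
    fun hw => ?_⟩
  have hv : pr x y ((2 : ℤ) ^ a) 0 ∈ h.diag (2 ^ a) e := (h.pr_mem_diag hk).2 (by simp)
  have hg : pr x y e 0 * z ∈ h.diag (2 ^ a) e := (h.prz_mem_diag hk).2 (by simp)
  have c1 : pr x y ((2 : ℤ) ^ a) 0 * (w : S) = (w : S) * pr x y ((2 : ℤ) ^ a) 0 :=
    congrArg Subtype.val (Subgroup.mem_center_iff.1 hw ⟨_, hv⟩)
  have c2 : pr x y e 0 * z * (w : S) = (w : S) * (pr x y e 0 * z) :=
    congrArg Subtype.val (Subgroup.mem_center_iff.1 hw ⟨_, hg⟩)
  obtain ⟨i, j, hh | hh⟩ := h.exists_form (w : S) <;> rw [hh] at c1 c2 ⊢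
  · exact (h.pr_mem_center_iff i j).2 ((h.commute_prz_iff e 0 i j).1 c2.symm)
  · exfalso
    have h1 := (h.commute_prz_iff i j _ 0).1 c1
    rw [sub_zero] at h1
    have := Int.le_of_dvd (by positivity) h1
    have := pow_lt_pow_right₀ (show (1 : ℤ) < 2 by norm_num) ha
    omega

theorem hM_small {S : Type*} [Group S] [Finite S] {x y z : S} {m : ℕ} (h : WRGen x y z (m + 1)) {a : ℕ}
    (ha : a < m) {e : ℤ} (σ : MulAut ↥(h.diag (2 ^ a) e)) (w : h.diag (2 ^ a) e)
    (hw : (w : S) ∈ h.base 1) : (σ w : S) ∈ h.base 1 := by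
  have hk : 2 ^ a ∣ 2 ^ (m + 1) := pow_dvd_pow 2 (by omega)
  have hbase : ∀ i j : ℤ, pr x y i j ∈ h.base 1 := fun i j =>
    (h.pr_mem_base (one_dvd _)).2 (one_dvd _)
  have hchar : ∀ v : h.diag (2 ^ a) e, (σ v : S) ∈ Subgroup.center S ↔ (v : S) ∈ Subgroup.center S :=
    fun v => by
      rw [center_iff h (by omega), center_iff h (by omega), Subgroup.mem_center_iff, Subgroup.mem_center_iff]
      exact ⟨fun H u => σ.injective (by rw [map_mul, map_mul, H]),
        fun H u => by obtain ⟨u, rfl⟩ := σ.surjective u; rw [← map_mul, H, map_mul]⟩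
  by_contra hout
  obtain ⟨i, j, hh | hh⟩ := h.exists_form (σ w : S)
  · exact hout (hh ▸ hbase i j)
  -- an element of `base 1` is central or moved out of `base 1`
  have key : ∀ v : h.diag (2 ^ a) e, (v : S) ∈ h.base 1 → (σ v : S) ∈ h.base 1 →
      (v : S) ∈ Subgroup.center S := by
    intro v hv hσv
    rw [← hchar]
    have hcomm : (σ v : S) * (σ w : S) = (σ w : S) * (σ v : S) := by
      have hvw : v * w = w * v := by
        obtain ⟨p, q, hp, -⟩ := hv
        obtain ⟨r, t, hr, -⟩ := hw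
        exact Subtype.ext (by rw [Subgroup.coe_mul, Subgroup.coe_mul, hp, hr, h.pr_comm])
      rw [← Subgroup.coe_mul, ← Subgroup.coe_mul, ← map_mul, ← map_mul, hvw]
    obtain ⟨p, q, hp, -⟩ := hσv
    rw [hp, hh] at hcomm
    rw [hp, h.pr_mem_center_iff]
    exact (h.commute_prz_iff i j p q).1 hcomm
  let v₁ : h.diag (2 ^ a) e := ⟨pr x y ((2 : ℤ) ^ a) 0, (h.pr_mem_diag hk).2 (by simp)⟩
  have hnc : ∀ c : ℤ, (v₁ ^ c : h.diag (2 ^ a) e).1 ∈ Subgroup.center S →
      (2 : ℤ) ^ (m + 1) ∣ 2 ^ a * c := fun c hc => by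
    simp only [v₁, SubgroupClass.coe_zpow, h.pr_zpow, h.pr_mem_center_iff, zero_mul, sub_zero] at hc
    exact hc
  have hb : ∀ c : ℤ, (v₁ ^ c : h.diag (2 ^ a) e).1 ∈ h.base 1 := fun c => by
    simp only [v₁, SubgroupClass.coe_zpow, h.pr_zpow]; exact hbase _ _
  have hlt := pow_lt_pow_right₀ (show (1 : ℤ) < 2 by norm_num) ha
  have hpos : (0 : ℤ) < 2 ^ a := by positivity
  have h1 : (σ (v₁ ^ (1 : ℤ)) : S) ∉ h.base 1 := fun hin => by
    have := Int.le_of_dvd (by positivity) (hnc 1 (key _ (hb 1) hin))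
    rw [pow_succ] at this; omega
  have h2 : (σ (v₁ ^ (2 : ℤ)) : S) ∉ h.base 1 := fun hin => by
    have := Int.le_of_dvd (by positivity) (hnc 2 (key _ (hb 2) hin))
    rw [pow_succ] at this; omega
  apply h2
  rw [zpow_one] at h1
  rw [map_zpow, SubgroupClass.coe_zpow, zpow_two]
  obtain ⟨p, q, hh1 | hh1⟩ := h.exists_form (σ v₁ : S)
  · exact absurd (hh1 ▸ hbase p q) h1
  · rw [hh1, h.prz_mul_prz]; exact hbase _ _

theorem isPGroup_mulAut {S : Type*} [Group S] [Finite S] {x y z : S} {m : ℕ} (h : WRGen x y z (m + 1))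
    {a : ℕ} (ha : a ≤ m + 1) {e : ℤ} (hne : ¬ (a = m ∧ 2 ∣ e)) :
    IsPGroup 2 (MulAut ↥(h.diag (2 ^ a) e)) := by
  have hm : 1 ≤ m := by have := h.two_le; omega
  have hk : 2 ^ a ∣ 2 ^ (m + 1) := pow_dvd_pow 2 ha
  have hbase : ∀ i j : ℤ, pr x y i j ∈ h.base 1 := fun i j =>
    (h.pr_mem_base (one_dvd _)).2 (one_dvd _)
  -- it is enough that `σ` or `σ²` preserves `base 1`
  suffices key : ∀ σ : MulAut ↥(h.diag (2 ^ a) e), ∃ r : ℕ,
      (∀ w, ((σ ^ 2 ^ r) w : S) ∈ Subgroup.center S ↔ (w : S) ∈ Subgroup.center S) ∧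
      (∀ w, ((σ ^ 2 ^ r) w : S) ∈ h.base 1 ↔ (w : S) ∈ h.base 1) by
    intro σ
    obtain ⟨r, hZ, hM⟩ := key σ
    refine ⟨r + ((m + 1) + (m + 1) + (m + 1)), ?_⟩
    rw [pow_add, pow_mul, pow_add, pow_add]
    exact h.aut_pow_eq_one ha _ hZ hM
  intro σ
  have hZlow : a < m + 1 → ∀ (τ : MulAut ↥(h.diag (2 ^ a) e)) (w : h.diag (2 ^ a) e),
      (τ w : S) ∈ Subgroup.center S ↔ (w : S) ∈ Subgroup.center S := by
    intro hlt τ w
    rw [center_iff h hlt, center_iff h hlt, Subgroup.mem_center_iff, Subgroup.mem_center_iff]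
    exact ⟨fun H u => τ.injective (by rw [map_mul, map_mul, H]),
      fun H u => by obtain ⟨u, rfl⟩ := τ.surjective u; rw [← map_mul, H, map_mul]⟩
  have hZtop : a = m + 1 → ∀ w : h.diag (2 ^ a) e,
      (w : S) ∈ Subgroup.center S ↔ (w : S) ∈ h.base 1 := by
    rintro rfl ⟨w, hw⟩
    obtain ⟨i, j, rfl | rfl⟩ := h.exists_form w
    · refine iff_of_true ((h.pr_mem_center_iff i j).2 ?_) (hbase i j)
      have := (h.pr_mem_diag hk).1 hw
      exact_mod_cast this
    · exact iff_of_false (h.prz_not_mem_center i j) h.prz_not_mem_base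
  by_cases hlt : a < m
  · exact ⟨0, fun w => hZlow (by omega) _ w, fun w => iff_of_forward _ _ (fun v hv => hM_small h hlt _ v hv) w⟩
  by_cases heven : 2 ∣ e
  · -- `a = m + 1`
    obtain rfl : a = m + 1 := by
      rcases eq_or_ne a m with h1 | h1
      · exact absurd ⟨h1, heven⟩ hne
      · omega
    let u : h.diag (2 ^ (m + 1)) e := ⟨pr x y 1 1, (h.pr_mem_diag hk).2 (by simp)⟩
    have hfw : ∀ τ : MulAut ↥(h.diag (2 ^ (m + 1)) e), (τ u : S) ∈ h.base 1 →
        ∀ w : h.diag (2 ^ (m + 1)) e, (w : S) ∈ h.base 1 → (τ w : S) ∈ h.base 1 := by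
      rintro τ hτ ⟨w, hw⟩ ⟨i, j, rfl, -⟩
      have : (⟨pr x y i j, hw⟩ : h.diag (2 ^ (m + 1)) e) = u ^ j := by
        apply Subtype.ext
        simp only [u, SubgroupClass.coe_zpow, h.pr_zpow, one_mul, h.pr_eq_iff, sub_self]
        have := (h.pr_mem_diag hk).1 hw
        exact ⟨by exact_mod_cast this, dvd_zero _⟩
      rw [this, map_zpow, SubgroupClass.coe_zpow]
      exact zpow_mem hτ j
    have main : (σ u : S) ∈ h.base 1 ∨ ((σ * σ) u : S) ∈ h.base 1 := by
      by_contra hcon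
      push Not at hcon
      obtain ⟨p, q, hh | hh⟩ := h.exists_form (σ u : S)
      · exact hcon.1 (hh ▸ hbase p q)
      obtain ⟨p', q', hh' | hh'⟩ := h.exists_form (σ (σ u) : S)
      · exact hcon.2 (by rw [MulAut.mul_apply, hh']; exact hbase p' q')
      obtain ⟨r, hr⟩ : 2 ∣ p + q := by
        have hpq := (h.prz_mem_diag hk).1 (hh ▸ (σ u).2)
        have : (2 : ℤ) ∣ p - q - e :=
          dvd_trans (by push_cast; exact dvd_pow_self 2 (by omega)) hpq
        omega
      obtain ⟨l, rfl⟩ : ∃ l, m = l + 1 := ⟨m - 1, by omega⟩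
      have hpow : ∀ (i j : ℤ), (pr x y i j * z) ^ (2 ^ (l + 1)) =
          pr x y ((i + j) * 2 ^ l) ((i + j) * 2 ^ l) := fun i j => by
        rw [pow_succ', pow_mul, h.prz_sq, ← zpow_natCast, h.pr_zpow]
        push_cast; rfl
      have hu0 : u ^ (2 ^ (l + 1)) ≠ 1 := by
        rw [ne_eq, ← Subtype.coe_inj, SubgroupClass.coe_pow, ← zpow_natCast]
        simp only [u, h.pr_zpow, OneMemClass.coe_one, h.pr_eq_one_iff, one_mul, and_self]
        intro hd
        have := Int.le_of_dvd (by positivity) hd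
        push_cast at this
        rw [pow_succ] at this
        have : (0 : ℤ) < 2 ^ (l + 1) := by positivity
        omega
      have hrodd : ¬ 2 ∣ r := by
        rintro ⟨r', hr'⟩
        apply hu0
        apply σ.injective
        rw [map_pow, map_one, ← Subtype.coe_inj, SubgroupClass.coe_pow, OneMemClass.coe_one, hh, hpow,
          h.pr_eq_one_iff, and_self, hr, hr']
        exact ⟨r', by ring⟩
      set t : h.diag (2 ^ (l + 1 + 1)) e := u * σ u with ht
      have ht1 : t ^ (2 ^ (l + 1)) = 1 := by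
        rw [← Subtype.coe_inj, SubgroupClass.coe_pow, ht, Subgroup.coe_mul, hh,
          show (u : S) = pr x y 1 1 from rfl, h.pr_mul_prz, hpow, OneMemClass.coe_one, h.pr_eq_one_iff,
          and_self, show 1 + p + (1 + q) = 2 * (r + 1) by linarith]
        obtain ⟨r', hr'⟩ : 2 ∣ r + 1 := by omega
        exact ⟨r', by rw [hr']; ring⟩
      have hσt : (σ t : S) = pr x y (p + q') (q + p') := by
        rw [ht, map_mul, Subgroup.coe_mul, hh, hh', h.prz_mul_prz]
      have h3 : (σ t : S) ^ (2 ^ (l + 1)) = 1 := by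
        rw [← SubgroupClass.coe_pow, ← map_pow, ht1, map_one, OneMemClass.coe_one]
      rw [hσt, ← zpow_natCast, h.pr_zpow, h.pr_eq_one_iff] at h3
      obtain ⟨c, hc⟩ : 2 ∣ p + q' := by
        have h4 := h3.1
        push_cast at h4
        rwa [pow_succ' (2 : ℤ) (l + 1), mul_dvd_mul_iff_right (pow_ne_zero _ (by norm_num))] at h4
      have hdiag : (2 : ℤ) ^ (l + 1 + 1) ∣ p + q' - (q + p') := by
        have := (h.pr_mem_diag hk).1 (hσt ▸ (σ t).2)
        exact_mod_cast this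
      have hsq : σ t = (u ^ c) ^ 2 := by
        apply Subtype.ext
        rw [hσt, SubgroupClass.coe_pow, SubgroupClass.coe_zpow, show (u : S) = pr x y 1 1 from rfl,
          h.pr_zpow, pow_two, h.pr_mul, h.pr_eq_iff]
        refine ⟨⟨0, by rw [hc]; ring⟩, ?_⟩
        rw [show q + p' - (1 * c + 1 * c) = (p + q' - 2 * c) - (p + q' - (q + p')) by ring,
          show p + q' - 2 * c = 0 by linarith, zero_sub]
        exact hdiag.neg_right
      obtain ⟨w, hw⟩ := σ.surjective (u ^ c)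
      rw [← hw, ← map_pow, σ.injective.eq_iff] at hsq
      have h5 : (t : S) = (w : S) ^ 2 := by rw [hsq, SubgroupClass.coe_pow]
      rw [ht, Subgroup.coe_mul, hh, show (u : S) = pr x y 1 1 from rfl, h.pr_mul_prz] at h5
      obtain ⟨i, j, hw' | hw'⟩ := h.exists_form (w : S)
      · rw [hw', pow_two, h.pr_mul] at h5; exact h.prz_ne _ _ _ _ h5
      · rw [hw', h.prz_sq] at h5; exact h.prz_ne _ _ _ _ h5
    rcases main with hτ | hτ
    · have hM := iff_of_forward σ _ (hfw σ hτ)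
      exact ⟨0, fun w => by rw [pow_zero, pow_one, hZtop rfl, hZtop rfl]; exact hM w,
        fun w => by rw [pow_zero, pow_one]; exact hM w⟩
    · have hM := iff_of_forward (σ * σ) _ (hfw (σ * σ) hτ)
      exact ⟨1, fun w => by rw [pow_one, pow_two, hZtop rfl, hZtop rfl]; exact hM w,
        fun w => by rw [pow_one, pow_two]; exact hM w⟩
  · -- `e` odd
    have hchar : ∀ w : h.diag (2 ^ a) e, (w : S) ∈ h.base 1 ↔ w ^ (2 ^ (m + 1)) = 1 := by
      rintro ⟨w, hw⟩
      rw [← Subtype.coe_inj, SubgroupClass.coe_pow, OneMemClass.coe_one]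
      obtain ⟨i, j, rfl | rfl⟩ := h.exists_form w
      · exact iff_of_true (hbase i j) (h.pr_pow_eq_one i j)
      · refine iff_of_false h.prz_not_mem_base ?_
        have hd := (h.prz_mem_diag hk).1 hw
        have h2 : (2 : ℤ) ∣ i - j - e :=
          dvd_trans (by push_cast; exact dvd_pow_self 2 (by omega)) hd
        rw [pow_succ', pow_mul, h.prz_sq, ← zpow_natCast, h.pr_zpow, h.pr_eq_one_iff, and_self]
        push_cast
        rw [pow_succ', mul_dvd_mul_iff_right (pow_ne_zero _ (by norm_num))]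
        omega
    have hM : ∀ (τ : MulAut ↥(h.diag (2 ^ a) e)) (w : h.diag (2 ^ a) e),
        (τ w : S) ∈ h.base 1 ↔ (w : S) ∈ h.base 1 := by
      intro τ w
      rw [hchar, hchar, ← map_pow, MulEquiv.map_eq_one_iff]
    refine ⟨0, fun w => ?_, fun w => hM _ w⟩
    rcases eq_or_lt_of_le ha with rfl | hlt'
    · rw [hZtop rfl, hZtop rfl]; exact hM _ w
    · exact hZlow hlt' _ w

/-- Let S be a wreathed 2-group of order 2^(2n+1) and X a subgroup with C_S(X) ≤ X such that Aut(X) is not a 2-group. Then |N_S(X) : X| = 2, and either X is the commutative subgroup of order 2^(2n), or X = Q·Z(S) for some subgroup Q ≅ Q₈; in the latter case any two such subgroups are conjugate in S. -/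
theorem result {S : Type*} [Group S] [Finite S] (hS : Cfsg.IsWreathed S) (n : ℕ) (hn : Nat.card S = 2 ^ (2 * n + 1)) (X : Subgroup S) (hC : Subgroup.centralizer (X : Set S) ≤ X) (hA : ¬ IsPGroup 2 (MulAut X)) : X.relIndex (Subgroup.normalizer (X : Set S)) = 2 ∧ ((IsMulCommutative X ∧ Nat.card X = 2 ^ (2 * n)) ∨ ∃ Q : Subgroup S, Nonempty (Q ≃* QuaternionGroup 2) ∧ X = Q ⊔ Subgroup.center S) ∧ ∀ X' : Subgroup S, Subgroup.centralizer (X' : Set S) ≤ X' → ¬ IsPGroup 2 (MulAut X') → ¬ IsMulCommutative X → ¬ IsMulCommutative X' → ∃ s : S, X.map (MulAut.conj s).toMonoidHom = X' := by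
  obtain ⟨x, y, z, h⟩ := exists_wrGen_of_card hS hn
  obtain ⟨m, rfl⟩ : ∃ m, n = m + 1 := ⟨n - 1, by have := h.two_le; omega⟩
  obtain ⟨l, rfl⟩ : ∃ l, m = l + 1 := ⟨m - 1, by have := h.two_le; omega⟩
  have hbase : ∀ i j : ℤ, pr x y i j ∈ h.base 1 := fun i j =>
    (h.pr_mem_base (one_dvd _)).2 (one_dvd _)
  have hcenle : ∀ Y : Subgroup S, Subgroup.centralizer (Y : Set S) ≤ Y → Subgroup.center S ≤ Y :=
    fun Y hY => le_trans (Subgroup.center_le_centralizer _) hY
  have hcomm1 : IsMulCommutative (h.base 1) := by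
    refine ⟨⟨?_⟩⟩
    rintro ⟨a, i, j, rfl, -⟩ ⟨b, k, l', rfl, -⟩
    exact Subtype.ext (h.pr_comm i j k l')
  have hcard1 : Nat.card (h.base 1) = 2 ^ (l + 1 + 1) * 2 ^ (l + 1 + 1) := by
    simpa using h.card_base (one_dvd _)
  have hcases : ∀ Y : Subgroup S, Subgroup.centralizer (Y : Set S) ≤ Y → ¬ IsPGroup 2 (MulAut Y) →
      Y = h.base 1 ∨ ∃ e : ℤ, 2 ∣ e ∧ Y = h.diag (2 ^ (l + 1)) e := by
    intro Y hY hYA
    by_cases hout : ∃ i j : ℤ, pr x y i j * z ∈ Y
    · right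
      obtain ⟨a, e, ha, rfl⟩ := h.exists_eq_diag Y (hcenle Y hY) hout
      by_cases hgood : a = l + 1 ∧ 2 ∣ e
      · exact ⟨e, hgood.2, by rw [hgood.1]⟩
      · exact absurd (isPGroup_mulAut h ha hgood) hYA
    · left
      push Not at hout
      have hle : Y ≤ h.base 1 := fun g hg => by
        obtain ⟨i, j, rfl | rfl⟩ := h.exists_form g
        · exact hbase i j
        · exact absurd hg (hout i j)
      refine le_antisymm hle (le_trans (fun g hg => ?_) hY)
      rw [Subgroup.mem_centralizer_iff]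
      intro u hu
      exact congrArg Subtype.val (hcomm1.is_comm.comm (⟨u, hle hu⟩ : h.base 1) ⟨g, hg⟩)
  rcases hcases X hC hA with rfl | ⟨e, he, rfl⟩
  · have hidx : (h.base 1).index = 2 := by
      have h1 := (h.base 1).card_mul_index
      rw [hcard1, h.card, mul_comm 2] at h1
      exact Nat.eq_of_mul_eq_mul_left (by positivity) h1
    have hnor : (h.base 1).Normal := Subgroup.normal_of_index_eq_two hidx
    refine ⟨?_, Or.inl ⟨hcomm1, by rw [hcard1, ← pow_add, ← two_mul]⟩,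
      fun X' _ _ hX _ => absurd hcomm1 hX⟩
    rw [Subgroup.normalizer_eq_top_iff.2 hnor, Subgroup.relIndex_top_right, hidx]
  obtain ⟨f, rfl⟩ := he
  have hk : 2 ^ (l + 1) ∣ 2 ^ (l + 1 + 1) := pow_dvd_pow 2 (Nat.le_succ _)
  have hk' : 2 ^ l ∣ 2 ^ (l + 1 + 1) := pow_dvd_pow 2 (by omega)
  have hpos : (0 : ℤ) < 2 ^ l := by positivity
  refine ⟨?_, Or.inr ?_, fun X' hC' hA' _ hX' => ?_⟩
  · have hN : Subgroup.normalizer (h.diag (2 ^ (l + 1)) (2 * f) : Set S) =
        h.diag (2 ^ l) (2 * f) := by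
      have hg₀ : pr x y (2 * f) 0 * z ∈ h.diag (2 ^ (l + 1)) (2 * f) := (h.prz_mem_diag hk).2 (by simp)
      apply le_antisymm
      · intro s hs
        have h1 := (Subgroup.mem_normalizer_iff.1 hs _).1 hg₀
        obtain ⟨a, b, rfl | rfl⟩ := h.exists_form s
        · rw [h.conj_prz_by_pr, h.prz_mem_diag hk] at h1
          rw [h.pr_mem_diag hk']
          push_cast at h1 ⊢
          rw [pow_succ'] at h1
          obtain ⟨c, hc⟩ := h1
          exact ⟨c, by linarith⟩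
        · rw [h.conj_prz_by_prz, h.prz_mem_diag hk] at h1
          rw [h.prz_mem_diag hk']
          push_cast at h1 ⊢
          rw [pow_succ'] at h1
          obtain ⟨c, hc⟩ := h1
          exact ⟨c, by linarith⟩
      · rw [Subgroup.le_normalizer_iff]
        intro s hs w hw
        obtain ⟨a, b, ⟨rfl, hs⟩ | ⟨rfl, hs⟩⟩ := hs <;> obtain ⟨c, d, ⟨rfl, hw⟩ | ⟨rfl, hw⟩⟩ := hw
        · rw [h.conj_pr_by_pr, h.pr_mem_diag hk]; exact hw
        · rw [h.conj_prz_by_pr, h.prz_mem_diag hk]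
          push_cast at hs hw ⊢
          rw [show a + c - b - (b + d - a) - 2 * f = 2 * (a - b) + (c - d - 2 * f) by ring, pow_succ']
          exact dvd_add (mul_dvd_mul_left 2 hs) (by rw [← pow_succ']; exact hw)
        · rw [h.conj_pr_by_prz, h.pr_mem_diag hk]
          rw [show d - c = -(c - d) by ring]; exact hw.neg_right
        · rw [h.conj_prz_by_prz, h.prz_mem_diag hk]
          push_cast at hs hw ⊢
          rw [show a + d - b - (b + c - a) - 2 * f = 2 * (a - b - 2 * f) - (c - d - 2 * f) by ring,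
            pow_succ']
          exact dvd_sub (mul_dvd_mul_left 2 hs) (by rw [← pow_succ']; exact hw)
    rw [hN]
    have hw : pr x y ((2 : ℤ) ^ l) 0 ∈ h.diag (2 ^ l) (2 * f) := (h.pr_mem_diag hk').2 (by simp)
    rw [Subgroup.relIndex, Subgroup.index_eq_two_iff]
    refine ⟨⟨_, hw⟩, fun b => ?_⟩
    obtain ⟨b, i, j, ⟨rfl, t, ht⟩ | ⟨rfl, t, ht⟩⟩ := b <;> push_cast at ht
    · rw [Subgroup.mem_subgroupOf, Subgroup.mem_subgroupOf, Subgroup.coe_mul, h.pr_mul, h.pr_mem_diag hk,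
        h.pr_mem_diag hk]
      push_cast
      rw [add_zero, show i + 2 ^ l - j = 2 ^ l * (t + 1) by linear_combination ht, ht, pow_succ,
        mul_dvd_mul_iff_left hpos.ne', mul_dvd_mul_iff_left hpos.ne']
      rcases Int.even_or_odd' t with ⟨s, rfl | rfl⟩
      · exact Or.inr ⟨dvd_mul_right _ _, by omega⟩
      · exact Or.inl ⟨by omega, by omega⟩
    · rw [Subgroup.mem_subgroupOf, Subgroup.mem_subgroupOf, Subgroup.coe_mul, h.prz_mul_pr,
        h.prz_mem_diag hk, h.prz_mem_diag hk]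
      push_cast
      rw [add_zero, show i - (j + 2 ^ l) - 2 * f = 2 ^ l * (t - 1) by linear_combination ht, ht, pow_succ,
        mul_dvd_mul_iff_left hpos.ne', mul_dvd_mul_iff_left hpos.ne']
      rcases Int.even_or_odd' t with ⟨s, rfl | rfl⟩
      · exact Or.inr ⟨dvd_mul_right _ _, by omega⟩
      · exact Or.inl ⟨⟨s, by ring⟩, by omega⟩
  · set Q := h.ext (2 ^ (l + 1 + 1)) (2 ^ (l + 1))
        (show ((2 ^ (l + 1 + 1) : ℕ) : ℤ) ∣ 2 * 2 ^ (l + 1) from ⟨1, by push_cast; ring⟩) ⊓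
        h.diag (2 ^ (l + 1)) (2 * f) with hQ
    have hkk : 2 ^ (l + 1 + 1) ∣ 2 ^ (l + 1 + 1) := dvd_rfl
    have hd : ((2 ^ (l + 1 + 1) : ℕ) : ℤ) ∣ 2 * 2 ^ (l + 1) := ⟨1, by push_cast; ring⟩
    set w := pr x y ((2 : ℤ) ^ l) (-(2 ^ l)) with hwdef
    set b := pr x y (2 ^ (l + 1) + f) (-f) * z with hbdef
    have hw : w ∈ Q := ⟨(h.pr_mem_ext hkk hd).2 (by simp), (h.pr_mem_diag hk).2 ⟨1, by push_cast; ring⟩⟩
    have hb : b ∈ Q := ⟨(h.prz_mem_ext hkk hd).2 ⟨0, by push_cast; ring⟩,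
      (h.prz_mem_diag hk).2 ⟨1, by push_cast; ring⟩⟩
    have hQpr : ∀ i j : ℤ, pr x y i j ∈ Q → ∃ c : ℤ, pr x y i j = w ^ c := by
      rintro i j ⟨h1, h2⟩
      obtain ⟨u, hu⟩ := (h.pr_mem_ext hkk hd).1 h1
      obtain ⟨v, hv⟩ := (h.pr_mem_diag hk).1 h2
      push_cast at hu hv
      refine ⟨v + 2 * u, ?_⟩
      rw [hwdef, h.pr_zpow, h.pr_eq_iff]
      obtain rfl : i = 2 ^ l * (2 * u + v) := by
        rw [pow_succ', pow_succ'] at hu; rw [pow_succ'] at hv; linarith
      exact ⟨⟨0, by ring⟩, ⟨u, by linear_combination hu⟩⟩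
    have hord : orderOf w = 4 := by
      haveI : Fact (Nat.Prime 2) := ⟨Nat.prime_two⟩
      refine orderOf_eq_prime_pow (p := 2) (n := 1) ?_ ?_
      · rw [pow_one, hwdef, h.pr_sq_eq_one_iff, Nat.add_sub_cancel]
        intro hc
        have := Int.le_of_dvd hpos hc.1
        rw [pow_succ] at this
        omega
      · rw [show 2 ^ (1 + 1) = 4 from rfl, ← zpow_natCast, hwdef, h.pr_zpow, h.pr_eq_one_iff]
        exact ⟨⟨1, by push_cast; ring⟩, ⟨-1, by push_cast; ring⟩⟩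
    have hwz : ∀ i : ℤ, b ∉ Subgroup.zpowers w := by
      rintro - ⟨c, hc⟩
      simp only at hc
      rw [hwdef, h.pr_zpow, hbdef] at hc
      exact h.prz_ne _ _ _ _ hc.symm
    have hbsq : b ^ 2 = w ^ 2 := by
      rw [hbdef, h.prz_sq, hwdef, ← zpow_natCast (pr x y _ _), h.pr_zpow, h.pr_eq_iff]
      exact ⟨⟨0, by push_cast; ring⟩, ⟨1, by push_cast; ring⟩⟩
    have hwQ : Subgroup.zpowers w ≤ Q := Subgroup.zpowers_le.2 hw
    have hcardQ : Nat.card Q = 8 := by
      have hrel : (Subgroup.zpowers w).relIndex Q = 2 := by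
        rw [Subgroup.relIndex, Subgroup.index_eq_two_iff]
        refine ⟨⟨b, hb⟩, fun ⟨g, hg⟩ => ?_⟩
        rw [Subgroup.mem_subgroupOf, Subgroup.mem_subgroupOf, Subgroup.coe_mul]
        obtain ⟨i, j, rfl | rfl⟩ := h.exists_form g
        · obtain ⟨c, hc⟩ := hQpr i j hg
          refine Or.inr ⟨⟨c, hc.symm⟩, ?_⟩
          rintro ⟨c', hc'⟩
          simp only at hc'
          rw [hwdef, h.pr_zpow, hbdef, h.pr_mul_prz] at hc'
          exact h.prz_ne _ _ _ _ hc'.symm
        · refine Or.inl ⟨?_, ?_⟩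
          · have hp := mul_mem hg hb
            show pr x y i j * z * b ∈ _
            rw [hbdef, h.prz_mul_prz] at hp ⊢
            obtain ⟨c, hc⟩ := hQpr _ _ hp
            exact ⟨c, hc.symm⟩
          · rintro ⟨c', hc'⟩
            simp only at hc'
            rw [hwdef, h.pr_zpow] at hc'
            exact h.prz_ne _ _ _ _ hc'.symm
      rw [← Subgroup.relIndex_bot_left, ← Subgroup.relIndex_mul_relIndex ⊥ _ _ bot_le hwQ, hrel,
        Subgroup.relIndex_bot_left, Nat.card_zpowers, hord]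
    refine ⟨Q, PGroup.quaternionEquivOfRel (a := ⟨w, hw⟩) (b := ⟨b, hb⟩)
      (by rw [Subgroup.orderOf_mk, hord]) ?_ (Subtype.ext hbsq) ?_ (by rw [hcardQ]), le_antisymm ?_ ?_⟩
    · rintro ⟨c, hc⟩
      exact hwz 0 ⟨c, by simpa using congrArg Subtype.val hc⟩
    · apply Subtype.ext
      show b * w * b⁻¹ = w⁻¹
      rw [hbdef, hwdef, h.conj_pr_by_prz, h.pr_inv, neg_neg]
    · intro g hg
      have key : ∀ i j : ℤ, pr x y i j ∈ h.diag (2 ^ (l + 1)) (2 * f) →
          pr x y i j ∈ Q ⊔ Subgroup.center S := by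
        intro i j hij
        obtain ⟨t, ht⟩ := (h.pr_mem_diag hk).1 hij
        push_cast at ht
        have e1 : pr x y i j = w ^ t * pr x y (j + 2 ^ l * t) (j + 2 ^ l * t) := by
          rw [hwdef, h.pr_zpow, h.pr_mul, h.pr_eq_iff]
          exact ⟨⟨0, by rw [pow_succ] at ht; linarith⟩, ⟨0, by ring⟩⟩
        rw [e1]
        exact mul_mem (Subgroup.mem_sup_left (Subgroup.zpow_mem _ hw t))
          (Subgroup.mem_sup_right ((h.pr_mem_center_iff _ _).2 (by simp)))
      obtain ⟨i, j, rfl | rfl⟩ := h.exists_form g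
      · exact key i j hg
      · have hp := mul_mem hg (inv_mem hb.2)
        rw [hbdef, h.prz_inv, h.prz_mul_prz] at hp
        have := mul_mem (key _ _ hp) (Subgroup.mem_sup_left hb)
        rwa [← h.prz_mul_prz, ← h.prz_inv, ← hbdef, inv_mul_cancel_right] at this
    · exact sup_le inf_le_right (hcenle _ hC)
  · obtain h1 | ⟨e', ⟨f', rfl⟩, rfl⟩ := hcases X' hC' hA'
    · exact absurd (h1 ▸ hcomm1) hX'
    · refine ⟨pr x y (f' - f) 0, ?_⟩
      rw [h.map_diag hk]
      exact h.diag_congr hk (by rw [show 2 * f + 2 * (f' - f - 0) - 2 * f' = 0 by ring]; exact dvd_zero _)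

end Cfsg.Agent.S1202
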