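import Cfsg.Statements.S2511
import Cfsg.Agent.Lib.GL.UnitaryOrders

set_option autoImplicit false
open Cfsg

namespace Cfsg.Agent.S2511

open Matrix Polynomial
open Cfsg.Agent.GL
open Cfsg.Agent.Forms (qEnd qEnd_apply qEnd_qEnd one_lt_q exists_prime_pow_q)

variable {F : Type*} [Field F] [Fintype F] {n q r : ℕ} (hF : Fintype.card F = q ^ 2)

local notation "π" => QuotientGroup.mk' (Subgroup.center (Cfsg.SU n F q))

omit [Fintype F] in
theorem pres_of_mem (g : Cfsg.SU n F q) :
    Preserves (hermForm n F q) ((g : Matrix.SpecialLinearGroup (Fin n) F) : Matrix (Fin n) (Fin n) F) := g.2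

/-- An element of `SU` from a matrix. -/
def mkSU (A : Matrix (Fin n) (Fin n) F) (hdet : A.det = 1) (h : Preserves (hermForm n F q) A) : Cfsg.SU n F q :=
  ⟨⟨A, hdet⟩, h⟩

omit [Fintype F] in
theorem coe_pow_SU (g : Cfsg.SU n F q) (k : ℕ) :
    (((g ^ k : Cfsg.SU n F q) : Matrix.SpecialLinearGroup (Fin n) F) : Matrix (Fin n) (Fin n) F) =
      ((g : Matrix.SpecialLinearGroup (Fin n) F) : Matrix (Fin n) (Fin n) F) ^ k := by
  rw [SubmonoidClass.coe_pow, Matrix.SpecialLinearGroup.coe_pow]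

include hF in
theorem psu_pow_eq_one_iff (hn : 0 < n) (g : Cfsg.SU n F q) (k : ℕ) :
    (π g : Cfsg.PSU n F q) ^ k = 1 ↔
      ∃ c : F, ((g : Matrix.SpecialLinearGroup (Fin n) F) : Matrix (Fin n) (Fin n) F) ^ k = c • 1 := by
  rw [← map_pow, QuotientGroup.mk'_apply, QuotientGroup.eq_one_iff, ← coe_pow_SU]
  constructor
  · intro hz
    refine ⟨(((g ^ k : Cfsg.SU n F q) : Matrix.SpecialLinearGroup (Fin n) F) : Matrix (Fin n) (Fin n) F) ⟨0, hn⟩ ⟨0, hn⟩, ?_⟩
    ext i j
    by_cases hij : i = j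
    · subst hij
      by_cases hi : i = ⟨0, hn⟩
      · subst hi; simp
      · have := (Forms.center_SU_diagonal hF _ hz i ⟨0, hn⟩ hi).2
        rw [Matrix.smul_apply, Matrix.one_apply_eq, smul_eq_mul, mul_one, this]
    · rw [Matrix.smul_apply, Matrix.one_apply_ne hij, smul_zero]
      exact (Forms.center_SU_diagonal hF _ hz i j hij).1
  · rintro ⟨c, hc⟩
    refine Subgroup.mem_center_iff.2 fun x => Subtype.ext (Subtype.ext ?_)
    rw [Subgroup.coe_mul, Subgroup.coe_mul, Matrix.SpecialLinearGroup.coe_mul,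
      Matrix.SpecialLinearGroup.coe_mul, hc]
    simp

/-- `N` divides the order of an element whose order is a multiple of `r`. -/
def Good (F : Type*) [Field F] (n q r N : ℕ) : Prop :=
  ∃ y : Cfsg.PSU n F q, N ∣ orderOf y ∧ r ∣ orderOf y

omit [Fintype F] in
theorem Good.mono {N N' : ℕ} (h : Good F n q r N') (hd : N ∣ N') : Good F n q r N :=
  let ⟨y, h1, h2⟩ := h
  ⟨y, hd.trans h1, h2⟩

include hF in
theorem good_of_commute (hn : 0 < n) (hr : r.Prime) (g R : Cfsg.SU n F q) (hc : Commute g R) (hR : R ^ r = 1)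
    (hns : ∀ c : F, ((R : Matrix.SpecialLinearGroup (Fin n) F) : Matrix (Fin n) (Fin n) F) ≠ c • 1) :
    Good F n q r (orderOf (π g)) := by
  have := Fact.mk hr
  by_cases hd : r ∣ orderOf (π g)
  · exact ⟨π g, dvd_rfl, hd⟩
  have hoR : orderOf (π R) = r := by
    refine orderOf_eq_prime (by rw [← map_pow, hR, map_one]) fun h => ?_
    obtain ⟨c, hc'⟩ := (psu_pow_eq_one_iff hF hn R 1).1 (by rw [pow_one, h])
    exact hns c (by rwa [pow_one] at hc')
  refine ⟨π g * π R, ?_, ?_⟩ <;>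
    rw [(hc.map (π)).orderOf_mul_eq_mul_orderOf_of_coprime
      (by rw [hoR]; exact (hr.coprime_iff_not_dvd.2 hd).symm), hoR]
  · exact dvd_mul_right _ _
  · exact dvd_mul_left _ _

include hF in
/-- The two eigenvalues of the commuting element. -/
theorem exists_pair (hr : r.Prime) (hrq : r ∣ q + 1) (hrn : ¬ r ∣ n) {d₁ d₂ : ℕ} (h : d₁ + d₂ = n) :
    ∃ a b : F, a * qEnd hF a = 1 ∧ b * qEnd hF b = 1 ∧ a ^ r = 1 ∧ b ^ r = 1 ∧ a ^ d₁ * b ^ d₂ = 1 ∧ a ≠ b := by
  have := Fact.mk hr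
  obtain ⟨z, hz⟩ := exists_prime_orderOf_dvd_card' (G := Fˣ) r
    (by rw [Forms.units_card hF]; exact hrq.mul_right _)
  have hzr : z ^ r = 1 := hz ▸ pow_orderOf_eq_one z
  have hzq : z ^ (q + 1) = 1 := orderOf_dvd_iff_pow_eq_one.1 (hz ▸ hrq)
  have key : ∀ u : Fˣ, u ^ (q + 1) = 1 → (u : F) * qEnd hF (u : F) = 1 := fun u hu => by
    rw [qEnd_apply, ← pow_succ', ← Units.val_pow_eq_pow_val, hu, Units.val_one]
  refine ⟨((z ^ d₂ : Fˣ) : F), (((z ^ d₁)⁻¹ : Fˣ) : F), key _ ?_, key _ ?_, ?_, ?_, ?_, ?_⟩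
  · rw [pow_right_comm, hzq, one_pow]
  · rw [inv_pow, pow_right_comm, hzq, one_pow, inv_one]
  · rw [← Units.val_pow_eq_pow_val, pow_right_comm, hzr, one_pow, Units.val_one]
  · rw [← Units.val_pow_eq_pow_val, inv_pow, pow_right_comm, hzr, one_pow, inv_one, Units.val_one]
  · rw [← Units.val_pow_eq_pow_val, ← Units.val_pow_eq_pow_val, ← Units.val_mul, inv_pow, ← pow_mul,
      ← pow_mul, mul_comm d₁, mul_inv_cancel, Units.val_one]
  · intro he
    rw [Units.val_inj, eq_inv_iff_mul_eq_one, ← pow_add, add_comm, h, ← orderOf_dvd_iff_pow_eq_one, hz] at he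
    exact hrn he

include hF in
theorem good_twoBlock (hn : 0 < n) (hr : r.Prime) (hrq : r ∣ q + 1) (hrn : ¬ r ∣ n) {d₁ d₂ : ℕ}
    (h : d₁ + d₂ = n) (h₁ : 0 < d₁) (h₂ : 0 < d₂) (A₁ : Matrix (Fin d₁) (Fin d₁) F)
    (A₂ : Matrix (Fin d₂) (Fin d₂) F) (hd₁ : A₁.det = 1) (hd₂ : A₂.det = 1)
    (hp₁ : Preserves (hermForm d₁ F q) A₁) (hp₂ : Preserves (hermForm d₂ F q) A₂) (k : ℕ)
    (hk : ∀ N (c : F), A₁ ^ N = c • 1 → A₂ ^ N = c • 1 → k ∣ N) : Good F n q r k := by
  obtain ⟨a, b, ha, hb, har, hbr, hab, hne⟩ := exists_pair hF hr hrq hrn h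
  have hsm : ∀ (d : ℕ) (s : F), s * qEnd hF s = 1 →
      Preserves (hermForm d F q) (s • (1 : Matrix (Fin d) (Fin d) F)) := fun d s hs u v => by
    have hh := isReflexiveSesq_hermForm hF d
    rw [Matrix.smul_mulVec, Matrix.smul_mulVec, Matrix.one_mulVec, Matrix.one_mulVec, hh.smul_left,
      hh.smul_right, ← mul_assoc, hs, one_mul]
  let g := mkSU (q := q) (twoBlock h (A₁, A₂)) (by rw [det_twoBlock, hd₁, hd₂, one_mul])
    (preserves_twoBlock hF h hp₁ hp₂)
  let R := mkSU (q := q) (twoBlock h (a • 1, b • 1)) (by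
    rw [det_twoBlock, det_smul, det_smul, det_one, det_one, mul_one, mul_one, Fintype.card_fin,
      Fintype.card_fin, hab]) (preserves_twoBlock hF h (hsm _ a ha) (hsm _ b hb))
  refine (good_of_commute hF hn hr g R ?_ ?_ ?_).mono ?_
  · refine Subtype.ext (Subtype.ext ?_)
    change twoBlock h (A₁, A₂) * twoBlock h (a • 1, b • 1) = twoBlock h (a • 1, b • 1) * twoBlock h (A₁, A₂)
    rw [← map_mul, ← map_mul]
    simp
  · refine Subtype.ext (Subtype.ext ?_)
    rw [coe_pow_SU]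
    change twoBlock h (a • 1, b • 1) ^ r = 1
    rw [← map_pow, Prod.pow_mk, _root_.smul_pow, _root_.smul_pow, one_pow, one_pow, har, hbr, one_smul, one_smul]
    exact map_one _
  · intro c hc
    obtain ⟨e1, e2⟩ := (twoBlock_eq_smul_one h _ c).1 hc
    have e1' := congrFun (congrFun e1 ⟨0, h₁⟩) ⟨0, h₁⟩
    have e2' := congrFun (congrFun e2 ⟨0, h₂⟩) ⟨0, h₂⟩
    simp at e1' e2'
    exact hne (e1'.trans e2'.symm)
  · obtain ⟨c, hc⟩ := (psu_pow_eq_one_iff hF hn g _).1 (pow_orderOf_eq_one (π g))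
    have hc' : twoBlock h (A₁, A₂) ^ orderOf (π g) = c • 1 := hc
    rw [← map_pow] at hc'
    obtain ⟨e1, e2⟩ := (twoBlock_eq_smul_one h _ c).1 hc'
    exact hk _ c e1 e2

/-- The index of the large torus before dividing by the centre. -/
def torusIndex (q n : ℕ) : ℕ := if Even n then evenIndex q (n / 2) else oddIndex q n

/-- The exponent of the large torus of `PSU n q`. -/
def torusOrder (q n : ℕ) : ℕ := torusIndex q n / Nat.gcd (torusIndex q n) (q + 1)

theorem torusOrder_dvd_iff (q n k : ℕ) : torusOrder q n ∣ k ↔ torusIndex q n ∣ k * (q + 1) := by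
  obtain ⟨g, a, b, hg, hab, ha, hb⟩ := Nat.exists_coprime' (m := torusIndex q n) (n := q + 1)
    (Nat.gcd_pos_of_pos_right _ (Nat.succ_pos q))
  have hgcd : Nat.gcd (torusIndex q n) (q + 1) = g := by
    rw [ha, hb, Nat.gcd_mul_right, hab.gcd_eq_one, one_mul]
  rw [torusOrder, hgcd, ha, hb, Nat.mul_div_cancel _ hg, ← mul_assoc, Nat.mul_dvd_mul_iff_right hg]
  exact ⟨fun h => h.mul_right b, hab.dvd_of_dvd_mul_right⟩

include hF in
theorem torusOrder_pos (hn : 0 < n) : 0 < torusOrder q n := by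
  have hq := one_lt_q hF
  refine Nat.div_pos (Nat.le_of_dvd ?_ (Nat.gcd_dvd_left _ _)) (Nat.gcd_pos_of_pos_right _ (Nat.succ_pos q))
  unfold torusIndex
  split_ifs with he
  · refine Nat.pos_of_ne_zero fun h0 => ?_
    have h1 := evenIndex_mul q (n / 2)
    rw [h0, zero_mul] at h1
    have := Nat.one_lt_pow (show 2 * (n / 2) ≠ 0 by obtain ⟨t, ht⟩ := he; omega) hq
    omega
  · refine Nat.pos_of_ne_zero fun h0 => ?_
    have h1 := oddIndex_mul q (Nat.not_even_iff_odd.1 he)
    rw [h0, zero_mul] at h1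
    omega

variable (p : ℕ) [Fact p.Prime] [CharP F p]

include hF in
theorem p_dvd_q : p ∣ q := by
  have h : p ∣ Fintype.card F := (CharP.cast_eq_zero_iff F p _).1 (Nat.cast_card_eq_zero F)
  rw [hF] at h
  exact (Fact.out : p.Prime).dvd_of_dvd_pow h

include hF in
theorem oddIndex_coprime {d : ℕ} (hd : Odd d) : Nat.Coprime (oddIndex q d) p := by
  refine Nat.Coprime.coprime_dvd_left ⟨_, (oddIndex_mul q hd).symm⟩ ?_
  rw [Nat.coprime_comm, (Fact.out : p.Prime).coprime_iff_not_dvd]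
  intro h
  exact (Fact.out : p.Prime).ne_one (Nat.dvd_one.1 ((Nat.dvd_add_right (dvd_pow (p_dvd_q hF p) hd.pos.ne')).1 h))

include hF in
theorem evenIndex_coprime {d : ℕ} (hd : 0 < d) : Nat.Coprime (evenIndex q d) p := by
  have hq := one_lt_q hF
  refine Nat.Coprime.coprime_dvd_left ⟨_, (evenIndex_mul q d).symm⟩ ?_
  rw [Nat.coprime_comm, (Fact.out : p.Prime).coprime_iff_not_dvd]
  intro h
  have := Nat.dvd_sub (dvd_pow (p_dvd_q hF p) (show 2 * d ≠ 0 by omega)) h
  rw [Nat.sub_sub_self (Nat.one_le_pow _ _ (by omega)), Nat.dvd_one] at this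
  exact (Fact.out : p.Prime).ne_one this

include hF in
/-- `f = f*` of full degree: the root lies in the norm one part. -/
theorem root_oddIndex (A : Matrix (Fin n) (Fin n) F) (hdet : A.det = 1) {f : F[X]} (hfm : f.Monic)
    (hf : Irreducible f) (hfn : f.natDegree = n) (hfA : f ∣ A.charpoly) (hodd : Odd n)
    (hpow : AdjoinRoot.root f ^ (q ^ n + 1) = 1) : AdjoinRoot.root f ^ oddIndex q n = 1 := by
  have h1 := root_pow_normIndex_of_det A hdet hfm hf hfn hfA
  rw [hF, normIndex_sq (one_lt_q hF) hodd, pow_mul] at h1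
  rw [← oddIndex_mul q hodd, pow_mul] at hpow
  have hcop : Nat.Coprime (normIndex q n) (q + 1) := by
    rw [Nat.coprime_iff_gcd_eq_one, ← Nat.dvd_one]
    have hg := Nat.gcd_dvd_left (normIndex q n) (q + 1)
    have hg2 := Nat.gcd_dvd_right (normIndex q n) (q + 1)
    set G := Nat.gcd (normIndex q n) (q + 1)
    rw [normIndex, ← Nat.geomSum_eq (one_lt_q hF)] at hg
    have hz : ((q + 1 : ℕ) : ZMod G) = 0 := (ZMod.natCast_eq_zero_iff _ _).2 hg2
    have hq : (q : ZMod G) = -1 := by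
      push_cast at hz
      linear_combination hz
    rw [← ZMod.natCast_eq_zero_iff] at hg ⊢
    push_cast at hg
    rw [hq, neg_one_geom_sum, if_neg (Nat.not_even_iff_odd.2 hodd)] at hg
    exact_mod_cast hg
  have := pow_gcd_eq_one.2 ⟨h1, hpow⟩
  rwa [hcop.gcd_eq_one, pow_one] at this

include hF in
/-- `f ≠ f*` of half degree: the root lies in the determinant one part. -/
theorem root_evenIndex (A : Matrix (Fin n) (Fin n) F) (hdet : A.det = 1) {f : F[X]} (hfm : f.Monic)
    (hf : Irreducible f) (hf0 : f.coeff 0 ≠ 0) (hfn : 2 * f.natDegree = n)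
    (hfA : f * conjRev (qEnd hF) f ∣ A.charpoly) :
    AdjoinRoot.root f ^ evenIndex q f.natDegree = 1 := by
  have := Fact.mk hf
  have hq := one_lt_q hF
  have : Finite (AdjoinRoot f) :=
    Nat.finite_of_card_ne_zero (by rw [natCard_adjoinRoot hfm]; exact pow_ne_zero _ Fintype.card_ne_zero)
  set d := f.natDegree with hd
  set g := conjRev (qEnd hF) f with hg
  have hgd : g.natDegree = d := natDegree_conjRev _ hf0
  have hg0 : g ≠ 0 := fun h => by
    have := hf.natDegree_pos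
    rw [h, natDegree_zero] at hgd
    omega
  obtain ⟨w, hw⟩ := hfA
  have hw0 : w ≠ 0 := right_ne_zero_of_mul (hw ▸ (Matrix.charpoly_monic A).ne_zero)
  have hwd : w.natDegree = 0 := by
    have := congrArg natDegree hw
    rw [Matrix.charpoly_natDegree_eq_dim, Fintype.card_fin, natDegree_mul (mul_ne_zero hf.ne_zero hg0) hw0,
      natDegree_mul hf.ne_zero hg0, hgd, ← hd] at this
    omega
  have hlead : qEnd hF (f.coeff 0) * w.coeff 0 = 1 := by
    have := congrArg leadingCoeff hw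
    rw [(Matrix.charpoly_monic A).leadingCoeff, leadingCoeff_mul, leadingCoeff_mul, hfm.leadingCoeff,
      one_mul, hg, conjRev, reverse_leadingCoeff, trailingCoeff,
      natTrailingDegree_eq_zero.2 (Or.inr (by rw [coeff_map]; exact (_root_.map_ne_zero _).2 hf0)), coeff_map,
      leadingCoeff, hwd] at this
    exact this.symm
  have hconst : f.coeff 0 * w.coeff 0 = 1 := by
    have := Matrix.det_eq_sign_charpoly_coeff A
    rw [hdet, hw, mul_coeff_zero, mul_coeff_zero, hg, coeff_zero_conjRev, hfm.leadingCoeff, map_one, mul_one,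
      Fintype.card_fin, ← hfn, pow_mul, neg_one_sq, one_pow, one_mul] at this
    exact this.symm
  have hfix : qEnd hF (f.coeff 0) = f.coeff 0 :=
    mul_right_cancel₀ (right_ne_zero_of_mul_eq_one hconst) (hlead.trans hconst.symm)
  have h2 : Algebra.norm F (AdjoinRoot.root f) = (-1) ^ d * f.coeff 0 := by
    have := Algebra.PowerBasis.norm_gen_eq_coeff_zero_minpoly (AdjoinRoot.powerBasis hf.ne_zero)
    rwa [AdjoinRoot.powerBasis_gen, AdjoinRoot.powerBasis_dim, AdjoinRoot.minpoly_root hf.ne_zero,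
      hfm.leadingCoeff, inv_one, map_one, mul_one, ← hd] at this
  set y := ((-1 : F) ^ d * f.coeff 0) with hy
  have hy0 : y ≠ 0 := mul_ne_zero (pow_ne_zero _ (neg_ne_zero.2 one_ne_zero)) hf0
  have hyq : y ^ q = y := by
    rw [← qEnd_apply hF, hy, map_mul, map_pow, map_neg, map_one, hfix]
  have hy1 : y ^ (q - 1) = 1 := by
    refine mul_right_cancel₀ hy0 ?_
    rw [← pow_succ, Nat.sub_add_cancel hq.le, hyq, one_mul]
  have h3 := FiniteField.algebraMap_norm_eq_pow (K := F) (x := AdjoinRoot.root f)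
  rw [h2, natCard_adjoinRoot hfm, ← Fintype.card_eq_nat_card, ← hd] at h3
  have e : evenIndex q d = normIndex (Fintype.card F) d * (q - 1) := by
    refine Nat.eq_of_mul_eq_mul_right (Nat.succ_pos q) ?_
    rw [Nat.succ_eq_add_one, evenIndex_mul, mul_assoc, mul_comm (q - 1), ← Nat.sq_sub_sq, one_pow, hF,
      normIndex_mul, ← pow_mul]
  rw [e, pow_mul, show AdjoinRoot.root f ^ normIndex (Fintype.card F) d = algebraMap F _ y from h3.symm,
    ← map_pow, hy1, map_one]

include hF in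
theorem classify (hn : 0 < n) (hr : r.Prime) (hrq : r ∣ q + 1) (hrn : ¬ r ∣ n) (g : Cfsg.SU n F q) :
    Good F n q r (orderOf (π g)) ∨ orderOf (π g) ∣ p ^ Nat.clog p n ∨ orderOf (π g) ∣ torusOrder q n := by
  have : Nonempty (Fin n) := ⟨⟨0, hn⟩⟩
  have hh := isReflexiveSesq_hermForm hF n
  have hdet : ((g : Matrix.SpecialLinearGroup (Fin n) F) : Matrix (Fin n) (Fin n) F).det = 1 :=
    (g : Matrix.SpecialLinearGroup (Fin n) F).2
  set A : Matrix (Fin n) (Fin n) F := ((g : Matrix.SpecialLinearGroup (Fin n) F) : Matrix (Fin n) (Fin n) F)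
    with hA
  have hp := (Fact.out : p.Prime).one_lt
  have hord : ∀ k, (∃ c : F, A ^ k = c • 1) → orderOf (π g) ∣ k := fun k hk =>
    orderOf_dvd_of_pow_eq_one ((psu_pow_eq_one_iff hF hn g k).2 hk)
  rcases isometry_cases hh (pres_of_mem g) (by rw [← hA, hdet]; exact one_ne_zero) with
    ⟨d₁, d₂, h₁, h₂, h, hR⟩ | ⟨f, m, hfm, hf, hf0, hm, hfA, hcase⟩
  · left
    rw [Fintype.card_fin] at h
    obtain ⟨a, b, ha, hb, har, hbr, hab, hne⟩ := exists_pair hF hr hrq hrn h
    obtain ⟨R, hRA, hRp, hRdet, hRns, hRpow⟩ := hR a b ha hb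
    exact good_of_commute hF hn hr g (mkSU R (hRdet.trans hab) hRp) (Subtype.ext (Subtype.ext hRA.symm))
      (Subtype.ext (Subtype.ext (by rw [coe_pow_SU]; exact hRpow r har hbr))) fun c hc => hne (hRns c hc)
  have hroot : AdjoinRoot.root f ≠ 0 :=
    root_ne_zero_of_dvd_charpoly (Matrix.SpecialLinearGroup.toGL (g : Matrix.SpecialLinearGroup (Fin n) F)) hf hfA
  have hd0 := hf.natDegree_pos
  rw [Fintype.card_fin] at hcase
  rcases hcase with ⟨hself, hμ, hdm⟩ | ⟨hco, hμ, hχ, hdm⟩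
  · obtain ⟨hodd, hpow⟩ := root_pow_of_self_conj hF hfm hf hf0 hself
    have hdle : f.natDegree ≤ n := (Nat.le_mul_of_pos_right _ hm).trans hdm
    rcases Nat.lt_or_ge 1 f.natDegree with hd1 | hd1
    swap
    · right; left
      refine hord _ ?_
      have := unitary_pow_eq_scalar hF hh hf (L := 1) (e := Nat.clog p n) (m := m) (p := p) one_pos
        (((Nat.le_mul_of_pos_left m hd0).trans hdm).trans (Nat.le_pow_clog hp n)) (Or.inl hμ) (by
          rw [show f.natDegree = 1 by omega, pow_one] at hpow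
          rwa [one_mul])
      rwa [one_mul] at this
    rcases Nat.lt_or_ge f.natDegree n with hdn | hdn
    · left
      have hs : 0 < n - f.natDegree := by omega
      have hms : m ≤ n - f.natDegree := by
        rcases Nat.lt_or_ge m 2 with h | h
        · omega
        · have : f.natDegree + m ≤ f.natDegree * m := Nat.add_le_mul hd1 h
          omega
      obtain ⟨Z, hZd, hZp, hZpow, -⟩ := exists_odd_torus hF hodd
      obtain ⟨J, hJd, hJp, hJ⟩ := exists_unitary_jordan hF p hs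
      refine (good_twoBlock hF hn hr hrq hrn (show f.natDegree + (n - f.natDegree) = n by omega) hd0 hs Z J
        hZd hJd hZp hJp (oddIndex q f.natDegree * p ^ Nat.clog p (n - f.natDegree)) ?_).mono ?_
      · intro N c h1 h2
        obtain ⟨rfl, h3⟩ := hJ N c h2
        rw [one_smul] at h1
        exact ((oddIndex_coprime hF p hodd).pow_right _).mul_dvd_of_dvd_of_dvd ((hZpow N).1 h1) h3
      · refine hord _ (unitary_pow_eq_scalar hF hh hf ?_ (hms.trans (Nat.le_pow_clog hp _)) (Or.inl hμ) ?_)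
        · exact Nat.pos_of_mul_pos_right (b := q + 1) (by rw [oddIndex_mul q hodd]; exact Nat.succ_pos _)
        · rw [oddIndex_mul q hodd]
          exact hpow
    · right; right
      have hdn' : f.natDegree = n := le_antisymm hdle hdn
      have hm1 : m = 1 := by
        rw [hdn'] at hdm
        by_contra h
        have := Nat.mul_le_mul_left n (show 2 ≤ m by omega)
        omega
      refine hord _ ?_
      have := unitary_pow_eq_scalar hF hh hf (L := torusOrder q n) (e := 0) (m := m) (p := p)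
        (torusOrder_pos hF hn) (by rw [hm1, pow_zero]) (Or.inl hμ) ?_
      · rwa [pow_zero, mul_one] at this
      · obtain ⟨u, hu⟩ := (torusOrder_dvd_iff q n _).1 (dvd_refl (torusOrder q n))
        rw [hdn'] at hodd hpow
        rw [hu, torusIndex, if_neg (Nat.not_even_iff_odd.2 hodd), pow_mul,
          root_oddIndex hF A hdet hfm hf hdn' hfA hodd hpow, one_pow]
  · have hh2 : 2 * f.natDegree ≤ n := (Nat.le_mul_of_pos_right _ hm).trans hdm
    rcases Nat.lt_or_ge (2 * f.natDegree) n with hdn | hdn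
    · left
      have hs : 0 < n - 2 * f.natDegree := by omega
      have hms : m ≤ n - 2 * f.natDegree := by
        rcases Nat.lt_or_ge m 2 with h | h
        · omega
        · have : 2 * f.natDegree + m ≤ 2 * f.natDegree * m := Nat.add_le_mul (by omega) h
          omega
      obtain ⟨Z, hZd, hZp, hZpow, -⟩ := exists_even_torus hF hd0
      obtain ⟨J, hJd, hJp, hJ⟩ := exists_unitary_jordan hF p hs
      refine (good_twoBlock hF hn hr hrq hrn (show 2 * f.natDegree + (n - 2 * f.natDegree) = n by omega)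
        (by omega) hs Z J hZd hJd hZp hJp
        (evenIndex q f.natDegree * p ^ Nat.clog p (n - 2 * f.natDegree)) ?_).mono ?_
      · intro N c h1 h2
        obtain ⟨rfl, h3⟩ := hJ N c h2
        rw [one_smul] at h1
        exact ((evenIndex_coprime hF p hd0).pow_right _).mul_dvd_of_dvd_of_dvd ((hZpow N).1 h1) h3
      · refine hord _ (unitary_pow_eq_scalar hF hh hf ?_ (hms.trans (Nat.le_pow_clog hp _)) (Or.inr ⟨hco, hμ⟩)
          (root_pow_evenIndex_mul hF hfm hf hroot))
        refine Nat.pos_of_mul_pos_right (b := q + 1) ?_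
        rw [evenIndex_mul]
        have := Nat.one_lt_pow (show 2 * f.natDegree ≠ 0 by omega) (one_lt_q hF)
        omega
    · right; right
      have hdn' : 2 * f.natDegree = n := le_antisymm hh2 hdn
      have hm1 : m = 1 := by
        rw [hdn'] at hdm
        by_contra h
        have := Nat.mul_le_mul_left n (show 2 ≤ m by omega)
        omega
      refine hord _ ?_
      have := unitary_pow_eq_scalar hF hh hf (L := torusOrder q n) (e := 0) (m := m) (p := p)
        (torusOrder_pos hF hn) (by rw [hm1, pow_zero]) (Or.inr ⟨hco, hμ⟩) ?_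
      · rwa [pow_zero, mul_one] at this
      · obtain ⟨u, hu⟩ := (torusOrder_dvd_iff q n _).1 (dvd_refl (torusOrder q n))
        rw [hm1, pow_one] at hχ
        rw [hu, torusIndex, if_pos (hdn' ▸ even_two_mul f.natDegree), pow_mul,
          show n / 2 = f.natDegree by omega, root_evenIndex hF A hdet hfm hf hf0 hdn' hχ, one_pow]

include hF in
theorem exists_torus (hn : 0 < n) : ∃ y : Cfsg.PSU n F q, torusOrder q n ∣ orderOf y := by
  rcases Nat.even_or_odd n with he | ho
  · obtain ⟨d, rfl⟩ := he.two_dvd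
    obtain ⟨Z, hdet, hp, -, hZ⟩ := exists_even_torus hF (d := d) (by omega)
    let g := mkSU (q := q) Z hdet hp
    refine ⟨QuotientGroup.mk' _ g, ?_⟩
    obtain ⟨c, hc⟩ := (psu_pow_eq_one_iff hF hn g _).1 (pow_orderOf_eq_one _)
    rw [torusOrder_dvd_iff, torusIndex, if_pos he, Nat.mul_div_cancel_left d two_pos]
    exact hZ _ c hc
  · obtain ⟨Z, hdet, hp, -, hZ⟩ := exists_odd_torus hF ho
    let g := mkSU (q := q) Z hdet hp
    refine ⟨QuotientGroup.mk' _ g, ?_⟩
    obtain ⟨c, hc⟩ := (psu_pow_eq_one_iff hF hn g _).1 (pow_orderOf_eq_one _)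
    have hc' : Z ^ orderOf (QuotientGroup.mk' (Subgroup.center (Cfsg.SU n F q)) g) = c • 1 := hc
    rw [torusOrder_dvd_iff, torusIndex, if_neg (Nat.not_even_iff_odd.2 ho)]
    exact hZ _ c hc' (scalar_norm_one hF hn (hc' ▸ hp.pow _))

include hF in
theorem exists_unipotent (hn : 0 < n) : ∃ y : Cfsg.PSU n F q, p ^ Nat.clog p n ∣ orderOf y := by
  obtain ⟨J, hdet, hp, hJ⟩ := exists_unitary_jordan hF p hn
  let g := mkSU (q := q) J hdet hp
  refine ⟨π g, ?_⟩
  obtain ⟨c, hc⟩ := (psu_pow_eq_one_iff hF hn g _).1 (pow_orderOf_eq_one (π g))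
  exact (hJ _ c hc).2

include hF in
theorem good_unipotent (hr : r.Prime) (hrq : r ∣ q + 1) (hrn : ¬ r ∣ n) (hn : 2 ≤ n)
    (h : ¬ ∃ j : ℕ, n - 1 = p ^ j) : Good F n q r (p ^ Nat.clog p n) := by
  obtain ⟨J, hJdet, hJp, hJ⟩ := exists_unitary_jordan hF p (show 0 < n - 1 by omega)
  have hp := (Fact.out : p.Prime).one_lt
  have hle : Nat.clog p n ≤ Nat.clog p (n - 1) := by
    have h1 := Nat.le_pow_clog hp (n - 1)
    refine Nat.clog_le_of_le_pow ?_
    by_contra h2
    exact h ⟨Nat.clog p (n - 1), by omega⟩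
  exact good_twoBlock hF (by omega) hr hrq hrn (show 1 + (n - 1) = n by omega) one_pos (by omega) 1 J
    det_one hJdet (fun u v => by rw [Matrix.one_mulVec, Matrix.one_mulVec]) hJp _
    fun N c _ h2 => (pow_dvd_pow p hle).trans (hJ N c h2).2

include hF in
theorem good_one (hr : r.Prime) (hrq : r ∣ q + 1) (hrn : ¬ r ∣ n) (hn : 2 ≤ n) : Good F n q r 1 :=
  good_twoBlock hF (by omega) hr hrq hrn (show 1 + (n - 1) = n by omega) one_pos (by omega) 1 1
    det_one det_one (fun u v => by rw [Matrix.one_mulVec, Matrix.one_mulVec])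
    (fun u v => by rw [Matrix.one_mulVec, Matrix.one_mulVec]) 1 fun _ _ _ _ => one_dvd _

/-- Adding a direct factor does not change the orders. -/
theorem range_eq {G H : Type*} [Group G] [Finite G] [Group H]
    (f : G → H) (hf : ∀ x, orderOf (f x) = orderOf x)
    (h : ∀ z : H, ∃ y : G, orderOf z ∣ orderOf y) :
    Set.range (orderOf : H → ℕ) = Set.range (orderOf : G → ℕ) := by
  refine Set.Subset.antisymm ?_ ?_
  · rintro _ ⟨z, rfl⟩
    obtain ⟨y, hy⟩ := h z
    exact ⟨y ^ (orderOf y / orderOf z), orderOf_pow_orderOf_div (orderOf_pos y).ne' hy⟩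
  · rintro _ ⟨x, rfl⟩
    exact ⟨f x, hf x⟩

theorem orderOf_dvd_prime {m : ℕ} (e : Multiplicative (Fin m → ZMod r)) : orderOf e ∣ r := by
  refine orderOf_dvd_of_pow_eq_one ?_
  apply Multiplicative.toAdd.injective
  rw [toAdd_pow, toAdd_one]
  funext i
  simp

/-- Let F be a finite field with q² elements, q = p^a, n ≥ 3 with (n, q) ≠ (3, 2), L = PSU(n, q) realised over F, and let r be a prime dividing q + 1 and not dividing n. Then for every m the direct product L × L × L × (ℤ/r)^m has the same set of element orders as L × L × L; and if n − 1 is not a power of p, then already L × L × (ℤ/r)^m has the same set of element orders as L × L. -/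
theorem result {F : Type*} [Field F] [Fintype F] (p a n q r m : ℕ) (hp : p.Prime) (ha : 1 ≤ a) (hq : q = p ^ a) (hF : Fintype.card F = q ^ 2)
    (hn : 3 ≤ n) (hn3 : ¬ (n = 3 ∧ q = 2)) (hr : r.Prime) (hrq : r ∣ q + 1) (hrn : ¬ r ∣ n) :
    Set.range (orderOf : Cfsg.PSU n F q × Cfsg.PSU n F q × Cfsg.PSU n F q × Multiplicative (Fin m → ZMod r) → ℕ) = Set.range (orderOf : Cfsg.PSU n F q × Cfsg.PSU n F q × Cfsg.PSU n F q → ℕ) ∧
    ((¬ ∃ j : ℕ, n - 1 = p ^ j) →
      Set.range (orderOf : Cfsg.PSU n F q × Cfsg.PSU n F q × Multiplicative (Fin m → ZMod r) → ℕ) = Set.range (orderOf : Cfsg.PSU n F q × Cfsg.PSU n F q → ℕ)) := by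
  classical
  have : Fact p.Prime := ⟨hp⟩
  have : CharP F p := charP_of_card_eq_prime_pow (f := a * 2) (by rw [hF, hq, ← pow_mul])
  obtain ⟨zM, hzM⟩ := exists_torus hF (n := n) (by omega)
  obtain ⟨zP, hzP⟩ := exists_unipotent hF (n := n) p (by omega)
  obtain ⟨y₁, -, hy₁⟩ := good_one hF hr hrq hrn (by omega : 2 ≤ n)
  have cl : ∀ x : Cfsg.PSU n F q, Good F n q r (orderOf x) ∨
      orderOf x ∣ p ^ Nat.clog p n ∨ orderOf x ∣ torusOrder q n := by
    intro x
    obtain ⟨g, rfl⟩ := QuotientGroup.mk'_surjective _ x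
    exact classify hF p (by omega) hr hrq hrn g
  constructor
  · refine range_eq (fun x => (x.1, x.2.1, x.2.2, 1)) (fun x => by
      simp [Prod.orderOf, orderOf_one, Nat.lcm_one_right]) ?_
    rintro ⟨a, b, c, e⟩
    suffices h : ∃ u v w : Cfsg.PSU n F q,
        ∀ N, orderOf u ∣ N → orderOf v ∣ N → orderOf w ∣ N →
          orderOf a ∣ N ∧ orderOf b ∣ N ∧ orderOf c ∣ N ∧ r ∣ N by
      obtain ⟨u, v, w, h⟩ := h
      obtain ⟨h1, h2, h3, h4⟩ := h (orderOf (u, v, w))
        (by rw [Prod.orderOf]; exact Nat.dvd_lcm_left _ _)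
        (by rw [Prod.orderOf, Prod.orderOf]; exact (Nat.dvd_lcm_left _ _).trans (Nat.dvd_lcm_right _ _))
        (by rw [Prod.orderOf, Prod.orderOf]; exact (Nat.dvd_lcm_right _ _).trans (Nat.dvd_lcm_right _ _))
      refine ⟨(u, v, w), ?_⟩
      rw [Prod.orderOf, Prod.orderOf (x := (b, c, e)), Prod.orderOf (x := (c, e))]
      exact Nat.lcm_dvd h1 (Nat.lcm_dvd h2 (Nat.lcm_dvd h3 ((orderOf_dvd_prime e).trans h4)))
    rcases cl a with ⟨y, hy1, hy2⟩ | ha
    · exact ⟨y, b, c, fun N h1 h2 h3 => ⟨hy1.trans h1, h2, h3, hy2.trans h1⟩⟩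
    rcases cl b with ⟨y, hy1, hy2⟩ | hb
    · exact ⟨a, y, c, fun N h1 h2 h3 => ⟨h1, hy1.trans h2, h3, hy2.trans h2⟩⟩
    rcases cl c with ⟨y, hy1, hy2⟩ | hc
    · exact ⟨a, b, y, fun N h1 h2 h3 => ⟨h1, h2, hy1.trans h3, hy2.trans h3⟩⟩
    refine ⟨zM, zP, y₁, fun N h1 h2 h3 => ?_⟩
    have key : ∀ {k : ℕ}, k ∣ p ^ Nat.clog p n ∨ k ∣ torusOrder q n → k ∣ N := by
      rintro k (h | h)
      · exact h.trans (hzP.trans h2)
      · exact h.trans (hzM.trans h1)
    exact ⟨key ha, key hb, key hc, hy₁.trans h3⟩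
  · intro hnp
    have cl2 : ∀ x : Cfsg.PSU n F q, Good F n q r (orderOf x) ∨
        orderOf x ∣ torusOrder q n := by
      intro x
      rcases cl x with h | h | h
      · exact Or.inl h
      · exact Or.inl ((good_unipotent hF p hr hrq hrn (by omega) hnp).mono h)
      · exact Or.inr h
    refine range_eq (fun x => (x.1, x.2, 1)) (fun x => by
      simp [Prod.orderOf, orderOf_one, Nat.lcm_one_right]) ?_
    rintro ⟨a, b, e⟩
    suffices h : ∃ u v : Cfsg.PSU n F q,
        ∀ N, orderOf u ∣ N → orderOf v ∣ N → orderOf a ∣ N ∧ orderOf b ∣ N ∧ r ∣ N by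
      obtain ⟨u, v, h⟩ := h
      obtain ⟨h1, h2, h4⟩ := h (orderOf (u, v))
        (by rw [Prod.orderOf]; exact Nat.dvd_lcm_left _ _)
        (by rw [Prod.orderOf]; exact Nat.dvd_lcm_right _ _)
      refine ⟨(u, v), ?_⟩
      rw [Prod.orderOf, Prod.orderOf (x := (b, e))]
      exact Nat.lcm_dvd h1 (Nat.lcm_dvd h2 ((orderOf_dvd_prime e).trans h4))
    rcases cl2 a with ⟨y, hy1, hy2⟩ | ha
    · exact ⟨y, b, fun N h1 h2 => ⟨hy1.trans h1, h2, hy2.trans h1⟩⟩
    rcases cl2 b with ⟨y, hy1, hy2⟩ | hb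
    · exact ⟨a, y, fun N h1 h2 => ⟨h1, hy1.trans h2, hy2.trans h2⟩⟩
    exact ⟨zM, y₁, fun N h1 h2 => ⟨ha.trans (hzM.trans h1), hb.trans (hzM.trans h1), hy₁.trans h2⟩⟩

end Cfsg.Agent.S2511
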