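import Cfsg.Statements.S2366
import Cfsg.Agent.Lib.Spectrum.PSU3Roots
import Cfsg.Agent.S2511

set_option autoImplicit false
open Cfsg

namespace Cfsg.Agent.S2366

open Matrix
open Cfsg.Agent.GL
open Cfsg.Agent.Forms (qEnd qEnd_apply qEnd_qEnd one_lt_q exists_prime_pow_q)

variable {F : Type*} [Field F] [Fintype F] {q : ℕ} (hF : Fintype.card F = q ^ 2)

include hF in
/-- An element whose scalar powers are multiples of `N` gives an order divisible by `N`. -/
theorem exists_order (A : Matrix (Fin 3) (Fin 3) F) (hdet : A.det = 1) (hA : Preserves (hermForm 3 F q) A) {N : ℕ}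
    (h : ∀ k (c : F), A ^ k = c • 1 → N ∣ k) :
    ∀ s, s ∣ N → ∃ x : Cfsg.PSU 3 F q, orderOf x = s := by
  intro s hs
  let g := S2511.mkSU (q := q) A hdet hA
  let y : Cfsg.PSU 3 F q := QuotientGroup.mk' (Subgroup.center (Cfsg.SU 3 F q)) g
  obtain ⟨c, hc⟩ := (S2511.psu_pow_eq_one_iff hF (by norm_num) g _).1 (pow_orderOf_eq_one y)
  exact ⟨y ^ (orderOf y / s), orderOf_pow_orderOf_div (orderOf_pos y).ne' (hs.trans (h _ c hc))⟩

/-- The hyperbolic Hermitian form. -/
def hypForm (q : ℕ) (u v : Fin 3 → F) : F := u 0 * v 2 ^ q + u 1 * v 1 ^ q + u 2 * v 0 ^ q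

include hF in
theorem isReflexiveSesq_hypForm : IsReflexiveSesq (qEnd hF) (hypForm (F := F) q) where
  invol := qEnd_qEnd hF
  add_left u u' v := by simp only [hypForm, Pi.add_apply]; ring
  smul_left c u v := by simp only [hypForm, Pi.smul_apply, smul_eq_mul]; ring
  add_right u v v' := by simp only [hypForm, Pi.add_apply, ← qEnd_apply hF, map_add]; ring
  smul_right c u v := by simp only [hypForm, Pi.smul_apply, smul_eq_mul, ← qEnd_apply hF, map_mul]; ring
  refl u v huv := by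
    have h := congrArg (qEnd hF) huv
    simp only [hypForm, ← qEnd_apply hF, map_add, map_mul, map_zero, qEnd_qEnd hF] at h ⊢
    rw [← h]; ring
  nondeg v hv := by
    have hq : q ≠ 0 := by have := one_lt_q hF; omega
    have h0 := hv (Pi.single 2 1)
    have h1 := hv (Pi.single 1 1)
    have h2 := hv (Pi.single 0 1)
    simp [hypForm, pow_eq_zero_iff hq] at h0 h1 h2
    funext i
    fin_cases i <;> assumption

include hF in
theorem exists_order_hyp (A : Matrix (Fin 3) (Fin 3) F) (hdet : A.det = 1) (hA : Preserves (hypForm q) A) {N : ℕ}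
    (h : ∀ k (c : F), A ^ k = c • 1 → N ∣ k) :
    ∀ s, s ∣ N → ∃ x : Cfsg.PSU 3 F q, orderOf x = s := by
  obtain ⟨Φ, hΦ⟩ := exists_to_standard hF (n := 3) (by simp) (isReflexiveSesq_hypForm hF) fun u v => by
    simp only [hypForm, ← qEnd_apply hF, map_add, map_mul, qEnd_qEnd hF]; ring
  refine exists_order hF (Φ A) ((hΦ A).1.trans hdet) ((hΦ A).2 hA) fun k c hk => h k c (Φ.injective ?_)
  rw [map_pow, hk, map_smul, map_one]

theorem dvd_mul_gcd {N k a b : ℕ} (ha : N ∣ k * a) (hb : N ∣ k * b) : N ∣ k * Nat.gcd a b := by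
  rw [← Nat.gcd_mul_left]
  exact Nat.dvd_gcd ha hb

theorem div_dvd_of_dvd_mul {N k d : ℕ} (hd : 0 < d) (hdN : d ∣ N) (h : N ∣ k * d) : N / d ∣ k :=
  (Nat.div_dvd_iff_dvd_mul hdN hd).2 (by rwa [Nat.mul_comm])

include hF in
theorem exists_unit_order {M : ℕ} (hM : M ∣ q ^ 2 - 1) : ∃ b : Fˣ, orderOf b = M := by
  obtain ⟨g, hg⟩ := IsCyclic.exists_ofOrder_eq_natCard (α := Fˣ)
  rw [Nat.card_units, Nat.card_eq_fintype_card, hF] at hg
  refine ⟨g ^ (orderOf g / M), orderOf_pow_orderOf_div ?_ (hg ▸ hM)⟩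
  rw [hg]
  have := one_lt_q hF
  have : 2 ^ 2 ≤ q ^ 2 := Nat.pow_le_pow_left this 2
  omega

include hF in
theorem exists_split : ∀ s, s ∣ q + 1 → ∃ x : Cfsg.PSU 3 F q, orderOf x = s := by
  obtain ⟨z, hz⟩ := exists_unit_order hF (M := q + 1) ⟨q - 1, by rw [← one_pow 2, Nat.sq_sub_sq, one_pow]⟩
  have hzq : (z : F) ^ (q + 1) = 1 := by
    rw [← Units.val_pow_eq_pow_val, ← hz, pow_orderOf_eq_one, Units.val_one]
  have hz0 : (z : F) ≠ 0 := z.ne_zero
  refine exists_order hF (Matrix.diagonal ![(z : F), (z : F)⁻¹, 1]) ?_ ?_ ?_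
  · simp [Matrix.det_diagonal, Fin.prod_univ_three, hz0]
  · intro u v
    simp only [hermForm, Fin.sum_univ_three, Matrix.mulVec_diagonal, Matrix.cons_val_zero, Matrix.cons_val_one,
      Matrix.cons_val_two, Matrix.head_cons, Matrix.tail_cons, mul_pow, one_pow]
    have h1 : (z : F) * (z : F) ^ q = 1 := by rw [← pow_succ']; exact hzq
    have h2 : (z : F)⁻¹ * ((z : F)⁻¹) ^ q = 1 := by rw [inv_pow, ← mul_inv, h1, inv_one]
    linear_combination (u 0 * v 0 ^ q) * h1 + (u 1 * v 1 ^ q) * h2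
  · intro k c hk
    rw [Matrix.diagonal_pow, Matrix.smul_one_eq_diagonal] at hk
    have e := Matrix.diagonal_injective hk
    have e0 := congrFun e 0
    have e2 := congrFun e 2
    simp at e0 e2
    rw [← hz, orderOf_dvd_iff_pow_eq_one]
    exact Units.ext (by simpa [← e2] using e0)

include hF in
theorem exists_torus : ∀ s, s ∣ (q ^ 2 - q + 1) / Nat.gcd 3 (q + 1) → ∃ x : Cfsg.PSU 3 F q, orderOf x = s := by
  obtain ⟨Z, hdet, hZ, -, hscal⟩ := exists_odd_torus hF (d := 3) (by decide)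
  have hodd : oddIndex q 3 = q ^ 2 - q + 1 := by
    refine Nat.eq_of_mul_eq_mul_right (Nat.succ_pos q) ?_
    rw [oddIndex_mul q (by decide)]
    have hle : q ≤ q ^ 2 := Nat.le_self_pow two_ne_zero q
    zify [hle]
    ring
  refine exists_order hF Z hdet hZ fun k c hk => ?_
  have h := hscal k c hk (scalar_norm_one hF (by norm_num) (hk ▸ hZ.pow k))
  rw [hodd] at h
  refine div_dvd_of_dvd_mul (Nat.gcd_pos_of_pos_left _ (by norm_num)) (Spectrum.PSU3.gcd_three_dvd_sq_sub_add q) ?_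
  refine (dvd_mul_gcd (dvd_mul_left _ _) h).trans (Nat.mul_dvd_mul_left k (Nat.dvd_gcd ?_ (Nat.gcd_dvd_right _ _)))
  -- the gcd of `q ^ 2 - q + 1` and `q + 1` divides three
  have hle : q ≤ q ^ 2 := Nat.le_self_pow two_ne_zero q
  have h1 := Nat.gcd_dvd_left (q ^ 2 - q + 1) (q + 1)
  have h2 := Nat.gcd_dvd_right (q ^ 2 - q + 1) (q + 1)
  have e : q ^ 2 - q + 1 + 2 * (q + 1) = q * (q + 1) + 3 := by zify [hle]; ring
  have h3 := dvd_add h1 (h2.mul_left 2)
  rw [e] at h3
  exact (Nat.dvd_add_right (h2.mul_left q)).1 h3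

include hF in
theorem exists_big : ∀ s, s ∣ (q ^ 2 - 1) / Nat.gcd 3 (q + 1) → ∃ x : Cfsg.PSU 3 F q, orderOf x = s := by
  have hq := one_lt_q hF
  obtain ⟨u, hu⟩ := exists_unit_order hF (dvd_refl (q ^ 2 - 1))
  set b : F := (u : F) with hb
  have hb0 : b ≠ 0 := u.ne_zero
  have hbqq : (b ^ q) ^ q = b := Forms.pow_q_q hF b
  refine exists_order_hyp hF (Matrix.diagonal ![b, b ^ q / b, (b ^ q)⁻¹]) ?_ ?_ ?_
  · simp [Matrix.det_diagonal, Fin.prod_univ_three]
    field_simp
  · intro x y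
    simp only [hypForm, Matrix.mulVec_diagonal, Matrix.cons_val_zero, Matrix.cons_val_one,
      Matrix.cons_val_two, Matrix.head_cons, Matrix.tail_cons, mul_pow, div_pow, inv_pow, hbqq]
    field_simp
  · intro k c hk
    rw [Matrix.diagonal_pow, Matrix.smul_one_eq_diagonal] at hk
    have e := Matrix.diagonal_injective hk
    have e0 : b ^ k = c := by have := congrFun e 0; simpa using this
    have e1 : (b ^ q / b) ^ k = c := by have := congrFun e 1; simpa using this
    have e2 : ((b ^ q)⁻¹) ^ k = c := by have := congrFun e 2; simpa using this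
    have h1 : q ^ 2 - 1 ∣ k * (q + 1) := by
      rw [← hu, orderOf_dvd_iff_pow_eq_one]
      apply Units.ext
      rw [Units.val_pow_eq_pow_val, Units.val_one, ← hb, mul_add, mul_one, pow_add]
      rw [inv_pow, ← pow_mul, mul_comm q k, ← e0] at e2
      rw [← e2]
      exact mul_inv_cancel₀ (pow_ne_zero _ hb0)
    have h2 : q ^ 2 - 1 ∣ k * (q - 2) := by
      rw [← hu, orderOf_dvd_iff_pow_eq_one]
      apply Units.ext
      rw [Units.val_pow_eq_pow_val, Units.val_one, ← hb]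
      rw [div_pow, ← pow_mul, mul_comm q k, ← e0, div_eq_iff (pow_ne_zero _ hb0), ← pow_add] at e1
      rw [show k * q = k * (q - 2) + (k + k) by
        conv_lhs => rw [show q = (q - 2) + 2 by omega]
        ring, pow_add] at e1
      exact mul_right_cancel₀ (pow_ne_zero _ hb0) (by rw [one_mul]; exact e1)
    refine div_dvd_of_dvd_mul (Nat.gcd_pos_of_pos_left _ (by norm_num))
      (Spectrum.PSU3.gcd_three_dvd_sq_sub_one q) ?_
    refine (dvd_mul_gcd h1 h2).trans (Nat.mul_dvd_mul_left k (Nat.dvd_gcd ?_ (Nat.gcd_dvd_left _ _)))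
    have := Nat.dvd_sub (Nat.gcd_dvd_left (q + 1) (q - 2)) (Nat.gcd_dvd_right (q + 1) (q - 2))
    rwa [show q + 1 - (q - 2) = 3 by omega] at this

include hF in
theorem exists_mixed (p : ℕ) [Fact p.Prime] [CharP F p] :
    ∀ s, s ∣ (q + 1) / Nat.gcd 3 (q + 1) * p → ∃ x : Cfsg.PSU 3 F q, orderOf x = s := by
  have hq := one_lt_q hF
  obtain ⟨u, hu⟩ := exists_unit_order hF (M := q + 1) ⟨q - 1, by rw [← one_pow 2, Nat.sq_sub_sq, one_pow]⟩
  set b : F := (u : F) with hb
  have hb0 : b ≠ 0 := u.ne_zero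
  have hbq : b * b ^ q = 1 := by
    rw [← pow_succ', hb, ← Units.val_pow_eq_pow_val, ← hu, pow_orderOf_eq_one, Units.val_one]
  obtain ⟨t, ht⟩ : ∃ t : F, qEnd hF t ≠ t := by
    by_contra hc
    push Not at hc
    exact Forms.qEnd_ne_id hF (RingHom.ext hc)
  set e : F := t - qEnd hF t with he
  have he0 : e ≠ 0 := sub_ne_zero.2 (Ne.symm ht)
  have heq : e ^ q = -e := by rw [← qEnd_apply hF, he, map_sub, qEnd_qEnd hF]; ring
  let T : Matrix (Fin 3) (Fin 3) F := !![b, 0, b * e; 0, (b * b)⁻¹, 0; 0, 0, b]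
  have hpow : ∀ k : ℕ, T ^ k = !![b ^ k, 0, (k : F) * (b ^ k * e); 0, ((b * b)⁻¹) ^ k, 0; 0, 0, b ^ k] := by
    intro k
    induction k with
    | zero => ext i j; fin_cases i <;> fin_cases j <;> simp [Matrix.one_apply]
    | succ k ih =>
      rw [pow_succ, ih]
      ext i j
      fin_cases i <;> fin_cases j <;> simp [T, Matrix.mul_apply, Fin.sum_univ_three, pow_succ]
      ring
  refine exists_order_hyp hF T ?_ ?_ ?_
  · simp [T, Matrix.det_fin_three]
    field_simp
  · intro x y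
    have hTv : ∀ v : Fin 3 → F, T *ᵥ v = ![b * v 0 + b * e * v 2, (b * b)⁻¹ * v 1, b * v 2] := fun v => by
      funext i
      fin_cases i <;> simp [T, Matrix.mulVec, dotProduct, Fin.sum_univ_three, Matrix.vecHead, Matrix.vecTail]
    simp only [hypForm, hTv, Matrix.cons_val_zero, Matrix.cons_val_one, Matrix.cons_val_two, Matrix.head_cons,
      Matrix.tail_cons]
    simp only [← qEnd_apply hF, map_add, map_mul, map_inv₀]
    simp only [qEnd_apply hF, heq]
    have h2 : (b * b)⁻¹ * (b ^ q * b ^ q)⁻¹ = 1 := by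
      rw [← mul_inv, mul_mul_mul_comm, hbq, one_mul, inv_one]
    linear_combination (x 0 * y 2 ^ q + x 2 * y 0 ^ q) * hbq + (x 1 * y 1 ^ q) * h2
  · intro k c hk
    rw [hpow] at hk
    have e00 : b ^ k = c := by have := congrFun (congrFun hk 0) 0; simpa using this
    have e11 : ((b * b)⁻¹) ^ k = c := by have := congrFun (congrFun hk 1) 1; simpa using this
    have e02 : (k : F) * (b ^ k * e) = 0 := by have := congrFun (congrFun hk 0) 2; simpa using this
    have hp : p ∣ k := (CharP.cast_eq_zero_iff F p k).1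
      ((mul_eq_zero.1 e02).resolve_right (mul_ne_zero (pow_ne_zero _ hb0) he0))
    have h3 : q + 1 ∣ 3 * k := by
      rw [← hu, orderOf_dvd_iff_pow_eq_one]
      apply Units.ext
      rw [Units.val_pow_eq_pow_val, Units.val_one, ← hb, show 3 * k = k + (k + k) by ring, pow_add, pow_add,
        ← mul_pow b b k]
      rw [inv_pow, ← e00] at e11
      rw [← e11]
      exact inv_mul_cancel₀ (pow_ne_zero _ (mul_ne_zero hb0 hb0))
    have hk' : (q + 1) / Nat.gcd 3 (q + 1) ∣ k := by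
      refine div_dvd_of_dvd_mul (Nat.gcd_pos_of_pos_left _ (by norm_num)) (Nat.gcd_dvd_right _ _) ?_
      refine (dvd_mul_gcd (N := q + 1) (k := k) (a := 3) (b := q + 1) (by rwa [mul_comm]) (dvd_mul_left _ _)).trans ?_
      exact dvd_rfl
    have hcop : Nat.Coprime ((q + 1) / Nat.gcd 3 (q + 1)) p := by
      refine Nat.Coprime.coprime_dvd_left (Nat.div_dvd_of_dvd (Nat.gcd_dvd_right _ _)) ?_
      rw [Nat.coprime_comm, (Fact.out : p.Prime).coprime_iff_not_dvd]
      intro h
      exact (Fact.out : p.Prime).ne_one (Nat.dvd_one.1 ((Nat.dvd_add_right (S2511.p_dvd_q hF p)).1 h))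
    exact hcop.mul_dvd_of_dvd_of_dvd hk' hp

/-- The set of element orders of PSU(3, q) for an odd prime power q = p^n: writing d = gcd(3, q + 1), a positive integer is the order of some element exactly when it divides one of q + 1, p(q + 1)/d, (q² − 1)/d, (q² − q + 1)/d. -/
theorem result {F : Type*} [Field F] [Fintype F] (p : ℕ) [Fact p.Prime] [CharP F p] (hp : p ≠ 2) (q : ℕ) (hF : Fintype.card F = q ^ 2) :
    Set.range (orderOf : Cfsg.PSU 3 F q → ℕ) =
      {s : ℕ | s ∣ q + 1} ∪ {s : ℕ | s ∣ p * (q + 1) / Nat.gcd 3 (q + 1)} ∪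
        {s : ℕ | s ∣ (q ^ 2 - 1) / Nat.gcd 3 (q + 1)} ∪ {s : ℕ | s ∣ (q ^ 2 - q + 1) / Nat.gcd 3 (q + 1)} := by
  have hmix : p * (q + 1) / Nat.gcd 3 (q + 1) = (q + 1) / Nat.gcd 3 (q + 1) * p := by
    rw [Nat.mul_div_assoc _ (Nat.gcd_dvd_right _ _), Nat.mul_comm]
  rw [hmix]
  ext s
  simp only [Set.mem_range, Set.mem_union, Set.mem_setOf_eq]
  constructor
  · rintro ⟨x, rfl⟩
    obtain ⟨g, rfl⟩ := QuotientGroup.mk'_surjective _ x
    obtain ⟨k, hk, hc⟩ := Spectrum.PSU3.exists_scalar_exponent hF p hp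
      (g : Matrix.SpecialLinearGroup (Fin 3) F).2 (S2511.pres_of_mem g)
    have hd := orderOf_dvd_of_pow_eq_one ((S2511.psu_pow_eq_one_iff hF (by norm_num) g k).2 hc)
    rcases hk with rfl | rfl | rfl | rfl <;> tauto
  · rintro (((h | h) | h) | h)
    exacts [exists_split hF s h, exists_mixed hF p s h, exists_big hF s h, exists_torus hF s h]

end Cfsg.Agent.S2366
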