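import Cfsg.Statements.S4623
import Mathlib.Algebra.Field.ZMod

set_option autoImplicit false
open Cfsg

namespace Cfsg.Agent.S4623

open Equiv

universe u

variable {p : ℕ} [hp : Fact p.Prime]

/-- a set of generators of order `p` whose odd members commute -/
def Gen {β : Type u} [Fintype β] [DecidableEq β] (p : ℕ) (S : Set (Perm β)) : Prop :=
  (∀ s ∈ S, s ^ p = 1) ∧ ∀ s ∈ S, ∀ t ∈ S, Perm.sign s ≠ 1 → Perm.sign t ≠ 1 → Commute s t

theorem sign_eq_one_of_pow {β : Type u} [Fintype β] [DecidableEq β] (hp2 : p ≠ 2) {s : Perm β}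
    {k : ℕ} (h : s ^ p ^ k = 1) : Perm.sign s = 1 := by
  have h1 : (Perm.sign s) ^ p ^ k = 1 := by rw [← map_pow, h, map_one]
  rcases Int.units_eq_one_or (Perm.sign s) with h' | h'
  · exact h'
  · rw [h', Odd.neg_one_pow ((hp.out.odd_of_ne_two hp2).pow)] at h1
    exact absurd h1 (by decide)

theorem eq_of_sylow {β : Type u} [Finite β] (P : Sylow p (Perm β)) {R : Subgroup (Perm β)}
    (hR : IsPGroup p R) (h : (P : Subgroup (Perm β)) ≤ R) : R = P :=
  P.is_maximal' hR h

theorem split_case {β : Type u} [Fintype β] [DecidableEq β] (P : Sylow p (Perm β))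
    (q : β → Prop) [DecidablePred q] (hq : ∀ g ∈ (P : Subgroup (Perm β)), ∀ x, q (g x) ↔ q x)
    (ih1 : ∀ R : Sylow p (Perm {x // q x}),
      ∃ S : Set (Perm {x // q x}), Subgroup.closure S = R.toSubgroup ∧ Gen p S)
    (ih2 : ∀ R : Sylow p (Perm {x // ¬ q x}),
      ∃ S : Set (Perm {x // ¬ q x}), Subgroup.closure S = R.toSubgroup ∧ Gen p S) :
    ∃ S, Subgroup.closure S = (P : Subgroup (Perm β)) ∧ Gen p S := by
  let r1 : (P : Subgroup (Perm β)) →* Perm {x // q x} :=
    { toFun := fun g => g.1.subtypePerm (hq g.1 g.2)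
      map_one' := by ext; rfl
      map_mul' := fun g h => by ext; rfl }
  let r2 : (P : Subgroup (Perm β)) →* Perm {x // ¬ q x} :=
    { toFun := fun g => g.1.subtypePerm (fun x => not_congr (hq g.1 g.2 x))
      map_one' := by ext; rfl
      map_mul' := fun g h => by ext; rfl }
  obtain ⟨R1, hR1⟩ := (P.isPGroup'.of_surjective r1.rangeRestrict r1.rangeRestrict_surjective).exists_le_sylow
  obtain ⟨R2, hR2⟩ := (P.isPGroup'.of_surjective r2.rangeRestrict r2.rangeRestrict_surjective).exists_le_sylow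
  set i1 : Perm {x // q x} →* Perm β := Perm.ofSubtype
  set i2 : Perm {x // ¬ q x} →* Perm β := Perm.ofSubtype
  have hcomm : ∀ a b, Commute (i1 a) (i2 b) := fun a b => by
    refine Equiv.ext fun x => ?_
    show i1 a (i2 b x) = i2 b (i1 a x)
    by_cases hx : q x
    · rw [Perm.ofSubtype_apply_of_not_mem b (not_not.2 hx),
        Perm.ofSubtype_apply_of_not_mem b (not_not.2 ((Perm.ofSubtype_apply_mem_iff_mem a x).2 hx))]
    · rw [Perm.ofSubtype_apply_of_not_mem a hx,
        Perm.ofSubtype_apply_of_not_mem a ((Perm.ofSubtype_apply_mem_iff_mem b x).2 hx)]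
  set A := (R1 : Subgroup _).map i1
  set B := (R2 : Subgroup _).map i2
  have hnorm : A ≤ Subgroup.normalizer (B : Set (Perm β)) :=
    le_trans (fun a ha => by
      obtain ⟨a, -, rfl⟩ := ha
      refine Subgroup.mem_centralizer_iff.2 fun b hb => ?_
      obtain ⟨b, -, rfl⟩ := hb
      exact ((hcomm a b).eq).symm) (Subgroup.centralizer_le_normalizer _)
  have hle : (P : Subgroup (Perm β)) ≤ A ⊔ B := fun g hg => by
    have hg' : g = i1 (r1 ⟨g, hg⟩) * i2 (r2 ⟨g, hg⟩) := by
      refine Equiv.ext fun x => ?_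
      show g x = i1 (r1 ⟨g, hg⟩) (i2 (r2 ⟨g, hg⟩) x)
      by_cases hx : q x
      · rw [Perm.ofSubtype_apply_of_not_mem (p := fun y => ¬ q y) (r2 ⟨g, hg⟩) (not_not.2 hx)]
        exact (Perm.ofSubtype_subtypePerm_of_mem (hq g hg) hx).symm
      · rw [Perm.ofSubtype_apply_of_mem (p := fun y => ¬ q y) (r2 ⟨g, hg⟩) hx]
        exact (Perm.ofSubtype_apply_of_not_mem (r1 ⟨g, hg⟩) (mt (hq g hg x).1 hx)).symm
    rw [hg']
    exact mul_mem (Subgroup.mem_sup_left (Subgroup.mem_map_of_mem _ (hR1 ⟨_, rfl⟩)))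
      (Subgroup.mem_sup_right (Subgroup.mem_map_of_mem _ (hR2 ⟨_, rfl⟩)))
  have heq := eq_of_sylow P
    ((R1.isPGroup'.map i1).to_sup_of_normal_right' (R2.isPGroup'.map i2) hnorm) hle
  obtain ⟨S1, hS1, h1, h1'⟩ := ih1 R1
  obtain ⟨S2, hS2, h2, h2'⟩ := ih2 R2
  refine ⟨i1 '' S1 ∪ i2 '' S2, ?_, ?_, ?_⟩
  · rw [Subgroup.closure_union, ← MonoidHom.map_closure, ← MonoidHom.map_closure, hS1, hS2, ← heq]
  · rintro _ (⟨s, hs, rfl⟩ | ⟨s, hs, rfl⟩)
    · rw [← map_pow, h1 s hs, map_one]
    · rw [← map_pow, h2 s hs, map_one]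
  · rintro _ (⟨s, hs, rfl⟩ | ⟨s, hs, rfl⟩) _ (⟨t, ht, rfl⟩ | ⟨t, ht, rfl⟩) hs' ht'
    · rw [Perm.sign_ofSubtype] at hs' ht'
      exact (h1' s hs t ht hs' ht').map i1
    · exact hcomm s t
    · exact (hcomm t s).symm
    · rw [Perm.sign_ofSubtype] at hs' ht'
      exact (h2' s hs t ht hs' ht').map i2

theorem cycle_case {β B : Type u} [Fintype β] [DecidableEq β] [Fintype B] [DecidableEq B]
    (P : Sylow p (Perm β)) (z : Perm β) (hz : ∀ g ∈ (P : Subgroup (Perm β)), Commute g z)
    (e : B × ZMod p ≃ β) (he : ∀ (b : B) (i : ZMod p), z (e (b, i)) = e (b, i + 1))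
    (ih : ∀ R : Sylow p (Perm B), ∃ S, Subgroup.closure S = (R : Subgroup (Perm B)) ∧ Gen p S) :
    ∃ S, Subgroup.closure S = (P : Subgroup (Perm β)) ∧ Gen p S := by
  let Φ : (B → Multiplicative (ZMod p)) →* Perm β :=
    MonoidHom.mk' (fun c => e.permCongr (Equiv.prodCongrRight fun b => Equiv.addLeft (c b).toAdd))
      fun c c' => by
        refine Equiv.ext fun x => ?_
        obtain ⟨⟨b, i⟩, rfl⟩ := e.surjective x
        simp [Equiv.permCongr_apply, add_assoc]
  let ι : Perm B →* Perm β :=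
    MonoidHom.mk' (fun σ => e.permCongr (Equiv.prodCongrLeft fun _ => σ)) fun σ τ => by
      refine Equiv.ext fun x => ?_
      obtain ⟨⟨b, i⟩, rfl⟩ := e.surjective x
      simp [Equiv.permCongr_apply]
  have hΦa : ∀ c b i, Φ c (e (b, i)) = e (b, (c b).toAdd + i) := fun c b i => by
    simp [Φ, Equiv.permCongr_apply]
  have hιa : ∀ σ b i, ι σ (e (b, i)) = e (σ b, i) := fun σ b i => by
    simp [ι, Equiv.permCongr_apply]
  have hord : ∀ c, Φ c ^ p = 1 := fun c => by
    rw [← map_pow, show c ^ p = 1 from funext fun b => by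
      apply Multiplicative.toAdd.injective
      simp, map_one]
  have hAp : IsPGroup p Φ.range := fun x => by
    obtain ⟨c, hc⟩ := x.2
    refine ⟨1, Subtype.ext ?_⟩
    rw [SubmonoidClass.coe_pow, pow_one, ← hc, hord]
    rfl
  have hpowz : ∀ (n : ℕ) (b : B) (i : ZMod p), (z ^ n) (e (b, i)) = e (b, i + n) := by
    intro n
    induction n with
    | zero => intro b i; simp
    | succ n ihn => intro b i; rw [pow_succ', Perm.mul_apply, ihn, he, Nat.cast_succ, add_assoc]
  have hdec : ∀ g : Perm β, Commute g z → ∃ σ t, g = Φ t * ι σ := by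
    intro g hg
    have hgi : ∀ b i, g (e (b, i)) = e ((e.symm (g (e (b, 0)))).1, (e.symm (g (e (b, 0)))).2 + i) :=
      fun b i => by
        have h1 := Perm.congr_fun (hg.pow_right i.val).eq (e (b, 0))
        rw [Perm.mul_apply, Perm.mul_apply, hpowz, zero_add, ZMod.natCast_zmod_val] at h1
        rw [h1]
        conv_lhs => rw [← e.apply_symm_apply (g (e (b, 0)))]
        rw [hpowz, ZMod.natCast_zmod_val]
    have hinj : Function.Injective (fun b => (e.symm (g (e (b, 0)))).1) := fun b b' h => by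
      have h1 := hgi b ((e.symm (g (e (b', 0)))).2 - (e.symm (g (e (b, 0)))).2)
      rw [add_sub_cancel, show (e.symm (g (e (b, 0)))).1 = (e.symm (g (e (b', 0)))).1 from h,
        e.apply_symm_apply] at h1
      exact (Prod.mk.inj (e.injective (g.injective h1))).1
    refine ⟨Equiv.ofBijective _ (Finite.injective_iff_bijective.1 hinj),
      fun b => Multiplicative.ofAdd ((e.symm (g (e ((Equiv.ofBijective _
        (Finite.injective_iff_bijective.1 hinj)).symm b, 0)))).2), Equiv.ext fun x => ?_⟩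
    obtain ⟨⟨b, i⟩, rfl⟩ := e.surjective x
    rw [Perm.mul_apply, hιa, hΦa, hgi]
    simp only [Equiv.symm_apply_apply, toAdd_ofAdd]
    rfl
  have hιnorm : ∀ σ, ι σ ∈ Subgroup.normalizer (Φ.range : Set (Perm β)) := fun σ => by
    have h : ∀ τ c, ι τ * Φ c = Φ (c ∘ τ.symm) * ι τ := fun τ c => Equiv.ext fun x => by
      obtain ⟨⟨b, i⟩, rfl⟩ := e.surjective x
      simp [hΦa, hιa]
    refine Subgroup.mem_normalizer_iff.2 fun a => ⟨?_, fun ha => ?_⟩
    · rintro ⟨c, rfl⟩
      exact ⟨c ∘ σ.symm, by rw [eq_mul_inv_iff_mul_eq, h]⟩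
    · obtain ⟨c, hc⟩ := ha
      refine ⟨c ∘ σ, ?_⟩
      have h1 := h σ (c ∘ σ)
      rw [show (c ∘ σ) ∘ σ.symm = c from funext fun b => congrArg c (σ.apply_symm_apply b), hc] at h1
      exact mul_left_cancel (h1.trans (inv_mul_cancel_right _ _))
  have hPnorm : (P : Subgroup (Perm β)) ≤ Subgroup.normalizer (Φ.range : Set (Perm β)) := fun g hg => by
    obtain ⟨σ, t, rfl⟩ := hdec g (hz g hg)
    exact mul_mem (Subgroup.le_normalizer ⟨t, rfl⟩) (hιnorm σ)
  have hA : Φ.range ≤ P := by
    have := eq_of_sylow P (P.isPGroup'.to_sup_of_normal_right' hAp hPnorm) le_sup_left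
    exact le_trans le_sup_right this.le
  have hι : Function.Injective ι := fun σ τ h => Equiv.ext fun b => by
    have h1 := Perm.congr_fun h (e (b, 0))
    rw [hιa, hιa] at h1
    exact (Prod.mk.inj (e.injective h1)).1
  obtain ⟨R, hR⟩ := (P.isPGroup'.comap_of_injective ι hι).exists_le_sylow
  have heq := eq_of_sylow P
    ((R.isPGroup'.map ι).to_sup_of_normal_right' hAp (by
      rintro _ ⟨σ, -, rfl⟩
      exact hιnorm σ)) (fun g hg => by
    obtain ⟨σ, t, rfl⟩ := hdec g (hz g hg)
    refine mul_mem (Subgroup.mem_sup_right ⟨t, rfl⟩) (Subgroup.mem_sup_left ?_)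
    refine Subgroup.mem_map_of_mem _ (hR ?_)
    have h := mul_mem (inv_mem (hA ⟨t, rfl⟩)) hg
    rwa [inv_mul_cancel_left] at h)
  obtain ⟨S, hS, h1, -⟩ := ih R
  refine ⟨ι '' S ∪ Set.range Φ, ?_, ?_, ?_⟩
  · rw [Subgroup.closure_union, ← MonoidHom.map_closure, hS, ← MonoidHom.coe_range,
      Subgroup.closure_eq, ← heq]
  · rintro _ (⟨s, hs, rfl⟩ | ⟨c, rfl⟩)
    · rw [← map_pow, h1 s hs, map_one]
    · exact hord c
  · have hsign : ∀ s ∈ S, Perm.sign (ι s) = 1 := fun s hs => by
      by_cases hp2 : p = 2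
      · show Perm.sign (e.permCongr _) = 1
        rw [Perm.sign_permCongr, Perm.sign_prodCongrLeft, Finset.prod_const, Finset.card_univ,
          ZMod.card, ← map_pow, h1 s hs, map_one]
      · exact sign_eq_one_of_pow hp2 (k := 1) (by rw [pow_one, ← map_pow, h1 s hs, map_one])
    rintro _ (⟨s, hs, rfl⟩ | ⟨c, rfl⟩) _ (⟨t, ht, rfl⟩ | ⟨d, rfl⟩) hs' ht'
    · exact absurd (hsign s hs) hs'
    · exact absurd (hsign s hs) hs'
    · exact absurd (hsign t ht) ht'
    · exact (Commute.all c d).map Φ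

theorem exists_cycle_equiv {β : Type u} [Fintype β] [DecidableEq β] (z : Perm β) (hzp : z ^ p = 1)
    (hfree : ∀ x, z x ≠ x) :
    ∃ (B : Type u) (_ : Fintype B) (_ : DecidableEq B) (e : B × ZMod p ≃ β),
      ∀ (b : B) (i : ZMod p), z (e (b, i)) = e (b, i + 1) := by
  have hmod : ∀ n : ℕ, z ^ n = z ^ ((n : ZMod p)).val := fun n => by
    rw [ZMod.val_natCast]
    exact pow_eq_pow_mod n hzp
  set s := Perm.SameCycle.setoid z
  let f : Quotient s × ZMod p → β := fun x => (z ^ x.2.val) x.1.out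
  have hsc : ∀ (b : Quotient s) (i : ZMod p), Quotient.mk s (f (b, i)) = b := fun b i => by
    refine (Quotient.sound (s := s) ?_).trans (Quotient.out_eq b)
    exact (Perm.sameCycle_pow_left.2 (Perm.SameCycle.refl z _))
  have hinj : Function.Injective f := by
    rintro ⟨b, i⟩ ⟨b', j⟩ h
    have hb : b = b' := by rw [← hsc b i, h, hsc b' j]
    subst hb
    refine Prod.ext rfl ?_
    by_contra hne
    have h' : (z ^ (j - i).val) b.out = b.out := by
      have h1 : z ^ i.val * z ^ (j - i).val = z ^ j.val := by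
        rw [← pow_add, hmod, Nat.cast_add, ZMod.natCast_zmod_val, ZMod.natCast_zmod_val,
          add_sub_cancel]
      exact (z ^ i.val).injective ((Perm.congr_fun h1 b.out).trans h.symm)
    obtain ⟨m, hm⟩ : ∃ m : ℕ, ((j - i).val * m : ℕ) = (1 : ZMod p) :=
      ⟨((j - i)⁻¹).val, by
        rw [Nat.cast_mul, ZMod.natCast_zmod_val, ZMod.natCast_zmod_val]
        exact mul_inv_cancel₀ (G₀ := ZMod p) (sub_ne_zero.2 (Ne.symm hne))⟩
    have h2 : z ^ ((j - i).val * m) = z := by
      rw [hmod, hm, ZMod.val_one, pow_one]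
    refine hfree b.out ?_
    conv_lhs => rw [← h2, pow_mul]
    exact Perm.pow_apply_eq_self_of_apply_eq_self h' m
  have hsurj : Function.Surjective f := fun x => by
    have hr : Perm.SameCycle z (Quotient.mk s x).out x := Quotient.exact (Quotient.out_eq (Quotient.mk s x))
    obtain ⟨n, hn⟩ := hr.exists_nat_pow_eq
    exact ⟨(Quotient.mk s x, (n : ZMod p)), by show (z ^ _) _ = x; rw [← hmod, hn]⟩
  refine ⟨Quotient s, Fintype.ofFinite _, Classical.decEq _, Equiv.ofBijective f ⟨hinj, hsurj⟩,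
    fun b i => ?_⟩
  show z ((z ^ i.val) b.out) = (z ^ (i + 1).val) b.out
  rw [← Perm.mul_apply, ← pow_succ', hmod, Nat.cast_succ, ZMod.natCast_zmod_val]

theorem exists_gen : ∀ (n : ℕ) (β : Type u) [Fintype β] [DecidableEq β], Fintype.card β ≤ n →
    ∀ P : Sylow p (Perm β), ∃ S, Subgroup.closure S = (P : Subgroup (Perm β)) ∧ Gen p S := by
  classical
  intro n
  induction n using Nat.strong_induction_on with
  | _ n ih =>
    intro β _ _ hn P
    by_cases hbot : (P : Subgroup (Perm β)) = ⊥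
    · exact ⟨∅, by rw [Subgroup.closure_empty, hbot], fun _ h => h.elim, fun _ h => h.elim⟩
    by_cases hq : ∃ q : β → Prop, (∀ g ∈ (P : Subgroup (Perm β)), ∀ x, q (g x) ↔ q x) ∧
        (∃ x, q x) ∧ ∃ x, ¬ q x
    · obtain ⟨q, hq, ⟨x, hx⟩, y, hy⟩ := hq
      refine split_case P q hq (fun R => ?_) (fun R => ?_)
      · exact ih (Fintype.card {x // q x}) (lt_of_lt_of_le (Fintype.card_subtype_lt hy) hn) _ le_rfl R
      · exact ih (Fintype.card {x // ¬ q x})
          (lt_of_lt_of_le (Fintype.card_subtype_lt (x := x) (not_not.2 hx)) hn) _ le_rfl R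
    haveI : Nontrivial (P : Subgroup (Perm β)) := (Subgroup.nontrivial_iff_ne_bot _).2 hbot
    haveI := P.isPGroup'.center_nontrivial
    obtain ⟨w, hwo⟩ := exists_prime_orderOf_dvd_card' p
      (show p ∣ Nat.card (Subgroup.center (P : Subgroup (Perm β))) by
        obtain ⟨k, hk, hk'⟩ := (IsPGroup.nontrivial_iff_card (P.isPGroup'.to_subgroup _)).1 ‹_›
        rw [hk']
        exact dvd_pow_self p hk.ne')
    set z : Perm β := w.1.1
    have hzp : z ^ p = 1 := congrArg (fun v => v.1.1) (hwo ▸ pow_orderOf_eq_one w)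
    have hz : ∀ g ∈ (P : Subgroup (Perm β)), Commute g z := fun g hg =>
      congrArg Subtype.val (Subgroup.mem_center_iff.1 w.2 ⟨g, hg⟩)
    have hfree : ∀ x, z x ≠ x := by
      intro x hx
      refine hq ⟨fun y => z y = y, fun g hg y => ?_, ⟨x, hx⟩, ?_⟩
      · have h := Perm.congr_fun (hz g hg).eq y
        simp only [Perm.mul_apply] at h
        show z (g y) = g y ↔ z y = y
        rw [← h, g.injective.eq_iff]
      · by_contra hall
        push Not at hall
        have hz1 : z = 1 := Equiv.ext hall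
        have hw1 : w = 1 := Subtype.ext (Subtype.ext hz1)
        rw [hw1, orderOf_one] at hwo
        exact hp.out.ne_one hwo.symm
    obtain ⟨B, _, _, e, he⟩ := exists_cycle_equiv z hzp hfree
    have hcard : Fintype.card B < Fintype.card β := by
      rw [← Fintype.card_congr e, Fintype.card_prod, ZMod.card]
      rcases isEmpty_or_nonempty β with hβ | ⟨⟨x⟩⟩
      · exact absurd (Subsingleton.elim _ _) hbot
      · exact lt_mul_of_one_lt_right (Fintype.card_pos_iff.2 ⟨(e.symm x).1⟩) hp.out.one_lt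
    exact cycle_case P z hz e he (fun R => ih _ (lt_of_lt_of_le hcard hn) B le_rfl R)

theorem pow_mem_commutator {G : Type u} [Group G] (H : Subgroup G) (S : Set G)
    (hS : Subgroup.closure S = H) (h : ∀ s ∈ S, s ^ p = 1) (x : H) : x ^ p ∈ commutator H := by
  let K : Subgroup H := ((powMonoidHom p : Abelianization H →* Abelianization H).comp Abelianization.of).ker
  have hK : (K.map H.subtype) = H := by
    refine le_antisymm (Subgroup.map_subtype_le K) ?_
    conv_lhs => rw [← hS]
    refine (Subgroup.closure_le _).2 fun s hs => ?_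
    refine ⟨⟨s, hS ▸ Subgroup.subset_closure hs⟩, ?_, rfl⟩
    show (Abelianization.of _) ^ p = 1
    rw [← map_pow, show (⟨s, _⟩ : H) ^ p = 1 from Subtype.ext (h s hs), map_one]
  have hx : x.1 ∈ K.map H.subtype := hK.symm ▸ x.2
  obtain ⟨y, hy, hyx⟩ := hx
  obtain rfl : y = x := Subtype.ext hyx
  rw [← Abelianization.ker_of, MonoidHom.mem_ker, map_pow]
  exact hy

theorem even_part {β : Type u} [Fintype β] [DecidableEq β] (H : Subgroup (Perm β))
    (S : Set (Perm β)) (hS : Subgroup.closure S = H) (hgen : Gen 2 S) :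
    ∃ T : Set (Perm β), Subgroup.closure T = H ⊓ alternatingGroup β ∧ ∀ s ∈ T, s ^ 2 = 1 := by
  have hsub : ∀ s ∈ S, s ∈ H := fun s hs => hS ▸ Subgroup.subset_closure hs
  by_cases hodd : ∃ t ∈ S, Perm.sign t ≠ 1
  swap
  · push Not at hodd
    refine ⟨S, ?_, hgen.1⟩
    rw [hS, inf_eq_left.2]
    conv_lhs => rw [← hS]
    exact (Subgroup.closure_le _).2 fun s hs => Perm.mem_alternatingGroup.2 (hodd s hs)
  obtain ⟨t, ht, htodd⟩ := hodd
  have ht2 : t * t = 1 := by rw [← sq, hgen.1 t ht]
  have hneg : ∀ s : Perm β, Perm.sign s ≠ 1 → Perm.sign s = -1 := fun s h =>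
    (Int.units_eq_one_or _).resolve_left h
  set T : Set (Perm β) := {s | s ∈ S ∧ Perm.sign s = 1} ∪
    ((fun s => t * s * t) '' {s | s ∈ S ∧ Perm.sign s = 1}) ∪
    ((fun s => s * t) '' {s | s ∈ S ∧ Perm.sign s ≠ 1}) with hT
  have hTn : ∀ x ∈ Subgroup.closure T, t * x * t ∈ Subgroup.closure T := by
    have hi : t⁻¹ = t := inv_eq_of_mul_eq_one_right ht2
    intro x hx
    have : (Subgroup.closure T).map (MulAut.conj t).toMonoidHom ≤ Subgroup.closure T := by
      rw [MonoidHom.map_closure]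
      refine (Subgroup.closure_le _).2 ?_
      rintro _ ⟨y, hy, rfl⟩
      show t * y * t⁻¹ ∈ _
      rw [hi]
      refine Subgroup.subset_closure ?_
      rcases hy with (hy | ⟨s, hs, rfl⟩) | ⟨s, hs, rfl⟩
      · exact Or.inl (Or.inr ⟨y, hy, rfl⟩)
      · refine Or.inl (Or.inl ?_)
        rwa [show t * (t * s * t) * t = (t * t) * s * (t * t) by simp only [mul_assoc],
          ht2, one_mul, mul_one]
      · refine Or.inr ⟨s, hs, ?_⟩
        show s * t = t * (s * t) * t
        rw [show t * (s * t) * t = t * s * (t * t) by simp only [mul_assoc], ht2, mul_one,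
          (hgen.2 s hs.1 t ht hs.2 htodd).eq]
    have h := this ⟨x, hx, rfl⟩
    rwa [show (MulAut.conj t).toMonoidHom x = t * x * t from by
      show t * x * t⁻¹ = _; rw [hi]] at h
  refine ⟨T, le_antisymm ((Subgroup.closure_le _).2 ?_) ?_, ?_⟩
  · rintro y ((hy | ⟨s, hs, rfl⟩) | ⟨s, hs, rfl⟩)
    · exact ⟨hsub y hy.1, Perm.mem_alternatingGroup.2 hy.2⟩
    · refine ⟨mul_mem (mul_mem (hsub t ht) (hsub s hs.1)) (hsub t ht), Perm.mem_alternatingGroup.2 ?_⟩
      rw [map_mul, map_mul, hs.2, hneg t htodd]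
      simp
    · refine ⟨mul_mem (hsub s hs.1) (hsub t ht), Perm.mem_alternatingGroup.2 ?_⟩
      rw [map_mul, hneg s hs.2, hneg t htodd]
      simp
  · have key : ∀ x ∈ Subgroup.closure S, (Perm.sign x = 1 → x ∈ Subgroup.closure T) ∧
        (Perm.sign x ≠ 1 → x * t ∈ Subgroup.closure T) := by
      have step : ∀ s ∈ S, ∀ y : Perm β, ((Perm.sign y = 1 → y ∈ Subgroup.closure T) ∧
          (Perm.sign y ≠ 1 → y * t ∈ Subgroup.closure T)) →
          (Perm.sign (s * y) = 1 → s * y ∈ Subgroup.closure T) ∧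
          (Perm.sign (s * y) ≠ 1 → s * y * t ∈ Subgroup.closure T) := by
        intro s hs y hy
        by_cases h : Perm.sign s = 1
        · have hsT : s ∈ Subgroup.closure T := Subgroup.subset_closure (Or.inl (Or.inl ⟨hs, h⟩))
          rw [map_mul, h, one_mul, mul_assoc]
          exact ⟨fun h' => mul_mem hsT (hy.1 h'), fun h' => mul_mem hsT (hy.2 h')⟩
        · have hsT : s * t ∈ Subgroup.closure T := Subgroup.subset_closure (Or.inr ⟨s, ⟨hs, h⟩, rfl⟩)
          rw [map_mul, hneg s h]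
          constructor
          · intro h'
            have hy' : Perm.sign y ≠ 1 := fun e => by rw [e, mul_one] at h'; exact absurd h' (by decide)
            have := mul_mem hsT (hTn _ (hy.2 hy'))
            rwa [show s * t * (t * (y * t) * t) = s * (t * t) * y * (t * t) by
              simp only [mul_assoc], ht2, mul_one, mul_one] at this
          · intro h'
            have hy' : Perm.sign y = 1 := (Int.units_eq_one_or _).resolve_right fun e => h' (by
              rw [e]; decide)
            have := mul_mem hsT (hTn _ (hy.1 hy'))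
            rwa [show s * t * (t * y * t) = s * (t * t) * y * t by
              simp only [mul_assoc], ht2, mul_one] at this
      intro x hx
      induction hx using Subgroup.closure_induction_left with
      | one => exact ⟨fun _ => one_mem _, fun h => absurd (map_one _) h⟩
      | mul_left s hs y _ ih => exact step s hs y ih
      | inv_mul_cancel s hs y _ ih =>
        rw [inv_eq_of_mul_eq_one_right (by rw [← sq, hgen.1 s hs] : s * s = 1)]
        exact step s hs y ih
    intro x hx
    exact (key x (hS.symm ▸ hx.1)).1 (Perm.mem_alternatingGroup.1 hx.2)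
  · rintro y ((hy | ⟨s, hs, rfl⟩) | ⟨s, hs, rfl⟩)
    · exact hgen.1 y hy.1
    · have hss : s * s = 1 := by rw [← sq, hgen.1 s hs.1]
      show (t * s * t) ^ 2 = 1
      rw [sq, show t * s * t * (t * s * t) = t * (s * (t * t) * s) * t by simp only [mul_assoc],
        ht2, mul_one, hss, mul_one, ht2]
    · show (s * t) ^ 2 = 1
      rw [(hgen.2 s hs.1 t ht hs.2 htodd).mul_pow, hgen.1 s hs.1, hgen.1 t ht, one_mul]

/-- For every prime p and every n, a Sylow p-subgroup P of the symmetric group on n letters has P/P' elementary abelian (the p-th power of every element of P lies in the derived subgroup of P), and the same holds for a Sylow p-subgroup of the alternating group on n letters. -/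
theorem result (p : ℕ) [Fact p.Prime] (n : ℕ) (P : Sylow p (Equiv.Perm (Fin n))) (Q : Sylow p (alternatingGroup (Fin n))) :
    (∀ x : (P : Subgroup (Equiv.Perm (Fin n))), x ^ p ∈ commutator (P : Subgroup (Equiv.Perm (Fin n)))) ∧
    (∀ x : (Q : Subgroup (alternatingGroup (Fin n))), x ^ p ∈ commutator (Q : Subgroup (alternatingGroup (Fin n)))) := by
  classical
  constructor
  · obtain ⟨S, hS, hg, -⟩ := exists_gen (p := p) n (Fin n) (by simp) P
    exact fun x => pow_mem_commutator _ S hS hg x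
  · set i := (alternatingGroup (Fin n)).subtype
    obtain ⟨P', hP'⟩ := (Q.isPGroup'.map i).exists_le_sylow
    obtain ⟨S, hS, hg⟩ := exists_gen (p := p) n (Fin n) (by simp) P'
    obtain ⟨T, hT, hT1⟩ : ∃ T : Set (Equiv.Perm (Fin n)),
        Subgroup.closure T = (P' : Subgroup _) ⊓ alternatingGroup (Fin n) ∧ ∀ s ∈ T, s ^ p = 1 := by
      by_cases hp2 : p = 2
      · subst hp2
        exact even_part _ S hS hg
      · refine ⟨S, ?_, hg.1⟩
        rw [hS, inf_eq_left.2]
        intro g hg'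
        obtain ⟨k, hk⟩ := P'.isPGroup' ⟨g, hg'⟩
        exact Equiv.Perm.mem_alternatingGroup.2 (sign_eq_one_of_pow hp2 (congrArg Subtype.val hk))
    have hle : (P' : Subgroup _).comap i = (Q : Subgroup (alternatingGroup (Fin n))) :=
      Q.is_maximal' (P'.isPGroup'.comap_of_injective i Subtype.val_injective)
        (Subgroup.map_le_iff_le_comap.1 hP')
    refine fun x => pow_mem_commutator _ (i ⁻¹' T) ?_ (fun s hs => Subtype.ext ?_) x
    · refine Subgroup.map_injective (f := i) Subtype.val_injective ?_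
      rw [MonoidHom.map_closure, Set.image_preimage_eq_of_subset, hT, ← hle,
        Subgroup.map_comap_eq, inf_comm, Subgroup.range_subtype]
      intro g hg'
      have : g ∈ (P' : Subgroup _) ⊓ alternatingGroup (Fin n) := hT ▸ Subgroup.subset_closure hg'
      exact ⟨⟨g, this.2⟩, rfl⟩
    · exact hT1 _ hs

end Cfsg.Agent.S4623
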