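import Cfsg.Statements.S0118
import Cfsg.Agent.Lib.ZJControl.Fusion
import Cfsg.Agent.Lib.ZJControl.FullCentre
import Cfsg.Agent.Lib.Quadratic.SectionFree
-- import your own Cfsg.Agent.* helpers here

set_option autoImplicit false
open Cfsg

namespace Cfsg.Agent.S0118

/-- Glauberman's ZJ-Theorem, in the case of groups with no section isomorphic to SL(2,p), p odd: conjugation of subsets of a Sylow p-subgroup P inside P is always induced from the normalizer of Z(J(P)). -/
theorem result {G : Type*} [Group G] [Finite G] {p : ℕ} [Fact p.Prime] (hp : p ≠ 2) (hfree : ¬ ∃ (H K : Subgroup G) (hK : (K.subgroupOf H).Normal), Nonempty ((H ⧸ K.subgroupOf H) ≃* Matrix.SpecialLinearGroup (Fin 2) (ZMod p))) (P : Sylow p G) (A : Set G) (hA : A ⊆ (P : Set G)) (g : G) (hAg : (fun a => g⁻¹ * a * g) '' A ⊆ (P : Set G)) : ∃ n ∈ Subgroup.normalizer (Cfsg.centerThompsonOf p (P : Subgroup G) : Set G), ∀ a ∈ A, n⁻¹ * a * n = g⁻¹ * a * g := by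
  obtain ⟨x, hx, he⟩ := Cfsg.Agent.ZJControl.controlled_of_stableClass (p := p) hp
    (fun H _ => ¬ Cfsg.Involves (Matrix.SpecialLinearGroup (Fin 2) (ZMod p)) H)
    (fun _ _ _ H h hH => h (Cfsg.Agent.ConjFun.involves_trans hH (Cfsg.Agent.ConjFun.involves_subgroup H)))
    (fun _ _ _ N _ h hN => h (Cfsg.Agent.ConjFun.involves_trans hN (Cfsg.Agent.ConjFun.involves_quotient N)))
    (fun _ _ _ h S _ => Cfsg.Agent.Replacement.stableOn_of_isPStableOn _ fun V _ hV =>
      Cfsg.Agent.Quadratic.isPStableOn_of_not_involves_sl2 hp h V hV)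
    (show ¬ Cfsg.Involves (Matrix.SpecialLinearGroup (Fin 2) (ZMod p)) G from hfree)
    (Cfsg.Agent.ZJControl.isZJLike_centerThompson hp) P
    (Cfsg.Agent.Replacement.isStronglyClosed_self (P : Subgroup G)) A hA g⁻¹ fun a ha => by
      rw [inv_inv]; exact hAg ⟨a, ha, rfl⟩
  refine ⟨x⁻¹, inv_mem hx, fun a ha => ?_⟩
  have := he a ha
  rw [inv_inv] at this
  rw [inv_inv]
  exact this.symm


end Cfsg.Agent.S0118
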