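import Cfsg.Statements.S0213
import Cfsg.Agent.Lib.Involution.BrauerFowler

set_option autoImplicit false
open Cfsg

namespace Cfsg.Agent.S0213

/-- Conjugacy in a pair: the unique involution in `⟨u v⟩`. -/
theorem half_unique {G : Type*} [Group G] [Finite G] {a : G} (ha : Even (orderOf a)) {w : G}
    (hw : orderOf w = 2) (hmem : w ∈ Subgroup.zpowers a) : w = a ^ (orderOf a / 2) := by
  obtain ⟨k, rfl⟩ := mem_powers_iff_mem_zpowers.mpr hmem
  obtain ⟨m, hm⟩ := ha
  have hpos := orderOf_pos a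
  have h2 : a ^ (k * 2) = 1 := by
    have := pow_orderOf_eq_one (a ^ k); rw [hw, ← pow_mul] at this; exact this
  obtain ⟨c, hc⟩ := orderOf_dvd_iff_pow_eq_one.mpr h2
  rw [show orderOf a / 2 = m by omega]
  show a ^ k = a ^ m
  rcases Nat.even_or_odd' c with ⟨i, hi | hi⟩
  · exfalso
    have hk : k = orderOf a * i := by subst hi; nlinarith
    simp [hk, pow_mul, pow_orderOf_eq_one] at hw
  · have hk : k = orderOf a * i + m := by subst hi; nlinarith
    rw [hk, pow_add, pow_mul, pow_orderOf_eq_one, one_pow, one_mul]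

/-- Thompson Order Formula, two-class case: if every involution of the finite group G is conjugate to exactly one of the non-conjugate involutions x₁, x₂, and nᵢ is the number of pairs (u, v) with u conjugate to x₁, v conjugate to x₂ and xᵢ in the cyclic group generated by uv, then |G| = |C(x₂)| n₁ + |C(x₁)| n₂. -/
theorem result {G : Type*} [Group G] [Finite G] (x₁ x₂ : G) (h₁ : orderOf x₁ = 2) (h₂ : orderOf x₂ = 2) (hnc : ¬ IsConj x₁ x₂) (hall : ∀ t : G, orderOf t = 2 → IsConj x₁ t ∨ IsConj x₂ t) : Nat.card G = Nat.card (Subgroup.centralizer ({x₂} : Set G)) * Nat.card {p : G × G // IsConj x₁ p.1 ∧ IsConj x₂ p.2 ∧ x₁ ∈ Subgroup.zpowers (p.1 * p.2)} + Nat.card (Subgroup.centralizer ({x₁} : Set G)) * Nat.card {p : G × G // IsConj x₁ p.1 ∧ IsConj x₂ p.2 ∧ x₂ ∈ Subgroup.zpowers (p.1 * p.2)} := by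
  classical
  haveI := Fintype.ofFinite G
  let A : G → Type _ := fun w => {p : G × G // IsConj x₁ p.1 ∧ IsConj x₂ p.2 ∧ w ∈ Subgroup.zpowers (p.1 * p.2)}
  have hinv : ∀ {a u : G}, orderOf a = 2 → IsConj a u → orderOf u = 2 := by
    intro a u ha hau
    obtain ⟨c, rfl⟩ := isConj_iff.mp hau
    exact ((MulAut.conj c).orderOf_eq a).trans ha
  have heven : ∀ {u v : G}, IsConj x₁ u → IsConj x₂ v → Even (orderOf (u * v)) := by
    intro u v hu hv
    rw [← Nat.not_odd_iff_even]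
    intro hodd
    obtain ⟨d, -, hd⟩ := Cfsg.Agent.Involution.exists_conj_pair_of_odd
      (Cfsg.Agent.Involution.sq_of_orderOf_two (hinv h₁ hu))
      (Cfsg.Agent.Involution.sq_of_orderOf_two (hinv h₂ hv)) hodd
    exact hnc (hu.trans ((isConj_iff.mpr ⟨d, hd⟩).trans hv.symm))
  -- the fibres are invariant under conjugation
  have hA : ∀ a w, IsConj a w → Nat.card (A w) = Nat.card (A a) := by
    have hle : ∀ a w, IsConj a w → Nat.card (A a) ≤ Nat.card (A w) := by
      intro a w haw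
      obtain ⟨c, rfl⟩ := isConj_iff.mp haw
      refine Nat.card_le_card_of_injective (fun p => ⟨(MulAut.conj c p.1.1, MulAut.conj c p.1.2),
        p.2.1.trans (isConj_iff.mpr ⟨c, rfl⟩), p.2.2.1.trans (isConj_iff.mpr ⟨c, rfl⟩), ?_⟩) ?_
      · obtain ⟨k, hk⟩ := Subgroup.mem_zpowers_iff.mp p.2.2.2
        refine ⟨k, ?_⟩
        show (MulAut.conj c p.1.1 * MulAut.conj c p.1.2) ^ k = c * a * c⁻¹
        rw [← map_mul, ← map_zpow, hk, MulAut.conj_apply]
      · intro p q hpq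
        have h := congrArg Subtype.val hpq
        exact Subtype.ext (Prod.ext ((MulAut.conj c).injective (congrArg Prod.fst h))
          ((MulAut.conj c).injective (congrArg Prod.snd h)))
    exact fun a w haw => le_antisymm (hle w a haw.symm) (hle a w haw)
  let B := {u : G // IsConj x₁ u} × {v : G // IsConj x₂ v}
  let F : ((Σ w : {w : G // IsConj x₁ w}, A w) ⊕ (Σ w : {w : G // IsConj x₂ w}, A w)) → B :=
    Sum.elim (fun s => (⟨s.2.1.1, s.2.2.1⟩, ⟨s.2.1.2, s.2.2.2.1⟩))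
      (fun s => (⟨s.2.1.1, s.2.2.1⟩, ⟨s.2.1.2, s.2.2.2.1⟩))
  have huniq : ∀ {w w' : G} (p : A w) (q : A w'), orderOf w = 2 → orderOf w' = 2 →
      p.1 = q.1 → w = w' := by
    intro w w' p q hw hw' hpq
    rw [half_unique (heven p.2.1 p.2.2.1) hw p.2.2.2, half_unique (heven q.2.1 q.2.2.1) hw' q.2.2.2,
      hpq]
  have hval : ∀ {w w' : G} (p : A w) (q : A w'),
      ((⟨p.1.1, p.2.1⟩, ⟨p.1.2, p.2.2.1⟩) : B) = (⟨q.1.1, q.2.1⟩, ⟨q.1.2, q.2.2.1⟩) → p.1 = q.1 := by
    intro w w' p q h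
    exact Prod.ext (congrArg (fun b => (Prod.fst b).1) h) (congrArg (fun b => (Prod.snd b).1) h)
  have hF : Function.Bijective F := by
    constructor
    · rintro (⟨w, p⟩ | ⟨w, p⟩) (⟨w', q⟩ | ⟨w', q⟩) h <;> have hpq := hval p q h
      · obtain rfl : w = w' := Subtype.ext (huniq p q (hinv h₁ w.2) (hinv h₁ w'.2) hpq)
        rw [Subtype.ext hpq]
      · exact absurd (huniq p q (hinv h₁ w.2) (hinv h₂ w'.2) hpq ▸ w.2)
          (fun h => hnc (h.trans w'.2.symm))
      · exact absurd ((huniq p q (hinv h₂ w.2) (hinv h₁ w'.2) hpq).symm ▸ w'.2)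
          (fun h => hnc (h.trans w.2.symm))
      · obtain rfl : w = w' := Subtype.ext (huniq p q (hinv h₂ w.2) (hinv h₂ w'.2) hpq)
        rw [Subtype.ext hpq]
    · rintro ⟨u, v⟩
      obtain ⟨hz, -, -⟩ := Cfsg.Agent.Involution.half_power_facts
        (Cfsg.Agent.Involution.sq_of_orderOf_two (hinv h₁ u.2))
        (Cfsg.Agent.Involution.sq_of_orderOf_two (hinv h₂ v.2)) (heven u.2 v.2)
      have hmem := Subgroup.npow_mem_zpowers (u.1 * v.1) (orderOf (u.1 * v.1) / 2)
      rcases hall _ hz with hc | hc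
      · exact ⟨Sum.inl ⟨⟨_, hc⟩, ⟨(u.1, v.1), u.2, v.2, hmem⟩⟩, rfl⟩
      · exact ⟨Sum.inr ⟨⟨_, hc⟩, ⟨(u.1, v.1), u.2, v.2, hmem⟩⟩, rfl⟩
  have hcard := Nat.card_eq_of_bijective F hF
  rw [Nat.card_sum, Nat.card_sigma, Nat.card_sigma, Nat.card_prod,
    Finset.sum_congr rfl (fun (w : {w : G // IsConj x₁ w}) _ => hA x₁ w.1 w.2),
    Finset.sum_congr rfl (fun (w : {w : G // IsConj x₂ w}) _ => hA x₂ w.1 w.2),
    Finset.sum_const, Finset.sum_const, Finset.card_univ, Finset.card_univ, smul_eq_mul, smul_eq_mul,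
    ← Nat.card_eq_fintype_card, ← Nat.card_eq_fintype_card,
    Cfsg.Agent.Involution.card_conjugates, Cfsg.Agent.Involution.card_conjugates] at hcard
  have e1 := Subgroup.card_mul_index (Subgroup.centralizer ({x₁} : Set G))
  have e2 := Subgroup.card_mul_index (Subgroup.centralizer ({x₂} : Set G))
  refine Nat.eq_of_mul_eq_mul_left (Nat.card_pos : 0 < Nat.card G) ?_
  set c₁ := Nat.card (Subgroup.centralizer ({x₁} : Set G))
  set c₂ := Nat.card (Subgroup.centralizer ({x₂} : Set G))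
  set m₁ := (Subgroup.centralizer ({x₁} : Set G)).index
  set m₂ := (Subgroup.centralizer ({x₂} : Set G)).index
  calc Nat.card G * Nat.card G = (c₁ * m₁) * (c₂ * m₂) := by rw [e1, e2]
    _ = (c₁ * c₂) * (m₁ * m₂) := by ring
    _ = (c₁ * c₂) * (m₁ * Nat.card (A x₁) + m₂ * Nat.card (A x₂)) := by rw [hcard]
    _ = (c₁ * m₁) * (c₂ * Nat.card (A x₁)) + (c₂ * m₂) * (c₁ * Nat.card (A x₂)) := by ring
    _ = Nat.card G * (c₂ * Nat.card (A x₁) + c₁ * Nat.card (A x₂)) := by rw [e1, e2]; ring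

end Cfsg.Agent.S0213
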