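import Cfsg.Statements.S3377
import Cfsg.Agent.Lib.Presented.A5

set_option autoImplicit false
open Cfsg

namespace Cfsg.Agent.S3377

/-- The alternating group of degree 5 has the presentation ⟨x, y | x³ = 1, y⁵ = 1, (xy)² = 1⟩: the group so presented is isomorphic to Alt(5). -/
theorem result :
    Nonempty (PresentedGroup ({FreeGroup.of (0 : Fin 2) ^ 3, FreeGroup.of (1 : Fin 2) ^ 5,
        (FreeGroup.of (0 : Fin 2) * FreeGroup.of 1) ^ 2} : Set (FreeGroup (Fin 2))) ≃* alternatingGroup (Fin 5)) := by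
  obtain ⟨a, b, ha, hb, hab, hgen⟩ := Presented.A5.exists_gens
  set R : Set (FreeGroup (Fin 2)) := {FreeGroup.of (0 : Fin 2) ^ 3, FreeGroup.of (1 : Fin 2) ^ 5,
    (FreeGroup.of (0 : Fin 2) * FreeGroup.of 1) ^ 2} with hR
  have hrel : ∀ r ∈ R, PresentedGroup.mk R r = 1 := fun r hr => PresentedGroup.one_of_mem hr
  let x : PresentedGroup R := PresentedGroup.of 0
  let y : PresentedGroup R := PresentedGroup.of 1
  have hxy : Subgroup.closure {x, y} = ⊤ := by
    rw [← PresentedGroup.closure_range_of R]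
    congr 1
    ext z; simp [Fin.exists_fin_two, x, y, eq_comm]
  have h3 : x ^ 3 = 1 := hrel _ (by simp [hR])
  have h5 : y ^ 5 = 1 := hrel _ (by simp [hR])
  have h2 : (x * y) ^ 2 = 1 := hrel _ (by simp [hR])
  have hlift : ∀ r ∈ R, FreeGroup.lift ![a, b] r = 1 := by
    rintro r (rfl | rfl | rfl) <;> simp [ha, hb, hab]
  let f := PresentedGroup.toGroup (rels := R) hlift
  have hf : Function.Surjective f := by
    rw [← MonoidHom.range_eq_top, eq_top_iff, ← hgen, Subgroup.closure_le]
    rintro z (rfl | rfl)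
    · exact ⟨x, PresentedGroup.toGroup.of hlift⟩
    · exact ⟨y, PresentedGroup.toGroup.of hlift⟩
  exact ⟨MulEquiv.ofBijective f (Presented.A5.bijective_of_surjective hxy h3 h5 h2 f hf)⟩

end Cfsg.Agent.S3377
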