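import Cfsg.Statements.S0254
import Cfsg.Agent.S3377
import Cfsg.Agent.Lib.PSL2.SmallIso

set_option autoImplicit false
open Cfsg

namespace Cfsg.Agent.S0254

variable {F : Type*} [Field F] [Fintype F]

open Matrix Cfsg.Agent.PSL2
open scoped MatrixGroups

/-- A root of `X ^ 2 - X - 1` in the field of nine elements. -/
theorem exists_root (hF : Fintype.card F = 9) : ∃ u : F, u * u = u + 1 := by
  obtain ⟨g, hg⟩ := IsCyclic.exists_ofOrder_eq_natCard (α := Fˣ)
  have h8 : orderOf g = 8 := by
    rw [hg, Nat.card_units, Nat.card_eq_fintype_card, hF]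
  have h4 : ((g : F) ^ 4) ^ 2 = 1 := by
    rw [← pow_mul, ← Units.val_pow_eq_pow_val, show 4 * 2 = orderOf g by rw [h8],
      pow_orderOf_eq_one, Units.val_one]
  have h4' : (g : F) ^ 4 ≠ 1 := fun h => by
    have h' : g ^ 4 = 1 := Units.ext (by rw [Units.val_pow_eq_pow_val, h, Units.val_one])
    have := orderOf_dvd_of_pow_eq_one h'
    rw [h8] at this
    omega
  have h3 : (3 : F) = 0 := by
    have := Nat.cast_card_eq_zero F
    rw [hF] at this
    have h9 : (3 : F) * 3 = 0 := by push_cast at this; linear_combination this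
    exact mul_self_eq_zero.mp h9
  have hneg : (g : F) ^ 4 = -1 := by
    rcases mul_eq_zero.1 (show ((g : F) ^ 4 - 1) * ((g : F) ^ 4 + 1) = 0 by linear_combination h4)
      with h | h
    · exact absurd (sub_eq_zero.1 h) h4'
    · exact eq_neg_of_add_eq_zero_left h
  rcases mul_eq_zero.1 (show ((g : F) ^ 2 - g - 1) * ((g : F) ^ 2 + g - 1) = 0 by
    linear_combination hneg - (g : F) ^ 2 * h3) with h | h
  · exact ⟨g, by linear_combination h⟩
  · exact ⟨-(g : F), by linear_combination h⟩

omit [Fintype F] in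
theorem pow_five {u : F} (hu : u * u = u + 1) : (ll (-u) * ww : SL(2, F)) ^ 5 = 1 := by
  simp only [pow_succ, pow_zero, one_mul]
  have e00 : (ll (-u) * ww : SL(2, F)) 0 0 = 0 := by rw [mul00]; simp [ll, ww]
  have e01 : (ll (-u) * ww : SL(2, F)) 0 1 = 1 := by rw [mul01]; simp [ll, ww]
  have e10 : (ll (-u) * ww : SL(2, F)) 1 0 = -1 := by rw [mul10]; simp [ll, ww]
  have e11 : (ll (-u) * ww : SL(2, F)) 1 1 = -u := by rw [mul11]; simp [ll, ww]
  generalize (ll (-u) * ww : SL(2, F)) = M at e00 e01 e10 e11 ⊢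
  apply ext2 <;> simp only [mul00, mul01, mul10, mul11, e00, e01, e10, e11] <;> simp <;> grind

omit [Fintype F] in
theorem pow_three {u : F} (h3 : (3 : F) = 0) : (ll u : SL(2, F)) ^ 3 = 1 := by
  simp only [pow_succ, pow_zero, one_mul, ll_mul_ll]
  rw [show u + u + u = 0 by linear_combination u * h3]
  ext i j
  fin_cases i <;> fin_cases j <;> simp [ll]


/-- PSL_2(9) is isomorphic to A_6. -/
theorem result {F : Type*} [Field F] [Fintype F] (hF : Fintype.card F = 9) : Nonempty (Matrix.ProjectiveSpecialLinearGroup (Fin 2) F ≃* alternatingGroup (Fin 6)) := by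
  obtain ⟨u, hu⟩ := exists_root hF
  have h3 : (3 : F) = 0 := by
    have := Nat.cast_card_eq_zero F
    rw [hF] at this
    have h9 : (3 : F) * 3 = 0 := by push_cast at this; linear_combination this
    exact mul_self_eq_zero.mp h9
  have h2 : (2 : F) ≠ 0 := by rw [← odd_card_iff, hF]; decide
  have hcard : Nat.card PSL(2, F) = 360 := by
    have := two_mul_card_PSL (F := F) h2
    rw [hF] at this
    omega
  have : IsSimpleGroup PSL(2, F) := psl_isSimpleGroup (by omega)
  have hnc : ¬ IsMulCommutative PSL(2, F) := fun hc =>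
    GL.PSL_not_comm 2 le_rfl (fun _ => by rw [Nat.card_eq_fintype_card, hF]; norm_num)
      fun a b => hc.is_comm.comm a b
  set R : Set (FreeGroup (Fin 2)) := {FreeGroup.of (0 : Fin 2) ^ 3, FreeGroup.of (1 : Fin 2) ^ 5,
    (FreeGroup.of (0 : Fin 2) * FreeGroup.of 1) ^ 2} with hR
  have hrel : ∀ r ∈ R, FreeGroup.lift ![mk (ll u : SL(2, F)), mk (ll (-u) * ww)] r = 1 := by
    rintro r (rfl | rfl | rfl)
    · simp only [map_pow, FreeGroup.lift_apply_of, Matrix.cons_val_zero]
      rw [← map_pow, pow_three h3, map_one]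
    · simp only [map_pow, FreeGroup.lift_apply_of, Matrix.cons_val_one, Matrix.cons_val_zero]
      rw [← map_pow, pow_five hu, map_one]
    · simp only [map_pow, map_mul, FreeGroup.lift_apply_of, Matrix.cons_val_one, Matrix.cons_val_zero]
      rw [← mul_assoc (mk (ll u)), ← map_mul, ll_mul_ll, add_neg_cancel,
        show (ll 0 : SL(2, F)) = 1 by ext i j; fin_cases i <;> fin_cases j <;> simp [ll],
        map_one, one_mul, ← map_pow, sq, ww_mul_self, mk_neg_one]
  obtain ⟨e⟩ : Nonempty (PresentedGroup R ≃* alternatingGroup (Fin 5)) := S3377.result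
  let f : alternatingGroup (Fin 5) →* PSL(2, F) :=
    (PresentedGroup.toGroup hrel).comp e.symm.toMonoidHom
  have := alternatingGroup.isSimpleGroup_five
  have hf : Function.Injective f := by
    refine SmallSimple.injective_of_simple f ⟨e (PresentedGroup.of 0), fun this => ?_⟩
    simp only [f, MonoidHom.comp_apply, MulEquiv.coe_toMonoidHom, MulEquiv.symm_apply_apply,
      PresentedGroup.toGroup.of, Matrix.cons_val_zero] at this
    have hu0 : u ≠ 0 := fun h => by rw [h] at hu; simp at hu
    rcases mk_eq_one.1 this with h | h <;>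
      · have h10 := congrArg (fun m : SL(2, F) => m 1 0) h
        simp [ll, hu0] at h10
  refine SmallSimple.iso_alternating_of_index hnc (H := f.range) (n := 6) ?_ (by norm_num)
    (by rw [hcard]; rfl)
  have h60 : Nat.card f.range = 60 := by
    rw [← Nat.card_congr (MonoidHom.ofInjective hf).toEquiv, nat_card_alternatingGroup, Nat.card_fin]
    rfl
  have := f.range.card_mul_index
  rw [h60, hcard] at this
  omega

end Cfsg.Agent.S0254
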