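import Cfsg.Statements.S1205
import Cfsg.Agent.Lib.QDFusion.IndexTwo

set_option autoImplicit false
open Cfsg

namespace Cfsg.Agent.S1205

/-- Let G be a finite group with quasi-dihedral Sylow 2-subgroup S, T a Klein four-subgroup and Q a quaternion subgroup of order 8 of S, with |N_G(T) : C_G(T)| = 2 and |N_G(Q) : Q C_G(Q)| = 6. Then G has a normal subgroup K of index 2 whose Sylow 2-subgroups are generalized quaternion and which has no subgroup of index 2; the centre of S is weakly closed in S; and G has exactly two classes of involutions and one class of elements of order 4. -/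
theorem result {G : Type*} [Group G] [Finite G] (S : Sylow 2 G) (hS : Cfsg.IsQuasiDihedral (S : Subgroup G)) (T : Subgroup G) (hT : IsKleinFour T) (hTS : T ≤ S) (Q : Subgroup G) (hQS : Q ≤ S) (eQ : Q ≃* QuaternionGroup 2) (h₁ : (Subgroup.centralizer (T : Set G)).relIndex (Subgroup.normalizer (T : Set G)) = 2) (h₂ : (Q ⊔ Subgroup.centralizer (Q : Set G)).relIndex (Subgroup.normalizer (Q : Set G)) = 6) : (∃ K : Subgroup G, K.Normal ∧ K.index = 2 ∧ (∀ P : Sylow 2 ↥K, ∃ m : ℕ, 1 ≤ m ∧ Nonempty ((P : Subgroup ↥K) ≃* QuaternionGroup (2 ^ m))) ∧ (∀ H : Subgroup ↥K, H.index ≠ 2)) ∧ Cfsg.IsWeaklyClosed ((Subgroup.center (S : Subgroup G)).map (S : Subgroup G).subtype) (S : Subgroup G) ∧ Nat.card {C : ConjClasses G // ∃ t : G, orderOf t = 2 ∧ ConjClasses.mk t = C} = 2 ∧ Nat.card {C : ConjClasses G // ∃ t : G, orderOf t = 4 ∧ ConjClasses.mk t = C} = 1 := by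
  obtain ⟨x, y, m, h⟩ := TwoGroups.exists_qdGen hS
  have hne := QDFusion.not_isConj_zz_of_two h hT hTS h₁
  have hone : ∀ u : G, orderOf u = 4 → IsConj u ((QDFusion.aa x m : ↥(S : Subgroup G)) : G) :=
    fun u hu => QDFusion.isConj_aa_of_six h eQ hQS h₂ hu
  obtain ⟨M, hMn, hM, hyM⟩ := QDFusion.exists_index_two_missing_involution h hne
  haveI := hMn
  have haM : ((QDFusion.aa x m : ↥(S : Subgroup G)) : G) ∈ M :=
    QDFusion.x_even_mem h hM (dvd_mul_of_dvd_left (by norm_num) _)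
  have hbM : ((x ^ (1 : ℤ) * y : ↥(S : Subgroup G)) : G) ∈ M := by
    obtain ⟨g, hg⟩ := isConj_iff.mp (hone _ (QDFusion.orderOf_xy_odd h (e := 1) (by norm_num))).symm
    rw [← hg]
    exact hMn.conj_mem _ haM g
  have hmem := QDFusion.mem_iff_mem_part h hM (e := 1) (d := 0) (by norm_num) hbM hyM
  refine ⟨⟨M, hMn, hM, fun P => ?_, fun L hL => ?_⟩, ⟨Subgroup.map_subtype_le _, fun g hg => ?_⟩,
    QDFusion.card_classes_two (QDFusion.orderOf_zz h) (QDFusion.orderOf_xy_even h (dvd_zero _)) hne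
      fun u hu => QDFusion.isConj_involution h hu,
    QDFusion.card_classes_one (QDFusion.orderOf_aa h) hone⟩
  · obtain ⟨e₁⟩ := QDFusion.nonempty_equiv_part h hmem P
    obtain ⟨e₂⟩ := QDFusion.nonempty_part_equiv_quaternion h
    exact ⟨m + 1, by omega, ⟨e₁.trans e₂⟩⟩
  swap
  · -- weak closure of the centre
    rw [h.center_eq, MonoidHom.map_zpowers] at hg ⊢
    rw [MonoidHom.map_zpowers] at hg ⊢
    congr 1
    set w : G := ((QDFusion.zz x m : ↥(S : Subgroup G)) : G) with hw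
    have hgS : g * w * g⁻¹ ∈ (S : Subgroup G) := hg (Subgroup.mem_zpowers _)
    have ho : orderOf (⟨_, hgS⟩ : ↥(S : Subgroup G)) = 2 := by
      rw [Subgroup.orderOf_mk, ← MulAut.conj_apply, MulEquiv.orderOf_eq, hw, QDFusion.orderOf_zz h]
    rcases QDFusion.eq_zz_or_xy h ho with e | ⟨i, hi, e⟩
    · exact congrArg Subtype.val e
    · exact absurd ((isConj_iff.mpr ⟨g, congrArg Subtype.val e⟩ : IsConj w _).trans
        (QDFusion.isConj_xy h (i' := 0) (by simpa using hi.neg_right))) hne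
  -- no subgroup of index two
  set L' := L.map M.subtype with hL'
  set a : G := ((QDFusion.aa x m : ↥(S : Subgroup G)) : G) with ha
  have hsq : ∀ g ∈ M, g ^ 2 ∈ L' := fun g hg => ⟨_, Subgroup.sq_mem_of_index_two hL ⟨g, hg⟩, rfl⟩
  have hzL : ((QDFusion.zz x m : ↥(S : Subgroup G)) : G) ∈ L' := by
    have e : QDFusion.zz x m = (QDFusion.aa x m) ^ 2 := by
      rw [← zpow_natCast, ← zpow_mul]; exact congrArg (x ^ ·) (by push_cast; ring)
    rw [e, Subgroup.coe_pow]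
    exact hsq _ haM
  -- each element `x ^ i * y`, `i` odd, is congruent to `a` or to `a⁻¹`
  have hcong : ∀ i : ℤ, ¬ 2 ∣ i → ((x ^ i * y : ↥(S : Subgroup G)) : G) * a⁻¹ ∈ L' := by
    intro i hi
    obtain ⟨g, hg⟩ := isConj_iff.mp (hone _ (QDFusion.orderOf_xy_odd h hi)).symm
    by_cases hgM : g ∈ M
    · have h1 : g * a * g⁻¹ * a⁻¹ ∈ L' :=
        ⟨_, QDFusion.mul_inv_mem_of_conj hL ⟨g, hgM⟩ ⟨a, haM⟩, rfl⟩
      rwa [hg] at h1
    · set t : G := ((x ^ (0 : ℤ) * y : ↥(S : Subgroup G)) : G) with ht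
      have hgt : g * t ∈ M := (Subgroup.mul_mem_iff_of_index_two hM).mpr (iff_of_false hgM hyM)
      have h1 : (g * t) * a⁻¹ * (g * t)⁻¹ * a⁻¹⁻¹ ∈ L' :=
        ⟨_, QDFusion.mul_inv_mem_of_conj hL ⟨_, hgt⟩ ⟨a⁻¹, M.inv_mem haM⟩, rfl⟩
      have e1 : t * a⁻¹ * t⁻¹ = a := by
        have e0 : t * a * t⁻¹ = a⁻¹ := congrArg Subtype.val (QDFusion.xy_inverts_aa h (0 : ℤ))
        calc t * a⁻¹ * t⁻¹ = (t * a * t⁻¹)⁻¹ := by group
          _ = a := by rw [e0, inv_inv]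
      have e2 : g * t * a⁻¹ * (g * t)⁻¹ = ((x ^ i * y : ↥(S : Subgroup G)) : G) := by
        calc g * t * a⁻¹ * (g * t)⁻¹ = g * (t * a⁻¹ * t⁻¹) * g⁻¹ := by group
          _ = _ := by rw [e1, hg]
      rw [e2, inv_inv] at h1
      have h2 := L'.mul_mem h1 (L'.inv_mem (hsq a haM))
      have e3 : ((x ^ i * y : ↥(S : Subgroup G)) : G) * a * (a ^ 2)⁻¹ =
          ((x ^ i * y : ↥(S : Subgroup G)) : G) * a⁻¹ := by group
      rwa [e3] at h2
  -- `x ^ 2` lies in `L'`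
  have hxx : ((x ^ (2 : ℤ) : ↥(S : Subgroup G)) : G) ∈ L' := by
    have h1 := L'.mul_mem (hcong 1 (by norm_num)) (L'.inv_mem (hcong (-1) (by norm_num)))
    have e : ((x ^ (1 : ℤ) * y : ↥(S : Subgroup G)) : G) * a⁻¹ *
        (((x ^ (-1 : ℤ) * y : ↥(S : Subgroup G)) : G) * a⁻¹)⁻¹ = ((x ^ (2 : ℤ) : ↥(S : Subgroup G)) : G) := by
      simp only [Subgroup.coe_mul, Subgroup.coe_zpow]
      group
      simp [pow_two, zpow_two]
    rwa [e] at h1
  have hE : ∀ i : ℤ, 2 ∣ i → ((x ^ i : ↥(S : Subgroup G)) : G) ∈ L' := by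
    rintro _ ⟨c, rfl⟩
    rw [zpow_mul, Subgroup.coe_zpow]
    exact L'.zpow_mem hxx c
  refine QDFusion.false_of_part_le h hmem hL fun g hg => ?_
  obtain ⟨i, rfl | rfl⟩ := h.exists_form g
  · exact hE i ((h.x_mem_part _).1 hg)
  · have hi : ¬ (2 : ℤ) ∣ i := by
      have := (h.xy_mem_part _).1 hg
      omega
    have h1 := L'.mul_mem (hcong i hi) (hE ((2 : ℤ) * 2 ^ m) (dvd_mul_right _ _) : a ∈ L')
    rwa [inv_mul_cancel_right] at h1

end Cfsg.Agent.S1205
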