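import Cfsg.Statements.S2602
import Cfsg.Agent.Lib.AutPSLOuter.Outer

set_option autoImplicit false
open Cfsg

namespace Cfsg.Agent.S2602

/-- Structure of the outer automorphism group of PSL_2(q), q = p^f ≥ 4: it has a normal cyclic subgroup of order gcd(2, q − 1) (diagonal automorphisms) with cyclic quotient of order f (field automorphisms); there is no graph automorphism in dimension 2. -/
theorem result {F : Type*} [Field F] [Fintype F] {p f : ℕ} [Fact p.Prime] (hf : 1 ≤ f) (hF : Fintype.card F = p ^ f) (h4 : 4 ≤ p ^ f) : ∃ φ : Cfsg.Out (Matrix.ProjectiveSpecialLinearGroup (Fin 2) F) →* Multiplicative (ZMod f), Function.Surjective φ ∧ IsCyclic φ.ker ∧ Nat.card φ.ker = Nat.gcd 2 (p ^ f - 1) := by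
  have hI : ∃ w : GL (Fin (1 + 1)) F, (AutPSL.invP : MulAut (Matrix.ProjectiveSpecialLinearGroup (Fin (1 + 1)) F)) =
      AutPSL.conjP w := by
    refine ⟨⟨!![0, 1; -1, 0], !![0, -1; 1, 0], by ext i j; fin_cases i <;> fin_cases j <;> simp,
      by ext i j; fin_cases i <;> fin_cases j <;> simp⟩,
      MulEquiv.ext fun x => ?_⟩
    induction x using QuotientGroup.induction_on with
    | _ s =>
      rw [AutPSL.invP_mk, AutPSL.conjP_mk]
      refine congrArg QuotientGroup.mk (Subtype.ext ?_)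
      rw [AutPSL.invT_coe, AutPSL.conjSL_coe, Matrix.SpecialLinearGroup.coe_inv, Matrix.adjugate_fin_two]
      ext i j
      fin_cases i <;> fin_cases j <;> simp [Matrix.mul_apply, Fin.sum_univ_two, Matrix.vecMul, dotProduct]
  obtain ⟨w, hw⟩ := hI
  obtain ⟨φ, hφ, hker⟩ := AutPSLOuter.exists_out_hom (F := F) (le_refl 1) AutPSLOuter.fieldHom
    (fun σ g h => (AutPSLOuter.eq_one_of_conjP_mul_fieldP (le_refl 1) g⁻¹ σ
      (by rw [show (AutPSL.fieldP σ : MulAut (Matrix.ProjectiveSpecialLinearGroup (Fin (1 + 1)) F)) = AutPSL.conjP g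
            from h, ← map_mul, inv_mul_cancel, map_one])).1)
    (fun β => by
      obtain ⟨g, σ, γ, hγ, rfl⟩ := AutPSL.exists_decomposition (le_refl 1) β
      rcases hγ with rfl | rfl
      · exact ⟨g, σ, mul_one _⟩
      · refine ⟨g * Units.map σ.toRingHom.mapMatrix.toMonoidHom w, σ, ?_⟩
        rw [hw, mul_assoc, AutPSLOuter.fieldP_mul_conjP, ← mul_assoc, ← map_mul]
        rfl)
  obtain ⟨e⟩ := AutPSLOuter.exists_fieldAut_iso hf hF
  refine ⟨e.toMonoidHom.comp φ, e.surjective.comp hφ, ?_⟩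
  have hk : (e.toMonoidHom.comp φ).ker = φ.ker := MonoidHom.ker_mulEquiv_comp φ e
  rw [hk, hker]
  obtain ⟨hc, hcard⟩ := AutPSLOuter.diag_card_cyclic (F := F) (le_refl 1)
  exact ⟨hc, by rw [hcard, Nat.card_eq_fintype_card, hF]⟩

end Cfsg.Agent.S2602
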