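import Cfsg.Statements.S2759
import Cfsg.Agent.Lib.PComplement.SFour
import Cfsg.Agent.Lib.Quadratic.SectionFree
import Cfsg.Agent.Lib.PGroup.Frattini
-- import your own Cfsg.Agent.* helpers here

set_option autoImplicit false
open Cfsg

namespace Cfsg.Agent.S2759

section

open Subgroup
open scoped commutatorElement

universe u

/-- An element acting as an element of order `3` on an elementary abelian 2-group, inverted by a
2-element. -/
theorem involves_of_inverted {G : Type u} [Group G] [Finite G] (V : Subgroup G)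
    (hc2 : ∀ x ∈ V, ∀ y ∈ V, x * y = y * x) (hsq : ∀ x ∈ V, x * x = 1) {c s : G}
    (hcV : c ∈ normalizer (V : Set G)) (hsV : s ∈ normalizer (V : Set G))
    (hcne : c ∉ centralizer (V : Set G)) (hc3 : c ^ 3 ∈ centralizer (V : Set G))
    (hinv : s * c * s⁻¹ * c ∈ centralizer (V : Set G)) (hs : ∃ k, s ^ 2 ^ k = 1) :
    Cfsg.Involves (Equiv.Perm (Fin 4)) G := by
  set γ : G → G := fun x => c * x * c⁻¹ with hγ
  set τ : G → G := fun x => s * x * s⁻¹ with hτ
  have hγV : ∀ x ∈ V, γ x ∈ V := fun x hx => (mem_normalizer_iff.1 hcV x).1 hx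
  have hτV : ∀ x ∈ V, τ x ∈ V := fun x hx => (mem_normalizer_iff.1 hsV x).1 hx
  have hγm : ∀ x y, γ (x * y) = γ x * γ y := fun x y => by simp [hγ, mul_assoc]
  have hτm : ∀ x y, τ (x * y) = τ x * τ y := fun x y => by simp [hτ, mul_assoc]
  have hγ3 : ∀ x ∈ V, γ (γ (γ x)) = x := fun x hx => by
    have h1 := mem_centralizer_iff.1 hc3 x hx
    calc γ (γ (γ x)) = c ^ 3 * x * (c ^ 3)⁻¹ := by simp [hγ, pow_succ, mul_assoc]
      _ = x := by rw [← h1, mul_inv_cancel_right]
  have hrel : ∀ x ∈ V, τ (γ x) = γ (γ (τ x)) := by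
    intro x hx
    have h1 := mem_centralizer_iff.1 hinv (γ (γ (τ x))) (hγV _ (hγV _ (hτV _ hx)))
    have h2 : γ (γ (γ (τ x))) = τ x := hγ3 _ (hτV _ hx)
    have h3 : τ (γ x) = s * c * s⁻¹ * c * (γ (γ (τ x))) * (s * c * s⁻¹ * c)⁻¹ := by
      calc τ (γ x) = s * c * s⁻¹ * τ x * (s * c * s⁻¹)⁻¹ := by simp [hγ, hτ, mul_assoc]
        _ = s * c * s⁻¹ * γ (γ (γ (τ x))) * (s * c * s⁻¹)⁻¹ := by rw [h2]
        _ = _ := by simp [hγ, mul_assoc]
    rw [h3, ← h1, mul_inv_cancel_right]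
  have hcomm4 : ∀ x ∈ V, ∀ y ∈ V, ∀ z ∈ V, ∀ w ∈ V, x * y * (z * w) = x * z * (y * w) :=
    fun x _ y hy z hz w _ => by rw [mul_assoc, mul_assoc, ← mul_assoc y, hc2 y hy z hz, mul_assoc]
  -- the fixed-point-free part
  let W : Subgroup G :=
    { carrier := {x | x ∈ V ∧ x * (γ x * γ (γ x)) = 1}
      one_mem' := ⟨V.one_mem, by simp [hγ]⟩
      mul_mem' := by
        rintro x y ⟨hx, hx1⟩ ⟨hy, hy1⟩
        refine ⟨V.mul_mem hx hy, ?_⟩
        rw [hγm, hγm, hcomm4 _ (hγV _ hx) _ (hγV _ hy) _ (hγV _ (hγV _ hx)) _ (hγV _ (hγV _ hy)),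
          hcomm4 _ hx _ hy _ (V.mul_mem (hγV _ hx) (hγV _ (hγV _ hx))) _
            (V.mul_mem (hγV _ hy) (hγV _ (hγV _ hy))), hx1, hy1, one_mul]
      inv_mem' := by
        rintro x ⟨hx, hx1⟩
        rw [inv_eq_of_mul_eq_one_right (hsq x hx)]
        exact ⟨hx, hx1⟩ }
  obtain ⟨v, hv, hvne⟩ : ∃ v ∈ V, γ v ≠ v := by
    by_contra hno
    push Not at hno
    exact hcne (mem_centralizer_iff.2 fun v hv => (mul_inv_eq_iff_eq_mul.1 (hno v hv)).symm)
  have hd : v * γ v ∈ W := by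
    refine ⟨V.mul_mem hv (hγV _ hv), ?_⟩
    rw [hγm v (γ v), hγm (γ v) (γ (γ v)), hγ3 v hv]
    calc v * γ v * (γ v * γ (γ v) * (γ (γ v) * v))
        = v * (γ v * γ v) * ((γ (γ v) * γ (γ v)) * v) := by simp [mul_assoc]
      _ = 1 := by rw [hsq _ (hγV _ hv), hsq _ (hγV _ (hγV _ hv)), mul_one, one_mul, hsq v hv]
  have hd1 : v * γ v ≠ 1 := fun h =>
    hvne (mul_left_cancel (h.trans (hsq v hv).symm))
  have hτW : ∀ x ∈ W, τ x ∈ W := by
    rintro x ⟨hx, hx1⟩
    refine ⟨hτV x hx, ?_⟩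
    have h1 := congrArg τ hx1
    rw [hτm, hτm, hrel _ (hγV _ hx), hrel x hx, hγ3 _ (hγV _ (hτV _ hx)),
      show τ 1 = 1 by simp [hτ]] at h1
    rwa [hc2 _ (hγV _ (hτV _ hx)) _ (hγV _ (hγV _ (hτV _ hx)))]
  -- a point of `W` fixed by `s`
  obtain ⟨k, hk⟩ := hs
  haveI : Fact (Nat.Prime 2) := ⟨Nat.prime_two⟩
  let P : Subgroup G := zpowers s
  have hτWn : s ∈ normalizer (W : Set G) := by
    refine mem_normalizer_iff.2 fun x => ⟨hτW x, fun hx => ?_⟩
    have : ∀ n : ℕ, ∀ y ∈ W, s ^ n * y * (s ^ n)⁻¹ ∈ W := by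
      intro n
      induction n with
      | zero => simp
      | succ n ih =>
        intro y hy
        rw [pow_succ']
        simpa [hτ, mul_assoc] using hτW _ (ih y hy)
    have h2 := this (2 ^ k - 1) _ hx
    have hs' : s ^ (2 ^ k - 1) = s⁻¹ := by
      refine eq_inv_of_mul_eq_one_left ?_
      rw [← pow_succ, Nat.sub_add_cancel Nat.one_le_two_pow, hk]
    rw [hs'] at h2
    simpa [mul_assoc] using h2
  letI : MulAction ↥P ↥W :=
    { smul := fun g x => ⟨(g : G) * x * (g : G)⁻¹,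
        (mem_normalizer_iff.1 (zpowers_le.2 hτWn g.2) _).1 x.2⟩
      one_smul := fun x => Subtype.ext (show (1 : G) * x * (1 : G)⁻¹ = x by simp)
      mul_smul := fun g g' x => Subtype.ext (show ((g : G) * g') * x * ((g : G) * g')⁻¹ =
        (g : G) * ((g' : G) * x * (g' : G)⁻¹) * (g : G)⁻¹ by group) }
  have hP : IsPGroup 2 ↥P := by
    intro g
    obtain ⟨i, hi⟩ := g.2
    refine ⟨k, Subtype.ext ?_⟩
    rw [Subgroup.coe_pow, ← hi, Subgroup.coe_one]
    show (s ^ i) ^ 2 ^ k = 1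
    rw [← zpow_natCast, ← zpow_mul, mul_comm, zpow_mul, zpow_natCast, hk, one_zpow]
  have hW2 : 2 ∣ Nat.card ↥W := by
    have h1 : orderOf (v * γ v) = 2 := orderOf_eq_prime (by rw [sq, hsq _ hd.1]) hd1
    rw [← h1]; exact orderOf_dvd_natCard W hd
  have hfix1 : (1 : ↥W) ∈ MulAction.fixedPoints ↥P ↥W := fun g => Subtype.ext (by
    show (g : G) * 1 * (g : G)⁻¹ = 1
    simp)
  obtain ⟨w, hw, hw1⟩ := hP.exists_fixed_point_of_prime_dvd_card_of_fixed_point ↥W hW2 hfix1
  have hwτ : τ w = w := congrArg Subtype.val (hw ⟨s, mem_zpowers s⟩)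
  obtain ⟨hwV, hwW⟩ := w.2
  have hw1' : (w : G) ≠ 1 := fun h => hw1 (Subtype.ext h.symm)
  have hww := hsq _ hwV
  have hγw : γ w ≠ w := by
    intro h
    rw [h, h, hww, mul_one] at hwW
    exact hw1' hwW
  have hγw1 : γ w ≠ 1 := fun h => hw1' (by simpa [hγ] using h)
  have hγ2 : γ (γ w) = w * γ w := by
    have h1 := congrArg (fun y => (w : G) * γ w * y) (hsq _ (hγV _ (hγV _ hwV)))
    simp only [mul_one] at h1
    rw [← h1, ← mul_assoc, mul_assoc _ (γ w), hwW, one_mul]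
  -- the four-group
  let M : Subgroup G :=
    { carrier := {1, (w : G), γ w, (w : G) * γ w}
      one_mem' := by simp
      mul_mem' := by
        have hzz := hsq _ (hγV _ hwV)
        have hcw := hc2 _ (hγV _ hwV) _ hwV
        have e1 : ∀ x : G, (w : G) * ((w : G) * x) = x := fun x => by
          rw [← mul_assoc, hww, one_mul]
        have e2 : ∀ x : G, γ w * (γ w * x) = x := fun x => by rw [← mul_assoc, hzz, one_mul]
        have e3 : ∀ x : G, γ w * ((w : G) * x) = (w : G) * (γ w * x) := fun x => by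
          rw [← mul_assoc, hcw, mul_assoc]
        intro a b ha hb
        rcases ha with rfl | rfl | rfl | rfl <;> rcases hb with rfl | rfl | rfl | rfl <;>
          simp [mul_assoc, hww, hzz, hcw, e1, e2, e3]
      inv_mem' := by
        intro a ha
        have : a * a = 1 := by
          rcases ha with rfl | rfl | rfl | rfl
          exacts [one_mul 1, hww, hsq _ (hγV _ hwV), hsq _ (V.mul_mem hwV (hγV _ hwV))]
        rwa [inv_eq_of_mul_eq_one_right this] }
  have hMV : ∀ a ∈ M, a ∈ V := by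
    rintro a (rfl | rfl | rfl | rfl)
    exacts [V.one_mem, hwV, hγV _ hwV, V.mul_mem hwV (hγV _ hwV)]
  have hcard : Nat.card ↥M = 4 := by
    show Set.ncard ({1, (w : G), γ w, (w : G) * γ w} : Set G) = 4
    have n1 : (w : G) * γ w ≠ 1 := fun h => hγw (mul_left_cancel (h.trans hww.symm))
    rw [Set.ncard_insert_of_notMem, Set.ncard_insert_of_notMem, Set.ncard_pair]
    · exact fun h => hw1' (mul_eq_right.1 h.symm)
    · simp [Ne.symm hγw, hγw1]
    · simp [Ne.symm hw1', Ne.symm hγw1, Ne.symm n1]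
  have hγM : ∀ a ∈ M, γ a ∈ M := by
    rintro a (rfl | rfl | rfl | rfl)
    · left; simp [hγ]
    · right; right; left; rfl
    · right; right; right; exact hγ2
    · right; left
      rw [hγm, hγ2, hc2 _ (hγV _ hwV) _ (V.mul_mem hwV (hγV _ hwV)), mul_assoc, hsq _ (hγV _ hwV),
        mul_one]
  have hτγ : τ (γ w) = (w : G) * γ w := by rw [hrel _ hwV, hwτ, hγ2]
  have hτM : ∀ a ∈ M, τ a ∈ M := by
    rintro a (rfl | rfl | rfl | rfl)
    · left; simp [hτ]
    · right; left; exact hwτ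
    · right; right; right; exact hτγ
    · right; right; left
      rw [hτm, hwτ, hτγ, ← mul_assoc, hww, one_mul]
  have hnorm : ∀ g : G, (∀ a ∈ M, g * a * g⁻¹ ∈ M) → g ∈ normalizer (M : Set G) := by
    intro g hg
    have hfin : M.map (MulAut.conj g).toMonoidHom = M := by
      refine eq_of_le_of_card_ge ?_ (card_map_of_injective (MulAut.conj g).injective).ge
      rintro _ ⟨a, ha, rfl⟩
      exact hg a ha
    refine mem_normalizer_iff.2 fun a => ⟨hg a, fun ha => ?_⟩
    obtain ⟨b, hb, hba⟩ := hfin.ge ha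
    have : b = a := (MulAut.conj g).injective (hba.trans rfl)
    exact this ▸ hb
  refine PComplement.involves_sfour M hcard (hnorm c hγM) (hnorm s hτM) (fun a ha hca => ?_)
    ⟨w, Or.inr (Or.inl rfl), hw1', (mul_inv_eq_iff_eq_mul.1 hwτ : s * w = w * s)⟩ (fun h => ?_)
  · have hfix : γ a = a := mul_inv_eq_iff_eq_mul.2 hca.eq
    rcases ha with rfl | rfl | rfl | rfl
    · rfl
    · exact absurd hfix hγw
    · rw [hγ2] at hfix
      exact absurd (mul_eq_right.1 hfix) hw1'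
    · rw [hγm, hγ2, hc2 _ (hγV _ hwV) _ (V.mul_mem hwV (hγV _ hwV)), mul_assoc,
        hsq _ (hγV _ hwV), mul_one] at hfix
      exact absurd (left_eq_mul.1 hfix) hγw1
  · have h1 : τ (γ w) = γ w := mul_inv_eq_iff_eq_mul.2 (h _ (Or.inr (Or.inr (Or.inl rfl)))).eq
    rw [hτγ] at h1
    exact hw1' (mul_eq_right.1 h1)

theorem involves_of_normal {G : Type u} [Group G] [Finite G] (T : Subgroup G) [T.Normal]
    (hT : IsPGroup 2 ↥T) (K : Subgroup G) (φ : ↥K →* Equiv.Perm (Fin 3))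
    (hφ : Function.Surjective φ) (hker : ∀ x : ↥K, (x : G) ∈ centralizer (T : Set G) → φ x = 1) :
    Cfsg.Involves (Equiv.Perm (Fin 4)) G := by
  haveI : Fact (Nat.Prime 2) := ⟨Nat.prime_two⟩
  haveI : Fact (Nat.Prime 3) := ⟨Nat.prime_three⟩
  set C := centralizer (T : Set G) with hC
  haveI hCn : C.Normal := inferInstance
  -- a 3-subgroup with a 2-element acting on it
  set R : Subgroup ↥K := (Equiv.Perm.sign.comp φ).ker with hR
  obtain ⟨Q⟩ := (inferInstance : Nonempty (Sylow 3 ↥R))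
  set Q' : Subgroup ↥K := (Q : Subgroup ↥R).map R.subtype with hQ'
  have hQp : IsPGroup 3 ↥Q' := Q.2.map _
  obtain ⟨y₀, hy₀⟩ := hφ (finRotate 3)
  have hy₀R : y₀ ∈ R := by
    rw [hR, MonoidHom.mem_ker]
    show Equiv.Perm.sign (φ y₀) = 1
    rw [hy₀]; decide
  have hrot : orderOf (finRotate 3 : Equiv.Perm (Fin 3)) = 3 :=
    orderOf_eq_prime (by decide) (by decide)
  obtain ⟨q₁, hq₁, hq₁φ⟩ : ∃ q ∈ Q', φ q = finRotate 3 := by
    obtain ⟨q, hq, hqne⟩ : ∃ q ∈ (Q : Subgroup ↥R), φ (q : ↥K) ≠ 1 := by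
      by_contra hno
      push Not at hno
      have hle : (Q : Subgroup ↥R) ≤ (φ.comp R.subtype).ker := fun x hx => hno x hx
      have h3 : 3 ∣ (φ.comp R.subtype).ker.index := by
        rw [index_ker]
        have h' : orderOf (finRotate 3 : Equiv.Perm (Fin 3)) ∣ Nat.card ↥(φ.comp R.subtype).range :=
          orderOf_dvd_natCard _ ⟨⟨y₀, hy₀R⟩, hy₀⟩
        rwa [hrot] at h'
      exact Q.not_dvd_index (h3.trans (index_dvd_of_le hle))
    have hsign : Equiv.Perm.sign (φ (q : ↥K)) = 1 := q.2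
    have hcases : ∀ σ : Equiv.Perm (Fin 3), Equiv.Perm.sign σ = 1 → σ ≠ 1 →
        σ = finRotate 3 ∨ σ * σ = finRotate 3 := by decide
    rcases hcases _ hsign hqne with h | h
    · exact ⟨_, ⟨q, hq, rfl⟩, h⟩
    · exact ⟨_, ⟨q * q, mul_mem hq hq, rfl⟩, by rw [← h]; simp⟩
  obtain ⟨n, hn, hnsign⟩ : ∃ n ∈ normalizer (Q' : Set ↥K), Equiv.Perm.sign (φ n) ≠ 1 := by
    by_contra hno
    push Not at hno
    have hsup : normalizer (Q' : Set ↥K) ⊔ R = ⊤ := Sylow.normalizer_sup_eq_top Q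
    rw [sup_eq_right.2 (fun x hx => hno x hx : normalizer (Q' : Set ↥K) ≤ R)] at hsup
    obtain ⟨x, hx⟩ := hφ (Equiv.swap 0 1)
    have h1 : Equiv.Perm.sign (φ x) = 1 := (hsup.ge (mem_top x) : x ∈ R)
    rw [hx] at h1
    revert h1; decide
  obtain ⟨k, m, hm, hkm⟩ := Nat.exists_eq_pow_mul_and_not_dvd (orderOf_pos n).ne' 2 (by norm_num)
  set t := n ^ m with ht
  have htk : t ^ 2 ^ k = 1 := by rw [ht, ← pow_mul, mul_comm, ← hkm, pow_orderOf_eq_one]
  have htsign : Equiv.Perm.sign (φ t) ≠ 1 := by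
    obtain ⟨j, rfl⟩ : Odd m := Nat.odd_iff.2 (by omega)
    rw [ht, map_pow, map_pow, (Int.units_eq_one_or _).resolve_left hnsign, Odd.neg_one_pow ⟨j, rfl⟩]
    decide
  -- pass to the ambient group
  set π := QuotientGroup.mk' C with hπ
  set Q₀ : Subgroup G := Q'.map K.subtype with hQ₀
  have hQ₀p : IsPGroup 3 ↥Q₀ := hQp.map _
  have htQ : ∀ x ∈ Q₀, (t : G) * x * (t : G)⁻¹ ∈ Q₀ := by
    rintro _ ⟨x, hx, rfl⟩
    exact ⟨_, (mem_normalizer_iff.1 (pow_mem hn m) x).1 hx, rfl⟩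
  have hstart : ¬ ∀ x ∈ Q₀, Commute (π (t : G)) (π x) := by
    intro h
    have h1 : π ((t : G) * (q₁ : G) * (t : G)⁻¹ * (q₁ : G)⁻¹) = 1 := by
      rw [map_mul, map_mul, map_mul, map_inv, map_inv, (h (q₁ : G) ⟨q₁, hq₁, rfl⟩).eq, mul_inv_cancel_right,
        mul_inv_cancel]
    have h2 := hker (t * q₁ * t⁻¹ * q₁⁻¹) (by simpa using (QuotientGroup.eq_one_iff _).1 h1)
    have h3 : φ t * finRotate 3 = finRotate 3 * φ t := by
      rw [map_mul, map_mul, map_mul, map_inv, map_inv, hq₁φ, mul_inv_eq_one] at h2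
      exact mul_inv_eq_iff_eq_mul.1 h2
    have hcent : ∀ σ : Equiv.Perm (Fin 3), σ * finRotate 3 = finRotate 3 * σ →
        Equiv.Perm.sign σ = 1 := by decide
    exact htsign (hcent _ h3)
  classical
  have hex : ∃ j, ∀ x ∈ Q₀, Commute (π (t : G) ^ 2 ^ j) (π x) := ⟨k, fun x _ => by
    rw [← map_pow, ← Subgroup.coe_pow, htk, Subgroup.coe_one, map_one]
    exact Commute.one_left _⟩
  obtain ⟨j, hj⟩ : ∃ j, Nat.find hex = j + 1 := by
    refine Nat.exists_eq_add_one_of_ne_zero fun h0 => ?_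
    have := Nat.find_spec hex
    rw [h0] at this
    exact hstart (by simpa using this)
  set s : G := (t : G) ^ 2 ^ j with hs
  have hs2 : ∀ x ∈ Q₀, Commute (π s * π s) (π x) := fun x hx => by
    have := Nat.find_spec hex x hx
    rwa [hj, pow_succ, pow_mul, ← map_pow, sq, ← hs] at this
  obtain ⟨q, hq, hqne⟩ : ∃ q ∈ Q₀, ¬ Commute (π s) (π q) := by
    by_contra hno
    push Not at hno
    exact Nat.find_min hex (m := j) (by omega) fun x hx => by rw [← map_pow]; exact hno x hx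
  have hsQ : ∀ x ∈ Q₀, s * x * s⁻¹ ∈ Q₀ := by
    have : ∀ i : ℕ, ∀ x ∈ Q₀, (t : G) ^ i * x * ((t : G) ^ i)⁻¹ ∈ Q₀ := by
      intro i
      induction i with
      | zero => simp
      | succ i ih =>
        intro x hx
        rw [pow_succ']
        simpa [mul_assoc] using htQ _ (ih x hx)
    exact this _
  set h := q⁻¹ * (s * q * s⁻¹) with hh
  have hhQ : h ∈ Q₀ := mul_mem (inv_mem hq) (hsQ q hq)
  have hh1 : π h ≠ 1 := fun e => hqne (by
    rw [hh, map_mul, map_inv, inv_mul_eq_one, map_mul, map_mul, map_inv] at e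
    exact (mul_inv_eq_iff_eq_mul.1 e.symm))
  have hinv : π s * π h * (π s)⁻¹ = (π h)⁻¹ := by
    have h2 : π s * π s * π q = π q * (π s * π s) := hs2 q hq
    calc π s * π h * (π s)⁻¹ = π s * (π q)⁻¹ * (π s)⁻¹ * ((π s * π s * π q) * (π s * π s)⁻¹) := by
          rw [hh]; simp only [map_mul, map_inv]; group
      _ = π s * (π q)⁻¹ * (π s)⁻¹ * π q := by rw [h2]; group
      _ = (π h)⁻¹ := by rw [hh]; simp only [map_mul, map_inv]; group
  obtain ⟨e, he⟩ := IsPGroup.iff_orderOf.1 hQ₀p ⟨h, hhQ⟩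
  rw [orderOf_mk] at he
  have hd : orderOf (π h) ∣ 3 ^ e := he ▸ orderOf_map_dvd π h
  obtain ⟨f, -, hf⟩ := (Nat.dvd_prime_pow Nat.prime_three).1 hd
  have hf0 : f ≠ 0 := fun e0 => hh1 (orderOf_eq_one_iff.1 (by rw [hf, e0, pow_zero]))
  set c := h ^ 3 ^ (f - 1) with hc
  have hcne : c ∉ C := fun hm => by
    have h1 : (π h) ^ 3 ^ (f - 1) = 1 := by rw [← map_pow]; exact (QuotientGroup.eq_one_iff _).2 hm
    have h2 := Nat.le_of_dvd (by positivity) (hf ▸ orderOf_dvd_of_pow_eq_one h1)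
    exact absurd h2 (not_le.2 (Nat.pow_lt_pow_right (by norm_num) (by omega)))
  have hc3 : c ^ 3 ∈ C := (QuotientGroup.eq_one_iff _).1 (by
    show π (c ^ 3) = 1
    rw [hc, ← pow_mul, ← pow_succ, Nat.sub_add_cancel (by omega), map_pow, ← hf, pow_orderOf_eq_one])
  have hcinv : s * c * s⁻¹ * c ∈ C := (QuotientGroup.eq_one_iff _).1 (by
    show π (s * c * s⁻¹ * c) = 1
    rw [map_mul, map_mul, map_mul, map_inv, hc, map_pow π h, ← conj_pow, hinv, inv_pow, inv_mul_cancel])
  -- the Frattini quotient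
  haveI : (frattini ↥T).Characteristic := frattini_characteristic
  haveI hΦn : ((frattini ↥T).map T.subtype).Normal := ConjAct.normal_of_characteristic_of_normal
  set ρ := QuotientGroup.mk' ((frattini ↥T).map T.subtype) with hρ
  have hC' : ∀ x ∈ C, ρ x ∈ centralizer ((T.map ρ : Subgroup _) : Set _) := fun x hx => by
    rw [mem_centralizer_iff]
    rintro _ ⟨v, hv, rfl⟩
    rw [← map_mul, ← map_mul, mem_centralizer_iff.1 hx v hv]
  have hTn : (T.map ρ).Normal := (inferInstance : T.Normal).map ρ (QuotientGroup.mk'_surjective _)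
  refine PComplement.involves_of_quotient (N := (frattini ↥T).map T.subtype)
    (involves_of_inverted (T.map ρ) ?_ ?_ (c := ρ c) (s := ρ s) ?_ ?_ ?_ ?_ ?_ ⟨k, ?_⟩)
  · rintro _ ⟨v, hv, rfl⟩ _ ⟨w, hw, rfl⟩
    have hm : ⁅(⟨v, hv⟩ : T), ⟨w, hw⟩⁆ ∈ frattini ↥T :=
      PGroup.commutator_le_frattini hT
        (_root_.commutator_def (G := T) ▸ commutator_mem_commutator (mem_top _) (mem_top _))
    rw [← commutatorElement_eq_one_iff_mul_comm, ← map_commutatorElement]
    exact (QuotientGroup.eq_one_iff _).mpr ⟨_, hm, rfl⟩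
  · rintro _ ⟨v, hv, rfl⟩
    rw [← map_mul, ← sq]
    exact (QuotientGroup.eq_one_iff _).mpr ⟨_, PGroup.pow_mem_frattini hT ⟨v, hv⟩, rfl⟩
  · rw [normalizer_eq_top_iff.2 hTn]; trivial
  · rw [normalizer_eq_top_iff.2 hTn]; trivial
  · intro hm
    refine hcne ?_
    obtain ⟨i, hi⟩ := IsPGroup.iff_card.1 (hT.to_subgroup (frattini ↥T))
    obtain ⟨e', he'⟩ := IsPGroup.iff_orderOf.1 hQ₀p ⟨c, pow_mem hhQ _⟩
    rw [orderOf_mk] at he'
    refine Coprime.le_centralizer_of_frattini (A := zpowers c)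
      (by rw [normalizer_eq_top]; exact le_top) ?_ ?_ (mem_zpowers c)
    · rw [Nat.card_zpowers, he', hi]
      exact Nat.Coprime.pow e' i (by norm_num)
    · intro a ha r hr
      have hle : zpowers c ≤ (centralizer ((T.map ρ : Subgroup _) : Set _)).comap ρ :=
        zpowers_le.2 hm
      have h := mem_centralizer_iff.1 (mem_comap.1 (hle ha)) _ (mem_map_of_mem ρ hr)
      refine (QuotientGroup.eq_one_iff _).mp ?_
      show ρ (a * r * a⁻¹ * r⁻¹) = 1
      simp only [map_mul, map_inv]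
      rw [← h]
      group
  · rw [← map_pow]; exact hC' _ hc3
  · simpa using hC' _ hcinv
  · rw [← map_pow, hs, ← pow_mul, mul_comm, pow_mul, ← Subgroup.coe_pow, htk, Subgroup.coe_one,
      one_pow, map_one]

end

/-- For a finite group G, the symmetric group of degree 4 is involved in G if and only if there is a 2-subgroup T of G such that the symmetric group of degree 3 is involved in N(T)/C(T). -/
theorem result {G : Type*} [Group G] [Finite G] : Cfsg.Involves (Equiv.Perm (Fin 4)) G ↔ ∃ T : Subgroup G, IsPGroup 2 ↥T ∧ Cfsg.Involves (Equiv.Perm (Fin 3)) (↥(Subgroup.normalizer (T : Set G)) ⧸ (Subgroup.centralizer (T : Set G)).subgroupOf (Subgroup.normalizer (T : Set G))) := by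
  classical
  haveI : Fact (Nat.Prime 2) := ⟨Nat.prime_two⟩
  constructor
  · intro hS
    obtain ⟨K, φ, hφ⟩ := PComplement.involves_iff.1 hS
    -- the four-group of `S₄` and a complement
    let Z : Subgroup (Equiv.Perm (Fin 4)) :=
      { carrier := {σ | σ = 1 ∨ (σ * σ = 1 ∧ ∀ i, σ i ≠ i)}
        one_mem' := Or.inl rfl
        mul_mem' := fun {a b} => by revert a b; decide +kernel
        inv_mem' := fun {a} => by revert a; decide +kernel }
    have hZn : Z.Normal := ⟨by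
      intro a ha b
      rcases ha with rfl | ⟨h1, h2⟩
      · exact Or.inl (by simp)
      · refine Or.inr ⟨?_, fun i hi => h2 (b⁻¹ i) ?_⟩
        · calc b * a * b⁻¹ * (b * a * b⁻¹) = b * (a * a) * b⁻¹ := by group
            _ = 1 := by rw [h1]; group
        · have := congrArg (⇑b⁻¹) hi
          simpa using this⟩
    set R : Subgroup ↥K := Z.comap φ with hR
    obtain ⟨P⟩ := (inferInstance : Nonempty (Sylow 2 ↥R))
    set P' : Subgroup ↥K := (P : Subgroup ↥R).map R.subtype with hP'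
    set T : Subgroup G := P'.map K.subtype with hT
    refine ⟨T, (P.2.map _).map _, ?_⟩
    have hPZ : ∀ z ∈ Z, ∃ x ∈ P', φ x = z := by
      intro z hz
      let χ : ↥R →* ↥Z := φ.subgroupComap Z
      have hχ : Function.Surjective χ := φ.subgroupComap_surjective_of_surjective Z hφ
      have hZ2 : IsPGroup 2 ↥Z := fun z => ⟨1, Subtype.ext (by
        rcases z.2 with h | ⟨h, -⟩ <;> simp [sq, h])⟩
      have htop : ((P.mapSurjective hχ : Sylow 2 ↥Z) : Subgroup ↥Z) = ⊤ :=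
        ((P.mapSurjective hχ).3 (hZ2.to_subgroup ⊤) le_top).symm
      obtain ⟨x, hx, hxz⟩ := htop.ge (Subgroup.mem_top (⟨z, hz⟩ : ↥Z))
      exact ⟨_, ⟨x, hx, rfl⟩, congrArg Subtype.val hxz⟩
    set St : Subgroup (Equiv.Perm (Fin 4)) := MulAction.stabilizer (Equiv.Perm (Fin 4)) (3 : Fin 4)
    set K₁ : Subgroup ↥K := Subgroup.normalizer (P' : Set ↥K) ⊓ St.comap φ with hK₁
    have hK₁N : ∀ x : ↥K, x ∈ K₁ → (x : G) ∈ Subgroup.normalizer (T : Set G) := by
      intro x hx
      exact Subgroup.le_normalizer_map K.subtype ⟨x, hx.1, rfl⟩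
    let N := Subgroup.normalizer (T : Set G)
    let ι : ↥K₁ →* ↥N :=
      { toFun := fun x => ⟨((x : ↥K) : G), hK₁N x.1 x.2⟩
        map_one' := rfl
        map_mul' := fun _ _ => rfl }
    let π := QuotientGroup.mk' ((Subgroup.centralizer (T : Set G)).subgroupOf N)
    let e : Fin 3 ↪ Fin 4 := Fin.castSuccEmb
    have hSt : ∀ σ ∈ St, (∀ d ∈ Z, σ * d = d * σ) → σ = 1 := by
      intro σ hσ h
      have h3 : σ 3 = 3 := hσ
      refine Equiv.ext fun i => ?_
      by_cases hi : i = 3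
      · rw [hi]; exact h3
      obtain ⟨d, hd, hd3⟩ : ∃ d ∈ Z, d 3 = i := by
        have key : ∀ i : Fin 4, i ≠ 3 → ∃ d : Equiv.Perm (Fin 4),
            (d = 1 ∨ (d * d = 1 ∧ ∀ j, d j ≠ j)) ∧ d 3 = i := by decide +kernel
        obtain ⟨d, hd, hd3⟩ := key i hi
        exact ⟨d, hd, hd3⟩
      have := congrArg (fun τ : Equiv.Perm (Fin 4) => τ 3) (h d hd)
      simp [Equiv.Perm.mul_apply, h3, hd3] at this
      simpa using this
    -- `K₁` maps onto `S₃`
    have hK₁surj : ∀ σ ∈ St, ∃ x ∈ K₁, φ x = σ := by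
      intro σ hσ
      obtain ⟨x₀, hx₀⟩ := hφ σ
      haveI : R.Normal := hZn.comap φ
      obtain ⟨a, ha, b, hb, hab⟩ := Subgroup.mem_sup_of_normal_right.1
        ((Sylow.normalizer_sup_eq_top P).ge (Subgroup.mem_top x₀))
      obtain ⟨z, hz, hzφ⟩ := hPZ (φ b) hb
      -- `a` lies in the coset of `σ`, correct by the four-group
      refine ⟨a * z, ⟨mul_mem ha (Subgroup.le_normalizer hz), ?_⟩, ?_⟩
      · show φ (a * z) ∈ St
        rw [map_mul, hzφ, ← map_mul, hab, hx₀]; exact hσ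
      · rw [map_mul, hzφ, ← map_mul, hab, hx₀]
    let emb : Equiv.Perm (Fin 3) →* Equiv.Perm (Fin 4) := Equiv.Perm.viaEmbeddingHom e
    have hemb : Function.Injective emb := Equiv.Perm.viaEmbeddingHom_injective e
    have hrange : emb.range = St := by
      refine Subgroup.eq_of_le_of_card_ge ?_ ?_
      · rintro _ ⟨σ, rfl⟩
        show Equiv.Perm.viaEmbedding σ e 3 = 3
        exact Equiv.Perm.viaEmbedding_apply_of_notMem σ e 3 (by rintro ⟨i, hi⟩; revert i; decide)
      · rw [Nat.card_congr (MonoidHom.ofInjective hemb).toEquiv.symm, Nat.card_perm,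
          Nat.card_eq_fintype_card (α := Fin 3), Fintype.card_fin]
        show Nat.card ↥St ≤ 6
        rw [Nat.card_eq_fintype_card]; decide
    let θ : ↥K₁ →* Equiv.Perm (Fin 3) :=
      ((MonoidHom.ofInjective hemb).trans (MulEquiv.subgroupCongr hrange)).symm.toMonoidHom.comp
        ((φ.comp K₁.subtype).codRestrict St fun x => x.2.2)
    have hθ : Function.Surjective θ := by
      intro σ
      set τ := ((MonoidHom.ofInjective hemb).trans (MulEquiv.subgroupCongr hrange)) σ with hτ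
      obtain ⟨x, hx, hxτ⟩ := hK₁surj τ τ.2
      refine ⟨⟨x, hx⟩, ?_⟩
      show ((MonoidHom.ofInjective hemb).trans (MulEquiv.subgroupCongr hrange)).symm ⟨φ x, hx.2⟩ = σ
      rw [MulEquiv.symm_apply_eq, ← hτ]
      exact Subtype.ext hxτ
    have hkill : (π.comp ι).ker ≤ θ.ker := by
      intro x hx
      have hxC : ((x : ↥K) : G) ∈ Subgroup.centralizer (T : Set G) :=
        Subgroup.mem_subgroupOf.1 ((QuotientGroup.eq_one_iff (N := (Subgroup.centralizer (T : Set G)).subgroupOf N) (ι x)).1 hx)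
      have hone : φ (x : ↥K) = 1 := hSt _ x.2.2 fun d hd => by
        obtain ⟨y, hy, rfl⟩ := hPZ d hd
        rw [← map_mul, ← map_mul]
        congr 1
        exact Subtype.ext (Subgroup.mem_centralizer_iff.1 hxC (y : G) ⟨y, hy, rfl⟩).symm
      rw [MonoidHom.mem_ker]
      show ((MonoidHom.ofInjective hemb).trans (MulEquiv.subgroupCongr hrange)).symm ⟨φ x, x.2.2⟩ = 1
      rw [MulEquiv.symm_apply_eq, map_one]
      exact Subtype.ext hone
    let ψ := (π.comp ι).rangeRestrict.liftOfSurjective (π.comp ι).rangeRestrict_surjective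
      ⟨θ, by rwa [MonoidHom.ker_rangeRestrict]⟩
    refine PComplement.involves_iff.2 ⟨(π.comp ι).range, ψ, fun σ => ?_⟩
    obtain ⟨x, hx⟩ := hθ σ
    exact ⟨(π.comp ι).rangeRestrict x,
      (MonoidHom.liftOfRightInverse_comp_apply _ _ _ _ x).trans hx⟩
  · rintro ⟨T, hT, hinv⟩
    obtain ⟨K, φ, hφ⟩ := PComplement.involves_iff.1 hinv
    set N := Subgroup.normalizer (T : Set G)
    haveI : (T.subgroupOf N).Normal := Subgroup.normal_in_normalizer
    let π := QuotientGroup.mk' ((Subgroup.centralizer (T : Set G)).subgroupOf N)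
    refine PComplement.involves_of_subgroup (L := N) (involves_of_normal (T.subgroupOf N)
      (hT.of_equiv (Subgroup.subgroupOfEquivOfLe Subgroup.le_normalizer).symm) (K.comap π)
      (φ.comp (π.subgroupComap K))
      (hφ.comp (π.subgroupComap_surjective_of_surjective K (QuotientGroup.mk'_surjective _)))
      fun x hx => ?_)
    have h1 : π (x : ↥N) = 1 := (QuotientGroup.eq_one_iff _).2 (Subgroup.mem_subgroupOf.2
      (Subgroup.mem_centralizer_iff.2 fun y hy =>
        congrArg Subtype.val (Subgroup.mem_centralizer_iff.1 hx ⟨y, Subgroup.le_normalizer hy⟩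
          (Subgroup.mem_subgroupOf.2 hy))))
    show φ _ = 1
    rw [show π.subgroupComap K x = 1 from Subtype.ext h1, map_one]

end Cfsg.Agent.S2759
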