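import Cfsg.Statements.S4249
import Mathlib
import Cfsg.Agent.Lib.PComplement.GlaubermanThompson
import Cfsg.Agent.Lib.Replacement.Constrained
import Cfsg.Agent.Lib.Replacement.Characteristic
import Cfsg.Agent.Lib.Solvable.Schmidt
-- import your own Cfsg.Agent.* helpers here

set_option autoImplicit false
open Cfsg

namespace Cfsg.Agent.S4249

open Subgroup

universe u

theorem mem_normalizer_iff_map {G : Type*} [Group G] {H : Subgroup G} {g : G} :
    g ∈ normalizer (H : Set G) ↔ H.map (MulAut.conj g).toMonoidHom = H :=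
  mem_normalizer_iff_map_conj_eq

/-- Averaging: if every element of the coset `xQ` acts on `V` with trivial norm then `Q` acts trivially. -/
theorem average {V M : Type*} [CommGroup V] [Finite V] [Group M] (φ : M →* MulAut V) {p : ℕ}
    (hp : p.Prime) (x : M) (Q : Subgroup M) [Finite Q]
    (hx : x ∈ normalizer (Q : Set M)) (hpow : ∀ a ∈ Q, (x * a) ^ p = 1)
    (hN : ∀ a ∈ Q, ∀ v : V, ∏ k ∈ Finset.range p, φ ((x * a) ^ k) v = 1)
    (hco : (Nat.card Q).Coprime (Nat.card V)) : ∀ b ∈ Q, ∀ v : V, φ b v = v := by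
  classical
  have : Fintype Q := Fintype.ofFinite Q
  have hmem : ∀ a ∈ Q, ∀ k : ℕ, (x ^ k)⁻¹ * (x * a) ^ k ∈ Q := by
    intro a ha k
    induction k with
    | zero => simp [Q.one_mem]
    | succ k ih =>
      have h1 := (mem_normalizer_iff.1 (inv_mem hx) _).1 ih
      have e : (x ^ (k + 1))⁻¹ * (x * a) ^ (k + 1) = x⁻¹ * ((x ^ k)⁻¹ * (x * a) ^ k) * x⁻¹⁻¹ * a := by
        rw [pow_succ, pow_succ]; group
      rw [e]
      exact mul_mem h1 ha
  intro b hb v
  set S : V → V := fun w => ∏ a : Q, φ a w with hS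
  have hterm : ∀ k ∈ Finset.range p, k ≠ 0 → ∏ a : Q, φ ((x * a) ^ k) v = φ (x ^ k) (S v) := by
    intro k hk hk0
    let e : Q → Q := fun a => ⟨_, hmem a a.2 k⟩
    have hinj : Function.Injective e := by
      intro a a' haa
      have h1 : (x * (a : M)) ^ k = (x * (a' : M)) ^ k := mul_left_cancel (congrArg Subtype.val haa)
      obtain ⟨m, hm⟩ := Nat.exists_mul_mod_eq_one_of_coprime
        ((hp.coprime_iff_not_dvd.2 (Nat.not_dvd_of_pos_of_lt (Nat.pos_of_ne_zero hk0)
          (Finset.mem_range.1 hk))).symm) hp.one_lt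
      have h2 : ∀ c : Q, ((x * (c : M)) ^ k) ^ m = x * c := by
        intro c
        rw [← pow_mul, pow_eq_pow_mod _ (hpow c c.2), hm.2, pow_one]
      apply Subtype.ext
      exact mul_left_cancel (((h2 a).symm.trans (by rw [h1])).trans (h2 a'))
    let E : Q ≃ Q := Equiv.ofBijective e (Finite.injective_iff_bijective.1 hinj)
    rw [hS, map_prod, ← Equiv.prod_comp E fun a : Q => φ (x ^ k) (φ a v)]
    refine Finset.prod_congr rfl fun a _ => ?_
    rw [← MulAut.mul_apply, ← map_mul]
    exact congrArg (fun y => φ y v) (mul_inv_cancel_left (x ^ k) ((x * (a : M)) ^ k)).symm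
  have htot : ∏ k ∈ Finset.range p, ∏ a : Q, φ ((x * a) ^ k) v = 1 := by
    rw [Finset.prod_comm]
    exact Finset.prod_eq_one fun a _ => hN a a.2 v
  have hS0 : ∏ k ∈ Finset.range p, φ (x ^ k) (S v) = 1 := by
    simpa using hN 1 Q.one_mem (S v)
  obtain ⟨r, rfl⟩ := Nat.exists_eq_succ_of_ne_zero hp.ne_zero
  rw [Finset.prod_range_succ'] at htot hS0
  have hrest : ∏ k ∈ Finset.range r, ∏ a : Q, φ ((x * a) ^ (k + 1)) v =
      ∏ k ∈ Finset.range r, φ (x ^ (k + 1)) (S v) :=
    Finset.prod_congr rfl fun k hk =>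
      hterm (k + 1) (Finset.mem_range.2 (Nat.succ_lt_succ (Finset.mem_range.1 hk))) k.succ_ne_zero
  rw [hrest] at htot
  have hSv : S v = v ^ Nat.card Q := by
    have := mul_left_cancel (hS0.trans htot.symm)
    simpa using this
  have hfix : φ b (S v) = S v := by
    simp only [hS, map_prod]
    have := Equiv.prod_comp (Equiv.mulLeft (⟨b, hb⟩ : Q)) fun a : Q => φ a v
    rw [← this]
    refine Finset.prod_congr rfl fun a _ => ?_
    rw [← MulAut.mul_apply, ← map_mul]
    rfl
  rw [hSv, map_pow] at hfix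
  exact (powCoprime hco.symm).injective hfix

/-- `x` is a splitting element of order `p` for `H`. -/
def Split {G : Type*} [Group G] (p : ℕ) (x : G) (H : Subgroup G) : Prop :=
  ∀ h ∈ H, (x * h) ^ p = 1

/-- The coprime centralising property of a splitting element. -/
theorem centralize {G : Type*} [Group G] [Finite G] {p : ℕ} (hp : p.Prime) {x : G}
    {H Q R : Subgroup G} (hs : Split p x H) (hQ : Q ≤ H) (hR : R ≤ H) [R.Normal]
    [hRc : IsMulCommutative R] (hxQ : x ∈ normalizer (Q : Set G))
    (hco : (Nat.card Q).Coprime (Nat.card R)) : Q ≤ centralizer (R : Set G) := by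
  let _ : CommGroup R := { (inferInstance : Group R) with mul_comm := hRc.is_comm.comm }
  let φ : G →* MulAut R := MulAut.conjNormal
  have hN : ∀ a ∈ Q, ∀ v : R, ∏ k ∈ Finset.range p, φ ((x * a) ^ k) v = 1 := by
    intro a ha v
    have hy : (x * a) ^ p = 1 := hs a (hQ ha)
    have hvy : ((v : G) * (x * a)) ^ p = 1 := by
      have h1 : x⁻¹ * v * x⁻¹⁻¹ ∈ R := Normal.conj_mem ‹R.Normal› _ v.2 _
      have := hs _ (mul_mem (hR h1) (hQ ha))
      convert this using 2
      group
    have key : ∀ n : ℕ, ((v : G) * (x * a)) ^ n =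
        ((∏ k ∈ Finset.range n, φ ((x * a) ^ k) v : R) : G) * (x * a) ^ n := by
      intro n
      induction n with
      | zero => simp
      | succ n ih =>
        rw [pow_succ ((v : G) * (x * a)), ih, Finset.prod_range_succ, Subgroup.coe_mul,
          MulAut.conjNormal_apply, pow_succ (x * a)]
        group
    have := key p
    rw [hvy, hy, mul_one] at this
    exact Subtype.ext this.symm
  intro b hb
  rw [mem_centralizer_iff]
  intro r hr
  have h1 := congrArg Subtype.val
    (average φ hp x Q hxQ (fun a ha => hs a (hQ ha)) hN hco b hb ⟨r, hr⟩)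
  rw [MulAut.conjNormal_apply] at h1
  exact (mul_inv_eq_iff_eq_mul.1 h1).symm

theorem exists_shift {G : Type u} [Group G] [Finite G] {H : Subgroup G} [H.Normal] {q : ℕ}
    [Fact q.Prime] (x : G) (P : Sylow q H) :
    ∃ h ∈ H, x * h ∈ normalizer (((P : Subgroup H).map H.subtype : Subgroup G) : Set G) := by
  let Q : Sylow q H := Sylow.ofCard ((P : Subgroup H).map (MulAut.conjNormal x : MulAut H).toMonoidHom)
    ((card_map_of_injective (f := (MulAut.conjNormal x : MulAut H).toMonoidHom) (MulEquiv.injective _)).trans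
      P.card_eq_multiplicity)
  obtain ⟨h, hh⟩ := MulAction.exists_smul_eq H Q P
  have hh' : ((P : Subgroup H).map (MulAut.conjNormal x : MulAut H).toMonoidHom).map
      (MulAut.conj h).toMonoidHom = (P : Subgroup H) := by
    have h1 := congrArg Sylow.toSubgroup hh
    rw [Sylow.coe_subgroup_smul] at h1
    exact h1
  refine ⟨x⁻¹ * h * x⁻¹⁻¹, Normal.conj_mem ‹H.Normal› _ h.2 _, ?_⟩
  have e : x * (x⁻¹ * (h : G) * x⁻¹⁻¹) = (h : G) * x := by group
  rw [e, mem_normalizer_iff_map]
  conv_rhs => rw [← hh']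
  rw [Subgroup.map_map, Subgroup.map_map, Subgroup.map_map]
  congr 1
  ext a
  simp [mul_assoc]

theorem shift_split {G : Type*} [Group G] {p : ℕ} {x h : G} {H : Subgroup G} (hs : Split p x H)
    (hh : h ∈ H) : Split p (x * h) H := fun k hk => by
  rw [mul_assoc]; exact hs _ (mul_mem hh hk)

theorem split_map {G G' : Type*} [Group G] [Group G'] {p : ℕ} {x : G} {H : Subgroup G}
    (hs : Split p x H) (f : G →* G') : Split p (f x) (H.map f) := by
  rintro _ ⟨h, hh, rfl⟩
  rw [← map_mul, ← map_pow, hs h hh, map_one]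

/-- Solvable groups with a splitting element of prime order are nilpotent. -/
theorem nilpotent_aux {p : ℕ} (hp : p.Prime) : ∀ n : ℕ, ∀ (G : Type u) [Group G] [Finite G]
    (H : Subgroup G) [H.Normal] (x : G), Nat.card H = n → Split p x H →
    Group.IsSolvable H → Group.IsNilpotent H := by
  intro n
  induction n using Nat.strong_induction_on with
  | _ n ih =>
  intro G _ _ H _ x hn hs hsol
  by_cases hH : H = ⊥
  · subst hH; infer_instance
  classical
  have hex : ∃ k, derivedSeries H k = ⊥ := Group.IsSolvable.solvable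
  obtain ⟨k, hk⟩ : ∃ k, Nat.find hex = k + 1 := by
    refine Nat.exists_eq_succ_of_ne_zero fun h0 => hH ?_
    have h := Nat.find_spec hex
    rw [h0, derivedSeries_zero] at h
    rw [← H.range_subtype, MonoidHom.range_eq_map, h, Subgroup.map_bot]
  set D0 : Subgroup H := derivedSeries H k with hD0
  have hD0c : ∀ a ∈ D0, ∀ b ∈ D0, a * b = b * a := by
    intro a ha b hb
    have h := Nat.find_spec hex
    rw [hk, derivedSeries_succ] at h
    exact commutatorElement_eq_one_iff_mul_comm.1
      (mem_bot.1 (h ▸ commutator_mem_commutator ha hb))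
  have hD0b : D0 ≠ ⊥ := fun h => absurd (Nat.find_min' hex h) (by omega)
  set D : Subgroup G := D0.map H.subtype with hD
  have : D.Normal := inferInstance
  have hDH : D ≤ H := map_subtype_le D0
  -- the quotient is nilpotent
  have hlt : Nat.card (H.map (QuotientGroup.mk' D)) < n := by
    rw [← hn]
    refine lt_of_le_of_ne (Nat.le_of_dvd Nat.card_pos (H.card_map_dvd _)) fun he => hD0b ?_
    have hb : Function.Bijective (MonoidHom.subgroupMap (QuotientGroup.mk' D) H) :=
      (MonoidHom.subgroupMap_surjective _ _).bijective_of_nat_card_le he.ge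
    rw [eq_bot_iff]
    intro a ha
    apply mem_bot.2
    apply hb.1
    rw [map_one]
    exact Subtype.ext ((QuotientGroup.eq_one_iff (N := D) (a : G)).2 (mem_map_of_mem _ ha))
  have : (H.map (QuotientGroup.mk' D)).Normal :=
    Subgroup.Normal.map inferInstance _ (QuotientGroup.mk'_surjective D)
  have hnil := ih _ hlt (G ⧸ D) (H.map (QuotientGroup.mk' D)) _ rfl (split_map hs _)
    (Group.isSolvable_of_surjective (MonoidHom.subgroupMap_surjective (QuotientGroup.mk' D) H))
  have : Group.IsNilpotent H ↔ ∀ (r : ℕ) (_ : Fact r.Prime) (R : Sylow r H), (R : Subgroup H).Normal :=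
    (Group.isNilpotent_of_finite_tfae (G := H)).out 0 3
  refine this.2 fun q hq P => ?_
  have hMn : ((P : Subgroup H) ⊔ D0).Normal := by
    have hf := MonoidHom.subgroupMap_surjective (QuotientGroup.mk' D) H
    have hker : (MonoidHom.subgroupMap (QuotientGroup.mk' D) H).ker = D0 := by
      ext a
      rw [MonoidHom.mem_ker, Subtype.ext_iff]
      refine (QuotientGroup.eq_one_iff (N := D) (a : G)).trans ?_
      exact mem_map_iff_mem H.subtype_injective
    have := hnil
    have hS := Cfsg.Agent.Solvable.sylow_normal_of_nilpotent (P.mapSurjective hf)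
    have := hS.comap (MonoidHom.subgroupMap (QuotientGroup.mk' D) H)
    rwa [Sylow.coe_mapSurjective, comap_map_eq, hker] at this
  -- the shifted element
  obtain ⟨h, hh, hxP⟩ := exists_shift x P
  have hs' := shift_split hs hh
  obtain ⟨e, m, hm, hem⟩ := Nat.exists_eq_pow_mul_and_not_dvd (Nat.card_pos (α := D0)).ne' q hq.out.ne_one
  have hqm : (q ^ e).Coprime m := ((hq.out.coprime_iff_not_dvd).2 hm).pow_left e
  let R : Subgroup G :=
    { carrier := {v | v ∈ D ∧ v ^ m = 1}
      one_mem' := ⟨D.one_mem, one_pow m⟩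
      mul_mem' := by
        rintro a b ⟨ha, ha'⟩ ⟨hb, hb'⟩
        have hc : Commute a b := by
          obtain ⟨a0, ha0, rfl⟩ := ha
          obtain ⟨b0, hb0, rfl⟩ := hb
          exact (show Commute a0 b0 from hD0c _ ha0 _ hb0).map H.subtype
        exact ⟨mul_mem ha hb, by rw [hc.mul_pow, ha', hb', one_mul]⟩
      inv_mem' := by
            rintro a ⟨ha, ha'⟩
            exact ⟨inv_mem ha, by rw [inv_pow, ha', inv_one]⟩ }
  have hRn : R.Normal := ⟨fun a ha g => ⟨Normal.conj_mem inferInstance a ha.1 g, by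
    rw [conj_pow, ha.2, mul_one, mul_inv_cancel]⟩⟩
  have hRc : IsMulCommutative R := ⟨⟨fun a b => by
    obtain ⟨a0, ha0, e1⟩ := a.2.1
    obtain ⟨b0, hb0, e2⟩ := b.2.1
    apply Subtype.ext
    rw [Subgroup.coe_mul, Subgroup.coe_mul, ← e1, ← e2]
    exact congrArg Subtype.val (hD0c _ ha0 _ hb0)⟩⟩
  have hco : (Nat.card ((P : Subgroup H).map H.subtype)).Coprime (Nat.card R) := by
    rw [card_map_of_injective H.subtype_injective]
    obtain ⟨j, hj⟩ := P.isPGroup'.exists_card_eq
    rw [hj]
    refine Nat.Coprime.pow_left j ((hq.out.coprime_iff_not_dvd).2 fun hd => ?_)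
    obtain ⟨r, hr⟩ := exists_prime_orderOf_dvd_card' (G := R) q hd
    exact hm (hr ▸ orderOf_dvd_of_pow_eq_one (Subtype.ext (by simpa using r.2.2)))
  have hcent := centralize hp hs' (map_subtype_le _) (R := R) (fun a ha => hDH (And.left ha)) hxP hco
  -- D normalises P
  have hDP : D0 ≤ normalizer ((P : Subgroup H) : Set H) := by
    intro v hv
    have hcm : v ^ (q ^ e * m) = 1 := by
      have h1 := pow_card_eq_one' (x := (⟨v, hv⟩ : D0))
      rw [← hem]
      exact congrArg Subtype.val h1
    obtain ⟨s, t, hst⟩ := Int.isCoprime_iff_gcd_eq_one.2 (show Int.gcd (q ^ e : ℕ) (m : ℕ) = 1 from hqm)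
    have hv1 : v = (v ^ (q ^ e)) ^ s * (v ^ m) ^ t := by
      rw [← zpow_natCast v, ← zpow_natCast v, ← zpow_mul, ← zpow_mul, ← zpow_add]
      conv_lhs => rw [← zpow_one v]
      congr 1
      linarith
    rw [hv1]
    refine mul_mem (zpow_mem ?_ _) (zpow_mem ?_ _)
    · refine centralizer_le_normalizer _ (mem_centralizer_iff.2 fun a ha => ?_)
      have h1 := mem_centralizer_iff.1 (hcent (mem_map_of_mem H.subtype ha)) (H.subtype (v ^ q ^ e))
        ⟨mem_map_of_mem _ (pow_mem hv _), by rw [← map_pow, ← pow_mul, hcm, map_one]⟩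
      exact H.subtype_injective (by rw [map_mul, map_mul]; exact h1.symm)
    · refine le_normalizer ?_
      let A : Subgroup H :=
        { carrier := {v | v ∈ D0 ∧ v ^ q ^ e = 1}
          one_mem' := ⟨D0.one_mem, one_pow _⟩
          mul_mem' := by
            rintro a b ⟨ha, ha'⟩ ⟨hb, hb'⟩
            exact ⟨mul_mem ha hb, by
              rw [(show Commute a b from hD0c _ ha _ hb).mul_pow, ha', hb', one_mul]⟩
          inv_mem' := by
            rintro a ⟨ha, ha'⟩
            exact ⟨inv_mem ha, by rw [inv_pow, ha', inv_one]⟩ }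
      have : A.Normal := ⟨fun a ha g => ⟨Normal.conj_mem inferInstance a ha.1 g, by
        rw [conj_pow, ha.2, mul_one, mul_inv_cancel]⟩⟩
      have hA : IsPGroup q A := fun a => ⟨e, Subtype.ext (by simpa using a.2.2)⟩
      rw [← P.is_maximal' (hA.to_sup_of_normal_left P.isPGroup') le_sup_right]
      exact mem_sup_left ⟨pow_mem hv _, by rw [← pow_mul, mul_comm, hcm]⟩
  have hMP : (P : Subgroup H) ⊔ D0 ≤ normalizer ((P : Subgroup H) : Set H) :=
    sup_le le_normalizer hDP
  refine ⟨fun a ha g => ?_⟩
  have hb : g * a * g⁻¹ ∈ (P : Subgroup H) ⊔ D0 := hMn.conj_mem _ (mem_sup_left ha) g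
  have hbq : IsPGroup q (zpowers (g * a * g⁻¹)) := by
    have h1 : IsPGroup q ((P : Subgroup H).map (MulAut.conj g).toMonoidHom) := P.isPGroup'.map _
    refine h1.to_le (zpowers_le.2 ⟨a, ha, rfl⟩)
  have := P.is_maximal' (hbq.to_sup_of_normal_right' P.isPGroup' (zpowers_le.2 (hMP hb))) le_sup_right
  exact this ▸ mem_sup_left (mem_zpowers _)

/-- The induction step through a normal subgroup. -/
theorem solvable_step {p n : ℕ}
    (ih : ∀ m < n, ∀ (G : Type u) [Group G] [Finite G] (H : Subgroup G) [H.Normal] (x : G),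
      Nat.card H = m → Split p x H → Group.IsSolvable H)
    (G : Type u) [Group G] [Finite G] (H : Subgroup G) [H.Normal] (x : G) (hn : Nat.card H = n)
    (hs : Split p x H) (D : Subgroup G) [D.Normal] (hDH : D < H) (hD : D ≠ ⊥) :
    Group.IsSolvable H := by
  have hlt : Nat.card D < n := hn ▸ lt_of_le_of_ne (card_le_of_le hDH.le) fun h =>
    hDH.ne (eq_of_le_of_card_ge hDH.le h.ge)
  have : Group.IsSolvable D := ih _ hlt G D x rfl fun h hh => hs h (hDH.le hh)
  set f := MonoidHom.subgroupMap (QuotientGroup.mk' D) H with hf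
  have hlt' : Nat.card (H.map (QuotientGroup.mk' D)) < n := by
    rw [← hn]
    refine lt_of_le_of_ne (Nat.le_of_dvd Nat.card_pos (H.card_map_dvd _)) fun he => hD ?_
    have hb : Function.Bijective f :=
      (MonoidHom.subgroupMap_surjective _ _).bijective_of_nat_card_le he.ge
    rw [eq_bot_iff]
    intro a ha
    have : (⟨a, hDH.le ha⟩ : H) = 1 := hb.1 (by
      rw [map_one]
      exact Subtype.ext ((QuotientGroup.eq_one_iff (N := D) a).2 ha))
    exact mem_bot.2 (congrArg Subtype.val this)
  have : (H.map (QuotientGroup.mk' D)).Normal :=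
    Subgroup.Normal.map inferInstance _ (QuotientGroup.mk'_surjective D)
  have := ih _ hlt' _ (H.map (QuotientGroup.mk' D)) _ rfl (split_map hs _)
  refine Group.isSolvable_of_ker_le_range (inclusion hDH.le) f fun a ha => ?_
  rw [MonoidHom.mem_ker, Subtype.ext_iff] at ha
  exact ⟨⟨a, (QuotientGroup.eq_one_iff (N := D) (a : G)).1 ha⟩, rfl⟩

/-- Groups with a splitting element of prime order are solvable. -/
theorem solvable_aux {p : ℕ} (hp : p.Prime) : ∀ n : ℕ, ∀ (G : Type u) [Group G] [Finite G]
    (H : Subgroup G) [H.Normal] (x : G), Nat.card H = n → Split p x H → Group.IsSolvable H := by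
  intro n
  induction n using Nat.strong_induction_on with
  | _ n ih =>
  intro G _ _ H _ x hn hs
  by_cases h2 : ∀ q : ℕ, q.Prime → q ∣ Nat.card H → q = 2
  · have := Fact.mk Nat.prime_two
    have hc := Nat.eq_prime_pow_of_unique_prime_dvd (p := 2) (Nat.card_pos (α := H)).ne'
      fun {d} hd hdv => h2 d hd hdv
    have := (IsPGroup.of_card (p := 2) hc).isNilpotent
    infer_instance
  push Not at h2
  obtain ⟨q, hq, hqd, hq2⟩ := h2
  have := Fact.mk hq
  obtain ⟨P⟩ := (inferInstance : Nonempty (Sylow q H))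
  set Z0 : Subgroup H := Cfsg.centerThompsonOf q (P : Subgroup H) with hZ0
  set Pm : Subgroup G := (P : Subgroup H).map H.subtype with hPm
  set Z : Subgroup G := Z0.map H.subtype with hZ
  obtain ⟨h, hh, hxP⟩ := exists_shift x P
  have hs' := shift_split hs hh
  have hxZ : x * h ∈ normalizer (Z : Set G) := by
    have hZP : Cfsg.centerThompsonOf q Pm = Z :=
      Replacement.centerThompsonOf_map_injOn H.subtype fun a _ ha => H.subtype_injective (ha.trans (map_one _).symm)
    rw [mem_normalizer_iff_map] at hxP ⊢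
    rw [← hZP]
    exact (Replacement.centerThompsonOf_map_equiv (MulAut.conj (x * h)) Pm).symm.trans (by rw [hxP])
  have hPne : Nontrivial (P : Subgroup H) := by
    rw [← Finite.one_lt_card_iff_nontrivial]
    exact lt_of_lt_of_le hq.one_lt (Nat.le_of_dvd Nat.card_pos (P.dvd_card_of_dvd_card hqd))
  have hZne : Z ≠ ⊥ := by
    rw [hZ, Ne, map_eq_bot_iff_of_injective _ H.subtype_injective, hZ0, ← PComplement.wOf_zj]
    intro hb
    refine (PComplement.isCharPFunctor_zj (p := q)).1 _ P.isPGroup' hPne ?_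
    exact (map_eq_bot_iff_of_injective _ (P : Subgroup H).subtype_injective).1 hb
  by_cases hZn : Z0.Normal
  · by_cases hZt : Z0 = ⊤
    · refine Group.isSolvable_of_comm fun a b => ?_
      have := Replacement.centerThompsonOf_isMulCommutative (p := q) (P : Subgroup H)
      rw [← hZ0, hZt] at this
      exact congrArg Subtype.val (this.is_comm.comm (⟨a, mem_top _⟩ : (⊤ : Subgroup H)) ⟨b, mem_top _⟩)
    have hZH : Z < H := lt_of_le_of_ne (map_subtype_le _) fun he => hZt
      (map_injective H.subtype_injective (he.trans (by rw [← MonoidHom.range_eq_map, H.range_subtype])))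
    have hHN : H ≤ normalizer (Z : Set G) := by
      intro a ha
      have h1 : Z0.map (MulAut.conj (⟨a, ha⟩ : H)).toMonoidHom = Z0 :=
        mem_normalizer_iff_map.1 (by rw [normalizer_eq_top_iff.2 hZn]; trivial)
      rw [mem_normalizer_iff_map, hZ]
      conv_rhs => rw [← h1]
      rw [Subgroup.map_map, Subgroup.map_map]
      congr 1
    let N : Subgroup G := normalizer (Z : Set G)
    have : (H.subgroupOf N).Normal := inferInstance
    have : (Z.subgroupOf N).Normal := normal_in_normalizer
    have hZN : Z ≤ N := le_normalizer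
    have := solvable_step ih N (H.subgroupOf N) ⟨x * h, hxZ⟩
      ((Nat.card_congr (subgroupOfEquivOfLe hHN).toEquiv).trans hn)
      (fun k hk => Subtype.ext (hs' k hk)) (Z.subgroupOf N)
      (lt_of_le_of_ne (comap_mono hZH.le) fun he => hZH.ne (by
        have h1 := congrArg (fun K : Subgroup N => K.map N.subtype) he
        simp only [map_subgroupOf_eq_of_le hZN] at h1
        exact h1.trans (map_subgroupOf_eq_of_le hHN)))
      (fun he => hZne (by
        have h1 := congrArg (fun K : Subgroup N => K.map N.subtype) he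
        simpa [map_subgroupOf_eq_of_le hZN] using h1))
    exact Group.isSolvable_of_surjective (f := (subgroupOfEquivOfLe hHN).toMonoidHom) (subgroupOfEquivOfLe hHN).surjective
  set M0 : Subgroup H := normalizer (Z0 : Set H) with hM0
  set M : Subgroup G := M0.map H.subtype with hM
  have hxM : x * h ∈ normalizer (M : Set G) := by
    have hxH : ∀ a : H, ((MulAut.conjNormal (x * h) : MulAut H) a : G) = x * h * a * (x * h)⁻¹ :=
      fun a => MulAut.conjNormal_apply _ _
    clear_value Z Z0 Pm
    rw [hZ] at hxZ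
    set f : MulAut H := MulAut.conjNormal (x * h) with hf
    have hcomp : (MulAut.conj (x * h)).toMonoidHom.comp H.subtype = H.subtype.comp f.toMonoidHom := by
      ext a
      exact (hxH a).symm
    have hZ0f : Z0.map f.toMonoidHom = Z0 := by
      apply map_injective H.subtype_injective
      rw [Subgroup.map_map, ← hcomp, ← Subgroup.map_map]
      exact mem_normalizer_iff_map.1 hxZ
    rw [mem_normalizer_iff_map, hM]
    conv_lhs => rw [Subgroup.map_map, hcomp, ← Subgroup.map_map]
    congr 1
    rw [hM0, map_equiv_normalizer_eq, hZ0f]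
  have hMlt : Nat.card M < n := by
    rw [← hn, hM, card_map_of_injective H.subtype_injective]
    refine lt_of_le_of_ne (Nat.le_of_dvd Nat.card_pos M0.card_subgroup_dvd_card) fun he => hZn ?_
    exact normalizer_eq_top_iff.1 (eq_top_of_card_eq M0 he)
  let N : Subgroup G := normalizer (M : Set G)
  have hMN : M ≤ N := le_normalizer
  have : (M.subgroupOf N).Normal := normal_in_normalizer
  have hcard : Nat.card (M.subgroupOf N) = Nat.card M := Nat.card_congr (subgroupOfEquivOfLe hMN).toEquiv
  have hsM : Split p (⟨x * h, hxM⟩ : N) (M.subgroupOf N) := fun k hk =>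
    Subtype.ext (hs' k (map_subtype_le M0 hk))
  have hsolM := ih _ hMlt N (M.subgroupOf N) ⟨x * h, hxM⟩ hcard hsM
  have hnilM := nilpotent_aux hp _ N (M.subgroupOf N) _ rfl hsM hsolM
  have : Group.IsNilpotent M0 := by
    have := Group.nilpotent_of_mulEquiv (subgroupOfEquivOfLe hMN)
    exact Group.nilpotent_of_mulEquiv (M0.equivMapOfInjective H.subtype H.subtype_injective).symm
  have hc : Cfsg.HasNormalPComplement q H :=
    PComplement.zjComplement hq2 P (Solvable.hasNormalPComplement_of_isNilpotent q)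
  set K : Subgroup H := Cfsg.pResidual q H with hK
  by_cases hKb : K = ⊥
  · obtain ⟨P', C, hCn, hcpl⟩ := hc
    rw [Transfer.eq_pResidual_of_isComplement'_sylow P' hcpl, ← hK, hKb, isComplement'_bot_left] at hcpl
    have := (P'.isPGroup'.of_equiv ((MulEquiv.subgroupCongr hcpl).trans topEquiv)).isNilpotent
    infer_instance
  have hKchar : K.Characteristic := characteristic_iff_map_eq.2 fun e =>
    Transfer.map_residual_mulEquiv e q
  refine solvable_step ih G H x hn hs (K.map H.subtype) ?_
    (fun he => hKb ((map_eq_bot_iff_of_injective _ H.subtype_injective).1 he))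
  refine lt_of_le_of_ne (map_subtype_le _) fun he => ?_
  have hKt : K = ⊤ := map_injective H.subtype_injective
    (he.trans (by rw [← MonoidHom.range_eq_map, H.range_subtype]))
  apply Transfer.hasNormalPComplement_iff.1 hc
  rw [← hK, hKt, card_top]
  exact hqd

theorem index_eq {G : Type u} [Group G] [Finite G] {p : ℕ} (hp : p.Prime) (hG : ¬ IsPGroup p G)
    (H : Subgroup G) [H.Normal] (hH : H ≠ ⊤) (hout : ∀ g : G, g ∉ H → g ^ p = 1)
    (hin : ∀ g : G, g ^ p ≠ 1 → g ∈ H) : H.index = p := by
  classical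
  have := Fact.mk hp
  obtain ⟨q, hq, hqG, hqp⟩ : ∃ q, q.Prime ∧ q ∣ Nat.card G ∧ q ≠ p := by
    by_contra hc
    push Not at hc
    exact hG (IsPGroup.of_card (Nat.eq_prime_pow_of_unique_prime_dvd Nat.card_pos.ne'
      fun {d} hd hdv => hc d hd hdv))
  have := Fact.mk hq
  have hqH : q ∣ Nat.card H := by
    obtain ⟨g, hg⟩ := exists_prime_orderOf_dvd_card' q hqG
    have hgH : g ∈ H := hin g fun h => hqp
      ((Nat.prime_dvd_prime_iff_eq hq hp).1 (hg ▸ orderOf_dvd_of_pow_eq_one h))
    rw [← hg, ← orderOf_mk g hgH]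
    exact orderOf_dvd_natCard _
  obtain ⟨Q⟩ := (inferInstance : Nonempty (Sylow q H))
  let N : Subgroup G := normalizer (((Q : Subgroup H).map H.subtype : Subgroup G) : Set G)
  have hQN : N ⊔ H = ⊤ := Sylow.normalizer_sup_eq_top Q
  obtain ⟨T⟩ := (inferInstance : Nonempty (Sylow p N))
  -- the module
  let Qn : Subgroup N := ((Q : Subgroup H).map H.subtype).subgroupOf N
  have : Qn.Normal := normal_in_normalizer
  let V : Subgroup N := (Subgroup.center Qn).map Qn.subtype
  have : V.Normal := inferInstance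
  have : IsMulCommutative V := inferInstance
  let _ : CommGroup V := { (inferInstance : Group V) with mul_comm := ‹IsMulCommutative V›.is_comm.comm }
  have hQn : IsPGroup q Qn := (Q.isPGroup'.map H.subtype).of_equiv (subgroupOfEquivOfLe le_normalizer).symm
  have hVq : IsPGroup q V := (hQn.to_subgroup _).map _
  have hVne : Nontrivial V := by
    have : Nontrivial Qn := by
      rw [← Finite.one_lt_card_iff_nontrivial, Nat.card_congr (subgroupOfEquivOfLe le_normalizer).toEquiv,
        card_map_of_injective H.subtype_injective]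
      exact lt_of_lt_of_le hq.one_lt (Nat.le_of_dvd Nat.card_pos (Q.dvd_card_of_dvd_card hqH))
    have := hQn.center_nontrivial
    exact ((Subgroup.center Qn).equivMapOfInjective _ Qn.subtype_injective).toEquiv.symm.nontrivial
  have hcoV : p.Coprime (Nat.card V) := by
    obtain ⟨j, hj⟩ := hVq.exists_card_eq
    rw [hj]
    exact Nat.Coprime.pow_right _ ((Nat.coprime_primes hp hq).2 (Ne.symm hqp))
  have hVH : ∀ v ∈ V, (v : G) ∈ H := by
    rintro _ ⟨c, -, rfl⟩
    exact map_subtype_le _ (mem_subgroupOf.1 c.2)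
  let φ : (T : Subgroup N) →* MulAut V := (MulAut.conjNormal).comp (T : Subgroup N).subtype
  have hfpf : ∀ s : (T : Subgroup N), ((s : N) : G) ∉ H → ∀ v : V, φ s v = v → v = 1 := by
    intro s hs v hv
    have hv' : ((s : N) : G) * ((v : N) : G) = ((v : N) : G) * ((s : N) : G) := by
      have h1 := congrArg Subtype.val hv
      rw [MonoidHom.comp_apply, MulAut.conjNormal_apply] at h1
      exact congrArg Subtype.val (mul_inv_eq_iff_eq_mul.1 h1)
    have h2 : (((s : N) : G) * ((v : N) : G)) ^ p = 1 := hout _ fun h =>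
      hs ((H.mul_mem_cancel_right (hVH _ v.2)).1 h)
    rw [(show Commute _ _ from hv').mul_pow, hout _ hs, one_mul] at h2
    have h3 : v ^ p = 1 ^ p := by
      rw [one_pow]
      exact Subtype.ext (Subtype.ext (by simpa using h2))
    exact (powCoprime hcoV.symm).injective h3
  let Pb : Subgroup (MulAut V) := φ.range
  let Kb : Subgroup (MulAut V) := ((H.subgroupOf N).subgroupOf (T : Subgroup N)).map φ
  have hout' : ∀ y ∈ Pb, y ∉ Kb → y ^ p = 1 ∧ ∀ v : V, y v = v → v = 1 := by
    rintro _ ⟨s, rfl⟩ hy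
    have hs : ((s : N) : G) ∉ H := fun h => hy (mem_map_of_mem φ h)
    refine ⟨?_, hfpf s hs⟩
    rw [← map_pow, (show s ^ p = 1 from Subtype.ext (Subtype.ext (by simpa using hout _ hs))), map_one]
  have havg : ∀ x z : MulAut V, x * z = z * x → z ^ p = 1 →
      (∀ i : ℤ, x * z ^ i ∈ Pb ∧ x * z ^ i ∉ Kb) → z = 1 := by
    intro x z hxz hz hxi
    have hQ : ∀ a ∈ zpowers z, (x * a) ^ p = 1 ∧ ∀ v : V, (x * a) v = v → v = 1 := by
      rintro _ ⟨i, rfl⟩
      exact hout' _ (hxi i).1 (hxi i).2
    refine MulEquiv.ext fun v => average (MonoidHom.id (MulAut V)) hp x (zpowers z) ?_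
      (fun a ha => (hQ a ha).1) (fun a ha w => ?_) ?_ z (mem_zpowers z) v
    · refine centralizer_le_normalizer _ (mem_centralizer_iff.2 ?_)
      rintro _ ⟨i, rfl⟩
      exact ((show Commute x z from hxz).zpow_right i).eq.symm
    · refine (hQ a ha).2 _ ?_
      obtain ⟨r, rfl⟩ := Nat.exists_eq_succ_of_ne_zero hp.ne_zero
      have h1 := (hQ a ha).1
      rw [map_prod]
      simp only [MonoidHom.id_apply]
      rw [Finset.prod_range_succ, Finset.prod_range_succ' (fun k => ((x * a) ^ k) w)]
      congr 1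
      · exact Finset.prod_congr rfl fun k _ => by rw [← MulAut.mul_apply, ← pow_succ']
      · rw [← MulAut.mul_apply, ← pow_succ', h1, pow_zero]
    · rw [Nat.card_zpowers]
      exact hcoV.coprime_dvd_left (orderOf_dvd_of_pow_eq_one hz)
  have hPb : IsPGroup p Pb := T.isPGroup'.of_surjective φ.rangeRestrict φ.rangeRestrict_surjective
  have hker : ∀ s : (T : Subgroup N), φ s = 1 → ((s : N) : G) ∈ H := by
    intro s hs
    by_contra h
    obtain ⟨v, hv⟩ := exists_ne (1 : V)
    exact hv (hfpf s h v (by rw [hs]; rfl))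
  -- N = T (N ∩ H)
  have hidx : ((H.subgroupOf N).subgroupOf (T : Subgroup N)).index = H.index := by
    have h1 : (H.subgroupOf N).index = H.index := by
      have h0 : H.relIndex (N ⊔ H) = H.relIndex N := by rw [sup_comm]; exact relIndex_sup_left N H
      rw [hQN, relIndex_top_right] at h0
      exact h0.symm
    rw [← h1]
    have hHp : IsPGroup p (N ⧸ H.subgroupOf N) := by
      intro a
      induction a using QuotientGroup.induction_on with
      | H a =>
        refine ⟨1, ?_⟩
        rw [pow_one, ← QuotientGroup.mk_pow, QuotientGroup.eq_one_iff]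
        by_cases ha : (a : G) ∈ H
        · exact pow_mem ha p
        · rw [(show a ^ p = 1 from Subtype.ext (by simpa using hout _ ha))]
          exact one_mem _
    have htop : (T : Subgroup N).map (QuotientGroup.mk' (H.subgroupOf N)) = ⊤ := by
      obtain ⟨j, hj⟩ := hHp.exists_card_eq
      rw [← Sylow.coe_mapSurjective (QuotientGroup.mk'_surjective _) T]
      exact ((T.mapSurjective (QuotientGroup.mk'_surjective _)).is_maximal'
        (IsPGroup.of_card (n := j) (by rw [card_top, hj])) le_top).symm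
    have h2 : (T : Subgroup N) ⊔ H.subgroupOf N = ⊤ := by
      rw [eq_top_iff, ← comap_top (QuotientGroup.mk' (H.subgroupOf N)), ← htop, comap_map_eq, QuotientGroup.ker_mk']
    have h3 := relIndex_sup_left (T : Subgroup N) (H.subgroupOf N)
    rw [sup_comm, h2, relIndex_top_right] at h3
    exact h3.symm
  rw [← hidx]
  -- pass to the image
  have hKi : ((H.subgroupOf N).subgroupOf (T : Subgroup N)).index = Kb.relIndex Pb := by
    have hle : φ.ker ≤ (H.subgroupOf N).subgroupOf (T : Subgroup N) := fun s hs => hker s hs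
    have := relIndex_map_map φ ((H.subgroupOf N).subgroupOf (T : Subgroup N)) ⊤
    rw [← MonoidHom.range_eq_map, sup_eq_left.2 hle, top_sup_eq, relIndex_top_right] at this
    exact this.symm
  rw [hKi]
  have hKP : Kb ≤ Pb := by rintro _ ⟨s, -, rfl⟩; exact ⟨s, rfl⟩
  have hne : ¬ Pb ≤ Kb := fun h => hH (index_eq_one.1 (by rw [← hidx, hKi, relIndex_eq_one.2 h]))
  obtain ⟨x, hx, hxK⟩ := SetLike.not_le_iff_exists.1 hne
  have hxne : x ≠ 1 := fun h => hxK (h ▸ one_mem _)
  have : Nontrivial Pb := ⟨⟨⟨x, hx⟩, 1, fun h => hxne (congrArg Subtype.val h)⟩⟩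
  obtain ⟨z0, hz0⟩ : ∃ z : Subgroup.center Pb, orderOf z = p := by
    have := hPb.center_nontrivial
    obtain ⟨j, hj, hc⟩ := (hPb.to_subgroup (Subgroup.center Pb)).nontrivial_iff_card.1 this
    exact exists_prime_orderOf_dvd_card' p (hc ▸ dvd_pow_self p hj.ne')
  set z : MulAut V := ((z0 : Pb) : MulAut V) with hz
  have hzP : z ∈ Pb := (z0 : Pb).2
  have hzo : orderOf z = p := by rw [hz, Subgroup.orderOf_coe, Subgroup.orderOf_coe, hz0]
  have hzne : z ≠ 1 := fun h => hp.ne_one (by rw [← hzo, h, orderOf_one])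
  have hzc : ∀ y ∈ Pb, y * z = z * y := fun y hy =>
    congrArg Subtype.val (mem_center_iff.1 z0.2 ⟨y, hy⟩)
  have hzp : z ^ p = 1 := hzo ▸ pow_orderOf_eq_one z
  by_cases hall : ∀ y ∈ Pb, y ∉ Kb → y ∈ zpowers z
  · have hPz : Pb = zpowers z := by
      refine le_antisymm (fun y hy => ?_) (zpowers_le.2 hzP)
      by_cases hyK : y ∈ Kb
      · have h1 := hall (x * y) (mul_mem hx hy) fun h => hxK ((Kb.mul_mem_cancel_right hyK).1 h)
        simpa using mul_mem (inv_mem (hall x hx hxK)) h1
      · exact hall y hy hyK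
    have h1 : Kb.relIndex Pb ∣ p := by
      have := Kb.relIndex_dvd_card Pb
      rwa [show Nat.card Pb = p by rw [hPz, Nat.card_zpowers, hzo]] at this
    refine (hp.eq_one_or_self_of_dvd _ h1).resolve_left fun h => hne (relIndex_eq_one.1 h)
  push Not at hall
  obtain ⟨y, hy, hyK, hyz⟩ := hall
  exfalso
  by_cases hi : ∀ i : ℤ, y * z ^ i ∉ Kb
  · exact hzne (havg y z (hzc y hy) hzp fun i => ⟨mul_mem hy (zpow_mem hzP i), hi i⟩)
  push Not at hi
  obtain ⟨i, hi⟩ := hi
  have hyp := (hout' y hy hyK).1
  set w := y * z ^ i with hw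
  have hwp : w ^ p = 1 := by
    rw [hw, ((show Commute y z from hzc y hy).zpow_right i).mul_pow, hyp, one_mul, ← zpow_natCast,
      ← zpow_mul, mul_comm i, zpow_mul, zpow_natCast, hzp, one_zpow]
  have hzw : z * w = w * z := ((hzc w (mul_mem hy (zpow_mem hzP i)))).symm
  have hzK : z ∉ Kb := fun h => hyK ((Kb.mul_mem_cancel_right (zpow_mem h i)).1 hi)
  have hw1 : w = 1 := havg z w hzw hwp fun j =>
    ⟨mul_mem hzP (zpow_mem (mul_mem hy (zpow_mem hzP i)) j),
      fun h => hzK ((Kb.mul_mem_cancel_right (zpow_mem hi j)).1 h)⟩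
  exact hyz (by rw [show y = (z ^ i)⁻¹ from eq_inv_of_mul_eq_one_left hw1]; exact inv_mem (zpow_mem (mem_zpowers z) i))


/-- Let G be a finite group and p a prime such that G is not a p-group, and suppose the Hughes subgroup H_p(G), generated by all elements g with g^p ≠ 1, is a proper subgroup. Then H_p(G) is nilpotent and has index p in G. -/
theorem result {G : Type*} [Group G] [Finite G] (p : ℕ) (hp : p.Prime) (hG : ¬ IsPGroup p G)
    (hH : Subgroup.closure {g : G | g ^ p ≠ 1} ≠ ⊤) :
    Group.IsNilpotent (Subgroup.closure {g : G | g ^ p ≠ 1}) ∧ (Subgroup.closure {g : G | g ^ p ≠ 1}).index = p := by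
  have := Fact.mk hp
  set H := Subgroup.closure {g : G | g ^ p ≠ 1} with hdef
  have hin : ∀ g : G, g ^ p ≠ 1 → g ∈ H := fun g hg => Subgroup.subset_closure hg
  have hout : ∀ g : G, g ∉ H → g ^ p = 1 := fun g hg => by
    by_contra h
    exact hg (hin g h)
  have hn : H.Normal := by
    refine ⟨fun a ha c => ?_⟩
    have hle : H ≤ H.comap (MulAut.conj c).toMonoidHom := (Subgroup.closure_le _).2 fun g hg =>
      hin _ fun h => hg (by
        have h' : (c * g * c⁻¹) ^ p = 1 := h
        rwa [conj_pow, mul_inv_eq_one, mul_eq_left] at h')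
    exact hle ha
  refine ⟨?_, index_eq hp hG H hH hout hin⟩
  obtain ⟨x, hx⟩ : ∃ x, x ∉ H := by
    by_contra h
    push Not at h
    exact hH ((Subgroup.eq_top_iff' H).2 h)
  have hs : Split p x H := fun h hh => hout _ fun hm => hx ((H.mul_mem_cancel_right hh).1 hm)
  exact nilpotent_aux hp _ G H x rfl hs (solvable_aux hp _ G H x rfl hs)

end Cfsg.Agent.S4249
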