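import Cfsg.Statements.S3736
import Cfsg.Agent.Lib.Coprime.Commutator
import Cfsg.Agent.Lib.PGroup.Frattini
import Cfsg.Agent.Lib.PGroup.Class2
import Cfsg.Agent.Lib.Components.Subnormal

set_option autoImplicit false
open Cfsg

namespace Cfsg.Agent.S3736

open scoped commutatorElement

section
variable {X : Type*} [Group X]

theorem norm_commutator {B M N : Subgroup X} (hM : B ≤ Subgroup.normalizer (M : Set X))
    (hN : B ≤ Subgroup.normalizer (N : Set X)) : B ≤ Subgroup.normalizer ((⁅M, N⁆ : Subgroup X) : Set X) := by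
  intro b hb
  apply Cfsg.Agent.Coprime.mem_normalizer_of_conj_smul_eq
  show Subgroup.map (MulAut.conj b).toMonoidHom ⁅M, N⁆ = _
  rw [Subgroup.map_commutator]
  exact congrArg₂ (fun S T => ⁅S, T⁆) (Cfsg.Agent.Coprime.conj_smul_eq_self_of_mem (hM hb))
    (Cfsg.Agent.Coprime.conj_smul_eq_self_of_mem (hN hb))

variable [Finite X]

/-- When `[P, A] = P` and `D` is invariant with abelian quotient, fixed points of `A` lie in `D`. -/
theorem fixed_le_of_abelian_quotient (A P : Subgroup X) (hAP : A ≤ Subgroup.normalizer (P : Set X))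
    (hcop : (Nat.card A).Coprime (Nat.card P)) (hcomm : ⁅P, A⁆ = P) (D : Subgroup P) [D.Normal]
    (hD : ∀ a ∈ A, ∀ x : P, x ∈ D → ∀ h : a * (x : X) * a⁻¹ ∈ P, (⟨a * x * a⁻¹, h⟩ : P) ∈ D)
    (hab : commutator P ≤ D) (c : P) (hc : ∀ a ∈ A, a * (c : X) = c * a) : c ∈ D := by
  classical
  haveI := Fintype.ofFinite A
  letI : CommGroup (P ⧸ D) := { (inferInstance : Group (P ⧸ D)) with
    mul_comm := (Subgroup.Normal.quotient_commutative_iff_commutator_le.2 hab).is_comm.comm }
  have hconj : ∀ a ∈ A, ∀ x ∈ P, a * x * a⁻¹ ∈ P := fun a ha x hx => (Subgroup.mem_normalizer_iff.1 (hAP ha) x).1 hx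
  let f : A → P →* P ⧸ D := fun a => (QuotientGroup.mk' D).comp
    (MonoidHom.mk' (fun x : P => (⟨(a : X) * x * (a : X)⁻¹, hconj a a.2 x x.2⟩ : P))
      (fun x y => Subtype.ext (by simp [mul_assoc])))
  let θ : P →* P ⧸ D :=
    { toFun := fun x => ∏ a : A, f a x
      map_one' := by simp
      map_mul' := fun x y => by simp [Finset.prod_mul_distrib] }
  have hθker : ∀ x : P, θ x = 1 := by
    have hinv : ∀ b ∈ A, ∀ x : P, ∀ h, θ ⟨b * x * b⁻¹, h⟩ = θ x := by
      intro b hb x h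
      refine Fintype.prod_equiv (Equiv.mulRight (⟨b, hb⟩ : A)) _ _ fun a => ?_
      show QuotientGroup.mk' D _ = QuotientGroup.mk' D _
      congr 1
      ext
      simp [mul_assoc]
    intro x
    suffices H : ∀ y ∈ ⁅P, A⁆, ∃ hy : y ∈ P, θ ⟨y, hy⟩ = 1 by
      obtain ⟨_, h⟩ := H x (hcomm.symm ▸ x.2)
      exact h
    intro y hy
    rw [Subgroup.commutator_def] at hy
    induction hy using Subgroup.closure_induction with
    | mem y hy =>
      obtain ⟨u, hu, b, hb, rfl⟩ := hy
      have h1 : b * u⁻¹ * b⁻¹ ∈ P := hconj b hb _ (P.inv_mem hu)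
      have e : ⁅u, b⁆ = u * (b * u⁻¹ * b⁻¹) := by rw [commutatorElement_def]; group
      refine ⟨e ▸ mul_mem hu h1, ?_⟩
      have e' : (⟨⁅u, b⁆, e ▸ mul_mem hu h1⟩ : P) = ⟨u, hu⟩ * ⟨b * u⁻¹ * b⁻¹, h1⟩ := Subtype.ext e
      rw [e', map_mul, hinv b hb ⟨u⁻¹, P.inv_mem hu⟩ h1,
        show (⟨u⁻¹, P.inv_mem hu⟩ : P) = (⟨u, hu⟩ : P)⁻¹ from rfl, map_inv, mul_inv_cancel]
    | one => exact ⟨one_mem P, map_one θ⟩
    | mul u v _ _ hu hv =>
      obtain ⟨hu, hu'⟩ := hu
      obtain ⟨hv, hv'⟩ := hv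
      exact ⟨mul_mem hu hv, by rw [show (⟨u * v, mul_mem hu hv⟩ : P) = ⟨u, hu⟩ * ⟨v, hv⟩ from rfl, map_mul, hu', hv', one_mul]⟩
    | inv u _ hu =>
      obtain ⟨hu, hu'⟩ := hu
      exact ⟨inv_mem hu, by rw [show (⟨u⁻¹, inv_mem hu⟩ : P) = (⟨u, hu⟩ : P)⁻¹ from rfl, map_inv, hu', inv_one]⟩
  have h1 : θ c = (QuotientGroup.mk' D c) ^ Nat.card A := by
    rw [Nat.card_eq_fintype_card, ← Finset.card_univ, ← Finset.prod_const]
    refine Finset.prod_congr rfl fun a _ => ?_
    show QuotientGroup.mk' D _ = _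
    congr 1
    ext
    show (a : X) * c * (a : X)⁻¹ = c
    rw [hc a a.2, mul_inv_cancel_right]
  rw [hθker] at h1
  have h2 : (QuotientGroup.mk' D c) = 1 := orderOf_eq_one_iff.1 (Nat.eq_one_of_dvd_coprimes hcop
    (orderOf_dvd_of_pow_eq_one h1.symm) ((orderOf_map_dvd _ c).trans (orderOf_dvd_natCard c)))
  exact (QuotientGroup.eq_one_iff c).1 h2

end

/-- The Hall–Higman reduction for a minimal non-trivial action. Let B, A and P be subgroups of a finite group with P a p-group, B normalizing P, and A a normal subgroup of B of order prime to p. Suppose A does not centralize P but centralizes every proper B-invariant subgroup of P. Then [P, A] = P; P is elementary abelian or special; B acts irreducibly on P/Φ(P), that is, the only B-invariant subgroups of P containing Φ(P) are Φ(P) and P; and if p is odd then every element of P has order dividing p. -/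
theorem result {X : Type*} [Group X] [Finite X] {p : ℕ} [Fact p.Prime] (B A P : Subgroup X) (hP : IsPGroup p P) (hBP : B ≤ Subgroup.normalizer (P : Set X)) (hAB : A ≤ B) (hAn : B ≤ Subgroup.normalizer (A : Set X)) (hAp : (Nat.card A).Coprime p) (hnt : ⁅P, A⁆ ≠ ⊥) (hmin : ∀ U : Subgroup X, U < P → B ≤ Subgroup.normalizer (U : Set X) → ⁅U, A⁆ = ⊥) : ⁅P, A⁆ = P ∧ (Cfsg.IsElementaryAbelian p P ∨ Cfsg.IsSpecial p ↥P) ∧ (∀ U : Subgroup X, (frattini ↥P).map P.subtype ≤ U → U ≤ P → B ≤ Subgroup.normalizer (U : Set X) → U = (frattini ↥P).map P.subtype ∨ U = P) ∧ (p ≠ 2 → ∀ x ∈ P, x ^ p = 1) := by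
  classical
  have hAP : A ≤ Subgroup.normalizer (P : Set X) := hAB.trans hBP
  obtain ⟨k, hk⟩ := hP.exists_card_eq
  have hcop : (Nat.card A).Coprime (Nat.card P) := hk ▸ hAp.pow_right k
  have hPs : Group.IsSolvable P := by
    haveI := hP.isNilpotent
    infer_instance
  have hle := Cfsg.Agent.Coprime.commutator_le_left_of_le_normalizer hAP
  have hPA : ⁅P, A⁆ = P := by
    by_contra hne
    have h := hmin _ (lt_of_le_of_ne hle hne) (norm_commutator hBP hAn)
    rw [Cfsg.Agent.Coprime.commutator_commutator_eq hAP hcop (Or.inr hPs)] at h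
    exact hnt h
  have hcharB : ∀ (T : Subgroup P) [T.Characteristic], B ≤ Subgroup.normalizer ((T.map P.subtype : Subgroup X) : Set X) :=
    fun T _ => hBP.trans (Cfsg.Agent.Components.normalizer_le_normalizer_map_of_characteristic P T)
  haveI : Nontrivial P := by
    rw [Subgroup.nontrivial_iff_ne_bot]
    rintro rfl
    exact hnt (Subgroup.commutator_bot_left A)
  have hproper : ∀ (T : Subgroup P) [T.Characteristic], T ≠ ⊤ → ∀ x ∈ T, ∀ a ∈ A, a * (x : X) = x * a := by
    intro T _ hT x hx a ha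
    have hlt : T.map P.subtype < P := by
      refine lt_of_le_of_ne (Subgroup.map_subtype_le T) fun h => hT ?_
      rw [← Subgroup.map_subtype_inj, ← MonoidHom.range_eq_map, Subgroup.range_subtype]
      exact h
    have h := Cfsg.Agent.Coprime.le_centralizer_iff_commutator_eq_bot.2 (hmin _ hlt (hcharB T))
    exact ((Subgroup.mem_centralizer_iff.1 (h ha)) _ (Subgroup.mem_map_of_mem P.subtype hx)).symm
  have hconjmem : ∀ (T : Subgroup P) [T.Characteristic], ∀ a ∈ A, ∀ x : P, x ∈ T →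
      ∀ h : a * (x : X) * a⁻¹ ∈ P, (⟨a * x * a⁻¹, h⟩ : P) ∈ T := by
    intro T _ a ha x hx h
    have h2 := (Subgroup.mem_normalizer_iff.1 (hcharB T (hAB ha)) x).1 (Subgroup.mem_map_of_mem P.subtype hx)
    obtain ⟨y, hy, hye⟩ := h2
    have : y = ⟨a * x * a⁻¹, h⟩ := Subtype.ext hye
    exact this ▸ hy
  have hΦtop : frattini ↥P ≠ ⊤ := fun h => by
    obtain ⟨M, hM⟩ := (IsCoatomic.eq_top_or_exists_le_coatom (⊥ : Subgroup P)).resolve_left bot_ne_top
    exact hM.1.1 (top_unique (h ▸ frattini_le_coatom hM.1))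
  have hcΦ : commutator P ≤ frattini ↥P := Cfsg.Agent.PGroup.commutator_le_frattini hP
  have hΦfix := hproper (frattini ↥P) hΦtop
  -- fixed points of A
  have hfix : ∀ c : P, (∀ a ∈ A, a * (c : X) = c * a) → c ∈ commutator P := fun c hc =>
    fixed_le_of_abelian_quotient A P hAP hcop hPA (commutator P) (hconjmem _) le_rfl c hc
  have hΦeq : frattini ↥P = commutator P := le_antisymm (fun x hx => hfix x (hΦfix x hx)) hcΦ
  -- `Φ(P)` is central
  have hcent : frattini ↥P ≤ Subgroup.center P := by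
    set D := (frattini ↥P).map P.subtype with hD
    have h1 : ⁅D, A⁆ = ⊥ := Cfsg.Agent.Coprime.le_centralizer_iff_commutator_eq_bot.1
      (fun a ha => Subgroup.mem_centralizer_iff.2 (by
        rintro _ ⟨x, hx, rfl⟩
        exact (hΦfix x hx a ha).symm))
    have h2 : ⁅P, D⁆ ≤ Subgroup.centralizer (A : Set X) := Subgroup.commutator_le.2 fun u hu v hv => by
      obtain ⟨v', hv', rfl⟩ := hv
      refine Subgroup.mem_centralizer_iff.2 fun a ha => ?_
      exact hΦfix ⁅(⟨u, hu⟩ : P), v'⁆ (hcΦ (Subgroup.commutator_mem_commutator (Subgroup.mem_top _) (Subgroup.mem_top _))) a ha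
    have h3 : ⁅⁅P, D⁆, A⁆ = ⊥ := Subgroup.commutator_eq_bot_iff_le_centralizer.2 h2
    have h4 : ⁅⁅D, A⁆, P⁆ = ⊥ := by rw [h1, Subgroup.commutator_bot_left]
    have h5 : ⁅⁅A, P⁆, D⁆ = ⊥ := Subgroup.commutator_commutator_eq_bot_of_rotate h3 h4
    rw [Subgroup.commutator_comm A P, hPA, Subgroup.commutator_eq_bot_iff_le_centralizer] at h5
    intro c hc
    rw [Subgroup.mem_center_iff]
    intro y
    exact Subtype.ext (Subgroup.mem_centralizer_iff.1 (h5 y.2) c ⟨c, hc, rfl⟩).symm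
  have hcl : commutator P ≤ Subgroup.center P := hcΦ.trans hcent
  have hirr : ∀ U : Subgroup X, (frattini ↥P).map P.subtype ≤ U → U ≤ P → B ≤ Subgroup.normalizer (U : Set X) →
      U = (frattini ↥P).map P.subtype ∨ U = P := by
    intro U hΦU hUP hBU
    by_cases h : U = P
    · exact Or.inr h
    left
    refine le_antisymm (fun x hx => ?_) hΦU
    have hc := Cfsg.Agent.Coprime.le_centralizer_iff_commutator_eq_bot.2 (hmin U (lt_of_le_of_ne hUP h) hBU)
    exact ⟨⟨x, hUP hx⟩, hcΦ (hfix ⟨x, hUP hx⟩ fun a ha => (Subgroup.mem_centralizer_iff.1 (hc ha) x hx).symm), rfl⟩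
  have hcp : ∀ u v : P, ⁅u, v⁆ ^ p = 1 :=
    Cfsg.Agent.PGroup.commutator_pow_eq_one hcl fun x => hcent (Cfsg.Agent.PGroup.pow_mem_frattini hP x)
  refine ⟨hPA, ?_, hirr, fun hp2 x hx => ?_⟩
  · by_cases hab : IsMulCommutative P
    · left
      refine ⟨hab, fun x hx => ?_⟩
      let Ω : Subgroup P :=
        { carrier := {y | y ^ p = 1}
          one_mem' := one_pow p
          mul_mem' := fun {u v} hu hv => by
            simp only [Set.mem_ofPred_eq] at *
            rw [(show Commute u v from hab.is_comm.comm u v).mul_pow, hu, hv, mul_one]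
          inv_mem' := fun {u} hu => by
            simp only [Set.mem_ofPred_eq] at *
            rw [inv_pow, hu, inv_one] }
      haveI : Ω.Characteristic := by
        rw [Subgroup.characteristic_iff_comap_eq]
        intro φ
        ext y
        show φ y ^ p = 1 ↔ y ^ p = 1
        rw [← map_pow, MulEquiv.map_eq_one_iff]
      by_contra hne
      have hΩ : Ω ≠ ⊤ := fun h => hne (congrArg Subtype.val ((show (⟨x, hx⟩ : P) ∈ Ω by rw [h]; exact Subgroup.mem_top _) : (⟨x, hx⟩ : P) ^ p = 1))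
      have hΩfix := hproper Ω hΩ
      have hc := Cfsg.Agent.Coprime.le_centralizer_of_prime_order hAP hcop fun v hv hvo a ha => by
        have hvp : orderOf v = p := by
          have hd : orderOf v ∣ p ^ k := hk ▸ Subgroup.orderOf_dvd_natCard P hv
          exact (Nat.prime_dvd_prime_iff_eq hvo Fact.out).1 (hvo.dvd_of_dvd_pow hd)
        exact hΩfix ⟨v, hv⟩ (Subtype.ext (by simp [← hvp, pow_orderOf_eq_one]) : (⟨v, hv⟩ : P) ^ p = 1) a ha
      exact hnt (Cfsg.Agent.Coprime.le_centralizer_iff_commutator_eq_bot.1 hc)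
    · right
      have hZtop : Subgroup.center P ≠ ⊤ := fun h => hab ⟨⟨fun u v => Subgroup.mem_center_iff.1 (h ▸ Subgroup.mem_top v) u⟩⟩
      have hZ : Subgroup.center P ≤ commutator P := fun z hz => hfix z (hproper _ hZtop z hz)
      exact ⟨hP, le_antisymm hcent (hΦeq ▸ hZ), le_antisymm hcl hZ⟩
  · have hp : p.Prime := Fact.out
    let π := Cfsg.Agent.PGroup.powHom hp hp2 hcl hcp
    haveI : π.ker.Characteristic := by
      rw [Subgroup.characteristic_iff_comap_eq]
      intro φ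
      ext y
      show φ y ^ p = 1 ↔ y ^ p = 1
      rw [← map_pow, MulEquiv.map_eq_one_iff]
    by_contra hne
    have hker : π.ker ≠ ⊤ := fun h => hne (congrArg Subtype.val ((show (⟨x, hx⟩ : P) ∈ π.ker by rw [h]; exact Subgroup.mem_top _) : (⟨x, hx⟩ : P) ^ p = 1))
    have hlt : π.ker.map P.subtype < P := by
      refine lt_of_le_of_ne (Subgroup.map_subtype_le _) fun h => hker ?_
      rw [← Subgroup.map_subtype_inj, ← MonoidHom.range_eq_map, Subgroup.range_subtype]
      exact h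
    refine absurd (hPA.symm.le.trans (Subgroup.commutator_le.2 fun u hu a ha => ?_)) hlt.not_ge
    have hu' : a * u⁻¹ * a⁻¹ ∈ P := (Subgroup.mem_normalizer_iff.1 (hAP ha) _).1 (P.inv_mem hu)
    refine ⟨⟨u, hu⟩ * ⟨a * u⁻¹ * a⁻¹, hu'⟩, ?_, by simp [commutatorElement_def, mul_assoc]⟩
    show π (⟨u, hu⟩ * ⟨a * u⁻¹ * a⁻¹, hu'⟩) = 1
    rw [map_mul]
    apply Subtype.ext
    show u ^ p * (a * u⁻¹ * a⁻¹) ^ p = 1
    have hfx : a * u ^ p = u ^ p * a :=
      hΦfix ((⟨u, hu⟩ : P) ^ p) (Cfsg.Agent.PGroup.pow_mem_frattini hP _) a ha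
    rw [conj_pow, inv_pow]
    have : a * (u ^ p)⁻¹ = (u ^ p)⁻¹ * a := (Commute.inv_right hfx).eq
    rw [this, mul_inv_cancel_right, mul_inv_cancel]

end Cfsg.Agent.S3736
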