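import Cfsg.Statements.S0824
import Cfsg.Agent.Lib.Forms.SmallOrth

set_option autoImplicit false
open Cfsg

namespace Cfsg.Agent.S0824

open Matrix

abbrev J := (Fin 1 ⊕ Fin 1) ⊕ Fin 2

def vec (x : Fin 4 → ZMod 2) : J → ZMod 2 :=
  Sum.elim (Sum.elim (fun _ => x 0) (fun _ => x 1)) ![x 2, x 3]

/-- The five singular points. -/
def pt : Fin 5 → J → ZMod 2 :=
  ![vec ![0, 1, 0, 0], vec ![1, 0, 0, 0], vec ![1, 1, 0, 1], vec ![1, 1, 1, 0], vec ![1, 1, 1, 1]]

def Q : (J → ZMod 2) → ZMod 2 := Cfsg.quadFormMinus 1 (ZMod 2) 1 1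

theorem cover : ∀ v, v ≠ 0 → Q v = 0 → ∃ i, v = pt i := by decide +kernel

theorem pt_singular : ∀ i, Q (pt i) = 0 ∧ pt i ≠ 0 := by decide +kernel

/-- Reflection vectors of the adjacent swaps. -/
def refl : Fin 4 → J → ZMod 2 :=
  ![vec ![1, 1, 0, 0], vec ![0, 1, 0, 1], vec ![0, 0, 1, 1], vec ![0, 0, 0, 1]]

theorem refl_spec : ∀ i, Forms.SmallOrth.reflMat Q (refl i) * Forms.SmallOrth.reflMat Q (refl i) = 1 ∧
    (∀ v, Q (Forms.SmallOrth.reflMat Q (refl i) *ᵥ v) = Q v) ∧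
    ∀ k, ({pt k} : Finset (J → ZMod 2)).image (Forms.SmallOrth.reflMat Q (refl i) *ᵥ ·) =
      {pt (Equiv.swap i.castSucc i.succ k)} := by
  decide +kernel

theorem span_spec : ∀ k : J, ∃ l ∈ ([[0], [1], [3, 0, 1], [2, 0, 1]] : List (List (Fin 5))),
    (l.map pt).sum = Pi.single k 1 := by
  decide +kernel

theorem pt_injective : ∀ i j, pt i = pt j → i = j := by decide +kernel

theorem core : Nonempty (↥(Cfsg.isometryGroup (ZMod 2) Q) ≃* Equiv.Perm (Fin 5)) := by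
  refine Forms.SmallOrth.nonempty_perm_equiv Q (fun i => {pt i})
    (fun i j h => pt_injective i j (Finset.singleton_injective h)) ?_ ?_ refl refl_spec
  · intro M hM hinj i
    obtain ⟨j, hj⟩ := cover (M *ᵥ pt i)
      (fun h => (pt_singular i).2 (hinj (h.trans (Matrix.mulVec_zero M).symm)))
      ((hM _).trans (pt_singular i).1)
    exact ⟨j, by rw [Finset.image_singleton, hj]⟩
  · intro k
    obtain ⟨l, -, hl⟩ := span_spec k
    refine ⟨l.map pt, ?_, hl⟩
    intro v hv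
    obtain ⟨i, -, rfl⟩ := List.mem_map.1 hv
    exact ⟨i, i, Finset.inter_self _⟩


/-- O⁻_4(2) ≅ S_5: the isometry group of the form x y + z_1² + z_1 z_2 + z_2² over the field with 2 elements is isomorphic to the symmetric group on 5 letters. -/
theorem result {F : Type*} [Field F] [Fintype F] (hF : Fintype.card F = 2) : Nonempty (↥(Cfsg.isometryGroup F (Cfsg.quadFormMinus 1 F 1 1)) ≃* Equiv.Perm (Fin 5)) := by
  obtain ⟨e⟩ := core
  let σ : ZMod 2 ≃+* F := FiniteField.ringEquivOfCardEq (by rw [ZMod.card, hF])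
  obtain ⟨e'⟩ := Forms.SmallOrth.nonempty_equiv σ (Q := Q) (Q' := Cfsg.quadFormMinus 1 F 1 1)
    fun v => by simp only [Q, Cfsg.quadFormMinus, map_add, map_mul, map_pow, map_sum, map_one]
  exact ⟨e'.symm.trans e⟩

end Cfsg.Agent.S0824
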