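import Cfsg.Statements.S5628
import Cfsg.Agent.Lib.Steiner.PlaneFourModel
-- import your own Cfsg.Agent.* helpers here

set_option autoImplicit false
open Cfsg

open scoped Pointwise

namespace Cfsg.Agent.S5628

/-- In a projective plane of order 4 (a Steiner system S(2, 5, 21)), every permutation of the six points of a hyperoval (a 6-set met by no line in more than two points) is the restriction of exactly one automorphism of the plane. In particular the stabiliser of a hyperoval in the automorphism group is isomorphic to the symmetric group of degree 6 acting faithfully on the hyperoval. -/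
theorem result {α : Type*} [Fintype α] [DecidableEq α] (hα : Fintype.card α = 21) (L : Set (Finset α)) (hL : Cfsg.IsSteinerSystem 2 5 L) (H : Finset α) (hH : (H.card = 6 ∧ ∀ l ∈ L, (l ∩ H).card ≤ 2)) (σ : Equiv.Perm ↥H) : ∃! g : Equiv.Perm α, g ∈ Cfsg.setSystemAut L ∧ ∀ p : ↥H, g p = σ p := by
  classical
  obtain ⟨h6, hi⟩ := hH
  let ε := (H.equivFinOfCardEq h6).symm
  let ι : Fin 6 → α := fun i => (ε i : α)
  let ι' : Fin 6 → α := fun i => (σ (ε i) : α)
  have hι : Function.Injective ι := Subtype.val_injective.comp ε.injective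
  have hι' : Function.Injective ι' := Subtype.val_injective.comp (σ.injective.comp ε.injective)
  have him : ∀ f : Fin 6 → α, (∀ i, f i ∈ H) → PlaneFour.Indep L (Finset.univ.image f) := by
    intro f hf l hl
    refine (Finset.card_le_card (Finset.inter_subset_inter_left ?_)).trans (hi l hl)
    intro x hx
    obtain ⟨i, -, rfl⟩ := Finset.mem_image.mp hx
    exact hf i
  obtain ⟨e, he, heL⟩ := PlaneFour.exists_model_iso hα hL ι hι (him ι fun i => (ε i).2)
  obtain ⟨e', he', heL'⟩ := PlaneFour.exists_model_iso hα hL ι' hι' (him ι' fun i => (σ (ε i)).2)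
  set g : Equiv.Perm α := e.symm.trans e' with hg
  have hsmul : ∀ (f : Equiv.Perm α) (S : Finset α), f • S = S.image f := fun f S => rfl
  have hgH : ∀ p : ↥H, g p = σ p := by
    intro p
    have h1 : e.symm (p : α) = Sum.inl (ε.symm p) := by
      rw [Equiv.symm_apply_eq, he]
      simp [ι]
    rw [hg, Equiv.trans_apply, h1, he']
    simp [ι']
  have hgL : g ∈ Cfsg.setSystemAut L := by
    rw [MulAction.mem_stabilizer_iff]
    calc g • L = (fun S : Finset α => S.image g) '' L := rfl
      _ = L := by
        conv_lhs => rw [← heL]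
        rw [Set.image_image]
        conv_rhs => rw [← heL']
        refine Set.image_congr fun S _ => ?_
        rw [Finset.image_image]
        exact Finset.image_congr fun x _ => by simp [hg]
  refine ⟨g, ⟨hgL, hgH⟩, ?_⟩
  rintro f ⟨hfL, hfH⟩
  -- `k` fixes the hyperoval pointwise, hence every secant, hence every point
  set k := g⁻¹ * f with hk
  have hkL : k ∈ Cfsg.setSystemAut L := mul_mem (inv_mem hgL) hfL
  have hkH : ∀ i, k (ι i) = ι i := by
    intro i
    rw [hk, Equiv.Perm.mul_apply, show f (ι i) = g (ι i) from (hfH (ε i)).trans (hgH (ε i)).symm]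
    simp
  have hline : ∀ a b, a ≠ b → ∀ x ∈ PlaneFour.line hL (ι a) (ι b),
      k x ∈ PlaneFour.line hL (ι a) (ι b) := by
    intro a b hab x hx
    obtain ⟨hl, hal, hbl⟩ := PlaneFour.line_spec hL (hι.ne hab)
    have hkl : k • PlaneFour.line hL (ι a) (ι b) ∈ L := by
      have hm := Set.smul_mem_smul_set (a := k) hl
      rw [MulAction.mem_stabilizer_iff.mp hkL] at hm
      exact hm
    rw [hsmul] at hkl
    rw [PlaneFour.line_eq hL (hι.ne hab) hkl (Finset.mem_image.mpr ⟨_, hal, hkH a⟩)
      (Finset.mem_image.mpr ⟨_, hbl, hkH b⟩)]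
    exact Finset.mem_image_of_mem k hx
  suffices hk1 : k = 1 by rw [hk, inv_mul_eq_one] at hk1; exact hk1.symm
  refine Equiv.ext fun x => ?_
  obtain ⟨q, rfl⟩ := e.surjective x
  rw [Equiv.Perm.one_apply]
  cases q with
  | inl i => rw [he]; exact hkH i
  | inr j =>
    obtain ⟨a, ha0, ha1⟩ : ∃ a, a ≠ 0 ∧ a ≠ PlaneFour.syntheme j 0 := by revert j; decide
    have hne : ∀ c, c ≠ PlaneFour.syntheme j c := fun c => (PlaneFour.syntheme_ne j c).symm
    have hmem : ∀ c, e (Sum.inr j) ∈ PlaneFour.line hL (ι c) (ι (PlaneFour.syntheme j c)) := by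
      intro c
      have hS : PlaneFour.secant c (PlaneFour.syntheme j c) ∈ PlaneFour.modelLines :=
        Or.inl ⟨c, _, hne c, rfl⟩
      have hl : (PlaneFour.secant c (PlaneFour.syntheme j c)).image e ∈ L :=
        heL ▸ Set.mem_image_of_mem _ hS
      rw [PlaneFour.line_eq hL (hι.ne (hne c)) hl
        (Finset.mem_image.mpr ⟨Sum.inl c, by simp [PlaneFour.secant], he c⟩)
        (Finset.mem_image.mpr ⟨Sum.inl _, by simp [PlaneFour.secant], he _⟩)]
      exact Finset.mem_image_of_mem e (by simp [PlaneFour.secant])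
    obtain ⟨hl0, hm0, -⟩ := PlaneFour.line_spec hL (hι.ne (hne 0))
    obtain ⟨hla, hma, hmb⟩ := PlaneFour.line_spec hL (hι.ne (hne a))
    refine PlaneFour.eq_of_mem_mem hL hl0 hla ?_ (hline 0 _ (hne 0) _ (hmem 0))
      (hline a _ (hne a) _ (hmem a)) (hmem 0) (hmem a)
    intro e0
    rcases PlaneFour.eq_of_mem_line hL (him ι fun i => (ε i).2)
      (Finset.mem_image_of_mem ι (Finset.mem_univ 0))
      (Finset.mem_image_of_mem ι (Finset.mem_univ _))
      (Finset.mem_image_of_mem ι (Finset.mem_univ a)) (hι.ne (hne 0)) (e0 ▸ hma) with e1 | e1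
    · exact ha0 (hι e1)
    · exact ha1 (hι e1)

end Cfsg.Agent.S5628
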