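import Cfsg.Statements.S0428
import Cfsg.Agent.Lib.Steiner.S3622

set_option autoImplicit false
open Cfsg

namespace Cfsg.Agent.S0428

/-- The point-block graph of an S(3, 6, 22) is strongly regular with parameters (100, 22, 0, 6). -/
theorem result {α : Type*} [Fintype α] (hα : Fintype.card α = 22) {B : Set (Finset α)} (hB : Cfsg.IsSteinerSystem 3 6 B) [Fintype B] [DecidableRel (Cfsg.pointBlockGraph B).Adj] : (Cfsg.pointBlockGraph B).IsSRGWith 100 22 0 6 := by
  classical
  set B' := B.toFinset with hB'
  have hS : Cfsg.IsSteinerSystem 3 6 (B' : Set (Finset α)) := by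
    rwa [hB', Set.coe_toFinset]
  have hmem : ∀ x : B, (x : Finset α) ∈ B' := fun x => Set.mem_toFinset.2 x.2
  have hdne : ∀ u w : B, Disjoint (u : Finset α) (w : Finset α) → u ≠ w := by
    rintro u w h rfl
    have := hB.1 _ u.2
    rw [disjoint_self.1 h] at this
    simp at this
  generalize hG : Cfsg.pointBlockGraph B = G at *
  -- the adjacency table
  have nn : ¬ G.Adj none none := fun h => h.ne rfl
  have na : ∀ a, G.Adj none (some (Sum.inl a)) := fun a => by
    simp [← hG, Cfsg.pointBlockGraph, Cfsg.pointBlockRel]
  have nb : ∀ u, ¬ G.Adj none (some (Sum.inr u)) := fun u => by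
    simp [← hG, Cfsg.pointBlockGraph, Cfsg.pointBlockRel]
  have aa : ∀ a a', ¬ G.Adj (some (Sum.inl a)) (some (Sum.inl a')) := fun a a' => by
    simp [← hG, Cfsg.pointBlockGraph, Cfsg.pointBlockRel]
  have ab : ∀ a u, G.Adj (some (Sum.inl a)) (some (Sum.inr u)) ↔ a ∈ (u : Finset α) := fun a u => by
    simp [← hG, Cfsg.pointBlockGraph, Cfsg.pointBlockRel]
  have bb : ∀ u w, G.Adj (some (Sum.inr u)) (some (Sum.inr w)) ↔
      Disjoint (u : Finset α) (w : Finset α) := fun u w => by
    simp only [← hG, Cfsg.pointBlockGraph, SimpleGraph.fromRel_adj, Cfsg.pointBlockRel, ne_eq,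
      Option.some.injEq, Sum.inr.injEq]
    exact ⟨fun h => h.2.elim id (fun h' => h'.symm), fun h => ⟨hdne u w h, Or.inl h⟩⟩
  have count : ∀ (s : Set (Option (α ⊕ B))) (P : α → Prop) (Q : Finset α → Prop)
      [DecidablePred P] [DecidablePred Q],
      (∀ a, some (Sum.inl a) ∈ s ↔ P a) → (∀ u : B, some (Sum.inr u) ∈ s ↔ Q u) →
      s.ncard = (if none ∈ s then 1 else 0) + (Finset.univ.filter P).card
        + (B'.filter Q).card := by
    intro s P Q _ _ hP hQ
    rw [Set.ncard_eq_toFinset_card' s, show s.toFinset = Finset.univ.filter (· ∈ s) by ext; simp,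
      Finset.card_filter, Fintype.sum_option, Fintype.sum_sum_type, Finset.card_filter,
      Finset.card_filter, add_assoc]
    congr 1
    congr 1
    · exact Finset.sum_congr rfl fun a _ => if_congr (hP a) rfl rfl
    · rw [Finset.sum_subtype B' (p := (· ∈ B)) (fun x => Set.mem_toFinset)]
      exact Finset.sum_congr rfl fun u _ => if_congr (hQ u) rfl rfl
  have h21 := Cfsg.Agent.Steiner.card_through_point hS hα
  have h6 := fun u : B => hB.1 _ u.2
  have hfiltu : ∀ u : B, (Finset.univ.filter fun a => a ∈ (u : Finset α)) = u := fun u => by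
    ext a; simp
  have hempty : ∀ (s : Finset (Finset α)), (s.filter fun _ => False).card = 0 := fun s => by simp
  have hcard : Fintype.card B = 77 := by
    rw [← Cfsg.Agent.Steiner.card_blocks hS hα, ← Fintype.card_coe]
    exact Fintype.card_congr (Equiv.subtypeEquivRight fun x => Set.mem_toFinset.symm)
  -- common neighbours
  have hsym : ∀ v w, G.commonNeighbors v w = G.commonNeighbors w v := G.commonNeighbors_symm
  have cnb : ∀ u, (G.commonNeighbors none (some (Sum.inr u))).ncard = 6 := fun u => by
    rw [count _ (fun a => a ∈ (u : Finset α)) (fun _ => False)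
      (fun a => by simp [SimpleGraph.mem_commonNeighbors, na a, G.adj_comm (some (Sum.inr u)), ab])
      (fun x => by simp [SimpleGraph.mem_commonNeighbors, nb x]),
      if_neg (by simp [SimpleGraph.mem_commonNeighbors, nn]), hfiltu, h6, hempty]
  have cna : ∀ a, (G.commonNeighbors none (some (Sum.inl a))).ncard = 0 := fun a => by
    rw [count _ (fun _ => False) (fun _ => False)
      (fun a' => by simp [SimpleGraph.mem_commonNeighbors, aa a a'])
      (fun x => by simp [SimpleGraph.mem_commonNeighbors, nb x]),
      if_neg (by simp [SimpleGraph.mem_commonNeighbors, nn]), hempty]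
    simp
  have caa : ∀ a a', a ≠ a' →
      (G.commonNeighbors (some (Sum.inl a)) (some (Sum.inl a'))).ncard = 6 := fun a a' hne => by
    rw [count _ (fun _ => False) (fun d => {a, a'} ⊆ d)
      (fun x => by simp [SimpleGraph.mem_commonNeighbors, aa a x])
      (fun x => by simp [SimpleGraph.mem_commonNeighbors, ab, Finset.insert_subset_iff]),
      if_pos ⟨(na a).symm, (na a').symm⟩, Cfsg.Agent.Steiner.card_through_pair hS hα hne]
    simp
  have cab : ∀ a (u : B),
      (G.commonNeighbors (some (Sum.inl a)) (some (Sum.inr u))).ncard =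
        if a ∈ (u : Finset α) then 0 else 6 := fun a u => by
    rw [count _ (fun _ => False) (fun d => Disjoint (u : Finset α) d ∧ a ∈ d)
      (fun x => by simp [SimpleGraph.mem_commonNeighbors, aa a x])
      (fun x => by simp [SimpleGraph.mem_commonNeighbors, ab, bb, and_comm]),
      if_neg (fun h => nb u h.2.symm)]
    by_cases ha : a ∈ (u : Finset α)
    · rw [if_pos ha, Finset.filter_false_of_mem (fun _ _ => id), Finset.card_empty,
        Finset.filter_false_of_mem (fun d _ hd => Finset.disjoint_left.1 hd.1 ha hd.2),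
        Finset.card_empty]
    · rw [if_neg ha, Cfsg.Agent.Steiner.card_disjoint_through_point hS hα (hmem u) ha]
      simp
  have cbb : ∀ u w : B, u ≠ w →
      (G.commonNeighbors (some (Sum.inr u)) (some (Sum.inr w))).ncard =
        if Disjoint (u : Finset α) (w : Finset α) then 0 else 6 := fun u w hne => by
    rw [count _ (fun x => x ∈ (u : Finset α) ∩ (w : Finset α))
      (fun d => Disjoint (u : Finset α) d ∧ Disjoint (w : Finset α) d)
      (fun x => by simp [SimpleGraph.mem_commonNeighbors, G.adj_comm (some (Sum.inr _)), ab])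
      (fun x => by simp [SimpleGraph.mem_commonNeighbors, bb]),
      if_neg (fun h => nb u h.1.symm)]
    have hne' : (u : Finset α) ≠ w := fun e => hne (Subtype.ext e)
    have hfx : (Finset.univ.filter fun x => x ∈ (u : Finset α) ∩ (w : Finset α)) =
        (u : Finset α) ∩ (w : Finset α) := Finset.filter_univ_mem _
    rw [hfx]
    by_cases hd : Disjoint (u : Finset α) (w : Finset α)
    · rw [if_pos hd, Cfsg.Agent.Steiner.card_disjoint_disjoint hS hα (hmem u) (hmem w) hd,
        Finset.disjoint_iff_inter_eq_empty.1 hd, Finset.card_empty]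
    · rw [if_neg hd, Cfsg.Agent.Steiner.card_disjoint_meeting hS hα (hmem u) (hmem w) hne' hd]
      have := (Cfsg.Agent.Steiner.inter_card hS hα (hmem u) (hmem w) hne').resolve_left fun h0 =>
        hd (Finset.disjoint_iff_inter_eq_empty.2 (Finset.card_eq_zero.1 h0))
      omega
  refine ⟨?_, ?_, ?_, ?_⟩
  · rw [Fintype.card_option, Fintype.card_sum, hα, hcard]
  · intro v
    rw [← SimpleGraph.card_neighborSet_eq_degree, ← Nat.card_eq_fintype_card, Nat.card_coe_set_eq]
    rcases v with _ | a | u
    · rw [count _ (fun _ => True) (fun _ => False) (fun a => by simp [na a])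
        (fun x => by simp [nb x]), if_neg (by simp), hempty]
      simp [hα]
    · rw [count _ (fun _ => False) (fun d => a ∈ d) (fun x => by simp [aa a x])
        (fun x => by simp [ab]), if_pos (show none ∈ G.neighborSet _ from (na a).symm), h21]
      simp
    · rw [count _ (fun x => x ∈ (u : Finset α)) (fun d => Disjoint (u : Finset α) d)
        (fun x => by simp [G.adj_comm (some (Sum.inr u)), ab])
        (fun x => by simp [bb]), if_neg (show none ∉ G.neighborSet _ from fun h => nb u (G.adj_symm h)), hfiltu, h6,
        Cfsg.Agent.Steiner.card_disjoint hS hα (hmem u)]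
  · intro v w h
    rw [← Nat.card_eq_fintype_card, Nat.card_coe_set_eq]
    rcases v with _ | a | u <;> rcases w with _ | a' | u'
    · exact absurd h nn
    · exact cna a'
    · exact absurd h (nb u')
    · rw [hsym]; exact cna a
    · exact absurd h (aa a a')
    · rw [cab, if_pos ((ab a u').1 h)]
    · exact absurd h.symm (nb u)
    · rw [hsym, cab, if_pos ((ab a' u).1 h.symm)]
    · rw [cbb u u' (hdne u u' ((bb u u').1 h)), if_pos ((bb u u').1 h)]
  · intro v w hne h
    rw [← Nat.card_eq_fintype_card, Nat.card_coe_set_eq]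
    rcases v with _ | a | u <;> rcases w with _ | a' | u'
    · exact absurd rfl hne
    · exact absurd (na a') h
    · exact cnb u'
    · exact absurd (na a).symm h
    · exact caa a a' (by rintro rfl; exact hne rfl)
    · rw [cab, if_neg (fun hh => h ((ab a u').2 hh))]
    · rw [hsym]; exact cnb u
    · rw [hsym, cab, if_neg (fun hh => h ((ab a' u).2 hh).symm)]
    · rw [cbb u u' (by rintro rfl; exact hne rfl), if_neg (fun hh => h ((bb u u').2 hh))]

end Cfsg.Agent.S0428
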