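import Cfsg.Statements.S1140
import Mathlib

set_option autoImplicit false
open Cfsg

namespace Cfsg.Agent.S1140

/-- For a finite field `F` of characteristic 2, the automorphisms of `F`, viewed as additive maps `F → F`, are linearly independent over `F` (acting on values) every additive endomorphism of `F` is an `F`-linear combination of them, and every biadditive map `F → F → F` is an `F`-combination of the maps `(x, y) ↦ σ(x) τ(y)`. -/
theorem result {F : Type*} [Field F] [Fintype F] [CharP F 2] :
    LinearIndependent F (fun σ : F ≃+* F => ((σ : F →+* F) : F → F)) ∧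
      (∀ f : F →+ F, ∃ (s : Finset (F ≃+* F)) (c : (F ≃+* F) → F), ∀ x : F, f x = ∑ σ ∈ s, c σ * σ x) ∧
      ∀ B : F →+ F →+ F, ∃ (s : Finset ((F ≃+* F) × (F ≃+* F))) (c : (F ≃+* F) × (F ≃+* F) → F),
        ∀ x y : F, B x y = ∑ p ∈ s, c p * (p.1 x * p.2 y) := by
  classical
  have : Fact (Nat.Prime 2) := ⟨Nat.prime_two⟩
  letI : Algebra (ZMod 2) F := ZMod.algebra F 2
  refine ⟨?_, ?_⟩
  · refine (linearIndependent_monoidHom F F).comp (fun σ : F ≃+* F => (σ : F →* F)) ?_
    intro σ τ h
    exact RingEquiv.ext fun x => DFunLike.congr_fun h x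
  obtain ⟨n, hn⟩ : ∃ n, n = Module.finrank (ZMod 2) F := ⟨_, rfl⟩
  have hcard : Fintype.card F = 2 ^ n := by
    rw [hn, Module.card_eq_pow_finrank (K := ZMod 2), ZMod.card]
  let e : Fin n → (F ≃+* F) := fun i => iterateFrobeniusEquiv F 2 i.1
  have he : Function.Injective e := by
    have key : ∀ i j : ℕ, i ≤ j → j < n → (∀ x : F, x ^ 2 ^ i = x ^ 2 ^ j) → i = j := by
      intro i j hij hj h
      obtain ⟨d, rfl⟩ := Nat.exists_eq_add_of_le hij
      have hd : ∀ x : F, x ^ 2 ^ d = x := by
        intro x
        apply (iterateFrobeniusEquiv F 2 i).injective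
        simp only [iterateFrobeniusEquiv_def]
        rw [← pow_mul, ← pow_add, add_comm d i, ← h x]
      by_contra hne
      have hd1 : 1 ≤ 2 ^ d := Nat.one_le_two_pow
      have h1 : ∀ x : Fˣ, x ^ (2 ^ d - 1) = 1 := fun x => by
        apply mul_left_cancel (a := x)
        rw [mul_one, ← pow_succ', Nat.sub_add_cancel hd1]
        exact Units.ext (by rw [Units.val_pow_eq_pow_val]; exact hd _)
      have h2 := Nat.le_of_dvd (Nat.sub_pos_of_lt (Nat.one_lt_two_pow (by omega : d ≠ 0)))
        ((FiniteField.forall_pow_eq_one_iff F _).1 h1)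
      have h3 : 2 ^ d < 2 ^ n := Nat.pow_lt_pow_right (by norm_num) (by omega)
      omega
    intro i j h
    have h' : ∀ x : F, x ^ 2 ^ (i : ℕ) = x ^ 2 ^ (j : ℕ) := fun x => by
      simpa only [e, iterateFrobeniusEquiv_def] using RingEquiv.congr_fun h x
    rcases le_total (i : ℕ) j with hij | hij
    · exact Fin.ext (key i j hij j.2 h')
    · exact Fin.ext (key j i hij i.2 fun x => (h' x).symm).symm
  have hli : LinearIndependent F (fun i : Fin n => (e i : F → F)) := by
    refine (linearIndependent_monoidHom F F).comp (fun i : Fin n => (e i : F →* F)) ?_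
    intro i j h
    exact he (RingEquiv.ext fun x => DFunLike.congr_fun h x)
  let Φ : (Fin n → F) → (F →+ F) := fun c =>
    { toFun := fun x => ∑ i, c i * e i x
      map_zero' := by simp
      map_add' := fun x y => by simp [mul_add, Finset.sum_add_distrib] }
  have hinj : Function.Injective Φ := by
    intro c c' h
    funext i
    refine sub_eq_zero.1 (Fintype.linearIndependent_iff.1 hli (fun i => c i - c' i) ?_ i)
    funext x
    have hx : ∑ i, c i * e i x = ∑ i, c' i * e i x := DFunLike.congr_fun h x
    simp only [Finset.sum_apply, Pi.smul_apply, smul_eq_mul, sub_mul, Finset.sum_sub_distrib,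
      Pi.zero_apply]
    exact sub_eq_zero.2 hx
  have hsurj : Function.Surjective Φ := by
    have : Finite (F →+ F) := Finite.of_injective _ DFunLike.coe_injective
    refine (hinj.bijective_of_nat_card_le (le_of_eq ?_)).2
    obtain ⟨b⟩ : Nonempty (Module.Basis (Fin n) (ZMod 2) F) :=
      ⟨(Module.finBasis (ZMod 2) F).reindex (finCongr hn.symm)⟩
    exact Nat.card_congr ((b.constr ℕ).toEquiv.trans
      { toFun := fun f => f.toAddMonoidHom
        invFun := fun f => AddMonoidHom.toZModLinearMap 2 f
        left_inv := fun f => LinearMap.ext fun x => rfl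
        right_inv := fun f => AddMonoidHom.ext fun x => rfl }).symm
  refine ⟨fun f => ?_, fun B => ?_⟩
  · obtain ⟨c, rfl⟩ := hsurj f
    refine ⟨Finset.univ.map ⟨e, he⟩, Function.extend e c 0, fun x => ?_⟩
    rw [Finset.sum_map]
    show ∑ i, c i * e i x = _
    refine Finset.sum_congr rfl fun i _ => ?_
    simp only [Function.Embedding.coeFn_mk, he.extend_apply]
  · choose c hc using fun x => hsurj (B x)
    have hadd : ∀ x y, c (x + y) = c x + c y := fun x y => by
      refine hinj (AddMonoidHom.ext fun z => ?_)
      rw [hc, map_add, ← hc x, ← hc y]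
      simp [Φ, add_mul, Finset.sum_add_distrib]
    choose d hd using fun i : Fin n =>
      hsurj (AddMonoidHom.mk' (fun x => c x i) fun x y => by rw [hadd, Pi.add_apply])
    let e2 : Fin n × Fin n → (F ≃+* F) × (F ≃+* F) := fun p => (e p.1, e p.2)
    have he2 : Function.Injective e2 := fun p q h =>
      Prod.ext (he (congrArg Prod.fst h)) (he (congrArg Prod.snd h))
    refine ⟨Finset.univ.map ⟨e2, he2⟩, Function.extend e2 (fun p => d p.2 p.1) 0,
      fun x y => ?_⟩
    rw [Finset.sum_map, ← hc x, Fintype.sum_prod_type_right]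
    show ∑ i, c x i * e i y = _
    refine Finset.sum_congr rfl fun i _ => ?_
    have hci : ∑ j, d i j * e j x = c x i := DFunLike.congr_fun (hd i) x
    rw [← hci, Finset.sum_mul]
    exact Finset.sum_congr rfl fun j _ => by
      simp only [Function.Embedding.coeFn_mk, he2.extend_apply]
      simp only [e2, mul_assoc]

end Cfsg.Agent.S1140
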