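import Cfsg.Statements.S1238
import Cfsg.Agent.Lib.AlperinRankTwo.Systems
import Cfsg.Agent.Lib.Fusion.Group
import Cfsg.Agent.Lib.IsolatedP.Cyclic

set_option autoImplicit false
open Cfsg

namespace Cfsg.Agent.S1238

/-- Let G be a finite group of 2-rank 2 (a Klein four-subgroup but no elementary abelian subgroup of order 8) which is fusion simple: G has no subgroup of index 2 and no isolated involution. Let S be a Sylow 2-subgroup. Then S is dihedral, quasi-dihedral, wreathed, isomorphic to Z_{2^n} × Z_{2^n} for some n ≥ 2, or isomorphic to a Sylow 2-subgroup of PSU(3) over the field with 16 elements. -/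
theorem result {G : Type*} [Group G] [Finite G] (h2 : Cfsg.PRankLE 2 2 G) (h1 : ¬ Cfsg.PRankLE 2 1 G) (hidx : ∀ H : Subgroup G, H.index ≠ 2) (hiso : ∀ z : G, ¬ Cfsg.IsIsolatedInvolution z) (S : Sylow 2 G) {F : Type*} [Field F] [Fintype F] (hF : Fintype.card F = 16) (P : Sylow 2 (Cfsg.PSU 3 F 4)) : (∃ m : ℕ, 2 ≤ m ∧ Nonempty ((S : Subgroup G) ≃* DihedralGroup m)) ∨ Cfsg.IsQuasiDihedral (S : Subgroup G) ∨ Cfsg.IsWreathed (S : Subgroup G) ∨ (∃ n : ℕ, 2 ≤ n ∧ Nonempty ((S : Subgroup G) ≃* Multiplicative (ZMod (2 ^ n) × ZMod (2 ^ n)))) ∨ Nonempty ((S : Subgroup G) ≃* (P : Subgroup (Cfsg.PSU 3 F 4))) := by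
  haveI : Fact (Nat.Prime 2) := ⟨Nat.prime_two⟩
  have hS2 : IsPGroup 2 (S : Subgroup G) := S.isPGroup'
  refine AlperinRankTwo.shapes hS2 (IsolatedP.pRankLE_subgroup h2 _) ?_
    (AlperinRankTwo.data hS2 (Fusion.groupFusionSystem_saturated S) fun z hz hz2 hz1 => ?_) hF P
  · intro hle
    apply h1
    intro A hA hsq
    obtain ⟨Q, hQ⟩ := (show IsPGroup 2 A from fun a => ⟨1, Subtype.ext (by
      rw [pow_one]; exact hsq a a.2)⟩).exists_le_sylow
    let f : A →* (S : Subgroup G) :=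
      (Sylow.equiv Q S).toMonoidHom.comp (Subgroup.inclusion hQ)
    have hf : Function.Injective f :=
      (Sylow.equiv Q S).injective.comp (Subgroup.inclusion_injective hQ)
    rw [← Subgroup.card_top (G := A), ← Subgroup.card_map_of_injective (K := ⊤) hf]
    refine hle _ ⟨⟨?_⟩⟩ ?_
    · rintro ⟨_, a, -, rfl⟩ ⟨_, b, -, rfl⟩
      refine Subtype.ext ?_
      show f a * f b = f b * f a
      rw [← map_mul, ← map_mul, hA.is_comm.comm a b]
    · rintro _ ⟨a, -, rfl⟩
      rw [← map_pow, show a ^ 2 = 1 from Subtype.ext (hsq a a.2), map_one]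
  · have hord : orderOf (z : G) = 2 := by
      refine orderOf_eq_prime ?_ fun h => hz1 (Subtype.ext h)
      rw [pow_two]
      exact congrArg Subtype.val hz2
    have h := hiso (z : G)
    rw [Cfsg.IsIsolatedInvolution] at h
    push Not at h
    obtain ⟨g, hgz, hne⟩ := h hord
    obtain ⟨h', hh, hS'⟩ := CyclicFourFixed.exists_conj_mem_centralizer S
      (fun x hx => (congrArg Subtype.val (Subgroup.mem_center_iff.1 hz ⟨x, hx⟩)).symm) hgz (k := 1)
      (by
        rw [pow_one, pow_two, conj_mul, show (z : G) * z = 1 from congrArg Subtype.val hz2]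
        simp)
    refine ⟨⟨_, hS'⟩, fun e => hne ?_, ?_⟩
    · have e' : h' * (g * (z : G) * g⁻¹) * h'⁻¹ = z := congrArg Subtype.val e
      calc g * (z : G) * g⁻¹ = h'⁻¹ * (h' * (g * z * g⁻¹) * h'⁻¹) * h' := by group
        _ = h'⁻¹ * (z * h') := by rw [e', mul_assoc]
        _ = z := by rw [hh.eq, inv_mul_cancel_left]
    · refine AlperinRankTwo.isConjElt_symm ⟨conjHom _ (h' * g), ⟨Subgroup.zpowers_le.2 z.2,
        ?_, h' * g, fun _ => rfl⟩, ?_⟩
      · rintro ⟨_, n, rfl⟩
        show h' * g * (z : G) ^ n * (h' * g)⁻¹ ∈ (S : Subgroup G)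
        rw [← conj_zpow]
        refine zpow_mem ?_ n
        rw [show h' * g * (z : G) * (h' * g)⁻¹ = h' * (g * z * g⁻¹) * h'⁻¹ by group]
        exact hS'
      · show h' * g * (z : G) * (h' * g)⁻¹ = h' * (g * z * g⁻¹) * h'⁻¹
        group

end Cfsg.Agent.S1238
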