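import Cfsg.Statements.S1947
import Cfsg.Agent.Lib.Transfer.SmallFusion

set_option autoImplicit false
open Cfsg

namespace Cfsg.Agent.S1947

/-- Let G be a finite group and p a prime. If every element of G of order dividing p (dividing 4 when p = 2) lies in some fixed term Z_n(G) of the upper central series, then G has a normal p-complement. -/
theorem result {G : Type*} [Group G] [Finite G] {p : ℕ} [Fact p.Prime] (n : ℕ)
    (h : ∀ a : G, (a ^ p = 1 ∨ (p = 2 ∧ a ^ 4 = 1)) → a ∈ Subgroup.upperCentralSeries G n) : Cfsg.HasNormalPComplement p G := by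
  obtain ⟨P⟩ := (inferInstance : Nonempty (Sylow p G))
  refine Transfer.hasNormalPComplement_of_centralizer P fun Q hQ g hg hco => ?_
  have claim : ∀ i : ℕ, ∀ a ∈ Q, (a ^ p = 1 ∨ (p = 2 ∧ a ^ 4 = 1)) →
      a ∈ Subgroup.upperCentralSeries G i → Commute g a := by
    intro i
    induction i with
    | zero =>
      intro a _ _ ha
      rw [Subgroup.upperCentralSeries_zero, Subgroup.mem_bot] at ha
      exact ha ▸ Commute.one_right g
    | succ i ih =>
      intro a haQ _ ha
      set Z := Subgroup.upperCentralSeries G i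
      have hZn : Z.Normal := inferInstance
      have hgM : g ∈ Subgroup.normalizer ((Q ⊓ Z : Subgroup G) : Set G) :=
        Transfer.mem_normalizer_of_conj_mem fun z hz =>
          ⟨(Subgroup.mem_normalizer_iff.mp hg z).mp hz.1, hZn.conj_mem z hz.2 g⟩
      have hMp : IsPGroup p (Q ⊓ Z : Subgroup G) := P.2.to_le (inf_le_left.trans hQ)
      have hgC := Transfer.mem_centralizer_of_fix_small_real (Q ⊓ Z) hMp hgM hco fun x hx hxs =>
        ih x hx.1 (hxs.imp_right fun h2 => ⟨h2.1, h2.2.1⟩) hx.2
      have hzM : a⁻¹ * (g * a * g⁻¹) ∈ Q ⊓ Z := by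
        refine ⟨Q.mul_mem (Q.inv_mem haQ) ((Subgroup.mem_normalizer_iff.mp hg a).mp haQ), ?_⟩
        have h1 := Subgroup.mem_upperCentralSeries_succ_iff.mp ha g
        have h2 : a⁻¹ * (a * g * a⁻¹ * g⁻¹)⁻¹ * a ∈ Z := by
          simpa [commutatorElement_def, mul_assoc] using hZn.conj_mem _ (Z.inv_mem h1) a⁻¹
        have e : a⁻¹ * (a * g * a⁻¹ * g⁻¹)⁻¹ * a = a⁻¹ * (g * a * g⁻¹) := by group
        rwa [e] at h2
      generalize hz : a⁻¹ * (g * a * g⁻¹) = z at hzM
      have hga : g * a * g⁻¹ = a * z := by rw [← hz, mul_inv_cancel_left]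
      have hgz : Commute g z := (Subgroup.mem_centralizer_iff.mp hgC z hzM).symm
      have hiter : ∀ k : ℕ, g ^ k * a * (g ^ k)⁻¹ = a * z ^ k := by
        intro k
        induction k with
        | zero => simp
        | succ k ih2 =>
          calc g ^ (k + 1) * a * (g ^ (k + 1))⁻¹ = g * (g ^ k * a * (g ^ k)⁻¹) * g⁻¹ := by
                rw [pow_succ']; group
            _ = g * a * g⁻¹ * (g * z ^ k * g⁻¹) := by rw [ih2]; group
            _ = a * z * z ^ k := by rw [(hgz.pow_right k).eq, mul_inv_cancel_right, hga]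
            _ = a * z ^ (k + 1) := by rw [pow_succ', mul_assoc]
      have hz1 : z = 1 := by
        rw [← orderOf_eq_one_iff]
        obtain ⟨j, hj⟩ := IsPGroup.iff_orderOf.mp hMp ⟨z, hzM⟩
        rw [Subgroup.orderOf_mk] at hj
        refine Nat.eq_one_of_dvd_coprimes (hco.pow_right j) ?_ (hj ▸ dvd_refl _)
        apply orderOf_dvd_of_pow_eq_one
        have h4 := hiter (orderOf g)
        simp only [pow_orderOf_eq_one, one_mul, inv_one, mul_one] at h4
        exact left_eq_mul.mp h4
      exact mul_inv_eq_iff_eq_mul.mp (by rw [hga, hz1, mul_one])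
  exact Transfer.mem_centralizer_of_fix_small_real Q (P.2.to_le hQ) hg hco fun x hx hxs =>
    claim n x hx (hxs.imp_right fun h2 => ⟨h2.1, h2.2.1⟩) (h x (hxs.imp_right fun h2 => ⟨h2.1, h2.2.1⟩))

end Cfsg.Agent.S1947
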