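import Cfsg.Statements.S2910
import Cfsg.Agent.Lib.Transfer.Frobenius
import Cfsg.Agent.Lib.Coprime.OmegaOne
-- import your own Cfsg.Agent.* helpers here

set_option autoImplicit false
open Cfsg

namespace Cfsg.Agent.S2910

/-- Let p be an odd prime dividing the order of the finite group G and P a Sylow p-subgroup of G. If Ω₁(P) (generated by the elements of order dividing p) is contained in the centre of G, then G has a normal p-complement. In particular, if G is quasisimple then Ω₁(P) is not central in G. -/
theorem result {G : Type*} [Group G] [Finite G] {p : ℕ} [Fact p.Prime] (hp : p ≠ 2) (hdiv : p ∣ Nat.card G) (P : Sylow p G) (hZ : Cfsg.omegaOne p (P : Subgroup G) ≤ Subgroup.center G) : Cfsg.HasNormalPComplement p G ∧ ¬ Cfsg.IsQuasisimple G := by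
  have hpp : p.Prime := Fact.out
  have hnc : Cfsg.HasNormalPComplement p G := by
    refine Transfer.hasNormalPComplement_of_centralizer P fun Q hQ g hg hcop => ?_
    have h1 := Coprime.le_centralizer_of_fix_pow_eq_one hp Q (Subgroup.zpowers g) (P.2.to_le hQ)
      (Subgroup.zpowers_le.2 hg) (by rwa [Nat.card_zpowers]) fun x hx hxp => by
        refine Subgroup.zpowers_le.2 (Subgroup.mem_centralizer_singleton_iff.2 ?_)
        exact Subgroup.mem_center_iff.1 (hZ (Subgroup.subset_closure ⟨hQ hx, hxp⟩)) g
    exact h1 (Subgroup.mem_zpowers g)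
  refine ⟨hnc, fun hq => ?_⟩
  obtain ⟨P', N, hN, hcompl⟩ := hnc
  have hPne : (P' : Subgroup G) ≠ ⊥ := P'.ne_bot_of_dvd_card hdiv
  have hidx : N.index = Nat.card ↥(P' : Subgroup G) := by
    rw [← hcompl.symm.index_eq_card]
  have hQp : IsPGroup p (G ⧸ N) := by
    obtain ⟨k, hk⟩ := IsPGroup.iff_card.1 P'.2
    exact IsPGroup.of_card (n := k) (by rw [← Subgroup.index_eq_card, hidx, hk])
  have hnt : Nontrivial (G ⧸ N) := by
    refine (QuotientGroup.nontrivial_iff).2 fun hb => hPne (Subgroup.card_eq_one.1 ?_)
    rw [← hidx, hb, Subgroup.index_top]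
  have hnil : Group.IsNilpotent (G ⧸ N) := hQp.isNilpotent
  have hlt := Group.IsSolvable.commutator_lt_top_of_nontrivial (G ⧸ N)
  refine hlt.ne ?_
  have hperf : commutator G = ⊤ := hq.1.1
  rw [commutator_def, ← Subgroup.map_top_of_surjective (QuotientGroup.mk' N)
    (QuotientGroup.mk'_surjective N), ← Subgroup.map_commutator, ← commutator_def, hperf,
    Subgroup.map_top_of_surjective _ (QuotientGroup.mk'_surjective N)]

end Cfsg.Agent.S2910
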