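import Cfsg.Statements.S2331
import Cfsg.Agent.Lib.PSL2.TorusClasses

set_option autoImplicit false
open Cfsg Matrix
open scoped MatrixGroups

namespace Cfsg.Agent.S2331

/-- Over a finite field with q elements, q even, the special linear group SL₂ has exactly q + 1 conjugacy classes. -/
theorem result {F : Type*} [Field F] [Fintype F] [CharP F 2] :
    Nat.card (ConjClasses (Matrix.SpecialLinearGroup (Fin 2) F)) = Fintype.card F + 1 := by
  classical
  have h2 : (2 : F) = 0 := by exact_mod_cast CharP.cast_eq_zero F 2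
  let rep : Option F → SL(2, F) := fun o => o.elim 1 fun t =>
    if t = 0 then Cfsg.Agent.PSL2.uu 1 else Cfsg.Agent.PSL2.ell t
  have htr : ∀ t, Cfsg.Agent.PSL2.tr (rep (some t)) = t := by
    intro t
    show Cfsg.Agent.PSL2.tr (if t = 0 then _ else _) = t
    split_ifs with h
    · rw [h, Cfsg.Agent.PSL2.tr_uu, h2]
    · rw [Cfsg.Agent.PSL2.tr_ell]
  rw [← Nat.card_congr (Equiv.ofBijective (fun o => ConjClasses.mk (rep o)) ⟨?_, ?_⟩),
    Finite.card_option, Nat.card_eq_fintype_card]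
  · rintro (_ | s) (_ | t) h
    · rfl
    · exfalso
      obtain ⟨k, hk⟩ := isConj_iff.1 (ConjClasses.mk_eq_mk_iff_isConj.1 h)
      have h1 : rep (some t) = 1 := by rw [← hk]; simp [rep]
      have ht := htr t
      rw [h1, Cfsg.Agent.PSL2.tr_one, h2] at ht
      simp [rep, ← ht] at h1
    · exfalso
      obtain ⟨k, hk⟩ := isConj_iff.1 (ConjClasses.mk_eq_mk_iff_isConj.1 h).symm
      have h1 : rep (some s) = 1 := by rw [← hk]; simp [rep]
      have ht := htr s
      rw [h1, Cfsg.Agent.PSL2.tr_one, h2] at ht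
      simp [rep, ← ht] at h1
    · obtain ⟨k, hk⟩ := isConj_iff.1 (ConjClasses.mk_eq_mk_iff_isConj.1 h)
      rw [← htr s, ← htr t, ← hk, Cfsg.Agent.PSL2.tr_conj]
  · intro c
    obtain ⟨g, rfl⟩ := ConjClasses.mk_surjective c
    by_cases hg : g ∈ Subgroup.center SL(2, F)
    · refine ⟨none, ?_⟩
      rcases Cfsg.Agent.PSL2.mem_center_iff_pm.1 hg with rfl | rfl
      · rfl
      · rw [Cfsg.Agent.PSL2.neg_one_eq_one_iff.2 h2]; rfl
    · refine ⟨some (Cfsg.Agent.PSL2.tr g), ConjClasses.mk_eq_mk_iff_isConj.2 ?_⟩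
      by_cases h0 : Cfsg.Agent.PSL2.tr g = 0
      · simp only [rep, Option.elim, h0, if_true]
        have h4' : Cfsg.Agent.PSL2.tr g ^ 2 = 4 := by
          rw [h0, show (4 : F) = 2 * 2 by norm_num, h2]; simp
        obtain ⟨k, hk⟩ := Cfsg.Agent.PSL2.parabolic_of_tr hg h4'
        have hg' : g ∈ (Cfsg.Agent.PSL2.pmUnip F).map (MulAut.conj k).toMonoidHom :=
          hk ▸ Cfsg.Agent.PSL2.mem_cent.2 (Commute.refl g)
        obtain ⟨v, hv, rfl⟩ := Subgroup.mem_map.1 hg'
        have hv' : v ∈ Cfsg.Agent.PSL2.unip F := by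
          rcases Cfsg.Agent.PSL2.mem_pmUnip.1 hv with h | h
          · exact h
          · rwa [Cfsg.Agent.PSL2.neg_eq_neg_one_mul, Cfsg.Agent.PSL2.neg_one_eq_one_iff.2 h2,
              one_mul] at h
        obtain ⟨s, rfl⟩ := Cfsg.Agent.PSL2.mem_unip.1 hv'
        have hs : s ≠ 0 := by
          rintro rfl
          exact hg (by simp)
        exact (Cfsg.Agent.PSL2.isConj_uu_of_two_eq_zero h2 one_ne_zero hs).trans
          (isConj_iff.2 ⟨k, rfl⟩)
      · have hsome : rep (some (Cfsg.Agent.PSL2.tr g)) = Cfsg.Agent.PSL2.ell (Cfsg.Agent.PSL2.tr g) := by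
          simp [rep, h0]
        refine hsome ▸ (Cfsg.Agent.PSL2.isConj_of_tr (by rw [Cfsg.Agent.PSL2.tr_ell]) ?_)
        rw [Cfsg.Agent.PSL2.tr_ell, show (4 : F) = 2 * 2 by norm_num, h2, mul_zero]
        exact pow_ne_zero 2 h0

end Cfsg.Agent.S2331
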