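import Cfsg.Statements.S4640
import Cfsg.Agent.Lib.BrauerPairs.MajorSubsection
import Cfsg.Agent.Lib.BrauerPairs.PIndexCovering
import Cfsg.Agent.Lib.BrauerPairs.Covering
import Cfsg.Agent.Lib.Char.Gallagher
import Cfsg.Agent.Lib.Char.Linear

set_option autoImplicit false
open Cfsg
open scoped Classical Cfsg.Agent.Blocks

namespace Cfsg.Agent.S4640

/-- Let N be a normal subgroup of the finite group G of index a power of the prime p, M a maximal ideal of the algebraic integers containing p, b a block of N stabilized by every element of G, and B a block of G covering b (some member of B has a member of b as a constituent of its restriction to N). Suppose that B has a commutative defect group P. Then G = NP and P ∩ N is a defect group of b; every member of B restricts to a member of b; every member of b is the restriction of exactly [G : N] members of B; B contains exactly [G : N] times as many irreducible characters as b; and B and b have the same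 p-regular rank. -/
theorem result {G : Type*} [Group G] [Fintype G] (p : ℕ) [Fact p.Prime] (M : Ideal Cfsg.AlgInt) (hM : Cfsg.IsPModular p M) (N : Subgroup G) [N.Normal] [Fintype N] (hNi : ∃ k : ℕ, N.index = p ^ k) (b : Set (Cfsg.IrrCharacter N)) (hb : Cfsg.IsPBlock M b) (hstab : ∀ g : G, Cfsg.StabilizesBlock N b g) (B : Set (Cfsg.IrrCharacter G)) (hB : Cfsg.IsPBlock M B) (hcov : ∃ χ ∈ B, ∃ θ ∈ b, Cfsg.classInner (fun n : N => (χ : G → ℂ) n) (θ : N → ℂ) ≠ 0) (P : Subgroup G) (hPD : Cfsg.IsDefectGroup p M B P) (hPab : ∀ x ∈ P, ∀ y ∈ P, x * y = y * x) : N ⊔ P = ⊤ ∧ Cfsg.IsDefectGroup p M b ((P ⊓ N).subgroupOf N) ∧ (∀ χ ∈ B, ∃ θ ∈ b, ∀ n : N, (χ : G → ℂ) n = (θ : N → ℂ) n) ∧ (∀ θ ∈ b, Nat.card {χ : Cfsg.IrrCharacter G // χ ∈ B ∧ ∀ n : N, (χ : G → ℂ) n = (θ : N → ℂ) n} = N.index) ∧ Nat.card B = N.index * Nat.card b ∧ Cfsg.blockRank p B = Cfsg.blockRank p b := by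
  haveI : M.IsMaximal := hM.2.1
  haveI : CharP (Cfsg.AlgInt ⧸ M) p := Blocks.charP_residue hM.2.2
  have hp := (Fact.out : p.Prime)
  have hpM := hM.2.2
  haveI := Fintype.ofFinite (G ⧸ N)
  obtain ⟨k, hidx⟩ := hNi
  obtain ⟨c, hcdef⟩ : ∃ c, c = BrauerPairs.blk M N b := ⟨_, rfl⟩
  have hc : BrauerPairs.IsBlockIdem N c := hcdef ▸ BrauerPairs.isBlockIdem_blk N hb
  have hfix : ∀ g : G, BrauerPairs.conjEl g c = c := fun g => by
    rw [hcdef]
    exact (BrauerPairs.stabilizesBlock_iff hb (hstab g).1).1 (hstab g)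
  have hblocks : ∀ B' : Set (Cfsg.IrrCharacter G), Cfsg.IsPBlock M B' →
      BrauerPairs.blkG M B' * c ≠ 0 → BrauerPairs.blkG M B' = c := fun B' hB' hne =>
    BrauerPairs.eq_of_over hidx hpM le_top hc hfix (BrauerPairs.isBlockIdem_blkG hB') hne
  obtain ⟨χ₀, hχ₀, θ₀, hθ₀, h00⟩ := hcov
  have hBc : BrauerPairs.blkG M B = c := hblocks B hB (by
    rw [hcdef]; exact BrauerPairs.mul_ne_zero_of_covers hB hb hχ₀ hθ₀ h00)
  have hPtop : BrauerPairs.DefectIn p ⊤ c P := hBc ▸ (BrauerPairs.isDefectGroup_iff_defectIn_top hB P).1 hPD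
  obtain ⟨hsup, hdef⟩ := BrauerPairs.sup_eq_top_and_defectIn hidx hpM hc hfix hPtop
  have hD' : Cfsg.IsDefectGroup p M b ((P ⊓ N).subgroupOf N) :=
    (BrauerPairs.isDefectGroup_subgroupOf_iff hb inf_le_right).2 (hcdef ▸ hdef)
  have hsurj : ∀ q : G ⧸ N, ∃ u ∈ P, (u : G ⧸ N) = q := fun q => by
    obtain ⟨g, rfl⟩ := QuotientGroup.mk_surjective q
    obtain ⟨u, hu, n, hn, rfl⟩ := Subgroup.mem_sup_of_normal_right.1
      ((sup_comm N P ▸ hsup).ge (Subgroup.mem_top g))
    exact ⟨u, hu, (QuotientGroup.mk_mul_of_mem u hn).symm⟩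
  have hab : ∀ q r : G ⧸ N, q * r = r * q := fun q r => by
    obtain ⟨u, hu, rfl⟩ := hsurj q
    obtain ⟨v, hv, rfl⟩ := hsurj r
    rw [← QuotientGroup.mk_mul, ← QuotientGroup.mk_mul, hPab u hu v hv]
  have hlin : ∀ β : Cfsg.IrrCharacter (G ⧸ N), β.1 1 = 1 := Char.apply_one_of_comm hab
  have hcardq : Nat.card (Cfsg.IrrCharacter (G ⧸ N)) = Nat.card (G ⧸ N) := by
    rw [Char.card_irr]
    refine (Nat.card_congr (Equiv.ofBijective (ConjClasses.mk (α := G ⧸ N))
      ⟨fun q r h => ?_, ConjClasses.mk_surjective⟩)).symm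
    obtain ⟨t, ht⟩ := isConj_iff.1 (ConjClasses.mk_eq_mk_iff_isConj.1 h)
    rwa [hab t q, mul_inv_cancel_right] at ht
  -- nonvanishing on every coset
  have hnv : ∀ χ ∈ B, ∀ q : G ⧸ N, ∃ g : G, (g : G ⧸ N) = q ∧ χ.1 g ≠ 0 := fun χ hχ q => by
    obtain ⟨u, hu, rfl⟩ := hsurj q
    obtain ⟨s, hs, hne⟩ := BrauerPairs.exists_apply_ne_zero_of_central hpM hB hPD hu
      (fun x hx => hPab x hx u hu) hχ
    exact ⟨u * s, QuotientGroup.mk_mul_of_mem u (BrauerPairs.mem_of_regular hidx hs), hne⟩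
  have hres : ∀ χ ∈ B, Cfsg.IsIrrCharacter N (Char.resFun N χ.1) := by
    intro χ hχ
    refine Char.isIrrCharacter_iff.2 ⟨Char.IsCharacter.restrict (Char.irr_isCharacter χ) N, ?_⟩
    have hcl := Char.IsCharacter.isClassFunction (Char.irr_isCharacter χ)
    show Cfsg.classInner (fun n : N => χ.1 n) (Char.resFun N χ.1) = 1
    rw [← Char.classInner_indFun_right N _ hcl, Char.indFun_resFun_eq_sum N hcl, Char.classInner_sum_right,
      Finset.sum_eq_single (Char.trivialChar (G ⧸ N))]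
    · rw [Char.classInner_smul_right, hlin, map_one, one_mul,
        show Char.mulQuotient N χ.1 (Char.trivialChar (G ⧸ N)).1 = χ.1 from funext fun g => by
          simp [Char.mulQuotient_apply, Char.trivialChar]]
      exact Char.classInner_irr_self χ.2
    · intro β _ hβ
      obtain ⟨lam, hl⟩ := Char.IsCharacter.exists_monoidHom (Char.irr_isCharacter β) (hlin β)
      have hirr : Cfsg.IsIrrCharacter G (Char.mulQuotient N χ.1 β.1) := by
        rw [show Char.mulQuotient N χ.1 β.1 = ⇑(lam.comp (QuotientGroup.mk' N)) * χ.1 from funext fun g => by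
          simp [Char.mulQuotient_apply, ← hl, mul_comm]]
        exact Char.IsIrrCharacter.mul_linear χ.2 _
      rw [Char.classInner_smul_right, Char.classInner_irr_of_ne χ.2 hirr ?_, mul_zero]
      intro heq
      refine hβ (Subtype.ext (funext fun q => ?_))
      obtain ⟨g, rfl, hg⟩ := hnv χ hχ q
      have h1 := congrFun heq g
      rw [Char.mulQuotient_apply] at h1
      show β.1 (g : G ⧸ N) = 1
      exact mul_left_cancel₀ hg (by rw [← h1, mul_one])
    · exact fun h => absurd (Finset.mem_univ _) h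
  have hmemb : ∀ χ ∈ B, ∀ θ : Cfsg.IrrCharacter N,
      Cfsg.classInner (fun n : N => χ.1 n) θ.1 ≠ 0 → θ ∈ b := fun χ hχ θ hne => by
    obtain ⟨b', hb', hθb'⟩ : ∃ b', Cfsg.IsPBlock M b' ∧ θ ∈ b' :=
      ⟨_, BrauerPairs.isPBlock_blockOf θ, BrauerPairs.mem_blockOf_self θ⟩
    have h1 := BrauerPairs.mul_ne_zero_of_covers hB hb' hχ hθb' hne
    rw [hBc] at h1
    have h2 := BrauerPairs.blk_injective (M := M) N hb' hb
      (((BrauerPairs.isBlockIdem_blk N hb').eq_of_mul_ne_zero hc h1).trans hcdef)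
    exact h2 ▸ hθb'
  have hrestr : ∀ χ ∈ B, ∃ θ ∈ b, ∀ n : N, χ.1 n = θ.1 n := fun χ hχ =>
    ⟨⟨_, hres χ hχ⟩, hmemb χ hχ _ (by
      show Cfsg.classInner (Char.resFun N χ.1) (Char.resFun N χ.1) ≠ 0
      rw [Char.classInner_irr_self (hres χ hχ)]; exact one_ne_zero), fun _ => rfl⟩
  have hmemB : ∀ θ ∈ b, ∀ χ : Cfsg.IrrCharacter G,
      Cfsg.classInner (fun n : N => χ.1 n) θ.1 ≠ 0 → χ ∈ B := fun θ hθ χ hne => by
    obtain ⟨B', hB', hχB'⟩ : ∃ B', Cfsg.IsPBlock M B' ∧ χ ∈ B' :=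
      ⟨_, BrauerPairs.isPBlock_blockOf χ, BrauerPairs.mem_blockOf_self χ⟩
    have h1 := hblocks B' hB' (by rw [hcdef]; exact BrauerPairs.mul_ne_zero_of_covers hB' hb hχB' hθ hne)
    exact BrauerPairs.blkG_injective hB' hB (h1.trans hBc.symm) ▸ hχB'
  have hfib : ∀ θ ∈ b, Nat.card {χ : Cfsg.IrrCharacter G // χ ∈ B ∧ ∀ n : N, χ.1 n = θ.1 n} = N.index := by
    intro θ hθ
    obtain ⟨χ, hne⟩ : ∃ χ : Cfsg.IrrCharacter G, Cfsg.classInner (fun n : N => χ.1 n) θ.1 ≠ 0 := by
      by_contra! hall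
      have h0 : Cfsg.indFun N θ.1 = 0 := by
        rw [Char.eq_sum_classInner_smul (Char.isClassFunction_indFun N θ.1)]
        refine Finset.sum_eq_zero fun χ _ => ?_
        rw [Char.classInner_indFun N _ (Char.IsCharacter.isClassFunction (Char.irr_isCharacter χ)),
          ← Char.conj_classInner, hall χ, map_zero, zero_smul]
      have h1 := congrFun h0 1
      rw [Char.indFun_apply_one, Pi.zero_apply] at h1
      exact mul_ne_zero (Nat.cast_ne_zero.2 Subgroup.index_ne_zero_of_finite)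
        (Char.IsIrrCharacter.apply_one_ne_zero θ.2) h1
    have hχ := hmemB θ hθ χ hne
    have hθeq : Char.resFun N χ.1 = θ.1 := by
      by_contra hd
      exact hne (Char.classInner_irr_of_ne (hres χ hχ) θ.2 hd)
    rw [Subgroup.index_eq_card, ← hcardq]
    refine Nat.card_congr ((Equiv.subtypeEquivRight fun ψ => ?_).trans (Char.gallagherEquiv N χ (hres χ hχ)).symm)
    rw [hθeq]
    constructor
    · rintro ⟨-, h⟩
      rw [show Char.resFun N ψ.1 = θ.1 from funext h, Char.classInner_irr_self θ.2]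
      exact one_ne_zero
    · intro h
      have hψ := hmemB θ hθ ψ h
      refine ⟨hψ, fun n => ?_⟩
      by_contra hd
      exact h (Char.classInner_irr_of_ne (hres ψ hψ) θ.2 fun e => hd (congrFun e n))
  refine ⟨hsup, hD', hrestr, hfib, ?_, ?_⟩
  · choose θf hθf hθeq using hrestr
    let φ : B → b := fun χ => ⟨θf χ.1 χ.2, hθf χ.1 χ.2⟩
    have hcard : ∀ θ : b, Nat.card {χ : B // φ χ = θ} = N.index := fun θ => by
      rw [← hfib θ.1 θ.2]
      refine Nat.card_congr
        { toFun := fun χ => ⟨χ.1.1, χ.1.2, fun n => by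
            rw [hθeq χ.1.1 χ.1.2 n, show θf χ.1.1 χ.1.2 = θ.1 from congrArg Subtype.val χ.2]⟩
          invFun := fun χ => ⟨⟨χ.1, χ.2.1⟩, Subtype.ext (Subtype.ext (funext fun n => by
            rw [← χ.2.2 n, hθeq χ.1 χ.2.1 n]))⟩
          left_inv := fun _ => rfl
          right_inv := fun _ => rfl }
    rw [← Nat.card_congr (Equiv.sigmaFiberEquiv φ), Nat.card_sigma, Finset.sum_congr rfl fun θ _ => hcard θ,
      Finset.sum_const, Finset.card_univ, smul_eq_mul, ← Nat.card_eq_fintype_card, mul_comm]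
  · obtain ⟨E, hE⟩ : ∃ E : (N → ℂ) →ₗ[ℂ] (G → ℂ), ∀ f, E f = Cfsg.extendByZero N f :=
      ⟨{ toFun := Cfsg.extendByZero N, map_add' := Char.extendByZero_add N,
         map_smul' := Char.extendByZero_smul N }, fun _ => rfl⟩
    have hinj : Function.Injective E := fun f f' h => funext fun n => by
      rw [← Char.extendByZero_coe N f, ← Char.extendByZero_coe N f', ← hE, ← hE, h]
    have hreg : ∀ (χ : Cfsg.IrrCharacter G) (θ : Cfsg.IrrCharacter N), (∀ n : N, χ.1 n = θ.1 n) →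
        E (Cfsg.pRegularPart p θ.1) = Cfsg.pRegularPart p χ.1 := fun χ θ h => funext fun g => by
      rw [hE]
      by_cases hg : g ∈ N
      · rw [Char.extendByZero_of_mem _ _ hg]
        have hord : Cfsg.IsPRegular p (⟨g, hg⟩ : N) ↔ Cfsg.IsPRegular p g := by
          rw [Cfsg.IsPRegular, Cfsg.IsPRegular, ← Subgroup.orderOf_coe]
        unfold Cfsg.pRegularPart
        by_cases hr : Cfsg.IsPRegular p g
        · simp only [if_pos hr, if_pos (hord.2 hr)]; exact (h ⟨g, hg⟩).symm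
        · simp only [if_neg hr, if_neg (mt hord.1 hr)]
      · rw [Char.extendByZero_of_notMem _ _ hg]
        unfold Cfsg.pRegularPart
        simp only [if_neg fun hr => hg (BrauerPairs.mem_of_regular hidx hr)]
    have himg : (fun χ : Cfsg.IrrCharacter G => Cfsg.pRegularPart p (χ : G → ℂ)) '' B =
        E '' ((fun θ : Cfsg.IrrCharacter N => Cfsg.pRegularPart p (θ : N → ℂ)) '' b) := by
      ext f
      constructor
      · rintro ⟨χ, hχ, rfl⟩
        obtain ⟨θ, hθ, h⟩ := hrestr χ hχ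
        exact ⟨_, ⟨θ, hθ, rfl⟩, hreg χ θ h⟩
      · rintro ⟨-, ⟨θ, hθ, rfl⟩, rfl⟩
        have hne : Nat.card {χ : Cfsg.IrrCharacter G // χ ∈ B ∧ ∀ n : N, χ.1 n = θ.1 n} ≠ 0 := by
          rw [hfib θ hθ]; exact Subgroup.index_ne_zero_of_finite
        obtain ⟨χ, hχ, h⟩ := (Nat.card_ne_zero.1 hne).1
        exact ⟨χ, hχ, (hreg χ θ h).symm⟩
    unfold Cfsg.blockRank
    rw [himg, ← Submodule.map_span]
    exact (Submodule.equivMapOfInjective E hinj _).finrank_eq.symm

end Cfsg.Agent.S4640
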