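import Cfsg.Statements.S0223
import Mathlib
import Cfsg.Agent.Lib.Invol.Basic

set_option autoImplicit false
open Cfsg

namespace Cfsg.Agent.S0223

/-- Let H be a proper subgroup of even order of the finite group G. Then H is strongly embedded if and only if (i) C_G(t) ≤ H for every involution t of H and (ii) H controls fusion of its involutions: involutions of H conjugate in G are conjugate in H. -/
theorem result {G : Type*} [Group G] [Finite G] (H : Subgroup G) (hH : H ≠ ⊤) (heven : Even (Nat.card H)) : Cfsg.IsStronglyEmbedded H ↔ ((∀ t ∈ H, orderOf t = 2 → Subgroup.centralizer ({t} : Set G) ≤ H) ∧ (∀ t ∈ H, ∀ s ∈ H, orderOf t = 2 → orderOf s = 2 → IsConj t s → ∃ h ∈ H, h * t * h⁻¹ = s)) := by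
  constructor
  · rintro ⟨_, _, hodd⟩
    refine ⟨fun t ht ht2 g hg => ?_, fun t ht s hs ht2 hs2 hc => ?_⟩
    · by_contra hgH
      refine Invol.not_mem_of_odd (hodd g hgH) ht2 ⟨ht, t, ht, ?_⟩
      show g * t * g⁻¹ = t
      rw [(Invol.mem_centralizer_singleton_iff'.1 hg).eq, mul_inv_cancel_right]
    · obtain ⟨g, hg⟩ := isConj_iff.1 hc
      refine ⟨g, ?_, hg⟩
      by_contra hgH
      exact Invol.not_mem_of_odd (hodd g hgH) hs2 ⟨hs, t, ht, hg⟩
  · rintro ⟨h1, h2⟩
    refine ⟨hH, heven, fun g hgH => ?_⟩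
    by_contra hcon
    rw [Nat.not_odd_iff_even] at hcon
    obtain ⟨s, ⟨hs, t, ht, hts⟩, hs2⟩ := Invol.exists_involution_mem hcon
    change g * t * g⁻¹ = s at hts
    have ht2 : orderOf t = 2 := by rw [← Invol.orderOf_conj_eq g, hts, hs2]
    obtain ⟨h, hhH, hh⟩ := h2 t ht s hs ht2 hs2 (isConj_iff.2 ⟨g, hts⟩)
    have : g⁻¹ * h ∈ H := h1 t ht ht2 (Invol.mem_centralizer_singleton_iff'.2
      (mul_inv_eq_iff_eq_mul.1 (by
        calc g⁻¹ * h * t * (g⁻¹ * h)⁻¹ = g⁻¹ * (h * t * h⁻¹) * g := by group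
          _ = t := by rw [hh, ← hts]; group)))
    apply hgH
    have := H.mul_mem hhH (H.inv_mem this)
    simpa using this

end Cfsg.Agent.S0223
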