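import Cfsg.Statements.S0224
import Mathlib
import Cfsg.Agent.Lib.Invol.Basic

set_option autoImplicit false
open Cfsg

namespace Cfsg.Agent.S0224

/-- Let H be a proper subgroup of even order of the finite group G. Then H is strongly embedded if and only if each involution of H fixes exactly one point (namely the coset H) in the action of G on the cosets of H. -/
theorem result {G : Type*} [Group G] [Finite G] (H : Subgroup G) (hH : H ≠ ⊤) (heven : Even (Nat.card H)) : Cfsg.IsStronglyEmbedded H ↔ ∀ t ∈ H, orderOf t = 2 → Nat.card {c : G ⧸ H // t • c = c} = 1 := by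
  have hfix : ∀ (t g : G), t • (g : G ⧸ H) = (g : G ⧸ H) ↔ g⁻¹ * t * g ∈ H := by
    intro t g
    show ((t * g : G) : G ⧸ H) = (g : G ⧸ H) ↔ _
    rw [eq_comm, QuotientGroup.eq, mul_assoc]
  constructor
  · rintro ⟨_, _, hodd⟩ t ht ht2
    rw [Nat.card_eq_one_iff_unique]
    have key : ∀ g : G, t • (g : G ⧸ H) = (g : G ⧸ H) → g ∈ H := fun g hg => by
      by_contra hgH
      exact Invol.not_mem_of_odd (hodd g hgH) ht2
        ⟨ht, g⁻¹ * t * g, (hfix t g).1 hg, by show g * _ * g⁻¹ = t; group⟩
    refine ⟨⟨fun a b => Subtype.ext ?_⟩, ⟨⟨((1 : G) : G ⧸ H), (hfix t 1).2 (by simpa using ht)⟩⟩⟩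
    obtain ⟨a, ha⟩ := a
    obtain ⟨b, hb⟩ := b
    induction a using QuotientGroup.induction_on with
    | _ a => induction b using QuotientGroup.induction_on with
      | _ b => exact QuotientGroup.eq.2 (H.mul_mem (H.inv_mem (key a ha)) (key b hb))
  · intro h
    refine ⟨hH, heven, fun g hgH => ?_⟩
    by_contra hcon
    rw [Nat.not_odd_iff_even] at hcon
    obtain ⟨s, ⟨hs, u, hu, hus⟩, hs2⟩ := Invol.exists_involution_mem hcon
    change g * u * g⁻¹ = s at hus
    obtain ⟨⟨hsub⟩, _⟩ := Nat.card_eq_one_iff_unique.1 (h s hs hs2)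
    have := hsub ⟨((1 : G) : G ⧸ H), (hfix s 1).2 (by simpa using hs)⟩
      ⟨(g : G ⧸ H), (hfix s g).2 (by
        have : g⁻¹ * s * g = u := by rw [← hus]; group
        rwa [this])⟩
    exact hgH (by simpa using QuotientGroup.eq.1 (congrArg Subtype.val this))

end Cfsg.Agent.S0224
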