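import Cfsg.Statements.S0112
import Cfsg.Agent.Lib.PGroup.HomCount
import Cfsg.Agent.Lib.PGroup.Basic
import Mathlib.GroupTheory.Nilpotent

set_option autoImplicit false
open Cfsg

namespace Cfsg.Agent.S0112

open Subgroup
open scoped commutatorElement

universe u

theorem class_of_selfCentralizing {p : ℕ} [Fact p.Prime] : ∀ (m : ℕ) {X : Type u} [Group X] [Finite X],
    Nat.card X = p ^ (m + 2) → ∀ A : Subgroup X, Nat.card A = p ^ 2 →
    centralizer (A : Set X) = A → Group.nilpotencyClass X = m + 1 := by
  intro m
  induction m with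
  | zero =>
    intro X _ _ hX A hA hC
    haveI : Group.IsNilpotent X := (IsPGroup.of_card hX).isNilpotent
    have hAtop : A = ⊤ := eq_top_of_card_eq A (by rw [hA, hX])
    have hcomm : ∀ a b : X, a * b = b * a := fun a b => by
      have ha : a ∈ centralizer (A : Set X) := by rw [hC, hAtop]; exact mem_top a
      exact (mem_centralizer_iff.1 ha b (hAtop ▸ mem_top b)).symm
    have h1 : center X = ⊤ := eq_top_iff.2 fun a _ => mem_center_iff.2 fun b => hcomm b a
    have h2 := Group.nilpotencyClass_quotient_center (G := X)
    haveI : Subsingleton (X ⧸ center X) := QuotientGroup.subsingleton_iff.2 h1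
    rw [Group.nilpotencyClass_zero_iff_subsingleton.2 this] at h2
    have h3 : Group.nilpotencyClass X ≠ 0 := by
      rw [Ne, Group.nilpotencyClass_zero_iff_subsingleton, ← not_nontrivial_iff_subsingleton, not_not,
        ← Finite.one_lt_card_iff_nontrivial, hX]
      exact Nat.one_lt_pow two_ne_zero (Fact.out : p.Prime).one_lt
    omega
  | succ m ih =>
    intro X _ _ hX A hA hC
    have hp : p.Prime := Fact.out
    have hG : IsPGroup p X := IsPGroup.of_card hX
    haveI : Group.IsNilpotent X := hG.isNilpotent
    haveI : Nontrivial X := by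
      rw [← Finite.one_lt_card_iff_nontrivial, hX]; exact Nat.one_lt_pow (by omega) hp.one_lt
    set Z := center X with hZ
    have hZA : Z ≤ A := hC ▸ center_le_centralizer (A : Set X)
    have hAne : A ≠ ⊤ := fun h => by
      rw [h, card_top, hX, Nat.pow_right_inj hp.two_le] at hA
      omega
    have hZne : Z ≠ A := fun h => hAne (by
      rw [← hC, ← h]; exact eq_top_iff.2 fun g _ => mem_centralizer_iff.2 fun z hz => (mem_center_iff.1 hz g).symm)
    haveI := hG.center_nontrivial
    obtain ⟨k, hk⟩ := (hG.to_subgroup Z).exists_card_eq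
    have hk1 : k = 1 := by
      have h1 : 1 < Nat.card Z := Finite.one_lt_card
      have h2 : Nat.card Z < Nat.card A := by
        by_contra h
        exact hZne (eq_of_le_of_card_ge hZA (not_lt.1 h))
      rw [hk] at h1 h2
      rw [hA, Nat.pow_lt_pow_iff_right hp.one_lt] at h2
      have : k ≠ 0 := fun h => by rw [h, pow_zero] at h1; omega
      omega
    subst hk1
    rw [pow_one] at hk
    set N := normalizer (A : Set X) with hN
    have hAN : A < N := Cfsg.Agent.PGroup.lt_normalizer hG hAne
    set π := QuotientGroup.mk' Z with hπ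
    have hsurj : Function.Surjective π := QuotientGroup.mk'_surjective Z
    have hq : Nat.card (X ⧸ Z) = p ^ (m + 2) := by
      have h1 := Z.card_mul_index
      rw [hk, hX, show p ^ (m + 1 + 2) = p * p ^ (m + 2) by ring] at h1
      exact Nat.eq_of_mul_eq_mul_left hp.pos h1
    have hcard : ∀ K : Subgroup X, Z ≤ K → p * Nat.card (K.map π) = Nat.card K := by
      intro K hK
      have h1 := (Z.subgroupOf K).card_mul_index
      rw [Nat.card_congr (subgroupOfEquivOfLe hK).toEquiv, hk] at h1
      rw [← h1]
      congr 1
      have : (π.comp K.subtype).ker = Z.subgroupOf K := by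
        rw [← MonoidHom.comap_ker, QuotientGroup.ker_mk']; rfl
      rw [← this, index_ker, MonoidHom.range_comp, range_subtype]
    -- [N, A] ≤ Z
    have hNA : ⁅N, A⁆ ≤ Z := by
      haveI hAn : ((A.map π).subgroupOf (N.map π)).Normal := by
        refine normal_subgroupOf_iff_le_normalizer (map_mono hAN.le) |>.2 ?_
        exact (le_normalizer_map π (H := A)).trans_eq rfl
      have hc : Nat.card ((A.map π).subgroupOf (N.map π)) = p := by
        rw [Nat.card_congr (subgroupOfEquivOfLe (map_mono hAN.le)).toEquiv]
        refine Nat.eq_of_mul_eq_mul_left hp.pos ?_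
        rw [hcard A hZA, hA, sq]
      have hle := Cfsg.Agent.PGroup.le_center_of_card_eq ((hG.to_subgroup N).map π) _ hc
      rw [commutator_le]
      intro g hg a ha
      rw [← QuotientGroup.eq_one_iff]
      show π ⁅g, a⁆ = 1
      rw [map_commutatorElement, commutatorElement_eq_one_iff_mul_comm]
      exact congrArg Subtype.val (mem_center_iff.1 (hle (show (⟨π a, mem_map_of_mem π (hAN.le ha)⟩ : N.map π) ∈
        (A.map π).subgroupOf (N.map π) from mem_subgroupOf.2 (mem_map_of_mem π ha))) ⟨π g, mem_map_of_mem π hg⟩)
    have hrel := Cfsg.Agent.PGroup.relIndex_centralizer_le_of_bracket N A Z hZA le_rfl hk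
      ((commutator_mono hAN.le le_rfl).trans hNA) hNA
    rw [hC] at hrel
    have hAZ : Z.relIndex A = p := by
      have := relIndex_mul_relIndex ⊥ Z A bot_le hZA
      rw [relIndex_bot_left, relIndex_bot_left, hk, hA, sq] at this
      exact Nat.eq_of_mul_eq_mul_left hp.pos this
    rw [hAZ] at hrel
    have hN3 : Nat.card N = p ^ 3 := by
      have h1 := relIndex_mul_relIndex ⊥ A N bot_le hAN.le
      rw [relIndex_bot_left, relIndex_bot_left, hA] at h1
      obtain ⟨j, hj⟩ := (hG.to_subgroup N).exists_card_eq
      rw [hj] at h1 ⊢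
      have h2 : p ^ j ≤ p ^ 3 := by rw [← h1, pow_succ p 2]; exact Nat.mul_le_mul le_rfl hrel
      have h3 : Nat.card A < Nat.card N := by
        by_contra h
        exact hAN.ne (eq_of_le_of_card_ge hAN.le (not_lt.1 h))
      rw [hA, hj, Nat.pow_lt_pow_iff_right hp.one_lt] at h3
      rw [Nat.pow_le_pow_iff_right hp.one_lt] at h2
      rw [show j = 3 by omega]
    have hB : Nat.card (N.map π) = p ^ 2 := by
      refine Nat.eq_of_mul_eq_mul_left hp.pos ?_
      rw [hcard N (hZA.trans hAN.le), hN3]; ring
    have hBC : centralizer ((N.map π : Subgroup (X ⧸ Z)) : Set (X ⧸ Z)) = N.map π := by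
      refine le_antisymm ?_ ?_
      · intro q hq'
        obtain ⟨g, rfl⟩ := hsurj q
        refine mem_map_of_mem π ?_
        have key : ∀ x : X, π x ∈ centralizer ((N.map π : Subgroup (X ⧸ Z)) : Set (X ⧸ Z)) →
            ∀ a ∈ A, x * a * x⁻¹ ∈ A := by
          intro x hx a ha
          have h1 : ⁅x, a⁆ ∈ Z := by
            rw [← QuotientGroup.eq_one_iff]
            show π ⁅x, a⁆ = 1
            rw [map_commutatorElement, commutatorElement_eq_one_iff_mul_comm]
            exact (mem_centralizer_iff.1 hx (π a) (mem_map_of_mem π (hAN.le ha))).symm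
          simpa [commutatorElement_def] using mul_mem (hZA h1) ha
        refine mem_normalizer_iff.2 fun a => ⟨key g hq' a, fun h => ?_⟩
        have := key g⁻¹ (by rw [map_inv]; exact inv_mem hq') _ h
        simpa [mul_assoc] using this
      · intro q hq'
        refine mem_centralizer_iff.2 fun r hr => ?_
        exact congrArg Subtype.val ((IsPGroup.isMulCommutative_of_card_eq_prime_sq hB).is_comm.comm ⟨r, hr⟩ ⟨q, hq'⟩)
    have := ih hq (N.map π) hB hBC
    have h2 := Group.nilpotencyClass_quotient_center (G := X)
    rw [this] at h2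
    omega

/-- A p-group with a self-centralizing subgroup of order p^2 is of maximal class. -/
theorem result {X : Type*} [Group X] [Finite X] {p : ℕ} [Fact p.Prime] (n : ℕ) (hX : Nat.card X = p ^ n) (A : Subgroup X) (hA : Nat.card A = p ^ 2) (hC : Subgroup.centralizer (A : Set X) = A) : Group.nilpotencyClass X = n - 1 := by
  have hp : p.Prime := Fact.out
  have hn : 2 ≤ n := by
    have h := Subgroup.card_subgroup_dvd_card A
    rw [hA, hX, Nat.pow_dvd_pow_iff_le_right hp.one_lt] at h
    exact h
  obtain ⟨m, rfl⟩ : ∃ m, n = m + 2 := ⟨n - 2, by omega⟩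
  rw [class_of_selfCentralizing m hX A hA hC]
  omega

end Cfsg.Agent.S0112
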