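import Cfsg.Statements.S3035
import Cfsg.Agent.Lib.DihedralCent.Identify
import Cfsg.Agent.S0495
import Cfsg.Agent.S0497

set_option autoImplicit false
open Cfsg

namespace Cfsg.Agent.S3035

/-- Let G be a finite group with an involution z whose centralizer is dihedral of order 8. Then G = C_G(z) O(G) with O(G) the largest normal subgroup of odd order, or G is isomorphic to the symmetric group of degree 4, the symmetric group of degree 5, the group SL₃(2), or the alternating group of degree 6. -/
theorem result {G : Type*} [Group G] [Finite G] (z : G) (hz : orderOf z = 2)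
    (hC : Nonempty (↥(Subgroup.centralizer ({z} : Set G)) ≃* DihedralGroup 4)) :
    Subgroup.centralizer ({z} : Set G) ⊔ Cfsg.oddCore G = ⊤ ∨ Nonempty (G ≃* Equiv.Perm (Fin 4)) ∨ Nonempty (G ≃* Equiv.Perm (Fin 5)) ∨
      Nonempty (G ≃* Matrix.SpecialLinearGroup (Fin 3) (ZMod 2)) ∨ Nonempty (G ≃* ↥(alternatingGroup (Fin 6))) := by
  obtain ⟨e⟩ := hC
  let D : BSW.DihedralCent G := ⟨z, hz, e⟩
  by_cases hiso : Cfsg.IsIsolatedInvolution z
  · exact Or.inl (DihedralCentTools.sup_oddCore_of_isolated hiso)
  right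
  by_cases hno : ∀ M : Subgroup G, M.Normal → M.index ≠ 2
  · have := D.isSimple hno
    rcases D.card_eq hno with h | h
    · obtain ⟨hs, hc⟩ := DihedralCentTools.sl32
      have := Fact.mk (show Nat.Prime 7 by norm_num)
      obtain ⟨e1⟩ := Cfsg.Agent.S0495.result (F := ZMod 7) h (ZMod.card 7)
      obtain ⟨e2⟩ := Cfsg.Agent.S0495.result (G := Matrix.SpecialLinearGroup (Fin 3) (ZMod 2)) (F := ZMod 7) hc (ZMod.card 7)
      exact Or.inr (Or.inr (Or.inl ⟨e1.trans e2.symm⟩))
    · exact Or.inr (Or.inr (Or.inr (Cfsg.Agent.S0497.result h)))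
  · push Not at hno
    obtain ⟨M, hM, hidx⟩ := hno
    rcases DihedralCentTools.index_two_case D hiso M hidx with h | h
    · exact Or.inl h
    · exact Or.inr (Or.inl h)

end Cfsg.Agent.S3035
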