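import Cfsg.Statements.S2947
import Cfsg.Agent.Lib.PGroup.Basic
-- import your own Cfsg.Agent.* helpers here

set_option autoImplicit false
open Cfsg

namespace Cfsg.Agent.S2947

open Subgroup

variable {G : Type*} [Group G] [Finite G]

/-- `M` contains the normalisers of its nontrivial `2`-subgroups. -/
def Closed (M : Subgroup G) : Prop :=
  ∀ Q : Subgroup G, IsPGroup 2 ↥Q → Q ≤ M → Q ≠ ⊥ → normalizer (Q : Set G) ≤ M

theorem mem_of_commute {M : Subgroup G} (h : Closed M) {x g : G} (hxM : x ∈ M)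
    (hx : orderOf x = 2) (hg : Commute g x) : g ∈ M := by
  refine h (zpowers x) (IsPGroup.of_card (n := 1) (by rw [Nat.card_zpowers, hx, pow_one]))
    (zpowers_le.2 hxM) (fun h0 => ?_) ?_
  · rw [zpowers_eq_bot.1 h0, orderOf_one] at hx
    exact absurd hx (by decide)
  · rw [mem_normalizer_iff]
    intro a
    have key : ∀ a ∈ zpowers x, g * a * g⁻¹ = a := by
      intro a ha
      obtain ⟨k, rfl⟩ := mem_zpowers_iff.1 ha
      rw [(hg.zpow_right k).eq, mul_inv_cancel_right]
    refine ⟨fun ha => ?_, fun ha => ?_⟩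
    · rw [key a ha]
      exact ha
    · have h2 : g * (g * a * g⁻¹) * g⁻¹ = g * a * g⁻¹ := key _ ha
      have h3 : g * a * g⁻¹ = a := mul_left_cancel (mul_right_cancel h2)
      rwa [h3] at ha

theorem stronglyEmbedded_of_closed {M : Subgroup G} (htop : M ≠ ⊤) (heven : Even (Nat.card M))
    (h : Closed M) : Cfsg.IsStronglyEmbedded M := by
  have : Fact (Nat.Prime 2) := ⟨Nat.prime_two⟩
  refine ⟨htop, heven, fun g hg => ?_⟩
  rw [← Nat.not_even_iff_odd]
  intro hev
  obtain ⟨⟨t, ht'⟩, ht⟩ := exists_prime_orderOf_dvd_card' 2 (even_iff_two_dvd.1 hev)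
  rw [orderOf_mk] at ht
  obtain ⟨htM, u, huM, hut⟩ := ht'
  have hut' : g * u * g⁻¹ = t := hut
  have hu : orderOf u = 2 := by
    rw [← ht, ← hut', ← MulAut.conj_apply, MulEquiv.orderOf_eq]
  -- a Sylow subgroup `T` of `M` through `u`, and a central involution `z` of `T`
  have hu' : IsPGroup 2 ↥(zpowers (⟨u, huM⟩ : ↥M)) :=
    IsPGroup.of_card (n := 1) (by rw [Nat.card_zpowers, orderOf_mk, hu, pow_one])
  obtain ⟨P, hP⟩ := hu'.exists_le_sylow
  have huP : (⟨u, huM⟩ : ↥M) ∈ (P : Subgroup ↥M) := hP (mem_zpowers _)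
  have hPne : (⊤ : Subgroup ↥(P : Subgroup ↥M)) ≠ ⊥ := by
    intro h0
    have h1 : (⟨⟨u, huM⟩, huP⟩ : ↥(P : Subgroup ↥M)) ∈ (⊥ : Subgroup ↥(P : Subgroup ↥M)) :=
      h0 ▸ mem_top _
    have h2 : u = 1 := congrArg (fun a : ↥(P : Subgroup ↥M) => ((a : ↥M) : G)) (mem_bot.1 h1)
    rw [h2, orderOf_one] at hu
    exact absurd hu (by decide)
  obtain ⟨⟨⟨z, hzM⟩, hzP⟩, -, hzc, hz⟩ :=
    Cfsg.Agent.PGroup.exists_orderOf_eq_mem_center P.2 ⊤ hPne
  rw [orderOf_mk, orderOf_mk] at hz
  have hcent : ∀ (a : G) (ha : a ∈ M), (⟨a, ha⟩ : ↥M) ∈ (P : Subgroup ↥M) → Commute a z := by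
    intro a ha haP
    exact congrArg (fun b : ↥(P : Subgroup ↥M) => ((b : ↥M) : G))
      (mem_center_iff.1 hzc ⟨⟨a, ha⟩, haP⟩)
  have hzu : Commute u z := hcent u huM huP
  have hz'M : g * z * g⁻¹ ∈ M := by
    refine mem_of_commute h htM ht ?_
    rw [← hut', ← MulAut.conj_apply, ← MulAut.conj_apply]
    exact hzu.symm.map (MulAut.conj g)
  have hz' : orderOf (g * z * g⁻¹) = 2 := by rw [← MulAut.conj_apply, MulEquiv.orderOf_eq, hz]
  -- move it back into `T`
  obtain ⟨Q, hQ⟩ := (IsPGroup.of_card (n := 1) (p := 2)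
    (G := ↥(zpowers (⟨g * z * g⁻¹, hz'M⟩ : ↥M)))
    (by rw [Nat.card_zpowers, orderOf_mk, hz', pow_one])).exists_le_sylow
  obtain ⟨k, hk⟩ := MulAction.exists_smul_eq ↥M Q P
  have hkz : k * ⟨g * z * g⁻¹, hz'M⟩ * k⁻¹ ∈ (P : Subgroup ↥M) := by
    rw [← hk, Sylow.coe_subgroup_smul]
    exact smul_mem_pointwise_smul _ _ _ (hQ (mem_zpowers _))
  set c : G := (k : G) * g with hc
  have hz2M : c * z * c⁻¹ ∈ M := by
    have := (k * ⟨g * z * g⁻¹, hz'M⟩ * k⁻¹).2
    simpa [hc, mul_assoc] using this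
  have hz2 : orderOf (c * z * c⁻¹) = 2 := by rw [← MulAut.conj_apply, MulEquiv.orderOf_eq, hz]
  -- the conjugate of `T` by `c` lies in `M`
  set T : Subgroup G := (P : Subgroup ↥M).map M.subtype with hT
  have hTc : T.map (MulAut.conj c).toMonoidHom ≤ M := by
    rintro _ ⟨_, ⟨⟨a, ha⟩, haP, rfl⟩, rfl⟩
    refine mem_of_commute h hz2M hz2 ?_
    exact (hcent a ha haP).map (MulAut.conj c)
  have hT2 : IsPGroup 2 ↥((T.map (MulAut.conj c).toMonoidHom).subgroupOf M) :=
    ((P.2.map _).map _).of_equiv (subgroupOfEquivOfLe hTc).symm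
  obtain ⟨P', hP'⟩ := hT2.exists_le_sylow
  obtain ⟨m, hm⟩ := MulAction.exists_smul_eq ↥M P' P
  have hmc : (m : G) * c ∈ normalizer (T : Set G) := by
    have hle : T.map (MulAut.conj ((m : G) * c)).toMonoidHom ≤ T := by
      rintro _ ⟨a, ha, rfl⟩
      have h1 : c * a * c⁻¹ ∈ T.map (MulAut.conj c).toMonoidHom := ⟨a, ha, rfl⟩
      have h2 : m * ⟨c * a * c⁻¹, hTc h1⟩ * m⁻¹ ∈ (P : Subgroup ↥M) := by
        rw [← hm, Sylow.coe_subgroup_smul]
        exact smul_mem_pointwise_smul _ _ _ (hP' h1)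
      refine ⟨_, h2, ?_⟩
      simp [mul_assoc]
    have heq : T.map (MulAut.conj ((m : G) * c)).toMonoidHom = T :=
      eq_of_le_of_card_ge hle (card_map_of_injective (K := T)
        (f := (MulAut.conj ((m : G) * c)).toMonoidHom) (MulAut.conj _).injective).ge
    rw [mem_normalizer_iff]
    intro a
    conv_rhs => rw [← heq]
    exact (mem_map_iff_mem (MulAut.conj ((m : G) * c)).injective).symm
  have hTne : T ≠ ⊥ := by
    intro h0
    have h1 : (z : G) ∈ T := ⟨⟨z, hzM⟩, hzP, rfl⟩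
    rw [h0, mem_bot] at h1
    rw [h1, orderOf_one] at hz
    exact absurd hz (by decide)
  have h4 : (m : G) * c ∈ M := h T (P.2.map _) (map_subtype_le _) hTne hmc
  refine hg ?_
  have h5 := mul_mem (inv_mem k.2) (mul_mem (inv_mem m.2) h4)
  simpa [hc, mul_assoc] using h5

theorem closed_of_stronglyEmbedded {M : Subgroup G} (h : Cfsg.IsStronglyEmbedded M) :
    Closed M := by
  intro Q hQ hQM hne g hg
  by_contra hgM
  have : Fact (Nat.Prime 2) := ⟨Nat.prime_two⟩
  have hle : Q ≤ M ⊓ M.map (MulAut.conj g).toMonoidHom := by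
    refine le_inf hQM fun a ha => ⟨g⁻¹ * a * g, hQM ?_, ?_⟩
    · exact (mem_normalizer_iff''.1 hg a).1 ha
    · simp [mul_assoc]
  obtain ⟨n, hn⟩ := IsPGroup.iff_card.1 hQ
  have hd : 2 ∣ Nat.card ↥Q := by
    rcases n with _ | n
    · exact absurd (card_eq_one.1 (by simpa using hn)) hne
    · exact hn ▸ dvd_pow_self 2 (Nat.succ_ne_zero n)
  exact Nat.not_even_iff_odd.2 (h.2.2 g hgM)
    (even_iff_two_dvd.2 (hd.trans (card_dvd_of_le hle)))


/-- Let G be a finite group of characteristic 2 type in which every 2-local subgroup is solvable and the centralizer of Ω₁(Z(S)) lies in N_G(S) for every Sylow 2-subgroup S; suppose O₂(G) = 1, fix a Sylow 2-subgroup S and a 2-local subgroup M containing N_G(J(S)) (J the Thompson subgroup generated by the elementary abelian 2-subgroups of largest order). Then M is strongly embedded in G (a proper subgroup of even order whose intersection with each conjugate by an element outside M has odd order) if and only if no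 nontrivial 2-subgroup of M lies in a 2-local subgroup of G not contained in M. -/
theorem result {G : Type*} [Group G] [Finite G] (hL : Cfsg.IsCharacteristicTwoType G) (hN : ∀ N : Subgroup G, Cfsg.IsTwoLocal N → Group.IsSolvable ↥N)
    (hZ : ∀ S : Sylow 2 G, Subgroup.centralizer (Cfsg.omegaCenterOf (S : Subgroup G) : Set G) ≤ Subgroup.normalizer ((S : Subgroup G) : Set G)) (hO : Cfsg.pCore 2 G = ⊥) (S : Sylow 2 G) (M : Subgroup G) (hM : Cfsg.IsTwoLocal M)
    (hMJ : Subgroup.normalizer (Cfsg.thompsonSubgroupOf 2 (S : Subgroup G) : Set G) ≤ M) :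
    Cfsg.IsStronglyEmbedded M ↔ Cfsg.straddlingTwoSubgroups M = ∅ := by
  have : Fact (Nat.Prime 2) := ⟨Nat.prime_two⟩
  constructor
  · intro h
    have hC := closed_of_stronglyEmbedded h
    refine Set.eq_empty_iff_forall_notMem.2 ?_
    rintro T ⟨hT, hTne, hTM, L, ⟨R, hR, hRne, rfl⟩, hTL, hLM⟩
    refine hLM (hC R hR ?_ hRne)
    have hX : IsPGroup 2 ↥(R ⊔ T) := hR.to_sup_of_normal_left' hT hTL
    have hn : (R.subgroupOf (R ⊔ T)).Normal :=
      normal_subgroupOf_iff_le_normalizer le_sup_left |>.2 (sup_le le_normalizer hTL)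
    obtain ⟨⟨r, hrX⟩, hrR, hrc, hr⟩ := Cfsg.Agent.PGroup.exists_orderOf_eq_mem_center hX
      (R.subgroupOf (R ⊔ T)) (fun h0 => hRne (by
        have h1 := subgroupOf_eq_bot.1 h0
        rwa [disjoint_iff, inf_eq_left.2 le_sup_left] at h1))
    rw [orderOf_mk] at hr
    have hcomm : ∀ a ∈ R ⊔ T, Commute a r := fun a ha =>
      congrArg Subtype.val (mem_center_iff.1 hrc ⟨a, ha⟩)
    have hrM : r ∈ M := by
      refine hC T hT hTM hTne (mem_normalizer_iff.2 fun a => ?_)
      have key : ∀ a ∈ T, r * a * r⁻¹ = a := fun a ha => by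
        rw [← (hcomm a (le_sup_right (a := R) ha)).eq, mul_inv_cancel_right]
      refine ⟨fun ha => (key a ha).symm ▸ ha, fun ha => ?_⟩
      have h3 : r * a * r⁻¹ = a := mul_left_cancel (mul_right_cancel (key _ ha))
      rwa [h3] at ha
    exact fun a ha => mem_of_commute hC hrM hr (hcomm a (le_sup_left (b := T) ha))
  · intro h
    have hC : Closed M := by
      intro Q hQ hQM hne
      by_contra hle
      have hmem : Q ∈ Cfsg.straddlingTwoSubgroups M :=
        ⟨hQ, hne, hQM, normalizer (Q : Set G), ⟨Q, hQ, hne, rfl⟩, le_normalizer, hle⟩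
      rw [h] at hmem
      exact hmem
    obtain ⟨R, hR, hRne, rfl⟩ := hM
    refine stronglyEmbedded_of_closed (fun htop => hRne ?_) ?_ hC
    · rw [← le_bot_iff, ← hO]
      exact le_sSup ⟨normalizer_eq_top_iff.1 htop, hR⟩
    · refine even_iff_two_dvd.2 (dvd_trans ?_ (card_dvd_of_le le_normalizer))
      obtain ⟨n, hn⟩ := IsPGroup.iff_card.1 hR
      rcases n with _ | n
      · exact absurd (card_eq_one.1 (by simpa using hn)) hRne
      · exact hn ▸ dvd_pow_self 2 (Nat.succ_ne_zero n)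

end Cfsg.Agent.S2947
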