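import Cfsg.Statements.S2943
import Cfsg.Agent.Lib.JComponent.Unique
import Cfsg.Agent.Lib.JComponent.Component

set_option autoImplicit false
open Cfsg Cfsg.Agent.JComponent
open scoped commutatorElement

namespace Cfsg.Agent.S2943

/-- Let G be a finite group of characteristic 2 type in which every 2-local subgroup is solvable and the centralizer of Ω₁(Z(S)) lies in N_G(S) for every Sylow 2-subgroup S, and let T be a nontrivial 2-subgroup (below, J is the Thompson subgroup generated by the elementary abelian 2-subgroups of largest order), L a subgroup in which T is a Sylow 2-subgroup with J(T) not contained in O₂(L) and C_G(O₂(L)) ≤ O₂(L), and K a J(T)-component contained in L. If Z(T) meets W_K = [Ω₁(Z(O₂(K))), K] nontrivially, then T normalizes K. -/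
theorem result {G : Type*} [Group G] [Finite G] (hL : Cfsg.IsCharacteristicTwoType G) (hN : ∀ N : Subgroup G, Cfsg.IsTwoLocal N → Group.IsSolvable ↥N)
    (hZ : ∀ S : Sylow 2 G, Subgroup.centralizer (Cfsg.omegaCenterOf (S : Subgroup G) : Set G) ≤ Subgroup.normalizer ((S : Subgroup G) : Set G)) (T : Subgroup G) (hT : IsPGroup 2 ↥T) (hT1 : T ≠ ⊥) (L : Subgroup G) (hLT : L ∈ Cfsg.jOvergroups T)
    (K : Subgroup G) (hK : Cfsg.IsJComponent T K) (hKL : K ≤ L)
    (hZW : T ⊓ Subgroup.centralizer (T : Set G) ⊓ Cfsg.wOf K ≠ ⊥) : T ≤ Subgroup.normalizer (K : Set G) := by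
  have h := setting_of_mem hN hZ hLT
  obtain ⟨z, hz, hz1⟩ := (Subgroup.bot_or_exists_ne_one _).resolve_left hZW
  obtain ⟨⟨hzT, hzc⟩, hzW⟩ := hz
  intro t ht
  have eT : T.map (MulAut.conj t).toMonoidHom = T :=
    PGroup.map_conj_eq_of_mem_normalizer (Subgroup.le_normalizer ht)
  have htL : t ∈ L := h.syl.1 ht
  set K' := K.map (MulAut.conj t).toMonoidHom with hK'def
  have hK' : IsJComponent T K' := eT ▸ isJComponent_map_conj hK t
  have hK'L : K' ≤ L := by
    rintro _ ⟨k, hk, rfl⟩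
    exact mul_mem (mul_mem htL (hKL hk)) (inv_mem htL)
  obtain ⟨y, hy, -, hyO⟩ := (IsJComponent.pre hK).exists_three
  obtain ⟨y', hy', -, hy'O⟩ := (IsJComponent.pre hK').exists_three
  have hP := ((h.comp_facts hK hKL).2.2.2 y hy hyO).2
  have hP' := ((h.comp_facts hK' hK'L).2.2.2 y' hy' hy'O).2
  have hW' : wOf K' = (wOf K).map (MulAut.conj t).toMonoidHom := (wOf_map_conj t K).symm
  have hzW' : z ∈ wOf K' := by
    rw [hW']
    refine ⟨z, hzW, ?_⟩
    show t * z * t⁻¹ = z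
    exact mul_inv_eq_iff_eq_mul.mpr (hzc t ht)
  -- `y` normalizes the second four-group
  have hinv : ∀ w ∈ wOf K', y * w * y⁻¹ ∈ wOf K' := by
    intro w hw
    let f : wOf K' → wOf K' := fun v => ⟨⁅(v : G), y'⁆, hP'.comm v (hP'.le v.2)⟩
    have hinj : Function.Injective f := by
      intro p q e
      have e' : ⁅(p : G), y'⁆ = ⁅(q : G), y'⁆ := congrArg Subtype.val e
      have h1 : Commute ((q : G)⁻¹ * p) y' := by
        rw [commutatorElement_def, commutatorElement_def] at e'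
        have e'' := congrArg (fun s => (q : G)⁻¹ * s * y' * p) e'
        show (q : G)⁻¹ * p * y' = y' * ((q : G)⁻¹ * p)
        simpa [mul_assoc] using e''
      exact Subtype.ext (inv_mul_eq_one.mp (hP'.fpf.2 _ (mul_mem (inv_mem q.2) p.2) h1)).symm
    obtain ⟨v, hv⟩ := (Finite.injective_iff_surjective.mp hinj) ⟨w, hw⟩
    have hv' : ⁅(v : G), y'⁆ = w := congrArg Subtype.val hv
    have hvV : y * (v : G) * y⁻¹ ∈ vOf L :=
      (Subgroup.mem_normalizer_iff.mp (le_normalizer_vOf L (rOf_le L hP.mem)) _).mp (hP'.le v.2)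
    have h1 := hP'.comm _ hvV
    have h2 : ⁅y, y'⁆ ∈ cOf L := h.rOf_comm hP.mem hP'.mem
    have h3 : ⁅y * (v : G) * y⁻¹, y'⁆ ∈ vOf L := hP'.le h1
    have h4 := (mem_centralizer_iff_conj.mp h2.2) _ h3
    rw [← hv']
    have e : y * ⁅(v : G), y'⁆ * y⁻¹ = ⁅y, y'⁆ * ⁅y * (v : G) * y⁻¹, y'⁆ * ⁅y, y'⁆⁻¹ := by
      have h5 := (mem_centralizer_iff_conj.mp h2.2) _ hvV
      calc y * ⁅(v : G), y'⁆ * y⁻¹
          = y * (v : G) * y⁻¹ * ⁅y, y'⁆ * y' * (y * (v : G) * y⁻¹)⁻¹ * y'⁻¹ * ⁅y, y'⁆⁻¹ := by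
            simp only [commutatorElement_def]; group
        _ = ⁅y, y'⁆ * (y * (v : G) * y⁻¹) * y' * (y * (v : G) * y⁻¹)⁻¹ * y'⁻¹ * ⁅y, y'⁆⁻¹ := by
            rw [← mul_inv_eq_iff_eq_mul.mp h5]
        _ = _ := by rw [commutatorElement_def]; group
    rw [e, h4]
    exact h1
  have he : wOf K' ⊓ wOf K = wOf K := by
    refine eq_of_le_four hK.2.2.2.2.1 inf_le_right (fun e => hz1 ?_) hP.fpf fun v hv => ⟨?_, ?_⟩
    · exact Subgroup.mem_bot.mp (e.le ⟨hzW', hzW⟩)
    · exact hinv v hv.1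
    · exact (Subgroup.mem_normalizer_iff.mp hP.fpf.1 v).mp hv.2
  have heq : wOf K = wOf K' := Subgroup.eq_of_le_of_card_ge (inf_eq_right.mp he)
    (by rw [hK'.2.2.2.2.1, hK.2.2.2.2.1])
  refine h.comp_normalizer_wOf hK hKL ⟨htL, PGroup.mem_normalizer_of_map_conj_eq ?_⟩
  rw [← hW', ← heq]

end Cfsg.Agent.S2943
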