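import Cfsg.Statements.S4593
import Cfsg.Agent.Lib.ZStar.Main
import Cfsg.Agent.Lib.Transfer.Burnside
import Cfsg.Agent.Lib.PCore.Basic
-- import your own Cfsg.Agent.* helpers here

set_option autoImplicit false
open Cfsg

namespace Cfsg.Agent.S4593


variable {G : Type*} [Group G]

private theorem conj_map_aut (φ : MulAut G) (g : G) :
    φ * MulAut.conj g * φ⁻¹ = MulAut.conj (φ g) := by
  ext x
  simp

private theorem conj_injective (hZ : Subgroup.center G = ⊥) :
    Function.Injective (MulAut.conj : G →* MulAut G) := by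
  rw [injective_iff_map_eq_one]
  intro g hg
  rw [← Subgroup.mem_bot, ← hZ, Subgroup.mem_center_iff]
  intro x
  have h := DFunLike.congr_fun hg x
  simp only [MulAut.conj_apply, MulAut.one_apply] at h
  exact (mul_inv_eq_iff_eq_mul.mp h).symm

private theorem eq_one_of_commute (hZ : Subgroup.center G = ⊥) (φ : MulAut G)
    (h : ∀ g : G, Commute (MulAut.conj g) φ) : φ = 1 := by
  ext g
  refine conj_injective hZ ?_
  rw [← conj_map_aut, ← (h g).eq, mul_inv_cancel_right]
  rfl

/-- Let G be a finite group with trivial centre and no nontrivial normal subgroup of odd order, whose Sylow 2-subgroups are abelian, and let P be a Sylow 2-subgroup. Every automorphism of G of 2-power order that fixes P elementwise is inner. -/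
theorem result {G : Type*} [Group G] [Finite G] (hZ : Subgroup.center G = ⊥) (hcore : Cfsg.pPrimeCore 2 G = ⊥) (P : Sylow 2 G) (hab : IsMulCommutative (P : Subgroup G))
    (α : MulAut G) (h2 : ∃ j : ℕ, orderOf α = 2 ^ j) (hfix : ∀ x ∈ (P : Subgroup G), α x = x) :
    ∃ g : G, ∀ x : G, α x = g * x * g⁻¹ := by
  classical
  haveI : Fact (Nat.Prime 2) := ⟨Nat.prime_two⟩
  by_contra hcon
  haveI hRn : (MulAut.conj : G →* MulAut G).range.Normal := by
    refine ⟨?_⟩
    rintro _ ⟨g, rfl⟩ φ
    exact ⟨φ g, (conj_map_aut φ g).symm⟩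
  set H : Subgroup (MulAut G) := (MulAut.conj : G →* MulAut G).range ⊔ Subgroup.zpowers α with hH
  let ι : G →* H := (MulAut.conj : G →* MulAut G).codRestrict H
    fun g => Subgroup.mem_sup_left ⟨g, rfl⟩
  have hι : Function.Injective ι := fun a b hab =>
    conj_injective hZ (congrArg Subtype.val hab)
  let a : H := ⟨α, Subgroup.mem_sup_right (Subgroup.mem_zpowers α)⟩
  have ha_not : a ∉ ι.range := by
    rintro ⟨g, hg⟩
    refine hcon ⟨g, fun x => ?_⟩
    have h1 : MulAut.conj g = α := congrArg Subtype.val hg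
    rw [← h1]
    rfl
  haveI hKn : ι.range.Normal := by
    refine ⟨?_⟩
    rintro _ ⟨g, rfl⟩ φ
    exact ⟨(φ : MulAut G) g, Subtype.ext (conj_map_aut (φ : MulAut G) g).symm⟩
  have htop : ι.range ⊔ Subgroup.zpowers a = ⊤ := by
    rw [eq_top_iff]
    rintro ⟨x, hx⟩ -
    obtain ⟨y, hy, z, hz, hyz⟩ := Subgroup.mem_sup_of_normal_left.mp hx
    obtain ⟨g, rfl⟩ := hy
    obtain ⟨i, rfl⟩ := Subgroup.mem_zpowers_iff.mp hz
    have : (⟨x, hx⟩ : H) = ι g * a ^ i := Subtype.ext (hyz.symm.trans rfl)
    rw [this]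
    exact mul_mem (Subgroup.mem_sup_left ⟨g, rfl⟩)
      (Subgroup.mem_sup_right (zpow_mem (Subgroup.mem_zpowers a) i))
  -- the commutator subgroup is inside the inner part
  have hcomm : _root_.commutator H ≤ ι.range := by
    have hgen : ∀ x : H, ∃ i : ℤ, QuotientGroup.mk' ι.range x =
        (QuotientGroup.mk' ι.range a) ^ i := by
      intro x
      obtain ⟨y, hy, z, hz, hyz⟩ :=
        Subgroup.mem_sup_of_normal_left.mp (htop ▸ Subgroup.mem_top x)
      obtain ⟨i, rfl⟩ := Subgroup.mem_zpowers_iff.mp hz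
      refine ⟨i, ?_⟩
      rw [← hyz, map_mul, map_zpow, (QuotientGroup.eq_one_iff y).mpr hy |> fun h =>
        (show QuotientGroup.mk' ι.range y = 1 from h), one_mul]
    rw [_root_.commutator_def, Subgroup.commutator_le]
    intro x _ y _
    rw [← QuotientGroup.ker_mk' ι.range, MonoidHom.mem_ker, map_commutatorElement,
      commutatorElement_eq_one_iff_commute]
    obtain ⟨i, hi⟩ := hgen x
    obtain ⟨j, hj⟩ := hgen y
    rw [hi, hj]
    exact (Commute.refl _).zpow_zpow i j
  -- the Sylow subgroup of the extension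
  have haP : ∀ s ∈ (P : Subgroup G), Commute a (ι s) := by
    intro s hs
    have h1 := conj_map_aut α s
    rw [hfix s hs, mul_inv_eq_iff_eq_mul] at h1
    exact Subtype.ext h1
  set PH : Subgroup H := (P : Subgroup G).map ι with hPH
  have hPHab : PH ≤ Subgroup.centralizer (PH : Set H) := by
    rintro _ ⟨s, hs, rfl⟩
    rw [Subgroup.mem_centralizer_iff]
    rintro _ ⟨t, ht, rfl⟩
    have h1 := congrArg Subtype.val (hab.is_comm.comm (⟨t, ht⟩ : (P : Subgroup G)) ⟨s, hs⟩)
    rw [← map_mul, ← map_mul]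
    exact congrArg ι h1
  set T : Subgroup H := PH ⊔ Subgroup.zpowers a with hT
  have hZc : Subgroup.zpowers a ≤ Subgroup.centralizer (PH : Set H) := by
    rw [Subgroup.zpowers_le, Subgroup.mem_centralizer_iff]
    rintro _ ⟨s, hs, rfl⟩
    exact (haP s hs).eq.symm
  have hTab : T ≤ Subgroup.centralizer (T : Set H) := by
    rw [hT]
    refine sup_le ?_ ?_ <;> rw [Subgroup.le_centralizer_iff] <;> refine sup_le ?_ ?_
    · exact hPHab
    · exact hZc
    · exact Subgroup.le_centralizer_iff.mp hZc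
    · exact Subgroup.le_centralizer _
  have hpa : IsPGroup 2 (Subgroup.zpowers a) := by
    obtain ⟨j, hj⟩ := h2
    refine IsPGroup.of_card (n := j) ?_
    rw [Nat.card_zpowers, ← Subgroup.orderOf_coe]
    exact hj
  have hTp : IsPGroup 2 T :=
    IsPGroup.to_sup_of_normal_left' (P.2.map ι) hpa
      (hZc.trans (Subgroup.centralizer_le_normalizer _))
  obtain ⟨Q, hTQ⟩ := hTp.exists_le_sylow
  have hQK : (Q : Subgroup H).comap ι = P :=
    P.is_maximal' (Q.2.comap_of_injective ι hι)
      fun s hs => hTQ (Subgroup.mem_sup_left ⟨s, hs, rfl⟩)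
  have hQT : (Q : Subgroup H) ≤ T := by
    intro q hq
    obtain ⟨y, hy, z, hz, hyz⟩ :=
      Subgroup.mem_sup_of_normal_left.mp (htop ▸ Subgroup.mem_top q)
    obtain ⟨g, rfl⟩ := hy
    have hgQ : ι g ∈ (Q : Subgroup H) := by
      have : ι g = q * z⁻¹ := by rw [← hyz, mul_inv_cancel_right]
      rw [this]
      exact mul_mem hq (inv_mem (hTQ (Subgroup.mem_sup_right hz)))
    have hgP : g ∈ (P : Subgroup G) := hQK ▸ hgQ
    rw [← hyz]
    exact mul_mem (Subgroup.mem_sup_left ⟨g, hgP, rfl⟩) (Subgroup.mem_sup_right hz)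
  have hQab : IsMulCommutative (Q : Subgroup H) := ⟨⟨fun x y => Subtype.ext
    (Subgroup.mem_centralizer_iff.mp (hTab (hQT y.2)) _ (hQT x.2))⟩⟩
  -- a nontrivial element of the Sylow subgroup central in its normalizer
  obtain ⟨c, hc, hcf⟩ := Transfer.exists_mem_centralizer_normalizer_mul_focal Q hQab
    (hTQ (Subgroup.mem_sup_right (Subgroup.mem_zpowers a)))
  have hcK : c ∉ ι.range := fun hc' => ha_not (by
    simpa using mul_mem hc' (hcomm ((Q : Subgroup H).focalSubgroup_le_commutator hcf)))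
  have hc1 : c ≠ 1 := fun h => hcK (h ▸ one_mem _)
  set C := (Q : Subgroup H) ⊓
    Subgroup.centralizer (Subgroup.normalizer (Q : Set H) : Set H) with hC
  have hCdvd : 2 ∣ Nat.card C := by
    obtain ⟨k, hk⟩ := (Q.2.to_le inf_le_left : IsPGroup 2 C).exists_card_eq
    rcases k with _ | k
    · rw [pow_zero, Subgroup.card_eq_one] at hk
      exact absurd ((Subgroup.mem_bot).mp (hk ▸ hc)) hc1
    · rw [hk]; exact dvd_pow_self 2 k.succ_ne_zero
  obtain ⟨⟨z, hzQ, hzN⟩, hz⟩ := exists_prime_orderOf_dvd_card' 2 hCdvd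
  rw [← Subgroup.orderOf_coe] at hz
  have hiso : ∀ g : H, g * z * g⁻¹ ∈ Q → g * z * g⁻¹ = z := by
    intro g hg
    obtain ⟨n, hn, hne⟩ :=
      Transfer.controlsElementFusion_normalizer_of_isMulCommutative Q hQab z hzQ g hg
    rw [← hne, Subgroup.mem_centralizer_iff.mp hzN n hn, mul_inv_cancel_right]
  -- the extension has trivial odd core
  have hOH : Cfsg.oddCore H = ⊥ := by
    have hinf : Cfsg.oddCore H ⊓ ι.range = ⊥ := by
      rw [eq_bot_iff]
      rintro _ ⟨hn, g, rfl⟩
      have hle : (Cfsg.oddCore H).comap ι ≤ Cfsg.pPrimeCore 2 G := by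
        refine PCore.le_pPrimeCore ?_
        refine Nat.Coprime.coprime_dvd_left ?_
          (Nat.coprime_two_right.mpr (PCore.odd_card_oddCore (G := H)))
        rw [← Subgroup.card_map_of_injective hι]
        exact Subgroup.card_dvd_of_le (Subgroup.map_comap_le _ _)
      have hg1 : g = 1 := by
        have := hle hn
        rwa [hcore, Subgroup.mem_bot] at this
      rw [hg1, map_one]
      exact one_mem _
    rw [eq_bot_iff]
    intro n hn
    rw [Subgroup.mem_bot]
    refine Subtype.ext (eq_one_of_commute hZ _ fun g => ?_)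
    exact congrArg Subtype.val (PCore.commute_of_normal_of_disjoint hKn inferInstance
      (disjoint_iff.mpr ((inf_comm _ _).trans hinf)) (a := ι g) ⟨g, rfl⟩ hn)
  -- the involution would be central
  have hzc := ZStar.mem_center_of_oddCore_eq_bot
    (ZStar.inZStar (ZStar.isolated_of_sylow hz hzQ hiso)) hOH
  have hz1 : z = 1 := Subtype.ext (eq_one_of_commute hZ _ fun g =>
    congrArg Subtype.val (Subgroup.mem_center_iff.mp hzc (ι g)))
  subst hz1
  simp at hz

end Cfsg.Agent.S4593
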