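import Cfsg.Statements.S2111
import Cfsg.Agent.S2117
import Cfsg.Agent.Lib.Sz.Aut
import Cfsg.Agent.Lib.Sz.Lie
import Cfsg.Agent.Lib.Sz.Commutant
import Cfsg.Agent.Lib.Schur.Stem

set_option autoImplicit false
open Cfsg

namespace Cfsg.Agent.S2111

open Matrix
open scoped Pointwise commutatorElement

variable {F : Type*} [Field F] [Fintype F] {m : ℕ}

/-- The pairing between the two layers of the Sylow 2-subgroup vanishes. -/
theorem mixed_pairing_trivial (hm : 2 ≤ m) (hF : Fintype.card F = 2 ^ (2 * m + 1))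
    {M : Type*} [CommGroup M] (β : F → F → M)
    (addl : ∀ u u' v, β (u + u') v = β u v * β u' v)
    (addr : ∀ u v v', β u (v + v') = β u v * β u v')
    (inv : ∀ k u v, k ≠ 0 → β (k * u) (SZ.th m k * k * v) = β u v) :
    ∀ u v, β u v = 1 := by
  have zl : ∀ v, β 0 v = 1 := fun v => by
    have := addl 0 0 v; rw [add_zero] at this; exact left_eq_mul.1 this
  have zr : ∀ u, β u 0 = 1 := fun u => by
    have := addr u 0 0; rw [add_zero] at this; exact left_eq_mul.1 this
  have nr : ∀ u v, β u (-v) = (β u v)⁻¹ := fun u v => by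
    have := addr u (-v) v; rw [neg_add_cancel, zr] at this
    exact eq_inv_of_mul_eq_one_left this.symm
  by_contra hne
  push Not at hne
  obtain ⟨u₀, v₀, huv⟩ := hne
  let R : F → F → Prop := fun c d => ∀ u v, β (c * u) v = β u (d * v)
  have Rk : ∀ k : F, k ≠ 0 → R k (SZ.th m k * k)⁻¹ := by
    intro k hk u v
    have hP : SZ.th m k * k ≠ 0 := mul_ne_zero (fun e => hk (SZ.th_eq_zero.1 e)) hk
    rw [← inv k u ((SZ.th m k * k)⁻¹ * v) hk, mul_inv_cancel_left₀ hP]
  have huniq : ∀ {c d d'}, R c d → R c d' → d = d' := by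
    intro c d d' h h'
    by_contra hcd
    have hwker : ∀ u v, β u ((d - d') * v) = 1 := fun u v => by
      rw [sub_mul, sub_eq_add_neg, addr, nr, ← h u v, ← h' u v, mul_inv_cancel]
    apply huv
    have := hwker u₀ ((d - d')⁻¹ * v₀)
    rwa [← mul_assoc, mul_inv_cancel₀ (sub_ne_zero.2 hcd), one_mul] at this
  have Radd : ∀ {c d c' d'}, R c d → R c' d' → R (c + c') (d + d') := fun h h' u v => by
    rw [add_mul, add_mul, addl, addr, h, h']
  have h2 := SZ.two_zero hF
  obtain ⟨σ, hσ⟩ : ∃ σ, σ = 2 ^ (m + 1) := ⟨_, rfl⟩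
  have key : ∀ k : F, k ≠ 0 → k ≠ 1 →
      (SZ.th m k * k) ^ 2 + SZ.th m k * k + 1 + (SZ.th m k + k) * (SZ.th m k * k + 1) = 0 := by
    intro k hk hk1
    have hk' : k + 1 ≠ 0 := fun e => hk1 (by linear_combination e - h2)
    have e := huniq (Rk (k + 1) hk') (Radd (Rk k hk) (by
      have h := Rk 1 one_ne_zero
      rwa [SZ.th_one, mul_one, inv_one] at h))
    have hP : SZ.th m k * k ≠ 0 := mul_ne_zero (fun e => hk (SZ.th_eq_zero.1 e)) hk
    have hP' : SZ.th m (k + 1) * (k + 1) ≠ 0 :=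
      mul_ne_zero (fun e => hk' (SZ.th_eq_zero.1 e)) hk'
    rw [SZ.th_add hF, SZ.th_one] at e hP'
    have e2 : SZ.th m k * k = (SZ.th m k + 1) * (k + 1) * (1 + SZ.th m k * k) := by
      calc SZ.th m k * k = (SZ.th m k + 1) * (k + 1) * (SZ.th m k * k) *
            ((SZ.th m k + 1) * (k + 1))⁻¹ := by
            rw [mul_right_comm, mul_inv_cancel₀ hP', one_mul]
        _ = (SZ.th m k + 1) * (k + 1) * (SZ.th m k * k) * ((SZ.th m k * k)⁻¹ + 1) := by rw [e]
        _ = _ := by rw [mul_add, mul_inv_cancel_right₀ hP, mul_one]; ring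
    linear_combination -e2
  classical
  open Polynomial in
  let Q : F[X] := (X ^ σ * X) ^ 2 + X ^ σ * X + 1 + (X ^ σ + X) * (X ^ σ * X + 1)
  have hσ4 : 4 ≤ σ := hσ ▸ (show (2 : ℕ) ^ 2 ≤ 2 ^ (m + 1) from
    Nat.pow_le_pow_right (by norm_num) (by omega))
  have hQ0 : Q ≠ 0 := by
    intro h
    have := congrArg (fun p => Polynomial.eval 0 p) h
    simp [Q, zero_pow (show σ ≠ 0 by omega)] at this
  have hdeg : Q.natDegree ≤ 2 * σ + 2 := by
    simp only [Q]
    compute_degree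
    all_goals omega
  have hsub : (Finset.univ : Finset F) ⊆ {0, 1} ∪ Q.roots.toFinset := by
    intro a _
    by_cases ha : a = 0
    · simp [ha]
    by_cases ha1 : a = 1
    · simp [ha1]
    refine Finset.mem_union_right _ (Multiset.mem_toFinset.2 ((Polynomial.mem_roots hQ0).2 ?_))
    have := key a ha ha1
    simp only [SZ.th, ← hσ] at this
    simpa [Q] using this
  have h1 := Finset.card_le_card hsub
  have h3 := Finset.card_union_le ({0, 1} : Finset F) Q.roots.toFinset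
  have h4 := (Multiset.toFinset_card_le _).trans (Polynomial.card_roots' Q)
  have h5 : ({0, 1} : Finset F).card ≤ 2 := Finset.card_le_two
  rw [Finset.card_univ, hF] at h1
  have h6 : 2 * σ + 4 < 2 ^ (2 * m + 1) := by
    rw [hσ, show 2 * m + 1 = (m + 1) + m by omega, pow_add 2 (m + 1) m]
    have h8 : 8 ≤ 2 ^ (m + 1) := le_trans (by norm_num : 8 ≤ 2 ^ 3)
      (Nat.pow_le_pow_right (by norm_num) (by omega))
    have h7 : 4 ≤ 2 ^ m := le_trans (by norm_num : 4 ≤ 2 ^ 2)
      (Nat.pow_le_pow_right (by norm_num) hm)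
    have := Nat.mul_le_mul (le_refl (2 ^ (m + 1))) h7
    omega
  omega

section

variable {Γ G : Type*} [Group Γ] [Group G]

theorem comm_mul_left {a a' b : Γ} (h : Commute (⁅a', b⁆ : Γ) a) :
    ⁅a * a', b⁆ = ⁅a', b⁆ * ⁅a, b⁆ := by
  calc ⁅a * a', b⁆ = a * ⁅a', b⁆ * a⁻¹ * ⁅a, b⁆ := by simp only [commutatorElement_def]; group
    _ = _ := by rw [← h.eq, mul_inv_cancel_right]

theorem comm_mul_right {a b b' : Γ} (h : Commute (⁅a, b'⁆ : Γ) b) :
    ⁅a, b * b'⁆ = ⁅a, b⁆ * ⁅a, b'⁆ := by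
  calc ⁅a, b * b'⁆ = ⁅a, b⁆ * (b * ⁅a, b'⁆ * b⁻¹) := by simp only [commutatorElement_def]; group
    _ = _ := by rw [← h.eq, mul_inv_cancel_right]

theorem comm_eq_of_map_eq (σ : Γ →* G) (hz : σ.ker ≤ Subgroup.center Γ) {x y x' y' : Γ}
    (hx : σ x = σ x') (hy : σ y = σ y') : ⁅x, y⁆ = ⁅x', y'⁆ := by
  have key : ∀ {x x' : Γ}, σ x = σ x' → ∀ y : Γ, ⁅x, y⁆ = ⁅x', y⁆ := by
    intro x x' h y
    have hk : x'⁻¹ * x ∈ Subgroup.center Γ := hz (by
      show σ _ = 1; rw [map_mul, map_inv, h, inv_mul_cancel])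
    have h1 : ⁅x'⁻¹ * x, y⁆ = 1 := commutatorElement_eq_one_iff_commute.2
      (Subgroup.mem_center_iff.1 hk y).symm
    rw [show x = x' * (x'⁻¹ * x) from (mul_inv_cancel_left _ _).symm,
      comm_mul_left (by rw [h1]; exact Commute.one_left _), h1, one_mul]
  rw [key hx, ← _root_.inv_inj, commutatorElement_inv, commutatorElement_inv, key hy]

theorem comm_conj (g x y : Γ) :
    ⁅g * x * g⁻¹, g * y * g⁻¹⁆ = g * ⁅x, y⁆ * g⁻¹ := by
  simp only [commutatorElement_def]; group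

end

set_option maxHeartbeats 1000000 in
/-- The 2-part. -/
theorem commutator_inf_ker_two (hm : 2 ≤ m) (hF : Fintype.card F = 2 ^ (2 * m + 1))
    {Γ : Type*} [Group Γ] (σ : Γ →* Cfsg.Sz F m) (hs : Function.Surjective σ)
    (hz : σ.ker ≤ Subgroup.center Γ) (P : Subgroup Γ) (hP : IsPGroup 2 P)
    (hPU : ∀ x ∈ P, ∃ a b, σ x = SZ.tS hF a b) : ⁅P, P⁆ ⊓ σ.ker = ⊥ := by
  classical
  choose s hs' using hs
  have hchar := SZ.two_zero hF
  have hnp : ¬ (Fintype.card F).Prime := by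
    rw [hF]
    exact Nat.Prime.not_prime_pow (by omega)
  have h4 : Fintype.card F ≠ 4 := by
    rw [hF]
    intro h
    have h' : (2 : ℕ) ^ (2 * m + 1) = 2 ^ 2 := h
    have := Nat.pow_right_injective le_rfl h'
    omega
  have h9 : Fintype.card F ≠ 9 := by
    rw [hF]
    intro h
    have : (2 : ℕ) ∣ 2 ^ (2 * m + 1) := dvd_pow_self 2 (by omega)
    omega
  -- commutators of lifts
  let C : Cfsg.Sz F m → Cfsg.Sz F m → Γ := fun X Y => ⁅s X, s Y⁆
  have hC : ∀ x y : Γ, ⁅x, y⁆ = C (σ x) (σ y) := fun x y =>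
    comm_eq_of_map_eq σ hz (hs' _).symm (hs' _).symm
  have Cinv : ∀ X Y, (C X Y)⁻¹ = C Y X := fun X Y => commutatorElement_inv _ _
  have Cl : ∀ X X' Y, Commute (C X' Y) (s X) → C (X * X') Y = C X' Y * C X Y := by
    intro X X' Y h
    rw [← comm_mul_left h, hC, map_mul, hs', hs', hs']
  have Cr : ∀ X Y Y', Commute (C X Y') (s Y) → C X (Y * Y') = C X Y * C X Y' := by
    intro X Y Y' h
    rw [← comm_mul_right h, hC (s X), map_mul, hs', hs', hs']
  have Ccomm : ∀ X Y, Commute X Y → C X Y ∈ Subgroup.center Γ := by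
    intro X Y h
    refine hz ?_
    show σ _ = 1
    rw [map_commutatorElement, hs', hs']
    exact commutatorElement_eq_one_iff_commute.2 h
  have Cconj : ∀ (u : Fˣ) X Y, C (SZ.hS hF u * X * (SZ.hS hF u)⁻¹)
      (SZ.hS hF u * Y * (SZ.hS hF u)⁻¹) =
      s (SZ.hS hF u) * C X Y * (s (SZ.hS hF u))⁻¹ := by
    intro u X Y
    rw [← comm_conj, hC (s (SZ.hS hF u) * s X * _)]
    simp only [map_mul, map_inv, hs']
  -- the two layers
  let A : F → Cfsg.Sz F m := fun a => SZ.tS hF a 0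
  let Z : F → Cfsg.Sz F m := fun b => SZ.tS hF 0 b
  have hZZ : ∀ b b', Z (b + b') = Z b * Z b' := fun b b' => by
    show SZ.tS hF 0 (b + b') = SZ.tS hF 0 b * SZ.tS hF 0 b'
    rw [SZ.tS_mul hF]; simp [SZ.th_zero]
  have hAZ : ∀ a b, SZ.tS hF a b = A a * Z b := fun a b => by
    show _ = SZ.tS hF a 0 * SZ.tS hF 0 b
    rw [SZ.tS_mul hF]; simp
  have hAA : ∀ a a', A (a + a') = Z (SZ.th m a * a') * (A a * A a') := fun a a' => by
    show SZ.tS hF (a + a') 0 = SZ.tS hF 0 _ * (SZ.tS hF a 0 * SZ.tS hF a' 0)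
    rw [SZ.tS_mul hF, SZ.tS_mul hF]
    congr 1 <;> simp [SZ.th_zero]
    linear_combination -(SZ.th m a * a') * hchar
  have hZcomm : ∀ b b', Commute (Z b) (Z b') := fun b b' => by
    show _ = _
    rw [← hZZ, add_comm, hZZ]
  have hAZcomm : ∀ a b, Commute (A a) (Z b) := fun a b => by
    show SZ.tS hF a 0 * SZ.tS hF 0 b = SZ.tS hF 0 b * SZ.tS hF a 0
    rw [SZ.tS_mul hF, SZ.tS_mul hF]; simp [SZ.th_zero]
  letI : CommGroup (Subgroup.center Γ) :=
    { (inferInstance : Group (Subgroup.center Γ)) with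
      mul_comm := fun x y => Subtype.ext (Subgroup.mem_center_iff.1 y.2 x.1) }
  have hcen : ∀ {z : Γ}, z ∈ Subgroup.center Γ → ∀ x, Commute z x := fun hz' x =>
    (Subgroup.mem_center_iff.1 hz' x).symm
  -- step 1: lifts of `Z` commute with each other
  have hψ : ∀ b b', C (Z b) (Z b') = 1 := by
    let ψ : F → F → Subgroup.center Γ := fun b b' =>
      ⟨C (Z b) (Z b'), Ccomm _ _ (hZcomm b b')⟩
    intro b b'
    refine congrArg Subtype.val (S2117.pairing_trivial hnp h4 h9 ψ ?_ ?_ ?_ b b')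
    · intro u u' v
      apply Subtype.ext
      show C (Z (u + u')) (Z v) = C (Z u) (Z v) * C (Z u') (Z v)
      rw [hZZ, Cl _ _ _ (hcen (Ccomm _ _ (hZcomm _ _)) _)]
      exact (hcen (Ccomm _ _ (hZcomm _ _)) _).eq
    · intro u v v'
      apply Subtype.ext
      show C (Z u) (Z (v + v')) = C (Z u) (Z v) * C (Z u) (Z v')
      rw [hZZ, Cr _ _ _ (hcen (Ccomm _ _ (hZcomm _ _)) _)]
    · intro a u v ha
      obtain ⟨w, hw⟩ := SZ.th_surj (m := m) hF (Units.mk0 (a * a) (mul_ne_zero ha ha))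
      rw [Units.val_mk0] at hw
      apply Subtype.ext
      show C (SZ.tS hF 0 (a * a * u)) (SZ.tS hF 0 (a * a * v)) = C (Z u) (Z v)
      have h := Cconj w (Z u) (Z v)
      simp only [Z, SZ.hS_conj_tS, mul_zero, hw] at h
      rw [h, ← (hcen (Ccomm _ _ (hZcomm u v)) _).eq, mul_inv_cancel_right]
  -- step 2: lifts of `Z` commute with lifts of the other layer
  have hφ : ∀ a b, C (A a) (Z b) = 1 := by
    let φ : F → F → Subgroup.center Γ := fun a b =>
      ⟨C (A a) (Z b), Ccomm _ _ (hAZcomm a b)⟩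
    intro a b
    refine congrArg Subtype.val (mixed_pairing_trivial hm hF φ ?_ ?_ ?_ a b)
    · intro a a' b
      apply Subtype.ext
      show C (A (a + a')) (Z b) = C (A a) (Z b) * C (A a') (Z b)
      have h1 := Cl (A a) (A a') (Z b) (hcen (Ccomm _ _ (hAZcomm a' b)) _)
      have h2 : C (A a * A a') (Z b) ∈ Subgroup.center Γ := by
        rw [h1]; exact mul_mem (Ccomm _ _ (hAZcomm a' b)) (Ccomm _ _ (hAZcomm a b))
      rw [hAA, Cl _ _ _ (hcen h2 _), hψ, mul_one, h1]
      exact (hcen (Ccomm _ _ (hAZcomm a' b)) _).eq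
    · intro a b b'
      apply Subtype.ext
      show C (A a) (Z (b + b')) = C (A a) (Z b) * C (A a) (Z b')
      rw [hZZ, Cr _ _ _ (hcen (Ccomm _ _ (hAZcomm _ _)) _)]
    · intro k a b hk
      obtain ⟨u, hu, hu'⟩ := SZ.k_surj hF hk
      apply Subtype.ext
      show C (SZ.tS hF (k * a) 0) (SZ.tS hF 0 (SZ.th m k * k * b)) = C (A a) (Z b)
      have h := Cconj u (A a) (Z b)
      simp only [A, Z, SZ.hS_conj_tS, mul_zero, hu] at h
      rw [hu'] at h
      rw [h, ← (hcen (Ccomm _ _ (hAZcomm a b)) _).eq, mul_inv_cancel_right]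
  have hφ' : ∀ a b, C (Z b) (A a) = 1 := fun a b => by rw [← Cinv, hφ, inv_one]
  -- the abelian preimage of `Z`
  let ζ : Multiplicative F →* Cfsg.Sz F m :=
    MonoidHom.mk' (fun b => Z b.toAdd) fun b b' => hZZ b.toAdd b'.toAdd
  let Zt : Subgroup Γ := ζ.range.comap σ
  have hZt : ∀ {z : Γ}, z ∈ Zt → ∃ b, σ z = Z b := fun hz' => by
    obtain ⟨b, hb⟩ := hz'
    exact ⟨b.toAdd, hb.symm⟩
  have hZtc : ∀ {z : Γ}, z ∈ Zt → ∀ x, (∃ a b, σ x = A a * Z b) → Commute z x := by
    intro z hz' x hx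
    obtain ⟨c, hc⟩ := hZt hz'
    obtain ⟨a, b, hx⟩ := hx
    rw [← commutatorElement_eq_one_iff_commute, hC, hc, hx,
      Cr _ _ _ (by rw [hψ]; exact Commute.one_left _), hψ, hφ', one_mul]
  have hAmem : ∀ a, ∃ a' b, σ (s (A a)) = A a' * Z b := fun a => ⟨a, 0, by
    rw [hs']; exact hAZ a 0⟩
  have hZtcc : ∀ x y : Zt, x * y = y * x := fun x y => by
    obtain ⟨b, hb⟩ := hZt y.2
    exact Subtype.ext (hZtc x.2 _ ⟨0, b, by rw [hb]; show _ = SZ.tS hF 0 0 * _; rw [SZ.tS_mul hF]; simp [Z]⟩).eq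
  letI : CommGroup Zt := { (inferInstance : Group Zt) with mul_comm := hZtcc }
  have hAAmem : ∀ a a', C (A a) (A a') ∈ Zt := by
    intro a a'
    refine ⟨Multiplicative.ofAdd (SZ.th m a * a' + SZ.th m a' * a), ?_⟩
    show Z _ = σ ⁅s (A a), s (A a')⁆
    rw [map_commutatorElement, hs', hs', commutatorElement_def,
      eq_mul_inv_iff_mul_eq, eq_mul_inv_iff_mul_eq]
    show SZ.tS hF 0 (SZ.th m a * a' + SZ.th m a' * a) * SZ.tS hF a' 0 * SZ.tS hF a 0 =
      SZ.tS hF a 0 * SZ.tS hF a' 0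
    simp only [SZ.tS_mul hF]
    congr 1 <;> simp [SZ.th_zero]
    · ring
    · linear_combination (SZ.th m a' * a) * hchar
  -- averaging over the torus
  have hgZ : ∀ (w : Fˣ) {z : Γ}, z ∈ Zt →
      s (SZ.hS hF w) * z * (s (SZ.hS hF w))⁻¹ ∈ Zt := by
    intro w z hz'
    obtain ⟨b, hb⟩ := hZt hz'
    refine ⟨Multiplicative.ofAdd (SZ.th m (w : F) * b), ?_⟩
    show Z _ = σ _
    rw [map_mul σ, map_mul σ, map_inv σ, hs', hb]
    show SZ.tS hF 0 _ = SZ.hS hF w * SZ.tS hF 0 b * (SZ.hS hF w)⁻¹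
    rw [SZ.hS_conj_tS, mul_zero]
    rfl
  let cj : Fˣ → Zt → Zt := fun w z => ⟨_, hgZ w z.2⟩
  let e : Zt →* Zt := MonoidHom.mk' (fun z => ∏ w : Fˣ, cj w z) fun z z' => by
    rw [← Finset.prod_mul_distrib]
    refine Finset.prod_congr rfl fun w _ => Subtype.ext ?_
    show s (SZ.hS hF w) * ((z : Γ) * z') * (s (SZ.hS hF w))⁻¹ =
      s (SZ.hS hF w) * z * (s (SZ.hS hF w))⁻¹ * (s (SZ.hS hF w) * z' * (s (SZ.hS hF w))⁻¹)
    group
  have he : ∀ (v : Fˣ) (z : Zt), e (cj v z) = e z := by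
    intro v z
    show ∏ w : Fˣ, cj w (cj v z) = ∏ w : Fˣ, cj w z
    refine Fintype.prod_equiv (Equiv.mulRight v) _ _ fun w => Subtype.ext ?_
    show s (SZ.hS hF w) * (s (SZ.hS hF v) * z * (s (SZ.hS hF v))⁻¹) * (s (SZ.hS hF w))⁻¹ =
      s (SZ.hS hF (w * v)) * z * (s (SZ.hS hF (w * v)))⁻¹
    have hk : (s (SZ.hS hF (w * v)))⁻¹ * (s (SZ.hS hF w) * s (SZ.hS hF v)) ∈
        Subgroup.center Γ := hz (by
      show σ _ = 1
      simp only [map_mul, map_inv, hs', SZ.hS_mul hF, inv_mul_cancel])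
    have h1 := (hcen hk (z : Γ)).eq
    calc _ = s (SZ.hS hF (w * v)) * (((s (SZ.hS hF (w * v)))⁻¹ *
          (s (SZ.hS hF w) * s (SZ.hS hF v))) * z *
          ((s (SZ.hS hF (w * v)))⁻¹ * (s (SZ.hS hF w) * s (SZ.hS hF v)))⁻¹) *
          (s (SZ.hS hF (w * v)))⁻¹ := by group
      _ = _ := by rw [h1, mul_inv_cancel_right]
  let c : F → F → Zt := fun a a' => ⟨C (A a) (A a'), hAAmem a a'⟩
  have hc : ∀ a a', e (c a a') = 1 := by
    refine S2117.pairing_trivial hnp h4 h9 (fun a a' => e (c a a')) ?_ ?_ ?_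
    · intro a a' a''
      rw [← map_mul]
      congr 1
      apply Subtype.ext
      show C (A (a + a')) (A a'') = C (A a) (A a'') * C (A a') (A a'')
      have h1 := Cl (A a) (A a') (A a'') (hZtc (hAAmem _ _) _ (hAmem a))
      have h2 : Commute (C (A a * A a') (A a'')) (s (Z (SZ.th m a * a'))) := by
        refine (hZtc ?_ _ ?_).symm
        · exact ⟨Multiplicative.ofAdd (SZ.th m a * a'), (hs' _).symm⟩
        · refine ⟨0, (hZt (z := C (A a * A a') (A a'')) ?_).choose, ?_⟩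
          · rw [h1]; exact mul_mem (hAAmem _ _) (hAAmem _ _)
          · rw [← hAZ]
            exact (hZt (z := C (A a * A a') (A a'')) (by
              rw [h1]; exact mul_mem (hAAmem _ _) (hAAmem _ _))).choose_spec
      rw [hAA, Cl _ _ _ h2, hφ', mul_one, h1]
      exact congrArg Subtype.val (hZtcc ⟨_, hAAmem a' a''⟩ ⟨_, hAAmem a a''⟩)
    · intro a a' a''
      rw [← map_mul]
      congr 1
      apply Subtype.ext
      show C (A a) (A (a' + a'')) = C (A a) (A a') * C (A a) (A a'')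
      have h1 := Cr (A a) (A a') (A a'') (hZtc (hAAmem _ _) _ (hAmem a'))
      have h2 : C (A a) (A a' * A a'') ∈ Zt := by rw [h1]; exact mul_mem (hAAmem _ _) (hAAmem _ _)
      rw [hAA, Cr _ _ _ (hZtc h2 _ ⟨0, SZ.th m a' * a'', by rw [hs', ← hAZ]⟩), hφ, one_mul, h1]
    · intro k a a' hk
      obtain ⟨u, hu, -⟩ := SZ.k_surj (m := m) hF (mul_ne_zero hk hk)
      have h := Cconj u (A a) (A a')
      simp only [A, SZ.hS_conj_tS, mul_zero, hu] at h
      have h' : c (k * k * a) (k * k * a') = cj u (c a a') := Subtype.ext h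
      rw [h', he]
  -- conclusion
  have hgen : ⁅P, P⁆ ≤ e.ker.map Zt.subtype := by
    rw [Subgroup.commutator_le]
    intro x hx y hy
    obtain ⟨a, b, hab⟩ := hPU x hx
    obtain ⟨a', b', hab'⟩ := hPU y hy
    refine ⟨c a a', hc a a', ?_⟩
    show C (A a) (A a') = ⁅x, y⁆
    have hl : C (A a * Z b) (A a') = C (A a) (A a') := by
      rw [Cl _ _ _ (by rw [hφ']; exact Commute.one_left _), hφ', one_mul]
    have hr : C (A a * Z b) (Z b') = 1 := by
      rw [Cl _ _ _ (by rw [hψ]; exact Commute.one_left _), hψ, hφ, one_mul]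
    rw [hC, hab, hab', hAZ, hAZ, Cr _ _ _ (by rw [hr]; exact Commute.one_left _), hr, mul_one, hl]
  rw [eq_bot_iff]
  rintro x ⟨hxc, hxk⟩
  obtain ⟨z, hz1, rfl⟩ := hgen hxc
  have hcz : (z : Γ) ∈ Subgroup.center Γ := hz hxk
  have hpow : z ^ Fintype.card Fˣ = 1 := by
    rw [← hz1]
    show _ = ∏ w : Fˣ, cj w z
    rw [Finset.prod_congr rfl (fun w _ => show cj w z = z from Subtype.ext (by
      show s _ * (z : Γ) * (s _)⁻¹ = z
      rw [← (hcen hcz _).eq, mul_inv_cancel_right])), Finset.prod_const, Finset.card_univ]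
  obtain ⟨n, hn⟩ := hP ⟨_, Subgroup.commutator_le_self P hxc⟩
  have hn' : z ^ 2 ^ n = 1 := Subtype.ext (by simpa using congrArg Subtype.val hn)
  have hco : Nat.Coprime (Fintype.card Fˣ) (2 ^ n) := by
    apply Nat.Coprime.pow_right
    rw [Nat.coprime_two_right, Fintype.card_units, hF]
    exact Nat.Even.sub_odd Nat.one_le_two_pow (Nat.even_pow.2 ⟨even_two, by omega⟩) odd_one
  have := pow_gcd_eq_one.2 ⟨hpow, hn'⟩
  rw [hco.gcd_eq_one, pow_one] at this
  rw [this]
  exact Subgroup.mem_bot.2 rfl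

/-- The odd part. -/
theorem exists_sylow_odd (hm : 1 ≤ m) (hF : Fintype.card F = 2 ^ (2 * m + 1))
    {Γ : Type*} [Group Γ] [Finite Γ] (σ : Γ →* Cfsg.Sz F m) (hs : Function.Surjective σ)
    (hz : σ.ker ≤ Subgroup.center Γ) (p : ℕ) [hp : Fact p.Prime] (hp2 : p ≠ 2) :
    ∃ P : Sylow p Γ, ⁅(P : Subgroup Γ), (P : Subgroup Γ)⁆ ⊓ σ.ker = ⊥ := by
  classical
  set q := Fintype.card F with hq
  have hpq : ¬ p ∣ q := by
    rw [hF]
    exact fun h => hp2 ((Nat.prime_dvd_prime_iff_eq hp.out Nat.prime_two).1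
      (hp.out.dvd_of_dvd_pow h))
  by_cases hq1 : p ∣ q - 1
  · -- inside the torus
    let th' : Fˣ →* Cfsg.Sz F m := MonoidHom.mk' (SZ.hS hF) (SZ.hS_mul hF)
    have hinj : Function.Injective th' := by
      intro u v h
      have := congrArg (fun g : Cfsg.Sz F m => g.1.1 0 0) h
      simp [th', SZ.hS, SZ.H, SZ.hVec] at this
      exact Units.ext this
    haveI : IsCyclic th'.range :=
      isCyclic_of_surjective th'.rangeRestrict th'.rangeRestrict_surjective
    let R : Sylow p th'.range := Classical.arbitrary _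
    have hR : IsPGroup p ((R : Subgroup th'.range).map th'.range.subtype) := R.2.map _
    obtain ⟨P, hP⟩ := Schur.exists_sylow_le_map σ hs hR
    obtain ⟨n, hn⟩ := IsPGroup.iff_card.1 (P.2.map σ)
    have h1 : p ^ n ∣ Nat.card (Cfsg.Sz F m) := hn ▸ Subgroup.card_subgroup_dvd_card _
    rw [SZ.card_Sz hm hF] at h1
    have hcop : Nat.Coprime (p ^ n) (q ^ 2 * (q ^ 2 + 1)) := by
      apply Nat.Coprime.pow_left
      refine (Nat.Prime.coprime_iff_not_dvd hp.out).2 fun h => ?_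
      rcases (Nat.Prime.dvd_mul hp.out).1 h with h | h
      · exact hpq (hp.out.dvd_of_dvd_pow h)
      · have h2 : p ∣ (q - 1) * (q + 1) := dvd_mul_of_dvd_left hq1 _
        rw [mul_comm, ← Nat.sq_sub_sq, one_pow] at h2
        have h3 := Nat.dvd_sub h h2
        have h4 : 1 ≤ q ^ 2 := Nat.one_le_pow _ _ Fintype.card_pos
        rw [show q ^ 2 + 1 - (q ^ 2 - 1) = 2 by omega] at h3
        exact hp2 ((Nat.prime_dvd_prime_iff_eq hp.out Nat.prime_two).1 h3)
    have h2 : p ^ n ∣ q - 1 := hcop.dvd_of_dvd_mul_left h1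
    have hcard : Nat.card th'.range = q - 1 := by
      rw [show Nat.card th'.range = Nat.card Fˣ from
        (Nat.card_congr (Equiv.ofInjective th' hinj)).symm, Nat.card_eq_fintype_card,
        Fintype.card_units]
    have h3 : Nat.card ((P : Subgroup Γ).map σ) ≤
        Nat.card ((R : Subgroup th'.range).map th'.range.subtype) := by
      rw [Subgroup.card_subtype, R.card_eq_multiplicity, hn, hcard]
      refine Nat.pow_le_pow_right hp.out.pos
        ((hp.out.pow_dvd_iff_le_factorization ?_).1 h2)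
      intro h0
      have := Fintype.one_lt_card (α := F)
      omega
    haveI : Finite (Cfsg.Sz F m) := inferInstance
    have heq := Subgroup.eq_of_le_of_card_ge hP h3
    haveI : IsCyclic ((P : Subgroup Γ).map σ) :=
      Subgroup.isCyclic_of_le (heq ▸ Subgroup.map_subtype_le _)
    exact ⟨P, Schur.commutator_inf_ker_eq_bot_of_isCyclic σ hz _⟩
  · obtain ⟨P⟩ : Nonempty (Sylow p Γ) := inferInstance
    refine ⟨P, ?_⟩
    suffices IsCyclic ((P : Subgroup Γ).map σ) from
      Schur.commutator_inf_ker_eq_bot_of_isCyclic σ hz _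
    have hQ : IsPGroup p ((P : Subgroup Γ).map σ) := P.2.map σ
    rcases subsingleton_or_nontrivial ((P : Subgroup Γ).map σ) with hQ1 | hQ1
    · infer_instance
    have hpdvd : p ∣ q ^ 2 + 1 := by
      obtain ⟨n, hn'⟩ := IsPGroup.iff_card.1 hQ
      have hn : n ≠ 0 := fun h0 => by
        rw [h0, pow_zero] at hn'
        exact (Finite.one_lt_card (α := (P : Subgroup Γ).map σ)).ne' hn'
      have h0 := Subgroup.card_subgroup_dvd_card ((P : Subgroup Γ).map σ)
      rw [hn'] at h0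
      have h1 : p ∣ Nat.card (Cfsg.Sz F m) := (dvd_pow_self p hn).trans h0
      rw [SZ.card_Sz hm hF] at h1
      rcases (Nat.Prime.dvd_mul hp.out).1 h1 with h | h
      · rcases (Nat.Prime.dvd_mul hp.out).1 h with h | h
        · exact absurd (hp.out.dvd_of_dvd_pow h) hpq
        · exact h
      · exact absurd h hq1
    have hd : ∀ d, 1 ≤ d → d ≤ 3 → ¬ p ∣ q ^ d - 1 := by
      intro d hd1 hd3 h
      have hqq : (q : ZMod p) ^ d = 1 := by
        have := (ZMod.natCast_eq_zero_iff _ p).2 h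
        rw [Nat.cast_sub (Nat.one_le_pow _ _ Fintype.card_pos), Nat.cast_pow, Nat.cast_one,
          sub_eq_zero] at this
        exact this
      have hm1 : (q : ZMod p) ^ 2 + 1 = 0 := by
        have := (ZMod.natCast_eq_zero_iff _ p).2 hpdvd
        push_cast at this
        exact this
      have h2 : (2 : ZMod p) ≠ 0 := fun e => hp2 ((Nat.prime_dvd_prime_iff_eq hp.out
        Nat.prime_two).1 ((ZMod.natCast_eq_zero_iff 2 p).1 (by exact_mod_cast e)))
      interval_cases d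
      · rw [pow_one] at hqq
        rw [hqq] at hm1
        exact h2 (by linear_combination hm1)
      · exact h2 (by linear_combination hm1 - hqq)
      · have hq' : (q : ZMod p) = -1 := by linear_combination (q : ZMod p) * hm1 - hqq
        rw [hq'] at hm1
        exact h2 (by linear_combination hm1)
    have hpF : (p : F) ≠ 0 := by
      haveI := SZ.charTwo hF
      rw [Ne, CharP.cast_eq_zero_iff F 2]
      exact fun h => hp2 ((Nat.prime_dvd_prime_iff_eq Nat.prime_two hp.out).1 h).symm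
    haveI := hQ.center_nontrivial
    have hcdvd : p ∣ Nat.card (Subgroup.center ((P : Subgroup Γ).map σ)) := by
      obtain ⟨n, hn⟩ := IsPGroup.iff_card.1 (hQ.to_subgroup
        (Subgroup.center ((P : Subgroup Γ).map σ)))
      rw [hn]
      refine dvd_pow_self p fun h0 => ?_
      rw [h0, pow_zero] at hn
      exact (Finite.one_lt_card (α := Subgroup.center ((P : Subgroup Γ).map σ))).ne' hn
    obtain ⟨x, hx⟩ := exists_prime_orderOf_dvd_card' p hcdvd
    let φ : ((P : Subgroup Γ).map σ) →* Matrix (Fin 4) (Fin 4) F :=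
      { toFun := fun g => g.1.1.1
        map_one' := rfl
        map_mul' := fun _ _ => rfl }
    have hφ : Function.Injective φ := fun g h e =>
      Subtype.ext (Subtype.ext (SZ.sl_ext e))
    refine SZ.isCyclic_of_commute_order hp.out hpF hd (A := φ x.1) ?_ ?_ φ hφ ?_
    · have hxp : x ^ p = 1 := by simpa [hx] using pow_orderOf_eq_one x
      rw [← map_pow, ← SubmonoidClass.coe_pow, hxp]
      exact map_one φ
    · intro h
      have : x = 1 := Subtype.ext (hφ (h.trans (map_one φ).symm))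
      rw [this, orderOf_one] at hx
      exact hp.out.ne_one hx.symm
    · intro g
      rw [← map_mul, ← map_mul, Subgroup.mem_center_iff.1 x.2 g]

/-- Schur multipliers of the Suzuki groups: for q = 2^(2m+1) with m ≥ 2 the Schur multiplier of Sz(q) is trivial (here the Schur multiplier is described through stem extensions, as in the definitions); q = 8 is exceptional. -/
theorem result {F : Type*} [Field F] [Fintype F] {m : ℕ} (hm : 2 ≤ m) (hF : Fintype.card F = 2 ^ (2 * m + 1)) : Cfsg.HasCyclicSchurMultiplier ↥(Cfsg.Lie.Sz F (2 ^ (m + 1))) 1 := by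
  have hm1 : 1 ≤ m := le_trans (by norm_num) hm
  let e := SZ.szEquiv hm1 hF
  haveI : Finite (Cfsg.Lie.Sz F (2 ^ (m + 1))) := Finite.of_equiv _ e.toEquiv
  refine Schur.hasCyclicSchurMultiplier_one fun Γ _ _ σ hσ => ?_
  obtain ⟨hsurj, hz, hc⟩ := hσ
  let τ : Γ →* Cfsg.Sz F m := e.symm.toMonoidHom.comp σ
  have hk : τ.ker = σ.ker := by
    ext y
    exact e.symm.map_eq_one_iff
  have hτ : Function.Surjective τ := e.symm.surjective.comp hsurj
  rw [← hk] at hz hc ⊢
  refine Schur.ker_eq_bot_of_sylow τ hz hc fun p hp => ?_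
  haveI := Fact.mk hp
  by_cases hp2 : p = 2
  · subst hp2
    obtain ⟨P, hP⟩ := Schur.exists_sylow_le_map τ hτ (SZ.uSylow hm1 hF).isPGroup'
    have hPU : (P : Subgroup Γ).map τ = SZ.uGrp hF :=
      (SZ.uSylow hm1 hF).is_maximal' (P.2.map τ) hP
    refine ⟨P, commutator_inf_ker_two hm hF τ hτ hz P P.2 fun x hx => ?_⟩
    have : τ x ∈ SZ.uGrp hF := hPU ▸ Subgroup.mem_map_of_mem τ hx
    obtain ⟨a, b, h⟩ := (SZ.mem_uGrp hF).1 this
    exact ⟨a, b, h.symm⟩
  · exact exists_sylow_odd hm1 hF τ hτ hz p hp2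

end Cfsg.Agent.S2111
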