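import Cfsg.Statements.S0303
import Cfsg.Agent.Lib.Forms.ExcCore
import Cfsg.Agent.Lib.Forms.ExcExt
import Cfsg.Agent.Lib.Forms.Klein
import Cfsg.Agent.Lib.Forms.HermCenter
import Cfsg.Agent.Lib.ClassicalSimple.UnitaryMatrix
-- import your own Cfsg.Agent.* helpers here

set_option autoImplicit false
set_option maxHeartbeats 4000000
open Cfsg

open scoped Matrix MatrixGroups

namespace Cfsg.Agent.S0303

/-- PΩ^-_6(q) is isomorphic to PSU_4(q). -/
theorem result {F K : Type*} [Field F] [Fintype F] [Field K] [Fintype K] {q : ℕ} (hF : Fintype.card F = q) (hK : Fintype.card K = q ^ 2) (a b : F) (hab : ∀ z₁ z₂ : F, z₁ ^ 2 + a * z₁ * z₂ + b * z₂ ^ 2 = 0 → z₁ = 0 ∧ z₂ = 0) : Nonempty (Cfsg.POmega F (Cfsg.quadFormMinus 2 F a b) ≃* Cfsg.PSU 4 K q) := by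
  classical
  obtain ⟨ι, ω, hfix, hσω, hωb, hbij, hfixed, hnorm⟩ := Forms.exists_quad_ext hF hK hab
  letI : Algebra F K := ι.toAlgebra
  set σ := Forms.qEnd hK with hσdef
  have hsm : ∀ (c : F) (k : K), c • k = ι c * k := fun c k => rfl
  have hσσ : ∀ k, σ (σ k) = k := Forms.qEnd_qEnd hK
  have hq : 1 < q := hF ▸ Fintype.one_lt_card
  rw [show quadFormMinus 2 F a b = ⇑(Forms.quadMinus 2 F a b) from (funext Forms.quadMinus_apply).symm]
  have hQ := Forms.quadMinus_nondegenerate 2 hab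
  have hD : ι a * ι a - 4 * ι b ≠ 0 := by
    rw [← map_ofNat ι 4, ← map_mul, ← map_mul, ← map_sub, Ne, map_eq_zero]
    intro h
    exact Forms.disc_ne_zero hab (by linear_combination -h)
  obtain ⟨rr, hrfix, hr⟩ : ∃ r : K, σ r = r ∧ (ι a * ι a - 4 * ι b) * r = 1 := by
    refine ⟨ι (a * a - 4 * b)⁻¹, hfix _, ?_⟩
    have e : ι (a * a - 4 * b) = ι a * ι a - 4 * ι b := by rw [map_sub, map_mul, map_mul, map_ofNat]
    rw [← e, map_inv₀, mul_inv_cancel₀ (e ▸ hD)]
  obtain ⟨d₀, d₁, hd00, hd01, hd10, hd11⟩ : ∃ d₀ d₁ : K, d₀ + σ d₀ = 1 ∧ ω * d₀ + σ (ω * d₀) = 0 ∧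
      d₁ + σ d₁ = 0 ∧ ω * d₁ + σ (ω * d₁) = 1 := by
    refine ⟨(ι a * ι a - 2 * ι b - ι a * ω) * rr, (2 * ω - ι a) * rr, ?_, ?_, ?_, ?_⟩ <;>
      simp only [map_sub, map_mul, map_ofNat, hfix, hσω, hrfix]
    · linear_combination hr
    · linear_combination (2 * rr * ι a) * hωb
    · ring
    · linear_combination hr - 4 * rr * hωb
  obtain ⟨α, β, cc, hu, hv, huv⟩ : ∃ α β cc : K, 1 + α * σ α = 0 ∧ cc * σ cc * (1 + β * σ β) = 0 ∧
      σ cc * (1 + α * σ β) = 1 := by
    have h1 : (-1 : K) ^ q = -1 := by rw [← Forms.qEnd_apply hK, map_neg, map_one]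
    have hN : ∀ x : K, x * σ x = x ^ (q + 1) := fun x => by rw [pow_succ', hσdef, Forms.qEnd_apply]
    haveI : Nontrivial {x : K // x ^ (q + 1) = -1} := Finite.one_lt_card_iff_nontrivial.1 (by
      rw [Forms.card_norm_fibre hK (neg_ne_zero.2 one_ne_zero) h1]; omega)
    obtain ⟨⟨α, hα⟩, ⟨β, hβ⟩, hne⟩ := exists_pair_ne {x : K // x ^ (q + 1) = -1}
    have hα' : α * σ α = -1 := (hN α).trans hα
    have hα0 : α ≠ 0 := fun h => by rw [h, zero_mul] at hα'; exact one_ne_zero (neg_eq_zero.1 hα'.symm)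
    have hn0 : 1 + α * σ β ≠ 0 := fun h => hne <| Subtype.ext <| σ.injective <| mul_left_cancel₀ hα0 <| by
      rw [hα']; linear_combination -h
    refine ⟨α, β, σ ((1 + α * σ β)⁻¹), by rw [hα', add_neg_cancel], ?_, ?_⟩
    · rw [(hN β).trans hβ, add_neg_cancel, mul_zero]
    · rw [hσσ, inv_mul_cancel₀ hn0]
  let fs : ((Fin 2 ⊕ Fin 2) ⊕ Fin 2 → F) → K := fun v => ι (v (.inl (.inl 0))) + ι (v (.inl (.inl 1))) * ω
  let ft : ((Fin 2 ⊕ Fin 2) ⊕ Fin 2 → F) → K := fun v =>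
    σ (ι (v (.inl (.inr 0))) * d₀ + ι (v (.inl (.inr 1))) * d₁)
  let fa : ((Fin 2 ⊕ Fin 2) ⊕ Fin 2 → F) → K := fun v => fs v + ft v * cc
  let fb : ((Fin 2 ⊕ Fin 2) ⊕ Fin 2 → F) → K := fun v => fs v * α + ft v * (cc * β)
  let fc : ((Fin 2 ⊕ Fin 2) ⊕ Fin 2 → F) → K := fun v => ι (v (.inr 0)) + ι (v (.inr 1)) * ω
  let mat : K → K → K → Matrix (Fin 4) (Fin 4) K := fun x y z => Forms.alt4 x y z (σ z) (-σ y) (σ x)
  have hmat : ∀ x y z x' y' z', mat (x + x') (y + y') (z + z') = mat x y z + mat x' y' z' := fun x y z x' y' z' => by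
    ext i j; fin_cases i <;> fin_cases j <;> simp [mat, Forms.alt4] <;> ring
  have hmats : ∀ (c : F) (x y z : K), mat (ι c * x) (ι c * y) (ι c * z) = c • mat x y z := fun c x y z => by
    ext i j; fin_cases i <;> fin_cases j <;> simp [mat, Forms.alt4, hsm, hfix]
  have hfa : ∀ u v, fa (u + v) = fa u + fa v ∧ fb (u + v) = fb u + fb v ∧ fc (u + v) = fc u + fc v := fun u v => by
    refine ⟨?_, ?_, ?_⟩ <;> simp [fa, fb, fc, fs, ft] <;> ring
  have hfs : ∀ (c : F) v, fa (c • v) = ι c * fa v ∧ fb (c • v) = ι c * fb v ∧ fc (c • v) = ι c * fc v := fun c v => by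
    refine ⟨?_, ?_, ?_⟩ <;> simp [fa, fb, fc, fs, ft, hfix] <;> ring
  let L : ((Fin 2 ⊕ Fin 2) ⊕ Fin 2 → F) →ₗ[F] Matrix (Fin 4) (Fin 4) K :=
    { toFun := fun v => mat (fa v) (fb v) (fc v)
      map_add' := fun u v => by rw [(hfa u v).1, (hfa u v).2.1, (hfa u v).2.2, hmat]
      map_smul' := fun c v => by rw [(hfs c v).1, (hfs c v).2.1, (hfs c v).2.2, hmats, RingHom.id_apply] }
  have hform : ∀ v, ι ((Forms.quadMinus 2 F a b) v) = Forms.pf (L v) := by
    intro v
    rw [Forms.quadMinus_apply]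
    have h00 : d₀ + σ d₀ = 1 := hd00
    show _ = Forms.pf (mat (fa v) (fb v) (fc v))
    have hc := hnorm (v (.inr 0)) (v (.inr 1))
    have e : Forms.pf (mat (fa v) (fb v) (fc v)) = fs v * σ (ft v) + ft v * σ (fs v) + fc v * σ (fc v) := by
      have hvu : cc * (1 + β * σ α) = 1 := by
        have h := congrArg σ huv
        rw [map_mul, map_add, map_mul, map_one, hσσ, hσσ] at h
        linear_combination h
      simp [Forms.pf, mat, Forms.alt4, fa, fb]
      linear_combination (fs v * σ (fs v)) * hu + (ft v * σ (ft v)) * hv + (fs v * σ (ft v)) * huv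
        + (ft v * σ (fs v)) * hvu
    rw [e, hc, show quadFormMinus 2 F a b v = (v (.inl (.inl 0)) * v (.inl (.inr 0))
        + v (.inl (.inl 1)) * v (.inl (.inr 1)))
        + (v (.inr 0) ^ 2 + a * v (.inr 0) * v (.inr 1) + b * v (.inr 1) ^ 2) by
      simp [quadFormMinus, Fin.sum_univ_two]]
    rw [map_add]
    congr 1
    simp only [fs, ft, map_add, map_mul, hfix, hσσ]
    rw [hσω]
    simp only [map_mul, hσω] at hd01 hd11
    linear_combination -(ι (v (.inl (.inl 0))) * ι (v (.inl (.inr 0)))) * hd00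
      - (ι (v (.inl (.inl 1))) * ι (v (.inl (.inr 0)))) * hd01
      - (ι (v (.inl (.inl 0))) * ι (v (.inl (.inr 1)))) * hd10
      - (ι (v (.inl (.inl 1))) * ι (v (.inl (.inr 1)))) * hd11
  have hL : Function.Injective L := by
    rw [injective_iff_map_eq_zero]
    intro v hv0
    have hq0 : Forms.quadMinus 2 F a b v = 0 := by
      apply ι.injective
      rw [hform, hv0]
      simp [Forms.pf]
    refine hQ.1 v fun w => ?_
    show Forms.quadMinus 2 F a b (v + w) - Forms.quadMinus 2 F a b v - Forms.quadMinus 2 F a b w = 0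
    rw [hq0, sub_zero, sub_eq_zero]
    apply ι.injective
    rw [hform, hform, map_add, hv0, zero_add]
  have hbij3 : Function.Bijective fun v => (fa v, fb v, fc v) := by
    refine (Fintype.bijective_iff_injective_and_card _).2 ⟨fun u v h => ?_, ?_⟩
    · simp only [Prod.mk.injEq] at h
      refine hL ?_
      show mat (fa u) (fb u) (fc u) = mat (fa v) (fb v) (fc v)
      rw [h.1, h.2.1, h.2.2]
    · simp [hF, hK]
      ring
  have hrange : ∀ M, Forms.IsAlt4 M → Forms.dual4 M = -(M.map σ) → ∃ v, M = L v := by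
    intro M hM hd
    obtain ⟨v, hv⟩ := hbij3.2 (M 0 1, M 0 2, M 0 3)
    simp only [Prod.mk.injEq] at hv
    refine ⟨v, ?_⟩
    show M = mat (fa v) (fb v) (fc v)
    rw [hv.1, hv.2.1, hv.2.2]
    have e1 : M 2 3 = σ (M 0 1) := by simpa [Forms.dual4, Forms.alt4] using congrFun (congrFun hd 0) 1
    have e2 : M 1 3 = -σ (M 0 2) := by simpa [Forms.dual4, Forms.alt4] using congrFun (congrFun hd 0) 2
    have e3 : M 1 2 = σ (M 0 3) := by simpa [Forms.dual4, Forms.alt4] using congrFun (congrFun hd 0) 3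
    conv_lhs => rw [hM.eq_alt4, e1, e2, e3]
  have halt : ∀ v, Forms.IsAlt4 (L v) := fun v => Forms.isAlt4_alt4 _ _ _ _ _ _
  have hdual : ∀ v, Forms.dual4 (L v) = -((L v).map σ) := fun v => by
    show Forms.dual4 (mat (fa v) (fb v) (fc v)) = -((mat (fa v) (fb v) (fc v)).map σ)
    generalize fa v = x, fb v = y, fc v = z
    ext i j
    fin_cases i <;> fin_cases j <;> simp [mat, Forms.dual4, Forms.alt4, hσσ]
  let G := Cfsg.SU 4 K q
  have hU : ∀ g : G, g.1.1ᵀ * g.1.1.map σ = 1 := fun g => by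
    ext i j
    have h : hermForm 4 K q (g.1.1 *ᵥ Pi.single i 1) (g.1.1 *ᵥ Pi.single j 1)
        = hermForm 4 K q (Pi.single i 1) (Pi.single j 1) := g.2 _ _
    simp [hermForm, Matrix.mul_apply, Pi.single_apply, hσdef, Forms.qEnd_apply, Matrix.one_apply,
      zero_pow (show q ≠ 0 by omega)] at h ⊢
    rw [h]
    simp only [eq_comm]
  let A : G →* Module.End F (Matrix (Fin 4) (Fin 4) K) :=
    (Forms.congrAction (F := F) (RingHom.id K)).comp (Matrix.SpecialLinearGroup.coeMonoidHom.comp G.subtype)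
  have hA : ∀ (g : G) M, A g M = g.1.1 * M * g.1.1ᵀ := fun g M =>
    (Forms.congrAction_apply (RingHom.id K) g.1.1 M).trans (by simp)
  obtain ⟨ψ, hψ⟩ := Forms.exists_isometry_hom ⇑(Forms.quadMinus 2 F a b) Forms.pf ι ι.injective L hL hform A
    (fun g v => by
      rw [hA]
      refine hrange _ ((halt v).conj _) ?_
      have h := (Forms.pf_dual_conj g.1 (halt v)).2
      rw [hdual v] at h
      have h1 := hU g
      have h2 : g.1.1.map σ * g.1.1ᵀ = 1 := mul_eq_one_comm.1 h1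
      have h3 : g.1.1 * (g.1.1.map σ)ᵀ = 1 := by
        simpa [Matrix.transpose_mul] using congrArg Matrix.transpose h2
      calc Forms.dual4 (g.1.1 * L v * g.1.1ᵀ)
          = (g.1.1.map σ * g.1.1ᵀ) * Forms.dual4 (g.1.1 * L v * g.1.1ᵀ) * (g.1.1 * (g.1.1.map σ)ᵀ) := by
            rw [h2, h3, one_mul, mul_one]
        _ = g.1.1.map σ * (g.1.1ᵀ * Forms.dual4 (g.1.1 * L v * g.1.1ᵀ) * g.1.1) * (g.1.1.map σ)ᵀ := by
            simp only [mul_assoc]
        _ = _ := by
            rw [h, Matrix.map_mul, Matrix.map_mul, ← Matrix.transpose_map, mul_neg, neg_mul])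
    (fun g v => by rw [hA]; exact (Forms.pf_dual_conj g.1 (halt v)).1)
  have hperf : commutator G = ⊤ := ClassicalSimple.SU_perfect hK (by norm_num) (by norm_num)
  obtain ⟨l, hl, hl1⟩ : ∃ l : K, l ^ (q + 1) = 1 ∧ l ≠ 1 := by
    haveI : Nontrivial {x : K // x ^ (q + 1) = 1} := Finite.one_lt_card_iff_nontrivial.1 (by
      rw [Forms.card_norm_fibre hK one_ne_zero (one_pow q)]; omega)
    obtain ⟨x, hx⟩ := exists_ne (⟨1, one_pow _⟩ : {x : K // x ^ (q + 1) = 1})
    exact ⟨x.1, x.2, fun h => hx (Subtype.ext h)⟩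
  have hl0 : l ≠ 0 := fun h => by rw [h, zero_pow (Nat.succ_ne_zero q)] at hl; exact zero_ne_one hl
  have hker : ψ.ker ≤ Subgroup.center G := by
    refine (ClassicalSimple.SU_normal_eq_top_or_le_center hK (by norm_num) (by norm_num) ψ.ker).resolve_left fun h => ?_
    let g0 : Matrix.SpecialLinearGroup (Fin 4) K :=
      ⟨Matrix.diagonal ![l, l⁻¹, 1, 1], by simp [Matrix.det_diagonal, Fin.prod_univ_four, hl0]⟩
    have hg0 : g0 ∈ G := Forms.mem_SU_of_diagonal (F := K) (q := q) (n := 4) (d := ![l, l⁻¹, 1, 1]) hK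
      (fun i => by fin_cases i <;> simp [inv_pow, hl]) g0 rfl
    obtain ⟨v, hv⟩ := hbij3.2 (0, 1, 0)
    simp only [Prod.mk.injEq] at hv
    have h1 := Forms.apply_eq_of_mem_ker hψ (h.ge (Subgroup.mem_top (⟨g0, hg0⟩ : G))) v
    rw [hA] at h1
    have h2 := congrFun (congrFun h1 0) 2
    simp [L, mat, hv.1, hv.2.1, hv.2.2, g0, Forms.alt4, Matrix.mul_apply, Fin.sum_univ_four] at h2
    exact hl1 h2
  have hscal : ∀ g ∈ ψ.ker, g.1.1 = g.1.1 0 0 • (1 : Matrix (Fin 4) (Fin 4) K) ∧ g.1.1 0 0 * g.1.1 0 0 = 1 := by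
    intro g hg
    have hdg := Forms.center_SU_diagonal hK g (hker hg)
    have hsc : g.1.1 = g.1.1 0 0 • (1 : Matrix (Fin 4) (Fin 4) K) := by
      ext i j
      rcases eq_or_ne i j with rfl | hij
      · rcases eq_or_ne i 0 with rfl | h0
        · simp
        · simpa using (hdg i 0 h0).2
      · simpa [hij] using (hdg i j hij).1
    obtain ⟨v, hv⟩ := hbij3.2 (1, 0, 0)
    simp only [Prod.mk.injEq] at hv
    have h1 := Forms.apply_eq_of_mem_ker hψ hg v
    rw [hA] at h1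
    generalize g.1.1 0 0 = c at hsc ⊢
    refine ⟨hsc, ?_⟩
    rw [hsc] at h1
    simpa [L, mat, hv.1, hv.2.1, hv.2.2, Forms.alt4, smul_smul] using congrFun (congrFun h1 0) 1
  have hsq : Nat.card {c : K // c * c = 1} = Nat.card {c : F // c * c = 1} :=
    (Nat.card_congr (Equiv.ofBijective
      (fun c : {c : F // c * c = 1} => (⟨ι c.1, by rw [← map_mul, c.2, map_one]⟩ : {c : K // c * c = 1}))
      ⟨fun c d h => Subtype.ext (ι.injective (congrArg Subtype.val h)), fun c => by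
        rcases mul_self_eq_one_iff.1 c.2 with h | h
        · exact ⟨⟨1, one_mul 1⟩, Subtype.ext (by simp [h])⟩
        · exact ⟨⟨-1, by simp⟩, Subtype.ext (by simp [h])⟩⟩)).symm
  have hO : Nat.card (isometryGroup F ⇑(Forms.quadMinus 2 F a b)) = 2 * Nat.card G := by
    refine Nat.eq_of_mul_eq_mul_left (Nat.succ_pos q) ?_
    rw [mul_left_comm, Forms.card_SU_mul hK (by norm_num), Forms.card_GU hK,
      Nat.card_congr (Forms.isometryGroupEquivQ (Forms.quadMinus 2 F a b) fun _ => rfl).toEquiv,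
      Forms.card_isomQ_quadMinus 2 hab, hF]
    simp [Finset.prod_range_succ, Nat.even_iff]
    ring
  exact Forms.nonempty_equiv_commutator_quotient (S := G) (k := Nat.card {c : F // c * c = 1}) ψ
    (Forms.range_le_commutator_of_perfect ψ hperf) hker
    (hsq ▸ Forms.card_le_sq_one _ (fun g => g.1.1 0 0)
      (fun u hu v hv e => Subtype.ext (Subtype.ext (by rw [(hscal u hu).1, (hscal v hv).1]; exact congrArg (· • _) e)))
      (fun g hg => (hscal g hg).2))
    (Forms.omega_index_two_mul _ hQ (by simp) (Or.inr (by simp))) (by rw [hO]; ring)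
    (Forms.center_quotient_eq_bot_of_perfect hperf)

end Cfsg.Agent.S0303
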