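import Cfsg.Statements.S0246
import Mathlib
import Cfsg.Agent.Lib.ClassicalSimple.SympMatrix

set_option autoImplicit false
open Cfsg

namespace Cfsg.Agent.S0246

open Matrix ClassicalSimple

theorem scalar_of_central {F : Type*} [Field F] {m : ℕ} (hm : 1 ≤ m)
    (g : Matrix.symplecticGroup (Fin m) F)
    (hg : g ∈ Subgroup.center (Matrix.symplecticGroup (Fin m) F)) :
    ∃ c : F, c * c = 1 ∧ (g : Matrix (Fin m ⊕ Fin m) (Fin m ⊕ Fin m) F) = c • 1 := by
  classical
  haveI : Nontrivial (Fin m ⊕ Fin m → F) := nontrivial_symplectic_space hm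
  have hline : ∀ v : Fin m ⊕ Fin m → F, ∃ c : F, g.1 *ᵥ v = c • v := by
    intro v
    rcases eq_or_ne v 0 with rfl | hv
    · exact ⟨0, by simp⟩
    obtain ⟨x, hx⟩ : ∃ x, sympBilin m F x v ≠ 0 := by
      by_contra hh
      push_neg at hh
      exact hv (sympBilin_nondegenerate.2 v hh)
    have h := congrArg (fun M : Matrix.symplecticGroup (Fin m) F => M.1 *ᵥ x)
      (Subgroup.mem_center_iff.1 hg (sympTransvectionElt v 1))
    simp only [Submonoid.coe_mul, ← Matrix.mulVec_mulVec] at h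
    change sympTransvection m v 1 *ᵥ (g.1 *ᵥ x) = g.1 *ᵥ (sympTransvection m v 1 *ᵥ x) at h
    rw [sympTransvection_mulVec, sympTransvection_mulVec, Matrix.mulVec_add, Matrix.mulVec_smul,
      one_mul, one_mul, add_right_inj] at h
    refine ⟨(sympBilin m F x v)⁻¹ * sympBilin m F (g.1 *ᵥ x) v, ?_⟩
    rw [← smul_smul, h, smul_smul, inv_mul_cancel₀ hx, one_smul]
  choose c hc using hline
  obtain ⟨v₀, hv₀⟩ := exists_ne (0 : Fin m ⊕ Fin m → F)
  have hall : ∀ v, g.1 *ᵥ v = c v₀ • v := by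
    intro v
    rcases eq_or_ne v 0 with rfl | hv
    · simp
    by_cases hli : ∃ a : F, v = a • v₀
    · obtain ⟨a, rfl⟩ := hli
      rw [Matrix.mulVec_smul, hc v₀, smul_comm]
    · have h := hc (v₀ + v)
      rw [Matrix.mulVec_add, hc v₀, hc v, smul_add] at h
      have hne : c v = c (v₀ + v) := by
        by_contra hne
        apply hli
        refine ⟨(c (v₀ + v) - c v)⁻¹ * (c v₀ - c (v₀ + v)), ?_⟩
        have hz : (c (v₀ + v) - c v) • v = (c v₀ - c (v₀ + v)) • v₀ := by
          rw [sub_smul, sub_smul, sub_eq_sub_iff_add_eq_add, ← add_comm (c v • v), add_comm (c v • v)]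
          exact (add_comm _ _).trans h.symm
        rw [← smul_smul, ← hz, smul_smul, inv_mul_cancel₀ (sub_ne_zero.2 (Ne.symm hne)), one_smul]
      rw [hc v, hne]
      have hz : (c v₀ - c (v₀ + v)) • v₀ = 0 := by
        rw [hne, add_left_inj] at h
        rw [sub_smul, h, sub_self]
      rcases smul_eq_zero.1 hz with h1 | h1
      · rw [sub_eq_zero.1 h1]
      · exact absurd h1 hv₀
  refine ⟨c v₀, ?_, ?_⟩
  · obtain ⟨x, hx⟩ : ∃ x, sympBilin m F x v₀ ≠ 0 := by
      by_contra hh
      push_neg at hh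
      exact hv₀ (sympBilin_nondegenerate.2 v₀ hh)
    have h := mem_symplecticGroup_iff_form.1 g.2 x v₀
    rw [hall, hall] at h
    simp only [map_smul, LinearMap.smul_apply, smul_eq_mul, ← mul_assoc] at h
    exact mul_right_cancel₀ hx (by rw [h, one_mul])
  · refine Matrix.ext_iff_mulVec.2 fun v => ?_
    rw [hall, Matrix.smul_mulVec, Matrix.one_mulVec]

/-- The centre of Sp_{2m}(q), m at least 1, is {1, -1}: it has order gcd(2, q-1). -/
theorem result {F : Type*} [Field F] [Fintype F] {q : ℕ} (hF : Fintype.card F = q) (m : ℕ) (hm : 1 ≤ m) : Nat.card (Subgroup.center (Matrix.symplecticGroup (Fin m) F)) = Nat.gcd 2 (q - 1) := by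
  classical
  haveI : Nonempty (Fin m ⊕ Fin m) := ⟨.inl ⟨0, hm⟩⟩
  have hmem : ∀ c : F, c * c = 1 →
      c • (1 : Matrix (Fin m ⊕ Fin m) (Fin m ⊕ Fin m) F) ∈ Matrix.symplecticGroup (Fin m) F := by
    intro c hc
    refine ClassicalSimple.mem_symplecticGroup_iff_form.2 fun u v => ?_
    simp only [Matrix.smul_mulVec, Matrix.one_mulVec, map_smul, LinearMap.smul_apply, smul_eq_mul]
    rw [← mul_assoc, hc, one_mul]
  let e : {c : F // c * c = 1} → Subgroup.center (Matrix.symplecticGroup (Fin m) F) := fun c =>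
    ⟨⟨c.1 • 1, hmem c.1 c.2⟩, Subgroup.mem_center_iff.2 fun A => Subtype.ext (by
      show A.1 * (c.1 • 1) = (c.1 • 1) * A.1
      rw [Matrix.mul_smul, Matrix.smul_mul, Matrix.mul_one, Matrix.one_mul])⟩
  have hbij : Function.Bijective e := by
    refine ⟨fun a b h => Subtype.ext ?_, fun g => ?_⟩
    · have h1 := congrArg (fun w : Subgroup.center (Matrix.symplecticGroup (Fin m) F) =>
        (w.1.1 : Matrix (Fin m ⊕ Fin m) (Fin m ⊕ Fin m) F) (.inl ⟨0, hm⟩) (.inl ⟨0, hm⟩)) h
      simpa [e] using h1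
    · obtain ⟨c, hc, hg⟩ := scalar_of_central hm g.1 g.2
      exact ⟨⟨c, hc⟩, Subtype.ext (Subtype.ext hg.symm)⟩
  rw [← Nat.card_congr (Equiv.ofBijective e hbij), Nat.card_eq_fintype_card, Fintype.card_subtype]
  have hset : (Finset.univ.filter fun c : F => c * c = 1) = {1, -1} := by
    ext c
    simp [mul_self_eq_one_iff]
  rw [hset]
  subst hF
  by_cases h2 : ringChar F = 2
  · haveI : CharP F 2 := h2 ▸ ringChar.charP F
    have heven : Even (Fintype.card F) := Nat.even_iff.2 (FiniteField.even_card_of_char_two h2)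
    have hpos : 0 < Fintype.card F := Fintype.card_pos
    rw [CharTwo.neg_eq, Finset.pair_eq_singleton, Finset.card_singleton]
    obtain ⟨r, hr⟩ := heven
    exact (Nat.coprime_two_left.2 (⟨r - 1, by omega⟩ : Odd (Fintype.card F - 1)) : Nat.Coprime 2 (Fintype.card F - 1)).gcd_eq_one.symm
  · have hodd := FiniteField.odd_card_of_char_ne_two h2
    have hne : (1 : F) ≠ -1 := fun h => Ring.neg_one_ne_one_of_char_ne_two h2 h.symm
    rw [Finset.card_pair hne]
    exact (Nat.gcd_eq_left (by omega)).symm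

end Cfsg.Agent.S0246
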