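import Cfsg.Statements.S0822
import Cfsg.Agent.Lib.Forms.SmallPSU4
import Cfsg.Agent.S0246
import Cfsg.Agent.S0270
import Cfsg.Agent.S0280
import Cfsg.Agent.S0283

set_option autoImplicit false
open Cfsg

namespace Cfsg.Agent.S0822

/-- PSU_4(2) ≅ PSp_4(3): with |F| = 4 and |K| = 3, the projective special unitary group of the standard Hermitian form on F^4 is isomorphic to PSp_4(K). -/
theorem result {F K : Type*} [Field F] [Fintype F] [Field K] [Fintype K] (hF : Fintype.card F = 4) (hK : Fintype.card K = 3) : Nonempty (Cfsg.PSU 4 F 2 ≃* Cfsg.PSp 2 K) := by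
  have hF' : Fintype.card F = 2 ^ 2 := hF
  have hSp := Forms.card_symplecticGroup (F := K) 2
  rw [hK] at hSp
  simp only [Finset.prod_range_succ, Finset.prod_range_zero] at hSp
  norm_num at hSp
  rw [Subgroup.card_eq_card_quotient_mul_card_subgroup
    (Subgroup.center (Matrix.symplecticGroup (Fin 2) K)), S0246.result hK 2 (by norm_num)] at hSp
  have hU := S0280.result hF' 4 (by norm_num)
  simp only [Finset.prod_range_succ, Finset.prod_range_zero] at hU
  norm_num [Nat.even_iff] at hU
  norm_num at hSp
  refine Forms.SmallPSU4.nonempty_iso hF hK (S0283.result hF' 4 (by norm_num) (by norm_num))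
    (S0270.result 2 le_rfl (fun _ => by omega)) ?_ (fun g hg => S0246.scalar_of_central (by norm_num) g hg)
  simp only [Cfsg.PSp] at hSp ⊢
  omega

end Cfsg.Agent.S0822
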