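import Cfsg.Statements.S5379
import Cfsg.Agent.Lib.SuzType.Main
import Cfsg.Agent.Lib.Forms.OmegaTwoClasses
import Cfsg.Agent.Lib.Forms.QuadOrder
-- import your own Cfsg.Agent.* helpers here

set_option autoImplicit false
open Cfsg

namespace Cfsg.Agent.S5379

theorem hab : ∀ z₁ z₂ : ZMod 2, z₁ ^ 2 + 1 * z₁ * z₂ + 1 * z₂ ^ 2 = 0 → z₁ = 0 ∧ z₂ = 0 := by
  decide

theorem card_omega : Nat.card (Omega (ZMod 2) (quadFormMinus 2 (ZMod 2) 1 1)) = 25920 := by
  classical
  have hf : quadFormMinus 2 (ZMod 2) 1 1 = ⇑(Forms.quadMinus 2 (ZMod 2) (1 : ZMod 2) 1) :=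
    funext fun v => (Forms.quadMinus_apply (F := ZMod 2) v).symm
  obtain ⟨hiff, hpar⟩ := Forms.OmegaTwoClasses.omega_criteria _ _ hf
    (Forms.quadMinus_nondegenerate 2 hab) (Or.inr (by simp))
  obtain ⟨c, -, hc⟩ := Forms.OmegaTwoClasses.exists_refl2 (n := 2) hab
  set O := Omega (ZMod 2) (quadFormMinus 2 (ZMod 2) 1 1)
  have hcn : c ∉ O := by rw [hiff, hc]; exact Nat.not_even_one
  have hidx : O.index = 2 := by
    refine Subgroup.index_eq_two_iff.mpr ⟨c, fun b => ?_⟩
    by_cases hb : b ∈ O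
    · exact Or.inr ⟨hb, fun hbc => hcn ((O.mul_mem_cancel_left hb).mp hbc)⟩
    · exact Or.inl ⟨hpar b c hb hcn, hb⟩
  have h1 := O.card_mul_index
  have h2 : Nat.card ↥(isometryGroup (ZMod 2) (quadFormMinus 2 (ZMod 2) 1 1)) = 51840 := by
    rw [Forms.card_isometryGroup _ Forms.quadMinus_apply, Forms.card_isomQ_quadMinus 2 hab, ZMod.card]
    norm_num [Finset.prod_range_succ]
  rw [hidx, h2] at h1
  omega

theorem three_involutions {a b c : Omega (ZMod 2) (quadFormMinus 2 (ZMod 2) 1 1)}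
    (ha : orderOf a = 2) (hb : orderOf b = 2) (hc : orderOf c = 2) :
    IsConj a b ∨ IsConj a c ∨ IsConj b c := by
  classical
  set K := {C : ConjClasses ↥(Omega (ZMod 2) (quadFormMinus 2 (ZMod 2) 1 1)) //
    ∃ g, ConjClasses.mk g = C ∧ orderOf g = 2}
  have h2 : Nat.card K = 2 :=
    Forms.OmegaTwoClasses.card_omega_minus (n := 2) hab (Or.inr (by norm_num))
  by_contra hno
  push Not at hno
  let f : Fin 3 → K := ![⟨_, a, rfl, ha⟩, ⟨_, b, rfl, hb⟩, ⟨_, c, rfl, hc⟩]
  have key : ∀ {p q : ↥(Omega (ZMod 2) (quadFormMinus 2 (ZMod 2) 1 1))},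
      ConjClasses.mk p = ConjClasses.mk q → IsConj p q := fun h =>
    ConjClasses.mk_eq_mk_iff_isConj.1 h
  obtain ⟨n1, n2, n3⟩ := hno
  have hf : Function.Injective f := by
    intro i j e
    have e' := congrArg Subtype.val e
    fin_cases i <;> fin_cases j
    · rfl
    · exact absurd (key e') n1
    · exact absurd (key e') n2
    · exact absurd (key e').symm n1
    · rfl
    · exact absurd (key e') n3
    · exact absurd (key e').symm n2
    · exact absurd (key e').symm n3
    · rfl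
  have := Nat.card_le_card_of_injective f hf
  simp [h2] at this

/-- Let G be a finite group of Suzuki sporadic type: it has an involution z whose centralizer C has generalized Fitting subgroup Q extraspecial of order 2^7 with C/Q isomorphic to the commutator subgroup of the isometry group of the elliptic quadratic form in dimension 6 over the field with two elements, and some conjugate of z other than z lies in Q. Then G has exactly two conjugacy classes of involutions. -/
theorem result {G : Type*} [Group G] [Finite G] (z : G) (hz : orderOf z = 2) (Q : Subgroup (Subgroup.centralizer ({z} : Set G))) [Q.Normal] (hF : Cfsg.generalizedFittingSubgroup (Subgroup.centralizer ({z} : Set G)) = Q) (hQ : Cfsg.IsExtraspecial 2 Q) (hcard : Nat.card Q = 2 ^ 7) (e : (Subgroup.centralizer ({z} : Set G)) ⧸ Q ≃* Cfsg.Omega (ZMod 2) (Cfsg.quadFormMinus 2 (ZMod 2) 1 1)) (hnwc : ∃ g : G, (∃ hq : g * z * g⁻¹ ∈ Subgroup.centralizer ({z} : Set G), (⟨g * z * g⁻¹, hq⟩ : Subgroup.centralizer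 ({z} : Set G)) ∈ Q) ∧ g * z * g⁻¹ ≠ z) : ∃ a b : G, orderOf a = 2 ∧ orderOf b = 2 ∧ ¬ IsConj a b ∧ ∀ x : G, orderOf x = 2 → IsConj x a ∨ IsConj x b := by
  classical
  let P : Subgroup G := Q.map (Subgroup.centralizer ({z} : Set G)).subtype
  have hle : P ≤ Subgroup.centralizer ({z} : Set G) := Subgroup.map_subtype_le _
  obtain ⟨hub, -, -⟩ := LargeExtraspecial.Hub.of_setting (Q := P) hz hle (by rw [hF])
    (TI.isExtraspecial_congr (Q.equivMapOfInjective _ (Subgroup.subtype_injective _)) hQ)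
  have hmem : ∀ {x : Subgroup.centralizer ({z} : Set G)}, (x : G) ∈ P ↔ x ∈ Q := fun {x} =>
    Subgroup.mem_map_iff_mem (Subgroup.subtype_injective _)
  obtain ⟨g, ⟨hq, hgQ⟩, hgz⟩ := hnwc
  have d : SuzType.Data z P := by
    refine ⟨hub, hle, ?_, ?_, ⟨g, hmem.mpr hgQ, hgz⟩, ?_⟩
    · rw [Subgroup.card_map_of_injective (Subgroup.subtype_injective _), hcard]; norm_num
    · rw [Subgroup.card_eq_card_quotient_mul_card_subgroup Q, Nat.card_congr e.toEquiv, card_omega,
        hcard]; norm_num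
    · intro a b c ha hb hc
      have cv : ∀ {x : G}, Commute x z ∧ x ∉ P ∧ x * x ∈ P → ∃ x' : Subgroup.centralizer ({z} : Set G), (x' : G) = x ∧
          orderOf (e (x' : _ ⧸ Q)) = 2 := by
        rintro x ⟨h1, h2, h3⟩
        refine ⟨⟨x, SuzType.mem_cz.mpr h1⟩, rfl, ?_⟩
        rw [e.orderOf_eq]
        refine orderOf_eq_prime ?_ fun h => h2 (hmem.mpr ((QuotientGroup.eq_one_iff _).mp h))
        rw [pow_two, ← QuotientGroup.mk_mul, QuotientGroup.eq_one_iff]
        exact hmem.mp h3
      obtain ⟨a', rfl, ha'⟩ := cv ha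
      obtain ⟨b', rfl, hb'⟩ := cv hb
      obtain ⟨c', rfl, hc'⟩ := cv hc
      have back : ∀ {x y : Subgroup.centralizer ({z} : Set G)},
          IsConj (e (x : _ ⧸ Q)) (e (y : _ ⧸ Q)) →
          ∃ g, Commute g z ∧ g * (x : G) * g⁻¹ * (y : G)⁻¹ ∈ P := by
        intro x y h
        obtain ⟨w, hw⟩ := isConj_iff.mp h
        obtain ⟨k, hk⟩ := QuotientGroup.mk_surjective (e.symm w)
        refine ⟨k, SuzType.mem_cz.mp k.2, ?_⟩
        have : k * x * k⁻¹ * y⁻¹ ∈ Q := by
          rw [← QuotientGroup.eq_one_iff, QuotientGroup.mk_mul, QuotientGroup.mk_mul,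
            QuotientGroup.mk_mul, QuotientGroup.mk_inv, QuotientGroup.mk_inv, hk]
          apply e.injective
          rw [map_mul, map_mul, map_mul, map_inv, map_inv, map_one, e.apply_symm_apply, hw,
            mul_inv_cancel]
        exact hmem.mpr this
      rcases three_involutions ha' hb' hc' with h | h | h
      exacts [Or.inl (back h), Or.inr (Or.inl (back h)), Or.inr (Or.inr (back h))]
  obtain ⟨u, hu2, hu1, hnc, hall⟩ := d.two_classes
  refine ⟨z, u, hz, orderOf_eq_prime (by rw [pow_two]; exact hu2) hu1, hnc, fun x hx => ?_⟩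
  exact hall x (by rw [← pow_two, ← hx, pow_orderOf_eq_one]) fun h => by
    rw [h, orderOf_one] at hx; omega

end Cfsg.Agent.S5379
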