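import Cfsg.Statements.S5395
import Mathlib
import Cfsg.Agent.Lib.PGroup.Extraspecial

set_option autoImplicit false
open Cfsg

namespace Cfsg.Agent.S5395

open scoped commutatorElement
open Cfsg.Agent.PGroup

/-- For a finite extraspecial 2-group E, an automorphism of E that induces the identity on E modulo its centre is inner (so these automorphisms form exactly the inner automorphism group, an elementary abelian 2-group of order |E|/2). -/
theorem result {E : Type*} [Group E] [Finite E] (hE : Cfsg.IsExtraspecial 2 E) (φ : E ≃* E) (hφ : ∀ x : E, φ x * x⁻¹ ∈ Subgroup.center E) : ∃ g : E, ∀ x : E, φ x = g * x * g⁻¹ := by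
  have : Fact (Nat.Prime 2) := ⟨Nat.prime_two⟩
  set Z := Subgroup.center E with hZdef
  have hZ2 : ∀ z ∈ Z, z * z = 1 := fun z hz => by rw [← pow_two]; exact special_center_pow hE.1 hz
  have hcentral : ∀ z ∈ Z, ∀ x, x * z = z * x := fun z hz x => Subgroup.mem_center_iff.mp hz x
  let ζ : E →* Z := MonoidHom.mk' (fun x => ⟨φ x * x⁻¹, hφ x⟩) (fun x y => by
    apply Subtype.ext
    show φ (x * y) * (x * y)⁻¹ = φ x * x⁻¹ * (φ y * y⁻¹)
    rw [map_mul, _root_.mul_inv_rev]
    calc φ x * φ y * (y⁻¹ * x⁻¹) = φ x * ((φ y * y⁻¹) * x⁻¹) := by group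
      _ = φ x * x⁻¹ * (φ y * y⁻¹) := by rw [← hcentral _ (hφ y) x⁻¹]; group)
  have hζ : ∀ x, φ x = (ζ x : E) * x := fun x => by simp [ζ]
  by_cases h1 : ∀ x, ζ x = 1
  · exact ⟨1, fun x => by rw [hζ, h1]; simp⟩
  set H := ζ.ker
  have hker : Z ≤ H := by
    show Subgroup.center E ≤ H
    rw [← hE.1.2.2]
    rw [commutator_def, Subgroup.commutator_le]
    intro a _ c _
    show ζ ⁅a, c⁆ = 1
    rw [map_commutatorElement, commutatorElement_eq_one_iff_mul_comm]
    exact Subtype.ext (hcentral _ (ζ c).2 _)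
  have hcardZ : Nat.card Z = 2 := hE.2
  have : Fact (Nat.card Z).Prime := ⟨hcardZ.symm ▸ Nat.prime_two⟩
  have hrange : ζ.range = ⊤ := by
    refine (Subgroup.eq_bot_or_eq_top_of_prime_card ζ.range).resolve_left (fun hb => h1 fun x => ?_)
    have : ζ x ∈ ζ.range := ⟨x, rfl⟩
    rwa [hb, Subgroup.mem_bot] at this
  have hidx : H.index = 2 := by
    rw [Subgroup.index_ker, hrange, Subgroup.card_top, hcardZ]
  have hcard := extraspecial_card_mul_card_centralizer hE hker
  have hEc := Subgroup.card_mul_index H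
  rw [hidx] at hEc
  have hC : Nat.card (Subgroup.centralizer (H : Set E)) = 4 := by
    have hpos : 0 < Nat.card H := Nat.card_pos
    rw [← hEc] at hcard
    nlinarith
  obtain ⟨g, hg, hgZ⟩ : ∃ g ∈ Subgroup.centralizer (H : Set E), g ∉ Z := by
    by_contra hcon
    push Not at hcon
    have := Subgroup.card_le_of_le (show Subgroup.centralizer (H : Set E) ≤ Z from hcon)
    omega
  refine ⟨g, fun x => ?_⟩
  have hval : ∀ z ∈ Z, z = 1 ∨ ∀ z' ∈ Z, z' = 1 ∨ z' = z := by
    intro z hz
    by_cases h : z = 1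
    · exact Or.inl h
    refine Or.inr fun z' hz' => ?_
    classical
    by_contra hcon
    push Not at hcon
    have : ({1, ⟨z, hz⟩, ⟨z', hz'⟩} : Finset Z).card ≤ Nat.card Z := by
      have := Fintype.ofFinite Z
      rw [Nat.card_eq_fintype_card]; exact Finset.card_le_univ _
    rw [Finset.card_eq_three.mpr ⟨1, ⟨z, hz⟩, ⟨z', hz'⟩, fun e => h (congrArg Subtype.val e).symm,
      fun e => hcon.1 (congrArg Subtype.val e).symm, fun e => hcon.2 (congrArg Subtype.val e).symm, rfl⟩,
      hcardZ] at this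
    omega
  have hgx : g * x * g⁻¹ = ⁅g, x⁆ * x := by rw [commutatorElement_def]; group
  rw [hζ, hgx]
  congr 1
  have hcg : ⁅g, x⁆ ∈ Z := special_commutator_mem_center hE.1 g x
  by_cases hx : x ∈ H
  · rw [MonoidHom.mem_ker.mp hx]
    exact (commutatorElement_eq_one_iff_mul_comm.mpr (Subgroup.mem_centralizer_iff.mp hg x hx).symm).symm
  · rcases hval _ hcg with hone | hval'
    · exfalso
      apply hgZ
      rw [hZdef, Subgroup.mem_center_iff]
      intro y
      have hgx' : g * x = x * g := commutatorElement_eq_one_iff_mul_comm.mp hone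
      by_cases hy : y ∈ H
      · exact Subgroup.mem_centralizer_iff.mp hg y hy
      · have hyx : x⁻¹ * y ∈ H :=
          (Subgroup.mul_mem_iff_of_index_two hidx).mpr ⟨fun h => absurd ((inv_mem_iff).mp h) hx,
            fun h => absurd h hy⟩
        have := Subgroup.mem_centralizer_iff.mp hg _ hyx
        calc y * g = x * ((x⁻¹ * y) * g) := by group
          _ = x * (g * (x⁻¹ * y)) := by rw [this]
          _ = (x * g) * x⁻¹ * y := by group
          _ = g * y := by rw [← hgx']; group
    · rcases hval' _ (ζ x).2 with h | h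
      · exact absurd (MonoidHom.mem_ker.mpr (Subtype.ext h)) hx
      · exact h

end Cfsg.Agent.S5395
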