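import Cfsg.Statements.S1714
import Cfsg.Agent.Lib.Transpos.M23RecogStart
import Cfsg.Agent.Lib.Presented.Fi22Type
import Cfsg.Agent.Lib.Transpos.TypeTransfer
import Cfsg.Agent.Lib.Transpos.M22Simple
import Cfsg.Agent.Lib.Transpos.M22Cent
import Cfsg.Agent.Lib.Transpos.M23Count

set_option autoImplicit false
open Cfsg

namespace Cfsg.Agent.S1714

open Cfsg.Agent.Transpos Cfsg.Agent.Presented

universe u

/-- A member of a group of type M(22) with connected graph has the centraliser required of `d'`. -/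
theorem exists_member {Q : Type u} [Group Q] [Finite Q] {E : Set Q} (hE : IsThreeTranspositionClass E)
    (h22 : IsOfTypeM22 Q E) [IsSimpleGroup Q] :
    ∃ a : Q, orderOf a = 2 ∧ IsQuasisimple (Subgroup.centralizer ({a} : Set Q)) ∧
      (∃ (K : Type) (_ : Field K) (_ : Fintype K), Fintype.card K = 4 ∧
        ∃ _ : ((Subgroup.zpowers a).subgroupOf (Subgroup.centralizer ({a} : Set Q))).Normal,
          Nonempty (↥(Subgroup.centralizer ({a} : Set Q)) ⧸
            (Subgroup.zpowers a).subgroupOf (Subgroup.centralizer ({a} : Set Q)) ≃* PSU 6 K 2)) ∧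
      ∃ g, g * a * g⁻¹ ∈ Subgroup.centralizer ({a} : Set Q) ∧ g * a * g⁻¹ ≠ a := by
  classical
  haveI : Nonempty E := ⟨⟨hE.2.1.choose, hE.2.1.choose_spec.1⟩⟩
  have hD := three_group_of_class hE
  have H := M22.of_type hD h22 (conn_of_simple hE h22)
  obtain ⟨⟨a, ha⟩⟩ := ‹Nonempty E›
  obtain ⟨F, iF, iFt, hF, he⟩ := exists_quot_iso hD H.primitive h22
  have key : ∀ S : Subgroup Q, S = Subgroup.closure (Dc E a) →
      IsQuasisimple S ∧ ∃ _ : ((Subgroup.zpowers a).subgroupOf S).Normal,
        Nonempty (↥S ⧸ (Subgroup.zpowers a).subgroupOf S ≃* PSU 6 F 2) := by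
    rintro S rfl
    refine ⟨quasisimple_dc hD H.primitive h22 ha, ?_⟩
    have hc := H.center_eq ha
    haveI : ((Subgroup.zpowers a).subgroupOf (Subgroup.closure (Dc E a))).Normal := hc ▸ inferInstance
    exact ⟨this, ⟨(QuotientGroup.quotientMulEquivOfEq hc.symm).trans (he a ha).some⟩⟩
  obtain ⟨hq, hn, hiso⟩ := key _ (H.cent_eq ha)
  obtain ⟨b, hb⟩ := (H.model a ha).1
  obtain ⟨g, hg⟩ := H.trans a ha b hb.1
  exact ⟨a, (hD.1.1 a ha), hq, ⟨F, iF, iFt, hF, hn, hiso⟩,
    g, hg.symm ▸ Subgroup.mem_centralizer_singleton_iff.2 hb.2.2.eq.symm, hg.symm ▸ hb.2.1⟩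

/-- The Fischer group Fi₂₃ from a transposition centraliser: let G be a finite group with an involution d such that the centraliser C of d is quasisimple, C modulo the subgroup generated by d is isomorphic to the presented Fischer group Fi₂₂, and some conjugate of d different from d commutes with d. Then G is isomorphic to the presented Fischer group Fi₂₃. -/
theorem result {G : Type*} [Group G] [Finite G] (d : G) (hd : orderOf d = 2) (hq : Cfsg.IsQuasisimple (Subgroup.centralizer ({d} : Set G))) [((Subgroup.zpowers d).subgroupOf (Subgroup.centralizer ({d} : Set G))).Normal] (e : Cfsg.Spor.IsoFi22 ((Subgroup.centralizer ({d} : Set G)) ⧸ (Subgroup.zpowers d).subgroupOf (Subgroup.centralizer ({d} : Set G)))) (hnwc : ∃ g : G, g * d * g⁻¹ ∈ Subgroup.centralizer ({d} : Set G) ∧ g * d * g⁻¹ ≠ d) : Cfsg.Spor.IsoFi23 G := by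
  obtain ⟨f⟩ := e
  haveI := FiOrder.simple_fi22
  haveI := MulEquiv.isSimpleGroup f
  have hE := TypeTransfer.threeTransp f.symm Fi22Type.threeClass
  have h22 := TypeTransfer.m22 f.symm Fi22Type.type22
  obtain ⟨g, -⟩ := M23Recog.exists_fi23_iso d hd hq ⟨_, hE, h22⟩ (exists_member hE h22) hnwc
  exact ⟨g.symm⟩

end Cfsg.Agent.S1714
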