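import Cfsg.Statements.S0292
import Cfsg.Agent.Lib.Forms.OmegaOrder

set_option autoImplicit false
open Cfsg

namespace Cfsg.Agent.S0292

/-- 2 |PΩ_{2m+1}(q)| = q^(m^2) prod_{i=1}^{m} (q^(2i) - 1), for q odd and m at least 3 (type B_m). -/
theorem result {F : Type*} [Field F] [Fintype F] {q : ℕ} (hF : Fintype.card F = q) (hodd : Odd q) (m : ℕ) (hm : 3 ≤ m) : 2 * Nat.card (Cfsg.POmega F (Cfsg.quadFormOdd m F)) = q ^ (m ^ 2) * ∏ i ∈ Finset.range m, (q ^ (2 * (i + 1)) - 1) := by
  classical
  subst hF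
  have h2 : (2 : F) ≠ 0 := Forms.two_ne_zero_of_odd_card hodd
  have hc : ⇑(Forms.quadOdd m F) = quadFormOdd m F := funext Forms.quadOdd_apply
  have hN := Forms.quadOdd_nondegenerate h2 m
  have hn : 5 ≤ Fintype.card (Unit ⊕ (Fin m ⊕ Fin m)) := by simp; omega
  have h := Forms.card_pomega _ (Forms.omega_index_odd _ h2 hN (by omega))
    (Forms.omega_center_card_one _ hN hn fun g hg hval => by
      exfalso
      have hchar : ringChar F ≠ 2 := fun hc => h2 (by
        have : CharP F 2 := ringChar.of_eq hc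
        exact CharTwo.two_eq_zero)
      have hd := ((QForm.mem_omega_iff_invariants h2 hN g).1 hg).2
      rw [hval, Matrix.det_neg, Matrix.det_one, mul_one, Fintype.card_sum, Fintype.card_unit, Fintype.card_sum,
        Fintype.card_fin, Odd.neg_one_pow ⟨m, by ring⟩] at hd
      exact Ring.neg_one_ne_one_of_char_ne_two hchar hd)
  rw [Forms.card_isometryGroup (Forms.quadOdd m F) (fun _ => rfl), Forms.card_isomQ_quadOdd h2, hc] at h
  refine Nat.eq_of_mul_eq_mul_left (by norm_num : 0 < 2) ?_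
  linarith

end Cfsg.Agent.S0292
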