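import Cfsg.Statements.S0293
import Cfsg.Agent.Lib.Forms.OmegaOrder
import Cfsg.Agent.S0790

set_option autoImplicit false
open Cfsg

namespace Cfsg.Agent.S0293

/-- gcd(4, q^m - 1) |PΩ^+_{2m}(q)| = q^(m(m-1)) (q^m - 1) prod_{i=1}^{m-1} (q^(2i) - 1), m at least 4 (type D_m). -/
theorem result {F : Type*} [Field F] [Fintype F] {q : ℕ} (hF : Fintype.card F = q) (m : ℕ) (hm : 4 ≤ m) : Nat.gcd 4 (q ^ m - 1) * Nat.card (Cfsg.POmega F (Cfsg.quadFormPlus m F)) = q ^ (m * (m - 1)) * (q ^ m - 1) * ∏ i ∈ Finset.range (m - 1), (q ^ (2 * (i + 1)) - 1) := by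
  subst hF
  classical
  have hN := Forms.quadPlus_nondegenerate (F := F) m
  have hc : ⇑(Forms.quadPlus m F) = quadFormPlus m F := funext Forms.quadPlus_apply
  have hn : 5 ≤ Fintype.card (Fin m ⊕ Fin m) := by simp; omega
  obtain ⟨k, rfl⟩ := Nat.exists_eq_add_of_le' (show 1 ≤ m by omega)
  have hord := Forms.card_isometryGroup (Forms.quadPlus (k + 1) F) (fun _ => rfl)
  rw [Forms.card_isomQ_quadPlus] at hord
  have hq : 1 ≤ Fintype.card F ^ (k + 1) := Nat.one_le_pow _ _ Fintype.card_pos
  simp only [Nat.add_sub_cancel]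
  by_cases h2 : (2 : F) = 0
  · haveI : CharP F 2 := CharTwo.of_one_ne_zero_of_two_eq_zero one_ne_zero h2
    have h := Forms.card_pomega _ (Forms.omega_index_even _ hN (by omega) (Or.inr (by simp; omega)))
      (Forms.omega_center_card_one _ hN hn fun g _ hval => Subtype.ext (Units.ext (by
        show ((g : Matrix.GeneralLinearGroup (Fin (k + 1) ⊕ Fin (k + 1)) F) : Matrix (Fin (k + 1) ⊕ Fin (k + 1)) (Fin (k + 1) ⊕ Fin (k + 1)) F) = 1
        rw [hval]
        ext i j
        simp [Matrix.one_apply]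
        split_ifs <;> simp [CharTwo.neg_eq])))
    rw [hord, hc] at h
    have he : Fintype.card F % 2 = 0 := FiniteField.even_card_of_char_two (by
      exact CharP.eq F (ringChar.charP F) inferInstance)
    have hg : Nat.gcd 4 (Fintype.card F ^ (k + 1) - 1) = 1 := by
      have h1 : (Fintype.card F ^ (k + 1) - 1) % 2 = 1 := by
        have : Fintype.card F ^ (k + 1) % 2 = 0 := by
          rw [Nat.pow_mod, he, zero_pow (Nat.succ_ne_zero k), Nat.zero_mod]
        omega
      have h1' : Nat.Coprime 2 (Fintype.card F ^ (k + 1) - 1) := Nat.coprime_two_left.2 (Nat.odd_iff.2 h1)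
      exact (show (4 : ℕ) = 2 ^ 2 by norm_num) ▸ (h1'.pow_left 2)
    rw [hg, one_mul]
    refine Nat.eq_of_mul_eq_mul_left (by norm_num : 0 < 2) ?_
    linarith
  · have hodd : Odd (Fintype.card F) := by
      rw [Nat.odd_iff]
      exact FiniteField.odd_card_of_char_ne_two fun h => h2 (by simpa [h] using ringChar.Nat.cast_ringChar (R := F))
    have hiff := S0790.result rfl hodd (k + 1) (by omega) (F := F)
    have hmod : Fintype.card F ^ (k + 1) % 2 = 1 := Nat.odd_iff.1 hodd.pow
    rw [← hc] at hiff ⊢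
    by_cases hm4 : Fintype.card F ^ (k + 1) % 4 = 1
    · obtain ⟨g, hg, hval⟩ := hiff.2 hm4
      have h := Forms.card_pomega _ (Forms.omega_index_odd _ h2 hN (by omega))
        (Forms.omega_center_card_two _ h2 hN hn g hg hval)
      rw [hord] at h
      rw [Nat.gcd_eq_left (show 4 ∣ Fintype.card F ^ (k + 1) - 1 by omega)]
      refine Nat.eq_of_mul_eq_mul_left (by norm_num : 0 < 2) ?_
      linarith
    · have h := Forms.card_pomega _ (Forms.omega_index_odd _ h2 hN (by omega))
        (Forms.omega_center_card_one _ hN hn fun g hg hval => absurd (hiff.1 ⟨g, hg, hval⟩) hm4)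
      rw [hord] at h
      have hg : Nat.gcd 4 (Fintype.card F ^ (k + 1) - 1) = 2 := by
        rw [show Nat.gcd 4 (Fintype.card F ^ (k + 1) - 1)
          = Nat.gcd ((Fintype.card F ^ (k + 1) - 1) % 4) 4 from Nat.gcd_rec _ _,
          show (Fintype.card F ^ (k + 1) - 1) % 4 = 2 by omega]
        rfl
      rw [hg]
      refine Nat.eq_of_mul_eq_mul_left (by norm_num : 0 < 2) ?_
      linarith

end Cfsg.Agent.S0293
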