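import Cfsg.Statements.S1062
import Cfsg.Agent.Lib.Chev.Order
import Cfsg.Agent.Lib.Chev.Poincare
import Cfsg.Agent.Lib.Chev.CheckF4

set_option autoImplicit false
open Cfsg

namespace Cfsg.Agent.S1062

/-- `|F₄(q)| = q²⁴ (q² - 1)(q⁶ - 1)(q⁸ - 1)(q¹² - 1)`. -/
theorem result {F : Type*} [Field F] [Fintype F] {q : ℕ} (hq : Fintype.card F = q) : Nat.card ↥(Cfsg.Lie.chevF4.group F) = q ^ 24 * (q ^ 2 - 1) * (q ^ 6 - 1) * (q ^ 8 - 1) * (q ^ 12 - 1) := by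
  subst hq
  have h := Cfsg.Agent.Chev.BNSetup.card_group (F := F) Cfsg.Agent.Chev.F4.good
    Cfsg.Agent.Chev.BNSetup.facts_chevF4 Cfsg.Agent.Chev.BNSetup.kerCertF4
    Cfsg.Agent.Chev.BNSetup.kerCertF4_valid Cfsg.Agent.Chev.WeylTab.levelsF4 rfl
    Cfsg.Agent.Chev.WeylTab.levelsOK_F4
  simp only [show Cfsg.Lie.chevF4.rank = 4 from rfl, show Cfsg.Lie.chevF4.nroots / 2 = 24 from rfl,
    mul_assoc (Fintype.card F ^ 24), Cfsg.Agent.Chev.WeylTab.poincare_F4 (Fintype.card F) Fintype.card_pos,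
    Nat.gcd_one_left, one_pow, pow_one, one_mul] at h
  rw [h]
  ring

end Cfsg.Agent.S1062
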