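import Cfsg.Statements.S1065
import Cfsg.Agent.Lib.Chev.Order
import Cfsg.Agent.Lib.Chev.Poincare
import Cfsg.Agent.Lib.Chev.Seven
-- import your own Cfsg.Agent.* helpers here

set_option autoImplicit false
open Cfsg

namespace Cfsg.Agent.S1065

/-- `|E₈(q)| = q¹²⁰ ∏_{d ∈ {2,8,12,14,18,20,24,30}} (q^d - 1)`. -/
theorem result {F : Type*} [Field F] [Fintype F] {q : ℕ} (hq : Fintype.card F = q) : Nat.card ↥(Cfsg.Lie.chevE8.group F) = q ^ 120 * (q ^ 2 - 1) * (q ^ 8 - 1) * (q ^ 12 - 1) * (q ^ 14 - 1) * (q ^ 18 - 1) * (q ^ 20 - 1) * (q ^ 24 - 1) * (q ^ 30 - 1) := by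
  subst hq
  have h := Cfsg.Agent.Chev.BNSetup.card_group (F := F)
    (Cfsg.Agent.Chev.good_of_mem (D := Cfsg.Lie.chevE8) (by simp))
    Cfsg.Agent.Chev.BNSetup.facts_chevE8 Cfsg.Agent.Chev.BNSetup.kerCertE8
    Cfsg.Agent.Chev.BNSetup.kerCertE8_valid Cfsg.Agent.Chev.WeylTab.levelsE8 rfl
    Cfsg.Agent.Chev.WeylTab.levelsOK_E8
  simp only [show Cfsg.Lie.chevE8.rank = 8 from rfl, show Cfsg.Lie.chevE8.nroots / 2 = 120 from rfl,
    mul_assoc (Fintype.card F ^ 120), Cfsg.Agent.Chev.WeylTab.poincare_E8 (Fintype.card F) Fintype.card_pos,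
    Nat.gcd_one_left, one_pow, pow_one, one_mul] at h
  rw [h]
  ring

end Cfsg.Agent.S1065
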