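import Cfsg.Statements.S3761
import Cfsg.Agent.Lib.PGroup.CyclicSelfCentralizing

open scoped commutatorElement

set_option autoImplicit false
open Cfsg

namespace Cfsg.Agent.S3761

/-- Let G be a finite non-abelian p-group with a cyclic normal subgroup U of order p^n such that C_G(U) = U. Then either p = 2 and G is dihedral, generalized quaternion or semidihedral of order 2^(n+1); or, writing U₁ for the subgroup generated by the p-th powers of elements of U and M = C_G(U₁), the subgroup U has index p in M and the subgroup Ω₁(M) generated by the elements of M of order dividing p is elementary abelian of order p² and characteristic in G. -/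
theorem result {G : Type*} [Group G] [Finite G] {p : ℕ} [Fact p.Prime] (hG : IsPGroup p G) (hna : ¬ IsMulCommutative G) (U : Subgroup G) [U.Normal] (hU : IsCyclic U) (n : ℕ) (hUn : Nat.card U = p ^ n) (hC : Subgroup.centralizer (U : Set G) = U) : (p = 2 ∧ Nat.card G = 2 ^ (n + 1) ∧ ((∃ m : ℕ, Nonempty (G ≃* DihedralGroup m)) ∨ (∃ m : ℕ, Nonempty (G ≃* QuaternionGroup m)) ∨ Cfsg.IsQuasiDihedral G)) ∨ (U.relIndex (Subgroup.centralizer (Cfsg.powerClosure p 1 U : Set G)) = p ∧ Cfsg.IsElementaryAbelian p (Cfsg.omegaOne p (Subgroup.centralizer (Cfsg.powerClosure p 1 U : Set G))) ∧ Nat.card ↥(Cfsg.omegaOne p (Subgroup.centralizer (Cfsg.powerClosure p 1 U : Set G))) = p ^ 2 ∧ (Cfsg.omegaOne p (Subgroup.centralizer (Cfsg.powerClosure p 1 U : Set G))).Characteristic) := by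
  have hp := Fact.out (p := p.Prime)
  obtain ⟨u, rfl⟩ := (Subgroup.isCyclic_iff_exists_zpowers_eq_top U).mp hU
  rw [Nat.card_zpowers] at hUn
  have hn' : (Subgroup.zpowers u).Normal := inferInstance
  have hne : Subgroup.zpowers u ≠ ⊤ := fun h => hna ⟨⟨fun x y =>
    PGroup.mul_comm_of_isMulCommutative (A := Subgroup.zpowers u) inferInstance
      (h ▸ Subgroup.mem_top x) (h ▸ Subgroup.mem_top y)⟩⟩
  have hn2 : 2 ≤ n := by
    by_contra h
    refine hne ?_
    rcases (show n = 0 ∨ n = 1 by omega) with rfl | rfl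
    · have h1 : u = 1 := orderOf_eq_one_iff.mp (by rw [hUn, pow_zero])
      rw [← hC, h1, Subgroup.zpowers_eq_closure, Subgroup.centralizer_closure]
      exact eq_top_iff.mpr fun g _ => Subgroup.mem_centralizer_singleton_iff.mpr (by simp)
    · rw [← hC]
      exact Subgroup.centralizer_eq_top_iff_subset.mpr
        (PGroup.le_center_of_card_eq hG _ (by rw [Nat.card_zpowers, hUn, pow_one]))
  have hUc : powerClosure p 1 (Subgroup.zpowers u) = Subgroup.zpowers (u ^ p) := by
    refine le_antisymm (PGroup.powerClosure_le_iff.mpr ?_) (Subgroup.zpowers_le.mpr ?_)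
    · rintro _ ⟨i, rfl⟩
      refine ⟨i, ?_⟩
      show (u ^ p) ^ i = (u ^ i) ^ (p ^ 1)
      rw [pow_one, ← zpow_natCast, ← zpow_natCast, ← zpow_mul, ← zpow_mul, mul_comm]
    · simpa using PGroup.pow_mem_powerClosure (p := p) (Subgroup.mem_zpowers u) 1
  have hMeq : Subgroup.centralizer (powerClosure p 1 (Subgroup.zpowers u) : Set G) =
      Subgroup.centralizer ({u ^ p} : Set G) := by
    rw [hUc, Subgroup.zpowers_eq_closure, Subgroup.centralizer_closure]
  rw [hMeq]
  set M := Subgroup.centralizer ({u ^ p} : Set G) with hM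
  have hUM : Subgroup.zpowers u ≤ M :=
    Subgroup.zpowers_le.mpr (Subgroup.mem_centralizer_singleton_iff.mpr ((Commute.refl u).pow_right p))
  have hrel := PGroup.relIndex_centralizer_pow_le (by omega : 1 ≤ n) hUn hn' hC
  rw [← hM] at hrel
  have hfirst : p = 2 → (Subgroup.zpowers u).index = 2 → (M = Subgroup.zpowers u ∨ n = 2) →
      (p = 2 ∧ Nat.card G = 2 ^ (n + 1) ∧ ((∃ m : ℕ, Nonempty (G ≃* DihedralGroup m)) ∨
        (∃ m : ℕ, Nonempty (G ≃* QuaternionGroup m)) ∨ Cfsg.IsQuasiDihedral G)) := by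
    intro h2 hi hor
    subst h2
    have hcard : Nat.card G = 2 ^ (n + 1) := by
      rw [← Subgroup.card_mul_index (Subgroup.zpowers u), Nat.card_zpowers, hUn, hi, pow_succ]
    refine ⟨rfl, hcard, ?_⟩
    obtain ⟨a, b, hCa, ha, hb, -, h⟩ := PGroup.cyclic_index_two hn2 hcard (Subgroup.zpowers u) hU hi
      (by by_contra! hc; exact hna ⟨⟨hc⟩⟩)
    rcases h with ⟨hb2, hc⟩ | ⟨hb2, hc⟩ | ⟨hn3, -, hc⟩ | ⟨hn3, hb2, hc⟩
    · exact Or.inl ⟨_, PGroup.dihedralEquivOfRel ha hb hb2 hc (by rw [hcard, pow_succ, mul_comm])⟩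
    · refine Or.inr (Or.inl ⟨_, PGroup.quaternionEquivOfRel (N := 2 ^ (n - 1)) ?_ hb hb2 hc ?_⟩)
      · rw [ha, ← pow_succ']; congr 1; omega
      · rw [hcard, show (4 : ℕ) = 2 ^ 2 by norm_num, ← pow_add]; congr 1; omega
    · exfalso
      have hMu : M = Subgroup.zpowers u := hor.resolve_right (by omega)
      obtain ⟨k, hk⟩ : u ∈ Subgroup.zpowers a := hCa ▸ Subgroup.mem_zpowers u
      simp only at hk
      have hfa : b * a ^ 2 * b⁻¹ = a ^ 2 := by
        rw [← conj_pow, hc, ← pow_mul, add_mul, one_mul, pow_add, ← pow_succ,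
          show n - 1 + 1 = n by omega, ← ha, pow_orderOf_eq_one, mul_one]
      have hbM : b ∈ M := Subgroup.mem_centralizer_singleton_iff.mpr (mul_inv_eq_iff_eq_mul.mp (by
        rw [← hk, ← zpow_natCast (a ^ k), ← zpow_mul, mul_comm, zpow_mul, zpow_natCast,
          ← _root_.conj_zpow, hfa]))
      rw [hMu, hCa] at hbM
      exact hb hbM
    · exact Or.inr (Or.inr ⟨n, hn3, hcard, a, b, ha,
        orderOf_eq_prime hb2 (fun h1 => hb (h1 ▸ one_mem _)), hc⟩)
  by_cases hMU : M = Subgroup.zpowers u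
  · obtain ⟨h2, hi⟩ := PGroup.index_two_of_centralizer_pow_eq hG hn2 hUn hn' hne hMU
    exact Or.inl (hfirst h2 hi (Or.inl hMU))
  have hrelp : (Subgroup.zpowers u).relIndex M = p := by
    obtain ⟨k, hk⟩ : ∃ k, ((Subgroup.zpowers u).subgroupOf M).index = p ^ k := (hG.to_subgroup M).index _
    change (Subgroup.zpowers u).relIndex M = p ^ k at hk
    rcases (show k = 0 ∨ k = 1 by
      rw [hk] at hrel
      have h1 : p ^ k ≤ p ^ 1 := by rw [pow_one]; exact hrel
      have := (Nat.pow_le_pow_iff_right hp.one_lt).mp h1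
      omega) with rfl | rfl
    · exact absurd (le_antisymm (Subgroup.relIndex_eq_one.mp (by rw [hk, pow_zero])) hUM) hMU
    · rw [hk, pow_one]
  by_cases hsmall : p = 2 ∧ n = 2
  · obtain ⟨rfl, rfl⟩ := hsmall
    have hMtop : M = ⊤ := by
      refine eq_top_iff.mpr fun g _ => Subgroup.mem_centralizer_singleton_iff.mpr ?_
      obtain ⟨r, hr⟩ := hn'.conj_mem u (Subgroup.mem_zpowers u) g
      simp only at hr
      have hr2 : (r - 1) % 2 = 0 := by
        by_contra hodd
        have h1 : (g * u * g⁻¹) ^ 2 = 1 := by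
          rw [← hr, ← zpow_natCast, ← zpow_mul, ← orderOf_dvd_iff_zpow_eq_one, hUn]
          obtain ⟨q, rfl⟩ : ∃ q, r = 2 * q := ⟨r / 2, by omega⟩
          exact ⟨q, by push_cast; ring⟩
        rw [conj_pow, conj_eq_one_iff, ← orderOf_dvd_iff_pow_eq_one, hUn] at h1
        norm_num at h1
      refine mul_inv_eq_iff_eq_mul.mp ?_
      rw [← conj_pow, ← hr, ← zpow_natCast, ← zpow_mul, ← zpow_natCast u 2,
        PGroup.zpow_eq_zpow_iff_dvd, hUn]
      obtain ⟨q, hq⟩ : ∃ q, r = 2 * q + 1 := ⟨r / 2, by omega⟩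
      exact ⟨q, by rw [hq]; push_cast; ring⟩
    rw [hMtop, Subgroup.relIndex_top_right] at hrelp
    exact Or.inl (hfirst rfl hrelp (Or.inr rfl))
  right
  have hMcard : Nat.card ↥M = p ^ (n + 1) := by
    have h := Subgroup.card_mul_index ((Subgroup.zpowers u).subgroupOf M)
    rw [Nat.card_congr (Subgroup.subgroupOfEquivOfLe hUM).toEquiv, Nat.card_zpowers, hUn,
      show ((Subgroup.zpowers u).subgroupOf M).index = p from hrelp] at h
    rw [← h, pow_succ]
  have hMna : ∃ x y : ↥M, x * y ≠ y * x := by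
    obtain ⟨g, hgM, hg⟩ := SetLike.exists_of_lt (lt_of_le_of_ne hUM (Ne.symm hMU))
    refine ⟨⟨g, hgM⟩, ⟨u, hUM (Subgroup.mem_zpowers u)⟩, fun h => hg ?_⟩
    rw [← hC]
    rintro _ ⟨i, rfl⟩
    exact ((Commute.symm (congrArg Subtype.val h)).zpow_left i).eq
  obtain ⟨hel, hcard⟩ := PGroup.omegaOne_modular (G := ↥M) hn2 (fun h2 => by omega) hMcard
    ((Subgroup.zpowers u).subgroupOf M)
    ((Subgroup.subgroupOfEquivOfLe hUM).isCyclic.mpr inferInstance) hrelp hMna (by
      intro c hc
      rw [Subgroup.mem_center_iff]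
      intro w
      obtain ⟨i, hi⟩ := Subgroup.mem_subgroupOf.mp hc
      simp only at hi
      apply Subtype.ext
      show (w : G) * (c : G) ^ p = (c : G) ^ p * (w : G)
      rw [← hi, ← zpow_natCast, ← zpow_mul, mul_comm i, zpow_mul, zpow_natCast]
      exact (Commute.zpow_right (Subgroup.mem_centralizer_singleton_iff.mp w.2) i).eq)
  set O := omegaOne p M with hO
  have hOeq : (omegaOne p (⊤ : Subgroup ↥M)).map M.subtype = O := by
    rw [PGroup.map_omegaOne_of_injective M.subtype_injective, ← MonoidHom.range_eq_map,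
      Subgroup.range_subtype]
  have hOel : IsElementaryAbelian p O := hOeq ▸ PGroup.isElementaryAbelian_map hel _
  have hOc : Nat.card ↥O = p ^ 2 := by
    rw [← hOeq, Subgroup.card_map_of_injective M.subtype_injective, hcard]
  refine ⟨hrelp, hOel, hOc, ?_⟩
  have hMn : M.Normal := by
    have h1 : (powerClosure p 1 (Subgroup.zpowers u)).Normal := ⟨fun x hx g => by
      have h := Subgroup.mem_map_of_mem (MulAut.conj g).toMonoidHom hx
      rw [PGroup.map_powerClosure] at h
      refine PGroup.powerClosure_mono (H := (Subgroup.zpowers u).map (MulAut.conj g).toMonoidHom) ?_ 1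
        (by simpa using h)
      rintro _ ⟨y, hy, rfl⟩
      simpa using hn'.conj_mem y hy g⟩
    rw [← hMeq]
    infer_instance
  have hOn : O.Normal := PGroup.omegaOne_normal M
  have key : ∀ F : Subgroup G, F.Normal → IsElementaryAbelian p F → Nat.card ↥F = p ^ 2 → F = O := by
    intro F hFn hF hFc
    have hFU : ¬ F ≤ Subgroup.zpowers u := by
      intro hle
      obtain ⟨f, hf⟩ := (Subgroup.isCyclic_iff_exists_zpowers_eq_top F).mp
        (isCyclic_of_injective (Subgroup.inclusion hle) (Subgroup.inclusion_injective _))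
      have h1 := orderOf_dvd_of_pow_eq_one (hF.2 f (hf ▸ Subgroup.mem_zpowers f))
      rw [← Nat.card_zpowers, hf, hFc] at h1
      have := Nat.le_of_dvd hp.pos h1
      nlinarith [hp.two_le]
    have hI : ∀ y ∈ F ⊓ Subgroup.zpowers u, ∀ g : G, y * g = g * y := by
      intro y hy g
      have hcard : Nat.card ↥(F ⊓ Subgroup.zpowers u) ≤ p := by
        obtain ⟨k, hk⟩ := PGroup.card_eq_pow hG (F ⊓ Subgroup.zpowers u)
        have hlt : F ⊓ Subgroup.zpowers u < F :=
          lt_of_le_of_ne inf_le_left fun h => hFU (h ▸ inf_le_right)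
        have h1 := PGroup.mul_card_le_card hG hlt
        rw [hFc, pow_two] at h1
        exact Nat.le_of_mul_le_mul_left h1 hp.pos
      by_cases hb : F ⊓ Subgroup.zpowers u = ⊥
      · rw [hb, Subgroup.mem_bot] at hy
        rw [hy, one_mul, mul_one]
      · have hd : Nat.card ↥(F ⊓ Subgroup.zpowers u) = p := by
          refine le_antisymm hcard ?_
          have h1 := PGroup.mul_card_le_card hG (bot_lt_iff_ne_bot.mpr hb)
          rwa [Subgroup.card_bot, mul_one] at h1
        exact (Subgroup.mem_center_iff.mp (PGroup.le_center_of_card_eq hG _ hd hy) g).symm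
    refine Subgroup.eq_of_le_of_card_ge (fun f hf =>
      PGroup.mem_omegaOne_of_pow_eq_one ?_ (hF.2 f hf)) (by rw [hOc, hFc])
    rw [hM, Subgroup.mem_centralizer_singleton_iff]
    have hcm : ⁅f, u⁆ ∈ F ⊓ Subgroup.zpowers u := by
      refine Subgroup.mem_inf.mpr ⟨?_, ?_⟩
      · exact Subgroup.commutator_le_left F ⊤ (Subgroup.commutator_mem_commutator hf (Subgroup.mem_top u))
      · exact Subgroup.commutator_le_right ⊤ (Subgroup.zpowers u)
          (Subgroup.commutator_mem_commutator (Subgroup.mem_top f) (Subgroup.mem_zpowers u))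
    have hc1 : ∀ g : G, ⁅f, u⁆ * g = g * ⁅f, u⁆ := hI _ hcm
    have hconj : f * u * f⁻¹ = ⁅f, u⁆ * u := by rw [commutatorElement_def]; group
    have hpw : f * u ^ p * f⁻¹ = u ^ p := by
      rw [← conj_pow, hconj, Commute.mul_pow (hc1 u),
        hF.2 _ (Subgroup.mem_inf.mp hcm).1, one_mul]
    exact mul_inv_eq_iff_eq_mul.mp hpw
  rw [Subgroup.characteristic_iff_map_eq]
  intro φ
  refine key _ (Subgroup.Normal.map hOn _ φ.surjective) (PGroup.isElementaryAbelian_map hOel _) ?_
  rw [Subgroup.card_map_of_injective φ.injective, hOc]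

end Cfsg.Agent.S3761
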