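import Cfsg.Statements.S2836
import Cfsg.Agent.Lib.LocalStructure.Minimal
import Cfsg.Agent.Lib.LocalStructure.FrakMExists

set_option autoImplicit false
open Cfsg
open Subgroup Cfsg.Agent.LocalStructure
open scoped commutatorElement

namespace Cfsg.Agent.S2836

/-- Let L be a finite group, L₀ a maximal subgroup, T a Sylow p-subgroup of L₀, Y ≤ T, and suppose L is Y-minimal. Let D be the intersection of the conjugates of L₀ (the core of L₀). Then D contains O_p(L) and D/O_p(L) is the Frattini subgroup of L/O_p(L), so D is p-closed; and every normal subgroup N of L contained in L₀ is p-closed with N/O_p(N) a nilpotent group of order prime to p. -/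
theorem result {L : Type*} [Group L] [Finite L] {p : ℕ} [Fact p.Prime] (L₀ : Subgroup L) (hL₀ : IsCoatom L₀) (T : Sylow p ↥L₀) (Y : Subgroup L) (hYT : Y ≤ (T : Subgroup ↥L₀).map L₀.subtype) (hmin : Cfsg.IsMinimalOver Y) : (Cfsg.pCore p L ≤ L₀.normalCore ∧ (L₀.normalCore).map (QuotientGroup.mk' (Cfsg.pCore p L)) = frattini (L ⧸ Cfsg.pCore p L) ∧ Cfsg.IsPClosed p ↥(L₀.normalCore)) ∧ ∀ (N : Subgroup L) [N.Normal], N ≤ L₀ → Cfsg.IsPClosed p ↥N ∧ Group.IsNilpotent (↥N ⧸ Cfsg.pCore p ↥N) ∧ (Nat.card (↥N ⧸ Cfsg.pCore p ↥N)).Coprime p := by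
  set T₀ := (T : Subgroup ↥L₀).map L₀.subtype with hT₀
  have hT₀L : T₀ ≤ L₀ := Subgroup.map_subtype_le _
  have hY₀ : Y ≤ L₀ := hYT.trans hT₀L
  have hT₀s : IsSylowIn p T₀ L₀ := isSylowIn_map T
  obtain ⟨S, hTS⟩ := hT₀s.2.1.exists_le_sylow
  have hpc : Cfsg.pCore p L ≤ L₀ := by
    by_cases hne : T₀ ⊔ Cfsg.pCore p L = ⊤
    · exfalso
      have hLp : IsPGroup p L := by
        have h := isPGroup_comm_sup (isPGroup_pCore (G := L) p) hT₀s.2.1
          (normalizer_eq_top_iff.2 (pCore_normal p L) ▸ le_top)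
        rw [sup_comm, hne] at h
        exact h.of_equiv Subgroup.topEquiv
      have : L₀.Normal := Cfsg.Agent.PGroup.normal_of_isCoatom hLp hL₀
      rcases minOver_normal_le hmin hL₀ hY₀ this with h1 | h1
      · exact h1 hY₀
      · exact hL₀.1 h1
    · exact le_sup_right.trans (minOver_le hmin hL₀ hY₀ (hYT.trans le_sup_left) hne)
  have hnot : ∀ X : Subgroup L, ∀ N : Subgroup L, N ≤ L₀ → Y ≤ X → ⊤ ≤ N ⊔ X → X = ⊤ := by
    intro X N hN hYX h
    by_contra hX
    exact hL₀.1 (top_le_iff.1 (h.trans (sup_le hN (minOver_le hmin hL₀ hY₀ hYX hX))))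
  have hNfacts : ∀ N : Subgroup L, N.Normal → N ≤ L₀ →
      Cfsg.IsPClosed p ↥N ∧ Group.IsNilpotent (↥N ⧸ Cfsg.pCore p ↥N) ∧
        (Nat.card (↥N ⧸ Cfsg.pCore p ↥N)).Coprime p ∧
        (S : Subgroup L) ⊓ N ≤ Cfsg.pCore p L ∧
        (⊤ : Subgroup L) ≤ normalizer (((S : Subgroup L) ⊓ N : Subgroup L) : Set L) := by
    intro N hN hNL
    have hNn : (⊤ : Subgroup L) ≤ normalizer (N : Set L) := (normalizer_eq_top_iff.2 hN).ge
    set R := (S : Subgroup L) ⊓ N with hR
    have hRs : IsSylowIn p R N := (isSylowIn_of_sylow S le_top).inf_normal le_top hNn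
    have hRtop : (⊤ : Subgroup L) ≤ normalizer (R : Set L) := by
      refine (hnot _ N hNL ((hYT.trans hTS).trans
        (le_normalizer_inf Subgroup.le_normalizer (le_top.trans hNn))) ?_).ge
      intro x hx
      obtain ⟨n, hn, hnx⟩ := hRs.frattini hNn hx
      simpa only [inv_mul_cancel_left] using
        mul_mem (le_sup_left (b := normalizer (R : Set L)) (inv_mem hn))
          (le_sup_right (a := N) hnx)
    have hcl : Cfsg.IsPClosed p ↥N := (isPClosed_sub_iff_sylow hRs).2 (le_top.trans hRtop)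
    have hRO : R ≤ Cfsg.pCore p L :=
      LocalStructure.le_pCore (normalizer_eq_top_iff.1 (top_le_iff.1 hRtop)) hRs.2.1
    have hOR : Cfsg.pCoreOf p N = R :=
      le_antisymm hRs.pCoreOf_le ((isPClosed_sub_iff.1 hcl) R hRs.1 hRs.2.1)
    have := LocalStructure.pCore_normal p ↥N
    obtain ⟨PR, hPR⟩ := hRs.exists_sylow
    have hcop : (Nat.card (↥N ⧸ Cfsg.pCore p ↥N)).Coprime p := by
      have e : Cfsg.pCore p ↥N = (PR : Subgroup ↥N) := by
        rw [hPR, ← subgroupOf_pCoreOf p N, hOR]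
      rw [e, ← Subgroup.index_eq_card]
      exact ((Fact.out : p.Prime).coprime_iff_not_dvd.2 PR.not_dvd_index).symm
    refine ⟨hcl, ?_, hcop, hRO, hRtop⟩
    refine ((Group.isNilpotent_of_finite_tfae (G := ↥N ⧸ Cfsg.pCore p ↥N)).out 0 3).2 ?_
    intro q hq P
    have := hq
    set π := QuotientGroup.mk' (Cfsg.pCore p ↥N) with hπ
    have hπs : Function.Surjective π := QuotientGroup.mk'_surjective _
    obtain ⟨Q, hQ⟩ := Sylow.mapSurjective_surjective hπs q P
    set Q₀ := (Q : Subgroup ↥N).map N.subtype with hQ₀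
    have hQ₀s : IsSylowIn q Q₀ N := isSylowIn_map Q
    have hU : (⊤ : Subgroup L) ≤ normalizer ((Q₀ ⊔ R : Subgroup L) : Set L) := by
      set U := normalizer (Q₀ : Set L) ⊔ R with hUdef
      have hUN : (⊤ : Subgroup L) ≤ N ⊔ U := by
        intro x hx
        obtain ⟨n, hn, hnx⟩ := hQ₀s.frattini hNn hx
        simpa using mul_mem (le_sup_left (b := U) (inv_mem hn))
          (le_sup_right (a := N) (le_sup_left (b := R) hnx))
      obtain ⟨c, hc, hcU⟩ := exists_conj_le_of_supplement S le_top le_top hNn le_top hUN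
        le_sup_right hRtop
      have hYU : Y ≤ U.map (MulAut.conj c⁻¹).toMonoidHom := by
        refine (hYT.trans hTS).trans (le_trans (le_of_eq ?_) (Subgroup.map_mono hcU))
        rw [← map_conj_mul, inv_mul_cancel, map_conj_one]
      have hUt : U.map (MulAut.conj c⁻¹).toMonoidHom = ⊤ := by
        refine hnot _ N hNL hYU ?_
        intro x hx
        obtain ⟨n, hn, u, hu, e⟩ := exists_mul_of_mem_sup' (le_top.trans hNn)
          (sup_comm N U ▸ hUN (Subgroup.mem_top (c * x * c⁻¹)))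
        have h1 : c⁻¹ * n * c⁻¹⁻¹ ∈ N :=
          (mem_normalizer_iff.1 (hNn (Subgroup.mem_top c⁻¹)) n).1 hn
        have h2 : c⁻¹ * u * c⁻¹⁻¹ ∈ U.map (MulAut.conj c⁻¹).toMonoidHom := conj_mem_map_conj hu
        have e2 : x = (c⁻¹ * n * c⁻¹⁻¹) * (c⁻¹ * u * c⁻¹⁻¹) :=
          calc x = c⁻¹ * (c * x * c⁻¹) * c := by group
            _ = c⁻¹ * (n * u) * c := by rw [e]
            _ = _ := by group
        rw [e2]
        exact mul_mem (le_sup_left (b := U.map (MulAut.conj c⁻¹).toMonoidHom) h1)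
          (le_sup_right (a := N) h2)
      have hU' : U = ⊤ := by
        apply Subgroup.map_injective (f := (MulAut.conj c⁻¹).toMonoidHom) (MulAut.conj c⁻¹).injective
        exact hUt.trans (Subgroup.map_top_of_surjective _ (MulAut.conj c⁻¹).surjective).symm
      rw [← hU', hUdef]
      exact sup_le (le_normalizer_sup le_rfl (le_top.trans hRtop))
        (le_sup_right.trans Subgroup.le_normalizer)
    have hQn : ((Q : Subgroup ↥N) ⊔ Cfsg.pCore p ↥N).Normal := by
      have h := (normal_subgroupOf_iff_le_normalizer (sup_le hQ₀s.1 hRs.1 : Q₀ ⊔ R ≤ N)).2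
        (le_top.trans hU)
      rwa [← hOR, hQ₀, Cfsg.pCoreOf, ← Subgroup.map_sup, Subgroup.subgroupOf,
        comap_map_eq_self_of_injective N.subtype_injective] at h
    rw [← hQ]
    show ((Q : Subgroup ↥N).map π).Normal
    have e : (Q : Subgroup ↥N).map π = ((Q : Subgroup ↥N) ⊔ Cfsg.pCore p ↥N).map π := by
      rw [Subgroup.map_sup, hπ, QuotientGroup.map_mk'_self, sup_bot_eq]
    rw [e]
    exact hQn.map π hπs
  have hD : L₀.normalCore.Normal := inferInstance
  have hpD : Cfsg.pCore p L ≤ L₀.normalCore := by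
    have := LocalStructure.pCore_normal p L
    exact Subgroup.normal_le_normalCore.2 hpc
  obtain ⟨hDcl, -, -, hDR, hDRn⟩ := hNfacts _ hD L₀.normalCore_le
  refine ⟨⟨hpD, ?_, hDcl⟩, fun N _ hNL => ?_⟩
  · have := LocalStructure.pCore_normal p L
    set π := QuotientGroup.mk' (Cfsg.pCore p L) with hπ
    have hπs : Function.Surjective π := QuotientGroup.mk'_surjective _
    have hker : π.ker = Cfsg.pCore p L := QuotientGroup.ker_mk' _
    refine le_antisymm (le_iInf₂ fun Kq hKq => ?_) ?_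
    · rw [Subgroup.map_le_iff_le_comap]
      by_contra hne
      set K := Kq.comap π with hK
      have hKc : IsCoatom K := Subgroup.isCoatom_comap_of_surjective hπs hKq
      have hKD : (⊤ : Subgroup L) ≤ L₀.normalCore ⊔ K :=
        (hKc.2 _ (lt_of_le_of_ne le_sup_right fun e => hne (e.ge.trans' le_sup_left))).ge
      obtain ⟨c, hc, hcK⟩ := exists_conj_le_of_supplement S le_top le_top
        (normalizer_eq_top_iff.2 hD).ge le_top hKD
        (hDR.trans (hker.ge.trans (Subgroup.comap_mono bot_le))) hDRn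
      have hYK : Y ≤ K.map (MulAut.conj c⁻¹).toMonoidHom := by
        refine (hYT.trans hTS).trans (le_trans (le_of_eq ?_) (Subgroup.map_mono hcK))
        rw [← map_conj_mul, inv_mul_cancel, map_conj_one]
      have hK'c : IsCoatom (K.map (MulAut.conj c⁻¹).toMonoidHom) :=
        (OrderIso.isCoatom_iff (MulEquiv.mapSubgroup (MulAut.conj c⁻¹)) K).2 hKc
      have hK' := hmin.2.unique ⟨hK'c, hYK⟩ ⟨hL₀, hY₀⟩
      refine hne fun x hx => ?_
      have h1 : c⁻¹ * x * c⁻¹⁻¹ ∈ L₀.normalCore := hD.conj_mem x hx c⁻¹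
      have h2 : c⁻¹ * x * c⁻¹⁻¹ ∈ K.map (MulAut.conj c⁻¹).toMonoidHom :=
        hK'.ge (L₀.normalCore_le h1)
      rw [mem_map_conj] at h2
      simpa [mul_assoc] using h2
    · have h1 : (frattini (L ⧸ Cfsg.pCore p L)).comap π ≤ L₀.normalCore := by
        refine Subgroup.normal_le_normalCore.2 ?_
        have hk0 : (L₀.map π).comap π = L₀ := by
          rw [Subgroup.comap_map_eq, hker, sup_eq_left.2 hpc]
        have hc : IsCoatom (L₀.map π) := by
          refine ⟨fun e => hL₀.1 ?_, fun K hK => ?_⟩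
          · rw [← hk0, e, Subgroup.comap_top]
          · rw [← Subgroup.map_comap_eq_self_of_surjective hπs K, hL₀.2 (K.comap π)
              (hk0 ▸ (Subgroup.comap_lt_comap_of_surjective hπs).2 hK),
              Subgroup.map_top_of_surjective _ hπs]
        refine (Subgroup.comap_mono (frattini_le_coatom hc)).trans ?_
        rw [Subgroup.comap_map_eq, hker, sup_eq_left.2 hpc]
      rw [← Subgroup.map_comap_eq_self_of_surjective hπs (frattini _)]
      exact Subgroup.map_mono h1
  · obtain ⟨h1, h2, h3, -⟩ := hNfacts N ‹_› hNL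
    exact ⟨h1, h2, h3⟩

end Cfsg.Agent.S2836
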