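import Cfsg.Statements.S0581
import Cfsg.Agent.Lib.Solvable.Schmidt
import Cfsg.Agent.Lib.LocalStructure.Basic
-- import your own Cfsg.Agent.* helpers here

set_option autoImplicit false
open Pointwise
open Cfsg

namespace Cfsg.Agent.S0581

open Subgroup

universe u

theorem sylow_le {G : Type u} [Group G] [Finite G] {p : ℕ} [Fact p.Prime] {H : Subgroup G}
    (h : ¬ p ∣ H.index) (P : Sylow p H) :
    Nat.card ((P : Subgroup H).map H.subtype) = p ^ (Nat.card G).factorization p := by
  rw [card_map_of_injective H.subtype_injective, P.card_eq_multiplicity, ← H.card_mul_index,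
    Nat.factorization_mul Nat.card_pos.ne' index_ne_zero_of_finite]
  simp [Nat.factorization_eq_zero_of_not_dvd h]

theorem wielandt : ∀ (k : ℕ) (G : Type u) [Group G] [Finite G] (H K : Subgroup G),
    Nat.card K = k → Group.IsNilpotent H →
    (∀ r : ℕ, r.Prime → r ∣ Nat.card K → ¬ r ∣ H.index) →
    ∃ x : G, K ≤ H.map (MulAut.conj x).toMonoidHom := by
  intro k
  induction k using Nat.strong_induction_on with
  | _ k IH =>
  intro G _ _ H K hk hH hK
  subst hk
  by_cases hK1 : K = ⊥
  · exact ⟨1, hK1 ▸ bot_le⟩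
  have hnt : Nontrivial K := (nontrivial_iff_ne_bot K).2 hK1
  -- proper subgroups of `K` are nilpotent
  have hsub : ∀ L : Subgroup K, L ≠ ⊤ → Group.IsNilpotent L := by
    intro L hL
    have hlt : Nat.card (L.map K.subtype) < Nat.card K := by
      rw [card_map_of_injective K.subtype_injective]
      exact lt_of_le_of_ne (card_le_card_group L) fun e => hL (eq_top_of_card_eq L e)
    obtain ⟨x, hx⟩ := IH _ hlt G H (L.map K.subtype) rfl hH fun r hr hrd =>
      hK r hr (hrd.trans (card_dvd_of_le (map_subtype_le L)))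
    haveI := hH
    haveI : Group.IsNilpotent ↥(H.map (MulAut.conj x).toMonoidHom) :=
      (Group.isNilpotent_congr (H.equivMapOfInjective _ (MulAut.conj x).injective)).1 hH
    haveI : Group.IsNilpotent ↥(L.map K.subtype) := _root_.isNilpotent_of_ker_le_center
      (inclusion hx) (((MonoidHom.ker_eq_bot_iff _).2 (inclusion_injective hx)).le.trans bot_le)
    exact (Group.isNilpotent_congr (L.equivMapOfInjective _ K.subtype_injective)).2 inferInstance
  -- a nontrivial normal Sylow subgroup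
  obtain ⟨p, hp, P, hPn, hPne⟩ : ∃ (p : ℕ) (_ : Fact p.Prime) (P : Sylow p K),
      (P : Subgroup K).Normal ∧ (P : Subgroup K) ≠ ⊥ := by
    by_cases hn : Group.IsNilpotent K
    · obtain ⟨p, hp, hpd⟩ := Nat.exists_prime_and_dvd (n := Nat.card K) Finite.one_lt_card.ne'
      haveI := Fact.mk hp
      obtain ⟨P⟩ := (inferInstance : Nonempty (Sylow p K))
      haveI := hn
      exact ⟨p, Fact.mk hp, P, Cfsg.Agent.Solvable.sylow_normal_of_nilpotent P,
        P.ne_bot_of_dvd_card hpd⟩
    · obtain ⟨p, q, hp, hq, -, P, Q, g, -, hQ, -, hg, -⟩ :=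
        Cfsg.Agent.Solvable.schmidt (G := K) ⟨hn, hsub⟩
      refine ⟨q, Fact.mk hq, Q, hQ, fun h => hg ?_⟩
      rw [h, mem_centralizer_iff]
      intro y hy
      rw [SetLike.mem_coe, mem_bot] at hy
      rw [hy, one_mul, mul_one]
  have hpd : p ∣ Nat.card K := by
    by_contra h
    exact hPne (card_eq_one.1 (by
      rw [P.card_eq_multiplicity, Nat.factorization_eq_zero_of_not_dvd h, pow_zero]))
  set Pg := (P : Subgroup K).map K.subtype with hPg
  have hPgp : IsPGroup p Pg := P.2.map _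
  -- move `P` into `H`
  obtain ⟨x, hx⟩ : ∃ x : G, Pg ≤ H.map (MulAut.conj x).toMonoidHom := by
    obtain ⟨R⟩ := (inferInstance : Nonempty (Sylow p H))
    set S : Sylow p G := Sylow.ofCard _ (sylow_le (hK p hp.out hpd) R)
    obtain ⟨S', hS'⟩ := hPgp.exists_le_sylow
    obtain ⟨x, hx⟩ := MulAction.exists_smul_eq G S S'
    refine ⟨x, hS'.trans ?_⟩
    rw [← hx, Sylow.coe_subgroup_smul]
    exact map_mono ((Sylow.coe_ofCard _ _).le.trans (map_subtype_le _))
  set H₁ := H.map (MulAut.conj x).toMonoidHom with hH₁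
  have hH₁n : Group.IsNilpotent H₁ :=
    (Group.isNilpotent_congr (H.equivMapOfInjective _ (MulAut.conj x).injective)).1 hH
  have hidx : H₁.index = H.index := index_map_equiv H (MulAut.conj x)
  by_cases hPtop : (P : Subgroup K) = ⊤
  · exact ⟨x, by rwa [hPg, hPtop, ← MonoidHom.range_eq_map, range_subtype] at hx⟩
  set C := centralizer (Pg : Set G) with hC
  -- `C` contains Sylow subgroups for the other primes of `K`
  have hCidx : ∀ r : ℕ, r.Prime → r ∣ Nat.card K → r ≠ p →
      ¬ r ∣ (H₁ ⊓ C).index := by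
    intro r hr hrd hrp hdiv
    haveI := Fact.mk hr
    obtain ⟨R⟩ := (inferInstance : Nonempty (Sylow r H₁))
    have hcard := sylow_le (hidx ▸ hK r hr hrd) R
    have hle : (R : Subgroup H₁).map H₁.subtype ≤ H₁ ⊓ C := by
      refine le_inf (map_subtype_le _) ?_
      rintro _ ⟨⟨a, ha⟩, haR, rfl⟩
      rw [hC, mem_centralizer_iff]
      intro b hb
      obtain ⟨i, hi⟩ := IsPGroup.iff_orderOf.1 hPgp ⟨b, hb⟩
      obtain ⟨j, hj⟩ := IsPGroup.iff_orderOf.1 R.2 ⟨⟨a, ha⟩, haR⟩
      rw [Subgroup.orderOf_mk] at hi hj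
      haveI := hH₁n
      exact congrArg Subtype.val (Cfsg.Agent.Solvable.commute_of_nilpotent (G := H₁)
        (Ne.symm hrp) (x := ⟨b, hx hb⟩) (y := ⟨a, ha⟩)
        (by rw [Subgroup.orderOf_mk]; exact hi) hj).eq
    have h1 : r ∣ ((R : Subgroup H₁).map H₁.subtype).index := hdiv.trans (index_dvd_of_le hle)
    have h2 := card_mul_index ((R : Subgroup H₁).map H₁.subtype)
    rw [hcard] at h2
    have h3 : r ^ ((Nat.card G).factorization r + 1) ∣ Nat.card G := by
      rw [pow_succ]
      exact (mul_dvd_mul_left _ h1).trans h2.dvd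
    exact absurd ((hr.pow_dvd_iff_le_factorization Nat.card_pos.ne').1 h3) (by omega)
  -- a complement of `P` in `K` centralises `P`
  haveI := hPn
  obtain ⟨R, hR⟩ := exists_right_complement'_of_coprime (N := (P : Subgroup K)) P.card_coprime_index
  have hRcard : Nat.card R = (P : Subgroup K).index := hR.symm.index_eq_card.symm
  have hRp : ¬ p ∣ Nat.card R := by rw [hRcard]; exact P.not_dvd_index
  have hKN : K ≤ normalizer (Pg : Set G) := by
    intro a ha
    rw [mem_normalizer_iff]
    intro b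
    refine ⟨?_, ?_⟩
    · rintro ⟨c, hc, rfl⟩
      exact ⟨⟨a, ha⟩ * c * ⟨a, ha⟩⁻¹, hPn.conj_mem c hc ⟨a, ha⟩, rfl⟩
    · rintro ⟨c, hc, hcb⟩
      refine ⟨⟨a, ha⟩⁻¹ * c * ⟨a, ha⟩, ?_, ?_⟩
      · have h := hPn.conj_mem c hc ⟨a, ha⟩⁻¹
        rwa [inv_inv] at h
      · have hcb' : (c : G) = a * b * a⁻¹ := hcb
        show a⁻¹ * (c : G) * a = b
        rw [hcb']
        group
  set Rg := R.map K.subtype with hRg
  have hRgK : Rg ≤ K := map_subtype_le _
  have hRgcard : Nat.card Rg = Nat.card R := card_map_of_injective K.subtype_injective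
  have hRC : Rg ≤ C := by
    haveI : (C.subgroupOf (normalizer (Pg : Set G))).Normal := by
      rw [hC]; infer_instance
    intro a ha
    have hN : a ∈ normalizer (Pg : Set G) := hKN (hRgK ha)
    have h1 : orderOf (QuotientGroup.mk' (C.subgroupOf (normalizer (Pg : Set G))) ⟨a, hN⟩) = 1 := by
      refine Nat.eq_one_of_dvd_coprimes (k := orderOf (QuotientGroup.mk'
        (C.subgroupOf (normalizer (Pg : Set G))) ⟨a, hN⟩)) ?_
        ((orderOf_map_dvd _ _).trans ((Subgroup.orderOf_mk a hN).symm ▸ orderOf_dvd_natCard Rg ha))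
        (orderOf_dvd_natCard _)
      refine Nat.coprime_of_dvd fun r hr hr1 hr2 => ?_
      have hrK : r ∣ Nat.card K := hr1.trans (card_dvd_of_le hRgK)
      have hrp : r ≠ p := fun h => hRp (hRgcard ▸ h ▸ hr1)
      refine hCidx r hr hrK hrp ?_
      refine hr2.trans ((dvd_trans ?_ (index_dvd_of_le (inf_le_right : H₁ ⊓ C ≤ C))))
      rw [← index_eq_card]
      exact relIndex_dvd_index_of_le (centralizer_le_normalizer _)
    rw [orderOf_eq_one_iff] at h1
    exact (QuotientGroup.eq_one_iff (N := C.subgroupOf (normalizer (Pg : Set G))) ⟨a, hN⟩).1 h1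
  have hlt : Nat.card (Rg.subgroupOf C) < Nat.card K := by
    rw [Nat.card_congr (subgroupOfEquivOfLe hRC).toEquiv, hRgcard]
    refine lt_of_le_of_ne (card_le_card_group R) fun e => hPne ?_
    have h := hR.disjoint
    rwa [eq_top_of_card_eq R e, disjoint_top] at h
  obtain ⟨c, hc⟩ := IH _ hlt C ((H₁ ⊓ C).subgroupOf C) (Rg.subgroupOf C) rfl
    (by
      haveI := hH₁n
      let f : ↥((H₁ ⊓ C).subgroupOf C) →* ↥H₁ :=
        (inclusion (inf_le_left : H₁ ⊓ C ≤ H₁)).comp
          (subgroupOfEquivOfLe (inf_le_right : H₁ ⊓ C ≤ C)).toMonoidHom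
      have hf : Function.Injective f :=
        (inclusion_injective (inf_le_left : H₁ ⊓ C ≤ H₁)).comp (subgroupOfEquivOfLe _).injective
      exact _root_.isNilpotent_of_ker_le_center f
        (((MonoidHom.ker_eq_bot_iff f).2 hf).le.trans bot_le))
    (fun r hr hrd hdiv => by
      rw [Nat.card_congr (subgroupOfEquivOfLe hRC).toEquiv] at hrd
      refine hCidx r hr (hrd.trans (card_dvd_of_le hRgK)) (fun h => hRp ?_) ?_
      · rw [← hRgcard, ← h]; exact hrd
      · exact hdiv.trans (relIndex_dvd_index_of_le inf_le_right))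
  refine ⟨(c : G) * x, ?_⟩
  rw [Cfsg.Agent.LocalStructure.map_conj_mul, ← hH₁]
  intro a ha
  obtain ⟨u, hu, v, hv, he⟩ : ∃ u ∈ (P : Subgroup K), ∃ v ∈ R, u * v = (⟨a, ha⟩ : K) := by
    have h : (⟨a, ha⟩ : K) ∈ ((P : Subgroup K) : Set K) * (R : Set K) := by
      rw [hR.mul_eq]; exact Set.mem_univ _
    exact Set.mem_mul.1 h
  have he' : (u : G) * v = a := congrArg Subtype.val he
  rw [← he']
  refine mul_mem ?_ ?_
  · have hu' : (u : G) ∈ Pg := ⟨u, hu, rfl⟩
    refine ⟨u, hx hu', ?_⟩
    show (c : G) * u * (c : G)⁻¹ = u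
    rw [← (mem_centralizer_iff.1 c.2) (u : G) hu', mul_inv_cancel_right]
  · have hv' : (v : G) ∈ Rg := ⟨v, hv, rfl⟩
    obtain ⟨w, hw, hwe⟩ := hc (show (⟨(v : G), hRC hv'⟩ : C) ∈ Rg.subgroupOf C from hv')
    exact ⟨(w : G), hw.1, congrArg Subtype.val hwe⟩


/-- Let H be a nilpotent subgroup of a finite group G whose order is coprime to its index, and K a subgroup every prime divisor of whose order divides the order of H. Then K lies in some conjugate of H. -/
theorem result {G : Type*} [Group G] [Finite G] (H K : Subgroup G) (hH : Group.IsNilpotent H) (hHall : (Nat.card H).Coprime H.index) (hK : ∀ p : ℕ, p.Prime → p ∣ Nat.card K → p ∣ Nat.card H) : ∃ x : G, K ≤ MulAut.conj x • H := by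
  obtain ⟨x, hx⟩ := wielandt _ G H K rfl hH fun r hr hrd hdiv => by
    exact hr.not_dvd_one (hHall ▸ Nat.dvd_gcd (hK r hr hrd) hdiv)
  exact ⟨x, hx⟩

end Cfsg.Agent.S0581
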