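import Cfsg.Statements.S1590
-- import your own Cfsg.Agent.* helpers here

set_option autoImplicit false
open Cfsg

namespace Cfsg.Agent.S1590

/-- The word with the six information coordinates `a`. -/
def word (a : Fin 6 → ZMod 3) : Cfsg.ArrayPt → ZMod 3 := fun p =>
  ![![a 0, a 1, a 2], ![a 3, a 4, a 0 + a 1 + a 2 + 2 * a 3 + 2 * a 4], ![a 5, 2 * a 1 + a 2 + 2 * a 3 + a 4 + a 5, a 0 + 2 * a 1 + a 3 + 2 * a 4 + a 5], ![a 0 + 2 * a 1 + 2 * a 2 + 2 * a 3 + 2 * a 5, a 0 + a 2 + a 3 + a 4 + 2 * a 5, 2 * a 0 + 2 * a 1 + a 2 + 2 * a 4 + 2 * a 5]] p.1 p.2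

/-- The information coordinates of a word. -/
def info (x : Cfsg.ArrayPt → ZMod 3) : Fin 6 → ZMod 3 :=
  ![x (0, 0), x (0, 1), x (0, 2), x (1, 0), x (1, 1), x (2, 0)]

theorem sum_three (f : ZMod 3 → ZMod 3) : ∑ r : ZMod 3, f r = f 0 + f 1 + f 2 := by
  exact Fin.sum_univ_three f

theorem info_word : ∀ a : Fin 6 → ZMod 3, info (word a) = a := by
  intro a
  funext i
  fin_cases i <;> rfl

/-- The common value `s` of a word. -/
def sval (a : Fin 6 → ZMod 3) : ZMod 3 := 2 * a 0 + 2 * a 1 + 2 * a 2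

theorem word_cols : ∀ (a : Fin 6 → ZMod 3) (i : Fin 4), ∑ r : ZMod 3, word a (i, r) = -sval a := by
  decide +kernel

theorem word_tetra : ∀ (a : Fin 6 → ZMod 3) (u v : ZMod 3),
    ∑ i : Fin 4, word a (i, (u • ![0, 1, 1, 1] + v • ![1, 0, 1, 2] : Fin 4 → ZMod 3) i) = sval a := by
  decide +kernel

theorem word_mem (a : Fin 6 → ZMod 3) : word a ∈ Cfsg.ternaryGolayCode := by
  refine ⟨sval a, word_cols a, fun t ht => ?_⟩
  obtain ⟨u, v, rfl⟩ := Submodule.mem_span_pair.1 ht
  exact word_tetra a u v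

theorem eq_word (x : Cfsg.ArrayPt → ZMod 3) (hx : x ∈ Cfsg.ternaryGolayCode) : x = word (info x) := by
  obtain ⟨s, hcol, htet⟩ := hx
  have e0 : x (0, 0) + x (0, 1) + x (0, 2) = -s := by
    rw [← sum_three (fun r => x (0, r))]; exact hcol 0
  have e1 : x (1, 0) + x (1, 1) + x (1, 2) = -s := by
    rw [← sum_three (fun r => x (1, r))]; exact hcol 1
  have e2 : x (2, 0) + x (2, 1) + x (2, 2) = -s := by
    rw [← sum_three (fun r => x (2, r))]; exact hcol 2
  have e3 : x (3, 0) + x (3, 1) + x (3, 2) = -s := by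
    rw [← sum_three (fun r => x (3, r))]; exact hcol 3
  have e4 : x (0, 0) + x (1, 0) + x (2, 0) + x (3, 0) = s := by
    have h := htet ![0, 0, 0, 0] (Submodule.mem_span_pair.2 ⟨0, 0, by decide⟩)
    simpa [Fin.sum_univ_four] using h
  have e5 : x (0, 1) + x (1, 0) + x (2, 1) + x (3, 2) = s := by
    have h := htet ![1, 0, 1, 2] (Submodule.mem_span_pair.2 ⟨0, 1, by decide⟩)
    simpa [Fin.sum_univ_four] using h
  have e6 : x (0, 2) + x (1, 0) + x (2, 2) + x (3, 1) = s := by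
    have h := htet ![2, 0, 2, 1] (Submodule.mem_span_pair.2 ⟨0, 2, by decide⟩)
    simpa [Fin.sum_univ_four] using h
  have e7 : x (0, 0) + x (1, 1) + x (2, 1) + x (3, 1) = s := by
    have h := htet ![0, 1, 1, 1] (Submodule.mem_span_pair.2 ⟨1, 0, by decide⟩)
    simpa [Fin.sum_univ_four] using h
  have e8 : x (0, 1) + x (1, 1) + x (2, 2) + x (3, 0) = s := by
    have h := htet ![1, 1, 2, 0] (Submodule.mem_span_pair.2 ⟨1, 1, by decide⟩)
    simpa [Fin.sum_univ_four] using h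
  have e9 : x (0, 2) + x (1, 1) + x (2, 0) + x (3, 2) = s := by
    have h := htet ![2, 1, 0, 2] (Submodule.mem_span_pair.2 ⟨1, 2, by decide⟩)
    simpa [Fin.sum_univ_four] using h
  have e10 : x (0, 0) + x (1, 2) + x (2, 2) + x (3, 2) = s := by
    have h := htet ![0, 2, 2, 2] (Submodule.mem_span_pair.2 ⟨2, 0, by decide⟩)
    simpa [Fin.sum_univ_four] using h
  have e11 : x (0, 1) + x (1, 2) + x (2, 0) + x (3, 1) = s := by
    have h := htet ![1, 2, 0, 1] (Submodule.mem_span_pair.2 ⟨2, 1, by decide⟩)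
    simpa [Fin.sum_univ_four] using h
  have e12 : x (0, 2) + x (1, 2) + x (2, 1) + x (3, 0) = s := by
    have h := htet ![2, 2, 1, 0] (Submodule.mem_span_pair.2 ⟨2, 2, by decide⟩)
    simpa [Fin.sum_univ_four] using h
  funext ⟨i, r⟩
  fin_cases i <;> fin_cases r
  · rfl
  · rfl
  · rfl
  · rfl
  · rfl
  · show x (1, 2) = (info x) 0 + (info x) 1 + (info x) 2 + 2 * (info x) 3 + 2 * (info x) 4
    simp only [info, Matrix.cons_val]
    linear_combination (norm := (ring_nf; reduce_mod_char)) 2 * e0 + e1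
  · rfl
  · show x (2, 1) = 2 * (info x) 1 + (info x) 2 + 2 * (info x) 3 + (info x) 4 + (info x) 5
    simp only [info, Matrix.cons_val]
    linear_combination (norm := (ring_nf; reduce_mod_char)) 2 * e0 + e3 + 2 * e4 + 2 * e5 + 2 * e7
  · show x (2, 2) = (info x) 0 + 2 * (info x) 1 + (info x) 3 + 2 * (info x) 4 + (info x) 5
    simp only [info, Matrix.cons_val]
    linear_combination (norm := (ring_nf; reduce_mod_char)) e2 + 2 * e3 + e4 + e5 + e7
  · show x (3, 0) = (info x) 0 + 2 * (info x) 1 + 2 * (info x) 2 + 2 * (info x) 3 + 2 * (info x) 5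
    simp only [info, Matrix.cons_val]
    linear_combination (norm := (ring_nf; reduce_mod_char)) e0 + e4
  · show x (3, 1) = (info x) 0 + (info x) 2 + (info x) 3 + (info x) 4 + 2 * (info x) 5
    simp only [info, Matrix.cons_val]
    linear_combination (norm := (ring_nf; reduce_mod_char)) 2 * e0 + 2 * e3 + e4 + e5 + 2 * e7
  · show x (3, 2) = 2 * (info x) 0 + 2 * (info x) 1 + (info x) 2 + 2 * (info x) 4 + 2 * (info x) 5
    simp only [info, Matrix.cons_val]
    linear_combination (norm := (ring_nf; reduce_mod_char)) 2 * e0 + 2 * e3 + e4 + 2 * e5 + e7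

theorem mem_iff (x : Cfsg.ArrayPt → ZMod 3) : x ∈ Cfsg.ternaryGolayCode ↔ word (info x) = x :=
  ⟨fun h => (eq_word x h).symm, fun h => h ▸ word_mem _⟩

/-- The weight of a word. -/
def wt (a : Fin 6 → ZMod 3) : ℕ := (Cfsg.ternarySupport (word a)).card

theorem wt_values : ∀ a : Fin 6 → ZMod 3, a = 0 ∨ wt a = 6 ∨ wt a = 9 ∨ wt a = 12 := by decide +kernel

theorem wt_counts : (Finset.univ.filter fun a => wt a = 6).card = 264 ∧
    (Finset.univ.filter fun a => wt a = 9).card = 440 ∧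
    (Finset.univ.filter fun a => wt a = 12).card = 24 := by decide +kernel

theorem ncard_weight (k : ℕ) :
    {x : Cfsg.ArrayPt → ZMod 3 | x ∈ Cfsg.ternaryGolayCode ∧ (Cfsg.ternarySupport x).card = k}.ncard
      = (Finset.univ.filter fun a => wt a = k).card := by
  rw [← Set.ncard_coe_finset, ← Set.ncard_image_of_injective _
    (Function.LeftInverse.injective info_word)]
  congr 1
  ext x
  simp only [Set.mem_ofPred_eq, Set.mem_image, Finset.mem_coe, Finset.mem_filter_univ]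
  constructor
  · rintro ⟨h1, h2⟩
    exact ⟨info x, by rw [wt, (mem_iff x).1 h1]; exact h2, (mem_iff x).1 h1⟩
  · rintro ⟨a, h, rfl⟩
    exact ⟨word_mem a, h⟩

/-- The length-12 ternary code has 729 words with weight distribution 0^1 6^264 9^440 12^24. -/
theorem result : Nat.card ↥Cfsg.ternaryGolayCode = 729 ∧ (∀ x ∈ Cfsg.ternaryGolayCode, x ≠ 0 → (Cfsg.ternarySupport x).card = 6 ∨ (Cfsg.ternarySupport x).card = 9 ∨ (Cfsg.ternarySupport x).card = 12) ∧ {x : Cfsg.ArrayPt → ZMod 3 | x ∈ Cfsg.ternaryGolayCode ∧ (Cfsg.ternarySupport x).card = 6}.ncard = 264 ∧ {x : Cfsg.ArrayPt → ZMod 3 | x ∈ Cfsg.ternaryGolayCode ∧ (Cfsg.ternarySupport x).card = 9}.ncard = 440 ∧ {x : Cfsg.ArrayPt → ZMod 3 | x ∈ Cfsg.ternaryGolayCode ∧ (Cfsg.ternarySupport x).card = 12}.ncard = 24 := by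
  refine ⟨?_, ?_, ?_, ?_, ?_⟩
  · rw [Nat.card_congr (Equiv.ofBijective (fun x : ↥Cfsg.ternaryGolayCode => info (x : Cfsg.ArrayPt → ZMod 3))
      ⟨fun x y h => Subtype.ext ?_, fun a => ⟨⟨word a, word_mem a⟩, info_word a⟩⟩)]
    · simp [Nat.card_eq_fintype_card]
    · rw [eq_word _ x.2, eq_word _ y.2]
      exact congrArg word h
  · intro x hx hx0
    rcases wt_values (info x) with h | h
    · refine absurd ?_ hx0
      rw [eq_word x hx, h]
      decide
    · rw [eq_word x hx]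
      exact h
  · rw [ncard_weight]; exact wt_counts.1
  · rw [ncard_weight]; exact wt_counts.2.1
  · rw [ncard_weight]; exact wt_counts.2.2

end Cfsg.Agent.S1590
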