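import Cfsg.Statements.S1593
import Cfsg.Agent.S1590

set_option autoImplicit false
open Cfsg

namespace Cfsg.Agent.S1593

open Cfsg.Agent.S1590

/-- The information vectors of the six basis words. -/
def unitInfo (i : Fin 6) : Fin 6 → ZMod 3 := Pi.single i 1

/-- The position of a point among twelve. -/
def pos (p : Cfsg.ArrayPt) : ℕ := 3 * p.1.val + p.2.val

/-- The signs of a mask. -/
def sgnOf (m : ℕ) (p : Cfsg.ArrayPt) : ZMod 3 := if m.testBit (pos p) then 2 else 1

/-- Whether the signs keep all basis words in the code. -/
def keeps (m : ℕ) : Bool :=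
  (List.finRange 6).all fun i =>
    (List.finRange 4).all fun j => (List.finRange 3).all fun r =>
      word (info fun p => sgnOf m p * word (unitInfo i) p) (j, r) == sgnOf m (j, r) * word (unitInfo i) (j, r)

theorem keeps_only : (List.range 4096).all (fun m => !keeps m || m == 0 || m == 4095) = true := by
  decide +kernel

theorem pos_lt : ∀ p, pos p < 12 := by decide +kernel

theorem testBit_full : ∀ p, (4095 : ℕ).testBit (pos p) = true := by decide +kernel

theorem pos_eq : ∀ p q, pos p = pos q → p = q := by decide +kernel

/-- The only sign changes preserving the length-12 ternary code are the identity and negation of all coordinates. -/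
theorem result (c : Cfsg.ArrayPt → (ZMod 3)ˣ) (h : (∀ x ∈ Cfsg.ternaryGolayCode, Cfsg.monomialMap 1 c x ∈ Cfsg.ternaryGolayCode)) : (∀ p, c p = 1) ∨ (∀ p, c p = -1) := by
  classical
  have hunits : ∀ u : (ZMod 3)ˣ, u = 1 ∨ u = -1 := by decide
  set m := Nat.ofBits fun k : Fin 12 => decide (∃ p, pos p = k ∧ c p = -1) with hm
  have hbit : ∀ p, (c p : ZMod 3) = sgnOf m p := fun p => by
    rw [sgnOf, hm, Nat.testBit_ofBits_lt _ _ (pos_lt p)]
    by_cases hq : ∃ q, pos q = pos p ∧ c q = -1
    · rw [if_pos (decide_eq_true hq)]
      obtain ⟨q, hq, hc⟩ := hq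
      rw [← pos_eq q p hq, hc]
      rfl
    · rw [if_neg (fun h => hq (of_decide_eq_true h))]
      rcases hunits (c p) with h' | h'
      · rw [h']; rfl
      · exact absurd ⟨p, rfl, h'⟩ hq
  have hk : keeps m = true := by
    simp only [keeps, List.all_eq_true, beq_iff_eq]
    intro i _ j _ r _
    have := (mem_iff _).1 (h _ (word_mem (unitInfo i)))
    have e : Cfsg.monomialMap 1 c (word (unitInfo i)) = fun p => sgnOf m p * word (unitInfo i) p := by
      funext p
      rw [← hbit]
      rfl
    rw [e] at this
    exact congrFun this (j, r)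
  have hlt : m < 4096 := Nat.ofBits_lt_two_pow _
  have := List.all_eq_true.1 keeps_only m (List.mem_range.2 hlt)
  simp only [hk, Bool.not_true, Bool.false_or, Bool.or_eq_true, beq_iff_eq] at this
  rcases this with h0 | h1
  · refine Or.inl fun p => Units.ext ?_
    rw [hbit, h0, sgnOf, Nat.zero_testBit]
    rfl
  · refine Or.inr fun p => Units.ext ?_
    rw [hbit, h1, sgnOf, testBit_full]
    rfl

end Cfsg.Agent.S1593
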