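import Cfsg.Statements.S0298
import Cfsg.Agent.Lib.Forms.ExcSL2
-- import your own Cfsg.Agent.* helpers here

set_option autoImplicit false
set_option maxHeartbeats 1000000
open Cfsg

open scoped Matrix MatrixGroups

namespace Cfsg.Agent.S0298

/-- PΩ_3(q) is isomorphic to PSL_2(q) for q odd. -/
theorem result {F : Type*} [Field F] [Fintype F] (hodd : Odd (Fintype.card F)) : Nonempty (Cfsg.POmega F (Cfsg.quadFormOdd 1 F) ≃* Matrix.ProjectiveSpecialLinearGroup (Fin 2) F) := by
  classical
  rw [show quadFormOdd 1 F = ⇑(Forms.quadOdd 1 F) from (funext Forms.quadOdd_apply).symm]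
  have h2 : (2 : F) ≠ 0 := Forms.two_ne_zero_of_odd_card hodd
  let i1 : Unit ⊕ (Fin 1 ⊕ Fin 1) := .inl ()
  let j1 : Unit ⊕ (Fin 1 ⊕ Fin 1) := .inr (.inl 0)
  let k1 : Unit ⊕ (Fin 1 ⊕ Fin 1) := .inr (.inr 0)
  let L : (Unit ⊕ (Fin 1 ⊕ Fin 1) → F) →ₗ[F] Matrix (Fin 2) (Fin 2) F :=
    { toFun := fun v => !![v i1, v j1; v k1, -(v i1)]
      map_add' := fun u v => by ext a b; fin_cases a <;> fin_cases b <;> simp [add_comm]
      map_smul' := fun c v => by ext a b; fin_cases a <;> fin_cases b <;> simp }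
  have hL : Function.Injective L := fun u v h => by
    funext x
    rcases x with x | x | x
    · simpa [L, i1] using congrFun (congrFun h 0) 0
    · obtain rfl : x = 0 := Subsingleton.elim _ _
      simpa [L, j1] using congrFun (congrFun h 0) 1
    · obtain rfl : x = 0 := Subsingleton.elim _ _
      simpa [L, k1] using congrFun (congrFun h 1) 0
  let A : SL(2, F) →* Module.End F (Matrix (Fin 2) (Fin 2) F) :=
    { toFun := fun g => (LinearMap.mulLeft F g.1).comp (LinearMap.mulRight F (g⁻¹).1)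
      map_one' := LinearMap.ext fun M => by simp
      map_mul' := fun g h => LinearMap.ext fun M => by
        simp only [mul_inv_rev, Matrix.SpecialLinearGroup.coe_mul]
        simp [mul_assoc] }
  have hA : ∀ g M, A g M = g.1 * M * (g⁻¹).1 := fun g M => (mul_assoc _ _ _).symm
  have hinv : ∀ g : SL(2, F), (g⁻¹).1 * g.1 = 1 := fun g => by
    rw [← Matrix.SpecialLinearGroup.coe_mul, inv_mul_cancel, Matrix.SpecialLinearGroup.coe_one]
  obtain ⟨ψ, hψ⟩ := Forms.exists_isometry_hom ⇑(Forms.quadOdd 1 F) (fun M : Matrix (Fin 2) (Fin 2) F => -M.det) id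
    Function.injective_id L hL (fun v => by
      rw [Forms.quadOdd_apply]
      simp [L, i1, j1, k1, quadFormOdd, Matrix.det_fin_two]
      ring) A
    (fun g v => by
      have htr : (A g (L v)).trace = 0 := by
        rw [hA, Matrix.trace_mul_cycle, hinv, one_mul]
        simp [L, Matrix.trace_fin_two]
      generalize A g (L v) = M at htr
      refine ⟨Sum.elim (fun _ => M 0 0) (Sum.elim (fun _ => M 0 1) (fun _ => M 1 0)), ?_⟩
      rw [Matrix.trace_fin_two] at htr
      ext a b
      fin_cases a <;> fin_cases b <;> simp [L, i1, j1, k1]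
      linear_combination htr)
    (fun g v => by
      show -(A g (L v)).det = -(L v).det
      rw [hA, Matrix.det_mul, Matrix.det_mul, g.2, (g⁻¹).2, one_mul, mul_one])
  have hker : ∀ g ∈ ψ.ker, g ∈ Subgroup.center SL(2, F) ∧ g.1 0 0 * g.1 0 0 = 1 ∧
      g.1 = g.1 0 0 • (1 : Matrix (Fin 2) (Fin 2) F) := by
    intro g hg
    have hc : ∀ v, g.1 * L v = L v * g.1 := fun v => by
      have h := Forms.apply_eq_of_mem_ker hψ hg v
      rw [hA] at h
      conv_rhs => rw [← h]
      rw [mul_assoc, hinv, mul_one]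
    have e1 := hc (Pi.single j1 1)
    have h10 : g.1 1 0 = 0 := by
      simpa [L, i1, j1, k1, Matrix.mul_apply, Fin.sum_univ_two, eq_comm] using congrFun (congrFun e1 0) 0
    have hd : g.1 0 0 = g.1 1 1 := by
      simpa [L, i1, j1, k1, Matrix.mul_apply, Fin.sum_univ_two] using congrFun (congrFun e1 0) 1
    have e2 := hc (Pi.single k1 1)
    have h01 : g.1 0 1 = 0 := by
      simpa [L, i1, j1, k1, Matrix.mul_apply, Fin.sum_univ_two] using congrFun (congrFun e2 0) 0
    refine ⟨(Forms.sl2_mem_center h01 h10 hd).1, (Forms.sl2_mem_center h01 h10 hd).2, ?_⟩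
    ext a b
    fin_cases a <;> fin_cases b <;> simp [h01, h10, hd]
  have hQ := Forms.quadOdd_nondegenerate h2 1
  have hn : 2 ≤ Fintype.card (Unit ⊕ (Fin 1 ⊕ Fin 1)) := by simp
  have h3 : 3 ≤ Fintype.card F := by
    have := Fintype.one_lt_card (α := F)
    obtain ⟨k, hk⟩ := hodd
    omega
  refine Forms.nonempty_equiv_commutator_quotient (k := Nat.card {c : F // c * c = 1}) ψ
    (Forms.sl2_range_le_omega _ hQ hn h3 ψ) (fun g hg => (hker g hg).1)
    (Forms.card_le_sq_one _ (fun g => g.1 0 0)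
      (fun a ha b hb e => Subtype.ext (by rw [(hker a ha).2.2, (hker b hb).2.2]; exact congrArg (· • _) e))
      (fun g hg => (hker g hg).2.1))
    (Forms.omega_index_two_mul _ hQ hn (Or.inr (by simp))) ?_ Forms.center_psl2_eq_bot
  rw [Nat.card_congr (Forms.isometryGroupEquivQ (Forms.quadOdd 1 F) fun _ => rfl).toEquiv,
    Forms.card_isomQ_quadOdd h2, GL.card_SL2]
  simp
  ring

end Cfsg.Agent.S0298
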