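import Cfsg.Statements.S0300
import Cfsg.Agent.Lib.Forms.ExcSL2
import Cfsg.Agent.Lib.Forms.ExcExt
-- import your own Cfsg.Agent.* helpers here

set_option autoImplicit false
set_option maxHeartbeats 1000000
open Cfsg

open scoped Matrix MatrixGroups commutatorElement

namespace Cfsg.Agent.S0300

/-- PΩ^-_4(q) is isomorphic to PSL_2(q^2). -/
theorem result {F K : Type*} [Field F] [Fintype F] [Field K] [Fintype K] {q : ℕ} (hF : Fintype.card F = q) (hK : Fintype.card K = q ^ 2) (a b : F) (hab : ∀ z₁ z₂ : F, z₁ ^ 2 + a * z₁ * z₂ + b * z₂ ^ 2 = 0 → z₁ = 0 ∧ z₂ = 0) : Nonempty (Cfsg.POmega F (Cfsg.quadFormMinus 1 F a b) ≃* Matrix.ProjectiveSpecialLinearGroup (Fin 2) K) := by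
  classical
  obtain ⟨ι, ω, hfix, hσω, hωb, hbij, hfixed, hnorm⟩ := Forms.exists_quad_ext hF hK hab
  letI : Algebra F K := ι.toAlgebra
  set σ := Forms.qEnd hK with hσdef
  have hsm : ∀ (c : F) (k : K), c • k = ι c * k := fun c k => rfl
  have hσσ : ∀ k, σ (σ k) = k := Forms.qEnd_qEnd hK
  rw [show quadFormMinus 1 F a b = ⇑(Forms.quadMinus 1 F a b) from (funext Forms.quadMinus_apply).symm]
  let x₀ : (Fin 1 ⊕ Fin 1) ⊕ Fin 2 := .inl (.inl 0)
  let y₀ : (Fin 1 ⊕ Fin 1) ⊕ Fin 2 := .inl (.inr 0)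
  let w : ((Fin 1 ⊕ Fin 1) ⊕ Fin 2 → F) → K := fun v => ι (v (.inr 0)) + ι (v (.inr 1)) * ω
  let L : ((Fin 1 ⊕ Fin 1) ⊕ Fin 2 → F) →ₗ[F] Matrix (Fin 2) (Fin 2) K :=
    { toFun := fun v => !![ι (v x₀), w v; σ (w v), -ι (v y₀)]
      map_add' := fun u v => by ext i j; fin_cases i <;> fin_cases j <;> simp [w, hfix] <;> ring
      map_smul' := fun c v => by ext i j; fin_cases i <;> fin_cases j <;> simp [w, hsm, hfix] <;> ring }
  have hL : Function.Injective L := fun u v h => by
    have h0 : u x₀ = v x₀ := ι.injective (by simpa [L] using congrFun (congrFun h 0) 0)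
    have h1 : u y₀ = v y₀ := ι.injective (by simpa [L] using congrFun (congrFun h 1) 1)
    have h2 := hbij.1 (a₁ := (u (.inr 0), u (.inr 1))) (a₂ := (v (.inr 0), v (.inr 1)))
      (by simpa [L, w] using congrFun (congrFun h 0) 1)
    funext x
    rcases x with (x | x) | x
    · obtain rfl : x = 0 := Subsingleton.elim _ _
      exact h0
    · obtain rfl : x = 0 := Subsingleton.elim _ _
      exact h1
    · fin_cases x
      · exact congrArg Prod.fst h2
      · exact congrArg Prod.snd h2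
  have hrange : ∀ M : Matrix (Fin 2) (Fin 2) K, (M.map σ)ᵀ = M → ∃ v, M = L v := by
    intro M hM
    have e : ∀ i j, σ (M j i) = M i j := fun i j => congrFun (congrFun hM i) j
    obtain ⟨x, hx⟩ := hfixed _ (e 0 0)
    obtain ⟨y, hy⟩ := hfixed _ (e 1 1)
    obtain ⟨⟨z₁, z₂⟩, hz⟩ := hbij.2 (M 0 1)
    refine ⟨Sum.elim (Sum.elim (fun _ => x) (fun _ => -y)) ![z₁, z₂], ?_⟩
    simp only at hz
    ext i j
    fin_cases i <;> fin_cases j <;> simp [L, w, x₀, y₀, hx, hy, hz, -map_add, -map_mul]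
    exact (e 1 0).symm
  have hherm : ∀ v, ((L v).map σ)ᵀ = L v := fun v => by
    ext i j
    fin_cases i <;> fin_cases j <;> simp [L, hσσ, hfix, -map_add, -map_mul]
  let A : SL(2, K) →* Module.End F (Matrix (Fin 2) (Fin 2) K) :=
    (Forms.congrAction (F := F) σ).comp Matrix.SpecialLinearGroup.coeMonoidHom
  have hA : ∀ (g : SL(2, K)) M, A g M = g.1 * M * (g.1.map σ)ᵀ := fun g M =>
    Forms.congrAction_apply σ g.1 M
  have hAh : ∀ (g : SL(2, K)) (M : Matrix (Fin 2) (Fin 2) K), (M.map σ)ᵀ = M → ((A g M).map σ)ᵀ = A g M := by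
    intro g M hM
    have hgg : (g.1.map σ).map σ = g.1 := by ext i j; simp [hσσ]
    rw [hA, Matrix.map_mul, Matrix.map_mul, Matrix.transpose_mul, Matrix.transpose_mul, hM, ← Matrix.transpose_map,
      Matrix.transpose_transpose, hgg, mul_assoc]
  obtain ⟨ψ, hψ⟩ := Forms.exists_isometry_hom ⇑(Forms.quadMinus 1 F a b)
    (fun M : Matrix (Fin 2) (Fin 2) K => -M.det) ι ι.injective L hL
    (fun v => by
      rw [Forms.quadMinus_apply]
      simp only [quadFormMinus, Fin.sum_univ_one, map_add, map_mul]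
      have h := hnorm (v (.inr 0)) (v (.inr 1))
      simp [L, w, x₀, y₀, Matrix.det_fin_two, hfix] at h ⊢
      linear_combination -h) A
    (fun g v => hrange _ (hAh g _ (hherm v)))
    (fun g v => by
      show -(A g (L v)).det = -(L v).det
      rw [hA, Matrix.det_mul, Matrix.det_mul, Matrix.det_transpose, g.2,
        show (g.1.map σ).det = 1 from ((RingHom.map_det σ g.1).symm.trans (by rw [g.2, map_one])), one_mul, mul_one])
  have hker : ∀ g ∈ ψ.ker, g ∈ Subgroup.center SL(2, K) ∧ g.1 0 0 * g.1 0 0 = 1 ∧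
      g.1 = g.1 0 0 • (1 : Matrix (Fin 2) (Fin 2) K) := by
    intro g hg
    have hc : ∀ M : Matrix (Fin 2) (Fin 2) K, (M.map σ)ᵀ = M → g.1 * M * (g.1.map σ)ᵀ = M := fun M hM => by
      obtain ⟨v, rfl⟩ := hrange M hM
      rw [← hA]
      exact Forms.apply_eq_of_mem_ker hψ hg v
    have h1 : (g.1.map σ)ᵀ * g.1 = 1 := mul_eq_one_comm.1 (by simpa using hc 1 (by simp [Matrix.map_one]))
    have hcomm : ∀ M, (M.map σ)ᵀ = M → g.1 * M = M * g.1 := fun M hM => by
      conv_rhs => rw [← hc M hM]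
      rw [mul_assoc, h1, mul_one]
    have e1 := hcomm !![1, 0; 0, 0] (by ext i j; fin_cases i <;> fin_cases j <;> simp)
    have e2 := hcomm !![0, 1; 1, 0] (by ext i j; fin_cases i <;> fin_cases j <;> simp)
    have h10 : g.1 1 0 = 0 := by
      simpa [Matrix.mul_apply, Fin.sum_univ_two] using congrFun (congrFun e1 1) 0
    have h01 : g.1 0 1 = 0 := by
      simpa [Matrix.mul_apply, Fin.sum_univ_two, eq_comm] using congrFun (congrFun e1 0) 1
    have hd : g.1 0 0 = g.1 1 1 := by
      simpa [Matrix.mul_apply, Fin.sum_univ_two] using congrFun (congrFun e2 0) 1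
    refine ⟨(Forms.sl2_mem_center h01 h10 hd).1, (Forms.sl2_mem_center h01 h10 hd).2, ?_⟩
    ext i j
    fin_cases i <;> fin_cases j <;> simp [h01, h10, hd]
  have hQ := Forms.quadMinus_nondegenerate 1 hab
  have hn : 2 ≤ Fintype.card ((Fin 1 ⊕ Fin 1) ⊕ Fin 2) := by simp
  have hq : 1 < q := hF ▸ Fintype.one_lt_card
  have hK4 : 4 ≤ Fintype.card K := by rw [hK]; nlinarith
  have hperf : commutator SL(2, K) = ⊤ := GL.SL_commutator_eq_top 2 le_rfl fun _ =>
    GL.exists_sq_ne_one_of_four_le_card (by rwa [Nat.card_eq_fintype_card])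
  have hsq : Nat.card {c : K // c * c = 1} = Nat.card {c : F // c * c = 1} :=
    (Nat.card_congr (Equiv.ofBijective
      (fun c : {c : F // c * c = 1} => (⟨ι c.1, by rw [← map_mul, c.2, map_one]⟩ : {c : K // c * c = 1}))
      ⟨fun c d h => Subtype.ext (ι.injective (congrArg Subtype.val h)), fun c => by
        rcases mul_self_eq_one_iff.1 c.2 with h | h
        · exact ⟨⟨1, one_mul 1⟩, Subtype.ext (by simp [h])⟩
        · exact ⟨⟨-1, by simp⟩, Subtype.ext (by simp [h])⟩⟩)).symm
  have hkcard : Nat.card ψ.ker ≤ Nat.card {c : F // c * c = 1} := hsq ▸ Forms.card_le_sq_one _ (fun g => g.1 0 0)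
    (fun u hu v hv e => Subtype.ext (by rw [(hker u hu).2.2, (hker v hv).2.2]; exact congrArg (· • _) e))
    (fun g hg => (hker g hg).2.1)
  have hO : Nat.card (isometryGroup F ⇑(Forms.quadMinus 1 F a b)) = 2 * Nat.card SL(2, K) := by
    rw [Nat.card_congr (Forms.isometryGroupEquivQ (Forms.quadMinus 1 F a b) fun _ => rfl).toEquiv,
      Forms.card_isomQ_quadMinus 1 hab, GL.card_SL2, hK, hF]
    simp
    rw [mul_assoc, mul_assoc, ← Nat.sq_sub_sq, one_pow]
  have hrg : ψ.range ≤ commutator _ := Forms.range_le_commutator_of_perfect ψ hperf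
  have hi : (Omega F ⇑(Forms.quadMinus 1 F a b)).index = 2 * Nat.card {c : F // c * c = 1} := by
    by_cases h2 : q = 2
    · have hchar : (2 : F) = 0 := by
        have := FiniteField.cast_card_eq_zero F
        rw [hF, h2] at this
        exact_mod_cast this
      have hk1 := Forms.card_sq_eq_one_le.2 hchar
      rw [hk1] at hkcard ⊢
      have hinj : ψ.ker = ⊥ := Subgroup.card_eq_one.1 (le_antisymm hkcard Nat.card_pos)
      have hidx : ψ.range.index = 2 := by
        have h := Subgroup.card_mul_index ψ.range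
        rw [← Nat.card_congr (MonoidHom.ofInjective ((MonoidHom.ker_eq_bot_iff ψ).1 hinj)).toEquiv, hO,
          mul_comm 2] at h
        exact Nat.eq_of_mul_eq_mul_left Nat.card_pos h
      haveI := Subgroup.normal_of_index_eq_two hidx
      haveI : Fact (Nat.Prime 2) := ⟨Nat.prime_two⟩
      haveI : IsCyclic (_ ⧸ ψ.range) := isCyclic_of_prime_card (p := 2) hidx
      have hle : Omega F ⇑(Forms.quadMinus 1 F a b) ≤ ψ.range := by
        show commutator _ ≤ _
        rw [commutator_def, Subgroup.commutator_le]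
        intro u _ v _
        rw [← QuotientGroup.eq_one_iff]
        show QuotientGroup.mk' ψ.range ⁅u, v⁆ = 1
        rw [map_commutatorElement, commutatorElement_eq_one_iff_mul_comm]
        obtain ⟨g, hg⟩ := IsCyclic.exists_generator (α := _ ⧸ ψ.range)
        obtain ⟨i, hi⟩ := hg (QuotientGroup.mk' ψ.range u)
        obtain ⟨j, hj⟩ := hg (QuotientGroup.mk' ψ.range v)
        rw [← hi, ← hj]
        exact ((Commute.refl g).zpow_zpow i j).eq
      exact (le_antisymm hle hrg) ▸ hidx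
    · exact Forms.omega_index_two_mul _ hQ hn (Or.inl (by rw [hF]; exact h2))
  exact Forms.nonempty_equiv_commutator_quotient ψ hrg (fun g hg => (hker g hg).1) hkcard hi
    (by rw [hO]; ring) (Forms.center_quotient_eq_bot_of_perfect hperf)

end Cfsg.Agent.S0300
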