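import Cfsg.Statements.S4211
import Mathlib
-- import your own Cfsg.Agent.* helpers here

set_option autoImplicit false
open Cfsg

namespace Cfsg.Agent.S4211

open Subgroup

theorem mul_pow_central {G : Type*} [Group G] {b d z : G} (h : d * b = z * b * d)
    (hzb : Commute z b) (hzd : Commute z d) :
    ∀ N : ℕ, (b * d) ^ N = z ^ N.choose 2 * b ^ N * d ^ N := by
  have hdb : ∀ j : ℕ, d ^ j * b = z ^ j * b * d ^ j := by
    intro j
    induction j with
    | zero => simp
    | succ j ih =>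
      calc d ^ (j + 1) * b = d ^ j * (d * b) := by rw [pow_succ, mul_assoc]
        _ = (d ^ j * z) * b * d := by rw [h]; group
        _ = z * (d ^ j * b) * d := by rw [(hzd.pow_right j).eq.symm]; group
        _ = z * (z ^ j * b * d ^ j) * d := by rw [ih]
        _ = z ^ (j + 1) * b * d ^ (j + 1) := by rw [pow_succ' z, pow_succ d]; group
  intro N
  induction N with
  | zero => simp
  | succ N ih =>
    calc (b * d) ^ (N + 1) = z ^ N.choose 2 * b ^ N * (d ^ N * b) * d := by rw [pow_succ, ih]; group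
      _ = z ^ N.choose 2 * (b ^ N * z ^ N) * b * d ^ N * d := by rw [hdb]; group
      _ = z ^ N.choose 2 * (z ^ N * b ^ N) * b * d ^ N * d := by rw [(hzb.pow_pow N N).eq]
      _ = z ^ (N + 1).choose 2 * b ^ (N + 1) * d ^ (N + 1) := by
        rw [Nat.choose_succ_succ' N 1, Nat.choose_one_right, add_comm N (N.choose 2), pow_add,
          pow_succ b, pow_succ d]
        group

/-- In a finite group with all subgroups normal, noncommuting elements yield a quaternion pair. -/
theorem exists_q8 {G : Type*} [Group G] [Finite G] (hn : ∀ K : Subgroup G, K.Normal) (H : Subgroup G)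
    (h : ∃ a ∈ H, ∃ b ∈ H, a * b ≠ b * a) :
    ∃ a ∈ H, ∃ b ∈ H, orderOf a = 4 ∧ orderOf b = 4 ∧ a ^ 2 = b ^ 2 ∧ a * b = b ^ 3 * a ∧ a * b ≠ b * a := by
  classical
  obtain ⟨x, hx, y, hy, hxy⟩ := h
  have hex : ∃ n, ∃ a ∈ H, ∃ b ∈ H, a * b ≠ b * a ∧ orderOf a + orderOf b = n :=
    ⟨_, x, hx, y, hy, hxy, rfl⟩
  obtain ⟨a, ha, b, hb, hab, hsum⟩ := Nat.find_spec hex
  have hmin : ∀ a' ∈ H, ∀ b' ∈ H, orderOf a' + orderOf b' < orderOf a + orderOf b → a' * b' = b' * a' :=
    fun a' ha' b' hb' hlt => by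
      by_contra hne
      exact Nat.find_min hex (hsum ▸ hlt) ⟨a', ha', b', hb', hne, rfl⟩
  clear hsum
  wlog hle : orderOf b ≤ orderOf a generalizing a b
  · exact this b hb a ha (Ne.symm hab) (fun a' ha' b' hb' hlt => hmin a' ha' b' hb' (by omega)) (by omega)
  set c := a * b * a⁻¹ * b⁻¹ with hc
  have hcc : c = a * (b * a⁻¹ * b⁻¹) := by rw [hc]; group
  have hca : c ∈ zpowers a := by
    rw [hcc]
    exact mul_mem (mem_zpowers a) ((hn (zpowers a)).conj_mem _ (inv_mem (mem_zpowers a)) b)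
  have hcb : c ∈ zpowers b :=
    mul_mem ((hn (zpowers b)).conj_mem _ (mem_zpowers b) a) (inv_mem (mem_zpowers b))
  have hc1 : c ≠ 1 := fun h => hab (by
    calc a * b = c * (b * a) := by rw [hc]; group
      _ = b * a := by rw [h, one_mul])
  have hcomma : Commute c a := by
    obtain ⟨i, hi⟩ := mem_zpowers_iff.1 hca
    rw [← hi]; exact (Commute.refl a).zpow_left i
  have hcommb : Commute c b := by
    obtain ⟨i, hi⟩ := mem_zpowers_iff.1 hcb
    rw [← hi]; exact (Commute.refl b).zpow_left i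
  have hpowl : ∀ i : ℕ, a ^ i * b = c ^ i * b * a ^ i := by
    intro i
    induction i with
    | zero => simp
    | succ i ih =>
      calc a ^ (i + 1) * b = a * (a ^ i * b) := by rw [pow_succ', mul_assoc]
        _ = a * c ^ i * b * a ^ i := by rw [ih]; group
        _ = c ^ i * (a * b) * a ^ i := by rw [(hcomma.pow_left i).eq.symm]; group
        _ = c ^ i * (c * b * a) * a ^ i := by rw [show a * b = c * b * a by rw [hc]; group]
        _ = c ^ (i + 1) * b * a ^ (i + 1) := by rw [pow_succ c, pow_succ' a]; group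
  have hpowr : ∀ i : ℕ, a * b ^ i = c ^ i * b ^ i * a := by
    intro i
    induction i with
    | zero => simp
    | succ i ih =>
      calc a * b ^ (i + 1) = (a * b ^ i) * b := by rw [pow_succ, mul_assoc]
        _ = c ^ i * b ^ i * (a * b) := by rw [ih]; group
        _ = c ^ i * (b ^ i * c) * b * a := by rw [show a * b = c * b * a by rw [hc]; group]; group
        _ = c ^ i * (c * b ^ i) * b * a := by rw [(hcommb.pow_right i).eq]
        _ = c ^ (i + 1) * b ^ (i + 1) * a := by rw [pow_succ c, pow_succ b]; group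
  have hproper : ∀ (u : G) (q : ℕ), q.Prime → q ∣ orderOf u → orderOf (u ^ q) < orderOf u := by
    intro u q hq hd
    rw [orderOf_pow_of_dvd hq.ne_zero hd]
    exact Nat.div_lt_self (orderOf_pos u) hq.one_lt
  have hqa : ∀ q : ℕ, q.Prime → q ∣ orderOf a → c ^ q = 1 := by
    intro q hq hd
    have h1 := hmin _ (pow_mem ha q) b hb (by have := hproper a q hq hd; omega)
    rw [hpowl] at h1
    exact mul_eq_right.1 (mul_right_cancel h1)
  have hqb : ∀ q : ℕ, q.Prime → q ∣ orderOf b → c ^ q = 1 := by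
    intro q hq hd
    have h1 := hmin a ha _ (pow_mem hb q) (by have := hproper b q hq hd; omega)
    rw [hpowr] at h1
    exact mul_eq_right.1 (mul_right_cancel h1)
  have ha1 : orderOf a ≠ 1 := fun h => hab (by rw [orderOf_eq_one_iff.1 h, one_mul, mul_one])
  have hb1 : orderOf b ≠ 1 := fun h => hab (by rw [orderOf_eq_one_iff.1 h, one_mul, mul_one])
  obtain ⟨p, hp, hpa⟩ := Nat.exists_prime_and_dvd ha1
  have := Fact.mk hp
  have hcp : orderOf c = p := orderOf_eq_prime (hqa p hp hpa) hc1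
  have huniq : ∀ u : G, (∀ q : ℕ, q.Prime → q ∣ orderOf u → c ^ q = 1) → ∃ m, orderOf u = p ^ m := by
    intro u hu
    refine ⟨_, Nat.eq_prime_pow_of_unique_prime_dvd (orderOf_pos u).ne' fun {d} hd hdv => ?_⟩
    have h1 := orderOf_dvd_of_pow_eq_one (hu d hd hdv)
    rw [hcp] at h1
    exact ((Nat.prime_dvd_prime_iff_eq hp hd).1 h1).symm
  obtain ⟨m, hm⟩ := huniq a hqa
  obtain ⟨n, hnn⟩ := huniq b hqb
  rcases n with _ | r
  · exact absurd (by rw [hnn, pow_zero]) hb1
  rcases r with _ | r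
  · exfalso
    have hz : zpowers c = zpowers b :=
      eq_of_le_of_card_ge (zpowers_le.2 hcb) (by rw [Nat.card_zpowers, Nat.card_zpowers, hcp, hnn, pow_one])
    obtain ⟨i, hi⟩ := mem_zpowers_iff.1 (hz ▸ mem_zpowers b : b ∈ zpowers c)
    exact hab (hi ▸ (hcomma.zpow_left i).eq.symm)
  have hmn : r + 2 ≤ m := by
    rw [hm, hnn] at hle
    exact (Nat.pow_le_pow_iff_right hp.one_lt).1 hle
  obtain ⟨d0, hd0⟩ := Nat.exists_eq_add_of_le hmn
  set N := p ^ (r + 1) with hN
  -- the unique subgroup of order p in the cyclic groups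
  have hsub : ∀ (u : G) (l : ℕ), orderOf u = p ^ (l + 1) → ∀ v ∈ zpowers u, v ^ p = 1 → v ≠ 1 →
      zpowers v = zpowers (u ^ p ^ l) := by
    intro u l hu v hv hvp hv1
    refine eq_of_le_of_card_ge (zpowers_le.2 ?_) ?_
    · obtain ⟨i, rfl⟩ := mem_powers_iff_mem_zpowers.2 hv
      show u ^ i ∈ _
      have h1 : p ^ (l + 1) ∣ i * p := by
        rw [← hu]; exact orderOf_dvd_of_pow_eq_one (by rw [pow_mul]; exact hvp)
      rw [pow_succ] at h1
      obtain ⟨j, rfl⟩ := Nat.dvd_of_mul_dvd_mul_right hp.pos h1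
      rw [pow_mul]
      exact pow_mem (mem_zpowers _) j
    · rw [Nat.card_zpowers, Nat.card_zpowers, orderOf_eq_prime hvp hv1,
        orderOf_pow_of_dvd (pow_ne_zero _ hp.ne_zero) (hu ▸ pow_dvd_pow p (Nat.le_succ l)), hu,
        pow_succ, Nat.mul_div_cancel_left _ (pow_pos hp.pos l)]
  have hA := hsub a (r + 1 + d0) (by rw [hm, hd0]; ring_nf) c hca (hqa p hp hpa) hc1
  have hB := hsub b (r + 1) hnn c hcb (hqa p hp hpa) hc1
  obtain ⟨k, hk⟩ : ∃ k : ℕ, a ^ (p ^ (r + 1 + d0) * k) = b ^ N := by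
    have : b ^ N ∈ zpowers (a ^ p ^ (r + 1 + d0)) := by rw [← hA, hB]; exact mem_zpowers _
    obtain ⟨k, hk⟩ := mem_powers_iff_mem_zpowers.2 this
    exact ⟨k, by rw [pow_mul]; exact hk⟩
  obtain ⟨M, hM⟩ : ∃ M, orderOf a = M + 1 := ⟨orderOf a - 1, by have := orderOf_pos a; omega⟩
  set i0 := p ^ d0 * k * M with hi0
  set d := a ^ i0 with hd
  have hz : d * b = c ^ i0 * b * d := hpowl i0
  have hdN : d ^ N = (b ^ N)⁻¹ := by
    rw [eq_inv_iff_mul_eq_one, ← hk, hd, hN, ← pow_mul, ← pow_add, ← orderOf_dvd_iff_pow_eq_one, hM]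
    refine ⟨p ^ (r + 1 + d0) * k, ?_⟩
    rw [hi0]; ring
  have hbd : (b * d) ^ N = (c ^ i0) ^ N.choose 2 := by
    rw [mul_pow_central hz (hcommb.pow_left i0) ((hcomma.pow_left i0).pow_right i0), hdN,
      mul_inv_cancel_right]
  by_cases hvan : (c ^ i0) ^ N.choose 2 = 1
  · exfalso
    rw [hvan] at hbd
    have h1 : orderOf (b * d) < orderOf b := by
      rw [hnn]
      refine lt_of_le_of_lt (Nat.le_of_dvd (pow_pos hp.pos _) (orderOf_dvd_of_pow_eq_one hbd)) ?_
      exact Nat.pow_lt_pow_right hp.one_lt (by omega)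
    have h2 := hmin a ha (b * d) (mul_mem hb (pow_mem ha _)) (by omega)
    apply hab
    have h3 : a * d = d * a := ((Commute.refl a).pow_right i0).eq
    rw [← mul_assoc, mul_assoc b d a, ← h3, ← mul_assoc] at h2
    exact mul_right_cancel h2
  -- only p = 2, both of order 4 remain
  have hnd : ¬ p ∣ i0 * N.choose 2 := fun hd' => hvan (by
    rw [← pow_mul, ← orderOf_dvd_iff_pow_eq_one, hcp]; exact hd')
  have hd00 : d0 = 0 := by
    by_contra h0
    exact hnd ((((dvd_pow_self p h0).mul_right k).mul_right M).mul_right _)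
  have hpodd : p = 2 := by
    by_contra h2
    refine hnd (Dvd.dvd.mul_left ?_ _)
    rw [Nat.choose_two_right, hN]
    have hdv : p ∣ p ^ (r + 1) * (p ^ (r + 1) - 1) := Dvd.dvd.mul_right (dvd_pow_self p (by omega)) _
    have h2d : 2 ∣ p ^ (r + 1) * (p ^ (r + 1) - 1) := by
      rcases Nat.even_or_odd (p ^ (r + 1)) with he | ho
      · exact (even_iff_two_dvd.1 he).mul_right _
      · refine Dvd.dvd.mul_left ?_ _
        exact even_iff_two_dvd.1 (Nat.Odd.sub_odd ho odd_one)
    obtain ⟨e, he⟩ := h2d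
    rw [he, Nat.mul_div_cancel_left _ (by norm_num)]
    rw [he] at hdv
    exact (hp.dvd_mul.1 hdv).resolve_left fun h => h2 ((Nat.prime_dvd_prime_iff_eq hp Nat.prime_two).1 h)
  subst hpodd
  have hr0 : r = 0 := by
    by_contra h0
    refine hnd (Dvd.dvd.mul_left ?_ _)
    rw [Nat.choose_two_right, hN, pow_succ', mul_assoc, Nat.mul_div_cancel_left _ (by norm_num)]
    exact (dvd_pow_self 2 h0).mul_right _
  subst hr0
  subst hd00
  have hsq : ∀ v : G, zpowers c = zpowers v → v = c := by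
    intro v hv
    obtain ⟨i, hi⟩ := mem_zpowers_iff.1 (hv ▸ mem_zpowers v : v ∈ zpowers c)
    have hv1 : v ≠ 1 := fun h => hc1 (by
      have := hv ▸ mem_zpowers c
      rw [h, zpowers_one_eq_bot, mem_bot] at this
      exact this)
    rcases Int.even_or_odd i with ⟨j, hj⟩ | ⟨j, hj⟩
    · exact absurd (by rw [← hi, hj, ← two_mul, zpow_mul, zpow_ofNat, hqa 2 hp hpa, one_zpow]) hv1
    · rw [← hi, hj, zpow_add, zpow_mul, zpow_ofNat, hqa 2 hp hpa, one_zpow, one_mul, zpow_one]
  have h4a : orderOf a = 4 := by rw [hm, hd0]; norm_num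
  have h4b : orderOf b = 4 := by rw [hnn]; norm_num
  have hac : a ^ 2 = c := hsq _ (by simpa using hA)
  have hbc : b ^ 2 = c := hsq _ (by simpa using hB)
  refine ⟨a, ha, b, hb, h4a, h4b, hac.trans hbc.symm, ?_, hab⟩
  have hb3 : b ^ 3 = c * b := by rw [pow_succ, hbc]
  rw [hb3, hc]; group

theorem q8_center (q : QuaternionGroup 2) (h1 : q * QuaternionGroup.a 1 = QuaternionGroup.a 1 * q)
    (h2 : q * QuaternionGroup.xa 0 = QuaternionGroup.xa 0 * q) : q = 1 ∨ q = QuaternionGroup.a 2 := by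
  revert q
  decide

theorem dedekind_baer {G : Type*} [Group G] [Finite G] (hna : ¬ IsMulCommutative G)
    (hn : ∀ H : Subgroup G, H.Normal) : ∃ Q E A : Subgroup G, Nonempty (Q ≃* QuaternionGroup 2) ∧
      Cfsg.IsElementaryAbelian 2 E ∧ IsMulCommutative A ∧ Odd (Nat.card A) ∧ E ⊓ A = ⊥ ∧
      Q ⊓ (E ⊔ A) = ⊥ ∧ Q ⊔ (E ⊔ A) = ⊤ := by
  classical
  obtain ⟨a, -, b, -, ha4, hb4, hab2, habr, hab⟩ := exists_q8 hn ⊤ (by
    by_contra h
    push Not at h
    exact hna ⟨⟨fun x y => h x (mem_top x) y (mem_top y)⟩⟩)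
  set c := a ^ 2 with hc
  have ha4' : a ^ 4 = 1 := ha4 ▸ pow_orderOf_eq_one a
  have hb4' : b ^ 4 = 1 := hb4 ▸ pow_orderOf_eq_one b
  have hc1 : c ≠ 1 := fun h => by
    have := Nat.le_of_dvd (by norm_num) (orderOf_dvd_of_pow_eq_one h)
    omega
  have hcc : c ^ 2 = 1 := by rw [hc, ← pow_mul, ha4']
  have hcinv : c⁻¹ = c := inv_eq_of_mul_eq_one_right (by rw [← pow_two, hcc])
  have hca : Commute c a := (Commute.refl a).pow_left 2
  have hcb : Commute c b := by rw [hab2]; exact (Commute.refl b).pow_left 2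
  have habc : a * b = c * b * a := by rw [habr, pow_succ b 2, ← hab2]
  have hbac : b * a = c * a * b := by
    rw [mul_assoc c, habc, ← mul_assoc, ← mul_assoc, ← pow_two, hcc, one_mul]
  -- the quaternion group
  let P : ZMod 4 → G := fun i => a ^ i.val
  have hPadd : ∀ i j, P (i + j) = P i * P j := by
    intro i j
    show a ^ (i + j).val = a ^ i.val * a ^ j.val
    rw [ZMod.val_add, ← pow_add, ← pow_eq_pow_mod _ ha4']
  have hP0 : P 0 = 1 := by simp [P]
  have hPsub : ∀ i j, P (i - j) = P i * (P j)⁻¹ := fun i j =>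
    eq_mul_inv_of_mul_eq (by rw [← hPadd, sub_add_cancel])
  have hPb : ∀ i, P i * b = b * (P i)⁻¹ := by
    intro i
    show a ^ i.val * b = b * (a ^ i.val)⁻¹
    have hbinv : a * b = b * a⁻¹ := by
      rw [habc, mul_assoc, hbac, ← mul_assoc, ← mul_assoc, ← pow_two, hcc, one_mul]
      rw [eq_mul_inv_iff_mul_eq, mul_assoc, hbac, ← mul_assoc, ← mul_assoc, ← hca.eq, mul_assoc c, ← pow_two, ← hc,
        ← pow_two, hcc, one_mul]
    rw [← inv_pow]
    exact ((show SemiconjBy b a⁻¹ a from hbinv.symm).pow_right i.val).symm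
  let f : QuaternionGroup 2 →* G :=
    { toFun := fun x => match x with
        | QuaternionGroup.a i => P i
        | QuaternionGroup.xa i => b * P i
      map_one' := hP0
      map_mul' := by
        rintro (i | i) (j | j)
        · exact hPadd i j
        · show b * P (j - i) = P i * (b * P j)
          rw [← mul_assoc, hPb, mul_assoc, sub_eq_neg_add, hPadd, ← zero_sub, hPsub, hP0, one_mul]
        · show b * P (i + j) = b * P i * P j
          rw [hPadd, mul_assoc]
        · show P ((2 : ZMod 4) + j - i) = b * P i * (b * P j)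
          rw [mul_assoc b, ← mul_assoc (P i), hPb, ← mul_assoc, ← mul_assoc, ← pow_two b, ← hab2,
            show (2 : ZMod 4) + j - i = 2 + (0 - i) + j by ring, hPadd, hPadd, hPsub, hP0, one_mul]
          rfl }
  have hfinj : Function.Injective f := by
    refine (injective_iff_map_eq_one f).2 ?_
    rintro (i | i) hi
    · have h1 : a ^ i.val = 1 := hi
      rw [← orderOf_dvd_iff_pow_eq_one, ha4] at h1
      have h2 := ZMod.val_lt i
      have h3 : i.val = 0 := Nat.eq_zero_of_dvd_of_lt h1 h2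
      rw [(ZMod.val_eq_zero i).1 h3]
      rfl
    · exfalso
      have h1 : b * a ^ i.val = 1 := hi
      apply hab
      rw [eq_inv_of_mul_eq_one_left h1]
      exact ((Commute.refl a).pow_right _).inv_right.eq
  let Q := f.range
  have haQ : a ∈ Q := ⟨QuaternionGroup.a 1, by
    show a ^ (1 : ZMod 4).val = a
    rw [show (1 : ZMod 4).val = 1 from rfl, pow_one]⟩
  have hbQ : b ∈ Q := ⟨QuaternionGroup.xa 0, by
    show b * P 0 = b
    rw [hP0, mul_one]⟩
  have hcQ : c ∈ Q := pow_mem haQ 2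
  -- the centralizer
  set C := Subgroup.centralizer ({a, b} : Set G) with hC
  have memC : ∀ x, x ∈ C ↔ Commute a x ∧ Commute b x := by
    intro x
    rw [hC, mem_centralizer_iff]
    simp [Commute, SemiconjBy]
  have hcC : c ∈ C := (memC c).2 ⟨hca.symm, hcb.symm⟩
  have hconj : ∀ (g u : G), orderOf u = 4 → g * u * g⁻¹ = u ∨ g * u * g⁻¹ = u ^ 3 := by
    intro g u hu
    obtain ⟨i, hi⟩ := mem_powers_iff_mem_zpowers.2 ((hn (zpowers u)).conj_mem u (mem_zpowers u) g)
    have hi' : u ^ i = g * u * g⁻¹ := hi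
    have ho : orderOf (u ^ i) = 4 := by
      rw [hi', ← hu]
      exact orderOf_injective (MulAut.conj g).toMonoidHom (MulAut.conj g).injective u
    rw [← hi', pow_eq_pow_mod i (hu ▸ pow_orderOf_eq_one u)]
    rw [pow_eq_pow_mod i (hu ▸ pow_orderOf_eq_one u)] at ho
    have hlt : i % 4 < 4 := Nat.mod_lt _ (by norm_num)
    rw [orderOf_pow, hu] at ho
    interval_cases h : i % 4 <;> simp_all
  have hQC : Q ⊔ C = ⊤ := by
    rw [eq_top_iff]
    intro g _
    have ha3 : a ^ 3 = c * a := pow_succ a 2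
    have hb3 : b ^ 3 = c * b := by rw [pow_succ, hab2]
    have key : ∀ q : G, q ∈ Q → q * g * a * (q * g)⁻¹ = a → q * g * b * (q * g)⁻¹ = b → g ∈ Q ⊔ C := by
      intro q hq h1 h2
      have : q * g ∈ C := (memC _).2 ⟨(mul_inv_eq_iff_eq_mul.1 h1).symm, (mul_inv_eq_iff_eq_mul.1 h2).symm⟩
      have h3 := mul_mem (mem_sup_left (T := C) (inv_mem hq)) (mem_sup_right (S := Q) this)
      simpa using h3
    have hc_conj : ∀ q : G, Commute c q → ∀ u, q * (c * u) * q⁻¹ = c * (q * u * q⁻¹) := fun q hq u => by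
      rw [← mul_assoc q c, ← hq.eq]; group
    have hab' : a * b * a⁻¹ = c * b := by rw [habc, mul_inv_cancel_right]
    have hba' : b * a * b⁻¹ = c * a := by rw [hbac, mul_inv_cancel_right]
    have hsimp : ∀ q u : G, q * g * u * (q * g)⁻¹ = q * (g * u * g⁻¹) * q⁻¹ := fun q u => by group
    have hcc' : ∀ u : G, c * (c * u) = u := fun u => by rw [← mul_assoc, ← pow_two, hcc, one_mul]
    rcases hconj g a ha4 with h1 | h1 <;> rcases hconj g b hb4 with h2 | h2
    · exact key 1 Q.one_mem (by simpa using h1) (by simpa using h2)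
    · refine key a haQ ?_ ?_
      · rw [hsimp, h1, mul_inv_cancel_right]
      · rw [hsimp, h2, hb3, hc_conj a hca, hab', hcc']
    · refine key b hbQ ?_ ?_
      · rw [hsimp, h1, ha3, hc_conj b hcb, hba', hcc']
      · rw [hsimp, h2, mul_inv_cancel_right]
    · refine key (a * b) (mul_mem haQ hbQ) ?_ ?_
      · rw [hsimp, h1, ha3, hc_conj _ (hca.mul_right hcb),
          show a * b * a * (a * b)⁻¹ = a * (b * a * b⁻¹) * a⁻¹ by group, hba', hc_conj a hca,
          mul_inv_cancel_right, hcc']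
      · rw [hsimp, h2, hb3, hc_conj _ (hca.mul_right hcb),
          show a * b * b * (a * b)⁻¹ = a * (b * b * b⁻¹) * a⁻¹ by group, mul_inv_cancel_right, hab', hcc']
  -- no element of order 4 in C
  have hno4 : ∀ x ∈ C, x ^ 4 = 1 → x ^ 2 = 1 := by
    intro x hx hx4
    obtain ⟨hxa, hxb⟩ := (memC x).1 hx
    by_contra hx2
    have hne : (a * x) ^ 2 = c * x ^ 2 := by rw [hxa.mul_pow]
    have hax4 : (a * x) ^ 4 = 1 := by rw [hxa.mul_pow, ha4', hx4, one_mul]
    have hmem : c ∈ zpowers (a * x) := by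
      have h1 : b * (a * x) * b⁻¹ = c * (a * x) := by
        rw [mul_inv_eq_iff_eq_mul, ← mul_assoc b a x, hbac, mul_assoc (c * a) b x, hxb.eq]
        group
      have h2 := mul_mem ((hn (zpowers (a * x))).conj_mem _ (mem_zpowers (a * x)) b)
        (inv_mem (mem_zpowers (a * x)))
      rwa [h1, mul_inv_cancel_right] at h2
    obtain ⟨i, hi⟩ := mem_powers_iff_mem_zpowers.2 hmem
    have hi' : (a * x) ^ i = c := hi
    rw [pow_eq_pow_mod i hax4] at hi'
    have hlt : i % 4 < 4 := Nat.mod_lt _ (by norm_num)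
    have hodd : ∀ j : ℕ, j % 2 = 1 → (a * x) ^ j = c → False := by
      intro j hj hjc
      have h1 : ((a * x) ^ j) ^ 2 = 1 := by rw [hjc, hcc]
      rw [← pow_mul, ← orderOf_dvd_iff_pow_eq_one] at h1
      have h3 : orderOf (a * x) ∣ Nat.gcd (j * 2) 4 := Nat.dvd_gcd h1 (orderOf_dvd_of_pow_eq_one hax4)
      have h4 : Nat.gcd (j * 2) 4 = 2 := by
        rw [show (4 : ℕ) = 2 * 2 from rfl, Nat.gcd_mul_right, Nat.gcd_comm,
          Nat.Coprime.gcd_eq_one (Nat.coprime_two_left.2 (Nat.odd_iff.2 hj)), one_mul]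
      rw [h4, orderOf_dvd_iff_pow_eq_one, hne] at h3
      rw [show j = 2 * (j / 2) + 1 by omega, pow_add, pow_mul, hne, h3, one_pow, one_mul, pow_one] at hjc
      apply hab
      have : a = c * x⁻¹ := eq_mul_inv_of_mul_eq hjc
      rw [this]
      exact ((hcb.mul_left hxb.symm.inv_left)).eq
    interval_cases h : i % 4
    · exact hc1 (by simpa using hi'.symm)
    · exact hodd 1 rfl hi'
    · rw [hne] at hi'; exact hx2 (mul_eq_left.1 hi')
    · exact hodd 3 rfl hi'
  have hCcomm : ∀ x ∈ C, ∀ y ∈ C, x * y = y * x := by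
    by_contra h
    push Not at h
    obtain ⟨u, hu, v, hv, huv⟩ := h
    obtain ⟨a', ha', -, -, h4, -⟩ := exists_q8 hn C ⟨u, hu, v, hv, huv⟩
    have h2 := hno4 a' ha' (h4 ▸ pow_orderOf_eq_one a')
    have := Nat.le_of_dvd (by norm_num) (orderOf_dvd_of_pow_eq_one h2)
    omega
  let tor : ℕ → Subgroup G := fun m =>
    { carrier := {x | x ∈ C ∧ x ^ m = 1}
      one_mem' := ⟨C.one_mem, one_pow m⟩
      mul_mem' := by
        rintro u v ⟨hu, hu'⟩ ⟨hv, hv'⟩
        exact ⟨mul_mem hu hv, by rw [(show Commute u v from hCcomm u hu v hv).mul_pow, hu', hv', one_mul]⟩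
      inv_mem' := by
        rintro u ⟨hu, hu'⟩
        exact ⟨inv_mem hu, by rw [inv_pow, hu', inv_one]⟩ }
  set e := (Nat.card G).factorization 2 with he
  set m := Nat.card G / 2 ^ e with hm
  have hem : 2 ^ e * m = Nat.card G := Nat.ordProj_mul_ordCompl_eq_self _ 2
  have hm2 : ¬ 2 ∣ m := Nat.not_dvd_ordCompl Nat.prime_two Nat.card_pos.ne'
  have hcopr : (2 : ℕ).Coprime m := Nat.prime_two.coprime_iff_not_dvd.2 hm2
  set A := tor m with hA
  set E0 := tor 2 with hE0
  have hx2 : ∀ x ∈ C, x ^ (2 * m) = 1 := by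
    intro x hx
    have h1 : x ^ (2 ^ e * m) = 1 := by rw [hem]; exact pow_card_eq_one'
    have hred : ∀ (k : ℕ), ∀ y ∈ C, y ^ 2 ^ k = 1 → y ^ 2 = 1 := by
      intro k
      induction k with
      | zero => intro y _ h; rw [pow_zero, pow_one] at h; rw [h, one_pow]
      | succ k ih =>
        intro y hyC h
        rw [pow_succ', pow_mul] at h
        have h2 := ih (y ^ 2) (pow_mem hyC 2) h
        rw [← pow_mul] at h2
        exact hno4 y hyC h2
    rw [mul_comm, pow_mul] at h1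
    rw [mul_comm, pow_mul]
    exact hred e _ (pow_mem hx m) h1
  -- a complement of c in E0
  obtain ⟨E, hEmax⟩ := Set.Finite.exists_maximal (s := {E : Subgroup G | E ≤ E0 ∧ c ∉ E}) (Set.toFinite _)
    ⟨⊥, bot_le, fun h => hc1 (mem_bot.1 h)⟩
  obtain ⟨hEle, hcE⟩ := hEmax.1
  have hcover : ∀ x ∈ E0, x ∈ E ∨ c * x ∈ E := by
    intro x hx
    by_contra hcon
    push Not at hcon
    obtain ⟨hxE, hcxE⟩ := hcon
    have hz : E ⊔ zpowers x ≤ E0 := sup_le hEle (zpowers_le.2 hx)
    have hcin : c ∈ E ⊔ zpowers x := by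
      by_contra hc'
      exact hxE (hEmax.le_of_ge ⟨hz, hc'⟩ le_sup_left (mem_sup_right (mem_zpowers x)))
    have := hn E
    obtain ⟨u, hu, w, hw, huw⟩ := mem_sup_of_normal_left.1 hcin
    obtain ⟨i, rfl⟩ := mem_zpowers_iff.1 hw
    have hx2' : x ^ 2 = 1 := hx.2
    rcases Int.even_or_odd i with ⟨j, rfl⟩ | ⟨j, rfl⟩
    · rw [← two_mul, zpow_mul, zpow_ofNat, hx2', one_zpow, mul_one] at huw
      exact hcE (huw ▸ hu)
    · rw [zpow_add, zpow_mul, zpow_ofNat, hx2', one_zpow, one_mul, zpow_one] at huw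
      apply hcxE
      rw [← huw, mul_assoc, ← pow_two, hx2', mul_one]
      exact hu
  have hEA : E ⊔ A ≤ C := sup_le (fun x hx => (hEle hx).1) fun x hx => hx.1
  refine ⟨Q, E, A, ⟨(MonoidHom.ofInjective hfinj).symm⟩, ?_, ?_, ?_, ?_, ?_, ?_⟩
  · exact ⟨⟨⟨fun u v => Subtype.ext (hCcomm _ (hEle u.2).1 _ (hEle v.2).1)⟩⟩, fun x hx => (hEle hx).2⟩
  · exact ⟨⟨fun u v => Subtype.ext (hCcomm _ u.2.1 _ v.2.1)⟩⟩
  · rw [Nat.odd_iff, ← Nat.two_dvd_ne_zero]
    intro hd
    obtain ⟨z, hz⟩ := exists_prime_orderOf_dvd_card' (G := A) 2 hd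
    exact hm2 (hz ▸ orderOf_dvd_of_pow_eq_one (Subtype.ext (by simpa using z.2.2)))
  · rw [eq_bot_iff]
    rintro x ⟨hx, hxA⟩
    rw [mem_bot, ← orderOf_eq_one_iff]
    exact Nat.eq_one_of_dvd_coprimes hcopr (orderOf_dvd_of_pow_eq_one (hEle hx).2)
      (orderOf_dvd_of_pow_eq_one hxA.2)
  · rw [eq_bot_iff]
    rintro x ⟨hxQ, hxEA⟩
    rw [mem_bot]
    obtain ⟨hxa, hxb⟩ := (memC x).1 (hEA hxEA)
    obtain ⟨q, rfl⟩ := hxQ
    have hq : q * QuaternionGroup.a 1 = QuaternionGroup.a 1 * q ∧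
        q * QuaternionGroup.xa 0 = QuaternionGroup.xa 0 * q := by
      constructor <;> apply hfinj <;> rw [map_mul, map_mul]
      · rw [show f (QuaternionGroup.a 1) = a from by
          show a ^ (1 : ZMod 4).val = a
          rw [show (1 : ZMod 4).val = 1 from rfl, pow_one]]
        exact hxa.eq.symm
      · rw [show f (QuaternionGroup.xa 0) = b from by show b * P 0 = b; rw [hP0, mul_one]]
        exact hxb.eq.symm
    have hq' : q = 1 ∨ q = QuaternionGroup.a 2 := q8_center q hq.1 hq.2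
    rcases hq' with rfl | rfl
    · exact map_one f
    · exfalso
      have hfc : f (QuaternionGroup.a 2) = c := by
        show a ^ (2 : ZMod 4).val = c
        rw [show (2 : ZMod 4).val = 2 from rfl]
      rw [hfc] at hxEA
      have := hn A
      obtain ⟨u, hu, v, hv, huv⟩ := mem_sup_of_normal_right.1 hxEA
      have hv2 : v ^ 2 = 1 := by
        have h1 : (u * v) ^ 2 = 1 := by rw [huv, hcc]
        rwa [(show Commute u v from hCcomm u (hEle hu).1 v hv.1).mul_pow,
          show u ^ 2 = 1 from (hEle hu).2, one_mul] at h1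
      have hv1 : v = 1 := orderOf_eq_one_iff.1 (Nat.eq_one_of_dvd_coprimes hcopr
        (orderOf_dvd_of_pow_eq_one hv2) (orderOf_dvd_of_pow_eq_one hv.2))
      rw [hv1, mul_one] at huv
      exact hcE (huv ▸ hu)
  · rw [eq_top_iff, ← hQC]
    refine sup_le le_sup_left fun x hx => ?_
    obtain ⟨s, t, hst⟩ := Int.isCoprime_iff_gcd_eq_one.2 (show Int.gcd (2 : ℕ) (m : ℕ) = 1 from hcopr)
    have hsplit : x = (x ^ m) ^ t * (x ^ 2) ^ s := by
      rw [← zpow_natCast x m, ← zpow_natCast x 2, ← zpow_mul, ← zpow_mul, ← zpow_add]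
      conv_lhs => rw [← zpow_one x]
      congr 1
      linarith
    rw [hsplit]
    refine mul_mem (zpow_mem ?_ _) (zpow_mem ?_ _)
    · have hmem : x ^ m ∈ E0 := ⟨pow_mem hx m, by rw [← pow_mul, mul_comm]; exact hx2 x hx⟩
      rcases hcover _ hmem with h | h
      · exact mem_sup_right (mem_sup_left h)
      · have h2 := mul_mem (mem_sup_left (T := E ⊔ A) hcQ) (mem_sup_right (S := Q) (mem_sup_left (T := A) h))
        rwa [← mul_assoc, ← pow_two, hcc, one_mul] at h2
    · exact mem_sup_right (mem_sup_right ⟨pow_mem hx 2, by rw [← pow_mul]; exact hx2 x hx⟩)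


/-- A finite non-abelian group in which every subgroup is normal is the internal direct product of a subgroup isomorphic to the quaternion group of order `8`, an elementary abelian `2`-subgroup and an abelian subgroup of odd order. -/
theorem result {G : Type*} [Group G] [Finite G] (hna : ¬ IsMulCommutative G) (hn : ∀ H : Subgroup G, H.Normal) : ∃ Q E A : Subgroup G, Nonempty (Q ≃* QuaternionGroup 2) ∧ Cfsg.IsElementaryAbelian 2 E ∧ IsMulCommutative A ∧ Odd (Nat.card A) ∧ E ⊓ A = ⊥ ∧ Q ⊓ (E ⊔ A) = ⊥ ∧ Q ⊔ (E ⊔ A) = ⊤ := by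
  exact dedekind_baer hna hn

end Cfsg.Agent.S4211
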