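import Cfsg.Statements.S0949
import Cfsg.Agent.Lib.ZStar.Homocyclic
-- import your own Cfsg.Agent.* helpers here

set_option autoImplicit false
open Cfsg

namespace Cfsg.Agent.S0949

/-- Let the finite group G have a Sylow 2-subgroup P isomorphic to Z/2^m × Z/2^m with m ≥ 2, and suppose G has no nontrivial normal subgroup of odd order. Then P is normal in G, C_G(P) = P, and the index of P is 1 or 3. -/
theorem result {G : Type*} [Group G] [Finite G] (P : Sylow 2 G) (m : ℕ) (hm : 2 ≤ m) (e : (P : Subgroup G) ≃* Multiplicative (ZMod (2 ^ m) × ZMod (2 ^ m))) (hO : ∀ N : Subgroup G, N.Normal → Odd (Nat.card N) → N = ⊥) : (P : Subgroup G).Normal ∧ Subgroup.centralizer (P : Set G) = (P : Subgroup G) ∧ ((P : Subgroup G).index = 1 ∨ (P : Subgroup G).index = 3) := by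
  haveI : Fact (Nat.Prime 2) := ⟨Nat.prime_two⟩
  have hO' : Cfsg.oddCore G = ⊥ := hO _ inferInstance PCore.odd_card_oddCore
  have hN := ZStar.normal_homocyclic P m hm e hO'
  obtain ⟨hab, h3⟩ := SmallSimple.homocyclic_two_data (P : Subgroup G) m (by omega) e
  haveI := hN
  have hC : Subgroup.centralizer ((P : Subgroup G) : Set G) = (P : Subgroup G) := by
    have hle : (P : Subgroup G) ≤ Subgroup.centralizer ((P : Subgroup G) : Set G) := fun a ha =>
      Subgroup.mem_centralizer_iff.mpr fun b hb => hab b hb a ha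
    set C := Subgroup.centralizer ((P : Subgroup G) : Set G) with hCdef
    set Q : Sylow 2 C := P.subtype hle with hQdef
    obtain ⟨Q', K, hK, hc⟩ := Transfer.hasNormalPComplement_of_normalizer_le_centralizer Q
      (fun k _ => Subgroup.mem_centralizer_iff.mpr fun a ha =>
        Subtype.ext (Subgroup.mem_centralizer_iff.mp k.2 (a : G) ha))
    haveI := hK
    haveI : C.Normal := by rw [hCdef]; infer_instance
    have hodd : Odd (Nat.card K) := by
      rw [← Nat.not_even_iff_odd, even_iff_two_dvd, ← hc.index_eq_card]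
      exact Q'.not_dvd_index
    have hK1 : K = ⊥ := le_bot_iff.mp ((PCore.le_oddCore hodd).trans
      (PCore.pPrimeCore_eq_bot_of_normal C hO').le)
    have hcard := hc.card_mul_card
    rw [hK1, Subgroup.card_bot, one_mul, Q'.card_eq_multiplicity, ← Q.card_eq_multiplicity,
      hQdef, Sylow.coe_subtype, Nat.card_congr (Subgroup.subgroupOfEquivOfLe hle).toEquiv] at hcard
    exact (Subgroup.eq_of_le_of_card_ge hle hcard.ge).symm
  refine ⟨hN, hC, ?_⟩
  have h := (SmallSimple.automizer_three P hab h3).1
  rw [Subgroup.normalizer_eq_top, Subgroup.relIndex_top_right, hC] at h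
  exact h

end Cfsg.Agent.S0949
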