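import Cfsg.Statements.S1054
import Cfsg.Agent.Lib.Chev.Simple
import Cfsg.Agent.Lib.Chev.PerfectSeven
import Cfsg.Agent.Lib.Chev.Seven
-- import your own Cfsg.Agent.* helpers here

set_option autoImplicit false
open Cfsg

namespace Cfsg.Agent.S1054

/-- The Chevalley groups of types D₄, F₄, E₆, E₇, E₈ are simple over every field. -/
theorem result {F : Type*} [Field F] (D : Cfsg.Lie.ChevalleyDatum)
    (hD : D ∈ [Cfsg.Lie.chevD4, Cfsg.Lie.chevF4, Cfsg.Lie.chevE6, Cfsg.Lie.chevE7, Cfsg.Lie.chevE8]) :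
    IsSimpleGroup ↥(D.group F) ∧ ¬ IsMulCommutative ↥(D.group F) := by
  have hD' : D ∈ [Cfsg.Lie.chevG2, Cfsg.Lie.chevB2, Cfsg.Lie.chevD4, Cfsg.Lie.chevF4, Cfsg.Lie.chevE6,
      Cfsg.Lie.chevE7, Cfsg.Lie.chevE8] := List.mem_cons_of_mem _ (List.mem_cons_of_mem _ hD)
  obtain ⟨tabs, simps, w, hf, hw⟩ := Cfsg.Agent.Chev.BNSetup.exists_facts_longest hD'
  obtain ⟨ord, hc⟩ := Cfsg.Agent.Chev.BNSetup.connected_of_mem hD'
  refine Cfsg.Agent.Chev.BNSetup.isSimpleGroup_group (Cfsg.Agent.Chev.good_of_mem hD') hf (Cfsg.Agent.Chev.BNSetup.negTri_of_mem hD') hw hc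
    (Cfsg.Agent.Chev.perfect_of_mem (Cfsg.Agent.Chev.good_of_mem hD') hD' ?_)
  intro h
  exfalso
  simp only [List.mem_cons, List.not_mem_nil, or_false] at hD
  have hn : D.nroots ≠ 12 ∧ D.nroots ≠ 8 := by
    rcases hD with rfl | rfl | rfl | rfl | rfl <;> exact ⟨by decide, by decide⟩
  rcases h with rfl | rfl
  · exact hn.1 rfl
  · exact hn.2 rfl

end Cfsg.Agent.S1054
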