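import Cfsg.Statements.S0046
import Cfsg.Agent.Lib.Frobenius.Comparable
import Mathlib.GroupTheory.Nilpotent

set_option autoImplicit false
open Cfsg

namespace Cfsg.Agent.S0046

open scoped Pointwise

theorem conj_coatom {G : Type*} [Group G] {M : Subgroup G} (hM : IsCoatom M) (g : G) :
    IsCoatom (MulAut.conj g • M) := by
  refine ⟨fun h => hM.1 ?_, fun L hL => ?_⟩
  · refine top_le_iff.1 fun x _ => ?_
    have : g * x * g⁻¹ ∈ MulAut.conj g • M := h ▸ Subgroup.mem_top _
    rw [Coprime.mem_conj_smul_iff] at this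
    simpa [mul_assoc] using this
  · have h1 : M < MulAut.conj g⁻¹ • L := by
      have h2 : M = MulAut.conj g⁻¹ • MulAut.conj g • M := by
        rw [Coprime.conj_smul_smul, inv_mul_cancel, map_one, one_smul]
      rw [h2]
      exact lt_of_le_not_ge (Subgroup.pointwise_smul_le_pointwise_smul_iff.2 hL.le)
        fun h => hL.not_ge (Subgroup.pointwise_smul_le_pointwise_smul_iff.1 h)
    have h3 := hM.2 _ h1
    refine top_le_iff.1 fun x _ => ?_
    have : g⁻¹ * x * g ∈ MulAut.conj g⁻¹ • L := h3 ▸ Subgroup.mem_top _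
    rw [Coprime.mem_conj_smul_iff] at this
    simpa [mul_assoc] using this

theorem not_isSimple {G : Type*} [Group G] [Finite G] [IsSimpleGroup G]
    (h : ∀ M : Subgroup G, IsCoatom M → Group.IsNilpotent M) : Group.IsNilpotent G := by
  rw [(Group.isNilpotent_of_finite_tfae (G := G)).out 0 2 rfl rfl]
  intro M hM
  by_contra hMn
  -- every maximal subgroup is nontrivial and self-normalising
  have hne : ∀ L : Subgroup G, IsCoatom L → L ≠ ⊥ := by
    rintro L hL rfl
    by_cases hb : M = ⊥
    · exact hMn (hb ▸ inferInstance)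
    · exact hM.1 (hL.2 M (bot_lt_iff_ne_bot.2 hb))
  -- two maximal subgroups meet trivially
  have hti : ∀ L L' : Subgroup G, IsCoatom L → IsCoatom L' → L ≠ L' → L ⊓ L' = ⊥ := by
    by_contra hcon
    push_neg at hcon
    obtain ⟨D, hD⟩ := Set.Finite.exists_maximal
      (s := {D : Subgroup G | ∃ L L' : Subgroup G, IsCoatom L ∧ IsCoatom L' ∧ L ≠ L' ∧
        L ⊓ L' = D ∧ D ≠ ⊥}) (Set.toFinite _)
      (by obtain ⟨L, L', h1, h2, h3, h4⟩ := hcon; exact ⟨_, L, L', h1, h2, h3, rfl, h4⟩)
    obtain ⟨L, L', hL, hL', hne', hLL, hD1⟩ := hD.1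
    obtain ⟨P, hP, hNP⟩ : ∃ P : Subgroup G, IsCoatom P ∧ Subgroup.normalizer (D : Set G) ≤ P := by
      rcases eq_top_or_exists_le_coatom (Subgroup.normalizer (D : Set G)) with h' | h'
      · have hDn := Subgroup.normalizer_eq_top_iff.1 h'
        rcases hDn.eq_bot_or_eq_top with h'' | h''
        · exact absurd h'' hD1
        · exact absurd (top_le_iff.1 (h'' ▸ hLL ▸ inf_le_left)) hL.1
      · exact h'
    have key : ∀ X X' : Subgroup G, IsCoatom X → IsCoatom X' → X ≠ X' → X ⊓ X' = D → X = P := by
      intro X X' hX hX' hXne hXX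
      by_contra hXP
      have hDX : D ≤ X := hXX ▸ inf_le_left
      have hlt : D < X ⊓ P := by
        refine lt_of_le_of_ne (le_inf hDX (Subgroup.le_normalizer.trans hNP)) fun he => ?_
        have := h X hX
        have hnc := (Group.isNilpotent_of_finite_tfae (G := X)).out 0 1 rfl rfl |>.1 inferInstance
        have hlt' : D.subgroupOf X < ⊤ := by
          rw [lt_top_iff_ne_top, Ne, Subgroup.subgroupOf_eq_top]
          intro hXD
          have hle : X ≤ X' := hXD.trans (hXX ▸ inf_le_right)
          rcases hle.lt_or_eq with h' | h'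
          · exact hX'.1 (hX.2 _ h')
          · exact hXne h'
        obtain ⟨y, hy, hyD⟩ := SetLike.exists_of_lt (hnc _ hlt')
        apply hyD
        rw [Subgroup.mem_subgroupOf, he]
        refine ⟨y.2, hNP (Subgroup.mem_normalizer_iff.2 fun z => ?_)⟩
        constructor
        · intro hz
          exact (Subgroup.mem_normalizer_iff.1 hy ⟨z, hDX hz⟩).1 hz
        · intro hz
          have hzX : z ∈ X := by
            have := mul_mem (mul_mem (inv_mem y.2) (hDX hz)) y.2
            simpa [mul_assoc] using this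
          exact (Subgroup.mem_normalizer_iff.1 hy ⟨z, hzX⟩).2 hz
      have hmem : X ⊓ P ∈ {D : Subgroup G | ∃ L L' : Subgroup G, IsCoatom L ∧ IsCoatom L' ∧
          L ≠ L' ∧ L ⊓ L' = D ∧ D ≠ ⊥} :=
        ⟨X, P, hX, hP, hXP, rfl, fun e => hD1 (le_bot_iff.1 (hlt.le.trans e.le))⟩
      exact hlt.not_ge (hD.2 hmem hlt.le)
    exact hne' ((key L L' hL hL' hne' hLL).trans
      (key L' L hL' hL hne'.symm (by rw [inf_comm, hLL])).symm)
  -- hence every maximal subgroup is a Frobenius complement
  have hself : ∀ L : Subgroup G, IsCoatom L → Subgroup.normalizer (L : Set G) = L := by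
    intro L hL
    rcases (Subgroup.le_normalizer (H := L)).lt_or_eq with h' | h'
    · have hn := Subgroup.normalizer_eq_top_iff.1 (hL.2 _ h')
      rcases hn.eq_bot_or_eq_top with h'' | h''
      · exact absurd h'' (hne L hL)
      · exact absurd h'' hL.1
    · exact h'.symm
  have hF : ∀ L : Subgroup G, IsCoatom L → IsFrobeniusComplement L := by
    intro L hL
    refine ⟨hne L hL, hL.1, fun g hg => hti _ _ hL (conj_coatom hL g) fun e => hg ?_⟩
    rw [← hself L hL, Subgroup.mem_normalizer_iff]
    intro x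
    conv_rhs => rw [e, Coprime.mem_conj_smul_iff]
    exact iff_of_eq (congrArg (· ∈ L) (by group))
  -- a kernel element lies in a maximal subgroup, which is a conjugate of `M`
  have hk := Frobenius.card_kernel (hF M hM)
  obtain ⟨x, hx, hx1⟩ : ∃ x ∈ frobeniusKernel M, x ≠ 1 := by
    by_contra hcon
    push_neg at hcon
    have : frobeniusKernel M = {1} :=
      Set.eq_singleton_iff_unique_mem.2 ⟨Frobenius.one_mem_kernel, hcon⟩
    rw [this, Nat.card_unique] at hk
    exact hM.1 (Subgroup.index_eq_one.1 hk.symm)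
  rcases eq_top_or_exists_le_coatom (Subgroup.zpowers x) with h' | ⟨L, hL, hxL⟩
  · apply hMn
    refine ⟨fun m hm g => ?_⟩
    obtain ⟨i, rfl⟩ := Subgroup.mem_zpowers_iff.1 (h' ▸ Subgroup.mem_top g : g ∈ Subgroup.zpowers x)
    obtain ⟨j, rfl⟩ := Subgroup.mem_zpowers_iff.1 (h' ▸ Subgroup.mem_top m : m ∈ Subgroup.zpowers x)
    rwa [((Commute.refl x).zpow_zpow i j).eq, mul_inv_cancel_right]
  have hxL' : x ∈ L := hxL (Subgroup.mem_zpowers x)
  obtain ⟨g, hg | hg⟩ := Frobenius.exists_conj_le_or_le (hF M hM) (hF L hL)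
  · have hm : g * x * g⁻¹ ∈ M := hg (Coprime.mem_conj_smul_iff.2 (by simpa [mul_assoc] using hxL'))
    exact (Frobenius.mem_kernel_iff hx1).1 hx g⁻¹ (by simpa using hm)
  · rcases hg.lt_or_eq with h' | h'
    · exact (conj_coatom hL g).1 (hM.2 _ h')
    · have hm : g * x * g⁻¹ ∈ M :=
        h' ▸ Coprime.mem_conj_smul_iff.2 (by simpa [mul_assoc] using hxL')
      exact (Frobenius.mem_kernel_iff hx1).1 hx g⁻¹ (by simpa using hm)

theorem aux.{u} : ∀ (n : ℕ) (G : Type u) [Group G] [Finite G], Nat.card G = n →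
    (∀ M : Subgroup G, IsCoatom M → Group.IsNilpotent M) → Group.IsSolvable G := by
  intro n
  induction n using Nat.strong_induction_on with
  | _ n ih =>
    intro G _ _ hn h
    rcases subsingleton_or_nontrivial G with _ | _
    · infer_instance
    by_cases hs : ∀ N : Subgroup G, N.Normal → N = ⊥ ∨ N = ⊤
    · have : IsSimpleGroup G := ⟨hs⟩
      have := not_isSimple h
      infer_instance
    push_neg at hs
    obtain ⟨N, hNn, hN, hNt⟩ := hs
    obtain ⟨M, hM, hNM⟩ := (eq_top_or_exists_le_coatom N).resolve_left hNt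
    have := h M hM
    have hsN : Group.IsSolvable N := Group.isSolvable_of_isSolvable_injective
      (f := Subgroup.inclusion hNM) (Subgroup.inclusion_injective hNM)
    have hlt : Nat.card (G ⧸ N) < n := by
      rw [← hn, Subgroup.card_eq_card_quotient_mul_card_subgroup N]
      exact lt_mul_of_one_lt_right Nat.card_pos ((Subgroup.one_lt_card_iff_ne_bot N).2 hN)
    have hfs := QuotientGroup.mk'_surjective N
    have hq : Group.IsSolvable (G ⧸ N) := by
      refine ih _ hlt _ rfl fun L hL => ?_
      have hco : IsCoatom (L.comap (QuotientGroup.mk' N)) :=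
        Subgroup.isCoatom_comap_of_surjective hfs hL
      have := h _ hco
      exact Group.nilpotent_of_surjective
        ((QuotientGroup.mk' N).subgroupComap L) ((QuotientGroup.mk' N).subgroupComap_surjective_of_surjective L hfs)
    exact Group.isSolvable_of_ker_le_range N.subtype (QuotientGroup.mk' N)
      (by rw [QuotientGroup.ker_mk', Subgroup.range_subtype])

/-- Schmidt's Theorem on minimal non-nilpotent groups: a finite group in which every maximal subgroup is nilpotent is solvable. -/
theorem result {G : Type*} [Group G] [Finite G]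
    (h : ∀ M : Subgroup G, IsCoatom M → Group.IsNilpotent M) : Group.IsSolvable G := by
  exact aux _ G rfl h

end Cfsg.Agent.S0046
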