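import Cfsg.Statements.S0588
import Mathlib
-- import your own Cfsg.Agent.* helpers here

set_option autoImplicit false
open Cfsg

namespace Cfsg.Agent.S0588

/-- If a subgroup H of a finite group G contains the centralizer of every non-identity element of H, then the order of H is coprime to its index. -/
theorem result {G : Type*} [Group G] [Finite G] (H : Subgroup G) (h : ∀ x ∈ H, x ≠ 1 → Subgroup.centralizer ({x} : Set G) ≤ H) : (Nat.card H).Coprime H.index := by
  refine Nat.coprime_of_dvd fun p hp hpH hpi => ?_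
  have := Fact.mk hp
  let P : Sylow p H := default
  obtain ⟨S, hS⟩ := (P.2.map H.subtype).exists_le_sylow
  obtain ⟨x, hxP, hx⟩ : ∃ x : H, x ∈ (P : Subgroup H) ∧ x ≠ 1 :=
    (Subgroup.ne_bot_iff_exists_ne_one.mp (P.ne_bot_of_dvd_card hpH)).imp' (↑) fun y hy =>
      ⟨y.2, fun e => hy (Subtype.ext e)⟩
  have hxS : (x : G) ∈ (S : Subgroup G) := hS ⟨x, hxP, rfl⟩
  have hx1 : (x : G) ≠ 1 := fun e => hx (Subtype.ext e)
  have : Nontrivial S := ⟨⟨⟨x, hxS⟩, 1, fun e => hx1 (congrArg Subtype.val e)⟩⟩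
  have : Nontrivial (Subgroup.center S) := S.2.center_nontrivial
  obtain ⟨⟨z, hz⟩, hz1⟩ := exists_ne (1 : Subgroup.center S)
  have hcom : ∀ y : S, (z : G) * y = y * z := fun y =>
    congrArg Subtype.val (Subgroup.mem_center_iff.mp hz y).symm
  have hzH : (z : G) ∈ H := h x x.2 hx1 (Subgroup.mem_centralizer_singleton_iff.mpr
    (hcom ⟨x, hxS⟩))
  have hz1' : (z : G) ≠ 1 := fun e => hz1 (Subtype.ext (Subtype.ext e))
  have hSH : (S : Subgroup G) ≤ H := fun y hy =>
    h z hzH hz1' (Subgroup.mem_centralizer_singleton_iff.mpr (hcom ⟨y, hy⟩).symm)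
  exact S.not_dvd_index (hpi.trans (Subgroup.index_dvd_of_le hSH))

end Cfsg.Agent.S0588
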