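import Cfsg.Statements.S0040
import Cfsg.Agent.Lib.Frobenius.Module
import Cfsg.Agent.Lib.PGroup.UniqueOrderP

set_option autoImplicit false
open Cfsg

namespace Cfsg.Agent.S0040

/-- Sylow subgroups of Frobenius complements: if H complements a nontrivial normal subgroup K and every nonidentity element of H has trivial centraliser in K, then each Sylow subgroup of H is cyclic or isomorphic to a generalized quaternion group. -/
theorem result {G : Type*} [Group G] [Finite G] (K H : Subgroup G) [K.Normal]
    (hc : Subgroup.IsComplement' K H) (hK : K ≠ ⊥) (hfpf : ∀ h ∈ H, h ≠ 1 → K ⊓ Subgroup.centralizer {h} = ⊥)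
    (p : ℕ) [Fact p.Prime] (P : Sylow p H) :
    IsCyclic P ∨ ∃ n : ℕ, Nonempty (P ≃* QuaternionGroup (2 ^ n)) := by
  have hPn : (P : Subgroup H).map H.subtype ≤ Subgroup.normalizer (K : Set G) := by
    rw [Subgroup.normalizer_eq_top]; exact le_top
  set A : Subgroup G := (P : Subgroup H).map H.subtype with hA
  have hfA : ∀ a ∈ A, a ≠ 1 → K ⊓ Subgroup.centralizer {a} = ⊥ := fun a ha =>
    hfpf a (Subgroup.map_subtype_le _ ha)
  have hAp : IsPGroup p A := P.2.map H.subtype
  have : Group.IsNilpotent A := hAp.isNilpotent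
  obtain ⟨W, hWc, hW, hAW, hfW⟩ :=
    Cfsg.Agent.Frobenius.exists_abelian_invariant hPn hK inferInstance hfA
  have : Nontrivial W := (Subgroup.nontrivial_iff_ne_bot W).2 hW
  open scoped IsMulCommutative in
  have hφ := Cfsg.Agent.Frobenius.Fpf.isFpf_conjHom A W hAW hfW
  let e : P ≃* A := (P : Subgroup H).equivMapOfInjective H.subtype H.subtype_injective
  have hu : ∀ X Y : Subgroup P, Nat.card X = p → Nat.card Y = p → X = Y := fun X Y hX hY =>
    Subgroup.map_injective (f := e.toMonoidHom) e.injective (Cfsg.Agent.Frobenius.Fpf.eq_of_card_eq_prime hφ hAp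
      (by rw [Subgroup.card_map_of_injective (f := e.toMonoidHom) e.injective, hX])
      (by rw [Subgroup.card_map_of_injective (f := e.toMonoidHom) e.injective, hY]))
  rcases Cfsg.Agent.PGroup.cyclic_or_quaternion_of_unique P.2 hu with h | ⟨-, n, -, -, h⟩
  · exact Or.inl h
  · exact Or.inr ⟨n, h⟩

end Cfsg.Agent.S0040
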