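import Cfsg.Statements.S3869
import Mathlib

set_option autoImplicit false
open Cfsg

namespace Cfsg.Agent.S3869

open scoped IsMulCommutative Classical

theorem pow_modEq_one {p q : ℕ} [Fact p.Prime] : q ^ orderOf (q : ZMod p) ≡ 1 [MOD p] := by
  rw [← ZMod.natCast_eq_natCast_iff]
  push_cast
  exact pow_orderOf_eq_one _

/-- A finite commutative domain with `x ^ n = x` throughout has at most `n` elements. -/
theorem card_le_of_forall_pow_eq {R : Type*} [CommRing R] [IsDomain R] [Fintype R] {n : ℕ}
    (hqd : 1 < n) (h : ∀ x : R, x ^ n = x) : Nat.card R ≤ n := by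
  rw [Nat.card_eq_fintype_card, ← Finset.card_univ]
  have hdeg : (Polynomial.X ^ n - Polynomial.X : Polynomial R).natDegree = n :=
    (Polynomial.natDegree_sub_eq_left_of_natDegree_lt (by
      rw [Polynomial.natDegree_X, Polynomial.natDegree_X_pow]; exact hqd)).trans (Polynomial.natDegree_X_pow n)
  have hne : (Polynomial.X ^ n - Polynomial.X : Polynomial R) ≠ 0 := by
    intro h0; rw [h0, Polynomial.natDegree_zero] at hdeg; omega
  calc (Finset.univ : Finset R).card
      ≤ (Polynomial.X ^ n - Polynomial.X : Polynomial R).roots.toFinset.card := by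
        refine Finset.card_le_card fun x _ => ?_
        rw [Multiset.mem_toFinset, Polynomial.mem_roots hne, Polynomial.IsRoot.def,
          Polynomial.eval_sub, Polynomial.eval_pow, Polynomial.eval_X, h x, sub_self]
    _ ≤ _ := Multiset.toFinset_card_le _
    _ ≤ _ := Polynomial.card_roots' _
    _ = n := hdeg

/-- An automorphism `T` of a finite abelian group of exponent `q` with `T ^ p = 1`, leaving no proper
non-trivial subgroup invariant, acts on a group of order at most `q ^ orderOf (q mod p)`. -/
theorem card_le_of_irreducible {V : Type*} [AddCommGroup V] [Finite V] {p q : ℕ} [Fact p.Prime]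
    (hq : q.Prime) (hqp : q ≠ p) (hexp : ∀ v : V, q • v = 0) (T : AddMonoid.End V) (hT : T ^ p = 1)
    (hirr : ∀ W : AddSubgroup V, (∀ v ∈ W, T v ∈ W) → W = ⊥ ∨ W = ⊤) :
    Nat.card V ≤ q ^ orderOf (q : ZMod p) := by
  have hqF := Fact.mk hq
  set d := orderOf (q : ZMod p) with hd
  by_cases hV : Subsingleton V
  · rw [Nat.card_of_subsingleton (0 : V)]; exact Nat.one_le_pow _ _ hq.pos
  rw [not_subsingleton_iff_nontrivial] at hV
  set R := Subring.closure ({T} : Set (AddMonoid.End V)) with hR
  have hcomm : ∀ x ∈ R, Commute T x := by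
    intro x hx
    have : R ≤ Subring.centralizer ({T} : Set (AddMonoid.End V)) :=
      Subring.closure_le.2 (by
        rw [Set.singleton_subset_iff, SetLike.mem_coe, Subring.mem_centralizer_iff]
        rintro g rfl; rfl)
    exact Subring.mem_centralizer_iff.1 (this hx) T rfl
  have hRc : ∀ x ∈ R, ∀ y ∈ R, x * y = y * x := by
    intro x hx y hy
    have : R ≤ Subring.centralizer ({x} : Set (AddMonoid.End V)) :=
      Subring.closure_le.2 (by
        rw [Set.singleton_subset_iff, SetLike.mem_coe, Subring.mem_centralizer_iff]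
        rintro g rfl; exact (hcomm g hx).symm)
    exact Subring.mem_centralizer_iff.1 (this hy) x rfl
  let _ : CommRing R := { (inferInstance : Ring R) with
    mul_comm := fun a b => Subtype.ext (hRc a a.2 b b.2) }
  have : Finite (AddMonoid.End V) :=
    Finite.of_injective (fun f => ((f : V →+ V) : V → V)) DFunLike.coe_injective
  have : Nontrivial (AddMonoid.End V) := by
    obtain ⟨v, hv⟩ := exists_ne (0 : V)
    exact ⟨⟨1, 0, fun h => hv (DFunLike.congr_fun h v)⟩⟩
  have : Nontrivial R := ⟨⟨0, 1, fun h => zero_ne_one (congrArg Subtype.val h)⟩⟩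
  have : NoZeroDivisors R := by
    refine ⟨fun {a b} hab => ?_⟩
    by_contra h
    push Not at h
    have hker : ∀ v ∈ AddMonoidHom.ker (a.1 : V →+ V), T v ∈ AddMonoidHom.ker (a.1 : V →+ V) := by
      intro v hv
      refine AddMonoidHom.mem_ker.2 ?_
      replace hv : a.1 v = 0 := AddMonoidHom.mem_ker.1 hv
      show (a.1 * T) v = 0
      rw [← (hcomm a.1 a.2).eq]
      show T (a.1 v) = 0
      rw [hv, map_zero]
    rcases hirr _ hker with hk | hk
    · refine h.2 (Subtype.ext (AddMonoidHom.ext fun v => ?_))
      have h1 : b.1 v ∈ AddMonoidHom.ker (a.1 : V →+ V) := DFunLike.congr_fun (congrArg Subtype.val hab) v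
      rw [hk] at h1
      exact h1
    · refine h.1 (Subtype.ext (AddMonoidHom.ext fun v => ?_))
      have h1 : v ∈ AddMonoidHom.ker (a.1 : V →+ V) := hk ▸ AddSubgroup.mem_top v
      exact h1
  have : IsDomain R := NoZeroDivisors.to_isDomain R
  have hq0 : (q : R) = 0 := by
    refine Subtype.ext (AddMonoidHom.ext fun v => ?_)
    rw [Subring.coe_natCast]
    show q • v = 0
    exact hexp v
  have : CharP R q := by
    have h := ringChar.charP R
    have he : ringChar R = q :=
      ((Nat.dvd_prime hq).1 (ringChar.dvd hq0)).resolve_left CharP.ringChar_ne_one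
    rwa [he] at h
  let RT : R := ⟨T, Subring.subset_closure rfl⟩
  let S : Subring R :=
    { carrier := {x | x ^ q ^ d = x}
      one_mem' := one_pow _
      zero_mem' := zero_pow (pow_pos hq.pos d).ne'
      mul_mem' := fun {a b} ha hb => by
        show (a * b) ^ q ^ d = a * b
        rw [mul_pow, show a ^ q ^ d = a from ha, show b ^ q ^ d = b from hb]
      add_mem' := fun {a b} ha hb => by
        show (a + b) ^ q ^ d = a + b
        rw [add_pow_char_pow, show a ^ q ^ d = a from ha, show b ^ q ^ d = b from hb]
      neg_mem' := fun {a} ha => by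
        show (-a) ^ q ^ d = -a
        have h0 : (a + -a) ^ q ^ d = 0 := by rw [add_neg_cancel, zero_pow (pow_pos hq.pos d).ne']
        rw [add_pow_char_pow, show a ^ q ^ d = a from ha] at h0
        exact eq_neg_of_add_eq_zero_right h0 }
  have hTS : RT ∈ S := by
    show RT ^ q ^ d = RT
    have h1 : RT ^ p = 1 := Subtype.ext (by rw [Subring.coe_pow]; exact hT)
    conv_rhs => rw [← pow_one RT]
    rw [← Nat.div_add_mod (q ^ d) p, pow_add, pow_mul, h1, one_pow, one_mul,
      show q ^ d % p = 1 % p from pow_modEq_one, Nat.mod_eq_of_lt (Fact.out : p.Prime).one_lt]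
  have hSR : ∀ x : R, x ^ q ^ d = x := by
    intro x
    have : R ≤ S.map R.subtype := Subring.closure_le.2 (by
      rw [Set.singleton_subset_iff]; exact ⟨RT, hTS, rfl⟩)
    obtain ⟨y, hy, hyx⟩ := this x.2
    rwa [Subtype.ext hyx] at hy
  have hcard : Nat.card R ≤ q ^ d := by
    let _ := Fintype.ofFinite R
    refine card_le_of_forall_pow_eq ?_ hSR
    have hu : IsUnit (q : ZMod p) := (ZMod.isUnit_iff_coprime q p).2
      ((Nat.coprime_primes hq (Fact.out : p.Prime)).2 hqp)
    have hd0 : d ≠ 0 := by
      rw [hd, ← hu.unit_spec, orderOf_units]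
      exact (orderOf_pos _).ne'
    exact Nat.one_lt_pow hd0 hq.one_lt
  obtain ⟨v₀, hv₀⟩ := exists_ne (0 : V)
  let f : R →+ V :=
    { toFun := fun x => x.1 v₀
      map_zero' := rfl
      map_add' := fun x y => rfl }
  have hinv : ∀ v ∈ f.range, T v ∈ f.range := by
    rintro _ ⟨x, rfl⟩
    exact ⟨RT * x, rfl⟩
  rcases hirr _ hinv with h | h
  · exact absurd ((AddSubgroup.eq_bot_iff_forall _).1 h v₀ ⟨1, rfl⟩) hv₀
  · exact (Nat.card_le_card_of_surjective f (AddMonoidHom.range_eq_top.1 h)).trans hcard

/-- Let p and q be distinct primes and G a finite non-abelian group with a normal elementary abelian q-subgroup A that is a minimal normal subgroup of G and has index p. Then A has order q^e with e the multiplicative order of q modulo p, and G is minimal non-p-closed: its Sylow p-subgroups are not normal, while in every proper subgroup and in every proper quotient of G the Sylow p-subgroups are normal. -/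
theorem result {G : Type*} [Group G] [Finite G] {p q : ℕ} [Fact p.Prime] (hq : q.Prime) (hpq : q ≠ p)
    (hna : ¬ IsMulCommutative G) (A : Subgroup G) [A.Normal] (hA : Cfsg.IsElementaryAbelian q A) (hidx : A.index = p)
    (hmin : ∀ B : Subgroup G, B.Normal → B ≤ A → B = ⊥ ∨ B = A) :
    Nat.card ↥A = q ^ orderOf (q : ZMod p) ∧ ¬ Cfsg.IsPClosed p G ∧ (∀ H : Subgroup G, H ≠ ⊤ → Cfsg.IsPClosed p ↥H) ∧
      ∀ (N : Subgroup G) [N.Normal], N ≠ ⊥ → Cfsg.IsPClosed p (G ⧸ N) := by
  obtain ⟨hAc, hAexp⟩ := hA
  have hp : p.Prime := Fact.out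
  have hqF := Fact.mk hq
  have hcomm : ∀ a ∈ A, ∀ b ∈ A, a * b = b * a := fun a ha b hb =>
    congrArg Subtype.val (mul_comm' (⟨a, ha⟩ : A) ⟨b, hb⟩)
  have hAq : IsPGroup q A := fun a => ⟨1, Subtype.ext (by rw [pow_one]; exact hAexp a a.2)⟩
  have hpA : ¬ p ∣ Nat.card A := fun h => by
    obtain ⟨e, he⟩ := hAq.exists_card_eq
    rw [he] at h
    exact hpq ((Nat.prime_dvd_prime_iff_eq hp hq).1 (hp.dvd_of_dvd_pow h)).symm
  -- `A` and anything outside generate `G`
  have htop : ∀ H : Subgroup G, A ≤ H → H = A ∨ H = ⊤ := by
    intro H hH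
    rcases (Nat.dvd_prime hp).1 (hidx ▸ Subgroup.index_dvd_of_le hH) with h | h
    · exact Or.inr (Subgroup.index_eq_one.1 h)
    · refine Or.inl (le_antisymm ?_ hH)
      rw [← Subgroup.relIndex_eq_one]
      have h2 := Subgroup.relIndex_mul_index hH
      rw [hidx, h] at h2
      exact Nat.eq_of_mul_eq_mul_right hp.pos (h2.trans (one_mul p).symm)
  -- an element outside `A` moves every non-trivial element of `A`
  have hfix : ∀ g : G, g ∉ A → A ⊓ Subgroup.centralizer {g} = ⊥ := by
    intro g hg
    have hn : (A ⊓ Subgroup.centralizer ({g} : Set G)).Normal := by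
      refine Subgroup.normalizer_eq_top_iff.1 (((htop _ ?_).resolve_left ?_))
      · intro a ha
        rw [Subgroup.mem_normalizer_iff]
        intro x
        constructor
        · intro hx; rwa [hcomm a ha x hx.1, mul_inv_cancel_right]
        · intro hx
          have h := hcomm a⁻¹ (inv_mem ha) _ hx.1
          rwa [show x = a⁻¹ * (a * x * a⁻¹) * a by group, h, inv_mul_cancel_right]
      · intro h
        refine hg (h.le ?_)
        rw [Subgroup.mem_normalizer_iff]
        intro x
        rw [Subgroup.mem_inf, Subgroup.mem_inf, Subgroup.mem_centralizer_singleton_iff,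
          Subgroup.mem_centralizer_singleton_iff]
        constructor
        · rintro ⟨h1, h2⟩
          rw [show g * x * g⁻¹ = x by rw [← h2, mul_inv_cancel_right]]
          exact ⟨h1, h2⟩
        · rintro ⟨h1, h2⟩
          have h3 : g * x * g⁻¹ = x := by
            have h4 : g * x = g * (g * x * g⁻¹) := by rw [← h2]; group
            exact (mul_left_cancel h4).symm
          rw [h3] at h1 h2
          exact ⟨h1, h2⟩
    rcases hmin _ hn inf_le_left with h | h
    · exact h
    · exfalso
      apply hna
      have hga : ∀ a ∈ A, a * g = g * a := fun a ha =>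
        Subgroup.mem_centralizer_singleton_iff.1 (h.ge ha).2
      have hC : ∀ a ∈ A, Subgroup.centralizer ({a} : Set G) = ⊤ := by
        intro a ha
        refine (htop _ fun b hb => Subgroup.mem_centralizer_singleton_iff.2 (hcomm b hb a ha)).resolve_left
          fun h' => hg (h'.le (Subgroup.mem_centralizer_singleton_iff.2 (hga a ha).symm))
      have hCg : Subgroup.centralizer ({g} : Set G) = ⊤ :=
        (htop _ fun a ha => Subgroup.mem_centralizer_singleton_iff.2 (hga a ha)).resolve_left
          fun h' => hg (h'.le (Subgroup.mem_centralizer_singleton_iff.2 rfl))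
      have hall : ∀ u : G, Subgroup.centralizer ({u} : Set G) = ⊤ := by
        intro u
        refine (htop _ fun a ha => Subgroup.mem_centralizer_singleton_iff.2
          (Subgroup.mem_centralizer_singleton_iff.1 ((hC a ha).ge (Subgroup.mem_top u))).symm).resolve_left
          fun h' => hg (h'.le (Subgroup.mem_centralizer_singleton_iff.2
            (Subgroup.mem_centralizer_singleton_iff.1 (hCg.ge (Subgroup.mem_top u))).symm))
      exact ⟨⟨fun u v => Subgroup.mem_centralizer_singleton_iff.1 ((hall v).ge (Subgroup.mem_top u))⟩⟩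
  obtain ⟨x, hx⟩ := exists_prime_orderOf_dvd_card' (G := G) p (hidx ▸ A.index_dvd_card)
  have hxA : x ∉ A := fun h => hpA (hx ▸ Subgroup.orderOf_dvd_natCard A h)
  have hA1 : A ≠ ⊥ := fun h => hna (by
    have : Fact (Nat.card G).Prime := ⟨by
      rw [← Subgroup.card_mul_index A, hidx, h, Subgroup.card_bot, one_mul]; exact hp⟩
    have := isCyclic_of_prime_card (α := G) (p := Nat.card G) rfl
    exact inferInstance)
  set d := orderOf (q : ZMod p) with hd
  have hcard : Nat.card A = q ^ d := by
    obtain ⟨e, he⟩ := hAq.exists_card_eq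
    refine le_antisymm ?_ ?_
    · have hT : ((MulAut.conjNormal x : MulAut A)) ^ p = 1 := by
        rw [← map_pow, ← hx, pow_orderOf_eq_one, map_one]
      let τ : MulAut A →* AddMonoid.End (Additive A) :=
        { toFun := fun e => MonoidHom.toAdditive e.toMonoidHom
          map_one' := AddMonoidHom.ext fun x => rfl
          map_mul' := fun e e' => AddMonoidHom.ext fun x => rfl }
      have hle := card_le_of_irreducible (V := Additive A) (p := p) hq hpq
        (fun v => show Additive.ofMul (Additive.toMul v ^ q) = 0 by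
          rw [show Additive.toMul v ^ q = 1 from Subtype.ext (hAexp _ (Additive.toMul v).2)]; rfl)
        (τ (MulAut.conjNormal x)) (by rw [← map_pow, hT, map_one]) (by
          intro W hW
          let B : Subgroup G := (AddSubgroup.toSubgroup' W).map A.subtype
          have hBA : B ≤ A := Subgroup.map_subtype_le _
          have hBn : B.Normal := by
            refine Subgroup.normalizer_eq_top_iff.1 ((htop _ ?_).resolve_left ?_)
            · intro a ha
              rw [Subgroup.mem_normalizer_iff]
              intro y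
              constructor
              · intro hy; rwa [hcomm a ha y (hBA hy), mul_inv_cancel_right]
              · intro hy
                have h := hcomm a⁻¹ (inv_mem ha) _ (hBA hy)
                rwa [show y = a⁻¹ * (a * y * a⁻¹) * a by group, h, inv_mul_cancel_right]
            · intro h
              refine hxA (h.le ?_)
              have hfor : ∀ y ∈ B, x * y * x⁻¹ ∈ B := by
                rintro _ ⟨w, hw, rfl⟩
                exact ⟨MulAut.conjNormal x w, hW _ hw, rfl⟩
              have hit : ∀ i : ℕ, ∀ y ∈ B, x ^ i * y * (x ^ i)⁻¹ ∈ B := by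
                intro i
                induction i with
                | zero => simp
                | succ i ih =>
                  intro y hy
                  have := hfor _ (ih y hy)
                  rwa [show x * (x ^ i * y * (x ^ i)⁻¹) * x⁻¹ = x ^ (i + 1) * y * (x ^ (i + 1))⁻¹ by
                    rw [pow_succ']; group] at this
              rw [Subgroup.mem_normalizer_iff]
              intro y
              refine ⟨hfor y, fun hy => ?_⟩
              have := hit (orderOf x - 1) _ hy
              rwa [show x ^ (orderOf x - 1) = x⁻¹ from eq_inv_of_mul_eq_one_left (by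
                rw [← pow_succ, Nat.sub_add_cancel (orderOf_pos x), pow_orderOf_eq_one]),
                show x⁻¹ * (x * y * x⁻¹) * x⁻¹⁻¹ = y by group] at this
          rcases hmin B hBn hBA with h | h
          · left
            rw [AddSubgroup.eq_bot_iff_forall]
            intro w hw
            have : ((Additive.toMul w : A) : G) ∈ B := ⟨Additive.toMul w, hw, rfl⟩
            rw [h, Subgroup.mem_bot] at this
            exact congrArg Additive.ofMul (Subtype.ext this : Additive.toMul w = 1)
          · right
            rw [AddSubgroup.eq_top_iff']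
            intro w
            obtain ⟨w', hw', he⟩ := h.ge (Additive.toMul w).2
            rwa [show w' = Additive.toMul w from Subtype.ext he] at hw')
      rw [← hd] at hle
      exact le_of_eq_of_le (Nat.card_congr Additive.ofMul) hle
    · let θ : Subgroup.zpowers x →* MulAut A := MulAut.conjNormal.comp (Subgroup.zpowers x).subtype
      let _ : MulAction (Subgroup.zpowers x) A := MulAction.compHom A θ
      have hpz : IsPGroup p (Subgroup.zpowers x) :=
        IsPGroup.of_card (n := 1) (by rw [Nat.card_zpowers, hx, pow_one])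
      have hfx : MulAction.fixedPoints (Subgroup.zpowers x) A = {1} := by
        ext a
        refine ⟨fun ha => ?_, fun ha g => ?_⟩
        · have h1 : x * (a : G) * x⁻¹ = a := congrArg Subtype.val (ha ⟨x, Subgroup.mem_zpowers x⟩)
          have h2 : (a : G) ∈ A ⊓ Subgroup.centralizer {x} :=
            ⟨a.2, Subgroup.mem_centralizer_singleton_iff.2 (mul_inv_eq_iff_eq_mul.1 h1).symm⟩
          rw [hfix x hxA, Subgroup.mem_bot] at h2
          exact Subtype.ext h2
        · rw [Set.mem_singleton_iff.1 ha]; exact map_one (θ g)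
      have hm := hpz.card_modEq_card_fixedPoints A
      rw [hfx, show Nat.card ({1} : Set A) = 1 by simp, he, ← ZMod.natCast_eq_natCast_iff] at hm
      push_cast at hm
      rw [he]
      refine Nat.pow_le_pow_right hq.pos (Nat.le_of_dvd ?_ (orderOf_dvd_of_pow_eq_one hm))
      refine Nat.pos_of_ne_zero fun h => hA1 (Subgroup.card_eq_one.1 ?_)
      rw [he, h, pow_zero]
  have hPcard : ∀ H : Subgroup G, H ⊓ A = ⊥ → Nat.card H ∣ p := by
    intro H hH
    rw [← hidx, Subgroup.index_eq_card]
    exact Subgroup.card_dvd_of_injective ((QuotientGroup.mk' A).comp H.subtype) (by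
      rw [← MonoidHom.ker_eq_bot_iff, Subgroup.eq_bot_iff_forall]
      intro h hh
      have : (h : G) ∈ H ⊓ A := ⟨h.2, (QuotientGroup.eq_one_iff _).1 hh⟩
      rw [hH, Subgroup.mem_bot] at this
      exact Subtype.ext this)
  refine ⟨hcard, ?_, ?_, ?_⟩
  · intro hcl
    obtain ⟨P⟩ : Nonempty (Sylow p G) := Sylow.nonempty
    have hPn : (P : Subgroup G).Normal := hcl P
    have hPA : (P : Subgroup G) ⊓ A = ⊥ := by
      rw [← Subgroup.card_eq_one]
      obtain ⟨i, hi⟩ := (P.isPGroup'.to_le (inf_le_left : (P : Subgroup G) ⊓ A ≤ P)).exists_card_eq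
      obtain ⟨j, hj⟩ := (hAq.to_le (inf_le_right : (P : Subgroup G) ⊓ A ≤ A)).exists_card_eq
      exact Nat.eq_one_of_dvd_coprimes
        (Nat.Coprime.pow i j ((Nat.coprime_primes hp hq).2 (Ne.symm hpq))) hi.dvd hj.dvd
    obtain ⟨a, haA, ha1⟩ : ∃ a ∈ A, a ≠ 1 := by
      by_contra h
      push Not at h
      exact hA1 ((Subgroup.eq_bot_iff_forall A).2 h)
    obtain ⟨g, hg, hgA⟩ : ∃ g ∈ (P : Subgroup G), g ∉ A := by
      obtain ⟨Q, hQ⟩ := (IsPGroup.of_card (p := p) (n := 1)
        (by rw [Nat.card_zpowers, hx, pow_one] : Nat.card (Subgroup.zpowers x) = p ^ 1)).exists_le_sylow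
      obtain ⟨c, rfl⟩ := MulAction.exists_smul_eq G P Q
      refine ⟨x, ?_, hxA⟩
      rw [Sylow.smul_eq_iff_mem_normalizer.2
        ((Subgroup.normalizer_eq_top (H := (P : Subgroup G))).ge (Subgroup.mem_top c))] at hQ
      exact hQ (Subgroup.mem_zpowers x)
    have hc : a * g * a⁻¹ * g⁻¹ = 1 := Subgroup.disjoint_def.1 (disjoint_iff.2 hPA) (mul_mem (hPn.conj_mem g hg a) (inv_mem hg))
      (by rw [show a * g * a⁻¹ * g⁻¹ = a * (g * a⁻¹ * g⁻¹) by group]
          exact mul_mem haA (Subgroup.Normal.conj_mem ‹A.Normal› _ (inv_mem haA) g))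
    have hac : a ∈ A ⊓ Subgroup.centralizer {g} :=
      ⟨haA, Subgroup.mem_centralizer_singleton_iff.2
        (mul_inv_eq_iff_eq_mul.1 (mul_inv_eq_one.1 hc))⟩
    rw [hfix g hgA, Subgroup.mem_bot] at hac
    exact ha1 hac
  · intro H hH Q
    by_cases hHA : H ≤ A
    · have : (Q : Subgroup H) = ⊥ := by
        rw [← Subgroup.card_eq_one]
        obtain ⟨i, hi⟩ := Q.isPGroup'.exists_card_eq
        by_contra h
        rw [hi] at h
        exact hpA ((dvd_pow_self p (fun h0 => h (by rw [h0, pow_zero]))).trans
          (hi ▸ (Subgroup.card_subgroup_dvd_card _).trans (Subgroup.card_dvd_of_le hHA)))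
      rw [this]; infer_instance
    · obtain ⟨g, hg, hgA⟩ := SetLike.not_le_iff_exists.1 hHA
      have hn : (H ⊓ A).Normal := by
        refine Subgroup.normalizer_eq_top_iff.1 ((htop _ ?_).resolve_left ?_)
        · intro a ha
          rw [Subgroup.mem_normalizer_iff]
          intro y
          constructor
          · intro hy; rwa [hcomm a ha y hy.2, mul_inv_cancel_right]
          · intro hy
            have h := hcomm a⁻¹ (inv_mem ha) _ hy.2
            rwa [show y = a⁻¹ * (a * y * a⁻¹) * a by group, h, inv_mul_cancel_right]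
        · intro h
          refine hgA (h.le ?_)
          rw [Subgroup.mem_normalizer_iff]
          intro y
          rw [Subgroup.mem_inf, Subgroup.mem_inf]
          exact and_congr ⟨fun hy => mul_mem (mul_mem hg hy) (inv_mem hg),
            fun hy => by simpa [mul_assoc] using mul_mem (mul_mem (inv_mem hg) hy) hg⟩
            (Subgroup.mem_normalizer_iff.1
              ((Subgroup.normalizer_eq_top (H := A)).ge (Subgroup.mem_top g)) y)
      rcases hmin _ hn inf_le_right with h | h
      · have hcyc : ∀ u v : H, u * v = v * u := by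
          rcases (Nat.dvd_prime hp).1 (hPcard H h) with h' | h'
          · intro u v
            have : Subsingleton H := (Nat.card_eq_one_iff_unique.1 h').1
            exact Subsingleton.elim _ _
          · have := isCyclic_of_prime_card (α := H) h'
            exact fun u v => mul_comm' u v
        exact ⟨fun u hu v => by rwa [hcyc v u, mul_inv_cancel_right]⟩
      · exact absurd ((htop H (h.ge.trans inf_le_left)).resolve_left fun h' => hHA h'.le) hH
  · intro N hN hN1 Q
    have hAN : A ≤ N := by
      rcases hmin (N ⊓ A) inferInstance inf_le_right with h | h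
      · exfalso
        obtain ⟨g, hg, hg1⟩ : ∃ g ∈ N, g ≠ 1 := by
          by_contra h'
          push Not at h'
          exact hN1 ((Subgroup.eq_bot_iff_forall N).2 h')
        have hgA : g ∉ A := fun hga => hg1 (by
          have := h.le ⟨hg, hga⟩
          exact Subgroup.mem_bot.1 this)
        apply hA1
        rw [eq_bot_iff, ← hfix g hgA]
        refine le_inf le_rfl fun a ha => Subgroup.mem_centralizer_singleton_iff.2 ?_
        have h1 : a * g * a⁻¹ * g⁻¹ ∈ N ⊓ A := ⟨N.mul_mem (hN.conj_mem g hg a) (N.inv_mem hg), by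
          rw [show a * g * a⁻¹ * g⁻¹ = a * (g * a⁻¹ * g⁻¹) by group]
          exact A.mul_mem ha (Subgroup.Normal.conj_mem ‹A.Normal› _ (A.inv_mem ha) g)⟩
        rw [h, Subgroup.mem_bot] at h1
        exact mul_inv_eq_iff_eq_mul.1 (mul_inv_eq_one.1 h1)
      · exact h.ge.trans inf_le_left
    have hdvd : Nat.card (G ⧸ N) ∣ p := by
      rw [← Subgroup.index_eq_card, ← hidx]; exact Subgroup.index_dvd_of_le hAN
    have hcyc : ∀ u v : G ⧸ N, u * v = v * u := by
      rcases (Nat.dvd_prime hp).1 hdvd with h' | h'
      · intro u v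
        have : Subsingleton (G ⧸ N) := (Nat.card_eq_one_iff_unique.1 h').1
        exact Subsingleton.elim _ _
      · have := isCyclic_of_prime_card (α := G ⧸ N) h'
        exact fun u v => mul_comm' u v
    exact ⟨fun u hu v => by rwa [hcyc v u, mul_inv_cancel_right]⟩

end Cfsg.Agent.S3869
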