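import Cfsg.Statements.S0214
import Mathlib.GroupTheory.Sylow
import Mathlib.GroupTheory.Nilpotent

set_option autoImplicit false
open Cfsg

namespace Cfsg.Agent.S0214

/-- Let H be a proper subgroup of the finite group G and P a nontrivial Sylow 2-subgroup of H. Then H is strongly embedded in G if and only if N_G(X) ≤ H for every nontrivial subgroup X of P. -/
theorem result {G : Type*} [Group G] [Finite G] (H : Subgroup G) (hH : H ≠ ⊤) (P : Sylow 2 ↥H) (hP : (P : Subgroup ↥H) ≠ ⊥) : Cfsg.IsStronglyEmbedded H ↔ (∀ X : Subgroup ↥H, X ≤ (P : Subgroup ↥H) → X ≠ ⊥ → Subgroup.normalizer ((X.map H.subtype : Subgroup G) : Set G) ≤ H) := by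
  haveI : Fact (Nat.Prime 2) := ⟨Nat.prime_two⟩
  constructor
  · rintro ⟨-, -, hodd⟩ X hXP hX n hn
    by_contra hnH
    have hle : X.map H.subtype ≤ H ⊓ H.map (MulAut.conj n).toMonoidHom := by
      intro x hx
      have hxH : x ∈ H := Subgroup.map_subtype_le X hx
      refine ⟨hxH, n⁻¹ * x * n, ?_, by simp [mul_assoc]⟩
      exact Subgroup.map_subtype_le X ((Subgroup.mem_normalizer_iff''.mp hn x).mp hx)
    have h2 : IsPGroup 2 (X.map H.subtype) := (P.2.to_le hXP).map _
    obtain ⟨k, hk⟩ := IsPGroup.iff_card.mp h2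
    have hk0 : k ≠ 0 := by
      rintro rfl
      rw [pow_zero, Subgroup.card_eq_one, Subgroup.map_eq_bot_iff_of_injective _ H.subtype_injective] at hk
      exact hX hk
    have := (Subgroup.card_dvd_of_le hle)
    rw [hk] at this
    exact Nat.not_even_iff_odd.mpr (hodd n hnH) ((even_iff_two_dvd).mpr
      ((dvd_pow_self 2 hk0).trans this))
  intro hN
  have hHeven : Even (Nat.card H) := by
    obtain ⟨k, hk⟩ := IsPGroup.iff_card.mp P.2
    have hk0 : k ≠ 0 := by
      rintro rfl
      rw [pow_zero, Subgroup.card_eq_one] at hk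
      exact hP hk
    exact even_iff_two_dvd.mpr ((dvd_pow_self 2 hk0).trans (hk ▸ Subgroup.card_subgroup_dvd_card _))
  refine ⟨hH, hHeven, fun g hg => ?_⟩
  -- normalizers of nontrivial 2-subgroups of `H` lie in `H`
  have hloc : ∀ D : Subgroup G, D ≤ H → IsPGroup 2 D → D ≠ ⊥ →
      Subgroup.normalizer (D : Set G) ≤ H := by
    intro D hDH hD hDne n hn
    obtain ⟨R, hR⟩ := (hD.comap_of_injective H.subtype H.subtype_injective).exists_le_sylow
    obtain ⟨h, rfl⟩ := MulAction.exists_smul_eq H P R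
    let X : Subgroup H := (D.comap H.subtype).map (MulAut.conj h⁻¹).toMonoidHom
    have hXP : X ≤ P := by
      rintro x ⟨d, hd, rfl⟩
      have := hR hd
      rw [Sylow.coe_subgroup_smul, Subgroup.mem_pointwise_smul_iff_inv_smul_mem, MulAut.smul_def,
        ← map_inv] at this
      exact this
    have hmem : ∀ x : G, x ∈ X.map H.subtype ↔ (h : G) * x * (h : G)⁻¹ ∈ D := by
      intro x
      constructor
      · rintro ⟨y, ⟨d, hd, rfl⟩, rfl⟩
        simpa [mul_assoc, Subgroup.mem_subgroupOf] using hd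
      · intro hx
        have hxH : x ∈ H := by
          have h' := mul_mem (mul_mem (inv_mem h.2) (hDH hx)) h.2
          rwa [show (h : G)⁻¹ * ((h : G) * x * (h : G)⁻¹) * h = x by group] at h'
        refine ⟨⟨x, hxH⟩, ⟨h * ⟨x, hxH⟩ * h⁻¹, hx, ?_⟩, rfl⟩
        simp [mul_assoc]
    have hXne : X ≠ ⊥ := by
      intro hbot
      apply hDne
      rw [eq_bot_iff]
      intro d hd
      have h' : (h : G)⁻¹ * d * h ∈ X.map H.subtype :=
        (hmem _).mpr (by rwa [show (h : G) * ((h : G)⁻¹ * d * h) * (h : G)⁻¹ = d by group])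
      rw [hbot, Subgroup.map_bot, Subgroup.mem_bot] at h'
      rw [Subgroup.mem_bot]
      calc d = (h : G) * ((h : G)⁻¹ * d * h) * (h : G)⁻¹ := by group
        _ = 1 := by rw [h']; group
    have hn' : (h : G)⁻¹ * n * h ∈ Subgroup.normalizer ((X.map H.subtype : Subgroup G) : Set G) := by
      rw [Subgroup.mem_normalizer_iff]
      intro x
      rw [hmem, hmem, show (h : G) * ((h : G)⁻¹ * n * h * x * ((h : G)⁻¹ * n * h)⁻¹) * (h : G)⁻¹ =
        n * ((h : G) * x * (h : G)⁻¹) * n⁻¹ by group]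
      exact Subgroup.mem_normalizer_iff.mp hn _
    have := mul_mem (mul_mem h.2 (hN X hXP hXne hn')) (inv_mem h.2)
    rwa [show (h : G) * ((h : G)⁻¹ * n * h) * (h : G)⁻¹ = n by group] at this
  set K := H ⊓ H.map (MulAut.conj g).toMonoidHom with hK
  rw [← Nat.not_even_iff_odd]
  intro heven
  let D₀ : Sylow 2 K := default
  let D : Subgroup G := (D₀ : Subgroup K).map K.subtype
  have hDK : D ≤ K := Subgroup.map_subtype_le _
  have hD : IsPGroup 2 D := D₀.2.map _
  have hDne : D ≠ ⊥ := by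
    rw [Ne, Subgroup.map_eq_bot_iff_of_injective _ K.subtype_injective]
    exact D₀.ne_bot_of_dvd_card (even_iff_two_dvd.mp heven)
  have hconjH : ∀ x ∈ K, g⁻¹ * x * g ∈ H := by
    rintro x ⟨-, y, hy, rfl⟩
    simpa [mul_assoc] using hy
  have hnD : Subgroup.normalizer (D : Set G) ≤ K := by
    intro n hn
    refine ⟨hloc D (hDK.trans inf_le_left) hD hDne hn, g⁻¹ * n * g, ?_, by simp [mul_assoc]⟩
    have hle : D.map (MulAut.conj g⁻¹).toMonoidHom ≤ H := by
      rintro _ ⟨d, hd, rfl⟩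
      simpa [mul_assoc] using hconjH d (hDK hd)
    refine hloc _ hle (hD.map _) ?_ ?_
    · rw [Ne, Subgroup.map_eq_bot_iff_of_injective _ (MulAut.conj g⁻¹).injective]
      exact hDne
    · rw [← Subgroup.map_equiv_normalizer_eq]
      exact ⟨n, hn, by simp⟩
  obtain ⟨S, hS⟩ := hD.exists_le_sylow
  have hSD : (S : Subgroup G) ≤ D := by
    by_contra hnot
    have hlt : D.subgroupOf S < ⊤ := lt_top_iff_ne_top.mpr fun h => hnot (Subgroup.subgroupOf_eq_top.mp h)
    haveI := S.2.isNilpotent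
    obtain ⟨n, hn, hnD'⟩ := SetLike.exists_of_lt (Group.normalizerCondition_of_isNilpotent _ hlt)
    rw [← Subgroup.subgroupOf_normalizer_eq hS, Subgroup.mem_subgroupOf] at hn
    rw [Subgroup.mem_subgroupOf] at hnD'
    have hnK : (n : G) ∈ K := hnD hn
    have heq := D₀.3 (Q := (S : Subgroup G).comap K.subtype)
      (S.2.comap_of_injective K.subtype K.subtype_injective)
      (fun d hd => hS ⟨d, hd, rfl⟩)
    refine hnD' ⟨⟨n, hnK⟩, ?_, rfl⟩
    exact heq ▸ (n.2 : (⟨(n : G), hnK⟩ : K) ∈ (S : Subgroup G).comap K.subtype)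
  have hSH : (S : Subgroup G) ≤ H := (hSD.trans hDK).trans inf_le_left
  have hSH' : ((g⁻¹ • S : Sylow 2 G) : Subgroup G) ≤ H := by
    intro x hx
    rw [Sylow.coe_subgroup_smul, Subgroup.mem_pointwise_smul_iff_inv_smul_mem, MulAut.smul_def,
      map_inv, inv_inv, MulAut.conj_apply] at hx
    have := hconjH _ (hDK (hSD hx))
    rwa [show g⁻¹ * (g * x * g⁻¹) * g = x by group] at this
  obtain ⟨h, hh⟩ := MulAction.exists_smul_eq H (S.subtype hSH) ((g⁻¹ • S).subtype hSH')
  rw [Sylow.smul_subtype hSH h] at hh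
  have hh' := Sylow.subtype_injective hh
  have hfix : (g * h) • S = S := by rw [mul_smul]; exact (congrArg (g • ·) hh').trans (smul_inv_smul g S)
  have hmemN := Sylow.smul_eq_iff_mem_normalizer.mp hfix
  have hSne : (S : Subgroup G) ≠ ⊥ := fun h => hDne (eq_bot_iff.mpr (hS.trans h.le))
  have := mul_mem (hloc _ hSH S.2 hSne hmemN) (inv_mem h.2)
  exact hg (by rwa [mul_inv_cancel_right] at this)

end Cfsg.Agent.S0214
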