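import Cfsg.Statements.S4696
import Cfsg.Agent.Lib.Blocks.CyclicDefect.Main
-- import your own Cfsg.Agent.* helpers here

set_option autoImplicit false
open Cfsg

namespace Cfsg.Agent.S4696

/-- Let p be a prime, M a maximal ideal of the algebraic integers containing p, and B a p-block of the finite group G whose defect group D is cyclic of order p^a with a ≥ 1. Let C = C_G(D), let b be a block of C inducing B, let T be the stabilizer of b in N_G(D) (the elements g of N_G(D) such that the g-conjugate of every member of b is again in b), and let e be the index of C in T (the inertial index of B). Then e divides p − 1, every irreducible character in B has height zero, and B is the disjoint union of a set X of e characters and a set Y of (p^a − 1)/e characters, the members of Y agreeing on p-regular elements, for which there are signs δ_χ = ±1 (χ ∈ X) and δ₀ = ±1 such that: for every ψ ∈ Y and every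 p-regular g, δ₀ ψ(g) + Σ_{χ ∈ X} δ_χ χ(g) = 0; for all χ, χ' ∈ X the integers δ_χ χ(1) and δ_χ' χ'(1) are congruent modulo p^a; and for ψ ∈ Y and χ ∈ X, ψ(1) ≡ −e δ₀ δ_χ χ(1) modulo p^a. -/
theorem result {G : Type*} [Group G] [Finite G] (p : ℕ) [Fact p.Prime] (M : Ideal Cfsg.AlgInt) (hM : Cfsg.IsPModular p M) (D : Subgroup G) (hD : IsCyclic D) (a : ℕ) (ha : 1 ≤ a) (hDa : Nat.card D = p ^ a) (B : Set (Cfsg.IrrCharacter G)) (hB : Cfsg.IsPBlock M B) (hBD : Cfsg.IsDefectGroup p M B D) (b : Set (Cfsg.IrrCharacter (Subgroup.centralizer (D : Set G)))) (hind : Cfsg.IsInducedBlock M (Subgroup.centralizer (D : Set G)) b B) (T : Subgroup G) (hT : ∀ g : G, g ∈ T ↔ (g ∈ Subgroup.normalizer (D : Set G) ∧ ∀ θ ∈ b, ∀ θ' : Cfsg.IrrCharacter (Subgroup.centralizer (D : Set G)), (∀ h h' : Subgroup.centralizer (D : Set G), (h' : G) = g * h * g⁻¹ → (θ' : Subgroup.centralizer (D : Set G) → ℂ) h' = (θ : Subgroup.centralizer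 (D : Set G) → ℂ) h) → θ' ∈ b)) (e : ℕ) (he : (Subgroup.centralizer (D : Set G)).relIndex T = e) : e ∣ p - 1 ∧ (∀ χ ∈ B, Cfsg.blockHeight p B (χ : G → ℂ) = 0) ∧ ∃ X Y : Set (Cfsg.IrrCharacter G), B = X ∪ Y ∧ Disjoint X Y ∧ Nat.card X = e ∧ Nat.card Y = (p ^ a - 1) / e ∧ (∀ ψ ∈ Y, ∀ ψ' ∈ Y, ∀ g : G, ¬ p ∣ orderOf g → (ψ : G → ℂ) g = (ψ' : G → ℂ) g) ∧ ∃ (δ : Cfsg.IrrCharacter G → ℤ) (δ₀ : ℤ), (∀ χ ∈ X, δ χ = 1 ∨ δ χ = -1) ∧ (δ₀ = 1 ∨ δ₀ = -1) ∧ (∀ ψ ∈ Y, ∀ g : G, ¬ p ∣ orderOf g → (δ₀ : ℂ) * (ψ : G → ℂ) g + ∑ᶠ χ ∈ X, (δ χ : ℂ) * (χ : G → ℂ) g = 0) ∧ (∀ χ ∈ X, ∀ χ' ∈ X, δ χ * (Cfsg.charDegree (χ : G → ℂ) : ℤ) ≡ δ χ' * (Cfsg.charDegree (χ' : G → ℂ) : ℤ) [ZMOD (p : ℤ) ^ a]) ∧ (∀ ψ ∈ Y, ∀ χ ∈ X, (Cfsg.charDegree (ψ : G → ℂ) : ℤ) ≡ -((e : ℤ) * δ₀ * δ χ * (Cfsg.charDegree (χ : G → ℂ) : ℤ)) [ZMOD (p : ℤ) ^ a]) := by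
  classical
  letI := Fintype.ofFinite G
  have : M.IsMaximal := hM.2.1
  have : CharP (AlgInt ⧸ M) p := Blocks.charP_residue hM.2.2
  have d := Blocks.CyclicDefect.datum_of_induced hM hB hBD
    (Blocks.CyclicDefect.ne_bot_of_card ha hDa) hD hind
  obtain rfl := BrauerPairs.eq_stabOf d.local_block fun g => (hT g).trans
    (and_congr_right fun hg => (Blocks.CyclicDefect.stabilizesBlock_iff_forall
      (BrauerPairs.normalizer_le_normalizer_centralizer D hg)).symm)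
  subst he
  obtain ⟨θ, hinv, hθ, ⟨S⟩⟩ := d.exists_shape
  have hv : a ≤ (Nat.card G).factorization p := by
    have h := D.card_subgroup_dvd_card
    rw [hDa] at h
    exact ((Fact.out : p.Prime).pow_dvd_iff_le_factorization Nat.card_pos.ne').1 h
  have hdvd : ((p : ℤ) ^ a) ∣ (p : ℤ) ^ (Nat.card G).factorization p := pow_dvd_pow _ hv
  have hY := S.card_Y
  rw [hDa] at hY
  refine ⟨d.dvd_pred, fun χ hχ => S.height_zero hθ hχ, (S.X : Set _), (S.Y : Set _), ?_, ?_, ?_, ?_,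
    fun ψ hψ ψ' hψ' g hg => S.agree ψ hψ ψ' hψ' g hg, S.sgn, S.sgn₀, fun χ hχ => S.sgn_unit χ hχ,
    S.sgn₀_unit, fun ψ hψ g hg => ?_, fun χ hχ χ' hχ' => ?_, fun ψ hψ χ hχ => ?_⟩
  · ext χ; simpa using S.mem_iff χ
  · exact Finset.disjoint_coe.2 S.disj
  · rw [Nat.card_coe_set_eq, Set.ncard_coe_finset]; exact S.card_X
  · rw [Nat.card_coe_set_eq, Set.ncard_coe_finset]
    exact (Nat.div_eq_of_eq_mul_left d.inIndex_pos (by omega)).symm
  · rw [finsum_mem_coe_finset]; exact S.relation ψ hψ g hg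
  · rw [Blocks.charDegree_eq, Blocks.charDegree_eq]
    exact ((Int.modEq_iff_dvd).2 (hdvd.trans (S.degree_congr_X hθ hχ hχ'))).symm
  · rw [Blocks.charDegree_eq, Blocks.charDegree_eq]
    obtain ⟨k, hk⟩ := hdvd.trans (S.degree_congr_Y hθ hχ hψ)
    refine Int.modEq_iff_dvd.2 ⟨((Blocks.CyclicDefect.inIndex M D b : ℕ) : ℤ) * S.sgn₀ * k
      - (Char.degree ψ : ℤ), ?_⟩
    have hY' : (S.Y.card : ℤ) * Blocks.CyclicDefect.inIndex M D b + 1 = (p : ℤ) ^ a := by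
      exact_mod_cast hY
    have hs : S.sgn₀ * S.sgn₀ = 1 := by rcases S.sgn₀_unit with h | h <;> rw [h] <;> rfl
    linear_combination (((Blocks.CyclicDefect.inIndex M D b : ℕ) : ℤ) * S.sgn₀) * hk
      - (Char.degree ψ : ℤ) * hY' - ((S.Y.card : ℤ) * Blocks.CyclicDefect.inIndex M D b * (Char.degree ψ : ℤ)) * hs

end Cfsg.Agent.S4696
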