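import Cfsg.Statements.S5112
import Cfsg.Agent.Lib.Fusion.Saturated
import Cfsg.Agent.Lib.PCore.Basic

set_option autoImplicit false
open Cfsg

namespace Cfsg.Agent.S5112

/-- The automorphism group of a group with a distinguished cyclic subgroup of index two and order
`2 ^ k` is a `2`-group. -/
theorem isPGroup_mulAut_of_cyclic_index_two {X : Type*} [Group X] [Finite X] (r s : X) (k : ℕ)
    (hk : 1 ≤ k) (hr : orderOf r = 2 ^ k) (hord : ∀ x : X, orderOf x = 2 ^ k → x ∈ Subgroup.zpowers r)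
    (hs : s ∉ Subgroup.zpowers r)
    (hsplit : ∀ x, x ∈ Subgroup.zpowers r ∨ s⁻¹ * x ∈ Subgroup.zpowers r) :
    IsPGroup 2 (MulAut X) := by
  intro α
  have hmem : ∀ x : X, x ∈ Subgroup.zpowers r → ∃ i : ℕ, r ^ i = x := fun x hx =>
    Submonoid.mem_powers_iff _ _ |>.1 (mem_powers_iff_mem_zpowers.2 hx)
  obtain ⟨i, hi⟩ := hmem (α r) (hord _ (by rw [MulEquiv.orderOf_eq, hr]))
  have hcop : i.Coprime (2 ^ k) := by
    have h1 : orderOf (r ^ i) = 2 ^ k := by rw [hi, MulEquiv.orderOf_eq, hr]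
    rw [orderOf_pow, hr] at h1
    have hg : (2 ^ k).gcd i ∣ 2 ^ k := Nat.gcd_dvd_left _ _
    have := Nat.eq_mul_of_div_eq_right hg h1
    have hpos : 0 < 2 ^ k := by positivity
    rw [Nat.Coprime, Nat.gcd_comm]
    nlinarith
  have hpow : ∀ j, (α ^ j) r = r ^ (i ^ j) := by
    intro j
    induction j with
    | zero => simp
    | succ j ih =>
      rw [pow_succ' α, MulAut.mul_apply, ih, map_pow, ← hi, ← pow_mul, pow_succ']
  set N := Nat.totient (2 ^ k)
  set β := α ^ N with hβ
  have hβr : β r = r := by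
    rw [hβ, hpow, ← pow_mod_orderOf, hr, Nat.ModEq.pow_totient hcop]
    have : 1 < 2 ^ k := Nat.one_lt_pow (by omega) (by omega)
    rw [Nat.one_mod_eq_one.2 (by omega), pow_one]
  have hβC : ∀ c ∈ Subgroup.zpowers r, β c = c := by
    intro c hc
    obtain ⟨j, rfl⟩ := hmem c hc
    rw [map_pow, hβr]
  have hd : s⁻¹ * β s ∈ Subgroup.zpowers r := by
    refine (hsplit (β s)).resolve_left fun h => hs ?_
    have := β.injective (hβC _ h)
    rwa [this] at h
  have hβs : ∀ j, (β ^ j) s = s * (s⁻¹ * β s) ^ j := by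
    intro j
    induction j with
    | zero => simp
    | succ j ih =>
      rw [pow_succ' β, MulAut.mul_apply, ih, map_mul, map_pow, hβC _ hd, pow_succ', ← mul_assoc]
      group
  have hfix : (β ^ 2 ^ k) = 1 := by
    refine MulEquiv.ext fun x => ?_
    have h1 : ∀ c ∈ Subgroup.zpowers r, (β ^ 2 ^ k) c = c := by
      intro c hc
      have : ∀ j, (β ^ j) c = c := by
        intro j
        induction j with
        | zero => simp
        | succ j ih => rw [pow_succ' β, MulAut.mul_apply, ih, hβC c hc]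
      exact this _
    have h2 : (β ^ 2 ^ k) s = s := by
      rw [hβs]
      obtain ⟨j, hj⟩ := hmem _ hd
      rw [← hj, ← pow_mul, mul_comm j, pow_mul, ← hr, pow_orderOf_eq_one, one_pow, mul_one]
    show (β ^ 2 ^ k) x = x
    rcases hsplit x with h | h
    · exact h1 x h
    · have h3 := h1 _ h
      rw [map_mul, map_inv, h2] at h3
      exact mul_left_cancel h3
  refine ⟨k - 1 + k, ?_⟩
  have hN : N = 2 ^ (k - 1) := by
    show Nat.totient (2 ^ k) = _
    rw [Nat.totient_prime_pow Nat.prime_two (by omega)]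
    simp
  rw [pow_add, pow_mul, ← hN]
  exact hfix

theorem isPGroup_mulAut_dihedral (k : ℕ) (hk : 2 ≤ k) :
    IsPGroup 2 (MulAut (DihedralGroup (2 ^ k))) := by
  have : NeZero (2 ^ k) := ⟨by positivity⟩
  refine isPGroup_mulAut_of_cyclic_index_two (DihedralGroup.r 1) (DihedralGroup.sr 0) k (by omega)
    DihedralGroup.orderOf_r_one ?_ ?_ ?_
  · rintro (i | i) hx
    · exact ⟨i.val, by simp⟩
    · rw [DihedralGroup.orderOf_sr] at hx
      have : (2 : ℕ) ^ 2 ≤ 2 ^ k := Nat.pow_le_pow_right (by norm_num) hk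
      omega
  · rintro ⟨j, hj⟩
    simp [DihedralGroup.r_one_zpow] at hj
  · rintro (i | i)
    · exact Or.inl ⟨i.val, by simp⟩
    · refine Or.inr ⟨i.val, ?_⟩
      simp [DihedralGroup.sr_mul_sr]

theorem isPGroup_mulAut_quaternion (k : ℕ) (hk : 2 ≤ k) :
    IsPGroup 2 (MulAut (QuaternionGroup (2 ^ k))) := by
  have : NeZero (2 ^ k) := ⟨by positivity⟩
  refine isPGroup_mulAut_of_cyclic_index_two (QuaternionGroup.a 1) (QuaternionGroup.xa 0) (k + 1)
    (by omega) (by rw [QuaternionGroup.orderOf_a_one, pow_succ, mul_comm]) ?_ ?_ ?_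
  · rintro (i | i) hx
    · exact ⟨i.val, (zpow_natCast _ _).trans ((QuaternionGroup.a_one_pow _).trans (by rw [ZMod.natCast_rightInverse i]))⟩
    · rw [QuaternionGroup.orderOf_xa] at hx
      have : (2 : ℕ) ^ 3 ≤ 2 ^ (k + 1) := Nat.pow_le_pow_right (by norm_num) (by omega)
      omega
  · intro h
    obtain ⟨j, hj⟩ := Submonoid.mem_powers_iff _ _ |>.1 (mem_powers_iff_mem_zpowers.2 h)
    simp [QuaternionGroup.a_one_pow] at hj
  · rintro (i | i)
    · exact Or.inl ⟨i.val, (zpow_natCast _ _).trans ((QuaternionGroup.a_one_pow _).trans (by rw [ZMod.natCast_rightInverse i]))⟩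
    · refine Or.inr ⟨i.val, ?_⟩
      have h : (QuaternionGroup.xa 0 : QuaternionGroup (2 ^ k)) * QuaternionGroup.a i = QuaternionGroup.xa i := by
        rw [QuaternionGroup.xa_mul_a, zero_add]
      show (QuaternionGroup.a 1) ^ ((i.val : ℕ) : ℤ) = _
      rw [zpow_natCast, QuaternionGroup.a_one_pow, ZMod.natCast_rightInverse i, ← h,
        inv_mul_cancel_left]

/-- If S is a dihedral or generalized quaternion 2-group of order at least 16, then in every saturated fusion system over S (at the prime 2) the automorphism group Aut_F(S) consists of the inner automorphisms of S. -/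
theorem result {Ω : Type*} [Group Ω] {S : Subgroup Ω} [Finite S] (n : ℕ) (hn : 4 ≤ n) (hshape : Nonempty (S ≃* DihedralGroup (2 ^ (n - 1))) ∨ Nonempty (S ≃* QuaternionGroup (2 ^ (n - 2)))) (F : Cfsg.FusionSystem S) (hF : F.IsSaturated 2) : F.autGroup S = Cfsg.Inn S := by
  obtain ⟨hfinS, hcase⟩ : Finite S ∧ IsPGroup 2 (MulAut S) ∧ IsPGroup 2 S := by
    refine ⟨inferInstance, ?_⟩
    rcases hshape with ⟨⟨e⟩⟩ | ⟨⟨e⟩⟩
    · refine ⟨(isPGroup_mulAut_dihedral (n - 1) (by omega)).of_equiv (MulAut.congr e).symm,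
        IsPGroup.of_card (n := n) ?_⟩
      rw [Nat.card_congr e.toEquiv, DihedralGroup.nat_card, ← pow_succ', Nat.sub_add_cancel (by omega)]
    · refine ⟨(isPGroup_mulAut_quaternion (n - 2) (by omega)).of_equiv (MulAut.congr e).symm,
        IsPGroup.of_card (n := n) ?_⟩
      have : NeZero (2 ^ (n - 2)) := ⟨by positivity⟩
      rw [Nat.card_congr e.toEquiv, Nat.card_eq_fintype_card, QuaternionGroup.card,
        show 4 = 2 ^ 2 by norm_num, ← pow_add]
      congr 1
      omega
  obtain ⟨-, R, hR⟩ := Cfsg.Agent.Fusion.isFullyAutomized_self hcase.2 hF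
  rw [Cfsg.Agent.Fusion.autInducedBy_self] at hR
  have hA : IsPGroup 2 (F.autGroup S) := hcase.1.to_subgroup _
  have htop : (R : Subgroup (F.autGroup S)) = ⊤ :=
    (R.3 (Cfsg.Agent.PCore.isPGroup_top_iff.2 hA) le_top).symm
  rw [htop] at hR
  exact le_antisymm (Subgroup.subgroupOf_eq_top.1 hR.symm) (Cfsg.Agent.Fusion.inn_le_autGroup F le_rfl)

end Cfsg.Agent.S5112
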