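import Cfsg.Statements.S1523
import Cfsg.Agent.Lib.Char.ClassSum
import Cfsg.Agent.Lib.Char.Generalized
import Cfsg.Agent.Lib.CharInt.Basic

set_option autoImplicit false
open Cfsg

namespace Cfsg.Agent.S1523

/-- An algebraic integer whose multiple by a nonzero integer is an integer, is an integer. -/
theorem exists_int_of_mul {x : ℂ} (hx : IsIntegral ℤ x) {m n : ℤ} (hm : m ≠ 0)
    (h : (m : ℂ) * x = n) : ∃ k : ℤ, x = k := by
  have hq : x = algebraMap ℚ ℂ ((n : ℚ) / m) := by
    simp only [eq_ratCast, Rat.cast_div, Rat.cast_intCast]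
    rw [eq_div_iff (Int.cast_ne_zero.2 hm), mul_comm, h]
  have h' : IsIntegral ℤ ((n : ℚ) / m) := by
    rw [hq] at hx
    exact (isIntegral_algebraMap_iff (algebraMap ℚ ℂ).injective).1 hx
  obtain ⟨k, hk⟩ := IsIntegrallyClosed.isIntegral_iff.1 h'
  exact ⟨k, by rw [hq, ← hk]; simp⟩

/-- The sum of an invariant function over a set with free action is a multiple of the group order. -/
theorem sum_free {P : Type*} [Group P] [Fintype P] {α : Type*} [MulAction P α] (f : α → ℂ)
    (hint : ∀ a, IsIntegral ℤ (f a)) (hf : ∀ (u : P) a, f (u • a) = f a) (T : Finset α)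
    (hT : ∀ (u : P), ∀ a ∈ T, u • a ∈ T) (hfree : ∀ (u : P), ∀ a ∈ T, u • a = a → u = 1) :
    ∃ w, IsIntegral ℤ w ∧ ∑ a ∈ T, f a = (Fintype.card P : ℂ) * w := by
  classical
  induction T using Finset.strongInduction with
  | _ T ih =>
    rcases T.eq_empty_or_nonempty with rfl | ⟨a, ha⟩
    · exact ⟨0, isIntegral_zero, by simp⟩
    set O : Finset α := Finset.univ.image fun u : P => u • a with hO
    have hOT : O ⊆ T := by
      intro b hb
      obtain ⟨u, -, rfl⟩ := Finset.mem_image.1 hb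
      exact hT u a ha
    have haO : a ∈ O := Finset.mem_image.2 ⟨1, Finset.mem_univ _, one_smul _ _⟩
    have hO' : ∀ (u : P) b, b ∈ O → u • b ∈ O := fun u b hb => by
      obtain ⟨v, -, rfl⟩ := Finset.mem_image.1 hb
      exact Finset.mem_image.2 ⟨u * v, Finset.mem_univ _, mul_smul _ _ _⟩
    obtain ⟨w, hw, hsum⟩ := ih (T \ O) (Finset.sdiff_ssubset hOT ⟨a, haO⟩)
      (fun u b hb => by
        rw [Finset.mem_sdiff] at hb ⊢
        exact ⟨hT u b hb.1, fun h => hb.2 (by simpa using hO' u⁻¹ _ h)⟩)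
      (fun u b hb => hfree u b (Finset.mem_sdiff.1 hb).1)
    refine ⟨w + f a, hw.add (hint a), ?_⟩
    rw [← Finset.sum_sdiff hOT, hsum]
    have : ∑ b ∈ O, f b = (Fintype.card P : ℂ) * f a := by
      rw [hO, Finset.sum_image]
      · simp [hf]
      · intro u _ v _ h
        have : (v⁻¹ * u) • a = a := by rw [mul_smul, show u • a = v • a from h, inv_smul_smul]
        have := hfree _ a ha this
        exact (inv_mul_eq_one.1 this).symm
    rw [this]
    ring

/-- Let G be a finite group, p a prime, P a Sylow p-subgroup whose underlying set is a TI-subset of G, with L the set normaliser of P of odd order. Let Z ≠ ⊥ be a subgroup of P, normal in L and central in P, such that the centralisers in L of any two non-identity elements of Z have the same order. If ψ is an irreducible character of G taking the same value at all non-identity elements of Z, then for z ∈ Z, z ≠ 1, the value ψ z is an integer n with Nat.card P dividing ψ(1) − n (as integers, ψ 1 being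 the degree). -/
theorem result {G : Type*} [Group G] [Finite G] (p : ℕ) [Fact p.Prime] (P : Sylow p G) (hTI : Cfsg.IsTISubset ((P : Subgroup G) : Set G)) (hodd : Odd (Nat.card (Subgroup.normalizer ((P : Subgroup G) : Set G)))) (Z : Subgroup G) (hZ1 : Z ≠ ⊥) (hZP : Z ≤ P) (hZn : ∀ x ∈ Subgroup.normalizer ((P : Subgroup G) : Set G), ∀ z ∈ Z, x * z * x⁻¹ ∈ Z) (hZc : ∀ z ∈ Z, ∀ y ∈ (P : Subgroup G), z * y = y * z) (hCL : ∀ z ∈ Z, ∀ z' ∈ Z, z ≠ 1 → z' ≠ 1 → Nat.card ↥(Subgroup.normalizer ((P : Subgroup G) : Set G) ⊓ Subgroup.centralizer ({z} : Set G)) = Nat.card ↥(Subgroup.normalizer ((P : Subgroup G) : Set G) ⊓ Subgroup.centralizer ({z'} : Set G))) (ψ : G → ℂ) (hψ : Cfsg.IsIrrCharacter G ψ) (hconst : ∀ z ∈ Z, ∀ z' ∈ Z, z ≠ 1 → z' ≠ 1 → ψ z = ψ z') (z : G) (hz : z ∈ Z) (hz1 : z ≠ 1) : ∃ n d : ℤ, ψ z = n ∧ ψ 1 = d ∧ (Nat.card (P : Subgroup G) : ℤ) ∣ d - n := by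
  classical
  haveI := Fintype.ofFinite G
  haveI : Fintype (P : Subgroup G) := Fintype.ofFinite _
  haveI : Fintype Z := Fintype.ofFinite _
  set L := Subgroup.normalizer ((P : Subgroup G) : Set G) with hL
  set a := ψ z with ha
  have hint : ∀ g, IsIntegral ℤ (ψ g) := fun g =>
    Cfsg.Agent.CharInt.isIntegral_char (Cfsg.Agent.Char.IsIrrCharacter.isCharacter hψ) g
  obtain ⟨d, hd0, hd⟩ := Cfsg.Agent.Char.IsIrrCharacter.exists_degree hψ
  have hψcl := Cfsg.Agent.Char.IsCharacter.isClassFunction (Cfsg.Agent.Char.IsIrrCharacter.isCharacter hψ)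
  have hPL : (P : Subgroup G) ≤ L := Subgroup.le_normalizer
  have hmemL : ∀ g : G, ∀ x ∈ (P : Subgroup G), x ≠ 1 → g * x * g⁻¹ ∈ (P : Subgroup G) → g ∈ L := by
    intro g x hx hx1 hgx
    by_contra hg
    exact hx1 (hTI g hg x hx hgx)
  have hfus : ∀ g : G, ∀ x ∈ Z, x ≠ 1 → g * x * g⁻¹ ∈ L → g ∈ L := by
    intro g x hx hx1 hgx
    have hp : IsPGroup p (Subgroup.zpowers (g * x * g⁻¹)) := by
      have h1 : IsPGroup p ((P : Subgroup G).map (MulAut.conj g).toMonoidHom) := P.isPGroup'.map _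
      refine h1.to_le (Subgroup.zpowers_le.2 ?_)
      exact Subgroup.mem_map.2 ⟨x, hZP hx, rfl⟩
    have hle : Subgroup.zpowers (g * x * g⁻¹) ⊔ (P : Subgroup G) ≤ (P : Subgroup G) := by
      have h2 : IsPGroup p ↥(Subgroup.zpowers (g * x * g⁻¹) ⊔ (P : Subgroup G)) :=
        hp.to_sup_of_normal_right' P.isPGroup' (Subgroup.zpowers_le.2 hgx)
      exact (P.3 h2 le_sup_right).le
    exact hmemL g x (hZP hx) hx1 (hle (Subgroup.mem_sup_left (Subgroup.mem_zpowers _)))
  -- `z` is not conjugate to its inverse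
  have hninv : ¬ IsConj z z⁻¹ := by
    rintro hc
    obtain ⟨g, hg⟩ := isConj_iff.1 hc
    have hgL : g ∈ L := hfus g z hz hz1 (by rw [hg]; exact inv_mem (hPL (hZP hz)))
    have hdvd : orderOf g ∣ Nat.card L := Subgroup.orderOf_dvd_natCard L hgL
    obtain ⟨k, hk⟩ := Odd.of_dvd_nat hodd hdvd
    have h1 : g * g * z * (g * g)⁻¹ = z := by
      calc g * g * z * (g * g)⁻¹ = g * (g * z * g⁻¹) * g⁻¹ := by group
        _ = (g * z * g⁻¹)⁻¹ := by rw [hg]; simp [← hg, mul_assoc]
        _ = z := by rw [hg, inv_inv]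
    have h2 : Commute (g * g) z := by
      have := congrArg (· * (g * g)) h1
      simpa [Commute, SemiconjBy, mul_assoc] using this
    have h3 : g = ((g * g) ^ (k + 1)) := by
      rw [← pow_two, ← pow_mul, show 2 * (k + 1) = orderOf g + 1 by omega, pow_add, pow_orderOf_eq_one,
        one_mul, pow_one]
    have h4 : Commute g z := h3 ▸ h2.pow_left _
    rw [h4.eq, mul_inv_cancel_right] at hg
    have hz2 : z ^ 2 = 1 := by rw [pow_two]; nth_rw 1 [hg]; exact inv_mul_cancel z
    have h5 : orderOf z ∣ 2 := orderOf_dvd_of_pow_eq_one hz2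
    have h6 := Odd.of_dvd_nat hodd (Subgroup.orderOf_dvd_natCard L (hPL (hZP hz)))
    rcases (Nat.dvd_prime Nat.prime_two).1 h5 with h | h
    · exact hz1 (orderOf_eq_one_iff.1 h)
    · rw [h] at h6; exact absurd h6 (by decide)
  set Y : Finset G := Finset.univ.filter fun g => IsConj z g with hY
  set Y' : Finset G := Finset.univ.filter fun g => IsConj z⁻¹ g with hY'
  have hconjInv : ∀ g : G, IsConj z⁻¹ g ↔ IsConj z g⁻¹ := by
    intro g
    simp only [isConj_iff]
    constructor <;> rintro ⟨c, hc⟩ <;> refine ⟨c, ?_⟩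
    · rw [← hc]; group
    · rw [← inv_inv g, ← hc]; group
  have hY'eq : Y' = Y.image (·⁻¹) := by
    ext g
    simp only [hY, hY', Finset.mem_filter, Finset.mem_univ, true_and, Finset.mem_image]
    rw [hconjInv]
    exact ⟨fun h => ⟨g⁻¹, h, inv_inv g⟩, by rintro ⟨b, hb, rfl⟩; rwa [inv_inv]⟩
  -- both class sums are the same
  have hsum : ∀ w : G, (d : ℂ) * ∑ g ∈ Finset.univ.filter (fun g => IsConj w g), ψ (g * z) =
      ((Finset.univ.filter fun g => IsConj w g).card : ℂ) * ψ w * a := by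
    intro w
    have h := Cfsg.Agent.Char.sum_mul_irr_apply_mul (Cfsg.Agent.Char.isClassFunction_indicator w) hψ z
    simp only [ite_mul, one_mul, zero_mul, ← Finset.sum_filter] at h
    rw [← hd, h, Finset.sum_congr rfl (g := fun _ => ψ w) (fun g hg =>
      (Cfsg.Agent.Char.IsClassFunction.apply_of_isConj hψcl (Finset.mem_filter.1 hg).2).symm),
      Finset.sum_const, nsmul_eq_mul]
  have hcard : Y'.card = Y.card := by rw [hY'eq]; exact Finset.card_image_of_injective _ inv_injective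
  have hzinv : ψ z⁻¹ = a := hconst _ (inv_mem hz) _ hz (inv_ne_one.2 hz1) hz1
  have hd' : (d : ℂ) ≠ 0 := by exact_mod_cast hd0.ne'
  have hEq : ∑ g ∈ Y, ψ (g * z) = ∑ g ∈ Y', ψ (g * z) := by
    apply mul_left_cancel₀ hd'
    rw [hY, hY', hsum z, hsum z⁻¹, hzinv]
    rw [show (Finset.univ.filter fun g => IsConj z⁻¹ g).card =
      (Finset.univ.filter fun g => IsConj z g).card from hcard]
  -- the parts inside the normaliser
  set A := Y.filter (· ∈ L) with hA
  have hA' : Y'.filter (· ∈ L) = A.image (·⁻¹) := by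
    rw [hY'eq, hA, Finset.filter_image]
    simp only [inv_mem_iff]
  have hAZ : ∀ g ∈ A, g ∈ Z ∧ g ≠ 1 := by
    intro g hg
    simp only [hA, hY, Finset.mem_filter, Finset.mem_univ, true_and] at hg
    obtain ⟨c, hc⟩ := isConj_iff.1 hg.1
    refine ⟨hc ▸ hZn c (hfus c z hz hz1 (hc ▸ hg.2)) z hz, ?_⟩
    intro hg1
    rw [hg1] at hc
    exact hz1 (conj_eq_one_iff.1 hc)
  have hzA : z ∈ A := by
    simp only [hA, hY, Finset.mem_filter, Finset.mem_univ, true_and]
    exact ⟨IsConj.refl z, hPL (hZP hz)⟩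
  have hzinvA : z⁻¹ ∉ A := fun h => hninv (Finset.mem_filter.1 (Finset.mem_filter.1 h).1).2
  have hval : ∀ g ∈ Z, g * z ≠ 1 → ψ (g * z) = a := fun g hg h => hconst _ (mul_mem hg hz) _ hz h hz1
  have hs1 : ∑ g ∈ A, ψ (g * z) = (A.card : ℂ) * a := by
    rw [Finset.sum_congr rfl (g := fun _ => a) (fun g hg => hval g (hAZ g hg).1 fun h =>
      hzinvA ((eq_inv_of_mul_eq_one_left h) ▸ hg)), Finset.sum_const, nsmul_eq_mul]
  have hs2 : ∑ g ∈ A.image (·⁻¹), ψ (g * z) = (d : ℂ) + ((A.card : ℂ) - 1) * a := by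
    rw [Finset.sum_image (fun x _ y _ h => inv_injective h), ← Finset.add_sum_erase _ _ hzA]
    rw [inv_mul_cancel, hd, Finset.sum_congr rfl (g := fun _ => a) (fun g hg => by
      obtain ⟨hne, hgA⟩ := Finset.mem_erase.1 hg
      exact hval _ (inv_mem (hAZ g hgA).1) fun h => hne (inv_mul_eq_one.1 h)),
      Finset.sum_const, nsmul_eq_mul, Finset.card_erase_of_mem hzA,
      Nat.cast_sub (Finset.card_pos.2 ⟨z, hzA⟩), Nat.cast_one]
  -- the parts outside
  letI : MulAction (P : Subgroup G) G :=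
    MulAction.compHom G ((MulAut.conj : G →* MulAut G).comp (P : Subgroup G).subtype)
  have hsm : ∀ (u : (P : Subgroup G)) (g : G), u • g = (u : G) * g * (u : G)⁻¹ := fun _ _ => rfl
  have hout : ∀ w : G,
      ∃ r, IsIntegral ℤ r ∧ ∑ g ∈ (Finset.univ.filter fun g => IsConj w g).filter (· ∉ L), ψ (g * z) =
        (Fintype.card (P : Subgroup G) : ℂ) * r := by
    intro w
    refine sum_free (fun g => ψ (g * z)) (fun g => hint _) (fun u g => ?_) _ (fun u g hg => ?_)
      (fun u g hg hfix => ?_)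
    · show ψ (u • g * z) = _
      rw [hsm, ← hψcl (g * z) (u : G)]
      congr 1
      calc (u : G) * g * (u : G)⁻¹ * z = (u : G) * g * (u : G)⁻¹ * ((u : G) * z * (u : G)⁻¹) := by
            rw [← hZc z hz u u.2, mul_inv_cancel_right]
        _ = _ := by group
    · simp only [Finset.mem_filter, Finset.mem_univ, true_and, hsm] at hg ⊢
      refine ⟨hg.1.trans (isConj_iff.2 ⟨u, rfl⟩), fun h => hg.2 ?_⟩
      have := mul_mem (mul_mem (inv_mem (hPL u.2)) h) (hPL u.2)
      simpa [mul_assoc] using this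
    · simp only [Finset.mem_filter, Finset.mem_univ, true_and] at hg
      by_contra hu
      refine hg.2 (hmemL g u u.2 (fun e => hu (Subtype.ext e)) ?_)
      have hcomm : (u : G) * g = g * u := by
        have := congrArg (· * (u : G)) ((hsm u g).symm.trans hfix)
        simpa using this
      rw [← hcomm, mul_inv_cancel_right]
      exact u.2
  obtain ⟨r1, hr1, hs3⟩ := hout z
  obtain ⟨r2, hr2, hs4⟩ := hout z⁻¹
  rw [← Finset.sum_filter_add_sum_filter_not Y (· ∈ L), ← Finset.sum_filter_add_sum_filter_not Y' (· ∈ L),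
    hA', ← hA, hs1, hs2, hY, hY', hs3, hs4] at hEq
  have hdiff : (d : ℂ) - a = (Fintype.card (P : Subgroup G) : ℂ) * (r1 - r2) := by
    linear_combination -hEq
  -- rationality
  obtain ⟨k, hk⟩ : ∃ k : ℤ, ∑ g : Z, ψ g = k * (Nat.card Z : ℂ) := by
    obtain ⟨m, hm⟩ := Cfsg.Agent.Char.IsGeneralizedCharacter.exists_int_classInner
      (Cfsg.Agent.Char.IsCharacter.isGeneralized
        (Cfsg.Agent.Char.IsCharacter.restrict (Cfsg.Agent.Char.IsIrrCharacter.isCharacter hψ) Z))
      (Cfsg.Agent.Char.IsCharacter.isGeneralized (Cfsg.Agent.Char.isCharacter_one (G := Z)))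
    refine ⟨m, ?_⟩
    rw [← hm, classInner]
    simp only [map_one, mul_one]
    field_simp [Cfsg.Agent.Char.card_ne_zero (G := Z)]
  have hsumZ : ∑ g : Z, ψ g = (d : ℂ) + ((Nat.card Z : ℂ) - 1) * a := by
    rw [← Finset.add_sum_erase _ _ (Finset.mem_univ (1 : Z)), Subgroup.coe_one, hd,
      Finset.sum_congr rfl (g := fun _ => a) (fun g hg => hconst _ g.2 _ hz
        (fun e => (Finset.mem_erase.1 hg).1 (Subtype.ext e)) hz1),
      Finset.sum_const, nsmul_eq_mul, Finset.card_erase_of_mem (Finset.mem_univ _), Finset.card_univ,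
      ← Nat.card_eq_fintype_card, Nat.cast_sub Nat.card_pos, Nat.cast_one]
  have hZ2 : 1 < Nat.card Z := Z.one_lt_card_iff_ne_bot.2 hZ1
  obtain ⟨n, hn⟩ := exists_int_of_mul (hint z) (m := (Nat.card Z : ℤ) - 1)
    (n := k * (Nat.card Z : ℤ) - d) (by omega)
    (by push_cast; rw [← ha]; linear_combination hk - hsumZ)
  obtain ⟨t, ht⟩ := exists_int_of_mul (hr1.sub hr2) (m := (Fintype.card (P : Subgroup G) : ℤ))
    (n := (d : ℤ) - n) (by exact_mod_cast Fintype.card_ne_zero)
    (by push_cast; rw [← hn, ← ha]; exact hdiff.symm)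
  refine ⟨n, d, hn, by simp [hd], ⟨t, ?_⟩⟩
  rw [Nat.card_eq_fintype_card]
  have : ((((d : ℤ) - n : ℤ)) : ℂ) = (((Fintype.card (P : Subgroup G) : ℤ) * t : ℤ) : ℂ) := by
    push_cast
    rw [← hn, ← ha, hdiff, ht]
  exact_mod_cast this

end Cfsg.Agent.S1523
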