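import Cfsg.Statements.S1505
import Cfsg.Agent.Lib.OddOrder.CyclicTIInd
import Cfsg.Agent.Lib.Coprime.Basic
-- import your own Cfsg.Agent.* helpers here

set_option autoImplicit false
open Cfsg

namespace Cfsg.Agent.S1505

open Classical in
/-- Let W₁, W₂ ≤ G form a self-normalising cyclic subgroup W = W₁ ⊔ W₂. For nontrivial linear characters φ, φ' of W trivial on W₂ and ψ, ψ' trivial on W₁, put α = (1 − φ)(1 − ψ) and α' = (1 − φ')(1 − ψ'). Then the function induced from α to G has inner product 1 with the principal character, and the inner product of the functions induced from α and α' is 1 + a + b + ab where a = 1 if φ = φ' (else 0) and b = 1 if ψ = ψ' (else 0). -/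
theorem result {G : Type*} [Group G] [Fintype G] (W₁ W₂ : Subgroup G) (hW : Cfsg.IsSelfNormalizingCyclic W₁ W₂) (φ φ' ψ ψ' : ↥(W₁ ⊔ W₂) →* ℂˣ) (hφ : φ ≠ 1) (hφ' : φ' ≠ 1) (hψ : ψ ≠ 1) (hψ' : ψ' ≠ 1) (hφ₂ : ∀ w : ↥(W₁ ⊔ W₂), (w : G) ∈ W₂ → φ w = 1 ∧ φ' w = 1) (hψ₁ : ∀ w : ↥(W₁ ⊔ W₂), (w : G) ∈ W₁ → ψ w = 1 ∧ ψ' w = 1) : Cfsg.classInner (Cfsg.indFun (W₁ ⊔ W₂) (fun w => 1 - (φ w : ℂ) - (ψ w : ℂ) + (φ w : ℂ) * (ψ w : ℂ))) (fun _ => 1) = 1 ∧ Cfsg.classInner (Cfsg.indFun (W₁ ⊔ W₂) (fun w => 1 - (φ w : ℂ) - (ψ w : ℂ) + (φ w : ℂ) * (ψ w : ℂ))) (Cfsg.indFun (W₁ ⊔ W₂) (fun w => 1 - (φ' w : ℂ) - (ψ' w : ℂ) + (φ' w : ℂ) * (ψ' w : ℂ))) = 1 + (if φ = φ' then 1 else 0) + (if ψ = ψ' then 1 else 0) + (if φ = φ' then 1 else 0) * (if ψ = ψ' then 1 else 0) := by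
  classical
  haveI : Fintype ↥(W₁ ⊔ W₂) := Fintype.ofFinite _
  have hsplit : ∀ w : ↥(W₁ ⊔ W₂), ∃ a b : ↥(W₁ ⊔ W₂), (a : G) ∈ W₁ ∧ (b : G) ∈ W₂ ∧ w = a * b := by
    rintro ⟨w, hw⟩
    have hn : W₁ ≤ Subgroup.normalizer (W₂ : Set G) := fun a ha =>
      Subgroup.centralizer_le_normalizer _ (Subgroup.mem_centralizer_iff.2 fun b hb =>
        (hW.2.2.2.1 a ha b hb).symm)
    obtain ⟨a, ha, b, hb, hab⟩ := (Coprime.mem_sup_iff_of_le_normalizer hn).1 hw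
    exact ⟨⟨a, Subgroup.mem_sup_left ha⟩, ⟨b, Subgroup.mem_sup_right hb⟩, ha, hb,
      Subtype.ext hab.symm⟩
  -- a character of `W` is determined by its restrictions
  have huniq : ∀ a b c d : ↥(W₁ ⊔ W₂) →* ℂˣ, (∀ w : ↥(W₁ ⊔ W₂), (w : G) ∈ W₂ → a w = 1 ∧ c w = 1) →
      (∀ w : ↥(W₁ ⊔ W₂), (w : G) ∈ W₁ → b w = 1 ∧ d w = 1) → a * b = c * d → a = c ∧ b = d := by
    intro a b c d hac hbd h
    have key : ∀ w, a w = c w ∧ b w = d w := by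
      intro w
      obtain ⟨x, y, hx, hy, rfl⟩ := hsplit w
      have h1 := DFunLike.congr_fun h x
      have h2 := DFunLike.congr_fun h y
      simp only [MonoidHom.mul_apply, (hbd x hx).1, (hbd x hx).2, mul_one] at h1
      simp only [MonoidHom.mul_apply, (hac y hy).1, (hac y hy).2, one_mul] at h2
      simp [(hac y hy).1, (hac y hy).2, (hbd x hx).1, (hbd x hx).2, h1, h2]
    exact ⟨MonoidHom.ext fun w => (key w).1, MonoidHom.ext fun w => (key w).2⟩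
  have one₂ : ∀ a : ↥(W₁ ⊔ W₂) →* ℂˣ, (∀ w : ↥(W₁ ⊔ W₂), (w : G) ∈ W₂ → a w = 1) →
      ∀ w : ↥(W₁ ⊔ W₂), (w : G) ∈ W₂ → a w = 1 ∧ (1 : ↥(W₁ ⊔ W₂) →* ℂˣ) w = 1 := fun a ha w hw => ⟨ha w hw, rfl⟩
  set f : (↥(W₁ ⊔ W₂) →* ℂˣ) → (↥(W₁ ⊔ W₂) → ℂ) := fun a w => (a w : ℂ) with hf
  have hα : ∀ a b : ↥(W₁ ⊔ W₂) →* ℂˣ,
      (fun w => 1 - (a w : ℂ) - (b w : ℂ) + (a w : ℂ) * (b w : ℂ)) = f 1 - f a - f b + f (a * b) := by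
    intro a b; funext w; simp [hf]
  have hsupp : ∀ a b : ↥(W₁ ⊔ W₂) →* ℂˣ, (∀ w : ↥(W₁ ⊔ W₂), (w : G) ∈ W₂ → a w = 1) →
      (∀ w : ↥(W₁ ⊔ W₂), (w : G) ∈ W₁ → b w = 1) → ∀ w : ↥(W₁ ⊔ W₂), (w : G) ∈ W₁ ∨ (w : G) ∈ W₂ →
      1 - (a w : ℂ) - (b w : ℂ) + (a w : ℂ) * (b w : ℂ) = 0 := by
    intro a b ha hb w hw
    rcases hw with hw | hw
    · rw [hb w hw]; push_cast; ring
    · rw [ha w hw]; push_cast; ring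
  have hφ2 : ∀ w : ↥(W₁ ⊔ W₂), (w : G) ∈ W₂ → φ w = 1 := fun w hw => (hφ₂ w hw).1
  have hφ'2 : ∀ w : ↥(W₁ ⊔ W₂), (w : G) ∈ W₂ → φ' w = 1 := fun w hw => (hφ₂ w hw).2
  have hψ1 : ∀ w : ↥(W₁ ⊔ W₂), (w : G) ∈ W₁ → ψ w = 1 := fun w hw => (hψ₁ w hw).1
  have hψ'1 : ∀ w : ↥(W₁ ⊔ W₂), (w : G) ∈ W₁ → ψ' w = 1 := fun w hw => (hψ₁ w hw).2
  have one_mul' : ∀ a : ↥(W₁ ⊔ W₂) →* ℂˣ, 1 * a = a := fun a => MonoidHom.ext fun w => one_mul _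
  have mul_one' : ∀ a : ↥(W₁ ⊔ W₂) →* ℂˣ, a * 1 = a := fun a => MonoidHom.ext fun w => mul_one _
  have n0 : ∀ a b : ↥(W₁ ⊔ W₂) →* ℂˣ, a ≠ 1 → (∀ w : ↥(W₁ ⊔ W₂), (w : G) ∈ W₂ → a w = 1) →
      (∀ w : ↥(W₁ ⊔ W₂), (w : G) ∈ W₁ → b w = 1) → a ≠ b ∧ a * b ≠ 1 := by
    refine fun a b ha h2 h1 => ⟨fun h => ha ?_, fun h => ha ?_⟩
    · refine (huniq a 1 1 b (one₂ a h2) (fun w hw => ⟨rfl, h1 w hw⟩) ?_).1
      rw [mul_one', one_mul']; exact h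
    · exact (huniq a b 1 1 (one₂ a h2) (fun w hw => ⟨h1 w hw, rfl⟩) (by rw [h, one_mul'])).1
  have n1 : ∀ a b c : ↥(W₁ ⊔ W₂) →* ℂˣ, b ≠ 1 → (∀ w : ↥(W₁ ⊔ W₂), (w : G) ∈ W₂ → a w = 1 ∧ c w = 1) →
      (∀ w : ↥(W₁ ⊔ W₂), (w : G) ∈ W₁ → b w = 1) → a * b ≠ c := fun a b c hb hac h1 h =>
    hb (huniq a b c 1 hac (fun w hw => ⟨h1 w hw, rfl⟩) (by rw [h, mul_one'])).2
  have n2 : ∀ a b d : ↥(W₁ ⊔ W₂) →* ℂˣ, a ≠ 1 → (∀ w : ↥(W₁ ⊔ W₂), (w : G) ∈ W₂ → a w = 1) →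
      (∀ w : ↥(W₁ ⊔ W₂), (w : G) ∈ W₁ → b w = 1 ∧ d w = 1) → a * b ≠ d := fun a b d ha h2 hbd h =>
    ha (huniq a b 1 d (one₂ a h2) hbd (by rw [h, one_mul'])).1
  have hcl : IsClassFunction G (indFun (W₁ ⊔ W₂)
      (fun w => 1 - (φ' w : ℂ) - (ψ' w : ℂ) + (φ' w : ℂ) * (ψ' w : ℂ))) :=
    Char.isClassFunction_indFun _ _
  refine ⟨?_, ?_⟩
  · rw [Char.classInner_indFun _ _ (fun g h => rfl), hα φ ψ,
      show (fun h : ↥(W₁ ⊔ W₂) => (fun _ : G => (1 : ℂ)) h) = f 1 by funext w; simp [hf]]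
    simp only [Char.classInner_add_left, Char.classInner_sub_left, hf, OddOrder.classInner_monoidHom]
    rw [if_neg hφ, if_neg hψ, if_neg (n0 φ ψ hφ hφ2 hψ1).2]; simp
  · rw [Char.classInner_indFun _ _ hcl,
      show (fun h : ↥(W₁ ⊔ W₂) => indFun (W₁ ⊔ W₂) (fun w => 1 - (φ' w : ℂ) - (ψ' w : ℂ) +
        (φ' w : ℂ) * (ψ' w : ℂ)) h) = _ from
        funext (OddOrder.indFun_apply_of_supp hW _ (hsupp φ' ψ' hφ'2 hψ'1)),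
      hα φ ψ, hα φ' ψ']
    simp only [Char.classInner_add_left, Char.classInner_sub_left, Char.classInner_add_right,
      Char.classInner_sub_right, hf, OddOrder.classInner_monoidHom]
    have e : (φ * ψ = φ' * ψ') ↔ (φ = φ' ∧ ψ = ψ') :=
      ⟨huniq φ ψ φ' ψ' hφ₂ hψ₁, fun ⟨a, b⟩ => by rw [a, b]⟩
    rw [if_neg (Ne.symm hφ'), if_neg (Ne.symm hψ'), if_neg (Ne.symm (n0 φ' ψ' hφ' hφ'2 hψ'1).2),
      if_neg hφ, if_neg hψ, if_neg (n0 φ ψ hφ hφ2 hψ1).2, if_neg (n0 φ ψ' hφ hφ2 hψ'1).1,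
      if_neg (Ne.symm (n0 φ' ψ hφ' hφ'2 hψ1).1),
      if_neg (n1 φ ψ φ' hψ hφ₂ hψ1), if_neg (n2 φ ψ ψ' hφ hφ2 hψ₁),
      if_neg (Ne.symm (n1 φ' ψ' φ hψ' (fun w hw => ⟨hφ'2 w hw, hφ2 w hw⟩) hψ'1)),
      if_neg (Ne.symm (n2 φ' ψ' ψ hφ' hφ'2 (fun w hw => ⟨hψ'1 w hw, hψ1 w hw⟩)))]
    simp only [if_true, e]
    by_cases a : φ = φ' <;> by_cases b : ψ = ψ' <;> simp [a, b]

end Cfsg.Agent.S1505
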