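import Cfsg.Statements.S1525
import Mathlib

set_option autoImplicit false
open Cfsg

namespace Cfsg.Agent.S1525

open scoped Pointwise

variable {G : Type*} [Group G] [Fintype G] {A : Set G} {L : Subgroup G} {H : G → Subgroup G}

theorem centralizer_eq_mul (hD : Cfsg.DadeHypothesis A L H) {a : G} (ha : a ∈ A) :
    (Subgroup.centralizer ({a} : Set G) : Set G)
      = ((L ⊓ Subgroup.centralizer ({a} : Set G) : Subgroup G) : Set G) * (H a : Set G) := by
  rw [← Subgroup.coe_mul_of_left_le_normalizer_right, sup_comm, hD.sup_eq a ha]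
  intro c hc
  rw [Subgroup.mem_normalizer_iff]
  intro u
  refine ⟨fun hu => hD.conj_mem_H a ha c (Subgroup.mem_inf.1 hc).2 u hu, fun hu => ?_⟩
  have := hD.conj_mem_H a ha c⁻¹ (inv_mem (Subgroup.mem_inf.1 hc).2) _ hu
  simpa [mul_assoc] using this

theorem card_centralizer (hD : Cfsg.DadeHypothesis A L H) {a : G} (ha : a ∈ A) :
    Nat.card (Subgroup.centralizer ({a} : Set G)) =
      Nat.card (H a) * Nat.card ↥(L ⊓ Subgroup.centralizer ({a} : Set G)) := by
  set C := Subgroup.centralizer ({a} : Set G) with hC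
  let f : ↥(H a) × ↥(L ⊓ C) → ↥C := fun p =>
    ⟨(p.2 : G) * p.1, mul_mem p.2.2.2 (hD.le_centralizer a ha p.1.2)⟩
  rw [← Nat.card_prod, Nat.card_congr (Equiv.ofBijective f ⟨?_, ?_⟩)]
  · rintro ⟨u, c⟩ ⟨u', c'⟩ he
    simp only [f, Subtype.mk.injEq] at he
    have hmem : (c' : G)⁻¹ * c ∈ H a ⊓ (L ⊓ C) := by
      refine Subgroup.mem_inf.2 ⟨?_, mul_mem (inv_mem c'.2) c.2⟩
      have : (c' : G)⁻¹ * c = u' * (u : G)⁻¹ := by
        rw [eq_mul_inv_iff_mul_eq, mul_assoc, he, inv_mul_cancel_left]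
      rw [this]
      exact mul_mem u'.2 (inv_mem u.2)
    rw [hD.inf_eq_bot a ha, Subgroup.mem_bot, inv_mul_eq_one] at hmem
    obtain rfl : c' = c := Subtype.ext hmem
    obtain rfl : u = u' := Subtype.ext (mul_left_cancel he)
    rfl
  · rintro ⟨x, hx⟩
    have hx' : x ∈ (Subgroup.centralizer ({a} : Set G) : Set G) := hx
    rw [centralizer_eq_mul hD ha] at hx'
    obtain ⟨c, hc, u, hu, rfl⟩ := hx'
    exact ⟨(⟨u, hu⟩, ⟨c, hc⟩), rfl⟩

theorem card_H_conj (hD : Cfsg.DadeHypothesis A L H) {a l : G} (ha : a ∈ A) (hl : l ∈ L) :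
    Nat.card (H (l * a * l⁻¹)) = Nat.card (H a) := by
  have hb : l * a * l⁻¹ ∈ A := hD.conj_mem l hl a ha
  have h1 := card_centralizer hD ha
  have h2 := card_centralizer hD hb
  have e1 : Nat.card (Subgroup.centralizer ({l * a * l⁻¹} : Set G))
      = Nat.card (Subgroup.centralizer ({a} : Set G)) := by
    refine Nat.card_congr ((MulAut.conj l⁻¹).toEquiv.subtypeEquiv fun x => ?_)
    simp only [Subgroup.mem_centralizer_iff, Set.mem_singleton_iff, forall_eq, MulEquiv.toEquiv_eq_coe,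
      EquivLike.coe_coe, MulAut.conj_apply, inv_inv]
    constructor
    · intro h
      calc a * (l⁻¹ * x * l) = l⁻¹ * (l * a * l⁻¹ * x) * l := by group
        _ = l⁻¹ * (x * (l * a * l⁻¹)) * l := by rw [h]
        _ = _ := by group
    · intro h
      calc l * a * l⁻¹ * x = l * (a * (l⁻¹ * x * l)) * l⁻¹ := by group
        _ = l * (l⁻¹ * x * l * a) * l⁻¹ := by rw [h]
        _ = _ := by group
  have e2 : Nat.card ↥(L ⊓ Subgroup.centralizer ({l * a * l⁻¹} : Set G))
      = Nat.card ↥(L ⊓ Subgroup.centralizer ({a} : Set G)) := by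
    refine Nat.card_congr ((MulAut.conj l⁻¹).toEquiv.subtypeEquiv fun x => ?_)
    simp only [Subgroup.mem_inf, Subgroup.mem_centralizer_iff, Set.mem_singleton_iff, forall_eq,
      MulEquiv.toEquiv_eq_coe, EquivLike.coe_coe, MulAut.conj_apply, inv_inv]
    constructor
    · rintro ⟨hx, h⟩
      refine ⟨mul_mem (mul_mem (inv_mem hl) hx) hl, ?_⟩
      calc a * (l⁻¹ * x * l) = l⁻¹ * (l * a * l⁻¹ * x) * l := by group
        _ = l⁻¹ * (x * (l * a * l⁻¹)) * l := by rw [h]
        _ = _ := by group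
    · rintro ⟨hx, h⟩
      refine ⟨?_, ?_⟩
      · have : x = l * (l⁻¹ * x * l) * l⁻¹ := by group
        rw [this]
        exact mul_mem (mul_mem hl hx) (inv_mem hl)
      · calc l * a * l⁻¹ * x = l * (a * (l⁻¹ * x * l)) * l⁻¹ := by group
          _ = l * (l⁻¹ * x * l * a) * l⁻¹ := by rw [h]
          _ = _ := by group
  rw [e1, h1, e2] at h2
  exact (Nat.eq_of_mul_eq_mul_right Nat.card_pos h2).symm

/-- If two Dade cosets are conjugate by `t` then so are their base points. -/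
theorem base_conj (hD : Cfsg.DadeHypothesis A L H) {a b u v t : G} (ha : a ∈ A) (hb : b ∈ A)
    (hu : u ∈ H a) (hv : v ∈ H b) (h : t * (a * u) * t⁻¹ = b * v) : t * a * t⁻¹ = b := by
  have hord : ∀ c ∈ A, orderOf c ∣ Nat.card ↥(L ⊓ Subgroup.centralizer ({c} : Set G)) := fun c hc => by
    refine Subgroup.orderOf_dvd_natCard _ ⟨hD.subset hc, ?_⟩
    simp [Subgroup.mem_centralizer_iff]
  set la := Nat.card ↥(L ⊓ Subgroup.centralizer ({a} : Set G))
  set lb := Nat.card ↥(L ⊓ Subgroup.centralizer ({b} : Set G))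
  have hco : (la * lb).Coprime (Nat.card (H a) * Nat.card (H b)) :=
    Nat.Coprime.mul_left (Nat.Coprime.mul_right (hD.coprime a ha a ha).symm (hD.coprime b hb a ha).symm)
      (Nat.Coprime.mul_right (hD.coprime a ha b hb).symm (hD.coprime b hb b hb).symm)
  obtain ⟨k, hk1, hk0⟩ := Nat.chineseRemainder hco 1 0
  have hpow : ∀ c ∈ A, ∀ w ∈ H c, orderOf c ∣ la * lb → orderOf w ∣ Nat.card (H a) * Nat.card (H b) →
      (c * w) ^ k = c := by
    intro c hc w hw d1 d2
    have hcomm : Commute c w :=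
      (Subgroup.mem_centralizer_iff.1 (hD.le_centralizer c hc hw) c rfl)
    rw [hcomm.mul_pow, pow_eq_one_iff_modEq.2 (hk0.of_dvd d2), mul_one]
    exact (pow_eq_pow_iff_modEq.2 (hk1.of_dvd d1)).trans (pow_one c)
  have e1 := hpow a ha u hu ((hord a ha).mul_right lb)
    ((Subgroup.orderOf_dvd_natCard _ hu).mul_right _)
  have e2 := hpow b hb v hv ((hord b hb).mul_left la)
    ((Subgroup.orderOf_dvd_natCard _ hv).mul_left _)
  calc t * a * t⁻¹ = t * (a * u) ^ k * t⁻¹ := by rw [e1]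
    _ = (t * (a * u) * t⁻¹) ^ k := (conj_pow).symm
    _ = b := by rw [h, e2]

/-- Under the Dade hypothesis for (A, L, H), let χ be a class function of G and let ψ be a function on L whose value at each a ∈ A is the average of χ over the coset a·H(a). Then (1/|G|) Σ |χ g|² over the elements g of G conjugate into some coset a·H(a) with a ∈ A is at least (1/|L|) Σ_{a ∈ A ∩ L} |ψ a|². -/
theorem result {G : Type*} [Group G] [Fintype G] (A : Set G) (L : Subgroup G) [Fintype L] (H : G → Subgroup G) (hD : Cfsg.DadeHypothesis A L H) (χ : G → ℂ) (hχ : Cfsg.IsClassFunction G χ) (ψ : L → ℂ) (hψ : ∀ a : L, (a : G) ∈ A → ψ a = (Nat.card (H a) : ℂ)⁻¹ * ∑ᶠ u ∈ (H a : Set G), χ (a * u)) : (Nat.card L : ℝ)⁻¹ * ∑ᶠ a ∈ {a : L | (a : G) ∈ A}, ‖ψ a‖ ^ 2 ≤ (Nat.card G : ℝ)⁻¹ * ∑ᶠ g ∈ {g : G | ∃ a ∈ A, ∃ u ∈ H a, ∃ x : G, x * g * x⁻¹ = a * u}, ‖χ g‖ ^ 2 := by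
  classical
  let S : Set G := {g : G | ∃ a ∈ A, ∃ u ∈ H a, ∃ x : G, x * g * x⁻¹ = a * u}
  let T : Finset (↥L × G × G) := Finset.univ.filter fun p => (p.1 : G) ∈ A ∧ p.2.1 ∈ H (p.1 : G)
  let Φ : ↥L × G × G → G := fun p => p.2.2 * ((p.1 : G) * p.2.1) * p.2.2⁻¹
  let w : ↥L × G × G → ℝ := fun p => (Nat.card (H (p.1 : G)) : ℝ)⁻¹
  -- the triples over one element
  have hfib : ∀ g : G, ∑ p ∈ T.filter (fun p => Φ p = g), w p ≤ (Nat.card L : ℝ) := by
    intro g
    rcases (T.filter fun p => Φ p = g).eq_empty_or_nonempty with he | ⟨⟨a0, u0, x0⟩, h0⟩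
    · simp [he]
    simp only [T, Φ, Finset.mem_filter, Finset.mem_univ, true_and] at h0
    obtain ⟨⟨ha0, hu0⟩, hg0⟩ := h0
    have key : ∀ p ∈ T.filter (fun p => Φ p = g), p.2.2⁻¹ * x0 * (a0 : G) * (p.2.2⁻¹ * x0)⁻¹ = (p.1 : G)
        ∧ p.2.2⁻¹ * x0 ∈ (L : Set G) * (H (a0 : G) : Set G)
        ∧ Nat.card (H (p.1 : G)) = Nat.card (H (a0 : G)) := by
      rintro ⟨a, u, x⟩ hp
      simp only [T, Φ, Finset.mem_filter, Finset.mem_univ, true_and] at hp
      obtain ⟨⟨ha, hu⟩, hg⟩ := hp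
      have hconj : x⁻¹ * x0 * ((a0 : G) * u0) * (x⁻¹ * x0)⁻¹ = (a : G) * u := by
        calc x⁻¹ * x0 * ((a0 : G) * u0) * (x⁻¹ * x0)⁻¹ = x⁻¹ * (x0 * ((a0 : G) * u0) * x0⁻¹) * x := by
              group
          _ = x⁻¹ * g * x := by rw [hg0]
          _ = _ := by rw [← hg]; group
      have hb := base_conj hD ha0 ha hu0 hu hconj
      obtain ⟨l, hl, hla⟩ := hD.fusion a0 ha0 (x⁻¹ * x0) (by rw [hb]; exact ha)
      refine ⟨hb, ?_, ?_⟩
      · have hc : l⁻¹ * (x⁻¹ * x0) ∈ (Subgroup.centralizer ({(a0 : G)} : Set G) : Set G) := by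
          rw [SetLike.mem_coe, Subgroup.mem_centralizer_iff]
          rintro y rfl
          calc (a0 : G) * (l⁻¹ * (x⁻¹ * x0)) = l⁻¹ * (l * a0 * l⁻¹) * (x⁻¹ * x0) := by group
            _ = l⁻¹ * (x⁻¹ * x0 * a0 * (x⁻¹ * x0)⁻¹) * (x⁻¹ * x0) := by rw [hla]
            _ = _ := by group
        rw [centralizer_eq_mul hD ha0] at hc
        obtain ⟨c, hc, v, hv, hcv⟩ := hc
        refine ⟨l * c, mul_mem hl hc.1, v, hv, ?_⟩
        show l * c * v = x⁻¹ * x0
        rw [mul_assoc, show c * v = l⁻¹ * (x⁻¹ * x0) from hcv, mul_inv_cancel_left]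
      · rw [hb] at hla
        show Nat.card (H (a : G)) = _
        rw [← hla]
        exact card_H_conj hD ha0 hl
    have hcard : (T.filter fun p => Φ p = g).card ≤ Nat.card L * Nat.card (H (a0 : G)) := by
      let ψ' : ↥L × G × G → G := fun p => p.2.2⁻¹ * x0
      have hinj : Set.InjOn ψ' (T.filter fun p => Φ p = g) := by
        rintro ⟨a, u, x⟩ hp ⟨a', u', x'⟩ hp' he
        rw [Finset.mem_coe] at hp hp'
        obtain rfl : x = x' := inv_injective (mul_right_cancel he)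
        have h1 := (key _ hp).1
        have h2 := (key _ hp').1
        obtain rfl : a = a' := Subtype.ext (h1.symm.trans h2)
        have e1 := (Finset.mem_filter.1 hp).2.trans (Finset.mem_filter.1 hp').2.symm
        simp only [Φ, mul_left_inj, mul_right_inj] at e1
        rw [e1]
      calc (T.filter fun p => Φ p = g).card = (ψ' '' ↑(T.filter fun p => Φ p = g)).ncard := by
            rw [hinj.ncard_image, Set.ncard_coe_finset]
        _ ≤ ((L : Set G) * (H (a0 : G) : Set G)).ncard := by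
            refine Set.ncard_le_ncard ?_
            rintro _ ⟨p, hp, rfl⟩
            exact (key p hp).2.1
        _ ≤ _ := Set.natCard_mul_le
    calc ∑ p ∈ T.filter (fun p => Φ p = g), w p
        = ∑ p ∈ T.filter (fun p => Φ p = g), (Nat.card (H (a0 : G)) : ℝ)⁻¹ :=
          Finset.sum_congr rfl fun p hp => congrArg (fun n : ℕ => (n : ℝ)⁻¹) (key p hp).2.2
      _ = (T.filter fun p => Φ p = g).card * (Nat.card (H (a0 : G)) : ℝ)⁻¹ := by simp
      _ ≤ ((Nat.card L * Nat.card (H (a0 : G)) : ℕ) : ℝ) * (Nat.card (H (a0 : G)) : ℝ)⁻¹ := by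
          gcongr
      _ = (Nat.card L : ℝ) := by
          rw [Nat.cast_mul, mul_assoc, mul_inv_cancel₀ (by exact_mod_cast Nat.card_pos.ne'), mul_one]
  rw [finsum_mem_eq_toFinset_sum, finsum_mem_eq_toFinset_sum]
  have hub : ∑ p ∈ T, w p * ‖χ (Φ p)‖ ^ 2 ≤ (Nat.card L : ℝ) * ∑ g ∈ S.toFinset, ‖χ g‖ ^ 2 := by
    have hmaps : ∀ p ∈ T, Φ p ∈ S.toFinset := by
      intro p hp
      simp only [T, Finset.mem_filter, Finset.mem_univ, true_and] at hp
      rw [Set.mem_toFinset]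
      exact ⟨p.1, hp.1, p.2.1, hp.2, p.2.2⁻¹, by simp [Φ, mul_assoc]⟩
    rw [← Finset.sum_fiberwise_of_maps_to hmaps, Finset.mul_sum]
    refine Finset.sum_le_sum fun g _ => ?_
    rw [Finset.sum_congr rfl (g := fun p => w p * ‖χ g‖ ^ 2)
      (fun p hp => by rw [(Finset.mem_filter.1 hp).2]), ← Finset.sum_mul]
    exact mul_le_mul_of_nonneg_right (hfib g) (sq_nonneg _)
  have hlb : (Nat.card G : ℝ) * ∑ a ∈ {a : ↥L | (a : G) ∈ A}.toFinset, ‖ψ a‖ ^ 2
      ≤ ∑ p ∈ T, w p * ‖χ (Φ p)‖ ^ 2 := by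
    have hsplit : ∑ p ∈ T, w p * ‖χ (Φ p)‖ ^ 2 = ∑ a ∈ {a : ↥L | (a : G) ∈ A}.toFinset,
        ∑ u ∈ (H (a : G) : Set G).toFinset,
          (Nat.card G : ℝ) * ((Nat.card (H (a : G)) : ℝ)⁻¹ * ‖χ ((a : G) * u)‖ ^ 2) := by
      simp only [T, Finset.sum_filter]
      rw [Fintype.sum_prod_type, ← Finset.sum_subset (Finset.subset_univ _)]
      · refine Finset.sum_congr rfl fun a ha => ?_
        rw [Set.mem_toFinset] at ha
        rw [Fintype.sum_prod_type, ← Finset.sum_subset (Finset.subset_univ _)]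
        · refine Finset.sum_congr rfl fun u hu => ?_
          rw [Set.mem_toFinset] at hu
          have hcl : ∀ x : G, χ (Φ (a, u, x)) = χ ((a : G) * u) := fun x => hχ _ _
          simp only [show ((a : G) ∈ A ∧ u ∈ H (a : G)) ↔ True from iff_true_intro ⟨ha, hu⟩, if_true,
            hcl, w, Finset.sum_const, Finset.card_univ, nsmul_eq_mul, Nat.card_eq_fintype_card (α := G)]
        · intro u _ hu
          rw [Set.mem_toFinset] at hu
          exact Finset.sum_eq_zero fun x _ => if_neg fun h => hu h.2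
      · intro a _ ha
        rw [Set.mem_toFinset] at ha
        exact Finset.sum_eq_zero fun q _ => if_neg fun h => ha h.1
    rw [hsplit, Finset.mul_sum]
    refine Finset.sum_le_sum fun a ha => ?_
    rw [← Finset.mul_sum, ← Finset.mul_sum]
    refine mul_le_mul_of_nonneg_left ?_ (Nat.cast_nonneg _)
    rw [Set.mem_toFinset] at ha
    rw [hψ a ha, finsum_mem_eq_toFinset_sum]
    set n := Nat.card (H (a : G)) with hn
    have hncard : ((H (a : G) : Set G).toFinset).card = n := by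
      rw [Set.toFinset_card, ← Nat.card_eq_fintype_card]; rfl
    have hn0 : (0 : ℝ) < n := by exact_mod_cast Nat.card_pos
    rw [norm_mul, norm_inv, Complex.norm_natCast, mul_pow]
    have h1 := norm_sum_le (H (a : G) : Set G).toFinset (fun u => χ ((a : G) * u))
    have h2 := sq_sum_le_card_mul_sum_sq (s := (H (a : G) : Set G).toFinset)
      (f := fun u => ‖χ ((a : G) * u)‖)
    rw [hncard] at h2
    have h3 := (pow_le_pow_left₀ (norm_nonneg _) h1 2).trans h2
    calc ((n : ℝ)⁻¹) ^ 2 * _ ≤ ((n : ℝ)⁻¹) ^ 2 * _ := mul_le_mul_of_nonneg_left h3 (sq_nonneg _)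
      _ = _ := by field_simp
  have hG : (0 : ℝ) < Nat.card G := by exact_mod_cast Nat.card_pos
  have hL : (0 : ℝ) < Nat.card L := by exact_mod_cast Nat.card_pos
  rw [inv_mul_le_iff₀ hL]
  have h := hlb.trans hub
  rw [← le_div_iff₀' hG] at h
  exact h.trans (le_of_eq (by field_simp; rfl))

end Cfsg.Agent.S1525
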