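import Cfsg.Statements.S1472
import Cfsg.Agent.Lib.AppC.RigidFinal
-- import your own Cfsg.Agent.* helpers here

set_option autoImplicit false
open Cfsg

namespace Cfsg.Agent.S1472

/-- Let p, q be primes with (p^q − 1)/(p − 1) coprime to p − 1, G a finite group, F a field with p ^ q elements, and P, U, Q subgroups of G with: f : G → F bijective from P onto F and additive on P; U normalizing P and acting through ψ : G → F, injective and multiplicative on U with ψ(u) ≠ 0 and f(uxu⁻¹) = ψ(u) f(x); #U · (p − 1) = p^q − 1; Q abelian of order coprime to p, normalized by every x ∈ P with f(x) in the prime field; and some y ∈ Q such that y x y⁻¹ normalizes U for every such x. Then p ≤ q. -/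
theorem result {G : Type*} [Group G] [Finite G] (p q : ℕ) [Fact p.Prime] [Fact q.Prime] (hA : Nat.Coprime ((p ^ q - 1) / (p - 1)) (p - 1))
    (F : Type*) [Field F] [Fintype F] (hF : Fintype.card F = p ^ q) (P U Q : Subgroup G) (f ψ : G → F)
    (hf : Set.BijOn f (P : Set G) Set.univ) (hfadd : ∀ x ∈ P, ∀ z ∈ P, f (x * z) = f x + f z)
    (hUP : U ≤ Subgroup.normalizer (P : Set G)) (hψ : ∀ u ∈ U, ψ u ≠ 0 ∧ ∀ x ∈ P, f (u * x * u⁻¹) = ψ u * f x)
    (hψmul : ∀ u ∈ U, ∀ v ∈ U, ψ (u * v) = ψ u * ψ v) (hψinj : Set.InjOn ψ (U : Set G)) (hUcard : Nat.card U * (p - 1) = p ^ q - 1)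
    (hQ : IsMulCommutative Q) (hQp : (Nat.card Q).Coprime p) (hP0Q : ∀ x ∈ P, f x ^ p = f x → x ∈ Subgroup.normalizer (Q : Set G))
    (y : G) (hy : y ∈ Q) (hP0U : ∀ x ∈ P, f x ^ p = f x → y * x * y⁻¹ ∈ Subgroup.normalizer (U : Set G)) :
    p ≤ q := by
  classical
  rcases eq_or_ne p 2 with hp2 | hp2
  · rw [hp2]; exact (Fact.out (p := q.Prime)).two_le
  exfalso
  have hpp : p.Prime := Fact.out
  have hqq : q.Prime := Fact.out
  have : CharP F p := charP_of_card_eq_prime_pow hF
  let pe : F → G := Function.invFunOn f P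
  have hpeP : ∀ x, pe x ∈ P := fun x => Function.invFunOn_mem (hf.surjOn (Set.mem_univ x))
  have hfpe : ∀ x, f (pe x) = x := fun x => Function.invFunOn_eq (hf.surjOn (Set.mem_univ x))
  have hpef : ∀ g ∈ P, pe (f g) = g := fun g hg => hf.injOn (hpeP _) hg (hfpe _)
  have hψ1 : ψ 1 = 1 := by
    have h := hψmul 1 U.one_mem 1 U.one_mem
    rw [one_mul] at h
    exact (mul_eq_right₀ (hψ 1 U.one_mem).1).1 h.symm
  let χ : ↥U →* Fˣ := MonoidHom.mk' (fun u => Units.mk0 (ψ u) (hψ u u.2).1) fun u v =>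
    Units.ext (hψmul u u.2 v v.2)
  have hχi : Function.Injective χ := fun u v h =>
    Subtype.ext (hψinj u.2 v.2 (congrArg Units.val h))
  let e := MonoidHom.ofInjective hχi
  have hVcard : Nat.card χ.range = Nat.card U := (Nat.card_congr e.toEquiv).symm
  have hgpos : 0 < p - 1 := by have := hpp.two_le; omega
  have hUc : Nat.card U = (p ^ q - 1) / (p - 1) := by
    rw [← hUcard, Nat.mul_div_cancel _ hgpos]
  have hfix : ∀ u : χ.range, ((u : Fˣ) : F) ^ p = ((u : Fˣ) : F) → u = 1 := by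
    intro u hu
    have h1 : orderOf u ∣ p - 1 := by
      refine orderOf_dvd_of_pow_eq_one (Subtype.ext (Units.ext ?_))
      have h0 : ((u : Fˣ) : F) ≠ 0 := Units.ne_zero _
      rw [show p = p - 1 + 1 by omega, pow_succ] at hu
      simpa using (mul_eq_right₀ h0).1 hu
    have h2 : orderOf u ∣ (p ^ q - 1) / (p - 1) := by
      rw [← hUc, ← hVcard]; exact orderOf_dvd_natCard u
    exact orderOf_eq_one_iff.1 (Nat.eq_one_of_dvd_coprimes hA h2 h1)
  -- every nonzero element is a prime field element times an element of the range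
  let ι : (ZMod p)ˣ →* Fˣ := Units.map (ZMod.castHom (dvd_refl p) F).toMonoidHom
  let Φ : (ZMod p)ˣ × χ.range →* Fˣ :=
    (ι.comp (MonoidHom.fst _ _)) * (χ.range.subtype.comp (MonoidHom.snd _ _))
  have hιi : Function.Injective ι := Units.map_injective (ZMod.castHom (dvd_refl p) F).injective
  have hΦi : Function.Injective Φ := by
    rw [injective_iff_map_eq_one]
    rintro ⟨k, u⟩ hku
    have hku' : ι k * (u : Fˣ) = 1 := hku
    have hk : ((ι k : Fˣ) : F) ^ p = ((ι k : Fˣ) : F) := by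
      show (ZMod.castHom (dvd_refl p) F (k : ZMod p)) ^ p = _
      rw [← map_pow, ZMod.pow_card]; rfl
    have hu : u = 1 := by
      refine hfix u ?_
      rw [eq_inv_of_mul_eq_one_right hku', Units.val_inv_eq_inv_val, inv_pow, hk]
    subst hu
    have : ι k = 1 := by simpa using hku'
    rw [Prod.mk_eq_one]
    exact ⟨hιi (this.trans (map_one ι).symm), rfl⟩
  have hΦs : Function.Surjective Φ := by
    refine (Nat.bijective_iff_injective_and_card Φ).2 ⟨hΦi, ?_⟩ |>.2
    rw [Nat.card_prod, Nat.card_eq_fintype_card (α := (ZMod p)ˣ), ZMod.card_units_eq_totient,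
      Nat.totient_prime hpp, hVcard, Nat.card_units, Nat.card_eq_fintype_card (α := F), hF,
      mul_comm, hUcard]
  have hdec : ∀ x : F, x ≠ 0 →
      ∃ (D : ℤ) (v : χ.range), x = (D : F) * ((v : Fˣ) : F) := by
    intro x hx
    obtain ⟨⟨k, v⟩, hkv⟩ := hΦs (Units.mk0 x hx)
    refine ⟨((k : ZMod p).val : ℤ), v, ?_⟩
    have h : x = ((ι k : Fˣ) : F) * ((v : Fˣ) : F) := (congrArg Units.val hkv).symm
    rw [h]
    congr 1
    show ZMod.castHom (dvd_refl p) F (k : ZMod p) = _
    conv_lhs => rw [← ZMod.natCast_zmod_val (k : ZMod p), map_natCast]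
    push_cast
    rfl
  have hne : ∃ u : χ.range, u ≠ 1 := by
    by_contra h
    push Not at h
    have h1 : Nat.card χ.range = 1 :=
      Nat.card_eq_one_iff_unique.2 ⟨⟨fun a b => (h a).trans (h b).symm⟩, ⟨1⟩⟩
    rw [hVcard] at h1
    rw [h1, one_mul] at hUcard
    have h2 : p ^ 2 ≤ p ^ q := Nat.pow_le_pow_right hpp.pos hqq.two_le
    have h3 : p < p ^ 2 := lt_self_pow₀ hpp.one_lt (by norm_num)
    omega
  have hpe_add : ∀ x z, pe (x + z) = pe x * pe z := fun x z =>
    hf.injOn (hpeP _) (P.mul_mem (hpeP x) (hpeP z))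
      (by rw [hfadd _ (hpeP x) _ (hpeP z), hfpe, hfpe, hfpe])
  have hpe_inj : Function.Injective pe := Function.LeftInverse.injective hfpe
  let ue : χ.range →* G := U.subtype.comp e.symm.toMonoidHom
  have hue : ∀ u : χ.range, (ue u : G) ∈ U ∧ ψ (ue u) = ((u : Fˣ) : F) := fun u =>
    ⟨(e.symm u).2, congrArg (fun z : χ.range => ((z : Fˣ) : F)) (e.apply_symm_apply u)⟩
  have hconj : ∀ (u : χ.range) (x : F),
      ue u * pe x * (ue u)⁻¹ = pe (((u : Fˣ) : F) * x) := by
    intro u x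
    have hm : ue u * pe x * (ue u)⁻¹ ∈ P :=
      (Subgroup.mem_normalizer_iff.1 (hUP (hue u).1) _).1 (hpeP x)
    rw [← hpef _ hm, (hψ _ (hue u).1).2 _ (hpeP x), (hue u).2, hfpe]
  have hs : f (pe 1) ^ p = f (pe 1) := by rw [hfpe, one_pow]
  have hnorm : ∀ (k : ℤ) (u : χ.range), ∃ u' : χ.range,
      (y * pe 1 * y⁻¹) ^ k * ue u * ((y * pe 1 * y⁻¹) ^ k)⁻¹ = ue u' := by
    intro k u
    have hm := (Subgroup.mem_normalizer_iff.1
      ((Subgroup.normalizer (U : Set G)).zpow_mem (hP0U _ (hpeP 1) hs) k) _).1 (hue u).1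
    exact ⟨e ⟨_, hm⟩, by simp [ue]⟩
  let C : Cfsg.Agent.AppC.RigidData p F G :=
    { V := χ.range
      pe := pe
      pe_add := hpe_add
      pe_inj := hpe_inj
      ue := ue
      conj := hconj
      hfix := hfix
      hdec := hdec
      hne := hne
      Q := Q
      hQc := fun a ha b hb =>
        congrArg Subtype.val (hQ.is_comm.comm (⟨a, ha⟩ : Q) ⟨b, hb⟩)
      hQp := hQp
      hsQ := hP0Q _ (hpeP 1) hs
      y := y
      hy := hy
      hnorm := hnorm }
  exact C.false_of_ne_two hp2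

end Cfsg.Agent.S1472
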