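import Cfsg.Statements.S1510
-- import your own Cfsg.Agent.* helpers here

set_option autoImplicit false
open Cfsg
open scoped Pointwise

namespace Cfsg.Agent.S1510

/-- Let L be a finite group with a normal subgroup K and a nontrivial cyclic subgroup W₁ of order coprime to its index, K ⊓ W₁ = ⊥ and K ⊔ W₁ = ⊤; let W₂ ≠ ⊥ be a cyclic subgroup of K with K ⊓ C_L(x) = W₂ for every non-identity x ∈ W₁, and suppose W₁ ⊔ W₂ has odd order. Then (W₁, W₂) is a self-normalising cyclic pair in L. -/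
theorem result {L : Type*} [Group L] [Fintype L] (K W₁ W₂ : Subgroup L) [hK : K.Normal] (hKW₁ : K ⊓ W₁ = ⊥) (hKW₁' : K ⊔ W₁ = ⊤) (hW₁ : W₁ ≠ ⊥) (hW₁c : IsCyclic W₁) (hHall : Nat.Coprime (Nat.card W₁) W₁.index) (hW₂ : W₂ ≠ ⊥) (hW₂c : IsCyclic W₂) (hW₂K : W₂ ≤ K) (hC : ∀ x ∈ W₁, x ≠ 1 → K ⊓ Subgroup.centralizer ({x} : Set L) = W₂) (hodd : Odd (Nat.card ↥(W₁ ⊔ W₂))) : Cfsg.IsSelfNormalizingCyclic W₁ W₂ := by
  have hd : W₁ ⊓ W₂ = ⊥ := eq_bot_iff.2 (le_trans (by rw [inf_comm]; exact inf_le_inf_right _ hW₂K) hKW₁.le)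
  have hcomm : ∀ a ∈ W₁, ∀ b ∈ W₂, a * b = b * a := by
    intro a ha b hb
    by_cases ha1 : a = 1
    · simp [ha1]
    rw [← hC a ha ha1, Subgroup.mem_inf, Subgroup.mem_centralizer_singleton_iff] at hb
    exact hb.2.symm
  have hK' : W₁.index = Nat.card K := (Subgroup.isComplement'_of_disjoint_and_mul_eq_univ
    (disjoint_iff.2 hKW₁) (by rw [← Subgroup.normal_mul, hKW₁']; rfl)).index_eq_card
  have hcop : (Nat.card W₁).Coprime (Nat.card W₂) :=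
    (hK' ▸ hHall).coprime_dvd_right (Subgroup.card_dvd_of_le hW₂K)
  have hle₂ : W₂ ≤ Subgroup.normalizer (W₁ : Set L) := fun b hb =>
    Subgroup.centralizer_le_normalizer _ (Subgroup.mem_centralizer_iff.2 fun a ha => hcomm a ha b hb)
  have hdec : ∀ w ∈ W₁ ⊔ W₂, ∃ a ∈ W₁, ∃ b ∈ W₂, a * b = w := by
    intro w hw
    rw [← SetLike.mem_coe, Subgroup.coe_mul_of_right_le_normalizer_left _ _ hle₂] at hw
    obtain ⟨a, ha, b, hb, rfl⟩ := Set.mem_mul.1 hw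
    exact ⟨a, ha, b, hb, rfl⟩
  have hcyc : IsCyclic ↥(W₁ ⊔ W₂) := by
    haveI := hW₁c
    haveI := hW₂c
    haveI : IsCyclic (W₁ × W₂) := Group.isCyclic_prod_iff.2 ⟨hW₁c, hW₂c, hcop⟩
    refine isCyclic_of_surjective
      (MonoidHom.noncommCoprod (Subgroup.inclusion le_sup_left) (Subgroup.inclusion le_sup_right)
        fun a b => Subtype.ext (hcomm a a.2 b b.2)) ?_
    rintro ⟨w, hw⟩
    obtain ⟨a, ha, b, hb, rfl⟩ := hdec w hw
    exact ⟨(⟨a, ha⟩, ⟨b, hb⟩), rfl⟩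
  refine ⟨hW₁, hW₂, hd, hcomm, hcyc, fun X hX ⟨x, hx⟩ => le_antisymm ?_ ?_⟩
  · intro g hg
    obtain ⟨k, hk, w, hw, rfl⟩ : g ∈ (K : Set L) * (W₁ : Set L) := by
      rw [← Subgroup.normal_mul, hKW₁']; trivial
    obtain ⟨hxW, hx12⟩ := hX hx
    obtain ⟨a, ha, b, hb, rfl⟩ := hdec x hxW
    have hb1 : b ≠ 1 := fun h => hx12 (Or.inl (by rw [h, mul_one]; exact ha))
    have ha1 : a ≠ 1 := fun h => hx12 (Or.inr (by rw [h, one_mul]; exact hb))
    have hwx : w * (a * b) * w⁻¹ = a * b := by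
      haveI := hW₁c
      haveI := hcyc
      have h1 : (⟨w, Subgroup.mem_sup_left hw⟩ : ↥(W₁ ⊔ W₂)) * ⟨a * b, hxW⟩ = ⟨a * b, hxW⟩ * ⟨w, Subgroup.mem_sup_left hw⟩ :=
        (IsCyclic.commGroup (α := ↥(W₁ ⊔ W₂))).mul_comm _ _
      have h2 : w * (a * b) = a * b * w := congrArg Subtype.val h1
      rw [h2]; group
    have h3 := hX ((Subgroup.mem_set_normalizer_iff.1 hg (a * b)).1 hx)
    have h4 : k * w * (a * b) * (k * w)⁻¹ = k * (a * b) * k⁻¹ := by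
      conv_rhs => rw [← hwx]
      group
    rw [h4] at h3
    obtain ⟨a', ha', b', hb', he⟩ := hdec _ h3.1
    have haa : a' = a := by
      have h5 : a⁻¹ * a' ∈ K ⊓ W₁ := by
        refine Subgroup.mem_inf.2 ⟨?_, mul_mem (inv_mem ha) ha'⟩
        have e : a⁻¹ * a' = (a⁻¹ * k * a) * b * k⁻¹ * b'⁻¹ := by
          rw [eq_mul_inv_iff_mul_eq, mul_assoc a⁻¹ a' b', he]; group
        rw [e]
        refine mul_mem (mul_mem (mul_mem ?_ (hW₂K hb)) (inv_mem hk)) (inv_mem (hW₂K hb'))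
        simpa using hK.conj_mem k hk a⁻¹
      rw [hKW₁, Subgroup.mem_bot, inv_mul_eq_one] at h5
      exact h5.symm
    subst haa
    obtain ⟨e, he1, he2⟩ := Nat.chineseRemainder hcop 1 0
    have hpow : ∀ b ∈ W₂, (a' * b) ^ e = a' := fun b hb => by
      rw [(show Commute a' b from hcomm a' ha b hb).mul_pow]
      rw [show b ^ e = 1 from orderOf_dvd_iff_pow_eq_one.1
        ((Subgroup.orderOf_dvd_natCard _ hb).trans (Nat.modEq_zero_iff_dvd.1 he2)), mul_one]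
      conv_rhs => rw [← pow_one a']
      exact pow_eq_pow_iff_modEq.2 (he1.of_dvd (Subgroup.orderOf_dvd_natCard _ ha))
    have h6 := congrArg (· ^ e) he
    simp only [conj_pow, hpow b hb, hpow b' hb'] at h6
    have hkW : k ∈ W₂ := by
      rw [← hC a' ha ha1, Subgroup.mem_inf, Subgroup.mem_centralizer_singleton_iff]
      refine ⟨hk, ?_⟩
      conv_rhs => rw [h6]
      group
    exact mul_mem (Subgroup.mem_sup_right hkW) (Subgroup.mem_sup_left hw)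
  · intro w hw
    haveI := hcyc
    have hfix : ∀ y ∈ W₁ ⊔ W₂, w * y * w⁻¹ = y := fun y hy => by
      have h1 : (⟨w, hw⟩ : ↥(W₁ ⊔ W₂)) * ⟨y, hy⟩ = ⟨y, hy⟩ * ⟨w, hw⟩ :=
        (IsCyclic.commGroup (α := ↥(W₁ ⊔ W₂))).mul_comm _ _
      have h2 : w * y = y * w := congrArg Subtype.val h1
      rw [h2]; group
    refine Subgroup.mem_set_normalizer_iff.2 fun y => ⟨fun hy => by rwa [hfix y (hX hy).1], fun hy => ?_⟩
    have hy' : y ∈ W₁ ⊔ W₂ := by
      simpa [mul_assoc] using mul_mem (mul_mem (inv_mem hw) (hX hy).1) hw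
    rwa [hfix y hy'] at hy

end Cfsg.Agent.S1510
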