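import Cfsg.Statements.S1511
import Cfsg.Agent.S1510
import Cfsg.Agent.S1502
import Cfsg.Agent.Lib.OddOrder.Coherence
-- import your own Cfsg.Agent.* helpers here

set_option autoImplicit false
open Cfsg

namespace Cfsg.Agent.S1511

section Aux

open Cfsg.Agent

variable {L : Type*} [Group L]

/-- `W ∖ W₂` is a TI set with normaliser `W`. -/
theorem conj_mem [Fintype L] (K W₁ W₂ : Subgroup L) [hK : K.Normal] (hKW₁ : K ⊓ W₁ = ⊥) (hKW₁' : K ⊔ W₁ = ⊤)
    (hW₂K : W₂ ≤ K) (hcop : (Nat.card W₁).Coprime (Nat.card W₂))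
    (hC : ∀ x ∈ W₁, x ≠ 1 → K ⊓ Subgroup.centralizer ({x} : Set L) = W₂)
    (hW : IsSelfNormalizingCyclic W₁ W₂) {g x : L} (hx : x ∈ W₁ ⊔ W₂) (hx2 : x ∉ W₂)
    (hgx : g * x * g⁻¹ ∈ W₁ ⊔ W₂) : g ∈ W₁ ⊔ W₂ := by
  have hdec : ∀ w ∈ W₁ ⊔ W₂, ∃ a ∈ W₁, ∃ b ∈ W₂, a * b = w := by
    intro w hw
    have hn : W₁ ≤ Subgroup.normalizer (W₂ : Set L) := fun a ha =>
      Subgroup.centralizer_le_normalizer _ (Subgroup.mem_centralizer_iff.2 fun b hb =>
        (hW.2.2.2.1 a ha b hb).symm)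
    obtain ⟨a, ha, b, hb, hab⟩ := (Coprime.mem_sup_iff_of_le_normalizer hn).1 hw
    exact ⟨a, ha, b, hb, hab⟩
  obtain ⟨k, hk, w, hw, rfl⟩ : ∃ k ∈ K, ∃ w ∈ W₁, k * w = g :=
    Subgroup.mem_sup_of_normal_left.1 (hKW₁' ▸ Subgroup.mem_top g : g ∈ K ⊔ W₁)
  have hwx : w * x * w⁻¹ = x := by
    have h2 : w * x = x * w :=
      congrArg Subtype.val (OddOrder.isCyclicTI_comm hW ⟨w, Subgroup.mem_sup_left hw⟩ ⟨x, hx⟩)
    rw [h2]; group
  obtain ⟨a, ha, b, hb, rfl⟩ := hdec x hx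
  have ha1 : a ≠ 1 := fun h => hx2 (by rw [h, one_mul]; exact hb)
  obtain ⟨a', ha', b', hb', he⟩ := hdec _ hgx
  have he' : a' * b' = k * (a * b) * k⁻¹ := by
    rw [he]; conv_rhs => rw [← hwx]
    group
  have haa : a' = a := by
    have h5 : a⁻¹ * a' ∈ K ⊓ W₁ := by
      refine Subgroup.mem_inf.2 ⟨?_, mul_mem (inv_mem ha) ha'⟩
      have e : a⁻¹ * a' = (a⁻¹ * k * a) * b * k⁻¹ * b'⁻¹ := by
        rw [eq_mul_inv_iff_mul_eq, mul_assoc a⁻¹ a' b', he']; group
      rw [e]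
      refine mul_mem (mul_mem (mul_mem ?_ (hW₂K hb)) (inv_mem hk)) (inv_mem (hW₂K hb'))
      simpa using hK.conj_mem k hk a⁻¹
    rw [hKW₁, Subgroup.mem_bot, inv_mul_eq_one] at h5
    exact h5.symm
  subst haa
  obtain ⟨e, he1, he2⟩ := Nat.chineseRemainder hcop 1 0
  have hpow : ∀ b ∈ W₂, (a' * b) ^ e = a' := fun b hb => by
    rw [(show Commute a' b from hW.2.2.2.1 a' ha b hb).mul_pow]
    rw [show b ^ e = 1 from orderOf_dvd_iff_pow_eq_one.1
      ((Subgroup.orderOf_dvd_natCard _ hb).trans (Nat.modEq_zero_iff_dvd.1 he2)), mul_one]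
    conv_rhs => rw [← pow_one a']
    exact pow_eq_pow_iff_modEq.2 (he1.of_dvd (Subgroup.orderOf_dvd_natCard _ ha))
  have h6 := congrArg (· ^ e) he'
  simp only [conj_pow, hpow b hb, hpow b' hb'] at h6
  have hkW : k ∈ W₂ := by
    rw [← hC a' ha ha1, Subgroup.mem_inf, Subgroup.mem_centralizer_singleton_iff]
    refine ⟨hk, ?_⟩
    conv_rhs => rw [h6]
    group
  exact mul_mem (Subgroup.mem_sup_right hkW) (Subgroup.mem_sup_left hw)

/-- Induction from `W` of a function supported on a TI set with normaliser `W`. -/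
theorem indFun_apply_of_ti [Fintype L] (W : Subgroup L) (hcomm : ∀ a b : W, a * b = b * a) (α : W → ℂ)
    (hTI : ∀ (w : W) (g : L), α w ≠ 0 → g * (w : L) * g⁻¹ ∈ W → g ∈ W) (w : W) :
    indFun W α w = α w := by
  classical
  have hterm : ∀ x : L, extendByZero W α (x⁻¹ * w * x) = if x ∈ W then α w else 0 := by
    intro x
    by_cases hx : x⁻¹ * (w : L) * x ∈ W
    · rw [Char.extendByZero_of_mem _ _ hx]
      split_ifs with hxW
      · congr 1
        refine Subtype.ext ?_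
        have h := congrArg Subtype.val (hcomm w ⟨x, hxW⟩)
        show x⁻¹ * (w : L) * x = w
        rw [mul_assoc, show (w : L) * x = x * w from h]; group
      · by_contra hcon
        exact hxW (hTI ⟨_, hx⟩ x hcon
          (by rw [show x * (x⁻¹ * (w : L) * x) * x⁻¹ = w by group]; exact w.2))
    · rw [Char.extendByZero_of_notMem _ _ hx, if_neg fun h => hx (mul_mem (mul_mem (inv_mem h) w.2) h)]
  simp only [indFun, hterm]
  rw [Finset.sum_ite, Finset.sum_const_zero, add_zero, Finset.sum_const, nsmul_eq_mul,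
    ← mul_assoc, ← Fintype.card_subtype, ← Nat.card_eq_fintype_card]
  exact (congrArg (· * α w) (inv_mul_cancel₀ (Nat.cast_ne_zero.2 Nat.card_pos.ne'))).trans (one_mul _)

/-- An array `u i + v j` vanishes if, after adding `1` and `-1` in one row, its squares sum to at
most two. -/
theorem additive_eq_zero {ι κ : Type*} [Fintype ι] [Fintype κ] [DecidableEq ι] [DecidableEq κ]
    (hι : 3 ≤ Fintype.card ι) (hκ : 3 ≤ Fintype.card κ) (M : ι → κ → ℤ)
    (hM : ∀ i i' j j', M i j + M i' j' = M i j' + M i' j) (p q : ι) (hpq : p ≠ q) (r : κ)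
    (h2 : ∑ s : ι × κ, (M s.1 s.2 +
      (if s.2 = r then (if s.1 = p then 1 else 0) - (if s.1 = q then 1 else 0) else 0)) ^ 2 ≤ 2) :
    ∀ i j, M i j = 0 := by
  set e : ι → ℤ := fun i => (if i = p then 1 else 0) - (if i = q then 1 else 0) with he
  set f : ι × κ → ℤ := fun s => M s.1 s.2 + (if s.2 = r then e s.1 else 0) with hf
  have hle : ∀ a b c : ι × κ, a ≠ b → a ≠ c → b ≠ c → f a ^ 2 + f b ^ 2 + f c ^ 2 ≤ 2 := by
    intro a b c hab hac hbc
    refine le_trans (le_of_eq ?_) (le_trans (Finset.sum_le_univ_sum_of_nonneg (s := {a, b, c})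
      (f := fun s => f s ^ 2) fun s => sq_nonneg _) h2)
    rw [Finset.sum_insert (by simp [hab, hac]), Finset.sum_insert (by simp [hbc]), Finset.sum_singleton]
    ring
  have three : ∀ a b c : ι × κ, a ≠ b → a ≠ c → b ≠ c → f a ≠ 0 → f b ≠ 0 → f c = 0 := by
    intro a b c hab hac hbc ha hb
    by_contra hc
    have h := hle a b c hab hac hbc
    have hsq : ∀ z : ℤ, z ≠ 0 → 1 ≤ z ^ 2 := fun z hz => by
      have : 0 < z ^ 2 := by positivity
      omega
    have := hsq _ ha; have := hsq _ hb; have := hsq _ hc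
    omega
  have hoff : ∀ i j, j ≠ r → f (i, j) = M i j := fun i j hj => by simp [hf, hj]
  have hrow : ∀ i, f (i, r) = M i r + e i := fun i => by simp [hf]
  -- off row `r`
  have hzero : ∀ i j, j ≠ r → M i j = 0 := by
    intro i j hj
    by_contra hne
    obtain ⟨j', hj', hj'r⟩ : ∃ j', j' ≠ j ∧ j' ≠ r := by
      obtain ⟨x, -, hx⟩ := Finset.exists_mem_notMem_of_card_lt_card (s := {j, r}) (t := Finset.univ)
        (lt_of_le_of_lt Finset.card_le_two (by rw [Finset.card_univ]; omega))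
      simp only [Finset.mem_insert, Finset.mem_singleton, not_or] at hx
      exact ⟨x, hx⟩
    have hne' : f (i, j) ≠ 0 := by rw [hoff _ _ hj]; exact hne
    obtain ⟨k, hk, hkj, hkj'⟩ : ∃ k, k ≠ i ∧ M k j = 0 ∧ M k j' = 0 := by
      by_contra hcon
      push Not at hcon
      obtain ⟨k, hk, l, hl, hkl⟩ := Finset.one_lt_card.1 (show 1 < (Finset.univ.erase i).card by
        rw [Finset.card_erase_of_mem (Finset.mem_univ _), Finset.card_univ]; omega)
      have pick : ∀ k ∈ Finset.univ.erase i, ∃ s : ι × κ, s.1 = k ∧ f s ≠ 0 := fun k hk => by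
        by_cases h : M k j = 0
        · exact ⟨(k, j'), rfl, by rw [hoff _ _ hj'r]; exact hcon k (Finset.mem_erase.1 hk).1 h⟩
        · exact ⟨(k, j), rfl, by rw [hoff _ _ hj]; exact h⟩
      obtain ⟨s, hs, hs'⟩ := pick k hk
      obtain ⟨t, ht, ht'⟩ := pick l hl
      exact ht' (three (i, j) s t (fun e => (Finset.mem_erase.1 hk).1 (by rw [← hs, ← e]))
        (fun e => (Finset.mem_erase.1 hl).1 (by rw [← ht, ← e]))
        (fun e => hkl (by rw [← hs, ← ht, e])) hne' hs')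
    have hne'' : f (i, j') ≠ 0 := by
      rw [hoff _ _ hj'r]; have := hM i k j j'; omega
    have hout : ∀ k, k ≠ i → f (k, r) = 0 ∧ M k j = 0 := fun k hk => by
      have hd : (i, j) ≠ (i, j') := fun e => hj' (congrArg Prod.snd e).symm
      refine ⟨three _ _ _ hd (fun e => hk (congrArg Prod.fst e).symm)
        (fun e => hk (congrArg Prod.fst e).symm) hne' hne'', ?_⟩
      rw [← hoff _ _ hj]
      exact three _ _ _ hd (fun e => hk (congrArg Prod.fst e).symm)
        (fun e => hk (congrArg Prod.fst e).symm) hne' hne''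
    obtain ⟨p', hp', hp'i⟩ : ∃ p', (p' = p ∨ p' = q) ∧ p' ≠ i := by
      by_cases h : p = i
      · exact ⟨q, Or.inr rfl, fun h' => hpq (h.trans h'.symm)⟩
      · exact ⟨p, Or.inl rfl, h⟩
    obtain ⟨l, -, hl⟩ := Finset.exists_mem_notMem_of_card_lt_card (s := {i, p'}) (t := Finset.univ)
      (lt_of_le_of_lt Finset.card_le_two (by rw [Finset.card_univ]; omega))
    simp only [Finset.mem_insert, Finset.mem_singleton, not_or] at hl
    have h1 := hout p' hp'i
    have h3 := hout l hl.1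
    rw [hrow] at h1 h3
    have h4 := hM p' l r j
    have hel : e p' ≠ e l := by
      rcases hp' with rfl | rfl <;> simp only [he, if_neg hl.2, if_true] <;>
        [rw [if_neg hpq]; rw [if_neg (Ne.symm hpq)]] <;> split_ifs <;> omega
    omega
  obtain ⟨j₀, -, hj₀⟩ := Finset.exists_mem_notMem_of_card_lt_card (s := ({r} : Finset κ)) (t := Finset.univ)
    (by rw [Finset.card_univ, Finset.card_singleton]; omega)
  rw [Finset.mem_singleton] at hj₀
  obtain ⟨l, -, hl⟩ := Finset.exists_mem_notMem_of_card_lt_card (s := {p, q}) (t := Finset.univ)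
    (lt_of_le_of_lt Finset.card_le_two (by rw [Finset.card_univ]; omega))
  simp only [Finset.mem_insert, Finset.mem_singleton, not_or] at hl
  have hconst : ∀ i, M i r = M l r := fun i => by
    have := hM i l r j₀
    rw [hzero i j₀ hj₀, hzero l j₀ hj₀] at this
    omega
  have hc : M l r = 0 := by
    have h := hle (p, r) (q, r) (l, r) (by simp [hpq]) (by simp [Ne.symm hl.1]) (by simp [Ne.symm hl.2])
    rw [hrow, hrow, hrow, hconst p, hconst q] at h
    simp only [he, if_true, if_neg hpq, if_neg hpq.symm, if_neg hl.1, if_neg hl.2] at h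
    by_contra hne
    have : 0 < M l r ^ 2 := by positivity
    nlinarith
  intro i j
  by_cases hj : j = r
  · subst hj; rw [hconst i, hc]
  · exact hzero i j hj

end Aux
/-- Let L be a finite group with K normal with complement W₁ ≠ 1 a cyclic Hall subgroup, and W₂ ≠ 1 a cyclic subgroup of K equal to C_K(x) for every non-identity x ∈ W₁, with W₁W₂ of odd order. Then there are a map μ from the linear characters of W = W₁ ⊔ W₂ to irreducible characters of L, injective, and a sign δ(ω) ∈ {1, −1} depending only on the values of ω on W₂, such that: for ω, ω' agreeing on W₂, the function induced to L from ω − ω' equals δ(ω) • (μ ω − μ ω'); μ ω x = δ(ω) ω x for x ∈ W outside W₂; every irreducible character of L not of the form μ ω vanishes on W outside W₂; and μ ω 1 − δ(ω) is an integer multiple of Nat.card W₁. -/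
theorem result {L : Type*} [Group L] [Fintype L] (K W₁ W₂ : Subgroup L) [hK : K.Normal] (hKW₁ : K ⊓ W₁ = ⊥) (hKW₁' : K ⊔ W₁ = ⊤) (hW₁ : W₁ ≠ ⊥) (hW₁c : IsCyclic W₁) (hHall : Nat.Coprime (Nat.card W₁) W₁.index) (hW₂ : W₂ ≠ ⊥) (hW₂c : IsCyclic W₂) (hW₂K : W₂ ≤ K) (hC : ∀ x ∈ W₁, x ≠ 1 → K ⊓ Subgroup.centralizer ({x} : Set L) = W₂) (hodd : Odd (Nat.card ↥(W₁ ⊔ W₂))) : ∃ (μ : (↥(W₁ ⊔ W₂) →* ℂˣ) → (L → ℂ)) (δ : (↥(W₁ ⊔ W₂) →* ℂˣ) → ℂ), Function.Injective μ ∧ (∀ ω, Cfsg.IsIrrCharacter L (μ ω)) ∧ (∀ ω, δ ω = 1 ∨ δ ω = -1) ∧ (∀ ω ω' : ↥(W₁ ⊔ W₂) →* ℂˣ, (∀ w : ↥(W₁ ⊔ W₂), (w : L) ∈ W₂ → ω w = ω' w) → δ ω = δ ω' ∧ Cfsg.indFun (W₁ ⊔ W₂) (fun w => (ω w : ℂ) - (ω' w : ℂ)) = δ ω • (μ ω - μ ω')) ∧ (∀ ω, ∀ w : ↥(W₁ ⊔ W₂), (w : L) ∉ W₂ → μ ω w = δ ω * (ω w : ℂ)) ∧ (∀ θ : L → ℂ, Cfsg.IsIrrCharacter L θ → (∀ ω, θ ≠ μ ω) → ∀ w : ↥(W₁ ⊔ W₂), (w : L) ∉ W₂ → θ w = 0) ∧ (∀ ω, ∃ n : ℤ, μ ω 1 - δ ω = n * (Nat.card W₁ : ℂ)) := by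
  classical
  have hW := Cfsg.Agent.S1510.result K W₁ W₂ hKW₁ hKW₁' hW₁ hW₁c hHall hW₂ hW₂c hW₂K hC hodd
  obtain ⟨χ, hχ⟩ := Cfsg.Agent.S1502.result W₁ W₂ hW hodd
  letI : CommGroup ↥(W₁ ⊔ W₂) :=
    { (inferInstance : Group ↥(W₁ ⊔ W₂)) with mul_comm := OddOrder.isCyclicTI_comm hW }
  haveI : Fintype ↥(W₁ ⊔ W₂) := Fintype.ofFinite _
  haveI : Fintype W₁ := Fintype.ofFinite _
  set A : Subgroup ↥(W₁ ⊔ W₂) := W₁.subgroupOf (W₁ ⊔ W₂) with hA
  set B : Subgroup ↥(W₁ ⊔ W₂) := W₂.subgroupOf (W₁ ⊔ W₂) with hB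
  have hd : A ⊓ B = ⊥ := by
    refine (Subgroup.eq_bot_iff_forall _).2 fun x hx => Subtype.ext ?_
    have h : (x : L) ∈ W₁ ⊓ W₂ := hx
    rw [hW.2.2.1, Subgroup.mem_bot] at h
    exact h
  have hs : A ⊔ B = ⊤ := by
    rw [hA, hB, ← Subgroup.subgroupOf_sup le_sup_left le_sup_right, Subgroup.subgroupOf_self]
  obtain ⟨-, hinj, hsurj⟩ := OddOrder.dualAnn_mul_bijOn hd hs
  have hK' : W₁.index = Nat.card K := (Subgroup.isComplement'_of_disjoint_and_mul_eq_univ
    (disjoint_iff.2 hKW₁) (by rw [← Subgroup.normal_mul, hKW₁']; rfl)).index_eq_card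
  have hcop : (Nat.card W₁).Coprime (Nat.card W₂) :=
    (hK' ▸ hHall).coprime_dvd_right (Subgroup.card_dvd_of_le hW₂K)
  have hcard3 : ∀ U : Subgroup L, U ≤ W₁ ⊔ W₂ → U ≠ ⊥ → 3 ≤ Nat.card U := by
    intro U hU hne
    obtain ⟨t, ht⟩ := hodd.of_dvd_nat (Subgroup.card_dvd_of_le hU)
    have : 1 < Nat.card U := (Subgroup.one_lt_card_iff_ne_bot U).2 hne
    omega
  have hcl : ∀ η, IsClassFunction L (χ η) := fun η => OddOrder.signed_isClassFunction (hχ.irr_or_neg η)
  have hgenW : ∀ η : ↥(W₁ ⊔ W₂) →* ℂˣ, IsGeneralizedCharacter ↥(W₁ ⊔ W₂) (fun w => (η w : ℂ)) :=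
    fun η => Char.irr_isGeneralized (Char.linIrr ((Units.coeHom ℂ).comp η))
  have hgenχ : ∀ η, IsGeneralizedCharacter L (χ η) := fun η => by
    rcases hχ.irr_or_neg η with h | h
    · exact Char.irr_isGeneralized ⟨_, h⟩
    · simpa using Char.IsGeneralizedCharacter.neg (Char.irr_isGeneralized ⟨_, h⟩)
  -- functions vanishing on `W₂`
  have hind : ∀ ω ω' : ↥(W₁ ⊔ W₂) →* ℂˣ, (∀ w : ↥(W₁ ⊔ W₂), (w : L) ∈ W₂ → ω w = ω' w) →
      ∀ w : ↥(W₁ ⊔ W₂), indFun (W₁ ⊔ W₂) (fun w => (ω w : ℂ) - (ω' w : ℂ)) w = (ω w : ℂ) - (ω' w : ℂ) := by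
    intro ω ω' h
    refine indFun_apply_of_ti _ (OddOrder.isCyclicTI_comm hW) _ fun w g hne hg => ?_
    refine conj_mem K W₁ W₂ hKW₁ hKW₁' hW₂K hcop hC hW w.2 (fun hw => hne ?_) hg
    rw [h w hw, sub_self]
  have hmain : ∀ ω ω' : ↥(W₁ ⊔ W₂) →* ℂˣ, (∀ w : ↥(W₁ ⊔ W₂), (w : L) ∈ W₂ → ω w = ω' w) →
      indFun (W₁ ⊔ W₂) (fun w => (ω w : ℂ) - (ω' w : ℂ)) = χ ω - χ ω' := by
    intro ω ω' h
    by_cases hne : ω = ω'
    · subst hne
      simp only [sub_self]
      exact Char.indFun_zero _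
    set F := indFun (W₁ ⊔ W₂) (fun w => (ω w : ℂ) - (ω' w : ℂ)) with hF
    have hFc : IsClassFunction L F := Char.isClassFunction_indFun _ _
    have hFgen : IsGeneralizedCharacter L F :=
      Char.isGeneralizedCharacter_indFun _ (Char.IsGeneralizedCharacter.sub (hgenW ω) (hgenW ω'))
    have hFF : classInner F F = ((2 : ℤ) : ℂ) := by
      rw [hF, Char.classInner_indFun _ _ hFc,
        show (fun w : ↥(W₁ ⊔ W₂) => F w) = _ from funext (hind ω ω' h),
        show (fun w => (ω w : ℂ) - (ω' w : ℂ)) = (fun w : ↥(W₁ ⊔ W₂) => (ω w : ℂ)) - fun w => (ω' w : ℂ) from rfl,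
        Char.classInner_sub_left, Char.classInner_sub_right, Char.classInner_sub_right]
      simp only [OddOrder.classInner_monoidHom, if_true, if_neg hne, if_neg (Ne.symm hne)]
      norm_num
    have hint : ∀ η, ∃ z : ℤ, classInner F (χ η) = z := fun η =>
      Char.IsGeneralizedCharacter.exists_int_classInner hFgen (hgenχ η)
    choose a ha using hint
    set d := F - (χ ω - χ ω') with hd'
    have hdc : IsClassFunction L d := fun g x => by simp [hd', hFc g x, hcl ω g x, hcl ω' g x]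
    have hdV : ∀ w : ↥(W₁ ⊔ W₂), (w : L) ∉ W₁ → (w : L) ∉ W₂ → d w = 0 := fun w h1 h2 => by
      rw [hd', Pi.sub_apply, Pi.sub_apply, hF, hind ω ω' h w, hχ.eq_on ω w h1 h2, hχ.eq_on ω' w h1 h2, sub_self]
    have hdη : ∀ η, classInner d (χ η) =
        ((a η - ((if ω = η then 1 else 0) - (if ω' = η then 1 else 0)) : ℤ) : ℂ) := fun η => by
      rw [hd', Char.classInner_sub_left, Char.classInner_sub_left, ha, hχ.orthonormal, hχ.orthonormal]
      push_cast; congr 3
    obtain ⟨⟨p, r⟩, hp, hpω⟩ := hsurj (Set.mem_univ ω)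
    obtain ⟨⟨q, r'⟩, hq, hqω⟩ := hsurj (Set.mem_univ ω')
    have hp' := Finset.mem_product.1 (Finset.mem_coe.1 hp)
    have hq' := Finset.mem_product.1 (Finset.mem_coe.1 hq)
    have hrr : r = r' := MonoidHom.ext fun w => by
      have hw : w ∈ A ⊔ B := hs ▸ Subgroup.mem_top w
      obtain ⟨x, hx, y, hy, rfl⟩ := Subgroup.mem_sup.1 hw
      have h1 := h y hy
      rw [← hpω, ← hqω] at h1
      simp only [MonoidHom.mul_apply, OddOrder.mem_dualAnn.1 hp'.1 y hy,
        OddOrder.mem_dualAnn.1 hq'.1 y hy, one_mul] at h1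
      rw [map_mul, map_mul, OddOrder.mem_dualAnn.1 hp'.2 x hx, OddOrder.mem_dualAnn.1 hq'.2 x hx, h1]
    subst hrr
    set N : ↥(OddOrder.dualAnn B) → ↥(OddOrder.dualAnn A) → ℤ := fun i j =>
      a (i.1 * j.1) - ((if ω = i.1 * j.1 then 1 else 0) - (if ω' = i.1 * j.1 then 1 else 0)) with hN
    have hu : Function.Injective fun s : ↥(OddOrder.dualAnn B) × ↥(OddOrder.dualAnn A) => s.1.1 * s.2.1 :=
      fun s t e => by
        have := hinj (x₁ := (s.1.1, s.2.1)) (x₂ := (t.1.1, t.2.1))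
          (Finset.mem_coe.2 (Finset.mem_product.2 ⟨s.1.2, s.2.2⟩))
          (Finset.mem_coe.2 (Finset.mem_product.2 ⟨t.1.2, t.2.2⟩)) e
        exact Prod.ext (Subtype.ext (congrArg Prod.fst this)) (Subtype.ext (congrArg Prod.snd this))
    have hN0 : ∀ i j, N i j = 0 := by
      refine additive_eq_zero ?_ ?_ N (fun i i' j j' => ?_) ⟨p, hp'.1⟩ ⟨q, hq'.1⟩ ?_ ⟨r, hp'.2⟩ ?_
      · rw [Fintype.card_coe, OddOrder.card_dualAnn_of_compl hd hs,
          Nat.card_congr (Subgroup.subgroupOfEquivOfLe le_sup_left).toEquiv]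
        exact hcard3 W₁ le_sup_left hW₁
      · rw [Fintype.card_coe, OddOrder.card_dualAnn_of_compl (W₁ := B) (W₂ := A)
            ((inf_comm B A).trans hd) ((sup_comm B A).trans hs),
          Nat.card_congr (Subgroup.subgroupOfEquivOfLe le_sup_right).toEquiv]
        exact hcard3 W₂ le_sup_right hW₂
      · have hrel : ∀ (i : ↥(OddOrder.dualAnn B)) (j : ↥(OddOrder.dualAnn A)),
            ((N i j : ℤ) : ℂ) = classInner d (χ i.1) + classInner d (χ j.1) - classInner d (χ 1) := fun i j => by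
          rw [hN, ← hdη]
          exact OddOrder.coeff_eq hχ hdc hdV i.1 j.1 (fun w hw => OddOrder.mem_dualAnn.1 i.2 w hw)
            fun w hw => OddOrder.mem_dualAnn.1 j.2 w hw
        have : ((N i j + N i' j' : ℤ) : ℂ) = ((N i j' + N i' j : ℤ) : ℂ) := by
          push_cast; rw [hrel, hrel, hrel, hrel]; ring
        exact_mod_cast this
      · intro e
        apply hne
        rw [← hpω, ← hqω]
        exact congrArg (· * r) (congrArg Subtype.val e)
      · have hb := OddOrder.bessel_int (Finset.univ.image fun s :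
            ↥(OddOrder.dualAnn B) × ↥(OddOrder.dualAnn A) => s.1.1 * s.2.1) χ (fun _ => 1)
          (fun _ _ => Nat.one_pos) (fun i _ j _ => by rw [hχ.orthonormal]; simp) F 2 hFF a fun η _ => ha η
        rw [Finset.sum_image fun s _ t _ e => hu e] at hb
        have e1 : ∀ (s : ↥(OddOrder.dualAnn B) × ↥(OddOrder.dualAnn A)) (t : ↥(OddOrder.dualAnn B)),
            t.1 * r = s.1.1 * s.2.1 ↔ s.1 = t ∧ s.2 = ⟨r, hp'.2⟩ := fun s t => by
          constructor
          · intro e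
            have := @hu (t, ⟨r, hp'.2⟩) s e
            subst this; exact ⟨rfl, rfl⟩
          · rintro ⟨h1, h2⟩; rw [h1, h2]
        refine le_trans (le_of_eq (Finset.sum_congr rfl fun s _ => ?_))
          (show ∑ s : ↥(OddOrder.dualAnn B) × ↥(OddOrder.dualAnn A), a (s.1.1 * s.2.1) ^ 2 ≤ (2 : ℤ) from
            (Int.cast_le (R := ℝ)).1 (by push_cast; simpa using hb))
        congr 1
        simp only [hN, show ω = p * r from hpω.symm, show ω' = q * r from hqω.symm,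
          e1 s ⟨p, hp'.1⟩, e1 s ⟨q, hq'.1⟩]
        by_cases h3 : s.2 = (⟨r, hp'.2⟩ : ↥(OddOrder.dualAnn A)) <;> simp [h3]
    have hall : ∀ η, classInner F (χ η) = (if ω = η then 1 else 0) - (if ω' = η then 1 else 0) := fun η => by
      obtain ⟨⟨x, y⟩, hxy, rfl⟩ := hsurj (Set.mem_univ η)
      have hxy' := Finset.mem_product.1 (Finset.mem_coe.1 hxy)
      have h0 := hN0 ⟨x, hxy'.1⟩ ⟨y, hxy'.2⟩
      simp only [hN, sub_eq_zero] at h0
      rw [ha, h0]; push_cast; rfl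
    have h1 : classInner F (χ ω) = 1 := by rw [hall, if_pos rfl, if_neg (Ne.symm hne), sub_zero]
    have h2 : classInner F (χ ω') = -1 := by rw [hall, if_pos rfl, if_neg hne, zero_sub]
    have hstar : ∀ u v : L → ℂ, classInner u v = (starRingEnd ℂ) (classInner v u) := by
      intro u v
      simp only [classInner, map_mul, map_sum, map_inv₀, map_natCast, Complex.conj_conj]
      congr 1
      exact Finset.sum_congr rfl fun x _ => mul_comm _ _
    have hnorm : classInner d d = 0 := by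
      rw [hd']
      simp only [Char.classInner_sub_left, Char.classInner_sub_right, hFF, h1, h2, hχ.orthonormal,
        hstar (χ ω) F, hstar (χ ω') F, map_one, map_neg, if_true, if_neg hne, if_neg (Ne.symm hne)]
      norm_num
    exact sub_eq_zero.1 (Char.classInner_self_eq_zero hnorm)
  -- agreement with `ω` outside `W₂`
  have key : ∀ θ : L → ℂ, IsClassFunction L θ → ∀ η : ↥(W₁ ⊔ W₂) → ℂ,
      (∀ φ ψ : ↥(W₁ ⊔ W₂) →* ℂˣ, φ ∈ OddOrder.dualAnn B → ψ ∈ OddOrder.dualAnn A →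
        classInner θ (χ (φ * ψ) - χ ψ) = classInner η (fun w => ((φ * ψ) w : ℂ) - (ψ w : ℂ))) →
      ∀ w : ↥(W₁ ⊔ W₂), (w : L) ∉ W₂ → θ w = η w := by
    intro θ hθ η hθη w hw
    set T : ↥(W₁ ⊔ W₂) → ℂ := ∑ φ ∈ OddOrder.dualAnn B, ∑ ψ ∈ OddOrder.dualAnn A,
      ((φ * ψ) w⁻¹ : ℂ) • fun x => ((φ * ψ) x : ℂ) - (ψ x : ℂ) with hT
    have h0 : classInner ((fun x : ↥(W₁ ⊔ W₂) => θ x) - η) T = 0 := by
      rw [hT, Char.classInner_sum_right, Finset.sum_eq_zero]
      intro φ hφ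
      rw [Char.classInner_sum_right, Finset.sum_eq_zero]
      intro ψ hψ
      rw [Char.classInner_smul_right, Char.classInner_sub_left, ← Char.classInner_indFun_right _ _ hθ,
        hmain (φ * ψ) ψ fun x hx => by rw [MonoidHom.mul_apply, OddOrder.mem_dualAnn.1 hφ x hx, one_mul],
        hθη φ ψ hφ hψ, sub_self, mul_zero]
    have hT' : T = fun x => (∑ φ ∈ OddOrder.dualAnn B, (φ (x * w⁻¹) : ℂ)) *
        ∑ ψ ∈ OddOrder.dualAnn A, (ψ (x * w⁻¹) : ℂ) := by
      funext x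
      have hz : ∑ φ ∈ OddOrder.dualAnn B, (φ w⁻¹ : ℂ) = 0 :=
        OddOrder.sum_dualAnn_of_notMem fun h => hw (by simpa using (inv_mem (show ((w⁻¹ : ↥(W₁ ⊔ W₂)) : L) ∈ W₂ from h)))
      simp only [hT, Finset.sum_apply, Pi.smul_apply, smul_eq_mul, mul_sub, Finset.sum_sub_distrib,
        MonoidHom.mul_apply, Units.val_mul, mul_assoc, ← Finset.mul_sum, ← Finset.sum_mul, hz, zero_mul, sub_zero]
      rw [Finset.sum_mul_sum]
      refine Finset.sum_congr rfl fun φ _ => ?_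
      rw [Finset.mul_sum]
      refine Finset.sum_congr rfl fun ψ _ => ?_
      simp only [map_mul, Units.val_mul]; ring
    have hTw : ∀ x, x ≠ w → T x = 0 := by
      intro x hx
      rw [hT']
      by_cases hB' : x * w⁻¹ ∈ B
      · have hA' : x * w⁻¹ ∉ A := fun hA' => hx (mul_inv_eq_one.1 ((Subgroup.eq_bot_iff_forall _).1 hd _ ⟨hA', hB'⟩))
        simp only [OddOrder.sum_dualAnn_of_notMem hA', mul_zero]
      · simp only [OddOrder.sum_dualAnn_of_notMem hB', zero_mul]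
    rw [classInner, Finset.sum_eq_single w (fun x _ hx => by rw [hTw x hx]; simp) (by simp), hT'] at h0
    have hne : ∀ N : Subgroup ↥(W₁ ⊔ W₂), ((OddOrder.dualAnn N).card : ℂ) ≠ 0 := fun N =>
      Nat.cast_ne_zero.2 (Finset.card_ne_zero.2 ⟨1, OddOrder.one_mem_dualAnn N⟩)
    simpa [hne, Char.card_ne_zero, sub_eq_zero] using h0
  have hsign : ∀ η, ∃ (e : ℂ) (μ : L → ℂ), (e = 1 ∨ e = -1) ∧ IsIrrCharacter L μ ∧ χ η = e • μ ∧ μ = e • χ η := by
    intro η
    rcases hχ.irr_or_neg η with h | h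
    · exact ⟨1, χ η, Or.inl rfl, h, (one_smul _ _).symm, (one_smul _ _).symm⟩
    · exact ⟨-1, -χ η, Or.inr rfl, h, by simp, by simp⟩
  choose δ μ hδ hμ hχμ hμχ using hsign
  have heq : ∀ η, ∀ w : ↥(W₁ ⊔ W₂), (w : L) ∉ W₂ → χ η w = (η w : ℂ) := fun η w hw =>
    key (χ η) (hcl η) (fun w => (η w : ℂ)) (fun φ ψ _ _ => by
      rw [Char.classInner_sub_right, hχ.orthonormal, hχ.orthonormal,
        show (fun w => ((φ * ψ) w : ℂ) - (ψ w : ℂ)) =
          (fun w => ((φ * ψ) w : ℂ)) - fun w : ↥(W₁ ⊔ W₂) => (ψ w : ℂ) from rfl,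
        Char.classInner_sub_right, OddOrder.classInner_monoidHom, OddOrder.classInner_monoidHom]
      split_ifs <;> rfl) w hw
  refine ⟨μ, δ, fun ω ω' he => ?_, hμ, hδ, fun ω ω' h => ?_, fun ω w hw => ?_, fun θ hθ hne w hw => ?_, fun ω => ?_⟩
  · by_contra hne
    have h1 := hχ.orthonormal ω ω'
    rw [if_neg hne, hχμ, hχμ, he, Char.classInner_smul_left, Char.classInner_smul_right,
      Char.classInner_irr_self (hμ ω')] at h1
    rcases hδ ω with e1 | e1 <;> rcases hδ ω' with e2 | e2 <;> simp [e1, e2] at h1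
  · have hm := hmain ω ω' h
    have h1 := congrFun hm 1
    rw [Char.indFun_apply_one, Pi.sub_apply, hχμ ω, hχμ ω'] at h1
    simp only [map_one, sub_self, mul_zero, Pi.smul_apply, smul_eq_mul] at h1
    obtain ⟨n, hn⟩ := Char.IsCharacter.apply_one (Char.IsIrrCharacter.isCharacter (hμ ω))
    obtain ⟨n', hn'⟩ := Char.IsCharacter.apply_one (Char.IsIrrCharacter.isCharacter (hμ ω'))
    have hδe : δ ω = δ ω' := by
      have p0 : μ ω 1 ≠ 0 := Char.IsIrrCharacter.apply_one_ne_zero (hμ ω)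
      rw [hn] at p0 h1
      rw [hn'] at h1
      have hsum : n + n' ≠ 0 := fun h => p0 (by rw [show n = 0 by omega, Nat.cast_zero])
      have hsum' : ((n + n' : ℕ) : ℂ) ≠ 0 := Nat.cast_ne_zero.2 hsum
      push_cast at hsum'
      rcases hδ ω with e1 | e1 <;> rcases hδ ω' with e2 | e2
      · rw [e1, e2]
      · rw [e1, e2] at h1; exact absurd (by linear_combination -h1) hsum'
      · rw [e1, e2] at h1; exact absurd (by linear_combination h1) hsum'
      · rw [e1, e2]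
    refine ⟨hδe, ?_⟩
    rw [hm, smul_sub]
    conv_rhs => rw [← hχμ ω, hδe, ← hχμ ω']
  · rw [hμχ ω, Pi.smul_apply, heq ω w hw, smul_eq_mul]
  · refine key θ (Char.IsCharacter.isClassFunction (Char.IsIrrCharacter.isCharacter hθ)) 0 (fun φ ψ _ _ => ?_) w hw
    rw [Char.classInner_sub_right, hχμ, hχμ, Char.classInner_smul_right, Char.classInner_smul_right,
      Char.classInner_irr_of_ne hθ (hμ _) (hne _), Char.classInner_irr_of_ne hθ (hμ _) (hne _)]
    simp [classInner]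
  · set f : W₁ → ℂ := fun x => μ ω x - δ ω * (ω (Subgroup.inclusion le_sup_left x) : ℂ) with hf
    have hfg : IsGeneralizedCharacter W₁ f := by
      have h1 : IsGeneralizedCharacter W₁ (fun x : W₁ => μ ω x) :=
        Char.IsGeneralizedCharacter.restrict (Char.irr_isGeneralized ⟨_, hμ ω⟩) W₁
      have h2 : IsGeneralizedCharacter W₁ (fun x : W₁ => (ω (Subgroup.inclusion le_sup_left x) : ℂ)) :=
        Char.irr_isGeneralized (Char.linIrr ((Units.coeHom ℂ).comp (ω.comp (Subgroup.inclusion le_sup_left))))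
      rcases hδ ω with e | e
      · rw [show f = (fun x : W₁ => μ ω x) - fun x => (ω (Subgroup.inclusion le_sup_left x) : ℂ) by
          funext x; simp [hf, e]]
        exact Char.IsGeneralizedCharacter.sub h1 h2
      · rw [show f = (fun x : W₁ => μ ω x) + fun x => (ω (Subgroup.inclusion le_sup_left x) : ℂ) by
          funext x; simp [hf, e]]
        exact Char.IsGeneralizedCharacter.add h1 h2
    obtain ⟨z, hz⟩ := Char.IsGeneralizedCharacter.exists_int_classInner hfg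
      (Char.irr_isGeneralized (Char.linIrr (1 : W₁ →* ℂ)))
    refine ⟨z, ?_⟩
    rw [classInner, Finset.sum_eq_single 1 (fun x _ hx => ?_) (by simp)] at hz
    · simp only [hf, Char.linIrr_apply, MonoidHom.one_apply, map_one, mul_one, Units.val_one, OneMemClass.coe_one] at hz
      rw [← hz, mul_comm ((Nat.card W₁ : ℂ))⁻¹, mul_assoc, inv_mul_cancel₀ (Char.card_ne_zero (G := W₁)), mul_one]
    · have hx2 : (x : L) ∉ W₂ := fun h => hx (Subtype.ext (by
        have : (x : L) ∈ W₁ ⊓ W₂ := ⟨x.2, h⟩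
        rw [hW.2.2.1, Subgroup.mem_bot] at this; exact this))
      have := heq ω (Subgroup.inclusion le_sup_left x) hx2
      rw [hχμ, Pi.smul_apply, smul_eq_mul, Subgroup.coe_inclusion] at this
      have hx' : f x = 0 := by
        simp only [hf, ← this]
        rcases hδ ω with e | e <;> simp [e]
      rw [hx', zero_mul]

end Cfsg.Agent.S1511
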