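import Cfsg.Statements.S1496
import Cfsg.Agent.Lib.Coprime.Basic
import Mathlib.Data.Nat.ChineseRemainder
-- import your own Cfsg.Agent.* helpers here

set_option autoImplicit false
open Cfsg

namespace Cfsg.Agent.S1496

/-- Let H be a subgroup of the finite group G and g an element normalising H whose order is coprime to the order of H. Then for every h ∈ H there are x ∈ H and c ∈ H commuting with g such that x * (h * g) * x⁻¹ = c * g. -/
theorem result {G : Type*} [Group G] [Finite G] (H : Subgroup G) (g : G) (hg : g ∈ Subgroup.normalizer (H : Set G)) (hcop : Nat.Coprime (orderOf g) (Nat.card H)) (h : G) (hh : h ∈ H) : ∃ x ∈ H, ∃ c ∈ H, c * g = g * c ∧ x * (h * g) * x⁻¹ = c * g := by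
  classical
  set m := orderOf g with hm
  set y := h * g with hy
  have hgH : Subgroup.zpowers g ≤ Subgroup.normalizer (H : Set G) := Subgroup.zpowers_le.2 hg
  have hcard : Nat.card (Subgroup.zpowers g) = m := Nat.card_zpowers g
  have hdisj : H ⊓ Subgroup.zpowers g = ⊥ :=
    Cfsg.Agent.Coprime.disjoint_of_coprime_card (by rw [hcard]; exact hcop.symm)
  have hpow : ∀ n : ℕ, y ^ n * (g ^ n)⁻¹ ∈ H := by
    intro n
    induction n with
    | zero => simp
    | succ n ih =>
        rw [pow_succ' y, pow_succ' g,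
          show y * y ^ n * (g * g ^ n)⁻¹ = h * (g * (y ^ n * (g ^ n)⁻¹) * g⁻¹) by rw [hy]; group]
        exact H.mul_mem hh ((Subgroup.mem_normalizer_iff.1 hg _).1 ih)
  obtain ⟨u, hu1, hu2⟩ := Nat.chineseRemainder hcop 1 0
  set z := y ^ u with hz
  have hgu : g ^ u = g := by
    conv_rhs => rw [← pow_one g]
    exact pow_eq_pow_iff_modEq.2 hu1
  have hzg : z * g⁻¹ ∈ H := by
    have := hpow u
    rwa [hgu] at this
  have hzm : z ^ m = 1 := by
    have h1 : y ^ m ∈ H := by simpa [hm, pow_orderOf_eq_one] using hpow m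
    obtain ⟨v, hv⟩ := Nat.modEq_zero_iff_dvd.1 hu2
    rw [hz, ← pow_mul, Nat.mul_comm, pow_mul, hv, pow_mul]
    rw [show (y ^ m) ^ Nat.card H = 1 from orderOf_dvd_iff_pow_eq_one.1 (H.orderOf_dvd_natCard h1)]
    exact one_pow _
  have hsup : Subgroup.zpowers z ≤ Subgroup.zpowers g ⊔ H := by
    refine Subgroup.zpowers_le.2 ?_
    simpa using mul_mem (Subgroup.mem_sup_right hzg : _ ∈ Subgroup.zpowers g ⊔ H)
      (Subgroup.mem_sup_left (Subgroup.mem_zpowers g))
  have hordz : Nat.card (Subgroup.zpowers z) = Nat.card (Subgroup.zpowers g) := by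
    rw [hcard, Nat.card_zpowers]
    refine Nat.dvd_antisymm (orderOf_dvd_of_pow_eq_one hzm) ?_
    refine orderOf_dvd_of_pow_eq_one ?_
    have hN : ∀ n : ℕ, z ^ n * (g ^ n)⁻¹ ∈ H := by
      intro n
      rw [hz, ← pow_mul]
      have h1 := hpow (u * n)
      rwa [pow_mul g, hgu] at h1
    have h1 := hN (orderOf z)
    rw [pow_orderOf_eq_one, one_mul, inv_mem_iff] at h1
    have h2 : g ^ orderOf z ∈ H ⊓ Subgroup.zpowers g := ⟨h1, pow_mem (Subgroup.mem_zpowers g) _⟩
    rwa [hdisj, Subgroup.mem_bot] at h2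
  obtain ⟨x, hx, hxz⟩ := Cfsg.Agent.Coprime.exists_conj_eq_of_le_sup hgH hsup hordz
    (by rw [hcard]; exact hcop) (Or.inr (Group.isSolvable_of_comm fun a b => mul_comm' a b))
  have hzg' : x⁻¹ * z * x = g := by
    have h1 : x⁻¹ * z * x ∈ Subgroup.zpowers g := by
      rw [← Cfsg.Agent.Coprime.mem_conj_smul_iff, hxz]
      exact Subgroup.mem_zpowers z
    have h2 : x⁻¹ * z * x * g⁻¹ ∈ H ⊓ Subgroup.zpowers g := by
      refine Subgroup.mem_inf.2 ⟨?_, mul_mem h1 (inv_mem (Subgroup.mem_zpowers g))⟩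
      have h3 := H.mul_mem (H.mul_mem (H.inv_mem hx) hzg)
        ((Subgroup.mem_normalizer_iff.1 hg x).1 hx)
      convert h3 using 1
      group
    rw [hdisj, Subgroup.mem_bot, mul_inv_eq_one] at h2
    exact h2
  refine ⟨x⁻¹, H.inv_mem hx, x⁻¹ * y * x * g⁻¹, ?_, ?_, by rw [hy]; group⟩
  · have h3 := H.mul_mem (H.mul_mem (H.inv_mem hx) hh) ((Subgroup.mem_normalizer_iff.1 hg x).1 hx)
    rw [hy]
    convert h3 using 1
    group
  · have hc : Commute (x⁻¹ * y * x) g := by
      rw [← hzg', hz]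
      show (x⁻¹ * y * x) * (x⁻¹ * y ^ u * x) = (x⁻¹ * y ^ u * x) * (x⁻¹ * y * x)
      calc (x⁻¹ * y * x) * (x⁻¹ * y ^ u * x) = x⁻¹ * (y * y ^ u) * x := by group
        _ = x⁻¹ * (y ^ u * y) * x := by rw [(Commute.self_pow y u).eq]
        _ = _ := by group
    calc x⁻¹ * y * x * g⁻¹ * g = x⁻¹ * y * x := inv_mul_cancel_right _ _
      _ = g * (x⁻¹ * y * x) * g⁻¹ := by rw [← hc.eq, mul_inv_cancel_right]
      _ = g * (x⁻¹ * y * x * g⁻¹) := by group

end Cfsg.Agent.S1496
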