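import Cfsg.Statements.S1513
import Cfsg.Agent.Lib.Char.CliffordAbelian
import Cfsg.Agent.Lib.Char.FixedIrr
import Cfsg.Agent.Lib.Char.NormalInduction
import Cfsg.Agent.Lib.Clifford.CyclicQuotient
import Cfsg.Agent.Lib.Coprime.Basic
-- import your own Cfsg.Agent.* helpers here

set_option autoImplicit false
open Cfsg

namespace Cfsg.Agent.S1513

/-- Elements of a group, acted on by conjugation. -/
structure ConjPt (L : Type*) where
  /-- the element -/
  val : L

/-- The conjugation action. -/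
instance conjPtAction {L : Type*} [Group L] : MulAction L (ConjPt L) where
  smul g x := ⟨g * x.val * g⁻¹⟩
  one_smul x := show (⟨1 * x.val * 1⁻¹⟩ : ConjPt L) = x by simp
  mul_smul g h x := show (⟨g * h * x.val * (g * h)⁻¹⟩ : ConjPt L) = ⟨g * (h * x.val * h⁻¹) * g⁻¹⟩ by
    congr 1; group

open Cfsg.Agent in
/-- An element of `W₁` fixes as many irreducible characters of `K` as there are elements in `W₂`. -/
theorem card_fixed {L : Type*} [Group L] [Fintype L] (K W₂ : Subgroup L) [hK : K.Normal]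
    (hW₂c : IsCyclic W₂) (hW₂K : W₂ ≤ K) {x : L} (hcop : (orderOf x).Coprime (Nat.card K))
    (hC : K ⊓ Subgroup.centralizer ({x} : Set L) = W₂) :
    Nat.card {θ : Cfsg.IrrCharacter K // Char.conjFun K θ.1 x = θ.1} = Nat.card W₂ := by
  classical
  haveI : Fintype K := Fintype.ofFinite _
  have h1 := Char.card_fixed_irr_eq_card_fixed_class (MulAut.conjNormal x : MulAut K)
  rw [show Nat.card {θ : Cfsg.IrrCharacter K // Char.conjFun K θ.1 x = θ.1} =
    Nat.card {θ : Cfsg.IrrCharacter K // (fun h => θ.1 ((MulAut.conjNormal x : MulAut K) h)) = θ.1}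
    from rfl, h1]
  set A := Subgroup.zpowers x with hA
  have hAK : A ≤ Subgroup.normalizer (K : Set L) := by
    rw [Subgroup.normalizer_eq_top]; exact le_top
  have hcopA : (Nat.card A).Coprime (Nat.card K) := by rwa [hA, Nat.card_zpowers]
  have hCA : K ⊓ Subgroup.centralizer (A : Set L) = W₂ := by
    rw [hA, Subgroup.zpowers_eq_closure, Subgroup.centralizer_closure, hC]
  have hs : Group.IsSolvable A ∨ Group.IsSolvable K := Or.inl inferInstance
  have hfix : ∀ w ∈ W₂, x * w * x⁻¹ = w := by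
    intro w hw
    rw [← hC, Subgroup.mem_inf, Subgroup.mem_centralizer_singleton_iff] at hw
    rw [← hw.2]; group
  let f : W₂ → {C : ConjClasses K // Char.classPerm (MulAut.conjNormal x : MulAut K) C = C} := fun w =>
    ⟨ConjClasses.mk ⟨w, hW₂K w.2⟩, by
      rw [Char.classPerm_mk]
      exact congrArg ConjClasses.mk (Subtype.ext (hfix w w.2))⟩
  refine (Nat.card_eq_of_bijective f ⟨?_, ?_⟩).symm
  · intro a b h
    obtain ⟨t, ht⟩ := isConj_iff.1 (ConjClasses.mk_eq_mk_iff_isConj.1 (congrArg Subtype.val h))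
    have hfixA : ∀ w ∈ W₂, ∀ g ∈ A, g • (⟨w⟩ : ConjPt L) = ⟨w⟩ := by
      intro w hw g hg
      rw [← hCA, Subgroup.mem_inf, Subgroup.mem_centralizer_iff] at hw
      refine congrArg ConjPt.mk ?_
      show g * w * g⁻¹ = w
      rw [hw.2 g hg]; group
    obtain ⟨c, hc, hcw⟩ := Coprime.exists_centralizer_smul_eq hAK hcopA hs
      (x := (⟨(a : L)⟩ : ConjPt L)) (y := ⟨(b : L)⟩)
      (hfixA a a.2) (hfixA b b.2) t.2 (congrArg ConjPt.mk (congrArg Subtype.val ht :))
    rw [hCA] at hc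
    have hab : (a : L) * c = c * a := by
      haveI := hW₂c
      letI := IsCyclic.commGroup (α := W₂)
      exact congrArg Subtype.val (mul_comm a (⟨c, hc⟩ : W₂))
    have e : c * (a : L) * c⁻¹ = b := congrArg ConjPt.val hcw
    refine Subtype.ext ?_
    rw [← e, ← hab]; group
  · rintro ⟨C, hC'⟩
    induction C using Quotient.inductionOn with
    | _ k =>
      have hk' : ConjClasses.mk ((MulAut.conjNormal x : MulAut K) k) = ConjClasses.mk k := hC'
      obtain ⟨t, ht⟩ := isConj_iff.1 (ConjClasses.mk_eq_mk_iff_isConj.1 hk'.symm)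
      have ht' : (t : L) * k * (t : L)⁻¹ = x * k * x⁻¹ := congrArg Subtype.val ht
      have hxmem : A ≤ K ⊔ Subgroup.centralizer ({(k : L)} : Set L) := by
        rw [hA, Subgroup.zpowers_le, show x = (t : L) * ((t : L)⁻¹ * x) by group]
        refine mul_mem (Subgroup.mem_sup_left t.2) (Subgroup.mem_sup_right ?_)
        rw [Subgroup.mem_centralizer_singleton_iff]
        calc (t : L)⁻¹ * x * k = (t : L)⁻¹ * (x * k * x⁻¹) * x := by group
          _ = (k : L) * ((t : L)⁻¹ * x) := by rw [← ht']; group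
      obtain ⟨u, hu, hufix⟩ := Coprime.exists_fixed_point hAK hcopA hs (⟨(k : L)⟩ : ConjPt L)
        (fun g hg => by
          obtain ⟨s, hs', c, hc, rfl⟩ := Subgroup.mem_sup_of_normal_left.1 (hxmem hg)
          refine ⟨s, hs', ?_⟩
          refine congrArg ConjPt.mk ?_
          show s * (k : L) * s⁻¹ = s * c * k * (s * c)⁻¹
          rw [mul_assoc s c, Subgroup.mem_centralizer_singleton_iff.1 hc]; group)
      have hw : u * (k : L) * u⁻¹ ∈ W₂ := by
        rw [← hC, Subgroup.mem_inf, Subgroup.mem_centralizer_singleton_iff]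
        refine ⟨hK.conj_mem k k.2 u, ?_⟩
        have e : x * (u * (k : L) * u⁻¹) * x⁻¹ = u * (k : L) * u⁻¹ := congrArg ConjPt.val (hufix x (Subgroup.mem_zpowers x))
        calc u * (k : L) * u⁻¹ * x = x * (u * (k : L) * u⁻¹) * x⁻¹ * x := by rw [e]
          _ = _ := by group
      refine ⟨⟨_, hw⟩, Subtype.ext ?_⟩
      exact ConjClasses.mk_eq_mk_iff_isConj.2
        (isConj_iff.2 ⟨⟨u, hu⟩, Subtype.ext rfl⟩ : IsConj k _).symm

/-- Let L be a finite group with K normal with complement W₁ ≠ 1 a cyclic Hall subgroup, and W₂ ≠ 1 a cyclic subgroup of K equal to C_K(x) for every non-identity x ∈ W₁, with W₁W₂ of odd order. For an irreducible character θ of K: if θ is not fixed under conjugation by some element of W₁, then the function induced from θ to L is an irreducible character of L; and the irreducible characters of K fixed by all of W₁ are exactly Nat.card W₂ in number, each inducing to the sum of Nat.card W₁ pairwise distinct irreducible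 characters of L. -/
theorem result {L : Type*} [Group L] [Fintype L] (K W₁ W₂ : Subgroup L) [hK : K.Normal] (hKW₁ : K ⊓ W₁ = ⊥) (hKW₁' : K ⊔ W₁ = ⊤) (hW₁ : W₁ ≠ ⊥) (hW₁c : IsCyclic W₁) (hHall : Nat.Coprime (Nat.card W₁) W₁.index) (hW₂ : W₂ ≠ ⊥) (hW₂c : IsCyclic W₂) (hW₂K : W₂ ≤ K) (hC : ∀ x ∈ W₁, x ≠ 1 → K ⊓ Subgroup.centralizer ({x} : Set L) = W₂) (hodd : Odd (Nat.card ↥(W₁ ⊔ W₂))) : (∀ θ : K → ℂ, Cfsg.IsIrrCharacter K θ → (∃ x ∈ W₁, (fun k : K => θ ⟨x * k * x⁻¹, hK.conj_mem (k : L) k.2 x⟩) ≠ θ) → Cfsg.IsIrrCharacter L (Cfsg.indFun K θ)) ∧ Nat.card {θ : Cfsg.IrrCharacter K // ∀ x ∈ W₁, (fun k : K => (θ : K → ℂ) ⟨x * k * x⁻¹, hK.conj_mem (k : L) k.2 x⟩) = θ} = Nat.card W₂ ∧ (∀ θ : K → ℂ, Cfsg.IsIrrCharacter K θ → (∀ x ∈ W₁, (fun k : K => θ ⟨x * k * x⁻¹, hK.conj_mem (k : L) k.2 x⟩) = θ) → ∃ C : Finset (L → ℂ), C.card = Nat.card W₁ ∧ (∀ μ ∈ C, Cfsg.IsIrrCharacter L μ) ∧ Cfsg.indFun K θ = ∑ μ ∈ C, μ) := by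
  classical
  haveI : Fintype K := Fintype.ofFinite _
  have hc' : K.IsComplement' W₁ := Subgroup.isComplement'_of_disjoint_and_mul_eq_univ
    (disjoint_iff.2 hKW₁) (by rw [← Subgroup.normal_mul, hKW₁']; rfl)
  have hcop : ∀ x ∈ W₁, (orderOf x).Coprime (Nat.card K) := fun x hx =>
    (hc'.index_eq_card ▸ hHall).coprime_dvd_left (Subgroup.orderOf_dvd_natCard _ hx)
  set Fix : L → Set (Cfsg.IrrCharacter K) := fun x => {θ | Char.conjFun K θ.1 x = θ.1} with hFix
  have hcard : ∀ x ∈ W₁, x ≠ 1 → (Fix x).ncard = Nat.card W₂ := fun x hx hx1 => by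
    rw [← Nat.card_coe_set_eq]; exact card_fixed K W₂ hW₂c hW₂K (hcop x hx) (hC x hx hx1)
  obtain ⟨g₀, hg₀⟩ := hW₁c.exists_generator
  have hg₀1 : (g₀ : L) ≠ 1 := fun h => hW₁ ((Subgroup.eq_bot_iff_forall _).2 fun y hy => by
    obtain ⟨n, hn⟩ := Subgroup.mem_zpowers_iff.1 (hg₀ ⟨y, hy⟩)
    have := congrArg Subtype.val hn
    simp only [Subgroup.coe_zpow, h, one_zpow] at this
    exact this.symm)
  have hgen : ∀ θ ∈ Fix g₀, ∀ x ∈ W₁, θ ∈ Fix x := by
    intro θ hθ x hx
    obtain ⟨n, hn⟩ := Subgroup.mem_zpowers_iff.1 (hg₀ ⟨x, hx⟩)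
    have hn' : (g₀ : L) ^ n = x := congrArg Subtype.val hn
    have : (g₀ : L) ∈ Char.inertia K θ.1 := hθ
    exact hn' ▸ zpow_mem this n
  have hsame : ∀ x ∈ W₁, x ≠ 1 → Fix x = Fix g₀ := fun x hx hx1 =>
    (Set.eq_of_subset_of_ncard_le (fun θ hθ => hgen θ hθ x hx)
      (by rw [hcard x hx hx1, hcard _ g₀.2 hg₀1]) (Set.toFinite _)).symm
  refine ⟨?_, ?_, ?_⟩
  · rintro θ hθ ⟨x, hx, hxθ⟩
    refine Char.isIrrCharacter_iff.2 ⟨Char.isCharacter_indFun K (Char.IsIrrCharacter.isCharacter hθ), ?_⟩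
    have hst : ∀ g : L, Char.conjFun K θ g = θ ↔ g ∈ K := by
      refine fun g => ⟨fun hg => ?_, fun hg => Char.irr_le_inertia K ⟨θ, hθ⟩ hg⟩
      obtain ⟨k, hk, w, hw, rfl⟩ := Subgroup.mem_sup_of_normal_left.1 (hKW₁' ▸ Subgroup.mem_top g : g ∈ K ⊔ W₁)
      by_cases hw1 : w = 1
      · rw [hw1, mul_one]; exact hk
      exfalso
      have hwI : w ∈ Char.inertia K θ := by
        have := mul_mem (inv_mem (Char.irr_le_inertia K ⟨θ, hθ⟩ hk)) (hg : k * w ∈ Char.inertia K θ)
        simpa using this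
      have h0 : (⟨θ, hθ⟩ : Cfsg.IrrCharacter K) ∈ Fix g₀ := hsame w hw hw1 ▸ hwI
      exact hxθ (hgen _ h0 x hx)
    have h := Char.card_mul_classInner_indFun_normal K hθ hθ
    rw [Nat.card_congr (Equiv.subtypeEquivRight hst)] at h
    have hne : (Nat.card K : ℂ) ≠ 0 := Nat.cast_ne_zero.2 Nat.card_pos.ne'
    exact mul_left_cancel₀ hne (h.trans (mul_one _).symm)
  · rw [← hcard g₀ g₀.2 hg₀1, ← Nat.card_coe_set_eq]
    exact Nat.card_congr (Equiv.subtypeEquivRight fun θ =>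
      ⟨fun h => h g₀ g₀.2, fun h x hx => hgen θ h x hx⟩)
  · intro θ hθ hinv
    have hinv' : ∀ g : L, Char.conjFun K θ g = θ := by
      intro g
      obtain ⟨k, hk, w, hw, rfl⟩ := Subgroup.mem_sup_of_normal_left.1 (hKW₁' ▸ Subgroup.mem_top g : g ∈ K ⊔ W₁)
      exact mul_mem (Char.irr_le_inertia K ⟨θ, hθ⟩ hk) (hinv w hw : w ∈ Char.inertia K θ)
    have hsurj : Function.Surjective ((QuotientGroup.mk' K).comp W₁.subtype) := by
      intro q
      obtain ⟨g, rfl⟩ := QuotientGroup.mk'_surjective K q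
      obtain ⟨k, hk, w, hw, rfl⟩ := Subgroup.mem_sup_of_normal_left.1 (hKW₁' ▸ Subgroup.mem_top g : g ∈ K ⊔ W₁)
      refine ⟨⟨w, hw⟩, ?_⟩
      show QuotientGroup.mk' K w = QuotientGroup.mk' K (k * w)
      rw [map_mul, show QuotientGroup.mk' K k = 1 from (QuotientGroup.eq_one_iff k).2 hk, one_mul]
    haveI := hW₁c
    haveI hq : IsCyclic (L ⧸ K) := isCyclic_of_surjective _ hsurj
    have hab : ∀ a b : L ⧸ K, a * b = b * a := fun a b => by
      letI := IsCyclic.commGroup (α := L ⧸ K); exact mul_comm a b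
    obtain ⟨e, C, -, hsum, hcardC, -⟩ := Char.exists_common_ramification K ⟨θ, hθ⟩ hinv' hab
    obtain ⟨m, ρ, hρ, hρχ⟩ := hθ
    haveI := hρ
    obtain ⟨χ, hχ, hχK⟩ := Clifford.exists_irrCharacter_extension ρ
      (Clifford.exists_extension_of_cyclic ρ fun g n => by
        rw [hρχ]; exact congrFun (hinv' g) n)
    have hθ' : IsIrrCharacter K θ := ⟨m, ρ, hρ, hρχ⟩
    have h1 : classInner (indFun K θ) χ = 1 := by
      rw [Char.classInner_indFun K θ (Char.IsCharacter.isClassFunction (Char.IsIrrCharacter.isCharacter hχ)),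
        show (fun n : K => χ n) = θ from funext fun n => (hχK n).trans (congrFun hρχ n)]
      exact Char.classInner_irr_self hθ'
    rw [hsum, Char.classInner_smul_left, Char.classInner_sum_left,
      Finset.sum_congr rfl fun η _ => Char.classInner_irr η ⟨χ, hχ⟩, Finset.sum_ite_eq'] at h1
    have he : e = 1 := by
      by_cases hmem : (⟨χ, hχ⟩ : Cfsg.IrrCharacter L) ∈ C
      · rw [if_pos hmem, mul_one] at h1; exact_mod_cast h1
      · rw [if_neg hmem, mul_zero] at h1; exact absurd h1 zero_ne_one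
    subst he
    refine ⟨C.image Subtype.val, ?_, ?_, ?_⟩
    · rw [Finset.card_image_of_injective _ Subtype.val_injective]
      rw [one_pow, one_mul, ← hc'.card_mul, mul_comm (Nat.card K)] at hcardC
      exact Nat.eq_of_mul_eq_mul_right Nat.card_pos hcardC
    · intro μ hμ
      obtain ⟨μ', -, rfl⟩ := Finset.mem_image.1 hμ
      exact μ'.2
    · rw [Finset.sum_image fun a _ b _ h => Subtype.ext h, hsum, Nat.cast_one, one_smul]

end Cfsg.Agent.S1513
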