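import Cfsg.Statements.S1486
import Cfsg.Agent.Lib.Char.Clifford
-- import your own Cfsg.Agent.* helpers here

set_option autoImplicit false
open Cfsg

namespace Cfsg.Agent.S1486

/-- Let H be a normal subgroup of the finite group G and θ, φ irreducible characters of H. If φ is a G-conjugate of θ then the functions induced from θ and φ coincide; if φ is not a G-conjugate of θ then the induced functions are orthogonal. -/
theorem result {G : Type*} [Group G] [Fintype G] (H : Subgroup G) [hN : H.Normal] (θ φ : H → ℂ) (hθ : Cfsg.IsIrrCharacter H θ) (hφ : Cfsg.IsIrrCharacter H φ) : ((∃ g : G, φ = fun h : H => θ ⟨g * h * g⁻¹, hN.conj_mem h h.2 g⟩) → Cfsg.indFun H φ = Cfsg.indFun H θ) ∧ ((¬ ∃ g : G, φ = fun h : H => θ ⟨g * h * g⁻¹, hN.conj_mem h h.2 g⟩) → Cfsg.classInner (Cfsg.indFun H φ) (Cfsg.indFun H θ) = 0) := by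
  haveI := hN
  haveI : Fintype H := Fintype.ofFinite H
  have hc : ∀ g, (fun h : H => θ ⟨g * h * g⁻¹, hN.conj_mem h h.2 g⟩) = Char.conjFun H θ g :=
    fun g => funext fun h => congrArg θ (Subtype.ext (by simp))
  simp only [hc]
  refine ⟨?_, fun hne => ?_⟩
  · rintro ⟨g₀, rfl⟩
    refine funext fun g => ?_
    by_cases hg : g ∈ H
    · have e : ∀ η : H → ℂ, indFun H η g = ((Nat.card H : ℂ)⁻¹ • ∑ x : G, Char.conjFun H η x) ⟨g, hg⟩ :=
        fun η => congrFun (Char.resFun_indFun H η) ⟨g, hg⟩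
      rw [e, e]
      refine congrArg (fun F : H → ℂ => ((Nat.card H : ℂ)⁻¹ • F) ⟨g, hg⟩) ?_
      simp only [← Char.conjFun_mul]
      exact Fintype.sum_equiv (Equiv.mulLeft g₀) (fun x => Char.conjFun H θ (g₀ * x)) (fun x => Char.conjFun H θ x) fun x => rfl
    · rw [Char.indFun_of_notMem_normal H _ hg, Char.indFun_of_notMem_normal H _ hg]
  · rw [Char.classInner_indFun H φ (Char.isClassFunction_indFun H θ), ← Char.conj_classInner]
    change (starRingEnd ℂ) (classInner (Char.resFun H (indFun H θ)) φ) = 0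
    by_contra h
    obtain ⟨g, hg⟩ := Char.classInner_resFun_eq_zero_iff_exists H ⟨θ, hθ⟩ ⟨φ, hφ⟩
      (fun h0 => h (by rw [show classInner (Char.resFun H (indFun H θ)) φ = 0 from h0, map_zero]))
    exact hne ⟨g, congrArg Subtype.val hg⟩

end Cfsg.Agent.S1486
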