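import Cfsg.Statements.S1522
import Cfsg.Agent.Lib.OddOrder.CoherenceCentral
-- import your own Cfsg.Agent.* helpers here

set_option autoImplicit false
open Cfsg

namespace Cfsg.Agent.S1522

/-- Let K be a nilpotent normal subgroup of the finite group L of odd order with [K,K] < K < L and L/[K,K] a Frobenius group with kernel K/[K,K] (elements of K outside [K,K] are centralised modulo [K,K] only from inside K); let (S, τ, R) be a coherence system from L to G with S the functions induced from non-principal irreducible characters of K. Let Z be a nontrivial normal subgroup of L contained in the centre of K, and suppose every member of S outside S(Z) is an irreducible character of L. Then S minus S(Z) is the set of irreducible characters χ of L with χ z ≠ χ 1 for some z ∈ Z, and it is coherent. -/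
theorem result {L : Type*} [Group L] [Fintype L] {G : Type*} [Group G] [Fintype G] (K : Subgroup L) [hK : K.Normal] (hsolv : Group.IsSolvable K) (τ : (L → ℂ) → (G → ℂ)) (R : (L → ℂ) → Finset (G → ℂ)) (hS : Cfsg.IsCoherenceSystem (Cfsg.inducedIrrAbove K ⊥) τ R) (hodd : Odd (Nat.card L)) (hnil : Group.IsNilpotent K) (hH₁K : ⁅K, K⁆ < K) (hKL : K < ⊤) (hfrob : ∀ k ∈ K, k ∉ ⁅K, K⁆ → ∀ x : L, x * k * x⁻¹ * k⁻¹ ∈ ⁅K, K⁆ → x ∈ K) (Z : Subgroup L) [Z.Normal] (hZ1 : Z ≠ ⊥) (hZK : Z ≤ K) (hZc : ∀ z ∈ Z, ∀ k ∈ K, z * k = k * z) (hirr : ∀ χ ∈ Cfsg.inducedIrrAbove K ⊥ \ Cfsg.inducedIrrAbove K Z, Cfsg.IsIrrCharacter L χ) : Cfsg.inducedIrrAbove K ⊥ \ Cfsg.inducedIrrAbove K Z = {χ | Cfsg.IsIrrCharacter L χ ∧ ∃ z ∈ Z, χ z ≠ χ 1} ∧ Cfsg.IsCoherent (Cfsg.inducedIrrAbove K ⊥ \ Cfsg.inducedIrrAbove K Z) {1}ᶜ τ := by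
  classical
  haveI : Fintype K := Fintype.ofFinite _
  have hU := OddOrder.inducedNonTriv_eq_diff K Z
  have hirr' : ∀ φ ∈ OddOrder.inducedNonTriv K Z, IsIrrCharacter L φ := fun φ hφ => hirr φ (hU ▸ hφ)
  refine ⟨by rw [← hU, OddOrder.inducedNonTriv_eq_irr K Z hZK hirr'], ?_⟩
  rw [← hU]
  -- a non-principal character of `K` nontrivial on `Z`
  obtain ⟨θ, hθ⟩ : ∃ θ : IrrCharacter K, ∃ z : ↥K, (z : L) ∈ Z ∧ θ.1 z ≠ θ.1 1 := by
    by_contra hcon
    push Not at hcon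
    have h1 := Char.sum_trivOn_degree_sq (Z.subgroupOf K)
    have h2 := Char.sum_trivOn_degree_sq (⊥ : Subgroup K)
    rw [Finset.filter_true_of_mem (p := fun χ : IrrCharacter K => Char.TrivOn (Z.subgroupOf K) χ.1)
      fun χ _ k hk => hcon χ k hk] at h1
    rw [Finset.filter_true_of_mem (p := fun χ : IrrCharacter K => Char.TrivOn (⊥ : Subgroup K) χ.1)
      fun χ _ k hk => by rw [Subgroup.mem_bot.1 hk], h1, Subgroup.index_bot] at h2
    have h3 := (Z.subgroupOf K).card_mul_index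
    rw [h2] at h3
    have h4 : Nat.card (Z.subgroupOf K) = 1 := Nat.eq_of_mul_eq_mul_right Nat.card_pos (h3.trans (one_mul _).symm)
    rw [Nat.card_congr (Subgroup.subgroupOfEquivOfLe hZK).toEquiv] at h4
    exact hZ1 (Subgroup.card_eq_one.1 h4)
  obtain ⟨z, hz, hne⟩ := hθ
  have hmem : indFun K θ.1 ∈ OddOrder.inducedNonTriv K Z := ⟨θ.1, θ.2, ⟨z, hz, hne⟩, rfl⟩
  have hUS : OddOrder.inducedNonTriv K Z ⊆ inducedIrrAbove K ⊥ := fun φ hφ => (hU ▸ hφ).1
  have hUc : ∀ φ ∈ OddOrder.inducedNonTriv K Z, conjFun φ ∈ OddOrder.inducedNonTriv K Z := by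
    intro φ hφ
    rw [hU] at hφ ⊢
    exact ⟨OddOrder.conj_mem_inducedIrrAbove K hφ.1, fun h => hφ.2
      (OddOrder.conjFun_conjFun φ ▸ OddOrder.conj_mem_inducedIrrAbove K h)⟩
  by_cases hpp : ∃ p m : ℕ, p.Prime ∧ (⊥ : Subgroup L).relIndex K = p ^ m
  swap
  · haveI : Group.IsNilpotent K := hnil
    exact OddOrder.isCoherent_subset hS hUS hUS hmem (hUc _ hmem)
      (OddOrder.isCoherent_frobenius_section K hsolv hS hodd ⊥ bot_le inferInstance ⁅K, K⁆ (sup_bot_eq _).symm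
        hH₁K hfrob (Or.inr (Or.inr (Or.inl hpp))))
  obtain ⟨p, m, hp, hpm⟩ := hpp
  haveI := Fact.mk hp
  rw [Subgroup.relIndex_bot_left] at hpm
  have hKp : IsPGroup p K := IsPGroup.of_card hpm
  have hpK : p ∣ Nat.card K := by
    obtain ⟨a, -, ha⟩ := (Nat.dvd_prime_pow hp).1 (hpm ▸ (dvd_refl (Nat.card K)))
    rcases m with _ | m
    · exfalso
      rw [pow_zero, Subgroup.card_eq_one] at hpm
      exact hZ1 (le_bot_iff.1 (hpm ▸ hZK))
    · exact hpm ▸ dvd_pow_self p (Nat.succ_ne_zero m)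
  have hp2 : p ≠ 2 := by
    rintro rfl
    exact (Nat.not_even_iff_odd.2 (hodd.of_dvd_nat (Subgroup.card_subgroup_dvd_card K))) (even_iff_two_dvd.2 hpK)
  have hcop : ¬ p ∣ K.index := by
    intro hd
    have h1 := OddOrder.index_dvd_relIndex_sub_one K ⁅K, K⁆ hH₁K.le le_rfl hfrob K le_rfl
    obtain ⟨a, -, ha⟩ := (Nat.dvd_prime_pow hp).1 (hpm ▸ (Subgroup.index_dvd_card (⁅K, K⁆.subgroupOf K)))
    have ha' : ⁅K, K⁆.relIndex K = p ^ a := ha
    have hne1 : ⁅K, K⁆.relIndex K ≠ 1 := fun h => not_le_of_gt hH₁K (Subgroup.relIndex_eq_one.1 h)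
    have h2 : p ∣ ⁅K, K⁆.relIndex K := by
      rcases a with _ | a
      · exact absurd ha' hne1
      · exact ha' ▸ dvd_pow_self p (Nat.succ_ne_zero a)
    have h3 := Nat.dvd_sub h2 (hd.trans h1)
    have h4 : 1 ≤ ⁅K, K⁆.relIndex K := Nat.pos_of_ne_zero (Subgroup.index_ne_zero_of_finite (H := ⁅K, K⁆.subgroupOf K))
    rw [Nat.sub_sub_self h4] at h3
    exact hp.one_lt.ne' (Nat.dvd_one.1 h3)
  exact OddOrder.isCoherent_central_pgroup K hp2 hKp hcop Z hZK hZc hirr'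
    (OddOrder.system_subset hS hUS ⟨_, hmem⟩ hUc)

end Cfsg.Agent.S1522
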