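import Cfsg.Statements.S1531
import Cfsg.Agent.Lib.Char.Isometry

set_option autoImplicit false
open Cfsg

namespace Cfsg.Agent.S1531

/-- Let N be a subgroup of the finite group G, S a set of irreducible characters of N, and α a linear isometry on the integer combinations of S vanishing at 1 with values virtual characters of G vanishing at 1. Let X, Y ⊆ S be disjoint, each with at least two members, and σ, τ linear isometries on ℤ[X], ℤ[Y] into virtual characters agreeing with α on the members vanishing at 1. Then ⟨σ χ, τ η⟩ = 0 for χ ∈ X, η ∈ Y; and if for some χ₀ ∈ X, η₀ ∈ Y with degrees c = χ₀ 1, e = η₀ 1 one has α (c • η₀ − e • χ₀) = c • τ η₀ − e • σ χ₀, then (X ∪ Y, N minus 1, α) is coherent. -/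
theorem result {G : Type*} [Group G] [Fintype G] (N : Subgroup G) [Fintype N] (S X Y : Set (N → ℂ)) (hirr : ∀ ξ ∈ S, Cfsg.IsIrrCharacter N ξ) (hXS : X ⊆ S) (hYS : Y ⊆ S) (hXY : Disjoint X Y) (hX2 : ∃ a ∈ X, ∃ b ∈ X, a ≠ b) (hY2 : ∃ a ∈ Y, ∃ b ∈ Y, a ≠ b) (α : (N → ℂ) → (G → ℂ)) (hα : Cfsg.IsLinearIsometryOn (Cfsg.zspanOn S {1}ᶜ) α) (hα1 : ∀ θ ∈ Cfsg.zspanOn S {1}ᶜ, α θ 1 = 0) (σ τ : (N → ℂ) → (G → ℂ)) (hσ : Cfsg.IsLinearIsometryOn (Cfsg.zspan X) σ) (hσα : ∀ θ ∈ Cfsg.zspanOn X {1}ᶜ, σ θ = α θ) (hτ : Cfsg.IsLinearIsometryOn (Cfsg.zspan Y) τ) (hτα : ∀ θ ∈ Cfsg.zspanOn Y {1}ᶜ, τ θ = α θ) : (∀ χ ∈ X, ∀ η ∈ Y, Cfsg.classInner (σ χ) (τ η) = 0) ∧ ((∃ χ₀ ∈ X, ∃ η₀ ∈ Y, α (χ₀ 1 • η₀ - η₀ 1 • χ₀) = χ₀ 1 • τ η₀ - η₀ 1 • σ χ₀) → Cfsg.IsCoherent (X ∪ Y) {1}ᶜ α) := by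
  classical
  have hmX : ∀ a ∈ X, a ∈ zspan X := fun a ha => Submodule.subset_span ha
  have hmY : ∀ a ∈ Y, a ∈ zspan Y := fun a ha => Submodule.subset_span ha
  have hiX : ∀ a ∈ X, IsIrrCharacter N a := fun a ha => hirr a (hXS ha)
  have hiY : ∀ a ∈ Y, IsIrrCharacter N a := fun a ha => hirr a (hYS ha)
  have hzX : ∀ θ ∈ zspanOn X {1}ᶜ, θ ∈ zspanOn S {1}ᶜ := fun θ h => ⟨Submodule.span_mono hXS h.1, h.2⟩
  have hzY : ∀ θ ∈ zspanOn Y {1}ᶜ, θ ∈ zspanOn S {1}ᶜ := fun θ h => ⟨Submodule.span_mono hYS h.1, h.2⟩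
  have h0X : ∀ θ ∈ zspan X, θ 1 = 0 → σ θ 1 = 0 := fun θ h h1 => by
    have hθ := Cfsg.Agent.Char.mem_zspanOn_compl_one.2 ⟨h, h1⟩
    rw [hσα θ hθ]; exact hα1 θ (hzX θ hθ)
  have h0Y : ∀ θ ∈ zspan Y, θ 1 = 0 → τ θ 1 = 0 := fun θ h h1 => by
    have hθ := Cfsg.Agent.Char.mem_zspanOn_compl_one.2 ⟨h, h1⟩
    rw [hτα θ hθ]; exact hα1 θ (hzY θ hθ)
  have horth : ∀ a ∈ X, ∀ b ∈ Y, classInner a b = 0 := fun a ha b hb =>
    Cfsg.Agent.Char.classInner_irr_of_ne (hiX a ha) (hiY b hb)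
      fun e => Set.disjoint_left.1 hXY ha (e ▸ hb)
  choose! dX hdX0 hdX using fun a (ha : a ∈ X) => Cfsg.Agent.Char.IsIrrCharacter.exists_degree (hiX a ha)
  choose! dY hdY0 hdY using fun a (ha : a ∈ Y) => Cfsg.Agent.Char.IsIrrCharacter.exists_degree (hiY a ha)
  have part1 : ∀ χ ∈ X, ∀ η ∈ Y, classInner (σ χ) (τ η) = 0 := by
    intro χ hχ η hη
    obtain ⟨εX, hεX, hX⟩ := Cfsg.Agent.Char.exists_common_sign hiX hσ h0X
    obtain ⟨εY, hεY, hY⟩ := Cfsg.Agent.Char.exists_common_sign hiY hτ h0Y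
    by_contra hne
    obtain ⟨χ', hχ', hχne⟩ : ∃ χ' ∈ X, χ' ≠ χ := by
      obtain ⟨a, ha, b, hb, hab⟩ := hX2
      by_cases h : a = χ
      · exact ⟨b, hb, fun e => hab (h.trans e.symm)⟩
      · exact ⟨a, ha, h⟩
    obtain ⟨η', hη', hηne⟩ : ∃ η' ∈ Y, η' ≠ η := by
      obtain ⟨a, ha, b, hb, hab⟩ := hY2
      by_cases h : a = η
      · exact ⟨b, hb, fun e => hab (h.trans e.symm)⟩
      · exact ⟨a, ha, h⟩
    have hεX2 : εX * εX = 1 := by rcases hεX with rfl | rfl <;> norm_num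
    have hεY2 : εY * εY = 1 := by rcases hεY with rfl | rfl <;> norm_num
    have hεYc : (starRingEnd ℂ) εY = εY := by rcases hεY with rfl | rfl <;> simp
    have hP : ∀ a ∈ X, ∀ b ∈ Y, classInner (σ a) (τ b) =
        εX * εY * if εX • σ a = εY • τ b then 1 else 0 := by
      intro a ha b hb
      have hσa : σ a = εX • (εX • σ a) := by rw [smul_smul, hεX2, one_smul]
      have hτb : τ b = εY • (εY • τ b) := by rw [smul_smul, hεY2, one_smul]
      conv_lhs => rw [hσa, hτb]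
      rw [Cfsg.Agent.Char.classInner_smul_left, Cfsg.Agent.Char.classInner_smul_right, hεYc]
      split_ifs with h
      · rw [h, Cfsg.Agent.Char.classInner_irr_self (hY b hb)]; ring
      · rw [Cfsg.Agent.Char.classInner_irr_of_ne (hX a ha) (hY b hb) h]; ring
    have hp : εX • σ χ = εY • τ η := by
      by_contra h
      exact hne (by rw [hP χ hχ η hη, if_neg h, mul_zero])
    have hp1 : εX • σ χ ≠ εY • τ η' := fun h => hηne (Cfsg.Agent.Char.image_injective hiY hτ hη' hη (by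
      have := congrArg (fun f => εY • f) (h.symm.trans hp)
      simpa [smul_smul, hεY2] using this))
    have hp2 : εX • σ χ' ≠ εY • τ η := fun h => hχne (Cfsg.Agent.Char.image_injective hiX hσ hχ' hχ (by
      have := congrArg (fun f => εX • f) (h.trans hp.symm)
      simpa [smul_smul, hεX2] using this))
    set x : N → ℂ := (dX χ' : ℤ) • χ - (dX χ : ℤ) • χ' with hx
    set y : N → ℂ := (dY η' : ℤ) • η - (dY η : ℤ) • η' with hy
    have hxX : x ∈ zspanOn X {1}ᶜ := Cfsg.Agent.Char.mem_zspanOn_compl_one.2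
      ⟨Submodule.sub_mem _ (Submodule.smul_mem _ _ (hmX χ hχ)) (Submodule.smul_mem _ _ (hmX χ' hχ')),
        by simp [hx, hdX χ hχ, hdX χ' hχ', mul_comm]⟩
    have hyY : y ∈ zspanOn Y {1}ᶜ := Cfsg.Agent.Char.mem_zspanOn_compl_one.2
      ⟨Submodule.sub_mem _ (Submodule.smul_mem _ _ (hmY η hη)) (Submodule.smul_mem _ _ (hmY η' hη')),
        by simp [hy, hdY η hη, hdY η' hη', mul_comm]⟩
    have hzero : classInner (σ x) (τ y) = 0 := by
      rw [hσα x hxX, hτα y hyY, hα.2.2.1 x (hzX x hxX) y (hzY y hyY)]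
      exact Cfsg.Agent.Char.classInner_span_eq_zero horth hxX.1 hyY.1
    rw [hx, hy, Cfsg.Agent.Char.iso_map_sub (E := Submodule.span ℤ X) hσ
      (Submodule.smul_mem _ _ (hmX χ hχ)) (Submodule.smul_mem _ _ (hmX χ' hχ')),
      Cfsg.Agent.Char.iso_map_sub (E := Submodule.span ℤ Y) hτ
      (Submodule.smul_mem _ _ (hmY η hη)) (Submodule.smul_mem _ _ (hmY η' hη')),
      hσ.2.1 χ (hmX χ hχ), hσ.2.1 χ' (hmX χ' hχ'), hτ.2.1 η (hmY η hη), hτ.2.1 η' (hmY η' hη')] at hzero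
    simp only [Cfsg.Agent.Char.classInner_sub_left, Cfsg.Agent.Char.classInner_sub_right,
      Cfsg.Agent.Char.classInner_zsmul_left, Cfsg.Agent.Char.classInner_zsmul_right, Int.cast_natCast,
      hP χ hχ η hη, hP χ hχ η' hη', hP χ' hχ' η hη, hP χ' hχ' η' hη', if_pos hp, if_neg hp1, if_neg hp2]
      at hzero
    have hεne : εX * εY ≠ 0 := by
      rcases hεX with rfl | rfl <;> rcases hεY with rfl | rfl <;> norm_num
    have h1 : 0 < dX χ' * dY η' := Nat.mul_pos (hdX0 χ' hχ') (hdY0 η' hη')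
    split_ifs at hzero
    · have hz : εX * εY * ((dX χ' * dY η' + dX χ * dY η : ℕ) : ℂ) = 0 := by
        push_cast; linear_combination hzero
      have := (mul_eq_zero.1 hz).resolve_left hεne
      rw [Nat.cast_eq_zero] at this
      omega
    · have hz : εX * εY * ((dX χ' * dY η' : ℕ) : ℂ) = 0 := by
        push_cast; linear_combination hzero
      have := (mul_eq_zero.1 hz).resolve_left hεne
      rw [Nat.cast_eq_zero] at this
      omega
  refine ⟨part1, ?_⟩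
  rintro ⟨χ₀, hχ₀, η₀, hη₀, heq⟩
  set u : ℤ := (dX χ₀ : ℤ) with hu
  set w : ℤ := (dY η₀ : ℤ) with hw
  have hχ1 : χ₀ 1 = (u : ℂ) := by rw [hu, Int.cast_natCast]; exact hdX χ₀ hχ₀
  have hη1 : η₀ 1 = (w : ℂ) := by rw [hw, Int.cast_natCast]; exact hdY η₀ hη₀
  rw [hχ1, hη1, Int.cast_smul_eq_zsmul, Int.cast_smul_eq_zsmul, Int.cast_smul_eq_zsmul,
    Int.cast_smul_eq_zsmul] at heq
  obtain ⟨τ₁, hτ₁, hval⟩ := Cfsg.Agent.Char.exists_glue horth hσ hτ part1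
  refine ⟨?_, τ₁, hτ₁, ?_⟩
  · obtain ⟨a, ha, b, hb, hab⟩ := hX2
    refine ⟨(dX b : ℤ) • a - (dX a : ℤ) • b, Cfsg.Agent.Char.mem_zspanOn_compl_one.2
      ⟨Submodule.sub_mem _ (Submodule.smul_mem _ _ (Submodule.subset_span (Or.inl ha)))
        (Submodule.smul_mem _ _ (Submodule.subset_span (Or.inl hb))),
        by simp [hdX a ha, hdX b hb, mul_comm]⟩, fun h => ?_⟩
    have := congrArg (fun θ => classInner θ a) h
    simp only [Cfsg.Agent.Char.classInner_sub_left, Cfsg.Agent.Char.classInner_zsmul_left,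
      Cfsg.Agent.Char.classInner_irr_self (hiX a ha),
      Cfsg.Agent.Char.classInner_irr_of_ne (hiX b hb) (hiX a ha) hab.symm] at this
    have h0 : (dX b : ℂ) = 0 := by simpa [classInner] using this
    exact (hdX0 b hb).ne' (by exact_mod_cast h0)
  intro θ hθ
  have hθ' : θ ∈ Submodule.span ℤ (X ∪ Y) := hθ.1
  rw [Submodule.span_union, Submodule.mem_sup] at hθ'
  obtain ⟨x, hx, y, hy, rfl⟩ := hθ'
  obtain ⟨m, hm⟩ : ∃ m : ℤ, x 1 = m := by
    clear hθ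
    induction hx using Submodule.span_induction with
    | mem a ha => exact ⟨dX a, by simpa using hdX a ha⟩
    | zero => exact ⟨0, by simp⟩
    | add a b _ _ iha ihb =>
      obtain ⟨i, hi⟩ := iha
      obtain ⟨j, hj⟩ := ihb
      exact ⟨i + j, by simp [hi, hj]⟩
    | smul n a _ ih =>
      obtain ⟨i, hi⟩ := ih
      exact ⟨n * i, by simp [hi]⟩
  have hy1 : y 1 = -(m : ℂ) := by
    have := hθ.2 1 (by simp)
    rw [Pi.add_apply, hm] at this
    linear_combination this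
  set x' : N → ℂ := u • x - m • χ₀ with hx'
  set y' : N → ℂ := w • y + m • η₀ with hy'
  set c : N → ℂ := u • η₀ - w • χ₀ with hc
  have hx'X : x' ∈ zspanOn X {1}ᶜ := Cfsg.Agent.Char.mem_zspanOn_compl_one.2
    ⟨Submodule.sub_mem _ (Submodule.smul_mem _ _ hx) (Submodule.smul_mem _ _ (hmX χ₀ hχ₀)),
      by simp [hx', hm, hχ1, mul_comm]⟩
  have hy'Y : y' ∈ zspanOn Y {1}ᶜ := Cfsg.Agent.Char.mem_zspanOn_compl_one.2
    ⟨Submodule.add_mem _ (Submodule.smul_mem _ _ hy) (Submodule.smul_mem _ _ (hmY η₀ hη₀)),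
      by simp [hy', hy1, hη1, mul_comm]⟩
  have hcS : c ∈ zspanOn S {1}ᶜ := Cfsg.Agent.Char.mem_zspanOn_compl_one.2
    ⟨Submodule.sub_mem _ (Submodule.smul_mem _ _ (Submodule.subset_span (hYS hη₀)))
      (Submodule.smul_mem _ _ (Submodule.subset_span (hXS hχ₀))), by simp [hc, hη1, hχ1, mul_comm]⟩
  let E := Cfsg.Agent.Char.zspanOnSub S ({1}ᶜ : Set N)
  have hxS : x' ∈ E := hzX x' hx'X
  have hyS : y' ∈ E := hzY y' hy'Y
  have hcE : c ∈ E := hcS
  have hxyS : x + y ∈ zspanOn S {1}ᶜ := ⟨Submodule.span_mono (Set.union_subset hXS hYS) hθ.1, hθ.2⟩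
  have hid : (u * w) • (x + y) = w • x' + u • y' + (-m) • c := by
    funext g
    simp only [hx', hy', hc, Pi.add_apply, Pi.sub_apply, Pi.mul_apply, Pi.neg_apply, Pi.intCast_apply, Pi.smul_apply, zsmul_eq_mul, Int.cast_mul, Int.cast_neg]
    push_cast
    ring
  have key : (u * w) • α (x + y) = (u * w) • (σ x + τ y) := by
    rw [← hα.2.1 (x + y) hxyS, hid,
      hα.1 _ (E.add_mem (E.smul_mem w hxS) (E.smul_mem u hyS)) _ (E.smul_mem (-m) hcE),
      hα.1 _ (E.smul_mem w hxS) _ (E.smul_mem u hyS), hα.2.1 x' hxS, hα.2.1 y' hyS, hα.2.1 c hcS,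
      ← hσα x' hx'X, ← hτα y' hy'Y, hc, heq, hx', hy',
      Cfsg.Agent.Char.iso_map_sub (E := Submodule.span ℤ X) hσ
        (Submodule.smul_mem _ _ hx) (Submodule.smul_mem _ _ (hmX χ₀ hχ₀)),
      hσ.2.1 x hx, hσ.2.1 χ₀ (hmX χ₀ hχ₀),
      hτ.1 _ (Submodule.smul_mem _ _ hy) _ (Submodule.smul_mem _ _ (hmY η₀ hη₀)),
      hτ.2.1 y hy, hτ.2.1 η₀ (hmY η₀ hη₀)]
    funext g
    simp only [Pi.add_apply, Pi.sub_apply, Pi.mul_apply, Pi.neg_apply, Pi.intCast_apply, Pi.smul_apply, zsmul_eq_mul, Int.cast_mul, Int.cast_neg]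
    push_cast
    ring
  have hne : (u * w : ℤ) ≠ 0 := by
    have := hdX0 χ₀ hχ₀
    have := hdY0 η₀ hη₀
    positivity
  rw [hval x hx y hy]
  funext g
  have hg := congrFun key g
  simp only [Pi.smul_apply, Pi.add_apply, zsmul_eq_mul] at hg
  exact (mul_left_cancel₀ (Int.cast_ne_zero.2 hne) hg).symm

end Cfsg.Agent.S1531
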