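import Cfsg.Statements.S1518
import Cfsg.Agent.Lib.OddOrder.DadeVirtual
import Cfsg.Agent.Lib.Char.Linear
-- import your own Cfsg.Agent.* helpers here

set_option autoImplicit false
open Cfsg

namespace Cfsg.Agent.S1518

open Cfsg.Agent in
theorem exists_sub_of_norm_two {G : Type*} [Group G] [Fintype G] {θ : G → ℂ}
    (hg : IsGeneralizedCharacter G θ) (h2 : classInner θ θ = 2) (h1 : θ 1 = 0) :
    ∃ x y : IrrCharacter G, x ≠ y ∧ θ = x.1 - y.1 := by
  classical
  obtain ⟨m, hm, -⟩ := Char.IsGeneralizedCharacter.exists_decomp hg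
  have hsq : ∑ ψ, m ψ ^ 2 = 2 := by
    have h := Char.IsGeneralizedCharacter.classInner_self_eq_sum hm
    rw [h2] at h
    exact_mod_cast h.symm
  have hle : ∀ ψ, m ψ = -1 ∨ m ψ = 0 ∨ m ψ = 1 := by
    intro ψ
    have h := Finset.single_le_sum (f := fun ψ => m ψ ^ 2) (fun i _ => sq_nonneg (m i)) (Finset.mem_univ ψ)
    rw [hsq] at h
    rcases le_or_gt (m ψ) (-2) with e | e
    · nlinarith
    rcases le_or_gt 2 (m ψ) with e' | e'
    · nlinarith
    omega
  set s := Finset.univ.filter fun ψ => m ψ ≠ 0 with hs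
  have hpm : ∀ ψ ∈ s, m ψ = 1 ∨ m ψ = -1 := fun ψ hψ => by
    have := (Finset.mem_filter.1 hψ).2
    rcases hle ψ with e | e | e <;> simp_all
  have hcard : s.card = 2 := by
    have h := Finset.sum_filter_of_ne (s := (Finset.univ : Finset (IrrCharacter G)))
      (f := fun ψ => m ψ ^ 2) (p := fun ψ => m ψ ≠ 0) fun ψ _ h h0 => h (by simp [h0])
    rw [hsq, ← hs, Finset.sum_congr rfl (g := fun _ => (1 : ℤ)) fun ψ hψ => by
      rcases hpm ψ hψ with e | e <;> simp [e]] at h
    simp at h
    exact_mod_cast h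
  obtain ⟨x, y, hxy, hsxy⟩ := Finset.card_eq_two.1 hcard
  have hθ : θ = (m x : ℂ) • x.1 + (m y : ℂ) • y.1 := by
    rw [hm, ← Finset.sum_subset (Finset.subset_univ s) fun ψ _ hψ => ?_, hsxy, Finset.sum_pair hxy]
    have : m ψ = 0 := by simpa [hs] using hψ
    simp [this]
  rw [hθ, Pi.add_apply, Pi.smul_apply, Pi.smul_apply, Char.apply_one_eq_degree,
    Char.apply_one_eq_degree] at h1
  have h1' : m x * (Char.degree x : ℤ) + m y * (Char.degree y : ℤ) = 0 := by
    simp only [smul_eq_mul] at h1; exact_mod_cast h1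
  have p1 := Char.degree_pos x
  have p2 := Char.degree_pos y
  rcases hpm x (by simp [hsxy]) with ex | ex <;> rcases hpm y (by simp [hsxy]) with ey | ey <;>
    rw [ex, ey] at h1' hθ
  · omega
  · exact ⟨x, y, hxy, by simpa [sub_eq_add_neg] using hθ⟩
  · exact ⟨y, x, hxy.symm, by simpa [sub_eq_add_neg, add_comm] using hθ⟩
  · omega

/-- Under the Dade hypothesis for (A, L, H): if χ is an irreducible character of L vanishing at every non-identity element of L outside A, then the Dade image of χ − conj χ equals μ − conj μ for some irreducible character μ of G. -/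
theorem result {G : Type*} [Group G] [Fintype G] (A : Set G) (L : Subgroup G) [Fintype L] (H : G → Subgroup G) (hD : Cfsg.DadeHypothesis A L H) (χ : L → ℂ) (hχ : Cfsg.IsIrrCharacter L χ) (hsupp : ∀ x : L, x ≠ 1 → (x : G) ∉ A → χ x = 0) : ∃ μ : G → ℂ, Cfsg.IsIrrCharacter G μ ∧ Cfsg.dadeIsometry A L H (χ - Cfsg.conjFun χ) = μ - Cfsg.conjFun μ := by
  classical
  have hc : IsCharacter L χ := Char.IsIrrCharacter.isCharacter hχ
  set β : L → ℂ := χ - conjFun χ with hβ
  have hβg : IsGeneralizedCharacter L β :=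
    ⟨χ, conjFun χ, hc, Char.IsCharacter.conj hc, rfl⟩
  have hβA : ∀ x : L, (x : G) ∉ A → β x = 0 := by
    intro x hx
    by_cases h1 : x = 1
    · obtain ⟨m, hm⟩ := Char.IsCharacter.apply_one hc
      subst h1
      simp [hβ, conjFun, hm]
    · simp [hβ, conjFun, hsupp x h1 hx]
  have hβc := Char.IsGeneralizedCharacter.isClassFunction hβg
  have hg := OddOrder.isGeneralizedCharacter_dadeIsometry hD hβg hβA
  by_cases hreal : conjFun χ = χ
  · refine ⟨(Char.trivialChar G).1, (Char.trivialChar G).2, ?_⟩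
    rw [hβ, hreal, sub_self]
    funext g
    rw [Pi.sub_apply]
    simp only [dadeIsometry, Pi.zero_apply]
    have e : conjFun (Char.trivialChar G).1 g = (Char.trivialChar G).1 g := by
      show (starRingEnd ℂ) (1 : ℂ) = 1
      exact map_one _
    rw [e, sub_self]
    split_ifs <;> rfl
  have hcirr : IsIrrCharacter L (conjFun χ) := Char.IsIrrCharacter.conj_fun hχ
  have h2 : classInner (dadeIsometry A L H β) (dadeIsometry A L H β) = 2 := by
    rw [OddOrder.classInner_dadeIsometry hD hβc hβA (OddOrder.isClassFunction_dadeIsometry A L H β) β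
      fun a ha => ?_]
    · simp only [hβ, Char.classInner_sub_left, Char.classInner_sub_right, Char.classInner_irr_self hχ,
        Char.classInner_irr_self hcirr, Char.classInner_irr_of_ne hχ hcirr (Ne.symm hreal),
        Char.classInner_irr_of_ne hcirr hχ hreal]
      norm_num
    have h : ∀ u ∈ (H a : Set G), dadeIsometry A L H β ((a : G) * u) = β a := fun u hu =>
      OddOrder.dadeIsometry_apply hD hβc ha (g := (a : G) * u) (x := 1) (u := u) hu (by group)
    rw [finsum_mem_congr rfl h, finsum_mem_eq_finite_toFinset_sum _ (Set.toFinite _), Finset.sum_const,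
      nsmul_eq_mul, ← Set.ncard_eq_toFinset_card, ← Nat.card_coe_set_eq, ← mul_assoc]
    have hne : (Nat.card (H (a : G)) : ℂ) ≠ 0 := Nat.cast_ne_zero.2 Nat.card_pos.ne'
    rw [show Nat.card ↥(H (a : G) : Set G) = Nat.card (H (a : G)) from rfl, inv_mul_cancel₀ hne, one_mul]
  have h1 : dadeIsometry A L H β 1 = 0 := by
    refine dif_neg ?_
    rintro ⟨a, ha, x, u, hu, e⟩
    rw [mul_one, mul_inv_cancel] at e
    have hmem : (a : G) ∈ H (a : G) ⊓ (L ⊓ Subgroup.centralizer ({(a : G)} : Set G)) :=
      Subgroup.mem_inf.2 ⟨by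
        have e' : (a : G) = u⁻¹ := eq_inv_of_mul_eq_one_left e.symm
        nth_rw 2 [e']
        exact inv_mem hu,
        Subgroup.mem_inf.2 ⟨a.2, Subgroup.mem_centralizer_singleton_iff.2 rfl⟩⟩
    rw [hD.inf_eq_bot _ ha, Subgroup.mem_bot] at hmem
    exact hD.one_not_mem (hmem ▸ ha)
  obtain ⟨a, b, hab, he⟩ := exists_sub_of_norm_two hg h2 h1
  refine ⟨a.1, a.2, ?_⟩
  have hconj : conjFun (dadeIsometry A L H β) = -dadeIsometry A L H β := by
    funext g
    show (starRingEnd ℂ) (dadeIsometry A L H β g) = -(dadeIsometry A L H β g)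
    simp only [dadeIsometry]
    split_ifs with h
    · simp [hβ, conjFun]
    · simp
  set a' : IrrCharacter G := ⟨conjFun a.1, Char.IsIrrCharacter.conj_fun a.2⟩ with ha'
  set b' : IrrCharacter G := ⟨conjFun b.1, Char.IsIrrCharacter.conj_fun b.2⟩ with hb'
  have h3 : a'.1 - b'.1 = b.1 - a.1 := by
    have e := hconj
    rw [he] at e
    funext g
    have eg := congrFun e g
    simp only [conjFun, Pi.sub_apply, Pi.neg_apply, map_sub] at eg
    simp only [ha', hb', conjFun, Pi.sub_apply]
    linear_combination eg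
  have hab' : a' ≠ b' := fun h => hab (Subtype.ext (funext fun g => (starRingEnd ℂ).injective
    (congrFun (congrArg Subtype.val h) g)))
  have h4 := congrArg (fun f => classInner f b.1) h3
  simp only [Char.classInner_sub_left, Char.classInner_irr, if_neg hab] at h4
  have hbeq : a' = b := by
    by_contra hne
    rw [if_neg hne] at h4
    by_cases hb2 : b' = b <;> simp [hb2] at h4 <;> norm_num at h4
  rw [he, ← hbeq]

end Cfsg.Agent.S1518
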