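import Cfsg.Statements.S1532
import Cfsg.Agent.Lib.OddOrder.FrobeniusCoherence
-- import your own Cfsg.Agent.* helpers here

set_option autoImplicit false
open Cfsg

namespace Cfsg.Agent.S1532

/-- Let G be a finite group, p an odd prime and P a Sylow p-subgroup that is non-abelian, whose underlying set is a TI-subset of G, with P properly contained in its set normaliser N and C_G(x) ≤ P for every non-identity x ∈ P. Let Z be a nontrivial subgroup of the centre of P normalised by N. Then the set of irreducible characters χ of N with χ z ≠ χ 1 for some z ∈ Z is coherent for the map induced by induction from N to G. -/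
theorem result {G : Type*} [Group G] [Fintype G] (p : ℕ) [Fact p.Prime] (hp : p ≠ 2) (P : Sylow p G) (hna : ¬ IsMulCommutative (P : Subgroup G)) (hTI : Cfsg.IsTISubset ((P : Subgroup G) : Set G)) (hlt : (P : Subgroup G) < Subgroup.normalizer ((P : Subgroup G) : Set G)) (hC : ∀ k ∈ (P : Subgroup G), k ≠ 1 → Subgroup.centralizer ({k} : Set G) ≤ (P : Subgroup G)) [Fintype ↥(Subgroup.normalizer ((P : Subgroup G) : Set G))] (Z : Subgroup G) (hZ1 : Z ≠ ⊥) (hZP : ∀ z ∈ Z, z ∈ (P : Subgroup G) ∧ ∀ y ∈ (P : Subgroup G), z * y = y * z) (hZn : ∀ x ∈ Subgroup.normalizer ((P : Subgroup G) : Set G), ∀ z ∈ Z, x * z * x⁻¹ ∈ Z) : Cfsg.IsCoherent {χ : ↥(Subgroup.normalizer ((P : Subgroup G) : Set G)) → ℂ | Cfsg.IsIrrCharacter ↥(Subgroup.normalizer ((P : Subgroup G) : Set G)) χ ∧ ∃ z : ↥(Subgroup.normalizer ((P : Subgroup G) : Set G)), (z : G) ∈ Z ∧ χ z ≠ χ 1} {1}ᶜ (fun α => Cfsg.indFun (Subgroup.normalizer ((P : Subgroup G) : Set G)) α) := by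
  classical
  set K : Subgroup (Subgroup.normalizer ((P : Subgroup G) : Set G)) := (P : Subgroup G).subgroupOf (Subgroup.normalizer ((P : Subgroup G) : Set G)) 
  haveI : K.Normal := Subgroup.normal_in_normalizer
  haveI : Fintype K := Fintype.ofFinite _
  have hPN : (P : Subgroup G) ≤ (Subgroup.normalizer ((P : Subgroup G) : Set G)) := Subgroup.le_normalizer
  have eK : K ≃* (P : Subgroup G) := Subgroup.subgroupOfEquivOfLe hPN
  have hKp : IsPGroup p K := (P.isPGroup').of_equiv eK.symm
  have hcop : ¬ p ∣ K.index := fun h =>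
    P.not_dvd_index (h.trans (Subgroup.relIndex_dvd_index_of_le hPN))
  have hCI : OddOrder.CentIn K := by
    intro k hk hk1 x hx
    rw [Subgroup.mem_centralizer_singleton_iff] at hx
    exact hC k hk (fun e => hk1 (Subtype.ext e))
      (Subgroup.mem_centralizer_singleton_iff.2 (congrArg Subtype.val hx))
  have hoddK : Odd (Nat.card K) := by
    obtain ⟨a, ha⟩ := IsPGroup.iff_card.1 hKp
    rw [ha]; exact ((Fact.out : p.Prime).odd_of_ne_two hp).pow
  have hodd : Odd (Nat.card (Subgroup.normalizer ((P : Subgroup G) : Set G))) := by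
    rw [← K.card_mul_index]
    refine hoddK.mul (Nat.not_even_iff_odd.1 fun h => hna ⟨⟨fun a b => ?_⟩⟩)
    have := congrArg eK (OddOrder.comm_of_even_index hCI hoddK h (eK.symm a) (eK.symm b))
    simpa using this
  set Z' : Subgroup (Subgroup.normalizer ((P : Subgroup G) : Set G)) := Z.subgroupOf (Subgroup.normalizer ((P : Subgroup G) : Set G))
  haveI : Z'.Normal := ⟨fun z hz x => hZn x x.2 z hz⟩
  have hZK : Z' ≤ K := fun z hz => (hZP z hz).1
  have hirr := OddOrder.inducedNonTriv_irr hCI Z'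
  have heq := OddOrder.inducedNonTriv_eq_irr K Z' hZK hirr
  have hset : {χ : (Subgroup.normalizer ((P : Subgroup G) : Set G)) → ℂ | IsIrrCharacter (Subgroup.normalizer ((P : Subgroup G) : Set G)) χ ∧ ∃ z : (Subgroup.normalizer ((P : Subgroup G) : Set G)), (z : G) ∈ Z ∧ χ z ≠ χ 1} =
      OddOrder.inducedNonTriv K Z' := by rw [heq]; rfl
  rw [hset]
  have hne : (OddOrder.inducedNonTriv K Z').Nonempty := by
    by_contra hemp
    rw [Set.not_nonempty_iff_eq_empty] at hemp
    have hall : ∀ χ : IrrCharacter (Subgroup.normalizer ((P : Subgroup G) : Set G)), Char.TrivOn Z' χ.1 := fun χ z hz => by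
      by_contra hne
      have : χ.1 ∈ OddOrder.inducedNonTriv K Z' := by rw [heq]; exact ⟨χ.2, z, hz, hne⟩
      rw [hemp] at this
      exact this
    have h1 := Char.sum_trivOn_degree_sq Z'
    have h2 := Char.sum_trivOn_degree_sq (⊥ : Subgroup (Subgroup.normalizer ((P : Subgroup G) : Set G)))
    rw [Finset.filter_true_of_mem (p := fun χ : IrrCharacter (Subgroup.normalizer ((P : Subgroup G) : Set G)) => Char.TrivOn Z' χ.1) fun χ _ => hall χ] at h1
    rw [Finset.filter_true_of_mem (p := fun χ : IrrCharacter (Subgroup.normalizer ((P : Subgroup G) : Set G)) => Char.TrivOn (⊥ : Subgroup (Subgroup.normalizer ((P : Subgroup G) : Set G))) χ.1)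
      fun χ _ k hk => by rw [Subgroup.mem_bot.1 hk], h1, Subgroup.index_bot] at h2
    have h3 := Z'.card_mul_index
    rw [h2] at h3
    have h4 : Nat.card Z' = 1 := Nat.eq_of_mul_eq_mul_right Nat.card_pos (h3.trans (one_mul _).symm)
    rw [Nat.card_congr (Subgroup.subgroupOfEquivOfLe (fun z hz => hPN (hZP z hz).1)).toEquiv] at h4
    exact hZ1 (Subgroup.card_eq_one.1 h4)
  have hconj : ∀ χ ∈ OddOrder.inducedNonTriv K Z',
      conjFun χ ∈ OddOrder.inducedNonTriv K Z' ∧ conjFun χ ≠ χ := by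
    intro χ hχ
    rw [heq] at hχ ⊢
    obtain ⟨hχ, z, hz, hne⟩ := hχ
    refine ⟨⟨Char.IsIrrCharacter.conj_fun hχ, z, hz, fun e => hne ?_⟩,
      OddOrder.conjFun_ne_of_odd hodd hχ ⟨z, hne⟩⟩
    exact (starRingEnd ℂ).injective e
  obtain ⟨hiso, hone⟩ := OddOrder.indFun_isometry_ti (Subgroup.normalizer ((P : Subgroup G) : Set G)) (P : Subgroup G) hTI le_rfl _
    (fun φ hφ => Char.IsIrrCharacter.isCharacter (hirr φ hφ)) (by
      rintro φ ⟨θ, -, -, rfl⟩ x hx
      exact Char.indFun_of_notMem_normal K θ hx)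
  obtain ⟨R, hS⟩ := OddOrder.exists_coherenceSystem _ hne hirr hconj _ hiso hone
  exact OddOrder.isCoherent_central_pgroup K hp hKp hcop Z' hZK
    (fun z hz k hk => Subtype.ext ((hZP z hz).2 k hk)) hirr hS

end Cfsg.Agent.S1532
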