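import Cfsg.Statements.S2490
import Cfsg.Agent.Lib.SmallSimple.No3960
import Cfsg.Agent.Lib.Perm.MinimalNormal
-- import your own Cfsg.Agent.* helpers here

set_option autoImplicit false
open Cfsg

namespace Cfsg.Agent.S2490

open Subgroup
open scoped Pointwise
open Cfsg.Agent.M11Order

variable {G : Type*} [Group G] [Finite G]

theorem lift_edge {a b : ℕ} {N : Subgroup G} [N.Normal] (h : ∃ g : G ⧸ N, orderOf g = a * b) (ha : 0 < a * b) :
    ∃ g : G, orderOf g = a * b := by
  obtain ⟨g, hg⟩ := h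
  obtain ⟨y, rfl⟩ := QuotientGroup.mk'_surjective N g
  obtain ⟨c, hc⟩ : a * b ∣ orderOf y := hg ▸ orderOf_map_dvd _ y
  have hpos : 0 < c := Nat.pos_of_mul_pos_left (hc ▸ orderOf_pos y)
  exact ⟨y ^ c, by rw [orderOf_pow' y hpos.ne', hc, Nat.gcd_mul_left_left, Nat.mul_div_cancel _ hpos]⟩

/-- In a group of order 7920 or 495 the prime 5 is joined to 3 or 11, or there are 396 Sylow 5-subgroups. -/
theorem five_cases {H : Type*} [Group H] [Finite H] {m : ℕ} (hH : Nat.card H = 5 * m) (hm : m = 1584 ∨ m = 99) :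
    (∃ g : H, orderOf g = 5 * 3) ∨ (∃ g : H, orderOf g = 5 * 11) ∨ (m = 1584 ∧ Nat.card (Sylow 5 H) = 396) := by
  have : Fact (Nat.Prime 5) := ⟨Nat.prime_five⟩
  have hm5 : ¬ 5 ∣ m := by rcases hm with rfl | rfl <;> norm_num
  obtain ⟨y, hy⟩ := exists_prime_elt (G := H) 5 (hH ▸ dvd_mul_right 5 m)
  have hmul := card_sylow_mul_nz hy hH hm5
  have hd := sylow_count_dvd (r := 5) hH hm5
  have hmem : Nat.card (Sylow 5 H) ∈ ({1, 6, 11, 16, 36, 66, 176, 396} : Finset ℕ) :=
    sylow_count_mem hH hm5 (by rcases hm with rfl | rfl <;> decide +kernel)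
  have hjoin : ∀ r, Nat.Prime r → (r = 3 ∨ r = 11) → r ∣ Nat.card (nz y) → ∃ g : H, orderOf g = 5 * r := by
    intro r hr hr' hd
    have : Fact r.Prime := ⟨hr⟩
    obtain ⟨⟨g, hg⟩, hog⟩ := exists_prime_orderOf_dvd_card' r hd
    rw [Subgroup.orderOf_mk] at hog
    have hgy : g * y = y * g := commute_of_normalizes (zpowers y) (s := r) hg (by rw [← hog, pow_orderOf_eq_one])
      (fun c hc hmod => by
        rw [card_zpowers_prime hy] at hc hmod ⊢
        rcases (Nat.dvd_prime Nat.prime_five).1 hc with rfl | rfl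
        · rcases hr' with rfl | rfl <;> exact absurd hmod (by decide)
        · rfl) (mem_zpowers y)
    exact edge_of_commute Nat.prime_five hr (by rcases hr' with rfl | rfl <;> norm_num) hy hog hgy
  simp only [Finset.mem_insert, Finset.mem_singleton] at hmem
  rcases hmem with e | e | e | e | e | e | e | e <;> rw [e, hH] at hmul <;> rw [e] at hd ⊢ <;>
    rcases hm with rfl | rfl <;>
    first
    | exact Or.inr (Or.inr ⟨rfl, rfl⟩)
    | exact Or.inl (hjoin 3 Nat.prime_three (Or.inl rfl) (by omega))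
    | exact Or.inr (Or.inl (hjoin 11 (by norm_num) (Or.inr rfl) (by omega)))
    | (norm_num at hd)

/-- A prime-power Sylow subgroup of a normal subgroup normalised by an element of order `s`. -/
theorem exists_normalizing (N : Subgroup G) [N.Normal] (r s : ℕ) [Fact r.Prime] [Fact s.Prime]
    (hs : s ∣ N.index) :
    ∃ R : Subgroup G, R ≤ N ∧ Nat.card R = r ^ (Nat.card N).factorization r ∧
      ∃ y, orderOf y = s ∧ y ∈ normalizer (R : Set G) := by
  obtain ⟨P⟩ : Nonempty (Sylow r N) := inferInstance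
  refine ⟨(P : Subgroup N).map N.subtype, map_subtype_le _, ?_, ?_⟩
  · rw [← P.card_eq_multiplicity]
    exact (Nat.card_congr ((P : Subgroup N).equivMapOfInjective _ N.subtype_injective).toEquiv).symm
  · have h := Sylow.normalizer_sup_eq_top P
    set L := normalizer (((P : Subgroup N).map N.subtype : Subgroup G) : Set G)
    have hd : N.index ∣ Nat.card L := by
      rw [← relIndex_top_right, ← h, relIndex_sup_right]
      exact relIndex_dvd_card _ _
    obtain ⟨⟨y, hy⟩, hoy⟩ := exists_prime_orderOf_dvd_card' s (hs.trans hd)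
    rw [Subgroup.orderOf_mk] at hoy
    exact ⟨y, hoy, hy⟩

theorem normal_sub_commute (hord : Nat.card G = 7920) (N : Subgroup G) [N.Normal] (hN : ¬ 11 ∣ Nat.card N)
    {r : ℕ} (hr : r.Prime) (hrN : r ∣ Nat.card N) : ∃ x y : G, orderOf x = 11 ∧ orderOf y = r ∧ y * x = x * y := by
  have : Fact r.Prime := ⟨hr⟩
  have : Fact (Nat.Prime 11) := ⟨by norm_num⟩
  have hidx : 11 ∣ N.index := by
    have h := N.card_mul_index
    rw [hord] at h
    exact ((Nat.Prime.dvd_mul (by norm_num)).1 (h ▸ (by norm_num : 11 ∣ 7920))).resolve_left hN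
  obtain ⟨R, hRN, hRc, x, hx, hxR⟩ := exists_normalizing N r 11 hidx
  have hrR : r ∣ Nat.card R := by
    rw [hRc]; exact dvd_pow_self r (hr.factorization_pos_of_dvd Nat.card_pos.ne' hrN).ne'
  obtain ⟨⟨y, hy⟩, hoy⟩ := exists_prime_orderOf_dvd_card' r hrR
  rw [Subgroup.orderOf_mk] at hoy
  refine ⟨x, y, hx, hoy, (commute_of_normalizes R (s := 11) hxR (by rw [← hx, pow_orderOf_eq_one]) ?_ hy).symm⟩
  intro c hc hmod
  have hk : r ^ (Nat.card N).factorization r ∣ 7920 := hord ▸ hRc ▸ card_subgroup_dvd_card R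
  rw [hRc] at hc hmod ⊢
  obtain ⟨i, hi, rfl⟩ := (Nat.dvd_prime_pow hr).1 hc
  generalize (Nat.card N).factorization r = k at hk hi hmod
  have hr7 : r ∈ ({2, 3, 5, 11} : Finset ℕ) := by
    have h7 : r ∣ 7920 := hord ▸ hrN.trans (card_subgroup_dvd_card N)
    have := Nat.mem_primeFactors.2 ⟨hr, h7, by norm_num⟩
    exact (by decide +kernel : (7920 : ℕ).primeFactors ⊆ {2, 3, 5, 11}) this
  simp only [Finset.mem_insert, Finset.mem_singleton] at hr7
  rcases hr7 with rfl | rfl | rfl | rfl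
  · have : k ≤ 4 := by
      by_contra hh
      exact absurd ((pow_dvd_pow 2 (show 5 ≤ k by omega)).trans hk) (by norm_num)
    interval_cases k <;> interval_cases i <;> first | rfl | exact absurd hmod (by decide)
  · have : k ≤ 2 := by
      by_contra hh
      exact absurd ((pow_dvd_pow 3 (show 3 ≤ k by omega)).trans hk) (by norm_num)
    interval_cases k <;> interval_cases i <;> first | rfl | exact absurd hmod (by decide)
  · have : k ≤ 1 := by
      by_contra hh
      exact absurd ((pow_dvd_pow 5 (show 2 ≤ k by omega)).trans hk) (by norm_num)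
    interval_cases k <;> interval_cases i <;> first | rfl | exact absurd hmod (by decide)
  · exact absurd hrN hN

/-- 3 and 2 are joined when there is a normal 2-subgroup. -/
theorem edge_three_two (hord : Nat.card G = 7920) (N : Subgroup G) [hN : N.Normal] {k : ℕ} (hk : Nat.card N = 2 ^ k)
    (hk0 : k ≠ 0) : ∃ g : G, orderOf g = 3 * 2 := by
  classical
  have : Fact (Nat.Prime 3) := ⟨Nat.prime_three⟩
  have : Fact (Nat.Prime 2) := ⟨Nat.prime_two⟩
  by_contra hno
  obtain ⟨Q⟩ : Nonempty (Sylow 3 G) := inferInstance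
  have hQ : Nat.card (Q : Subgroup G) = 3 ^ 2 :=
    SmallSimple.card_sylow_eq_pow Q 2 880 (by rw [hord]; norm_num) (by norm_num)
  have hk4 : k ≤ 4 := by
    by_contra hh
    exact absurd ((pow_dvd_pow 2 (show 5 ≤ k by omega)).trans (hk ▸ hord ▸ card_subgroup_dvd_card N)) (by norm_num)
  have hfree : ∀ q ∈ (Q : Subgroup G), ∀ v ∈ N, q * v = v * q → q = 1 ∨ v = 1 := by
    intro q hq v hv hqv
    by_contra hh
    push Not at hh
    have h1 : orderOf q ∣ 3 ^ 2 := hQ ▸ Subgroup.orderOf_mk q hq ▸ orderOf_dvd_natCard (⟨q, hq⟩ : (Q : Subgroup G))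
    have h2 : orderOf v ∣ 2 ^ k := hk ▸ Subgroup.orderOf_mk v hv ▸ orderOf_dvd_natCard (⟨v, hv⟩ : N)
    obtain ⟨i, -, hi⟩ := (Nat.dvd_prime_pow Nat.prime_three).1 h1
    obtain ⟨l, -, hl⟩ := (Nat.dvd_prime_pow Nat.prime_two).1 h2
    have hi0 : i ≠ 0 := fun h0 => hh.1 (orderOf_eq_one_iff.1 (by rw [hi, h0, pow_zero]))
    have hl0 : l ≠ 0 := fun h0 => hh.2 (orderOf_eq_one_iff.1 (by rw [hl, h0, pow_zero]))
    exact hno (edge_of_commute (x := q ^ (orderOf q / 3)) (y := v ^ (orderOf v / 2)) Nat.prime_three Nat.prime_two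
      (by norm_num) (orderOf_pow_orderOf_div (orderOf_pos q).ne' (hi ▸ dvd_pow_self 3 hi0))
      (orderOf_pow_orderOf_div (orderOf_pos v).ne' (hl ▸ dvd_pow_self 2 hl0))
      ((show Commute v q from hqv.symm).pow_pow _ _).eq)
  let ι : ∀ v : G, v ∈ N → v ≠ 1 → ↥(Q : Subgroup G) → {u : N // u ≠ 1} := fun v hv hv1 q =>
    ⟨⟨q * v * (q : G)⁻¹, hN.conj_mem v hv q⟩, fun h => hv1 (conj_eq_one_iff.1 (congrArg Subtype.val h))⟩
  have hιinj : ∀ v hv hv1, Function.Injective (ι v hv hv1) := by
    intro v hv hv1 a b h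
    have h' : (a : G) * v * (a : G)⁻¹ = b * v * (b : G)⁻¹ := congrArg (fun u : {u : N // u ≠ 1} => (u.1 : G)) h
    have hc : ((b : G)⁻¹ * a) * v = v * ((b : G)⁻¹ * a) := by
      rw [mul_inv_eq_iff_eq_mul] at h'
      rw [mul_assoc, h']
      group
    rcases hfree _ (mul_mem (inv_mem b.2) a.2) v hv hc with h1 | h1
    · exact Subtype.ext (inv_mul_eq_one.1 h1).symm
    · exact absurd h1 hv1
  have hcardU : Nat.card {u : N // u ≠ 1} = 2 ^ k - 1 := by
    have : Fintype N := Fintype.ofFinite N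
    rw [Nat.card_eq_fintype_card, Fintype.card_subtype_compl, Fintype.card_subtype_eq, ← Nat.card_eq_fintype_card, hk]
  have : Nontrivial N := (Finite.one_lt_card_iff_nontrivial).1 (hk ▸ Nat.one_lt_two_pow hk0)
  obtain ⟨⟨v, hv⟩, hv1'⟩ := exists_ne (1 : N)
  have hv1 : v ≠ 1 := fun h => hv1' (Subtype.ext h)
  have h9 := Nat.card_le_card_of_injective _ (hιinj v hv hv1)
  rw [hQ, hcardU] at h9
  obtain rfl : k = 4 := by
    interval_cases k <;> omega
  obtain ⟨⟨⟨w, hw⟩, hw1'⟩, hwne⟩ : ∃ u : {u : N // u ≠ 1}, ∀ q, ι v hv hv1 q ≠ u := by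
    by_contra hh
    push Not at hh
    have := Nat.card_le_card_of_surjective _ (fun u => hh u : Function.Surjective (ι v hv hv1))
    rw [hQ, hcardU] at this
    norm_num at this
  have hw1 : w ≠ 1 := fun h => hw1' (Subtype.ext h)
  let J : ↥(Q : Subgroup G) × Bool → {u : N // u ≠ 1} := fun p => cond p.2 (ι v hv hv1 p.1) (ι w hw hw1 p.1)
  have hne : ∀ a b, ι v hv hv1 a ≠ ι w hw hw1 b := fun a b h => by
    have h' : (a : G) * v * (a : G)⁻¹ = b * w * (b : G)⁻¹ := congrArg (fun u : {u : N // u ≠ 1} => (u.1 : G)) h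
    refine hwne ⟨(b : G)⁻¹ * a, mul_mem (inv_mem b.2) a.2⟩ (Subtype.ext (Subtype.ext ?_))
    show (b : G)⁻¹ * a * v * ((b : G)⁻¹ * a)⁻¹ = w
    calc (b : G)⁻¹ * a * v * ((b : G)⁻¹ * a)⁻¹ = (b : G)⁻¹ * ((a : G) * v * (a : G)⁻¹) * b := by group
      _ = w := by rw [h']; group
  have hJ : Function.Injective J := by
    rintro ⟨a, x⟩ ⟨b, y⟩ h
    cases x <;> cases y <;> simp only [J, cond_true, cond_false] at h
    · rw [hιinj w hw hw1 h]
    · exact absurd h.symm (hne _ _)
    · exact absurd h (hne _ _)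
    · rw [hιinj v hv hv1 h]
  have h18 := Nat.card_le_card_of_injective J hJ
  rw [Nat.card_prod, hQ, hcardU, show Nat.card Bool = 2 by simp] at h18
  norm_num at h18

end Cfsg.Agent.S2490

namespace Cfsg.Agent.S2490

open Subgroup
open Cfsg.Agent.M11Order

/-- Let G be a finite group of order 7920 = 2⁴·3²·5·11 (the order of the smallest Mathieu group) and suppose its prime graph (vertices the prime divisors of the order, distinct p, q joined when there is an element of order pq) is disconnected: the prime divisors split into two non-empty parts with no element of order pq for p in one part and q in the other. Then G is simple. -/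
theorem result {G : Type*} [Group G] [Finite G] (hord : Nat.card G = 7920)
    (hdisc : (∃ A : Set ℕ, (∃ a ∈ A, a.Prime ∧ a ∣ Nat.card G) ∧ (∃ b ∉ A, b.Prime ∧ b ∣ Nat.card G) ∧
      ∀ a ∈ A, ∀ b ∉ A, a.Prime → b.Prime → a ∣ Nat.card G → b ∣ Nat.card G → ¬ ∃ g : G, orderOf g = a * b)) :
    IsSimpleGroup G := by
  classical
  have h2 : Fact (Nat.Prime 2) := ⟨Nat.prime_two⟩
  have h3 : Fact (Nat.Prime 3) := ⟨Nat.prime_three⟩
  have h5 : Fact (Nat.Prime 5) := ⟨Nat.prime_five⟩
  have h11 : Fact (Nat.Prime 11) := ⟨by norm_num⟩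
  obtain ⟨A, ⟨a, haA, hap, had⟩, ⟨b, hbA, hbp, hbd⟩, hsep⟩ := hdisc
  rw [hord] at had hbd
  -- joined primes lie on one side
  have side : ∀ p q : ℕ, p.Prime → q.Prime → p ∣ 7920 → q ∣ 7920 → (∃ g : G, orderOf g = p * q) → (p ∈ A ↔ q ∈ A) := by
    intro p q hp hq hpd hqd ⟨g, hg⟩
    constructor <;> intro h <;> by_contra h'
    · exact hsep p h q h' hp hq (hord ▸ hpd) (hord ▸ hqd) ⟨g, hg⟩
    · exact hsep q h p h' hq hp (hord ▸ hqd) (hord ▸ hpd) ⟨g, by rw [hg, mul_comm]⟩
  have hconn : (3 ∈ A ↔ 2 ∈ A) → (5 ∈ A ↔ 2 ∈ A) → (11 ∈ A ↔ 2 ∈ A) → False := by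
    intro e3 e5 e11
    have hall : ∀ r : ℕ, r.Prime → r ∣ 7920 → (r ∈ A ↔ 2 ∈ A) := fun r hr hrd => by
      have hmem := (by decide +kernel : (7920 : ℕ).primeFactors ⊆ {2, 3, 5, 11})
        (Nat.mem_primeFactors.2 ⟨hr, hrd, by norm_num⟩)
      simp only [Finset.mem_insert, Finset.mem_singleton] at hmem
      rcases hmem with rfl | rfl | rfl | rfl
      exacts [Iff.rfl, e3, e5, e11]
    exact hbA ((hall b hbp hbd).2 ((hall a hap had).1 haA))
  have d2 : 2 ∣ 7920 := by norm_num
  have d3 : 3 ∣ 7920 := by norm_num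
  have d5 : 5 ∣ 7920 := by norm_num
  have d11 : 11 ∣ 7920 := by norm_num
  obtain ⟨x, hx⟩ := exists_prime_elt (G := G) 11 (hord ▸ d11)
  have hG11 : Nat.card G = 11 * 720 := by rw [hord]
  have hn := sylow_count_mem (r := 11) hG11 (by norm_num) (L := {1, 12, 45, 144}) (by decide +kernel)
  have hmul := card_sylow_mul_nz hx hG11 (by norm_num)
  have hNC := card_nz_dvd hx
  have hCN : Nat.card (cz x) ∣ Nat.card (nz x) := Subgroup.card_dvd_of_le (cz_le_nz x)
  simp only [Finset.mem_insert, Finset.mem_singleton] at hn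
  have hsmall : Nat.card (Sylow 11 G) ≤ 12 → False := by
    intro hle
    have hN : Nat.card (nz x) = 7920 ∨ Nat.card (nz x) = 660 := by
      rcases hn with e | e | e | e <;> rw [e] at hmul hle <;> omega
    have hC : 2 ∣ Nat.card (cz x) ∧ 3 ∣ Nat.card (cz x) := by
      have h6 : 660 ∣ Nat.card (cz x) * 10 := by
        rcases hN with e | e <;> rw [e] at hNC
        · exact (by norm_num : 660 ∣ 7920).trans hNC
        · exact hNC
      omega
    have e11_2 := side 11 2 h11.out h2.out d11 d2 (edge_of_dvd_cz h11.out (by norm_num) hx hC.1)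
    have e11_3 := side 11 3 h11.out h3.out d11 d3 (edge_of_dvd_cz h11.out (by norm_num) hx hC.2)
    by_cases h5C : 5 ∣ Nat.card (cz x)
    · exact hconn (e11_3.symm.trans e11_2)
        ((side 11 5 h11.out h5.out d11 d5 (edge_of_dvd_cz h11.out (by norm_num) hx h5C)).symm.trans e11_2) e11_2
    let M := nz x
    let K : Subgroup M := ((zpowers x).normalizerMonoidHom).ker
    have hK : Nat.card K = Nat.card (cz x) := by
      show Nat.card ((zpowers x).normalizerMonoidHom).ker = _
      rw [normalizerMonoidHom_ker, Nat.card_congr (subgroupOfEquivOfLe (centralizer_le_normalizer _)).toEquiv,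
        centralizer_zpowers_eq]
    have hs : 5 ∣ K.index := by
      have h := K.card_mul_index
      rw [hK] at h
      have h5M : 5 ∣ Nat.card M := by rcases hN with e | e <;> rw [show Nat.card M = _ from e] <;> norm_num
      exact ((Nat.Prime.dvd_mul h5.out).1 (h ▸ h5M)).resolve_left h5C
    obtain ⟨R, hRK, hRc, y, hy, hyR⟩ := exists_normalizing K 3 5 hs
    rw [hK] at hRc
    have hk : (Nat.card (cz x)).factorization 3 ≤ 2 := by
      have h := (Nat.factorization_le_iff_dvd Nat.card_pos.ne' (by norm_num : (7920 : ℕ) ≠ 0)).2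
        (hord ▸ card_subgroup_dvd_card (cz x)) 3
      refine h.trans_eq (SmallSimple.factorization_mul_eq Nat.prime_three (show (7920 : ℕ) = 3 ^ 2 * 880 by norm_num) (by norm_num))
    have hk0 := (Nat.prime_three.factorization_pos_of_dvd Nat.card_pos.ne' hC.2).ne'
    obtain ⟨⟨t, ht⟩, hot⟩ := exists_prime_orderOf_dvd_card' 3 (hRc ▸ dvd_pow_self 3 hk0 : 3 ∣ Nat.card R)
    rw [Subgroup.orderOf_mk] at hot
    have hyt := commute_of_normalizes R (s := 5) hyR (by rw [← hy, pow_orderOf_eq_one]) (fun c hc hmod => by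
      rw [hRc] at hc hmod ⊢
      generalize (Nat.card (cz x)).factorization 3 = k at hk hc hmod hk0
      obtain ⟨i, hi, rfl⟩ := (Nat.dvd_prime_pow Nat.prime_three).1 hc
      interval_cases k <;> interval_cases i <;> first | rfl | exact absurd hmod (by decide)) ht
    have e35 := side 3 5 h3.out h5.out d3 d5 (edge_of_commute h3.out h5.out (by norm_num)
      ((Subgroup.orderOf_coe t).trans hot) ((Subgroup.orderOf_coe y).trans hy) (congrArg Subtype.val hyt))
    exact hconn (e11_3.symm.trans e11_2) (e35.symm.trans (e11_3.symm.trans e11_2)) e11_2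
  have hbig : Nat.card (Sylow 11 G) = 45 ∨ Nat.card (Sylow 11 G) = 144 := by
    rcases hn with e | e | e | e
    · exact (hsmall (by omega)).elim
    · exact (hsmall (by omega)).elim
    · exact Or.inl e
    · exact Or.inr e
  have hnz : ∀ {x : G}, orderOf x = 11 → Nat.card (Sylow 11 G) * Nat.card (nz x) = 7920 := fun hx => by
    rw [card_sylow_mul_nz hx hG11 (by norm_num), hord]
  -- normal subgroups have order divisible by 11
  have hdiv : ∀ N : Subgroup G, N.Normal → N ≠ ⊥ → 11 ∣ Nat.card N := by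
    intro N hNn hNb
    by_contra h11N
    have hprimes : ∀ r : ℕ, r.Prime → r ∣ Nat.card N → r ∣ 7920 / Nat.card (Sylow 11 G) ∧ r ≠ 11 ∧
        (∃ g : G, orderOf g = 11 * r) := by
      intro r hr hrN
      obtain ⟨x', y', hx', hy', hc⟩ := normal_sub_commute hord N h11N hr hrN
      have hne : r ≠ 11 := fun h => h11N (h ▸ hrN)
      refine ⟨?_, hne, edge_of_commute h11.out hr hne.symm hx' hy' hc⟩
      have h1 := (dvd_card_cz hy' hc).trans (Subgroup.card_dvd_of_le (cz_le_nz x'))
      rwa [← hnz hx', Nat.mul_div_cancel_left _ Nat.card_pos]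
    have hne1 : Nat.card N ≠ 1 := fun h => hNb (eq_bot_of_card_eq N h)
    rcases hbig with e | e
    · -- a normal 2-subgroup
      have honly : ∀ {d : ℕ}, d.Prime → d ∣ Nat.card N → d = 2 := fun {d} hd hdd => by
        obtain ⟨h1, hne, -⟩ := hprimes d hd hdd
        rw [e] at h1
        have := (hd.dvd_mul.1 (show d ∣ 2 ^ 4 * 11 from h1)).resolve_right fun h =>
          hne ((Nat.prime_dvd_prime_iff_eq hd h11.out).1 h)
        exact (Nat.prime_dvd_prime_iff_eq hd Nat.prime_two).1 (hd.dvd_of_dvd_pow this)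
      obtain ⟨k, hk⟩ : ∃ k, Nat.card N = 2 ^ k := ⟨_, Nat.eq_prime_pow_of_unique_prime_dvd Nat.card_pos.ne' honly⟩
      have hk0 : k ≠ 0 := fun h => hne1 (by rw [hk, h, pow_zero])
      have e11_2 := side 11 2 h11.out h2.out d11 d2 (hprimes 2 h2.out (hk ▸ dvd_pow_self 2 hk0)).2.2
      have e32 := side 3 2 h3.out h2.out d3 d2 (edge_three_two hord N hk hk0)
      refine hconn e32 ?_ e11_2
      have hk4 : k ≤ 4 := by
        by_contra hh
        exact absurd ((pow_dvd_pow 2 (show 5 ≤ k by omega)).trans (hk ▸ hord ▸ card_subgroup_dvd_card N)) (by norm_num)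
      by_cases hk3 : k = 4
      · subst hk3
        have hq : Nat.card (G ⧸ N) = 5 * 99 := by
          have := N.card_mul_index
          rw [hk, hord, index_eq_card] at this
          omega
        rcases five_cases hq (Or.inr rfl) with h | h | ⟨h, -⟩
        · exact (side 5 3 h5.out h3.out d5 d3 (lift_edge h (by norm_num))).trans e32
        · exact (side 5 11 h5.out h11.out d5 d11 (lift_edge h (by norm_num))).trans e11_2
        · norm_num at h
      · obtain ⟨y, hy⟩ := exists_prime_elt (G := G) 5 (hord ▸ d5)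
        obtain ⟨⟨v, hv⟩, hov⟩ := exists_prime_orderOf_dvd_card' 2 (hk ▸ dvd_pow_self 2 hk0 : 2 ∣ Nat.card N)
        rw [Subgroup.orderOf_mk] at hov
        have hyv := commute_of_normalizes N (s := 5) (y := y) (by rw [normalizer_eq_top_iff.2 hNn]; exact mem_top y)
          (by rw [← hy, pow_orderOf_eq_one]) (fun c hc hmod => by
            rw [hk] at hc hmod ⊢
            obtain ⟨i, hi, rfl⟩ := (Nat.dvd_prime_pow Nat.prime_two).1 hc
            interval_cases k <;> interval_cases i <;> first | rfl | omega | exact absurd hmod (by decide)) hv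
        exact side 5 2 h5.out h2.out d5 d2 (edge_of_commute h5.out h2.out (by norm_num) hy hov hyv.symm)
    · -- a normal subgroup of order 5
      have honly : ∀ {d : ℕ}, d.Prime → d ∣ Nat.card N → d = 5 := fun {d} hd hdd => by
        obtain ⟨h1, hne, -⟩ := hprimes d hd hdd
        rw [e] at h1
        exact (Nat.prime_dvd_prime_iff_eq hd h5.out).1 ((hd.dvd_mul.1 (show d ∣ 5 * 11 from h1)).resolve_right
          fun h => hne ((Nat.prime_dvd_prime_iff_eq hd h11.out).1 h))
      obtain ⟨k, hk⟩ : ∃ k, Nat.card N = 5 ^ k := ⟨_, Nat.eq_prime_pow_of_unique_prime_dvd Nat.card_pos.ne' honly⟩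
      have hk1 : k = 1 := by
        have hk0 : k ≠ 0 := fun h => hne1 (by rw [hk, h, pow_zero])
        by_contra hne
        exact absurd ((pow_dvd_pow 5 (show 2 ≤ k by omega)).trans (hk ▸ hord ▸ card_subgroup_dvd_card N)) (by norm_num)
      subst hk1
      rw [pow_one] at hk
      obtain ⟨⟨v, hv⟩, hov⟩ := exists_prime_orderOf_dvd_card' 5 (dvd_of_eq hk.symm)
      rw [Subgroup.orderOf_mk] at hov
      have hzN : zpowers v = N := eq_of_le_of_card_ge (zpowers_le.2 hv) (by rw [hk, card_zpowers_prime hov])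
      have hnv : Nat.card (nz v) = 7920 := by
        show Nat.card (normalizer ((zpowers v : Subgroup G) : Set G)) = _
        rw [hzN, normalizer_eq_top_iff.2 hNn, card_top, hord]
      have hd := card_nz_dvd hov
      rw [hnv] at hd
      have e52 := side 5 2 h5.out h2.out d5 d2 (edge_of_dvd_cz h5.out (by norm_num) hov (by omega))
      have e53 := side 5 3 h5.out h3.out d5 d3 (edge_of_dvd_cz h5.out (by norm_num) hov (by omega))
      exact hconn (e53.symm.trans e52) e52
        ((side 11 5 h11.out h5.out d11 d5 (hprimes 5 h5.out (dvd_of_eq hk.symm)).2.2).trans e52)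
  have : Nontrivial G := Finite.one_lt_card_iff_nontrivial.1 (by rw [hord]; norm_num)
  by_contra hsimple
  obtain ⟨N₀, hN₀n, hN₀b, hN₀t⟩ : ∃ N : Subgroup G, N.Normal ∧ N ≠ ⊥ ∧ N ≠ ⊤ := by
    by_contra hno
    push Not at hno
    exact hsimple ⟨fun H hH => (eq_or_ne H ⊥).imp id (hno H hH)⟩
  -- a minimal normal subgroup
  have hex : ∃ n, ∃ N : Subgroup G, N.Normal ∧ N ≠ ⊥ ∧ Nat.card N = n := ⟨_, N₀, hN₀n, hN₀b, rfl⟩
  obtain ⟨W, hWn, hWb, hWc⟩ := Nat.find_spec hex
  have hmin : ∀ M : Subgroup G, M.Normal → M ≤ W → M = ⊥ ∨ M = W := fun M hM hMW => by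
    refine (eq_or_ne M ⊥).imp id fun hMb => eq_of_le_of_card_ge hMW ?_
    rw [hWc]; exact Nat.find_min' hex ⟨M, hM, hMb, rfl⟩
  have hWt : W ≠ ⊤ := fun h => by
    rcases hmin N₀ hN₀n (h ▸ le_top) with h' | h'
    · exact hN₀b h'
    · exact hN₀t (h'.trans h)
  have hW11 := hdiv W hWn hWb
  obtain ⟨⟨w, hwW⟩, how⟩ := exists_prime_orderOf_dvd_card' 11 hW11
  have how' : orderOf (⟨w, hwW⟩ : W) = 11 := how
  rw [Subgroup.orderOf_mk] at how
  obtain ⟨m, hm⟩ := hW11
  have hWd := card_subgroup_dvd_card W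
  rw [hord, hm] at hWd
  have hm720 : m ∣ 720 := (Nat.mul_dvd_mul_iff_left (by norm_num : 0 < 11)).1 (show 11 * m ∣ 11 * 720 from hWd)
  have hm11 : ¬ 11 ∣ m := fun h => absurd (h.trans hm720) (by norm_num)
  have hsub := card_sylow_sub W how hwW hm hm11
  have hfG : (Nat.card G).factorization 11 = 1 :=
    SmallSimple.factorization_mul_eq h11.out (show Nat.card G = 11 ^ 1 * 720 by rw [hord]; norm_num) (by norm_num)
  have hfrat : normalizer ((zpowers w : Subgroup G) : Set G) ⊔ W = ⊤ :=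
    Sylow.normalizer_sup_eq_top' (Sylow.ofCard (zpowers w) (by rw [card_zpowers_prime how, hfG, pow_one]))
      (zpowers_le.2 hwW)
  have hidx : W.relIndex (nz w) = W.index := by rw [← relIndex_top_right, ← hfrat, relIndex_sup_right]
  have hinter : Nat.card (nz w ⊓ W : Subgroup G) * W.index = Nat.card (nz w) := by
    rw [← hidx, ← inf_relIndex_right, inf_comm W, ← Nat.card_congr (subgroupOfEquivOfLe
      (inf_le_left : nz w ⊓ W ≤ nz w)).toEquiv]
    exact card_mul_index _
  have hnW : Nat.card (Sylow 11 W) = Nat.card (Sylow 11 G) := by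
    have h1 : Nat.card (Sylow 11 W) * (Nat.card (nz w ⊓ W : Subgroup G) * W.index) =
        Nat.card (Sylow 11 G) * (Nat.card (nz w ⊓ W : Subgroup G) * W.index) := by
      rw [← mul_assoc, hsub, card_mul_index, hinter, card_sylow_mul_nz how hG11 (by norm_num)]
    exact Nat.eq_of_mul_eq_mul_right (hinter ▸ Nat.card_pos) h1
  have hdm := sylow_count_dvd (r := 11) hm hm11
  rw [hnW] at hdm
  -- the simple group `W`
  obtain ⟨T, hTg, k, hTs, hk, ⟨φ⟩⟩ := Perm.exists_simple_power W hWb hmin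
  have hTk : Nat.card W = Nat.card T ^ k := by
    rw [Nat.card_congr φ.toEquiv, Nat.card_fun, Nat.card_fin]
  have hk1 : k = 1 := by
    by_contra hne
    have h11T : 11 ∣ Nat.card T := h11.out.dvd_of_dvd_pow (hTk ▸ hm ▸ dvd_mul_right 11 m)
    have := (pow_dvd_pow_of_dvd h11T k).trans (hTk ▸ hord ▸ card_subgroup_dvd_card W)
    exact absurd ((pow_dvd_pow 11 (show 2 ≤ k by omega)).trans this) (by norm_num)
  subst hk1
  let f : W ≃* T := φ.trans (MulEquiv.funUnique (Fin 1) T)
  have : IsSimpleGroup W := by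
    have : Nontrivial W := (Subgroup.nontrivial_iff_ne_bot W).2 hWb
    exact IsSimpleGroup.isSimpleGroup_of_surjective f.symm.toMonoidHom f.symm.surjective
  have hprop : 11 * m ≠ 7920 := fun h => hWt (eq_top_of_card_eq W (by rw [hm, h, hord]))
  rcases hbig with e | e
  · rw [e] at hdm hnW
    obtain ⟨l, hl⟩ := hdm
    have hl16 : l ∣ 2 ^ 4 := (Nat.mul_dvd_mul_iff_left (by norm_num : 0 < 45)).1
      (show 45 * l ∣ 45 * 2 ^ 4 from hl ▸ hm720)
    obtain ⟨j, hj4, rfl⟩ := (Nat.dvd_prime_pow Nat.prime_two).1 hl16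
    interval_cases j
    · have hWnz := card_sylow_mul_nz how' hm hm11
      rw [hnW, hm, hl] at hWnz
      refine false_of_nz_le_cz (G := W) how' hm hm11 (by omega) ?_
      exact Nat.le_of_dvd Nat.card_pos ((show Nat.card (nz (⟨w, hwW⟩ : W)) = 11 by omega) ▸ dvd_card_cz how' rfl)
    · refine SmallSimple.false_of_min_exponent_one (G := W) Nat.prime_two (m := 495) (by rw [hm, hl]; norm_num) (by norm_num) ?_
      intro r hr hrd
      refine lt_of_le_of_ne hr.two_le fun h => ?_
      subst h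
      norm_num at hrd
    · exact false_of_simple (G := W) (j := 2) (by rw [hm, hl]) (Or.inl rfl) hnW
    · exact false_of_simple (G := W) (j := 3) (by rw [hm, hl]) (Or.inr rfl) hnW
    · omega
  · rw [e] at hdm hnW
    obtain ⟨l, hl⟩ := hdm
    have hl5 : l ∣ 5 := (Nat.mul_dvd_mul_iff_left (by norm_num : 0 < 144)).1 (show 144 * l ∣ 144 * 5 from hl ▸ hm720)
    rcases (Nat.dvd_prime h5.out).1 hl5 with rfl | rfl
    · have hWnz := card_sylow_mul_nz how' hm hm11
      rw [hnW, hm, hl] at hWnz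
      refine false_of_nz_le_cz (G := W) how' hm hm11 (by omega) ?_
      exact Nat.le_of_dvd Nat.card_pos ((show Nat.card (nz (⟨w, hwW⟩ : W)) = 11 by omega) ▸ dvd_card_cz how' rfl)
    · omega

end Cfsg.Agent.S2490
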