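import Cfsg.Statements.S0218
import Mathlib

set_option autoImplicit false
open Cfsg

namespace Cfsg.Agent.S0218

/-- The generalized quaternion group of order 2^(n+3) contains exactly one element of order 2. -/
theorem result (n : ℕ) : Nat.card {x : QuaternionGroup (2 ^ (n + 1)) // orderOf x = 2} = 1 := by
  have : NeZero (2 ^ (n + 1)) := ⟨by positivity⟩
  rw [Nat.card_eq_one_iff_unique]
  refine ⟨⟨fun x y => ?_⟩, ⟨⟨QuaternionGroup.a ((2 ^ (n + 1) : ℕ) : ZMod (2 * 2 ^ (n + 1))), ?_⟩⟩⟩
  · have key : ∀ z : QuaternionGroup (2 ^ (n + 1)), orderOf z = 2 →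
        z = QuaternionGroup.a ((2 ^ (n + 1) : ℕ) : ZMod (2 * 2 ^ (n + 1))) := by
      rintro (i | i) hz
      · congr 1
        rw [QuaternionGroup.orderOf_a] at hz
        have hlt : i.val < 2 * 2 ^ (n + 1) := ZMod.val_lt i
        have hg := Nat.gcd_dvd_left (2 * 2 ^ (n + 1)) i.val
        have h2 := Nat.eq_mul_of_div_eq_left hg hz
        have hg' : Nat.gcd (2 * 2 ^ (n + 1)) i.val = 2 ^ (n + 1) := by omega
        obtain ⟨k, hk⟩ := Nat.gcd_dvd_right (2 * 2 ^ (n + 1)) i.val
        rw [hg'] at hk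
        rw [← ZMod.natCast_zmod_val i, hk]
        have hk2 : k < 2 := by
          by_contra h
          have : 2 ^ (n + 1) * 2 ≤ 2 ^ (n + 1) * k := Nat.mul_le_mul_left _ (by omega)
          omega
        interval_cases k
        · simp [hk] at hg'
        · simp
      · simp [QuaternionGroup.orderOf_xa] at hz
    exact Subtype.ext ((key x.1 x.2).trans (key y.1 y.2).symm)
  · show orderOf _ = 2
    rw [QuaternionGroup.orderOf_a, ZMod.val_natCast,
      Nat.mod_eq_of_lt (by have := Nat.two_pow_pos (n + 1); omega), Nat.gcd_mul_left_left,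
      Nat.mul_div_cancel _ (Nat.two_pow_pos _)]

end Cfsg.Agent.S0218
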