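import Cfsg.Statements.S3304
import Cfsg.Agent.Lib.GL23.QuaternionRadical
import Cfsg.Agent.Lib.IsolatedP.Cyclic

set_option autoImplicit false
open Cfsg

namespace Cfsg.Agent.S3304

open Subgroup in
/-- A 2-group of rank at most one has at most one involution. -/
theorem involution_eq {P : Type*} [Group P] [Finite P] (hP : IsPGroup 2 P) (h : Cfsg.PRankLE 2 1 P)
    {x y : P} (hx : orderOf x = 2) (hy : orderOf y = 2) : x = y := by
  have : Fact (Nat.Prime 2) := ⟨Nat.prime_two⟩
  have hP1 : Nontrivial P := ⟨x, 1, fun e => by rw [e, orderOf_one] at hx; omega⟩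
  obtain ⟨z, -, hz, hzo⟩ := PGroup.exists_orderOf_eq_mem_center hP ⊤ top_ne_bot
  have key : ∀ a : P, orderOf a = 2 → a = z := by
    intro a ha
    have hcomm : Commute z a := (mem_center_iff.mp hz a).symm
    set A := closure ({z, a} : Set P) with hA
    have hab : IsMulCommutative ↥A := isMulCommutative_closure (by
      rintro b (hb | hb) c (hc | hc) <;> rw [hb, hc] <;>
        first | rfl | exact hcomm | exact hcomm.symm)
    have hpow : ∀ u ∈ A, u ^ 2 = 1 := by
      intro u hu
      induction hu using closure_induction with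
      | mem u hu =>
        rcases hu with hu | hu <;> rw [hu]
        · rw [← hzo]; exact pow_orderOf_eq_one z
        · rw [← ha]; exact pow_orderOf_eq_one a
      | one => exact one_pow 2
      | mul u v hu hv hup hvp =>
        have : Commute u v := congrArg Subtype.val (hab.is_comm.comm (⟨u, hu⟩ : A) ⟨v, hv⟩)
        rw [this.mul_pow, hup, hvp, one_mul]
      | inv u _ hu => rw [inv_pow, hu, inv_one]
    have hle := IsolatedP.card_le_of_pow_eq_one hP h A hpow
    have hzle : zpowers z ≤ A := zpowers_le.mpr (subset_closure (Or.inl rfl))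
    have heq := eq_of_le_of_card_ge hzle (by rw [Nat.card_zpowers, hzo]; exact hle)
    have haz : a ∈ zpowers z := heq ▸ subset_closure (Or.inr rfl)
    obtain ⟨n, rfl⟩ := haz
    simp only at ha ⊢
    rw [← zpow_mod_orderOf z n, hzo] at ha ⊢
    rcases Int.emod_two_eq n with hn | hn <;> simp_all
  rw [key x hx, key y hy]

/-- Let G be a finite solvable group in which the intersection of any two distinct Sylow 2-subgroups has 2-rank at most 1 (contains no Klein four-group). Write Q = G/O(G), O(G) the largest normal subgroup of odd order. Then Q has a normal Sylow 2-subgroup; or Q is isomorphic to GL(2,3); or Q has order 48, centre of order 2 with central quotient isomorphic to the symmetric group of degree 4, and generalized quaternion Sylow 2-subgroups of order 16 (the binary octahedral group). The last two are the two representation groups of the symmetric group of degree 4. -/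
theorem result {G : Type*} [Group G] [Finite G] (hs : Group.IsSolvable G)
    (hI : ∀ S T : Sylow 2 G, S ≠ T → Cfsg.PRankLE 2 1 ↥((S : Subgroup G) ⊓ (T : Subgroup G))) :
    (∃ P : Sylow 2 (G ⧸ Cfsg.oddCore G), (P : Subgroup (G ⧸ Cfsg.oddCore G)).Normal) ∨
    Nonempty ((G ⧸ Cfsg.oddCore G) ≃* GL (Fin 2) (ZMod 3)) ∨
    (Nat.card (G ⧸ Cfsg.oddCore G) = 48 ∧ Nat.card ↥(Subgroup.center (G ⧸ Cfsg.oddCore G)) = 2 ∧
      Nonempty ((G ⧸ Cfsg.oddCore G) ⧸ Subgroup.center (G ⧸ Cfsg.oddCore G) ≃* Equiv.Perm (Fin 4)) ∧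
      ∀ P : Sylow 2 (G ⧸ Cfsg.oddCore G), Nonempty (↥(P : Subgroup (G ⧸ Cfsg.oddCore G)) ≃* QuaternionGroup 4)) := by
  classical
  have : Fact (Nat.Prime 2) := ⟨Nat.prime_two⟩
  by_cases hns : ∃ P : Sylow 2 (G ⧸ Cfsg.oddCore G), (P : Subgroup (G ⧸ Cfsg.oddCore G)).Normal
  · exact Or.inl hns
  refine Or.inr ?_
  have := hs
  set π := QuotientGroup.mk' (Cfsg.oddCore G) with hπ
  have hsurj : Function.Surjective π := QuotientGroup.mk'_surjective _
  have hsQ : Group.IsSolvable (G ⧸ Cfsg.oddCore G) := Group.isSolvable_of_surjective hsurj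
  set T := Cfsg.pCore 2 (G ⧸ Cfsg.oddCore G) with hTdef
  have hT : T.Normal := Components.pCore_normal' 2
  have hT2 : IsPGroup 2 ↥T := Components.isPGroup_pCore' 2
  have hC := SolvableTwo.centralizer_pCore_two_le hsQ fun M hM hMo =>
    SolvableTwo.eq_bot_of_odd_normal (Cfsg.oddCore G) rfl M hM hMo
  -- lift to the intersection of two Sylow subgroups
  let S : Sylow 2 G := default
  let M : Subgroup G := T.comap π
  let T0 : Subgroup G := (S : Subgroup G) ⊓ M
  have hT0 : IsPGroup 2 ↥T0 := S.2.to_le inf_le_left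
  obtain ⟨R', hR'⟩ : ∃ R' : Sylow 2 (G ⧸ Cfsg.oddCore G), R' ≠ S.mapSurjective hsurj := by
    by_contra hc
    push Not at hc
    have : Subsingleton (Sylow 2 (G ⧸ Cfsg.oddCore G)) := ⟨fun a b => (hc a).trans (hc b).symm⟩
    exact hns ⟨S.mapSurjective hsurj, Sylow.normal_of_subsingleton _⟩
  set W : Subgroup G := (R' : Subgroup (G ⧸ Cfsg.oddCore G)).comap π with hW
  have hT0W : T0 ≤ W := fun x hx => PCore.pCore_le_sylow R' (show π x ∈ T from hx.2)
  have hT0W2 : IsPGroup 2 ↥(T0.subgroupOf W) := hT0.comap_of_injective W.subtype W.subtype_injective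
  obtain ⟨P, hP⟩ := hT0W2.exists_le_sylow
  obtain ⟨R, hR⟩ := (P.2.map W.subtype).exists_le_sylow
  have hT0R : T0 ≤ (R : Subgroup G) := fun x hx =>
    hR ⟨⟨x, hT0W hx⟩, hP (show (⟨x, hT0W hx⟩ : ↥W) ∈ T0.subgroupOf W from hx), rfl⟩
  have hRS : R ≠ S := by
    intro e
    refine hR' (Sylow.ext ?_)
    have hsub : Function.Surjective (π.subgroupComap (R' : Subgroup (G ⧸ Cfsg.oddCore G))) :=
      π.subgroupComap_surjective_of_surjective _ hsurj
    have htop : (P : Subgroup ↥W).map (π.subgroupComap (R' : Subgroup (G ⧸ Cfsg.oddCore G))) = ⊤ := by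
      rw [← Sylow.coe_mapSurjective hsub P]
      exact ((P.mapSurjective hsub).3 (R'.2.to_subgroup ⊤) le_top).symm
    rw [← e]
    refine (R'.3 (R.mapSurjective hsurj).2 fun y hy => ?_).symm
    obtain ⟨⟨x, hxW⟩, hx, hxy⟩ := htop.ge (Subgroup.mem_top (⟨y, hy⟩ : ↥(R' : Subgroup (G ⧸ Cfsg.oddCore G))))
    exact ⟨x, hR ⟨⟨x, hxW⟩, hx, rfl⟩, congrArg Subtype.val hxy⟩
  have hrank : Cfsg.PRankLE 2 1 ↥T0 := by
    intro A hA hpow
    have hle : T0 ≤ (S : Subgroup G) ⊓ (R : Subgroup G) := le_inf inf_le_left hT0R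
    have := hI S R hRS.symm (A.map (Subgroup.inclusion hle)) (Subgroup.map_isMulCommutative A _) (by
      rintro _ ⟨a, ha, rfl⟩
      rw [← map_pow, hpow a ha, map_one])
    rwa [Subgroup.card_map_of_injective (Subgroup.inclusion_injective hle)] at this
  have hinj : ∀ x ∈ T0, π x = 1 → x = 1 := by
    intro x hx h1
    obtain ⟨k, hk⟩ := IsPGroup.iff_orderOf.mp hT0 ⟨x, hx⟩
    rw [Subgroup.orderOf_mk] at hk
    refine SolvableTwo.odd_pow_two_eq_one (k := k) (SolvableTwo.odd_card_oddCore (G := G)) ?_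
      (hk ▸ pow_orderOf_eq_one x)
    exact congrArg Subtype.val (pow_card_eq_one'
      (x := (⟨x, (QuotientGroup.eq_one_iff x).mp h1⟩ : ↥(Cfsg.oddCore G))))
  have hlift : ∀ y : ↥T, orderOf y = 2 → ∃ x : ↥T0, orderOf x = 2 ∧ π x = y := by
    intro y hy
    obtain ⟨x, hxS, hxy⟩ := PCore.pCore_le_sylow (S.mapSurjective hsurj) y.2
    have hxM : x ∈ M := by show π x ∈ T; rw [hxy]; exact y.2
    refine ⟨⟨x, hxS, hxM⟩, orderOf_eq_prime (Subtype.ext ?_) ?_, hxy⟩
    · refine hinj _ (pow_mem (show x ∈ T0 from ⟨hxS, hxM⟩) 2) ?_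
      show π (x ^ 2) = 1
      rw [map_pow, hxy, ← Subgroup.coe_pow, ← hy, pow_orderOf_eq_one, Subgroup.coe_one]
    · intro e
      have : (y : G ⧸ Cfsg.oddCore G) = 1 := by rw [← hxy, show x = 1 from congrArg Subtype.val e, map_one]
      rw [show y = 1 from Subtype.ext this, orderOf_one] at hy
      omega
  have huniq : ∀ x y : ↥T, orderOf x = 2 → orderOf y = 2 → x = y := by
    intro x y hx hy
    obtain ⟨a, ha, hax⟩ := hlift x hx
    obtain ⟨b, hb, hby⟩ := hlift y hy
    exact Subtype.ext (by rw [← hax, ← hby, involution_eq hT0 hrank ha hb])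
  by_cases hinv : ∃ s, s * s = 1 ∧ s ∉ T
  · obtain ⟨s, hs1, hs2⟩ := hinv
    exact Or.inl (GL23.nonempty_GL23 hT hT2 huniq hC hns hs1 hs2)
  · push Not at hinv
    exact Or.inr (GL23.octahedral hT hT2 huniq hC hns hinv)

end Cfsg.Agent.S3304
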