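import Cfsg.Statements.S0904
import Cfsg.Agent.Lib.Blocks.PrimePowerDegree

set_option autoImplicit false
open Cfsg

namespace Cfsg.Agent.S0904

/-- Let G be a finite simple group of order p ^ a * q ^ b * r with p, q, r distinct primes. Then every Sylow r-subgroup S of G satisfies C_G(S) = S. -/
theorem result {G : Type*} [Group G] [Finite G] [IsSimpleGroup G] (p q r a b : ℕ) (hp : p.Prime) (hq : q.Prime) [Fact r.Prime] (hpq : p ≠ q) (hpr : p ≠ r) (hqr : q ≠ r) (hcard : Nat.card G = p ^ a * q ^ b * r) (S : Sylow r G) : Subgroup.centralizer (S : Set G) = (S : Subgroup G) := by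
  classical
  haveI := Fact.mk hp
  haveI := Fact.mk hq
  have hr : r.Prime := Fact.out
  have hS : Nat.card (S : Subgroup G) = r := by
    rw [S.card_eq_multiplicity, hcard, Nat.factorization_mul (Nat.mul_ne_zero (pow_ne_zero _ hp.ne_zero)
        (pow_ne_zero _ hq.ne_zero)) hr.ne_zero,
      Nat.factorization_mul (pow_ne_zero _ hp.ne_zero) (pow_ne_zero _ hq.ne_zero),
      hp.factorization_pow, hq.factorization_pow, hr.factorization]
    simp [hpr, hqr]
  haveI : Nontrivial (S : Subgroup G) :=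
    Finite.one_lt_card_iff_nontrivial.1 (by rw [hS]; exact hr.one_lt)
  obtain ⟨s, hs⟩ := exists_ne (1 : (S : Subgroup G))
  have hsord : orderOf (s : G) = r := by
    rw [Subgroup.orderOf_coe]
    have hd := orderOf_dvd_natCard s
    rw [hS] at hd
    exact ((Nat.dvd_prime hr).1 hd).resolve_left
      (fun h => hs (orderOf_eq_one_iff.1 h))
  have hle : (S : Subgroup G) ≤ Subgroup.centralizer (S : Set G) := by
    haveI := isCyclic_of_prime_card hS
    intro u hu w hw
    obtain ⟨g, hg⟩ := IsCyclic.exists_generator (α := (S : Subgroup G))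
    obtain ⟨i, hi⟩ := Subgroup.mem_zpowers_iff.1 (hg ⟨u, hu⟩)
    obtain ⟨j, hj⟩ := Subgroup.mem_zpowers_iff.1 (hg ⟨w, hw⟩)
    have := congrArg Subtype.val (Commute.zpow_zpow_self g j i).eq
    rw [hi, hj] at this
    exact this
  refine le_antisymm ?_ hle
  set C := Subgroup.centralizer (S : Set G)
  by_contra hne
  have h1 := ((S : Subgroup G).subgroupOf C).card_mul_index
  rw [Nat.card_congr (Subgroup.subgroupOfEquivOfLe hle).toEquiv, hS] at h1
  have hm : ((S : Subgroup G).subgroupOf C).index ≠ 1 := fun h =>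
    hne (Subgroup.subgroupOf_eq_top.1 (Subgroup.index_eq_one.1 h))
  obtain ⟨l, hl, hlm⟩ := Nat.exists_prime_and_dvd hm
  have hrm : r * ((S : Subgroup G).subgroupOf C).index ∣ p ^ a * q ^ b * r := by
    rw [h1, ← hcard]
    exact Subgroup.card_subgroup_dvd_card C
  rw [mul_comm (p ^ a * q ^ b) r] at hrm
  have hlpq := hlm.trans (Nat.dvd_of_mul_dvd_mul_left hr.pos hrm)
  haveI := Fact.mk hl
  obtain ⟨x, hx⟩ := exists_prime_orderOf_dvd_card' (G := C) l (hlm.trans (Dvd.intro_left r h1))
  rw [← Subgroup.orderOf_coe] at hx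
  have hc : Commute (x : G) (s : G) := (x.2 (s : G) s.2).symm
  have hl' : l = p ∨ l = q := ((hl.dvd_mul).1 hlpq).imp
    (fun h => (Nat.prime_dvd_prime_iff_eq hl hp).1 (hl.dvd_of_dvd_pow h))
    (fun h => (Nat.prime_dvd_prime_iff_eq hl hq).1 (hl.dvd_of_dvd_pow h))
  have hlr : l ≠ r := by rcases hl' with rfl | rfl <;> assumption
  have hna : ∃ u v : G, u * v ≠ v * u := by
    by_contra hab
    push Not at hab
    have hprime := Cfsg.Agent.CharInt.card_prime_of_simple_comm (G := G) hab
    exact hlr (((Nat.prime_dvd_prime_iff_eq hl hprime).1 (hx ▸ orderOf_dvd_natCard (x : G))).trans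
      ((Nat.prime_dvd_prime_iff_eq hr hprime).1 (hsord ▸ orderOf_dvd_natCard (s : G))).symm)
  rcases hl' with rfl | rfl
  · exact Cfsg.Agent.Blocks.isPRegular_centralizer (p := l) hna hq hpr hqr hcard hc hx hsord
  · exact Cfsg.Agent.Blocks.isPRegular_centralizer (p := l) hna hp hqr hpr
      (hcard.trans (by rw [mul_comm (p ^ a)])) hc hx hsord

end Cfsg.Agent.S0904
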