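import Cfsg.Statements.S1001
import Cfsg.Agent.S0904
import Cfsg.Agent.Lib.CharInt.Burnside

set_option autoImplicit false
open Cfsg

namespace Cfsg.Agent.S1001

/-- In a finite simple group whose order has the form p * 3^a * 2^b with p prime, the centralizer of any element of order p is the cyclic group it generates. -/
theorem result {G : Type*} [Group G] [Finite G] [IsSimpleGroup G] (p a b : ℕ) (hp : p.Prime) (hG : Nat.card G = p * 3 ^ a * 2 ^ b) (x : G) (hx : orderOf x = p) : Subgroup.centralizer ({x} : Set G) = Subgroup.zpowers x := by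
  haveI := Fintype.ofFinite G
  haveI := Fact.mk hp
  have hx1 : x ≠ 1 := fun h => by rw [h, orderOf_one] at hx; exact hp.one_lt.ne hx
  have hle : Subgroup.zpowers x ≤ Subgroup.centralizer ({x} : Set G) :=
    Subgroup.zpowers_le.2 (Subgroup.mem_centralizer_singleton_iff.2 rfl)
  refine (Subgroup.eq_of_le_of_card_ge hle ?_).symm
  rw [Nat.card_zpowers, hx]
  by_cases hsol : IsSolvable G
  · haveI : Nontrivial G := ⟨⟨x, 1, hx1⟩⟩
    have hpr : (Nat.card G).Prime :=
      CharInt.card_prime_of_simple_comm (IsSimpleGroup.comm_iff_isSolvable.2 hsol)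
    have hd : p ∣ Nat.card G := hx ▸ orderOf_dvd_natCard x
    rw [(Nat.prime_dvd_prime_iff_eq hp hpr).1 hd]
    exact Nat.le_of_dvd Nat.card_pos (Subgroup.card_subgroup_dvd_card _)
  have hp2 : p ≠ 2 := by
    rintro rfl
    exact hsol (CharInt.isSolvable_of_card_eq Nat.prime_three Nat.prime_two
      (a := a) (b := b + 1) (by rw [hG]; ring))
  have hp3 : p ≠ 3 := by
    rintro rfl
    exact hsol (CharInt.isSolvable_of_card_eq Nat.prime_three Nat.prime_two
      (a := a + 1) (b := b) (by rw [hG]; ring))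
  have hz : IsPGroup p (Subgroup.zpowers x) :=
    IsPGroup.of_card (n := 1) (by rw [Nat.card_zpowers, hx, pow_one])
  obtain ⟨P, hP⟩ := hz.exists_le_sylow
  have hnd : ¬ p ∣ 3 ^ a * 2 ^ b := fun h => by
    rcases hp.dvd_mul.1 h with h | h
    · exact hp3 ((Nat.prime_dvd_prime_iff_eq hp Nat.prime_three).1 (hp.dvd_of_dvd_pow h))
    · exact hp2 ((Nat.prime_dvd_prime_iff_eq hp Nat.prime_two).1 (hp.dvd_of_dvd_pow h))
  have hPc : Nat.card (P : Subgroup G) = p := by
    rw [P.card_eq_multiplicity, hG, mul_assoc, Nat.factorization_mul hp.ne_zero (by positivity),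
      Finsupp.add_apply, hp.factorization_self, Nat.factorization_eq_zero_of_not_dvd hnd]
    simp
  have heq : Subgroup.zpowers x = (P : Subgroup G) :=
    Subgroup.eq_of_le_of_card_ge hP (by rw [Nat.card_zpowers, hx, hPc])
  have hC : Subgroup.centralizer ((P : Subgroup G) : Set G) = (P : Subgroup G) :=
    Cfsg.Agent.S0904.result 3 2 p a b Nat.prime_three Nat.prime_two (by norm_num) (Ne.symm hp3)
      (Ne.symm hp2) (by rw [hG]; ring) P
  rw [← Subgroup.centralizer_closure, ← Subgroup.zpowers_eq_closure, heq, hC, hPc]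

end Cfsg.Agent.S1001
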