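import Cfsg.Statements.S2034
import Cfsg.Agent.Lib.Mathieu.PackSub
import Cfsg.Agent.Lib.Schur.SylowLocal

/-!
The Schur multiplier of M₁₁ is trivial: the Sylow subgroups for 5 and 11 are cyclic, the one for 2
is semidihedral, and the one for 3 is elementary of order 9 with an element of the normaliser of
determinant −1.
-/

set_option autoImplicit false
set_option maxRecDepth 20000
open Cfsg

namespace Cfsg.Agent.S2034

open Cfsg.Agent.Mathieu Cfsg.Agent.Schur

def a2 : ℕ := 0xf110e1516100b120a0702081705040d1406130301090c00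
def b2 : ℕ := 0x50a14150b12161011070204170f080c0e06130901030d00
def a3 : ℕ := 0x111713140510160c0f0e09120a0703020b0815040d060100
def b3 : ℕ := 0x1716050e15081102140f10060a070c030b091304120d0100
def g3 : ℕ := 0x17160b0e0a03110d0f14100915130c080506070112020400

def list2 : List ℕ :=
  (List.range 8).map (fun i => packPowS 24 a2 i) ++
    (List.range 8).map (fun i => packMulS 24 (packPowS 24 a2 i) b2)

def list3 : List ℕ :=
  (List.range 3).flatMap fun i =>
    (List.range 3).map fun j => packMulS 24 (packPowS 24 a3 i) (packPowS 24 b3 j)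

theorem mem11 {l : ℕ} (h : (permOK 24 l && presCode l && mapsMask l dodMask dodMask &&
    (app l 0 == 0)) = true) : ∃ σ ∈ Spor.M11, Rep ptEnc σ l := by
  simp only [Bool.and_eq_true, beq_iff_eq] at h
  obtain ⟨σ, hr⟩ := exists_rep (e := ptEnc) h.1.1.1
  have h0 := hr.apply_idx (show 0 < 24 by norm_num)
  rw [h.2, idx_zero] at h0
  refine ⟨σ, mem_M11_iff.2 ⟨mem_M12_iff.2 ⟨mem_M24_of_rep hr h.1.1.2, ?_⟩, h0⟩, hr⟩
  rw [squareDodecad_eq, ← mapsMask_iff hr]; exact h.1.2

theorem mem_list2 : ∀ l ∈ list2, ∃ σ ∈ Spor.M11, Rep ptEnc σ l := fun l hl => mem11 (by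
  revert l; decide +kernel)

theorem mem_list3 : ∀ l ∈ list3, ∃ σ ∈ Spor.M11, Rep ptEnc σ l := fun l hl => mem11 (by
  revert l; decide +kernel)

abbrev Q2 : Subgroup Spor.M11 := packSub Spor.M11 ptEnc list2 mem_list2 (by decide +kernel)

abbrev Q3 : Subgroup Spor.M11 := packSub Spor.M11 ptEnc list3 mem_list3 (by decide +kernel)

theorem card_Q2 : Nat.card Q2 = 2 ^ (Nat.card Spor.M11).factorization 2 := by
  rw [card_packSub (by decide +kernel), card_M11]
  have h : (7920 : ℕ).factorization 2 = 4 := by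
    rw [show (7920 : ℕ) = 2 ^ 4 * 495 by norm_num, Nat.factorization_mul (by norm_num) (by norm_num),
      Nat.Prime.factorization_pow Nat.prime_two, Finsupp.add_apply,
      Nat.factorization_eq_zero_of_not_dvd (show ¬ 2 ∣ 495 by norm_num)]
    simp
  rw [h]; rfl

theorem card_Q3 : Nat.card Q3 = 3 ^ (Nat.card Spor.M11).factorization 3 := by
  rw [card_packSub (by decide +kernel), card_M11]
  have h : (7920 : ℕ).factorization 3 = 2 := by
    rw [show (7920 : ℕ) = 3 ^ 2 * 880 by norm_num, Nat.factorization_mul (by norm_num) (by norm_num),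
      Nat.Prime.factorization_pow Nat.prime_three, Finsupp.add_apply,
      Nat.factorization_eq_zero_of_not_dvd (show ¬ 3 ∣ 880 by norm_num)]
    simp
  rw [h]; rfl

theorem local_two {Γ : Type} [Group Γ] [Finite Γ] (σ : Γ →* Spor.M11)
    (hσ : Function.Surjective σ) (hz : σ.ker ≤ Subgroup.center Γ) :
    ∃ P : Sylow 2 Γ, ⁅(P : Subgroup Γ), (P : Subgroup Γ)⁆ ⊓ σ.ker = ⊥ := by
  haveI := Fact.mk Nat.prime_two
  obtain ⟨P, hP⟩ := exists_sylow_map_eq σ hσ (Sylow.ofCard Q2 card_Q2)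
  replace hP : (P : Subgroup Γ).map σ = Q2 := hP
  obtain ⟨σa, hσa, hra⟩ := mem11 (l := a2) (by decide +kernel)
  obtain ⟨σb, hσb, hrb⟩ := mem11 (l := b2) (by decide +kernel)
  let a : Spor.M11 := ⟨σa, hσa⟩
  let b : Spor.M11 := ⟨σb, hσb⟩
  have hn : (24 : ℕ) ≤ 256 := by norm_num
  have hpowR : ∀ i, Rep ptEnc ((a ^ i : Spor.M11) : Equiv.Perm GolayPt) (packPowS 24 a2 i) :=
    fun i => by rw [packPowS_eq]; exact rep_packPow hn hra i
  have hmulR : ∀ i, Rep ptEnc ((a ^ i * b : Spor.M11) : Equiv.Perm GolayPt)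
      (packMulS 24 (packPowS 24 a2 i) b2) :=
    fun i => by rw [packMulS_eq]; exact rep_packMul (hpowR i) hrb
  have hcov : ∀ x ∈ Q2, ∃ i, i < 8 ∧ (x = a ^ i ∨ x = a ^ i * b) := by
    rintro x ⟨l, hl, hr⟩
    simp only [list2, List.mem_append, List.mem_map, List.mem_range] at hl
    rcases hl with ⟨i, hi, rfl⟩ | ⟨i, hi, rfl⟩
    · exact ⟨i, hi, .inl (Subtype.ext (hr.unique (hpowR i)))⟩
    · exact ⟨i, hi, .inr (Subtype.ext (hr.unique (hmulR i)))⟩
  have haQ : a ∈ Q2 := ⟨packPowS 24 a2 1,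
    List.mem_append_left _ (List.mem_map.2 ⟨1, by simp, rfl⟩), by simpa using hpowR 1⟩
  have hbQ : b ∈ Q2 := ⟨packMulS 24 (packPowS 24 a2 0) b2,
    List.mem_append_right _ (List.mem_map.2 ⟨0, by simp, rfl⟩), by simpa using hmulR 0⟩
  have hb2 : b * b = a ^ 4 := Subtype.ext ((rep_packMul hrb hrb).of_same (b := packPowS 24 a2 4)
    (by decide +kernel) |>.unique (hpowR 4))
  have hba : b * a = a ^ 3 * b := Subtype.ext ((rep_packMul hrb hra).of_same
    (b := packMulS 24 (packPowS 24 a2 3) b2) (by decide +kernel) |>.unique (hmulR 3))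
  have ha8 : a ^ 8 = 1 := Subtype.ext ((hpowR 8).eq_one (by decide +kernel))
  refine ⟨P, commutator_inf_ker_eq_bot_of_quaternion σ hz P (Subgroup.zpowers a) ?_ (b := b) ?_ ?_
    ?_ ?_ ?_⟩
  · rw [hP, Subgroup.zpowers_le]; exact haQ
  · rw [hP]; exact hbQ
  · rintro x ⟨k, rfl⟩
    refine ⟨3 * k, ?_⟩
    show a ^ (3 * k) = b * a ^ k * b⁻¹
    rw [← conj_zpow, hba, mul_inv_cancel_right, zpow_mul]; norm_cast
  · rw [hb2]; exact Subgroup.pow_mem _ (Subgroup.mem_zpowers a) 4
  · intro x hx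
    rw [hP] at hx
    obtain ⟨i, -, rfl | rfl⟩ := hcov x hx
    · exact .inl (Subgroup.pow_mem _ (Subgroup.mem_zpowers a) i)
    · exact .inr (by rw [mul_inv_cancel_right]; exact Subgroup.pow_mem _ (Subgroup.mem_zpowers a) i)
  · intro x hx hc
    obtain ⟨k, rfl⟩ := hx
    obtain ⟨i, hi, hik⟩ : ∃ i, i < 8 ∧ a ^ k = a ^ i := by
      refine ⟨(k % 8).toNat, by omega, ?_⟩
      rw [← zpow_natCast, Int.toNat_of_nonneg (by omega)]
      exact zpow_eq_zpow_emod k ha8
    simp only [hik] at hc ⊢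
    have h1 : samePack 24 (packMulS 24 b2 (packPowS 24 a2 i))
        (packMulS 24 (packPowS 24 a2 i) b2) = true := by
      refine Rep.same (σ := ((b * a ^ i : Spor.M11) : Equiv.Perm GolayPt)) (e := ptEnc) ?_ ?_
      · rw [packMulS_eq]; exact rep_packMul hrb (hpowR i)
      · rw [hc]; exact hmulR i
    have h2 : ∀ i < 8, samePack 24 (packMulS 24 b2 (packPowS 24 a2 i))
        (packMulS 24 (packPowS 24 a2 i) b2) = true → i = 0 ∨ i = 4 := by decide +kernel
    rcases h2 i hi h1 with rfl | rfl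
    · exact .inl (pow_zero a)
    · exact .inr hb2.symm

theorem local_three {Γ : Type} [Group Γ] [Finite Γ] (σ : Γ →* Spor.M11)
    (hσ : Function.Surjective σ) (hz : σ.ker ≤ Subgroup.center Γ) :
    ∃ P : Sylow 3 Γ, ⁅(P : Subgroup Γ), (P : Subgroup Γ)⁆ ⊓ σ.ker = ⊥ := by
  haveI := Fact.mk Nat.prime_three
  obtain ⟨P, hP⟩ := exists_sylow_map_eq σ hσ (Sylow.ofCard Q3 card_Q3)
  replace hP : (P : Subgroup Γ).map σ = Q3 := hP
  obtain ⟨σa, hσa, hra⟩ := mem11 (l := a3) (by decide +kernel)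
  obtain ⟨σb, hσb, hrb⟩ := mem11 (l := b3) (by decide +kernel)
  obtain ⟨σg, hσg, hrg⟩ := mem11 (l := g3) (by decide +kernel)
  obtain ⟨a, ha⟩ := hσ ⟨σa, hσa⟩
  obtain ⟨b, hb⟩ := hσ ⟨σb, hσb⟩
  obtain ⟨g, hg⟩ := hσ ⟨σg, hσg⟩
  have hn : (24 : ℕ) ≤ 256 := by norm_num
  have hb3 : (⟨σb, hσb⟩ : Spor.M11) ^ 3 = 1 :=
    Subtype.ext ((rep_packPow hn hrb 3).eq_one (by decide +kernel))
  refine ⟨P, ?_⟩
  rw [commutator_eq_bot_of_inverted σ hz P (a := a) (b := b) (g := g) (n := 3) (by decide)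
    (by rw [hb, hb3]) ?_ ?_ ?_ ?_, bot_inf_eq]
  · rw [ha, hb]
    exact Subtype.ext ((rep_packMul hra hrb).of_same (b := packMul 24 b3 a3) (by decide +kernel)
      |>.unique (rep_packMul hrb hra))
  · rw [ha, hg]
    exact Subtype.ext ((rep_packMul hrg hra).of_same (b := packMul 24 a3 g3) (by decide +kernel)
      |>.unique (rep_packMul hra hrg))
  · rw [hb, hg, inv_eq_of_mul_eq_one_right (b := (⟨σb, hσb⟩ : Spor.M11) ^ 2)
      (by rw [← pow_succ']; exact hb3)]
    exact Subtype.ext ((rep_packMul hrg hrb).of_same (b := packMul 24 (packPow 24 b3 2) g3)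
      (by decide +kernel) |>.unique (rep_packMul (rep_packPow hn hrb 2) hrg))
  · rw [hP, ha, hb]
    rintro x ⟨l, hl, hr⟩
    simp only [list3, List.mem_flatMap, List.mem_map, List.mem_range] at hl
    obtain ⟨i, -, j, -, rfl⟩ := hl
    rw [packMulS_eq, packPowS_eq, packPowS_eq] at hr
    have : x = (⟨σa, hσa⟩ : Spor.M11) ^ i * (⟨σb, hσb⟩ : Spor.M11) ^ j :=
      Subtype.ext (hr.unique (rep_packMul (rep_packPow hn hra i) (rep_packPow hn hrb j)))
    rw [this]
    exact Subgroup.mul_mem _ (Subgroup.pow_mem _ (Subgroup.subset_closure (by simp)) _)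
      (Subgroup.pow_mem _ (Subgroup.subset_closure (by simp)) _)

/-- The Schur multiplier of the Mathieu group M₁₁ (the stabiliser of a dodecad and one of its points in the automorphism group of the length-24 binary code) is trivial; here the Schur multiplier is described through stem extensions, as in the definitions: surjective homomorphisms onto the group from a finite group, whose kernel is central in that finite group and contained in that finite group's commutator subgroup. -/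
theorem result : Cfsg.HasCyclicSchurMultiplier ↥Cfsg.Spor.M11 1 := by
  refine hasCyclicSchurMultiplier_one fun Γ _ _ σ hσ => ?_
  refine ker_eq_bot_of_sylow σ hσ.2.1 hσ.2.2 fun p hp => ?_
  by_cases h2 : p = 2
  · subst h2; exact local_two σ hσ.1 hσ.2.1
  by_cases h3 : p = 3
  · subst h3; exact local_three σ hσ.1 hσ.2.1
  refine local_of_not_sq_dvd σ hσ.1 hσ.2.1 hp fun hd => ?_
  rw [card_M11] at hd
  have hle : p * p ≤ 7920 := by rw [← sq]; exact Nat.le_of_dvd (by norm_num) hd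
  have hp' : p ≤ 88 := by nlinarith
  interval_cases p <;> first | omega | norm_num at hd hp

end Cfsg.Agent.S2034
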