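import Cfsg.Statements.S4503
import Cfsg.Agent.Lib.SmallDegree.Main
import Cfsg.Agent.Lib.SmallDegree.Eigen
import Cfsg.Agent.Lib.SmallDegree.Reduction
import Cfsg.Agent.Lib.Char.Basic
import Mathlib.Analysis.Complex.Polynomial.Basic

-- import your own Cfsg.Agent.* helpers here

set_option autoImplicit false
open Cfsg

namespace Cfsg.Agent.S4503

set_option linter.style.haveILetI false

open Cfsg.Agent.SmallDegree

/-- Let G be a finite group whose order is divisible by the prime p exactly once and which has no normal subgroup of order p. Then every faithful character χ of G has degree at least (p − 1)/2: 2·χ(1) + 1 ≥ p. -/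
theorem result {G : Type*} [Group G] [Finite G] (p : ℕ) (hp : p.Prime) (hdiv : p ∣ Nat.card G) (hsq : ¬ p ^ 2 ∣ Nat.card G) (hnn : ∀ H : Subgroup G, H.Normal → Nat.card H ≠ p) (χ : G → ℂ) (hχ : Cfsg.IsCharacter G χ) (hfaith : ∀ g : G, χ g = χ 1 → g = 1) : p ≤ 2 * Cfsg.charDegree χ + 1 := by
  classical
  haveI : Fact p.Prime := ⟨hp⟩
  obtain ⟨n, ρ, hρ⟩ := hχ
  have hdeg : Cfsg.charDegree χ = n := by
    have h1 : χ 1 = n := by rw [← hρ]; simp
    rw [Cfsg.charDegree, h1, Complex.natCast_re, Nat.floor_natCast]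
  rw [hdeg]
  by_contra hlt
  have hinj : ∀ g, ρ g = 1 → g = 1 := fun g hg => hfaith g (by
    rw [← hρ]
    simp only [Representation.character, hg, map_one])
  obtain ⟨x, hx⟩ := exists_prime_orderOf_dvd_card' p hdiv
  set P := Subgroup.zpowers x with hPdef
  have hP : Nat.card P = p := by rw [Nat.card_zpowers, hx]
  set G0 := Subgroup.normalClosure (P : Set G)
  have hPG : P ≤ G0 := Subgroup.le_normalClosure
  set P0 := P.subgroupOf G0 with hP0def
  have hP0 : Nat.card P0 = p := by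
    rw [Nat.card_congr (Subgroup.subgroupOfEquivOfLe hPG).toEquiv, hP]
  have hsq0 : ¬ p ^ 2 ∣ Nat.card G0 := fun h => hsq (h.trans (Subgroup.card_subgroup_dvd_card G0))
  have hnorm : G0.Normal := Subgroup.normalClosure_normal
  -- every conjugate of an element of `P` is conjugate into `P` inside `G0`
  have hconj : ∀ (g : G) (u : G) (hu : u ∈ P), ∃ k : G0, k⁻¹ * (⟨g * u * g⁻¹, hnorm.conj_mem u (hPG hu) g⟩ : G0) * k ∈ P0 := by
    intro g u hu
    set y : G0 := ⟨g * u * g⁻¹, hnorm.conj_mem u (hPG hu) g⟩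
    have hup : u ^ p = 1 := by
      have := pow_card_eq_one' (x := (⟨u, hu⟩ : P))
      rw [hP] at this
      exact congrArg Subtype.val this
    have hy : y ^ p = 1 := Subtype.ext (by
      show (g * u * g⁻¹) ^ p = 1
      rw [conj_pow, hup, mul_one, mul_inv_cancel])
    have hfac : (Nat.card G0).factorization p = 1 := by
      have h1 : p ^ 1 ∣ Nat.card G0 := by
        rw [pow_one, ← hP0]; exact Subgroup.card_subgroup_dvd_card P0
      have a1 := (hp.pow_dvd_iff_le_factorization Nat.card_pos.ne').1 h1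
      have a2 : ¬ 2 ≤ (Nat.card G0).factorization p := fun h =>
        hsq0 ((hp.pow_dvd_iff_le_factorization Nat.card_pos.ne').2 h)
      omega
    let S : Sylow p G0 := Sylow.ofCard P0 (by rw [hP0, hfac, pow_one])
    have hyp : IsPGroup p (Subgroup.zpowers y) := fun z => by
      obtain ⟨j, hj⟩ := Subgroup.mem_zpowers_iff.1 z.2
      refine ⟨1, Subtype.ext ?_⟩
      rw [pow_one, SubgroupClass.coe_pow, ← hj, ← zpow_natCast (y ^ j), ← zpow_mul, mul_comm, zpow_mul,
        zpow_natCast, hy, one_zpow]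
      rfl
    obtain ⟨Q, hQ⟩ := hyp.exists_le_sylow
    obtain ⟨k, hk⟩ := MulAction.exists_smul_eq G0 Q S
    refine ⟨k⁻¹, ?_⟩
    have h1 : k * y * k⁻¹ ∈ (S : Subgroup G0) := by
      rw [← hk]
      exact ⟨y, hQ (Subgroup.mem_zpowers y), by simp⟩
    rw [Sylow.coe_ofCard] at h1
    simpa using h1
  have hgen0 : Subgroup.normalClosure (P0 : Set G0) = ⊤ := by
    set M := Subgroup.normalClosure (P0 : Set G0)
    have hle : G0 ≤ M.map G0.subtype := by
      refine Subgroup.closure_le _ |>.2 ?_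
      intro y hy
      obtain ⟨u, hu, hyu⟩ := Group.mem_conjugatesOfSet_iff.1 hy
      obtain ⟨g, rfl⟩ := isConj_iff.1 hyu
      obtain ⟨k, hk⟩ := hconj g u hu
      refine ⟨⟨g * u * g⁻¹, hnorm.conj_mem u (hPG hu) g⟩, ?_, rfl⟩
      have h1 := (Subgroup.normalClosure_normal (s := (P0 : Set G0))).conj_mem _
        (Subgroup.subset_normalClosure hk) k
      simpa [mul_assoc] using h1
    rw [eq_top_iff]
    intro y _
    obtain ⟨z, hz, he⟩ := hle y.2
    rwa [← Subtype.ext he]
  have hnn0 : ¬ P0.Normal := by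
    intro hN
    refine hnn P ?_ hP
    refine ⟨fun u hu g => ?_⟩
    obtain ⟨k, hk⟩ := hconj g u hu
    have h1 := hN.conj_mem _ hk k
    have h2 : (⟨g * u * g⁻¹, hnorm.conj_mem u (hPG hu) g⟩ : G0) ∈ P0 := by
      simpa [mul_assoc] using h1
    exact h2
  let M : G0 →* Matrix (Fin n) (Fin n) ℂ :=
    ((LinearMap.toMatrixAlgEquiv' : Module.End ℂ (Fin n → ℂ) ≃ₐ[ℂ] _).toAlgHom.toMonoidHom.comp ρ).comp
      G0.subtype
  have hM : ∀ g, M g = 1 → g = 1 := fun g hg => Subtype.ext (hinj _ (by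
    apply (LinearMap.toMatrixAlgEquiv' : Module.End ℂ (Fin n → ℂ) ≃ₐ[ℂ] _).injective
    rw [map_one]
    exact hg))
  obtain ⟨K, iF, iA, iC, θ, hker⟩ := exists_reduction p M hM
  have hn0 : n ≠ 0 := by
    rintro rfl
    have h1 := hinj x (LinearMap.ext fun v => Subsingleton.elim _ _)
    rw [h1, orderOf_one] at hx
    exact hp.ne_one hx.symm
  haveI : Nonempty (Fin n) := ⟨⟨0, Nat.pos_of_ne_zero hn0⟩⟩
  have hbound := le_two_mul_relIndex_of_small (K := K) (V := Fin n → K)
    (by rw [Module.finrank_fin_fun]; omega) θ hker hP0 hsq0 hgen0 hnn0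
  have hxG : x ∈ G0 := hPG (Subgroup.mem_zpowers x)
  have hx0 : Subgroup.zpowers (⟨x, hxG⟩ : G0) = P0 := by
    refine Subgroup.eq_of_le_of_card_ge (Subgroup.zpowers_le.2 (Subgroup.mem_zpowers x)) ?_
    rw [hP0, Nat.card_zpowers, Subgroup.orderOf_mk, hx]
  have hdim := relIndex_le_dim (n := n) (ρ.comp G0.subtype) hx0 hP0 (fun h => by
    have h1 := hinj x h
    rw [h1, orderOf_one] at hx
    exact hp.ne_one hx.symm)
  omega

end Cfsg.Agent.S4503
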