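import Cfsg.Statements.S1016
import Cfsg.Agent.Lib.SmallSimple.FiveThirtySix

set_option autoImplicit false
open Cfsg

namespace Cfsg.Agent.S1016

/-- No finite simple group has order 1440 = 2^5 * 3^2 * 5. -/
theorem result {G : Type*} [Group G] [Finite G] [IsSimpleGroup G] : Nat.card G ≠ 1440 := by
  intro hn
  haveI : Fact (Nat.Prime 5) := ⟨by norm_num⟩
  have hG : ¬ IsMulCommutative G := fun h => by
    have := CharInt.card_prime_of_simple_comm (G := G) (fun a b => mul_comm' a b)
    rw [hn] at this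
    norm_num at this
  have hn5 : Nat.card G = 5 * 288 := by rw [hn]
  obtain ⟨P⟩ : Nonempty (Sylow 5 G) := inferInstance
  have hdvd : Nat.card (Sylow 5 G) ∣ 288 := by
    have h1 := P.card_dvd_index
    have h2 := Subgroup.card_mul_index (P : Subgroup G)
    rw [Agent.SmallSimple.card_sylow_subgroup (k := 1) (m := 288) (by rw [pow_one, hn5]) (by norm_num) P,
      pow_one, hn5] at h2
    rwa [Nat.eq_of_mul_eq_mul_left (by norm_num : 0 < 5) h2] at h1
  have hmod : Nat.card (Sylow 5 G) % 5 = 1 :=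
    Eq.trans (card_sylow_modEq_one 5 G) (Nat.mod_eq_of_lt (by norm_num))
  have h5 : 5 ≤ Nat.card (Sylow 5 G) := Agent.SmallSimple.five_le_card_sylow hG (hn5 ▸ dvd_mul_right 5 288)
  obtain ⟨h6, h16, h36, h96⟩ := Agent.SmallSimple.card_sylow_five_cases hG hn5 (by norm_num) (by norm_num) hdvd
  have hcases : ∀ d ∈ Nat.divisors 288, d % 5 = 1 → 5 ≤ d → d = 6 ∨ d = 16 ∨ d = 36 ∨ d = 96 := by
    decide +kernel
  rcases hcases _ (Nat.mem_divisors.2 ⟨hdvd, by norm_num⟩) hmod h5 with h | h | h | h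
  · exact h6 h
  · exact h16 (by norm_num) h
  · exact h36 (by norm_num) h
  · exact h96 (by decide) h

end Cfsg.Agent.S1016
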