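import Cfsg.Statements.S3992
import Cfsg.Agent.Lib.PrimeGraph.ThreePrimes
import Cfsg.Agent.Lib.Solvable.Basic
import Cfsg.Agent.Lib.PCore.Basic
import Cfsg.Agent.Lib.Frobenius.FixedPointFree

set_option autoImplicit false
open Cfsg

namespace Cfsg.Agent.S3992

open Subgroup
open scoped IsMulCommutative

/-- Commuting non-trivial elements in a group with all element orders prime powers have orders powers of
the same prime. -/
theorem prime_eq_of_commute {H : Type*} [Group H] [Finite H]
    (hpp : ∀ g : H, g ≠ 1 → IsPrimePow (orderOf g)) {x y : H} (h : Commute x y) {p q : ℕ}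
    (hp : p.Prime) (hq : q.Prime) (hx : p ∣ orderOf x) (hy : q ∣ orderOf y) : p = q := by
  by_contra hne
  obtain ⟨a, ha⟩ := hx
  obtain ⟨b, hb⟩ := hy
  have hx' : orderOf (x ^ a) = p := by
    rw [orderOf_pow_of_dvd (fun h0 => (orderOf_pos x).ne' (by rw [ha, h0, mul_zero])) (ha ▸ dvd_mul_left _ _),
      ha, Nat.mul_div_cancel _ (Nat.pos_of_mul_pos_left (ha ▸ orderOf_pos x))]
  have hy' : orderOf (y ^ b) = q := by
    rw [orderOf_pow_of_dvd (fun h0 => (orderOf_pos y).ne' (by rw [hb, h0, mul_zero])) (hb ▸ dvd_mul_left _ _),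
      hb, Nat.mul_div_cancel _ (Nat.pos_of_mul_pos_left (hb ▸ orderOf_pos y))]
  have ho := (h.pow_pow a b).orderOf_mul_eq_mul_orderOf_of_coprime
    (by rw [hx', hy']; exact (Nat.coprime_primes hp hq).2 hne)
  rw [hx', hy'] at ho
  have h1 : x ^ a * y ^ b ≠ 1 := fun h0 => by
    rw [h0, orderOf_one] at ho
    exact hp.ne_one (Nat.eq_one_of_mul_eq_one_right ho.symm)
  obtain ⟨r, k, hr, -, hrk⟩ := (isPrimePow_nat_iff _).1 (hpp _ h1)
  rw [ho] at hrk
  exact hne (((Nat.prime_dvd_prime_iff_eq hp hr).1 (hp.dvd_of_dvd_pow (hrk ▸ dvd_mul_right p q))).trans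
    ((Nat.prime_dvd_prime_iff_eq hq hr).1 (hq.dvd_of_dvd_pow (hrk ▸ dvd_mul_left q p))).symm)

/-- Two non-solvable subgroups cannot centralise each other. -/
theorem not_commute_of_not_solvable {H : Type*} [Group H] [Finite H]
    (hpp : ∀ g : H, g ≠ 1 → IsPrimePow (orderOf g)) (X Y : Subgroup H)
    (hX : ¬ Group.IsSolvable X) (hY : ¬ Group.IsSolvable Y)
    (hc : ∀ x ∈ X, ∀ y ∈ Y, Commute x y) : False := by
  obtain ⟨p, hp, hpX⟩ := Nat.exists_prime_and_dvd (n := Nat.card X) fun h1 => hX (by
    have : Subsingleton X := (Nat.card_eq_one_iff_unique.1 h1).1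
    infer_instance)
  have := Fact.mk hp
  refine hY ?_
  have hYp : IsPGroup p Y := by
    obtain ⟨x, hx⟩ := exists_prime_orderOf_dvd_card' p hpX
    refine IsPGroup.iff_orderOf.2 fun y => ?_
    refine ⟨_, Nat.eq_prime_pow_of_unique_prime_dvd (orderOf_pos y).ne' fun {d} hd hdd => ?_⟩
    exact (prime_eq_of_commute hpp (hc x x.2 y y.2) hp hd
      (by rw [Subgroup.orderOf_coe, hx]) (by rwa [Subgroup.orderOf_coe])).symm
  have := hYp.isNilpotent
  infer_instance

/-- The normaliser of a subgroup of prime order `q` whose centraliser is a `q`-group is solvable. -/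
theorem isSolvable_normalizer {H : Type*} [Group H] [Finite H]
    (hpp : ∀ g : H, g ≠ 1 → IsPrimePow (orderOf g)) (Z : Subgroup H) {q : ℕ} [Fact q.Prime]
    (hZ : Nat.card Z = q) : Group.IsSolvable (normalizer (Z : Set H)) := by
  have hq : q.Prime := Fact.out
  have : IsCyclic Z := isCyclic_of_prime_card hZ
  set f := Z.normalizerMonoidHom
  have hr : Group.IsSolvable f.range := by
    refine Group.isSolvable_of_comm fun u v => Subtype.ext ?_
    obtain ⟨m, hm⟩ := MonoidHom.map_cyclic (u : MulAut Z).toMonoidHom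
    obtain ⟨n, hn⟩ := MonoidHom.map_cyclic (v : MulAut Z).toMonoidHom
    refine MulEquiv.ext fun z => ?_
    have hm' : ∀ z, (u : MulAut Z) z = z ^ m := hm
    have hn' : ∀ z, (v : MulAut Z) z = z ^ n := hn
    simp only [Subgroup.coe_mul, MulAut.mul_apply, hm', hn', ← zpow_mul, mul_comm]
  have hk : IsPGroup q f.ker := by
    obtain ⟨z, hz⟩ := exists_prime_orderOf_dvd_card' (G := Z) q (by rw [hZ])
    refine IsPGroup.iff_orderOf.2 fun y => ?_
    refine ⟨_, Nat.eq_prime_pow_of_unique_prime_dvd (orderOf_pos y).ne' fun {d} hd hdd => ?_⟩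
    have hy : ((y : normalizer (Z : Set H)) : H) ∈ centralizer (Z : Set H) := by
      exact ((Subgroup.normalizerMonoidHom_ker Z).le y.2 :)
    refine (prime_eq_of_commute hpp (mem_centralizer_iff.1 hy z z.2) hq hd
      (by rw [Subgroup.orderOf_coe, hz]) ?_).symm
    rwa [Subgroup.orderOf_coe, Subgroup.orderOf_coe]
  have := hk.isNilpotent
  exact Group.isSolvable_of_ker_le_range f.ker.subtype f.rangeRestrict
    (by rw [MonoidHom.ker_rangeRestrict, range_subtype])

/-- Let G be a finite non-solvable group in which every element has prime-power order, and let R be its largest solvable normal subgroup. Then R is a p-group for some prime p; G/R has a non-abelian simple normal subgroup contained in every nontrivial normal subgroup of G/R (its unique minimal normal subgroup); and the order of every solvable subgroup of G has at most two prime divisors. -/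
theorem result {G : Type*} [Group G] [Finite G] (hns : ¬ Group.IsSolvable G) (hpp : ∀ g : G, g ≠ 1 → IsPrimePow (orderOf g))
    (R : Subgroup G) [R.Normal] (hRs : Group.IsSolvable ↥R) (hRmax : ∀ N : Subgroup G, N.Normal → Group.IsSolvable ↥N → N ≤ R) :
    (∃ p : ℕ, p.Prime ∧ IsPGroup p ↥R) ∧
      (∃ M : Subgroup (G ⧸ R), M.Normal ∧ IsSimpleGroup ↥M ∧ ¬ IsMulCommutative ↥M ∧
        ∀ N : Subgroup (G ⧸ R), N.Normal → N ≠ ⊥ → M ≤ N) ∧
      ∀ H : Subgroup G, Group.IsSolvable ↥H → (Nat.card ↥H).primeFactors.card ≤ 2 := by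
  have hsub : ∀ H : Subgroup G, Group.IsSolvable ↥H → (Nat.card ↥H).primeFactors.card ≤ 2 := by
    intro H hH
    by_contra hcard
    push Not at hcard
    obtain ⟨p, q, r, hp, hq, hr, hpq, hpr, hqr⟩ := Finset.two_lt_card_iff.1 hcard
    have hna : ∀ a b, a ∈ (Nat.card H).primeFactors → b ∈ (Nat.card H).primeFactors → a ≠ b →
        Agent.PrimeGraph.NonAdj H a b := by
      intro a b ha hb hab x hx
      have ha' := Nat.prime_of_mem_primeFactors ha
      have hb' := Nat.prime_of_mem_primeFactors hb
      exact hab (prime_eq_of_commute hpp (Commute.refl (x : G)) ha' hb'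
        (by rw [Subgroup.orderOf_coe, hx]; exact dvd_mul_right _ _)
        (by rw [Subgroup.orderOf_coe, hx]; exact dvd_mul_left _ _))
    exact Agent.PrimeGraph.three_primes (Nat.prime_of_mem_primeFactors hp)
      (Nat.prime_of_mem_primeFactors hq) (Nat.prime_of_mem_primeFactors hr) hpq hpr hqr
      (Nat.dvd_of_mem_primeFactors hp) (Nat.dvd_of_mem_primeFactors hq)
      (Nat.dvd_of_mem_primeFactors hr) (hna _ _ hp hq hpq) (hna _ _ hp hr hpr) (hna _ _ hq hr hqr)
  have hns' : ¬ Group.IsSolvable (G ⧸ R) := fun h => hns ((Group.isSolvable_iff_subgroup_quotient R).2 ⟨hRs, h⟩)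
  refine ⟨?_, ?_, hsub⟩
  · by_cases hR : R = ⊥
    · exact ⟨2, Nat.prime_two, hR ▸ IsPGroup.of_bot⟩
    obtain ⟨V, p, hVn, hVR, hV1, -, hVc, hp, hVp⟩ := Agent.Solvable.exists_abelian_minimal_normal hRs hR
    have := Fact.mk hp
    refine ⟨p, hp, ?_⟩
    obtain ⟨v, hv⟩ := exists_prime_orderOf_dvd_card' (G := V) p (by
      obtain ⟨e, he⟩ := hVp.exists_card_eq
      rw [he]
      exact dvd_pow_self p fun h0 => hV1 (card_eq_one.1 (he.trans (by rw [h0, pow_zero]))))
    by_contra hRp
    obtain ⟨q, hq, hqR, hqp⟩ : ∃ q, q.Prime ∧ q ∣ Nat.card R ∧ q ≠ p := by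
      by_contra hcon
      push Not at hcon
      exact hRp (IsPGroup.of_card (Nat.eq_prime_pow_of_unique_prime_dvd Nat.card_pos.ne'
        fun {d} hd hdd => hcon d hd hdd))
    have := Fact.mk hq
    obtain ⟨Q⟩ : Nonempty (Sylow q R) := Sylow.nonempty
    set Q' := (Q : Subgroup R).map R.subtype with hQ'
    have hQp : IsPGroup q Q' := Q.isPGroup'.map _
    have hfpf : ∀ h ∈ Q', h ≠ 1 → V ⊓ centralizer ({h} : Set G) = ⊥ := by
      intro h hh h1
      rw [eq_bot_iff]
      intro w hw
      rw [mem_bot]
      by_contra hw1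
      refine hqp (prime_eq_of_commute hpp (mem_centralizer_singleton_iff.1 hw.2).symm hq hp ?_ ?_)
      · obtain ⟨i, hi⟩ := IsPGroup.iff_orderOf.1 hQp ⟨h, hh⟩
        rw [← Subgroup.orderOf_coe] at hi
        rw [show orderOf h = q ^ i from hi]
        exact dvd_pow_self q fun h0 => h1 (orderOf_eq_one_iff.1 (hi.trans (by rw [h0, pow_zero])))
      · obtain ⟨i, hi⟩ := IsPGroup.iff_orderOf.1 hVp ⟨w, hw.1⟩
        rw [← Subgroup.orderOf_coe] at hi
        rw [show orderOf w = p ^ i from hi]
        exact dvd_pow_self p fun h0 => hw1 (orderOf_eq_one_iff.1 (hi.trans (by rw [h0, pow_zero])))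
    have : Nontrivial V := (nontrivial_iff_ne_bot V).2 hV1
    have hQd : q ∣ Nat.card Q' := by
      rw [hQ', card_map_of_injective R.subtype_injective]
      exact Q.dvd_card_of_dvd_card hqR
    obtain ⟨z, hz⟩ := exists_prime_orderOf_dvd_card' (G := Q') q hQd
    set Z := zpowers (z : G) with hZ
    have hZc : Nat.card Z = q := by rw [hZ, Nat.card_zpowers, Subgroup.orderOf_coe, hz]
    have hle : normalizer (Q' : Set G) ≤ normalizer (Z : Set G) := by
      intro g hg
      have hmem : g * (z : G) * g⁻¹ ∈ Q' := (mem_normalizer_iff.1 hg _).1 z.2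
      have h1 : Nat.card (zpowers (⟨_, hmem⟩ : Q')) = q := by
        rw [Nat.card_zpowers, ← Subgroup.orderOf_coe, ← hz, ← Subgroup.orderOf_coe]
        exact orderOf_injective (MulAut.conj g).toMonoidHom (MulAut.conj g).injective _
      have h2 := Agent.Frobenius.Fpf.eq_of_card_eq_prime
        (Agent.Frobenius.Fpf.isFpf_conjHom Q' V (le_normalizer_of_normal) hfpf) hQp h1
        (by rw [Nat.card_zpowers, hz] : Nat.card (zpowers z) = q)
      have h3 : zpowers (g * (z : G) * g⁻¹) = Z := by
        have := congrArg (Subgroup.map Q'.subtype) h2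
        rwa [MonoidHom.map_zpowers, MonoidHom.map_zpowers] at this
      refine mem_normalizer_iff.2 fun y => ?_
      conv_rhs => rw [← h3]
      rw [show zpowers (g * (z : G) * g⁻¹) = Z.map (MulAut.conj g).toMonoidHom from
        (MonoidHom.map_zpowers (MulAut.conj g).toMonoidHom (z : G)).symm]
      constructor
      · intro hy; exact ⟨y, hy, rfl⟩
      · rintro ⟨y', hy', he⟩
        have : y' = y := (MulAut.conj g).injective he
        rwa [← this]
    have hsolN : Group.IsSolvable (normalizer (Q' : Set G)) := by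
      have := isSolvable_normalizer hpp Z hZc
      exact Group.isSolvable_of_isSolvable_injective (inclusion_injective hle)
    refine hns' ?_
    have hfr : normalizer (Q' : Set G) ⊔ R = ⊤ := Sylow.normalizer_sup_eq_top Q
    refine Group.isSolvable_of_surjective
      (f := (QuotientGroup.mk' R).comp (normalizer (Q' : Set G)).subtype) ?_
    rw [← MonoidHom.range_eq_top, MonoidHom.range_comp, range_subtype]
    have h1 := congrArg (Subgroup.map (QuotientGroup.mk' R)) hfr
    rwa [Subgroup.map_sup, QuotientGroup.map_mk'_self, sup_bot_eq,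
      map_top_of_surjective _ (QuotientGroup.mk'_surjective R)] at h1
  · have hpp' : ∀ g : G ⧸ R, g ≠ 1 → IsPrimePow (orderOf g) := by
      intro g hg
      obtain ⟨x, rfl⟩ := QuotientGroup.mk'_surjective R g
      obtain ⟨r, k, hr, -, hrk⟩ := (isPrimePow_nat_iff _).1 (hpp x fun h => hg (by rw [h, map_one]))
      obtain ⟨j, -, hj⟩ := (Nat.dvd_prime_pow hr).1 (hrk ▸ orderOf_map_dvd (QuotientGroup.mk' R) x)
      rw [hj]
      refine (isPrimePow_nat_iff _).2 ⟨r, j, hr, Nat.pos_of_ne_zero fun h0 => hg ?_, rfl⟩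
      exact orderOf_eq_one_iff.1 (hj.trans (by rw [h0, pow_zero]))
    have hnsol : ∀ N : Subgroup (G ⧸ R), N.Normal → N ≠ ⊥ → ¬ Group.IsSolvable N := by
      intro N hN hN1 hs
      set K := N.comap (QuotientGroup.mk' R) with hK
      have hKs : Group.IsSolvable K := by
        refine Group.isSolvable_of_ker_le_range (Subgroup.inclusion
          ((QuotientGroup.ker_mk' R).ge.trans (ker_le_comap _ N) : R ≤ K))
          ((QuotientGroup.mk' R).subgroupComap N) fun x hx => ?_
        have h1 : (QuotientGroup.mk' R) (x : G) = 1 := congrArg Subtype.val hx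
        exact ⟨⟨x, (QuotientGroup.eq_one_iff _).1 h1⟩, rfl⟩
      refine hN1 ?_
      rw [← map_comap_eq_self_of_surjective (QuotientGroup.mk'_surjective R) N, eq_bot_iff]
      exact (map_mono (hRmax K (hN.comap _) hKs)).trans (QuotientGroup.map_mk'_self R).le
    have : Nontrivial (G ⧸ R) := by
      by_contra h
      rw [not_nontrivial_iff_subsingleton] at h
      exact hns' inferInstance
    obtain ⟨M, hMn, -, hM1, hMmin⟩ := Agent.Solvable.exists_minimal_normal (K := (⊤ : Subgroup (G ⧸ R))) top_ne_bot
    have hMs := hnsol M hMn hM1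
    have : Nontrivial M := (nontrivial_iff_ne_bot M).2 hM1
    obtain ⟨T, hTn, -, hT1, hTmin⟩ := Agent.Solvable.exists_minimal_normal (K := (⊤ : Subgroup M)) top_ne_bot
    have hTs : ¬ Group.IsSolvable T := by
      intro hs
      have := Agent.Solvable.isMulCommutative_of_minimal hs hT1 hTmin
      obtain ⟨r, hr, -, hrT⟩ := Agent.Solvable.exists_prime_of_minimal hT1 hTmin
      have := Fact.mk hr
      have hle : T ≤ Cfsg.pCore r M := Agent.PCore.le_pCore hrT
      rcases hMmin _ (Agent.PCore.map_pCore_subtype_normal (p := r) M) (map_subtype_le _) with h | h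
      · rw [map_eq_bot_iff_of_injective _ M.subtype_injective] at h
        exact hT1 (le_bot_iff.1 (h ▸ hle))
      · refine hMs ?_
        have h1 : IsPGroup r M := h ▸ (Agent.PCore.isPGroup_pCore (p := r) (G := M)).map M.subtype
        have := h1.isNilpotent
        infer_instance
    have hconj : ∀ g : G ⧸ R, T.map (MulAut.conjNormal g : MulAut M).toMonoidHom = T := by
      intro g
      set σ := (MulAut.conjNormal g : MulAut M) with hσ
      set T' := T.map σ.toMonoidHom with hT'
      have hT'n : T'.Normal := hTn.map _ σ.surjective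
      by_contra hne
      have hd : T ⊓ T' = ⊥ := (hTmin (T ⊓ T') inferInstance inf_le_left).resolve_right fun h => hne
        (eq_of_le_of_card_ge (inf_eq_left.1 h) (by rw [hT', card_map_of_injective (K := T) (f := σ.toMonoidHom) σ.injective])).symm
      have hT's : ¬ Group.IsSolvable T' := fun h => hTs
        (Group.isSolvable_of_isSolvable_injective (f := (T.equivMapOfInjective σ.toMonoidHom σ.injective).toMonoidHom)
          (T.equivMapOfInjective σ.toMonoidHom σ.injective).injective)
      refine not_commute_of_not_solvable (H := M) (fun x hx => ?_) T T' hTs hT's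
        fun x hx y hy => commute_of_normal_of_disjoint T T' hTn hT'n (disjoint_iff.2 hd) x y hx hy
      rw [← Subgroup.orderOf_coe]
      exact hpp' _ fun h => hx (Subtype.ext h)
    have hTtop : T = ⊤ := by
      have hn : (T.map M.subtype).Normal := ⟨by
        rintro _ ⟨x, hx, rfl⟩ g
        have h1 : MulAut.conjNormal g x ∈ T := hconj g ▸ mem_map_of_mem _ hx
        exact ⟨_, h1, rfl⟩⟩
      rcases hMmin _ hn (map_subtype_le _) with h | h
      · exact absurd ((map_eq_bot_iff_of_injective _ M.subtype_injective).1 h) hT1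
      · refine map_injective M.subtype_injective ?_
        rw [h, ← MonoidHom.range_eq_map, range_subtype]
    subst hTtop
    refine ⟨M, hMn, ⟨fun N hN => ?_⟩, fun hc => hMs ?_, fun N hN hN1 => ?_⟩
    · exact (hTmin N hN le_top)
    · exact Group.isSolvable_of_comm fun a b => mul_comm' a b
    · rcases hMmin (M ⊓ N) inferInstance inf_le_left with h | h
      · exfalso
        exact not_commute_of_not_solvable hpp' M N hMs (hnsol N hN hN1)
          fun x hx y hy => commute_of_normal_of_disjoint M N hMn hN (disjoint_iff.2 h) x y hx hy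
      · exact inf_eq_left.1 h

end Cfsg.Agent.S3992
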