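import Cfsg.Statements.S3007
import Cfsg.Agent.Lib.CLarge.Basic

set_option autoImplicit false
open scoped Pointwise commutatorElement
open Cfsg

namespace Cfsg.Agent.S3007

/-- Let P be a finite p-group and Q, R minimal centrally large subgroups of P (centrally large: |Q|·|Z(Q)| maximal among subgroups of P; minimal among such under inclusion). Then Q = (Q ∩ R)·Z(Q), the derived subgroups [Q, Q] and [R, R] coincide, |Q| = |R| and |Z(Q)| = |Z(R)|; and if Q is abelian then the minimal centrally large subgroups of P are exactly the abelian subgroups of P of largest order. -/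
theorem result {p : ℕ} [Fact p.Prime] (P : Type*) [Group P] [Finite P] (hP : IsPGroup p P) (Q R : Subgroup P) (hQ : Cfsg.IsMinimalCentrallyLarge Q) (hR : Cfsg.IsMinimalCentrallyLarge R) : (Q ⊓ R) ⊔ (Q ⊓ Subgroup.centralizer (Q : Set P)) = Q ∧ ⁅Q, Q⁆ = ⁅R, R⁆ ∧ Nat.card ↥Q = Nat.card ↥R ∧ Nat.card ↥(Q ⊓ Subgroup.centralizer (Q : Set P)) = Nat.card ↥(R ⊓ Subgroup.centralizer (R : Set P)) ∧ (IsMulCommutative ↥Q → ∀ X : Subgroup P, Cfsg.IsMinimalCentrallyLarge X ↔ X ∈ Cfsg.maxAbelianSubgroups P) := by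
  obtain ⟨⟨hQc, hQmin⟩, ⟨hRc, hRmin⟩⟩ := And.intro hQ hR
  obtain ⟨hQm, hZQ⟩ := CLarge.isCentrallyLarge_iff.mp hQc
  obtain ⟨hRm, hZR⟩ := CLarge.isCentrallyLarge_iff.mp hRc
  obtain ⟨-, -, -, hT, hCset, hCT⟩ := CLarge.chermakDelgado hQm hRm
  have decomp : ∀ {Q R : Subgroup P}, Cfsg.IsMinimalCentrallyLarge Q → Cfsg.IsCentrallyLarge R →
      (Q ⊓ R) ⊔ Subgroup.centralizer (Q : Set P) = Q ∧
      ⁅Q, Q⁆ = ⁅Q ⊓ R, Q ⊓ R⁆ ∧
      (Q ⊓ R) ⊓ Subgroup.centralizer (Q : Set P) =
        (Q ⊓ R) ⊓ Subgroup.centralizer ((Q ⊓ R : Subgroup P) : Set P) ∧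
      Nat.card ↥(Q ⊓ R) * Nat.card ↥(Subgroup.centralizer (Q : Set P)) = Nat.card Q *
        Nat.card ↥((Q ⊓ R) ⊓ Subgroup.centralizer ((Q ⊓ R : Subgroup P) : Set P)) := by
    intro Q R hQ hRc
    obtain ⟨hQm, hZQ⟩ := CLarge.isCentrallyLarge_iff.mp hQ.1
    obtain ⟨hRm, hZR⟩ := CLarge.isCentrallyLarge_iff.mp hRc
    obtain ⟨-, -, -, hT, hCset, hCT⟩ := CLarge.chermakDelgado hQm hRm
    obtain ⟨hCQm, hCCQ⟩ := CLarge.isCentralizerLarge_centralizer hQm
    obtain ⟨-, hcard, hU, -⟩ := CLarge.chermakDelgado hT hCQm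
    have hUle : (Q ⊓ R) ⊔ Subgroup.centralizer (Q : Set P) ≤ Q := sup_le inf_le_left hZQ
    have hUC : Subgroup.centralizer (((Q ⊓ R) ⊔ Subgroup.centralizer (Q : Set P) : Subgroup P) : Set P)
        ≤ (Q ⊓ R) ⊔ Subgroup.centralizer (Q : Set P) := by
      intro x hx
      rw [CLarge.centralizer_sup, hCCQ, hCT] at hx
      obtain ⟨hx1, hx2⟩ := hx
      replace hx1 : x ∈ ((Subgroup.centralizer (Q : Set P) ⊔ Subgroup.centralizer (R : Set P) :
        Subgroup P) : Set P) := hx1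
      rw [hCset] at hx1
      obtain ⟨z, hz, r, hr, rfl⟩ := hx1
      have hrQ : r ∈ Q := (Subgroup.mul_mem_cancel_left _ (hZQ hz)).mp hx2
      exact mul_mem (Subgroup.mem_sup_right hz) (Subgroup.mem_sup_left ⟨hrQ, hZR hr⟩)
    have hUeq := hQ.2 _ hUle (CLarge.isCentrallyLarge_iff.mpr ⟨hU, hUC⟩)
    have hmeet : (Q ⊓ R) ⊓ Subgroup.centralizer (Q : Set P) =
        (Q ⊓ R) ⊓ Subgroup.centralizer ((Q ⊓ R : Subgroup P) : Set P) := by
      refine le_antisymm (inf_le_inf_left _ (Subgroup.centralizer_le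
        (SetLike.coe_subset_coe.mpr inf_le_left))) (le_inf inf_le_left ?_)
      have h1 : (Q ⊓ R) ⊓ Subgroup.centralizer ((Q ⊓ R : Subgroup P) : Set P) ≤
          Subgroup.centralizer (((Q ⊓ R) ⊔ Subgroup.centralizer (Q : Set P) : Subgroup P) : Set P) := by
        rw [CLarge.centralizer_sup, hCCQ]
        exact le_inf inf_le_right (inf_le_left.trans inf_le_left)
      rwa [hUeq] at h1
    refine ⟨hUeq, le_antisymm ?_ (Subgroup.commutator_mono inf_le_left inf_le_left), hmeet, ?_⟩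
    · rw [Subgroup.commutator_le]
      intro a ha b hb
      have hc : Subgroup.centralizer (Q : Set P) ≤
          Subgroup.centralizer ((Q ⊓ R : Subgroup P) : Set P) :=
        Subgroup.centralizer_le (SetLike.coe_subset_coe.mpr inf_le_left)
      obtain ⟨s, hs, y, hy, rfl⟩ := CLarge.exists_mul_of_commute hc (hUeq.symm ▸ ha)
      obtain ⟨t, ht, z, hz, rfl⟩ := CLarge.exists_mul_of_commute hc (hUeq.symm ▸ hb)
      have e1 : Commute y (t * z) := (Subgroup.mem_centralizer_iff.mp hy (t * z) hb).symm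
      have e2 : Commute z s := (Subgroup.mem_centralizer_iff.mp hz s hs.1).symm
      have : ⁅s * y, t * z⁆ = ⁅s, t⁆ := by
        simp only [commutatorElement_def, mul_inv_rev]
        calc s * y * (t * z) * (y⁻¹ * s⁻¹) * (z⁻¹ * t⁻¹)
            = s * (y * (t * z) * y⁻¹) * s⁻¹ * (z⁻¹ * t⁻¹) := by group
          _ = s * t * (z * s⁻¹ * z⁻¹) * t⁻¹ := by rw [e1.mul_inv_cancel]; group
          _ = _ := by rw [e2.inv_right.mul_inv_cancel]
      rw [this]
      exact Subgroup.commutator_mem_commutator hs ht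
    · rw [hmeet] at hcard
      rw [hcard, hUeq]
  obtain ⟨h1, h2, -, h3⟩ := decomp hQ hRc
  obtain ⟨g1, g2, -, g3⟩ := decomp hR hQc
  rw [inf_comm R Q] at g1 g2 g3
  have eQ : Q ⊓ Subgroup.centralizer (Q : Set P) = Subgroup.centralizer (Q : Set P) :=
    inf_eq_right.mpr hZQ
  have eR : R ⊓ Subgroup.centralizer (R : Set P) = Subgroup.centralizer (R : Set P) :=
    inf_eq_right.mpr hZR
  have hf : Nat.card Q * Nat.card ↥(Subgroup.centralizer (Q : Set P)) =
      Nat.card R * Nat.card ↥(Subgroup.centralizer (R : Set P)) := hQm.trans hRm.symm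
  set q := Nat.card Q
  set r := Nat.card R
  set cq := Nat.card ↥(Subgroup.centralizer (Q : Set P))
  set cr := Nat.card ↥(Subgroup.centralizer (R : Set P))
  set t := Nat.card ↥(Q ⊓ R)
  set w := Nat.card ↥((Q ⊓ R) ⊓ Subgroup.centralizer ((Q ⊓ R : Subgroup P) : Set P))
  have hw : 0 < w := Nat.card_pos
  have hx : q * cr = r * cq := by
    refine Nat.eq_of_mul_eq_mul_right hw ?_
    calc q * cr * w = (q * w) * cr := by ring
      _ = t * cq * cr := by rw [h3]
      _ = (t * cr) * cq := by ring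
      _ = _ := by rw [g3]; ring
  have hsq : q * q = r * r := by
    refine Nat.eq_of_mul_eq_mul_right (Nat.mul_pos (Nat.card_pos (α := ↥(Subgroup.centralizer (Q : Set P))))
      (Nat.card_pos (α := ↥(Subgroup.centralizer (R : Set P))))) ?_
    calc q * q * (cq * cr) = (q * cq) * (q * cr) := by ring
      _ = _ := by rw [hf, hx]; ring
  have hqr : q = r := Nat.mul_self_inj.mp hsq
  refine ⟨by rw [eQ]; exact h1, h2.trans g2.symm, hqr, ?_, ?_⟩
  · rw [eQ, eR]
    exact Nat.eq_of_mul_eq_mul_left (Nat.card_pos (α := Q)) (hf.trans (by rw [← hqr]))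
  intro hab X
  have hQC : Subgroup.centralizer (Q : Set P) = Q :=
    le_antisymm hZQ (CLarge.isMulCommutative_iff_le_centralizer.mp hab)
  have hf2 : Cfsg.maxCentralizerProduct P = q * q := by rw [← hQm, hQC]
  have hle : ∀ B : Subgroup P, IsMulCommutative ↥B → Nat.card B ≤ q := fun B hB => by
    refine Nat.mul_self_le_mul_self_iff.mp ?_
    rw [← hf2]
    exact (Nat.mul_le_mul_left _ (Subgroup.card_le_of_le
      (CLarge.isMulCommutative_iff_le_centralizer.mp hB))).trans (CLarge.le_maxCentralizerProduct B)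
  constructor
  · intro hX
    obtain ⟨-, x2, -, -⟩ := decomp hX hQc
    obtain ⟨-, x3, -, -⟩ := decomp hQ hX.1
    rw [inf_comm X Q] at x2
    have hXab : IsMulCommutative ↥X := by
      rw [CLarge.isMulCommutative_iff_le_centralizer, ← Subgroup.commutator_eq_bot_iff_le_centralizer,
        x2, ← x3, Subgroup.commutator_eq_bot_iff_le_centralizer]
      exact CLarge.isMulCommutative_iff_le_centralizer.mp hab
    obtain ⟨hXm, hXZ⟩ := CLarge.isCentrallyLarge_iff.mp hX.1
    have hXC : Subgroup.centralizer (X : Set P) = X :=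
      le_antisymm hXZ (CLarge.isMulCommutative_iff_le_centralizer.mp hXab)
    have : Nat.card X = q := Nat.mul_self_inj.mp (by rw [← hf2, ← hXm, hXC])
    exact ⟨hXab, fun B hB => this ▸ hle B hB⟩
  · intro hX
    have hXq : Nat.card X = q := le_antisymm (hle X hX.1) (hX.2 Q hab)
    have hXC := CLarge.centralizer_eq_of_mem_maxAbelian hX
    have hXCL : Cfsg.IsCentrallyLarge X := CLarge.isCentrallyLarge_iff.mpr
      ⟨CLarge.isCentralizerLarge_of_le (by rw [hf2, hXC, hXq]), hXC.le⟩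
    refine ⟨hXCL, fun X' hle' hX' => ?_⟩
    obtain ⟨hm', hZ'⟩ := CLarge.isCentrallyLarge_iff.mp hX'
    refine le_antisymm hle' ?_
    have h1 : X ≤ Subgroup.centralizer (X' : Set P) :=
      hXC.ge.trans (Subgroup.centralizer_le (SetLike.coe_subset_coe.mpr hle'))
    exact h1.trans hZ' 

end Cfsg.Agent.S3007
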