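import Cfsg.Statements.S0331
import Cfsg.Agent.Lib.Sz.Centralizers

set_option autoImplicit false
open Cfsg

namespace Cfsg.Agent.S0331

/-- For every odd prime `p` the Sylow `p`-subgroups of the Suzuki group are cyclic. -/
theorem result {F : Type*} [Field F] [Fintype F] {m : ℕ} (hm : 1 ≤ m)
    (hF : Fintype.card F = 2 ^ (2 * m + 1)) {p : ℕ} [Fact p.Prime] (hp : p ≠ 2)
    (P : Sylow p (Cfsg.Sz F m)) : IsCyclic P := by
  obtain ⟨Up, Um, hpU, hnU, -, -⟩ := SZ.partition hm hF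
  obtain ⟨c1, c2, c3, c4, c5, c6⟩ := SZ.coprime_facts hm
  have hcard : Nat.card (Cfsg.Sz F m) = (2 ^ (2 * m + 1)) ^ 2 *
      ((2 ^ (2 * m + 1) + 2 ^ (m + 1) + 1) * (2 ^ (2 * m + 1) - 2 ^ (m + 1) + 1)) * (2 ^ (2 * m + 1) - 1) := by
    rw [SZ.card_Sz hm hF, hF, SZ.torus_prod hm]
  have hpp : p.Prime := Fact.out
  -- a cyclic subgroup containing the full `p`-part of the order
  obtain ⟨A, hA, hAc⟩ : ∃ A : Subgroup (Cfsg.Sz F m), IsCyclic A ∧
      (Nat.card (Cfsg.Sz F m)).factorization p = (Nat.card A).factorization p := by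
    have h2 : ¬ p ∣ (2 ^ (2 * m + 1)) ^ 2 := fun h =>
      hp ((Nat.prime_dvd_prime_iff_eq hpp Nat.prime_two).1 (hpp.dvd_of_dvd_pow (hpp.dvd_of_dvd_pow h)))
    have hne : ∀ x y, p ∣ x → Nat.Coprime x y → ¬ p ∣ y := fun x y hx hc hy =>
      hpp.not_dvd_one (hc ▸ Nat.dvd_gcd hx hy)
    have hf0 : ∀ x, ¬ p ∣ x → x.factorization p = 0 := fun x h => Nat.factorization_eq_zero_of_not_dvd h
    have hb := (SZ.IsTorusOrder.bound (Or.inr rfl : SZ.IsTorusOrder m (2 ^ (2 * m + 1) - 2 ^ (m + 1) + 1)) hm).2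
    have hq8 : 8 ≤ 2 ^ (2 * m + 1) :=
      le_trans (by norm_num) (Nat.pow_le_pow_right (by norm_num) (show 3 ≤ 2 * m + 1 by omega))
    have hfac : (Nat.card (Cfsg.Sz F m)).factorization p =
        ((2 ^ (2 * m + 1) + 2 ^ (m + 1) + 1)).factorization p +
          (2 ^ (2 * m + 1) - 2 ^ (m + 1) + 1).factorization p + (2 ^ (2 * m + 1) - 1).factorization p := by
      rw [hcard, Nat.factorization_mul (by positivity) (by omega),
        Nat.factorization_mul (by positivity) (by positivity),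
        Nat.factorization_mul (by positivity) (by positivity)]
      simp only [Finsupp.add_apply, hf0 _ h2, zero_add]
    by_cases hp1 : p ∣ 2 ^ (2 * m + 1) + 2 ^ (m + 1) + 1
    · refine ⟨Up, hpU.cyclic, ?_⟩
      rw [hfac, hpU.card, hf0 _ (hne _ _ hp1 c6), hf0 _ (hne _ _ hp1 c4.symm), add_zero, add_zero]
    · by_cases hp2 : p ∣ 2 ^ (2 * m + 1) - 2 ^ (m + 1) + 1
      · refine ⟨Um, hnU.cyclic, ?_⟩
        rw [hfac, hnU.card, hf0 _ hp1, hf0 _ (hne _ _ hp2 c5.symm), zero_add, add_zero]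
      · refine ⟨SZ.hGrp hF, SZ.isCyclic_hGrp hF, ?_⟩
        rw [hfac, SZ.card_hGrp, hF, hf0 _ hp1, hf0 _ hp2, zero_add, zero_add]
  haveI := hA
  obtain ⟨Q⟩ : Nonempty (Sylow p A) := inferInstance
  let Q' : Sylow p (Cfsg.Sz F m) := Sylow.ofCard ((Q : Subgroup A).map A.subtype) (by
    rw [Subgroup.card_map_of_injective A.subtype_injective, Q.card_eq_multiplicity, hAc])
  haveI : IsCyclic (Q : Subgroup A) := inferInstance
  haveI : IsCyclic (Q' : Subgroup (Cfsg.Sz F m)) :=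
    isCyclic_of_surjective ((Q : Subgroup A).equivMapOfInjective A.subtype A.subtype_injective).toMonoidHom
      (MulEquiv.surjective _)
  exact isCyclic_of_surjective (Q'.equiv P).toMonoidHom (MulEquiv.surjective _)

end Cfsg.Agent.S0331
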