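import Cfsg.Statements.S0672
import Cfsg.Agent.Lib.Perm.ModuleHeart

set_option autoImplicit false
open Cfsg
open Cfsg.Agent.Perm.ModuleHeart
open scoped Pointwise

namespace Cfsg.Agent.S0672

/-- Let a finite group act faithfully and doubly transitively with point stabilisers of even order, and let `K` have characteristic `p` dividing the degree. If the heart of the permutation module admits no non-zero equivariant map to the permutation module on unordered pairs (phrased: every intertwining map from the sum-zero functions vanishing on the constants is zero), the action is triply transitive. -/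
theorem result {G : Type*} [Group G] [Finite G] {K : Type*} [Field K] {p : ℕ} [Fact p.Prime] [CharP K p] {Ω : Type*} [Fintype Ω] [DecidableEq Ω] [MulAction G Ω] [FaithfulSMul G Ω] (h2 : MulAction.IsMultiplyPretransitive G Ω 2) (hp : p ∣ Fintype.card Ω) (heven : ∀ a : Ω, Even (Nat.card (MulAction.stabilizer G a))) (h : ∀ f : Representation.IntertwiningMap (Cfsg.permSumZero K G Ω).toRepresentation (Cfsg.permRep K G (Set.powersetCard Ω 2)), (∀ v : (Cfsg.permSumZero K G Ω).toSubmodule, (v : Ω → K) ∈ (Cfsg.permConstants K G Ω).toSubmodule → f v = 0) → f = 0) : MulAction.IsMultiplyPretransitive G Ω 3 := by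
  classical
  haveI hpre : MulAction.IsPretransitive G Ω := MulAction.isPretransitive_of_is_two_pretransitive (h2 := h2)
  haveI hpp : MulAction.IsPretransitive G (Set.powersetCard Ω 2) :=
    Set.powersetCard.isPretransitive_of_isMultiplyPretransitive G h2
  -- transitivity on the non-incident (pair, point) configurations
  have hnon : ∀ (π π' : Set.powersetCard Ω 2) (x x' : Ω), x ∉ (π : Finset Ω) → x' ∉ (π' : Finset Ω) →
      ∃ g : G, g • π = π' ∧ g • x = x' := by
    intro π₀ π₁ x₀ x₁ h₀ h₁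
    by_contra hno
    let O : Set.powersetCard Ω 2 → Ω → Set.powersetCard Ω 2 → Ω → Prop := fun π x π' x' =>
      ∃ g : G, g • π = π' ∧ g • x = x'
    have hO : ∀ (g : G) π x π' x', O π x (g • π') (g • x') ↔ O π x π' x' := by
      intro g π x π' x'
      constructor
      · rintro ⟨k, h1, h2⟩
        exact ⟨g⁻¹ * k, by rw [mul_smul, h1, inv_smul_smul], by rw [mul_smul, h2, inv_smul_smul]⟩
      · rintro ⟨k, h1, h2⟩
        exact ⟨g * k, by rw [mul_smul, h1], by rw [mul_smul, h2]⟩
    have hmem : ∀ (g : G) (π : Set.powersetCard Ω 2) (x : Ω),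
        g • x ∈ ((g • π : Set.powersetCard Ω 2) : Finset Ω) ↔ x ∈ (π : Finset Ω) := fun g π x => by
      rw [Set.powersetCard.coe_smul, Finset.smul_mem_smul_finset_iff]
    have hOmem : ∀ (π : Set.powersetCard Ω 2) (x : Ω) (π' : Set.powersetCard Ω 2) (x' : Ω),
        x ∉ (π : Finset Ω) → O π x π' x' → x' ∉ (π' : Finset Ω) := by
      rintro π x π' x' hx ⟨g, rfl, rfl⟩
      rwa [hmem]
    let k : Set.powersetCard Ω 2 → Ω → Set.powersetCard Ω 2 → ℕ := fun π x π' =>
      (Finset.univ.filter fun x' => O π x π' x').card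
    have hk : ∀ π x π' π'', k π x π' = k π x π'' := by
      intro π x π' π''
      obtain ⟨g, rfl⟩ := MulAction.exists_smul_eq G π' π''
      refine Finset.card_equiv (MulAction.toPerm g) fun y => ?_
      simp [hO]
    let k₀ : K := (k π₀ x₀ π₀ : ℕ)
    let k₁ : K := (k π₁ x₁ π₀ : ℕ)
    let c₀ : K := if k₀ = 0 ∧ k₁ = 0 then 1 else k₁
    let c₁ : K := if k₀ = 0 ∧ k₁ = 0 then 0 else -k₀
    let N : Set.powersetCard Ω 2 → Ω → K := fun π x =>
      c₀ * (if O π₀ x₀ π x then 1 else 0) + c₁ * (if O π₁ x₁ π x then 1 else 0)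
    have hN : ∀ (g : G) π x, N (g • π) (g • x) = N π x := fun g π x => by simp [N, hO]
    have hrow : ∀ π, ∑ x, N π x = 0 := by
      intro π
      have e₀ : ((Finset.univ.filter fun x' => O π₀ x₀ π x').card : K) = k₀ :=
        congrArg Nat.cast (hk π₀ x₀ π π₀)
      have e₁ : ((Finset.univ.filter fun x' => O π₁ x₁ π x').card : K) = k₁ :=
        congrArg Nat.cast (hk π₁ x₁ π π₀)
      simp only [N, Finset.sum_add_distrib, ← Finset.mul_sum, Finset.sum_boole]
      rw [e₀, e₁]
      by_cases hz : k₀ = 0 ∧ k₁ = 0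
      · simp [c₀, c₁, hz]
      · simp only [c₀, c₁, if_neg hz]; ring
    -- the intertwining map
    let F : (permSumZero K G Ω).toSubmodule →ₗ[K] (Set.powersetCard Ω 2 → K) :=
      (kernelMap N).comp (permSumZero K G Ω).toSubmodule.subtype
    have hFeq : ∀ (g : G) (v : (permSumZero K G Ω).toSubmodule),
        F ((permSumZero K G Ω).toRepresentation g v) = permRep K G (Set.powersetCard Ω 2) g (F v) :=
      fun g v => kernelMap_equivariant hN g v.1
    have hzero := h (LinearMap.intertwiningMap_of_isIntertwiningMap _ _ F hFeq) (fun v hv => by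
      obtain ⟨c, hc⟩ := mem_constants_iff.1 hv
      show kernelMap N v.1 = 0
      funext π
      rw [kernelMap_apply, hc, ← Finset.sum_mul, hrow, zero_mul]; rfl)
    have hconst : ∀ π x y, N π x = N π y := by
      intro π x y
      have h' : F ⟨_, single_sub_single_mem_sumZero x y⟩ = 0 :=
        congrArg (fun f => f.toLinearMap ⟨_, single_sub_single_mem_sumZero (G := G) (K := K) x y⟩) hzero
      have h'' : kernelMap N (Pi.single x (1 : K) - Pi.single y 1) π = 0 := congrFun h' π
      simpa [kernelMap_apply, Finset.sum_sub_distrib, mul_sub, Pi.single_apply, sub_eq_zero] using h''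
    have hNz : ∀ π x, N π x = 0 := by
      intro π x
      obtain ⟨y, hy⟩ := Finset.card_pos.1 (show 0 < (π : Finset Ω).card by
        rw [Set.powersetCard.card_eq π]; norm_num)
      rw [hconst π x y]
      have a₀ : ¬ O π₀ x₀ π y := fun hh => hOmem _ _ _ _ h₀ hh hy
      have a₁ : ¬ O π₁ x₁ π y := fun hh => hOmem _ _ _ _ h₁ hh hy
      simp [N, a₀, a₁]
    have s₀ : O π₀ x₀ π₀ x₀ := ⟨1, one_smul _ _, one_smul _ _⟩
    have s₁ : O π₁ x₁ π₁ x₁ := ⟨1, one_smul _ _, one_smul _ _⟩
    have d₀ : ¬ O π₁ x₁ π₀ x₀ := fun ⟨g, h1, h2⟩ =>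
      hno ⟨g⁻¹, by rw [← h1, inv_smul_smul], by rw [← h2, inv_smul_smul]⟩
    have d₁ : ¬ O π₀ x₀ π₁ x₁ := fun hh => hno hh
    have z₀ := hNz π₀ x₀
    have z₁ := hNz π₁ x₁
    simp only [N, s₀, s₁, d₀, d₁, if_true, if_false, mul_one, mul_zero, add_zero, zero_add] at z₀ z₁
    by_cases hz : k₀ = 0 ∧ k₁ = 0
    · simp [c₀, hz] at z₀
    · simp only [c₀, c₁, if_neg hz, neg_eq_zero] at z₀ z₁
      exact hz ⟨z₁, z₀⟩
  -- a stabiliser is doubly transitive on the remaining points
  have hpair : ∀ a u v u' v' : Ω, u ≠ a → v ≠ a → u ≠ v → u' ≠ a → v' ≠ a → u' ≠ v' →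
      ∃ g : G, g • a = a ∧ g • u = u' ∧ g • v = v' := by
    intro a
    obtain ⟨⟨t, ht⟩, ht1⟩ := exists_prime_orderOf_dvd_card' 2 (even_iff_two_dvd.1 (heven a))
    have hto : orderOf t = 2 := by rwa [Subgroup.orderOf_mk] at ht1
    obtain ⟨b, hb⟩ : ∃ b : Ω, t • b ≠ b := by
      by_contra hcon
      push Not at hcon
      have : t = 1 := FaithfulSMul.eq_of_smul_eq_smul (fun b : Ω => by rw [hcon b, one_smul])
      rw [this, orderOf_one] at hto
      norm_num at hto
    have htt : t • t • b = b := by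
      rw [← mul_smul, ← pow_two, ← hto, pow_orderOf_eq_one, one_smul]
    have ht' : t • a = a := ht
    have hba : b ≠ a := fun e => hb (by rw [e, ht'])
    have htba : t • b ≠ a := fun e => hba (by rw [← htt, e, ht'])
    have hmain : ∀ u v, u ≠ a → v ≠ a → u ≠ v → ∃ g : G, g • a = a ∧ g • b = u ∧ g • (t • b) = v := by
      intro u v hu hv huv
      obtain ⟨g, hg, hga⟩ := hnon ⟨{b, t • b}, Finset.card_pair (Ne.symm hb)⟩
        ⟨{u, v}, Finset.card_pair huv⟩ a a (by simp [hba.symm, htba.symm]) (by simp [hu.symm, hv.symm])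
      have hset : g • ({b, t • b} : Finset Ω) = {u, v} := by
        simpa [Set.powersetCard.coe_smul] using congrArg Subtype.val hg
      have h1 : g • b ∈ ({u, v} : Finset Ω) :=
        hset ▸ Finset.smul_mem_smul_finset (by simp)
      have h2 : g • (t • b) ∈ ({u, v} : Finset Ω) :=
        hset ▸ Finset.smul_mem_smul_finset (by simp)
      have hne : g • b ≠ g • (t • b) := fun e => hb (smul_left_cancel g e).symm
      simp only [Finset.mem_insert, Finset.mem_singleton] at h1 h2
      rcases h1 with h1 | h1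
      · exact ⟨g, hga, h1, h2.resolve_left fun e => hne (h1.trans e.symm)⟩
      · refine ⟨g * t, by rw [mul_smul, ht', hga], ?_, by rw [mul_smul, htt, h1]⟩
        rw [mul_smul]
        exact h2.resolve_right fun e => hne (h1.trans e.symm)
    intro u v u' v' hu hv huv hu' hv' huv'
    obtain ⟨g, hga, hgu, hgv⟩ := hmain u v hu hv huv
    obtain ⟨g', hga', hgu', hgv'⟩ := hmain u' v' hu' hv' huv'
    refine ⟨g' * g⁻¹, ?_, ?_, ?_⟩
    · rw [mul_smul, inv_smul_eq_iff.2 hga.symm, hga']
    · rw [mul_smul, inv_smul_eq_iff.2 hgu.symm, hgu']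
    · rw [mul_smul, inv_smul_eq_iff.2 hgv.symm, hgv']
  refine ⟨fun x y => ?_⟩
  obtain ⟨g₁, hg₁⟩ := MulAction.exists_smul_eq G (x 0) (y 0)
  have hx : ∀ i j : Fin 3, i ≠ j → g₁ • x i ≠ g₁ • x j :=
    fun i j hij e => hij (x.injective (smul_left_cancel g₁ e))
  have hy : ∀ i j : Fin 3, i ≠ j → y i ≠ y j := fun i j hij e => hij (y.injective e)
  obtain ⟨g, e0, e1, e2⟩ := hpair (y 0) (g₁ • x 1) (g₁ • x 2) (y 1) (y 2)
    (hg₁ ▸ hx 1 0 (by decide)) (hg₁ ▸ hx 2 0 (by decide)) (hx 1 2 (by decide))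
    (hy 1 0 (by decide)) (hy 2 0 (by decide)) (hy 1 2 (by decide))
  refine ⟨g * g₁, ?_⟩
  ext i
  rw [Function.Embedding.smul_apply, mul_smul]
  fin_cases i
  · exact (congrArg (g • ·) hg₁).trans e0
  · exact e1
  · exact e2

end Cfsg.Agent.S0672
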