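import Cfsg.Statements.S0676
import Cfsg.Agent.Lib.Perm.PrimeDegree
import Cfsg.Agent.S0672
import Mathlib.GroupTheory.GroupAction.SubMulAction.Combination

set_option autoImplicit false
open Cfsg
open scoped Pointwise
open Cfsg.Agent.Perm.ModuleHeart Cfsg.Agent.Perm.PrimeDegree

namespace Cfsg.Agent.S0676

/-- A non-solvable transitive permutation group of prime degree `p` whose Sylow `p`-normaliser has even order is triply transitive. -/
theorem result {α : Type*} [Fintype α] [DecidableEq α] {p : ℕ} [Fact p.Prime] (hα : Fintype.card α = p) (G : Subgroup (Equiv.Perm α)) [MulAction.IsPretransitive G α] (hG : ¬ Group.IsSolvable G) (P : Sylow p G) (heven : Even (Nat.card (Subgroup.normalizer ((P : Subgroup G) : Set G)))) : MulAction.IsMultiplyPretransitive G α 3 := by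
  classical
  have h2 := twoTransitive_of_not_isSolvable hα hG
  haveI : Nonempty α := Fintype.card_pos_iff.1 (hα ▸ (Fact.out : p.Prime).pos)
  obtain ⟨c, hc⟩ := exists_orderOf_eq G hα
  obtain ⟨e₁, -, -⟩ := exists_coords (p := p) hα (c := (c : Equiv.Perm α)) (by rw [Subgroup.orderOf_coe, hc])
    (Classical.arbitrary α)
  have hp5 := five_le_of_not_isSolvable e₁ hG
  -- the Sylow subgroup is cyclic of order `p`
  have hP : Nat.card (P : Subgroup G) = p := by
    obtain ⟨k, hk⟩ := P.2.exists_card_eq
    have h1 : p ^ 1 ∣ Nat.card (P : Subgroup G) :=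
      P.pow_dvd_card_of_pow_dvd_card (by rw [pow_one, ← hc]; exact orderOf_dvd_natCard c)
    have hk2 : k < 2 := by
      by_contra hk2
      exact not_dvd_card_sq (p := p) G Fact.out hα ((pow_dvd_pow p (not_lt.1 hk2)).trans
        (hk ▸ Subgroup.card_subgroup_dvd_card _))
    have hk0 : k ≠ 0 := by
      rintro rfl
      rw [hk, pow_zero, pow_one, Nat.dvd_one] at h1
      omega
    rw [hk, show k = 1 by omega, pow_one]
  obtain ⟨⟨u, huP⟩, hu1⟩ := exists_prime_orderOf_dvd_card' p (by rw [hP] : p ∣ Nat.card (P : Subgroup G))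
  rw [Subgroup.orderOf_mk] at hu1
  have hPu : (P : Subgroup G) = Subgroup.zpowers u :=
    (Subgroup.eq_of_le_of_card_ge (Subgroup.zpowers_le.2 huP) (by rw [Nat.card_zpowers, hu1, hP])).symm
  -- an involution normalising it
  obtain ⟨⟨t, htN⟩, ht2⟩ := exists_prime_orderOf_dvd_card' 2 (even_iff_two_dvd.1 heven)
  rw [Subgroup.orderOf_mk] at ht2
  have htt : t * t = 1 := by rw [← pow_two, ← ht2, pow_orderOf_eq_one]
  obtain ⟨a, ha⟩ := Equiv.Perm.exists_fixed_point_of_prime (p := 2) (n := 1)
    (σ := (t : Equiv.Perm α)) (by
      rw [hα]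
      intro hdvd
      have := (Nat.prime_dvd_prime_iff_eq Nat.prime_two Fact.out).1 hdvd
      omega) (by rw [pow_one, pow_two, ← Subgroup.coe_mul, htt, Subgroup.coe_one])
  obtain ⟨e, he0, he⟩ := exists_coords hα (c := (u : Equiv.Perm α))
    (by rw [Subgroup.orderOf_coe, hu1]) a
  have hupow : ∀ (m : ℕ) (i : ZMod p), ((u ^ m : G) : Equiv.Perm α) (e i) = e (i + m) := by
    intro m
    induction m with
    | zero => intro i; simp
    | succ m ih =>
      intro i
      rw [pow_succ, Subgroup.coe_mul, Equiv.Perm.mul_apply, he, ih]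
      congr 1
      push_cast
      ring
  obtain ⟨m, hm⟩ : ∃ m : ℕ, u ^ m = t * u * t⁻¹ := by
    have h := (Subgroup.mem_normalizer_iff.1 htN u).1 huP
    rw [hPu] at h
    rw [Subgroup.mem_zpowers_iff] at h
    obtain ⟨k, hk⟩ := h
    refine ⟨(k % (orderOf u : ℤ)).toNat, ?_⟩
    rw [← zpow_natCast, Int.toNat_of_nonneg (Int.emod_nonneg _ (by simp [hu1, (Fact.out : p.Prime).ne_zero])), zpow_mod_orderOf, hk]
  have hlin : ∀ i : ZMod p, (t : Equiv.Perm α) (e i) = e ((m : ZMod p) * i) := by
    have hn : ∀ n : ℕ, (t : Equiv.Perm α) (e n) = e ((m : ZMod p) * n) := by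
      intro n
      induction n with
      | zero => simp [he0, ha]
      | succ n ih =>
        have h : (t * u : G) = u ^ m * t := by rw [hm, inv_mul_cancel_right]
        have h' := congrArg (fun g : G => (g : Equiv.Perm α) (e n)) h
        simp only [Subgroup.coe_mul, Equiv.Perm.mul_apply, he, ih, hupow] at h'
        push_cast
        rw [h']
        congr 1
        ring
    intro i
    rw [← ZMod.natCast_zmod_val i]
    exact hn _
  have hneg : ∀ i : ZMod p, (t : Equiv.Perm α) (e i) = e (-i) := by
    have h := congrArg (fun g : G => (g : Equiv.Perm α) (e 1)) htt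
    simp only [Subgroup.coe_mul, Equiv.Perm.mul_apply, hlin, Subgroup.coe_one, Equiv.Perm.one_apply,
      mul_one, EmbeddingLike.apply_eq_iff_eq] at h
    rcases mul_self_eq_one_iff.1 h with h1 | h1
    · exfalso
      have : t = 1 := by
        refine Subtype.ext (Equiv.ext fun x => ?_)
        obtain ⟨i, rfl⟩ := e.surjective x
        rw [hlin, h1, one_mul]; rfl
      rw [this, orderOf_one] at ht2
      norm_num at ht2
    · intro i
      rw [hlin, h1, neg_one_mul]
  have heven' : ∀ b : α, Even (Nat.card (MulAction.stabilizer G b)) := by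
    intro b
    have h1 : Even (Nat.card (MulAction.stabilizer G a)) := by
      rw [even_iff_two_dvd, ← ht2]
      exact (Subgroup.orderOf_mk (H := MulAction.stabilizer G a) t ha).symm ▸ orderOf_dvd_natCard _
    have h3 := (MulAction.index_stabilizer_of_transitive G b).trans
      (MulAction.index_stabilizer_of_transitive G a).symm
    have h4 := (MulAction.stabilizer G b).index_mul_card
    rw [h3, ← (MulAction.stabilizer G a).index_mul_card] at h4
    rwa [Nat.eq_of_mul_eq_mul_left (Nat.pos_of_ne_zero Subgroup.index_ne_zero_of_finite) h4]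
  refine S0672.result (K := ZMod p) h2 (hα ▸ dvd_rfl) heven' fun f hf => ?_
  -- the kernel as an invariant subspace
  let W : Subrepresentation (permRep (ZMod p) G α) :=
    { toSubmodule := (LinearMap.ker f.toLinearMap).map (permSumZero (ZMod p) G α).toSubmodule.subtype
      apply_mem_toSubmodule := by
        rintro g _ ⟨v, hv, rfl⟩
        refine ⟨(permSumZero (ZMod p) G α).toRepresentation g v, ?_, rfl⟩
        show f ((permSumZero (ZMod p) G α).toRepresentation g v) = 0
        rw [Representation.IntertwiningMap.isIntertwining, show f v = 0 from hv, map_zero] }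
  have hWS : W.toSubmodule ≤ (permSumZero (ZMod p) G α).toSubmodule := by
    rintro _ ⟨v, -, rfl⟩; exact v.2
  have hCS : (permConstants (ZMod p) G α).toSubmodule ≤ (permSumZero (ZMod p) G α).toSubmodule := by
    intro v hv
    obtain ⟨k, rfl⟩ := mem_constants_iff.1 hv
    rw [mem_sumZero_iff]
    simp [hα]
  have hCW : (permConstants (ZMod p) G α).toSubmodule ≤ W.toSubmodule := fun v hv =>
    ⟨⟨v, hCS hv⟩, hf _ hv, rfl⟩
  rcases heart_irreducible hα hG W hCW hWS with hW | hW
  · -- the coordinate function is killed
    exfalso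
    let x : α → ZMod p := fun b => e.symm b
    have hx : x ∈ (permSumZero (ZMod p) G α).toSubmodule := by
      rw [mem_sumZero_iff, ← Equiv.sum_comp e]
      simp only [x, Equiv.symm_apply_apply]
      have hn : ∑ i : ZMod p, i = -∑ i : ZMod p, i := by
        conv_lhs => rw [← Equiv.sum_comp (Equiv.neg (ZMod p))]
        simp only [Equiv.neg_apply]
        rw [← Finset.sum_neg_distrib]
      have h2' : (2 : ZMod p) ≠ 0 := by
        intro h
        have := (ZMod.natCast_eq_zero_iff 2 p).1 (by exact_mod_cast h)
        have := Nat.le_of_dvd (by norm_num) this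
        omega
      exact (mul_eq_zero.1 (show (2 : ZMod p) * ∑ i : ZMod p, i = 0 by linear_combination hn)).resolve_left h2'
    let S := (permSumZero (ZMod p) G α).toRepresentation
    let v : (permSumZero (ZMod p) G α).toSubmodule := ⟨x, hx⟩
    have hnatfix : ∀ k : ℕ, permRep (ZMod p) G (Set.powersetCard α 2) (u ^ k) (f v) = f v := by
      intro k
      refine (Representation.IntertwiningMap.isIntertwining _ _ f (u ^ k) v).symm.trans ?_
      rw [← sub_eq_zero, ← map_sub]
      apply hf
      refine mem_constants_iff.2 ⟨-(k : ZMod p), funext fun b => ?_⟩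
      obtain ⟨i, rfl⟩ := e.surjective b
      show permRep (ZMod p) G α (u ^ k) x (e i) - x (e i) = _
      have hi : (u ^ k)⁻¹ • e i = e (i - k) := by
        rw [inv_smul_eq_iff, Subgroup.smul_def, Equiv.Perm.smul_def, hupow, sub_add_cancel]
      rw [permRep_apply, hi]
      simp [x]
    have htneg : permRep (ZMod p) G (Set.powersetCard α 2) t (f v) = -(f v) := by
      refine (Representation.IntertwiningMap.isIntertwining _ _ f t v).symm.trans ?_
      rw [← map_neg]
      congr 1
      refine Subtype.ext (funext fun b => ?_)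
      obtain ⟨i, rfl⟩ := e.surjective b
      show permRep (ZMod p) G α t x (e i) = -x (e i)
      have hi : t⁻¹ • e i = e (-i) := by
        rw [inv_smul_eq_iff, Subgroup.smul_def, Equiv.Perm.smul_def, hneg, neg_neg]
      rw [permRep_apply, hi]
      simp [x]
    have hzero : f v = 0 := by
      funext π
      obtain ⟨y, z, hyz, hπ⟩ := Finset.card_eq_two.1 (Set.powersetCard.card_eq π)
      let s : ZMod p := e.symm y + e.symm z
      have hact : (u ^ s.val) • (t • π) = π := by
        apply Subtype.ext
        show u ^ s.val • (t • (π : Finset α)) = (π : Finset α)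
        rw [hπ]
        have hp1 : ∀ b : α, (u ^ s.val) • (t • b) = e (s - e.symm b) := fun b => by
          conv_lhs => rw [← e.apply_symm_apply b]
          simp only [Subgroup.smul_def, Equiv.Perm.smul_def]
          rw [hneg, hupow, ZMod.natCast_zmod_val]
          congr 1; ring
        simp only [Finset.smul_finset_insert, Finset.smul_finset_singleton, hp1]
        rw [show s - e.symm y = e.symm z by simp [s], show s - e.symm z = e.symm y by simp [s],
          e.apply_symm_apply, e.apply_symm_apply, Finset.pair_comm]
      have h3 := congrFun (hnatfix s.val) π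
      have h4 := congrFun htneg (t • π)
      rw [permRep_apply] at h3 h4
      rw [inv_smul_smul] at h4
      rw [show (u ^ s.val)⁻¹ • π = t • π by rw [inv_smul_eq_iff, hact]] at h3
      rw [Pi.neg_apply, h3] at h4
      have h2'' : (2 : ZMod p) ≠ 0 := by
        intro h
        have := (ZMod.natCast_eq_zero_iff 2 p).1 (by exact_mod_cast h)
        have := Nat.le_of_dvd (by norm_num) this
        omega
      exact (mul_eq_zero.1 (show (2 : ZMod p) * f v π = 0 by linear_combination h4)).resolve_left h2''
    have hmem : x ∈ W.toSubmodule := ⟨v, hzero, rfl⟩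
    rw [hW] at hmem
    obtain ⟨k, hk⟩ := mem_constants_iff.1 hmem
    have h0 := congrFun hk (e 0)
    have h1 := congrFun hk (e 1)
    simp only [x, Equiv.symm_apply_apply] at h0 h1
    exact one_ne_zero (h1.trans h0.symm)
  · apply Representation.IntertwiningMap.ext
    ext1 v
    obtain ⟨w, hw, hwv⟩ : (v : α → ZMod p) ∈ W.toSubmodule := by
      rw [hW]; exact v.2
    rw [← show w = v from Subtype.ext hwv]
    exact hw

end Cfsg.Agent.S0676
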