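import Cfsg.Statements.S3612
import Cfsg.Agent.Lib.PrimeDegreeBlocks.Netto
import Cfsg.Agent.Lib.Perm.PrimeDegree
import Cfsg.Agent.S0676
-- import your own Cfsg.Agent.* helpers here

set_option autoImplicit false
set_option linter.style.haveILetI false
open Cfsg

namespace Cfsg.Agent.S3612

open Cfsg.Agent.Perm.PrimeDegree Cfsg.Agent.PrimeDegreeBlocks
open scoped Pointwise

/-- Let G be an insoluble group acting faithfully and transitively on a finite set of prime size p, and suppose the normalizer of a Sylow p-subgroup of G has order p(p-1)/2. If p > 7, then the stabilizer of a point acts primitively on the remaining p - 1 points. -/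
theorem result {G Ω : Type*} [Group G] [Finite G] [MulAction G Ω] [FaithfulSMul G Ω] [Finite Ω]
    (p : ℕ) (hp : p.Prime) (hΩ : Nat.card Ω = p) (htrans : MulAction.IsPretransitive G Ω)
    (hins : ¬ Group.IsSolvable G) (P : Sylow p G)
    (hN : 2 * Nat.card ↥(Subgroup.normalizer ((P : Subgroup G) : Set G)) = p * (p - 1))
    (hp7 : 7 < p) (α : Ω) :
    MulAction.IsPreprimitive ↥(MulAction.stabilizer G α) ↥(SubMulAction.ofStabilizer G α) := by
  classical
  haveI : Fact p.Prime := ⟨hp⟩
  haveI : Fintype Ω := Fintype.ofFinite Ω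
  haveI : MulAction.IsPretransitive G Ω := htrans
  have hα : Fintype.card Ω = p := by rw [← Nat.card_eq_fintype_card, hΩ]
  let φ : G →* Equiv.Perm Ω := MulAction.toPermHom G Ω
  have hφ : Function.Injective φ := fun a b h => eq_of_smul_eq_smul fun x : Ω => Equiv.ext_iff.1 h x
  let G' : Subgroup (Equiv.Perm Ω) := φ.range
  have hsmul : ∀ (g : G) (x : Ω), (φ.rangeRestrict g) • x = g • x := fun g x => rfl
  haveI : MulAction.IsPretransitive G' Ω := ⟨fun a b => by
    obtain ⟨g, hg⟩ := MulAction.exists_smul_eq G a b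
    exact ⟨φ.rangeRestrict g, (hsmul g a).trans hg⟩⟩
  have hins' : ¬ Group.IsSolvable G' := by
    intro h
    haveI := h
    exact hins (Group.isSolvable_of_isSolvable_injective (f := φ.rangeRestrict)
      fun a b hab => hφ (congrArg Subtype.val hab))
  have h2t : MulAction.IsMultiplyPretransitive G' Ω 2 := twoTransitive_of_not_isSolvable hα hins'
  have h2 : ∀ {a b c d : Ω}, a ≠ b → c ≠ d → ∃ g : G, g • a = c ∧ g • b = d := by
    intro a b c d hab hcd
    obtain ⟨g, h1, h2⟩ := MulAction.is_two_pretransitive_iff.1 h2t hab hcd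
    obtain ⟨g, rfl⟩ := φ.rangeRestrict_surjective g
    exact ⟨g, h1, h2⟩
  have hpodd : p % 2 = 1 := (hp.eq_two_or_odd).resolve_left (by omega)
  by_cases hp4 : p % 4 = 3
  swap
  · -- an even normaliser gives triple transitivity
    let P' : Sylow p G' := P.mapSurjective φ.rangeRestrict_surjective
    have hN' : Nat.card (Subgroup.normalizer ((P' : Subgroup G') : Set G')) =
        Nat.card (Subgroup.normalizer ((P : Subgroup G) : Set G)) := by
      have hinj : Function.Injective φ.rangeRestrict := fun a b hab => hφ (congrArg Subtype.val hab)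
      rw [show (P' : Subgroup G') = (P : Subgroup G).map φ.rangeRestrict from P.coe_mapSurjective _,
        ← Subgroup.map_normalizer_eq_of_bijective (P : Subgroup G)
          ⟨hinj, φ.rangeRestrict_surjective⟩]
      exact Subgroup.card_map_of_injective hinj
    have heven : Even (Nat.card (Subgroup.normalizer ((P' : Subgroup G') : Set G'))) := by
      rw [hN', even_iff_two_dvd]
      obtain ⟨k, hk⟩ : ∃ k, p - 1 = 4 * k := ⟨(p - 1) / 4, by omega⟩
      refine ⟨p * k, ?_⟩
      rw [hk] at hN
      linarith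
    have h3' := Cfsg.Agent.S0676.result hα G' hins' P' heven
    haveI h3 : MulAction.IsMultiplyPretransitive G Ω 3 := ⟨fun x y => by
      obtain ⟨g, hg⟩ := h3'.exists_smul_eq x y
      obtain ⟨g, rfl⟩ := φ.rangeRestrict_surjective g
      exact ⟨g, hg⟩⟩
    haveI : MulAction.IsMultiplyPretransitive ↥(MulAction.stabilizer G α)
        ↥(SubMulAction.ofStabilizer G α) 2 :=
      SubMulAction.ofStabilizer.isMultiplyPretransitive.mp h3
    exact MulAction.isPreprimitive_of_is_two_pretransitive inferInstance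
  -- the Sylow subgroup is cyclic of order `p`
  have hpdvd : p ∣ Nat.card G := by
    rw [← hΩ, ← MulAction.index_stabilizer_of_transitive G α]
    exact Subgroup.index_dvd_card _
  have hP : Nat.card (P : Subgroup G) = p := by
    obtain ⟨k, hk⟩ := P.2.exists_card_eq
    have h1 : p ^ 1 ∣ Nat.card (P : Subgroup G) :=
      P.pow_dvd_card_of_pow_dvd_card (by rwa [pow_one])
    have hk2 : k < 2 := by
      by_contra hk2
      refine not_dvd_card_sq (p := p) G' hp hα ?_
      rw [← Nat.card_congr (MonoidHom.ofInjective hφ).toEquiv]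
      exact (pow_dvd_pow p (not_lt.1 hk2)).trans (hk ▸ Subgroup.card_subgroup_dvd_card _)
    rcases k with _ | k
    · rw [hk, pow_zero, pow_one, Nat.dvd_one] at h1
      omega
    · rw [hk, show k = 0 by omega, pow_one]
  obtain ⟨⟨c, hcP⟩, hc⟩ := exists_prime_orderOf_dvd_card' p (by rw [hP] : p ∣ Nat.card (P : Subgroup G))
  rw [Subgroup.orderOf_mk] at hc
  have hPc : (P : Subgroup G) = Subgroup.zpowers c :=
    (Subgroup.eq_of_le_of_card_ge (Subgroup.zpowers_le.2 hcP) (by rw [Nat.card_zpowers, hc, hP])).symm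
  obtain ⟨e, he0, he⟩ := exists_coords hα (c := φ c) (by rw [orderOf_injective φ hφ, hc]) α
  let ψ : G →* Equiv.Perm (ZMod p) :=
    { toFun := fun g => e.trans ((φ g).trans e.symm)
      map_one' := by ext x; simp
      map_mul' := fun g h => by ext x; simp }
  have hψ : ∀ g x, ψ g x = e.symm (g • e x) := fun g x => rfl
  have hψinj : Function.Injective ψ := fun a b h => eq_of_smul_eq_smul fun x : Ω => by
    have := Equiv.ext_iff.1 h (e.symm x)
    rwa [hψ, hψ, e.apply_symm_apply, EmbeddingLike.apply_eq_iff_eq] at this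
  have hpow : ∀ (k : ℕ) (x : ZMod p), ψ (c ^ k) x = x + k := by
    intro k
    induction k with
    | zero => intro x; simp
    | succ k ih =>
      intro x
      rw [pow_succ', map_mul, Equiv.Perm.mul_apply, ih, hψ,
        show c • e (x + k) = φ c (e (x + k)) from rfl, he, e.symm_apply_apply]
      push_cast
      ring
  have hmulψ : ∀ n ∈ Subgroup.normalizer ((P : Subgroup G) : Set G), ∀ x,
      ψ n x = (ψ n 1 - ψ n 0) * x + ψ n 0 := by
    intro n hn
    have h := (Subgroup.mem_normalizer_iff.1 hn c).1 hcP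
    rw [hPc, Subgroup.mem_zpowers_iff] at h
    obtain ⟨k, hk⟩ := h
    obtain ⟨m, hm⟩ : ∃ m : ℕ, c ^ m = n * c * n⁻¹ := by
      refine ⟨(k % (orderOf c : ℤ)).toNat, ?_⟩
      rw [← zpow_natCast, Int.toNat_of_nonneg (Int.emod_nonneg _ (by simp [hc, hp.ne_zero])),
        zpow_mod_orderOf, hk]
    have hnat : ∀ i : ℕ, ψ n (i : ZMod p) = m * i + ψ n 0 := by
      intro i
      induction i with
      | zero => simp
      | succ i ih =>
        have h' : n * c = c ^ m * n := by rw [hm, inv_mul_cancel_right]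
        have := congrArg (fun g => ψ g (i : ZMod p)) h'
        simp only [map_mul, Equiv.Perm.mul_apply, hpow, ih] at this
        have h1 := hpow 1 (i : ZMod p)
        rw [pow_one] at h1
        rw [h1, Nat.cast_one] at this
        push_cast
        rw [this]
        ring
    intro x
    have h1 := hnat 1
    rw [← ZMod.natCast_zmod_val x, hnat]
    rw [Nat.cast_one] at h1
    rw [h1]
    ring
  -- the multipliers are the squares
  set N := Subgroup.normalizer ((P : Subgroup G) : Set G)
  let M : Finset (ZMod p) := Finset.univ.filter fun x => ∃ n ∈ N, ∀ y, ψ n y = x * y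
  have hM : ∀ x, x ∈ M ↔ ∃ n ∈ N, ∀ y, ψ n y = x * y := fun x => by simp [M]
  have hshiftN : ∀ k : ℕ, c ^ k ∈ N := fun k => Subgroup.le_normalizer (Subgroup.pow_mem _ hcP k)
  have hlinM : ∀ n ∈ N, ψ n 1 - ψ n 0 ∈ M := fun n hn => (hM _).2
    ⟨c ^ (-ψ n 0).val * n, mul_mem (hshiftN _) hn, fun y => by
      rw [map_mul, Equiv.Perm.mul_apply, hpow, ZMod.natCast_zmod_val, hmulψ n hn y]
      ring⟩
  have hMm : MulSet M :=
    { one_mem := (hM 1).2 ⟨1, one_mem _, fun y => by simp⟩
      ne_zero := fun x hx h0 => by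
        obtain ⟨n, -, hn⟩ := (hM x).1 hx
        exact one_ne_zero ((ψ n).injective (a₁ := 1) (a₂ := 0) (by simp [hn, h0]))
      mul_mem := fun x hx y hy => by
        obtain ⟨n, hn, hnx⟩ := (hM x).1 hx
        obtain ⟨n', hn', hny⟩ := (hM y).1 hy
        exact (hM _).2 ⟨n * n', mul_mem hn hn', fun z => by
          rw [map_mul, Equiv.Perm.mul_apply, hny, hnx, mul_assoc]⟩ }
  have hNcard : Nat.card N = M.card * p := by
    have hprod : Nat.card (M × ZMod p) = M.card * p := by
      rw [Nat.card_prod, Nat.card_eq_finsetCard, Nat.card_zmod]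
    rw [← hprod]
    let f : N → M × ZMod p := fun n => (⟨_, hlinM n.1 n.2⟩, ψ n.1 0)
    refine Nat.card_eq_of_bijective f ⟨fun a b hab => ?_, fun ⟨⟨x, hx⟩, b⟩ => ?_⟩
    · obtain ⟨h1, h2⟩ := Prod.mk.inj hab
      refine Subtype.ext (hψinj (Equiv.ext fun y => ?_))
      rw [hmulψ _ a.2, hmulψ _ b.2, Subtype.mk.inj h1, h2]
    · obtain ⟨n, hn, hnx⟩ := (hM x).1 hx
      refine ⟨⟨c ^ b.val * n, mul_mem (hshiftN _) hn⟩, ?_⟩
      refine Prod.ext (Subtype.ext ?_) ?_ <;>
        simp [f, map_mul, -map_pow, hpow, hnx]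
  have hhalf : 2 * ((p - 1) / 2) + 1 = p := half_spec (by omega)
  have hMcard : M.card = (p - 1) / 2 := by
    rw [hNcard] at hN
    have h1 : 2 * M.card * p = (p - 1) * p := by linarith
    have := Nat.eq_of_mul_eq_mul_right hp.pos h1
    omega
  have hMsq : M = PrimeDegreeBlocks.sq p := Finset.eq_of_subset_of_card_le
    (fun x hx => mem_sq.2 (hMcard ▸ hMm.pow_card hx)) (by rw [card_sq (by omega), hMcard])
  have hconf : Conf (p := p) ψ.range :=
    { seven_lt := hp7
      mod_four := hp4
      trans := fun b => ⟨c ^ b.val, Equiv.ext fun x => by simp [-map_pow, hpow]⟩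
      scale := fun x hx => by
        obtain ⟨n, -, hn⟩ := (hM x).1 (hMsq ▸ hx)
        exact ⟨_, ⟨n, rfl⟩, hn⟩
      two := fun z hz => by
        obtain ⟨g, h0, h1⟩ := h2 (a := e 0) (b := e 1) (c := e 0) (d := e z) (by simp) (by simp [Ne.symm hz])
        exact ⟨_, ⟨g, rfl⟩, by rw [hψ, h0, e.symm_apply_apply],
          by rw [hψ, h1, e.symm_apply_apply]⟩
      notAffine := by
        by_contra hcon
        push Not at hcon
        refine hins' (isSolvable_of_affine e fun g => ?_)
        obtain ⟨g, rfl⟩ := φ.rangeRestrict_surjective g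
        exact hcon _ ⟨g, rfl⟩ }
  have hcount : ∀ g, Nat.card ψ.range = p * (p - 1) * g → 2 * g % p = 1 := by
    intro g hg
    rw [← Nat.card_congr (MonoidHom.ofInjective hψinj).toEquiv, ← N.index_mul_card] at hg
    have h1 : N.index * (2 * Nat.card N) = 2 * g * (2 * Nat.card N) := by
      have : 2 * (N.index * Nat.card N) = 2 * (2 * Nat.card N * g) := by rw [hg, hN]
      linarith
    have h3 := Nat.eq_of_mul_eq_mul_right (by have : 0 < Nat.card N := Nat.card_pos; omega) h1
    rw [← h3]
    have h4 : Nat.card (Sylow p G) % p = 1 % p := card_sylow_modEq_one p G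
    rw [Sylow.card_eq_index_normalizer P, Nat.one_mod_eq_one.2 (by omega)] at h4
    exact h4
  -- point stabilisers are transitive
  haveI htr1 : MulAction.IsPretransitive ↥(MulAction.stabilizer G α)
      ↥(SubMulAction.ofStabilizer G α) := ⟨fun x y => by
    obtain ⟨g, h0, h1⟩ := h2 (Ne.symm x.2) (Ne.symm y.2)
    exact ⟨⟨g, h0⟩, Subtype.ext h1⟩⟩
  refine { toIsPretransitive := htr1, isTrivialBlock_of_isBlock := fun {B} hB => ?_ }
  rw [MulAction.IsTrivialBlock, or_iff_not_imp_left, Set.not_subsingleton_iff]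
  rintro ⟨a, ha, b, hb, hab⟩
  let B' : Set Ω := Subtype.val '' B
  let R : ZMod p → ZMod p → Prop := fun x y =>
    ∀ g : G, g • α = α → (g • e x ∈ B' ↔ g • e y ∈ B')
  have hR : Rel (p := p) ψ.range R :=
    { refl := fun _ _ _ _ => Iff.rfl
      symm := fun _ _ _ _ h g hg => (h g hg).symm
      trans := fun _ _ _ _ _ _ h h' g hg => (h g hg).trans (h' g hg)
      inv := by
        rintro _ ⟨k, rfl⟩ hk0 x y - - h g hg
        have hkα : k • α = α := by
          rw [← he0]
          rw [hψ, Equiv.symm_apply_eq] at hk0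
          exact hk0
        have := h (g * k) (by rw [mul_smul, hkα, hg])
        simpa [hψ, mul_smul] using this }
  have hne : ∀ z : ↥(SubMulAction.ofStabilizer G α), e.symm (z : Ω) ≠ 0 := fun z h =>
    z.2 (Set.mem_singleton_iff.2 ((e.apply_symm_apply (z : Ω)).symm.trans (by rw [h, he0])))
  have hB1 : ∀ (g : G) (hg : g • α = α) (x y : ↥(SubMulAction.ofStabilizer G α)),
      x ∈ B → y ∈ B → g • (x : Ω) ∈ B' → g • (y : Ω) ∈ B' := by
    intro g hg x y hx hy hxg
    obtain ⟨w, hw, hwx⟩ := hxg
    have hgB : (⟨g, hg⟩ : ↥(MulAction.stabilizer G α)) • B = B := by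
      by_contra hne'
      have hd := hB (g₁ := ⟨g, hg⟩) (g₂ := 1) (by rwa [one_smul])
      rw [one_smul] at hd
      exact Set.disjoint_left.1 hd (Set.smul_mem_smul_set hx)
        (by convert hw using 1; exact Subtype.ext hwx.symm)
    exact ⟨(⟨g, hg⟩ : ↥(MulAction.stabilizer G α)) • y, hgB ▸ Set.smul_mem_smul_set hy, rfl⟩
  have hRab : R (e.symm (a : Ω)) (e.symm (b : Ω)) := fun g hg => by
    rw [e.apply_symm_apply, e.apply_symm_apply]
    exact ⟨hB1 g hg a b ha hb, hB1 g hg b a hb ha⟩
  have h2c : 2 ≤ (cls R 1).card := by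
    rw [← hR.card_cls hconf (hne a)]
    exact Finset.one_lt_card.2 ⟨_, hR.self_mem (hne a), _, mem_cls.2 ⟨hne b, hRab⟩,
      fun h => hab (Subtype.ext (e.symm.injective h))⟩
  have hfull : ¬ (cls R 1).card < p - 1 := fun hlt => false_of_rel hconf hcount hR h2c hlt
  have hall : cls R (e.symm (a : Ω)) = Finset.univ.erase 0 := by
    refine Finset.eq_of_subset_of_card_le (fun y hy => ?_) ?_
    · simp [(mem_cls.1 hy).1]
    · rw [hR.card_cls hconf (hne a), Finset.card_erase_of_mem (Finset.mem_univ _), Finset.card_univ,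
        ZMod.card]
      omega
  refine Set.eq_univ_of_forall fun z => ?_
  have hz : e.symm (z : Ω) ∈ cls R (e.symm (a : Ω)) := by rw [hall]; simp [hne z]
  have h := (mem_cls.1 hz).2 1 (one_smul _ _)
  rw [e.apply_symm_apply, e.apply_symm_apply, one_smul, one_smul] at h
  obtain ⟨w, hw, hwz⟩ := h.1 ⟨a, ha, rfl⟩
  exact Subtype.ext hwz ▸ hw

end Cfsg.Agent.S3612
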