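import Cfsg.Statements.S4219
-- import your own Cfsg.Agent.* helpers here

set_option autoImplicit false
open Cfsg
open scoped Pointwise

namespace Cfsg.Agent.S4219

/-- Let a finite group `G` act `t`-fold transitively on a finite set, let `H` be the stabilizer of `t` distinct points and `P` a Sylow `p`-subgroup of `H`. Then the normalizer of `P` in `G` is `t`-fold transitive on the fixed points of `P`: any `t` distinct fixed points of `P` can be carried to any other `t` distinct fixed points of `P` by an element normalizing `P`. -/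
theorem result {G : Type*} [Group G] [Finite G] {α : Type*} [Fintype α] [MulAction G α] {t : ℕ} (hG : MulAction.IsMultiplyPretransitive G α t) (x : Fin t ↪ α) {p : ℕ} [Fact p.Prime] (P : Sylow p (MulAction.stabilizer G x)) (a b : Fin t ↪ α) (ha : ∀ i, a i ∈ MulAction.fixedPoints ((P : Subgroup (MulAction.stabilizer G x)).map (MulAction.stabilizer G x).subtype) α) (hb : ∀ i, b i ∈ MulAction.fixedPoints ((P : Subgroup (MulAction.stabilizer G x)).map (MulAction.stabilizer G x).subtype) α) : ∃ g ∈ Subgroup.normalizer ((((P : Subgroup (MulAction.stabilizer G x)).map (MulAction.stabilizer G x).subtype) : Subgroup G) : Set G), g • a = b := by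
  classical
  set Q : Subgroup G := (P : Subgroup (MulAction.stabilizer G x)).map (MulAction.stabilizer G x).subtype with hQdef
  have hQc : Nat.card Q = p ^ (Nat.card (MulAction.stabilizer G x)).factorization p :=
    (Subgroup.card_map_of_injective (MulAction.stabilizer G x).subtype_injective).trans P.card_eq_multiplicity
  have hfix : ∀ c : Fin t ↪ α, (∀ i, c i ∈ MulAction.fixedPoints Q α) →
      Q ≤ MulAction.stabilizer G c := fun c hc q hq =>
    Function.Embedding.ext fun i => hc i ⟨q, hq⟩
  obtain ⟨g, hg⟩ := hG.exists_smul_eq a b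
  obtain ⟨h, hh⟩ := hG.exists_smul_eq x b
  have hcard : Nat.card (MulAction.stabilizer G b) = Nat.card (MulAction.stabilizer G x) :=
    (Nat.card_congr (MulAction.stabilizerEquivStabilizer hh.symm).toEquiv).symm
  have hgQ : Q.map (MulAut.conj g).toMonoidHom ≤ MulAction.stabilizer G b := by
    rintro _ ⟨q, hq, rfl⟩
    have hqa : q • a = a := hfix a ha hq
    change (g * q * g⁻¹) • b = b
    rw [← hg, mul_smul, mul_smul, inv_smul_smul, hqa]
  let P₁ : Sylow p (MulAction.stabilizer G b) :=
    Sylow.ofCard ((Q.map (MulAut.conj g).toMonoidHom).subgroupOf _)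
      (by rw [Nat.card_congr (Subgroup.subgroupOfEquivOfLe hgQ).toEquiv,
        Subgroup.card_map_of_injective (MulAut.conj g).injective, hQc, hcard])
  let P₂ : Sylow p (MulAction.stabilizer G b) :=
    Sylow.ofCard (Q.subgroupOf _)
      (by rw [Nat.card_congr (Subgroup.subgroupOfEquivOfLe (hfix b hb)).toEquiv, hQc, hcard])
  obtain ⟨k, hk⟩ := MulAction.exists_smul_eq (MulAction.stabilizer G b) P₁ P₂
  have hk' : MulAut.conj k • ((Q.map (MulAut.conj g).toMonoidHom).subgroupOf
      (MulAction.stabilizer G b)) = Q.subgroupOf (MulAction.stabilizer G b) :=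
    congrArg Sylow.toSubgroup hk
  have hkb : (k : G) • b = b := k.2
  have hsub : ∀ q ∈ Q, (k : G) * g * q * ((k : G) * g)⁻¹ ∈ Q := by
    intro q hq
    have h1 : (⟨g * q * g⁻¹, hgQ ⟨q, hq, rfl⟩⟩ : MulAction.stabilizer G b) ∈
        (Q.map (MulAut.conj g).toMonoidHom).subgroupOf (MulAction.stabilizer G b) := ⟨q, hq, rfl⟩
    have h2 := hk' ▸ Subgroup.smul_mem_pointwise_smul _ (MulAut.conj k) _ h1
    have h3 : (k : G) * (g * q * g⁻¹) * (k : G)⁻¹ ∈ Q := h2
    simpa [mul_assoc] using h3
  refine ⟨k * g, ?_, by rw [mul_smul, hg, hkb]⟩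
  exact Subgroup.mem_normalizer_fintype hsub

end Cfsg.Agent.S4219
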