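import Cfsg.Statements.S0743
import Mathlib
import Cfsg.Agent.Lib.Perm.PointwiseTrans

set_option autoImplicit false
open Cfsg

namespace Cfsg.Agent.S0743

/-- Gleason's Lemma: let `p` be a prime and `1 ≤ k < n`; if every `k`-subset of the `n` points is exactly the fixed-point set of some `p`-subgroup of `G`, then `G` is `k`-transitive. -/
theorem result {α : Type*} [Fintype α] [DecidableEq α] (G : Subgroup (Equiv.Perm α)) {p k : ℕ} (hp : p.Prime) (hk : 1 ≤ k) (hkn : k < Fintype.card α) (h : ∀ s : Finset α, s.card = k → ∃ P : Subgroup G, IsPGroup p P ∧ MulAction.fixedPoints P α = (s : Set α)) : MulAction.IsMultiplyPretransitive G α k := by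
  classical
  have := Fact.mk hp
  refine Cfsg.Agent.Perm.isMultiplyPretransitive_of_pointwise hkn fun S hS a b ha hb => ?_
  let O : Set α := {z | ∃ g : G, (∀ x ∈ S, g • x = x) ∧ g • a = z}
  by_contra hcon
  have hbO : b ∉ O := hcon
  have haO : a ∈ O := ⟨1, fun x _ => one_smul G x, one_smul G a⟩
  have count : ∀ z, z ∉ S → ∃ P : Subgroup G, IsPGroup p P ∧ MulAction.fixedPoints P α = ((insert z S : Finset α) : Set α) :=
    fun z hz => h _ (by rw [Finset.card_insert_of_notMem hz, hS]; omega)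
  have hinv : ∀ z, z ∉ S → ∀ P : Subgroup G, MulAction.fixedPoints P α = ((insert z S : Finset α) : Set α) →
      ∀ g : P, ∀ o : α, o ∈ O → g • o ∈ O := by
    intro z hz P hP g o ⟨k', hk', hko⟩
    refine ⟨(g : G) * k', fun x hx => ?_, by rw [mul_smul, hko]; rfl⟩
    rw [mul_smul, hk' x hx]
    have : x ∈ MulAction.fixedPoints P α := by rw [hP]; simp [hx]
    exact this g
  have hmod : ∀ z, z ∉ S → Nat.card O ≡ Nat.card {o : α // o ∈ O ∧ (o = z ∨ o ∈ S)} [MOD p] := by
    intro z hz
    obtain ⟨P, hP, hfix⟩ := count z hz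
    let act : MulAction P O :=
      { smul := fun g o => ⟨g • (o : α), hinv z hz P hfix g o o.2⟩
        one_smul := fun o => Subtype.ext (one_smul P (o : α))
        mul_smul := fun g g' o => Subtype.ext (mul_smul g g' (o : α)) }
    refine (hP.card_modEq_card_fixedPoints O).trans (congrArg (· % p) (Nat.card_congr ?_))
    exact
      { toFun := fun o => ⟨o.1.1, o.1.2, by
          have : (o.1 : α) ∈ MulAction.fixedPoints P α := fun g => congrArg Subtype.val (o.2 g)
          rw [hfix] at this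
          simpa using this⟩
        invFun := fun o => ⟨⟨o.1, o.2.1⟩, fun g => Subtype.ext (by
          have : o.1 ∈ MulAction.fixedPoints P α := by rw [hfix]; simpa using o.2.2
          exact this g)⟩
        left_inv := fun o => rfl
        right_inv := fun o => rfl }
  have hOS : ∀ o ∈ O, o ∉ S := by
    rintro o ⟨g, hg, rfl⟩ hoS
    exact ha ((smul_left_cancel g (hg _ hoS)) ▸ hoS)
  have h1 : Nat.card {o : α // o ∈ O ∧ (o = a ∨ o ∈ S)} = 1 := by
    rw [Nat.card_eq_one_iff_unique]
    exact ⟨⟨fun u v => Subtype.ext ((u.2.2.resolve_right (hOS _ u.2.1)).trans (v.2.2.resolve_right (hOS _ v.2.1)).symm)⟩,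
      ⟨⟨a, haO, Or.inl rfl⟩⟩⟩
  have h0 : Nat.card {o : α // o ∈ O ∧ (o = b ∨ o ∈ S)} = 0 := by
    rw [Nat.card_eq_zero]
    exact Or.inl ⟨fun u => hbO ((u.2.2.resolve_right (hOS _ u.2.1)) ▸ u.2.1)⟩
  have := (hmod a ha).symm.trans (hmod b hb)
  rw [h1, h0, Nat.modEq_zero_iff_dvd] at this
  exact hp.one_lt.ne' (Nat.dvd_one.1 this)

end Cfsg.Agent.S0743
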