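import Cfsg.Statements.S0736
import Mathlib

set_option autoImplicit false
open Cfsg

namespace Cfsg.Agent.S0736

open Finset Pointwise

private theorem aux_choose (p : ℕ) [Fact p.Prime] :
    ∀ a n : ℕ, p ^ a ∣ n + 1 → ¬ p ∣ n.choose (p ^ a - 1) := by
  intro a
  induction a with
  | zero => intro n _; simpa using (Fact.out : p.Prime).one_lt.ne'
  | succ a ih =>
    intro n hn
    have hp : p.Prime := Fact.out
    have h2 := hp.two_le
    have hpa : 1 ≤ p ^ a := Nat.one_le_pow _ _ hp.pos
    obtain ⟨t, ht⟩ := hn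
    have ht0 : 1 ≤ t := by
      rcases Nat.eq_zero_or_pos t with h | h
      · subst h; simp at ht
      · exact h
    have h1 : 1 ≤ p ^ a * t := Nat.one_le_iff_ne_zero.2 (by positivity)
    have ek : p ^ (a + 1) - 1 = (p - 1) + p * (p ^ a - 1) := by
      obtain ⟨u, hu⟩ : ∃ u, p ^ a = u + 1 := ⟨p ^ a - 1, by omega⟩
      rw [pow_succ', hu, Nat.mul_add, mul_one, Nat.add_sub_cancel]; omega
    have en : n = (p - 1) + p * (p ^ a * t - 1) := by
      obtain ⟨u, hu⟩ : ∃ u, p ^ a * t = u + 1 := ⟨p ^ a * t - 1, by omega⟩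
      rw [pow_succ', mul_assoc, hu, Nat.mul_add, mul_one] at ht
      rw [hu, Nat.add_sub_cancel]; omega
    have m : ∀ u, ((p - 1) + p * u) % p = p - 1 ∧ ((p - 1) + p * u) / p = u := fun u => by
      refine ⟨?_, ?_⟩
      · rw [Nat.add_mul_mod_self_left, Nat.mod_eq_of_lt (by omega)]
      · rw [Nat.add_mul_div_left _ _ hp.pos, Nat.div_eq_of_lt (show p - 1 < p by omega), zero_add]
    have hl := Choose.choose_modEq_choose_mod_mul_choose_div_nat (n := n) (k := p ^ (a + 1) - 1) (p := p)
    rw [ek, en, (m _).1, (m _).2, (m _).1, (m _).2, Nat.choose_self, one_mul] at hl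
    rw [ek, en]
    intro hd
    apply ih (p ^ a * t - 1) ?_ ((Nat.modEq_zero_iff_dvd).1 (hl.symm.trans (Nat.modEq_zero_iff_dvd.2 hd)))
    rw [Nat.sub_add_cancel h1]; exact Dvd.intro t rfl

private theorem aux_count {α : Type*} [DecidableEq α] (U : Finset α) (O : Finset (Finset α))
    {k r : ℕ} (hk : 1 ≤ k) (hO : ∀ u ∈ O, u.card = k - 1)
    (hr : ∀ T : Finset α, T.card = k → (T.filter fun x => T.erase x ∈ O).card = r) :
    U.card.choose k * r = (O.filter fun u => u ⊆ U).card * (U.card - (k - 1)) := by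
  have h1 : ((U.powersetCard k).sigma fun T => T.filter fun x => T.erase x ∈ O).card
      = U.card.choose k * r := by
    rw [card_sigma, sum_congr rfl (fun T hT => hr T (mem_powersetCard.1 hT).2)]
    simp
  have h2 : ((O.filter fun u => u ⊆ U).sigma fun u => U \ u).card
      = (O.filter fun u => u ⊆ U).card * (U.card - (k - 1)) := by
    rw [card_sigma]
    rw [sum_congr rfl (g := fun _ => U.card - (k - 1))]
    · simp
    · intro u hu
      rw [mem_filter] at hu
      rw [card_sdiff_of_subset hu.2, hO u hu.1]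
  rw [← h1, ← h2]
  refine card_bij' (fun z _ => ⟨z.1.erase z.2, z.2⟩) (fun z _ => ⟨insert z.2 z.1, z.2⟩) ?_ ?_ ?_ ?_
  · rintro ⟨T, x⟩ hz
    simp only [mem_sigma, mem_powersetCard, mem_filter, mem_sdiff] at hz ⊢
    exact ⟨⟨hz.2.2, (erase_subset _ _).trans hz.1.1⟩, hz.1.1 hz.2.1, notMem_erase _ _⟩
  · rintro ⟨u, x⟩ hz
    simp only [mem_sigma, mem_powersetCard, mem_filter, mem_sdiff] at hz ⊢
    refine ⟨⟨insert_subset hz.2.1 hz.1.2, ?_⟩, mem_insert_self _ _, ?_⟩
    · rw [card_insert_of_notMem hz.2.2, hO u hz.1.1]; omega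
    · rw [erase_insert hz.2.2]; exact hz.1.1
  · rintro ⟨T, x⟩ hz
    simp only [mem_sigma, mem_filter] at hz
    simp [insert_erase hz.2.1]
  · rintro ⟨u, x⟩ hz
    simp only [mem_sigma, mem_sdiff] at hz
    simp [erase_insert hz.2.2]

/-- A `k`-homogeneous permutation group of degree `n`, `k ≥ 2`, with `k + q - 1 ≤ n` for every prime power `q` dividing `k`, is `(k-1)`-homogeneous. -/
theorem result {α : Type*} [Fintype α] [DecidableEq α] (G : Subgroup (Equiv.Perm α)) {k : ℕ} (hk : 2 ≤ k) (hG : MulAction.IsPretransitive G (Set.powersetCard α k)) (hq : ∀ q : ℕ, IsPrimePow q → q ∣ k → k + q - 1 ≤ Fintype.card α) : MulAction.IsPretransitive G (Set.powersetCard α (k - 1)) := by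
  classical
  have := hG
  refine ⟨fun s t => ?_⟩
  let O : Finset (Finset α) := Finset.univ.filter fun u => ∃ g : G, g • (s : Finset α) = u
  have hO : ∀ u ∈ O, u.card = k - 1 := by
    intro u hu
    obtain ⟨g, rfl⟩ := (mem_filter.1 hu).2
    rw [card_smul_finset, Set.powersetCard.card_eq]
  have hOinv : ∀ (g : G) (u : Finset α), g • u ∈ O ↔ u ∈ O := by
    intro g u
    simp only [O, mem_filter, mem_univ, true_and]
    constructor
    · rintro ⟨h, hh⟩; exact ⟨g⁻¹ * h, by rw [mul_smul, hh, inv_smul_smul]⟩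
    · rintro ⟨h, hh⟩; exact ⟨g * h, by rw [mul_smul, hh]⟩
  let f : Finset α → ℕ := fun T => (T.filter fun x => T.erase x ∈ O).card
  have hf : ∀ (g : G) (T : Finset α), f (g • T) = f T := by
    intro g T
    refine (Finset.card_bij (fun x _ => g • x) ?_ (fun a _ b _ h => smul_left_cancel g h) ?_).symm
    · intro x hx
      rw [mem_filter] at hx ⊢
      refine ⟨smul_mem_smul_finset hx.1, ?_⟩
      have : (g • T).erase (g • x) = g • T.erase x := by
        ext y; simp [mem_smul_finset, eq_comm]; aesop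
      rw [this]; exact (hOinv g _).2 hx.2
    · intro y hy
      rw [mem_filter] at hy
      obtain ⟨x, hx, rfl⟩ := mem_smul_finset.1 hy.1
      refine ⟨x, mem_filter.2 ⟨hx, (hOinv g _).1 ?_⟩, rfl⟩
      have : (g • T).erase (g • x) = g • T.erase x := by
        ext y; simp [mem_smul_finset, eq_comm]; aesop
      rw [← this]; exact hy.2
  have hn : k ≤ Fintype.card α := by
    obtain ⟨p, hp, hpk⟩ := Nat.exists_prime_and_dvd (show k ≠ 1 by omega)
    have := hq p hp.isPrimePow hpk
    have := hp.two_le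
    omega
  obtain ⟨T₀, hsT₀, -, hT₀⟩ := exists_subsuperset_card_eq (subset_univ (s : Finset α))
    (n := k) (by rw [Set.powersetCard.card_eq]; omega) (by rw [card_univ]; exact hn)
  have hr : ∀ T : Finset α, T.card = k → f T = f T₀ := by
    intro T hT
    obtain ⟨g, hg⟩ := MulAction.exists_smul_eq G (Set.powersetCard.ofCard hT₀) (Set.powersetCard.ofCard hT)
    have hg' : g • T₀ = T := congrArg Subtype.val hg
    rw [← hg', hf]
  have hrk : f T₀ ≤ k := (card_filter_le _ _).trans hT₀.le
  have hdvd : k ∣ f T₀ := by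
    refine (Nat.dvd_iff_prime_pow_dvd_dvd _ _).2 fun p a hp hpa => ?_
    rcases Nat.eq_zero_or_pos a with rfl | ha
    · simp
    have : Fact p.Prime := ⟨hp⟩
    have hle := hq (p ^ a) (hp.isPrimePow.pow ha.ne') hpa
    obtain ⟨U, -, hU⟩ := exists_subset_card_eq (s := (univ : Finset α)) (n := k + p ^ a - 1)
      (by rw [card_univ]; exact hle)
    have hc := aux_count U O (by omega) hO hr
    rw [hU] at hc
    have hpa1 : 1 ≤ p ^ a := Nat.one_le_pow _ _ hp.pos
    rw [show k + p ^ a - 1 - (k - 1) = p ^ a by omega] at hc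
    have hcop : ¬ p ∣ (k + p ^ a - 1).choose k := by
      rw [← Nat.choose_symm (by omega), show k + p ^ a - 1 - k = p ^ a - 1 by omega]
      apply aux_choose
      rw [Nat.sub_add_cancel (by omega)]
      exact Nat.dvd_add hpa dvd_rfl
    exact (Nat.Coprime.dvd_of_dvd_mul_left (Nat.Coprime.pow_left a ((hp.coprime_iff_not_dvd).2 hcop))
      ⟨_, hc.trans (mul_comm _ _)⟩)
  have hpos : 0 < f T₀ := by
    obtain ⟨x, hx, hx'⟩ := exists_mem_notMem_of_card_lt_card (s := (s : Finset α)) (t := T₀)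
      (by rw [Set.powersetCard.card_eq, hT₀]; omega)
    refine card_pos.2 ⟨x, mem_filter.2 ⟨hx, ?_⟩⟩
    have : T₀.erase x = (s : Finset α) := by
      refine (eq_of_subset_of_card_le (subset_erase.2 ⟨hsT₀, hx'⟩) ?_).symm
      rw [card_erase_of_mem hx, hT₀, Set.powersetCard.card_eq]
    rw [this]
    simp only [O, mem_filter, mem_univ, true_and]
    exact ⟨1, one_smul _ _⟩
  have hfk : f T₀ = k := Nat.le_antisymm hrk (Nat.le_of_dvd hpos hdvd)
  obtain ⟨T, htT, -, hT⟩ := exists_subsuperset_card_eq (subset_univ (t : Finset α))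
    (n := k) (by rw [Set.powersetCard.card_eq]; omega) (by rw [card_univ]; exact hn)
  obtain ⟨x, hx, hx'⟩ := exists_mem_notMem_of_card_lt_card (s := (t : Finset α)) (t := T)
      (by rw [Set.powersetCard.card_eq, hT]; omega)
  have hall : T.filter (fun x => T.erase x ∈ O) = T :=
    eq_of_subset_of_card_le (filter_subset _ _) (by rw [show (T.filter _).card = f T from rfl, hr T hT, hfk, hT])
  have := (mem_filter.1 (hall.symm ▸ hx : x ∈ T.filter fun x => T.erase x ∈ O)).2
  have e : T.erase x = (t : Finset α) := by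
    refine (eq_of_subset_of_card_le (subset_erase.2 ⟨htT, hx'⟩) ?_).symm
    rw [card_erase_of_mem hx, hT, Set.powersetCard.card_eq]
  rw [e] at this
  obtain ⟨g, hg⟩ := (mem_filter.1 this).2
  exact ⟨g, Subtype.ext hg⟩

end Cfsg.Agent.S0736
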