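import Cfsg.Statements.S0744
import Mathlib
import Cfsg.Agent.Lib.Perm.PointwiseTrans

set_option autoImplicit false
open Cfsg

namespace Cfsg.Agent.S0744

/-- If for some `k > 1` the pointwise stabilisers of all `(k-1)`-subsets have the same order `> 1` and those of all `k`-subsets have the same order, then the group is `(k-1)`-transitive. -/
theorem result {α : Type*} [Fintype α] [DecidableEq α] (G : Subgroup (Equiv.Perm α)) {k : ℕ} (hk : 1 < k) (hkn : k ≤ Fintype.card α) (l m : ℕ) (hl : 1 < l) (hkm1 : ∀ s : Finset α, s.card = k - 1 → Nat.card (fixingSubgroup G (s : Set α)) = l) (hkm : ∀ s : Finset α, s.card = k → Nat.card (fixingSubgroup G (s : Set α)) = m) : MulAction.IsMultiplyPretransitive G α (k - 1) := by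
  classical
  have := Fintype.ofFinite G
  let Fx : Finset α → Finset G := fun S => Finset.univ.filter fun g => ∀ x ∈ S, g • x = x
  have hFx : ∀ S : Finset α, (Fx S).card = Nat.card (fixingSubgroup G (S : Set α)) := by
    intro S
    rw [← Fintype.card_subtype, ← Nat.card_eq_fintype_card]
    exact Nat.card_congr (Equiv.subtypeEquivRight fun g => by simp [mem_fixingSubgroup_iff])
  refine Cfsg.Agent.Perm.isMultiplyPretransitive_of_pointwise (show k - 1 < Fintype.card α by omega) ?_
  intro S hS a b ha hb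
  by_contra hcon
  let K := Fx S
  let orb : α → Finset α := fun z => K.image fun g => g • z
  have hKmul : ∀ g ∈ K, ∀ g' ∈ K, g * g' ∈ K := fun g hg g' hg' => by
    simp only [K, Fx, Finset.mem_filter, Finset.mem_univ, true_and] at hg hg' ⊢
    intro x hx; rw [mul_smul, hg' x hx, hg x hx]
  have hKinv : ∀ g ∈ K, g⁻¹ ∈ K := fun g hg => by
    simp only [K, Fx, Finset.mem_filter, Finset.mem_univ, true_and] at hg ⊢
    intro x hx; rw [inv_smul_eq_iff, hg x hx]
  have hK1 : (1 : G) ∈ K := by simp [K, Fx]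
  -- orbit-stabiliser for a subgroup given as a finset
  have orbit : ∀ (A : Finset G), (∀ g ∈ A, ∀ g' ∈ A, g * g' ∈ A) → (∀ g ∈ A, g⁻¹ ∈ A) → ∀ z : α,
      A.card = (A.image fun g => g • z).card * (A.filter fun g => g • z = z).card := by
    intro A hAm hAi z
    rw [Finset.card_eq_sum_card_image (fun g : G => g • z) A, ← smul_eq_mul, ← Finset.sum_const]
    refine Finset.sum_congr rfl fun w hw => ?_
    obtain ⟨t, ht, rfl⟩ := Finset.mem_image.1 hw
    refine Finset.card_bij' (fun g _ => t⁻¹ * g) (fun g _ => t * g) ?_ ?_ ?_ ?_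
    · intro g hg
      simp only [Finset.mem_filter] at hg ⊢
      exact ⟨hAm _ (hAi t ht) g hg.1, by rw [mul_smul, hg.2, inv_smul_smul]⟩
    · intro g hg
      simp only [Finset.mem_filter] at hg ⊢
      exact ⟨hAm t ht g hg.1, by rw [mul_smul, hg.2]⟩
    · intro g _; group
    · intro g _; group
  have hFins : ∀ (T : Finset α) (z : α), (Fx T).filter (fun g => g • z = z) = Fx (insert z T) := by
    intro T z
    ext g
    simp [Fx, Finset.mem_insert, and_comm]
  have hstab : ∀ z, z ∉ S → (K.filter fun g => g • z = z).card = l := by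
    intro z hz
    rw [hFins, hFx, hkm1]
    rw [Finset.card_insert_of_notMem hz, hS]; omega
  -- every invariant set avoiding `a` and `S` has size divisible by `l / m`
  let A := Fx (insert a S)
  have hA : A.card = l := by rw [hFx, hkm1]; rw [Finset.card_insert_of_notMem ha, hS]; omega
  have hAm : ∀ g ∈ A, ∀ g' ∈ A, g * g' ∈ A := fun g hg g' hg' => by
    simp only [A, Fx, Finset.mem_filter, Finset.mem_univ, true_and] at hg hg' ⊢
    intro x hx; rw [mul_smul, hg' x hx, hg x hx]
  have hAi : ∀ g ∈ A, g⁻¹ ∈ A := fun g hg => by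
    simp only [A, Fx, Finset.mem_filter, Finset.mem_univ, true_and] at hg ⊢
    intro x hx; rw [inv_smul_eq_iff, hg x hx]
  have hA1 : (1 : G) ∈ A := by simp [A, Fx]
  have hAK : ∀ g ∈ A, g ∈ K := fun g hg => by
    simp only [A, K, Fx, Finset.mem_filter, Finset.mem_univ, true_and] at hg ⊢
    exact fun x hx => hg x (Finset.mem_insert_of_mem hx)
  have hstab2 : ∀ z, z ∉ insert a S → (A.filter fun g => g • z = z).card = m := by
    intro z hz
    rw [hFins, hFx, hkm]
    rw [Finset.card_insert_of_notMem hz, Finset.card_insert_of_notMem ha, hS]; omega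
  have hdiv : ∀ T : Finset α, (∀ z ∈ T, z ∉ insert a S) → (∀ g ∈ A, ∀ z ∈ T, g • z ∈ T) → l ∣ T.card * m := by
    intro T hT hTinv
    rw [Finset.card_eq_sum_card_image (fun z => A.image fun g => g • z) T, Finset.sum_mul]
    refine Finset.dvd_sum fun O hO => ?_
    obtain ⟨z, hz, rfl⟩ := Finset.mem_image.1 hO
    rw [← hA, orbit A hAm hAi z, hstab2 z (hT z hz)]
    refine mul_dvd_mul_right (dvd_of_eq ?_) m
    congr 1
    ext w
    simp only [Finset.mem_filter, Finset.mem_image]
    constructor
    · rintro ⟨g, hg, rfl⟩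
      refine ⟨hTinv g hg z hz, Finset.ext fun v => ?_⟩
      simp only [Finset.mem_image]
      constructor
      · rintro ⟨g', hg', rfl⟩; exact ⟨g' * g, hAm g' hg' g hg, mul_smul _ _ _⟩
      · rintro ⟨g', hg', rfl⟩
        exact ⟨g' * g⁻¹, hAm g' hg' _ (hAi g hg), by rw [mul_smul, inv_smul_smul]⟩
    · rintro ⟨-, heq⟩
      have : w ∈ A.image fun g => g • w := Finset.mem_image.2 ⟨1, hA1, one_smul G w⟩
      rw [heq] at this
      exact Finset.mem_image.1 this
  have horbS : ∀ z, z ∉ S → ∀ w ∈ orb z, w ∉ S := by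
    intro z hz w hw hwS
    obtain ⟨g, hg, rfl⟩ := Finset.mem_image.1 hw
    have := (Finset.mem_filter.1 hg).2 _ hwS
    exact hz ((smul_left_cancel g this) ▸ hwS)
  have horbinv : ∀ z, ∀ g ∈ A, ∀ w ∈ orb z, g • w ∈ orb z := by
    intro z g hg w hw
    obtain ⟨g', hg', rfl⟩ := Finset.mem_image.1 hw
    exact Finset.mem_image.2 ⟨g * g', hKmul g (hAK g hg) g' hg', mul_smul _ _ _⟩
  have hbo : a ∉ orb b := by
    intro h
    obtain ⟨g, hg, hgb⟩ := Finset.mem_image.1 h
    refine hcon ⟨g⁻¹, fun x hx => ?_, by rw [← hgb, inv_smul_smul]⟩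
    rw [inv_smul_eq_iff, (Finset.mem_filter.1 hg).2 x hx]
  have hao : a ∈ orb a := Finset.mem_image.2 ⟨1, hK1, one_smul G a⟩
  have h1 := hdiv (orb b) (fun z hz => by
    rw [Finset.mem_insert, not_or]
    exact ⟨fun e => hbo (e ▸ hz), horbS b hb z hz⟩) (horbinv b)
  have h2 := hdiv ((orb a).erase a) (fun z hz => by
    rw [Finset.mem_insert, not_or]
    exact ⟨Finset.ne_of_mem_erase hz, horbS a ha z (Finset.mem_of_mem_erase hz)⟩) (fun g hg z hz => by
    rw [Finset.mem_erase] at hz ⊢
    have hga : g • a = a := (Finset.mem_filter.1 hg).2 a (Finset.mem_insert_self _ _)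
    exact ⟨fun e => hz.1 (smul_left_cancel g (e.trans hga.symm)), horbinv a g hg z hz.2⟩)
  have hcard : (orb b).card = (orb a).card := by
    have e1 := orbit K hKmul hKinv a
    have e2 := orbit K hKmul hKinv b
    rw [hstab a ha] at e1
    rw [hstab b hb] at e2
    exact Nat.eq_of_mul_eq_mul_right (by omega) (e2.symm.trans e1)
  rw [Finset.card_erase_of_mem hao, Nat.sub_mul, one_mul, ← hcard] at h2
  have hpos : 1 ≤ (orb b).card := by
    rw [hcard]; exact Finset.card_pos.2 ⟨a, hao⟩
  have hlm : l ∣ m := by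
    have := Nat.dvd_sub h1 h2
    rwa [Nat.sub_sub_self (Nat.le_mul_of_pos_left m hpos)] at this
  -- so the stabiliser of `insert a S` fixes every other point
  have hall : ∀ g ∈ A, g = 1 := by
    intro g hg
    refine Subtype.ext (Equiv.ext fun z => ?_)
    show g • z = z
    by_cases hz : z ∈ insert a S
    · exact (Finset.mem_filter.1 hg).2 z hz
    · have e := hstab2 z hz
      have hm : 0 < m := e ▸ Finset.card_pos.2 ⟨1, Finset.mem_filter.2 ⟨hA1, one_smul G z⟩⟩
      have := Finset.eq_of_subset_of_card_le (Finset.filter_subset (fun g : G => g • z = z) A)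
        (by rw [hA, e]; exact Nat.le_of_dvd hm hlm)
      have hg' : g ∈ A.filter fun g : G => g • z = z := by rw [this]; exact hg
      exact (Finset.mem_filter.1 hg').2
  have : A.card ≤ 1 := Finset.card_le_one.2 fun g hg g' hg' => (hall g hg).trans (hall g' hg').symm
  omega

end Cfsg.Agent.S0744
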