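import Cfsg.Statements.S0989
import Mathlib

set_option autoImplicit false
open Cfsg

namespace Cfsg.Agent.S0989

/-- In the symmetric group on p or p + 1 letters, p a prime, the normalizer of a Sylow p-subgroup has order p * (p - 1). -/
theorem result {α : Type*} [Fintype α] [DecidableEq α] (p : ℕ) [Fact p.Prime] (hα : Fintype.card α = p ∨ Fintype.card α = p + 1) (P : Sylow p (Equiv.Perm α)) : Nat.card ↥(Subgroup.normalizer ((P : Subgroup (Equiv.Perm α)) : Set (Equiv.Perm α))) = p * (p - 1) := by
  classical
  have hp : p.Prime := Fact.out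
  have hle : Fintype.card α - p < p := by
    rcases hα with h | h <;> have := hp.two_le <;> omega
  have hpc : p ≤ Fintype.card α := by rcases hα with h | h <;> omega
  have hfac : (Nat.card (Equiv.Perm α)).factorization p = 1 := by
    rw [Nat.card_perm, Nat.card_eq_fintype_card]
    have hsplit : ∀ n, n < 2 * p → p ≤ n → n.factorial.factorization p = 1 := by
      intro n hn hpn
      induction n, hpn using Nat.le_induction with
      | base =>
        rw [← Nat.mul_factorial_pred hp.ne_zero,
          Nat.factorization_mul hp.ne_zero (Nat.factorial_ne_zero _), Finsupp.add_apply,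
          hp.factorization_self, Nat.factorization_eq_zero_of_not_dvd
            (fun h => absurd (hp.dvd_factorial.1 h) (by have := hp.two_le; omega))]
      | succ n hn' ih =>
        rw [Nat.factorial_succ, Nat.factorization_mul (by omega) (Nat.factorial_ne_zero _),
          Finsupp.add_apply, ih (by omega), Nat.factorization_eq_zero_of_not_dvd]
        rintro ⟨c, hc⟩
        rcases Nat.lt_or_ge c 2 with h | h
        · interval_cases c <;> omega
        · nlinarith
    exact hsplit _ (by omega) hpc
  have hPc : Nat.card (P : Subgroup (Equiv.Perm α)) = p := by rw [P.card_eq_multiplicity, hfac, pow_one]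
  obtain ⟨g, hg⟩ : ∃ g : (P : Subgroup (Equiv.Perm α)), orderOf g = p := exists_prime_orderOf_dvd_card' p (by rw [hPc])
  have hgP : Subgroup.zpowers (g : Equiv.Perm α) = P := by
    refine Subgroup.eq_of_le_of_card_ge (Subgroup.zpowers_le.2 g.2) ?_
    rw [Nat.card_zpowers, Subgroup.orderOf_coe, hg, hPc]
  have hcyc : ∀ x : (P : Subgroup (Equiv.Perm α)), x ≠ 1 → (x : Equiv.Perm α).cycleType = {p} := by
    intro x hx
    have hx1 : orderOf (x : Equiv.Perm α) = p := by
      rw [Subgroup.orderOf_coe]
      have hd := orderOf_dvd_natCard x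
      rw [hPc] at hd
      exact ((Nat.dvd_prime hp).1 hd).resolve_left
        (fun h => hx (orderOf_eq_one_iff.1 h))
    obtain ⟨j, hj⟩ := Equiv.Perm.cycleType_prime_order (by rw [hx1]; exact hp)
    rw [hx1] at hj
    have h1 : (x : Equiv.Perm α).cycleType.sum ≤ Fintype.card α := by
      rw [Equiv.Perm.sum_cycleType]; exact Finset.card_le_univ _
    rw [hj, Multiset.sum_replicate, smul_eq_mul] at h1
    rcases Nat.eq_zero_or_pos j with rfl | hj0
    · simpa using hj
    · exfalso
      have : 2 * p ≤ (j + 1) * p := Nat.mul_le_mul_right p (by omega)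
      omega
  -- the normaliser induces all automorphisms
  haveI : IsCyclic (P : Subgroup (Equiv.Perm α)) := isCyclic_of_prime_card hPc
  set N := Subgroup.normalizer ((P : Subgroup (Equiv.Perm α)) : Set (Equiv.Perm α))
  set f := Subgroup.normalizerMonoidHom (P : Subgroup (Equiv.Perm α))
  have hfs : Function.Surjective f := by
    intro φ
    have hg1 : g ≠ 1 := fun h => by rw [h, orderOf_one] at hg; exact hp.one_lt.ne hg
    obtain ⟨u, hu⟩ := isConj_iff.1 (Equiv.Perm.isConj_iff_cycleType_eq.2
      ((hcyc g hg1).trans (hcyc (φ g) (fun h => hg1 (φ.injective (h.trans (map_one φ).symm)))).symm))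
    have hmap : Subgroup.map (MulAut.conj u).toMonoidHom (P : Subgroup (Equiv.Perm α)) = P := by
      rw [← hgP, MonoidHom.map_zpowers, hgP]
      refine Subgroup.eq_of_le_of_card_ge (Subgroup.zpowers_le.2 ?_) ?_
      · change u * (g : Equiv.Perm α) * u⁻¹ ∈ _
        rw [hu]; exact (φ g).2
      · rw [Nat.card_zpowers]
        change Nat.card (P : Subgroup (Equiv.Perm α)) ≤ orderOf (MulAut.conj u (g : Equiv.Perm α))
        rw [MulEquiv.orderOf_eq, Subgroup.orderOf_coe, hg, hPc]
    have huN : u ∈ N := by
      rw [Subgroup.mem_normalizer_iff_map_conj_eq]; exact hmap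
    refine ⟨⟨u, huN⟩, MulEquiv.ext fun x => ?_⟩
    obtain ⟨i, hi⟩ := Subgroup.mem_zpowers_iff.1 (hgP.ge x.2)
    have hx : x = g ^ i := Subtype.ext (by rw [Subgroup.coe_zpow]; exact hi.symm)
    rw [hx, map_zpow, map_zpow]
    congr 1
    exact Subtype.ext hu
  have hker : Nat.card f.ker = p := by
    have e : Nat.card f.ker = Nat.card (Subgroup.centralizer {(g : Equiv.Perm α)}) := by
      refine Nat.card_congr (Equiv.ofBijective (fun x => ⟨x.1.1, ?_⟩) ⟨?_, ?_⟩)
      · rw [Subgroup.mem_centralizer_singleton_iff]
        have := congrArg Subtype.val (MulEquiv.ext_iff.1 (MonoidHom.mem_ker.1 x.2) g)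
        exact mul_inv_eq_iff_eq_mul.1 this
      · exact fun x y h => Subtype.ext (Subtype.ext
          (congrArg (fun z : Subgroup.centralizer {(g : Equiv.Perm α)} => z.1) h))
      · rintro ⟨u, hu⟩
        rw [Subgroup.mem_centralizer_singleton_iff] at hu
        have hc : ∀ x : (P : Subgroup (Equiv.Perm α)), u * (x : Equiv.Perm α) * u⁻¹ = x := fun x => by
          obtain ⟨i, hi⟩ := Subgroup.mem_zpowers_iff.1 (hgP.ge x.2)
          rw [← hi, mul_inv_eq_iff_eq_mul]
          exact Commute.zpow_right hu i
        have huN : u ∈ N := Subgroup.mem_normalizer_fintype fun x hx => by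
          rw [hc ⟨x, hx⟩]; exact hx
        exact ⟨⟨⟨u, huN⟩, MonoidHom.mem_ker.2 (MulEquiv.ext fun x => Subtype.ext (hc x))⟩, rfl⟩
    rw [e, Equiv.Perm.nat_card_centralizer, hcyc g (fun h => by
      rw [h, orderOf_one] at hg; exact hp.one_lt.ne hg)]
    have : (Fintype.card α - p).factorial = 1 := by
      rcases hα with h | h <;> simp [h]
    simp [this]
  have h := f.ker.index_mul_card
  rw [Subgroup.index_ker, MonoidHom.range_eq_top.2 hfs, Subgroup.card_top, hker] at h
  rw [← h, IsCyclic.card_mulAut, hPc, Nat.totient_prime hp, mul_comm]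

end Cfsg.Agent.S0989
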