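import Cfsg.Statements.S3707

set_option autoImplicit false
open Cfsg

namespace Cfsg.Agent.S3707

open MulAction
open scoped Pointwise

/-- Jordan data give Mathlib's hypothesis on the fixing subgroup of the complement. -/
theorem fixing_pretransitive {G Ω : Type*} [Group G] [MulAction G Ω] (Γ : Set Ω)
    (htr : ∀ x ∈ Γ, ∀ y ∈ Γ, ∃ g : G, (∀ z ∉ Γ, g • z = z) ∧ g • x = y) :
    IsPretransitive (fixingSubgroup G Γᶜ) (SubMulAction.ofFixingSubgroup G Γᶜ) := by
  refine ⟨fun x y => ?_⟩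
  have hx : (x : Ω) ∈ Γ := by
    have := (SubMulAction.mem_ofFixingSubgroup_iff G).1 x.2
    exact not_not.1 this
  have hy : (y : Ω) ∈ Γ := by
    have := (SubMulAction.mem_ofFixingSubgroup_iff G).1 y.2
    exact not_not.1 this
  obtain ⟨g, hg, hgx⟩ := htr x hx y hy
  exact ⟨⟨g, (mem_fixingSubgroup_iff G).2 fun z hz => hg z hz⟩, Subtype.ext hgx⟩

/-- A point stabiliser of a primitive group with a small Jordan set is primitive on the other points. -/
theorem stabilizer_primitive {G Ω : Type*} [Group G] [Finite G] [MulAction G Ω] [Finite Ω]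
    (h2 : IsMultiplyPretransitive G Ω 2) (Γ : Set Ω) (h1 : 1 < Γ.ncard) (hs : 2 * Γ.ncard ≤ Nat.card Ω)
    (htr : ∀ x ∈ Γ, ∀ y ∈ Γ, ∃ g : G, (∀ z ∉ Γ, g • z = z) ∧ g • x = y) (a : Ω) :
    IsPreprimitive (stabilizer G a) (SubMulAction.ofStabilizer G a) := by
  classical
  haveI := Fintype.ofFinite Ω
  haveI := Fintype.ofFinite G
  have two : ∀ {p q r s : Ω}, p ≠ q → r ≠ s → ∃ g : G, g • p = r ∧ g • q = s := is_two_pretransitive_iff.1 h2
  haveI : IsPretransitive G Ω := isPretransitive_of_is_two_pretransitive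
  haveI : IsPretransitive (stabilizer G a) (SubMulAction.ofStabilizer G a) := by
    refine ⟨fun u v => ?_⟩
    obtain ⟨g, hga, hgu⟩ := two (show a ≠ (u : Ω) from Ne.symm (SubMulAction.mem_ofStabilizer_iff G a |>.1 u.2))
      (show a ≠ (v : Ω) from Ne.symm (SubMulAction.mem_ofStabilizer_iff G a |>.1 v.2))
    exact ⟨⟨g, mem_stabilizer_iff.2 hga⟩, Subtype.ext hgu⟩
  let Γ' : Finset Ω := Γ.toFinset
  have hΓ : Γ'.card = Γ.ncard := (Set.ncard_eq_toFinset_card' Γ).symm
  let T : Finset (Finset Ω) := Finset.univ.image fun g : G => Γ'.image (g • ·)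
  have hTcard : ∀ t ∈ T, t.card = Γ.ncard := by
    intro t ht
    obtain ⟨g, -, rfl⟩ := Finset.mem_image.1 ht
    rw [Finset.card_image_of_injective _ (MulAction.injective g), hΓ]
  have hTtr : ∀ t ∈ T, ∀ x ∈ t, ∀ y ∈ t, ∃ h : G, (∀ z ∉ t, h • z = z) ∧ h • x = y := by
    intro t ht x hx y hy
    obtain ⟨g, -, rfl⟩ := Finset.mem_image.1 ht
    obtain ⟨x', hx', rfl⟩ := Finset.mem_image.1 hx
    obtain ⟨y', hy', rfl⟩ := Finset.mem_image.1 hy
    obtain ⟨h, hfix, hh⟩ := htr x' (Set.mem_toFinset.1 hx') y' (Set.mem_toFinset.1 hy')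
    refine ⟨g * h * g⁻¹, fun z hz => ?_, by simp [mul_smul, hh]⟩
    have : g⁻¹ • z ∉ Γ := fun hm => hz (Finset.mem_image.2 ⟨g⁻¹ • z, Set.mem_toFinset.2 hm, by simp⟩)
    simp [mul_smul, hfix _ this]
  have hTinv : ∀ (g : G), ∀ t ∈ T, t.image (g • ·) ∈ T := by
    intro g t ht
    obtain ⟨h, -, rfl⟩ := Finset.mem_image.1 ht
    refine Finset.mem_image.2 ⟨g * h, Finset.mem_univ _, ?_⟩
    rw [Finset.image_image]
    exact Finset.image_congr fun z _ => mul_smul g h z
  let L : Ω → Ω → Finset (Finset Ω) := fun x y => T.filter fun t => x ∈ t ∧ y ∈ t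
  have hLle : ∀ x y u v : Ω, x ≠ y → u ≠ v → (L x y).card ≤ (L u v).card := by
    intro x y u v hxy huv
    obtain ⟨g, hgx, hgy⟩ := two hxy huv
    refine Finset.card_le_card_of_injOn (fun t => t.image (g • ·)) ?_ ?_
    · intro t ht
      obtain ⟨ht, hx, hy⟩ := Finset.mem_filter.1 ht
      exact Finset.mem_filter.2
        ⟨hTinv g t ht, Finset.mem_image.2 ⟨x, hx, hgx⟩, Finset.mem_image.2 ⟨y, hy, hgy⟩⟩
    · exact fun s _ t _ h => Finset.image_injective (MulAction.injective g) h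
  have hLeq : ∀ x y u v : Ω, x ≠ y → u ≠ v → (L x y).card = (L u v).card :=
    fun x y u v hxy huv => le_antisymm (hLle x y u v hxy huv) (hLle u v x y huv hxy)
  have hLpos : ∀ x y : Ω, x ≠ y → 0 < (L x y).card := by
    intro x y hxy
    obtain ⟨u, hu, v, hv, huv⟩ := Finset.one_lt_card.1 (hΓ.symm ▸ h1)
    rw [hLeq x y u v hxy huv, Finset.card_pos]
    exact ⟨Γ', Finset.mem_filter.2 ⟨Finset.mem_image.2 ⟨1, Finset.mem_univ _, by simp⟩, hu, hv⟩⟩
  have hn : Fintype.card Ω = Nat.card Ω := Nat.card_eq_fintype_card.symm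
  -- separation of two points from a third
  have hsep : ∀ x y : Ω, x ≠ a → x ≠ y → ∃ t ∈ T, x ∈ t ∧ y ∉ t ∧ a ∉ t := by
    intro x y hxa hxy
    by_contra! hcon
    have hsub : (T.filter fun t => x ∈ t) \ L x y ⊆ L x a := by
      intro t ht
      simp only [L, Finset.mem_sdiff, Finset.mem_filter] at ht ⊢
      exact ⟨ht.1.1, ht.1.2, hcon t ht.1.1 ht.1.2 fun hy => ht.2 ⟨ht.1.1, ht.1.2, hy⟩⟩
    have hr : (T.filter fun t => x ∈ t).card ≤ 2 * (L x a).card := by
      have := Finset.card_le_card hsub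
      have h' := Finset.card_le_card_sdiff_add_card (s := T.filter fun t => x ∈ t) (t := L x y)
      have := hLeq x y x a hxy hxa
      omega
    have hcount : (T.filter fun t => x ∈ t).card * (Γ.ncard - 1) = (Fintype.card Ω - 1) * (L x a).card := by
      have h := Finset.sum_card_bipartiteAbove_eq_sum_card_bipartiteBelow (fun (t : Finset Ω) (z : Ω) => z ∈ t)
        (s := T.filter fun t => x ∈ t) (t := Finset.univ.erase x)
      rw [Finset.sum_const_nat (m := Γ.ncard - 1), Finset.sum_const_nat (m := (L x a).card),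
        Finset.card_erase_of_mem (Finset.mem_univ x), Finset.card_univ] at h
      · exact h
      · intro z hz
        rw [← hLeq x z x a (Finset.ne_of_mem_erase hz).symm hxa]
        congr 1
        ext t
        simp [L, Finset.bipartiteBelow, and_assoc]
      · intro t ht
        obtain ⟨ht, hx⟩ := Finset.mem_filter.1 ht
        rw [← hTcard t ht, ← Finset.card_erase_of_mem hx]
        congr 1
        ext z
        simp [Finset.bipartiteAbove]
    have hpos := hLpos x a hxa
    have h3 : (Fintype.card Ω - 1) * (L x a).card ≤ (2 * (Γ.ncard - 1)) * (L x a).card := by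
      rw [← hcount, mul_comm 2, mul_assoc, mul_comm (Γ.ncard - 1)]
      exact Nat.mul_le_mul_right _ hr
    have := Nat.le_of_mul_le_mul_right h3 hpos
    omega
  refine { isTrivialBlock_of_isBlock := ?_ }
  intro B hB
  by_contra hcon
  simp only [IsTrivialBlock, not_or] at hcon
  obtain ⟨hns, hnu⟩ := hcon
  rw [Set.not_subsingleton_iff] at hns
  obtain ⟨x, hx, y, hy, hxy⟩ := hns
  obtain ⟨z, hz⟩ := (Set.ne_univ_iff_exists_notMem B).1 hnu
  let B' : Finset Ω := (Subtype.val '' B).toFinset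
  have hmem : ∀ u : SubMulAction.ofStabilizer G a, (u : Ω) ∈ B' ↔ u ∈ B := fun u => by
    simp [B']
  have haB : a ∉ B' := by
    intro h
    obtain ⟨u, -, hu⟩ := Set.mem_toFinset.1 h
    exact (SubMulAction.mem_ofStabilizer_iff G a).1 u.2 hu
  have hxa : (x : Ω) ≠ a := (SubMulAction.mem_ofStabilizer_iff G a).1 x.2
  -- a translate avoiding `a` through `x` is inside `B'` or contains it
  have hcl : ∀ t ∈ T, (x : Ω) ∈ t → a ∉ t → t ⊆ B' ∨ B' ⊆ t := by
    intro t ht hxt hat
    by_contra h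
    rw [not_or, Finset.not_subset, Finset.not_subset] at h
    obtain ⟨⟨v, hvt, hvB⟩, w, hwB, hwt⟩ := h
    obtain ⟨g, hfix, hg⟩ := hTtr t ht x hxt v hvt
    obtain ⟨w', hw', rfl⟩ := Set.mem_toFinset.1 hwB
    let g' : stabilizer G a := ⟨g, mem_stabilizer_iff.2 (hfix a hat)⟩
    have hgB : g' • B = B := hB.smul_eq_of_mem hw' (by
      have : g' • w' = w' := Subtype.ext (hfix _ hwt)
      rwa [this])
    have : g' • x ∈ B := hgB ▸ Set.smul_mem_smul_set hx
    exact hvB (hg ▸ (hmem _).2 this)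
  have hk : 2 * B'.card ≤ Fintype.card Ω - 1 := by
    obtain ⟨g, hg⟩ := MulAction.exists_smul_eq (stabilizer G a) x z
    have hd : Disjoint (g • B) B := (hB.smul_eq_or_disjoint g).resolve_left fun h => hz (by
      rw [← h, ← hg]; exact Set.smul_mem_smul_set hx)
    have hc : B'.card = B.ncard := by
      rw [← Set.ncard_eq_toFinset_card', Set.ncard_image_of_injective _ Subtype.val_injective]
    have h1 := Set.ncard_union_eq hd (Set.toFinite _) (Set.toFinite _)
    rw [Set.ncard_smul_set, ← hc] at h1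
    have h2 := (Set.ncard_le_card (g • B ∪ B)).trans (le_of_eq (rfl : Nat.card (SubMulAction.ofStabilizer G a) = _))
    have h3 := SubMulAction.nat_card_ofStabilizer_add_one_eq (G := G) a
    omega
  obtain ⟨t, ht, hxt, hyt, hat⟩ := hsep x y hxa (fun h => hxy (Subtype.ext h))
  have hγk : Γ.ncard ≤ B'.card := by
    rcases hcl t ht hxt hat with h | h
    · exact hTcard t ht ▸ Finset.card_le_card h
    · exact absurd (h ((hmem y).2 hy)) hyt
  obtain ⟨t₀, ht₀⟩ := Finset.card_pos.1 (hLpos x a hxa)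
  obtain ⟨ht₀T, ht₀x, ht₀a⟩ := Finset.mem_filter.1 ht₀
  have hcov : (Finset.univ \ B') ∪ {(x : Ω)} ⊆ t₀ := by
    intro u hu
    rcases Finset.mem_union.1 hu with hu | hu
    swap
    · rwa [Finset.mem_singleton.1 hu]
    have huB : u ∉ B' := (Finset.mem_sdiff.1 hu).2
    by_cases hua : u = a
    · exact hua ▸ ht₀a
    have hxu : (x : Ω) ≠ u := fun h => huB (h ▸ (hmem x).2 hx)
    have hsub : L x u ⊆ L x a := by
      intro t ht
      obtain ⟨htT, htx, htu⟩ := Finset.mem_filter.1 ht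
      refine Finset.mem_filter.2 ⟨htT, htx, ?_⟩
      by_contra hat
      rcases hcl t htT htx hat with h | h
      · exact huB (h htu)
      · exact huB ((Finset.eq_of_subset_of_card_le h (by rw [hTcard t htT]; exact hγk)).symm ▸ htu)
    have heq := Finset.eq_of_subset_of_card_le hsub (hLeq x a x u hxa hxu).le
    exact (Finset.mem_filter.1 (heq.symm ▸ ht₀ : t₀ ∈ L x u)).2.2
  have hc := Finset.card_le_card hcov
  rw [hTcard t₀ ht₀T, Finset.card_union_of_disjoint (by
    rw [Finset.disjoint_singleton_right]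
    exact fun h => (Finset.mem_sdiff.1 h).2 ((hmem x).2 hx)), Finset.card_singleton,
    Finset.card_univ_sdiff] at hc
  omega

/-- Let G be a finite primitive permutation group on Ω of degree n and Γ ⊂ Ω a subset with 1 < #Γ ≤ n/2 such that the pointwise stabilizer of Ω ∖ Γ is transitive on Γ. Then G is 3-transitive on Ω. -/
theorem result {G Ω : Type*} [Group G] [Finite G] [MulAction G Ω] [FaithfulSMul G Ω] [Finite Ω] (hprim : MulAction.IsPreprimitive G Ω) (Γ : Set Ω) (h1 : 1 < Γ.ncard) (h2 : 2 * Γ.ncard ≤ Nat.card Ω) (htr : ∀ x ∈ Γ, ∀ y ∈ Γ, ∃ g : G, (∀ z ∉ Γ, g • z = z) ∧ g • x = y) : MulAction.IsMultiplyPretransitive G Ω 3 := by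
  classical
  haveI := Fintype.ofFinite Ω
  have hcomp : Γᶜ.ncard + Γ.ncard = Nat.card Ω := by rw [add_comm, Set.ncard_add_ncard_compl]
  obtain ⟨m, hm⟩ : ∃ m, Γᶜ.ncard = m + 1 := ⟨Γᶜ.ncard - 1, by omega⟩
  have h2t : MulAction.IsMultiplyPretransitive G Ω 2 :=
    hprim.is_two_pretransitive hm (by omega) (fixing_pretransitive Γ htr)
  haveI : MulAction.IsPretransitive G Ω := MulAction.isPretransitive_of_is_two_pretransitive
  obtain ⟨a, ha⟩ : Γᶜ.Nonempty := (Set.ncard_pos).1 (by omega)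
  rw [show (3 : ℕ) = Nat.succ 2 from rfl, SubMulAction.ofStabilizer.isMultiplyPretransitive (a := a)]
  let Δ : Set (SubMulAction.ofStabilizer G a) := Subtype.val ⁻¹' Γ
  have hΔ : Δ.ncard = Γ.ncard :=
    Set.ncard_preimage_of_injective_subset_range Subtype.val_injective
      fun u hu => ⟨⟨u, fun h => ha (Set.mem_singleton_iff.1 h ▸ hu)⟩, rfl⟩
  have hcard := SubMulAction.nat_card_ofStabilizer_add_one_eq (G := G) a
  have hcompΔ : Δᶜ.ncard + Δ.ncard = Nat.card (SubMulAction.ofStabilizer G a) := by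
    rw [add_comm, Set.ncard_add_ncard_compl]
  obtain ⟨j, hj⟩ : ∃ j, Δᶜ.ncard = j + 1 := ⟨Δᶜ.ncard - 1, by omega⟩
  refine (stabilizer_primitive h2t Γ h1 h2 htr a).is_two_pretransitive hj (by omega)
    (fixing_pretransitive Δ ?_)
  intro u hu v hv
  obtain ⟨g, hfix, hg⟩ := htr u hu v hv
  exact ⟨⟨g, MulAction.mem_stabilizer_iff.2 (hfix a ha)⟩, fun w hw => Subtype.ext (hfix w hw), Subtype.ext hg⟩

end Cfsg.Agent.S3707
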