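import Cfsg.Statements.S0281
import Cfsg.Agent.Lib.Forms.HermStab
import Cfsg.Agent.Lib.GL.Basic
import Cfsg.Agent.Lib.Field.QuadraticExt

set_option autoImplicit false
open Cfsg
open scoped Matrix

namespace Cfsg.Agent.S0281

/-- SU_2(q) is isomorphic to SL_2(q). -/
theorem result {F K : Type*} [Field F] [Fintype F] [Field K] [Fintype K] {q : ℕ} (hF : Fintype.card F = q ^ 2) (hK : Fintype.card K = q) : Nonempty (Cfsg.SU 2 F q ≃* Matrix.SpecialLinearGroup (Fin 2) K) := by
  classical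
  have hq := Forms.one_lt_q hF
  obtain ⟨emb⟩ := FieldExt.exists_ringHom_of_card_pow (F := K) (K := F) two_ne_zero (by rw [hF, hK])
  let σ := Forms.qEnd hF
  have hι : ∀ x, σ (emb x) = emb x := fun x => by
    rw [Forms.qEnd_apply, ← map_pow, ← hK, FiniteField.pow_card]
  have hm1 : (-1 : F) ^ q = -1 := by rw [← Forms.qEnd_apply hF, map_neg, map_one]
  have hneg : (-1 : F) ^ (q + 1) = 1 := by rw [pow_succ, hm1, neg_mul, one_mul, neg_neg]
  obtain ⟨δ, hδ, hδq⟩ := Forms.exists_hilbert90 hF hneg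
  have hδσ : σ δ = -δ := by
    have h := (div_eq_iff (pow_ne_zero q hδ)).1 hδq
    rw [Forms.qEnd_apply]
    linear_combination h
  obtain ⟨t₁, t₂, ht₁, ht₂, hne⟩ : ∃ t₁ t₂ : F, t₁ ^ (q + 1) = -1 ∧ t₂ ^ (q + 1) = -1 ∧ t₁ ≠ t₂ := by
    have hc := Forms.card_norm_fibre hF (neg_ne_zero.2 one_ne_zero) hm1
    haveI : Nontrivial {x : F // x ^ (q + 1) = -1} := by
      rw [← Finite.one_lt_card_iff_nontrivial, hc]
      omega
    obtain ⟨a, b, hab⟩ := exists_pair_ne {x : F // x ^ (q + 1) = -1}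
    exact ⟨a.1, b.1, a.2, b.2, fun h => hab (Subtype.ext h)⟩
  have hd : 1 + t₁ * t₂ ^ q ≠ 0 := by
    intro h
    rw [pow_succ] at ht₂
    have ht20 : t₂ ^ q ≠ 0 := fun h0 => by simp [h0] at ht₂
    exact hne (mul_right_cancel₀ ht20 (by linear_combination h - ht₂))
  obtain ⟨r, hr⟩ : ∃ r : F, r * (1 + t₁ * t₂ ^ q) = δ := ⟨δ / (1 + t₁ * t₂ ^ q), div_mul_cancel₀ _ hd⟩
  obtain ⟨s, hsr⟩ : ∃ s : F, σ s = r := ⟨σ r, Forms.qEnd_qEnd hF r⟩
  let P : Matrix (Fin 2) (Fin 2) F := !![1, s; t₁, s * t₂]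
  let S : Matrix (Fin 2) (Fin 2) F := !![0, δ; -δ, 0]
  have hσ1 : t₁ * σ t₁ = -1 := by rw [Forms.qEnd_apply, ← pow_succ', ht₁]
  have hσ2 : t₂ * σ t₂ = -1 := by rw [Forms.qEnd_apply, ← pow_succ', ht₂]
  have hr' : r * (1 + t₁ * σ t₂) = δ := hr
  have hr'' : s * (1 + t₂ * σ t₁) = -δ := by
    have h := congrArg σ hr'
    rw [map_mul, map_add, map_one, map_mul, hδσ, ← hsr, Forms.qEnd_qEnd, Forms.qEnd_qEnd] at h
    linear_combination h
  have hP : Pᵀ * P.map σ = S := by
    ext i j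
    fin_cases i <;> fin_cases j <;> simp [P, S, Matrix.mul_apply, Fin.sum_univ_two]
    · linear_combination hσ1
    · rw [hsr]; linear_combination hr'
    · linear_combination hr''
    · rw [hsr]; linear_combination (s * r) * hσ2
  have hPdet : P.det ≠ 0 := by
    intro h0
    have h := congrArg Matrix.det hP
    rw [Matrix.det_mul, Matrix.det_transpose, h0, zero_mul, Matrix.det_fin_two] at h
    simp [S] at h
    exact hδ h
  let emb' : Matrix.SpecialLinearGroup (Fin 2) K →* Matrix.SpecialLinearGroup (Fin 2) F :=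
    Matrix.SpecialLinearGroup.map emb
  let PS : Matrix.GeneralLinearGroup (Fin 2) F := Matrix.GeneralLinearGroup.mkOfDetNeZero P hPdet
  let Pi' : Matrix (Fin 2) (Fin 2) F := ((PS⁻¹ : Matrix.GeneralLinearGroup (Fin 2) F) : Matrix (Fin 2) (Fin 2) F)
  have hPP : P * Pi' = 1 := congrArg Units.val (mul_inv_cancel PS)
  have hPP' : Pi' * P = 1 := congrArg Units.val (inv_mul_cancel PS)
  let conj : Matrix.SpecialLinearGroup (Fin 2) F →* Matrix.SpecialLinearGroup (Fin 2) F :=
    { toFun := fun N => ⟨P * N.1 * Pi', by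
        rw [Matrix.det_mul, Matrix.det_mul, N.2, mul_one, ← Matrix.det_mul, hPP, Matrix.det_one]⟩
      map_one' := Subtype.ext (by simp [hPP])
      map_mul' := fun N N' => Subtype.ext (by
        show P * (N.1 * N'.1) * Pi' = P * N.1 * Pi' * (P * N'.1 * Pi')
        simp only [Matrix.mul_assoc]
        rw [← Matrix.mul_assoc Pi' P, hPP', Matrix.one_mul]) }
  have hmem : ∀ g, conj (emb' g) ∈ SU 2 F q := by
    intro g
    let N : Matrix (Fin 2) (Fin 2) F := (emb' g).1
    have hN : N.map σ = N := by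
      ext i j
      exact hι _
    have hNS : Nᵀ * S * N = S := by
      have hdet : N 0 0 * N 1 1 - N 0 1 * N 1 0 = 1 := by rw [← Matrix.det_fin_two]; exact (emb' g).2
      ext i j
      fin_cases i <;> fin_cases j <;> simp [S, Matrix.mul_apply, Fin.sum_univ_two]
      · ring
      · linear_combination δ * hdet
      · linear_combination -δ * hdet
      · ring
    have hPi : Pi'ᵀ * S * Pi'.map σ = 1 := by
      rw [← hP]
      have h1 : Pi'ᵀ * Pᵀ = 1 := by rw [← Matrix.transpose_mul, hPP, Matrix.transpose_one]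
      have h2 : P.map σ * Pi'.map σ = 1 := by
        rw [← Matrix.map_mul, hPP, Matrix.map_one _ (map_zero σ) (map_one σ)]
      rw [← Matrix.mul_assoc, h1, Matrix.one_mul, h2]
    have hM : (P * N * Pi')ᵀ * (P * N * Pi').map σ = 1 := by
      rw [Matrix.transpose_mul, Matrix.transpose_mul, Matrix.map_mul, Matrix.map_mul, hN]
      calc Pi'ᵀ * (Nᵀ * Pᵀ) * (P.map σ * N * Pi'.map σ)
          = Pi'ᵀ * (Nᵀ * (Pᵀ * P.map σ) * N) * Pi'.map σ := by simp only [Matrix.mul_assoc]
        _ = 1 := by rw [hP, hNS, hPi]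
    intro u v
    show hermForm 2 F q ((P * N * Pi') *ᵥ u) ((P * N * Pi') *ᵥ v) = hermForm 2 F q u v
    have hform : ∀ a b : Fin 2 → F, hermForm 2 F q a b = a ⬝ᵥ (fun i => σ (b i)) := fun a b => rfl
    rw [hform, hform, show (fun i => σ (((P * N * Pi') *ᵥ v) i)) = (P * N * Pi').map σ *ᵥ (fun i => σ (v i)) from
      funext fun i => RingHom.map_mulVec σ _ _ i, Matrix.dotProduct_mulVec, ← Matrix.transpose_transpose (P * N * Pi'),
      Matrix.mulVec_transpose, Matrix.transpose_transpose, Matrix.vecMul_vecMul, hM, Matrix.vecMul_one]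
  let Φ := (conj.comp emb').codRestrict (SU 2 F q) hmem
  have hinj : Function.Injective Φ := by
    intro x y h
    have h1 : P * (emb' x).1 * Pi' = P * (emb' y).1 * Pi' := congrArg (fun z => (z.1).1) h
    have h2 := congrArg (fun M => Pi' * M * P) h1
    simp only [Matrix.mul_assoc, hPP', Matrix.mul_one] at h2
    rw [← Matrix.mul_assoc, hPP', Matrix.one_mul, ← Matrix.mul_assoc, hPP', Matrix.one_mul] at h2
    refine Subtype.ext ?_
    ext i j
    exact emb.injective (congrFun (congrFun h2 i) j)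
  have hcard : Nat.card (Matrix.SpecialLinearGroup (Fin 2) K) = Nat.card (SU 2 F q) := by
    refine Nat.eq_of_mul_eq_mul_left (Nat.succ_pos q) ?_
    rw [GL.card_SL2, hK, Forms.card_SU_mul hF (by norm_num), Forms.card_GU hF]
    simp [Finset.prod_range_succ]
    ring
  exact ⟨(MulEquiv.ofBijective Φ ((Nat.bijective_iff_injective_and_card Φ).2 ⟨hinj, hcard⟩)).symm⟩

end Cfsg.Agent.S0281
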