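import Cfsg.Statements.S2566
import Cfsg.Agent.Lib.Forms.QuadOrder
import Mathlib.GroupTheory.NoncommCoprod
-- import your own Cfsg.Agent.* helpers here

set_option autoImplicit false
open Cfsg

open scoped Matrix

namespace Cfsg.Agent.S2566

/-- `Perm (Fin 3)` on the even-weight plane of `(ZMod 2)^3`. -/
private def pm (σ : Equiv.Perm (Fin 3)) : Matrix (Fin 2) (Fin 2) (ZMod 2) :=
  Matrix.of fun i j => (if σ j.castSucc = i.castSucc then 1 else 0) + (if σ 2 = i.castSucc then 1 else 0)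

/-- Coordinates of `O⁺₄(2)` as entries of a two by two matrix with the determinant as form. -/
private def co : Fin 2 ⊕ Fin 2 → Fin 2 × Fin 2 :=
  Sum.elim ![(0, 0), (0, 1)] ![(1, 1), (1, 0)]

private def lmat (σ : Equiv.Perm (Fin 3)) : Matrix (Fin 2 ⊕ Fin 2) (Fin 2 ⊕ Fin 2) (ZMod 2) :=
  Matrix.of fun r c => if (co r).2 = (co c).2 then pm σ (co r).1 (co c).1 else 0

private def rmat (σ : Equiv.Perm (Fin 3)) : Matrix (Fin 2 ⊕ Fin 2) (Fin 2 ⊕ Fin 2) (ZMod 2) :=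
  Matrix.of fun r c => if (co r).1 = (co c).1 then pm σ (co r).2 (co c).2 else 0

private def tmat : Matrix (Fin 2 ⊕ Fin 2) (Fin 2 ⊕ Fin 2) (ZMod 2) :=
  Matrix.of fun r c => if co r = ((co c).2, (co c).1) then 1 else 0

private theorem lmat_mul : ∀ σ τ : Equiv.Perm (Fin 3), lmat (σ * τ) = lmat σ * lmat τ := by decide +kernel
private theorem rmat_mul : ∀ σ τ : Equiv.Perm (Fin 3), rmat (σ * τ) = rmat σ * rmat τ := by decide +kernel
private theorem lmat_one : lmat 1 = 1 := by decide +kernel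
private theorem rmat_one : rmat 1 = 1 := by decide +kernel
private theorem lr_comm : ∀ σ τ : Equiv.Perm (Fin 3), lmat σ * rmat τ = rmat τ * lmat σ := by decide +kernel
private theorem lr_triv : ∀ σ τ : Equiv.Perm (Fin 3), lmat σ * rmat τ = 1 → σ = 1 ∧ τ = 1 := by decide +kernel
private theorem t_sq : tmat * tmat = 1 := by decide +kernel
private theorem t_conj : ∀ σ : Equiv.Perm (Fin 3), tmat * lmat σ * tmat = rmat σ := by decide +kernel
private theorem lmat_form : ∀ σ : Equiv.Perm (Fin 3), ∀ v : Fin 2 ⊕ Fin 2 → ZMod 2,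
    Cfsg.quadFormPlus 2 (ZMod 2) (lmat σ *ᵥ v) = Cfsg.quadFormPlus 2 (ZMod 2) v := by decide +kernel
private theorem rmat_form : ∀ σ : Equiv.Perm (Fin 3), ∀ v : Fin 2 ⊕ Fin 2 → ZMod 2,
    Cfsg.quadFormPlus 2 (ZMod 2) (rmat σ *ᵥ v) = Cfsg.quadFormPlus 2 (ZMod 2) v := by decide +kernel
private theorem tmat_form : ∀ v : Fin 2 ⊕ Fin 2 → ZMod 2,
    Cfsg.quadFormPlus 2 (ZMod 2) (tmat *ᵥ v) = Cfsg.quadFormPlus 2 (ZMod 2) v := by decide +kernel

/-- The full orthogonal group of the plus-type form x₁y₁ + x₂y₂ in dimension 4 over the field of two elements has order 72 and is isomorphic to the wreath product of the symmetric group of degree 3 by a group of order 2: it has a normal subgroup isomorphic to the direct product of two symmetric groups of degree 3, of index 2, whose two direct factors are interchanged by conjugation by some element. -/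
theorem result :
    Nat.card ↥(Cfsg.isometryGroup (ZMod 2) (Cfsg.quadFormPlus 2 (ZMod 2))) = 72 ∧
    ∃ (A B : Subgroup ↥(Cfsg.isometryGroup (ZMod 2) (Cfsg.quadFormPlus 2 (ZMod 2)))),
      Nonempty (↥A ≃* Equiv.Perm (Fin 3)) ∧ Nonempty (↥B ≃* Equiv.Perm (Fin 3)) ∧ A ⊓ B = ⊥ ∧ (∀ a ∈ A, ∀ b ∈ B, a * b = b * a) ∧
      (A ⊔ B).index = 2 ∧ ∃ g : ↥(Cfsg.isometryGroup (ZMod 2) (Cfsg.quadFormPlus 2 (ZMod 2))), A.map (MulAut.conj g).toMonoidHom = B := by
  classical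
  have hcard : Nat.card ↥(Cfsg.isometryGroup (ZMod 2) (Cfsg.quadFormPlus 2 (ZMod 2))) = 72 := by
    rw [Forms.card_isometryGroup (Forms.quadPlus 2 (ZMod 2)) Forms.quadPlus_apply,
      Forms.card_isomQ_quadPlus 1]
    simp
  refine ⟨hcard, ?_⟩
  let mkHom : ∀ (f : Equiv.Perm (Fin 3) → Matrix (Fin 2 ⊕ Fin 2) (Fin 2 ⊕ Fin 2) (ZMod 2)),
      f 1 = 1 → (∀ σ τ, f (σ * τ) = f σ * f τ) → (∀ σ v, Cfsg.quadFormPlus 2 (ZMod 2) (f σ *ᵥ v) = Cfsg.quadFormPlus 2 (ZMod 2) v) →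
      Equiv.Perm (Fin 3) →* ↥(Cfsg.isometryGroup (ZMod 2) (Cfsg.quadFormPlus 2 (ZMod 2))) :=
    fun f h1 hm hf =>
      (MonoidHom.toHomUnits { toFun := f, map_one' := h1, map_mul' := hm }).codRestrict
        (Cfsg.isometryGroup (ZMod 2) (Cfsg.quadFormPlus 2 (ZMod 2))) (fun σ u _ => hf σ u)
  let L := mkHom lmat lmat_one lmat_mul lmat_form
  let R := mkHom rmat rmat_one rmat_mul rmat_form
  let t : ↥(Cfsg.isometryGroup (ZMod 2) (Cfsg.quadFormPlus 2 (ZMod 2))) :=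
    ⟨⟨tmat, tmat, t_sq, t_sq⟩, fun u _ => tmat_form u⟩
  have hext : ∀ x y : ↥(Cfsg.isometryGroup (ZMod 2) (Cfsg.quadFormPlus 2 (ZMod 2))),
      (x.1 : Matrix (Fin 2 ⊕ Fin 2) (Fin 2 ⊕ Fin 2) (ZMod 2)) = y.1 → x = y :=
    fun x y h => Subtype.ext (Units.ext h)
  have hc : ∀ σ τ, Commute (L σ) (R τ) := fun σ τ => hext _ _ (lr_comm σ τ)
  have hinj : Function.Injective (MonoidHom.noncommCoprod L R hc) := by
    rw [injective_iff_map_eq_one]
    rintro ⟨σ, τ⟩ h
    obtain ⟨h1, h2⟩ := lr_triv σ τ (congrArg (fun x => (x.1 : Matrix (Fin 2 ⊕ Fin 2) (Fin 2 ⊕ Fin 2) (ZMod 2))) h)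
    rw [h1, h2]; rfl
  have hL : Function.Injective L := fun a b h => by
    have := hinj (a₁ := (a, 1)) (a₂ := (b, 1)) (by show L a * R 1 = L b * R 1; rw [h])
    exact (Prod.ext_iff.1 this).1
  have hR : Function.Injective R := fun a b h => by
    have := hinj (a₁ := (1, a)) (a₂ := (1, b)) (by show L 1 * R a = L 1 * R b; rw [h])
    exact (Prod.ext_iff.1 this).2
  refine ⟨L.range, R.range, ⟨(MonoidHom.ofInjective hL).symm⟩, ⟨(MonoidHom.ofInjective hR).symm⟩, ?_, ?_, ?_, t, ?_⟩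
  · rw [eq_bot_iff]
    rintro _ ⟨⟨σ, rfl⟩, ⟨τ, hτ⟩⟩
    have h : MonoidHom.noncommCoprod L R hc (σ, 1) = MonoidHom.noncommCoprod L R hc (1, τ) := by
      show L σ * R 1 = L 1 * R τ
      rw [map_one, map_one, mul_one, one_mul, hτ]
    have := (Prod.ext_iff.1 (hinj h)).1
    simp [show σ = 1 from this]
  · rintro _ ⟨σ, rfl⟩ _ ⟨τ, rfl⟩
    exact hc σ τ
  · rw [← MonoidHom.noncommCoprod_range L R hc]
    have h := Subgroup.card_mul_index (MonoidHom.noncommCoprod L R hc).range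
    rw [hcard, ← Nat.card_congr (MonoidHom.ofInjective hinj).toEquiv] at h
    have h6 : Nat.card (Equiv.Perm (Fin 3)) = 6 := by
      rw [Nat.card_eq_fintype_card, Fintype.card_perm, Fintype.card_fin]; rfl
    rw [Nat.card_prod, h6] at h
    omega
  · rw [MonoidHom.map_range]
    congr 1
    refine MonoidHom.ext fun σ => hext _ _ ?_
    exact t_conj σ

end Cfsg.Agent.S2566
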