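import Cfsg.Statements.S0678

import Cfsg.Agent.S0676
import Cfsg.Agent.Lib.Perm.Basic

set_option autoImplicit false
set_option linter.style.haveILetI false
open Cfsg
open Cfsg.Agent Cfsg.Agent.Perm.PrimeDegree

namespace Cfsg.Agent.S0678

section
variable {α : Type*} [Fintype α] [DecidableEq α]

/-- A transitive group with a normal Sylow 7-subgroup on seven points is solvable. -/
theorem sylow_facts (hα : Fintype.card α = 7) (G : Subgroup (Equiv.Perm α)) [MulAction.IsPretransitive G α]
    [Fact (Nat.Prime 7)] (P : Sylow 7 G) :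
    Nat.card (P : Subgroup G) = 7 ∧ Subgroup.centralizer ((P : Subgroup G) : Set G) = (P : Subgroup G) ∧
      ∃ e, e ∣ 6 ∧ Nat.card (Subgroup.normalizer ((P : Subgroup G) : Set G)) = 7 * e := by
  classical
  haveI : Nonempty α := Fintype.card_pos_iff.1 (by omega)
  obtain ⟨c, hc⟩ := exists_orderOf_eq (p := 7) G hα
  have hP : Nat.card (P : Subgroup G) = 7 := by
    obtain ⟨k, hk⟩ := P.2.exists_card_eq
    have h1 : 7 ^ 1 ∣ Nat.card (P : Subgroup G) :=
      P.pow_dvd_card_of_pow_dvd_card (by rw [pow_one, ← hc]; exact orderOf_dvd_natCard c)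
    have hk2 : k < 2 := by
      by_contra hk2
      exact not_dvd_card_sq (p := 7) G Fact.out hα ((pow_dvd_pow 7 (not_lt.1 hk2)).trans
        (hk ▸ Subgroup.card_subgroup_dvd_card _))
    have hk0 : k ≠ 0 := by
      rintro rfl
      rw [hk] at h1
      norm_num at h1
    rw [hk, show k = 1 by omega, pow_one]
  obtain ⟨⟨u, huP⟩, hu⟩ := exists_prime_orderOf_dvd_card' (G := (P : Subgroup G)) 7 (by rw [hP])
  rw [Subgroup.orderOf_mk] at hu
  have hPu : (P : Subgroup G) = Subgroup.zpowers u :=
    (Subgroup.eq_of_le_of_card_ge (Subgroup.zpowers_le.2 huP) (by rw [Nat.card_zpowers, hu, hP])).symm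
  obtain ⟨e, he0, he⟩ := exists_coords hα (c := (u : Equiv.Perm α))
    (by rw [Subgroup.orderOf_coe, hu]) (Classical.arbitrary α)
  have hupow : ∀ (m : ℕ) (i : ZMod 7), ((u ^ m : G) : Equiv.Perm α) (e i) = e (i + m) := by
    intro m
    induction m with
    | zero => intro i; simp
    | succ m ih =>
      intro i
      rw [pow_succ, Subgroup.coe_mul, Equiv.Perm.mul_apply, he, ih]
      congr 1
      push_cast
      ring
  have hC : Subgroup.centralizer ((P : Subgroup G) : Set G) = (P : Subgroup G) := by
    refine le_antisymm (fun x hx => ?_) ?_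
    · obtain ⟨i, hi⟩ := e.surjective ((x : Equiv.Perm α) (e 0))
      have hxu : ∀ m : ℕ, x * u ^ m = u ^ m * x := fun m =>
        (Subgroup.mem_centralizer_iff.1 hx (u ^ m) (pow_mem huP m)).symm
      have : x = u ^ i.val := by
        refine Subtype.ext (Equiv.ext fun y => ?_)
        obtain ⟨j, rfl⟩ := e.surjective y
        have h := congrArg (fun g : G => (g : Equiv.Perm α) (e 0)) (hxu j.val)
        simp only [Subgroup.coe_mul, Equiv.Perm.mul_apply, hupow, zero_add, ZMod.natCast_zmod_val, ← hi] at h
        rw [h, hupow, ZMod.natCast_zmod_val, add_comm]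
      rw [this]
      exact pow_mem huP _
    · rw [hPu]
      exact Subgroup.le_centralizer _
  refine ⟨hP, hC, ?_⟩
  set φ := (P : Subgroup G).normalizerMonoidHom
  haveI : IsCyclic (P : Subgroup G) := isCyclic_of_prime_card hP
  haveI : Finite (MulAut (P : Subgroup G)) := DFunLike.finite _
  refine ⟨Nat.card φ.range, ?_, ?_⟩
  · have := Subgroup.card_subgroup_dvd_card φ.range
    rwa [IsCyclic.card_mulAut, hP, Nat.totient_prime Fact.out] at this
  · have hk : Nat.card φ.ker = 7 := by
      rw [Subgroup.normalizerMonoidHom_ker,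
        Nat.card_congr (Subgroup.subgroupOfEquivOfLe (Subgroup.centralizer_le_normalizer _)).toEquiv, hC, hP]
    rw [← φ.ker.card_mul_index, Subgroup.index_ker, hk]

/-- The Sylow number exceeds one for non-solvable groups. -/
theorem card_sylow_ne_one (hα : Fintype.card α = 7) (G : Subgroup (Equiv.Perm α)) [MulAction.IsPretransitive G α]
    [Fact (Nat.Prime 7)] (hG : ¬ Group.IsSolvable G) : Nat.card (Sylow 7 G) ≠ 1 := by
  classical
  intro h1
  obtain ⟨P⟩ := (inferInstance : Nonempty (Sylow 7 G))
  obtain ⟨hP, hC, -, -, -⟩ := sylow_facts hα G P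
  have hn : Subgroup.normalizer ((P : Subgroup G) : Set G) = ⊤ :=
    Subgroup.index_eq_one.1 ((Sylow.card_eq_index_normalizer P).symm.trans h1)
  haveI : IsCyclic (P : Subgroup G) := isCyclic_of_prime_card hP
  haveI : IsMulCommutative (MulAut (P : Subgroup G)) := by
    refine ⟨⟨fun f g => ?_⟩⟩
    exact ((IsCyclic.mulAutMulEquiv (P : Subgroup G)).injective (by rw [map_mul, map_mul, mul_comm]))
  haveI : Group.IsSolvable (MulAut (P : Subgroup G)) := Group.isSolvable_of_comm fun f g => mul_comm' f g
  haveI : Group.IsSolvable (P : Subgroup G) := Group.isSolvable_of_comm fun f g => (IsCyclic.isMulCommutative (α := (P : Subgroup G))).is_comm.comm f g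
  haveI : Group.IsSolvable (Subgroup.normalizer ((P : Subgroup G) : Set G)) :=
    Group.isSolvable_of_ker_le_range (Subgroup.inclusion (Subgroup.le_normalizer (H := (P : Subgroup G))))
      (P : Subgroup G).normalizerMonoidHom (fun x hx => by
        rw [Subgroup.normalizerMonoidHom_ker, Subgroup.mem_subgroupOf] at hx
        exact ⟨⟨x, hC.le hx⟩, rfl⟩)
  exact hG (Group.isSolvable_of_surjective (f := (Subgroup.normalizer ((P : Subgroup G) : Set G)).subtype)
    fun x => ⟨⟨x, hn.ge (Subgroup.mem_top x)⟩, rfl⟩)

/-- A non-solvable transitive group of even permutations of seven points, not alternating, has order 168. -/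
theorem core (hα : Fintype.card α = 7) (G : Subgroup (Equiv.Perm α)) [MulAction.IsPretransitive G α]
    (hev : G ≤ alternatingGroup α) (hG : ¬ Group.IsSolvable G) (hA : ¬ alternatingGroup α ≤ G) :
    Nat.card G = 168 := by
  classical
  haveI : Fact (Nat.Prime 7) := ⟨by norm_num⟩
  haveI : Nonempty α := Fintype.card_pos_iff.1 (by omega)
  have hαc : Nat.card α = 7 := by rw [Nat.card_eq_fintype_card, hα]
  haveI : Nontrivial α := Fintype.one_lt_card_iff_nontrivial.1 (by omega)
  have hAcard : Nat.card (alternatingGroup α) = 2520 := by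
    rw [nat_card_alternatingGroup, hαc]; rfl
  -- the index in the alternating group is at least seven
  have hidx : 7 * Nat.card G ≤ 2520 := by
    set M := G.subgroupOf (alternatingGroup α)
    have hM : Nat.card M = Nat.card G := Nat.card_congr (Subgroup.subgroupOfEquivOfLe hev).toEquiv
    rw [← hAcard, ← M.index_mul_card, hM]
    refine Nat.mul_le_mul_right _ ?_
    by_contra hlt
    push Not at hlt
    haveI : IsSimpleGroup (alternatingGroup α) := alternatingGroup.isSimpleGroup (by omega)
    set φ := MulAction.toPermHom (alternatingGroup α) (alternatingGroup α ⧸ M)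
    rcases φ.normal_ker.eq_bot_or_eq_top with h | h
    · have h2 := Nat.card_le_card_of_injective φ ((MonoidHom.ker_eq_bot_iff φ).1 h)
      rw [hAcard, Nat.card_perm, show Nat.card (alternatingGroup α ⧸ M) = M.index from rfl] at h2
      have h3 := h2.trans (Nat.factorial_le (show M.index ≤ 6 by omega))
      norm_num at h3
    · refine hA fun x hx => ?_
      have h2 : φ ⟨x, hx⟩ = 1 := (MonoidHom.mem_ker).1 (h ▸ Subgroup.mem_top _)
      have h3 := congrArg (fun f : Equiv.Perm (alternatingGroup α ⧸ M) => f ((1 : alternatingGroup α) : alternatingGroup α ⧸ M)) h2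
      simpa [φ, M, QuotientGroup.eq, Subgroup.mem_subgroupOf] using h3
  obtain ⟨P⟩ := (inferInstance : Nonempty (Sylow 7 G))
  obtain ⟨hP, hC, e, he6, he⟩ := sylow_facts hα G P
  have hn : Nat.card G = Nat.card (Sylow 7 G) * (7 * e) := by
    have h : Nat.card (Sylow 7 G) = (Subgroup.normalizer ((P : Subgroup G) : Set G)).index :=
      Sylow.card_eq_index_normalizer P
    rw [h, ← he, Subgroup.index_mul_card]
  have hn1 := card_sylow_ne_one hα G hG
  have hmod : Nat.card (Sylow 7 G) % 7 = 1 := card_sylow_modEq_one (p := 7) (G := G)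
  -- no involution of `G` inverts the Sylow subgroup
  have heodd : ¬ 2 ∣ e := by
    intro h2e
    haveI : Fact (Nat.Prime 2) := ⟨Nat.prime_two⟩
    obtain ⟨⟨t, htN⟩, ht⟩ := exists_prime_orderOf_dvd_card'
      (G := Subgroup.normalizer ((P : Subgroup G) : Set G)) 2 (by rw [he]; exact h2e.mul_left 7)
    rw [Subgroup.orderOf_mk] at ht
    obtain ⟨⟨u, huP⟩, hu⟩ := exists_prime_orderOf_dvd_card' (G := (P : Subgroup G)) 7 (by rw [hP])
    rw [Subgroup.orderOf_mk] at hu
    set σ : Equiv.Perm α := (t : Equiv.Perm α)
    have hσ : orderOf σ = 2 := by rw [Subgroup.orderOf_coe, ht]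
    obtain ⟨k, hk⟩ := Equiv.Perm.cycleType_prime_order (σ := σ) (by rw [hσ]; exact Nat.prime_two)
    have hsum := σ.sum_cycleType
    rw [hk, hσ, Multiset.sum_replicate, smul_eq_mul] at hsum
    have hsign := Equiv.Perm.mem_alternatingGroup.1 (hev t.2)
    rw [Equiv.Perm.sign_of_cycleType, hk, hσ, Multiset.sum_replicate, Multiset.card_replicate, smul_eq_mul,
      neg_one_pow_eq_one_iff_even (by decide), Nat.even_iff] at hsign
    have hle : (σ.support).card ≤ 7 := hα ▸ Finset.card_le_univ _
    have hfix : 1 < (Finset.univ \ σ.support).card := by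
      rw [Finset.card_sdiff_of_subset (Finset.subset_univ _), Finset.card_univ, hα]
      omega
    obtain ⟨a, ha, b, hb, hab⟩ := Finset.one_lt_card.1 hfix
    simp only [Finset.mem_sdiff, Finset.mem_univ, true_and, Equiv.Perm.notMem_support] at ha hb
    obtain ⟨e', he0, he'⟩ := exists_coords hα (c := (u : Equiv.Perm α)) (by rw [Subgroup.orderOf_coe, hu]) a
    have hupow : ∀ (m : ℕ) (i : ZMod 7), ((u ^ m : G) : Equiv.Perm α) (e' i) = e' (i + m) := by
      intro m
      induction m with
      | zero => intro i; simp
      | succ m ih =>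
        intro i
        rw [pow_succ, Subgroup.coe_mul, Equiv.Perm.mul_apply, he', ih]
        congr 1
        push_cast
        ring
    obtain ⟨j, hj⟩ := e'.surjective b
    have hPu : (P : Subgroup G) = Subgroup.zpowers u :=
      (Subgroup.eq_of_le_of_card_ge (Subgroup.zpowers_le.2 huP) (by rw [Nat.card_zpowers, hu, hP])).symm
    set v := u ^ j.val
    have hvP : t * v * t⁻¹ ∈ Subgroup.zpowers u :=
      hPu ▸ (Subgroup.mem_normalizer_iff.1 htN v).1 (pow_mem huP _)
    obtain ⟨m, hm⟩ := (orderOf_pos_iff.1 (hu ▸ (by norm_num : 0 < 7))).mem_powers_iff_mem_zpowers.2 hvP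
    have hva : (v : Equiv.Perm α) (e' 0) = e' j := by rw [hupow, zero_add, ZMod.natCast_zmod_val]
    have hmj : (m : ZMod 7) = j := by
      have h := congrArg (fun g : G => (g : Equiv.Perm α) (e' 0)) hm
      simp only [Subgroup.coe_mul, Equiv.Perm.mul_apply, hupow, zero_add, InvMemClass.coe_inv] at h
      rw [Equiv.Perm.inv_eq_iff_eq.2 (show e' 0 = σ (e' 0) by rw [he0]; exact ha.symm), hva] at h
      exact e'.injective (h.trans (show σ (e' j) = e' j by rw [hj]; exact hb))
    have hcomm : t * v = v * t := by
      rw [show v = u ^ m by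
        rw [pow_eq_pow_iff_modEq, hu]
        exact (ZMod.natCast_eq_natCast_iff _ _ _).1 (by rw [ZMod.natCast_zmod_val, hmj])] at *
      rw [← mul_inv_eq_iff_eq_mul]
      exact hm.symm
    have hj0 : j ≠ 0 := fun h => hab (by rw [← hj, h, he0])
    have hv : (P : Subgroup G) = Subgroup.zpowers v := by
      refine (Subgroup.eq_of_le_of_card_ge (Subgroup.zpowers_le.2 (pow_mem huP _)) ?_).symm
      rw [hP, Nat.card_zpowers, orderOf_eq_prime (p := 7) (by
        rw [← pow_mul, mul_comm, pow_mul, show u ^ 7 = 1 from hu ▸ pow_orderOf_eq_one u, one_pow]) fun h1 => hj0 (by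
        have h := congrArg (fun g : G => (g : Equiv.Perm α) (e' 0)) h1
        simp only [Subgroup.coe_one, Equiv.Perm.one_apply] at h
        exact e'.injective (hva.symm.trans h))]
    have htC : t ∈ Subgroup.centralizer ((P : Subgroup G) : Set G) := by
      rw [Subgroup.mem_centralizer_iff]
      intro x hx
      rw [hv] at hx
      obtain ⟨i, rfl⟩ := Subgroup.mem_zpowers_iff.1 hx
      exact ((Commute.zpow_right (show Commute t v from hcomm) i).eq).symm
    rw [hC] at htC
    have := Subgroup.orderOf_dvd_natCard (P : Subgroup G) htC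
    rw [ht, hP] at this
    norm_num at this
  have he13 : e = 1 ∨ e = 3 := by
    have := Nat.le_of_dvd (by norm_num) he6
    interval_cases e <;> omega
  rcases he13 with rfl | rfl
  · -- Burnside transfer
    exfalso
    have hN : Subgroup.normalizer ((P : Subgroup G) : Set G) = (P : Subgroup G) :=
      (Subgroup.eq_of_le_of_card_ge Subgroup.le_normalizer (by rw [he, hP])).symm
    have hc : Subgroup.normalizer ((P : Subgroup G) : Set G) ≤ Subgroup.centralizer ((P : Subgroup G) : Set G) := by
      rw [hN, hC]
    have hcompl := MonoidHom.ker_transferSylow_isComplement' P hc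
    set K := (MonoidHom.transferSylow P hc).ker
    haveI : MulAction.IsPreprimitive G α := MulAction.IsPreprimitive.of_prime_card (by rw [hαc]; norm_num)
    by_cases hK : K = ⊥
    · have hK1 := hcompl.card_mul_card
      rw [hK, Subgroup.card_bot, one_mul, hP] at hK1
      rw [mul_one] at hn
      omega
    · haveI := Perm.isPretransitive_of_normal (α := α) hK
      have h7 : 7 ∣ Nat.card K := by
        rw [← hαc, ← MulAction.index_stabilizer_of_transitive K (Classical.arbitrary α)]
        exact Subgroup.index_dvd_card _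
      exact MonoidHom.not_dvd_card_ker_transferSylow P hc h7
  · have hdvd : Nat.card G ∣ 2520 := hAcard ▸ Subgroup.card_dvd_of_le hev
    have h360 : Nat.card (Sylow 7 G) * 21 ≤ 360 := by omega
    rcases (by omega : Nat.card (Sylow 7 G) = 8 ∨ Nat.card (Sylow 7 G) = 15) with h | h
    · omega
    · exfalso
      -- order 315 contains a three-cycle
      have h315 : Nat.card G = 315 := by omega
      haveI : Fact (Nat.Prime 3) := ⟨Nat.prime_three⟩
      obtain ⟨a, b, c, hab, hac, hbc⟩ := Fintype.two_lt_card_iff.1 (show 2 < Fintype.card α by omega)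
      set x := Equiv.swap a b * Equiv.swap a c
      have hx : x.IsThreeCycle := Equiv.Perm.isThreeCycle_swap_mul_swap_same hab hac hbc
      obtain ⟨Q, hQ⟩ := (IsPGroup.of_card (n := 1) (by rw [Nat.card_zpowers, hx.orderOf, pow_one]) :
        IsPGroup 3 (Subgroup.zpowers x)).exists_le_sylow
      obtain ⟨R⟩ := (inferInstance : Nonempty (Sylow 3 G))
      have hR : Nat.card (R : Subgroup G) = 3 ^ 2 := by
        obtain ⟨k, hk⟩ := R.2.exists_card_eq
        have h1 := R.pow_dvd_card_of_pow_dvd_card (n := 2) (by rw [h315]; norm_num)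
        have h2 := Subgroup.card_subgroup_dvd_card (R : Subgroup G)
        rw [hk] at h1 h2
        have h3 : k < 3 := by
          by_contra h3
          have := (pow_dvd_pow 3 (not_lt.1 h3)).trans h2
          rw [h315] at this
          norm_num at this
        rw [Nat.pow_dvd_pow_iff_le_right (by norm_num)] at h1
        rw [hk]; congr 1; omega
      obtain ⟨R', hR'⟩ := (IsPGroup.of_card (n := 2) (by
        rw [Subgroup.card_map_of_injective G.subtype_injective, hR]) :
          IsPGroup 3 ((R : Subgroup G).map G.subtype)).exists_le_sylow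
      have hR'eq : (R : Subgroup G).map G.subtype = (R' : Subgroup (Equiv.Perm α)) := by
        refine Subgroup.eq_of_le_of_card_ge hR' ?_
        rw [Subgroup.card_map_of_injective G.subtype_injective, hR]
        obtain ⟨k, hk⟩ := R'.2.exists_card_eq
        have h2 := Subgroup.card_subgroup_dvd_card (R' : Subgroup (Equiv.Perm α))
        rw [hk, Nat.card_perm, hαc] at h2
        rw [hk]
        refine Nat.pow_le_pow_right (by norm_num) ?_
        by_contra h3
        have := (pow_dvd_pow 3 (show 3 ≤ k by omega)).trans h2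
        norm_num [Nat.factorial] at this
      obtain ⟨g, hg⟩ := MulAction.exists_smul_eq (Equiv.Perm α) Q R'
      have hmem : g * x * g⁻¹ ∈ (R : Subgroup G).map G.subtype := by
        rw [hR'eq, ← hg, Sylow.coe_subgroup_smul]
        exact ⟨x, hQ (Subgroup.mem_zpowers x), rfl⟩
      obtain ⟨y, -, hy⟩ := hmem
      haveI : MulAction.IsPreprimitive G α := MulAction.IsPreprimitive.of_prime_card (by rw [hαc]; norm_num)
      refine hA (Equiv.Perm.alternatingGroup_le_of_isPreprimitive_of_isThreeCycle_mem inferInstance
        (g := g * x * g⁻¹) ?_ (hy ▸ y.2))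
      rw [Equiv.Perm.IsThreeCycle, Equiv.Perm.cycleType_conj]
      exact hx

/-- A normal subgroup `≠ ⊥` of such a group is transitive and non-solvable. -/
theorem normal_facts (hα : Fintype.card α = 7) (G : Subgroup (Equiv.Perm α)) [MulAction.IsPretransitive G α]
    (hG : ¬ Group.IsSolvable G) (K : Subgroup G) [K.Normal] (hK : K ≠ ⊥) :
    MulAction.IsPretransitive (K.map G.subtype) α ∧ ¬ Group.IsSolvable (K.map G.subtype) := by
  classical
  haveI : Fact (Nat.Prime 7) := ⟨by norm_num⟩
  haveI : Nonempty α := Fintype.card_pos_iff.1 (by omega)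
  haveI : MulAction.IsPreprimitive G α :=
    MulAction.IsPreprimitive.of_prime_card (by rw [Nat.card_eq_fintype_card, hα]; norm_num)
  haveI hKt := Perm.isPretransitive_of_normal (α := α) hK
  have ht : MulAction.IsPretransitive (K.map G.subtype) α := ⟨fun x y => by
    obtain ⟨g, hg⟩ := MulAction.exists_smul_eq K x y
    exact ⟨⟨_, ⟨(g : G), g.2, rfl⟩⟩, hg⟩⟩
  refine ⟨ht, fun hs => hG ?_⟩
  -- a solvable normal subgroup has a normal Sylow subgroup, whence so has `G`
  haveI := hs
  haveI : Group.IsSolvable K := Group.isSolvable_of_isSolvable_injective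
    (f := (Subgroup.equivMapOfInjective K G.subtype G.subtype_injective).toMonoidHom) (MulEquiv.injective _)
  haveI : Nontrivial K := (Subgroup.nontrivial_iff_ne_bot K).2 hK
  obtain ⟨N, hN, hne, hab⟩ : ∃ N : Subgroup G, N.Normal ∧ N ≠ ⊥ ∧ IsMulCommutative N := by
    obtain ⟨N, ⟨hN, hne, hle⟩, hmin⟩ := (wellFounded_lt (α := Subgroup G)).has_min
      {L : Subgroup G | L.Normal ∧ L ≠ ⊥ ∧ L ≤ K} ⟨K, inferInstance, hK, le_rfl⟩
    haveI := hN
    refine ⟨N, hN, hne, ⟨⟨fun a b => Subtype.ext ?_⟩⟩⟩
    have h : ⁅N, N⁆ = ⊥ := by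
      by_contra hne'
      refine hmin ⁅N, N⁆ ⟨inferInstance, hne', (Subgroup.commutator_le_left N N).trans hle⟩ ?_
      haveI : Group.IsSolvable N := Group.isSolvable_of_isSolvable_injective (f := Subgroup.inclusion hle) (Subgroup.inclusion_injective hle)
      exact (show ⁅N, N⁆ < N from by
        refine lt_of_le_of_ne (Subgroup.commutator_le_left N N) fun heq => ?_
        obtain ⟨m, hm⟩ := (inferInstance : Group.IsSolvable N).solvable
        have key : ∀ j, (derivedSeries N j).map N.subtype = N := by
          intro j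
          induction j with
          | zero => rw [derivedSeries_zero, ← MonoidHom.range_eq_map, Subgroup.range_subtype]
          | succ j ih => rw [derivedSeries_succ, Subgroup.map_commutator, ih, heq]
        exact hne (by rw [← key m, hm, Subgroup.map_bot]))
    exact Subgroup.mem_centralizer_iff.1 (Subgroup.commutator_eq_bot_iff_le_centralizer.1 h b.2) a a.2
  haveI := hN
  haveI := hab
  obtain ⟨hNt, hNreg, hNC⟩ := Perm.regular_of_abelian_normal (α := α) hne
  haveI := hNt
  have hNcard : Nat.card N = 7 := by
    rw [Perm.card_eq_of_regular (hNreg (Classical.arbitrary α)), Nat.card_eq_fintype_card, hα]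
  haveI : IsCyclic N := isCyclic_of_prime_card hNcard
  haveI : Group.IsSolvable N := Group.isSolvable_of_comm fun a b => mul_comm' a b
  haveI : Group.IsSolvable (MulAut N) := Group.isSolvable_of_comm fun f g =>
    (IsCyclic.mulAutMulEquiv N).injective (by rw [map_mul, map_mul, mul_comm])
  exact Group.isSolvable_of_ker_le_range N.subtype (MulAut.conjNormal (H := N)) fun x hx => by
    rw [Subgroup.range_subtype, ← hNC, Subgroup.mem_centralizer_iff]
    intro y hy
    have := congrArg Subtype.val (DFunLike.congr_fun (MonoidHom.mem_ker.1 hx) ⟨y, hy⟩)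
    rw [MulAut.conjNormal_apply] at this
    exact (mul_inv_eq_iff_eq_mul.1 this).symm

end


/-- A non-solvable transitive permutation group on 7 points that does not contain the alternating group is a simple group of order 168. -/
theorem result {α : Type*} [Fintype α] [DecidableEq α] (hα : Fintype.card α = 7) (G : Subgroup (Equiv.Perm α)) [MulAction.IsPretransitive G α] (hG : ¬ Group.IsSolvable G) (hA : ¬ alternatingGroup α ≤ G) : Nat.card G = 168 ∧ IsSimpleGroup G := by
  classical
  haveI : Fact (Nat.Prime 7) := ⟨by norm_num⟩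
  haveI : Nonempty α := Fintype.card_pos_iff.1 (by omega)
  haveI : Nontrivial α := Fintype.one_lt_card_iff_nontrivial.1 (by omega)
  haveI : Nontrivial G := by
    obtain ⟨c, hc⟩ := exists_orderOf_eq (p := 7) G hα
    exact ⟨⟨c, 1, fun h => by rw [h, orderOf_one] at hc; omega⟩⟩
  -- the even part
  set M := (alternatingGroup α).subgroupOf G
  haveI : M.Normal := inferInstance
  have hMi : M.index = 1 ∨ M.index = 2 := by
    have h1 : M.index ∣ (alternatingGroup α).index := Subgroup.relIndex_dvd_index_of_normal _ _
    rw [alternatingGroup.index_eq_two] at h1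
    exact (Nat.dvd_prime Nat.prime_two).1 h1
  have hMne : M ≠ ⊥ := fun h => hG (by
    have hc := M.card_mul_index
    rw [h, Subgroup.card_bot, one_mul] at hc
    have hc' : Nat.card G = 1 ∨ Nat.card G = 2 := by rcases hMi with e | e <;> [left; right] <;> rw [← hc, ← h, e]
    rcases hc' with e | e
    · haveI := (Nat.card_eq_one_iff_unique.1 e).1
      infer_instance
    · haveI := isCyclic_of_prime_card (p := 2) e
      exact Group.isSolvable_of_comm fun a b => (IsCyclic.isMulCommutative (α := G)).is_comm.comm a b)
  have key : ∀ K : Subgroup G, K.Normal → K ≠ ⊥ → K ≤ M → Nat.card K = 168 := by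
    intro K hKn hK hKM
    obtain ⟨ht, hs⟩ := normal_facts hα G hG K hK
    haveI := ht
    rw [← Subgroup.card_map_of_injective (f := G.subtype) G.subtype_injective]
    refine core hα _ ?_ hs fun h => hA (h.trans (Subgroup.map_subtype_le K))
    rintro _ ⟨x, hx, rfl⟩
    exact hKM hx
  have hM168 := key M inferInstance hMne le_rfl
  have hcard : Nat.card G = 168 := by
    rcases hMi with e | e
    · rw [← M.card_mul_index, hM168, e]
    · exfalso
      have hG336 : Nat.card G = 336 := by rw [← M.card_mul_index, hM168, e]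
      obtain ⟨P⟩ := (inferInstance : Nonempty (Sylow 7 G))
      obtain ⟨hP, -, d, hd6, hd⟩ := sylow_facts hα G P
      have hn : Nat.card G = Nat.card (Sylow 7 G) * (7 * d) := by
        have h : Nat.card (Sylow 7 G) = (Subgroup.normalizer ((P : Subgroup G) : Set G)).index :=
          Sylow.card_eq_index_normalizer P
        rw [h, ← hd, Subgroup.index_mul_card]
      have hmod : Nat.card (Sylow 7 G) % 7 = 1 := card_sylow_modEq_one (p := 7) (G := G)
      have hn1 := card_sylow_ne_one hα G hG
      have hdeven : Even (Nat.card (Subgroup.normalizer ((P : Subgroup G) : Set G))) := by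
        rw [hd]
        have := Nat.le_of_dvd (by norm_num) hd6
        rw [Nat.even_iff]
        interval_cases d <;> omega
      have h3 := S0676.result hα G hG P hdeven
      have h5 : 5 ∣ Nat.card G := by
        obtain ⟨x₀⟩ : Nonempty (Fin 3 ↪ α) := Function.Embedding.nonempty_of_card_le (by simp [hα])
        have h : (MulAction.stabilizer G x₀).index = Nat.card (Fin 3 ↪ α) :=
          (MulAction.index_stabilizer _ _).trans ((congrArg Set.ncard (Set.eq_univ_of_forall fun y =>
            MulAction.isMultiplyPretransitive_iff.1 h3 x₀ y)).trans (Set.ncard_univ _))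
        rw [Nat.card_eq_fintype_card (α := Fin 3 ↪ α), Fintype.card_embedding_eq] at h
        simp only [Fintype.card_fin, hα] at h
        exact (h ▸ (show 5 ∣ Nat.descFactorial 7 3 by decide)).trans (Subgroup.index_dvd_card _)
      rw [hG336] at h5
      norm_num at h5
  refine ⟨hcard, ⟨fun K hK => ?_⟩⟩
  by_cases h : K = ⊥
  · exact Or.inl h
  refine Or.inr (Subgroup.eq_top_of_card_eq K ?_)
  have hMtop : M = ⊤ := Subgroup.eq_top_of_card_eq M (by rw [hM168, hcard])
  rw [key K hK h (hMtop ▸ le_top), hcard]

end Cfsg.Agent.S0678
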