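import Cfsg.Statements.S0679
import Cfsg.Agent.S0498
import Cfsg.Agent.Lib.Perm.DegreeElevenMain

set_option autoImplicit false
open Cfsg
open MulAction

namespace Cfsg.Agent.S0679

/-- A non-solvable transitive permutation group on 11 points that does not contain the alternating group is either sharply 4-transitive (of order 7920) or isomorphic to the projective special linear group of degree 2 over the field with 11 elements. -/
theorem result {α : Type*} [Fintype α] [DecidableEq α] (hα : Fintype.card α = 11) (G : Subgroup (Equiv.Perm α)) [MulAction.IsPretransitive G α] (hG : ¬ Group.IsSolvable G) (hA : ¬ alternatingGroup α ≤ G) : (MulAction.IsMultiplyPretransitive G α 4 ∧ ∀ x : Fin 4 ↪ α, MulAction.stabilizer G x = ⊥) ∨ Nonempty (G ≃* Matrix.ProjectiveSpecialLinearGroup (Fin 2) (ZMod 11)) := by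
  classical
  haveI : Fact (Nat.Prime 11) := ⟨by norm_num⟩
  have hαN : Nat.card α = 11 := by rw [Nat.card_eq_fintype_card, hα]
  haveI hprim : IsPreprimitive G α := IsPreprimitive.of_prime_card (hαN ▸ (Fact.out : Nat.Prime 11))
  set T : Subgroup (Equiv.Perm α) := G ⊓ alternatingGroup α with hT
  have hTsol : ¬ Group.IsSolvable T := by
    intro hs
    refine hG (Group.isSolvable_of_ker_le_range (Subgroup.inclusion (inf_le_left : T ≤ G))
      (Equiv.Perm.sign.comp G.subtype) fun g hg => ?_)
    exact ⟨⟨g, g.2, Equiv.Perm.mem_alternatingGroup.2 hg⟩, rfl⟩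
  haveI hTn : (T.subgroupOf G).Normal := by
    refine ⟨fun n hn g => ⟨(g * n * g⁻¹).2, ?_⟩⟩
    exact (inferInstance : (alternatingGroup α).Normal).conj_mem _ hn.2 _
  have hT0 : T.subgroupOf G ≠ ⊥ := by
    intro h
    refine hTsol ?_
    have e := Subgroup.subgroupOfEquivOfLe (inf_le_left : T ≤ G)
    haveI : Subsingleton T := by
      have : Subsingleton (T.subgroupOf G) := by rw [h]; infer_instance
      exact e.symm.toEquiv.subsingleton
    infer_instance
  haveI hTt : IsPretransitive T α := by
    haveI := Perm.normal_isPretransitive (α := α) (T.subgroupOf G) hT0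
    refine ⟨fun x y => ?_⟩
    obtain ⟨g, hg⟩ := exists_smul_eq (T.subgroupOf G) x y
    exact ⟨⟨g.1.1, g.2⟩, hg⟩
  have S : Perm.DegreeEleven.Setup T :=
    { hα := hα
      even := fun g hg => Equiv.Perm.mem_alternatingGroup.1 hg.2
      two := Perm.PrimeDegree.twoTransitive_of_not_isSolvable (p := 11) hα hTsol
      hA := fun h => hA (h.trans inf_le_left) }
  have hGT : G = T := le_antisymm (S.le_of_index_two hT hprim hA) inf_le_left
  rw [hGT]
  rcases S.card_cases with hc | hc
  · refine Or.inr ?_
    haveI : IsSimpleGroup T := by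
      refine Perm.isSimpleGroup_of_prime_degree (α := α) hαN (by rw [hc]; norm_num) fun d hd hd2 hmod => ?_
      rw [hc] at hd2 hmod ⊢
      have := Nat.le_of_dvd (by norm_num) hd
      interval_cases d <;> revert hd hd2 hmod <;> decide
    exact S0498.result (G := T) 11 (Or.inl rfl) (by rw [hc]; norm_num) (F := ZMod 11) (ZMod.card 11)
  · exact Or.inl (S.sharply_four hc)

end Cfsg.Agent.S0679
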