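import Cfsg.Statements.S4143
import Cfsg.Agent.Lib.ClassCount.ConjIndex
import Cfsg.Agent.Lib.PGroup.Basic

set_option autoImplicit false
open Cfsg

namespace Cfsg.Agent.S4143

universe u in
/-- A group of order `p^(m+2)` with a self-centralising subgroup of order `p^2` has
class `m + 1`. -/
theorem nilpotencyClass_of_selfCentralizing {p : ℕ} [Fact p.Prime] (m : ℕ) :
    ∀ {X : Type u} [Group X] [Finite X], Nat.card X = p ^ (m + 2) → ∀ (A : Subgroup X),
      Nat.card A = p ^ 2 → Subgroup.centralizer (A : Set X) ≤ A →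
      Group.nilpotencyClass X = m + 1 := by
  have hp : p.Prime := Fact.out
  induction m with
  | zero =>
    intro X _ _ hX A _ _
    haveI : Group.IsNilpotent X := (IsPGroup.of_card hX).isNilpotent
    haveI : Nontrivial X := Finite.one_lt_card_iff_nontrivial.mp (by
      rw [hX]; exact Nat.one_lt_pow (by omega) hp.one_lt)
    have hc := IsPGroup.commutative_of_card_eq_prime_sq hX
    have h1 : Group.nilpotencyClass X ≤ 1 :=
      letI : CommGroup X := { ‹Group X› with mul_comm := hc }
      CommGroup.nilpotencyClass_le_one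
    have h2 : Group.nilpotencyClass X ≠ 0 := fun h0 => by
      rw [Group.nilpotencyClass_zero_iff_subsingleton] at h0
      exact not_subsingleton X h0
    omega
  | succ m ih =>
    intro X _ _ hX A hA hCA
    have hXp : IsPGroup p X := IsPGroup.of_card hX
    haveI : Group.IsNilpotent X := hXp.isNilpotent
    haveI : Nontrivial X := Finite.one_lt_card_iff_nontrivial.mp (by
      rw [hX]; exact Nat.one_lt_pow (by omega) hp.one_lt)
    set Z := Subgroup.center X with hZ
    have hAX : A ≠ ⊤ := fun h => by
      rw [h, Subgroup.card_top, hX] at hA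
      have := Nat.pow_right_injective hp.two_le hA
      omega
    have hZA : Z ≤ A := fun z hz => hCA (by
      rw [Subgroup.mem_centralizer_iff]; exact fun y _ => Subgroup.mem_center_iff.mp hz y)
    have hZp : Nat.card Z = p := by
      have h1 : 1 < Nat.card Z := (Subgroup.one_lt_card_iff_ne_bot _).mpr hXp.bot_lt_center.ne'
      obtain ⟨j, hj2, hj⟩ := (Nat.dvd_prime_pow hp).mp (hA ▸ Subgroup.card_dvd_of_le hZA)
      interval_cases j
      · rw [hj, pow_zero] at h1; omega
      · rw [hj, pow_one]
      · exfalso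
        have hZeq : Z = A := Subgroup.eq_of_le_of_card_ge hZA (by rw [hA, hj])
        apply hAX
        rw [eq_top_iff]
        intro g _
        refine hCA ?_
        rw [Subgroup.mem_centralizer_iff, ← hZeq]
        exact fun z hz => (Subgroup.mem_center_iff.mp hz g).symm
    set q := QuotientGroup.mk' Z with hq
    have hqcard : Nat.card (X ⧸ Z) = p ^ (m + 2) := by
      have h1 : Nat.card Z * Nat.card (X ⧸ Z) = Nat.card X := Subgroup.card_mul_index Z
      rw [hZp, hX, show m + 1 + 2 = (m + 2) + 1 by omega, pow_succ'] at h1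
      exact Nat.eq_of_mul_eq_mul_left hp.pos h1
    have hqp : IsPGroup p (X ⧸ Z) := IsPGroup.of_card hqcard
    set Ab := A.map q with hAb
    have hAbcard : Nat.card Ab = p := by
      have h1 : Nat.card Ab = Z.relIndex A := by
        rw [hAb, ← Subgroup.relIndex_bot_left, ← Subgroup.relIndex_comap, MonoidHom.comap_bot, hq,
          QuotientGroup.ker_mk']
      have h2 : Nat.card Z * Z.relIndex A = Nat.card A := by
        have := Subgroup.relIndex_mul_relIndex ⊥ Z A bot_le hZA
        simpa using this
      rw [hZp, hA, sq] at h2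
      rw [h1, Nat.eq_of_mul_eq_mul_left hp.pos h2]
    set Cb := Subgroup.centralizer (Ab : Set (X ⧸ Z)) with hCb
    have hAbC : Ab ≤ Cb := by
      haveI : IsCyclic Ab := isCyclic_of_prime_card hAbcard
      intro y hy
      rw [hCb, Subgroup.mem_centralizer_iff]
      intro w hw
      exact congrArg Subtype.val (IsCyclic.commGroup.mul_comm (⟨w, hw⟩ : Ab) ⟨y, hy⟩)
    -- `a` generates `A` over `Z`
    obtain ⟨a, ha, haZ⟩ : ∃ a ∈ A, a ∉ Z := by
      by_contra hh
      push Not at hh
      have hc2 := Subgroup.card_le_of_le (hh : A ≤ Z)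
      rw [hA, hZp] at hc2
      have := hp.one_lt
      nlinarith
    have hcent : ∀ d : X, d * a = a * d → d ∈ A := by
      intro d hd
      refine hCA ?_
      have hlt : Z < Z ⊔ Subgroup.zpowers a :=
        lt_of_le_of_ne le_sup_left fun h => haZ (h ▸ Subgroup.mem_sup_right (Subgroup.mem_zpowers a))
      have h1 := PGroup.mul_card_le_card hXp hlt
      have heq : Z ⊔ Subgroup.zpowers a = A :=
        Subgroup.eq_of_le_of_card_ge (sup_le hZA (Subgroup.zpowers_le.mpr ha)) (by
          rw [hA, sq]; rwa [hZp] at h1)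
      have hle : A ≤ Subgroup.centralizer ({d} : Set X) := by
        rw [← heq]
        exact sup_le (fun z hz => Subgroup.mem_centralizer_singleton_iff.mpr (Subgroup.mem_center_iff.mp hz d).symm)
          (Subgroup.zpowers_le.mpr (Subgroup.mem_centralizer_singleton_iff.mpr hd.symm))
      rw [Subgroup.mem_centralizer_iff]
      exact fun w hw => Subgroup.mem_centralizer_singleton_iff.mp (hle hw)
    have hCbcard : Nat.card Cb ≤ p ^ 2 := by
      set D := Cb.comap q with hD
      have hmap : D.map q = Cb := Subgroup.map_comap_eq_self_of_surjective (QuotientGroup.mk'_surjective Z) Cb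
      have hAD : A ≤ D := fun y hy => hAbC ⟨y, hy, rfl⟩
      have h1 : (Subgroup.centralizer ({a} : Set X)).relIndex D ≤ p := by
        rw [ClassCount.relIndex_centralizer_singleton]
        have hsub : (fun h : X => h * a * h⁻¹) '' (D : Set X) ⊆ (fun z => a * z) '' (Z : Set X) := by
          rintro _ ⟨d, hd, rfl⟩
          refine ⟨a⁻¹ * (d * a * d⁻¹), ?_, by group⟩
          have h2 := Subgroup.mem_centralizer_iff.mp hd (q a) ⟨a, ha, rfl⟩
          rw [SetLike.mem_coe, ← QuotientGroup.eq_one_iff]
          simp only [hq, QuotientGroup.mk'_apply] at h2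
          simp only [QuotientGroup.mk_mul, QuotientGroup.mk_inv]
          rw [mul_assoc ((d : X ⧸ Z)), ← mul_assoc ((d : X ⧸ Z)), ← h2]
          group
        refine (Set.ncard_le_ncard hsub (Set.toFinite _)).trans (le_of_eq ?_)
        rw [Set.ncard_image_of_injective _ (mul_right_injective a), ← Nat.card_coe_set_eq]
        exact hZp
      have h2 : A.relIndex D ≤ p := by
        refine le_trans (Nat.le_of_dvd (Nat.pos_of_ne_zero Subgroup.index_ne_zero_of_finite) ?_) h1
        exact Subgroup.relIndex_dvd_of_le_left D fun d hd => hcent d (Subgroup.mem_centralizer_singleton_iff.mp hd)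
      have h3 : Nat.card A * A.relIndex D = Nat.card D := by
        have := Subgroup.relIndex_mul_relIndex ⊥ A D bot_le hAD
        simpa using this
      have h4 : Nat.card Z * Z.relIndex D = Nat.card D := by
        have := Subgroup.relIndex_mul_relIndex ⊥ Z D bot_le (hZA.trans hAD)
        simpa using this
      have h5 : Nat.card Cb = Z.relIndex D := by
        rw [← hmap, ← Subgroup.relIndex_bot_left, ← Subgroup.relIndex_comap, MonoidHom.comap_bot, hq,
          QuotientGroup.ker_mk']
      rw [h5]
      refine Nat.le_of_mul_le_mul_left ?_ hp.pos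
      calc p * Z.relIndex D = Nat.card Z * Z.relIndex D := by rw [hZp]
        _ = Nat.card A * A.relIndex D := by rw [h4, h3]
        _ ≤ p ^ 2 * p := by rw [hA]; exact Nat.mul_le_mul_left _ h2
        _ = p * p ^ 2 := by ring
    have hlt : Ab < Cb := by
      refine lt_of_le_of_ne hAbC fun h => ?_
      -- then the centre of `X/Z` is `Ab`, so everything centralises `Ab`
      have hZb : Subgroup.center (X ⧸ Z) ≤ Ab := h ▸ fun z hz => by
        rw [hCb, Subgroup.mem_centralizer_iff]
        exact fun y _ => Subgroup.mem_center_iff.mp hz y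
      haveI : Nontrivial (X ⧸ Z) := Finite.one_lt_card_iff_nontrivial.mp (by
        rw [hqcard]; exact Nat.one_lt_pow (by omega) hp.one_lt)
      have h1 : 1 < Nat.card (Subgroup.center (X ⧸ Z)) :=
        (Subgroup.one_lt_card_iff_ne_bot _).mpr hqp.bot_lt_center.ne'
      have h2 : Subgroup.center (X ⧸ Z) = Ab := by
        refine Subgroup.eq_of_le_of_card_ge hZb ?_
        obtain ⟨j, -, hj⟩ := (Nat.dvd_prime_pow hp).mp
          (show Nat.card (Subgroup.center (X ⧸ Z)) ∣ p ^ 1 from by
            rw [pow_one, ← hAbcard]; exact Subgroup.card_dvd_of_le hZb)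
        rw [hAbcard, hj]
        exact Nat.le_self_pow (fun h0 => by rw [h0, pow_zero] at hj; omega) p
      have h3 : Cb = ⊤ := by
        rw [eq_top_iff, hCb]
        intro g _
        rw [Subgroup.mem_centralizer_iff]
        intro w hw
        rw [SetLike.mem_coe, ← h2] at hw
        exact (Subgroup.mem_center_iff.mp hw g).symm
      rw [h3] at h
      rw [h, Subgroup.card_top, hqcard] at hAbcard
      have := Nat.pow_right_injective hp.two_le (hAbcard.trans (pow_one p).symm)
      omega
    have hCb2 : Nat.card Cb = p ^ 2 := by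
      refine le_antisymm hCbcard ?_
      have := PGroup.mul_card_le_card hqp hlt
      rwa [hAbcard, ← sq] at this
    have hself : Subgroup.centralizer (Cb : Set (X ⧸ Z)) ≤ Cb := by
      conv_rhs => rw [hCb]
      exact Subgroup.centralizer_le (SetLike.coe_subset_coe.mpr hAbC)
    have hcl := ih hqcard Cb hCb2 hself
    have hqc := Group.nilpotencyClass_quotient_center (G := X)
    rw [hcl] at hqc
    omega


/-- Let X be a finite p-group of order p^n containing a non-abelian subgroup B of order p³ with C_X(B) ≤ B. Then X has nilpotency class n − 1 (maximal class). -/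
theorem result {X : Type*} [Group X] [Finite X] {p : ℕ} [Fact p.Prime] (n : ℕ) (hX : Nat.card X = p ^ n)
    (B : Subgroup X) (hB : Nat.card B = p ^ 3) (hBna : ¬ IsMulCommutative B) (hC : Subgroup.centralizer (B : Set X) ≤ B) :
    Group.nilpotencyClass X = n - 1 := by
  classical
  have hp : p.Prime := Fact.out
  have hXp : IsPGroup p X := IsPGroup.of_card hX
  set Z := Subgroup.center X with hZ
  have hZB : Z ≤ B := fun z hz => hC (by
    rw [Subgroup.mem_centralizer_iff]
    exact fun y _ => Subgroup.mem_center_iff.mp hz y)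
  -- two non-commuting elements generate `B`
  obtain ⟨a, ha, b, hb, hab⟩ : ∃ a ∈ B, ∃ b ∈ B, a * b ≠ b * a := by
    by_contra hh
    push Not at hh
    exact hBna ⟨⟨fun x y => Subtype.ext (hh x x.2 y y.2)⟩⟩
  have hgen : Subgroup.closure {a, b} = B := by
    have hle : Subgroup.closure {a, b} ≤ B := by
      rw [Subgroup.closure_le]; rintro z (rfl | rfl) <;> assumption
    have ha' : a ∈ Subgroup.closure ({a, b} : Set X) := Subgroup.subset_closure (by simp)
    have hb' : b ∈ Subgroup.closure ({a, b} : Set X) := Subgroup.subset_closure (by simp)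
    obtain ⟨e, he, he'⟩ := (Nat.dvd_prime_pow hp).mp (hB ▸ Subgroup.card_dvd_of_le hle)
    refine Subgroup.eq_of_le_of_card_ge hle ?_
    rw [he', hB]
    by_contra hlt
    have he2 : e ≤ 2 := by
      by_contra h3
      exact hlt (Nat.pow_le_pow_right hp.pos (by omega))
    refine hab (congrArg Subtype.val
      (?_ : (⟨a, ha'⟩ : Subgroup.closure ({a, b} : Set X)) * ⟨b, hb'⟩ = ⟨b, hb'⟩ * ⟨a, ha'⟩))
    interval_cases e
    · haveI : Subsingleton (Subgroup.closure ({a, b} : Set X)) :=
        Finite.card_le_one_iff_subsingleton.mp (by rw [he', pow_zero])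
      exact Subsingleton.elim _ _
    · haveI : IsCyclic (Subgroup.closure ({a, b} : Set X)) :=
        isCyclic_of_prime_card (p := p) (by rw [he', pow_one])
      exact IsCyclic.commGroup.mul_comm _ _
    · exact IsPGroup.commutative_of_card_eq_prime_sq he' _ _
  haveI : Nontrivial X := ⟨⟨a, b, fun h => hab (by rw [h])⟩⟩
  -- a non-trivial subgroup of `B` centralising `B` has order `p`
  have hsmall : ∀ W : Subgroup X, W ≤ B → W ≤ Subgroup.centralizer (B : Set X) → W ≠ ⊥ →
      Nat.card W = p := by
    intro W hWB hWC hW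
    have h1 : 1 < Nat.card W := (Subgroup.one_lt_card_iff_ne_bot _).mpr hW
    obtain ⟨j, hj3, hj⟩ := (Nat.dvd_prime_pow hp).mp (hB ▸ Subgroup.card_dvd_of_le hWB)
    have hj1 : j ≠ 0 := fun h0 => by rw [h0, pow_zero] at hj; omega
    rcases Nat.lt_or_ge j 2 with h | h
    · rw [hj, show j = 1 by omega, pow_one]
    exfalso
    have haW : a ∉ W := fun h => hab (Subgroup.mem_centralizer_iff.mp (hWC h) b hb).symm
    have hlt2 : W < W ⊔ Subgroup.zpowers a :=
      lt_of_le_of_ne le_sup_left fun h => haW (h ▸ Subgroup.mem_sup_right (Subgroup.mem_zpowers a))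
    have h2 := PGroup.mul_card_le_card hXp hlt2
    have heq := Subgroup.eq_of_le_of_card_ge (sup_le hWB (Subgroup.zpowers_le.mpr ha)) (by
      rw [hB]
      calc p ^ 3 = p * p ^ 2 := by ring
        _ ≤ p * p ^ j := Nat.mul_le_mul_left _ (Nat.pow_le_pow_right hp.pos h)
        _ = p * Nat.card W := by rw [hj]
        _ ≤ _ := h2)
    have hle3 : W ⊔ Subgroup.zpowers a ≤ Subgroup.centralizer ({a} : Set X) :=
      sup_le (fun z hz => Subgroup.mem_centralizer_singleton_iff.mpr
          (Subgroup.mem_centralizer_iff.mp (hWC hz) a ha).symm)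
        (Subgroup.zpowers_le.mpr (Subgroup.mem_centralizer_singleton_iff.mpr rfl))
    exact hab (Subgroup.mem_centralizer_singleton_iff.mp (hle3 (heq.ge hb))).symm
  have hZC : Z ≤ Subgroup.centralizer (B : Set X) := fun z hz => by
    rw [Subgroup.mem_centralizer_iff]
    exact fun y _ => Subgroup.mem_center_iff.mp hz y
  have hZne : Z ≠ ⊥ := hXp.bot_lt_center.ne'
  have hZp : Nat.card Z = p := hsmall Z hZB hZC hZne
  have hCeq : Subgroup.centralizer (B : Set X) = Z :=
    (Subgroup.eq_of_le_of_card_ge hZC (by
      rw [hZp, hsmall _ hC le_rfl (fun h => hZne (le_bot_iff.mp (hZC.trans h.le)))])).symm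
  set q := QuotientGroup.mk' Z with hq
  have hq' : Nat.card X = p * Nat.card (X ⧸ Z) := by
    rw [← hZp]; exact (Subgroup.card_mul_index Z).symm
  have hn3 : 3 ≤ n := by
    have h3 := Subgroup.card_subgroup_dvd_card B
    rw [hB, hX] at h3
    exact (Nat.pow_dvd_pow_iff_le_right hp.one_lt).mp h3
  have hqcard : Nat.card (X ⧸ Z) = p ^ (n - 3 + 2) := by
    rw [hX, show n = (n - 3 + 2) + 1 by omega, pow_succ'] at hq'
    exact (Nat.eq_of_mul_eq_mul_left hp.pos hq').symm
  have hAcard : Nat.card (B.map q) = p ^ 2 := by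
    have h1 : Nat.card (B.map q) = Z.relIndex B := by
      rw [← Subgroup.relIndex_bot_left, ← Subgroup.relIndex_comap, MonoidHom.comap_bot, hq,
        QuotientGroup.ker_mk']
    have h2 : Nat.card Z * Z.relIndex B = Nat.card B := by
      have := Subgroup.relIndex_mul_relIndex ⊥ Z B bot_le hZB
      simpa using this
    rw [hZp, hB, pow_succ'] at h2
    rw [h1, Nat.eq_of_mul_eq_mul_left hp.pos h2]
  -- the centralizer of `B/Z` in `X/Z` is `B/Z`
  have hCq : Subgroup.centralizer ((B.map q : Subgroup (X ⧸ Z)) : Set (X ⧸ Z)) ≤ B.map q := by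
    set D := (Subgroup.centralizer ((B.map q : Subgroup (X ⧸ Z)) : Set (X ⧸ Z))).comap q with hD
    have hdiff : ∀ d ∈ D, ∀ u ∈ B, u⁻¹ * (d * u * d⁻¹) ∈ Z := by
      intro d hd u hu
      have h1 := Subgroup.mem_centralizer_iff.mp hd (q u) ⟨u, hu, rfl⟩
      rw [← QuotientGroup.eq_one_iff]
      simp only [hq, QuotientGroup.mk'_apply] at h1
      simp only [QuotientGroup.mk_mul, QuotientGroup.mk_inv]
      rw [mul_assoc ((d : X ⧸ Z)), ← mul_assoc ((d : X ⧸ Z)), ← h1]
      group
    have hbd : ∀ u ∈ B, (Subgroup.centralizer ({u} : Set X)).relIndex D ≤ p := by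
      intro u hu
      rw [ClassCount.relIndex_centralizer_singleton]
      have hsub : (fun h : X => h * u * h⁻¹) '' (D : Set X) ⊆ (fun z => u * z) '' (Z : Set X) := by
        rintro _ ⟨d, hd, rfl⟩
        exact ⟨_, hdiff d hd u hu, by group⟩
      refine (Set.ncard_le_ncard hsub (Set.toFinite _)).trans (le_of_eq ?_)
      rw [Set.ncard_image_of_injective _ (mul_right_injective u), ← Nat.card_coe_set_eq]
      exact hZp
    have hBD : Nat.card D ≤ p ^ 3 := by
      have h1 : (Subgroup.centralizer ({a} : Set X) ⊓ Subgroup.centralizer ({b} : Set X)).relIndex D ≤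
          (Subgroup.centralizer ({a} : Set X)).relIndex D *
            (Subgroup.centralizer ({b} : Set X)).relIndex D := Subgroup.relIndex_inf_le
      have h2 : Subgroup.centralizer ({a} : Set X) ⊓ Subgroup.centralizer ({b} : Set X) = Z := by
        rw [← hCeq, ← hgen, Subgroup.centralizer_closure]
        ext w
        simp only [Subgroup.mem_inf, Subgroup.mem_centralizer_iff, Set.mem_insert_iff,
          Set.mem_singleton_iff, forall_eq_or_imp, forall_eq]
      rw [h2] at h1
      have hZD : Z ≤ D := fun z hz => by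
        rw [hD, Subgroup.mem_comap, hq, QuotientGroup.mk'_apply, (QuotientGroup.eq_one_iff z).mpr hz]
        exact one_mem _
      have h3 : Nat.card Z * Z.relIndex D = Nat.card D := by
        have := Subgroup.relIndex_mul_relIndex ⊥ Z D bot_le hZD
        simpa using this
      rw [← h3, hZp]
      calc p * Z.relIndex D ≤ p * (p * p) := Nat.mul_le_mul_left _ (h1.trans (Nat.mul_le_mul (hbd a ha) (hbd b hb)))
        _ = p ^ 3 := by ring
    have hBle : B ≤ D := by
      intro u hu
      rw [hD, Subgroup.mem_comap, Subgroup.mem_centralizer_iff]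
      rintro _ ⟨w, hw, rfl⟩
      exact congrArg Subtype.val (IsPGroup.commutative_of_card_eq_prime_sq hAcard ⟨q w, w, hw, rfl⟩ ⟨q u, u, hu, rfl⟩)
    have heq := Subgroup.eq_of_le_of_card_ge hBle (by rw [hB]; exact hBD)
    intro y hy
    obtain ⟨d, rfl⟩ := QuotientGroup.mk'_surjective Z y
    exact ⟨d, heq ▸ hy, rfl⟩
  have hcl := nilpotencyClass_of_selfCentralizing (n - 3) hqcard (B.map q) hAcard hCq
  haveI : Group.IsNilpotent X := hXp.isNilpotent
  have hpos : Group.nilpotencyClass X ≠ 0 := fun h0 => by
    rw [Group.nilpotencyClass_zero_iff_subsingleton] at h0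
    exact hab (Subsingleton.elim _ _)
  have hqc := Group.nilpotencyClass_quotient_center (G := X)
  rw [hcl] at hqc
  omega

end Cfsg.Agent.S4143
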