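import Cfsg.Statements.S3559
import Cfsg.Agent.Lib.Perm.Basic

set_option autoImplicit false
open Cfsg

namespace Cfsg.Agent.S3559

open MulAction

section Schur

variable {G Ω C : Type*} [Group G] [MulAction G Ω] [CommGroup C] [Finite C]
  (t : C →* G) (φ : C ≃ Ω) (hφ : ∀ c x : C, φ (c * x) = t c • φ x)

/-- The transported action on the regular subgroup. -/
def act (g : G) (x : C) : C := φ.symm (g • φ x)

/-- Sets invariant under the stabiliser of the base point. -/
def Inv (G : Type*) {Ω C : Type*} [Group G] [MulAction G Ω] [CommGroup C] (φ : C ≃ Ω) (S : Set C) : Prop :=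
  ∀ g : G, g • φ 1 = φ 1 → ∀ x ∈ S, act φ g x ∈ S

omit [Finite C] in
theorem act_injective (g : G) : Function.Injective (act φ g) := fun x y h =>
  φ.injective (MulAction.injective g (φ.symm.injective h))

include hφ

omit [Finite C] in
/-- Left differences transform by an element of the stabiliser. -/
theorem exists_diff (g : G) (u : C) :
    ∃ h : G, h • φ 1 = φ 1 ∧ ∀ v : C, (act φ g u)⁻¹ * act φ g v = act φ h (u⁻¹ * v) := by
  refine ⟨t (act φ g u)⁻¹ * g * t u, ?_, fun v => ?_⟩
  · rw [mul_smul, mul_smul, ← hφ, mul_one]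
    have h : g • φ u = φ (act φ g u) := (φ.apply_symm_apply _).symm
    rw [h, ← hφ, inv_mul_cancel]
  · apply φ.injective
    simp only [act, Equiv.apply_symm_apply]
    rw [mul_smul, mul_smul, ← hφ u, mul_inv_cancel_left, hφ]
    simp

omit [Finite C] in
theorem Inv.edge {S : Set C} (hS : Inv G φ S) (g : G) (u v : C) (huv : u⁻¹ * v ∈ S) :
    (act φ g u)⁻¹ * act φ g v ∈ S := by
  obtain ⟨h, h1, h2⟩ := exists_diff t φ hφ g u
  rw [h2]; exact hS h h1 _ huv

omit [Finite C] in
theorem Inv.edge_iff {S : Set C} (hS : Inv G φ S) (g : G) (u v : C) :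
    (act φ g u)⁻¹ * act φ g v ∈ S ↔ u⁻¹ * v ∈ S := by
  refine ⟨fun h => ?_, hS.edge t φ hφ g u v⟩
  simpa [act] using hS.edge t φ hφ g⁻¹ _ _ h

/-- Elements of the group algebra constant on the orbits of the stabiliser are closed under product. -/
theorem invFun_mul {R : Type*} [CommSemiring R] {F K : MonoidAlgebra R C}
    (hF : ∀ g : G, g • φ 1 = φ 1 → ∀ x, F.coeff (act φ g x) = F.coeff x)
    (hK : ∀ g : G, g • φ 1 = φ 1 → ∀ x, K.coeff (act φ g x) = K.coeff x)
    (g : G) (hg : g • φ 1 = φ 1) (x : C) : (F * K).coeff (act φ g x) = (F * K).coeff x := by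
  classical
  haveI := Fintype.ofFinite C
  rw [MonoidAlgebra.coeff_mul_apply_left, MonoidAlgebra.coeff_mul_apply_left,
    Finsupp.sum_fintype _ _ (fun _ => zero_mul _), Finsupp.sum_fintype _ _ (fun _ => zero_mul _)]
  refine (Fintype.sum_bijective (act φ g) ?_ _ _ fun y => ?_).symm
  · exact (Finite.injective_iff_bijective).mp (act_injective φ g)
  · obtain ⟨h, h1, h2⟩ := exists_diff t φ hφ g y
    rw [hF g hg y, h2, hK h h1]

/-- Schur's power theorem: the set of `r`-th powers taken with multiplicity prime to `r`. -/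
theorem inv_power_set {T : Set C} (hT : Inv G φ T) {r : ℕ} (hr : r.Prime) :
    Inv G φ {z : C | ¬ r ∣ Nat.card {x : T // (x : C) ^ r = z}} := by
  classical
  haveI := Fintype.ofFinite C
  haveI := Fact.mk hr
  let F : MonoidAlgebra (ZMod r) C := ∑ x ∈ T.toFinset, MonoidAlgebra.single x 1
  haveI : CharP (MonoidAlgebra (ZMod r) C) r :=
    charP_of_injective_algebraMap (algebraMap (ZMod r) (MonoidAlgebra (ZMod r) C)).injective r
  have hFc : ∀ x, F.coeff x = if x ∈ T then (1 : ZMod r) else 0 := fun x => by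
    simp [F, Finsupp.single_apply]
  have hFinv : ∀ g : G, g • φ 1 = φ 1 → ∀ x, F.coeff (act φ g x) = F.coeff x := fun g hg x => by
    have hiff : act φ g x ∈ T ↔ x ∈ T := by
      refine ⟨fun h => ?_, hT g hg x⟩
      have := hT g⁻¹ (by rw [inv_smul_eq_iff, hg]) _ h
      simpa [act] using this
    simp only [hFc, hiff]
  have hpow : ∀ k : ℕ, ∀ g : G, g • φ 1 = φ 1 → ∀ x, (F ^ (k + 1)).coeff (act φ g x) = (F ^ (k + 1)).coeff x := by
    intro k
    induction k with
    | zero => simpa using hFinv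
    | succ k ih => rw [pow_succ _ (k + 1)]; exact fun g hg x => invFun_mul t φ hφ ih hFinv g hg x
  have hFr : ∀ z, (F ^ r).coeff z = (Nat.card {x : T // (x : C) ^ r = z} : ZMod r) := by
    intro z
    have hpw : F ^ r = ∑ x ∈ T.toFinset, MonoidAlgebra.single (x ^ r) (1 : ZMod r) := by
      simp only [F, sum_pow_char, MonoidAlgebra.single_pow, one_pow]
    rw [hpw]
    simp only [MonoidAlgebra.coeff_sum, MonoidAlgebra.coeff_single, Finsupp.finsetSum_apply, Finsupp.single_apply,
      Finset.sum_boole]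
    congr 1
    rw [Nat.card_congr (Equiv.subtypeSubtypeEquivSubtypeInter (· ∈ T) (fun x : C => x ^ r = z)),
      Nat.card_eq_fintype_card, Fintype.card_subtype]
    congr 1
    ext x; simp
  intro g hg z hz
  simp only [Set.mem_ofPred_eq, ← CharP.cast_eq_zero_iff (ZMod r) r] at hz ⊢
  rw [← hFr] at hz ⊢
  obtain ⟨k, hk⟩ : ∃ k, r = k + 1 := ⟨r - 1, by have := hr.two_le; omega⟩
  have hinv : (F ^ r).coeff (act φ g z) = (F ^ r).coeff z := by
    have e : F ^ r = F ^ (k + 1) := congrArg (F ^ ·) hk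
    rw [e]; exact hpow k g hg z
  rwa [hinv]

/-- Schur's multiplier theorem. -/
theorem inv_image_pow {T : Set C} (hT : Inv G φ T) (m : ℕ) (hm : m.Coprime (Nat.card C)) (hm0 : m ≠ 0) :
    Inv G φ ((fun x => x ^ m) '' T) := by
  induction m using Nat.recOnMul generalizing T with
  | zero => exact absurd rfl hm0
  | one => simpa using hT
  | prime r hr =>
    classical
    convert inv_power_set t φ hφ hT hr using 1
    ext z
    have hinj : Function.Injective (fun x : C => x ^ r) := (powCoprime hm.symm).injective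
    constructor
    · rintro ⟨x, hx, rfl⟩
      haveI : Unique {y : T // (y : C) ^ r = x ^ r} :=
        { default := ⟨⟨x, hx⟩, rfl⟩, uniq := fun y => Subtype.ext (Subtype.ext (hinj y.2)) }
      simp only [Set.mem_ofPred_eq, Nat.card_unique, Nat.dvd_one]
      exact hr.one_lt.ne'
    · intro hz
      by_contra hno
      refine hz ?_
      haveI : IsEmpty {y : T // (y : C) ^ r = z} := ⟨fun y => hno ⟨y.1, y.1.2, y.2⟩⟩
      simp
  | mul a b iha ihb =>
    have ha : a ≠ 0 := fun h => hm0 (by simp [h])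
    have hb : b ≠ 0 := fun h => hm0 (by simp [h])
    have := ihb (iha hT (Nat.Coprime.coprime_mul_right hm) ha) (Nat.Coprime.coprime_mul_left hm) hb
    simpa [Set.image_image, ← pow_mul] using this

variable (hprim : IsPreprimitive G Ω)
include hprim

omit [Finite C] in
theorem rel_universal {r : C → C → Prop} (hr : Equivalence r)
    (hinv : ∀ (g : G) u v, r u v → r (act φ g u) (act φ g v)) {u v : C} (huv : r u v) (hne : u ≠ v) (x : C) :
    r u x := by
  haveI := hprim
  have hr' : Equivalence (fun a b : Ω => r (φ.symm a) (φ.symm b)) :=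
    ⟨fun _ => hr.refl _, fun h => hr.symm h, fun h h' => hr.trans h h'⟩
  have := Perm.equivalence_trivial hr' (fun g a b h => by simpa [act] using hinv g _ _ h)
    (a := φ u) (b := φ v) (by simpa using huv) (φ.injective.ne hne) (φ x)
  simpa using this

/-- An invariant set generating a proper subgroup is trivial. -/
theorem subset_one_of_le_subgroup {S : Set C} (hS : Inv G φ S) (R : Subgroup C) (hR : R ≠ ⊤) (hSR : S ⊆ R) :
    S ⊆ {1} := by
  intro z hz
  by_contra h1
  refine hR (eq_top_iff.mpr fun x _ => ?_)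
  have key : ∀ u v : C, Relation.EqvGen (fun u v => u⁻¹ * v ∈ S) u v → u⁻¹ * v ∈ R := by
    intro u v h
    induction h with
    | rel u v h => exact hSR h
    | refl u => simp
    | symm u v _ ih => simpa using R.inv_mem ih
    | trans u v w _ _ ih1 ih2 => simpa [mul_assoc] using R.mul_mem ih1 ih2
  have h := rel_universal t φ hφ hprim (Relation.EqvGen.is_equivalence _) (fun g u v h => by
      induction h with
      | rel u v h => exact .rel _ _ (hS.edge t φ hφ g u v h)
      | refl u => exact .refl _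
      | symm u v _ ih => exact .symm _ _ ih
      | trans u v w _ _ ih1 ih2 => exact .trans _ _ _ ih1 ih2)
    (u := 1) (v := z) (.rel _ _ (by simpa using hz)) (fun h => h1 h.symm) x
  simpa using key _ _ h

/-- A set stable under a non-trivial translation contains the identity. -/
theorem one_mem_of_periodic {T : Set C} (hT : Inv G φ T) (hne : T.Nonempty) {π : C} (hπ : π ≠ 1)
    (hper : ∀ x ∈ T, π * x ∈ T) : (1 : C) ∈ T := by
  obtain ⟨x, hx⟩ := hne
  have hper' : ∀ w : C, w ∈ T ↔ π⁻¹ * w ∈ T := fun w => by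
    refine ⟨fun hw => ?_, fun hw => by simpa using hper _ hw⟩
    have hpk : ∀ k : ℕ, π ^ k * w ∈ T := fun k => by
      induction k with
      | zero => simpa using hw
      | succ k ih => rw [pow_succ', mul_assoc]; exact hper _ ih
    have e : π⁻¹ = π ^ (orderOf π - 1) := by
      rw [inv_eq_iff_mul_eq_one, ← pow_succ', Nat.sub_add_cancel (orderOf_pos π), pow_orderOf_eq_one]
    rw [e]; exact hpk _
  have h := rel_universal t φ hφ hprim (r := fun u v => ∀ w, u⁻¹ * w ∈ T ↔ v⁻¹ * w ∈ T)
    ⟨fun _ _ => Iff.rfl, fun h w => (h w).symm, fun h h' w => (h w).trans (h' w)⟩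
    (fun g u v h w => by
      obtain ⟨w, rfl⟩ : ∃ w', act φ g w' = w := ⟨act φ g⁻¹ w, by simp [act]⟩
      rw [hT.edge_iff t φ hφ, hT.edge_iff t φ hφ]; exact h w)
    (u := 1) (v := π) (fun w => by simpa using hper' w) (fun h => hπ h.symm) x
  have := (h x).mp (by simpa using hx)
  simpa using this

end Schur

section Main

variable {G Ω C : Type*} [Group G] [MulAction G Ω] [CommGroup C] [Finite C] [IsCyclic C]
  (t : C →* G) (φ : C ≃ Ω) (hφ : ∀ c x : C, φ (c * x) = t c • φ x) (hprim : IsPreprimitive G Ω)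
include hφ hprim

/-- Each non-trivial orbit of the stabiliser meets the subgroup of order `r`, for `r` a prime
properly dividing the order. -/
theorem exists_mem_order {T : Set C} (hT : Inv G φ T) (hne : T.Nonempty) (h1 : (1 : C) ∉ T)
    {r : ℕ} (hr : r.Prime) (hrn : r ∣ Nat.card C) : ∃ x ∈ T, x ^ r = 1 := by
  classical
  by_contra hno
  push Not at hno
  haveI := Fact.mk hr
  obtain ⟨π, hπ⟩ := exists_prime_orderOf_dvd_card' r hrn
  have hπ1 : π ≠ 1 := fun h => by rw [h, orderOf_one] at hπ; exact hr.one_lt.ne hπ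
  have hfib : ∀ z : C, z ≠ 1 → r ∣ Nat.card {x : T // (x : C) ^ r = z} := by
    intro z hz
    by_contra h
    refine hz (subset_one_of_le_subgroup t φ hφ hprim (inv_power_set t φ hφ hT hr)
      (powMonoidHom (α := C) r).range ?_ ?_ h)
    · intro htop
      have hinj : Function.Injective (powMonoidHom (α := C) r) :=
        (Finite.injective_iff_surjective).mpr (MonoidHom.range_eq_top.mp htop)
      exact hπ1 (hinj (by simp [← hπ, pow_orderOf_eq_one]))
    · intro w hw
      by_contra hwr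
      refine hw ?_
      haveI : IsEmpty {x : T // (x : C) ^ r = w} := ⟨fun x => hwr ⟨x.1, x.2⟩⟩
      simp
  refine h1 (one_mem_of_periodic t φ hφ hprim hT hne hπ1 fun x hx => ?_)
  have hd := hfib (x ^ r) (hno x hx)
  haveI : Nonempty {y : T // (y : C) ^ r = x ^ r} := ⟨⟨⟨x, hx⟩, rfl⟩⟩
  have hle : r ≤ Nat.card {y : T // (y : C) ^ r = x ^ r} := Nat.le_of_dvd Nat.card_pos hd
  -- the fibre of the power map is the coset of the subgroup of order `r`
  have hker : Nat.card (powMonoidHom (α := C) r).ker = r := by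
    rw [IsCyclic.card_powMonoidHom_ker, Nat.gcd_eq_right hrn]
  let f : {y : T // (y : C) ^ r = x ^ r} → (powMonoidHom (α := C) r).ker := fun y =>
    ⟨(y.1 : C) * x⁻¹, by simp [mul_pow, y.2]⟩
  have hfinj : Function.Injective f := fun y y' h => by
    have := congrArg Subtype.val h
    exact Subtype.ext (Subtype.ext (mul_right_cancel this))
  have hfsurj : Function.Surjective f := by
    have : Nat.card (powMonoidHom (α := C) r).ker ≤ Nat.card {y : T // (y : C) ^ r = x ^ r} := by rw [hker]; exact hle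
    exact (hfinj.bijective_of_nat_card_le this).2
  obtain ⟨y, hy⟩ := hfsurj ⟨π, by simp [← hπ, pow_orderOf_eq_one]⟩
  have := congrArg Subtype.val hy
  simp only [f, mul_inv_eq_iff_eq_mul] at this
  rw [← this]; exact y.1.2

theorem two_transitive [IsPretransitive G Ω] (hnp : ¬ IsPrimePow (Nat.card C)) (h2 : 2 ≤ Nat.card C)
    {u v : C} (hu : u ≠ 1) (hv : v ≠ 1) : ∃ g : G, g • φ 1 = φ 1 ∧ g • φ u = φ v := by
  classical
  set n := Nat.card C with hn
  let T : C → Set C := fun w => {x | ∃ g : G, g • φ 1 = φ 1 ∧ g • φ w = φ x}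
  have hTinv : ∀ w, Inv G φ (T w) := by
    rintro w g hg x ⟨h, h1, h2⟩
    exact ⟨g * h, by rw [mul_smul, h1, hg], by simp [mul_smul, h2, act]⟩
  have hTself : ∀ w, w ∈ T w := fun w => ⟨1, by simp, by simp⟩
  have hTone : ∀ w : C, w ≠ 1 → (1 : C) ∉ T w := by
    rintro w hw ⟨g, hg1, hg2⟩
    exact hw (φ.injective (MulAction.injective g (hg2.trans hg1.symm)))
  have hTsub : ∀ (w : C) (S : Set C), Inv G φ S → ∀ x ∈ T w, x ∈ S → T w ⊆ S := by
    rintro w S hS x ⟨g, hg1, hg2⟩ hxS y ⟨h, h1, h2⟩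
    have := hS (h * g⁻¹) (by rw [mul_smul, inv_smul_eq_iff.mpr hg1.symm, h1]) x hxS
    simpa [act, mul_smul, ← hg2, h2] using this
  obtain ⟨p, hp, hpn⟩ := Nat.exists_prime_and_dvd (show n ≠ 1 by omega)
  obtain ⟨q, hq, hqn, hqp⟩ : ∃ q : ℕ, q.Prime ∧ q ∣ n ∧ q ≠ p := by
    by_contra h
    push Not at h
    refine hnp ⟨p, n.primeFactorsList.length, hp.prime, ?_,
      (Nat.eq_prime_pow_of_unique_prime_dvd (by omega) fun {d} hd hdn => h d hd hdn).symm⟩
    exact List.length_pos_of_mem ((Nat.mem_primeFactorsList (by omega)).mpr ⟨hp, hpn⟩)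
  -- multipliers fixing a point of a subgroup of prime order fix every orbit
  have hmult : ∀ w : C, w ≠ 1 → ∀ r : ℕ, r.Prime → r ∣ n → ∀ m : ℕ, m.Coprime n → m % r = 1 →
      ∀ x ∈ T w, x ^ m ∈ T w := by
    intro w hw r hr hrn m hm hmr
    obtain ⟨π, hπ, hπr⟩ := exists_mem_order t φ hφ hprim (hTinv w) ⟨w, hTself w⟩ (hTone w hw) hr hrn
    have hm0 : m ≠ 0 := fun h => by simp [h] at hmr
    have hπm : π ^ m = π := by rw [pow_eq_pow_mod m hπr, hmr, pow_one]
    have hsub := hTsub w _ (inv_image_pow t φ hφ (hTinv w) m hm hm0) π hπ ⟨π, hπ, hπm⟩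
    have heq : T w = (fun x => x ^ m) '' T w :=
      Set.eq_of_subset_of_ncard_le hsub (Set.ncard_image_le (Set.toFinite _))
    intro x hx
    rw [heq]; exact ⟨x, hx, rfl⟩
  set a := n.factorization p with ha
  have ha0 : a ≠ 0 := (hp.factorization_pos_of_dvd (by omega) hpn).ne'
  have hco : (p ^ a).Coprime (n / p ^ a) := Nat.Coprime.pow_left a (Nat.coprime_ordCompl hp (by omega))
  have hsplit : p ^ a * (n / p ^ a) = n := Nat.ordProj_mul_ordCompl_eq_self n p
  have hqn' : q ∣ n / p ^ a :=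
    ((Nat.coprime_primes hq hp).mpr hqp |>.pow_right a).dvd_of_dvd_mul_left (hsplit.symm ▸ hqn)
  have hpa : p ∣ p ^ a := dvd_pow_self p ha0
  have hcop : ∀ (x A B : ℕ), (p ^ a).Coprime A → (n / p ^ a).Coprime B → x ≡ A [MOD p ^ a] →
      x ≡ B [MOD n / p ^ a] → x.Coprime n := by
    intro x A B hA hB h1 h2
    rw [← hsplit]
    refine Nat.Coprime.mul_right ?_ ?_
    · rw [Nat.Coprime, h1.gcd_eq]; exact hA.symm
    · rw [Nat.Coprime, h2.gcd_eq]; exact hB.symm
  -- every orbit is rational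
  have hrat : ∀ w : C, w ≠ 1 → ∀ m : ℕ, m.Coprime n → ∀ x ∈ T w, x ^ m ∈ T w := by
    intro w hw m hm x hx
    have hmA : (p ^ a).Coprime m := (Nat.Coprime.coprime_dvd_right (Dvd.intro _ hsplit) hm).symm
    have hmB : (n / p ^ a).Coprime m := (Nat.Coprime.coprime_dvd_right (Dvd.intro_left _ hsplit) hm).symm
    obtain ⟨m₁, h11, h12⟩ := Nat.chineseRemainder hco 1 m
    obtain ⟨m₂, h21, h22⟩ := Nat.chineseRemainder hco m 1
    have hc1 := hcop m₁ 1 m (Nat.coprime_one_right _) hmB h11 h12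
    have hc2 := hcop m₂ m 1 hmA (Nat.coprime_one_right _) h21 h22
    have h1 : m₁ % p = 1 := (show m₁ % p = 1 % p from h11.of_dvd hpa).trans (Nat.mod_eq_of_lt hp.one_lt)
    have h2 : m₂ % q = 1 := (show m₂ % q = 1 % q from h22.of_dvd hqn').trans (Nat.mod_eq_of_lt hq.one_lt)
    have hmod : m₁ * m₂ ≡ m [MOD n] := by
      rw [← hsplit, ← Nat.modEq_and_modEq_iff_modEq_mul hco]
      exact ⟨by simpa using h11.mul h21, by simpa using h12.mul h22⟩
    have := hmult w hw q hq hqn m₂ hc2 h2 _ (hmult w hw p hp hpn m₁ hc1 h1 x hx)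
    rwa [← pow_mul, pow_eq_pow_mod (m₁ * m₂) (pow_card_eq_one' (x := x)), hmod, ← pow_eq_pow_mod m (pow_card_eq_one' (x := x))] at this
  obtain ⟨x, hx, hxp⟩ := exists_mem_order t φ hφ hprim (hTinv u) ⟨u, hTself u⟩ (hTone u hu) hp hpn
  obtain ⟨y, hy, hyp⟩ := exists_mem_order t φ hφ hprim (hTinv v) ⟨v, hTself v⟩ (hTone v hv) hp hpn
  have hx1 : x ≠ 1 := fun h => hTone u hu (h ▸ hx)
  have hy1 : y ≠ 1 := fun h => hTone v hv (h ▸ hy)
  haveI := Fact.mk hp
  have hox : orderOf x = p := orderOf_eq_prime hxp hx1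
  have heq : Subgroup.zpowers x = (powMonoidHom (α := C) p).ker := by
    refine Subgroup.eq_of_le_of_card_ge (Subgroup.zpowers_le.mpr hxp) ?_
    rw [IsCyclic.card_powMonoidHom_ker, Nat.gcd_eq_right hpn, Nat.card_zpowers, hox]
  obtain ⟨j, hj⟩ : ∃ j : ℕ, x ^ j = y := by
    have : y ∈ Subgroup.zpowers x := heq ▸ hyp
    exact (Submonoid.mem_powers_iff _ _).mp (mem_powers_iff_mem_zpowers.mpr this)
  have hjp : p.Coprime j := (hp.coprime_iff_not_dvd).mpr fun ⟨c, hc⟩ => hy1 (by
    rw [← hj, hc, pow_mul, hxp, one_pow])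
  obtain ⟨m, hm1, hm2⟩ := Nat.chineseRemainder hco j 1
  have hmn := hcop m j 1 (hjp.pow_left a) (Nat.coprime_one_right _) hm1 hm2
  have hxy : y ∈ T u := by
    have h := hrat u hu m hmn x hx
    rwa [pow_eq_pow_mod m hxp, hm1.of_dvd hpa, ← pow_eq_pow_mod j hxp, hj] at h
  exact hTsub v (T u) (hTinv u) y hy hxy (hTself v)

end Main


/-- Let G act faithfully and transitively on a finite set whose number of points n ≥ 2 is not a prime power, and suppose G has a cyclic subgroup acting regularly (transitively with trivial point stabilizers). Then G is imprimitive or doubly transitive. -/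
theorem result {G Ω : Type*} [Group G] [Finite G] [MulAction G Ω] [FaithfulSMul G Ω] [Finite Ω]
    (htrans : MulAction.IsPretransitive G Ω) (hn : 2 ≤ Nat.card Ω) (hnp : ¬ IsPrimePow (Nat.card Ω))
    (C : Subgroup G) (hcyc : IsCyclic ↥C) (hC : MulAction.IsPretransitive ↥C Ω ∧ ∀ a : Ω, MulAction.stabilizer ↥C a = ⊥) :
    ¬ MulAction.IsPreprimitive G Ω ∨ MulAction.IsMultiplyPretransitive G Ω 2 := by
  classical
  rw [or_iff_not_imp_left, not_not]
  intro hprim
  haveI := hprim
  haveI := htrans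
  haveI := hcyc
  letI : CommGroup C := IsCyclic.commGroup
  obtain ⟨a⟩ : Nonempty Ω := (Nat.card_pos_iff.mp (by omega)).1
  haveI := hC.1
  let φ : C ≃ Ω := Equiv.ofBijective _ (Perm.bijective_smul_of_regular (hC.2 a))
  have hφ : ∀ c x : C, φ (c * x) = C.subtype c • φ x := fun c x => by
    simp only [φ, Equiv.ofBijective_apply]; exact mul_smul c x a
  have hcard : Nat.card C = Nat.card Ω := Nat.card_congr φ
  rw [MulAction.is_two_pretransitive_iff]
  intro b c d e hbc hde
  have key : ∀ b c : Ω, b ≠ a → c ≠ a → ∃ g : G, g • a = a ∧ g • b = c := by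
    intro b c hb hc
    have h1 : φ 1 = a := by simp [φ]
    obtain ⟨g, hg, hg'⟩ := two_transitive C.subtype φ hφ hprim (hcard ▸ hnp) (hcard ▸ hn)
      (u := φ.symm b) (v := φ.symm c)
      (fun h => hb (by rw [← φ.apply_symm_apply b, h, h1])) (fun h => hc (by rw [← φ.apply_symm_apply c, h, h1]))
    exact ⟨g, by rwa [h1] at hg, by simpa using hg'⟩
  obtain ⟨g₁, hg₁⟩ := MulAction.exists_smul_eq G b a
  obtain ⟨g₂, hg₂⟩ := MulAction.exists_smul_eq G d a
  obtain ⟨g, hg, hg'⟩ := key (g₁ • c) (g₂ • e)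
    (fun h => hbc (MulAction.injective g₁ (hg₁.trans h.symm)))
    (fun h => hde (MulAction.injective g₂ (hg₂.trans h.symm)))
  refine ⟨g₂⁻¹ * g * g₁, ?_, ?_⟩
  · rw [mul_smul, mul_smul, hg₁, hg, inv_smul_eq_iff, hg₂]
  · rw [mul_smul, mul_smul, hg', inv_smul_smul]

end Cfsg.Agent.S3559
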