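import Cfsg.Statements.S3972
import Cfsg.Agent.Lib.BGroups.Cyclic
import Mathlib

set_option autoImplicit false
open Cfsg

namespace Cfsg.Agent.S3972

/-- Let `p` be a prime, `m ≥ 2`, and `G` a transitive but not doubly transitive permutation group on `p ^ m` points containing a permutation of order `p ^ m` (necessarily a full cycle). Then `G` is imprimitive, and the normal closure in `G` of the `p ^ (m - 1)`-th power of that permutation is an intransitive normal subgroup. -/
theorem result {Ω : Type*} [Fintype Ω] [DecidableEq Ω] (p m : ℕ) (hp : p.Prime) (hm : 2 ≤ m) (hΩ : Fintype.card Ω = p ^ m) (G : Subgroup (Equiv.Perm Ω)) (htr : MulAction.IsPretransitive G Ω) (h2 : ¬ MulAction.IsMultiplyPretransitive G Ω 2) (g : G) (hg : orderOf g = p ^ m) : ¬ MulAction.IsPreprimitive G Ω ∧ ¬ MulAction.IsPretransitive (Subgroup.normalClosure ({g ^ (p ^ (m - 1))} : Set G)) Ω := by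
  classical
  have hpf := Fact.mk hp
  have hn : NeZero (p ^ m) := ⟨pow_ne_zero _ hp.ne_zero⟩
  set z := g ^ (p ^ (m - 1)) with hz
  have hz1 : z ≠ 1 := fun h => by
    have := orderOf_dvd_of_pow_eq_one (hz.symm.trans h)
    rw [hg, Nat.pow_dvd_pow_iff_le_right hp.one_lt] at this
    omega
  obtain ⟨ω, hω⟩ : ∃ ω : Ω, z • ω ≠ ω := by
    by_contra hall
    push Not at hall
    exact hz1 (Subtype.ext (Equiv.ext hall))
  have hper : MulAction.period g ω = p ^ m := by
    have hd : MulAction.period g ω ∣ p ^ m := hg ▸ MulAction.period_dvd_orderOf g ω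
    obtain ⟨j, hj, hje⟩ := (Nat.dvd_prime_pow hp).1 hd
    rw [hje]
    congr 1
    by_contra hne
    refine hω (MulAction.pow_smul_eq_iff_period_dvd.2 ?_)
    rw [hje]
    exact pow_dvd_pow p (by omega)
  let f : ZMod (p ^ m) → Ω := fun i => g ^ i.val • ω
  have hfi : Function.Injective f := by
    intro a b hab
    have hab' : g ^ a.val • ω = g ^ b.val • ω := hab
    have key : ∀ x y : ℕ, x ≤ y → g ^ x • ω = g ^ y • ω → x ≡ y [MOD p ^ m] := by
      intro x y hxy h
      refine (Nat.modEq_iff_dvd' hxy).2 (hper ▸ MulAction.pow_smul_eq_iff_period_dvd.1 ?_)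
      have h1 : g ^ x • g ^ (y - x) • ω = g ^ x • ω := by
        rw [← mul_smul, ← pow_add, Nat.add_sub_cancel' hxy, h]
      exact smul_left_cancel _ h1
    have hmod : a.val ≡ b.val [MOD p ^ m] := by
      rcases le_total a.val b.val with hle | hle
      · exact key _ _ hle hab'
      · exact (key _ _ hle hab'.symm).symm
    exact ZMod.val_injective _ (hmod.eq_of_lt_of_lt (ZMod.val_lt a) (ZMod.val_lt b))
  have hfb : Function.Bijective f :=
    (Fintype.bijective_iff_injective_and_card f).2 ⟨hfi, by rw [ZMod.card, hΩ]⟩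
  let e : ZMod (p ^ m) ≃ Ω := Equiv.ofBijective f hfb
  let ι : ↥G →* Equiv.Perm (ZMod (p ^ m)) :=
    { toFun := fun σ => e.symm.permCongr (σ : Equiv.Perm Ω)
      map_one' := by ext x; simp [Equiv.permCongr_apply]
      map_mul' := fun σ τ => by ext x; simp [Equiv.permCongr_apply] }
  have hι : ∀ (σ : ↥G) (i : ZMod (p ^ m)), e (ι σ i) = σ • e i := fun σ i => by
    show e (e.symm.permCongr (σ : Equiv.Perm Ω) i) = _
    rw [Equiv.permCongr_apply, Equiv.symm_symm, Equiv.apply_symm_apply]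
    rfl
  have hrot : ∀ a : ZMod (p ^ m), ι (g ^ a.val) = Equiv.addRight a := fun a => Equiv.ext fun i => by
    refine e.injective ?_
    rw [hι]
    show g ^ a.val • g ^ i.val • ω = g ^ (i + a).val • ω
    rw [← mul_smul, ← pow_add, ← pow_mod_orderOf, hg, ZMod.val_add, add_comm]
  set H := ι.range
  have htr' : ∀ a, Equiv.addRight a ∈ H := fun a => ⟨_, hrot a⟩
  obtain ⟨u, v, hu, hv, huv⟩ : ∃ u v : ZMod (p ^ m), u ≠ 0 ∧ v ≠ 0 ∧ ∀ σ ∈ H, σ 0 = 0 → σ u ≠ v := by
    by_contra hall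
    push Not at hall
    refine h2 (MulAction.is_two_pretransitive_iff.2 fun {a b c d} hab hcd => ?_)
    obtain ⟨σ₁, hσ₁⟩ := MulAction.exists_smul_eq G a (e 0)
    obtain ⟨σ₂, hσ₂⟩ := MulAction.exists_smul_eq G c (e 0)
    have hu : e.symm (σ₁ • b) ≠ 0 := fun h => hab (by
      rw [Equiv.symm_apply_eq, ← hσ₁] at h
      exact (smul_left_cancel _ h).symm)
    have hv : e.symm (σ₂ • d) ≠ 0 := fun h => hcd (by
      rw [Equiv.symm_apply_eq, ← hσ₂] at h
      exact (smul_left_cancel _ h).symm)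
    obtain ⟨_, ⟨σ, rfl⟩, h0, huv⟩ := hall _ _ hu hv
    have e0 : σ • e 0 = e 0 := by rw [← hι, h0]
    have e1 : σ • σ₁ • b = σ₂ • d := by
      have := hι σ (e.symm (σ₁ • b))
      rwa [huv, Equiv.apply_symm_apply, Equiv.apply_symm_apply, eq_comm] at this
    refine ⟨σ₂⁻¹ * σ * σ₁, ?_, ?_⟩
    · rw [mul_smul, mul_smul, hσ₁, e0, ← hσ₂, inv_smul_smul]
    · rw [mul_smul, mul_smul, e1, inv_smul_smul]
  obtain ⟨D, hD0, hDtop, hDinv⟩ :=
    Agent.BGroups.CyclicB.exists_invariant_of_not_transitive rfl hm htr' hu hv huv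
  -- the kernel of the block system
  let K : Subgroup ↥G :=
    { carrier := {σ | ∀ x, ι σ x - x ∈ D}
      one_mem' := fun x => by simp
      mul_mem' := fun {a b} ha hb x => by
        have := add_mem (ha (ι b x)) (hb x)
        rwa [sub_add_sub_cancel, ← Equiv.Perm.mul_apply, ← map_mul] at this
      inv_mem' := fun {a} ha x => by
        have := neg_mem (ha (ι a⁻¹ x))
        rwa [← Equiv.Perm.mul_apply, ← map_mul, mul_inv_cancel, map_one, Equiv.Perm.one_apply, neg_sub] at this }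
  have hKn : K.Normal := ⟨fun σ hσ τ x => by
    have h1 := Agent.BGroups.CyclicB.inv_diff htr' (A := (D : Set (ZMod (p ^ m)))) hDinv (σ := ι τ) ⟨τ, rfl⟩
      (hσ (ι τ⁻¹ x))
    rwa [← Equiv.Perm.mul_apply, ← Equiv.Perm.mul_apply, ← Equiv.Perm.mul_apply, ← map_mul, ← map_mul, ← map_mul,
      mul_inv_cancel, map_one, Equiv.Perm.one_apply] at h1⟩
  have hzD : ((p ^ (m - 1) : ℕ) : ZMod (p ^ m)) ∈ D := by
    obtain ⟨⟨d, hd⟩, hd1⟩ := AddSubgroup.ne_bot_iff_exists_ne_zero.1 hD0
    have hd0 : d ≠ 0 := fun h => hd1 (Subtype.ext h)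
    have hdvd : Nat.gcd d.val (p ^ m) ∣ p ^ (m - 1) := by
      obtain ⟨j, hj, hje⟩ := (Nat.dvd_prime_pow hp).1 (Nat.gcd_dvd_right d.val (p ^ m))
      rw [hje]
      refine pow_dvd_pow p ?_
      by_contra hc
      refine hd0 ?_
      rw [← ZMod.natCast_zmod_val d, ZMod.natCast_eq_zero_iff]
      have := Nat.gcd_dvd_left d.val (p ^ m)
      rwa [hje, show j = m by omega] at this
    obtain ⟨c, hc⟩ := hdvd
    have hgcd : ((Nat.gcd d.val (p ^ m) : ℕ) : ZMod (p ^ m)) ∈ D := by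
      have hb : ((Nat.gcd d.val (p ^ m) : ℤ) : ZMod (p ^ m)) =
          (((d.val : ℤ) * Nat.gcdA d.val (p ^ m) + ((p ^ m : ℕ) : ℤ) * Nat.gcdB d.val (p ^ m) : ℤ) : ZMod (p ^ m)) := by
        rw [← Nat.gcd_eq_gcd_ab]
      rw [Int.cast_natCast] at hb
      rw [hb]
      push_cast
      rw [ZMod.natCast_zmod_val, ← Nat.cast_pow, ZMod.natCast_self, zero_mul, add_zero, mul_comm, ← zsmul_eq_mul]
      exact zsmul_mem hd _
    rw [hc, Nat.cast_mul, mul_comm, ← nsmul_eq_mul]
    exact nsmul_mem hgcd _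
  have hzK : z ∈ K := fun x => by
    have hlt : p ^ (m - 1) < p ^ m := Nat.pow_lt_pow_right hp.one_lt (by omega)
    have h := hrot ((p ^ (m - 1) : ℕ) : ZMod (p ^ m))
    rw [ZMod.val_natCast, Nat.mod_eq_of_lt hlt] at h
    rw [hz, h, Equiv.coe_addRight, add_sub_cancel_left]
    exact hzD
  have hint : ¬ MulAction.IsPretransitive (Subgroup.normalClosure ({z} : Set ↥G)) Ω := by
    intro hN
    obtain ⟨⟨σ, hσ⟩, hσe⟩ := MulAction.exists_smul_eq (Subgroup.normalClosure ({z} : Set ↥G)) (e 0) (e 1)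
    have hσK : σ ∈ K := Subgroup.normalClosure_le_normal (by simpa using hzK) hσ
    have h1 : ι σ 0 = 1 := e.injective (by rw [hι]; exact hσe)
    have h2 := hσK 0
    rw [h1, sub_zero] at h2
    refine hDtop ((AddSubgroup.eq_top_iff' D).2 fun x => ?_)
    rw [← mul_one x, ← ZMod.natCast_zmod_val x, ← nsmul_eq_mul]
    exact nsmul_mem h2 _
  refine ⟨fun hprim => hint ?_, hint⟩
  have hq := hprim.isQuasiPreprimitive
  refine hq.isPretransitive_of_normal fun hfix => hω ?_
  have hmem : ω ∈ MulAction.fixedPoints (Subgroup.normalClosure ({z} : Set ↥G)) Ω := hfix ▸ Set.mem_univ ω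
  exact hmem ⟨z, Subgroup.subset_normalClosure rfl⟩

end Cfsg.Agent.S3972
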