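import Cfsg.Statements.S4776
import Cfsg.Agent.Lib.RelDeg.Components

set_option autoImplicit false
open Cfsg

namespace Cfsg.Agent.S4776

/-- Let N be a normal subgroup of the finite group G that is not perfect and is contained in the derived subgroup of G. Consider the common-divisor graph on the relative degree set cd(G|N) (the degrees of the irreducible complex characters of G whose kernel does not contain N; two distinct degrees adjacent when they have a common divisor greater than one). Then this graph has at most two connected components; and if a, b ∈ cd(G|N) lie in different components, then one of a, b is coprime to the index m of the derived subgroup of N in N while the other is divisible by every prime divisor of m. -/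
theorem result {G : Type*} [Group G] [Finite G] (N : Subgroup G) [N.Normal] (hN : ⁅N, N⁆ < N) (hNG : N ≤ commutator G) : Nat.card (Cfsg.commonDivisorGraph.induce (Cfsg.relCharDegrees N)).ConnectedComponent ≤ 2 ∧ ∀ (a b : ℕ) (ha : a ∈ Cfsg.relCharDegrees N) (hb : b ∈ Cfsg.relCharDegrees N), ¬ (Cfsg.commonDivisorGraph.induce (Cfsg.relCharDegrees N)).Reachable ⟨a, ha⟩ ⟨b, hb⟩ → (Nat.Coprime a (⁅N, N⁆.relIndex N) ∧ ∀ r : ℕ, r.Prime → r ∣ ⁅N, N⁆.relIndex N → r ∣ b) ∨ (Nat.Coprime b (⁅N, N⁆.relIndex N) ∧ ∀ r : ℕ, r.Prime → r ∣ ⁅N, N⁆.relIndex N → r ∣ a) := by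
  classical
  haveI := Fintype.ofFinite G
  haveI := Fintype.ofFinite N
  have hidx : ⁅N, N⁆.relIndex N = (_root_.commutator N).index := by
    rw [Subgroup.relIndex, ← Subgroup.map_subtype_commutator]
    congr 1
    exact Subgroup.comap_map_eq_self_of_injective N.subtype_injective _
  have hm1 : (_root_.commutator N).index ≠ 1 := fun h =>
    hN.not_ge (Subgroup.relIndex_eq_one.1 (hidx.trans h))
  obtain ⟨r, hr, hrN⟩ := Nat.exists_prime_and_dvd hm1
  refine ⟨?_, fun a b ha hb hab => ?_⟩
  · let φ : (Cfsg.commonDivisorGraph.induce (Cfsg.relCharDegrees N)).ConnectedComponent → Bool :=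
      fun C => decide (r ∣ (C.out : ℕ))
    refine (Nat.card_le_card_of_injective φ fun C D h => ?_).trans (le_of_eq (by simp))
    rw [← C.out_eq, ← D.out_eq]
    refine SimpleGraph.ConnectedComponent.sound ?_
    have hiff : r ∣ (C.out : ℕ) ↔ r ∣ (D.out : ℕ) := decide_eq_decide.1 h
    by_cases h1 : r ∣ (C.out : ℕ)
    · exact (RelDeg.linked_dvd N hr C.out.2 D.out.2 h1 (hiff.1 h1)).2.2
    · exact (RelDeg.linked_both N hNG hr hrN C.out.2 D.out.2 h1 (fun e => h1 (hiff.2 e))).2.2
  · have hnot : ∀ q : ℕ, q.Prime → q ∣ (_root_.commutator N).index →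
        (q ∣ a ∧ ¬ q ∣ b) ∨ (¬ q ∣ a ∧ q ∣ b) := fun q hq hqN => by
      by_cases h1 : q ∣ a <;> by_cases h2 : q ∣ b
      · exact absurd (RelDeg.linked_dvd N hq ha hb h1 h2).2.2 hab
      · exact .inl ⟨h1, h2⟩
      · exact .inr ⟨h1, h2⟩
      · exact absurd (RelDeg.linked_both N hNG hq hqN ha hb h1 h2).2.2 hab
    have hcross : ∀ q t : ℕ, q.Prime → t.Prime → q ∣ (_root_.commutator N).index →
        t ∣ (_root_.commutator N).index → q ∣ a → t ∣ b → False := fun q t hq ht hqN htN hqa htb => by
      rcases hnot q hq hqN with ⟨-, hqb⟩ | ⟨hqa', -⟩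
      · rcases hnot t ht htN with ⟨-, htb'⟩ | ⟨hta, -⟩
        · exact htb' htb
        · exact hab (RelDeg.linked_cross N hNG hq ht hqN htN (fun e => hqb (e ▸ htb)) ha hb hqb
            hta).2.2
      · exact hqa' hqa
    rw [hidx]
    rcases hnot r hr hrN with ⟨hra, -⟩ | ⟨-, hrb⟩
    · refine .inr ⟨Nat.coprime_of_dvd fun q hq hqb hqN => hcross r q hr hq hrN hqN hra hqb,
        fun q hq hqN => ?_⟩
      rcases hnot q hq hqN with ⟨h, -⟩ | ⟨-, h⟩
      · exact h
      · exact absurd (hcross r q hr hq hrN hqN hra h) id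
    · refine .inl ⟨Nat.coprime_of_dvd fun q hq hqa hqN => hcross q r hq hr hqN hrN hqa hrb,
        fun q hq hqN => ?_⟩
      rcases hnot q hq hqN with ⟨h, -⟩ | ⟨-, h⟩
      · exact absurd (hcross q r hq hr hqN hrN h hrb) id
      · exact h

end Cfsg.Agent.S4776
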