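import Cfsg.Statements.S0107
import Cfsg.Agent.Lib.Transfer.Thompson
import Mathlib.GroupTheory.SpecificGroups.Dihedral

set_option autoImplicit false
open Cfsg

namespace Cfsg.Agent.S0107

/-- A finite group with no nontrivial 2-group quotient and dihedral Sylow 2-subgroups of order at least 8 has a single class of involutions. -/
theorem result {G : Type*} [Group G] [Finite G] (T : Sylow 2 G) (n : ℕ) (hn : 2 ≤ n) (hT : Nonempty ((T : Subgroup G) ≃* DihedralGroup (2 ^ n))) (hO : Cfsg.pResidual 2 G = ⊤) (x y : G) (hx : orderOf x = 2) (hy : orderOf y = 2) : ∃ g : G, g * x * g⁻¹ = y := by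
  obtain ⟨φ⟩ := hT
  haveI := Fact.mk Nat.prime_two
  set g0 : G := (φ.symm (DihedralGroup.r 1) : G) with hg0
  have hord : orderOf g0 = 2 ^ n := by
    rw [hg0, Subgroup.orderOf_coe, MulEquiv.orderOf_eq, DihedralGroup.orderOf_r_one]
  set Q := Subgroup.zpowers g0 with hQ
  have hQT : Q ≤ (T : Subgroup G) := Subgroup.zpowers_le.mpr (φ.symm _).2
  have hTc : Nat.card (T : Subgroup G) = 2 * 2 ^ n := by
    rw [Nat.card_congr φ.toEquiv, DihedralGroup.nat_card]
  have hrel : Q.relIndex (T : Subgroup G) = 2 := by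
    have := Subgroup.relIndex_mul_relIndex (⊥ : Subgroup G) Q (T : Subgroup G) bot_le hQT
    rw [Subgroup.relIndex_bot_left, Subgroup.relIndex_bot_left, hTc, hQ, Nat.card_zpowers, hord] at this
    exact Nat.eq_of_mul_eq_mul_left (by positivity) (this.trans (mul_comm _ _))
  set z := g0 ^ (2 ^ (n - 1)) with hz
  have huniq : ∀ w ∈ Q, orderOf w = 2 → w = z := by
    intro w hw hwo
    obtain ⟨k, rfl⟩ := Subgroup.mem_zpowers_iff.mp hw
    have h2 : g0 ^ (k * 2) = 1 := by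
      rw [zpow_mul, show (2 : ℤ) = ((2 : ℕ) : ℤ) from rfl, zpow_natCast, ← hwo, pow_orderOf_eq_one]
    rw [← orderOf_dvd_iff_zpow_eq_one, hord] at h2
    have hn1 : (2 : ℤ) ^ n = 2 ^ (n - 1) * 2 := by
      rw [← pow_succ, Nat.sub_add_cancel (by omega : 1 ≤ n)]
    push_cast at h2
    rw [hn1] at h2
    obtain ⟨q, hq⟩ := (mul_dvd_mul_iff_right (show (2 : ℤ) ≠ 0 by norm_num)).mp h2
    have hz2 : z ^ (2 : ℤ) = 1 := by
      rw [show (2 : ℤ) = ((2 : ℕ) : ℤ) from rfl, zpow_natCast, hz, ← pow_mul, ← pow_succ,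
        Nat.sub_add_cancel (by omega : 1 ≤ n), ← hord, pow_orderOf_eq_one]
    have hk : g0 ^ k = z ^ q := by
      rw [hq, zpow_mul, show ((2 : ℤ) ^ (n - 1)) = ((2 ^ (n - 1) : ℕ) : ℤ) by push_cast; rfl, zpow_natCast]
    rw [hk] at hwo ⊢
    rcases Int.even_or_odd q with ⟨r, hr⟩ | ⟨r, hr⟩
    · rw [hr, ← two_mul, zpow_mul, hz2, one_zpow, orderOf_one] at hwo
      omega
    · rw [hr, zpow_add, zpow_mul, hz2, one_zpow, one_mul, zpow_one]
  have key : ∀ w : G, orderOf w = 2 → ∃ g : G, g * w * g⁻¹ = z := by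
    intro w hw
    obtain ⟨R, hR⟩ := (IsPGroup.of_card (n := 1) (by rw [Nat.card_zpowers, hw, pow_one])
      : IsPGroup 2 (Subgroup.zpowers w)).exists_le_sylow
    obtain ⟨v, hv⟩ := MulAction.exists_smul_eq G R T
    have hwT : v * w * v⁻¹ ∈ (T : Subgroup G) := by
      rw [← hv, Sylow.coe_subgroup_smul]
      exact ⟨w, hR (Subgroup.mem_zpowers w), rfl⟩
    have hw' : orderOf (v * w * v⁻¹) = 2 := ((MulAut.conj v).orderOf_eq w).trans hw
    obtain ⟨g, hg⟩ := Transfer.exists_conj_mem_of_pResidual_eq_top T Q hQT hrel hO (v * w * v⁻¹)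
      (by rw [← hw']; exact pow_orderOf_eq_one _) hwT
    refine ⟨g * v, ?_⟩
    rw [← huniq _ hg (((MulAut.conj g).orderOf_eq _).trans hw')]
    group
  obtain ⟨a, ha⟩ := key x hx
  obtain ⟨b, hb⟩ := key y hy
  refine ⟨b⁻¹ * a, ?_⟩
  rw [show b⁻¹ * a * x * (b⁻¹ * a)⁻¹ = b⁻¹ * (a * x * a⁻¹) * b by group, ha, ← hb]
  group

end Cfsg.Agent.S0107
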