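import Cfsg.Statements.S2037
import Cfsg.Agent.Lib.Mathieu.MultData
import Cfsg.Agent.Lib.Schur.FpfSplit
import Cfsg.Agent.Lib.Schur.SylowLocal

/-!
The Schur multiplier of M₂₃ is trivial.  For 2: inside the heptad stabiliser `2⁴:A₇`, of odd index,
the extension splits over a Sylow subgroup, since all involutions are conjugate and the normaliser of
a fixed-point-free element of order 3 preserves a complement.  For 3: the normaliser of a Sylow
subgroup has determinant −1.  The remaining primes divide the order once.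
-/

set_option autoImplicit false
set_option maxRecDepth 20000
set_option linter.style.haveILetI false
open Cfsg

namespace Cfsg.Agent.S2037

open Cfsg.Agent.Mathieu Cfsg.Agent.Schur

/-- The packed permutation lies in M₂₃. -/
def in23 (l : ℕ) : Bool := permOK 24 l && presCode l && (app l 23 == 23)

theorem mem23 {l : ℕ} (h : in23 l = true) : ∃ g : Spor.M23, Rep ptEnc (g : Equiv.Perm GolayPt) l := by
  simp only [in23, Bool.and_eq_true, beq_iff_eq] at h
  obtain ⟨σ, hr⟩ := exists_rep (e := ptEnc) h.1.1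
  have h0 := hr.apply_idx (show 23 < 24 by norm_num)
  rw [h.2, idx_none] at h0
  exact ⟨⟨σ, mem_M23_iff.2 ⟨mem_M24_of_rep hr h.1.2, h0⟩⟩, hr⟩

theorem mem_fpfE : ∀ l ∈ fpfE, ∃ σ ∈ Spor.M23, Rep ptEnc σ l := fun l hl =>
  let ⟨g, hg⟩ := mem23 (l := l) (by revert l; decide +kernel)
  ⟨g, g.2, hg⟩

abbrev E : Subgroup Spor.M23 := packSub Spor.M23 ptEnc fpfE mem_fpfE (by decide +kernel)

def list3 : List ℕ :=
  (List.range 3).flatMap fun i =>
    (List.range 3).map fun j => packMulS 24 (packPowS 24 m23A i) (packPowS 24 m23Q j)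

theorem mem_list3 : ∀ l ∈ list3, ∃ σ ∈ Spor.M23, Rep ptEnc σ l := fun l hl =>
  let ⟨g, hg⟩ := mem23 (l := l) (by revert l; decide +kernel)
  ⟨g, g.2, hg⟩

abbrev Q3 : Subgroup Spor.M23 := packSub Spor.M23 ptEnc list3 mem_list3 (by decide +kernel)

/-- `σ τ = τ' σ'`, checked on packed forms. -/
theorem mul_eq_of_check {g g' k k' : Spor.M23} {a b c d : ℕ}
    (hg : Rep ptEnc (g : Equiv.Perm GolayPt) a) (hg' : Rep ptEnc (g' : Equiv.Perm GolayPt) b)
    (hk : Rep ptEnc (k : Equiv.Perm GolayPt) c) (hk' : Rep ptEnc (k' : Equiv.Perm GolayPt) d)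
    (h : samePack 24 (packMulS 24 a b) (packMulS 24 c d) = true) : g * g' = k * k' := by
  rw [packMulS_eq, packMulS_eq] at h
  exact Subtype.ext (((rep_packMul hg hg').of_same h).unique (rep_packMul hk hk'))

theorem rep_pow {g : Spor.M23} {a : ℕ} (hg : Rep ptEnc (g : Equiv.Perm GolayPt) a) (i : ℕ) :
    Rep ptEnc ((g ^ i : Spor.M23) : Equiv.Perm GolayPt) (packPowS 24 a i) := by
  rw [packPowS_eq, Subgroup.coe_pow]; exact rep_packPow (by norm_num) hg i

theorem rep_mul {g g' : Spor.M23} {a b : ℕ} (hg : Rep ptEnc (g : Equiv.Perm GolayPt) a)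
    (hg' : Rep ptEnc (g' : Equiv.Perm GolayPt) b) :
    Rep ptEnc ((g * g' : Spor.M23) : Equiv.Perm GolayPt) (packMulS 24 a b) := by
  rw [packMulS_eq]; exact rep_packMul hg hg'

theorem conj_mem_E {g : Spor.M23} {l : ℕ} (hg : Rep ptEnc (g : Equiv.Perm GolayPt) l)
    (h : (fpfE.all fun x => fpfE.any fun y =>
      samePack 24 (packMulS 24 l x) (packMulS 24 y l)) = true) :
    ∀ x ∈ E, g * x * g⁻¹ ∈ E := by
  rintro x ⟨lx, hlx, hrx⟩
  simp only [List.all_eq_true, List.any_eq_true] at h
  obtain ⟨ly, hly, hs⟩ := h lx hlx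
  obtain ⟨σy, hσy, hry⟩ := mem_fpfE ly hly
  have hyE : (⟨σy, hσy⟩ : Spor.M23) ∈ E := ⟨ly, hly, hry⟩
  rwa [mul_inv_eq_iff_eq_mul.2 (mul_eq_of_check hg hrx (k := ⟨σy, hσy⟩) hry hg hs)]

theorem fpf_data : ∃ e a b s : Spor.M23, FpfDihedral E e a b s := by
  obtain ⟨e, he⟩ := mem23 (l := fpfX0) (by decide +kernel)
  obtain ⟨y, hy⟩ := mem23 (l := fpfX1) (by decide +kernel)
  obtain ⟨w, hw⟩ := mem23 (l := fpfX2) (by decide +kernel)
  obtain ⟨a, ha⟩ := mem23 (l := fpfA) (by decide +kernel)
  obtain ⟨b, hb⟩ := mem23 (l := fpfB) (by decide +kernel)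
  obtain ⟨s, hs⟩ := mem23 (l := fpfS) (by decide +kernel)
  have hone : Rep ptEnc ((1 : Spor.M23) : Equiv.Perm GolayPt) (packId 24) := rep_packId (by norm_num)
  have hne : ∀ {g g' : Spor.M23} {l l' : ℕ}, Rep ptEnc (g : Equiv.Perm GolayPt) l →
      Rep ptEnc (g' : Equiv.Perm GolayPt) l' → samePack 24 l l' = false → g ≠ g' := by
    intro g g' l l' hg hg' h e'
    rw [hg.same (e' ▸ hg')] at h
    simp at h
  have hconj : ∀ {x : Spor.M23} {l : ℕ}, Rep ptEnc (x : Equiv.Perm GolayPt) l →
      (fpfConj.any fun p => in23 p.1 && samePack 24 p.2 l &&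
        samePack 24 (packMulS 24 p.1 fpfX0) (packMulS 24 p.2 p.1)) = true → IsConj e x := by
    intro x l hx h
    simp only [List.any_eq_true, Bool.and_eq_true] at h
    obtain ⟨p, -, ⟨hp1, hp2⟩, hp3⟩ := h
    obtain ⟨g, hg⟩ := mem23 hp1
    have hx' : Rep ptEnc (x : Equiv.Perm GolayPt) p.2 := hx.of_same (by
      simp only [samePack, force_eq, List.all_eq_true, beq_iff_eq] at hp2 ⊢
      exact fun i hi => (hp2 i hi).symm)
    exact isConj_iff.2 ⟨g, mul_inv_eq_iff_eq_mul.2 (mul_eq_of_check hg he hx' hg hp3)⟩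
  refine ⟨e, a, b, s, ?_, ?_, ?_, ?_, conj_mem_E hs (by decide +kernel), ?_,
    conj_mem_E ha (by decide +kernel), conj_mem_E hb (by decide +kernel), ?_, ?_,
    hconj hb (by decide +kernel), hconj (rep_mul hb ha) (by decide +kernel),
    hconj (rep_mul ha ha) (by decide +kernel), ?_⟩
  · rintro x ⟨l, hl, hr⟩ hx1
    have hc : (fpfE.all fun l => isIdS 24 l || fpfConj.any fun p => in23 p.1 && samePack 24 p.2 l &&
        samePack 24 (packMulS 24 p.1 fpfX0) (packMulS 24 p.2 p.1)) = true := by decide +kernel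
    have h := List.all_eq_true.1 hc l hl
    rw [Bool.or_eq_true] at h
    rcases h with h | h
    · rw [isIdS, force_eq] at h
      exact absurd (Subtype.ext (hr.eq_one h)) hx1
    · exact hconj hr h
  · rintro x ⟨l, hl, hr⟩
    have hc : (fpfE.all fun l => isIdS 24 (packMulS 24 l l)) = true := by decide +kernel
    have h := List.all_eq_true.1 hc l hl
    rw [isIdS, force_eq] at h
    exact Subtype.ext ((rep_mul hr hr).eq_one h)
  · have hin : ∀ {g : Spor.M23} {l : ℕ}, Rep ptEnc (g : Equiv.Perm GolayPt) l →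
        (fpfE.any fun m => samePack 24 l m) = true → g ∈ E := by
      intro g l hg h
      simp only [List.any_eq_true] at h
      obtain ⟨m, hm, hs⟩ := h
      exact ⟨m, hm, hg.of_same hs⟩
    exact ⟨e, hin he (by decide +kernel), y, hin hy (by decide +kernel), w, hin hw (by decide +kernel),
      hne he hone (by decide +kernel), hne hy hone (by decide +kernel), hne hw hone (by decide +kernel),
      hne he hy (by decide +kernel), hne he hw (by decide +kernel), hne hy hw (by decide +kernel),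
      hne he (rep_mul hy hw) (by decide +kernel)⟩
  · exact Subtype.ext ((rep_mul he he).eq_one (by decide +kernel))
  · rintro x ⟨l, hl, hr⟩ hx
    have hc : (fpfE.all fun l => isIdS 24 l ||
        !samePack 24 (packMulS 24 fpfS l) (packMulS 24 l fpfS)) = true := by decide +kernel
    have h := List.all_eq_true.1 hc l hl
    rw [Bool.or_eq_true] at h
    rcases h with h | h
    · rw [isIdS, force_eq] at h; exact Subtype.ext (hr.eq_one h)
    · rw [(rep_mul hs hr).same (hx ▸ rep_mul hr hs)] at h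
      simp at h
  · have hs3 : s ^ 3 = 1 := Subtype.ext ((rep_pow hs 3).eq_one (by decide +kernel))
    have hsi : s⁻¹ = s ^ 2 := inv_eq_of_mul_eq_one_right (by rw [← pow_succ']; exact hs3)
    right
    rw [hsi, mul_inv_eq_iff_eq_mul]
    exact mul_eq_of_check ha hs (rep_pow hs 2) ha (by decide +kernel)
  · have hs3 : s ^ 3 = 1 := Subtype.ext ((rep_pow hs 3).eq_one (by decide +kernel))
    have hsi : s⁻¹ = s ^ 2 := inv_eq_of_mul_eq_one_right (by rw [← pow_succ']; exact hs3)
    right
    rw [hsi, mul_inv_eq_iff_eq_mul]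
    exact mul_eq_of_check hb hs (rep_pow hs 2) hb (by decide +kernel)
  · intro i hi j hj hmem
    obtain ⟨l, hl, hr⟩ := hmem
    have hsame := (rep_mul (rep_pow ha i) (rep_pow hb j)).same hr
    have hc : ∀ i < 4, ∀ j < 2, (fpfE.any fun l => samePack 24
        (packMulS 24 (packPowS 24 fpfA i) (packPowS 24 fpfB j)) l) = true → i = 0 ∧ j = 0 := by
      decide +kernel
    exact hc i hi j hj (List.any_eq_true.2 ⟨l, hl, hsame⟩)

theorem local_three {Γ : Type} [Group Γ] [Finite Γ] (σ : Γ →* Spor.M23)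
    (hσ : Function.Surjective σ) (hz : σ.ker ≤ Subgroup.center Γ) :
    ∃ P : Sylow 3 Γ, ⁅(P : Subgroup Γ), (P : Subgroup Γ)⁆ ⊓ σ.ker = ⊥ := by
  haveI := Fact.mk Nat.prime_three
  have hcard : Nat.card Q3 = 3 ^ (Nat.card Spor.M23).factorization 3 := by
    rw [card_packSub (by decide +kernel), card_M23]
    have h : (10200960 : ℕ).factorization 3 = 2 := by
      rw [show (10200960 : ℕ) = 3 ^ 2 * 1133440 by norm_num,
        Nat.factorization_mul (by norm_num) (by norm_num),
        Nat.Prime.factorization_pow Nat.prime_three, Finsupp.add_apply,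
        Nat.factorization_eq_zero_of_not_dvd (show ¬ 3 ∣ 1133440 by norm_num)]
      simp
    rw [h]; rfl
  obtain ⟨P, hP⟩ := exists_sylow_map_eq σ hσ (Sylow.ofCard Q3 hcard)
  replace hP : (P : Subgroup Γ).map σ = Q3 := hP
  obtain ⟨a₀, hra⟩ := mem23 (l := m23A) (by decide +kernel)
  obtain ⟨b₀, hrb⟩ := mem23 (l := m23Q) (by decide +kernel)
  obtain ⟨g₀, hrg⟩ := mem23 (l := m23G) (by decide +kernel)
  obtain ⟨a, ha⟩ := hσ a₀
  obtain ⟨b, hb⟩ := hσ b₀
  obtain ⟨g, hg⟩ := hσ g₀
  have hb3 : b₀ ^ 3 = 1 := Subtype.ext ((rep_pow hrb 3).eq_one (by decide +kernel))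
  refine ⟨P, ?_⟩
  rw [commutator_eq_bot_of_inverted σ hz P (a := a) (b := b) (g := g) (n := 3) (by decide)
    (by rw [hb, hb3]) ?_ ?_ ?_ ?_, bot_inf_eq]
  · rw [ha, hb]; exact mul_eq_of_check hra hrb hrb hra (by decide +kernel)
  · rw [ha, hg]; exact mul_eq_of_check hrg hra hra hrg (by decide +kernel)
  · rw [hb, hg, inv_eq_of_mul_eq_one_right (b := b₀ ^ 2) (by rw [← pow_succ']; exact hb3)]
    exact mul_eq_of_check hrg hrb (rep_pow hrb 2) hrg (by decide +kernel)
  · rw [hP, ha, hb]
    rintro x ⟨l, hl, hr⟩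
    simp only [list3, List.mem_flatMap, List.mem_map, List.mem_range] at hl
    obtain ⟨i, -, j, -, rfl⟩ := hl
    rw [show x = a₀ ^ i * b₀ ^ j from
      Subtype.ext (hr.unique (rep_mul (rep_pow hra i) (rep_pow hrb j)))]
    exact Subgroup.mul_mem _ (Subgroup.pow_mem _ (Subgroup.subset_closure (by simp)) _)
      (Subgroup.pow_mem _ (Subgroup.subset_closure (by simp)) _)

/-- The Schur multiplier of the Mathieu group M₂₃ (the stabiliser of a point in the automorphism group of the length-24 binary code) is trivial; here the Schur multiplier is described through stem extensions, as in the definitions: surjective homomorphisms onto the group from a finite group, whose kernel is central in that finite group and contained in that finite group's commutator subgroup. -/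
theorem result : Cfsg.HasCyclicSchurMultiplier ↥Cfsg.Spor.M23 1 := by
  refine hasCyclicSchurMultiplier_one_of_exponent fun p hp Γ _ _ σ hσ hexp => ?_
  haveI := Fact.mk hp
  by_cases h2 : p = 2
  · subst h2
    obtain ⟨e, a, b, s, h⟩ := fpf_data
    refine ker_eq_bot_of_fpf σ hσ hexp h fun m hm => ?_
    rw [card_packSub (by decide +kernel), card_M23, show fpfE.length = 16 from rfl] at hm
    omega
  by_cases h3 : p = 3
  · subst h3
    obtain ⟨P, hP⟩ := local_three σ hσ.1 hσ.2.1
    exact ker_eq_bot_of_local σ hσ.2.1 hσ.2.2 hp hexp _ P.not_dvd_index hP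
  have hsq : ¬ p ^ 2 ∣ Nat.card Spor.M23 := by
    intro hd
    rw [card_M23] at hd
    have h1 : p ^ 2 ∣ 2 ^ 7 * (3 ^ 2 * 8855) := by norm_num; exact hd
    have hd5 : p ^ 2 ∣ 8855 :=
      (Nat.Coprime.pow _ _ ((Nat.coprime_primes hp Nat.prime_three).2 h3)).dvd_of_dvd_mul_left
        ((Nat.Coprime.pow _ _ ((Nat.coprime_primes hp Nat.prime_two).2 h2)).dvd_of_dvd_mul_left h1)
    have hle : p * p ≤ 8855 := by rw [← sq]; exact Nat.le_of_dvd (by norm_num) hd5
    have hp' : p ≤ 94 := by nlinarith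
    interval_cases p <;> first | omega | norm_num at hd5 hp
  obtain ⟨P, hP⟩ := local_of_not_sq_dvd σ hσ.1 hσ.2.1 hp hsq
  exact ker_eq_bot_of_local σ hσ.2.1 hσ.2.2 hp hexp _ P.not_dvd_index hP

end Cfsg.Agent.S2037
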