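import Cfsg.Statements.S2038
import Cfsg.Agent.S2037
import Cfsg.Agent.Lib.Mathieu.Simple
import Cfsg.Agent.Lib.Schur.PointStabiliser

/-!
The Schur multiplier of M₂₄ is trivial: its point stabiliser M₂₃ has trivial multiplier and the
two-point stabiliser M₂₂ is perfect, so `M23 ∪ M23 t M23` lifts into every stem extension.
-/

set_option autoImplicit false
set_option maxRecDepth 20000
open Cfsg

namespace Cfsg.Agent.S2038

open Cfsg.Agent.Mathieu Cfsg.Agent.Schur
open scoped commutatorElement

theorem commutator_eq_top_of_simple {G : Type*} [Group G] [Finite G] [IsSimpleGroup G]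
    (h : ¬ (Nat.card G).Prime) : _root_.commutator G = ⊤ := by
  rcases (Subgroup.Normal.eq_bot_or_eq_top (H := _root_.commutator G) inferInstance) with h0 | h0
  · refine absurd ?_ h
    let : CommGroup G := { (inferInstance : Group G) with
      mul_comm := fun a b => commutatorElement_eq_one_iff_mul_comm.1 (Subgroup.mem_bot.1
        (h0 ▸ Subgroup.commutator_mem_commutator (Subgroup.mem_top a) (Subgroup.mem_top b))) }
    exact IsSimpleGroup.prime_card
  · exact h0

theorem mult_of_equiv {A B : Type} [Group A] [Finite A] [Group B] [Finite B] (e : A ≃* B)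
    (hB : Cfsg.HasCyclicSchurMultiplier B 1) : Cfsg.HasCyclicSchurMultiplier A 1 := by
  refine hasCyclicSchurMultiplier_one fun Γ _ _ σ hσ => ?_
  have hker : (e.toMonoidHom.comp σ).ker = σ.ker := by ext x; simp
  have h := ker_inf_commutator_eq_bot hB (e.toMonoidHom.comp σ) (e.surjective.comp hσ.1)
    (hker.symm ▸ hσ.2.1)
  rwa [hker, inf_eq_left.2 hσ.2.2] at h

theorem mem24 {l : ℕ} (h : (permOK 24 l && presCode l) = true) :
    ∃ g : M24, Rep ptEnc (g : Equiv.Perm GolayPt) l := by
  rw [Bool.and_eq_true] at h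
  obtain ⟨σ, hr⟩ := exists_rep (e := ptEnc) h.1
  exact ⟨⟨σ, mem_M24_of_rep hr h.2⟩, hr⟩

theorem smul_idx {g : M24} {l i : ℕ} (h : Rep ptEnc (g : Equiv.Perm GolayPt) l) (hi : i < 24) :
    g • idx ptEnc i = idx ptEnc (app l i) := h.apply_idx hi

theorem idx_ne {i j : ℕ} (hi : i < 24) (hj : j < 24) (h : i ≠ j) :
    idx ptEnc i ≠ idx ptEnc j := fun e => h (by rw [← idx_val (e := ptEnc) hi, e, idx_val hj])

/-- The Schur multiplier of the Mathieu group M₂₄ (the automorphism group of the length-24 binary code) is trivial; here the Schur multiplier is described through stem extensions, as in the definitions: surjective homomorphisms onto the group from a finite group, whose kernel is central in that finite group and contained in that finite group's commutator subgroup. -/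
theorem result : Cfsg.HasCyclicSchurMultiplier ↥Cfsg.M24 1 := by
  obtain ⟨e⟩ := stab_point_equiv (none : GolayPt)
  obtain ⟨t, ht⟩ := mem24 (l := m24T) (by decide +kernel)
  obtain ⟨h, hh⟩ := mem24 (l := m24H) (by decide +kernel)
  obtain ⟨u, hu⟩ := mem24 (l := m24U) (by decide +kernel)
  obtain ⟨g, hg⟩ := mem24 (l := m24G) (by decide +kernel)
  have hn : (24 : ℕ) ≤ 256 := by norm_num
  have h23 : (23 : ℕ) < 24 := by norm_num
  have htr : StabTransitive M24 (none : GolayPt) := by
    refine ⟨fun x y hx hy => ?_, fun x y z hx hy hyx hz hzx => ?_⟩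
    · obtain ⟨k, hk, hk1, hk2⟩ := M24_exists_map_pair (p := (none : GolayPt)) (q := x)
        (p' := (none : GolayPt)) (q' := y) hx.symm hy.symm
      exact ⟨⟨k, hk⟩, hk1, hk2⟩
    · obtain ⟨k, hk, hk'⟩ := M24_exists_map (k := 3) (by norm_num)
        ⟨![none, x, y], by
          intro i j; fin_cases i <;> fin_cases j <;>
            simp [hx, hy, hyx, hx.symm, hy.symm, hyx.symm]⟩
        ⟨![none, x, z], by
          intro i j; fin_cases i <;> fin_cases j <;>
            simp [hx, hz, hzx, hx.symm, hz.symm, hzx.symm]⟩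
      exact ⟨⟨k, hk⟩, hk' 0, hk' 1, hk' 2⟩
  have hmove : ∀ {k : M24} {l : ℕ}, Rep ptEnc (k : Equiv.Perm GolayPt) l → app l 23 ≠ 23 →
      k • (none : GolayPt) ≠ none := by
    intro k l hk hne
    rw [← idx_none, smul_idx hk h23]
    exact idx_ne (hk.app_lt h23) h23 hne
  have hfix : ∀ {k : M24} {l : ℕ}, Rep ptEnc (k : Equiv.Perm GolayPt) l → app l 23 = 23 →
      k ∈ MulAction.stabilizer M24 (none : GolayPt) := by
    intro k l hk he
    rw [MulAction.mem_stabilizer_iff, ← idx_none, smul_idx hk h23, he]
  have hh1 := hfix hh (by decide +kernel)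
  have hg1 := hfix hg (by decide +kernel)
  have hone : ∀ {k : M24} {l : ℕ}, Rep ptEnc (k : Equiv.Perm GolayPt) l → isId 24 l = true →
      k = 1 := fun hk he => Subtype.ext (hk.eq_one he)
  refine hasCyclicSchurMultiplier_one_of_stabiliser (none : GolayPt) htr
    (mult_of_equiv e Cfsg.Agent.S2037.result) ?_ (fun x hx => ?_) (t := t) (h := h)
    (hmove ht (by decide +kernel)) ?_ hh1 ?_
    (t' := u) (g := g) (hmove hu (by decide +kernel)) ?_ hg1 ?_ ?_ ?_
  · have := isSimple_M23
    have := MulEquiv.isSimpleGroup e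
    refine commutator_eq_top_of_simple ?_
    rw [Nat.card_congr e.toEquiv, card_M23]; norm_num
  · obtain ⟨e2⟩ := stab_pair_equiv (p := (none : GolayPt)) (q := x) hx.symm
    have := isSimple_M22
    have := MulEquiv.isSimpleGroup e2
    refine commutator_eq_top_of_simple ?_
    rw [Nat.card_congr e2.toEquiv, card_M22]; norm_num
  · exact hone (rep_packPow hn ht 3) (by decide +kernel)
  · have ht3 : t ^ 3 = 1 := hone (rep_packPow hn ht 3) (by decide +kernel)
    rw [mul_inv_eq_iff_eq_mul,
      inv_eq_of_mul_eq_one_right (b := t ^ 2) (by rw [← pow_succ']; exact ht3)]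
    exact Subtype.ext (((rep_packMul hh ht).of_same
      (b := packMul 24 (packPow 24 m24T 2) m24H) (by decide +kernel)).unique
        (rep_packMul (rep_packPow hn ht 2) hh))
  · exact hone (rep_packMul hu hu) (by decide +kernel)
  · exact hone (rep_packMul hg hg) (by decide +kernel)
  · exact hone (rep_packPow hn (rep_packMul hu hg) 3) (by decide +kernel)
  · rw [← idx_none, smul_idx hu h23, smul_idx hg (hu.app_lt h23)]
    exact idx_ne (hg.app_lt (hu.app_lt h23)) (hu.app_lt h23) (by decide +kernel)

end Cfsg.Agent.S2038
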