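import Cfsg.Statements.S3341
import Cfsg.Agent.Lib.Exceptional.SelfNine.Order360
import Cfsg.Agent.Lib.SmallSimple.Order360

set_option autoImplicit false
open Cfsg

namespace Cfsg.Agent.S3341

open Cfsg.Agent.Exceptional.SelfNine

/-- The conjugates of an element of `S` under the normaliser form an orbit of size `|N| / 9`. -/
theorem orbit_card {G : Type*} [Group G] [Finite G] {S : Sylow 3 G} (h : Setup S) {a : G}
    (ha : a ∈ (S : Subgroup G)) (ha1 : a ≠ 1) :
    Set.ncard {b : G | ∃ n ∈ Subgroup.normalizer ((S : Subgroup G) : Set G), n * a * n⁻¹ = b} * 9 =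
      Nat.card (Subgroup.normalizer ((S : Subgroup G) : Set G)) := by
  set N := Subgroup.normalizer ((S : Subgroup G) : Set G) with hN
  have hb : ∀ n m : N, (n : G) * a * (n : G)⁻¹ = (m : G) * a * (m : G)⁻¹ ↔
      n⁻¹ * m ∈ (S : Subgroup G).subgroupOf N := by
    intro n m
    rw [Subgroup.mem_subgroupOf, Subgroup.coe_mul, Subgroup.coe_inv]
    refine ⟨fun he => h.mem_of_commute ha ha1 ?_, fun hm => ?_⟩
    · calc (n : G)⁻¹ * m * a = (n : G)⁻¹ * ((m : G) * a * (m : G)⁻¹) * m := by group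
        _ = (n : G)⁻¹ * ((n : G) * a * (n : G)⁻¹) * m := by rw [he]
        _ = a * ((n : G)⁻¹ * m) := by group
    · calc (n : G) * a * (n : G)⁻¹ = (n : G) * (a * ((n : G)⁻¹ * m)) * (m : G)⁻¹ := by group
        _ = (n : G) * ((n : G)⁻¹ * m * a) * (m : G)⁻¹ := by rw [h.comm ha hm]
        _ = _ := by group
  let f : N ⧸ (S : Subgroup G).subgroupOf N → {b : G | ∃ n ∈ N, n * a * n⁻¹ = b} :=
    Quotient.lift (fun n : N => (⟨(n : G) * a * (n : G)⁻¹, n, n.2, rfl⟩ : {b : G | ∃ n ∈ N, n * a * n⁻¹ = b}))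
      fun n m hnm => Subtype.ext ((hb n m).2 (QuotientGroup.leftRel_apply.1 hnm))
  have hf : Function.Bijective f := by
    constructor
    · intro x y
      induction x using QuotientGroup.induction_on with
      | H n =>
        induction y using QuotientGroup.induction_on with
        | H m => exact fun he => QuotientGroup.eq.2 ((hb n m).1 (congrArg Subtype.val he))
    · rintro ⟨b, n, hn, rfl⟩
      exact ⟨QuotientGroup.mk ⟨n, hn⟩, rfl⟩
  have hi := ((S : Subgroup G).subgroupOf N).card_mul_index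
  rw [Nat.card_congr (Subgroup.subgroupOfEquivOfLe Subgroup.le_normalizer).toEquiv, h.card,
    Subgroup.index_eq_card, Nat.card_congr (Equiv.ofBijective f hf), Nat.card_coe_set_eq] at hi
  rw [mul_comm]
  exact hi

/-- Let G be a finite simple group whose Sylow 3-subgroup S is elementary abelian of order 9, such that G has more than one conjugacy class of elements of order 3 and C_G(s) = S for every non-identity s in S. Then G is isomorphic to the alternating group of degree 6. -/
theorem result {G : Type*} [Group G] [Finite G] [IsSimpleGroup G]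
    (P : Sylow 3 G) (S : Subgroup G) (hSP : S = P) (hcomm : IsMulCommutative S) (hexp : ∀ a ∈ S, a ^ 3 = 1)
    (hcard : Nat.card S = 9)
    (hclasses : ∃ a b : G, orderOf a = 3 ∧ orderOf b = 3 ∧ ∀ g : G, g * a * g⁻¹ ≠ b)
    (hcent : ∀ s ∈ S, s ≠ 1 → Subgroup.centralizer ({s} : Set G) = S) :
    Nonempty (G ≃* alternatingGroup (Fin 6)) := by
  classical
  haveI := Fact.mk Nat.prime_three
  subst hSP
  have h : Setup P := ⟨hcard, hexp, hcent⟩
  set N := Subgroup.normalizer ((P : Subgroup G) : Set G) with hN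
  have hntriv : ¬ (P : Subgroup G).Normal := by
    intro hn
    obtain ⟨a, b, ha, hb, hab⟩ := hclasses
    rcases hn.eq_bot_or_eq_top with h' | h'
    · rw [h', Subgroup.card_bot] at hcard
      norm_num at hcard
    · -- a simple group is not of order nine
      have h9 : Nat.card G = 3 ^ 2 := by rw [← Subgroup.card_top (G := G), ← h', hcard]; rfl
      obtain ⟨z, hz⟩ := exists_prime_orderOf_dvd_card' (G := G) 3 (by rw [h9]; norm_num)
      haveI : (Subgroup.zpowers z).Normal := ⟨fun y hy g => by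
        rw [IsPGroup.commutative_of_card_eq_prime_sq h9 g y, mul_inv_cancel_right]; exact hy⟩
      rcases (inferInstance : (Subgroup.zpowers z).Normal).eq_bot_or_eq_top with h'' | h''
      · rw [Subgroup.zpowers_eq_bot] at h''
        rw [h'', orderOf_one] at hz
        norm_num at hz
      · have := Nat.card_zpowers z
        rw [h'', Subgroup.card_top, h9, hz] at this
        norm_num at this
  obtain ⟨a, b, ha, hb, hab⟩ := hclasses
  have hinto : ∀ z : G, orderOf z = 3 → ∃ g : G, g * z * g⁻¹ ∈ (P : Subgroup G) ∧ g * z * g⁻¹ ≠ 1 := by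
    intro z hz
    obtain ⟨Q, hQ⟩ := (show IsPGroup 3 (Subgroup.zpowers z) from
      IsPGroup.of_card (n := 1) (by rw [Nat.card_zpowers, hz, pow_one])).exists_le_sylow
    obtain ⟨g, hg⟩ := MulAction.exists_smul_eq G Q P
    refine ⟨g, ?_, fun h1 => ?_⟩
    · rw [← hg, Sylow.coe_subgroup_smul]
      exact ⟨z, hQ (Subgroup.mem_zpowers _), rfl⟩
    · rw [conj_eq_one_iff.1 h1, orderOf_one] at hz
      norm_num at hz
  obtain ⟨g, hga, hga1⟩ := hinto a ha
  obtain ⟨g', hgb, hgb1⟩ := hinto b hb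
  set A := {c : G | ∃ n ∈ N, n * (g * a * g⁻¹) * n⁻¹ = c} with hA
  set B := {c : G | ∃ n ∈ N, n * (g' * b * g'⁻¹) * n⁻¹ = c} with hB
  have hA9 : A.ncard * 9 = Nat.card N := orbit_card h hga hga1
  have hB9 : B.ncard * 9 = Nat.card N := orbit_card h hgb hgb1
  have hdisj : Disjoint A B := by
    rw [Set.disjoint_left]
    rintro c ⟨n, -, rfl⟩ ⟨m, -, hm⟩
    refine hab (g'⁻¹ * m⁻¹ * n * g) ?_
    calc g'⁻¹ * m⁻¹ * n * g * a * (g'⁻¹ * m⁻¹ * n * g)⁻¹
        = g'⁻¹ * (m⁻¹ * (n * (g * a * g⁻¹) * n⁻¹) * m) * g' := by group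
      _ = g'⁻¹ * (m⁻¹ * (m * (g' * b * g'⁻¹) * m⁻¹) * m) * g' := by rw [hm]
      _ = b := by group
  have hsub : A ∪ B ⊆ ((P : Subgroup G) : Set G) \ {1} := by
    rintro c (⟨n, hn, rfl⟩ | ⟨n, hn, rfl⟩)
    · exact ⟨(Subgroup.mem_normalizer_iff.1 hn _).1 hga, fun h1 => hga1 (conj_eq_one_iff.1 h1)⟩
    · exact ⟨(Subgroup.mem_normalizer_iff.1 hn _).1 hgb, fun h1 => hgb1 (conj_eq_one_iff.1 h1)⟩
  have h8 : A.ncard + B.ncard ≤ 8 := by
    rw [← Set.ncard_union_eq hdisj]
    refine le_trans (Set.ncard_le_ncard hsub) ?_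
    rw [Set.ncard_diff_singleton_of_mem (Subgroup.one_mem _),
      show ((P : Subgroup G) : Set G).ncard = 9 by rw [← Nat.card_coe_set_eq]; exact hcard]
  have h3 : A.ncard ≠ 3 := fun h3 => h.not_27 (by
    rw [show 27 = Nat.card N by rw [← hA9, h3]]
    exact Subgroup.card_subgroup_dvd_card N)
  have hpos : 0 < A.ncard := by
    have := Nat.card_pos (α := N)
    omega
  have hd : Nat.card N ∣ 18 ∨ Nat.card N = 36 := by
    rcases (show A.ncard = 1 ∨ A.ncard = 2 ∨ A.ncard = 4 by omega) with h' | h' | h'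
    · exact Or.inl ⟨2, by omega⟩
    · exact Or.inl ⟨1, by omega⟩
    · exact Or.inr (by omega)
  rcases hd with hd | hd
  · exact absurd (normal_of_dvd h hd) hntriv
  rcases normal_or_simple h hd with h' | ⟨h', -⟩
  · exact absurd h' hntriv
  exact SmallSimple.iso_alternating_six h'

end Cfsg.Agent.S3341
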