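import Cfsg.Statements.S4072
import Cfsg.Agent.Lib.SelfNormNonabelian.Basic
import Cfsg.Agent.Lib.Transfer.Frobenius
-- import your own Cfsg.Agent.* helpers here

set_option autoImplicit false
open Cfsg

namespace Cfsg.Agent.S4072

open Subgroup
open scoped commutatorElement
open Cfsg.Agent.SelfNormNonabelian

/-- A perfect group has only the trivial homomorphic image among solvable groups. -/
theorem false_of_surjective {G X : Type*} [Group G] [Group X] [Nontrivial X] [Group.IsSolvable X]
    (hperf : commutator G = ⊤) (f : G →* X) (hf : Function.Surjective f) : False := by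
  refine (Group.IsSolvable.commutator_lt_top_of_nontrivial X).ne (top_le_iff.1 ?_)
  rw [← Subgroup.map_top_of_surjective f hf]
  conv_lhs => rw [← hperf, _root_.commutator_def, Subgroup.map_commutator]
  rw [_root_.commutator_def]
  exact commutator_mono le_top le_top

/-- In a central situation a `p'`-element normalizing an abelian `p`-subgroup centralizes it. -/
theorem centralizes {G : Type*} [Group G] [Finite G] (hS : SelfNorm G) {p : ℕ} [hp : Fact p.Prime]
    {z : G} (hz : z ∈ center G) (hzp : orderOf z = p) {U : Subgroup G} (hUp : IsPGroup p U)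
    (hU : IsMulCommutative U) {g : G} (hg : g ∈ normalizer (U : Set G))
    (hgp : (orderOf g).Coprime p) : g ∈ centralizer (U : Set G) := by
  obtain ⟨n, hn⟩ := IsPGroup.iff_card.1 hUp
  have hco : (orderOf g).Coprime (Nat.card U) := by rw [hn]; exact hgp.pow_right n
  refine mem_centralizer_iff.2 fun a ha => ?_
  by_contra hne
  have hne' : ⁅g, a⁆ ≠ 1 := fun h => hne (commutatorElement_eq_one_iff_mul_comm.1 h).symm
  have hH := hS _ (not_isMulCommutative_sup hU hg hco ha hne')
  obtain ⟨i, d, hd, e⟩ := exists_of_mem_sup hU hg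
    (hH ▸ mem_normalizer_of_mem_center hz (zpowers g ⊔ commRange U hU g hg))
  have hgz : Commute g z := (mem_center_iff.1 hz g)
  have hgd : Commute g d := by
    rw [show d = (g ^ i)⁻¹ * z by rw [e]; group]
    exact ((Commute.refl g).zpow_right i).inv_right.mul_right hgz
  have hdU : d ∈ U := commRange_le hU hg hd
  obtain ⟨b, -, hb⟩ := hd
  have hd1 : d = 1 := eq_one_of_comm_fixed hco hdU hgd.eq hb
  rw [hd1, mul_one] at e
  have h1 : p ∣ orderOf g := by
    rw [← hzp, e]
    refine orderOf_dvd_of_pow_eq_one ?_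
    rw [← zpow_natCast, ← zpow_mul, mul_comm, zpow_mul, zpow_natCast, pow_orderOf_eq_one, one_zpow]
  have h2 : p = 1 := Nat.eq_one_of_dvd_coprimes hgp h1 dvd_rfl
  exact hp.out.ne_one h2

/-- The case of a central subgroup of order `p`. -/
theorem false_of_center {G : Type*} [Group G] [Finite G] (hS : SelfNorm G)
    (hperf : commutator G = ⊤) {p : ℕ} [hp : Fact p.Prime] {z : G} (hz : z ∈ center G)
    (hzp : orderOf z = p) : False := by
  obtain ⟨P⟩ := (inferInstance : Nonempty (Sylow p G))
  obtain ⟨P', N, hN, hNP⟩ := Cfsg.Agent.Transfer.hasNormalPComplement_of_centralizer P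
    fun Q hQ g hg hgp => by
      have hQp : IsPGroup p Q := P.2.to_le hQ
      by_cases hQa : IsMulCommutative Q
      · exact centralizes hS hz hzp hQp hQa hg hgp
      · rw [hS Q hQa] at hg
        obtain ⟨k, hk⟩ := hQp.exists_orderOf_eq_pow ⟨g, hg⟩
        rw [orderOf_mk] at hk
        have : g = 1 := orderOf_eq_one_iff.1 (Nat.eq_one_of_dvd_coprimes (hgp.pow_right k)
          dvd_rfl (by rw [hk]))
        rw [this]
        exact one_mem _
  haveI := hN
  have hidx : N.index = Nat.card (P' : Subgroup G) := hNP.symm.index_eq_card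
  have hpd : p ∣ Nat.card G := by rw [← hzp]; exact orderOf_dvd_natCard z
  have hP' : p ∣ Nat.card (P' : Subgroup G) := P'.dvd_card_of_dvd_card hpd
  have hq : IsPGroup p (G ⧸ N) := by
    obtain ⟨m, hm⟩ := IsPGroup.iff_card.1 P'.2
    exact IsPGroup.of_card (by rw [← index_eq_card, hidx, hm])
  haveI := hq.isNilpotent
  haveI : Nontrivial (G ⧸ N) := Finite.one_lt_card_iff_nontrivial.1 (by
    rw [← index_eq_card, hidx]
    exact lt_of_lt_of_le hp.out.one_lt (Nat.le_of_dvd Nat.card_pos hP'))
  exact false_of_surjective hperf (QuotientGroup.mk' N) (QuotientGroup.mk'_surjective N)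

theorem absurd_of {G : Type*} [Group G] [Finite G] (hS : SelfNorm G)
    (hns : ¬ Group.IsSolvable G) (hnsimple : ¬ IsSimpleGroup G) : False := by
  haveI : Nontrivial G := not_subsingleton_iff_nontrivial.1 fun h => hns inferInstance
  have hperf : commutator G = ⊤ := by
    by_contra h
    have hc := normal_abelian hS inferInstance h
    haveI : Group.IsSolvable ↥(commutator G) :=
      Group.isSolvable_of_comm fun a b => hc.is_comm.comm a b
    haveI : Group.IsSolvable (G ⧸ commutator G) :=
      Group.isSolvable_of_comm fun a b => mul_comm (G := Abelianization G) a b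
    exact hns ((Group.isSolvable_iff_subgroup_quotient (commutator G)).2 ⟨inferInstance, inferInstance⟩)
  obtain ⟨N, hN, hNbot, hNtop⟩ : ∃ N : Subgroup G, N.Normal ∧ N ≠ ⊥ ∧ N ≠ ⊤ := by
    by_contra h
    push Not at h
    exact hnsimple ⟨fun H hH => or_iff_not_imp_left.2 (h H hH)⟩
  haveI := hN
  obtain ⟨M, hNM, ⟨hMn, hMne⟩, hmax⟩ := Finite.exists_le_maximal
    (p := fun M : Subgroup G => M.Normal ∧ M ≠ ⊤) ⟨hN, hNtop⟩
  haveI := hMn
  have hMbot : M ≠ ⊥ := fun h => hNbot (le_bot_iff.1 (h ▸ hNM))
  have hM : IsMulCommutative M := normal_abelian hS hMn hMne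
  by_cases hC : centralizer (M : Set G) = ⊤
  · -- `M` is central
    have hMZ : M ≤ center G := fun m hm => mem_center_iff.2 fun g =>
      (mem_centralizer_iff.1 (hC.symm ▸ mem_top g : g ∈ centralizer (M : Set G)) m hm).symm
    have hcard : Nat.card M ≠ 1 := fun h => hMbot (Subgroup.card_eq_one.1 h)
    obtain ⟨p, hp, hpd⟩ := Nat.exists_prime_and_dvd hcard
    haveI : Fact p.Prime := ⟨hp⟩
    obtain ⟨z, hz⟩ := exists_prime_orderOf_dvd_card' p hpd
    exact false_of_center (p := p) hS hperf (hMZ z.2) ((orderOf_coe z).trans hz)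
  · -- `C(M) = M`: Burnside in `G / M`
    have hCM : centralizer (M : Set G) = M := le_antisymm
      (hmax ⟨inferInstance, hC⟩ fun m hm => mem_centralizer_iff.2 fun a ha => comm_of_mem hM ha hm)
      fun m hm => mem_centralizer_iff.2 fun a ha => comm_of_mem hM ha hm
    set f := QuotientGroup.mk' M with hf
    have hfs : Function.Surjective f := QuotientGroup.mk'_surjective M
    -- nontrivial cyclic subgroups of `G / M` are self-normalizing
    have key : ∀ u : G ⧸ M, u ≠ 1 → normalizer (zpowers u : Set (G ⧸ M)) = zpowers u := by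
      intro u hu
      obtain ⟨g, rfl⟩ := hfs u
      have hgM : g ∉ M := fun h => hu ((QuotientGroup.eq_one_iff g).2 h)
      have hna : ¬ IsMulCommutative ↥((zpowers (f g)).comap f) := by
        intro h
        refine hgM ?_
        rw [← hCM, mem_centralizer_iff]
        intro m hm
        exact comm_of_mem h (show f m ∈ zpowers (f g) by
            rw [show f m = 1 from (QuotientGroup.eq_one_iff m).2 hm]; exact one_mem _)
          (show f g ∈ zpowers (f g) from mem_zpowers _)
      have hH := hS _ hna
      refine le_antisymm (fun w hw => ?_) le_normalizer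
      obtain ⟨y, rfl⟩ := hfs w
      have : y ∈ normalizer (((zpowers (f g)).comap f : Subgroup G) : Set G) := by
        refine mem_normalizer_iff.2 fun a => ?_
        show f a ∈ zpowers (f g) ↔ f (y * a * y⁻¹) ∈ zpowers (f g)
        rw [map_mul, map_mul, map_inv]
        exact mem_normalizer_iff.1 hw (f a)
      rw [hH] at this
      exact this
    haveI : Nontrivial (G ⧸ M) := QuotientGroup.nontrivial_iff.2 hMne
    obtain ⟨q, hq, hqd⟩ := Nat.exists_prime_and_dvd (n := Nat.card (G ⧸ M))
      Finite.one_lt_card.ne'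
    haveI : Fact q.Prime := ⟨hq⟩
    obtain ⟨P⟩ := (inferInstance : Nonempty (Sylow q (G ⧸ M)))
    haveI : Nontrivial ↥(P : Subgroup (G ⧸ M)) := Finite.one_lt_card_iff_nontrivial.1
      (lt_of_lt_of_le hq.one_lt (Nat.le_of_dvd Nat.card_pos (P.dvd_card_of_dvd_card hqd)))
    haveI := P.2.center_nontrivial
    obtain ⟨w, hw⟩ := exists_ne (1 : center ↥(P : Subgroup (G ⧸ M)))
    set u : G ⧸ M := ((w : ↥(P : Subgroup (G ⧸ M))) : G ⧸ M) with hudef
    have hu : u ≠ 1 := fun h => hw (Subtype.ext (Subtype.ext h))
    have hPu : (P : Subgroup (G ⧸ M)) ≤ zpowers u := by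
      intro v hv
      rw [← key u hu]
      have hc : Commute v u := congrArg Subtype.val (mem_center_iff.1 w.2 ⟨v, hv⟩)
      refine mem_normalizer_iff.2 fun a => ⟨fun ha => ?_, fun ha => ?_⟩
      · obtain ⟨i, rfl⟩ := mem_zpowers_iff.1 ha
        rw [(hc.zpow_right i).eq, mul_inv_cancel_right]; exact ha
      · obtain ⟨i, hi⟩ := mem_zpowers_iff.1 ha
        refine mem_zpowers_iff.2 ⟨i, ?_⟩
        calc u ^ i = v⁻¹ * (v * u ^ i) := by group
          _ = v⁻¹ * (u ^ i * v) := by rw [(hc.zpow_right i).eq]
          _ = a := by rw [hi]; group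
    have heq : (P : Subgroup (G ⧸ M)) = zpowers u :=
      le_antisymm hPu (zpowers_le.2 (w : ↥(P : Subgroup (G ⧸ M))).2)
    have hNP : normalizer (P : Set (G ⧸ M)) ≤ centralizer (P : Set (G ⧸ M)) := by
      intro v hv
      change v ∈ normalizer ((P : Subgroup (G ⧸ M)) : Set (G ⧸ M)) at hv
      change v ∈ centralizer ((P : Subgroup (G ⧸ M)) : Set (G ⧸ M))
      rw [heq, key u hu] at hv
      rw [heq, mem_centralizer_iff]
      intro a ha
      obtain ⟨i, rfl⟩ := mem_zpowers_iff.1 ha
      obtain ⟨j, rfl⟩ := mem_zpowers_iff.1 hv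
      exact Commute.zpow_zpow (Commute.refl u) i j
    have hcompl := MonoidHom.ker_transferSylow_isComplement' P hNP
    set t := MonoidHom.transferSylow P hNP with ht
    have hperf' : commutator (G ⧸ M) = ⊤ := by
      rw [_root_.commutator_def, ← Subgroup.map_top_of_surjective f hfs, ← Subgroup.map_commutator,
        ← _root_.commutator_def, hperf]
    haveI : Group.IsSolvable ↥(P : Subgroup (G ⧸ M)) := by
      haveI := P.2.isNilpotent
      infer_instance
    have hts : Function.Surjective t := by
      rw [← MonoidHom.range_eq_top, ← card_eq_iff_eq_top]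
      rw [← index_ker, hcompl.symm.index_eq_card]
    exact false_of_surjective hperf' t hts


/-- A finite group in which every non-abelian subgroup is self-normalizing is solvable or simple. -/
theorem result {G : Type*} [Group G] [Finite G] (hS : ∀ H : Subgroup G, ¬ IsMulCommutative H → Subgroup.normalizer (H : Set G) = H) :
    Group.IsSolvable G ∨ IsSimpleGroup G := by
  by_contra hcon
  push Not at hcon
  exact absurd_of hS hcon.1 hcon.2

end Cfsg.Agent.S4072
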