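import Cfsg.Statements.S0685

import Cfsg.Agent.Lib.SharplyLinear.Regular

set_option autoImplicit false
set_option linter.style.haveILetI false
open Cfsg

namespace Cfsg.Agent.S0685

open Polynomial in
/-- A self-centralising cyclic normal subgroup has index at most the dimension. -/
theorem index_le {p : ℕ} [Fact p.Prime] {V : Type*} [AddCommGroup V] [Module (ZMod p) V] [Finite V]
    {H : Subgroup (V ≃ₗ[ZMod p] V)}
    (hreg : ∀ v w : V, v ≠ 0 → w ≠ 0 → ∃! h : H, (h : V ≃ₗ[ZMod p] V) v = w)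
    (A : Subgroup H) [A.Normal] [IsMulCommutative A] {W : Submodule (ZMod p) V}
    (hW : SharplyLinear.Irr A W) (hC : Subgroup.centralizer (A : Set H) = A) (hcyc : IsCyclic A) :
    A.index ≤ Module.finrank (ZMod p) V := by
  classical
  haveI : Module.Finite (ZMod p) V := Module.Finite.of_finite
  haveI : Finite (Module.End (ZMod p) W) :=
    Finite.of_injective (fun f : Module.End (ZMod p) W => (⇑f : W → W)) DFunLike.coe_injective
  set R := SharplyLinear.commutant A hW.2.1
  letI : CommRing R := { (inferInstance : Ring R) with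
    mul_comm := fun f g => Subtype.ext (SharplyLinear.commutant_comm hW f g f.2 g.2) }
  obtain ⟨v, hv, hv0⟩ := Submodule.exists_mem_ne_zero_of_ne_bot hW.1
  haveI : Nontrivial R := ⟨⟨1, 0, fun h => hv0 (by
    simpa using congrArg Subtype.val (LinearMap.congr_fun (congrArg Subtype.val h) ⟨v, hv⟩))⟩⟩
  haveI : NoZeroDivisors R := ⟨fun {a b} hab => by
    by_contra hcon
    rw [not_or] at hcon
    refine hcon.2 (Subtype.ext (LinearMap.ext fun x => SharplyLinear.injective_of_mem_commutant hW a.2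
      (fun h => hcon.1 (Subtype.ext h)) ?_))
    have := LinearMap.congr_fun (congrArg Subtype.val hab) x
    simpa using this⟩
  haveI : IsDomain R := NoZeroDivisors.to_isDomain _
  obtain ⟨g, hg⟩ := hcyc.exists_generator
  have hmem : ∀ a : A, SharplyLinear.rest A hW.2.1 a ∈ R := fun a => SharplyLinear.mem_commutant.mpr fun b w => by
    rw [← Module.End.mul_apply, ← map_mul, mul_comm' b a, map_mul, Module.End.mul_apply]
  let cj : H → A := fun h => ⟨h * g * h⁻¹, ‹A.Normal›.conj_mem _ g.2 h⟩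
  let ρ : H → R := fun h => ⟨_, hmem (cj h)⟩
  -- the minimal relation of `g` on `V`
  let T : Module.End (ZMod p) V := (((g : H) : V ≃ₗ[ZMod p] V) : V →ₗ[ZMod p] V)
  let Q := T.charpoly
  let ι : ZMod p →+* R := (algebraMap (ZMod p) (Module.End (ZMod p) W)).codRestrict R fun c =>
    SharplyLinear.mem_commutant.mpr fun a w => by simp
  have heval : ∀ (h : H) (P : (ZMod p)[X]) (w : W),
      ((((P.map ι).eval (ρ h) : R) : Module.End (ZMod p) W) w : V) =
        ((h : V ≃ₗ[ZMod p] V) ((aeval T P) ((h : V ≃ₗ[ZMod p] V).symm (w : V)))) := by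
    intro h P
    induction P using Polynomial.induction_on with
    | C c =>
      intro w
      simp only [Polynomial.map_C, Polynomial.eval_C, aeval_C]
      show c • (w : V) = (h : V ≃ₗ[ZMod p] V) (c • (h : V ≃ₗ[ZMod p] V).symm (w : V))
      rw [map_smul, LinearEquiv.apply_symm_apply]
    | add P Q hP hQ =>
      intro w
      simp only [Polynomial.map_add, Polynomial.eval_add, map_add, LinearMap.add_apply]
      rw [← hP, ← hQ]
      rfl
    | monomial i c ih =>
      intro w
      simp only [Polynomial.map_mul, Polynomial.map_pow, Polynomial.map_C, Polynomial.map_X,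
        Polynomial.eval_mul, Polynomial.eval_pow, Polynomial.eval_C, Polynomial.eval_X,
        aeval_mul, map_pow, aeval_C, aeval_X] at ih ⊢
      rw [pow_succ, ← mul_assoc, pow_succ, ← mul_assoc]
      show ((((ι c * ρ h ^ i : R) : Module.End (ZMod p) W) ((ρ h : Module.End (ZMod p) W) w) : W) : V) = _
      rw [ih]
      show (h : V ≃ₗ[ZMod p] V) ((algebraMap (ZMod p) (Module.End (ZMod p) V) c * T ^ i)
        ((h : V ≃ₗ[ZMod p] V).symm (((h : V ≃ₗ[ZMod p] V) *
        ((g : H) : V ≃ₗ[ZMod p] V) * (h : V ≃ₗ[ZMod p] V)⁻¹) (w : V)))) = _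
      congr 1
      exact congrArg _ (LinearEquiv.symm_apply_apply _ _)
  have hroot : ∀ h : H, (Q.map ι).IsRoot (ρ h) := fun h => Subtype.ext (LinearMap.ext fun w => Subtype.ext (by
    rw [heval, LinearMap.aeval_self_charpoly]
    simp))
  have hinj : ∀ h h' : H, ρ h = ρ h' → h⁻¹ * h' ∈ A := by
    intro h h' e
    have e' : h * g * h⁻¹ = h' * g * h'⁻¹ := congrArg Subtype.val
      (SharplyLinear.rest_injective hreg hW.2.1 hW.1 (congrArg Subtype.val e))
    rw [← hC, Subgroup.mem_centralizer_iff]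
    intro a ha
    obtain ⟨i, hi⟩ := hg ⟨a, ha⟩
    have hcomm : Commute (h⁻¹ * h') (g : H) := by
      show h⁻¹ * h' * g = g * (h⁻¹ * h')
      calc h⁻¹ * h' * g = h⁻¹ * (h' * g * h'⁻¹) * h' := by group
        _ = g * (h⁻¹ * h') := by rw [← e']; group
    rw [show a = (g : H) ^ i by rw [← Subgroup.coe_zpow]; exact congrArg Subtype.val hi.symm]
    exact (hcomm.zpow_right i).eq.symm
  have hQ : Q.map ι ≠ 0 := (T.charpoly_monic.map ι).ne_zero
  calc A.index = Nat.card (H ⧸ A) := rfl
    _ ≤ Nat.card ((Q.map ι).roots.toFinset : Set R) := by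
      refine Nat.card_le_card_of_injective
        (fun q => ⟨ρ q.out, by simpa [hQ] using hroot q.out⟩) fun q q' e => ?_
      rw [← QuotientGroup.out_eq' q, ← QuotientGroup.out_eq' q']
      exact QuotientGroup.eq.mpr (hinj _ _ (congrArg Subtype.val e))
    _ ≤ (Q.map ι).natDegree := by
      rw [Nat.card_coe_set_eq, Set.ncard_coe_finset]
      exact (Multiset.toFinset_card_le _).trans (Polynomial.card_roots' _)
    _ ≤ _ := (Polynomial.natDegree_map_le).trans T.charpoly_natDegree.le


/-- In a linear group over the prime field that is regular on non-zero vectors and has no irreducible cyclic normal subgroup, a maximal normal abelian subgroup is properly contained in its centraliser, which is non-abelian. -/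
theorem result {p : ℕ} [Fact p.Prime] {V : Type*} [AddCommGroup V] [Module (ZMod p) V] [Finite V] (H : Subgroup (V ≃ₗ[ZMod p] V)) (hreg : ∀ v w : V, v ≠ 0 → w ≠ 0 → ∃! h : H, (h : V ≃ₗ[ZMod p] V) v = w) (hI : ∀ A : Subgroup H, A.Normal → IsCyclic A → ∃ W : Submodule (ZMod p) V, W ≠ ⊥ ∧ W ≠ ⊤ ∧ ∀ a ∈ A, ∀ v ∈ W, ((a : H) : V ≃ₗ[ZMod p] V) v ∈ W) (A : Subgroup H) (hAn : A.Normal) (hAc : IsMulCommutative A) (hAmax : ∀ B : Subgroup H, B.Normal → IsMulCommutative B → A ≤ B → B = A) : A < Subgroup.centralizer (A : Set H) ∧ ¬ IsMulCommutative (Subgroup.centralizer (A : Set H)) := by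
  classical
  haveI := hAn
  haveI := hAc
  set C := Subgroup.centralizer (A : Set H)
  have hle : A ≤ C := Subgroup.le_centralizer A
  suffices hne : C ≠ A from ⟨lt_of_le_of_ne hle (Ne.symm hne), fun hC => hne (hAmax C inferInstance hC hle)⟩
  intro hC
  rcases subsingleton_or_nontrivial V with hV | hV
  · haveI : Subsingleton H := ⟨fun a b => Subtype.ext (LinearEquiv.ext fun v => Subsingleton.elim _ _)⟩
    obtain ⟨W, hW, -, -⟩ := hI ⊥ inferInstance inferInstance
    exact hW (Subsingleton.elim _ _)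
  obtain ⟨v₀, hv₀⟩ := exists_ne (0 : V)
  have hcardH := SharplyLinear.card_eq hreg hv₀
  obtain ⟨U, -, hU⟩ := SharplyLinear.exists_irr_le A (W₀ := ⊤) top_ne_bot fun _ _ _ _ => Submodule.mem_top
  obtain ⟨W₀, h0, htop, hinv⟩ := hI A hAn (SharplyLinear.cyclic_of_irr hreg hU).1
  obtain ⟨W, hle', hW⟩ := SharplyLinear.exists_irr_le A h0 hinv
  obtain ⟨hcyc, hdvd⟩ := SharplyLinear.cyclic_of_irr hreg hW
  haveI : Module.Finite (ZMod p) V := Module.Finite.of_finite
  set n := Module.finrank (ZMod p) V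
  set k := Module.finrank (ZMod p) W
  -- a disjoint translate of `W`
  have h2k : 2 * k ≤ n := by
    obtain ⟨w, hw, hw0⟩ := Submodule.exists_mem_ne_zero_of_ne_bot hW.1
    have hWtop : W ≠ ⊤ := fun h => htop (top_le_iff.mp (h ▸ hle'))
    obtain ⟨x, -, hx⟩ := SetLike.exists_of_lt (lt_top_iff_ne_top.mpr hWtop)
    obtain ⟨h, hh, -⟩ := hreg w x hw0 (fun e => hx (e ▸ W.zero_mem))
    set W' := W.map ((h : V ≃ₗ[ZMod p] V) : V →ₗ[ZMod p] V)
    have hW' : SharplyLinear.Irr A W' := SharplyLinear.irr_map hW h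
    have hxW' : x ∈ W' := ⟨w, hw, hh⟩
    have hdisj : W ⊓ W' = ⊥ := by
      rcases hW.2.2 (W ⊓ W') inf_le_left (fun a ha v hv => ⟨hW.2.1 a ha v hv.1, hW'.2.1 a ha v hv.2⟩) with e | e
      · exact e
      · exfalso
        rcases hW'.2.2 W (inf_eq_left.mp e) hW.2.1 with e' | e'
        · exact hW.1 e'
        · exact hx (e'.symm ▸ hxW')
    have h1 := Submodule.finrank_sup_add_finrank_inf_eq W W'
    rw [hdisj, finrank_bot, add_zero, LinearEquiv.finrank_map_eq] at h1
    have := Submodule.finrank_le (W ⊔ W')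
    omega
  have hk : 1 ≤ k := Nat.one_le_iff_ne_zero.mpr fun e => hW.1 (Submodule.finrank_eq_zero.mp e)
  have hidx : A.index ≤ n := index_le hreg A hW hC hcyc
  have hp2 := (Fact.out : p.Prime).two_le
  rw [Module.natCard_eq_pow_finrank (K := ZMod p) (V := V), Nat.card_zmod, ← A.index_mul_card] at hcardH
  have hAle : Nat.card A ≤ p ^ k - 1 :=
    Nat.le_of_dvd (by have := Nat.one_lt_pow (show k ≠ 0 by omega) hp2; omega) hdvd
  have h3 := Nat.mul_le_mul hidx hAle
  obtain ⟨j, hj⟩ : ∃ j, n = k + j := ⟨n - k, by omega⟩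
  have hnj : n ≤ p ^ j := by
    have h4 : 2 * j ≤ 2 ^ j := by
      rcases j with _ | j
      · simp
      · have := Nat.lt_two_pow_self (n := j)
        rw [pow_succ]; omega
    have := Nat.pow_le_pow_left hp2 j
    omega
  have h5 := Nat.mul_le_mul_right (p ^ k - 1) hnj
  have h6 : 1 < p ^ j := Nat.one_lt_pow (by omega) hp2
  have h7 : p ^ n = p ^ j * p ^ k := by rw [hj, pow_add, mul_comm]
  have h9 : p ^ j * (p ^ k - 1) = p ^ j * p ^ k - p ^ j := by rw [Nat.mul_sub, mul_one]
  have h10 : p ^ Module.finrank (ZMod p) V = p ^ j * p ^ k := h7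
  have h8 : p ^ j ≤ p ^ j * p ^ k := Nat.le_mul_of_pos_right _ (pow_pos (by omega) _)
  omega

end Cfsg.Agent.S0685
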