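import Cfsg.Statements.S0687

import Cfsg.Agent.Lib.SharplyLinear.Regular

set_option autoImplicit false
set_option linter.style.haveILetI false
open Cfsg

namespace Cfsg.Agent.S0687

/-- In a linear group over the prime field that is regular on non-zero vectors and has no irreducible cyclic normal subgroup, a normal subgroup `N` minimal among the non-abelian normal subgroups centralising a maximal normal abelian subgroup `A` is irreducible on `V`, and its centraliser is `A`. -/
theorem result {p : ℕ} [Fact p.Prime] {V : Type*} [AddCommGroup V] [Module (ZMod p) V] [Finite V] (H : Subgroup (V ≃ₗ[ZMod p] V)) (hreg : ∀ v w : V, v ≠ 0 → w ≠ 0 → ∃! h : H, (h : V ≃ₗ[ZMod p] V) v = w) (hI : ∀ A : Subgroup H, A.Normal → IsCyclic A → ∃ W : Submodule (ZMod p) V, W ≠ ⊥ ∧ W ≠ ⊤ ∧ ∀ a ∈ A, ∀ v ∈ W, ((a : H) : V ≃ₗ[ZMod p] V) v ∈ W) (A : Subgroup H) (hAn : A.Normal) (hAc : IsMulCommutative A) (hAmax : ∀ B : Subgroup H, B.Normal → IsMulCommutative B → A ≤ B → B = A) (N : Subgroup H) (hNn :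 N.Normal) (hNle : N ≤ Subgroup.centralizer (A : Set H)) (hNna : ¬ IsMulCommutative N) (hNmin : ∀ M : Subgroup H, M.Normal → M ≤ N → ¬ IsMulCommutative M → M = N) : (∀ W : Submodule (ZMod p) V, (∀ n ∈ N, ∀ v ∈ W, ((n : H) : V ≃ₗ[ZMod p] V) v ∈ W) → W = ⊥ ∨ W = ⊤) ∧ Subgroup.centralizer (N : Set H) = A := by
  classical
  haveI := hNn
  rcases subsingleton_or_nontrivial V with hV | hV
  · exfalso
    haveI : Subsingleton H := ⟨fun a b => Subtype.ext (LinearEquiv.ext fun v => Subsingleton.elim _ _)⟩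
    exact hNna ⟨⟨fun a b => Subsingleton.elim _ _⟩⟩
  have hirr : SharplyLinear.Irr N (⊤ : Submodule (ZMod p) V) := by
    obtain ⟨U, -, hU⟩ := SharplyLinear.exists_irr_le N (W₀ := ⊤) top_ne_bot fun _ _ _ _ => Submodule.mem_top
    by_cases h : U = ⊤
    · exact h ▸ hU
    · exact absurd (SharplyLinear.comm_of_reducible hreg hU h) hNna
  refine ⟨fun W hW => hirr.2.2 W le_top hW, ?_⟩
  set C := Subgroup.centralizer (N : Set H)
  have hAC : A ≤ C := fun a ha => Subgroup.mem_centralizer_iff.mpr fun n hn =>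
    (Subgroup.mem_centralizer_iff.mp (hNle hn) a ha).symm
  have hCc : IsMulCommutative C := ⟨⟨fun a b => by
    have hmem : ∀ c : C, (((c : H) : V ≃ₗ[ZMod p] V) : V →ₗ[ZMod p] V).restrict
        (p := (⊤ : Submodule (ZMod p) V)) (q := ⊤) (fun v _ => Submodule.mem_top) ∈
          SharplyLinear.commutant N hirr.2.1 := fun c =>
      SharplyLinear.mem_commutant.mpr fun n w => Subtype.ext
        (LinearEquiv.congr_fun (congrArg Subtype.val (Subgroup.mem_centralizer_iff.mp c.2 n n.2)) (w : V))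
    refine Subtype.ext (Subtype.ext (LinearEquiv.ext fun v => ?_))
    exact congrArg Subtype.val (LinearMap.congr_fun
      (SharplyLinear.commutant_comm hirr _ _ (hmem a) (hmem b)) ⟨v, Submodule.mem_top⟩)⟩⟩
  exact hAmax C inferInstance hCc hAC

end Cfsg.Agent.S0687
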