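import Cfsg.Statements.S1017
import Cfsg.Agent.Lib.SmallSimple.CentralizerOrbits
import Cfsg.Agent.Lib.SmallSimple.Criteria
-- import your own Cfsg.Agent.* helpers here

set_option autoImplicit false
open Cfsg

namespace Cfsg.Agent.S1017

theorem even_of_pow_four : ∀ σ : Equiv.Perm (Fin 5), Equiv.Perm.sign σ = 1 → σ ^ 4 = 1 → σ ≠ 1 →
    ∃ a, σ a = a ∧ ∀ b, σ b = b → b = a := by decide +kernel

theorem fibre_eight {G : Type*} [Group G] [Finite G] [IsSimpleGroup G] (hG : ¬ IsMulCommutative G)
    (hn : Nat.card G = 2016) (hns : Nat.card (Sylow 7 G) = 36)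
    (hC : ∀ R : Sylow 7 G, Nat.card (Subgroup.centralizer ((R : Subgroup G) : Set G)) = 28) :
    False := by
  classical
  haveI : Fact (Nat.Prime 7) := ⟨by norm_num⟩
  haveI : Fact (Nat.Prime 2) := ⟨Nat.prime_two⟩
  have hR : ∀ R : Sylow 7 G, Nat.card (R : Subgroup G) = 7 := fun R => by
    rw [Agent.SmallSimple.card_sylow_subgroup (k := 1) (m := 288) (by rw [hn]; norm_num)
      (by norm_num) R, pow_one]
  -- the Sylow `2`-subgroup of each centraliser
  have hK : ∀ R : Sylow 7 G, ∃ K : Subgroup G,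
      K ≤ Subgroup.centralizer ((R : Subgroup G) : Set G) ∧ Nat.card K = 4 ∧
        ∀ z ∈ Subgroup.centralizer ((R : Subgroup G) : Set G), z ^ 4 = 1 → z ∈ K := by
    intro R
    set C := Subgroup.centralizer ((R : Subgroup G) : Set G)
    have hRC : (R : Subgroup G) ≤ C := by
      haveI : IsCyclic (R : Subgroup G) := isCyclic_of_prime_card (hR R)
      intro a ha b hb
      have := IsCyclic.isMulCommutative (α := (R : Subgroup G))
      exact congrArg Subtype.val (mul_comm' (⟨b, hb⟩ : (R : Subgroup G)) ⟨a, ha⟩)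
    obtain ⟨K, hK⟩ := Sylow.exists_subgroup_card_pow_prime (G := C) 2 (n := 2) (by rw [hC R]; norm_num)
    have hK' : Nat.card (K.map C.subtype) = 4 := by
      rw [Subgroup.card_map_of_injective C.subtype_injective, hK]; norm_num
    refine ⟨K.map C.subtype, Subgroup.map_subtype_le _, hK', fun z hz hz4 => ?_⟩
    have hcomp : Subgroup.IsComplement' ((R : Subgroup G).subgroupOf C) K :=
      Subgroup.isComplement'_of_coprime
        (by rw [Nat.card_congr (Subgroup.subgroupOfEquivOfLe hRC).toEquiv, hR, hK, hC R]; norm_num)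
        (by rw [Nat.card_congr (Subgroup.subgroupOfEquivOfLe hRC).toEquiv, hR, hK]; norm_num)
    obtain ⟨⟨a, k⟩, hak⟩ := hcomp.2 ⟨z, hz⟩
    have hak' : ((a : C) : G) * ((k : C) : G) = z := congrArg Subtype.val hak
    have hcomm : Commute ((a : C) : G) ((k : C) : G) := (k : C).2 _ a.2
    have hk4 : ((k : C) : G) ^ 4 = 1 := by
      have : (k : C) ^ 4 = 1 := by
        have h1 : (k : K) ^ (Nat.card K) = 1 := pow_card_eq_one'
        rw [hK] at h1
        have h2 := congrArg Subtype.val h1
        simpa using h2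
      exact congrArg Subtype.val this
    rw [← hak', hcomm.mul_pow, hk4, mul_one] at hz4
    have ha7 : ((a : C) : G) ^ 7 = 1 := by
      have h1 : (⟨((a : C) : G), a.2⟩ : (R : Subgroup G)) ^ Nat.card (R : Subgroup G) = 1 :=
        pow_card_eq_one'
      rw [hR] at h1
      exact congrArg Subtype.val h1
    have ha1 : ((a : C) : G) = 1 := by
      have h1 := orderOf_dvd_of_pow_eq_one hz4
      have h2 := orderOf_dvd_of_pow_eq_one ha7
      exact orderOf_eq_one_iff.1 (Nat.eq_one_of_dvd_coprimes (by norm_num : Nat.Coprime 4 7) h1 h2)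
    rw [← hak', ha1, one_mul]
    exact ⟨_, k.2, rfl⟩
  choose K hKC hKcard hKmem using hK
  have hKpow : ∀ R, ∀ z ∈ K R, z ^ 4 = 1 := fun R z hz => by
    have h1 : (⟨z, hz⟩ : K R) ^ Nat.card (K R) = 1 := pow_card_eq_one'
    rw [hKcard] at h1
    exact congrArg Subtype.val h1
  -- all non-trivial elements of `K R` fix the same eight Sylow subgroups
  have hfix : ∀ R : Sylow 7 G, ∃ F : Finset (Sylow 7 G), F.card = 8 ∧ R ∈ F ∧
      (∀ z ∈ K R, z ≠ 1 → ∀ Q, z • Q = Q ↔ Q ∈ F) ∧
      ∃ Q₁, Q₁ ≠ R ∧ ∀ x ∈ (R : Subgroup G), x • Q₁ ∈ F := by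
    intro R
    obtain ⟨q, φ, hφ, hq, hqfix, hqorb⟩ := Agent.SmallSimple.exists_centralizer_hom hG
      (by decide) (hn ▸ by norm_num) R (hR R) (k := 5) (by rw [hns]) (K R) (hKC R)
      (by rw [hKcard]; norm_num)
    have hone : ∀ z : K R, z ≠ 1 → ∃ a, (φ z : Equiv.Perm (Fin 5)) a = a ∧
        ∀ b, (φ z : Equiv.Perm (Fin 5)) b = b → b = a := by
      intro z hz
      refine even_of_pow_four _ (Equiv.Perm.mem_alternatingGroup.1 (φ z).2) ?_ fun h => hz (hφ ?_)
      · have : z ^ 4 = 1 := Subtype.ext (hKpow R z z.2)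
        rw [← SubmonoidClass.coe_pow, ← map_pow, this, map_one]; rfl
      · rw [map_one]; exact Subtype.ext h
    haveI : IsMulCommutative (K R) := IsPGroup.isMulCommutative_of_card_eq_prime_sq (p := 2)
      (by rw [hKcard]; norm_num)
    haveI : Nontrivial (K R) := Finite.one_lt_card_iff_nontrivial.1 (by rw [hKcard]; norm_num)
    obtain ⟨z₀, hz₀⟩ := exists_ne (1 : K R)
    obtain ⟨a₀, ha₀, huniq⟩ := hone z₀ hz₀
    have hcommon : ∀ z : K R, z ≠ 1 → ∀ b, (φ z : Equiv.Perm (Fin 5)) b = b ↔ b = a₀ := by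
      intro z hz b
      obtain ⟨a, ha, hau⟩ := hone z hz
      have hc : (φ z : Equiv.Perm (Fin 5)) a₀ = a₀ := by
        apply huniq
        have h1 : φ z₀ * φ z = φ z * φ z₀ := by rw [← map_mul, ← map_mul, mul_comm']
        have h2 := Equiv.congr_fun (congrArg Subtype.val h1) a₀
        simp only [Subgroup.coe_mul, Equiv.Perm.mul_apply, ha₀] at h2
        exact h2
      exact ⟨fun h => (hau b h).trans (hau a₀ hc).symm, fun h => h ▸ hc⟩
    haveI := Fintype.ofFinite G
    haveI := Fintype.ofFinite (Sylow 7 G)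
    obtain ⟨⟨Q₁, hQ₁⟩, hqQ₁⟩ := hq a₀
    refine ⟨insert R ((Finset.univ.filter fun x : G => x ∈ (R : Subgroup G)).image (fun x => x • Q₁)),
      ?_, Finset.mem_insert_self _ _, ?_, Q₁, hQ₁, fun x hx => Finset.mem_insert_of_mem
        (Finset.mem_image.2 ⟨x, Finset.mem_filter.2 ⟨Finset.mem_univ _, hx⟩, rfl⟩)⟩
    · have hinj : Set.InjOn (fun x : G => x • Q₁)
          ↑(Finset.univ.filter fun x : G => x ∈ (R : Subgroup G)) := by
        intro x hx y hy hxy
        have hx' : x ∈ (R : Subgroup G) := (Finset.mem_filter.1 hx).2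
        have hy' : y ∈ (R : Subgroup G) := (Finset.mem_filter.1 hy).2
        exact (inv_mul_eq_one.1 (Agent.SmallSimple.eq_one_of_smul_eq (hR R) hQ₁
          (mul_mem (inv_mem hy') hx') (by rw [mul_smul]; exact inv_smul_eq_iff.2 hxy))).symm
      rw [Finset.card_insert_of_notMem, Finset.card_image_of_injOn hinj, ← Fintype.card_subtype,
        ← Nat.card_eq_fintype_card]
      · exact congrArg (· + 1) (hR R)
      · rintro h
        obtain ⟨x, hx, h⟩ := Finset.mem_image.1 h
        apply hQ₁
        refine smul_left_cancel x (h.trans ?_)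
        exact (Agent.SmallSimple.smul_sylow_eq_iff.2
          (Subgroup.le_normalizer (Finset.mem_filter.1 hx).2)).symm
    · intro z hz hz1 Q
      rw [Finset.mem_insert, Finset.mem_image]
      by_cases hQ : Q = R
      · simp only [hQ, true_or, iff_true]
        exact Agent.SmallSimple.smul_sylow_eq_iff.2
          (Agent.SmallSimple.centralizer_le_normalizer _ (hKC R hz))
      · have h1 := hqfix ⟨z, hz⟩ ⟨Q, hQ⟩
        rw [hcommon ⟨z, hz⟩ (fun h => hz1 (congrArg Subtype.val h))] at h1
        rw [← h1, ← hqQ₁, eq_comm (a := q ⟨Q, hQ⟩), hqorb]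
        simp [hQ]
  choose F hF8 hRF hFfix Q₁ hQ₁ne hQ₁F using hfix
  have hnt : ∀ R, ∃ z ∈ K R, z ≠ 1 := fun R => by
    haveI : Nontrivial (K R) := Finite.one_lt_card_iff_nontrivial.1 (by rw [hKcard]; norm_num)
    obtain ⟨z₀, hz₀⟩ := exists_ne (1 : K R)
    exact ⟨z₀, z₀.2, fun h => hz₀ (Subtype.ext h)⟩
  -- membership in `F R` is equality of the attached subgroups
  have hkey : ∀ R Q : Sylow 7 G, Q ∈ F R ↔ K Q = K R := by
    intro R Q
    constructor
    · intro hQ
      have hle : K R ≤ Subgroup.normalizer ((Q : Subgroup G) : Set G) := fun w hw => by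
        by_cases hw1 : w = 1
        · rw [hw1]; exact one_mem _
        · exact Agent.SmallSimple.smul_sylow_eq_iff.1 ((hFfix R w hw hw1 Q).2 hQ)
      obtain ⟨z, hz1, hzR, hzC⟩ : ∃ z : G, z ≠ 1 ∧ z ∈ K R ∧
          z ∈ Subgroup.centralizer ((Q : Subgroup G) : Set G) := by
        set f := (Subgroup.normalizerMonoidHom (Q : Subgroup G)).comp (Subgroup.inclusion hle)
        have hker : f.ker ≠ ⊥ := by
          intro hb
          have h1 := Subgroup.card_dvd_of_injective f ((MonoidHom.ker_eq_bot_iff _).1 hb)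
          haveI : IsCyclic (Q : Subgroup G) := isCyclic_of_prime_card (hR Q)
          rw [hKcard, IsCyclic.card_mulAut, hR Q, Nat.totient_prime (by norm_num)] at h1
          norm_num at h1
        obtain ⟨z, hz, hz1⟩ := (Subgroup.bot_or_exists_ne_one _).resolve_left hker
        refine ⟨z, fun h => hz1 (Subtype.ext h), z.2, ?_⟩
        have h2 : Subgroup.inclusion hle z ∈
            (Subgroup.normalizerMonoidHom (Q : Subgroup G)).ker := hz
        rw [Subgroup.normalizerMonoidHom_ker] at h2
        exact h2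
      have hzQ : z ∈ K Q := hKmem Q z hzC (hKpow R z hzR)
      have hFeq : ∀ S, S ∈ F Q ↔ S ∈ F R := fun S => by
        rw [← hFfix Q z hzQ hz1 S, hFfix R z hzR hz1 S]
      refine Subgroup.eq_of_le_of_card_ge (fun w hw => ?_) (by rw [hKcard, hKcard])
      refine hKmem R w (fun a ha => ?_) (hKpow Q w hw)
      by_cases hw1 : w = 1
      · rw [hw1, mul_one, one_mul]
      have hwfix : ∀ S ∈ F R, w • S = S := fun S hS =>
        (hFfix Q w hw hw1 S).2 ((hFeq S).2 hS)
      have hwn : w ∈ Subgroup.normalizer ((R : Subgroup G) : Set G) :=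
        Agent.SmallSimple.smul_sylow_eq_iff.1 (hwfix R (hRF R))
      have hb : w * a * w⁻¹ ∈ (R : Subgroup G) := (Subgroup.mem_normalizer_iff.1 hwn a).1 ha
      have hQ1fix : w⁻¹ • Q₁ R = Q₁ R := by
        rw [inv_smul_eq_iff]
        exact (hwfix _ (by simpa using hQ₁F R 1 (one_mem _))).symm
      have h := Agent.SmallSimple.eq_one_of_smul_eq (hR R) (hQ₁ne R)
        (mul_mem (inv_mem ha) hb) (by
          rw [mul_smul, mul_smul, mul_smul, hQ1fix, hwfix _ (hQ₁F R a ha), inv_smul_smul])
      rw [inv_mul_eq_one] at h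
      calc a * w = w * a * w⁻¹ * w := by rw [← h]
        _ = w * a := inv_mul_cancel_right _ _
    · intro h
      obtain ⟨z, hz, hz1⟩ := hnt R
      rw [← hFfix R z hz hz1 Q, Agent.SmallSimple.smul_sylow_eq_iff]
      exact Agent.SmallSimple.centralizer_le_normalizer _ (hKC Q (h ▸ hz))
  haveI := Fintype.ofFinite (Sylow 7 G)
  have hsum := Finset.card_eq_sum_card_fiberwise (f := K) (s := Finset.univ)
    (t := Finset.univ.image K) (fun x _ => Finset.mem_image_of_mem _ (Finset.mem_univ x))
  rw [Finset.card_univ, ← Nat.card_eq_fintype_card, hns,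
    Finset.sum_const_nat (m := 8) (fun T hT => by
      obtain ⟨R, -, rfl⟩ := Finset.mem_image.1 hT
      rw [show (Finset.univ.filter fun Q => K Q = K R) = F R by ext Q; simp [hkey R Q], hF8])] at hsum
  omega

/-- No finite simple group has order 2016 = 2^5 * 3^2 * 7. -/
theorem result {G : Type*} [Group G] [Finite G] [IsSimpleGroup G] : Nat.card G ≠ 2016 := by
  intro hn
  haveI : Fact (Nat.Prime 7) := ⟨by norm_num⟩
  have hG : ¬ IsMulCommutative G := fun h => by
    have := CharInt.card_prime_of_simple_comm (G := G) (fun a b => mul_comm' a b)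
    rw [hn] at this
    norm_num at this
  have h7 : 7 ∣ Nat.card G := by rw [hn]; norm_num
  have hdiv : ∀ d ∈ (288 : ℕ).divisors, d % 7 = 1 → 5 ≤ d → d = 8 ∨ d = 36 ∨ d = 288 := by
    decide +kernel
  obtain ⟨P⟩ : Nonempty (Sylow 7 G) := inferInstance
  have hP : ∀ R : Sylow 7 G, Nat.card (R : Subgroup G) = 7 := fun R => by
    rw [Agent.SmallSimple.card_sylow_subgroup (k := 1) (m := 288) (by rw [hn]; norm_num)
      (by norm_num) R, pow_one]
  have hmem : Nat.card (Sylow 7 G) = 8 ∨ Nat.card (Sylow 7 G) = 36 ∨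
      Nat.card (Sylow 7 G) = 288 := by
    refine hdiv _ (Nat.mem_divisors.2 ⟨?_, by norm_num⟩) ?_ (Agent.SmallSimple.five_le_card_sylow hG h7)
    · have h1 := P.card_dvd_index
      have h2 := Subgroup.card_mul_index (P : Subgroup G)
      rw [hP, hn] at h2
      rwa [show (P : Subgroup G).index = 288 by omega] at h1
    · exact Eq.trans (card_sylow_modEq_one 7 G) (by norm_num)
  have hburn : ∀ R : Sylow 7 G, Nat.card (Subgroup.centralizer ((R : Subgroup G) : Set G)) ≠
      Nat.card (Subgroup.normalizer ((R : Subgroup G) : Set G)) := fun R h =>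
    Agent.SmallSimple.not_hasNormalPComplement hG h7
      (Agent.Transfer.hasNormalPComplement_of_normalizer_le_centralizer R
        (Subgroup.eq_of_le_of_card_ge (Agent.SmallSimple.centralizer_le_normalizer _) h.ge).ge)
  have hCN : ∀ R : Sylow 7 G, Nat.card (Subgroup.centralizer ((R : Subgroup G) : Set G)) ∣
      Nat.card (Subgroup.normalizer ((R : Subgroup G) : Set G)) := fun R =>
    Subgroup.card_dvd_of_le (Agent.SmallSimple.centralizer_le_normalizer _)
  have hNC : ∀ R : Sylow 7 G, Nat.card (Subgroup.normalizer ((R : Subgroup G) : Set G)) ∣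
      Nat.card (Subgroup.centralizer ((R : Subgroup G) : Set G)) * 6 := fun R =>
    Agent.SmallSimple.card_normalizer_dvd R (hP R)
  have hN := fun R : Sylow 7 G => Agent.SmallSimple.card_sylow_mul_card_normalizer R
  rw [hn] at hN
  rcases hmem with h | h | h
  · have hN' : Nat.card (Subgroup.normalizer ((P : Subgroup G) : Set G)) = 252 := by
      have := hN P; rw [h] at this; omega
    haveI : Fact (Nat.Prime 2) := ⟨Nat.prime_two⟩
    have h2 := Agent.SmallSimple.not_dvd_centralizer hG (by decide) h7 P (hP P) (k := 1)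
      (by rw [h]) (r := 2) (n := 1) (by norm_num) (by rw [Nat.card_eq_one_iff_unique.2 ⟨inferInstance, inferInstance⟩]; norm_num)
    have hd := hNC P
    rw [hN'] at hd
    omega
  · refine fibre_eight hG hn h fun R => ?_
    have hN' : Nat.card (Subgroup.normalizer ((R : Subgroup G) : Set G)) = 56 := by
      have := hN R; rw [h] at this; omega
    have h1 := hburn R
    have h2 := hCN R
    have h3 := hNC R
    rw [hN'] at h1 h2 h3
    have hle := Nat.le_of_dvd (by norm_num) h2
    generalize Nat.card (Subgroup.centralizer ((R : Subgroup G) : Set G)) = c at *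
    interval_cases c <;> omega
  · refine hburn P ?_
    have hN' : Nat.card (Subgroup.normalizer ((P : Subgroup G) : Set G)) = 7 := by
      have := hN P; rw [h] at this; omega
    rw [hN']
    haveI : IsCyclic (P : Subgroup G) := isCyclic_of_prime_card (hP P)
    have hge : 7 ∣ Nat.card (Subgroup.centralizer ((P : Subgroup G) : Set G)) := by
      refine (hP P).symm.dvd.trans (Subgroup.card_dvd_of_le fun a ha b hb => ?_)
      have := IsCyclic.isMulCommutative (α := (P : Subgroup G))
      exact congrArg Subtype.val (mul_comm' (⟨b, hb⟩ : (P : Subgroup G)) ⟨a, ha⟩)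
    exact Nat.dvd_antisymm ((hCN P).trans hN'.dvd) hge

end Cfsg.Agent.S1017
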