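import Cfsg.Statements.S1012
import Cfsg.Agent.Lib.SmallSimple.Basic

set_option autoImplicit false
open Cfsg

namespace Cfsg.Agent.S1012

/-- A group of order 24 containing no element of order 6 is isomorphic to the symmetric group of degree 4. -/
theorem result {G : Type*} [Group G] [Finite G] (h : Nat.card G = 24) (h6 : ∀ g : G, orderOf g ≠ 6) : Nonempty (G ≃* Equiv.Perm (Fin 4)) := by
  have : Fact (Nat.Prime 3) := ⟨Nat.prime_three⟩
  obtain ⟨P⟩ : Nonempty (Sylow 3 G) := inferInstance
  set N := Subgroup.normalizer ((P : Subgroup G) : Set G)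
  have hP : Nat.card P = 3 := by
    rw [P.card_eq_multiplicity, h]
    have : (24 : ℕ).factorization 3 = 1 := by
      rw [Nat.factorization_def _ Nat.prime_three, show (24:ℕ) = 3 * 8 by norm_num,
        padicValNat.mul (by norm_num) (by norm_num)]
      simp [padicValNat.eq_zero_of_not_dvd]
    rw [this, pow_one]
  have hmul := SmallSimple.card_sylow_mul_card_normalizer P
  have hmod := card_sylow_modEq_one 3 G
  rw [h] at hmul
  have hn : Nat.card (Sylow 3 G) = 1 ∨ Nat.card (Sylow 3 G) = 4 := by
    have hd : Nat.card (Sylow 3 G) ∣ 8 := by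
      have h1 := P.card_dvd_index
      have h2 := Subgroup.card_mul_index (P : Subgroup G)
      rw [hP, h] at h2
      rwa [show (P : Subgroup G).index = 8 by omega] at h1
    have := (Nat.dvd_prime_pow Nat.prime_two (m := 3)).mp hd
    obtain ⟨i, hi, hi'⟩ := this
    rw [hi'] at hmod ⊢
    interval_cases i <;> simp_all [Nat.ModEq]
  have hno : ∀ x y : G, orderOf x = 3 → orderOf y = 2 → ¬ Commute x y := by
    intro x y hx hy hc
    exact h6 (x * y) (by rw [hc.orderOf_mul_eq_mul_orderOf_of_coprime (by rw [hx, hy]; norm_num), hx, hy])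
  rcases hn with hn | hn
  · exfalso
    have : Subsingleton (Sylow 3 G) := (Nat.card_eq_one_iff_unique.mp hn).1
    have hPn : (P : Subgroup G).Normal := P.normal_of_subsingleton
    obtain ⟨x, hx⟩ := exists_prime_orderOf_dvd_card' (G := P) 3 (dvd_of_eq hP.symm)
    have hx' : orderOf (x : G) = 3 := by rw [Subgroup.orderOf_coe]; exact hx
    have h4 : 2 ^ 2 ∣ Nat.card G := by rw [h]; norm_num
    obtain ⟨K, hK⟩ := Sylow.exists_subgroup_card_pow_prime 2 h4
    let f : G →* MulAut P := MulAut.conjNormal
    -- Aut P has order 2, so the kernel of K's action contains an involution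
    have hcyc : IsCyclic P := isCyclic_of_prime_card hP
    have hA : Nat.card (MulAut P) = 2 := by
      rw [hcyc.card_mulAut, hP]; rfl
    set k := (f.comp K.subtype).ker
    have hk : 2 ∣ Nat.card k := by
      have h1 := Subgroup.card_mul_index k
      have h2 : k.index ∣ 2 := by
        rw [show k.index = _ from Subgroup.index_ker (f.comp K.subtype), ← hA]
        exact Subgroup.card_subgroup_dvd_card (f.comp K.subtype).range
      have h3 : k.index ≤ 2 := Nat.le_of_dvd two_pos h2
      have h4 : 0 < k.index := Nat.pos_of_ne_zero Subgroup.index_ne_zero_of_finite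
      rw [hK] at h1
      interval_cases k.index <;> omega
    obtain ⟨y, hy⟩ := exists_prime_orderOf_dvd_card' (G := k) 2 hk
    have hy' : orderOf ((y : K) : G) = 2 := by
      rw [Subgroup.orderOf_coe, Subgroup.orderOf_coe]; exact hy
    apply hno (x : G) ((y : K) : G) hx' hy'
    have := y.2
    have h5 : f ((y : K) : G) x = x := by
      rw [show f ((y : K) : G) = 1 from this]; rfl
    have h6 := congrArg Subtype.val h5
    rw [MulAut.conjNormal_apply] at h6
    calc (x : G) * ((y : K) : G) = (((y : K) : G) * x * ((y : K) : G)⁻¹) * ((y : K) : G) := by rw [h6]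
      _ = ((y : K) : G) * x := by group
  · have hN : Nat.card N = 6 := by rw [hn] at hmul; show Nat.card (Subgroup.normalizer _) = 6; omega
    set f := MulAction.toPermHom G (Sylow 3 G)
    have hKN : f.ker ≤ N := by
      intro g hg
      show g ∈ Subgroup.normalizer _
      apply Sylow.smul_eq_iff_mem_normalizer.mp
      have := congrArg (fun σ : Equiv.Perm (Sylow 3 G) => σ P) (MonoidHom.mem_ker.mp hg)
      simpa [f] using this
    have hinj : Function.Injective f := by
      rw [← MonoidHom.ker_eq_bot_iff]
      have hd : Nat.card f.ker ∣ 6 := hN ▸ Subgroup.card_dvd_of_le hKN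
      by_contra hne
      have h1 : Nat.card f.ker ≠ 1 := fun hc => hne (Subgroup.eq_bot_of_card_eq _ hc)
      by_cases h3 : 3 ∣ Nat.card f.ker
      · -- every Sylow 3-subgroup then lies in the kernel, hence in N
        have hall : ∀ Q : Sylow 3 G, (Q : Subgroup G) ≤ f.ker := by
          obtain ⟨x, hx⟩ := exists_prime_orderOf_dvd_card' (G := f.ker) 3 h3
          have hx' : orderOf (x : G) = 3 := by rw [Subgroup.orderOf_coe]; exact hx
          have hz : IsPGroup 3 (Subgroup.zpowers (x : G)) :=
            IsPGroup.of_card (n := 1) (by rw [Nat.card_zpowers, hx', pow_one])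
          obtain ⟨Q₀, hQ₀⟩ := hz.exists_le_sylow
          have he : Subgroup.zpowers (x : G) = (Q₀ : Subgroup G) := by
            refine Subgroup.eq_of_le_of_card_ge hQ₀ ?_
            rw [Nat.card_congr (Q₀.equiv P).toEquiv, hP, Nat.card_zpowers, hx']
          intro Q
          obtain ⟨g, rfl⟩ := MulAction.exists_smul_eq G Q₀ Q
          intro y hy
          rw [Sylow.coe_subgroup_smul, ← he, Subgroup.mem_pointwise_smul_iff_inv_smul_mem] at hy
          have hy2 : (MulAut.conj g)⁻¹ • y ∈ f.ker :=
            (Subgroup.zpowers_le.mpr x.2) hy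
          have hy3 := f.normal_ker.conj_mem _ hy2 g
          simpa [MulAut.smul_def, mul_assoc] using hy3
        have hsub : Subsingleton (Sylow 3 G) := by
          refine ⟨fun Q R => ?_⟩
          have key : ∀ Q : Sylow 3 G, Q = P := by
            intro Q
            apply Sylow.ext
            have hle : (Q : Subgroup G) ≤ (P : Subgroup G) :=
              le_trans (le_inf le_rfl ((hall Q).trans hKN))
                ((Q.isPGroup'.inf_normalizer_sylow P).le.trans inf_le_right)
            exact Subgroup.eq_of_le_of_card_ge hle (Nat.card_congr (P.equiv Q).toEquiv).le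
          rw [key Q, key R]
        rw [Nat.card_of_subsingleton P] at hn
        omega
      · have h2 : Nat.card f.ker = 2 := by
          have : Nat.card f.ker ≤ 6 := Nat.le_of_dvd (by norm_num) hd
          have h0 : 0 < Nat.card f.ker := Nat.card_pos
          interval_cases Nat.card f.ker <;> omega
        obtain ⟨y, hy⟩ := exists_prime_orderOf_dvd_card' (G := f.ker) 2 (dvd_of_eq h2.symm)
        have hy' : orderOf (y : G) = 2 := by rw [Subgroup.orderOf_coe]; exact hy
        obtain ⟨x, hx⟩ := exists_prime_orderOf_dvd_card' (G := G) 3 (by rw [h]; norm_num)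
        apply hno x y hx hy'
        have hcm : x * (y : G) * x⁻¹ ∈ f.ker := f.normal_ker.conj_mem _ y.2 x
        have hy1 : (⟨x * (y : G) * x⁻¹, hcm⟩ : f.ker) = y := by
          have hy0 : y ≠ 1 := fun hc => by simp [hc] at hy
          have hz0 : (⟨x * (y : G) * x⁻¹, hcm⟩ : f.ker) ≠ 1 := fun hc => hy0 (by
            have := congrArg Subtype.val hc
            simpa [mul_inv_eq_one, mul_eq_left] using this)
          exact ((Nat.card_eq_two_iff' (1 : f.ker)).mp h2).unique hz0 hy0
        calc x * (y : G) = (x * (y : G) * x⁻¹) * x := by group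
          _ = (y : G) * x := by
            have := congrArg Subtype.val hy1
            simp only at this
            rw [this]
    have e : Sylow 3 G ≃ Fin 4 := Finite.equivFinOfCardEq hn
    have hbij : Function.Bijective (e.permCongrHom.toMonoidHom.comp f) := by
      rw [Nat.bijective_iff_injective_and_card]
      refine ⟨e.permCongrHom.injective.comp hinj, ?_⟩
      rw [h, Nat.card_perm, Nat.card_fin]
      rfl
    exact ⟨MulEquiv.ofBijective _ hbij⟩

end Cfsg.Agent.S1012
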