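import Cfsg.Statements.S0019
import Cfsg.Agent.Lib.Solvable.Basic
import Cfsg.Agent.Lib.Solvable.Hall

set_option autoImplicit false
open Cfsg

namespace Cfsg.Agent.S0019

open scoped Pointwise

theorem exists_normal {G : Type*} [Group G] [Finite G] {H₁ H₂ N : Subgroup G} {p : ℕ}
    (hp : p.Prime) (h12 : ∀ g : G, ∃ x ∈ H₁, ∃ y ∈ H₂, g = x * y)
    (hN : N ≠ ⊥) (hNp : IsPGroup p N) (hN1 : H₁ ≤ Subgroup.normalizer (N : Set G))
    (hidx : ¬ p ∣ H₂.index) :
    ∃ K : Subgroup G, K.Normal ∧ K ≠ ⊥ ∧ K ≤ H₂ := by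
  have := Fact.mk hp
  obtain ⟨Q, hQ⟩ := hNp.exists_le_sylow
  let P : Sylow p H₂ := default
  have hcard : Nat.card ((P : Subgroup H₂).map H₂.subtype) =
      p ^ (Nat.card G).factorization p := by
    rw [Subgroup.card_map_of_injective H₂.subtype_injective, P.card_eq_multiplicity,
      ← Subgroup.card_mul_index H₂, Nat.factorization_mul Nat.card_pos.ne'
      Subgroup.FiniteIndex.index_ne_zero, Finsupp.add_apply,
      Nat.factorization_eq_zero_of_not_dvd hidx, add_zero]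
  obtain ⟨g, hg⟩ := MulAction.exists_smul_eq G (Sylow.ofCard _ hcard) Q
  have h2 : N ≤ MulAut.conj g • H₂ := by
    refine hQ.trans ?_
    rw [← hg, Sylow.smul_def, Sylow.pointwise_smul_def, Sylow.coe_ofCard]
    exact Subgroup.pointwise_smul_le_pointwise_smul_iff.2 (Subgroup.map_subtype_le _)
  obtain ⟨x, hx, y, hy, rfl⟩ := h12 g
  have h3 : N ≤ H₂ := by
    intro n hn
    have h4 : x * n * x⁻¹ ∈ N := (Subgroup.mem_normalizer_iff.1 (hN1 hx) n).1 hn
    have h5 := h2 h4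
    rw [Coprime.mem_conj_smul_iff] at h5
    have h6 := mul_mem (mul_mem hy h5) (inv_mem hy)
    convert h6 using 1
    group
  refine ⟨Subgroup.normalClosure (N : Set G), inferInstance,
    fun h => hN (le_bot_iff.1 ?_), (Subgroup.closure_le _).2 ?_⟩
  · rw [← h]; exact Subgroup.subset_normalClosure
  · intro c hc
    obtain ⟨n, hn, hcn⟩ := Group.mem_conjugatesOfSet_iff.1 hc
    obtain ⟨c', rfl⟩ := isConj_iff.1 hcn
    obtain ⟨a, ha, b, hb, hab⟩ := h12 c'⁻¹
    rw [eq_comm, ← inv_inj, inv_inv] at hab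
    subst hab
    have h4 : a⁻¹ * n * a⁻¹⁻¹ ∈ N := (Subgroup.mem_normalizer_iff.1 (hN1 (inv_mem ha)) n).1 hn
    have h6 := mul_mem (mul_mem (inv_mem hb) (h3 h4)) hb
    rw [SetLike.mem_coe]
    convert h6 using 1
    group

theorem aux.{u} : ∀ (k : ℕ) (G : Type u) [Group G] [Finite G], Nat.card G = k →
    ∀ H₁ H₂ H₃ : Subgroup G, Group.IsSolvable H₁ → Group.IsSolvable H₂ → Group.IsSolvable H₃ →
    (∀ g : G, ∃ x ∈ H₁, ∃ y ∈ H₂, g = x * y) → (∀ g : G, ∃ x ∈ H₁, ∃ y ∈ H₃, g = x * y) →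
    H₂.index.Coprime H₃.index → Group.IsSolvable G := by
  intro k
  induction k using Nat.strong_induction_on with
  | _ k ih =>
    intro G _ _ hk H₁ H₂ H₃ h₁ h₂ h₃ h12 h13 hcop
    by_cases hH : H₁ = ⊥
    · have htop : H₂ = ⊤ := top_le_iff.1 fun g _ => by
        obtain ⟨x, hx, y, hy, rfl⟩ := h12 g
        rw [hH, Subgroup.mem_bot] at hx
        rw [hx, one_mul]
        exact hy
      subst htop
      exact Group.isSolvable_of_surjective (f := (Subgroup.topEquiv : _ ≃* G).toMonoidHom)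
        (MulEquiv.surjective _)
    have : Nontrivial H₁ := (Subgroup.nontrivial_iff_ne_bot _).2 hH
    obtain ⟨N₀, p, hN₀n, -, hN₀, -, -, hp, hpN₀⟩ :=
      Solvable.exists_abelian_minimal_normal (G := H₁) (K := ⊤) inferInstance top_ne_bot
    let N := N₀.map H₁.subtype
    have hN : N ≠ ⊥ := fun h => hN₀ ((Subgroup.map_eq_bot_iff_of_injective _
      H₁.subtype_injective).1 h)
    have hN1 : H₁ ≤ Subgroup.normalizer (N : Set G) := by
      intro x hx
      rw [Subgroup.mem_normalizer_iff]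
      intro y
      constructor
      · rintro ⟨z, hz, rfl⟩
        exact ⟨⟨x, hx⟩ * z * ⟨x, hx⟩⁻¹, hN₀n.conj_mem z hz _, by simp⟩
      · rintro ⟨z, hz, hz'⟩
        refine ⟨⟨x, hx⟩⁻¹ * z * ⟨x, hx⟩, by simpa using hN₀n.conj_mem z hz (⟨x, hx⟩⁻¹), ?_⟩
        simp [← Subgroup.coe_subtype] at hz' ⊢
        simp [hz', mul_assoc]
    obtain ⟨K, hKn, hK, hKs⟩ : ∃ K : Subgroup G, K.Normal ∧ K ≠ ⊥ ∧ Group.IsSolvable K := by
      rcases Decidable.em (p ∣ H₂.index) with h | h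
      · obtain ⟨K, hKn, hK, hle⟩ := exists_normal hp h13 hN (hpN₀.map _) hN1
          (fun h' => hp.ne_one (Nat.eq_one_of_dvd_coprimes hcop h h'))
        exact ⟨K, hKn, hK, Coprime.isSolvable_of_le hle h₃⟩
      · obtain ⟨K, hKn, hK, hle⟩ := exists_normal hp h12 hN (hpN₀.map _) hN1 h
        exact ⟨K, hKn, hK, Coprime.isSolvable_of_le hle h₂⟩
    set f := QuotientGroup.mk' K
    have hfs : Function.Surjective f := QuotientGroup.mk'_surjective K
    have hlt : Nat.card (G ⧸ K) < k := by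
      rw [← hk, ← Solvable.card_quotient_mul_card K]
      exact lt_mul_of_one_lt_right Nat.card_pos ((Subgroup.one_lt_card_iff_ne_bot K).2 hK)
    have hq : Group.IsSolvable (G ⧸ K) := by
      refine ih _ hlt _ rfl (H₁.map f) (H₂.map f) (H₃.map f) (Coprime.isSolvable_map f _ h₁)
        (Coprime.isSolvable_map f _ h₂) (Coprime.isSolvable_map f _ h₃) (fun q => ?_) (fun q => ?_)
        ((hcop.coprime_dvd_left (Subgroup.index_map_dvd _ hfs)).coprime_dvd_right
          (Subgroup.index_map_dvd _ hfs))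
      · obtain ⟨g, rfl⟩ := hfs q
        obtain ⟨x, hx, y, hy, rfl⟩ := h12 g
        exact ⟨_, Subgroup.mem_map_of_mem f hx, _, Subgroup.mem_map_of_mem f hy, map_mul f x y⟩
      · obtain ⟨g, rfl⟩ := hfs q
        obtain ⟨x, hx, y, hy, rfl⟩ := h13 g
        exact ⟨_, Subgroup.mem_map_of_mem f hx, _, Subgroup.mem_map_of_mem f hy, map_mul f x y⟩
    exact Group.isSolvable_of_ker_le_range K.subtype f
      (by rw [QuotientGroup.ker_mk', Subgroup.range_subtype])

/-- A finite group that factorises as H₁H₂ and as H₁H₃ with all three subgroups solvable and the indices of H₂ and H₃ coprime is solvable. -/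
theorem result {G : Type*} [Group G] [Finite G] (H₁ H₂ H₃ : Subgroup G)
    (h₁ : Group.IsSolvable H₁) (h₂ : Group.IsSolvable H₂) (h₃ : Group.IsSolvable H₃)
    (h12 : ∀ g : G, ∃ x ∈ H₁, ∃ y ∈ H₂, g = x * y) (h13 : ∀ g : G, ∃ x ∈ H₁, ∃ y ∈ H₃, g = x * y)
    (hcop : H₂.index.Coprime H₃.index) : Group.IsSolvable G := by
  exact aux _ G rfl H₁ H₂ H₃ h₁ h₂ h₃ h12 h13 hcop

end Cfsg.Agent.S0019
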