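import Cfsg.Statements.S0541
import Cfsg.Agent.Lib.PGroup.Basic
import Cfsg.Agent.Lib.Coprime.Basic

set_option autoImplicit false
open Pointwise
open Cfsg

namespace Cfsg.Agent.S0541

open Subgroup

theorem conj_smul_iSup_le {G : Type*} [Group G] (Z : Subgroup G) {S : Set G} {a : G}
    (ha : ∀ g ∈ S, a * g ∈ S) :
    MulAut.conj a • (⨆ g ∈ S, MulAut.conj g • Z) ≤ ⨆ g ∈ S, MulAut.conj g • Z := by
  rw [Subgroup.pointwise_smul_subset_iff]
  refine iSup₂_le fun g hg => ?_
  rw [← Subgroup.pointwise_smul_subset_iff, Coprime.conj_smul_smul]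
  exact le_iSup₂_of_le (a * g) (ha g hg) le_rfl

theorem le_normalizer_iSup {G : Type*} [Group G] (Z Y : Subgroup G) {S : Set G}
    (hS : ∀ y ∈ Y, ∀ g ∈ S, y * g ∈ S) :
    Y ≤ normalizer ((⨆ g ∈ S, MulAut.conj g • Z : Subgroup G) : Set G) := by
  rw [Subgroup.le_normalizer_iff]
  intro y hy b hb
  refine conj_smul_iSup_le Z (hS y hy) ?_
  rw [Coprime.mem_conj_smul_iff]
  simpa [mul_assoc] using hb

/-- Let Z and Y be subgroups of a finite group G and p a prime. Suppose that for every g in G the subgroup generated by the conjugates of g Z g⁻¹ under Y is a p-group. Then there is a Sylow p-subgroup P of G such that Y normalizes the subgroup generated by all conjugates of Z contained in P. -/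
theorem result {G : Type*} [Group G] [Finite G] (p : ℕ) [Fact p.Prime] (Z Y : Subgroup G) (h : ∀ g : G, IsPGroup p ↥(⨆ y ∈ Y, MulAut.conj (y * g) • Z)) : ∃ P : Sylow p G, Y ≤ Subgroup.normalizer ((⨆ g ∈ {g : G | MulAut.conj g • Z ≤ (P : Subgroup G)}, MulAut.conj g • Z : Subgroup G) : Set G) := by
  classical
  obtain ⟨S, ⟨hSp, hSY⟩, hmax⟩ := (Set.toFinite {S : Set G |
      IsPGroup p (⨆ g ∈ S, MulAut.conj g • Z : Subgroup G) ∧ ∀ y ∈ Y, ∀ g ∈ S, y * g ∈ S}).exists_maximal
    ⟨∅, by rw [iSup_emptyset]; exact IsPGroup.of_bot, fun _ _ g hg => absurd hg (Set.notMem_empty g)⟩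
  set U : Subgroup G := ⨆ g ∈ S, MulAut.conj g • Z with hU
  have hYU : Y ≤ normalizer (U : Set G) := le_normalizer_iSup Z Y hSY
  have key : ∀ g₁ : G, MulAut.conj g₁ • Z ≤ normalizer (U : Set G) → MulAut.conj g₁ • Z ≤ U := by
    intro g₁ h1
    set S₁ := {g : G | ∃ y ∈ Y, g = y * g₁} with hS₁
    set W : Subgroup G := ⨆ g ∈ S₁, MulAut.conj g • Z with hW
    have hWp : IsPGroup p W := by
      refine (h g₁).to_le (iSup₂_le ?_)
      rintro g ⟨y, hy, rfl⟩
      exact le_iSup₂_of_le (f := fun y (_ : y ∈ Y) => MulAut.conj (y * g₁) • Z) y hy le_rfl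
    have hWN : W ≤ normalizer (U : Set G) := by
      refine iSup₂_le ?_
      rintro g ⟨y, hy, rfl⟩
      rw [← Coprime.conj_smul_smul]
      exact (pointwise_smul_le_pointwise_smul_iff.2 h1).trans
        (Coprime.conj_smul_eq_self_of_mem (le_normalizer (hYU hy))).le
    have hbig : S ∪ S₁ ≤ S := hmax ⟨by
        rw [iSup_union]
        exact sup_comm W U ▸ hWp.to_sup_of_normal_right' hSp hWN, fun y hy g hg => by
        rcases hg with hg | ⟨y', hy', rfl⟩
        · exact Or.inl (hSY y hy g hg)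
        · exact Or.inr ⟨y * y', Y.mul_mem hy hy', (mul_assoc _ _ _).symm⟩⟩ Set.subset_union_left
    exact le_iSup₂_of_le g₁ (hbig (Or.inr ⟨1, Y.one_mem, (one_mul g₁).symm⟩)) le_rfl
  obtain ⟨P, hP⟩ := hSp.exists_le_sylow
  refine ⟨P, ?_⟩
  suffices hT : (⨆ g ∈ {g : G | MulAut.conj g • Z ≤ (P : Subgroup G)}, MulAut.conj g • Z) = U by
    rw [hT]; exact hYU
  refine le_antisymm ?_ (iSup₂_le fun g hg => ?_)
  swap
  · exact le_iSup₂_of_le g ((le_iSup₂_of_le g hg le_rfl).trans hP) le_rfl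
  set M : Subgroup G := (P : Subgroup G) ⊓ normalizer (U : Set G) with hM
  suffices hPN : (P : Subgroup G) ≤ normalizer (U : Set G) from
    iSup₂_le fun g hg => key g (hg.trans hPN)
  by_contra hPN
  have hlt : M.subgroupOf P < ⊤ := lt_top_iff_ne_top.mpr fun e =>
    hPN ((subgroupOf_eq_top.mp e).trans inf_le_right)
  obtain ⟨⟨x, hxP⟩, hxn, hxM⟩ := SetLike.exists_of_lt (PGroup.lt_normalizer P.2 hlt.ne)
  refine hxM (mem_subgroupOf.mpr ⟨hxP, ?_⟩)
  have hUM : U ≤ M := le_inf hP le_normalizer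
  have hconj : ∀ (z : G) (hz : z ∈ P), (⟨z, hz⟩ : P) ∈ normalizer ((M.subgroupOf P : Subgroup P) : Set P) →
      MulAut.conj z • U ≤ U := by
    intro z hzP hzn
    rw [Subgroup.pointwise_smul_subset_iff]
    refine iSup₂_le fun g hg => ?_
    rw [← Subgroup.pointwise_smul_subset_iff, Coprime.conj_smul_smul]
    refine key (z * g) fun b hb => ?_
    rw [← Coprime.conj_smul_smul, Coprime.mem_conj_smul_iff] at hb
    have hgU : MulAut.conj g • Z ≤ U := le_iSup₂_of_le g hg le_rfl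
    have hbM : z⁻¹ * b * z ∈ M := hUM (hgU hb)
    have hbP : b ∈ (P : Subgroup G) := by
      have h3 := (P : Subgroup G).mul_mem ((P : Subgroup G).mul_mem hzP hbM.1) ((P : Subgroup G).inv_mem hzP)
      simpa [mul_assoc] using h3
    exact (show b ∈ M from ((mem_normalizer_iff''.mp hzn ⟨b, hbP⟩).mpr hbM)).2
  show x ∈ normalizer (U : Set G)
  rw [mem_normalizer_iff]
  intro b
  have h1 := hconj x hxP hxn
  have h2 := hconj x⁻¹ (inv_mem hxP) (inv_mem hxn)
  constructor
  · intro hb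
    exact h1 (Coprime.mem_conj_smul_iff.mpr (by simpa [mul_assoc] using hb))
  · intro hb
    exact h2 (Coprime.mem_conj_smul_iff.mpr (by simpa [mul_assoc] using hb))

end Cfsg.Agent.S0541
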