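import Cfsg.Statements.S0558
import Cfsg.Agent.Lib.Transfer.Fusion
import Cfsg.Agent.Lib.Solvable.Schmidt
import Cfsg.Agent.Lib.Coprime.Basic
import Cfsg.Agent.Lib.PGroup.Basic

set_option autoImplicit false
open Cfsg

namespace Cfsg.Agent.S0558

open Subgroup
open scoped Pointwise

/-- Let H be a subgroup of a finite group G that is not a Sylow subgroup of G for any prime, and suppose that for every prime p dividing the order of H and every Sylow p-subgroup P of H the normalizer of P in G is exactly H. Then some normal subgroup of G is a complement to H. -/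
theorem result {G : Type*} [Group G] [Finite G] (H : Subgroup G) (hnot : ∀ p : ℕ, p.Prime → ∀ P : Sylow p G, (P : Subgroup G) ≠ H) (hnorm : ∀ p : ℕ, p.Prime → p ∣ Nat.card H → ∀ P : Sylow p H, Subgroup.normalizer (((P : Subgroup H).map H.subtype : Subgroup G) : Set G) = H) : ∃ N : Subgroup G, N.Normal ∧ Subgroup.IsComplement' N H := by
  classical
  have hnilH : Group.IsNilpotent H := by
    refine ((Group.isNilpotent_of_finite_tfae (G := H)).out 0 3 :
      Group.IsNilpotent H ↔ ∀ (r : ℕ) (_ : Fact r.Prime) (R : Sylow r H), (R : Subgroup H).Normal).mpr ?_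
    intro r hr R
    by_cases hd : r ∣ Nat.card H
    · have h1 := hnorm r hr.out hd R
      refine ⟨fun a ha x => ?_⟩
      have hx : (x : G) ∈ normalizer (((R : Subgroup H).map H.subtype : Subgroup G) : Set G) := by
        rw [h1]; exact x.2
      obtain ⟨b, hb, e⟩ := (mem_normalizer_iff.mp hx _).mp (mem_map_of_mem H.subtype ha)
      obtain rfl : b = x * a * x⁻¹ := H.subtype_injective e
      exact hb
    · have hb : (R : Subgroup H) = ⊥ := by
        obtain ⟨k, hk⟩ := IsPGroup.iff_card.mp R.2
        refine eq_bot_of_card_eq _ ?_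
        rcases k.eq_zero_or_pos with rfl | hk0
        · rw [hk, pow_zero]
        · exact absurd ((dvd_pow_self r hk0.ne').trans (hk ▸ card_subgroup_dvd_card _)) hd
      rw [hb]; infer_instance
  -- Sylow subgroups of `H` are Sylow in `G`
  have hsyl : ∀ (r : ℕ) [Fact r.Prime], r ∣ Nat.card H → ∀ R : Sylow r H,
      ∃ S : Sylow r G, (S : Subgroup G) = (R : Subgroup H).map H.subtype := by
    intro r hr hd R
    set R' := (R : Subgroup H).map H.subtype with hR'
    have hRp : IsPGroup r R' := R.2.map H.subtype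
    obtain ⟨S, hS⟩ := hRp.exists_le_sylow
    refine ⟨S, le_antisymm ?_ hS⟩
    by_contra hne
    have hlt : R'.subgroupOf S ≠ ⊤ := fun e => hne (subgroupOf_eq_top.mp e)
    obtain ⟨⟨x, hxS⟩, hxn, hxR⟩ := SetLike.exists_of_lt (PGroup.lt_normalizer S.2 hlt)
    refine hxR (mem_subgroupOf.mpr ?_)
    have hxH : x ∈ H := by
      rw [← hnorm r hr.out hd R, ← hR', mem_normalizer_iff]
      intro y
      constructor
      · intro hy
        exact (mem_normalizer_iff.mp hxn ⟨y, hS hy⟩).mp hy
      · intro hy
        have hyS : y ∈ (S : Subgroup G) := by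
          have h3 := (S : Subgroup G).mul_mem ((S : Subgroup G).mul_mem
            ((S : Subgroup G).inv_mem hxS) (hS hy)) hxS
          simpa [mul_assoc] using h3
        exact (mem_normalizer_iff.mp hxn ⟨y, hyS⟩).mpr hy
    have hp' : IsPGroup r ((S : Subgroup G).subgroupOf H) := S.2.comap_subtype
    have hle : (R : Subgroup H) ≤ (S : Subgroup G).subgroupOf H := fun a ha =>
      mem_subgroupOf.mpr (hS (mem_map_of_mem H.subtype ha))
    have h2 : (⟨x, hxH⟩ : H) ∈ (S : Subgroup G).subgroupOf H := hxS
    rw [R.3 hp' hle] at h2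
    exact ⟨_, h2, rfl⟩
  have hH1 : Nat.card H ≠ 1 := by
    intro h1
    obtain ⟨p, hpn, hp⟩ := Nat.exists_infinite_primes (Nat.card G + 1)
    have := Fact.mk hp
    obtain ⟨P⟩ := (inferInstance : Nonempty (Sylow p G))
    refine hnot p hp P ?_
    rw [eq_bot_of_card_eq H h1]
    refine eq_bot_of_card_eq _ ?_
    obtain ⟨k, hk⟩ := IsPGroup.iff_card.mp P.2
    rcases k.eq_zero_or_pos with rfl | hk0
    · rw [hk, pow_zero]
    · exfalso
      have := Nat.le_of_dvd Nat.card_pos ((dvd_pow_self p hk0.ne').trans (hk ▸ card_subgroup_dvd_card _))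
      omega
  have hH : ∀ p : ℕ, p.Prime → p ∣ Nat.card H → ∃ q, q.Prime ∧ q ∣ Nat.card H ∧ q ≠ p := by
    intro p hp hd
    by_contra hcon
    push Not at hcon
    have := Fact.mk hp
    obtain ⟨R⟩ := (inferInstance : Nonempty (Sylow p H))
    obtain ⟨S, hS⟩ := hsyl p hd R
    refine hnot p hp S ?_
    have hHp : IsPGroup p H :=
      IsPGroup.of_card (Nat.eq_prime_pow_of_unique_prime_dvd Nat.card_pos.ne' fun {q} hq hqd => hcon q hq hqd)
    rw [hS, (R.3 (hHp.to_subgroup ⊤) le_top).symm, ← MonoidHom.range_eq_map, range_subtype]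
  have hK : ∀ p : ℕ, p ∈ (Nat.card H).primeFactors → ∃ K : Subgroup G, K.Normal ∧
      K.index = p ^ (Nat.card H).factorization p ∧ ¬ p ∣ Nat.card K := by
    intro p hpm
    obtain ⟨hp, hd, -⟩ := Nat.mem_primeFactors.mp hpm
    have := Fact.mk hp
    obtain ⟨R⟩ := (inferInstance : Nonempty (Sylow p H))
    obtain ⟨S, hS⟩ := hsyl p hd R
    obtain ⟨q, hq, hqd, hqp⟩ := hH p hp hd
    have := Fact.mk hq
    obtain ⟨T⟩ := (inferInstance : Nonempty (Sylow q H))
    obtain ⟨S', hS'⟩ := hsyl q hqd T
    have hSH : (S : Subgroup G) ≤ H := hS ▸ map_subtype_le _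
    have hc : Transfer.ControlsElementFusion H (S : Subgroup G) := by
      intro x hx g hg
      set C := centralizer ({g * x * g⁻¹} : Set G) with hC
      have hcomm : ∀ z ∈ (S : Subgroup G), ∀ w ∈ (S' : Subgroup G), w * z = z * w := by
        intro z hz w hw
        rw [hS] at hz
        rw [hS'] at hw
        obtain ⟨a, ha, rfl⟩ := hz
        obtain ⟨b, hb, rfl⟩ := hw
        obtain ⟨i, hi⟩ := IsPGroup.iff_orderOf.mp R.2 ⟨a, ha⟩
        obtain ⟨j, hj⟩ := IsPGroup.iff_orderOf.mp T.2 ⟨b, hb⟩
        rw [← Subgroup.orderOf_coe] at hi hj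
        exact congrArg Subtype.val (Solvable.commute_of_nilpotent hqp hj hi).eq
      have h1 : (S' : Subgroup G) ≤ C := fun w hw => mem_centralizer_singleton_iff.mpr (hcomm _ hg w hw)
      have h2 : ((g • S' : Sylow q G) : Subgroup G) ≤ C := by
        intro w hw
        rw [Sylow.smul_def, Sylow.pointwise_smul_def, Coprime.mem_conj_smul_iff] at hw
        have h := hcomm _ hx _ hw
        rw [mem_centralizer_singleton_iff]
        calc w * (g * x * g⁻¹) = g * (g⁻¹ * w * g * x) * g⁻¹ := by group
          _ = g * (x * (g⁻¹ * w * g)) * g⁻¹ := by rw [h]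
          _ = g * x * g⁻¹ * w := by group
      obtain ⟨c, hc⟩ := MulAction.exists_smul_eq C ((g • S').subtype h2) (S'.subtype h1)
      have h3 := congrArg (fun P : Sylow q C => ((P : Subgroup C).map C.subtype)) hc
      simp only [Sylow.smul_def, Sylow.pointwise_smul_def, Sylow.coe_subtype, Coprime.map_conj_smul,
        map_subgroupOf_eq_of_le h1] at h3
      rw [show ((MulAut.conj g • (S' : Subgroup G)).subgroupOf C).map C.subtype =
        MulAut.conj g • (S' : Subgroup G) from map_subgroupOf_eq_of_le h2, Subgroup.coe_subtype,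
        Coprime.conj_smul_smul] at h3
      refine ⟨(c : G) * g, ?_, ?_⟩
      · rw [← hnorm q hq hqd T, ← hS']
        refine Transfer.mem_normalizer_of_conj_mem fun w hw => ?_
        have : (c : G) * g * w * ((c : G) * g)⁻¹ ∈ MulAut.conj ((c : G) * g) • (S' : Subgroup G) :=
          Coprime.mem_conj_smul_iff.mpr (by simpa [mul_assoc] using hw)
        rwa [h3] at this
      · have h4 : (c : G) * (g * x * g⁻¹) = g * x * g⁻¹ * c := mem_centralizer_singleton_iff.mp c.2
        calc (c : G) * g * x * ((c : G) * g)⁻¹ = (c : G) * (g * x * g⁻¹) * (c : G)⁻¹ := by group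
          _ = _ := by rw [h4, mul_inv_cancel_right]
    obtain ⟨P, N, hN, hNP⟩ := Transfer.hasNormalPComplement_of_controlsElementFusion S hSH hc
      (Solvable.hasNormalPComplement_of_isNilpotent p)
    refine ⟨N, hN, ?_, ?_⟩
    · have h5 : Nat.card (S : Subgroup G) = Nat.card (R : Subgroup H) := by
        rw [hS, card_map_of_injective H.subtype_injective]
      rw [hNP.symm.index_eq_card, ← R.card_eq_multiplicity, ← h5]
      exact (Nat.card_congr (Sylow.equiv S P).toEquiv).symm
    · rw [← hNP.index_eq_card]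
      exact P.not_dvd_index
  choose K hKn hKi hKd using hK
  set N := ⨅ p : {p // p ∈ (Nat.card H).primeFactors}, K p.1 p.2 with hN
  have hNn : N.Normal := normal_iInf_normal fun p => hKn p.1 p.2
  refine ⟨N, hNn, ?_⟩
  have hd : Disjoint N H := by
    rw [disjoint_iff]
    refine eq_bot_of_card_eq _ (Nat.eq_one_iff_not_exists_prime_dvd.mpr fun p hp hd => ?_)
    have hm : p ∈ (Nat.card H).primeFactors := Nat.mem_primeFactors.mpr
      ⟨hp, hd.trans (card_dvd_of_le inf_le_right), Nat.card_pos.ne'⟩
    exact hKd p hm (hd.trans (card_dvd_of_le (inf_le_left.trans (iInf_le _ (⟨p, hm⟩ : {p // p ∈ (Nat.card H).primeFactors})))))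
  refine isComplement'_of_card_mul_and_disjoint ?_ hd
  have h1 : N.index ≤ Nat.card H := by
    refine (index_iInf_le _).trans (le_of_eq ?_)
    conv_rhs => rw [← Nat.prod_factorization_pow_eq_self (Nat.card_pos (α := H)).ne']
    rw [Finsupp.prod, Nat.support_factorization]
    exact (Finset.prod_congr rfl fun (p : {p // p ∈ (Nat.card H).primeFactors}) _ => hKi p.1 p.2).trans
      (Finset.prod_coe_sort (Nat.card H).primeFactors fun p => p ^ (Nat.card H).factorization p)
  have h2 : Nat.card N * Nat.card H ≤ Nat.card G := by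
    rw [mul_comm, ← Coprime.card_sup_of_le_normalizer (by rw [normalizer_eq_top]; exact le_top)
      (disjoint_iff.mp hd.symm)]
    exact card_le_card_group _
  rw [← N.card_mul_index] at h2 ⊢
  exact le_antisymm h2 (Nat.mul_le_mul_left _ h1)

end Cfsg.Agent.S0558
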