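-- S4068
import Cfsg.Statements.S4068
import Cfsg.Agent.Lib.FourOrbits.Simple
import Cfsg.Agent.Lib.SmallSimple.Low
import Cfsg.Agent.Lib.PCore.Basic
import Mathlib.NumberTheory.LucasLehmer
import Mathlib.Data.Fintype.CardEmbedding

set_option autoImplicit false
set_option linter.style.haveILetI false
open Cfsg

namespace Cfsg.Agent.S4068


open Cfsg.Agent.FourOrbits
open scoped Pointwise

universe u

variable {G : Type u} [Group G] [Finite G]

theorem isSolvable_of_two {p q : ℕ} (hp : p.Prime) (hq : q.Prime)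
    (h : ∀ s : ℕ, s.Prime → s ∣ Nat.card G → s = p ∨ s = q) : Group.IsSolvable G := by
  obtain ⟨i, m, hm, hcard⟩ := Nat.exists_eq_pow_mul_and_not_dvd (Nat.card_pos (α := G)).ne' _ hp.ne_one
  have hm0 : m ≠ 0 := fun e => hm (e ▸ dvd_zero _)
  obtain ⟨j, hj⟩ : ∃ j, m = q ^ j := ⟨_, Nat.eq_prime_pow_of_unique_prime_dvd hm0 fun {r} hr hrd =>
    (h r hr (hcard ▸ hrd.mul_left _)).resolve_left fun e => hm (e ▸ hrd)⟩
  exact CharInt.isSolvable_of_card_eq hp hq (hcard.trans (by rw [hj]))

theorem exists_three_primes (hns : ¬ Group.IsSolvable G) :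
    ∃ p q r : ℕ, p.Prime ∧ q.Prime ∧ r.Prime ∧ p ≠ q ∧ p ≠ r ∧ q ≠ r ∧
      p ∣ Nat.card G ∧ q ∣ Nat.card G ∧ r ∣ Nat.card G := by
  have hG : Nat.card G ≠ 1 := fun e => hns (by
    haveI := (Nat.card_eq_one_iff_unique.1 e).1
    infer_instance)
  obtain ⟨p, hp, hpd⟩ := Nat.exists_prime_and_dvd hG
  obtain ⟨q, hq, hqd, hqp⟩ : ∃ q, q.Prime ∧ q ∣ Nat.card G ∧ q ≠ p := by
    by_contra hcon
    push Not at hcon
    exact hns (isSolvable_of_two hp hp fun s hs hsd => Or.inl (hcon s hs hsd))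
  obtain ⟨r, hr, hrd, hrp, hrq⟩ : ∃ r, r.Prime ∧ r ∣ Nat.card G ∧ r ≠ p ∧ r ≠ q := by
    by_contra hcon
    push Not at hcon
    exact hns (isSolvable_of_two hp hq fun s hs hsd => or_iff_not_imp_left.2 (hcon s hs hsd))
  exact ⟨p, q, r, hp, hq, hr, hqp.symm, hrp.symm, hrq.symm, hpd, hqd, hrd⟩

/-- The orbit data. -/
theorem orbit_data (hns : ¬ Group.IsSolvable G)
    (h4 : Nat.card (MulAction.orbitRel.Quotient (MulAut G) G) = 4) :
    ∃ p q r : ℕ, p.Prime ∧ q.Prime ∧ r.Prime ∧ p ≠ q ∧ p ≠ r ∧ q ≠ r ∧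
      p ∣ Nat.card G ∧ q ∣ Nat.card G ∧ r ∣ Nat.card G ∧
      (∀ g : G, g ≠ 1 → orderOf g = p ∨ orderOf g = q ∨ orderOf g = r) ∧
      ∀ g h : G, orderOf g = orderOf h → ∃ σ : MulAut G, σ g = h := by
  obtain ⟨p, q, r, hp, hq, hr, hpq, hpr, hqr, hpd, hqd, hrd⟩ := exists_three_primes hns
  haveI := Fact.mk hp
  haveI := Fact.mk hq
  haveI := Fact.mk hr
  obtain ⟨a, ha⟩ := exists_prime_orderOf_dvd_card' (G := G) p hpd
  obtain ⟨b, hb⟩ := exists_prime_orderOf_dvd_card' (G := G) q hqd
  obtain ⟨c, hc⟩ := exists_prime_orderOf_dvd_card' (G := G) r hrd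
  let f : Fin 4 → MulAction.orbitRel.Quotient (MulAut G) G :=
    fun i => Quotient.mk'' (![1, a, b, c] i)
  have e1 := hp.ne_one
  have e2 := hq.ne_one
  have e3 := hr.ne_one
  have hord : ∀ i j : Fin 4, orderOf (![1, a, b, c] i) = orderOf (![1, a, b, c] j) → i = j := by
    intro i j h
    fin_cases i <;> fin_cases j <;> simp [ha, hb, hc] at h ⊢ <;> omega
  have hinj : Function.Injective f := by
    intro i j h
    obtain ⟨σ, hσ⟩ := S4081.mk_eq_mk.1 h
    exact hord i j (by rw [← hσ, S4081.orderOf_aut])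
  have hbij : Function.Bijective f := (Nat.bijective_iff_injective_and_card f).2
    ⟨hinj, by rw [h4, Nat.card_fin]⟩
  have hrep : ∀ g : G, ∃ (i : Fin 4) (σ : MulAut G), σ (![1, a, b, c] i) = g := fun g => by
    obtain ⟨i, hi⟩ := hbij.2 (Quotient.mk'' g)
    exact ⟨i, S4081.mk_eq_mk.1 hi.symm⟩
  refine ⟨p, q, r, hp, hq, hr, hpq, hpr, hqr, hpd, hqd, hrd, fun g hg => ?_, fun g h he => ?_⟩
  · obtain ⟨i, σ, rfl⟩ := hrep g
    rw [S4081.orderOf_aut]
    fin_cases i
    · simp at hg
    · exact Or.inl ha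
    · exact Or.inr (Or.inl hb)
    · exact Or.inr (Or.inr hc)
  · obtain ⟨i, σ, rfl⟩ := hrep g
    obtain ⟨j, τ, rfl⟩ := hrep h
    rw [S4081.orderOf_aut, S4081.orderOf_aut] at he
    rw [hord i j he]
    exact ⟨τ * σ⁻¹, by simp⟩

theorem isSimple_of_orbits (hns : ¬ Group.IsSolvable G) {p q r : ℕ}
    (hd : p ∣ Nat.card G ∧ q ∣ Nat.card G ∧ r ∣ Nat.card G)
    (hpr : p.Prime ∧ q.Prime ∧ r.Prime)
    (hord : ∀ g : G, g ≠ 1 → orderOf g = p ∨ orderOf g = q ∨ orderOf g = r)
    (htr : ∀ g h : G, orderOf g = orderOf h → ∃ σ : MulAut G, σ g = h) : IsSimpleGroup G := by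
  have hP : PrimeOrders G := fun g hg => by
    rcases hord g hg with e | e | e <;> rw [e]
    exacts [hpr.1, hpr.2.1, hpr.2.2]
  haveI : Nontrivial G := by
    by_contra h
    rw [not_nontrivial_iff_subsingleton] at h
    exact hns inferInstance
  refine ⟨fun N hN => ?_⟩
  -- every nonsolvable characteristic subgroup is everything
  have hchar : ∀ M : Subgroup G, M.Characteristic → ¬ Group.IsSolvable M → M = ⊤ := by
    intro M hM hMs
    have hmem : ∀ g h : G, g ∈ M → orderOf g = orderOf h → h ∈ M := fun g h hg he => by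
      obtain ⟨σ, rfl⟩ := htr g h he
      have := Subgroup.Characteristic.fixed hM σ
      rw [← this] at hg
      exact hg
    obtain ⟨s, t, u, hs, ht, hu, hst, hsu, htu, hsd, htd, hud⟩ := exists_three_primes hMs
    haveI := Fact.mk hs
    haveI := Fact.mk ht
    haveI := Fact.mk hu
    obtain ⟨x, hx⟩ := exists_prime_orderOf_dvd_card' (G := M) s hsd
    obtain ⟨y, hy⟩ := exists_prime_orderOf_dvd_card' (G := M) t htd
    obtain ⟨z, hz⟩ := exists_prime_orderOf_dvd_card' (G := M) u hud
    rw [← Subgroup.orderOf_coe] at hx hy hz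
    refine (Subgroup.eq_top_iff' M).2 fun g => ?_
    by_cases hg : g = 1
    · exact hg ▸ one_mem M
    have hsub : ∀ w : M, (orderOf (w : G)).Prime →
        orderOf (w : G) = p ∨ orderOf (w : G) = q ∨ orderOf (w : G) = r := fun w hw =>
      hord w fun e => by rw [e, orderOf_one] at hw; exact Nat.not_prime_one hw
    have h1 := hsub x (by rw [hx]; exact hs)
    have h2 := hsub y (by rw [hy]; exact ht)
    have h3 := hsub z (by rw [hz]; exact hu)
    rw [hx] at h1
    rw [hy] at h2
    rw [hz] at h3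
    rcases (show orderOf g = s ∨ orderOf g = t ∨ orderOf g = u by
      have := hord g hg; omega) with e | e | e
    · exact hmem _ _ x.2 (hx.trans e.symm)
    · exact hmem _ _ y.2 (hy.trans e.symm)
    · exact hmem _ _ z.2 (hz.trans e.symm)
  -- the solvable radical is trivial
  have hsolv : ∀ M : Subgroup G, M.Characteristic → Group.IsSolvable M → M = ⊥ := by
    intro M hM hMs
    by_contra hM1
    obtain ⟨g, hg, hg1⟩ := M.bot_or_exists_ne_one.resolve_left hM1
    haveI := hM
    haveI := Fact.mk (hP g hg1)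
    have hnd : ¬ orderOf g ∣ M.index := by
      intro h
      obtain ⟨x, hx⟩ := exists_prime_orderOf_dvd_card' (G := G ⧸ M) (orderOf g) h
      obtain ⟨y, rfl⟩ := QuotientGroup.mk'_surjective M x
      have hy1 : y ∉ M := fun hy => by
        rw [QuotientGroup.mk'_apply, (QuotientGroup.eq_one_iff y).2 hy, orderOf_one] at hx
        exact (hP g hg1).ne_one hx.symm
      have hd2 := orderOf_map_dvd (QuotientGroup.mk' M) y
      rw [hx] at hd2
      obtain ⟨σ, rfl⟩ := htr g y ((Nat.prime_dvd_prime_iff_eq (hP g hg1)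
        (hP y fun e => hy1 (e ▸ one_mem M))).1 hd2)
      refine hy1 ?_
      have := Subgroup.Characteristic.fixed hM σ
      rw [← this] at hg
      exact hg
    have hprimes : ∀ s : ℕ, s.Prime → s ∣ Nat.card (G ⧸ M) →
        (s = p ∨ s = q ∨ s = r) ∧ s ≠ orderOf g := fun s hs hsd => by
      haveI := Fact.mk hs
      obtain ⟨x, hx⟩ := exists_prime_orderOf_dvd_card' (G := G) s
        (hsd.trans (Subgroup.index_dvd_card M))
      refine ⟨?_, fun e => hnd (e ▸ hsd)⟩
      have := hord x fun e => hs.ne_one (by rw [← hx, e, orderOf_one])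
      omega
    haveI : Group.IsSolvable (G ⧸ M) := by
      rcases hord g hg1 with e | e | e
      · exact isSolvable_of_two hpr.2.1 hpr.2.2 fun s hs hsd => by have := hprimes s hs hsd; omega
      · exact isSolvable_of_two hpr.1 hpr.2.2 fun s hs hsd => by have := hprimes s hs hsd; omega
      · exact isSolvable_of_two hpr.1 hpr.2.1 fun s hs hsd => by have := hprimes s hs hsd; omega
    exact hns ((Group.isSolvable_iff_subgroup_quotient M).2 ⟨hMs, inferInstance⟩)
  induction N using WellFoundedLT.induction with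
  | _ N ih =>
    rcases eq_or_ne N ⊥ with h | hN1
    · exact Or.inl h
    by_cases hfix : ∀ σ : MulAut G, N.map σ.toMonoidHom = N
    · have hNc : N.Characteristic := Subgroup.characteristic_iff_map_eq.2 hfix
      by_cases hs : Group.IsSolvable N
      · exact Or.inl (hsolv N hNc hs)
      · exact Or.inr (hchar N hNc hs)
    push Not at hfix
    obtain ⟨σ, hσ⟩ := hfix
    haveI := hN
    haveI hN' : (N.map σ.toMonoidHom).Normal := hN.map _ σ.surjective
    have hlt : N ⊓ N.map σ.toMonoidHom < N := by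
      refine lt_of_le_of_ne inf_le_left fun e => hσ ?_
      exact (Subgroup.eq_of_le_of_card_ge (inf_eq_left.1 e)
        (le_of_eq (Subgroup.card_map_of_injective σ.injective))).symm
    rcases ih _ hlt inferInstance with hbot | htop
    · -- commuting conjugates: impossible unless `N` is solvable
      exfalso
      obtain ⟨a, ha, ha1⟩ := N.bot_or_exists_ne_one.resolve_left hN1
      have hall : ∀ x ∈ N, x ≠ 1 → orderOf x = orderOf a := by
        intro x hx hx1
        have hcom : Commute a (σ x) := Subgroup.commute_of_normal_of_disjoint N _ hN hN'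
          (disjoint_iff.2 hbot) a (σ x) ha ⟨x, hx, rfl⟩
        have h2 := hP.orderOf_eq hcom ha1 (fun e => hx1 (σ.injective (e.trans (map_one σ).symm)))
        rw [S4081.orderOf_aut] at h2
        exact h2.symm
      haveI := Fact.mk (hP a ha1)
      have hNp : IsPGroup (orderOf a) N := fun x => ⟨1, Subtype.ext (by
        by_cases hx : (x : G) = 1
        · simp [hx]
        · simp [← hall x x.2 hx, pow_orderOf_eq_one])⟩
      have hb := hsolv (Cfsg.pCore (orderOf a) G) inferInstance (by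
        haveI := (PCore.isPGroup_pCore (G := G) (p := orderOf a)).isNilpotent
        infer_instance)
      exact hN1 (le_bot_iff.1 (hb ▸ PCore.le_pCore (hN := hN) hNp))
    · exact Or.inr (top_le_iff.1 (htop ▸ inf_le_left))

/-- Counting data at the prime `s`. -/
structure Data (G : Type u) [Group G] (s : ℕ) (a e n m : ℕ) : Prop where
  ha : ∃ k, 0 < k ∧ a = s ^ k
  ha' : a = s ^ (Nat.card G).factorization s
  he : e.Prime
  hes : e ≠ s
  hed : e ∣ Nat.card G
  hea : e ∣ a - 1
  hn : n * (a * e) = Nat.card G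
  hm : m = n * (a - 1)
  hinc : ∀ g₀ : G, orderOf g₀ = e → ∃ (P : Sylow s G), Nat.card (P : Subgroup G) = a ∧
    Nat.card {g : G // orderOf g = e} * Nat.card {S : Sylow s G // g₀ ∈ Subgroup.normalizer (S : Set G)}
      = n * (a * e - a)

theorem exists_data (H : Hyp G) {s : ℕ} (hs : s.Prime) (hd : s ∣ Nat.card G) :
    ∃ a e n, Data G s a e n (Nat.card {g : G // orderOf g = s}) := by
  haveI := Fact.mk hs
  let P : Sylow s G := default
  obtain ⟨e, he, hes, hed, hcard, hea, hord⟩ := H.exists_normalizer hd P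
  refine ⟨_, e, Nat.card (Sylow s G), ⟨?_, P.card_eq_multiplicity, he, hes, hed, hea, ?_,
    H.card_orderOf P, fun g₀ hg₀ => ⟨P, rfl, H.incidence P he hes hcard hord hg₀⟩⟩⟩
  · exact ⟨_, hs.factorization_pos_of_dvd Nat.card_pos.ne' hd, P.card_eq_multiplicity⟩
  · rw [← hcard, H.card_sylow_mul]

theorem Data.lt {s a e n m : ℕ} (D : Data G s a e n m) (hs : s.Prime) : m * e + 1 ≤ Nat.card G := by
  obtain ⟨k, hk, rfl⟩ := D.ha
  have h1 : 1 ≤ s ^ k := Nat.one_le_pow _ _ hs.pos
  have hn : 0 < n := Nat.pos_of_ne_zero fun h => by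
    have := D.hn; rw [h, zero_mul] at this; exact Nat.card_pos.ne this
  rw [← D.hn, D.hm]
  obtain ⟨t, ht⟩ : ∃ t, s ^ k = t + 1 := ⟨s ^ k - 1, by omega⟩
  rw [ht, Nat.add_sub_cancel]
  nlinarith [D.he.two_le, Nat.mul_le_mul hn D.he.two_le]

theorem total {p q r : ℕ} (hpq : p ≠ q) (hpr : p ≠ r) (hqr : q ≠ r)
    (h1 : p ≠ 1 ∧ q ≠ 1 ∧ r ≠ 1)
    (hord : ∀ g : G, g ≠ 1 → orderOf g = p ∨ orderOf g = q ∨ orderOf g = r) :
    Nat.card G = 1 + Nat.card {g : G // orderOf g = p} + Nat.card {g : G // orderOf g = q} +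
      Nat.card {g : G // orderOf g = r} ∧
    Nat.card G = p ^ (Nat.card G).factorization p * q ^ (Nat.card G).factorization q *
      r ^ (Nat.card G).factorization r := by
  classical
  haveI := Fintype.ofFinite G
  constructor
  · have hmaps : ∀ g ∈ (Finset.univ : Finset G), orderOf g ∈ ({1, p, q, r} : Finset ℕ) := fun g _ => by
      by_cases hg : g = 1
      · simp [hg]
      · have := hord g hg
        simp only [Finset.mem_insert, Finset.mem_singleton]; omega
    have h := Finset.card_eq_sum_card_fiberwise hmaps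
    rw [Finset.sum_insert (by simp; omega), Finset.sum_insert (by simp; omega),
      Finset.sum_insert (by simp; omega), Finset.sum_singleton, Finset.card_univ] at h
    simp only [← Fintype.card_subtype, ← Nat.card_eq_fintype_card] at h
    rw [h, show Nat.card {g : G // orderOf g = 1} = 1 from ?_]
    · ring
    · rw [Nat.card_eq_one_iff_unique]
      exact ⟨⟨fun x y => Subtype.ext ((orderOf_eq_one_iff.1 x.2).trans (orderOf_eq_one_iff.1 y.2).symm)⟩,
        ⟨⟨1, orderOf_one⟩⟩⟩
  · have hsub : (Nat.card G).primeFactors ⊆ {p, q, r} := fun s hs => by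
      have hsp := Nat.prime_of_mem_primeFactors hs
      haveI := Fact.mk hsp
      obtain ⟨x, hx⟩ := exists_prime_orderOf_dvd_card' (G := G) s (Nat.dvd_of_mem_primeFactors hs)
      have := hord x fun e => hsp.ne_one (by rw [← hx, e, orderOf_one])
      simp only [Finset.mem_insert, Finset.mem_singleton]; omega
    conv_lhs => rw [← Nat.prod_factorization_pow_eq_self (n := Nat.card G) Nat.card_pos.ne']
    rw [Finsupp.prod_of_support_subset _ (by simpa using hsub) _ (fun _ _ => pow_zero _),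
      Finset.prod_insert (by simp; omega), Finset.prod_insert (by simp; omega), Finset.prod_singleton,
      mul_assoc]

theorem odd_case {N p q r mp mq mr ep eq er : ℕ}
    (hp : p.Prime) (hq : q.Prime) (hr : r.Prime) (hpq : p ≠ q) (hpr : p ≠ r) (hqr : q ≠ r)
    (h2 : p ≠ 2 ∧ q ≠ 2 ∧ r ≠ 2) (hep : ep = q ∨ ep = r) (heq : eq = p ∨ eq = r) (her : er = p ∨ er = q)
    (hN : N = 1 + mp + mq + mr) (bp : mp * ep + 1 ≤ N) (bq : mq * eq + 1 ≤ N) (br : mr * er + 1 ≤ N)
    (hbig : 27 ≤ N) : False := by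
  have a1 := hp.two_le
  have a2 := hq.two_le
  have a3 := hr.two_le
  have b1 : 3 ≤ ep := by omega
  have b2 : 3 ≤ eq := by omega
  have b3 : 3 ≤ er := by omega
  have c1 : mp * 3 ≤ mp * ep := Nat.mul_le_mul_left _ b1
  have c2 : mq * 3 ≤ mq * eq := Nat.mul_le_mul_left _ b2
  have c3 : mr * 3 ≤ mr * er := Nat.mul_le_mul_left _ b3
  have h5 : 5 ≤ ep ∨ 5 ≤ eq ∨ 5 ≤ er := by
    by_contra hc
    have p4 : p ≠ 4 := fun h => absurd (h ▸ hp) (by norm_num)
    have q4 : q ≠ 4 := fun h => absurd (h ▸ hq) (by norm_num)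
    have r4 : r ≠ 4 := fun h => absurd (h ▸ hr) (by norm_num)
    omega
  rcases h5 with h | h | h
  · have : mp * 5 ≤ mp * ep := Nat.mul_le_mul_left _ h
    omega
  · have : mq * 5 ≤ mq * eq := Nat.mul_le_mul_left _ h
    omega
  · have : mr * 5 ≤ mr * er := Nat.mul_le_mul_left _ h
    omega

theorem incidence_arith {N na a e nR d eR f : ℕ} (hN : 0 < N) (ha : na * (a * e) = N)
    (hR : nR * (d * eR) = N) (h : nR * (d - 1) * f = na * (a * e - a)) :
    (d - 1) * f * e = (e - 1) * d * eR := by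
  refine Nat.eq_of_mul_eq_mul_left hN ?_
  rw [show a * e - a = a * (e - 1) by rw [Nat.mul_sub, mul_one]] at h
  calc N * ((d - 1) * f * e) = (nR * (d * eR)) * ((d - 1) * f * e) := by rw [hR]
    _ = (nR * (d - 1) * f) * (d * eR * e) := by ring
    _ = (na * (a * (e - 1))) * (d * eR * e) := by rw [h]
    _ = (na * (a * e)) * ((e - 1) * d * eR) := by ring
    _ = N * ((e - 1) * d * eR) := by rw [ha]

/-- `eR = q` is impossible. -/
theorem eR_ne_q {N e q a d c ma mR mQ eQ f : ℕ} (he : e.Prime) (hq : q.Prime) (heq : e ≠ q)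
    (he2 : e ≠ 2) (hq2 : q ≠ 2) (hd : ∃ j, 0 < j ∧ d = e ^ j) (ha : 4 ≤ a) (hc : q ≤ c)
    (hN : N = a * d * c) (hcount : N = 1 + ma + mR + mQ) (ba : ma * e + 1 ≤ N) (bR : mR * q + 1 ≤ N)
    (bQ : mQ * eQ + 1 ≤ N) (heQ : 2 ≤ eQ) (hdiv : q ∣ d - 1)
    (hf : (d - 1) * f * e = (e - 1) * d * q) : False := by
  have e3 : 3 ≤ e := by have := he.two_le; omega
  have q3 : 3 ≤ q := by have := hq.two_le; omega
  obtain ⟨j, hj, rfl⟩ := hd
  have hde : e ≤ e ^ j := Nat.le_self_pow hj.ne' e
  have bQ2 : mQ * 2 + 1 ≤ N := by nlinarith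
  by_cases h35 : (e = 3 ∧ q = 5) ∨ (e = 5 ∧ q = 3)
  · have hco : Nat.Coprime (e ^ j - 1) (e ^ j) := by
      have h1 : 1 ≤ e ^ j := Nat.one_le_pow _ _ he.pos
      exact (Nat.coprime_self_sub_left h1).2 (Nat.coprime_one_left _)
    have hdvd : e ^ j - 1 ∣ (e - 1) * q := by
      refine hco.dvd_of_dvd_mul_right (Dvd.intro (f * e) ?_)
      rw [← mul_assoc, hf]; ring
    have hle := Nat.le_of_dvd (Nat.mul_pos (by omega) (by omega)) hdvd
    rcases h35 with ⟨rfl, rfl⟩ | ⟨rfl, rfl⟩
    · have hj3 : j < 3 := by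
        by_contra hh
        have := Nat.pow_le_pow_right (show 0 < 3 by norm_num) (not_lt.1 hh)
        omega
      interval_cases j <;> revert hdiv <;> norm_num
    · have hj3 : j < 2 := by
        by_contra hh
        have := Nat.pow_le_pow_right (show 0 < 5 by norm_num) (not_lt.1 hh)
        omega
      interval_cases j <;> revert hdiv <;> norm_num
  · have hkey : 2 * e + 2 * q + 1 ≤ e * q := by
      have he4 : e ≠ 4 := fun h => absurd (h ▸ he) (by norm_num)
      have he6 : e ≠ 6 := fun h => absurd (h ▸ he) (by norm_num)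
      have hq4 : q ≠ 4 := fun h => absurd (h ▸ hq) (by norm_num)
      have hq6 : q ≠ 6 := fun h => absurd (h ▸ hq) (by norm_num)
      by_cases e5 : 5 ≤ e
      · by_cases q5 : 5 ≤ q
        · nlinarith
        · obtain rfl : q = 3 := by omega
          omega
      · obtain rfl : e = 3 := by omega
        omega
    have h1 : 2 * (ma * e) * q + 2 * (mR * q) * e + e * q * (mQ * 2) + (2 * q + 2 * e + e * q) ≤
        N * (2 * q + 2 * e + e * q) := by nlinarith
    have h2 : 2 * e * q * N ≤ 2 * e * q + N * (2 * q + 2 * e + e * q) := by nlinarith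
    have h3 : N ≤ 2 * e * q := by nlinarith
    have h4 : 4 * (e * q) ≤ N := by
      rw [hN, mul_assoc]
      exact Nat.mul_le_mul ha (Nat.mul_le_mul hde hc)
    nlinarith

theorem eQ_two {a e c k : ℕ} (hk : a = k * e + 1) (he : 3 ≤ e) (hk1 : 1 ≤ k)
    (h : a * c + 2 = 2 * c + a * e) : a = e + 1 ∧ c = e + 2 := by
  subst hk
  rcases Nat.lt_or_ge k 2 with hk2 | hk2
  · obtain rfl : k = 1 := by omega
    refine ⟨by ring, ?_⟩
    zify at h ⊢
    have h' : (c - (e + 2) : ℤ) * (e - 1) = 0 := by linarith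
    rcases mul_eq_zero.1 h' with h'' | h''
    · linarith
    · omega
  · exfalso
    zify at h hk2 he
    rcases Nat.lt_or_ge c (e + 1) with hc | hc
    · zify at hc
      nlinarith [mul_le_mul_of_nonneg_left (show (c : ℤ) ≤ e by linarith) (show (0 : ℤ) ≤ k * e - 1 by nlinarith)]
    · zify at hc
      nlinarith [mul_le_mul_of_nonneg_left hc (show (0 : ℤ) ≤ k * e - 1 by nlinarith)]

theorem two_pow_three {n k : ℕ} (hn : 3 ≤ n) (h : 2 ^ n + 1 = 3 ^ k) : n = 3 := by
  have h8 : 3 ^ k % 8 = 1 := by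
    rw [← h, show n = 3 + (n - 3) by omega, pow_add]
    omega
  obtain ⟨l, rfl⟩ : ∃ l, k = 2 * l := by
    rcases Nat.even_or_odd k with ⟨l, hl⟩ | ⟨l, rfl⟩
    · exact ⟨l, by omega⟩
    · exfalso
      have h9 : 3 ^ (2 * l) % 8 = 1 := by rw [pow_mul, Nat.pow_mod]; norm_num
      rw [pow_succ, Nat.mul_mod, h9] at h8
      norm_num at h8
  have h3 : 1 ≤ 3 ^ l := Nat.one_le_pow _ _ (by norm_num)
  have hprod : (3 ^ l - 1) * (3 ^ l + 1) = 2 ^ n := by
    rw [mul_comm, ← Nat.sq_sub_sq, ← pow_mul, mul_comm l 2, one_pow]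
    generalize 2 ^ n = M at h ⊢
    generalize 3 ^ (2 * l) = K at h ⊢
    omega
  obtain ⟨i, -, hi⟩ := (Nat.dvd_prime_pow Nat.prime_two).1 (Dvd.intro _ hprod)
  obtain ⟨j, -, hj⟩ := (Nat.dvd_prime_pow Nat.prime_two).1 (Dvd.intro_left _ hprod)
  have hi1 : i ≤ 1 := by
    by_contra hh
    have h4 : 4 ∣ 2 ^ i := pow_dvd_pow 2 (show 2 ≤ i by omega)
    have := Nat.one_le_two_pow (n := i)
    have h4' : 4 ∣ 2 ^ j := by
      refine pow_dvd_pow 2 (show 2 ≤ j from ?_)
      by_contra hj2
      interval_cases j <;> omega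
    omega
  interval_cases i
  · have hodd : 3 ^ l % 2 = 1 := Nat.odd_iff.1 (Odd.pow (by decide))
    omega
  · have : 3 ^ l = 3 := by omega
    rw [show 2 * l = l + l by ring, pow_add, this] at h
    exact Nat.pow_right_injective (le_refl 2) (show 2 ^ n = 2 ^ 3 by omega)

/-- The order `504` does not occur. -/
theorem not_504 (H : Hyp G) (hN : Nat.card G = 504)
    (hord : ∀ g : G, g ≠ 1 → orderOf g = 2 ∨ orderOf g = 7 ∨ orderOf g = 3)
    (hsyl : Nat.card (Sylow 2 G) = 9)
    (h3 : Nat.card {g : G // orderOf g = 3} = 224)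
    (h7 : ∀ g : G, orderOf g = 7 → Nat.card {S : Sylow 2 G // g ∈ Subgroup.normalizer (S : Set G)} ≤ 2) :
    False := by
  classical
  haveI : Fact (Nat.Prime 2) := ⟨Nat.prime_two⟩
  haveI := Fintype.ofFinite (Sylow 2 G)
  haveI := Fintype.ofFinite G
  let P : Sylow 2 G := default
  have hNP : Nat.card (Subgroup.normalizer (P : Set G)) = 56 := by
    have := H.card_sylow_mul P
    rw [hsyl, hN] at this
    omega
  have hNS : ∀ S : Sylow 2 G, Nat.card (Subgroup.normalizer (S : Set G)) = 56 := fun S => by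
    have := H.card_sylow_mul S
    rw [hsyl, hN] at this
    omega
  have hfix3 : ∀ (g : G) (x : Sylow 2 G), orderOf g = 3 → g • x ≠ x := fun g x hg hx => by
    have := orderOf_dvd_natCard (⟨g, Sylow.smul_eq_iff_mem_normalizer.1 hx⟩ : Subgroup.normalizer (x : Set G))
    rw [Subgroup.orderOf_mk, hg, hNS] at this
    norm_num at this
  have hthree : ∀ (g : G) (x y z : Sylow 2 G), x ≠ y → x ≠ z → y ≠ z →
      g • x = x → g • y = y → g • z = z → g = 1 := by
    intro g x y z hxy hxz hyz hx hy hz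
    by_contra hg
    rcases hord g hg with e | e | e
    · have hmem : ∀ S : Sylow 2 G, g • S = S → g ∈ (S : Subgroup G) := by
        intro S hS
        by_contra hgS
        have hN := Sylow.smul_eq_iff_mem_normalizer.1 hS
        have hp : IsPGroup 2 (Subgroup.zpowers g) := IsPGroup.of_card (n := 1)
          (by rw [Nat.card_zpowers, e, pow_one])
        have hle : Subgroup.zpowers g ≤ Subgroup.normalizer ((S : Subgroup G) : Set G) :=
          Subgroup.zpowers_le.2 hN
        have hsup : IsPGroup 2 (Subgroup.zpowers g ⊔ (S : Subgroup G) : Subgroup G) :=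
          IsPGroup.to_sup_of_normal_right' hp S.isPGroup' hle
        exact hgS ((S.is_maximal' hsup le_sup_right) ▸ Subgroup.mem_sup_left (Subgroup.mem_zpowers g))
      exact hxy (H.sylow_eq_of_meet x y hg (hmem x hx) (hmem y hy))
    · have h := h7 g e
      rw [Nat.card_eq_fintype_card, Fintype.card_subtype] at h
      have hsub : ({x, y, z} : Finset (Sylow 2 G)) ⊆
          Finset.univ.filter fun S : Sylow 2 G => g ∈ Subgroup.normalizer (S : Set G) := by
        intro S hS
        simp only [Finset.mem_insert, Finset.mem_singleton] at hS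
        rcases hS with rfl | rfl | rfl <;> simp [Sylow.smul_eq_iff_mem_normalizer.1, *]
      have h2 := (Finset.card_le_card hsub).trans h
      simp [hxy, hxz, hyz] at h2
    · exact hfix3 g x e hx
  have hcube : ∀ (g : G) (x : Sylow 2 G), orderOf g = 3 → g • g • g • x = x := fun g x hg => by
    rw [smul_smul, smul_smul, show g * g * g = g ^ 3 by simp [pow_succ, mul_assoc], ← hg,
      pow_orderOf_eq_one, one_smul]
  have hne : ∀ (g : G) (x : Sylow 2 G), orderOf g = 3 →
      x ≠ g • x ∧ x ≠ g • g • x ∧ g • x ≠ g • g • x := fun g x hg =>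
    ⟨(hfix3 g x hg).symm, fun e => hfix3 g x hg ((congrArg (g • ·) e).trans (hcube g x hg)),
      fun e => (hfix3 g x hg).symm (MulAction.injective g e)⟩
  let Φ : {g : G // orderOf g = 3} × Sylow 2 G → (Fin 3 ↪ Sylow 2 G) := fun p =>
    ⟨![p.2, p.1.1 • p.2, p.1.1 • p.1.1 • p.2], by
      obtain ⟨a, b, c⟩ := hne p.1.1 p.2 p.1.2
      intro i j hij
      fin_cases i <;> fin_cases j <;>
        simp [a, b, c, a.symm, b.symm, c.symm] at hij ⊢⟩
  have hΦ : Function.Injective Φ := by
    rintro ⟨g, x⟩ ⟨g', x'⟩ h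
    have h0 : x = x' := DFunLike.congr_fun h 0
    have h1 : g.1 • x = g'.1 • x' := DFunLike.congr_fun h 1
    have h2 : g.1 • g.1 • x = g'.1 • g'.1 • x' := DFunLike.congr_fun h 2
    subst h0
    obtain ⟨a, b, c⟩ := hne g.1 x g.2
    have hone : g.1⁻¹ * g'.1 = 1 := by
      refine hthree _ x (g.1 • x) (g.1 • g.1 • x) a b c ?_ ?_ ?_
      · rw [mul_smul, ← h1, inv_smul_smul]
      · rw [mul_smul, h1, ← h2, ← h1, inv_smul_smul]
      · rw [mul_smul, h2, hcube g'.1 x g'.2]
        conv_lhs => rw [← hcube g.1 x g.2]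
        rw [inv_smul_smul, ← h2]
    exact Prod.ext (Subtype.ext (inv_mul_eq_one.1 hone)) rfl
  have h := Nat.card_le_card_of_injective Φ hΦ
  rw [Nat.card_prod, h3, hsyl, Nat.card_eq_fintype_card, Fintype.card_embedding_eq, Fintype.card_fin,
    ← Nat.card_eq_fintype_card, hsyl] at h
  norm_num [Nat.descFactorial] at h

set_option maxHeartbeats 1600000 in
theorem card_eq_sixty (H : Hyp G) {p q r : ℕ} (hp : p.Prime) (hq : q.Prime) (hr : r.Prime)
    (hpq : p ≠ q) (hpr : p ≠ r) (hqr : q ≠ r) (hp2 : p = 2)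
    (hqd : q ∣ Nat.card G) (hrd : r ∣ Nat.card G) (hpd : p ∣ Nat.card G)
    (hord : ∀ g : G, g ≠ 1 → orderOf g = p ∨ orderOf g = q ∨ orderOf g = r)
    {a na ma : ℕ} (Da : Data G p a q na ma) (hma : ma = Nat.card {g : G // orderOf g = p}) :
    Nat.card G = 60 := by
  subst hp2 hma
  haveI := Fact.mk hq
  haveI := Fact.mk hr
  haveI := Fact.mk hp
  obtain ⟨d, eR, nR, DR⟩ := exists_data H hq hqd
  obtain ⟨c, eQ, nQ, DQ⟩ := exists_data H hr hrd
  obtain ⟨htot, hprod⟩ := total hpq hpr hqr ⟨hp.ne_one, hq.ne_one, hr.ne_one⟩ hord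
  rw [← Da.ha', ← DR.ha', ← DQ.ha'] at hprod
  obtain ⟨n, hn0, ha⟩ := Da.ha
  obtain ⟨j, hj0, hd⟩ := DR.ha
  obtain ⟨k, hk0, hc⟩ := DQ.ha
  have hprimes : ∀ e : ℕ, e.Prime → e ∣ Nat.card G → e = 2 ∨ e = q ∨ e = r := fun e he hed => by
    haveI := Fact.mk he
    obtain ⟨x, hx⟩ := exists_prime_orderOf_dvd_card' (G := G) e hed
    have := hord x fun h => he.ne_one (by rw [← hx, h, orderOf_one])
    omega
  have e3 : 3 ≤ q := by have := hq.two_le; omega
  have ha4 : 4 ≤ a := by
    by_contra hh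
    have h1 : a = 2 := by
      rcases n with _ | _ | n
      · omega
      · rw [ha]; rfl
      · have : 4 ≤ 2 ^ (n + 1 + 1) := by
          calc 4 = 2 ^ 2 := rfl
            _ ≤ _ := Nat.pow_le_pow_right (by norm_num) (by omega)
        omega
    have := Da.hea
    rw [h1] at this
    exact hq.ne_one (Nat.dvd_one.1 this)
  have hN := Nat.card_pos (α := G)
  obtain ⟨g₀, hg₀⟩ := exists_prime_orderOf_dvd_card' (G := G) q hqd
  obtain ⟨P, -, hinc⟩ := Da.hinc g₀ hg₀
  rw [DR.hm] at hinc
  have hf := incidence_arith hN Da.hn DR.hn hinc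
  have hdq : q ≤ d := hd ▸ Nat.le_self_pow hj0.ne' q
  have hcr : r ≤ c := hc ▸ Nat.le_self_pow hk0.ne' r
  rcases hprimes eR DR.he DR.hed with rfl | rfl | rfl
  · -- eR = 2
    have hd1 : d = q := by
      have hco : Nat.Coprime (d - 1) d :=
        (Nat.coprime_self_sub_left (by omega : 1 ≤ d)).2 (Nat.coprime_one_left _)
      have hdvd : d - 1 ∣ (q - 1) * 2 := hco.dvd_of_dvd_mul_right (Dvd.intro
        (Nat.card {S : Sylow 2 G // g₀ ∈ Subgroup.normalizer (S : Set G)} * q)
        (by rw [← mul_assoc, hf]; ring))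
      have hle := Nat.le_of_dvd (by omega) hdvd
      rcases j with _ | _ | j
      · omega
      · rw [hd, pow_one]
      · exfalso
        have : q * q ≤ d := by
          rw [hd, pow_succ, pow_succ, mul_assoc]
          exact Nat.le_mul_of_pos_left _ (pow_pos hq.pos _)
        nlinarith [Nat.sub_add_cancel (show 1 ≤ q by omega), Nat.sub_add_cancel (show 1 ≤ d by omega)]
    have hf2 : Nat.card {S : Sylow 2 G // g₀ ∈ Subgroup.normalizer (S : Set G)} = 2 := by
      rw [hd1] at hf
      refine Nat.eq_of_mul_eq_mul_left (show 0 < (q - 1) * q from Nat.mul_pos (by omega) hq.pos) ?_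
      linarith
    rw [hd1] at hprod DR
    have hna : na = c := by
      refine Nat.eq_of_mul_eq_mul_left (show 0 < a * q by positivity) ?_
      rw [mul_comm (a * q) na, Da.hn, hprod]
    have hnR : 2 * nR = a * c := by
      refine Nat.eq_of_mul_eq_mul_left hq.pos ?_
      rw [show q * (a * c) = Nat.card G by rw [hprod]; ring, ← DR.hn]; ring
    rw [Da.hm, DR.hm, DQ.hm, hna] at htot
    obtain ⟨a', ha'⟩ : ∃ a', a = a' + 1 := ⟨a - 1, by omega⟩
    obtain ⟨q', hq'⟩ : ∃ q', q = q' + 1 := ⟨q - 1, by omega⟩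
    have hr2 := hr.two_le
    obtain ⟨c', hc'⟩ : ∃ c', c = c' + 1 := ⟨c - 1, by omega⟩
    rcases hprimes eQ DQ.he DQ.hed with rfl | e | e
    · -- eQ = 2
      have hnQ : 2 * nQ = a * q := by
        refine Nat.eq_of_mul_eq_mul_left (show 0 < c by omega) ?_
        rw [show c * (a * q) = Nat.card G by rw [hprod]; ring, ← DQ.hn]; ring
      rw [hprod, show a - 1 = a' by omega, show q - 1 = q' by omega, show c - 1 = c' by omega] at htot
      have hkey : a * c + 2 = 2 * c + a * q := by
        zify at htot hnR hnQ ha' hq' hc' ⊢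
        have e1 : (2 : ℤ) * nR * q' = a * c * q' := by rw [hnR]
        have e2 : (2 : ℤ) * nQ * c' = a * q * c' := by rw [hnQ]
        rw [show (q' : ℤ) = q - 1 by linarith] at e1 htot
        rw [show (c' : ℤ) = c - 1 by linarith] at e2 htot
        rw [show (a' : ℤ) = a - 1 by linarith] at htot
        linarith
      obtain ⟨t, ht⟩ := Da.hea
      obtain ⟨haq, hcq⟩ := eQ_two (k := t) (show a = t * q + 1 by rw [mul_comm, ← ht]; omega) e3
        (Nat.pos_of_ne_zero fun h => by rw [h, mul_zero] at ht; omega) hkey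
      by_cases hn2 : n = 2
      · rw [hn2] at ha
        have hq3 : q = 3 := by omega
        rw [hprod, hcq, haq, hq3]
      exfalso
      have hn3 : 3 ≤ n := by
        rcases n with _ | _ | _ | n
        · omega
        · simp at ha; omega
        · omega
        · omega
      have hnp : n.Prime := Nat.prime_of_pow_sub_one_prime (n := n) (a := 2) (by omega)
        (by rw [← ha, haq, Nat.add_sub_cancel]; exact hq) |>.2
      have hnodd : Odd n := hnp.odd_of_ne_two (by omega)
      have h3c : 3 ∣ 2 ^ n + 1 := by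
        obtain ⟨i, rfl⟩ := hnodd
        have : 2 ^ (2 * i) % 3 = 1 := by rw [pow_mul, Nat.pow_mod]; norm_num
        rw [pow_succ]
        omega
      have hck : 2 ^ n + 1 = r ^ k := by rw [← hc, hcq, ← ha, haq]
      have hr3 : r = 3 := ((Nat.prime_dvd_prime_iff_eq Nat.prime_three hr).1
        (Nat.prime_three.dvd_of_dvd_pow (hck ▸ h3c))).symm
      subst hr3
      have hn3' := two_pow_three hn3 hck
      rw [hn3'] at ha
      have hq7 : q = 7 := by omega
      have hc9 : c = 9 := by omega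
      have ha8 : a = 8 := by omega
      subst hq7
      refine not_504 H (by rw [hprod, ha8, hc9]) hord ?_ ?_ ?_
      · have h1 := H.card_sylow_mul (default : Sylow 2 G)
        obtain ⟨P', hP', -⟩ := Da.hinc g₀ hg₀
        have h2 : na = 9 := by omega
        have h3 := Da.hm
        have h4 := H.card_orderOf P'
        rw [hP', ha8] at h4
        rw [h2, ha8] at h3
        omega
      · have : nQ = 28 := by rw [ha8] at hnQ; omega
        rw [DQ.hm, this, hc9]
      · intro g hg
        obtain ⟨σ, hσ⟩ := H.trans g₀ g (hg₀.trans hg.symm)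
        refine le_of_eq ((Nat.card_congr ((MulAction.toPerm σ).subtypeEquiv fun S => ?_)).symm.trans hf2)
        show g₀ ∈ Subgroup.normalizer (S : Set G) ↔ g ∈ Subgroup.normalizer ((σ • S : Sylow 2 G) : Set G)
        rw [← hσ, H.mem_normalizer_smul]
    · -- eQ = q
      exfalso
      rw [e] at DQ
      have hnQ : nQ = a := by
        refine Nat.eq_of_mul_eq_mul_left (show 0 < c * q from Nat.mul_pos (by omega) hq.pos) ?_
        rw [mul_comm (c * q) nQ, DQ.hn, hprod]; ring
      rw [hprod, hnQ, show a - 1 = a' by omega, show q - 1 = q' by omega, show c - 1 = c' by omega] at htot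
      zify at htot hnR ha' hq' hc' ha4 e3
      have hc2 : (2 : ℤ) ≤ c := by exact_mod_cast le_trans hr.two_le hcr
      have e1 : (2 : ℤ) * nR * q' = a * c * q' := by rw [hnR]
      rw [show (q' : ℤ) = q - 1 by linarith] at e1 htot
      rw [show (c' : ℤ) = c - 1 by linarith, show (a' : ℤ) = a - 1 by linarith] at htot
      nlinarith [mul_le_mul_of_nonneg_left e3 (show (0 : ℤ) ≤ a * c by positivity)]
    · exact absurd e DQ.hes
  · exact absurd rfl DR.hes
  · -- eR = r
    exfalso
    refine eR_ne_q (a := a) (d := d) (c := c) hq hr hqr hpq.symm hpr.symm ⟨j, hj0, hd⟩ ha4 hcr hprod htot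
      (Da.lt hp) (DR.lt hq) (DQ.lt hr) DQ.he.two_le DR.hea hf

/-- A finite non-solvable group on which its automorphism group has exactly four orbits is isomorphic to the alternating group of degree 5. -/
theorem result {G : Type*} [Group G] [Finite G] (hns : ¬ Group.IsSolvable G)
    (h4 : Nat.card (MulAction.orbitRel.Quotient (MulAut G) G) = 4) : Nonempty (G ≃* alternatingGroup (Fin 5)) := by
  obtain ⟨p, q, r, hp, hq, hr, hpq, hpr, hqr, hpd, hqd, hrd, hord, htr⟩ := orbit_data hns h4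
  have H : FourOrbits.Hyp G := ⟨fun g hg => by
      rcases hord g hg with e | e | e <;> rw [e] <;> assumption, htr,
    isSimple_of_orbits hns ⟨hpd, hqd, hrd⟩ ⟨hp, hq, hr⟩ hord htr, hns⟩
  haveI := H.simple
  have hna : ¬ IsMulCommutative G := fun h => hns (by
    letI : CommGroup G := { (inferInstance : Group G) with mul_comm := fun a b => h.1.1 a b }
    infer_instance)
  refine SmallSimple.iso_alternating_five hna ?_
  have two : ∀ {x y z : ℕ}, x.Prime → y.Prime → z.Prime → x ≠ y → x ≠ z → y ≠ z → x = 2 →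
      x ∣ Nat.card G → y ∣ Nat.card G → z ∣ Nat.card G →
      (∀ g : G, g ≠ 1 → orderOf g = x ∨ orderOf g = y ∨ orderOf g = z) → Nat.card G = 60 := by
    intro x y z hx hy hz hxy hxz hyz hx2 hxd hyd hzd hall
    obtain ⟨a, e, n, D⟩ := exists_data H hx hxd
    haveI := Fact.mk D.he
    obtain ⟨w, hw⟩ := exists_prime_orderOf_dvd_card' (G := G) e D.hed
    have hw1 := hall w fun h => D.he.ne_one (by rw [← hw, h, orderOf_one])
    rw [hw] at hw1
    rcases hw1 with h | h | h
    · exact absurd h D.hes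
    · subst h
      exact card_eq_sixty H hx hy hz hxy hxz hyz hx2 hyd hzd hxd hall D rfl
    · subst h
      exact card_eq_sixty H hx hz hy hxz hxy hyz.symm hx2 hzd hyd hxd
        (fun g hg => by have := hall g hg; omega) D rfl
  by_cases hp2 : p = 2
  · exact two hp hq hr hpq hpr hqr hp2 hpd hqd hrd hord
  by_cases hq2 : q = 2
  · exact two hq hp hr hpq.symm hqr hpr hq2 hqd hpd hrd (fun g hg => by have := hord g hg; omega)
  by_cases hr2 : r = 2
  · exact two hr hp hq hpr.symm hqr.symm hpq hr2 hrd hpd hqd (fun g hg => by have := hord g hg; omega)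
  exfalso
  obtain ⟨htot, hprod⟩ := total hpq hpr hqr ⟨hp.ne_one, hq.ne_one, hr.ne_one⟩ hord
  obtain ⟨ap, ep, np, Dp⟩ := exists_data H hp hpd
  obtain ⟨aq, eq, nq, Dq⟩ := exists_data H hq hqd
  obtain ⟨ar, er, nr, Dr⟩ := exists_data H hr hrd
  have hpr' : ∀ e : ℕ, e.Prime → e ∣ Nat.card G → e = p ∨ e = q ∨ e = r := fun e he hed => by
    haveI := Fact.mk he
    obtain ⟨x, hx⟩ := exists_prime_orderOf_dvd_card' (G := G) e hed
    have := hord x fun h => he.ne_one (by rw [← hx, h, orderOf_one])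
    omega
  refine odd_case hp hq hr hpq hpr hqr ⟨hp2, hq2, hr2⟩ ((hpr' ep Dp.he Dp.hed).resolve_left Dp.hes)
    (by have := hpr' eq Dq.he Dq.hed; have := Dq.hes; omega)
    (by have := hpr' er Dr.he Dr.hed; have := Dr.hes; omega)
    htot (Dp.lt hp) (Dq.lt hq) (Dr.lt hr) ?_
  have hd : p * q * r ≤ Nat.card G := Nat.le_of_dvd Nat.card_pos
    (Nat.Coprime.mul_dvd_of_dvd_of_dvd (Nat.Coprime.mul_left ((Nat.coprime_primes hp hr).2 hpr)
      ((Nat.coprime_primes hq hr).2 hqr))
      (Nat.Coprime.mul_dvd_of_dvd_of_dvd ((Nat.coprime_primes hp hq).2 hpq) hpd hqd) hrd)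
  have h3 : ∀ {x : ℕ}, x.Prime → x ≠ 2 → 3 ≤ x := fun hx hx2 => by have := hx.two_le; omega
  calc 27 = 3 * 3 * 3 := rfl
    _ ≤ p * q * r := Nat.mul_le_mul (Nat.mul_le_mul (h3 hp hp2) (h3 hq hq2)) (h3 hr hr2)
    _ ≤ _ := hd

end Cfsg.Agent.S4068
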