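import Cfsg.Statements.S4458
import Cfsg.Agent.Lib.Char.TwoDegrees
import Cfsg.Agent.Lib.Char.Monomial

set_option autoImplicit false
open Cfsg

namespace Cfsg.Agent.S4458

/-- If a finite group has exactly two irreducible character degrees, 1 and m with m ≠ 1, then its commutator subgroup is abelian. -/
theorem result {G : Type*} [Group G] [Finite G] (m : ℕ) (hcd : ∀ χ : Cfsg.IrrCharacter G, Cfsg.charDegree (χ : G → ℂ) = 1 ∨ Cfsg.charDegree (χ : G → ℂ) = m) (hm : ∃ χ : Cfsg.IrrCharacter G, Cfsg.charDegree (χ : G → ℂ) = m) (hm1 : m ≠ 1) : ∀ a ∈ commutator G, ∀ b ∈ commutator G, a * b = b * a := by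
  classical
  haveI := Fintype.ofFinite G
  obtain ⟨χ₀, hχ₀⟩ := hm
  have hcd' : ∀ χ : IrrCharacter G, Agent.Char.degree χ = 1 ∨ Agent.Char.degree χ = m := fun χ => by
    simpa only [Agent.Char.charDegree_eq_degree] using hcd χ
  have hex : ∃ χ : IrrCharacter G, Agent.Char.degree χ = m :=
    ⟨χ₀, by rw [← Agent.Char.charDegree_eq_degree]; exact hχ₀⟩
  have hm' : 1 < m := by
    obtain ⟨χ, hχ⟩ := hex
    have := Agent.Char.degree_pos χ
    omega
  rcases Agent.Char.exists_abelian_index_or_central hm' hcd' hex with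
    ⟨A, -, hA, hAi⟩ | ⟨p, e, hp, -, H, hHc, -, k, hk⟩
  · intro a ha b hb
    have h := Agent.Char.commutator_le_of_index hm' hcd' A hAi
    exact hA a (h ha) b (h hb)
  · haveI := Fact.mk hp
    haveI : H.Normal := ⟨fun x hx g => by
      rwa [Subgroup.mem_center_iff.1 (hHc hx) g, mul_inv_cancel_right]⟩
    haveI : Group.IsNilpotent (G ⧸ H) := IsPGroup.isNilpotent
      (IsPGroup.of_card (p := p) (n := k) (by rw [← Subgroup.index_eq_card, hk]))
    haveI : Group.IsNilpotent G := Subgroup.isNilpotent_of_ker_le_center (QuotientGroup.mk' H)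
      (by rw [QuotientGroup.ker_mk']; exact hHc)
    intro a ha b hb
    have hkey : ∀ χ : IrrCharacter G, χ.1 (a * b * a⁻¹ * b⁻¹) = χ.1 1 := by
      intro χ
      rcases hcd' χ with h1 | h1
      · obtain ⟨lam, hl⟩ := Agent.Char.IsCharacter.exists_monoidHom (Agent.Char.irr_isCharacter χ)
          (by rw [Agent.Char.apply_one_eq_degree, h1, Nat.cast_one])
        rw [← hl, map_one]
        have h2 : lam.toHomUnits (a * b * a⁻¹ * b⁻¹) = 1 := by
          simp [map_mul, map_inv, mul_comm]
        exact congrArg Units.val h2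
      · obtain ⟨S, lam, hS⟩ := Agent.Char.isMonomialChar_of_isNilpotent χ.2
        haveI := Fintype.ofFinite S
        have h0 : lam 1 = 1 := map_one lam
        have hSi : S.index = m := by
          have h2 := congrFun hS 1
          rw [Agent.Char.indFun_apply_one, Agent.Char.apply_one_eq_degree, h1, h0, mul_one] at h2
          exact_mod_cast h2.symm
        have hle := Agent.Char.commutator_le_of_index hm' hcd' S hSi
        have hval : ∀ x : G, extendByZero S lam (x⁻¹ * (a * b * a⁻¹ * b⁻¹) * x) =
            extendByZero S lam (x⁻¹ * 1 * x) := by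
          intro x
          have hn : ∀ y ∈ commutator G, x⁻¹ * y * x ∈ S := fun y hy => hle (by
            simpa using (inferInstance : (commutator G).Normal).conj_mem y hy x⁻¹)
          set a' : S := ⟨_, hn a ha⟩
          set b' : S := ⟨_, hn b hb⟩
          have e1 : x⁻¹ * (a * b * a⁻¹ * b⁻¹) * x = ((a' * b' * a'⁻¹ * b'⁻¹ : S) : G) := by
            simp [a', b', mul_assoc]
          rw [e1, Agent.Char.extendByZero_coe, mul_one, inv_mul_cancel, ← S.coe_one,
            Agent.Char.extendByZero_coe]
          have h2 : lam.toHomUnits (a' * b' * a'⁻¹ * b'⁻¹) = 1 := by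
            simp [map_mul, map_inv, mul_comm]
          rw [h0]
          exact congrArg Units.val h2
        rw [hS]
        simp only [indFun]
        rw [Finset.sum_congr rfl fun x _ => hval x]
    have h1 := Agent.Char.sum_irr_degree_mul (a * b * a⁻¹ * b⁻¹)
    rw [Finset.sum_congr rfl fun χ _ => by rw [hkey χ], ] at h1
    have h2 := Agent.Char.sum_irr_degree_mul (1 : G)
    rw [if_pos rfl, h1] at h2
    split_ifs at h2 with hc
    · rwa [mul_inv_eq_one, mul_inv_eq_iff_eq_mul] at hc
    · exact absurd h2.symm (Nat.cast_ne_zero.2 Nat.card_pos.ne')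

end Cfsg.Agent.S4458
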