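-- Proof of statement S0732.
import Cfsg.Statements.S0732
import Mathlib
import Cfsg.Agent.Lib.Perm.ZassenhausPSL
import Cfsg.Agent.Lib.Perm.SharplyPGL
import Cfsg.Agent.Lib.Perm.ZassenhausEven
import Cfsg.Agent.Lib.Perm.EndField
import Cfsg.Agent.Lib.Perm.RegularNormal
import Cfsg.Agent.Lib.PSL2.PGLHom
import Cfsg.Agent.S0742
import Cfsg.Agent.S0727

set_option autoImplicit false
set_option linter.style.haveILetI false
open Cfsg

namespace Cfsg.Agent.S0732

open MulAction Finset Cfsg.Agent.Perm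

/-- Structure of a point stabiliser. -/
private theorem setup {α : Type*} [Fintype α] [DecidableEq α] {p d : ℕ} (hp : p.Prime)
    (hα : Fintype.card α = p + 1) (G : Subgroup (Equiv.Perm α)) [IsPretransitive G α]
    (hG : Nat.card G = (p + 1) * p * d) (hd : d < p) {a b : α} (hab : a ≠ b) :
    ∃ u : G, orderOf u = p ∧ u • a = a ∧ (∀ x : α, x ≠ a → u • x ≠ x) ∧
      (∀ x : α, x ≠ a → ∃! k : Subgroup.zpowers u, (k : G) • b = x) ∧
      (∀ h : G, h • a = a → h * u * h⁻¹ ∈ Subgroup.zpowers u) ∧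
      Nat.card ↥(stabilizer G a ⊓ stabilizer G b) = d ∧ IsMultiplyPretransitive G α 2 := by
  classical
  haveI := Fact.mk hp
  haveI := Fintype.ofFinite G
  have hS : Nat.card (stabilizer G a) = p * d := by
    have h1 := (stabilizer G a).card_mul_index
    rw [index_stabilizer_of_transitive G a, Nat.card_eq_fintype_card (α := α), hα, hG] at h1
    have : Nat.card (stabilizer G a) * (p + 1) = p * d * (p + 1) := by rw [h1]; ring
    exact Nat.eq_of_mul_eq_mul_right (by omega) this
  obtain ⟨⟨u, hua⟩, huo⟩ := exists_prime_orderOf_dvd_card' p (G := stabilizer G a) (hS ▸ dvd_mul_right p d)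
  rw [Subgroup.orderOf_mk] at huo
  have huo' : orderOf (u : Equiv.Perm α) = p := by rw [Subgroup.orderOf_coe, huo]
  have hcyc : (u : Equiv.Perm α).IsCycle := Equiv.Perm.isCycle_of_prime_order' (by rw [huo']; exact hp) (by
    rw [huo', hα]; have := hp.two_le; omega)
  have hfree : ∀ x : α, x ≠ a → u • x ≠ x := by
    have hsub : (u : Equiv.Perm α).support ⊆ univ.erase a := fun x hx => by
      refine mem_erase.2 ⟨?_, mem_univ _⟩
      rintro rfl
      exact Equiv.Perm.mem_support.1 hx hua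
    have heq := eq_of_subset_of_card_le hsub (by
      rw [← Equiv.Perm.IsCycle.orderOf hcyc, huo', card_erase_of_mem (mem_univ _), card_univ, hα]
      omega)
    intro x hx
    exact Equiv.Perm.mem_support.1 (heq ▸ mem_erase.2 ⟨hx, mem_univ _⟩)
  have hreach : ∀ x : α, x ≠ a → ∃ k : Subgroup.zpowers u, (k : G) • b = x := by
    intro x hx
    obtain ⟨i, hi⟩ := hcyc.exists_zpow_eq (hfree b hab.symm) (hfree x hx)
    exact ⟨⟨u ^ i, i, rfl⟩, by
      show ((u ^ i : G) : Equiv.Perm α) b = x
      rw [SubgroupClass.coe_zpow, hi]⟩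
  have hreg : ∀ x : α, x ≠ a → ∃! k : Subgroup.zpowers u, (k : G) • b = x := by
    have hca : ∀ k : Subgroup.zpowers u, (k : G) • a = a := fun k =>
      (Subgroup.zpowers_le.2 (show u ∈ stabilizer G a from hua)) k.2
    let f : Subgroup.zpowers u → {x : α // x ≠ a} := fun k =>
      ⟨(k : G) • b, fun e => hab.symm (smul_left_cancel _ (e.trans (hca k).symm))⟩
    have hsurj : Function.Surjective f := fun x => by
      obtain ⟨k, hk⟩ := hreach x.1 x.2
      exact ⟨k, Subtype.ext hk⟩
    have hcard : Nat.card {x : α // x ≠ a} = Nat.card (Subgroup.zpowers u) := by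
      rw [Nat.card_zpowers, huo, Nat.card_eq_fintype_card, Fintype.card_subtype_compl,
        Fintype.card_subtype_eq, hα]
      omega
    have hinj : Function.Injective f :=
      (hsurj.bijective_of_nat_card_le hcard.ge).1
    intro x hx
    obtain ⟨k, hk⟩ := hreach x hx
    exact ⟨k, hk, fun k' hk' => hinj (Subtype.ext (hk'.trans hk.symm))⟩
  have hnorm : ∀ h : G, h • a = a → h * u * h⁻¹ ∈ Subgroup.zpowers u := by
    intro h hh
    by_contra hmem
    set v := h * u * h⁻¹ with hv
    have hvo : orderOf v = p := by rw [hv, show h * u * h⁻¹ = MulAut.conj h u from rfl, MulEquiv.orderOf_eq, huo]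
    have hvS : v • a = a := by rw [hv, mul_smul, mul_smul, inv_smul_eq_iff.2 hh.symm, hua, hh]
    let f : Subgroup.zpowers u × Subgroup.zpowers v → stabilizer G a := fun z =>
      ⟨(z.1 : G) * z.2, (stabilizer G a).mul_mem
        (Subgroup.zpowers_le.2 (show u ∈ stabilizer G a from hua) z.1.2)
        (Subgroup.zpowers_le.2 (show v ∈ stabilizer G a from hvS) z.2.2)⟩
    have hf : Function.Injective f := by
      rintro ⟨⟨x, hx⟩, ⟨y, hy⟩⟩ ⟨⟨x', hx'⟩, ⟨y', hy'⟩⟩ e
      have e' : x * y = x' * y' := congrArg Subtype.val e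
      have h1 : x'⁻¹ * x = y' * y⁻¹ := by
        rw [eq_mul_inv_iff_mul_eq, mul_assoc, e', inv_mul_cancel_left]
      have h2 : x'⁻¹ * x = 1 := by
        by_contra hne
        have hzu : x'⁻¹ * x ∈ Subgroup.zpowers u := mul_mem (inv_mem hx') hx
        have hzv : x'⁻¹ * x ∈ Subgroup.zpowers v := h1 ▸ mul_mem hy' (inv_mem hy)
        have hzo : orderOf (x'⁻¹ * x) = p := by
          refine ((Nat.dvd_prime hp).1 ?_).resolve_left fun h => hne (orderOf_eq_one_iff.1 h)
          rw [← huo, ← Nat.card_zpowers u]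
          exact Subgroup.orderOf_dvd_natCard _ hzu
        have e1 : Subgroup.zpowers (x'⁻¹ * x) = Subgroup.zpowers u :=
          Subgroup.eq_of_le_of_card_ge (Subgroup.zpowers_le.2 hzu) (by
            rw [Nat.card_zpowers, Nat.card_zpowers, huo, hzo])
        have e2 : Subgroup.zpowers (x'⁻¹ * x) = Subgroup.zpowers v :=
          Subgroup.eq_of_le_of_card_ge (Subgroup.zpowers_le.2 hzv) (by
            rw [Nat.card_zpowers, Nat.card_zpowers, hvo, hzo])
        exact hmem (e1 ▸ e2 ▸ Subgroup.mem_zpowers v)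
      have h3 : x = x' := (inv_mul_eq_one.1 h2).symm
      subst h3
      have h4 : y = y' := mul_left_cancel e'
      subst h4
      rfl
    have := Nat.card_le_card_of_injective f hf
    rw [Nat.card_prod, Nat.card_zpowers, Nat.card_zpowers, huo, hvo, hS] at this
    exact absurd (Nat.le_of_mul_le_mul_left this hp.pos) (not_le.2 hd)
  have h2 : IsMultiplyPretransitive G α 2 := by
    refine isTwoPretransitive_of_stabilizer a fun x y hx hy => ?_
    obtain ⟨k, hk⟩ := hreach x hx
    obtain ⟨l, hl⟩ := hreach y hy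
    refine ⟨(l : G) * (k : G)⁻¹, ?_, ?_⟩
    · exact (stabilizer G a).mul_mem (Subgroup.zpowers_le.2 (show u ∈ stabilizer G a from hua) l.2)
        ((stabilizer G a).inv_mem (Subgroup.zpowers_le.2 (show u ∈ stabilizer G a from hua) k.2))
    · rw [mul_smul, ← hk, inv_smul_smul, hl]
  refine ⟨u, huo, hua, hfree, hreg, hnorm, ?_, h2⟩
  have hidx : ((stabilizer G b).subgroupOf (stabilizer G a)).index = p := by
    have horb : orbit (stabilizer G a) b = {c | c ≠ a} := by
      ext c
      constructor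
      · rintro ⟨k, rfl⟩ h
        exact hab (smul_left_cancel (k : G) ((mem_stabilizer_iff.1 k.2).trans h.symm))
      · intro hc
        obtain ⟨k, hka, hkb⟩ := exists_smul_eq_two h2 hab (Ne.symm hc)
        exact ⟨⟨k, hka⟩, hkb⟩
    have : (stabilizer G b).subgroupOf (stabilizer G a) = stabilizer (stabilizer G a) b := by
      ext k; simp [Subgroup.mem_subgroupOf, mem_stabilizer_iff, Subgroup.smul_def]
    rw [this, index_stabilizer, horb, Set.ncard_eq_toFinset_card']
    simp [filter_ne', hα]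
  have h3 : Nat.card ((stabilizer G b).subgroupOf (stabilizer G a)) =
      Nat.card ↥(stabilizer G a ⊓ stabilizer G b) := by
    rw [← Subgroup.inf_subgroupOf_right,
      Nat.card_congr (Subgroup.subgroupOfEquivOfLe inf_le_right).toEquiv, inf_comm]
  have h4 := ((stabilizer G b).subgroupOf (stabilizer G a)).card_mul_index
  rw [hidx, h3, hS, mul_comm] at h4
  exact Nat.eq_of_mul_eq_mul_left hp.pos h4

/-- The case of a regular normal subgroup. -/
private theorem affine {α : Type*} [Fintype α] [DecidableEq α] {p d : ℕ} (hp : p.Prime) (hp2 : p ≠ 2)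
    (hα : Fintype.card α = p + 1) (G : Subgroup (Equiv.Perm α)) {a b : α} (hab : a ≠ b) {u : G}
    (huo : orderOf u = p) (hua : u • a = a)
    (hreg : ∀ x : α, x ≠ a → ∃! k : Subgroup.zpowers u, (k : G) • b = x)
    (hnorm : ∀ h : G, h • a = a → h * u * h⁻¹ ∈ Subgroup.zpowers u)
    (hD : Nat.card ↥(stabilizer G a ⊓ stabilizer G b) = d) (h2 : IsMultiplyPretransitive G α 2)
    (M : Subgroup G) [M.Normal] [IsPretransitive M α] (hMreg : ∀ x : α, stabilizer M x = ⊥) :
    ∃ q : ℕ, q.Prime ∧ p + 1 = 2 ^ q ∧ (d = 1 ∨ d = q) ∧ ∃ e : α ≃ GaloisField 2 q,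
      ∀ g : G, (e.symm.trans (((g : Equiv.Perm α)).trans e)) ∈ Cfsg.semiaffineGroup (GaloisField 2 q) := by
  classical
  haveI : Nontrivial α := ⟨⟨a, b, hab⟩⟩
  obtain ⟨r, q, hr, hq1, hcα, hcM, hMc, hMexp⟩ := regular_normal_elementary_abelian h2 hMreg
  rw [Nat.card_eq_fintype_card, hα] at hcα
  have hr2 : r = 2 := by
    by_contra h
    have : Odd (p + 1) := hcα ▸ (hr.odd_of_ne_two h).pow
    rw [Nat.odd_add_one] at this
    exact this (hp.odd_of_ne_two hp2)
  subst hr2
  have hq : q.Prime := by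
    refine (Nat.prime_of_pow_sub_one_prime (a := 2) ?_ ?_).2
    · rintro rfl
      have := hp.two_le
      simp at hcα; omega
    · rwa [← hcα, Nat.add_sub_cancel]
  refine ⟨q, hq, hcα, ?_⟩
  letI : CommGroup M := { (inferInstance : Group M) with mul_comm := hMc.is_comm.comm }
  let act : G →* MulAut M := MulAut.conjNormal
  have hact : ∀ (g : G) (m : M), g • a = a → ((act g m : M) : G) • a = g • (m : G) • a := by
    intro g m hg
    rw [MulAut.conjNormal_apply]
    exact conj_smul_eq hg _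
  have hMbij : ∀ x : α, ∃! m : M, (m : G) • a = x := by
    intro x
    obtain ⟨m, hm⟩ := exists_smul_eq M a x
    exact ⟨m, hm, fun m' hm' => Subtype.ext (eq_of_smul_eq (hMreg a) m'.2 m.2 (hm'.trans hm.symm))⟩
  have hua' : ∀ k ∈ Subgroup.zpowers u, k • a = a := fun k hk =>
    Subgroup.zpowers_le.2 (show u ∈ stabilizer G a from hua) hk
  obtain ⟨mb, hmb, -⟩ := hMbij b
  have hmb1 : mb ≠ 1 := fun e => hab (by rw [← hmb, e, Subgroup.coe_one, one_smul])
  have hM1 : ∀ m : M, m ≠ 1 → (m : G) • a ≠ a := fun m hm e => hm <| Subtype.ext <|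
    stabilizer_subgroup_eq_bot_iff.1 (hMreg a) m m.2 e
  -- the orbit of `mb` under `u` is everything but `1`
  have horb : ∀ m : M, m ≠ 1 → ∃ k ∈ Subgroup.zpowers u, act k mb = m := by
    intro m hm
    obtain ⟨k, hk, -⟩ := hreg _ (hM1 m hm)
    refine ⟨k, k.2, Subtype.ext (eq_of_smul_eq (hMreg a) (act k mb).2 m.2 ?_)⟩
    rw [hact _ _ (hua' k k.2), hmb, hk]
  obtain ⟨F, _, _, θ, hθ0, hθ1, hθadd, hθS⟩ :=
    exists_field_of_irreducible (Set.range fun k : Subgroup.zpowers u => act (k : G))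
      (by
        rintro _ ⟨k, rfl⟩ _ ⟨k', rfl⟩ x
        show act (k : G) (act (k' : G) x) = act (k' : G) (act (k : G) x)
        rw [← MulAut.mul_apply, ← MulAut.mul_apply, ← map_mul, ← map_mul]
        congr 2
        exact congrArg Subtype.val (IsCyclic.commGroup.mul_comm k k'))
      (by
        intro L hL
        refine (em (L = ⊥)).imp id fun hne => eq_top_iff.2 fun m _ => ?_
        obtain ⟨l, hl, hl1⟩ := L.bot_or_exists_ne_one.resolve_left hne
        rcases eq_or_ne m 1 with rfl | hm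
        · exact L.one_mem
        obtain ⟨k, hk, rfl⟩ := horb l hl1
        obtain ⟨k', hk', rfl⟩ := horb m hm
        have := hL _ ⟨⟨k' * k⁻¹, mul_mem hk' (inv_mem hk)⟩, rfl⟩ _ hl
        rwa [show act (k' * k⁻¹) (act k mb) = act k' mb by
          rw [← MulAut.mul_apply, ← map_mul, inv_mul_cancel_right]] at this) hmb1
  have hcardF : Fintype.card F = 2 ^ q := by
    rw [Fintype.card_congr θ, ← Nat.card_eq_fintype_card, hcM]
  obtain ⟨ζ, hζ0, hζ⟩ := hθS _ ⟨⟨u, Subgroup.mem_zpowers u⟩, rfl⟩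
  have hζi : ∀ (i : ℕ) (x : F), act (u ^ i) (θ x) = θ (ζ ^ i * x) := by
    intro i
    induction i with
    | zero => intro x; simp
    | succ i ih => intro x; rw [pow_succ, map_mul, MulAut.mul_apply, hζ, ih, pow_succ, mul_assoc]
  have hgen : ∀ y : F, y ≠ 0 → ∃ i : ℕ, y = ζ ^ i := by
    intro y hy
    obtain ⟨k, hk, hk'⟩ := horb (θ y) (fun e => hy (θ.injective (by rw [e, hθ0])))
    obtain ⟨i, rfl⟩ := (IsOfFinOrder.mem_powers_iff_mem_zpowers (isOfFinOrder_of_finite u)).2 hk
    refine ⟨i, θ.injective ?_⟩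
    rw [← hk', ← hθ1, hζi, mul_one]
  -- elements of the two-point stabiliser are field automorphisms
  have hauto : ∀ h : G, h • a = a → h • b = b → ∃ φ : F ≃+* F, ∀ x, act h (θ x) = θ (φ x) := by
    intro h ha hb
    obtain ⟨φ, hφ⟩ : ∃ φ : F → F, ∀ x, act h (θ x) = θ (φ x) :=
      ⟨fun x => θ.symm (act h (θ x)), fun x => (Equiv.apply_symm_apply θ _).symm⟩
    have hadd : ∀ x y, φ (x + y) = φ x + φ y := fun x y => θ.injective (by
      rw [hθadd, ← hφ, ← hφ, ← hφ, hθadd, map_mul])
    have h1 : φ 1 = 1 := θ.injective (by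
      rw [← hφ, hθ1]
      exact Subtype.ext (eq_of_smul_eq (hMreg a) (act h mb).2 mb.2 (by rw [hact _ _ ha, hmb, hb])))
    have h0 : φ 0 = 0 := θ.injective (by rw [← hφ, hθ0, map_one])
    obtain ⟨k, hk⟩ := (IsOfFinOrder.mem_powers_iff_mem_zpowers (isOfFinOrder_of_finite u)).2 (hnorm h ha)
    have hk' : h * u = u ^ k * h := by
      rw [show u ^ k = h * u * h⁻¹ from hk, inv_mul_cancel_right]
    have hζk : ∀ x, φ (ζ * x) = ζ ^ k * φ x := fun x => θ.injective (by
      rw [← hφ, ← hζ, ← hζi, ← hφ]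
      show act h (act u (θ x)) = act (u ^ k) (act h (θ x))
      rw [← MulAut.mul_apply, ← MulAut.mul_apply, ← map_mul, ← map_mul, hk'])
    have hpow : ∀ (i : ℕ) (x : F), φ (ζ ^ i * x) = ζ ^ (k * i) * φ x := by
      intro i
      induction i with
      | zero => intro x; simp
      | succ i ih =>
        intro x
        rw [pow_succ, mul_assoc, ih, hζk, ← mul_assoc, ← pow_add]
        congr 2
    have hmul : ∀ x y, φ (x * y) = φ x * φ y := by
      intro x y
      rcases eq_or_ne x 0 with rfl | hx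
      · rw [zero_mul, h0, zero_mul]
      obtain ⟨i, rfl⟩ := hgen x hx
      rw [hpow, show φ (ζ ^ i) = ζ ^ (k * i) by rw [← mul_one (ζ ^ i), hpow, h1, mul_one]]
    have hinj : Function.Injective φ := fun x y e => θ.injective ((act h).injective (by rw [hφ, hφ, e]))
    exact ⟨{ Equiv.ofBijective φ (Finite.injective_iff_bijective.1 hinj) with
      map_mul' := hmul, map_add' := hadd }, hφ⟩
  haveI : Fintype (GaloisField 2 q) := Fintype.ofFinite _
  have hcG : Fintype.card F = Fintype.card (GaloisField 2 q) := by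
    rw [hcardF, ← Nat.card_eq_fintype_card, GaloisField.card 2 q hq.ne_zero]
  let ι : F ≃+* GaloisField 2 q := FiniteField.ringEquivOfCardEq hcG
  constructor
  · -- the two-point stabiliser embeds in the automorphism group
    set D := stabilizer G a ⊓ stabilizer G b
    choose φ hφ using fun h : D => hauto h h.2.1 h.2.2
    have hφmul : ∀ h h' : D, φ (h * h') = (φ h' : F ≃+* F).trans (φ h) := fun h h' =>
      RingEquiv.ext fun x => θ.injective (by
        rw [← hφ, Subgroup.coe_mul, map_mul, MulAut.mul_apply, hφ, hφ]; rfl)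
    have hφinj : Function.Injective φ := by
      intro h h' e
      have : ∀ x : α, (h : G) • x = (h' : G) • x := by
        intro x
        obtain ⟨m, hm, -⟩ := hMbij x
        rw [← hm, ← θ.apply_symm_apply m, ← hact _ _ h.2.1, ← hact _ _ h'.2.1, hφ, hφ, e]
      exact Subtype.ext (FaithfulSMul.eq_of_smul_eq_smul (α := α) this)
    let conjι : (F ≃+* F) → (GaloisField 2 q ≃ₐ[ZMod 2] GaloisField 2 q) := fun f =>
      AlgEquiv.ofRingEquiv (f := (ι.symm.trans f).trans ι) (fun x =>
        RingHom.congr_fun (Subsingleton.elim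
          ((((ι.symm.trans f).trans ι : GaloisField 2 q ≃+* GaloisField 2 q) : GaloisField 2 q →+* GaloisField 2 q).comp
            (algebraMap (ZMod 2) (GaloisField 2 q))) (algebraMap (ZMod 2) (GaloisField 2 q))) x)
    let Φ : D →* (GaloisField 2 q ≃ₐ[ZMod 2] GaloisField 2 q) :=
      MonoidHom.mk' (fun h => conjι (φ h)) fun h h' => AlgEquiv.ext fun x => by
        show ι (φ (h * h') (ι.symm x)) = ι (φ h (ι.symm (ι (φ h' (ι.symm x)))))
        rw [hφmul, RingEquiv.trans_apply, RingEquiv.symm_apply_apply]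
    have hΦ : Function.Injective Φ := fun h h' e => hφinj (RingEquiv.ext fun x => ι.injective (by
      have := AlgEquiv.congr_fun e (ι x)
      change ι (φ h (ι.symm (ι x))) = ι (φ h' (ι.symm (ι x))) at this
      rwa [RingEquiv.symm_apply_apply] at this))
    have hdvd := Subgroup.card_dvd_of_injective Φ hΦ
    rw [hD, IsGalois.card_aut_eq_finrank, GaloisField.finrank 2 hq.ne_zero] at hdvd
    exact (Nat.dvd_prime hq).1 hdvd
  -- semiaffine maps
  have hpt : Function.Bijective fun x : F => (θ x : G) • a := by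
    refine ⟨fun x y e => θ.injective ((hMbij _).unique rfl e.symm), fun x => ?_⟩
    obtain ⟨m, hm, -⟩ := hMbij x
    exact ⟨θ.symm m, by simpa using hm⟩
  let e : α ≃ GaloisField 2 q := (Equiv.ofBijective _ hpt).symm.trans ι.toEquiv
  refine ⟨e, fun g => ?_⟩
  obtain ⟨m, hm, -⟩ := hMbij (g • a)
  set g₀ := (m : G)⁻¹ * g with hg₀
  have hg₀a : g₀ • a = a := by rw [hg₀, mul_smul, inv_smul_eq_iff, hm]
  obtain ⟨k, hk, -⟩ := hreg (g₀ • b) (fun h => hab.symm (smul_left_cancel g₀ (h.trans hg₀a.symm)))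
  obtain ⟨i, hi⟩ := (IsOfFinOrder.mem_powers_iff_mem_zpowers (isOfFinOrder_of_finite u)).2 k.2
  set h := (k : G)⁻¹ * g₀ with hh
  have hha : h • a = a := by rw [hh, mul_smul, hg₀a, inv_smul_eq_iff, hua' _ k.2]
  have hhb : h • b = b := by rw [hh, mul_smul, inv_smul_eq_iff, hk]
  obtain ⟨φ, hφ⟩ := hauto h hha hhb
  have hgx : ∀ x : F, g • (θ x : G) • a = (θ (θ.symm m + ζ ^ i * φ x) : G) • a := by
    intro x
    rw [hθadd, θ.apply_symm_apply, Subgroup.coe_mul, mul_smul, ← hζi, show u ^ i = (k : G) from hi,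
      hact _ _ (hua' _ k.2), ← hφ, hact _ _ hha, ← mul_smul (k : G), hh, mul_inv_cancel_left, hg₀,
      ← mul_smul (m : G), mul_inv_cancel_left]
  refine ⟨Units.mk0 (ι (ζ ^ i)) (fun h0 => pow_ne_zero i hζ0 (ι.injective (h0.trans (map_zero ι).symm))),
    ι (θ.symm m), (ι.symm.trans φ).trans ι, fun y => ?_⟩
  show e ((g : Equiv.Perm α) (e.symm y)) = _
  rw [← Equiv.eq_symm_apply]
  have hes : ∀ z, e.symm z = (θ (ι.symm z) : G) • a := fun z => rfl
  rw [hes, hes]
  show g • (θ (ι.symm y) : G) • a = _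
  rw [hgx]
  simp only [map_add, map_mul, Units.val_mk0, RingEquiv.trans_apply, RingEquiv.symm_apply_apply]
  rw [add_comm]

/-- A transitive permutation group on `p + 1` points (`p` prime) of order `(p+1) p d` with `d < p` is isomorphic to `PGL(2,p)` with `d = p - 1`, or to `PSL(2,p)` with `2d = p - 1`, or else `p + 1 = 2^q` for a prime `q`, `d = 1` or `d = q`, and the group is permutation-isomorphic to a group of semi-affine maps `x ↦ a φ(x) + b` of the field with `2^q` elements. -/
theorem result {α : Type*} [Fintype α] [DecidableEq α] {p d : ℕ} (hp : p.Prime) (hα : Fintype.card α = p + 1) (G : Subgroup (Equiv.Perm α)) [MulAction.IsPretransitive G α] (hG : Nat.card G = (p + 1) * p * d) (hd : d < p) : (d = p - 1 ∧ Nonempty (G ≃* Matrix.ProjGenLinGroup (Fin 2) (ZMod p))) ∨ (2 * d = p - 1 ∧ Nonempty (G ≃* Matrix.ProjectiveSpecialLinearGroup (Fin 2) (ZMod p))) ∨ (∃ q : ℕ, q.Prime ∧ p + 1 = 2 ^ q ∧ (d = 1 ∨ d = q) ∧ ∃ e : α ≃ GaloisField 2 q, ∀ g : G, (e.symm.trans (((g : Equiv.Perm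 α)).trans e)) ∈ Cfsg.semiaffineGroup (GaloisField 2 q)) := by
  classical
  haveI := Fact.mk hp
  haveI := Fintype.ofFinite G
  have h2le := hp.two_le
  obtain ⟨a, b, hab⟩ := Fintype.exists_pair_of_one_lt_card (α := α) (by omega)
  obtain ⟨u, huo, hua, hfree, hreg, hnorm, hD, h2⟩ := setup hp hα G hG hd hab
  have hdpos : 0 < d := hD ▸ Nat.card_pos
  have hfield : ∀ (K : Type) (_ : Field K) (_ : Fintype K), Fintype.card K = p →
      Nonempty (K ≃+* ZMod p) := fun K _ _ hK => ⟨(ZMod.ringEquivOfPrime K hp hK).symm⟩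
  by_cases hp2 : p = 2
  · -- degree three
    subst hp2
    have hd1 : d = 1 := by omega
    subst hd1
    have htop : G = ⊤ := Subgroup.eq_top_of_card_eq G (by
      rw [hG, Nat.card_perm, Nat.card_eq_fintype_card, hα]; rfl)
    have h3 : IsMultiplyPretransitive G α 3 := by
      refine isMultiplyPretransitive_of_forall fun x y hx hy => ?_
      have hbx := (Fintype.bijective_iff_injective_and_card x).2 ⟨hx, by simp [hα]⟩
      have hby := (Fintype.bijective_iff_injective_and_card y).2 ⟨hy, by simp [hα]⟩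
      exact ⟨⟨(Equiv.ofBijective x hbx).symm.trans (Equiv.ofBijective y hby), htop ▸ Subgroup.mem_top _⟩,
        fun i => by
          show y ((Equiv.ofBijective x hbx).symm (x i)) = y i
          rw [Equiv.ofBijective_symm_apply_apply x hbx i]⟩
    have hsharp : ∀ t : Fin 3 ↪ α, stabilizer G t = ⊥ := by
      intro t
      rw [Subgroup.eq_bot_iff_forall]
      intro g hg
      refine Subtype.ext (Equiv.ext fun x => ?_)
      obtain ⟨i, rfl⟩ := ((Fintype.bijective_iff_injective_and_card t).2 ⟨t.injective, by simp [hα]⟩).2 x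
      exact congrArg (fun e : Fin 3 ↪ α => e i) hg
    obtain ⟨F, _, _, hF, ⟨iso⟩⟩ :=
      S0727.result (f := 1) le_rfl (by rw [hα]; rfl) G h3 hsharp
    obtain ⟨ε⟩ := hfield F inferInstance inferInstance (by simpa using hF)
    exact Or.inl ⟨rfl, ⟨iso.trans (PSL2.pglCongr ε)⟩⟩
  by_cases hregnormal : ∃ M : Subgroup G, M.Normal ∧ IsPretransitive M α ∧ ∀ x : α, stabilizer M x = ⊥
  · obtain ⟨M, hMn, hMt, hMreg⟩ := hregnormal
    exact Or.inr (Or.inr (affine hp hp2 hα G hab huo hua hreg hnorm hD h2 M hMreg))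
  haveI : Nontrivial α := ⟨⟨a, b, hab⟩⟩
  haveI := h2
  have hca : ∀ k ∈ Subgroup.zpowers u, k • a = a := fun k hk =>
    Subgroup.zpowers_le.2 (show u ∈ stabilizer G a from hua) hk
  -- three fixed points
  have hthree : ∀ (g : G) (x y z : α), x ≠ y → y ≠ z → x ≠ z → g • x = x → g • y = y → g • z = z →
      g = 1 := by
    intro g x y z hxy hyz hxz hx hy hz
    obtain ⟨t, htx, hty⟩ := exists_smul_eq_two h2 hab hxy
    set h := t⁻¹ * g * t with hh
    have hha : h • a = a := by rw [hh, mul_smul, mul_smul, htx, hx, ← htx, inv_smul_smul]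
    have hhb : h • b = b := by rw [hh, mul_smul, mul_smul, hty, hy, ← hty, inv_smul_smul]
    have hc : t⁻¹ • z ≠ a := fun e => hxz (by rw [← htx, ← e, smul_inv_smul])
    have hcb : t⁻¹ • z ≠ b := fun e => hyz (by rw [← hty, ← e, smul_inv_smul])
    obtain ⟨k, hk, -⟩ := hreg _ hc
    have hhc : h • (k : G) • b = (k : G) • b := by
      rw [hk, hh, mul_smul, mul_smul, smul_inv_smul, hz]
    have hk1 : (k : G) ≠ 1 := fun e => hcb (by rw [← hk, e, one_smul])
    have hhu : ∀ l ∈ Subgroup.zpowers u, h * l * h⁻¹ ∈ Subgroup.zpowers u := by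
      intro l hl
      obtain ⟨i, rfl⟩ := Subgroup.mem_zpowers_iff.1 hl
      rw [← conj_zpow]
      exact Subgroup.zpow_mem _ (hnorm h hha) i
    have hcomm : h * (k : G) * h⁻¹ = k := by
      obtain ⟨v, -, huniq⟩ := hreg ((k : G) • b) (by rw [hk]; exact hc)
      refine congrArg Subtype.val ((huniq ⟨_, hhu k k.2⟩ ?_).trans (huniq k rfl).symm)
      show (h * (k : G) * h⁻¹) • b = _
      rw [mul_smul, inv_smul_eq_iff.2 hhb.symm, mul_smul, hhc]
    have hgen : Subgroup.zpowers (k : G) = Subgroup.zpowers u := by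
      refine Subgroup.eq_of_le_of_card_ge (Subgroup.zpowers_le.2 k.2) ?_
      rw [Nat.card_zpowers, Nat.card_zpowers, huo]
      refine le_of_eq ((Nat.dvd_prime hp).1 ?_ |>.resolve_left fun h => hk1 (orderOf_eq_one_iff.1 h)).symm
      rw [← huo, ← Nat.card_zpowers u]
      exact Subgroup.orderOf_dvd_natCard _ k.2
    have hhall : ∀ l ∈ Subgroup.zpowers u, h * l = l * h := by
      intro l hl
      rw [← hgen] at hl
      obtain ⟨i, rfl⟩ := Subgroup.mem_zpowers_iff.1 hl
      exact ((show Commute h (k : G) from mul_inv_eq_iff_eq_mul.1 hcomm).zpow_right i).eq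
    have h1 : h = 1 := FaithfulSMul.eq_of_smul_eq_smul (α := α) fun w => by
      rw [one_smul]
      rcases eq_or_ne w a with rfl | hw
      · exact hha
      obtain ⟨l, hl, -⟩ := hreg w hw
      rw [← hl, ← mul_smul, hhall _ l.2, mul_smul, hhb]
    rwa [hh, mul_assoc, inv_mul_eq_one, eq_comm, mul_eq_right] at h1
  have hd2 : 2 ≤ d := by
    by_contra hlt
    have hd1 : d = 1 := by omega
    have hsh : ∀ x : Fin 2 ↪ α, stabilizer G x = ⊥ := by
      intro x
      rw [Subgroup.eq_bot_iff_forall]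
      intro g hg
      obtain ⟨t, t0, t1⟩ := exists_smul_eq_two h2 hab (x.injective.ne (by decide : (0 : Fin 2) ≠ 1))
      have hmem : t⁻¹ * g * t ∈ stabilizer G a ⊓ stabilizer G b := by
        constructor
        · show (t⁻¹ * g * t) • a = a
          rw [mul_smul, mul_smul, t0, show g • x 0 = x 0 from congrArg (fun e : Fin 2 ↪ α => e 0) hg,
            ← t0, inv_smul_smul]
        · show (t⁻¹ * g * t) • b = b
          rw [mul_smul, mul_smul, t1, show g • x 1 = x 1 from congrArg (fun e : Fin 2 ↪ α => e 1) hg,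
            ← t1, inv_smul_smul]
      rw [Subgroup.card_eq_one.1 (hD.trans hd1), Subgroup.mem_bot, mul_assoc, inv_mul_eq_one, eq_comm,
        mul_eq_right] at hmem
      exact hmem
    obtain ⟨M, hMn, hMt, hMs, -⟩ := exists_kernel_of_sharply_two hsh
    exact hregnormal ⟨M, hMn, hMt, hMs⟩
  have hZ : Cfsg.IsZassenhausGroup G α := by
    refine ⟨inferInstance, h2, fun g x y z h h' h'' => hthree g x y z h h' h'', ?_, fun N hN hNt => ?_⟩
    · haveI : Nontrivial ↥(stabilizer G a ⊓ stabilizer G b) :=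
        Finite.one_lt_card_iff_nontrivial.1 (by rw [hD]; omega)
      obtain ⟨g, hg⟩ := exists_ne (1 : ↥(stabilizer G a ⊓ stabilizer G b))
      exact ⟨g, fun e => hg (Subtype.ext e), a, b, hab, g.2.1, g.2.2⟩
    · by_contra h
      push Not at h
      exact hregnormal ⟨N, hN, hNt, h⟩
  have hHcard : Nat.card (Subgroup.zpowers u) + 1 = Fintype.card α := by
    rw [Nat.card_zpowers, huo, hα]
  have hHfix : ∀ v ∈ Subgroup.zpowers u, v ≠ 1 → ∀ c : α, v • c = c → c = a := by
    intro v hv hv1 c hc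
    by_contra hca'
    obtain ⟨k, hk, -⟩ := hreg c hca'
    obtain ⟨w, -, hw⟩ := hreg ((k : G) • b) (by rw [hk]; exact hca')
    have e : (⟨v * k, mul_mem hv k.2⟩ : Subgroup.zpowers u) = k := by
      refine (hw _ ?_).trans (hw k rfl).symm
      show (v * (k : G)) • b = _
      rw [mul_smul, hk, hc]
    exact hv1 (mul_eq_right.1 (congrArg Subtype.val e))
  have hHc : ∀ x ∈ Subgroup.zpowers u, ∀ y ∈ Subgroup.zpowers u, x * y = y * x := fun x hx y hy =>
    congrArg Subtype.val (IsCyclic.commGroup.mul_comm (⟨x, hx⟩ : Subgroup.zpowers u) ⟨y, hy⟩)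
  have hpodd := hp.odd_of_ne_two hp2
  have hdd : d ∣ p - 1 := by
    have := ZassEven.card_stab_dvd hZ hab
    rwa [hD, hα, show p + 1 - 2 = p - 1 by omega] at this
  have hpsl : 2 * d = p - 1 →
      Nonempty (G ≃* Matrix.ProjectiveSpecialLinearGroup (Fin 2) (ZMod p)) := by
    intro h
    rcases Nat.even_or_odd d with he | ho
    · obtain ⟨p', f, K, iK, iK', hp', -, hcK, hcα, ⟨iso⟩⟩ :=
        S0742.result hZ hab (by rw [hD]; exact he) (by rw [hD, hα]; omega)
      obtain ⟨ε⟩ := hfield K iK iK' (by omega)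
      exact ⟨iso.trans (PSL2.pslCongr ε)⟩
    · obtain ⟨K, iK, iK', -, hcK, ⟨iso⟩⟩ := ZassPSL.psl_of_odd hZ hab
        (by show Odd (Nat.card ↥(stabilizer G a ⊓ stabilizer G b)); rw [hD]; exact ho) hca hHcard hHfix
        hHc (by show 2 * Nat.card ↥(stabilizer G a ⊓ stabilizer G b) = _; rw [hD, hα]; omega)
      obtain ⟨ε⟩ := hfield K iK iK' (by omega)
      exact ⟨iso.trans (PSL2.pslCongr ε)⟩
  have hlarge : p - 1 ≤ 2 * d := by
    rcases Nat.even_or_odd d with he | ho
    · have := Zass.degree_le_of_even hZ hab (by rw [hD]; exact he)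
      rw [hD, hα] at this; omega
    · have h1 : Fintype.card α - 2 ∣ 2 * Nat.card ↥(stabilizer G a ⊓ stabilizer G b) :=
        ZassenhausOdd.dvd_two_mul_of_abelian hZ hab
          (by show Odd (Nat.card ↥(stabilizer G a ⊓ stabilizer G b)); rw [hD]; exact ho) hca hHcard hHfix hHc
      rw [hD, hα] at h1
      have := Nat.le_of_dvd (by omega) h1
      omega
  obtain ⟨c, hc⟩ := hdd
  rcases c with _ | _ | _ | c
  · omega
  · -- sharply three-transitive
    refine Or.inl ⟨by omega, ?_⟩
    have h3 : IsMultiplyPretransitive G α 3 := by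
      refine isMultiplyPretransitive_of_forall fun y z hy hz => ?_
      have key : ∀ w w' : α, w ≠ a → w ≠ b → w' ≠ a → w' ≠ b →
          ∃ g : G, g • a = a ∧ g • b = b ∧ g • w = w' := by
        intro w w' hwa hwb hwa' hwb'
        let f : ↥(stabilizer G a ⊓ stabilizer G b) → {c : α // c ≠ a ∧ c ≠ b} :=
          fun g => ⟨(g : G) • w,
            fun e => hwa (smul_left_cancel (g : G) (e.trans (show (g : G) • a = a from g.2.1).symm)),
            fun e => hwb (smul_left_cancel (g : G) (e.trans (show (g : G) • b = b from g.2.2).symm))⟩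
        have hf : Function.Injective f := by
          intro g g' e
          have e' : (g : G) • w = (g' : G) • w := congrArg Subtype.val e
          refine Subtype.ext (inv_mul_eq_one.1 (hthree _ a b w hab hwb.symm hwa.symm ?_ ?_ ?_)).symm
          · rw [mul_smul, (show (g : G) • a = a from g.2.1), inv_smul_eq_iff]; exact (show (g' : G) • a = a from g'.2.1).symm
          · rw [mul_smul, (show (g : G) • b = b from g.2.2), inv_smul_eq_iff]; exact (show (g' : G) • b = b from g'.2.2).symm
          · rw [mul_smul, e', inv_smul_smul]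
        have hcard : Nat.card {c : α // c ≠ a ∧ c ≠ b} = p - 1 := by
          rw [Nat.subtype_card ((univ.erase a).erase b) (fun c => by simp [and_comm]),
            card_erase_of_mem (by simp [hab.symm]), card_erase_of_mem (mem_univ _), card_univ, hα]
          omega
        obtain ⟨g, hg⟩ := (hf.bijective_of_nat_card_le (by rw [hcard, hD]; omega)).2 ⟨w', hwa', hwb'⟩
        exact ⟨g, g.2.1, g.2.2, congrArg Subtype.val hg⟩
      obtain ⟨g₁, h1a, h1b⟩ := exists_smul_eq_two h2 (hy.ne (by decide : (0 : Fin 3) ≠ 1)) hab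
      obtain ⟨g₂, h2a, h2b⟩ := exists_smul_eq_two h2 (hz.ne (by decide : (0 : Fin 3) ≠ 1)) hab
      obtain ⟨g, hga, hgb, hgc⟩ := key (g₁ • y 2) (g₂ • z 2)
        (fun e => hy.ne (by decide : (2 : Fin 3) ≠ 0) (smul_left_cancel g₁ (e.trans h1a.symm)))
        (fun e => hy.ne (by decide : (2 : Fin 3) ≠ 1) (smul_left_cancel g₁ (e.trans h1b.symm)))
        (fun e => hz.ne (by decide : (2 : Fin 3) ≠ 0) (smul_left_cancel g₂ (e.trans h2a.symm)))
        (fun e => hz.ne (by decide : (2 : Fin 3) ≠ 1) (smul_left_cancel g₂ (e.trans h2b.symm)))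
      refine ⟨g₂⁻¹ * g * g₁, fun i => ?_⟩
      rw [mul_smul, mul_smul, inv_smul_eq_iff]
      fin_cases i
      · simp [h1a, h2a, hga]
      · simp [h1b, h2b, hgb]
      · simpa using hgc
    have hsharp : ∀ t : Fin 3 ↪ α, stabilizer G t = ⊥ := by
      intro t
      rw [Subgroup.eq_bot_iff_forall]
      intro g hg
      have hfix : ∀ i, g • t i = t i := fun i => congrArg (fun e : Fin 3 ↪ α => e i) hg
      exact hthree g _ _ _ (t.injective.ne (by decide : (0 : Fin 3) ≠ 1))
        (t.injective.ne (by decide : (1 : Fin 3) ≠ 2)) (t.injective.ne (by decide : (0 : Fin 3) ≠ 2))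
        (hfix 0) (hfix 1) (hfix 2)
    obtain ⟨F, _, _, hF, ⟨iso⟩⟩ :=
      pgl_of_sharply_three h3 hsharp hp hp2 odd_one (by rw [pow_one]; exact hα)
    obtain ⟨ε⟩ := hfield F inferInstance inferInstance (by rw [hF, pow_one])
    exact ⟨iso.trans (PSL2.pglCongr ε)⟩
  · exact Or.inr (Or.inl ⟨by omega, hpsl (by omega)⟩)
  · exfalso
    have h4 := Nat.mul_le_mul_left d (show 3 ≤ c + 1 + 1 + 1 by omega)
    omega

end Cfsg.Agent.S0732
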