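import Cfsg.Statements.S1190
import Cfsg.Agent.Lib.TwoGroups.QuasiDihedralSub

set_option autoImplicit false
open Cfsg

namespace Cfsg.Agent.S1190

/-- In a quasi-dihedral 2-group S, any two Klein four-subgroups are conjugate, and every Klein four-subgroup T satisfies C_S(T) = T and |N_S(T) : T| = 2. -/
theorem result {S : Type*} [Group S] [Finite S] (hS : Cfsg.IsQuasiDihedral S) : (∀ T₁ T₂ : Subgroup S, IsKleinFour T₁ → IsKleinFour T₂ → ∃ s : S, T₁.map (MulAut.conj s).toMonoidHom = T₂) ∧ (∀ T : Subgroup S, IsKleinFour T → Subgroup.centralizer (T : Set S) = T ∧ T.relIndex (Subgroup.normalizer (T : Set S)) = 2) := by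
  obtain ⟨x, y, m, h⟩ := TwoGroups.exists_qdGen hS
  refine ⟨fun T₁ T₂ hT₁ hT₂ => ?_, fun T hT => ?_⟩
  · obtain ⟨e₁, he₁, rfl⟩ := h.exists_part_of_kleinFour T₁
    obtain ⟨e₂, he₂, rfl⟩ := h.exists_part_of_kleinFour T₂
    exact h.exists_map_part _ (dvd_sub he₂ he₁)
  · obtain ⟨e, he, rfl⟩ := h.exists_part_of_kleinFour T
    have hk' : 2 * 2 ^ m ∣ 4 * 2 ^ m := ⟨2, by ring⟩
    refine ⟨le_antisymm ?_ ?_, ?_⟩
    · intro g hg
      have h1 := Subgroup.mem_centralizer_iff.1 hg (x ^ e * y) ((h.xy_mem_part _).2 (by simp))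
      obtain ⟨i, rfl | rfl⟩ := h.exists_form g
      · rw [h.xy_mul_x, TwoGroups.QDGen.x_mul_xy, h.xy_eq_iff] at h1
        refine (h.x_mem_part _).2 ?_
        push_cast
        refine h.dvd_of_fixed ?_
        convert h1 using 1
        ring
      · rw [h.xy_mul_xy, h.xy_mul_xy, h.zpow_eq_iff] at h1
        refine (h.xy_mem_part _).2 ?_
        push_cast
        refine h.dvd_of_fixed ?_
        convert h1 using 1
        ring
    · intro g hg
      rw [Subgroup.mem_centralizer_iff]
      intro a ha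
      have := Monoid.exponent_dvd_iff_forall_pow_eq_one.1
        (dvd_of_eq hT.exponent_two)
      have sq : ∀ b ∈ h.part _ (TwoGroups.QDGen.dvd_four_self m) e, b * b = 1 := fun b hb => by
        have := congrArg Subtype.val (this ⟨b, hb⟩)
        simpa [pow_two] using this
      have inv : ∀ b ∈ h.part _ (TwoGroups.QDGen.dvd_four_self m) e, b⁻¹ = b := fun b hb =>
        inv_eq_of_mul_eq_one_right (sq b hb)
      calc a * g = (a * g)⁻¹ := (inv _ (mul_mem ha hg)).symm
        _ = g * a := by rw [mul_inv_rev, inv a ha, inv g hg]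
    · rw [h.normalizer_part _ hk' (by ring)]
      exact h.relIndex_part _ hk' (by ring)

end Cfsg.Agent.S1190
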