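import Cfsg.Statements.S1191
import Cfsg.Agent.Lib.TwoGroups.QuasiDihedralSub

set_option autoImplicit false
open Cfsg

namespace Cfsg.Agent.S1191

/-- In a quasi-dihedral 2-group S, any two subgroups isomorphic to the quaternion group of order 8 are conjugate, and each such subgroup Q satisfies C_S(Q) = Z(Q) and |N_S(Q) : Q| = 2. -/
theorem result {S : Type*} [Group S] [Finite S] (hS : Cfsg.IsQuasiDihedral S) : (∀ Q₁ Q₂ : Subgroup S, Nonempty (Q₁ ≃* QuaternionGroup 2) → Nonempty (Q₂ ≃* QuaternionGroup 2) → ∃ s : S, Q₁.map (MulAut.conj s).toMonoidHom = Q₂) ∧ (∀ Q : Subgroup S, Nonempty (Q ≃* QuaternionGroup 2) → Subgroup.centralizer (Q : Set S) = (Subgroup.center Q).map Q.subtype ∧ Q.relIndex (Subgroup.normalizer (Q : Set S)) = 2) := by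
  obtain ⟨x, y, m, h⟩ := TwoGroups.exists_qdGen hS
  refine ⟨fun Q₁ Q₂ e₁ e₂ => ?_, fun Q eQ => ?_⟩
  · obtain ⟨a, ha, rfl⟩ := h.exists_part_of_quaternion Q₁ e₁.some
    obtain ⟨b, hb, rfl⟩ := h.exists_part_of_quaternion Q₂ e₂.some
    exact h.exists_map_part _ (by omega)
  · obtain ⟨e, he, rfl⟩ := h.exists_part_of_quaternion Q eQ.some
    have hk' : 2 ^ m ∣ 4 * 2 ^ m := dvd_mul_left _ _
    refine ⟨le_antisymm ?_ ?_, ?_⟩
    · intro g hg
      have hw : x ^ ((2 : ℤ) * 2 ^ m) ∈ h.part _ (TwoGroups.QDGen.dvd_two_self m) e :=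
        (h.x_mem_part _).2 (by push_cast; exact dvd_rfl)
      have h1 := Subgroup.mem_centralizer_iff.1 hg _ hw
      have h2 := Subgroup.mem_centralizer_iff.1 hg (x ^ e * y) ((h.xy_mem_part _).2 (by simp))
      obtain ⟨i, rfl | rfl⟩ := h.exists_form g
      · rw [h.xy_mul_x, TwoGroups.QDGen.x_mul_xy, h.xy_eq_iff] at h2
        have h4 : (4 : ℤ) * 2 ^ m ∣ i := by
          refine h.dvd_of_fixed ?_
          convert h2 using 1
          ring
        have hmem : x ^ i ∈ h.part _ (TwoGroups.QDGen.dvd_two_self m) e :=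
          (h.x_mem_part _).2 (by push_cast; exact dvd_trans ⟨2, by ring⟩ h4)
        refine ⟨⟨_, hmem⟩, ?_, rfl⟩
        exact Subgroup.mem_center_iff.2 fun a =>
          Subtype.ext (Subgroup.mem_center_iff.1 ((h.x_mem_center_iff i).2 h4) a.1)
      · exfalso
        rw [TwoGroups.QDGen.x_mul_xy, h.xy_mul_x, h.xy_eq_iff] at h1
        obtain ⟨c, hc⟩ := h1
        have hpos : (0 : ℤ) < 2 ^ m := by positivity
        have h5 : (2 : ℤ) * 2 ^ m * (2 - 4 * 2 ^ m - 4 * c) = 0 := by linear_combination hc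
        rcases mul_eq_zero.1 h5 with h6 | h6 <;> omega
    · rintro _ ⟨z, hz, rfl⟩
      rw [Subgroup.mem_centralizer_iff]
      intro a ha
      exact congrArg Subtype.val (Subgroup.mem_center_iff.1 hz ⟨a, ha⟩)
    · rw [h.normalizer_part _ hk' (by ring)]
      exact h.relIndex_part _ hk' (by ring)

end Cfsg.Agent.S1191
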