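import Cfsg.Statements.S2879
import Cfsg.Agent.Lib.LocalStructure.SL23Normal
import Cfsg.Agent.Lib.SolvableTwo.Basic

set_option autoImplicit false
open Cfsg
open Subgroup Cfsg.Agent.LocalStructure
open scoped commutatorElement

namespace Cfsg.Agent.S2879

/-- Let G be a finite solvable group with O(G) = 1 whose Sylow 2-subgroup T is dihedral of order at least 8 or semidihedral, with G ≠ T and Z(T) normal in G. Then G has a normal subgroup isomorphic to SL₂(3). -/
theorem result {G : Type*} [Group G] [Finite G] (hsol : IsSolvable G) (hO : Cfsg.oddCore G = ⊥) (T : Sylow 2 G) (hT : (∃ n : ℕ, 4 ≤ n ∧ Nonempty (↥(T : Subgroup G) ≃* DihedralGroup n)) ∨ Cfsg.IsQuasiDihedral ↥(T : Subgroup G)) (hne : (T : Subgroup G) ≠ ⊤) (hZ : ((T : Subgroup G) ⊓ Subgroup.centralizer ((T : Subgroup G) : Set G)).Normal) : ∃ U : Subgroup G, U.Normal ∧ Nonempty (↥U ≃* Matrix.SpecialLinearGroup (Fin 2) (ZMod 3)) := by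
  obtain ⟨t, ht, ht2, ht8⟩ : ∃ t, t ∈ (T : Subgroup G) ∧
      Nat.card (T : Subgroup G) = 2 * orderOf t ∧ 8 ≤ Nat.card (T : Subgroup G) := by
    rcases hT with ⟨n, hn, ⟨φ⟩⟩ | ⟨n, hn, hc, x, y, hx, -, -⟩
    · refine ⟨φ.symm (DihedralGroup.r 1), SetLike.coe_mem _, ?_, ?_⟩
      · rw [Nat.card_congr φ.toEquiv, DihedralGroup.nat_card, Subgroup.orderOf_coe,
          MulEquiv.orderOf_eq, DihedralGroup.orderOf_r_one]
      · rw [Nat.card_congr φ.toEquiv, DihedralGroup.nat_card]; omega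
    · refine ⟨x, x.2, ?_, ?_⟩
      · rw [hc, Subgroup.orderOf_coe, hx, pow_succ, mul_comm]
      · rw [hc]
        calc 8 ≤ 2 ^ 4 := by norm_num
          _ ≤ 2 ^ (n + 1) := Nat.pow_le_pow_right two_pos (by omega)
  set F := Cfsg.pCore 2 G with hFdef
  have hFn : F.Normal := pCore_normal 2 G
  haveI : Fact (Nat.Prime 2) := ⟨Nat.prime_two⟩
  have hF : IsPGroup 2 F := isPGroup_pCore 2
  have hC : Subgroup.centralizer (F : Set G) ≤ F :=
    Cfsg.Agent.SolvableTwo.centralizer_pCore_two_le hsol fun M hM ho =>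
      le_bot_iff.mp (hO ▸ Cfsg.Agent.SolvableTwo.le_oddCore hM ho)
  have hFT : F ≤ (T : Subgroup G) := by
    have := hFn
    exact hF.le_sylow_of_normal T
  -- a cyclic subgroup of index at most two
  have hAc : IsCyclic ↥(F ⊓ Subgroup.zpowers t) := Subgroup.isCyclic_of_le inf_le_right
  obtain ⟨⟨x, hxA⟩, hxg⟩ := hAc.exists_generator
  have hxz : Subgroup.zpowers x = F ⊓ Subgroup.zpowers t := by
    refine le_antisymm (Subgroup.zpowers_le.mpr hxA) fun u hu => ?_
    obtain ⟨k, hk⟩ := Subgroup.mem_zpowers_iff.mp (hxg ⟨u, hu⟩)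
    exact Subgroup.mem_zpowers_iff.mpr ⟨k, congrArg Subtype.val hk⟩
  have hcard : Nat.card F = orderOf x ∨ Nat.card F = 2 * orderOf x := by
    have h1 : (Subgroup.zpowers t).relIndex (T : Subgroup G) = 2 := by
      have h := Subgroup.relIndex_mul_relIndex ⊥ (Subgroup.zpowers t) (T : Subgroup G) bot_le
        (Subgroup.zpowers_le.mpr ht)
      rw [Subgroup.relIndex_bot_left, Subgroup.relIndex_bot_left, Nat.card_zpowers, ht2, mul_comm 2] at h
      exact Nat.eq_of_mul_eq_mul_left (orderOf_pos t) h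
    have h2 : (Subgroup.zpowers t).relIndex F ≤ 2 :=
      h1 ▸ Subgroup.relIndex_le_of_le_right hFT (by rw [h1]; norm_num)
    have h3 := Subgroup.relIndex_mul_relIndex ⊥ (Subgroup.zpowers x) F bot_le (hxz ▸ inf_le_left)
    rw [Subgroup.relIndex_bot_left, Subgroup.relIndex_bot_left, Nat.card_zpowers, hxz,
      Subgroup.inf_relIndex_left] at h3
    have h4 : (Subgroup.zpowers t).relIndex F ≠ 0 := fun h => by
      rw [h, mul_zero] at h3; exact Nat.card_pos.ne h3
    rcases (show (Subgroup.zpowers t).relIndex F = 1 ∨ (Subgroup.zpowers t).relIndex F = 2 by omega)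
      with h | h
    · rw [h, mul_one] at h3; exact Or.inl h3.symm
    · rw [h, mul_comm] at h3; exact Or.inr h3.symm
  -- an element of odd order
  obtain ⟨d, hd, hd1⟩ : ∃ d : G, (orderOf d).Coprime 2 ∧ d ≠ 1 := by
    by_contra h
    push Not at h
    refine hne (T.is_maximal' (isPGroup_of_forall_coprime fun u _ hu => h u hu) le_top).symm
  refine exists_normal_SL23 hxA.1 hC hcard (fun h4 => hd1 ?_) hd hd1
  -- the case of a four-group
  set Z := (T : Subgroup G) ⊓ Subgroup.centralizer ((T : Subgroup G) : Set G) with hZd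
  have hZF : Z ≤ F := le_pCore hZ (T.isPGroup'.to_le inf_le_left)
  have hlt : F ≠ (T : Subgroup G) := fun h => by
    have : Nat.card (T : Subgroup G) = 4 := h ▸ h4
    omega
  obtain ⟨z, hzZ, hz1⟩ : ∃ z ∈ Z, z ≠ 1 := by
    haveI : Nontrivial (T : Subgroup G) := Finite.one_lt_card_iff_nontrivial.mp (by omega)
    haveI : Nontrivial ↥(Subgroup.center (T : Subgroup G)) := T.isPGroup'.center_nontrivial
    obtain ⟨⟨u, hu⟩, hu1⟩ := exists_ne (1 : ↥(Subgroup.center (T : Subgroup G)))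
    refine ⟨(u : G), ⟨u.2, Subgroup.mem_centralizer_iff.mpr fun v hv => ?_⟩,
      fun h => hu1 (Subtype.ext (Subtype.ext h))⟩
    exact congrArg Subtype.val (Subgroup.mem_center_iff.mp hu ⟨v, hv⟩)
  have hZne : Z ≠ F := fun h => hlt (le_antisymm hFT fun u hu => hC
    (Subgroup.mem_centralizer_iff.mpr fun v hv =>
      ((Subgroup.mem_centralizer_iff.mp (h.symm ▸ hv : v ∈ Z).2 u hu)).symm))
  have hZ2 : Nat.card Z = 2 := by
    have h1 : Nat.card Z ∣ 2 ^ 2 := by rw [show (2 : ℕ) ^ 2 = Nat.card F by rw [h4]; rfl]; exact Subgroup.card_dvd_of_le hZF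
    obtain ⟨i, hi, h2⟩ := (Nat.dvd_prime_pow Nat.prime_two).mp h1
    have h3 : i ≠ 0 := fun h => hz1 (by
      subst h
      rw [pow_zero, Subgroup.card_eq_one] at h2
      exact Subgroup.mem_bot.mp (h2 ▸ hzZ))
    have h5 : i ≠ 2 := fun h => hZne (Subgroup.eq_of_le_of_card_ge hZF (by subst h; rw [h2, h4]; rfl))
    rw [h2, show i = 1 by omega, pow_one]
  have hzp : Subgroup.zpowers z = Z := by
    refine Subgroup.eq_of_le_of_card_ge (Subgroup.zpowers_le.mpr hzZ) ?_
    rw [hZ2, Nat.card_zpowers]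
    exact (Nat.two_le_iff _).mpr ⟨(orderOf_pos z).ne', mt orderOf_eq_one_iff.mp hz1⟩
  refine eq_one_of_odd_of_normalize hFn hF hC (hZF hzZ) (Or.inr ?_) hd ?_
  · rw [h4, ← Nat.card_zpowers, hzp, hZ2]
  · rw [hzp]; exact hZ.conj_mem z hzZ d

end Cfsg.Agent.S2879
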