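import Cfsg.Statements.S3116
import Mathlib
-- import your own Cfsg.Agent.* helpers here

set_option autoImplicit false
open Cfsg

namespace Cfsg.Agent.S3116

/-- The automorphism group of a dihedral 2-group of order at least 8, or of a quasi-dihedral (semidihedral) 2-group of order at least 16, is a 2-group. -/
theorem result {X : Type*} [Group X] [Finite X] (h2 : IsPGroup 2 X)
    (h : (∃ n : ℕ, 4 ≤ n ∧ Nonempty (X ≃* DihedralGroup n)) ∨ Cfsg.IsQuasiDihedral X) : IsPGroup 2 (MulAut X) := by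
  obtain ⟨n, hn, hcard, x, hxo, hout⟩ : ∃ n, 2 ≤ n ∧ Nat.card X = 2 ^ (n + 1) ∧ ∃ x : X, orderOf x = 2 ^ n ∧
      ∀ y ∉ Subgroup.zpowers x, orderOf y ≠ 2 ^ n := by
    rcases h with ⟨m, hm, ⟨e⟩⟩ | ⟨n, hn, hcard, x, y, hxo, hyo, hrel⟩
    · haveI : NeZero m := ⟨by omega⟩
      have hc : Nat.card X = 2 * m := by
        rw [Nat.card_congr e.toEquiv, DihedralGroup.nat_card]
      obtain ⟨k, hk⟩ := h2.exists_card_eq
      obtain ⟨j, -, rfl⟩ := (Nat.dvd_prime_pow Nat.prime_two).mp (Dvd.intro_left 2 (hc.symm.trans hk))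
      refine ⟨j, ?_, by rw [hc, pow_succ, mul_comm], e.symm (DihedralGroup.r 1), ?_, ?_⟩
      · by_contra hj
        have : 2 ^ j ≤ 2 ^ 1 := Nat.pow_le_pow_right (by norm_num) (by omega)
        omega
      · rw [MulEquiv.orderOf_eq, DihedralGroup.orderOf_r_one]
      · intro y hy
        rcases hey : e y with i | i
        · refine absurd ?_ hy
          refine ⟨(i.val : ℤ), e.injective ?_⟩
          simp [hey, DihedralGroup.r_one_pow]
        · rw [← e.orderOf_eq y, hey, DihedralGroup.orderOf_sr]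
          omega
    · refine ⟨n, by omega, hcard, x, hxo, fun w hw => ?_⟩
      haveI : Fact (Nat.Prime 2) := ⟨Nat.prime_two⟩
      have hidx : (Subgroup.zpowers x).index = 2 := by
        have := (Subgroup.zpowers x).card_mul_index
        rw [Nat.card_zpowers, hxo, hcard, pow_succ] at this
        exact Nat.eq_of_mul_eq_mul_left (by positivity) this
      have hyn : y ∉ Subgroup.zpowers x := by
        rintro ⟨i, rfl⟩
        have h1 : x ^ (2 ^ (n - 1) - 1) = x ^ 1 := by
          rw [← hrel, pow_one]; group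
        rw [pow_eq_pow_iff_modEq, hxo] at h1
        obtain ⟨j, rfl⟩ : ∃ j, n = j + 3 := ⟨n - 3, by omega⟩
        have hpos : 0 < 2 ^ j := by positivity
        have e1 : 2 ^ (j + 3) = 8 * 2 ^ j := by rw [pow_add]; ring
        have e2 : 2 ^ (j + 3 - 1) = 4 * 2 ^ j := by
          rw [show j + 3 - 1 = j + 2 by omega, pow_add]; ring
        rw [e1, e2, Nat.ModEq, Nat.mod_eq_of_lt (by omega), Nat.mod_eq_of_lt (by omega)] at h1
        omega
      have hwy : w * y⁻¹ ∈ Subgroup.zpowers x := by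
        rw [Subgroup.mul_mem_iff_of_index_two hidx]
        simp [hw, hyn]
      obtain ⟨i, hi⟩ := hwy
      have hi : w = x ^ i * y := by rw [show x ^ i = w * y⁻¹ from hi]; group
      have hyy : y * y = 1 := by rw [← pow_two, ← hyo, pow_orderOf_eq_one]
      have hyi : y * x ^ i * y⁻¹ = (x ^ (2 ^ (n - 1) - 1)) ^ i := by rw [← hrel, conj_zpow]
      have hw2 : w ^ 2 = (x ^ (2 ^ (n - 1))) ^ i := by
        rw [pow_two, hi]
        calc x ^ i * y * (x ^ i * y) = x ^ i * (y * x ^ i * y⁻¹) * (y * y) := by group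
          _ = x ^ i * (x ^ (2 ^ (n - 1) - 1)) ^ i := by rw [hyy, mul_one, hyi]
          _ = (x * x ^ (2 ^ (n - 1) - 1)) ^ i := by
              rw [(Commute.self_pow x _).mul_zpow]
          _ = (x ^ (2 ^ (n - 1))) ^ i := by
              rw [← pow_succ', Nat.sub_add_cancel Nat.one_le_two_pow]
      have hw4 : w ^ 4 = 1 := by
        have hx2 : (x ^ (2 ^ (n - 1))) ^ 2 = 1 := by
          rw [← pow_mul, ← pow_succ, Nat.sub_add_cancel (by omega), ← hxo, pow_orderOf_eq_one]
        rw [show w ^ 4 = (w ^ 2) ^ 2 by rw [← pow_mul], hw2, ← zpow_natCast, ← zpow_mul, mul_comm,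
          zpow_mul, zpow_natCast, hx2, one_zpow]
      intro hwo
      have h8 : 2 ^ 3 ≤ 2 ^ n := Nat.pow_le_pow_right (by norm_num) hn
      have := Nat.le_of_dvd (by norm_num) (orderOf_dvd_of_pow_eq_one hw4)
      omega
  haveI : Fact (Nat.Prime 2) := ⟨Nat.prime_two⟩
  have hidx : (Subgroup.zpowers x).index = 2 := by
    have := (Subgroup.zpowers x).card_mul_index
    rw [Nat.card_zpowers, hxo, hcard, pow_succ] at this
    exact Nat.eq_of_mul_eq_mul_left (by positivity) this
  intro φ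
  -- `φ ^ (2 ^ n)` fixes `x`
  have hφx : φ x ∈ Subgroup.zpowers x := by
    by_contra hc
    exact hout _ hc (by rw [MulEquiv.orderOf_eq, hxo])
  obtain ⟨a, ha⟩ : ∃ a : ℕ, x ^ a = φ x := by
    obtain ⟨a, ha⟩ := (Submonoid.mem_powers_iff _ _).mp
      (mem_powers_iff_mem_zpowers.mpr hφx)
    exact ⟨a, ha⟩
  have hit : ∀ i : ℕ, (φ ^ i) x = x ^ (a ^ i) := by
    intro i
    induction i with
    | zero => simp
    | succ i ih => rw [pow_succ', MulAut.mul_apply, ih, map_pow, ← ha, ← pow_mul, ← pow_succ']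
  let ψ := φ ^ (2 ^ n)
  have hψx : ψ x = x := by
    have hcop : a.Coprime (2 ^ n) := by
      refine Nat.Coprime.pow_right n (Nat.coprime_two_right.mpr ?_)
      by_contra hev
      rw [Nat.not_odd_iff_even] at hev
      obtain ⟨b, rfl⟩ := hev
      have h1 : orderOf (φ x) = 2 ^ n := by rw [MulEquiv.orderOf_eq, hxo]
      have h2 : (φ x) ^ (2 ^ (n - 1)) = 1 := by
        rw [← ha, ← pow_mul, show (b + b) * 2 ^ (n - 1) = 2 ^ n * b by
          obtain ⟨j, rfl⟩ : ∃ j, n = j + 1 := ⟨n - 1, by omega⟩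
          rw [Nat.add_sub_cancel, pow_succ]; ring, pow_mul, ← hxo, pow_orderOf_eq_one, one_pow]
      have := Nat.le_of_dvd (by positivity) (h1 ▸ orderOf_dvd_of_pow_eq_one h2)
      have : 2 ^ (n - 1) < 2 ^ n := Nat.pow_lt_pow_right (by norm_num) (by omega)
      omega
    have ht := (Nat.ModEq.pow_totient hcop).pow 2
    rw [one_pow, ← pow_mul, Nat.totient_prime_pow Nat.prime_two (by omega), Nat.add_one_sub_one,
      mul_one, ← pow_succ, Nat.sub_add_cancel (by omega)] at ht
    show (φ ^ 2 ^ n) x = x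
    conv_rhs => rw [← pow_one x]
    rw [hit, pow_eq_pow_iff_modEq, hxo]
    exact ht
  have hψH : ∀ i : ℤ, ψ (x ^ i) = x ^ i := fun i => by rw [map_zpow, hψx]
  refine ⟨2 * n, MulEquiv.ext fun y => ?_⟩
  rw [two_mul, pow_add 2 n n, pow_mul]
  show (ψ ^ (2 ^ n)) y = y
  by_cases hy : y ∈ Subgroup.zpowers x
  · obtain ⟨i, rfl⟩ := hy
    have : ∀ j : ℕ, (ψ ^ j) (x ^ i) = x ^ i := by
      intro j
      induction j with
      | zero => simp
      | succ j ih => rw [pow_succ', MulAut.mul_apply, ih, hψH]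
    exact this _
  · have hd : y⁻¹ * ψ y ∈ Subgroup.zpowers x := by
      rw [Subgroup.mul_mem_iff_of_index_two hidx, inv_mem_iff]
      refine iff_of_false hy fun ⟨i, hi⟩ => hy ⟨i, ?_⟩
      exact ψ.injective ((hψH i).trans hi)
    obtain ⟨d, hd⟩ := hd
    have hd : y⁻¹ * ψ y = x ^ d := hd.symm
    have : ∀ j : ℕ, (ψ ^ j) y = y * (x ^ d) ^ j := by
      intro j
      induction j with
      | zero => simp
      | succ j ih => rw [pow_succ', MulAut.mul_apply, ih, map_mul, map_pow, hψH, pow_succ',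
          ← hd, ← mul_assoc, ← mul_assoc, mul_inv_cancel, one_mul]
    rw [this, ← zpow_natCast, ← zpow_mul, mul_comm, zpow_mul, zpow_natCast, ← hxo,
      pow_orderOf_eq_one, one_zpow, mul_one]

end Cfsg.Agent.S3116
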