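import Mathlib
import Cfsg.Statements.S1168
-- import your own Cfsg.Agent.* helpers here

set_option autoImplicit false
open Cfsg

namespace Cfsg.Agent.S1168

open Finset in
theorem exists_coeff {F : Type*} [Field F] [Fintype F] [Algebra (ZMod 2) F]
    (f : F →ₗ[ZMod 2] F) :
    ∃ c : (F ≃ₐ[ZMod 2] F) → F, ∀ x, f x = ∑ σ, c σ * σ x := by
  classical
  let Φ : ((F ≃ₐ[ZMod 2] F) → F) → (F →ₗ[ZMod 2] F) := fun c =>
    ∑ σ, (c σ) • (σ.toLinearMap)
  have happ : ∀ c x, Φ c x = ∑ σ, c σ * σ x := fun c x => by simp [Φ]
  have hinj : Function.Injective Φ := by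
    intro c d h
    have hli : LinearIndependent F (fun σ : F ≃ₐ[ZMod 2] F => ⇑((σ : F →+* F).toMonoidHom)) :=
      (linearIndependent_monoidHom F F).comp (fun σ : F ≃ₐ[ZMod 2] F => (σ : F →+* F).toMonoidHom)
        (fun σ τ e => AlgEquiv.ext fun x => DFunLike.congr_fun e x)
    refine funext fun σ => sub_eq_zero.1 ?_
    refine Fintype.linearIndependent_iff.1 hli (fun σ => c σ - d σ) ?_ σ
    ext x
    simp only [Finset.sum_apply, Pi.smul_apply, smul_eq_mul, Pi.zero_apply, sub_mul,
      Finset.sum_sub_distrib]
    have := LinearMap.congr_fun h x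
    rw [happ, happ] at this
    simpa [sub_eq_zero] using this
  have hsurj : Function.Surjective Φ := by
    have : Finite (F →ₗ[ZMod 2] F) := Finite.of_injective _ DFunLike.coe_injective
    have hc : Nat.card ((F ≃ₐ[ZMod 2] F) → F) = Nat.card (F →ₗ[ZMod 2] F) := by
      rw [Nat.card_fun, IsGalois.card_aut_eq_finrank, Module.natCard_eq_pow_finrank (K := ZMod 2) (V := F),
        Module.natCard_eq_pow_finrank (K := ZMod 2) (V := F →ₗ[ZMod 2] F), Module.finrank_linearMap,
        ← pow_mul]
    exact ((Nat.bijective_iff_injective_and_card Φ).2 ⟨hinj, hc⟩).2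
  obtain ⟨c, hc⟩ := hsurj f
  exact ⟨c, fun x => by rw [← hc, happ]⟩

/-- For a finite field `F` of characteristic 2: if `q : F → F` is quadratic over the prime field, i.e. `(x, y) ↦ q (x + y) + q x + q y` is additive in each variable, then `q x = Σ c_{σ,τ} σ(x) τ(x)` for some coefficients indexed by pairs of field automorphisms. -/
theorem result {F : Type*} [Field F] [Fintype F] [CharP F 2]
    (q : F → F)
    (hq : ∀ x y z : F, q (x + y + z) + q (x + y) + q (x + z) + q (y + z) + q x + q y + q z = 0) :
    ∃ (s : Finset ((F ≃+* F) × (F ≃+* F))) (c : (F ≃+* F) × (F ≃+* F) → F),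
      ∀ x : F, q x = ∑ p ∈ s, c p * (p.1 x * p.2 x) := by
  classical
  let _ := ZMod.algebra F 2
  have h0 : q 0 = 0 := by
    have := hq 0 0 0
    simp only [add_zero] at this
    simpa [CharTwo.add_self_eq_zero] using this
  have two : ∀ a : F, a + a = 0 := CharTwo.add_self_eq_zero
  have add3 : ∀ x y z : F, q (x + y + z) + q (x + y) + q z =
      (q (x + z) + q x + q z) + (q (y + z) + q y + q z) := by
    intro x y z
    linear_combination (norm := ring_nf) (hq x y z) +
      (-(two (q (x + z))) - two (q (y + z)) - two (q x) - two (q y) - two (q z))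
  have smul01 : ∀ a : ZMod 2, a = 0 ∨ a = 1 := by decide
  let P : F → F → F := fun x y => q (x + y) + q x + q y
  have Padd : ∀ x y z, P (x + y) z = P x z + P y z := fun x y z => add3 x y z
  have Pcomm : ∀ x y, P x y = P y x := fun x y => by simp only [P, add_comm x y]; ring
  let B : LinearMap.BilinMap (ZMod 2) F F := LinearMap.mk₂ (ZMod 2) P Padd
    (fun a x y => by
      rcases smul01 a with rfl | rfl
      · simp [P, h0, two]
      · simp)
    (fun x y z => by rw [Pcomm, Padd, Pcomm y, Pcomm z])
    (fun a x y => by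
      rcases smul01 a with rfl | rfl
      · simp [P, h0, two]
      · simp)
  let Q : QuadraticMap (ZMod 2) F F :=
    { toFun := q
      toFun_smul := fun a x => by
        rcases smul01 a with rfl | rfl
        · simp [h0]
        · simp
      exists_companion' := ⟨B, fun x y => by
        show q (x + y) = q x + q y + (q (x + y) + q x + q y)
        linear_combination (norm := ring_nf) -(two (q x)) - two (q y)⟩ }
  let bm := Module.finBasis (ZMod 2) F
  let β := Q.toBilin bm
  have hβ : ∀ x, q x = β x x := fun x => by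
    show Q x = β x x
    rw [← LinearMap.BilinMap.toQuadraticMap_apply, QuadraticMap.toQuadraticMap_toBilin]
  choose c hc using fun i => exists_coeff (β (bm i))
  choose e he using fun (p : Fin (Module.finrank (ZMod 2) F)) => exists_coeff
    ((Algebra.linearMap (ZMod 2) F).comp (bm.coord p))
  let emb : (F ≃ₐ[ZMod 2] F) × (F ≃ₐ[ZMod 2] F) ↪ (F ≃+* F) × (F ≃+* F) :=
    ⟨fun p => (p.1.toRingEquiv, p.2.toRingEquiv), fun p p' h => by
      simp only [Prod.mk.injEq] at h
      exact Prod.ext (AlgEquiv.ext fun x => RingEquiv.congr_fun h.1 x)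
        (AlgEquiv.ext fun x => RingEquiv.congr_fun h.2 x)⟩
  refine ⟨Finset.univ.map emb, Function.extend emb
    (fun p => ∑ i, e i p.1 * c i p.2) 0, fun x => ?_⟩
  rw [Finset.sum_map]
  simp only [emb.injective.extend_apply]
  calc q x = ∑ i, (Algebra.linearMap (ZMod 2) F).comp (bm.coord i) x * β (bm i) x := by
        rw [hβ]
        conv_lhs => arg 1; rw [← bm.sum_repr x]
        rw [map_sum, LinearMap.sum_apply]
        refine Finset.sum_congr rfl fun i _ => ?_
        rw [map_smul, LinearMap.smul_apply, Algebra.smul_def]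
        rfl
    _ = ∑ i, (∑ σ, e i σ * σ x) * (∑ τ, c i τ * τ x) :=
        Finset.sum_congr rfl fun i _ => by rw [he, hc]
    _ = _ := by
        rw [Fintype.sum_prod_type]
        simp only [Finset.sum_mul_sum]
        rw [Finset.sum_comm]
        refine Finset.sum_congr rfl fun σ _ => ?_
        rw [Finset.sum_comm]
        refine Finset.sum_congr rfl fun τ _ => ?_
        rw [Finset.sum_mul]
        refine Finset.sum_congr rfl fun i _ => ?_
        show e i σ * σ x * (c i τ * τ x) = e i σ * c i τ * (σ x * τ x)
        ring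

end Cfsg.Agent.S1168
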