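import Cfsg.Statements.S0323

set_option autoImplicit false
open scoped Pointwise
open Cfsg

namespace Cfsg.Agent.S0323

/-- A doubly transitive action on a set with at least three points yields a (B,N)-pair of rank one:
`B` is the stabiliser of a point `x`, `N` the setwise stabiliser of a pair `{x, y}`. -/
theorem result {G Ω : Type*} [Group G] [MulAction G Ω]
    (h2 : MulAction.IsMultiplyPretransitive G Ω 2) {x y z : Ω} (hxy : x ≠ y) (hyz : y ≠ z) (hxz : x ≠ z) :
    ∃ P : Cfsg.BNPair G, P.B = MulAction.stabilizer G x ∧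
      P.N = MulAction.stabilizer G ({x, y} : Set Ω) ∧ P.rank = 1 := by
  haveI := h2
  have h2' : ∀ {a b c d : Ω}, a ≠ b → c ≠ d → ∃ g : G, g • a = c ∧ g • b = d :=
    MulAction.is_two_pretransitive_iff.1 h2
  obtain ⟨w, hwx, hwy⟩ := h2' hxy hxy.symm
  have hNiff : ∀ g : G, g ∈ MulAction.stabilizer G ({x, y} : Set Ω) ↔
      (g • x = x ∧ g • y = y) ∨ (g • x = y ∧ g • y = x) := by
    intro g
    rw [MulAction.mem_stabilizer_iff, Set.smul_set_insert, Set.smul_set_singleton,
      Set.pair_eq_pair_iff]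
  have hw : w ∈ MulAction.stabilizer G ({x, y} : Set Ω) := (hNiff w).2 (Or.inr ⟨hwx, hwy⟩)
  -- everything outside the stabiliser of `x` lies in one double coset
  have hbig : ∀ n g : G, n • x = y → g • x ≠ x →
      g ∈ DoubleCoset.doubleCoset n (MulAction.stabilizer G x : Set G) (MulAction.stabilizer G x) := by
    intro n g hn hg
    obtain ⟨b, hbx, hby⟩ := h2' hxy (Ne.symm hg)
    refine DoubleCoset.mem_doubleCoset.2 ⟨b, hbx, n⁻¹ * b⁻¹ * g, ?_, by group⟩
    have hb' : b⁻¹ • (g • x) = y := by rw [← hby, inv_smul_smul]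
    have hn' : n⁻¹ • y = x := by rw [← hn, inv_smul_smul]
    simp [mul_smul, hb', hn']
  refine ⟨
    { B := MulAction.stabilizer G x
      N := MulAction.stabilizer G ({x, y} : Set Ω)
      S := {w}
      sup_eq_top := ?_
      conj_mem := ?_
      subset := Set.singleton_subset_iff.2 hw
      sq_mem := ?_
      inj := fun s hs s' hs' _ => hs.trans hs'.symm
      closure_sup := ?_
      mul_mem_union := ?_
      conj_ne := ?_ }, rfl, rfl, by simp [BNPair.rank]⟩
  · rw [eq_top_iff]
    intro g _
    by_cases hg : g • x = x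
    · exact Subgroup.mem_sup_left hg
    · obtain ⟨b, hb, c, hc, rfl⟩ := DoubleCoset.mem_doubleCoset.1 (hbig w g hwx hg)
      exact Subgroup.mul_mem _ (Subgroup.mul_mem _ (Subgroup.mem_sup_left hb)
        (Subgroup.mem_sup_right hw)) (Subgroup.mem_sup_left hc)
  · intro n hn t ht
    obtain ⟨htB, htN⟩ := ht
    have htx : t • x = x := htB
    have hty : t • y = y := by
      rcases (hNiff t).1 htN with h | h
      exacts [h.2, absurd (htx.symm.trans h.1) hxy]
    show (n * t * n⁻¹) • x = x
    rcases (hNiff n).1 hn with ⟨h1, h2⟩ | ⟨h1, h2⟩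
    · have e : n⁻¹ • x = x := by
        conv_lhs => rw [← h1, inv_smul_smul]
      rw [mul_smul, mul_smul, e, htx, h1]
    · have e : n⁻¹ • x = y := by
        conv_lhs => rw [← h2, inv_smul_smul]
      rw [mul_smul, mul_smul, e, hty, h2]
  · rintro s hs
    obtain rfl := Set.mem_singleton_iff.1 hs
    show (s * s) • x = x
    rw [mul_smul, hwx, hwy]
  · apply le_antisymm
    · exact sup_le ((Subgroup.closure_le _).2 (Set.singleton_subset_iff.2 hw)) inf_le_right
    · intro n hn
      rcases (hNiff n).1 hn with ⟨h1, -⟩ | ⟨h1, -⟩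
      · exact Subgroup.mem_sup_right ⟨h1, hn⟩
      · have hmem : w⁻¹ * n ∈ MulAction.stabilizer G x ⊓ MulAction.stabilizer G ({x, y} : Set Ω) := by
          refine ⟨?_, Subgroup.mul_mem _ (Subgroup.inv_mem _ hw) hn⟩
          show (w⁻¹ * n) • x = x
          rw [mul_smul, h1, ← hwx, inv_smul_smul]
        have := Subgroup.mul_mem _ (Subgroup.mem_sup_left (T := MulAction.stabilizer G x ⊓ _)
          (Subgroup.subset_closure (Set.mem_singleton w))) (Subgroup.mem_sup_right hmem)
        rwa [mul_inv_cancel_left] at this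
  · intro s hs n hn b hb
    obtain rfl := Set.mem_singleton_iff.1 hs
    have hbx : b • x = x := hb
    rcases (hNiff n).1 hn with ⟨h1, -⟩ | ⟨h1, h2⟩
    · left
      apply hbig (s * n) (s * b * n)
      · rw [mul_smul, h1, hwx]
      · rw [mul_smul, mul_smul, h1, hbx, hwx]; exact hxy.symm
    · by_cases hg : (s * b * n) • x = x
      · left
        refine DoubleCoset.mem_doubleCoset.2 ⟨1, Subgroup.one_mem _, (s * n)⁻¹ * (s * b * n), ?_, by group⟩
        have hsn : (s * n) • x = x := by rw [mul_smul, h1, hwy]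
        exact Subgroup.mul_mem _ (Subgroup.inv_mem _ hsn) hg
      · right
        exact hbig n _ h1 hg
  · intro s hs heq
    obtain rfl := Set.mem_singleton_iff.1 hs
    obtain ⟨u, hu⟩ : ∃ u : G, u • x = x ∧ u • y = z := h2' hxy hxz
    have hsu : s * u * s ∈ (MulAction.stabilizer G x : Set G) := heq ▸ ⟨u, hu.1, rfl⟩
    have hsx : (s * u * s) • x = x := hsu
    rw [mul_smul, mul_smul, hwx, hu.2] at hsx
    exact hyz ((smul_left_cancel_iff s).1 (hwy.trans hsx.symm))

end Cfsg.Agent.S0323
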