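import Cfsg.Statements.S1091
import Cfsg.Agent.Lib.Twisted.Ree.Structure
-- import your own Cfsg.Agent.* helpers here

set_option autoImplicit false
open Cfsg

namespace Cfsg.Agent.S1091

open Twisted.Ree in
theorem aux {K : Type*} [Field K] [Fintype K] [CharP K 3] {m : ℕ} (hK : Fintype.card K = 3 ^ (2 * m + 1)) :
    ∃ P : Cfsg.BNPair ↥(G1 K m),
      P.B = (Cfsg.Lie.chevG2.borelSubgroup K ⊓ G1 K m).subgroupOf (G1 K m) ∧
      P.N = (Cfsg.Lie.chevG2.monomialSubgroup K ⊓ G1 K m).subgroupOf (G1 K m) := by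
  classical
  let B := (Cfsg.Lie.chevG2.borelSubgroup K ⊓ G1 K m).subgroupOf (G1 K m)
  let N := (Cfsg.Lie.chevG2.monomialSubgroup K ⊓ G1 K m).subgroupOf (G1 K m)
  have memB : ∀ x : ↥(G1 K m), x ∈ B ↔ (x : GL _ K) ∈ Cfsg.Lie.chevG2.borelSubgroup K := fun x =>
    ⟨fun h => (Subgroup.mem_inf.1 (Subgroup.mem_subgroupOf.1 h)).1,
      fun h => Subgroup.mem_subgroupOf.2 (Subgroup.mem_inf.2 ⟨h, x.2⟩)⟩
  let s : ↥(G1 K m) := ⟨n0 K, n0_mem_G1 m⟩
  have hs : s ∉ B := fun h => n0_not_borel ((memB s).1 h)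
  have hN : ∀ n ∈ N, n ∈ B ∨ ∃ k ∈ B, k ∈ N ∧ n = k * s := by
    intro n hn
    rcases (mem_N1_iff hK).1 (Subgroup.mem_subgroupOf.1 hn) with h | ⟨k, hk, e⟩
    · exact Or.inl ((memB n).2 (H1_le_borel h))
    · exact Or.inr ⟨⟨k, hk.2⟩, (memB _).2 (H1_le_borel hk),
        Subgroup.mem_subgroupOf.2 ((mem_N1_iff hK).2 (Or.inl hk)), Subtype.ext e⟩
  have sN : s ∈ N := Subgroup.mem_subgroupOf.2 (Subgroup.mem_inf.2 ⟨n0_mem_monomial, n0_mem_G1 m⟩)
  have hH : ∀ t : ↥(G1 K m), t ∈ B → t ∈ N → (t : GL _ K) ∈ H1 K m := by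
    intro t htB htN
    rcases (mem_N1_iff hK).1 (Subgroup.mem_subgroupOf.1 htN) with h | ⟨k, hk, e⟩
    · exact h
    · have h1 := (memB t).1 htB
      rw [e, Subgroup.mul_mem_cancel_left _ (H1_le_borel hk)] at h1
      exact absurd h1 n0_not_borel
  have cases2 : ∀ x : ↥(G1 K m), x ∈ B ∨ ∃ a ∈ B, ∃ b ∈ B, x = a * s * b := by
    intro x
    by_cases h : x ∈ B
    · exact Or.inl h
    · obtain ⟨u, hu, k, hk, w, hw, e⟩ := exists_of_not_mem_B1 hK x.2 (fun h' => h ((memB x).2 h'))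
      refine Or.inr ⟨⟨u * k, Subgroup.mul_mem _ hu.2 hk.2⟩, (memB _).2
        (Subgroup.mul_mem _ (U1_le_borel hu) (H1_le_borel hk)), ⟨w, hw.2⟩,
        (memB _).2 (U1_le_borel hw), Subtype.ext ?_⟩
      simpa [s] using e
  refine ⟨⟨B, N, {s}, ?_, ?_, ?_, ?_, ?_, ?_, ?_, ?_⟩, rfl, rfl⟩
  · refine eq_top_iff.2 fun x _ => ?_
    rcases cases2 x with h | ⟨a, ha, b, hb, rfl⟩
    · exact Subgroup.mem_sup_left h
    · exact Subgroup.mul_mem _ (Subgroup.mul_mem _ (Subgroup.mem_sup_left ha)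
        (Subgroup.mem_sup_right sN)) (Subgroup.mem_sup_left hb)
  · intro n hn t ht
    have hn' : (n : GL _ K) ∈ (dat K).N :=
      (Twisted.data_N (F := K) good).symm ▸ (Subgroup.mem_inf.1 (Subgroup.mem_subgroupOf.1 hn)).1
    have := RootBN.Data.N_conj_H ax hn' (show (t : GL _ K) ∈ (dat K).H from
      (Subgroup.mem_inf.1 (hH t ht.1 ht.2)).1)
    exact (memB _).2 (Subgroup.mem_sup_right this)
  · exact Set.singleton_subset_iff.2 sN
  · intro x hx
    rw [Set.mem_singleton_iff.1 hx,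
      show s * s = 1 from Subtype.ext (n0_mul_n0 (F := K))]
    exact Subgroup.one_mem _
  · intro x hx y hy _
    rw [Set.mem_singleton_iff.1 hx, Set.mem_singleton_iff.1 hy]
  · refine le_antisymm (sup_le ((Subgroup.closure_le _).2 (Set.singleton_subset_iff.2 sN))
      inf_le_right) fun n hn => ?_
    rcases hN n hn with h | ⟨k, hk, hkN, rfl⟩
    · exact Subgroup.mem_sup_right ⟨h, hn⟩
    · exact Subgroup.mul_mem _ (Subgroup.mem_sup_right ⟨hk, hkN⟩)
        (Subgroup.mem_sup_left (Subgroup.subset_closure rfl))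
  · intro x hx n hn b hb
    rw [Set.mem_singleton_iff.1 hx]
    simp only [Set.mem_union, DoubleCoset.mem_doubleCoset, SetLike.mem_coe]
    rcases hN n hn with h | ⟨k, hk, hkN, rfl⟩
    · rcases cases2 (s * b * n) with h' | ⟨a, ha, c, hc, e⟩
      · exact Or.inr ⟨s * b * n * n⁻¹, Subgroup.mul_mem _ h' (Subgroup.inv_mem _ h), 1,
          Subgroup.one_mem _, by group⟩
      · exact Or.inl ⟨a, ha, n⁻¹ * c, Subgroup.mul_mem _ (Subgroup.inv_mem _ h) hc,
          by rw [e]; group⟩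
    · have hsks : s * k * s ∈ B := by
        refine (memB _).2 (Subgroup.mem_sup_right ?_)
        have := n0_conj_H (Subgroup.mem_inf.1 (hH k hk hkN)).1
        rw [n0_inv] at this
        exact this
      rcases cases2 (s * b * (k * s)) with h' | ⟨a, ha, c, hc, e⟩
      · exact Or.inl ⟨s * b * (k * s) * (s * k * s)⁻¹, Subgroup.mul_mem _ h'
          (Subgroup.inv_mem _ hsks), 1, Subgroup.one_mem _, by group⟩
      · exact Or.inr ⟨a * k⁻¹, Subgroup.mul_mem _ ha (Subgroup.inv_mem _ hk), c, hc,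
          by rw [e]; group⟩
  · intro x hx hEq
    rw [Set.mem_singleton_iff.1 hx] at hEq
    let u : ↥(G1 K m) := ⟨uW m 0 1 0, uW_mem_G1 _ _ _ _⟩
    have hu : s * u * s ∈ B := by
      rw [← SetLike.mem_coe, ← hEq]
      exact ⟨u, (memB u).2 (Subgroup.mem_sup_left (uW_mem_U _ _ _ _)), rfl⟩
    have h1 := (memB _).1 hu
    simp only [Subgroup.coe_mul, s, u] at h1
    have h2 : uW m (0 : K) 1 0 = uW m 0 0 0 := by
      rw [eq_one_of_conj_mem (uW_mem_U _ _ _ _) (by rwa [n0_inv]),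
        eq_one_of_conj_mem (uW_mem_U m (0 : K) 0 0) ?_]
      have e0 : uW m (0 : K) 0 0 = 1 := by
        simp [uW, uOf, tail, Chev.BNSetup.xe_zero good (r := 7) (by decide),
          Chev.BNSetup.xe_zero good (r := 6) (by decide), Chev.BNSetup.xe_zero good (r := 8) (by decide),
          Chev.BNSetup.xe_zero good (r := 9) (by decide), Chev.BNSetup.xe_zero good (r := 10) (by decide),
          Chev.BNSetup.xe_zero good (r := 11) (by decide)]
      rw [e0]; simp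
    exact one_ne_zero (uW_inj h2).2.1

/-- ²G₂(3^(2m+1)) has a (B,N)-pair: B¹ = G¹ ∩ B and N¹ = G¹ ∩ N, intersections with the ambient Chevalley group's B = UH and N. -/
theorem result {K : Type*} [Field K] [Fintype K] {m : ℕ} (hK : Fintype.card K = 3 ^ (2 * m + 1)) :
    ∃ P : Cfsg.BNPair ↥(Cfsg.Lie.twistedG2 K (3 ^ m)),
      P.B = (Cfsg.Lie.chevG2.borelSubgroup K ⊓ Cfsg.Lie.twistedG2 K (3 ^ m)).subgroupOf (Cfsg.Lie.twistedG2 K (3 ^ m)) ∧
      P.N = (Cfsg.Lie.chevG2.monomialSubgroup K ⊓ Cfsg.Lie.twistedG2 K (3 ^ m)).subgroupOf (Cfsg.Lie.twistedG2 K (3 ^ m)) := by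
  have := Twisted.Ree.charP_three hK
  exact aux hK

end Cfsg.Agent.S1091
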