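import Cfsg.Statements.S3805
import Cfsg.Agent.Lib.Exceptional.TwoS3
import Cfsg.Agent.S3716

set_option autoImplicit false
open Cfsg

namespace Cfsg.Agent.S3805

open Cfsg.Agent.Exceptional Cfsg.Agent.Exceptional.TwoS3

universe u

theorem w_facts : (∀ w : W, w * w * w = 1 → w ^ 4 = w) ∧
    (∀ x : W, x * E₂ * x⁻¹ ≠ (.r 1, 1) ∧ x * E₂ * x⁻¹ ≠ ((.r 1, 1) : W)⁻¹) ∧
    (E₂ ≠ 1 ∧ ((.r 1, 1) : W) ≠ 1 ∧ ((.r 1, 1) : W) * (.r 1, 1) * (.r 1, 1) = 1) ∧
    (E₂ * P = P * E₂ ∧ ((.r 1, 1) : W) * Q = Q * (.r 1, 1)) ∧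
    ((Finset.univ.filter fun g : W => g * E₂ = E₂ * g ∧ g * P = P * g).card = 6 ∧
      (Finset.univ.filter fun g : W => g * (.r 1, 1) = (.r 1, 1) * g ∧ g * Q = Q * g).card = 6) := by
  decide +kernel

variable {G : Type u} [Group G] [Finite G]

theorem card_cent {N : Subgroup G} (e : W ≃* N) (a b : W)
    (hle : Subgroup.centralizer ({(e a : G), (e b : G)} : Set G) ≤ N)
    (h6 : (Finset.univ.filter fun g : W => g * b = b * g ∧ g * a = a * g).card = 6) :
    ¬ 9 ∣ Nat.card ↥(Subgroup.centralizer ({(e a : G), (e b : G)} : Set G)) := by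
  classical
  have h : Nat.card ↥(Subgroup.centralizer ({(e a : G), (e b : G)} : Set G)) = 6 := by
    rw [← h6, ← Nat.card_eq_finsetCard]
    refine Nat.card_congr
      { toFun := fun x => ⟨e.symm ⟨x.1, hle x.2⟩, ?_⟩
        invFun := fun g => ⟨(e g.1 : G), ?_⟩
        left_inv := fun x => by simp
        right_inv := fun g => by simp }
    · have hx := Subgroup.mem_centralizer_iff.1 x.2
      rw [Finset.mem_filter]
      refine ⟨Finset.mem_univ _, ?_, ?_⟩ <;> apply e.injective <;>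
        rw [map_mul, map_mul, e.apply_symm_apply] <;> apply Subtype.ext
      · exact (hx _ (by simp)).symm
      · exact (hx _ (by simp)).symm
    · have hg := (Finset.mem_filter.1 g.2).2
      rw [Subgroup.mem_centralizer_iff]
      rintro y (rfl | rfl)
      · exact congrArg Subtype.val
          (show e a * e g.1 = e g.1 * e a by rw [← map_mul, ← map_mul, hg.2])
      · exact congrArg Subtype.val
          (show e b * e g.1 = e g.1 * e b by rw [← map_mul, ← map_mul, hg.1])
  rw [h]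
  norm_num

/-- The identification of the normalizer. -/
theorem exists_model (T : Subgroup G) (N : Subgroup G) (hTN : T ≤ N) (hcard : Nat.card T = 9)
    (hTc : ∀ x ∈ T, ∀ y ∈ T, x * y = y * x) (hT3 : ∀ x ∈ T, x ^ 3 = 1)
    (hC : Subgroup.centralizer (T : Set G) = T)
    (hN36 : Nat.card N = 36) (hnorm : ∀ g ∈ N, ∀ x ∈ T, g * x * g⁻¹ ∈ T)
    (hsq : ∀ g ∈ N, g * g ∈ T) : Nonempty (W ≃* N) := by
  classical
  haveI := Fact.mk Nat.prime_two
  obtain ⟨S, hS⟩ := Sylow.exists_subgroup_card_pow_prime 2 (n := 2) (G := N)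
    (by rw [hN36]; norm_num)
  have hcop : ∀ x ∈ T, x * x = 1 → x = 1 := fun x hx h => by
    calc x = x ^ 3 * (x * x)⁻¹ := by group
      _ = 1 := by rw [hT3 x hx, h]; group
  have hinv : ∀ z ∈ S, ((z : N) : G) * (z : G) = 1 := fun z hz => by
    have h4 : (z : G) ^ 4 = 1 := by
      have := pow_card_eq_one' (x := (⟨z, hz⟩ : S))
      rw [hS] at this
      exact congrArg (fun w : S => ((w : N) : G)) this
    exact hcop _ (hsq _ z.2) (by rw [← h4]; simp only [pow_succ, pow_zero, one_mul, mul_assoc])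
  have hScomm : ∀ z ∈ S, ∀ w ∈ S, Commute ((z : N) : G) (w : G) := fun z hz w hw => by
    have h := hinv _ (mul_mem hz hw)
    rw [Subgroup.coe_mul] at h
    have h1 := inv_eq_of_mul_eq_one_right (hinv z hz)
    have h2 := inv_eq_of_mul_eq_one_right (hinv w hw)
    have := inv_eq_of_mul_eq_one_right h
    rw [mul_inv_rev, h1, h2] at this
    exact this.symm
  have hfix : ∀ z ∈ S, (∀ x ∈ T, ((z : N) : G) * x * (z : G) = x) → z = 1 := fun z hz h => by
    refine Subtype.ext (hcop _ ?_ (hinv z hz))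
    rw [← hC, Subgroup.mem_centralizer_iff]
    intro x hx
    calc x * (z : G) = (z : G) * x * ((z : G) * (z : G)) := by
          rw [← mul_assoc, h x hx]
      _ = (z : G) * x := by rw [hinv z hz, mul_one]
  have hconj : ∀ z ∈ S, ∀ x ∈ T, ((z : N) : G) * x * (z : G) ∈ T := fun z hz x hx => by
    have := hnorm _ z.2 x hx
    rwa [inv_eq_of_mul_eq_one_right (hinv z hz)] at this
  have hSne : ∀ z : N, z ∈ S → ∃ w ∈ S, w ≠ 1 ∧ w ≠ z := by
    intro z hz
    by_contra hcon
    push Not at hcon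
    have : (S : Set N) ⊆ {1, z} := fun w hw => by
      by_cases h1 : w = 1
      · exact Or.inl h1
      · exact Or.inr (hcon w hw h1)
    have h1 := Set.ncard_le_ncard this
    have h2 : (S : Set N).ncard = 4 := by rw [← Nat.card_coe_set_eq]; exact hS
    have h3 := Set.ncard_insert_le (1 : N) {z}
    rw [Set.ncard_singleton] at h3
    omega
  -- an involution that does not invert all of `T`
  obtain ⟨a, haS, ha1, t, ht, hat⟩ : ∃ a ∈ S, a ≠ 1 ∧ ∃ t ∈ T, ((a : N) : G) * t * (a : G) ≠ t⁻¹ := by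
    obtain ⟨c, hc, hc1, -⟩ := hSne 1 (one_mem S)
    obtain ⟨d, hd, hd1, hdc⟩ := hSne c hc
    by_contra hcon
    push Not at hcon
    refine hdc (mul_left_cancel (a := c) ?_)
    have hcd : c * d = 1 := hfix _ (mul_mem hc hd) fun x hx => by
      rw [Subgroup.coe_mul]
      calc (c : G) * d * x * ((c : G) * d) = (c : G) * d * x * ((d : G) * c) := by
            rw [(hScomm c hc d hd).eq]
        _ = (c : G) * ((d : G) * x * d) * c := by simp only [mul_assoc]
        _ = x := by rw [hcon d hd hd1 x hx, hcon c hc hc1 _ (inv_mem hx), inv_inv]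
    rw [hcd]
    exact (Subtype.ext (by rw [Subgroup.coe_mul]; exact (hinv c hc).symm))
  obtain ⟨b₀, hb₀, hb₀1, hb₀a⟩ := hSne a haS
  set A : G := (a : G) with hA
  have haa : A * A = 1 := hinv a haS
  have haa' : ∀ x, A * (A * x) = x := fun x => by rw [← mul_assoc, haa, one_mul]
  have hai : A⁻¹ = A := inv_eq_of_mul_eq_one_right haa
  set e₂ := t * (A * t * A) with he₂
  have he₂T : e₂ ∈ T := mul_mem ht (hconj a haS t ht)
  have hae₂ : A * e₂ * A = e₂ := by
    calc A * e₂ * A = A * t * A * t * (A * A) := by simp only [he₂, mul_assoc]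
      _ = e₂ := by rw [haa, mul_one, he₂, hTc _ (hconj a haS t ht) _ ht]
  have he₂ne : e₂ ≠ 1 := fun h => hat (inv_eq_of_mul_eq_one_right h).symm
  obtain ⟨s, hs, has⟩ : ∃ s ∈ T, A * s * A ≠ s := by
    by_contra hcon
    push Not at hcon
    exact ha1 (hfix a haS hcon)
  set e₁ := s⁻¹ * (A * s * A) with he₁
  have he₁T : e₁ ∈ T := mul_mem (inv_mem hs) (hconj a haS s hs)
  have hae₁ : A * e₁ * A = e₁⁻¹ := by
    calc A * e₁ * A = (A * s * A)⁻¹ * (s * (A * A)) := by
          simp only [he₁, mul_inv_rev, hai, mul_assoc, haa']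
      _ = e₁⁻¹ := by rw [haa, mul_one, he₁]; group
  have he₁ne : e₁ ≠ 1 := fun h => has (inv_mul_eq_one.1 h).symm
  have hord : ∀ x ∈ T, x ≠ 1 → ∀ i : ℕ, x ^ i = 1 → i % 3 = 0 := fun x hx hx1 i hi => by
    haveI := Fact.mk Nat.prime_three
    have h3 := orderOf_eq_prime (hT3 x hx) hx1
    exact Nat.mod_eq_zero_of_dvd (h3 ▸ orderOf_dvd_of_pow_eq_one hi) |>.trans rfl
  have hpowconj : ∀ x : G, ∀ i : ℕ, A * x ^ i * A = (A * x * A) ^ i := fun x i => by
    induction i with
    | zero => simp [haa]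
    | succ i ih => rw [pow_succ, pow_succ, ← ih]; simp [mul_assoc, haa']
  have hzero : ∀ i j : Fin 3, e₁ ^ i.val * e₂ ^ j.val = 1 → i = 0 ∧ j = 0 := by
    intro i j hij
    have h' : (e₁ ^ i.val)⁻¹ * e₂ ^ j.val = 1 := by
      calc (e₁ ^ i.val)⁻¹ * e₂ ^ j.val = A * e₁ ^ i.val * A * (A * e₂ ^ j.val * A) := by
            rw [hpowconj, hpowconj, hae₁, hae₂, inv_pow]
        _ = A * (e₁ ^ i.val * e₂ ^ j.val) * A := by simp only [mul_assoc, haa']
        _ = 1 := by rw [hij, mul_one, haa]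
    have h2 : e₁ ^ i.val * e₁ ^ i.val = 1 := by
      have := hij.trans h'.symm
      rw [mul_left_inj] at this
      calc e₁ ^ i.val * e₁ ^ i.val = e₁ ^ i.val * (e₁ ^ i.val)⁻¹ := by rw [← this]
        _ = 1 := mul_inv_cancel _
    have hi : e₁ ^ i.val = 1 := hcop _ (pow_mem he₁T _) h2
    rw [hi, one_mul] at hij
    have h1 := hord e₁ he₁T he₁ne _ hi
    have h3 := hord e₂ he₂T he₂ne _ hij
    have := i.2
    have := j.2
    exact ⟨Fin.ext (by show i.val = 0; omega), Fin.ext (by show j.val = 0; omega)⟩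
  -- coordinates
  let π : Multiplicative (ZMod 3) × Multiplicative (ZMod 3) → T := fun p =>
    ⟨e₁ ^ (Multiplicative.toAdd p.1).val * e₂ ^ (Multiplicative.toAdd p.2).val,
      mul_mem (pow_mem he₁T _) (pow_mem he₂T _)⟩
  have hadd : ∀ x ∈ T, ∀ i j : ZMod 3, x ^ (i + j).val = x ^ i.val * x ^ j.val := fun x hx i j => by
    rw [← pow_add, ZMod.val_add, ← pow_eq_pow_mod _ (hT3 x hx)]
  have hπ : Function.Bijective π := by
    rw [Nat.bijective_iff_injective_and_card]
    refine ⟨?_, by rw [hcard, Nat.card_prod, Nat.card_congr Multiplicative.toAdd, Nat.card_zmod]⟩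
    intro p q hpq
    have h := congrArg Subtype.val hpq
    simp only [π] at h
    have hd : ∀ x ∈ T, ∀ i j : ZMod 3, x ^ i.val = x ^ (i - j).val * x ^ j.val := fun x hx i j => by
      rw [← hadd x hx, sub_add_cancel]
    rw [hd e₁ he₁T (Multiplicative.toAdd p.1) (Multiplicative.toAdd q.1),
      hd e₂ he₂T (Multiplicative.toAdd p.2) (Multiplicative.toAdd q.2),
      (show Commute e₁ e₂ from hTc _ he₁T _ he₂T).pow_pow _ _ |>.mul_mul_mul_comm] at h
    have h' := mul_eq_right.1 h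
    obtain ⟨h1, h2⟩ := hzero ⟨_, ZMod.val_lt (Multiplicative.toAdd p.1 - Multiplicative.toAdd q.1)⟩
      ⟨_, ZMod.val_lt (Multiplicative.toAdd p.2 - Multiplicative.toAdd q.2)⟩ h'
    rw [Fin.ext_iff, Fin.val_zero, ZMod.val_eq_zero, sub_eq_zero] at h1 h2
    exact Prod.ext (Multiplicative.toAdd.injective h1) (Multiplicative.toAdd.injective h2)
  have hform : ∀ x ∈ T, ∃ i j : Fin 3, x = e₁ ^ i.val * e₂ ^ j.val := fun x hx => by
    obtain ⟨p, hp⟩ := hπ.2 ⟨x, hx⟩
    exact ⟨⟨_, ZMod.val_lt _⟩, ⟨_, ZMod.val_lt _⟩, (congrArg Subtype.val hp).symm⟩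
  have hAfix : ∀ x ∈ T, A * x * A = x → ∃ j : Fin 3, x = e₂ ^ j.val := fun x hx hfx => by
    obtain ⟨i, j, rfl⟩ := hform x hx
    refine ⟨j, mul_eq_right.2 (hcop _ (pow_mem he₁T _) ?_)⟩
    have : (e₁ ^ i.val)⁻¹ * e₂ ^ j.val = e₁ ^ i.val * e₂ ^ j.val := by
      conv_rhs => rw [← hfx]
      symm
      calc A * (e₁ ^ i.val * e₂ ^ j.val) * A = A * e₁ ^ i.val * A * (A * e₂ ^ j.val * A) := by
            simp only [mul_assoc, haa']
        _ = _ := by rw [hpowconj, hpowconj, hae₁, hae₂, inv_pow]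
    have := mul_right_cancel this
    calc e₁ ^ i.val * e₁ ^ i.val = e₁ ^ i.val * (e₁ ^ i.val)⁻¹ := by rw [this]
      _ = 1 := mul_inv_cancel _
  have hAinv : ∀ x ∈ T, A * x * A = x⁻¹ → ∃ i : Fin 3, x = e₁ ^ i.val := fun x hx hfx => by
    obtain ⟨i, j, rfl⟩ := hform x hx
    refine ⟨i, mul_eq_left.2 (hcop _ (pow_mem he₂T _) ?_)⟩
    have : (e₁ ^ i.val)⁻¹ * e₂ ^ j.val = (e₁ ^ i.val)⁻¹ * (e₂ ^ j.val)⁻¹ := by
      calc _ = A * e₁ ^ i.val * A * (A * e₂ ^ j.val * A) := by
            rw [hpowconj, hpowconj, hae₁, hae₂, inv_pow]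
        _ = A * (e₁ ^ i.val * e₂ ^ j.val) * A := by simp only [mul_assoc, haa']
        _ = (e₁ ^ i.val * e₂ ^ j.val)⁻¹ := hfx
        _ = _ := by rw [mul_inv_rev, hTc _ (inv_mem (pow_mem he₂T _)) _ (inv_mem (pow_mem he₁T _))]
    have := mul_left_cancel this
    calc e₂ ^ j.val * e₂ ^ j.val = e₂ ^ j.val * (e₂ ^ j.val)⁻¹ := by rw [← this]
      _ = 1 := mul_inv_cancel _
  have htwo : ∀ z ∈ S, (((z : N) : G) * e₁ * (z : G) = e₁ ∨ ((z : N) : G) * e₁ * (z : G) = e₁⁻¹) ∧
      (((z : N) : G) * e₂ * (z : G) = e₂ ∨ ((z : N) : G) * e₂ * (z : G) = e₂⁻¹) := by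
    intro z hz
    have hc := hScomm a haS z hz
    have hzz : ∀ x : G, (z : G) * ((z : G) * x) = x := fun x => by rw [← mul_assoc, hinv z hz, one_mul]
    have hsw : ∀ x : G, A * ((z : G) * x * z) * A = (z : G) * (A * x * A) * z := fun x => by
      calc A * ((z : G) * x * z) * A = A * z * x * (z * A) := by simp only [mul_assoc]
        _ = (z : G) * A * x * (A * z) := by rw [hc.eq]
        _ = _ := by simp only [mul_assoc]
    have key : ∀ x y : G, x ^ 3 = 1 → ∀ i : Fin 3, y = x ^ i.val → y = 1 ∨ y = x ∨ y = x⁻¹ := by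
      intro x y hx i hy
      fin_cases i
      · exact Or.inl (by simpa using hy)
      · exact Or.inr (Or.inl (by simpa using hy))
      · refine Or.inr (Or.inr (eq_inv_of_mul_eq_one_left ?_))
        rw [hy, ← pow_succ]
        exact hx
    have hne : ∀ x : G, x ≠ 1 → (z : G) * x * z ≠ 1 := fun x hx h => hx (by
      calc x = (z : G) * ((z : G) * x * z) * z := by simp only [mul_assoc, hzz, hinv z hz, mul_one]
        _ = 1 := by rw [h, mul_one, hinv z hz])
    have hzinv : ((z : N) : G)⁻¹ = z := inv_eq_of_mul_eq_one_right (hinv z hz)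
    constructor
    · obtain ⟨i, hi⟩ := hAinv _ (hconj z hz _ he₁T) (by
        rw [hsw, hae₁]
        refine eq_inv_of_mul_eq_one_left ?_
        simp only [mul_assoc, hzz, inv_mul_cancel_left, hinv z hz])
      rcases key e₁ _ (hT3 _ he₁T) i hi with h | h
      · exact absurd h (hne _ he₁ne)
      · exact h
    · obtain ⟨i, hi⟩ := hAfix _ (hconj z hz _ he₂T) (by rw [hsw, hae₂])
      rcases key e₂ _ (hT3 _ he₂T) i hi with h | h
      · exact absurd h (hne _ he₂ne)
      · exact h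
  have hgen2 : ∀ z ∈ S, ((z : N) : G) * e₁ * (z : G) = e₁ → ((z : N) : G) * e₂ * (z : G) = e₂ →
      z = 1 := fun z hz h1 h2 => hfix z hz fun x hx => by
    obtain ⟨i, j, rfl⟩ := hform x hx
    have hc1 : Commute (z : G) e₁ := by
      show (z : G) * e₁ = e₁ * z
      conv_rhs => rw [← h1]
      rw [mul_assoc _ (z : G), hinv z hz, mul_one]
    have hc2 : Commute (z : G) e₂ := by
      show (z : G) * e₂ = e₂ * z
      conv_rhs => rw [← h2]
      rw [mul_assoc _ (z : G), hinv z hz, mul_one]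
    rw [((hc1.pow_right _).mul_right (hc2.pow_right _)).eq, mul_assoc, hinv z hz, mul_one]
  obtain ⟨b, hbS, hb1, hb₁, hb₂⟩ : ∃ b ∈ S, b ≠ 1 ∧ ((b : N) : G) * e₁ * (b : G) = e₁ ∧
      ((b : N) : G) * e₂ * (b : G) = e₂⁻¹ := by
    rcases (htwo b₀ hb₀).1 with h | h
    · refine ⟨b₀, hb₀, hb₀1, h, ?_⟩
      rcases (htwo b₀ hb₀).2 with h' | h'
      · exact absurd (hgen2 b₀ hb₀ h h') hb₀1
      · exact h'
    · have hba : b₀ * a ≠ 1 := fun h1 => hb₀a (by
        have h2 : a * a = 1 := Subtype.ext haa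
        calc b₀ = b₀ * a * a := by rw [mul_assoc, h2, mul_one]
          _ = a := by rw [h1, one_mul])
      have hrw : ∀ x : G, ((b₀ * a : N) : G) * x * ((b₀ * a : N) : G) = (b₀ : G) * (A * x * A) * b₀ :=
        fun x => by
          rw [Subgroup.coe_mul]
          calc (b₀ : G) * A * x * ((b₀ : G) * A) = (b₀ : G) * A * x * (A * b₀) :=
                congrArg ((b₀ : G) * A * x * ·) (hScomm b₀ hb₀ a haS).eq
            _ = _ := by simp only [mul_assoc]
      have hb1' : ((b₀ * a : N) : G) * e₁ * ((b₀ * a : N) : G) = e₁ := by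
        rw [hrw, hae₁]
        calc (b₀ : G) * e₁⁻¹ * b₀ = ((b₀ : G) * e₁ * b₀)⁻¹ := by
              simp only [mul_inv_rev, inv_eq_of_mul_eq_one_right (hinv b₀ hb₀), mul_assoc]
          _ = e₁ := by rw [h, inv_inv]
      refine ⟨b₀ * a, mul_mem hb₀ haS, hba, hb1', ?_⟩
      rcases (htwo _ (mul_mem hb₀ haS)).2 with h' | h'
      · exact absurd (hgen2 _ (mul_mem hb₀ haS) hb1' h') hba
      · exact h'
  set B : G := (b : G) with hB
  have hbb : B * B = 1 := hinv b hbS
  have commOf : ∀ z x : G, z * z = 1 → z * x * z = x → Commute z x := fun z x hz h => by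
    show z * x = x * z
    conv_rhs => rw [← h]
    rw [mul_assoc _ z, hz, mul_one]
  have hae₂' := commOf A e₂ haa hae₂
  have hbe₁' := commOf B e₁ hbb hb₁
  have hab : Commute A B := hScomm a haS b hbS
  have he12 : Commute e₁ e₂ := hTc _ he₁T _ he₂T
  have comm : ∀ x y, Commute (Wreath2.dihHom e₁ A (hT3 _ he₁T) haa hae₁ x)
      (Wreath2.dihHom e₂ B (hT3 _ he₂T) hbb hb₂ y) := by
    rintro (i | i) (j | j) <;> simp only [Wreath2.dihHom_r, Wreath2.dihHom_sr]
    · exact he12.pow_pow _ _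
    · exact (hbe₁'.symm.pow_left _).mul_right (he12.pow_pow _ _)
    · exact (hae₂'.pow_right _).mul_left (he12.pow_pow _ _)
    · exact (hab.mul_right (hae₂'.pow_right _)).mul_left
        ((hbe₁'.symm.pow_left _).mul_right (he12.pow_pow _ _))
  let ψ : W →* G := (Wreath2.dihHom e₁ A (hT3 _ he₁T) haa hae₁).noncommCoprod
    (Wreath2.dihHom e₂ B (hT3 _ he₂T) hbb hb₂) comm
  have hψ : ∀ x y, ψ (x, y) = Wreath2.dihHom e₁ A (hT3 _ he₁T) haa hae₁ x *
      Wreath2.dihHom e₂ B (hT3 _ he₂T) hbb hb₂ y := fun x y => MonoidHom.noncommCoprod_apply ..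
  have hψN : ∀ w, ψ w ∈ N := by
    rintro ⟨x, y⟩
    rw [hψ]
    refine mul_mem ?_ ?_
    · rcases x with i | i
      · rw [Wreath2.dihHom_r]; exact pow_mem (hTN he₁T) _
      · rw [Wreath2.dihHom_sr]; exact mul_mem a.2 (pow_mem (hTN he₁T) _)
    · rcases y with i | i
      · rw [Wreath2.dihHom_r]; exact pow_mem (hTN he₂T) _
      · rw [Wreath2.dihHom_sr]; exact mul_mem b.2 (pow_mem (hTN he₂T) _)
  set R := ψ.range with hR
  have hA' : A ∈ R := ⟨(.sr 0, 1), by
    rw [hψ, map_one, mul_one, Wreath2.dihHom_sr, ZMod.val_zero, pow_zero, mul_one]⟩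
  have hB' : B ∈ R := ⟨(1, .sr 0), by
    rw [hψ, map_one, one_mul, Wreath2.dihHom_sr, ZMod.val_zero, pow_zero, mul_one]⟩
  have h1' : e₁ ∈ R := ⟨(.r 1, 1), by
    rw [hψ, map_one, mul_one, Wreath2.dihHom_r, ZMod.val_one, pow_one]⟩
  have h2' : e₂ ∈ R := ⟨(1, .r 1), by
    rw [hψ, map_one, one_mul, Wreath2.dihHom_r, ZMod.val_one, pow_one]⟩
  have hd9 : 9 ∣ Nat.card R := by
    rw [← hcard]
    refine Subgroup.card_dvd_of_le fun x hx => ?_
    obtain ⟨i, j, rfl⟩ := hform x hx
    exact mul_mem (pow_mem h1' _) (pow_mem h2' _)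
  have hd4 : 4 ∣ Nat.card R := by
    have hsub : Subgroup.closure {a, b} ≤ S := (Subgroup.closure_le S).2 (by
      rintro x (rfl | rfl) <;> assumption)
    have heq : Subgroup.closure {a, b} = S := by
      refine Subgroup.eq_of_le_of_card_ge hsub ?_
      obtain ⟨c, hc⟩ := hS ▸ Subgroup.card_dvd_of_le hsub
      by_contra hlt
      have hlt' : Nat.card (Subgroup.closure ({a, b} : Set N)) ≤ 2 := by
        rw [hS] at hlt
        have := Nat.card_pos (α := Subgroup.closure ({a, b} : Set N))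
        rcases (show Nat.card (Subgroup.closure ({a, b} : Set N)) = 1 ∨
          Nat.card (Subgroup.closure ({a, b} : Set N)) = 2 ∨
          Nat.card (Subgroup.closure ({a, b} : Set N)) = 3 by omega) with h | h | h <;>
          rw [h] at hc <;> omega
      have h3 : ({1, a, b} : Set N).ncard = 3 := by
        rw [Set.ncard_insert_of_notMem (by simp [Ne.symm ha1, Ne.symm hb1]),
          Set.ncard_pair (fun h => ?_)]
        have hAB : A = B := congrArg Subtype.val h
        rw [← hAB] at hb₁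
        have := hae₁.symm.trans hb₁
        exact he₁ne (hcop _ he₁T (by
          calc e₁ * e₁ = e₁ * e₁⁻¹ := by rw [this]
            _ = 1 := mul_inv_cancel _))
      have h4 : ({1, a, b} : Set N) ⊆ (Subgroup.closure ({a, b} : Set N) : Set N) := by
        rintro x (rfl | rfl | rfl)
        · exact one_mem _
        · exact Subgroup.subset_closure (by simp)
        · exact Subgroup.subset_closure (by simp)
      have := Set.ncard_le_ncard h4
      rw [h3, ← Nat.card_coe_set_eq] at this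
      change 3 ≤ Nat.card (Subgroup.closure ({a, b} : Set N)) at this
      omega
    have hle : S.map N.subtype ≤ R := by
      rw [← heq, Subgroup.map_le_iff_le_comap, Subgroup.closure_le]
      rintro x (rfl | rfl)
      · exact hA'
      · exact hB'
    have := Subgroup.card_dvd_of_le hle
    rwa [Subgroup.card_map_of_injective N.subtype_injective, hS] at this
  have hRN : R = N := by
    refine Subgroup.eq_of_le_of_card_ge (by rintro - ⟨w, rfl⟩; exact hψN w) ?_
    rw [hN36]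
    exact Nat.le_of_dvd Nat.card_pos (Nat.Coprime.mul_dvd_of_dvd_of_dvd (by norm_num) hd9 hd4)
  refine ⟨MulEquiv.ofBijective (ψ.codRestrict N hψN) ?_⟩
  rw [Nat.bijective_iff_surjective_and_card]
  refine ⟨fun g => ?_, by rw [hN36, Nat.card_eq_fintype_card]; rfl⟩
  obtain ⟨w, hw⟩ : (g : G) ∈ R := by rw [hRN]; exact g.2
  exact ⟨w, Subtype.ext hw⟩


/-- Let G be a finite group whose Sylow 3-subgroup T is elementary abelian of order 9 and self-centralizing, with N_G(T)/T a Klein four-group, and suppose that the centralizer of every nonidentity element of T lies in N_G(T). Then T is normal in G. -/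
theorem result {G : Type*} [Group G] [Finite G]
    (T : Sylow 3 G) (hT : Cfsg.IsElementaryAbelian 3 (T : Subgroup G)) (hcard : Nat.card T = 9)
    (hC : Subgroup.centralizer ((T : Subgroup G) : Set G) = T)
    [hn : ((T : Subgroup G).subgroupOf (Subgroup.normalizer ((T : Subgroup G) : Set G))).Normal]
    (hK : IsKleinFour (↥(Subgroup.normalizer ((T : Subgroup G) : Set G)) ⧸
      (T : Subgroup G).subgroupOf (Subgroup.normalizer ((T : Subgroup G) : Set G))))
    (hloc : ∀ t ∈ (T : Subgroup G), t ≠ 1 →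
      Subgroup.centralizer ({t} : Set G) ≤ Subgroup.normalizer ((T : Subgroup G) : Set G)) :
    Subgroup.normalizer ((T : Subgroup G) : Set G) = ⊤ := by
  classical
  haveI := Fact.mk Nat.prime_three
  set N := Subgroup.normalizer ((T : Subgroup G) : Set G) with hN
  have hTN : (T : Subgroup G) ≤ N := Subgroup.le_normalizer
  have hTc : ∀ x ∈ (T : Subgroup G), ∀ y ∈ (T : Subgroup G), x * y = y * x := fun x hx y hy => by
    haveI := hT.1
    exact congrArg Subtype.val (mul_comm' (⟨x, hx⟩ : (T : Subgroup G)) ⟨y, hy⟩)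
  have hnorm : ∀ g ∈ N, ∀ x ∈ (T : Subgroup G), g * x * g⁻¹ ∈ (T : Subgroup G) :=
    fun g hg x hx => (Subgroup.mem_normalizer_iff.1 hg x).1 hx
  have hsq : ∀ g ∈ N, g * g ∈ (T : Subgroup G) := fun g hg => by
    have h2 := Monoid.pow_exponent_eq_one
      (QuotientGroup.mk' ((T : Subgroup G).subgroupOf N) ⟨g, hg⟩)
    rw [hK.exponent_two, sq, ← map_mul, QuotientGroup.mk'_apply, QuotientGroup.eq_one_iff] at h2
    exact h2
  have hN36 : Nat.card N = 36 := by
    rw [Subgroup.card_eq_card_quotient_mul_card_subgroup ((T : Subgroup G).subgroupOf N),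
      hK.card_four, Nat.card_congr (Subgroup.subgroupOfEquivOfLe hTN).toEquiv, hcard]
  obtain ⟨e⟩ := exists_model (T : Subgroup G) N hTN hcard hTc hT.2 hC hN36 hnorm hsq
  have h4 : ∀ g ∈ N, g ^ 4 ∈ (T : Subgroup G) := fun g hg => by
    rw [show g ^ 4 = g * g * (g * g) by simp only [pow_succ, pow_zero, one_mul, mul_assoc]]
    exact mul_mem (hsq g hg) (hsq g hg)
  have hcube : ∀ v : W, v * v * v = 1 → (e v : G) ∈ (T : Subgroup G) := fun v hv => by
    have := h4 _ (e v).2
    rwa [← SubgroupClass.coe_pow, ← map_pow, w_facts.1 v hv] at this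
  have hinv1 : ∀ {v : W}, (e v : G) = 1 → v = 1 := fun h =>
    e.injective ((Subtype.ext h).trans (map_one e).symm)
  have hctl : ∀ g t : G, t ∈ (T : Subgroup G) → t ≠ 1 → g * t * g⁻¹ ∈ (T : Subgroup G) → g ∈ N := by
    intro g t ht ht1 hgt
    have hle : (T : Subgroup G).map (MulAut.conj g).toMonoidHom ≤ (T : Subgroup G) := by
      rintro - ⟨y, hy, rfl⟩
      show g * y * g⁻¹ ∈ (T : Subgroup G)
      have hyN : g * y * g⁻¹ ∈ N := hloc _ hgt (fun h => ht1 (conj_eq_one_iff.1 h))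
        (Subgroup.mem_centralizer_singleton_iff.2 (by
          calc g * y * g⁻¹ * (g * t * g⁻¹) = g * (y * t) * g⁻¹ := by group
            _ = g * (t * y) * g⁻¹ := by rw [hTc y hy t ht]
            _ = _ := by group))
      have h := h4 _ hyN
      have h3 : (g * y * g⁻¹) ^ 3 = 1 := by rw [conj_pow, hT.2 y hy, mul_one, mul_inv_cancel]
      rwa [pow_succ, h3, one_mul] at h
    rw [hN, Subgroup.mem_normalizer_iff_map_conj_eq]
    exact Subgroup.eq_of_le_of_card_ge hle
      (by rw [Subgroup.card_map_of_injective (MulAut.conj g).injective])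
  have h27 : ¬ 27 ∣ Nat.card G := fun hd => by
    have : 3 ^ 3 ∣ Nat.card T := T.pow_dvd_card_of_pow_dvd_card hd
    rw [hcard] at this
    norm_num at this
  have hsetup : Setup N e :=
    { ctl := fun g v w hv hv3 hw3 hg => hctl g _ (hcube v hv3) (fun h => hv (hinv1 h))
        (hg ▸ hcube w hw3)
      cent := fun v hv hv3 => hloc _ (hcube v hv3) (fun h => hv (hinv1 h))
      sylow := h27 }
  have hTW : ∀ g : G, g ∈ (T : Subgroup G) → ∃ v : W, v * v * v = 1 ∧ (e v : G) = g := by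
    intro g hg
    obtain ⟨v, hv⟩ := exists_coe e (hTN hg)
    refine ⟨v, hinv1 ?_, hv⟩
    rw [map_mul, map_mul, Subgroup.coe_mul, Subgroup.coe_mul, hv, ← pow_three']
    exact hT.2 g hg
  have hPQ : ¬ IsConj (e P : G) (e Q : G) := by
    obtain ⟨-, hnf, ⟨hE, hE', hE'3⟩, ⟨hc1, hc2⟩, h6, h6'⟩ := w_facts
    have hE3 := e2_facts.2.1
    have hordE : ∀ v : W, v ≠ 1 → v * v * v = 1 → orderOf (e v : G) = 3 := fun v hv hv3 =>
      orderOf_eq_prime (hT.2 _ (hcube v hv3)) (fun h => hv (hinv1 h))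
    have com : ∀ v w : W, v * w = w * v → Commute (e v : G) (e w : G) := fun v w h =>
      congrArg Subtype.val (show e v * e w = e w * e v by rw [← map_mul, ← map_mul, h])
    refine S3716.not_isConj (N := N) (M := (T : Subgroup G)) _ _ (e E₂ : G) (e (.r 1, 1) : G)
      (hcube _ hE3) (hordE _ hE hE3) (hordE _ hE' hE'3) (fun m hm => hTc m hm _ (hcube _ hE3))
      (fun h hh => hctl h _ (hcube _ hE3) (fun h1 => hE (hinv1 h1)) hh) (hcube _ hE'3)
      (com _ _ hc1) (com _ _ hc2) ?_ ?_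
    · rintro x y (⟨rfl, rfl⟩ | ⟨rfl, rfl⟩)
      · exact card_cent e _ _ ((Subgroup.centralizer_le (by simp)).trans
          (hloc _ (hcube _ hE3) (fun h1 => hE (hinv1 h1)))) h6
      · exact card_cent e _ _ ((Subgroup.centralizer_le (by simp)).trans
          (hloc _ (hcube _ hE'3) (fun h1 => hE' (hinv1 h1)))) h6'
    · intro h hh
      obtain ⟨w, rfl⟩ := exists_coe e hh
      refine ⟨fun h' => (hnf w).1 (e.injective (Subtype.ext ?_)),
        fun h' => (hnf w).2 (e.injective (Subtype.ext ?_))⟩ <;>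
        simp only [map_mul, map_inv, Subgroup.coe_mul, Subgroup.coe_inv] <;> exact h'
  by_cases hRQ : IsConj (e R : G) (e Q : G)
  · have hPR : ¬ IsConj (e R : G) (e P : G) := fun h => hPQ (h.symm.trans hRQ)
    exact TwoS3.eq_top (e := (MulEquiv.prodComm : W ≃* W).trans e)
      { ctl := fun g v w hv hv3 hw3 hg => hsetup.ctl g _ _
          (fun h => hv ((MulEquiv.prodComm : W ≃* W).map_eq_one_iff.1 h))
          (Prod.ext (congrArg Prod.snd hv3) (congrArg Prod.fst hv3))
          (Prod.ext (congrArg Prod.snd hw3) (congrArg Prod.fst hw3)) hg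
        cent := fun v hv hv3 => hsetup.cent _
          (fun h => hv ((MulEquiv.prodComm : W ≃* W).map_eq_one_iff.1 h))
          (Prod.ext (congrArg Prod.snd hv3) (congrArg Prod.fst hv3))
        sylow := h27 }
      (fun h => hPQ h.symm) hPR T
      (fun g hg => by
        obtain ⟨v, hv, hv'⟩ := hTW g hg
        exact ⟨v.swap, Prod.ext (congrArg Prod.snd hv) (congrArg Prod.fst hv), hv'⟩) rfl
  · exact TwoS3.eq_top hsetup hPQ hRQ T hTW rfl

end Cfsg.Agent.S3805
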