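import Cfsg.Statements.S3333
import Cfsg.Agent.Lib.Exceptional.SelfNine.Order360
import Cfsg.Agent.Lib.Exceptional.SelfNine.SixAut
import Cfsg.Agent.Lib.SmallSimple.Order360
import Cfsg.Agent.S3716
import Cfsg.Agent.S3805

set_option autoImplicit false
open Cfsg

namespace Cfsg.Agent.S3333

open Cfsg.Agent.Exceptional.SelfNine
open Cfsg.Agent.Exceptional.ThreeByS3 (C3 γ)

universe u

theorem d4_facts : (∀ d : DihedralGroup 4, d ^ 8 = 1) ∧
    (DihedralGroup.sr 0 * DihedralGroup.sr 1 * (DihedralGroup.sr 0 * DihedralGroup.sr 1) *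
      (DihedralGroup.sr 0 * DihedralGroup.sr 1 * (DihedralGroup.sr 0 * DihedralGroup.sr 1)) :
        DihedralGroup 4) = 1 ∧
    (DihedralGroup.sr 0 * DihedralGroup.sr 1 * (DihedralGroup.sr 0 * DihedralGroup.sr 1) :
        DihedralGroup 4) ≠ 1 ∧
    (DihedralGroup.r 1 * DihedralGroup.r 1 : DihedralGroup 4) = .r 2 ∧
    (DihedralGroup.r 2 * DihedralGroup.r 2 : DihedralGroup 4) = 1 ∧
    (DihedralGroup.r 2 : DihedralGroup 4) ≠ 1 ∧
    (DihedralGroup.sr 0 * DihedralGroup.r 1 * DihedralGroup.sr 0 : DihedralGroup 4) = .r 3 ∧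
    (∀ d : DihedralGroup 4, d = 1 ∨ d = .r 2 ∨ d = .r 1 ∨ d = .r 3 ∨
      ∃ i, d = .sr i) ∧
    (∀ i : ZMod 4, (DihedralGroup.sr i : DihedralGroup 4) = .sr 0 * .r i) := by
  decide +kernel

theorem four_reps : ∀ i : ZMod 4, (DihedralGroup.r i : DihedralGroup 4) = (.r 1) ^ i.val := by
  decide +kernel

theorem swap_key : ∀ i j : Fin 3,
    (((γ, 1) : V) ^ i.val * ((1, γ) : V) ^ j.val) ^ i.val *
      (rot (rot (rot (((γ, 1) : V) ^ i.val * ((1, γ) : V) ^ j.val)))) ^ j.val = ((γ, 1) : V) →
    ∃ k : Fin 4, ((γ, 1) : V) ^ i.val * ((1, γ) : V) ^ j.val = rot^[k.val] (γ, 1) := by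
  decide +kernel

/-- An automorphism of order two inverting a rotation keeps each orbit of the rotation. -/
theorem orbit_fixed {G : Type u} [Group G] [Finite G] {S : Sylow 3 G} {c n : G}
    (ι : V →* G) (hinj : Function.Injective ι) (hrange : ι.range = (S : Subgroup G))
    (hc : ∀ v, c * ι v * c⁻¹ = ι (rot v))
    (hn : n ∈ Subgroup.normalizer ((S : Subgroup G) : Set G)) (hnn : n * n = 1)
    (hnc : n * c * n = c⁻¹) :
    ∃ k : Fin 4, n * ι (γ, 1) * n⁻¹ = ι (rot^[k.val] (γ, 1)) := by
  have hni : n⁻¹ = n := inv_eq_of_mul_eq_one_right hnn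
  have hnmem : ∀ v, ∃ w, n * ι v * n⁻¹ = ι w := fun v => by
    have : n * ι v * n⁻¹ ∈ ι.range := by
      rw [hrange]
      exact (Subgroup.mem_normalizer_iff.1 hn _).1 (hrange ▸ ⟨v, rfl⟩)
    obtain ⟨w, hw⟩ := this
    exact ⟨w, hw.symm⟩
  obtain ⟨w, hw⟩ := hnmem (γ, 1)
  obtain ⟨i, j, rfl⟩ := gen_V w
  obtain ⟨-, -, -, -, -, -, -, -, -, -, -, -, hrot1, -⟩ := not_fused
  have hrot3 : ∀ v, c⁻¹ * ι v * c = ι (rot (rot (rot v))) := fun v => by
    have h4 : ∀ v, rot (rot (rot (rot v))) = v := fun v => by simp [rot]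
    have := hc (rot (rot (rot v)))
    rw [h4] at this
    rw [← this]; group
  set w := ((γ, 1) : V) ^ i.val * ((1, γ) : V) ^ j.val with hwdef
  have hw2 : n * ι (1, γ) * n⁻¹ = ι (rot (rot (rot w))) := by
    rw [← hrot1, ← hc, ← hrot3, ← hw]
    have : n * c = c⁻¹ * n := by
      rw [← hnc]; simp only [mul_assoc, hnn, mul_one]
    calc n * (c * ι (γ, 1) * c⁻¹) * n⁻¹ = (n * c) * ι (γ, 1) * (n * c)⁻¹ := by group
      _ = _ := by rw [this]; group
  have hback : n * ι w * n⁻¹ = ι (γ, 1) := by
    rw [← hw, hni]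
    calc n * (n * ι (γ, 1) * n) * n = n * n * ι (γ, 1) * (n * n) := by simp only [mul_assoc]
      _ = _ := by rw [hnn, one_mul, mul_one]
  rw [hwdef, map_mul, map_pow, map_pow, ← conj_mul, ← conj_pow, ← conj_pow, hw, hw2, ← map_pow,
    ← map_pow, ← map_mul] at hback
  obtain ⟨k, hk⟩ := swap_key i j (hinj hback)
  exact ⟨k, by rw [hw, ← hk]⟩


/-- Let G be a finite group with a Sylow 3-subgroup S of order 9 that is its own centralizer, with N_G(S)/S dihedral of order 8, and such that C_G(x) ≤ N_G(S) for every non-identity x in S. Then S is normal in G or G is isomorphic to the symmetric group of degree 6. -/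
theorem result {G : Type*} [Group G] [Finite G]
    (P : Sylow 3 G) (S : Subgroup G) (hSP : S = P) (hcard : Nat.card S = 9)
    (hC : Subgroup.centralizer (S : Set G) = S)
    (eN : Subgroup.normalizer (S : Set G) ⧸ S.subgroupOf (Subgroup.normalizer (S : Set G)) ≃* DihedralGroup 4)
    (hcent : ∀ x ∈ S, x ≠ 1 → Subgroup.centralizer ({x} : Set G) ≤ Subgroup.normalizer (S : Set G)) :
    S.Normal ∨ Nonempty (G ≃* Equiv.Perm (Fin 6)) := by
  classical
  haveI := Fact.mk Nat.prime_three
  haveI := Fact.mk Nat.prime_two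
  subst hSP
  set N := Subgroup.normalizer ((P : Subgroup G) : Set G) with hN
  have hSN : (P : Subgroup G) ≤ N := Subgroup.le_normalizer
  haveI hSn : ((P : Subgroup G).subgroupOf N).Normal := Subgroup.normal_in_normalizer
  obtain ⟨h8, h4rel, h2rel, hr11, hr22, hr2ne, hsrr, hcases, hsrsplit⟩ := d4_facts
  -- exponent three
  have hexp : ∀ s ∈ (P : Subgroup G), s ^ 3 = 1 := by
    by_contra hcon
    push Not at hcon
    obtain ⟨s, hs, hs3⟩ := hcon
    have h9 : orderOf (⟨s, hs⟩ : (P : Subgroup G)) = 9 := by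
      have hd : orderOf (⟨s, hs⟩ : (P : Subgroup G)) ∣ 3 ^ 2 := by
        have := orderOf_dvd_natCard (⟨s, hs⟩ : (P : Subgroup G))
        rwa [hcard] at this
      obtain ⟨j, hj, hjeq⟩ := (Nat.dvd_prime_pow Nat.prime_three).1 hd
      interval_cases j
      · exact absurd (orderOf_eq_one_iff.1 (by simpa using hjeq))
          (fun (h1 : (⟨s, hs⟩ : (P : Subgroup G)) = 1) => hs3 (by
          rw [show s = 1 from congrArg Subtype.val h1, one_pow]))
      · exact absurd (pow_orderOf_eq_one (⟨s, hs⟩ : (P : Subgroup G))) (fun h1 => hs3 (by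
          rw [hjeq, pow_one] at h1
          exact congrArg Subtype.val h1))
      · simpa using hjeq
    haveI hcy : IsCyclic (P : Subgroup G) := isCyclic_of_orderOf_eq_card _ (h9.trans hcard.symm)
    have hker : (Subgroup.normalizerMonoidHom (P : Subgroup G)).ker ≤ (P : Subgroup G).subgroupOf N := by
      rw [Subgroup.normalizerMonoidHom_ker, hC]
    have h1 := Subgroup.card_dvd_of_le hker
    have h2 := Subgroup.card_subgroup_dvd_card (Subgroup.normalizerMonoidHom (P : Subgroup G)).range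
    have h6 : Nat.card (MulAut (P : Subgroup G)) = 6 := by
      rw [IsCyclic.card_mulAut, hcard]; decide
    rw [h6] at h2
    have h3 := (Subgroup.normalizerMonoidHom (P : Subgroup G)).ker.card_mul_index
    rw [Subgroup.index_ker] at h3
    have h72 : Nat.card N = 72 := by
      rw [Subgroup.card_eq_card_quotient_mul_card_subgroup ((P : Subgroup G).subgroupOf N),
        Nat.card_congr eN.toEquiv, DihedralGroup.nat_card,
        Nat.card_congr (Subgroup.subgroupOfEquivOfLe hSN).toEquiv, hcard]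
    rw [Nat.card_congr (Subgroup.subgroupOfEquivOfLe hSN).toEquiv, hcard] at h1
    have h1' := Nat.le_of_dvd (by norm_num) h1
    have h2' := Nat.le_of_dvd (by norm_num) h2
    have := Nat.mul_le_mul h1' h2'
    rw [h3] at this
    have : Nat.card N ≤ 54 := this
    omega
  have hcube : ∀ s ∈ (P : Subgroup G), s * s * s = 1 := fun s hs => by
    rw [← pow_three']; exact hexp s hs
  have hcomm : ∀ a ∈ (P : Subgroup G), ∀ b ∈ (P : Subgroup G), a * b = b * a := fun a ha b hb => by
    rw [← hC, Subgroup.mem_centralizer_iff] at hb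
    exact hb a ha
  have hN72 : Nat.card N = 72 := by
    rw [Subgroup.card_eq_card_quotient_mul_card_subgroup ((P : Subgroup G).subgroupOf N),
      Nat.card_congr eN.toEquiv, DihedralGroup.nat_card,
      Nat.card_congr (Subgroup.subgroupOfEquivOfLe hSN).toEquiv, hcard]
  -- a complement
  obtain ⟨Q⟩ : Nonempty (Sylow 2 N) := inferInstance
  have hQ8 : Nat.card Q = 8 := by
    rw [Q.card_eq_multiplicity, hN72, show 72 = 2 ^ 3 * 9 by norm_num,
      Nat.factorization_mul (by norm_num) (by norm_num), Finsupp.add_apply,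
      Nat.Prime.factorization_pow Nat.prime_two, Finsupp.single_eq_same,
      Nat.factorization_eq_zero_of_not_dvd (by norm_num : ¬ 2 ∣ 9)]
    rfl
  let π : (Q : Subgroup N) →* DihedralGroup 4 :=
    eN.toMonoidHom.comp ((QuotientGroup.mk' _).comp (Q : Subgroup N).subtype)
  have hπinj : Function.Injective π := by
    rw [injective_iff_map_eq_one]
    intro q hq
    have h1 : ((q : N) : G) ∈ (P : Subgroup G) := by
      have := eN.injective (hq.trans (map_one eN).symm)
      change (QuotientGroup.mk (q : N) : N ⧸ (P : Subgroup G).subgroupOf N) = 1 at this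
      rw [QuotientGroup.eq_one_iff] at this
      exact this
    have h3 := hexp _ h1
    have h8' : ((q : N) : G) ^ 8 = 1 := by
      have := pow_card_eq_one' (x := q)
      rw [hQ8] at this
      exact congrArg (fun z : (Q : Subgroup N) => ((z : N) : G)) this
    refine Subtype.ext (Subtype.ext ?_)
    calc ((q : N) : G) = (((q : N) : G) ^ 3) ^ 3 * (((q : N) : G) ^ 8)⁻¹ := by group
      _ = 1 := by rw [h3, h8']; group
  let iso : (Q : Subgroup N) ≃* DihedralGroup 4 := MulEquiv.ofBijective π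
    ((Nat.bijective_iff_injective_and_card _).2 ⟨hπinj, by rw [hQ8, DihedralGroup.nat_card]⟩)
  let φ : DihedralGroup 4 →* G := N.subtype.comp ((Q : Subgroup N).subtype.comp iso.symm.toMonoidHom)
  have hφ : Function.Injective φ :=
    N.subtype_injective.comp ((Q : Subgroup N).subtype_injective.comp iso.symm.injective)
  have hφN : ∀ d, φ d ∈ N := fun d => SetLike.coe_mem _
  have hφS : ∀ d, φ d ∈ (P : Subgroup G) → d = 1 := fun d hd => by
    refine hφ (Eq.trans ?_ (map_one φ).symm)
    have h3 := hexp _ hd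
    have h8' : φ d ^ 8 = 1 := by rw [← map_pow, h8, map_one]
    calc φ d = (φ d ^ 3) ^ 3 * (φ d ^ 8)⁻¹ := by group
      _ = 1 := by rw [h3, h8']; group
  have hdec : ∀ g ∈ N, ∃ s ∈ (P : Subgroup G), ∃ d, g = s * φ d := by
    intro g hg
    obtain ⟨q, hq⟩ := iso.surjective (eN (QuotientGroup.mk ⟨g, hg⟩))
    refine ⟨g * ((q : N) : G)⁻¹, ?_, eN (QuotientGroup.mk ⟨g, hg⟩), ?_⟩
    · have h1 : eN (QuotientGroup.mk (q : N)) = eN (QuotientGroup.mk ⟨g, hg⟩) := hq
      have h2 := (QuotientGroup.eq (s := (P : Subgroup G).subgroupOf N)).1 (eN.injective h1)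
      have h3 := hSn.conj_mem _ h2 (q : N)
      rw [← mul_assoc, mul_inv_cancel, one_mul, Subgroup.mem_subgroupOf] at h3
      exact h3
    · rw [← hq, show φ (iso q) = ((q : N) : G) by simp [φ], inv_mul_cancel_right]
  -- the central involution inverts
  set c := φ (.r 1) with hcdef
  set t := φ (.r 2) with htdef
  have hcc : c * c = t := by rw [hcdef, htdef, ← map_mul, hr11]
  have htt : t * t = 1 := by rw [htdef, ← map_mul, hr22, map_one]
  have hti : t⁻¹ = t := inv_eq_of_mul_eq_one_right htt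
  have htS : t ∉ (P : Subgroup G) := fun h => hr2ne (hφS _ h)
  have hconjS : ∀ n ∈ N, ∀ s ∈ (P : Subgroup G), n * s * n⁻¹ ∈ (P : Subgroup G) :=
    fun n hn s hs => (Subgroup.mem_normalizer_iff.1 hn s).1 hs
  have hgenS : ∀ x y : G, x ∈ (P : Subgroup G) → y ∈ (P : Subgroup G) → x ≠ 1 → y ∉ Subgroup.zpowers x →
      ∀ s ∈ (P : Subgroup G), s ∈ Subgroup.closure ({x, y} : Set G) := by
    intro x y hx hy hx1 hyx
    have hle : Subgroup.closure ({x, y} : Set G) ≤ (P : Subgroup G) := (Subgroup.closure_le _).2 (by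
      rintro z (rfl | rfl) <;> assumption)
    have hlt : Subgroup.zpowers x < Subgroup.closure ({x, y} : Set G) := by
      refine lt_of_le_of_ne (Subgroup.zpowers_le.2 (Subgroup.subset_closure (by simp))) fun he => hyx ?_
      rw [he]; exact Subgroup.subset_closure (by simp)
    have h3 : Nat.card (Subgroup.zpowers x) = 3 := by
      rw [Nat.card_zpowers, orderOf_eq_prime (hexp x hx) hx1]
    obtain ⟨j, hj, hjeq⟩ := (Nat.dvd_prime_pow Nat.prime_three).1
      (show Nat.card (Subgroup.closure ({x, y} : Set G)) ∣ 3 ^ 2 by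
        have := Subgroup.card_dvd_of_le hle
        rwa [hcard] at this)
    have hgt : 3 < Nat.card (Subgroup.closure ({x, y} : Set G)) := by
      rw [← h3]
      by_contra hle'
      push Not at hle'
      exact hlt.ne (Subgroup.eq_of_le_of_card_ge hlt.le hle')
    intro s hs
    have heq := Subgroup.eq_of_le_of_card_ge hle (by
      rw [hcard, hjeq]
      interval_cases j <;> omega)
    rw [heq]; exact hs
  have hsne : ∀ n ∈ N, n ∉ (P : Subgroup G) → ∃ s ∈ (P : Subgroup G), n * s * n⁻¹ ≠ s := by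
    intro n _ hn
    by_contra hall
    push Not at hall
    refine hn ?_
    rw [← hC, Subgroup.mem_centralizer_iff]
    intro s hs
    calc s * n = n * s * n⁻¹ * n := by rw [hall s hs]
      _ = n * s := by group
  have hinvert : ∀ s ∈ (P : Subgroup G), t * s * t = s⁻¹ := by
    intro x hx
    have hxt : t * x * t ∈ (P : Subgroup G) := by
      have := hconjS t (hφN _) x hx; rwa [hti] at this
    refine (inv_eq_of_mul_eq_one_right ?_).symm
    set z := x * (t * x * t) with hz
    by_contra hz1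
    have htz : t * z * t = z := by
      calc t * z * t = t * x * t * x * (t * t) := by simp only [hz, mul_assoc]
        _ = z := by rw [htt, mul_one, hz, hcomm _ hxt _ hx]
    obtain ⟨s, hs, hts⟩ := hsne t (hφN _) htS
    rw [hti] at hts
    have htsP : t * s * t ∈ (P : Subgroup G) := by
      have := hconjS t (hφN _) s hs; rwa [hti] at this
    set w := s * (t * s * t)⁻¹ with hw
    have hwP : w ∈ (P : Subgroup G) := mul_mem hs (inv_mem htsP)
    have hw1 : w ≠ 1 := fun h1 => hts (mul_inv_eq_one.1 h1).symm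
    have ht2 : ∀ y, t * (t * y) = y := fun y => by rw [← mul_assoc, htt, one_mul]
    have htw : t * w * t = w⁻¹ := by
      calc t * w * t = t * s * t * s⁻¹ := by
            simp only [hw, mul_inv_rev, hti, mul_assoc, ht2, htt, mul_one]
        _ = w⁻¹ := by rw [hw, mul_inv_rev, inv_inv]
    by_cases hm : c * w * c⁻¹ ∈ Subgroup.zpowers w
    · obtain ⟨k, hk⟩ := Subgroup.mem_zpowers_iff.1 hm
      have hfixw : t * w * t⁻¹ = w ^ (k * k) := by
        rw [← hcc, zpow_mul, hk]
        calc c * c * w * (c * c)⁻¹ = c * (c * w * c⁻¹) * c⁻¹ := by group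
          _ = c * w ^ k * c⁻¹ := by rw [hk]
          _ = (c * w * c⁻¹) ^ k := by rw [conj_zpow]
      rw [hti, htw] at hfixw
      have h3 : w ^ (3 : ℤ) = 1 := by exact_mod_cast hexp w hwP
      have hne2 : w * w ≠ 1 := fun h2 => hw1 (by
        calc w = w * w * w * (w * w)⁻¹ := by group
          _ = 1 := by rw [hcube w hwP, h2]; group)
      have hcube' : w⁻¹ = w ^ (k * k % 3) := by
        rw [hfixw]
        conv_lhs => rw [← Int.emod_add_mul_ediv (k * k) 3, zpow_add, zpow_mul, h3, one_zpow, mul_one]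
      have hk3 : k * k % 3 = 0 ∨ k * k % 3 = 1 := by
        have : k % 3 = 0 ∨ k % 3 = 1 ∨ k % 3 = 2 := by omega
        rw [Int.mul_emod]
        rcases this with h | h | h <;> rw [h] <;> decide
      rcases hk3 with h | h <;> rw [h] at hcube'
      · exact hw1 (inv_eq_one.1 (hcube'.trans (zpow_zero w)))
      · exact hne2 (mul_eq_one_iff_eq_inv.2 (hcube'.trans (zpow_one w)).symm)
    · have hcwP : c * w * c⁻¹ ∈ (P : Subgroup G) := hconjS c (hφN _) w hwP
      have hct : t * c = c * t := by rw [← hcc, mul_assoc]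
      have hct' : c⁻¹ * t = t * c⁻¹ := by rw [← hcc]; group
      let I : Subgroup G :=
        { carrier := {y | y ∈ (P : Subgroup G) ∧ t * y * t = y⁻¹}
          one_mem' := ⟨one_mem _, by rw [mul_one, htt, inv_one]⟩
          mul_mem' := fun {y y'} hy hy' => ⟨mul_mem hy.1 hy'.1, by
            calc t * (y * y') * t = t * y * t * (t * y' * t) := by simp only [mul_assoc, ht2]
              _ = (y' * y)⁻¹ := by rw [hy.2, hy'.2, mul_inv_rev]
              _ = (y * y')⁻¹ := by rw [hcomm _ hy'.1 _ hy.1]⟩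
          inv_mem' := fun {y} hy => ⟨inv_mem hy.1, by
            rw [inv_inv]
            calc t * y⁻¹ * t = t * (t * y * t) * t := by rw [hy.2]
              _ = y := by simp only [mul_assoc, ht2, htt, mul_one]⟩ }
      have hle : Subgroup.closure ({w, c * w * c⁻¹} : Set G) ≤ I := (Subgroup.closure_le I).2 (by
        rintro y (rfl | rfl)
        · exact ⟨hwP, htw⟩
        · refine ⟨hcwP, ?_⟩
          calc t * (c * w * c⁻¹) * t = t * c * w * (c⁻¹ * t) := by simp only [mul_assoc]
            _ = c * (t * w * t) * c⁻¹ := by rw [hct, hct']; simp only [mul_assoc]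
            _ = _ := by rw [htw]; group)
      have hzI := hle (hgenS w (c * w * c⁻¹) hwP hcwP hw1 hm z (mul_mem hx hxt))
      have hz2 : z⁻¹ = z := hzI.2.symm.trans htz
      refine hz1 ?_
      calc z = z * z * z * (z * z)⁻¹ := by group
        _ = 1 := by
          rw [hcube z hzI.1]
          conv_lhs => arg 2; arg 1; arg 1; rw [← hz2]
          rw [inv_mul_cancel, inv_one, mul_one]
  have htfix : ∀ s ∈ (P : Subgroup G), t * s = s * t → s = 1 := fun s hs h1 => by
    have h2 := hinvert s hs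
    rw [h1, mul_assoc, htt, mul_one] at h2
    calc s = s * s * s * (s * s)⁻¹ := by group
      _ = 1 := by
        rw [hcube s hs]
        conv_lhs => arg 2; arg 1; arg 1; rw [h2]
        rw [inv_mul_cancel, inv_one, mul_one]
  -- a linear character killing `P`
  have hMN8 : ∀ g ∈ N, g ^ 8 ∈ (P : Subgroup G) := by
    intro g hg
    have hidx : ((P : Subgroup G).subgroupOf N).index = 8 := by
      rw [Subgroup.index_eq_card, Nat.card_congr eN.toEquiv, DihedralGroup.nat_card]
    have h := Subgroup.pow_index_mem ((P : Subgroup G).subgroupOf N) (⟨g, hg⟩ : N)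
    rw [hidx, Subgroup.mem_subgroupOf, SubgroupClass.coe_pow] at h
    exact h
  obtain ⟨lam, hlam⟩ := S3716.exists_linear hcard hexp hC hN hN72 hMN8 hcent φ.range
    (by rw [← Nat.card_congr (MonoidHom.ofInjective hφ).toEquiv, DihedralGroup.nat_card])
    (a := φ (.sr 0)) (b := φ (.sr 1)) (hφN _) (hφN _)
    (by
      rintro - ⟨x, rfl⟩
      have := Subgroup.mem_map_of_mem φ (S3716.dihedral_gen x)
      rwa [MonoidHom.map_closure, Set.image_pair] at this)
    ⟨_, rfl⟩ ⟨_, rfl⟩ (by rw [← map_mul, DihedralGroup.sr_mul_self, map_one])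
    (by rw [← map_mul, DihedralGroup.sr_mul_self, map_one])
    (by rw [← map_mul, ← map_mul, ← map_mul, h4rel, map_one])
    (fun h1 => h2rel (hφ (by rw [map_one, map_mul, map_mul]; exact h1)))
  have hsq : ∀ g, lam g⁻¹ * lam g = 1 := fun g => by rw [← map_mul, inv_mul_cancel, map_one]
  have hkill : ∀ s ∈ (P : Subgroup G), lam s = 1 := by
    intro s hs
    have h1 : lam s⁻¹ = lam s := by
      rw [← hinvert s hs, map_mul, map_mul, mul_comm (lam t), mul_assoc, ← map_mul, htt, map_one, mul_one]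
    have h2 : lam s * lam s = 1 := by
      conv_lhs => arg 1; rw [← h1]
      exact hsq s
    have h3 : lam s * lam s * lam s = 1 := by rw [← map_mul, ← map_mul, hcube s hs, map_one]
    rwa [h2, one_mul] at h3
  set K := lam.ker with hK
  have hSK : (P : Subgroup G) ≤ K := fun s hs => hkill s hs
  have hsup : N ⊔ K = ⊤ := Sylow.normalizer_sup_eq_top' P hSK
  have hNK : ¬ N ≤ K := fun hle => by
    rw [sup_eq_right.2 hle] at hsup
    exact hlam (MonoidHom.ext fun g => MonoidHom.mem_ker.1 (show g ∈ K from hsup ▸ Subgroup.mem_top g))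
  have hpm : ∀ i, lam (φ (.sr i)) * lam (φ (.sr i)) = 1 := fun i => by
    rw [← map_mul, ← map_mul, DihedralGroup.sr_mul_self, map_one, map_one]
  have hc2 : lam c * lam c = 1 := by
    have h3 : φ (.sr 0) * c * φ (.sr 0) = φ (.r 3) := by rw [hcdef, ← map_mul, ← map_mul, hsrr]
    have h4 : φ (.r 3) * c = 1 := by
      rw [hcdef, ← map_mul, DihedralGroup.r_mul_r, show (3 : ZMod 4) + 1 = 0 by rfl,
        DihedralGroup.r_zero, map_one]
    have h5 := congrArg lam h4
    rw [map_mul, map_one, ← h3, map_mul, map_mul] at h5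
    linear_combination h5 - (lam c * lam c) * hpm 0
  have htK : t ∈ K := by rw [hK, MonoidHom.mem_ker, ← hcc, map_mul, hc2]
  set Pk := P.subtype hSK with hPk
  have hcoePk : ((Pk : Sylow 3 K) : Subgroup K) = (P : Subgroup G).subgroupOf K := Sylow.coe_subtype ..
  have hNk : Subgroup.normalizer ((Pk : Subgroup K) : Set K) = N.subgroupOf K := by
    rw [hcoePk, Subgroup.subgroupOf_normalizer_eq hSK]
  have hcardNk : Nat.card (Subgroup.normalizer ((Pk : Subgroup K) : Set K)) =
      Nat.card (K ⊓ N : Subgroup G) := by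
    rw [hNk, ← Subgroup.card_map_of_injective K.subtype_injective, Subgroup.subgroupOf_map_subtype,
      inf_comm]
  have hmemKN : ∀ d, φ d ∈ K → ∀ s ∈ (P : Subgroup G), s * φ d ∈ (K ⊓ N : Subgroup G) :=
    fun d hd s hs => ⟨mul_mem (hSK hs) hd, mul_mem (hSN hs) (hφN d)⟩
  have hKN36 : ∀ d₁ : DihedralGroup 4, φ d₁ ∈ K → d₁ ≠ 1 → d₁ ≠ .r 2 →
      Nat.card (K ⊓ N : Subgroup G) = 36 := by
    intro d₁ hd₁ hne1 hne2
    have hd : Nat.card (K ⊓ N : Subgroup G) ∣ 72 := hN72 ▸ Subgroup.card_dvd_of_le inf_le_right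
    have hlt : Nat.card (K ⊓ N : Subgroup G) ≠ 72 := fun h72 => hNK (by
      rw [← Subgroup.eq_of_le_of_card_ge inf_le_right (le_of_eq (hN72.trans h72.symm))]
      exact inf_le_left)
    let f : ↥(P : Subgroup G) × Fin 3 → (K ⊓ N : Subgroup G) := fun p =>
      ⟨(p.1 : G) * φ (![1, .r 2, d₁] p.2), hmemKN _ (by
        rcases p with ⟨-, i⟩
        fin_cases i
        · simp
        · exact htK
        · exact hd₁) _ p.1.2⟩
    have hf : Function.Injective f := by
      rintro ⟨s, i⟩ ⟨s', i'⟩ he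
      have h1 : (s : G) * φ (![1, .r 2, d₁] i) = (s' : G) * φ (![1, .r 2, d₁] i') := congrArg Subtype.val he
      have h2 : ![1, .r 2, d₁] i * (![1, .r 2, d₁] i')⁻¹ = (1 : DihedralGroup 4) := hφS _ (by
        rw [map_mul, map_inv, show φ (![1, .r 2, d₁] i) * (φ (![1, .r 2, d₁] i'))⁻¹ = (s : G)⁻¹ * s' by
          calc _ = (s : G)⁻¹ * ((s : G) * φ (![1, .r 2, d₁] i)) * (φ (![1, .r 2, d₁] i'))⁻¹ := by group
            _ = _ := by rw [h1]; group]
        exact mul_mem (inv_mem s.2) s'.2)
      have h3 := mul_inv_eq_one.1 h2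
      have hii : i = i' := by
        fin_cases i <;> fin_cases i' <;> first
          | rfl
          | exact absurd h3 (Ne.symm hr2ne)
          | exact absurd h3 hr2ne
          | exact absurd h3 hne1
          | exact absurd h3 (Ne.symm hne1)
          | exact absurd h3 hne2
          | exact absurd h3 (Ne.symm hne2)
      subst hii
      exact Prod.ext (Subtype.ext (mul_right_cancel h1)) rfl
    have h27 := Nat.card_le_card_of_injective f hf
    rw [Nat.card_prod, hcard, Nat.card_fin] at h27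
    obtain ⟨e, he⟩ := hd
    have he2 : e = 2 := by
      rcases Nat.lt_or_ge e 3 with h | h
      · rcases (show e = 0 ∨ e = 1 ∨ e = 2 by omega) with rfl | rfl | rfl <;> omega
      · have := Nat.mul_le_mul h27 h
        omega
    subst he2
    omega
  have hfinish : Subgroup.normalizer ((Pk : Subgroup K) : Set K) = ⊤ → (P : Subgroup G).Normal := by
    intro htop
    rw [hNk, Subgroup.subgroupOf_eq_top] at htop
    rw [← Subgroup.normalizer_eq_top_iff, ← hN]
    rwa [sup_eq_left.2 htop] at hsup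
  by_cases hcK : c ∈ K
  swap
  · -- the Klein four case
    left
    obtain ⟨i, hiK⟩ : ∃ i, φ (.sr i) ∈ K := by
      by_contra hall
      push Not at hall
      have hval : ∀ x : ℂ, x * x = 1 → x ≠ 1 → x = -1 := fun x h1 h2 =>
        (mul_self_eq_one_iff.1 h1).resolve_left h2
      have e0 := hval _ (hpm 0) (fun h1 => hall 0 h1)
      have e1 := hval _ (hpm 1) (fun h1 => hall 1 h1)
      have ec : lam c = -1 := hval _ hc2 (fun h1 => hcK h1)
      have : φ (.sr 1) = φ (.sr 0) * c := by rw [hcdef, ← map_mul, ← hsrsplit]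
      rw [this, map_mul, e0, ec] at e1
      norm_num at e1
    have hne12 : ∀ i : ZMod 4, (DihedralGroup.sr i : DihedralGroup 4) ≠ 1 ∧
        (DihedralGroup.sr i : DihedralGroup 4) ≠ .r 2 := fun i => ⟨by rintro ⟨⟩, by rintro ⟨⟩⟩
    have h36 := hKN36 _ hiK (hne12 i).1 (hne12 i).2
    refine hfinish ?_
    haveI : ((Pk : Subgroup K).subgroupOf (Subgroup.normalizer ((Pk : Subgroup K) : Set K))).Normal :=
      Subgroup.normal_in_normalizer
    have hcard' : Nat.card Pk = 9 := by
      rw [hcoePk, Nat.card_congr (Subgroup.subgroupOfEquivOfLe hSK).toEquiv, hcard]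
    have hq4 : Nat.card (Subgroup.normalizer ((Pk : Subgroup K) : Set K) ⧸
        (Pk : Subgroup K).subgroupOf (Subgroup.normalizer ((Pk : Subgroup K) : Set K))) = 4 := by
      have := Subgroup.card_eq_card_quotient_mul_card_subgroup
        ((Pk : Subgroup K).subgroupOf (Subgroup.normalizer ((Pk : Subgroup K) : Set K)))
      rw [hcardNk, h36, Nat.card_congr (Subgroup.subgroupOfEquivOfLe Subgroup.le_normalizer).toEquiv,
        hcard'] at this
      omega
    have hsqK : ∀ g : K, g ∈ Subgroup.normalizer ((Pk : Subgroup K) : Set K) →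
        g * g ∈ (Pk : Subgroup K) := by
      intro g hg
      rw [hNk, Subgroup.mem_subgroupOf] at hg
      obtain ⟨s, hs, d, hgd⟩ := hdec (g : G) hg
      rw [hcoePk, Subgroup.mem_subgroupOf, Subgroup.coe_mul]
      have hdK : φ d ∈ K := by
        rw [show φ d = s⁻¹ * (g : G) by rw [hgd, inv_mul_cancel_left]]
        exact mul_mem (inv_mem (hSK hs)) g.2
      have hdd : φ d * φ d = 1 := by
        rcases hcases d with rfl | rfl | rfl | rfl | ⟨j, rfl⟩
        · simp
        · exact htt
        · exact absurd hdK hcK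
        · refine absurd ?_ hcK
          have h4 : c = (φ (.r 3))⁻¹ := by
            rw [← map_inv, hcdef]; congr 1
          rw [h4]; exact inv_mem hdK
        · rw [← map_mul, DihedralGroup.sr_mul_self, map_one]
      have hmem := mul_mem hs (hconjS _ (hφN d) s hs)
      rw [hgd, show s * φ d * (s * φ d) = s * (φ d * s * (φ d)⁻¹) * (φ d * φ d) by group, hdd, mul_one]
      exact hmem
    have hKlein : IsKleinFour (Subgroup.normalizer ((Pk : Subgroup K) : Set K) ⧸
        (Pk : Subgroup K).subgroupOf (Subgroup.normalizer ((Pk : Subgroup K) : Set K))) := by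
      refine ⟨hq4, ?_⟩
      refine ((Nat.dvd_prime Nat.prime_two).1 (Monoid.exponent_dvd_of_forall_pow_eq_one fun x => ?_)).resolve_left
        fun h1 => ?_
      · induction x using QuotientGroup.induction_on with
        | H g =>
          rw [← QuotientGroup.mk_pow, QuotientGroup.eq_one_iff, Subgroup.mem_subgroupOf, pow_two]
          exact hsqK _ g.2
      · haveI := (Monoid.exp_eq_one_iff).1 h1
        have := Nat.card_unique (α := Subgroup.normalizer ((Pk : Subgroup K) : Set K) ⧸
          (Pk : Subgroup K).subgroupOf (Subgroup.normalizer ((Pk : Subgroup K) : Set K)))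
        omega
    refine @S3805.result K _ _ Pk ⟨⟨⟨fun a b => ?_⟩⟩, fun a ha => ?_⟩ hcard' ?_ _ hKlein ?_
    · refine Subtype.ext (Subtype.ext ?_)
      exact hcomm _ (hcoePk ▸ a.2 : (a : K) ∈ (P : Subgroup G).subgroupOf K) _
        (hcoePk ▸ b.2 : (b : K) ∈ (P : Subgroup G).subgroupOf K)
    · rw [hcoePk, Subgroup.mem_subgroupOf] at ha
      exact Subtype.ext (hexp _ ha)
    · rw [hcoePk]
      ext g
      rw [Subgroup.mem_centralizer_iff, Subgroup.mem_subgroupOf]
      refine ⟨fun hg => ?_, fun hg y hy => Subtype.ext (hcomm _ hy _ hg)⟩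
      rw [← hC, Subgroup.mem_centralizer_iff]
      exact fun y hy => congrArg Subtype.val (hg ⟨y, hSK hy⟩ hy)
    · intro s hs hs1 g hg
      rw [hcoePk, Subgroup.mem_subgroupOf] at hs
      rw [hNk, Subgroup.mem_subgroupOf]
      exact hcent _ hs (fun h1 => hs1 (Subtype.ext h1)) (Subgroup.mem_centralizer_singleton_iff.2
        (congrArg Subtype.val (Subgroup.mem_centralizer_singleton_iff.1 hg)))
  -- the cyclic case
  have h36 := hKN36 _ (show φ (.r 1) ∈ K from hcK) (by decide) (by decide)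
  have hsrK : ∀ i, φ (.sr i) ∉ K := by
    intro i hi
    refine hNK fun g hg => ?_
    have hr : ∀ j : ZMod 4, φ (.r j) ∈ K := fun j => by
      rw [four_reps j, map_pow]; exact pow_mem hcK _
    have h0 : φ (.sr 0) ∈ K := by
      rw [show φ (.sr 0) = φ (.sr i) * (φ (.r i))⁻¹ by
        rw [hsrsplit i, map_mul, mul_inv_cancel_right]]
      exact mul_mem hi (inv_mem (hr i))
    obtain ⟨s, hs, d, rfl⟩ := hdec g hg
    refine mul_mem (hSK hs) ?_
    rcases d with j | j
    · exact hr j
    · rw [hsrsplit j, map_mul]; exact mul_mem h0 (hr j)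
  have hsetup : Setup Pk := by
    refine ⟨?_, fun s hs => ?_, fun s hs hs1 => ?_⟩
    · rw [hcoePk, Nat.card_congr (Subgroup.subgroupOfEquivOfLe hSK).toEquiv, hcard]
    · rw [hcoePk, Subgroup.mem_subgroupOf] at hs
      exact Subtype.ext (hexp _ hs)
    · rw [hcoePk, Subgroup.mem_subgroupOf] at hs
      ext g
      rw [Subgroup.mem_centralizer_singleton_iff, hcoePk, Subgroup.mem_subgroupOf]
      refine ⟨fun hg => ?_, fun hg => Subtype.ext (hcomm _ hg _ hs)⟩
      have hgs : (g : G) * (s : G) = s * g := congrArg Subtype.val hg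
      have hgN : (g : G) ∈ N := hcent _ hs (fun h1 => hs1 (Subtype.ext h1))
        (Subgroup.mem_centralizer_singleton_iff.2 hgs)
      obtain ⟨s₀, hs₀, d, hgd⟩ := hdec _ hgN
      have hdK : φ d ∈ K := by
        rw [show φ d = s₀⁻¹ * (g : G) by rw [hgd, inv_mul_cancel_left]]
        exact mul_mem (inv_mem (hSK hs₀)) g.2
      have hds : Commute (φ d) (s : G) := by
        show φ d * s = s * φ d
        rw [hgd] at hgs
        calc φ d * (s : G) = s₀⁻¹ * (s₀ * φ d * s) := by group
          _ = s₀⁻¹ * ((s : G) * s₀ * φ d) := by rw [hgs, mul_assoc]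
          _ = (s : G) * φ d := by rw [hcomm _ hs _ hs₀]; group
      have hfix : ¬ Commute t (s : G) := fun h1 => hs1 (Subtype.ext (htfix _ hs h1))
      rcases hcases d with rfl | rfl | rfl | rfl | ⟨j, rfl⟩
      · rw [hgd, map_one, mul_one]; exact hs₀
      · exact absurd hds hfix
      · exact absurd (by rw [← hcc]; exact hds.mul_left hds) hfix
      · refine absurd (?_ : Commute t (s : G)) hfix
        have : (DihedralGroup.r 3 * DihedralGroup.r 3 : DihedralGroup 4) = .r 2 := rfl
        rw [htdef, ← this, map_mul]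
        exact hds.mul_left hds
      · exact absurd hdK (hsrK j)
  rcases normal_or_simple hsetup (hcardNk.trans h36) with hnorm | ⟨h360, hsimple⟩
  · exact Or.inl (hfinish (Subgroup.normalizer_eq_top_iff.2 hnorm))
  right
  haveI := hsimple
  obtain ⟨ι'⟩ := SmallSimple.iso_alternating_six h360
  have hidx : K.index = 2 := by
    have h1 : K.index = K.relIndex N := by
      rw [← Subgroup.relIndex_top_right, ← hsup, Subgroup.relIndex_sup_right]
    have h2 : Nat.card (K ⊓ N : Subgroup G) * K.relIndex N = 72 := by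
      rw [← hN72, ← Subgroup.inf_relIndex_right K N, ← Subgroup.relIndex_bot_left (K ⊓ N),
        Subgroup.relIndex_mul_relIndex ⊥ (K ⊓ N) N bot_le inf_le_right, Subgroup.relIndex_bot_left]
    rw [h36] at h2
    omega
  have h720 : Nat.card G = 720 := by rw [← K.card_mul_index, h360, hidx]
  have hZ : Subgroup.centralizer (K : Set G) = ⊥ := by
    rw [Subgroup.eq_bot_iff_forall]
    intro g hg
    have hgP : g ∈ (P : Subgroup G) := by
      rw [← hC]
      exact Subgroup.centralizer_le hSK hg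
    by_contra hg1
    have hgK := hSK hgP
    have hcen : (⟨g, hgK⟩ : K) ∈ Subgroup.center K := Subgroup.mem_center_iff.2 fun k =>
      Subtype.ext (Subgroup.mem_centralizer_iff.1 hg k k.2)
    refine SmallSimple.noncomm_of_card_360 h360 ?_
    rcases (inferInstance : (Subgroup.center K).Normal).eq_bot_or_eq_top with h' | h'
    · rw [h', Subgroup.mem_bot] at hcen
      exact absurd (congrArg Subtype.val hcen) hg1
    · exact ⟨⟨fun a b => (Subgroup.mem_center_iff.1 (h' ▸ Subgroup.mem_top b) a)⟩⟩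
  -- the outer elements keep both classes of elements of order three
  let ρ : G := φ (.sr 0)
  have hρρ : ρ * ρ = 1 := by rw [← map_mul, DihedralGroup.sr_mul_self, map_one]
  have hρc : ρ * c * ρ = c⁻¹ := by
    have : (DihedralGroup.r 3 : DihedralGroup 4) = (DihedralGroup.r 1)⁻¹ := rfl
    rw [hcdef, ← map_mul, ← map_mul, hsrr, this, map_inv]
  have hclass : ∀ g : G, ∀ s ∈ (P : Subgroup G), s ≠ 1 → ∃ k ∈ K, g * s * g⁻¹ = k * s * k⁻¹ := by
    intro g s hs hs1
    have hrho : ∃ k ∈ K, ρ * s * ρ⁻¹ = k * s * k⁻¹ := by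
      have hy : c * s * c⁻¹ ∈ (P : Subgroup G) := hconjS c (hφN _) s hs
      have hccs : c * (c * s * c⁻¹) * c⁻¹ = s⁻¹ := by
        rw [← hinvert s hs]
        calc c * (c * s * c⁻¹) * c⁻¹ = (c * c) * s * (c * c)⁻¹ := by group
          _ = t * s * t := by rw [hcc, hti]
      have hyx : c * s * c⁻¹ ∉ Subgroup.zpowers s := by
        intro hm
        obtain ⟨e, he⟩ := Subgroup.mem_zpowers_iff.1 hm
        have h3 : s ^ (3 : ℤ) = 1 := by exact_mod_cast hexp s hs
        rw [← he, ← conj_zpow, ← he, ← zpow_mul] at hccs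
        have he3 : e * e % 3 = 0 ∨ e * e % 3 = 1 := by
          have : e % 3 = 0 ∨ e % 3 = 1 ∨ e % 3 = 2 := by omega
          rw [Int.mul_emod]
          rcases this with h | h | h <;> rw [h] <;> decide
        have hm3 : s ^ (e * e) = s ^ (e * e % 3) := by
          conv_lhs => rw [← Int.emod_add_mul_ediv (e * e) 3, zpow_add, zpow_mul, h3, one_zpow, mul_one]
        rw [hm3] at hccs
        rcases he3 with h | h <;> rw [h] at hccs
        · exact hs1 (inv_eq_one.1 (hccs.symm.trans (zpow_zero s)))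
        · refine hs1 ?_
          have h2 : s * s = 1 := mul_eq_one_iff_eq_inv.2 ((zpow_one s).symm.trans hccs)
          calc s = s * s * s * (s * s)⁻¹ := by group
            _ = 1 := by rw [hcube s hs, h2]; group
      have hsetupG : ∃ ι : V →* G, Function.Injective ι ∧ ι.range = (P : Subgroup G) ∧
          ι (γ, 1) = s ∧ ι (1, γ) = c * s * c⁻¹ := by
        obtain ⟨ι, h1, h2, h3, h4⟩ := exists_coord hsetup
          (x := ⟨s, hSK hs⟩) (y := ⟨c * s * c⁻¹, hSK hy⟩)
          (by rw [hcoePk, Subgroup.mem_subgroupOf]; exact hs) (fun h1 => hs1 (congrArg Subtype.val h1))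
          (by rw [hcoePk, Subgroup.mem_subgroupOf]; exact hy)
          (fun hm => hyx (by
            obtain ⟨e, he⟩ := Subgroup.mem_zpowers_iff.1 hm
            exact Subgroup.mem_zpowers_iff.2 ⟨e, congrArg Subtype.val he⟩))
        refine ⟨K.subtype.comp ι, K.subtype_injective.comp h1, ?_, congrArg Subtype.val h3,
          congrArg Subtype.val h4⟩
        rw [MonoidHom.range_comp, h2, hcoePk, Subgroup.subgroupOf_map_subtype, inf_eq_left.2 hSK]
      obtain ⟨ι, hinj, hrange, hx, hyv⟩ := hsetupG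
      have hrot : ∀ v, c * ι v * c⁻¹ = ι (rot v) := by
        intro v
        obtain ⟨i, j, rfl⟩ := gen_V v
        obtain ⟨-, -, -, -, -, -, -, -, -, -, -, -, hrot1, hrot2⟩ := not_fused
        let r' : V →* V := { toFun := rot, map_one' := rot_facts.2.1, map_mul' := rot_facts.1 }
        show _ = ι (r' _)
        rw [map_mul r', map_pow r', map_pow r', map_mul, map_mul, map_pow, map_pow, map_pow, map_pow,
          hx, hyv, show r' (γ, 1) = (1, γ) from hrot1, show r' (1, γ) = (γ, 1)⁻¹ from hrot2, map_inv,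
          hx, hyv, ← hccs]
        simp only [conj_pow]
        group
      obtain ⟨k, hk⟩ := orbit_fixed ι hinj hrange hrot (hφN _) hρρ hρc
      rw [hx] at hk
      refine ⟨c ^ k.val, pow_mem hcK _, hk.trans ?_⟩
      have hpow : ∀ m : ℕ, ι (rot^[m] (γ, 1)) = c ^ m * s * (c ^ m)⁻¹ := by
        intro m
        induction m with
        | zero => simp [hx]
        | succ m ih => rw [Function.iterate_succ', Function.comp_apply, ← hrot, ih]; group
      exact hpow _
    have hg : g ∈ N ⊔ K := hsup.symm ▸ Subgroup.mem_top g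
    rw [sup_comm, Subgroup.mem_sup_of_normal_left] at hg
    obtain ⟨k₁, hk₁, n, hn, rfl⟩ := hg
    obtain ⟨s₁, hs₁, d, rfl⟩ := hdec n hn
    rcases d with j | j
    · exact ⟨k₁ * (s₁ * φ (.r j)), mul_mem hk₁ (mul_mem (hSK hs₁)
        (by rw [four_reps j, map_pow]; exact pow_mem hcK _)), rfl⟩
    · obtain ⟨k₂, hk₂, he⟩ := hrho
      have hrj : φ (.r j) ∈ K := by rw [four_reps j, map_pow]; exact pow_mem hcK _
      refine ⟨k₁ * s₁ * (ρ * φ (.r j) * ρ⁻¹) * k₂, mul_mem (mul_mem (mul_mem hk₁ (hSK hs₁))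
        ((MonoidHom.normal_ker lam).conj_mem _ hrj ρ)) hk₂, ?_⟩
      rw [hsrsplit j, map_mul]
      calc k₁ * (s₁ * (ρ * φ (.r j))) * s * (k₁ * (s₁ * (ρ * φ (.r j))))⁻¹
          = k₁ * s₁ * (ρ * φ (.r j) * ρ⁻¹) * (ρ * s * ρ⁻¹) * (k₁ * s₁ * (ρ * φ (.r j) * ρ⁻¹))⁻¹ := by
            group
        _ = k₁ * s₁ * (ρ * φ (.r j) * ρ⁻¹) * (k₂ * s * k₂⁻¹) * (k₁ * s₁ * (ρ * φ (.r j) * ρ⁻¹))⁻¹ := by
            rw [he]
        _ = _ := by group
  refine iso_perm_six K ι'.symm h720 hZ fun g z hz => ?_
  have hz3 : orderOf z = 3 := by rw [← Subgroup.orderOf_coe]; exact hz.orderOf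
  have hord : orderOf (ι'.symm z : K) = 3 := by rw [MulEquiv.orderOf_eq]; exact hz3
  obtain ⟨Q', hQ'⟩ := (show IsPGroup 3 (Subgroup.zpowers (ι'.symm z : K)) from
    IsPGroup.of_card (n := 1) (by rw [Nat.card_zpowers, hord, pow_one])).exists_le_sylow
  obtain ⟨k₀, hk₀⟩ := MulAction.exists_smul_eq K Q' Pk
  have hs : k₀ * ι'.symm z * k₀⁻¹ ∈ (Pk : Subgroup K) := by
    rw [← hk₀, Sylow.coe_subgroup_smul]
    exact ⟨_, hQ' (Subgroup.mem_zpowers _), rfl⟩
  rw [hcoePk, Subgroup.mem_subgroupOf] at hs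
  obtain ⟨k, hk, he⟩ := hclass (g * (k₀ : G)⁻¹) _ hs (fun h1 => by
    have h1' : k₀ * ι'.symm z * k₀⁻¹ = 1 := Subtype.ext h1
    rw [conj_eq_one_iff.1 h1', orderOf_one] at hord
    norm_num at hord)
  refine ⟨ι' (⟨k, hk⟩ * k₀), ?_⟩
  rw [map_mul ι'.symm, map_mul ι'.symm, map_inv ι'.symm, ι'.symm_apply_apply]
  simp only [Subgroup.coe_mul, Subgroup.coe_inv] at he ⊢
  calc g * ((ι'.symm z : K) : G) * g⁻¹
      = g * (k₀ : G)⁻¹ * ((k₀ : G) * (ι'.symm z : K) * (k₀ : G)⁻¹) * (g * (k₀ : G)⁻¹)⁻¹ := by group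
    _ = _ := by rw [he]; group

end Cfsg.Agent.S3333
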