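import Cfsg.Statements.S5945
-- import your own Cfsg.Agent.* helpers here

set_option autoImplicit false
open Cfsg

namespace Cfsg.Agent.S5945

open Equiv MulAction in
/-- The point stabiliser in `S_6` is a copy of `S_5`. -/
theorem stab_zero_equiv : Nonempty (stabilizer (Perm (Fin 6)) (0 : Fin 6) ≃* Perm (Fin 5)) := by
  classical
  let e : {x : Fin 6 // x ≠ 0} ≃ Fin 5 :=
    Fintype.equivFinOfCardEq (by decide)
  let f : Perm {x : Fin 6 // x ≠ 0} →* Perm (Fin 6) := Perm.ofSubtype
  have hr : f.range = stabilizer (Perm (Fin 6)) (0 : Fin 6) := by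
    ext σ
    constructor
    · rintro ⟨τ, rfl⟩
      exact Perm.ofSubtype_apply_of_not_mem τ (by simp)
    · intro h
      have h0 : σ 0 = 0 := h
      have hp : ∀ x, σ x ≠ 0 ↔ x ≠ 0 := fun x => by
        constructor
        · rintro hx rfl; exact hx h0
        · intro hx h'; exact hx (σ.injective (h'.trans h0.symm))
      refine ⟨σ.subtypePerm hp, Perm.ofSubtype_subtypePerm hp fun x hx => ?_⟩
      rintro rfl; exact hx h0
  exact ⟨((MulEquiv.subgroupCongr hr.symm).trans
    (MonoidHom.ofInjective Perm.ofSubtype_injective).symm).trans e.permCongrHom⟩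

theorem index_stab (a : Fin 6) : (MulAction.stabilizer (Equiv.Perm (Fin 6)) a).index = 6 := by
  rw [MulAction.index_stabilizer_of_transitive, Nat.card_fin]

theorem card_of_index {H : Subgroup (Equiv.Perm (Fin 6))} (hH : H.index = 6) : Nat.card H = 120 := by
  have := H.card_mul_index
  rw [hH, Nat.card_perm, Nat.card_fin] at this
  norm_num [Nat.factorial] at this
  omega

/-- A subgroup of index 6 is the preimage of a point stabiliser under an automorphism. -/
theorem exists_aut {H : Subgroup (Equiv.Perm (Fin 6))} (hH : H.index = 6) :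
    ∃ φ : Equiv.Perm (Fin 6) ≃* Equiv.Perm (Fin 6),
      H = (MulAction.stabilizer (Equiv.Perm (Fin 6)) (0 : Fin 6)).comap φ.toMonoidHom := by
  classical
  have hinj : Function.Injective
      (MulAction.toPermHom (Equiv.Perm (Fin 6)) (Equiv.Perm (Fin 6) ⧸ H)) := by
    rw [← MonoidHom.ker_eq_bot_iff, ← Subgroup.normalCore_eq_ker]
    by_contra hc
    have hle : alternatingGroup (Fin 6) ≤ H :=
      (Equiv.Perm.alternatingGroup_le_of_normal (by simp)
        ((Subgroup.nontrivial_iff_ne_bot _).mpr hc)).trans H.normalCore_le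
    have := Subgroup.index_antitone hle
    rw [alternatingGroup.index_eq_two, hH] at this
    omega
  have hcard : Nat.card (Equiv.Perm (Fin 6) ⧸ H) = 6 := by rw [← Subgroup.index_eq_card, hH]
  let e₀ : (Equiv.Perm (Fin 6) ⧸ H) ≃ Fin 6 := Finite.equivFinOfCardEq hcard
  let e := e₀.trans (Equiv.swap (e₀ ((1 : Equiv.Perm (Fin 6)) : Equiv.Perm (Fin 6) ⧸ H)) 0)
  have he : e ((1 : Equiv.Perm (Fin 6)) : Equiv.Perm (Fin 6) ⧸ H) = 0 := Equiv.swap_apply_left _ _
  let f : Equiv.Perm (Fin 6) →* Equiv.Perm (Fin 6) :=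
    e.permCongrHom.toMonoidHom.comp (MulAction.toPermHom _ _)
  have hf : Function.Bijective f :=
    Finite.injective_iff_bijective.mp (e.permCongrHom.injective.comp hinj)
  refine ⟨MulEquiv.ofBijective f hf, ?_⟩
  ext g
  simp only [Subgroup.mem_comap, MulAction.mem_stabilizer_iff]
  show g ∈ H ↔ e (g • e.symm 0) = 0
  rw [← he, e.symm_apply_apply, e.apply_eq_iff_eq, ← MulAction.mem_stabilizer_iff,
    MulAction.stabilizer_quotient]

/-- A subgroup of index 6 with a fixed point is that stabiliser; otherwise it contains no transposition. -/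
theorem eq_stab_of_swap {H : Subgroup (Equiv.Perm (Fin 6))} (hH : H.index = 6)
    {x y : Fin 6} (hxy : x ≠ y) (hs : Equiv.swap x y ∈ H) :
    ∃ a : Fin 6, H = MulAction.stabilizer (Equiv.Perm (Fin 6)) a := by
  classical
  suffices h : ∃ a, ∀ g ∈ H, g a = a by
    obtain ⟨a, ha⟩ := h
    refine ⟨a, ?_⟩
    have hle : H ≤ MulAction.stabilizer (Equiv.Perm (Fin 6)) a := fun g hg => ha g hg
    exact Subgroup.eq_of_le_of_card_ge hle (by rw [card_of_index hH, card_of_index (index_stab a)])
  have : Fact (Nat.Prime 5) := ⟨by norm_num⟩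
  obtain ⟨c, hc⟩ := exists_prime_orderOf_dvd_card' (G := H) 5 (by rw [card_of_index hH]; norm_num)
  have hc' : orderOf (c : Equiv.Perm (Fin 6)) = 5 := by rw [Subgroup.orderOf_coe]; exact hc
  have hcyc : (c : Equiv.Perm (Fin 6)).IsCycle :=
    Equiv.Perm.isCycle_of_prime_order' (hc'.symm ▸ (by norm_num)) (by rw [hc']; simp)
  have hsupp : (c : Equiv.Perm (Fin 6)).support.card = 5 := hcyc.orderOf.symm.trans hc'
  obtain ⟨b, hb⟩ : ∃ b, (c : Equiv.Perm (Fin 6)) b = b := by
    by_contra hall
    push Not at hall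
    have : (c : Equiv.Perm (Fin 6)).support = Finset.univ := by
      ext z; simp [hall z]
    rw [this] at hsupp
    simp at hsupp
  have huniq : ∀ z, (c : Equiv.Perm (Fin 6)) z = z → z = b := by
    intro z hz
    by_contra hzb
    have hsub : (c : Equiv.Perm (Fin 6)).support ⊆ (Finset.univ.erase z).erase b := by
      intro w hw
      simp only [Equiv.Perm.mem_support] at hw
      simp only [Finset.mem_erase, Finset.mem_univ, and_true]
      exact ⟨fun h => hw (h ▸ hb), fun h => hw (h ▸ hz)⟩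
    have := Finset.card_le_card hsub
    rw [hsupp, Finset.card_erase_of_mem (by simp [Ne.symm hzb]),
      Finset.card_erase_of_mem (by simp)] at this
    simp at this
  by_cases hfix : ∀ g ∈ H, g b = b
  · exact ⟨b, hfix⟩
  exfalso
  push Not at hfix
  obtain ⟨g, hg, hgb⟩ := hfix
  have hcy : ∀ z w, z ≠ b → w ≠ b → ∃ k ∈ H, k b = b ∧ k z = w := by
    intro z w hz hw
    obtain ⟨i, hi⟩ := hcyc.exists_pow_eq (fun h => hz (huniq z h)) (fun h => hw (huniq w h))
    refine ⟨(c : Equiv.Perm (Fin 6)) ^ i, pow_mem c.2 i, ?_, hi⟩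
    exact Equiv.Perm.pow_apply_eq_self_of_apply_eq_self hb i
  have htrans : ∀ z, ∃ k ∈ H, k b = z := by
    intro z
    by_cases hz : z = b
    · exact ⟨1, one_mem H, hz.symm⟩
    · obtain ⟨k, hk, -, hk'⟩ := hcy (g b) z hgb hz
      exact ⟨k * g, mul_mem hk hg, hk'⟩
  have hconj : ∀ k ∈ H, ∀ u v, Equiv.swap u v ∈ H → Equiv.swap (k u) (k v) ∈ H := by
    intro k hk u v huv
    rw [Equiv.swap_apply_apply]
    exact mul_mem (mul_mem hk huv) (inv_mem hk)
  obtain ⟨k, hk, hkb⟩ := htrans x
  have h1 := hconj k⁻¹ (inv_mem hk) x y hs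
  rw [show k⁻¹ x = b from Equiv.Perm.inv_eq_iff_eq.mpr hkb.symm] at h1
  have hz : k⁻¹ y ≠ b := fun h => hxy (by rw [← hkb, ← h, Equiv.Perm.coe_inv, Equiv.apply_symm_apply])
  have hstar : ∀ w, w ≠ b → Equiv.swap b w ∈ H := by
    intro w hw
    obtain ⟨k', hk', hkb', hkw⟩ := hcy _ w hz hw
    have := hconj k' hk' _ _ h1
    rwa [hkb', hkw] at this
  have hall : ∀ u v, u ≠ v → Equiv.swap u v ∈ H := by
    intro u v huv
    obtain ⟨k', hk', hku⟩ := htrans u
    have hne : k'⁻¹ v ≠ b := fun h => huv (by rw [← hku, ← h, Equiv.Perm.coe_inv, Equiv.apply_symm_apply])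
    have := hconj k' hk' _ _ (hstar _ hne)
    rwa [hku, Equiv.Perm.coe_inv, Equiv.apply_symm_apply] at this
  have htop : H = ⊤ := by
    rw [eq_top_iff, ← Equiv.Perm.closure_isSwap, Subgroup.closure_le]
    rintro _ ⟨u, v, huv, rfl⟩
    exact hall u v huv
  rw [htop, Subgroup.index_top] at hH
  omega

/-- An involution without fixed point. -/
def Triple (σ : Equiv.Perm (Fin 6)) : Prop := σ * σ = 1 ∧ ∀ a, σ a ≠ a

theorem triple_cycleType {σ : Equiv.Perm (Fin 6)} (h : Triple σ) :
    σ.cycleType = Multiset.replicate 3 2 := by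
  have ho : orderOf σ = 2 :=
    orderOf_eq_prime (by rw [sq]; exact h.1) (fun h1 => h.2 0 (by rw [h1]; rfl))
  obtain ⟨n, hn⟩ := Equiv.Perm.cycleType_prime_order (σ := σ) (by rw [ho]; exact Nat.prime_two)
  rw [ho] at hn
  have hs : σ.support = Finset.univ := by ext z; simp [h.2 z]
  have := σ.sum_cycleType
  rw [hs, hn] at this
  simp at this
  rw [hn, show n + 1 = 3 by omega]

/-- An odd involution is a transposition or has no fixed point. -/
theorem odd_involution {σ : Equiv.Perm (Fin 6)} (h : σ * σ = 1) (hs : σ ∉ alternatingGroup (Fin 6)) :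
    (∃ x y, x ≠ y ∧ σ = Equiv.swap x y) ∨ Triple σ := by
  rw [Equiv.Perm.mem_alternatingGroup] at hs
  have ho : orderOf σ = 2 :=
    orderOf_eq_prime (by rw [sq]; exact h) (fun h1 => hs (by rw [h1, map_one]))
  obtain ⟨n, hn⟩ := Equiv.Perm.cycleType_prime_order (σ := σ) (by rw [ho]; exact Nat.prime_two)
  rw [ho] at hn
  have hle := Equiv.Perm.sum_cycleType_le σ
  rw [hn] at hle
  simp at hle
  have hsum := σ.sum_cycleType
  rw [hn] at hsum
  simp at hsum
  have hn3 : n = 0 ∨ n = 1 ∨ n = 2 := by omega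
  rcases hn3 with rfl | rfl | rfl
  · left
    obtain ⟨x, y, hxy, rfl⟩ := Equiv.Perm.card_support_eq_two.mp (by omega : σ.support.card = 2)
    exact ⟨x, y, hxy, rfl⟩
  · exfalso
    apply hs
    rw [Equiv.Perm.sign_of_cycleType, hn]
    rfl
  · right
    refine ⟨h, fun a => ?_⟩
    have : σ.support = Finset.univ := Finset.eq_univ_of_card _ (by simp; omega)
    have ha : a ∈ σ.support := this ▸ Finset.mem_univ a
    exact Equiv.Perm.mem_support.mp ha

theorem triple_conj {σ τ : Equiv.Perm (Fin 6)} (h : Triple σ) (h' : Triple τ) : IsConj σ τ := by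
  rw [Equiv.Perm.isConj_iff_cycleType_eq, triple_cycleType h, triple_cycleType h']

theorem triple_of_conj {σ τ : Equiv.Perm (Fin 6)} (h : Triple σ) (hc : IsConj σ τ) : Triple τ := by
  obtain ⟨g, rfl⟩ := isConj_iff.mp hc
  refine ⟨?_, fun a ha => h.2 (g⁻¹ a) ?_⟩
  · rw [show g * σ * g⁻¹ * (g * σ * g⁻¹) = g * (σ * σ) * g⁻¹ by group, h.1, mul_one, mul_inv_cancel]
  · have := congrArg (fun z => g⁻¹ z) ha
    simpa using this

/-- Automorphisms belonging to transitive subgroups send transpositions to triple transpositions. -/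
theorem triple_image {H : Subgroup (Equiv.Perm (Fin 6))} (hH : H.index = 6)
    (hns : ∀ a : Fin 6, H ≠ MulAction.stabilizer (Equiv.Perm (Fin 6)) a)
    {φ : Equiv.Perm (Fin 6) ≃* Equiv.Perm (Fin 6)}
    (hφ : H = (MulAction.stabilizer (Equiv.Perm (Fin 6)) (0 : Fin 6)).comap φ.toMonoidHom)
    {x y : Fin 6} (hxy : x ≠ y) : Triple (φ (Equiv.swap x y)) := by
  refine ⟨by rw [← map_mul, Equiv.swap_mul_self, map_one], fun a ha => ?_⟩
  obtain ⟨u, hu⟩ : ∃ u : Equiv.Perm (Fin 6), u 0 = a := ⟨Equiv.swap 0 a, Equiv.swap_apply_left _ _⟩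
  obtain ⟨k, rfl⟩ := φ.surjective u
  obtain ⟨b, hb⟩ := eq_stab_of_swap hH (x := k⁻¹ x) (y := k⁻¹ y) (by simpa using hxy) (by
    rw [Equiv.swap_apply_apply, hφ, Subgroup.mem_comap, MulAction.mem_stabilizer_iff]
    show φ (k⁻¹ * Equiv.swap x y * k⁻¹⁻¹) 0 = 0
    rw [map_mul, map_mul, inv_inv, map_inv, Equiv.Perm.mul_apply, Equiv.Perm.mul_apply, hu, ha,
      ← hu, Equiv.Perm.inv_eq_iff_eq])
  exact hns b hb

theorem map_alternating (φ : Equiv.Perm (Fin 6) ≃* Equiv.Perm (Fin 6)) {g : Equiv.Perm (Fin 6)}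
    (hg : g ∉ alternatingGroup (Fin 6)) : φ g ∉ alternatingGroup (Fin 6) := by
  intro h
  apply hg
  have := Subgroup.characteristic_iff_comap_eq.mp (inferInstance : (alternatingGroup (Fin 6)).Characteristic) φ
  rw [← this]
  exact h

/-- There is a subgroup of index 6 without fixed points: `S_5` acting on its Sylow 5-subgroups. -/
theorem exists_nonstab : ∃ H : Subgroup (Equiv.Perm (Fin 6)), H.index = 6 ∧
    ∀ a : Fin 6, H ≠ MulAction.stabilizer (Equiv.Perm (Fin 6)) a := by
  classical
  have : Fact (Nat.Prime 5) := ⟨by norm_num⟩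
  let G := Equiv.Perm (Fin 5)
  let P : Sylow 5 G := default
  have hG : Nat.card G = 120 := by rw [Nat.card_perm, Nat.card_fin]; rfl
  have hP : Nat.card P = 5 := by
    rw [P.card_eq_multiplicity, hG, show (120 : ℕ) = 5 * 24 by norm_num,
      Nat.factorization_mul (by norm_num) (by norm_num)]
    simp [Nat.Prime.factorization_self (p := 5) (by norm_num),
      Nat.factorization_eq_zero_of_not_dvd (show ¬ 5 ∣ 24 by norm_num)]
  have hPi : (P : Subgroup G).index = 24 := by
    have := (P : Subgroup G).card_mul_index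
    rw [hP, hG] at this
    omega
  have hmod := card_sylow_modEq_one 5 G
  have hdvd : Nat.card (Sylow 5 G) ∣ 24 := hPi ▸ P.card_dvd_index
  have hne1 : Nat.card (Sylow 5 G) ≠ 1 := by
    intro h1
    have : Subsingleton (Sylow 5 G) := (Nat.card_eq_one_iff_unique.mp h1).1
    have hn : (P : Subgroup G).Normal := by
      rw [← Subgroup.normalizer_eq_top_iff, ← Subgroup.index_eq_one]
      exact (Sylow.card_eq_index_normalizer P).symm.trans h1
    have hnt : Nontrivial (P : Subgroup G) := Finite.one_lt_card_iff_nontrivial.mp (by omega)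
    have hle := Equiv.Perm.alternatingGroup_le_of_normal (α := Fin 5) (by simp) hnt
    have := Subgroup.index_antitone hle
    rw [alternatingGroup.index_eq_two, hPi] at this
    omega
  have h6 : Nat.card (Sylow 5 G) = 6 := by
    have hle := Nat.le_of_dvd (by norm_num) hdvd
    unfold Nat.ModEq at hmod
    interval_cases Nat.card (Sylow 5 G) <;> omega
  let e : Sylow 5 G ≃ Fin 6 := Finite.equivFinOfCardEq h6
  let f : G →* Equiv.Perm (Fin 6) := e.permCongrHom.toMonoidHom.comp (MulAction.toPermHom G (Sylow 5 G))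
  have hf : Function.Injective f := by
    refine e.permCongrHom.injective.comp ?_
    rw [← MonoidHom.ker_eq_bot_iff]
    by_contra hc
    have hle := Equiv.Perm.alternatingGroup_le_of_normal (α := Fin 5) (by simp)
      ((Subgroup.nontrivial_iff_ne_bot _).mpr hc)
    have hstab : alternatingGroup (Fin 5) ≤ MulAction.stabilizer G P := by
      intro g hg
      have := DFunLike.congr_fun (MonoidHom.mem_ker.mp (hle hg)) P
      exact this
    have := Subgroup.index_antitone hstab
    rw [alternatingGroup.index_eq_two, MulAction.index_stabilizer_of_transitive, h6] at this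
    omega
  refine ⟨f.range, ?_, fun a ha => ?_⟩
  · have := f.range.card_mul_index
    rw [← Nat.card_congr (MonoidHom.ofInjective hf).toEquiv, hG, Nat.card_perm, Nat.card_fin] at this
    norm_num [Nat.factorial] at this
    omega
  · have : Nontrivial (Sylow 5 G) := Finite.one_lt_card_iff_nontrivial.mp (by omega)
    obtain ⟨Q, hQ⟩ := exists_ne (e.symm a)
    obtain ⟨g, hg⟩ := MulAction.exists_smul_eq G (e.symm a) Q
    have hmem : f g ∈ MulAction.stabilizer (Equiv.Perm (Fin 6)) a := ha ▸ ⟨g, rfl⟩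
    have : e (g • e.symm a) = a := hmem
    rw [hg] at this
    exact hQ (by rw [← this, e.symm_apply_apply])

theorem card_and_iso : Nat.card {H : Subgroup (Equiv.Perm (Fin 6)) // H.index = 6} = 12 ∧
    ∀ H : Subgroup (Equiv.Perm (Fin 6)), H.index = 6 → Nonempty (H ≃* Equiv.Perm (Fin 5)) := by
  classical
  constructor
  swap
  · intro H hH
    obtain ⟨φ, hφ⟩ := exists_aut hH
    obtain ⟨e⟩ := stab_zero_equiv
    rw [hφ]
    exact ⟨(({ φ.toEquiv.subtypeEquiv (fun g => Iff.rfl) with
      map_mul' := fun g h => Subtype.ext (map_mul φ g.1 h.1) } :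
        ((MulAction.stabilizer (Equiv.Perm (Fin 6)) (0 : Fin 6)).comap φ.toMonoidHom) ≃*
          MulAction.stabilizer (Equiv.Perm (Fin 6)) (0 : Fin 6))).trans e⟩
  obtain ⟨K, hK, hKns⟩ := exists_nonstab
  obtain ⟨ψ, hψ⟩ := exists_aut hK
  let T : Fin 6 ⊕ Fin 6 → {H : Subgroup (Equiv.Perm (Fin 6)) // H.index = 6} := fun t =>
    t.elim (fun a => ⟨MulAction.stabilizer _ a, index_stab a⟩)
      (fun a => ⟨(MulAction.stabilizer _ a).comap ψ.toMonoidHom,
        by rw [Subgroup.index_comap_of_surjective _ ψ.surjective, index_stab]⟩)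
  have stab_inj : ∀ a b : Fin 6, MulAction.stabilizer (Equiv.Perm (Fin 6)) a =
      MulAction.stabilizer (Equiv.Perm (Fin 6)) b → a = b := by
    intro a b h
    by_contra hab
    obtain ⟨c, hca, hcb⟩ := (by decide : ∀ a b : Fin 6, ∃ c, c ≠ a ∧ c ≠ b) a b
    have : Equiv.swap c b ∈ MulAction.stabilizer (Equiv.Perm (Fin 6)) a :=
      Equiv.swap_apply_of_ne_of_ne hca.symm hab
    rw [h] at this
    exact hcb ((Equiv.swap_apply_right c b).symm.trans this)
  have hsep : ∀ a b, (T (Sum.inl a)).1 ≠ (T (Sum.inr b)).1 := by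
    intro a b h
    obtain ⟨x, y, hxy, hxa, hya⟩ := (by decide : ∀ a : Fin 6, ∃ x y, x ≠ y ∧ x ≠ a ∧ y ≠ a) a
    have hm : Equiv.swap x y ∈ (T (Sum.inl a)).1 := Equiv.swap_apply_of_ne_of_ne hxa.symm hya.symm
    rw [h] at hm
    exact (triple_image hK hKns hψ hxy).2 b hm
  have hTinj : Function.Injective T := by
    rintro (a | a) (b | b) h <;> replace h := congrArg Subtype.val h
    · exact congrArg Sum.inl (stab_inj a b h)
    · exact absurd h (hsep a b)
    · exact absurd h.symm (hsep b a)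
    · exact congrArg Sum.inr (stab_inj a b (Subgroup.comap_injective ψ.surjective h))
  have hTsurj : Function.Surjective T := by
    rintro ⟨H, hH⟩
    by_cases hns : ∃ a : Fin 6, H = MulAction.stabilizer (Equiv.Perm (Fin 6)) a
    · obtain ⟨a, rfl⟩ := hns
      exact ⟨Sum.inl a, rfl⟩
    push Not at hns
    obtain ⟨φ, hφ⟩ := exists_aut hH
    let θ := ψ.symm.trans φ
    have h01 : (0 : Fin 6) ≠ 1 := by decide
    have hθ : ∀ τ, Triple τ → Triple (θ τ) := by
      intro τ hτ
      have h1 := triple_image hK hKns hψ h01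
      have h2 : Triple (θ (ψ (Equiv.swap 0 1))) := by
        show Triple (φ (ψ.symm (ψ (Equiv.swap 0 1))))
        rw [MulEquiv.symm_apply_apply]
        exact triple_image hH hns hφ h01
      exact triple_of_conj h2 (θ.toMonoidHom.map_isConj (triple_conj h1 hτ))
    have h12 : (1 : Fin 6) ≠ 2 := by decide
    obtain ⟨t, ht⟩ := θ.surjective (Equiv.swap (1 : Fin 6) 2)
    have hodd : t ∉ alternatingGroup (Fin 6) := by
      intro h
      have hsw : Equiv.swap (1 : Fin 6) 2 ∉ alternatingGroup (Fin 6) := by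
        rw [Equiv.Perm.mem_alternatingGroup, Equiv.Perm.sign_swap h12]; decide
      have := map_alternating θ.symm hsw
      rw [← ht, MulEquiv.symm_apply_apply] at this
      exact this h
    have hinv : t * t = 1 := θ.injective (by rw [map_mul, ht, Equiv.swap_mul_self, map_one])
    rcases odd_involution hinv hodd with ⟨x, y, hxy, rfl⟩ | ht3
    · obtain ⟨a, ha⟩ := eq_stab_of_swap
        (H := (MulAction.stabilizer (Equiv.Perm (Fin 6)) (0 : Fin 6)).comap θ.toMonoidHom)
        (by rw [Subgroup.index_comap_of_surjective _ θ.surjective, index_stab]) hxy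
        (by show θ (Equiv.swap x y) 0 = 0
            rw [ht]; decide)
      refine ⟨Sum.inr a, Subtype.ext ?_⟩
      show (MulAction.stabilizer _ a).comap ψ.toMonoidHom = H
      rw [← ha, Subgroup.comap_comap, hφ]
      congr 1
      ext g x
      show ((φ (ψ.symm (ψ g))) x : ℕ) = ((φ g) x : ℕ)
      rw [MulEquiv.symm_apply_apply]
    · exact absurd ((ht ▸ hθ t ht3).2 0) (by decide)
  rw [← Nat.card_congr (Equiv.ofBijective T ⟨hTinj, hTsurj⟩), Nat.card_sum, Nat.card_fin]

/-- The symmetric group S_6 has exactly 12 subgroups of index 6; each of them is isomorphic to S_5, and at least one of them is not the stabilizer of any point. -/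
theorem result : Nat.card {H : Subgroup (Equiv.Perm (Fin 6)) // H.index = 6} = 12 ∧ (∀ H : Subgroup (Equiv.Perm (Fin 6)), H.index = 6 → Nonempty (H ≃* Equiv.Perm (Fin 5))) ∧ ∃ H : Subgroup (Equiv.Perm (Fin 6)), H.index = 6 ∧ ∀ a : Fin 6, H ≠ MulAction.stabilizer (Equiv.Perm (Fin 6)) a := by
  exact ⟨card_and_iso.1, card_and_iso.2, exists_nonstab⟩

end Cfsg.Agent.S5945
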