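import Cfsg.Statements.S4485
import Cfsg.Agent.Lib.TICent.Main

set_option autoImplicit false
open Cfsg

namespace Cfsg.Agent.S4485

universe u

open scoped Classical in
theorem aux (p : ℕ) [Fact p.Prime] (m : ℕ) : ∀ {G : Type u} [Group G] [Finite G],
    Nat.card G = m → ∀ (P : Sylow p G), TICent.Star P → ∀ (χ : G → ℂ) (f : ℕ),
      Cfsg.IsCharacter G χ → χ 1 = f → (∀ g : G, χ g = χ 1 → g = 1) →
      f ^ 2 + 1 < Nat.card (P : Subgroup G) → (P : Subgroup G).Normal := by
  induction m using Nat.strong_induction_on with
  | _ m ih =>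
  intro G _ _ hm P hs χ f hχ hf hfaith hfq
  letI := Fintype.ofFinite G
  by_cases hK : ∃ K : Subgroup G, K.Normal ∧ K ≠ ⊤ ∧ (P : Subgroup G) ≤ K
  · obtain ⟨K, hKn, hKt, hPK⟩ := hK
    have hlt : Nat.card K < m := by
      rw [← hm]
      exact lt_of_le_of_ne (Subgroup.card_le_card_group K)
        (fun h => hKt (Subgroup.eq_top_of_card_eq K h))
    have hQ : ((P.subtype hPK : Sylow p K) : Subgroup K) = (P : Subgroup G).subgroupOf K :=
      Sylow.coe_subtype _ _
    have hs' : TICent.Star (P.subtype hPK) := by
      intro x hx hx1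
      rw [hQ] at hx ⊢
      ext c
      rw [Subgroup.mem_centralizer_singleton_iff, Subgroup.mem_centralizer_iff]
      have hstar := hs (x : G) hx (fun h => hx1 (Subtype.ext h))
      constructor
      · intro hc a ha
        have hcC : (c : G) ∈ Subgroup.centralizer ({(x : G)} : Set G) :=
          Subgroup.mem_centralizer_singleton_iff.2 (congrArg Subtype.val hc)
        rw [hstar] at hcC
        exact Subtype.ext (Subgroup.mem_centralizer_iff.1 hcC _ ha)
      · intro hc
        exact (hc x hx).symm
    have hN := ih _ hlt rfl (P.subtype hPK) hs' (fun k : K => χ k) f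
      (Char.IsCharacter.restrict hχ K) hf (fun k hk => Subtype.ext (hfaith _ hk))
      (by rw [hQ, Nat.card_congr (Subgroup.subgroupOfEquivOfLe hPK).toEquiv]; exact hfq)
    have hchar := Sylow.characteristic_of_normal (P.subtype hPK) hN
    rw [hQ] at hchar
    rw [← Subgroup.map_subgroupOf_eq_of_le hPK]
    exact ConjAct.normal_of_characteristic_of_normal
  · have hno : TICent.NoProper P := fun K hn hle => by_contra fun h => hK ⟨K, hn, h, hle⟩
    obtain ⟨a, ha, -⟩ := Char.IsCharacter.exists_decomp hχ
    have hlin : ∀ ψ : Cfsg.IrrCharacter G, a ψ ≠ 0 → Char.degree ψ = 1 := by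
      intro ψ hψ
      by_cases h : ψ = Char.trivialChar G
      · subst h
        have := Char.apply_one_eq_degree (Char.trivialChar G)
        change (1 : ℂ) = _ at this
        exact_mod_cast this.symm
      refine (TICent.core hs hno ψ h (Char.apply_one_eq_degree ψ) ?_).2
      have hle : Char.degree ψ ≤ f := by
        have h1 := congrFun ha 1
        simp only [Finset.sum_apply, Pi.smul_apply, smul_eq_mul, Char.apply_one_eq_degree, hf]
          at h1
        have h1' : f = ∑ φ, a φ * Char.degree φ := by exact_mod_cast h1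
        rw [h1']
        exact le_trans (Nat.le_mul_of_pos_left _ (Nat.pos_of_ne_zero hψ))
          (Finset.single_le_sum (f := fun φ => a φ * Char.degree φ) (fun _ _ => Nat.zero_le _)
            (Finset.mem_univ ψ))
      exact lt_of_le_of_lt (Nat.add_le_add_right (Nat.pow_le_pow_left hle 2) 1) hfq
    have hcomm : ∀ g h : G, g * h = h * g := by
      intro g h
      refine mul_inv_eq_one.1 (hfaith _ ?_)
      rw [ha]
      simp only [Finset.sum_apply, Pi.smul_apply, smul_eq_mul]
      refine Finset.sum_congr rfl fun ψ _ => ?_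
      by_cases h0 : a ψ = 0
      · simp [h0]
      congr 1
      have hc := Char.irr_isCharacter ψ
      have h1 : ψ.1 1 = 1 := by rw [Char.apply_one_eq_degree, hlin ψ h0, Nat.cast_one]
      have hnorm : ∀ y : G, ‖ψ.1 y‖ = ‖ψ.1 1‖ := by
        intro y
        have hle : ∀ z ∈ (Finset.univ : Finset G), Complex.normSq (ψ.1 z) ≤ 1 := fun z _ => by
          have h := CharInt.norm_char_le hc z
          rw [h1, norm_one] at h
          rw [Complex.normSq_eq_norm_sq]
          exact pow_le_one₀ (norm_nonneg _) h
        have hsum : ∑ z : G, Complex.normSq (ψ.1 z) = ∑ _z : G, (1 : ℝ) := by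
          apply Complex.ofReal_injective
          rw [TICent.sum_normSq_of_classInner, Char.classInner_irr_self ψ.2, mul_one]
          simp [Nat.card_eq_fintype_card]
        have hy := (Finset.sum_eq_sum_iff_of_le hle).1 hsum y (Finset.mem_univ y)
        rw [Complex.normSq_eq_norm_sq] at hy
        rw [h1, norm_one]
        exact (pow_eq_one_iff_of_nonneg (norm_nonneg _) two_ne_zero).1 hy
      have hmul : ∀ y z : G, ψ.1 (y * z) = ψ.1 y * ψ.1 z := fun y z => by
        have := CharInt.char_mul_of_mem_centre hc (hnorm y) z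
        rwa [h1, mul_one] at this
      rw [hmul, hmul g h, ← mul_comm (ψ.1 h) (ψ.1 g), ← hmul h g, ← hmul, mul_inv_cancel]
    exact ⟨fun x hx g => by rwa [hcomm g x, mul_inv_cancel_right]⟩

/-- Let G be a finite group and p a prime dividing its order such that every non-identity element of a Sylow p-subgroup P has the same centralizer as P itself (so P is abelian); let p^n be the order of P. If G has a faithful character of degree x with x² < p^n − 1, then P is normal in G. -/
theorem result {G : Type*} [Group G] [Finite G] (p : ℕ) (hp : p.Prime) (hpG : p ∣ Nat.card G) (P : Sylow p G) (hstar : ∀ x ∈ (P : Subgroup G), x ≠ 1 → Subgroup.centralizer ({x} : Set G) = Subgroup.centralizer ((P : Subgroup G) : Set G)) (n : ℕ) (hn : Nat.card P = p ^ n) (χ : G → ℂ) (hχ : Cfsg.IsCharacter G χ) (hfaith : ∀ g : G, χ g = χ 1 → g = 1) (hdeg : Cfsg.charDegree χ ^ 2 + 1 < p ^ n) : (P : Subgroup G).Normal := by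
  haveI : Fact p.Prime := ⟨hp⟩
  obtain ⟨m, hm⟩ := Char.IsCharacter.apply_one hχ
  have hd : Cfsg.charDegree χ = m := by
    rw [Cfsg.charDegree, hm, Complex.natCast_re, Nat.floor_natCast]
  exact aux p _ rfl P hstar χ m hχ hm hfaith (by rw [← hd, hn]; exact hdeg)

end Cfsg.Agent.S4485
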