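import Cfsg.Statements.S4504
import Cfsg.Agent.Lib.SmallDegree.Half
-- import your own Cfsg.Agent.* helpers here

set_option autoImplicit false
open Cfsg

namespace Cfsg.Agent.S4504

set_option linter.style.haveILetI false

open Cfsg.Agent.SmallDegree

/-- Let G be a finite group whose order is divisible by the prime p exactly once and which has no normal subgroup of order p. If G has a faithful character of degree exactly (p − 1)/2, then G modulo its centre is isomorphic to PSL(2, p). -/
theorem result {G : Type*} [Group G] [Finite G] (p : ℕ) (hp : p.Prime) (hdiv : p ∣ Nat.card G) (hsq : ¬ p ^ 2 ∣ Nat.card G) (hnn : ∀ H : Subgroup G, H.Normal → Nat.card H ≠ p) (χ : G → ℂ) (hχ : Cfsg.IsCharacter G χ) (hfaith : ∀ g : G, χ g = χ 1 → g = 1) (hdeg : 2 * Cfsg.charDegree χ + 1 = p) : Nonempty ((G ⧸ Subgroup.center G) ≃* Matrix.ProjectiveSpecialLinearGroup (Fin 2) (ZMod p)) := by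
  classical
  haveI : Fact p.Prime := ⟨hp⟩
  obtain ⟨n, ρ, hρ⟩ := hχ
  have hn : Cfsg.charDegree χ = n := by
    have h1 : χ 1 = n := by rw [← hρ]; simp
    rw [Cfsg.charDegree, h1, Complex.natCast_re, Nat.floor_natCast]
  rw [hn] at hdeg
  have hinj : Function.Injective ρ := (injective_iff_map_eq_one ρ).2 fun g hg => hfaith g (by
    rw [← hρ]
    simp only [Representation.character, hg, map_one])
  obtain ⟨x, hx⟩ := exists_prime_orderOf_dvd_card' p hdiv
  have hP : Nat.card (Subgroup.zpowers x) = p := by rw [Nat.card_zpowers, hx]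
  have hPn : ¬ (Subgroup.zpowers x).Normal := fun h => hnn _ h hP
  have h5 : 5 ≤ p := by
    by_contra h
    have hn1 : n ≤ 1 := by omega
    refine hPn ⟨fun u hu g => ?_⟩
    have hcomm : g * u = u * g := hinj (by
      rw [map_mul, map_mul]
      interval_cases n
      · exact LinearMap.ext fun v => Subsingleton.elim _ _
      · refine LinearMap.ext fun v => ?_
        simp only [Module.End.mul_apply]
        have hs : ∀ (f : Module.End ℂ (Fin 1 → ℂ)) (w : Fin 1 → ℂ), f w = f 1 0 • w := fun f w => by
          have hw : w = w 0 • (1 : Fin 1 → ℂ) := funext fun i => by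
            rw [Subsingleton.elim i 0]; simp
          conv_lhs => rw [hw, map_smul]
          funext i
          rw [Subsingleton.elim i 0]
          simp [mul_comm]
        rw [hs (ρ g), hs (ρ u), hs (ρ u) (ρ g v), hs (ρ g) v, smul_comm])
    rwa [hcomm, mul_inv_cancel_right]
  exact nonempty_quotient_center_iso_psl ρ hinj (by omega) h5 hP hsq hPn

end Cfsg.Agent.S4504
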