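import Cfsg.Statements.S4956
import Cfsg.Agent.Lib.Coprime.Basic
import Mathlib

set_option autoImplicit false
open Cfsg

namespace Cfsg.Agent.S4956

/-- Let X be a finite group, V an abelian normal subgroup of X (any two elements of V commute) and G a complement to V in X whose order is coprime to that of V. Let S be a set of representatives of the orbits of G on V under conjugation: S lies in V and every element of V is conjugate under G to exactly one member of S. Then the number of conjugacy classes of X equals the sum, over s in S, of the number of conjugacy classes of the centralizer of s in G. -/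
theorem result {X : Type*} [Group X] [Finite X] (V : Subgroup X) [V.Normal] (hab : ∀ a ∈ V, ∀ b ∈ V, a * b = b * a) (G : Subgroup X) (hGV : Subgroup.IsComplement' V G) (hcop : (Nat.card V).Coprime (Nat.card G)) (S : Finset X) (hSV : ∀ s ∈ S, s ∈ V) (hrep : ∀ v ∈ V, ∃! s, s ∈ S ∧ ∃ g ∈ G, g * v * g⁻¹ = s) : Nat.card (ConjClasses X) = ∑ s ∈ S, Nat.card (ConjClasses ↥(G ⊓ Subgroup.centralizer ({s} : Set X))) := by
  classical
  have hcv : IsMulCommutative ↥V := ⟨⟨fun a b => Subtype.ext (hab a a.2 b b.2)⟩⟩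
  set n := Nat.card V
  set m := Nat.card G
  obtain ⟨e, he0, he1⟩ := Nat.chineseRemainder hcop 0 1
  have hnm : n * m = Nat.card X := hGV.card_mul_card
  have hpow_ord : ∀ (x : X) (c : ℕ), orderOf x ∣ c → x ^ c = 1 := fun x c h =>
    orderOf_dvd_iff_pow_eq_one.1 h
  have heV : ∀ a ∈ V, a ^ e = 1 := fun a ha =>
    hpow_ord a e ((V.orderOf_dvd_natCard ha).trans (Nat.modEq_zero_iff_dvd.1 he0))
  have heG : ∀ g ∈ G, g ^ e = g := fun g hg => by
    conv_rhs => rw [← pow_one g]
    rw [pow_eq_pow_iff_modEq]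
    exact he1.of_dvd (G.orderOf_dvd_natCard hg)
  have hGVbot : ∀ x : X, x ∈ V → x ∈ G → x = 1 := fun x h1 h2 =>
    Subgroup.disjoint_def.1 hGV.disjoint h1 h2
  have heq : ∀ g ∈ G, ∀ g' ∈ G, g * g'⁻¹ ∈ V → g = g' := fun g hg g' hg' h =>
    mul_inv_eq_one.1 (hGVbot _ h (G.mul_mem hg (G.inv_mem hg')))
  have hdec : ∀ x : X, ∃ a ∈ V, ∃ g ∈ G, a * g = x := fun x => by
    obtain ⟨⟨a, g⟩, h⟩ := hGV.surjective x
    exact ⟨a, a.2, g, g.2, h⟩
  have hVn : ∀ a ∈ V, ∀ y : X, y * a * y⁻¹ ∈ V := fun a ha y =>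
    Subgroup.Normal.conj_mem ‹V.Normal› a ha y
  have hsplit : ∀ x : X, ∃ d g v : X, g ∈ G ∧ v ∈ V ∧ g * v * g⁻¹ = v ∧ d * x * d⁻¹ = g * v := by
    intro x
    obtain ⟨a, ha, g, hg, hx⟩ := hdec x
    set y := x ^ e with hy
    have hmkx : (x : X ⧸ V) = (g : X ⧸ V) := by
      rw [← hx, QuotientGroup.mk_mul, (QuotientGroup.eq_one_iff a).2 ha, one_mul]
    have hmky : (y : X ⧸ V) = (g : X ⧸ V) := by
      rw [hy, QuotientGroup.mk_pow, hmkx, ← QuotientGroup.mk_pow, heG g hg]
    have hyg : y * g⁻¹ ∈ V := by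
      rw [← QuotientGroup.eq_one_iff, QuotientGroup.mk_mul, QuotientGroup.mk_inv, hmky,
        mul_inv_cancel]
    have hym : y ^ m = 1 := by
      rw [hy, ← pow_mul]
      refine hpow_ord x _ ((orderOf_dvd_natCard x).trans ?_)
      rw [← hnm]
      exact Nat.mul_dvd_mul_right (Nat.modEq_zero_iff_dvd.1 he0) m
    have hord : orderOf y = orderOf g := by
      refine Nat.dvd_antisymm (orderOf_dvd_of_pow_eq_one ?_) (orderOf_dvd_of_pow_eq_one ?_)
      · have h1 : y ^ orderOf g ∈ V := by
          rw [← QuotientGroup.eq_one_iff, QuotientGroup.mk_pow, hmky, ← QuotientGroup.mk_pow,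
            pow_orderOf_eq_one, QuotientGroup.mk_one]
        refine orderOf_eq_one_iff.1 (Nat.eq_one_of_dvd_coprimes hcop (V.orderOf_dvd_natCard h1) ?_)
        exact (orderOf_pow_dvd _).trans (orderOf_dvd_of_pow_eq_one hym)
      · refine hGVbot _ ?_ (G.pow_mem hg _)
        rw [← QuotientGroup.eq_one_iff, QuotientGroup.mk_pow, ← hmky, ← QuotientGroup.mk_pow,
          pow_orderOf_eq_one, QuotientGroup.mk_one]
    have hnorm : Subgroup.zpowers g ≤ Subgroup.normalizer (V : Set X) := by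
      rw [Subgroup.normalizer_eq_top V]; exact le_top
    obtain ⟨c, hc, hconj⟩ := Cfsg.Agent.Coprime.exists_conj_eq_of_le_sup_of_comm V
      (Subgroup.zpowers g) (Subgroup.zpowers y) hnorm
      (Subgroup.zpowers_le.2 (by
        rw [show y = (y * g⁻¹) * g by group]
        exact Subgroup.mul_mem _ (Subgroup.mem_sup_right hyg)
          (Subgroup.mem_sup_left (Subgroup.mem_zpowers g))))
      (by rw [Nat.card_zpowers, Nat.card_zpowers, hord])
      (by
        rw [Nat.card_zpowers]
        exact hcop.symm.coprime_dvd_left (G.orderOf_dvd_natCard hg))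
    have hyc : c⁻¹ * y * c ∈ Subgroup.zpowers g :=
      Cfsg.Agent.Coprime.mem_conj_smul_iff.1 (hconj ▸ Subgroup.mem_zpowers y)
    have hyg' : c⁻¹ * y * c = g := by
      refine heq _ ((Subgroup.zpowers_le.2 hg) hyc) g hg ?_
      rw [← QuotientGroup.eq_one_iff]
      simp only [QuotientGroup.mk_mul, QuotientGroup.mk_inv, hmky,
        (QuotientGroup.eq_one_iff c).2 hc, inv_one, one_mul, mul_one, mul_inv_cancel]
    set w := c⁻¹ * x * c with hw
    have hwg : w ^ e = g := by
      rw [← hyg', hw, hy]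
      have h := @conj_pow X _ e c⁻¹ x
      rw [inv_inv] at h
      exact h
    have hcomm : Commute w g := by rw [← hwg]; exact Commute.self_pow w e
    refine ⟨c⁻¹, g, g⁻¹ * w, hg, ?_, ?_, by simp [hw]⟩
    · rw [← QuotientGroup.eq_one_iff]
      simp only [hw, QuotientGroup.mk_mul, QuotientGroup.mk_inv, hmkx,
        (QuotientGroup.eq_one_iff c).2 hc, inv_one, one_mul, mul_one, inv_mul_cancel]
    · calc g * (g⁻¹ * w) * g⁻¹ = w * g⁻¹ := by group
        _ = g⁻¹ * w := hcomm.inv_right.eq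
  let C : X → Subgroup X := fun s => G ⊓ Subgroup.centralizer ({s} : Set X)
  have hcomm : ∀ (s : X) (g : C s), Commute (g : X) s := fun s g =>
    Subgroup.mem_centralizer_singleton_iff.1 g.2.2
  let f : (Σ s : ↥S, ConjClasses ↥(C s)) → ConjClasses X := fun z =>
    Quotient.liftOn z.2 (fun g => ConjClasses.mk ((g : X) * (z.1 : X))) (by
      intro a b h
      obtain ⟨c, hc⟩ := isConj_iff.1 h
      refine ConjClasses.mk_eq_mk_iff_isConj.2 (isConj_iff.2 ⟨c, ?_⟩)
      rw [← hc]
      simp only [Subgroup.coe_mul, Subgroup.coe_inv]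
      have h' := hcomm _ c
      calc (c : X) * (a * z.1) * (c : X)⁻¹ = c * a * (z.1 * (c : X)⁻¹) := by group
        _ = c * a * ((c : X)⁻¹ * z.1) := by rw [(h'.symm.inv_right).eq]
        _ = c * a * (c : X)⁻¹ * z.1 := by group)
  have hf : Function.Bijective f := by
    constructor
    · rintro ⟨s, A⟩ ⟨t, B⟩ h
      induction A using Quotient.inductionOn with | _ a => ?_
      induction B using Quotient.inductionOn with | _ b => ?_
      obtain ⟨x, hx⟩ := isConj_iff.1 (ConjClasses.mk_eq_mk_iff_isConj.1 h)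
      have h1 : x * (a : X) * x⁻¹ = b := by
        have := congrArg (· ^ e) hx
        simp only [conj_pow, (hcomm _ a).mul_pow, (hcomm _ b).mul_pow] at this
        rwa [heG _ a.2.1, heG _ b.2.1, heV _ (hSV _ s.2), heV _ (hSV _ t.2), mul_one, mul_one]
          at this
      have h2 : x * (s : X) * x⁻¹ = t := by
        have : x * (a : X) * x⁻¹ * (x * s * x⁻¹) = b * t := by rw [← hx]; group
        rw [h1] at this
        exact mul_left_cancel this
      obtain ⟨v, hv, k, hk, rfl⟩ := hdec x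
      have h3 : k * (a : X) * k⁻¹ = b := by
        refine heq _ (G.mul_mem (G.mul_mem hk a.2.1) (G.inv_mem hk)) _ b.2.1 ?_
        rw [← QuotientGroup.eq_one_iff, ← h1]
        simp only [QuotientGroup.mk_mul, QuotientGroup.mk_inv, (QuotientGroup.eq_one_iff v).2 hv,
          one_mul, mul_inv_cancel]
      have h4 : k * (s : X) * k⁻¹ = t := by
        rw [← h2]
        have := hab v hv _ (hVn _ (hSV _ s.2) k)
        calc k * (s : X) * k⁻¹ = (k * s * k⁻¹ * v) * v⁻¹ := by group
          _ = (v * (k * s * k⁻¹)) * v⁻¹ := by rw [this]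
          _ = v * k * s * (v * k)⁻¹ := by group
      obtain rfl : s = t := by
        refine Subtype.ext ((hrep _ (hSV _ s.2)).unique ⟨s.2, 1, G.one_mem, by simp⟩
          ⟨t.2, k, hk, h4⟩)
      have hkC : k ∈ C s := ⟨hk, Subgroup.mem_centralizer_singleton_iff.2
        (mul_inv_eq_iff_eq_mul.1 h4)⟩
      exact congrArg (Sigma.mk (β := fun s : ↥S => ConjClasses ↥(C s)) s)
        (Quotient.sound (isConj_iff.2 ⟨⟨k, hkC⟩, Subtype.ext h3⟩))
    · intro Q
      induction Q using Quotient.inductionOn with | _ x => ?_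
      obtain ⟨d, g, v, hg, hv, hgv, hd⟩ := hsplit x
      obtain ⟨s, ⟨hsS, h, hh, hs⟩, -⟩ := hrep v hv
      have hmem : h * g * h⁻¹ ∈ C s := by
        refine ⟨G.mul_mem (G.mul_mem hh hg) (G.inv_mem hh),
          Subgroup.mem_centralizer_singleton_iff.2 ?_⟩
        rw [← hs]
        calc h * g * h⁻¹ * (h * v * h⁻¹) = h * (g * v) * h⁻¹ := by group
          _ = h * (v * g) * h⁻¹ := by rw [mul_inv_eq_iff_eq_mul.1 hgv]
          _ = h * v * h⁻¹ * (h * g * h⁻¹) := by group
      refine ⟨⟨⟨s, hsS⟩, ConjClasses.mk ⟨_, hmem⟩⟩, ?_⟩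
      refine (ConjClasses.mk_eq_mk_iff_isConj.2 (isConj_iff.2 ⟨h * d, ?_⟩)).symm
      show h * d * x * (h * d)⁻¹ = h * g * h⁻¹ * s
      calc h * d * x * (h * d)⁻¹ = h * (d * x * d⁻¹) * h⁻¹ := by group
        _ = h * (g * v) * h⁻¹ := by rw [hd]
        _ = h * g * h⁻¹ * (h * v * h⁻¹) := by group
        _ = h * g * h⁻¹ * s := by rw [hs]
  rw [← Nat.card_congr (Equiv.ofBijective f hf), Nat.card_sigma,
    Finset.sum_coe_sort S (fun s => Nat.card (ConjClasses ↥(C s)))]

end Cfsg.Agent.S4956
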