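import Cfsg.Statements.S5463
import Cfsg.Agent.Lib.Transpos.M22Twins
import Cfsg.Agent.Lib.Transpos.M22Conn
-- import your own Cfsg.Agent.* helpers here

set_option autoImplicit false
open Cfsg

namespace Cfsg.Agent.S5463

open Cfsg.Agent.Transpos in
/-- The commuting sets are connected with all members active. -/
theorem conn_dc {G : Type*} [Group G] [Finite G] {D : Set G} (hD : Cfsg.IsThreeTranspositionGroup D)
    (h : Cfsg.IsOfTypeM22 G D) (hgood : Good D) (ha : AllActive D) :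
    ∀ a ∈ D, Conn (Dc D a) ∧ AllActive (Dc D a) := by
  have hE := tr_of_group hD
  have ht := Trans.of_conn hE hgood.1 ha
  have hn := NoTwin.of_thin hgood.2 ha
  obtain ⟨-, d, hd, -, -, -, ⟨F, _, _, hF, ⟨e⟩⟩, -⟩ := h
  have hU : IsSimpleGroup (Cfsg.PSU 6 F 2) :=
    ClassicalSimple.PSU_isSimpleGroup (q := 2) (by rw [hF]; norm_num) (by norm_num) (by norm_num)
  have hg : Good (Dc D d) := good_of_simple (hE.dc hd) (MulEquiv.isSimpleGroup e)
  intro a had
  obtain ⟨g, hg', hst⟩ := ht d hd a had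
  exact ⟨(hg' ▸ hst.carries.dc d).conn hg.1, fun x hx => active_Dc ht hn had hx⟩

open Cfsg.Agent.Transpos in
/-- Let G be a finite group with trivial centre generated by a conjugation-invariant set D of 3-transpositions on which it acts primitively, such that for some d in D the subgroup generated by the members of D other than d commuting with d has central largest normal 2- and 3-subgroups, and suppose G with D is of type M(22). A product j of two distinct commuting members of D determines the pair: any two 2-element sets of commuting members of D with product j coincide. A product j of three distinct pairwise commuting members of D arises from exactly two such 3-element sets. -/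
theorem result {G : Type*} [Group G] [Finite G] {D : Set G} (hD : Cfsg.IsThreeTranspositionGroup D) (hprim : Cfsg.IsPrimitiveUnderConj D) (d₀ : G) (hd₀ : d₀ ∈ D) (h3 : Cfsg.pCore 3 ↥(Subgroup.closure {y : G | y ∈ D ∧ y ≠ d₀ ∧ Commute d₀ y}) ≤ Subgroup.center ↥(Subgroup.closure {y : G | y ∈ D ∧ y ≠ d₀ ∧ Commute d₀ y})) (h2 : Cfsg.pCore 2 ↥(Subgroup.closure {y : G | y ∈ D ∧ y ≠ d₀ ∧ Commute d₀ y}) ≤ Subgroup.center ↥(Subgroup.closure {y : G | y ∈ D ∧ y ≠ d₀ ∧ Commute d₀ y})) (h22 : Cfsg.IsOfTypeM22 G D) : (∀ (j : G) (l l' : List G), (l.Nodup ∧ l.length = 2 ∧ (∀ a ∈ l, a ∈ D) ∧ (∀ a ∈ l, ∀ b ∈ l, Commute a b) ∧ l.prod = j) → (l'.Nodup ∧ l'.length = 2 ∧ (∀ a ∈ l', a ∈ D) ∧ (∀ a ∈ l', ∀ b ∈ l', Commute a b) ∧ l'.prod = j) → (∀ x : G, x ∈ l ↔ x ∈ l')) ∧ ∀ (j : G) (l₀ : List G), (l₀.Nodup ∧ l₀.length = 3 ∧ (∀ a ∈ l₀, a ∈ D) ∧ (∀ a ∈ l₀, ∀ b ∈ l₀, Commute a b) ∧ l₀.prod = j) → ∃ l₁ l₂ : List G, (l₁.Nodup ∧ l₁.length = 3 ∧ (∀ a ∈ l₁, a ∈ D) ∧ (∀ a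 ∈ l₁, ∀ b ∈ l₁, Commute a b) ∧ l₁.prod = j) ∧ (l₂.Nodup ∧ l₂.length = 3 ∧ (∀ a ∈ l₂, a ∈ D) ∧ (∀ a ∈ l₂, ∀ b ∈ l₂, Commute a b) ∧ l₂.prod = j) ∧ ¬ (∀ x : G, x ∈ l₁ ↔ x ∈ l₂) ∧ ∀ l : List G, (l.Nodup ∧ l.length = 3 ∧ (∀ a ∈ l, a ∈ D) ∧ (∀ a ∈ l, ∀ b ∈ l, Commute a b) ∧ l.prod = j) → ((∀ x : G, x ∈ l ↔ x ∈ l₁) ∨ (∀ x : G, x ∈ l ↔ x ∈ l₂)) := by
  classical
  have hE := tr_of_group hD
  have hD1 : D \ {1} = D := Set.sdiff_singleton_eq_self fun h => ne_one hD.1 h rfl
  obtain ⟨-, hgood, ha, h2', -⟩ := m22_level (hD1.symm ▸ hE) hD.2.2 h22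
  rw [hD1] at hgood ha h2'
  have hn := NoTwin.of_thin hgood.2 ha
  refine ⟨?_, ?_⟩
  · rintro j l l' ⟨hnd, hlen, hmem, hcom, hprod⟩ ⟨hnd', hlen', hmem', hcom', hprod'⟩
    obtain ⟨a, b, rfl⟩ := List.length_eq_two.mp hlen
    obtain ⟨a', b', rfl⟩ := List.length_eq_two.mp hlen'
    simp at hnd hnd' hmem hmem' hprod hprod'
    have c : Commute a b := hcom a (by simp) b (by simp)
    have c' : Commute a' b' := hcom' a' (by simp) b' (by simp)
    have he : a * b = a' * b' := hprod.trans hprod'.symm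
    have k1 : a = a' ∨ a = b' := mem_of_prod_two hE h2' hmem.1 hmem.2 hmem'.1 hmem'.2 hnd hnd' c c' he
    have k2 : b = a' ∨ b = b' := mem_of_prod_two hE h2' hmem.2 hmem.1 hmem'.1 hmem'.2 (Ne.symm hnd) hnd' c.symm c'
      (by rw [← c.eq]; exact he)
    intro x
    simp only [List.mem_cons, List.not_mem_nil, or_false]
    rcases k1 with rfl | rfl <;> rcases k2 with rfl | rfl
    · exact absurd rfl hnd
    · exact Iff.rfl
    · exact or_comm
    · exact absurd rfl hnd
  rintro j l₀ ⟨hnd, hlen, hmem, hcom, hprod⟩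
  obtain ⟨a, b, c, rfl⟩ := List.length_eq_three.mp hlen
  simp at hnd hmem
  obtain ⟨⟨nab, nac⟩, nbc⟩ := hnd
  obtain ⟨ma, mb, mc⟩ := hmem
  have cab : Commute a b := hcom a (by simp) b (by simp)
  have cac : Commute a c := hcom a (by simp) c (by simp)
  have cbc : Commute b c := hcom b (by simp) c (by simp)
  obtain ⟨f₁, f₂, f₃, ⟨⟨t1, v1⟩, ⟨t2, v2⟩, ⟨t3, v3⟩⟩, ⟨n12, n13, n23⟩, hall, hf⟩ :=
    exists_triple hD (conn_of_primitive hD hprim h22) (line_of_type hD h22) (conn_dc hD h22 hgood ha) hn h22.1 ma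
      (b := b) (c := c) ⟨mb, (Ne.symm nab), cab⟩ ⟨⟨mc, (Ne.symm nac), cac⟩, (Ne.symm nbc), cbc⟩
  have c12 : Commute f₁ f₂ := (v2.2.2 f₁ t1).1 ((v1.2.2 f₁ t1).2 (Commute.refl _))
  have c13 : Commute f₁ f₃ := (v3.2.2 f₁ t1).1 ((v1.2.2 f₁ t1).2 (Commute.refl _))
  have c23 : Commute f₂ f₃ := (v3.2.2 f₂ t2).1 ((v2.2.2 f₂ t2).2 (Commute.refl _))
  have hp0 : a * b * c = j := by rw [← hprod]; simp [mul_assoc]
  refine ⟨[a, b, c], [f₁, f₂, f₃], ⟨by simp [nab, nac, nbc], rfl, by simp [ma, mb, mc], hcom, hprod⟩,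
    ⟨by simp [n12, n13, n23], rfl, by simp [t1.1.1, t2.1.1, t3.1.1], ?_,
      by rw [← hp0, ← hf]; simp [mul_assoc]⟩, ?_, ?_⟩
  · intro x hx y hy
    simp at hx hy
    rcases hx with rfl | rfl | rfl <;> rcases hy with rfl | rfl | rfl <;>
      first
        | exact Commute.refl _
        | assumption
        | exact Commute.symm (by assumption)
  · intro h
    have := (h a).1 (by simp)
    simp at this
    rcases this with e | e | e
    · exact t1.1.2.1 e.symm
    · exact t2.1.2.1 e.symm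
    · exact t3.1.2.1 e.symm
  rintro l ⟨hnd', hlen', hmem', hcom', hprod'⟩
  have key : ∀ {u v w}, u ∈ D → v ∈ D → w ∈ D → u ≠ v → u ≠ w → v ≠ w → Commute u v →
      Commute u w → Commute v w → u * v * w = j →
      (a = u ∨ a = v ∨ a = w) ∨ Twin D a b c u := fun hu hv hw m1 m2 m3 k1 k2 k3 he =>
    mem_or_twin hE h2' ma mb mc hu hv hw nab nac nbc cab cac cbc m1 m2 m3 k1 k2 k3 (hp0.trans he.symm)
  obtain ⟨u, v, w, rfl⟩ := List.length_eq_three.mp hlen'
  simp at hnd' hmem'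
  obtain ⟨⟨nuv, nuw⟩, nvw⟩ := hnd'
  obtain ⟨mu, mv, mw⟩ := hmem'
  have kuv : Commute u v := hcom' u (by simp) v (by simp)
  have kuw : Commute u w := hcom' u (by simp) w (by simp)
  have kvw : Commute v w := hcom' v (by simp) w (by simp)
  have hp' : u * v * w = j := by rw [← hprod']; simp [mul_assoc]
  by_cases hin : a = u ∨ a = v ∨ a = w
  · left
    have two : ∀ {p q}, p ∈ D → q ∈ D → p ≠ q → Commute p q → b * c = p * q →
        ∀ x, x = p ∨ x = q ↔ x = b ∨ x = c := by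
      intro p q hp hq hpq cpq he x
      have k1 : b = p ∨ b = q := mem_of_prod_two hE h2' mb mc hp hq nbc hpq cbc cpq he
      have k2 : c = p ∨ c = q := mem_of_prod_two hE h2' mc mb hp hq (Ne.symm nbc) hpq cbc.symm cpq
        (by rw [← cbc.eq]; exact he)
      rcases k1 with rfl | rfl <;> rcases k2 with rfl | rfl
      · exact absurd rfl nbc
      · exact Iff.rfl
      · exact or_comm
      · exact absurd rfl nbc
    have hcancel : ∀ {s}, a * s = j → b * c = s := fun {s} hs =>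
      mul_left_cancel (a := a) (by rw [hs, ← hp0, mul_assoc])
    intro x
    simp only [List.mem_cons, List.not_mem_nil, or_false]
    rcases hin with e | e | e
    · rw [e, two mv mw nvw kvw (hcancel (by rw [e, ← hp', mul_assoc])) x]
    · rw [e, ← two mu mw nuw kuw (hcancel (by rw [e, ← hp', kuv.eq, mul_assoc])) x]
      exact or_left_comm
    · rw [e, ← two mu mv nuv kuv (hcancel (by
        rw [e, ← hp']; exact (kuw.symm.mul_right kvw.symm).eq)) x]
      exact or_assoc.symm.trans or_comm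
  right
  have t : Twin D a b c u ∧ Twin D a b c v ∧ Twin D a b c w := by
    refine ⟨(key mu mv mw nuv nuw nvw kuv kuw kvw hp').resolve_left hin, ?_, ?_⟩
    · exact (key mv mu mw (Ne.symm nuv) nvw nuw kuv.symm kvw kuw (by rw [← kuv.eq, hp'])).resolve_left
        (fun h => hin (or_left_comm.mp h))
    · exact (key mw mu mv (Ne.symm nuw) (Ne.symm nvw) nuv kuw.symm kvw.symm kuv
        (by rw [mul_assoc, (kuw.symm.mul_right kvw.symm).eq, hp'])).resolve_left
          (fun h => hin ((or_comm.trans or_assoc).mp h))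
  intro x
  simp only [List.mem_cons, List.not_mem_nil, or_false]
  constructor
  · rintro (rfl | rfl | rfl)
    exacts [hall _ t.1, hall _ t.2.1, hall _ t.2.2]
  · intro hx
    rcases hall _ t.1 with rfl | rfl | rfl <;> rcases hall _ t.2.1 with rfl | rfl | rfl <;>
      rcases hall _ t.2.2 with rfl | rfl | rfl <;>
      first
        | exact absurd rfl nuv
        | exact absurd rfl nuw
        | exact absurd rfl nvw
        | simpa [or_comm, or_left_comm, or_assoc] using hx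

end Cfsg.Agent.S5463
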