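import Cfsg.Statements.S5464
import Cfsg.Agent.Lib.Transpos.FischerLevels
import Cfsg.Agent.Lib.Transpos.Factor

set_option autoImplicit false
open Cfsg

namespace Cfsg.Agent.S5464

open Cfsg.Agent.Transpos

theorem subset_of_prod {G : Type*} [Group G] {E : Set G} (hE : Tr E) (hs : Sec E) {m : ℕ}
    (hm : m ≤ 3) {l l' : List G} (hnd : l.Nodup) (hlen : l.length = m) (hmem : ∀ a ∈ l, a ∈ E)
    (hcom : ∀ a ∈ l, ∀ b ∈ l, Commute a b) (hnd' : l'.Nodup) (hlen' : l'.length = m)
    (hmem' : ∀ a ∈ l', a ∈ E) (hcom' : ∀ a ∈ l', ∀ b ∈ l', Commute a b) (he : l.prod = l'.prod) :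
    ∀ x ∈ l, x ∈ l' := by
  have h2 : ∀ a ∈ E, NoTwin (Dc E a) := fun a ha => (hs a ha).2.2.1
  have h3 : ∀ a ∈ E, ∀ b ∈ Dc E a, NoTwin (Dc (Dc E a) b) := fun a ha => (hs a ha).2.2.2
  interval_cases m
  · intro x hx; rw [List.length_eq_zero_iff] at hlen; simp [hlen] at hx
  · obtain ⟨a, rfl⟩ := List.length_eq_one_iff.mp hlen
    obtain ⟨a', rfl⟩ := List.length_eq_one_iff.mp hlen'
    simpa using he
  · obtain ⟨a, b, rfl⟩ := List.length_eq_two.mp hlen
    obtain ⟨a', b', rfl⟩ := List.length_eq_two.mp hlen'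
    simp at hnd hnd' hmem hmem' he
    have c : Commute a b := hcom a (by simp) b (by simp)
    have c' : Commute a' b' := hcom' a' (by simp) b' (by simp)
    intro x hx
    simp at hx
    rcases hx with rfl | rfl
    · simpa using mem_of_prod_two hE h2 hmem.1 hmem.2 hmem'.1 hmem'.2 hnd hnd' c c' he
    · simpa using mem_of_prod_two hE h2 hmem.2 hmem.1 hmem'.1 hmem'.2 (Ne.symm hnd) hnd' c.symm c'
        (by rw [← c.eq]; exact he)
  · obtain ⟨a, b, c, rfl⟩ := List.length_eq_three.mp hlen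
    obtain ⟨a', b', c', rfl⟩ := List.length_eq_three.mp hlen'
    simp at hnd hnd' hmem hmem' he
    rw [← mul_assoc, ← mul_assoc] at he
    have cab : Commute a b := hcom a (by simp) b (by simp)
    have cac : Commute a c := hcom a (by simp) c (by simp)
    have cbc : Commute b c := hcom b (by simp) c (by simp)
    have cab' : Commute a' b' := hcom' a' (by simp) b' (by simp)
    have cac' : Commute a' c' := hcom' a' (by simp) c' (by simp)
    have cbc' : Commute b' c' := hcom' b' (by simp) c' (by simp)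
    obtain ⟨⟨nab, nac⟩, nbc⟩ := hnd
    obtain ⟨⟨nab', nac'⟩, nbc'⟩ := hnd'
    obtain ⟨ma, mb, mc⟩ := hmem
    obtain ⟨ma', mb', mc'⟩ := hmem'
    have key : ∀ {u v w : G}, u ∈ E → v ∈ E → w ∈ E → u ≠ v → u ≠ w → v ≠ w → Commute u v →
        Commute u w → Commute v w → u * v * w = a' * b' * c' → u = a' ∨ u = b' ∨ u = c' :=
      fun hu hv hw n1 n2 n3 k1 k2 k3 h => mem_of_prod_three hE h2 h3 hu hv hw ma' mb' mc'
        n1 n2 n3 k1 k2 k3 nab' nac' nbc' cab' cac' cbc' h
    intro x hx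
    simp at hx
    rcases hx with rfl | rfl | rfl
    · simpa using key ma mb mc nab nac nbc cab cac cbc he
    · simpa using key mb ma mc (Ne.symm nab) nbc nac cab.symm cbc cac (by rw [← cab.eq]; exact he)
    · simpa using key mc ma mb (Ne.symm nac) (Ne.symm nbc) nab cac.symm cbc.symm cab
        (by rw [mul_assoc, (cac.symm.mul_right cbc.symm).eq]; exact he)

/-- Let G be a finite group with trivial centre generated by a conjugation-invariant set D of 3-transpositions on which it acts primitively, such that for some d in D the subgroup generated by the members of D other than d commuting with d has central largest normal 2- and 3-subgroups, and suppose G with D is of type M(23) or of type M(24). Then for m ≤ 3, a product of m distinct pairwise commuting members of D determines the set of factors: any two m-element sets of pairwise commuting members of D with the same product coincide. -/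
theorem result {G : Type*} [Group G] [Finite G] {D : Set G} (hD : Cfsg.IsThreeTranspositionGroup D) (hprim : Cfsg.IsPrimitiveUnderConj D) (d₀ : G) (hd₀ : d₀ ∈ D) (h3 : Cfsg.pCore 3 ↥(Subgroup.closure {y : G | y ∈ D ∧ y ≠ d₀ ∧ Commute d₀ y}) ≤ Subgroup.center ↥(Subgroup.closure {y : G | y ∈ D ∧ y ≠ d₀ ∧ Commute d₀ y})) (h2 : Cfsg.pCore 2 ↥(Subgroup.closure {y : G | y ∈ D ∧ y ≠ d₀ ∧ Commute d₀ y}) ≤ Subgroup.center ↥(Subgroup.closure {y : G | y ∈ D ∧ y ≠ d₀ ∧ Commute d₀ y})) (h : Cfsg.IsOfTypeM23 G D ∨ Cfsg.IsOfTypeM24 G D) (m : ℕ) (hm : m ≤ 3) (j : G) (l l' : List G) (hl : (l.Nodup ∧ l.length = m ∧ (∀ a ∈ l, a ∈ D) ∧ (∀ a ∈ l, ∀ b ∈ l, Commute a b) ∧ l.prod = j)) (hl' : (l'.Nodup ∧ l'.length = m ∧ (∀ a ∈ l', a ∈ D) ∧ (∀ a ∈ l', ∀ b ∈ l', Commute a b) ∧ l'.prod = j)) : (∀ x : G, x ∈ l ↔ x ∈ l') := by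
  have hs := sec_of_type hD hprim.1 h
  obtain ⟨n, len, mem, com, pr⟩ := hl
  obtain ⟨n', len', mem', com', pr'⟩ := hl'
  intro x
  exact ⟨subset_of_prod (tr_of_group hD) hs hm n len mem com n' len' mem' com' (pr.trans pr'.symm) x,
    subset_of_prod (tr_of_group hD) hs hm n' len' mem' com' n len mem com (pr'.trans pr.symm) x⟩

end Cfsg.Agent.S5464
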