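import Cfsg.Statements.S5452
import Cfsg.Agent.Lib.Transpos.UnitaryCover
-- import your own Cfsg.Agent.* helpers here

set_option autoImplicit false
open Cfsg

namespace Cfsg.Agent.S5452

/-- Let G be a finite group with an involution d whose centralizer C is quasisimple with C modulo the subgroup generated by d isomorphic to the projective special unitary group of dimension 6 over the field with four elements, and suppose some conjugate of d other than d commutes with d. Then every involution of C modulo the subgroup generated by d is the image of an involution of C, and d is not a square in G. -/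
theorem result {G : Type*} [Group G] [Finite G] (d : G) (hd : orderOf d = 2) (hq : Cfsg.IsQuasisimple ↥(Subgroup.centralizer ({d} : Set G))) [hzn : ((Subgroup.zpowers d).subgroupOf (Subgroup.centralizer ({d} : Set G))).Normal] (K : Type) [Field K] [Fintype K] (hK : Fintype.card K = 4) (e : ↥(Subgroup.centralizer ({d} : Set G)) ⧸ (Subgroup.zpowers d).subgroupOf (Subgroup.centralizer ({d} : Set G)) ≃* Cfsg.PSU 6 K 2) (hnwc : ∃ g : G, g * d * g⁻¹ ∈ Subgroup.centralizer ({d} : Set G) ∧ g * d * g⁻¹ ≠ d) : (∀ x : ↥(Subgroup.centralizer ({d} : Set G)) ⧸ (Subgroup.zpowers d).subgroupOf (Subgroup.centralizer ({d} : Set G)), orderOf x = 2 → ∃ y : ↥(Subgroup.centralizer ({d} : Set G)), orderOf y = 2 ∧ (QuotientGroup.mk y : ↥(Subgroup.centralizer ({d} : Set G)) ⧸ (Subgroup.zpowers d).subgroupOf (Subgroup.centralizer ({d} : Set G))) = x) ∧ ¬ ∃ g : G, g ^ 2 = d := by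
  classical
  set C := Subgroup.centralizer ({d} : Set G) with hC
  set Z := (Subgroup.zpowers d).subgroupOf C with hZdef
  have hK' : Fintype.card K = 2 ^ 2 := by rw [hK]; norm_num
  have hdC : d ∈ C := Subgroup.mem_centralizer_singleton_iff.2 rfl
  let z : ↥C := ⟨d, hdC⟩
  have hz : z * z = 1 := Subtype.ext (by
    have := pow_orderOf_eq_one d; rw [hd, pow_two] at this; exact this)
  have hzc : ∀ x : ↥C, Commute z x := fun x => Subtype.ext
    (Subgroup.mem_centralizer_singleton_iff.1 x.2).symm
  let f := e.trans (ClassicalSimple.centerQuotientCongr (ClassicalSimple.suEquiv hK'))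
  let ψ := f.toMonoidHom.comp (QuotientGroup.mk' Z)
  have hψ : Function.Surjective ψ := f.surjective.comp (QuotientGroup.mk'_surjective _)
  have hker : ∀ x : ↥C, ψ x = 1 → x = 1 ∨ x = z := fun x hx => by
    have hx' : QuotientGroup.mk' Z x = 1 := f.injective (hx.trans (map_one f).symm)
    have hxd : (x : G) ∈ Subgroup.zpowers d := Subgroup.mem_subgroupOf.1 ((QuotientGroup.eq_one_iff x).1 hx')
    obtain ⟨n, hn⟩ := hxd
    obtain ⟨k, hk⟩ := Int.even_or_odd' n
    have hd2 : d ^ (2 : ℤ) = 1 := by rw [zpow_two]; exact congrArg Subtype.val hz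
    rcases hk with rfl | rfl
    · exact Or.inl (Subtype.ext (by rw [← hn]; simp [zpow_mul, hd2]))
    · exact Or.inr (Subtype.ext (by rw [← hn]; simp [zpow_add, zpow_mul, hd2, z]))
  have lift : ∀ x : ↥C ⧸ Z, x * x = 1 → ∃ y : ↥C, QuotientGroup.mk y = x ∧ y * y = 1 := fun x hx => by
    obtain ⟨y, hy, hy2⟩ := Cfsg.Agent.Transpos.U6.exists_invol_lift
      (Cfsg.Agent.Transpos.U6.ctx_of_card hK') ψ hψ hz hzc hker (β := f x) (by rw [← map_mul, hx, map_one])
    exact ⟨y, f.injective hy, hy2⟩
  refine ⟨fun x hx => ?_, ?_⟩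
  · obtain ⟨y, hy, hy2⟩ := lift x (by rw [← pow_two, ← hx]; exact pow_orderOf_eq_one x)
    refine ⟨y, orderOf_eq_prime (by rw [pow_two]; exact hy2) (fun h => ?_), hy⟩
    rw [h, QuotientGroup.mk_one] at hy
    rw [← hy, orderOf_one] at hx
    norm_num at hx
  · rintro ⟨g, hg⟩
    have hgC : g ∈ C := Subgroup.mem_centralizer_singleton_iff.2 (by rw [← hg, ← pow_succ', ← pow_succ])
    let g' : ↥C := ⟨g, hgC⟩
    have hgg : g' * g' = z := Subtype.ext (by rw [← pow_two] ; exact hg)
    have hπz : QuotientGroup.mk' Z z = 1 :=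
      (QuotientGroup.eq_one_iff z).2 (Subgroup.mem_subgroupOf.2 (Subgroup.mem_zpowers d))
    obtain ⟨y, hy, hy2⟩ := lift (QuotientGroup.mk' Z g') (by rw [← map_mul, hgg, hπz])
    have := Cfsg.Agent.Transpos.U6.sq_of_eq ψ hz hzc hker (x := g') (y := y)
      (congrArg f hy.symm)
    rw [hgg, hy2] at this
    have h1 : d = 1 := congrArg Subtype.val this
    rw [h1, orderOf_one] at hd
    norm_num at hd

end Cfsg.Agent.S5452
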