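import Cfsg.Statements.S5454
import Cfsg.Agent.Lib.Transpos.U6Thompson
import Cfsg.Agent.Lib.Transpos.SUThreeTwo
import Cfsg.Agent.S5452

set_option autoImplicit false
open Cfsg Cfsg.Agent.Transpos
set_option maxRecDepth 20000

namespace Cfsg.Agent.S5454

open Cfsg.Agent.Transpos in
/-- `PSU₆(2)` over any field with four elements is the quotient used in `L6`. -/
theorem exists_equiv (K : Type) [Field K] [Fintype K] (hK : Fintype.card K = 4) :
    Nonempty (Cfsg.PSU 6 K 2 ≃* L6.QG) := by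
  obtain ⟨f⟩ : Nonempty (K ≃+* L6.K) :=
    ⟨FiniteField.ringEquivOfCardEq (K := K) (K' := L6.K) (hK.trans G2Four.card_K4.symm)⟩
  let φ := SU32.suMap f 6 2
  have hmap : (Subgroup.center (Cfsg.SU 6 K 2)).map φ.toMonoidHom = Subgroup.center (Cfsg.SU 6 L6.K 2) := by
    refine le_antisymm (Subgroup.map_le_iff_le_comap.2 fun z hz => Subgroup.mem_center_iff.2 fun w => ?_)
      fun z hz => ?_
    · obtain ⟨w, rfl⟩ := φ.surjective w
      show φ w * φ z = φ z * φ w
      rw [← map_mul, ← map_mul, Subgroup.mem_center_iff.1 hz w]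
    · refine ⟨φ.symm z, Subgroup.mem_center_iff.2 fun w => ?_, φ.apply_symm_apply z⟩
      apply φ.injective
      rw [map_mul, map_mul, φ.apply_symm_apply, Subgroup.mem_center_iff.1 hz]
  exact ⟨(QuotientGroup.congr _ _ φ hmap).trans
    (ClassicalSimple.centerQuotientCongr (ClassicalSimple.suEquiv L6.hK))⟩

/-- Let G be a finite group with an involution d whose centralizer C is quasisimple with C modulo the subgroup generated by d isomorphic to the projective special unitary group of dimension 6 over the field with four elements, and suppose some conjugate of d other than d commutes with d. Let S be a Sylow 2-subgroup of C and A the Thompson subgroup of S (generated by the elementary abelian subgroups of S of largest order), regarded as a subgroup of G. Then A is elementary abelian of order 2^10, exactly 22 conjugates of d lie in A, and the normalizer of A permutes them transitively. -/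
theorem result {G : Type*} [Group G] [Finite G] (d : G) (hd : orderOf d = 2) (hq : Cfsg.IsQuasisimple ↥(Subgroup.centralizer ({d} : Set G))) [hzn : ((Subgroup.zpowers d).subgroupOf (Subgroup.centralizer ({d} : Set G))).Normal] (K : Type) [Field K] [Fintype K] (hK : Fintype.card K = 4) (e : ↥(Subgroup.centralizer ({d} : Set G)) ⧸ (Subgroup.zpowers d).subgroupOf (Subgroup.centralizer ({d} : Set G)) ≃* Cfsg.PSU 6 K 2) (hnwc : ∃ g : G, g * d * g⁻¹ ∈ Subgroup.centralizer ({d} : Set G) ∧ g * d * g⁻¹ ≠ d) (S : Sylow 2 ↥(Subgroup.centralizer ({d} : Set G))) (A : Subgroup G) (hA : A = (Cfsg.thompsonSubgroupOf 2 (S : Subgroup ↥(Subgroup.centralizer ({d} : Set G)))).map (Subgroup.centralizer ({d} : Set G)).subtype) : Cfsg.IsElementaryAbelian 2 A ∧ Nat.card A = 2 ^ 10 ∧ Set.ncard {x : G | x ∈ A ∧ IsConj d x} = 22 ∧ ∀ x ∈ A, ∀ y ∈ A, IsConj d x → IsConj d y → ∃ n ∈ Subgroup.normalizer (A : Set G), n * x * n⁻¹ = y := by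
  classical
  obtain ⟨e'⟩ := exists_equiv K hK
  have hd2 : d * d = 1 := by
    have := pow_orderOf_eq_one d; rwa [hd, pow_two] at this
  have hd1 : d ≠ 1 := fun h => by rw [h, orderOf_one] at hd; norm_num at hd
  have hsq : ¬ ∃ g : G, g ^ 2 = d := (Cfsg.Agent.S5452.result d hd hq K hK e hnwc).2
  let C : Subgroup G := Subgroup.centralizer ({d} : Set G)
  have hdC : d ∈ C := Subgroup.mem_centralizer_singleton_iff.2 rfl
  let Z := (Subgroup.zpowers d).subgroupOf (Subgroup.centralizer ({d} : Set G))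
  let f := e.trans e'
  let Δ : L6.Dbl ↥C :=
    { ψ := f.toMonoidHom.comp (QuotientGroup.mk' Z)
      z := ⟨d, hdC⟩
      surj := f.surjective.comp (QuotientGroup.mk'_surjective _)
      zz := Subtype.ext hd2
      zc := fun x => Subtype.ext (Subgroup.mem_centralizer_singleton_iff.1 x.2).symm
      z1 := fun h => hd1 (congrArg Subtype.val h)
      ψz := by
        have h1 : QuotientGroup.mk' Z ⟨d, hdC⟩ = 1 :=
          (QuotientGroup.eq_one_iff _).2 (Subgroup.mem_subgroupOf.2 (Subgroup.mem_zpowers d))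
        exact (congrArg f h1).trans (map_one f)
      ker := fun x hx => by
        have hx' : QuotientGroup.mk' Z x = 1 := f.injective (hx.trans (map_one f).symm)
        obtain ⟨n, hn⟩ := Subgroup.mem_subgroupOf.1 ((QuotientGroup.eq_one_iff x).1 hx')
        obtain ⟨k, hk⟩ := Int.even_or_odd' n
        have hd2' : d ^ (2 : ℤ) = 1 := by rw [zpow_two]; exact hd2
        rcases hk with rfl | rfl
        · exact Or.inl (Subtype.ext (by rw [← hn]; simp [zpow_mul, hd2']))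
        · exact Or.inr (Subtype.ext (by rw [← hn]; simp [zpow_add, zpow_mul, hd2'])) }
  have hperf : commutator ↥C = ⊤ := hq.1.commutator_eq_top
  obtain ⟨x, hx1, hx2⟩ := Δ.exists_good
  have g : L6.Good Δ x := ⟨hx1, hx2⟩
  obtain ⟨c, hc⟩ := L6.thompson g S
  rw [hc] at hA
  set B := (L6.A0 g).map (MulAut.conj c).toMonoidHom with hB
  have hBel : L6.El2 B := (L6.A0_el2 g).map c
  have hBcard : Nat.card B = 2 ^ 10 := by rw [hB, L6.card_map_conj, L6.card_A0]
  have hAcard : Nat.card A = 2 ^ 10 := by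
    rw [← hBcard, hA]; exact Nat.card_congr (B.equivMapOfInjective _ C.subtype_injective).toEquiv.symm
  have hAmem : ∀ y, y ∈ A ↔ ∃ h : y ∈ C, (⟨y, h⟩ : ↥C) ∈ B := fun y => by
    rw [hA]
    exact ⟨fun ⟨b, hb, e⟩ => e ▸ ⟨b.2, hb⟩, fun ⟨h, hb⟩ => ⟨⟨y, h⟩, hb, rfl⟩⟩
  have hAcomm : ∀ a ∈ A, ∀ b ∈ A, Commute a b := fun a ha b hb => by
    obtain ⟨h1, h1'⟩ := (hAmem a).1 ha
    obtain ⟨h2, h2'⟩ := (hAmem b).1 hb
    exact congrArg Subtype.val (hBel.1 _ h1' _ h2').eq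
  have hAsq : ∀ a ∈ A, a * a = 1 := fun a ha => by
    obtain ⟨h1, h1'⟩ := (hAmem a).1 ha
    exact congrArg Subtype.val (hBel.2 _ h1')
  have hdA : d ∈ A := by
    refine (hAmem d).2 ⟨hdC, ?_⟩
    refine ⟨Δ.z, ⟨512, by norm_num, L6.f10_z.symm⟩, ?_⟩
    show c * Δ.z * c⁻¹ = Δ.z
    rw [← (Δ.zc c).eq, mul_inv_cancel_right]
  -- the normaliser is transitive
  have htr : ∀ y ∈ A, IsConj d y → ∃ n ∈ Subgroup.normalizer (A : Set G), n * d * n⁻¹ = y := by
    intro y hy hdy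
    obtain ⟨q, rfl⟩ := isConj_iff.1 hdy
    let A' : Subgroup ↥C := (A.map (MulAut.conj q⁻¹).toMonoidHom).subgroupOf C
    have hA'le : A.map (MulAut.conj q⁻¹).toMonoidHom ≤ C := by
      rintro _ ⟨a, ha, rfl⟩
      refine Subgroup.mem_centralizer_singleton_iff.2 ?_
      have h := congrArg (fun t => q⁻¹ * t * q) (hAcomm a ha _ hy).eq
      show q⁻¹ * a * q⁻¹⁻¹ * d = d * (q⁻¹ * a * q⁻¹⁻¹)
      simpa [mul_assoc] using h
    have hA'el : L6.El2 A' := by
      refine ⟨fun a ha b hb => Subtype.ext ?_, fun a ha => Subtype.ext ?_⟩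
      · obtain ⟨a', ha', ea⟩ := Subgroup.mem_subgroupOf.1 ha
        obtain ⟨b', hb', eb⟩ := Subgroup.mem_subgroupOf.1 hb
        show (a : G) * b = b * a
        rw [← ea, ← eb]; exact ((hAcomm a' ha' b' hb').map _).eq
      · obtain ⟨a', ha', ea⟩ := Subgroup.mem_subgroupOf.1 ha
        show (a : G) * a = 1
        rw [← ea, ← map_mul, hAsq a' ha', map_one]
    have hA'card : Nat.card A' = 2 ^ 10 := by
      rw [← hAcard, Nat.card_congr (Subgroup.subgroupOfEquivOfLe hA'le).toEquiv,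
        ← Nat.card_congr (A.equivMapOfInjective _ (MulAut.conj q⁻¹).injective).toEquiv]
    obtain ⟨k, hk⟩ := (L6.elem_conj g hA'el).2 hA'card.ge
    refine ⟨q * (c * k : ↥C)⁻¹, ?_, ?_⟩
    · have hsub : ∀ a ∈ A, ∀ w : G, w = (q * ((c * k : ↥C) : G)⁻¹)⁻¹ → w * a * w⁻¹ ∈ A := by
        intro a ha w hw
        have hmem : q⁻¹ * a * q⁻¹⁻¹ ∈ A.map (MulAut.conj q⁻¹).toMonoidHom := ⟨a, ha, rfl⟩
        have h' : (⟨_, hA'le hmem⟩ : ↥C) ∈ A' := Subgroup.mem_subgroupOf.2 hmem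
        have h'' : (MulAut.conj k).toMonoidHom ⟨_, hA'le hmem⟩ ∈ L6.A0 g := hk ▸ ⟨_, h', rfl⟩
        refine (hAmem _).2 ?_
        have e : w * a * w⁻¹ = ((c * (k * ⟨_, hA'le hmem⟩ * k⁻¹) * c⁻¹ : ↥C) : G) := by
          rw [hw]; simp [mul_assoc]
        rw [e]
        exact ⟨SetLike.coe_mem _, ⟨_, h'', rfl⟩⟩
      rw [← inv_mem_iff]
      haveI : Finite A := inferInstance
      refine Subgroup.mem_normalizer_fintype fun a ha => ?_
      exact hsub a ha _ (by simp)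
    · have hz : ((c * k : ↥C) : G)⁻¹ * d * ((c * k : ↥C) : G) = d := by
        rw [mul_assoc, ← Subgroup.mem_centralizer_singleton_iff.1 (c * k).2, inv_mul_cancel_left]
      calc q * ((c * k : ↥C) : G)⁻¹ * d * (q * ((c * k : ↥C) : G)⁻¹)⁻¹
          = q * (((c * k : ↥C) : G)⁻¹ * d * ((c * k : ↥C) : G)) * q⁻¹ := by group
        _ = q * d * q⁻¹ := by rw [hz]
  refine ⟨⟨⟨⟨fun a b => Subtype.ext (hAcomm a a.2 b b.2).eq⟩⟩, fun a ha => by rw [pow_two]; exact hAsq a ha⟩,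
    hAcard, ?_, fun a ha b hb hda hdb => ?_⟩
  swap
  · obtain ⟨n, hn, en⟩ := htr a ha hda
    obtain ⟨m, hm, em⟩ := htr b hb hdb
    refine ⟨m * n⁻¹, mul_mem hm (inv_mem hn), ?_⟩
    rw [← en, ← em]; group
  -- counting
  let D : Set ↥C := {y | IsConj d (y : G)}
  have hconj : ∀ k : ↥C, ∀ y ∈ D, k * y * k⁻¹ ∈ D := fun k y hy =>
    IsConj.trans hy (isConj_iff.2 ⟨(k : G), by simp⟩)
  have hDsq : ∀ k : ↥C, k * k ∉ D := fun k hk => by
    obtain ⟨q, hq'⟩ := isConj_iff.1 hk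
    refine hsq ⟨q⁻¹ * k * q, ?_⟩
    rw [pow_two]
    calc q⁻¹ * k * q * (q⁻¹ * k * q) = q⁻¹ * ((k * k : ↥C) : G) * q := by simp [mul_assoc]
      _ = d := by rw [← hq']; group
  have hback : ∀ w : ↥C, (w ∈ L6.A0 g ↔ c * w * c⁻¹ ∈ B) := fun w => by
    refine ⟨fun h => ⟨w, h, rfl⟩, fun ⟨b, hb, e⟩ => ?_⟩
    rwa [show w = b from mul_left_cancel (mul_right_cancel (b := c⁻¹) e.symm)]
  let ι : ↥C → G := fun w => ((c * w * c⁻¹ : ↥C) : G)
  have hι : Function.Injective ι := fun a b h =>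
    mul_left_cancel (mul_right_cancel (Subtype.ext h : c * a * c⁻¹ = c * b * c⁻¹))
  have hιA : ∀ y, y ∈ A ↔ ∃ w ∈ L6.A0 g, ι w = y := fun y => by
    rw [hAmem]
    refine ⟨fun ⟨h, hb⟩ => ?_, fun ⟨w, hw, e⟩ => ?_⟩
    · obtain ⟨w, hw, e⟩ := hb
      exact ⟨w, hw, congrArg Subtype.val e⟩
    · subst e; exact ⟨SetLike.coe_mem _, (hback w).1 hw⟩
  have hιD : ∀ w : ↥C, (IsConj d (ι w) ↔ w ∈ D) := fun w =>
    ⟨fun h => by simpa [ι, mul_assoc] using hconj c⁻¹ (c * w * c⁻¹) h, fun h => hconj c w h⟩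
  have hset : ∀ (P : G → Prop), {y | y ∈ A ∧ P y} = ι '' {w | w ∈ L6.A0 g ∧ P (ι w)} := fun P => by
    ext y
    constructor
    · rintro ⟨hy, hP⟩
      obtain ⟨w, hw, rfl⟩ := (hιA y).1 hy
      exact ⟨w, ⟨hw, hP⟩, rfl⟩
    · rintro ⟨w, ⟨hw, hP⟩, rfl⟩
      exact ⟨(hιA _).2 ⟨w, hw, rfl⟩, hP⟩
  have hreg : ∀ a ∈ D, a ∈ L6.A0 g → ∀ b ∈ D, b ∈ L6.A0 g →
      {w | w ∈ L6.A0 g ∧ w ∈ D ∧ w * a ∈ D}.ncard = {w | w ∈ L6.A0 g ∧ w ∈ D ∧ w * b ∈ D}.ncard := by
    suffices key : ∀ a ∈ D, a ∈ L6.A0 g → {w | w ∈ L6.A0 g ∧ w ∈ D ∧ w * a ∈ D}.ncard =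
        {y | y ∈ A ∧ (IsConj d y ∧ IsConj d (y * d))}.ncard by
      intro a h1 h2 b h3 h4; rw [key a h1 h2, key b h3 h4]
    intro a haD haA
    obtain ⟨n, hn, en⟩ := htr (ι a) ((hιA _).2 ⟨a, haA, rfl⟩) ((hιD a).2 haD)
    have h1 : {y | y ∈ A ∧ (IsConj d y ∧ IsConj d (y * ι a))} =
        (fun y => n * y * n⁻¹) '' {y | y ∈ A ∧ (IsConj d y ∧ IsConj d (y * d))} := by
      have hcl : ∀ (k : G) {y : G}, IsConj d y → IsConj d (k * y * k⁻¹) := fun k y h =>
        h.trans (isConj_iff.2 ⟨k, rfl⟩)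
      ext y
      constructor
      · rintro ⟨hy, hy1, hy2⟩
        refine ⟨n⁻¹ * y * n, ⟨?_, by simpa using hcl n⁻¹ hy1, ?_⟩, by group⟩
        · simpa using (Subgroup.mem_normalizer_iff.1 (inv_mem hn) y).1 hy
        · have := hcl n⁻¹ hy2
          rw [← en, inv_inv] at this
          rwa [show n⁻¹ * (y * (n * d * n⁻¹)) * n = n⁻¹ * y * n * d by group] at this
      · rintro ⟨w, ⟨hw, hw1, hw2⟩, rfl⟩
        refine ⟨(Subgroup.mem_normalizer_iff.1 hn w).1 hw, hcl n hw1, ?_⟩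
        rw [← en, show n * w * n⁻¹ * (n * d * n⁻¹) = n * (w * d) * n⁻¹ by group]
        exact hcl n hw2
    have h2 := congrArg Set.ncard h1
    rw [Set.ncard_image_of_injective _ fun y y' h => mul_left_cancel (mul_right_cancel h),
      hset fun y => IsConj d y ∧ IsConj d (y * ι a), Set.ncard_image_of_injective _ hι] at h2
    rw [← h2]
    congr 1
    ext w
    have e : ι w * ι a = ι (w * a) := by simp [ι, mul_assoc]
    simp only [Set.mem_setOf_eq, e, hιD]
  have hex : ∃ y ∈ D, y ≠ Δ.z ∧ y * y = 1 := by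
    obtain ⟨q, hqC, hqd⟩ := hnwc
    refine ⟨⟨_, hqC⟩, isConj_iff.2 ⟨q, rfl⟩, fun h => hqd (congrArg Subtype.val h), Subtype.ext ?_⟩
    show q * d * q⁻¹ * (q * d * q⁻¹) = 1
    rw [show q * d * q⁻¹ * (q * d * q⁻¹) = q * (d * d) * q⁻¹ by group, hd2]; group
  have h22 := L6.ncard_class g hperf (D := D) (IsConj.refl d) hconj hDsq hreg hex
  rw [show {y : G | y ∈ A ∧ IsConj d y} = _ from hset fun y => IsConj d y, Set.ncard_image_of_injective _ hι]
  simpa only [hιD] using h22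

end Cfsg.Agent.S5454
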