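import Cfsg.Statements.S4343
-- import your own Cfsg.Agent.* helpers here

set_option autoImplicit false
open Cfsg

namespace Cfsg.Agent.S4343

open scoped Pointwise commutatorElement

/-- Brodkey: with abelian Sylow subgroups some intersection of two of them lies in all. -/
theorem brodkey {G : Type*} [Group G] [Finite G] {p : ℕ} [Fact p.Prime]
    (hab : ∀ P : Sylow p G, IsMulCommutative P) (P : Sylow p G) :
    ∃ Q : Sylow p G, ∀ R : Sylow p G, (P : Subgroup G) ⊓ Q ≤ R := by
  classical
  have : Nonempty (Sylow p G) := ⟨P⟩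
  obtain ⟨Q, hQ⟩ := Finite.exists_min (fun Q : Sylow p G => Nat.card ↥((P : Subgroup G) ⊓ Q))
  refine ⟨Q, fun R => ?_⟩
  set D := (P : Subgroup G) ⊓ Q
  set C := Subgroup.centralizer (D : Set G)
  have hC : ∀ S : Sylow p G, D ≤ S → (S : Subgroup G) ≤ C := by
    intro S hS x hx
    rw [Subgroup.mem_centralizer_iff]
    intro d hd
    exact congrArg Subtype.val ((hab S).is_comm.comm (⟨d, hS hd⟩ : (S : Subgroup G)) ⟨x, hx⟩)
  have hPC := hC P inf_le_left
  have hQC := hC Q inf_le_right
  obtain ⟨S, hS⟩ := (IsPGroup.comap_subtype (R.2.to_le (inf_le_left (b := C))) :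
    IsPGroup p (((R : Subgroup G) ⊓ C).subgroupOf C)).exists_le_sylow
  obtain ⟨x, hx⟩ := MulAction.exists_smul_eq C S (P.subtype hPC)
  set R' : Sylow p G := (x : G) • R
  have hle : (R' : Subgroup G) ⊓ Q ≤ D := by
    refine le_inf (fun y hy => ?_) inf_le_right
    have hyC : y ∈ C := hQC hy.2
    have h1 : (x : G)⁻¹ * y * x ∈ (R : Subgroup G) := by
      have this : y ∈ (((x : G) • R : Sylow p G) : Subgroup G) := hy.1
      rw [Sylow.coe_subgroup_smul] at this
      rw [Subgroup.mem_pointwise_smul_iff_inv_smul_mem] at this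
      simpa [MulAut.smul_def, mul_assoc] using this
    have h2 : (x : G)⁻¹ * y * x ∈ C := mul_mem (mul_mem (inv_mem x.2) hyC) x.2
    have h3 := hS (show (⟨_, h2⟩ : C) ∈ ((R : Subgroup G) ⊓ C).subgroupOf C from ⟨h1, h2⟩)
    have h4 : (⟨y, hyC⟩ : C) ∈ ((x • S : Sylow p C) : Subgroup C) := by
      rw [Sylow.coe_subgroup_smul, Subgroup.mem_pointwise_smul_iff_inv_smul_mem]
      convert h3 using 1
      ext
      simp [MulAut.smul_def, mul_assoc]
    rw [hx] at h4
    exact h4
  have hRP : (R' : Subgroup G) ⊓ P = (R' : Subgroup G) ⊓ P := rfl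
  have hDR : (R' : Subgroup G) ⊓ Q = D := by
    apply Subgroup.eq_of_le_of_card_ge hle
    obtain ⟨g, hg⟩ := MulAction.exists_smul_eq G R' P
    have e : Nat.card ↥((R' : Subgroup G) ⊓ Q) =
        Nat.card ↥((P : Subgroup G) ⊓ (g • Q : Sylow p G)) := by
      rw [← hg, Sylow.coe_subgroup_smul (P := R'), Sylow.coe_subgroup_smul (P := Q), ← Subgroup.smul_inf]
      exact Nat.card_congr (Subgroup.equivSMul _ _).toEquiv
    rw [e]
    exact hQ (g • Q)
  intro d hd
  have h1 : d ∈ (R' : Subgroup G) := (hDR.symm.le hd).1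
  replace h1 : d ∈ (((x : G) • R : Sylow p G) : Subgroup G) := h1
  rw [Sylow.coe_subgroup_smul] at h1
  rw [Subgroup.mem_pointwise_smul_iff_inv_smul_mem] at h1
  have hxd : d * x = x * d := Subgroup.mem_centralizer_iff.mp x.2 d hd
  simpa [MulAut.smul_def, mul_assoc, hxd] using h1

/-- Let S be a finite non-abelian simple group and p a prime dividing its order. If S has fewer than p² Sylow p-subgroups, then its Sylow p-subgroups have order p. -/
theorem result {S : Type*} [Group S] [Finite S]
    [IsSimpleGroup S] (hS : ¬ IsMulCommutative S) (p : ℕ) [Fact p.Prime] (hp : p ∣ Nat.card S)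
    (hn : Nat.card (Sylow p S) < p ^ 2) (P : Sylow p S) : Nat.card P = p := by
  classical
  have hp' : p.Prime := Fact.out
  have hrel : ∀ P Q : Sylow p S, P ≠ Q →
      ((Q : Subgroup S)).relIndex (P : Subgroup S) = p := by
    intro P Q hne
    have hstab : MulAction.stabilizer (P : Subgroup S) Q = (Q : Subgroup S).subgroupOf P := by
      ext y
      rw [MulAction.mem_stabilizer_iff, Subgroup.mem_subgroupOf]
      show (y : S) • Q = Q ↔ _
      rw [Sylow.smul_eq_iff_mem_normalizer]
      constructor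
      · intro hy
        exact ((IsPGroup.inf_normalizer_sylow P.2 Q).le ⟨y.2, hy⟩).2
      · intro hy; exact Subgroup.le_normalizer hy
    have hidx : (Q : Subgroup S).relIndex P = (MulAction.stabilizer (P : Subgroup S) Q).index := by
      rw [hstab]; rfl
    obtain ⟨j, hj⟩ := P.2.index (MulAction.stabilizer (P : Subgroup S) Q)
    have hlt : p ^ j < p ^ 2 := by
      rw [← hj, MulAction.index_stabilizer]
      exact lt_of_le_of_lt (Set.ncard_le_ncard (Set.subset_univ _) |>.trans_eq (Set.ncard_univ _)) hn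
    have hj2 : j < 2 := (Nat.pow_lt_pow_iff_right hp'.one_lt).mp hlt
    rw [hidx, hj]
    interval_cases j
    · exfalso
      rw [pow_zero, ← hidx, Subgroup.relIndex_eq_one] at hj
      exact hne (Sylow.ext (P.3 Q.2 hj).symm)
    · rw [pow_one]
  set K : Subgroup S := ⨅ Q : Sylow p S, (Q : Subgroup S) with hK
  have hKn : K.Normal := ⟨fun x hx g => by
    simp only [hK, Subgroup.mem_iInf] at hx ⊢
    intro Q
    have := hx (g⁻¹ • Q)
    rw [Sylow.coe_subgroup_smul, Subgroup.mem_pointwise_smul_iff_inv_smul_mem] at this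
    simpa [MulAut.smul_def, mul_assoc] using this⟩
  have hKb : K = ⊥ := by
    refine hKn.eq_bot_or_eq_top.resolve_right fun h => hS ?_
    have hS' : IsPGroup p S := by
      intro x
      have hx : x ∈ (P : Subgroup S) := (Subgroup.mem_iInf.mp (h.symm.le (Subgroup.mem_top x))) P
      obtain ⟨k, hk⟩ := P.2 ⟨x, hx⟩
      exact ⟨k, congrArg Subtype.val hk⟩
    have := hS'.center_nontrivial
    have hc : Subgroup.center S = ⊤ :=
      (inferInstance : (Subgroup.center S).Normal).eq_bot_or_eq_top.resolve_left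
        ((Subgroup.nontrivial_iff_ne_bot _).mp this)
    exact ⟨⟨fun a b => (Subgroup.mem_center_iff.mp (hc.symm.le (Subgroup.mem_top b)) a)⟩⟩
  have hab : ∀ P : Sylow p S, IsMulCommutative P := by
    intro P
    refine ⟨⟨fun a b => ?_⟩⟩
    rw [← commutatorElement_eq_one_iff_mul_comm]
    apply Subtype.ext
    have : ((⁅a, b⁆ : P) : S) ∈ K := by
      simp only [hK, Subgroup.mem_iInf]
      intro Q
      rcases eq_or_ne P Q with rfl | hne
      · exact (⁅a, b⁆ : P).2
      have hi : ((Q : Subgroup S).subgroupOf P).index = p := hrel P Q hne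
      have hn' : ((Q : Subgroup S).subgroupOf P).Normal := by
        apply Subgroup.normal_of_index_eq_minFac_card
        obtain ⟨n, hn⟩ := IsPGroup.iff_card.mp P.2
        have hn0 : n ≠ 0 := by
          intro h0; rw [h0, pow_zero] at hn
          exact P.ne_bot_of_dvd_card hp (Subgroup.card_eq_one.mp hn)
        rw [hi, hn, Nat.Prime.pow_minFac hp' hn0]
      have hc : IsMulCommutative ((P : Subgroup S) ⧸ (Q : Subgroup S).subgroupOf P) := by
        have : IsCyclic ((P : Subgroup S) ⧸ (Q : Subgroup S).subgroupOf P) :=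
          isCyclic_of_prime_card (p := p) ((Subgroup.index_eq_card _).symm.trans hi)
        exact IsCyclic.isMulCommutative
      have := hn'.quotient_commutative_iff_commutator_le.mp hc
        (Subgroup.commutator_mem_commutator (Subgroup.mem_top a) (Subgroup.mem_top b))
      exact Subgroup.mem_subgroupOf.mp this
    rw [hKb, Subgroup.mem_bot] at this
    exact this
  obtain ⟨Q, hQ⟩ := brodkey hab P
  have hPQ : (P : Subgroup S) ⊓ Q = ⊥ :=
    le_bot_iff.mp (hKb ▸ le_iInf hQ)
  have hne : P ≠ Q := by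
    rintro rfl
    rw [inf_idem] at hPQ
    exact P.ne_bot_of_dvd_card hp hPQ
  have := hrel P Q hne
  rwa [← Subgroup.inf_relIndex_right, inf_comm, hPQ, Subgroup.relIndex_bot_left] at this

end Cfsg.Agent.S4343
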