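import Cfsg.Statements.S2791
import Cfsg.Agent.Lib.Transfer.Alperin
import Cfsg.Agent.Lib.PRed.Basic
import Cfsg.Agent.Lib.SylowCount.Basic
import Cfsg.Agent.Lib.Coprime.Sylow

set_option autoImplicit false
open Cfsg

namespace Cfsg.Agent.S2791

open Subgroup Cfsg.Agent.Transfer

section

variable {G : Type*} [Group G] [Finite G] {p : ℕ} [Fact p.Prime]

/-- A step in a tame intersection `D` not containing `A` factors through a larger subgroup. -/
theorem step (P : Sylow p G) (A : Subgroup G) (hA : IsMulCommutative ↥A)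
    (hsc : Cfsg.IsStronglyClosed A (P : Subgroup G)) {D : Subgroup G} (hD : IsTame P D)
    (hAD : ¬ A ≤ D) {x : G} (hx : x ∈ normalizer (D : Set G)) :
    ∃ (E : Subgroup G) (n : G), D < E ∧ E ≤ P ∧ n ∈ normalizer (E : Set G) ∧
      ∀ d ∈ D, n⁻¹ * d * n = x⁻¹ * d * x := by
  set N := normalizer (D : Set G) with hN
  have hDP := hD.le
  have hAP := hsc.1
  have hPA : (P : Subgroup G) ≤ normalizer (A : Set G) := by
    intro s hs
    rw [mem_normalizer_iff]
    refine fun a => ⟨fun ha => hsc.2 a ha s (mul_mem (mul_mem hs (hAP ha)) (inv_mem hs)), fun ha => ?_⟩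
    have h1 := hsc.2 _ ha s⁻¹ (mul_mem (mul_mem (inv_mem hs) (hAP ha)) (inv_mem (inv_mem hs)))
    simpa [mul_assoc] using h1
  set A1 := A ⊓ N with hA1
  -- `A1` is not contained in `D`
  have hlt : D < D ⊔ A1 := by
    refine lt_of_le_of_ne le_sup_left fun heq => ?_
    have hsup : IsPGroup p ↥(A ⊔ D) := P.2.to_le (sup_le hAP hDP)
    have h1 := lt_inf_normalizer_of_lt hsup
      (lt_of_le_of_ne le_sup_right fun h => hAD (le_sup_left.trans h.symm.le))
    refine h1.not_ge fun z hz => ?_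
    have hDA : D ≤ normalizer (A : Set G) := hDP.trans hPA
    obtain ⟨d, hd, a, ha, rfl⟩ := (Coprime.mem_sup_iff_of_le_normalizer hDA).1
      (show z ∈ D ⊔ A by rw [sup_comm]; exact hz.1)
    have haN : a ∈ N := by
      have := mul_mem (inv_mem (le_normalizer hd : d ∈ N)) hz.2
      simpa using this
    exact mul_mem hd (heq ▸ mem_sup_right ⟨ha, haN⟩)
  have hE : D ⊔ A1 ≤ (P : Subgroup G) := sup_le hDP (inf_le_left.trans hAP)
  -- `A ⊓ D` is normal in `N`
  have hAD1 : ∀ g ∈ N, ∀ a ∈ A ⊓ D, g * a * g⁻¹ ∈ A ⊓ D := fun g hg a ha =>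
    have h := (mem_normalizer_iff.1 hg a).1 ha.2
    ⟨hsc.2 a ha.1 g (hDP h), h⟩
  let B : Subgroup G :=
    { carrier := {b | b ∈ N ∧ (∀ d ∈ D, b * d * b⁻¹ * d⁻¹ ∈ A ⊓ D) ∧ ∀ d ∈ A ⊓ D, Commute b d}
      one_mem' := ⟨one_mem _, fun d _ => by simp, fun d _ => Commute.one_left d⟩
      mul_mem' := fun {a b} ha hb => ⟨mul_mem ha.1 hb.1, fun d hd => by
        have := mul_mem (hAD1 a ha.1 _ (hb.2.1 d hd)) (ha.2.1 d hd)
        simpa [mul_assoc] using this, fun d hd => (ha.2.2 d hd).mul_left (hb.2.2 d hd)⟩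
      inv_mem' := fun {a} ha => ⟨N.inv_mem ha.1, fun d hd => by
        have := hAD1 _ (N.inv_mem ha.1) _ ((A ⊓ D).inv_mem (ha.2.1 d hd))
        simpa [mul_assoc] using this, fun d hd => (ha.2.2 d hd).inv_left⟩ }
  have hA1B : A1 ≤ B := fun a ha => ⟨ha.2, fun d hd =>
    ⟨by
      have := mul_mem ha.1 ((mem_normalizer_iff.1 (hPA (hDP hd)) _).1 (inv_mem ha.1))
      simpa [mul_assoc] using this,
    D.mul_mem ((mem_normalizer_iff.1 ha.2 d).1 hd) (D.inv_mem hd)⟩,
    fun d hd => congrArg Subtype.val (hA.is_comm.comm (⟨a, ha.1⟩ : ↥A) ⟨d, hd.1⟩)⟩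
  set B' := B.subgroupOf N with hB'
  have hB'n : B'.Normal := ⟨fun b hb g => mem_subgroupOf.2 ⟨(g * b * g⁻¹).2, fun d hd => by
      have h1 := (mem_subgroupOf.1 hb).2.1 _ ((mem_normalizer_iff.1 (inv_mem g.2) d).1 hd)
      have := hAD1 _ g.2 _ h1
      simpa [mul_assoc] using this, fun d hd => by
      have h1 := (mem_subgroupOf.1 hb).2.2 _ (hAD1 _ (inv_mem g.2) d hd)
      show (g : G) * b * (g : G)⁻¹ * d = d * ((g : G) * b * (g : G)⁻¹)
      calc (g : G) * b * (g : G)⁻¹ * d
          = (g : G) * ((b : G) * ((g : G)⁻¹ * d * ((g : G)⁻¹)⁻¹)) * (g : G)⁻¹ := by group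
        _ = (g : G) * (((g : G)⁻¹ * d * ((g : G)⁻¹)⁻¹) * (b : G)) * (g : G)⁻¹ := by rw [h1.eq]
        _ = d * ((g : G) * b * (g : G)⁻¹) := by group⟩⟩
  obtain ⟨Q, hQe, hidx, -⟩ := hD
  have hPNp : IsPGroup p ↥(((P : Subgroup G) ⊓ N).subgroupOf N) :=
    (P.2.to_le inf_le_left).of_equiv (subgroupOfEquivOfLe inf_le_right).symm
  obtain ⟨R, hR⟩ := SylowCount.exists_sylow_inf (hPNp.toSylow hidx) B'
  set C' := (centralizer (D : Set G)).subgroupOf N with hC'
  have hC'n : C'.Normal :=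
    ⟨fun b hb g => mem_subgroupOf.2 (mem_centralizer_iff.2 fun d hd => by
      have h1 := mem_centralizer_iff.1 (mem_subgroupOf.1 hb) _
        ((mem_normalizer_iff.1 (inv_mem g.2) d).1 hd)
      show d * ((g : G) * b * (g : G)⁻¹) = (g : G) * b * (g : G)⁻¹ * d
      calc d * ((g : G) * b * (g : G)⁻¹)
          = (g : G) * (((g : G)⁻¹ * d * ((g : G)⁻¹)⁻¹) * (b : G)) * (g : G)⁻¹ := by group
        _ = (g : G) * ((b : G) * ((g : G)⁻¹ * d * ((g : G)⁻¹)⁻¹)) * (g : G)⁻¹ := by rw [h1]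
        _ = (g : G) * b * (g : G)⁻¹ * d := by group)⟩
  -- `B'` is covered by `R` and `C(D)`
  have hcov : B' ≤ C' ⊔ (R : Subgroup ↥B').map B'.subtype := by
    intro b hb
    have hC'' : (C'.subgroupOf B').Normal := inferInstance
    have hq : IsPGroup p (↥B' ⧸ C'.subgroupOf B') := by
      intro z
      obtain ⟨z, rfl⟩ := QuotientGroup.mk_surjective z
      obtain ⟨k, hk⟩ := PRed.exists_pow_p'_order (p := p) ((z : ↥N) : G)
      refine ⟨k, (QuotientGroup.eq_one_iff _).2 (mem_subgroupOf.2 (mem_subgroupOf.2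
        (mem_centralizer_iff.2 fun d hd => ?_)))⟩
      have hzB : ((z : ↥N) : G) ^ p ^ k ∈ B := pow_mem (mem_subgroupOf.1 z.2) _
      have h1 := hzB.2.1 d hd
      have h2 := LocalChar.commute_of_commute_commutator (P.2.to_le hDP) Fact.out hk h1.2
        (hzB.2.2 _ h1)
      simpa using h2.eq.symm
    have htop : (R.mapSurjective (QuotientGroup.mk'_surjective (C'.subgroupOf B')) : Subgroup (↥B' ⧸ C'.subgroupOf B')) = ⊤ :=
      ((R.mapSurjective (QuotientGroup.mk'_surjective (C'.subgroupOf B'))).3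
        (hq.to_subgroup ⊤) le_top).symm
    obtain ⟨r, hr, he⟩ := htop.ge (Subgroup.mem_top (QuotientGroup.mk' (C'.subgroupOf B') ⟨b, hb⟩))
    have hc := mem_subgroupOf.1 (QuotientGroup.eq.1 he.symm)
    have := mul_mem (mem_sup_right (S := C') (mem_map_of_mem B'.subtype hr))
      (mem_sup_left (T := (R : Subgroup ↥B').map B'.subtype) (inv_mem hc))
    simpa using this
  have hfr := Sylow.normalizer_sup_eq_top R
  have htop : C' ⊔ normalizer (((R : Subgroup ↥B').map B'.subtype : Subgroup ↥N) : Set ↥N) = ⊤ := by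
    refine top_le_iff.1 (hfr.ge.trans (sup_le le_sup_right (hcov.trans (sup_le_sup_left ?_ _))))
    exact le_normalizer
  obtain ⟨c, hc, n, hn, he⟩ := mem_sup_of_normal_left.1 (htop.ge (mem_top (⟨x, hx⟩ : ↥N)))
  have hcD := mem_subgroupOf.1 hc
  refine ⟨D ⊔ A1, n, hlt, hE, ?_, fun d hd => ?_⟩
  · refine Coprime.mem_normalizer_of_conj_smul_eq ?_
    show Subgroup.map (MulAut.conj (n : G)).toMonoidHom (D ⊔ A1) = D ⊔ A1
    rw [Subgroup.map_sup]
    refine congrArg₂ (· ⊔ ·) (Coprime.conj_smul_eq_self_of_mem n.2) ?_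
    refine Subgroup.eq_of_le_of_card_ge ?_ (le_of_eq (Subgroup.card_map_of_injective
      (MulAut.conj (n : G)).injective).symm)
    rintro _ ⟨a, ha, rfl⟩
    have haR : (⟨a, ha.2⟩ : ↥N) ∈ (R : Subgroup ↥B').map B'.subtype := by
      rw [hR, Subgroup.subgroupOf_map_subtype]
      exact ⟨mem_subgroupOf.2 ⟨hAP ha.1, ha.2⟩, mem_subgroupOf.2 (hA1B ha)⟩
    have h1 := (mem_normalizer_iff.1 hn _).1 haR
    rw [hR, Subgroup.subgroupOf_map_subtype] at h1
    have h2 : (n : G) * a * (n : G)⁻¹ ∈ (P : Subgroup G) := by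
      exact (mem_subgroupOf.1 h1.1).1
    exact ⟨hsc.2 a ha.1 _ h2, N.mul_mem (N.mul_mem n.2 ha.2) (N.inv_mem n.2)⟩
  · have hx' : x = (c : G) * (n : G) := (congrArg Subtype.val he).symm
    have h1 : (c : G)⁻¹ * d * (c : G) = d := by
      rw [mul_assoc, mem_centralizer_iff.1 hcD d hd, inv_mul_cancel_left]
    calc (n : G)⁻¹ * d * n = (n : G)⁻¹ * ((c : G)⁻¹ * d * c) * n := by rw [h1]
      _ = x⁻¹ * d * x := by rw [hx']; group

theorem key (P : Sylow p G) (A : Subgroup G) (hA : IsMulCommutative ↥A)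
    (hsc : Cfsg.IsStronglyClosed A (P : Subgroup G)) :
    ∀ (k : ℕ) (D : Subgroup G), Nat.card G - Nat.card D = k → IsTame P D →
      ∀ x ∈ normalizer (D : Set G),
      ∃ y ∈ normalizer (A : Set G), ∀ d ∈ D, y⁻¹ * d * y = x⁻¹ * d * x := by
  intro k
  induction k using Nat.strong_induction_on with
  | _ k ih =>
    intro D hk hD x hx
    by_cases hAD : A ≤ D
    · refine ⟨x, Coprime.mem_normalizer_of_conj_smul_eq ?_, fun d _ => rfl⟩
      refine Subgroup.eq_of_le_of_card_ge ?_ (le_of_eq (Subgroup.card_map_of_injective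
        (MulAut.conj x).injective).symm)
      rintro _ ⟨a, ha, rfl⟩
      exact hsc.2 a ha x (hD.le ((mem_normalizer_iff.1 hx a).1 (hAD ha)))
    · obtain ⟨E, n, hlt, hEP, hn, he⟩ := step P A hA hsc hD hAD hx
      have hcard : Nat.card D < Nat.card E := Set.Finite.card_lt_card (Set.toFinite _) hlt
      have hchain := alperin P (E : Set G) n (fun a ha => hEP ha)
        (fun a ha => hEP ((mem_normalizer_iff''.1 hn a).1 ha))
      have hcardE : Nat.card D < (E : Set G).ncard := hcard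
      suffices ∀ (T : Set G) (g : G), FusionChain (IsTame P) T g → Nat.card D < T.ncard →
          ∃ y ∈ normalizer (A : Set G), ∀ a ∈ T, y⁻¹ * a * y = g⁻¹ * a * g by
        obtain ⟨y, hy, he'⟩ := this _ _ hchain hcardE
        exact ⟨y, hy, fun d hd => (he' d (hlt.le hd)).trans (he d hd)⟩
      intro T g h
      induction h with
      | one T => exact fun _ => ⟨1, one_mem _, fun a _ => rfl⟩
      | @step T F u h hF hT hu _ ih' =>
        intro hTc
        have hFc : Nat.card D < Nat.card F :=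
          hTc.trans_le (Set.ncard_le_ncard hT (Set.toFinite _))
        have hlt' : Nat.card G - Nat.card F < k := by
          have := Subgroup.card_le_card_group F
          omega
        obtain ⟨y, hy, he1⟩ := ih _ hlt' F rfl hF u hu
        have hc2 : Nat.card D < ((fun a => u⁻¹ * a * u) '' T).ncard := by
          rwa [Set.ncard_image_of_injective _ fun a b hab => mul_left_cancel (mul_right_cancel hab)]
        obtain ⟨z, hz, he2⟩ := ih' hc2
        refine ⟨y * z, mul_mem hy hz, fun a ha => ?_⟩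
        have h1 := he2 (u⁻¹ * a * u) ⟨a, ha, rfl⟩
        calc (y * z)⁻¹ * a * (y * z) = z⁻¹ * (y⁻¹ * a * y) * z := by group
          _ = z⁻¹ * (u⁻¹ * a * u) * z := by rw [he1 a (hT ha)]
          _ = h⁻¹ * (u⁻¹ * a * u) * h := h1
          _ = (u * h)⁻¹ * a * (u * h) := by group

end


/-- Let S be a Sylow p-subgroup of the finite group G and A an abelian subgroup of S that is strongly closed in S with respect to G. Then A controls strong fusion in G: for some Sylow p-subgroup T containing A, whenever a subset of T is conjugated into T by an element of G, the same elementwise conjugation is induced by an element of N_G(A). -/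
theorem result {G : Type*} [Group G] [Finite G] {p : ℕ} [Fact p.Prime] (S : Sylow p G) (A : Subgroup G) (hA : IsMulCommutative ↥A) (hsc : Cfsg.IsStronglyClosed A (S : Subgroup G)) : Cfsg.ControlsStrongFusion p A := by
  refine ⟨S, hsc.1, fun T hT => ⟨hT, fun g hg => ?_⟩⟩
  obtain ⟨y, hy, he⟩ := exists_conj_eq_of_tame S (Subgroup.normalizer (A : Set G))
    (fun D hD x hx => key S A hA hsc _ D rfl hD x hx) T g⁻¹ hT
    (fun a ha => by rw [inv_inv]; exact hg ⟨a, ha, rfl⟩)
  refine ⟨y⁻¹, inv_mem hy, fun a ha => ?_⟩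
  simpa using (he a ha).symm

end Cfsg.Agent.S2791
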