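import Cfsg.Statements.S0680
import Cfsg.Agent.Lib.Perm.Sharply
-- import your own Cfsg.Agent.* helpers here

set_option autoImplicit false
open Cfsg

namespace Cfsg.Agent.S0680

/-- A finite sharply doubly transitive permutation group has degree a prime power `p ^ j`; a Sylow `p`-subgroup is normal, elementary abelian and regular, and consists of the identity together with the elements without fixed points. (Frobenius' Theorem is not needed.) -/
theorem result {α : Type*} [Fintype α] [DecidableEq α] (G : Subgroup (Equiv.Perm α)) [MulAction.IsMultiplyPretransitive G α 2] (hsharp : ∀ x : Fin 2 ↪ α, MulAction.stabilizer G x = ⊥) (h2 : 2 ≤ Fintype.card α) : ∃ p j : ℕ, p.Prime ∧ 1 ≤ j ∧ Fintype.card α = p ^ j ∧ ∀ (hp : Fact p.Prime) (P : Sylow p G), (P : Subgroup G).Normal ∧ IsMulCommutative (P : Subgroup G) ∧ (∀ x ∈ (P : Subgroup G), x ^ p = 1) ∧ MulAction.IsPretransitive (P : Subgroup G) α ∧ (∀ a : α, MulAction.stabilizer (P : Subgroup G) a = ⊥) ∧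 ∀ g : G, g ∈ (P : Subgroup G) ↔ g = 1 ∨ ∀ a : α, g • a ≠ a := by
  haveI : Nontrivial α := Fintype.one_lt_card_iff_nontrivial.1 h2
  obtain ⟨hfin, -⟩ := Cfsg.Agent.Perm.card_kernelElt (G := G) hsharp
  obtain ⟨K, hKn, hKt, hKs, hKmem, hKc, p, j, hp, hj, hcard, hKcard, hKexp⟩ :=
    Cfsg.Agent.Perm.exists_kernel_of_sharply_two (G := G) hsharp
  refine ⟨p, j, hp, hj, by rw [← Nat.card_eq_fintype_card]; exact hcard, fun hpF P => ?_⟩
  haveI := hpF
  have hGcard : Nat.card G = p ^ j * (p ^ j - 1) := by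
    obtain ⟨a, b, hab⟩ := exists_pair_ne α
    let x₀ : Fin 2 ↪ α := ⟨![a, b], by intro i k; fin_cases i <;> fin_cases k <;> simp [hab, hab.symm]⟩
    rw [Cfsg.Agent.Perm.card_eq_of_sharply (hsharp x₀), hcard]
    simp [Nat.descFactorial_succ, mul_comm]
  have hKP : IsPGroup p K := IsPGroup.of_card hKcard
  have hsy : ∀ {Q : Subgroup G}, IsPGroup p Q → K ≤ Q → Q = K := fun {Q} hQ hKQ => by
    obtain ⟨i, hi⟩ := IsPGroup.iff_card.1 hQ
    have h1 : Nat.card Q ∣ p ^ j * (p ^ j - 1) := hGcard ▸ Subgroup.card_subgroup_dvd_card Q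
    have h3 : ¬ p ∣ p ^ j - 1 := by
      intro h
      have h4 : p ∣ p ^ j := dvd_pow_self p (by omega)
      have h5 : 1 ≤ p ^ j := Nat.one_le_pow _ _ hp.pos
      exact hp.not_dvd_one (by simpa [Nat.sub_sub_self h5] using Nat.dvd_sub h4 h)
    have h2 : (p ^ i).Coprime (p ^ j - 1) := ((hp.coprime_iff_not_dvd).2 h3).pow_left i
    rw [hi] at h1
    exact (Subgroup.eq_of_le_of_card_ge hKQ (by
      rw [hKcard, hi]; exact Nat.le_of_dvd (Nat.pow_pos hp.pos) (h2.dvd_of_dvd_mul_right h1))).symm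
  have hPK : (P : Subgroup G) = K := by
    obtain ⟨Q, hQ⟩ := hKP.exists_le_sylow
    have hQK : (Q : Subgroup G) = K := hsy Q.isPGroup' hQ
    haveI : (Q : Subgroup G).Normal := hQK ▸ hKn
    haveI := Sylow.unique_of_normal Q inferInstance
    rw [Subsingleton.elim P Q, hQK]
  rw [hPK]
  exact ⟨hKn, hKc, hKexp, hKt, hKs, hKmem⟩

end Cfsg.Agent.S0680
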