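import Cfsg.Statements.S3742
-- import your own Cfsg.Agent.* helpers here

set_option autoImplicit false
open Cfsg

namespace Cfsg.Agent.S3742

open QuaternionGroup

/-- The quaternion group of order 8. -/
abbrev Q := QuaternionGroup 2

/-- Admissible images of the two standard generators. -/
def Adm (p : Q × Q) : Prop :=
  p.1 ^ 2 = a 2 ∧ p.2 ^ 2 = a 2 ∧ p.2 ≠ p.1 ∧ p.2 ≠ p.1⁻¹

instance decAdm (p : Q × Q) : Decidable (Adm p) := by unfold Adm; infer_instance

/-- The map determined by the images of the generators. -/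
def mk (p : Q × Q) : Q → Q
  | .a i => p.1 ^ i.val
  | .xa i => p.2 * p.1 ^ i.val

/-- The four diagonals, as sign choices on the three axes. -/
def diag : Fin 4 → Q × Q × Q
  | 0 => (a 1, xa 0, xa 3)
  | 1 => (a 1, xa 2, xa 1)
  | 2 => (a 1, xa 2, xa 3)
  | 3 => (a 1, xa 0, xa 1)

/-- The diagonal spanned by a triple. -/
def idx (u v w : Q) : Fin 4 :=
  let s0 := decide (u = a 1 ∨ v = a 1 ∨ w = a 1)
  let s1 := decide (u = xa 0 ∨ v = xa 0 ∨ w = xa 0)
  let s2 := decide (u = xa 3 ∨ v = xa 3 ∨ w = xa 3)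
  match s0 == s1, s0 == s2 with
  | true, true => 0
  | false, false => 1
  | false, true => 2
  | true, false => 3

/-- The action on the four diagonals. -/
def g (p : Q × Q) (t : Fin 4) : Fin 4 :=
  idx (mk p (diag t).1) (mk p (diag t).2.1) (mk p (diag t).2.2)

theorem g_comp : ∀ p : Q × Q, Adm p → ∀ q : Q × Q, Adm q → ∀ t, g (mk p q.1, mk p q.2) t = g p (g q t) := by
  decide +kernel

theorem g_id : ∀ t, g (a 1, xa 0) t = t := by decide +kernel

theorem g_inj : ∀ p : Q × Q, Adm p → ∀ q : Q × Q, Adm q → (∀ t, g p t = g q t) → p = q := by decide +kernel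

theorem mk_mul : ∀ p : Q × Q, Adm p → ∀ u v, mk p (u * v) = mk p u * mk p v := by decide +kernel

theorem mk_inj : ∀ p : Q × Q, Adm p → ∀ u v, mk p u = mk p v → u = v := by decide +kernel

theorem card_adm : Fintype.card {p : Q × Q // Adm p} = 24 := by decide +kernel

theorem gen_spec : ∀ i : ZMod (2 * 2), (a i : Q) = a 1 ^ i.val ∧ (xa i : Q) = xa 0 * a 1 ^ i.val := by decide +kernel

theorem gen_sq : ((a 1 : Q) ^ 2 = a 2) ∧ ((xa 0 : Q) ^ 2 = a 2) ∧ (xa 0 : Q) ≠ a 1 ∧ (xa 0 : Q) ≠ (a 1)⁻¹ := by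
  decide +kernel

theorem mk_gen : ∀ p : Q × Q, mk p (a 1) = p.1 ∧ mk p (xa 0) = p.2 := by decide +kernel

theorem central_unique : ∀ c : Q, c ^ 2 = 1 → c ≠ 1 → c = a 2 := by decide +kernel

/-- Evaluation at the generators. -/
def ev (φ : MulAut Q) : Q × Q := (φ (a 1), φ (xa 0))

theorem mk_ev (φ : MulAut Q) (u : Q) : mk (ev φ) u = φ u := by
  cases u with
  | a i => show φ (a 1) ^ i.val = _; rw [← map_pow, ← (gen_spec i).1]
  | xa i => show φ (xa 0) * φ (a 1) ^ i.val = _; rw [← map_pow, ← map_mul, ← (gen_spec i).2]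

theorem adm_ev (φ : MulAut Q) : Adm (ev φ) := by
  have h2 : φ (a 2) = a 2 := by
    apply central_unique
    · rw [← map_pow, show ((a 2 : Q)) ^ 2 = 1 from by decide, map_one]
    · rw [Ne, MulEquiv.map_eq_one_iff]; decide
  obtain ⟨h₁, h₂, h₃, h₄⟩ := gen_sq
  refine ⟨?_, ?_, fun h => h₃ (φ.injective h), fun h => h₄ (φ.injective ?_)⟩
  · show φ (a 1) ^ 2 = a 2; rw [← map_pow, h₁, h2]
  · show φ (xa 0) ^ 2 = a 2; rw [← map_pow, h₂, h2]
  · rw [map_inv]; exact h

theorem ev_mul (φ ψ : MulAut Q) : ev (φ * ψ) = (mk (ev φ) (ev ψ).1, mk (ev φ) (ev ψ).2) := by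
  rw [mk_ev, mk_ev]; rfl

theorem g_mul (φ ψ : MulAut Q) (t : Fin 4) : g (ev (φ * ψ)) t = g (ev φ) (g (ev ψ) t) := by
  rw [ev_mul]; exact g_comp _ (adm_ev φ) _ (adm_ev ψ) t

theorem g_one (t : Fin 4) : g (ev 1) t = t := g_id t

/-- The representation on the diagonals. -/
def toPerm : MulAut Q →* Equiv.Perm (Fin 4) where
  toFun φ :=
    { toFun := g (ev φ)
      invFun := g (ev φ⁻¹)
      left_inv := fun t => by rw [← g_mul, inv_mul_cancel, g_one]
      right_inv := fun t => by rw [← g_mul, mul_inv_cancel, g_one] }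
  map_one' := Equiv.ext g_one
  map_mul' φ ψ := Equiv.ext (g_mul φ ψ)

/-- The automorphism with given admissible generator images. -/
noncomputable def ofAdm (p : {p : Q × Q // Adm p}) : MulAut Q :=
  MulEquiv.ofBijective (MonoidHom.mk' (mk p.1) (mk_mul p.1 p.2))
    (Finite.injective_iff_bijective.1 fun u v h => mk_inj p.1 p.2 u v h)

theorem toPerm_bijective : Function.Bijective toPerm := by
  have hev : ∀ p, ev (ofAdm p) = p.1 := fun p => Prod.ext (mk_gen p.1).1 (mk_gen p.1).2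
  have hinj : Function.Injective fun p => toPerm (ofAdm p) := by
    intro p q h
    have h' : ∀ t, g (ev (ofAdm p)) t = g (ev (ofAdm q)) t := fun t => congrArg (fun e => e t) h
    simp only [hev] at h'
    exact Subtype.ext (g_inj _ p.2 _ q.2 h')
  refine ⟨fun φ ψ h => ?_, fun σ => ?_⟩
  · have h' := g_inj _ (adm_ev φ) _ (adm_ev ψ) fun t => congrArg (fun e => e t) h
    ext u; rw [← mk_ev φ, ← mk_ev ψ, h']
  · obtain ⟨p, hp⟩ := ((Fintype.bijective_iff_injective_and_card _).2
      ⟨hinj, by rw [card_adm, Fintype.card_perm, Fintype.card_fin]; rfl⟩).2 σ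
    exact ⟨ofAdm p, hp⟩

/-- The automorphism group of the quaternion group of order 8 is isomorphic to the symmetric group of degree 4. -/
theorem result : Nonempty (MulAut (QuaternionGroup 2) ≃* Equiv.Perm (Fin 4)) := by
  exact ⟨MulEquiv.ofBijective toPerm toPerm_bijective⟩

end Cfsg.Agent.S3742
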