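import Cfsg.Statements.S1203
import Cfsg.Agent.Lib.TwoGroups.QuasiDihedralSub
import Cfsg.Agent.S3742
import Cfsg.Agent.S1190
import Cfsg.Agent.S1191

set_option autoImplicit false
open Cfsg

namespace Cfsg.Agent.S1203

/-- The conjugation action of the normaliser on a subgroup. -/
theorem relIndex_centralizer_dvd {G : Type*} [Group G] [Finite G] (T : Subgroup G) :
    (Subgroup.centralizer (T : Set G)).relIndex (Subgroup.normalizer (T : Set G)) ∣ Nat.card (MulAut T) := by
  have hker : T.normalizerMonoidHom.ker =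
      (Subgroup.centralizer (T : Set G)).subgroupOf (Subgroup.normalizer (T : Set G)) :=
    Subgroup.normalizerMonoidHom_ker T
  rw [Subgroup.relIndex, ← hker, Subgroup.index_ker]
  exact Subgroup.card_subgroup_dvd_card _

theorem two_dvd_relIndex {G : Type*} [Group G] [Finite G] (S K : Subgroup G) (hS : IsPGroup 2 S)
    (N : Subgroup G) (g : G) (hgS : g ∈ S) (hgN : g ∈ N) (hgK : g ∉ K)
    (hn : (K.subgroupOf N).Normal) : 2 ∣ K.relIndex N := by
  rw [Subgroup.relIndex, Subgroup.index_eq_card]
  obtain ⟨j, hj⟩ := hS ⟨g, hgS⟩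
  have h1 : ((QuotientGroup.mk ⟨g, hgN⟩ : N ⧸ K.subgroupOf N)) ≠ 1 := by
    rw [ne_eq, QuotientGroup.eq_one_iff, Subgroup.mem_subgroupOf]
    exact hgK
  have h2 : orderOf (QuotientGroup.mk ⟨g, hgN⟩ : N ⧸ K.subgroupOf N) ∣ 2 ^ j := by
    apply orderOf_dvd_of_pow_eq_one
    rw [← QuotientGroup.mk_pow, show (⟨g, hgN⟩ : N) ^ (2 ^ j) = 1 from
      Subtype.ext (congrArg Subtype.val hj : _), QuotientGroup.mk_one]
  obtain ⟨i, -, hi⟩ := (Nat.dvd_prime_pow Nat.prime_two).1 h2
  refine dvd_trans ?_ (orderOf_dvd_natCard (QuotientGroup.mk ⟨g, hgN⟩ : N ⧸ K.subgroupOf N))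
  rw [hi]
  refine dvd_pow_self 2 fun h0 => h1 ?_
  rwa [h0, pow_zero, orderOf_eq_one_iff] at hi

theorem inf_normalizer_le {G : Type*} [Group G] (A B : Subgroup G) :
    Subgroup.normalizer (A : Set G) ⊓ Subgroup.normalizer (B : Set G) ≤
      Subgroup.normalizer ((A ⊔ B : Subgroup G) : Set G) := by
  rintro g ⟨hA, hB⟩
  rw [Subgroup.mem_normalizer_iff_map_conj_eq, Subgroup.map_sup,
    Subgroup.mem_normalizer_iff_map_conj_eq.1 hA, Subgroup.mem_normalizer_iff_map_conj_eq.1 hB]

theorem relIndex_sup_of_le_normalizer {G : Type*} [Group G] {A C : Subgroup G}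
    (hA : A ≤ Subgroup.normalizer (C : Set G)) : C.relIndex (A ⊔ C) = C.relIndex A := by
  rw [Subgroup.relIndex, Subgroup.relIndex, Subgroup.index_eq_card, Subgroup.index_eq_card]
  haveI : (C.subgroupOf A).Normal := Subgroup.normal_subgroupOf_of_le_normalizer hA
  haveI : (C.subgroupOf (A ⊔ C)).Normal :=
    Subgroup.normal_subgroupOf_of_le_normalizer (sup_le hA Subgroup.le_normalizer)
  exact (Nat.card_congr (QuotientGroup.quotientInfEquivProdNormalizerQuotient A C hA).toEquiv).symm

theorem quaternion_center_card : ∀ a : QuaternionGroup 2,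
    (∀ b, b * a = a * b) ↔ a = 1 ∨ a = QuaternionGroup.a 2 := by decide

theorem index_center_quaternion {Q : Type*} [Group Q] (e : Q ≃* QuaternionGroup 2) :
    (Subgroup.center Q).index = 4 := by
  have h1 : (Subgroup.center (QuaternionGroup 2)).index = 4 := by
    have hc : (Subgroup.center (QuaternionGroup 2) : Set (QuaternionGroup 2)) =
        {1, QuaternionGroup.a 2} := by
      ext a
      simp [Subgroup.mem_center_iff, quaternion_center_card]
    have h2 := (Subgroup.center (QuaternionGroup 2)).card_mul_index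
    rw [← SetLike.coe_sort_coe, Nat.card_coe_set_eq, hc, Set.ncard_pair (by decide),
      Nat.card_eq_fintype_card, QuaternionGroup.card] at h2
    omega
  rw [← h1, ← Subgroup.index_comap_of_surjective (Subgroup.center (QuaternionGroup 2))
    (f := e.toMonoidHom) e.surjective]
  congr 1
  ext a
  simp only [Subgroup.mem_comap, Subgroup.mem_center_iff, MulEquiv.coe_toMonoidHom]
  exact ⟨fun h b => by obtain ⟨c, rfl⟩ := e.surjective b; rw [← map_mul, h c, map_mul],
    fun h b => e.injective (by rw [map_mul, map_mul, h])⟩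

theorem card_mulAut_kleinFour {T : Type*} [Group T] [IsKleinFour T] : Nat.card (MulAut T) ∣ 6 := by
  haveI : Finite T := Nat.finite_of_card_ne_zero (by rw [IsKleinFour.card_four]; norm_num)
  let f : MulAut T →* Equiv.Perm {t : T // t ≠ 1} :=
    { toFun := fun e => e.toEquiv.subtypeEquiv fun t => not_congr (map_eq_one_iff e e.injective).symm
      map_one' := rfl
      map_mul' := fun _ _ => rfl }
  have hinj : Function.Injective f := by
    intro a b h
    ext t
    by_cases ht : t = 1
    · rw [ht, map_one, map_one]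
    · exact congrArg Subtype.val (Equiv.ext_iff.1 h ⟨t, ht⟩)
  have := Subgroup.card_dvd_of_injective f hinj
  rwa [Nat.card_perm, show Nat.card {t : T // t ≠ 1} = 3 from by
    classical
    haveI := Fintype.ofFinite T
    rw [Nat.card_eq_fintype_card, Fintype.card_subtype_compl, Fintype.card_subtype_eq,
      ← Nat.card_eq_fintype_card, IsKleinFour.card_four]] at this

theorem two_or_six {a : ℕ} (h : a ∣ 6) (h2 : 2 ∣ a) : a = 2 ∨ a = 6 := by
  have := Nat.le_of_dvd (by norm_num) h
  interval_cases a <;> omega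


/-- Let G be a finite group with quasi-dihedral Sylow 2-subgroup S, T a Klein four-subgroup of S and Q a quaternion subgroup of order 8 of S. Then |N_G(T) : C_G(T)| ∈ {2, 6} and |N_G(Q) : Q C_G(Q)| ∈ {2, 6}. -/
theorem result {G : Type*} [Group G] [Finite G] (S : Sylow 2 G) (hS : Cfsg.IsQuasiDihedral (S : Subgroup G)) (T : Subgroup G) (hT : IsKleinFour T) (hTS : T ≤ S) (Q : Subgroup G) (hQS : Q ≤ S) (eQ : Q ≃* QuaternionGroup 2) : ((Subgroup.centralizer (T : Set G)).relIndex (Subgroup.normalizer (T : Set G)) = 2 ∨ (Subgroup.centralizer (T : Set G)).relIndex (Subgroup.normalizer (T : Set G)) = 6) ∧ ((Q ⊔ Subgroup.centralizer (Q : Set G)).relIndex (Subgroup.normalizer (Q : Set G)) = 2 ∨ (Q ⊔ Subgroup.centralizer (Q : Set G)).relIndex (Subgroup.normalizer (Q : Set G)) = 6) := by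
  obtain ⟨x, y, m, h⟩ := TwoGroups.exists_qdGen hS
  have hST : IsKleinFour (T.subgroupOf S) := by
    have e := Subgroup.subgroupOfEquivOfLe hTS
    exact ⟨by rw [Nat.card_congr e.toEquiv, hT.card_four],
      by rw [Monoid.exponent_eq_of_mulEquiv e, hT.exponent_two]⟩
  obtain ⟨a, -, ha⟩ := h.exists_part_of_kleinFour (T.subgroupOf S)
  obtain ⟨b, -, hb⟩ := h.exists_part_of_quaternion (Q.subgroupOf S)
    ((Subgroup.subgroupOfEquivOfLe hQS).trans eQ)
  have push : ∀ (K : Subgroup G), K ≤ (S : Subgroup G) → ∀ s : (S : Subgroup G),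
      s ∈ Subgroup.normalizer (K.subgroupOf S : Set (S : Subgroup G)) →
      (s : G) ∈ Subgroup.normalizer (K : Set G) := by
    intro K hK s hs
    rw [Subgroup.mem_normalizer_iff]
    intro k
    constructor
    · intro hk
      simpa [Subgroup.mem_subgroupOf] using (Subgroup.mem_normalizer_iff.1 hs ⟨k, hK hk⟩).1 hk
    · intro hk
      have := (Subgroup.mem_normalizer_iff.1 hs (s⁻¹ * ⟨_, hK hk⟩ * s)).2
        (by simpa [Subgroup.mem_subgroupOf, mul_assoc] using hk)
      simpa [Subgroup.mem_subgroupOf, mul_assoc] using this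
  constructor
  · apply two_or_six
    · exact (relIndex_centralizer_dvd T).trans card_mulAut_kleinFour
    · obtain ⟨s, hs, hs'⟩ : ∃ s : (S : Subgroup G),
          s ∈ h.part (2 * 2 ^ m) (TwoGroups.QDGen.dvd_two_self m) a ∧ s ∉ T.subgroupOf S := by
        refine ⟨x ^ ((2 : ℤ) * 2 ^ m), (h.x_mem_part _).2 (by push_cast; exact dvd_rfl), fun hx => ?_⟩
        rw [ha, h.x_mem_part] at hx
        push_cast at hx
        have := Int.le_of_dvd (by positivity) hx
        have : (0 : ℤ) < 2 ^ m := by positivity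
        omega
      rw [← h.normalizer_part (TwoGroups.QDGen.dvd_four_self m) _ (by ring), ← ha] at hs
      refine two_dvd_relIndex (S : Subgroup G) _ S.2 _ (s : G) s.2 (push T hTS s hs) ?_ ?_
      · intro hsC
        have hC : s ∈ Subgroup.centralizer (T.subgroupOf S : Set (S : Subgroup G)) := fun k hk =>
          Subtype.ext (Subgroup.mem_centralizer_iff.1 hsC k hk)
        rw [((S1190.result hS).2 _ hST).1] at hC
        exact hs' hC
      · rw [← Subgroup.normalizerMonoidHom_ker]; infer_instance
  · set C := Subgroup.centralizer (Q : Set G) with hCdef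
    have hQN : Q ≤ Subgroup.normalizer (Q : Set G) := Subgroup.le_normalizer
    have hCN : C ≤ Subgroup.normalizer (Q : Set G) := Subgroup.centralizer_le_normalizer _
    have hle : Q ⊔ C ≤ Subgroup.normalizer (Q : Set G) := sup_le hQN hCN
    obtain ⟨b', hb'⟩ : ∃ q : G, q ∈ Q := ⟨1, one_mem _⟩
    have hNC : Subgroup.normalizer (Q : Set G) ≤ Subgroup.normalizer (C : Set G) := by
      rw [← Subgroup.normal_subgroupOf_iff_le_normalizer hCN, hCdef,
        ← Subgroup.normalizerMonoidHom_ker]
      infer_instance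
    have hnormal : ((Q ⊔ C).subgroupOf (Subgroup.normalizer (Q : Set G))).Normal := by
      rw [Subgroup.normal_subgroupOf_iff_le_normalizer hle]
      exact le_trans (le_inf le_rfl hNC) (inf_normalizer_le Q C)
    have hZ : (Subgroup.centralizer (Q.subgroupOf S : Set (S : Subgroup G))) =
        (Subgroup.center (Q.subgroupOf S)).map (Q.subgroupOf S).subtype :=
      ((S1191.result hS).2 _ ⟨(Subgroup.subgroupOfEquivOfLe hQS).trans eQ⟩).1
    apply two_or_six
    · have h1 := relIndex_centralizer_dvd Q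
      rw [Nat.card_congr (MulAut.congr eQ).toEquiv, Nat.card_congr S3742.result.some.toEquiv,
        Nat.card_perm, Nat.card_fin, show Nat.factorial 4 = 4 * 6 by decide,
        ← Subgroup.relIndex_mul_relIndex C (Q ⊔ C) _ le_sup_right hle] at h1
      have h4 : C.relIndex (Q ⊔ C) = 4 := by
        rw [relIndex_sup_of_le_normalizer (hQN.trans hNC), Subgroup.relIndex]
        have hk : C.subgroupOf Q = Subgroup.center Q := by
          ext q
          rw [Subgroup.mem_subgroupOf, Subgroup.mem_center_iff, hCdef, Subgroup.mem_centralizer_iff]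
          exact ⟨fun hq k => Subtype.ext (hq k k.2), fun hq k hk => congrArg Subtype.val (hq ⟨k, hk⟩)⟩
        rw [hk, index_center_quaternion eQ]
      rw [h4] at h1
      exact Nat.dvd_of_mul_dvd_mul_left (by norm_num) h1
    · obtain ⟨s, hs, hs'⟩ : ∃ s : (S : Subgroup G),
          s ∈ h.part (2 ^ m) (TwoGroups.QDGen.dvd_self_pow m) b ∧ s ∉ Q.subgroupOf S := by
        refine ⟨x ^ ((2 : ℤ) ^ m), (h.x_mem_part _).2 (by push_cast; exact dvd_rfl), fun hx => ?_⟩
        rw [hb, h.x_mem_part] at hx
        push_cast at hx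
        have := Int.le_of_dvd (by positivity) hx
        have : (0 : ℤ) < 2 ^ m := by positivity
        omega
      rw [← h.normalizer_part (TwoGroups.QDGen.dvd_two_self m) _ (by ring), ← hb] at hs
      refine two_dvd_relIndex (S : Subgroup G) _ S.2 _ (s : G) s.2 (push Q hQS s hs) ?_ hnormal
      intro hsC
      rw [← SetLike.mem_coe, Subgroup.coe_mul_of_left_le_normalizer_right _ _ (hQN.trans hNC),
        Set.mem_mul] at hsC
      obtain ⟨q, hq, c, hc, hqc⟩ := hsC
      have hcS : c ∈ (S : Subgroup G) := by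
        rw [show c = q⁻¹ * (s : G) by rw [← hqc]; group]
        exact mul_mem (inv_mem (hQS hq)) s.2
      have hC : (⟨c, hcS⟩ : (S : Subgroup G)) ∈
          Subgroup.centralizer (Q.subgroupOf S : Set (S : Subgroup G)) := fun k hk =>
        Subtype.ext (Subgroup.mem_centralizer_iff.1 hc k hk)
      rw [hZ] at hC
      obtain ⟨z, -, hz⟩ := hC
      apply hs'
      rw [Subgroup.mem_subgroupOf, ← hqc]
      have hzQ := z.2
      rw [Subgroup.mem_subgroupOf] at hzQ
      exact mul_mem hq (by rwa [show c = ((z : (S : Subgroup G)) : G) from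
        (congrArg Subtype.val hz).symm])

end Cfsg.Agent.S1203
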