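import Cfsg.Statements.S5084
import Cfsg.Agent.Lib.Fusion.Saturated
import Cfsg.Agent.Lib.Fusion.Constructions

set_option autoImplicit false
open Cfsg

namespace Cfsg.Agent.S5084

open Cfsg.Agent.Fusion Cfsg.FusionSystem in
/-- An extension fixing a subgroup with singleton classes. -/
theorem exists_ext {Ω : Type*} [Group Ω] {S : Subgroup Ω} {F : Cfsg.FusionSystem S}
    {Q P P'' : Subgroup Ω} (hQS : Q ≤ S) (hsing : ∀ x ∈ Q, ∀ y : Ω, F.IsConjElt x y → y = x)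
    (hrec : F.IsReceptive P'') {α : P →* Ω} (hα : α ∈ F.Hom P) (hr : α.range = P'') :
    ∃ ψ ∈ F.Hom (P ⊔ Q), (∀ x : P, ψ (Subgroup.inclusion le_sup_left x) = α x) ∧
      (∀ x : Q, ψ (Subgroup.inclusion le_sup_right x) = x) ∧ ψ.range = P'' ⊔ Q := by
  have hP := dom_le hα
  have hfix : ∀ {R : Subgroup Ω} {χ : R →* Ω}, χ ∈ F.Hom R → ∀ (x : Ω) (hxR : x ∈ R), x ∈ Q →
      χ ⟨x, hxR⟩ = x := by
    intro R χ hχ x hxR hxQ
    exact hsing x hxQ _
      ⟨_, restrict_mem hχ (Subgroup.zpowers_le.2 hxR), rfl⟩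
  have hcent : Q ≤ centralizerIn S P := fun x hx => by
    refine mem_centralizerIn.2 ⟨hQS hx, fun y hy => ?_⟩
    have h1 : y * x * y⁻¹ = x :=
      hfix (F.conj_mem (Subgroup.zpowers_le.2 (hQS hx)) (hP hy)) x (Subgroup.mem_zpowers x) hx
    calc y * x = y * x * y⁻¹ * y := by group
      _ = x * y := by rw [h1]
  obtain ⟨ψ, hψ, hext⟩ := exists_extension hrec hα hr
    (sup_le (le_extender hP (apply_mem hα)) (hcent.trans (centralizerIn_le_extender α)))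
  have hQ : ∀ x : Q, ψ (Subgroup.inclusion le_sup_right x) = x := fun x =>
    hfix hψ x (Subgroup.mem_sup_right x.2) x.2
  have hP' : ∀ x : P, ψ (Subgroup.inclusion le_sup_left x) = α x := fun x =>
    hext x x.2 (Subgroup.mem_sup_left x.2)
  refine ⟨ψ, hψ, hP', hQ, ?_⟩
  rw [range_sup_eq hP' (Q' := Q) ?_, hr]
  ext y
  constructor
  · rintro ⟨z, hz, rfl⟩
    have h1 := hQ ⟨z, hz⟩
    exact (show ψ z = (z : Ω) from h1).symm ▸ hz
  · intro hy
    exact ⟨_, hy, hQ ⟨y, hy⟩⟩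

/-- In a saturated fusion system over a finite p-group S, a subgroup Q is central in the system if and only if Q ≤ S and no element of Q is conjugate in the system to any element other than itself. -/
theorem result {Ω : Type*} [Group Ω] {S : Subgroup Ω} [Finite S] (p : ℕ) [Fact p.Prime] (hS : IsPGroup p S) (F : Cfsg.FusionSystem S) (hF : F.IsSaturated p) (Q : Subgroup Ω) : F.IsCentral Q ↔ (Q ≤ S ∧ ∀ x ∈ Q, ∀ y : Ω, F.IsConjElt x y → y = x) := by
  constructor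
  · rintro ⟨hQS, hext⟩
    refine ⟨hQS, fun x hx y ⟨φ, hφ, hy⟩ => ?_⟩
    obtain ⟨ψ, -, h1, h2⟩ := hext _ φ hφ
    have h3 := h2 ⟨x, hx⟩
    have h4 := h1 ⟨x, Subgroup.mem_zpowers x⟩
    rw [← hy, ← h4]
    exact h3
  · rintro ⟨hQS, hsing⟩
    refine ⟨hQS, fun P φ hφ => ?_⟩
    obtain ⟨P'', hconj, hfn⟩ := Cfsg.Agent.Fusion.exists_fullyNormalized F
      (Cfsg.Agent.Fusion.range_le hφ)
    have hrec := Cfsg.Agent.Fusion.isReceptive_of_fullyNormalized hS hF hfn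
    obtain ⟨α, hα, hαr⟩ := hconj
    have hmem : ∀ x : P, φ x ∈ φ.range := fun x => ⟨x, rfl⟩
    let β := α.comp (φ.codRestrict φ.range hmem)
    have hβ : β ∈ F.Hom P := F.comp_mem hφ hα hmem
    have hβr : β.range = P'' := by
      rw [← hαr]
      ext y
      constructor
      · rintro ⟨x, rfl⟩
        exact ⟨_, rfl⟩
      · rintro ⟨⟨_, x, rfl⟩, rfl⟩
        exact ⟨x, rfl⟩
    obtain ⟨a, ha, haP, haQ, har⟩ := exists_ext hQS hsing hrec hα hαr
    obtain ⟨b, hb, hbP, hbQ, hbr⟩ := exists_ext hQS hsing hrec hβ hβr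
    obtain ⟨c, hc, -, hci, -⟩ := Cfsg.Agent.Fusion.exists_inverse ha har
    have hbm : ∀ z, b z ∈ P'' ⊔ Q := fun z => hbr.le ⟨z, rfl⟩
    refine ⟨c.comp (b.codRestrict _ hbm), F.comp_mem hb hc hbm, fun x => ?_, fun x => ?_⟩
    · show c ⟨b _, _⟩ = φ x
      have hmem2 : a (Subgroup.inclusion le_sup_left ⟨φ x, hmem x⟩) ∈ P'' ⊔ Q := har.le ⟨_, rfl⟩
      have he : (⟨b (Subgroup.inclusion le_sup_left x), hbm _⟩ : ↥(P'' ⊔ Q)) = ⟨_, hmem2⟩ :=
        Subtype.ext ((hbP x).trans (haP _).symm)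
      rw [he, hci]
      rfl
    · show c ⟨b _, _⟩ = x
      have hmem2 : a (Subgroup.inclusion le_sup_right x) ∈ P'' ⊔ Q := har.le ⟨_, rfl⟩
      have he : (⟨b (Subgroup.inclusion le_sup_right x), hbm _⟩ : ↥(P'' ⊔ Q)) = ⟨_, hmem2⟩ :=
        Subtype.ext ((hbQ x).trans (haQ x).symm)
      rw [he, hci]
      rfl

end Cfsg.Agent.S5084
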