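import Cfsg.Statements.S5294
import Cfsg.Agent.S5084
import Cfsg.Agent.S5144
import Cfsg.Agent.Lib.Fusion.Constrained
import Mathlib.Algebra.BigOperators.Group.Finset.Basic
-- import your own Cfsg.Agent.* helpers here

set_option autoImplicit false
universe u
open Cfsg Cfsg.FusionSystem Cfsg.Agent.Fusion
open scoped IsMulCommutative
open Cfsg

namespace Cfsg.Agent.S5294

/-- An automorphism restricted to the centre. -/
def act {Q : Type*} [Group Q] (a : MulAut Q) : Subgroup.center Q →* Subgroup.center Q :=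
  (a.toMonoidHom.comp (Subgroup.center Q).subtype).codRestrict _ fun v => by
    refine Subgroup.mem_center_iff.2 fun q => ?_
    obtain ⟨r, rfl⟩ := a.surjective q
    show a r * a v = a v * a r
    rw [← map_mul, ← map_mul, Subgroup.mem_center_iff.1 v.2 r]

theorem act_mul {Q : Type*} [Group Q] (a b : MulAut Q) (v : Subgroup.center Q) :
    act (a * b) v = act a (act b v) := rfl

/-- If a subgroup of index prime to the orders of the elements fixes `V₁` pointwise, the points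
fixed by everything have a complement in `V₁`. -/
theorem exists_complement {Q : Type*} [Group Q] [Finite Q] (A : Subgroup (MulAut Q)) (T : Subgroup A)
    (V₁ : Subgroup (Subgroup.center Q)) (hV₁ : ∀ v, v ∈ V₁ ↔ ∀ t ∈ T, act (t : MulAut Q) v = v)
    (hco : T.index.Coprime (Nat.card Q)) :
    ∃ K ≤ V₁, (∀ v ∈ K, (∀ a ∈ A, act a v = v) → v = 1) ∧
      ∀ v ∈ V₁, ∃ z k, (∀ a ∈ A, act a z = z) ∧ k ∈ K ∧ v = z * k := by
  classical
  have : Finite (MulAut Q) := MulEquiv.finite_left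
  let _ : Fintype (A ⧸ T) := Fintype.ofFinite _
  let tr : Subgroup.center Q →* Subgroup.center Q :=
    ∏ c : A ⧸ T, act ((c.out : A) : MulAut Q)
  have htr : ∀ v, tr v = ∏ c : A ⧸ T, act ((c.out : A) : MulAut Q) v := fun v =>
    MonoidHom.finsetProd_apply _ _ _
  have hinv : ∀ v ∈ V₁, ∀ a ∈ A, act a (tr v) = tr v := by
    intro v hv a ha
    rw [htr, map_prod]
    refine Fintype.prod_equiv (MulAction.toPerm (⟨a, ha⟩ : A)) _ _ fun c => ?_
    obtain ⟨t, ht⟩ := QuotientGroup.mk_out_eq_mul T (⟨a, ha⟩ * c.out : A)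
    have h1 : ((⟨a, ha⟩ : A) • c : A ⧸ T) = QuotientGroup.mk (⟨a, ha⟩ * c.out : A) := by
      conv_lhs => rw [← QuotientGroup.out_eq' c]
      rfl
    show act a (act _ v) = act (((((⟨a, ha⟩ : A) • c : A ⧸ T)).out : A) : MulAut Q) v
    rw [h1, ht, Subgroup.coe_mul, Subgroup.coe_mul, act_mul, act_mul,
      (hV₁ v).1 hv _ t.2]
  have hfix : ∀ v, (∀ a ∈ A, act a v = v) → tr v = v ^ T.index := by
    intro v hv
    rw [htr, Finset.prod_congr rfl fun c _ => hv _ (c.out : A).2, Finset.prod_const,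
      Finset.card_univ, ← Nat.card_eq_fintype_card]
    rfl
  have hone : ∀ v : Subgroup.center Q, v ^ Nat.card Q = 1 := fun v => Subtype.ext pow_card_eq_one'
  refine ⟨tr.ker ⊓ V₁, inf_le_right, fun v hv hv2 => ?_, fun v hv => ?_⟩
  · have h1 := hfix v hv2
    rw [MonoidHom.mem_ker.1 hv.1] at h1
    exact orderOf_eq_one_iff.1 (Nat.eq_one_of_dvd_coprimes hco
      (orderOf_dvd_of_pow_eq_one h1.symm) (orderOf_dvd_of_pow_eq_one (hone v)))
  · obtain ⟨m, hm⟩ : ∃ m : ℤ, ∀ w : Subgroup.center Q, (w ^ T.index) ^ m = w := by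
      refine ⟨Nat.gcdA T.index (Nat.card Q), fun w => ?_⟩
      have h1 := Nat.gcd_eq_gcd_ab T.index (Nat.card Q)
      rw [hco.gcd_eq_one, Nat.cast_one] at h1
      conv_rhs => rw [← zpow_one w, h1, zpow_add, zpow_mul, zpow_mul, zpow_natCast, zpow_natCast,
        hone, one_zpow, mul_one]
    have hz : ∀ a ∈ A, act a (tr v ^ m) = tr v ^ m := fun a ha => by
      rw [map_zpow, hinv v hv a ha]
    have hzV : tr v ^ m ∈ V₁ := (hV₁ _).2 fun t _ => hz _ (t : A).2
    refine ⟨tr v ^ m, (tr v ^ m)⁻¹ * v, hz,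
      ⟨?_, V₁.mul_mem (V₁.inv_mem hzV) hv⟩, (mul_inv_cancel_left _ _).symm⟩
    show tr ((tr v ^ m)⁻¹ * v) = 1
    rw [map_mul, map_inv, hfix _ hz, ← zpow_natCast, ← zpow_mul, mul_comm, mul_inv_eq_one,
      mul_comm m, zpow_mul, zpow_natCast, hm]


/-- Let F be a saturated fusion system over a finite p-group S whose centre Z(S) lies in the largest subgroup O_p(F) normal in F. Then the centre Z(F) of F is a direct factor of Z(S): there is a subgroup K of Z(S) with Z(F) ∩ K = 1 and Z(F)K = Z(S). -/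
theorem result {Ω : Type u} [Group Ω] {S : Subgroup Ω} [Finite S] (p : ℕ) [Fact p.Prime] (hS : IsPGroup p S)
    (F : Cfsg.FusionSystem S) (hF : F.IsSaturated p) (hZ : (S ⊓ Subgroup.centralizer (S : Set Ω)) ≤ F.core) :
    ∃ K : Subgroup Ω, K ≤ (S ⊓ Subgroup.centralizer (S : Set Ω)) ∧ F.center ⊓ K = ⊥ ∧ F.center ⊔ K = (S ⊓ Subgroup.centralizer (S : Set Ω)) := by
  set Q := F.core with hQdef
  have hQn : F.IsNormal Q := isNormal_core F
  have hQS : Q ≤ S := hQn.1
  have hfinQ := finite_of_le hQS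
  have hSN : normalizerIn S Q = S := normalizerIn_eq_of_le (le_normalizer_of_isNormal hQn)
  have hfn : F.IsFullyNormalized Q := ⟨hQS, fun R _ => by
    rw [hSN]
    exact Subgroup.card_le_of_le inf_le_left⟩
  obtain ⟨-, R, hR⟩ := isFullyAutomized_of_fullyNormalized hS hF hfn
  set V₁ : Subgroup (Subgroup.center ↥Q) :=
    (Subgroup.centralizer (S : Set Ω)).comap (Q.subtype.comp (Subgroup.center ↥Q).subtype) with hV₁d
  have hV₁ : ∀ v, v ∈ V₁ ↔ ∀ t ∈ (R : Subgroup (F.autGroup Q)), act (t : MulAut Q) v = v := by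
    intro v
    constructor
    · intro hv t ht
      rw [hR, Subgroup.mem_subgroupOf, mem_autInducedBy_iff] at ht
      obtain ⟨g, hg, hgv⟩ := ht
      refine Subtype.ext (Subtype.ext ((hgv v.1).trans ?_))
      exact mul_inv_eq_iff_eq_mul.2 (Subgroup.mem_centralizer_iff.1 hv g hg)
    · intro hv
      refine Subgroup.mem_centralizer_iff.2 fun g hg => ?_
      obtain ⟨hcm, hcr⟩ : conjHom Q g ∈ F.Hom Q ∧ (conjHom Q g).range = Q :=
        ⟨F.conj_mem hQS hg, range_eq_of_le (F.conj_mem hQS hg) hQS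
          (fun x => (stronglyClosed_of_isNormal hQn).2 _ le_rfl _ (F.conj_mem hQS hg) x) le_rfl⟩
      have h1 : toAut hcm hcr ∈ autInducedBy S Q :=
        mem_autInducedBy_iff.2 ⟨g, hg, fun x => coe_toAut hcm hcr x⟩
      have h2 := hv ⟨_, toAut_mem hcm hcr⟩ (by rw [hR]; exact h1)
      have h3 : ((toAut hcm hcr v.1 : Q) : Ω) = (v.1 : Ω) :=
        congrArg (fun w : Subgroup.center ↥Q => ((w : Q) : Ω)) h2
      rw [coe_toAut] at h3
      exact mul_inv_eq_iff_eq_mul.1 h3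
  obtain ⟨n, hn⟩ := IsPGroup.iff_card.1 (hS.to_le hQS)
  have : Finite (MulAut Q) := MulEquiv.finite_left
  have hco : (R : Subgroup (F.autGroup Q)).index.Coprime (Nat.card Q) := by
    rw [hn]
    exact ((Fact.out : p.Prime).coprime_iff_not_dvd.2 R.not_dvd_index).symm.pow_right n
  obtain ⟨K, hKV, hK1, hK2⟩ := exists_complement _ _ V₁ hV₁ hco
  set f := Q.subtype.comp (Subgroup.center ↥Q).subtype
  -- elements of `Q` central in `S`
  have hmem : ∀ x ∈ S ⊓ Subgroup.centralizer (S : Set Ω), ∃ v ∈ V₁, f v = x := by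
    intro x hx
    refine ⟨⟨⟨x, hZ hx⟩, Subgroup.mem_center_iff.2 fun q => Subtype.ext ?_⟩, ?_, rfl⟩
    · exact Subgroup.mem_centralizer_iff.1 hx.2 q (hQS q.2)
    · exact hx.2
  have hcle : F.center ≤ S ⊓ Subgroup.centralizer (S : Set Ω) := by
    intro z hz
    refine ⟨(Cfsg.Agent.S5144.result F).1 hz, Subgroup.mem_centralizer_iff.2 fun g hg => ?_⟩
    obtain ⟨ψ, -, h1, h2⟩ := (Cfsg.Agent.S5144.result F).2 _ _
      (F.conj_mem (Cfsg.Agent.S5144.result F).1 hg)
    exact mul_inv_eq_iff_eq_mul.1 ((h1 ⟨z, hz⟩).symm.trans (h2 ⟨z, hz⟩) : g * z * g⁻¹ = z)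
  have hfixC : ∀ v : Subgroup.center ↥Q, f v ∈ F.center → ∀ a ∈ F.autGroup Q, act a v = v := by
    intro v hv a ha
    obtain ⟨ψ, -, h1, h2⟩ := (Cfsg.Agent.S5144.result F).2 _ _ ((mem_autGroup_iff hQS).1 ha)
    exact Subtype.ext (Subtype.ext ((h1 v.1).symm.trans (h2 ⟨f v, hv⟩)))
  have hCfix : ∀ v ∈ V₁, (∀ a ∈ F.autGroup Q, act a v = v) → f v ∈ F.center := by
    intro v hv hv2
    suffices hc : F.IsCentral (Subgroup.zpowers (f v)) from
      (le_sSup hc : _ ≤ F.center) (Subgroup.mem_zpowers _)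
    refine (Cfsg.Agent.S5084.result p hS F hF _).2 ⟨Subgroup.zpowers_le.2 (hQS v.1.2), ?_⟩
    rintro x hx y ⟨φ, hφ, rfl⟩
    obtain ⟨i, hi⟩ := Subgroup.mem_zpowers_iff.1 hx
    have hvi : ∀ a ∈ F.autGroup Q, act a (v ^ i) = v ^ i := fun a ha => by
      rw [map_zpow, hv2 a ha]
    have hxv : f (v ^ i) = x := by rw [map_zpow]; exact hi
    obtain ⟨ψ, hψ, hψe, hψQ⟩ := hQn.2 _ φ hφ
    have hle : Q ≤ Subgroup.zpowers x ⊔ Q := le_sup_right
    have hψ' := restrict_mem hψ hle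
    have hr : (ψ.comp (Subgroup.inclusion hle)).range = Q := by
      rw [MonoidHom.range_comp, Subgroup.inclusion_range, hψQ]
    have h1 : ((toAut hψ' hr (v ^ i).1 : Q) : Ω) = ((v ^ i).1 : Ω) :=
      congrArg (fun w : Subgroup.center ↥Q => ((w : Q) : Ω)) (hvi _ (toAut_mem hψ' hr))
    rw [coe_toAut] at h1
    have h2 : ψ (Subgroup.inclusion le_sup_left (⟨x, Subgroup.mem_zpowers x⟩ : Subgroup.zpowers x)) =
        ψ (Subgroup.inclusion hle (v ^ i).1) := congrArg ψ (Subtype.ext hxv.symm)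
    rw [hψe] at h2
    rw [h2]
    exact h1.trans hxv
  refine ⟨K.map f, ?_, ?_, le_antisymm ?_ ?_⟩
  · rintro _ ⟨v, hv, rfl⟩
    exact ⟨hQS v.1.2, hKV hv⟩
  · rw [Subgroup.eq_bot_iff_forall]
    rintro _ ⟨hv, v, hvK, rfl⟩
    rw [hK1 v hvK (hfixC v hv), map_one]
  · refine sup_le hcle ?_
    rintro _ ⟨v, hv, rfl⟩
    exact ⟨hQS v.1.2, hKV hv⟩
  · intro x hx
    obtain ⟨v, hv, rfl⟩ := hmem x hx
    obtain ⟨z, k, hz, hk, rfl⟩ := hK2 v hv
    have hzV : z ∈ V₁ := by
      have := V₁.mul_mem hv (V₁.inv_mem (hKV hk))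
      rwa [mul_inv_cancel_right] at this
    rw [map_mul]
    exact Subgroup.mul_mem_sup (hCfix z hzV hz) ⟨k, hk, rfl⟩

end Cfsg.Agent.S5294
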