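import Cfsg.Statements.S0950
import Cfsg.Agent.Lib.Transfer.Frobenius
import Mathlib.GroupTheory.SpecificGroups.Quaternion

set_option autoImplicit false
open Cfsg

namespace Cfsg.Agent.S0950

theorem q8_facts : ∀ x y : QuaternionGroup 2,
    (x * x = 1 → x = 1 ∨ x = QuaternionGroup.a 2) ∧ (x * x ≠ 1 → x * x = QuaternionGroup.a 2) ∧
    x * x * (x * x) = 1 ∧
    (x * x ≠ 1 → y * y ≠ 1 → y ≠ x → y ≠ x⁻¹ →
      x * x * y = y⁻¹ ∧ x * y⁻¹ * x⁻¹ = y ∧ x * y * (x * y) ≠ 1 ∧
        ∀ w : QuaternionGroup 2, w * w ≠ 1 →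
          w = x ∨ w = x⁻¹ ∨ w = y ∨ w = y⁻¹ ∨ w = x * y ∨ w = (x * y)⁻¹) := by
  decide

theorem commute_of_sq {G : Type*} [Group G] {g x : G} (hg : (orderOf g).Coprime 2)
    (h : Commute (g ^ 2) x) : Commute g x := by
  obtain ⟨i, hi⟩ := Subgroup.mem_zpowers_iff.mp (mem_zpowers_pow_iff.mpr hg.symm)
  exact hi ▸ h.zpow_left i

/-- Let S be a Sylow 2-subgroup of the finite group G that is isomorphic to the quaternion group of order 8, and suppose S has no normal complement in G. Then any two subgroups of order 4 of S are conjugate by an element of the normalizer of S. -/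
theorem result {G : Type*} [Group G] [Finite G] (S : Sylow 2 G) (e : (S : Subgroup G) ≃* QuaternionGroup 2) (hnc : ∀ N : Subgroup G, N.Normal → ¬ Subgroup.IsComplement' N (S : Subgroup G)) (A B : Subgroup G) (hA : A ≤ S) (hB : B ≤ S) (hA4 : Nat.card A = 4) (hB4 : Nat.card B = 4) : ∃ n ∈ Subgroup.normalizer ((S : Subgroup G) : Set G), B = A.map (MulAut.conj n).toMonoidHom := by
  haveI : Fact (Nat.Prime 2) := ⟨Nat.prime_two⟩
  set z : G := ((e.symm (QuaternionGroup.a 2) : (S : Subgroup G)) : G) with hz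
  have einv : ∀ w : (S : Subgroup G), ((e.symm (e w)) : G) = (w : G) := fun w => by simp
  have F1 : ∀ x ∈ (S : Subgroup G), x * x = 1 → x = 1 ∨ x = z := by
    intro x hx h
    have h' : e ⟨x, hx⟩ * e ⟨x, hx⟩ = 1 := by
      rw [← map_mul, show (⟨x, hx⟩ * ⟨x, hx⟩ : (S : Subgroup G)) = 1 from Subtype.ext h, map_one]
    rcases (q8_facts (e ⟨x, hx⟩) 1).1 h' with h1 | h1
    · exact Or.inl (by simpa using congrArg Subtype.val ((map_eq_one_iff e e.injective).mp h1))
    · exact Or.inr (by rw [hz, ← h1, einv])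
  have hne : ∀ x : (S : Subgroup G), (x : G) * (x : G) ≠ 1 → e x * e x ≠ 1 := by
    intro x h h'
    rw [← map_mul, map_eq_one_iff e e.injective] at h'
    exact h (congrArg Subtype.val h')
  have F2 : ∀ x ∈ (S : Subgroup G), x * x ≠ 1 → x * x = z := by
    intro x hx h
    have h1 := (q8_facts (e ⟨x, hx⟩) 1).2.1 (hne _ h)
    rw [hz, ← h1, ← map_mul, einv]
    rfl
  have F3 : ∀ x ∈ (S : Subgroup G), x * x * (x * x) = 1 := by
    intro x hx
    have h1 := (q8_facts (e ⟨x, hx⟩) 1).2.2.1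
    rw [← map_mul, ← map_mul, map_eq_one_iff e e.injective] at h1
    exact congrArg Subtype.val h1
  have F4 : ∀ x ∈ (S : Subgroup G), ∀ y ∈ (S : Subgroup G), x * x ≠ 1 → y * y ≠ 1 → y ≠ x →
      y ≠ x⁻¹ → x * x * y = y⁻¹ ∧ x * y⁻¹ * x⁻¹ = y ∧ x * y * (x * y) ≠ 1 ∧
        ∀ w ∈ (S : Subgroup G), w * w ≠ 1 →
          w = x ∨ w = x⁻¹ ∨ w = y ∨ w = y⁻¹ ∨ w = x * y ∨ w = (x * y)⁻¹ := by
    intro x hx y hy h1 h2 h3 h4
    obtain ⟨a1, a2, a3, a4⟩ := (q8_facts (e ⟨x, hx⟩) (e ⟨y, hy⟩)).2.2.2 (hne _ h1) (hne _ h2)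
      (fun h => h3 (congrArg Subtype.val (e.injective h)))
      (fun h => by rw [← map_inv] at h; exact h4 (congrArg Subtype.val (e.injective h)))
    refine ⟨?_, ?_, fun h => a3 ?_, fun w hw h => ?_⟩
    · rw [← map_inv, ← map_mul, ← map_mul] at a1
      exact congrArg Subtype.val (e.injective a1)
    · rw [← map_inv, ← map_inv, ← map_mul, ← map_mul] at a2
      exact congrArg Subtype.val (e.injective a2)
    · rw [← map_mul, ← map_mul, map_eq_one_iff e e.injective]
      exact Subtype.ext h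
    · have h5 := a4 (e ⟨w, hw⟩) (hne _ h)
      simp only [← map_inv, ← map_mul, e.injective.eq_iff, Subtype.ext_iff, Subgroup.coe_mul,
        Subgroup.coe_inv] at h5
      exact h5
  -- some odd-order element of the normalizer of a subgroup moves an element off its cyclic group
  obtain ⟨D, hDS, g, hg, hco, x₀, hx₀, hmove⟩ : ∃ D : Subgroup G, D ≤ (S : Subgroup G) ∧
      ∃ g ∈ Subgroup.normalizer (D : Set G), (orderOf g).Coprime 2 ∧
        ∃ x ∈ D, x * x ≠ 1 ∧ g * x * g⁻¹ ≠ x ∧ g * x * g⁻¹ ≠ x⁻¹ := by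
    by_contra hno
    have hc : Cfsg.HasNormalPComplement 2 G := by
      refine Transfer.hasNormalPComplement_of_centralizer S fun D hDS g hg hco => ?_
      rw [Subgroup.mem_centralizer_iff]
      intro x hx
      suffices h : Commute g x from h.symm.eq
      have hfix : ∀ w ∈ D, w * w ≠ 1 → Commute g w := by
        intro w hw hw1
        by_cases h1 : g * w * g⁻¹ = w
        · exact mul_inv_eq_iff_eq_mul.mp h1
        by_cases h2 : g * w * g⁻¹ = w⁻¹
        · refine commute_of_sq hco (mul_inv_eq_iff_eq_mul.mp ?_)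
          calc g ^ 2 * w * (g ^ 2)⁻¹ = g * (g * w * g⁻¹) * g⁻¹ := by rw [pow_two]; group
            _ = g * w⁻¹ * g⁻¹ := by rw [h2]
            _ = (g * w * g⁻¹)⁻¹ := by group
            _ = w := by rw [h2, inv_inv]
        exact absurd ⟨D, hDS, g, hg, hco, w, hw, hw1, h1, h2⟩ hno
      by_cases hx1 : x * x = 1
      · rcases F1 x (hDS hx) hx1 with rfl | rfl
        · exact Commute.one_right g
        have hgx := (Subgroup.mem_normalizer_iff.mp hg z).mp hx
        have h3 : g * z * g⁻¹ * (g * z * g⁻¹) = 1 := by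
          calc g * z * g⁻¹ * (g * z * g⁻¹) = g * (z * z) * g⁻¹ := by group
            _ = 1 := by rw [hx1]; group
        rcases F1 _ (hDS hgx) h3 with h | h
        · rw [conj_eq_one_iff.mp h]
          exact Commute.one_right g
        · exact mul_inv_eq_iff_eq_mul.mp h
      · exact hfix x hx hx1
    obtain ⟨N, hN, hc'⟩ := (Transfer.hasNormalPComplement_iff_exists S).mp hc
    exact hnc N hN hc'
  obtain ⟨hx2, hm1, hm2⟩ := hmove
  have hgxD : g * x₀ * g⁻¹ ∈ D := (Subgroup.mem_normalizer_iff.mp hg x₀).mp hx₀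
  have hconj2 : ∀ (h w : G), h * w * h⁻¹ * (h * w * h⁻¹) = h * (w * w) * h⁻¹ := fun h w => by group
  have hgen : D = (S : Subgroup G) := by
    refine le_antisymm hDS fun w hw => ?_
    have hx' : g * x₀ * g⁻¹ * (g * x₀ * g⁻¹) ≠ 1 := by
      rw [hconj2, ne_eq, conj_eq_one_iff]; exact hx2
    obtain ⟨-, -, -, h⟩ := F4 x₀ (hDS hx₀) _ (hDS hgxD) hx2 hx' hm1 hm2
    by_cases hw1 : w * w = 1
    · rcases F1 w hw hw1 with rfl | rfl
      · exact one_mem _
      · rw [← F2 x₀ (hDS hx₀) hx2]; exact mul_mem hx₀ hx₀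
    rcases h w hw hw1 with rfl | rfl | rfl | rfl | rfl | rfl
    · exact hx₀
    · exact inv_mem hx₀
    · exact hgxD
    · exact inv_mem hgxD
    · exact mul_mem hx₀ hgxD
    · exact inv_mem (mul_mem hx₀ hgxD)
  subst hgen
  have hgS : ∀ w ∈ (S : Subgroup G), g * w * g⁻¹ ∈ (S : Subgroup G) := fun w hw =>
    (Subgroup.mem_normalizer_iff.mp hg w).mp hw
  -- `g` fixes no element of order 4 up to inversion
  have nofix : ∀ x ∈ (S : Subgroup G), x * x ≠ 1 → ¬ Commute g x := by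
    intro x hx hx1 hcx
    have hgx : g * x * g⁻¹ = x := mul_inv_eq_iff_eq_mul.mpr hcx.eq
    have hy : ∀ y ∈ (S : Subgroup G), y * y ≠ 1 → Commute g y := by
      intro y hy hy1
      by_cases h3 : y = x
      · exact h3 ▸ hcx
      by_cases h4 : y = x⁻¹
      · exact h4 ▸ hcx.inv_right
      obtain ⟨a1, a2, -, a4⟩ := F4 x hx y hy hx1 hy1 h3 h4
      have hy' : g * y * g⁻¹ * (g * y * g⁻¹) ≠ 1 := by
        rw [hconj2, ne_eq, conj_eq_one_iff]; exact hy1
      have hsq : Commute (g ^ 2 * g ^ 2) y → Commute g y := fun h =>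
        commute_of_sq hco (commute_of_sq (hco.coprime_dvd_left (orderOf_pow_dvd 2))
          (by rwa [pow_two (g ^ 2)]))
      refine hsq (mul_inv_eq_iff_eq_mul.mp ?_)
      have e4 : g ^ 2 * g ^ 2 * y * (g ^ 2 * g ^ 2)⁻¹ = g * (g * (g * (g * y * g⁻¹) * g⁻¹) * g⁻¹) * g⁻¹ := by
        simp only [pow_two]; group
      rw [e4]
      have cinv : ∀ w : G, g * w⁻¹ * g⁻¹ = (g * w * g⁻¹)⁻¹ := fun w => by group
      have cmul : ∀ w : G, g * (x * w) * g⁻¹ = x * (g * w * g⁻¹) := fun w => by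
        conv_rhs => enter [1]; rw [← hgx]
        group
      have h21 : (x * y)⁻¹ = y⁻¹ * x⁻¹ := mul_inv_rev x y
      rcases a4 _ (hgS y hy) hy' with h | h | h | h | h | h
      · exact absurd ((MulAut.conj g).injective (show MulAut.conj g y = MulAut.conj g x by
          simp [h, hgx])) h3
      · exact absurd ((MulAut.conj g).injective (show MulAut.conj g y = MulAut.conj g x⁻¹ by
          rw [MulAut.conj_apply, MulAut.conj_apply, h, cinv, hgx])) h4
      · rw [h, h, h, h]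
      · rw [h, cinv, h, inv_inv, h, cinv, h, inv_inv]
      · have h5 : g * (g * y * g⁻¹) * g⁻¹ = y⁻¹ := by
          rw [h, cmul, h, ← mul_assoc, a1]
        rw [h5, cinv, cinv, h5, inv_inv]
      · have h5 : g * (g * y * g⁻¹) * g⁻¹ = y⁻¹ := by
          rw [h, cinv, cmul, h]
          conv_rhs => rw [← a2]
          group
        rw [h5, cinv, cinv, h5, inv_inv]
    refine hm1 (mul_inv_eq_iff_eq_mul.mpr (hy x₀ hx₀ hx2).eq)
  have hne' : ∀ x ∈ (S : Subgroup G), x * x ≠ 1 → g * x * g⁻¹ ≠ x ∧ g * x * g⁻¹ ≠ x⁻¹ := by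
    intro x hx hx1
    refine ⟨fun h => nofix x hx hx1 (mul_inv_eq_iff_eq_mul.mp h), fun h => nofix x hx hx1 ?_⟩
    refine commute_of_sq hco (mul_inv_eq_iff_eq_mul.mp ?_)
    calc g ^ 2 * x * (g ^ 2)⁻¹ = g * (g * x * g⁻¹) * g⁻¹ := by rw [pow_two]; group
      _ = g * x⁻¹ * g⁻¹ := by rw [h]
      _ = (g * x * g⁻¹)⁻¹ := by group
      _ = x := by rw [h, inv_inv]
  have trans : ∀ x ∈ (S : Subgroup G), x * x ≠ 1 → ∀ y ∈ (S : Subgroup G), y * y ≠ 1 →
      ∃ n ∈ Subgroup.normalizer ((S : Subgroup G) : Set G), n * x * n⁻¹ = y ∨ n * x * n⁻¹ = y⁻¹ := by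
    intro x hx hx1 y hy hy1
    by_cases h3 : y = x
    · exact ⟨1, one_mem _, Or.inl (by simp [h3])⟩
    by_cases h4 : y = x⁻¹
    · exact ⟨1, one_mem _, Or.inr (by simp [h4])⟩
    obtain ⟨-, -, a3, a4⟩ := F4 x hx y hy hx1 hy1 h3 h4
    set x1 := g * x * g⁻¹ with hx1'
    have h1sq : x1 * x1 ≠ 1 := by rw [hx1', hconj2, ne_eq, conj_eq_one_iff]; exact hx1
    obtain ⟨n1, n2⟩ := hne' x hx hx1
    obtain ⟨m1, m2⟩ := hne' x1 (hgS x hx) h1sq
    set x2 := g * x1 * g⁻¹ with hx2'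
    have h2sq : x2 * x2 ≠ 1 := by rw [hx2', hconj2, ne_eq, conj_eq_one_iff]; exact h1sq
    rcases a4 x1 (hgS x hx) h1sq with h | h | h | h | h | h
    · exact absurd h n1
    · exact absurd h n2
    · exact ⟨g, hg, Or.inl h⟩
    · exact ⟨g, hg, Or.inr h⟩
    all_goals
      have hgg : g * g * x * (g * g)⁻¹ = x2 := by rw [hx2', hx1']; group
      have hco2 : (orderOf (g ^ 2)).Coprime 2 := hco.coprime_dvd_left (orderOf_pow_dvd 2)
      rcases a4 x2 (hgS x1 (hgS x hx)) h2sq with k | k | k | k | k | k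
      · refine absurd (commute_of_sq hco ?_) (nofix x hx hx1)
        exact mul_inv_eq_iff_eq_mul.mp (by rw [pow_two, hgg]; exact k)
      · refine absurd (commute_of_sq hco (commute_of_sq hco2 ?_)) (nofix x hx hx1)
        refine mul_inv_eq_iff_eq_mul.mp ?_
        have hgg' : g * g * x⁻¹ * (g * g)⁻¹ = x := by
          calc g * g * x⁻¹ * (g * g)⁻¹ = (g * g * x * (g * g)⁻¹)⁻¹ := conj_inv.symm
            _ = x := by rw [hgg, k, inv_inv]
        calc (g ^ 2) ^ 2 * x * ((g ^ 2) ^ 2)⁻¹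
            = g * g * (g * g * x * (g * g)⁻¹) * (g * g)⁻¹ := by simp only [pow_two]; group
          _ = x := by rw [hgg, k, hgg']
      · exact ⟨g * g, mul_mem hg hg, Or.inl (hgg.trans k)⟩
      · exact ⟨g * g, mul_mem hg hg, Or.inr (hgg.trans k)⟩
      · first
          | exact absurd (k.trans h.symm) m1
          | exact absurd (by rw [k, h, inv_inv]) m2
      · first
          | exact absurd (k.trans h.symm) m1
          | exact absurd (by rw [k, h]) m2
  -- subgroups of order 4 are cyclic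
  have hgenA : ∀ A : Subgroup G, A ≤ (S : Subgroup G) → Nat.card A = 4 →
      ∃ x ∈ A, x * x ≠ 1 ∧ A = Subgroup.zpowers x := by
    intro A hA hA4
    obtain ⟨x, hxA, hx⟩ : ∃ x ∈ A, x * x ≠ 1 := by
      by_contra hno
      simp only [not_exists, not_and, not_not] at hno
      have hsub : (A : Set G) ⊆ {1, z} := fun w hw => by
        rcases F1 w (hA hw) (hno w hw) with h | h <;> simp [h]
      have h1 : (A : Set G).ncard ≤ 2 :=
        (Set.ncard_le_ncard hsub).trans ((Set.ncard_insert_le _ _).trans (by simp))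
      rw [← Nat.card_coe_set_eq] at h1
      exact absurd (hA4 ▸ h1 : 4 ≤ 2) (by omega)
    refine ⟨x, hxA, hx, (Subgroup.eq_of_le_of_card_ge (Subgroup.zpowers_le.mpr hxA) ?_).symm⟩
    rw [hA4, Nat.card_zpowers]
    have : orderOf x = 2 ^ (1 + 1) := orderOf_eq_prime_pow (p := 2) (n := 1)
      (by rwa [pow_one, pow_two]) (by rw [← F3 x (hA hxA), ← pow_two, ← pow_two, ← pow_mul]; norm_num)
    omega
  obtain ⟨x, hxA, hx, rfl⟩ := hgenA A hA hA4
  obtain ⟨y, hyB, hy, rfl⟩ := hgenA B hB hB4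
  obtain ⟨n, hn, hxy⟩ := trans x (hA hxA) hx y (hB hyB) hy
  refine ⟨n, hn, ?_⟩
  rw [MonoidHom.map_zpowers]
  rcases hxy with h | h
  · rw [show (MulAut.conj n).toMonoidHom x = y by simpa using h]
  · rw [show (MulAut.conj n).toMonoidHom x = y⁻¹ by simpa using h, Subgroup.zpowers_inv]

end Cfsg.Agent.S0950
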