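import Cfsg.Statements.S0009
import Cfsg.Agent.Lib.Components.Fitting
-- import your own Cfsg.Agent.* helpers here

set_option autoImplicit false
open Cfsg

namespace Cfsg.Agent.S0009

open Cfsg.Agent.Components Subgroup
open scoped commutatorElement

/-- The Fitting subgroup of a finite group is generated by the p-cores, p ranging over the primes. -/
theorem result {G : Type*} [Group G] [Finite G] :
    Cfsg.fittingSubgroup G = ⨆ p : Nat.Primes, Cfsg.pCore (p : ℕ) G := by
  refine le_antisymm (sSup_le fun N hN => ?_) (iSup_le fun p => pCore_le_fittingSubgroup p.2)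
  have := hN.2
  refine (le_iSup_pCore_of_isNilpotent hN.1).trans (iSup_le fun p => ?_)
  exact le_iSup (fun q : Nat.Primes => Cfsg.pCore (q : ℕ) G) ⟨p, Nat.prime_of_mem_primeFactors p.2⟩

end Cfsg.Agent.S0009
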