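import Cfsg.Statements.S0014
import Cfsg.Agent.Lib.PGroup.Frattini

set_option autoImplicit false
open Cfsg

namespace Cfsg.Agent.S0014

/-- Burnside's basis Theorem: in a finite p-group whose Frattini quotient has order p ^ n, every generating set contains n elements that already generate, and no set with fewer than n elements generates. -/
theorem result {G : Type*} [Group G] [Finite G] (p n : ℕ) [Fact p.Prime]
    (hG : IsPGroup p G) (hn : (frattini G).index = p ^ n) :
    (∀ S : Finset G, Subgroup.closure (S : Set G) = ⊤ → ∃ T : Finset G, T ⊆ S ∧ T.card = n ∧ Subgroup.closure (T : Set G) = ⊤) ∧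
    (∀ T : Finset G, Subgroup.closure (T : Set G) = ⊤ → n ≤ T.card) := by
  have hcard : Nat.card ↥(frattini G) * p ^ n = Nat.card G := by
    rw [← hn, Subgroup.card_mul_index]
  have hp1 := (Fact.out (p := p.Prime)).two_le
  refine ⟨fun S hS => ?_, fun T hT => ?_⟩
  · obtain ⟨T, hTS, hTe, hTc⟩ := PGroup.exists_basis hG S
    rw [hS, top_sup_eq] at hTe
    rw [hTe, Subgroup.card_top, ← hcard] at hTc
    exact ⟨T, hTS, Nat.pow_right_injective hp1 (Nat.eq_of_mul_eq_mul_left Nat.card_pos hTc.symm),
      PGroup.closure_eq_top_of_sup_frattini hTe⟩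
  · have h := PGroup.card_closure_sup_frattini_le hG T
    rw [hT, top_sup_eq, Subgroup.card_top, ← hcard] at h
    exact (Nat.pow_le_pow_iff_right hp1).mp (Nat.le_of_mul_le_mul_left h Nat.card_pos)

end Cfsg.Agent.S0014
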