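import Cfsg.Statements.S0015
import Cfsg.Agent.Lib.Solvable.Basic

set_option autoImplicit false
open Cfsg

namespace Cfsg.Agent.S0015

/-- In a finite nilpotent group, an abelian normal subgroup that is maximal among abelian normal subgroups equals its own centralizer. -/
theorem result {G : Type*} [Group G] [Finite G] [Group.IsNilpotent G]
    (N : Subgroup G) [N.Normal] [IsMulCommutative N]
    (hmax : ∀ M : Subgroup G, M.Normal → IsMulCommutative M → N ≤ M → M = N) :
    Subgroup.centralizer (N : Set G) = N := by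
  by_contra hne
  set f := QuotientGroup.mk' N with hf
  have hNC : N ≤ Subgroup.centralizer (N : Set G) := Subgroup.le_centralizer N
  set C := Subgroup.centralizer (N : Set G) with hC
  have hCn : C.Normal := inferInstance
  have : (C.map f).Normal := hCn.map f (QuotientGroup.mk'_surjective N)
  have hCne : C.map f ≠ ⊥ := fun h => by
    rw [Subgroup.map_eq_bot_iff, hf, QuotientGroup.ker_mk'] at h
    exact hne (le_antisymm h hNC)
  obtain ⟨q, hq, hq1⟩ := Subgroup.ne_bot_iff_exists_ne_one.1
    (Cfsg.Agent.Solvable.inf_center_ne_bot hCne) |> fun ⟨a, ha⟩ =>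
      (⟨(a : G ⧸ N), a.2, fun h => ha (Subtype.ext h)⟩ : ∃ q, q ∈ C.map f ⊓ Subgroup.center _ ∧ q ≠ 1)
  obtain ⟨⟨z, hz, rfl⟩, hzc⟩ := hq
  set M := N ⊔ Subgroup.zpowers z with hM
  have hNM : N ≤ M := le_sup_left
  have hzM : z ∈ M := Subgroup.mem_sup_right (Subgroup.mem_zpowers z)
  have hMc : M.map f ≤ Subgroup.center (G ⧸ N) := by
    rw [hM, Subgroup.map_sup, sup_le_iff, MonoidHom.map_zpowers, Subgroup.zpowers_le]
    refine ⟨?_, hzc⟩
    rw [(Subgroup.map_eq_bot_iff _).2 (by rw [hf, QuotientGroup.ker_mk'])]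
    exact bot_le
  have hMn : M.Normal := ⟨fun m hm g => by
    have h1 : f (g * m * g⁻¹) = f m := by
      rw [map_mul, map_mul, map_inv, Subgroup.mem_center_iff.1 (hMc ⟨m, hm, rfl⟩), mul_inv_cancel_right]
    have h2 : (g * m * g⁻¹) * m⁻¹ ∈ N := by
      rw [← QuotientGroup.ker_mk' N, MonoidHom.mem_ker, map_mul, map_inv, ← hf, h1, mul_inv_cancel]
    simpa using mul_mem (hNM h2) hm⟩
  have hMcomm : IsMulCommutative M := by
    rw [← Subgroup.le_centralizer_iff_isMulCommutative, hM, sup_le_iff]
    refine ⟨?_, ?_⟩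
    · rw [Subgroup.le_centralizer_iff, sup_le_iff, Subgroup.zpowers_le]
      exact ⟨hNC, hz⟩
    · rw [Subgroup.le_centralizer_iff, sup_le_iff, Subgroup.zpowers_le]
      refine ⟨fun n hn => ?_, ?_⟩
      · rw [Subgroup.mem_centralizer_iff]
        intro y hy
        obtain ⟨k, rfl⟩ := Subgroup.mem_zpowers_iff.1 hy
        exact ((show Commute n z from Subgroup.mem_centralizer_iff.1 hz n hn).zpow_right k).eq.symm
      · rw [Subgroup.mem_centralizer_iff]
        intro y hy
        obtain ⟨k, rfl⟩ := Subgroup.mem_zpowers_iff.1 hy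
        exact ((Commute.refl z).zpow_left k).eq
  have := hmax M hMn hMcomm hNM
  apply hq1
  rw [hf, QuotientGroup.mk'_apply, QuotientGroup.eq_one_iff]
  exact this ▸ hzM

end Cfsg.Agent.S0015
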