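import Cfsg.Statements.S0018
import Cfsg.Agent.Lib.PCore.HallHigman

set_option autoImplicit false
open Cfsg

namespace Cfsg.Agent.S0018

/-- A finite solvable group whose Sylow p-subgroups are abelian has p-length one: a Sylow p-subgroup together with the largest normal subgroup of order prime to p generates a normal subgroup. -/
theorem result {G : Type*} [Group G] [Finite G] [Group.IsSolvable G]
    (p : ℕ) [Fact p.Prime] (P : Sylow p G) (hP : IsMulCommutative P) :
    ((P : Subgroup G) ⊔ Cfsg.pPrimeCore p G).Normal := by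
  set N := pPrimeCore p G
  set π := QuotientGroup.mk' N
  set O := pCore p (G ⧸ N)
  haveI := PCore.pCore_normal (G := G ⧸ N) (p := p)
  have hO : O ≤ (P : Subgroup G).map π :=
    PCore.pCore_le_sylow (P.mapSurjective (QuotientGroup.mk'_surjective N))
  have hPO : (P : Subgroup G).map π ≤ O := by
    refine le_trans ?_ (PCore.centralizer_pCore_le_of_isSolvable PCore.pPrimeCore_quotient_self_eq_bot)
    rintro _ ⟨x, hx, rfl⟩
    refine Subgroup.mem_centralizer_iff.mpr fun y hy => ?_
    obtain ⟨z, hz, rfl⟩ := hO hy
    rw [← map_mul, ← map_mul]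
    exact congrArg π (congrArg Subtype.val (hP.is_comm.comm ⟨z, hz⟩ ⟨x, hx⟩))
  have h : (P : Subgroup G) ⊔ N = O.comap π := by
    rw [← le_antisymm hPO hO, Subgroup.comap_map_eq, QuotientGroup.ker_mk']
  rw [h]
  infer_instance

end Cfsg.Agent.S0018
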