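import Cfsg.Statements.S0031
import Mathlib.GroupTheory.FixedPointFree
import Cfsg.Agent.Lib.Coprime.Basic

set_option autoImplicit false
open Cfsg

namespace Cfsg.Agent.S0031

open scoped Pointwise

/-- A fixed-point-free automorphism of a finite group maps some Sylow p-subgroup to itself. -/
theorem result {G : Type*} [Group G] [Finite G] (φ : G ≃* G)
    (hφ : MonoidHom.FixedPointFree (φ : G →* G)) (p : ℕ) [Fact p.Prime] :
    ∃ P : Sylow p G, (P : Subgroup G).map (φ : G →* G) = P := by
  let P : Sylow p G := default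
  obtain ⟨a, ha⟩ := MulAction.exists_smul_eq G P
    ((P.mapSurjective (f := (φ : G →* G)) φ.surjective))
  obtain ⟨c, hc⟩ := hφ.commutatorMap_surjective a⁻¹
  refine ⟨c⁻¹ • P, ?_⟩
  have hce : φ c = a * c := by
    rw [MonoidHom.commutatorMap_apply] at hc
    have : c * (φ c)⁻¹ = a⁻¹ := by rwa [div_eq_mul_inv] at hc
    rw [← eq_inv_mul_iff_mul_eq] at this
    rw [← inv_inv (φ c), this, mul_inv_rev, inv_inv, inv_inv]
  show ((MulAut.conj c⁻¹ • (P : Subgroup G))).map (φ : G →* G) = MulAut.conj c⁻¹ • (P : Subgroup G)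
  rw [Cfsg.Agent.Coprime.map_conj_smul]
  have h2 : (P : Subgroup G).map (φ : G →* G) = MulAut.conj a • (P : Subgroup G) := by
    show ((P.mapSurjective (f := (φ : G →* G)) φ.surjective : Sylow p G) : Subgroup G) = _
    rw [← ha]; rfl
  rw [h2, Cfsg.Agent.Coprime.conj_smul_smul]
  congr 2
  show φ c⁻¹ * a = c⁻¹
  rw [map_inv, hce]
  group

end Cfsg.Agent.S0031
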