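import Cfsg.Statements.S0032
import Mathlib.GroupTheory.FixedPointFree

set_option autoImplicit false
open Cfsg

namespace Cfsg.Agent.S0032

/-- If an automorphism of a finite group fixes only the identity and maps a normal subgroup N into itself, then the only cosets of N it fixes are those in N: a fixed coset xN forces x ∈ N. -/
theorem result {G : Type*} [Group G] [Finite G] (φ : G ≃* G)
    (hφ : MonoidHom.FixedPointFree (φ : G →* G)) (N : Subgroup G) [N.Normal] (hN : ∀ n ∈ N, φ n ∈ N)
    (x : G) (hx : (φ x)⁻¹ * x ∈ N) : x ∈ N := by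
  let ψ : N →* N := ((φ : G →* G).comp N.subtype).codRestrict N fun n => hN n n.2
  have hψ : MonoidHom.FixedPointFree ψ := fun n h => Subtype.ext (hφ _ (congrArg Subtype.val h))
  obtain ⟨n, hn⟩ := hψ.commutatorMap_surjective ⟨_, hx⟩⁻¹
  have h : (n : G) / φ n = ((φ x)⁻¹ * x)⁻¹ := congrArg Subtype.val hn
  rw [div_eq_mul_inv, ← inv_inj, inv_inv, mul_inv_rev, inv_inv] at h
  have h2 : φ (x * n) = x * n := by
    rw [map_mul]
    calc φ x * φ n = φ x * (φ n * (n : G)⁻¹) * n := by group
      _ = _ := by rw [h, mul_inv_cancel_left]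
  have h3 := hφ _ h2
  rw [mul_eq_one_iff_eq_inv] at h3
  rw [h3]
  exact inv_mem n.2

end Cfsg.Agent.S0032
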