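import Cfsg.Statements.S0036
import Cfsg.Agent.Lib.Frobenius.Basic

set_option autoImplicit false
open Cfsg

namespace Cfsg.Agent.S0036

open scoped Pointwise

/-- When a Frobenius complement contains an involution, an elementary argument shows the Frobenius kernel is closed under multiplication (hence a subgroup). -/
theorem result {G : Type*} [Group G] [Finite G] (H : Subgroup G) (hH : Cfsg.IsFrobeniusComplement H)
    (t : G) (ht : t ∈ H) (ht1 : t ≠ 1) (ht2 : t * t = 1) :
    ∀ x ∈ Cfsg.frobeniusKernel H, ∀ y ∈ Cfsg.frobeniusKernel H, x * y ∈ Cfsg.frobeniusKernel H := by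
  obtain ⟨hinv, hcomm⟩ := Cfsg.Agent.Frobenius.even_complement_kernel hH ht ht1 ht2
  intro x hx y hy
  by_cases hxy : x * y = 1
  · exact Or.inl hxy
  by_cases hx1 : x = 1
  · simpa [hx1] using hy
  rw [Cfsg.Agent.Frobenius.mem_kernel_iff hxy]
  intro a ha
  have hmem : x * y ∈ MulAut.conj a • H := Cfsg.Agent.Coprime.mem_conj_smul_iff.2 ha
  have hH' := Cfsg.Agent.Frobenius.isFrobeniusComplement_conj hH a
  have hxm : x ∈ MulAut.conj a • H :=
    Cfsg.Agent.Frobenius.mem_of_commute hH' hmem hxy
      ((Commute.refl x).mul_right (hcomm x hx y hy))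
  rw [Cfsg.Agent.Coprime.mem_conj_smul_iff] at hxm
  exact (Cfsg.Agent.Frobenius.mem_kernel_iff hx1).1 hx a hxm

end Cfsg.Agent.S0036
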