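import Cfsg.Statements.S0038
import Cfsg.Agent.Lib.Frobenius.Module
import Cfsg.Agent.Lib.Frobenius.Comparable
import Cfsg.Agent.Lib.CharInt.FrobeniusKernel

set_option autoImplicit false
open Pointwise
open Cfsg

namespace Cfsg.Agent.S0038

open scoped Pointwise

theorem eq_of_le {G : Type*} [Group G] [Finite G] {H H₀ : Subgroup G}
    (hH : IsFrobeniusComplement H) (hH₀ : IsFrobeniusComplement H₀) (hle : H₀ ≤ H) : H₀ = H := by
  by_contra hne
  obtain ⟨N, -, hNn, hNc⟩ := CharInt.exists_frobeniusKernel hH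
  have hN : N ≠ ⊥ := fun h => hH.2.1 (by
    have := hNc.sup_eq_top
    rwa [h, bot_sup_eq] at this)
  have hfN := (Frobenius.isFrobeniusComplement_iff hNc hN hH.1).1 hH
  have hD : IsFrobeniusComplement (H₀.subgroupOf H) :=
    Frobenius.isFrobeniusComplement_inf hH₀ (by rw [inf_of_le_left hle]; exact hH₀.1)
      fun h => hne (le_antisymm hle h)
  obtain ⟨M, -, hMn, hMc⟩ := CharInt.exists_frobeniusKernel hD
  set M' := M.map H.subtype with hM'
  have hM'H : M' ≤ H := Subgroup.map_subtype_le _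
  have hM'0 : M' ≠ ⊥ := fun h => hD.2.1 (by
    have := hMc.sup_eq_top
    rwa [(Subgroup.map_eq_bot_iff_of_injective _ H.subtype_injective).1 h, bot_sup_eq] at this)
  have hM'd : ∀ x ∈ M', x ∈ H₀ → x = 1 := by
    rintro _ ⟨y, hy, rfl⟩ hx
    have := Subgroup.disjoint_def.1 hMc.disjoint hy (Subgroup.mem_subgroupOf.2 hx)
    rw [this, map_one]
  -- an element of prime order in the smaller complement
  obtain ⟨r, hr, hrd⟩ := Nat.exists_prime_and_dvd
    (fun h => hH₀.1 (Subgroup.card_eq_one.1 h) : Nat.card H₀ ≠ 1)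
  have := Fact.mk hr
  obtain ⟨⟨d, hd⟩, hdr⟩ := exists_prime_orderOf_dvd_card' r hrd
  rw [Subgroup.orderOf_mk] at hdr
  have hd1 : d ≠ 1 := fun h => hr.ne_one (by rw [← hdr, h, orderOf_one])
  have hdle : Subgroup.zpowers d ≤ H₀ := Subgroup.zpowers_le.2 hd
  have hdM : Subgroup.zpowers d ≤ Subgroup.normalizer (M' : Set G) := by
    refine (hdle.trans hle).trans fun x hx => Subgroup.mem_normalizer_iff.2 fun y => ?_
    constructor
    · rintro ⟨z, hz, rfl⟩
      exact ⟨⟨x, hx⟩ * z * ⟨x, hx⟩⁻¹, hMn.conj_mem z hz _, rfl⟩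
    · rintro ⟨z, hz, hz'⟩
      refine ⟨⟨x, hx⟩⁻¹ * z * ⟨x, hx⟩, by simpa using hMn.conj_mem z hz (⟨x, hx⟩⁻¹), ?_⟩
      have hz'' : (z : G) = x * y * x⁻¹ := hz'
      show x⁻¹ * (z : G) * x = y
      rw [hz'']
      group
  have hfd : ∀ a ∈ Subgroup.zpowers d, a ≠ 1 → M' ⊓ Subgroup.centralizer {a} = ⊥ :=
    fun a ha ha1 => (Subgroup.eq_bot_iff_forall _).2 fun x hx => hM'd x hx.1
      (Frobenius.mem_of_commute hH₀ (hdle ha) ha1 (Subgroup.mem_centralizer_singleton_iff.1 hx.2))
  have hdc : Group.IsSolvable (Subgroup.zpowers d) :=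
    Group.isSolvable_of_comm fun x y => mul_comm' x y
  obtain ⟨U, hUM, hUc, hU, hdU, -⟩ :=
    Frobenius.exists_abelian_invariant_le hdM hM'0 hdc hfd
  -- `A = U⟨d⟩` is solvable and fixed-point-free on `N`
  set A := Subgroup.zpowers d ⊔ U with hA
  have hAH : A ≤ H := sup_le (hdle.trans hle) (hUM.trans hM'H)
  have hAn : A ≤ Subgroup.normalizer (U : Set G) := sup_le hdU Subgroup.le_normalizer
  have := Coprime.normal_subgroupOf_of_le_normalizer hAn
  have hAs : Group.IsSolvable A := by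
    have h1 : Group.IsSolvable (U.subgroupOf A) :=
      Coprime.isSolvable_subgroupOf le_sup_right (Group.isSolvable_of_comm fun x y => mul_comm' x y)
    have h2 : ((Subgroup.zpowers d).subgroupOf A).map (QuotientGroup.mk' (U.subgroupOf A)) = ⊤ := by
      rw [← Subgroup.map_top_of_surjective _ (QuotientGroup.mk'_surjective (U.subgroupOf A)),
        Subgroup.map_eq_map_iff, QuotientGroup.ker_mk', top_sup_eq,
        ← Subgroup.subgroupOf_sup le_sup_left le_sup_right, Subgroup.subgroupOf_self]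
    have h3 := Coprime.isSolvable_map (QuotientGroup.mk' (U.subgroupOf A)) _
      (Coprime.isSolvable_subgroupOf le_sup_left hdc : Group.IsSolvable ((Subgroup.zpowers d).subgroupOf A))
    rw [h2] at h3
    have h4 : Group.IsSolvable (↥A ⧸ U.subgroupOf A) :=
      Group.isSolvable_of_surjective (f := (Subgroup.topEquiv).toMonoidHom) (MulEquiv.surjective _)
    exact Group.isSolvable_of_ker_le_range (U.subgroupOf A).subtype
      (QuotientGroup.mk' (U.subgroupOf A)) (by rw [QuotientGroup.ker_mk', Subgroup.range_subtype])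
  obtain ⟨W, hWc, hW, hAW, hfW⟩ := Frobenius.exists_abelian_invariant
    (A := A) (K := N) (by rw [Subgroup.normalizer_eq_top]; exact le_top) hN hAs
    fun a ha => hfN a (hAH ha)
  have : Nontrivial W := (Subgroup.nontrivial_iff_ne_bot W).2 hW
  open scoped IsMulCommutative in
  have hφ := Frobenius.Fpf.isFpf_conjHom A W hAW hfW
  obtain ⟨q, hq, hqd⟩ := Nat.exists_prime_and_dvd
    (fun h => hU (Subgroup.card_eq_one.1 h) : Nat.card U ≠ 1)
  have := Fact.mk hq
  obtain ⟨⟨m, hm⟩, hmq⟩ := exists_prime_orderOf_dvd_card' q hqd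
  rw [Subgroup.orderOf_mk] at hmq
  have hm1 : m ≠ 1 := fun h => hq.ne_one (by rw [← hmq, h, orderOf_one])
  let mA : A := ⟨m, Subgroup.mem_sup_right hm⟩
  let dA : A := ⟨d, Subgroup.mem_sup_left (Subgroup.mem_zpowers d)⟩
  have hdm : d * m * d⁻¹ ∈ U := (Subgroup.mem_normalizer_iff.1 (hdU (Subgroup.mem_zpowers d)) m).1 hm
  have hconj : dA * mA * dA⁻¹ ∈ Subgroup.zpowers mA := by
    refine Frobenius.Fpf.mem_zpowers_of_commute hφ (p := q) (Subtype.ext ?_)
      (fun h => hm1 (congrArg Subtype.val h)) ?_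
      (show mA * (dA * mA * dA⁻¹) = (dA * mA * dA⁻¹) * mA from Subtype.ext ?_)
    · show m ^ q = 1
      rw [← hmq, pow_orderOf_eq_one]
    · rw [conj_pow]
      have : mA ^ q = 1 := Subtype.ext (by show m ^ q = 1; rw [← hmq, pow_orderOf_eq_one])
      rw [this, mul_one, mul_inv_cancel]
    · show m * (d * m * d⁻¹) = d * m * d⁻¹ * m
      exact congrArg Subtype.val (mul_comm' (⟨m, hm⟩ : U) ⟨_, hdm⟩)
  have hcomm := Frobenius.Fpf.commute_of_conj_mem_zpowers hφ (p := r) (q := q)
    (Subtype.ext (by show m ^ q = 1; rw [← hmq, pow_orderOf_eq_one]) : mA ^ q = 1)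
    (Subtype.ext (by show d ^ r = 1; rw [← hdr, pow_orderOf_eq_one]) : dA ^ r = 1) hconj
  exact hm1 (hM'd m (hUM hm)
    (Frobenius.mem_of_commute hH₀ hd hd1 (congrArg Subtype.val hcomm.eq)))

/-- All Frobenius complements of a finite group are conjugate to one another. -/
theorem result {G : Type*} [Group G] [Finite G] (H H₀ : Subgroup G)
    (hH : Cfsg.IsFrobeniusComplement H) (hH₀ : Cfsg.IsFrobeniusComplement H₀) :
    ∃ g : G, MulAut.conj g • H₀ = H := by
  obtain ⟨g, hg | hg⟩ := Frobenius.exists_conj_le_or_le hH hH₀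
  · exact ⟨g, eq_of_le hH (Frobenius.isFrobeniusComplement_conj hH₀ g) hg⟩
  · exact ⟨g, (eq_of_le (Frobenius.isFrobeniusComplement_conj hH₀ g) hH hg).symm⟩

end Cfsg.Agent.S0038
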