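import Cfsg.Statements.S0047
import Mathlib.GroupTheory.Solvable
import Mathlib.Tactic.Group

set_option autoImplicit false
open Cfsg

namespace Cfsg.Agent.S0047

theorem commute_comm {G : Type*} [Group G] {A B : Subgroup G} [IsMulCommutative A] [IsMulCommutative B]
    (hAB : ∀ g : G, ∃ a ∈ A, ∃ b ∈ B, g = a * b)
    {a a₁ b b₁ : G} (ha : a ∈ A) (ha₁ : a₁ ∈ A) (hb : b ∈ B) (hb₁ : b₁ ∈ B) :
    Commute (a⁻¹ * b⁻¹ * a * b) (a₁ * b₁ * a₁⁻¹ * b₁⁻¹) := by
  have hA : ∀ {x y : G}, x ∈ A → y ∈ A → x * y = y * x := fun {x y} hx hy =>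
    congrArg Subtype.val (mul_comm' (⟨x, hx⟩ : A) ⟨y, hy⟩)
  have hB : ∀ {x y : G}, x ∈ B → y ∈ B → x * y = y * x := fun {x y} hx hy =>
    congrArg Subtype.val (mul_comm' (⟨x, hx⟩ : B) ⟨y, hy⟩)
  obtain ⟨a₃, ha₃, b₃, hb₃, h3⟩ := hAB (a₁⁻¹ * b * a₁)
  obtain ⟨a₂, ha₂, b₂, hb₂, h2⟩ := hAB (b₁⁻¹ * a * b₁)⁻¹
  -- `a^b₁ = b₂⁻¹ a₂⁻¹`
  have h2' : b₁⁻¹ * a * b₁ = b₂⁻¹ * a₂⁻¹ := by rw [← inv_inv (b₁⁻¹ * a * b₁), h2, mul_inv_rev]
  let c : G → G → G := fun x y => x⁻¹ * y⁻¹ * x * y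
  have cA : ∀ {x u v : G}, x ∈ A → u ∈ A → c x (u * v) = c x v := fun {x u v} hx hu => by
    calc c x (u * v) = x⁻¹ * v⁻¹ * u⁻¹ * (x * u) * v := by simp only [c]; group
      _ = _ := by rw [hA hx hu]; simp only [c]; group
  have cB : ∀ {u v y : G}, u ∈ B → y ∈ B → c (u * v) y = c v y := fun {u v y} hu hy => by
    calc c (u * v) y = v⁻¹ * u⁻¹ * (y⁻¹ * u) * v * y := by simp only [c]; group
      _ = _ := by rw [hB (inv_mem hy) hu]; simp only [c]; group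
  have conjc : ∀ x y g : G, g⁻¹ * c x y * g = c (g⁻¹ * x * g) (g⁻¹ * y * g) := fun x y g => by
    simp only [c]; group
  have fa : ∀ {x : G}, x ∈ A → a₁⁻¹ * x * a₁ = x := fun {x} hx => by
    rw [mul_assoc, hA hx ha₁, inv_mul_cancel_left]
  have fb : ∀ {x : G}, x ∈ B → b₁⁻¹ * x * b₁ = x := fun {x} hx => by
    rw [mul_assoc, hB hx hb₁, inv_mul_cancel_left]
  have e1 : (a₁ * b₁)⁻¹ * c a b * (a₁ * b₁) = c a₂⁻¹ b₃ := by
    calc (a₁ * b₁)⁻¹ * c a b * (a₁ * b₁) = b₁⁻¹ * (a₁⁻¹ * c a b * a₁) * b₁ := by group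
      _ = b₁⁻¹ * c a b₃ * b₁ := by rw [conjc, fa ha, h3, cA ha ha₃]
      _ = c a₂⁻¹ b₃ := by rw [conjc, fb hb₃, h2', cB (inv_mem hb₂) hb₃]
  have e2 : (b₁ * a₁)⁻¹ * c a b * (b₁ * a₁) = c a₂⁻¹ b₃ := by
    calc (b₁ * a₁)⁻¹ * c a b * (b₁ * a₁) = a₁⁻¹ * (b₁⁻¹ * c a b * b₁) * a₁ := by group
      _ = a₁⁻¹ * c a₂⁻¹ b * a₁ := by rw [conjc a b b₁, fb hb, h2', cB (inv_mem hb₂) hb]
      _ = c a₂⁻¹ b₃ := by rw [conjc, fa (inv_mem ha₂), h3, cA (inv_mem ha₂) ha₃]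
  have e := e1.trans e2.symm
  show c a b * (a₁ * b₁ * a₁⁻¹ * b₁⁻¹) = a₁ * b₁ * a₁⁻¹ * b₁⁻¹ * c a b
  calc c a b * (a₁ * b₁ * a₁⁻¹ * b₁⁻¹)
      = (a₁ * b₁) * ((a₁ * b₁)⁻¹ * c a b * (a₁ * b₁)) * (b₁ * a₁)⁻¹ := by group
    _ = (a₁ * b₁) * ((b₁ * a₁)⁻¹ * c a b * (b₁ * a₁)) * (b₁ * a₁)⁻¹ := by rw [e]
    _ = _ := by group

theorem isSolvable_aux {G : Type*} [Group G] (A B : Subgroup G) [IsMulCommutative A]
    [IsMulCommutative B] (hAB : ∀ g : G, ∃ a ∈ A, ∃ b ∈ B, g = a * b) : Group.IsSolvable G := by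
  set S : Set G := {g | ∃ a ∈ A, ∃ b ∈ B, a * b * a⁻¹ * b⁻¹ = g}
  set K := Subgroup.closure S
  have hmem : ∀ {a b : G}, a ∈ A → b ∈ B → a * b * a⁻¹ * b⁻¹ ∈ K := fun ha hb =>
    Subgroup.subset_closure ⟨_, ha, _, hb, rfl⟩
  have hKc : IsMulCommutative K := Subgroup.isMulCommutative_closure (by
    rintro _ ⟨a, ha, b, hb, rfl⟩ _ ⟨a', ha', b', hb', rfl⟩
    have := commute_comm hAB (inv_mem ha) ha' (inv_mem hb) hb'
    simpa using this.eq)
  have hnA : ∀ x ∈ A, ∀ g ∈ K, x * g * x⁻¹ ∈ K := fun x hx g hg => by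
    induction hg using Subgroup.closure_induction with
    | mem g hg =>
      obtain ⟨a, ha, b, hb, rfl⟩ := hg
      have := mul_mem (hmem (mul_mem hx ha) hb) (inv_mem (hmem hx hb))
      convert this using 1
      group
    | one => simp
    | mul g h _ _ ih ih' => convert mul_mem ih ih' using 1; group
    | inv g _ ih => convert inv_mem ih using 1; group
  have hnB : ∀ x ∈ B, ∀ g ∈ K, x * g * x⁻¹ ∈ K := fun x hx g hg => by
    induction hg using Subgroup.closure_induction with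
    | mem g hg =>
      obtain ⟨a, ha, b, hb, rfl⟩ := hg
      have := mul_mem (inv_mem (hmem ha hx)) (hmem ha (mul_mem hx hb))
      convert this using 1
      group
    | one => simp
    | mul g h _ _ ih ih' => convert mul_mem ih ih' using 1; group
    | inv g _ ih => convert inv_mem ih using 1; group
  have hKn : K.Normal := ⟨fun g hg x => by
    obtain ⟨a, ha, b, hb, rfl⟩ := hAB x
    have := hnA a ha _ (hnB b hb g hg)
    convert this using 1
    group⟩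
  have hA : ∀ {x y : G}, x ∈ A → y ∈ A → x * y = y * x := fun {x y} hx hy =>
    congrArg Subtype.val (mul_comm' (⟨x, hx⟩ : A) ⟨y, hy⟩)
  have hB : ∀ {x y : G}, x ∈ B → y ∈ B → x * y = y * x := fun {x y} hx hy =>
    congrArg Subtype.val (mul_comm' (⟨x, hx⟩ : B) ⟨y, hy⟩)
  have hq : Group.IsSolvable (G ⧸ K) := Group.isSolvable_of_comm fun x y => by
    induction x using QuotientGroup.induction_on with | _ x => ?_
    induction y using QuotientGroup.induction_on with | _ y => ?_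
    obtain ⟨a, ha, b, hb, rfl⟩ := hAB x
    obtain ⟨a', ha', b', hb', rfl⟩ := hAB y
    have key : ∀ {u v : G}, u ∈ A → v ∈ B → (v : G ⧸ K) * u = u * v := fun {u v} hu hv => by
      rw [← QuotientGroup.mk_mul, ← QuotientGroup.mk_mul, QuotientGroup.eq]
      have := hmem (inv_mem hu) (inv_mem hv)
      simpa [mul_assoc] using this
    simp only [QuotientGroup.mk_mul]
    calc (a : G ⧸ K) * b * (a' * b') = a * (b * a') * b' := by group
      _ = (a * a' : G ⧸ K) * (b * b') := by rw [key ha' hb]; group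
      _ = (a' * a : G ⧸ K) * (b' * b) := by
        rw [← QuotientGroup.mk_mul, ← QuotientGroup.mk_mul, hA ha ha', hB hb hb',
          QuotientGroup.mk_mul, QuotientGroup.mk_mul]
      _ = a' * (a * b') * b := by group
      _ = _ := by rw [← key ha hb']; group
  have : Group.IsSolvable K := Group.isSolvable_of_comm fun x y => mul_comm' x y
  exact Group.isSolvable_of_ker_le_range K.subtype (QuotientGroup.mk' K)
    (by rw [QuotientGroup.ker_mk', Subgroup.range_subtype])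

/-- A finite group which is the product AB of two abelian subgroups A and B is solvable. -/
theorem result {G : Type*} [Group G] [Finite G] (A B : Subgroup G)
    [IsMulCommutative A] [IsMulCommutative B] (hAB : ∀ g : G, ∃ a ∈ A, ∃ b ∈ B, g = a * b) :
    Group.IsSolvable G := by
  exact isSolvable_aux A B hAB

end Cfsg.Agent.S0047
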