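import Cfsg.Statements.S0048
import Cfsg.Agent.Lib.Solvable.Basic
import Cfsg.Agent.Lib.Solvable.Hall

set_option autoImplicit false
open Cfsg

namespace Cfsg.Agent.S0048

theorem aux.{u} : ∀ (k : ℕ) (G : Type u) [Group G] [Finite G] [Group.IsSolvable G],
    Nat.card G = k → ∀ M : Subgroup G, IsCoatom M → IsPrimePow M.index := by
  intro k
  induction k using Nat.strong_induction_on with
  | _ k ih =>
    intro G _ _ _ hk M hM
    have : Nontrivial G := by
      by_contra h
      rw [not_nontrivial_iff_subsingleton] at h
      exact hM.1 (Subsingleton.elim _ _)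
    obtain ⟨N, p, hNn, -, hN, -, -, hp, hpN⟩ :=
      Solvable.exists_abelian_minimal_normal (G := G) (K := ⊤) inferInstance
        (fun h => by
          have h1 : Subsingleton (Subgroup G) := subsingleton_of_bot_eq_top h.symm
          exact hM.1 (Subsingleton.elim _ _))
    have := Fact.mk hp
    set f := QuotientGroup.mk' N with hf
    have hfs : Function.Surjective f := QuotientGroup.mk'_surjective N
    by_cases hNM : N ≤ M
    · have hker : f.ker ≤ M := by rwa [hf, QuotientGroup.ker_mk']
      have hlt : Nat.card (G ⧸ N) < k := by
        rw [← hk, ← Solvable.card_quotient_mul_card N]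
        exact lt_mul_of_one_lt_right Nat.card_pos ((Subgroup.one_lt_card_iff_ne_bot N).2 hN)
      have hco : IsCoatom (M.map f) := by
        refine ⟨fun h => hM.1 ?_, fun L hL => ?_⟩
        · rw [← Subgroup.comap_map_eq_self hker, h, Subgroup.comap_top]
        · have h1 : M < L.comap f := by
            rw [← Subgroup.comap_map_eq_self hker]
            exact (Subgroup.comap_lt_comap_of_surjective hfs).2 hL
          rw [← Subgroup.map_comap_eq_self_of_surjective hfs L, hM.2 _ h1,
            Subgroup.map_top_of_surjective _ hfs]
      have := ih _ hlt (G ⧸ N) rfl _ hco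
      rwa [Subgroup.index_map_eq M hfs hker] at this
    · have htop : M ⊔ N = ⊤ :=
        hM.2 _ (lt_of_le_of_ne le_sup_left fun h => hNM (h ▸ le_sup_right))
      obtain ⟨e, he⟩ := hpN.exists_card_eq
      have h1 : N.index = N.relIndex M := by
        rw [← Subgroup.relIndex_top_right, ← htop, Subgroup.relIndex_sup_right]
      have h2 : Nat.card G = Nat.card N * N.index := (Subgroup.card_mul_index N).symm
      have h3 : Nat.card M = Nat.card (N.subgroupOf M) * N.relIndex M :=
        (Subgroup.card_mul_index _).symm
      have h4 : M.index * Nat.card (N.subgroupOf M) = p ^ e := by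
        refine Nat.eq_of_mul_eq_mul_right (Nat.pos_of_ne_zero
          (Subgroup.FiniteIndex.index_ne_zero : N.index ≠ 0)) ?_
        rw [← he, ← h2, ← Subgroup.card_mul_index M, h3, h1]
        ring
      obtain ⟨i, -, hi⟩ := (Nat.dvd_prime_pow hp).1 (Dvd.intro _ h4)
      rw [isPrimePow_nat_iff]
      refine ⟨p, i, hp, Nat.pos_of_ne_zero fun h0 => hM.1 ?_, hi.symm⟩
      rw [← Subgroup.index_eq_one, hi, h0, pow_zero]

/-- In a finite solvable group every maximal subgroup has index a prime power. -/
theorem result {G : Type*} [Group G] [Finite G] [Group.IsSolvable G]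
    (M : Subgroup G) (hM : IsCoatom M) : IsPrimePow M.index := by
  exact aux _ G rfl M hM

end Cfsg.Agent.S0048
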