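import Cfsg.Statements.S0049
import Mathlib.GroupTheory.Frattini
import Mathlib.GroupTheory.SchurZassenhaus
import Mathlib.GroupTheory.Sylow

set_option autoImplicit false
open Cfsg

namespace Cfsg.Agent.S0049

/-- A prime divisor of the order of a finite group also divides the index of the Frattini subgroup. -/
theorem result {G : Type*} [Group G] [Finite G] (p : ℕ) (hp : p.Prime) (hdvd : p ∣ Nat.card G) :
    p ∣ (frattini G).index := by
  have : Fact p.Prime := ⟨hp⟩
  by_contra hnd
  let Q : Sylow p ↥(frattini G) := default
  have := frattini_nilpotent (G := G)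
  have hQn : (Q : Subgroup ↥(frattini G)).Normal := inferInstance
  have hQc : (Q : Subgroup ↥(frattini G)).Characteristic := Sylow.characteristic_of_normal Q hQn
  set P : Subgroup G := (Q : Subgroup ↥(frattini G)).map (frattini G).subtype with hP
  have hPn : P.Normal := inferInstance
  have hidx : ¬ p ∣ P.index := by
    intro h
    rw [hP, Subgroup.index_map_subtype] at h
    rcases (Nat.Prime.dvd_mul hp).mp h with h | h
    · exact Q.not_dvd_index h
    · exact hnd h
  have hPp : IsPGroup p P := Q.2.map _
  obtain ⟨k, hk⟩ := IsPGroup.iff_card.mp hPp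
  have hcop : Nat.Coprime (Nat.card P) P.index := by
    rw [hk]
    exact ((Nat.Prime.coprime_iff_not_dvd hp).mpr hidx).pow_left k
  obtain ⟨K, hK⟩ := Subgroup.exists_right_complement'_of_coprime hcop
  have hPle : P ≤ frattini G := Subgroup.map_subtype_le _
  have htop : K ⊔ frattini G = ⊤ := top_le_iff.mp
    (hK.sup_eq_top ▸ sup_le (hPle.trans le_sup_right) le_sup_left)
  rw [frattini_nongenerating htop] at hK
  have hPbot : P = ⊥ := Subgroup.isComplement'_top_right.mp hK
  rw [hPbot, Subgroup.index_bot] at hidx
  exact hidx hdvd

end Cfsg.Agent.S0049
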