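import Cfsg.Statements.S0050
import Cfsg.Agent.Lib.Solvable.Hall

set_option autoImplicit false
open Cfsg

namespace Cfsg.Agent.S0050

/-- Frattini argument for Hall subgroups: if L is a solvable normal subgroup and H a subgroup of L of order coprime to its index in L, then L together with the normaliser of H generates the whole group. -/
theorem result {G : Type*} [Group G] [Finite G] (L : Subgroup G) [L.Normal] (hL : Group.IsSolvable L)
    (H : Subgroup G) (hHL : H ≤ L) (hHall : (Nat.card H).Coprime (H.relIndex L)) :
    L ⊔ Subgroup.normalizer (H : Set G) = ⊤ := by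
  open scoped Pointwise in
  refine top_le_iff.1 fun g _ => ?_
  have hcard : Nat.card L = Nat.card H * H.relIndex L := by
    show _ = _ * (H.subgroupOf L).index
    rw [← Cfsg.Agent.Coprime.card_subgroupOf hHL, Subgroup.card_mul_index]
  have hgL : MulAut.conj g • H ≤ L := fun x hx => by
    rw [Cfsg.Agent.Coprime.mem_conj_smul_iff] at hx
    have := Subgroup.Normal.conj_mem inferInstance _ (hHL hx) g
    simpa [mul_assoc] using this
  obtain ⟨l, hl⟩ := Cfsg.Agent.Solvable.exists_conj_eq_hall hcard hHall
    (H := (MulAut.conj g • H).subgroupOf L) (K := H.subgroupOf L)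
    (by rw [Cfsg.Agent.Coprime.card_subgroupOf hgL, Cfsg.Agent.Coprime.card_conj_smul])
    (Cfsg.Agent.Coprime.card_subgroupOf hHL)
  have h1 := Cfsg.Agent.Coprime.conj_smul_of_subgroupOf hgL hHL l hl
  rw [Cfsg.Agent.Coprime.conj_smul_smul] at h1
  have h2 : (l : G) * g ∈ Subgroup.normalizer (H : Set G) := by
    rw [Subgroup.mem_normalizer_iff]
    intro x
    conv_rhs => rw [← h1, Cfsg.Agent.Coprime.mem_conj_smul_iff]
    exact iff_of_eq (congrArg (· ∈ H) (by group))
  simpa using mul_mem (Subgroup.mem_sup_left (inv_mem l.2) : _ ∈ L ⊔ _) (Subgroup.mem_sup_right h2)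

end Cfsg.Agent.S0050
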