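import Cfsg.Statements.S0053
import Cfsg.Agent.Lib.Solvable.Basic

set_option autoImplicit false
open Cfsg

namespace Cfsg.Agent.S0053

/-- An abelian minimal normal subgroup N of a finite group is complemented exactly when N is not inside the Frattini subgroup. -/
theorem result {G : Type*} [Group G] [Finite G]
    (N : Subgroup G) [N.Normal] [IsMulCommutative N] (hN : N ≠ ⊥)
    (hmin : ∀ M : Subgroup G, M.Normal → M ≤ N → M = ⊥ ∨ M = N) :
    (∃ H : Subgroup G, Subgroup.IsComplement' N H) ↔ ¬ N ≤ frattini G := by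
  constructor
  · rintro ⟨H, hH⟩ hle
    have h1 : H = ⊤ := frattini_nongenerating
      (top_le_iff.1 (hH.sup_eq_top.ge.trans (sup_le (hle.trans le_sup_right) le_sup_left)))
    have h2 := hH.disjoint
    rw [h1, disjoint_top] at h2
    exact hN h2
  · intro h
    obtain ⟨M, hM, hNM⟩ : ∃ M : Subgroup G, IsCoatom M ∧ ¬ N ≤ M := by
      by_contra hh
      push_neg at hh
      apply h
      simp only [frattini, Order.radical, le_iInf_iff]
      exact fun M hM => hh M hM
    have htop : N ⊔ M = ⊤ :=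
      hM.2 _ (lt_of_le_of_ne le_sup_right fun e => hNM (e ▸ le_sup_left))
    refine ⟨M, Subgroup.isComplement'_of_disjoint_and_mul_eq_univ ?_ ?_⟩
    · rw [disjoint_iff]
      refine ((hmin _ ⟨fun x hx g => ?_⟩ inf_le_left).resolve_right fun e => hNM (e ▸ inf_le_right))
      have hg : g ∈ N ⊔ M := htop ▸ Subgroup.mem_top g
      rw [← SetLike.mem_coe, Subgroup.normal_mul] at hg
      show g * x * g⁻¹ ∈ N ⊓ M
      obtain ⟨n, hn, m, hm, rfl⟩ := hg
      replace hm : m ∈ M := hm
      replace hn : n ∈ N := hn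
      rw [Subgroup.mem_inf] at hx
      have h1 : m * x * m⁻¹ ∈ N ⊓ M :=
        ⟨Subgroup.Normal.conj_mem inferInstance x hx.1 m, M.mul_mem (M.mul_mem hm hx.2) (M.inv_mem hm)⟩
      have h2 : (n * m) * x * (n * m)⁻¹ = m * x * m⁻¹ := by
        have hc : n * (m * x * m⁻¹) = (m * x * m⁻¹) * n :=
          congrArg Subtype.val (mul_comm' (⟨n, hn⟩ : N) ⟨_, h1.1⟩)
        calc (n * m) * x * (n * m)⁻¹ = n * (m * x * m⁻¹) * n⁻¹ := by group
          _ = _ := by rw [hc, mul_inv_cancel_right]
      rw [h2]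
      exact h1
    · rw [← Subgroup.normal_mul, htop, Subgroup.coe_top]

end Cfsg.Agent.S0053
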