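import Cfsg.Statements.S0054
import Cfsg.Agent.Lib.Perm.NormalMultTrans
-- import your own Cfsg.Agent.* helpers here

set_option autoImplicit false
open Cfsg

namespace Cfsg.Agent.S0054

/-- A regular normal subgroup of a finite 2-transitive group is elementary abelian: it is commutative and all its elements have order dividing one prime. -/
theorem result {G : Type*} [Group G] [Finite G]
    {X : Type*} [Nonempty X] [MulAction G X] (h2 : MulAction.IsMultiplyPretransitive G X 2)
    (N : Subgroup G) [N.Normal] (htrans : MulAction.IsPretransitive N X) (hreg : ∀ x : X, MulAction.stabilizer N x = ⊥) :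
    IsMulCommutative N ∧ ∃ p : ℕ, p.Prime ∧ ∀ n ∈ N, n ^ p = 1 := by
  haveI := htrans
  obtain ⟨x⟩ := ‹Nonempty X›
  haveI : Finite X := Finite.of_surjective _ (Perm.bijective_smul_of_regular (hreg x)).2
  rcases subsingleton_or_nontrivial X with hs | hn
  · have hbot : Nat.card N = 1 := by rw [Perm.card_eq_of_regular (hreg x), Nat.card_unique]
    rw [Subgroup.card_eq_one] at hbot
    subst hbot
    exact ⟨⟨⟨fun a b => Subsingleton.elim _ _⟩⟩, 2, Nat.prime_two, fun n hn => by
      rw [Subgroup.mem_bot.1 hn, one_pow]⟩
  · obtain ⟨p, m, hp, -, -, -, hc, he⟩ := Perm.regular_normal_elementary_abelian h2 hreg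
    exact ⟨hc, p, hp, he⟩

end Cfsg.Agent.S0054
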