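import Cfsg.Statements.S1009
import Cfsg.Agent.Lib.SmallSimple.Basic

set_option autoImplicit false
open Cfsg

namespace Cfsg.Agent.S1009

/-- Brodkey's Theorem: if a finite group has abelian Sylow p-subgroups, then there are two Sylow p-subgroups whose intersection equals the intersection of all Sylow p-subgroups. -/
theorem result {G : Type*} [Group G] [Finite G] (p : ℕ) [Fact p.Prime] (hab : ∀ P : Sylow p G, IsMulCommutative ↥(P : Subgroup G)) : ∃ P Q : Sylow p G, (P : Subgroup G) ⊓ (Q : Subgroup G) = ⨅ R : Sylow p G, (R : Subgroup G) := by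
  classical
  obtain ⟨⟨P, Q⟩, hmin⟩ := Finite.exists_min
    (fun PQ : Sylow p G × Sylow p G => Nat.card ↥((PQ.1 : Subgroup G) ⊓ (PQ.2 : Subgroup G)))
  refine ⟨P, Q, le_antisymm (le_iInf fun R => ?_) (le_inf (iInf_le _ P) (iInf_le _ Q))⟩
  set D := (P : Subgroup G) ⊓ (Q : Subgroup G) with hD
  set H := Subgroup.centralizer (D : Set G) with hH
  have habP : ∀ T : Sylow p G, ∀ x ∈ (T : Subgroup G), ∀ y ∈ (T : Subgroup G), x * y = y * x :=
    fun T x hx y hy => congrArg Subtype.val ((hab T).is_comm.comm ⟨x, hx⟩ ⟨y, hy⟩)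
  have hPH : (P : Subgroup G) ≤ H := fun x hx =>
    Subgroup.mem_centralizer_iff.mpr fun d hd => habP P d hd.1 x hx
  have hQH : (Q : Subgroup G) ≤ H := fun x hx =>
    Subgroup.mem_centralizer_iff.mpr fun d hd => habP Q d hd.2 x hx
  -- a Sylow subgroup of H containing R ⊓ H is a conjugate of P inside H
  have hRp : IsPGroup p ((R : Subgroup G).subgroupOf H) :=
    R.isPGroup'.comap_of_injective H.subtype Subtype.val_injective
  obtain ⟨T, hT⟩ := hRp.exists_le_sylow
  obtain ⟨h, hh⟩ := MulAction.exists_smul_eq H (P.subtype hPH) T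
  set R' := (h : G)⁻¹ • R with hR'
  have h1 : (R' : Subgroup G) ⊓ (Q : Subgroup G) ≤ D := by
    intro x hx
    refine ⟨?_, hx.2⟩
    have hxR : (h : G) * x * (h : G)⁻¹ ∈ (R : Subgroup G) := by
      have : x ∈ (R' : Subgroup G) := hx.1
      rw [hR', Sylow.coe_subgroup_smul, Subgroup.mem_pointwise_smul_iff_inv_smul_mem] at this
      simpa [MulAut.smul_def, mul_assoc] using this
    have hxT : (h * ⟨x, hQH hx.2⟩ * h⁻¹ : H) ∈ (T : Subgroup H) := hT (by
      rw [Subgroup.mem_subgroupOf]; exact hxR)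
    rw [← hh, Sylow.coe_subgroup_smul, Subgroup.mem_pointwise_smul_iff_inv_smul_mem] at hxT
    simp [MulAut.smul_def, mul_assoc, Subgroup.mem_subgroupOf] at hxT
    exact hxT
  have h2 : (R' : Subgroup G) ⊓ (Q : Subgroup G) = D :=
    Subgroup.eq_of_le_of_card_ge h1 (hmin (R', Q))
  intro d hd
  have hd' : d ∈ (R' : Subgroup G) := (h2.ge hd).1
  rw [hR', Sylow.coe_subgroup_smul, Subgroup.mem_pointwise_smul_iff_inv_smul_mem] at hd'
  have hc : d * (h : G) = (h : G) * d := Subgroup.mem_centralizer_iff.mp h.2 d hd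
  have he : (MulAut.conj (h : G)⁻¹)⁻¹ • d = d := by
    simp [MulAut.smul_def, mul_assoc]
    rw [← mul_assoc, ← hc, mul_assoc, mul_inv_cancel, mul_one]
  rwa [he] at hd'

end Cfsg.Agent.S1009
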