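import Cfsg.Statements.S0063
import Mathlib.GroupTheory.Nilpotent
import Mathlib.GroupTheory.PGroup
import Mathlib.GroupTheory.SpecificGroups.Cyclic

set_option autoImplicit false
open Cfsg

namespace Cfsg.Agent.S0063

theorem aux.{u} : ∀ (m p : ℕ) [Fact p.Prime] (G : Type u) [Group G] [Finite G],
    Nat.card G = p ^ m → 1 < m → Group.nilpotencyClass G ≤ m - 1 := by
  intro m
  induction m using Nat.strong_induction_on with
  | _ m ih =>
    intro p hp G _ _ hG hm
    have hpG : IsPGroup p G := IsPGroup.of_card hG
    have : Group.IsNilpotent G := hpG.isNilpotent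
    have hp1 := hp.out.one_lt
    have : Nontrivial G := Finite.one_lt_card_iff_nontrivial.1
      (by rw [hG]; exact Nat.one_lt_pow (by omega) hp1)
    by_cases hcomm : ∀ a b : G, a * b = b * a
    · let _ : CommGroup G := { ‹Group G› with mul_comm := hcomm }
      exact le_trans CommGroup.nilpotencyClass_le_one (by omega)
    obtain ⟨k, hk⟩ := (hpG.to_quotient (Subgroup.center G)).exists_card_eq
    have hkm : k < m := by
      refine (Nat.pow_lt_pow_iff_right hp1).1 ?_
      rw [← hk, ← hG, Subgroup.card_eq_card_quotient_mul_card_subgroup (Subgroup.center G)]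
      refine lt_mul_of_one_lt_right Nat.card_pos ?_
      rw [Subgroup.one_lt_card_iff_ne_bot]
      exact fun h => by
        have := hpG.center_nontrivial
        exact not_subsingleton (Subgroup.center G) (by rw [h]; infer_instance)
    have hk2 : 2 ≤ k := by
      by_contra hk2
      apply hcomm
      have : IsCyclic (G ⧸ Subgroup.center G) := by
        interval_cases k
        · have : Subsingleton (G ⧸ Subgroup.center G) :=
            (Nat.card_eq_one_iff_unique.1 (by simpa using hk)).1
          infer_instance
        · exact isCyclic_of_prime_card (by simpa using hk)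
      exact commutative_of_cyclic_center_quotient (QuotientGroup.mk' (Subgroup.center G))
        (by rw [QuotientGroup.ker_mk'])
    have h1 := ih k hkm p (G ⧸ Subgroup.center G) hk (by omega)
    have h2 := Group.nilpotencyClass_le_of_ker_le_center (QuotientGroup.mk' (Subgroup.center G))
      (by rw [QuotientGroup.ker_mk'])
    omega

/-- A finite group of prime-power order p ^ m with m > 1 is nilpotent of class at most m - 1. -/
theorem result {G : Type*} [Group G] [Finite G] (p m : ℕ) [Fact p.Prime]
    (hG : Nat.card G = p ^ m) (hm : 1 < m) : Group.nilpotencyClass G ≤ m - 1 := by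
  exact aux m p G hG hm

end Cfsg.Agent.S0063
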