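import Cfsg.Statements.S0068
import Mathlib.GroupTheory.FixedPointFree
import Mathlib.GroupTheory.Perm.Cycle.Type

set_option autoImplicit false
open Cfsg

namespace Cfsg.Agent.S0068

/-- Frobenius complements of even order: if H complements a nontrivial normal subgroup K, each nonidentity element of H has trivial centraliser in K, and H has even order, then H contains a unique involution s, K is abelian, and s inverts every element of K. -/
theorem result {G : Type*} [Group G] [Finite G] (K H : Subgroup G) [K.Normal]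
    (hc : Subgroup.IsComplement' K H) (hK : K ≠ ⊥) (hfpf : ∀ h ∈ H, h ≠ 1 → K ⊓ Subgroup.centralizer {h} = ⊥)
    (heven : 2 ∣ Nat.card H) :
    (∃ s ∈ H, orderOf s = 2 ∧ (∀ t ∈ H, orderOf t = 2 → t = s) ∧ ∀ k ∈ K, s * k * s⁻¹ = k⁻¹) ∧ IsMulCommutative K := by
  have key : ∀ s ∈ H, orderOf s = 2 →
      (∀ k ∈ K, s * k * s⁻¹ = k⁻¹) ∧ IsMulCommutative K := by
    intro s hs hs2
    have hs1 : s ≠ 1 := fun h => by rw [h, orderOf_one] at hs2; omega
    let ψ : K →* K := ((MulAut.conj s).toMonoidHom.comp K.subtype).codRestrict K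
      fun k => Subgroup.Normal.conj_mem inferInstance _ k.2 s
    have hψ : MonoidHom.FixedPointFree ψ := fun k h => by
      have h' : s * k * s⁻¹ = k := congrArg Subtype.val h
      have : (k : G) ∈ K ⊓ Subgroup.centralizer {s} :=
        ⟨k.2, Subgroup.mem_centralizer_singleton_iff.2 (mul_inv_eq_iff_eq_mul.1 h').symm⟩
      rw [hfpf s hs hs1, Subgroup.mem_bot] at this
      exact Subtype.ext this
    have hs' : s * s = 1 := by rw [← sq, ← hs2, pow_orderOf_eq_one]
    have hinv : Function.Involutive ψ := fun k => Subtype.ext (by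
      show s * (s * k * s⁻¹) * s⁻¹ = k
      calc s * (s * k * s⁻¹) * s⁻¹ = (s * s) * k * (s * s)⁻¹ := by group
        _ = k := by rw [hs']; group)
    refine ⟨fun k hk => ?_, ⟨⟨fun a b => hψ.commute_all_of_involutive hinv a b⟩⟩⟩
    exact congrArg Subtype.val (congrFun (hψ.coe_eq_inv_of_involutive hinv) ⟨k, hk⟩)
  have := Fact.mk Nat.prime_two
  obtain ⟨⟨s, hs⟩, hs2⟩ := exists_prime_orderOf_dvd_card' (G := H) 2 heven
  rw [Subgroup.orderOf_mk] at hs2
  refine ⟨⟨s, hs, hs2, fun t ht ht2 => ?_, (key s hs hs2).1⟩, (key s hs hs2).2⟩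
  by_contra hne
  obtain ⟨⟨k, hk⟩, hk1⟩ := Subgroup.ne_bot_iff_exists_ne_one.1 hK
  have hst : s⁻¹ * t ≠ 1 := fun h => hne (inv_mul_eq_one.1 h).symm
  have hmem : k ∈ K ⊓ Subgroup.centralizer {s⁻¹ * t} := by
    refine ⟨hk, Subgroup.mem_centralizer_singleton_iff.2 ?_⟩
    have h1 := (key s hs hs2).1 k hk
    have h2 := (key t ht ht2).1 k hk
    rw [← h1] at h2
    calc k * (s⁻¹ * t) = s⁻¹ * (s * k * s⁻¹) * t := by group
      _ = s⁻¹ * (t * k * t⁻¹) * t := by rw [h2]
      _ = s⁻¹ * t * k := by group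
  rw [hfpf _ (mul_mem (inv_mem hs) ht) hst, Subgroup.mem_bot] at hmem
  exact hk1 (Subtype.ext hmem)

end Cfsg.Agent.S0068
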