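import Cfsg.Statements.S0069
import Cfsg.Agent.Lib.Frobenius.Module
import Cfsg.Agent.Lib.Coprime.Commutator
import Cfsg.Agent.S0040
import Cfsg.Agent.S0068
import Mathlib.GroupTheory.SpecificGroups.ZGroup

set_option autoImplicit false
open Cfsg

namespace Cfsg.Agent.S0069

/-- A Frobenius complement has nontrivial centre: if H ≠ 1 complements a nontrivial normal subgroup K and every nonidentity element of H has trivial centraliser in K, then the centre of H is nontrivial. -/
theorem result {G : Type*} [Group G] [Finite G] (K H : Subgroup G) [K.Normal]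
    (hc : Subgroup.IsComplement' K H) (hK : K ≠ ⊥) (hH : H ≠ ⊥) (hfpf : ∀ h ∈ H, h ≠ 1 → K ⊓ Subgroup.centralizer {h} = ⊥) :
    Subgroup.center H ≠ ⊥ := by
  by_cases heven : 2 ∣ Nat.card H
  · obtain ⟨⟨s, hs, hs2, huniq, -⟩, -⟩ := S0068.result K H hc hK hfpf heven
    rw [Subgroup.ne_bot_iff_exists_ne_one]
    refine ⟨⟨⟨s, hs⟩, Subgroup.mem_center_iff.2 fun h => ?_⟩, fun e => ?_⟩
    · apply Subtype.ext
      show (h : G) * s = s * h
      have h2 := huniq ((h : G) * s * (h : G)⁻¹) (mul_mem (mul_mem h.2 hs) (inv_mem h.2))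
        (by rw [← hs2]; exact (SemiconjBy.orderOf_eq (h : G) (by
          show (h : G) * s = (h : G) * s * (h : G)⁻¹ * h
          group)).symm)
      exact mul_inv_eq_iff_eq_mul.1 h2
    · have : s = 1 := congrArg (fun x : Subgroup.center H => ((x : H) : G)) e
      rw [this, orderOf_one] at hs2
      omega
  have : IsZGroup H := ⟨fun p hp P => by
    have := Fact.mk hp
    rcases S0040.result K H hc hK hfpf p P with h | ⟨n, ⟨e⟩⟩
    · exact h
    · exfalso
      apply heven
      have h1 := Nat.card_congr e.toEquiv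
      have h2 := Subgroup.card_subgroup_dvd_card (P : Subgroup H)
      rw [h1] at h2
      have : NeZero (2 ^ n) := ⟨pow_ne_zero _ two_ne_zero⟩
      rw [Nat.card_eq_fintype_card, QuaternionGroup.card] at h2
      exact dvd_trans (dvd_mul_of_dvd_left (by norm_num) _) h2⟩
  have : Nontrivial H := (Subgroup.nontrivial_iff_ne_bot H).2 hH
  have hK' : H ≤ Subgroup.normalizer (K : Set G) := by
    rw [Subgroup.normalizer_eq_top]; exact le_top
  obtain ⟨W, hWc, hW, hHW, hfW⟩ :=
    Cfsg.Agent.Frobenius.exists_abelian_invariant hK' hK inferInstance hfpf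
  have : Nontrivial W := (Subgroup.nontrivial_iff_ne_bot W).2 hW
  open scoped IsMulCommutative in
  have hφ := Cfsg.Agent.Frobenius.Fpf.isFpf_conjHom H W hHW hfW
  set M := commutator H
  have hMc : IsMulCommutative M := by
    have := IsZGroup.isCyclic_commutator (G := H)
    exact IsCyclic.isMulCommutative
  have hidx : M.index ≠ 1 := fun h =>
    (IsZGroup.commutator_lt (G := H)).ne (Subgroup.index_eq_one.1 h)
  obtain ⟨r, hr, hrd⟩ := Nat.exists_prime_and_dvd hidx
  have := Fact.mk hr
  obtain ⟨c, hc'⟩ := exists_prime_orderOf_dvd_card' (G := H) r (hrd.trans M.index_dvd_card)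
  have hcM : (Nat.card (Subgroup.zpowers c)).Coprime (Nat.card M) := by
    rw [Nat.card_zpowers, hc']
    exact ((IsZGroup.coprime_commutator_index (G := H)).symm.coprime_dvd_left hrd)
  have hcent : Subgroup.zpowers c ≤ Subgroup.centralizer (M : Set H) := by
    refine Cfsg.Agent.Coprime.le_centralizer_of_prime_order
      (by rw [Subgroup.normalizer_eq_top]; exact le_top) hcM fun m hm hml a ha => ?_
    have := Fact.mk hml
    have hmM : c * m * c⁻¹ ∈ M := (inferInstance : M.Normal).conj_mem m hm c
    have h1 : c * m * c⁻¹ ∈ Subgroup.zpowers m := by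
      refine Cfsg.Agent.Frobenius.Fpf.mem_zpowers_of_commute hφ (p := orderOf m)
        (pow_orderOf_eq_one m) (fun h => hml.ne_one (by rw [h, orderOf_one]))
        (by rw [conj_pow, pow_orderOf_eq_one, mul_one, mul_inv_cancel]) ?_
      exact congrArg Subtype.val (mul_comm' (⟨m, hm⟩ : M) ⟨_, hmM⟩)
    have hcomm := Cfsg.Agent.Frobenius.Fpf.commute_of_conj_mem_zpowers hφ (p := r) (q := orderOf m)
      (pow_orderOf_eq_one m) (hc' ▸ pow_orderOf_eq_one c) h1
    obtain ⟨i, rfl⟩ := Subgroup.mem_zpowers_iff.1 ha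
    exact (hcomm.zpow_right i).eq.symm
  rw [Subgroup.ne_bot_iff_exists_ne_one]
  refine ⟨⟨c, Subgroup.mem_center_iff.2 fun h => ?_⟩, fun e => ?_⟩
  · have hm : c * h * c⁻¹ * h⁻¹ ∈ M := Subgroup.commutator_mem_commutator (Subgroup.mem_top c) (Subgroup.mem_top h)
    set m := c * h * c⁻¹ * h⁻¹ with hmdef
    have hcm : ∀ k : ℕ, c ^ k * h * (c ^ k)⁻¹ = m ^ k * h := by
      intro k
      induction k with
      | zero => simp
      | succ k ih =>
        have h1 : c * m = m * c :=
          (Subgroup.mem_centralizer_iff.1 (hcent (Subgroup.mem_zpowers c)) m hm).symm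
        calc c ^ (k + 1) * h * (c ^ (k + 1))⁻¹ = c * (c ^ k * h * (c ^ k)⁻¹) * c⁻¹ := by
              rw [pow_succ']; group
          _ = (c * m ^ k * c⁻¹) * (c * h * c⁻¹) := by rw [ih]; group
          _ = m ^ k * (m * h) := by
            rw [(Commute.pow_right h1 k).eq, mul_inv_cancel_right, hmdef]
            group
          _ = _ := by rw [pow_succ]; group
    have hmr := hcm r
    rw [← hc', pow_orderOf_eq_one, one_mul, inv_one, mul_one, right_eq_mul, hc'] at hmr
    have hm1 : m = 1 := by
      have hd : orderOf m ∣ Nat.card M := Subgroup.orderOf_dvd_natCard M hm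
      have hd' : orderOf m ∣ r := orderOf_dvd_of_pow_eq_one hmr
      rw [Nat.card_zpowers, hc'] at hcM
      exact orderOf_eq_one_iff.1 (Nat.eq_one_of_dvd_coprimes hcM hd' hd)
    rw [hmdef, mul_inv_eq_one, mul_inv_eq_iff_eq_mul] at hm1
    exact hm1.symm
  · have : c = 1 := congrArg (fun x : Subgroup.center H => (x : H)) e
    rw [this, orderOf_one] at hc'
    exact hr.ne_one hc'.symm

end Cfsg.Agent.S0069
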