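import Cfsg.Statements.S0070
import Cfsg.Agent.Lib.Solvable.Basic
import Cfsg.Agent.Lib.Components.Fitting

set_option autoImplicit false
open Cfsg

namespace Cfsg.Agent.S0070

/-- The Fitting subgroup commutes with passing to the Frattini quotient: the Fitting subgroup of G modulo its Frattini subgroup is the image of the Fitting subgroup of G. -/
theorem result {G : Type*} [Group G] [Finite G] :
    Cfsg.fittingSubgroup (G ⧸ frattini G) = (Cfsg.fittingSubgroup G).map (QuotientGroup.mk' (frattini G)) := by
  set f := QuotientGroup.mk' (frattini G)
  have hf : Function.Surjective f := QuotientGroup.mk'_surjective _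
  refine le_antisymm ?_ (Cfsg.Agent.Components.map_fittingSubgroup_le hf)
  set F := Cfsg.fittingSubgroup (G ⧸ frattini G) with hF
  have hFn : F.Normal := Cfsg.Agent.Components.fittingSubgroup_normal _
  have hX : (F.comap f).map f = F := Subgroup.map_comap_eq_self_of_surjective hf F
  have hnil : Group.IsNilpotent F := Cfsg.Agent.Components.fittingSubgroup_isNilpotent _
  have : (F.comap f).Normal := hFn.comap f
  have := Cfsg.Agent.Solvable.isNilpotent_of_frattini (F.comap f)
    (QuotientGroup.le_comap_mk' _ F) (by rw [hX]; exact hnil)
  rw [← hX]
  exact Subgroup.map_mono (Cfsg.Agent.Components.le_fittingSubgroup inferInstance)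

end Cfsg.Agent.S0070
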