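import Cfsg.Statements.S0073
import Cfsg.Agent.Lib.Transfer.AbelianSylow

set_option autoImplicit false
open Cfsg

namespace Cfsg.Agent.S0073

/-- For a finite non-abelian simple group, either the cube of the least prime divisor of the order divides the order, or 12 does. -/
theorem result {G : Type*} [Group G] [Finite G] [IsSimpleGroup G] (hG : ∃ x y : G, x * y ≠ y * x) : (Nat.card G).minFac ^ 3 ∣ Nat.card G ∨ 12 ∣ Nat.card G := by
  by_contra hcon
  push Not at hcon
  obtain ⟨h3, h12⟩ := hcon
  have hne : Nat.card G ≠ 1 := by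
    intro h1
    obtain ⟨x, y, hxy⟩ := hG
    haveI := (Nat.card_eq_one_iff_unique.1 h1).1
    exact hxy (Subsingleton.elim _ _)
  obtain ⟨p, hp⟩ : ∃ p, (Nat.card G).minFac = p := ⟨_, rfl⟩
  rw [hp] at h3
  have hpr : p.Prime := hp ▸ Nat.minFac_prime hne
  haveI := Fact.mk hpr
  let P : Sylow p G := default
  obtain ⟨k, hk⟩ := P.2.exists_card_eq
  have hk2 : k ≤ 2 := by
    by_contra h
    exact h3 ((pow_dvd_pow p (by omega : 3 ≤ k)).trans (hk ▸ (P : Subgroup G).card_subgroup_dvd_card))
  haveI : IsMulCommutative P := by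
    interval_cases k
    · haveI := (Nat.card_eq_one_iff_unique.1 (hk.trans (pow_zero p))).1
      exact ⟨⟨fun a b => Subsingleton.elim _ _⟩⟩
    · haveI : IsCyclic P := isCyclic_of_prime_card (hk.trans (pow_one p))
      exact inferInstance
    · exact IsPGroup.isMulCommutative_of_card_eq_prime_sq hk
  obtain ⟨Q, N, hN, hc⟩ := Transfer.hasNormalPComplement_of_primes P k hk (by
    intro q hq hqp hqd j hj hdvd
    have hlt : p < q := lt_of_le_of_ne (hp ▸ Nat.minFac_le_of_dvd hq.two_le hqd) (Ne.symm hqp)
    have hsmall : ¬ q ∣ p - 1 := fun h => by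
      have := Nat.le_of_dvd (by have := hpr.two_le; omega) h
      omega
    have hnp : ¬ q ∣ p := fun h => hqp ((Nat.prime_dvd_prime_iff_eq hq hpr).1 h)
    interval_cases k <;> interval_cases j
    · exact hsmall (by simpa using hdvd)
    · have h1 : p ^ 2 - p ^ 0 = (p + 1) * (p - 1) := by
        rw [pow_zero, ← Nat.sq_sub_sq, one_pow]
      rw [h1, hq.dvd_mul] at hdvd
      rcases hdvd with h | h
      · have := Nat.le_of_dvd (Nat.succ_pos _) h
        have hqe : q = p + 1 := by omega
        rcases hpr.eq_two_or_odd with h2 | h2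
        · apply h12
          have h4 : 4 ∣ Nat.card G := by
            have := (P : Subgroup G).card_subgroup_dvd_card
            rw [hk, h2] at this; exact this
          have h33 : 3 ∣ Nat.card G := by rw [hqe, h2] at hqd; exact hqd
          exact Nat.Coprime.mul_dvd_of_dvd_of_dvd (by norm_num : Nat.Coprime 4 3) h4 h33
        · have := hpr.two_le
          rcases hq.eq_two_or_odd with h5 | h5 <;> omega
      · exact hsmall h
    · have h1 : p ^ 2 - p ^ 1 = p * (p - 1) := by rw [pow_one, sq, Nat.mul_sub_one]
      rw [h1, hq.dvd_mul] at hdvd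
      rcases hdvd with h | h
      · exact hnp h
      · exact hsmall h)
  rcases hN.eq_bot_or_eq_top with rfl | rfl
  · have hQ : (Q : Subgroup G) = ⊤ := Subgroup.isComplement'_bot_left.1 hc
    have hGp : IsPGroup p G := by
      have := Q.2
      rw [hQ] at this
      exact this.of_equiv Subgroup.topEquiv
    obtain ⟨x, y, hxy⟩ := hG
    haveI : Nontrivial G := Finite.one_lt_card_iff_nontrivial.1 (by have := Nat.card_pos (α := G); omega)
    haveI := hGp.center_nontrivial
    rcases (Subgroup.instNormalCenter (G := G)).eq_bot_or_eq_top with h | h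
    · exact (Subgroup.nontrivial_iff_ne_bot _).1 this h
    · exact hxy (Subgroup.mem_center_iff.1 (h ▸ Subgroup.mem_top y) x)
  · have hQ : (Q : Subgroup G) = ⊥ := Subgroup.isComplement'_top_left.1 hc
    have h1 := Q.card_eq_multiplicity
    rw [hQ, Subgroup.card_bot] at h1
    have h2 : (Nat.card G).factorization p = 0 := by
      by_contra h
      exact (Nat.one_lt_pow h hpr.one_lt).ne h1
    exact (Nat.ne_of_gt ((hpr.dvd_iff_one_le_factorization Nat.card_pos.ne').1 (hp ▸ Nat.minFac_dvd _))) h2

end Cfsg.Agent.S0073
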