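import Cfsg.Statements.S0076
import Cfsg.Agent.Lib.Transfer.Fusion

set_option autoImplicit false
open Cfsg
set_option linter.style.haveILetI false

namespace Cfsg.Agent.S0076

/-- Two P-invariant subsets of a Sylow p-subgroup P that are conjugate in G are conjugate under the normalizer of P. -/
theorem result {G : Type*} [Group G] [Finite G] {p : ℕ} [Fact p.Prime] (P : Sylow p G) (X Y : Set G) (hXP : X ⊆ P) (hYP : Y ⊆ P) (hX : ∀ x ∈ P, (fun y => x * y * x⁻¹) '' X = X) (hY : ∀ x ∈ P, (fun y => x * y * x⁻¹) '' Y = Y) (g : G) (hg : (fun y => g * y * g⁻¹) '' X = Y) : ∃ n ∈ Subgroup.normalizer (P : Set G), (fun y => n * y * n⁻¹) '' X = Y := by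
  have hPX : (P : Subgroup G) ≤ Subgroup.normalizer X := fun x hx => by
    rw [Subgroup.mem_set_normalizer_iff]
    intro y
    refine ⟨fun hy => (hX x hx).subset ⟨y, hy, rfl⟩, fun hy => ?_⟩
    have h1 := (hX x⁻¹ (inv_mem hx)).subset ⟨_, hy, rfl⟩
    simpa [mul_assoc] using h1
  have hPY : (P : Subgroup G) ≤ Subgroup.normalizer Y := fun x hx => by
    rw [Subgroup.mem_set_normalizer_iff]
    intro y
    refine ⟨fun hy => (hY x hx).subset ⟨y, hy, rfl⟩, fun hy => ?_⟩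
    have h1 := (hY x⁻¹ (inv_mem hx)).subset ⟨_, hy, rfl⟩
    simpa [mul_assoc] using h1
  have hgY : ((g • P : Sylow p G) : Subgroup G) ≤ Subgroup.normalizer Y := by
    rintro _ ⟨x, hx, rfl⟩
    have hx' : x ∈ P := hx
    show g * x * g⁻¹ ∈ Subgroup.normalizer Y
    rw [Subgroup.mem_set_normalizer_iff]
    intro y
    have h0 := Subgroup.mem_set_normalizer_iff.mp (hPX hx') (g⁻¹ * y * g)
    have hY' : ∀ z : G, z ∈ Y ↔ g⁻¹ * z * g ∈ X := by
      intro z
      rw [← hg]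
      exact ⟨by rintro ⟨w, hw, rfl⟩; simpa [mul_assoc] using hw,
        fun hz => ⟨_, hz, by group⟩⟩
    rw [hY', hY', h0]
    have : g⁻¹ * (g * x * g⁻¹ * y * (g * x * g⁻¹)⁻¹) * g = x * (g⁻¹ * y * g) * x⁻¹ := by group
    rw [this]
  obtain ⟨c, hc⟩ := MulAction.exists_smul_eq (Subgroup.normalizer Y)
    ((g • P).subtype hgY) (P.subtype hPY)
  simp_rw [Sylow.smul_subtype, Subgroup.smul_def, smul_smul] at hc
  refine ⟨(c : G) * g, Sylow.smul_eq_iff_mem_normalizer.mp (Sylow.subtype_injective hc), ?_⟩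
  ext z
  have hcz := Subgroup.mem_set_normalizer_iff.mp c.2
  constructor
  · rintro ⟨y, hy, rfl⟩
    have h1 : g * y * g⁻¹ ∈ Y := hg ▸ ⟨y, hy, rfl⟩
    have h2 := (hcz _).mp h1
    show (c : G) * g * y * ((c : G) * g)⁻¹ ∈ Y
    convert h2 using 1
    group
  · intro hz
    have h1 : (c : G)⁻¹ * z * c ∈ Y := by
      rw [hcz]
      simpa [mul_assoc] using hz
    obtain ⟨y, hy, hyz⟩ := hg.ge h1
    refine ⟨y, hy, ?_⟩
    show (c : G) * g * y * ((c : G) * g)⁻¹ = z
    have hyz' : g * y * g⁻¹ = (c : G)⁻¹ * z * c := hyz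
    calc (c : G) * g * y * ((c : G) * g)⁻¹ = (c : G) * (g * y * g⁻¹) * (c : G)⁻¹ := by group
      _ = z := by rw [hyz']; group

end Cfsg.Agent.S0076
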