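import Cfsg.Statements.S0078
import Cfsg.Agent.Lib.Transfer.Fusion

set_option autoImplicit false
open Cfsg
set_option linter.style.haveILetI false

namespace Cfsg.Agent.S0078

/-- In a p-normal group, a Sylow p-subgroup P meets O^p(G) exactly where it meets O^p(V), for any subgroup V containing the normalizer of the centre of P. -/
theorem result {G : Type*} [Group G] [Finite G] {p : ℕ} [Fact p.Prime] (P : Sylow p G) (hn : ∀ Q : Sylow p G, (P : Subgroup G) ⊓ Subgroup.centralizer (P : Set G) ≤ (Q : Subgroup G) → (Q : Subgroup G) ⊓ Subgroup.centralizer (Q : Set G) = (P : Subgroup G) ⊓ Subgroup.centralizer (P : Set G)) (V : Subgroup G) (hV : Subgroup.normalizer (((P : Subgroup G) ⊓ Subgroup.centralizer (P : Set G) : Subgroup G) : Set G) ≤ V) : (P : Subgroup G) ⊓ Cfsg.pResidual p G = (P : Subgroup G) ⊓ (Cfsg.pResidual p V).map V.subtype := by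
  set Z := (P : Subgroup G) ⊓ Subgroup.centralizer (P : Set G) with hZdef
  have hc : Z ≤ Subgroup.centralizer (P : Set G) := inf_le_right
  have hW : Cfsg.IsWeaklyClosed Z (P : Subgroup G) := by
    refine ⟨inf_le_left, fun g hg => ?_⟩
    have h1 : Z ≤ ((g⁻¹ • P : Sylow p G) : Subgroup G) := by
      intro z hz
      exact ⟨g * z * g⁻¹, hg ⟨z, hz, rfl⟩, by simp [mul_assoc]⟩
    have h2 := hn (g⁻¹ • P) h1
    refine le_antisymm ?_ ?_
    · rintro _ ⟨z, hz, rfl⟩
      rw [← h2] at hz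
      obtain ⟨⟨y, hy, hyz⟩, hzc⟩ := hz
      have hyz' : g⁻¹ * y * g = z := by simpa using hyz
      refine ⟨?_, ?_⟩
      · show g * z * g⁻¹ ∈ (P : Subgroup G)
        rw [← hyz']
        have hy' : y ∈ (P : Subgroup G) := hy
        simpa [mul_assoc] using hy'
      · show g * z * g⁻¹ ∈ Subgroup.centralizer (P : Set G)
        rw [Subgroup.mem_centralizer_iff]
        intro w hw
        have hw' : g⁻¹ * w * g ∈ ((g⁻¹ • P : Sylow p G) : Subgroup G) := ⟨w, hw, by simp⟩
        have h3 : g⁻¹ * w * g * z = z * (g⁻¹ * w * g) := (Subgroup.mem_centralizer_iff.mp hzc) _ hw'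
        calc w * (g * z * g⁻¹) = g * (g⁻¹ * w * g * z) * g⁻¹ := by group
          _ = g * (z * (g⁻¹ * w * g)) * g⁻¹ := by rw [h3]
          _ = g * z * g⁻¹ * w := by group
    · intro z hz
      refine ⟨g⁻¹ * z * g, ?_, by simp [mul_assoc]⟩
      rw [SetLike.mem_coe, ← h2]
      refine ⟨⟨z, hz.1, by simp⟩, ?_⟩
      show g⁻¹ * z * g ∈ Subgroup.centralizer _
      rw [Subgroup.mem_centralizer_iff]
      rintro _ ⟨w, hw, rfl⟩
      have h3 : w * z = z * w := (Subgroup.mem_centralizer_iff.mp hz.2) w hw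
      show g⁻¹ * w * g⁻¹⁻¹ * (g⁻¹ * z * g) = g⁻¹ * z * g * (g⁻¹ * w * g⁻¹⁻¹)
      calc g⁻¹ * w * g⁻¹⁻¹ * (g⁻¹ * z * g) = g⁻¹ * (w * z) * g := by group
        _ = g⁻¹ * (z * w) * g := by rw [h3]
        _ = g⁻¹ * z * g * (g⁻¹ * w * g⁻¹⁻¹) := by group
  exact Transfer.inf_pResidual_eq_of_controlsElementFusion P
    ((Transfer.sylow_le_normalizer_of_le_centralizer P hc).trans hV)
    ((Transfer.controlsElementFusion_normalizer_of_weaklyClosed P hW hc).mono hV)

end Cfsg.Agent.S0078
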