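import Cfsg.Statements.S0083
import Cfsg.Agent.Lib.Transfer.Burnside

set_option autoImplicit false
open Cfsg
open scoped commutatorElement
set_option linter.style.haveILetI false

namespace Cfsg.Agent.S0083

/-- For an abelian Sylow p-subgroup P, a normal p-complement exists exactly when the normalizer of P is an internal direct product of P with some subgroup. -/
theorem result {G : Type*} [Group G] [Finite G] {p : ℕ} [Fact p.Prime] (P : Sylow p G) (hP : IsMulCommutative P) : Cfsg.HasNormalPComplement p G ↔ ∃ Q : Subgroup G, Q ≤ Subgroup.centralizer (P : Set G) ∧ Q ⊓ (P : Subgroup G) = ⊥ ∧ Q ⊔ (P : Subgroup G) = Subgroup.normalizer (P : Set G) := by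
  haveI := Transfer.pResidual_normal (G := G) p
  haveI : IsMulCommutative (P : Subgroup G) := hP
  constructor
  · intro h
    have hd := Transfer.isComplement'_pResidual P (Transfer.hasNormalPComplement_iff.mp h)
    refine ⟨Cfsg.pResidual p G ⊓ Subgroup.normalizer (P : Set G), ?_, ?_, ?_⟩
    · rintro k ⟨hk, hkN⟩
      rw [Subgroup.mem_centralizer_iff]
      intro x hx
      have hx' : x ∈ (P : Subgroup G) := hx
      have h1 : x * k * x⁻¹ * k⁻¹ ∈ Cfsg.pResidual p G :=
        mul_mem ((inferInstance : (Cfsg.pResidual p G).Normal).conj_mem k hk x) (inv_mem hk)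
      have h2 : x * k * x⁻¹ * k⁻¹ ∈ (P : Subgroup G) := by
        have h3 := mul_mem hx' ((Subgroup.mem_normalizer_iff.mp hkN _).mp (inv_mem hx'))
        simpa [mul_assoc] using h3
      have h4 := Subgroup.disjoint_def.mp hd.disjoint h1 h2
      rw [← commutatorElement_def] at h4
      exact commutatorElement_eq_one_iff_mul_comm.mp h4
    · rw [eq_bot_iff]
      rintro k ⟨⟨hk, -⟩, hk'⟩
      exact Subgroup.mem_bot.mpr (Subgroup.disjoint_def.mp hd.disjoint hk hk')
    · refine le_antisymm (sup_le inf_le_right Subgroup.le_normalizer) fun n hn => ?_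
      obtain ⟨⟨⟨k, hk⟩, ⟨x, hx⟩⟩, hkx : k * x = n⟩ := hd.2 n
      subst hkx
      refine Subgroup.mul_mem_sup ⟨hk, ?_⟩ hx
      have h1 := mul_mem hn (inv_mem ((Subgroup.le_normalizer (H := (P : Subgroup G))) hx))
      simpa using h1
  · rintro ⟨Q, hQc, -, hQ⟩
    refine Transfer.hasNormalPComplement_of_normalizer_le_centralizer P ?_
    rw [← hQ]
    exact sup_le hQc (Subgroup.le_centralizer _)

end Cfsg.Agent.S0083
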