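import Cfsg.Statements.S0084
import Cfsg.Agent.Lib.Transfer.AbelianSylow

set_option autoImplicit false
open Cfsg

namespace Cfsg.Agent.S0084

/-- A group whose Sylow 2-subgroups are Klein four-groups and whose order is prime to 3 has a normal 2-complement. -/
theorem result {G : Type*} [Group G] [Finite G] (T : Sylow 2 G) (hT : IsKleinFour T) (h3 : ¬ 3 ∣ Nat.card G) : Cfsg.HasNormalPComplement 2 G := by
  haveI : IsKleinFour T := hT
  haveI : IsMulCommutative T := IsPGroup.isMulCommutative_of_card_eq_prime_sq (p := 2) (by rw [IsKleinFour.card_four]; norm_num)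
  refine Transfer.hasNormalPComplement_of_primes T 2 (by rw [IsKleinFour.card_four]; norm_num) ?_
  intro q hq hq2 hqd j hj hdvd
  have hle : q ≤ 3 := by
    interval_cases j <;> norm_num at hdvd <;> have := Nat.le_of_dvd (by norm_num) hdvd <;> omega
  have h4 := hq.two_le
  interval_cases q
  · exact hq2 rfl
  · exact h3 hqd

end Cfsg.Agent.S0084
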