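import Cfsg.Statements.S0085
import Cfsg.Agent.Lib.Transfer.AbelianSylow

set_option autoImplicit false
open Cfsg

namespace Cfsg.Agent.S0085

/-- A group whose Sylow 2-subgroups are elementary abelian of order 8 and whose order is prime to 3 and to 7 has a normal 2-complement. -/
theorem result {G : Type*} [Group G] [Finite G] (T : Sylow 2 G) (h8 : Nat.card T = 8) (he : ∀ x : T, x * x = 1) (h3 : ¬ 3 ∣ Nat.card G) (h7 : ¬ 7 ∣ Nat.card G) : Cfsg.HasNormalPComplement 2 G := by
  haveI : IsMulCommutative T := ⟨⟨fun a b => by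
    have hi : ∀ x : T, x⁻¹ = x := fun x => inv_eq_of_mul_eq_one_right (he x)
    rw [← hi (a * b), mul_inv_rev, hi a, hi b]⟩⟩
  refine Transfer.hasNormalPComplement_of_primes T 3 (by rw [h8]; norm_num) ?_
  intro q hq hq2 hqd j hj hdvd
  have hle : q ≤ 7 := by
    interval_cases j <;> norm_num at hdvd <;> have := Nat.le_of_dvd (by norm_num) hdvd <;> omega
  have h4 := hq.two_le
  interval_cases q
  · exact hq2 rfl
  · exact h3 hqd
  · exact absurd hq (by decide)
  · interval_cases j <;> norm_num at hdvd
  · exact absurd hq (by decide)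
  · exact h7 hqd

end Cfsg.Agent.S0085
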