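import Cfsg.Statements.S0089
import Cfsg.Agent.Lib.Transfer.Central

set_option autoImplicit false
open Cfsg

namespace Cfsg.Agent.S0089

/-- When all Sylow subgroups are abelian, the derived subgroup meets the centre trivially. -/
theorem result {G : Type*} [Group G] [Finite G] (h : ∀ p : ℕ, p.Prime → ∀ P : Sylow p G, IsMulCommutative P) : commutator G ⊓ Subgroup.center G = ⊥ := by
  refine eq_bot_iff.2 fun x ⟨hxc, hxz⟩ => Subgroup.mem_bot.2 (orderOf_eq_one_iff.1 ?_)
  by_contra hne
  obtain ⟨p, hp, hpd⟩ := Nat.exists_prime_and_dvd hne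
  haveI := Fact.mk hp
  let P : Sylow p G := default
  haveI := h p hp P
  exact Transfer.not_dvd_orderOf_central_commutator P hxz hxc hpd

end Cfsg.Agent.S0089
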