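import Cfsg.Statements.S0090
import Cfsg.Agent.Lib.Transfer.Central
import Mathlib.GroupTheory.Coset.Card

set_option autoImplicit false
open Cfsg
open scoped commutatorElement

namespace Cfsg.Agent.S0090

/-- An abelian normal Hall subgroup A splits as the internal direct product of G' ∩ A and Z(G) ∩ A, and [A, G] = G' ∩ A. -/
theorem result {G : Type*} [Group G] [Finite G] (A : Subgroup G) [A.Normal] (hc : IsMulCommutative A) (hHall : Nat.Coprime (Nat.card A) A.index) : ⁅A, (⊤ : Subgroup G)⁆ = commutator G ⊓ A ∧ (commutator G ⊓ A) ⊓ (Subgroup.center G ⊓ A) = ⊥ ∧ (commutator G ⊓ A) ⊔ (Subgroup.center G ⊓ A) = A := by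
  haveI := hc
  set L := ⁅A, (⊤ : Subgroup G)⁆ with hL
  haveI hLn : L.Normal := inferInstance
  have hLA : L ≤ A := Subgroup.commutator_le_left A ⊤
  have hLG : L ≤ commutator G := by
    rw [commutator_def]; exact Subgroup.commutator_mono le_top le_rfl
  have hn : Nat.Coprime (Nat.card A) A.index := hHall
  let π := QuotientGroup.mk' L
  have hzen : ∀ a ∈ A, π a ∈ Subgroup.center (G ⧸ L) := by
    intro a ha
    rw [Subgroup.mem_center_iff]
    intro w
    induction w using QuotientGroup.induction_on with | _ w =>
    show π w * π a = π a * π w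
    exact (commutatorElement_eq_one_iff_mul_comm.1 (by
      rw [← map_commutatorElement]
      exact (QuotientGroup.eq_one_iff _).2 (Subgroup.commutator_mem_commutator ha (Subgroup.mem_top w)))).symm
  have h1 : commutator G ⊓ A ≤ L := by
    rintro x ⟨hxc, hxA⟩
    haveI : IsMulCommutative (A.map π) := by
      constructor; constructor
      rintro ⟨_, a, ha, rfl⟩ ⟨_, b, hb, rfl⟩
      exact Subtype.ext (Subgroup.mem_center_iff.1 (hzen b hb) (π a))
    have hxc' : π x ∈ commutator (G ⧸ L) := by
      rw [commutator_def]
      rw [commutator_def] at hxc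
      have := Subgroup.mem_map_of_mem π hxc
      rw [Subgroup.map_commutator, Subgroup.map_top_of_surjective _ (QuotientGroup.mk'_surjective L)] at this
      exact this
    have h2 := Transfer.pow_index_eq_one_of_central_commutator (A.map π) (hzen x hxA) hxc'
    have h3 : (π x) ^ Nat.card A = 1 := by
      rw [← map_pow, show x ^ Nat.card A = 1 from congrArg Subtype.val (pow_card_eq_one' (x := (⟨x, hxA⟩ : A))), map_one]
    have hi : (A.map π).index ∣ A.index := Subgroup.index_map_dvd A (QuotientGroup.mk'_surjective L)
    exact (QuotientGroup.eq_one_iff x).1 (Transfer.eq_one_of_pow_of_coprime h3 h2 (hn.coprime_dvd_right hi))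
  have heq : L = commutator G ⊓ A := le_antisymm (le_inf hLG hLA) h1
  refine ⟨heq, ?_, ?_⟩
  · refine eq_bot_iff.2 ?_
    rintro x ⟨⟨hxc, hxA⟩, hxz, -⟩
    have := Transfer.hall_inf_commutator_inf_center A hHall
    exact this.le ⟨⟨hxA, hxc⟩, hxz⟩
  · refine le_antisymm (sup_le inf_le_right inf_le_right) ?_
    intro a0 ha0
    have hmem : ∀ (a : G), a ∈ A → a ^ A.index ∈ (commutator G ⊓ A) ⊔ (Subgroup.center G ⊓ A) := by
      intro a ha
      rw [← heq]
      haveI : Fintype (G ⧸ A) := Fintype.ofFinite _
      letI : CommGroup A := { (inferInstance : Group A) with mul_comm := fun x y => hc.is_comm.comm x y }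
      let c : G ⧸ A → A := fun q => ⟨q.out * a * q.out⁻¹, (‹A.Normal›).conj_mem a ha _⟩
      set N : A := ∏ q, c q with hN
      have hequiv : ∀ g : G, g * (N : G) * g⁻¹ = N := by
        intro g
        let τ : A →* A :=
          { toFun := fun x => ⟨g * (x : G) * g⁻¹, (‹A.Normal›).conj_mem _ x.2 g⟩
            map_one' := Subtype.ext (by simp)
            map_mul' := fun x y => Subtype.ext (by simp [mul_assoc]) }
        have hτ : ∀ q, τ (c q) = c (g • q) := by
          intro q
          apply Subtype.ext
          show g * (q.out * a * q.out⁻¹) * g⁻¹ = (g • q).out * a * (g • q).out⁻¹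
          obtain ⟨b, hb⟩ : ∃ b : A, (g • q).out = g * q.out * b := by
            conv => enter [1, b, 1]; rw [← q.out_eq']
            rw [MulAction.Quotient.smul_mk]
            exact QuotientGroup.mk_out_eq_mul A (g * q.out)
          have hba : (b : G) * a * (b : G)⁻¹ = a := by
            rw [congrArg Subtype.val (mul_comm b ⟨a, ha⟩ : b * (⟨a, ha⟩ : A) = _) |> fun h => (h : (b : G) * a = a * b), mul_inv_cancel_right]
          calc g * (q.out * a * q.out⁻¹) * g⁻¹ = (g * q.out) * ((b : G) * a * (b : G)⁻¹) * (g * q.out)⁻¹ := by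
                rw [hba]; group
            _ = _ := by rw [hb]; group
        have : τ N = N := by
          rw [hN, map_prod]
          simp only [hτ]
          exact Equiv.prod_comp (MulAction.toPerm g : Equiv.Perm (G ⧸ A)) c
        exact congrArg Subtype.val this
      let ρ : A →* G ⧸ L := π.comp A.subtype
      have hρ : ρ N = π (a ^ A.index) := by
        letI : CommGroup (A.map π) :=
          { (inferInstance : Group (A.map π)) with
            mul_comm := by
              rintro ⟨_, x, hx, rfl⟩ ⟨_, y, hy, rfl⟩
              exact Subtype.ext (Subgroup.mem_center_iff.1 (hzen y hy) (π x)) }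
        let ρ' : A →* A.map π := π.subgroupMap A
        have h5 : ρ' N = ρ' (⟨a, ha⟩ ^ A.index) := by
          rw [hN, map_prod, map_pow]
          rw [Finset.prod_eq_pow_card (b := ρ' ⟨a, ha⟩), Finset.card_univ, ← Nat.card_eq_fintype_card]
          · rfl
          · intro q _
            apply Subtype.ext
            show π (q.out * a * q.out⁻¹) = π a
            rw [map_mul, map_mul, Subgroup.mem_center_iff.1 (hzen a ha), map_inv, mul_inv_cancel_right]
        exact congrArg Subtype.val h5
      have h6 : (N : G)⁻¹ * a ^ A.index ∈ L := QuotientGroup.eq.1 hρ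
      rw [← mul_inv_cancel_left (N : G) (a ^ A.index)]
      exact mul_mem (Subgroup.mem_sup_right ⟨Subgroup.mem_center_iff.2 fun g => by
        conv_lhs => rw [← hequiv g]
        conv_rhs => rw [← hequiv g]
        rw [hequiv g]
        exact mul_inv_eq_iff_eq_mul.1 (hequiv g), N.2⟩) (Subgroup.mem_sup_left h6)
    obtain ⟨b, hb⟩ := (powCoprime (G := A) hn).surjective ⟨a0, ha0⟩
    have hba : (b : G) ^ A.index = a0 := congrArg Subtype.val hb
    rw [← hba]
    exact hmem b b.2

end Cfsg.Agent.S0090
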