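import Cfsg.Statements.S0091
import Cfsg.Agent.Lib.Transfer.Fusion

set_option autoImplicit false
open Cfsg
set_option linter.style.haveILetI false

namespace Cfsg.Agent.S0091

/-- If a nontrivial Sylow p-subgroup controls its own fusion then it is not contained in the derived subgroup. -/
theorem result {G : Type*} [Group G] [Finite G] {p : ℕ} [Fact p.Prime] (P : Sylow p G) (hp : p ∣ Nat.card G) (h : ∀ x ∈ P, ∀ y ∈ P, (∃ g : G, g * x * g⁻¹ = y) → ∃ z ∈ P, z * x * z⁻¹ = y) : ¬ (P : Subgroup G) ≤ commutator G := by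
  intro hle
  have h1 : commutator G ⊓ (P : Subgroup G) = ⁅(P : Subgroup G), (P : Subgroup G)⁆ ⊓ (P : Subgroup G) :=
    Transfer.commutator_inf_eq_of_controlsElementFusion (Transfer.sylow_coprime P) le_rfl
      fun x hx g hg => h x hx _ hg ⟨g, rfl⟩
  rw [inf_eq_right.mpr hle] at h1
  have h2 : (P : Subgroup G) ≤ ⁅(P : Subgroup G), (P : Subgroup G)⁆ := h1.le.trans inf_le_left
  haveI := P.2.isNilpotent
  have h3 : (⊤ : Subgroup P) ≤ (⊥ : Subgroup P) ⊔ ⁅(⊤ : Subgroup P), (⊤ : Subgroup P)⁆ := by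
    apply (Subgroup.map_le_map_iff_of_injective (P : Subgroup G).subtype_injective).mp
    rw [bot_sup_eq, Subgroup.map_commutator, ← MonoidHom.range_eq_map, Subgroup.range_subtype]
    exact h2
  have h4 : (P : Subgroup G) = ⊥ := by
    have h5 := Transfer.le_of_le_sup_commutator_top h3
    rw [eq_bot_iff]
    intro x hx
    exact Subgroup.mem_bot.mpr (congrArg Subtype.val (Subgroup.mem_bot.mp (h5 (Subgroup.mem_top ⟨x, hx⟩))))
  exact P.ne_bot_of_dvd_card hp h4

end Cfsg.Agent.S0091
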