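import Cfsg.Statements.S0092
import Mathlib
import Cfsg.Agent.Lib.Transfer.Residual
import Cfsg.Agent.Lib.Coprime.Sylow

set_option autoImplicit false
open Cfsg

namespace Cfsg.Agent.S0092

open Subgroup
open scoped Pointwise

/-- If a group has no nontrivial `p`-quotient and an abelian Sylow `p`-subgroup `Q`, then no
nontrivial element of `Q` centralises `N(Q)`. -/
theorem eq_one_of_central {N : Type*} [Group N] [Finite N] {p : ℕ} [Fact p.Prime]
    (hN : Cfsg.pResidual p N = ⊤) (Q : Sylow p N) [IsMulCommutative Q] {x : N}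
    (hxQ : x ∈ (Q : Subgroup N))
    (hc : ∀ y ∈ normalizer ((Q : Subgroup N) : Set N), y * x = x * y) : x = 1 := by
  open scoped IsMulCommutative in
  have key : ∀ (k : ℕ) (g₀ : N), g₀⁻¹ * x ^ k * g₀ ∈ (Q : Subgroup N) →
      g₀⁻¹ * x ^ k * g₀ = x ^ k := by
    intro k g₀ hg
    obtain ⟨y, hy, he⟩ := Sylow.conj_eq_normalizer_conj_of_mem Q (x ^ k) g₀ (pow_mem hxQ k) hg
    rw [he, mul_assoc, ← (Commute.pow_right (hc y hy) k).eq, inv_mul_cancel_left]
  open scoped IsMulCommutative in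
  have h1 := MonoidHom.transfer_eq_pow (MonoidHom.id (Q : Subgroup N)) x key
  have h2 : Cfsg.pResidual p N ≤ (MonoidHom.transfer (open scoped IsMulCommutative in
      MonoidHom.id (Q : Subgroup N))).ker := Cfsg.Agent.Transfer.pResidual_le_ker _ Q.2
  have h3 := h2 (hN ▸ mem_top x)
  rw [MonoidHom.mem_ker, h1] at h3
  have h4 : x ^ (Q : Subgroup N).index = 1 := congrArg Subtype.val h3
  obtain ⟨k, hk⟩ := IsPGroup.iff_card.1 Q.2
  have h5 : orderOf x ∣ p ^ k := hk ▸ Subgroup.orderOf_dvd_natCard _ hxQ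
  exact orderOf_eq_one_iff.1 (Nat.eq_one_of_dvd_coprimes
    (Nat.Coprime.pow_left k ((Fact.out : p.Prime).coprime_iff_not_dvd.2 Q.not_dvd_index)) h5
    (orderOf_dvd_of_pow_eq_one h4))

/-- Splitting over `O^p(G)`. -/
theorem exists_complement {G : Type*} [Group G] [Finite G] {p : ℕ} [Fact p.Prime] (N : Subgroup G)
    [N.Normal] (hN : Cfsg.pResidual p N = ⊤) (hGN : IsPGroup p (G ⧸ N)) (Q : Sylow p N)
    [IsMulCommutative Q] : ∃ K : Subgroup G, K.IsComplement' N := by
  set NQ := normalizer ((Q : Subgroup N) : Set N) with hNQ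
  have hcop : (Nat.card ((Q : Subgroup N).subgroupOf NQ)).Coprime
      ((Q : Subgroup N).subgroupOf NQ).index := by
    obtain ⟨k, hk⟩ := IsPGroup.iff_card.1 Q.2
    rw [Coprime.card_subgroupOf le_normalizer, hk]
    exact Nat.Coprime.pow_left k ((Fact.out : p.Prime).coprime_iff_not_dvd.2 fun h =>
      Q.not_dvd_index (h.trans (relIndex_dvd_index_of_le le_normalizer)))
  obtain ⟨A₀, hA₀⟩ := exists_right_complement'_of_coprime hcop
  set Q' := (Q : Subgroup N).map N.subtype with hQ'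
  set A := (A₀.map NQ.subtype).map N.subtype with hA
  have hQ'N : Q' ≤ N := map_subtype_le _
  have hAN : A ≤ N := map_subtype_le _
  have hM : normalizer (Q' : Set G) ⊓ N = NQ.map N.subtype := by
    have h := subgroupOf_normalizer_eq hQ'N
    rw [show Q'.subgroupOf N = (Q : Subgroup N) from
      comap_map_eq_self_of_injective N.subtype_injective _] at h
    rw [hNQ, ← h, subgroupOf, map_comap_eq, range_subtype, inf_comm]
  have hQA : Q' ⊔ A = NQ.map N.subtype := by
    rw [hQ', hA, ← Subgroup.map_sup]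
    congr 1
    have h := congrArg (Subgroup.map NQ.subtype) hA₀.sup_eq_top
    rwa [Subgroup.map_sup, map_subgroupOf_eq_of_le le_normalizer, ← MonoidHom.range_eq_map,
      range_subtype] at h
  have hQM : Q' ≤ NQ.map N.subtype := hQA ▸ le_sup_left
  have hAM : A ≤ normalizer (Q' : Set G) := (hQA ▸ le_sup_right).trans (hM ▸ inf_le_left)
  obtain ⟨k, hk⟩ := IsPGroup.iff_card.1 Q.2
  have hcQ : Nat.card Q' = p ^ k := by rw [hQ', card_map_of_injective N.subtype_injective, hk]
  have hcA : (Nat.card A).Coprime (Nat.card Q') := by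
    rw [hA, card_map_of_injective N.subtype_injective, card_map_of_injective NQ.subtype_injective,
      ← hA₀.symm.index_eq_card, hcQ, ← hk]
    rw [Coprime.card_subgroupOf le_normalizer] at hcop
    exact hcop.symm
  have hdQA : Q' ⊓ A = ⊥ := Coprime.disjoint_of_coprime_card hcA.symm
  have hQc : ∀ x ∈ Q', ∀ y ∈ Q', x * y = y * x := by
    rintro _ ⟨x, hx, rfl⟩ _ ⟨y, hy, rfl⟩
    have h := congrArg Subtype.val (mul_comm' (⟨x, hx⟩ : (Q : Subgroup N)) ⟨y, hy⟩)
    exact congrArg Subtype.val h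
  set X := normalizer (Q' : Set G) ⊓ normalizer (A : Set G) with hX
  have hXQ : X ⊓ Q' = ⊥ := by
    refine (Subgroup.eq_bot_iff_forall _).2 fun x hx => ?_
    obtain ⟨hxX, hxQ⟩ := mem_inf.1 hx
    obtain ⟨x₀, hx₀, rfl⟩ := hxQ
    refine congrArg Subtype.val (eq_one_of_central hN Q hx₀ fun y hy => Subtype.ext ?_)
    have hxQ' : (x₀ : G) ∈ Q' := ⟨x₀, hx₀, rfl⟩
    have hle : Q' ⊔ A ≤ centralizer {(x₀ : G)} := by
      refine sup_le (fun q hq => mem_centralizer_singleton_iff.2 (hQc q hq _ hxQ')) fun a ha => ?_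
      have hc : a * (x₀ : G) * a⁻¹ * (x₀ : G)⁻¹ ∈ Q' ⊓ A := by
        refine mem_inf.2 ⟨mul_mem ((mem_normalizer_iff.1 (hAM ha) _).1 hxQ') (inv_mem hxQ'), ?_⟩
        have := (mem_normalizer_iff.1 hxX.2 _).1 (inv_mem ha)
        have h2 : a * ((x₀ : G) * a⁻¹ * (x₀ : G)⁻¹) ∈ A := mul_mem ha this
        simpa [mul_assoc] using h2
      rw [hdQA, mem_bot, mul_inv_eq_one, mul_inv_eq_iff_eq_mul] at hc
      exact mem_centralizer_singleton_iff.2 hc
    rw [hQA] at hle
    exact mem_centralizer_singleton_iff.1 (hle (mem_map_of_mem N.subtype hy))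
  -- the Frattini arguments
  have hNX : normalizer (Q' : Set G) ≤ Q' ⊔ X := by
    intro g hg
    have hgM : MulAut.conj g • A ≤ A ⊔ Q' := by
      rw [sup_comm, hQA, ← hM]
      intro a ha
      rw [Coprime.mem_conj_smul_iff] at ha
      refine mem_inf.2 ⟨?_, ?_⟩
      · have := mul_mem (mul_mem hg (hAM ha)) (inv_mem hg)
        simpa [mul_assoc] using this
      · have := ‹N.Normal›.conj_mem _ (hAN ha) g
        simpa [mul_assoc] using this
    obtain ⟨n, hn, hle⟩ := Coprime.exists_le_conj_of_le_sup hAM hgM hcA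
      (by rwa [Coprime.card_conj_smul]) (Or.inr (by
        have : IsPGroup p Q' := Q.2.map _
        have : Group.IsNilpotent Q' := this.isNilpotent
        infer_instance))
    have he : MulAut.conj g • A = MulAut.conj n • A := eq_of_le_of_card_ge hle
      (by rw [Coprime.card_conj_smul, Coprime.card_conj_smul])
    have h1 : n⁻¹ * g ∈ normalizer (A : Set G) := by
      refine Coprime.mem_normalizer_of_conj_smul_eq ?_
      rw [← Coprime.conj_smul_smul, he, Coprime.conj_smul_smul, inv_mul_cancel, map_one, one_smul]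
    rw [← mul_inv_cancel_left n g]
    exact mul_mem (mem_sup_left hn) (mem_sup_right
      (mem_inf.2 ⟨mul_mem (inv_mem (le_normalizer hn)) hg, h1⟩))
  have hsurj : Function.Surjective ((QuotientGroup.mk' N).comp X.subtype) := by
    rw [← MonoidHom.range_eq_top, MonoidHom.range_comp, range_subtype]
    refine eq_top_iff.2 fun g' _ => ?_
    obtain ⟨g, rfl⟩ := QuotientGroup.mk'_surjective N g'
    have hg : g ∈ X ⊔ N := by
      have h1 : normalizer (Q' : Set G) ⊔ N ≤ X ⊔ N :=
        sup_le (hNX.trans (sup_le (hQ'N.trans le_sup_right) le_sup_left)) le_sup_right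
      exact h1 ((Sylow.normalizer_sup_eq_top Q).ge (mem_top g))
    have h2 := mem_map_of_mem (QuotientGroup.mk' N) hg
    rwa [Subgroup.map_sup, QuotientGroup.map_mk'_self, sup_bot_eq] at h2
  obtain ⟨S⟩ : Nonempty (Sylow p X) := inferInstance
  set K := (S : Subgroup X).map X.subtype with hK
  have hKX : K ≤ X := map_subtype_le _
  have hKN : K ⊓ N = ⊥ := by
    have hp1 : IsPGroup p ((Q' ⊔ (K ⊓ N) : Subgroup G)) :=
      IsPGroup.to_sup_of_normal_left' (Q.2.map _) ((S.2.map _).to_le inf_le_left)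
        (inf_le_left.trans (hKX.trans inf_le_left))
    have h1 : (Q' ⊔ (K ⊓ N)).subgroupOf N = (Q : Subgroup N) :=
      Q.3 hp1.comap_subtype fun y hy => mem_sup_left (⟨y, hy, rfl⟩ : (y : G) ∈ Q')
    refine le_bot_iff.1 fun y hy => hXQ ▸ mem_inf.2 ⟨hKX hy.1, ?_⟩
    have h2 : (⟨y, hy.2⟩ : N) ∈ (Q : Subgroup N) := h1 ▸ (mem_sup_right hy : y ∈ Q' ⊔ (K ⊓ N))
    exact ⟨_, h2, rfl⟩
  have hKtop : K ⊔ N = ⊤ := by
    have h1 : ((S.mapSurjective hsurj : Sylow p (G ⧸ N)) : Subgroup (G ⧸ N)) = ⊤ :=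
      (S.mapSurjective hsurj).3 ((hGN.to_subgroup ⊤)) le_top |>.symm
    rw [Sylow.coe_mapSurjective, ← Subgroup.map_map, ← hK] at h1
    have h2 := congrArg (Subgroup.comap (QuotientGroup.mk' N)) h1
    rwa [comap_map_eq, QuotientGroup.ker_mk', comap_top] at h2
  refine ⟨K, isComplement'_of_disjoint_and_mul_eq_univ (disjoint_iff.2 hKN) ?_⟩
  rw [← mul_normal, hKtop, coe_top]


/-- If the Sylow p-subgroups of O^p(G) are abelian then G splits over O^p(G). -/
theorem result {G : Type*} [Group G] [Finite G] {p : ℕ} [Fact p.Prime] (h : ∀ Q : Sylow p (Cfsg.pResidual p G), IsMulCommutative Q) : ∃ K : Subgroup G, K.IsComplement' (Cfsg.pResidual p G) := by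
  have := Cfsg.Agent.Transfer.pResidual_normal (G := G) p
  obtain ⟨Q⟩ : Nonempty (Sylow p (Cfsg.pResidual p G)) := inferInstance
  have := h Q
  exact exists_complement _ (Cfsg.Agent.Transfer.pResidual_pResidual p)
    (Cfsg.Agent.Transfer.isPGroup_quotient_pResidual p) Q

end Cfsg.Agent.S0092
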