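import Cfsg.Statements.S0094
import Cfsg.Agent.Lib.Transfer.Central

set_option autoImplicit false
open Cfsg
open scoped commutatorElement

namespace Cfsg.Agent.S0094

/-- In a special p-group every central element has order dividing p. -/
theorem result {P : Type*} [Group P] [Finite P] {p : ℕ} [Fact p.Prime] (h : Cfsg.IsSpecial p P) (z : P) (hz : z ∈ Subgroup.center P) : z ^ p = 1 := by
  obtain ⟨hP, hf, hd⟩ := h
  have hpow : ∀ x : P, x ^ p ∈ Subgroup.center P := by
    intro x
    rw [← hf, frattini, Order.radical]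
    simp only [Subgroup.mem_iInf]
    intro M hM
    exact (Transfer.coatom_pGroup hP hM).2.1 x
  rw [← hd, commutator_eq_closure] at hz
  refine ((Subgroup.closure_le ({ carrier := {z | z ∈ Subgroup.center P ∧ z ^ p = 1}, one_mem' := ⟨one_mem _, one_pow _⟩, mul_mem' := ?_, inv_mem' := ?_ } : Subgroup P)).2 ?_ hz).2
  · rintro a b ⟨haZ, ha⟩ ⟨hbZ, hb⟩
    have hab : Commute a b := (Subgroup.mem_center_iff.1 haZ b).symm
    exact ⟨mul_mem haZ hbZ, by rw [hab.mul_pow, ha, hb, one_mul]⟩
  · rintro a ⟨haZ, ha⟩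
    exact ⟨inv_mem haZ, by rw [inv_pow, ha, inv_one]⟩
  · rintro _ ⟨x, y, rfl⟩
    have hc : ⁅x, y⁆ ∈ Subgroup.center P := hd ▸ Subgroup.commutator_mem_commutator (Subgroup.mem_top x) (Subgroup.mem_top y)
    refine ⟨hc, ?_⟩
    have hcz := Subgroup.mem_center_iff.1 hc
    have hpow' : ∀ k : ℕ, ⁅x ^ k, y⁆ = ⁅x, y⁆ ^ k := by
      intro k
      induction k with
      | zero => simp
      | succ k ih =>
        have : ⁅x ^ (k+1), y⁆ = x * ⁅x ^ k, y⁆ * x⁻¹ * ⁅x, y⁆ := by
          simp only [commutatorElement_def, pow_succ']; group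
        rw [this, ih, Subgroup.mem_center_iff.1 (pow_mem hc k) x, mul_inv_cancel_right, pow_succ]
    rw [← hpow' p, commutatorElement_def, ← Subgroup.mem_center_iff.1 (hpow x) y]
    group

end Cfsg.Agent.S0094
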