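import Cfsg.Statements.S0097
import Cfsg.Agent.Lib.PGroup.Extraspecial

set_option autoImplicit false
open Cfsg

namespace Cfsg.Agent.S0097

/-- For odd p and E extraspecial, the subgroup generated by the elements of order dividing p has exponent dividing p and index at most p. -/
theorem result {E : Type*} [Group E] [Finite E] {p : ℕ} [Fact p.Prime] (hp : p ≠ 2) (h : Cfsg.IsExtraspecial p E) : (Subgroup.closure {x : E | x ^ p = 1}).index ≤ p ∧ ∀ g ∈ Subgroup.closure {x : E | x ^ p = 1}, g ^ p = 1 := by
  have hcl := PGroup.special_class_two h.1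
  refine ⟨?_, fun g hg => PGroup.pow_eq_one_of_mem_closure Fact.out hp hcl (fun x hx => hx) hg⟩
  let f := PGroup.powHom Fact.out hp hcl (PGroup.special_commutator_pow h.1)
  have hker : Subgroup.closure {x : E | x ^ p = 1} = f.ker := by
    refine le_antisymm ((Subgroup.closure_le _).mpr fun x hx => ?_) fun x hx => Subgroup.subset_closure ?_
    · exact MonoidHom.mem_ker.mpr hx
    · exact MonoidHom.mem_ker.mp hx
  rw [hker, Subgroup.index_ker]
  calc Nat.card ↥f.range ≤ Nat.card ↥(Subgroup.center E) := Nat.le_of_dvd Nat.card_pos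
        (Subgroup.card_dvd_of_le (by rintro _ ⟨x, rfl⟩; exact PGroup.special_pow_mem_center h.1 x))
    _ = p := h.2

end Cfsg.Agent.S0097
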