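import Cfsg.Statements.S0098
import Cfsg.Agent.Lib.PGroup.ExtraspecialClassify

set_option autoImplicit false
open Cfsg

namespace Cfsg.Agent.S0098

/-- For odd p, extraspecial p-groups of exponent p are determined up to isomorphism by their order. -/
theorem result {E₁ : Type*} {E₂ : Type*} [Group E₁] [Group E₂] [Finite E₁] [Finite E₂] {p : ℕ} [Fact p.Prime] (hp : p ≠ 2) (h₁ : Cfsg.IsExtraspecial p E₁) (h₂ : Cfsg.IsExtraspecial p E₂) (he₁ : Monoid.exponent E₁ = p) (he₂ : Monoid.exponent E₂ = p) (hc : Nat.card E₁ = Nat.card E₂) : Nonempty (E₁ ≃* E₂) := by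
  obtain ⟨n, -, hn, -⟩ := PGroup.extraspecial_card h₁
  obtain ⟨z₁, hz₁, hz₁'⟩ := PGroup.exists_center_ne_one h₁
  obtain ⟨z₂, hz₂, hz₂'⟩ := PGroup.exists_center_ne_one h₂
  obtain ⟨x₁, y₁, hs₁, hg₁, hq₁⟩ := PGroup.exists_sympSys_exponent h₁
    (fun g => by rw [← he₁]; exact Monoid.pow_exponent_eq_one g) hn hz₁ hz₁'
  obtain ⟨x₂, y₂, hs₂, hg₂, hq₂⟩ := PGroup.exists_sympSys_exponent h₂
    (fun g => by rw [← he₂]; exact Monoid.pow_exponent_eq_one g) (hc ▸ hn) hz₂ hz₂'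
  exact PGroup.nonempty_mulEquiv_of_sympSys h₁ h₂ hz₁ hz₁' hz₂ hz₂' hn (hc ▸ hn) hs₁ hs₂ hg₁ hg₂
    hq₁ hq₂

end Cfsg.Agent.S0098
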