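import Cfsg.Statements.S0099
import Cfsg.Agent.Lib.PGroup.ExtraspecialClassify

set_option autoImplicit false
open Cfsg

namespace Cfsg.Agent.S0099

/-- Among three extraspecial 2-groups of equal order, some two are isomorphic. -/
theorem result {E₁ : Type*} {E₂ : Type*} {E₃ : Type*} [Group E₁] [Group E₂] [Group E₃] [Finite E₁] [Finite E₂] [Finite E₃] (h₁ : Cfsg.IsExtraspecial 2 E₁) (h₂ : Cfsg.IsExtraspecial 2 E₂) (h₃ : Cfsg.IsExtraspecial 2 E₃) (h12 : Nat.card E₁ = Nat.card E₂) (h23 : Nat.card E₂ = Nat.card E₃) : Nonempty (E₁ ≃* E₂) ∨ Nonempty (E₂ ≃* E₃) ∨ Nonempty (E₁ ≃* E₃) := by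
  have : Fact (Nat.Prime 2) := ⟨Nat.prime_two⟩
  obtain ⟨n, -, hn, -⟩ := PGroup.extraspecial_card h₁
  obtain ⟨z₁, hz₁, hz₁'⟩ := PGroup.exists_center_ne_one h₁
  obtain ⟨z₂, hz₂, hz₂'⟩ := PGroup.exists_center_ne_one h₂
  obtain ⟨z₃, hz₃, hz₃'⟩ := PGroup.exists_center_ne_one h₃
  have hn₂ : Nat.card E₂ = 2 ^ (2 * n + 1) := h12 ▸ hn
  have hn₃ : Nat.card E₃ = 2 ^ (2 * n + 1) := h23 ▸ hn₂
  obtain ⟨e₁, x₁, y₁, hs₁, hg₁, hq₁⟩ := PGroup.exists_sympSys_two h₁ hn hz₁ hz₁'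
  obtain ⟨e₂, x₂, y₂, hs₂, hg₂, hq₂⟩ := PGroup.exists_sympSys_two h₂ hn₂ hz₂ hz₂'
  obtain ⟨e₃, x₃, y₃, hs₃, hg₃, hq₃⟩ := PGroup.exists_sympSys_two h₃ hn₃ hz₃ hz₃'
  rcases (show e₁ = e₂ ∨ e₂ = e₃ ∨ e₁ = e₃ by cases e₁ <;> cases e₂ <;> cases e₃ <;> simp)
    with rfl | rfl | rfl
  · exact Or.inl (PGroup.nonempty_mulEquiv_of_sympSys h₁ h₂ hz₁ hz₁' hz₂ hz₂' hn hn₂ hs₁ hs₂ hg₁
      hg₂ hq₁ hq₂)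
  · exact Or.inr (Or.inl (PGroup.nonempty_mulEquiv_of_sympSys h₂ h₃ hz₂ hz₂' hz₃ hz₃' hn₂ hn₃ hs₂
      hs₃ hg₂ hg₃ hq₂ hq₃))
  · exact Or.inr (Or.inr (PGroup.nonempty_mulEquiv_of_sympSys h₁ h₃ hz₁ hz₁' hz₃ hz₃' hn hn₃ hs₁
      hs₃ hg₁ hg₃ hq₁ hq₃))

end Cfsg.Agent.S0099
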