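import Cfsg.Statements.S0100
import Cfsg.Agent.Lib.PGroup.NormalElementary

set_option autoImplicit false
open Cfsg

namespace Cfsg.Agent.S0100

/-- For odd p, a p-group without normal elementary abelian subgroups of order p^3 has p-rank at most 2. -/
theorem result {P : Type*} [Group P] [Finite P] {p : ℕ} [Fact p.Prime] (hp : p ≠ 2) (hP : IsPGroup p P) (h : ∀ A : Subgroup P, A.Normal → IsMulCommutative A → (∀ a ∈ A, a ^ p = 1) → Nat.card A ≠ p ^ 3) (E : Subgroup P) (hE : IsMulCommutative E) (hEe : ∀ e ∈ E, e ^ p = 1) : Nat.card E ≤ p ^ 2 := by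
  obtain ⟨U, hU, hUmax⟩ := (Set.toFinite
    {U : Subgroup P | U.Normal ∧ Cfsg.IsElementaryAbelian p U}).exists_maximal
    ⟨⊥, inferInstance, PGroup.isElementaryAbelian_bot⟩
  haveI := hU.1
  refine PGroup.card_le_sq hp hP hU.2
    (fun F hF hF' hUF => le_antisymm (hUmax ⟨hF, hF'⟩ hUF) hUF) ?_ ⟨hE, hEe⟩
  by_contra hlt
  obtain ⟨k, hk⟩ := (hP.to_subgroup U).exists_card_eq
  have h3 : p ^ 3 ≤ Nat.card U := by
    rw [hk] at hlt ⊢
    exact Nat.pow_le_pow_right (Fact.out : p.Prime).pos (by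
      by_contra h'
      exact hlt (Nat.pow_le_pow_right (Fact.out : p.Prime).pos (by omega)))
  obtain ⟨A, hA, -, hAU, hAc⟩ := PGroup.exists_normal_card_between hP ⊥ U bot_le 3
    (by rw [Subgroup.card_bot]; exact Nat.one_le_pow _ _ (Fact.out : p.Prime).pos) h3
  haveI := hA
  exact h A hA (PGroup.isElementaryAbelian_mono hU.2 hAU).1 (PGroup.isElementaryAbelian_mono hU.2 hAU).2 hAc

end Cfsg.Agent.S0100
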