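import Cfsg.Statements.S0101
import Cfsg.Agent.Lib.Transfer.Central

set_option autoImplicit false
open Cfsg

namespace Cfsg.Agent.S0101

/-- In a perfect central extension, the kernel meets each Sylow p-subgroup P inside the Frattini subgroup of P. -/
theorem result {H : Type*} {G : Type*} [Group H] [Group G] [Finite H] (σ : H →* G) (hσ : Function.Surjective σ) (hc : σ.ker ≤ Subgroup.center H) (hH : commutator H = ⊤) {p : ℕ} [Fact p.Prime] (P : Sylow p H) : σ.ker ⊓ (P : Subgroup H) ≤ (frattini P).map (P : Subgroup H).subtype := by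
  rintro z ⟨hzk, hzP⟩
  refine ⟨⟨z, hzP⟩, ?_, rfl⟩
  rw [SetLike.mem_coe, frattini, Order.radical]
  simp only [Subgroup.mem_iInf]
  intro M hM
  obtain ⟨hMn, -, hMc⟩ := Transfer.coatom_pGroup P.2 hM
  haveI := hMn
  letI : CommGroup ((P : Subgroup H) ⧸ M) :=
    { (inferInstance : Group ((P : Subgroup H) ⧸ M)) with
      mul_comm := by
        intro a b
        induction a using QuotientGroup.induction_on with | _ a =>
        induction b using QuotientGroup.induction_on with | _ b =>
        have := (QuotientGroup.eq_one_iff _).2 (hMc a b)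
        simp only [QuotientGroup.mk_mul, QuotientGroup.mk_inv] at this
        exact commutatorElement_eq_one_iff_mul_comm.1 (by rw [commutatorElement_def]; exact this) }
  have key : ∀ (k : ℕ) (g₀ : H), g₀⁻¹ * z ^ k * g₀ ∈ (P : Subgroup H) → g₀⁻¹ * z ^ k * g₀ = z ^ k := by
    intro k g₀ _
    rw [Subgroup.mem_center_iff.1 (pow_mem (hc hzk) k) g₀⁻¹, inv_mul_cancel_right]
  let φ : (P : Subgroup H) →* (P : Subgroup H) ⧸ M := QuotientGroup.mk' M
  have h1 := MonoidHom.transfer_eq_pow φ z key
  have h2 : MonoidHom.transfer φ z = 1 :=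
    Abelianization.commutator_subset_ker _ (hH ▸ Subgroup.mem_top z)
  rw [h2] at h1
  have h3 : ((⟨z, hzP⟩ : (P : Subgroup H)) : (P : Subgroup H) ⧸ M) ^ (P : Subgroup H).index = 1 := by
    rw [← QuotientGroup.mk_pow]; exact h1.symm
  obtain ⟨m, hm⟩ := P.2 ⟨z, hzP⟩
  refine (QuotientGroup.eq_one_iff _).1 (Transfer.eq_one_of_pow_of_coprime h3 (n := p ^ m) ?_ ?_)
  · rw [← QuotientGroup.mk_pow, hm]; rfl
  · exact (((Fact.out : p.Prime).coprime_iff_not_dvd.2 P.not_dvd_index).symm).pow_right m

end Cfsg.Agent.S0101
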