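import Cfsg.Statements.S0104
import Cfsg.Agent.Lib.Transfer.Fusion

set_option autoImplicit false
open Cfsg
set_option linter.style.haveILetI false

namespace Cfsg.Agent.S0104

/-- A subgroup Z of a Sylow p-subgroup P that is normalized by N_G(P) is weakly closed in P exactly when it is normal in every Sylow p-subgroup containing it. -/
theorem result {G : Type*} [Group G] [Finite G] {p : ℕ} [Fact p.Prime] (P : Sylow p G) (Z : Subgroup G) (hZP : Z ≤ (P : Subgroup G)) (hZN : Subgroup.normalizer (P : Set G) ≤ Subgroup.normalizer (Z : Set G)) : Cfsg.IsWeaklyClosed Z P ↔ ∀ R : Sylow p G, Z ≤ (R : Subgroup G) → (R : Subgroup G) ≤ Subgroup.normalizer (Z : Set G) := by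
  have hPZ : (P : Subgroup G) ≤ Subgroup.normalizer (Z : Set G) := Subgroup.le_normalizer.trans hZN
  constructor
  · intro hW R hR
    obtain ⟨r, rfl⟩ := MulAction.exists_smul_eq G P R
    have hr : r⁻¹ ∈ Subgroup.normalizer (Z : Set G) := by
      refine Transfer.mem_normalizer_of_weaklyClosed hW fun w hw => ?_
      obtain ⟨y, hy, hyw⟩ := hR hw
      have hyw' : r * y * r⁻¹ = w := hyw
      have hy' : y ∈ (P : Subgroup G) := hy
      rw [← hyw']
      simpa [mul_assoc] using hy'
    rintro _ ⟨y, hy, rfl⟩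
    have h1 := mul_mem (mul_mem (inv_mem hr) (hPZ hy)) hr
    simpa using h1
  · intro h
    refine ⟨hZP, fun g hg => ?_⟩
    have h1 : Z ≤ ((g⁻¹ • P : Sylow p G) : Subgroup G) := fun z hz =>
      ⟨g * z * g⁻¹, hg ⟨z, hz, rfl⟩, by simp [mul_assoc]⟩
    obtain ⟨c, hc⟩ := MulAction.exists_smul_eq (Subgroup.normalizer (Z : Set G))
      ((g⁻¹ • P).subtype (h _ h1)) (P.subtype hPZ)
    simp_rw [Sylow.smul_subtype, Subgroup.smul_def, smul_smul] at hc
    have h2 := hZN (Sylow.smul_eq_iff_mem_normalizer.mp (Sylow.subtype_injective hc))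
    have h3 : g⁻¹ ∈ Subgroup.normalizer (Z : Set G) := by simpa using mul_mem (inv_mem c.2) h2
    rw [inv_mem_iff] at h3
    refine le_antisymm ?_ fun z hz => ⟨g⁻¹ * z * g, ?_, by simp [mul_assoc]⟩
    · rintro _ ⟨z, hz, rfl⟩
      exact (Subgroup.mem_normalizer_iff.mp h3 z).mp hz
    · exact (Subgroup.mem_normalizer_iff.mp h3 _).mpr (by simpa [mul_assoc] using hz)

end Cfsg.Agent.S0104
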