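import Cfsg.Statements.S0106
import Cfsg.Agent.Lib.Transfer.Frobenius
import Cfsg.Agent.Lib.PGroup.UniqueInvolutionAut
import Cfsg.Agent.Lib.Involution.QuaternionFactor
import Cfsg.Agent.Lib.SharplyLinear.SL23
import Cfsg.Agent.Lib.Coprime.Basic
-- import your own Cfsg.Agent.* helpers here

set_option autoImplicit false
open Cfsg

namespace Cfsg.Agent.S0106

open scoped MatrixGroups

set_option synthInstance.maxSize 2048 in
set_option synthInstance.maxHeartbeats 100000 in
theorem q8_triple : ∀ u v w : QuaternionGroup 2, u * v ≠ v * u → v * w ≠ w * v → u * w ≠ w * u →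
    u ^ 4 = 1 ∧ v * v = u * u ∧ v * u = u ^ 3 * v ∧ (w = u * v ∨ v = u * w) := by decide +kernel

theorem q8_gen : ∀ u v : QuaternionGroup 2, u * v ≠ v * u →
    ∀ q, ∃ i j : Fin 4, q = u ^ (i : ℕ) * v ^ (j : ℕ) := by decide +kernel

theorem q8_comm : ∀ u v : QuaternionGroup 2, u * v = v * u → u * u ≠ 1 → v * v ≠ 1 →
    v = u ∨ v = u⁻¹ := by decide +kernel

theorem q8_sq : ∀ q : QuaternionGroup 2, q * q = 1 → q = 1 ∨ q = QuaternionGroup.a 2 := by
  decide +kernel

theorem q8_card : Nat.card (QuaternionGroup 2) = 8 := by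
  rw [Nat.card_eq_fintype_card]; rfl

/-- An automorphism of order three of a quaternion group of order 8 permutes cyclically a triple of
generators. -/
theorem exists_triple {R : Type*} [Group R] (e : R ≃* QuaternionGroup 2) (φ : MulAut R)
    (h3 : φ ^ 3 = 1) (h1 : φ ≠ 1) :
    ∃ a b : R, ∃ s : MulAut R, (s = φ ∨ s = φ⁻¹) ∧ a ^ 4 = 1 ∧ b * b = a * a ∧ b * a = a ^ 3 * b ∧
      s a = b ∧ s b = a * b ∧ Subgroup.closure ({a, b} : Set R) = ⊤ := by
  have hc : ∀ x y : R, x * y = y * x ↔ e x * e y = e y * e x := fun x y => by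
    rw [← map_mul, ← map_mul, e.injective.eq_iff]
  have hφ3 : ∀ x, φ (φ (φ x)) = x := fun x => DFunLike.congr_fun h3 x
  have hex : ∃ u, u * φ u ≠ φ u * u := by
    by_contra! hall
    refine h1 (MulEquiv.ext fun u => ?_)
    by_cases hu : u * u = 1
    · have hu' : φ u * φ u = 1 := by rw [← map_mul, hu, map_one]
      rcases q8_sq (e u) (by rw [← map_mul, hu, map_one]) with h | h
      · rw [EmbeddingLike.map_eq_one_iff] at h
        subst h; simp
      · rcases q8_sq (e (φ u)) (by rw [← map_mul, hu', map_one]) with h' | h'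
        · rw [EmbeddingLike.map_eq_one_iff, EmbeddingLike.map_eq_one_iff] at h'
          subst h'; simp
        · exact e.injective (h'.trans h.symm)
    · have hu' : φ u * φ u ≠ 1 := fun h => hu (φ.injective (by rw [map_mul, h, map_one]))
      rcases q8_comm _ _ ((hc _ _).1 (hall u))
        (fun h => hu (e.injective (by rw [map_mul, h, map_one])))
        (fun h => hu' (e.injective (by rw [map_mul, h, map_one]))) with h | h
      · exact e.injective h
      · rw [← map_inv] at h
        have h' := e.injective h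
        have := hφ3 u
        rw [h', map_inv, h', inv_inv, h'] at this
        exact absurd (show u * u = 1 by nth_rewrite 1 [← this]; exact inv_mul_cancel u) hu
  obtain ⟨u, hu⟩ := hex
  set v := φ u with hv
  set w := φ v with hw
  have hwu : φ w = u := hφ3 u
  have hvw : v * w ≠ w * v := fun h => hu (φ.injective (by rw [map_mul, map_mul, ← hv, ← hw]; exact h))
  have huw : u * w ≠ w * u := fun h =>
    hu (φ.symm.injective.eq_iff.1 (by
      have e1 : φ.symm u = w := by rw [MulEquiv.symm_apply_eq]; exact hwu.symm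
      have e2 : φ.symm v = u := by rw [MulEquiv.symm_apply_eq]
      rw [map_mul, map_mul, e1, e2]; exact h.symm))
  obtain ⟨f4, f2, f3, hcase⟩ := q8_triple (e u) (e v) (e w) (fun h => hu ((hc _ _).2 h))
    (fun h => hvw ((hc _ _).2 h)) (fun h => huw ((hc _ _).2 h))
  have hgen : ∀ x y : R, x * y ≠ y * x → Subgroup.closure ({x, y} : Set R) = ⊤ := by
    intro x y hxy
    refine eq_top_iff.2 fun q _ => ?_
    obtain ⟨i, j, hq⟩ := q8_gen (e x) (e y) (fun h => hxy ((hc _ _).2 h)) (e q)
    rw [← map_pow, ← map_pow, ← map_mul, e.injective.eq_iff] at hq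
    rw [hq]
    exact mul_mem (pow_mem (Subgroup.subset_closure (by simp)) _)
      (pow_mem (Subgroup.subset_closure (by simp)) _)
  rcases hcase with h | h
  · refine ⟨u, v, φ, Or.inl rfl, e.injective (by simpa using f4), e.injective (by simpa using f2),
      e.injective (by simpa using f3), rfl, ?_, hgen u v hu⟩
    exact e.injective (by rw [map_mul, ← h])
  · obtain ⟨g4, g2, g3, -⟩ := q8_triple (e u) (e w) (e v) (fun h => huw ((hc _ _).2 h))
      (fun h => hvw ((hc _ _).2 h).symm) (fun h => hu ((hc _ _).2 h))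
    refine ⟨u, w, φ⁻¹, Or.inr rfl, e.injective (by simpa using g4), e.injective (by simpa using g2),
      e.injective (by simpa using g3), ?_, ?_, hgen u w huw⟩
    · show φ.symm u = w
      rw [MulEquiv.symm_apply_eq]; exact hwu.symm
    · show φ.symm w = u * w
      rw [MulEquiv.symm_apply_eq]
      show φ v = φ (u * w)
      exact congrArg φ (e.injective (by rw [map_mul, ← h]))

/-- A quaternion group of order 8 and a 3-element acting on it as a triple give an `SL(2,3)` section. -/
theorem exists_section {G : Type*} [Group G] [Finite G] (a b t : G) (r4 : a ^ 4 = 1)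
    (r2 : b * b = a * a) (r3 : b * a = a ^ 3 * b) (hta : t * a = b * t) (htb : t * b = a * b * t)
    (hcard : Nat.card ↥(Subgroup.closure ({a, b} : Set G)) = 8) {k : ℕ} (hk : orderOf t = 3 ^ k)
    (hab : a ≠ b) :
    ∃ (H K : Subgroup G) (_ : (K.subgroupOf H).Normal),
      Nonempty ((H ⧸ K.subgroupOf H) ≃* SL(2, ZMod 3)) := by
  set Q := Subgroup.closure ({a, b} : Set G) with hQ
  set T := Subgroup.zpowers t with hT
  set H := Q ⊔ T with hH
  set C := Subgroup.zpowers (t * t * t) with hC
  have haQ : a ∈ Q := Subgroup.subset_closure (by simp)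
  have hbQ : b ∈ Q := Subgroup.subset_closure (by simp)
  have hTQ : T ≤ Subgroup.normalizer (Q : Set G) := by
    rw [hT, Subgroup.zpowers_le, Subgroup.mem_normalizer_iff_map_conj_eq]
    refine Subgroup.eq_of_le_of_card_ge ?_ (Subgroup.card_map_of_injective (MulAut.conj t).injective).ge
    rw [hQ, MonoidHom.map_closure, Subgroup.closure_le]
    rintro _ ⟨x, rfl | rfl, rfl⟩
    · show t * x * t⁻¹ ∈ Q
      rw [hta, mul_inv_cancel_right]; exact hbQ
    · show t * x * t⁻¹ ∈ Q
      rw [htb, mul_inv_cancel_right]; exact mul_mem haQ hbQ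
  have hbab : b * (a * b) = a := by
    calc b * (a * b) = b * a * b := (mul_assoc _ _ _).symm
      _ = a ^ 3 * (b * b) := by rw [r3, mul_assoc]
      _ = a ^ 4 * a := by rw [r2]; simp only [pow_succ, pow_zero, one_mul, mul_assoc]
      _ = a := by rw [r4, one_mul]
  have hta3 : t * t * t * a = a * (t * t * t) := by
    calc t * t * t * a = t * (t * (t * a)) := by simp only [mul_assoc]
      _ = t * (t * b * t) := by rw [hta, mul_assoc]
      _ = t * (a * b * t * t) := by rw [htb]
      _ = t * a * b * t * t := by simp only [mul_assoc]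
      _ = b * (t * b) * t * t := by rw [hta]; simp only [mul_assoc]
      _ = b * (a * b) * t * t * t := by rw [htb]; simp only [mul_assoc]
      _ = a * (t * t * t) := by rw [hbab]; simp only [mul_assoc]
  have htb3 : t * t * t * b = b * (t * t * t) := by
    calc t * t * t * b = t * t * t * (t * a * t⁻¹) := by rw [hta, mul_inv_cancel_right]
      _ = t * (t * t * t * a) * t⁻¹ := by simp only [mul_assoc]
      _ = t * a * (t * t * t * t⁻¹) := by rw [hta3]; simp only [mul_assoc]
      _ = b * (t * t * t) := by rw [hta]; simp [mul_assoc]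
  have hcomm : H ≤ Subgroup.centralizer {t * t * t} := by
    refine sup_le ((Subgroup.closure_le _).2 ?_) (Subgroup.zpowers_le.2 ?_)
    · rintro x (rfl | rfl) <;> rw [SetLike.mem_coe, Subgroup.mem_centralizer_singleton_iff]
      exacts [hta3.symm, htb3.symm]
    · rw [Subgroup.mem_centralizer_singleton_iff]; simp only [mul_assoc]
  have hn : (C.subgroupOf H).Normal := ⟨fun c hc g => by
    have hg := Subgroup.mem_centralizer_singleton_iff.1 (hcomm g.2)
    obtain ⟨i, hi⟩ := Subgroup.mem_subgroupOf.1 hc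
    simp only at hi
    rw [Subgroup.mem_subgroupOf, Subgroup.coe_mul, Subgroup.coe_mul, Subgroup.coe_inv, ← hi,
      ((show Commute (g : G) (t * t * t) from hg).zpow_right i).eq, mul_inv_cancel_right]
    exact ⟨i, rfl⟩⟩
  have hk0 : k ≠ 0 := by
    rintro rfl
    rw [pow_zero, orderOf_eq_one_iff] at hk
    subst hk
    exact hab (by simpa using hta)
  have hdisj : T ⊓ Q = ⊥ := by
    refine Subgroup.inf_eq_bot_of_coprime ?_
    rw [hcard, hT, Nat.card_zpowers, hk]
    exact Nat.Coprime.pow_left k (by norm_num)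
  have hHcard : Nat.card H = 3 ^ k * 8 := by
    rw [hH, sup_comm, Cfsg.Agent.Coprime.card_sup_of_le_normalizer hTQ hdisj, hcard, hT,
      Nat.card_zpowers, hk]
  have hCH : C ≤ H := by
    rw [hC, Subgroup.zpowers_le]
    exact mul_mem (mul_mem (Subgroup.mem_sup_right (Subgroup.mem_zpowers t))
      (Subgroup.mem_sup_right (Subgroup.mem_zpowers t))) (Subgroup.mem_sup_right (Subgroup.mem_zpowers t))
  have hX : Nat.card (H ⧸ C.subgroupOf H) = 24 := by
    obtain ⟨j, rfl⟩ := Nat.exists_eq_succ_of_ne_zero hk0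
    have hCc : Nat.card (C.subgroupOf H) = 3 ^ j := by
      rw [Nat.card_congr (Subgroup.subgroupOfEquivOfLe hCH).toEquiv, hC, Nat.card_zpowers,
        show t * t * t = t ^ 3 by simp [pow_succ, mul_assoc], orderOf_pow' t (by norm_num), hk,
        pow_succ, Nat.gcd_mul_left_left, Nat.mul_div_cancel _ (by norm_num)]
    have h1 := Subgroup.card_eq_card_quotient_mul_card_subgroup (C.subgroupOf H)
    rw [hHcard, hCc] at h1
    refine Nat.eq_of_mul_eq_mul_right (by positivity : 0 < 3 ^ j) ?_
    rw [← h1, pow_succ]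
    ring
  let π := QuotientGroup.mk' (C.subgroupOf H)
  let a₀ : H := ⟨a, Subgroup.mem_sup_left haQ⟩
  let b₀ : H := ⟨b, Subgroup.mem_sup_left hbQ⟩
  let t₀ : H := ⟨t, Subgroup.mem_sup_right (Subgroup.mem_zpowers t)⟩
  refine ⟨H, C, hn, Cfsg.Agent.SharplyLinear.nonempty_equiv_SL23 hX (a := π a₀) (b := π b₀) (t := π t₀)
    ⟨?_, ?_, ?_, ?_, ?_, ?_⟩ ?_⟩
  · rw [← map_pow, show a₀ ^ 4 = 1 from Subtype.ext r4, map_one]
  · rw [← map_mul, ← map_mul, show b₀ * b₀ = a₀ * a₀ from Subtype.ext r2]
  · rw [← map_pow, ← map_mul, ← map_mul, show b₀ * a₀ = a₀ ^ 3 * b₀ from Subtype.ext r3]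
  · rw [← map_mul, ← map_mul]
    exact (QuotientGroup.eq_one_iff _).2 (Subgroup.mem_subgroupOf.2 (Subgroup.mem_zpowers _))
  · rw [← map_mul, ← map_mul, show t₀ * a₀ = b₀ * t₀ from Subtype.ext hta]
  · rw [← map_mul, ← map_mul, ← map_mul, show t₀ * b₀ = a₀ * b₀ * t₀ from Subtype.ext htb]
  · have htop : Subgroup.closure ({a₀, b₀, t₀} : Set H) = ⊤ := by
      rw [eq_top_iff, ← Subgroup.map_le_map_iff_of_injective H.subtype_injective,
        MonoidHom.map_closure, ← MonoidHom.range_eq_map, Subgroup.range_subtype]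
      refine sup_le ((Subgroup.closure_le _).2 ?_) (Subgroup.zpowers_le.2 (Subgroup.subset_closure ?_))
      · rintro x (rfl | rfl) <;> exact Subgroup.subset_closure (by simp [a₀, b₀, Set.image_insert_eq])
      · simp [t₀, Set.image_insert_eq]
    have := congrArg (Subgroup.map π) htop
    rw [MonoidHom.map_closure, Subgroup.map_top_of_surjective π (QuotientGroup.mk'_surjective _)] at this
    simpa [Set.image_insert_eq] using this

/-- A finite group with generalized quaternion Sylow 2-subgroups either has a normal 2-complement or has a section isomorphic to SL(2,3). -/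
theorem result {G : Type*} [Group G] [Finite G] (T : Sylow 2 G) (n : ℕ) (hn : 1 ≤ n) (hT : Nonempty ((T : Subgroup G) ≃* QuaternionGroup (2 ^ n))) : Cfsg.HasNormalPComplement 2 G ∨ ∃ (H K : Subgroup G) (hK : (K.subgroupOf H).Normal), Nonempty ((H ⧸ K.subgroupOf H) ≃* Matrix.SpecialLinearGroup (Fin 2) (ZMod 3)) := by
  classical
  haveI : Fact (Nat.Prime 2) := ⟨Nat.prime_two⟩
  refine or_iff_not_imp_left.2 fun hno => ?_
  have hnot : ¬ ∀ Q : Subgroup G, Q ≤ (T : Subgroup G) → ∀ g ∈ Subgroup.normalizer (Q : Set G),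
      Nat.Coprime (orderOf g) 2 → g ∈ Subgroup.centralizer (Q : Set G) := fun h =>
    hno (Cfsg.Agent.Transfer.hasNormalPComplement_of_centralizer T h)
  push Not at hnot
  obtain ⟨Q, hQT, g, hgN, hg2, hgC⟩ := hnot
  set f := Subgroup.normalizerMonoidHom Q with hf
  have hval : ∀ (x : ↥(Subgroup.normalizer (Q : Set G))) (q : Q),
      ((f x q : Q) : G) = (x : G) * q * (x : G)⁻¹ := fun x q => rfl
  set φ := f ⟨g, hgN⟩ with hφ
  have hφ1 : φ ≠ 1 := fun h => hgC (Subgroup.mem_centralizer_iff.2 fun q hq => by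
    have e : g * q * g⁻¹ = q := by
      rw [← hval ⟨g, hgN⟩ ⟨q, hq⟩, ← hφ, h]; rfl
    conv_lhs => rw [← e]
    group)
  have hQ2 : IsPGroup 2 Q := T.2.to_le hQT
  obtain ⟨eT⟩ := hT
  have huniq : ∀ x y : Q, orderOf x = 2 → orderOf y = 2 → x = y := by
    intro x y hx hy
    have key : ∀ z : Q, orderOf z = 2 → eT ⟨z, hQT z.2⟩ =
        QuaternionGroup.a ((2 ^ n : ℕ) : ZMod (2 * 2 ^ n)) := by
      intro z hz
      obtain ⟨hz1, hz2⟩ := orderOf_eq_prime_iff.1 hz
      refine Cfsg.Agent.QuaternionFactor.quat_involution ?_ ?_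
      · rw [← map_pow, EmbeddingLike.map_eq_one_iff]
        exact Subtype.ext (show (z : G) ^ 2 = 1 by rw [← Subgroup.coe_pow, hz1, Subgroup.coe_one])
      · rw [Ne, EmbeddingLike.map_eq_one_iff]
        exact fun h => hz2 (Subtype.ext (congrArg (fun w : (T : Subgroup G) => (w : G)) h))
    have := eT.injective ((key x hx).trans (key y hy).symm)
    exact Subtype.ext (congrArg (fun w : (T : Subgroup G) => (w : G)) this)
  have hodd : Odd (orderOf g) := Nat.coprime_two_right.1 hg2
  have hφm : φ ^ orderOf g = 1 := by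
    rw [hφ, ← map_pow, show (⟨g, hgN⟩ : ↥(Subgroup.normalizer (Q : Set G))) ^ orderOf g = 1 from
      Subtype.ext (pow_orderOf_eq_one g), map_one]
  obtain ⟨hφ3, hφ8⟩ := Cfsg.Agent.PGroup.mulAut_odd_of_unique_involution hQ2 huniq φ hodd hφm
  have hQ8 : Nat.card Q = 8 := by_contra fun h => hφ1 (hφ8 h)
  obtain ⟨e⟩ : Nonempty (Q ≃* QuaternionGroup 2) := by
    have hsub : ∀ H K : Subgroup Q, Nat.card H = 2 → Nat.card K = 2 → H = K := by
      intro H K hH hK
      obtain ⟨x, hx⟩ := exists_prime_orderOf_dvd_card' (G := H) 2 (dvd_of_eq hH.symm)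
      obtain ⟨y, hy⟩ := exists_prime_orderOf_dvd_card' (G := K) 2 (dvd_of_eq hK.symm)
      rw [← Subgroup.orderOf_coe] at hx hy
      have hxy := huniq _ _ hx hy
      have h1 : H = Subgroup.zpowers (x : Q) := (Subgroup.eq_of_le_of_card_ge
        (Subgroup.zpowers_le.2 x.2) (by rw [hH, Nat.card_zpowers, hx])).symm
      have h2 : K = Subgroup.zpowers (y : Q) := (Subgroup.eq_of_le_of_card_ge
        (Subgroup.zpowers_le.2 y.2) (by rw [hK, Nat.card_zpowers, hy])).symm
      rw [h1, h2, hxy]
    rcases Cfsg.Agent.PGroup.cyclic_or_quaternion_of_unique hQ2 hsub with hc | ⟨-, m, hm, hcard, hiso⟩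
    · exfalso
      have h1 : Nat.card (MulAut Q) = 4 := by rw [IsCyclic.card_mulAut, hQ8]; rfl
      exact hφ1 (Cfsg.Agent.PGroup.eq_one_of_pow_two_pow_of_pow_odd hodd hφm (k := 2)
        (by have := pow_card_eq_one' (x := φ); rwa [h1] at this))
    · have hm1 : m = 1 := by
        obtain ⟨e'⟩ := hiso
        have h2 := Nat.card_congr e'.toEquiv
        haveI : NeZero (2 ^ m) := ⟨by positivity⟩
        rw [hQ8, Nat.card_eq_fintype_card, QuaternionGroup.card] at h2
        have h4 : 2 ^ m = 2 ^ 1 := by omega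
        exact Nat.pow_right_injective le_rfl h4
      subst hm1
      exact hiso
  -- pass to the 3-part of `g`
  obtain ⟨k, r, hr, hkr⟩ := Nat.exists_eq_pow_mul_and_not_dvd (orderOf_pos g).ne' 3 (by norm_num)
  set t : ↥(Subgroup.normalizer (Q : Set G)) := ⟨g, hgN⟩ ^ r with ht
  have ht3 : f t ^ 3 = 1 := by rw [ht, map_pow, ← hφ, ← pow_mul, mul_comm, pow_mul, hφ3, one_pow]
  have ht1 : f t ≠ 1 := fun h => hφ1 (by
    rw [ht, map_pow, ← hφ] at h
    exact orderOf_eq_one_iff.1 (Nat.eq_one_of_dvd_coprimes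
      ((Nat.prime_three.coprime_iff_not_dvd).2 hr) (orderOf_dvd_of_pow_eq_one hφ3)
      (orderOf_dvd_of_pow_eq_one h)))
  obtain ⟨a, b, s, hs, r4, r2, r3, hsa, hsb, hgen⟩ := exists_triple e (f t) ht3 ht1
  obtain ⟨y, hy, hyo⟩ : ∃ y : ↥(Subgroup.normalizer (Q : Set G)), f y = s ∧ orderOf y ∣ 3 ^ k := by
    have hto : orderOf t ∣ 3 ^ k := orderOf_dvd_of_pow_eq_one (by
      rw [ht, ← pow_mul, mul_comm, ← hkr]; exact Subtype.ext (pow_orderOf_eq_one g))
    rcases hs with rfl | rfl
    · exact ⟨t, rfl, hto⟩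
    · exact ⟨t⁻¹, map_inv f t, by rwa [orderOf_inv]⟩
  obtain ⟨j, -, hj⟩ := (Nat.dvd_prime_pow Nat.prime_three).1 hyo
  have hcl : Nat.card ↥(Subgroup.closure ({(a : G), (b : G)} : Set G)) = 8 := by
    have : (Subgroup.closure ({a, b} : Set Q)).map Q.subtype = Subgroup.closure ({(a : G), (b : G)} : Set G) := by
      rw [MonoidHom.map_closure, Set.image_pair]; rfl
    rw [← this, hgen, ← MonoidHom.range_eq_map, Subgroup.range_subtype, hQ8]
  refine exists_section (a : G) (b : G) (y : G) (by rw [← Subgroup.coe_pow, r4, Subgroup.coe_one])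
    (congrArg Subtype.val r2) (congrArg Subtype.val r3) ?_ ?_ hcl (k := j)
    (by rw [Subgroup.orderOf_coe, hj]) ?_
  · have h := hval y a
    rw [hy, hsa] at h
    rw [h, inv_mul_cancel_right]
  · have h := hval y b
    rw [hy, hsb, Subgroup.coe_mul] at h
    rw [h, inv_mul_cancel_right]
  · intro hab
    have : a = b := Subtype.ext hab
    subst this
    rw [Set.pair_eq_singleton, ← Subgroup.zpowers_eq_closure] at hgen
    have h8 := congrArg (fun H : Subgroup Q => Nat.card H) hgen
    simp only [Nat.card_zpowers, Subgroup.card_top, hQ8] at h8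
    have := orderOf_dvd_of_pow_eq_one r4
    rw [h8] at this
    norm_num at this


end Cfsg.Agent.S0106
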