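import Cfsg.Statements.S0109
import Cfsg.Agent.Lib.PComplement.GlaubermanThompson
import Cfsg.Agent.Lib.Offender.Factorization
import Cfsg.Agent.Lib.Quadratic.Stability

set_option autoImplicit false
open Cfsg

namespace Cfsg.Agent.S0109

/-- The Thompson factorization Theorem for solvable groups states that, with p odd (and abelian Sylow 2-subgroups when p = 3) and no nontrivial normal subgroup of order prime to p, every element of G is a product of an element normalizing J(P) and an element centralizing the elements of order dividing p in the centre of P. -/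
theorem result {G : Type*} [Group G] [Finite G] {p : ℕ} [Fact p.Prime] (hp : p ≠ 2) (hs : Group.IsSolvable G) (h3 : p = 3 → ∀ T : Sylow 2 G, IsMulCommutative T) (hF : ∀ N : Subgroup G, N.Normal → Nat.Coprime (Nat.card N) p → N = ⊥) (P : Sylow p G) (g : G) : ∃ a ∈ Subgroup.normalizer (Cfsg.thompsonSubgroupOf p (P : Subgroup G) : Set G), ∃ c ∈ Subgroup.centralizer {x : G | x ∈ (P : Subgroup G) ∧ (∀ y ∈ (P : Subgroup G), x * y = y * x) ∧ x ^ p = 1}, g = a * c := by
  have hbot : Cfsg.pPrimeCore p G = ⊥ :=
    hF _ inferInstance PCore.coprime_card_pPrimeCore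
  haveI := hs
  have hc := PCore.centralizer_pCore_le_of_isSolvable hbot
  set V := ⨆ S : Sylow p G, Offender.omegaZ p (S : Subgroup G) with hV
  haveI hVn : V.Normal := Offender.iSup_omegaZ_normal
  have hVE : Cfsg.IsElementaryAbelian p V := Offender.isElementaryAbelian_iSup_omegaZ hc
  have hVp : IsPGroup p V := fun v => ⟨1, Subtype.ext (by rw [pow_one]; exact hVE.2 v v.2)⟩
  have hVP : V ≤ (P : Subgroup G) := hVp.le_sylow_of_normal P
  set C := Subgroup.centralizer (V : Set G) with hC
  have hcore := Offender.pCore_quotient_centralizer_eq_bot (V := V) Offender.omegaZ_le_iSup_inf_centralizer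
  have hst : Cfsg.IsPStableOn p V := by
    by_cases h5 : 5 ≤ p
    · exact Quadratic.isPStableOn_of_pSolvable h5 PCore.isPSolvable_of_isSolvable V hVE
    · have hp3 : p = 3 := by
        have h1 := (Fact.out : p.Prime).two_le
        rcases (show p = 2 ∨ p = 3 ∨ p = 4 by omega) with h | h | h
        · exact absurd h hp
        · exact h
        · exact absurd (h ▸ (Fact.out : p.Prime)) (by decide)
      exact Quadratic.isPStableOn_of_abelian_sylow_two hp (h3 hp3) V hVE
  -- every member centralises V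
  have hall : ∀ A, PComplement.IsMember True p P A → A ≤ C := by
    by_contra hne
    push Not at hne
    obtain ⟨A₀, hA₀, hA₀C⟩ := hne
    obtain ⟨A, ⟨hA, hAC⟩, hmax⟩ :=
      (Set.toFinite {A | PComplement.IsMember True p P A ∧ ¬ A ≤ C}).exists_maximalFor
        (fun A : Subgroup G => Nat.card ↥(A ⊓ V)) _ ⟨A₀, hA₀, hA₀C⟩
    have hVA : V ≤ Subgroup.normalizer (A : Set G) := by
      by_contra hnot
      have hVV : ⁅V, V⁆ = ⊥ :=
        Subgroup.commutator_eq_bot_iff_le_centralizer.2 fun x hx => Subgroup.mem_centralizer_iff.2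
          fun y hy => congrArg Subtype.val (hVE.1.is_comm.comm ⟨y, hy⟩ ⟨x, hx⟩)
      have h0 : ⁅V, V⁆ ≤ Subgroup.centralizer (V : Set G) := by rw [hVV]; exact bot_le
      have h1 : A ≤ Subgroup.centralizer ((⁅V, V⁆ : Subgroup G) : Set G) := by
        rw [hVV]
        intro z _
        refine Subgroup.mem_centralizer_iff.2 fun w hw => ?_
        rw [Subgroup.mem_bot.1 hw, one_mul, mul_one]
      obtain ⟨A', hA', hlt, hnorm⟩ := hA.exists_replacement hp hVP h0 h1 hnot
      by_cases hU : A' ≤ C
      · exact hnot (le_trans (fun x hx => hA'.mem_of_centralizes (hVP hx) (hVE.2 x hx)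
          fun a ha => (Subgroup.mem_centralizer_iff.1 (hU ha) x hx).symm) hnorm)
      · exact absurd (hmax ⟨hA', hU⟩ hlt.le) (Nat.not_le.2 hlt)
    apply hAC
    intro a ha
    have hq : ⁅⁅V, Subgroup.zpowers a⁆, Subgroup.zpowers a⁆ = ⊥ := by
      have h1 : ⁅V, Subgroup.zpowers a⁆ ≤ A := by
        rw [Subgroup.commutator_le]
        intro v hv z hz
        have hzA : z ∈ A := Subgroup.zpowers_le.2 ha hz
        exact mul_mem ((Subgroup.mem_normalizer_iff.1 (hVA hv) z).1 hzA) (inv_mem hzA)
      refine Subgroup.commutator_eq_bot_iff_le_centralizer.2 fun x hx => Subgroup.mem_centralizer_iff.2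
        fun z hz => ?_
      exact congrArg Subtype.val (hA.1.2.1.is_comm.comm ⟨z, Subgroup.zpowers_le.2 ha hz⟩ ⟨x, h1 hx⟩)
    have h2 := hst a hq
    rw [hcore, Subgroup.mem_bot] at h2
    exact (QuotientGroup.eq_one_iff a).1 h2
  have hJ : Cfsg.thompsonSubgroupOf p (P : Subgroup G) ≤ C := by
    rw [PGroup.thompsonSubgroupOf_eq]
    exact sSup_le fun A hA => hall A (PComplement.isMember_iff_isMaxEA.2 hA)
  have htop := Offender.sup_normalizer_thompson_eq_top P C hJ
  obtain ⟨a, ha, c, hcC, hg⟩ := Subgroup.mem_sup_of_normal_right.1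
    ((sup_comm C _ ▸ htop).symm ▸ Subgroup.mem_top g)
  refine ⟨a, ha, c, Subgroup.mem_centralizer_iff.2 ?_, hg.symm⟩
  rintro x ⟨hxP, hxc, hxp⟩
  refine Subgroup.mem_centralizer_iff.1 hcC x
    (le_iSup (fun S : Sylow p G => Offender.omegaZ p (S : Subgroup G)) P
      (PGroup.mem_omegaOne_of_pow_eq_one ?_ hxp))
  exact ⟨hxP, fun y hy => (hxc y hy).symm⟩

end Cfsg.Agent.S0109
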