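import Cfsg.Statements.S0110
import Cfsg.Agent.Lib.PGroup.HomCount
import Cfsg.Agent.Lib.PGroup.Basic

set_option autoImplicit false
open Cfsg
open scoped commutatorElement

namespace Cfsg.Agent.S0110

/-- In a p-group G, an extraspecial subgroup E with [G, E] ≤ Z(E) satisfies G = E C_G(E). -/
theorem result {G : Type*} [Group G] [Finite G] {p : ℕ} [Fact p.Prime] (hG : IsPGroup p G) (E : Subgroup G) (hE : Cfsg.IsExtraspecial p E) (h : ⁅(⊤ : Subgroup G), E⁆ ≤ E ⊓ Subgroup.centralizer (E : Set G)) : E ⊔ Subgroup.centralizer (E : Set G) = ⊤ := by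
  obtain ⟨⟨hEp, hfr, hder⟩, hcardZ⟩ := hE
  set C := Subgroup.centralizer (E : Set G) with hC
  have hmap : E ⊓ C = (Subgroup.center E).map E.subtype := by
    ext x
    constructor
    · rintro ⟨hxE, hxC⟩
      exact ⟨⟨x, hxE⟩, Subgroup.mem_center_iff.2 fun y => Subtype.ext (Subgroup.mem_centralizer_iff.1 hxC y y.2), rfl⟩
    · rintro ⟨y, hy, rfl⟩
      exact ⟨y.2, Subgroup.mem_centralizer_iff.2 fun w hw => congrArg Subtype.val (Subgroup.mem_center_iff.1 hy ⟨w, hw⟩)⟩
  set Z := E ⊓ C with hZdef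
  have hZp : Nat.card Z = p := by
    rw [hmap, ← Nat.card_congr ((Subgroup.center E).equivMapOfInjective E.subtype Subtype.coe_injective).toEquiv, hcardZ]
  haveI hEn : E.Normal := ⟨fun n hn g => by
    have h1 : ⁅g, n⁆ ∈ E := (h (Subgroup.commutator_mem_commutator (Subgroup.mem_top g) hn)).1
    have h2 := mul_mem h1 hn
    simpa [commutatorElement_def] using h2⟩
  have hCn : C.Normal := inferInstance
  haveI hZn : Z.Normal := inferInstance
  have hZc : Z ≤ Subgroup.center G := PGroup.le_center_of_card_eq hG Z hZp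
  have hEE : ⁅E, E⁆ ≤ Z := le_trans (Subgroup.commutator_mono le_top le_rfl) h
  have hb := PGroup.relIndex_centralizer_le_of_bracket ⊤ E Z inf_le_left hZc hZp hEE h
  rw [Subgroup.relIndex_top_right] at hb
  have h1 : C.relIndex (E ⊔ C) = Z.relIndex E := by
    rw [Subgroup.relIndex_sup_right, hZdef, inf_comm, Subgroup.inf_relIndex_right]
  have h2 := Subgroup.relIndex_mul_index (le_sup_right : C ≤ E ⊔ C)
  rw [h1] at h2
  have h3 : (E ⊔ C).index ≤ 1 := by
    refine Nat.le_of_mul_le_mul_left ?_ (Nat.pos_of_ne_zero (Subgroup.FiniteIndex.index_ne_zero (H := Z.subgroupOf E)) : 0 < Z.relIndex E)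
    rw [h2, mul_one]
    exact hb
  rw [← Subgroup.index_eq_one]
  have := Nat.pos_of_ne_zero (Subgroup.FiniteIndex.index_ne_zero (H := E ⊔ C))
  omega

end Cfsg.Agent.S0110
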