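import Cfsg.Statements.S0114
import Cfsg.Agent.Lib.PGroup.MaximalClass

set_option autoImplicit false
open Cfsg

namespace Cfsg.Agent.S0114

/-- The central quotient of a 2-group of maximal class is dihedral. -/
theorem result {X : Type*} [Group X] [Finite X] (n : ℕ) (hn : 3 ≤ n) (hX : Nat.card X = 2 ^ n) (hc : Group.nilpotencyClass X = n - 1) : Nonempty (X ⧸ Subgroup.center X ≃* DihedralGroup (2 ^ (n - 2))) := by
  have : Fact (Nat.Prime 2) := ⟨Nat.prime_two⟩
  obtain ⟨j, rfl⟩ : ∃ j, n = j + 3 := ⟨n - 3, by omega⟩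
  have hZ := PGroup.card_center_of_maximal hn hX hc
  obtain ⟨a, b, ha, hb, hgen, hrel⟩ := PGroup.two_group_commutator_index_four
    (by omega : 2 ≤ j + 2) hX (PGroup.index_commutator_of_maximal hn hX hc)
  rw [show j + 2 - 1 = j + 1 by omega] at hrel
  rw [show j + 3 - 2 = j + 1 by omega]
  set z := a ^ 2 ^ (j + 1) with hz
  have hzo : orderOf z = 2 := by
    rw [hz, orderOf_pow' a (by positivity), ha,
      Nat.gcd_eq_right (pow_dvd_pow 2 (by omega)), Nat.pow_div (by omega) (by norm_num)]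
    simp
  have hz2 : z ^ 2 = 1 := by rw [← hzo, pow_orderOf_eq_one]
  have hpow4 : 2 ^ (j + 1) = 2 * 2 ^ j := by ring
  have h1 : ∀ w : X, b * a * b⁻¹ = w → w * a = 1 ∨ w * a = z → b * z * b⁻¹ = z := by
    intro w hw hwa
    have hwv : w = a⁻¹ ∨ w = z * a⁻¹ := by
      rcases hwa with h | h
      · exact Or.inl (eq_inv_of_mul_eq_one_left h)
      · exact Or.inr (eq_mul_inv_of_mul_eq h)
    rw [hz, ← conj_pow, hw, ← hz]
    rcases hwv with rfl | rfl
    · rw [inv_pow, ← hz, inv_eq_of_mul_eq_one_right (by rw [← pow_two, hz2])]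
    · rw [Commute.mul_pow ((Commute.refl a).pow_left _).inv_right, inv_pow, ← hz,
        inv_eq_of_mul_eq_one_right (by rw [← pow_two, hz2] : z * z = 1)]
      nth_rewrite 1 [hpow4]
      rw [pow_mul, hz2, one_pow, one_mul]
  have hconj : b * a * b⁻¹ * a = 1 ∨ b * a * b⁻¹ * a = z := by
    rcases hrel with ⟨-, h⟩ | ⟨-, h⟩ | ⟨-, -, h⟩
    · left; rw [h, inv_mul_cancel]
    · left; rw [h, inv_mul_cancel]
    · right; rw [h, ← pow_succ, show 2 ^ (j + 1) - 1 + 1 = 2 ^ (j + 1) by
        have := Nat.one_le_two_pow (n := j + 1); omega]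
  have hzc : z ∈ Subgroup.center X := by
    have htop : (⊤ : Subgroup X) ≤ Subgroup.centralizer {z} := by
      rw [← hgen]
      refine sup_le (Subgroup.zpowers_le.mpr ?_) (Subgroup.zpowers_le.mpr ?_)
      · exact Subgroup.mem_centralizer_singleton_iff.mpr ((Commute.refl a).pow_right _)
      · exact Subgroup.mem_centralizer_singleton_iff.mpr
          (mul_inv_eq_iff_eq_mul.mp (h1 _ rfl hconj))
    exact Subgroup.mem_center_iff.mpr fun g =>
      Subgroup.mem_centralizer_singleton_iff.mp (htop (Subgroup.mem_top g))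
  have hZeq : Subgroup.center X = Subgroup.zpowers z :=
    (Subgroup.eq_of_le_of_card_ge (Subgroup.zpowers_le.mpr hzc)
      (by rw [hZ, Nat.card_zpowers, hzo])).symm
  have hb2 : b ^ 2 ∈ Subgroup.center X := by
    rcases hrel with ⟨h, -⟩ | ⟨h, -⟩ | ⟨-, h, -⟩ <;> rw [h]
    · exact one_mem _
    · exact hzc
    · exact one_mem _
  have hka : ∀ g : X, g ∈ Subgroup.center X ↔ QuotientGroup.mk' (Subgroup.center X) g = 1 :=
    fun g => (QuotientGroup.eq_one_iff g).symm
  refine PGroup.dihedralEquivOfRel (a := QuotientGroup.mk' (Subgroup.center X) a)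
    (b := QuotientGroup.mk' (Subgroup.center X) b) ?_ ?_ ?_ ?_ ?_
  · refine orderOf_eq_prime_pow ?_ ?_
    · intro h
      rw [← map_pow, ← hka, hZeq] at h
      obtain ⟨k, hk⟩ := h
      simp only at hk
      have h3 : (a ^ 2 ^ j) ^ 2 = 1 := by
        rw [← hk, ← zpow_natCast, ← zpow_mul, mul_comm, zpow_mul, zpow_natCast, hz2, one_zpow]
      rw [← pow_mul, ← pow_succ, ← hz] at h3
      rw [h3, orderOf_one] at hzo
      omega
    · rw [← map_pow, ← hka]
      exact hzc
  · rintro ⟨i, hi⟩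
    simp only [← map_zpow] at hi
    have h2 : (a ^ i)⁻¹ * b ∈ Subgroup.center X := QuotientGroup.eq.mp hi
    refine hb ?_
    have h3 : (a ^ i)⁻¹ * b ∈ Subgroup.zpowers a :=
      Subgroup.zpowers_le.mpr (Subgroup.pow_mem _ (Subgroup.mem_zpowers a) _) (hZeq ▸ h2)
    simpa using mul_mem (Subgroup.zpow_mem _ (Subgroup.mem_zpowers a) i) h3
  · rw [← map_pow]; exact (hka _).mp hb2
  · refine eq_inv_of_mul_eq_one_left ?_
    rw [← map_inv, ← map_mul, ← map_mul, ← map_mul, ← hka]
    rcases hconj with h | h <;> rw [h]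
    exacts [one_mem _, hzc]
  · have h := Subgroup.card_mul_index (Subgroup.center X)
    rw [hZ, hX, Subgroup.index_eq_card] at h
    rw [← pow_succ']
    have h' : 2 * Nat.card (X ⧸ Subgroup.center X) = 2 * 2 ^ (j + 2) := by rw [h]; ring
    exact Nat.eq_of_mul_eq_mul_left (by norm_num) h'

end Cfsg.Agent.S0114
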