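import Cfsg.Statements.S0115
import Cfsg.Agent.Lib.PGroup.MaximalClass

set_option autoImplicit false
open Cfsg

namespace Cfsg.Agent.S0115

/-- A 2-group of order 2^n, n ≥ 3, is of maximal class exactly when its commutator quotient is a Klein four-group. -/
theorem result {X : Type*} [Group X] [Finite X] (n : ℕ) (hn : 3 ≤ n) (hX : Nat.card X = 2 ^ n) : Group.nilpotencyClass X = n - 1 ↔ IsKleinFour (X ⧸ commutator X) := by
  have : Fact (Nat.Prime 2) := ⟨Nat.prime_two⟩
  have hP := IsPGroup.of_card hX
  constructor
  · intro hc
    have hidx := PGroup.index_commutator_of_maximal hn hX hc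
    have hnc : ¬ IsCyclic X :=
      PGroup.not_cyclic_of_lcs_ne_bot (by omega) (PGroup.lcs_ne_bot_of_maximal hn hX hc)
    have hphi := PGroup.frattini_eq_commutator_of_index_sq hP hnc hidx
    have hcard : Nat.card (X ⧸ commutator X) = 4 := by
      rw [← Subgroup.index_eq_card, hidx]; norm_num
    refine ⟨hcard, ?_⟩
    have hd : Monoid.exponent (X ⧸ commutator X) ∣ 2 :=
      Monoid.exponent_dvd_of_forall_pow_eq_one fun q => by
        obtain ⟨x, rfl⟩ := QuotientGroup.mk'_surjective (commutator X) q
        rw [← map_pow]
        exact (QuotientGroup.eq_one_iff _).mpr (hphi ▸ PGroup.pow_mem_frattini hP x)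
    rcases (Nat.dvd_prime Nat.prime_two).mp hd with h | h
    · have : Subsingleton (X ⧸ commutator X) := Monoid.exp_eq_one_iff.mp h
      simp at hcard
    · exact h
  · intro hk
    refine PGroup.class_of_commutator_index_four hn hX ?_
    rw [Subgroup.index_eq_card, hk.card_four]

end Cfsg.Agent.S0115
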