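import Cfsg.Statements.S0119
import Cfsg.Agent.Lib.PGroup.Frattini
import Cfsg.Agent.Lib.PGroup.Class2
-- import your own Cfsg.Agent.* helpers here

set_option autoImplicit false
open Cfsg

namespace Cfsg.Agent.S0119

open scoped commutatorElement

/-- A group all of whose characteristic abelian subgroups are central has class at most two. -/
theorem commutator_le_center {G : Type*} [Group G] [Group.IsNilpotent G]
    (hc : ∀ H : Subgroup G, H.Characteristic → IsMulCommutative H → H ≤ Subgroup.center G) :
    commutator G ≤ Subgroup.center G := by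
  classical
  obtain ⟨N, hN⟩ := Subgroup.nilpotent_iff_lowerCentralSeries.1 (inferInstance : Group.IsNilpotent G)
  have hex : ∃ m, (⊤ : Subgroup G).lowerCentralSeries (m + 1) ≤ Subgroup.center G := by
    refine ⟨N, le_trans (Subgroup.lowerCentralSeries_antitone _ N.le_succ) ?_⟩
    rw [hN]; exact bot_le
  have h0 := Nat.find_spec hex
  rcases hm : Nat.find hex with _ | m
  · rwa [hm, Subgroup.top_lowerCentralSeries_one] at h0
  exfalso
  apply Nat.find_min hex (show m < Nat.find hex by omega)
  rw [hm] at h0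
  set K := (⊤ : Subgroup G).lowerCentralSeries (m + 1) with hK
  have hKT : ⁅K, (⊤ : Subgroup G)⁆ ≤ Subgroup.center G := h0
  have h1 : ⁅⁅K, (⊤ : Subgroup G)⁆, (⊤ : Subgroup G)⁆ = ⊥ :=
    Subgroup.commutator_eq_bot_iff_le_centralizer.2 (hKT.trans (Subgroup.center_le_centralizer _))
  have h2 : ⁅⁅(⊤ : Subgroup G), K⁆, (⊤ : Subgroup G)⁆ = ⊥ := by
    rw [Subgroup.commutator_comm (⊤ : Subgroup G) K]; exact h1
  have h3 : ⁅⁅(⊤ : Subgroup G), (⊤ : Subgroup G)⁆, K⁆ = ⊥ :=
    Subgroup.commutator_commutator_eq_bot_of_rotate h2 h1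
  have hKc : K ≤ commutator G := by
    rw [← Subgroup.top_lowerCentralSeries_one]
    exact Subgroup.lowerCentralSeries_antitone _ (by omega)
  refine hc K (Subgroup.lowerCentralSeries_characteristic _ _) ⟨⟨fun u v => Subtype.ext ?_⟩⟩
  exact (Subgroup.mem_centralizer_iff.1
    (Subgroup.commutator_eq_bot_iff_le_centralizer.1 h3 (hKc u.2)) v v.2).symm

/-- If a p'-group A of automorphisms of a p-group G satisfies G = [G, A] and acts trivially on every characteristic abelian subgroup, then G is special with centre equal to the fixed points of A. -/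
theorem result {G : Type*} [Group G] [Finite G] {p : ℕ} [Fact p.Prime] (hG : IsPGroup p G) (A : Subgroup (MulAut G)) (hA : Nat.Coprime (Nat.card A) p) (hGA : Subgroup.closure {x : G | ∃ g : G, ∃ a ∈ A, x = g⁻¹ * a g} = ⊤) (hchar : ∀ H : Subgroup G, H.Characteristic → IsMulCommutative H → ∀ a ∈ A, ∀ h ∈ H, a h = h) : Cfsg.IsSpecial p G ∧ (∀ g : G, (g ∈ Subgroup.center G ↔ ∀ a ∈ A, a g = g)) := by
  classical
  haveI : Group.IsNilpotent G := hG.isNilpotent
  have hcent : ∀ H : Subgroup G, H.Characteristic → IsMulCommutative H → H ≤ Subgroup.center G := by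
    intro H hH hHc h hh
    haveI := hH
    have hgen : Subgroup.closure {x : G | ∃ g : G, ∃ a ∈ A, x = g⁻¹ * a g} ≤
        Subgroup.centralizer {h} := by
      rw [Subgroup.closure_le]
      rintro _ ⟨x, a, ha, rfl⟩
      rw [SetLike.mem_coe, Subgroup.mem_centralizer_singleton_iff]
      have hz : x * h * x⁻¹ * h⁻¹ ∈ H :=
        mul_mem ((inferInstance : H.Normal).conj_mem h hh x) (inv_mem hh)
      have e := hchar H hH hHc a ha _ hz
      rw [map_mul, map_mul, map_mul, map_inv, map_inv, hchar H hH hHc a ha h hh, mul_left_inj] at e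
      calc x⁻¹ * a x * h = x⁻¹ * (a x * h * (a x)⁻¹) * a x := by group
        _ = x⁻¹ * (x * h * x⁻¹) * a x := by rw [e]
        _ = h * (x⁻¹ * a x) := by group
    rw [hGA] at hgen
    exact Subgroup.mem_center_iff.2 fun y =>
      Subgroup.mem_centralizer_singleton_iff.1 (hgen (Subgroup.mem_top y))
  have hcl := commutator_le_center hcent
  have hZfix : ∀ z ∈ Subgroup.center G, ∀ a ∈ A, a z = z := fun z hz a ha =>
    hchar (Subgroup.center G) inferInstance inferInstance a ha z hz
  have hfix : ∀ c : G, (∀ a ∈ A, a c = c) → c ∈ commutator G := by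
    intro c hc
    haveI := Fintype.ofFinite A
    let θ : G →* Abelianization G :=
      { toFun := fun x => ∏ a : A, Abelianization.of ((a : MulAut G) x)
        map_one' := by simp
        map_mul' := fun x y => by simp [Finset.prod_mul_distrib] }
    have hinv : ∀ (x : G) (b : A), θ ((b : MulAut G) x) = θ x := fun x b =>
      Fintype.prod_equiv (Equiv.mulRight b) _ _ fun a => rfl
    have hker : Subgroup.closure {x : G | ∃ g : G, ∃ a ∈ A, x = g⁻¹ * a g} ≤ θ.ker := by
      rw [Subgroup.closure_le]
      rintro _ ⟨x, a, ha, rfl⟩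
      rw [SetLike.mem_coe, MonoidHom.mem_ker, map_mul, hinv x ⟨a, ha⟩, map_inv, inv_mul_cancel]
    rw [hGA] at hker
    have h1 : θ c = Abelianization.of c ^ Nat.card A := by
      rw [Nat.card_eq_fintype_card, ← Finset.card_univ, ← Finset.prod_const]
      exact Finset.prod_congr rfl fun a _ => by rw [hc a a.2]
    rw [(MonoidHom.mem_ker.1 (hker (Subgroup.mem_top c)))] at h1
    obtain ⟨k, hk⟩ := hG c
    have h2 : Abelianization.of c = 1 := orderOf_eq_one_iff.1 (Nat.eq_one_of_dvd_coprimes
      (hA.pow_right k) (orderOf_dvd_of_pow_eq_one h1.symm)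
      ((orderOf_map_dvd _ c).trans (orderOf_dvd_of_pow_eq_one hk)))
    rwa [← MonoidHom.mem_ker, Abelianization.ker_of] at h2
  have hZc : Subgroup.center G ≤ commutator G := fun z hz => hfix z (hZfix z hz)
  have hcomm : ∀ x y : G, ⁅x, y⁆ ∈ Subgroup.center G := fun x y =>
    hcl (by rw [commutator_def]; exact Subgroup.commutator_mem_commutator (Subgroup.mem_top x) (Subgroup.mem_top y))
  have hpow : ∀ e, (∀ x : G, x ^ p ^ e ∈ Subgroup.center G) → ∀ x : G, x ^ p ∈ Subgroup.center G := by
    intro e
    induction e with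
    | zero => intro h x; exact Subgroup.pow_mem _ (by simpa using h x) p
    | succ e ih =>
      intro h
      rcases Nat.eq_zero_or_pos e with rfl | he
      · simpa using h
      refine ih fun x => ?_
      set H : Subgroup G := Subgroup.closure (Set.range fun y : G => y ^ p ^ e) with hH
      have hHc : IsMulCommutative H := by
        refine Subgroup.isMulCommutative_closure ?_
        rintro _ ⟨u, rfl⟩ _ ⟨v, rfl⟩
        rw [← commutatorElement_eq_one_iff_mul_comm,
          Cfsg.Agent.PGroup.commutator_pow_left (hcomm _ _),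
          Cfsg.Agent.PGroup.commutator_pow_right (hcomm _ _), ← pow_mul, ← pow_add,
          ← Cfsg.Agent.PGroup.commutator_pow_left (hcomm u v)]
        refine commutatorElement_eq_one_iff_mul_comm.2 (Subgroup.mem_center_iff.1 ?_ v).symm
        rw [show e + e = (e + 1) + (e - 1) by omega, pow_add, pow_mul]
        exact Subgroup.pow_mem _ (h u) _
      have hHchar : H.Characteristic := by
        rw [Subgroup.characteristic_iff_map_le]
        intro φ
        rw [hH, MonoidHom.map_closure, Subgroup.closure_le]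
        rintro _ ⟨_, ⟨y, rfl⟩, rfl⟩
        exact Subgroup.subset_closure ⟨φ y, (map_pow φ y _).symm⟩
      exact hcent H hHchar hHc (Subgroup.subset_closure ⟨x, rfl⟩)
  have hxp : ∀ x : G, x ^ p ∈ Subgroup.center G := by
    obtain ⟨n, hn⟩ := IsPGroup.iff_card.1 hG
    exact hpow n fun x => by rw [← hn, pow_card_eq_one']; exact one_mem _
  have hΦ : frattini G ≤ Subgroup.center G :=
    Cfsg.Agent.PGroup.frattini_le hcl hxp
  refine ⟨⟨hG, le_antisymm hΦ (hZc.trans (Cfsg.Agent.PGroup.commutator_le_frattini hG)),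
    le_antisymm hcl hZc⟩, fun g => ⟨hZfix g, fun h => hcl (hfix g h)⟩⟩


end Cfsg.Agent.S0119
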