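import Cfsg.Statements.S0120
import Cfsg.Agent.Lib.PGroup.Critical
import Cfsg.Agent.Lib.PGroup.Class2
import Cfsg.Agent.Lib.PGroup.Frattini

set_option autoImplicit false
open Cfsg
open scoped commutatorElement

namespace Cfsg.Agent.S0120

/-- For odd p, a p'-automorphism of a p-group acting trivially on the elements of order dividing p is trivial. -/
theorem result {G : Type*} [Group G] [Finite G] {p : ℕ} [Fact p.Prime] (hp : p ≠ 2) (hG : IsPGroup p G) (a : MulAut G) (ha : Nat.Coprime (orderOf a) p) (h : ∀ x : G, x ^ p = 1 → a x = x) : a = 1 := by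
  obtain ⟨H, hH, h1, h2, h3⟩ := PGroup.exists_critical hG
  haveI := hH
  refine PGroup.aut_eq_one_of_centralizer_le hG H h3 a ha ?_
  have hp' : p.Prime := Fact.out
  have hmem : ∀ x ∈ H, a x ∈ H := fun x hx => by
    have h' : x ∈ H.comap a.toMonoidHom := by rw [hH.fixed a]; exact hx
    exact h'
  have hfix : ∀ (n : ℕ), ∀ x ∈ H, orderOf x = n → a x = x := by
    intro n
    induction n using Nat.strong_induction_on with
    | _ n ih =>
    intro x hx hn
    by_cases hxp : x ^ p = 1
    · exact h x hxp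
    have hlt : orderOf (x ^ p) < n := by
      obtain ⟨m, hm⟩ := hG x
      obtain ⟨j, -, hj⟩ := (Nat.dvd_prime_pow hp').1 (orderOf_dvd_of_pow_eq_one hm)
      rcases j with _ | j
      · rw [pow_zero, orderOf_eq_one_iff] at hj
        exact absurd (by rw [hj, one_pow]) hxp
      rw [orderOf_pow' x hp'.ne_zero, ← hn, hj, Nat.gcd_eq_right (dvd_pow_self p (Nat.succ_ne_zero j)), pow_succ, Nat.mul_div_cancel _ hp'.pos]
      exact lt_mul_of_one_lt_right (pow_pos hp'.pos j) hp'.one_lt
    have hfp : a (x ^ p) = x ^ p := ih _ hlt (x ^ p) (pow_mem hx p) rfl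
    obtain ⟨y, hy⟩ : ∃ y, y = x⁻¹ * a x := ⟨_, rfl⟩
    have hyH : y ∈ H := hy ▸ mul_mem (inv_mem hx) (hmem x hx)
    have hcl : commutator H ≤ Subgroup.center H := by
      rw [commutator_def, Subgroup.commutator_le]
      intro u _ v _
      rw [Subgroup.mem_center_iff]
      intro w
      apply Subtype.ext
      exact Subgroup.mem_centralizer_iff.1 (h2 (Subgroup.commutator_mem_commutator u.2 (Subgroup.mem_top (v : G)))).2 w w.2
    have hpz : ∀ u : H, u ^ p ∈ Subgroup.center H := by
      intro u
      rw [Subgroup.mem_center_iff]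
      intro w
      apply Subtype.ext
      exact Subgroup.mem_centralizer_iff.1 (h1 ⟨u ^ p, PGroup.pow_mem_frattini (hG.to_subgroup H) u, rfl⟩) w w.2
    have hyp : y ^ p = 1 := by
      have h5 := PGroup.mul_pow_prime hp' hp (x := (⟨x⁻¹, inv_mem hx⟩ : H)) (y := ⟨a x, hmem x hx⟩) (PGroup.mem_center_of_class_two hcl _ _) (PGroup.commutator_pow_eq_one hcl hpz _ _)
      have h6 : (x⁻¹ * a x) ^ p = x⁻¹ ^ p * (a x) ^ p := congrArg Subtype.val h5
      rw [hy, h6, ← map_pow, hfp, inv_pow, inv_mul_cancel]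
    have hay : a y = y := h y hyp
    have hax : a x = x * y := by rw [hy, mul_inv_cancel_left]
    have hk : ∀ k : ℕ, (a ^ k) x = x * y ^ k := by
      intro k
      induction k with
      | zero => simp
      | succ k ihk => rw [pow_succ', MulAut.mul_apply, ihk, map_mul, map_pow, hax, hay, pow_succ', mul_assoc]
    have h7 : y ^ orderOf a = 1 := by simpa [pow_orderOf_eq_one] using (hk (orderOf a)).symm
    have h8 : y = 1 := by
      rw [← orderOf_eq_one_iff]
      exact Nat.eq_one_of_dvd_coprimes ha (orderOf_dvd_of_pow_eq_one h7) (orderOf_dvd_of_pow_eq_one hyp)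
    rw [hax, h8, mul_one]
  exact fun x hx => hfix _ x hx rfl

end Cfsg.Agent.S0120
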