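import Cfsg.Statements.S0121


set_option autoImplicit false
open Cfsg

namespace Cfsg.Agent.S0121

/-- A p'-automorphism of a p-group acting trivially on a critical subgroup is trivial. -/
theorem result {G : Type*} [Group G] [Finite G] {p : ℕ} [Fact p.Prime] (hG : IsPGroup p G) (H : Subgroup G) (hH : H.Characteristic) (h1 : (frattini H).map H.subtype ≤ Subgroup.centralizer (H : Set G)) (h2 : ⁅H, (⊤ : Subgroup G)⁆ ≤ H ⊓ Subgroup.centralizer (H : Set G)) (h3 : Subgroup.centralizer (H : Set G) ≤ H) (a : MulAut G) (ha : Nat.Coprime (orderOf a) p) (h : ∀ x ∈ H, a x = x) : a = 1 := by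
  apply MulEquiv.ext
  intro g
  haveI : H.Normal := inferInstance
  obtain ⟨y, hy⟩ : ∃ y, a g = g * y := ⟨g⁻¹ * a g, by group⟩
  have hyC : y ∈ Subgroup.centralizer (H : Set G) := by
    rw [Subgroup.mem_centralizer_iff]
    intro n hn
    have h1 : a n = n := h n hn
    have h2 : a (g * n * g⁻¹) = g * n * g⁻¹ := h _ (‹H.Normal›.conj_mem n hn g)
    rw [map_mul, map_mul, map_inv, h1, hy, mul_inv_rev] at h2
    have h4 : y * n * y⁻¹ = n := mul_left_cancel (a := g)
      (mul_right_cancel (b := g⁻¹) (by simpa only [mul_assoc] using h2))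
    calc n * y = y * n * y⁻¹ * y := by rw [h4]
      _ = y * n := inv_mul_cancel_right _ _
  have hyfix : a y = y := h y (h3 hyC)
  have hk : ∀ k : ℕ, (a ^ k) g = g * y ^ k := by
    intro k
    induction k with
    | zero => simp
    | succ k ih => rw [pow_succ', MulAut.mul_apply, ih, map_mul, map_pow, hy, hyfix, pow_succ', mul_assoc]
  have h5 : y ^ orderOf a = 1 := by simpa [pow_orderOf_eq_one] using (hk (orderOf a)).symm
  obtain ⟨m, hm⟩ := hG y
  have h6 : y = 1 := by
    rw [← orderOf_eq_one_iff]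
    exact Nat.eq_one_of_dvd_coprimes (ha.pow_right m) (orderOf_dvd_of_pow_eq_one h5) (orderOf_dvd_of_pow_eq_one hm)
  simp [hy, h6]

end Cfsg.Agent.S0121
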