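import Cfsg.Statements.S0122
import Cfsg.Agent.Lib.PGroup.NormalRankFour
-- import your own Cfsg.Agent.* helpers here

set_option autoImplicit false
open Cfsg

namespace Cfsg.Agent.S0122

/-- For odd p, a p-group containing an elementary abelian subgroup of order p^4 has a normal elementary abelian subgroup of order p^4. -/
theorem result {G : Type*} [Group G] [Finite G] {p : ℕ} [Fact p.Prime] (hp : p ≠ 2) (hG : IsPGroup p G) (E : Subgroup G) (hE : Cfsg.IsElementaryAbelian p E) (hE4 : Nat.card E = p ^ 4) : ∃ A : Subgroup G, A.Normal ∧ Cfsg.IsElementaryAbelian p A ∧ Nat.card A = p ^ 4 := by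
  have hrk : ¬ Cfsg.PRankLE p 3 G := fun h => by
    have h1 := h E hE.1 hE.2
    rw [hE4] at h1
    have := (Nat.pow_le_pow_iff_right (Fact.out (p := p.Prime)).one_lt).mp h1
    omega
  obtain ⟨N, hNn, hN, hNc⟩ := Cfsg.Agent.PGroup.exists_normal_elementary_card_ge_four hG hp hrk
  obtain ⟨L, hL, -, hLN, hLc⟩ := Cfsg.Agent.PGroup.exists_normal_card_between hG ⊥ N bot_le 4
    (by rw [Subgroup.card_bot]; exact Nat.one_le_pow _ _ (Fact.out (p := p.Prime)).pos) hNc
  exact ⟨L, hL, Cfsg.Agent.PGroup.isElementaryAbelian_mono hN hLN, hLc⟩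

end Cfsg.Agent.S0122
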