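import Cfsg.Statements.S0123
import Cfsg.Agent.Lib.PGroup.Regular

set_option autoImplicit false
open Cfsg

namespace Cfsg.Agent.S0123

/-- For a p-group of small class relative to p (class ≤ 2 with p odd, or class ≤ 3 with p > 3) whose derived subgroup is generated by elements of order dividing p, the p-th power map is multiplicative. -/
theorem result {R : Type*} [Group R] [Finite R] {p : ℕ} [Fact p.Prime] (hR : IsPGroup p R) (hcl : (p ≠ 2 ∧ ⁅commutator R, (⊤ : Subgroup R)⁆ = ⊥) ∨ (3 < p ∧ ⁅⁅commutator R, (⊤ : Subgroup R)⁆, (⊤ : Subgroup R)⁆ = ⊥)) (hder : commutator R ≤ Subgroup.closure {x : R | x ^ p = 1}) (x y : R) : (x * y) ^ p = x ^ p * y ^ p := by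
  have hreg := PGroup.isRegularPGroup_of_class_three hR hcl
  obtain ⟨c, hc, he⟩ := hreg.2 x y 1
  have hexp : ∀ g ∈ commutator R, g ^ p ^ 1 = 1 := fun g hg =>
    ((Subgroup.closure_le (S4225.omega hreg 1)).mpr
      fun a (ha : a ^ p = 1) => show a ^ p ^ 1 = 1 by rw [pow_one]; exact ha) (hder hg)
  have hc1 : c = 1 := Subgroup.mem_bot.mp ((PGroup.powerClosure_le_iff (p := p) (K := ⊥)).mpr
    (fun g hg => Subgroup.mem_bot.mpr
      (hexp g ((Subgroup.commutator_mono le_top le_top : _ ≤ commutator R) hg))) hc)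
  rw [hc1, mul_one, pow_one] at he
  exact he

end Cfsg.Agent.S0123
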