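import Cfsg.Statements.S0125
import Mathlib.GroupTheory.Transfer

set_option autoImplicit false
open Cfsg

namespace Cfsg.Agent.S0125

/-- The centralizer of a self-centralizing normal subgroup A of a Sylow p-subgroup is the direct product of A with a normal p'-subgroup. -/
theorem result {G : Type*} [Group G] [Finite G] {p : ℕ} [Fact p.Prime] (R : Sylow p G) (A : Subgroup G) (hAR : A ≤ (R : Subgroup G)) (hAn : (R : Subgroup G) ≤ Subgroup.normalizer (A : Set G)) (hC : (R : Subgroup G) ⊓ Subgroup.centralizer (A : Set G) = A) : ∃ H : Subgroup G, H ≤ Subgroup.centralizer (A : Set G) ∧ Nat.Coprime (Nat.card H) p ∧ Subgroup.centralizer (A : Set G) ≤ Subgroup.normalizer (H : Set G) ∧ H ⊓ A = ⊥ ∧ H ⊔ A = Subgroup.centralizer (A : Set G) := by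
  set C := Subgroup.centralizer (A : Set G) with hCdef
  have hAC : A ≤ C := le_of_eq_of_le hC.symm inf_le_right
  set A' := A.subgroupOf C with hA'
  have hA'p : IsPGroup p A' := (R.2.to_le hAR).of_equiv (Subgroup.subgroupOfEquivOfLe hAC).symm
  obtain ⟨S, hS⟩ := hA'p.exists_le_sylow
  set N := Subgroup.normalizer (A : Set G) with hN
  have hCN : C ≤ N := Subgroup.centralizer_le_normalizer _
  set Q := (S : Subgroup C).map C.subtype with hQ
  have hQp : IsPGroup p Q := S.2.map _
  have hQC : Q ≤ C := Subgroup.map_subtype_le _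
  obtain ⟨S', hS'⟩ := (hQp.of_equiv (Subgroup.subgroupOfEquivOfLe (hQC.trans hCN)).symm).exists_le_sylow
  obtain ⟨n, hn⟩ := MulAction.exists_smul_eq N (R.subtype hAn) S'
  have hcard : Nat.card Q ≤ Nat.card A := by
    let e : Q → A := fun q => ⟨(n : G)⁻¹ * q * n, by
      rw [← hC]
      constructor
      · have h1 : (⟨q.1, (hQC.trans hCN) q.2⟩ : N) ∈ ((n • R.subtype hAn : Sylow p N) : Subgroup N) :=
          hn ▸ hS' (Subgroup.mem_subgroupOf.2 q.2)
        rw [Sylow.coe_subgroup_smul, Subgroup.mem_pointwise_smul_iff_inv_smul_mem, Sylow.coe_subtype, Subgroup.mem_subgroupOf] at h1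
        simp at h1; exact h1
      · have hq := Subgroup.mem_centralizer_iff.1 (hQC q.2)
        refine Subgroup.mem_centralizer_iff.2 fun a ha => ?_
        have hna : (n : G) * a * (n : G)⁻¹ ∈ A := (Subgroup.mem_normalizer_iff.1 n.2 a).1 ha
        have := congrArg (fun z => (n : G)⁻¹ * z * n) (hq _ hna)
        simpa [mul_assoc] using this⟩
    refine Nat.card_le_card_of_injective e ?_
    intro a b hab
    have h1 : (n : G)⁻¹ * (a : G) * n = (n : G)⁻¹ * (b : G) * n := congrArg Subtype.val hab
    exact Subtype.ext (mul_left_cancel (mul_right_cancel h1))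
  have hSA : A' = (S : Subgroup C) := by
    refine Subgroup.eq_of_le_of_card_ge hS ?_
    rw [hA', Nat.card_congr (Subgroup.subgroupOfEquivOfLe hAC).toEquiv,
      Nat.card_congr ((S : Subgroup C).equivMapOfInjective C.subtype Subtype.coe_injective).toEquiv]
    exact hcard
  have hcen : Subgroup.normalizer (S : Set C) ≤ Subgroup.centralizer (S : Set C) := by
    intro x _
    refine Subgroup.mem_centralizer_iff.2 fun a ha => ?_
    change a ∈ (S : Subgroup C) at ha
    rw [← hSA] at ha
    exact Subtype.ext (Subgroup.mem_centralizer_iff.1 x.2 _ ha)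
  set K := (MonoidHom.transferSylow S hcen).ker with hKdef
  have hK := MonoidHom.ker_transferSylow_isComplement' S hcen
  have hinj : Function.Injective C.subtype := Subtype.coe_injective
  have hAeq : A = (S : Subgroup C).map C.subtype := by
    rw [← hSA, hA', Subgroup.subgroupOf_map_subtype, inf_eq_left.2 hAC]
  refine ⟨K.map C.subtype, Subgroup.map_subtype_le _, ?_, ?_, ?_, ?_⟩
  · rw [← Nat.card_congr (K.equivMapOfInjective C.subtype hinj).toEquiv]
    exact ((Fact.out : p.Prime).coprime_iff_not_dvd.2 (MonoidHom.not_dvd_card_ker_transferSylow S hcen)).symm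
  · have h1 := Subgroup.le_normalizer_map (H := K) C.subtype
    rw [Subgroup.normalizer_eq_top, ← MonoidHom.range_eq_map, Subgroup.range_subtype] at h1
    exact h1
  · rw [hAeq, ← Subgroup.map_inf _ _ _ hinj, hK.disjoint.eq_bot, Subgroup.map_bot]
  · rw [hAeq, ← Subgroup.map_sup, hK.sup_eq_top, ← MonoidHom.range_eq_map, Subgroup.range_subtype]

end Cfsg.Agent.S0125
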