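import Cfsg.Statements.S0127
import Cfsg.Agent.S0126
import Cfsg.Agent.Lib.PGroup.Class2
import Cfsg.Agent.Lib.PGroup.Basic

set_option autoImplicit false
open Cfsg
open scoped commutatorElement

namespace Cfsg.Agent.S0127

/-- For odd p, in a non-cyclic p-group with a cyclic subgroup of index p, the elements of order dividing p generate an elementary abelian subgroup of order p^2. -/
theorem result {R : Type*} [Group R] [Finite R] {p : ℕ} [Fact p.Prime] (hp : p ≠ 2) (hR : IsPGroup p R) (hnc : ¬ IsCyclic R) (C : Subgroup R) (hC : IsCyclic C) (hCi : C.index = p) : Cfsg.IsElementaryAbelian p (Subgroup.closure {x : R | x ^ p = 1}) ∧ Nat.card (Subgroup.closure {x : R | x ^ p = 1}) = p ^ 2 := by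
  obtain ⟨E, hEn, hE, hEc⟩ := Cfsg.Agent.S0126.result hp hR hnc
  haveI := hEn
  have hp' : p.Prime := Fact.out
  haveI hCn : C.Normal := PGroup.normal_of_index_eq hR hCi
  haveI := hC
  have hCp : ∀ D : Subgroup R, D ≤ C → (∀ x ∈ D, x ^ p = 1) → Nat.card D ≤ p := by
    intro D hD hDp
    haveI := Subgroup.isCyclic_of_le hD
    obtain ⟨g, hg⟩ := IsCyclic.exists_generator (α := D)
    rw [← orderOf_eq_card_of_forall_mem_zpowers hg]
    refine Nat.le_of_dvd hp'.pos (orderOf_dvd_of_pow_eq_one (Subtype.ext ?_))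
    rw [Subgroup.coe_pow]
    exact hDp _ g.2
  have hnle : ¬ E ≤ C := by
    intro h
    have h1 := hCp E h hE.2
    rw [hEc] at h1
    have := lt_of_le_of_lt h1 (by rw [sq]; exact lt_mul_of_one_lt_left hp'.pos hp'.one_lt : p < p ^ 2)
    exact lt_irrefl _ this
  have htop : C ⊔ E = ⊤ := (PGroup.isCoatom_of_index_eq hCi).2 _ (lt_of_le_of_ne le_sup_left fun h => hnle (h ▸ le_sup_right))
  set W := E ⊓ C with hW
  have hWc : Nat.card W = p := by
    have h1 : W.relIndex E = p := by
      rw [hW, inf_comm, Subgroup.inf_relIndex_right, ← Subgroup.relIndex_sup_right, sup_comm, htop, Subgroup.relIndex_top_right, hCi]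
    have h2 := Subgroup.relIndex_mul_relIndex (⊥ : Subgroup R) W E bot_le inf_le_left
    rw [Subgroup.relIndex_bot_left, Subgroup.relIndex_bot_left, h1, hEc, sq] at h2
    exact Nat.eq_of_mul_eq_mul_right hp'.pos h2
  have hWz : W ≤ Subgroup.center R := PGroup.le_center_of_card_eq hR W hWc
  let π := QuotientGroup.mk' W
  haveI : (E.map π).Normal := Subgroup.Normal.map inferInstance π (QuotientGroup.mk'_surjective W)
  have hEbar : E.map π ≤ Subgroup.center (R ⧸ W) := by
    refine PGroup.le_center_of_card_eq (hR.to_quotient W) _ ?_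
    rw [← Subgroup.relIndex_ker, QuotientGroup.ker_mk']
    rw [hW, inf_comm, Subgroup.inf_relIndex_right, ← Subgroup.relIndex_sup_right, sup_comm, htop, Subgroup.relIndex_top_right, hCi]
  have hcl : commutator R ≤ Subgroup.center R := by
    refine le_trans ?_ hWz
    have hcm : ∀ a b : R ⧸ W, a * b = b * a := by
      have hall : (⊤ : Subgroup (R ⧸ W)) = C.map π ⊔ E.map π := by
        rw [← Subgroup.map_sup, htop, Subgroup.map_top_of_surjective _ (QuotientGroup.mk'_surjective W)]
      have hCC : C.map π ≤ Subgroup.centralizer (C.map π : Set (R ⧸ W)) := by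
        rintro _ ⟨x, hx, rfl⟩
        refine Subgroup.mem_centralizer_iff.2 ?_
        rintro _ ⟨y, hy, rfl⟩
        have h3 : y * x = x * y := by
          letI := IsCyclic.commGroup (α := C)
          exact congrArg Subtype.val (mul_comm (⟨y, hy⟩ : C) ⟨x, hx⟩)
        rw [← map_mul, ← map_mul, h3]
      intro a b
      have hle : (⊤ : Subgroup (R ⧸ W)) ≤ Subgroup.center (R ⧸ W) := by
        rw [hall]
        refine sup_le ?_ hEbar
        intro x hx
        rw [Subgroup.mem_center_iff]
        intro g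
        have hg : g ∈ Subgroup.centralizer {x} := by
          refine (show C.map π ⊔ E.map π ≤ Subgroup.centralizer {x} from sup_le ?_ ?_) (hall ▸ Subgroup.mem_top g)
          · intro w hw
            exact Subgroup.mem_centralizer_singleton_iff.2 (Subgroup.mem_centralizer_iff.1 (hCC hx) w hw)
          · intro w hw
            exact Subgroup.mem_centralizer_singleton_iff.2 (Subgroup.mem_center_iff.1 (hEbar hw) x).symm
        exact Subgroup.mem_centralizer_singleton_iff.1 hg
      exact (Subgroup.mem_center_iff.1 (hle (Subgroup.mem_top b)) a)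
    rw [commutator_def, Subgroup.commutator_le]
    intro a _ b _
    rw [← QuotientGroup.eq_one_iff]
    show π ⁅a, b⁆ = 1
    rw [map_commutatorElement]
    exact commutatorElement_eq_one_iff_mul_comm.2 (hcm _ _)
  set Ω := Subgroup.closure {x : R | x ^ p = 1}
  have hΩp : ∀ x ∈ Ω, x ^ p = 1 := fun x hx => PGroup.pow_eq_one_of_mem_closure hp' hp hcl (fun y hy => hy) hx
  have hEΩ : E ≤ Ω := fun x hx => Subgroup.subset_closure (hE.2 x hx)
  have h1 : Nat.card ↥(C ⊓ Ω) ≤ p := hCp _ inf_le_left fun x hx => hΩp x hx.2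
  have h2 : (C ⊓ Ω).relIndex Ω ≤ p := by
    rw [Subgroup.inf_relIndex_right]
    refine le_trans (Nat.le_of_dvd ?_ (Subgroup.relIndex_dvd_index_of_normal C Ω)) hCi.le
    exact Nat.pos_of_ne_zero Subgroup.FiniteIndex.index_ne_zero
  have h3 := Subgroup.relIndex_mul_relIndex (⊥ : Subgroup R) (C ⊓ Ω) Ω bot_le inf_le_right
  rw [Subgroup.relIndex_bot_left, Subgroup.relIndex_bot_left] at h3
  have h4 : Nat.card Ω ≤ p ^ 2 := by rw [← h3, sq]; exact Nat.mul_le_mul h1 h2
  have h5 : E = Ω := Subgroup.eq_of_le_of_card_ge hEΩ (hEc ▸ h4)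
  rw [← h5]
  exact ⟨hE, hEc⟩

end Cfsg.Agent.S0127
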