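import Cfsg.Statements.S0130
import Cfsg.Agent.Lib.PGroup.Class2
import Mathlib.Data.Nat.Multiplicity
import Mathlib.Order.Atoms.Finite
import Cfsg.Agent.Lib.PGroup.Basic

set_option autoImplicit false
open Cfsg

namespace Cfsg.Agent.S0130

open Subgroup
open scoped commutatorElement

theorem dvd_choose_two_of_pow {p n : ℕ} (hp : p.Prime) (hn : 1 ≤ n) (hn2 : p ^ n ≠ 2) :
    p ∣ (p ^ n).choose 2 :=
  hp.dvd_choose_pow two_ne_zero fun h => hn2 h.symm

/-- If `A ≤ M` is central in the p-group `M`, `M₀ ◁ M` has index p and its elements of exponent q lie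
in `A`, then products of elements of exponent q have exponent q. -/
theorem mul_pow_eq_one {M : Type*} [Group M] [Finite M] {p n : ℕ} [Fact p.Prime] (hM : IsPGroup p M)
    (hn : 1 ≤ n) (hn2 : p ^ n ≠ 2) (A M₀ : Subgroup M) (hAc : A ≤ center M) [M₀.Normal]
    (hidx : M₀.index = p) (hM₀ : ∀ x ∈ M₀, x ^ p ^ n = 1 → x ∈ A) :
    ∀ u v : M, u ^ p ^ n = 1 → v ^ p ^ n = 1 → (u * v) ^ p ^ n = 1 := by
  suffices H : ∀ (k : ℕ) (u v : M), Nat.card (closure ({u, v} : Set M)) ≤ k → u ^ p ^ n = 1 →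
      v ^ p ^ n = 1 → (u * v) ^ p ^ n = 1 from fun u v => H _ u v le_rfl
  intro k
  induction k with
  | zero => intro u v h; exact absurd h (Nat.not_le.2 Nat.card_pos)
  | succ k ih =>
    intro u v hk hu hv
    set H := closure ({u, v} : Set M) with hH
    have huH : u ∈ H := subset_closure (Set.mem_insert u {v})
    have hvH : v ∈ H := subset_closure (Set.mem_insert_of_mem u rfl)
    by_cases hcyc : H ≤ zpowers u
    · obtain ⟨i, rfl⟩ := hcyc hvH
      rw [(Commute.zpow_right (Commute.refl u) i).mul_pow, hu, hv, one_mul]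
    -- a maximal subgroup of H containing u
    set U := (zpowers u).subgroupOf H with hU
    have hUne : U ≠ ⊤ := fun h => hcyc (subgroupOf_eq_top.1 h)
    haveI : IsCoatomic (Subgroup H) := Finite.to_isCoatomic
    obtain ⟨L, hL, hUL⟩ := (IsCoatomic.eq_top_or_exists_le_coatom U).resolve_left hUne
    have hHp : IsPGroup p H := hM.to_subgroup H
    haveI := Cfsg.Agent.PGroup.normal_of_isCoatom hHp hL
    set L' := L.map H.subtype with hL'
    have hu' : u⁻¹ ∈ L' := ⟨⟨u⁻¹, inv_mem huH⟩, hUL (mem_subgroupOf.2 (inv_mem (mem_zpowers u))), rfl⟩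
    have hvu : v * u * v⁻¹ ∈ L' := ⟨⟨v, hvH⟩ * ⟨u, huH⟩ * ⟨v, hvH⟩⁻¹,
      (inferInstance : L.Normal).conj_mem _ (hUL (mem_subgroupOf.2 (mem_zpowers u))) _, rfl⟩
    have hcard : Nat.card (closure ({v * u * v⁻¹, u⁻¹} : Set M)) ≤ k := by
      have h1 : closure ({v * u * v⁻¹, u⁻¹} : Set M) ≤ L' :=
        (closure_le _).2 (Set.insert_subset hvu (Set.singleton_subset_iff.2 hu'))
      have h2 : Nat.card L' < Nat.card H := by
        rw [hL', ← Nat.card_congr (L.equivMapOfInjective H.subtype H.subtype_injective).toEquiv]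
        by_contra h
        exact hL.1 (eq_top_of_le_card L (not_lt.1 h))
      have := card_le_of_le h1
      omega
    have hq : (v * u * v⁻¹) ^ p ^ n = 1 := by rw [conj_pow, hu, mul_one, mul_inv_cancel]
    have ht : ⁅v, u⁆ ^ p ^ n = 1 := by
      rw [commutatorElement_def]
      exact ih (v * u * v⁻¹) u⁻¹ hcard hq (by rw [inv_pow, hu, inv_one])
    have htA : ⁅v, u⁆ ∈ A :=
      hM₀ _ (Cfsg.Agent.PGroup.commutator_le_of_index_eq M₀ hidx
        (commutator_mem_commutator (mem_top v) (mem_top u))) ht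
    have hupA : u ^ p ∈ A := hM₀ _ (Cfsg.Agent.PGroup.pow_mem_of_index_eq M₀ hidx u)
      (by rw [← pow_mul, mul_comm, pow_mul, hu, one_pow])
    have htp : ⁅v, u⁆ ^ p = 1 := by
      rw [← Cfsg.Agent.PGroup.commutator_pow_right (hAc htA), commutatorElement_eq_one_iff_mul_comm]
      exact mem_center_iff.1 (hAc hupA) v
    obtain ⟨c, hc⟩ := dvd_choose_two_of_pow Fact.out hn hn2
    rw [Cfsg.Agent.PGroup.mul_pow_of_central (hAc htA), hu, hv, hc, pow_mul, htp, one_pow, one_mul, one_mul]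

/-- If A is maximal among the normal abelian subgroups of exponent dividing p^n of a p-group (p^n ≠ 2), then A contains every element of order dividing p^n in its centralizer. -/
theorem result {G : Type*} [Group G] [Finite G] {p : ℕ} [Fact p.Prime] (hG : IsPGroup p G) (n : ℕ) (hn : p ^ n ≠ 2) (A : Subgroup G) [A.Normal] (hA : IsMulCommutative A) (hAe : ∀ a ∈ A, a ^ p ^ n = 1) (hmax : ∀ B : Subgroup G, B.Normal → IsMulCommutative B → (∀ b ∈ B, b ^ p ^ n = 1) → A ≤ B → B = A) (x : G) (hx : x ∈ Subgroup.centralizer (A : Set G)) (hxn : x ^ p ^ n = 1) : x ∈ A := by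
  classical
  have hmax' := hmax
  have hp : p.Prime := Fact.out
  rcases Nat.eq_zero_or_pos n with rfl | hn1
  · rw [pow_zero, pow_one] at hxn; rw [hxn]; exact one_mem A
  suffices key : ∀ (k : ℕ) (M : Subgroup G), Nat.card M ≤ k → M.Normal → A ≤ M →
      M ≤ centralizer (A : Set G) → ∀ y ∈ M, y ^ p ^ n = 1 → y ∈ A by
    exact key _ (centralizer (A : Set G)) le_rfl inferInstance
      (fun a ha => mem_centralizer_iff.2 fun b hb =>
        congrArg Subtype.val (hA.is_comm.comm ⟨b, hb⟩ ⟨a, ha⟩)) le_rfl x hx hxn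
  intro k
  induction k with
  | zero => intro M h; exact absurd h (Nat.not_le.2 Nat.card_pos)
  | succ k ih =>
  intro M hk hMn hAM hMC y hy hyn
  by_contra hyA
  haveI := hMn
  -- M₀ of index p in M, containing A, normal in G, with [G, M] ≤ M₀
  obtain ⟨M₀, ⟨hM₀n, hAM₀, hM₀M⟩, hmax⟩ :=
    (Set.toFinite {L : Subgroup G | L.Normal ∧ A ≤ L ∧ L < M}).exists_maximal
      ⟨A, inferInstance, le_rfl, lt_of_le_of_ne hAM fun h => hyA (h ▸ hy)⟩
  haveI := hM₀n
  obtain ⟨L, hLn, hlt, hLM, hLcard⟩ := Cfsg.Agent.PGroup.exists_normal_step hG M₀ M hM₀M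
  have hLeq : L = M := by
    rcases hLM.lt_or_eq with h | h
    · exact absurd (hmax ⟨hLn, hAM₀.trans hlt.le, h⟩ hlt.le) hlt.not_ge
    · exact h
  subst hLeq
  have hcomm : ⁅(⊤ : Subgroup G), L⁆ ≤ M₀ := by
    set π := QuotientGroup.mk' M₀
    haveI : (L.map π).Normal := hLn.map π (QuotientGroup.mk'_surjective M₀)
    have hc : Nat.card (L.map π) = p := by
      have h1 := (M₀.subgroupOf L).card_mul_index
      rw [Nat.card_congr (subgroupOfEquivOfLe hlt.le).toEquiv, hLcard] at h1
      have h2 := Nat.eq_of_mul_eq_mul_left Nat.card_pos h1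
      have h3 : (π.comp L.subtype).ker = M₀.subgroupOf L := by
        rw [← MonoidHom.comap_ker, QuotientGroup.ker_mk']; rfl
      rw [← h3, index_ker, MonoidHom.range_comp, range_subtype] at h2
      exact h2
    have hle := Cfsg.Agent.PGroup.le_center_of_card_eq (hG.to_quotient M₀) _ hc
    rw [commutator_le]
    intro g _ m hm
    rw [← QuotientGroup.eq_one_iff]
    show π ⁅g, m⁆ = 1
    rw [map_commutatorElement, commutatorElement_eq_one_iff_mul_comm]
    exact mem_center_iff.1 (hle (mem_map_of_mem π hm)) (π g)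
  have hM₀A : ∀ z ∈ M₀, z ^ p ^ n = 1 → z ∈ A := by
    refine ih M₀ ?_ hM₀n hAM₀ (hlt.le.trans hMC)
    rw [hLcard] at hk
    have : 1 * 2 ≤ Nat.card M₀ * p := Nat.mul_le_mul Nat.card_pos hp.two_le
    have h2 : Nat.card M₀ * 2 ≤ Nat.card M₀ * p := Nat.mul_le_mul le_rfl hp.two_le
    have := Nat.card_pos (α := M₀)
    omega
  -- products of elements of exponent q
  have hAc : A.subgroupOf L ≤ center L := fun a ha => mem_center_iff.2 fun m =>
    Subtype.ext (mem_centralizer_iff.1 (hMC m.2) a (mem_subgroupOf.1 ha)).symm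
  have hidx : (M₀.subgroupOf L).index = p := by
    have h1 := (M₀.subgroupOf L).card_mul_index
    rw [Nat.card_congr (subgroupOfEquivOfLe hlt.le).toEquiv, hLcard] at h1
    exact Nat.eq_of_mul_eq_mul_left Nat.card_pos h1
  have hmul : ∀ u ∈ L, ∀ v ∈ L, u ^ p ^ n = 1 → v ^ p ^ n = 1 → (u * v) ^ p ^ n = 1 := by
    intro u hu v hv hun hvn
    have := mul_pow_eq_one (hG.to_subgroup L) hn1 hn (A.subgroupOf L) (M₀.subgroupOf L) hAc hidx
      (fun z hz hzn => mem_subgroupOf.2 (hM₀A z (mem_subgroupOf.1 hz)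
        (by simpa using congrArg Subtype.val hzn)))
      ⟨u, hu⟩ ⟨v, hv⟩ (Subtype.ext (by simpa using hun)) (Subtype.ext (by simpa using hvn))
    simpa using congrArg Subtype.val this
  have hcy : ∀ g : G, ⁅g, y⁆ ∈ A := fun g => by
    refine hM₀A _ (hcomm (commutator_mem_commutator (mem_top g) hy)) ?_
    rw [commutatorElement_def]
    exact hmul _ (hLn.conj_mem y hy g) _ (inv_mem hy) (by rw [conj_pow, hyn, mul_one, mul_inv_cancel])
      (by rw [inv_pow, hyn, inv_one])
  set B := closure ((A : Set G) ∪ {y}) with hB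
  have hgen : ∀ s ∈ (A : Set G) ∪ {y}, ∀ t ∈ (A : Set G) ∪ {y}, s * t = t * s := by
    rintro s (hs | rfl) t (ht | rfl)
    · exact congrArg Subtype.val (hA.is_comm.comm ⟨s, hs⟩ ⟨t, ht⟩)
    · exact mem_centralizer_iff.1 (hMC hy) s hs
    · exact (mem_centralizer_iff.1 (hMC hy) t ht).symm
    · rfl
  haveI hBc : IsMulCommutative B := Subgroup.isMulCommutative_closure hgen
  have hBn : B.Normal := by
    refine ⟨fun b hb g => ?_⟩
    have hle : B ≤ B.comap (MulAut.conj g).toMonoidHom := by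
      conv_lhs => rw [hB]
      rw [closure_le]
      rintro s (hs | rfl)
      · exact subset_closure (Or.inl ((inferInstance : A.Normal).conj_mem s hs g))
      · show g * s * g⁻¹ ∈ B
        have h := mul_mem (subset_closure (Or.inl (hcy g)) : ⁅g, s⁆ ∈ B)
          (subset_closure (Or.inr rfl) : s ∈ B)
        rwa [commutatorElement_def, inv_mul_cancel_right] at h
    exact hle hb
  have hBe : ∀ b ∈ B, b ^ p ^ n = 1 := by
    intro b hb
    induction hb using closure_induction with
    | mem s hs => rcases hs with hs | rfl; exacts [hAe s hs, hyn]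
    | one => exact one_pow _
    | mul s t hs ht ihs iht =>
      rw [(show Commute s t from congrArg Subtype.val (hBc.is_comm.comm ⟨s, hs⟩ ⟨t, ht⟩)).mul_pow,
        ihs, iht, one_mul]
    | inv s _ ihs => rw [inv_pow, ihs, inv_one]
  exact hyA (hmax' B hBn hBc hBe (fun a ha => subset_closure (Or.inl ha)) ▸
    (subset_closure (Or.inr rfl) : y ∈ B))

end Cfsg.Agent.S0130
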