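import Cfsg.Statements.S0131
import Cfsg.Agent.Lib.Transfer.Fusion

set_option autoImplicit false
open Cfsg
open scoped commutatorElement
set_option linter.style.haveILetI false

namespace Cfsg.Agent.S0131

/-- P/P' has a normal complement in G exactly when the focal subgroup G' ∩ P is as small as possible, namely P'. -/
theorem result {G : Type*} [Group G] [Finite G] {p : ℕ} [Fact p.Prime] (P : Sylow p G) : (∃ N : Subgroup G, N.Normal ∧ N ⊓ (P : Subgroup G) = ⁅(P : Subgroup G), (P : Subgroup G)⁆ ∧ N ⊔ (P : Subgroup G) = ⊤) ↔ commutator G ⊓ (P : Subgroup G) = ⁅(P : Subgroup G), (P : Subgroup G)⁆ := by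
  constructor
  · rintro ⟨N, hN, hNP, htop⟩
    haveI := hN
    refine le_antisymm ?_ (le_inf (Subgroup.commutator_mono le_top le_top)
      (hNP ▸ inf_le_right))
    rw [← hNP]
    refine inf_le_inf_right _ ?_
    rw [commutator_def, Subgroup.commutator_le]
    intro a _ b _
    obtain ⟨n₁, hn₁, x, hx, rfl⟩ := Subgroup.mem_sup_of_normal_left.mp (htop ▸ Subgroup.mem_top a)
    obtain ⟨n₂, hn₂, y, hy, rfl⟩ := Subgroup.mem_sup_of_normal_left.mp (htop ▸ Subgroup.mem_top b)
    have h1 : ⁅x, y⁆ ∈ N := (hNP.ge (Subgroup.commutator_mem_commutator hx hy)).1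
    rw [← QuotientGroup.eq_one_iff] at h1 hn₁ hn₂ ⊢
    simp only [commutatorElement_def, QuotientGroup.mk_mul, QuotientGroup.mk_inv] at h1 ⊢
    simp only [hn₁, hn₂, one_mul]
    exact h1
  · intro h
    obtain ⟨N, hN, h1, h2⟩ := Transfer.exists_normal_inf_eq_commutator_inf (P : Subgroup G)
      (Transfer.coprime_index_of_coprime_card (Transfer.sylow_coprime P))
    exact ⟨N, hN, h1.trans h, h2⟩

end Cfsg.Agent.S0131
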