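import Cfsg.Statements.S0147
import Cfsg.Agent.Lib.Char.Induction
import Mathlib.Tactic.Group

set_option autoImplicit false
open Cfsg

namespace Cfsg.Agent.S0147

/-- Transitivity of induction: inducing from H to K and then from K to G is the same as inducing from H to G. -/
theorem result {G : Type*} [Group G] [Fintype G] (H K : Subgroup G) [Fintype K] (hHK : H ≤ K) (θ : H → ℂ) : Cfsg.indFun K (Cfsg.indFun (H.subgroupOf K) (fun x => θ ⟨(x : K), Subgroup.mem_subgroupOf.mp x.2⟩)) = Cfsg.indFun H θ := by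
  classical
  set θ' : H.subgroupOf K → ℂ := fun x => θ ⟨(x : K), Subgroup.mem_subgroupOf.mp x.2⟩
  have hc : Nat.card (H.subgroupOf K) = Nat.card H :=
    Nat.card_congr (Subgroup.subgroupOfEquivOfLe hHK).toEquiv
  have hin : ∀ z : G, extendByZero K (indFun (H.subgroupOf K) θ') z =
      (Nat.card H : ℂ)⁻¹ * ∑ y : K, extendByZero H θ ((y : G)⁻¹ * z * y) := by
    intro z
    by_cases hz : z ∈ K
    · rw [Cfsg.Agent.Char.extendByZero_of_mem _ _ hz]
      simp only [indFun]
      rw [hc]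
      congr 1
      refine Finset.sum_congr rfl fun y _ => ?_
      have hval : ((y⁻¹ * ⟨z, hz⟩ * y : K) : G) = (y : G)⁻¹ * z * y := rfl
      by_cases hy : (y : G)⁻¹ * z * y ∈ H
      · rw [Cfsg.Agent.Char.extendByZero_of_mem _ _ hy,
          Cfsg.Agent.Char.extendByZero_of_mem (H.subgroupOf K) _ (Subgroup.mem_subgroupOf.mpr (hval ▸ hy))]
        exact congrArg θ (Subtype.ext hval)
      · rw [Cfsg.Agent.Char.extendByZero_of_notMem _ _ hy,
          Cfsg.Agent.Char.extendByZero_of_notMem (H.subgroupOf K) _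
            (fun h => hy (hval ▸ Subgroup.mem_subgroupOf.mp h))]
    · rw [Cfsg.Agent.Char.extendByZero_of_notMem _ _ hz, Finset.sum_eq_zero, mul_zero]
      intro y _
      refine Cfsg.Agent.Char.extendByZero_of_notMem _ _ fun h => hz ?_
      have := mul_mem (mul_mem y.2 (hHK h)) (inv_mem y.2)
      rwa [show (y : G) * ((y : G)⁻¹ * z * y) * (y : G)⁻¹ = z by group] at this
  funext g
  show (Nat.card K : ℂ)⁻¹ * ∑ x : G, extendByZero K (indFun (H.subgroupOf K) θ') (x⁻¹ * g * x) =
    (Nat.card H : ℂ)⁻¹ * ∑ x : G, extendByZero H θ (x⁻¹ * g * x)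
  simp only [hin, ← Finset.mul_sum]
  have hshift : ∀ y : K, ∑ x : G, extendByZero H θ ((y : G)⁻¹ * (x⁻¹ * g * x) * y) =
      ∑ x : G, extendByZero H θ (x⁻¹ * g * x) := fun y =>
    Fintype.sum_equiv (Equiv.mulRight (y : G)) _ _ fun x => by
      simp [mul_assoc]
  rw [Finset.sum_comm, Finset.sum_congr rfl fun y _ => hshift y, Finset.sum_const, Finset.card_univ,
    nsmul_eq_mul, ← Nat.card_eq_fintype_card]
  have hK : (Nat.card K : ℂ) ≠ 0 := Nat.cast_ne_zero.2 Nat.card_pos.ne'
  field_simp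

end Cfsg.Agent.S0147
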