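import Cfsg.Statements.S0149
import Cfsg.Agent.Lib.Char.Induction

set_option autoImplicit false
open Cfsg

namespace Cfsg.Agent.S0149

/-- Let T be a subset of G meeting each of its conjugates by elements outside its normalizer N only in the identity, and let ψ be a class function of N vanishing on N away from T. Then the function induced from ψ agrees with ψ at every non-identity element of T. -/
theorem result {G : Type*} [Group G] [Fintype G] (T : Set G) (hTI : ∀ g : G, g ∉ Subgroup.normalizer T → ∀ t ∈ T, g * t * g⁻¹ ∈ T → t = 1) (hTN : T ⊆ Subgroup.normalizer T) (ψ : Subgroup.normalizer T → ℂ) (hψ : Cfsg.IsClassFunction (Subgroup.normalizer T) ψ) (hψT : ∀ x : Subgroup.normalizer T, (x : G) ∉ T → ψ x = 0) (t : Subgroup.normalizer T) (htT : (t : G) ∈ T) (ht1 : t ≠ 1) : Cfsg.indFun (Subgroup.normalizer T) ψ t = ψ t := by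
  classical
  let N := Subgroup.normalizer T
  have ht1' : (t : G) ≠ 1 := fun h => ht1 (Subtype.ext h)
  have hval : ∀ x : G, extendByZero N ψ (x⁻¹ * (t : G) * x) = if x ∈ N then ψ t else 0 := by
    intro x
    split_ifs with hx
    · rw [Cfsg.Agent.Char.extendByZero_of_mem _ _ (mul_mem (mul_mem (inv_mem hx) t.2) hx)]
      have := hψ t ⟨x, hx⟩⁻¹
      rw [inv_inv] at this
      exact this
    · by_cases hm : x⁻¹ * (t : G) * x ∈ N
      · rw [Cfsg.Agent.Char.extendByZero_of_mem _ _ hm]
        refine hψT _ fun hT => ht1' (hTI x⁻¹ (fun h => hx ?_) t htT ?_)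
        · simpa using inv_mem h
        · rwa [inv_inv]
      · exact Cfsg.Agent.Char.extendByZero_of_notMem _ _ hm
  show (Nat.card N : ℂ)⁻¹ * ∑ x : G, extendByZero N ψ (x⁻¹ * (t : G) * x) = ψ t
  have hN : (Nat.card N : ℂ) ≠ 0 := Nat.cast_ne_zero.2 Nat.card_pos.ne'
  rw [Finset.sum_congr rfl fun x _ => hval x, Finset.sum_ite, Finset.sum_const_zero, add_zero,
    Finset.sum_const, ← Fintype.card_subtype, nsmul_eq_mul, ← mul_assoc, ← Nat.card_eq_fintype_card]
  exact (congrArg (· * ψ t) (inv_mul_cancel₀ hN)).trans (one_mul _)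

end Cfsg.Agent.S0149
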