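import Cfsg.Statements.S0157
import Cfsg.Agent.Lib.Char.PermChar
-- import your own Cfsg.Agent.* helpers here

set_option autoImplicit false
open Cfsg

namespace Cfsg.Agent.S0157

theorem two_pretransitive_iff_card {G : Type*} [Group G] (X : Type*) [MulAction G X] [Finite X]
    [MulAction.IsPretransitive G X] (hX : 2 ≤ Nat.card X) :
    MulAction.IsMultiplyPretransitive G X 2 ↔
      Nat.card (Quotient (MulAction.orbitRel G (X × X))) = 2 := by
  haveI : Nontrivial X := Finite.one_lt_card_iff_nontrivial.1 hX
  obtain ⟨a, b, hab⟩ := exists_pair_ne X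
  rw [MulAction.is_two_pretransitive_iff]
  let q : X × X → Quotient (MulAction.orbitRel G (X × X)) := fun p => Quotient.mk _ p
  have hq : ∀ p p' : X × X, q p = q p' ↔ ∃ g : G, g • p' = p := fun p p' => Quotient.eq''
  have hne : q (a, a) ≠ q (a, b) := by
    intro h
    obtain ⟨g, hg⟩ := (hq _ _).1 h.symm
    obtain ⟨h1, h2⟩ := Prod.ext_iff.1 hg
    exact hab (h1.symm.trans h2)
  constructor
  · intro ht
    refine Nat.card_eq_two_iff.2 ⟨q (a, a), q (a, b), hne, Set.eq_univ_of_forall fun z => ?_⟩
    induction z using Quotient.inductionOn with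
    | _ p =>
      obtain ⟨c, d⟩ := p
      by_cases hcd : c = d
      · subst hcd
        obtain ⟨g, hg⟩ := MulAction.exists_smul_eq G a c
        exact Or.inl ((hq (c, c) (a, a)).2 ⟨g, Prod.ext hg hg⟩)
      · obtain ⟨g, h1, h2⟩ := ht hab hcd
        exact Or.inr ((hq (c, d) (a, b)).2 ⟨g, Prod.ext h1 h2⟩)
  · intro h2 c d c' d' hcd hcd'
    obtain ⟨x, y, -, hu⟩ := Nat.card_eq_two_iff.1 h2
    have key : ∀ e f : X, e ≠ f → q (e, f) = q (a, b) := by
      intro e f hef
      have hne' : q (a, a) ≠ q (e, f) := by
        intro h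
        obtain ⟨g, hg⟩ := (hq _ _).1 h.symm
        obtain ⟨h1, h2'⟩ := Prod.ext_iff.1 hg
        exact hef (h1.symm.trans h2')
      have m : ∀ z, z = x ∨ z = y := fun z => by
        have : z ∈ ({x, y} : Set _) := by rw [hu]; trivial
        simpa using this
      rcases m (q (a, a)) with p1 | p1 <;> rcases m (q (a, b)) with p2 | p2 <;>
        rcases m (q (e, f)) with p3 | p3 <;> simp_all
    obtain ⟨g, hg⟩ := (hq _ _).1 ((key c' d' hcd').trans (key c d hcd).symm)
    exact ⟨g, Prod.ext_iff.1 hg⟩

/-- For a transitive action of a finite group on a finite set with at least two points: the action is 2-transitive if and only if the function sending g to (number of fixed points of g) − 1 is an irreducible character. -/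
theorem result {G : Type*} [Group G] [Finite G] (X : Type*) [MulAction G X] [Finite X] [MulAction.IsPretransitive G X] (hX : 2 ≤ Nat.card X) : Cfsg.IsIrrCharacter G (fun g => (Nat.card (MulAction.fixedBy X g) : ℂ) - 1) ↔ MulAction.IsMultiplyPretransitive G X 2 := by
  haveI := Fintype.ofFinite G
  classical
  rw [Char.isIrrCharacter_iff, two_pretransitive_iff_card X hX]
  have hX1 : Nat.card (Quotient (MulAction.orbitRel G X)) = 1 := by
    haveI : Nonempty X := (Nat.card_pos_iff.1 (by omega)).1
    exact Nat.card_eq_one_iff_unique.2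
      ⟨(MulAction.pretransitive_iff_subsingleton_quotient G X).1 inferInstance,
        ⟨Quotient.mk _ (Classical.arbitrary X)⟩⟩
  have h1 : classInner (fun g : G => (Nat.card (MulAction.fixedBy X g) : ℂ)) (fun _ => 1) = 1 := by
    rw [Char.classInner_fixedBy_one, hX1, Nat.cast_one]
  have h1' : classInner (fun _ : G => (1 : ℂ)) (fun g => (Nat.card (MulAction.fixedBy X g) : ℂ)) = 1 := by
    rw [← Char.conj_classInner, h1, map_one]
  have hsub : (fun g : G => (Nat.card (MulAction.fixedBy X g) : ℂ) - 1) =
      (fun g : G => (Nat.card (MulAction.fixedBy X g) : ℂ)) - (fun _ => 1) := rfl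
  have hn : classInner (fun g : G => (Nat.card (MulAction.fixedBy X g) : ℂ) - 1)
      (fun g : G => (Nat.card (MulAction.fixedBy X g) : ℂ) - 1) =
      (Nat.card (Quotient (MulAction.orbitRel G (X × X))) : ℂ) - 1 := by
    rw [hsub, Char.classInner_sub_left, Char.classInner_sub_right, Char.classInner_sub_right, h1,
      h1', Char.classInner_fixedBy_self, Char.classInner_irr_self Char.isIrrCharacter_one]
    ring
  have hc : IsCharacter G (fun g : G => (Nat.card (MulAction.fixedBy X g) : ℂ) - 1) := by
    refine Char.isCharacter_iff.2 ⟨fun g h => ?_, fun ψ => ?_⟩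
    · exact congrArg (fun z : ℂ => z - 1)
        (Char.IsCharacter.isClassFunction (Char.isCharacter_fixedBy X) g h)
    · by_cases hψ : ψ = Char.trivialChar G
      · subst hψ
        refine ⟨0, ?_⟩
        rw [hsub, Char.classInner_sub_left]
        show classInner _ (fun _ : G => (1 : ℂ)) - classInner _ (fun _ : G => (1 : ℂ)) = _
        rw [h1, Char.classInner_irr_self Char.isIrrCharacter_one, sub_self, Nat.cast_zero]
      · obtain ⟨n, hn⟩ := Char.IsCharacter.exists_nat_classInner (Char.isCharacter_fixedBy (G := G) X)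
          (Char.irr_isCharacter ψ)
        refine ⟨n, ?_⟩
        rw [hsub, Char.classInner_sub_left, hn,
          Char.classInner_irr_of_ne Char.isIrrCharacter_one ψ.2
            (fun e => hψ (Subtype.ext e.symm)), sub_zero]
  rw [hn, sub_eq_iff_eq_add, and_iff_right hc]
  norm_num
  norm_cast

end Cfsg.Agent.S0157
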