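import Cfsg.Statements.S0160
import Cfsg.Agent.Lib.Char.BrauerPermChar
import Cfsg.Agent.Lib.Char.RealChar

set_option linter.style.haveILetI false

set_option autoImplicit false
open Cfsg

namespace Cfsg.Agent.S0160

/-- A finite group has as many real-valued irreducible complex characters as conjugacy classes closed under taking inverses. -/
theorem result {G : Type*} [Group G] [Finite G] : Nat.card {χ : Cfsg.IrrCharacter G // ∀ g : G, ((χ : G → ℂ) g).im = 0} = Nat.card {C : ConjClasses G // ∀ g : G, ConjClasses.mk g = C → IsConj g g⁻¹} := by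
  haveI := Fintype.ofFinite G
  have h := Cfsg.Agent.Char.card_fixed_irr_eq_card_fixed_classes
    (Cfsg.Agent.Char.conjPerm (G := G)) (Cfsg.Agent.Char.classInvPerm (G := G))
    Cfsg.Agent.Char.classValue_conjPerm
  refine Eq.trans (Nat.card_congr (Equiv.subtypeEquivRight fun χ => ?_))
    (h.trans (Nat.card_congr (Equiv.subtypeEquivRight fun c => ?_)))
  · exact (Cfsg.Agent.Char.conjIrr_eq_self_iff χ).symm
  · obtain ⟨g, rfl⟩ := ConjClasses.mk_surjective c
    rw [Cfsg.Agent.Char.classInvPerm_mk, ConjClasses.mk_eq_mk_iff_isConj]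
    constructor
    · intro hg x hx
      obtain ⟨a, ha⟩ := isConj_iff.1 (ConjClasses.mk_eq_mk_iff_isConj.1 hx)
      have h1 : IsConj g⁻¹ x⁻¹ := (isConj_iff.2 ⟨a, by rw [← ha]; group⟩ : IsConj x⁻¹ g⁻¹).symm
      exact ((ConjClasses.mk_eq_mk_iff_isConj.1 hx).trans hg.symm).trans h1
    · intro hg
      exact (hg g rfl).symm

end Cfsg.Agent.S0160
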