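import Cfsg.Statements.S0162
import Cfsg.Agent.S0161
import Cfsg.Agent.Lib.CharInt.Central
import Cfsg.Agent.Lib.Char.RealChar

set_option autoImplicit false
open Cfsg

namespace Cfsg.Agent.S0162

/-- If a finite group has odd order, its order is congruent to its number of conjugacy classes modulo 16. -/
theorem result {G : Type*} [Group G] [Finite G] (hodd : Odd (Nat.card G)) : Nat.card G ≡ Nat.card (ConjClasses G) [MOD 16] := by
  classical
  haveI := Fintype.ofFinite G
  letI := Fintype.ofFinite (IrrCharacter G)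
  have hodd' : ∀ χ : IrrCharacter G, Odd (Cfsg.Agent.Char.degree χ) := fun χ => by
    obtain ⟨m, ρ, hρ, hρχ⟩ := χ.2
    haveI := hρ
    have hd := Cfsg.Agent.CharInt.finrank_dvd_natCard ρ
    have he : Cfsg.Agent.Char.degree χ = Module.finrank ℂ (Fin m → ℂ) := by
      have h := Cfsg.Agent.Char.apply_one_eq_degree χ
      rw [← hρχ, Representation.char_one] at h
      exact_mod_cast h.symm
    exact he ▸ Odd.of_dvd_nat hodd hd
  have hsq : ∀ d : ℕ, Odd d → (2 : ZMod 16) * ((d : ZMod 16) ^ 2 - 1) = 0 := by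
    rintro d ⟨k, rfl⟩
    obtain ⟨i, hi | hi⟩ := Nat.even_or_odd' k <;> subst hi <;> push_cast <;> ring_nf
    · rw [show (16 : ZMod 16) = 0 from rfl, show (32 : ZMod 16) = 0 from rfl]; ring
    · rw [show (16 : ZMod 16) = 0 from rfl, show (48 : ZMod 16) = 0 from rfl,
        show (32 : ZMod 16) = 0 from rfl]; ring
  have hsum : ∑ χ : IrrCharacter G, ((Cfsg.Agent.Char.degree χ : ZMod 16) ^ 2 - 1) = 0 := by
    refine Finset.sum_involution (fun χ _ => Cfsg.Agent.Char.conjIrr χ) ?_ ?_ (fun _ _ => Finset.mem_univ _)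
      (fun χ _ => Cfsg.Agent.Char.conjIrr_conjIrr χ)
    · intro χ _
      have he : Cfsg.Agent.Char.degree (Cfsg.Agent.Char.conjIrr χ) = Cfsg.Agent.Char.degree χ := by
        have h1 := Cfsg.Agent.Char.apply_one_eq_degree (Cfsg.Agent.Char.conjIrr χ)
        have h2 : (Cfsg.Agent.Char.conjIrr χ).1 1 = starRingEnd ℂ (χ.1 1) := rfl
        rw [h2, Cfsg.Agent.Char.apply_one_eq_degree, map_natCast] at h1
        exact_mod_cast h1.symm
      rw [he, ← two_mul]
      exact hsq _ (hodd' χ)
    · intro χ _ hne hfix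
      apply hne
      have hreal := (Cfsg.Agent.Char.conjIrr_eq_self_iff χ).mp hfix
      have h1 := Cfsg.Agent.S0161.result hodd χ hreal
      have hd : Cfsg.Agent.Char.degree χ = 1 := by
        have h := Cfsg.Agent.Char.apply_one_eq_degree χ
        rw [h1] at h
        have h' : ((1 : ℕ) : ℂ) = (Cfsg.Agent.Char.degree χ : ℂ) := by rw [Nat.cast_one]; exact h
        exact (Nat.cast_injective h').symm
      rw [hd]; simp
  rw [← ZMod.natCast_eq_natCast_iff, ← Cfsg.Agent.Char.card_irr, ← Cfsg.Agent.Char.sum_degree_sq]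
  rw [Finset.sum_sub_distrib, sub_eq_zero, Finset.sum_const, Finset.card_univ, nsmul_eq_mul, mul_one]
    at hsum
  push_cast
  rw [hsum, Nat.card_eq_fintype_card]

end Cfsg.Agent.S0162
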