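import Cfsg.Statements.S0163
import Cfsg.Agent.Lib.Char.Brauer
-- import your own Cfsg.Agent.* helpers here

set_option autoImplicit false
open Cfsg

namespace Cfsg.Agent.S0163

/-- Brauer's induction Theorem: every character of a finite group is a ℤ-linear combination of functions induced from linear characters (homomorphisms to ℂˣ) of elementary subgroups. -/
theorem result {G : Type*} [Group G] [Fintype G] (χ : G → ℂ) (hχ : Cfsg.IsCharacter G χ) : ∃ l : List ((E : Subgroup G) × ((E →* ℂˣ) × ℤ)), (∀ t ∈ l, ∃ p : ℕ, p.Prime ∧ Cfsg.IsElementary p t.1) ∧ χ = (l.map fun t => (t.2.2 : ℂ) • Cfsg.indFun t.1 (fun e => (t.2.1 e : ℂ))).sum := by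
  classical
  let L : Type _ := List ((E : Subgroup G) × ((E →* ℂˣ) × ℤ))
  let ev : L → G → ℂ := fun l =>
    (l.map fun t => (t.2.2 : ℂ) • Cfsg.indFun t.1 (fun e => (t.2.1 e : ℂ))).sum
  suffices H : ∀ f ∈ Char.elemLinInd G, ∃ l : L,
      (∀ t ∈ l, ∃ p : ℕ, p.Prime ∧ Cfsg.IsElementary p t.1) ∧ f = ev l from
    H χ (Char.IsGeneralizedCharacter.mem_elemLinInd (Char.IsCharacter.isGeneralized hχ))
  intro f hf
  induction hf using AddSubgroup.closure_induction with
  | mem f hf =>
    obtain ⟨E, lam, hel, rfl⟩ := hf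
    refine ⟨[⟨E, lam.toHomUnits, 1⟩], ?_, ?_⟩
    · intro t ht
      rw [List.mem_singleton] at ht
      subst ht
      exact hel
    · simp [ev]
  | zero => exact ⟨[], fun t ht => absurd ht List.not_mem_nil, by simp [ev]⟩
  | add x y _ _ hx hy =>
    obtain ⟨l₁, h₁, rfl⟩ := hx
    obtain ⟨l₂, h₂, rfl⟩ := hy
    refine ⟨l₁ ++ l₂, fun t ht => (List.mem_append.1 ht).elim (h₁ t) (h₂ t), ?_⟩
    exact (List.sum_append.symm.trans (congrArg List.sum List.map_append.symm) : _ = ev (l₁ ++ l₂))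
  | neg x hmem2 hx =>
    obtain ⟨l, h, rfl⟩ := hx
    refine ⟨l.map fun t => ⟨t.1, t.2.1, -t.2.2⟩, fun t ht => ?_, ?_⟩
    · obtain ⟨s, hs, rfl⟩ := List.mem_map.1 ht
      exact h s hs
    · clear h hmem2
      induction l with
      | nil => simp [ev]
      | cons a t ih =>
        simp only [ev, List.map_cons, List.sum_cons] at ih ⊢
        rw [neg_add, ih, Int.cast_neg, neg_smul]

end Cfsg.Agent.S0163
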