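import Cfsg.Statements.S0165
import Cfsg.Agent.Lib.Char.PRegular
-- import your own Cfsg.Agent.* helpers here

set_option autoImplicit false
open Cfsg

namespace Cfsg.Agent.S0165

/-- If p ^ n is the exact power of the prime p dividing the order of a finite group and p ^ n divides the degree of an irreducible complex representation, then its character vanishes at every element of order divisible by p. -/
theorem result {G : Type*} [Group G] [Finite G] {V : Type*} [AddCommGroup V] [Module ℂ V] [FiniteDimensional ℂ V] (ρ : Representation ℂ G V) [ρ.IsIrreducible] (p n : ℕ) (hp : p.Prime) (hn : p ^ n ∣ Nat.card G) (hn' : ¬ p ^ (n + 1) ∣ Nat.card G) (hdeg : p ^ n ∣ Module.finrank ℂ V) (x : G) (hx : p ∣ orderOf x) : ρ.character x = 0 := by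
  classical
  haveI := Fintype.ofFinite G
  let χ : Cfsg.IrrCharacter G := ⟨ρ.character, Char.isIrrCharacter_character ρ inferInstance⟩
  have hd : Char.degree χ = Module.finrank ℂ V := by
    have h1 := Char.apply_one_eq_degree χ
    rw [show χ.1 1 = ρ.character 1 from rfl, Representation.char_one] at h1
    exact_mod_cast h1.symm
  have ha : (Nat.card G).factorization p = n := by
    rw [hp.pow_dvd_iff_le_factorization Nat.card_pos.ne'] at hn hn'
    omega
  have hb : (Nat.card G).factorization p ≤ (Char.degree χ).factorization p := by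
    rw [ha, ← hp.pow_dvd_iff_le_factorization (Char.degree_pos χ).ne', hd]
    exact hdeg
  have hg := Char.isGeneralizedCharacter_pPow_sub_smul_regFun hp χ
  rw [Nat.sub_eq_zero_of_le hb, pow_zero, Nat.cast_one, one_smul] at hg
  obtain ⟨z, hz⟩ := Char.IsGeneralizedCharacter.exists_int_classInner hg (Char.irr_isGeneralized χ)
  -- `S` is the sum over the regular elements
  set S : ℝ := ∑ g : G, if p ∣ orderOf g then 0 else Complex.normSq (χ.1 g) with hS
  have hT : ∑ g : G, Complex.normSq (χ.1 g) = (Nat.card G : ℝ) := by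
    have h := Char.classInner_irr_self χ.2
    rw [Char.classInner_self, ← Complex.ofReal_one, Complex.ofReal_inj,
      inv_mul_eq_one₀ (Nat.cast_ne_zero.2 Nat.card_pos.ne')] at h
    exact h.symm
  have hzS : (z : ℝ) * Nat.card G = S := by
    have : ((z : ℝ) : ℂ) * ((Nat.card G : ℝ) : ℂ) = (S : ℂ) := by
      rw [Complex.ofReal_intCast, ← hz, hS, Complex.ofReal_sum, classInner, Complex.ofReal_natCast,
        mul_comm, ← mul_assoc, mul_inv_cancel₀ Char.card_ne_zero, one_mul]
      refine Finset.sum_congr rfl fun g _ => ?_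
      simp only [Char.regFun]
      split_ifs <;> simp [Complex.mul_conj]
    exact_mod_cast this
  have hle : ∀ g : G, (if p ∣ orderOf g then 0 else Complex.normSq (χ.1 g)) ≤ Complex.normSq (χ.1 g) :=
    fun g => by split_ifs <;> simp [Complex.normSq_nonneg]
  have hnn : ∀ g : G, 0 ≤ (if p ∣ orderOf g then 0 else Complex.normSq (χ.1 g)) :=
    fun g => by split_ifs <;> simp [Complex.normSq_nonneg]
  have hSle : S ≤ Nat.card G := hT ▸ Finset.sum_le_sum fun g _ => hle g
  have hSpos : 0 < S := by
    refine Finset.sum_pos' (fun g _ => hnn g) ⟨1, Finset.mem_univ _, ?_⟩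
    rw [orderOf_one, if_neg (by simpa using hp.ne_one)]
    exact Complex.normSq_pos.2 (Char.IsIrrCharacter.apply_one_ne_zero χ.2)
  have hG : (0 : ℝ) < Nat.card G := Nat.cast_pos.2 Nat.card_pos
  have hz1 : z = 1 := by
    have h1 : (0 : ℝ) < z := by
      by_contra hcon
      push Not at hcon
      nlinarith
    have h2 : (z : ℝ) ≤ 1 := by nlinarith
    have h1' : 0 < z := by exact_mod_cast h1
    have h2' : z ≤ 1 := by exact_mod_cast h2
    omega
  rw [hz1, Int.cast_one, one_mul, ← hT] at hzS
  have hx0 := (Finset.sum_eq_sum_iff_of_le fun g _ => hle g).1 hzS.symm x (Finset.mem_univ x)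
  rw [if_pos hx] at hx0
  exact Complex.normSq_eq_zero.1 hx0.symm

end Cfsg.Agent.S0165
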