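import Cfsg.Statements.S0166
import Cfsg.Agent.Lib.Char.FieldRealization
import Cfsg.Agent.Lib.Char.Multiplicity

set_option autoImplicit false
open Cfsg

namespace Cfsg.Agent.S0166

/-- Brauer's splitting field Theorem: a complex representation of a finite group of exponent m is equivalent to a representation by matrices with entries in ℚ adjoined exp(2πi/m). -/
theorem result {G : Type*} [Group G] [Finite G] (n : ℕ) (ρ : Representation ℂ G (Fin n → ℂ)) : ∃ σ : Representation ℂ G (Fin n → ℂ), Nonempty (ρ.Equiv σ) ∧ ∀ g : G, ∀ i j : Fin n, LinearMap.toMatrix' (σ g) i j ∈ Algebra.adjoin ℚ ({Complex.exp (2 * Real.pi * Complex.I / (Monoid.exponent G : ℂ))} : Set ℂ) := by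
  classical
  haveI := Fintype.ofFinite G
  set m := Monoid.exponent G with hmdef
  have hm : m ≠ 0 := Monoid.exponent_ne_zero_of_finite
  set ζ : ℂ := Complex.exp (2 * Real.pi * Complex.I / (m : ℂ)) with hζdef
  have hζ : IsPrimitiveRoot ζ m := Complex.isPrimitiveRoot_exp m hm
  haveI : NeZero m := ⟨hm⟩
  let K : IntermediateField ℚ ℂ := IntermediateField.adjoin ℚ {ζ}
  have hroot : ∀ z : ℂ, z ^ m = 1 → z ∈ K := fun z hz => by
    obtain ⟨i, -, rfl⟩ := hζ.eq_pow_of_pow_eq_one hz
    exact pow_mem (IntermediateField.mem_adjoin_simple_self ℚ ζ) i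
  have hpow : ∀ (g : G) (z : ℂ), z ^ orderOf g = 1 → z ^ m = 1 := fun g z hz => by
    obtain ⟨c, hc⟩ := Monoid.order_dvd_exponent g
    rw [hmdef, hc, pow_mul, hz, one_pow]
  have hvals : ∀ χ : Cfsg.IrrCharacter G, ∀ g, χ.1 g ∈ K := by
    intro χ g
    obtain ⟨k, π, -, hπ⟩ := χ.2
    obtain ⟨μ, hμ, hsum⟩ := Cfsg.Agent.CharInt.exists_roots_character π g
    rw [← hπ, hsum]
    exact sum_mem fun i _ => hroot _ (hpow g _ (hμ i))
  have hlin : ∀ (H : Subgroup G) (lam : H →* ℂ) (h : H), lam h ∈ K := fun H lam h => by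
    refine hroot _ ?_
    rw [← map_pow, show h ^ m = 1 from Subtype.ext (by rw [SubmonoidClass.coe_pow]; exact Monoid.pow_exponent_eq_one _),
      map_one]
  obtain ⟨k, π, hπ⟩ := Cfsg.Agent.Char.isKChar_of_values K hvals hlin
    (Cfsg.Agent.Char.isCharacter_character ρ)
  have hk : k = n := by
    have h1 := hπ 1
    simp only [Representation.char_one, Module.finrank_fin_fun] at h1
    exact_mod_cast h1.symm
  subst hk
  refine ⟨Cfsg.Agent.Char.extendScalars π, Cfsg.Agent.Char.nonempty_equiv_of_character_eq _ _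
    (funext fun g => (hπ g).trans (Cfsg.Agent.Char.character_extendScalars π g).symm), fun g i j => ?_⟩
  rw [Cfsg.Agent.Char.toMatrix_extendScalars, Matrix.map_apply]
  have hint : IsIntegral ℚ ζ := (hζ.isIntegral (Nat.pos_of_ne_zero hm)).tower_top
  rw [← IntermediateField.adjoin_simple_toSubalgebra_of_isAlgebraic hint.isAlgebraic]
  exact (LinearMap.toMatrix' (π g) i j).2

end Cfsg.Agent.S0166
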