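import Cfsg.Statements.S0167
import Cfsg.Agent.Lib.Char.ClassSum
-- import your own Cfsg.Agent.* helpers here

set_option autoImplicit false
open Cfsg

namespace Cfsg.Agent.S0167

/-- An element g of a finite group is a commutator if and only if the sum over the irreducible characters χ of χ g / χ 1 is nonzero. -/
theorem result {G : Type*} [Group G] [Finite G] (g : G) : (∃ a b : G, g = a * b * a⁻¹ * b⁻¹) ↔ ∑ᶠ χ : Cfsg.IrrCharacter G, (χ : G → ℂ) g / (χ : G → ℂ) 1 ≠ 0 := by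
  haveI := Fintype.ofFinite G
  classical
  rw [finsum_eq_sum_of_fintype]
  have hflip : ∀ z : G, (∃ a b : G, z = a * b * a⁻¹ * b⁻¹) → ∃ a b : G, z⁻¹ = a * b * a⁻¹ * b⁻¹ := by
    rintro z ⟨a, b, rfl⟩
    exact ⟨b, a, by group⟩
  have h := Char.card_commutator_eq g⁻¹
  simp only [inv_inv] at h
  constructor
  · intro hg h0
    rw [h0, mul_zero, Nat.cast_eq_zero] at h
    obtain ⟨a, b, hab⟩ := hflip g hg
    haveI : Nonempty {p : G × G // p.1 * p.2 * p.1⁻¹ * p.2⁻¹ = g⁻¹} := ⟨⟨(a, b), hab.symm⟩⟩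
    exact Nat.card_pos.ne' h
  · intro h0
    have hne : Nat.card {p : G × G // p.1 * p.2 * p.1⁻¹ * p.2⁻¹ = g⁻¹} ≠ 0 := fun e => by
      rw [e, Nat.cast_zero] at h
      exact mul_ne_zero Char.card_ne_zero h0 h.symm
    obtain ⟨⟨⟨a, b⟩, hab⟩⟩ := (Nat.card_ne_zero.1 hne).1
    have := hflip g⁻¹ ⟨a, b, hab.symm⟩
    rwa [inv_inv] at this

end Cfsg.Agent.S0167
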