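import Cfsg.Statements.S0168
import Cfsg.Agent.Lib.Char.Basic
import Cfsg.Agent.Lib.CharInt.Eigen
import Mathlib.Algebra.Polynomial.BigOperators

set_option autoImplicit false
open Cfsg

namespace Cfsg.Agent.S0168

/-- The Burnside–Brauer Theorem. Let χ be the character of a faithful complex representation of a finite group, taking m distinct values. Then every irreducible character has nonzero inner product with χ ^ i for some i < m. -/
theorem result {G : Type*} [Group G] [Fintype G] {V : Type*} [AddCommGroup V] [Module ℂ V] [FiniteDimensional ℂ V] (ρ : Representation ℂ G V) (hfaithful : Function.Injective ρ) (ψ : G → ℂ) (hψ : Cfsg.IsIrrCharacter G ψ) : ∃ i : ℕ, i < Nat.card (Set.range ρ.character) ∧ Cfsg.classInner (fun g => ρ.character g ^ i) ψ ≠ 0 := by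
  classical
  by_contra hcon
  push Not at hcon
  set s : Finset ℂ := (Finset.univ : Finset G).image ρ.character with hs
  have hm : Nat.card (Set.range ρ.character) = s.card := by
    rw [← Set.ncard_coe_finset, hs, Finset.coe_image, Finset.coe_univ, Set.image_univ,
      Nat.card_coe_set_eq]
  let p : Polynomial ℂ := ∏ a ∈ s.erase (ρ.character 1), (Polynomial.X - Polynomial.C a)
  have hmem : ρ.character 1 ∈ s := Finset.mem_image_of_mem _ (Finset.mem_univ 1)
  have hdeg : p.natDegree < Nat.card (Set.range ρ.character) := by
    have hle : p.natDegree ≤ (s.erase (ρ.character 1)).card := by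
      refine (Polynomial.natDegree_prod_le _ _).trans ?_
      simp
    rw [hm]
    exact hle.trans_lt (Finset.card_erase_lt_of_mem hmem)
  have h0 : ∑ g : G, p.eval (ρ.character g) * starRingEnd ℂ (ψ g) = 0 := by
    simp only [Polynomial.eval_eq_sum_range, Finset.sum_mul]
    rw [Finset.sum_comm]
    refine Finset.sum_eq_zero fun i hi => ?_
    have h := hcon i (by rw [Finset.mem_range] at hi; omega)
    rw [classInner, mul_eq_zero] at h
    have h' := h.resolve_left (inv_ne_zero (Nat.cast_ne_zero.2 Nat.card_pos.ne'))
    simp only [mul_assoc, ← Finset.mul_sum, h', mul_zero]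
  have hone : ∀ g : G, g ≠ 1 → p.eval (ρ.character g) = 0 := by
    intro g hg
    rw [Polynomial.eval_prod]
    refine Finset.prod_eq_zero (i := ρ.character g) (Finset.mem_erase.mpr ⟨fun he => hg ?_,
      Finset.mem_image_of_mem _ (Finset.mem_univ g)⟩) (by simp)
    rw [Representation.char_one] at he
    exact hfaithful ((Cfsg.Agent.CharInt.character_eq_finrank_iff ρ g).mp he |>.trans (map_one ρ).symm)
  rw [Finset.sum_eq_single 1 (fun g _ hg => by rw [hone g hg, zero_mul]) (by simp), mul_eq_zero] at h0
  rcases h0 with h0 | h0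
  · rw [Polynomial.eval_prod, Finset.prod_eq_zero_iff] at h0
    obtain ⟨a, ha, ha0⟩ := h0
    rw [Polynomial.eval_sub, Polynomial.eval_X, Polynomial.eval_C, sub_eq_zero] at ha0
    exact (Finset.mem_erase.mp ha).1 ha0.symm
  · exact Cfsg.Agent.Char.IsIrrCharacter.apply_one_ne_zero hψ
      ((map_eq_zero (starRingEnd ℂ)).mp h0)

end Cfsg.Agent.S0168
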