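import Cfsg.Statements.S0170
import Cfsg.Agent.S0150
import Cfsg.Agent.S0198
import Cfsg.Agent.Lib.Char.Generalized

set_option autoImplicit false
open Cfsg

namespace Cfsg.Agent.S0170

/-- Exceptional characters. Let S be a subset of a finite group contained in its normalizer N and meeting its conjugates by elements outside N only in the identity. Given n ≥ 2 distinct irreducible characters of N of equal degree that vanish on N away from S, there exist a sign ε and n distinct irreducible characters θ_i of G such that inducing χ_i − χ_j to G gives ε (θ_i − θ_j) for all i, j. -/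
theorem result {G : Type*} [Group G] [Fintype G] (S : Set G) (hSN : S ⊆ Subgroup.normalizer S) (hTI : ∀ g : G, g ∉ Subgroup.normalizer S → ∀ s ∈ S, g * s * g⁻¹ ∈ S → s = 1) (n : ℕ) (hn : 2 ≤ n) (χ : Fin n → (Subgroup.normalizer S → ℂ)) (hirr : ∀ i, Cfsg.IsIrrCharacter (Subgroup.normalizer S) (χ i)) (hinj : Function.Injective χ) (hvan : ∀ i, ∀ x : Subgroup.normalizer S, (x : G) ∉ S → χ i x = 0) (hdeg : ∀ i j, χ i 1 = χ j 1) : ∃ ε : ℂ, (ε = 1 ∨ ε = -1) ∧ ∃ θ : Fin n → (G → ℂ), (∀ i, Cfsg.IsIrrCharacter G (θ i)) ∧ Function.Injective θ ∧ ∀ i j, Cfsg.indFun (Subgroup.normalizer S) (χ i) - Cfsg.indFun (Subgroup.normalizer S) (χ j) = ε • (θ i - θ j) := by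
  classical
  let N := Subgroup.normalizer S
  let i₀ : Fin n := ⟨0, by omega⟩
  let τ : Fin n → (G → ℂ) := fun i => Cfsg.indFun N (χ i) - Cfsg.indFun N (χ i₀)
  have hdiff : ∀ i, Cfsg.indFun N (χ i - χ i₀) = τ i := fun i => Cfsg.Agent.Char.indFun_sub N _ _
  have hvan' : ∀ i, ∀ x : N, (x : G) ∉ S → (χ i - χ i₀) x = 0 := fun i x hx => by
    rw [Pi.sub_apply, hvan i x hx, hvan i₀ x hx, sub_self]
  have h1' : ∀ i, (χ i - χ i₀) 1 = 0 := fun i => by rw [Pi.sub_apply, hdeg i i₀, sub_self]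
  have hcf : ∀ i, Cfsg.IsClassFunction N (χ i - χ i₀) := fun i a b => by
    have hc := fun j => Cfsg.Agent.Char.IsCharacter.isClassFunction
      (Cfsg.Agent.Char.IsIrrCharacter.isCharacter (hirr j)) a b
    simp [hc i, hc i₀]
  have hgram : ∀ i j, i ≠ i₀ → j ≠ i₀ → Cfsg.classInner (τ i) (τ j) = if i = j then 2 else 1 := by
    intro i j hi hj
    rw [← hdiff, ← hdiff, Cfsg.Agent.S0150.result S hTI hSN _ _ (hcf i) (hcf j) (hvan' i) (hvan' j) (h1' i)]
    have e : ∀ k l, Cfsg.classInner (χ k) (χ l) = if k = l then 1 else 0 := fun k l => by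
      split_ifs with h
      · rw [h]; exact Cfsg.Agent.Char.classInner_irr_self (hirr l)
      · exact Cfsg.Agent.Char.classInner_irr_of_ne (hirr k) (hirr l) (hinj.ne h)
    rw [Cfsg.Agent.Char.classInner_sub_left, Cfsg.Agent.Char.classInner_sub_right,
      Cfsg.Agent.Char.classInner_sub_right, e, e, e, e, if_neg hi, if_neg (Ne.symm hj), if_pos rfl]
    split_ifs <;> norm_num
  obtain ⟨ε, hε, μ, hμ, hμi, hτ⟩ := Cfsg.Agent.S0198.result n i₀ τ (sub_self _)
    (fun i => Cfsg.Agent.Char.IsGeneralizedCharacter.sub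
      (Cfsg.Agent.Char.isGeneralizedCharacter_indFun N
        (Cfsg.Agent.Char.IsCharacter.isGeneralized (Cfsg.Agent.Char.IsIrrCharacter.isCharacter (hirr i))))
      (Cfsg.Agent.Char.isGeneralizedCharacter_indFun N
        (Cfsg.Agent.Char.IsCharacter.isGeneralized (Cfsg.Agent.Char.IsIrrCharacter.isCharacter (hirr i₀)))))
    (fun i => by
      simp only [τ, Pi.sub_apply, Cfsg.Agent.Char.indFun_apply_one]
      rw [hdeg i i₀, sub_self]) hgram
  refine ⟨ε, hε, μ, hμ, hμi, fun i j => ?_⟩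
  calc _ = τ i - τ j := by simp only [τ]; abel
    _ = _ := by rw [hτ i, hτ j, ← smul_sub, sub_sub_sub_cancel_right]

end Cfsg.Agent.S0170
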