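import Cfsg.Statements.S0172
import Mathlib.Algebra.Group.Subgroup.Pointwise
import Mathlib.GroupTheory.Index
import Mathlib.Algebra.Group.Conj
import Mathlib.Data.Set.Card
import Mathlib.Tactic.Ring
import Mathlib.Tactic.Group

set_option autoImplicit false
open Cfsg

namespace Cfsg.Agent.S0172

variable {G : Type*} [Group G] [Finite G] (K H : Subgroup G) [K.Normal]

theorem exists_conj_of_fpf (hfpf : ∀ h ∈ H, h ≠ 1 → ∀ k ∈ K, h * k = k * h → k = 1)
    {h : G} (hh : h ∈ H) (h1 : h ≠ 1) {u : G} (hu : u ∈ K) : ∃ v ∈ K, v * h * v⁻¹ = u * h := by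
  let φ : K → K := fun v => ⟨(v : G) * (h * (v : G)⁻¹ * h⁻¹),
    mul_mem v.2 (‹K.Normal›.conj_mem _ (inv_mem v.2) h)⟩
  have hφ : Function.Surjective φ := by
    refine Finite.surjective_of_injective fun v w hvw => ?_
    have h2 : (v : G) * (h * (v : G)⁻¹ * h⁻¹) = (w : G) * (h * (w : G)⁻¹ * h⁻¹) := congrArg Subtype.val hvw
    have h3 : h * ((w : G)⁻¹ * v) = (w : G)⁻¹ * v * h := by
      calc h * ((w : G)⁻¹ * v) = (w : G)⁻¹ * ((w : G) * (h * (w : G)⁻¹ * h⁻¹)) * h * v := by group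
        _ = (w : G)⁻¹ * v * h := by rw [← h2]; group
    exact (Subtype.ext (inv_mul_eq_one.mp (hfpf h hh h1 _ (mul_mem (inv_mem w.2) v.2) h3))).symm
  obtain ⟨v, hv⟩ := hφ ⟨u, hu⟩
  refine ⟨v, v.2, ?_⟩
  have h4 : (v : G) * (h * (v : G)⁻¹ * h⁻¹) = u := congrArg Subtype.val hv
  rw [← h4]; group

theorem eq_one_of_fixed_class (hfpf : ∀ h ∈ H, h ≠ 1 → ∀ k ∈ K, h * k = k * h → k = 1)
    {h : G} (hh : h ∈ H) (h1 : h ≠ 1) {k u : G} (hk : k ∈ K) (hu : u ∈ K)
    (he : h * k * h⁻¹ = u * k * u⁻¹) : k = 1 := by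
  obtain ⟨v, hv, hvh⟩ := exists_conj_of_fpf K H hfpf hh h1 (inv_mem hu)
  have hk' : v⁻¹ * k * v ∈ K := mul_mem (mul_mem (inv_mem hv) hk) hv
  have hc : h * (v⁻¹ * k * v) = v⁻¹ * k * v * h := by
    calc h * (v⁻¹ * k * v) = v⁻¹ * (v * h * v⁻¹) * k * v := by group
      _ = v⁻¹ * u⁻¹ * (h * k * h⁻¹) * h * v := by rw [hvh]; group
      _ = v⁻¹ * k * (u⁻¹ * h) * v := by rw [he]; group
      _ = v⁻¹ * k * v * h := by rw [← hvh]; group
  have h5 := hfpf h hh h1 _ hk' hc
  calc k = v * (v⁻¹ * k * v) * v⁻¹ := by group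
    _ = 1 := by rw [h5]; group

theorem exists_eq_mul (hKH' : K ⊔ H = ⊤) (g : G) : ∃ k ∈ K, ∃ h ∈ H, g = k * h := by
  have hg : g ∈ ((K ⊔ H : Subgroup G) : Set G) := by rw [hKH']; exact Subgroup.mem_top g
  rw [Subgroup.normal_mul] at hg
  obtain ⟨k, hk, h, hh, rfl⟩ := hg
  exact ⟨k, hk, h, hh, rfl⟩

/-- Class number of a Frobenius group: if G = K H with K normal, K ⊓ H trivial and no non-identity element of H commuting with a non-identity element of K, then |H| * k(G) + 1 = |H| * k(H) + k(K), where k denotes the number of conjugacy classes. -/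
theorem result {G : Type*} [Group G] [Finite G] (K H : Subgroup G) [K.Normal] (hKH : K ⊓ H = ⊥) (hKH' : K ⊔ H = ⊤) (hfpf : ∀ h ∈ H, h ≠ 1 → ∀ k ∈ K, h * k = k * h → k = 1) : Nat.card H * Nat.card (ConjClasses G) + 1 = Nat.card H * Nat.card (ConjClasses H) + Nat.card (ConjClasses K) := by
  classical
  have hdis : ∀ x, x ∈ K → x ∈ H → x = 1 := fun x hx hy => by
    have : x ∈ K ⊓ H := ⟨hx, hy⟩
    rwa [hKH, Subgroup.mem_bot] at this
  haveI : Finite (ConjClasses G) := Finite.of_surjective _ ConjClasses.mk_surjective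
  haveI : Finite (ConjClasses K) := Finite.of_surjective _ ConjClasses.mk_surjective
  haveI : Finite (ConjClasses H) := Finite.of_surjective _ ConjClasses.mk_surjective
  have hcls : ∀ {x y : G}, IsConj x y → (x ∈ K ↔ y ∈ K) := by
    intro x y hxy
    obtain ⟨c, rfl⟩ := isConj_iff.mp hxy
    exact ‹K.Normal›.mem_comm_iff.trans (by simp) |>.symm
  let S : Set (ConjClasses G) := ConjClasses.mk '' ((K : Set G) \ {1})
  let T : Set (ConjClasses G) := ConjClasses.mk '' ((K : Set G)ᶜ)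
  -- classes outside `K`
  have hT : T.ncard + 1 = Nat.card (ConjClasses H) := by
    let f : {C : ConjClasses H // C ≠ ConjClasses.mk 1} → T := fun C =>
      ⟨ConjClasses.map H.subtype C.1, by
        obtain ⟨h, hh⟩ := ConjClasses.mk_surjective C.1
        refine ⟨h, fun hK => C.2 ?_, by rw [← hh]; rfl⟩
        rw [← hh, Subtype.ext (hdis _ hK h.2) (a2 := (1 : H))]⟩
    have hf : Function.Bijective f := by
      constructor
      · rintro ⟨C, hC⟩ ⟨D, hD⟩ hCD
        obtain ⟨a, rfl⟩ := ConjClasses.mk_surjective C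
        obtain ⟨b, rfl⟩ := ConjClasses.mk_surjective D
        have hab : IsConj (a : G) b := ConjClasses.mk_eq_mk_iff_isConj.mp (congrArg Subtype.val hCD)
        obtain ⟨g, hg⟩ := isConj_iff.mp hab
        obtain ⟨k, hk, c, hc, rfl⟩ := exists_eq_mul K H hKH' g
        refine Subtype.ext (ConjClasses.mk_eq_mk_iff_isConj.mpr (isConj_iff.mpr ⟨⟨c, hc⟩, Subtype.ext ?_⟩))
        show c * a * c⁻¹ = b
        set x := c * (a : G) * c⁻¹
        have hxH : x ∈ H := mul_mem (mul_mem hc a.2) (inv_mem hc)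
        have hb : (b : G) = k * x * k⁻¹ := by rw [← hg]; simp only [x]; group
        have hK : (b : G) * x⁻¹ ∈ K := by
          rw [hb, show k * x * k⁻¹ * x⁻¹ = k * (x * k⁻¹ * x⁻¹) by group]
          exact mul_mem hk (‹K.Normal›.conj_mem _ (inv_mem hk) x)
        exact (mul_inv_eq_one.mp (hdis _ hK (mul_mem b.2 (inv_mem hxH)))).symm
      · rintro ⟨_, x, hx, rfl⟩
        obtain ⟨k, hk, h, hh, rfl⟩ := exists_eq_mul K H hKH' x
        have h1 : h ≠ 1 := fun h0 => hx (by simpa [h0] using hk)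
        refine ⟨⟨ConjClasses.mk ⟨h, hh⟩, fun he => h1 ?_⟩, Subtype.ext ?_⟩
        · have := isConj_one_left.mp (ConjClasses.mk_eq_mk_iff_isConj.mp he)
          exact congrArg Subtype.val this
        · obtain ⟨v, -, hv⟩ := exists_conj_of_fpf K H hfpf hh h1 hk
          exact ConjClasses.mk_eq_mk_iff_isConj.mpr (isConj_iff.mpr ⟨v, hv⟩)
    have hc := Nat.card_eq_of_bijective f hf
    rw [← Nat.card_coe_set_eq, ← hc, ← Nat.card_congr (Equiv.sumCompl (· = ConjClasses.mk (1 : H))),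
      Nat.card_sum]
    simp only [Nat.card_unique, ne_eq]
    omega
  -- nontrivial classes inside `K`
  have hS : Nat.card H * S.ncard + 1 = Nat.card (ConjClasses K) := by
    have hrep : ∀ C : S, ∃ r : K, (r : G) ≠ 1 ∧ ConjClasses.mk (r : G) = C.1 := by
      rintro ⟨_, x, ⟨hx, hx1⟩, rfl⟩
      exact ⟨⟨x, hx⟩, hx1, rfl⟩
    choose r hr1 hr using hrep
    let f : H × S → {C : ConjClasses K // C ≠ ConjClasses.mk 1} := fun p =>
      ⟨ConjClasses.mk ⟨(p.1 : G) * r p.2 * (p.1 : G)⁻¹, ‹K.Normal›.conj_mem _ (r p.2).2 _⟩,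
        fun he => hr1 p.2 (conj_eq_one_iff.mp (congrArg Subtype.val
          (isConj_one_left.mp (ConjClasses.mk_eq_mk_iff_isConj.mp he))))⟩
    have hf : Function.Bijective f := by
      constructor
      · rintro ⟨a, C⟩ ⟨b, D⟩ he
        obtain ⟨u, hu⟩ := isConj_iff.mp (ConjClasses.mk_eq_mk_iff_isConj.mp (congrArg Subtype.val he))
        have hu' : (u : G) * ((a : G) * r C * (a : G)⁻¹) * (u : G)⁻¹ = (b : G) * r D * (b : G)⁻¹ :=
          congrArg Subtype.val hu
        have hCD : C = D := Subtype.ext (by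
          rw [← hr C, ← hr D, ConjClasses.mk_eq_mk_iff_isConj, isConj_iff]
          refine ⟨(b : G)⁻¹ * u * a, ?_⟩
          calc (b : G)⁻¹ * u * a * r C * ((b : G)⁻¹ * u * a)⁻¹
              = (b : G)⁻¹ * ((u : G) * ((a : G) * r C * (a : G)⁻¹) * (u : G)⁻¹) * b := by group
            _ = r D := by rw [hu']; group)
        subst hCD
        by_contra hne
        have hab : (b : G)⁻¹ * a ≠ 1 := fun h => hne (by rw [Subtype.ext (inv_mul_eq_one.mp h)])
        refine hr1 C (eq_one_of_fixed_class K H hfpf (mul_mem (inv_mem b.2) a.2) hab (r C).2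
          (u := (b : G)⁻¹ * (u : G)⁻¹ * b) ?_ ?_)
        · have := ‹K.Normal›.conj_mem _ (inv_mem u.2) (b : G)⁻¹
          rwa [inv_inv] at this
        · calc (b : G)⁻¹ * a * r C * ((b : G)⁻¹ * a)⁻¹
              = (b : G)⁻¹ * (u : G)⁻¹ * ((u : G) * ((a : G) * r C * (a : G)⁻¹) * (u : G)⁻¹) * u * b := by
                group
            _ = (b : G)⁻¹ * (u : G)⁻¹ * b * r C * ((b : G)⁻¹ * (u : G)⁻¹ * b)⁻¹ := by rw [hu']; group
      · rintro ⟨D, hD⟩
        obtain ⟨k, rfl⟩ := ConjClasses.mk_surjective D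
        have hk1 : (k : G) ≠ 1 := fun h => hD (by rw [Subtype.ext h (a2 := (1 : K))])
        let C : S := ⟨ConjClasses.mk (k : G), k, ⟨k.2, hk1⟩, rfl⟩
        obtain ⟨g, hg⟩ := isConj_iff.mp (ConjClasses.mk_eq_mk_iff_isConj.mp (hr C))
        obtain ⟨v, hv, a, ha, rfl⟩ := exists_eq_mul K H hKH' g
        refine ⟨(⟨a, ha⟩, C), Subtype.ext (ConjClasses.mk_eq_mk_iff_isConj.mpr
          (isConj_iff.mpr ⟨⟨v, hv⟩, Subtype.ext ?_⟩))⟩
        show v * (a * r C * a⁻¹) * v⁻¹ = k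
        rw [← hg]; group
    have hc := Nat.card_eq_of_bijective f hf
    rw [Nat.card_prod, Nat.card_coe_set_eq] at hc
    rw [hc, ← Nat.card_congr (Equiv.sumCompl (· = ConjClasses.mk (1 : K))), Nat.card_sum]
    simp only [Nat.card_unique, ne_eq]
    omega
  have hG : Nat.card (ConjClasses G) = 1 + S.ncard + T.ncard := by
    have huniv : (Set.univ : Set (ConjClasses G)) = ({ConjClasses.mk 1} ∪ S) ∪ T := by
      ext C
      obtain ⟨x, rfl⟩ := ConjClasses.mk_surjective C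
      simp only [Set.mem_univ, true_iff, Set.mem_union, Set.mem_singleton_iff]
      by_cases hx : x ∈ K
      · by_cases hx1 : x = 1
        · exact Or.inl (Or.inl (by rw [hx1]))
        · exact Or.inl (Or.inr ⟨x, ⟨hx, hx1⟩, rfl⟩)
      · exact Or.inr ⟨x, hx, rfl⟩
    rw [← Set.ncard_univ, huniv, Set.ncard_union_eq, Set.ncard_union_eq, Set.ncard_singleton]
    · rw [Set.disjoint_singleton_left]
      rintro ⟨x, ⟨-, hx1⟩, he⟩
      exact hx1 (isConj_one_left.mp (ConjClasses.mk_eq_mk_iff_isConj.mp he))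
    · rw [Set.disjoint_left]
      rintro C hC ⟨y, hy, rfl⟩
      rcases hC with he | ⟨x, ⟨hx, -⟩, he⟩
      · exact hy ((hcls (ConjClasses.mk_eq_mk_iff_isConj.mp he)).mpr K.one_mem)
      · exact hy ((hcls (ConjClasses.mk_eq_mk_iff_isConj.mp he)).mp hx)
  rw [hG, ← hT, ← hS]
  ring

end Cfsg.Agent.S0172
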