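import Cfsg.Statements.S0173
import Cfsg.Agent.Lib.Char.Orthogonality
import Cfsg.Agent.Lib.Char.BrauerPerm

set_option autoImplicit false
open Cfsg

namespace Cfsg.Agent.S0173

/-- Brauer's permutation lemma for a single automorphism: the number of conjugacy classes mapped to themselves equals the number of irreducible complex characters χ with χ ∘ α = χ. -/
theorem result {G : Type*} [Group G] [Finite G] (α : G ≃* G) : Nat.card {C : ConjClasses G // ConjClasses.map α.toMonoidHom C = C} = Nat.card {χ : Cfsg.IrrCharacter G // (χ : G → ℂ) ∘ α = (χ : G → ℂ)} := by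
  classical
  haveI := Fintype.ofFinite G
  haveI : Finite (ConjClasses G) := Finite.of_surjective _ ConjClasses.mk_surjective
  letI := Fintype.ofFinite (ConjClasses G)
  let X : Matrix (ConjClasses G) (IrrCharacter G) ℂ := fun C χ => χ.1 (Quotient.out C)
  let Y : Matrix (IrrCharacter G) (ConjClasses G) ℂ := fun χ C =>
    starRingEnd ℂ (χ.1 (Quotient.out C)) / (Nat.card (Subgroup.centralizer ({Quotient.out C} : Set G)) : ℂ)
  have hout : ∀ C : ConjClasses G, ConjClasses.mk (Quotient.out C) = C := fun C => Quotient.out_eq C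
  have hXY : X * Y = 1 := by
    ext C D
    rw [Matrix.mul_apply, Matrix.one_apply]
    simp only [X, Y, ← mul_div_assoc, ← Finset.sum_div]
    rw [Cfsg.Agent.Char.sum_irr_mul_conj]
    by_cases h : C = D
    · rw [if_pos h, if_pos (h ▸ IsConj.refl _), div_self (Nat.cast_ne_zero.2 Nat.card_pos.ne')]
    · rw [if_neg h, if_neg, zero_div]
      intro hc
      exact h (by rw [← hout C, ← hout D, ConjClasses.mk_eq_mk_iff_isConj.mpr hc])
  have hcard : Fintype.card (ConjClasses G) = Fintype.card (IrrCharacter G) := by
    rw [← Nat.card_eq_fintype_card, ← Nat.card_eq_fintype_card, Cfsg.Agent.Char.card_irr]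
  let σ : Equiv.Perm (ConjClasses G) :=
    { toFun := ConjClasses.map α.toMonoidHom
      invFun := ConjClasses.map α.symm.toMonoidHom
      left_inv := fun C => by
        obtain ⟨x, rfl⟩ := ConjClasses.mk_surjective C
        exact congrArg ConjClasses.mk (α.symm_apply_apply x)
      right_inv := fun C => by
        obtain ⟨x, rfl⟩ := ConjClasses.mk_surjective C
        exact congrArg ConjClasses.mk (α.apply_symm_apply x) }
  let τ : Equiv.Perm (IrrCharacter G) :=
    { toFun := fun χ => ⟨fun x => χ.1 (α.symm x),
        Cfsg.Agent.Char.IsIrrCharacter.comp_surjective χ.2 α.symm.toMonoidHom α.symm.surjective⟩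
      invFun := fun χ => ⟨fun x => χ.1 (α x),
        Cfsg.Agent.Char.IsIrrCharacter.comp_surjective χ.2 α.toMonoidHom α.surjective⟩
      left_inv := fun χ => Subtype.ext (funext fun x => congrArg χ.1 (α.symm_apply_apply x))
      right_inv := fun χ => Subtype.ext (funext fun x => congrArg χ.1 (α.apply_symm_apply x)) }
  have hcompat : ∀ C χ, X (σ C) (τ χ) = X C χ := by
    intro C χ
    show χ.1 (α.symm (Quotient.out (σ C))) = χ.1 (Quotient.out C)
    refine Cfsg.Agent.Char.IsClassFunction.apply_of_isConj
      (Cfsg.Agent.Char.IsCharacter.isClassFunction (Cfsg.Agent.Char.irr_isCharacter χ)) ?_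
    rw [← ConjClasses.mk_eq_mk_iff_isConj, hout]
    show ConjClasses.map α.symm.toMonoidHom (ConjClasses.mk (Quotient.out (σ C))) = C
    rw [hout]
    exact σ.symm_apply_apply C
  refine Eq.trans (Cfsg.Agent.Char.brauer_perm_fixed X Y (Or.inl hXY) hcard σ τ hcompat) ?_
  refine Nat.card_congr (Equiv.subtypeEquivRight fun χ => ?_)
  rw [Equiv.apply_eq_iff_eq_symm_apply, eq_comm]
  exact Subtype.ext_iff

end Cfsg.Agent.S0173
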