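import Cfsg.Statements.S0171
import Cfsg.Agent.Lib.Char.NormalInduction
import Cfsg.Agent.S0172
import Cfsg.Agent.S0173

set_option autoImplicit false
open Cfsg

namespace Cfsg.Agent.S0171

/-- Let G = K H with K normal, K ⊓ H trivial, and no non-identity element of H commuting with a non-identity element of K (a Frobenius group with kernel K and complement H). Then every non-principal irreducible character of K induces to an irreducible character of G. -/
theorem result {G : Type*} [Group G] [Fintype G] (K H : Subgroup G) [K.Normal] (hKH : K ⊓ H = ⊥) (hKH' : K ⊔ H = ⊤) (hfpf : ∀ h ∈ H, h ≠ 1 → ∀ k ∈ K, h * k = k * h → k = 1) (τ : K → ℂ) (hτ : Cfsg.IsIrrCharacter K τ) (hτ1 : τ ≠ fun _ => 1) : Cfsg.IsIrrCharacter G (Cfsg.indFun K τ) := by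
  classical
  haveI : Fintype K := Fintype.ofFinite K
  refine Cfsg.Agent.Char.isIrrCharacter_iff.2
    ⟨Cfsg.Agent.Char.isCharacter_indFun K (Cfsg.Agent.Char.IsIrrCharacter.isCharacter hτ), ?_⟩
  have hstab : ∀ g : G, Cfsg.Agent.Char.conjFun K τ g = τ → g ∈ K := by
    intro g hg
    obtain ⟨u, hu, h, hh, rfl⟩ := Cfsg.Agent.S0172.exists_eq_mul K H hKH' g
    by_cases h1 : h = 1
    · rw [h1, mul_one]; exact hu
    exfalso
    have hu' : Cfsg.Agent.Char.conjFun K τ u = τ := by
      funext n
      have hcf := Cfsg.Agent.Char.IsCharacter.isClassFunction (Cfsg.Agent.Char.IsIrrCharacter.isCharacter hτ)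
      exact hcf n ⟨u, hu⟩
    rw [Cfsg.Agent.Char.conjFun_mul, hu'] at hg
    have hcount := Cfsg.Agent.S0173.result (MulAut.conjNormal h : MulAut K)
    haveI : Finite (ConjClasses K) := Finite.of_surjective _ ConjClasses.mk_surjective
    have hsub : Nat.card {C : ConjClasses K //
        ConjClasses.map (MulAut.conjNormal h : MulAut K).toMonoidHom C = C} ≤ 1 := by
      rw [Finite.card_le_one_iff_subsingleton]
      refine ⟨fun C D => Subtype.ext ?_⟩
      suffices hone : ∀ C : ConjClasses K,
          ConjClasses.map (MulAut.conjNormal h : MulAut K).toMonoidHom C = C → C = ConjClasses.mk 1 by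
        rw [hone C.1 C.2, hone D.1 D.2]
      intro C hC
      obtain ⟨k, rfl⟩ := ConjClasses.mk_surjective C
      obtain ⟨v, hv⟩ := isConj_iff.mp (ConjClasses.mk_eq_mk_iff_isConj.mp hC)
      have hv' : (v : G) * (h * (k : G) * h⁻¹) * (v : G)⁻¹ = k := congrArg Subtype.val hv
      have hk := Cfsg.Agent.S0172.eq_one_of_fixed_class K H hfpf hh h1 k.2 (u := (v : G)⁻¹)
        (inv_mem v.2) (by conv_rhs => rw [← hv']
                          group)
      rw [Subtype.ext hk (a2 := (1 : K))]
    rw [hcount, Finite.card_le_one_iff_subsingleton] at hsub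
    have e := @Subsingleton.elim _ hsub ⟨⟨τ, hτ⟩, hg⟩ ⟨Cfsg.Agent.Char.trivialChar K, rfl⟩
    exact hτ1 (congrArg (fun s => s.1.1) e)
  have h := Cfsg.Agent.Char.card_mul_classInner_indFun_normal K hτ hτ
  have he : Nat.card {g : G // Cfsg.Agent.Char.conjFun K τ g = τ} = Nat.card K := by
    refine Nat.card_congr (Equiv.subtypeEquivRight fun g => ⟨hstab g, fun hg => ?_⟩)
    funext n
    exact Cfsg.Agent.Char.IsCharacter.isClassFunction (Cfsg.Agent.Char.IsIrrCharacter.isCharacter hτ)
      n ⟨g, hg⟩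
  rw [he] at h
  exact (mul_eq_left₀ (Nat.cast_ne_zero.2 Nat.card_pos.ne')).mp h

end Cfsg.Agent.S0171
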