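import Cfsg.Statements.S0174
import Cfsg.Agent.Lib.Char.Clifford

set_option linter.style.haveILetI false

set_option autoImplicit false
open Cfsg

namespace Cfsg.Agent.S0174

/-- The Clifford Theorem for characters: if θ is an irreducible character of a finite group G, N is a normal subgroup and χ is an irreducible character of N occurring in the restriction of θ, then θ restricted to N equals e times the sum of the distinct G-conjugates of χ, where e is the inner product of the restriction with χ. -/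
theorem result {G : Type*} [Group G] [Fintype G] (N : Subgroup G) [Fintype N] (hN : N.Normal) (θ : G → ℂ) (hθ : Cfsg.IsIrrCharacter G θ) (χ : N → ℂ) (hχ : Cfsg.IsIrrCharacter N χ) (hconst : Cfsg.classInner (fun n : N => θ n) χ ≠ 0) : (fun n : N => θ n) = Cfsg.classInner (fun n : N => θ n) χ • ∑ᶠ ψ ∈ {ψ : N → ℂ | ∃ g : G, ψ = fun n : N => χ ⟨g * n * g⁻¹, hN.conj_mem n n.2 g⟩}, ψ := by
  classical
  haveI := hN
  have key := Cfsg.Agent.Char.resFun_eq_smul_orbitSum N ⟨θ, hθ⟩ ⟨χ, hχ⟩ hconst
  refine key.trans (congrArg _ ?_)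
  have hset : {ψ : N → ℂ | ∃ g : G, ψ = fun n : N => χ ⟨g * n * g⁻¹, hN.conj_mem n n.2 g⟩} =
      ↑((Cfsg.Agent.Char.orbitFinset N ⟨χ, hχ⟩).image Subtype.val) := by
    ext ψ
    simp only [Set.mem_ofPred_eq, Finset.coe_image, Set.mem_image, Finset.mem_coe,
      Cfsg.Agent.Char.mem_orbitFinset]
    constructor
    · rintro ⟨g, rfl⟩
      exact ⟨_, ⟨g, rfl⟩, funext fun n => congrArg χ (Subtype.ext (by simp))⟩
    · rintro ⟨η, ⟨g, rfl⟩, rfl⟩
      exact ⟨g, funext fun n => congrArg χ (Subtype.ext (by simp))⟩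
  rw [finsum_mem_congr hset fun _ _ => rfl, finsum_mem_coe_finset,
    Finset.sum_image Subtype.val_injective.injOn]
  rfl

end Cfsg.Agent.S0174
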