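import Cfsg.Statements.S0175
import Cfsg.Agent.Lib.Char.Induction
import Mathlib.GroupTheory.Solvable

set_option autoImplicit false
open Cfsg
open scoped commutatorElement

namespace Cfsg.Agent.S0175

/-- Taketa's Theorem on M-groups: if every irreducible complex character of a finite group is induced from a linear character (a homomorphism to ℂˣ) of some subgroup, the group is solvable. -/
theorem result {G : Type*} [Group G] [Fintype G] (hM : ∀ χ : G → ℂ, Cfsg.IsIrrCharacter G χ → ∃ (H : Subgroup G) (lam : H →* ℂˣ), χ = Cfsg.indFun H (fun h => (lam h : ℂ))) : Group.IsSolvable G := by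
  classical
  letI := Fintype.ofFinite (IrrCharacter G)
  have hker : ∀ n : ℕ, ∀ χ : IrrCharacter G, Cfsg.Agent.Char.degree χ ≤ n →
      ∀ g ∈ derivedSeries G n, χ.1 g = χ.1 1 := by
    intro n
    induction n with
    | zero => intro χ hd; have := Cfsg.Agent.Char.degree_pos χ; omega
    | succ n ih =>
      intro χ hd g hg
      obtain ⟨H, lam, hχ⟩ := hM χ.1 χ.2
      letI : Fintype H := Fintype.ofFinite H
      have hdeg : Cfsg.Agent.Char.degree χ = H.index := by
        have h := Cfsg.Agent.Char.apply_one_eq_degree χ
        rw [hχ, Cfsg.Agent.Char.indFun_apply_one, map_one, Units.val_one, mul_one] at h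
        exact_mod_cast h.symm
      have hH : derivedSeries G n ≤ H := by
        rcases Nat.lt_or_ge H.index 2 with h2 | h2
        · have : H.index ≠ 0 := Subgroup.index_ne_zero_of_finite
          rw [Subgroup.index_eq_one.mp (by omega : H.index = 1)]
          exact le_top
        set π : G → ℂ := Cfsg.indFun H (fun _ => 1) with hπdef
        have hπ : IsCharacter G π := Cfsg.Agent.Char.isCharacter_indFun H Cfsg.Agent.Char.isCharacter_one
        obtain ⟨m, hm, hmψ⟩ := Cfsg.Agent.Char.IsCharacter.exists_decomp hπ
        have htriv : m (Cfsg.Agent.Char.trivialChar G) = 1 := by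
          have h := hmψ (Cfsg.Agent.Char.trivialChar G)
          have h' : classInner π (fun _ => (1 : ℂ)) = 1 := by
            rw [hπdef, Cfsg.Agent.Char.classInner_indFun H _ (fun _ _ => rfl)]
            exact Cfsg.Agent.Char.classInner_irr_self Cfsg.Agent.Char.isIrrCharacter_one
          change classInner π (fun _ => (1 : ℂ)) = _ at h
          rw [h'] at h
          exact_mod_cast h.symm
        have hsumdeg : ∑ ψ, m ψ * Cfsg.Agent.Char.degree ψ = H.index := by
          have h := congrFun hm 1
          rw [hπdef, Cfsg.Agent.Char.indFun_apply_one, mul_one, Finset.sum_apply] at h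
          simp only [Pi.smul_apply, smul_eq_mul, Cfsg.Agent.Char.apply_one_eq_degree] at h
          exact_mod_cast h.symm
        intro x hx
        have hfix : π x = π 1 := by
          rw [hm, Finset.sum_apply, Finset.sum_apply]
          refine Finset.sum_congr rfl fun ψ _ => ?_
          simp only [Pi.smul_apply, smul_eq_mul]
          by_cases hm0 : m ψ = 0
          · simp [hm0]
          congr 1
          by_cases hψ : ψ = Cfsg.Agent.Char.trivialChar G
          · rw [hψ]; rfl
          refine ih ψ ?_ x hx
          have h1 : ∑ φ ∈ ({Cfsg.Agent.Char.trivialChar G, ψ} : Finset _), m φ * Cfsg.Agent.Char.degree φ ≤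
              H.index := hsumdeg ▸ Finset.sum_le_sum_of_subset (Finset.subset_univ _)
          rw [Finset.sum_pair (Ne.symm hψ), htriv, one_mul] at h1
          have h3 := Cfsg.Agent.Char.degree_pos (Cfsg.Agent.Char.trivialChar G)
          have h4 : Cfsg.Agent.Char.degree ψ ≤ m ψ * Cfsg.Agent.Char.degree ψ :=
            Nat.le_mul_of_pos_left _ (Nat.pos_of_ne_zero hm0)
          omega
        by_contra hxH
        have hval : π x = (Nat.card H : ℂ)⁻¹ *
            ((Finset.univ.filter fun y : G => y⁻¹ * x * y ∈ H).card : ℂ) := by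
          rw [hπdef, Cfsg.indFun, ← Finset.sum_boole]
          congr 1
          refine Finset.sum_congr rfl fun y _ => ?_
          split_ifs with h
          · rw [Cfsg.Agent.Char.extendByZero_of_mem _ _ h]
          · rw [Cfsg.Agent.Char.extendByZero_of_notMem _ _ h]
        rw [hval, hπdef, Cfsg.Agent.Char.indFun_apply_one, mul_one,
          inv_mul_eq_iff_eq_mul₀ (Nat.cast_ne_zero.2 Nat.card_pos.ne')] at hfix
        norm_cast at hfix
        rw [H.card_mul_index, Nat.card_eq_fintype_card, Finset.card_eq_iff_eq_univ] at hfix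
        have hmem := Finset.eq_univ_iff_forall.mp hfix 1
        simp only [Finset.mem_filter, inv_one, one_mul, mul_one] at hmem
        exact hxH hmem.2
      have hle : derivedSeries G (n + 1) ≤ (MonoidHom.ker lam).map H.subtype := by
        rw [derivedSeries_succ, Subgroup.commutator_le]
        intro a ha b hb
        refine ⟨⁅(⟨a, hH ha⟩ : H), ⟨b, hH hb⟩⁆, ?_, rfl⟩
        rw [SetLike.mem_coe, MonoidHom.mem_ker, map_commutatorElement,
          commutatorElement_eq_one_iff_mul_comm, mul_comm]
      have hval : ∀ y : G, extendByZero H (fun h => (lam h : ℂ)) (y⁻¹ * g * y) = 1 := by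
        intro y
        have hy : y⁻¹ * g * y ∈ derivedSeries G (n + 1) := by
          have := (derivedSeries_normal G (n + 1)).conj_mem g hg y⁻¹
          rwa [inv_inv] at this
        obtain ⟨w, hw, hwe⟩ := hle hy
        rw [← hwe, show H.subtype w = (w : G) from rfl, Cfsg.Agent.Char.extendByZero_coe,
          MonoidHom.mem_ker.mp hw, Units.val_one]
      rw [hχ, Cfsg.Agent.Char.indFun_apply_one, map_one, Units.val_one, mul_one, Cfsg.indFun,
        Finset.sum_congr rfl fun y _ => hval y, Finset.sum_const, Finset.card_univ, nsmul_eq_mul,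
        mul_one, ← Nat.card_eq_fintype_card, ← H.card_mul_index, Nat.cast_mul,
        inv_mul_cancel_left₀ (Nat.cast_ne_zero.2 Nat.card_pos.ne')]
  obtain ⟨B, hB⟩ : ∃ B, ∀ χ : IrrCharacter G, Cfsg.Agent.Char.degree χ ≤ B :=
    ⟨Finset.univ.sup fun χ => Cfsg.Agent.Char.degree χ, fun χ =>
      Finset.le_sup (f := fun χ => Cfsg.Agent.Char.degree χ) (Finset.mem_univ χ)⟩
  rw [Group.isSolvable_def]
  refine ⟨B, eq_bot_iff.mpr fun g hg => ?_⟩
  rw [Subgroup.mem_bot]
  exact isConj_one_left.mp ((Cfsg.Agent.Char.isConj_iff_forall_irr g 1).mpr fun χ => hker B χ (hB χ) g hg)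

end Cfsg.Agent.S0175
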