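import Cfsg.Statements.S0177
import Cfsg.Agent.Lib.Char.Induction
import Cfsg.Agent.Lib.Char.Linear
import Mathlib.GroupTheory.SpecificGroups.Cyclic

set_option autoImplicit false
open Cfsg

namespace Cfsg.Agent.S0177

/-- The Artin induction Theorem: for a character χ of a finite group, |G| • χ is a ℤ-linear combination of functions induced from homomorphisms of cyclic subgroups into ℂˣ. -/
theorem result {G : Type*} [Group G] [Fintype G] (χ : G → ℂ) (hχ : Cfsg.IsCharacter G χ) : ∃ l : List ((A : Subgroup G) × ((A →* ℂˣ) × ℤ)), (∀ t ∈ l, IsCyclic t.1) ∧ (Nat.card G : ℂ) • χ = (l.map fun t => (t.2.2 : ℂ) • Cfsg.indFun t.1 (fun a => (t.2.1 a : ℂ))).sum := by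
  classical
  let gens : Set (G → ℂ) := {f | ∃ (A : Subgroup G) (lam : A →* ℂˣ), IsCyclic A ∧
    f = Cfsg.indFun A (fun a => (lam a : ℂ))}
  let M : AddSubgroup (G → ℂ) := AddSubgroup.closure gens
  -- `D B g` counts the `x` with `⟨x⁻¹ g x⟩ = B`
  let D : Subgroup G → (G → ℂ) := fun B g =>
    ((Finset.univ.filter fun x : G => Subgroup.zpowers (x⁻¹ * g * x) = B).card : ℂ)
  have hres : ∀ A : Subgroup G, IsCyclic A → Cfsg.indFun A (fun _ => 1) * χ ∈ M := by
    intro A hA
    letI : Fintype A := Fintype.ofFinite A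
    rw [← Cfsg.Agent.Char.indFun_mul_restrict A _ (Cfsg.Agent.Char.IsCharacter.isClassFunction hχ)]
    obtain ⟨m, hm, -⟩ := Cfsg.Agent.Char.IsCharacter.exists_decomp
      (Cfsg.Agent.Char.IsCharacter.restrict hχ A)
    simp only [one_mul]
    rw [hm, Cfsg.Agent.Char.indFun_sum]
    refine AddSubgroup.sum_mem _ fun ψ _ => ?_
    rw [Cfsg.Agent.Char.indFun_smul, Nat.cast_smul_eq_nsmul]
    refine AddSubgroup.nsmul_mem _ (AddSubgroup.subset_closure ?_) _
    haveI := hA
    obtain ⟨lam, hlam⟩ := Cfsg.Agent.Char.IsCharacter.exists_monoidHom (Cfsg.Agent.Char.irr_isCharacter ψ)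
      (Cfsg.Agent.Char.apply_one_of_comm (fun a b => IsCyclic.commGroup.mul_comm a b) ψ)
    exact ⟨A, lam.toHomUnits, hA, by rw [← hlam]; rfl⟩
  have hsum : ∀ A : Subgroup G, (Nat.card A : ℂ) • Cfsg.indFun A (fun _ => 1) =
      ∑ B ∈ Finset.univ.filter (fun B : Subgroup G => B ≤ A), D B := by
    intro A
    funext g
    rw [Pi.smul_apply, smul_eq_mul, Finset.sum_apply, Cfsg.indFun, ← mul_assoc,
      mul_inv_cancel₀ (Nat.cast_ne_zero.2 Nat.card_pos.ne'), one_mul]
    simp only [D]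
    simp_rw [← Finset.sum_boole]
    rw [Finset.sum_comm]
    refine Finset.sum_congr rfl fun x _ => ?_
    rw [Finset.sum_ite_eq]
    by_cases hx : x⁻¹ * g * x ∈ A
    · rw [Cfsg.Agent.Char.extendByZero_of_mem _ _ hx, if_pos (by simpa [Subgroup.zpowers_le] using hx)]
    · rw [Cfsg.Agent.Char.extendByZero_of_notMem _ _ hx, if_neg (by simpa [Subgroup.zpowers_le] using hx)]
  have hD : ∀ A : Subgroup G, IsCyclic A → D A * χ ∈ M := by
    intro A
    induction hA : Nat.card A using Nat.strong_induction_on generalizing A with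
    | _ d ih =>
      intro hcyc
      have hmem : ((Nat.card A : ℂ) • Cfsg.indFun A (fun _ => 1)) * χ ∈ M := by
        rw [smul_mul_assoc, Nat.cast_smul_eq_nsmul]
        exact AddSubgroup.nsmul_mem _ (hres A hcyc) _
      rw [hsum, ← Finset.add_sum_erase _ _ (show A ∈ Finset.univ.filter (fun B : Subgroup G => B ≤ A) from Finset.mem_filter.mpr ⟨Finset.mem_univ A, le_rfl⟩),
        add_mul, Finset.sum_mul] at hmem
      refine (AddSubgroup.add_mem_cancel_right _ ?_).mp hmem
      refine AddSubgroup.sum_mem _ fun B hB => ?_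
      obtain ⟨hne, hB⟩ := Finset.mem_erase.mp hB
      obtain ⟨-, hle⟩ := Finset.mem_filter.mp hB
      have hlt : Nat.card B < d := by
        rw [← hA]
        exact Set.Finite.card_lt_card (Set.toFinite _) (lt_of_le_of_ne hle hne : B < A)
      exact ih _ hlt B rfl (Subgroup.isCyclic_of_le hle)
  have hall : (Nat.card G : ℂ) • χ =
      ∑ B ∈ Finset.univ.filter (fun B : Subgroup G => IsCyclic B), D B * χ := by
    rw [← Finset.sum_mul]
    funext g
    rw [Pi.smul_apply, smul_eq_mul, Pi.mul_apply, Finset.sum_apply]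
    congr 1
    simp only [D]
    simp_rw [← Finset.sum_boole]
    rw [Finset.sum_comm, Finset.sum_congr rfl (g := fun _ => (1 : ℂ))]
    · simp [Nat.card_eq_fintype_card]
    · intro x _
      rw [Finset.sum_ite_eq, if_pos]
      exact Finset.mem_filter.mpr ⟨Finset.mem_univ _, Subgroup.isCyclic_zpowers _⟩
  have hG : (Nat.card G : ℂ) • χ ∈ M := by
    rw [hall]
    exact AddSubgroup.sum_mem _ fun B hB => hD B (Finset.mem_filter.mp hB).2
  suffices key : ∀ f ∈ M, ∃ l : List ((A : Subgroup G) × ((A →* ℂˣ) × ℤ)), (∀ t ∈ l, IsCyclic t.1) ∧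
      f = (l.map fun t => (t.2.2 : ℂ) • Cfsg.indFun t.1 (fun a => (t.2.1 a : ℂ))).sum from key _ hG
  intro f hf
  induction hf using AddSubgroup.closure_induction with
  | mem f hf =>
    obtain ⟨A, lam, hA, rfl⟩ := hf
    exact ⟨[⟨A, lam, 1⟩], by simpa using hA, by simp⟩
  | zero => exact ⟨[], by simp, by simp⟩
  | add f f' _ _ ihf ihf' =>
    obtain ⟨l, hl, rfl⟩ := ihf
    obtain ⟨l', hl', rfl⟩ := ihf'
    exact ⟨l ++ l', fun t ht => (List.mem_append.mp ht).elim (hl t) (hl' t), by simp⟩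
  | neg f _ ihf =>
    obtain ⟨l, hl, rfl⟩ := ihf
    refine ⟨l.map fun t => ⟨t.1, t.2.1, -t.2.2⟩, fun t ht => ?_, ?_⟩
    · obtain ⟨s, hs, rfl⟩ := List.mem_map.mp ht
      exact hl s hs
    · rw [List.sum_neg, List.map_map, List.map_map]
      congr 1
      refine List.map_congr_left fun t _ => ?_
      simp

end Cfsg.Agent.S0177
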