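import Cfsg.Statements.S0178
import Cfsg.Agent.Lib.Char.Basic
import Mathlib.Analysis.Complex.Polynomial.Basic
import Mathlib.LinearAlgebra.Eigenspace.Triangularizable

set_option autoImplicit false
open Cfsg

namespace Cfsg.Agent.S0178

/-- The degree of an irreducible complex representation of a finite group is at most the index of any abelian subgroup. -/
theorem result {G : Type*} [Group G] [Finite G] {V : Type*} [AddCommGroup V] [Module ℂ V] [FiniteDimensional ℂ V] (ρ : Representation ℂ G V) [ρ.IsIrreducible] (A : Subgroup G) (hA : ∀ a ∈ A, ∀ b ∈ A, a * b = b * a) : Module.finrank ℂ V ≤ A.index := by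
  classical
  haveI := Cfsg.Agent.Char.nontrivial_of_isIrreducible ρ
  let good : Submodule ℂ V → Prop := fun W => W ≠ ⊥ ∧ ∀ a ∈ A, ∀ w ∈ W, ρ a w ∈ W
  have hex : ∃ d, ∃ W, good W ∧ Module.finrank ℂ W = d :=
    ⟨_, ⊤, ⟨top_ne_bot, fun _ _ _ _ => Submodule.mem_top⟩, rfl⟩
  obtain ⟨W, ⟨hWne, hWinv⟩, hWd⟩ := Nat.find_spec hex
  have hscal : ∀ a ∈ A, ∃ c : ℂ, ∀ w ∈ W, ρ a w = c • w := by
    intro a ha
    haveI : Nontrivial W := Submodule.nontrivial_iff_ne_bot.mpr hWne
    obtain ⟨c, hc⟩ := Module.End.exists_eigenvalue ((ρ a).restrict (hWinv a ha))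
    refine ⟨c, fun w hw => ?_⟩
    let W' : Submodule ℂ V := W ⊓ LinearMap.ker (ρ a - c • LinearMap.id)
    have hgood : good W' := by
      refine ⟨?_, fun b hb u hu => ?_⟩
      · obtain ⟨u, hu⟩ := hc.exists_hasEigenvector
        rw [Submodule.ne_bot_iff]
        refine ⟨u.1, ⟨u.2, ?_⟩, fun h => hu.2 (Subtype.ext h)⟩
        have := congrArg Subtype.val hu.apply_eq_smul
        simpa [sub_eq_zero] using this
      · refine ⟨hWinv b hb u hu.1, ?_⟩
        have h1 : ρ a u = c • u := by simpa [sub_eq_zero] using hu.2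
        have h2 : ρ a (ρ b u) = ρ b (ρ a u) := by
          rw [← Module.End.mul_apply, ← Module.End.mul_apply, ← map_mul, ← map_mul, hA a ha b hb]
        simp [h2, h1]
    have hle : Nat.find hex ≤ Module.finrank ℂ W' := Nat.find_le ⟨W', hgood, rfl⟩
    have heq : W' = W := Submodule.eq_of_le_of_finrank_le inf_le_left (hWd ▸ hle)
    have hw' : w ∈ W' := heq.symm ▸ hw
    simpa [sub_eq_zero] using hw'.2
  obtain ⟨v, hvW, hv0⟩ := Submodule.exists_mem_ne_zero_of_ne_bot hWne
  haveI := Fintype.ofFinite (G ⧸ A)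
  let U := Submodule.span ℂ (Set.range fun q : G ⧸ A => ρ q.out v)
  have hmem : ∀ x : G, ρ x v ∈ U := by
    intro x
    have hx : (QuotientGroup.mk x : G ⧸ A).out⁻¹ * x ∈ A :=
      QuotientGroup.eq.mp (QuotientGroup.out_eq' _)
    obtain ⟨c, hc⟩ := hscal _ hx
    have : ρ x v = c • ρ (QuotientGroup.mk x : G ⧸ A).out v := by
      rw [← map_smul, ← hc v hvW, ← Module.End.mul_apply, ← map_mul, mul_inv_cancel_left]
    rw [this]
    exact U.smul_mem c (Submodule.subset_span ⟨_, rfl⟩)
  let S : Subrepresentation ρ := ⟨U, by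
    intro g u hu
    induction hu using Submodule.span_induction with
    | mem w hw =>
      obtain ⟨q, rfl⟩ := hw
      show ρ g (ρ q.out v) ∈ U
      rw [← Module.End.mul_apply, ← map_mul]
      exact hmem _
    | zero => simp
    | add a b _ _ iha ihb => rw [map_add]; exact add_mem iha ihb
    | smul c a _ iha => rw [map_smul]; exact U.smul_mem c iha⟩
  rcases IsSimpleOrder.eq_bot_or_eq_top S with hS | hS
  · exfalso
    have h1 : ρ 1 v ∈ U := hmem 1
    rw [show U = ⊥ from congrArg Subrepresentation.toSubmodule hS] at h1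
    exact hv0 (by simpa using h1)
  · rw [← finrank_top, ← show U = ⊤ from congrArg Subrepresentation.toSubmodule hS,
      Subgroup.index, Nat.card_eq_fintype_card]
    exact finrank_range_le_card _

end Cfsg.Agent.S0178
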