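import Cfsg.Statements.S0180
import Cfsg.Agent.Lib.CharInt.Galois
-- import your own Cfsg.Agent.* helpers here

set_option autoImplicit false
open Cfsg

namespace Cfsg.Agent.S0180

/-- Every irreducible complex character of a finite group takes only rational values if and only if g is conjugate to g ^ m for every element g and every m coprime to the group order. -/
theorem result {G : Type*} [Group G] [Finite G] : (∀ χ : Cfsg.IrrCharacter G, ∀ g : G, ∃ q : ℚ, (χ : G → ℂ) g = (q : ℂ)) ↔ ∀ m : ℕ, m.Coprime (Nat.card G) → ∀ g : G, IsConj g (g ^ m) := by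
  have : Fintype G := Fintype.ofFinite G
  constructor
  · intro h m hm g
    refine (Cfsg.Agent.Char.isConj_iff_forall_irr _ _).2 fun χ => ?_
    obtain ⟨f, hf⟩ := Cfsg.Agent.CharInt.exists_ringHom_pow Nat.card_pos.ne' hm
    obtain ⟨q, hq⟩ := h χ g
    rw [← Cfsg.Agent.CharInt.map_char_eq_pow (Cfsg.Agent.Char.irr_isCharacter χ) hf g, hq,
      map_ratCast]
  · intro h χ g
    refine Cfsg.Agent.CharInt.exists_rat_of_forall_pow (Cfsg.Agent.Char.irr_isCharacter χ) g
      fun k hk => ?_
    obtain ⟨m, hm, hmk⟩ := Cfsg.Agent.CharInt.exists_coprime_pow_eq g hk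
    rw [← hmk]
    exact (Cfsg.Agent.CharInt.char_eq_of_isConj (Cfsg.Agent.Char.irr_isCharacter χ) (h m hm g)).symm

end Cfsg.Agent.S0180
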