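import Cfsg.Statements.S0181
import Cfsg.Agent.Lib.Char.Basic
import Mathlib.Tactic.Group

set_option autoImplicit false
open Cfsg

namespace Cfsg.Agent.S0181

/-- Let H be a normal subgroup of a finite group G and ρ an irreducible complex representation whose kernel does not contain H. If g commutes with no non-identity element of H, then the character of ρ vanishes at g. -/
theorem result {G : Type*} [Group G] [Finite G] {V : Type*} [AddCommGroup V] [Module ℂ V] [FiniteDimensional ℂ V] (ρ : Representation ℂ G V) [ρ.IsIrreducible] (H : Subgroup G) [H.Normal] (hker : ∃ h ∈ H, ρ h ≠ LinearMap.id) (g : G) (hg : ∀ h ∈ H, h * g = g * h → h = 1) : ρ.character g = 0 := by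
  classical
  haveI := Fintype.ofFinite G
  let φ : H → H := fun h => ⟨g⁻¹ * h * g * (h : G)⁻¹, by
    have h1 := ‹H.Normal›.conj_mem h h.2 g⁻¹
    rw [inv_inv] at h1
    exact mul_mem h1 (inv_mem h.2)⟩
  have hφ : Function.Surjective φ := by
    refine Finite.surjective_of_injective fun h k hhk => ?_
    have h1 : g⁻¹ * (h : G) * g * (h : G)⁻¹ = g⁻¹ * (k : G) * g * (k : G)⁻¹ :=
      congrArg Subtype.val hhk
    have h2 : ((k : G)⁻¹ * h) * g = g * ((k : G)⁻¹ * h) := by
      calc ((k : G)⁻¹ * h) * g = (k : G)⁻¹ * g * (g⁻¹ * h * g * (h : G)⁻¹) * h := by group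
        _ = g * ((k : G)⁻¹ * h) := by rw [h1]; group
    exact (Subtype.ext (inv_mul_eq_one.mp (hg _ (mul_mem (inv_mem k.2) h.2) h2))).symm
  have hconst : ∀ h : H, ρ.character (g * h) = ρ.character g := by
    intro h
    obtain ⟨k, rfl⟩ := hφ h
    rw [show g * ((φ k : H) : G) = (k : G) * g * (k : G)⁻¹ by
      show g * (g⁻¹ * (k : G) * g * (k : G)⁻¹) = _
      group]
    exact Representation.char_conj ρ g k
  set S : V →ₗ[ℂ] V := ∑ h : H, ρ (h : G) with hS
  have hcomm : ∀ (x : G) (v : V), ρ x (S v) = S (ρ x v) := by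
    intro x v
    simp only [hS, LinearMap.coe_sum, Finset.sum_apply, map_sum]
    refine Fintype.sum_equiv (MulAut.conjNormal x : MulAut H).toEquiv _ _ fun h => ?_
    rw [← Module.End.mul_apply, ← Module.End.mul_apply, ← map_mul, ← map_mul]
    congr 2
    simp
  have hfix : ∀ (h : H) (v : V), ρ (h : G) (S v) = S v := by
    intro h v
    simp only [hS, LinearMap.coe_sum, Finset.sum_apply, map_sum]
    refine Fintype.sum_equiv (Equiv.mulLeft h) _ _ fun k => ?_
    rw [← Module.End.mul_apply, ← map_mul]
    rfl
  have hS0 : S = 0 := by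
    let W : Subrepresentation ρ := ⟨LinearMap.range S, by
      rintro x _ ⟨v, rfl⟩
      exact ⟨ρ x v, (hcomm x v).symm⟩⟩
    rcases IsSimpleOrder.eq_bot_or_eq_top W with hW | hW
    · exact LinearMap.range_eq_bot.mp (congrArg Subrepresentation.toSubmodule hW)
    · exfalso
      obtain ⟨h, hh, hne⟩ := hker
      refine hne (LinearMap.ext fun v => ?_)
      have hv : v ∈ LinearMap.range S := by
        have := congrArg Subrepresentation.toSubmodule hW
        rw [show LinearMap.range S = W.toSubmodule from rfl, this]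
        exact Submodule.mem_top
      obtain ⟨w, rfl⟩ := hv
      exact hfix ⟨h, hh⟩ w
  have hsum : ∑ h : H, ρ.character (g * h) = 0 := by
    simp only [Representation.character, map_mul, ← map_sum, ← Finset.mul_sum]
    rw [← hS, hS0, mul_zero, map_zero]
  rw [Finset.sum_congr rfl fun h _ => hconst h, Finset.sum_const, Finset.card_univ, nsmul_eq_mul]
    at hsum
  exact (mul_eq_zero.mp hsum).resolve_left (Nat.cast_ne_zero.2 Fintype.card_ne_zero)

end Cfsg.Agent.S0181
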