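import Cfsg.Statements.S0184
import Cfsg.Agent.Lib.Char.Orthogonality
import Cfsg.Agent.Lib.PGroup.Basic
import Mathlib.RingTheory.IntegralDomain
import Mathlib.Tactic.Group

set_option autoImplicit false
open Cfsg

namespace Cfsg.Agent.S0184

/-- A finite p-group admits a faithful irreducible complex representation if and only if its centre is cyclic. -/
theorem result {G : Type*} [Group G] [Finite G] (p : ℕ) [Fact p.Prime] (hG : IsPGroup p G) : (∃ (n : ℕ) (ρ : Representation ℂ G (Fin n → ℂ)), ρ.IsIrreducible ∧ Function.Injective ρ) ↔ IsCyclic (Subgroup.center G) := by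
  classical
  haveI := Fintype.ofFinite G
  constructor
  · rintro ⟨n, ρ, hρ, hinj⟩
    haveI := hρ
    haveI := Cfsg.Agent.Char.nontrivial_of_isIrreducible ρ
    obtain ⟨v, hv⟩ := exists_ne (0 : Fin n → ℂ)
    have hsc : ∀ z : Subgroup.center G, ∃ c : ℂ, ∀ w, ρ z w = c • w := by
      intro z
      have hc : IsClassFunction G (fun g => if g = (z : G) then (1 : ℂ) else 0) := by
        intro g h
        have hiff : h * g * h⁻¹ = (z : G) ↔ g = z := by
          have hz := Subgroup.mem_center_iff.mp z.2 h
          constructor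
          · intro e
            calc g = h⁻¹ * (h * g * h⁻¹) * h := by group
              _ = h⁻¹ * ((z : G) * h) := by rw [e, mul_assoc]
              _ = z := by rw [← hz, inv_mul_cancel_left]
          · intro e
            rw [e, hz, mul_inv_cancel_right]
        simp only [hiff]
      obtain ⟨c, hc'⟩ := Cfsg.Agent.Char.exists_opSum_eq_smul hc ρ
      exact ⟨c, fun w => by rw [← hc', Cfsg.Agent.Char.opSum_apply]; simp⟩
    choose c hc using hsc
    let f : Subgroup.center G →* ℂ :=
      { toFun := c
        map_one' := smul_left_injective ℂ hv (by show c 1 • v = (1 : ℂ) • v; rw [← hc]; simp)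
        map_mul' := fun a b => smul_left_injective ℂ hv (by
          show c (a * b) • v = (c a * c b) • v
          rw [← hc]
          show ρ ((a : G) * b) v = _
          rw [map_mul, Module.End.mul_apply, hc, hc, smul_smul]) }
    refine isCyclic_of_injective_ringHom f fun a b hab => Subtype.ext (hinj ?_)
    refine LinearMap.ext fun w => ?_
    rw [hc, hc]
    exact congrArg (· • w) hab
  · intro hcyc
    rcases subsingleton_or_nontrivial G with hG1 | hG1
    · obtain ⟨n, ρ, hρ, -⟩ := (Cfsg.Agent.Char.trivialChar G).2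
      exact ⟨n, ρ, hρ, fun a b _ => Subsingleton.elim a b⟩
    obtain ⟨z, -, hz, hzp⟩ := Cfsg.Agent.PGroup.exists_orderOf_eq_mem_center hG ⊤ (bot_ne_top.symm)
    have hz1 : z ≠ 1 := fun h => (Fact.out : p.Prime).ne_one (by rw [← hzp, h, orderOf_one])
    obtain ⟨χ, hχ⟩ : ∃ χ : IrrCharacter G, χ.1 z ≠ χ.1 1 := by
      by_contra hcon
      push Not at hcon
      exact hz1 (isConj_one_left.mp ((Cfsg.Agent.Char.isConj_iff_forall_irr z 1).mpr hcon))
    obtain ⟨n, ρ, hρ, hχe⟩ := χ.2
    refine ⟨n, ρ, hρ, ?_⟩
    let N : Subgroup G := MonoidHom.ker ρ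
    by_contra hninj
    have hN : N ≠ ⊥ := fun h => hninj ((MonoidHom.ker_eq_bot_iff ρ).mp h)
    obtain ⟨w, hwN, hw, hwp⟩ := Cfsg.Agent.PGroup.exists_orderOf_eq_mem_center hG N hN
    have hzw : z ∈ Subgroup.zpowers w := by
      let C := Subgroup.center G
      let S : Finset C := Finset.univ.filter fun a => a ^ p = 1
      have hsub : (Finset.range p).image (fun i => (⟨w, hw⟩ : C) ^ i) = S := by
        refine Finset.eq_of_subset_of_card_le ?_ ?_
        · intro a ha
          obtain ⟨i, -, rfl⟩ := Finset.mem_image.mp ha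
          refine Finset.mem_filter.mpr ⟨Finset.mem_univ _, ?_⟩
          rw [← pow_mul, mul_comm, pow_mul, show (⟨w, hw⟩ : C) ^ p = 1 from
            Subtype.ext (by rw [SubmonoidClass.coe_pow]; exact hwp ▸ pow_orderOf_eq_one w), one_pow]
        · rw [Finset.card_image_of_injOn, Finset.card_range]
          · exact IsCyclic.card_pow_eq_one_le (Fact.out : p.Prime).pos
          · intro i hi j hj hij
            simp only [Finset.coe_range, Set.mem_Iio] at hi hj
            have : w ^ i = w ^ j := congrArg Subtype.val hij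
            exact pow_injOn_Iio_orderOf (by rwa [Set.mem_Iio, hwp]) (by rwa [Set.mem_Iio, hwp]) this
      have hmem : (⟨z, hz⟩ : C) ∈ S := Finset.mem_filter.mpr ⟨Finset.mem_univ _,
        Subtype.ext (by rw [SubmonoidClass.coe_pow]; exact hzp ▸ pow_orderOf_eq_one z)⟩
      rw [← hsub] at hmem
      obtain ⟨i, -, hi⟩ := Finset.mem_image.mp hmem
      exact ⟨i, by simpa using congrArg Subtype.val hi⟩
    have hzN : ρ z = 1 := MonoidHom.mem_ker.mp ((Subgroup.zpowers_le.mpr hwN) hzw)
    apply hχ
    rw [← hχe, Representation.character, hzN]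
    simp [Representation.character]

end Cfsg.Agent.S0184
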