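import Cfsg.Statements.S0185
import Cfsg.Agent.Lib.CharInt.Central
import Cfsg.Agent.Lib.Char.Linear
-- import your own Cfsg.Agent.* helpers here

set_option autoImplicit false
open Cfsg

namespace Cfsg.Agent.S0185

/-- If a finite group has a faithful complex representation of degree less than the smallest prime dividing its order, the group is abelian. -/
theorem result {G : Type*} [Group G] [Finite G] {V : Type*} [AddCommGroup V] [Module ℂ V] [FiniteDimensional ℂ V] (ρ : Representation ℂ G V) (hfaithful : Function.Injective ρ) (hdeg : ∀ p : ℕ, p.Prime → p ∣ Nat.card G → Module.finrank ℂ V < p) (a b : G) : a * b = b * a := by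
  classical
  have hab : ρ (a * b * (b * a)⁻¹) = 1 := by
    rw [← Cfsg.Agent.CharInt.character_eq_finrank_iff, ← ρ.char_one]
    refine Cfsg.Agent.Char.IsCharacter.induction_on
      (P := fun φ => (∃ n : ℕ, φ 1 = n ∧ n ≤ Module.finrank ℂ V) → φ (a * b * (b * a)⁻¹) = φ 1)
      (Cfsg.Agent.Char.isCharacter_character ρ) (fun _ => rfl) ?_ ?_ ⟨_, ρ.char_one, le_rfl⟩
    · rintro φ ψ hφ hψ h1 h2 ⟨n, hn, hle⟩
      obtain ⟨x, hx⟩ := Cfsg.Agent.Char.IsCharacter.apply_one hφ
      obtain ⟨y, hy⟩ := Cfsg.Agent.Char.IsCharacter.apply_one hψ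
      rw [Pi.add_apply, hx, hy] at hn
      have hxy : x + y = n := by exact_mod_cast hn
      simp only [Pi.add_apply]
      rw [h1 ⟨x, hx, by omega⟩, h2 ⟨y, hy, by omega⟩]
    · rintro φ hφ ⟨n, hn, hle⟩
      obtain ⟨m, σ, hσ, hσφ⟩ := hφ
      have := hσ
      have hm : m = n := by
        rw [← hσφ, σ.char_one, Module.finrank_fin_fun] at hn
        exact_mod_cast hn
      have hd := Cfsg.Agent.CharInt.finrank_dvd_natCard σ
      rw [Module.finrank_fin_fun, hm] at hd
      have hn1 : n = 1 := by
        by_contra h1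
        obtain ⟨p, hp, hpn⟩ := Nat.exists_prime_and_dvd h1
        have hlt := hdeg p hp (hpn.trans hd)
        have hn0 : 0 < n := by
          rcases Nat.eq_zero_or_pos n with h0 | h0
          · exact absurd (Nat.zero_dvd.1 (h0 ▸ hd)) Nat.card_pos.ne'
          · exact h0
        exact absurd (Nat.le_of_dvd hn0 hpn) (by omega)
      obtain ⟨lam, hlam⟩ := Cfsg.Agent.Char.IsCharacter.exists_monoidHom ⟨m, σ, hσφ⟩
        (by rw [hn, hn1, Nat.cast_one])
      rw [hn, hn1, Nat.cast_one, ← hlam]
      have : lam (a * b) * lam ((b * a)⁻¹) = 1 := by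
        rw [map_mul, mul_comm (lam a), ← map_mul, ← map_mul, mul_inv_cancel, map_one]
      rw [map_mul]
      exact this
  rw [← map_one ρ] at hab
  exact mul_inv_eq_one.1 (hfaithful hab)

end Cfsg.Agent.S0185
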