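import Cfsg.Statements.S0186
import Cfsg.Agent.S0185

set_option autoImplicit false
open Cfsg

namespace Cfsg.Agent.S0186

/-- Let G be a finite simple group of order n and p a prime dividing n. If G has more than n / p^2 conjugacy classes, then every Sylow p-subgroup of G is abelian. -/
theorem result {G : Type*} [Group G] [Finite G] [IsSimpleGroup G] (p : ℕ) [Fact p.Prime] (hp : p ∣ Nat.card G) (hmany : Nat.card G < p ^ 2 * Nat.card (ConjClasses G)) (P : Sylow p G) (a b : G) (ha : a ∈ P) (hb : b ∈ P) : a * b = b * a := by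
  classical
  haveI := Fintype.ofFinite G
  letI := Fintype.ofFinite (IrrCharacter G)
  by_cases hsmall : ∃ χ : IrrCharacter G, χ ≠ Cfsg.Agent.Char.trivialChar G ∧
      Cfsg.Agent.Char.degree χ < p
  · obtain ⟨χ, hχ1, hχp⟩ := hsmall
    obtain ⟨m, ρ, hρ, hρχ⟩ := χ.2
    haveI := hρ
    have hm : Module.finrank ℂ (Fin m → ℂ) = Cfsg.Agent.Char.degree χ := by
      have h := Cfsg.Agent.Char.apply_one_eq_degree χ
      rw [← hρχ, Representation.char_one] at h
      exact_mod_cast h
    have hker : MonoidHom.ker ρ = ⊥ := by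
      rcases (MonoidHom.normal_ker ρ).eq_bot_or_eq_top with h | h
      · exact h
      exfalso
      apply hχ1
      have hconst : ∀ g, χ.1 g = (Cfsg.Agent.Char.degree χ : ℂ) := fun g => by
        have hg : ρ g = 1 := MonoidHom.mem_ker.mp (h ▸ Subgroup.mem_top g)
        rw [← hρχ, Representation.character, hg, LinearMap.trace_one, hm]
      have hnorm := Cfsg.Agent.Char.classInner_irr_self χ.2
      simp only [classInner, hconst, map_natCast, Finset.sum_const, Finset.card_univ, nsmul_eq_mul,
        ← Nat.card_eq_fintype_card] at hnorm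
      rw [← mul_assoc, inv_mul_cancel₀ (Nat.cast_ne_zero.2 Nat.card_pos.ne'), one_mul] at hnorm
      have h1 : Cfsg.Agent.Char.degree χ * Cfsg.Agent.Char.degree χ = 1 := by exact_mod_cast hnorm
      exact Subtype.ext (funext fun g => by
        rw [hconst g, Nat.eq_one_of_mul_eq_one_right h1, Nat.cast_one]; rfl)
    have hinj : Function.Injective (MonoidHom.comp ρ (P : Subgroup G).subtype) :=
      ((MonoidHom.ker_eq_bot_iff ρ).mp hker).comp Subtype.val_injective
    refine congrArg Subtype.val (Cfsg.Agent.S0185.result (G := (P : Subgroup G))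
      (MonoidHom.comp ρ (P : Subgroup G).subtype : Representation ℂ (P : Subgroup G) (Fin m → ℂ))
      hinj ?_ ⟨a, ha⟩ ⟨b, hb⟩)
    intro q hq hqP
    obtain ⟨k, hk⟩ := IsPGroup.iff_card.mp P.2
    rw [hk] at hqP
    rw [hm, (Nat.prime_dvd_prime_iff_eq hq (Fact.out : p.Prime)).mp (hq.dvd_of_dvd_pow hqP)]
    exact hχp
  push Not at hsmall
  by_cases hp2 : p ^ 2 ∣ Nat.card G
  · exfalso
    have hsum := Cfsg.Agent.Char.sum_degree_sq (G := G)
    rw [← Finset.add_sum_erase _ _ (Finset.mem_univ (Cfsg.Agent.Char.trivialChar G))] at hsum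
    have h1 : Cfsg.Agent.Char.degree (Cfsg.Agent.Char.trivialChar G) = 1 := by
      have h : ((1 : ℕ) : ℂ) = (Cfsg.Agent.Char.degree (Cfsg.Agent.Char.trivialChar G) : ℂ) := by
        rw [Nat.cast_one]; exact Cfsg.Agent.Char.apply_one_eq_degree (Cfsg.Agent.Char.trivialChar G)
      exact (Nat.cast_injective h).symm
    rw [h1, one_pow] at hsum
    have hle := Finset.card_nsmul_le_sum (Finset.univ.erase (Cfsg.Agent.Char.trivialChar G))
      (fun χ => Cfsg.Agent.Char.degree χ ^ 2) (p ^ 2) fun χ hχ =>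
        Nat.pow_le_pow_left (hsmall χ (Finset.ne_of_mem_erase hχ)) 2
    rw [Finset.card_erase_of_mem (Finset.mem_univ _), Finset.card_univ, smul_eq_mul,
      ← Nat.card_eq_fintype_card, Cfsg.Agent.Char.card_irr] at hle
    obtain ⟨c, hc⟩ := hp2
    rw [hc] at hmany hsum
    have hk : c + 1 ≤ Nat.card (ConjClasses G) := Nat.lt_of_mul_lt_mul_left hmany
    have h2 : c * p ^ 2 ≤ (Nat.card (ConjClasses G) - 1) * p ^ 2 := Nat.mul_le_mul_right _ (by omega)
    rw [mul_comm c] at h2
    omega
  · obtain ⟨k, hk⟩ := IsPGroup.iff_card.mp P.2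
    have hk1 : k ≤ 1 := by
      by_contra hk1
      exact hp2 ((pow_dvd_pow p (by omega : 2 ≤ k)).trans (hk ▸ Subgroup.card_subgroup_dvd_card _))
    have hcyc : IsCyclic (P : Subgroup G) := by
      rcases Nat.le_one_iff_eq_zero_or_eq_one.mp hk1 with h | h
      · rw [h, pow_zero] at hk
        haveI := (Nat.card_eq_one_iff_unique.mp hk).1
        infer_instance
      · rw [h, pow_one] at hk
        exact isCyclic_of_prime_card hk
    exact congrArg Subtype.val (IsCyclic.commGroup.mul_comm (⟨a, ha⟩ : (P : Subgroup G)) ⟨b, hb⟩)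

end Cfsg.Agent.S0186
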