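import Cfsg.Statements.S0189
import Cfsg.Agent.Lib.Char.Basic

set_option autoImplicit false
open Cfsg

namespace Cfsg.Agent.S0189

/-- If a complex character of a finite group vanishes at every non-identity element of a Sylow p-subgroup P, then |P| divides its degree. -/
theorem result {G : Type*} [Group G] [Finite G] (p : ℕ) [Fact p.Prime] (P : Sylow p G) (χ : G → ℂ) (hχ : Cfsg.IsCharacter G χ) (hvan : ∀ g : G, g ∈ P → g ≠ 1 → χ g = 0) : ∃ k : ℕ, χ 1 = (Nat.card P : ℂ) * k := by
  classical
  obtain ⟨n, ρ, rfl⟩ := hχ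
  haveI := Fintype.ofFinite G
  haveI : Invertible (Nat.card (P : Subgroup G) : ℂ) :=
    invertibleOfNonzero (Nat.cast_ne_zero.2 Nat.card_pos.ne')
  let σ : Representation ℂ (P : Subgroup G) (Fin n → ℂ) := MonoidHom.comp ρ (P : Subgroup G).subtype
  refine ⟨Module.finrank ℂ σ.invariants, ?_⟩
  rw [← Representation.card_inv_mul_sum_char_eq_finrank σ, Finset.sum_eq_single 1]
  · rw [← mul_assoc, mul_inv_cancel₀ (Nat.cast_ne_zero.2 Nat.card_pos.ne'), one_mul]
    rfl
  · intro g _ hg
    exact hvan g g.2 fun h => hg (Subtype.ext h)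
  · simp

end Cfsg.Agent.S0189
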