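import Cfsg.Statements.S0190
import Cfsg.Agent.Lib.Char.Induction

set_option autoImplicit false
open Cfsg

namespace Cfsg.Agent.S0190

/-- For a transitive action of a finite group on X, the permutation character g ↦ (number of fixed points of g) is the function induced from the principal character of the stabilizer of any point. -/
theorem result {G : Type*} [Group G] [Fintype G] (X : Type*) [MulAction G X] [Finite X] [MulAction.IsPretransitive G X] (x : X) : (fun g : G => (Nat.card (MulAction.fixedBy X g) : ℂ)) = Cfsg.indFun (MulAction.stabilizer G x) (fun _ => 1) := by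
  classical
  funext g
  set H := MulAction.stabilizer G x
  let f : G → X := fun a => a • x
  have hfib : ∀ y : X, Nat.card {a : G // f a = y} = Nat.card H := by
    intro y
    obtain ⟨b, rfl⟩ := MulAction.exists_smul_eq G x y
    refine Nat.card_congr ((Equiv.mulLeft b⁻¹).subtypeEquiv fun a => ?_)
    show a • x = b • x ↔ b⁻¹ * a ∈ H
    rw [MulAction.mem_stabilizer_iff, mul_smul, inv_smul_eq_iff]
  haveI := Fintype.ofFinite X
  have hcount : Nat.card {a : G // a⁻¹ * g * a ∈ H} = Nat.card (MulAction.fixedBy X g) * Nat.card H := by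
    have e : {a : G // a⁻¹ * g * a ∈ H} ≃ Σ y : MulAction.fixedBy X g, {a : G // f a = y} :=
      (Equiv.subtypeEquivRight fun a => by
        rw [MulAction.mem_stabilizer_iff, mul_smul, mul_smul, inv_smul_eq_iff]).trans
        (Equiv.sigmaSubtypeFiberEquivSubtype (p := fun a => g • f a = f a)
          (q := fun y => g • y = y) f (fun _ => Iff.rfl)).symm
    rw [Nat.card_congr e, Nat.card_sigma]
    simp only [hfib, Finset.sum_const, Finset.card_univ, smul_eq_mul, ← Nat.card_eq_fintype_card]
  show (Nat.card (MulAction.fixedBy X g) : ℂ) =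
    (Nat.card H : ℂ)⁻¹ * ∑ a : G, extendByZero H (fun _ => 1) (a⁻¹ * g * a)
  have hext : ∀ a : G, extendByZero H (fun _ => (1 : ℂ)) (a⁻¹ * g * a) =
      if a⁻¹ * g * a ∈ H then 1 else 0 := by
    intro a
    split_ifs with h
    · rw [Cfsg.Agent.Char.extendByZero_of_mem _ _ h]
    · rw [Cfsg.Agent.Char.extendByZero_of_notMem _ _ h]
  have hH : (Nat.card H : ℂ) ≠ 0 := Nat.cast_ne_zero.2 Nat.card_pos.ne'
  rw [Finset.sum_congr rfl fun a _ => hext a, Finset.sum_boole, ← Fintype.card_subtype,
    ← Nat.card_eq_fintype_card, hcount, Nat.cast_mul]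
  field_simp

end Cfsg.Agent.S0190
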