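import Cfsg.Statements.S0191
import Cfsg.Agent.Lib.CharInt.GaloisAverage
import Cfsg.Agent.Lib.CharInt.Central
import Cfsg.Agent.Lib.Char.Basic
-- import your own Cfsg.Agent.* helpers here

set_option autoImplicit false
open Cfsg

namespace Cfsg.Agent.S0191

/-- An irreducible complex representation of a finite group of degree greater than 1 has a character that vanishes somewhere. -/
theorem result {G : Type*} [Group G] [Finite G] {V : Type*} [AddCommGroup V] [Module ℂ V] [FiniteDimensional ℂ V] (ρ : Representation ℂ G V) [ρ.IsIrreducible] (hdeg : 1 < Module.finrank ℂ V) : ∃ g : G, ρ.character g = 0 := by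
  classical
  have : Fintype G := Fintype.ofFinite G
  by_contra hne
  push Not at hne
  have hc : Cfsg.IsCharacter G ρ.character := Cfsg.Agent.Char.isCharacter_character ρ
  have hcard := Cfsg.Agent.CharInt.card_le_sum_norm_sq hc (Finset.univ.erase (1 : G))
    (fun g hg k hk => by
      refine Finset.mem_erase.2 ⟨fun h => (Finset.mem_erase.1 hg).1 ?_, Finset.mem_univ _⟩
      exact (powCoprime hk.symm).injective (by simpa [powCoprime] using h))
    (fun g _ => hne g)
  have hsum := Cfsg.Agent.CharInt.sum_character_mul_inv ρ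
  have h2 : ∑ g : G, ‖ρ.character g‖ ^ 2 = (Nat.card G : ℝ) := by
    have e : ∀ g : G, ρ.character g * ρ.character g⁻¹ = ((‖ρ.character g‖ ^ 2 : ℝ) : ℂ) := fun g => by
      rw [Cfsg.Agent.CharInt.character_inv, Complex.mul_conj']
      norm_cast
    rw [Finset.sum_congr rfl fun g _ => e g, ← Complex.ofReal_sum] at hsum
    exact_mod_cast hsum
  rw [← Finset.add_sum_erase _ _ (Finset.mem_univ (1 : G))] at h2
  rw [Finset.card_erase_of_mem (Finset.mem_univ _), Finset.card_univ, ← Nat.card_eq_fintype_card,
    Nat.cast_sub Nat.card_pos, Nat.cast_one] at hcard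
  have h1 : (2 : ℝ) ≤ ‖ρ.character 1‖ := by
    rw [ρ.char_one, Complex.norm_natCast]
    exact_mod_cast hdeg
  nlinarith

end Cfsg.Agent.S0191
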