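import Cfsg.Statements.S0192
import Cfsg.Agent.Lib.Char.Basic

set_option autoImplicit false
open Cfsg

namespace Cfsg.Agent.S0192

/-- Brauer's generation criterion. Let G be a finite simple group, H₁ and H₂ subgroups, and χ a non-principal irreducible character. If the multiplicity of the principal character in χ restricted to H₁ ⊓ H₂ is less than the sum of the corresponding multiplicities for H₁ and H₂, then H₁ and H₂ do not generate G. -/
theorem result {G : Type*} [Group G] [Fintype G] [IsSimpleGroup G] (H₁ H₂ : Subgroup G) [Fintype H₁] [Fintype H₂] [Fintype ↥(H₁ ⊓ H₂)] (χ : G → ℂ) (hχ : Cfsg.IsIrrCharacter G χ) (hχ1 : χ ≠ fun _ => 1) (hlt : (Cfsg.classInner (fun x : ↥(H₁ ⊓ H₂) => χ x) (fun _ => 1)).re < (Cfsg.classInner (fun x : H₁ => χ x) (fun _ => 1)).re + (Cfsg.classInner (fun x : H₂ => χ x) (fun _ => 1)).re) : H₁ ⊔ H₂ ≠ ⊤ := by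
  classical
  obtain ⟨n, ρ, hρ, rfl⟩ := hχ
  have key : ∀ (H : Subgroup G) [Fintype H],
      Cfsg.classInner (fun x : H => ρ.character x) (fun _ => 1) =
        (Module.finrank ℂ (Representation.invariants (MonoidHom.comp ρ H.subtype :
          Representation ℂ H (Fin n → ℂ))) : ℂ) := by
    intro H _
    haveI : Invertible (Nat.card H : ℂ) := invertibleOfNonzero (Nat.cast_ne_zero.2 Nat.card_pos.ne')
    rw [← Representation.card_inv_mul_sum_char_eq_finrank]
    simp only [Cfsg.classInner, map_one, mul_one, invOf_eq_inv]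
    rfl
  rw [key H₁, key H₂, key (H₁ ⊓ H₂), Complex.natCast_re, Complex.natCast_re, Complex.natCast_re] at hlt
  intro htop
  let σ : ∀ H : Subgroup G, Representation ℂ H (Fin n → ℂ) := fun H => MonoidHom.comp ρ H.subtype
  have hmono : ∀ {H K : Subgroup G}, H ≤ K → (σ K).invariants ≤ (σ H).invariants :=
    fun hle v hv h => hv ⟨h, hle h.2⟩
  have hlt' : Module.finrank ℂ (σ (H₁ ⊓ H₂)).invariants <
      Module.finrank ℂ (σ H₁).invariants + Module.finrank ℂ (σ H₂).invariants := by exact_mod_cast hlt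
  have hne : (σ H₁).invariants ⊓ (σ H₂).invariants ≠ ⊥ := by
    intro hbot
    have h1 := Submodule.finrank_sup_add_finrank_inf_eq (σ H₁).invariants (σ H₂).invariants
    rw [hbot, finrank_bot, add_zero] at h1
    have h2 := Submodule.finrank_mono (sup_le (hmono inf_le_left) (hmono inf_le_right) :
      (σ H₁).invariants ⊔ (σ H₂).invariants ≤ (σ (H₁ ⊓ H₂)).invariants)
    omega
  obtain ⟨v, hv, hv0⟩ := Submodule.exists_mem_ne_zero_of_ne_bot hne
  let Fix : Subgroup G :=
    { carrier := {g | ρ g v = v}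
      one_mem' := by simp
      mul_mem' := fun {a b} ha hb => by
        show ρ (a * b) v = v
        rw [map_mul, Module.End.mul_apply, hb, ha]
      inv_mem' := fun {a} ha => by
        show ρ a⁻¹ v = v
        conv_lhs => rw [← ha]
        rw [← Module.End.mul_apply, ← map_mul, inv_mul_cancel, map_one]
        rfl }
  have hall : ∀ g : G, ρ g v = v := fun g =>
    (sup_le (fun h hh => hv.1 ⟨h, hh⟩) (fun h hh => hv.2 ⟨h, hh⟩) : H₁ ⊔ H₂ ≤ Fix)
      (htop ▸ Subgroup.mem_top g)
  let W : Subrepresentation ρ := ⟨ℂ ∙ v, by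
    intro g w hw
    obtain ⟨c, rfl⟩ := Submodule.mem_span_singleton.mp hw
    rw [map_smul, hall]
    exact hw⟩
  haveI := hρ
  rcases IsSimpleOrder.eq_bot_or_eq_top W with hW | hW
  · exact hv0 ((Submodule.span_singleton_eq_bot).mp (congrArg Subrepresentation.toSubmodule hW))
  have hspan : (ℂ ∙ v) = ⊤ := congrArg Subrepresentation.toSubmodule hW
  apply hχ1
  funext g
  have hρg : ρ g = 1 := LinearMap.ext fun w => by
    obtain ⟨c, rfl⟩ := Submodule.mem_span_singleton.mp (hspan ▸ Submodule.mem_top : w ∈ ℂ ∙ v)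
    rw [map_smul, hall]
    rfl
  have hfin : Module.finrank ℂ (Fin n → ℂ) = 1 := by
    rw [← finrank_top, ← hspan, finrank_span_singleton hv0]
  simp [Representation.character, hρg, LinearMap.trace_one, hfin]

end Cfsg.Agent.S0192
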