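import Cfsg.Statements.S0194
import Cfsg.Agent.Lib.Char.NormalInduction
import Cfsg.Agent.S0161

set_option autoImplicit false
open scoped ComplexConjugate
open Cfsg

namespace Cfsg.Agent.S0194

/-- Let G have odd order, H be a normal subgroup and θ a non-principal irreducible character of H. Then the function induced from θ is orthogonal to its complex conjugate. -/
theorem result {G : Type*} [Group G] [Fintype G] (hodd : Odd (Nat.card G)) (H : Subgroup G) [H.Normal] (θ : H → ℂ) (hθ : Cfsg.IsIrrCharacter H θ) (hθ1 : θ ≠ fun _ => 1) : Cfsg.classInner (fun g => conj (Cfsg.indFun H θ g)) (Cfsg.indFun H θ) = 0 := by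
  classical
  rw [Cfsg.Agent.Char.conj_indFun]
  have hconj : IsIrrCharacter H (fun h => conj (θ h)) := by
    haveI : Fintype H := Fintype.ofFinite H
    exact Cfsg.Agent.Char.IsIrrCharacter.conj hθ
  have hzero : Nat.card {g : G // Cfsg.Agent.Char.conjFun H θ g = fun h => conj (θ h)} = 0 := by
    rw [Nat.card_eq_zero]
    refine Or.inl ⟨fun ⟨g, hg⟩ => ?_⟩
    -- the set of `x` with `θ^x = θ` contains `g²`, hence `g`
    let I : Subgroup G :=
      { carrier := {x | Cfsg.Agent.Char.conjFun H θ x = θ}
        one_mem' := Cfsg.Agent.Char.conjFun_one H θ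
        mul_mem' := fun {a b} ha hb => by
          show Cfsg.Agent.Char.conjFun H θ (a * b) = θ
          rw [Cfsg.Agent.Char.conjFun_mul, ha, hb]
        inv_mem' := fun {a} ha => (Cfsg.Agent.Char.conjFun_eq_iff H θ θ a).mp ha }
    have hsq : g * g ∈ I := by
      show Cfsg.Agent.Char.conjFun H θ (g * g) = θ
      rw [Cfsg.Agent.Char.conjFun_mul, hg]
      funext n
      have := congrFun hg n
      simp only [Cfsg.Agent.Char.conjFun] at this ⊢
      rw [this, Complex.conj_conj]
    obtain ⟨k, hk⟩ := hodd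
    have hgI : g ∈ I := by
      have h1 : (g * g) ^ (k + 1) ∈ I := pow_mem hsq _
      rwa [← pow_two, ← pow_mul, show 2 * (k + 1) = (2 * k + 1) + 1 by ring, ← hk, pow_succ,
        pow_card_eq_one', one_mul] at h1
    have hreal : ∀ n, θ n = conj (θ n) := fun n => congrFun ((hgI : _ = θ).symm.trans hg) n
    refine hθ1 (Cfsg.Agent.S0161.result ?_ ⟨θ, hθ⟩ fun n => Complex.conj_eq_iff_im.mp (hreal n).symm)
    exact Odd.of_dvd_nat ⟨k, hk⟩ (Subgroup.card_subgroup_dvd_card H)
  have h := Cfsg.Agent.Char.card_mul_classInner_indFun_normal H hconj hθ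
  rw [hzero, Nat.cast_zero] at h
  exact (mul_eq_zero.mp h).resolve_left (Nat.cast_ne_zero.2 Nat.card_pos.ne')

end Cfsg.Agent.S0194
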