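import Cfsg.Statements.S0199
import Cfsg.Agent.Lib.Involution.BaerSuzuki

set_option autoImplicit false
open Cfsg

namespace Cfsg.Agent.S0199

/-- Baer–Suzuki Theorem: a p-subgroup X of a finite group such that X and any of its conjugates generate a p-group is contained in a normal p-subgroup. -/
theorem result {G : Type*} [Group G] [Finite G] {p : ℕ} [Fact p.Prime] (X : Subgroup G) (hX : IsPGroup p X) (h : ∀ g : G, IsPGroup p ↥(X ⊔ X.map (MulAut.conj g).toMonoidHom)) : ∃ N : Subgroup G, N.Normal ∧ IsPGroup p N ∧ X ≤ N := by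
  refine ⟨Subgroup.normalClosure (X : Set G), Subgroup.normalClosure_normal, ?_, Subgroup.le_normalClosure⟩
  have hmem : ∀ x ∈ X, IsPGroup p (Subgroup.normalClosure ({x} : Set G)) := by
    intro x hx
    refine Cfsg.Agent.Involution.baer_suzuki x fun g => (h g).to_le ?_
    rw [Subgroup.closure_le]
    rintro a (rfl | rfl)
    · exact Subgroup.mem_sup_left hx
    · exact Subgroup.mem_sup_right ⟨x, hx, rfl⟩
  have hp : IsPGroup p (⨆ x : X, Subgroup.normalClosure ({(x : G)} : Set G) : Subgroup G) :=
    Sylow.iSup_of_normal _ fun x => hmem x x.2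
  refine hp.to_le (Subgroup.normalClosure_le_normal fun x hx => ?_)
  exact Subgroup.mem_iSup_of_mem (⟨x, hx⟩ : X) (Subgroup.subset_normalClosure rfl)

end Cfsg.Agent.S0199
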