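import Cfsg.Statements.S0200
import Cfsg.Agent.Lib.Involution.BaerSuzuki

set_option autoImplicit false
open Cfsg

namespace Cfsg.Agent.S0200

/-- An involution lying in no normal 2-subgroup of a finite group inverts a nontrivial element of odd order (a consequence of the Baer–Suzuki Theorem). -/
theorem result {G : Type*} [Group G] [Finite G] (t : G) (ht : orderOf t = 2) (hO : ∀ N : Subgroup G, N.Normal → IsPGroup 2 N → t ∉ N) : ∃ h : G, h ≠ 1 ∧ Odd (orderOf h) ∧ t * h * t⁻¹ = h⁻¹ := by
  by_contra hcon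
  push Not at hcon
  refine hO _ Subgroup.normalClosure_normal (Cfsg.Agent.Involution.baer_suzuki t fun g => ?_)
    (Subgroup.subset_normalClosure rfl)
  have ht1 := Cfsg.Agent.Involution.sq_of_orderOf_two ht
  have hy1 : g * t * g⁻¹ * (g * t * g⁻¹) = 1 := by
    calc g * t * g⁻¹ * (g * t * g⁻¹) = g * (t * t) * g⁻¹ := by group
      _ = 1 := by rw [ht1]; group
  obtain ⟨a, m, hm, hn⟩ := Nat.exists_eq_two_pow_mul_odd (orderOf_pos (t * (g * t * g⁻¹))).ne'
  refine Cfsg.Agent.Involution.isPGroup_closure_pair ht1 hy1 (a := a) ?_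
  by_contra hne
  refine hcon _ hne ?_ ?_
  · rw [orderOf_pow' _ (by positivity), hn, Nat.gcd_eq_right (dvd_mul_right _ _),
      Nat.mul_div_cancel_left _ (by positivity)]
    exact hm
  · have := Cfsg.Agent.Involution.invol_conj_zpow (Cfsg.Agent.Involution.invol_conj_mul ht1 hy1) ((2 ^ a : ℕ) : ℤ)
    rwa [zpow_neg, zpow_natCast] at this

end Cfsg.Agent.S0200
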