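import Cfsg.Statements.S0202
import Mathlib.GroupTheory.SpecificGroups.KleinFour
import Mathlib.GroupTheory.Sylow
import Mathlib.Data.Set.Card
import Mathlib.Tactic.Group

set_option autoImplicit false
open Cfsg

namespace Cfsg.Agent.S0202

theorem conj_mem_three {G : Type*} [Group G] [Finite G] (P : Sylow 2 G)
    (hP : IsKleinFour (P : Subgroup G)) {a b : G} (ha : a ∈ P) (hb : b ∈ P) (ha1 : a ≠ 1)
    (hab : a ≠ b) (hconj : IsConj a b) {c : G} (hc : c ∈ P) (hc1 : c ≠ 1) : IsConj a c := by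
  classical
  by_cases hca : c = a
  · exact hca ▸ IsConj.refl _
  by_cases hcb : c = b
  · exact hcb ▸ hconj
  haveI : IsMulCommutative (P : Subgroup G) := IsKleinFour.isMulCommutative
  obtain ⟨g, hg⟩ := isConj_iff.mp hconj
  have hb1 : b ≠ 1 := fun h => ha1 (conj_eq_one_iff.mp (hg.trans h))
  obtain ⟨n, hn, hnb⟩ := P.conj_eq_normalizer_conj_of_mem a g⁻¹ ha (by rw [inv_inv, hg]; exact hb)
  rw [inv_inv, hg] at hnb
  have hs : n⁻¹ * b * n ∈ P := (Subgroup.mem_normalizer_iff''.mp hn b).mp hb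
  have hcase : ∀ s ∈ P, s ≠ 1 → s ≠ b → s = a ∨ s = c := by
    intro s hs hs1 hsb
    haveI := Fintype.ofFinite (P : Subgroup G)
    by_contra hcon
    push Not at hcon
    have key : ({⟨a, ha⟩, ⟨b, hb⟩, ⟨c, hc⟩, ⟨s, hs⟩, 1} : Finset ↥(P : Subgroup G)).card = 5 := by
      simp [Finset.card_insert_of_notMem, Subtype.ext_iff, ha1, hb1, hc1, hs1, hab, Ne.symm hca,
        Ne.symm hcb, hcon.1.symm, Ne.symm hsb, hcon.2.symm]
    have h4 := IsKleinFour.card_four' (G := ↥(P : Subgroup G))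
    have := Finset.card_le_univ ({⟨a, ha⟩, ⟨b, hb⟩, ⟨c, hc⟩, ⟨s, hs⟩, 1} : Finset ↥(P : Subgroup G))
    omega
  have hs1 : n⁻¹ * b * n ≠ 1 := by
    intro h
    have := conj_eq_one_iff (a := n⁻¹) (b := b)
    rw [inv_inv] at this
    exact hb1 (this.mp h)
  have hsb : n⁻¹ * b * n ≠ b := by
    intro h
    apply hab
    have : n⁻¹ * b * n = n⁻¹ * a * n := by rw [h, hnb]
    exact (mul_left_cancel (mul_right_cancel this)).symm
  rcases hcase _ hs hs1 hsb with h | h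
  swap
  · exact hconj.trans (isConj_iff.mpr ⟨n⁻¹, by rw [inv_inv]; exact h⟩)
  exfalso
  obtain ⟨k, m, hm, hkm⟩ := Nat.exists_eq_two_pow_mul_odd (orderOf_pos n).ne'
  obtain ⟨i, hi⟩ := hm
  have hpow : ∀ j : ℕ, (n ^ (2 * j + 1))⁻¹ * a * n ^ (2 * j + 1) = b := by
    intro j
    induction j with
    | zero => simpa using hnb.symm
    | succ j ih =>
      rw [show 2 * (j + 1) + 1 = (2 * j + 1) + 1 + 1 by ring, pow_succ, pow_succ]
      calc (n ^ (2 * j + 1) * n * n)⁻¹ * a * (n ^ (2 * j + 1) * n * n)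
          = n⁻¹ * (n⁻¹ * ((n ^ (2 * j + 1))⁻¹ * a * n ^ (2 * j + 1)) * n) * n := by group
        _ = b := by rw [ih, h, ← hnb]
  have h2 : IsPGroup 2 (Subgroup.zpowers (n ^ m)) := by
    refine IsPGroup.of_card (n := k) ?_
    rw [Nat.card_zpowers, orderOf_pow' _ (by omega), hkm, Nat.gcd_eq_right (dvd_mul_left _ _),
      Nat.mul_div_cancel _ (by omega)]
  have hle : Subgroup.zpowers (n ^ m) ≤ Subgroup.normalizer ((P : Subgroup G) : Set G) :=
    Subgroup.zpowers_le.mpr (pow_mem hn m)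
  have heq := P.3 (h2.to_sup_of_normal_right' P.2 hle) le_sup_right
  have hmem : n ^ m ∈ (P : Subgroup G) :=
    heq ▸ Subgroup.mem_sup_left (Subgroup.mem_zpowers _)
  have hcomm : (⟨n ^ m, hmem⟩ : ↥(P : Subgroup G)) * ⟨a, ha⟩ = ⟨a, ha⟩ * ⟨n ^ m, hmem⟩ :=
    mul_comm' _ _
  have hcomm' : n ^ m * a = a * n ^ m := congrArg Subtype.val hcomm
  have := hpow i
  rw [← hi, mul_assoc, ← hcomm', inv_mul_cancel_left] at this
  exact hab this

theorem klein_elements {G : Type*} [Group G] [Finite G] (P : Sylow 2 G)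
    (hP : IsKleinFour (P : Subgroup G)) :
    ∃ a b c : G, a ≠ b ∧ a ≠ c ∧ b ≠ c ∧ (a ∈ P ∧ a ≠ 1) ∧ (b ∈ P ∧ b ≠ 1) ∧ (c ∈ P ∧ c ≠ 1) ∧
      {C : ConjClasses G | ∃ t : G, orderOf t = 2 ∧ ConjClasses.mk t = C} =
        {ConjClasses.mk a, ConjClasses.mk b, ConjClasses.mk c} := by
  classical
  have h3 : ((((P : Subgroup G) : Set G)) \ {1}).ncard = 3 := by
    rw [Set.ncard_diff_singleton_of_mem (one_mem _), ← Nat.card_coe_set_eq]
    show Nat.card ↥(P : Subgroup G) - 1 = 3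
    rw [IsKleinFour.card_four]
  obtain ⟨a, b, c, hab, hac, hbc, heq⟩ := Set.ncard_eq_three.mp h3
  have hmem : ∀ x, x ∈ ({a, b, c} : Set G) → x ∈ P ∧ x ≠ 1 := fun x hx => by
    rw [← heq] at hx; exact ⟨hx.1, hx.2⟩
  have hord : ∀ x : G, x ∈ P → x ≠ 1 → orderOf x = 2 := by
    intro x hx hx1
    rw [orderOf_eq_prime_iff]
    refine ⟨?_, hx1⟩
    have := IsKleinFour.mul_self (⟨x, hx⟩ : ↥(P : Subgroup G))
    rw [pow_two]
    exact congrArg Subtype.val this
  refine ⟨a, b, c, hab, hac, hbc, hmem a (by simp), hmem b (by simp), hmem c (by simp), ?_⟩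
  ext C
  constructor
  · rintro ⟨t, ht, rfl⟩
    have h2 : IsPGroup 2 (Subgroup.zpowers t) :=
      IsPGroup.of_card (n := 1) (by rw [Nat.card_zpowers, ht, pow_one])
    obtain ⟨R, hR⟩ := h2.exists_le_sylow
    obtain ⟨g, rfl⟩ := MulAction.exists_smul_eq G P R
    have hg := hR (Subgroup.mem_zpowers t)
    rw [Sylow.coe_subgroup_smul, Subgroup.mem_pointwise_smul_iff_inv_smul_mem, MulAut.smul_def,
      MulAut.conj_inv_apply] at hg
    have hne : g⁻¹ * t * g ≠ 1 := by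
      intro h
      have := conj_eq_one_iff (a := g⁻¹) (b := t)
      rw [inv_inv] at this
      rw [this.mp h, orderOf_one] at ht
      omega
    have hin : g⁻¹ * t * g ∈ ({a, b, c} : Set G) := heq ▸ ⟨hg, hne⟩
    have hc : ConjClasses.mk t = ConjClasses.mk (g⁻¹ * t * g) :=
      ConjClasses.mk_eq_mk_iff_isConj.mpr (isConj_iff.mpr ⟨g⁻¹, by group⟩)
    rw [hc]
    rcases hin with h | h | h <;> simp [Set.mem_singleton_iff.mp h]
  · rintro (rfl | rfl | rfl) <;>
      exact ⟨_, hord _ (hmem _ (by simp)).1 (hmem _ (by simp)).2, rfl⟩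

theorem card_eq_three_iff {G : Type*} [Group G] [Finite G] (P : Sylow 2 G)
    (hP : IsKleinFour (P : Subgroup G)) :
    Nat.card {C : ConjClasses G // ∃ t : G, orderOf t = 2 ∧ ConjClasses.mk t = C} = 3 ↔
      ∀ a ∈ P, ∀ b ∈ P, IsConj a b → a = b := by
  obtain ⟨a, b, c, hab, hac, hbc, ha, hb, hc, hset⟩ := klein_elements P hP
  show ({C : ConjClasses G | ∃ t : G, orderOf t = 2 ∧ ConjClasses.mk t = C}).ncard = 3 ↔ _
  rw [hset]
  constructor
  · intro h x hx y hy hxy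
    by_contra hne
    have hx1 : x ≠ 1 := fun h1 => hne (by rw [h1] at hxy ⊢; exact (isConj_one_right.mp hxy).symm)
    have hall := fun z (hz : z ∈ P ∧ z ≠ 1) => ConjClasses.mk_eq_mk_iff_isConj.mpr
      (conj_mem_three P hP hx hy hx1 hne hxy hz.1 hz.2)
    rw [← hall a ha, ← hall b hb, ← hall c hc] at h
    simp at h
  · intro h
    rw [Set.ncard_eq_three]
    refine ⟨_, _, _, ?_, ?_, ?_, rfl⟩ <;> intro he <;> rw [ConjClasses.mk_eq_mk_iff_isConj] at he
    · exact hab (h _ ha.1 _ hb.1 he)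
    · exact hac (h _ ha.1 _ hc.1 he)
    · exact hbc (h _ hb.1 _ hc.1 he)

/-- If a Sylow 2-subgroup of a finite group is a Klein four-group, the group has one or three conjugacy classes of involutions. -/
theorem result {G : Type*} [Group G] [Finite G] (P : Sylow 2 G) (hP : IsKleinFour (P : Subgroup G)) : Nat.card {C : ConjClasses G // ∃ t : G, orderOf t = 2 ∧ ConjClasses.mk t = C} = 1 ∨ Nat.card {C : ConjClasses G // ∃ t : G, orderOf t = 2 ∧ ConjClasses.mk t = C} = 3 := by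
  by_cases h : ∀ a ∈ P, ∀ b ∈ P, IsConj a b → a = b
  · exact Or.inr ((card_eq_three_iff P hP).mpr h)
  left
  push Not at h
  obtain ⟨x, hx, y, hy, hxy, hne⟩ := h
  obtain ⟨a, b, c, hab, hac, hbc, ha, hb, hc, hset⟩ := klein_elements P hP
  show ({C : ConjClasses G | ∃ t : G, orderOf t = 2 ∧ ConjClasses.mk t = C}).ncard = 1
  have hx1 : x ≠ 1 := fun h1 => hne (by rw [h1] at hxy ⊢; exact (isConj_one_right.mp hxy).symm)
  have hall := fun z (hz : z ∈ P ∧ z ≠ 1) => ConjClasses.mk_eq_mk_iff_isConj.mpr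
    (conj_mem_three P hP hx hy hx1 hne hxy hz.1 hz.2)
  rw [hset, ← hall a ha, ← hall b hb, ← hall c hc]
  simp

end Cfsg.Agent.S0202
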