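import Cfsg.Statements.S0203
import Cfsg.Agent.S0202
import Mathlib.GroupTheory.Transfer

set_option autoImplicit false
open Cfsg

namespace Cfsg.Agent.S0203

/-- If a Sylow 2-subgroup P of a finite group G is a Klein four-group, then G has three classes of involutions if and only if P has a normal complement in G. -/
theorem result {G : Type*} [Group G] [Finite G] (P : Sylow 2 G) (hP : IsKleinFour (P : Subgroup G)) : Nat.card {C : ConjClasses G // ∃ t : G, orderOf t = 2 ∧ ConjClasses.mk t = C} = 3 ↔ ∃ N : Subgroup G, N.Normal ∧ Subgroup.IsComplement' N (P : Subgroup G) := by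
  rw [Cfsg.Agent.S0202.card_eq_three_iff P hP]
  haveI : IsMulCommutative (P : Subgroup G) := IsKleinFour.isMulCommutative
  constructor
  · intro h
    have hN : Subgroup.normalizer ((P : Subgroup G) : Set G) ≤
        Subgroup.centralizer ((P : Subgroup G) : Set G) := by
      intro n hn
      rw [Subgroup.mem_centralizer_iff]
      intro x hx
      have hx' : n * x * n⁻¹ ∈ P := (Subgroup.mem_normalizer_iff.mp hn x).mp hx
      have := h x hx _ hx' (isConj_iff.mpr ⟨n, rfl⟩)
      conv_lhs => rw [this]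
      group
    exact ⟨_, MonoidHom.normal_ker _, MonoidHom.ker_transferSylow_isComplement' P hN⟩
  · rintro ⟨N, hN, hcompl⟩ x hx y hy hxy
    obtain ⟨g, rfl⟩ := isConj_iff.mp hxy
    obtain ⟨⟨u, v⟩, rfl⟩ := hcompl.surjective g
    have hcomm : (v : G) * x = x * v := congrArg Subtype.val (mul_comm' v ⟨x, hx⟩)
    have he : (u : G) * v * x * ((u : G) * v)⁻¹ = u * x * (u : G)⁻¹ := by
      rw [mul_assoc (u : G) v x, hcomm]; group
    change x = (u : G) * v * x * ((u : G) * v)⁻¹
    change (u : G) * v * x * ((u : G) * v)⁻¹ ∈ P at hy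
    rw [he] at hy ⊢
    have h1 : x⁻¹ * ((u : G) * x * (u : G)⁻¹) ∈ N := by
      rw [show x⁻¹ * ((u : G) * x * (u : G)⁻¹) = (x⁻¹ * u * x⁻¹⁻¹) * (u : G)⁻¹ by group]
      exact mul_mem (hN.conj_mem u u.2 x⁻¹) (inv_mem u.2)
    have h2 : x⁻¹ * ((u : G) * x * (u : G)⁻¹) ∈ (P : Subgroup G) := mul_mem (inv_mem hx) hy
    have h3 := Subgroup.disjoint_def.mp hcompl.disjoint h1 h2
    exact inv_mul_eq_one.mp h3

end Cfsg.Agent.S0203
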