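import Cfsg.Statements.S0207
import Cfsg.Agent.Lib.Involution.Dihedral

set_option autoImplicit false
open Cfsg

namespace Cfsg.Agent.S0207

/-- If x, y are distinct involutions, every element of the subgroup they generate that lies outside the cyclic subgroup generated by xy is an involution. -/
theorem result {G : Type*} [Group G] [Finite G] (x y : G) (hx : orderOf x = 2) (hy : orderOf y = 2) (hxy : x ≠ y) (d : G) (hd : d ∈ Subgroup.closure ({x, y} : Set G)) (hd' : d ∉ Subgroup.zpowers (x * y)) : orderOf d = 2 := by
  obtain ⟨k, rfl | rfl⟩ := Cfsg.Agent.Involution.mem_closure_pair_cases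
    (Cfsg.Agent.Involution.sq_of_orderOf_two hx) (Cfsg.Agent.Involution.sq_of_orderOf_two hy) hd
  · exact absurd (Subgroup.zpow_mem_zpowers _ k) hd'
  · have hx1 := Cfsg.Agent.Involution.sq_of_orderOf_two hx
    have hy1 := Cfsg.Agent.Involution.sq_of_orderOf_two hy
    have hz := Cfsg.Agent.Involution.invol_conj_mul hx1 hy1
    rw [orderOf_eq_prime_iff]
    constructor
    · rw [pow_two, mul_assoc, ← mul_assoc ((x * y) ^ k), Cfsg.Agent.Involution.zpow_mul_invol hz,
        mul_assoc x, ← mul_assoc x x, hx1, one_mul, ← zpow_add, neg_add_cancel, zpow_zero]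
    · intro h
      have hxk : x = (x * y) ^ (-k) := by rw [zpow_neg]; exact eq_inv_of_mul_eq_one_left h
      refine hd' ?_
      rw [h]
      exact one_mem _

end Cfsg.Agent.S0207
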