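import Cfsg.Statements.S0211
import Cfsg.Agent.Lib.Involution.Dihedral
import Mathlib.Tactic.LinearCombination

set_option autoImplicit false
open Cfsg

namespace Cfsg.Agent.S0211

/-- Let x, y be involutions with xy of even order n and z = (xy)^(n/2). Then xz is conjugate to x by an element of the subgroup generated by x, y if and only if 4 divides n. -/
theorem result {G : Type*} [Group G] [Finite G] (x y : G) (hx : orderOf x = 2) (hy : orderOf y = 2) (heven : Even (orderOf (x * y))) : (∃ d ∈ Subgroup.closure ({x, y} : Set G), d * x * d⁻¹ = x * (x * y) ^ (orderOf (x * y) / 2)) ↔ 4 ∣ orderOf (x * y) := by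
  have hx1 := Cfsg.Agent.Involution.sq_of_orderOf_two hx
  have hy1 := Cfsg.Agent.Involution.sq_of_orderOf_two hy
  obtain ⟨m, hm⟩ := heven
  have hdiv : orderOf (x * y) / 2 = m := by omega
  rw [hdiv]
  constructor
  · rintro ⟨d, hd, he⟩
    obtain ⟨k, hk⟩ := Cfsg.Agent.Involution.conj_of_mem_closure_pair hx1 hy1 hd
    rw [hk] at he
    have h1 := mul_left_cancel he
    rw [← zpow_natCast, zpow_eq_zpow_iff_modEq, Int.modEq_iff_dvd, hm] at h1
    obtain ⟨c, hc⟩ := h1
    push_cast at hc
    have h2 : (2 : ℤ) ∣ (m : ℤ) := ⟨k + m * c, by linarith⟩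
    omega
  · intro h4
    obtain ⟨i, hi⟩ : ∃ i, m = 2 * i := ⟨m / 2, by omega⟩
    refine ⟨(x * y) ^ (-(i : ℤ)), Cfsg.Agent.Involution.zpow_mem_closure_pair x y _, ?_⟩
    rw [Cfsg.Agent.Involution.invol_conj_self_zpow hx1 hy1, ← zpow_natCast, hi]
    congr 2
    push_cast
    ring

end Cfsg.Agent.S0211
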