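import Cfsg.Statements.S0216
import Cfsg.Agent.Lib.Involution.Dihedral

set_option autoImplicit false
open Cfsg

namespace Cfsg.Agent.S0216

/-- For an involution u in a Sylow 2-subgroup P of a finite group G, the following are equivalent: no G-conjugate of u other than u lies in P; every commutator of u with an element of G has odd order. -/
theorem result {G : Type*} [Group G] [Finite G] (P : Sylow 2 G) (u : G) (hu : orderOf u = 2) (huP : u ∈ P) : (∀ g : G, g * u * g⁻¹ ∈ P → g * u * g⁻¹ = u) ↔ (∀ g : G, Odd (orderOf (u * g * u⁻¹ * g⁻¹))) := by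
  have hu1 := Cfsg.Agent.Involution.sq_of_orderOf_two hu
  constructor
  · intro hiso g
    have hv1 : g * u⁻¹ * g⁻¹ * (g * u⁻¹ * g⁻¹) = 1 := by
      calc g * u⁻¹ * g⁻¹ * (g * u⁻¹ * g⁻¹) = g * (u * u)⁻¹ * g⁻¹ := by group
        _ = 1 := by rw [hu1]; group
    rw [show u * g * u⁻¹ * g⁻¹ = u * (g * u⁻¹ * g⁻¹) by group]
    rw [← Nat.not_even_iff_odd]
    intro heven
    obtain ⟨d, hne, a, ha⟩ := Cfsg.Agent.Involution.exists_conj_two_power hu1 hv1 heven
    have hu' : u⁻¹ = u := Cfsg.Agent.Involution.inv_of_orderOf_two hu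
    have hd1 : d * (g * u⁻¹ * g⁻¹) * d⁻¹ = (d * g) * u * (d * g)⁻¹ := by rw [hu']; group
    rw [hd1] at hne ha
    have hv' : (d * g) * u * (d * g)⁻¹ * ((d * g) * u * (d * g)⁻¹) = 1 := by
      calc (d * g) * u * (d * g)⁻¹ * ((d * g) * u * (d * g)⁻¹) = (d * g) * (u * u) * (d * g)⁻¹ := by group
        _ = 1 := by rw [hu1]; group
    obtain ⟨R, hR⟩ := (Cfsg.Agent.Involution.isPGroup_closure_pair hu1 hv' ha).exists_le_sylow
    obtain ⟨c, rfl⟩ := MulAction.exists_smul_eq G P R
    apply hne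
    have hmem : ∀ z : G, z ∈ ((c • P : Sylow 2 G) : Subgroup G) → c⁻¹ * z * c ∈ P := by
      intro z hz
      rw [Sylow.coe_subgroup_smul, Subgroup.mem_pointwise_smul_iff_inv_smul_mem] at hz
      rw [MulAut.smul_def, MulAut.conj_inv_apply] at hz
      exact hz
    have h1 : c⁻¹ * u * c = u := by
      have h := hmem u (hR (Cfsg.Agent.Involution.left_mem_closure_pair _ _))
      simpa using hiso c⁻¹ (by simpa using h)
    have h2 : c⁻¹ * ((d * g) * u * (d * g)⁻¹) * c = u := by
      have h := hmem _ (hR (Cfsg.Agent.Involution.right_mem_closure_pair _ _))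
      have e : ∀ z : G, c⁻¹ * (d * g) * z * (c⁻¹ * (d * g))⁻¹ = c⁻¹ * ((d * g) * z * (d * g)⁻¹) * c :=
        fun z => by group
      have := hiso (c⁻¹ * (d * g)) (by rw [e]; exact h)
      rwa [e] at this
    have h3 := h2.trans h1.symm
    exact mul_left_cancel (mul_right_cancel h3)
  · intro hodd g hg
    have hcP : g * u * g⁻¹ * u⁻¹ ∈ P := mul_mem hg (inv_mem huP)
    obtain ⟨k, hk⟩ := P.2 ⟨_, hcP⟩
    have hk' : (g * u * g⁻¹ * u⁻¹) ^ (2 ^ k) = 1 := congrArg Subtype.val hk
    have he : g * u * g⁻¹ * u⁻¹ = (u * g * u⁻¹ * g⁻¹)⁻¹ := by group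
    rw [he, inv_pow, inv_eq_one, ← orderOf_dvd_iff_pow_eq_one] at hk'
    obtain ⟨j, -, hj⟩ := (Nat.dvd_prime_pow Nat.prime_two).mp hk'
    have h1 : orderOf (u * g * u⁻¹ * g⁻¹) = 1 := by
      rcases j with _ | j
      · simpa using hj
      · exfalso
        have := hodd g
        rw [hj, pow_succ] at this
        exact (Nat.not_odd_iff_even.mpr (even_two.mul_left _)) this
    rw [orderOf_eq_one_iff] at h1
    rw [h1, inv_one, mul_inv_eq_one] at he
    exact he

end Cfsg.Agent.S0216
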