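import Cfsg.Statements.S0219
import Mathlib

set_option autoImplicit false
open Cfsg

namespace Cfsg.Agent.S0219

/-- If a finite group has even order and a cyclic Sylow 2-subgroup, then it has a subgroup of index 2 (consider the parity of permutations in the regular representation). -/
theorem result {G : Type*} [Group G] [Finite G] (heven : Even (Nat.card G)) (T : Sylow 2 G) (hT : IsCyclic (T : Subgroup G)) : ∃ H : Subgroup G, H.index = 2 := by
  have : Fact (Nat.Prime 2) := ⟨Nat.prime_two⟩
  have h2 : (Nat.card G).minFac = 2 := (Nat.minFac_eq_two_iff _).2 (even_iff_two_dvd.1 heven)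
  have hK := hT.isComplement' h2
  let φ := MonoidHom.transferSylow T (hT.normalizer_le_centralizer h2)
  have hrange : φ.range = ⊤ := by
    apply Subgroup.eq_top_of_card_eq
    rw [← Subgroup.index_ker]
    exact Subgroup.IsComplement'.index_eq_card (Subgroup.IsComplement'.symm hK)
  have hsurj : Function.Surjective φ := MonoidHom.range_eq_top.1 hrange
  obtain ⟨k, hk⟩ := IsPGroup.iff_card.1 T.isPGroup'
  have hdvd : 2 ∣ Nat.card (T : Subgroup G) := T.dvd_card_of_dvd_card (even_iff_two_dvd.1 heven)
  have hk0 : k ≠ 0 := by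
    rintro rfl
    omega
  obtain ⟨N, hN⟩ := Sylow.exists_subgroup_card_pow_prime 2 (G := (T : Subgroup G)) (n := k - 1)
    (by rw [hk]; exact pow_dvd_pow 2 (by omega))
  refine ⟨N.comap φ, ?_⟩
  rw [Subgroup.index_comap_of_surjective _ hsurj]
  have h := N.card_mul_index
  rw [hN, hk, show 2 ^ k = 2 ^ (k - 1) * 2 by rw [← pow_succ]; congr 1; omega] at h
  exact Nat.eq_of_mul_eq_mul_left (Nat.two_pow_pos _) h

end Cfsg.Agent.S0219
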