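import Cfsg.Statements.S0220
import Mathlib
import Cfsg.Agent.Lib.Invol.Basic
import Cfsg.Agent.S0219

set_option autoImplicit false
open Cfsg

namespace Cfsg.Agent.S0220

/-- If x is an involution of a finite group G and a Sylow 2-subgroup of the centralizer of x is cyclic, then G has a subgroup of index 2; in particular G is not simple unless it has order 2. -/
theorem result {G : Type*} [Group G] [Finite G] (x : G) (hx : orderOf x = 2) (S : Sylow 2 ↥(Subgroup.centralizer ({x} : Set G))) (hS : IsCyclic (S : Subgroup ↥(Subgroup.centralizer ({x} : Set G)))) : ∃ H : Subgroup G, H.index = 2 := by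
  have : Fact (Nat.Prime 2) := ⟨Nat.prime_two⟩
  let C := Subgroup.centralizer ({x} : Set G)
  have hxC : x ∈ C := Invol.mem_centralizer_singleton_iff'.2 (Commute.refl x)
  obtain ⟨T, hT⟩ := (S.isPGroup'.map C.subtype).exists_le_sylow
  have hTC : (T : Subgroup G).subgroupOf C = S := by
    apply S.is_maximal'
    · exact T.isPGroup'.comap_of_injective _ C.subtype_injective
    · exact fun y hy => hT ⟨y, hy, rfl⟩
  have hTne : Nontrivial (T : Subgroup G) := by
    rw [← Finite.one_lt_card_iff_nontrivial]
    have := Nat.le_of_dvd Nat.card_pos (T.dvd_card_of_dvd_card (hx ▸ orderOf_dvd_natCard x))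
    omega
  have := T.isPGroup'.center_nontrivial
  obtain ⟨z, hzc, hz⟩ : ∃ z : (T : Subgroup G), z ∈ Subgroup.center (T : Subgroup G) ∧ orderOf z = 2 := by
    obtain ⟨m, hm0, hm⟩ := (T.isPGroup'.to_subgroup (Subgroup.center _)).nontrivial_iff_card.1 this
    exact Invol.exists_involution_mem (by rw [hm]; exact Nat.even_pow.2 ⟨even_two, hm0.ne'⟩)
  have hxS : (⟨x, hxC⟩ : C) ∈ (S : Subgroup C) := by
    have hcent : (⟨x, hxC⟩ : C) ∈ Subgroup.center C := Subgroup.mem_center_iff.2 fun g =>
      Subtype.ext (Invol.mem_centralizer_singleton_iff'.1 g.2).eq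
    have hp : IsPGroup 2 (Subgroup.zpowers (⟨x, hxC⟩ : C)) :=
      IsPGroup.of_card (n := 1) (by rw [Nat.card_zpowers, Invol.orderOf_two_of_mem hx, pow_one])
    have hn : (Subgroup.zpowers (⟨x, hxC⟩ : C)).Normal :=
      ⟨fun n hn g => by
        rw [(Subgroup.mem_center_iff.1 (Subgroup.zpowers_le.2 hcent hn)) g, mul_inv_cancel_right]
        exact hn⟩
    have heq : (S : Subgroup C) ⊔ Subgroup.zpowers (⟨x, hxC⟩ : C) = S :=
      S.is_maximal' (S.isPGroup'.to_sup_of_normal_right hp) le_sup_left
    rw [← heq]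
    exact le_sup_right (a := (S : Subgroup C)) (Subgroup.mem_zpowers _)
  have hxT : x ∈ (T : Subgroup G) := hT ⟨_, hxS, rfl⟩
  have hz' : orderOf (z : G) = 2 := by rwa [Subgroup.orderOf_coe]
  have hzC : (z : G) ∈ C := Invol.mem_centralizer_singleton_iff'.2
    (congrArg Subtype.val ((Subgroup.mem_center_iff.1 hzc) ⟨x, hxT⟩)).symm
  have hzS : (⟨(z : G), hzC⟩ : C) ∈ (S : Subgroup C) := by rw [← hTC]; exact z.2
  have hzx : (z : G) = x := by
    obtain ⟨g, hg⟩ := hS.exists_generator
    have hu : ∀ a b : (S : Subgroup C), orderOf a = 2 → orderOf b = 2 → a = b := by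
      intro a b ha hb
      have := Fintype.ofFinite (S : Subgroup C)
      classical
      have hle := IsCyclic.card_pow_eq_one_le (α := (S : Subgroup C)) (n := 2) two_pos
      by_contra hab
      have hsub : ({1, a, b} : Finset (S : Subgroup C)) ⊆ Finset.univ.filter fun c => c ^ 2 = 1 := by
        intro c hc
        simp only [Finset.mem_insert, Finset.mem_singleton] at hc
        rcases hc with rfl | rfl | rfl
        · simp
        · simp [← ha, pow_orderOf_eq_one]
        · simp [← hb, pow_orderOf_eq_one]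
      have := Finset.card_le_card hsub
      rw [Finset.card_insert_of_notMem, Finset.card_pair hab] at this
      · omega
      · simp [(Invol.ne_one_of_orderOf_two ha).symm, (Invol.ne_one_of_orderOf_two hb).symm]
    have := hu ⟨_, hzS⟩ ⟨_, hxS⟩
      (Invol.orderOf_two_of_mem (Invol.orderOf_two_of_mem hz'))
      (Invol.orderOf_two_of_mem (Invol.orderOf_two_of_mem hx))
    exact congrArg (fun w : (S : Subgroup C) => ((w : C) : G)) this
  have hle : (T : Subgroup G) ≤ C := fun y hy => by
    refine Invol.mem_centralizer_singleton_iff'.2 ?_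
    have := congrArg Subtype.val ((Subgroup.mem_center_iff.1 hzc) ⟨y, hy⟩)
    rwa [← hzx]
  have e : (S : Subgroup C) ≃* (T : Subgroup G) :=
    (MulEquiv.subgroupCongr hTC.symm).trans (Subgroup.subgroupOfEquivOfLe hle)
  exact S0219.result (even_iff_two_dvd.2 (hx ▸ orderOf_dvd_natCard x)) T
    (isCyclic_of_surjective e e.surjective)

end Cfsg.Agent.S0220
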