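import Cfsg.Statements.S0221
import Mathlib
import Cfsg.Agent.Lib.Invol.Basic
import Cfsg.Agent.Lib.Invol.NormalFour

set_option autoImplicit false
open Cfsg

namespace Cfsg.Agent.S0221

/-- Adjoining a commuting involution to an elementary abelian group of order four. -/
theorem exists_eight {S : Type*} [Group S] [Finite S] (A : Subgroup S) (hA : Nat.card A = 4)
    (hA2 : ∀ a ∈ A, a ^ 2 = 1) (u : S) (hu : u * u = 1) (huA : ∀ a ∈ A, Commute a u)
    (hnot : u ∉ A) (y : S) (hyA : ∀ a ∈ A, Commute a y) (hyu : Commute u y) :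
    ∃ W : Subgroup S, Nat.card W = 8 ∧ ∀ w ∈ W, w ^ 2 = 1 ∧ Commute w y := by
  classical
  haveI := Fintype.ofFinite S
  have hui : u⁻¹ = u := inv_eq_of_mul_eq_one_right hu
  let W : Subgroup S :=
    { carrier := {w | w ∈ A ∨ w * u ∈ A}
      one_mem' := Or.inl (one_mem A)
      mul_mem' := by
        intro v w hv hw
        simp only [Set.mem_setOf_eq] at hv hw ⊢
        rcases hv with hv | hv <;> rcases hw with hw | hw
        · exact Or.inl (mul_mem hv hw)
        · exact Or.inr (by rw [mul_assoc]; exact mul_mem hv hw)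
        · refine Or.inr ?_
          rw [mul_assoc, (huA w hw).eq, ← mul_assoc]
          exact mul_mem hv hw
        · refine Or.inl ?_
          have h := mul_mem hv hw
          have e : v * u * (w * u) = v * w := by
            have hc : Commute w u := by
              have : Commute (w * u * u⁻¹) u :=
                (huA _ hw).mul_left ((Commute.refl u).inv_left)
              simpa using this
            rw [mul_assoc v u, ← mul_assoc u w u, ← hc.eq, mul_assoc w u u, hu, mul_one]
          rwa [e] at h
      inv_mem' := by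
        intro w hw
        simp only [Set.mem_setOf_eq] at hw ⊢
        rcases hw with hw | hw
        · exact Or.inl (inv_mem hw)
        · refine Or.inr ?_
          have hc := (huA _ (inv_mem hw)).eq
          have : w⁻¹ * u = (w * u)⁻¹ := by
            have h := congrArg (fun t => u * t) hc
            simp only [mul_inv_rev, hui, ← mul_assoc, hu, one_mul] at h
            rw [mul_inv_rev, hui]
            exact h
          rw [this]
          exact inv_mem hw }
  refine ⟨W, ?_, ?_⟩
  · have hsplit : (Finset.univ.filter fun w => w ∈ W) =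
        (Finset.univ.filter fun w => w ∈ A) ∪ (Finset.univ.filter fun w => w * u ∈ A) := by
      ext w
      simp only [Finset.mem_filter, Finset.mem_univ, true_and, Finset.mem_union]
      exact Iff.rfl
    have hdis : Disjoint (Finset.univ.filter fun w => w ∈ A)
        (Finset.univ.filter fun w => w * u ∈ A) := by
      rw [Finset.disjoint_filter]
      intro w _ h1 h2
      exact hnot (by simpa using mul_mem (inv_mem h1) h2)
    have hcard2 : (Finset.univ.filter fun w => w * u ∈ A).card = Nat.card A := by
      rw [Nat.card_eq_fintype_card, ← Fintype.card_subtype]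
      exact Fintype.card_congr ((Equiv.mulRight u).subtypeEquiv fun w => Iff.rfl)
    rw [Nat.card_eq_fintype_card, Fintype.card_subtype, hsplit, Finset.card_union_of_disjoint hdis,
      hcard2, ← Fintype.card_subtype, ← Nat.card_eq_fintype_card, hA]
  · intro w hw
    rcases hw with hw | hw
    · exact ⟨hA2 w hw, hyA w hw⟩
    · have hw' : w = w * u * u⁻¹ := by group
      rw [hw', hui]
      exact ⟨by rw [(huA _ hw).mul_pow, hA2 _ hw, pow_two, hu, one_mul], (hyA _ hw).mul_left hyu⟩

theorem exists_eight_centralizing {S : Type*} [Group S] [Finite S] (U : Subgroup S)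
    (hU : Nat.card U = 4) (hU2 : ∀ u ∈ U, u ^ 2 = 1) (M : Subgroup S)
    (hM : ∀ m, m ∈ M ↔ ∀ u ∈ U, Commute m u) (hMi : M.index ≤ 2)
    (E : Subgroup S) (hE : Nat.card E = 8) (hE2 : ∀ e ∈ E, e ^ 2 = 1)
    (y : S) (hy : y ∈ M) (hy2 : y * y = 1) :
    ∃ W : Subgroup S, Nat.card W = 8 ∧ ∀ w ∈ W, w ^ 2 = 1 ∧ Commute w y := by
  have hcommE : ∀ (H : Subgroup S), (∀ h ∈ H, h ^ 2 = 1) → ∀ a ∈ H, ∀ b ∈ H, Commute a b := by
    intro H hH a ha b hb
    have e : ∀ h ∈ H, h⁻¹ = h := fun h hh =>
      inv_eq_of_mul_eq_one_right (by rw [← pow_two]; exact hH h hh)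
    have := e _ (mul_mem ha hb)
    rw [mul_inv_rev, e a ha, e b hb] at this
    exact this.symm
  by_cases hyU : y ∈ U
  · by_cases hEM : E ≤ M
    · exact ⟨E, hE, fun w hw => ⟨hE2 w hw, (hM w).1 (hEM hw) y hyU⟩⟩
    · have hcard : Nat.card ↥(M ⊓ E) = 4 := by
        have h2 : M.relIndex E ≤ 2 := le_trans (by
          rw [← M.relIndex_top_right]
          exact Subgroup.relIndex_le_of_le_right le_top (by
            rw [M.relIndex_top_right]; exact Subgroup.index_ne_zero_of_finite)) hMi
        have h1 : M.relIndex E ≠ 1 := fun h => hEM (Subgroup.relIndex_eq_one.1 h)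
        have hm' : Nat.card ((M ⊓ E).subgroupOf E) * M.relIndex E = 8 := by
          rw [Subgroup.inf_subgroupOf_right, ← hE]
          exact (M.subgroupOf E).card_mul_index
        rw [Nat.card_congr (Subgroup.subgroupOfEquivOfLe (inf_le_right : M ⊓ E ≤ E)).toEquiv] at hm'
        have h0 : M.relIndex E ≠ 0 := fun h => by rw [h] at hm'; omega
        have : M.relIndex E = 2 := by omega
        rw [this] at hm'
        omega
      obtain ⟨e₀, he₀, he₀M⟩ := SetLike.not_le_iff_exists.1 hEM
      obtain ⟨u₀, hu₀, hu₀E⟩ : ∃ u ∈ U, u ∉ E := by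
        by_contra hh
        push_neg at hh
        exact he₀M ((hM e₀).2 fun u hu => hcommE E hE2 e₀ he₀ u (hh u hu))
      refine exists_eight (M ⊓ E) hcard (fun a ha => hE2 a ha.2) u₀
        (by rw [← pow_two]; exact hU2 u₀ hu₀) (fun a ha => (hM a).1 ha.1 u₀ hu₀)
        (fun h => hu₀E h.2) y (fun a ha => (hM a).1 ha.1 y hyU) (hcommE U hU2 u₀ hu₀ y hyU)
  · exact exists_eight U hU hU2 y hy2 (fun a ha => ((hM y).1 hy a ha).symm) hyU y
      (fun a ha => ((hM y).1 hy a ha).symm) (Commute.refl y)

/-- Let G be a finite group with no subgroup of index 2 whose 2-rank is at least 3 (it contains an elementary abelian subgroup of order 8). Then the centralizer of every involution of G also contains an elementary abelian subgroup of order 8. -/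
theorem result {G : Type*} [Group G] [Finite G] (hno : ∀ H : Subgroup G, H.index ≠ 2) (hrank : ∃ E : Subgroup G, Nat.card E = 8 ∧ ∀ e ∈ E, e ^ 2 = 1) (x : G) (hx : orderOf x = 2) : ∃ E : Subgroup G, E ≤ Subgroup.centralizer ({x} : Set G) ∧ Nat.card E = 8 ∧ ∀ e ∈ E, e ^ 2 = 1 := by
  classical
  haveI : Fact (Nat.Prime 2) := ⟨Nat.prime_two⟩
  obtain ⟨E, hE, hE2⟩ := hrank
  obtain ⟨S, hS⟩ := (IsPGroup.of_card (p := 2) (n := 3) (G := E) (by rw [hE]; rfl)).exists_le_sylow
  let E' : Subgroup (S : Subgroup G) := E.subgroupOf S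
  have hE' : Nat.card E' = 8 := by
    rw [Nat.card_congr (Subgroup.subgroupOfEquivOfLe hS).toEquiv, hE]
  have hE'2 : ∀ e ∈ E', e ^ 2 = 1 := fun e he => Subtype.ext (hE2 _ he)
  obtain ⟨U, hUn, hU, hU2⟩ := Invol.exists_normal_four S.isPGroup' E' hE' hE'2
  let M : Subgroup (S : Subgroup G) := Subgroup.centralizer (U : Set (S : Subgroup G))
  have hM : ∀ m, m ∈ M ↔ ∀ u ∈ U, Commute m u := by
    intro m
    rw [Subgroup.mem_centralizer_iff]
    exact ⟨fun h u hu => (h u hu).symm, fun h u hu => (h u hu).symm.eq⟩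
  have hcU : ∀ a ∈ U, ∀ b ∈ U, Commute a b := by
    intro a ha b hb
    have e : ∀ h ∈ U, h⁻¹ = h := fun h hh =>
      inv_eq_of_mul_eq_one_right (by rw [← pow_two]; exact hU2 h hh)
    have := e _ (mul_mem ha hb)
    rw [mul_inv_rev, e a ha, e b hb] at this
    exact this.symm
  have hMi : M.index ≤ 2 := by
    have : U.Normal := hUn
    obtain ⟨z, hzU, hz2, hzc⟩ : ∃ z ∈ U, orderOf z = 2 ∧ z ∈ Subgroup.center (S : Subgroup G) := by
      obtain ⟨z, hzU, hzc, hzo⟩ := PGroup.exists_orderOf_eq_mem_center S.isPGroup' U (by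
        intro h; rw [h, Subgroup.card_bot] at hU; omega)
      exact ⟨z, hzU, hzo, hzc⟩
    haveI := Fintype.ofFinite (S : Subgroup G)
    let UF := Finset.univ.filter fun u : (S : Subgroup G) => u ∈ U
    have hUF : UF.card = 4 := by rw [← hU, Nat.card_eq_fintype_card, Fintype.card_subtype]
    obtain ⟨u, hu, hu'⟩ := Finset.exists_mem_notMem_of_card_lt_card (s := ({1, z} : Finset _)) (t := UF)
      (lt_of_le_of_lt Finset.card_le_two (by omega))
    simp only [UF, Finset.mem_filter, Finset.mem_univ, true_and] at hu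
    simp only [Finset.mem_insert, Finset.mem_singleton, not_or] at hu'
    have hz1 := Invol.ne_one_of_orderOf_two hz2
    have hzz := Invol.mul_self_of_orderOf_two hz2
    have hUall : ∀ w ∈ U, w = 1 ∨ w = z ∨ w = u ∨ w = z * u := by
      intro w hw
      by_contra hh
      push_neg at hh
      have hsub : ({1, z, u, z * u, w} : Finset _) ⊆ UF := by
        intro v hv
        simp only [Finset.mem_insert, Finset.mem_singleton] at hv
        simp only [UF, Finset.mem_filter, Finset.mem_univ, true_and]
        rcases hv with rfl | rfl | rfl | rfl | rfl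
        exacts [one_mem U, hzU, hu, mul_mem hzU hu, hw]
      have hle := Finset.card_le_card hsub
      have h4 : z * u ≠ 1 := fun h => hu'.2 (by
        rw [← Invol.inv_of_orderOf_two hz2]
        exact eq_inv_of_mul_eq_one_right h)
      have h5 : z * u ≠ z := fun h => hu'.1 (mul_eq_left.1 h)
      have h6 : z * u ≠ u := fun h => hz1 (mul_eq_right.1 h)
      rw [Finset.card_insert_of_notMem (by simp [hz1.symm, Ne.symm hu'.1, h4.symm, hh.1.symm]),
        Finset.card_insert_of_notMem (by simp [Ne.symm hu'.2, h5.symm, hh.2.1.symm]),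
        Finset.card_insert_of_notMem (by simp [h6.symm, hh.2.2.1.symm]),
        Finset.card_pair hh.2.2.2.symm] at hle
      omega
    have hC : Subgroup.centralizer ({u} : Set (S : Subgroup G)) ≤ M := by
      intro m hm
      have hmu := Invol.mem_centralizer_singleton_iff'.1 hm
      have hmz : Commute m z := Subgroup.mem_center_iff.1 hzc m
      refine (hM m).2 fun w hw => ?_
      rcases hUall w hw with rfl | rfl | rfl | rfl
      exacts [Commute.one_right m, hmz, hmu, hmz.mul_right hmu]
    have hcount : Nat.card (S : Subgroup G) ≤ 2 * Nat.card M := by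
      rw [Nat.card_eq_fintype_card, ← Finset.card_univ]
      have hfib : ∀ r ∈ Finset.univ.image (fun g : (S : Subgroup G) => g * u * g⁻¹),
          (Finset.univ.filter fun g => g * u * g⁻¹ = r).card ≤ Nat.card M := by
        intro r hr
        obtain ⟨g, -, rfl⟩ := Finset.mem_image.1 hr
        refine le_trans (le_of_eq ?_) (Subgroup.card_le_of_le hC)
        rw [← Invol.card_conj_eq _ ⟨g, rfl⟩, Nat.card_eq_fintype_card, Fintype.card_subtype]
      refine (Finset.card_le_mul_card_image _ _ hfib).trans ?_
      rw [mul_comm]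
      refine Nat.mul_le_mul_right _ (le_trans (Finset.card_le_card (t := {u, z * u}) fun r hr => ?_)
        Finset.card_le_two)
      obtain ⟨g, -, rfl⟩ := Finset.mem_image.1 hr
      rcases hUall _ (hUn.conj_mem u hu g) with h | h | h | h
      · exact absurd (by simpa using h) hu'.1
      · exfalso
        apply hu'.2
        calc u = g⁻¹ * (g * u * g⁻¹) * g := by group
          _ = g⁻¹ * g * z := by rw [h, mul_assoc, ← Subgroup.mem_center_iff.1 hzc g, mul_assoc]
          _ = z := by group
      · simp [h]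
      · simp [h]
    have hmul := M.card_mul_index
    rw [← hmul, mul_comm 2] at hcount
    exact Nat.le_of_mul_le_mul_left hcount Nat.card_pos
  let MG : Subgroup G := M.map (S : Subgroup G).subtype
  have hMGi : MG.index = M.index * (S : Subgroup G).index := by
    show (M.map (S : Subgroup G).subtype).index = _
    rw [Subgroup.index_map, Subgroup.ker_subtype, sup_bot_eq, Subgroup.range_subtype]
  have hSodd : Odd (S : Subgroup G).index := by
    rw [← Nat.not_even_iff_odd, even_iff_two_dvd]
    exact S.not_dvd_index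
  have hfix : ∃ g : G, g⁻¹ * x * g ∈ MG := by
    rcases (show M.index = 1 ∨ M.index = 2 by
      have : M.index ≠ 0 := Subgroup.index_ne_zero_of_finite
      omega) with h | h
    · obtain ⟨P, hP⟩ := (IsPGroup.of_card (p := 2) (n := 1) (G := Subgroup.zpowers x)
        (by rw [Nat.card_zpowers, hx, pow_one])).exists_le_sylow
      obtain ⟨k, hk⟩ := MulAction.exists_smul_eq G P S
      have hmem : k * x * k⁻¹ ∈ (S : Subgroup G) := by
        rw [← hk]
        exact ⟨x, hP (Subgroup.mem_zpowers x), rfl⟩
      refine ⟨k⁻¹, ⟨⟨k * x * k⁻¹, hmem⟩, ?_, ?_⟩⟩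
      · rw [SetLike.mem_coe, Subgroup.index_eq_one.1 h]; trivial
      · simp
    · by_contra hh
      push_neg at hh
      obtain ⟨H, hH⟩ := Invol.exists_index_two_of_fpf MG _ hSodd (by rw [hMGi, h]) x
        (Invol.mul_self_of_orderOf_two hx) hh
      exact hno H hH
  obtain ⟨g, y, hyM, hy⟩ := hfix
  change (y : G) = g⁻¹ * x * g at hy
  have hy2 : y * y = 1 := Subtype.ext (by
    show (y : G) * y = 1
    rw [hy]
    calc g⁻¹ * x * g * (g⁻¹ * x * g) = g⁻¹ * (x * x) * g := by group
      _ = 1 := by rw [Invol.mul_self_of_orderOf_two hx]; group)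
  obtain ⟨W, hW, hW2⟩ := exists_eight_centralizing U hU hU2 M hM hMi E' hE' hE'2 y hyM hy2
  refine ⟨W.map ((MulAut.conj g).toMonoidHom.comp (S : Subgroup G).subtype), ?_, ?_, ?_⟩
  · rintro w ⟨v, hv, rfl⟩
    refine Invol.mem_centralizer_singleton_iff'.2 ?_
    have hc := congrArg Subtype.val (hW2 v hv).2.eq
    show Commute (g * (v : G) * g⁻¹) x
    have hx' : x = g * (y : G) * g⁻¹ := by rw [hy]; group
    rw [hx', commute_iff_eq]
    calc g * (v : G) * g⁻¹ * (g * (y : G) * g⁻¹) = g * ((v : G) * y) * g⁻¹ := by group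
      _ = g * ((y : G) * v) * g⁻¹ := by rw [show (v : G) * y = y * v from hc]
      _ = g * (y : G) * g⁻¹ * (g * (v : G) * g⁻¹) := by group
  · refine (Subgroup.card_map_of_injective ?_).trans hW
    exact (MulAut.conj g).injective.comp (Subgroup.subtype_injective _)
  · rintro w ⟨v, hv, rfl⟩
    rw [← map_pow, (hW2 v hv).1, map_one]

end Cfsg.Agent.S0221
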