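import Cfsg.Statements.S0226
import Mathlib
import Cfsg.Agent.Lib.Invol.Basic

set_option autoImplicit false
open Cfsg

namespace Cfsg.Agent.S0226

/-- A finite group of even order has an odd number of involutions. -/
theorem result {G : Type*} [Group G] [Finite G] (heven : Even (Nat.card G)) : Odd (Nat.card {t : G // orderOf t = 2}) := by
  classical
  haveI := Fintype.ofFinite G
  let σ : Equiv.Perm G := Equiv.inv G
  have hσ2 : σ ^ 2 = 1 := by
    ext a
    simp [σ, pow_two]
  have h2 : ∀ b ∈ σ.cycleType, b = 2 := fun b hb => by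
    have hd := (Equiv.Perm.dvd_of_mem_cycleType hb).trans (orderOf_dvd_of_pow_eq_one hσ2)
    have h1 := Equiv.Perm.two_le_of_mem_cycleType hb
    have := Nat.le_of_dvd two_pos hd
    omega
  have hs : 2 ∣ σ.support.card := by
    rw [← σ.sum_cycleType]
    exact Multiset.dvd_sum fun b hb => by rw [h2 b hb]
  have hfix : Nat.card {x : G // x * x = 1} = σ.supportᶜ.card := by
    rw [Nat.card_eq_fintype_card, Fintype.card_subtype]
    congr 1
    ext a
    simp [σ, inv_eq_iff_mul_eq_one]
  rw [Invol.card_sq_eq_one, Finset.card_compl, ← Nat.card_eq_fintype_card] at hfix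
  have hle : σ.support.card ≤ Nat.card G := by
    rw [Nat.card_eq_fintype_card]
    exact Finset.card_le_univ _
  have he : 2 ∣ Nat.card {t : G // orderOf t = 2} + 1 := by
    rw [hfix]
    exact Nat.dvd_sub (even_iff_two_dvd.1 heven) hs
  rw [Nat.odd_iff]
  omega

end Cfsg.Agent.S0226
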