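import Cfsg.Statements.S0229
import Mathlib
import Cfsg.Agent.Lib.Invol.Basic

set_option autoImplicit false
open Cfsg

namespace Cfsg.Agent.S0229

/-- Let t be an involution of a Sylow 2-subgroup S of a finite group G, conjugate in G to no other element of S, and let s be an involution of G not conjugate to t. Then the order of st is twice an odd number. -/
theorem result {G : Type*} [Group G] [Finite G] (S : Sylow 2 G) (t : G) (ht : orderOf t = 2) (htS : t ∈ S) (hiso : ∀ g : G, g * t * g⁻¹ ∈ S → g * t * g⁻¹ = t) (s : G) (hs : orderOf s = 2) (hns : ¬ IsConj s t) : orderOf (s * t) % 4 = 2 := by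
  have hs' := Invol.mul_self_of_orderOf_two hs
  have ht' := Invol.mul_self_of_orderOf_two ht
  rcases Nat.even_or_odd (orderOf (s * t)) with ⟨m, hm⟩ | hodd
  · by_contra hcon
    have hm0 : m ≠ 0 := by
      rintro rfl
      exact (orderOf_pos (s * t)).ne' (by simpa using hm)
    obtain ⟨hz, -, hzt⟩ := Invol.commute_pow_half hs' ht' hm0 (by omega)
    obtain ⟨j, rfl⟩ : 2 ∣ m := by omega
    have hzi := Invol.inv_of_orderOf_two hz
    have hyy : (s * t) ^ j * (s * t) ^ j = (s * t) ^ (2 * j) := by rw [← pow_add, two_mul]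
    have hcy := Invol.pow_mul_inv_eq hs' ht' j
    generalize hy : (s * t) ^ j = y at hyy hcy
    generalize hzz : (s * t) ^ (2 * j) = z at hz hzt hzi hyy
    have hti := Invol.inv_of_orderOf_two ht
    have hconj : y * t * y⁻¹ = z * t := by
      have : t * y⁻¹ = y * t := by
        rw [mul_inv_eq_iff_eq_mul, mul_assoc, hcy, ← mul_assoc, mul_inv_cancel, one_mul]
      rw [mul_assoc, this, ← mul_assoc, hyy]
    have hzt2 : (z * t) * (z * t) = 1 := by
      rw [← hconj]
      calc y * t * y⁻¹ * (y * t * y⁻¹) = y * (t * t) * y⁻¹ := by group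
        _ = 1 := by rw [ht']; group
    have hcomm : Commute t (z * t) := hzt.symm.mul_right (Commute.refl t)
    obtain ⟨g, hg1, hg2⟩ := Invol.exists_conj_pair_mem S ht' hzt2 hcomm
    have e1 := hiso g hg1
    have e2 : g * (z * t) * g⁻¹ = t := by
      have : g * (z * t) * g⁻¹ = (g * y) * t * (g * y)⁻¹ := by rw [← hconj]; group
      rw [this] at hg2 ⊢
      exact hiso _ hg2
    have : z * t = t := by
      have h := e2.trans e1.symm
      simpa using h
    exact Invol.ne_one_of_orderOf_two hz (mul_right_cancel (b := t) (by simpa using this))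
  · exact absurd (Invol.isConj_of_odd_orderOf_mul hs' ht' hodd) hns

end Cfsg.Agent.S0229
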