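import Cfsg.Statements.S0230
import Mathlib
import Cfsg.Agent.Lib.Invol.Basic

set_option autoImplicit false
open Cfsg

namespace Cfsg.Agent.S0230

/-- Let G be a finite group with two non-conjugate involutions, and let t be an involution whose centralizer has maximal order among centralizers of involutions. Then |G| < |C_G(t)|^3. -/
theorem result {G : Type*} [Group G] [Finite G] (s t : G) (hs : orderOf s = 2) (ht : orderOf t = 2) (hnc : ¬ IsConj s t) (hmax : ∀ u : G, orderOf u = 2 → Nat.card (Subgroup.centralizer ({u} : Set G)) ≤ Nat.card (Subgroup.centralizer ({t} : Set G))) : Nat.card G < Nat.card (Subgroup.centralizer ({t} : Set G)) ^ 3 := by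
  classical
  haveI := Fintype.ofFinite G
  let Ct := Subgroup.centralizer ({t} : Set G)
  have hz : ∀ g : G, ∃ z : G, orderOf z = 2 ∧ Commute z (g * s * g⁻¹) ∧ Commute z t := fun g =>
    Invol.exists_common_commuting (by rw [Invol.orderOf_conj_eq, hs]) ht fun h =>
      hnc ((isConj_iff.2 ⟨g, rfl⟩ : IsConj s (g * s * g⁻¹)).trans h)
  let A : Finset G := Finset.univ.filter fun z => z ∈ Ct ∧ orderOf z = 2
  let cls : Finset G := Finset.univ.image fun g : G => g * s * g⁻¹
  have hA : A.card < Nat.card Ct := by
    have hsub : A ⊂ Finset.univ.filter fun z => z ∈ Ct := by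
      rw [Finset.ssubset_iff]
      refine ⟨1, by simp [A], ?_⟩
      intro z hzz
      rcases Finset.mem_insert.1 hzz with rfl | h
      · simp
      · simp only [A, Finset.mem_filter] at h ⊢
        exact ⟨h.1, h.2.1⟩
    have := Finset.card_lt_card hsub
    rwa [Nat.card_eq_fintype_card, Fintype.card_subtype]
  have hcls : cls.card ≤ A.card * Nat.card Ct := by
    have hsub : cls ⊆ A.biUnion fun z => Finset.univ.filter fun r => Commute r z := by
      intro r hr
      obtain ⟨g, -, rfl⟩ := Finset.mem_image.1 hr
      obtain ⟨z, hz2, hzr, hzt⟩ := hz g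
      exact Finset.mem_biUnion.2 ⟨z, by simp [A, hz2, Ct, Invol.mem_centralizer_singleton_iff', hzt],
        by simp [hzr.symm]⟩
    refine (Finset.card_le_card hsub).trans (Finset.card_biUnion_le_card_mul _ _ _ fun z hzA => ?_)
    simp only [A, Finset.mem_filter] at hzA
    refine le_trans (le_of_eq ?_) (hmax z hzA.2.2)
    rw [Nat.card_eq_fintype_card, Fintype.card_subtype]
    congr 1
    ext r
    simp [Invol.mem_centralizer_singleton_iff']
  have hclass : Nat.card G ≤ cls.card * Nat.card Ct := by
    rw [Nat.card_eq_fintype_card, ← Finset.card_univ,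
      Finset.card_eq_sum_card_image (fun g : G => g * s * g⁻¹)]
    have hbound : ∀ r ∈ cls,
        (Finset.univ.filter fun g : G => g * s * g⁻¹ = r).card ≤ Nat.card Ct := by
      intro r hr
      obtain ⟨g, -, rfl⟩ := Finset.mem_image.1 hr
      refine le_trans (le_of_eq ?_) (hmax s hs)
      rw [← Invol.card_conj_eq _ ⟨g, rfl⟩, Nat.card_eq_fintype_card, Fintype.card_subtype]
    simpa [cls] using Finset.sum_le_card_nsmul cls _ _ hbound
  have hpos : 0 < Nat.card Ct := Nat.card_pos
  calc Nat.card G ≤ A.card * Nat.card Ct * Nat.card Ct :=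
        hclass.trans (Nat.mul_le_mul_right _ hcls)
    _ < Nat.card Ct * Nat.card Ct * Nat.card Ct :=
        Nat.mul_lt_mul_of_pos_right (Nat.mul_lt_mul_of_pos_right hA hpos) hpos
    _ = Nat.card Ct ^ 3 := by ring

end Cfsg.Agent.S0230
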