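import Cfsg.Statements.S0231
import Mathlib
import Cfsg.Agent.Lib.Invol.Basic

set_option autoImplicit false
open scoped Pointwise
open Cfsg

namespace Cfsg.Agent.S0231

open scoped Pointwise

theorem sylow_eq {G : Type*} [Group G] [Finite G] (T : Sylow 2 G)
    (hTI : ∀ g : G, MulAut.conj g • (T : Subgroup G) ≠ T →
      MulAut.conj g • (T : Subgroup G) ⊓ T = ⊥)
    (P Q : Sylow 2 G) {x : G} (hx : x ≠ 1) (hP : x ∈ P) (hQ : x ∈ Q) : P = Q := by
  haveI : Fact (Nat.Prime 2) := ⟨Nat.prime_two⟩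
  obtain ⟨a, rfl⟩ := MulAction.exists_smul_eq G T P
  obtain ⟨b, rfl⟩ := MulAction.exists_smul_eq G T Q
  obtain ⟨u, hu, hua⟩ : x ∈ MulAut.conj a • (T : Subgroup G) := hP
  obtain ⟨v, hv, hvb⟩ : x ∈ MulAut.conj b • (T : Subgroup G) := hQ
  change a * u * a⁻¹ = x at hua
  change b * v * b⁻¹ = x at hvb
  have key : MulAut.conj (a⁻¹ * b) • (T : Subgroup G) = T := by
    by_contra hne
    have hmem : u ∈ MulAut.conj (a⁻¹ * b) • (T : Subgroup G) ⊓ T :=
      ⟨⟨v, hv, by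
        show (a⁻¹ * b) * v * (a⁻¹ * b)⁻¹ = u
        calc (a⁻¹ * b) * v * (a⁻¹ * b)⁻¹ = a⁻¹ * (b * v * b⁻¹) * a := by group
          _ = u := by rw [hvb, ← hua]; group⟩, hu⟩
    rw [hTI _ hne, Subgroup.mem_bot] at hmem
    exact hx (by rw [← hua, hmem]; group)
  have h1 : (a⁻¹ * b) • T = T := Sylow.ext key
  calc a • T = a • ((a⁻¹ * b) • T) := by rw [h1]
    _ = b • T := by rw [← mul_smul, mul_inv_cancel_left]

/-- Let T be a Sylow 2-subgroup of the finite group G which is not normal and which intersects every other Sylow 2-subgroup trivially. Then G has a single conjugacy class of involutions. -/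
theorem result {G : Type*} [Group G] [Finite G] (T : Sylow 2 G) (hnn : ¬ (T : Subgroup G).Normal) (hTI : ∀ g : G, MulAut.conj g • (T : Subgroup G) ≠ T → MulAut.conj g • (T : Subgroup G) ⊓ T = ⊥) (s t : G) (hs : orderOf s = 2) (ht : orderOf t = 2) : IsConj s t := by
  haveI : Fact (Nat.Prime 2) := ⟨Nat.prime_two⟩
  by_contra hnc
  have hmemS : ∀ x : G, orderOf x = 2 → ∃ P : Sylow 2 G, x ∈ P := fun x hx => by
    obtain ⟨P, hP⟩ := (IsPGroup.of_card (p := 2) (n := 1) (G := Subgroup.zpowers x)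
      (by rw [Nat.card_zpowers, hx, pow_one])).exists_le_sylow
    exact ⟨P, hP (Subgroup.mem_zpowers x)⟩
  have hcomm : ∀ (x y : G) (P Q : Sylow 2 G), orderOf x = 2 → orderOf y = 2 → Commute x y →
      x ∈ P → y ∈ Q → P = Q := by
    intro x y P Q hx hy hxy hP hQ
    obtain ⟨g, hg1, hg2⟩ := Invol.exists_conj_pair_mem T (Invol.mul_self_of_orderOf_two hx)
      (Invol.mul_self_of_orderOf_two hy) hxy
    have aux : ∀ z : G, g * z * g⁻¹ ∈ T → z ∈ (g⁻¹ • T : Sylow 2 G) := fun z hz => by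
      show z ∈ MulAut.conj g⁻¹ • (T : Subgroup G)
      exact ⟨_, hz, by show g⁻¹ * (g * z * g⁻¹) * g⁻¹⁻¹ = z; group⟩
    exact (sylow_eq T hTI P _ (Invol.ne_one_of_orderOf_two hx) hP (aux x hg1)).trans
      (sylow_eq T hTI _ Q (Invol.ne_one_of_orderOf_two hy) (aux y hg2) hQ)
  have hsame : ∀ (x y : G) (P Q : Sylow 2 G), orderOf x = 2 → orderOf y = 2 → ¬ IsConj x y →
      x ∈ P → y ∈ Q → P = Q := by
    intro x y P Q hx hy hxy hP hQ
    obtain ⟨z, hz, hzx, hzy⟩ := Invol.exists_common_commuting hx hy hxy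
    obtain ⟨R, hR⟩ := hmemS z hz
    exact (hcomm x z P R hx hz hzx.symm hP hR).trans (hcomm z y R Q hz hy hzy hR hQ)
  obtain ⟨P, hP⟩ := hmemS s hs
  obtain ⟨Q, hQ⟩ := hmemS t ht
  have hfix : ∀ g : G, g • P = P := fun g => by
    have h1 : g • P = Q := hsame (g * s * g⁻¹) t _ Q (by rw [Invol.orderOf_conj_eq, hs]) ht
      (fun h => hnc ((isConj_iff.2 ⟨g, rfl⟩ : IsConj s (g * s * g⁻¹)).trans h))
      (show g * s * g⁻¹ ∈ MulAut.conj g • (P : Subgroup G) from ⟨s, hP, rfl⟩) hQ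
    rw [h1, hsame s t P Q hs ht hnc hP hQ]
  obtain ⟨a, ha⟩ := MulAction.exists_smul_eq G P T
  rw [hfix] at ha
  subst ha
  apply hnn
  exact Subgroup.normalizer_eq_top_iff.1 (top_le_iff.1 fun g _ => Sylow.smul_eq_iff_mem_normalizer.1 (hfix g))

end Cfsg.Agent.S0231
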