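import Cfsg.Statements.S0234
import Mathlib
import Cfsg.Agent.Lib.Invol.BrauerFowler
import Cfsg.Agent.S0219
import Cfsg.Agent.S0228

set_option autoImplicit false
open Cfsg

namespace Cfsg.Agent.S0234

/-- In a finite simple group G of even order greater than 2, the number n of involutions satisfies 3n < |G|. -/
theorem result {G : Type*} [Group G] [Finite G] [IsSimpleGroup G] (heven : Even (Nat.card G)) (hgt : 2 < Nat.card G) : 3 * Nat.card {t : G // orderOf t = 2} < Nat.card G := by
  classical
  by_contra hcon
  have hnc : ¬ (Subgroup.center G = ⊤) := by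
    intro h
    letI : CommGroup G :=
      { (inferInstance : Group G) with
        mul_comm := fun a b => (Subgroup.mem_center_iff.1 (h ▸ Subgroup.mem_top b) a) }
    have hp := (IsSimpleGroup.prime_card (α := G))
    have := (Nat.prime_dvd_prime_iff_eq Nat.prime_two hp).1 (even_iff_two_dvd.1 heven)
    omega
  have hsimp : ∀ N : Subgroup G, N.Normal → N = ⊥ ∨ N = ⊤ :=
    fun N hN => IsSimpleGroup.eq_bot_or_eq_top_of_normal N hN
  have hc : Subgroup.center G = ⊥ := ((hsimp _ inferInstance).resolve_right hnc)
  have hno2 : ∀ H : Subgroup G, H.index ≠ 2 := by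
    intro H hH
    rcases hsimp H (Subgroup.normal_of_index_eq_two hH) with h | h
    · rw [h, Subgroup.index_bot] at hH
      omega
    · rw [h, Subgroup.index_top] at hH
      omega
  obtain ⟨H, hH, h2 | hb⟩ := Invol.exists_small_index heven (by rw [hc, Subgroup.card_bot]; exact odd_one)
  · exact hno2 H h2
  generalize hn : Nat.card {t : G // orderOf t = 2} = n at hcon hb
  have hidx : H.index ≤ 5 := by
    by_contra h5
    have h6 : 12 * n ^ 2 ≤ 2 * H.index * n ^ 2 := Nat.mul_le_mul_right _ (by omega)
    have h12 : Nat.card G * (Nat.card G + n) ≤ (3 * n) * (3 * n + n) :=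
      Nat.mul_le_mul (by omega) (by omega)
    nlinarith
  haveI := Fintype.ofFinite (G ⧸ H)
  obtain ⟨e⟩ : Nonempty ((G ⧸ H) ↪ Fin 5) := Function.Embedding.nonempty_of_card_le (by
    rw [Fintype.card_fin, ← Nat.card_eq_fintype_card, ← Subgroup.index_eq_card]; exact hidx)
  let φ : G →* Equiv.Perm (Fin 5) :=
    (Equiv.Perm.viaEmbeddingHom e).comp (MulAction.toPermHom G (G ⧸ H))
  have hne : φ.ker = ⊥ := by
    refine (hsimp _ inferInstance).resolve_right fun h => hH ?_
    refine eq_top_iff.2 fun g _ => ?_
    have hg : g ∈ φ.ker := h ▸ Subgroup.mem_top g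
    have h1 : MulAction.toPermHom G (G ⧸ H) g = 1 :=
      Equiv.Perm.viaEmbeddingHom_injective e (by rw [map_one]; exact hg)
    have := congrArg (fun σ : Equiv.Perm (G ⧸ H) => σ ((1 : G) : G ⧸ H)) h1
    have h' : ((g * 1 : G) : G ⧸ H) = ((1 : G) : G ⧸ H) := this
    rw [QuotientGroup.eq] at h'
    simpa using h'
  have hsgn : (Equiv.Perm.sign.comp φ).ker = ⊤ := by
    refine (hsimp _ inferInstance).resolve_left fun h => ?_
    have hle : Nat.card G ≤ Nat.card ℤˣ :=
      Nat.card_le_card_of_injective _ ((MonoidHom.ker_eq_bot_iff _).1 h)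
    rw [Nat.card_eq_fintype_card (α := ℤˣ), Fintype.card_units_int] at hle
    omega
  let ψ : G →* alternatingGroup (Fin 5) := φ.codRestrict _ fun g => by
    have hg : g ∈ (Equiv.Perm.sign.comp φ).ker := hsgn ▸ Subgroup.mem_top g
    exact hg
  have hψ : Function.Injective ψ := fun a b h =>
    (MonoidHom.ker_eq_bot_iff φ).1 hne (congrArg Subtype.val h)
  have hn15 : n ≤ 15 := by
    have hA : Fintype.card {σ : alternatingGroup (Fin 5) // σ * σ = 1 ∧ σ ≠ 1} = 15 := by
      decide +kernel
    rw [← hA, ← hn, ← Nat.card_eq_fintype_card]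
    refine Nat.card_le_card_of_injective
      (Subtype.map ψ fun t (ht : orderOf t = 2) =>
        ⟨by rw [← map_mul, Invol.mul_self_of_orderOf_two ht, map_one],
          fun h => Invol.ne_one_of_orderOf_two ht (hψ (by rw [h, map_one]))⟩)
      (Subtype.map_injective _ hψ)
  have hdvd : Nat.card G ∣ 60 := by
    have := Subgroup.card_dvd_of_injective ψ hψ
    rwa [nat_card_alternatingGroup, Nat.card_fin] at this
  have hcases : Nat.card G = 4 ∨ Nat.card G = 6 ∨ Nat.card G = 10 ∨ Nat.card G = 12 ∨
      Nat.card G = 20 ∨ Nat.card G = 30 := by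
    have hle : Nat.card G ≤ 45 := by omega
    obtain ⟨r, hr⟩ := heven
    interval_cases h : Nat.card G <;> omega
  haveI : Fact (Nat.Prime 2) := ⟨Nat.prime_two⟩
  have hsyl : Nat.card G = 6 ∨ Nat.card G = 10 ∨ Nat.card G = 30 → False := by
    intro h
    let T : Sylow 2 G := default
    have hT : Nat.card T = 2 := by
      rw [T.card_eq_multiplicity]
      rcases h with h | h | h <;> rw [h]
      · rw [show (6 : ℕ) = 2 * 3 from rfl, Nat.factorization_mul (by norm_num) (by norm_num),
          Nat.Prime.factorization Nat.prime_two, Nat.Prime.factorization Nat.prime_three]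
        simp
      · rw [show (10 : ℕ) = 2 * 5 from rfl, Nat.factorization_mul (by norm_num) (by norm_num),
          Nat.Prime.factorization Nat.prime_two, Nat.Prime.factorization (by norm_num : (5 : ℕ).Prime)]
        simp
      · rw [show (30 : ℕ) = 2 * (3 * 5) from rfl, Nat.factorization_mul (by norm_num) (by norm_num),
          Nat.factorization_mul (by norm_num) (by norm_num),
          Nat.Prime.factorization Nat.prime_two, Nat.Prime.factorization Nat.prime_three,
          Nat.Prime.factorization (by norm_num : (5 : ℕ).Prime)]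
        simp
    obtain ⟨K, hK⟩ := S0219.result heven T (isCyclic_of_prime_card hT)
    exact hno2 K hK
  rcases hcases with h | h | h | h | h | h
  · apply hnc
    refine eq_top_iff.2 fun b _ => Subgroup.mem_center_iff.2 fun a => ?_
    exact IsPGroup.commutative_of_card_eq_prime_sq (p := 2) (by rw [h]; rfl) a b
  · exact hsyl (Or.inl h)
  · exact hsyl (Or.inr (Or.inl h))
  · obtain ⟨e⟩ := S0228.result h fun z hz hz' => by
      rw [hc, Subgroup.mem_bot] at hz'
      exact Invol.ne_one_of_orderOf_two hz hz'
    have hA : Fintype.card {σ : alternatingGroup (Fin 4) // σ * σ = 1 ∧ σ ≠ 1} = 3 := by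
      decide +kernel
    have : n ≤ 3 := by
      rw [← hA, ← hn, ← Nat.card_eq_fintype_card]
      refine Nat.card_le_card_of_injective
        (Subtype.map e fun t (ht : orderOf t = 2) =>
          ⟨by rw [← map_mul, Invol.mul_self_of_orderOf_two ht, map_one],
            fun h => Invol.ne_one_of_orderOf_two ht (e.injective (by rw [h, map_one]))⟩)
        (Subtype.map_injective _ e.injective)
    omega
  · haveI : Fact (Nat.Prime 5) := ⟨by norm_num⟩
    let T : Sylow 5 G := default
    have hT : Nat.card T = 5 := by
      rw [T.card_eq_multiplicity, h, show (20 : ℕ) = 5 * 2 ^ 2 from rfl,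
        Nat.factorization_mul (by norm_num) (by norm_num), Nat.Prime.factorization_pow Nat.prime_two,
        Nat.Prime.factorization (by norm_num : (5 : ℕ).Prime)]
      simp
    have hTi : (T : Subgroup G).index = 4 := by
      have := (T : Subgroup G).card_mul_index
      rw [show Nat.card (T : Subgroup G) = 5 from hT, h] at this
      omega
    have h1 := card_sylow_modEq_one 5 G
    have h2 := T.card_dvd_index
    rw [hTi] at h2
    have hle := Nat.le_of_dvd (by norm_num) h2
    have hnum : Nat.card (Sylow 5 G) = 1 := by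
      interval_cases hk : Nat.card (Sylow 5 G) <;> simp_all +decide [Nat.ModEq]
    have hnormal : (T : Subgroup G).Normal := by
      rw [T.card_eq_index_normalizer, Subgroup.index_eq_one] at hnum
      exact Subgroup.normalizer_eq_top_iff.1 hnum
    rcases hsimp _ hnormal with hb | ht
    · have : Nat.card (T : Subgroup G) = 1 := by rw [hb, Subgroup.card_bot]
      rw [show Nat.card (T : Subgroup G) = 5 from hT] at this
      omega
    · rw [ht, Subgroup.index_top] at hTi
      omega
  · exact hsyl (Or.inr (Or.inr h))

end Cfsg.Agent.S0234
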