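import Cfsg.Statements.S0239
import Mathlib
-- import your own Cfsg.Agent.* helpers here

set_option autoImplicit false
open Cfsg

namespace Cfsg.Agent.S0239

/-- If some nontrivial element x of a finite group G is conjugate to x⁻¹, then |G| is even. -/
theorem result {G : Type*} [Group G] [Finite G] (x : G) (hx : x ≠ 1) (hreal : IsConj x x⁻¹) : Even (Nat.card G) := by
  by_contra hodd
  rw [Nat.not_even_iff_odd] at hodd
  obtain ⟨g, hg⟩ := isConj_iff.1 hreal
  have hsq : (g ^ 2) * x * (g ^ 2)⁻¹ = x := by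
    have h2 : g * x⁻¹ * g⁻¹ = x := by
      have := congrArg (·⁻¹) hg
      simpa [mul_assoc] using this
    calc g ^ 2 * x * (g ^ 2)⁻¹ = g * (g * x * g⁻¹) * g⁻¹ := by simp [pow_two, mul_assoc]
      _ = x := by rw [hg, h2]
  have hc : Commute (g ^ 2) x := by
    calc g ^ 2 * x = (g ^ 2 * x * (g ^ 2)⁻¹) * g ^ 2 := by group
      _ = x * g ^ 2 := by rw [hsq]
  have hog : Odd (orderOf g) := hodd.of_dvd_nat (orderOf_dvd_natCard g)
  obtain ⟨k, hk⟩ := hog
  have hgg : (g ^ 2) ^ (k + 1) = g := by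
    rw [← pow_mul, show 2 * (k + 1) = orderOf g + 1 by omega, pow_succ, pow_orderOf_eq_one, one_mul]
  have hcg : Commute g x := hgg ▸ hc.pow_left (k + 1)
  have hxx : x⁻¹ = x := by
    rw [← hg, hcg.eq, mul_assoc, mul_inv_cancel, mul_one]
  have hx2 : orderOf x = 2 := orderOf_eq_prime (by rw [pow_two]; nth_rewrite 1 [← hxx]; group) hx
  have := orderOf_dvd_natCard x
  rw [hx2] at this
  exact (Nat.not_even_iff_odd.2 hodd) (even_iff_two_dvd.2 this)

end Cfsg.Agent.S0239
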