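import Cfsg.Statements.S0240
import Mathlib
import Cfsg.Agent.Lib.Invol.Basic

set_option autoImplicit false
open Cfsg

namespace Cfsg.Agent.S0240

/-- Let G be a finite group with n involutions and H a subgroup with |H|·(n+1) > |G|. Then some nontrivial h ∈ H is strongly real in G: an involution t of G satisfies t h t⁻¹ = h⁻¹. -/
theorem result {G : Type*} [Group G] [Finite G] (H : Subgroup G) (hH : Nat.card G < Nat.card H * (Nat.card {t : G // orderOf t = 2} + 1)) : ∃ h : G, h ∈ H ∧ h ≠ 1 ∧ ∃ t : G, orderOf t = 2 ∧ t * h * t⁻¹ = h⁻¹ := by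
  classical
  haveI := Fintype.ofFinite G
  haveI := Fintype.ofFinite (G ⧸ H)
  have hlt : Fintype.card (G ⧸ H) < Fintype.card {x : G // x * x = 1} := by
    rw [← Nat.card_eq_fintype_card, ← Nat.card_eq_fintype_card, Invol.card_sq_eq_one,
      ← Subgroup.index_eq_card]
    refine Nat.lt_of_mul_lt_mul_left (a := Nat.card H) ?_
    rwa [H.card_mul_index]
  obtain ⟨⟨u, hu⟩, ⟨v, hv⟩, hne, heq⟩ :=
    Fintype.exists_ne_map_eq_of_card_lt (fun x : {x : G // x * x = 1} => (x.1 : G ⧸ H)) hlt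
  have hmem : u⁻¹ * v ∈ H := QuotientGroup.eq.1 heq
  have hui : u⁻¹ = u := inv_eq_of_mul_eq_one_right hu
  have hvi : v⁻¹ = v := inv_eq_of_mul_eq_one_right hv
  rw [hui] at hmem
  have huv : u ≠ v := fun h => hne (Subtype.ext h)
  refine ⟨u * v, hmem, fun h => huv ?_, ?_⟩
  · rw [eq_inv_of_mul_eq_one_left h, hvi]
  · by_cases hu1 : u = 1
    · subst hu1
      exact ⟨v, Invol.orderOf_two_of_mul_self hv huv.symm, by simp [hvi, hv]⟩
    · refine ⟨u, Invol.orderOf_two_of_mul_self hu hu1, ?_⟩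
      rw [mul_inv_rev, hvi, hui, ← mul_assoc, hu, one_mul]

end Cfsg.Agent.S0240
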