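import Cfsg.Statements.S0241
import Mathlib
import Cfsg.Agent.Lib.Invol.Basic

set_option autoImplicit false
open Cfsg

namespace Cfsg.Agent.S0241

/-- If x ≠ 1 is conjugate to x⁻¹ in a finite group G and |C_G(x)| is odd, then some involution t satisfies t x t⁻¹ = x⁻¹. -/
theorem result {G : Type*} [Group G] [Finite G] (x : G) (hx : x ≠ 1) (hreal : IsConj x x⁻¹) (hodd : Odd (Nat.card (Subgroup.centralizer ({x} : Set G)))) : ∃ t : G, orderOf t = 2 ∧ t * x * t⁻¹ = x⁻¹ := by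
  have : Fact (Nat.Prime 2) := ⟨Nat.prime_two⟩
  obtain ⟨g, hg⟩ := isConj_iff.1 hreal
  let C := Subgroup.centralizer ({x} : Set G)
  have hxC : x ∈ C := Invol.mem_centralizer_singleton_iff'.2 (Commute.refl x)
  have hx2 : x⁻¹ ≠ x := fun h => Invol.not_mem_of_odd hodd
    (Invol.orderOf_two_of_mul_self (by nth_rewrite 1 [← h]; group) hx) hxC
  have hg2 : g ^ 2 ∈ C := Invol.mem_centralizer_singleton_iff'.2 (mul_inv_eq_iff_eq_mul.1 (by
    have h2 : g * x⁻¹ * g⁻¹ = x := by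
      have := congrArg (·⁻¹) hg
      simpa [mul_assoc] using this
    calc g ^ 2 * x * (g ^ 2)⁻¹ = g * (g * x * g⁻¹) * g⁻¹ := by simp [pow_two, mul_assoc]
      _ = x := by rw [hg, h2]))
  obtain ⟨k, hk⟩ : Odd (orderOf (g ^ 2)) := by
    have := orderOf_dvd_natCard (⟨g ^ 2, hg2⟩ : C)
    rw [← Subgroup.orderOf_coe] at this
    exact hodd.of_dvd_nat this
  have hconj : g ^ (2 * k + 1) * x * (g ^ (2 * k + 1))⁻¹ = x⁻¹ := by
    have hc : Commute (g ^ (2 * k)) x := by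
      rw [pow_mul]
      exact (Invol.mem_centralizer_singleton_iff'.1 hg2).pow_left k
    rw [pow_succ']
    calc g * g ^ (2 * k) * x * (g * g ^ (2 * k))⁻¹
        = g * (g ^ (2 * k) * x * (g ^ (2 * k))⁻¹) * g⁻¹ := by group
      _ = x⁻¹ := by rw [hc.eq, mul_inv_cancel_right, hg]
  refine ⟨g ^ (2 * k + 1), Invol.orderOf_two_of_mul_self ?_ ?_, hconj⟩
  · rw [← pow_add, ← two_mul, pow_mul, ← hk, pow_orderOf_eq_one]
  · intro h
    rw [h] at hconj
    simp at hconj
    exact hx2 hconj.symm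

end Cfsg.Agent.S0241
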