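import Cfsg.Statements.S0258
import Cfsg.Agent.Lib.GL.Sylow
-- import your own Cfsg.Agent.* helpers here

set_option autoImplicit false
open Cfsg

namespace Cfsg.Agent.S0258

/-- GL_2(q), q a power of the prime p, has exactly q + 1 Sylow p-subgroups. -/
theorem result {F : Type*} [Field F] [Fintype F] {q : ℕ} (hF : Fintype.card F = q) (p : ℕ) [Fact p.Prime] [CharP F p] : Nat.card (Sylow p (Matrix.GeneralLinearGroup (Fin 2) F)) = q + 1 := by
  subst hF
  have h := GL.card_sylow_GL_mul (F := F) (n := 2) p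
  rw [GL.card_GL2] at h
  have hq := Fintype.one_lt_card (α := F)
  generalize Fintype.card F = q at h hq ⊢
  obtain ⟨k, rfl⟩ : ∃ k, q = k + 1 := ⟨q - 1, by omega⟩
  have e : (k + 1) ^ 2 - 1 = k * (k + 2) := by
    apply Nat.sub_eq_of_eq_add
    ring
  rw [show (2 * (2 - 1) / 2 : ℕ) = 1 from rfl, pow_one, Nat.add_sub_cancel, e] at h
  refine Nat.eq_of_mul_eq_mul_right (show 0 < k ^ 2 * (k + 1) by
    have : 0 < k := by omega
    positivity) ?_
  rw [h]
  ring

end Cfsg.Agent.S0258
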