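import Cfsg.Statements.S0260
import Cfsg.Agent.Lib.GL.Two
-- import your own Cfsg.Agent.* helpers here

set_option autoImplicit false
open Cfsg

namespace Cfsg.Agent.S0260

/-- Any two distinct Sylow p-subgroups of SL_2(q), p the characteristic, generate SL_2(q). -/
theorem result {F : Type*} [Field F] [Fintype F] (p : ℕ) [Fact p.Prime] [CharP F p] (P Q : Sylow p (Matrix.SpecialLinearGroup (Fin 2) F)) (h : P ≠ Q) : (P : Subgroup (Matrix.SpecialLinearGroup (Fin 2) F)) ⊔ (Q : Subgroup (Matrix.SpecialLinearGroup (Fin 2) F)) = ⊤ := by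
  obtain ⟨g, hg⟩ := GL.exists_conj_unitriangularSL p P
  obtain ⟨k, hk⟩ := GL.exists_conj_unitriangularSL p Q
  have hc : ((g⁻¹ * k : Matrix.SpecialLinearGroup (Fin 2) F) : Matrix (Fin 2) (Fin 2) F) 1 0 ≠ 0 := by
    intro h0
    refine h (Sylow.ext ?_)
    have hn : g⁻¹ * k ∈ Subgroup.normalizer
        (GL.unitriangularSL 2 F : Set (Matrix.SpecialLinearGroup (Fin 2) F)) := by
      rw [GL.normalizer_unitriangularSL]
      exact GL.mem_borel_two.2 h0
    rw [hg, hk]
    ext x
    rw [Subgroup.mem_map_equiv, Subgroup.mem_map_equiv, Subgroup.mem_normalizer_iff.1 hn ((MulAut.conj k).symm x)]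
    simp only [MulAut.conj_symm_apply]
    group
  rw [hg, hk, show MulAut.conj k = MulAut.conj g * MulAut.conj (g⁻¹ * k) by
    rw [← map_mul, mul_inv_cancel_left]]
  have := congrArg (Subgroup.map (MulAut.conj g).toMonoidHom) (GL.SL2_sup_conj_eq_top hc)
  rw [Subgroup.map_sup, Subgroup.map_map, Subgroup.map_top_of_surjective _ (MulAut.conj g).surjective] at this
  exact this

end Cfsg.Agent.S0260
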