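import Cfsg.Statements.S0266
import Cfsg.Agent.Lib.GL.Two
-- import your own Cfsg.Agent.* helpers here

set_option autoImplicit false
open scoped MatrixGroups
open Cfsg

namespace Cfsg.Agent.S0266

/-- PGL_2(F) is sharply 3-transitive on the projective line: it is 3-transitive and the stabiliser of three distinct points is trivial. -/
theorem result {F : Type*} [Field F] : MulAction.IsMultiplyPretransitive (Matrix.ProjGenLinGroup (Fin 2) F) (Projectivization F (Fin 2 → F)) 3 ∧ ∀ (g : Matrix.ProjGenLinGroup (Fin 2) F) (a b c : Projectivization F (Fin 2 → F)), a ≠ b → a ≠ c → b ≠ c → g • a = a → g • b = b → g • c = c → g = 1 := by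
  refine ⟨MulAction.isMultiplyPretransitive_iff.2 fun {x y} => ?_, ?_⟩
  · obtain ⟨a, ha⟩ := GL.exists_GL2_map_stdPoint x x.injective
    obtain ⟨b, hb⟩ := GL.exists_GL2_map_stdPoint y y.injective
    refine ⟨Matrix.ProjGenLinGroup.mk (b * a⁻¹), DFunLike.ext _ _ fun i => ?_⟩
    show Matrix.ProjGenLinGroup.mk (b * a⁻¹) • x i = y i
    rw [Matrix.ProjGenLinGroup.mk_smul, ← ha i, mul_smul, inv_smul_smul, hb i]
  · intro g a b c hab hac hbc ga gb gc
    induction g using Matrix.ProjGenLinGroup.induction_on with | _ g => ?_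
    have hinj : Function.Injective ![a, b, c] := by
      intro i j hij
      fin_cases i <;> fin_cases j <;> first | rfl | simp_all
    obtain ⟨k, hk⟩ := GL.exists_GL2_map_stdPoint ![a, b, c] hinj
    rw [Matrix.ProjGenLinGroup.mk_smul] at ga gb gc
    have hfix : ∀ i, g • ![a, b, c] i = ![a, b, c] i := by
      intro i
      fin_cases i <;> simpa
    have hcen : k⁻¹ * g * k ∈ Subgroup.center _ := GL.mem_center_of_fix_stdPoint fun i => by
      rw [mul_smul, mul_smul, hk, hfix, ← hk, inv_smul_smul]
    rw [Matrix.ProjGenLinGroup.mk_eq_one]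
    have := (Subgroup.Normal.conj_mem inferInstance _ hcen k)
    rwa [show k * (k⁻¹ * g * k) * k⁻¹ = g by group] at this

end Cfsg.Agent.S0266
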