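import Cfsg.Statements.S0267
import Cfsg.Agent.Lib.GL.Two
-- import your own Cfsg.Agent.* helpers here

set_option autoImplicit false
open Cfsg
open scoped MatrixGroups

namespace Cfsg.Agent.S0267

/-- SL_2(q) is 3-transitive on the q+1 points of the projective line if and only if q is even. -/
theorem result {F : Type*} [Field F] [Fintype F] : MulAction.IsMultiplyPretransitive (Matrix.SpecialLinearGroup (Fin 2) F) (Projectivization F (Fin 2 → F)) 3 ↔ ringChar F = 2 := by
  constructor
  · intro h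
    by_contra hp
    obtain ⟨u, hu⟩ := FiniteField.exists_nonsquare (F := F) hp
    have hu0 : u ≠ 0 := fun h0 => hu (h0 ▸ IsSquare.zero)
    let z : Fin 3 → Fin 2 → F := ![![1, 0], ![0, 1], ![u, 1]]
    have hz : ∀ i, z i ≠ 0 := by
      intro i h0
      have h1 := congrFun h0 0
      have h2 := congrFun h0 1
      fin_cases i <;> simp [z] at h1 h2
    have hzi : Function.Injective fun i => Projectivization.mk F (z i) (hz i) := by
      intro i j hij
      obtain ⟨c, hc⟩ := (Projectivization.mk_eq_mk_iff F _ _ _ _).1 hij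
      have h1 := congrFun hc 0
      have h2 := congrFun hc 1
      fin_cases i <;> fin_cases j <;> simp [z, Units.smul_def] at h1 h2 ⊢ <;> simp_all
    obtain ⟨g, hg⟩ := MulAction.isMultiplyPretransitive_iff.1 h
      (x := ⟨_, GL.stdPoint_injective (F := F)⟩) (y := ⟨_, hzi⟩)
    have e : ∀ i, ∃ c : Fˣ, c • z i = (g : Matrix (Fin 2) (Fin 2) F).mulVec (GL.stdPoint F i) := by
      intro i
      have := DFunLike.congr_fun hg i
      exact (Projectivization.mk_eq_mk_iff F _ _ _ _).1 this
    obtain ⟨a, ha⟩ := e 0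
    obtain ⟨b, hb⟩ := e 1
    obtain ⟨c, hc⟩ := e 2
    have a0 := congrFun ha 0
    have a1 := congrFun ha 1
    have b0 := congrFun hb 0
    have b1 := congrFun hb 1
    have c0 := congrFun hc 0
    have c1 := congrFun hc 1
    simp [z, GL.stdPoint, Matrix.mulVec, dotProduct, Fin.sum_univ_two, Units.smul_def] at a0 a1 b0 b1 c0 c1
    have hd : (g : Matrix (Fin 2) (Fin 2) F).det = 1 := g.2
    rw [Matrix.det_fin_two] at hd
    exact hu ⟨(c : F)⁻¹, by grind⟩
  · intro hp
    refine MulAction.isMultiplyPretransitive_iff.2 fun {x y} => ?_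
    obtain ⟨a, ha⟩ := GL.exists_GL2_map_stdPoint x x.injective
    obtain ⟨b, hb⟩ := GL.exists_GL2_map_stdPoint y y.injective
    obtain ⟨s, hs⟩ := FiniteField.isSquare_of_char_two hp (((b * a⁻¹ : GL (Fin 2) F) :
      Matrix (Fin 2) (Fin 2) F).det)
    set m := ((b * a⁻¹ : GL (Fin 2) F) : Matrix (Fin 2) (Fin 2) F) with hm
    have hs0 : s ≠ 0 := by
      rintro rfl
      exact Matrix.GeneralLinearGroup.det_ne_zero (b * a⁻¹) (hs.trans (mul_zero _))
    refine ⟨⟨s⁻¹ • m, by rw [Matrix.det_smul, hs, Fintype.card_fin]; field_simp⟩, DFunLike.ext _ _ fun i => ?_⟩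
    have hxy : (b * a⁻¹) • x i = y i := by rw [← ha i, mul_smul, inv_smul_smul, hb i]
    set k : Matrix.SpecialLinearGroup (Fin 2) F := ⟨s⁻¹ • m, _⟩
    show k • x i = y i
    rw [← hxy, ← (x i).mk_rep]
    refine (Projectivization.mk_eq_mk_iff F _ _ _ _).2 ⟨Units.mk0 s⁻¹ (inv_ne_zero hs0), ?_⟩
    exact (Matrix.smul_mulVec s⁻¹ m (x i).rep).symm

end Cfsg.Agent.S0267
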