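import Cfsg.Statements.S0268
import Cfsg.Agent.Lib.GL.Two
-- import your own Cfsg.Agent.* helpers here

set_option autoImplicit false
open Cfsg

namespace Cfsg.Agent.S0268

/-- For q odd, -1 is the unique involution of SL_2(q). -/
theorem result {F : Type*} [Field F] [Fintype F] (hF : Odd (Fintype.card F)) (g : Matrix.SpecialLinearGroup (Fin 2) F) (h1 : g ≠ 1) (h2 : g * g = 1) : (g : Matrix (Fin 2) (Fin 2) F) = -1 := by
  have hinv : g⁻¹ = g := inv_eq_of_mul_eq_one_right h2
  have e : Matrix.adjugate (g : Matrix (Fin 2) (Fin 2) F) = (g : Matrix (Fin 2) (Fin 2) F) :=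
    (Matrix.SpecialLinearGroup.coe_inv g).symm.trans (congrArg Subtype.val hinv)
  rw [Matrix.adjugate_fin_two] at e
  have hd : (g : Matrix (Fin 2) (Fin 2) F).det = 1 := g.2
  rw [Matrix.det_fin_two] at hd
  have h2F : (2 : F) ≠ 0 := by
    apply Ring.two_ne_zero
    intro hc
    have := FiniteField.even_card_of_char_two hc
    rw [Nat.odd_iff] at hF
    omega
  have a := congrFun (congrFun e 0) 0
  have b := congrFun (congrFun e 0) 1
  have c := congrFun (congrFun e 1) 0
  simp at a b c
  have hb : g 0 1 = 0 := by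
    have : (2 : F) * g 0 1 = 0 := by linear_combination -b
    simpa [h2F] using this
  have hc : g 1 0 = 0 := by
    have : (2 : F) * g 1 0 = 0 := by linear_combination -c
    simpa [h2F] using this
  have hsq : g 0 0 * g 0 0 = 1 := by grind
  rcases mul_self_eq_one_iff.1 hsq with h0 | h0
  · exfalso
    refine h1 (Matrix.SpecialLinearGroup.ext _ _ fun i j => ?_)
    fin_cases i <;> fin_cases j <;> simp <;> grind
  · ext i j
    fin_cases i <;> fin_cases j <;> simp <;> grind

end Cfsg.Agent.S0268
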