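import Cfsg.Statements.S0271
import Cfsg.Agent.Lib.Forms.Symp

set_option autoImplicit false
open Cfsg

namespace Cfsg.Agent.S0271

/-- Sp_{2m}(F) is transitive on non-zero vectors. -/
theorem result {F : Type*} [Field F] (m : ℕ) (v w : Fin m ⊕ Fin m → F) (hv : v ≠ 0) (hw : w ≠ 0) : ∃ g : Matrix.symplecticGroup (Fin m) F, (g : Matrix (Fin m ⊕ Fin m) (Fin m ⊕ Fin m) F).mulVec v = w := by
  obtain ⟨A, hA⟩ := Forms.exists_symplectic_map (v := fun _ : Unit => v) (w := fun _ : Unit => w)
    (linearIndependent_unique_iff.2 hv) (linearIndependent_unique_iff.2 hw) (fun _ _ => by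
      have hz : ∀ x : Fin m ⊕ Fin m → F, sympForm m F x x = 0 := fun x => by
        rw [← Forms.sympB_apply]; exact Forms.sympB_isAlt m x
      rw [hz, hz])
  exact ⟨A, hA ()⟩

end Cfsg.Agent.S0271
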