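import Cfsg.Statements.S0273
import Cfsg.Agent.Lib.GL.Two
-- import your own Cfsg.Agent.* helpers here

set_option autoImplicit false
open Cfsg

namespace Cfsg.Agent.S0273

/-- In GL_2(q) the centraliser of a non-trivial element of a Sylow p-subgroup (p the characteristic) has order q (q-1): the Sylow subgroup times the scalars. -/
theorem result {F : Type*} [Field F] [Fintype F] {q : ℕ} (hF : Fintype.card F = q) (p : ℕ) [Fact p.Prime] [CharP F p] (P : Sylow p (Matrix.GeneralLinearGroup (Fin 2) F)) (a : Matrix.GeneralLinearGroup (Fin 2) F) (ha : a ∈ P) (ha1 : a ≠ 1) : Nat.card (Subgroup.centralizer ({a} : Set (Matrix.GeneralLinearGroup (Fin 2) F))) = q * (q - 1) := by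
  subst hF
  obtain ⟨g, hg⟩ := GL.exists_conj_unitriangular p P
  have ha : a ∈ (P : Subgroup (Matrix.GeneralLinearGroup (Fin 2) F)) := ha
  rw [hg] at ha
  obtain ⟨u, hu, rfl⟩ := ha
  have hu1 : u ≠ 1 := fun h => ha1 (by rw [h, map_one])
  have e : Subgroup.centralizer ({(MulAut.conj g) u} : Set (Matrix.GeneralLinearGroup (Fin 2) F)) =
      (Subgroup.centralizer {u}).map (MulAut.conj g).toMonoidHom := by
    ext x
    rw [Subgroup.mem_map_equiv, Subgroup.mem_centralizer_singleton_iff, Subgroup.mem_centralizer_singleton_iff,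
      ← (MulAut.conj g).symm.injective.eq_iff, map_mul, map_mul, MulEquiv.symm_apply_apply]
  rw [MulEquiv.coe_toMonoidHom, e, Subgroup.card_map_of_injective (MulAut.conj g).injective,
    GL.card_centralizer_transvection_two _ (GL.unitriangular_two_ne_one hu hu1) u
      (GL.unitriangular_two_eq hu), GL.card_units_field, Nat.card_eq_fintype_card, mul_comm]

end Cfsg.Agent.S0273
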