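import Cfsg.Statements.S0275
import Cfsg.Agent.Lib.PSL2.TwoSylow
import Cfsg.Agent.Lib.PGroup.UniqueOrderP
-- import your own Cfsg.Agent.* helpers here

set_option autoImplicit false
open Cfsg

namespace Cfsg.Agent.S0275

/-- If p is odd and H is a subgroup of SL_2(q), q a power of p, with more than one Sylow p-subgroup, then the Sylow 2-subgroups of H are generalised quaternion. -/
theorem result {F : Type*} [Field F] [Fintype F] (p : ℕ) [Fact p.Prime] [CharP F p] (hp : p ≠ 2) (H : Subgroup (Matrix.SpecialLinearGroup (Fin 2) F)) (hH : 1 < Nat.card (Sylow p H)) (S : Sylow 2 H) : ∃ k : ℕ, 1 ≤ k ∧ Nonempty ((S : Subgroup H) ≃* QuaternionGroup (2 ^ k)) := by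
  have h2 : (2 : F) ≠ 0 := Cfsg.Agent.PSL2.two_ne_zero_of_charP hp
  haveI : Fact (Nat.Prime 2) := ⟨Nat.prime_two⟩
  obtain ⟨K, hK, ⟨e⟩⟩ := Cfsg.Agent.PSL2.exists_subgroup_mulEquiv hp H hH
  -- unique involution
  have huniq : ∀ X Y : Subgroup (S : Subgroup H), Nat.card X = 2 → Nat.card Y = 2 → X = Y := by
    have key : ∀ X : Subgroup (S : Subgroup H), Nat.card X = 2 →
        ∀ x : (S : Subgroup H), x ∈ X ↔ ((x : H) : Matrix.SpecialLinearGroup (Fin 2) F) = 1 ∨
          ((x : H) : Matrix.SpecialLinearGroup (Fin 2) F) = -1 := by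
      intro X hX x
      obtain ⟨⟨y, hy⟩, hy2⟩ := exists_prime_orderOf_dvd_card' (G := X) 2 (by rw [hX])
      have hy' : ((y : H) : Matrix.SpecialLinearGroup (Fin 2) F) = -1 := by
        refine Cfsg.Agent.PSL2.eq_neg_one_of_orderOf_eq_two h2 ?_
        rwa [Subgroup.orderOf_coe, Subgroup.orderOf_coe, ← Subgroup.orderOf_mk y hy]
      constructor
      · intro hx
        refine Cfsg.Agent.PSL2.eq_pm_of_mul_self_eq_one h2 ?_
        have h := pow_card_eq_one' (G := X) (x := ⟨x, hx⟩)
        rw [hX, pow_two] at h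
        exact congrArg (fun z : X => (((z : (S : Subgroup H)) : H) : Matrix.SpecialLinearGroup (Fin 2) F)) h
      · rintro (h | h)
        · rw [show x = 1 from Subtype.ext (Subtype.ext h)]; exact X.one_mem
        · rw [show x = y from Subtype.ext (Subtype.ext (h.trans hy'.symm))]; exact hy
    intro X Y hX hY
    ext x
    rw [key X hX, key Y hY]
  rcases Cfsg.Agent.PGroup.cyclic_or_quaternion_of_unique S.isPGroup' huniq with hc | ⟨-, n, hn, -, hiso⟩
  · exfalso
    -- a quaternion 2-subgroup of the copy of `SL(2, p)` lies in a conjugate of `S`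
    have h2p : (2 : ZMod p) ≠ 0 := Cfsg.Agent.PSL2.two_ne_zero_of_charP hp
    obtain ⟨T⟩ : Nonempty (Sylow 2 (Matrix.SpecialLinearGroup (Fin 2) (ZMod p))) := inferInstance
    obtain ⟨k, hk, -, ⟨eT⟩⟩ := Cfsg.Agent.PSL2.sylow_two_quaternion h2p T
    let f : QuaternionGroup (2 ^ k) →* H :=
      (Subgroup.inclusion hK).comp (e.symm.toMonoidHom.comp
        ((T : Subgroup _).subtype.comp eT.symm.toMonoidHom))
    have hf : Function.Injective f := (Subgroup.inclusion_injective hK).comp
      (e.symm.injective.comp ((Subgroup.subtype_injective _).comp eT.symm.injective))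
    have hfp : IsPGroup 2 f.range :=
      (T.isPGroup'.of_equiv eT).of_surjective f.rangeRestrict f.rangeRestrict_surjective
    obtain ⟨U, hU⟩ := hfp.exists_le_sylow
    have : IsCyclic (U : Subgroup H) := isCyclic_of_surjective _ (S.equiv U).surjective
    letI : CommGroup (U : Subgroup H) := IsCyclic.commGroup
    have hcomm : f (QuaternionGroup.a 1 * QuaternionGroup.xa 0) =
        f (QuaternionGroup.xa 0 * QuaternionGroup.a 1) := by
      rw [map_mul, map_mul]
      exact congrArg Subtype.val (mul_comm (⟨_, hU ⟨_, rfl⟩⟩ : (U : Subgroup H)) ⟨_, hU ⟨_, rfl⟩⟩)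
    have h := hf hcomm
    rw [QuaternionGroup.a_mul_xa, QuaternionGroup.xa_mul_a, QuaternionGroup.xa.injEq] at h
    haveI : NeZero (2 * 2 ^ k) := ⟨by positivity⟩
    have h2' : ((2 : ℕ) : ZMod (2 * 2 ^ k)) = 0 := by push_cast; linear_combination -h
    rw [ZMod.natCast_eq_zero_iff] at h2'
    have := Nat.le_of_dvd two_pos h2'
    have : 2 ≤ 2 ^ k := Nat.le_self_pow (by omega) 2
    omega
  · exact ⟨n, hn, hiso⟩

end Cfsg.Agent.S0275
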