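import Cfsg.Statements.S0276
import Cfsg.Agent.Lib.PSL2.Sylow

set_option autoImplicit false
open Cfsg

namespace Cfsg.Agent.S0276

/-- For q = 3 or 5 mod 8 the Sylow 2-subgroups of PSL_2(q) are elementary abelian of order 4. -/
theorem result {F : Type*} [Field F] [Fintype F] {q : ℕ} (hF : Fintype.card F = q) (hq : q % 8 = 3 ∨ q % 8 = 5) (P : Sylow 2 (Matrix.ProjectiveSpecialLinearGroup (Fin 2) F)) : IsKleinFour (P : Subgroup (Matrix.ProjectiveSpecialLinearGroup (Fin 2) F)) := by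
  have h2 : (2 : F) ≠ 0 := by rw [← Cfsg.Agent.PSL2.odd_card_iff, hF, Nat.odd_iff]; omega
  obtain ⟨k, hk, hc, ⟨e⟩⟩ := Cfsg.Agent.PSL2.sylow_two_dihedral h2 P
  have h4 := Cfsg.Agent.PSL2.card_sylow_two_psl (hF ▸ hq) P
  rw [h4] at hc
  obtain rfl : k = 1 := by
    rcases k with _ | _ | k
    · omega
    · rfl
    · simp [pow_succ] at hc; have := Nat.one_le_two_pow (n := k); omega
  exact ⟨h4, by rw [Monoid.exponent_eq_of_mulEquiv e, DihedralGroup.exponent]; rfl⟩

end Cfsg.Agent.S0276
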