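import Cfsg.Statements.S0289
import Cfsg.Agent.Lib.Forms.QuadOrder

set_option autoImplicit false
open Cfsg

namespace Cfsg.Agent.S0289

/-- The hyperbolic quadratic form on F^(2m), m at least 1, has q^(2m-1) + q^m - q^(m-1) zeros (that is, (q^m - 1)(q^(m-1) + 1) non-zero isotropic vectors). -/
theorem result {F : Type*} [Field F] [Fintype F] {q : ℕ} (hF : Fintype.card F = q) (m : ℕ) (hm : 1 ≤ m) : Nat.card {v : Fin m ⊕ Fin m → F // Cfsg.quadFormPlus m F v = 0} = q ^ (2 * m - 1) + q ^ m - q ^ (m - 1) := by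
  subst hF
  obtain ⟨k, rfl⟩ := Nat.exists_eq_add_of_le' hm
  rw [← Nat.card_congr (Equiv.subtypeEquivRight fun v => by rw [Forms.quadPlus_apply] :
    {v // Forms.quadPlus (k + 1) F v = 0} ≃ {v // quadFormPlus (k + 1) F v = 0}), Forms.card_quadPlus_zeros]
  simp only [Nat.add_sub_cancel, show 2 * (k + 1) - 1 = k + (k + 1) by omega]
  have hq : 1 ≤ Fintype.card F := Fintype.card_pos
  have h1 : 1 ≤ Fintype.card F ^ (k + 1) := Nat.one_le_pow _ _ hq
  have h2 : Fintype.card F ^ k ≤ Fintype.card F ^ (k + (k + 1)) + Fintype.card F ^ (k + 1) :=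
    le_add_left (Nat.pow_le_pow_right hq (Nat.le_succ k))
  zify [h1, h2]
  ring

end Cfsg.Agent.S0289
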