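import Cfsg.Statements.S0299
import Cfsg.Agent.Lib.Forms.ExcSL2
-- import your own Cfsg.Agent.* helpers here

set_option autoImplicit false
set_option maxHeartbeats 1000000
open Cfsg

open scoped Matrix MatrixGroups

namespace Cfsg.Agent.S0299

/-- PΩ^+_4(q) is isomorphic to PSL_2(q) x PSL_2(q) for q at least 3. -/
theorem result {F : Type*} [Field F] [Fintype F] (hF : 3 ≤ Fintype.card F) : Nonempty (Cfsg.POmega F (Cfsg.quadFormPlus 2 F) ≃* Matrix.ProjectiveSpecialLinearGroup (Fin 2) F × Matrix.ProjectiveSpecialLinearGroup (Fin 2) F) := by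
  classical
  rw [show quadFormPlus 2 F = ⇑(Forms.quadPlus 2 F) from (funext Forms.quadPlus_apply).symm]
  let L : (Fin 2 ⊕ Fin 2 → F) →ₗ[F] Matrix (Fin 2) (Fin 2) F :=
    { toFun := fun v => !![v (.inl 0), v (.inl 1); -(v (.inr 1)), v (.inr 0)]
      map_add' := fun u v => by ext a b; fin_cases a <;> fin_cases b <;> simp [add_comm]
      map_smul' := fun c v => by ext a b; fin_cases a <;> fin_cases b <;> simp }
  have hsur : ∀ M : Matrix (Fin 2) (Fin 2) F, ∃ v, L v = M := fun M =>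
    ⟨Sum.elim ![M 0 0, M 0 1] ![M 1 1, -(M 1 0)], by ext a b; fin_cases a <;> fin_cases b <;> simp [L]⟩
  have hL : Function.Injective L := fun u v h => by
    funext x
    rcases x with x | x <;> fin_cases x
    · simpa [L] using congrFun (congrFun h 0) 0
    · simpa [L] using congrFun (congrFun h 0) 1
    · simpa [L] using congrFun (congrFun h 1) 1
    · simpa [L] using congrFun (congrFun h 1) 0
  let A : SL(2, F) × SL(2, F) →* Module.End F (Matrix (Fin 2) (Fin 2) F) :=
    { toFun := fun g => (LinearMap.mulLeft F g.1.1).comp (LinearMap.mulRight F g.2.1ᵀ)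
      map_one' := LinearMap.ext fun M => by simp
      map_mul' := fun g h => LinearMap.ext fun M => by
        simp [Matrix.transpose_mul, mul_assoc] }
  have hA : ∀ g M, A g M = g.1.1 * M * g.2.1ᵀ := fun g M => (mul_assoc _ _ _).symm
  obtain ⟨ψ, hψ⟩ := Forms.exists_isometry_hom ⇑(Forms.quadPlus 2 F) (fun M : Matrix (Fin 2) (Fin 2) F => M.det) id
    Function.injective_id L hL (fun v => by
      rw [Forms.quadPlus_apply]
      simp [L, quadFormPlus, Matrix.det_fin_two, Fin.sum_univ_two]) A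
    (fun g v => (hsur _).imp fun _ h => h.symm)
    (fun g v => by
      show (A g (L v)).det = (L v).det
      rw [hA, Matrix.det_mul, Matrix.det_mul, Matrix.det_transpose, g.1.2, g.2.2, one_mul, mul_one])
  have hker : ∀ g ∈ ψ.ker, g ∈ Subgroup.center (SL(2, F) × SL(2, F)) ∧ g.1.1 0 0 * g.1.1 0 0 = 1 ∧
      g.1.1 = g.1.1 0 0 • (1 : Matrix (Fin 2) (Fin 2) F) ∧ g.2.1 = g.1.1 0 0 • (1 : Matrix (Fin 2) (Fin 2) F) := by
    intro g hg
    have hc : ∀ M, g.1.1 * M * g.2.1ᵀ = M := fun M => by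
      obtain ⟨v, rfl⟩ := hsur M
      rw [← hA]
      exact Forms.apply_eq_of_mem_ker hψ hg v
    have h1 : g.2.1ᵀ * g.1.1 = 1 := mul_eq_one_comm.1 (by simpa using hc 1)
    have hcomm : ∀ M, g.1.1 * M = M * g.1.1 := fun M => by
      conv_rhs => rw [← hc M]
      rw [mul_assoc, h1, mul_one]
    have e1 := hcomm !![0, 1; 0, 0]
    have h10 : g.1.1 1 0 = 0 := by
      simpa [Matrix.mul_apply, Fin.sum_univ_two, eq_comm] using congrFun (congrFun e1 0) 0
    have hd : g.1.1 0 0 = g.1.1 1 1 := by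
      simpa [Matrix.mul_apply, Fin.sum_univ_two] using congrFun (congrFun e1 0) 1
    have h01 : g.1.1 0 1 = 0 := by
      simpa [Matrix.mul_apply, Fin.sum_univ_two] using congrFun (congrFun (hcomm !![0, 0; 1, 0]) 0) 0
    obtain ⟨hz, hsq⟩ := Forms.sl2_mem_center h01 h10 hd
    have hg1 : g.1.1 = g.1.1 0 0 • (1 : Matrix (Fin 2) (Fin 2) F) := by
      ext a b
      fin_cases a <;> fin_cases b <;> simp [h01, h10, hd]
    generalize g.1.1 0 0 = c at hg1 hsq
    have hg2 : g.2.1 = c • (1 : Matrix (Fin 2) (Fin 2) F) := by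
      rw [hg1, mul_smul_comm, mul_one] at h1
      have h3 := congrArg (fun M => (c • M)ᵀ) h1
      simpa [smul_smul, hsq] using h3
    refine ⟨?_, hsq, hg1, hg2⟩
    rw [Subgroup.mem_center_iff]
    intro s
    refine Prod.ext (Subgroup.mem_center_iff.1 hz s.1) (Subtype.ext ?_)
    show s.2.1 * g.2.1 = g.2.1 * s.2.1
    rw [hg2, mul_smul_comm, smul_mul_assoc, one_mul, mul_one]
  let Φ : SL(2, F) × SL(2, F) →* Matrix.ProjectiveSpecialLinearGroup (Fin 2) F × Matrix.ProjectiveSpecialLinearGroup (Fin 2) F :=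
    (QuotientGroup.mk' _).prodMap (QuotientGroup.mk' _)
  have hΦ : Function.Surjective Φ :=
    Prod.map_surjective.2 ⟨QuotientGroup.mk'_surjective _, QuotientGroup.mk'_surjective _⟩
  have hΦk : Φ.ker = Subgroup.center (SL(2, F) × SL(2, F)) := by
    ext g
    rw [MonoidHom.mem_ker]
    show ((g.1 : SL(2, F) ⧸ Subgroup.center SL(2, F)), (g.2 : SL(2, F) ⧸ Subgroup.center SL(2, F))) = 1 ↔ _
    rw [Prod.mk_eq_one, QuotientGroup.eq_one_iff, QuotientGroup.eq_one_iff, Subgroup.mem_center_iff,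
      Subgroup.mem_center_iff, Subgroup.mem_center_iff]
    exact ⟨fun h s => Prod.ext (h.1 s.1) (h.2 s.2),
      fun h => ⟨fun s => congrArg Prod.fst (h (s, 1)), fun s => congrArg Prod.snd (h (1, s))⟩⟩
  let e : (SL(2, F) × SL(2, F)) ⧸ Subgroup.center (SL(2, F) × SL(2, F)) ≃*
      Matrix.ProjectiveSpecialLinearGroup (Fin 2) F × Matrix.ProjectiveSpecialLinearGroup (Fin 2) F :=
    (QuotientGroup.quotientMulEquivOfEq hΦk.symm).trans (QuotientGroup.quotientKerEquivOfSurjective Φ hΦ)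
  have hZ : Subgroup.center ((SL(2, F) × SL(2, F)) ⧸ Subgroup.center (SL(2, F) × SL(2, F))) = ⊥ := by
    rw [eq_bot_iff]
    intro x hx
    rw [Subgroup.mem_bot, ← e.map_eq_one_iff]
    have hc : ∀ y, y * e x = e x * y := fun y => by
      rw [← e.apply_symm_apply y, ← map_mul, ← map_mul, Subgroup.mem_center_iff.1 hx]
    exact Prod.ext
      (Subgroup.mem_bot.1 (Forms.center_psl2_eq_bot.le (Subgroup.mem_center_iff.2 fun y =>
        congrArg Prod.fst (hc (y, 1)))))
      (Subgroup.mem_bot.1 (Forms.center_psl2_eq_bot.le (Subgroup.mem_center_iff.2 fun y =>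
        congrArg Prod.snd (hc (1, y)))))
  have hQ := Forms.quadPlus_nondegenerate (F := F) 2
  have hn : 2 ≤ Fintype.card (Fin 2 ⊕ Fin 2) := by simp
  have hrange : ψ.range ≤ commutator _ := by
    rintro _ ⟨s, rfl⟩
    have h : ψ s = ψ.comp (MonoidHom.inl _ _) s.1 * ψ.comp (MonoidHom.inr _ _) s.2 := by
      simp [← map_mul]
    rw [h]
    exact mul_mem (Forms.sl2_range_le_omega _ hQ hn hF _ ⟨_, rfl⟩) (Forms.sl2_range_le_omega _ hQ hn hF _ ⟨_, rfl⟩)
  obtain ⟨e'⟩ := Forms.nonempty_equiv_commutator_quotient (k := Nat.card {c : F // c * c = 1}) ψ hrange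
    (fun g hg => (hker g hg).1)
    (Forms.card_le_sq_one _ (fun g => g.1.1 0 0)
      (fun a ha b hb h => Prod.ext (Subtype.ext (by rw [(hker a ha).2.2.1, (hker b hb).2.2.1]; exact congrArg (· • _) h))
        (Subtype.ext (by rw [(hker a ha).2.2.2, (hker b hb).2.2.2]; exact congrArg (· • _) h)))
      (fun g hg => (hker g hg).2.1))
    (Forms.omega_index_two_mul _ hQ hn (Or.inl (by omega))) (by
      rw [Nat.card_congr (Forms.isometryGroupEquivQ (Forms.quadPlus 2 F) fun _ => rfl).toEquiv,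
        Forms.card_isomQ_quadPlus 1, Nat.card_prod, GL.card_SL2]
      simp
      ring) hZ
  exact ⟨e'.trans e⟩

end Cfsg.Agent.S0299
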