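import Cfsg.Statements.S0301
import Cfsg.Agent.Lib.Forms.ExcCore
import Cfsg.Agent.Lib.Forms.Klein
import Cfsg.Agent.Lib.ClassicalSimple.SympMatrix
import Cfsg.Agent.Lib.GL.SympOrders
-- import your own Cfsg.Agent.* helpers here

set_option autoImplicit false
set_option maxHeartbeats 1000000
open Cfsg

open scoped Matrix MatrixGroups commutatorElement

namespace Cfsg.Agent.S0301

/-- PΩ_5(q) is isomorphic to PSp_4(q) for q odd. -/
theorem result {F : Type*} [Field F] [Fintype F] (hodd : Odd (Fintype.card F)) : Nonempty (Cfsg.POmega F (Cfsg.quadFormOdd 2 F) ≃* Cfsg.PSp 2 F) := by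
  classical
  have h2 : (2 : F) ≠ 0 := Forms.two_ne_zero_of_odd_card hodd
  have h3 : 3 ≤ Fintype.card F := by
    have := Fintype.one_lt_card (α := F)
    obtain ⟨k, hk⟩ := hodd
    omega
  have hperf : commutator (Matrix.symplecticGroup (Fin 2) F) = ⊤ :=
    ClassicalSimple.symplectic_commutator_eq_top (Or.inr (Or.inl ⟨rfl, h3⟩))
  rw [show quadFormOdd 2 F = ⇑(Forms.quadOdd 2 F) from (funext Forms.quadOdd_apply).symm]
  let e : Fin 4 ≃ Fin 2 ⊕ Fin 2 :=
    { toFun := ![.inl 0, .inr 0, .inl 1, .inr 1]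
      invFun := Sum.elim ![0, 2] ![1, 3]
      left_inv := fun x => by fin_cases x <;> rfl
      right_inv := fun x => by rcases x with x | x <;> fin_cases x <;> rfl }
  let φ0 : Matrix.symplecticGroup (Fin 2) F →* Matrix (Fin 4) (Fin 4) F :=
    (Matrix.reindexAlgEquiv F F e.symm).toMonoidHom.comp (Matrix.symplecticGroup (Fin 2) F).subtype
  have hdet : ∀ g, (φ0 g).det = 1 := fun g => by
    let d : Matrix.symplecticGroup (Fin 2) F →* Fˣ := (Matrix.detMonoidHom.comp φ0).toHomUnits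
    have hd : d.ker = ⊤ := by
      rw [eq_top_iff, ← hperf, commutator_def, Subgroup.commutator_le]
      intro a _ b _
      rw [MonoidHom.mem_ker, map_commutatorElement, commutatorElement_eq_one_iff_mul_comm]
      exact mul_comm _ _
    exact congrArg Units.val (hd.ge (Subgroup.mem_top g) : d g = 1)
  let φ : Matrix.symplecticGroup (Fin 2) F →* SL(4, F) :=
    { toFun := fun g => ⟨φ0 g, hdet g⟩
      map_one' := Subtype.ext (map_one φ0)
      map_mul' := fun g h => Subtype.ext (map_mul φ0 g h) }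
  have hJ : Forms.alt4 (-1 : F) 0 0 0 0 (-1) = Matrix.reindexAlgEquiv F F e.symm (Matrix.J (Fin 2) F) := by
    ext i j
    fin_cases i <;> fin_cases j <;> simp [Forms.alt4, e, Matrix.J]
  have hfixJ : ∀ g, (φ g).1 * Forms.alt4 (-1 : F) 0 0 0 0 (-1) * (φ g).1ᵀ = Forms.alt4 (-1 : F) 0 0 0 0 (-1) := by
    intro g
    have h := congrArg (Matrix.reindexAlgEquiv F F e.symm) (SymplecticGroup.mem_iff.1 g.2)
    rw [map_mul, map_mul, ← hJ] at h
    exact h
  let L : (Unit ⊕ (Fin 2 ⊕ Fin 2) → F) →ₗ[F] Matrix (Fin 4) (Fin 4) F :=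
    { toFun := fun v => Forms.alt4 (v (.inl ())) (v (.inr (.inl 0))) (v (.inr (.inl 1))) (-(v (.inr (.inr 1))))
        (v (.inr (.inr 0))) (-(v (.inl ())))
      map_add' := fun u v => by ext i j; fin_cases i <;> fin_cases j <;> simp [Forms.alt4] <;> ring
      map_smul' := fun c v => by ext i j; fin_cases i <;> fin_cases j <;> simp [Forms.alt4] }
  have hL : Function.Injective L := fun u v h => by
    funext x
    rcases x with x | x | x
    · simpa [L, Forms.alt4] using congrFun (congrFun h 0) 1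
    · fin_cases x
      · simpa [L, Forms.alt4] using congrFun (congrFun h 0) 2
      · simpa [L, Forms.alt4] using congrFun (congrFun h 0) 3
    · fin_cases x
      · simpa [L, Forms.alt4] using congrFun (congrFun h 1) 3
      · simpa [L, Forms.alt4] using congrFun (congrFun h 1) 2
  have hrange : ∀ M, Forms.IsAlt4 M → M 0 1 + M 2 3 = 0 → ∃ v, M = L v := fun M hM h0 => by
    refine ⟨Sum.elim (fun _ => M 0 1) (Sum.elim ![M 0 2, M 0 3] ![M 1 3, -(M 1 2)]), ?_⟩
    conv_lhs => rw [hM.eq_alt4, eq_neg_of_add_eq_zero_right h0]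
    simp [L]
  have halt : ∀ v, Forms.IsAlt4 (L v) := fun v => Forms.isAlt4_alt4 _ _ _ _ _ _
  let A : Matrix.symplecticGroup (Fin 2) F →* Module.End F (Matrix (Fin 4) (Fin 4) F) :=
    (Forms.congrAction (F := F) (RingHom.id F)).comp φ0
  have hA : ∀ g M, A g M = (φ g).1 * M * (φ g).1ᵀ := fun g M =>
    (Forms.congrAction_apply (RingHom.id F) (φ0 g) M).trans (by show φ0 g * M * ((φ0 g).map id)ᵀ = φ0 g * M * (φ0 g)ᵀ; rw [Matrix.map_id])
  obtain ⟨ψ, hψ⟩ := Forms.exists_isometry_hom ⇑(Forms.quadOdd 2 F) (fun M => -Forms.pf M) id Function.injective_id L hL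
    (fun v => by
      rw [Forms.quadOdd_apply]
      simp [L, quadFormOdd, Forms.pf, Forms.alt4, Fin.sum_univ_two]
      ring) A
    (fun g v => by
      have hM := (halt v).conj (φ g).1
      rw [hA]
      refine hrange _ hM ?_
      have hs : ∀ N : Matrix (Fin 4) (Fin 4) F,
          Forms.pf (N + Forms.alt4 (-1) 0 0 0 0 (-1)) = Forms.pf N + 1 - (N 0 1 + N 2 3) := fun N => by
        simp [Forms.pf, Forms.alt4]
        ring
      have hsum : Forms.IsAlt4 (L v + Forms.alt4 (-1) 0 0 0 0 (-1)) := by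
        obtain ⟨N, hN⟩ := halt v
        obtain ⟨N', hN'⟩ := Forms.isAlt4_alt4 (-1 : F) 0 0 0 0 (-1)
        exact ⟨N + N', by rw [hN, hN', Matrix.transpose_add, add_sub_add_comm]⟩
      have h1 := (Forms.pf_dual_conj (φ g) hsum).1
      rw [mul_add, add_mul, hfixJ, hs, hs, (Forms.pf_dual_conj (φ g) (halt v)).1] at h1
      have h0 : L v 0 1 + L v 2 3 = 0 := by simp [L, Forms.alt4]
      linear_combination -h1 + h0)
    (fun g v => by
      show -Forms.pf (A g (L v)) = -Forms.pf (L v)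
      rw [hA, (Forms.pf_dual_conj (φ g) (halt v)).1])
  have hker : ψ.ker ≤ Subgroup.center (Matrix.symplecticGroup (Fin 2) F) := by
    refine (ClassicalSimple.symplectic_normal_eq_top_or_le_center (Or.inr (Or.inl ⟨rfl, h3⟩)) ψ.ker).resolve_left
      fun h => ?_
    let v0 : Fin 2 ⊕ Fin 2 → F := Pi.single (.inl 0) 1
    have h1 := Forms.apply_eq_of_mem_ker hψ
      (h.ge (Subgroup.mem_top (⟨_, ClassicalSimple.sympTransvection_mem v0 1⟩ : Matrix.symplecticGroup (Fin 2) F)))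
      (Pi.single (.inr (.inr 1)) 1)
    rw [hA, show ∀ g, (φ g).1 = φ0 g from fun g => rfl] at h1
    rw [show φ0 (⟨_, ClassicalSimple.sympTransvection_mem v0 1⟩ : Matrix.symplecticGroup (Fin 2) F)
        = !![(1 : F), 1, 0, 0; 0, 1, 0, 0; 0, 0, 1, 0; 0, 0, 0, 1] by
      ext i j
      fin_cases i <;> fin_cases j <;>
        simp [φ0, e, v0, Cfsg.sympTransvection, Matrix.vecMulVec, Matrix.J]] at h1
    have h2 := congrFun (congrFun h1 0) 2
    simp [L, Forms.alt4, Matrix.mul_apply, Fin.sum_univ_four] at h2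
  have hscal : ∀ g ∈ ψ.ker, (g : Matrix (Fin 2 ⊕ Fin 2) (Fin 2 ⊕ Fin 2) F)
      = (g : Matrix (Fin 2 ⊕ Fin 2) (Fin 2 ⊕ Fin 2) F) (.inl 0) (.inl 0) • 1 ∧
      (g : Matrix (Fin 2 ⊕ Fin 2) (Fin 2 ⊕ Fin 2) F) (.inl 0) (.inl 0)
        * (g : Matrix (Fin 2 ⊕ Fin 2) (Fin 2 ⊕ Fin 2) F) (.inl 0) (.inl 0) = 1 := by
    intro g hg
    obtain ⟨c, hc⟩ := GL.symp_center_scalar g (hker hg)
    have hc0 : (g : Matrix (Fin 2 ⊕ Fin 2) (Fin 2 ⊕ Fin 2) F) (.inl 0) (.inl 0) = c := by simp [hc]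
    refine ⟨by rw [hc0, hc], ?_⟩
    rw [hc0]
    have h1 := Forms.apply_eq_of_mem_ker hψ hg (Pi.single (.inl ()) 1)
    rw [hA, show (φ g).1 = c • (1 : Matrix (Fin 4) (Fin 4) F) by
      show Matrix.reindexAlgEquiv F F e.symm (g : Matrix (Fin 2 ⊕ Fin 2) (Fin 2 ⊕ Fin 2) F) = _
      rw [hc, map_smul, map_one]] at h1
    simpa [L, Forms.alt4, smul_smul] using congrFun (congrFun h1 0) 1
  have hQ := Forms.quadOdd_nondegenerate h2 2
  refine Forms.nonempty_equiv_commutator_quotient (k := Nat.card {c : F // c * c = 1}) ψ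
    (Forms.range_le_commutator_of_perfect ψ hperf) hker
    (Forms.card_le_sq_one _ (fun g => (g : Matrix (Fin 2 ⊕ Fin 2) (Fin 2 ⊕ Fin 2) F) (.inl 0) (.inl 0))
      (fun a ha b hb e => Subtype.ext (by rw [(hscal a ha).1, (hscal b hb).1]; exact congrArg (· • _) e))
      (fun g hg => (hscal g hg).2))
    (Forms.omega_index_two_mul _ hQ (by simp) (Or.inr (by simp))) ?_
    (Forms.center_quotient_eq_bot_of_perfect hperf)
  rw [Nat.card_congr (Forms.isometryGroupEquivQ (Forms.quadOdd 2 F) fun _ => rfl).toEquiv,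
    Forms.card_isomQ_quadOdd h2, Forms.card_symplecticGroup]
  ring

end Cfsg.Agent.S0301
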