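import Cfsg.Statements.S0302
import Cfsg.Agent.Lib.Forms.ExcCore
import Cfsg.Agent.Lib.Forms.Klein
-- import your own Cfsg.Agent.* helpers here

set_option autoImplicit false
set_option maxHeartbeats 1000000
open Cfsg

open scoped Matrix MatrixGroups

namespace Cfsg.Agent.S0302

/-- PΩ^+_6(q) is isomorphic to PSL_4(q). -/
theorem result {F : Type*} [Field F] [Fintype F] : Nonempty (Cfsg.POmega F (Cfsg.quadFormPlus 3 F) ≃* Matrix.ProjectiveSpecialLinearGroup (Fin 4) F) := by
  classical
  rw [show quadFormPlus 3 F = ⇑(Forms.quadPlus 3 F) from (funext Forms.quadPlus_apply).symm]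
  let L : (Fin 3 ⊕ Fin 3 → F) →ₗ[F] Matrix (Fin 4) (Fin 4) F :=
    { toFun := fun v => Forms.alt4 (v (.inl 0)) (v (.inl 1)) (v (.inl 2)) (v (.inr 2)) (-(v (.inr 1))) (v (.inr 0))
      map_add' := fun u v => by ext i j; fin_cases i <;> fin_cases j <;> simp [Forms.alt4] <;> ring
      map_smul' := fun c v => by ext i j; fin_cases i <;> fin_cases j <;> simp [Forms.alt4] }
  have hL : Function.Injective L := fun u v h => by
    funext x
    rcases x with x | x <;> fin_cases x
    · simpa [L, Forms.alt4] using congrFun (congrFun h 0) 1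
    · simpa [L, Forms.alt4] using congrFun (congrFun h 0) 2
    · simpa [L, Forms.alt4] using congrFun (congrFun h 0) 3
    · simpa [L, Forms.alt4] using congrFun (congrFun h 2) 3
    · simpa [L, Forms.alt4] using congrFun (congrFun h 1) 3
    · simpa [L, Forms.alt4] using congrFun (congrFun h 1) 2
  have hrange : ∀ M, Forms.IsAlt4 M → ∃ v, M = L v := fun M hM => by
    refine ⟨Sum.elim ![M 0 1, M 0 2, M 0 3] ![M 2 3, -(M 1 3), M 1 2], ?_⟩
    conv_lhs => rw [hM.eq_alt4]
    simp [L]
  have halt : ∀ v, Forms.IsAlt4 (L v) := fun v => Forms.isAlt4_alt4 _ _ _ _ _ _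
  let A : SL(4, F) →* Module.End F (Matrix (Fin 4) (Fin 4) F) :=
    (Forms.congrAction (F := F) (RingHom.id F)).comp Matrix.SpecialLinearGroup.coeMonoidHom
  have hA : ∀ (g : SL(4, F)) M, A g M = g.1 * M * g.1ᵀ := fun g M =>
    (Forms.congrAction_apply (RingHom.id F) g.1 M).trans (by simp)
  obtain ⟨ψ, hψ⟩ := Forms.exists_isometry_hom ⇑(Forms.quadPlus 3 F) Forms.pf id Function.injective_id L hL
    (fun v => by
      rw [Forms.quadPlus_apply]
      simp [L, quadFormPlus, Forms.pf, Forms.alt4, Fin.sum_univ_three]) A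
    (fun g v => hrange _ (by rw [hA]; exact (halt v).conj g.1))
    (fun g v => by rw [hA]; exact (Forms.pf_dual_conj g (halt v)).1)
  have hperf : commutator SL(4, F) = ⊤ := GL.SL_commutator_eq_top_of_three_le (by simp)
  haveI : IsSimpleGroup (SL(4, F) ⧸ Subgroup.center SL(4, F)) := GL.PSL_isSimpleGroup_of_three_le (by simp)
  have hker : ψ.ker ≤ Subgroup.center SL(4, F) := by
    refine (Forms.normal_eq_top_or_le_center_of_simple hperf ψ.ker).resolve_left fun h => ?_
    have h1 := Forms.apply_eq_of_mem_ker hψ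
      (h.ge (Subgroup.mem_top (Matrix.SpecialLinearGroup.transvection (i := (0 : Fin 4)) (j := 1) (by decide) (1 : F))))
      (Pi.single (.inr 2) 1)
    rw [hA] at h1
    have h2 := congrFun (congrFun h1 0) 2
    simp [L, Forms.alt4, Matrix.mul_apply, Fin.sum_univ_four, Matrix.SpecialLinearGroup.transvection_coe,
      Matrix.single_apply] at h2
  have hscal : ∀ g ∈ ψ.ker, g.1 = g.1 0 0 • (1 : Matrix (Fin 4) (Fin 4) F) ∧ g.1 0 0 * g.1 0 0 = 1 := by
    intro g hg
    have hsc : g.1 = g.1 0 0 • (1 : Matrix (Fin 4) (Fin 4) F) := by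
      rw [Matrix.smul_one_eq_diagonal]
      exact (Matrix.SpecialLinearGroup.scalar_eq_self_of_mem_center (hker hg) 0).symm
    have h1 := Forms.apply_eq_of_mem_ker hψ hg (Pi.single (.inl 0) 1)
    rw [hA] at h1
    generalize g.1 0 0 = c at hsc ⊢
    refine ⟨hsc, ?_⟩
    rw [hsc] at h1
    simpa [L, Forms.alt4, smul_smul] using congrFun (congrFun h1 0) 1
  have hQ := Forms.quadPlus_nondegenerate (F := F) 3
  refine Forms.nonempty_equiv_commutator_quotient (k := Nat.card {c : F // c * c = 1}) ψ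
    (Forms.range_le_commutator_of_perfect ψ hperf) hker
    (Forms.card_le_sq_one _ (fun g => g.1 0 0)
      (fun a ha b hb e => Subtype.ext (by rw [(hscal a ha).1, (hscal b hb).1]; exact congrArg (· • _) e))
      (fun g hg => (hscal g hg).2))
    (Forms.omega_index_two_mul _ hQ (by simp) (Or.inr (by simp))) ?_
    (Forms.center_quotient_eq_bot_of_perfect hperf)
  rw [Nat.card_congr (Forms.isometryGroupEquivQ (Forms.quadPlus 3 F) fun _ => rfl).toEquiv,
    Forms.card_isomQ_quadPlus 2, GL.card_SL_prod]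
  simp [Finset.prod_range_succ, Finset.prod_Ico_succ_top]
  ring

end Cfsg.Agent.S0302
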