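import Cfsg.Statements.S0307
import Cfsg.Agent.Lib.GL.Basic
-- import your own Cfsg.Agent.* helpers here

set_option autoImplicit false
open Cfsg
open scoped MatrixGroups

namespace Cfsg.Agent.S0307

/-- PSL_n(q) is normal in PGL_n(q) with cyclic quotient of order gcd(n, q-1): the image of the natural map PSL_n → PGL_n is the kernel of a surjective homomorphism onto the cyclic group of that order. -/
theorem result {F : Type*} [Field F] [Fintype F] {q : ℕ} (hF : Fintype.card F = q) (n : ℕ) (hn : 1 ≤ n) : ∃ g : Matrix.ProjGenLinGroup (Fin n) F →* Multiplicative (ZMod (Nat.gcd n (q - 1))), Function.Surjective g ∧ g.ker = (Matrix.ProjectiveSpecialLinearGroup.toPGL : Matrix.ProjectiveSpecialLinearGroup (Fin n) F →* Matrix.ProjGenLinGroup (Fin n) F).range := by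
  subst hF
  have : Nonempty (Fin n) := Fin.pos_iff_nonempty.1 hn
  let K : Subgroup Fˣ := (powMonoidHom n : Fˣ →* Fˣ).range
  let f : GL (Fin n) F →* Fˣ ⧸ K := (QuotientGroup.mk' K).comp Matrix.GeneralLinearGroup.det
  have hf : f.comp (Matrix.GeneralLinearGroup.scalar (Fin n)) = 1 := by
    ext u
    refine (QuotientGroup.eq_one_iff _).2 ⟨u, ?_⟩
    rw [Matrix.GeneralLinearGroup.det_scalar, Fintype.card_fin]
    rfl
  have hcard : Nat.card (Fˣ ⧸ K) = Nat.gcd n (Fintype.card F - 1) := by
    rw [← Subgroup.index, IsCyclic.index_powMonoidHom_range, GL.card_units_field, Nat.gcd_comm]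
  have hc : IsCyclic (Fˣ ⧸ K) :=
    isCyclic_of_surjective (QuotientGroup.mk' K) (QuotientGroup.mk'_surjective K)
  have e : Multiplicative (ZMod (Nat.gcd n (Fintype.card F - 1))) ≃* (Fˣ ⧸ K) :=
    hcard ▸ zmodCyclicMulEquiv hc
  refine ⟨e.symm.toMonoidHom.comp (Matrix.ProjGenLinGroup.lift f hf),
    e.symm.surjective.comp ?_, ?_⟩
  · intro x
    obtain ⟨u, rfl⟩ := QuotientGroup.mk'_surjective K x
    obtain ⟨g, rfl⟩ := Matrix.GeneralLinearGroup.det_surjective (n := Fin n) u
    exact ⟨Matrix.ProjGenLinGroup.mk g, by simp [f]⟩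
  · ext x
    induction x using Matrix.ProjGenLinGroup.induction_on with | _ g => ?_
    simp only [MonoidHom.mem_ker, MonoidHom.comp_apply, MulEquiv.coe_toMonoidHom,
      EmbeddingLike.map_eq_one_iff, Matrix.ProjGenLinGroup.lift_mk, MonoidHom.mem_range]
    constructor
    · intro hg
      obtain ⟨u, hu⟩ := (QuotientGroup.eq_one_iff _).1 hg
      have hker : (Matrix.GeneralLinearGroup.scalar (Fin n) u)⁻¹ * g ∈
          (Matrix.GeneralLinearGroup.det : GL (Fin n) F →* Fˣ).ker := by
        rw [MonoidHom.mem_ker, map_mul, map_inv, Matrix.GeneralLinearGroup.det_scalar,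
          Fintype.card_fin, ← hu]
        simp
      rw [GL.det_ker_eq_range_toGL] at hker
      obtain ⟨A, hA⟩ := hker
      refine ⟨QuotientGroup.mk A, ?_⟩
      rw [Matrix.ProjectiveSpecialLinearGroup.toPGL_mk, hA, map_mul, map_inv,
        Matrix.ProjGenLinGroup.mk_scalar, inv_one, one_mul]
    · rintro ⟨y, hy⟩
      obtain ⟨A, rfl⟩ := QuotientGroup.mk_surjective y
      rw [Matrix.ProjectiveSpecialLinearGroup.toPGL_mk] at hy
      rw [← Matrix.ProjGenLinGroup.lift_mk hf g, ← hy, Matrix.ProjGenLinGroup.lift_mk]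
      refine (QuotientGroup.eq_one_iff _).2 ⟨1, ?_⟩
      simp

end Cfsg.Agent.S0307
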