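import Cfsg.Statements.S0313
import Cfsg.Agent.Lib.BNPair.Basic

set_option autoImplicit false
open Cfsg

namespace Cfsg.Agent.S0313

/-- Two standard parabolic subgroups of a group with a (B,N)-pair which are conjugate in `G` coincide. -/
theorem result {G : Type*} [Group G] (P : Cfsg.BNPair G) {J K : Set G}
    (hJ : J ⊆ P.S) (hK : K ⊆ P.S) (g : G)
    (h : (P.parabolic J).map (MulAut.conj g).toMonoidHom = P.parabolic K) :
    P.parabolic J = P.parabolic K := by
  have hgK : g ∈ P.parabolic K := by
    refine BN.mem_of_conj_le' P (BN.B_le_parabolic P K) (fun b hb => ?_)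
    rw [← h]
    exact Subgroup.mem_map_of_mem _ (BN.B_le_parabolic P J hb)
  ext x
  constructor
  · intro hx
    have h1 : g * x * g⁻¹ ∈ P.parabolic K := by
      rw [← h]
      exact Subgroup.mem_map_of_mem _ hx
    have := Subgroup.mul_mem _ (Subgroup.mul_mem _ (Subgroup.inv_mem _ hgK) h1) hgK
    simpa [mul_assoc] using this
  · intro hx
    have h1 : g * x * g⁻¹ ∈ P.parabolic K :=
      Subgroup.mul_mem _ (Subgroup.mul_mem _ hgK hx) (Subgroup.inv_mem _ hgK)
    rw [← h] at h1
    obtain ⟨y, hy, hyx⟩ := Subgroup.mem_map.1 h1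
    simp at hyx
    exact hyx ▸ hy

end Cfsg.Agent.S0313
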