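import Cfsg.Statements.S0316
import Cfsg.Agent.Lib.BNPair.Basic

set_option autoImplicit false
open Cfsg

namespace Cfsg.Agent.S0316

/-- The map `J ↦ P_J` is a lattice isomorphism from the power set of the set of distinguished generators onto the
subgroups containing `B`. -/
theorem result {G : Type*} [Group G] (P : Cfsg.BNPair G) :
    ∃ e : Set P.S ≃o {M : Subgroup G // P.B ≤ M},
      ∀ J : Set P.S, ((e J : {M : Subgroup G // P.B ≤ M}) : Subgroup G) = P.parabolic (Subtype.val '' J) := by
  have hsub : ∀ J : Set P.S, Subtype.val '' J ⊆ P.S := fun J => by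
    rintro _ ⟨s, -, rfl⟩; exact s.2
  have hright : ∀ M : Subgroup G, P.B ≤ M →
      P.parabolic (Subtype.val '' {s : P.S | (s : G) ∈ M}) = M := by
    intro M hM
    conv_rhs => rw [BN.eq_parabolic_inter P hM]
    congr 1
    ext x
    exact ⟨fun ⟨s, hs, e⟩ => e ▸ ⟨s.2, hs⟩, fun ⟨h1, h2⟩ => ⟨⟨x, h1⟩, h2, rfl⟩⟩
  have hleft : ∀ (J : Set P.S) (s : P.S),
      (s : G) ∈ P.parabolic (Subtype.val '' J) ↔ s ∈ J := by
    intro J s
    rw [BN.mem_parabolic_iff_of_mem_S P (hsub J) s.2]
    exact Subtype.val_injective.mem_set_image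
  refine ⟨{ toFun := fun J => ⟨P.parabolic (Subtype.val '' J), BN.B_le_parabolic P _⟩
            invFun := fun M => {s | (s : G) ∈ M.1}
            left_inv := fun J => by ext s; exact hleft J s
            right_inv := fun M => Subtype.ext (hright M.1 M.2)
            map_rel_iff' := ?_ }, fun J => rfl⟩
  intro J K
  constructor
  · intro hle s hs
    exact (hleft K s).1 (hle ((hleft J s).2 hs))
  · intro hle
    have h : P.parabolic (Subtype.val '' J) ≤ P.parabolic (Subtype.val '' K) := by
      unfold BNPair.parabolic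
      exact sup_le_sup_left (Subgroup.closure_mono (Set.image_mono hle)) _
    exact h

end Cfsg.Agent.S0316
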