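import Cfsg.Statements.S0321
import Cfsg.Agent.Lib.BNPair.Basic

set_option autoImplicit false
open Cfsg

namespace Cfsg.Agent.S0321

/-- For `n ∈ N` not in `B`, the union `B ∪ B n B` is (the underlying set of) a subgroup exactly when `n` agrees
modulo `B ⊓ N` with one of the distinguished representatives; thus the distinguished involutions are
determined by `B` and `N`. -/
theorem result {G : Type*} [Group G] (P : Cfsg.BNPair G) {n : G}
    (hn : n ∈ P.N) (hnB : n ∉ P.B) :
    (∃ H : Subgroup G, (H : Set G) = (P.B : Set G) ∪ DoubleCoset.doubleCoset n (P.B : Set G) P.B) ↔ ∃ s ∈ P.S, s⁻¹ * n ∈ P.B := by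
  constructor
  · rintro ⟨H, hH⟩
    have hBH : P.B ≤ H := fun b hb => by
      rw [← SetLike.mem_coe, hH]; exact Or.inl hb
    have hnH : n ∈ H := by
      rw [← SetLike.mem_coe, hH]; exact Or.inr (DoubleCoset.mem_doubleCoset_self _ _ n)
    have he := BN.eq_parabolic_inter P hBH
    have hne : (P.S ∩ (H : Set G)).Nonempty := by
      rw [Set.nonempty_iff_ne_empty]
      intro hempty
      rw [hempty, BNPair.parabolic, Subgroup.closure_empty, sup_bot_eq] at he
      exact hnB (he ▸ hnH)
    obtain ⟨s, hsS, hsH⟩ := hne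
    rw [hH] at hsH
    rcases hsH with hsB | hsC
    · exact absurd hsB (BN.not_mem_B P hsS)
    · refine ⟨s, hsS, ?_⟩
      rw [← BN.cell_mk P ⟨n, hn⟩] at hsC
      have := BN.cell_disjoint P (BN.coe_mem_cell_refl P ⟨s, hsS⟩) hsC
      exact (BN.mk_eq_mk P).1 this
  · rintro ⟨s, hs, hsn⟩
    refine ⟨P.parabolic {s}, ?_⟩
    have hw : (QuotientGroup.mk (⟨n, hn⟩ : P.N) : BN.Weyl P) = BN.refl P ⟨s, hs⟩ :=
      ((BN.mk_eq_mk P).2 hsn).symm
    ext x
    rw [← BN.cell_mk P ⟨n, hn⟩, hw]
    constructor
    · intro hx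
      obtain ⟨l, hl, hxl⟩ := BN.exists_word_of_mem_parabolic P (Set.singleton_subset_iff.2 hs) hx
      obtain ⟨l', hl', hw', hlen⟩ :=
        BN.exists_reduced_sublist P (J := {⟨s, hs⟩}) l (fun t ht => Subtype.ext (Set.mem_singleton_iff.1 (hl t ht)))
      match l', hl', hw', hlen with
      | [], _, hw', _ =>
        left
        rw [← hw'] at hxl
        exact (BN.mem_cell_one P).1 hxl
      | [t], hl', hw', _ =>
        right
        rw [← hw', BN.word_singleton, show t = ⟨s, hs⟩ from hl' t List.mem_cons_self] at hxl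
        exact hxl
      | t :: t' :: r, hl', hw', hlen =>
        exfalso
        rw [← hw', show t = ⟨s, hs⟩ from hl' t List.mem_cons_self,
          show t' = ⟨s, hs⟩ from hl' t' (List.mem_cons_of_mem _ List.mem_cons_self),
          BN.word_cons, BN.word_cons, BN.refl_cancel_left] at hlen
        have := BN.len_word_le P r
        simp only [List.length_cons] at hlen
        omega
    · rintro (hx | hx)
      · exact BN.B_le_parabolic P _ hx
      · exact BN.cell_subset_parabolic P (l := [⟨s, hs⟩]) (by simp) (by simpa using hx)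

end Cfsg.Agent.S0321
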