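import Cfsg.Statements.S0322
import Cfsg.Agent.Lib.BNPair.Basic

set_option autoImplicit false
open Cfsg

namespace Cfsg.Agent.S0322

/-- A group with a (B,N)-pair of rank one acts doubly transitively on the left cosets of `B`. -/
theorem result {G : Type*} [Group G] (P : Cfsg.BNPair G) (h : P.rank = 1) : MulAction.IsMultiplyPretransitive G (G ⧸ P.B) 2 := by
  obtain ⟨hsub, hne⟩ := Nat.card_eq_one_iff_unique.1 h
  obtain ⟨s⟩ := hne
  have key : ∀ g : G, g ∉ P.B → ∃ b ∈ P.B, ∃ c ∈ P.B, g = b * (s : G) * c := by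
    intro g hg
    obtain ⟨w, hw⟩ := BN.exists_cell P g
    obtain ⟨l, rfl, hl⟩ := BN.exists_reduced P w
    match l, hl with
    | [], _ => exact absurd ((BN.mem_cell_one P).1 hw) hg
    | [t], _ =>
      rw [BN.word_singleton, Subsingleton.elim t s] at hw
      exact BN.exists_of_mem_cell P hw (BN.coe_mem_cell_refl P s)
    | t :: t' :: r, hl =>
      rw [BN.word_cons, BN.word_cons, Subsingleton.elim t t', BN.refl_cancel_left] at hl
      have := BN.len_word_le P r
      simp only [List.length_cons] at hl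
      omega
  rw [MulAction.is_two_pretransitive_iff]
  intro x₁ y₁ x₂ y₂ hxy₁ hxy₂
  suffices aux : ∀ x y : G ⧸ P.B, x ≠ y →
      ∃ g : G, g • ((1 : G) : G ⧸ P.B) = x ∧ g • ((s : G) : G ⧸ P.B) = y by
    obtain ⟨g, hg1, hg2⟩ := aux _ _ hxy₁
    obtain ⟨g', hg1', hg2'⟩ := aux _ _ hxy₂
    exact ⟨g' * g⁻¹, by rw [← hg1, mul_smul, inv_smul_smul, hg1'],
      by rw [← hg2, mul_smul, inv_smul_smul, hg2']⟩
  intro x y hne
  obtain ⟨a, rfl⟩ := QuotientGroup.mk_surjective x
  obtain ⟨d, rfl⟩ := QuotientGroup.mk_surjective y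
  have hd : a⁻¹ * d ∉ P.B := fun hh => hne (QuotientGroup.eq.2 hh)
  obtain ⟨b, hb, c, hc, he⟩ := key _ hd
  refine ⟨a * b, ?_, ?_⟩
  · rw [MulAction.Quotient.smul_coe, QuotientGroup.eq]
    simpa using hb
  · rw [MulAction.Quotient.smul_coe, QuotientGroup.eq, smul_eq_mul]
    have : (a * b * (s : G))⁻¹ * d = c := by
      rw [show d = a * (b * s * c) by rw [← he]; group]
      group
    rw [this]
    exact hc

end Cfsg.Agent.S0322
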