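import Cfsg.Statements.S0327
import Cfsg.Agent.Lib.Sz.Simple

set_option autoImplicit false
open Cfsg

namespace Cfsg.Agent.S0327

/-- The Suzuki group (`m ≥ 1`) is a Zassenhaus group on the `q² + 1` points of the Suzuki–Tits ovoid. -/
theorem result {F : Type*} [Field F] [Fintype F] {m : ℕ} (hm : 1 ≤ m)
    (hF : Fintype.card F = 2 ^ (2 * m + 1)) :
    Cfsg.IsZassenhausGroup (Cfsg.Sz F m) (Cfsg.suzukiOvoid F m) := by
  haveI := SZ.isSimple hm hF
  refine ⟨⟨fun {g h} e => ?_⟩, SZ.isMultiplyPretransitive hF, ?_, ?_, ?_⟩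
  · have key : ∀ p ∈ Cfsg.suzukiOvoid F m, (h⁻¹ * g).1 • p = p := by
      intro p hp
      have := congrArg Subtype.val (e ⟨p, hp⟩)
      change g.1 • p = h.1 • p at this
      rw [Subgroup.coe_mul, InvMemClass.coe_inv, mul_smul, this, inv_smul_smul]
    have := SZ.three_points hm hF (h⁻¹ * g).2 SZ.inf_mem (SZ.aff_mem 0 0) (SZ.aff_mem 0 1)
      (SZ.aff_ne_inf 0 0).symm (fun e => zero_ne_one (SZ.aff_inj e).2) (SZ.aff_ne_inf 0 1).symm
      (key _ SZ.inf_mem) (key _ (SZ.aff_mem 0 0)) (key _ (SZ.aff_mem 0 1))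
    exact (inv_mul_eq_one.1 (Subtype.ext this)).symm
  · intro g a b c hab hbc hac ga gb gc
    exact Subtype.ext (SZ.three_points hm hF g.2 a.2 b.2 c.2 (fun e => hab (Subtype.ext e))
      (fun e => hbc (Subtype.ext e)) (fun e => hac (Subtype.ext e))
      (congrArg Subtype.val ga) (congrArg Subtype.val gb) (congrArg Subtype.val gc))
  · obtain ⟨u, hu⟩ := SZ.exists_unit_ne_one hm hF
    refine ⟨SZ.hS hF u, fun e => hu (SZ.H_inj ((congrArg Subtype.val e).trans SZ.H_one.symm)),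
      ⟨_, SZ.inf_mem⟩, ⟨_, SZ.zero_mem⟩, fun e => ?_, Subtype.ext (SZ.H_smul_inf u),
      Subtype.ext (SZ.H_smul_zero u)⟩
    exact SZ.aff_ne_inf (m := m) (0 : F) 0 ((congrArg Subtype.val e).trans SZ.zero_eq_aff).symm
  · intro N hN htr
    rcases hN.eq_bot_or_eq_top with rfl | rfl
    · exfalso
      obtain ⟨n, hn⟩ := htr.exists_smul_eq ⟨_, SZ.inf_mem⟩ ⟨_, SZ.aff_mem (m := m) 0 0⟩
      obtain ⟨n, hn'⟩ := n
      obtain rfl := Subgroup.mem_bot.1 hn'
      have := congrArg Subtype.val hn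
      change (1 : Matrix.SpecialLinearGroup (Fin 4) F) • Cfsg.suzukiPointInfinity F = SZ.aff m 0 0 at this
      rw [one_smul] at this
      exact SZ.aff_ne_inf (m := m) (0 : F) 0 this.symm
    · refine ⟨⟨_, SZ.inf_mem⟩, fun h => ?_⟩
      obtain ⟨u, hu⟩ := SZ.exists_unit_ne_one hm hF
      have hmem : (⟨SZ.hS hF u, Subgroup.mem_top _⟩ : (⊤ : Subgroup (Cfsg.Sz F m))) ∈
          MulAction.stabilizer (⊤ : Subgroup (Cfsg.Sz F m))
            (⟨_, SZ.inf_mem⟩ : Cfsg.suzukiOvoid F m) := Subtype.ext (SZ.H_smul_inf u)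
      rw [h, Subgroup.mem_bot] at hmem
      exact hu (SZ.H_inj ((congrArg (fun g => g.1.1) hmem).trans SZ.H_one.symm))

end Cfsg.Agent.S0327
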