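import Cfsg.Statements.S0330
import Cfsg.Agent.Lib.Sz.Sylow

set_option autoImplicit false
open Cfsg

namespace Cfsg.Agent.S0330

/-- A Sylow 2-subgroup `P` of the Suzuki group (field with `q = 2^(2m+1)` elements, `m ≥ 1`) has order `q²` and
exponent `4`; its centre coincides with its commutator subgroup and has order `q`. -/
theorem result {F : Type*} [Field F] [Fintype F] {m : ℕ} (hm : 1 ≤ m)
    (hF : Fintype.card F = 2 ^ (2 * m + 1)) (P : Sylow 2 (Cfsg.Sz F m)) :
    Nat.card P = (2 ^ (2 * m + 1)) ^ 2 ∧ Monoid.exponent P = 4 ∧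
      Subgroup.center P = commutator P ∧ Nat.card (Subgroup.center P) = 2 ^ (2 * m + 1) := by
  obtain ⟨e⟩ := SZ.sylowEquiv hm hF P
  have hmc : (Subgroup.center (SZ.uGrp hF)).map e.toMonoidHom = Subgroup.center P := by
    ext x
    rw [Subgroup.mem_map_equiv, Subgroup.mem_center_iff, Subgroup.mem_center_iff]
    constructor
    · intro h y
      apply e.symm.injective
      rw [map_mul, map_mul, h]
    · intro h y
      apply e.injective
      rw [map_mul, map_mul, MulEquiv.apply_symm_apply, h]
  refine ⟨?_, ?_, ?_, ?_⟩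
  · rw [← Nat.card_congr e.toEquiv, SZ.card_uGrp, hF]
  · rw [← Monoid.exponent_eq_of_mulEquiv e, SZ.exponent_uGrp]
  · rw [← hmc, ← SZ.commutator_eq hm hF, commutator_def, Subgroup.map_commutator,
      Subgroup.map_top_of_surjective e.toMonoidHom e.surjective, ← commutator_def]
  · rw [← hmc, Subgroup.card_map_of_injective e.injective, SZ.card_center hm hF, hF]

end Cfsg.Agent.S0330
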