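import Cfsg.Statements.S0332
import Cfsg.Agent.Lib.Sz.Centralizers

set_option autoImplicit false
open Cfsg

namespace Cfsg.Agent.S0332

/-- The Suzuki group is a CN-group: every non-identity element has nilpotent centraliser. -/
theorem result {F : Type*} [Field F] [Fintype F] {m : ℕ} (hm : 1 ≤ m)
    (hF : Fintype.card F = 2 ^ (2 * m + 1)) : Cfsg.IsCNGroup (Cfsg.Sz F m) := by
  intro g hg
  obtain ⟨Up, Um, hpU, hnU, -, hcov⟩ := SZ.partition hm hF
  haveI : Fact (Nat.Prime 2) := ⟨Nat.prime_two⟩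
  obtain ⟨A, hA, hAnil⟩ : ∃ A : Subgroup (Cfsg.Sz F m), g ∈ SZ.conjSet A ∧
      ∀ a ∈ A, a ≠ 1 → Group.IsNilpotent (Subgroup.centralizer ({a} : Set (Cfsg.Sz F m))) := by
    have hcyc : ∀ A : Subgroup (Cfsg.Sz F m), IsCyclic A → Group.IsNilpotent A := fun A h => by
      haveI := h
      letI : CommGroup A := IsCyclic.commGroup
      infer_instance
    rcases hcov g hg with h | h | h | h
    · refine ⟨_, h, fun a ha ha1 => ?_⟩
      have hU : IsPGroup 2 (SZ.uGrp hF : Subgroup (Cfsg.Sz F m)) := (SZ.uSylow hm hF).isPGroup'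
      exact (hU.to_le (SZ.centralizer_uGrp_le hm hF ha ha1)).isNilpotent
    · exact ⟨_, h, fun a ha ha1 => by rw [SZ.centralizer_hS hm hF ha ha1]; exact hcyc _ (SZ.isCyclic_hGrp hF)⟩
    · exact ⟨_, h, fun a ha ha1 => by rw [hpU.cent a ha ha1]; exact hcyc _ hpU.cyclic⟩
    · exact ⟨_, h, fun a ha ha1 => by rw [hnU.cent a ha ha1]; exact hcyc _ hnU.cyclic⟩
  obtain ⟨-, x, hx⟩ := hA
  have ha1 : x⁻¹ * g * x ≠ 1 := fun e => hg (by
    calc g = x * (x⁻¹ * g * x) * x⁻¹ := by group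
      _ = 1 := by rw [e]; group)
  haveI := hAnil _ hx ha1
  let f : Subgroup.centralizer ({g} : Set (Cfsg.Sz F m)) →*
      Subgroup.centralizer ({x⁻¹ * g * x} : Set (Cfsg.Sz F m)) :=
    ((MulAut.conj x⁻¹).toMonoidHom.comp (Subgroup.subtype _)).codRestrict _ fun z => by
      have hz := Subgroup.mem_centralizer_singleton_iff.1 z.2
      rw [Subgroup.mem_centralizer_singleton_iff]
      show x⁻¹ * z.1 * x⁻¹⁻¹ * (x⁻¹ * g * x) = x⁻¹ * g * x * (x⁻¹ * z.1 * x⁻¹⁻¹)
      calc x⁻¹ * z.1 * x⁻¹⁻¹ * (x⁻¹ * g * x) = x⁻¹ * (z.1 * g) * x := by group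
        _ = x⁻¹ * (g * z.1) * x := by rw [hz]
        _ = _ := by group
  have hf : Function.Injective f := fun a b h => Subtype.ext
    ((MulAut.conj x⁻¹).injective (congrArg Subtype.val h))
  exact Group.nilpotent_of_mulEquiv (MonoidHom.ofInjective hf).symm

end Cfsg.Agent.S0332
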