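import Cfsg.Statements.S0335
import Cfsg.Agent.Lib.Sz.Stabilizer

set_option autoImplicit false
open Cfsg
open scoped Matrix

namespace Cfsg.Agent.S0335

/-- The Suzuki–Tits point set is an ovoid: any three distinct points of it are projectively independent
(no line of projective 3-space meets it in more than two points). -/
theorem result {F : Type*} [Field F] [Fintype F] {m : ℕ} (hm : 1 ≤ m)
    (hF : Fintype.card F = 2 ^ (2 * m + 1)) (p : Fin 3 ↪ Cfsg.suzukiOvoid F m) :
    Projectivization.Independent (fun i => (p i : Projectivization F (Fin 4 → F))) := by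
  have hne : ∀ i j, i ≠ j → (p i : Projectivization F (Fin 4 → F)) ≠ p j :=
    fun i j hij e => hij (p.injective (Subtype.ext e))
  obtain ⟨g, hg, g0, g1⟩ := SZ.exists_move hF (p 0).2 (p 1).2 (hne 0 1 (by decide))
  obtain ⟨x, y, hxy⟩ : ∃ x y, g • (p 2 : Projectivization F (Fin 4 → F)) = SZ.aff m x y := by
    rcases SZ.mem_ovoid_iff.1 (SZ.smul_mem hg (p 2).2) with h | h
    · exact absurd (MulAction.injective g (g0.trans h.symm)) (hne 0 2 (by decide))
    · exact h
  have hxy0 : ¬ (x = 0 ∧ y = 0) := by
    rintro ⟨rfl, rfl⟩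
    rw [← SZ.zero_eq_aff (m := m), ← g1] at hxy
    exact hne 2 1 (by decide) (MulAction.injective g hxy)
  let v : Fin 3 → Fin 4 → F := ![SZ.pInfV, SZ.pt m 0 0, SZ.pt m x y]
  have hv : LinearIndependent F v := by
    rw [Fintype.linearIndependent_iff]
    intro c hc
    have e0 := congrFun hc 0
    have e1 := congrFun hc 1
    have e2 := congrFun hc 2
    have e3 := congrFun hc 3
    simp [v, Fin.sum_univ_three, SZ.pInfV, SZ.pt, SZ.zf] at e0 e1 e2 e3
    have h2 : c 2 = 0 := by
      rcases e1 with h | h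
      · exact h
      rcases e2 with h' | h'
      · exact h'
      exact absurd ⟨h', h⟩ hxy0
    intro i
    fin_cases i <;> simp_all
  let f := Matrix.mulVecLin (g⁻¹).1
  have hf : LinearMap.ker f = ⊥ := LinearMap.ker_eq_bot'.2 fun w hw => by
    by_contra h0
    exact SZ.mulVec_ne g⁻¹ h0 hw
  have hw : ∀ i, f (v i) ≠ 0 := fun i => (hv.map' f hf).ne_zero i
  have he : (fun i => (p i : Projectivization F (Fin 4 → F))) =
      fun i => Projectivization.mk F (f (v i)) (hw i) := by
    funext i
    have hi : g • (p i : Projectivization F (Fin 4 → F)) =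
        Projectivization.mk F (v i) (hv.ne_zero i) := by
      fin_cases i
      · exact g0
      · exact g1.trans SZ.zero_eq_aff
      · exact hxy
    rw [eq_comm, ← smul_left_cancel_iff g, hi, SZ.smul_mk' _ _ _ (SZ.mulVec_ne _ (hw i)),
      Projectivization.mk_eq_mk_iff']
    refine ⟨1, ?_⟩
    rw [one_smul]
    show v i = g.1 *ᵥ ((g⁻¹).1 *ᵥ v i)
    rw [Matrix.mulVec_mulVec, ← SZ.val_mul, mul_inv_cancel, SZ.val_one, Matrix.one_mulVec]
  rw [he]
  exact Projectivization.Independent.mk _ hw (hv.map' f hf)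

end Cfsg.Agent.S0335
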