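import Mathlib
-- Template for statement S0339 (row 339; see /opt/grader/pristine/manifest.json for weights).
-- Copy to Cfsg/Agent/S0339.lean and replace the sorry. The statement below is byte-identical to the frozen
-- statement Cfsg.CfsgFrozen.S0339 (Cfsg/Statements/S0339.lean; the theorem Cfsg.zassenhaus_group_normal_subgroup);
-- the grader kernel-checks Cfsg.Agent.S0339.result against that frozen type. Keep the theorem IN THIS FILE
-- (a `result` declared elsewhere and merely imported here is not credited); helpers may live anywhere
-- under Cfsg/Agent/.
import Cfsg.Statements.S0339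
import Cfsg.Agent.Lib.Perm.ZassenhausNormal

set_option autoImplicit false
open Cfsg

namespace Cfsg.Agent.S0339

/-- A non-trivial normal subgroup of a Zassenhaus group is itself a Zassenhaus group on the same set. -/
theorem result {G Ω : Type*} [Group G] [MulAction G Ω] [Finite Ω]
    (hZ : Cfsg.IsZassenhausGroup G Ω) (N : Subgroup G) [N.Normal] (hN : N ≠ ⊥) :
    Cfsg.IsZassenhausGroup N Ω := by
  exact Cfsg.Agent.Perm.Zass.normal_isZassenhausGroup hZ N hN

end Cfsg.Agent.S0339
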