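import Cfsg.Statements.S0341
import Mathlib
import Cfsg.Agent.Lib.Perm.RegularNormal
import Cfsg.Agent.Lib.Perm.EndField
import Cfsg.Agent.Lib.CharInt.FrobeniusKernel
import Cfsg.Agent.Lib.Frobenius.Basic
import Cfsg.Agent.Lib.Frobenius.FixedPointFree
import Cfsg.Agent.Lib.PGroup.UniqueOrderP

set_option autoImplicit false
set_option linter.style.haveILetI false
open Cfsg

namespace Cfsg.Agent.S0341

open MulAction Cfsg.Agent.Perm in
/-- If a finite group acts faithfully and doubly transitively, no non-identity element fixes three points, some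
non-identity element fixes two points, and some normal subgroup acts regularly, then the number of points
is `2^p` with `p` prime. -/
theorem result {G Ω : Type*} [Group G]
    [MulAction G Ω] [Fintype Ω] [FaithfulSMul G Ω] (h2 : MulAction.IsMultiplyPretransitive G Ω 2)
    (h3 : ∀ g : G, ∀ a b c : Ω, a ≠ b → b ≠ c → a ≠ c → g • a = a → g • b = b → g • c = c → g = 1)
    (hfix : ∃ g : G, g ≠ 1 ∧ ∃ a b : Ω, a ≠ b ∧ g • a = a ∧ g • b = b)
    (N : Subgroup G) [N.Normal] (hNt : MulAction.IsPretransitive N Ω)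
    (hNr : ∀ a : Ω, MulAction.stabilizer N a = ⊥) :
    ∃ p : ℕ, p.Prime ∧ Fintype.card Ω = 2 ^ p := by
  classical
  obtain ⟨g₀, hg₀, a, b, hab, hga, hgb⟩ := hfix
  haveI : Nontrivial Ω := ⟨⟨a, b, hab⟩⟩
  haveI : Finite G := Finite.of_injective (fun g : G => (fun x : Ω => g • x)) fun g h e =>
    FaithfulSMul.eq_of_smul_eq_smul (α := Ω) fun x => congrFun e x
  haveI := hNt
  obtain ⟨r, m, hr, hm1, hcΩ, hcN, hNc, hNexp⟩ := regular_normal_elementary_abelian h2 hNr
  rw [Nat.card_eq_fintype_card] at hcΩ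
  have hN1 : ∀ x : N, x ≠ 1 → (x : G) • a ≠ a := fun x hx e => hx <| Subtype.ext <|
    stabilizer_subgroup_eq_bot_iff.1 (hNr a) x x.2 e
  obtain ⟨nb, hnb⟩ := exists_smul_eq N a b
  change (nb : G) • a = b at hnb
  have hnb1 : nb ≠ 1 := fun e => hab (by rw [← hnb, e, Subgroup.coe_one, one_smul])
  obtain rfl : r = 2 := by
    have hinvb : (nb : G)⁻¹ • a = b := by
      by_contra hne
      have hfix := fixes_inv_of_fixes (hNr a) hga nb.2 (by rw [hnb, hgb])
      refine hg₀ (h3 g₀ a b ((nb : G)⁻¹ • a) hab (Ne.symm hne) ?_ hga hgb hfix)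
      exact fun e => hN1 nb⁻¹ (inv_ne_one.2 hnb1) e.symm
    have hsq : (nb : G) ^ 2 = 1 := by
      have e1 := eq_of_smul_eq (hNr a) (N.inv_mem nb.2) nb.2 (hinvb.trans hnb.symm)
      nth_rewrite 1 [pow_two]
      nth_rewrite 1 [← e1]
      rw [inv_mul_cancel]
    haveI := Fact.mk hr
    have ho : orderOf (nb : G) = r :=
      orderOf_eq_prime (hNexp _ nb.2) fun e => hnb1 (Subtype.ext e)
    exact ((Nat.prime_dvd_prime_iff_eq hr Nat.prime_two).1 (ho ▸ orderOf_dvd_of_pow_eq_one hsq))
  have h3Ω : 3 ≤ Fintype.card Ω := by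
    obtain ⟨c, hc⟩ : ∃ c, c ≠ a ∧ c ≠ b := by
      by_contra h
      push Not at h
      exact hg₀ (FaithfulSMul.eq_of_smul_eq_smul (α := Ω) fun x => by
        rw [one_smul]
        rcases eq_or_ne x a with rfl | hx
        · exact hga
        · rw [h x hx, hgb])
    calc 3 = ({a, b, c} : Finset Ω).card := by simp [hab, hc.1.symm, hc.2.symm]
      _ ≤ Fintype.card Ω := Finset.card_le_univ _
  -- the point stabiliser and its Frobenius kernel
  set S := stabilizer G a with hS
  let E : Subgroup S := (stabilizer G b).subgroupOf S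
  have hE : ∀ s : S, s ∈ E ↔ (s : G) • b = b := fun s => Iff.rfl
  have hSmove : ∀ (s : S) (c : Ω), c ≠ a → (s : G) • c ≠ a := fun s c hc e =>
    hc (smul_left_cancel (s : G) (e.trans (s.2 : (s : G) • a = a).symm))
  have hStrans : ∀ c : Ω, c ≠ a → ∃ s : S, (s : G) • b = c := fun c hc =>
    let ⟨t, ht, htb⟩ := exists_stabilizer_smul_eq h2 hab.symm hc; ⟨⟨t, ht⟩, htb⟩
  have hF : Cfsg.IsFrobeniusComplement E := by
    refine ⟨fun h => ?_, fun h => ?_, fun g hg => ?_⟩
    · have : (⟨g₀, hga⟩ : S) ∈ E := hgb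
      rw [h, Subgroup.mem_bot] at this
      exact hg₀ (congrArg Subtype.val this)
    · obtain ⟨c, hca, hcb⟩ : ∃ c, c ≠ a ∧ c ≠ b := by
        obtain ⟨c, -, hc⟩ := Finset.exists_mem_notMem_of_card_lt_card (s := ({a, b} : Finset Ω))
          (t := Finset.univ) (by rw [Finset.card_pair hab, Finset.card_univ]; omega)
        simp at hc; exact ⟨c, hc⟩
      obtain ⟨s, hs⟩ := hStrans c hca
      exact hcb (hs.symm.trans (h ▸ Subgroup.mem_top s : s ∈ E))
    · rw [Subgroup.eq_bot_iff_forall]
      intro x hx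
      obtain ⟨hxb, hxg⟩ := Subgroup.mem_inf.1 hx
      rw [Subgroup.mem_pointwise_smul_iff_inv_smul_mem] at hxg
      have hxg' : ((g : G)⁻¹ * x * g) • b = b := by simpa [mul_assoc, hE] using hxg
      rw [mul_smul, mul_smul, inv_smul_eq_iff] at hxg'
      refine Subtype.ext (h3 (x : G) a b ((g : G) • b) hab ?_ ?_ x.2 hxb hxg')
      · exact fun e => hg e.symm
      · exact fun e => hSmove g b hab.symm e.symm
  obtain ⟨K, hKset, hKn, hKc⟩ := Cfsg.Agent.CharInt.exists_frobeniusKernel hF
  have hKmem : ∀ x : S, x ≠ 1 → (x ∈ K ↔ ∀ c : Ω, c ≠ a → (x : G) • c ≠ c) := by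
    intro x hx
    rw [← SetLike.mem_coe, hKset, Cfsg.Agent.Frobenius.mem_kernel_iff hx]
    constructor
    · intro hk c hca hc
      obtain ⟨s, rfl⟩ := hStrans c hca
      refine hk s ?_
      show ((s : G)⁻¹ * x * s) • b = b
      rw [mul_smul, mul_smul, hc, inv_smul_smul]
    · intro hk s hs
      have hs' : ((s : G)⁻¹ * x * s) • b = b := hs
      rw [mul_smul, mul_smul, inv_smul_eq_iff] at hs'
      exact hk _ (hSmove s b hab.symm) hs'
  have hKreg : ∀ c : Ω, c ≠ a → ∃ k : K, ((k : S) : G) • b = c := by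
    intro c hc
    obtain ⟨s, hs⟩ := hStrans c hc
    obtain ⟨⟨k, e⟩, hke⟩ := (Subgroup.isComplement_iff_existsUnique.1 hKc s).exists
    refine ⟨⟨k, k.2⟩, ?_⟩
    rw [← hs, ← hke, Subgroup.coe_mul, mul_smul, show ((e : S) : G) • b = b from e.2]
  letI : CommGroup N := { (inferInstance : Group N) with mul_comm := hNc.is_comm.comm }
  let act : S →* MulAut N := (MulAut.conjNormal : G →* MulAut N).comp S.subtype
  have hact : ∀ (s : S) (x : N), ((act s x : N) : G) • a = (s : G) • (x : G) • a := by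
    intro s x
    show ((MulAut.conjNormal (s : G) x : N) : G) • a = _
    rw [MulAut.conjNormal_apply]
    exact conj_smul_eq s.2 _
  have hNreach : ∀ c : Ω, ∃ x : N, (x : G) • a = c := fun c => exists_smul_eq N a c
  have hNinj : ∀ x y : N, (x : G) • a = (y : G) • a → x = y := fun x y e =>
    Subtype.ext (eq_of_smul_eq (hNr a) x.2 y.2 e)
  have hfpf : Cfsg.Agent.Frobenius.Fpf.IsFpf (act.comp K.subtype) := by
    intro k hk v hv
    by_contra hv1
    refine (hKmem (k : S) fun e => hk (Subtype.ext e)).1 k.2 _ (hN1 v hv1) ?_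
    rw [← hact]
    exact congrArg (fun w : N => (w : G) • a) hv
  haveI : Nontrivial N := ⟨⟨nb, 1, hnb1⟩⟩
  have hKcard : Nat.card K + 1 = 2 ^ m := by
    let f : Option K → N := fun o => o.elim 1 fun k => act k nb
    have hf : Function.Bijective f := by
      refine ⟨?_, fun x => ?_⟩
      · rintro (_ | k) (_ | k') h
        · rfl
        · exact absurd ((act (k' : S)).map_eq_one_iff.1 h.symm) hnb1
        · exact absurd ((act (k : S)).map_eq_one_iff.1 h) hnb1
        · refine congrArg some (inv_mul_eq_one.1 ?_)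
          by_contra hne
          refine hnb1 (hfpf (k⁻¹ * k') hne nb ?_)
          show act ((k : S)⁻¹ * (k' : S)) nb = nb
          rw [map_mul, MulAut.mul_apply, show act (k' : S) nb = act (k : S) nb from h.symm,
            ← MulAut.mul_apply, ← map_mul, inv_mul_cancel, map_one]
          rfl
      · rcases eq_or_ne x 1 with rfl | hx
        · exact ⟨none, rfl⟩
        obtain ⟨k, hk⟩ := hKreg _ (hN1 x hx)
        exact ⟨some k, hNinj _ _ (by
          show ((act (k : S) nb : N) : G) • a = _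
          rw [hact, hnb, hk])⟩
    rw [← hcN, ← Nat.card_congr (Equiv.ofBijective f hf), Finite.card_option]
  haveI hZg : IsZGroup K := by
    refine ⟨fun p hp P => ?_⟩
    haveI := Fact.mk hp
    rcases subsingleton_or_nontrivial P with hP | hP
    · exact isCyclic_of_subsingleton
    have hfP : Cfsg.Agent.Frobenius.Fpf.IsFpf
        ((act.comp K.subtype).comp (P : Subgroup K).subtype) := fun k hk v hv =>
      hfpf k (fun e => hk (Subtype.ext e)) v hv
    have huniq : ∀ X Y : Subgroup (P : Subgroup K), Nat.card X = p → Nat.card Y = p → X = Y :=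
      fun X Y hX hY => Cfsg.Agent.Frobenius.Fpf.eq_of_card_eq_prime hfP P.2 hX hY
    refine (Cfsg.Agent.PGroup.cyclic_or_quaternion_of_unique P.2 huniq).resolve_right fun hq => ?_
    obtain rfl : p = 2 := hq.1
    obtain ⟨k, hk⟩ := P.2.exists_card_eq
    have hk0 : k ≠ 0 := by
      rintro rfl
      rw [pow_zero] at hk
      exact (Finite.one_lt_card (α := P)).ne' hk
    have h2K : 2 ∣ Nat.card K :=
      (dvd_pow_self 2 hk0).trans (hk ▸ Subgroup.card_subgroup_dvd_card _)
    have h2m : 2 ∣ 2 ^ m := dvd_pow_self 2 (by omega)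
    omega
  -- the kernel is commutative
  have hKcomm : ∀ x y : K, x * y = y * x := by
    set C : Subgroup S := (commutator K).map K.subtype with hC
    haveI hCn : C.Normal := by rw [hC, Subgroup.map_subtype_commutator]; infer_instance
    haveI := IsZGroup.isCyclic_commutator (G := K)
    haveI : IsCyclic C :=
      ((commutator K).equivMapOfInjective K.subtype K.subtype_injective).isCyclic.1 inferInstance
    let ρ : S →* MulAut C := MulAut.conjNormal
    have hAc : ∀ u v : MulAut C, u * v = v * u := fun u v =>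
      (IsCyclic.mulAutMulEquiv C).injective (by rw [map_mul, map_mul]; exact mul_comm _ _)
    let s₀ : S := ⟨g₀, hga⟩
    let ψ : K → K := fun k => ⟨(k : S)⁻¹ * (s₀ * k * s₀⁻¹),
      K.mul_mem (K.inv_mem k.2) (hKn.conj_mem _ k.2 s₀)⟩
    have hψinj : Function.Injective ψ := by
      intro x y e
      have e' : (x : S)⁻¹ * (s₀ * x * s₀⁻¹) = (y : S)⁻¹ * (s₀ * y * s₀⁻¹) := congrArg Subtype.val e
      refine Subtype.ext (mul_inv_eq_one.1 ?_).symm
      set z := (y : S) * (x : S)⁻¹ with hz
      have hzK : z ∈ K := K.mul_mem y.2 (K.inv_mem x.2)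
      have hcz : s₀ * z * s₀⁻¹ = z := by
        rw [hz, show s₀ * ((y : S) * (x : S)⁻¹) * s₀⁻¹ =
          (y : S) * ((y : S)⁻¹ * (s₀ * y * s₀⁻¹)) * (s₀ * x * s₀⁻¹)⁻¹ by group, ← e']
        group
      by_contra hz1
      apply hg₀
      have hcz' : (g₀ : G) * z = z * g₀ := by
        have := congrArg Subtype.val (mul_inv_eq_iff_eq_mul.1 hcz)
        simpa [s₀] using this
      have hzb : (z : G) • b ≠ b := (hKmem z hz1).1 hzK b hab.symm
      exact h3 g₀ a b ((z : G) • b) hab hzb.symm (fun e => hSmove z b hab.symm e.symm) hga hgb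
        (by rw [← mul_smul, hcz', mul_smul, hgb])
    have hcent : commutator K ≤ Subgroup.center K := by
      intro c hc
      rw [Subgroup.mem_center_iff]
      intro k
      obtain ⟨x, rfl⟩ := Finite.surjective_of_injective hψinj k
      have h1 : ρ ((x : S)⁻¹ * (s₀ * x * s₀⁻¹)) = 1 := by
        simp only [map_mul, map_inv]
        rw [hAc (ρ s₀) (ρ x), mul_inv_cancel_right, inv_mul_cancel]
      have hcC : (c : S) ∈ C := ⟨c, hc, rfl⟩
      have h2' := congrArg Subtype.val (DFunLike.congr_fun h1 ⟨(c : S), hcC⟩)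
      rw [MulAut.conjNormal_apply] at h2'
      exact Subtype.ext (mul_inv_eq_iff_eq_mul.1 h2')
    haveI : IsCyclic (K ⧸ commutator K) := IsZGroup.isCyclic_abelianization
    exact commutative_of_cyclic_center_quotient (QuotientGroup.mk' (commutator K))
      (by rw [QuotientGroup.ker_mk']; exact hcent)
  -- field coordinates
  have horb : ∀ x : N, x ≠ 1 → ∃ k : K, act k nb = x := by
    intro x hx
    obtain ⟨k, hk⟩ := hKreg _ (hN1 x hx)
    exact ⟨k, hNinj _ _ (by rw [hact, hnb, hk])⟩
  obtain ⟨F, _, _, θ, hθ0, hθ1, hθadd, hθS⟩ :=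
    exists_field_of_irreducible (Set.range fun k : K => act (k : S))
      (by
        rintro _ ⟨k, rfl⟩ _ ⟨k', rfl⟩ x
        show act (k : S) (act (k' : S) x) = act (k' : S) (act (k : S) x)
        rw [← MulAut.mul_apply, ← MulAut.mul_apply, ← map_mul, ← map_mul]
        congr 2
        exact congrArg Subtype.val (hKcomm k k'))
      (by
        intro L hL
        refine (em (L = ⊥)).imp id fun hne => eq_top_iff.2 fun x _ => ?_
        obtain ⟨l, hl, hl1⟩ := L.bot_or_exists_ne_one.resolve_left hne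
        rcases eq_or_ne x 1 with rfl | hx
        · exact L.one_mem
        obtain ⟨k, rfl⟩ := horb l hl1
        obtain ⟨k', rfl⟩ := horb x hx
        have := hL _ ⟨k' * k⁻¹, rfl⟩ _ hl
        rwa [show act ((k' * k⁻¹ : K) : S) (act k nb) = act k' nb by
          rw [← MulAut.mul_apply, ← map_mul, ← Subgroup.coe_mul, inv_mul_cancel_right]] at this) hnb1
  -- an element of prime order fixing two points
  let D := S ⊓ stabilizer G b
  obtain ⟨l, hl, hldvd⟩ := Nat.exists_prime_and_dvd (n := Nat.card D) (fun h => hg₀ (by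
    rw [Subgroup.card_eq_one] at h
    have : g₀ ∈ D := ⟨hga, hgb⟩
    rwa [h, Subgroup.mem_bot] at this))
  haveI := Fact.mk hl
  obtain ⟨⟨g, hgD⟩, hgo⟩ := exists_prime_orderOf_dvd_card' l hldvd
  rw [Subgroup.orderOf_mk] at hgo
  set s : S := ⟨g, hgD.1⟩ with hs
  have hg1 : g ≠ 1 := fun e => hl.ne_one (by rw [← hgo, e, orderOf_one])
  obtain ⟨φ, hφ⟩ : ∃ φ : F → F, ∀ x, act s (θ x) = θ (φ x) :=
    ⟨fun x => θ.symm (act s (θ x)), fun x => (Equiv.apply_symm_apply θ _).symm⟩
  have hadd : ∀ x y, φ (x + y) = φ x + φ y := fun x y => θ.injective (by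
    rw [hθadd, ← hφ, ← hφ, ← hφ, hθadd, map_mul])
  have hφ1 : φ 1 = 1 := θ.injective (by
    rw [← hφ, hθ1]
    exact hNinj _ _ (by rw [hact, hnb]; exact hgD.2))
  have hφ0 : φ 0 = 0 := θ.injective (by rw [← hφ, hθ0, map_one])
  have hmul : ∀ x y, φ (x * y) = φ x * φ y := by
    intro x y
    rcases eq_or_ne x 0 with rfl | hx
    · rw [zero_mul, hφ0, zero_mul]
    obtain ⟨k, hk⟩ := horb (θ x) (fun e => hx (θ.injective (by rw [e, hθ0])))
    obtain ⟨μ, -, hμ⟩ := hθS _ ⟨k, rfl⟩
    have hμx : μ = x := θ.injective (by rw [← hk, ← hθ1, hμ, mul_one])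
    subst hμx
    obtain ⟨μ', -, hμ'⟩ := hθS _ ⟨⟨s * k * s⁻¹, hKn.conj_mem _ k.2 s⟩, rfl⟩
    have key : ∀ z, φ (μ * z) = μ' * φ z := fun z => θ.injective (by
      rw [← hμ', ← hφ, ← hφ, ← hμ]
      show act s (act (k : S) (θ z)) = act (s * k * s⁻¹) (act s (θ z))
      rw [← MulAut.mul_apply, ← MulAut.mul_apply, ← map_mul, ← map_mul, inv_mul_cancel_right])
    rw [key, show φ μ = μ' by rw [← mul_one μ, key, hφ1, mul_one]]
  have hφinj : Function.Injective φ := fun x y e => θ.injective ((act s).injective (by rw [hφ, hφ, e]))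
  have hcF : Fintype.card F = 2 ^ m := by
    haveI := Fintype.ofFinite N
    rw [Fintype.card_congr θ, ← Nat.card_eq_fintype_card, hcN]
  haveI : CharP F 2 := by
    haveI : Fact (Nat.Prime 2) := ⟨Nat.prime_two⟩
    refine ringChar.of_eq (FiniteField.even_card_iff_char_two.2 ?_)
    rw [hcF, Nat.pow_mod, Nat.mod_self, Nat.zero_pow (by omega), Nat.zero_mod]
  haveI : Fact (Nat.Prime 2) := ⟨Nat.prime_two⟩
  letI : Algebra (ZMod 2) F := ZMod.algebra F 2
  let R : F ≃+* F := { Equiv.ofBijective φ (Finite.injective_iff_bijective.1 hφinj) with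
    map_mul' := hmul, map_add' := hadd }
  let Φ : F ≃ₐ[ZMod 2] F := AlgEquiv.ofRingEquiv (f := R) (fun x =>
    RingHom.congr_fun (Subsingleton.elim
      ((R : F →+* F).comp (algebraMap (ZMod 2) F)) (algebraMap (ZMod 2) F)) x)
  have hΦpow : ∀ (i : ℕ) (x : F), act (s ^ i) (θ x) = θ ((Φ ^ i) x) := by
    intro i
    induction i with
    | zero => intro x; simp
    | succ i ih =>
      intro x
      rw [pow_succ, map_mul, MulAut.mul_apply, hφ, ih, pow_succ, AlgEquiv.mul_apply]
      rfl
  have hsl : s ^ l = 1 := Subtype.ext (by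
    show g ^ l = 1
    rw [← hgo, pow_orderOf_eq_one])
  have hΦl : Φ ^ l = 1 := AlgEquiv.ext fun x => θ.injective (by
    rw [← hΦpow, hsl, map_one]; rfl)
  have hfixed : ∀ x : F, φ x = x → x = 0 ∨ x = 1 := by
    intro x hx
    by_contra hcon
    rw [not_or] at hcon
    have e : (g : G) • (θ x : G) • a = (θ x : G) • a := by
      have := hact s (θ x)
      rw [hφ, hx] at this
      exact this.symm
    refine hg1 (h3 g a b _ hab ?_ ?_ hgD.1 hgD.2 e)
    · intro e'
      rw [← hnb] at e'
      exact hcon.2 (θ.injective (by rw [hθ1]; exact (hNinj _ _ e').symm))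
    · intro e'
      have : θ x = 1 := hNinj _ _ (by rw [← e', Subgroup.coe_one, one_smul])
      exact hcon.1 (θ.injective (by rw [this, hθ0]))
  have hΦo : orderOf Φ = l := orderOf_eq_prime hΦl (fun e => by
    obtain ⟨x, hx0, hx1⟩ : ∃ x : F, x ≠ 0 ∧ x ≠ 1 := by
      obtain ⟨x, -, hx⟩ := Finset.exists_mem_notMem_of_card_lt_card (s := ({0, 1} : Finset F))
        (t := Finset.univ) (by
          rw [Finset.card_pair zero_ne_one, Finset.card_univ, hcF, ← hcΩ]; omega)
      simp at hx; exact ⟨x, hx⟩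
    exact (hfixed x (AlgEquiv.congr_fun e x)).elim hx0 hx1)
  have hbot : IntermediateField.fixedField (Subgroup.zpowers Φ) = ⊥ := by
    refine eq_bot_iff.2 fun x hx => ?_
    rcases hfixed x (hx ⟨Φ, Subgroup.mem_zpowers Φ⟩) with rfl | rfl
    · exact zero_mem _
    · exact one_mem _
  have hml : m = l := by
    have h1 := IntermediateField.finrank_fixedField_eq_card (F := ZMod 2) (E := F) (Subgroup.zpowers Φ)
    rw [hbot, IntermediateField.finrank_bot', Nat.card_zpowers, hΦo] at h1
    have h2' := Module.card_eq_pow_finrank (K := ZMod 2) (V := F)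
    rw [h1, ZMod.card, hcF] at h2'
    exact Nat.pow_right_injective le_rfl h2'
  exact ⟨m, hml ▸ hl, hcΩ⟩

end Cfsg.Agent.S0341
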