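import Cfsg.Statements.S0344
import Mathlib
import Cfsg.Agent.Lib.Perm.ZassenhausEven
import Cfsg.Agent.S0742
-- import your own Cfsg.Agent.* helpers here

set_option autoImplicit false
open Cfsg

namespace Cfsg.Agent.S0344

/-- A finite simple Zassenhaus group with a two-point stabiliser of even order is isomorphic to `PSL₂(F)` for a finite
field `F` with more than three elements. -/
theorem result {G Ω : Type*} [Group G] [Finite G] [MulAction G Ω] [Finite Ω]
    (hZ : Cfsg.IsZassenhausGroup G Ω) [IsSimpleGroup G]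
    {a b : Ω} (hab : a ≠ b) (heven : Even (Nat.card ↥(MulAction.stabilizer G a ⊓ MulAction.stabilizer G b))) :
    ∃ (F : Type) (_ : Field F) (_ : Fintype F), 3 < Fintype.card F ∧ Nonempty (G ≃* Matrix.ProjectiveSpecialLinearGroup (Fin 2) F) := by
  classical
  have := Fintype.ofFinite Ω
  set d := Nat.card ↥(MulAction.stabilizer G a ⊓ MulAction.stabilizer G b) with hd
  have hdvd := Cfsg.Agent.Perm.ZassEven.card_stab_dvd hZ hab
  have hne := Cfsg.Agent.Perm.ZassEven.card_stab_ne hZ hab heven
  have hle := Cfsg.Agent.Perm.Zass.degree_le_of_even hZ hab heven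
  have h3 := Cfsg.Agent.Perm.Zass.three_le hZ
  have hd0 : 0 < d := Nat.card_pos
  obtain ⟨k, hk⟩ := hdvd
  have hk2 : k = 2 := by
    rcases k with _ | _ | _ | k
    · omega
    · exact absurd (hk.trans (mul_one _)).symm hne
    · rfl
    · have : d * 3 ≤ d * (k + 1 + 1 + 1) := Nat.mul_le_mul_left d (by omega)
      rw [← hd] at hk hle
      omega
  subst hk2
  obtain ⟨p, f, K, iK, iKf, hp, hp2, hcard, hΩ, hiso⟩ := Cfsg.Agent.S0742.result hZ hab heven (by omega)
  refine ⟨K, iK, iKf, ?_, hiso⟩
  have : 2 ≤ d := Nat.le_of_dvd hd0 (even_iff_two_dvd.1 heven)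
  omega

end Cfsg.Agent.S0344
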