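import Cfsg.Statements.S5622
import Cfsg.Agent.Lib.AbstractGolay.Basic
-- import your own Cfsg.Agent.* helpers here

set_option autoImplicit false
open Cfsg

namespace Cfsg.Agent.S5622

/-- Let C be a self-dual binary code of length 24 with minimum weight at least 8 (a 12-dimensional subspace of the 24-dimensional space over the field with two elements, any two of whose words have dot product zero, with no non-zero word of weight below 8 — an abstract extended binary Golay code). Then the minimum weight of C is exactly 8, and the supports of the words of weight 8 (the octads) form a Steiner system S(5, 8, 24) on the 24 coordinates: every 5 coordinates lie in the support of exactly one word of weight 8. -/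
theorem result (C : Submodule (ZMod 2) (Fin 24 → ZMod 2)) (hdim : Module.finrank (ZMod 2) C = 12) (horth : ∀ v ∈ C, ∀ w ∈ C, ∑ i, v i * w i = 0) (hmin : ∀ w ∈ C, w ≠ 0 → 8 ≤ hammingNorm w) : (∃ w ∈ C, hammingNorm w = 8) ∧ Cfsg.IsSteinerSystem 5 8 (Cfsg.wordsOfWeight (C : Set (Fin 24 → ZMod 2)) 8) := by
  have hmem : ∀ o : Finset (Fin 24), o ∈ Cfsg.wordsOfWeight (C : Set (Fin 24 → ZMod 2)) 8 ↔
      AbstractGolay.word o ∈ C ∧ o.card = 8 := by
    intro o
    constructor
    · rintro ⟨⟨v, hv, rfl⟩, h8⟩
      exact ⟨by rwa [show Cfsg.support₂ v = AbstractGolay.supp v from rfl,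
        AbstractGolay.word_supp], h8⟩
    · rintro ⟨ho, h8⟩
      exact ⟨⟨_, ho, AbstractGolay.supp_word o⟩, h8⟩
  refine ⟨?_, fun b hb => ((hmem b).mp hb).2, fun s hs => ?_⟩
  · obtain ⟨s, hs⟩ := Finset.exists_subset_card_eq (s := (Finset.univ : Finset (Fin 24))) (n := 5)
      (by simp)
    obtain ⟨o, ho, h8, -⟩ := AbstractGolay.octad_cover hdim hmin s hs.2
    exact ⟨_, ho, by rw [AbstractGolay.hammingNorm_eq, AbstractGolay.supp_word, h8]⟩
  obtain ⟨o, ho, h8, hso⟩ := AbstractGolay.octad_cover hdim hmin s hs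
  refine ⟨o, ⟨(hmem o).mpr ⟨ho, h8⟩, hso⟩, fun o' ho' => ?_⟩
  exact AbstractGolay.octad_unique hmin hs ((hmem o').mp ho'.1).1 ho ((hmem o').mp ho'.1).2 h8
    ho'.2 hso

end Cfsg.Agent.S5622
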