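import Cfsg.Statements.S0375
import Cfsg.Agent.Lib.GolayUnique.Transport
import Cfsg.Agent.S5622

set_option autoImplicit false
open Cfsg

namespace Cfsg.Agent.S0375

/-- A doubly even self-dual binary code of length 24 with no words of weight 4 is equivalent to the length-24 code built from the squares modulo 23. -/
theorem result (C : Submodule (ZMod 2) (Fin 24 → ZMod 2)) (hdim : Module.finrank (ZMod 2) C = 12) (horth : ∀ v ∈ C, ∀ w ∈ C, ∑ i, v i * w i = 0) (h4 : ∀ w ∈ C, 4 ∣ hammingNorm w) (hno4 : ∀ w ∈ C, hammingNorm w ≠ 4) : ∃ e : Fin 24 ≃ Cfsg.GolayPt, ∀ w : Cfsg.GolayPt → ZMod 2, w ∈ Cfsg.golayCode ↔ (fun i => w (e i)) ∈ C := by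
  have hmin : ∀ w ∈ C, w ≠ 0 → 8 ≤ hammingNorm w := fun w hw hw0 => by
    have h1 := h4 w hw
    have h2 := hno4 w hw
    have h3 : hammingNorm w ≠ 0 := fun h => hw0 (hammingNorm_eq_zero.1 h)
    omega
  have hB := (S5622.result C hdim horth hmin).2
  have hC := Agent.GolayUnique.eq_blockCode (Fintype.card_fin 24) hB C
    (fun _ hb => Agent.GolayUnique.ind_mem_of_mem_wordsOfWeight C hb) horth
  obtain ⟨e, he, -⟩ := Agent.GolayUnique.exists_iso (Fintype.card_fin 24)
    Agent.GolayUnique.card_golayPt hB Agent.Mathieu.octads_steiner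
  refine ⟨e, fun w => ?_⟩
  rw [Agent.GolayUnique.golayCode_eq_blockCode, he, ← hC]

end Cfsg.Agent.S0375
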