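import Cfsg.Statements.S0384
import Cfsg.Agent.Lib.Mathieu.Generators
-- import your own Cfsg.Agent.* helpers here

set_option autoImplicit false
open scoped Pointwise
open Cfsg

namespace Cfsg.Agent.S0384

/-- A dodecad stabiliser is sharply 5-transitive on the dodecad. -/
theorem result (d : Finset Cfsg.GolayPt) (hd : d ∈ Cfsg.dodecads) (x y : Fin 5 ↪ Cfsg.GolayPt) (hx : ∀ i, x i ∈ d) (hy : ∀ i, y i ∈ d) : ∃! g : MulAction.stabilizer Cfsg.M24 d, ∀ i, ((g : Cfsg.M24) : Equiv.Perm Cfsg.GolayPt) (x i) = y i := by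
  open Cfsg.Agent.Mathieu in
  obtain ⟨g, hg, rfl⟩ := M24_exists_map_square hd
  have hx' : ∀ i, (x.trans g.symm.toEmbedding) i ∈ Cfsg.Spor.squareDodecad := fun i =>
    Cfsg.Agent.Mathieu.mem_smul_pts.1 (hx i)
  have hy' : ∀ i, (y.trans g.symm.toEmbedding) i ∈ Cfsg.Spor.squareDodecad := fun i =>
    Cfsg.Agent.Mathieu.mem_smul_pts.1 (hy i)
  obtain ⟨m, hm, hu⟩ := Cfsg.Agent.Mathieu.M12_exists_unique hx' hy'
  have hm12 := Cfsg.Agent.Mathieu.mem_M12_iff.1 m.2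
  refine ⟨⟨⟨g * m * g⁻¹, Cfsg.M24.mul_mem (Cfsg.M24.mul_mem hg hm12.1) (Cfsg.M24.inv_mem hg)⟩,
    show (g * m.1 * g⁻¹) • (g • Cfsg.Spor.squareDodecad) = g • Cfsg.Spor.squareDodecad by
      rw [mul_smul, mul_smul, inv_smul_smul, hm12.2]⟩, fun i => ?_, fun k hk => ?_⟩
  · change g (m.1 (g.symm (x i))) = y i
    exact ((congrArg g (hm i)).trans (g.apply_symm_apply (y i)))
  · have hk12 : g⁻¹ * ((k : Cfsg.M24) : Equiv.Perm Cfsg.GolayPt) * g ∈ Cfsg.Spor.M12 := by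
      refine Cfsg.Agent.Mathieu.mem_M12_iff.2
        ⟨Cfsg.M24.mul_mem (Cfsg.M24.mul_mem (Cfsg.M24.inv_mem hg) k.1.2) hg, ?_⟩
      rw [mul_smul, mul_smul]
      have hfix : ((k : Cfsg.M24) : Equiv.Perm Cfsg.GolayPt) • (g • Cfsg.Spor.squareDodecad) =
          g • Cfsg.Spor.squareDodecad := k.2
      rw [hfix, inv_smul_smul]
    have := congrArg Subtype.val (hu ⟨_, hk12⟩ fun i => by
      change g.symm (((k : Cfsg.M24) : Equiv.Perm Cfsg.GolayPt) (g (g.symm (x i)))) = g.symm (y i)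
      rw [Equiv.apply_symm_apply, hk i])
    apply Subtype.ext; apply Subtype.ext
    change _ = g * m.1 * g⁻¹
    rw [← this]; group

end Cfsg.Agent.S0384
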