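import Cfsg.Statements.S0389
import Cfsg.Agent.Lib.Mathieu.Generators
-- import your own Cfsg.Agent.* helpers here

set_option autoImplicit false
open scoped Pointwise
open Cfsg

namespace Cfsg.Agent.S0389

/-- The stabiliser of a dodecad and a point on it is 3-transitive on the complementary dodecad. -/
theorem result (d : Finset Cfsg.GolayPt) (hd : d ∈ Cfsg.dodecads) (p : Cfsg.GolayPt) (hp : p ∈ d) (x y : Fin 3 ↪ Cfsg.GolayPt) (hx : ∀ i, x i ∉ d) (hy : ∀ i, y i ∉ d) : ∃ g ∈ MulAction.stabilizer Cfsg.M24 d ⊓ MulAction.stabilizer Cfsg.M24 p, ∀ i, (g : Equiv.Perm Cfsg.GolayPt) (x i) = y i := by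
  obtain ⟨g, hg, rfl, rfl⟩ := Cfsg.Agent.Mathieu.M24_exists_map_square_point hd hp
  have key : ∀ z : Fin 3 ↪ Cfsg.GolayPt, (∀ i, z i ∉ g • Cfsg.Spor.squareDodecad) →
      ∀ i, (z.trans g.symm.toEmbedding) i ∉ Cfsg.Spor.squareDodecad := fun z hz i h =>
    hz i (Cfsg.Agent.Mathieu.mem_smul_pts.2 h)
  obtain ⟨m, hm, hmx⟩ := Cfsg.Agent.Mathieu.M11_exists_map_compl le_rfl
    (x.trans g.symm.toEmbedding) (y.trans g.symm.toEmbedding) (key x hx) (key y hy)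
  obtain ⟨h12, h0⟩ := Cfsg.Agent.Mathieu.mem_M11_iff.1 hm
  obtain ⟨h24, hD⟩ := Cfsg.Agent.Mathieu.mem_M12_iff.1 h12
  refine ⟨⟨g * m * g⁻¹, Cfsg.M24.mul_mem (Cfsg.M24.mul_mem hg h24) (Cfsg.M24.inv_mem hg)⟩,
    Subgroup.mem_inf.2 ⟨?_, ?_⟩, fun i => ?_⟩
  · change (g * m * g⁻¹) • (g • Cfsg.Spor.squareDodecad) = g • Cfsg.Spor.squareDodecad
    rw [mul_smul, mul_smul, inv_smul_smul, hD]
  · change g (m (g.symm (g (some 0)))) = g (some 0)
    rw [Equiv.symm_apply_apply, h0]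
  · change g (m (g.symm (x i))) = y i
    exact (congrArg g (hmx i)).trans (g.apply_symm_apply (y i))

end Cfsg.Agent.S0389
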