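import Cfsg.Statements.S1588
import Cfsg.Agent.Lib.Leech.RootlessLattice

set_option autoImplicit false
open Matrix
open Cfsg

namespace Cfsg.Agent.S1588

/-- Reduction of an integer vector modulo 2. -/
def red (y : Fin 24 → ℤ) : Fin 24 → ZMod 2 := fun i => (y i : ZMod 2)

theorem red_eq_iff (x y : Fin 24 → ℤ) : red y = red x ↔ ∀ i, (2 : ℤ) ∣ (x - y) i := by
  simp only [red, funext_iff, Pi.sub_apply]
  refine forall_congr' (fun i => ?_)
  rw [ZMod.intCast_eq_intCast_iff_dvd_sub]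
  rfl

theorem count_eq {α : Type*} [Fintype α] (a : α → ℕ) (N : ℕ) (hle : ∀ c, a c ≤ N)
    (hsum : ∑ c, a c = Fintype.card α * N) (c : α) : a c = N := by
  have h := (Finset.sum_eq_sum_iff_of_le (s := Finset.univ) (f := a) (g := fun _ => N)
    (fun i _ => hle i)).1 (by simpa using hsum)
  exact h c (Finset.mem_univ c)

/-- Second step of the characterisation: under the vector counts of the rank-24 lattice, the norm-8 vectors fall into congruence classes of exactly 48 modulo twice the lattice. -/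
theorem result (B : Matrix (Fin 24) (Fin 24) ℤ) (hsymm : B.IsSymm) (hpos : ∀ x : Fin 24 → ℤ, x ≠ 0 → 0 < x ⬝ᵥ (B *ᵥ x)) (heven : ∀ x : Fin 24 → ℤ, (2 : ℤ) ∣ x ⬝ᵥ (B *ᵥ x)) (h2 : ∀ x : Fin 24 → ℤ, x ⬝ᵥ (B *ᵥ x) ≠ 2) (h4 : {x : Fin 24 → ℤ | x ⬝ᵥ (B *ᵥ x) = 4}.ncard = 196560) (h6 : {x : Fin 24 → ℤ | x ⬝ᵥ (B *ᵥ x) = 6}.ncard = 16773120) (h8 : {x : Fin 24 → ℤ | x ⬝ᵥ (B *ᵥ x) = 8}.ncard = 398034000) (x : Fin 24 → ℤ) (hx : x ⬝ᵥ (B *ᵥ x) = 8) : {y : Fin 24 → ℤ | y ⬝ᵥ (B *ᵥ y) = 8 ∧ ∀ i, (2 : ℤ) ∣ (x - y) i}.ncard = 48 := by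
  classical
  have hB : Cfsg.Agent.Leech.IsRootless B := ⟨hsymm, hpos, heven, h2⟩
  set q := Cfsg.Agent.Leech.latNorm B with hq
  have f4 : {y | q y = 4}.Finite := Set.finite_of_ncard_ne_zero (by rw [show {y | q y = 4}.ncard = _ from h4]; norm_num)
  have f6 : {y | q y = 6}.Finite := Set.finite_of_ncard_ne_zero (by rw [show {y | q y = 6}.ncard = _ from h6]; norm_num)
  have f8 : {y | q y = 8}.Finite := Set.finite_of_ncard_ne_zero (by rw [show {y | q y = 8}.ncard = _ from h8]; norm_num)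
  let F : Finset (Fin 24 → ℤ) → (Fin 24 → ZMod 2) → Finset (Fin 24 → ℤ) :=
    fun S c => S.filter fun y => red y = c
  have hsum : ∀ S : Finset (Fin 24 → ℤ), ∑ c, (F S c).card = S.card := fun S =>
    (Finset.card_eq_sum_card_fiberwise (f := red) (fun _ _ => Finset.mem_univ _)).symm
  have mem : ∀ S c y, y ∈ F S c ↔ y ∈ S ∧ red y = c := fun S c y => Finset.mem_filter
  let w : (Fin 24 → ZMod 2) → ℕ := fun c =>
    48 * (F {0} c).card + 24 * (F f4.toFinset c).card + 24 * (F f6.toFinset c).card +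
      (F f8.toFinset c).card
  have bound2 : ∀ S : Finset (Fin 24 → ℤ), (∀ y ∈ S, q y = 4 ∨ q y = 6) → ∀ c, (F S c).card ≤ 2 := by
    intro S hS c
    rcases (F S c).eq_empty_or_nonempty with he | ⟨a, ha⟩
    · simp [he]
    refine le_trans (Finset.card_le_card (t := {a, -a}) ?_) Finset.card_le_two
    intro b hb
    obtain ⟨ha1, ha2⟩ := (mem S c a).1 ha
    obtain ⟨hb1, hb2⟩ := (mem S c b).1 hb
    have qa := hS a ha1
    have qb := hS b hb1
    rw [hq] at qa qb
    rcases Cfsg.Agent.Leech.congr_class hB (x := a) (y := b) (by omega) (by omega)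
      ((red_eq_iff a b).1 (hb2.trans ha2.symm)) with e | e | e
    · simp [e]
    · simp [e]
    · omega
  have bound48 : ∀ c, (F f8.toFinset c).card ≤ 48 := by
    intro c
    refine Cfsg.Agent.Leech.card_le_two_mul hB _ ?_ ?_
    · rintro y hy rfl
      have := ((mem _ _ _).1 hy).1
      simp [hq, Cfsg.Agent.Leech.latNorm_zero] at this
    · intro a ha b hb
      obtain ⟨ha1, ha2⟩ := (mem _ c a).1 ha
      obtain ⟨hb1, hb2⟩ := (mem _ c b).1 hb
      rw [Set.Finite.mem_toFinset] at ha1 hb1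
      rcases Cfsg.Agent.Leech.congr_class hB (x := a) (y := b) (le_of_eq ha1) (le_of_eq hb1)
        ((red_eq_iff a b).1 (hb2.trans ha2.symm)) with e | e | e
      · exact Or.inl e
      · exact Or.inr (Or.inl e)
      · exact Or.inr (Or.inr e.2.2)
  -- fibres of different shells are disjoint
  have disj : ∀ S S' : Finset (Fin 24 → ℤ), ∀ r r' : ℤ, r ≤ 8 → r' ≤ 8 → r ≠ r' →
      (∀ y ∈ S, q y = r) → (∀ y ∈ S', q y = r') → ∀ c, (F S c).card = 0 ∨ (F S' c).card = 0 := by
    intro S S' r r' hr hr' hrr hS hS' c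
    by_contra hne
    simp only [not_or, Finset.card_eq_zero, ← ne_eq, ← Finset.nonempty_iff_ne_empty] at hne
    obtain ⟨⟨a, ha⟩, b, hb⟩ := hne
    obtain ⟨ha1, ha2⟩ := (mem S c a).1 ha
    obtain ⟨hb1, hb2⟩ := (mem S' c b).1 hb
    have qa := hS a ha1
    have qb := hS' b hb1
    rw [hq] at qa qb
    have := Cfsg.Agent.Leech.latNorm_eq_of_congr hB (x := a) (y := b) (by omega) (by omega)
      ((red_eq_iff a b).1 (hb2.trans ha2.symm))
    omega
  have q0 : ∀ y ∈ ({0} : Finset (Fin 24 → ℤ)), q y = 0 := by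
    simp [hq, Cfsg.Agent.Leech.latNorm_zero]
  have q4 : ∀ y ∈ f4.toFinset, q y = 4 := fun y hy => f4.mem_toFinset.1 hy
  have q6 : ∀ y ∈ f6.toFinset, q y = 6 := fun y hy => f6.mem_toFinset.1 hy
  have q8 : ∀ y ∈ f8.toFinset, q y = 8 := fun y hy => f8.mem_toFinset.1 hy
  have hw : ∀ c, w c ≤ 48 := by
    intro c
    have b0 : (F {0} c).card ≤ 1 := (Finset.card_filter_le _ _).trans (by simp)
    have b4 := bound2 _ (fun y hy => Or.inl (q4 y hy)) c
    have b6 := bound2 _ (fun y hy => Or.inr (q6 y hy)) c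
    have b8 := bound48 c
    have := disj _ _ 0 4 (by norm_num) (by norm_num) (by norm_num) q0 q4 c
    have := disj _ _ 0 6 (by norm_num) (by norm_num) (by norm_num) q0 q6 c
    have := disj _ _ 0 8 (by norm_num) (by norm_num) (by norm_num) q0 q8 c
    have := disj _ _ 4 6 (by norm_num) (by norm_num) (by norm_num) q4 q6 c
    have := disj _ _ 4 8 (by norm_num) (by norm_num) (by norm_num) q4 q8 c
    have := disj _ _ 6 8 (by norm_num) (by norm_num) (by norm_num) q6 q8 c
    simp only [w]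
    omega
  have htot : ∑ c, w c = Fintype.card (Fin 24 → ZMod 2) * 48 := by
    simp only [w, Finset.sum_add_distrib, ← Finset.mul_sum, hsum, Finset.card_singleton]
    rw [← Set.ncard_eq_toFinset_card _ f4, ← Set.ncard_eq_toFinset_card _ f6,
      ← Set.ncard_eq_toFinset_card _ f8]
    rw [show {y | q y = 4}.ncard = _ from h4, show {y | q y = 6}.ncard = _ from h6,
      show {y | q y = 8}.ncard = _ from h8]
    simp only [Fintype.card_fun, ZMod.card, Fintype.card_fin]
    norm_num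
  have hx48 : w (red x) = 48 := count_eq w 48 hw htot (red x)
  have hxm : x ∈ F f8.toFinset (red x) := (mem _ _ _).2 ⟨f8.mem_toFinset.2 hx, rfl⟩
  have hx1 : 0 < (F f8.toFinset (red x)).card := Finset.card_pos.2 ⟨x, hxm⟩
  have := disj _ _ 0 8 (by norm_num) (by norm_num) (by norm_num) q0 q8 (red x)
  have := disj _ _ 4 8 (by norm_num) (by norm_num) (by norm_num) q4 q8 (red x)
  have := disj _ _ 6 8 (by norm_num) (by norm_num) (by norm_num) q6 q8 (red x)
  have key : (F f8.toFinset (red x)).card = 48 := by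
    simp only [w] at hx48
    omega
  refine Eq.trans ?_ key
  refine Eq.trans (congrArg Set.ncard ?_) (Set.ncard_coe_finset _)
  ext y
  simp only [Finset.mem_coe, mem, Set.Finite.mem_toFinset, Set.mem_ofPred_eq, red_eq_iff]
  rfl

end Cfsg.Agent.S1588
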