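import Cfsg.Statements.S0408
import Cfsg.Agent.Lib.Hexad12.System

set_option autoImplicit false
open Cfsg

namespace Cfsg.Agent.S0408

/-- Uniqueness of the Steiner system S(5, 6, 12) up to isomorphism. -/
theorem result {α β : Type*} [Fintype α] [DecidableEq α] [Fintype β] [DecidableEq β] (hα : Fintype.card α = 12) (hβ : Fintype.card β = 12) {B : Set (Finset α)} {B' : Set (Finset β)} (hB : Cfsg.IsSteinerSystem 5 6 B) (hB' : Cfsg.IsSteinerSystem 5 6 B') : Cfsg.SetSystemIso B B' := by
  obtain ⟨e, he⟩ := Agent.Hexad12.exists_iso_12 hα hβ hB hB'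
  refine ⟨e, Set.ext fun c => ⟨?_, fun hc => ⟨c.image e.symm, ?_, ?_⟩⟩⟩
  · rintro ⟨b, hb, rfl⟩; exact (he b).1 hb
  · rw [he, Finset.image_image]; simpa using hc
  · show (c.image e.symm).image e = c
    rw [Finset.image_image]; simp

end Cfsg.Agent.S0408
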