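import Cfsg.Statements.S0412
import Cfsg.Agent.Lib.GolayUnique.Transport
import Cfsg.Agent.Lib.Mathieu.Simple

set_option autoImplicit false
open Cfsg

namespace Cfsg.Agent.S0412

/-- Aut of an S(5, 8, 24) is simple of order 244823040 and 5-transitive on points. -/
theorem result {α : Type*} [Fintype α] [DecidableEq α] (hα : Fintype.card α = 24) {B : Set (Finset α)} (hB : Cfsg.IsSteinerSystem 5 8 B) : Cfsg.IsM24 (Cfsg.setSystemAut B) ∧ MulAction.IsMultiplyPretransitive (Cfsg.setSystemAut B) α 5 := by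
  obtain ⟨e, -, h⟩ := Agent.GolayUnique.exists_iso hα Agent.GolayUnique.card_golayPt hB
    Agent.Mathieu.octads_steiner
  let f : Cfsg.setSystemAut B ≃* Cfsg.M24 := (Agent.GolayUnique.autEquiv e h).trans
    (MulEquiv.subgroupCongr Agent.Mathieu.M24_eq_setSystemAut_octads.symm)
  refine ⟨⟨?_, ?_⟩, Agent.GolayUnique.isMultiplyPretransitive_transport e h ?_⟩
  · have := Agent.Mathieu.isSimple_M24
    exact MulEquiv.isSimpleGroup f
  · rw [Nat.card_congr f.toEquiv, Agent.Mathieu.card_M24]
  · exact Agent.Mathieu.M24_eq_setSystemAut_octads ▸ Agent.Mathieu.M24_isMultiplyPretransitive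

end Cfsg.Agent.S0412
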