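import Cfsg.Statements.S0418
import Cfsg.Agent.Lib.Perm.PrimeDegreeSimple

set_option autoImplicit false
open Cfsg

namespace Cfsg.Agent.S0418

/-- A sharply 4-transitive group of degree 11 is simple of order 7920. -/
theorem result {α : Type*} [Fintype α] [DecidableEq α] (hα : Fintype.card α = 11) (G : Subgroup (Equiv.Perm α)) [MulAction.IsMultiplyPretransitive G α 4] (hsharp : ∀ x : Fin 4 ↪ α, MulAction.stabilizer G x = ⊥) : Cfsg.IsM11 G := by
  have hc : Nat.card G = 7920 := by
    rw [Cfsg.Agent.Perm.card_eq_descFactorial_of_sharp (α := α) (k := 4) (by omega) hsharp, hα]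
    rfl
  have : Finite G := Nat.finite_of_card_ne_zero (by omega)
  have : MulAction.IsPretransitive G α := by
    have : MulAction.IsMultiplyPretransitive G α 2 :=
      MulAction.isMultiplyPretransitive_of_le (n := 4) (by omega) (by simp [hα])
    exact MulAction.isPretransitive_of_is_two_pretransitive
  have : Fact (Nat.Prime 11) := ⟨by norm_num⟩
  refine ⟨Cfsg.Agent.Perm.isSimpleGroup_of_prime_degree (G := G) (α := α) (p := 11)
    (by rw [Nat.card_eq_fintype_card, hα]) (by rw [hc]; norm_num) ?_, hc⟩
  intro d hd hdvd hmod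
  rw [hc] at hdvd hmod ⊢
  have : d ≤ 10 := Nat.le_of_dvd (by norm_num) hd
  interval_cases d <;> revert hd hdvd hmod <;> norm_num [Nat.ModEq]

end Cfsg.Agent.S0418
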