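import Cfsg.Statements.S0419
import Cfsg.Agent.Lib.Perm.PrimeDegreeSimple

set_option autoImplicit false
open Cfsg

namespace Cfsg.Agent.S0419

/-- A sharply 5-transitive group of degree 12 is simple of order 95040. -/
theorem result {α : Type*} [Fintype α] [DecidableEq α] (hα : Fintype.card α = 12) (G : Subgroup (Equiv.Perm α)) [MulAction.IsMultiplyPretransitive G α 5] (hsharp : ∀ x : Fin 5 ↪ α, MulAction.stabilizer G x = ⊥) : Cfsg.IsM12 G := by
  have hc : Nat.card G = 95040 := by
    rw [Cfsg.Agent.Perm.card_eq_descFactorial_of_sharp (α := α) (k := 5) (by omega) hsharp, hα]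
    rfl
  have : Finite G := Nat.finite_of_card_ne_zero (by omega)
  have h2 : MulAction.IsMultiplyPretransitive G α 2 :=
    MulAction.isMultiplyPretransitive_of_le (n := 5) (by omega) (by simp [hα])
  have : MulAction.IsPretransitive G α := MulAction.isPretransitive_of_is_two_pretransitive
  have : Fact (Nat.Prime 11) := ⟨by norm_num⟩
  obtain ⟨a⟩ : Nonempty α := Fintype.card_pos_iff.1 (by omega)
  let H := MulAction.stabilizer G a
  let β := SubMulAction.ofStabilizer G a
  have hH : Nat.card H = 7920 := by
    have h := Subgroup.index_mul_card H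
    rw [MulAction.index_stabilizer_of_transitive, Nat.card_eq_fintype_card, hα, hc] at h
    omega
  have hβ : Nat.card β = 11 := by
    have h := SubMulAction.nat_card_ofStabilizer_eq G a
    rw [Nat.card_eq_fintype_card (α := α), hα] at h
    exact h
  have : FaithfulSMul H β := by
    refine ⟨fun {x y} h => ?_⟩
    refine Subtype.ext (eq_of_smul_eq_smul (α := α) fun b => ?_)
    by_cases hb : b = a
    · subst hb; exact x.2.trans y.2.symm
    · exact congrArg Subtype.val (h ⟨b, hb⟩)
  have : MulAction.IsMultiplyPretransitive H β 4 :=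
    (SubMulAction.ofStabilizer.isMultiplyPretransitive (n := 4) (a := a)).1
      (inferInstanceAs (MulAction.IsMultiplyPretransitive G α 5))
  have : MulAction.IsPretransitive H β := by
    have : MulAction.IsMultiplyPretransitive H β 2 :=
      MulAction.isMultiplyPretransitive_of_le (n := 4) (by omega) (by simp [hβ])
    exact MulAction.isPretransitive_of_is_two_pretransitive
  have hs : IsSimpleGroup H := by
    refine Cfsg.Agent.Perm.isSimpleGroup_of_prime_degree (α := β) (p := 11) hβ
      (by rw [hH]; norm_num) ?_
    intro d hd hdvd hmod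
    rw [hH] at hdvd hmod ⊢
    have : d ≤ 10 := Nat.le_of_dvd (by norm_num) hd
    interval_cases d <;> revert hd hdvd hmod <;> norm_num [Nat.ModEq]
  have hα' : Nat.card α = 12 := by rw [Nat.card_eq_fintype_card, hα]
  exact ⟨Cfsg.Agent.Perm.isSimpleGroup_of_simple_stabilizer a hs (q := 2) (r := 3)
    Nat.prime_two Nat.prime_three (by norm_num) (by rw [hα']; norm_num) (by rw [hα']; norm_num), hc⟩

end Cfsg.Agent.S0419
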