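import Cfsg.Statements.S0423
import Cfsg.Agent.Lib.HallJanko.Hundred

set_option autoImplicit false
open Cfsg

namespace Cfsg.Agent.S0423

/-- Existence of a simple group of order 604800. -/
theorem result : ∃ G : Subgroup (Equiv.Perm (Fin 100)), Cfsg.IsJ2 G := by
  haveI := HJ.isSimple_P
  haveI : Nontrivial HJ.Q100 := HJ.iso100.symm.toEquiv.nontrivial
  exact ⟨HJ.Q100, IsSimpleGroup.isSimpleGroup_of_surjective HJ.iso100.toMonoidHom HJ.iso100.surjective,
    (Nat.card_congr HJ.iso100.symm.toEquiv).trans HJ.card_P⟩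

end Cfsg.Agent.S0423
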