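import Cfsg.Statements.S0427
import Cfsg.Agent.Lib.Steiner.S3622

set_option autoImplicit false
open Cfsg

namespace Cfsg.Agent.S0427

/-- The block graph (adjacent = disjoint) of an S(3, 6, 22) is strongly regular with parameters (77, 16, 0, 4). -/
theorem result {α : Type*} [Fintype α] (hα : Fintype.card α = 22) {B : Set (Finset α)} (hB : Cfsg.IsSteinerSystem 3 6 B) [Fintype B] [DecidableRel (Cfsg.blockGraph B).Adj] : (Cfsg.blockGraph B).IsSRGWith 77 16 0 4 := by
  classical
  set B' := B.toFinset with hB'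
  have hS : Cfsg.IsSteinerSystem 3 6 (B' : Set (Finset α)) := by
    rwa [hB', Set.coe_toFinset]
  have hmem : ∀ x : B, (x : Finset α) ∈ B' := fun x => Set.mem_toFinset.2 x.2
  have hne0 : ∀ x : B, (x : Finset α) ≠ ∅ := fun x e => by
    have := hB.1 _ x.2
    rw [e, Finset.card_empty] at this
    omega
  have hadj : ∀ u w : B, (Cfsg.blockGraph B).Adj u w ↔ Disjoint (u : Finset α) (w : Finset α) := by
    intro u w
    simp only [Cfsg.blockGraph, SimpleGraph.fromRel_adj]
    refine ⟨fun h => h.2.elim id (fun h' => h'.symm), fun h => ⟨?_, Or.inl h⟩⟩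
    rintro rfl
    exact hne0 u (disjoint_self.1 h)
  have key : ∀ (s : Set B) (q : Finset α → Prop) [DecidablePred q], (∀ x : B, x ∈ s ↔ q x) →
      s.ncard = (B'.filter q).card := by
    intro s q _ hs
    rw [← Set.ncard_coe_finset, ← Set.ncard_image_of_injective s Subtype.val_injective]
    congr 1
    ext d
    simp only [Set.mem_image, Finset.coe_filter, Set.mem_setOf_eq, hB', Set.mem_toFinset]
    exact ⟨by rintro ⟨x, hx, rfl⟩; exact ⟨x.2, (hs x).1 hx⟩,
      fun h => ⟨⟨d, h.1⟩, (hs ⟨d, h.1⟩).2 h.2, rfl⟩⟩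
  refine ⟨?_, ?_, ?_, ?_⟩
  · rw [← Cfsg.Agent.Steiner.card_blocks hS hα, ← Fintype.card_coe]
    exact Fintype.card_congr (Equiv.subtypeEquivRight fun x => Set.mem_toFinset.symm)
  · intro v
    rw [← SimpleGraph.card_neighborSet_eq_degree, ← Nat.card_eq_fintype_card,
      Nat.card_coe_set_eq, ← Cfsg.Agent.Steiner.card_disjoint hS hα (hmem v)]
    exact key _ (fun d => Disjoint (v : Finset α) d) (fun x => hadj v x)
  · intro v w hvw
    rw [← Nat.card_eq_fintype_card, Nat.card_coe_set_eq,
      ← Cfsg.Agent.Steiner.card_disjoint_disjoint hS hα (hmem v) (hmem w) ((hadj v w).1 hvw)]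
    exact key _ (fun d => Disjoint (v : Finset α) d ∧ Disjoint (w : Finset α) d)
      (fun x => by rw [SimpleGraph.mem_commonNeighbors, hadj, hadj])
  · intro v w hne hvw
    rw [← Nat.card_eq_fintype_card, Nat.card_coe_set_eq,
      ← Cfsg.Agent.Steiner.card_disjoint_meeting hS hα (hmem v) (hmem w)
        (fun e => hne (Subtype.ext e)) (fun h => hvw ((hadj v w).2 h))]
    exact key _ (fun d => Disjoint (v : Finset α) d ∧ Disjoint (w : Finset α) d)
      (fun x => by rw [SimpleGraph.mem_commonNeighbors, hadj, hadj])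

end Cfsg.Agent.S0427
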