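import Cfsg.Statements.S0439
import Mathlib

set_option autoImplicit false
open Cfsg

namespace Cfsg.Agent.S0439

/-- In the symmetric group of degree n ≥ 2, the set of transpositions is a conjugacy class of 3-transpositions which generates the group. -/
theorem result (n : ℕ) (hn : 2 ≤ n) : Cfsg.IsThreeTranspositionClass {σ : Equiv.Perm (Fin n) | σ.IsSwap} := by
  refine ⟨⟨fun σ hσ => ?_, ?_⟩, ?_, Equiv.Perm.closure_isSwap⟩
  · exact hσ.orderOf
  · intro σ hσ τ hτ
    obtain ⟨a, b, hab, rfl⟩ := hσ
    obtain ⟨c, d, hcd, rfl⟩ := hτ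
    by_cases hdisj : (Equiv.swap a b).Disjoint (Equiv.swap c d)
    · left
      rw [hdisj.commute.mul_pow, sq, sq, Equiv.swap_mul_self, Equiv.swap_mul_self, one_mul]
    · have key : ∀ x y z : Fin n, x ≠ y → x ≠ z →
          (Equiv.swap x y * Equiv.swap x z) ^ 2 = 1 ∨ (Equiv.swap x y * Equiv.swap x z) ^ 3 = 1 := by
        intro x y z hxy hxz
        by_cases hyz : y = z
        · subst hyz; left; simp
        · right
          have := (Equiv.Perm.isThreeCycle_swap_mul_swap_same hxy hxz hyz).orderOf
          rw [← this, pow_orderOf_eq_one]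
      have hcases : a = c ∨ a = d ∨ b = c ∨ b = d := by
        by_contra hne
        simp only [not_or] at hne
        exact hdisj (Equiv.Perm.disjoint_swap_swap (by simp [hab, hcd, hne]))
      rcases hcases with rfl | rfl | rfl | rfl
      · exact key a b d hab hcd
      · rw [Equiv.swap_comm c a]; exact key a b c hab hcd.symm
      · rw [Equiv.swap_comm a b]; exact key b a d hab.symm hcd
      · rw [Equiv.swap_comm a b, Equiv.swap_comm c b]; exact key b a c hab.symm hcd.symm
  · have h01 : (⟨0, by omega⟩ : Fin n) ≠ ⟨1, by omega⟩ := by simp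
    refine ⟨Equiv.swap ⟨0, by omega⟩ ⟨1, by omega⟩, ⟨_, _, h01, rfl⟩, ?_⟩
    ext σ
    constructor
    · intro hσ
      obtain ⟨a, b, hab, rfl⟩ := hσ
      exact Equiv.Perm.isConj_swap h01 hab
    · intro hσ
      obtain ⟨c, hc⟩ := isConj_iff.1 (show IsConj _ σ from hσ)
      exact ⟨c ⟨0, by omega⟩, c ⟨1, by omega⟩, by simpa using h01, by rw [← hc, ← Equiv.swap_apply_apply]⟩

end Cfsg.Agent.S0439
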