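import Cfsg.Statements.S0440
import Cfsg.Agent.Lib.ClassicalSimple.RankOne

set_option autoImplicit false
open Cfsg

namespace Cfsg.Agent.S0440

open Cfsg.Agent.ClassicalSimple Matrix

theorem zmod_two_cases (a : ZMod 2) : a = 0 ∨ a = 1 := by
  revert a; decide

variable {n : ℕ}

theorem conj_elt (g : Matrix.symplecticGroup (Fin n) (ZMod 2)) (v : Fin n ⊕ Fin n → ZMod 2) :
    g * sympTransvectionElt v 1 * g⁻¹ = sympTransvectionElt (g.1 *ᵥ v) 1 :=
  symplecticEquiv.injective (by
    rw [map_mul, map_mul, map_inv, symplecticEquiv_transvection, spTransv_conj,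
      symplecticEquiv_smul, symplecticEquiv_transvection])

theorem elt_sq (v : Fin n ⊕ Fin n → ZMod 2) :
    sympTransvectionElt v 1 * sympTransvectionElt v (1 : ZMod 2) = 1 :=
  symplecticEquiv.injective (by
    rw [map_mul, map_one, symplecticEquiv_transvection, spTransv_add,
      show (1 : ZMod 2) + 1 = 0 from rfl, spTransv_zero])

theorem conj_self (u v : Fin n ⊕ Fin n → ZMod 2) :
    sympTransvectionElt u 1 * sympTransvectionElt v (1 : ZMod 2) * sympTransvectionElt u 1 =
      sympTransvectionElt (v + sympBilin n (ZMod 2) v u • u) 1 := by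
  have h := conj_elt (sympTransvectionElt u 1) v
  rw [inv_eq_of_mul_eq_one_right (elt_sq u)] at h
  rw [h]
  congr 1
  rw [show (sympTransvectionElt u (1 : ZMod 2)).1 = sympTransvection n u 1 from rfl,
    sympTransvection_mulVec, one_mul]

/-- In the symplectic group in dimension 2n ≥ 2 over the field with two elements, the elements g for which g - 1 has rank one (the symplectic transvections) form a conjugacy class of 3-transpositions generating the group. -/
theorem result (n : ℕ) (hn : 1 ≤ n) : Cfsg.IsThreeTranspositionClass {g : Matrix.symplecticGroup (Fin n) (ZMod 2) | ((g : Matrix (Fin n ⊕ Fin n) (Fin n ⊕ Fin n) (ZMod 2)) - 1).rank = 1} := by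
  refine isThreeTranspositionClass_of_param _
    (fun v : {v : Fin n ⊕ Fin n → ZMod 2 // v ≠ 0} => sympTransvectionElt v.1 1) ?_
    ⟨Pi.single (Sum.inl ⟨0, hn⟩) 1, by simp⟩ ?_ (fun i => elt_sq i.1) ?_ ?_ ?_ ?_
  · ext g
    constructor
    · intro h
      obtain ⟨a, φ, ha, hφ, hg⟩ := exists_eq_add_smul_of_rank_sub_one h
      obtain ⟨c, hc, e⟩ := spTransv_of_rank_one sympBilin_isAlt sympBilin_nondegenerate
        (symplecticEquiv g) ha hφ fun x => by rw [symplecticEquiv_smul]; exact hg x
      rcases zmod_two_cases c with rfl | rfl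
      · exact absurd rfl hc
      · refine ⟨⟨a, ha⟩, symplecticEquiv.injective ?_⟩
        rw [e]
        exact symplecticEquiv_transvection a 1
    · rintro ⟨⟨v, hv⟩, rfl⟩
      obtain ⟨y, hy⟩ := exists_B_ne_zero (sympBilin_nondegenerate (m := n) (F := ZMod 2)) hv
      refine rank_sub_one_eq_one (φ := LinearMap.flip (sympBilin n (ZMod 2)) v) hv (z := y) ?_
        fun x => ?_
      · exact fun e => hy (sympBilin_isAlt.isRefl _ _ e)
      · exact (sympTransvection_mulVec v 1 x).trans (by rw [one_mul]; rfl)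
  · rintro ⟨v, hv⟩ h
    obtain ⟨y, hy⟩ := exists_B_ne_zero (sympBilin_nondegenerate (m := n) (F := ZMod 2)) hv
    have e : (sympTransvection n v (1 : ZMod 2)) *ᵥ y =
        (1 : Matrix (Fin n ⊕ Fin n) (Fin n ⊕ Fin n) (ZMod 2)) *ᵥ y :=
      congrArg (fun A : Matrix _ _ (ZMod 2) => A *ᵥ y) (congrArg Subtype.val h)
    rw [sympTransvection_mulVec, Matrix.one_mulVec, one_mul, add_eq_left, smul_eq_zero] at e
    rcases e with e | e
    · exact hy (sympBilin_isAlt.isRefl _ _ e)
    · exact hv e
  · rintro ⟨u, hu⟩ ⟨v, hv⟩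
    simp only [conj_self]
    rcases zmod_two_cases (sympBilin n (ZMod 2) v u) with h | h
    · exact Or.inl (by rw [h, zero_smul, add_zero])
    · right
      have h' : sympBilin n (ZMod 2) u v = 1 := by
        rw [← LinearMap.IsAlt.neg (sympBilin_isAlt (m := n) (F := ZMod 2)) v u, h]; rfl
      rw [h, h', one_smul, one_smul, add_comm]
  · rintro ⟨v, hv⟩
    obtain ⟨g, -, hg⟩ := transvGroup_trans_vec (sympBilin_isAlt (m := n) (F := ZMod 2))
      sympBilin_nondegenerate (v := Pi.single (Sum.inl ⟨0, hn⟩) (1 : ZMod 2)) (w := v) (by simp) hv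
    refine isConj_iff.2 ⟨symplecticEquiv.symm g, ?_⟩
    rw [conj_elt]
    congr 1
    rw [← symplecticEquiv_smul, MulEquiv.apply_symm_apply]
    exact hg
  · rintro g ⟨v, hv⟩
    rw [conj_elt]
    obtain ⟨y, hy⟩ := exists_B_ne_zero (sympBilin_nondegenerate (m := n) (F := ZMod 2)) hv
    have hgv : g.1 *ᵥ v ≠ 0 := fun e => by
      rw [← mem_symplecticGroup_iff_form.1 g.2 v y, e] at hy
      simp at hy
    obtain ⟨z, hz⟩ := exists_B_ne_zero (sympBilin_nondegenerate (m := n) (F := ZMod 2)) hgv
    refine rank_sub_one_eq_one (φ := LinearMap.flip (sympBilin n (ZMod 2)) (g.1 *ᵥ v)) hgv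
      (z := z) ?_ fun x => ?_
    · exact fun e => hz (sympBilin_isAlt.isRefl _ _ e)
    · exact (sympTransvection_mulVec _ 1 x).trans (by rw [one_mul]; rfl)
  · rw [eq_top_iff, ← closure_sympTransvectionSet, Subgroup.closure_le]
    rintro A ⟨w, c, hA⟩
    rw [show A = sympTransvectionElt w c from Subtype.ext hA]
    by_cases hz : w = 0 ∨ c = 0
    · have : sympTransvectionElt w c = 1 := by
        refine symplecticEquiv.injective ?_
        rw [map_one, symplecticEquiv_transvection]
        refine SpB.ext' fun x => ?_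
        rcases hz with rfl | rfl <;> simp
      rw [this]; exact one_mem _
    · push Not at hz
      rcases zmod_two_cases c with rfl | rfl
      · exact absurd rfl hz.2
      · obtain ⟨y, hy⟩ := exists_B_ne_zero (sympBilin_nondegenerate (m := n) (F := ZMod 2)) hz.1
        refine Subgroup.subset_closure (rank_sub_one_eq_one
          (φ := LinearMap.flip (sympBilin n (ZMod 2)) w) hz.1 (z := y)
          (fun e => hy (sympBilin_isAlt.isRefl _ _ e)) fun x => ?_)
        exact (sympTransvection_mulVec w 1 x).trans (by rw [one_mul]; rfl)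

end Cfsg.Agent.S0440
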