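import Cfsg.Statements.S0441
import Cfsg.Agent.Lib.Fischer.CommutingGraph
-- import your own Cfsg.Agent.* helpers here

set_option autoImplicit false
open Cfsg

namespace Cfsg.Agent.S0441

/-- Fischer's rank-three property. Let a finite group be generated by a conjugacy class D of 3-transpositions, with non-abelian simple commutator subgroup. Then for a in D there are members of D other than a commuting with a and members not commuting with a, and the centraliser of a acts transitively on each of these two sets. -/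
theorem result {G : Type*} [Group G] [Finite G] {D : Set G} (hD : Cfsg.IsThreeTranspositionClass D) (hsimple : IsSimpleGroup (commutator G)) (hnonab : ∃ x y : commutator G, x * y ≠ y * x) {a : G} (ha : a ∈ D) : (∃ b ∈ D, b ≠ a ∧ Commute a b) ∧ (∃ c ∈ D, ¬ Commute a c) ∧ (∀ b ∈ D, ∀ b' ∈ D, b ≠ a → b' ≠ a → Commute a b → Commute a b' → ∃ g : G, Commute g a ∧ g * b * g⁻¹ = b') ∧ (∀ c ∈ D, ∀ c' ∈ D, ¬ Commute a c → ¬ Commute a c' → ∃ g : G, Commute g a ∧ g * c * g⁻¹ = c') := by
  have hT := Cfsg.Agent.Fischer.TClass.of hD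
  have hnsol : ¬Group.IsSolvable (commutator G) := fun h => by
    obtain ⟨x, y, hxy⟩ := hnonab
    exact hxy (IsSimpleGroup.comm_iff_isSolvable.2 h x y)
  have hmin : ∀ N : Subgroup G, N.Normal → N ⊓ commutator G = ⊥ ∨ commutator G ≤ N := by
    intro N hN
    rcases hsimple.eq_bot_or_eq_top_of_normal (N.subgroupOf (commutator G)) inferInstance with h | h
    · left; rwa [← disjoint_iff, ← Subgroup.subgroupOf_eq_bot]
    · right; rwa [← Subgroup.subgroupOf_eq_top]
  have hsol : ∀ N : Subgroup G, N.Normal → Group.IsSolvable ↥N → N ≤ commutator G → N = ⊥ := by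
    intro N hN hs hle
    rcases hmin N hN with h | h
    · rwa [inf_eq_left.2 hle] at h
    · exact absurd (Group.isSolvable_of_isSolvable_injective
        (f := Subgroup.inclusion h) (Subgroup.inclusion_injective h)) hnsol
  have hw : ∀ v ∈ D, ∃ b ∈ D, b ≠ v ∧ Commute v b := by
    intro v hv
    by_contra h
    push Not at h
    have := hT.isSolvable_of_width_one fun p hp q hq hpq => by
      by_contra hne
      obtain ⟨g, rfl⟩ := hT.trans p hp v hv
      exact h _ (hT.conj g q hq) (fun e => hne (mul_left_cancel (mul_right_cancel e)).symm)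
        (hpq.conj g)
    exact hnsol inferInstance
  have h2 : ∃ c ∈ D, ¬Commute a c := by
    by_contra h
    push Not at h
    have hz : a ∈ Subgroup.center G := Subgroup.mem_center_iff.2 fun g => by
      have hle : Subgroup.closure D ≤ Subgroup.centralizer {a} :=
        (Subgroup.closure_le _).2 fun y hy => Subgroup.mem_centralizer_singleton_iff.2 (h y hy).symm.eq
      rw [hT.gen] at hle
      exact Subgroup.mem_centralizer_singleton_iff.1 (hle (Subgroup.mem_top g))
    obtain ⟨b, hb, hne, -⟩ := hw a ha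
    obtain ⟨g, hg⟩ := hT.trans a ha b hb
    apply hne
    rw [← hg, Subgroup.mem_center_iff.1 hz g, mul_inv_cancel_right]
  have comm : ∀ {g : G}, g * a * g⁻¹ = a → Commute g a := fun h => mul_inv_eq_iff_eq_mul.1 h
  refine ⟨hw a ha, h2, fun b hb b' hb' hba hba' hc hc' => ?_, fun c hc c' hc' hca hca' => ?_⟩
  · obtain ⟨g, hga, hgb⟩ := Cfsg.Agent.Fischer.perp_transitive_centralizer hT hsol ha
      ⟨hb, hba, hc⟩ ⟨hb', hba', hc'⟩
    exact ⟨g, comm hga, hgb⟩
  · obtain ⟨u, hu, hua, hau⟩ := hw a ha
    obtain ⟨g, hga, hgc⟩ := Cfsg.Agent.Fischer.nbr_transitive hT hsol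
      (Cfsg.Agent.Fischer.commuting_connected hT hmin ha hu hau hua.symm) ha ⟨hc, hca⟩ ⟨hc', hca'⟩
    exact ⟨g, comm hga, hgc⟩

end Cfsg.Agent.S0441
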