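import Cfsg.Statements.S0442
import Mathlib

set_option autoImplicit false
open Cfsg

namespace Cfsg.Agent.S0442

/-- A standard trick for producing elements of an involution centraliser: for an involution a and an element g, let b be the conjugate g⁻¹ * a * g. If a * b has odd order 2m + 1 then g * (a * b) ^ m commutes with a; if a * b has even order 2m then (a * b) ^ m and (a * (g * a * g⁻¹)) ^ m commute with a. -/
theorem result {G : Type*} [Group G] (a g : G) (ha : orderOf a = 2) : (∀ m : ℕ, orderOf (a * (g⁻¹ * a * g)) = 2 * m + 1 → Commute (g * (a * (g⁻¹ * a * g)) ^ m) a) ∧ (∀ m : ℕ, orderOf (a * (g⁻¹ * a * g)) = 2 * m → Commute ((a * (g⁻¹ * a * g)) ^ m) a ∧ Commute ((a * (g * a * g⁻¹)) ^ m) a) := by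
  have hA : a * a = 1 := by rw [← sq, ← ha, pow_orderOf_eq_one]
  have hAi : a⁻¹ = a := inv_eq_of_mul_eq_one_left hA
  have hB : (g⁻¹ * a * g)⁻¹ = g⁻¹ * a * g := by simp [mul_inv_rev, hAi, mul_assoc]
  have key : ∀ b : G, b⁻¹ = b → ∀ m : ℕ, a * (a * b) ^ m = ((a * b) ^ m)⁻¹ * a ∧
      b * (a * b) ^ m = ((a * b) ^ m)⁻¹ * b := by
    intro b hb m
    have hb2 : b * b = 1 := by nth_rw 1 [← hb]; exact inv_mul_cancel b
    constructor
    · have : SemiconjBy a (a * b) (a * b)⁻¹ := by
        show a * (a * b) = (a * b)⁻¹ * a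
        rw [mul_inv_rev, hb, hAi, ← mul_assoc, hA, one_mul, mul_assoc, hA, mul_one]
      have h := (this.pow_right m).eq
      rwa [inv_pow] at h
    · have : SemiconjBy b (a * b) (a * b)⁻¹ := by
        show b * (a * b) = (a * b)⁻¹ * b
        rw [mul_inv_rev, hb, hAi, mul_assoc]
      have h := (this.pow_right m).eq
      rwa [inv_pow] at h
  refine ⟨fun m hm => ?_, fun m hm => ?_⟩
  · set b := g⁻¹ * a * g with hbdef
    set c := (a * b) ^ m with hc
    have h1 : c * c * (a * b) = 1 := by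
      rw [hc, ← pow_add, ← pow_succ, ← two_mul, ← hm, pow_orderOf_eq_one]
    have h2 : b * c = c * a := by
      rw [(key b hB m).2]
      have : c⁻¹ = c * (a * b) := inv_eq_of_mul_eq_one_right (by rw [← mul_assoc]; exact h1)
      rw [this, mul_assoc, mul_assoc a b b]
      nth_rw 1 [← hB]
      simp
    show g * c * a = a * (g * c)
    rw [mul_assoc, ← h2, hbdef]
    group
  · have hgen : ∀ b : G, b⁻¹ = b → (a * b) ^ (2 * m) = 1 → Commute ((a * b) ^ m) a := by
      intro b hb h
      have : ((a * b) ^ m)⁻¹ = (a * b) ^ m :=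
        inv_eq_of_mul_eq_one_left (by rw [← pow_add, ← two_mul, h])
      exact ((key b hb m).1.trans (by rw [this])).symm
    refine ⟨hgen _ hB (hm ▸ pow_orderOf_eq_one _), hgen _ (by simp [mul_inv_rev, hAi, mul_assoc]) ?_⟩
    have h' : (a * (g * a * g⁻¹))⁻¹ = g * (a * (g⁻¹ * a * g)) * g⁻¹ := by
      simp [mul_inv_rev, hAi, mul_assoc]
    have : ((a * (g * a * g⁻¹))⁻¹) ^ (2 * m) = 1 := by
      rw [h', conj_pow, ← hm, pow_orderOf_eq_one, mul_one, mul_inv_cancel]
    rwa [inv_pow, inv_eq_one] at this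

end Cfsg.Agent.S0442
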