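import Cfsg.Statements.S0443
import Mathlib

set_option autoImplicit false
open Cfsg

namespace Cfsg.Agent.S0443

/-- Two definitions of a 2-central involution agree: an element t of order 2 of a finite group lies in the centre of some Sylow 2-subgroup if and only if its centraliser contains some Sylow 2-subgroup. -/
theorem result {G : Type*} [Group G] [Finite G] (t : G) (ht : orderOf t = 2) : Cfsg.IsTwoCentralInvolution t ↔ ∃ P : Sylow 2 G, (P : Subgroup G) ≤ Subgroup.centralizer ({t} : Set G) := by
  constructor
  · rintro ⟨-, P, -, hP⟩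
    exact ⟨P, fun x hx => Subgroup.mem_centralizer_singleton_iff.2 (hP x hx)⟩
  · rintro ⟨P, hP⟩
    haveI : Fact (Nat.Prime 2) := ⟨Nat.prime_two⟩
    have hc : ∀ x ∈ P, x * t = t * x := fun x hx => Subgroup.mem_centralizer_singleton_iff.1 (hP hx)
    have hQ : IsPGroup 2 (Subgroup.zpowers t) := by
      apply IsPGroup.of_card (n := 1)
      rw [Nat.card_zpowers, ht, pow_one]
    have hn : Subgroup.zpowers t ≤ Subgroup.normalizer ((P : Subgroup G) : Set G) := by
      rw [Subgroup.zpowers_le]
      refine Subgroup.mem_normalizer_iff.2 fun h => ⟨fun hh => ?_, fun hh => ?_⟩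
      · have : t * h * t⁻¹ = h := by rw [← hc h hh]; group
        rwa [this]
      · have h1 := hc _ hh
        have : t * h * t⁻¹ = h := by
          apply mul_left_cancel (a := t)
          rw [← h1]; group
        rwa [this] at hh
    have hsup := IsPGroup.to_sup_of_normal_right' hQ P.isPGroup' hn
    have hle : Subgroup.zpowers t ≤ (P : Subgroup G) :=
      le_sup_left.trans (P.is_maximal' hsup le_sup_right).le
    exact ⟨ht, P, hle (Subgroup.mem_zpowers t), hc⟩

end Cfsg.Agent.S0443
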