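import Cfsg.Statements.S0444
import Cfsg.Agent.Lib.Transpos.Basic

set_option autoImplicit false
open Cfsg

namespace Cfsg.Agent.S0444

/-- Two members of a set of 3-transpositions which do not commute generate a subgroup isomorphic to the symmetric group on three letters. -/
theorem result {G : Type*} [Group G] {E : Set G} (hE : Cfsg.IsThreeTranspositionSet E) {d e : G} (hd : d ∈ E) (he : e ∈ E) (h : ¬ Commute d e) : Nonempty (Subgroup.closure ({d, e} : Set G) ≃* Equiv.Perm (Fin 3)) := by
  have hne : d ≠ e := fun h' => h (h' ▸ Commute.refl d)
  set X := Subgroup.closure ({d, e} : Set G) with hX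
  have hd' : d ∈ X := Subgroup.subset_closure (by simp)
  have he' : e ∈ X := Subgroup.subset_closure (by simp)
  have dd := Transpos.sq_one hE hd
  have ee := Transpos.sq_one hE he
  have ddc := Transpos.mul_mul_cancel hE hd
  have eec := Transpos.mul_mul_cancel hE he
  have hb := Transpos.braid hE hd he h
  have hde1 : d * e ≠ 1 := fun h1 => hne (by rw [eq_inv_of_mul_eq_one_left h1, Transpos.inv_eq hE he])
  -- the three transpositions of the subgroup
  let T : Set G := {d, e, d * e * d}
  have hTX : ∀ t ∈ T, t ∈ X := by
    rintro t (rfl | rfl | rfl)
    · exact hd'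
    · exact he'
    · exact X.mul_mem (X.mul_mem hd' he') hd'
  have hdT : ∀ t ∈ T, d * t * d ∈ T := by
    rintro t (rfl | rfl | rfl)
    · left; rw [dd, one_mul]
    · right; right; rfl
    · right; left; simp [mul_assoc, ddc, dd]
  have heT : ∀ t ∈ T, e * t * e ∈ T := by
    rintro t (rfl | rfl | rfl)
    · right; right; exact hb.symm
    · right; left; rw [ee, one_mul]
    · left; rw [hb]; simp [mul_assoc, eec, ee]
  have hact2 : ∀ g ∈ X, ∀ t ∈ T, g * t * g⁻¹ ∈ T ∧ g⁻¹ * t * g ∈ T := by
    intro g hg
    induction hg using Subgroup.closure_induction with
    | mem x hx =>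
      rcases hx with rfl | rfl
      · intro t ht; rw [Transpos.inv_eq hE hd]; exact ⟨hdT t ht, hdT t ht⟩
      · intro t ht; rw [Transpos.inv_eq hE he]; exact ⟨heT t ht, heT t ht⟩
    | one => simp
    | mul x y _ _ hx hy =>
      intro t ht
      have h1 := (hx _ (hy t ht).1).1
      have h2 := (hy _ (hx t ht).2).2
      exact ⟨by simpa [mul_inv_rev, mul_assoc] using h1, by simpa [mul_inv_rev, mul_assoc] using h2⟩
    | inv x _ hx =>
      intro t ht
      rw [inv_inv]
      exact ⟨(hx t ht).2, (hx t ht).1⟩
  have hact : ∀ g ∈ X, ∀ t ∈ T, g * t * g⁻¹ ∈ T := fun g hg t ht => (hact2 g hg t ht).1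
  let ι : Fin 3 → G := ![d, e, d * e * d]
  have hιT : ∀ i, ι i ∈ T := by intro i; fin_cases i <;> simp [ι, T]
  have hTι : ∀ t ∈ T, ∃ i, ι i = t := by
    rintro t (rfl | rfl | rfl)
    exacts [⟨0, rfl⟩, ⟨1, rfl⟩, ⟨2, rfl⟩]
  have hι : Function.Injective ι := by
    have h02 : d ≠ d * e * d := fun h' => h (Transpos.commute_of_conj hE he (by
      rw [← hb]; exact h'.symm)).symm
    have h12 : e ≠ d * e * d := fun h' => h (Transpos.commute_of_conj hE hd h'.symm)
    intro i j hij
    fin_cases i <;> fin_cases j <;> simp_all [ι]
  choose φ hφ using fun (g : X) (i : Fin 3) => hTι _ (hact g g.2 _ (hιT i))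
  have hφinj : ∀ g, Function.Injective (φ g) := fun g i j hij => by
    have := congrArg ι hij
    rw [hφ, hφ] at this
    exact hι (by simpa using this)
  let F : X →* Equiv.Perm (Fin 3) :=
    { toFun := fun g => Equiv.ofBijective (φ g) (Finite.injective_iff_bijective.1 (hφinj g))
      map_one' := by
        ext i : 1
        apply hι
        simp [hφ]
      map_mul' := fun g g' => by
        ext i : 1
        apply hι
        simp [hφ, mul_assoc] }
  have hF : Function.Injective F := by
    rw [injective_iff_map_eq_one]
    intro g hg
    have hfix : ∀ i, (g : G) * ι i * (g : G)⁻¹ = ι i := fun i => by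
      rw [← hφ g i]
      exact congrArg ι (Equiv.ext_iff.1 hg i)
    -- g centralizes X, and the centre of X is trivial
    have hcom : ∀ i, Commute (g : G) (ι i) := fun i => mul_inv_eq_iff_eq_mul.1 (hfix i)
    have hmem : (g : G) = 1 ∨ (g : G) = d * e ∨ (g : G) = e * d ∨ (g : G) ∈ T := by
      have key : ∀ x ∈ X, x = 1 ∨ x = d * e ∨ x = e * d ∨ x ∈ T := by
        intro x hx
        induction hx using Subgroup.closure_induction_left with
        | one => left; rfl
        | mul_left x hx y _ hy =>
          rcases hx with rfl | rfl
          · rcases hy with rfl | rfl | rfl | rfl | rfl | rfl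
            · right; right; right; left; simp
            · right; right; right; right; left; exact ddc e
            · right; right; right; right; right; simp [mul_assoc]
            · left; exact dd
            · right; left; rfl
            · right; right; left; simp [mul_assoc, ddc]
          · rcases hy with rfl | rfl | rfl | rfl | rfl | rfl
            · right; right; right; right; left; simp
            · right; right; right; right; right; simp [hb, mul_assoc]
            · right; right; right; left; exact eec d
            · right; right; left; rfl
            · left; exact ee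
            · right; left; rw [hb]; simp [mul_assoc, eec]
        | inv_mul_cancel x hx y _ hy =>
          rcases hx with rfl | rfl
          · rw [Transpos.inv_eq hE hd]
            rcases hy with rfl | rfl | rfl | rfl | rfl | rfl
            · right; right; right; left; simp
            · right; right; right; right; left; exact ddc e
            · right; right; right; right; right; simp [mul_assoc]
            · left; exact dd
            · right; left; rfl
            · right; right; left; simp [mul_assoc, ddc]
          · rw [Transpos.inv_eq hE he]
            rcases hy with rfl | rfl | rfl | rfl | rfl | rfl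
            · right; right; right; right; left; simp
            · right; right; right; right; right; simp [hb, mul_assoc]
            · right; right; right; left; exact eec d
            · right; right; left; rfl
            · left; exact ee
            · right; left; rw [hb]; simp [mul_assoc, eec]
      exact key g g.2
    have c0 : Commute (g : G) d := hcom 0
    have c1 : Commute (g : G) e := hcom 1
    have h02 : d * e * d ≠ d := fun h' => by
      have := hι (show ι 2 = ι 0 from h'); simp at this
    have h12 : d * e * d ≠ e := fun h' => by
      have := hι (show ι 2 = ι 1 from h'); simp at this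
    have hde : (d * e) ≠ (e * d) := h
    apply Subtype.ext
    rcases hmem with hg1 | hg1 | hg1 | hg1 | hg1 | hg1
    · exact hg1
    · exfalso; apply hde
      rw [hg1] at c0
      have : d * (d * e * d) = d * (d * (d * e)) := by rw [c0.eq]
      rw [ddc] at this
      simpa [mul_assoc, ddc] using this.symm
    · exfalso; apply hde
      rw [hg1] at c0
      have h1 : e * d * d = d * (e * d) := c0.eq
      have h2 : e * (d * d) = d * e * d := by rw [← mul_assoc, h1, mul_assoc]
      rw [dd, mul_one] at h2
      exact absurd h2.symm h12
    · rw [hg1] at c1; exact absurd c1 h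
    · rw [hg1] at c0; exact absurd c0.symm h
    · exfalso
      rw [hg1] at c0
      apply h12
      have := Transpos.conj_of_commute hE hd c0.symm
      rw [Transpos.conj_involutive hE hd] at this
      exact this.symm
  have hs : Function.Surjective F := by
    have h6 : Nat.card (Equiv.Perm (Fin 3)) = 6 := by simp [Fintype.card_perm, Nat.factorial]
    have hX6 : 6 ∣ Nat.card X := by
      have h2 : 2 ∣ Nat.card X := hE.1 d hd ▸ (Subgroup.orderOf_mk d hd') ▸ orderOf_dvd_natCard (⟨d, hd'⟩ : X)
      have h3 : 3 ∣ Nat.card X := Transpos.orderOf_mul_eq_three hE hd he h ▸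
        (Subgroup.orderOf_mk (d * e) (X.mul_mem hd' he')) ▸ orderOf_dvd_natCard (⟨d * e, X.mul_mem hd' he'⟩ : X)
      exact Nat.Coprime.mul_dvd_of_dvd_of_dvd (by norm_num) h2 h3
    haveI : Finite X := Finite.of_injective F hF
    have h1 := Nat.card_le_card_of_injective F hF
    have h2 := Nat.le_of_dvd Nat.card_pos hX6
    exact ((Nat.bijective_iff_injective_and_card F).2 ⟨hF, by omega⟩).2
  exact ⟨MulEquiv.ofBijective F ⟨hF, hs⟩⟩

end Cfsg.Agent.S0444
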