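import Cfsg.Statements.S0445
import Mathlib

set_option autoImplicit false
open Cfsg

namespace Cfsg.Agent.S0445

abbrev F2 := ZMod 2

/-- The general matrix centralising the transvection. -/
def mk (a : Fin 4 → F2) (e : Fin 3 → F2) (M : Matrix (Fin 3) (Fin 3) F2) : Matrix (Fin 5) (Fin 5) F2 :=
  !![1, a 0, a 1, a 2, a 3;
     0, 1, 0, 0, 0;
     0, e 0, M 0 0, M 0 1, M 0 2;
     0, e 1, M 1 0, M 1 1, M 1 2;
     0, e 2, M 2 0, M 2 1, M 2 2]

theorem det_mk (a : Fin 4 → F2) (e : Fin 3 → F2) (M : Matrix (Fin 3) (Fin 3) F2) :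
    (mk a e M).det = M.det := by
  rw [Matrix.det_succ_column_zero]
  simp [mk, Fin.sum_univ_succ]
  rw [Matrix.det_succ_row_zero]
  simp [Fin.sum_univ_succ, Matrix.det_fin_three, Fin.succAbove]

theorem commute_iff (g : Matrix (Fin 5) (Fin 5) F2) :
    g * Matrix.transvection 0 1 1 = Matrix.transvection 0 1 1 * g ↔
      (g 1 0 = 0 ∧ g 2 0 = 0 ∧ g 3 0 = 0 ∧ g 4 0 = 0) ∧
      (g 1 2 = 0 ∧ g 1 3 = 0 ∧ g 1 4 = 0) ∧ g 0 0 = g 1 1 := by
  simp only [← Matrix.ext_iff, Fin.forall_fin_succ, Matrix.mul_apply, Fin.sum_univ_succ,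
    Matrix.transvection, Matrix.add_apply, Matrix.single, Matrix.of_apply, Matrix.one_apply]
  simp
  have key : ∀ a b c : F2, (a + b = b + c) ↔ a = c := fun a b c => by
    rw [add_comm b c, add_left_inj]
  simp only [key]
  aesop

theorem card_M : Fintype.card {M : Matrix (Fin 3) (Fin 3) F2 // M.det = 1} = 168 := by
  simp only [Matrix.det_fin_three]
  decide +kernel

/-- In the special linear group of dimension 5 over the field with two elements, the centraliser of a transvection has order 21504 = 2 ^ 7 · 168 (it is an extension of an extraspecial group of order 2 ^ 7 by the simple group of order 168). -/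
theorem result (s : Matrix.SpecialLinearGroup (Fin 5) (ZMod 2)) (hs : (s : Matrix (Fin 5) (Fin 5) (ZMod 2)) = Matrix.transvection 0 1 1) : Nat.card (Subgroup.centralizer ({s} : Set (Matrix.SpecialLinearGroup (Fin 5) (ZMod 2)))) = 21504 := by
  classical
  let f : (Fin 4 → F2) × (Fin 3 → F2) × {M : Matrix (Fin 3) (Fin 3) F2 // M.det = 1} →
      Subgroup.centralizer ({s} : Set (Matrix.SpecialLinearGroup (Fin 5) (ZMod 2))) := fun x =>
    ⟨⟨mk x.1 x.2.1 x.2.2.1, by rw [det_mk]; exact x.2.2.2⟩, by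
      refine Subgroup.mem_centralizer_singleton_iff.2 ?_
      apply Subtype.ext
      show mk x.1 x.2.1 x.2.2.1 * (s : Matrix (Fin 5) (Fin 5) (ZMod 2)) = _ * mk x.1 x.2.1 x.2.2.1
      rw [hs, commute_iff]
      simp [mk]⟩
  have hf : Function.Bijective f := by
    constructor
    · rintro ⟨a, e, M⟩ ⟨a', e', M'⟩ h
      have h1 : mk a e M.1 = mk a' e' M'.1 := congrArg
        (fun g : Subgroup.centralizer ({s} : Set (Matrix.SpecialLinearGroup (Fin 5) (ZMod 2))) =>
          ((g : Matrix.SpecialLinearGroup (Fin 5) (ZMod 2)) : Matrix (Fin 5) (Fin 5) (ZMod 2))) h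
      simp only [← Matrix.ext_iff, Fin.forall_fin_succ, mk] at h1
      simp at h1
      refine Prod.ext (funext fun i => ?_) (Prod.ext (funext fun i => ?_) (Subtype.ext ?_))
      · fin_cases i <;> simp_all
      · fin_cases i <;> simp_all
      · ext i j; fin_cases i <;> fin_cases j <;> simp_all
    · rintro ⟨⟨g, hg1⟩, hg⟩
      have hgc := Subgroup.mem_centralizer_singleton_iff.1 hg
      have hg' : g * Matrix.transvection 0 1 1 = Matrix.transvection 0 1 1 * g := by
        have := congrArg (fun h : Matrix.SpecialLinearGroup (Fin 5) (ZMod 2) =>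
          (h : Matrix (Fin 5) (Fin 5) (ZMod 2))) hgc
        rw [← hs]
        exact this
      obtain ⟨⟨c1, c2, c3, c4⟩, ⟨r2, r3, r4⟩, hd⟩ := (commute_iff g).1 hg'
      have h00 : g 0 0 = 1 := by
        have h : g.det = g 0 0 * (g.submatrix (Fin.succAbove 0) Fin.succ).det := by
          rw [Matrix.det_succ_column_zero]
          simp [Fin.sum_univ_succ, c1, c2, c3, c4]
        rw [hg1] at h
        generalize g 0 0 = x at h ⊢
        generalize (g.submatrix (Fin.succAbove 0) Fin.succ).det = y at h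
        revert x y; decide
      let a : Fin 4 → F2 := ![g 0 1, g 0 2, g 0 3, g 0 4]
      let e : Fin 3 → F2 := ![g 2 1, g 3 1, g 4 1]
      let M : Matrix (Fin 3) (Fin 3) F2 :=
        !![g 2 2, g 2 3, g 2 4; g 3 2, g 3 3, g 3 4; g 4 2, g 4 3, g 4 4]
      have hmk : mk a e M = g := by
        simp only [← Matrix.ext_iff, Fin.forall_fin_succ, mk, a, e, M]
        simp [c1, c2, c3, c4, r2, r3, r4, h00, ← hd]
      exact ⟨(a, e, ⟨M, by rw [← det_mk a e, hmk, hg1]⟩), Subtype.ext (Subtype.ext hmk)⟩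
  rw [← Nat.card_congr (Equiv.ofBijective f hf), Nat.card_prod, Nat.card_prod,
    Nat.card_eq_fintype_card (α := {M : Matrix (Fin 3) (Fin 3) F2 // M.det = 1}), card_M]
  simp

end Cfsg.Agent.S0445
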