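import Cfsg.Statements.S0447
import Cfsg.Agent.Lib.SpinCover.Eight
import Cfsg.Agent.Lib.Involution.Dihedral

set_option autoImplicit false
open Cfsg

namespace Cfsg.Agent.S0447

/-- An involution of `A_n`, `n ≤ 7`, is a double transposition. -/
theorem cycleType_involution {n : ℕ} (hn : n ≤ 7) {σ : Equiv.Perm (Fin n)}
    (hev : σ ∈ alternatingGroup (Fin n)) (h2 : σ * σ = 1) (h1 : σ ≠ 1) :
    σ.cycleType = {2, 2} := by
  have hord : orderOf σ = 2 := orderOf_eq_prime (by rw [sq, h2]) h1
  obtain ⟨m, hm⟩ := Equiv.Perm.cycleType_prime_order (by rw [hord]; exact Nat.prime_two)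
  rw [hord] at hm
  have hsum := σ.sum_cycleType
  have hsup := σ.support.card_le_univ
  rw [Fintype.card_fin] at hsup
  rw [hm, Multiset.sum_replicate, smul_eq_mul] at hsum
  have hsign : Equiv.Perm.sign σ = 1 := Equiv.Perm.mem_alternatingGroup.1 hev
  rw [Equiv.Perm.sign_of_cycleType, hm, Multiset.sum_replicate, Multiset.card_replicate,
    smul_eq_mul] at hsign
  have hm2 : m ≤ 2 := by omega
  interval_cases m
  · exact absurd hsign (by decide)
  · rw [hm]; rfl
  · exact absurd hsign (by decide)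

theorem mem_alt_four {n : ℕ} (hn : n ≤ 7) {σ : Equiv.Perm (Fin n)}
    (hev : σ ∈ alternatingGroup (Fin n)) (h2 : σ * σ = 1) (h1 : σ ≠ 1) : 4 ≤ n := by
  have := σ.sum_cycleType
  rw [cycleType_involution hn hev h2 h1] at this
  have hsup := σ.support.card_le_univ
  rw [Fintype.card_fin] at hsup
  simp at this
  omega

/-- All involutions of `A_n`, `n ≤ 7`, are conjugate. -/
theorem isConj_involution {n : ℕ} (hn : n ≤ 7) {σ τ : alternatingGroup (Fin n)}
    (hσ : σ * σ = 1) (hσ1 : σ ≠ 1) (hτ : τ * τ = 1) (hτ1 : τ ≠ 1) : IsConj σ τ := by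
  have hs : (σ : Equiv.Perm (Fin n)) * σ = 1 := congrArg Subtype.val hσ
  have hs1 : (σ : Equiv.Perm (Fin n)) ≠ 1 := fun h => hσ1 (Subtype.ext h)
  have ht : (τ : Equiv.Perm (Fin n)) * τ = 1 := congrArg Subtype.val hτ
  have ht1 : (τ : Equiv.Perm (Fin n)) ≠ 1 := fun h => hτ1 (Subtype.ext h)
  obtain ⟨c, hc⟩ := isConj_iff.1 ((Equiv.Perm.isConj_iff_cycleType_eq).2
    ((cycleType_involution hn σ.2 hs hs1).trans (cycleType_involution hn τ.2 ht ht1).symm))
  by_cases hev : c ∈ alternatingGroup (Fin n)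
  · exact isConj_iff.2 ⟨⟨c, hev⟩, Subtype.ext hc⟩
  obtain ⟨a, ha⟩ : ∃ a, (σ : Equiv.Perm (Fin n)) a ≠ a := by
    by_contra hcon
    push Not at hcon
    exact hs1 (Equiv.ext hcon)
  set w := Equiv.swap a ((σ : Equiv.Perm (Fin n)) a) with hw
  have hfix : (σ : Equiv.Perm (Fin n)) * w * (σ : Equiv.Perm (Fin n))⁻¹ = w := by
    rw [hw, ← Equiv.swap_apply_apply,
      show (σ : Equiv.Perm (Fin n)) ((σ : Equiv.Perm (Fin n)) a) = a from Equiv.ext_iff.1 hs a,
      Equiv.swap_comm]
  have hodd : Equiv.Perm.sign c = -1 :=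
    (Int.units_eq_one_or _).resolve_left fun h => hev (Equiv.Perm.mem_alternatingGroup.2 h)
  refine isConj_iff.2 ⟨⟨c * w, ?_⟩, Subtype.ext ?_⟩
  · rw [Equiv.Perm.mem_alternatingGroup, Equiv.Perm.sign_mul, hodd,
      Equiv.Perm.sign_swap (Ne.symm ha)]
    rfl
  · show c * w * σ * (c * w)⁻¹ = τ
    rw [← hc, mul_inv_rev, mul_assoc c w, ← mul_inv_eq_iff_eq_mul.1 hfix]
    simp [mul_assoc]

/-- Generators of a Sylow `2`-subgroup of `A_n`, `4 ≤ n ≤ 7`. -/
theorem exists_sylow_gens {n : ℕ} (h4 : 4 ≤ n) (hn : n ≤ 7) :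
    ∃ (s t : alternatingGroup (Fin n)) (m : ℕ), s * s = 1 ∧ t * t = 1 ∧ s ≠ 1 ∧ t ≠ 1 ∧
      (m = 2 ∨ m = 4) ∧ orderOf (s * t) = m ∧
      Function.Injective (fun x : Bool × Fin m => cond x.1 s 1 * (s * t) ^ x.2.val) ∧
      Odd ((Nat.card (alternatingGroup (Fin n))) / (2 * m)) := by
  haveI := Fact.mk Nat.prime_two
  interval_cases n
  · refine ⟨⟨Equiv.swap 0 1 * Equiv.swap 2 3, Equiv.Perm.mem_alternatingGroup.2 (by decide)⟩,
      ⟨Equiv.swap 0 2 * Equiv.swap 1 3, Equiv.Perm.mem_alternatingGroup.2 (by decide)⟩, 2, by decide, by decide, by decide, by decide,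
      Or.inl rfl, orderOf_eq_prime (by decide) (by decide), by decide, ?_⟩
    rw [nat_card_alternatingGroup, Nat.card_fin]; decide
  · refine ⟨⟨Equiv.swap 0 1 * Equiv.swap 2 3, Equiv.Perm.mem_alternatingGroup.2 (by decide)⟩,
      ⟨Equiv.swap 0 2 * Equiv.swap 1 3, Equiv.Perm.mem_alternatingGroup.2 (by decide)⟩, 2, by decide, by decide, by decide, by decide,
      Or.inl rfl, orderOf_eq_prime (by decide) (by decide), by decide, ?_⟩
    rw [nat_card_alternatingGroup, Nat.card_fin]; decide
  · refine ⟨⟨Equiv.swap 0 2 * Equiv.swap 4 5, Equiv.Perm.mem_alternatingGroup.2 (by decide)⟩,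
      ⟨Equiv.swap 0 1 * Equiv.swap 2 3, Equiv.Perm.mem_alternatingGroup.2 (by decide)⟩, 4, by decide, by decide, by decide, by decide,
      Or.inr rfl, orderOf_eq_prime_pow (p := 2) (n := 1) (by decide) (by decide), by decide, ?_⟩
    rw [nat_card_alternatingGroup, Nat.card_fin]; decide
  · refine ⟨⟨Equiv.swap 0 2 * Equiv.swap 4 5, Equiv.Perm.mem_alternatingGroup.2 (by decide)⟩,
      ⟨Equiv.swap 0 1 * Equiv.swap 2 3, Equiv.Perm.mem_alternatingGroup.2 (by decide)⟩, 4, by decide, by decide, by decide, by decide,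
      Or.inr rfl, orderOf_eq_prime_pow (p := 2) (n := 1) (by decide) (by decide), by decide, ?_⟩
    rw [nat_card_alternatingGroup, Nat.card_fin]; decide

/-- A central subgroup of order two with all involutions of a dihedral Sylow image lifting to
involutions has a complement. -/
theorem complement_of_lifts {H A : Type*} [Group H] [Group A] [Finite H] (π : H →* A)
    (hπ : Function.Surjective π) (hker : π.ker = Subgroup.center H)
    (hZ : Nat.card (Subgroup.center H) = 2)
    (hlift : ∀ y : H, π y * π y = 1 → π y ≠ 1 → y * y = 1)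
    {s t : A} {m : ℕ} (hs : s * s = 1) (ht : t * t = 1) (hs1 : s ≠ 1) (ht1 : t ≠ 1)
    (hm : m = 2 ∨ m = 4) (hord : orderOf (s * t) = m)
    (hinj : Function.Injective (fun x : Bool × Fin m => cond x.1 s 1 * (s * t) ^ x.2.val))
    (hodd : Odd (Nat.card A / (2 * m))) :
    ∃ L : Subgroup H, (Subgroup.center H).IsComplement' L := by
  haveI : Finite A := Finite.of_surjective π hπ
  have hm0 : 0 < m := by omega
  haveI : NeZero m := ⟨by omega⟩
  obtain ⟨s', rfl⟩ := hπ s
  obtain ⟨t', rfl⟩ := hπ t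
  have hs' := hlift s' hs hs1
  have ht' := hlift t' ht ht1
  obtain ⟨zc, hz1, huniq⟩ := (Nat.card_eq_two_iff' (1 : Subgroup.center H)).1 hZ
  set z : H := zc.1 with hzdef
  have hzπ : π z = 1 := π.mem_ker.1 (hker ▸ zc.2)
  have hzne : z ≠ 1 := fun h => hz1 (Subtype.ext h)
  have hZmem : ∀ {y : H}, π y = 1 → y = 1 ∨ y = z := by
    intro y hy
    have hy' : y ∈ Subgroup.center H := hker ▸ π.mem_ker.2 hy
    by_cases hy1 : y = 1
    · exact Or.inl hy1
    · exact Or.inr (congrArg Subtype.val (huniq ⟨y, hy'⟩ (fun h => hy1 (congrArg Subtype.val h))))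
  have hzcomm : ∀ y : H, y * z = z * y := fun y => Subgroup.mem_center_iff.1 zc.2 y
  have hzz : z * z = 1 := by
    rcases hZmem (y := z * z) (by rw [map_mul, hzπ, one_mul]) with h | h
    · exact h
    · exact absurd (mul_eq_left.1 h) hzne
  -- `(s' t')^m = 1`
  have hr : (s' * t') ^ m = 1 := by
    rcases hZmem (y := (s' * t') ^ m) (by rw [map_pow, map_mul, ← hord, pow_orderOf_eq_one]) with
      h | h
    · exact h
    exfalso
    have h1 : π ((s' * t') ^ (m / 2)) ≠ 1 := by
      rw [map_pow, map_mul]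
      exact pow_ne_one_of_lt_orderOf (by omega) (by omega)
    have h2 := hlift _ (by
      rw [map_pow, map_mul, ← pow_add, show m / 2 + m / 2 = m by omega, ← hord,
        pow_orderOf_eq_one]) h1
    rw [← pow_add, show m / 2 + m / 2 = m by omega, h] at h2
    exact hzne h2
  set L₀ := Subgroup.closure ({s', t'} : Set H) with hL₀
  set S := L₀.map π with hS
  -- membership in `S` and `L₀`
  have hmem : ∀ l ∈ L₀, ∃ x : Bool × Fin m, l = cond x.1 s' 1 * (s' * t') ^ x.2.val := by
    intro l hl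
    obtain ⟨k, hk⟩ := Involution.mem_closure_pair_cases hs' ht' hl
    obtain ⟨j, hj⟩ : ∃ j : Fin m, (s' * t') ^ k = (s' * t') ^ j.val := by
      have h0 : 0 ≤ k % (m : ℤ) := Int.emod_nonneg _ (by omega)
      have h1 : k % (m : ℤ) < m := Int.emod_lt_of_pos _ (by omega)
      refine ⟨⟨(k % (m : ℤ)).toNat, by omega⟩, ?_⟩
      conv_lhs => rw [← Int.emod_add_mul_ediv k m]
      rw [zpow_add, zpow_mul, zpow_natCast (s' * t') m, hr, one_zpow, mul_one, ← zpow_natCast,
        Int.toNat_of_nonneg h0]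
    rcases hk with rfl | rfl
    · exact ⟨(false, j), by simp [hj]⟩
    · exact ⟨(true, j), by simp [hj]⟩
  have hπc : ∀ x : Bool × Fin m, π (cond x.1 s' 1 * (s' * t') ^ x.2.val) =
      cond x.1 (π s') 1 * (π s' * π t') ^ x.2.val := by
    rintro ⟨b, j⟩; cases b <;> simp
  have hLinj : ∀ l ∈ L₀, π l = 1 → l = 1 := by
    intro l hl h1
    obtain ⟨x, rfl⟩ := hmem l hl
    have h0 : x = (false, (0 : Fin m)) := hinj ((hπc x).symm.trans (h1.trans (by simp)))
    subst h0
    simp
  have hzL : z ∉ L₀ := fun h => hzne (hLinj z h hzπ)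
  have hcardS : Nat.card S = 2 * m := by
    have hrange : (S : Set A) =
        Set.range (fun x : Bool × Fin m => cond x.1 (π s') 1 * (π s' * π t') ^ x.2.val) := by
      ext a
      constructor
      · rintro ⟨l, hl, rfl⟩
        obtain ⟨x, rfl⟩ := hmem l hl
        exact ⟨x, (hπc x).symm⟩
      · rintro ⟨⟨b, j⟩, rfl⟩
        refine ⟨cond b s' 1 * (s' * t') ^ j.val, mul_mem ?_ (pow_mem
          (mul_mem (Involution.left_mem_closure_pair _ _) (Involution.right_mem_closure_pair _ _)) _),
          hπc (b, j)⟩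
        cases b
        · exact one_mem _
        · exact Involution.left_mem_closure_pair _ _
    rw [← SetLike.coe_sort_coe, hrange, Nat.card_range_of_injective hinj]
    simp
  set P := S.comap π with hP
  have hidx : Odd P.index := by
    have h := S.card_mul_index
    rw [hcardS] at h
    rw [hP, Subgroup.index_comap_of_surjective _ hπ]
    rwa [← h, Nat.mul_div_cancel_left _ (by omega)] at hodd
  classical
  have hsplit : ∀ p ∈ P, p ∈ L₀ ∨ p * z ∈ L₀ := by
    intro p hp
    obtain ⟨l, hl, hlp⟩ := (hp : π p ∈ S)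
    rcases hZmem (y := p⁻¹ * l) (by rw [map_mul, map_inv, hlp, inv_mul_cancel]) with h | h
    · left; rwa [inv_mul_eq_one.1 h]
    · right
      rw [← inv_mul_eq_iff_eq_mul.1 h]
      exact hl
  let χ : P →* Multiplicative (ZMod 2) :=
    { toFun := fun p => if (p : H) ∈ L₀ then 1 else Multiplicative.ofAdd 1
      map_one' := if_pos L₀.one_mem
      map_mul' := fun p q => by
        simp only [Subgroup.coe_mul]
        by_cases hp : (p : H) ∈ L₀ <;> by_cases hq : (q : H) ∈ L₀
        · rw [if_pos hp, if_pos hq, if_pos (mul_mem hp hq), one_mul]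
        · rw [if_pos hp, if_neg hq, if_neg (fun h => hq ((L₀.mul_mem_cancel_left hp).1 h)), one_mul]
        · rw [if_neg hp, if_pos hq, if_neg (fun h => hp ((L₀.mul_mem_cancel_right hq).1 h)), mul_one]
        · have h1 := mul_mem ((hsplit _ p.2).resolve_left hp) ((hsplit _ q.2).resolve_left hq)
          rw [mul_assoc (p : H) z, ← mul_assoc z, ← hzcomm (q : H), mul_assoc (q : H) z z, hzz,
            mul_one] at h1
          rw [if_neg hp, if_neg hq, if_pos h1]
          rfl }
  have htr : MonoidHom.transfer χ z = Multiplicative.ofAdd 1 := by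
    rw [MonoidHom.transfer_eq_pow χ z fun k g₀ _ => by
      have hc : Commute g₀ (z ^ k) := (Commute.pow_right (hzcomm g₀) k)
      rw [mul_assoc, ← hc.eq, inv_mul_cancel_left]]
    obtain ⟨j, hj⟩ := hidx
    show (if z ^ P.index ∈ L₀ then _ else _) = _
    rw [hj, pow_succ, pow_mul, sq, hzz, one_pow, one_mul, if_neg hzL]
  set N := (MonoidHom.transfer χ).ker with hN
  refine ⟨N, Subgroup.isComplement'_of_card_mul_and_disjoint ?_ ?_⟩
  · have hsurj : Function.Surjective (MonoidHom.transfer χ) := by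
      intro a
      have hall : ∀ a : Multiplicative (ZMod 2), a = 1 ∨ a = Multiplicative.ofAdd 1 := by decide
      rcases hall a with rfl | rfl
      · exact ⟨1, map_one _⟩
      · exact ⟨z, htr⟩
    rw [hZ, ← N.card_mul_index, hN, Subgroup.index_ker, MonoidHom.range_eq_top.2 hsurj,
      Subgroup.card_top, Nat.card_congr Multiplicative.toAdd, Nat.card_zmod]
    ring
  · rw [Subgroup.disjoint_def]
    intro y hy hyN
    rcases hZmem (π.mem_ker.1 (hker ▸ hy)) with h | rfl
    · exact h
    · exact absurd ((MonoidHom.transfer χ).mem_ker.1 hyN) (by rw [htr]; decide)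

/-- Involutions in double covers of alternating groups: for n ≤ 7, a finite non-split double cover of the alternating group of degree n has exactly one element of order 2 (the central one); for degree 8 there is a non-split double cover with two distinct involutions. -/
theorem result : (∀ (n : ℕ) (H : Type) (_ : Group H) (_ : Finite H), n ≤ 7 → Cfsg.IsNonsplitDoubleCover H (alternatingGroup (Fin n)) → ∀ x y : H, orderOf x = 2 → orderOf y = 2 → x = y) ∧ ∃ (H : Type) (_ : Group H) (_ : Finite H), Cfsg.IsNonsplitDoubleCover H (alternatingGroup (Fin 8)) ∧ ∃ x y : H, x ≠ y ∧ orderOf x = 2 ∧ orderOf y = 2 := by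
  constructor
  · intro n H _ _ hn hcov x y hx hy
    obtain ⟨hZ, ⟨e⟩, hnc⟩ := hcov
    let π : H →* alternatingGroup (Fin n) := e.toMonoidHom.comp (QuotientGroup.mk' (Subgroup.center H))
    have hπ : Function.Surjective π := e.surjective.comp (QuotientGroup.mk'_surjective _)
    have hker : π.ker = Subgroup.center H := by
      ext g
      simp [π, MonoidHom.mem_ker]
    obtain ⟨zc, hz1, huniq⟩ := (Nat.card_eq_two_iff' (1 : Subgroup.center H)).1 hZ
    suffices h : ∀ x : H, orderOf x = 2 → π x = 1 by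
      have hval : ∀ w : H, orderOf w = 2 → w = zc.1 := fun w hw =>
        congrArg Subtype.val (huniq ⟨w, hker ▸ π.mem_ker.2 (h w hw)⟩
          (fun h0 => by
            have h1 : w = 1 := congrArg Subtype.val h0
            rw [h1, orderOf_one] at hw
            exact absurd hw (by norm_num)))
      rw [hval x hx, hval y hy]
    intro w hw
    by_contra hw1
    have hw2 : w * w = 1 := by rw [← sq, ← hw, pow_orderOf_eq_one]
    have hπw : π w * π w = 1 := by rw [← map_mul, hw2, map_one]
    have hlift : ∀ v : H, π v * π v = 1 → π v ≠ 1 → v * v = 1 := by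
      intro v hv hv1
      obtain ⟨c, hc⟩ := isConj_iff.1 (isConj_involution hn hπw hw1 hv hv1)
      obtain ⟨c', rfl⟩ := hπ c
      have hk : (c' * w * c'⁻¹)⁻¹ * v ∈ Subgroup.center H := by
        rw [← hker, π.mem_ker, map_mul, map_inv, map_mul, map_mul, map_inv, hc, inv_mul_cancel]
      have hk2 : ((c' * w * c'⁻¹)⁻¹ * v) * ((c' * w * c'⁻¹)⁻¹ * v) = 1 := by
        by_cases h1 : (c' * w * c'⁻¹)⁻¹ * v = 1
        · rw [h1, one_mul]
        · have hzz : zc.1 * zc.1 = 1 := by
            have := pow_card_eq_one' (x := zc)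
            rw [hZ] at this
            rw [← sq]; exact congrArg Subtype.val this
          have := congrArg Subtype.val (huniq ⟨_, hk⟩ fun h0 => h1 (congrArg Subtype.val h0))
          simp only at this
          rw [this, hzz]
      have hwc : c' * w * c'⁻¹ * (c' * w * c'⁻¹) = 1 := by
        rw [conj_mul, hw2, mul_one, mul_inv_cancel]
      have hcomm : Commute (c' * w * c'⁻¹) ((c' * w * c'⁻¹)⁻¹ * v) :=
        Subgroup.mem_center_iff.1 hk _
      calc v * v = (c' * w * c'⁻¹ * ((c' * w * c'⁻¹)⁻¹ * v)) * (c' * w * c'⁻¹ * ((c' * w * c'⁻¹)⁻¹ * v)) := by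
            rw [mul_inv_cancel_left]
        _ = 1 := by rw [hcomm.symm.mul_mul_mul_comm, hwc, hk2, one_mul]
    have h4 : 4 ≤ n := mem_alt_four hn (π w).2 (congrArg Subtype.val hπw)
      (fun h => hw1 (Subtype.ext h))
    obtain ⟨s, t, m, hs, ht, hs1, ht1, hm, hord, hinj, hodd⟩ := exists_sylow_gens h4 hn
    obtain ⟨L, hL⟩ := complement_of_lifts π hπ hker hZ hlift hs ht hs1 ht1 hm hord hinj hodd
    exact hnc L hL
  · refine ⟨SpinCover.cover, inferInstance, inferInstance, ⟨SpinCover.card_center, ⟨?_⟩,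
      SpinCover.no_complement⟩, SpinCover.exists_two_involutions⟩
    exact (QuotientGroup.quotientMulEquivOfEq SpinCover.center_eq_ker).trans
      (QuotientGroup.quotientKerEquivOfSurjective _ SpinCover.proj_surjective)

end Cfsg.Agent.S0447
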