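import Cfsg.Statements.S0455
import Cfsg.Agent.Lib.J3Order.Final
import Cfsg.Agent.Lib.HallJankoType.Main

set_option autoImplicit false
open Cfsg

namespace Cfsg.Agent.S0455

/-- Janko's second and third groups: let G be finite simple with a 2-central involution t whose centraliser C contains a normal extraspecial subgroup E of order 32 with C/E isomorphic to the alternating group of degree 5. Then G has order 604800 or 50232960. -/
theorem result {G : Type*} [Group G] [Finite G] [IsSimpleGroup G] (t : G) (ht : Cfsg.IsTwoCentralInvolution t) (E : Subgroup (Subgroup.centralizer ({t} : Set G))) [E.Normal] (hE : Nat.card E = 32) (hX : Cfsg.IsExtraspecial 2 E) (e : (Subgroup.centralizer ({t} : Set G)) ⧸ E ≃* alternatingGroup (Fin 5)) : Cfsg.IsJ2 G ∨ Cfsg.IsJ3 G := by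
  obtain ⟨S, hS⟩ := J3Order.exists_frame ht.1 E hE hX e
  subst hS
  by_cases hone : ∀ x : G, x * x = 1 → x ≠ 1 → IsConj S.z x
  · exact Or.inr ⟨inferInstance, ({ toFrame := S, one := hone } : J3Order.One G).card_G⟩
  · push Not at hone
    obtain ⟨x, h2, h1, hx⟩ := hone
    obtain ⟨u, hu, hne, hconj⟩ := S.exists_conj_in_Q
    let J : HallJankoType.Setup G :=
      { z := S.z, hz := S.hz, Q := S.Q, ψ := S.ψ, ψ_surj := S.ψ_surj, ψ_ker := S.ψ_ker, Q_le := S.Q_le,
        extra := S.extra, card_Q := S.card_Q, self := S.self, nwc := ⟨u, hu, hne, hconj⟩,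
        two_classes := ⟨S.z, x, S.hz, orderOf_eq_prime (by rw [pow_two, h2]) h1, hx⟩ }
    exact Or.inl ⟨inferInstance, J.card_group⟩

end Cfsg.Agent.S0455
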