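import Cfsg.Statements.S0481
import Mathlib

set_option autoImplicit false
open Cfsg
open scoped Pointwise

namespace Cfsg.Agent.S0481

/-- Large extraspecial subgroups: let z be an involution of a finite group G whose centraliser C contains a normal 2-subgroup Q with centre of order 2 and all squares central, such that every element of G centralising Q lies in Q. Then C contains a Sylow 2-subgroup of G, and any involution of G whose centraliser contains a Sylow 2-subgroup of G is conjugate to z. -/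
theorem result {G : Type*} [Group G] [Finite G] (z : G) (hz : orderOf z = 2) (Q : Subgroup G) (hQC : Q ≤ Subgroup.centralizer ({z} : Set G)) (hQn : ∀ g ∈ Subgroup.centralizer ({z} : Set G), ∀ q ∈ Q, g * q * g⁻¹ ∈ Q) (hQ2 : IsPGroup 2 Q) (hZ : Nat.card (Subgroup.center Q) = 2) (hsq : ∀ x : Q, x ^ 2 ∈ Subgroup.center Q) (hlarge : Subgroup.centralizer (Q : Set G) ≤ Q) : (∃ P : Sylow 2 G, (P : Subgroup G) ≤ Subgroup.centralizer ({z} : Set G)) ∧ ∀ u : G, orderOf u = 2 → (∃ P : Sylow 2 G, (P : Subgroup G) ≤ Subgroup.centralizer ({u} : Set G)) → IsConj z u := by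
  haveI : Fact (Nat.Prime 2) := ⟨Nat.prime_two⟩
  -- `z` lies in and generates the centre of `Q`
  have hzQ : z ∈ Q := hlarge (Subgroup.mem_centralizer_iff.2 fun q hq =>
    Subgroup.mem_centralizer_singleton_iff.1 (hQC hq))
  have hone : ∀ x ∈ Q, (∀ q ∈ Q, q * x = x * q) → x = 1 ∨ x = z := by
    intro x hx hc
    let zc : Subgroup.center Q := ⟨⟨z, hzQ⟩, Subgroup.mem_center_iff.2 fun q =>
      Subtype.ext (Subgroup.mem_centralizer_singleton_iff.1 (hQC q.2))⟩
    let xc : Subgroup.center Q := ⟨⟨x, hx⟩, Subgroup.mem_center_iff.2 fun q => Subtype.ext (hc q q.2)⟩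
    obtain ⟨y, -, huniq⟩ := (Nat.card_eq_two_iff' (1 : Subgroup.center Q)).1 hZ
    have hz1 : zc ≠ 1 := by
      intro h
      have : z = 1 := congrArg (fun w : Subgroup.center Q => ((w : Q) : G)) h
      simp [this] at hz
    by_cases hx1 : xc = 1
    · left; exact congrArg (fun w : Subgroup.center Q => ((w : Q) : G)) hx1
    · right
      exact congrArg (fun w : Subgroup.center Q => ((w : Q) : G))
        ((huniq xc hx1).trans (huniq zc hz1).symm)
  -- a Sylow `2`-subgroup of `C(z)` over `Q` inside a Sylow `2`-subgroup of `G`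
  set C := Subgroup.centralizer ({z} : Set G) with hC
  obtain ⟨T, hT⟩ := (hQ2.of_equiv (Subgroup.subgroupOfEquivOfLe hQC).symm).exists_le_sylow
  set T' := (T : Subgroup C).map C.subtype with hT'
  have hT'C : T' ≤ C := Subgroup.map_subtype_le _
  have hT2 : IsPGroup 2 T' := T.isPGroup'.map _
  obtain ⟨P, hP⟩ := hT2.exists_le_sylow
  have hQT : Q ≤ T' := fun q hq => ⟨⟨q, hQC hq⟩, hT hq, rfl⟩
  have hmax : ∀ g ∈ P, g ∈ C → g ∈ T' := by
    intro g hgP hgC
    have hle : (T : Subgroup C) ≤ (P : Subgroup G).subgroupOf C :=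
      fun x hx => hP ⟨x, hx, rfl⟩
    have hp : IsPGroup 2 ((P : Subgroup G).subgroupOf C) :=
      P.isPGroup'.comap_of_injective _ C.subtype_injective
    exact ⟨⟨g, hgC⟩, (T.is_maximal' hp hle).le hgP, rfl⟩
  have hPC : (P : Subgroup G) ≤ C := by
    haveI : Finite (P : Subgroup G) := inferInstance
    haveI : Group.IsNilpotent (P : Subgroup G) := P.isPGroup'.isNilpotent
    by_contra hne
    have hlt : T'.subgroupOf P < ⊤ := lt_top_iff_ne_top.2 fun h =>
      hne fun g hg => hT'C (Subgroup.subgroupOf_eq_top.1 h hg)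
    obtain ⟨g, hgn, hgT⟩ := SetLike.exists_of_lt
      (normalizerCondition_of_isNilpotent (T'.subgroupOf P) hlt)
    apply hgT
    apply hmax g g.2
    -- conjugation by `g` fixes `z`
    have hzT : z ∈ T' := hQT hzQ
    have h1 : ∀ x : G, x ∈ T' → (g : G) * x * (g : G)⁻¹ ∈ T' := by
      intro x hx
      exact (Subgroup.mem_normalizer_iff.1 hgn ⟨x, hP hx⟩).1 hx
    have h1' : ∀ x : G, x ∈ T' → (g : G)⁻¹ * x * (g : G) ∈ T' := by
      intro x hx
      have := (Subgroup.mem_normalizer_iff.1 ((Subgroup.normalizer _).inv_mem hgn) ⟨x, hP hx⟩).1 hx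
      simpa [Subgroup.mem_subgroupOf] using this
    have hw := h1 z hzT
    have hcw : ∀ x ∈ T', x * ((g : G) * z * (g : G)⁻¹) = ((g : G) * z * (g : G)⁻¹) * x := by
      intro x hx
      have := Subgroup.mem_centralizer_singleton_iff.1 (hT'C (h1' x hx))
      have h2 : (g : G) * ((g : G)⁻¹ * x * g * z) * (g : G)⁻¹ =
          (g : G) * (z * ((g : G)⁻¹ * x * g)) * (g : G)⁻¹ := by rw [this]
      simpa [mul_assoc] using h2
    have hwQ : (g : G) * z * (g : G)⁻¹ ∈ Q :=
      hlarge (Subgroup.mem_centralizer_iff.2 fun q hq => hcw q (hQT hq))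
    rcases hone _ hwQ (fun q hq => hcw q (hQT hq)) with h | h
    · exfalso
      rw [conj_eq_one_iff] at h
      simp [h] at hz
    · exact Subgroup.mem_centralizer_singleton_iff.2 (mul_inv_eq_iff_eq_mul.1 h)
  refine ⟨⟨P, hPC⟩, fun u hu ⟨P', hP'⟩ => ?_⟩
  obtain ⟨g, hg⟩ := MulAction.exists_smul_eq G P' P
  have hgu : ∀ x ∈ P, x * (g * u * g⁻¹) = g * u * g⁻¹ * x := by
    intro x hx
    rw [← hg] at hx
    have hx' : g⁻¹ * x * g ∈ (P' : Subgroup G) := by
      have : x ∈ MulAut.conj g • (P' : Subgroup G) := hx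
      rw [Subgroup.mem_pointwise_smul_iff_inv_smul_mem] at this
      exact (by simpa using this : g⁻¹ * x * g ∈ (P' : Subgroup G))
    have := Subgroup.mem_centralizer_singleton_iff.1 (hP' hx')
    have h2 : g * (g⁻¹ * x * g * u) * g⁻¹ = g * (u * (g⁻¹ * x * g)) * g⁻¹ := by rw [this]
    simpa [mul_assoc] using h2
  have huQ : g * u * g⁻¹ ∈ Q :=
    hlarge (Subgroup.mem_centralizer_iff.2 fun q hq => hgu q (hP (hQT hq)))
  rcases hone _ huQ (fun q hq => hgu q (hP (hQT hq))) with h | h
  · exfalso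
    rw [conj_eq_one_iff] at h
    simp [h] at hu
  · exact (isConj_iff.2 ⟨g, h⟩).symm

end Cfsg.Agent.S0481
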