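import Cfsg.Statements.S0489
import Cfsg.Agent.Lib.TwoGenSolvable.Top

set_option autoImplicit false
set_option linter.style.haveILetI false
open Cfsg

namespace Cfsg.Agent.S0489

open Subgroup

universe u

theorem of_card : ∀ (n : ℕ) (G : Type u) [Group G] [Finite G], Nat.card G = n →
    (∀ a b : G, Group.IsSolvable (Subgroup.closure ({a, b} : Set G))) → Group.IsSolvable G := by
  intro n
  induction n using Nat.strong_induction_on with
  | _ n ih =>
    intro G _ _ hn h
    by_contra hns
    have hlt : ∀ H : Subgroup G, H ≠ ⊤ → Group.IsSolvable H := by
      intro H hH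
      refine ih _ ?_ H rfl fun a b => ?_
      · rw [← hn]
        exact lt_of_le_of_ne (Subgroup.card_le_card_group H)
          fun e => hH (Subgroup.eq_top_of_card_eq H e)
      · have e : (Subgroup.closure ({a, b} : Set H)).map H.subtype =
            Subgroup.closure ({(a : G), (b : G)} : Set G) := by
          rw [MonoidHom.map_closure, Set.image_pair]; rfl
        have φ := (Subgroup.closure ({a, b} : Set H)).equivMapOfInjective H.subtype H.subtype_injective
        haveI := h (a : G) b
        rw [← e] at this
        exact Group.isSolvable_of_surjective φ.symm.surjective (f := φ.symm.toMonoidHom)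
    have hpair : ∀ a b : G, Subgroup.closure ({a, b} : Set G) ≠ ⊤ := by
      intro a b e
      haveI := h a b
      rw [e] at this
      exact hns (Group.isSolvable_of_surjective Subgroup.topEquiv.surjective
        (f := (Subgroup.topEquiv : (⊤ : Subgroup G) ≃* G).toMonoidHom))
    haveI : Nontrivial G := by
      by_contra hc
      rw [not_nontrivial_iff_subsingleton] at hc
      exact hns (Group.isSolvable_of_comm fun a b => Subsingleton.elim _ _)
    have hsimple : IsSimpleGroup G := ⟨fun N hN => by
      haveI := hN
      by_contra hcon
      push Not at hcon
      obtain ⟨hN1, hN2⟩ := hcon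
      haveI := hlt N hN2
      haveI : Group.IsSolvable (G ⧸ N) := by
        refine ih _ ?_ (G ⧸ N) rfl fun a b => ?_
        · rw [← hn, Subgroup.card_eq_card_quotient_mul_card_subgroup N]
          haveI : Nontrivial N := (Subgroup.nontrivial_iff_ne_bot N).2 hN1
          exact lt_mul_of_one_lt_right Nat.card_pos Finite.one_lt_card
        · obtain ⟨a, rfl⟩ := QuotientGroup.mk'_surjective N a
          obtain ⟨b, rfl⟩ := QuotientGroup.mk'_surjective N b
          haveI := h a b
          have e : (Subgroup.closure ({a, b} : Set G)).map (QuotientGroup.mk' N) =
              Subgroup.closure ({QuotientGroup.mk' N a, QuotientGroup.mk' N b} : Set (G ⧸ N)) := by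
            rw [MonoidHom.map_closure, Set.image_pair]
          rw [← e]
          exact Group.isSolvable_of_surjective
            (MonoidHom.subgroupMap_surjective (QuotientGroup.mk' N) _)
      exact hns (Group.isSolvable_of_ker_le_range N.subtype (QuotientGroup.mk' N)
        (by rw [QuotientGroup.ker_mk', Subgroup.range_subtype]))⟩
    exact TwoGenSolvable.MinCE.false ⟨hsimple, hns, hlt, hpair⟩


/-- A finite group in which every two elements generate a solvable subgroup is solvable. -/
theorem result {G : Type*} [Group G] [Finite G]
    (h : ∀ a b : G, Group.IsSolvable (Subgroup.closure ({a, b} : Set G))) : Group.IsSolvable G := by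
  exact of_card _ G rfl h

end Cfsg.Agent.S0489
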