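import Cfsg.Statements.S0501
import Cfsg.Agent.Lib.SecRank.NoNormalEight

set_option autoImplicit false
open Cfsg

namespace Cfsg.Agent.S0501

/-- A finite 2-group in which every normal elementary abelian subgroup has order at most 4 has sectional rank at most
4: every quotient of every subgroup has no elementary abelian subgroup of order exceeding 16. -/
theorem result {P : Type*} [Group P] [Finite P] (hP : IsPGroup 2 P)
    (h : ∀ A : Subgroup P, A.Normal → IsMulCommutative A → (∀ a ∈ A, a ^ 2 = 1) → Nat.card A ≤ 4) :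
    Cfsg.SectionalPRankLE 2 4 P := by
  have hno : Cfsg.Agent.SecRank.NoEight P := fun E hE hexp => by
    refine h E hE ⟨⟨fun a b => Subtype.ext ?_⟩⟩ fun a ha => by rw [pow_two]; exact hexp a ha
    show (a : P) * b = b * a
    have hinv : ∀ x ∈ E, x⁻¹ = x := fun x hx => inv_eq_of_mul_eq_one_right (hexp x hx)
    calc (a : P) * b = ((a : P) * b)⁻¹ := (hinv _ (mul_mem a.2 b.2)).symm
      _ = b * a := by rw [mul_inv_rev, hinv _ a.2, hinv _ b.2]
  refine Cfsg.Agent.SecRank.sectional_of_sq fun N H hNH => ?_
  simpa using Cfsg.Agent.SecRank.card_le_sixteen_mul_of_noEight hP hno hNH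

end Cfsg.Agent.S0501
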