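import Cfsg.Statements.S0502
import Mathlib

set_option autoImplicit false
open Cfsg

namespace Cfsg.Agent.S0502

/-- If a finite 2-group has a normal elementary abelian subgroup of order at least 8, then any two of its Klein
four-subgroups are joined by a chain of Klein four-subgroups with consecutive members commuting elementwise. -/
theorem result {P : Type*} [Group P] [Finite P] (hP : IsPGroup 2 P)
    (E : Subgroup P) [E.Normal] (hE : IsMulCommutative E) (hE2 : ∀ e ∈ E, e ^ 2 = 1) (hE8 : 8 ≤ Nat.card E) :
    Cfsg.IsFourConnected P := by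
  haveI : Fact (Nat.Prime 2) := ⟨Nat.prime_two⟩
  have hEc : ∀ a ∈ E, ∀ b ∈ E, a * b = b * a := fun a ha b hb =>
    congrArg Subtype.val (hE.is_comm.comm (⟨a, ha⟩ : E) ⟨b, hb⟩)
  let R := fun A B : Subgroup P => IsKleinFour A ∧ IsKleinFour B ∧ ∀ a ∈ A, ∀ b ∈ B, a * b = b * a
  have four : ∀ a b : P, a * a = 1 → b * b = 1 → a * b = b * a → a ≠ 1 → b ≠ 1 → a ≠ b →
      ∃ A : Subgroup P, IsKleinFour A ∧ a ∈ A ∧ b ∈ A ∧ ∀ x ∈ A, x = 1 ∨ x = a ∨ x = b ∨ x = a * b := by
    intro a b haa hbb hab ha hb hne
    have hainv : a⁻¹ = a := inv_eq_of_mul_eq_one_left haa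
    have hbinv : b⁻¹ = b := inv_eq_of_mul_eq_one_left hbb
    let A : Subgroup P :=
      { carrier := {1, a, b, a * b}
        one_mem' := by simp
        mul_mem' := by
          have h1 : ∀ x, a * (a * x) = x := fun x => by rw [← mul_assoc, haa, one_mul]
          have h2 : ∀ x, b * (b * x) = x := fun x => by rw [← mul_assoc, hbb, one_mul]
          have h3 : ∀ x, b * (a * x) = a * (b * x) := fun x => by rw [← mul_assoc, ← hab, mul_assoc]
          rintro x y (rfl | rfl | rfl | rfl) (rfl | rfl | rfl | rfl) <;>
            simp [mul_assoc, haa, hbb, h1, h2, h3, ← hab]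
        inv_mem' := by
          rintro x (rfl | rfl | rfl | rfl) <;> simp [hainv, hbinv, ← hab] }
    refine ⟨A, ⟨?_, ?_⟩, Or.inr (Or.inl rfl), Or.inr (Or.inr (Or.inl rfl)), fun x hx => hx⟩
    · show Nat.card A = 4
      have : Nat.card A = ({1, a, b, a * b} : Set P).ncard := Nat.card_coe_set_eq _
      rw [this]
      have h4 : a * b ≠ 1 := fun h => hne (by rw [eq_inv_of_mul_eq_one_left h, hbinv])
      have h5 : a ≠ a * b := fun h => hb (mul_eq_left.1 h.symm)
      have h6 : b ≠ a * b := fun h => ha (mul_eq_right.1 h.symm)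
      rw [Set.ncard_insert_of_notMem (by simp [ha.symm, hb.symm, h4.symm]),
        Set.ncard_insert_of_notMem (by simp [hne, h5]),
        Set.ncard_insert_of_notMem (by simp [h6]), Set.ncard_singleton]
    · haveI : Nontrivial A := ⟨⟨1, A.one_mem⟩, ⟨a, Or.inr (Or.inl rfl)⟩, fun h => ha (congrArg Subtype.val h).symm⟩
      apply Monoid.exponent_eq_prime_iff Nat.prime_two |>.2
      intro x hx
      refine orderOf_eq_prime ?_ hx
      apply Subtype.ext
      rw [sq]
      show (x : P) * x = 1
      rcases x.2 with h | h | h | h <;> rw [h]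
      · simp
      · exact haa
      · exact hbb
      · rw [mul_assoc, ← mul_assoc b a b, ← hab, mul_assoc a b b, hbb, mul_one, haa]
  -- every involution has at least four fixed points on `E`
  have fixed : ∀ u : P, u * u = 1 → ∀ k : P, ∃ w ∈ E, u * w = w * u ∧ w ≠ 1 ∧ w ≠ k := by
    intro u hu k
    by_contra hcon
    push Not at hcon
    have hsub : ∀ w ∈ E, u * w = w * u → w = 1 ∨ w = k :=
      fun w hw hc => or_iff_not_imp_left.2 (hcon w hw hc)
    have hui : u⁻¹ = u := inv_eq_of_mul_eq_one_left hu
    have huu : ∀ x, u * (u * x) = x := fun x => by rw [← mul_assoc, hu, one_mul]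
    have hcw : ∀ e ∈ E, u * e * u ∈ E := fun e he => by
      have := ‹E.Normal›.conj_mem e he u
      rwa [hui] at this
    let f : E →* P :=
      { toFun := fun e => (e : P) * (u * e * u)
        map_one' := by simp [hu]
        map_mul' := fun x y => by
          show (x : P) * y * (u * (x * y) * u) = (x : P) * (u * x * u) * ((y : P) * (u * y * u))
          have h1 : u * ((x : P) * y) * u = (u * x * u) * (u * y * u) := by simp [mul_assoc, huu]
          rw [h1]
          calc (x : P) * y * (u * x * u * (u * y * u)) = x * (y * (u * x * u)) * (u * y * u) := by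
                simp [mul_assoc]
            _ = x * ((u * x * u) * y) * (u * y * u) := by rw [hEc _ y.2 _ (hcw _ x.2)]
            _ = _ := by simp [mul_assoc] }
    classical
    have h2 : ∀ {H : Subgroup E}, (∀ e ∈ H, (e : P) = 1 ∨ (e : P) = k) → Nat.card H ≤ 2 := by
      intro H hH
      have hinj : Function.Injective (fun e : H => decide (((e : E) : P) = 1)) := by
        intro x y hxy
        apply Subtype.ext; apply Subtype.ext
        simp only [decide_eq_decide] at hxy
        rcases hH _ x.2 with hx | hx <;> rcases hH _ y.2 with hy | hy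
        · rw [hx, hy]
        · rw [hx, hxy.1 hx]
        · rw [hy, hxy.2 hy]
        · rw [hx, hy]
      simpa using Nat.card_le_card_of_injective _ hinj
    have hker : Nat.card f.ker ≤ 2 := by
      refine h2 fun e he => hsub _ e.2 ?_
      have h1 : (e : P) * (u * e * u) = 1 := he
      have h3 : u * e * u = (e : P) := by
        rw [eq_inv_of_mul_eq_one_right h1]
        exact inv_eq_of_mul_eq_one_left (by rw [← sq]; exact hE2 _ e.2)
      calc u * (e : P) = u * e * u * u := by rw [mul_assoc (u * (e : P)) u u, hu, mul_one]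
        _ = (e : P) * u := by rw [h3]
    have hran : Nat.card f.range ≤ 2 := by
      have hle : f.range ≤ E := by
        rintro x ⟨e, rfl⟩
        exact E.mul_mem e.2 (hcw e e.2)
      rw [← Nat.card_congr (Subgroup.subgroupOfEquivOfLe hle).toEquiv]
      refine h2 fun e he => ?_
      obtain ⟨d, hd⟩ := he
      refine hsub _ e.2 ?_
      change f d = (e : P) at hd
      rw [← hd]
      show u * ((d : P) * (u * d * u)) = (d : P) * (u * d * u) * u
      have hx := hEc _ d.2 _ (hcw _ d.2)
      simp only [mul_assoc, huu, hu, mul_one] at hx ⊢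
      rw [hx]
      simp [mul_assoc, huu]
    have hcard := f.ker.card_mul_index
    rw [Subgroup.index_ker] at hcard
    nlinarith
  -- four-groups inside `E` form a clique
  have hclique : ∀ A B : Subgroup P, IsKleinFour A → IsKleinFour B → A ≤ E → B ≤ E → R A B :=
    fun A B hA hB hAE hBE => ⟨hA, hB, fun a ha b hb => hEc a (hAE ha) b (hBE hb)⟩
  have hsymm : ∀ A B, R A B → R B A := fun A B h => ⟨h.2.1, h.1, fun b hb a ha => (h.2.2 a ha b hb).symm⟩
  -- every four-group is connected to one inside `E`
  have hreach : ∀ U : Subgroup P, IsKleinFour U →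
      ∃ W : Subgroup P, IsKleinFour W ∧ W ≤ E ∧ Relation.ReflTransGen R U W ∧ Relation.ReflTransGen R W U := by
    intro U hU
    haveI := hU
    have hUsq : ∀ x ∈ U, x * x = 1 := fun x hx => congrArg Subtype.val (IsKleinFour.mul_self (⟨x, hx⟩ : U))
    have hUc : ∀ x ∈ U, ∀ y ∈ U, x * y = y * x := by
      intro x hx y hy
      have h1 := hUsq _ (U.mul_mem hx hy)
      rw [eq_inv_of_mul_eq_one_left h1, mul_inv_rev, inv_eq_of_mul_eq_one_left (hUsq x hx),
        inv_eq_of_mul_eq_one_left (hUsq y hy)]
    by_cases hUE : U ≤ E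
    · exact ⟨U, hU, hUE, .refl, .refl⟩
    obtain ⟨u, huU, huE⟩ := SetLike.not_le_iff_exists.1 hUE
    have hu1 : u ≠ 1 := fun h => huE (h ▸ E.one_mem)
    have huq := hUsq u huU
    have hui : u⁻¹ = u := inv_eq_of_mul_eq_one_left huq
    obtain ⟨v, hvU, hv1, hvu⟩ : ∃ v ∈ U, v ≠ 1 ∧ v ≠ u := by
      by_contra h
      push Not at h
      have hle : U ≤ Subgroup.zpowers u := fun x hx => by
        by_cases hx1 : x = 1
        · exact hx1 ▸ Subgroup.one_mem _
        · exact h x hx hx1 ▸ Subgroup.mem_zpowers u
      have h4 : Nat.card U = 4 := IsKleinFour.card_four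
      have h5 := Subgroup.card_le_of_le hle
      rw [Nat.card_zpowers, h4] at h5
      have h6 : orderOf u ≤ 2 := orderOf_le_of_pow_eq_one two_pos (by rw [sq, huq])
      omega
    obtain ⟨w₀, hw₀E, huw₀, hw₀1, -⟩ := fixed u huq 1
    -- an element of `E` centralised by `U`
    obtain ⟨w, hwE, hwu, hwv, hw1⟩ : ∃ w ∈ E, u * w = w * u ∧ v * w = w * v ∧ w ≠ 1 := by
      by_cases hc : v * w₀ = w₀ * v
      · exact ⟨w₀, hw₀E, huw₀, hc, hw₀1⟩
      have hvv := hUsq v hvU
      have hvi : v⁻¹ = v := inv_eq_of_mul_eq_one_left hvv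
      have hv' : v * w₀ * v ∈ E := by
        have := ‹E.Normal›.conj_mem w₀ hw₀E v
        rwa [hvi] at this
      have hvvc : ∀ x, v * (v * x) = x := fun x => by rw [← mul_assoc, hvv, one_mul]
      refine ⟨w₀ * (v * w₀ * v), E.mul_mem hw₀E hv', ?_, ?_, ?_⟩
      · have e1 : Commute u w₀ := huw₀
        have e2 : Commute u v := hUc u huU v hvU
        exact (e1.mul_right ((e2.mul_right e1).mul_right e2)).eq
      · have hx := hEc _ hw₀E _ hv'
        simp only [mul_assoc, hvvc, hvv, mul_one] at hx ⊢
        rw [hx]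
        simp [mul_assoc, hvvc]
      · intro h
        apply hc
        have h' : v * w₀ * v = w₀ := by
          rw [eq_inv_of_mul_eq_one_right h]
          exact inv_eq_of_mul_eq_one_left (by rw [← sq]; exact hE2 _ hw₀E)
        calc v * w₀ = v * w₀ * v * v := by rw [mul_assoc (v * w₀) v v, hvv, mul_one]
          _ = w₀ * v := by rw [h']
    obtain ⟨A, hA, huA, hwA, hAmem⟩ := four u w huq (by rw [← sq]; exact hE2 w hwE) hwu hu1 hw1
      (fun h => huE (h ▸ hwE))
    obtain ⟨w', hw'E, huw', hw'1, hw'w⟩ := fixed u huq w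
    obtain ⟨W, hW, hwW, hw'W, hWmem⟩ := four w w' (by rw [← sq]; exact hE2 w hwE)
      (by rw [← sq]; exact hE2 w' hw'E) (hEc w hwE w' hw'E) hw1 hw'1 (Ne.symm hw'w)
    have hWE : W ≤ E := by
      intro x hx
      rcases hWmem x hx with rfl | rfl | rfl | rfl
      exacts [E.one_mem, hwE, hw'E, E.mul_mem hwE hw'E]
    have hUA : R U A := by
      refine ⟨hU, hA, fun a ha b hb => ?_⟩
      have haw : Commute a w := by
        -- `U` is generated by `u` and `v`
        have hu' : Commute u w := hwu
        have hv' : Commute v w := hwv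
        have hm : a = 1 ∨ a = u ∨ a = v ∨ a = u * v := by
          by_contra h
          simp only [not_or] at h
          have h4 : Nat.card U = 4 := IsKleinFour.card_four
          have hsub : ({1, u, v, u * v, a} : Set P) ⊆ U := by
            rintro x (rfl | rfl | rfl | rfl | rfl)
            exacts [U.one_mem, huU, hvU, U.mul_mem huU hvU, ha]
          have h5 := Set.ncard_le_ncard hsub
          have e1 : u * v ≠ 1 := fun h => hvu (by rw [eq_inv_of_mul_eq_one_right h, hui])
          have e2 : u ≠ u * v := fun h => hv1 (mul_eq_left.1 h.symm)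
          have e3 : v ≠ u * v := fun h => hu1 (mul_eq_right.1 h.symm)
          rw [Set.ncard_insert_of_notMem (by simp [hu1.symm, hv1.symm, e1.symm, Ne.symm h.1]),
            Set.ncard_insert_of_notMem (by simp [hvu.symm, e2, Ne.symm h.2.1]),
            Set.ncard_insert_of_notMem (by simp [e3, Ne.symm h.2.2.1]),
            Set.ncard_insert_of_notMem (by simp [Ne.symm h.2.2.2]),
            Set.ncard_singleton, ← Nat.card_coe_set_eq] at h5
          exact absurd (h5.trans_eq h4) (by norm_num)
        rcases hm with rfl | rfl | rfl | rfl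
        · exact Commute.one_left w
        · exact hu'
        · exact hv'
        · exact hu'.mul_left hv'
      have hau : Commute a u := hUc a ha u huU
      rcases hAmem b hb with rfl | rfl | rfl | rfl
      exacts [(Commute.one_right a).eq, hau.eq, haw.eq, (hau.mul_right haw).eq]
    have hAW : R A W := by
      refine ⟨hA, hW, fun a ha b hb => ?_⟩
      have hcu : Commute u b := by
        rcases hWmem b hb with rfl | rfl | rfl | rfl
        exacts [Commute.one_right u, hwu, huw', Commute.mul_right hwu huw']
      have hcw' : Commute w b := hEc w hwE b (hWE hb)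
      rcases hAmem a ha with rfl | rfl | rfl | rfl
      exacts [(Commute.one_left b).eq, hcu.eq, hcw'.eq, (hcu.mul_left hcw').eq]
    exact ⟨W, hW, hWE, (Relation.ReflTransGen.single hUA).tail hAW,
      (Relation.ReflTransGen.single (hsymm _ _ hAW)).tail (hsymm _ _ hUA)⟩
  intro U V hU hV
  obtain ⟨A, hA, hAE, h1, -⟩ := hreach U hU
  obtain ⟨B, hB, hBE, -, h2⟩ := hreach V hV
  exact (h1.tail (hclique A B hA hB hAE hBE)).trans h2

end Cfsg.Agent.S0502
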