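import Cfsg.Statements.S0505
import Cfsg.Agent.Lib.LocalChar.Basic
import Cfsg.Agent.Lib.PCore.HallHigman

set_option autoImplicit false
open Cfsg

namespace Cfsg.Agent.S0505

/-- Let G be a finite group of even order in which the centralizer of every involution is solvable and has trivial
core (no nontrivial normal subgroup of odd order). Then G is of characteristic 2 type. -/
theorem result {G : Type*} [Group G] [Finite G]
    (h2 : Even (Nat.card G))
    (hs : ∀ t : G, orderOf t = 2 → Group.IsSolvable (Subgroup.centralizer ({t} : Set G)))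
    (hc : ∀ t : G, orderOf t = 2 → Cfsg.oddCore (Subgroup.centralizer ({t} : Set G)) = ⊥) :
    Cfsg.IsCharacteristicTwoType G := by
  haveI : Fact (Nat.Prime 2) := ⟨Nat.prime_two⟩
  refine ⟨h2, fun T hT hne => ?_⟩
  haveI : Nontrivial T := T.nontrivial_iff_ne_bot.2 hne
  haveI := hT.center_nontrivial
  obtain ⟨k, hk⟩ := (hT.to_subgroup (Subgroup.center T)).exists_card_eq
  have hdvd : 2 ∣ Nat.card (Subgroup.center T) := by
    rw [hk]
    apply dvd_pow_self
    rintro rfl
    rw [pow_zero] at hk
    exact absurd hk (Finite.one_lt_card (α := Subgroup.center T)).ne'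
  obtain ⟨z, hz⟩ := exists_prime_orderOf_dvd_card' 2 hdvd
  have ho : orderOf ((z : T) : G) = 2 := by rwa [Subgroup.orderOf_coe, Subgroup.orderOf_coe]
  haveI := hs _ ho
  exact LocalChar.cp_normalizer_of_centralizer_elem hT (z : T).2
    (fun x hx => congrArg Subtype.val (Subgroup.mem_center_iff.1 z.2 ⟨x, hx⟩))
    (PCore.centralizer_pCore_le_of_isSolvable (hc _ ho))

end Cfsg.Agent.S0505
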