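import Cfsg.Statements.S0518
import Cfsg.Agent.Lib.JComponent.Residual


set_option autoImplicit false
open Cfsg Cfsg.Agent.JComponent

namespace Cfsg.Agent.S0518

/-- Let G be a finite group of characteristic 2 type with trivial 2-core in which every 2-local subgroup is solvable
and, for every Sylow 2-subgroup S, the centralizer of the set of central involutions of S lies in the normalizer of S.
Then either G has a strongly embedded subgroup, or the subgroup generated by the elements of odd order has two distinct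
maximal 2-local subgroups, each isomorphic to the symmetric group of degree 4, whose intersection has order 8. -/
theorem result {G : Type*} [Group G] [Finite G]
    (hL : Cfsg.IsCharacteristicTwoType G) (hO : Cfsg.pCore 2 G = ⊥)
    (hN : ∀ N : Subgroup G, Cfsg.IsTwoLocal N → Group.IsSolvable N)
    (hZ : ∀ S : Sylow 2 G,
      Subgroup.centralizer {z : G | z ∈ (S : Subgroup G) ∧ z ^ 2 = 1 ∧ ∀ s ∈ (S : Subgroup G), s * z = z * s} ≤
        Subgroup.normalizer ((S : Subgroup G) : Set G))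
    (H : Subgroup G) (hH : H = Subgroup.closure {g : G | Odd (orderOf g)}) :
    (∃ K : Subgroup G, Cfsg.IsStronglyEmbedded K) ∨
      ∃ M₁ M₂ : Subgroup H, M₁ ≠ M₂ ∧ Cfsg.IsMaximalTwoLocal M₁ ∧ Cfsg.IsMaximalTwoLocal M₂ ∧
        Nonempty (M₁ ≃* Equiv.Perm (Fin 4)) ∧ Nonempty (M₂ ≃* Equiv.Perm (Fin 4)) ∧ Nat.card ↥(M₁ ⊓ M₂) = 8 := by
  subst hH
  have : Fact (Nat.Prime 2) := ⟨Nat.prime_two⟩
  have hZ' : ∀ S : Sylow 2 G, Subgroup.centralizer (omegaCenterOf (S : Subgroup G) : Set G) ≤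
      Subgroup.normalizer ((S : Subgroup G) : Set G) := fun S =>
    le_trans (Subgroup.centralizer_le fun z hz =>
      mem_omegaCenterOf hz.1 (fun s hs => hz.2.2 s hs) hz.2.1) (hZ S)
  have hG : ZN G := ⟨hL, hN, hZ'⟩
  obtain ⟨S⟩ : Nonempty (Sylow 2 G) := inferInstance
  have hS2 : 2 ∣ Nat.card ↥(S : Subgroup G) :=
    S.dvd_card_of_dvd_card (even_iff_two_dvd.mp hL.1)
  have hJ : jOf (S : Subgroup G) ≠ ⊥ := PGroup.thompsonSubgroupOf_ne_bot hS2
  obtain ⟨M, hMmax, hMJ⟩ := exists_maximal_twoLocal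
    (X := Subgroup.normalizer (jOf (S : Subgroup G) : Set G)) ⟨_, isPGroup_j S.2, hJ, rfl⟩
  rcases (straddlingTwoSubgroups M).eq_empty_or_nonempty with hempty | hne
  · exact Or.inl ⟨M, (Cfsg.Agent.S2947.result hL hN hZ' hO S M hMmax.1 hMJ).mpr hempty⟩
  right
  obtain ⟨T, hT⟩ := exists_maxStraddling hne
  have hMJT := max_normalizer_le hT S hMJ
  obtain ⟨K, hK⟩ := exists_component_outside hT hMJT hL hN hZ'
  obtain ⟨L, h⟩ := sit_of_outside hG hT hMJT hK
  obtain ⟨P, hTP⟩ := hT.1.1.exists_le_sylow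
  by_cases hTeq : T = P
  · subst hTeq
    obtain ⟨L₂, K₂, e⟩ := sylow_edge hG (L := L) (K := K)
      ⟨ref_of_sylow hL P, h.comp, comp_not_le h.comp P.2, h.syl, h.max, h.le, h.uniq⟩ hO
    have hout : ∀ {A B A' B' : Subgroup G}, Edge (P : Subgroup G) A B A' B' →
        Nat.card ↥(hOf (P : Subgroup G) B) = 2 → ∀ x ∈ hOf (P : Subgroup G) B, x ≠ 1 →
          x ∉ oddCl G := fun {A B A' B'} e h2 x hx hx1 =>
      e.h_not_mem hG h2 le_rfl
        (LocalStructure.le_normalizer_sup e.left.t_normW e.right.t_normW)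
        (by rw [(e.local_eq hG).2.2.2.2, h2]; norm_num) hx hx1 (fun _ hc => hc)
    exact e.residual_locals hG (hout e) (hout e.symm)
  · obtain ⟨g, hgP, hgT, hgL⟩ := h.exists_g hTP hTeq
    have e := h.lower_edge hG hTP hgP hgT hgL
    have hout : Nat.card ↥(hOf T K) = 2 → ∀ x ∈ hOf T K, x ≠ 1 → x ∉ oddCl G := by
      intro h2 x hx hx1
      obtain ⟨h1, h32, hconj⟩ := h.lower_sylow hG hTP hgP hgT hgL h2
      exact e.h_not_mem hG h2 hTP h1 h32 hx hx1 (hconj x hx hx1)
    refine e.residual_locals hG hout fun h2 x hx hx1 hmem => ?_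
    have hgTe := PGroup.map_conj_eq_of_mem_normalizer hgT
    have hmap : hOf T (K.map (MulAut.conj g).toMonoidHom) =
        (hOf T K).map (MulAut.conj g).toMonoidHom := by
      rw [← hOf_map_conj, hgTe]
    rw [hmap] at hx h2
    obtain ⟨a, ha, rfl⟩ := hx
    rw [Subgroup.card_map_of_injective (MulAut.conj g).injective] at h2
    refine hout h2 a ha (fun h' => hx1 (by rw [h']; exact map_one _)) ?_
    have hback := oddCl_conj g⁻¹ hmem
    simpa [mul_assoc] using hback

end Cfsg.Agent.S0518
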