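import Cfsg.Statements.S0519
import Cfsg.Agent.Lib.PGroup.CyclicMaximal
import Cfsg.Agent.Lib.PGroup.SCN

set_option autoImplicit false
open Cfsg

namespace Cfsg.Agent.S0519

open Subgroup
open scoped commutatorElement

variable {P : Type*} [Group P] [Finite P] {p : ℕ}

theorem pair_false [hp : Fact p.Prime] (hn : ∀ A : Subgroup P, A.Normal → IsMulCommutative A → IsCyclic A)
    {z b : P} (hz : orderOf z = p) (hb : orderOf b = p) (hzb : Commute z b) (hbz : b ∉ zpowers z)
    (hW : (zpowers z ⊔ zpowers b).Normal) : False := by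
  have hab : IsMulCommutative ↥(zpowers z ⊔ zpowers b) :=
    PGroup.isMulCommutative_sup_zpowers inferInstance
      (mem_centralizer_iff.mpr fun y hy => by
        obtain ⟨i, rfl⟩ := mem_zpowers_iff.mp hy
        exact hzb.zpow_left i)
  have := hn _ hW hab
  set W := zpowers z ⊔ zpowers b
  set z' : W := ⟨z, mem_sup_left (mem_zpowers z)⟩ with hz'
  set b' : W := ⟨b, mem_sup_right (mem_zpowers b)⟩ with hb'
  obtain ⟨g, hg⟩ := IsCyclic.exists_generator (α := W)
  obtain ⟨i, hi⟩ := mem_zpowers_iff.mp (hg z')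
  have hcard : Nat.card W ≤ p := by
    rw [← orderOf_eq_card_of_forall_mem_zpowers hg]
    refine Nat.le_of_dvd hp.out.pos (orderOf_dvd_of_pow_eq_one (Subtype.ext ?_))
    have h1 : W ≤ (⊤ : Subgroup P) := le_top
    have h2 : ∀ y ∈ W, y ^ p = 1 ∧ y ∈ W := by
      intro y hy
      refine ⟨?_, hy⟩
      rw [show W = zpowers z ⊔ zpowers b from rfl, zpowers_eq_closure, zpowers_eq_closure,
        ← Subgroup.closure_union] at hy
      induction hy using closure_induction with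
      | mem x hx =>
        rcases hx with rfl | rfl
        · exact hz ▸ pow_orderOf_eq_one _
        · exact hb ▸ pow_orderOf_eq_one _
      | one => exact one_pow _
      | mul x y hx hy ihx ihy =>
        rw [Subgroup.closure_union, ← zpowers_eq_closure, ← zpowers_eq_closure] at hx hy
        rw [(show Commute x y from setLike_mul_comm hx hy).mul_pow, ihx, ihy, one_mul]
      | inv x _ ih => rw [inv_pow, ih, inv_one]
    simpa using (h2 g g.2).1
  have heq : zpowers z = W := eq_of_le_of_card_ge le_sup_left (by rwa [Nat.card_zpowers, hz])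
  exact hbz (heq ▸ mem_sup_right (mem_zpowers b))

theorem normal_of_omega {L : Subgroup P} (hL : L.Normal) {z b : P} (hzL : z ∈ L) (hbL : b ∈ L)
    (hzp : z ^ p = 1) (hbp : b ^ p = 1)
    (hall : ∀ y ∈ L, y ^ p = 1 → y ∈ zpowers z ⊔ zpowers b) :
    (zpowers z ⊔ zpowers b).Normal := by
  have hconj : ∀ g : P, (zpowers z ⊔ zpowers b).map (MulAut.conj g).toMonoidHom ≤ zpowers z ⊔ zpowers b := by
    intro g
    rw [Subgroup.map_sup, MonoidHom.map_zpowers, MonoidHom.map_zpowers, sup_le_iff, zpowers_le, zpowers_le]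
    constructor
    · exact hall _ (hL.conj_mem z hzL g) (by rw [← map_pow, hzp, map_one])
    · exact hall _ (hL.conj_mem b hbL g) (by rw [← map_pow, hbp, map_one])
  exact ⟨fun n hn g => hconj g (mem_map_of_mem _ hn)⟩

theorem odd_false [hp : Fact p.Prime] (hP : IsPGroup p P) (h2 : p ≠ 2)
    (hn : ∀ A : Subgroup P, A.Normal → IsMulCommutative A → IsCyclic A)
    {A L : Subgroup P} [hA : IsCyclic A] (hL : L.Normal) (hAL : A < L)
    (hcard : Nat.card L = Nat.card A * p) (hA1 : A ≠ ⊥) (hnc : ¬ IsMulCommutative L) : False := by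
  obtain ⟨k, hk⟩ := PGroup.card_eq_pow hP A
  have hk1 : 1 ≤ k := Nat.one_le_iff_ne_zero.mpr fun h => hA1 (card_eq_one.mp (by rw [hk, h, pow_zero]))
  have hAc : IsCyclic (A.subgroupOf L) := isCyclic_of_surjective
    (subgroupOfEquivOfLe hAL.le).symm.toMonoidHom (subgroupOfEquivOfLe hAL.le).symm.surjective
  have hidx : (A.subgroupOf L).index = p := by
    have := (A.subgroupOf L).card_mul_index
    rw [Nat.card_congr (subgroupOfEquivOfLe hAL.le).toEquiv, hcard] at this
    exact Nat.eq_of_mul_eq_mul_left Nat.card_pos this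
  obtain ⟨a, b, r, -, ha, hb, hbA, hgen, hzc, hab⟩ := PGroup.cyclic_index_odd (G := L) h2 hk1
    (by rw [hcard, hk, pow_succ]) _ hAc hidx (fun h => hnc h.isMulCommutative)
  set z := a ^ p ^ (k - 1) with hz
  have hzo : orderOf z = p := by
    refine orderOf_eq_prime ?_ ?_
    · rw [hz, ← pow_mul, ← pow_succ, Nat.sub_add_cancel hk1, ← ha, pow_orderOf_eq_one]
    · intro h
      have := Nat.le_of_dvd (pow_pos hp.out.pos _) (orderOf_dvd_of_pow_eq_one h)
      rw [ha, Nat.pow_le_pow_iff_right hp.out.one_lt] at this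
      omega
  have hzb : Commute z b := (mem_center_iff.mp hzc b).symm
  have hcab : ⁅b, a⁆ = z ^ r := by
    rw [commutatorElement_def, hab, (show Commute a (z ^ r) from
      ((Commute.refl a).pow_right _).zpow_right r).eq, mul_inv_cancel_right]
  have hall : ∀ y : L, y ^ p = 1 → y ∈ zpowers z ⊔ zpowers b := by
    intro y hy
    have hAn : (zpowers a).Normal := by
      apply PGroup.normal_of_index_eq (hP.to_subgroup L)
      have := (zpowers a).card_mul_index
      rw [Nat.card_zpowers, ha, hcard, hk] at this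
      exact Nat.eq_of_mul_eq_mul_left (pow_pos hp.out.pos _) this
    have hy' : y ∈ ((zpowers a ⊔ zpowers b : Subgroup L) : Set L) := by rw [hgen]; trivial
    rw [normal_mul] at hy'
    obtain ⟨u, ⟨i, rfl⟩, v, ⟨j, rfl⟩, rfl⟩ := hy'
    simp only at hy ⊢
    have hcen : ⁅b ^ j, a ^ i⁆ ∈ center L ∧ ⁅b ^ j, a ^ i⁆ ^ p = 1 := by
      have h1 : ⁅b, a ^ i⁆ = (z ^ r) ^ i := by
        rw [← commutatorElement_inv, PGroup.commutator_zpow_left, ← inv_zpow, commutatorElement_inv, hcab]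
        rw [← commutatorElement_inv, hcab]
        exact inv_mem (zpow_mem hzc r)
      have h2' : ⁅b, a ^ i⁆ ∈ center L := h1 ▸ zpow_mem (zpow_mem hzc r) i
      rw [PGroup.commutator_zpow_left h2', h1]
      refine ⟨zpow_mem (zpow_mem (zpow_mem hzc r) i) j, ?_⟩
      rw [← zpow_natCast, ← zpow_mul, ← zpow_mul, ← zpow_mul]
      rw [show r * (i * (j * (p : ℤ))) = (p : ℤ) * (r * i * j) by ring, zpow_mul, zpow_natCast,
        ← hzo, pow_orderOf_eq_one, one_zpow]
    rw [PGroup.mul_pow_prime hp.out h2 hcen.1 hcen.2] at hy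
    have hbj : (b ^ j) ^ p = 1 := by
      rw [← zpow_natCast, ← zpow_mul, mul_comm, zpow_mul, zpow_natCast, ← hb, pow_orderOf_eq_one, one_zpow]
    rw [hbj, mul_one, ← zpow_natCast, ← zpow_mul, ← orderOf_dvd_iff_zpow_eq_one, ha] at hy
    obtain ⟨w, hw⟩ : ((p ^ (k - 1) : ℕ) : ℤ) ∣ i := by
      refine Int.dvd_of_mul_dvd_mul_right (by exact_mod_cast hp.out.ne_zero) (a := (p : ℤ)) ?_
      rw [show p ^ k = p ^ (k - 1) * p by rw [← pow_succ, Nat.sub_add_cancel hk1]] at hy
      exact_mod_cast hy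
    refine mul_mem_sup ⟨w, ?_⟩ ⟨j, rfl⟩
    show z ^ w = a ^ i
    rw [hw, hz, zpow_mul, zpow_natCast]
  have hmem : ∀ y ∈ L, y ^ p = 1 → y ∈ zpowers (z : P) ⊔ zpowers (b : P) := by
    intro y hy hyp
    have := mem_map_of_mem L.subtype (hall ⟨y, hy⟩ (Subtype.ext hyp))
    rwa [Subgroup.map_sup, MonoidHom.map_zpowers, MonoidHom.map_zpowers] at this
  refine pair_false hn (by rw [orderOf_coe, hzo]) (by rw [orderOf_coe, hb])
    (congrArg Subtype.val hzb.eq) ?_ (normal_of_omega hL z.2 b.2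
      (by rw [← SubgroupClass.coe_pow, ← hzo, pow_orderOf_eq_one]; rfl)
      (by rw [← SubgroupClass.coe_pow, ← hb, pow_orderOf_eq_one]; rfl) hmem)
  intro h
  obtain ⟨i, hi⟩ := mem_zpowers_iff.mp h
  have hi' : z ^ i = b := Subtype.ext (by rw [SubgroupClass.coe_zpow]; exact hi)
  exact hbA (hi' ▸ zpow_mem (pow_mem (mem_zpowers a) _) i)

theorem inverts_four (hP : IsPGroup 2 P) (hn : ∀ A : Subgroup P, A.Normal → IsMulCommutative A → IsCyclic A)
    {A : Subgroup P} [hAn : A.Normal] [hA : IsCyclic A] {x : P} (hxA : x ∉ A) (hx2 : x ^ 2 ∈ A)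
    (hL : (A ⊔ zpowers x).Normal) (hnc : x ∉ centralizer (A : Set P))
    {m : ℕ} (hm : 2 ≤ m) (hcard : Nat.card A = 2 ^ m) {i : P} (hi : i ∈ A) (hio : orderOf i ∣ 4) :
    x * i * x⁻¹ = i⁻¹ := by
  have := Fact.mk Nat.prime_two
  set L := A ⊔ zpowers x with hLdef
  have hLcard : Nat.card L = 2 ^ (m + 1) := by
    rw [hLdef, PGroup.card_sup_zpowers A hxA hx2, hcard, pow_succ]
  have hle : A ≤ L := le_sup_left
  have hAc : IsCyclic (A.subgroupOf L) := isCyclic_of_surjective
    (subgroupOfEquivOfLe hle).symm.toMonoidHom (subgroupOfEquivOfLe hle).symm.surjective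
  have hidx : (A.subgroupOf L).index = 2 := by
    have := (A.subgroupOf L).card_mul_index
    rw [Nat.card_congr (subgroupOfEquivOfLe hle).toEquiv, hLcard, hcard, pow_succ] at this
    exact Nat.eq_of_mul_eq_mul_left (pow_pos two_pos _) this
  have hxL : x ∈ L := mem_sup_right (mem_zpowers x)
  have hna : ∃ u v : L, u * v ≠ v * u := by
    rw [mem_centralizer_iff] at hnc
    push Not at hnc
    obtain ⟨y, hy, hne⟩ := hnc
    exact ⟨⟨y, hle hy⟩, ⟨x, hxL⟩, fun e => hne (congrArg Subtype.val e)⟩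
  obtain ⟨a, b, hAa, ha, hb, hgen, hcases⟩ := PGroup.cyclic_index_two (G := L) hm hLcard _ hAc hidx hna
  have hxb : (b : L)⁻¹ * ⟨x, hxL⟩ ∈ zpowers a := by
    have h1 := (mul_mem_iff_of_index_two hidx (a := b⁻¹) (b := ⟨x, hxL⟩)).mpr (by
      rw [inv_mem_iff, hAa]
      exact iff_of_false hb (fun h => hxA (by rw [← hAa] at h; exact h)))
    rwa [hAa] at h1
  obtain ⟨w, hw⟩ := mem_zpowers_iff.mp hxb
  have hiA : (⟨i, hle hi⟩ : L) ∈ zpowers a := by rw [← hAa]; exact hi
  obtain ⟨j, hj⟩ := mem_zpowers_iff.mp hiA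
  obtain ⟨e, he⟩ : (2 : ℤ) ^ (m - 2) ∣ j := by
    have h4 : (a ^ j) ^ 4 = 1 := by
      rw [hj]
      exact Subtype.ext (orderOf_dvd_iff_pow_eq_one.mp hio)
    rw [← zpow_natCast, ← zpow_mul, ← orderOf_dvd_iff_zpow_eq_one, ha] at h4
    refine Int.dvd_of_mul_dvd_mul_right (a := 4) (by norm_num) ?_
    have e2 : m = m - 2 + 2 := by omega
    rw [e2, pow_add] at h4
    exact_mod_cast h4
  suffices hb' : b * a ^ j * b⁻¹ = (a ^ j)⁻¹ by
    have hxeq : (⟨x, hxL⟩ : L) = b * a ^ w := by rw [hw, mul_inv_cancel_left]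
    have h2 : (⟨x, hxL⟩ : L) * ⟨i, hle hi⟩ * (⟨x, hxL⟩ : L)⁻¹ = (⟨i, hle hi⟩ : L)⁻¹ := by
      rw [hxeq, ← hj, mul_inv_rev,
        show b * a ^ w * a ^ j * ((a ^ w)⁻¹ * b⁻¹) = b * (a ^ w * a ^ j * (a ^ w)⁻¹) * b⁻¹ by group,
        ← zpow_add, add_comm, zpow_add, mul_inv_cancel_right, hb']
    exact congrArg Subtype.val h2
  rcases hcases with ⟨-, hab⟩ | ⟨-, hab⟩ | ⟨hm3, hb2, hab⟩ | ⟨hm3, -, hab⟩
  · rw [← conj_zpow, hab, inv_zpow]
  · rw [← conj_zpow, hab, inv_zpow]
  · -- modular: a normal four group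
    exfalso
    set z := a ^ 2 ^ (m - 1) with hz
    have hzo : orderOf z = 2 := by
      refine orderOf_eq_prime ?_ ?_
      · rw [hz, ← pow_mul, ← pow_succ, Nat.sub_add_cancel (by omega), ← ha, pow_orderOf_eq_one]
      · intro h
        have := Nat.le_of_dvd (pow_pos two_pos _) (orderOf_dvd_of_pow_eq_one h)
        rw [ha, Nat.pow_le_pow_iff_right (by norm_num)] at this
        omega
    have hzb : Commute z b := by
      have h1 : b * z * b⁻¹ = z := by
        rw [hz, ← conj_pow, hab, ← pow_mul, pow_eq_pow_iff_modEq, ha]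
        have e1 : 2 ^ m = 2 ^ (m - 1) * 2 := by rw [← pow_succ, Nat.sub_add_cancel (by omega)]
        refine Nat.ModEq.symm ((Nat.modEq_iff_dvd' (Nat.le_mul_of_pos_left _ (Nat.succ_le_iff.mp (Nat.le_add_right 1 _)))).mpr ?_)
        rw [add_mul, one_mul, Nat.add_sub_cancel_left, e1]
        exact Nat.mul_dvd_mul_left _ (dvd_pow_self 2 (by omega))
      exact (mul_inv_eq_iff_eq_mul.mp h1).symm
    have hbo : orderOf b = 2 := orderOf_eq_prime hb2 (fun h => hb (h ▸ one_mem _))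
    have hall : ∀ y : L, y ^ 2 = 1 → y ∈ zpowers z ⊔ zpowers b := by
      intro y hy
      have hA2 : ∀ t : ℤ, (a ^ t) ^ (2 : ℕ) = 1 → a ^ t ∈ zpowers z := by
        intro t ht
        rw [← zpow_natCast, ← zpow_mul, ← orderOf_dvd_iff_zpow_eq_one, ha,
          show 2 ^ m = 2 ^ (m - 1) * 2 by rw [← pow_succ, Nat.sub_add_cancel (by omega)]] at ht
        push_cast at ht
        obtain ⟨q, hq⟩ := Int.dvd_of_mul_dvd_mul_right (by norm_num) ht
        refine ⟨q, ?_⟩
        show z ^ q = a ^ t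
        rw [hq, hz, zpow_mul, ← zpow_natCast]; norm_num
      by_cases hya : y ∈ zpowers a
      · obtain ⟨t, rfl⟩ := mem_zpowers_iff.mp hya
        exact mem_sup_left (hA2 t hy)
      · have hyb : y * b⁻¹ ∈ zpowers a := by
          have := (mul_mem_iff_of_index_two hidx (a := y) (b := b⁻¹)).mpr (by
            rw [inv_mem_iff, hAa]; exact iff_of_false hya hb)
          rwa [hAa] at this
        obtain ⟨t, ht⟩ := mem_zpowers_iff.mp hyb
        have hyt : y = a ^ t * b := by rw [ht, inv_mul_cancel_right]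
        have hb1 : b * a ^ t * b = (a ^ (1 + 2 ^ (m - 1))) ^ t := by
          rw [← hab, conj_zpow]
          have : b⁻¹ = b := inv_eq_of_mul_eq_one_right (by rw [← pow_two]; exact hb2)
          rw [this]
        rw [hyt, pow_two, show a ^ t * b * (a ^ t * b) = a ^ t * (b * a ^ t * b) by group, hb1,
          ← zpow_natCast, ← zpow_mul, ← zpow_add, ← orderOf_dvd_iff_zpow_eq_one, ha] at hy
        have h2t : (a ^ t) ^ (2 : ℕ) = 1 := by
          rw [← zpow_natCast, ← zpow_mul, ← orderOf_dvd_iff_zpow_eq_one, ha]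
          have hco : IsCoprime ((2 : ℤ) ^ m) (1 + 2 ^ (m - 2)) := by
            refine IsCoprime.pow_left (Int.prime_two.coprime_iff_not_dvd.mpr fun hd => ?_)
            have : (2 : ℤ) ∣ 2 ^ (m - 2) := dvd_pow_self 2 (by omega)
            omega
          push_cast at hy ⊢
          refine hco.dvd_of_dvd_mul_right ?_
          have e3 : (2 : ℤ) ^ (m - 1) = 2 ^ (m - 2) * 2 := by rw [← pow_succ]; congr 1; omega
          rw [e3] at hy
          calc (2 : ℤ) ^ m ∣ t + (1 + 2 ^ (m - 2) * 2) * t := hy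
            _ = t * 2 * (1 + 2 ^ (m - 2)) := by ring
        exact hyt ▸ mul_mem_sup (hA2 t h2t) (mem_zpowers b)
    have hmem : ∀ y ∈ L, y ^ 2 = 1 → y ∈ zpowers (z : P) ⊔ zpowers (b : P) := by
      intro y hy hyp
      have := mem_map_of_mem L.subtype (hall ⟨y, hy⟩ (Subtype.ext hyp))
      rwa [Subgroup.map_sup, MonoidHom.map_zpowers, MonoidHom.map_zpowers] at this
    refine pair_false (p := 2) hn (by rw [orderOf_coe, hzo]) (by rw [orderOf_coe, hbo])
      (congrArg Subtype.val hzb.eq) ?_ (normal_of_omega hL z.2 b.2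
        (by rw [← SubgroupClass.coe_pow, ← hzo, pow_orderOf_eq_one]; rfl)
        (by rw [← SubgroupClass.coe_pow, hb2]; rfl) hmem)
    intro h
    obtain ⟨i, hi⟩ := mem_zpowers_iff.mp h
    have hi' : z ^ i = b := Subtype.ext (by rw [SubgroupClass.coe_zpow]; exact hi)
    exact hb (hi' ▸ zpow_mem (pow_mem (mem_zpowers a) _) i)
  · rw [← conj_zpow, hab, ← zpow_natCast, ← zpow_mul, ← zpow_neg, zpow_eq_zpow_iff_modEq, ha,
      Int.modEq_comm, Int.modEq_iff_dvd]
    rw [Nat.cast_sub Nat.one_le_two_pow]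
    push_cast
    refine ⟨e * 2 ^ (m - 3) * 1, ?_⟩
    have e1 : (2 : ℤ) ^ (m - 1) = 4 * 2 ^ (m - 3) := by
      rw [show (4 : ℤ) = 2 ^ 2 by norm_num, ← pow_add]; congr 1; omega
    have e2 : (2 : ℤ) ^ m = 4 * 2 ^ (m - 2) := by
      rw [show (4 : ℤ) = 2 ^ 2 by norm_num, ← pow_add]; congr 1; omega
    rw [e1, e2, he]
    ring

/-- Let P be a finite p-group in which every abelian normal subgroup is cyclic, but which has a non-cyclic abelian
subgroup. Then p = 2 and P is generalized quaternion, dihedral of order at least 16, or quasi-dihedral. -/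
theorem result {P : Type*} [Group P] [Finite P] (p : ℕ) [Fact p.Prime]
    (hP : IsPGroup p P) (hn : ∀ A : Subgroup P, A.Normal → IsMulCommutative A → IsCyclic A)
    (hm : ∃ B : Subgroup P, IsMulCommutative B ∧ ¬ IsCyclic B) :
    p = 2 ∧ ((∃ n : ℕ, Nonempty (P ≃* QuaternionGroup n)) ∨ (∃ n : ℕ, 8 ≤ n ∧ Nonempty (P ≃* DihedralGroup n)) ∨
      Cfsg.IsQuasiDihedral P) := by
  have hpf : Fact p.Prime := inferInstance
  obtain ⟨A, hAn, hAc, hAm⟩ := PGroup.exists_maximal_abelian_normal (G := P)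
  have hA := hn A hAn hAc
  have hCA := PGroup.centralizer_eq_of_maximal_abelian_normal hP hAc hAm
  obtain ⟨B, hB, hBnc⟩ := hm
  have hAtop : A ≠ ⊤ := by
    rintro rfl
    exact hBnc (isCyclic_of_injective (Subgroup.inclusion (le_top : B ≤ ⊤)) (inclusion_injective _))
  obtain ⟨L, hL, hAL, -, hcard⟩ := PGroup.exists_normal_step hP A ⊤ (lt_top_iff_ne_top.mpr hAtop)
  have hnc : ¬ IsMulCommutative L := fun h => hAL.ne (hAm L hL h hAL.le).symm
  have hA1 : A ≠ ⊥ := fun h => hAtop (by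
    rw [← hCA, h, eq_top_iff]
    exact fun g _ => mem_centralizer_iff.mpr fun y hy => by rw [mem_bot.mp hy, one_mul, mul_one])
  obtain ⟨m, hm⟩ := PGroup.card_eq_pow hP A
  by_cases h2 : p = 2
  swap
  · exact (odd_false hP h2 hn hL hAL hcard hA1 hnc).elim
  subst h2
  refine ⟨rfl, ?_⟩
  -- the action of `P` on `A`
  have hm2 : 2 ≤ m := by
    by_contra h
    refine hAtop (hCA ▸ eq_top_iff.mpr fun g _ => mem_centralizer_iff.mpr fun y hy => ?_)
    have hc : Nat.card A ≤ 2 := hm ▸ (Nat.pow_le_pow_right two_pos (by omega : m ≤ 1))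
    have hAcen : A ≤ center P := by
      rcases Nat.lt_or_eq_of_le hc with h1 | h1
      · rw [card_eq_one.mp (le_antisymm (Nat.le_of_lt_succ h1) Nat.card_pos)]; exact bot_le
      · exact PGroup.le_center_of_card_eq hP A h1
    exact (mem_center_iff.mp (hAcen hy) g).symm
  have hcomm : ∀ u v : P, ⁅u, v⁆ ∈ A := by
    intro u v
    rw [← hCA, mem_centralizer_iff]
    intro y hy
    let e := IsCyclic.mulAutMulEquiv A
    have h1 : (e.toMonoidHom.comp (MulAut.conjNormal : P →* MulAut A)) ⁅u, v⁆ = 1 :=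
      Abelianization.commutator_subset_ker _ (commutator_mem_commutator (mem_top u) (mem_top v))
    have h2 : (MulAut.conjNormal ⁅u, v⁆ : MulAut A) = 1 := e.injective (by rw [map_one]; exact h1)
    have h3 := congrArg (fun φ : MulAut A => ((φ ⟨y, hy⟩ : A) : P)) h2
    simp only [MulAut.conjNormal_apply, MulAut.one_apply] at h3
    exact (mul_inv_eq_iff_eq_mul.mp h3).symm
  have hLn : ∀ x : P, (A ⊔ zpowers x).Normal := fun x => by
    refine ⟨fun n hn g => ?_⟩
    have h1 : g * n * g⁻¹ = ⁅g, n⁆ * n := by rw [commutatorElement_def, inv_mul_cancel_right]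
    rw [h1]
    exact mul_mem (mem_sup_left (hcomm g n)) hn
  obtain ⟨a, ha⟩ := IsCyclic.exists_generator (α := A)
  have hao : orderOf (a : P) = 2 ^ m := by
    rw [orderOf_coe, orderOf_eq_card_of_forall_mem_zpowers ha, hm]
  set i := (a : P) ^ 2 ^ (m - 2) with hi
  have hio : orderOf i = 4 := by
    rw [hi, orderOf_pow_of_dvd (pow_ne_zero _ two_ne_zero)
      (hao ▸ pow_dvd_pow 2 (by omega)), hao, Nat.pow_div (by omega) two_pos,
      show m - (m - 2) = 2 by omega]
    rfl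
  have hiA : i ∈ A := pow_mem a.2 _
  have hinv : ∀ x ∉ A, x ^ 2 ∈ A → x * i * x⁻¹ = i⁻¹ := fun x hx hx2 =>
    inverts_four hP hn hx hx2 (hLn x) (hCA.symm ▸ hx) hm2 hm hiA hio.dvd
  have hsq : ∀ x : P, x ^ 2 * i * (x ^ 2)⁻¹ = i := by
    intro x
    have hmem : x * i * x⁻¹ ∈ A := hAn.conj_mem i hiA x
    have h4 : orderOf (x * i * x⁻¹) = 4 := by
      rw [← hio]; exact MulEquiv.orderOf_eq (MulAut.conj x) i
    obtain ⟨t, ht⟩ := mem_zpowers_iff.mp (ha ⟨_, hmem⟩)
    have ht' : (a : P) ^ t = x * i * x⁻¹ := congrArg Subtype.val ht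
    obtain ⟨c, hc⟩ : ((2 ^ (m - 2) : ℕ) : ℤ) ∣ t := by
      have h5 := pow_orderOf_eq_one (x * i * x⁻¹)
      rw [h4, ← ht', ← zpow_natCast, ← zpow_mul, ← orderOf_dvd_iff_zpow_eq_one, hao,
        show (2 ^ m : ℕ) = 2 ^ (m - 2) * 4 by
          rw [show (4 : ℕ) = 2 ^ 2 from rfl, ← pow_add]; congr 1; omega] at h5
      push_cast at h5
      exact_mod_cast Int.dvd_of_mul_dvd_mul_right (by norm_num) h5
    have hx1 : x * i * x⁻¹ = i ^ c := by rw [← ht', hc, zpow_mul, zpow_natCast]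
    have hodd : c % 2 = 1 := by
      by_contra h
      obtain ⟨d, rfl⟩ : ∃ d, c = 2 * d := ⟨c / 2, by omega⟩
      have : (x * i * x⁻¹) ^ (2 : ℤ) = 1 := by
        rw [hx1, ← zpow_mul, show 2 * d * 2 = ((4 : ℕ) : ℤ) * d by push_cast; ring, zpow_mul,
          zpow_natCast, ← hio, pow_orderOf_eq_one, one_zpow]
      rw [← orderOf_dvd_iff_zpow_eq_one, h4] at this
      norm_num at this
    calc x ^ 2 * i * (x ^ 2)⁻¹ = x * (x * i * x⁻¹) * x⁻¹ := by rw [pow_two]; group
      _ = i ^ (c * c) := by rw [hx1, ← conj_zpow, hx1, zpow_mul]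
      _ = i := by
        obtain ⟨d, rfl⟩ : ∃ d, c = 2 * d + 1 := ⟨c / 2, by omega⟩
        conv_rhs => rw [← zpow_one i]
        rw [zpow_eq_zpow_iff_modEq, hio, Int.modEq_comm, Int.modEq_iff_dvd]
        exact ⟨d * d + d, by push_cast; ring⟩
  have hii : i⁻¹ ≠ i := fun e => by
    have := orderOf_dvd_of_pow_eq_one (show i ^ 2 = 1 by rw [pow_two]; conv_lhs => arg 1; rw [← e]
                                                         exact inv_mul_cancel i)
    rw [hio] at this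
    norm_num at this
  have hallsq : ∀ x : P, x ^ 2 ∈ A := by
    intro x
    by_contra hx
    obtain ⟨k, hk⟩ := hP x
    have hex : ∃ j, (x ^ 2) ^ (2 ^ j) ∈ A := ⟨k, by
      rw [← pow_mul, mul_comm, pow_mul, hk, one_pow]; exact one_mem A⟩
    classical
    obtain ⟨j, hj⟩ : ∃ j, Nat.find hex = j + 1 := ⟨Nat.find hex - 1, by
      have : Nat.find hex ≠ 0 := fun h => hx (by simpa [h] using Nat.find_spec hex)
      omega⟩
    have hy := Nat.find_spec hex
    rw [hj, pow_succ (2 : ℕ) j, pow_mul ((x : P) ^ 2)] at hy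
    have hy' : (x ^ 2) ^ 2 ^ j ∉ A := Nat.find_min hex (by omega)
    have h1 := hinv _ hy' hy
    rw [← pow_mul, mul_comm, pow_mul, hsq] at h1
    exact hii h1.symm
  have hidx : A.index = 2 := by
    refine index_eq_two_iff.mpr ?_
    obtain ⟨x₀, hx₀⟩ := SetLike.exists_not_mem_of_ne_top A hAtop rfl
    refine ⟨x₀, fun g => xor_iff_iff_not.mpr ⟨fun h1 hg => hx₀ ?_, fun hg => ?_⟩⟩
    · have := mul_mem (inv_mem hg) h1
      rwa [inv_mul_cancel_left] at this
    by_contra h
    have h1 := hinv _ hg (hallsq g)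
    have h2 := hinv _ hx₀ (hallsq x₀)
    have h3 := hinv _ h (hallsq _)
    rw [show g * x₀ * i * (g * x₀)⁻¹ = g * (x₀ * i * x₀⁻¹) * g⁻¹ by group, h2, ← conj_inv, h1,
      inv_inv] at h3
    exact hii h3.symm
  have hcardP : Nat.card P = 2 ^ (m + 1) := by rw [← A.card_mul_index, hm, hidx, pow_succ]
  obtain ⟨x₀, hx₀⟩ := SetLike.exists_not_mem_of_ne_top A hAtop rfl
  have hna : ∃ x y : P, x * y ≠ y * x := by
    by_contra h
    push Not at h
    exact hx₀ (hCA ▸ mem_centralizer_iff.mpr fun y _ => h y x₀)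
  obtain ⟨a', b, hAa, ha', hb, hgen, hcases⟩ := PGroup.cyclic_index_two hm2 hcardP A hA hidx hna
  rcases hcases with ⟨hb2, hab⟩ | ⟨hb2, hab⟩ | ⟨hm3, hb2, hab⟩ | ⟨hm3, hb2, hab⟩
  · refine Or.inr (Or.inl ⟨2 ^ m, ?_, PGroup.dihedralEquivOfRel ha' hb hb2 hab (by rw [hcardP, pow_succ']) ⟩)
    rcases Nat.lt_or_ge m 3 with h3 | h3
    swap
    · calc 8 = 2 ^ 3 := rfl
        _ ≤ 2 ^ m := Nat.pow_le_pow_right two_pos h3
    obtain rfl : m = 2 := by omega
    exfalso
    have hz : orderOf (a' ^ 2) = 2 := by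
      rw [orderOf_pow_of_dvd two_ne_zero (by rw [ha']; norm_num), ha']; norm_num
    have hbo : orderOf b = 2 := orderOf_eq_prime hb2 (fun h => hb (h ▸ one_mem _))
    have hzb : Commute (a' ^ 2) b := by
      have h1 : b * a' ^ 2 * b⁻¹ = a' ^ 2 := by
        rw [← conj_pow, hab, inv_pow, inv_eq_iff_mul_eq_one, ← pow_add]
        rw [show (2 + 2 : ℕ) = orderOf a' by rw [ha']; rfl]
        exact pow_orderOf_eq_one a'
      exact (mul_inv_eq_iff_eq_mul.mp h1).symm
    have hbz : b ∉ zpowers (a' ^ 2) := fun h => hb (zpowers_le.mpr (pow_mem (mem_zpowers a') 2) h)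
    refine pair_false (p := 2) hn hz hbo hzb hbz (PGroup.normal_of_index_eq hP ?_)
    have hlt : zpowers (a' ^ 2) < zpowers (a' ^ 2) ⊔ zpowers b :=
      left_lt_sup.mpr fun h => hbz (h (mem_zpowers b))
    have hne : zpowers (a' ^ 2) ⊔ zpowers b ≠ ⊤ := by
      intro e
      have hab2 : IsMulCommutative ↥(zpowers (a' ^ 2) ⊔ zpowers b) :=
        PGroup.isMulCommutative_sup_zpowers inferInstance (mem_centralizer_iff.mpr fun y hy => by
          obtain ⟨t, rfl⟩ := mem_zpowers_iff.mp hy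
          exact hzb.zpow_left t)
      obtain ⟨x, y, hxy⟩ := hna
      exact hxy (setLike_mul_comm (e ▸ mem_top x) (e ▸ mem_top y))
    have hWd := (zpowers (a' ^ 2) ⊔ zpowers b).card_mul_index
    have hlt' : 2 < Nat.card ↥(zpowers (a' ^ 2) ⊔ zpowers b) := by
      by_contra hh
      exact hlt.ne (eq_of_le_of_card_ge hlt.le (by rw [Nat.card_zpowers, hz]; omega))
    have hi1 : (zpowers (a' ^ 2) ⊔ zpowers b).index ≠ 1 := fun h => hne (index_eq_one.mp h)
    obtain ⟨c, hc⟩ := PGroup.card_eq_pow hP (zpowers (a' ^ 2) ⊔ zpowers b)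
    rw [hc, hcardP] at hWd
    rw [hc] at hlt'
    have hc2 : 2 ≤ c := by
      by_contra hh
      interval_cases c <;> norm_num at hlt'
    have hc3 : c ≤ 2 := by
      by_contra hh
      have : 2 ^ 3 ≤ 2 ^ c := Nat.pow_le_pow_right two_pos (by omega)
      rcases Nat.eq_zero_or_pos (zpowers (a' ^ 2) ⊔ zpowers b).index with h0 | h0
      · rw [h0] at hWd; norm_num at hWd
      · have h5 : 2 ≤ (zpowers (a' ^ 2) ⊔ zpowers b).index := by omega
        have h7 := Nat.mul_le_mul this h5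
        rw [hWd] at h7
        norm_num at h7
    obtain rfl : c = 2 := by omega
    norm_num at hWd
    omega
  · refine Or.inl ⟨2 ^ (m - 1), PGroup.quaternionEquivOfRel
      (by rw [ha', ← pow_succ', Nat.sub_add_cancel (by omega)]) hb hb2 hab ?_⟩
    rw [hcardP, show (4 : ℕ) = 2 ^ 2 from rfl, ← pow_add]
    congr 1; omega
  · exfalso
    have hbA : b ∉ A := hAa ▸ hb
    have h1 := hinv b hbA (hallsq b)
    have hiz : i ∈ zpowers a' := hAa ▸ hiA
    obtain ⟨t, ht⟩ := mem_zpowers_iff.mp hiz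
    rw [← ht, ← conj_zpow, hab] at h1
    have h4 := pow_orderOf_eq_one i
    rw [hio, ← ht, ← zpow_natCast, ← zpow_mul, ← orderOf_dvd_iff_zpow_eq_one, ha'] at h4
    rw [← zpow_natCast, ← zpow_mul, ← zpow_neg, zpow_eq_zpow_iff_modEq, ha', Int.modEq_comm,
      Int.modEq_iff_dvd] at h1
    push_cast at h1 h4
    obtain ⟨u, hu⟩ : ((2 : ℤ) ^ (m - 2)) ∣ t := by
      rw [show (2 : ℤ) ^ m = 2 ^ (m - 2) * 4 by
        rw [show (4 : ℤ) = 2 ^ 2 by norm_num, ← pow_add]; congr 1; omega] at h4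
      exact Int.dvd_of_mul_dvd_mul_right (by norm_num) h4
    have hu2 : u % 2 = 1 := by
      by_contra h
      obtain ⟨d, rfl⟩ : ∃ d, u = 2 * d := ⟨u / 2, by omega⟩
      have h2 : i ^ (2 : ℤ) = 1 := by
        rw [← ht, ← zpow_mul, ← orderOf_dvd_iff_zpow_eq_one, ha', hu]
        push_cast
        refine ⟨d, ?_⟩
        rw [show (2 : ℤ) ^ m = 2 ^ (m - 2) * 4 by
          rw [show (4 : ℤ) = 2 ^ 2 by norm_num, ← pow_add]; congr 1; omega]
        ring
      rw [← orderOf_dvd_iff_zpow_eq_one, hio] at h2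
      norm_num at h2
    obtain ⟨v, hv⟩ := h1
    obtain ⟨e, he⟩ : ∃ e, m = e + 3 := ⟨m - 3, by omega⟩
    subst he
    rw [hu, show e + 3 - 2 = e + 1 from rfl, show e + 3 - 1 = e + 2 from rfl] at hv
    have hv' : (2 : ℤ) ^ (e + 2) * (u * (1 + 2 * 2 ^ e)) = 2 ^ (e + 2) * (2 * v) := by
      have : (2 : ℤ) ^ (e + 3) = 2 ^ (e + 2) * 2 := pow_succ _ _
      rw [this] at hv
      ring_nf at hv ⊢
      linarith
    have hv2 := mul_left_cancel₀ (by positivity) hv'
    rw [mul_add, mul_one, ← mul_assoc, mul_comm u 2, mul_assoc] at hv2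
    omega
  · exact Or.inr (Or.inr ⟨m, hm3, hcardP, a', b, ha', orderOf_eq_prime hb2 (fun h => hb (h ▸ one_mem _)),
      hab⟩)

end Cfsg.Agent.S0519
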