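import Cfsg.Statements.S0520
import Cfsg.Agent.Lib.Coprime.Basic
import Cfsg.Agent.Lib.PGroup.Basic
import Cfsg.Agent.Lib.Solvable.Carter

set_option autoImplicit false
open Cfsg

namespace Cfsg.Agent.S0520

open Subgroup
open scoped Pointwise

variable {G : Type*} [Group G]

/-- Adjacency of four-subgroups. -/
def Adj (A B : Subgroup G) : Prop :=
  IsKleinFour A ∧ IsKleinFour B ∧ ∀ a ∈ A, ∀ b ∈ B, a * b = b * a

theorem sq_eq_one {W : Subgroup G} (hW : IsKleinFour W) {x : G} (hx : x ∈ W) : x ^ 2 = 1 := by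
  have h := Monoid.pow_exponent_eq_one (⟨x, hx⟩ : W)
  rw [IsKleinFour.exponent_two] at h
  exact congrArg Subtype.val h

theorem comm_of_sq {W : Subgroup G} (hW : ∀ x ∈ W, x ^ 2 = 1) {x y : G} (hx : x ∈ W) (hy : y ∈ W) :
    x * y = y * x := by
  have inv : ∀ z ∈ W, z⁻¹ = z := fun z hz =>
    inv_eq_of_mul_eq_one_right (by rw [← sq]; exact hW z hz)
  have h := inv (x * y) (mul_mem hx hy)
  rw [mul_inv_rev, inv x hx, inv y hy] at h
  exact h.symm

theorem isKleinFour_of {W : Subgroup G} (h4 : Nat.card W = 4) (hsq : ∀ x ∈ W, x ^ 2 = 1) :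
    IsKleinFour W := by
  refine ⟨h4, ?_⟩
  have hd : Monoid.exponent W ∣ 2 :=
    Monoid.exponent_dvd_of_forall_pow_eq_one fun x => Subtype.ext (hsq x x.2)
  rcases (Nat.dvd_prime Nat.prime_two).mp hd with h | h
  · have := Monoid.exp_eq_one_iff.mp h
    rw [Nat.card_of_subsingleton (1 : W)] at h4
    omega
  · exact h

theorem kleinFour_conj {W : Subgroup G} (hW : IsKleinFour W) (g : G) :
    IsKleinFour (MulAut.conj g • W : Subgroup G) := by
  refine isKleinFour_of (by rw [Coprime.card_conj_smul]; exact IsKleinFour.card_four) fun x hx => ?_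
  have h := sq_eq_one hW (Coprime.mem_conj_smul_iff.mp hx)
  rw [show g⁻¹ * x * g = g⁻¹ * x * g⁻¹⁻¹ by rw [inv_inv], conj_pow, mul_inv_eq_one, mul_eq_left] at h
  exact h

theorem Adj.symm {A B : Subgroup G} (h : Adj A B) : Adj B A :=
  ⟨h.2.1, h.1, fun a ha b hb => (h.2.2 b hb a ha).symm⟩

theorem Adj.conj {A B : Subgroup G} (h : Adj A B) (g : G) :
    Adj (MulAut.conj g • A) (MulAut.conj g • B) := by
  refine ⟨kleinFour_conj h.1 g, kleinFour_conj h.2.1 g, fun a ha b hb => ?_⟩
  have e := h.2.2 _ (Coprime.mem_conj_smul_iff.mp ha) _ (Coprime.mem_conj_smul_iff.mp hb)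
  calc a * b = g * ((g⁻¹ * a * g) * (g⁻¹ * b * g)) * g⁻¹ := by group
    _ = g * ((g⁻¹ * b * g) * (g⁻¹ * a * g)) * g⁻¹ := by rw [e]
    _ = _ := by group

theorem chain_symm {A B : Subgroup G} (h : Relation.ReflTransGen Adj A B) :
    Relation.ReflTransGen Adj B A := by
  induction h with
  | refl => exact .refl
  | tail _ h ih => exact .head h.symm ih

theorem chain_conj {A B : Subgroup G} (h : Relation.ReflTransGen Adj A B) (g : G) :
    Relation.ReflTransGen Adj (MulAut.conj g • A) (MulAut.conj g • B) := by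
  induction h with
  | refl => exact .refl
  | tail _ h ih => exact ih.tail (h.conj g)

theorem exists_kleinFour [Finite G] {Q : Subgroup G} (h : ¬ Cfsg.PRankLE 2 1 Q) :
    ∃ W : Subgroup G, IsKleinFour W ∧ W ≤ Q := by
  simp only [Cfsg.PRankLE, not_forall, not_le] at h
  obtain ⟨A, -, hA2, hAc⟩ := h
  have := Fact.mk Nat.prime_two
  obtain ⟨n, hn⟩ := IsPGroup.iff_card.mp
    (fun a : A => ⟨1, Subtype.ext (by simpa using hA2 a a.2)⟩ : IsPGroup 2 A)
  have hn2 : 2 ≤ n := by
    by_contra hlt
    rcases n with _ | _ | n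
    · simp [hn] at hAc
    · simp [hn] at hAc
    · omega
  obtain ⟨K, hK⟩ := Sylow.exists_subgroup_card_pow_prime (G := A) 2 (n := 2)
    (hn ▸ Nat.pow_dvd_pow 2 hn2)
  refine ⟨(K.map A.subtype).map Q.subtype, isKleinFour_of ?_ ?_, map_subtype_le _⟩
  · rw [card_map_of_injective Q.subtype_injective, card_map_of_injective A.subtype_injective, hK]
    norm_num
  · rintro _ ⟨_, ⟨k, hk, rfl⟩, rfl⟩
    exact congrArg Subtype.val (hA2 k k.2)

theorem rank_of_kleinFour {W Q : Subgroup G} (hW : IsKleinFour W) (hWQ : W ≤ Q) :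
    ¬ Cfsg.PRankLE 2 1 Q := fun h => by
  have h1 := h (W.subgroupOf Q)
    ⟨⟨fun x y => Subtype.ext (Subtype.ext (comm_of_sq (fun z hz => sq_eq_one hW hz)
      (mem_subgroupOf.mp x.2) (mem_subgroupOf.mp y.2)))⟩⟩
    (fun x hx => Subtype.ext (sq_eq_one hW (mem_subgroupOf.mp hx)))
  rw [Coprime.card_subgroupOf hWQ, IsKleinFour.card_four] at h1
  omega

theorem lt_inf_normalizer [Finite G] {p : ℕ} [Fact p.Prime] {P Q : Subgroup G} (hP : IsPGroup p P)
    (hQP : Q ≤ P) (hne : Q ≠ P) : Q < P ⊓ normalizer (Q : Set G) := by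
  have hne' : Q.subgroupOf P ≠ ⊤ := fun e => hne (le_antisymm hQP (subgroupOf_eq_top.mp e))
  obtain ⟨⟨x, hxP⟩, hxn, hxQ⟩ := SetLike.exists_of_lt (PGroup.lt_normalizer hP hne')
  refine lt_of_le_of_ne (le_inf hQP le_normalizer) fun e => hxQ (mem_subgroupOf.mpr ?_)
  show x ∈ Q
  rw [e]
  refine ⟨hxP, mem_normalizer_iff.mpr fun y => ⟨fun hy => ?_, fun hy => ?_⟩⟩
  · exact (mem_normalizer_iff.mp hxn ⟨y, hQP hy⟩).mp hy
  · have hyP : y ∈ P := by
      simpa [mul_assoc] using mul_mem (mul_mem (inv_mem hxP) (hQP hy)) hxP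
    exact (mem_normalizer_iff.mp hxn ⟨y, hyP⟩).mpr hy

/-- The 2-generated core. -/
noncomputable abbrev core (S : Sylow 2 G) : Subgroup G :=
  ⨆ Q : {Q : Subgroup G // Q ≤ (S : Subgroup G) ∧ ¬ Cfsg.PRankLE 2 1 Q},
    normalizer ((Q : Subgroup G) : Set G)

theorem normalizer_le_core (S : Sylow 2 G) {W Q : Subgroup G} (hW : IsKleinFour W) (hWQ : W ≤ Q)
    (hQS : Q ≤ (S : Subgroup G)) : normalizer (Q : Set G) ≤ core S :=
  le_iSup (fun Q : {Q : Subgroup G // Q ≤ (S : Subgroup G) ∧ ¬ Cfsg.PRankLE 2 1 Q} =>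
    normalizer ((Q : Subgroup G) : Set G)) ⟨Q, hQS, rank_of_kleinFour hW hWQ⟩

theorem mem_core [Finite G] (S : Sylow 2 G) : ∀ (m : ℕ) (W Q : Subgroup G) (g : G),
    Nat.card (S : Subgroup G) - Nat.card Q = m → IsKleinFour W → W ≤ Q → Q ≤ (S : Subgroup G) →
    Q ≤ MulAut.conj g • (S : Subgroup G) → g ∈ core S := by
  intro m
  induction m using Nat.strong_induction_on with
  | _ m ih =>
    intro W Q g hm hW hWQ hQS hQg
    by_cases hQ : Q = (S : Subgroup G)
    · subst hQ
      refine normalizer_le_core S hW hWQ le_rfl (Solvable.mem_normalizer_iff_conj_eq.mpr ?_)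
      exact (eq_of_le_of_card_ge hQg (Coprime.card_conj_smul _ _).le).symm
    have hg' : Q ≠ MulAut.conj g • (S : Subgroup G) := fun e => hQ
      (eq_of_le_of_card_ge hQS (by rw [e, Coprime.card_conj_smul]))
    set N := normalizer (Q : Set G) with hN
    set P₁ := (S : Subgroup G) ⊓ N
    set P₂ := MulAut.conj g • (S : Subgroup G) ⊓ N
    have hgS : IsPGroup 2 (MulAut.conj g • (S : Subgroup G) : Subgroup G) :=
      S.2.map (MulAut.conj g).toMonoidHom
    have hlt₁ : Q < P₁ := lt_inf_normalizer S.2 hQS hQ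
    have hlt₂ : Q < P₂ := lt_inf_normalizer hgS hQg hg'
    have hdec : ∀ P : Subgroup G, Q < P → P ≤ (S : Subgroup G) →
        Nat.card (S : Subgroup G) - Nat.card P < m := fun P hlt hle => by
      have h1 : Nat.card Q < Nat.card P :=
        lt_of_not_ge fun h => hlt.ne (eq_of_le_of_card_ge hlt.le h)
      have h2 := Nat.le_of_dvd Nat.card_pos (card_dvd_of_le hle)
      omega
    obtain ⟨T, hT⟩ := ((S.2.to_le inf_le_left : IsPGroup 2 P₁).comap_of_injective N.subtype
      N.subtype_injective).exists_le_sylow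
    obtain ⟨T', hT'⟩ := ((hgS.to_le inf_le_left : IsPGroup 2 P₂).comap_of_injective N.subtype
      N.subtype_injective).exists_le_sylow
    obtain ⟨n, hn⟩ := MulAction.exists_smul_eq N T T'
    obtain ⟨S₁, hS₁⟩ := (T.2.map N.subtype).exists_le_sylow
    obtain ⟨h, hh⟩ := MulAction.exists_smul_eq G S S₁
    have hP₁ : P₁ ≤ MulAut.conj h • (S : Subgroup G) := by
      have e : (S₁ : Subgroup G) = MulAut.conj h • (S : Subgroup G) := by
        rw [← hh]; rfl
      rw [← e]
      exact fun x hx => hS₁ ⟨⟨x, hx.2⟩, hT hx, rfl⟩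
    have hhΓ : h ∈ core S :=
      ih _ (hdec P₁ hlt₁ inf_le_left) W P₁ h rfl hW (hWQ.trans hlt₁.le) inf_le_left hP₁
    have hnΓ : (n : G) ∈ core S := normalizer_le_core S hW hWQ hQS n.2
    set k := (n : G) * h
    have hP₂ : MulAut.conj k⁻¹ • P₂ ≤ (S : Subgroup G) := by
      intro x hx
      rw [Coprime.mem_conj_smul_iff, inv_inv] at hx
      have h1 : (⟨k * x * k⁻¹, hx.2⟩ : N) ∈ (T' : Subgroup N) := hT' hx
      rw [← hn, Sylow.smul_def, Sylow.pointwise_smul_def, Coprime.mem_conj_smul_iff] at h1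
      have h2 := hS₁ (mem_map_of_mem N.subtype h1)
      rw [← hh, Sylow.smul_def, Sylow.pointwise_smul_def, Coprime.mem_conj_smul_iff] at h2
      simpa [k, mul_assoc] using h2
    have hkΓ : k⁻¹ * g ∈ core S := by
      refine ih (Nat.card (S : Subgroup G) - Nat.card (MulAut.conj k⁻¹ • P₂ : Subgroup G)) ?_
        (MulAut.conj k⁻¹ • W) _ (k⁻¹ * g) rfl (kleinFour_conj hW _)
        (pointwise_smul_le_pointwise_smul_iff.2 (hWQ.trans hlt₂.le)) hP₂ ?_
      · rw [Coprime.card_conj_smul]
        have h1 : Nat.card Q < Nat.card P₂ :=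
          lt_of_not_ge fun h => hlt₂.ne (eq_of_le_of_card_ge hlt₂.le h)
        have h2 := Nat.le_of_dvd Nat.card_pos (card_dvd_of_le hP₂)
        rw [Coprime.card_conj_smul] at h2
        omega
      · rw [← Coprime.conj_smul_smul]
        exact pointwise_smul_le_pointwise_smul_iff.2 inf_le_left
    have := mul_mem (mul_mem hnΓ hhΓ) hkΓ
    simpa [k, mul_assoc] using this

theorem exists_conj_ge [Finite G] (S : Sylow 2 G) {P : Subgroup G} (hP : IsPGroup 2 P) :
    ∃ x : G, P ≤ MulAut.conj x • (S : Subgroup G) := by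
  obtain ⟨S₁, hS₁⟩ := hP.exists_le_sylow
  obtain ⟨x, hx⟩ := MulAction.exists_smul_eq G S S₁
  exact ⟨x, by rw [← hx] at hS₁; exact hS₁⟩

/-- Let G be a finite group of 2-rank at least 2 and S a Sylow 2-subgroup whose commuting graph of Klein four-subgroups is
connected. Then the commuting graph of Klein four-subgroups of G is disconnected if and only if the 2-generated core — the
subgroup generated by the normalizers N_G(Q) of the subgroups Q of S that contain a Klein four-group — is a proper
subgroup of G. -/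
theorem result {G : Type*} [Group G] [Finite G] (h2 : ¬ Cfsg.PRankLE 2 1 G)
    (S : Sylow 2 G) (hS : Cfsg.IsFourConnected (S : Subgroup G)) :
    ¬ Cfsg.IsFourConnected G ↔
      (⨆ Q : {Q : Subgroup G // Q ≤ (S : Subgroup G) ∧ ¬ Cfsg.PRankLE 2 1 Q},
          Subgroup.normalizer ((Q : Subgroup G) : Set G)) ≠ ⊤ := by
  refine not_congr ⟨fun hc => ?_, fun hΓ => ?_⟩
  · -- connected implies that the core is everything
    obtain ⟨A, hAc, hA2, hAcard⟩ : ∃ A : Subgroup G, IsMulCommutative A ∧ (∀ a ∈ A, a ^ 2 = 1) ∧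
        2 ^ 1 < Nat.card A := by
      simpa [Cfsg.PRankLE] using h2
    have hAp : IsPGroup 2 A := fun a => ⟨1, Subtype.ext (by simpa using hA2 a a.2)⟩
    obtain ⟨x₀, hx₀⟩ := exists_conj_ge S hAp
    obtain ⟨U₀, hU₀, hU₀A⟩ := exists_kleinFour (Q := A) (fun h => by
      have := h ⊤ ⟨⟨fun a b => Subtype.ext (Subtype.ext (setLike_mul_comm a.1.2 b.1.2))⟩⟩
        (fun a _ => Subtype.ext (hA2 a a.2))
      rw [Subgroup.card_top] at this
      omega)
    set U := MulAut.conj x₀⁻¹ • U₀
    have hU : IsKleinFour U := kleinFour_conj hU₀ _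
    have hUS : U ≤ (S : Subgroup G) := by
      intro y hy
      have h := hx₀ (hU₀A (Coprime.mem_conj_smul_iff.mp hy))
      rw [Coprime.mem_conj_smul_iff] at h
      simpa [mul_assoc] using h
    refine top_le_iff.mp fun g _ => ?_
    have hchain : Relation.ReflTransGen Adj U (MulAut.conj g • U) := hc U _ hU (kleinFour_conj hU g)
    have key : ∀ W, Relation.ReflTransGen Adj U W →
        ∀ y : G, W ≤ MulAut.conj y • (S : Subgroup G) → y ∈ core S := by
      intro W hW
      induction hW with
      | refl => exact fun y hy => mem_core S _ U U y rfl hU le_rfl hUS hy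
      | @tail A B _ hadj ih =>
        intro y hy
        have hJ : IsPGroup 2 ↥(A ⊔ B) := by
          have hAp : IsPGroup 2 A := fun a => ⟨1, Subtype.ext (by simpa using sq_eq_one hadj.1 a.2)⟩
          have hBp : IsPGroup 2 B := fun a => ⟨1, Subtype.ext (by simpa using sq_eq_one hadj.2.1 a.2)⟩
          refine hAp.to_sup_of_normal_right' hBp ?_
          rw [Subgroup.le_normalizer_iff]
          intro a ha b hb
          rw [hadj.2.2 a ha b hb, mul_inv_cancel_right]
          exact hb
        obtain ⟨x, hx⟩ := exists_conj_ge S hJ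
        have hxΓ := ih x (le_sup_left.trans hx)
        have h1 : MulAut.conj x⁻¹ • B ≤ (S : Subgroup G) := by
          intro z hz
          have h := hx (mem_sup_right (Coprime.mem_conj_smul_iff.mp hz))
          rw [Coprime.mem_conj_smul_iff] at h
          simpa [mul_assoc] using h
        have h2 := mem_core S _ (MulAut.conj x⁻¹ • B) (MulAut.conj x⁻¹ • B) (x⁻¹ * y) rfl
          (kleinFour_conj hadj.2.1 _) le_rfl h1 (by
            rw [← Coprime.conj_smul_smul]
            exact pointwise_smul_le_pointwise_smul_iff.2 hy)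
        simpa using mul_mem hxΓ h2
    exact key _ hchain g (pointwise_smul_le_pointwise_smul_iff.2 hUS)
  · -- if the core is everything the graph is connected
    have hS' : ∀ U V : Subgroup G, IsKleinFour U → IsKleinFour V → U ≤ (S : Subgroup G) →
        V ≤ (S : Subgroup G) → Relation.ReflTransGen Adj U V := by
      intro U V hU hV hUS hVS
      have hk : ∀ W : Subgroup G, IsKleinFour W → W ≤ (S : Subgroup G) →
          IsKleinFour (W.subgroupOf (S : Subgroup G)) := fun W hW hWS =>
        isKleinFour_of (by rw [Coprime.card_subgroupOf hWS]; exact IsKleinFour.card_four)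
          fun x hx => Subtype.ext (sq_eq_one hW (mem_subgroupOf.mp hx))
      have hk' : ∀ W : Subgroup (S : Subgroup G), IsKleinFour W →
          IsKleinFour (W.map (S : Subgroup G).subtype) := fun W hW =>
        isKleinFour_of (by
          rw [card_map_of_injective (S : Subgroup G).subtype_injective]
          exact IsKleinFour.card_four) fun x hx => by
            obtain ⟨w, hw, rfl⟩ := hx
            exact congrArg Subtype.val (sq_eq_one hW hw)
      have h := (hS _ _ (hk U hU hUS) (hk V hV hVS)).lift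
        (fun W => W.map (S : Subgroup G).subtype) (p := Adj) (fun A B hAB =>
          ⟨hk' A hAB.1, hk' B hAB.2.1, by
            rintro _ ⟨a, ha, rfl⟩ _ ⟨b, hb, rfl⟩
            exact congrArg Subtype.val (hAB.2.2 a ha b hb)⟩)
      simp only [Function.onFun, map_subgroupOf_eq_of_le hUS, map_subgroupOf_eq_of_le hVS] at h
      exact h
    intro U' V' hU' hV'
    show Relation.ReflTransGen Adj U' V'
    obtain ⟨x, hx⟩ := exists_conj_ge S (P := U') fun a => ⟨1, Subtype.ext (by simpa using sq_eq_one hU' a.2)⟩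
    obtain ⟨y, hy⟩ := exists_conj_ge S (P := V') fun a => ⟨1, Subtype.ext (by simpa using sq_eq_one hV' a.2)⟩
    set U := MulAut.conj x⁻¹ • U'
    set V := MulAut.conj y⁻¹ • V'
    have hback : ∀ (x : G) (W : Subgroup G), W ≤ MulAut.conj x • (S : Subgroup G) →
        MulAut.conj x⁻¹ • W ≤ (S : Subgroup G) := fun x W hW z hz => by
      have h := hW (Coprime.mem_conj_smul_iff.mp hz)
      rw [Coprime.mem_conj_smul_iff] at h
      simpa [mul_assoc] using h
    have hU : IsKleinFour U := kleinFour_conj hU' _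
    have hUS := hback x U' hx
    let H : Subgroup G :=
      { carrier := {g | Relation.ReflTransGen Adj U (MulAut.conj g • U)}
        one_mem' := by
          show Relation.ReflTransGen Adj U (MulAut.conj (1 : G) • U)
          rw [map_one, one_smul]
        mul_mem' := fun {a b} ha hb => by
          show Relation.ReflTransGen Adj U (MulAut.conj (a * b) • U)
          rw [← Coprime.conj_smul_smul]
          exact ha.trans (chain_conj hb a)
        inv_mem' := fun {a} ha => by
          show Relation.ReflTransGen Adj U (MulAut.conj a⁻¹ • U)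
          have h := chain_symm (chain_conj ha a⁻¹)
          rwa [Coprime.conj_smul_smul, inv_mul_cancel, map_one, one_smul] at h }
    have hH : ∀ g : G, g ∈ H := by
      have hle : core S ≤ H := by
        refine iSup_le ?_
        rintro ⟨Q, hQS, hQr⟩ g hg
        obtain ⟨W, hW, hWQ⟩ := exists_kleinFour hQr
        have h1 := hS' U W hU hW hUS (hWQ.trans hQS)
        have h2 := hS' W (MulAut.conj g • W) hW (kleinFour_conj hW g) (hWQ.trans hQS)
          (((pointwise_smul_le_pointwise_smul_iff.2 hWQ).trans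
            (Coprime.conj_smul_eq_self_of_mem hg).le).trans hQS)
        exact (h1.trans h2).trans (chain_conj (chain_symm h1) g)
      intro g
      exact hle (by rw [show core S = ⊤ from hΓ]; exact mem_top g)
    have h1 : Relation.ReflTransGen Adj U (MulAut.conj (x⁻¹ * y) • V) :=
      (hH (x⁻¹ * y)).trans (chain_conj (hS' U V hU (kleinFour_conj hV' _) hUS (hback y V' hy)) _)
    have h2 := chain_conj h1 x
    rw [Coprime.conj_smul_smul, mul_inv_cancel, map_one, one_smul, Coprime.conj_smul_smul,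
      mul_inv_cancel_left, Coprime.conj_smul_smul, mul_inv_cancel, map_one, one_smul] at h2
    exact h2

end Cfsg.Agent.S0520
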