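import Cfsg.Statements.S0521
import Cfsg.Agent.Lib.Involution.BaerSuzuki
import Cfsg.Agent.Lib.PCore.HallHigman
import Cfsg.Agent.Lib.Coprime.Commutator
import Cfsg.Agent.Lib.PGroup.Frattini
import Cfsg.Agent.Lib.Coprime.Basic

set_option autoImplicit false
open Cfsg

namespace Cfsg.Agent.S0521

open Subgroup
open scoped commutatorElement

universe u

variable {G : Type u} [Group G] [Finite G] {p : ℕ} [hp : Fact p.Prime]

/-- The key configuration: an elementary abelian self-centralising `V = O_p(G)`. -/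
theorem eq_of_elementary (hG : Odd (Nat.card G)) (S : Sylow p G) (V : Subgroup G) [hVn : V.Normal]
    (hVc : ∀ a ∈ V, ∀ b ∈ V, a * b = b * a) (hVp : ∀ v ∈ V, v ^ p = 1)
    (hVS : V ≤ (S : Subgroup G)) (hCV : centralizer (V : Set G) ≤ V)
    (hmax : ∀ N : Subgroup G, N.Normal → IsPGroup p N → N ≤ V)
    (hS : IsCyclic ↥⁅(S : Subgroup G), (S : Subgroup G)⁆) : (S : Subgroup G) = V := by
  by_contra hne
  obtain ⟨x, hxS, hxV⟩ := SetLike.exists_of_lt (lt_of_le_of_ne hVS (Ne.symm hne))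
  have hp' : p ≠ 1 := hp.out.ne_one
  have hnp : ¬ IsPGroup p (normalClosure ({x} : Set G)) := fun h =>
    hxV (hmax _ normalClosure_normal h (subset_normalClosure rfl))
  obtain ⟨g, hg⟩ : ∃ g : G, ¬ IsPGroup p (closure ({x, g * x * g⁻¹} : Set G)) := by
    by_contra hcon
    push Not at hcon
    exact hnp (Involution.baer_suzuki x hcon)
  set y := g * x * g⁻¹ with hy
  have hcomV : ∀ d : G, ∀ v ∈ V, d * v * d⁻¹ * v⁻¹ ∈ V := fun d v hv =>
    V.mul_mem (hVn.conj_mem v hv d) (V.inv_mem hv)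
  -- the line `Z` containing all `[x, v]`
  set Z := ⁅(S : Subgroup G), (S : Subgroup G)⁆ ⊓ V with hZ
  have hxZ : ∀ v ∈ V, x * v * x⁻¹ * v⁻¹ ∈ Z := fun v hv =>
    ⟨commutator_mem_commutator hxS (hVS hv), hcomV x v hv⟩
  obtain ⟨v₀, hv₀, hv₀1⟩ : ∃ v ∈ V, x * v * x⁻¹ * v⁻¹ ≠ 1 := by
    by_contra hcon
    push Not at hcon
    exact hxV (hCV (mem_centralizer_iff.mpr fun v hv => by
      have h := hcon v hv
      rw [mul_inv_eq_one, mul_inv_eq_iff_eq_mul] at h
      exact h.symm))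
  set l := x * v₀ * x⁻¹ * v₀⁻¹ with hl
  have hlV : l ∈ V := hcomV x v₀ hv₀
  have hol : orderOf l = p := orderOf_eq_prime (hVp l hlV) hv₀1
  set L := zpowers l with hL
  have hZL : Z = L := by
    have hle : L ≤ Z := zpowers_le.mpr (hxZ v₀ hv₀)
    refine (eq_of_le_of_card_ge hle ?_).symm
    have : IsCyclic Z := Subgroup.isCyclic_of_le inf_le_left
    obtain ⟨⟨z, hz⟩, hgen⟩ := IsCyclic.exists_generator (α := Z)
    rw [hL, Nat.card_zpowers, hol]
    refine Nat.le_of_dvd hp.out.pos ?_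
    rw [← orderOf_eq_card_of_forall_mem_zpowers hgen, Subgroup.orderOf_mk]
    exact orderOf_dvd_of_pow_eq_one (hVp z hz.2)
  have hLV : L ≤ V := zpowers_le.mpr hlV
  -- `x` centralises `L`
  have hxl : ∀ u ∈ L, x * u * x⁻¹ = u := by
    intro u hu
    have hSV : (S : Subgroup G) ≤ normalizer (L : Set G) := by
      rw [← hZL, Subgroup.le_normalizer_iff]
      intro s hs z hz
      refine ⟨?_, hVn.conj_mem z hz.2 s⟩
      have hzS : z ∈ (S : Subgroup G) := commutator_le_self _ hz.1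
      have := mul_mem (commutator_mem_commutator hs hzS) hz.1
      simpa [commutatorElement_def] using this
    have := (normal_subgroupOf_iff_le_normalizer ((zpowers_le.mpr hlV).trans hVS)).mpr hSV
    have hc := PGroup.le_center_of_card_eq S.2 (L.subgroupOf (S : Subgroup G))
      (by rw [Coprime.card_subgroupOf (hLV.trans hVS), hL, Nat.card_zpowers, hol])
    have h := congrArg Subtype.val (mem_center_iff.mp
      (hc (show (⟨u, hVS (hLV hu)⟩ : (S : Subgroup G)) ∈ L.subgroupOf (S : Subgroup G) from hu))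
      ⟨x, hxS⟩)
    rw [mul_inv_eq_iff_eq_mul]
    exact h
  set l' := g * l * g⁻¹ with hl'
  have hl'V : l' ∈ V := hVn.conj_mem l hlV g
  set L' := zpowers l' with hL'
  have hL'V : L' ≤ V := zpowers_le.mpr hl'V
  have hconjL : ∀ u ∈ L, g * u * g⁻¹ ∈ L' := by
    intro u hu
    obtain ⟨n, rfl⟩ := mem_zpowers_iff.mp hu
    exact ⟨n, by simp only [hl', conj_zpow]⟩
  have hyl : ∀ u ∈ L', y * u * y⁻¹ = u := by
    intro u hu
    obtain ⟨n, rfl⟩ := mem_zpowers_iff.mp hu
    have h := congrArg (fun t => g * t * g⁻¹) (hxl (l ^ n) (zpow_mem (mem_zpowers l) n))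
    simp only [hy, hl', conj_zpow]
    simpa [mul_assoc] using h
  have hyV : ∀ v ∈ V, y * v * y⁻¹ * v⁻¹ ∈ L' := by
    intro v hv
    have h := hxZ (g⁻¹ * v * g) (by simpa using hVn.conj_mem v hv g⁻¹)
    rw [hZL] at h
    have h2 := hconjL _ h
    simpa [hy, mul_assoc] using h2
  -- two operators stabilising a series generate a `p`-group
  have stab : ∀ a b : G, ∀ u u' : G, u ∈ V → u' ∈ V →
      (∀ v ∈ V, a * v * a⁻¹ * v⁻¹ ∈ zpowers u) → (∀ v ∈ V, b * v * b⁻¹ * v⁻¹ ∈ zpowers u') →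
      a * u * a⁻¹ = u → b * u * b⁻¹ = u → b * u' * b⁻¹ = u' →
      IsPGroup p (closure ({a, b} : Set G)) := by
    intro a b u u' hu hu' ha hb hau hbu hbu'
    set W := zpowers u ⊔ zpowers u' with hW
    have hWV : W ≤ V := sup_le (zpowers_le.mpr hu) (zpowers_le.mpr hu')
    have hfix : ∀ (d t : G) (n : ℤ), d * t * d⁻¹ = t → d * t ^ n * d⁻¹ = t ^ n := fun d t n h => by
      rw [← conj_zpow, h]
    let K : Submonoid G :=
      { carrier := {d | (∀ w ∈ zpowers u, d * w * d⁻¹ = w) ∧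
          (∀ w ∈ W, d * w * d⁻¹ * w⁻¹ ∈ zpowers u) ∧ ∀ v ∈ V, d * v * d⁻¹ * v⁻¹ ∈ W}
        one_mem' := ⟨fun w _ => by group, fun w _ => by simp, fun v _ => by simp⟩
        mul_mem' := fun {d e} hd he => by
          refine ⟨fun w hw => ?_, fun w hw => ?_, fun v hv => ?_⟩
          · calc d * e * w * (d * e)⁻¹ = d * (e * w * e⁻¹) * d⁻¹ := by group
              _ = w := by rw [he.1 w hw, hd.1 w hw]
          · have h := he.2.1 w hw
            rw [show d * e * w * (d * e)⁻¹ * w⁻¹ =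
              d * (e * w * e⁻¹ * w⁻¹) * d⁻¹ * (d * w * d⁻¹ * w⁻¹) by group, hd.1 _ h]
            exact mul_mem h (hd.2.1 w hw)
          · have h := he.2.2 v hv
            rw [show d * e * v * (d * e)⁻¹ * v⁻¹ =
              d * (e * v * e⁻¹ * v⁻¹) * d⁻¹ * (e * v * e⁻¹ * v⁻¹)⁻¹ * (e * v * e⁻¹ * v⁻¹) *
                (d * v * d⁻¹ * v⁻¹) by group]
            exact mul_mem (mul_mem (mem_sup_left (hd.2.1 _ h)) h) (hd.2.2 v hv) }
    have haK : a ∈ K := by
      refine ⟨fun w hw => ?_, fun w hw => ha w (hWV hw), fun v hv => mem_sup_left (ha v hv)⟩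
      obtain ⟨n, rfl⟩ := mem_zpowers_iff.mp hw
      exact hfix a u n hau
    have hbK : b ∈ K := by
      refine ⟨fun w hw => ?_, fun w hw => ?_, fun v hv => mem_sup_right (hb v hv)⟩
      · obtain ⟨n, rfl⟩ := mem_zpowers_iff.mp hw
        exact hfix b u n hbu
      · have hle : W ≤ centralizer ({b} : Set G) := sup_le
          (zpowers_le.mpr (mem_centralizer_singleton_iff.mpr
            ((mul_inv_eq_iff_eq_mul.mp hbu).symm)))
          (zpowers_le.mpr (mem_centralizer_singleton_iff.mpr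
            ((mul_inv_eq_iff_eq_mul.mp hbu').symm)))
        rw [← mem_centralizer_singleton_iff.mp (hle hw), mul_inv_cancel_right, mul_inv_cancel]
        exact one_mem _
    have hcl : ∀ d ∈ closure ({a, b} : Set G), d ∈ K := by
      intro d hd
      have hd' : d ∈ (closure ({a, b} : Set G)).toSubmonoid := hd
      rw [closure_toSubmonoid_of_finite] at hd'
      refine Submonoid.closure_le.mpr ?_ hd'
      rintro z (rfl | rfl)
      · exact haK
      · exact hbK
    intro ⟨d, hd⟩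
    set k := (orderOf d).factorization p
    refine ⟨k, Subtype.ext ?_⟩
    have hd' : d ^ p ^ k ∈ K := pow_mem (hcl d hd) _
    set e := d ^ p ^ k with he
    have he' : (orderOf e).Coprime p := by
      refine Nat.Coprime.coprime_dvd_left (orderOf_dvd_of_pow_eq_one ?_)
        (Nat.coprime_ordCompl hp.out (orderOf_pos d).ne').symm
      rw [he, ← pow_mul]
      show d ^ (p ^ (orderOf d).factorization p * (orderOf d / p ^ (orderOf d).factorization p)) = 1
      rw [Nat.ordProj_mul_ordCompl_eq_self, pow_orderOf_eq_one]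
    have htriv : ∀ w c : G, c ∈ V → e * w * e⁻¹ * w⁻¹ = c → e * c * e⁻¹ = c → c = 1 := by
      intro w c hc h1 h2
      have hpow : ∀ n : ℕ, e ^ n * w * (e ^ n)⁻¹ = c ^ n * w := by
        intro n
        induction n with
        | zero => simp
        | succ n ih =>
          calc e ^ (n + 1) * w * (e ^ (n + 1))⁻¹ = e * (e ^ n * w * (e ^ n)⁻¹) * e⁻¹ := by
                rw [pow_succ']; group
            _ = (e * c ^ n * e⁻¹) * (e * w * e⁻¹ * w⁻¹) * w := by rw [ih]; group
            _ = _ := by rw [← conj_pow, h2, h1, pow_succ]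
      have h := hpow (orderOf e)
      rw [pow_orderOf_eq_one, one_mul, inv_one, mul_one, right_eq_mul] at h
      exact orderOf_eq_one_iff.mp (Nat.eq_one_of_dvd_coprimes he' (orderOf_dvd_of_pow_eq_one h)
        (orderOf_dvd_of_pow_eq_one (hVp c hc)))
    have heW : ∀ w ∈ W, e * w * e⁻¹ = w := fun w hw => mul_inv_eq_one.mp
      (htriv w _ (hcomV e w (hWV hw)) rfl (hd'.1 _ (hd'.2.1 w hw)))
    have heV : e ∈ centralizer (V : Set G) := mem_centralizer_iff.mpr fun v hv => by
      have h := mul_inv_eq_one.mp (htriv v _ (hcomV e v hv) rfl (heW _ (hd'.2.2 v hv)))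
      exact (mul_inv_eq_iff_eq_mul.mp h).symm
    show e = 1
    exact orderOf_eq_one_iff.mp (Nat.eq_one_of_dvd_coprimes he'
      dvd_rfl (orderOf_dvd_of_pow_eq_one (hVp e (hCV heV))))
  by_cases h1 : y * l * y⁻¹ = l
  · exact hg (stab x y l l' hlV hl'V (fun v hv => by have h := hxZ v hv; rwa [hZL] at h) hyV (hxl l (mem_zpowers l)) h1
      (hyl l' (mem_zpowers l')))
  by_cases h2 : x * l' * x⁻¹ = l'
  · refine hg ?_
    rw [Set.pair_comm]
    exact stab y x l' l hl'V hlV hyV (fun v hv => by have h := hxZ v hv; rwa [hZL] at h) (hyl l' (mem_zpowers l')) h2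
      (hxl l (mem_zpowers l))
  -- otherwise an element inverts `l`, impossible in odd order
  have hpodd : Odd p := Odd.of_dvd_nat hG (hol ▸ _root_.orderOf_dvd_natCard l)
  have hol' : orderOf l' = p := by
    rw [hl', ← MulAut.conj_apply, ← hol]
    exact MulEquiv.orderOf_eq (MulAut.conj g) l
  have hgen : ∀ (t c t₀ : G), orderOf t = p → c ∈ zpowers t → c ≠ 1 → t₀ ∈ zpowers t →
      ∃ i : ℕ, c ^ i = t₀ := by
    intro t c t₀ ht hc hc1 ht₀
    obtain ⟨n, rfl⟩ := mem_zpowers_iff.mp hc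
    have h : zpowers (t ^ n) = zpowers t := by
      refine eq_of_le_of_card_ge (zpowers_le.mpr hc) ?_
      rw [Nat.card_zpowers, Nat.card_zpowers, ht]
      refine (orderOf_eq_prime ?_ hc1).ge
      rw [← zpow_natCast, ← zpow_mul, mul_comm, zpow_mul, zpow_natCast, ← ht, pow_orderOf_eq_one,
        one_zpow]
    rw [← h] at ht₀
    exact mem_powers_iff_mem_zpowers.mpr ht₀
  have hxm : x * l' * x⁻¹ * l'⁻¹ ∈ L := hZL ▸ hxZ l' hl'V
  obtain ⟨i, hi⟩ := hgen l _ l hol hxm (fun h => h2 (mul_inv_eq_one.mp h)) (mem_zpowers l)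
  obtain ⟨j, hj⟩ := hgen l' _ l'⁻¹ hol' (hyV l hlV) (fun h => h1 (mul_inv_eq_one.mp h))
    (inv_mem (mem_zpowers l'))
  have hrep : ∀ (a t c : G) (n : ℕ), a * t * a⁻¹ * t⁻¹ = c → a * c * a⁻¹ = c →
      a ^ n * t * (a ^ n)⁻¹ = c ^ n * t := by
    intro a t c n h1 h2
    induction n with
    | zero => simp
    | succ n ih =>
      calc a ^ (n + 1) * t * (a ^ (n + 1))⁻¹ = a * (a ^ n * t * (a ^ n)⁻¹) * a⁻¹ := by
            rw [pow_succ']; group
        _ = (a * c ^ n * a⁻¹) * (a * t * a⁻¹ * t⁻¹) * t := by rw [ih]; group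
        _ = _ := by rw [← conj_pow, h2, h1, pow_succ]
  have hX1 : x ^ i * l' * (x ^ i)⁻¹ = l * l' := by
    rw [hrep x l' _ i rfl (hxl _ hxm), hi]
  have hY1 : y ^ j * l * (y ^ j)⁻¹ = l'⁻¹ * l := by
    rw [hrep y l _ j rfl (hyl _ (hyV l hlV)), hj]
  have hX2 : x ^ i * l * (x ^ i)⁻¹ = l := by
    have := hrep x l 1 i (by rw [hxl l (mem_zpowers l), mul_inv_cancel]) (by group)
    rwa [one_pow, one_mul] at this
  have hY2 : y ^ j * l' * (y ^ j)⁻¹ = l' := by
    have := hrep y l' 1 j (by rw [hyl l' (mem_zpowers l'), mul_inv_cancel]) (by group)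
    rwa [one_pow, one_mul] at this
  set X₁ := x ^ i
  set Y₁ := y ^ j
  have hc := hVc l hlV l' hl'V
  set w := X₁ * Y₁ * X₁ with hw
  have hw1 : w * l * w⁻¹ = l'⁻¹ := by
    calc w * l * w⁻¹ = X₁ * (Y₁ * (X₁ * l * X₁⁻¹) * Y₁⁻¹) * X₁⁻¹ := by rw [hw]; group
      _ = X₁ * (l'⁻¹ * l) * X₁⁻¹ := by rw [hX2, hY1]
      _ = (X₁ * l' * X₁⁻¹)⁻¹ * (X₁ * l * X₁⁻¹) := by group
      _ = _ := by rw [hX1, hX2]; group
  have hw2 : w * l' * w⁻¹ = l := by
    calc w * l' * w⁻¹ = X₁ * (Y₁ * (X₁ * l' * X₁⁻¹) * Y₁⁻¹) * X₁⁻¹ := by rw [hw]; group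
      _ = X₁ * ((Y₁ * l * Y₁⁻¹) * (Y₁ * l' * Y₁⁻¹)) * X₁⁻¹ := by rw [hX1]; group
      _ = X₁ * (l'⁻¹ * (l * l')) * X₁⁻¹ := by rw [hY1, hY2]; group
      _ = X₁ * (l'⁻¹ * (l' * l)) * X₁⁻¹ := by rw [hc]
      _ = _ := by rw [inv_mul_cancel_left]; exact hX2
  have hw4 : w ^ 2 * l * (w ^ 2)⁻¹ = l⁻¹ := by
    calc w ^ 2 * l * (w ^ 2)⁻¹ = w * (w * l * w⁻¹) * w⁻¹ := by rw [pow_two]; group
      _ = (w * l' * w⁻¹)⁻¹ := by rw [hw1]; group
      _ = _ := by rw [hw2]
  have hw8 : w ^ 4 * l * (w ^ 4)⁻¹ = l := by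
    calc w ^ 4 * l * (w ^ 4)⁻¹ = w ^ 2 * (w ^ 2 * l * (w ^ 2)⁻¹) * (w ^ 2)⁻¹ := by group
      _ = w ^ 2 * l⁻¹ * (w ^ 2)⁻¹ := by rw [hw4]
      _ = (w ^ 2 * l * (w ^ 2)⁻¹)⁻¹ := by group
      _ = _ := by rw [hw4, inv_inv]
  have hmem : w ∈ zpowers (w ^ 4) := by
    have hod : Odd (orderOf w) := Odd.of_dvd_nat hG (_root_.orderOf_dvd_natCard w)
    have h4 : (4 : ℕ).Coprime (orderOf w) := by
      rw [show (4 : ℕ) = 2 ^ 2 by norm_num]
      exact (Nat.coprime_two_left.mpr hod).pow_left 2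
    obtain ⟨m, hm⟩ := exists_pow_eq_self_of_coprime h4
    exact ⟨(m : ℤ), by show (w ^ 4) ^ (m : ℤ) = w; rw [zpow_natCast]; exact hm⟩
  have hwl : w * l = l * w := mem_centralizer_singleton_iff.mp (zpowers_le.mpr
    (mem_centralizer_singleton_iff.mpr (mul_inv_eq_iff_eq_mul.mp hw8)) hmem)
  have hinv : l = l⁻¹ := by
    have hc' : Commute (w ^ 2) l := (show Commute w l from hwl).pow_left 2
    rw [← hw4, hc'.eq, mul_inv_cancel_right]
  have h2l : orderOf l ∣ 2 := orderOf_dvd_of_pow_eq_one (by rw [pow_two]; nth_rw 2 [hinv]; group)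
  rw [hol, Nat.prime_dvd_prime_iff_eq hp.out Nat.prime_two] at h2l
  rw [h2l] at hpodd
  exact absurd hpodd (by decide)

theorem isCyclic_commutator_map {H : Type*} [Group H] (f : G →* H) (A : Subgroup G)
    (h : IsCyclic ↥⁅A, A⁆) : IsCyclic ↥⁅A.map f, A.map f⁆ := by
  rw [← map_commutator]
  exact isCyclic_of_surjective (f.subgroupMap ⁅A, A⁆) (f.subgroupMap_surjective _)

theorem sylow_normal [Group.IsSolvable G] (hG : Odd (Nat.card G)) (hO : Cfsg.pPrimeCore p G = ⊥)
    (S : Sylow p G) (hS : IsCyclic ↥⁅(S : Subgroup G), (S : Subgroup G)⁆) :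
    (S : Subgroup G).Normal := by
  set V := Cfsg.pCore p G with hV
  have hVp : IsPGroup p V := PCore.isPGroup_pCore
  have hCV : centralizer (V : Set G) ≤ V := PCore.centralizer_pCore_le_of_isSolvable hO
  set Φ := (frattini V).map V.subtype with hΦ
  have hΦn : Φ.Normal := ConjAct.normal_of_characteristic_of_normal
  have hΦV : Φ ≤ V := map_subtype_le _
  set f := QuotientGroup.mk' Φ with hf
  have hfs := QuotientGroup.mk'_surjective Φ
  have hker : f.ker = Φ := QuotientGroup.ker_mk' Φ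
  set E := (centralizer ((V.map f : Subgroup (G ⧸ Φ)) : Set (G ⧸ Φ))).comap f with hE
  have hVn' : (V.map f).Normal := (inferInstance : V.Normal).map f hfs
  have hEn : E.Normal := (inferInstance : (centralizer
    ((V.map f : Subgroup (G ⧸ Φ)) : Set (G ⧸ Φ))).Normal).comap f
  have hEp : IsPGroup p E := by
    intro ⟨d, hd⟩
    set k := (orderOf d).factorization p
    refine ⟨k + (Nat.card G).factorization p, Subtype.ext ?_⟩
    show d ^ p ^ (k + (Nat.card G).factorization p) = 1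
    set e := d ^ p ^ k with he
    have he' : (orderOf e).Coprime p := by
      refine Nat.Coprime.coprime_dvd_left (orderOf_dvd_of_pow_eq_one ?_)
        (Nat.coprime_ordCompl hp.out (orderOf_pos d).ne').symm
      rw [he, ← pow_mul]
      show d ^ (p ^ (orderOf d).factorization p * (orderOf d / p ^ (orderOf d).factorization p)) = 1
      rw [Nat.ordProj_mul_ordCompl_eq_self, pow_orderOf_eq_one]
    have hcen : zpowers e ≤ centralizer (V : Set G) := by
      refine Coprime.le_centralizer_of_frattini (by rw [normalizer_eq_top]; exact le_top) ?_ ?_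
      · obtain ⟨i, hi⟩ := IsPGroup.iff_card.mp (hVp.to_subgroup (frattini V))
        rw [Nat.card_zpowers, hi]
        exact he'.pow_right i
      · intro a ha v hv
        have haE : a ∈ E := zpowers_le.mpr (E.pow_mem hd _) ha
        have h := mem_centralizer_iff.mp (mem_comap.mp haE) _ (mem_map_of_mem f hv)
        rw [← hΦ, ← hker, MonoidHom.mem_ker, map_mul, map_mul, map_mul, map_inv, map_inv, ← h]
        group
    obtain ⟨i, hi⟩ := IsPGroup.iff_orderOf.mp hVp ⟨e, hCV (hcen (mem_zpowers e))⟩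
    rw [← Subgroup.orderOf_coe] at hi
    have he1 : e = 1 := orderOf_eq_one_iff.mp (Nat.eq_one_of_dvd_coprimes
      (he'.pow_right i) dvd_rfl hi.dvd)
    rw [pow_add, pow_mul, ← he, he1, one_pow]
  have hEV : E ≤ V := le_sSup ⟨hEn, hEp⟩
  have hV'n : (V.map f).Normal := hVn'
  have hsub := eq_of_elementary (G := G ⧸ Φ) (p := p)
    (Odd.of_dvd_nat hG (Subgroup.card_quotient_dvd_card Φ)) (S.mapSurjective hfs) (V.map f) ?_ ?_ ?_ ?_ ?_ ?_
  · have h : (S : Subgroup G) = V := by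
      have h1 := congrArg (comap f) hsub
      rwa [Sylow.coe_mapSurjective, comap_map_eq, comap_map_eq, hker,
        sup_eq_left.mpr (hΦV.trans (PCore.pCore_le_sylow S)), sup_eq_left.mpr hΦV] at h1
    rw [h]; infer_instance
  · rintro _ ⟨a, ha, rfl⟩ _ ⟨b, hb, rfl⟩
    have h1 : a * b * a⁻¹ * b⁻¹ ∈ Φ := mem_map_of_mem V.subtype
      (PGroup.commutator_le_frattini hVp (commutator_mem_commutator (mem_top (⟨a, ha⟩ : V))
        (mem_top ⟨b, hb⟩)))
    rw [← hker, MonoidHom.mem_ker, map_mul, map_mul, map_mul, map_inv, map_inv, mul_inv_eq_one,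
      mul_inv_eq_iff_eq_mul] at h1
    exact h1
  · rintro _ ⟨a, ha, rfl⟩
    rw [← map_pow, ← MonoidHom.mem_ker, hker]
    exact mem_map_of_mem V.subtype (PGroup.pow_mem_frattini hVp ⟨a, ha⟩)
  · rw [Sylow.coe_mapSurjective]
    exact map_mono (PCore.pCore_le_sylow S)
  · intro c hc
    obtain ⟨a, rfl⟩ := hfs c
    exact mem_map_of_mem f (hEV (show a ∈ E from hc))
  · intro N hN hNp
    rw [← map_comap_eq_self_of_surjective hfs N]
    refine map_mono (le_sSup ⟨hN.comap f, ?_⟩)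
    exact hNp.comap_of_ker_isPGroup f (by rw [hker]; exact hVp.to_le hΦV)
  · rw [Sylow.coe_mapSurjective]
    exact isCyclic_commutator_map f _ hS

/-- Let X be a finite solvable group of odd order, p a prime and S a Sylow p-subgroup of X whose commutator subgroup is
cyclic. Then the product of the largest normal subgroup of X of order prime to p with S is a normal subgroup of X. -/
theorem result {X : Type*} [Group X] [Finite X] [Group.IsSolvable X]
    (hX : Odd (Nat.card X)) (p : ℕ) [Fact p.Prime] (S : Sylow p X) (hS : IsCyclic (commutator (S : Subgroup X))) :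
    (Cfsg.pPrimeCore p X ⊔ (S : Subgroup X)).Normal := by
  set O := Cfsg.pPrimeCore p X with hO
  set f := QuotientGroup.mk' O with hf
  have hfs := QuotientGroup.mk'_surjective O
  have hS' : IsCyclic ↥⁅(S : Subgroup X), (S : Subgroup X)⁆ := by
    rw [← Subgroup.map_subtype_commutator]
    exact isCyclic_of_surjective ((S : Subgroup X).subtype.subgroupMap _)
      ((S : Subgroup X).subtype.subgroupMap_surjective _)
  have h := sylow_normal (G := X ⧸ O) (Odd.of_dvd_nat hX (Subgroup.card_quotient_dvd_card O))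
    PCore.pPrimeCore_quotient_self_eq_bot (S.mapSurjective hfs)
    (by rw [Sylow.coe_mapSurjective]; exact isCyclic_commutator_map f _ hS')
  have h2 := h.comap f
  rwa [Sylow.coe_mapSurjective, comap_map_eq, hf, QuotientGroup.ker_mk', sup_comm] at h2

end Cfsg.Agent.S0521
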