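import Cfsg.Statements.S0522
import Cfsg.Agent.Lib.OddOrder.TransitivityGeneral
import Cfsg.Agent.Lib.PCore.PSolvable

set_option autoImplicit false
open Cfsg

namespace Cfsg.Agent.S0522

/-- Transitivity Theorem (odd-order setting). Let X be a finite group of odd order in which the normalizer of every
nontrivial p-subgroup is solvable, P a Sylow p-subgroup, and B an abelian subgroup of P, normalized by P, with
C_P(B) = B and containing an elementary abelian subgroup of order p^3. Then for every prime q ≠ p, any two q-subgroups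
that are maximal among the q-subgroups normalized by B are conjugate by an element of the centralizer of B. -/
theorem result {X : Type*} [Group X] [Finite X] (hX : Odd (Nat.card X)) (p : ℕ)
    [Fact p.Prime] (hloc : ∀ T : Subgroup X, IsPGroup p T → T ≠ ⊥ → Group.IsSolvable (Subgroup.normalizer (T : Set X)))
    (P : Sylow p X) (B : Subgroup X) (hBP : B ≤ (P : Subgroup X))
    (hBn : ∀ x ∈ (P : Subgroup X), ∀ b ∈ B, x * b * x⁻¹ ∈ B) (hBa : IsMulCommutative B)
    (hBc : (P : Subgroup X) ⊓ Subgroup.centralizer (B : Set X) = B)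
    (hB3 : ∃ E : Subgroup X, E ≤ B ∧ (∀ e ∈ E, e ^ p = 1) ∧ p ^ 3 ≤ Nat.card E)
    (q : ℕ) [Fact q.Prime] (hqp : q ≠ p) (Q₁ Q₂ : Subgroup X)
    (h₁ : IsPGroup q Q₁ ∧ B ≤ Subgroup.normalizer (Q₁ : Set X) ∧
      ∀ R : Subgroup X, IsPGroup q R → B ≤ Subgroup.normalizer (R : Set X) → Q₁ ≤ R → R = Q₁)
    (h₂ : IsPGroup q Q₂ ∧ B ≤ Subgroup.normalizer (Q₂ : Set X) ∧
      ∀ R : Subgroup X, IsPGroup q R → B ≤ Subgroup.normalizer (R : Set X) → Q₂ ≤ R → R = Q₂) :
    ∃ c ∈ Subgroup.centralizer (B : Set X), Q₂ = Q₁.map (MulAut.conj c).toMonoidHom := by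
  haveI := hBa
  obtain ⟨E, hEB, hEp, hE3⟩ := hB3
  have hEG : IsPGroup p E := fun a => ⟨1, Subtype.ext (by simpa using hEp a a.2)⟩
  obtain ⟨m, hm⟩ := hEG.exists_card_eq
  rw [hm] at hE3
  obtain ⟨E₀, hE₀⟩ := Sylow.exists_subgroup_card_pow_prime p (G := E) (n := 2 + 1)
    (hm ▸ pow_dvd_pow p ((Nat.pow_le_pow_iff_right (Fact.out : p.Prime).one_lt).mp hE3))
  have hBp : IsPGroup p B := P.isPGroup'.to_le hBP
  have hfull : ∀ x ∈ Subgroup.centralizer (B : Set X), IsPGroup p (Subgroup.zpowers x) → x ∈ B := by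
    set C := Subgroup.centralizer (B : Set X)
    intro x hx hxp
    set N := Subgroup.normalizer (B : Set X)
    have hPB : (P : Subgroup X) ≤ N := fun g hg => Subgroup.mem_normalizer_iff.mpr fun b =>
      ⟨hBn g hg b, fun hb => by simpa [mul_assoc] using hBn g⁻¹ ((P : Subgroup X).inv_mem hg) _ hb⟩
    let PN : Sylow p N := P.subtype hPB
    have hxN : x ∈ N := Subgroup.centralizer_le_normalizer _ hx
    obtain ⟨S, hS⟩ := (hxp.comap_of_injective N.subtype N.subtype_injective).exists_le_sylow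
    obtain ⟨g, hg⟩ := MulAction.exists_smul_eq N PN S
    have hxS : (⟨x, hxN⟩ : N) ∈ (S : Subgroup N) := hS (Subgroup.mem_zpowers x)
    rw [← hg, Sylow.coe_subgroup_smul, Cfsg.Agent.Coprime.mem_conj_smul_iff] at hxS
    have hy : (g : X)⁻¹ * x * (g : X) ∈ (P : Subgroup X) := hxS
    have hyC : (g : X)⁻¹ * x * (g : X) ∈ C := by
      refine Subgroup.mem_centralizer_iff.mpr fun b hb => ?_
      have h := Subgroup.mem_centralizer_iff.mp hx _ ((Subgroup.mem_normalizer_iff.mp g.2 b).mp hb)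
      calc b * ((g : X)⁻¹ * x * g) = (g : X)⁻¹ * ((g : X) * b * (g : X)⁻¹ * x) * g := by group
        _ = (g : X)⁻¹ * (x * ((g : X) * b * (g : X)⁻¹)) * g := by rw [h]
        _ = (g : X)⁻¹ * x * g * b := by group
    have hyB : (g : X)⁻¹ * x * (g : X) ∈ B := hBc ▸ ⟨hy, hyC⟩
    have := (Subgroup.mem_normalizer_iff.mp g.2 _).mp hyB
    simpa [mul_assoc] using this
  have conv : ∀ Q : Subgroup X, (IsPGroup q Q ∧ B ≤ Subgroup.normalizer (Q : Set X) ∧
      ∀ R : Subgroup X, IsPGroup q R → B ≤ Subgroup.normalizer (R : Set X) → Q ≤ R → R = Q) →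
      Q ∈ Cfsg.maxInvSubgroups ⊤ B {q} := fun Q h => by
    refine ⟨Cfsg.Agent.OddOrder.mem_maxInv_iff.mpr ⟨h.1, h.2.1⟩, fun R hR hQR => ?_⟩
    exact h.2.2 R (Cfsg.Agent.OddOrder.mem_maxInv_iff.mp hR).1 hR.2.2 hQR
  obtain ⟨k, hk, hk'⟩ := Cfsg.Agent.OddOrder.transitivity (G := X) (p := p)
    (fun T hT hT1 => by
      haveI := hloc T hT hT1
      exact Cfsg.Agent.PCore.isPConstrained_of_isPSolvable Cfsg.Agent.PCore.isPSolvable_of_isSolvable)
    (fun h S => by
      have : S.toSubgroup = ⊥ := by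
        refine Subgroup.card_eq_one.mp ?_
        obtain ⟨j, hj⟩ := S.isPGroup'.exists_card_eq
        rcases Nat.eq_zero_or_pos j with h0 | h0
        · rw [hj, h0, pow_zero]
        · exfalso
          refine Nat.not_even_iff_odd.mpr hX (even_iff_two_dvd.mpr (dvd_trans ?_ (Subgroup.card_subgroup_dvd_card (S : Subgroup X))))
          rw [hj, h]
          exact dvd_pow_self 2 h0.ne'
      simp [this])
    hBp (E₀ := E₀.map E.subtype) ((Subgroup.map_subtype_le _).trans hEB)
    (by rw [Subgroup.card_map_of_injective E.subtype_injective, hE₀])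
    (by rintro _ ⟨a, -, rfl⟩; exact hEp a a.2) hfull hqp (conv _ h₁) (conv _ h₂)
  exact ⟨k, Cfsg.Agent.OddOrder.piCoreOf_le _ _ hk, hk'⟩

end Cfsg.Agent.S0522
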