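import Cfsg.Statements.S0529
import Cfsg.Agent.Lib.Supersolvable.Converse

set_option autoImplicit false
open Cfsg

namespace Cfsg.Agent.S0529

universe u

theorem aux (G : Type u) [Group G] [Finite G] (hG : Cfsg.IsSupersolvable G) :
    ∃ (n : ℕ) (H : Fin (n + 1) → Subgroup G), H 0 = ⊥ ∧ H (Fin.last n) = ⊤ ∧ (∀ i, (H i).Normal) ∧
      (∀ i : Fin n, H i.castSucc ≤ H i.succ ∧ ((H i.castSucc).relIndex (H i.succ)).Prime ∧
        (H i.castSucc).relIndex (H i.succ) ∣ Nat.card G) ∧
      ∀ i j : Fin n, i ≤ j → (H j.castSucc).relIndex (H j.succ) ≤ (H i.castSucc).relIndex (H i.succ) := by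
  induction hn : Nat.card G using Nat.strong_induction_on generalizing G with
  | _ n ih =>
    subst hn
    rcases subsingleton_or_nontrivial G with hs | hs
    · exact ⟨0, fun _ => ⊥, rfl, Subsingleton.elim _ _, fun _ => inferInstance, fun i => i.elim0,
        fun i => i.elim0⟩
    have hne : Nat.card G ≠ 1 := Finite.one_lt_card.ne'
    obtain ⟨q, hq, hqd⟩ := Nat.exists_prime_and_dvd hne
    obtain ⟨p, hpm, hpmax⟩ := Finset.exists_max_image (Nat.card G).primeFactors id
      ⟨q, Nat.mem_primeFactors.mpr ⟨hq, hqd, Nat.card_pos.ne'⟩⟩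
    obtain ⟨hp, hpd, -⟩ := Nat.mem_primeFactors.mp hpm
    have := Fact.mk hp
    have hmax : ∀ r : ℕ, r.Prime → r ∣ Nat.card G → r ≤ p := fun r hr hrd =>
      hpmax r (Nat.mem_primeFactors.mpr ⟨hr, hrd, Nat.card_pos.ne'⟩)
    obtain ⟨P⟩ := (inferInstance : Nonempty (Sylow p G))
    have hPn : (P : Subgroup G).Normal := Supersolvable.sylow_normal_of_largest G
      (fun H => Supersolvable.hasSubgroupOfEveryOrder H (Supersolvable.subgroup hG H)) p hmax P
    obtain ⟨N, hN, hNP, hNp⟩ := Supersolvable.exists_prime_normal_le hG (P : Subgroup G)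
      (P.ne_bot_of_dvd_card hpd)
    have hcN : Nat.card N = p := by
      obtain ⟨k, hk⟩ := IsPGroup.iff_card.mp (P.2.to_le hNP)
      exact (Nat.prime_dvd_prime_iff_eq hNp hp).mp (hNp.dvd_of_dvd_pow (n := k) (hk.symm ▸ dvd_rfl))
    obtain ⟨m, H, h0, hl, hnor, hst, hord⟩ := ih _ (Supersolvable.card_quotient_lt N hNp.one_lt)
      (G ⧸ N) (Supersolvable.quotient hG N) rfl
    let f := QuotientGroup.mk' N
    let H' : Fin (m + 2) → Subgroup G := Fin.cons ⊥ fun i => (H i).comap f
    have hf := QuotientGroup.mk'_surjective N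
    have hrel : ∀ i : Fin m, (H' i.succ.castSucc).relIndex (H' i.succ.succ) =
        (H i.castSucc).relIndex (H i.succ) := by
      intro i
      simp only [H', Fin.cons_succ, ← Fin.succ_castSucc]
      rw [Subgroup.relIndex_comap, Subgroup.map_comap_eq_self_of_surjective hf]
    have hzero : (H' (0 : Fin (m + 1)).castSucc).relIndex (H' (0 : Fin (m + 1)).succ) = p := by
      simp only [H', Fin.castSucc_zero, Fin.cons_zero, Fin.cons_succ, h0, MonoidHom.comap_bot,
        Subgroup.relIndex_bot_left]
      rw [QuotientGroup.ker_mk', hcN]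
    have hdvd : ∀ i : Fin m, (H i.castSucc).relIndex (H i.succ) ∣ Nat.card G := fun i =>
      (hst i).2.2.trans (Subgroup.card_quotient_dvd_card N)
    refine ⟨m + 1, H', rfl, ?_, ?_, ?_, ?_⟩
    · show H' (Fin.last (m + 1)) = ⊤
      rw [← Fin.succ_last]; simp only [H', Fin.cons_succ, hl, Subgroup.comap_top]
    · intro i
      refine Fin.cases ?_ (fun j => ?_) i
      · exact (inferInstance : (⊥ : Subgroup G).Normal)
      · exact (hnor j).comap f
    · intro i
      refine Fin.cases ?_ (fun j => ?_) i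
      · exact ⟨by simp [H'], hzero ▸ hp, hzero ▸ hpd⟩
      · refine ⟨?_, hrel j ▸ (hst j).2.1, hrel j ▸ hdvd j⟩
        simp only [H', Fin.cons_succ, ← Fin.succ_castSucc]
        exact Subgroup.comap_mono (hst j).1
    · intro i j hij
      revert hij
      refine Fin.cases ?_ (fun i' => ?_) i
      · refine Fin.cases ?_ (fun j' => ?_) j
        · exact fun _ => le_rfl
        · intro _
          rw [hrel, hzero]
          exact hmax _ (hst j').2.1 (hdvd j')
      · refine Fin.cases ?_ (fun j' => ?_) j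
        · intro h; exact absurd h (by simp)
        · intro h
          rw [hrel, hrel]
          exact hord i' j' (Fin.succ_le_succ_iff.mp h)

/-- A finite supersolvable group has a chain of normal subgroups, from the trivial subgroup to the whole group, in which every step has prime index and the primes occurring are non-increasing as one goes up the chain. -/
theorem result {G : Type*} [Group G] [Finite G] (hG : Cfsg.IsSupersolvable G) : ∃ (n : ℕ) (H : Fin (n + 1) → Subgroup G), H 0 = ⊥ ∧ H (Fin.last n) = ⊤ ∧ (∀ i, (H i).Normal) ∧ (∀ i : Fin n, H i.castSucc ≤ H i.succ ∧ ((H i.castSucc).relIndex (H i.succ)).Prime) ∧ ∀ i j : Fin n, i ≤ j → (H j.castSucc).relIndex (H j.succ) ≤ (H i.castSucc).relIndex (H i.succ) := by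
  obtain ⟨n, H, h0, hl, hN, hs, ho⟩ := aux G hG
  exact ⟨n, H, h0, hl, hN, fun i => ⟨(hs i).1, (hs i).2.1⟩, ho⟩

end Cfsg.Agent.S0529
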