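import Cfsg.Statements.S0530
import Cfsg.Agent.Lib.Supersolvable.Basic
import Mathlib.GroupTheory.Sylow
import Mathlib.GroupTheory.IndexNormal

set_option autoImplicit false
open Cfsg

namespace Cfsg.Agent.S0530

universe u

theorem pgroup (G : Type u) [Group G] [Finite G] (p : ℕ) [Fact p.Prime] (h : IsPGroup p G) :
    Cfsg.IsSupersolvable G := by
  induction hn : Nat.card G using Nat.strong_induction_on generalizing G with
  | _ n ih =>
    subst hn
    rcases subsingleton_or_nontrivial G with hs | hs
    · exact Supersolvable.of_subsingleton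
    have hnt := h.center_nontrivial
    obtain ⟨k, hk0, hk⟩ := (h.to_subgroup (Subgroup.center G)).nontrivial_iff_card.mp hnt
    obtain ⟨x, hx⟩ := exists_prime_orderOf_dvd_card' (G := Subgroup.center G) p
      (hk ▸ dvd_pow_self p hk0.ne')
    have hN : (Subgroup.zpowers (x : G)).Normal := by
      constructor
      intro y hy g
      have hy' : y ∈ Subgroup.center G := Subgroup.zpowers_le.mpr x.2 hy
      rwa [Subgroup.mem_center_iff.mp hy' g, mul_inv_cancel_right]
    have hcard : Nat.card (Subgroup.zpowers (x : G)) = p := by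
      rw [Nat.card_zpowers, Subgroup.orderOf_coe, hx]
    have hp : (Nat.card (Subgroup.zpowers (x : G))).Prime := hcard ▸ Fact.out
    exact Supersolvable.of_prime_normal _ hp
      (ih _ (Supersolvable.card_quotient_lt _ hp.one_lt) _ (h.to_quotient _) rfl)

theorem aux (G : Type u) [Group G] [Finite G] (p n : ℕ) [Fact p.Prime] (hp2 : p ≠ 2)
    (hG : Nat.card G = 2 * p ^ n) : Cfsg.IsSupersolvable G := by
  have hp : p.Prime := Fact.out
  induction n generalizing G with
  | zero =>
    have : IsCyclic G := isCyclic_of_prime_card (p := 2) (by simpa using hG)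
    exact Supersolvable.of_isCyclic
  | succ m ih =>
    obtain ⟨P, hP⟩ := Sylow.exists_subgroup_card_pow_prime p (n := m + 1)
      (hG ▸ Dvd.intro_left 2 rfl)
    have hidx : P.index = 2 := by
      have := P.card_mul_index
      rw [hP, hG, mul_comm 2] at this
      exact Nat.eq_of_mul_eq_mul_left (pow_pos hp.pos _) this
    have hPn : P.Normal := Subgroup.normal_of_index_eq_two hidx
    obtain ⟨t, ht⟩ := exists_prime_orderOf_dvd_card' (G := G) 2 (hG ▸ Dvd.intro _ rfl)
    have htP : t ∉ P := fun h => by
      have h2 := orderOf_dvd_natCard (⟨t, h⟩ : P)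
      rw [← Subgroup.orderOf_coe, hP, ht] at h2
      exact hp2 ((Nat.prime_dvd_prime_iff_eq Nat.prime_two hp).mp
        (Nat.prime_two.dvd_of_dvd_pow h2)).symm
    have hPg : IsPGroup p P := IsPGroup.of_card hP
    have : Nontrivial P := Finite.one_lt_card_iff_nontrivial.mp
      (hP ▸ Nat.one_lt_pow (by omega) hp.one_lt)
    obtain ⟨k, hk0, hk⟩ := (hPg.to_subgroup (Subgroup.center P)).nontrivial_iff_card.mp
      hPg.center_nontrivial
    obtain ⟨x, hx⟩ := exists_prime_orderOf_dvd_card' (G := Subgroup.center P) p
      (hk ▸ dvd_pow_self p hk0.ne')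
    have hcomm : ∀ y ∈ P, y * ((x : P) : G) = ((x : P) : G) * y := fun y hy =>
      congrArg Subtype.val (Subgroup.mem_center_iff.mp x.2 ⟨y, hy⟩)
    set a : G := ((x : P) : G)
    have haP : a ∈ P := (x : P).2
    have hao : orderOf a = p := by rw [Subgroup.orderOf_coe, Subgroup.orderOf_coe, hx]
    have htt : t * t = 1 := by rw [← pow_two, ← ht, pow_orderOf_eq_one]
    have hti : t⁻¹ = t := inv_eq_of_mul_eq_one_right htt
    set b := t * a * t⁻¹ with hb
    have hbP : b ∈ P := hPn.conj_mem a haP t
    have hcb : ∀ y ∈ P, y * b = b * y := fun y hy => by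
      have := hcomm (t⁻¹ * y * t) (by simpa using hPn.conj_mem y hy t⁻¹)
      calc y * b = t * ((t⁻¹ * y * t) * a) * t⁻¹ := by rw [hb]; simp only [mul_assoc, mul_inv_cancel_left]
        _ = b * y := by rw [this, hb]; simp only [mul_assoc, mul_inv_cancel, mul_one]
    obtain ⟨c, hcord, hcc, hct⟩ : ∃ c : G, orderOf c = p ∧ (∀ y ∈ P, y * c = c * y) ∧
        t * c * t⁻¹ ∈ Subgroup.zpowers c := by
      by_cases h1 : a * b = 1
      · refine ⟨a, hao, hcomm, ?_⟩
        rw [← hb, eq_inv_of_mul_eq_one_right h1]
        exact inv_mem (Subgroup.mem_zpowers a)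
      · refine ⟨a * b, orderOf_eq_prime ?_ h1, fun y hy => ?_, ?_⟩
        · have hbp : b ^ p = 1 := by rw [hb, conj_pow, ← hao, pow_orderOf_eq_one, mul_one, mul_inv_cancel]
          rw [(show Commute a b from (hcomm b hbP).symm).mul_pow, hbp, ← hao, pow_orderOf_eq_one, mul_one]
        · rw [← mul_assoc, hcomm y hy, mul_assoc, hcb y hy, ← mul_assoc]
        · have e : t * b * t⁻¹ = a := by
            rw [hb, hti, ← mul_assoc, ← mul_assoc, htt, one_mul, mul_assoc, htt, mul_one]
          have e2 : t * (a * b) * t⁻¹ = b * a := by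
            rw [conj_mul.symm, ← hb, e]
          rw [e2, hcomm b hbP]
          exact Subgroup.mem_zpowers _
    have hN : (Subgroup.zpowers c).Normal := by
      rw [← Subgroup.normalizer_eq_top_iff]
      refine eq_top_iff.mpr fun g _ => ?_
      have hPle : P ≤ Subgroup.normalizer (Subgroup.zpowers c : Set G) := by
        rw [Subgroup.le_normalizer_iff]
        intro y hy z hz
        obtain ⟨i, rfl⟩ := Subgroup.mem_zpowers_iff.mp hz
        rw [(show Commute y c from hcc y hy).zpow_right i |>.eq, mul_inv_cancel_right]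
        exact ⟨i, rfl⟩
      have htn : t ∈ Subgroup.normalizer (Subgroup.zpowers c : Set G) := by
        refine Subgroup.mem_normalizer_fintype fun z hz => ?_
        obtain ⟨i, rfl⟩ := Subgroup.mem_zpowers_iff.mp hz
        rw [← conj_zpow]
        exact zpow_mem hct i
      rcases em (g ∈ P) with h | h
      · exact hPle h
      · have := (Subgroup.mul_mem_iff_of_index_two hidx (a := g) (b := t)).mpr (by tauto)
        simpa using mul_mem (hPle this) (inv_mem htn)
    have hc : Nat.card (Subgroup.zpowers c) = p := by rw [Nat.card_zpowers, hcord]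
    refine Supersolvable.of_prime_normal _ (hc ▸ hp) (ih _ ?_)
    have h2 := Subgroup.card_eq_card_quotient_mul_card_subgroup (Subgroup.zpowers c)
    rw [hG, hc, pow_succ, ← mul_assoc] at h2
    exact (Nat.eq_of_mul_eq_mul_right hp.pos h2).symm

/-- A finite group whose order is twice a prime power is supersolvable. -/
theorem result {G : Type*} [Group G] [Finite G] (p n : ℕ) (hp : p.Prime) (hG : Nat.card G = 2 * p ^ n) : Cfsg.IsSupersolvable G := by
  have := Fact.mk hp
  rcases eq_or_ne p 2 with rfl | h
  · exact pgroup G 2 (IsPGroup.of_card (n := n + 1) (by rw [hG, pow_succ, mul_comm]))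
  · exact aux G p n h hG

end Cfsg.Agent.S0530
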