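import Cfsg.Statements.S0533
import Cfsg.Agent.Lib.Supersolvable.Converse
import Cfsg.Agent.Lib.Supersolvable.Nilpotent

set_option autoImplicit false
open Cfsg

namespace Cfsg.Agent.S0533

universe u

open Subgroup

theorem normal_sup {G : Type u} [Group G] {P M X : Subgroup G} (htop : P ⊔ M = ⊤)
    (hP : P ≤ normalizer (X : Set G)) (hM : M ≤ normalizer (X : Set G)) : X.Normal :=
  normalizer_eq_top_iff.mp (top_le_iff.mp (htop ▸ sup_le hP hM))

/-- A group `P ⊔ M` with `P` a normal `p`-subgroup and `M` supersolvable of index `p`. -/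
theorem core (G : Type u) [Group G] [Finite G] (p : ℕ) [hp : Fact p.Prime] (P M : Subgroup G)
    [hPn : P.Normal] (hP : IsPGroup p P) (htop : P ⊔ M = ⊤) (hidx : M.relIndex P = p)
    (hM : Cfsg.IsSupersolvable M) : Cfsg.IsSupersolvable G := by
  induction hn : Nat.card G using Nat.strong_induction_on generalizing G with
  | _ n ih =>
    subst hn
    have hP0M : M ≤ normalizer ((P ⊓ M : Subgroup G) : Set G) := by
      rw [le_normalizer_iff]
      exact fun m hm x hx => ⟨hPn.conj_mem x hx.1 m, M.mul_mem (M.mul_mem hm hx.2) (M.inv_mem hm)⟩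
    have hcard : Nat.card (P ⊓ M : Subgroup G) * p = Nat.card P := by
      rw [← hidx, ← inf_relIndex_left, mul_comm, ← index_mul_card ((P ⊓ M).subgroupOf P),
        Nat.card_congr (subgroupOfEquivOfLe (inf_le_left : P ⊓ M ≤ P)).toEquiv]
      rfl
    have : Nontrivial P := Finite.one_lt_card_iff_nontrivial.mp
      (hcard ▸ lt_of_lt_of_le hp.out.one_lt (Nat.le_mul_of_pos_left _ Nat.card_pos))
    by_cases h0 : P ⊓ M = ⊥
    · have hc : Nat.card P = p := by rw [← hcard, h0, card_bot, one_mul]
      refine Supersolvable.of_prime_normal P (hc ▸ hp.out)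
        (Supersolvable.of_surjective hM ((QuotientGroup.mk' P).comp M.subtype) ?_)
      intro q
      obtain ⟨g, rfl⟩ := QuotientGroup.mk'_surjective P q
      have hg : g ∈ ((P ⊔ M : Subgroup G) : Set G) := by rw [htop]; trivial
      rw [normal_mul] at hg
      obtain ⟨a, ha, b, hb, rfl⟩ := hg
      exact ⟨⟨b, hb⟩, by simp [(QuotientGroup.eq_one_iff a).mpr ha]⟩
    obtain ⟨k, hk⟩ := IsPGroup.iff_card.mp hP
    have hk1 : k ≠ 0 := by
      rintro rfl
      exact (Finite.one_lt_card (α := P)).ne' (by simpa using hk)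
    have hP0idx : ((P ⊓ M).subgroupOf P).index = (Nat.card P).minFac := by
      rw [← relIndex, inf_relIndex_left, hidx, hk, Nat.pow_minFac hk1, hp.out.minFac_eq]
    have hP0n : ((P ⊓ M).subgroupOf P).Normal := normal_of_index_eq_minFac_card hP0idx
    have hPN : (P ⊓ M).Normal := normal_sup htop
      ((normal_subgroupOf_iff_le_normalizer inf_le_left).mp hP0n) hP0M
    have : Group.IsNilpotent P := hP.isNilpotent
    have hne : (P ⊓ M).subgroupOf P ≠ ⊥ := by
      rw [Ne, subgroupOf_eq_bot, disjoint_iff, inf_assoc, inf_comm M P, ← inf_assoc, inf_idem]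
      exact h0
    have hz : (P ⊓ M) ⊓ centralizer (P : Set G) ≠ ⊥ := by
      obtain ⟨⟨x, hxP⟩, hx1, hxne⟩ := (bot_or_exists_ne_one _).resolve_left
        (Solvable.inf_center_ne_bot (N := (P ⊓ M).subgroupOf P) hne)
      intro e
      refine hxne (Subtype.ext ((eq_bot_iff_forall _).mp e x
        ⟨hx1.1, mem_centralizer_iff.mpr fun y hy => ?_⟩))
      exact congrArg Subtype.val (mem_center_iff.mp hx1.2 ⟨y, hy⟩)
    set Z := (P ⊓ M) ⊓ centralizer (P : Set G) with hZ
    have hZn : Z.Normal := inferInstance
    have hZM : (Z.subgroupOf M).Normal := hZn.subgroupOf M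
    obtain ⟨N, hNn, hNZ, hNp⟩ := Supersolvable.exists_prime_normal_le hM (Z.subgroupOf M) (by
      rw [Ne, subgroupOf_eq_bot, disjoint_iff, inf_eq_left.mpr (inf_le_left.trans inf_le_right)]
      exact hz)
    set N' := N.map M.subtype with hN'
    have hN'M : N' ≤ M := map_subtype_le N
    have hN'Z : N' ≤ Z := by
      rintro _ ⟨x, hx, rfl⟩
      exact hNZ hx
    have hN'n : N'.Normal := by
      refine normal_sup htop ?_ ?_
      · rw [le_normalizer_iff]
        intro y hy x hx
        rw [(mem_centralizer_iff.mp (hN'Z hx).2 y hy), mul_inv_cancel_right]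
        exact hx
      · refine (normal_subgroupOf_iff_le_normalizer hN'M).mp ?_
        rw [hN', subgroupOf, comap_map_eq_self_of_injective M.subtype_injective]
        exact hNn
    have hN'p : (Nat.card N').Prime := by rwa [hN', card_map_of_injective M.subtype_injective]
    have hf := QuotientGroup.mk'_surjective N'
    have hk' : (QuotientGroup.mk' N').ker ≤ M := by rwa [QuotientGroup.ker_mk']
    refine Supersolvable.of_prime_normal N' hN'p
      (ih _ (Supersolvable.card_quotient_lt N' hN'p.one_lt) (G ⧸ N') (P.map (QuotientGroup.mk' N'))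
        (M.map (QuotientGroup.mk' N')) (hPn := hPn.map _ hf) (hP.map _) ?_ ?_ ?_ rfl)
    · rw [← Subgroup.map_sup, htop, Subgroup.map_top_of_surjective _ hf]
    · rw [← relIndex_comap, comap_map_eq_self hk', hidx]
    · exact Supersolvable.of_surjective hM ((QuotientGroup.mk' N').subgroupMap M)
        (MonoidHom.subgroupMap_surjective _ _)

theorem aux (G : Type u) [Group G] [Finite G] (h : ∀ H : Subgroup G, Cfsg.HasSubgroupOfEveryOrder H) :
    Cfsg.IsSupersolvable G := by
  induction hn : Nat.card G using Nat.strong_induction_on generalizing G with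
  | _ n ih =>
    subst hn
    by_cases h1 : Nat.card G = 1
    · have : Subsingleton G := (Nat.card_eq_one_iff_unique.mp h1).1
      exact Supersolvable.of_subsingleton
    obtain ⟨q, hq, hqd⟩ := Nat.exists_prime_and_dvd h1
    obtain ⟨p, hpm, hpmax⟩ := Finset.exists_max_image (Nat.card G).primeFactors id
      ⟨q, Nat.mem_primeFactors.mpr ⟨hq, hqd, Nat.card_pos.ne'⟩⟩
    obtain ⟨hp, hpd, -⟩ := Nat.mem_primeFactors.mp hpm
    have := Fact.mk hp
    obtain ⟨P⟩ := (inferInstance : Nonempty (Sylow p G))
    have hPn : (P : Subgroup G).Normal := Supersolvable.sylow_normal_of_largest G h p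
      (fun r hr hrd => hpmax r (Nat.mem_primeFactors.mpr ⟨hr, hrd, Nat.card_pos.ne'⟩)) P
    obtain ⟨c, hc⟩ := hpd
    obtain ⟨M, hM⟩ := Supersolvable.HasSubgroupOfEveryOrder.of_mulEquiv Subgroup.topEquiv (h ⊤) c
      (hc ▸ Dvd.intro_left p rfl)
    have hidx : M.index = p := by
      have := M.card_mul_index
      rw [hM, hc, mul_comm p] at this
      exact Nat.eq_of_mul_eq_mul_left (hM ▸ Nat.card_pos) this
    have hlt : Nat.card M < Nat.card G := by
      rw [hM, hc]; exact lt_mul_of_one_lt_left (hM ▸ Nat.card_pos) hp.one_lt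
    have hMs : Cfsg.IsSupersolvable M := ih _ hlt M (fun H =>
      Supersolvable.HasSubgroupOfEveryOrder.of_mulEquiv
        (equivMapOfInjective H M.subtype M.subtype_injective).symm (h _)) rfl
    have hPM : ¬ (P : Subgroup G) ≤ M := fun hle =>
      P.not_dvd_index ((dvd_of_eq hidx.symm).trans (index_dvd_of_le hle))
    have hdvd : ((P : Subgroup G) ⊔ M).index ∣ p := (index_dvd_of_le le_sup_right).trans (dvd_of_eq hidx)
    have htop : (P : Subgroup G) ⊔ M = ⊤ := by
      rcases (Nat.dvd_prime hp).mp hdvd with h0 | h0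
      · exact index_eq_one.mp h0
      · exact absurd ((eq_of_le_of_card_ge (le_sup_right : M ≤ (P : Subgroup G) ⊔ M) (by
          have := ((P : Subgroup G) ⊔ M).card_mul_index
          rw [h0, ← M.card_mul_index, hidx] at this
          exact (Nat.eq_of_mul_eq_mul_right hp.pos this).le)).ge.trans' le_sup_left) hPM
    refine core G p P M P.2 htop ?_ hMs
    have e1 := relIndex_mul_index (inf_le_right : (P : Subgroup G) ⊓ M ≤ M)
    have e2 := relIndex_mul_index (inf_le_left : (P : Subgroup G) ⊓ M ≤ (P : Subgroup G))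
    rw [inf_relIndex_right, ← relIndex_sup_left, htop, relIndex_top_right] at e1
    rw [inf_relIndex_left, ← e1, mul_comm] at e2
    rw [Nat.eq_of_mul_eq_mul_left (Nat.pos_of_ne_zero index_ne_zero_of_finite) e2, hidx]

/-- If every subgroup of a finite group has subgroups of all orders dividing its order, then the group is supersolvable. -/
theorem result {G : Type*} [Group G] [Finite G] (h : ∀ H : Subgroup G, Cfsg.HasSubgroupOfEveryOrder H) : Cfsg.IsSupersolvable G := by
  exact aux G h

end Cfsg.Agent.S0533
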