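import Cfsg.Statements.S0534
import Cfsg.Agent.Lib.Supersolvable.Converse
import Cfsg.Agent.Lib.Supersolvable.Nilpotent
import Cfsg.Agent.Lib.Solvable.Hall

set_option autoImplicit false
open Cfsg

namespace Cfsg.Agent.S0534

/-- Let G be a finite solvable group and A a finite abelian group such that every prime dividing the order of A divides the order of G and, for each prime p dividing the order of G, the exponent of p in the order of A is one less than its exponent in the order of G. Then G × A has a subgroup of every order dividing its order. -/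
theorem result {G A : Type*} [Group G] [CommGroup A] [Finite G] [Finite A] [Group.IsSolvable G] (hA : ∀ p : ℕ, p.Prime → p ∣ Nat.card A → p ∣ Nat.card G) (hexp : ∀ p : ℕ, p.Prime → p ∣ Nat.card G → (Nat.card A).factorization p + 1 = (Nat.card G).factorization p) : Cfsg.HasSubgroupOfEveryOrder (G × A) := by
  classical
  intro d hd
  rw [Nat.card_prod] at hd
  set g := Nat.card G with hg
  set a := Nat.card A with ha
  have hg0 : g ≠ 0 := Nat.card_pos.ne'
  have ha0 : a ≠ 0 := Nat.card_pos.ne'
  have hd0 : d ≠ 0 := ne_zero_of_dvd_ne_zero (mul_ne_zero hg0 ha0) hd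
  let π : ℕ → Prop := fun p => g.factorization p ≤ d.factorization p
  let f₁ := g.factorization.filter π
  let f₂ := g.factorization.filter fun p => ¬ π p
  have hsum : f₁ + f₂ = g.factorization := Finsupp.filter_add_filter_not _ _
  have hpr : ∀ p ∈ g.factorization.support, p.Prime := fun p hp =>
    Nat.prime_of_mem_primeFactors (Nat.support_factorization g ▸ hp)
  have hs₁ : ∀ p ∈ f₁.support, p.Prime := fun p hp =>
    hpr p (by simp only [f₁, Finsupp.support_filter, Finset.mem_filter] at hp; exact hp.1)
  have hs₂ : ∀ p ∈ f₂.support, p.Prime := fun p hp =>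
    hpr p (by simp only [f₂, Finsupp.support_filter, Finset.mem_filter] at hp; exact hp.1)
  set m := f₁.prod (· ^ ·) with hm
  set k := f₂.prod (· ^ ·) with hk
  have hm0 : m ≠ 0 := Finset.prod_ne_zero_iff.mpr fun p hp => pow_ne_zero _ (hs₁ p hp).ne_zero
  have hk0 : k ≠ 0 := Finset.prod_ne_zero_iff.mpr fun p hp => pow_ne_zero _ (hs₂ p hp).ne_zero
  have hfm : m.factorization = f₁ := Nat.prod_pow_factorization_eq_self hs₁
  have hfk : k.factorization = f₂ := Nat.prod_pow_factorization_eq_self hs₂
  have hmk : g = m * k := Nat.eq_of_factorization_eq hg0 (mul_ne_zero hm0 hk0) fun p => by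
    rw [Nat.factorization_mul hm0 hk0, hfm, hfk, hsum]
  have hco : m.Coprime k := Nat.coprime_of_dvd fun p hp h1 h2 => by
    have h1' := hp.factorization_pos_of_dvd hm0 h1
    have h2' := hp.factorization_pos_of_dvd hk0 h2
    rw [hfm, Finsupp.filter_apply] at h1'
    rw [hfk, Finsupp.filter_apply] at h2'
    split_ifs at h1' h2' <;> first | omega | contradiction
  obtain ⟨H, hH⟩ := Solvable.exists_hall (G := G) (hg.symm.trans hmk) hco
  have hmd : m ∣ d := (Nat.factorization_le_iff_dvd hm0 hd0).mp fun p => by
    rw [hfm, Finsupp.filter_apply]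
    split_ifs with h
    · exact h
    · exact Nat.zero_le _
  obtain ⟨e, he⟩ := hmd
  have he0 : e ≠ 0 := fun h => hd0 (by rw [he, h, mul_zero])
  have hea : e ∣ a := (Nat.factorization_le_iff_dvd he0 ha0).mp fun p => by
    have h1 : d.factorization p = m.factorization p + e.factorization p := by
      rw [he, Nat.factorization_mul hm0 he0]; rfl
    have h2 : d.factorization p ≤ g.factorization p + a.factorization p := by
      have := (Nat.factorization_le_iff_dvd hd0 (mul_ne_zero hg0 ha0)).mpr hd p
      rwa [Nat.factorization_mul hg0 ha0] at this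
    rw [hfm, Finsupp.filter_apply] at h1
    by_cases hpg : p.Prime ∧ p ∣ g
    · have := hexp p hpg.1 hpg.2
      split_ifs at h1 with h
      · omega
      · change ¬ g.factorization p ≤ d.factorization p at h; omega
    · have : g.factorization p = 0 := by
        rcases not_and_or.mp hpg with h | h
        · exact Nat.factorization_eq_zero_of_not_prime g h
        · exact Nat.factorization_eq_zero_of_not_dvd h
      split_ifs at h1 <;> omega
  obtain ⟨B, hB⟩ := Supersolvable.hasSubgroupOfEveryOrder A (Supersolvable.of_isNilpotent A) e hea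
  exact ⟨H.prod B, by rw [Nat.card_congr (Subgroup.prodEquiv H B).toEquiv, Nat.card_prod, hH, hB, he]⟩

end Cfsg.Agent.S0534
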