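import Cfsg.Statements.S0535
import Cfsg.Agent.Lib.Solvable.HallConverse

set_option autoImplicit false
open Cfsg

namespace Cfsg.Agent.S0535

open Subgroup

/-- Iterating the hypothesis gives a `p`-complement. -/
theorem exists_complement {G : Type*} [Group G] [Finite G]
    (h : ∀ H : Subgroup G, H ≠ ⊥ → ∀ p : ℕ, p.Prime → p ∣ Nat.card H → ∃ K : Subgroup H, K ≠ ⊤ ∧ ∃ k : ℕ, K.index = p ^ k)
    (p : ℕ) (hp : p.Prime) :
    ∀ (n : ℕ) (H : Subgroup G), Nat.card H = n → (∃ k, H.index = p ^ k) →
      ∃ K : Subgroup G, (∃ k, K.index = p ^ k) ∧ ¬ p ∣ Nat.card K := by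
  intro n
  induction n using Nat.strong_induction_on with
  | _ n ih =>
    rintro H rfl ⟨k, hk⟩
    by_cases hd : p ∣ Nat.card H
    · have hne : H ≠ ⊥ := fun e => hp.not_dvd_one (by rwa [e, card_bot] at hd)
      obtain ⟨K, hK, j, hj⟩ := h H hne p hp hd
      have hc : Nat.card (K.map H.subtype) = Nat.card K := card_map_of_injective H.subtype_injective
      refine ih _ ?_ (K.map H.subtype) rfl ⟨j + k, ?_⟩
      · rw [hc]
        exact lt_of_le_of_ne (card_le_card_group K) fun e => hK (eq_top_of_card_eq K e)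
      · rw [← relIndex_mul_index (map_subtype_le K), hk, pow_add, ← hj]
        congr 1
        rw [relIndex, subgroupOf, comap_map_eq_self_of_injective H.subtype_injective]
    · exact ⟨H, ⟨k, hk⟩, hd⟩

/-- Suppose that for every nontrivial subgroup H of a finite group and every prime p dividing the order of H there is a proper subgroup of H whose index in H is a power of p. Then the group is solvable. -/
theorem result {G : Type*} [Group G] [Finite G] (h : ∀ H : Subgroup G, H ≠ ⊥ → ∀ p : ℕ, p.Prime → p ∣ Nat.card H → ∃ K : Subgroup H, K ≠ ⊤ ∧ ∃ k : ℕ, K.index = p ^ k) : Group.IsSolvable G := by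
  refine Solvable.isSolvable_of_pComplements fun p hp => ?_
  obtain ⟨K, ⟨k, hk⟩, hd⟩ := exists_complement h p hp _ ⊤ rfl ⟨0, by simp⟩
  refine ⟨K, ?_⟩
  rw [hk, ← K.card_mul_index, hk, Nat.factorization_mul Nat.card_pos.ne' (pow_ne_zero _ hp.ne_zero),
    Finsupp.add_apply, Nat.factorization_eq_zero_of_not_dvd hd, zero_add, hp.factorization_pow,
    Finsupp.single_eq_same]

end Cfsg.Agent.S0535
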