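import Cfsg.Statements.S0537
import Cfsg.Agent.Lib.Solvable.Schmidt
import Cfsg.Agent.Lib.Coprime.Commutator

set_option autoImplicit false
open Cfsg

namespace Cfsg.Agent.S0537

open Subgroup

/-- A finite non-abelian group in which every proper subgroup is abelian is either of prime-power order, or is generated by a cyclic Sylow p-subgroup and a normal Sylow q-subgroup that is elementary abelian, for distinct primes p and q. -/
theorem result {G : Type*} [Group G] [Finite G] (hna : ¬ IsMulCommutative G) (h : ∀ H : Subgroup G, H ≠ ⊤ → IsMulCommutative H) : (∃ p : ℕ, p.Prime ∧ IsPGroup p G) ∨ ∃ p q : ℕ, p.Prime ∧ q.Prime ∧ p ≠ q ∧ ∃ (P : Sylow p G) (Q : Sylow q G), IsCyclic P ∧ (Q : Subgroup G).Normal ∧ Cfsg.IsElementaryAbelian q (Q : Subgroup G) ∧ (P : Subgroup G) ⊔ Q = ⊤ := by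
  by_cases hnil : Group.IsNilpotent G
  · left
    by_contra hne
    refine hna (Solvable.isMulCommutative_of_nilpotent_of_sylow fun p hp P => ?_)
    refine h _ fun e => hne ⟨p, hp.out, ?_⟩
    have h1 := P.2
    rw [e] at h1
    exact h1.of_surjective (⊤ : Subgroup G).subtype fun x => ⟨⟨x, trivial⟩, rfl⟩
  right
  obtain ⟨p, q, hp, hq, hpq, P, Q, g, hP, hQ, htop, hgC, hsub⟩ := Solvable.schmidt
    (G := G) ⟨hnil, fun H hH => by
      have := h H hH
      letI : CommGroup H := { (inferInstance : Group H) with mul_comm := fun a b => mul_comm' a b }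
      infer_instance⟩
  have := Fact.mk hp
  have := Fact.mk hq
  have hQc : IsMulCommutative (Q : Subgroup G) := by
    refine h _ fun e => ?_
    have hgQ : g ∈ (Q : Subgroup G) := e ▸ mem_top g
    have hgP : g ∈ (P : Subgroup G) := hP ▸ mem_zpowers g
    have h1 : g = 1 := disjoint_def.mp (IsPGroup.disjoint_of_ne q p hpq.symm _ _ Q.2 P.2) hgQ hgP
    exact hgC (h1 ▸ one_mem _)
  refine ⟨p, q, hp, hq, hpq, P, Q, by show IsCyclic ↥(P : Subgroup G); rw [hP]; infer_instance, hQ,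
    ⟨hQc, ?_⟩, htop⟩
  let Q1 : Subgroup G :=
    { carrier := {x | x ∈ (Q : Subgroup G) ∧ x ^ q = 1}
      one_mem' := ⟨one_mem _, one_pow _⟩
      mul_mem' := fun {x y} hx hy => ⟨mul_mem hx.1 hy.1,
        by rw [(show Commute x y from setLike_mul_comm hx.1 hy.1).mul_pow, hx.2, hy.2, mul_one]⟩
      inv_mem' := fun {x} hx => ⟨inv_mem hx.1, by rw [inv_pow, hx.2, inv_one]⟩ }
  have hQ1 : Q1.Normal :=
    ⟨fun x hx y => ⟨hQ.conj_mem x hx.1 y, by rw [conj_pow, hx.2, mul_one, mul_inv_cancel]⟩⟩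
  intro x hx
  by_contra hxq
  have hne : Q1 ⊔ zpowers g ≠ ⊤ := by
    intro e
    have hx' : x ∈ ((Q1 ⊔ zpowers g : Subgroup G) : Set G) := by rw [e]; trivial
    rw [normal_mul] at hx'
    obtain ⟨a, ha, b, hb, rfl⟩ := hx'
    have hbQ : b ∈ (Q : Subgroup G) := by simpa using mul_mem (inv_mem ha.1) hx
    have h1 : b = 1 := disjoint_def.mp (IsPGroup.disjoint_of_ne q p hpq.symm _ _ Q.2 P.2) hbQ (hP ▸ hb)
    subst h1
    exact hxq (by simpa using ha.2)
  have hab := h _ hne
  refine hgC (zpowers_le.mp (Coprime.le_centralizer_of_prime_order (A := zpowers g)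
    (V := (Q : Subgroup G)) (by rw [normalizer_eq_top]; exact le_top) ?_ ?_))
  · rw [← hP]
    exact IsPGroup.coprime_card_of_ne p q hpq _ _ P.2 Q.2
  · intro v hv hvp a ha
    obtain ⟨i, hi⟩ := IsPGroup.iff_orderOf.mp Q.2 ⟨v, hv⟩
    rw [← Subgroup.orderOf_coe] at hi
    have hi' : orderOf v = q := by
      have h2 : orderOf v ∣ q ^ i := dvd_of_eq hi
      exact (Nat.prime_dvd_prime_iff_eq hvp hq).mp (hvp.dvd_of_dvd_pow h2)
    exact setLike_mul_comm (mem_sup_right ha : a ∈ Q1 ⊔ zpowers g)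
      (mem_sup_left (⟨hv, by rw [← hi', pow_orderOf_eq_one]⟩ : v ∈ Q1))

end Cfsg.Agent.S0537
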