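import Cfsg.Statements.S0539
import Cfsg.Agent.Lib.Subnormal.Join

set_option autoImplicit false
open Pointwise
open Cfsg
open Cfsg.Agent.Subnormal

namespace Cfsg.Agent.S0539

/-- Let S be a family of subnormal subgroups of a finite group that is closed under conjugation, and S₀ a proper subfamily. Then some member of S not in S₀ normalizes the join of S₀. -/
theorem result {G : Type*} [Group G] [Finite G] (S S₀ : Set (Subgroup G)) (hS : ∀ U ∈ S, U.IsSubnormal) (hconj : ∀ U ∈ S, ∀ g : G, MulAut.conj g • U ∈ S) (h₀ : S₀ ⊂ S) : ∃ X ∈ S, X ∉ S₀ ∧ X ≤ Subgroup.normalizer ((sSup S₀ : Subgroup G) : Set G) := by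
  have hsn : SN (sSup S₀) ⊤ := sn_top_iff.mpr (isSubnormal_sSup fun U hU => hS U (h₀.1 hU))
  by_cases hn : (⊤ : Subgroup G) ≤ Subgroup.normalizer ((sSup S₀ : Subgroup G) : Set G)
  · obtain ⟨X, hX, hX'⟩ := Set.exists_of_ssubset h₀
    exact ⟨X, hX, hX', le_top.trans hn⟩
  obtain ⟨z, -, hz1, hz2⟩ := exists_cj_of_not_le_normalizer hsn hn
  have hle : ∀ U ∈ S₀, cj z U ≤ Subgroup.normalizer ((sSup S₀ : Subgroup G) : Set G) := fun U hU =>
    (cj_mono (le_sSup hU)).trans (hz2.trans inf_le_left)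
  obtain ⟨U, hU, hU'⟩ : ∃ U ∈ S₀, cj z U ∉ S₀ := by
    by_contra! hall
    refine hz1 (eq_of_cj_le (Subgroup.map_le_iff_le_comap.mpr (sSup_le fun U hU => ?_)))
    exact Subgroup.map_le_iff_le_comap.mp (le_sSup (hall U hU))
  have he : cj z U = MulAut.conj z • U := rfl
  exact ⟨MulAut.conj z • U, hconj U (h₀.1 hU) z, he ▸ hU', he ▸ hle U hU⟩

end Cfsg.Agent.S0539
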