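import Cfsg.Statements.S0540
import Cfsg.Agent.Lib.Subnormal.Join

set_option autoImplicit false
open Pointwise
open Cfsg
open Cfsg.Agent.Subnormal

namespace Cfsg.Agent.S0540

/-- A uniqueness lemma of zipper type. Let A be a subgroup of a finite group G and U a nonempty family of subgroups. For V in U write S(V) for the set of conjugates of A that lie in V and are subnormal in V. Assume: A belongs to S(V) for every V in U; a member of some S(W) that lies in V belongs to S(V); and for all V, W in U the normalizer of the join of S(V) ∩ S(W) lies in some member of U. Then U has a greatest element. -/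
theorem result {G : Type*} [Group G] [Finite G] (A : Subgroup G) (U : Set (Subgroup G)) (hU : U.Nonempty) (S : Subgroup G → Set (Subgroup G)) (hS : ∀ V B : Subgroup G, B ∈ S V ↔ (∃ g : G, B = MulAut.conj g • A) ∧ B ≤ V ∧ (B.subgroupOf V).IsSubnormal) (h1 : ∀ V ∈ U, A ∈ S V) (h2 : ∀ V ∈ U, ∀ W ∈ U, ∀ B ∈ S W, B ≤ V → B ∈ S V) (h3 : ∀ V ∈ U, ∀ W ∈ U, ∃ X ∈ U, Subgroup.normalizer ((sSup (S V ∩ S W) : Subgroup G) : Set G) ≤ X) : ∃ M ∈ U, ∀ V ∈ U, V ≤ M := by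
  classical
  have hSsn : ∀ V B, B ∈ S V → SN B V := fun V B hB => ⟨((hS V B).mp hB).2.1, ((hS V B).mp hB).2.2⟩
  obtain ⟨M, hMU, hMmax⟩ := (Set.toFinite U).exists_maximal hU
  by_contra! hno
  obtain ⟨V₀, hV₀, hV₀M⟩ := hno M hMU
  obtain ⟨V₁, hV₀₁, hV₁U, hV₁max⟩ : ∃ V₁, V₀ ≤ V₁ ∧ V₁ ∈ U ∧ ∀ X ∈ U, V₁ ≤ X → X ≤ V₁ := by
    obtain ⟨V₁, h, h'⟩ := (Set.toFinite U).exists_le_maximal hV₀
    exact ⟨V₁, h, h'.1, fun X hX hle => h'.2 hX hle⟩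
  let Max := {p : Subgroup G × Subgroup G // p.1 ∈ U ∧ p.2 ∈ U ∧ p.1 ≠ p.2 ∧
    (∀ X ∈ U, p.1 ≤ X → X ≤ p.1) ∧ (∀ X ∈ U, p.2 ≤ X → X ≤ p.2)}
  have : Nonempty Max := ⟨⟨(M, V₁), hMU, hV₁U, fun he => hV₀M (by exact hV₀₁.trans he.ge),
    fun X hX h => hMmax hX h, hV₁max⟩⟩
  obtain ⟨⟨⟨V, W⟩, hV, hW, hne, hVm, hWm⟩, hmax⟩ :=
    Finite.exists_max (fun p : Max => (S p.1.1 ∩ S p.1.2).ncard)
  obtain ⟨X, hXU, hX⟩ := h3 V hV W hW
  obtain ⟨X', hXX', hX'⟩ := (Set.toFinite U).exists_le_maximal hXU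
  set K := S V ∩ S W with hK
  have hKX : ∀ B ∈ K, B ≤ X' := fun B hB =>
    ((le_sSup hB).trans Subgroup.le_normalizer).trans (hX.trans hXX')
  have hsubK : K ⊆ S X' := fun B hB => h2 X' hX'.1 V hV B hB.1 (hKX B hB)
  -- one of `V`, `W` differs from `X'`
  obtain ⟨Y, hY, hYne, hYm, hKY⟩ : ∃ Y ∈ U, Y ≠ X' ∧ (∀ Z ∈ U, Y ≤ Z → Z ≤ Y) ∧ K ⊆ S Y := by
    by_cases h : V = X'
    · exact ⟨W, hW, fun e => hne (h.trans e.symm), hWm, Set.inter_subset_right⟩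
    · exact ⟨V, hV, h, hVm, Set.inter_subset_left⟩
  have hKmax : S Y ∩ S X' = K := (Set.eq_of_subset_of_ncard_le (Set.subset_inter hKY hsubK)
    (hmax ⟨(Y, X'), hY, hX'.1, hYne, hYm, fun Z hZ h => hX'.2 hZ h⟩) (Set.toFinite _)).symm
  have hsn : SN (sSup K) Y := sn_sSup fun B hB => hSsn Y B (hKY hB)
  by_cases hn : Y ≤ Subgroup.normalizer ((sSup K : Subgroup G) : Set G)
  · exact hYne (le_antisymm (hn.trans (hX.trans hXX'))
      (hYm X' hX'.1 (hn.trans (hX.trans hXX'))))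
  obtain ⟨z, hzY, hz1, hz2⟩ := exists_cj_of_not_le_normalizer hsn hn
  refine hz1 (eq_of_cj_le (Subgroup.map_le_iff_le_comap.mpr (sSup_le fun B hB => ?_)))
  refine Subgroup.map_le_iff_le_comap.mp (le_sSup ?_)
  show cj z B ∈ K
  have hzB : cj z B ∈ S Y := by
    obtain ⟨⟨g, hg⟩, -, -⟩ := (hS Y B).mp (hKY hB)
    have h := sn_cj z (hSsn Y B (hKY hB))
    rw [cj_eq_of_mem hzY] at h
    refine (hS Y (cj z B)).mpr ⟨⟨z * g, ?_⟩, h.1, h.2⟩
    rw [hg, map_mul, mul_smul]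
    rfl
  rw [← hKmax]
  exact ⟨hzB, h2 X' hX'.1 Y hY _ hzB
    ((cj_mono (le_sSup hB)).trans (hz2.trans (inf_le_left.trans (hX.trans hXX'))))⟩

end Cfsg.Agent.S0540
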