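import Cfsg.Statements.S0542
-- import your own Cfsg.Agent.* helpers here

set_option autoImplicit false
open Cfsg

namespace Cfsg.Agent.S0542

theorem relIndex_dvd_of_normal {G : Type*} [Group G] [Finite G] (T N : Subgroup G) [N.Normal] :
    T.relIndex N ∣ T.index := by
  have h1 := Subgroup.relIndex_mul_relIndex (T ⊓ N) T (T ⊔ N) inf_le_left le_sup_left
  have h2 := Subgroup.relIndex_mul_relIndex (T ⊓ N) N (T ⊔ N) inf_le_right le_sup_right
  have h3 : N.relIndex (T ⊔ N) = N.relIndex T := Subgroup.relIndex_sup_right T N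
  rw [Subgroup.inf_relIndex_left] at h1
  rw [Subgroup.inf_relIndex_right, h3, mul_comm, ← h1] at h2
  have h4 : T.relIndex N = T.relIndex (T ⊔ N) :=
    mul_left_cancel₀ Subgroup.index_ne_zero_of_finite h2
  rw [h4, ← Subgroup.relIndex_mul_index (le_sup_left : T ≤ T ⊔ N)]
  exact Dvd.intro _ rfl

/-- A Sylow p-subgroup of a finite group meets every subnormal subgroup H in a Sylow p-subgroup of H. -/
theorem result {G : Type*} [Group G] [Finite G] (p : ℕ) [Fact p.Prime] (H : Subgroup G) (hH : H.IsSubnormal) (S : Sylow p G) : ∃ Q : Sylow p H, (Q : Subgroup H) = (S : Subgroup G).subgroupOf H := by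
  have key : ¬ p ∣ (S : Subgroup G).relIndex H := by
    induction hH with
    | top =>
      rw [Subgroup.relIndex_top_right]
      exact S.not_dvd_index
    | step H K hle _ hN ih =>
      have h1 : ((S : Subgroup G).subgroupOf K).relIndex (H.subgroupOf K) =
          (S : Subgroup G).relIndex H := Subgroup.relIndex_subgroupOf hle
      rw [← h1]
      intro h
      refine ih (h.trans ?_)
      exact relIndex_dvd_of_normal _ _
  exact ⟨(S.2.comap_subtype : IsPGroup p ((S : Subgroup G).subgroupOf H)).toSylow key, rfl⟩

end Cfsg.Agent.S0542
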