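import Cfsg.Statements.S0548
import Cfsg.Agent.Lib.Perm.Basic
import Cfsg.Agent.Lib.Solvable.Basic
import Mathlib.GroupTheory.Complement

set_option autoImplicit false
open Cfsg

namespace Cfsg.Agent.S0548

open Subgroup MulAction

/-- Let a finite solvable group G act faithfully and primitively on a set, let M be a minimal normal subgroup and H the stabilizer of a point. Then H is a complement to M, no non-identity element of H centralizes M, and the only subgroups of M normalized by H are the trivial subgroup and M. -/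
theorem result {G : Type*} [Group G] [Finite G] [Group.IsSolvable G] {Ω : Type*} [MulAction G Ω] [FaithfulSMul G Ω] (hprim : MulAction.IsPreprimitive G Ω) (M : Subgroup G) [M.Normal] (hM : M ≠ ⊥) (hmin : ∀ K : Subgroup G, K.Normal → K ≤ M → K = ⊥ ∨ K = M) (ω : Ω) : Subgroup.IsComplement' M (MulAction.stabilizer G ω) ∧ MulAction.stabilizer G ω ⊓ Subgroup.centralizer (M : Set G) = ⊥ ∧ ∀ K : Subgroup G, K ≤ M → MulAction.stabilizer G ω ≤ Subgroup.normalizer (K : Set G) → K = ⊥ ∨ K = M := by
  have := hprim
  have : Nonempty Ω := ⟨ω⟩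
  have hc : IsMulCommutative M := Solvable.isMulCommutative_of_minimal inferInstance hM hmin
  obtain ⟨ht, hs, hcent⟩ := Perm.regular_of_abelian_normal (α := Ω) hM
  have hdisj : M ⊓ stabilizer G ω = ⊥ := (eq_bot_iff_forall _).mpr fun x hx => by
    have h : (⟨x, hx.1⟩ : M) ∈ stabilizer M ω := hx.2
    rw [hs ω, mem_bot] at h
    exact congrArg Subtype.val h
  have hsup : stabilizer G ω ⊔ M = ⊤ := Perm.stabilizer_sup_eq_top ht ω
  refine ⟨isComplement'_of_disjoint_and_mul_eq_univ (disjoint_iff.mpr hdisj) ?_, ?_, ?_⟩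
  · rw [← normal_mul, sup_comm, hsup]; rfl
  · rw [hcent, inf_comm, hdisj]
  · intro K hKM hK
    refine hmin K (normalizer_eq_top_iff.mp (top_le_iff.mp (hsup ▸ sup_le hK ?_))) hKM
    rw [le_normalizer_iff]
    intro m hm k hk
    rw [setLike_mul_comm hm (hKM hk), mul_inv_cancel_right]
    exact hk

end Cfsg.Agent.S0548
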