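import Cfsg.Statements.S0549


set_option autoImplicit false
open Cfsg

namespace Cfsg.Agent.S0549

open Subgroup

/-- Let U be a maximal subgroup of a finite group G whose normal core is trivial, and N a nontrivial normal subgroup with centralizer C. Then C ∩ U = 1, and either C = 1 or C is a minimal normal subgroup of G. -/
theorem result {G : Type*} [Group G] [Finite G] (U : Subgroup G) (hU : IsCoatom U) (hcore : U.normalCore = ⊥) (N : Subgroup G) [N.Normal] (hN : N ≠ ⊥) : Subgroup.centralizer (N : Set G) ⊓ U = ⊥ ∧ (Subgroup.centralizer (N : Set G) = ⊥ ∨ (Subgroup.centralizer (N : Set G) ≠ ⊥ ∧ ∀ K : Subgroup G, K.Normal → K ≤ Subgroup.centralizer (N : Set G) → K = ⊥ ∨ K = Subgroup.centralizer (N : Set G))) := by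
  set C := centralizer (N : Set G) with hC
  have htop : ∀ K : Subgroup G, K.Normal → K ≠ ⊥ → K ⊔ U = ⊤ := fun K hK hne =>
    hU.2 _ (lt_of_le_of_ne le_sup_right fun e => hne (le_bot_iff.mp
      (hcore ▸ (normal_le_normalCore (hN := hK)).mpr (e ▸ le_sup_left))))
  have hCn : C.Normal := inferInstance
  have hI : C ⊓ U = ⊥ := by
    have hn : (C ⊓ U).Normal := by
      rw [← normalizer_eq_top_iff, ← top_le_iff, ← htop N ‹_› hN]
      refine sup_le ?_ ?_ <;> rw [le_normalizer_iff]
      · intro x hx y hy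
        rw [mem_centralizer_iff.mp hy.1 x hx, mul_inv_cancel_right]
        exact hy
      · exact fun x hx y hy => ⟨hCn.conj_mem y hy.1 x, U.mul_mem (U.mul_mem hx hy.2) (U.inv_mem hx)⟩
    exact le_bot_iff.mp (hcore ▸ (normal_le_normalCore (hN := hn)).mpr inf_le_right)
  refine ⟨hI, (em (C = ⊥)).imp id fun hne => ⟨hne, fun K hK hle => ?_⟩⟩
  refine (em (K = ⊥)).imp id fun hKne => le_antisymm hle fun c hc => ?_
  have hcs : c ∈ ((K ⊔ U : Subgroup G) : Set G) := by rw [htop K hK hKne]; trivial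
  rw [normal_mul] at hcs
  obtain ⟨k, hk, u, hu, rfl⟩ := hcs
  have : u ∈ C ⊓ U := ⟨by simpa using C.mul_mem (C.inv_mem (hle hk)) hc, hu⟩
  rw [hI, mem_bot] at this
  show k * u ∈ K
  simpa [this] using hk

end Cfsg.Agent.S0549
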