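import Cfsg.Statements.S0550
import Cfsg.Agent.S0549
import Mathlib.GroupTheory.Complement

set_option autoImplicit false
open Cfsg

namespace Cfsg.Agent.S0550

open Subgroup

theorem equiv_map {G : Type*} [Group G] (B : Subgroup G) [B.Normal] {P R : Subgroup G} (hPR : P ≤ R)
    (hd : P ⊓ B = ⊥) (hs : R ≤ P ⊔ B) : Nonempty (P ≃* R.map (QuotientGroup.mk' B)) := by
  refine ⟨MulEquiv.ofBijective
    (((QuotientGroup.mk' B).subgroupMap R).comp (Subgroup.inclusion hPR)) ⟨?_, ?_⟩⟩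
  · rw [injective_iff_map_eq_one]
    rintro ⟨x, hx⟩ h
    have h1 : x ∈ P ⊓ B := ⟨hx, (QuotientGroup.eq_one_iff x).mp (congrArg Subtype.val h)⟩
    rw [hd] at h1
    exact Subtype.ext h1
  · rintro ⟨_, r, hr, rfl⟩
    have hr' : r ∈ ((P ⊔ B : Subgroup G) : Set G) := hs hr
    rw [mul_normal] at hr'
    obtain ⟨p, hp, b, hb, rfl⟩ := hr'
    exact ⟨⟨p, hp⟩, Subtype.ext (show QuotientGroup.mk' B p = QuotientGroup.mk' B (p * b) by
      rw [map_mul, show QuotientGroup.mk' B b = 1 from (QuotientGroup.eq_one_iff b).mpr hb, mul_one])⟩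

/-- Let U be a maximal subgroup with trivial normal core in a finite group G, and A ≠ B two minimal normal subgroups. Then A is the centralizer of B and B that of A, U complements each of them, A and B are non-abelian, and A, B and (A ⊔ B) ∩ U are pairwise isomorphic. -/
theorem result {G : Type*} [Group G] [Finite G] (U : Subgroup G) (hU : IsCoatom U) (hcore : U.normalCore = ⊥) (A B : Subgroup G) [A.Normal] [B.Normal] (hA : A ≠ ⊥) (hB : B ≠ ⊥) (hAmin : ∀ K : Subgroup G, K.Normal → K ≤ A → K = ⊥ ∨ K = A) (hBmin : ∀ K : Subgroup G, K.Normal → K ≤ B → K = ⊥ ∨ K = B) (hAB : A ≠ B) : Subgroup.centralizer (B : Set G) = A ∧ Subgroup.centralizer (A : Set G) = B ∧ Subgroup.IsComplement' A U ∧ Subgroup.IsComplement' B U ∧ ¬ IsMulCommutative A ∧ Nonempty (A ≃* B) ∧ Nonempty (A ≃* ↥((A ⊔ B) ⊓ U)) := by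
  have hd : A ⊓ B = ⊥ := by
    rcases hAmin (A ⊓ B) inferInstance inf_le_left with h | h
    · exact h
    · rcases hBmin (A ⊓ B) inferInstance inf_le_right with h' | h'
      · exact h'
      · exact absurd (h.symm.trans h') hAB
  have hcomm : A ≤ Subgroup.centralizer (B : Set G) := fun a ha =>
    Subgroup.mem_centralizer_iff.mpr fun b hb =>
      ((Subgroup.commute_of_normal_of_disjoint A B ‹_› ‹_› (disjoint_iff.mpr hd)) a b ha hb).symm.eq
  have hcomm' : B ≤ Subgroup.centralizer (A : Set G) := Subgroup.le_centralizer_iff.mp hcomm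
  obtain ⟨hAU0, hA1⟩ := S0549.result U hU hcore A hA
  obtain ⟨hBU0, hB1⟩ := S0549.result U hU hcore B hB
  have hCB : Subgroup.centralizer (B : Set G) = A := by
    rcases hB1 with h | ⟨-, h⟩
    · exact absurd (le_bot_iff.mp (h ▸ hcomm)) hA
    · exact ((h A ‹_› hcomm).resolve_left hA).symm
  have hCA : Subgroup.centralizer (A : Set G) = B := by
    rcases hA1 with h | ⟨-, h⟩
    · exact absurd (le_bot_iff.mp (h ▸ hcomm')) hB
    · exact ((h B ‹_› hcomm').resolve_left hB).symm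
  rw [hCA] at hAU0
  rw [hCB] at hBU0
  have htop : ∀ K : Subgroup G, K.Normal → K ≠ ⊥ → K ⊔ U = ⊤ := fun K hK hne =>
    hU.2 _ (lt_of_le_of_ne le_sup_right fun e => hne (le_bot_iff.mp
      (hcore ▸ (Subgroup.normal_le_normalCore (hN := hK)).mpr (e ▸ le_sup_left))))
  have hcA : Subgroup.IsComplement' A U := Subgroup.isComplement'_of_disjoint_and_mul_eq_univ
    (disjoint_iff.mpr hBU0) (by rw [← Subgroup.normal_mul, htop A ‹_› hA]; rfl)
  have hcB : Subgroup.IsComplement' B U := Subgroup.isComplement'_of_disjoint_and_mul_eq_univ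
    (disjoint_iff.mpr hAU0) (by rw [← Subgroup.normal_mul, htop B ‹_› hB]; rfl)
  refine ⟨hCB, hCA, hcA, hcB, fun hab => ?_, ?_, ?_⟩
  · have hle : A ≤ B := hCA ▸ Subgroup.le_centralizer_iff.mpr
      (fun a ha => Subgroup.mem_centralizer_iff.mpr fun a' ha' => setLike_mul_comm ha' ha)
    exact hA (le_bot_iff.mp (hd ▸ le_inf le_rfl hle))
  all_goals
    have hWA : A ⊔ B ≤ (A ⊔ B) ⊓ U ⊔ B := by
      intro x hx
      have hxu : x ∈ ((B ⊔ U : Subgroup G) : Set G) := by rw [htop B ‹_› hB]; trivial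
      rw [Subgroup.normal_mul] at hxu
      obtain ⟨b, hb, u, hu, rfl⟩ := hxu
      have huW : u ∈ (A ⊔ B) ⊓ U :=
        ⟨by simpa using (A ⊔ B).mul_mem ((A ⊔ B).inv_mem (Subgroup.mem_sup_right hb)) hx, hu⟩
      exact mul_mem (Subgroup.mem_sup_right hb) (Subgroup.mem_sup_left huW)
    have hWB : A ⊔ B ≤ (A ⊔ B) ⊓ U ⊔ A := by
      intro x hx
      have hxu : x ∈ ((A ⊔ U : Subgroup G) : Set G) := by rw [htop A ‹_› hA]; trivial
      rw [Subgroup.normal_mul] at hxu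
      obtain ⟨b, hb, u, hu, rfl⟩ := hxu
      have huW : u ∈ (A ⊔ B) ⊓ U :=
        ⟨by simpa using (A ⊔ B).mul_mem ((A ⊔ B).inv_mem (Subgroup.mem_sup_left hb)) hx, hu⟩
      exact mul_mem (Subgroup.mem_sup_right hb) (Subgroup.mem_sup_left huW)
    have hWd : (A ⊔ B) ⊓ U ⊓ B = ⊥ :=
      le_bot_iff.mp (hAU0 ▸ le_inf inf_le_right (inf_le_left.trans inf_le_right))
    have hWd' : (A ⊔ B) ⊓ U ⊓ A = ⊥ :=
      le_bot_iff.mp (hBU0 ▸ le_inf inf_le_right (inf_le_left.trans inf_le_right))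
    obtain ⟨e1⟩ := equiv_map B (le_sup_left : A ≤ A ⊔ B) hd le_rfl
    obtain ⟨e2⟩ := equiv_map B (inf_le_left : (A ⊔ B) ⊓ U ≤ A ⊔ B) hWd hWA
    obtain ⟨e3⟩ := equiv_map A (le_sup_right : B ≤ A ⊔ B) (inf_comm A B ▸ hd) (sup_comm A B).le
    obtain ⟨e4⟩ := equiv_map A (inf_le_left : (A ⊔ B) ⊓ U ≤ A ⊔ B) hWd' hWB
  · exact ⟨(e1.trans e2.symm).trans (e4.trans e3.symm)⟩
  · exact ⟨e1.trans e2.symm⟩

end Cfsg.Agent.S0550
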