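import Cfsg.Statements.S0551
import Cfsg.Agent.Lib.Solvable.Basic
import Cfsg.Agent.Lib.Coprime.Basic
import Cfsg.Agent.Lib.PGroup.Basic

set_option autoImplicit false
open Pointwise
open Cfsg

namespace Cfsg.Agent.S0551

open Subgroup
open scoped Pointwise

/-- In a finite solvable group all core-free maximal subgroups are conjugate. -/
theorem result {G : Type*} [Group G] [Finite G] [Group.IsSolvable G] (U V : Subgroup G) (hU : IsCoatom U) (hV : IsCoatom V) (hUc : U.normalCore = ⊥) (hVc : V.normalCore = ⊥) : ∃ g : G, MulAut.conj g • U = V := by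
  have hne : (⊤ : Subgroup G) ≠ ⊥ := fun h => hU.1 (le_antisymm le_top (h ▸ bot_le))
  obtain ⟨N, p, hN, -, hNne, hmin, hNc, hp, hNp⟩ :=
    Solvable.exists_abelian_minimal_normal (G := G) (K := ⊤) inferInstance hne
  have := Fact.mk hp
  have key : ∀ W : Subgroup G, IsCoatom W → W.normalCore = ⊥ → N ⊔ W = ⊤ ∧ N ⊓ W = ⊥ ∧
      Subgroup.centralizer (N : Set G) = N := by
    intro W hW hWc
    have htop : N ⊔ W = ⊤ := hW.2 _ (lt_of_le_of_ne le_sup_right fun e => hNne (le_bot_iff.mp
      (hWc ▸ (Subgroup.normal_le_normalCore (hN := hN)).mpr (e ▸ le_sup_left))))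
    have hd : N ⊓ W = ⊥ := by
      have hn : (N ⊓ W).Normal := by
        rw [← Subgroup.normalizer_eq_top_iff, ← top_le_iff, ← htop]
        refine sup_le ?_ ?_ <;> rw [Subgroup.le_normalizer_iff]
        · intro a ha b hb
          rw [setLike_mul_comm ha hb.1, mul_inv_cancel_right]
          exact hb
        · exact fun a ha b hb => ⟨hN.conj_mem b hb.1 a, W.mul_mem (W.mul_mem ha hb.2) (W.inv_mem ha)⟩
      exact le_bot_iff.mp (hWc ▸ (Subgroup.normal_le_normalCore (hN := hn)).mpr inf_le_right)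
    refine ⟨htop, hd, ?_⟩
    have hNC : N ≤ Subgroup.centralizer (N : Set G) := fun a ha =>
      Subgroup.mem_centralizer_iff.mpr fun b hb => setLike_mul_comm hb ha
    have hCW : Subgroup.centralizer (N : Set G) ⊓ W = ⊥ := by
      have hn : (Subgroup.centralizer (N : Set G) ⊓ W).Normal := by
        rw [← Subgroup.normalizer_eq_top_iff, ← top_le_iff, ← htop]
        refine sup_le ?_ ?_ <;> rw [Subgroup.le_normalizer_iff]
        · intro a ha b hb
          rw [Subgroup.mem_centralizer_iff.mp hb.1 a ha, mul_inv_cancel_right]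
          exact hb
        · exact fun a ha b hb => ⟨(inferInstance : (Subgroup.centralizer (N : Set G)).Normal).conj_mem b hb.1 a,
            W.mul_mem (W.mul_mem ha hb.2) (W.inv_mem ha)⟩
      exact le_bot_iff.mp (hWc ▸ (Subgroup.normal_le_normalCore (hN := hn)).mpr inf_le_right)
    refine le_antisymm (fun c hc => ?_) hNC
    have hc' : c ∈ ((N ⊔ W : Subgroup G) : Set G) := by rw [htop]; trivial
    rw [Subgroup.normal_mul] at hc'
    obtain ⟨a, ha, w, hw, rfl⟩ := hc'
    have : w ∈ Subgroup.centralizer (N : Set G) ⊓ W :=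
      ⟨by simpa using mul_mem (inv_mem (hNC ha)) hc, hw⟩
    rw [hCW, Subgroup.mem_bot] at this
    show a * w ∈ N
    rwa [this, mul_one]
  obtain ⟨hUt, hUd, hCN⟩ := key U hU hUc
  obtain ⟨hVt, hVd, -⟩ := key V hV hVc
  by_cases hNt : N = ⊤
  · have hU0 : U = ⊥ := by rw [← hUd, hNt, top_inf_eq]
    have hV0 : V = ⊥ := by rw [← hVd, hNt, top_inf_eq]
    exact ⟨1, by rw [hU0, hV0, map_one, one_smul]⟩
  have : Nontrivial (G ⧸ N) := Finite.one_lt_card_iff_nontrivial.mp
    (lt_of_le_of_ne Nat.card_pos fun e => hNt (Subgroup.index_eq_one.mp e.symm))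
  obtain ⟨M', q, hM'n, -, hM'ne, -, -, hq, hM'q⟩ :=
    Solvable.exists_abelian_minimal_normal (G := G ⧸ N) (K := ⊤) inferInstance top_ne_bot
  have := Fact.mk hq
  set M := M'.comap (QuotientGroup.mk' N) with hM
  have hMn : M.Normal := hM'n.comap _
  have hNM : N ≤ M := fun c hc => by
    rw [hM, Subgroup.mem_comap, show QuotientGroup.mk' N c = 1 from (QuotientGroup.eq_one_iff c).mpr hc]
    exact one_mem _
  let f : M →* M' := (QuotientGroup.mk' N).subgroupComap M'
  have hf : Function.Surjective f :=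
    MonoidHom.subgroupComap_surjective_of_surjective _ M' (QuotientGroup.mk'_surjective N)
  have hsplit : ∀ W : Subgroup G, N ⊔ W = ⊤ → M ≤ N ⊔ (W ⊓ M) := by
    intro W hW m hm
    have hm' : m ∈ ((N ⊔ W : Subgroup G) : Set G) := by rw [hW]; trivial
    rw [Subgroup.normal_mul] at hm'
    obtain ⟨a, ha, w, hw, rfl⟩ := hm'
    exact Subgroup.mul_mem_sup ha
      ⟨hw, by simpa using M.mul_mem (M.inv_mem (hNM ha)) hm⟩
  have hMcard : ∀ W : Subgroup G, N ⊔ W = ⊤ → N ⊓ W = ⊥ →
      Nat.card (W ⊓ M : Subgroup G) = Nat.card M' := by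
    intro W hW hd
    let φ : (W ⊓ M : Subgroup G) →* M' := f.comp (Subgroup.inclusion inf_le_right)
    refine Nat.card_congr (Equiv.ofBijective φ ⟨?_, ?_⟩)
    · rw [injective_iff_map_eq_one]
      rintro ⟨z, hz⟩ h
      have h1 : z ∈ N ⊓ W := ⟨(QuotientGroup.eq_one_iff z).mp (congrArg Subtype.val h), hz.1⟩
      rw [hd] at h1
      exact Subtype.ext h1
    · intro y
      obtain ⟨⟨m, hm⟩, rfl⟩ := hf y
      have hm' : m ∈ ((N ⊔ (W ⊓ M) : Subgroup G) : Set G) := hsplit W hW hm
      rw [Subgroup.normal_mul] at hm'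
      obtain ⟨a, ha, w, hw, rfl⟩ := hm'
      refine ⟨⟨w, hw⟩, Subtype.ext (show QuotientGroup.mk' N w = QuotientGroup.mk' N (a * w) from ?_)⟩
      rw [map_mul, show QuotientGroup.mk' N a = 1 from (QuotientGroup.eq_one_iff a).mpr ha, one_mul]
  obtain ⟨i, hi⟩ := IsPGroup.iff_card.mp hNp
  obtain ⟨j, hj⟩ := IsPGroup.iff_card.mp hM'q
  have hqp : q ≠ p := by
    rintro rfl
    have hMp : IsPGroup q M := by
      refine IsPGroup.of_card (n := j + i) ?_
      rw [← (N.subgroupOf M).index_mul_card, Coprime.card_subgroupOf hNM, hi, pow_add]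
      congr 1
      rw [← hj, ← Nat.card_congr (QuotientGroup.quotientKerEquivOfSurjective f hf).toEquiv,
        Subgroup.index_eq_card]
      congr 2
      ext z
      rw [Subgroup.mem_subgroupOf, MonoidHom.mem_ker]
      exact ⟨fun h => Subtype.ext ((QuotientGroup.eq_one_iff (z : G)).mpr h),
        fun h => (QuotientGroup.eq_one_iff (z : G)).mp (congrArg Subtype.val h)⟩
    have hne' : N.subgroupOf M ≠ ⊥ := by
      rw [Ne, Subgroup.subgroupOf_eq_bot, disjoint_iff, inf_eq_left.mpr hNM]; exact hNne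
    obtain ⟨⟨z, hzM⟩, ⟨hzN, hzc⟩, hz1⟩ :=
      (Subgroup.bot_or_exists_ne_one _).resolve_left (PGroup.inf_center_ne_bot hMp (N.subgroupOf M) hne')
    have hzI : z ∈ N ⊓ Subgroup.centralizer (M : Set G) := ⟨hzN, Subgroup.mem_centralizer_iff.mpr
      fun y hy => congrArg Subtype.val (Subgroup.mem_center_iff.mp hzc ⟨y, hy⟩)⟩
    rcases hmin (N ⊓ Subgroup.centralizer (M : Set G)) inferInstance inf_le_left with h | h
    · rw [h, Subgroup.mem_bot] at hzI
      exact hz1 (Subtype.ext hzI)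
    · have hle : M ≤ N := hCN ▸ Subgroup.le_centralizer_iff.mp (inf_eq_left.mp h)
      apply hM'ne
      rw [eq_bot_iff]
      intro y hy
      obtain ⟨m, rfl⟩ := QuotientGroup.mk'_surjective N y
      rw [Subgroup.mem_bot]
      exact (QuotientGroup.eq_one_iff m).mpr (hle hy)
  set U₀ := U ⊓ M with hU₀
  set V₀ := V ⊓ M with hV₀
  have hcop : (Nat.card U₀).Coprime (Nat.card N) := by
    rw [hU₀, hMcard U hUt hUd, hi, hj]
    exact ((Nat.coprime_primes hq hp).mpr hqp).pow _ _
  have hNn : U₀ ≤ Subgroup.normalizer (N : Set G) := by rw [Subgroup.normalizer_eq_top]; exact le_top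
  obtain ⟨g, -, hg⟩ := Coprime.exists_conj_eq_of_le_sup (N := N) (H := U₀) (K := V₀) hNn
    (le_trans inf_le_right ((hsplit U hUt).trans (sup_comm N U₀).le))
    (by rw [hV₀, hU₀, hMcard V hVt hVd, hMcard U hUt hUd]) hcop (Or.inr inferInstance)
  have hnorm : ∀ W : Subgroup G, IsCoatom W → W.normalCore = ⊥ → N ⊔ W = ⊤ → N ⊓ W = ⊥ →
      Subgroup.normalizer ((W ⊓ M : Subgroup G) : Set G) = W := by
    intro W hW hWc hWt hWd
    have hle : W ≤ Subgroup.normalizer ((W ⊓ M : Subgroup G) : Set G) := by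
      rw [Subgroup.le_normalizer_iff]
      exact fun a ha b hb => ⟨W.mul_mem (W.mul_mem ha hb.1) (W.inv_mem ha), hMn.conj_mem b hb.2 a⟩
    by_contra hne2
    have hn : (W ⊓ M).Normal :=
      Subgroup.normalizer_eq_top_iff.mp (hW.2 _ (lt_of_le_of_ne hle (Ne.symm hne2)))
    have h0 : W ⊓ M = ⊥ := le_bot_iff.mp (hWc ▸ (Subgroup.normal_le_normalCore (hN := hn)).mpr inf_le_left)
    have h1 := hMcard W hWt hWd
    rw [h0, Subgroup.card_bot] at h1
    exact hM'ne (Subgroup.card_eq_one.mp h1.symm)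
  refine ⟨g, ?_⟩
  rw [← hnorm U hU hUc hUt hUd, ← hnorm V hV hVc hVt hVd]
  ext z
  rw [Coprime.mem_conj_smul_iff, Subgroup.mem_normalizer_iff, Subgroup.mem_normalizer_iff, ← hU₀, ← hV₀, ← hg]
  simp only [Coprime.mem_conj_smul_iff]
  constructor
  · intro h y
    have := h (g⁻¹ * y * g)
    simpa [mul_assoc] using this
  · intro h y
    have := h (g * y * g⁻¹)
    simpa [mul_assoc] using this

end Cfsg.Agent.S0551
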