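import Cfsg.Statements.S0553
import Cfsg.Agent.Lib.Solvable.Basic
import Mathlib.GroupTheory.Complement

set_option autoImplicit false
open Cfsg

namespace Cfsg.Agent.S0553

universe u

open Subgroup

theorem aux (G : Type u) [Group G] [Finite G] [Group.IsSolvable G] [Nontrivial G]
    (h : ∀ M : Subgroup G, IsCoatom M → (Nat.card M).Coprime M.index) :
    ∃ p : ℕ, p.Prime ∧ p ∣ Nat.card G ∧ ∃ P : Sylow p G, (P : Subgroup G).Normal := by
  induction hn : Nat.card G using Nat.strong_induction_on generalizing G with
  | _ n ih =>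
    subst hn
    obtain ⟨N, p, hN, -, hNne, hmin, hNc, hp, hNp⟩ :=
      Solvable.exists_abelian_minimal_normal (G := G) (K := ⊤) inferInstance top_ne_bot
    have := Fact.mk hp
    have hpdN : p ∣ Nat.card N := by
      obtain ⟨k, hk⟩ := IsPGroup.iff_card.mp hNp
      rcases eq_or_ne k 0 with rfl | hk0
      · exact absurd (card_eq_one.mp (by simpa using hk)) hNne
      · exact hk ▸ dvd_pow_self p hk0
    have hpG : p ∣ Nat.card G := hpdN.trans N.card_subgroup_dvd_card
    have hNP : ∀ P : Sylow p G, N ≤ (P : Subgroup G) := fun P => by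
      obtain ⟨Q, hQ⟩ := hNp.exists_le_sylow
      obtain ⟨g, rfl⟩ := MulAction.exists_smul_eq G Q P
      intro x hx
      rw [Sylow.coe_subgroup_smul, mem_pointwise_smul_iff_inv_smul_mem]
      exact hQ (by simpa using hN.conj_mem x hx g⁻¹)
    rcases eq_or_ne N ⊤ with hNt | hNt
    · obtain ⟨P⟩ := (inferInstance : Nonempty (Sylow p G))
      have : (P : Subgroup G) = ⊤ := top_le_iff.mp (hNt ▸ hNP P)
      exact ⟨p, hp, hpG, P, this ▸ inferInstance⟩
    have hsurj := QuotientGroup.mk'_surjective N
    have : Nontrivial (G ⧸ N) := Finite.one_lt_card_iff_nontrivial.mp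
      (lt_of_le_of_ne Nat.card_pos fun e => hNt (index_eq_one.mp e.symm))
    have hq : ∀ M : Subgroup (G ⧸ N), IsCoatom M → (Nat.card M).Coprime M.index := by
      intro M hM
      have hc : IsCoatom (M.comap (QuotientGroup.mk' N)) :=
        isCoatom_comap_of_surjective hsurj hM
      have := h _ hc
      rw [index_comap_of_surjective M hsurj] at this
      refine this.coprime_dvd_left ?_
      have h2 := card_dvd_of_surjective ((QuotientGroup.mk' N).subgroupComap M)
        (MonoidHom.subgroupComap_surjective_of_surjective _ M hsurj)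
      exact h2
    obtain ⟨q, hq', hqd, Q₀, hQ₀⟩ := ih _ (by
      rw [card_eq_card_quotient_mul_card_subgroup N]
      exact lt_mul_of_one_lt_right Nat.card_pos (Nat.le_of_dvd Nat.card_pos hpdN |>.trans_lt' hp.one_lt))
      (G ⧸ N) hq rfl
    have := Fact.mk hq'
    obtain ⟨Q⟩ := (inferInstance : Nonempty (Sylow q G))
    have hQimg : (Q.mapSurjective hsurj : Sylow q (G ⧸ N)) = Q₀ := by
      have := Q₀.unique_of_normal hQ₀
      exact Subsingleton.elim _ _
    have hQN : ((Q : Subgroup G) ⊔ N).Normal := by
      have := hQ₀.comap (QuotientGroup.mk' N)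
      rw [← hQimg, Sylow.coe_mapSurjective, comap_map_eq, QuotientGroup.ker_mk'] at this
      exact this
    by_cases hqp : q = p
    · subst hqp
      rw [sup_eq_left.mpr (hNP Q)] at hQN
      exact ⟨q, hp, hpG, Q, hQN⟩
    by_cases hQn : (Q : Subgroup G).Normal
    · exact ⟨q, hq', hqd.trans (card_quotient_dvd_card N), Q, hQn⟩
    have hF := Sylow.normalizer_sup_eq_top' (N := (Q : Subgroup G) ⊔ N) Q le_sup_left
    rw [← sup_assoc] at hF
    obtain ⟨M, hM, hle⟩ := (eq_top_or_exists_le_coatom (normalizer ((Q : Subgroup G) : Set G))).resolve_left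
      fun e => hQn (normalizer_eq_top_iff.mp e)
    have hMN : M ⊔ N = ⊤ := top_le_iff.mp (hF ▸
      sup_le_sup_right (sup_le hle ((le_normalizer (H := (Q : Subgroup G))).trans hle)) N)
    have hI : (M ⊓ N).Normal := by
      rw [← normalizer_eq_top_iff, ← top_le_iff, ← hMN]
      refine sup_le ?_ ?_ <;> rw [le_normalizer_iff]
      · exact fun m hm x hx => ⟨M.mul_mem (M.mul_mem hm hx.1) (M.inv_mem hm), hN.conj_mem x hx.2 m⟩
      · intro m hm x hx
        rw [setLike_mul_comm hm hx.2, mul_inv_cancel_right]
        exact hx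
    have hdisj : Disjoint M N := by
      rcases hmin _ hI inf_le_right with e | e
      · exact disjoint_iff.mpr e
      · exact absurd (top_le_iff.mp (hMN ▸ sup_le le_rfl (e ▸ inf_le_left))) hM.1
    have hc : IsComplement' M N := isComplement'_of_disjoint_and_mul_eq_univ hdisj
      (by rw [← mul_normal, hMN]; rfl)
    have hpM : ¬ p ∣ Nat.card M := fun hd => by
      have := h M hM
      rw [hc.symm.index_eq_card] at this
      exact hp.ne_one (Nat.eq_one_of_dvd_coprimes this hd hpdN)
    refine ⟨p, hp, hpG, hNp.toSylow ?_, hN⟩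
    rwa [hc.index_eq_card]

/-- Let G be a nontrivial finite solvable group in which every maximal subgroup has order coprime to its index. Then for some prime p dividing the order of G the Sylow p-subgroups of G are normal. -/
theorem result {G : Type*} [Group G] [Finite G] [Group.IsSolvable G] [Nontrivial G] (h : ∀ M : Subgroup G, IsCoatom M → (Nat.card M).Coprime M.index) : ∃ p : ℕ, p.Prime ∧ p ∣ Nat.card G ∧ ∀ P : Sylow p G, (P : Subgroup G).Normal := by
  obtain ⟨p, hp, hpd, P, hP⟩ := aux G h
  have := Fact.mk hp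
  have := P.unique_of_normal hP
  exact ⟨p, hp, hpd, fun Q => by rw [Subsingleton.elim Q P]; exact hP⟩

end Cfsg.Agent.S0553
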