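import Cfsg.Statements.S0554
import Cfsg.Agent.Lib.Solvable.Basic

set_option autoImplicit false
open Cfsg

namespace Cfsg.Agent.S0554

universe u

open Subgroup

theorem slide {G : Type u} [Group G] (N : Subgroup G) [hN : N.Normal] : ∀ {t : ℕ} (s : Fin t → G)
    (i : Fin t) {n : G}, n ∈ N → ∃ n' ∈ N,
      (List.ofFn s).prod * n = (List.ofFn (Function.update s i (s i * n'))).prod := by
  intro t
  induction t with
  | zero => exact fun _ i => i.elim0
  | succ t ih =>
    intro s i n hn
    induction i using Fin.cases with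
    | zero =>
      refine ⟨_, hN.conj_mem n hn (List.ofFn fun j : Fin t => s j.succ).prod, ?_⟩
      simp only [List.ofFn_succ, List.prod_cons, Function.update_self, ne_eq, Fin.succ_ne_zero,
        not_false_eq_true, Function.update_of_ne]
      group
    | succ j =>
      obtain ⟨n', hn', h⟩ := ih (fun k => s k.succ) j hn
      refine ⟨n', hn', ?_⟩
      simp only [List.ofFn_succ, List.prod_cons, mul_assoc] at h ⊢
      rw [h]
      rw [Function.update_of_ne (Fin.succ_ne_zero j).symm]
      congr 3
      exact (Function.update_comp_eq_of_injective' s (Fin.succ_injective t) j _).symm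

theorem aux (G : Type u) [Group G] [Finite G] [Group.IsSolvable G] (t : ℕ) (p : Fin t → ℕ)
    (hp : ∀ i, (p i).Prime) (hall : ∀ q : ℕ, q.Prime → q ∣ Nat.card G → ∃ i, p i = q)
    (S : (i : Fin t) → Sylow (p i) G) (g : G) :
    ∃ s : (i : Fin t) → G, (∀ i, s i ∈ (S i : Subgroup G)) ∧ g = (List.ofFn s).prod := by
  induction hn : Nat.card G using Nat.strong_induction_on generalizing G with
  | _ n ih =>
    subst hn
    rcases subsingleton_or_nontrivial G with hs | hs
    · exact ⟨fun _ => 1, fun i => one_mem _, Subsingleton.elim _ _⟩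
    obtain ⟨N, q, hN, -, hNne, -, -, hq, hNq⟩ :=
      Solvable.exists_abelian_minimal_normal (G := G) (K := ⊤) inferInstance top_ne_bot
    have := Fact.mk hq
    obtain ⟨k, hk⟩ := IsPGroup.iff_card.mp hNq
    have hk0 : k ≠ 0 := by rintro rfl; exact hNne (card_eq_one.mp (by simpa using hk))
    obtain ⟨i, hi⟩ := hall q hq ((hk ▸ dvd_pow_self q hk0 : q ∣ Nat.card N).trans N.card_subgroup_dvd_card)
    have := fun j => Fact.mk (hp j)
    have hNi : N ≤ (S i : Subgroup G) := by
      obtain ⟨Q, hQ⟩ := (hi.symm ▸ hNq : IsPGroup (p i) N).exists_le_sylow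
      obtain ⟨g, hg⟩ := MulAction.exists_smul_eq G Q (S i)
      rw [← hg]
      intro x hx
      rw [Sylow.coe_subgroup_smul, mem_pointwise_smul_iff_inv_smul_mem]
      exact hQ (by simpa using hN.conj_mem x hx g⁻¹)
    have hsurj := QuotientGroup.mk'_surjective N
    have hlt : Nat.card (G ⧸ N) < Nat.card G := by
      rw [card_eq_card_quotient_mul_card_subgroup N]
      exact lt_mul_of_one_lt_right Nat.card_pos (hk ▸ Nat.one_lt_pow hk0 hq.one_lt)
    obtain ⟨s', hs', he⟩ := ih _ hlt (G ⧸ N)
      (fun r hr hrd => hall r hr (hrd.trans (card_quotient_dvd_card N)))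
      (fun j => (S j).mapSurjective hsurj) (QuotientGroup.mk' N g) rfl
    choose s hs hse using fun j => Subgroup.mem_map.mp (hs' j)
    have hmem : ((List.ofFn s).prod)⁻¹ * g ∈ N := by
      refine QuotientGroup.eq.mp (?_ : QuotientGroup.mk' N (List.ofFn s).prod = QuotientGroup.mk' N g)
      rw [map_list_prod, List.map_ofFn, he]
      congr 2
      exact funext hse
    obtain ⟨n', hn', e⟩ := slide N s i hmem
    refine ⟨_, fun j => ?_, by rw [← e, mul_inv_cancel_left]⟩
    rcases eq_or_ne j i with rfl | hj
    · rw [Function.update_self]; exact mul_mem (hs j) (hNi hn')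
    · rw [Function.update_of_ne hj]; exact hs j

/-- Let G be a finite solvable group and let S assign to each of t distinct primes, including every prime divisor of the order of G, a Sylow subgroup of G. Then every element of G is a product s_0 s_1 ⋯ s_(t-1) with s_i in S i, the factors taken in the given order. -/
theorem result {G : Type*} [Group G] [Finite G] [Group.IsSolvable G] (t : ℕ) (p : Fin t → ℕ) (hp : ∀ i, (p i).Prime) (hinj : Function.Injective p) (hall : ∀ q : ℕ, q.Prime → q ∣ Nat.card G → ∃ i, p i = q) (S : (i : Fin t) → Sylow (p i) G) : ∀ g : G, ∃ s : (i : Fin t) → G, (∀ i, s i ∈ (S i : Subgroup G)) ∧ g = (List.ofFn s).prod := by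
  exact aux G t p hp hall S

end Cfsg.Agent.S0554
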