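import Cfsg.Statements.S0555
-- import your own Cfsg.Agent.* helpers here

set_option autoImplicit false
open Cfsg

namespace Cfsg.Agent.S0555

/-- Let i ≥ 1. If in the derived series of a group the quotient of the i-th term by the (i+1)-st and the quotient of the (i+1)-st by the (i+2)-nd are both cyclic, then the (i+1)-st and (i+2)-nd terms coincide. -/
theorem result {G : Type*} [Group G] (i : ℕ) (hi : 1 ≤ i) (h₁ : IsCyclic (↥(derivedSeries G i) ⧸ (derivedSeries G (i + 1)).subgroupOf (derivedSeries G i))) (h₂ : IsCyclic (↥(derivedSeries G (i + 1)) ⧸ (derivedSeries G (i + 2)).subgroupOf (derivedSeries G (i + 1)))) : derivedSeries G (i + 1) = derivedSeries G (i + 2) := by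
  set C := derivedSeries G (i + 2) with hC
  set π := QuotientGroup.mk' C
  set Bq := (derivedSeries G (i + 1)).map π with hBq
  obtain ⟨b₀, hb₀⟩ := IsCyclic.exists_generator (α := ↥(derivedSeries G (i + 1)) ⧸ C.subgroupOf (derivedSeries G (i + 1)))
  obtain ⟨b, rfl⟩ := QuotientGroup.mk_surjective b₀
  have hb : ∀ x ∈ derivedSeries G (i + 1), ∃ n : ℤ, π x = π b ^ n := by
    intro x hx
    obtain ⟨n, hn⟩ := Subgroup.mem_zpowers_iff.mp (hb₀ (QuotientGroup.mk ⟨x, hx⟩))
    refine ⟨n, ?_⟩
    rw [← QuotientGroup.mk_zpow, QuotientGroup.eq, Subgroup.mem_subgroupOf] at hn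
    rw [← map_zpow]
    simp only [InvMemClass.coe_inv, SubgroupClass.coe_zpow, MulMemClass.coe_mul] at hn
    exact (QuotientGroup.eq.mpr hn).symm
  have hcyc : IsCyclic Bq := by
    refine ⟨⟨π b, Subgroup.mem_map_of_mem π b.2⟩, ?_⟩
    rintro ⟨_, x, hx, rfl⟩
    obtain ⟨n, hn⟩ := hb x hx
    exact ⟨n, Subtype.ext (by simpa using hn.symm)⟩
  have hnorm : Bq.Normal := Subgroup.Normal.map inferInstance π (QuotientGroup.mk'_surjective C)
  have hcent : ∀ g ∈ derivedSeries G 1, ∀ x ∈ derivedSeries G (i + 1), Commute (π g) (π x) := by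
    intro g hg x hx
    let e : MulAut Bq ≃* (ZMod (Nat.card Bq))ˣ := IsCyclic.mulAutMulEquiv Bq
    let φ : G →* (ZMod (Nat.card Bq))ˣ :=
      e.toMonoidHom.comp ((MulAut.conjNormal : _ →* MulAut Bq).comp π)
    have hφ : φ g = 1 := Abelianization.commutator_subset_ker φ (derivedSeries_one G ▸ hg)
    have h2 : (MulAut.conjNormal (π g) : MulAut Bq) = 1 := by
      apply e.injective
      rw [map_one]
      exact hφ
    have := congrArg (fun f : MulAut Bq => ((f ⟨π x, Subgroup.mem_map_of_mem π hx⟩ : Bq) : G ⧸ C)) h2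
    simp only [MulAut.conjNormal_apply, MulAut.one_apply] at this
    exact mul_inv_eq_iff_eq_mul.mp this
  obtain ⟨a₀, ha₀⟩ := IsCyclic.exists_generator (α := ↥(derivedSeries G i) ⧸ (derivedSeries G (i + 1)).subgroupOf (derivedSeries G i))
  obtain ⟨a, rfl⟩ := QuotientGroup.mk_surjective a₀
  have hle : derivedSeries G i ≤ derivedSeries G 1 := derivedSeries_antitone G hi
  have ha : ∀ g ∈ derivedSeries G i, ∃ n : ℤ, ∃ c ∈ derivedSeries G (i + 1), g = (a : G) ^ n * c := by
    intro g hg
    obtain ⟨n, hn⟩ := Subgroup.mem_zpowers_iff.mp (ha₀ (QuotientGroup.mk ⟨g, hg⟩))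
    rw [← QuotientGroup.mk_zpow, QuotientGroup.eq, Subgroup.mem_subgroupOf] at hn
    exact ⟨n, ((a : G) ^ n)⁻¹ * g, by simpa using hn, by rw [mul_inv_cancel_left]⟩
  refine le_antisymm ?_ (derivedSeries_antitone G (by omega))
  rw [derivedSeries_succ, Subgroup.commutator_le]
  intro g hg h hh
  obtain ⟨n, c, hc, rfl⟩ := ha g hg
  obtain ⟨m, d, hd, rfl⟩ := ha h hh
  have hca := hcent a (hle a.2) c hc
  have hda := hcent a (hle a.2) d hd
  have hcd := hcent c (hle (derivedSeries_antitone G (Nat.le_succ i) hc)) d hd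
  have : Commute (π ((a : G) ^ n * c)) (π ((a : G) ^ m * d)) := by
    rw [map_mul, map_mul, map_zpow, map_zpow]
    exact ((Commute.refl _).zpow_zpow n m |>.mul_right (hda.zpow_left n)).mul_left
      ((hca.symm.zpow_right m).mul_right hcd)
  rw [← QuotientGroup.eq_one_iff]
  exact (map_commutatorElement π _ _).trans (commutatorElement_eq_one_iff_commute.mpr this)

end Cfsg.Agent.S0555
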