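import Cfsg.Statements.S0556
import Cfsg.Agent.Lib.Coprime.Sylow
import Mathlib.GroupTheory.Transfer
import Mathlib.GroupTheory.Solvable

set_option autoImplicit false
open Cfsg

namespace Cfsg.Agent.S0556

open Subgroup
open scoped commutatorElement

theorem eq_top_of_le_of_coatom {G : Type*} [Group G] {A H : Subgroup G} (hA : IsCoatom A)
    (hle : A ≤ H) (hne : H ≠ A) : H = ⊤ :=
  hA.2 H (lt_of_le_of_ne hle (Ne.symm hne))

/-- An abelian self-normalizing maximal subgroup with trivial core has an abelian normal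
complement. -/
theorem exists_abelian_normal {G : Type*} [Group G] [Finite G] (A : Subgroup G) (hA : IsCoatom A)
    [IsMulCommutative A] (hn : ¬ A.Normal) (hcore : A.normalCore = ⊥) :
    ∃ K : Subgroup G, K.Normal ∧ IsMulCommutative K ∧ K ⊔ A = ⊤ := by
  have hnorm : ∀ X : Subgroup G, X ≤ A → X ≠ ⊥ → normalizer (X : Set G) = A := by
    intro X hX hne
    by_contra h
    have hle : A ≤ normalizer (X : Set G) := by
      rw [le_normalizer_iff]
      intro a ha x hx
      rw [setLike_mul_comm ha (hX hx), mul_inv_cancel_right]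
      exact hx
    have hXn : X.Normal := normalizer_eq_top_iff.mp (eq_top_of_le_of_coatom hA hle h)
    exact hne (le_bot_iff.mp (hcore ▸ (normal_le_normalCore (hN := hXn)).mpr hX))
  have hS : ∀ (p : ℕ) [Fact p.Prime], p ∣ Nat.card A → ∃ P : Sylow p G, (P : Subgroup G) ≤ A ∧
      normalizer ((P : Subgroup G) : Set G) ≤ centralizer ((P : Subgroup G) : Set G) := by
    intro p _ hp
    obtain ⟨P₀⟩ := (inferInstance : Nonempty (Sylow p A))
    set P := (P₀ : Subgroup A).map A.subtype with hP
    have hPA : P ≤ A := map_subtype_le _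
    have hPne : P ≠ ⊥ := by
      rw [hP, Ne, (map_injective A.subtype_injective).eq_iff' (map_bot _)]
      exact P₀.ne_bot_of_dvd_card hp
    obtain ⟨Q, hQ⟩ := (P₀.2.map A.subtype).exists_le_sylow
    have heq : (Q : Subgroup G) = P := by
      by_contra hne
      have hlt : P.subgroupOf (Q : Subgroup G) < ⊤ := by
        rw [lt_top_iff_ne_top, Ne, subgroupOf_eq_top]
        exact fun h => hne (le_antisymm h hQ)
      have h1 := Group.normalizerCondition_of_isNilpotent (G := (Q : Subgroup G)) (h := Q.2.isNilpotent)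
        _ hlt
      obtain ⟨x, hx, hxP⟩ := SetLike.exists_of_lt h1
      rw [← subgroupOf_normalizer_eq hQ, mem_subgroupOf, hnorm P hPA hPne] at hx
      have hle : (P₀ : Subgroup A) ≤ (Q : Subgroup G).subgroupOf A := fun y hy =>
        hQ (mem_map_of_mem _ hy)
      have h2 := P₀.3 (Q.2.comap_subtype) hle
      refine hxP ?_
      rw [mem_subgroupOf, hP]
      refine ⟨⟨(x : G), hx⟩, ?_, rfl⟩
      rw [← h2]
      exact x.2
    refine ⟨Q, heq ▸ hPA, ?_⟩
    rw [heq, hnorm P hPA hPne]
    intro a ha
    rw [mem_centralizer_iff]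
    exact fun y hy => setLike_mul_comm (hPA hy) ha
  have hker : ∀ p : Nat.Primes, ∃ N : Subgroup G, N.Normal ∧ _root_.commutator G ≤ N ∧
      ((p : ℕ) ∣ Nat.card A → ¬ (p : ℕ) ∣ Nat.card N) := by
    intro p
    have := Fact.mk p.2
    by_cases hp : (p : ℕ) ∣ Nat.card A
    · obtain ⟨P, hPA, hN⟩ := hS p hp
      refine ⟨(MonoidHom.transferSylow P hN).ker, inferInstance, ?_,
        fun _ => MonoidHom.not_dvd_card_ker_transferSylow P hN⟩
      rw [_root_.commutator_def, commutator_le]
      intro a _ b _
      rw [MonoidHom.mem_ker, map_commutatorElement, commutatorElement_eq_one_iff_mul_comm]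
      exact Subtype.ext (setLike_mul_comm (hPA (Subtype.coe_prop _)) (hPA (Subtype.coe_prop _)))
    · exact ⟨⊤, inferInstance, le_top, fun h => absurd h hp⟩
  choose N hNn hNc hNp using hker
  set K := ⨅ p, N p with hK
  have hKn : K.Normal := normal_iInf_normal hNn
  have hcop : (Nat.card A).Coprime (Nat.card K) := by
    rw [Nat.coprime_iff_gcd_eq_one]
    by_contra h
    obtain ⟨q, hq, hqd⟩ := Nat.exists_prime_and_dvd h
    exact hNp ⟨q, hq⟩ (hqd.trans (Nat.gcd_dvd_left _ _))
      ((hqd.trans (Nat.gcd_dvd_right _ _)).trans (card_dvd_of_le (iInf_le N ⟨q, hq⟩)))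
  have hKA : A ⊓ K = ⊥ := Coprime.disjoint_of_coprime_card hcop
  have hKne : K ≠ ⊥ := fun h => hn <| by
    have hc : _root_.commutator G = ⊥ := le_bot_iff.mp (h ▸ le_iInf hNc)
    refine ⟨fun a ha g => ?_⟩
    have := commutator_mem_commutator (mem_top g) (mem_top a)
    rw [← _root_.commutator_def, hc, mem_bot, commutatorElement_eq_one_iff_mul_comm] at this
    rwa [this, mul_inv_cancel_right]
  have hjoin : ∀ X : Subgroup G, X ≤ K → A ≤ normalizer (X : Set G) → X ≠ ⊥ → X = K := by
    intro X hX hAX hne
    have htop : A ⊔ X = ⊤ := eq_top_of_le_of_coatom hA le_sup_left fun h => hne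
      (le_bot_iff.mp (hKA ▸ le_inf (h ▸ le_sup_right) hX))
    refine le_antisymm hX fun k hk => ?_
    obtain ⟨a, ha, x, hx, rfl⟩ :=
      (Coprime.mem_sup_iff_of_le_normalizer hAX).mp (htop ▸ mem_top k)
    have : a ∈ A ⊓ K := ⟨ha, by simpa using K.mul_mem hk (K.inv_mem (hX hx))⟩
    rw [hKA, mem_bot] at this
    rwa [this, one_mul]
  have : Nontrivial K := (nontrivial_iff_ne_bot K).mpr hKne
  obtain ⟨q, hq, hqd⟩ := Nat.exists_prime_and_dvd (Finite.one_lt_card (α := K)).ne'
  have := Fact.mk hq
  have hAs : Group.IsSolvable A := Group.isSolvable_of_comm fun a b => mul_comm' a b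
  obtain ⟨Q, hQ⟩ := Coprime.exists_invariant_sylow (A := A) (K := K)
    (by rw [normalizer_eq_top]; exact le_top) hcop (Or.inl hAs) q
  have hQK := hjoin _ (map_subtype_le _) hQ (by
    rw [Ne, (map_injective K.subtype_injective).eq_iff' (map_bot _)]
    exact Q.ne_bot_of_dvd_card hqd)
  have hKp : IsPGroup q K := hQK ▸ Q.2.map K.subtype
  have hZ := hKp.center_nontrivial
  have hZK := hjoin ((center K).map K.subtype) (map_subtype_le _)
    (by
      have hZn : ((center K).map K.subtype).Normal := ConjAct.normal_of_characteristic_of_normal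
      rw [normalizer_eq_top]; exact le_top)
    (by
      rw [Ne, (map_injective K.subtype_injective).eq_iff' (map_bot _), ← Ne, ← nontrivial_iff_ne_bot]
      exact hZ)
  refine ⟨K, hKn, ⟨⟨fun a b => ?_⟩⟩, ?_⟩
  · have haZ : (a : G) ∈ (center K).map K.subtype := by rw [hZK]; exact a.2
    obtain ⟨z, hz, hze⟩ := haZ
    have := mem_center_iff.mp hz b
    rw [show z = a from Subtype.ext hze] at this
    exact this.symm
  · rw [sup_comm]
    exact eq_top_of_le_of_coatom hA le_sup_left fun h => hKne
      (le_bot_iff.mp (hKA ▸ le_inf (h ▸ le_sup_right) le_rfl))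

theorem derived_le_of_sup {G : Type*} [Group G] (A K : Subgroup G) [K.Normal] [IsMulCommutative A]
    (h : K ⊔ A = ⊤) : _root_.commutator G ≤ K := by
  have hsurj : ∀ q : G ⧸ K, ∃ a ∈ A, QuotientGroup.mk' K a = q := by
    intro q
    obtain ⟨g, rfl⟩ := QuotientGroup.mk'_surjective K q
    have hg : g ∈ ((K ⊔ A : Subgroup G) : Set G) := by rw [h]; trivial
    rw [normal_mul] at hg
    obtain ⟨k, hk, a, ha, rfl⟩ := hg
    exact ⟨a, ha, by simp [(QuotientGroup.eq_one_iff k).mpr hk]⟩
  rw [_root_.commutator_def, commutator_le]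
  intro a _ b _
  obtain ⟨x, hx, ex⟩ := hsurj (QuotientGroup.mk' K a)
  obtain ⟨y, hy, ey⟩ := hsurj (QuotientGroup.mk' K b)
  rw [← QuotientGroup.eq_one_iff]
  show QuotientGroup.mk' K ⁅a, b⁆ = 1
  rw [map_commutatorElement, ← ex, ← ey, ← map_commutatorElement,
    commutatorElement_eq_one_iff_mul_comm.mpr (setLike_mul_comm hx hy), map_one]

/-- If a finite group has a maximal subgroup that is abelian, then the third term of its derived series is trivial (so the group is solvable of derived length at most three). -/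
theorem result {G : Type*} [Group G] [Finite G] (A : Subgroup G) (hA : IsCoatom A) [IsMulCommutative A] : derivedSeries G 3 = ⊥ := by
  have hab : ∀ X : Subgroup G, IsMulCommutative X → ⁅X, X⁆ = ⊥ := fun X hX => commutator_self_eq_bot_iff.mpr hX
  by_cases hn : A.Normal
  · have hle : derivedSeries G 1 ≤ A := by
      rw [derivedSeries_one]
      obtain ⟨g, hg⟩ := SetLike.exists_not_mem_of_ne_top A hA.1 rfl
      have htop : A ⊔ Subgroup.zpowers g = ⊤ :=
        hA.2 _ (left_lt_sup.mpr fun h => hg (h (Subgroup.mem_zpowers g)))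
      exact derived_le_of_sup (Subgroup.zpowers g) A htop
    refine le_bot_iff.mp ((derivedSeries_antitone G (by norm_num : 2 ≤ 3)).trans (le_of_eq ?_))
    rw [derivedSeries_succ, ← le_bot_iff]
    exact (Subgroup.commutator_mono hle hle).trans (hab A inferInstance).le
  set C := A.normalCore with hC
  have hCA : C ≤ A := Subgroup.normalCore_le A
  have hCn : C.Normal := inferInstance
  have hCc : Subgroup.centralizer (C : Set G) = ⊤ := by
    refine eq_top_of_le_of_coatom hA (fun a ha => Subgroup.mem_centralizer_iff.mpr fun c hc =>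
      setLike_mul_comm (hCA hc) ha) fun h => hn ?_
    rw [← h]; infer_instance
  have hsurj := QuotientGroup.mk'_surjective C
  have hker : (QuotientGroup.mk' C).ker ≤ A := by rwa [QuotientGroup.ker_mk']
  have hqA : IsCoatom (A.map (QuotientGroup.mk' C)) := by
    constructor
    · intro e
      exact hA.1 (by rw [← Subgroup.comap_map_eq_self hker, e, Subgroup.comap_top])
    · intro K hK
      have h1 : A < K.comap (QuotientGroup.mk' C) := by
        rw [← Subgroup.comap_map_eq_self hker]
        exact (Subgroup.comap_lt_comap_of_surjective hsurj).mpr hK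
      rw [← Subgroup.map_comap_eq_self_of_surjective hsurj K, hA.2 _ h1,
        Subgroup.map_top_of_surjective _ hsurj]
  have hqn : ¬ (A.map (QuotientGroup.mk' C)).Normal := fun h => hn (by
    rw [← Subgroup.comap_map_eq_self hker]; exact h.comap _)
  have hqc : (A.map (QuotientGroup.mk' C)).normalCore = ⊥ := by
    rw [← le_bot_iff]
    intro x hx
    obtain ⟨g, rfl⟩ := hsurj x
    have hgC : g ∈ C := fun b => by
      have h1 := hx (QuotientGroup.mk' C b)
      rw [← map_inv, ← map_mul, ← map_mul] at h1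
      have h2 : b * g * b⁻¹ ∈ (A.map (QuotientGroup.mk' C)).comap (QuotientGroup.mk' C) := h1
      rwa [Subgroup.comap_map_eq_self hker] at h2
    rw [Subgroup.mem_bot]
    exact (QuotientGroup.eq_one_iff g).mpr hgC
  obtain ⟨K, hKn, hKc, hKA⟩ := exists_abelian_normal _ hqA hqn hqc
  have h1 : derivedSeries (G ⧸ C) 2 = ⊥ := by
    rw [derivedSeries_succ, derivedSeries_one, ← le_bot_iff]
    exact (Subgroup.commutator_mono (derived_le_of_sup _ K hKA) (derived_le_of_sup _ K hKA)).trans
      (Subgroup.commutator_self_eq_bot_iff.mpr hKc).le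
  have h2 : derivedSeries G 2 ≤ C := by
    have := map_derivedSeries_le_derivedSeries (QuotientGroup.mk' C) 2
    rwa [h1, le_bot_iff, Subgroup.map_eq_bot_iff, QuotientGroup.ker_mk'] at this
  rw [derivedSeries_succ, Subgroup.commutator_eq_bot_iff_le_centralizer]
  exact le_top.trans (le_trans hCc.ge (Subgroup.centralizer_le h2))

end Cfsg.Agent.S0556
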