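import Cfsg.Statements.S0557
import Cfsg.Agent.Lib.Transfer.Residual
import Mathlib.GroupTheory.Focal
import Mathlib.GroupTheory.Complement

set_option autoImplicit false
open Cfsg

namespace Cfsg.Agent.S0557

open Subgroup

theorem focalSubgroup_mono {G : Type*} [Group G] {A B : Subgroup G} (h : A ≤ B) :
    focalSubgroup A ≤ focalSubgroup B :=
  closure_mono fun _ ⟨hg, x, hx, u, e⟩ => ⟨h hg, x, h hx, u, e⟩

theorem map_focalSubgroup_le {G : Type*} [Group G] {R : Subgroup G} (A : Subgroup R) :
    (focalSubgroup A).map R.subtype ≤ focalSubgroup (A.map R.subtype) := by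
  rw [focalSubgroup_def, MonoidHom.map_closure]
  refine closure_mono ?_
  rintro _ ⟨g, ⟨hg, x, hx, u, rfl⟩, rfl⟩
  exact ⟨mem_map_of_mem _ hg, x, mem_map_of_mem _ hx, u, rfl⟩

/-- Let H be a subgroup of a finite group G with order coprime to its index. If iterating the focal-subgroup construction starting from H reaches the trivial subgroup after finitely many steps, then H has a normal complement in G. -/
theorem result {G : Type*} [Group G] [Finite G] (H : Subgroup G) (hHall : (Nat.card H).Coprime H.index) (n : ℕ) (hfoc : (fun K : Subgroup G => Subgroup.focalSubgroup K)^[n] H = ⊥) : ∃ N : Subgroup G, N.Normal ∧ Subgroup.IsComplement' N H := by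
  set m := Nat.card H with hm
  set R := Transfer.residual m G with hR
  have hRn : R.Normal := Transfer.residual_normal m
  have hsup : H ⊔ R = ⊤ := Transfer.sup_residual_eq_top H m hHall
  have key : ∀ j : ℕ, R ⊓ H ≤ (fun K : Subgroup G => Subgroup.focalSubgroup K)^[j] H := by
    intro j
    induction j with
    | zero => exact inf_le_right
    | succ j ih =>
      set A := H.subgroupOf R with hA
      have hidx : A.index ∣ H.index := by
        rw [hA, ← relIndex]
        have e1 := relIndex_mul_index (inf_le_left : H ⊓ R ≤ H)
        have e2 := relIndex_mul_index (inf_le_right : H ⊓ R ≤ R)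
        rw [inf_relIndex_left, ← relIndex_sup_right, hsup, relIndex_top_right, mul_comm] at e1
        rw [inf_relIndex_right, ← e1] at e2
        exact dvd_of_eq (Nat.eq_of_mul_eq_mul_right (Nat.pos_of_ne_zero index_ne_zero_of_finite) e2)
      have hcard : Nat.card A ∣ m := by
        rw [hA, ← card_map_of_injective R.subtype_injective, subgroupOf_map_subtype]
        exact card_dvd_of_le inf_le_left
      have hle : A ≤ focalSubgroup A := by
        intro x hx
        have hker : (x : R) ∈ (transferFocal A).ker := by
          have h1 : Nat.card (A ⧸ focalSubgroupOf A) ∣ m ^ 1 := by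
            rw [pow_one]; exact (card_quotient_dvd_card _).trans hcard
          have h2 := Transfer.residual_le_ker_of_card (transferFocal A) m h1
          have h6 : Transfer.residual m ↥R = ⊤ := Transfer.residual_residual m
          rw [h6] at h2
          exact h2 (mem_top _)
        rw [MonoidHom.mem_ker, show x = ((⟨x, hx⟩ : A) : R) from rfl, transferFocal_eq_pow,
          ← orderOf_dvd_iff_pow_eq_one] at hker
        have h3 : orderOf ((⟨x, hx⟩ : A) : A ⧸ focalSubgroupOf A) ∣ m :=
          (_root_.orderOf_dvd_natCard _).trans ((card_quotient_dvd_card _).trans hcard)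
        have h4 := Nat.eq_one_of_dvd_coprimes (hHall.coprime_dvd_right hidx) h3 hker
        rw [orderOf_eq_one_iff, QuotientGroup.eq_one_iff] at h4
        exact h4
      rw [Function.iterate_succ_apply']
      refine le_trans ?_ (focalSubgroup_mono ih)
      have h5 := (map_mono (f := R.subtype) hle).trans (map_focalSubgroup_le A)
      rwa [subgroupOf_map_subtype, inf_comm] at h5
  refine ⟨R, hRn, isComplement'_of_disjoint_and_mul_eq_univ ?_ ?_⟩
  · exact disjoint_iff_inf_le.mpr (hfoc ▸ key n)
  · rw [← normal_mul, sup_comm, hsup]; rfl

end Cfsg.Agent.S0557
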