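import Cfsg.Statements.S0561
import Cfsg.Agent.Lib.Solvable.Hall
import Cfsg.Agent.S0560

set_option autoImplicit false
open Pointwise
open Cfsg

namespace Cfsg.Agent.S0561

open Subgroup

/-- Let the finite solvable group G be the product HK of subgroups, and let A be normal in H and B normal in K, where A and B are Hall subgroups of G (order coprime to index). Then for all x, y the product set of xAx⁻¹ and yBy⁻¹ is a subgroup of G. -/
theorem result {G : Type*} [Group G] [Finite G] [Group.IsSolvable G] (H K A B : Subgroup G) (hHK : ∀ g : G, ∃ h ∈ H, ∃ k ∈ K, g = h * k) (hA : A ≤ H) (hAn : (A.subgroupOf H).Normal) (hB : B ≤ K) (hBn : (B.subgroupOf K).Normal) (hAh : (Nat.card A).Coprime A.index) (hBh : (Nat.card B).Coprime B.index) (x y : G) : ∃ S : Subgroup G, (S : Set G) = ((MulAut.conj x • A : Subgroup G) : Set G) * ((MulAut.conj y • B : Subgroup G) : Set G) := by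
  obtain ⟨h₀, hh₀, k₀, hk₀, e₀⟩ := hHK (x⁻¹ * y)
  have hnA : H ≤ Subgroup.normalizer (A : Set G) := (Subgroup.normal_subgroupOf_iff_le_normalizer hA).mp hAn
  have hnB : K ≤ Subgroup.normalizer (B : Set G) := (Subgroup.normal_subgroupOf_iff_le_normalizer hB).mp hBn
  set a := Nat.card A with ha
  set b := Nat.card B with hb
  set m := Nat.lcm a b with hm
  have hmG : m ∣ Nat.card G := Nat.lcm_dvd A.card_subgroup_dvd_card B.card_subgroup_dvd_card
  obtain ⟨n, hn⟩ := hmG
  have ha0 : a ≠ 0 := Nat.card_pos.ne'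
  have hb0 : b ≠ 0 := Nat.card_pos.ne'
  have hm0 : m ≠ 0 := Nat.lcm_ne_zero ha0 hb0
  have hn0 : n ≠ 0 := fun h => Nat.card_pos.ne' (by rw [hn, h, mul_zero] : Nat.card G = 0)
  have haG : ∀ (X : Subgroup G) (q : ℕ), q.Prime → (Nat.card X).Coprime X.index → q ∣ Nat.card X →
      (Nat.card G).factorization q = (Nat.card X).factorization q := by
    intro X q hq hX hd
    rw [← X.card_mul_index, Nat.factorization_mul Nat.card_pos.ne' Subgroup.index_ne_zero_of_finite,
      Finsupp.add_apply, Nat.factorization_eq_zero_of_not_dvd (n := X.index)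
        (fun h => hq.ne_one (Nat.eq_one_of_dvd_coprimes hX hd h)), add_zero]
  have hco : m.Coprime n := Nat.coprime_of_dvd fun q hq h1 h2 => by
    have hv := congrArg (fun f => f.factorization q) hn
    simp only [Nat.factorization_mul hm0 hn0, Finsupp.add_apply] at hv
    have hpos := hq.factorization_pos_of_dvd hn0 h2
    rw [hm, Nat.factorization_lcm ha0 hb0, Finsupp.sup_apply] at hv
    rcases (Nat.Prime.dvd_mul hq).mp (h1.trans (Nat.lcm_dvd_mul a b)) with h | h
    · rw [haG A q hq hAh h] at hv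
      simp only [← ha, ← hb] at hv
      have := le_max_left (a.factorization q) (b.factorization q)
      omega
    · rw [haG B q hq hBh h] at hv
      simp only [← ha, ← hb] at hv
      have := le_max_right (a.factorization q) (b.factorization q)
      omega
  obtain ⟨W₀, hW₀⟩ := Solvable.exists_hall (G := G) hn hco
  obtain ⟨u, hu⟩ := Solvable.exists_le_conj_hall hn hco hW₀ (K := A)
    (hco.coprime_dvd_left (Nat.dvd_lcm_left a b))
  obtain ⟨v, hv⟩ := Solvable.exists_le_conj_hall hn hco hW₀ (K := B)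
    (hco.coprime_dvd_left (Nat.dvd_lcm_right a b))
  obtain ⟨h, hh, k, hk, e⟩ := hHK (u * v⁻¹)
  set W := MulAut.conj (h⁻¹ * u) • W₀ with hW
  have hAW : A ≤ W := by
    rw [hW, map_mul, mul_smul, ← Coprime.conj_smul_eq_self_of_mem (hnA (inv_mem hh))]
    exact Subgroup.pointwise_smul_le_pointwise_smul_iff.2 hu
  have hBW : B ≤ W := by
    rw [hW, show h⁻¹ * u = k * v by
      rw [inv_mul_eq_iff_eq_mul, ← mul_assoc, ← e, inv_mul_cancel_right], map_mul, mul_smul,
      ← Coprime.conj_smul_eq_self_of_mem (hnB hk)]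
    exact Subgroup.pointwise_smul_le_pointwise_smul_iff.2 hv
  have hWc : Nat.card W = m := by rw [hW, Coprime.card_conj_smul, hW₀]
  have hI : Nat.card W * Nat.card (A ⊓ B : Subgroup G) ∣ a * b := by
    have hga : Nat.card (A ⊓ B : Subgroup G) ∣ Nat.gcd a b :=
      Nat.dvd_gcd (Subgroup.card_dvd_of_le inf_le_left) (Subgroup.card_dvd_of_le inf_le_right)
    rw [hWc, ← Nat.gcd_mul_lcm a b, mul_comm]
    exact mul_dvd_mul_right hga _
  have hrel : B.relIndex W ≤ B.relIndex A := by
    have e1 : B.relIndex W * b = Nat.card W := by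
      rw [hb, ← Coprime.card_subgroupOf hBW]; exact Subgroup.index_mul_card _
    have e2 : B.relIndex A * Nat.card (A ⊓ B : Subgroup G) = a := by
      rw [← Subgroup.inf_relIndex_left, ha,
        ← Coprime.card_subgroupOf (inf_le_left : A ⊓ B ≤ A)]
      exact Subgroup.index_mul_card _
    have h3 := Nat.le_of_dvd (Nat.pos_of_ne_zero (mul_ne_zero ha0 hb0)) hI
    rw [← e1, ← e2] at h3
    refine Nat.le_of_mul_le_mul_right ?_ (Nat.mul_pos (Nat.pos_of_ne_zero hb0)
      (Nat.card_pos (α := (A ⊓ B : Subgroup G))))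
    calc _ = B.relIndex W * b * Nat.card (A ⊓ B : Subgroup G) := (mul_assoc _ _ _).symm
      _ ≤ _ := h3
      _ = _ := by ring
  have hWeq : (W : Set G) = (A : Set G) * (B : Set G) := by
    apply Set.Subset.antisymm
    · intro r hr
      obtain ⟨p, hp, q, hq, rfl⟩ := S0560.exists_mul_of_relIndex_le hAW hrel hr
      exact Set.mul_mem_mul hp hq
    · rintro _ ⟨p, hp, q, hq, rfl⟩
      exact mul_mem (hAW hp) (hBW hq)
  set g := x * h₀ with hg
  have h1 : MulAut.conj g • A = MulAut.conj x • A := by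
    rw [hg, map_mul, mul_smul, Coprime.conj_smul_eq_self_of_mem (hnA hh₀)]
  have h2 : MulAut.conj g • B = MulAut.conj y • B := by
    rw [hg, show x * h₀ = y * k₀⁻¹ by
      rw [eq_mul_inv_iff_mul_eq, mul_assoc, ← e₀, mul_inv_cancel_left], map_mul, mul_smul,
      Coprime.conj_smul_eq_self_of_mem (hnB (inv_mem hk₀))]
  refine ⟨MulAut.conj g • W, ?_⟩
  rw [← h1, ← h2]
  calc ((MulAut.conj g • W : Subgroup G) : Set G) = MulAut.conj g • (W : Set G) :=
        Subgroup.coe_pointwise_smul _ _
    _ = MulAut.conj g • ((A : Set G) * (B : Set G)) := by rw [hWeq]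
    _ = _ := by
      rw [Subgroup.coe_pointwise_smul, Subgroup.coe_pointwise_smul]
      exact Set.image_mul (MulAut.conj g)

end Cfsg.Agent.S0561
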