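import Cfsg.Statements.S0562
import Mathlib.Algebra.Group.Subgroup.Finite

set_option autoImplicit false
open Cfsg

namespace Cfsg.Agent.S0562

/-- Let the finite group G be the product HK of subgroups, A normal in H, B normal in K, and L the normalizer of the subgroup generated by A and B. Then every element of L is a product of an element of L ∩ H and an element of L ∩ K. -/
theorem result {G : Type*} [Group G] [Finite G] (H K A B : Subgroup G) (hHK : ∀ g : G, ∃ h ∈ H, ∃ k ∈ K, g = h * k) (hA : A ≤ H) (hAn : (A.subgroupOf H).Normal) (hB : B ≤ K) (hBn : (B.subgroupOf K).Normal) : ∀ g ∈ Subgroup.normalizer ((A ⊔ B : Subgroup G) : Set G), ∃ h ∈ Subgroup.normalizer ((A ⊔ B : Subgroup G) : Set G) ⊓ H, ∃ k ∈ Subgroup.normalizer ((A ⊔ B : Subgroup G) : Set G) ⊓ K, g = h * k := by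
  intro g hg
  obtain ⟨h, hh, k, hk, rfl⟩ := hHK g
  set L := A ⊔ B
  have hk' : k⁻¹ ∈ Subgroup.normalizer (L : Set G) := by
    have hmap : L.map (MulAut.conj k⁻¹).toMonoidHom ≤ L := by
      rw [Subgroup.map_le_iff_le_comap]
      refine sup_le (fun a ha => ?_) fun b hb => ?_
      · have h1 : h * a * h⁻¹ ∈ L := Subgroup.mem_sup_left (hAn.conj_mem ⟨a, hA ha⟩ ha ⟨h, hh⟩)
        have := (Subgroup.mem_normalizer_iff.mp (inv_mem hg) _).mp h1
        simpa [mul_assoc] using this
      · have h1 : k⁻¹ * b * k⁻¹⁻¹ ∈ B := hBn.conj_mem ⟨b, hB hb⟩ hb ⟨k⁻¹, inv_mem hk⟩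
        simpa using Subgroup.mem_sup_right (S := A) h1
    refine Subgroup.mem_normalizer_fintype fun n hn => ?_
    simpa using hmap (Subgroup.mem_map_of_mem _ hn)
  rw [inv_mem_iff] at hk'
  refine ⟨h, ⟨?_, hh⟩, k, ⟨hk', hk⟩, rfl⟩
  simpa using mul_mem hg (inv_mem hk')

end Cfsg.Agent.S0562
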