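import Cfsg.Statements.S0563
import Cfsg.Agent.Lib.Solvable.WielandtEndgame

set_option autoImplicit false
open Pointwise
open Cfsg

namespace Cfsg.Agent.S0563

open Subgroup

theorem exists_subgroup {G : Type*} [Group G] [Finite G] [Group.IsSolvable G] {A B : Subgroup G}
    (D : NilProd.Data A B) {p q : ℕ} [hp : Fact p.Prime] [hq : Fact q.Prime] (hpA : p ∣ Nat.card A)
    (hqB : q ∣ Nat.card B) :
    ∃ S : Subgroup G, (S : Set G) = (NilProd.part A p : Set G) * (NilProd.part B q : Set G) := by
  set P := NilProd.part A p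
  set Q := NilProd.part B q
  have hP : Nat.card P = p ^ (Nat.card G).factorization p := D.card_part_full hpA
  have hQ : Nat.card Q = q ^ (Nat.card G).factorization q := D.symm.card_part_full hqB
  have hpq : p ≠ q := fun h => D.not_dvd hq.out (h ▸ hpA) hqB
  have hPQ : (Nat.card P).Coprime (Nat.card Q) := by
    rw [hP, hQ]; exact Nat.Coprime.pow _ _ ((Nat.coprime_primes hp.out hq.out).mpr hpq)
  obtain ⟨n, hn⟩ : Nat.card P * Nat.card Q ∣ Nat.card G :=
    hPQ.mul_dvd_of_dvd_of_dvd P.card_subgroup_dvd_card Q.card_subgroup_dvd_card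
  have hco : (Nat.card P * Nat.card Q).Coprime n := Nat.coprime_of_dvd fun s hs h1 h2 => by
    refine Nat.pow_succ_factorization_not_dvd (Nat.card_pos (α := G)).ne' hs ?_
    rw [pow_succ]
    conv_rhs => rw [hn]
    refine mul_dvd_mul ?_ h2
    rcases hs.dvd_mul.mp h1 with h | h
    · rw [hP] at h
      rw [(Nat.prime_dvd_prime_iff_eq hs hp.out).mp (hs.dvd_of_dvd_pow h), hP]
      exact dvd_mul_right _ _
    · rw [hQ] at h
      rw [(Nat.prime_dvd_prime_iff_eq hs hq.out).mp (hs.dvd_of_dvd_pow h), hQ]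
      exact dvd_mul_left _ _
  obtain ⟨X, hX, hPX⟩ := Solvable.exists_hall_ge hn hco (K := P)
    (hco.coprime_dvd_left (dvd_mul_right _ _))
  obtain ⟨g, hg⟩ := Solvable.exists_le_conj_hall hn hco hX (K := Q)
    (hco.coprime_dvd_left (dvd_mul_left _ _))
  obtain ⟨b, hb, a, ha, rfl⟩ := D.symm.prod g
  set X' := MulAut.conj a • X
  have hQX : Q ≤ X' := by
    have h := Coprime.conj_smul_eq_self_of_mem
      (show b ∈ normalizer (Q : Set G) from NilProd.le_normalizer_part D.hB q hb)
    rw [← Coprime.conj_smul_smul, ← h, pointwise_smul_le_pointwise_smul_iff] at hg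
    exact hg
  have hPX' : P ≤ X' := by
    rw [← Coprime.conj_smul_eq_self_of_mem
      (show a ∈ normalizer (P : Set G) from NilProd.le_normalizer_part D.hA p ha)]
    exact pointwise_smul_le_pointwise_smul_iff.2 hPX
  refine ⟨X', Set.Subset.antisymm ?_ ?_⟩
  · intro x hx
    have hc := isComplement'_of_coprime (G := X') (H := P.subgroupOf X') (K := Q.subgroupOf X')
      (by rw [Coprime.card_subgroupOf hPX', Coprime.card_subgroupOf hQX, Coprime.card_conj_smul, hX])
      (by rw [Coprime.card_subgroupOf hPX', Coprime.card_subgroupOf hQX]; exact hPQ)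
    obtain ⟨⟨⟨u, hu⟩, ⟨v, hv⟩⟩, huv⟩ := hc.2 ⟨x, hx⟩
    exact ⟨u, hu, v, hv, congrArg Subtype.val huv⟩
  · rintro _ ⟨u, hu, v, hv, rfl⟩
    exact mul_mem (hPX' hu) (hQX hv)

/-- If a finite group G is the product AB of two nilpotent subgroups of coprime orders, then G is solvable, and for every Sylow p-subgroup P of A and Sylow q-subgroup Q of B the product set PQ is a subgroup. -/
theorem result {G : Type*} [Group G] [Finite G] (A B : Subgroup G) (hA : Group.IsNilpotent A) (hB : Group.IsNilpotent B) (hcop : (Nat.card A).Coprime (Nat.card B)) (hAB : ∀ g : G, ∃ a ∈ A, ∃ b ∈ B, g = a * b) : Group.IsSolvable G ∧ ∀ (p q : ℕ) [Fact p.Prime] [Fact q.Prime] (P : Sylow p A) (Q : Sylow q B), ∃ S : Subgroup G, (S : Set G) = (((P : Subgroup A).map A.subtype : Subgroup G) : Set G) * (((Q : Subgroup B).map B.subtype : Subgroup G) : Set G) := by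
  have D : NilProd.Data A B := ⟨hA, hB, hcop, hAB⟩
  have hs := NilProd.isSolvable D
  refine ⟨hs, fun p q _ _ P Q => ?_⟩
  rw [NilProd.sylow_map_eq_part hA P, NilProd.sylow_map_eq_part hB Q]
  by_cases hp : p ∣ Nat.card A
  · by_cases hq : q ∣ Nat.card B
    · exact exists_subgroup D hp hq
    · refine ⟨NilProd.part A p, ?_⟩
      rw [show NilProd.part B q = ⊥ from Subgroup.eq_bot_of_card_eq _ (by
        rw [NilProd.card_part, Nat.factorization_eq_zero_of_not_dvd hq, pow_zero]),
        Subgroup.coe_bot, Set.singleton_one, mul_one]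
  · refine ⟨NilProd.part B q, ?_⟩
    rw [show NilProd.part A p = ⊥ from Subgroup.eq_bot_of_card_eq _ (by
      rw [NilProd.card_part, Nat.factorization_eq_zero_of_not_dvd hp, pow_zero]),
      Subgroup.coe_bot, Set.singleton_one, one_mul]

end Cfsg.Agent.S0563
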