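import Cfsg.Statements.S0565
import Cfsg.Agent.Lib.Solvable.Kegel
import Cfsg.Agent.Lib.Solvable.Carter

set_option autoImplicit false
open Cfsg

namespace Cfsg.Agent.S0565

open Subgroup
open scoped Pointwise

universe u

theorem exists_normal_ge {G : Type u} [Group G] [Finite G] [Group.IsNilpotent G] {A : Subgroup G}
    (hA : A ≠ ⊤) : ∃ N : Subgroup G, N.Normal ∧ N ≠ ⊤ ∧ A ≤ N := by
  obtain ⟨M, hAM, hM⟩ := (Set.toFinite {M : Subgroup G | M ≠ ⊤}).exists_le_maximal hA
  refine ⟨M, normalizer_eq_top_iff.mp ?_, hM.1, hAM⟩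
  by_contra hne
  have h1 := Group.isNilpotent_of_finite_tfae.out 0 1 rfl rfl |>.1 ‹Group.IsNilpotent G› M
    (lt_top_iff_ne_top.2 hM.1)
  exact h1.not_ge (hM.2 hne h1.le)

theorem aux {G : Type u} [Group G] [Finite G] {A B : Subgroup G} (hA : Group.IsNilpotent A)
    (hB : Group.IsNilpotent B) (hAB : ∀ g : G, ∃ a ∈ A, ∃ b ∈ B, g = a * b)
    (hproper : A ≠ ⊤ ∨ B ≠ ⊤) :
    ∃ N : Subgroup G, N.Normal ∧ N ≠ ⊤ ∧ (A ≤ N ∨ B ≤ N) := by
  induction hn : Nat.card G using Nat.strong_induction_on generalizing G with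
  | _ n ih =>
    subst hn
    by_cases hnil : Group.IsNilpotent G
    · rcases hproper with h | h
      · obtain ⟨N, hN, hNt, hle⟩ := exists_normal_ge h
        exact ⟨N, hN, hNt, Or.inl hle⟩
      · obtain ⟨N, hN, hNt, hle⟩ := exists_normal_ge h
        exact ⟨N, hN, hNt, Or.inr hle⟩
    have hs : Group.IsSolvable G := NilProd.isSolvable_of_nilpotent_product hA hB hAB
    have : Nontrivial G := not_subsingleton_iff_nontrivial.mp fun h => hnil inferInstance
    obtain ⟨N, p, hNn, -, hN, hmin, hNc, -, -⟩ :=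
      Solvable.exists_abelian_minimal_normal (G := G) (K := ⊤) inferInstance top_ne_bot
    set f := QuotientGroup.mk' N with hf
    have hfs : Function.Surjective f := QuotientGroup.mk'_surjective N
    by_cases himg : A.map f ≠ ⊤ ∨ B.map f ≠ ⊤
    · have hlt : Nat.card (G ⧸ N) < Nat.card G := by
        rw [← Solvable.card_quotient_mul_card N]
        exact lt_mul_of_one_lt_right Nat.card_pos ((Subgroup.one_lt_card_iff_ne_bot N).2 hN)
      obtain ⟨X, hX, hXt, hle⟩ := ih _ hlt (A := A.map f) (B := B.map f)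
        (Group.nilpotent_of_surjective _ (f.subgroupMap_surjective A))
        (Group.nilpotent_of_surjective _ (f.subgroupMap_surjective B)) (fun y => by
          obtain ⟨g, rfl⟩ := hfs y
          obtain ⟨a, ha, b, hb, rfl⟩ := hAB g
          exact ⟨f a, mem_map_of_mem f ha, f b, mem_map_of_mem f hb, map_mul f a b⟩) himg rfl
      refine ⟨X.comap f, hX.comap f, fun e => hXt ?_, hle.imp map_le_iff_le_comap.mp
        map_le_iff_le_comap.mp⟩
      rw [← map_comap_eq_self_of_surjective hfs X, e, map_top_of_surjective _ hfs]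
    push Not at himg
    have hsplit : ∀ X : Subgroup G, X.map f = ⊤ → X ⊔ N = ⊤ := fun X h => by
      have h2 := congrArg (comap f) h
      rwa [comap_map_eq, hf, QuotientGroup.ker_mk', comap_top] at h2
    have hcarter : ∀ X : Subgroup G, Group.IsNilpotent X → X.map f = ⊤ → ¬ X.Normal →
        Solvable.IsCarter X := by
      intro X hXnil hXf hXn
      refine ⟨hXnil, le_antisymm (fun g hg => ?_) le_normalizer⟩
      have hd : N ⊓ normalizer (X : Set G) = ⊥ := by
        refine (hmin _ ?_ inf_le_left).resolve_right fun h => hXn (normalizer_eq_top_iff.mp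
          (top_le_iff.mp (hsplit X hXf ▸ sup_le le_normalizer (inf_eq_left.mp h))))
        rw [← normalizer_eq_top_iff, ← top_le_iff, ← hsplit X hXf]
        refine sup_le ?_ ?_ <;> rw [Subgroup.le_normalizer_iff]
        · intro a ha b hb
          exact ⟨hNn.conj_mem b hb.1 a,
            (normalizer (X : Set G)).mul_mem ((normalizer (X : Set G)).mul_mem (le_normalizer ha) hb.2) ((normalizer (X : Set G)).inv_mem (le_normalizer ha))⟩
        · intro a ha b hb
          rw [setLike_mul_comm ha hb.1, mul_inv_cancel_right]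
          exact hb
      obtain ⟨x, hx, m, hm, rfl⟩ := (Coprime.mem_sup_iff_of_le_normalizer
        (by rw [normalizer_eq_top]; exact le_top)).1 ((hsplit X hXf).ge (mem_top g))
      have h1 : m ∈ N ⊓ normalizer (X : Set G) :=
        ⟨hm, by simpa using mul_mem (inv_mem (le_normalizer hx : x ∈ normalizer (X : Set G))) hg⟩
      rw [hd, mem_bot] at h1
      rwa [h1, mul_one]
    by_cases hAt : A = ⊤
    · exact absurd (by rw [hAt] at hA; exact Group.isNilpotent_top.mp hA) hnil
    by_cases hBt : B = ⊤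
    · exact absurd (by rw [hBt] at hB; exact Group.isNilpotent_top.mp hB) hnil
    by_cases hAn : A.Normal
    · exact ⟨A, hAn, hAt, Or.inl le_rfl⟩
    by_cases hBn : B.Normal
    · exact ⟨B, hBn, hBt, Or.inr le_rfl⟩
    exfalso
    obtain ⟨g, hg⟩ := (Solvable.exists_isCarter_and_conj (G := G)).2 A B
      (hcarter A hA himg.1 hAn) (hcarter B hB himg.2 hBn)
    obtain ⟨a, ha, b, hb, e⟩ := hAB g⁻¹
    obtain rfl : g = b⁻¹ * a⁻¹ := by rw [← mul_inv_rev, ← e, inv_inv]
    rw [← Coprime.conj_smul_smul, Coprime.conj_smul_eq_self_of_mem (le_normalizer (inv_mem ha)),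
      map_inv, inv_smul_eq_iff] at hg
    have hEq : A = B := hg.trans (Coprime.conj_smul_eq_self_of_mem (le_normalizer hb))
    subst hEq
    refine hAt (eq_top_iff.mpr fun x _ => ?_)
    obtain ⟨u, hu, v, hv, rfl⟩ := hAB x
    exact mul_mem hu hv

/-- Let the finite group G be the product AB of nilpotent subgroups A and B, not both equal to G. Then there is a proper normal subgroup of G containing A or containing B. -/
theorem result {G : Type*} [Group G] [Finite G] (A B : Subgroup G) (hA : Group.IsNilpotent A) (hB : Group.IsNilpotent B) (hAB : ∀ g : G, ∃ a ∈ A, ∃ b ∈ B, g = a * b) (hproper : A ≠ ⊤ ∨ B ≠ ⊤) : ∃ N : Subgroup G, N.Normal ∧ N ≠ ⊤ ∧ (A ≤ N ∨ B ≤ N) := by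
  exact aux hA hB hAB hproper

end Cfsg.Agent.S0565
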