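import Cfsg.Statements.S0566
import Mathlib.Tactic.Group
import Mathlib.Algebra.Group.Subgroup.Finite
import Mathlib.GroupTheory.Index

set_option autoImplicit false
open Pointwise
open Cfsg

namespace Cfsg.Agent.S0566

open Subgroup
open scoped Pointwise

/-- A subgroup `P` whose elements all satisfy `p * W ⊆ W * P` gives a product subgroup. -/
theorem exists_subgroup_mul {G : Type*} [Group G] (P W : Subgroup G)
    (h : ∀ p ∈ P, ∀ w ∈ W, ∃ w' ∈ W, ∃ p' ∈ P, p * w = w' * p') :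
    ∃ S : Subgroup G, (S : Set G) = (P : Set G) * (W : Set G) := by
  refine ⟨{ carrier := (P : Set G) * (W : Set G)
            one_mem' := ⟨1, one_mem P, 1, one_mem W, one_mul 1⟩
            mul_mem' := ?_
            inv_mem' := ?_ }, rfl⟩
  · rintro _ _ ⟨p, hp, w, hw, rfl⟩ ⟨q, hq, v, hv, rfl⟩
    obtain ⟨w', hw', q', hq', e⟩ := h q⁻¹ (inv_mem hq) w⁻¹ (inv_mem hw)
    have e2 : w * q = q'⁻¹ * w'⁻¹ := by
      rw [← mul_inv_rev, ← e, mul_inv_rev, inv_inv, inv_inv]
    refine ⟨p * q'⁻¹, mul_mem hp (inv_mem hq'), w'⁻¹ * v, mul_mem (inv_mem hw') hv, ?_⟩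
    show p * q'⁻¹ * (w'⁻¹ * v) = p * w * (q * v)
    calc p * q'⁻¹ * (w'⁻¹ * v) = p * (q'⁻¹ * w'⁻¹) * v := by group
      _ = p * (w * q) * v := by rw [e2]
      _ = p * w * (q * v) := by group
  · rintro _ ⟨p, hp, w, hw, rfl⟩
    obtain ⟨w', hw', p', hp', e⟩ := h p hp w hw
    exact ⟨p'⁻¹, inv_mem hp', w'⁻¹, inv_mem hw', by
      show p'⁻¹ * w'⁻¹ = (p * w)⁻¹
      rw [e, mul_inv_rev]⟩

theorem swap_of_subgroup {G : Type*} [Group G] {A W S : Subgroup G}
    (hS : (S : Set G) = (A : Set G) * (W : Set G)) {a w : G} (ha : a ∈ A) (hw : w ∈ W) :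
    ∃ w' ∈ W, ∃ a' ∈ A, a * w = w' * a' := by
  have h1 : (a * w)⁻¹ ∈ (S : Set G) := S.inv_mem (hS ▸ Set.mul_mem_mul ha hw : a * w ∈ (S : Set G))
  rw [hS] at h1
  obtain ⟨x, hx, y, hy, e⟩ := h1
  have e' : x * y = (a * w)⁻¹ := e
  exact ⟨y⁻¹, inv_mem hy, x⁻¹, inv_mem hx, by rw [← mul_inv_rev, e', inv_inv]⟩

theorem swap_closure {G : Type*} [Group G] {A A' W : Subgroup G}
    (h1 : ∀ a ∈ A, ∀ w ∈ W, ∃ w' ∈ W, ∃ a' ∈ A, a * w = w' * a')
    (h2 : ∀ a ∈ A', ∀ w ∈ W, ∃ w' ∈ W, ∃ a' ∈ A', a * w = w' * a') :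
    ∀ p ∈ A ⊔ A', ∀ w ∈ W, ∃ w' ∈ W, ∃ p' ∈ A ⊔ A', p * w = w' * p' := by
  have hgen : ∀ x : G, x ∈ A ∨ x ∈ A' → ∀ w ∈ W, ∃ w' ∈ W, ∃ p' ∈ A ⊔ A', x * w = w' * p' := by
    rintro x (hx | hx) w hw
    · obtain ⟨w', hw', a', ha', e⟩ := h1 x hx w hw
      exact ⟨w', hw', a', mem_sup_left ha', e⟩
    · obtain ⟨w', hw', a', ha', e⟩ := h2 x hx w hw
      exact ⟨w', hw', a', mem_sup_right ha', e⟩
  intro p hp
  rw [sup_eq_closure] at hp
  induction hp using closure_induction_left with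
  | one => exact fun w hw => ⟨w, hw, 1, one_mem _, by rw [one_mul, mul_one]⟩
  | mul_left x hx y hy ih =>
    intro w hw
    obtain ⟨w', hw', p', hp', e⟩ := ih w hw
    obtain ⟨w'', hw'', q, hq, e2⟩ := hgen x hx w' hw'
    exact ⟨w'', hw'', q * p', mul_mem hq hp', by rw [mul_assoc, e, ← mul_assoc, e2, mul_assoc]⟩
  | inv_mul_cancel x hx y hy ih =>
    intro w hw
    obtain ⟨w', hw', p', hp', e⟩ := ih w hw
    obtain ⟨w'', hw'', q, hq, e2⟩ := hgen x⁻¹ (hx.imp inv_mem inv_mem) w' hw'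
    exact ⟨w'', hw'', q * p', mul_mem hq hp', by rw [mul_assoc, e, ← mul_assoc, e2, mul_assoc]⟩

theorem mem_conj_smul {G : Type*} [Group G] {g x : G} {H : Subgroup G} :
    x ∈ MulAut.conj g • H ↔ g⁻¹ * x * g ∈ H := by
  rw [mem_pointwise_smul_iff_inv_smul_mem]
  simp [MulAut.smul_def]

theorem aux {G : Type*} [Group G] [Finite G] (B : Subgroup G) (hB : B ≠ ⊥) :
    ∀ (n : ℕ) (A : Subgroup G), Nat.card G - Nat.card A = n → A ≠ ⊥ →
    (∀ x : G, ∃ S : Subgroup G, S ≠ ⊤ ∧ (S : Set G) = (A : Set G) * ((MulAut.conj x • B : Subgroup G) : Set G)) →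
    ∃ N : Subgroup G, N.Normal ∧ N ≠ ⊤ ∧ (A ≤ N ∨ B ≤ N) := by
  intro n
  induction n using Nat.strong_induction_on with
  | _ n ih =>
    intro A hn hA h
    by_cases hall : ∀ (x : G), ∀ b ∈ MulAut.conj x • B, b ∈ normalizer (A : Set G)
    · by_cases hcl : normalClosure (B : Set G) = ⊤
      · have hAn : A.Normal := by
          rw [← normalizer_eq_top_iff, ← top_le_iff, ← hcl]
          refine closure_le _ |>.mpr ?_
          intro y hy
          obtain ⟨b, hb, hconj⟩ := Group.mem_conjugatesOfSet_iff.mp hy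
          obtain ⟨c, rfl⟩ := isConj_iff.mp hconj
          exact hall c _ (mem_conj_smul.mpr (by simpa [mul_assoc] using hb))
        obtain ⟨S, hS, hSe⟩ := h 1
        refine ⟨A, hAn, fun e => hS (top_le_iff.mp fun g _ => ?_), Or.inl le_rfl⟩
        rw [← SetLike.mem_coe, hSe]
        exact ⟨g, e ▸ mem_top g, 1, one_mem _, mul_one g⟩
      · exact ⟨_, normalClosure_normal, hcl, Or.inr subset_normalClosure⟩
    push Not at hall
    obtain ⟨x, b, hb, hbn⟩ := hall
    set A' := MulAut.conj b • A with hA'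
    obtain ⟨S, hS, hSe⟩ := h x
    have hAS : A ≤ S := fun a ha => by
      rw [← SetLike.mem_coe, hSe]; exact ⟨a, ha, 1, one_mem _, mul_one a⟩
    have hBS : MulAut.conj x • B ≤ S := fun a ha => by
      rw [← SetLike.mem_coe, hSe]; exact ⟨1, one_mem _, a, ha, one_mul a⟩
    have hA'S : A' ≤ S := fun a ha => by
      have h1 := S.mul_mem (S.mul_mem (hBS hb) (hAS (mem_conj_smul.mp ha))) (S.inv_mem (hBS hb))
      simpa [mul_assoc] using h1
    have hlt : A < A ⊔ A' := by
      refine left_lt_sup.mpr fun hle => hbn ?_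
      have heq : A' = A := eq_of_le_of_card_ge hle (le_of_eq ?_)
      · rw [mem_normalizer_iff]
        intro a
        constructor
        · intro ha
          rw [← heq, hA', mem_conj_smul]
          simpa [mul_assoc] using ha
        · intro ha
          rw [← heq, hA', mem_conj_smul] at ha
          simpa [mul_assoc] using ha
      · exact Nat.card_congr (equivSMul (MulAut.conj b) A).toEquiv
    have hswap : ∀ y : G, ∀ p ∈ A ⊔ A', ∀ w ∈ MulAut.conj y • B,
        ∃ w' ∈ MulAut.conj y • B, ∃ p' ∈ A ⊔ A', p * w = w' * p' := by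
      intro y
      refine swap_closure ?_ ?_
      · intro a ha w hw
        obtain ⟨T, -, hT⟩ := h y
        exact swap_of_subgroup hT ha hw
      · intro a ha w hw
        obtain ⟨T, -, hT⟩ := h (b⁻¹ * y)
        have hw' : b⁻¹ * w * b ∈ MulAut.conj (b⁻¹ * y) • B := by
          rw [mem_conj_smul]; rw [mem_conj_smul] at hw
          simpa [mul_assoc] using hw
        obtain ⟨w', hw1, a', ha', e⟩ := swap_of_subgroup hT (mem_conj_smul.mp ha) hw'
        refine ⟨b * w' * b⁻¹, ?_, b * a' * b⁻¹, ?_, ?_⟩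
        · rw [mem_conj_smul]; rw [mem_conj_smul] at hw1
          simpa [mul_assoc] using hw1
        · rw [hA', mem_conj_smul]; simpa [mul_assoc] using ha'
        · calc a * w = b * ((b⁻¹ * a * b) * (b⁻¹ * w * b)) * b⁻¹ := by group
            _ = b * (w' * a') * b⁻¹ := by rw [e]
            _ = _ := by group
    have hh2 : ∀ y : G, ∃ T : Subgroup G, T ≠ ⊤ ∧
        (T : Set G) = ((A ⊔ A' : Subgroup G) : Set G) * ((MulAut.conj y • B : Subgroup G) : Set G) := by
      intro y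
      obtain ⟨T, hT⟩ := exists_subgroup_mul _ _ (hswap y)
      refine ⟨T, fun hTtop => hS ?_, hT⟩
      have hprod : ∀ g : G, ∃ s ∈ S, ∃ w ∈ MulAut.conj y • B, g = s * w := by
        intro g
        have : g ∈ (T : Set G) := hTtop ▸ mem_top g
        rw [hT] at this
        obtain ⟨p, hp, w, hw, rfl⟩ := this
        exact ⟨p, (sup_le hAS hA'S) hp, w, hw, rfl⟩
      obtain ⟨s, hs, w, hw, e⟩ := hprod (x * y⁻¹)
      have hle : MulAut.conj y • B ≤ S := by
        intro z hz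
        have h1 : w * z * w⁻¹ ∈ MulAut.conj y • B := mul_mem (mul_mem hw hz) (inv_mem hw)
        rw [mem_conj_smul] at h1
        have h2 : (x * y⁻¹) * z * (x * y⁻¹)⁻¹ ∈ MulAut.conj x • B := by
          rw [mem_conj_smul] at hz ⊢
          simpa [mul_assoc] using hz
        have h3 := hBS h2
        have h4 : w * z * w⁻¹ ∈ S := by
          rw [e] at h3
          have h5 := S.mul_mem (S.mul_mem (S.inv_mem hs) h3) hs
          simpa [mul_assoc] using h5
        rw [← mem_conj_smul] at h1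
        have h6 : (x * y⁻¹) * (w⁻¹ * z * w) * (x * y⁻¹)⁻¹ ∈ S := hBS (by
          rw [mem_conj_smul]
          have h7 : w⁻¹ * z * w ∈ MulAut.conj y • B := mul_mem (mul_mem (inv_mem hw) hz) hw
          rw [mem_conj_smul] at h7
          simpa [mul_assoc] using h7)
        rw [e] at h6
        have h8 := S.mul_mem (S.mul_mem (S.inv_mem hs) h6) hs
        simpa [mul_assoc] using h8
      refine top_le_iff.mp fun g _ => ?_
      obtain ⟨s', hs', w', hw', rfl⟩ := hprod g
      exact S.mul_mem hs' (hle hw')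
    have hcl : Nat.card A < Nat.card ↥(A ⊔ A') :=
      lt_of_not_ge fun hh => hlt.ne (eq_of_le_of_card_ge hlt.le hh)
    have hA2 := Subgroup.card_le_card_group (H := A ⊔ A')
    obtain ⟨N, hN, hNt, hNle⟩ := ih (Nat.card G - Nat.card ↥(A ⊔ A')) (by omega) (A ⊔ A') rfl
      (fun e => hA (le_bot_iff.mp (e ▸ le_sup_left))) hh2
    exact ⟨N, hN, hNt, hNle.imp le_sup_left.trans id⟩

/-- Let A and B be nontrivial subgroups of a finite group G such that for every x the product set of A and xBx⁻¹ is a proper subgroup of G. Then there is a proper normal subgroup of G containing A or containing B. -/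
theorem result {G : Type*} [Group G] [Finite G] (A B : Subgroup G) (hA : A ≠ ⊥) (hB : B ≠ ⊥) (h : ∀ x : G, ∃ S : Subgroup G, S ≠ ⊤ ∧ (S : Set G) = (A : Set G) * ((MulAut.conj x • B : Subgroup G) : Set G)) : ∃ N : Subgroup G, N.Normal ∧ N ≠ ⊤ ∧ (A ≤ N ∨ B ≤ N) := by
  exact aux B hB _ A rfl hA h

end Cfsg.Agent.S0566
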