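import Cfsg.Statements.S0567


set_option autoImplicit false
open Cfsg

namespace Cfsg.Agent.S0567

open Subgroup
open scoped commutatorElement

theorem iterate_mono {G : Type*} [Group G] {H K : Subgroup G} (h : H ≤ K) (n : ℕ) :
    (fun X : Subgroup G => ⁅X, H⁆)^[n] ⊤ ≤ (fun X : Subgroup G => ⁅X, K⁆)^[n] ⊤ := by
  induction n with
  | zero => exact le_rfl
  | succ n ih => simp only [Function.iterate_succ_apply']; exact commutator_mono ih h

theorem commutator_le_sup {G : Type*} [Group G] (X H : Subgroup G) : ⁅X, H⁆ ≤ X ⊔ H := by
  rw [commutator_le]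
  exact fun x hx y hy => mul_mem (mul_mem (mul_mem (mem_sup_left hx) (mem_sup_right hy))
    (inv_mem (mem_sup_left hx))) (inv_mem (mem_sup_right hy))

/-- A subgroup H of a group G is subnormal exactly when, for some m, the subgroup obtained from G by taking the commutator with H m times in succession is contained in H. -/
theorem result {G : Type*} [Group G] (H : Subgroup G) : H.IsSubnormal ↔ ∃ m : ℕ, (fun K : Subgroup G => ⁅K, H⁆)^[m] ⊤ ≤ H := by
  constructor
  · intro hH
    induction hH with
    | top => exact ⟨0, le_top⟩
    | step H K hle _ hN ih =>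
      obtain ⟨m, hm⟩ := ih
      refine ⟨m + 1, ?_⟩
      rw [Function.iterate_succ_apply']
      refine (commutator_mono ((iterate_mono hle m).trans hm) le_rfl).trans ?_
      rw [commutator_le]
      exact fun x hx y hy => H.mul_mem (hN.conj_mem ⟨y, hle hy⟩ hy ⟨x, hx⟩) (H.inv_mem hy)
  · rintro ⟨m, hm⟩
    set f := fun j => (fun K : Subgroup G => ⁅K, H⁆)^[j] ⊤ with hf
    have hf1 : ∀ j, f (j + 1) = ⁅f j, H⁆ := fun j => Function.iterate_succ_apply' _ _ _
    have key : ∀ j, (f j ⊔ H).IsSubnormal := by
      intro j
      induction j with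
      | zero => simp [hf]
      | succ j ih =>
        have hle : f (j + 1) ⊔ H ≤ f j ⊔ H :=
          sup_le (hf1 j ▸ commutator_le_sup _ _) le_sup_right
        refine IsSubnormal.step _ _ hle ih (normal_subgroupOf_of_le_normalizer (sup_le ?_ ?_))
        · intro x hx
          have hconj : ∀ y ∈ f j, (f (j + 1) ⊔ H).map (MulAut.conj y).toMonoidHom ≤ f (j + 1) ⊔ H := by
            intro y hy
            rw [map_le_iff_le_comap]
            refine sup_le (fun z hz => ?_) fun z hz => ?_
            · rw [hf1] at hz ⊢
              show y * z * y⁻¹ ∈ ⁅f j, H⁆ ⊔ H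
              have h0 : y ∈ normalizer ((⁅f j, H⁆ : Subgroup G) : Set G) := normalizer_commutator_ge_left (f j) H hy
              exact mem_sup_left ((mem_normalizer_iff.mp h0 z).mp hz)
            · show y * z * y⁻¹ ∈ f (j + 1) ⊔ H
              rw [show y * z * y⁻¹ = ⁅y, z⁆ * z by rw [commutatorElement_def, inv_mul_cancel_right]]
              exact mul_mem_sup (hf1 j ▸ commutator_mem_commutator hy hz) hz
          rw [mem_normalizer_iff]
          intro z
          refine ⟨fun hz => hconj x hx (mem_map_of_mem _ hz), fun hz => ?_⟩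
          have := hconj x⁻¹ (inv_mem hx) (mem_map_of_mem _ hz)
          simpa [mul_assoc] using this
        · exact le_trans le_sup_right le_normalizer
    have := key m
    rwa [sup_eq_right.mpr (show f m ≤ H from hm)] at this

end Cfsg.Agent.S0567
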