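import Cfsg.Statements.S0570
import Cfsg.Agent.Lib.Solvable.SystemCarter

set_option autoImplicit false
open Cfsg

namespace Cfsg.Agent.S0570

open Subgroup
open scoped Pointwise

/-- Let G be a finite group with a nilpotent normal subgroup F such that G modulo F is nilpotent (nilpotent length at most two). Then a subgroup of G is a Carter subgroup if and only if it is the system normalizer of some Hall complement system. -/
theorem result {G : Type*} [Group G] [Finite G] (F : Subgroup G) [F.Normal] (hF : Group.IsNilpotent F) (hGF : Group.IsNilpotent (G ⧸ F)) (C : Subgroup G) : Cfsg.IsCarterSubgroup C ↔ ∃ K : Nat.Primes → Subgroup G, Cfsg.IsComplementSystem K ∧ C = Cfsg.systemNormalizer K := by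
  have : Group.IsSolvable G :=
    Group.isSolvable_of_ker_le_range F.subtype (QuotientGroup.mk' F) (by simp)
  have key : ∀ C : Subgroup G, Solvable.IsCarter C → ∃ K : Nat.Primes → Subgroup G,
      Cfsg.IsComplementSystem K ∧ C = Cfsg.systemNormalizer K := by
    intro C hC
    obtain ⟨K, hK, hr⟩ := Solvable.exists_reduces hC.1
    refine ⟨K, hK, le_antisymm ?_ (Solvable.systemNormalizer_le_of_reduces _ G rfl C hC K hK hr)⟩
    refine Solvable.le_systemNormalizer_of_reduces hK hF ?_ hr
    have h := Solvable.eq_top_of_nilpotent (Solvable.isCarter_map hC F).2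
    have h2 := congrArg (comap (QuotientGroup.mk' F)) h
    rwa [comap_map_eq, QuotientGroup.ker_mk', comap_top] at h2
  refine ⟨key C, ?_⟩
  rintro ⟨K, hK, rfl⟩
  obtain ⟨C, hC⟩ := (Solvable.exists_isCarter_and_conj (G := G)).1
  obtain ⟨L, hL, hCL⟩ := key C hC
  obtain ⟨g, hg⟩ := Solvable.exists_conj_eq_system hL hK
  have h1 := Solvable.conj_systemNormalizer_le hg hCL.ge
  have h2 : MulAut.conj g • C ≤ Cfsg.systemNormalizer K := by
    rw [hCL]
    refine le_trans (pointwise_smul_le_pointwise_smul_iff.2
      (Solvable.conj_systemNormalizer_le (K := L) (L := K) (g := g⁻¹) (fun p => ?_) le_rfl)) ?_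
    · rw [← hg p, Coprime.conj_smul_smul, inv_mul_cancel, map_one, one_smul]
    · rw [Coprime.conj_smul_smul, mul_inv_cancel, map_one, one_smul]
  exact (le_antisymm h2 h1) ▸ Solvable.isCarter_conj hC g

end Cfsg.Agent.S0570
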