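import Cfsg.Statements.S0573
import Cfsg.Agent.S0572
import Cfsg.Agent.Lib.Solvable.Carter

set_option autoImplicit false
open Cfsg

namespace Cfsg.Agent.S0573

open Subgroup
open scoped Pointwise commutatorElement

universe u

theorem center_case {G : Type u} [Group G] (A B : Subgroup G) [IsMulCommutative A] [IsMulCommutative B]
    (hAB : ∀ g : G, ∃ a ∈ A, ∃ b ∈ B, g = a * b) {z : G} (hz : z ∈ center G) (hz1 : z ≠ 1) :
    ∃ N : Subgroup G, N.Normal ∧ N ≠ ⊥ ∧ (N ≤ A ∨ N ≤ B) := by
  have mk : ∀ w : G, w ∈ center G → w ≠ 1 → ∀ W : Subgroup G, w ∈ W →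
      ∃ N : Subgroup G, N.Normal ∧ N ≠ ⊥ ∧ N ≤ W := by
    intro w hw hw1 W hwW
    refine ⟨zpowers w, ⟨fun n hn g => ?_⟩, fun h => hw1 (by simpa using h), zpowers_le.mpr hwW⟩
    rwa [mem_center_iff.mp (zpowers_le.mpr hw hn) g, mul_inv_cancel_right]
  obtain ⟨a, ha, b, hb, rfl⟩ := hAB z
  have hbc : b ∈ center G := by
    rw [mem_center_iff]
    intro g
    obtain ⟨x, hx, y, hy, rfl⟩ := hAB g
    have e1 : x * b = b * x := by
      have h1 := mem_center_iff.mp hz x
      have h2 : x * a = a * x := setLike_mul_comm hx ha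
      rw [← mul_assoc, h2, mul_assoc, mul_assoc] at h1
      exact mul_left_cancel h1
    have e2 : y * b = b * y := setLike_mul_comm hy hb
    rw [mul_assoc, e2, ← mul_assoc, e1, mul_assoc]
  by_cases hb1 : b = 1
  · subst hb1
    rw [mul_one] at hz hz1
    obtain ⟨N, hN, hne, hle⟩ := mk a hz hz1 A ha
    exact ⟨N, hN, hne, Or.inl hle⟩
  · obtain ⟨N, hN, hne, hle⟩ := mk b hbc hb1 B hb
    exact ⟨N, hN, hne, Or.inr hle⟩

theorem aux (G : Type u) [Group G] [Finite G] [Nontrivial G] (A B : Subgroup G) [IsMulCommutative A]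
    [IsMulCommutative B] (hAB : ∀ g : G, ∃ a ∈ A, ∃ b ∈ B, g = a * b) :
    ∃ N : Subgroup G, N.Normal ∧ N ≠ ⊥ ∧ (N ≤ A ∨ N ≤ B) := by
  induction hn : Nat.card G using Nat.strong_induction_on generalizing G with
  | _ n ih =>
    subst hn
    by_cases hZ : center G = ⊥
    swap
    · obtain ⟨z, hz, hz1⟩ := (bot_or_exists_ne_one _).resolve_left hZ
      exact center_case A B hAB hz hz1
    set M := _root_.commutator G with hM
    have hd2 := S0572.result A B hAB
    rw [derivedSeries_succ, derivedSeries_one] at hd2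
    have hMc : IsMulCommutative M := commutator_self_eq_bot_iff.mp hd2
    have hMne : M ≠ ⊥ := fun h => by
      obtain ⟨g, hg⟩ := exists_ne (1 : G)
      have : g ∈ center G := by
        rw [mem_center_iff]
        intro x
        have := commutator_mem_commutator (mem_top x) (mem_top g)
        rw [← _root_.commutator_def, ← hM, h, mem_bot] at this
        exact commutatorElement_eq_one_iff_mul_comm.mp this
      rw [hZ, mem_bot] at this
      exact hg this
    have hBA : ∀ g : G, ∃ b ∈ B, ∃ a ∈ A, g = b * a := by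
      intro g
      obtain ⟨a, ha, b, hb, h⟩ := hAB g⁻¹
      exact ⟨b⁻¹, inv_mem hb, a⁻¹, inv_mem ha, by rw [← mul_inv_rev, ← h, inv_inv]⟩
    have proper : ∀ (A B : Subgroup G), IsMulCommutative A → IsMulCommutative B →
        (∀ g : G, ∃ a ∈ A, ∃ b ∈ B, g = a * b) → M ⊔ A ≠ ⊤ →
        ∃ N : Subgroup G, N.Normal ∧ N ≠ ⊥ ∧ (N ≤ A ∨ N ≤ B) := by
      intro A B _ _ hAB hne
      set T := M ⊔ A with hT
      have hTn : T.Normal := by
        refine ⟨fun x hx g => ?_⟩
        have h1 : g * x * g⁻¹ = ⁅g, x⁆ * x := by rw [commutatorElement_def, inv_mul_cancel_right]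
        rw [h1]
        refine mul_mem (mem_sup_left ?_) hx
        rw [hM, _root_.commutator_def]
        exact commutator_mem_commutator (mem_top g) (mem_top x)
      have hlt : Nat.card T < Nat.card G :=
        lt_of_le_of_ne (card_le_card_group T) fun e => hne (eq_top_of_card_eq T e)
      have : Nontrivial T := (nontrivial_iff_ne_bot T).mpr fun e =>
        hMne (le_bot_iff.mp (e ▸ le_sup_left))
      have hsplit : ∀ g : T, ∃ a ∈ A.subgroupOf T, ∃ b ∈ B.subgroupOf T, g = a * b := by
        rintro ⟨g, hg⟩
        obtain ⟨a, ha, b, hb, e⟩ := hAB g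
        have hbT : b ∈ T := by
          have := T.mul_mem (T.inv_mem (mem_sup_right ha)) hg
          rwa [e, inv_mul_cancel_left] at this
        exact ⟨⟨a, mem_sup_right ha⟩, ha, ⟨b, hbT⟩, hb, Subtype.ext e⟩
      have : IsMulCommutative (A.subgroupOf T) :=
        ⟨⟨fun x y => Subtype.ext (Subtype.ext
          (setLike_mul_comm (mem_subgroupOf.mp x.2) (mem_subgroupOf.mp y.2)))⟩⟩
      have : IsMulCommutative (B.subgroupOf T) :=
        ⟨⟨fun x y => Subtype.ext (Subtype.ext
          (setLike_mul_comm (mem_subgroupOf.mp x.2) (mem_subgroupOf.mp y.2)))⟩⟩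
      obtain ⟨X₀, hX₀, hX₀ne, hX₀le⟩ := ih _ hlt T (A.subgroupOf T) (B.subgroupOf T) hsplit rfl
      set X := X₀.map T.subtype with hX
      have hXne : X ≠ ⊥ := by rwa [hX, Ne, (map_injective T.subtype_injective).eq_iff' (map_bot _)]
      have hTX : T ≤ normalizer (X : Set G) := by
        refine (normal_subgroupOf_iff_le_normalizer (map_subtype_le X₀)).mp ?_
        rw [subgroupOf, comap_map_eq_self_of_injective T.subtype_injective]
        exact hX₀
      rcases hX₀le with hle | hle
      · have hXA : X ≤ A := (map_mono hle).trans (by rw [subgroupOf_map_subtype]; exact inf_le_left)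
        have hWne : T ⊓ centralizer (T : Set G) ≠ ⊥ := by
          by_cases hI : X ⊓ M = ⊥
          · refine fun e => hXne (le_bot_iff.mp (e ▸ le_inf (map_subtype_le _) ?_))
            rw [le_centralizer_iff, hT]
            refine sup_le (fun m hm => mem_centralizer_iff.mpr fun x hx => ?_)
              (fun a ha => mem_centralizer_iff.mpr fun x hx => setLike_mul_comm (hXA hx) ha)
            have h1 : ⁅x, m⁆ ∈ X ⊓ M := ⟨by
                rw [commutatorElement_def, mul_assoc, mul_assoc, ← mul_assoc m]
                exact X.mul_mem hx ((mem_normalizer_iff.mp (hTX (mem_sup_left hm)) _).mp (X.inv_mem hx)),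
              M.mul_mem ((inferInstance : M.Normal).conj_mem m hm x) (M.inv_mem hm)⟩
            rw [hI, mem_bot] at h1
            exact commutatorElement_eq_one_iff_mul_comm.mp h1
          · refine fun e => hI (le_bot_iff.mp (e ▸ le_inf (inf_le_left.trans (map_subtype_le _)) ?_))
            rw [le_centralizer_iff, hT]
            exact sup_le (fun m hm => mem_centralizer_iff.mpr fun x hx => setLike_mul_comm hx.2 hm)
              (fun a ha => mem_centralizer_iff.mpr fun x hx => setLike_mul_comm (hXA hx.1) ha)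
        refine ⟨T ⊓ centralizer (T : Set G), inferInstance, hWne, Or.inl fun z hz => ?_⟩
        obtain ⟨a, ha, b, hb, rfl⟩ := hAB z
        have hbc : b ∈ center G := by
          rw [mem_center_iff]
          intro g
          obtain ⟨x, hx, y, hy, rfl⟩ := hAB g
          have e1 : x * b = b * x := by
            have h1 := mem_centralizer_iff.mp hz.2 x (mem_sup_right hx)
            have h2 : x * a = a * x := setLike_mul_comm hx ha
            rw [← mul_assoc, h2, mul_assoc, mul_assoc] at h1
            exact mul_left_cancel h1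
          have e2 : y * b = b * y := setLike_mul_comm hy hb
          rw [mul_assoc, e2, ← mul_assoc, e1, mul_assoc]
        rw [hZ, mem_bot] at hbc
        rw [hbc, mul_one]
        exact ha
      · have hXB : X ≤ B := (map_mono hle).trans (by rw [subgroupOf_map_subtype]; exact inf_le_left)
        refine ⟨X, normalizer_eq_top_iff.mp (top_le_iff.mp fun g _ => ?_), hXne, Or.inr hXB⟩
        obtain ⟨a, ha, b, hb, rfl⟩ := hAB g
        refine mul_mem (hTX (mem_sup_right ha)) ?_
        refine mem_normalizer_iff.mpr fun x => ⟨fun hx => ?_, fun hx => ?_⟩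
        · rwa [setLike_mul_comm hb (hXB hx), mul_inv_cancel_right]
        · have hxB : x ∈ B := by simpa [mul_assoc] using B.mul_mem (B.mul_mem (B.inv_mem hb) (hXB hx)) hb
          rwa [setLike_mul_comm hb hxB, mul_inv_cancel_right] at hx
    by_cases hA : M ⊔ A = ⊤
    swap
    · exact proper A B ‹_› ‹_› hAB hA
    by_cases hB : M ⊔ B = ⊤
    swap
    · obtain ⟨N, hN, hne, hle⟩ := proper B A ‹_› ‹_› hBA hB
      exact ⟨N, hN, hne, hle.symm⟩
    exfalso
    have hcarter : ∀ W : Subgroup G, IsMulCommutative W → M ⊔ W = ⊤ → Solvable.IsCarter W := by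
      intro W hW htop
      refine ⟨?_, le_antisymm (fun g hg => ?_) le_normalizer⟩
      · letI : CommGroup W := { (inferInstance : Group W) with mul_comm := fun a b => mul_comm' a b }
        infer_instance
      have hMW : M ⊓ W = ⊥ := by
        rw [← le_bot_iff, ← hZ]
        intro x hx
        rw [mem_center_iff]
        intro y
        have hy : y ∈ ((M ⊔ W : Subgroup G) : Set G) := by rw [htop]; trivial
        rw [normal_mul] at hy
        obtain ⟨m, hm, w, hw, rfl⟩ := hy
        have e1 : m * x = x * m := setLike_mul_comm hm hx.1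
        have e2 : w * x = x * w := setLike_mul_comm hw hx.2
        show m * w * x = x * (m * w)
        rw [mul_assoc, e2, ← mul_assoc, e1, mul_assoc]
      have hg' : g ∈ ((M ⊔ W : Subgroup G) : Set G) := by rw [htop]; trivial
      rw [normal_mul] at hg'
      obtain ⟨m, hm, w, hw, rfl⟩ := hg'
      suffices hm1 : m = 1 by show m * w ∈ W; rwa [hm1, one_mul]
      have hmN : m ∈ normalizer (W : Set G) := by
        simpa using mul_mem hg (inv_mem (le_normalizer hw))
      have hmc : m ∈ center G := by
        rw [mem_center_iff]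
        intro y
        have hy : y ∈ ((M ⊔ W : Subgroup G) : Set G) := by rw [htop]; trivial
        rw [normal_mul] at hy
        obtain ⟨m', hm', w', hw', rfl⟩ := hy
        have h1 : ⁅m, w'⁆ ∈ M ⊓ W := ⟨by
            rw [commutatorElement_def, mul_assoc, mul_assoc, ← mul_assoc w']
            exact M.mul_mem hm ((inferInstance : M.Normal).conj_mem _ (M.inv_mem hm) w'),
          W.mul_mem ((mem_normalizer_iff.mp hmN _).mp hw') (W.inv_mem hw')⟩
        rw [hMW, mem_bot] at h1
        have e1 : m' * m = m * m' := setLike_mul_comm hm' hm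
        have e2 : m * w' = w' * m := commutatorElement_eq_one_iff_mul_comm.mp h1
        show m' * w' * m = m * (m' * w')
        rw [mul_assoc, ← e2, ← mul_assoc, e1, mul_assoc]
      rwa [hZ, mem_bot] at hmc
    have hGs : Group.IsSolvable G := ⟨⟨2, S0572.result A B hAB⟩⟩
    obtain ⟨g, hg⟩ := (Solvable.exists_isCarter_and_conj (G := G)).2 A B
      (hcarter A ‹_› hA) (hcarter B ‹_› hB)
    obtain ⟨b, hb, a, ha, rfl⟩ := hBA g
    rw [map_mul, mul_smul, Coprime.conj_smul_eq_self_of_mem (le_normalizer ha)] at hg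
    have hEq : A = B := by
      rw [← inv_smul_eq_iff.mpr hg.symm, ← map_inv]
      exact (Coprime.conj_smul_eq_self_of_mem (le_normalizer (inv_mem hb))).symm ▸ rfl
    subst hEq
    refine hMne ?_
    rw [hM, _root_.commutator_def, ← le_bot_iff, commutator_le]
    intro x _ y _
    obtain ⟨x1, hx1, x2, hx2, rfl⟩ := hAB x
    obtain ⟨y1, hy1, y2, hy2, rfl⟩ := hAB y
    rw [mem_bot, commutatorElement_eq_one_iff_mul_comm]
    exact setLike_mul_comm (mul_mem hx1 hx2) (mul_mem hy1 hy2)

/-- If a nontrivial finite group G is the product AB of abelian subgroups A and B, then some nontrivial normal subgroup of G is contained in A or in B. -/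
theorem result {G : Type*} [Group G] [Finite G] [Nontrivial G] (A B : Subgroup G) [IsMulCommutative A] [IsMulCommutative B] (hAB : ∀ g : G, ∃ a ∈ A, ∃ b ∈ B, g = a * b) : ∃ N : Subgroup G, N.Normal ∧ N ≠ ⊥ ∧ (N ≤ A ∨ N ≤ B) := by
  exact aux G A B hAB

end Cfsg.Agent.S0573
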