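import Cfsg.Statements.S0571
import Cfsg.Agent.S0573
import Cfsg.Agent.Lib.Supersolvable.Basic

set_option autoImplicit false
open Cfsg

namespace Cfsg.Agent.S0571

open Subgroup

universe u

theorem aux (G : Type u) [Group G] [Finite G] (A B : Subgroup G) [IsCyclic A] [IsCyclic B]
    (hAB : ∀ g : G, ∃ a ∈ A, ∃ b ∈ B, g = a * b) : Cfsg.IsSupersolvable G := by
  induction hn : Nat.card G using Nat.strong_induction_on generalizing G with
  | _ n ih =>
    subst hn
    rcases subsingleton_or_nontrivial G with hs | hs
    · exact Supersolvable.of_subsingleton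
    obtain ⟨N, hN, hne, hle⟩ := S0573.result A B hAB
    have hNc : IsCyclic N := by
      rcases hle with h | h <;>
        exact isCyclic_of_injective (Subgroup.inclusion h) (inclusion_injective h)
    set f := QuotientGroup.mk' N
    have : IsCyclic (A.map f) := isCyclic_of_surjective (f.subgroupMap A) (f.subgroupMap_surjective A)
    have : IsCyclic (B.map f) := isCyclic_of_surjective (f.subgroupMap B) (f.subgroupMap_surjective B)
    refine Supersolvable.of_isCyclic_normal N (ih _ (Supersolvable.card_quotient_lt N ?_) (G ⧸ N)
      (A.map f) (B.map f) ?_ rfl)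
    · exact lt_of_le_of_ne Nat.card_pos fun e => hne (card_eq_one.mp e.symm)
    · intro y
      obtain ⟨g, rfl⟩ := QuotientGroup.mk'_surjective N y
      obtain ⟨a, ha, b, hb, rfl⟩ := hAB g
      exact ⟨f a, mem_map_of_mem f ha, f b, mem_map_of_mem f hb, map_mul f a b⟩

/-- If a finite group G is the product AB of two cyclic subgroups (every element is a product ab), then G is supersolvable. -/
theorem result {G : Type*} [Group G] [Finite G] (A B : Subgroup G) [IsCyclic A] [IsCyclic B] (hAB : ∀ g : G, ∃ a ∈ A, ∃ b ∈ B, g = a * b) : Cfsg.IsSupersolvable G := by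
  exact aux G A B hAB

end Cfsg.Agent.S0571
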