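import Cfsg.Statements.S0574
import Cfsg.Agent.S0572
import Cfsg.Agent.Lib.Solvable.Kegel
import Cfsg.Agent.Lib.Components.Fitting

set_option autoImplicit false
open Cfsg

namespace Cfsg.Agent.S0574

open Subgroup
open scoped commutatorElement

universe u

theorem commutator_eq_bot_of_isSolvable {G : Type u} [Group G] [Group.IsSolvable G]
    (h : derivedSeries G 1 ≤ derivedSeries G 2) : derivedSeries G 1 = ⊥ := by
  obtain ⟨n, hn⟩ := (Group.isSolvable_def G).mp inferInstance
  have key : ∀ k, derivedSeries G 1 ≤ derivedSeries G k := by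
    intro k
    induction k with
    | zero => exact le_top
    | succ k ih =>
      refine h.trans ?_
      rw [derivedSeries_succ G 1, derivedSeries_succ G k]
      exact commutator_mono ih ih
  exact eq_bot_iff.mpr ((key n).trans hn.le)

theorem commutator_eq_bot_of_sup_eq_top {G : Type u} [Group G] [Group.IsSolvable G]
    {A B : Subgroup G} (hA : ∀ x ∈ A, ∀ y ∈ A, x * y = y * x)
    (hB : ⁅B, B⁆ ≤ centralizer (B : Set G)) (htop : A ⊔ ⁅B, B⁆ = ⊤) : ⁅B, B⁆ = ⊥ := by
  have hZ1 : ⁅B, B⁆ ≤ derivedSeries G 1 := by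
    rw [derivedSeries_succ, derivedSeries_zero]; exact commutator_mono le_top le_top
  let f := QuotientGroup.mk' (derivedSeries G 2)
  have hker : ∀ x y : G, ⁅x, y⁆ ∈ derivedSeries G 2 ↔ Commute (f x) (f y) := fun x y => by
    rw [← commutatorElement_eq_one_iff_commute, ← map_commutatorElement]
    exact (QuotientGroup.eq_one_iff _).symm
  have hD : ∀ u ∈ derivedSeries G 1, ∀ v ∈ derivedSeries G 1, Commute (f u) (f v) :=
    fun u hu v hv => (hker u v).mp (by rw [derivedSeries_succ G 1]; exact commutator_mem_commutator hu hv)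
  have htop1 : A ⊔ derivedSeries G 1 = ⊤ :=
    top_le_iff.mp (htop.ge.trans (sup_le_sup_left hZ1 _))
  have hdec : ∀ b ∈ B, ∃ a v, v ∈ derivedSeries G 1 ∧ b = a * v ∧ ∀ g, Commute (f a) (f g) := by
    intro b hb
    obtain ⟨a, ha, v, hv, e⟩ := mem_sup_of_normal_right.mp (htop1.ge (mem_top b))
    refine ⟨a, v, hv, e.symm, fun g => ?_⟩
    have hle : A ⊔ ⁅B, B⁆ ≤ (centralizer {f a}).comap f := by
      refine sup_le (fun x hx => ?_) (fun z hz => ?_)
      · rw [mem_comap, mem_centralizer_singleton_iff, ← map_mul, ← map_mul, hA a ha x hx]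
      · rw [mem_comap, mem_centralizer_singleton_iff]
        have h1 : Commute (f b) (f z) :=
          Commute.map ((mem_centralizer_iff.mp (hB hz)) b hb) f
        have h2 : Commute (f v) (f z) := hD v hv z (hZ1 hz)
        have h3 : f a = f b * (f v)⁻¹ := by rw [← e, map_mul, mul_inv_cancel_right]
        rw [h3]
        exact (h1.mul_left h2.inv_left).eq.symm
    have := hle (htop.ge (mem_top g))
    rw [mem_comap, mem_centralizer_singleton_iff] at this
    exact this.symm
  have hZ2 : ⁅B, B⁆ ≤ derivedSeries G 2 := by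
    rw [commutator_le]
    intro b hb b' hb'
    obtain ⟨a, v, hv, rfl, ha⟩ := hdec b hb
    obtain ⟨a', v', hv', rfl, ha'⟩ := hdec b' hb'
    rw [hker, map_mul, map_mul]
    exact ((ha a').mul_right (ha v')).mul_left ((ha' v).symm.mul_right (hD v hv v' hv'))
  have h12 : derivedSeries G 1 ≤ derivedSeries G 2 := by
    have htop2 : A ⊔ derivedSeries G 2 = ⊤ := top_le_iff.mp (htop.ge.trans (sup_le_sup_left hZ2 _))
    conv_lhs => rw [derivedSeries_succ, derivedSeries_zero]
    rw [commutator_le]
    intro x _ y _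
    obtain ⟨a, ha, v, hv, rfl⟩ := mem_sup_of_normal_right.mp (htop2.ge (mem_top x))
    obtain ⟨a', ha', v', hv', rfl⟩ := mem_sup_of_normal_right.mp (htop2.ge (mem_top y))
    rw [hker, map_mul, map_mul]
    have e : ∀ w ∈ derivedSeries G 2, f w = 1 := fun w hw => (QuotientGroup.eq_one_iff w).mpr hw
    rw [e v hv, e v' hv', mul_one, mul_one]
    exact Commute.map (hA a ha a' ha') f
  exact eq_bot_iff.mpr (hZ1.trans (commutator_eq_bot_of_isSolvable h12).le)

theorem derived_bound : ∀ (m : ℕ) {G : Type u} [Group G] [Finite G] {A B : Subgroup G},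
    (∀ x ∈ A, ∀ y ∈ A, x * y = y * x) → ⁅B, B⁆ ≤ centralizer (B : Set G) →
    (∀ g : G, ∃ a ∈ A, ∃ b ∈ B, g = a * b) →
    (Nat.card ↥⁅B, B⁆).primeFactorsList.length = m →
    derivedSeries G (2 * (1 + m)) = ⊥ := by
  intro m
  induction m using Nat.strong_induction_on with
  | _ m ih =>
    intro G _ _ A B hA hB hAB hm
    haveI hAc : IsMulCommutative A := ⟨⟨fun x y => Subtype.ext (hA x x.2 y y.2)⟩⟩
    by_cases hZ : ⁅B, B⁆ = ⊥
    · haveI : IsMulCommutative B := ⟨⟨fun x y => Subtype.ext
        (((commutator_eq_bot_iff_le_centralizer.mp hZ) y.2) x x.2)⟩⟩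
      exact eq_bot_iff.mpr ((derivedSeries_antitone G (by omega)).trans (S0572.result A B hAB).le)
    have hAn : Group.IsNilpotent A := by
      refine Components.isNilpotent_of_commutator_commutator ?_
      have : ⁅A, A⁆ = ⊥ :=
        commutator_eq_bot_iff_le_centralizer.mpr fun x hx => mem_centralizer_iff.mpr fun y hy => hA y hy x hx
      rw [this, commutator_bot_left]
    have hBn : Group.IsNilpotent B := Components.isNilpotent_of_commutator_commutator
      (commutator_eq_bot_iff_le_centralizer.mpr hB)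
    haveI := NilProd.isSolvable_of_nilpotent_product hAn hBn hAB
    let H := A ⊔ ⁅B, B⁆
    let A₁ := A.subgroupOf H
    let B₁ := B.subgroupOf H
    have hA₁ : ∀ x ∈ A₁, ∀ y ∈ A₁, x * y = y * x :=
      fun x hx y hy => Subtype.ext (hA x (mem_subgroupOf.mp hx) y (mem_subgroupOf.mp hy))
    have hAB₁ : ∀ h : H, ∃ a ∈ A₁, ∃ b ∈ B₁, h = a * b := by
      intro h
      obtain ⟨a, ha, b, hb, e⟩ := hAB h
      have haH : a ∈ H := le_sup_left (α := Subgroup G) ha
      have hbH : b ∈ H := by
        rw [show b = a⁻¹ * h by rw [e, inv_mul_cancel_left]]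
        exact mul_mem (inv_mem haH) h.2
      exact ⟨⟨a, haH⟩, mem_subgroupOf.mpr ha, ⟨b, hbH⟩, mem_subgroupOf.mpr hb, Subtype.ext e⟩
    have hW : (⁅B₁, B₁⁆).map H.subtype ≤ ⁅B, B⁆ := by
      rw [map_commutator]; exact commutator_mono (map_comap_le _ _) (map_comap_le _ _)
    have hB₁ : ⁅B₁, B₁⁆ ≤ centralizer (B₁ : Set H) := fun w hw =>
      mem_centralizer_iff.mpr fun b hb => Subtype.ext
        ((mem_centralizer_iff.mp (hB (hW (mem_map_of_mem _ hw)))) b (mem_subgroupOf.mp hb))
    have hWne : (⁅B₁, B₁⁆).map H.subtype ≠ ⁅B, B⁆ := by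
      intro heq
      have htop : A₁ ⊔ ⁅B₁, B₁⁆ = ⊤ := by
        apply map_injective H.subtype_injective
        rw [Subgroup.map_sup, heq, subgroupOf_map_subtype, inf_of_le_left le_sup_left,
          ← MonoidHom.range_eq_map, range_subtype]
      exact hZ (by rw [← heq, commutator_eq_bot_of_sup_eq_top hA₁ hB₁ htop, Subgroup.map_bot])
    have hlt : (Nat.card ↥⁅B₁, B₁⁆).primeFactorsList.length < m := by
      rw [← card_map_of_injective (K := ⁅B₁, B₁⁆) H.subtype_injective, ← hm]
      obtain ⟨k, hk⟩ := card_dvd_of_le hW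
      have hk1 : k ≠ 1 := fun h1 => hWne (eq_of_le_of_card_ge hW (by rw [hk, h1, mul_one]))
      have hk0 : k ≠ 0 := fun h0 => (Nat.card_pos (α := ↥⁅B, B⁆)).ne' (by rw [hk, h0, mul_zero])
      rw [hk, (Nat.perm_primeFactorsList_mul Nat.card_pos.ne' hk0).length_eq, List.length_append]
      exact Nat.lt_add_of_pos_right (List.length_pos_iff.mpr
        ((Nat.primeFactorsList_ne_nil k).mpr (by omega)))
    have hH : derivedSeries H (2 * m) = ⊥ :=
      eq_bot_iff.mpr ((derivedSeries_antitone H (by omega)).trans (ih _ hlt hA₁ hB₁ hAB₁ rfl).le)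
    let L := normalClosure ((⁅B, B⁆ : Subgroup G) : Set G)
    have hL : L ≤ H := by
      refine (closure_le H).mpr fun x hx => ?_
      obtain ⟨z, hz, hzx⟩ := Group.mem_conjugatesOfSet_iff.mp hx
      obtain ⟨c, rfl⟩ := isConj_iff.mp hzx
      obtain ⟨a, ha, b, hb, rfl⟩ := hAB c
      have hbz : b * z = z * b := mem_centralizer_iff.mp (hB hz) b hb
      rw [show a * b * z * (a * b)⁻¹ = a * z * a⁻¹ by
        rw [mul_assoc a b z, hbz, mul_inv_rev]; group]
      exact mul_mem (mul_mem (le_sup_left (α := Subgroup G) ha) (le_sup_right (α := Subgroup G) hz))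
        (inv_mem (le_sup_left (α := Subgroup G) ha))
    let f := QuotientGroup.mk' L
    have h2 : derivedSeries G 2 ≤ L := by
      haveI : IsMulCommutative (A.map f) := ⟨⟨by
        rintro ⟨_, a, ha, rfl⟩ ⟨_, a', ha', rfl⟩
        exact Subtype.ext (by simp only [Subgroup.coe_mul, ← map_mul, hA a ha a' ha'])⟩⟩
      haveI : IsMulCommutative (B.map f) := ⟨⟨by
        rintro ⟨_, b, hb, rfl⟩ ⟨_, b', hb', rfl⟩
        refine Subtype.ext (commutatorElement_eq_one_iff_commute.mp ?_).eq
        rw [← map_commutatorElement]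
        exact (QuotientGroup.eq_one_iff _).mpr
          (subset_normalClosure (commutator_mem_commutator hb hb'))⟩⟩
      have hq := S0572.result (A.map f) (B.map f) fun y => by
        obtain ⟨g, rfl⟩ := QuotientGroup.mk'_surjective L y
        obtain ⟨a, ha, b, hb, rfl⟩ := hAB g
        exact ⟨f a, mem_map_of_mem f ha, f b, mem_map_of_mem f hb, map_mul f a b⟩
      rw [← map_derivedSeries_eq (f := f) (QuotientGroup.mk'_surjective L) 2, Subgroup.map_eq_bot_iff] at hq
      rwa [QuotientGroup.ker_mk'] at hq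
    have hstep : ∀ k, derivedSeries G (2 + k) ≤ (derivedSeries H k).map H.subtype := by
      intro k
      induction k with
      | zero =>
        rw [derivedSeries_zero, ← MonoidHom.range_eq_map, range_subtype]
        exact h2.trans hL
      | succ k ihk =>
        rw [← add_assoc, derivedSeries_succ, derivedSeries_succ, map_commutator]
        exact commutator_mono ihk ihk
    rw [show 2 * (1 + m) = 2 + 2 * m by ring, eq_bot_iff]
    refine (hstep _).trans ?_
    rw [hH, Subgroup.map_bot]

/-- Let the finite group G be the product AB of an abelian subgroup A and a subgroup B of nilpotency class at most two, and let Ω be the number of prime factors, with multiplicity, of the order of the commutator subgroup of B. Then the term of index 2(1 + Ω) of the derived series of G is trivial. -/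
theorem result {G : Type*} [Group G] [Finite G] (A B : Subgroup G) [IsMulCommutative A] (hB : commutator ↥B ≤ Subgroup.center ↥B) (hAB : ∀ g : G, ∃ a ∈ A, ∃ b ∈ B, g = a * b) : derivedSeries G (2 * (1 + (Nat.card ↥(commutator ↥B)).primeFactorsList.length)) = ⊥ := by
  have hle : ⁅B, B⁆ ≤ Subgroup.centralizer (B : Set G) := by
    rw [← Subgroup.map_subtype_commutator]
    rintro _ ⟨z, hz, rfl⟩
    exact Subgroup.mem_centralizer_iff.mpr fun b hb =>
      congrArg Subtype.val (Subgroup.mem_center_iff.mp (hB hz) ⟨b, hb⟩)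
  have hcard : Nat.card ↥(commutator ↥B) = Nat.card ↥⁅B, B⁆ := by
    rw [← Subgroup.map_subtype_commutator,
      Subgroup.card_map_of_injective B.subtype_injective]
  rw [hcard]
  exact derived_bound _ (fun x hx y hy => setLike_mul_comm hx hy) hle hAB rfl

end Cfsg.Agent.S0574
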