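import Cfsg.Statements.S0575
-- import your own Cfsg.Agent.* helpers here

set_option autoImplicit false
open Cfsg

namespace Cfsg.Agent.S0575

/-- If H is a normal subgroup of a finite group G, then the Frattini subgroup of H, viewed in G, lies in the Frattini subgroup of G. -/
theorem result {G : Type*} [Group G] [Finite G] (H : Subgroup G) [H.Normal] : (frattini ↥H).map H.subtype ≤ frattini G := by
  rw [frattini, Order.radical]
  refine le_iInf₂ fun M hM => ?_
  by_contra hle
  let F := (frattini H).map H.subtype
  have hF : F.Normal := ConjAct.normal_of_characteristic_of_normal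
  have htop : F ⊔ M = ⊤ := hM.2 _ (lt_of_le_of_ne le_sup_right fun e => hle (e ▸ le_sup_left))
  have hsup : M.subgroupOf H ⊔ frattini H = ⊤ := by
    rw [eq_top_iff]
    intro h _
    have hh : (h : G) ∈ ((F ⊔ M : Subgroup G) : Set G) := by rw [htop]; trivial
    rw [Subgroup.normal_mul] at hh
    obtain ⟨f, hf, m, hm, e⟩ := hh
    obtain ⟨f', hf', rfl⟩ := hf
    have hm' : (f'⁻¹ * h : H) ∈ M.subgroupOf H := by
      rw [Subgroup.mem_subgroupOf]
      simpa [← e] using hm
    have := Subgroup.mul_mem_sup hf' hm'
    rwa [mul_inv_cancel_left, sup_comm] at this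
  exact hle (fun x hx => (Subgroup.subgroupOf_eq_top.mp (frattini_nongenerating hsup))
    (Subgroup.map_subtype_le _ hx))

end Cfsg.Agent.S0575
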