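import Cfsg.Statements.S0576
-- import your own Cfsg.Agent.* helpers here

set_option autoImplicit false
open Cfsg

namespace Cfsg.Agent.S0576

/-- Let H be a normal subgroup of a finite group G with H contained in the Frattini subgroup of G. Then the group of inner automorphisms of H is contained in the Frattini subgroup of the automorphism group of H. -/
theorem result {G : Type*} [Group G] [Finite G] (H : Subgroup G) [H.Normal] (hH : H ≤ frattini G) : (MulAut.conj : ↥H →* MulAut ↥H).range ≤ frattini (MulAut ↥H) := by
  rw [frattini, Order.radical]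
  refine le_iInf₂ fun U hU => ?_
  by_contra hle
  let f : G →* MulAut H := MulAut.conjNormal
  have hf : ∀ h : H, f h = MulAut.conj h := fun h => by
    ext x; simp [f]
  have hRn : ((MulAut.conj : ↥H →* MulAut ↥H).range).Normal := by
    constructor
    rintro _ ⟨h, rfl⟩ g
    exact ⟨g h, by ext x; simp⟩
  have htop : (MulAut.conj : ↥H →* MulAut ↥H).range ⊔ U = ⊤ :=
    hU.2 _ (lt_of_le_of_ne le_sup_right fun e => hle (e ▸ le_sup_left))
  have hsup : U.comap f ⊔ frattini G = ⊤ := by
    rw [eq_top_iff]
    intro g _
    have hh : f g ∈ (((MulAut.conj : ↥H →* MulAut ↥H).range ⊔ U : Subgroup (MulAut H)) : Set (MulAut H)) := by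
      rw [htop]; trivial
    rw [Subgroup.normal_mul] at hh
    obtain ⟨_, ⟨h, rfl⟩, u, hu, e⟩ := hh
    have hu' : (h : G)⁻¹ * g ∈ U.comap f := by
      rw [Subgroup.mem_comap, map_mul, map_inv, hf h, ← e, inv_mul_cancel_left]
      exact hu
    have := Subgroup.mul_mem_sup (hH h.2) hu'
    rwa [mul_inv_cancel_left, sup_comm] at this
  have := frattini_nongenerating hsup
  refine hle ?_
  rintro _ ⟨h, rfl⟩
  have hh : (h : G) ∈ U.comap f := by rw [this]; trivial
  rwa [Subgroup.mem_comap, hf] at hh

end Cfsg.Agent.S0576
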