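import Cfsg.Statements.S0577
import Cfsg.Agent.Lib.Solvable.Schmidt
import Cfsg.Agent.Lib.Coprime.Commutator
import Cfsg.Agent.Lib.PGroup.Frattini

set_option autoImplicit false
open Cfsg

namespace Cfsg.Agent.S0577

open Subgroup
open scoped commutatorElement

/-- Let G be a finite minimal non-nilpotent group and Q a normal Sylow q-subgroup of G, and let D be the commutator subgroup of Q regarded in G (a normal subgroup). Then G modulo D is non-abelian and all its proper subgroups are abelian. -/
theorem result {G : Type*} [Group G] [Finite G] (hG : Cfsg.IsMinimalNonNilpotent G) (q : ℕ) [Fact q.Prime] (hq : q ∣ Nat.card G) (Q : Sylow q G) (hQ : (Q : Subgroup G).Normal) (D : Subgroup G) [D.Normal] (hD : D = (commutator ↥(Q : Subgroup G)).map (Q : Subgroup G).subtype) : ¬ IsMulCommutative (G ⧸ D) ∧ ∀ K : Subgroup (G ⧸ D), K ≠ ⊤ → IsMulCommutative K := by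
  obtain ⟨p, q', hp, hq', hpq, P, Q₀, g, hP, hQ₀, htop, hgC, hsub⟩ := Solvable.schmidt hG
  have := Fact.mk hp
  have := Fact.mk hq'
  have hgP : g ∈ (P : Subgroup G) := hP ▸ mem_zpowers g
  have hqp : q ≠ p := by
    rintro rfl
    have := P.unique_of_normal
    have hPn : (P : Subgroup G).Normal := by
      have hu := Q.unique_of_normal hQ
      rw [Subsingleton.elim P Q]; exact hQ
    exact hgC (mem_centralizer_iff.mpr fun x hx => commute_of_normal_of_disjoint _ _ hQ₀ hPn
      (IsPGroup.disjoint_of_ne q' q hpq.symm _ _ Q₀.2 P.2) x g hx hgP)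
  have hqq : q = q' := by
    by_contra hne
    have hq1 : Fact q.Prime := inferInstance
    obtain ⟨i, hi⟩ := IsPGroup.iff_card.mp P.2
    obtain ⟨j, hj⟩ := IsPGroup.iff_card.mp Q₀.2
    have hc : Nat.card G ∣ Nat.card (Q₀ : Subgroup G) * Nat.card (P : Subgroup G) := by
      rw [← (Q₀ : Subgroup G).card_mul_index]
      refine mul_dvd_mul_left _ ?_
      rw [← relIndex_top_right (Q₀ : Subgroup G), ← htop, relIndex_sup_right]
      exact Subgroup.card_quotient_dvd_card _
    rw [hi, hj] at hc
    rcases hq1.out.dvd_mul.mp (hq.trans hc) with h | h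
    · exact hne ((Nat.prime_dvd_prime_iff_eq hq1.out hq').mp (hq1.out.dvd_of_dvd_pow h))
    · exact hqp ((Nat.prime_dvd_prime_iff_eq hq1.out hp).mp (hq1.out.dvd_of_dvd_pow h))
  subst hqq
  have hu := Q₀.unique_of_normal hQ₀
  obtain rfl : Q = Q₀ := Subsingleton.elim _ _
  have hDQ : D ≤ (Q : Subgroup G) := hD ▸ map_subtype_le _
  constructor
  · intro hab
    refine hgC (zpowers_le.mp (Coprime.le_centralizer_of_frattini (A := zpowers g)
      (K := (Q : Subgroup G)) (by rw [normalizer_eq_top]; exact le_top) ?_ ?_))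
    · rw [← hP]
      exact ((IsPGroup.coprime_card_of_ne p q hqp.symm _ _ P.2 Q.2)).coprime_dvd_right
        (card_subgroup_dvd_card _)
    · intro a _ k _
      have h1 : (QuotientGroup.mk' D) (a * k * a⁻¹ * k⁻¹) = 1 := by
        rw [← commutatorElement_def, map_commutatorElement, commutatorElement_eq_one_iff_mul_comm]
        exact mul_comm' _ _
      have h2 : a * k * a⁻¹ * k⁻¹ ∈ D := (QuotientGroup.eq_one_iff _).mp h1
      rw [hD] at h2
      exact map_mono (PGroup.commutator_le_frattini Q.2) h2
  · intro K hK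
    set H := K.comap (QuotientGroup.mk' D) with hH
    have hHne : H ≠ ⊤ := fun e => hK (by
      rw [← map_comap_eq_self_of_surjective (QuotientGroup.mk'_surjective D) K, ← hH, e,
        map_top_of_surjective _ (QuotientGroup.mk'_surjective D)])
    have hHn := hG.2 H hHne
    let f : H →* K := (QuotientGroup.mk' D).subgroupComap K
    have hf : Function.Surjective f :=
      MonoidHom.subgroupComap_surjective_of_surjective _ K (QuotientGroup.mk'_surjective D)
    have hKn : Group.IsNilpotent K := Group.nilpotent_of_surjective f hf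
    refine Solvable.isMulCommutative_of_nilpotent_of_sylow fun r hr R => ?_
    obtain ⟨S, hS⟩ := Sylow.mapSurjective_surjective hf r R
    refine ⟨⟨fun a b => Subtype.ext ?_⟩⟩
    obtain ⟨x, hx, hxa⟩ : (a : K) ∈ (S : Subgroup H).map f := by
      rw [← Sylow.coe_mapSurjective hf, hS]; exact a.2
    obtain ⟨y, hy, hyb⟩ : (b : K) ∈ (S : Subgroup H).map f := by
      rw [← Sylow.coe_mapSurjective hf, hS]; exact b.2
    rw [Subgroup.coe_mul, Subgroup.coe_mul, ← hxa, ← hyb, ← map_mul, ← map_mul]
    obtain ⟨R', hR'⟩ := (S.2.map H.subtype).exists_le_sylow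
    have hxR : (x : G) ∈ (R' : Subgroup G) := hR' (mem_map_of_mem _ hx)
    have hyR : (y : G) ∈ (R' : Subgroup G) := hR' (mem_map_of_mem _ hy)
    by_cases hrq : r = q
    · subst hrq
      have hu2 := Q.unique_of_normal hQ
      rw [Subsingleton.elim R' Q] at hxR hyR
      refine Subtype.ext ?_
      show QuotientGroup.mk' D ((x * y : H) : G) = QuotientGroup.mk' D ((y * x : H) : G)
      rw [Subgroup.coe_mul, Subgroup.coe_mul, map_mul, map_mul, ← commutatorElement_eq_one_iff_mul_comm,
        ← map_commutatorElement]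
      refine (QuotientGroup.eq_one_iff _).mpr ?_
      rw [hD]
      exact ⟨⁅⟨(x : G), hxR⟩, ⟨(y : G), hyR⟩⁆, commutator_mem_commutator (mem_top _) (mem_top _), rfl⟩
    · congr 1
      by_cases hrp : r = p
      · subst hrp
        obtain ⟨c, hc⟩ := MulAction.exists_smul_eq G R' P
        have hcyc : IsCyclic ↥(P : Subgroup G) := by rw [hP]; infer_instance
        have hcyc' : IsCyclic ↥(R' : Subgroup G) := isCyclic_of_surjective
          (R'.equiv P).symm.toMonoidHom (R'.equiv P).symm.surjective
        have := hcyc'.isMulCommutative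
        exact Subtype.ext (setLike_mul_comm hxR hyR)
      · have hbot : (R' : Subgroup G) = ⊥ := by
          obtain ⟨k, hk⟩ := IsPGroup.iff_card.mp R'.2
          rw [← card_eq_one]
          have hc : Nat.card G ∣ Nat.card (Q : Subgroup G) * Nat.card (P : Subgroup G) := by
            rw [← (Q : Subgroup G).card_mul_index]
            refine mul_dvd_mul_left _ ?_
            rw [← relIndex_top_right (Q : Subgroup G), ← htop, relIndex_sup_right]
            exact Subgroup.card_quotient_dvd_card _
          refine Nat.eq_one_of_dvd_coprimes ?_ dvd_rfl ((card_subgroup_dvd_card _).trans hc)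
          exact Nat.Coprime.mul_right (IsPGroup.coprime_card_of_ne r q hrq _ _ R'.2 Q.2)
            (IsPGroup.coprime_card_of_ne r p hrp _ _ R'.2 P.2)
        rw [hbot, mem_bot] at hxR hyR
        exact Subtype.ext (by rw [Subgroup.coe_mul, Subgroup.coe_mul, hxR, hyR])

end Cfsg.Agent.S0577
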