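import Cfsg.Statements.S0578
import Cfsg.Agent.Lib.PGroup.SCN
import Mathlib.GroupTheory.Transfer

set_option autoImplicit false
open Cfsg

namespace Cfsg.Agent.S0578

open Subgroup

/-- If in a finite group the normalizer of each abelian subgroup coincides with its centralizer, then the group is abelian. -/
theorem result {G : Type*} [Group G] [Finite G] (h : ∀ A : Subgroup G, IsMulCommutative A → Subgroup.normalizer (A : Set G) = Subgroup.centralizer (A : Set G)) : IsMulCommutative G := by
  have hab : ∀ (p : ℕ) [Fact p.Prime] (P : Sylow p G), IsMulCommutative (P : Subgroup G) := by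
    intro p _ P
    obtain ⟨A, hAn, hAc, hAm⟩ := PGroup.exists_maximal_abelian_normal (G := (P : Subgroup G))
    have hCA := PGroup.centralizer_eq_of_maximal_abelian_normal (p := p) P.2 hAc hAm
    have hB : IsMulCommutative (A.map (P : Subgroup G).subtype) := inferInstance
    have hle : (P : Subgroup G) ≤ normalizer ((A.map (P : Subgroup G).subtype : Subgroup G) : Set G) :=
      (normal_subgroupOf_iff_le_normalizer (map_subtype_le A)).mp
        (by rw [subgroupOf, comap_map_eq_self_of_injective (P : Subgroup G).subtype_injective]; exact hAn)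
    rw [h _ hB] at hle
    have htop : A = ⊤ := by
      rw [← hCA, eq_top_iff]
      intro x _
      rw [mem_centralizer_iff]
      intro a ha
      exact Subtype.ext (mem_centralizer_iff.mp (hle x.2) a (mem_map_of_mem _ ha))
    subst htop
    exact ⟨⟨fun a b => congrArg Subtype.val (mul_comm' (⟨a, trivial⟩ : (⊤ : Subgroup (P : Subgroup G))) ⟨b, trivial⟩)⟩⟩
  suffices hbot : commutator G = ⊥ by
    refine ⟨⟨fun a b => ?_⟩⟩
    have := commutator_mem_commutator (mem_top a) (mem_top b)
    rw [← _root_.commutator_def, hbot, mem_bot] at this
    exact commutatorElement_eq_one_iff_mul_comm.mp this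
  by_contra hne
  obtain ⟨p, hp, hpd⟩ := Nat.exists_prime_and_dvd (fun e => hne (Subgroup.card_eq_one.mp e))
  have := Fact.mk hp
  obtain ⟨P⟩ := (inferInstance : Nonempty (Sylow p G))
  have hN : normalizer ((P : Subgroup G) : Set G) ≤ centralizer ((P : Subgroup G) : Set G) :=
    (h _ (hab p P)).le
  have hc := MonoidHom.ker_transferSylow_isComplement' P hN
  have hle : commutator G ≤ (MonoidHom.transferSylow P hN).ker := by
    rw [_root_.commutator_def, commutator_le]
    intro a _ b _
    rw [MonoidHom.mem_ker, map_commutatorElement, commutatorElement_eq_one_iff_mul_comm]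
    exact (hab p P).is_comm.comm _ _
  exact P.not_dvd_index (by
    have e := hc.index_eq_card
    rw [e]
    exact hpd.trans (card_dvd_of_le hle))

end Cfsg.Agent.S0578
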