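import Cfsg.Statements.S0582
import Cfsg.Agent.Lib.Supersolvable.Converse
import Cfsg.Agent.Lib.LocalStructure.Basic
-- import your own Cfsg.Agent.* helpers here

set_option autoImplicit false
open Pointwise
open Cfsg

namespace Cfsg.Agent.S0582

open Subgroup

universe u

theorem sylow_card {G : Type u} [Group G] [Finite G] {p : ℕ} [Fact p.Prime] {H : Subgroup G}
    (h : ¬ p ∣ H.index) (P : Sylow p H) :
    Nat.card ((P : Subgroup H).map H.subtype) = p ^ (Nat.card G).factorization p := by
  rw [card_map_of_injective H.subtype_injective, P.card_eq_multiplicity, ← H.card_mul_index,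
    Nat.factorization_mul Nat.card_pos.ne' index_ne_zero_of_finite]
  simp [Nat.factorization_eq_zero_of_not_dvd h]

theorem normal_sylow {G : Type u} [Group G] [Finite G] (hG : Cfsg.IsSupersolvable G) {p : ℕ}
    [Fact p.Prime] (hmax : ∀ q : ℕ, q.Prime → q ∣ Nat.card G → q ≤ p) (P : Sylow p G) :
    (P : Subgroup G).Normal :=
  Cfsg.Agent.Supersolvable.sylow_normal_of_largest G
    (fun L => Cfsg.Agent.Supersolvable.hasSubgroupOfEveryOrder L
      (Cfsg.Agent.Supersolvable.subgroup hG L)) p hmax P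

theorem le_normalizer_map {G : Type u} [Group G] {H : Subgroup G} {P : Subgroup H} (hP : P.Normal) :
    H ≤ normalizer ((P.map H.subtype : Subgroup G) : Set G) := by
  intro a ha
  rw [mem_normalizer_iff]
  intro b
  refine ⟨?_, ?_⟩
  · rintro ⟨c, hc, rfl⟩
    exact ⟨⟨a, ha⟩ * c * ⟨a, ha⟩⁻¹, hP.conj_mem c hc ⟨a, ha⟩, rfl⟩
  · rintro ⟨c, hc, hcb⟩
    refine ⟨⟨a, ha⟩⁻¹ * c * ⟨a, ha⟩, ?_, ?_⟩
    · have h := hP.conj_mem c hc ⟨a, ha⟩⁻¹
      rwa [inv_inv] at h
    · have hcb' : (c : G) = a * b * a⁻¹ := hcb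
      show a⁻¹ * (c : G) * a = b
      rw [hcb']
      group

theorem hall_conj : ∀ (k : ℕ) (G : Type u) [Group G] [Finite G] (H K : Subgroup G),
    Nat.card H = k → Cfsg.IsSupersolvable H → Cfsg.IsSupersolvable K →
    Nat.card H = Nat.card K → (Nat.card H).Coprime H.index →
    ∃ x : G, H.map (MulAut.conj x).toMonoidHom = K := by
  intro k
  induction k using Nat.strong_induction_on with
  | _ k IH =>
  intro G _ _ H K hk hH hK hcard hcop
  subst hk
  by_cases h1 : Nat.card H = 1
  · refine ⟨1, ?_⟩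
    rw [(card_eq_one (H := H)).1 h1, (card_eq_one (H := K)).1 (hcard.symm.trans h1), Subgroup.map_bot]
  obtain ⟨p, hpmem, hmax⟩ := Finset.exists_max_image (Nat.card H).primeFactors id
    (Nat.nonempty_primeFactors.2 (lt_of_le_of_ne Nat.card_pos (Ne.symm h1)))
  have hp : p.Prime := Nat.prime_of_mem_primeFactors hpmem
  have hpd := Nat.dvd_of_mem_primeFactors hpmem
  haveI := Fact.mk hp
  have hmax' : ∀ q : ℕ, q.Prime → q ∣ Nat.card H → q ≤ p := fun q hq hqd =>
    hmax q (Nat.mem_primeFactors.2 ⟨hq, hqd, Nat.card_pos.ne'⟩)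
  have hKidx : K.index = H.index := Nat.eq_of_mul_eq_mul_left (Nat.card_pos (α := K))
    (by rw [card_mul_index, ← hcard, card_mul_index])
  have hpH : ¬ p ∣ H.index := fun h => hp.not_dvd_one (hcop ▸ Nat.dvd_gcd hpd h)
  obtain ⟨PH⟩ := (inferInstance : Nonempty (Sylow p H))
  obtain ⟨PK⟩ := (inferInstance : Nonempty (Sylow p K))
  have hPH := normal_sylow hH hmax' PH
  have hPK := normal_sylow hK (hcard ▸ hmax') PK
  set SH : Sylow p G := Sylow.ofCard _ (sylow_card hpH PH) with hSH
  set SK : Sylow p G := Sylow.ofCard _ (sylow_card (hKidx ▸ hpH) PK) with hSK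
  have eH : (SH : Subgroup G) = (PH : Subgroup H).map H.subtype := Sylow.coe_ofCard _ _
  have eK : (SK : Subgroup G) = (PK : Subgroup K).map K.subtype := Sylow.coe_ofCard _ _
  obtain ⟨x, hx⟩ := MulAction.exists_smul_eq G SH SK
  set H₁ := H.map (MulAut.conj x).toMonoidHom with hH₁
  have hx' : (SH : Subgroup G).map (MulAut.conj x).toMonoidHom = (SK : Subgroup G) := by
    rw [← hx]; rfl
  set N := normalizer ((SK : Subgroup G) : Set G) with hN
  have hH₁N : H₁ ≤ N := by
    rw [hN, ← hx', ← Subgroup.map_normalizer_eq_of_bijective _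
      (f := (MulAut.conj x).toMonoidHom) (MulAut.conj x).bijective, eH]
    exact map_mono (le_normalizer_map hPH)
  have hKN : K ≤ N := by rw [hN, eK]; exact le_normalizer_map hPK
  have hSH₁ : (SK : Subgroup G) ≤ H₁ := hx' ▸ map_mono (eH ▸ map_subtype_le _)
  have hSK' : (SK : Subgroup G) ≤ K := eK ▸ map_subtype_le _
  haveI hSn : ((SK : Subgroup G).subgroupOf N).Normal := by rw [hN]; exact normal_in_normalizer
  set f := QuotientGroup.mk' ((SK : Subgroup G).subgroupOf N) with hf
  have hfs : Function.Surjective f := QuotientGroup.mk'_surjective _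
  have hkH : f.ker ≤ H₁.subgroupOf N := by
    rw [hf, QuotientGroup.ker_mk']; exact fun a ha => hSH₁ ha
  have hkK : f.ker ≤ K.subgroupOf N := by
    rw [hf, QuotientGroup.ker_mk']; exact fun a ha => hSK' ha
  have hcards : ∀ L : Subgroup N, f.ker ≤ L →
      Nat.card L = Nat.card (L.map f) * Nat.card (SK : Subgroup G) := by
    intro L hL
    have h1 := card_mul_index L
    rw [← L.index_map_eq hfs hL, card_eq_card_quotient_mul_card_subgroup
      ((SK : Subgroup G).subgroupOf N), Nat.card_congr (subgroupOfEquivOfLe le_normalizer).toEquiv,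
      ← card_mul_index (L.map f)] at h1
    refine Nat.eq_of_mul_eq_mul_right (Nat.pos_of_ne_zero (index_ne_zero_of_finite (H := L.map f))) ?_
    rw [h1]; ring
  have cH : Nat.card (H₁.subgroupOf N) = Nat.card H := by
    rw [Nat.card_congr (subgroupOfEquivOfLe hH₁N).toEquiv, hH₁]
    exact card_map_of_injective (MulAut.conj x).injective
  have cK : Nat.card (K.subgroupOf N) = Nat.card K :=
    Nat.card_congr (subgroupOfEquivOfLe hKN).toEquiv
  have hcH := hcards _ hkH
  have hcK := hcards _ hkK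
  rw [cH] at hcH
  rw [cK] at hcK
  have hSgt : 1 < Nat.card (SK : Subgroup G) := by
    refine (one_lt_card_iff_ne_bot _).2 (SK.ne_bot_of_dvd_card ?_)
    exact hpd.trans H.card_subgroup_dvd_card
  have hlt : Nat.card ((H₁.subgroupOf N).map f) < Nat.card H := by
    rw [hcH]
    exact lt_mul_of_one_lt_right Nat.card_pos hSgt
  have hceq : Nat.card ((H₁.subgroupOf N).map f) = Nat.card ((K.subgroupOf N).map f) :=
    Nat.eq_of_mul_eq_mul_right (by omega) (hcH.symm.trans (hcard.trans hcK))
  have hH₁s : Cfsg.IsSupersolvable (H₁.subgroupOf N) :=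
    Cfsg.Agent.Supersolvable.of_mulEquiv hH
      ((H.equivMapOfInjective _ (MulAut.conj x).injective).trans (subgroupOfEquivOfLe hH₁N).symm)
  have hKs : Cfsg.IsSupersolvable (K.subgroupOf N) :=
    Cfsg.Agent.Supersolvable.of_mulEquiv hK (subgroupOfEquivOfLe hKN).symm
  obtain ⟨y, hy⟩ := IH _ hlt (N ⧸ (SK : Subgroup G).subgroupOf N) ((H₁.subgroupOf N).map f)
    ((K.subgroupOf N).map f) rfl
    (Cfsg.Agent.Supersolvable.of_surjective hH₁s (f.subgroupMap _) (f.subgroupMap_surjective _))
    (Cfsg.Agent.Supersolvable.of_surjective hKs (f.subgroupMap _) (f.subgroupMap_surjective _))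
    hceq (by
      refine Nat.Coprime.coprime_dvd_left ⟨_, hcH⟩ (Nat.Coprime.coprime_dvd_right ?_ hcop)
      rw [(H₁.subgroupOf N).index_map_eq hfs hkH]
      exact (relIndex_dvd_index_of_le hH₁N).trans (index_map_equiv H (MulAut.conj x)).dvd)
  obtain ⟨y, rfl⟩ := hfs y
  have hlift : (H₁.subgroupOf N).map (MulAut.conj y).toMonoidHom = K.subgroupOf N := by
    have hker : f.ker ≤ (H₁.subgroupOf N).map (MulAut.conj y).toMonoidHom := fun a ha =>
      ⟨y⁻¹ * a * y, hkH (by
        have h := f.normal_ker.conj_mem a ha y⁻¹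
        rwa [inv_inv] at h), by simp [mul_assoc]⟩
    have hcomp : f.comp (MulAut.conj y).toMonoidHom =
        (MulAut.conj (f y)).toMonoidHom.comp f := MonoidHom.ext fun a => by
      show f (y * a * y⁻¹) = f y * f a * (f y)⁻¹
      rw [map_mul, map_mul, map_inv]
    rw [← comap_map_eq_self hker, ← comap_map_eq_self hkK, map_map, hcomp, ← map_map, hy]
  refine ⟨(y : G) * x, ?_⟩
  have h2 : ((H₁.subgroupOf N).map (MulAut.conj y).toMonoidHom).map N.subtype =
      (K.subgroupOf N).map N.subtype := by rw [hlift]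
  rw [map_map, map_subgroupOf_eq_of_le hKN] at h2
  rw [← h2, Cfsg.Agent.LocalStructure.map_conj_mul, ← hH₁]
  conv_lhs => rw [← map_subgroupOf_eq_of_le hH₁N, map_map]
  rfl


/-- Let H and K be supersolvable subgroups of a finite group G of the same order, that order being coprime to their index. Then H and K are conjugate in G. -/
theorem result {G : Type*} [Group G] [Finite G] (H K : Subgroup G) (hH : Cfsg.IsSupersolvable H) (hK : Cfsg.IsSupersolvable K) (hcard : Nat.card H = Nat.card K) (hHall : (Nat.card H).Coprime H.index) : ∃ x : G, MulAut.conj x • H = K := by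
  obtain ⟨x, hx⟩ := hall_conj _ G H K rfl hH hK hcard hHall
  exact ⟨x, hx⟩

end Cfsg.Agent.S0582
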