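import Cfsg.Statements.S0583
import Cfsg.Agent.Lib.Components.Fitting
-- import your own Cfsg.Agent.* helpers here

set_option autoImplicit false
open Cfsg

namespace Cfsg.Agent.S0583

open Cfsg.Agent.Components Subgroup
open scoped commutatorElement

/-- In a finite group the Fitting subgroup is contained in the centralizer of each minimal normal subgroup. -/
theorem result {G : Type*} [Group G] [Finite G] (M : Subgroup G) [M.Normal] (hM : M ≠ ⊥) (hmin : ∀ K : Subgroup G, K.Normal → K ≤ M → K = ⊥ ∨ K = M) : Cfsg.fittingSubgroup G ≤ Subgroup.centralizer (M : Set G) := by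
  have hmin' := hmin (⁅M, Cfsg.fittingSubgroup G⁆) inferInstance (commutator_le_left _ _)
  rw [← commutator_eq_bot_iff_le_centralizer, commutator_comm]
  refine hmin'.resolve_right fun h => hM ?_
  have hMF : M ≤ Cfsg.fittingSubgroup G := h.ge.trans (commutator_le_right _ _)
  obtain ⟨c, hc⟩ := (Subgroup.nilpotent_iff_lowerCentralSeries (G := Cfsg.fittingSubgroup G)).mp inferInstance
  have key : ∀ i, M ≤ (Cfsg.fittingSubgroup G).lowerCentralSeries i := by
    intro i
    induction i with
    | zero => simpa using hMF
    | succ i ih =>
      rw [Subgroup.lowerCentralSeries_succ]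
      exact h.ge.trans (commutator_mono ih le_rfl)
  have := key c
  rw [← Subgroup.top_subtype_lowerCentralSeries, hc, Subgroup.map_bot] at this
  exact le_bot_iff.mp this

end Cfsg.Agent.S0583
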