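import Cfsg.Statements.S0584
import Cfsg.Agent.Lib.Solvable.Basic
-- import your own Cfsg.Agent.* helpers here

set_option autoImplicit false
open Cfsg

namespace Cfsg.Agent.S0584

/-- Let B ≤ A be normal subgroups of a finite group G with B contained in the Frattini subgroup of G. If A modulo B is nilpotent then A is nilpotent. -/
theorem result {G : Type*} [Group G] [Finite G] (A B : Subgroup G) [A.Normal] [B.Normal] (hBA : B ≤ A) (hB : B ≤ frattini G) (h : Group.IsNilpotent (↥A ⧸ B.subgroupOf A)) : Group.IsNilpotent A := by
  have hX : Group.IsNilpotent ↥(A ⊔ frattini G) := by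
    refine Cfsg.Agent.Solvable.isNilpotent_of_frattini _ le_sup_right ?_
    set f := QuotientGroup.mk' (frattini G) with hf
    have he : (A ⊔ frattini G).map f = A.map f := by
      rw [Subgroup.map_sup, sup_eq_left, hf, QuotientGroup.map_mk'_self]
      exact bot_le
    rw [he]
    have hker : B.subgroupOf A ≤ (f.subgroupMap A).ker := fun x hx => by
      rw [MonoidHom.mem_ker]
      apply Subtype.ext
      exact (QuotientGroup.eq_one_iff (x : G)).2 (hB (Subgroup.mem_subgroupOf.mp hx))
    exact Group.nilpotent_of_surjective (QuotientGroup.lift _ (f.subgroupMap A) hker) fun y => by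
      obtain ⟨x, rfl⟩ := f.subgroupMap_surjective A y
      exact ⟨(x : ↥A ⧸ B.subgroupOf A), rfl⟩
  exact Group.nilpotent_of_mulEquiv (Subgroup.subgroupOfEquivOfLe (le_sup_left : A ≤ A ⊔ frattini G))

end Cfsg.Agent.S0584
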