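import Cfsg.Statements.S0585
import Mathlib
-- import your own Cfsg.Agent.* helpers here

set_option autoImplicit false
open Cfsg

namespace Cfsg.Agent.S0585

/-- If the Frattini subgroup of a finite group G is trivial, then every abelian normal subgroup of G has a complement in G. -/
theorem result {G : Type*} [Group G] [Finite G] (hΦ : frattini G = ⊥) (A : Subgroup G) [A.Normal] [IsMulCommutative A] : ∃ H : Subgroup G, Subgroup.IsComplement' A H := by
  obtain ⟨H, hH⟩ := Set.Finite.exists_minimal (s := {H : Subgroup G | A ⊔ H = ⊤}) (Set.toFinite _)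
    ⟨⊤, sup_top_eq A⟩
  refine ⟨H, ?_⟩
  have hmul : ∀ x : G, ∃ a ∈ A, ∃ h ∈ H, a * h = x := fun x =>
    Subgroup.mem_sup_of_normal_left.mp (hH.1 ▸ Subgroup.mem_top x)
  have hn : (A ⊓ H).Normal := by
    refine ⟨fun y hy g => ?_⟩
    obtain ⟨a, ha, h, hh, rfl⟩ := hmul g
    have hy' : h * y * h⁻¹ ∈ A ⊓ H :=
      Subgroup.mem_inf.mpr ⟨Subgroup.Normal.conj_mem inferInstance y (Subgroup.mem_inf.mp hy).1 h,
        mul_mem (mul_mem hh (Subgroup.mem_inf.mp hy).2) (inv_mem hh)⟩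
    have hc : a * (h * y * h⁻¹) = h * y * h⁻¹ * a :=
      congrArg Subtype.val (mul_comm' (⟨a, ha⟩ : A) ⟨_, hy'.1⟩)
    have he : a * h * y * (a * h)⁻¹ = h * y * h⁻¹ :=
      calc a * h * y * (a * h)⁻¹ = a * (h * y * h⁻¹) * a⁻¹ := by group
        _ = h * y * h⁻¹ := by rw [hc, mul_inv_cancel_right]
    rw [he]
    exact hy'
  have hb : A ⊓ H = ⊥ := by
    refine le_bot_iff.mp (hΦ ▸ le_iInf₂ fun M hM => ?_)
    by_contra hle
    have hsup : (A ⊓ H) ⊔ M = ⊤ := hM.2 _ (by simpa [right_lt_sup] using hle)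
    have hH' : A ⊔ (H ⊓ M) = ⊤ := by
      refine top_le_iff.mp fun x _ => ?_
      obtain ⟨a, ha, h, hh, rfl⟩ := hmul x
      refine mul_mem (Subgroup.mem_sup_left ha) ?_
      obtain ⟨c, hc, m, hm, rfl⟩ :=
        Subgroup.mem_sup_of_normal_left.mp (hsup ▸ Subgroup.mem_top h : h ∈ (A ⊓ H) ⊔ M)
      refine mul_mem (Subgroup.mem_sup_left hc.1) (Subgroup.mem_sup_right (Subgroup.mem_inf.mpr ⟨?_, hm⟩))
      simpa using mul_mem (inv_mem (Subgroup.mem_inf.mp hc).2) hh
    exact hle (inf_le_right.trans ((hH.2 hH' inf_le_left).trans inf_le_right))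
  refine Subgroup.isComplement'_of_disjoint_and_mul_eq_univ (disjoint_iff.mpr hb) ?_
  rw [← Subgroup.normal_mul, hH.1, Subgroup.coe_top]

end Cfsg.Agent.S0585
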