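import Cfsg.Statements.S0586
import Cfsg.Agent.Lib.Components.Fitting
import Cfsg.Agent.Lib.Solvable.Basic
import Cfsg.Agent.S0575
-- import your own Cfsg.Agent.* helpers here

set_option autoImplicit false
open Cfsg

namespace Cfsg.Agent.S0586

open Cfsg.Agent.Components Subgroup
open scoped commutatorElement

theorem commutator_le_frattini_of_isNilpotent {G : Type*} [Group G] [Group.IsNilpotent G] :
    _root_.commutator G ≤ frattini G := by
  simp only [frattini, Order.radical, le_iInf_iff]
  intro M hM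
  have : M.Normal := NormalizerCondition.normal_of_coatom M normalizerCondition_of_isNilpotent hM
  obtain ⟨x, -, hx⟩ := SetLike.exists_of_lt hM.lt_top
  have htop : M ⊔ zpowers x = ⊤ :=
    hM.2 _ (left_lt_sup.mpr fun h => hx (h (mem_zpowers x)))
  have hgen : ∀ y : G ⧸ M, y ∈ zpowers (QuotientGroup.mk' M x) := by
    intro y
    have h1 : ((M ⊔ zpowers x).map (QuotientGroup.mk' M)) = ⊤ := by
      rw [htop, map_top_of_surjective _ (QuotientGroup.mk'_surjective M)]
    rw [Subgroup.map_sup, QuotientGroup.map_mk'_self, bot_sup_eq, MonoidHom.map_zpowers] at h1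
    rw [h1]; exact mem_top y
  rw [_root_.commutator_def, commutator_le]
  intro a _ b _
  rw [← QuotientGroup.eq_one_iff, ← QuotientGroup.mk'_apply, map_commutatorElement,
    commutatorElement_eq_one_iff_mul_comm]
  obtain ⟨i, hi⟩ := mem_zpowers_iff.mp (hgen (QuotientGroup.mk' M a))
  obtain ⟨j, hj⟩ := mem_zpowers_iff.mp (hgen (QuotientGroup.mk' M b))
  rw [← hi, ← hj]
  exact (Commute.refl _).zpow_zpow i j

/-- If the Frattini subgroup of a finite group G is trivial, then the Fitting subgroup of G equals the join of all abelian minimal normal subgroups of G. -/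
theorem result {G : Type*} [Group G] [Finite G] (hΦ : frattini G = ⊥) : Cfsg.fittingSubgroup G = sSup {N : Subgroup G | N.Normal ∧ N ≠ ⊥ ∧ IsMulCommutative N ∧ ∀ K : Subgroup G, K.Normal → K ≤ N → K = ⊥ ∨ K = N} := by
  set F := Cfsg.fittingSubgroup G with hFdef
  have hFn : F.Normal := fittingSubgroup_normal G
  set S := sSup {N : Subgroup G | N.Normal ∧ N ≠ ⊥ ∧ IsMulCommutative N ∧
    ∀ K : Subgroup G, K.Normal → K ≤ N → K = ⊥ ∨ K = N} with hSdef
  have hFab : ⁅F, F⁆ = ⊥ := by
    rw [← map_subtype_commutator, ← le_bot_iff, ← hΦ]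
    exact (map_mono commutator_le_frattini_of_isNilpotent).trans (Cfsg.Agent.S0575.result _)
  have hSF : S ≤ F := sSup_le fun N hN => by
    have := hN.2.2.1
    have : Group.IsNilpotent N := by
      let _ : CommGroup N := IsMulCommutative.instCommGroup
      exact CommGroup.isNilpotent
    exact le_fittingSubgroup hN.1
  have hSn : S.Normal := sSup_normal _ fun _ h => h.1
  have hFc : F ≤ centralizer (F : Set G) := commutator_eq_bot_iff_le_centralizer.mp hFab
  refine le_antisymm ?_ hSF
  obtain ⟨H, hH⟩ := Set.Finite.exists_minimal (s := {H : Subgroup G | S ⊔ H = ⊤})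
    (Set.toFinite _) ⟨⊤, sup_top_eq _⟩
  have hSH : S ⊔ H = ⊤ := hH.1
  -- a subgroup of `F` normalised by `H` is normal
  have hnorm : ∀ A : Subgroup G, A ≤ F → H ≤ normalizer (A : Set G) → A.Normal := fun A hA hn => by
    rw [← normalizer_eq_top_iff, eq_top_iff, ← hSH]
    exact sup_le ((hSF.trans (hFc.trans (centralizer_le hA))).trans (centralizer_le_normalizer _))
      hn
  have hDn : (S ⊓ H).Normal := hnorm _ (inf_le_left.trans hSF) fun h hh =>
    inf_normalizer_le_normalizer_inf
      ⟨(normalizer_eq_top S).symm ▸ mem_top h, le_normalizer hh⟩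
  have hD : S ⊓ H = ⊥ := by
    rw [← le_bot_iff, ← hΦ]
    simp only [frattini, Order.radical, le_iInf_iff]
    intro M hM
    by_contra hnot
    have htop : (S ⊓ H) ⊔ M = ⊤ := hM.2 _ (right_lt_sup.mpr hnot)
    have hHM : H ≤ (S ⊓ H) ⊔ (H ⊓ M) := by
      intro h hh
      have : h ∈ ((S ⊓ H) ⊔ M : Subgroup G) := htop ▸ mem_top h
      rw [mem_sup_of_normal_left] at this
      obtain ⟨d, hd, m, hm, rfl⟩ := this
      exact mul_mem (mem_sup_left hd) (mem_sup_right ⟨(H.mul_mem_cancel_left hd.2).mp hh, hm⟩)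
    have hle : S ⊔ (H ⊓ M) = ⊤ := top_le_iff.mp (hSH.ge.trans
      (sup_le le_sup_left (hHM.trans (sup_le_sup_right inf_le_left _))))
    exact hnot ((inf_le_right.trans (hH.2 hle inf_le_left)).trans inf_le_right)
  have hFH : F ⊓ H = ⊥ := by
    by_contra hne
    have hn : (F ⊓ H).Normal := hnorm _ inf_le_left fun h hh =>
      inf_normalizer_le_normalizer_inf
        ⟨(normalizer_eq_top F).symm ▸ mem_top h, le_normalizer hh⟩
    obtain ⟨N, hNn, hNle, hN0, hmin⟩ := Cfsg.Agent.Solvable.exists_minimal_normal hne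
    have hNab : IsMulCommutative N := commutator_self_eq_bot_iff.mp (le_bot_iff.mp
      ((commutator_mono (hNle.trans inf_le_left) (hNle.trans inf_le_left)).trans_eq hFab))
    have hNS : N ≤ S := le_sSup ⟨hNn, hN0, hNab, hmin⟩
    exact hN0 (le_bot_iff.mp (hD ▸ le_inf hNS (hNle.trans inf_le_right)))
  intro f hf
  have : f ∈ (S ⊔ H : Subgroup G) := hSH ▸ mem_top f
  rw [mem_sup_of_normal_left] at this
  obtain ⟨s, hs, h, hh, rfl⟩ := this
  have : h ∈ F ⊓ H := ⟨(F.mul_mem_cancel_left (hSF hs)).mp hf, hh⟩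
  rw [hFH, mem_bot] at this
  simpa [this] using hs

end Cfsg.Agent.S0586
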