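import Cfsg.Statements.S0587
import Cfsg.Agent.Lib.Solvable.Basic
import Cfsg.Agent.Lib.PCore.Basic
import Cfsg.Agent.Lib.PGroup.Basic
import Cfsg.Agent.Lib.LocalStructure.Basic
-- import your own Cfsg.Agent.* helpers here

set_option autoImplicit false
open Cfsg

namespace Cfsg.Agent.S0587

/-- Let G be a finite group whose largest normal p-subgroup L is nontrivial, and M a maximal subgroup of G with trivial normal core. Then L is elementary abelian, M is a complement to L, L is a minimal normal subgroup of G, the centralizer of L is L, and for every prime q such that the largest normal q-subgroup of M is nontrivial, the order of L is congruent to 1 modulo q and q ≠ p. -/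
theorem result {G : Type*} [Group G] [Finite G] (p : ℕ) [Fact p.Prime] (hL : Cfsg.pCore p G ≠ ⊥) (M : Subgroup G) (hM : IsCoatom M) (hcore : M.normalCore = ⊥) : Cfsg.IsElementaryAbelian p (Cfsg.pCore p G) ∧ Subgroup.IsComplement' (Cfsg.pCore p G) M ∧ (∀ K : Subgroup G, K.Normal → K ≤ Cfsg.pCore p G → K = ⊥ ∨ K = Cfsg.pCore p G) ∧ Subgroup.centralizer ((Cfsg.pCore p G : Subgroup G) : Set G) = Cfsg.pCore p G ∧ ∀ (q : ℕ) [Fact q.Prime], Cfsg.pCore q ↥M ≠ ⊥ → Nat.card (Cfsg.pCore p G) % q = 1 % q ∧ q ≠ p := by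
  obtain ⟨N, hNn, hNL, hN, hmin⟩ := Cfsg.Agent.Solvable.exists_minimal_normal hL
  have hLp : IsPGroup p (Cfsg.pCore p G) := Cfsg.Agent.PCore.isPGroup_pCore
  have hNp : IsPGroup p N := hLp.to_le hNL
  have hNnil : Group.IsNilpotent N := hNp.isNilpotent
  have hNc : IsMulCommutative N :=
    Cfsg.Agent.Solvable.isMulCommutative_of_minimal inferInstance hN hmin
  have hcore0 : ∀ X : Subgroup G, X.Normal → X ≤ M → X = ⊥ := fun X hX hXM =>
    le_bot_iff.mp (hcore ▸ Subgroup.normal_le_normalCore.mpr hXM)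
  have hsup : N ⊔ M = ⊤ := hM.2 _ (by
    rw [right_lt_sup]
    exact fun h => hN (hcore0 N hNn h))
  -- a subgroup normalised by `N` and `M` is normal
  have hnorm : ∀ X : Subgroup G, N ≤ Subgroup.normalizer (X : Set G) →
      M ≤ Subgroup.normalizer (X : Set G) → X.Normal := fun X h1 h2 =>
    Subgroup.normalizer_eq_top_iff.mp (top_le_iff.mp (hsup ▸ sup_le h1 h2))
  have hMN : M ≤ Subgroup.normalizer (N : Set G) :=
    le_top.trans (Subgroup.normalizer_eq_top_iff.mpr hNn).ge
  have hdisj : N ⊓ M = ⊥ := by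
    refine hcore0 _ (hnorm _ ?_ ?_) inf_le_right
    · exact (Subgroup.le_centralizer_iff.mp
        ((inf_le_left : N ⊓ M ≤ N).trans (Subgroup.le_centralizer N))).trans
          (Subgroup.centralizer_le_normalizer _)
    · exact Cfsg.Agent.LocalStructure.le_normalizer_inf hMN M.le_normalizer
  set C := Subgroup.centralizer (N : Set G) with hC
  have hCn : C.Normal := Subgroup.normalizer_eq_top_iff.mp (top_le_iff.mp
    (Cfsg.Agent.LocalStructure.le_normalizer_centralizer (Subgroup.normalizer_eq_top_iff.mpr hNn).ge))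
  have hCM : C ⊓ M = ⊥ := by
    refine hcore0 _ (hnorm _ ?_ ?_) inf_le_right
    · exact (Subgroup.le_centralizer_iff.mp inf_le_left).trans
        (Subgroup.centralizer_le_normalizer _)
    · exact Cfsg.Agent.LocalStructure.le_normalizer_inf
        (le_top.trans (Subgroup.normalizer_eq_top_iff.mpr hCn).ge) M.le_normalizer
  have hCN : C = N := by
    refine le_antisymm (fun c hc => ?_) (Subgroup.le_centralizer N)
    obtain ⟨n, hn, m, hm, rfl⟩ :=
      Subgroup.mem_sup_of_normal_left.mp (hsup ▸ Subgroup.mem_top c : c ∈ N ⊔ M)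
    have hmC : m ∈ C ⊓ M := Subgroup.mem_inf.mpr
      ⟨by simpa using mul_mem (inv_mem (Subgroup.le_centralizer N hn)) hc, hm⟩
    rw [hCM, Subgroup.mem_bot] at hmC
    rw [hmC, mul_one]
    exact hn
  have hLN : Cfsg.pCore p G = N := by
    refine le_antisymm ?_ hNL
    rw [← hCN, hC, Subgroup.le_centralizer_iff]
    have hne : (N.subgroupOf (Cfsg.pCore p G)) ⊓ Subgroup.center (Cfsg.pCore p G) ≠ ⊥ :=
      Cfsg.Agent.PGroup.inf_center_ne_bot hLp _ (fun h => hN (by
        rwa [Subgroup.subgroupOf_eq_bot, disjoint_iff, inf_eq_left.mpr hNL] at h))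
    have hn : (N ⊓ Subgroup.centralizer ((Cfsg.pCore p G : Subgroup G) : Set G)).Normal :=
      inferInstance
    rcases hmin _ hn inf_le_left with h | h
    · exfalso
      refine hne ((Subgroup.eq_bot_iff_forall _).mpr fun x hx => Subtype.ext ?_)
      have : (x : G) ∈ N ⊓ Subgroup.centralizer ((Cfsg.pCore p G : Subgroup G) : Set G) :=
        Subgroup.mem_inf.mpr ⟨(Subgroup.mem_inf.mp hx).1, fun y hy => congrArg Subtype.val
          (Subgroup.mem_center_iff.mp (Subgroup.mem_inf.mp hx).2 ⟨y, hy⟩)⟩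
      rwa [h, Subgroup.mem_bot] at this
    · exact inf_eq_left.mp h
  rw [hLN]
  have hcomp : Subgroup.IsComplement' N M :=
    Subgroup.isComplement'_of_disjoint_and_mul_eq_univ (disjoint_iff.mpr hdisj)
      (by rw [← Subgroup.normal_mul, hsup, Subgroup.coe_top])
  refine ⟨⟨hNc, fun a ha => ?_⟩, hcomp, fun K hK hKN => hmin K hK hKN, hCN, fun q hq hQ => ?_⟩
  · obtain ⟨r, hr, hexp, hrN⟩ := Cfsg.Agent.Solvable.exists_prime_of_minimal hN hmin
    have := Fact.mk hr
    rcases eq_or_ne r p with rfl | hne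
    · exact hexp a ha
    · exact absurd (disjoint_self.mp (IsPGroup.disjoint_of_ne r p hne N N hrN hNp)) hN
  -- the fixed points of `O_q(M)` on `N`
  set Q := (Cfsg.pCore q M).map M.subtype with hQdef
  have hQq : IsPGroup q Q := Cfsg.Agent.PCore.isPGroup_pCore.map _
  have hQM : Q ≤ M := Subgroup.map_subtype_le _
  have hQn : M ≤ Subgroup.normalizer (Q : Set G) :=
    (Subgroup.normal_subgroupOf_iff_le_normalizer hQM).mp (by
      rw [hQdef, Subgroup.subgroupOf, Subgroup.comap_map_eq_self_of_injective M.subtype_injective]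
      infer_instance)
  have hQ0 : Q ≠ ⊥ := fun h => hQ ((Subgroup.map_eq_bot_iff_of_injective _
    M.subtype_injective).mp h)
  have hfix : N ⊓ Subgroup.centralizer (Q : Set G) = ⊥ := by
    refine (hmin _ (hnorm _ ?_ ?_) inf_le_left).resolve_right fun h => hQ0 (le_bot_iff.mp ?_)
    · exact (Subgroup.le_centralizer_iff.mp
        ((inf_le_left : N ⊓ _ ≤ N).trans (Subgroup.le_centralizer N))).trans
          (Subgroup.centralizer_le_normalizer _)
    · exact Cfsg.Agent.LocalStructure.le_normalizer_inf hMN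
        (Cfsg.Agent.LocalStructure.le_normalizer_centralizer hQn)
    · refine (le_inf ?_ hQM).trans hdisj.le
      exact (Subgroup.le_centralizer_iff.mp (inf_eq_left.mp h)).trans hCN.le
  letI : MulAction Q N := MulAction.compHom N ((MulAut.conjNormal : G →* MulAut N).comp Q.subtype)
  have h1 : Nat.card (MulAction.fixedPoints Q N) = 1 := by
    rw [Nat.card_eq_one_iff_unique]
    refine ⟨⟨fun x y => Subtype.ext ?_⟩, ⟨⟨1, fun x => map_one (MulAut.conjNormal (x : G))⟩⟩⟩
    have hall : ∀ z : MulAction.fixedPoints Q N, (z.1 : N) = 1 := fun z => by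
      refine Subtype.ext ?_
      have : ((z.1 : N) : G) ∈ N ⊓ Subgroup.centralizer (Q : Set G) := by
        refine Subgroup.mem_inf.mpr ⟨z.1.2, fun g hg => ?_⟩
        have h := congrArg Subtype.val (z.2 ⟨g, hg⟩)
        change ((MulAut.conjNormal g z.1 : N) : G) = _ at h
        rw [MulAut.conjNormal_apply, mul_inv_eq_iff_eq_mul] at h
        exact h
      rwa [hfix, Subgroup.mem_bot] at this
    rw [hall x, hall y]
  have hmod := hQq.card_modEq_card_fixedPoints N
  rw [h1] at hmod
  refine ⟨hmod, ?_⟩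
  rintro rfl
  obtain ⟨k, hk⟩ := IsPGroup.iff_card.mp hNp
  rcases Nat.eq_zero_or_pos k with rfl | hk0
  · exact hN (Subgroup.card_eq_one.mp (by simpa using hk))
  · rw [hk] at hmod
    have h0 : q ^ k % q = 0 := Nat.mod_eq_zero_of_dvd (dvd_pow_self q hk0.ne')
    unfold Nat.ModEq at hmod
    rw [h0] at hmod
    exact hq.out.ne_one (Nat.one_mod_eq_zero_iff.mp hmod.symm)

end Cfsg.Agent.S0587
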