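import Cfsg.Statements.S0589
import Cfsg.Agent.S0588
import Cfsg.Agent.Lib.Frobenius.Comparable
-- import your own Cfsg.Agent.* helpers here

set_option autoImplicit false
open Pointwise
open Cfsg

namespace Cfsg.Agent.S0589

/-- Let H be a Frobenius complement in a finite group G and L a subgroup of G whose order divides the order of H. Then L is contained in some conjugate of H. -/
theorem result {G : Type*} [Group G] [Finite G] (H : Subgroup G) (hH : Cfsg.IsFrobeniusComplement H) (L : Subgroup G) (hL : Nat.card L ∣ Nat.card H) : ∃ x : G, L ≤ MulAut.conj x • H := by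
  have hcop : (Nat.card H).Coprime H.index :=
    S0588.result H fun x hx hx1 g hg => Cfsg.Agent.Frobenius.mem_of_commute hH hx hx1
      (Subgroup.mem_centralizer_singleton_iff.mp hg)
  -- every Sylow subgroup of `L` lies in a conjugate of `H`
  have key : ∀ {q : ℕ} [Fact q.Prime], q ∣ Nat.card L → ∀ Q : Sylow q L,
      ∃ x : G, (Q : Subgroup L).map L.subtype ≤ MulAut.conj x • H := by
    intro q _ hq Q
    let R : Sylow q H := default
    have hR : IsPGroup q ((R : Subgroup H).map H.subtype) := R.2.map _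
    have hqi : ¬ q ∣ H.index := fun h =>
      (Fact.out : q.Prime).ne_one (Nat.eq_one_of_dvd_coprimes hcop (hq.trans hL) h)
    have hidx : ¬ q ∣ ((R : Subgroup H).map H.subtype).index := by
      rw [Subgroup.index_map_subtype]
      exact fun h => ((Fact.out : q.Prime).dvd_mul.mp h).elim R.not_dvd_index hqi
    obtain ⟨S, hS⟩ := (Q.2.map L.subtype).exists_le_sylow
    obtain ⟨g, hg⟩ := MulAction.exists_smul_eq G (hR.toSylow hidx) S
    refine ⟨g, hS.trans ?_⟩
    rw [← hg, Sylow.coe_subgroup_smul]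
    exact Subgroup.pointwise_smul_le_pointwise_smul_iff.mpr (Subgroup.map_subtype_le _)
  by_cases hbot : L = ⊥
  · exact ⟨1, hbot ▸ bot_le⟩
  by_contra hcon
  push_neg at hcon
  obtain ⟨q, hq, hqd⟩ :=
    Nat.exists_prime_and_dvd (fun h => hbot (Subgroup.card_eq_one.mp h) : Nat.card L ≠ 1)
  have := Fact.mk hq
  obtain ⟨x₀, hx₀⟩ := Set.Finite.exists_maximalFor
    (fun x : G => Nat.card ((MulAut.conj x • H).subgroupOf L)) Set.univ (Set.toFinite _)
    Set.univ_nonempty
  set A := (MulAut.conj x₀ • H).subgroupOf L with hA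
  have hcompl : ∀ {r : ℕ} [Fact r.Prime], r ∣ Nat.card L → ∀ Q : Sylow r L,
      ∃ B : Subgroup L, Cfsg.IsFrobeniusComplement B ∧ (Q : Subgroup L) ≤ B ∧
        Nat.card B ≤ Nat.card A := by
    intro r _ hr Q
    obtain ⟨x, hx⟩ := key hr Q
    have hQB : (Q : Subgroup L) ≤ (MulAut.conj x • H).subgroupOf L :=
      Subgroup.map_le_iff_le_comap.mp hx
    refine ⟨_, Cfsg.Agent.Frobenius.isFrobeniusComplement_inf
      (Cfsg.Agent.Frobenius.isFrobeniusComplement_conj hH x) ?_ (hcon x), hQB, ?_⟩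
    · intro h
      refine Q.ne_bot_of_dvd_card hr (le_bot_iff.mp (hQB.trans ?_))
      rw [Subgroup.subgroupOf_eq_bot.mpr (disjoint_iff.mpr h)]
    · by_contra hlt
      exact hlt (hx₀.2 (Set.mem_univ x) (Nat.le_of_not_le hlt))
  obtain ⟨B₀, hB₀, -, hB₀A⟩ := hcompl hqd default
  have hAc : Cfsg.IsFrobeniusComplement A :=
    Cfsg.Agent.Frobenius.isFrobeniusComplement_inf
      (Cfsg.Agent.Frobenius.isFrobeniusComplement_conj hH x₀) (fun h => by
        have h1 : Nat.card A = 1 := by
          rw [hA, Subgroup.subgroupOf_eq_bot.mpr (disjoint_iff.mpr h), Subgroup.card_bot]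
        exact hB₀.1 (Subgroup.card_eq_one.mp (by
          have := Nat.card_pos (α := B₀)
          omega))) (hcon x₀)
  refine hAc.2.1 ((Subgroup.card_eq_iff_eq_top A).mp (Nat.dvd_antisymm
    (Subgroup.card_subgroup_dvd_card A) ?_))
  rw [Nat.dvd_iff_prime_pow_dvd_dvd]
  intro r k hr hk
  rcases Nat.eq_zero_or_pos k with rfl | hk0
  · simp
  have := Fact.mk hr
  let Q : Sylow r L := default
  obtain ⟨B, hB, hQB, hBA⟩ := hcompl ((dvd_pow_self r hk0.ne').trans hk) Q
  obtain ⟨g, hg⟩ := Cfsg.Agent.Frobenius.exists_conj_le_of_card_le hAc hB hBA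
  refine (Q.pow_dvd_card_of_pow_dvd_card hk).trans ((Subgroup.card_dvd_of_le hQB).trans ?_)
  exact (Cfsg.Agent.Coprime.card_conj_smul g B).symm.dvd.trans (Subgroup.card_dvd_of_le hg)

end Cfsg.Agent.S0589
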