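import Cfsg.Statements.S0592
import Cfsg.Agent.Lib.Quadratic.Stability

set_option autoImplicit false
open Cfsg

namespace Cfsg.Agent.S0592

/-- Two quadratically acting generators of a linear group that is not a p-group, with the p'-part of the order of their product dividing q - 1, give a homomorphism onto a subgroup of SL(2, q) that is not a p-group. -/
theorem result {K : Type*} [Field K] [Fintype K] {p : ℕ} [Fact p.Prime] [CharP K p] {W : Type*} [AddCommGroup W] [Module K W] [FiniteDimensional K W] [Finite W] [Nontrivial W] (H : Subgroup (W ≃ₗ[K] W)) (a b : W ≃ₗ[K] W) (hH : H = Subgroup.closure {a, b}) (ha : ∀ w : W, a (a w - w) = a w - w) (hb : ∀ w : W, b (b w - w) = b w - w) (hnp : ¬ IsPGroup p H) (hk : ∃ e k : ℕ, orderOf (a * b) = p ^ e * k ∧ k ∣ Fintype.card K - 1) : ∃ φ : H →* Matrix.SpecialLinearGroup (Fin 2) K, ¬ IsPGroup p φ.range := by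
  classical
  obtain ⟨e, k, hN, hkq⟩ := hk
  have haH : a ∈ H := hH ▸ Subgroup.subset_closure (by simp)
  have hbH : b ∈ H := hH ▸ Subgroup.subset_closure (by simp)
  have hgen : Subgroup.closure ({⟨a, haH⟩, ⟨b, hbH⟩} : Set H) = ⊤ := by
    apply Subgroup.map_injective H.subtype_injective
    rw [MonoidHom.map_closure, Set.image_pair, ← MonoidHom.range_eq_map, Subgroup.range_subtype]
    exact hH.symm
  have : Finite (W ≃ₗ[K] W) := Finite.of_injective _ DFunLike.coe_injective
  let ρ : H →* Module.End K W :=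
    { toFun := fun h => ((h : W ≃ₗ[K] W) : W →ₗ[K] W)
      map_one' := rfl
      map_mul' := fun _ _ => rfl }
  have hinj : Function.Injective ρ := fun x y hxy =>
    Subtype.ext (LinearEquiv.toLinearMap_injective hxy)
  have hquad : ∀ (c : H), (∀ w : W, (c : W ≃ₗ[K] W) ((c : W ≃ₗ[K] W) w - w) = (c : W ≃ₗ[K] W) w - w) →
      (ρ c - 1) * (ρ c - 1) = 0 := fun c hc => LinearMap.ext fun w => by
    show (c : W ≃ₗ[K] W) ((c : W ≃ₗ[K] W) w - w) - ((c : W ≃ₗ[K] W) w - w) = 0
    rw [hc, sub_self]
  have hsplit : (Polynomial.X ^ (p ^ e * k) - 1 : Polynomial K).Splits := by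
    obtain ⟨m, hm⟩ := hkq
    have hcard : 1 < Fintype.card K := Fintype.one_lt_card
    have hq : (Polynomial.X ^ Fintype.card K - Polynomial.X : Polynomial K).Splits := by
      rw [Polynomial.splits_iff_card_roots, FiniteField.roots_X_pow_card_sub_X,
        FiniteField.X_pow_card_sub_X_natDegree_eq K hcard]
      rfl
    have hdvd : (Polynomial.X ^ k - 1 : Polynomial K) ∣
        Polynomial.X ^ Fintype.card K - Polynomial.X := by
      have h1 : (Polynomial.X ^ k - 1 : Polynomial K) ∣ (Polynomial.X ^ k) ^ m - 1 := by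
        simpa using sub_dvd_pow_sub_pow (Polynomial.X ^ k : Polynomial K) 1 m
      have h2 : (Polynomial.X ^ Fintype.card K - Polynomial.X : Polynomial K) =
          ((Polynomial.X ^ k) ^ m - 1) * Polynomial.X := by
        rw [← pow_mul, ← hm, sub_mul, ← pow_succ, one_mul, Nat.sub_add_cancel hcard.le]
      rw [h2]
      exact h1.mul_right _
    have h3 : (Polynomial.X ^ (p ^ e * k) - 1 : Polynomial K) =
        (Polynomial.X ^ k - 1) ^ p ^ e := by
      rw [sub_pow_char_pow, one_pow, ← pow_mul, mul_comm]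
    rw [h3]
    exact (hq.of_dvd (FiniteField.X_pow_card_sub_X_ne_zero K hcard) hdvd).pow _
  obtain ⟨φ, hφ, -, -⟩ := Cfsg.Agent.Quadratic.exists_SL2_of_linear (p := p) hgen ρ (N := p ^ e * k)
    (hN ▸ orderOf_pos (a * b))
    (Subtype.ext (show (a * b) ^ (p ^ e * k) = 1 from hN ▸ pow_orderOf_eq_one (a * b)))
    hsplit (hquad _ ha) (hquad _ hb)
    (fun h => hnp fun x => (h x).imp fun n hn => hinj (hn.trans (map_one ρ).symm))
  exact ⟨φ, fun h => hφ ((Cfsg.Agent.Quadratic.isPGroup_range_iff φ).mp h)⟩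

end Cfsg.Agent.S0592
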