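import Cfsg.Statements.S0594
import Cfsg.Agent.Lib.Quadratic.Stability

set_option autoImplicit false
open Cfsg

namespace Cfsg.Agent.S0594

/-- For odd p, two quadratic generators of a faithful group that is not a p-group, one of which acts nontrivially on a normal subgroup of order prime to p, force p = 3 and a section isomorphic to SL(2,3). -/
theorem result {G : Type*} [Group G] [Finite G] {p : ℕ} [Fact p.Prime] (hp : p ≠ 2) (V H : Subgroup G) (hV : Cfsg.IsElementaryAbelian p V) (hHV : H ≤ Subgroup.normalizer (V : Set G)) (hf : H ⊓ Subgroup.centralizer (V : Set G) = ⊥) (a b : G) (hab : H = Subgroup.closure {a, b}) (ha : ⁅⁅V, Subgroup.zpowers a⁆, Subgroup.zpowers a⁆ = ⊥) (hb : ⁅⁅V, Subgroup.zpowers b⁆, Subgroup.zpowers b⁆ = ⊥) (hnp : ¬ IsPGroup p H) (Q : Subgroup G) (hQH : Q ≤ H) (hQn : H ≤ Subgroup.normalizer (Q : Set G)) (hQ : (Nat.card Q).Coprime p) (hQa : ⁅Q, Subgroup.zpowers a⁆ ≠ ⊥) : p = 3 ∧ ∃ (K L : Subgroup G)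 (hL : (L.subgroupOf K).Normal), K ≤ H ∧ Nonempty ((K ⧸ L.subgroupOf K) ≃* Matrix.SpecialLinearGroup (Fin 2) (ZMod 3)) := by
  have haH : a ∈ H := hab ▸ Subgroup.subset_closure (by simp)
  have hap : a ^ p = 1 := by
    have h1 := Cfsg.Agent.Offender.pow_mem_centralizer_of_quadratic hV
      (Subgroup.zpowers_le.mpr (hHV haH)) ha (Subgroup.mem_zpowers a)
    rw [← Subgroup.mem_bot, ← hf]
    exact ⟨pow_mem haH p, h1⟩
  set K := Q ⊔ Subgroup.zpowers a with hK
  have hKH : K ≤ H := sup_le hQH (Subgroup.zpowers_le.mpr haH)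
  have haK : a ∈ K := Subgroup.mem_sup_right (Subgroup.mem_zpowers a)
  have hQK : Q ≤ K := le_sup_left
  have hn : (Q.subgroupOf K).Normal :=
    Subgroup.normal_subgroupOf_of_le_normalizer (hKH.trans hQn)
  have hcard : Nat.card (Q.subgroupOf K) = Nat.card Q :=
    Nat.card_congr (Subgroup.subgroupOfEquivOfLe hQK).toEquiv
  -- `K` is `p`-solvable
  have hs : Cfsg.IsPSolvable p K := by
    refine Cfsg.Agent.PCore.isPSolvable_of_normal (Q.subgroupOf K)
      (Cfsg.Agent.PCore.isPSolvable_of_coprime (hcard ▸ hQ))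
      (Cfsg.Agent.PCore.isPSolvable_of_isPGroup ?_)
    rintro ⟨⟨k, hk⟩⟩
    have hk' : k ∈ Subgroup.zpowers a ⊔ Q := by rw [sup_comm]; exact hk
    obtain ⟨_, ⟨n, rfl⟩, q, hq', he⟩ :=
      (Cfsg.Agent.Coprime.mem_sup_iff_of_le_normalizer
        (Subgroup.zpowers_le.mpr (hQn haH))).mp hk'
    simp only at he
    subst he
    refine ⟨1, ?_⟩
    have hq2 : (⟨q, hQK hq'⟩ : K) ∈ Q.subgroupOf K := Subgroup.mem_subgroupOf.mpr hq'
    have hanK : a ^ n ∈ K := zpow_mem haK n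
    show ((⟨a ^ n * q, hk⟩ : K) : K ⧸ Q.subgroupOf K) ^ p ^ 1 = 1
    rw [show (⟨a ^ n * q, hk⟩ : K) = ⟨a ^ n, hanK⟩ * ⟨q, hQK hq'⟩ from rfl,
      QuotientGroup.mk_mul_of_mem _ hq2, pow_one, ← QuotientGroup.mk_pow]
    refine (QuotientGroup.eq_one_iff _).mpr (Subgroup.mem_subgroupOf.mpr ?_)
    rw [Subgroup.coe_pow, ← zpow_natCast, ← zpow_mul, mul_comm, zpow_mul, zpow_natCast, hap, one_zpow]
    exact one_mem Q
  have hfK : K ⊓ Subgroup.centralizer (V : Set G) = ⊥ :=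
    le_bot_iff.mp ((inf_le_inf_right _ hKH).trans hf.le)
  have hna : a ∉ (Cfsg.pCore p K).map K.subtype := by
    rintro ⟨a', ha', ha''⟩
    refine hQa (Subgroup.commutator_eq_bot_iff_le_centralizer.mpr fun q hq' => ?_)
    rintro _ ⟨n, rfl⟩
    have hc := Cfsg.Agent.PCore.commute_of_mem_cores ha'
      (Cfsg.Agent.PCore.le_pPrimeCore (hcard ▸ hQ : (Nat.card (Q.subgroupOf K)).Coprime p)
        (Subgroup.mem_subgroupOf.mpr hq' : (⟨q, hQK hq'⟩ : K) ∈ Q.subgroupOf K))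
    have hc' : Commute a q := by
      have h := congrArg Subtype.val hc
      rw [Subgroup.coe_mul, Subgroup.coe_mul] at h
      rwa [show (a' : G) = a from ha''] at h
    exact (hc'.zpow_left n).eq
  obtain ⟨b', hbK, hb', hnp'⟩ := Cfsg.Agent.Quadratic.exists_quadratic_pair hV (hKH.trans hHV) hfK haK ha hna
  have hK' : Subgroup.closure ({a, b'} : Set G) ≤ K := by
    rw [Subgroup.closure_le]
    rintro x (rfl | rfl)
    exacts [haK, hbK]
  obtain ⟨h3, K₁, L, hL, hK₁, hiso⟩ := Cfsg.Agent.Quadratic.SL2three_section hV (hK'.trans (hKH.trans hHV)) rfl ha hb'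
    hnp' hp (Cfsg.Agent.PCore.isPSolvable_of_le hK' hs)
  exact ⟨h3, K₁, L, hL, hK₁.trans (hK'.trans hKH), hiso⟩

end Cfsg.Agent.S0594
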