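import Cfsg.Statements.S0595
import Cfsg.Agent.Lib.Quadratic.Stability

set_option autoImplicit false
open Cfsg

namespace Cfsg.Agent.S0595

/-- For odd p, a faithful action on an elementary abelian p-group that is not p-stable forces non-abelian Sylow 2-subgroups. -/
theorem result {G : Type*} [Group G] [Finite G] {p : ℕ} [Fact p.Prime] (hp : p ≠ 2) (V H : Subgroup G) (hV : Cfsg.IsElementaryAbelian p V) (hHV : H ≤ Subgroup.normalizer (V : Set G)) (hf : H ⊓ Subgroup.centralizer (V : Set G) = ⊥) (a : G) (haH : a ∈ H) (hq : ⁅⁅V, Subgroup.zpowers a⁆, Subgroup.zpowers a⁆ = ⊥) (hna : a ∉ (Cfsg.pCore p H).map H.subtype) (T : Sylow 2 H) : ¬ IsMulCommutative T := by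
  obtain ⟨b, hbH, hb, hnp⟩ := Cfsg.Agent.Quadratic.exists_quadratic_pair hV hHV hf haH hq hna
  intro hT
  have hK : Subgroup.closure ({a, b} : Set G) ≤ H := by
    rw [Subgroup.closure_le]
    rintro x (rfl | rfl)
    exacts [haH, hbH]
  have : Fact (Nat.Prime 2) := ⟨Nat.prime_two⟩
  refine Cfsg.Agent.Quadratic.not_isMulCommutative_sylow_two hV (hK.trans hHV) rfl hq hb hnp hp default ?_
  set T' : Sylow 2 (Subgroup.closure ({a, b} : Set G)) := default
  obtain ⟨S, hS⟩ := (T'.2.map (Subgroup.inclusion hK)).exists_le_sylow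
  obtain ⟨g, rfl⟩ := MulAction.exists_smul_eq H T S
  refine Cfsg.Agent.PGroup.isMulCommutative_of_forall fun x hx y hy => ?_
  apply Subgroup.inclusion_injective hK
  have hx' := hS ⟨x, hx, rfl⟩
  have hy' := hS ⟨y, hy, rfl⟩
  rw [Sylow.coe_subgroup_smul] at hx' hy'
  rw [Cfsg.Agent.Coprime.mem_conj_smul_iff] at hx' hy'
  have h := Cfsg.Agent.PGroup.mul_comm_of_isMulCommutative hT hx' hy'
  rw [map_mul, map_mul]
  calc Subgroup.inclusion hK x * Subgroup.inclusion hK y
      = g * ((g⁻¹ * Subgroup.inclusion hK x * g) * (g⁻¹ * Subgroup.inclusion hK y * g)) * g⁻¹ := by group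
    _ = g * ((g⁻¹ * Subgroup.inclusion hK y * g) * (g⁻¹ * Subgroup.inclusion hK x * g)) * g⁻¹ := by rw [h]
    _ = Subgroup.inclusion hK y * Subgroup.inclusion hK x := by group

end Cfsg.Agent.S0595
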