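import Cfsg.Statements.S0597
import Cfsg.Agent.Lib.Subnormal.Join
import Cfsg.Agent.Lib.LocalStructure.PClosed
import Cfsg.Agent.Lib.Offender.Replacement
import Cfsg.Agent.Lib.Coprime.Commutator
-- import your own Cfsg.Agent.* helpers here

set_option autoImplicit false
open Cfsg
open scoped commutatorElement

namespace Cfsg.Agent.S0597

/-- If two subnormal subgroups of a faithful group on an elementary abelian p-group satisfy [V, E₁, E₂] = 1, then their commutator lies in the largest normal p-subgroup. -/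
theorem result {G : Type*} [Group G] [Finite G] {p : ℕ} [Fact p.Prime] (V H : Subgroup G) (hV : Cfsg.IsElementaryAbelian p V) (hHV : H ≤ Subgroup.normalizer (V : Set G)) (hf : H ⊓ Subgroup.centralizer (V : Set G) = ⊥) (E₁ E₂ : Subgroup G) (h₁ : E₁ ≤ H) (h₂ : E₂ ≤ H) (hs₁ : (E₁.subgroupOf H).IsSubnormal) (hs₂ : (E₂.subgroupOf H).IsSubnormal) (hc : ⁅⁅V, E₁⁆, E₂⁆ = ⊥) : ⁅E₁, E₂⁆ ≤ (Cfsg.pCore p H).map H.subtype := by
  have hW : ∀ {e v : G}, e ∈ E₁ → v ∈ V → ⁅v, e⁆ ∈ ⁅V, E₁⁆ := fun he hv =>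
    Subgroup.commutator_mem_commutator hv he
  set W := ⁅V, E₁⁆ with hWdef
  have hE₁W : E₁ ≤ Subgroup.normalizer (W : Set G) :=
    Subgroup.normalizer_commutator_ge_right V E₁
  have hE₂W : E₂ ≤ Subgroup.centralizer (W : Set G) :=
    Subgroup.le_centralizer_iff.mp (Subgroup.commutator_eq_bot_iff_le_centralizer.mp hc)
  -- the elements centralising `W` and `V / W`
  let M : Subgroup G :=
    { carrier := {x | x ∈ Subgroup.centralizer (W : Set G) ∧ ∀ v ∈ V, ⁅v, x⁆ ∈ W}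
      one_mem' := ⟨one_mem _, fun v _ => by simp [commutatorElement_def]⟩
      mul_mem' := by
        rintro x y ⟨hx, hx'⟩ ⟨hy, hy'⟩
        refine ⟨mul_mem hx hy, fun v hv => ?_⟩
        have he : ⁅v, x * y⁆ = ⁅v, x⁆ * (x * ⁅v, y⁆ * x⁻¹) := by
          simp only [commutatorElement_def]; group
        rw [he, ← hx _ (hy' v hv), mul_inv_cancel_right]
        exact mul_mem (hx' v hv) (hy' v hv)
      inv_mem' := by
        rintro x ⟨hx, hx'⟩
        refine ⟨inv_mem hx, fun v hv => ?_⟩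
        have he : ⁅v, x⁻¹⁆ = x⁻¹ * ⁅v, x⁆⁻¹ * x := by
          simp only [commutatorElement_def]; group
        rw [he, mul_assoc, hx _ (inv_mem (hx' v hv)), inv_mul_cancel_left]
        exact inv_mem (hx' v hv) }
  have hDM : ⁅E₁, E₂⁆ ≤ M := by
    refine Subgroup.commutator_le.mpr fun e he f hf₂ => ⟨?_, fun v hv => ?_⟩
    · intro w hw
      have h1 : e⁻¹ * w * e ∈ W := by
        simpa using ((Subgroup.mem_normalizer_iff.mp (hE₁W (inv_mem he))) w).mp hw
      have h2 := hE₂W hf₂ _ h1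
      have h3 : f * w = w * f := (hE₂W hf₂ w hw).symm
      calc w * ⁅e, f⁆ = e * ((e⁻¹ * w * e) * f) * e⁻¹ * f⁻¹ := by
            rw [commutatorElement_def]; group
        _ = e * f * e⁻¹ * (w * (e * e⁻¹) * f⁻¹) := by rw [h2]; group
        _ = e * f * e⁻¹ * (f⁻¹ * w) := by
            rw [mul_inv_cancel, mul_one, eq_inv_mul_of_mul_eq (show f * (w * f⁻¹) = w by
              rw [← mul_assoc, h3, mul_inv_cancel_right])]
        _ = ⁅e, f⁆ * w := by rw [commutatorElement_def]; group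
    · have hv' : f⁻¹ * v * f ∈ V := by
        simpa using ((Subgroup.mem_normalizer_iff.mp (hHV (inv_mem (h₂ hf₂)))) v).mp hv
      have h1 : f * ⁅f⁻¹ * v * f, e⁻¹⁆ * f⁻¹ = ⁅f⁻¹ * v * f, e⁻¹⁆ := by
        rw [← hE₂W hf₂ _ (hW (inv_mem he) hv'), mul_inv_cancel_right]
      have he' : ⁅v, ⁅e, f⁆⁆ = ⁅v, e⁆ * (e * (f * ⁅f⁻¹ * v * f, e⁻¹⁆ * f⁻¹) * e⁻¹) := by
        simp only [commutatorElement_def]; group
      rw [he', h1]
      exact mul_mem (hW he hv)
        ((Subgroup.mem_normalizer_iff.mp (hE₁W he) _).mp (hW (inv_mem he) hv'))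
  have hDH : ⁅E₁, E₂⁆ ≤ H :=
    Subgroup.commutator_le.mpr fun e he f hf₂ => by
      rw [commutatorElement_def]
      exact mul_mem (mul_mem (mul_mem (h₁ he) (h₂ hf₂)) (inv_mem (h₁ he))) (inv_mem (h₂ hf₂))
  have hp : IsPGroup p (⁅E₁, E₂⁆.subgroupOf H) := by
    rintro ⟨⟨d, hdH⟩, hd⟩
    refine ⟨1, ?_⟩
    have hdM : Subgroup.zpowers d ≤ M := Subgroup.zpowers_le.mpr (hDM hd)
    have hq : ⁅⁅V, Subgroup.zpowers d⁆, Subgroup.zpowers d⁆ = ⊥ :=
      Subgroup.commutator_eq_bot_iff_le_centralizer.mpr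
        ((Subgroup.commutator_le.mpr fun v hv x hx => (hdM hx).2 v hv).trans
          (Subgroup.le_centralizer_iff.mp fun x hx => (hdM hx).1))
    have h := Cfsg.Agent.Offender.pow_mem_centralizer_of_quadratic hV
      (Subgroup.zpowers_le.mpr (hHV hdH)) hq (Subgroup.mem_zpowers d)
    have : d ^ p = 1 := by
      rw [← Subgroup.mem_bot, ← hf]
      exact Subgroup.mem_inf.mpr ⟨pow_mem hdH p, h⟩
    exact Subtype.ext (Subtype.ext (by simpa using this))
  have hsn : (⁅E₁, E₂⁆.subgroupOf H).IsSubnormal := by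
    refine (Cfsg.Agent.Subnormal.sn_trans (Cfsg.Agent.Subnormal.sn_of_le_of_normalizer ?_ ?_)
      (Cfsg.Agent.Subnormal.sn_sup ⟨h₁, hs₁⟩ ⟨h₂, hs₂⟩)).2
    · exact Subgroup.commutator_le.mpr fun e he f hf₂ => by
        rw [commutatorElement_def]
        exact mul_mem (mul_mem (mul_mem (Subgroup.mem_sup_left he) (Subgroup.mem_sup_right hf₂))
          (inv_mem (Subgroup.mem_sup_left he))) (inv_mem (Subgroup.mem_sup_right hf₂))
    · refine sup_le ?_ (Subgroup.normalizer_commutator_ge_right E₁ E₂)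
      rw [Subgroup.commutator_comm]
      exact Subgroup.normalizer_commutator_ge_right E₂ E₁
  intro d hd
  exact ⟨⟨d, hDH hd⟩, Cfsg.Agent.LocalStructure.le_pCore_of_isSubnormal hsn hp
    (Subgroup.mem_subgroupOf.mpr hd : (⟨d, hDH hd⟩ : H) ∈ _), rfl⟩

end Cfsg.Agent.S0597
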