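import Cfsg.Statements.S0608
import Cfsg.Agent.Lib.Offender.Factorization

set_option autoImplicit false
open Cfsg

namespace Cfsg.Agent.S0608

/-- With trivial p'-core, Thompson factorizability is equivalent to J(G) centralizing the subgroup generated by all Ω₁(Z(S)), S Sylow. -/
theorem result {G : Type*} [Group G] [Finite G] {p : ℕ} [Fact p.Prime] (hO : Cfsg.pPrimeCore p G = ⊥) : Cfsg.IsThompsonFactorizable p G ↔ Cfsg.thompsonSubgroup p G ≤ Subgroup.centralizer ((⨆ S : Sylow p G, Cfsg.omegaOne p (((S : Subgroup G)) ⊓ Subgroup.centralizer ((S : Subgroup G) : Set G)) : Subgroup G) : Set G) := by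
  have hn := Cfsg.Agent.Offender.iSup_omegaZ_normal (G := G) (p := p)
  constructor
  · intro h
    rw [Cfsg.Agent.Offender.thompsonSubgroup_eq_iSup_sylow]
    refine iSup_le fun S => ?_
    rw [Subgroup.le_centralizer_iff]
    refine iSup_le fun T => ?_
    rw [Subgroup.le_centralizer_iff]
    obtain ⟨g, rfl⟩ := MulAction.exists_smul_eq G S T
    obtain ⟨x, hx, c, hc, n, hn', hg⟩ := h S g⁻¹
    rw [hO, Subgroup.mem_bot] at hx
    subst hx
    rw [one_mul] at hg
    intro j hj z hz
    rw [SetLike.mem_coe] at hz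
    rw [show Cfsg.omegaOne p (((g • S : Sylow p G) : Subgroup G) ⊓
        Subgroup.centralizer (((g • S : Sylow p G) : Subgroup G) : Set G)) =
      Cfsg.Agent.Offender.omegaZ p ((g • S : Sylow p G) : Subgroup G) from rfl,
      ← Cfsg.Agent.Offender.omegaZ_smul] at hz
    obtain ⟨w, hw, rfl⟩ := hz
    have hg' : g = n⁻¹ * c⁻¹ := by rw [← mul_inv_rev, ← hg, inv_inv]
    have hw' : c⁻¹ * w * c = w := by rw [mul_assoc, hc w hw]; group
    -- `J(S)` centralizes `Ω₁(Z(S))`
    have hZJ : thompsonSubgroupOf p (S : Subgroup G) ≤ Subgroup.centralizer {w} := by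
      obtain ⟨A, hA, hAS⟩ := Cfsg.Agent.Offender.exists_max_le_sylow S
      rw [Cfsg.Agent.Offender.thompsonSubgroupOf_eq hA hAS]
      refine sSup_le fun B hB b hb => ?_
      rintro _ rfl
      exact Cfsg.Agent.PGroup.mul_comm_of_elementaryAbelian hB.1.1
        (Cfsg.Agent.Offender.omegaZ_le_max hB.1 hB.2 hw) hb
    have hj' : n * j * n⁻¹ ∈ thompsonSubgroupOf p (S : Subgroup G) :=
      (Subgroup.mem_normalizer_iff.mp hn' j).mp hj
    have hwj : w * (n * j * n⁻¹) = n * j * n⁻¹ * w := hZJ hj' w (Set.mem_singleton w)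
    show MulAut.conj g w * j = j * MulAut.conj g w
    rw [MulAut.conj_apply, hg',
      show n⁻¹ * c⁻¹ * w * (n⁻¹ * c⁻¹)⁻¹ = n⁻¹ * (c⁻¹ * w * c) * n by group, hw']
    calc n⁻¹ * w * n * j = n⁻¹ * (w * (n * j * n⁻¹)) * n := by group
      _ = n⁻¹ * (n * j * n⁻¹ * w) * n := by rw [hwj]
      _ = j * (n⁻¹ * w * n) := by group
  · intro h S g
    have := hn
    set V := ⨆ S : Sylow p G, Cfsg.omegaOne p ((S : Subgroup G) ⊓
      Subgroup.centralizer ((S : Subgroup G) : Set G))
    have : V.Normal := hn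
    have htop := Cfsg.Agent.Offender.sup_normalizer_thompson_eq_top S (Subgroup.centralizer (V : Set G))
      ((Cfsg.Agent.Offender.thompsonSubgroupOf_sylow_le S).trans h)
    have hmem : g ∈ Subgroup.centralizer (V : Set G) ⊔
        Subgroup.normalizer (thompsonSubgroupOf p (S : Subgroup G) : Set G) := htop ▸ Subgroup.mem_top g
    obtain ⟨c, hc, n, hn', rfl⟩ := Subgroup.mem_sup_of_normal_left.mp hmem
    refine ⟨1, one_mem _, c, ?_, n, hn', by rw [one_mul]⟩
    exact fun z hz => hc z (le_iSup (fun S : Sylow p G => Cfsg.omegaOne p ((S : Subgroup G) ⊓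
      Subgroup.centralizer ((S : Subgroup G) : Set G))) S hz)

end Cfsg.Agent.S0608
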