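import Cfsg.Statements.S0609
import Cfsg.Agent.Lib.Replacement.Constrained
import Cfsg.Agent.Lib.PCore.Constrained
-- import your own Cfsg.Agent.* helpers here

set_option autoImplicit false
open Cfsg

namespace Cfsg.Agent.S0609

/-- Thompson factorizability passes to and from the quotient by the largest normal subgroup of order prime to p. -/
theorem result {G : Type*} [Group G] [Finite G] {p : ℕ} [Fact p.Prime] : Cfsg.IsThompsonFactorizable p G ↔ Cfsg.IsThompsonFactorizable p (G ⧸ Cfsg.pPrimeCore p G) := by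
  set N := Cfsg.pPrimeCore p G with hN
  set q := QuotientGroup.mk' N with hq
  have hqs : Function.Surjective q := QuotientGroup.mk'_surjective N
  have hcop : (Nat.card N).Coprime p := Cfsg.Agent.PCore.coprime_card_pPrimeCore
  -- the two subgroups attached to a Sylow subgroup map onto those of its image
  have hmap : ∀ S : Sylow p G,
      (Subgroup.centralizer (Cfsg.omegaOne p ((S : Subgroup G) ⊓ Subgroup.centralizer ((S : Subgroup G) : Set G)) : Set G)).map q =
        Subgroup.centralizer (Cfsg.omegaOne p (((S : Subgroup G).map q) ⊓ Subgroup.centralizer (((S : Subgroup G).map q : Subgroup (G ⧸ N)) : Set (G ⧸ N))) : Set (G ⧸ N)) ∧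
      (Subgroup.normalizer (Cfsg.thompsonSubgroupOf p (S : Subgroup G) : Set G)).map q =
        Subgroup.normalizer (Cfsg.thompsonSubgroupOf p ((S : Subgroup G).map q) : Set (G ⧸ N)) := by
    intro S
    have hinj : ∀ x ∈ (S : Subgroup G), q x = 1 → x = 1 :=
      Cfsg.Agent.Replacement.injOn_mk_pPrimeCore S.2
    constructor
    · rw [← Cfsg.Agent.Replacement.map_inf_centralizer_injOn q hinj le_rfl]
      set J := (S : Subgroup G) ⊓ Subgroup.centralizer ((S : Subgroup G) : Set G) with hJ
      have hom : Cfsg.omegaOne p (J.map q) = (Cfsg.omegaOne p J).map q := by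
        refine le_antisymm ((Cfsg.Agent.PGroup.omegaOne_le_iff).mpr ?_)
          (Cfsg.Agent.PGroup.map_omegaOne_le q J)
        rintro _ ⟨x, hx, rfl⟩ hy
        rw [← map_pow] at hy
        exact Subgroup.mem_map_of_mem q (Subgroup.subset_closure
          ⟨hx, hinj _ (pow_mem (Subgroup.mem_inf.mp hx).1 p) hy⟩)
      rw [hom]
      exact Cfsg.Agent.PCore.map_centralizer_mk' N hcop
        (S.2.to_le ((Cfsg.Agent.PGroup.omegaOne_le J).trans inf_le_left))
    · rw [Cfsg.Agent.Replacement.thompsonSubgroupOf_map_injOn q hinj]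
      exact Cfsg.Agent.PCore.map_normalizer_mk' N hcop
        (S.2.to_le (Cfsg.Agent.PGroup.thompsonSubgroupOf_le _))
  constructor
  · intro h T g
    obtain ⟨S, rfl⟩ := Sylow.mapSurjective_surjective hqs p T
    obtain ⟨g, rfl⟩ := hqs g
    obtain ⟨x, hx, c, hc, n, hn, rfl⟩ := h S g
    obtain ⟨h1, h2⟩ := hmap S
    refine ⟨1, one_mem _, q c, ?_, q n, ?_, ?_⟩
    · rw [Sylow.coe_mapSurjective, ← h1]
      exact Subgroup.mem_map_of_mem q hc
    · rw [Sylow.coe_mapSurjective, ← h2]
      exact Subgroup.mem_map_of_mem q hn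
    · rw [map_mul, map_mul, show q x = 1 from (QuotientGroup.eq_one_iff x).mpr hx]
  · intro h S g
    obtain ⟨h1, h2⟩ := hmap S
    obtain ⟨x, hx, c, hc, n, hn, he⟩ := h (S.mapSurjective hqs) (q g)
    rw [Cfsg.Agent.PCore.pPrimeCore_quotient_self_eq_bot, Subgroup.mem_bot] at hx
    rw [Sylow.coe_mapSurjective, ← h1] at hc
    rw [Sylow.coe_mapSurjective, ← h2] at hn
    obtain ⟨c', hc', rfl⟩ := hc
    obtain ⟨n', hn', rfl⟩ := hn
    refine ⟨g * (c' * n')⁻¹, ?_, c', hc', n', hn', by group⟩
    rw [← hN, ← QuotientGroup.eq_one_iff]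
    show q (g * (c' * n')⁻¹) = 1
    rw [map_mul, map_inv, map_mul, he, hx, one_mul, mul_inv_cancel]

end Cfsg.Agent.S0609
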