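import Cfsg.Statements.S0614
import Cfsg.Agent.Lib.Offender.Structure
-- import your own Cfsg.Agent.* helpers here

set_option autoImplicit false
open Cfsg

namespace Cfsg.Agent.S0614

theorem exists_noncommuting : ∃ i j : Matrix.SpecialLinearGroup (Fin 2) (ZMod 3),
    i * j ≠ j * i ∧ i ^ 4 = 1 ∧ j ^ 4 = 1 :=
  ⟨⟨!![0, 2; 1, 0], by decide⟩, ⟨!![1, 1; 1, 2], by decide⟩, by decide, by decide, by decide⟩

/-- The commutator of the p'-core with a minimal nontrivially-acting best offender is a 3-group (when p = 2) or a non-abelian 2-group (when p = 3). -/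
theorem result {G : Type*} [Group G] [Finite G] {p : ℕ} [Fact p.Prime] (V H : Subgroup G) (hV : Cfsg.IsElementaryAbelian p V) (hHV : H ≤ Subgroup.normalizer (V : Set G)) (hf : H ⊓ Subgroup.centralizer (V : Set G) = ⊥) (hS1 : Subgroup.centralizer (Cfsg.pPrimeCore p ↥H : Set ↥H) ≤ Cfsg.pPrimeCore p ↥H) (hS3 : H = ⨆ A : {A : Subgroup G // A ≤ H ∧ Cfsg.IsBestOffenderOn p V A}, (A : Subgroup G)) (hH1 : H ≠ ⊥) (A : Subgroup G) (hAH : A ≤ H) (hA : Cfsg.IsBestOffenderOn p V A) (hAV : ⁅V, A⁆ ≠ ⊥) (hmin : ∀ B : Subgroup G, B ≤ A → Cfsg.IsBestOffenderOn p V B → ⁅V, B⁆ ≠ ⊥ → B = A) : (p = 2 ∧ IsPGroup 3 ↥(⁅((Cfsg.pPrimeCore p ↥H).map H.subtype), A⁆)) ∨ (p = 3 ∧ IsPGroup 2 ↥(⁅((Cfsg.pPrimeCore p ↥H).map H.subtype), A⁆) ∧ ¬ IsMulCommutative ↥(⁅((Cfsg.pPrimeCore p ↥H).map H.subtype), A⁆)) := by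
  have h : Cfsg.Agent.Offender.FF p V H := ⟨hV, hHV, hf, hS1⟩
  have hT := h.isTv_of_minimal hAH hA hAV hmin
  obtain ⟨a, e, x, P⟩ := h.exists_pair hAH hT
  set Q := (Cfsg.pPrimeCore p ↥H).map H.subtype with hQ
  have hRX : ⁅Q, A⁆ ≤ P.X := le_sup_left.trans P.eSub_eq.le
  have hnA : A ≤ Subgroup.normalizer ((⁅Q, A⁆ : Subgroup G) : Set G) :=
    Subgroup.normalizer_commutator_ge_right Q A
  have hRQ : ⁅Q, A⁆ ≤ Q :=
    Cfsg.Agent.Coprime.commutator_le_left_of_le_normalizer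
      (hAH.trans Cfsg.Agent.Offender.le_normalizer_qcore)
  have hcop : (Nat.card ↥(⁅Q, A⁆)).Coprime p :=
    Cfsg.Agent.Offender.coprime_card_qcore.coprime_dvd_left (Subgroup.card_dvd_of_le hRQ)
  obtain ⟨θ⟩ := P.exists_iso
  have hdvd : Nat.card ↥(⁅Q, A⁆) ∣ p * (p ^ 2 - 1) := by
    have h1 := Subgroup.card_dvd_of_le hRX
    rwa [Nat.card_congr θ.toEquiv, Cfsg.Agent.GL.card_SL2, ZMod.card] at h1
  have hdvd' : Nat.card ↥(⁅Q, A⁆) ∣ p ^ 2 - 1 := hcop.dvd_of_dvd_mul_left hdvd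
  rcases P.p_eq_two_or_three with rfl | rfl
  · refine Or.inl ⟨rfl, ?_⟩
    rcases (Nat.dvd_prime Nat.prime_three).mp hdvd' with h1 | h1
    · exact IsPGroup.of_card (n := 0) (by rw [h1, pow_zero])
    · exact IsPGroup.of_card (n := 1) (by rw [h1, pow_one])
  · refine Or.inr ⟨rfl, ?_, ?_⟩
    · obtain ⟨k, -, hk⟩ := (Nat.dvd_prime_pow Nat.prime_two).mp
        (show Nat.card ↥(⁅Q, A⁆) ∣ 2 ^ 3 from hdvd')
      exact IsPGroup.of_card hk
    · -- every element of `X` of order dividing four lies in `R`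
      set R := ⁅Q, A⁆.subgroupOf P.X with hR
      have hn : R.Normal := by
        refine (Subgroup.normal_subgroupOf_iff_le_normalizer hRX).mpr ?_
        rw [← P.eSub_eq]
        exact sup_le Subgroup.le_normalizer hnA
      have hidx : R.index ∣ 3 := by
        rw [hR]
        show Subgroup.relIndex ⁅Q, A⁆ P.X ∣ 3
        rw [← P.eSub_eq]
        show Subgroup.relIndex ⁅Q, A⁆ (⁅Q, A⁆ ⊔ A) ∣ 3
        rw [sup_comm, Cfsg.Agent.Coprime.relIndex_sup_right_of_le_normalizer hnA]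
        exact (Subgroup.relIndex_dvd_card _ _).trans hT.1.dvd
      have hmem : ∀ g : Matrix.SpecialLinearGroup (Fin 2) (ZMod 3), g ^ 4 = 1 → θ.symm g ∈ R := by
        intro g hg
        rw [← QuotientGroup.eq_one_iff]
        rw [← orderOf_eq_one_iff]
        have h4 : (θ.symm g : ↥P.X ⧸ R) ^ 4 = 1 := by
          rw [← QuotientGroup.mk_pow, ← map_pow, hg, map_one, QuotientGroup.mk_one]
        have h3 : orderOf (θ.symm g : ↥P.X ⧸ R) ∣ 3 :=
          (orderOf_dvd_natCard _).trans (R.index_eq_card.symm.dvd.trans hidx)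
        exact Nat.eq_one_of_dvd_coprimes (by decide : Nat.Coprime 3 4) h3 (orderOf_dvd_of_pow_eq_one h4)
      intro hab
      obtain ⟨i, j, hne, hi4, hj4⟩ := exists_noncommuting
      refine hne (θ.symm.injective (Subtype.ext ?_))
      rw [map_mul, map_mul, Subgroup.coe_mul, Subgroup.coe_mul]
      exact Cfsg.Agent.PGroup.mul_comm_of_isMulCommutative hab
        (Subgroup.mem_subgroupOf.mp (hmem i hi4)) (Subgroup.mem_subgroupOf.mp (hmem j hj4))

end Cfsg.Agent.S0614
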