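import Cfsg.Statements.S0615
import Cfsg.Agent.S0597
import Cfsg.Agent.Lib.Offender.Structure
import Cfsg.Agent.Lib.LocalStructure.PClosed
-- import your own Cfsg.Agent.* helpers here

set_option autoImplicit false
open Cfsg

namespace Cfsg.Agent.S0615

open Subgroup
open Cfsg.Agent.Subnormal (SN cj)
open scoped commutatorElement

universe u

variable {G : Type u} [Group G] {p : ℕ}

/-- Two subnormal subgroups acting irreducibly on incomparable commutator modules. -/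
structure Cond (p : ℕ) (V E₁ E₂ : Subgroup G) : Prop where
  hV : Cfsg.IsElementaryAbelian p V
  hEV : E₁ ⊔ E₂ ≤ normalizer (V : Set G)
  hf : (E₁ ⊔ E₂) ⊓ centralizer (V : Set G) = ⊥
  sn₁ : SN E₁ (E₁ ⊔ E₂)
  sn₂ : SN E₂ (E₁ ⊔ E₂)
  hOp : ∀ D : Subgroup G, SN D (E₁ ⊔ E₂) → IsPGroup p D → D = ⊥
  irr₁ : ∀ U : Subgroup G, U ≤ ⁅V, E₁⁆ → E₁ ≤ normalizer (U : Set G) → U = ⊥ ∨ U = ⁅V, E₁⁆
  irr₂ : ∀ U : Subgroup G, U ≤ ⁅V, E₂⁆ → E₂ ≤ normalizer (U : Set G) → U = ⊥ ∨ U = ⁅V, E₂⁆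
  h12 : ¬ ⁅V, E₁⁆ ≤ ⁅V, E₂⁆
  h21 : ¬ ⁅V, E₂⁆ ≤ ⁅V, E₁⁆
  hc₁ : 2 < Nat.card E₁
  hc₂ : 2 < Nat.card E₂

/-- The conclusion. -/
def Concl (V E₁ E₂ : Subgroup G) : Prop :=
  ⁅E₁, E₂⁆ = ⊥ ∧ ⁅V, E₁⁆ ⊓ ⁅V, E₂⁆ = ⊥

section

variable {V E₁ E₂ : Subgroup G}

theorem Cond.symm (h : Cond p V E₁ E₂) : Cond p V E₂ E₁ := by
  obtain ⟨hV, hEV, hf, s1, s2, hOp, i1, i2, h12, h21, c1, c2⟩ := h
  rw [sup_comm] at hEV hf s1 s2 hOp
  exact ⟨hV, hEV, hf, s2, s1, hOp, i2, i1, h21, h12, c2, c1⟩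

theorem Concl.symm (h : Concl V E₂ E₁) : Concl V E₁ E₂ :=
  ⟨by rw [commutator_comm]; exact h.1, by rw [inf_comm]; exact h.2⟩

variable [Finite G] [Fact p.Prime]

theorem Cond.eq_bot_of_quadratic (h : Cond p V E₁ E₂) {D : Subgroup G}
    (hD : SN D (E₁ ⊔ E₂)) (hq : ⁅⁅V, D⁆, D⁆ = ⊥) : D = ⊥ := by
  refine h.hOp D hD fun d => ⟨1, Subtype.ext ?_⟩
  have h1 := Cfsg.Agent.Offender.pow_mem_centralizer_of_quadratic h.hV (hD.1.trans h.hEV) hq d.2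
  rw [pow_one, Subgroup.coe_pow, OneMemClass.coe_one, ← mem_bot, ← h.hf]
  exact mem_inf.mpr ⟨pow_mem (hD.1 d.2) p, h1⟩

theorem Cond.normalizes (h : Cond p V E₁ E₂) : E₁ ≤ normalizer ((⁅V, E₁⁆ : Subgroup G) : Set G) :=
  normalizer_commutator_ge_right V E₁

theorem Cond.fix (h : Cond p V E₁ E₂) :
    ⁅V, E₁⁆ ⊓ centralizer (E₁ : Set G) = ⊥ := by
  refine (h.irr₁ _ inf_le_left (Cfsg.Agent.LocalStructure.le_normalizer_inf h.normalizes
    (Cfsg.Agent.LocalStructure.le_normalizer_centralizer le_normalizer))).resolve_right fun he => ?_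
  have h2 := h.hc₁
  rw [h.eq_bot_of_quadratic h.sn₁ (commutator_eq_bot_iff_le_centralizer.mpr (inf_eq_left.mp he)),
    Subgroup.card_bot] at h2
  omega

theorem Cond.concl_of_normalizes (h : Cond p V E₁ E₂)
    (hn : E₂ ≤ normalizer ((⁅V, E₁⁆ : Subgroup G) : Set G)) : Concl V E₁ E₂ := by
  have hdis : ⁅V, E₁⁆ ⊓ ⁅V, E₂⁆ = ⊥ :=
    (h.irr₂ _ inf_le_right (Cfsg.Agent.LocalStructure.le_normalizer_inf hn
      (normalizer_commutator_ge_right V E₂))).resolve_right fun he => h.h21 (inf_eq_right.mp he)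
  refine ⟨?_, hdis⟩
  have hW1V : ⁅V, E₁⁆ ≤ V :=
    Cfsg.Agent.Offender.commutator_le_left (le_sup_left.trans h.hEV)
  have hc : ⁅⁅V, E₁⁆, E₂⁆ = ⊥ := le_bot_iff.mp (hdis ▸ le_inf
    (Cfsg.Agent.Offender.commutator_le_left hn) (commutator_mono hW1V le_rfl))
  have h1 := Cfsg.Agent.S0597.result V (E₁ ⊔ E₂) h.hV h.hEV h.hf E₁ E₂ le_sup_left le_sup_right
    h.sn₁.2 h.sn₂.2 hc
  refine le_bot_iff.mp (h1.trans (le_of_eq (h.hOp _ ?_ ?_)))
  · refine Cfsg.Agent.Subnormal.sn_of_le_of_normalizer (map_subtype_le _) ?_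
    refine (normal_subgroupOf_iff_le_normalizer (map_subtype_le _)).mp ?_
    rw [subgroupOf, comap_map_eq_self_of_injective (subtype_injective _)]
    exact Cfsg.Agent.PCore.pCore_normal
  · exact Cfsg.Agent.PCore.isPGroup_pCore.map _

theorem Cond.conj (h : Cond p V E₁ E₂) {g : G} (hg : g ∈ E₂)
    (hne : cj g ⁅V, E₁⁆ ≠ ⁅V, E₁⁆) : Cond p V E₁ (cj g E₁) ∧ ⁅V, cj g E₁⁆ = cj g ⁅V, E₁⁆ ∧
      Nat.card ↥(E₁ ⊔ cj g E₁) < Nat.card ↥(E₁ ⊔ E₂) := by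
  have hgE : g ∈ E₁ ⊔ E₂ := mem_sup_right hg
  have hgV : g ∈ normalizer (V : Set G) := h.hEV hgE
  have hW : ⁅V, cj g E₁⁆ = cj g ⁅V, E₁⁆ := by
    simp only [cj]
    rw [map_commutator]
    congr 1
    exact (Cfsg.Agent.Subnormal.cj_eq_of_mem_normalizer hgV).symm
  have hsn : SN (cj g E₁) (E₁ ⊔ E₂) := by
    have := Cfsg.Agent.Subnormal.sn_cj g h.sn₁
    rwa [Cfsg.Agent.Subnormal.cj_eq_of_mem hgE] at this
  have hE1 : E₁ ≠ E₁ ⊔ E₂ := fun he =>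
    h.h21 (commutator_mono le_rfl (le_sup_right.trans he.ge))
  have hle : E₁ ⊔ cj g E₁ ≤ Cfsg.Agent.Subnormal.cl (E₁ ⊔ E₂) E₁ :=
    sup_le (Cfsg.Agent.Subnormal.le_cl _ _) (Cfsg.Agent.Subnormal.cj_le_cl hgE)
  have hlt := hle.trans_lt (Cfsg.Agent.Subnormal.cl_lt h.sn₁ hE1)
  have hS : SN (E₁ ⊔ cj g E₁) (E₁ ⊔ E₂) := Cfsg.Agent.Subnormal.sn_sup h.sn₁ hsn
  refine ⟨⟨h.hV, hS.1.trans h.hEV, le_bot_iff.mp ((inf_le_inf_right _ hS.1).trans h.hf.le),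
    Cfsg.Agent.Subnormal.sn_mono h.sn₁ le_sup_left hS.1,
    Cfsg.Agent.Subnormal.sn_mono hsn le_sup_right hS.1,
    fun D hD hDp => h.hOp D (Cfsg.Agent.Subnormal.sn_trans hD hS) hDp, h.irr₁, fun U hU hn => ?_,
    fun he => hne ?_, fun he => hne ?_, h.hc₁, by rw [Cfsg.Agent.Subnormal.card_cj]; exact h.hc₁⟩,
    hW, (Set.toFinite _).card_lt_card (SetLike.coe_ssubset_coe.mpr hlt)⟩
  · rw [hW] at hU ⊢
    have hU' : cj g⁻¹ U ≤ ⁅V, E₁⁆ := by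
      have := Cfsg.Agent.Subnormal.cj_mono (g := g⁻¹) hU
      rwa [Cfsg.Agent.Subnormal.cj_inv_cj] at this
    have hn' : E₁ ≤ normalizer (cj g⁻¹ U : Set G) := fun c hc => by
      refine Cfsg.Agent.Subnormal.mem_normalizer_of_cj_eq ?_
      have h1 : cj (g * c * g⁻¹) U = U := Cfsg.Agent.Subnormal.cj_eq_of_mem_normalizer
        (hn (Cfsg.Agent.Subnormal.conj_mem_cj hc))
      conv_rhs => rw [← h1]
      rw [← Cfsg.Agent.Subnormal.cj_mul, ← Cfsg.Agent.Subnormal.cj_mul]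
      congr 1
      group
    rcases h.irr₁ _ hU' hn' with h1 | h1
    · exact Or.inl (by rw [← Cfsg.Agent.Subnormal.cj_cj_inv g U, h1, cj, Subgroup.map_bot])
    · exact Or.inr (by rw [← Cfsg.Agent.Subnormal.cj_cj_inv g U, h1])
  · rw [hW] at he
    exact (eq_of_le_of_card_ge he (Cfsg.Agent.Subnormal.card_cj g _).le).symm
  · rw [hW] at he
    exact eq_of_le_of_card_ge he (Cfsg.Agent.Subnormal.card_cj g _).ge

omit [Fact p.Prime] in
theorem inf_cj_eq_bot_of_moved {W₁ : Subgroup G} {g : G} (hd : W₁ ⊓ cj g W₁ = ⊥) {w : G}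
    (hw : w ∈ W₁) (hwg : g * w * g⁻¹ ∈ W₁) : w = 1 := by
  have := (eq_bot_iff_forall _).mp hd _ (mem_inf.mpr ⟨hwg, w, hw, rfl⟩)
  rwa [mul_inv_eq_one, mul_eq_left] at this

/-- A moved module embeds in the other one. -/
theorem card_le_of_moved (h : Cond p V E₁ E₂) {g : G} (hg : g ∈ E₂)
    (hd : ⁅V, E₁⁆ ⊓ cj g ⁅V, E₁⁆ = ⊥) :
    Nat.card ↥(⁅V, E₁⁆) ≤ Nat.card ↥(⁅V, E₂⁆) := by
  have hW1V : ⁅V, E₁⁆ ≤ V := Cfsg.Agent.Offender.commutator_le_left (le_sup_left.trans h.hEV)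
  set φ := (Cfsg.Agent.Offender.commHom V h.hV.1 g (h.hEV (mem_sup_right hg))).comp
    (inclusion hW1V) with hφ
  have hr : φ.range ≤ ⁅V, E₂⁆ := by
    rintro _ ⟨w, rfl⟩
    exact commutator_mem_commutator (hW1V w.2) hg
  have hk : φ.ker = ⊥ := (eq_bot_iff_forall _).mpr fun w hw => Subtype.ext <|
    inf_cj_eq_bot_of_moved hd w.2 (by
      have h1 : Commute (w : G) g :=
        commutatorElement_eq_one_iff_mul_comm.mp (MonoidHom.mem_ker.mp hw)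
      rw [h1.symm.eq, mul_inv_cancel_right]
      exact w.2)
  refine le_trans (le_of_eq ?_) (card_le_of_le hr)
  rw [← index_ker, hk, index_bot]

end

variable [Finite G] [Fact p.Prime]

theorem concl_of_cond {V E₁ E₂ : Subgroup G} (h : Cond p V E₁ E₂) : Concl V E₁ E₂ := by
  induction hn : Nat.card ↥(E₁ ⊔ E₂) using Nat.strong_induction_on generalizing E₁ E₂ with
  | _ n ih =>
  by_cases hn₂ : E₂ ≤ normalizer ((⁅V, E₁⁆ : Subgroup G) : Set G)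
  · exact h.concl_of_normalizes hn₂
  by_cases hn₁ : E₁ ≤ normalizer ((⁅V, E₂⁆ : Subgroup G) : Set G)
  · exact (h.symm.concl_of_normalizes hn₁).symm
  exfalso
  -- moved conjugates of either module meet it trivially
  have key : ∀ {F₁ F₂ : Subgroup G}, Cond p V F₁ F₂ → Nat.card ↥(F₁ ⊔ F₂) = n →
      ∀ g ∈ F₂, cj g ⁅V, F₁⁆ ≠ ⁅V, F₁⁆ → ⁅V, F₁⁆ ⊓ cj g ⁅V, F₁⁆ = ⊥ ∧
        cj g ⁅V, F₁⁆ ≤ centralizer (F₁ : Set G) := by
    intro F₁ F₂ hF hFn g hg hne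
    obtain ⟨hc, hW, hlt⟩ := hF.conj hg hne
    obtain ⟨hcom, hdis⟩ := ih _ (hFn ▸ hlt) hc rfl
    rw [hW] at hdis
    refine ⟨hdis, ?_⟩
    have hW1V : ⁅V, cj g F₁⁆ ≤ V :=
      Cfsg.Agent.Offender.commutator_le_left (le_sup_right.trans hc.hEV)
    have hF1n : F₁ ≤ normalizer ((⁅V, cj g F₁⁆ : Subgroup G) : Set G) := fun c hc' => by
      refine Cfsg.Agent.Subnormal.mem_normalizer_of_cj_le ?_
      simp only [cj]
      rw [map_commutator]
      refine commutator_mono (Cfsg.Agent.Subnormal.cj_eq_of_mem_normalizer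
        (hc.hEV (mem_sup_left hc'))).le (Cfsg.Agent.Subnormal.cj_eq_of_mem_normalizer ?_).le
      exact centralizer_le_normalizer _ ((commutator_eq_bot_iff_le_centralizer.mp hcom) hc')
    rw [← hW, ← commutator_eq_bot_iff_le_centralizer, ← le_bot_iff, ← hdis, ← hW]
    exact le_inf (commutator_mono hW1V le_rfl) (Cfsg.Agent.Offender.commutator_le_left hF1n)
  obtain ⟨g, hg, hgn⟩ := SetLike.not_le_iff_exists.mp hn₂
  obtain ⟨g', hg', hgn'⟩ := SetLike.not_le_iff_exists.mp hn₁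
  have hgne : cj g ⁅V, E₁⁆ ≠ ⁅V, E₁⁆ := fun e =>
    hgn (Cfsg.Agent.Subnormal.mem_normalizer_of_cj_eq e)
  obtain ⟨hdis, hfix⟩ := key h hn g hg hgne
  have hle21 : Nat.card ↥(⁅V, E₂⁆) ≤ Nat.card ↥(⁅V, E₁⁆) :=
    card_le_of_moved h.symm hg' (key h.symm (by rw [sup_comm]; exact hn) g' hg' fun e =>
      hgn' (Cfsg.Agent.Subnormal.mem_normalizer_of_cj_eq e)).1
  set W₁ := ⁅V, E₁⁆ with hW₁
  set W₂ := ⁅V, E₂⁆ with hW₂
  have hW1V : W₁ ≤ V := Cfsg.Agent.Offender.commutator_le_left (le_sup_left.trans h.hEV)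
  have hgV : g ∈ normalizer (V : Set G) := h.hEV (mem_sup_right hg)
  set φ := (Cfsg.Agent.Offender.commHom V h.hV.1 g hgV).comp (inclusion hW1V) with hφ
  have hr : φ.range ≤ W₂ := by
    rintro _ ⟨w, rfl⟩
    exact commutator_mem_commutator (hW1V w.2) hg
  have hk : φ.ker = ⊥ := (eq_bot_iff_forall _).mpr fun w hw => Subtype.ext <|
    inf_cj_eq_bot_of_moved hdis w.2 (by
      have h1 : Commute (w : G) g :=
        commutatorElement_eq_one_iff_mul_comm.mp (MonoidHom.mem_ker.mp hw)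
      rw [h1.symm.eq, mul_inv_cancel_right]
      exact w.2)
  have hrange : φ.range = W₂ := eq_of_le_of_card_ge hr
    (hle21.trans (le_of_eq (by rw [← index_ker, hk, index_bot])))
  -- `W₂` is a graph over `W₁`
  have hgraph : ∀ x ∈ W₂, ∃ w ∈ W₁, x = w * (g * w⁻¹ * g⁻¹) := by
    intro x hx
    obtain ⟨w, rfl⟩ := hrange.ge hx
    exact ⟨w, w.2, by
      show ⁅(w : G), g⁆ = _
      rw [commutatorElement_def]; group⟩
  have hcjV : cj g W₁ ≤ V := by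
    rintro _ ⟨w, hw, rfl⟩
    exact (mem_normalizer_iff.mp hgV w).mp (hW1V hw)
  have hW2le : W₂ ≤ W₁ ⊔ cj g W₁ := fun x hx => by
    obtain ⟨w, hw, rfl⟩ := hgraph x hx
    exact mul_mem (mem_sup_left hw) (mem_sup_right ⟨w⁻¹, inv_mem hw, rfl⟩)
  have h21 : W₁ ⊓ W₂ = ⊥ := (eq_bot_iff_forall _).mpr fun x hx => by
    obtain ⟨hx1, hx2⟩ := mem_inf.mp hx
    obtain ⟨w, hw, rfl⟩ := hgraph x hx2
    have : g * w⁻¹ * g⁻¹ ∈ W₁ := by simpa using mul_mem (inv_mem hw) hx1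
    rw [← inv_inv w, inf_cj_eq_bot_of_moved hdis (inv_mem hw) this]
    group
  have h2g : cj g W₁ ⊓ W₂ = ⊥ := (eq_bot_iff_forall _).mpr fun x hx => by
    obtain ⟨hx1, hx2⟩ := mem_inf.mp hx
    obtain ⟨w, hw, rfl⟩ := hgraph x hx2
    have h1 : g * w⁻¹ * g⁻¹ ∈ cj g W₁ := ⟨w⁻¹, inv_mem hw, rfl⟩
    have h2 : w ∈ cj g W₁ := by
      have h3 := mul_mem hx1 (inv_mem h1)
      rwa [mul_inv_cancel_right] at h3
    rw [(eq_bot_iff_forall _).mp hdis w (mem_inf.mpr ⟨hw, h2⟩)]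
    group
  -- two conjugates only
  have htwo : ∀ k ∈ E₂, cj k W₁ ≠ W₁ → cj k W₁ = cj g W₁ := by
    intro k hk hkne
    obtain ⟨-, hkfix⟩ := key h hn k hk hkne
    refine eq_of_le_of_card_ge ?_ (by rw [Cfsg.Agent.Subnormal.card_cj, Cfsg.Agent.Subnormal.card_cj])
    rintro x ⟨w, hw, rfl⟩
    change k * w * k⁻¹ ∈ cj g W₁
    have hmem : k * w * k⁻¹ ∈ W₁ ⊔ cj g W₁ := by
      rw [show k * w * k⁻¹ = w * ⁅w⁻¹, k⁆ by rw [commutatorElement_def]; group]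
      exact mul_mem (mem_sup_left hw) (hW2le (commutator_mem_commutator (hW1V (inv_mem hw)) hk))
    have hn' : W₁ ≤ normalizer (cj g W₁ : Set G) := fun u hu => centralizer_le_normalizer _
      fun z hz => Cfsg.Agent.Offender.commute_mem h.hV.1 (hcjV hz) (hW1V hu)
    obtain ⟨u, hu, u', hu', he⟩ := (Cfsg.Agent.Coprime.mem_sup_iff_of_le_normalizer hn').mp hmem
    have huc : u ∈ centralizer (E₁ : Set G) := by
      have h1 : k * w * k⁻¹ ∈ centralizer (E₁ : Set G) := hkfix ⟨w, hw, rfl⟩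
      rw [← he] at h1
      simpa using mul_mem h1 (inv_mem (hfix hu'))
    rw [← he, (eq_bot_iff_forall _).mp h.fix u (mem_inf.mpr ⟨hu, huc⟩), one_mul]
    exact hu'
  -- the stabilizer of `W₁` in `E₂` is trivial
  set K := E₂ ⊓ normalizer (W₁ : Set G) with hK
  have hKfix : ∀ k ∈ K, cj k (cj g W₁) = cj g W₁ := by
    intro k hk
    rw [← Cfsg.Agent.Subnormal.cj_mul]
    refine htwo _ (mul_mem (mem_inf.mp hk).1 hg) fun e => hgn ?_
    have := mul_mem (inv_mem (mem_inf.mp hk).2) (Cfsg.Agent.Subnormal.mem_normalizer_of_cj_eq e)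
    rwa [inv_mul_cancel_left] at this
  have hKnorm : E₂ ≤ normalizer (K : Set G) := by
    intro y hy
    refine Cfsg.Agent.Subnormal.mem_normalizer_of_cj_le ?_
    rintro _ ⟨k, hk, rfl⟩
    refine mem_inf.mpr ⟨mul_mem (mul_mem hy (mem_inf.mp hk).1) (inv_mem hy),
      Cfsg.Agent.Subnormal.mem_normalizer_of_cj_eq ?_⟩
    change cj (y * k * y⁻¹) W₁ = W₁
    rw [Cfsg.Agent.Subnormal.cj_mul, Cfsg.Agent.Subnormal.cj_mul]
    have hfixed : cj k (cj y⁻¹ W₁) = cj y⁻¹ W₁ := by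
      by_cases e : cj y⁻¹ W₁ = W₁
      · rw [e]; exact Cfsg.Agent.Subnormal.cj_eq_of_mem_normalizer (mem_inf.mp hk).2
      · rw [htwo _ (inv_mem hy) e]; exact hKfix k hk
    rw [hfixed, Cfsg.Agent.Subnormal.cj_cj_inv]
  have hKbot : K = ⊥ := by
    refine h.eq_bot_of_quadratic (Cfsg.Agent.Subnormal.sn_trans
      (Cfsg.Agent.Subnormal.sn_of_le_of_normalizer inf_le_left hKnorm) h.sn₂) ?_
    rw [commutator_eq_bot_iff_le_centralizer]
    refine (commutator_mono le_rfl inf_le_left).trans (hW2le.trans (sup_le ?_ ?_))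
    · rw [← commutator_eq_bot_iff_le_centralizer, ← le_bot_iff, ← h21]
      exact le_inf (Cfsg.Agent.Offender.commutator_le_left inf_le_right)
        (commutator_mono hW1V inf_le_left)
    · rw [← commutator_eq_bot_iff_le_centralizer, ← le_bot_iff, ← h2g]
      exact le_inf (Cfsg.Agent.Offender.commutator_le_left fun k hk =>
          Cfsg.Agent.Subnormal.mem_normalizer_of_cj_eq (hKfix k hk))
        (commutator_mono hcjV inf_le_left)
  have hsub : (E₂ : Set G) ⊆ {1, g} := by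
    intro y hy
    by_cases e : cj y W₁ = W₁
    · refine Or.inl (mem_bot.mp (hKbot.le ?_))
      exact mem_inf.mpr ⟨hy, Cfsg.Agent.Subnormal.mem_normalizer_of_cj_eq e⟩
    · refine Or.inr ?_
      have h1 : g⁻¹ * y ∈ K := mem_inf.mpr ⟨mul_mem (inv_mem hg) hy,
        Cfsg.Agent.Subnormal.mem_normalizer_of_cj_eq (by
          rw [Cfsg.Agent.Subnormal.cj_mul, htwo y hy e, Cfsg.Agent.Subnormal.cj_inv_cj])⟩
      rw [hKbot, mem_bot, inv_mul_eq_one] at h1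
      exact h1.symm
  have h1 := (Nat.card_mono (Set.toFinite _) hsub).trans_eq (Nat.card_coe_set_eq _)
  have h2 : Set.ncard ({1, g} : Set G) ≤ 2 :=
    (Set.ncard_insert_le _ _).trans (by rw [Set.ncard_singleton])
  have := h.hc₂
  rw [SetLike.coe_sort_coe] at h1
  omega

/-- Two subnormal subgroups acting irreducibly on their incomparable commutator modules, in a faithful group with trivial largest normal p-subgroup, generate their direct product, and the commutator module splits accordingly. -/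
theorem result {G : Type*} [Group G] [Finite G] {p : ℕ} [Fact p.Prime] (V E E₁ E₂ : Subgroup G) (hV : Cfsg.IsElementaryAbelian p V) (hEV : E ≤ Subgroup.normalizer (V : Set G)) (hf : E ⊓ Subgroup.centralizer (V : Set G) = ⊥) (hgen : E = E₁ ⊔ E₂) (hs₁ : (E₁.subgroupOf E).IsSubnormal) (hs₂ : (E₂.subgroupOf E).IsSubnormal) (hOp : Cfsg.pCore p ↥E = ⊥) (hirr₁ : (∀ U : Subgroup G, U ≤ ⁅V, E₁⁆ → E₁ ≤ Subgroup.normalizer (U : Set G) → U = ⊥ ∨ U = ⁅V, E₁⁆)) (hirr₂ : (∀ U : Subgroup G, U ≤ ⁅V, E₂⁆ → E₂ ≤ Subgroup.normalizer (U : Set G) → U = ⊥ ∨ U = ⁅V, E₂⁆)) (h12 : ¬ ⁅V, E₁⁆ ≤ ⁅V, E₂⁆) (h21 : ¬ ⁅V, E₂⁆ ≤ ⁅V, E₁⁆) (hc₁ : 2 < Nat.card E₁) (hc₂ : 2 < Nat.card E₂) : ⁅E₁, E₂⁆ = ⊥ ∧ E₁ ⊓ E₂ = ⊥ ∧ ⁅V, E₁⁆ ⊓ ⁅V, E₂⁆ = ⊥ ∧ ⁅V, E⁆ = ⁅V, E₁⁆ ⊔ ⁅V, E₂⁆ := by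
  subst hgen
  have h : Cond p V E₁ E₂ := ⟨hV, hEV, hf, ⟨le_sup_left, hs₁⟩, ⟨le_sup_right, hs₂⟩, fun D hD hDp => by
      have hD' : IsPGroup p (D.subgroupOf (E₁ ⊔ E₂)) :=
        hDp.comap_of_injective _ (Subgroup.subtype_injective _)
      have h1 := Cfsg.Agent.LocalStructure.le_pCore_of_isSubnormal hD.2 hD'
      rw [hOp, le_bot_iff, Subgroup.subgroupOf_eq_bot, disjoint_iff] at h1
      rwa [inf_eq_left.mpr hD.1] at h1,
    hirr₁, hirr₂, h12, h21, hc₁, hc₂⟩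
  obtain ⟨hcom, hdis⟩ := concl_of_cond h
  have hW : ∀ {E : Subgroup G}, E ≤ E₁ ⊔ E₂ → ⁅V, E⁆ ≤ V := fun hE =>
    Cfsg.Agent.Offender.commutator_le_left (hE.trans hEV)
  refine ⟨hcom, ?_, hdis, le_antisymm (Cfsg.Agent.Offender.commutator_le_of_le_trivOn (sup_le ?_ ?_))
    (sup_le (commutator_mono le_rfl le_sup_left) (commutator_mono le_rfl le_sup_right))⟩
  · refine le_bot_iff.mp fun x hx => ?_
    rw [← hf]
    refine mem_inf.mpr ⟨mem_sup_left (mem_inf.mp hx).1, fun v hv => ?_⟩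
    refine commutatorElement_eq_one_iff_mul_comm.mp (mem_bot.mp (hdis ▸ mem_inf.mpr
      ⟨commutator_mem_commutator hv (mem_inf.mp hx).1, commutator_mem_commutator hv (mem_inf.mp hx).2⟩))
  · exact fun y hy => Cfsg.Agent.Offender.mem_trivOn (sup_le (hW le_sup_left) (hW le_sup_right))
      fun v hv => mem_sup_left (commutator_mem_commutator hv hy)
  · exact fun y hy => Cfsg.Agent.Offender.mem_trivOn (sup_le (hW le_sup_left) (hW le_sup_right))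
      fun v hv => mem_sup_right (commutator_mem_commutator hv hy)

end Cfsg.Agent.S0615
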