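import Cfsg.Statements.S0617
import Cfsg.Agent.Lib.Offender.Decomposition
-- import your own Cfsg.Agent.* helpers here

set_option autoImplicit false
open Cfsg

namespace Cfsg.Agent.S0617

/-- Structure Theorem for failure of factorization: a faithful group generated by best offenders, with self-centralizing p'-core, is a direct product of copies of SL(2, p) (p = 2 or 3), each acting on its own plane in V, which is the direct product of these planes and C_V(H). -/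
theorem result {G : Type*} [Group G] [Finite G] {p : ℕ} [Fact p.Prime] (V H : Subgroup G) (hV : Cfsg.IsElementaryAbelian p V) (hHV : H ≤ Subgroup.normalizer (V : Set G)) (hf : H ⊓ Subgroup.centralizer (V : Set G) = ⊥) (hS1 : Subgroup.centralizer (Cfsg.pPrimeCore p ↥H : Set ↥H) ≤ Cfsg.pPrimeCore p ↥H) (hS3 : H = ⨆ A : {A : Subgroup G // A ≤ H ∧ Cfsg.IsBestOffenderOn p V A}, (A : Subgroup G)) (hH1 : H ≠ ⊥) : (p = 2 ∨ p = 3) ∧ (∀ E : {E : Subgroup G // ∃ A : Subgroup G, A ≤ H ∧ Cfsg.IsBestOffenderOn p V A ∧ ⁅V, A⁆ ≠ ⊥ ∧ (∀ B : Subgroup G, B ≤ A → Cfsg.IsBestOffenderOn p V B → ⁅V, B⁆ ≠ ⊥ → B = A) ∧ E = ⁅((Cfsg.pPrimeCore p ↥H).map H.subtype), A⁆ ⊔ A}, H ≤ Subgroup.normalizer ((E : Subgroup G) : Set G) ∧ Nonempty (↥(E : Subgroup G) ≃* Matrix.SpecialLinearGroup (Fin 2) (ZMod p)) ∧ Nat.card ↥(⁅V, (E : Subgroup G)⁆) = p ^ 2) ∧ iSupIndep (fun E : {E : Subgroup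 G // ∃ A : Subgroup G, A ≤ H ∧ Cfsg.IsBestOffenderOn p V A ∧ ⁅V, A⁆ ≠ ⊥ ∧ (∀ B : Subgroup G, B ≤ A → Cfsg.IsBestOffenderOn p V B → ⁅V, B⁆ ≠ ⊥ → B = A) ∧ E = ⁅((Cfsg.pPrimeCore p ↥H).map H.subtype), A⁆ ⊔ A} => (E : Subgroup G)) ∧ (⨆ E : {E : Subgroup G // ∃ A : Subgroup G, A ≤ H ∧ Cfsg.IsBestOffenderOn p V A ∧ ⁅V, A⁆ ≠ ⊥ ∧ (∀ B : Subgroup G, B ≤ A → Cfsg.IsBestOffenderOn p V B → ⁅V, B⁆ ≠ ⊥ → B = A) ∧ E = ⁅((Cfsg.pPrimeCore p ↥H).map H.subtype), A⁆ ⊔ A}, (E : Subgroup G)) = H ∧ iSupIndep (fun o : Option {E : Subgroup G // ∃ A : Subgroup G, A ≤ H ∧ Cfsg.IsBestOffenderOn p V A ∧ ⁅V, A⁆ ≠ ⊥ ∧ (∀ B : Subgroup G, B ≤ A → Cfsg.IsBestOffenderOn p V B → ⁅V, B⁆ ≠ ⊥ → B = A) ∧ E = ⁅((Cfsg.pPrimeCore p ↥H).map H.subtype), A⁆ ⊔ A} => o.elim (V ⊓ Subgroup.centralizer (H : Set G)) (fun E => ⁅V, (E : Subgroup G)⁆)) ∧ (V ⊓ Subgroup.centralizer (H : Set G)) ⊔ (⨆ E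 : {E : Subgroup G // ∃ A : Subgroup G, A ≤ H ∧ Cfsg.IsBestOffenderOn p V A ∧ ⁅V, A⁆ ≠ ⊥ ∧ (∀ B : Subgroup G, B ≤ A → Cfsg.IsBestOffenderOn p V B → ⁅V, B⁆ ≠ ⊥ → B = A) ∧ E = ⁅((Cfsg.pPrimeCore p ↥H).map H.subtype), A⁆ ⊔ A}, ⁅V, (E : Subgroup G)⁆) = V := by
  have h0 : Cfsg.Agent.Offender.FF p V H := ⟨hV, hHV, hf, hS1⟩
  have h : Cfsg.Agent.Offender.Gen p V H := ⟨h0, hS3.le⟩
  have hmem : ∀ E : Subgroup G, (∃ A : Subgroup G, A ≤ H ∧ Cfsg.IsBestOffenderOn p V A ∧ ⁅V, A⁆ ≠ ⊥ ∧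
      (∀ B : Subgroup G, B ≤ A → Cfsg.IsBestOffenderOn p V B → ⁅V, B⁆ ≠ ⊥ → B = A) ∧
      E = ⁅((Cfsg.pPrimeCore p ↥H).map H.subtype), A⁆ ⊔ A) ↔
      E ∈ Cfsg.Agent.Offender.eFam p V H := by
    intro E
    constructor
    · rintro ⟨A, hAH, hA, hAV, hmin, hE⟩
      exact ⟨A, hAH, h0.isTv_of_minimal hAH hA hAV hmin, hE⟩
    · rintro ⟨A, hAH, hT, hE⟩
      exact ⟨A, hAH, hT.isBestOffenderOn, hT.commutator_ne_bot,
        fun B hB _ hB' => hT.minimal B hB hB', hE⟩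
  obtain ⟨A₀, hA₀, hT₀⟩ := h.exists_tv hH1
  obtain ⟨a, e, x, P₀⟩ := h0.exists_pair hA₀ hT₀
  refine ⟨P₀.p_eq_two_or_three, ?_, ?_, ?_, ?_, ?_⟩
  · rintro ⟨E, hE⟩
    obtain ⟨A, hAH, hT, rfl⟩ := (hmem E).mp hE
    obtain ⟨a, e, x, P⟩ := h0.exists_pair hAH hT
    refine ⟨h.le_normalizer_eSub hAH hT, ?_, ?_⟩
    · obtain ⟨θ⟩ := P.exists_iso
      exact ⟨(MulEquiv.subgroupCongr P.eSub_eq).trans θ⟩
    · show Nat.card ↥(⁅V, Cfsg.Agent.Offender.eSub p H A⁆) = p ^ 2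
      rw [P.eSub_eq, P.W_eq, P.card_W]
  · rintro ⟨E, hE⟩
    rw [disjoint_iff, ← le_bot_iff]
    obtain ⟨A, hAH, hT, rfl⟩ := (hmem E).mp hE
    refine le_trans (inf_le_inf_left _ ?_) (h0.eSub_inf_centralizer hAH hT).le
    refine iSup₂_le fun F hF => (h0.eFam_commute ((hmem _).mp hE) ((hmem _).mp F.2) ?_).2
    exact fun e0 => hF (Subtype.ext e0)
  · rw [iSup_subtype]
    refine le_antisymm (iSup₂_le fun E hE => ?_) (h.eFam_iSup_eq.ge.trans ?_)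
    · obtain ⟨A, hAH, -, rfl⟩ := (hmem E).mp hE
      exact Cfsg.Agent.Offender.eSub_le hAH
    · exact iSup₂_le fun E hE => le_iSup₂_of_le E ((hmem E).mpr hE) le_rfl
  · rintro (_ | ⟨E, hE⟩)
    · rw [disjoint_iff, ← le_bot_iff]
      refine le_trans (inf_le_inf_left _ (iSup₂_le ?_)) h.centralizer_inf_planes.le
      rintro (_ | ⟨F, hF⟩) hne
      · exact absurd rfl hne
      · exact le_iSup₂_of_le F ((hmem F).mp hF) le_rfl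
    · rw [disjoint_iff, ← le_bot_iff]
      have hEm := (hmem E).mp hE
      obtain ⟨A, hAH, hT, rfl⟩ := hEm
      refine le_trans (inf_le_inf_left _ (iSup₂_le ?_)) (h0.plane_inf_centralizer hAH hT).le
      rintro (_ | ⟨F, hF⟩) hne
      · exact inf_le_right.trans (Subgroup.centralizer_le
          (SetLike.coe_subset_coe.mpr (Cfsg.Agent.Offender.eSub_le hAH)))
      · refine Subgroup.le_centralizer_iff.mp (h0.eFam_commute ((hmem F).mp hF) ((hmem _).mp hE) ?_).2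
        exact fun e0 => hne (congrArg some (Subtype.ext e0.symm))
  · rw [iSup_subtype]
    refine le_antisymm (sup_le inf_le_left (iSup₂_le fun E hE => h0.plane_le ((hmem E).mp hE))) ?_
    refine h.plane_sup_eq.ge.trans (sup_le le_sup_left ?_)
    exact le_sup_of_le_right (iSup₂_le fun E hE => le_iSup₂_of_le E ((hmem E).mpr hE) le_rfl)

end Cfsg.Agent.S0617
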