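import Cfsg.Statements.S0618
import Cfsg.Agent.Lib.Offender.Model
import Cfsg.Agent.S0608
-- import your own Cfsg.Agent.* helpers here

set_option autoImplicit false
open Cfsg

namespace Cfsg.Agent.S0618

/-- A p-separable group with trivial p'-core in which the Thompson factorization fails has p = 2 or 3, and J(G) induces on the normal closure of Ω₁(Z(S)) a group containing a normal SL(2, p). -/
theorem result {G : Type*} [Group G] [Finite G] {p : ℕ} [Fact p.Prime] (hsep : Cfsg.IsPSolvable p G) (hO : Cfsg.pPrimeCore p G = ⊥) (hnf : ¬ Cfsg.IsThompsonFactorizable p G) : (p = 2 ∨ p = 3) ∧ ∃ E : Subgroup G, Subgroup.centralizer ((⨆ S : Sylow p G, Cfsg.omegaOne p ((S : Subgroup G) ⊓ Subgroup.centralizer ((S : Subgroup G) : Set G))) : Set G) ≤ E ∧ E ≤ Cfsg.thompsonSubgroup p G ⊔ Subgroup.centralizer ((⨆ S : Sylow p G, Cfsg.omegaOne p ((S : Subgroup G) ⊓ Subgroup.centralizer ((S : Subgroup G) : Set G))) : Set G) ∧ Cfsg.thompsonSubgroup p G ⊔ Subgroup.centralizer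 ((⨆ S : Sylow p G, Cfsg.omegaOne p ((S : Subgroup G) ⊓ Subgroup.centralizer ((S : Subgroup G) : Set G))) : Set G) ≤ Subgroup.normalizer (E : Set G) ∧ ∃ hn : ((Subgroup.centralizer ((⨆ S : Sylow p G, Cfsg.omegaOne p ((S : Subgroup G) ⊓ Subgroup.centralizer ((S : Subgroup G) : Set G))) : Set G)).subgroupOf E).Normal, Nonempty ((↥E ⧸ (Subgroup.centralizer ((⨆ S : Sylow p G, Cfsg.omegaOne p ((S : Subgroup G) ⊓ Subgroup.centralizer ((S : Subgroup G) : Set G))) : Set G)).subgroupOf E) ≃* Matrix.SpecialLinearGroup (Fin 2) (ZMod p)) := by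
  have hc : Subgroup.centralizer (Cfsg.pCore p G : Set G) ≤ Cfsg.pCore p G :=
    Cfsg.Agent.PCore.centralizer_pCore_le hsep hO
  set W := ⨆ S : Sylow p G, Cfsg.omegaOne p ((S : Subgroup G) ⊓ Subgroup.centralizer ((S : Subgroup G) : Set G)) with hW
  have hCeq : Subgroup.centralizer (⨆ S : Sylow p G, ((Cfsg.omegaOne p ((S : Subgroup G) ⊓ Subgroup.centralizer ((S : Subgroup G) : Set G)) : Subgroup G) : Set G)) = Subgroup.centralizer (W : Set G) := by
    rw [hW, Subgroup.iSup_eq_closure, Subgroup.centralizer_closure, Set.iSup_eq_iUnion]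
  simp only [hCeq]
  have hWn : W.Normal := Cfsg.Agent.Offender.iSup_omegaZ_normal
  have hWe : Cfsg.IsElementaryAbelian p W := Cfsg.Agent.Offender.isElementaryAbelian_iSup_omegaZ hc
  have hgen := Cfsg.Agent.Offender.model_gen W hsep hWe
    (Cfsg.Agent.Offender.pCore_quotient_centralizer_eq_bot Cfsg.Agent.Offender.omegaZ_le_iSup_inf_centralizer)
  set θ := Cfsg.Agent.Offender.toModel W with hθ
  set H := (Cfsg.thompsonSubgroup p G).map θ with hH
  set C := Subgroup.centralizer (W : Set G) with hC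
  have hker : θ.ker = C := Cfsg.Agent.Offender.ker_toModel W
  have hH0 : H ≠ ⊥ := by
    intro h0
    rw [hH, Subgroup.map_eq_bot_iff, hker] at h0
    exact hnf ((Cfsg.Agent.S0608.result hO).mpr h0)
  obtain ⟨A, hAH, hA⟩ := hgen.exists_tv hH0
  obtain ⟨a, e, x, P⟩ := hgen.toFF.exists_pair hAH hA
  obtain ⟨τ⟩ := P.exists_iso
  set E₀ := Cfsg.Agent.Offender.eSub p H A with hE₀
  have hE₀H : E₀ ≤ H := Cfsg.Agent.Offender.eSub_le hAH
  refine ⟨P.p_eq_two_or_three, E₀.comap θ, hker.ge.trans (MonoidHom.ker_le_comap _ _), ?_, ?_, ?_⟩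
  · refine (Subgroup.comap_mono hE₀H).trans ?_
    rw [hH, Subgroup.comap_map_eq, hker]
  · refine le_trans ?_ (E₀.le_normalizer_comap θ)
    refine sup_le ?_ (hker.ge.trans (MonoidHom.ker_le_comap _ _))
    rw [← Subgroup.map_le_iff_le_comap]
    exact hgen.le_normalizer_eSub hAH hA
  · let f : ↥(E₀.comap θ) →* ↥E₀ := θ.subgroupComap E₀
    have hf : Function.Surjective f := by
      rintro ⟨y, hy⟩
      obtain ⟨g, -, rfl⟩ := hE₀H hy
      exact ⟨⟨g, hy⟩, rfl⟩
    have hfk : f.ker = C.subgroupOf (E₀.comap θ) := by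
      ext g
      rw [MonoidHom.mem_ker, Subgroup.mem_subgroupOf, ← hker, MonoidHom.mem_ker]
      exact ⟨fun h => congrArg Subtype.val h, fun h => Subtype.ext h⟩
    have hn' : ∀ K : Subgroup G, K = C → (K.subgroupOf (E₀.comap θ)).Normal :=
      fun K hK => hK ▸ hfk ▸ inferInstance
    have := hn' _ hCeq
    refine ⟨hn' _ rfl, ⟨?_⟩⟩
    exact (QuotientGroup.quotientMulEquivOfEq (by simp only [hCeq]; exact hfk.symm)).trans
      ((QuotientGroup.quotientKerEquivOfSurjective f hf).trans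
        ((MulEquiv.subgroupCongr P.eSub_eq).trans τ))

end Cfsg.Agent.S0618
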