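import Cfsg.Statements.S0619
import Cfsg.Agent.Lib.Offender.Model
-- import your own Cfsg.Agent.* helpers here

set_option autoImplicit false
open Cfsg
open scoped commutatorElement

namespace Cfsg.Agent.S0619

/-- For a p-separable group and a normal elementary abelian p-subgroup V with no nontrivial normal p-subgroup modulo its centralizer C, the Thompson subgroup J(G) moves Ω₁(Z(J(C))) only inside V. -/
theorem result {G : Type*} [Group G] [Finite G] {p : ℕ} [Fact p.Prime] (hsep : Cfsg.IsPSolvable p G) (V : Subgroup G) [V.Normal] (hV : Cfsg.IsElementaryAbelian p V) (hO : Cfsg.pCore p (G ⧸ Subgroup.centralizer (V : Set G)) = ⊥) : ⁅Cfsg.omegaOne p (Cfsg.centerThompsonOf p (Subgroup.centralizer (V : Set G))), Cfsg.thompsonSubgroup p G⁆ ≤ V := by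
  set C := Subgroup.centralizer (V : Set G) with hC
  set Y := Cfsg.omegaOne p (Cfsg.centerThompsonOf p C) with hY
  have hgen := Cfsg.Agent.Offender.model_gen V hsep hV hO
  have hVc : ∀ a ∈ V, ∀ b ∈ V, a * b = b * a := fun a ha b hb =>
    Cfsg.Agent.Offender.commute_mem hV.1 ha hb
  -- for `A` of largest order, `Y ≤ (A ∩ C) V`
  have key : ∀ A ∈ Cfsg.maxElementaryAbelianSubgroups p G, ∀ y ∈ Y, ∀ a ∈ A, ⁅y, a⁆ ∈ V := by
    intro A hA
    set θ := Cfsg.Agent.Offender.toModel V
    have hAH : A.map θ ≤ (Cfsg.thompsonSubgroup p G).map θ :=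
      Subgroup.map_mono (Cfsg.Agent.Offender.le_thompsonSubgroup hA)
    have hoff := Cfsg.Agent.Offender.isBestOffenderOn_map_toModel V
      (Cfsg.Agent.Offender.isBestOffenderOn_of_max hV hA)
    have hP := hgen.toFF.offV_eq_card hAH hoff
    rw [Cfsg.Agent.Offender.offV, Cfsg.Agent.Offender.card_inf_centralizer_map_toModel,
      Cfsg.Agent.Offender.card_modelV, Cfsg.Agent.Offender.inf_centralizer_eq_inf_of_max hV hA] at hP
    have hAc := Cfsg.Agent.Offender.card_map_toModel V A
    rw [← hC] at hAc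
    have hVn : A ⊓ C ≤ Subgroup.normalizer (V : Set G) := by
      rw [Subgroup.normalizer_eq_top]; exact le_top
    set D := (A ⊓ C) ⊔ V with hD
    have hcard := Cfsg.Agent.Offender.card_sup_mul_card_inf hVn
    have hi : A ⊓ C ⊓ V = V ⊓ A := by
      rw [inf_assoc, inf_eq_right.mpr (show V ≤ C from fun v hv w hw => hVc w hw v hv), inf_comm]
    rw [hi] at hcard
    have hDc : Nat.card D = Nat.card A := by
      refine Nat.eq_of_mul_eq_mul_right (Nat.card_pos (α := ↥(V ⊓ A))) ?_
      rw [hcard, ← hP, ← hAc]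
      ring
    have hDe : Cfsg.IsElementaryAbelian p D :=
      Cfsg.Agent.PGroup.isElementaryAbelian_sup (Cfsg.Agent.PGroup.isElementaryAbelian_mono hA.1 inf_le_left) hV
        fun c hc v hv => (Subgroup.mem_inf.mp hc).2 v hv |>.symm
    have hDmax : D ∈ Cfsg.maxElementaryAbelianSubgroups p G :=
      ⟨hDe, fun B hB => (hA.2 B hB).trans hDc.ge⟩
    have hDC : D ≤ C := sup_le inf_le_right fun v hv w hw => hVc w hw v hv
    have hYD : Y ≤ D := by
      rw [hY, Cfsg.Agent.PGroup.omegaOne_le_iff]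
      intro y hy hyp
      refine Cfsg.Agent.Offender.mem_of_commute_max hDmax hyp fun d hd => ?_
      exact (Subgroup.mem_inf.mp hy).2 d (Cfsg.Agent.Offender.le_thompsonSubgroupOf hDmax hDC hd)
    intro y hy a ha
    obtain ⟨c, hc, v, hv, rfl⟩ := (Cfsg.Agent.Coprime.mem_sup_iff_of_le_normalizer hVn).mp (hYD hy)
    rw [show ⁅c * v, a⁆ = c * ⁅v, a⁆ * c⁻¹ * ⁅c, a⁆ by simp only [commutatorElement_def]; group,
      commutatorElement_eq_one_iff_mul_comm.mpr
        (Cfsg.Agent.PGroup.mul_comm_of_elementaryAbelian hA.1 (Subgroup.mem_inf.mp hc).1 ha), mul_one]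
    refine Subgroup.Normal.conj_mem inferInstance _ ?_ c
    rw [commutatorElement_def, show v * a * v⁻¹ * a⁻¹ = v * (a * v⁻¹ * a⁻¹) by group]
    exact mul_mem hv (Subgroup.Normal.conj_mem inferInstance _ (inv_mem hv) a)
  refine Cfsg.Agent.Offender.commutator_le_of_le_trivOn ?_
  rw [Cfsg.Agent.Offender.thompsonSubgroup_le_iff]
  exact fun A hA a ha => ⟨by rw [Subgroup.normalizer_eq_top]; trivial, fun y hy => key A hA y hy a ha⟩

end Cfsg.Agent.S0619
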