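import Cfsg.Statements.S0620
import Cfsg.Agent.Lib.Offender.OperatorModel

set_option autoImplicit false
open Cfsg

namespace Cfsg.Agent.S0620

/-- Under coprime action of an elementary abelian q-group X on a p-separable group K with trivial p'-core, K is generated by the normalizer of J(S), the centralizer of Ω₁(Z(S)) and the fixed points of X. -/
theorem result {G : Type*} [Group G] [Finite G] {p : ℕ} [Fact p.Prime] {q : ℕ} [Fact q.Prime] (K X : Subgroup G) (hXK : X ≤ Subgroup.normalizer (K : Set G)) (hX : Cfsg.IsElementaryAbelian q X) (hq : ¬ q ∣ Nat.card K) (hsep : Cfsg.IsPSolvable p ↥K) (hO : Cfsg.pPrimeCore p ↥K = ⊥) (S : Sylow p ↥K) : (Subgroup.normalizer (Cfsg.thompsonSubgroupOf p (S : Subgroup ↥K) : Set ↥K) ⊔ Subgroup.centralizer (Cfsg.omegaOne p ((S : Subgroup ↥K) ⊓ Subgroup.centralizer ((S : Subgroup ↥K) : Set ↥K)) : Set ↥K) ⊔ (Subgroup.centralizer (X : Set G)).subgroupOf K) = ⊤ := by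
  classical
  have hc : Subgroup.centralizer (Cfsg.pCore p ↥K : Set ↥K) ≤ Cfsg.pCore p ↥K :=
    Cfsg.Agent.PCore.centralizer_pCore_le hsep hO
  set W := Cfsg.Agent.Offender.wSub p ↥K with hW
  have hgen := Cfsg.Agent.Offender.model_gen W hsep (Cfsg.Agent.Offender.isElementaryAbelian_iSup_omegaZ hc)
    (Cfsg.Agent.Offender.pCore_quotient_centralizer_eq_bot Cfsg.Agent.Offender.omegaZ_le_iSup_inf_centralizer)
  set θ := Cfsg.Agent.Offender.toModel W with hθ
  set J := Cfsg.thompsonSubgroup p ↥K with hJ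
  set H := J.map θ with hH
  set M := Subgroup.normalizer (Cfsg.thompsonSubgroupOf p (S : Subgroup ↥K) : Set ↥K) ⊔
    Subgroup.centralizer (Cfsg.omegaOne p ((S : Subgroup ↥K) ⊓
      Subgroup.centralizer ((S : Subgroup ↥K) : Set ↥K)) : Set ↥K) ⊔
    (Subgroup.centralizer (X : Set G)).subgroupOf K with hM
  have hker : θ.ker ≤ M := by
    rw [hθ, Cfsg.Agent.Offender.ker_toModel, hM]
    refine le_trans (Subgroup.centralizer_le (SetLike.coe_subset_coe.mpr ?_))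
      (le_sup_right.trans le_sup_left)
    exact le_iSup (fun T : Sylow p ↥K => Cfsg.Agent.Offender.omegaZ p (T : Subgroup ↥K)) S
  have hSM : (S : Subgroup ↥K) ≤ M := (Subgroup.le_normalizer.trans
    (Cfsg.Agent.Offender.normalizer_le_normalizer_thompsonSubgroupOf _)).trans
    (le_sup_left.trans le_sup_left)
  have hXM : (Subgroup.centralizer (X : Set G)).subgroupOf K ≤ M := le_sup_right
  have hNM : Subgroup.normalizer (Cfsg.thompsonSubgroupOf p (S : Subgroup ↥K) : Set ↥K) ≤ M :=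
    le_sup_left.trans le_sup_left
  have hJn : J.Normal := Cfsg.Agent.Offender.thompsonSubgroup_normal
  have hJS : Cfsg.thompsonSubgroupOf p (S : Subgroup ↥K) ≤ J ⊔ θ.ker := by
    refine le_trans ?_ le_sup_left
    rw [hJ, Cfsg.Agent.Offender.thompsonSubgroup_eq_iSup_sylow]
    exact le_iSup (fun T : Sylow p ↥K => Cfsg.thompsonSubgroupOf p (T : Subgroup ↥K)) S
  have htop := Cfsg.Agent.Offender.sup_normalizer_thompson_eq_top S (J ⊔ θ.ker) hJS
  suffices hHM : H ≤ M.map θ by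
    have hNle : J ⊔ θ.ker ≤ M := by
      rw [← Subgroup.comap_map_eq]
      exact (Subgroup.comap_mono hHM).trans (Subgroup.comap_map_eq θ M ▸ sup_le le_rfl hker)
    exact top_le_iff.mp (htop.ge.trans (sup_le hNle hNM))
  -- the operator group in the model
  have hXq : IsPGroup q X := fun t => ⟨1, Subtype.ext (by simpa using hX.2 t t.2)⟩
  have hcop : (Nat.card X).Coprime (Nat.card K) := by
    obtain ⟨n, hn⟩ := IsPGroup.iff_card.mp hXq
    rw [hn]
    exact Nat.Coprime.pow_left n ((Nat.Prime.coprime_iff_not_dvd Fact.out).mpr hq)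
  set T := (Cfsg.Agent.Offender.xi hXK p).range with hT
  have hTV : T ≤ Subgroup.normalizer _ := Cfsg.Agent.Offender.xi_range_le_normalizer_modelV (p := p) hXK
  have hTH : T ≤ Subgroup.normalizer _ := Cfsg.Agent.Offender.xi_range_le_normalizer_image (p := p) hXK
  refine hgen.le_of_tv fun B hBH hB => ?_
  -- a conjugate of `B` lies in the image of `S`
  obtain ⟨R, hR⟩ : ∃ R : Sylow p ↥H, ∀ y : ↥H, y ∈ (R : Subgroup ↥H) → (y : Cfsg.Agent.Offender.Model W) ∈ M.map θ := by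
    obtain ⟨P₀, hP₀⟩ := Cfsg.Agent.Offender.exists_sylow_eq_inf S J
    refine ⟨P₀.mapSurjective (θ.subgroupMap_surjective J), fun y hy => ?_⟩
    rw [Sylow.coe_mapSurjective] at hy
    obtain ⟨z, hz, rfl⟩ := hy
    refine ⟨z, hSM ?_, rfl⟩
    have hz' : (z : ↥K) ∈ (P₀ : Subgroup ↥J).map J.subtype := ⟨z, hz, rfl⟩
    rw [hP₀] at hz'
    exact (Subgroup.mem_inf.mp hz').1
  obtain ⟨a, e, x, P⟩ := hgen.toFF.exists_pair hBH hB
  have hBp : IsPGroup p B := IsPGroup.of_card (n := 1) (by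
    rw [P.gen, Nat.card_zpowers, P.order_a, pow_one])
  obtain ⟨R', hR'⟩ := (hBp.comap_of_injective H.subtype H.subtype_injective :
    IsPGroup p (B.comap H.subtype)).exists_le_sylow
  obtain ⟨h, rfl⟩ := MulAction.exists_smul_eq ↥H R R'
  set B' := Cfsg.Agent.Subnormal.cj (h.1⁻¹) B with hB'
  have hB'H : B' ≤ H := (Cfsg.Agent.Subnormal.cj_mono hBH).trans
    (Cfsg.Agent.Subnormal.cj_eq_of_mem_normalizer (Subgroup.le_normalizer (inv_mem h.2))).le
  have hB'tv : Cfsg.Agent.Offender.IsTv p _ B' := hB.conj (hgen.hHV (inv_mem h.2))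
  have hB'M : B' ≤ M.map θ := by
    rintro _ ⟨b, hb, rfl⟩
    have hb1 : (⟨b, hBH hb⟩ : ↥H) ∈ ((h • R : Sylow p ↥H) : Subgroup ↥H) := hR' hb
    rw [Sylow.coe_subgroup_smul] at hb1
    obtain ⟨r, hr, hrb⟩ := hb1
    have hrb' := congrArg Subtype.val hrb
    simp only [MulDistribMulAction.toMonoidEnd_apply, MulDistribMulAction.toMonoidHom_apply,
      MulAut.smul_def, MulAut.conj_apply, Subgroup.coe_mul, Subgroup.coe_inv] at hrb'
    show h.1⁻¹ * b * (h.1⁻¹)⁻¹ ∈ M.map θ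
    rw [← hrb']
    simpa [mul_assoc] using hR r hr

  suffices hE : Cfsg.Agent.Offender.eSub p H B' ≤ M.map θ by
    refine fun b hb => hE ?_
    have hb' : h.1⁻¹ * b * (h.1⁻¹)⁻¹ ∈ Cfsg.Agent.Offender.eSub p H B' :=
      le_sup_right (a := ⁅Cfsg.Agent.Offender.qcore p H, B'⁆) ⟨b, hb, rfl⟩
    have h1 := (Subgroup.mem_normalizer_iff.mp (hgen.le_normalizer_eSub hB'H hB'tv h.2) _).mp hb'
    simpa [mul_assoc] using h1
  -- both generators are in the image
  obtain ⟨a', e', x', P'⟩ := hgen.toFF.exists_pair hB'H hB'tv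
  obtain ⟨hq5, -, hqE⟩ := Cfsg.Agent.Offender.five_le_of_not_dvd (q := q) P' θ
    (Subgroup.map_le_range θ J) hq
  rw [P'.eSub_eq, P'.X_le_iff]
  refine ⟨hB'M P'.mem_a, ?_⟩
  have hord : orderOf (x' * a' * x'⁻¹) = p := by
    rw [← MulAut.conj_apply, MulEquiv.orderOf_eq, P'.order_a]
  obtain ⟨g, hgX, hg⟩ : ∃ g ∈ P'.X, x' * a' * x'⁻¹ ∈ Subgroup.zpowers (g * a' * g⁻¹) := by
    obtain ⟨φ⟩ := P'.exists_iso
    have hcard : Nat.card P'.X = p * (p ^ 2 - 1) := by
      rw [Nat.card_congr φ.toEquiv, Cfsg.Agent.GL.card_SL2, ZMod.card]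
    have hsyl : ∀ y : ↥P'.X, orderOf y = p → ∃ Q : Sylow p ↥P'.X, (Q : Subgroup ↥P'.X) = Subgroup.zpowers y := by
      intro y hy
      have hidx : ¬ p ∣ (Subgroup.zpowers y).index := by
        have h := (Subgroup.zpowers y).card_mul_index
        rw [Nat.card_zpowers, hy, hcard] at h
        rw [Nat.eq_of_mul_eq_mul_left (Nat.Prime.pos Fact.out) h]
        rcases P'.p_eq_two_or_three with rfl | rfl <;> norm_num
      exact ⟨(IsPGroup.of_card (n := 1) (by rw [Nat.card_zpowers, hy, pow_one])).toSylow hidx, rfl⟩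
    obtain ⟨Qa, hQa⟩ := hsyl ⟨a', P'.a_memX⟩ (by rw [Subgroup.orderOf_mk, P'.order_a])
    obtain ⟨Qb, hQb⟩ := hsyl ⟨_, P'.b_memX⟩ (by rw [Subgroup.orderOf_mk, hord])
    obtain ⟨g, rfl⟩ := MulAction.exists_smul_eq ↥P'.X Qa Qb
    refine ⟨g, g.2, ?_⟩
    have hmem : (⟨_, P'.b_memX⟩ : ↥P'.X) ∈ ((g • Qa : Sylow p ↥P'.X) : Subgroup ↥P'.X) :=
      hQb ▸ Subgroup.mem_zpowers _
    rw [Sylow.coe_subgroup_smul, hQa] at hmem
    obtain ⟨r, hr, hrb⟩ := hmem
    obtain ⟨n, rfl⟩ := Subgroup.mem_zpowers_iff.mp hr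
    have hrb' := congrArg Subtype.val hrb
    simp only [MulDistribMulAction.toMonoidEnd_apply, MulDistribMulAction.toMonoidHom_apply,
      MulAut.smul_def, MulAut.conj_apply, Subgroup.coe_mul, Subgroup.coe_inv,
      SubgroupClass.coe_zpow] at hrb'
    exact Subgroup.mem_zpowers_iff.mpr ⟨n, by rw [conj_zpow]; exact hrb'⟩
  obtain ⟨c, hcm, hcE, -⟩ := hgen.exists_fixed_realizing hTV hTH
    (Cfsg.Agent.Offender.isPGroup_xi_range hXK hXq) hq5 hB'H hB'tv hqE
    (e₀ := g) (P'.eSub_eq.symm ▸ hgX)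
  obtain ⟨hcH, hcT⟩ := Subgroup.mem_inf.mp hcm
  obtain ⟨k, -, rfl⟩ := hcH
  obtain ⟨k', hk', hkk⟩ := Cfsg.Agent.Offender.exists_lift_fixed (p := p) hXK hX.1 hcop k hcT
  have hconj : g * a' * g⁻¹ = θ k * a' * (θ k)⁻¹ := by
    have hcomm : (g⁻¹ * θ k) * a' = a' * (g⁻¹ * θ k) :=
      (hcE a' (P'.eSub_eq.symm ▸ P'.a_memX)).symm
    calc g * a' * g⁻¹ = g * (a' * (g⁻¹ * θ k)) * (θ k)⁻¹ := by group
      _ = g * ((g⁻¹ * θ k) * a') * (θ k)⁻¹ := by rw [hcomm]
      _ = θ k * a' * (θ k)⁻¹ := by group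
  have hkM : θ k ∈ M.map θ := ⟨k', hXM (Subgroup.mem_subgroupOf.mpr hk'), hkk⟩
  refine (Subgroup.zpowers_le.mpr ?_) hg
  rw [hconj]
  exact mul_mem (mul_mem hkM (hB'M P'.mem_a)) (inv_mem hkM)


end Cfsg.Agent.S0620
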