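import Cfsg.Statements.S0621
import Cfsg.Agent.Lib.Offender.OperatorModel
import Cfsg.Agent.S0608

set_option autoImplicit false
open Cfsg

namespace Cfsg.Agent.S0621

/-- Let K be p-separable with O_p'(K) = 1, normalized by an elementary abelian q-group X for a prime q not dividing the order of K. If the Thompson factorization fails in K, then p is 2 or 3 and the fixed points of X contain a plane W of order p² and a subgroup inducing SL(2, p) on it. -/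
theorem result {G : Type*} [Group G] [Finite G] {p : ℕ} [Fact p.Prime] {q : ℕ} [Fact q.Prime] (K X : Subgroup G) (hXK : X ≤ Subgroup.normalizer (K : Set G)) (hX : Cfsg.IsElementaryAbelian q X) (hq : ¬ q ∣ Nat.card K) (hsep : Cfsg.IsPSolvable p ↥K) (hO : Cfsg.pPrimeCore p ↥K = ⊥) (hnf : ¬ Cfsg.IsThompsonFactorizable p ↥K) : (p = 2 ∨ p = 3) ∧ ∃ W D : Subgroup G, W ≤ K ⊓ Subgroup.centralizer (X : Set G) ∧ D ≤ K ⊓ Subgroup.centralizer (X : Set G) ∧ Cfsg.IsElementaryAbelian p W ∧ Nat.card W = p ^ 2 ∧ D ≤ Subgroup.normalizer (W : Set G) ∧ ∃ hn : ((Subgroup.centralizer (W : Set G)).subgroupOf D).Normal, Nonempty ((↥D ⧸ (Subgroup.centralizer (W : Set G)).subgroupOf D) ≃* Matrix.SpecialLinearGroup (Fin 2) (ZMod p)) := by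
  classical
  have hc : Subgroup.centralizer (Cfsg.pCore p ↥K : Set ↥K) ≤ Cfsg.pCore p ↥K :=
    Cfsg.Agent.PCore.centralizer_pCore_le hsep hO
  set W := Cfsg.Agent.Offender.wSub p ↥K with hW
  have hWe : Cfsg.IsElementaryAbelian p W := Cfsg.Agent.Offender.isElementaryAbelian_iSup_omegaZ hc
  have hgen := Cfsg.Agent.Offender.model_gen W hsep hWe
    (Cfsg.Agent.Offender.pCore_quotient_centralizer_eq_bot Cfsg.Agent.Offender.omegaZ_le_iSup_inf_centralizer)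
  set θ := Cfsg.Agent.Offender.toModel W with hθ
  set H := (Cfsg.thompsonSubgroup p ↥K).map θ with hH
  have hH0 : H ≠ ⊥ := by
    intro h0
    rw [hH, Subgroup.map_eq_bot_iff, hθ, Cfsg.Agent.Offender.ker_toModel] at h0
    exact hnf ((Cfsg.Agent.S0608.result hO).mpr h0)
  obtain ⟨A, hAH, hA⟩ := hgen.exists_tv hH0
  obtain ⟨a, e, x, P⟩ := hgen.toFF.exists_pair hAH hA
  obtain ⟨τ⟩ := P.exists_iso
  set E := Cfsg.Agent.Offender.eSub p H A with hE
  set V := Cfsg.Agent.Offender.modelV W with hV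
  have hXq : IsPGroup q X := fun t => ⟨1, Subtype.ext (by simpa using hX.2 t t.2)⟩
  have hcop : (Nat.card X).Coprime (Nat.card K) := by
    obtain ⟨n, hn⟩ := IsPGroup.iff_card.mp hXq
    rw [hn]
    exact Nat.Coprime.pow_left n ((Nat.Prime.coprime_iff_not_dvd Fact.out).mpr hq)
  obtain ⟨hq5, hqp, hqE⟩ := Cfsg.Agent.Offender.five_le_of_not_dvd (q := q) P θ
    (Subgroup.map_le_range θ _) hq
  set T := (Cfsg.Agent.Offender.xi hXK p).range with hT
  have hTV : T ≤ Subgroup.normalizer _ :=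
    Cfsg.Agent.Offender.xi_range_le_normalizer_modelV (p := p) hXK
  have hTH : T ≤ Subgroup.normalizer _ :=
    Cfsg.Agent.Offender.xi_range_le_normalizer_image (p := p) hXK
  have hTq := Cfsg.Agent.Offender.isPGroup_xi_range (p := p) hXK hXq
  obtain ⟨Φ, hΦi, hΦm, hΦe⟩ := hgen.exists_fixed_plane hTV hTH hTq hq5 hAH hA hqp
  -- pull the plane back into `G`
  let Φ' : ↥⁅V, E⁆ →* ↥V := Φ.codRestrict V fun w => (Subgroup.mem_inf.mp (hΦm w)).1
  let unV : ↥V →* ↥W := (MonoidHom.ofInjective (Cfsg.Agent.Offender.ofV_injective W)).symm.toMonoidHom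
  let ψ : ↥⁅V, E⁆ →* ↥K := W.subtype.comp (unV.comp Φ')
  have hψof : ∀ w, Cfsg.Agent.Offender.ofV W (unV (Φ' w)) = Φ w := fun w =>
    MonoidHom.apply_ofInjective_symm (Cfsg.Agent.Offender.ofV_injective W) (Φ' w)
  have hψi : Function.Injective ψ := fun u v huv => hΦi (by
    rw [← hψof, ← hψof, Subtype.ext (show (unV (Φ' u) : ↥K) = unV (Φ' v) from huv)])
  set W₀ := ψ.range.map K.subtype with hW₀
  have hψX : ∀ w, ((ψ w : ↥K) : G) ∈ Subgroup.centralizer (X : Set G) := by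
    intro w t ht
    have h1 := Cfsg.Agent.Offender.xi_conj_ofV (p := p) hXK ⟨t, ht⟩ (unV (Φ' w))
    rw [hψof, show Cfsg.Agent.Offender.xi hXK p ⟨t, ht⟩ * Φ w = Φ w * Cfsg.Agent.Offender.xi hXK p ⟨t, ht⟩
      from (Subgroup.mem_inf.mp (hΦm w)).2 _ ⟨_, rfl⟩, mul_inv_cancel_right, ← hψof] at h1
    have h2 : t * ((ψ w : ↥K) : G) * t⁻¹ = ((ψ w : ↥K) : G) :=
      (congrArg (fun u : ↥W => ((u : ↥K) : G)) (Cfsg.Agent.Offender.ofV_injective W h1)).symm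
    exact mul_inv_eq_iff_eq_mul.mp h2
  have hcardW : Nat.card W₀ = p ^ 2 := by
    rw [hW₀, Subgroup.card_map_of_injective K.subtype_injective,
      ← Nat.card_congr (MonoidHom.ofInjective hψi).toEquiv, hE, P.eSub_eq, P.W_eq, P.card_W]
  -- the fixed points over `H`
  set D₀ := (Subgroup.centralizer (X : Set G)).subgroupOf K ⊓ H.comap θ with hD₀
  set D := D₀.map K.subtype with hD
  have hfixT : ∀ k ∈ D₀, θ k ∈ H ⊓ Subgroup.centralizer (T : Set (Cfsg.Agent.Offender.Model W)) := by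
    intro k hk
    obtain ⟨hkX, hkH⟩ := Subgroup.mem_inf.mp hk
    refine Subgroup.mem_inf.mpr ⟨hkH, ?_⟩
    rintro _ ⟨t, rfl⟩
    have h1 := Cfsg.Agent.Offender.xi_conj_toModel (p := p) hXK t k
    rw [show Cfsg.Agent.Offender.opAut hXK t k = k from Subtype.ext (mul_inv_eq_iff_eq_mul.mpr
      (Subgroup.mem_subgroupOf.mp hkX t t.2)), mul_inv_eq_iff_eq_mul] at h1
    exact h1
  have hEW : E ⊓ Subgroup.centralizer ((⁅V, E⁆ : Subgroup _) : Set _) = ⊥ :=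
    hgen.toFF.eSub_inf_centralizer hAH hA
  have hEn : E ≤ Subgroup.normalizer ((⁅V, E⁆ : Subgroup _) : Set (Cfsg.Agent.Offender.Model W)) :=
    (Cfsg.Agent.Offender.eSub_le hAH).trans (hgen.le_normalizer_plane hAH hA)
  have hcomm := hgen.commute_eSub hAH hA
  rw [Subgroup.commutator_eq_bot_iff_le_centralizer] at hcomm
  have hex : ∀ k : ↥D₀, ∃ u : ↥E, u.1⁻¹ * θ k ∈
      Subgroup.centralizer ((⁅V, E⁆ : Subgroup _) : Set (Cfsg.Agent.Offender.Model W)) := by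
    intro k
    have hk : θ k ∈ E ⊔ H ⊓ Subgroup.centralizer ((⁅V, E⁆ : Subgroup _) : Set _) :=
      (hgen.eSub_sup hAH hA).ge (Subgroup.mem_inf.mp (hfixT k k.2)).1
    obtain ⟨u, hu, c, hc, huc⟩ := (Cfsg.Agent.Coprime.mem_sup_iff_of_le_normalizer
      (hcomm.trans (Subgroup.centralizer_le_normalizer _))).mp hk
    exact ⟨⟨u, hu⟩, by rw [← huc, inv_mul_cancel_left]; exact (Subgroup.mem_inf.mp hc).2⟩
  have huniq : ∀ (y : Cfsg.Agent.Offender.Model W) (u u' : ↥E),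
      u.1⁻¹ * y ∈ Subgroup.centralizer ((⁅V, E⁆ : Subgroup _) : Set _) →
      u'.1⁻¹ * y ∈ Subgroup.centralizer ((⁅V, E⁆ : Subgroup _) : Set _) → u = u' := by
    intro y u u' hu hu'
    have h1 : (u⁻¹ * u' : ↥E).1 ∈ E ⊓ Subgroup.centralizer ((⁅V, E⁆ : Subgroup _) : Set _) := by
      refine Subgroup.mem_inf.mpr ⟨(u⁻¹ * u').2, ?_⟩
      simpa [mul_assoc] using mul_mem hu (inv_mem hu')
    rw [hEW, Subgroup.mem_bot] at h1
    exact inv_mul_eq_one.mp (Subtype.ext h1)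
  choose π₀ hπ₀ using hex
  let π : ↥D₀ →* ↥E := MonoidHom.mk' π₀ fun k l => by
    refine huniq (θ ↑(k * l)) _ _ (hπ₀ (k * l)) ?_
    have hc1 : (π₀ l).1 * ((π₀ k).1⁻¹ * θ k) = ((π₀ k).1⁻¹ * θ k) * (π₀ l).1 :=
      (hcomm (π₀ l).2 _ (Subgroup.mem_inf.mpr ⟨mul_mem
        (inv_mem (Cfsg.Agent.Offender.eSub_le hAH (π₀ k).2))
        (Subgroup.mem_inf.mp (hfixT k k.2)).1, hπ₀ k⟩)).symm
    have h2 : ((π₀ k * π₀ l : ↥E) : Cfsg.Agent.Offender.Model W)⁻¹ * θ ↑(k * l) =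
        ((π₀ k).1⁻¹ * θ k) * ((π₀ l).1⁻¹ * θ l) := by
      rw [Subgroup.coe_mul, Subgroup.coe_mul, map_mul, mul_inv_rev]
      calc (π₀ l).1⁻¹ * (π₀ k).1⁻¹ * (θ k * θ l)
          = (π₀ l).1⁻¹ * (((π₀ k).1⁻¹ * θ k) * (π₀ l).1) * (π₀ l).1⁻¹ * θ l := by group
        _ = (π₀ l).1⁻¹ * ((π₀ l).1 * ((π₀ k).1⁻¹ * θ k)) * (π₀ l).1⁻¹ * θ l := by rw [hc1]
        _ = _ := by group
    rw [h2]
    exact mul_mem (hπ₀ k) (hπ₀ l)
  have hπs : Function.Surjective π := by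
    intro u
    obtain ⟨c, hcm, -, hcW⟩ := hgen.exists_fixed_realizing hTV hTH hTq hq5 hAH hA hqE u.2
    obtain ⟨hcH, hcT⟩ := Subgroup.mem_inf.mp hcm
    obtain ⟨k, -, rfl⟩ := hcH
    obtain ⟨k', hk', hkk⟩ := Cfsg.Agent.Offender.exists_lift_fixed (p := p) hXK hX.1 hcop k hcT
    refine ⟨⟨k', Subgroup.mem_inf.mpr ⟨Subgroup.mem_subgroupOf.mpr hk', ?_⟩⟩, huniq (θ k') _ _ (hπ₀ _) ?_⟩
    · show θ k' ∈ H
      rw [hkk]
      exact (Subgroup.mem_inf.mp hcm).1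
    · rw [hkk]
      exact hcW
  have hact : ∀ (k : ↥D₀) (w : ↥⁅V, E⁆) (w' : ↥⁅V, E⁆),
      (π k).1 * w.1 * (π k).1⁻¹ = w'.1 →
      ((k : ↥K) : G) * (ψ w : ↥K) * ((k : ↥K) : G)⁻¹ = (ψ w' : ↥K) := by
    intro k w w' hww
    have h1 := hΦe (θ k) (hfixT k k.2) (π k) (π k).2 (hπ₀ k) w w' hww
    rw [← hψof w, ← hψof w', Cfsg.Agent.Offender.toModel_conj] at h1
    exact congrArg (fun u : ↥W => ((u : ↥K) : G)) (Cfsg.Agent.Offender.ofV_injective W h1)
  refine ⟨P.p_eq_two_or_three, W₀, D, ?_, ?_, ⟨?_, ?_⟩, hcardW, ?_, ?_⟩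
  · rintro _ ⟨_, ⟨w, rfl⟩, rfl⟩
    exact Subgroup.mem_inf.mpr ⟨(ψ w).2, hψX w⟩
  · rintro _ ⟨k, hk, rfl⟩
    exact Subgroup.mem_inf.mpr ⟨k.2, Subgroup.mem_subgroupOf.mp (Subgroup.mem_inf.mp hk).1⟩
  · refine Cfsg.Agent.PGroup.isMulCommutative_of_forall ?_
    rintro _ ⟨_, ⟨u, rfl⟩, rfl⟩ _ ⟨_, ⟨v, rfl⟩, rfl⟩
    show ((ψ u : ↥K) : G) * (ψ v : ↥K) = (ψ v : ↥K) * (ψ u : ↥K)
    rw [← Subgroup.coe_mul, ← Subgroup.coe_mul, show ψ u * ψ v = ψ v * ψ u from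
      Cfsg.Agent.Offender.commute_mem hWe.1 (unV (Φ' u)).2 (unV (Φ' v)).2]
  · rintro _ ⟨_, ⟨u, rfl⟩, rfl⟩
    rw [← map_pow, show ψ u ^ p = 1 from hWe.2 _ (unV (Φ' u)).2, map_one]
  · rintro _ ⟨k, hk, rfl⟩
    refine Cfsg.Agent.Subnormal.mem_normalizer_of_cj_le ?_
    rintro _ ⟨_, ⟨_, ⟨w, rfl⟩, rfl⟩, rfl⟩
    refine ⟨_, ⟨⟨_, (Subgroup.mem_normalizer_iff.mp (hEn (π ⟨k, hk⟩).2) _).mp w.2⟩, rfl⟩, ?_⟩
    exact (hact ⟨k, hk⟩ w _ rfl).symm
  · let f : ↥D →* ↥E := π.comp (D₀.equivMapOfInjective K.subtype K.subtype_injective).symm.toMonoidHom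
    have hf : Function.Surjective f := hπs.comp (MulEquiv.surjective _)
    have hval : ∀ d : ↥D, (((D₀.equivMapOfInjective K.subtype K.subtype_injective).symm d : ↥K) : G) = d :=
      fun d => congrArg Subtype.val
        ((D₀.equivMapOfInjective K.subtype K.subtype_injective).apply_symm_apply d)
    have hfk : f.ker = (Subgroup.centralizer (W₀ : Set G)).subgroupOf D := by
      ext d
      rw [MonoidHom.mem_ker, Subgroup.mem_subgroupOf]
      set k := (D₀.equivMapOfInjective K.subtype K.subtype_injective).symm d with hk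
      have hfd : f d = π k := rfl
      rw [hfd, ← hval d, ← hk]
      constructor
      · intro h1
        rintro _ ⟨_, ⟨w, rfl⟩, rfl⟩
        have h2 := hact k w w (by rw [h1]; simp)
        exact (mul_inv_eq_iff_eq_mul.mp h2).symm
      · intro h1
        have h2 : ((π k : ↥E) : Cfsg.Agent.Offender.Model W) ∈
            E ⊓ Subgroup.centralizer ((⁅V, E⁆ : Subgroup _) : Set _) := by
          refine Subgroup.mem_inf.mpr ⟨(π k).2, fun w hw => ?_⟩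
          have hw' := (Subgroup.mem_normalizer_iff.mp (hEn (π k).2) w).mp hw
          have h3 := hact k ⟨w, hw⟩ ⟨_, hw'⟩ rfl
          have h4 : ((ψ ⟨w, hw⟩ : ↥K) : G) * ((k : ↥K) : G) = ((k : ↥K) : G) * (ψ ⟨w, hw⟩ : ↥K) :=
            h1 _ ⟨_, ⟨_, rfl⟩, rfl⟩
          rw [← h4, mul_inv_cancel_right] at h3
          have h5 := congrArg Subtype.val (hψi (Subtype.ext h3))
          exact eq_mul_inv_iff_mul_eq.mp h5
        rw [hEW, Subgroup.mem_bot] at h2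
        exact Subtype.ext h2
    have hnormal : ((Subgroup.centralizer (W₀ : Set G)).subgroupOf D).Normal := by
      rw [← hfk]; infer_instance
    refine ⟨hnormal, ⟨?_⟩⟩
    exact (QuotientGroup.quotientMulEquivOfEq hfk.symm).trans
      ((QuotientGroup.quotientKerEquivOfSurjective f hf).trans
        ((MulEquiv.subgroupCongr P.eSub_eq).trans τ))


end Cfsg.Agent.S0621
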