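import Cfsg.Statements.S0627
import Cfsg.Agent.Lib.Quadratic.Stability
import Cfsg.Agent.Lib.Offender.StableClosure
import Cfsg.Agent.Lib.PCore.HallHigman

set_option autoImplicit false
open Cfsg

namespace Cfsg.Agent.S0627

/-- In a p-separable group with p at least 5, the normalizer of W(S) supplements the largest normal subgroup of order prime to p. -/
theorem result {G : Type*} [Group G] [Finite G] {p : ℕ} [Fact p.Prime] (hp : 5 ≤ p) (hsep : Cfsg.IsPSolvable p G) (S : Sylow p G) : Cfsg.pPrimeCore p G ⊔ Subgroup.normalizer (((Cfsg.stableNormalClosure p ↥(S : Subgroup G)).map (S : Subgroup G).subtype) : Set G) = ⊤ := by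
  set N := Cfsg.pPrimeCore p G with hN
  set π := QuotientGroup.mk' N
  have hπ := QuotientGroup.mk'_surjective N
  have hs' := Cfsg.Agent.PCore.isPSolvable_quotient hsep N
  have hc := Cfsg.Agent.PCore.centralizer_pCore_le hs' Cfsg.Agent.PCore.pPrimeCore_quotient_self_eq_bot
  set S' := S.mapSurjective hπ
  have hnorm := Cfsg.Agent.Offender.normal_stableNormalClosure
    (Cfsg.Agent.Quadratic.isActionPStable_of_pSolvable hp hs') hc S'
  have hdisj : (S : Subgroup G) ⊓ N = ⊥ :=
    Cfsg.Agent.PCore.disjoint_of_isPGroup_of_coprime S.2 Cfsg.Agent.PCore.coprime_card_pPrimeCore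
      |> disjoint_iff.mp
  -- `S ≅ S'`
  let f : (S : Subgroup G) →* (S' : Subgroup (G ⧸ N)) := π.subgroupMap (S : Subgroup G)
  have hf : Function.Bijective f := by
    refine ⟨(injective_iff_map_eq_one f).mpr fun x hx => ?_, π.subgroupMap_surjective _⟩
    refine Subtype.ext ((Subgroup.eq_bot_iff_forall _).mp hdisj x ⟨x.2, ?_⟩)
    exact (QuotientGroup.eq_one_iff _).mp (congrArg Subtype.val hx)
  have hW : ((Cfsg.stableNormalClosure p ↥(S' : Subgroup (G ⧸ N))).map
      (S' : Subgroup (G ⧸ N)).subtype) =
      ((Cfsg.stableNormalClosure p ↥(S : Subgroup G)).map (S : Subgroup G).subtype).map π := by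
    rw [← Cfsg.Agent.Offender.map_stableNormalClosure (MulEquiv.ofBijective f hf), Subgroup.map_map,
      Subgroup.map_map]
    rfl
  rw [hW] at hnorm
  set W := (Cfsg.stableNormalClosure p ↥(S : Subgroup G)).map (S : Subgroup G).subtype
  set M := (W.map π).comap π with hM
  have : M.Normal := hnorm.comap π
  have hWS : W ≤ (S : Subgroup G) := Subgroup.map_subtype_le _
  have hMeq : M = W ⊔ N := by rw [hM, Subgroup.comap_map_eq, QuotientGroup.ker_mk']
  have hWM : W ≤ M := hMeq ▸ le_sup_left
  have hindex : (W.subgroupOf M).index = Nat.card N := by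
    have h1 := (W.subgroupOf M).card_mul_index
    have h2 : Nat.card M = Nat.card W * Nat.card N := by
      rw [hMeq, Cfsg.Agent.Coprime.card_sup_of_le_normalizer
        (by rw [Subgroup.normalizer_eq_top]; exact le_top)
        (le_bot_iff.mp ((inf_le_inf_right _ hWS).trans hdisj.le))]
    rw [Cfsg.Agent.Coprime.card_subgroupOf hWM, h2] at h1
    exact Nat.eq_of_mul_eq_mul_left Nat.card_pos h1
  have hWp : IsPGroup p (W.subgroupOf M) :=
    (S.2.to_le hWS).comap_of_injective _ M.subtype_injective
  have hnd : ¬ p ∣ (W.subgroupOf M).index := by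
    rw [hindex]; exact Cfsg.Agent.PCore.not_dvd_card_pPrimeCore
  have htop := (hWp.toSylow hnd).normalizer_sup_eq_top (N := M)
  have hcoe : ((hWp.toSylow hnd : Sylow p M) : Subgroup M).map M.subtype = W :=
    (Subgroup.subgroupOf_map_subtype W M).trans (inf_eq_left.mpr hWM)
  rw [hcoe, hMeq, ← sup_assoc, sup_eq_left.mpr (Subgroup.le_normalizer (H := W)), sup_comm] at htop
  exact htop

end Cfsg.Agent.S0627
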