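import Cfsg.Statements.S0632
import Cfsg.Agent.Lib.PCore.Constrained

set_option autoImplicit false
open Cfsg

namespace Cfsg.Agent.S0632

/-- The automiser condition of `p`-stability passes to `G / O_{p'}(G)`. -/
theorem transfer {G : Type*} [Group G] [Finite G] {p : ℕ} [Fact p.Prime] {A P : Subgroup G}
    (hP : IsPGroup p P) (hA : A ≤ Subgroup.normalizer (P : Set G)) :
    (A.subgroupOf (Subgroup.normalizer (P : Set G))).map
        (QuotientGroup.mk' ((Subgroup.centralizer (P : Set G)).subgroupOf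
          (Subgroup.normalizer (P : Set G)))) ≤ pCore p _ ↔
      ((A.map (QuotientGroup.mk' (pPrimeCore p G))).subgroupOf
        (Subgroup.normalizer (P.map (QuotientGroup.mk' (pPrimeCore p G)) : Set (G ⧸ pPrimeCore p G)))).map
        (QuotientGroup.mk' ((Subgroup.centralizer
          (P.map (QuotientGroup.mk' (pPrimeCore p G)) : Set (G ⧸ pPrimeCore p G))).subgroupOf
          (Subgroup.normalizer (P.map (QuotientGroup.mk' (pPrimeCore p G)) : Set (G ⧸ pPrimeCore p G))))) ≤
        pCore p _ := by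
  set π := QuotientGroup.mk' (pPrimeCore p G) with hπ
  set NP := Subgroup.normalizer (P : Set G) with hNP
  set NP' := Subgroup.normalizer (P.map π : Set (G ⧸ pPrimeCore p G)) with hNP'
  have hmap : NP.map π = NP' := PCore.map_normalizer_mk' _ PCore.coprime_card_pPrimeCore hP
  let g : NP →* NP' := (π.comp NP.subtype).codRestrict NP' fun x => hmap ▸ ⟨x, x.2, rfl⟩
  have hg : Function.Surjective g := by
    rintro ⟨y, hy⟩
    obtain ⟨x, hx, hxy⟩ := hmap.ge hy
    exact ⟨⟨x, hx⟩, Subtype.ext hxy⟩
  set C' := (Subgroup.centralizer (P.map π : Set (G ⧸ pPrimeCore p G))).subgroupOf NP' with hC'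
  let f := (QuotientGroup.mk' C').comp g
  have hker : (Subgroup.centralizer (P : Set G)).subgroupOf NP = f.ker := by
    ext x
    rw [MonoidHom.mem_ker, MonoidHom.comp_apply, QuotientGroup.mk'_apply, QuotientGroup.eq_one_iff,
      Subgroup.mem_subgroupOf, hC', Subgroup.mem_subgroupOf, Subgroup.mem_centralizer_iff,
      Subgroup.mem_centralizer_iff]
    constructor
    · rintro h _ ⟨a, ha, rfl⟩
      show π a * π x = π x * π a
      rw [← map_mul, ← map_mul, h a ha]
    · intro h a ha
      have h1 : π (a * x) = π (x * a) := by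
        rw [map_mul, map_mul]; exact h _ ⟨a, ha, rfl⟩
      have h2 : (x : G) * a * (x : G)⁻¹ * a⁻¹ = 1 := by
        refine Subgroup.disjoint_def.mp
          (PCore.disjoint_of_isPGroup_of_coprime hP PCore.coprime_card_pPrimeCore)
          (mul_mem ((Subgroup.mem_normalizer_iff.mp x.2 a).mp ha) (inv_mem ha)) ?_
        rw [← QuotientGroup.eq_one_iff]
        have h3 : π ((x : G) * a * (x : G)⁻¹ * a⁻¹) = 1 := by
          rw [map_mul, map_mul, ← h1]
          simp
        exact h3
      rw [mul_inv_eq_one, mul_inv_eq_iff_eq_mul] at h2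
      exact h2.symm
  let e := (QuotientGroup.quotientMulEquivOfEq hker).trans
    (QuotientGroup.quotientKerEquivOfSurjective f ((QuotientGroup.mk'_surjective C').comp hg))
  have hAg : (A.subgroupOf NP).map g = (A.map π).subgroupOf NP' := by
    ext y
    constructor
    · rintro ⟨a, ha, rfl⟩
      exact ⟨_, ha, rfl⟩
    · rintro ⟨a, ha, hay⟩
      exact ⟨⟨a, hA ha⟩, ha, Subtype.ext hay⟩
  rw [← hAg, Subgroup.map_map, ← PCore.map_pCore_mulEquiv e,
    show (QuotientGroup.mk' C').comp g = e.toMonoidHom.comp (QuotientGroup.mk' _) from rfl,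
    ← Subgroup.map_map, Subgroup.map_le_map_iff_of_injective e.injective]


/-- For a group with a nontrivial normal p-subgroup, p-stability passes to and from the quotient by the largest normal subgroup of order prime to p. -/
theorem result {G : Type*} [Group G] [Finite G] {p : ℕ} [Fact p.Prime] (hO : Cfsg.pCore p G ≠ ⊥) : Cfsg.IsPStable p G ↔ Cfsg.IsPStable p (G ⧸ Cfsg.pPrimeCore p G) := by
  set N := pPrimeCore p G with hN
  haveI hNn : N.Normal := PCore.pPrimeCore_normal
  set π := QuotientGroup.mk' N with hπ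
  have hN' : (Nat.card N).Coprime p := PCore.coprime_card_pPrimeCore
  have hsurj : Function.Surjective π := QuotientGroup.mk'_surjective N
  have hOQ : pCore p (G ⧸ N) ≠ ⊥ := by
    intro h
    refine hO (le_bot_iff.mp (PCore.pCore_inf_pPrimeCore.le.trans' (le_inf le_rfl ?_)))
    have := PCore.map_pCore_le (p := p) π hsurj
    rwa [h, le_bot_iff, Subgroup.map_eq_bot_iff, QuotientGroup.ker_mk'] at this
  have hQ0 : pPrimeCore p (G ⧸ N) = ⊥ := PCore.pPrimeCore_quotient_self_eq_bot
  have hpp : pPrimePCore p (G ⧸ N) = pCore p (G ⧸ N) := PCore.pPrimePCore_eq_pCore hQ0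
  constructor
  · rintro ⟨hodd, -, hst⟩
    refine ⟨hodd, hOQ, fun A P hA hP hnorm hle hn hcomm => ?_⟩
    rw [hQ0, bot_sup_eq] at hn
    -- a Sylow subgroup of the preimage of `P`
    set M := P.comap π with hM
    let T : Sylow p M := default
    set P₀ := (T : Subgroup M).map M.subtype with hP₀
    have hP₀p : IsPGroup p P₀ := T.2.map _
    obtain ⟨m, hm⟩ : ∃ m, N.relIndex M = p ^ m := by
      rw [hM, PCore.relIndex_comap_mk']; exact hP.exists_card_eq
    have hNM : N ≤ M := (QuotientGroup.ker_mk' N).ge.trans (MonoidHom.ker_le_comap π P)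
    have hsup : P₀ ⊔ N = M := by
      have := congrArg (Subgroup.map M.subtype) (PCore.sylow_sup_eq_top T (N.subgroupOf M) hm)
      rwa [Subgroup.map_sup, Subgroup.subgroupOf_map_subtype, inf_eq_left.mpr hNM,
        ← MonoidHom.range_eq_map, Subgroup.range_subtype] at this
    have hmapP : P₀.map π = P := by
      have := congrArg (Subgroup.map π) hsup
      rwa [Subgroup.map_sup, (Subgroup.map_eq_bot_iff N).mpr (QuotientGroup.ker_mk' N).ge, sup_bot_eq,
        hM, Subgroup.map_comap_eq_self_of_surjective hsurj] at this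
    have hmapN : (Subgroup.normalizer (P₀ : Set G)).map π = ⊤ := by
      rw [PCore.map_normalizer_mk' N hN' hP₀p, hmapP, Subgroup.normalizer_eq_top_iff]
      exact hn
    -- a Sylow subgroup of the preimage of `A` in `N(P₀)`
    set L := A.comap π ⊓ Subgroup.normalizer (P₀ : Set G) with hL
    have hmapL : L.map π = A := by
      refine le_antisymm ((Subgroup.map_mono inf_le_left).trans (Subgroup.map_comap_le _ _))
        fun y hy => ?_
      obtain ⟨x, hx, rfl⟩ := hmapN.ge (Subgroup.mem_top y)
      exact ⟨x, ⟨hy, hx⟩, rfl⟩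
    let R : Sylow p L := default
    obtain ⟨k, hk⟩ : ∃ k, N.relIndex L = p ^ k := by
      rw [PCore.relIndex_eq_card_map_mk', hmapL]; exact hA.exists_card_eq
    set A₀ := (R : Subgroup L).map L.subtype with hA₀
    have hmapA : A₀.map π = A := by
      have h1 := congrArg (Subgroup.map L.subtype) (PCore.sylow_sup_eq_top R (N.subgroupOf L) hk)
      rw [Subgroup.map_sup, Subgroup.subgroupOf_map_subtype, ← MonoidHom.range_eq_map,
        Subgroup.range_subtype] at h1
      have h2 := congrArg (Subgroup.map π) h1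
      rwa [Subgroup.map_sup, hmapL, (Subgroup.map_eq_bot_iff _).mpr
        (inf_le_left.trans (QuotientGroup.ker_mk' N).ge), sup_bot_eq] at h2
    have hA₀n : A₀ ≤ Subgroup.normalizer (P₀ : Set G) :=
      (Subgroup.map_subtype_le _).trans inf_le_right
    have hnorm₀ : ∀ a ∈ A₀, ∀ x ∈ P₀, a * x * a⁻¹ ∈ P₀ := fun a ha x hx =>
      (Subgroup.mem_normalizer_iff.mp (hA₀n ha) x).mp hx
    have hcomm₀ : ⁅⁅P₀, A₀⁆, A₀⁆ = ⊥ := by
      refine le_bot_iff.mp (le_trans (le_inf ?_ ?_)
        (PCore.disjoint_of_isPGroup_of_coprime hP₀p hN').le_bot)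
      · have h1 : ⁅P₀, A₀⁆ ≤ P₀ := Subgroup.le_normalizer_iff_commutator_le_left.mp hA₀n
        exact (Subgroup.commutator_mono h1 le_rfl).trans h1
      · rw [← QuotientGroup.ker_mk' N, ← Subgroup.map_eq_bot_iff, Subgroup.map_commutator,
          Subgroup.map_commutator, hmapP, hmapA, hcomm]
    have hle₀ : P₀ ≤ pPrimePCore p G := by
      show P₀ ≤ (pCore p (G ⧸ N)).comap π
      rw [← Subgroup.map_le_iff_le_comap, hmapP, ← hpp]
      exact hle
    have hn₀ : (pPrimeCore p G ⊔ P₀).Normal := by
      rw [← hN, sup_comm, hsup, hM]; infer_instance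
    have := hst A₀ P₀ (R.2.map _) hP₀p hnorm₀ hle₀ hn₀ hcomm₀
    rw [transfer hP₀p hA₀n, hmapP, hmapA] at this
    exact this
  · rintro ⟨hodd, -, hst⟩
    refine ⟨hodd, hO, fun A P hA hP hnorm hle hn hcomm => ?_⟩
    have hAn : A ≤ Subgroup.normalizer (P : Set G) := by
      rw [Subgroup.le_normalizer_iff]
      exact hnorm
    rw [transfer hP hAn]
    refine hst (A.map π) (P.map π) (hA.map _) (hP.map _) ?_ ?_ ?_ ?_
    · rintro _ ⟨a, ha, rfl⟩ _ ⟨x, hx, rfl⟩
      exact ⟨_, hnorm a ha x hx, by simp⟩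
    · rw [hpp, ← PCore.map_pPrimePCore]
      exact Subgroup.map_mono hle
    · rw [hQ0, bot_sup_eq]
      have := hn.map π hsurj
      rwa [Subgroup.map_sup, ← hN, (Subgroup.map_eq_bot_iff N).mpr (QuotientGroup.ker_mk' N).ge,
        bot_sup_eq] at this
    · rw [← Subgroup.map_commutator, ← Subgroup.map_commutator, hcomm, Subgroup.map_bot]

end Cfsg.Agent.S0632
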