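import Cfsg.Statements.S0633
import Cfsg.Agent.Lib.HallHigmanCritical.TheoremB

set_option autoImplicit false
open Cfsg

namespace Cfsg.Agent.S0633

/-- Theorem B of Hall and Higman on the minimal polynomial of a p-element of order p^n in a p-solvable linear group on a nonzero vector space in characteristic p with no nontrivial normal p-subgroup: its degree is p^n, except when some p^n₀ - 1 (n₀ ≤ n) is a power of a prime q for which the Sylow q-subgroups are non-abelian, in which case the degree is at least p^(n-n₀)(p^n₀ - 1). -/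
theorem result {F : Type*} [Field F] {p : ℕ} [Fact p.Prime] [CharP F p] {V : Type*} [AddCommGroup V] [Module F V] [FiniteDimensional F V] [Nontrivial V] (H : Subgroup (V ≃ₗ[F] V)) [Finite H] (hsol : Cfsg.IsPSolvable p H) (hOp : Cfsg.pCore p H = ⊥) (x : V ≃ₗ[F] V) (hx : x ∈ H) (n : ℕ) (hn : orderOf x = p ^ n) (r : ℕ) (hr : minpoly F (x : Module.End F V) = (Polynomial.X - 1) ^ r) : r = p ^ n ∨ ∃ n₀ q m : ℕ, 1 ≤ n₀ ∧ n₀ ≤ n ∧ q.Prime ∧ 1 ≤ m ∧ p ^ n₀ - 1 = q ^ m ∧ (∀ Q : Sylow q H, ¬ IsMulCommutative Q) ∧ p ^ (n - n₀) * (p ^ n₀ - 1) ≤ r := by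
  classical
  have hp : p.Prime := Fact.out
  set xe : Module.End F V := (x : Module.End F V) with hxe
  let toEnd : (V ≃ₗ[F] V) →* Module.End F V := LinearEquiv.automorphismGroup.toLinearMapMonoidHom
  have hxpow : xe ^ p ^ n = 1 := by
    show (toEnd x) ^ p ^ n = 1
    rw [← map_pow, ← hn, pow_orderOf_eq_one, map_one]
  have : CharP (Module.End F V) p :=
    charP_of_injective_algebraMap (algebraMap F (Module.End F V)).injective p
  have hnil : (xe - 1) ^ r = 0 := by
    have := minpoly.aeval F xe
    rw [hr] at this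
    simpa using this
  have hrle : r ≤ p ^ n := by
    have hdvd : minpoly F xe ∣ (Polynomial.X - 1) ^ p ^ n := minpoly.dvd F xe (by
      rw [map_pow, map_sub, Polynomial.aeval_X, map_one,
        sub_pow_char_pow_of_commute p n (Commute.one_right xe), one_pow, hxpow, sub_self])
    rw [hr, ← map_one Polynomial.C] at hdvd
    have := Polynomial.natDegree_le_of_dvd hdvd
      (pow_ne_zero _ (Polynomial.X_sub_C_ne_zero (1 : F)))
    rwa [Polynomial.natDegree_pow, Polynomial.natDegree_pow, Polynomial.natDegree_X_sub_C, mul_one,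
      mul_one] at this
  rcases hrle.lt_or_eq with hlt | heq
  swap
  · exact Or.inl heq
  right
  rcases Nat.eq_zero_or_pos n with rfl | hn1
  · have hr0 : r = 0 := by simpa using hlt
    rw [hr0, pow_zero] at hnil
    exact absurd hnil one_ne_zero
  obtain ⟨d, E, hE⟩ := HallHigman.exists_extend F V
  have : CharP (AlgebraicClosure F) p :=
    charP_of_injective_algebraMap (algebraMap F (AlgebraicClosure F)).injective p
  let ψ : H →* Module.End (AlgebraicClosure F) (Fin d → AlgebraicClosure F) :=
    E.toMonoidHom.comp (toEnd.comp H.subtype)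
  have hψ : Function.Injective ψ :=
    hE.comp (LinearEquiv.toLinearMap_injective.comp Subtype.val_injective)
  exact HallHigmanCritical.exceptional_of_nilpotent ψ hψ hsol hOp hn1
    (x := ⟨x, hx⟩) (by rw [← Subgroup.orderOf_coe]; exact hn) r
    (by
      show (E xe - 1) ^ r = 0
      rw [← map_one E, ← map_sub, ← map_pow, hnil, map_zero]) hlt

end Cfsg.Agent.S0633
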