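import Cfsg.Statements.S0636
import Cfsg.Agent.S0126

open scoped commutatorElement

set_option autoImplicit false
open Cfsg

namespace Cfsg.Agent.S0636

/-- For odd p, every non-cyclic normal subgroup of a p-group contains a normal elementary abelian subgroup of the whole group of order p². -/
theorem result {R : Type*} [Group R] [Finite R] {p : ℕ} [Fact p.Prime] (hp : p ≠ 2) (hR : IsPGroup p R) (S : Subgroup R) [S.Normal] (hS : ¬ IsCyclic S) : ∃ A : Subgroup R, A ≤ S ∧ A.Normal ∧ Cfsg.IsElementaryAbelian p A ∧ Nat.card A = p ^ 2 := by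
  have hS' : IsPGroup p ↥S := hR.to_subgroup S
  obtain ⟨A, hAn, hA, hAc⟩ := S0126.result hp hS' hS
  set Z2 : Subgroup ↥S := Subgroup.upperCentralSeries ↥S 2 with hZ2
  have hAZ : A ≤ Z2 := by
    have hp' := Fact.out (p := p.Prime)
    have hne : A ≠ ⊥ := fun h => by
      rw [h, Subgroup.card_bot] at hAc
      exact absurd hAc (Nat.one_lt_pow two_ne_zero hp'.one_lt).ne
    have hlt := PGroup.commutator_top_lt hS' A hne
    have hcen : ⁅A, (⊤ : Subgroup ↥S)⁆ ≤ Subgroup.center ↥S := by
      obtain ⟨k, hk⟩ := PGroup.card_eq_pow hS' ⁅A, (⊤ : Subgroup ↥S)⁆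
      have h1 := PGroup.mul_card_le_card hS' hlt
      rw [hk, hAc, ← pow_succ', Nat.pow_le_pow_iff_right hp'.one_lt] at h1
      rcases (show k = 0 ∨ k = 1 by omega) with rfl | rfl
      · rw [(Subgroup.card_eq_one (H := ⁅A, (⊤ : Subgroup ↥S)⁆)).mp (by rw [hk, pow_zero])]; exact bot_le
      · exact PGroup.le_center_of_card_eq hS' _ (by rw [hk, pow_one])
    intro a ha
    rw [hZ2, Subgroup.mem_upperCentralSeries_succ_iff]
    intro y
    rw [Subgroup.upperCentralSeries_one]
    exact hcen (Subgroup.commutator_mem_commutator ha (Subgroup.mem_top y))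
  have hcl : commutator ↥Z2 ≤ Subgroup.center ↥Z2 := by
    rw [commutator_def, Subgroup.commutator_le]
    intro x _ y _
    rw [Subgroup.mem_center_iff]
    intro w
    have h1 := Subgroup.mem_upperCentralSeries_succ_iff.mp x.2 (y : ↥S)
    rw [Subgroup.upperCentralSeries_one] at h1
    exact Subtype.ext (Subgroup.mem_center_iff.mp h1 w)
  set O : Subgroup ↥S := omegaOne p Z2 with hO
  have hOexp : ∀ x ∈ O, x ^ p = 1 := by
    intro x hx
    let x' : ↥Z2 := ⟨x, PGroup.omegaOne_le _ hx⟩
    have hmem : x' ∈ omegaOne p (⊤ : Subgroup ↥Z2) := by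
      have h1 : x ∈ (omegaOne p (⊤ : Subgroup ↥Z2)).map Z2.subtype := by
        rw [PGroup.map_omegaOne_of_injective Z2.subtype_injective, ← MonoidHom.range_eq_map,
          Subgroup.range_subtype]
        exact hx
      obtain ⟨w, hw, hwx⟩ := h1
      rwa [show x' = w from Subtype.ext hwx.symm]
    have h2 := PGroup.pow_eq_one_of_mem_closure Fact.out hp hcl (fun w hw => hw.2) hmem
    exact congrArg Subtype.val h2
  have hOchar : O.Characteristic := PGroup.omegaOne_characteristic _
  set M : Subgroup R := O.map S.subtype with hM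
  have hMn : M.Normal := inferInstance
  have hAO : A ≤ O := fun a ha => PGroup.mem_omegaOne_of_pow_eq_one (hAZ ha) (hA.2 a ha)
  obtain ⟨B, hBn, -, hBM, hBc⟩ := PGroup.exists_normal_card_between hR ⊥ M bot_le 2
    (by simpa using Nat.one_le_pow _ _ (Fact.out (p := p.Prime)).pos)
    (by rw [hM, Subgroup.card_map_of_injective S.subtype_injective, ← hAc]
        exact Nat.le_of_dvd Nat.card_pos (Subgroup.card_dvd_of_le hAO))
  refine ⟨B, hBM.trans (Subgroup.map_subtype_le O), hBn,
    ⟨IsPGroup.isMulCommutative_of_card_eq_prime_sq hBc, fun b hb => ?_⟩, hBc⟩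
  obtain ⟨w, hw, rfl⟩ := hBM hb
  rw [← map_pow, hOexp w hw, map_one]

end Cfsg.Agent.S0636
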