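import Cfsg.Statements.S0638
import Cfsg.Agent.Lib.Fusion.MetacyclicOmega
import Cfsg.Agent.Lib.PGroup.UniqueOrderP
-- import your own Cfsg.Agent.* helpers here

set_option autoImplicit false
open Cfsg

namespace Cfsg.Agent.S0638

/-- For odd p, in a non-cyclic metacyclic p-group the elements of order dividing p generate an elementary abelian subgroup of order p². -/
theorem result {R : Type*} [Group R] [Finite R] {p : ℕ} [Fact p.Prime] (hp : p ≠ 2) (hR : IsPGroup p R) (hm : Cfsg.IsMetacyclic R) (hnc : ¬ IsCyclic R) : Cfsg.IsElementaryAbelian p (Cfsg.omegaOne p (⊤ : Subgroup R)) ∧ Nat.card ↥(Cfsg.omegaOne p (⊤ : Subgroup R)) = p ^ 2 := by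
  obtain ⟨C, hCn, hC, hQ⟩ := hm
  have hcomm : ∀ {x y : R}, x ^ p = 1 → y ^ p = 1 → x * y = y * x := fun hx hy =>
    Cfsg.Agent.Fusion.commute_of_pow_eq_one hR hp (C := C) hx hy
  let E : Subgroup R :=
    { carrier := {x | x ^ p = 1}
      one_mem' := one_pow _
      mul_mem' := fun {x y} hx hy => by
        rw [Set.mem_setOf_eq] at *
        rw [(show Commute x y from hcomm hx hy).mul_pow, hx, hy, one_mul]
      inv_mem' := fun {x} hx => by
        rw [Set.mem_setOf_eq] at *
        rw [inv_pow, hx, inv_one] }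
  have hE : Cfsg.omegaOne p (⊤ : Subgroup R) = E := by
    refine le_antisymm ((Subgroup.closure_le _).mpr fun x hx => hx.2) fun x hx => ?_
    exact Subgroup.subset_closure ⟨Subgroup.mem_top x, hx⟩
  rw [hE]
  refine ⟨⟨⟨⟨fun x y => Subtype.ext (hcomm x.2 y.2)⟩⟩, fun x hx => hx⟩, ?_⟩
  obtain ⟨n, hn⟩ := IsPGroup.iff_card.mp (hR.to_subgroup E)
  have h1 : Nat.card E ≤ p ^ 2 := Cfsg.Agent.Fusion.card_le_sq_of_exponent E (fun x hx => hx) (C := C)
  have hle : ∀ H : Subgroup R, Nat.card H = p → H ≤ E := fun H hH x hx => by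
    show x ^ p = 1
    have := pow_card_eq_one' (x := (⟨x, hx⟩ : H))
    rw [hH] at this
    exact congrArg Subtype.val this
  obtain ⟨H, K, hH, hK, hne⟩ : ∃ H K : Subgroup R, Nat.card H = p ∧ Nat.card K = p ∧ H ≠ K := by
    by_contra hcon
    push_neg at hcon
    rcases Cfsg.Agent.PGroup.cyclic_or_quaternion_of_unique hR hcon with h | ⟨h, -⟩
    exacts [hnc h, hp h]
  have hlt : H < E := by
    refine lt_of_le_of_ne (hle H hH) fun e => hne (Subgroup.eq_of_le_of_card_ge ?_ ?_).symm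
    · exact e ▸ hle K hK
    · rw [hH, hK]
  have h2 : p ^ 1 < p ^ n := by
    rw [pow_one, ← hn, ← hH]
    exact (Set.toFinite _).card_lt_card hlt
  rw [hn] at h1 ⊢
  have hp1 := (Fact.out : p.Prime).one_lt
  have h3 := (Nat.pow_lt_pow_iff_right hp1).mp h2
  have h4 := (Nat.pow_le_pow_iff_right hp1).mp h1
  rw [show n = 2 by omega]

end Cfsg.Agent.S0638
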