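import Cfsg.Statements.S0640
import Cfsg.Agent.Lib.PGroup.Critical
import Cfsg.Agent.Lib.PGroup.Class2
import Cfsg.Agent.Lib.Coprime.OmegaOne
import Cfsg.Agent.S3771
import Mathlib.GroupTheory.SemidirectProduct

set_option autoImplicit false
open Cfsg

namespace Cfsg.Agent.S0640

open scoped commutatorElement

theorem dvd_fixed_sub {R : Type*} [Group R] [Finite R] {φ : MulAut R} {q : ℕ} [Fact q.Prime]
    (hφ : orderOf φ = q) (K : Subgroup R) (hK : ∀ x ∈ K, φ x ∈ K) :
    (q : ℤ) ∣ (Nat.card K : ℤ) - Nat.card ↥(K ⊓ φ.toMonoidHom.eqLocus (MonoidHom.id R)) := by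
  have hpow : ∀ n : ℕ, ∀ x ∈ K, (φ ^ n) x ∈ K := by
    intro n
    induction n with
    | zero => intro x hx; simpa using hx
    | succ n ih => intro x hx; rw [pow_succ, MulAut.mul_apply]; exact ih _ (hK x hx)
  have hmem : ∀ (s : Subgroup.zpowers φ) (x : K), (s : MulAut R) x ∈ K := fun s x => by
    obtain ⟨n, hn⟩ := (isOfFinOrder_of_finite φ).mem_powers_iff_mem_zpowers.mpr s.2
    rw [← hn]
    exact hpow n x x.2
  let _ : MulAction (Subgroup.zpowers φ) K :=
    { smul := fun s x => ⟨(s : MulAut R) x, hmem s x⟩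
      one_smul := fun x => Subtype.ext rfl
      mul_smul := fun s t x => Subtype.ext rfl }
  have h := (IsPGroup.of_card (n := 1) (by rw [Nat.card_zpowers, hφ, pow_one]) :
    IsPGroup q (Subgroup.zpowers φ)).card_modEq_card_fixedPoints K
  have hc : Nat.card (MulAction.fixedPoints (Subgroup.zpowers φ) K) =
      Nat.card ↥(K ⊓ φ.toMonoidHom.eqLocus (MonoidHom.id R)) := by
    refine Nat.card_congr
      { toFun := fun x => ⟨(x : K), Subgroup.mem_inf.mpr ⟨x.1.2,
          congrArg Subtype.val (x.2 ⟨φ, Subgroup.mem_zpowers φ⟩)⟩⟩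
        invFun := fun x => ⟨⟨x, (Subgroup.mem_inf.mp x.2).1⟩, fun s => Subtype.ext ?_⟩
        left_inv := fun _ => rfl
        right_inv := fun _ => rfl }
    obtain ⟨n, hn⟩ := (isOfFinOrder_of_finite φ).mem_powers_iff_mem_zpowers.mpr s.2
    show (s : MulAut R) (x : R) = x
    rw [← hn]
    clear hn
    induction n with
    | zero => rfl
    | succ n ih =>
      show (φ ^ (n + 1)) (x : R) = x
      rw [pow_succ, MulAut.mul_apply]
      have h2 : φ (x : R) = x := (Subgroup.mem_inf.mp x.2).2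
      rw [h2]
      exact ih
  rw [← hc]
  exact Int.natCast_dvd_natCast.mpr dvd_rfl |>.trans (Nat.modEq_iff_dvd.mp h.symm)

theorem arith {p q i j : ℕ} (hp : p.Prime) (hp2 : p ≠ 2) (hq : q.Prime) (hqp : q ≠ p)
    (hij : j < i) (hd : i ≤ j + 2) (h : (q : ℤ) ∣ (p : ℤ) ^ i - (p : ℤ) ^ j) :
    q ∣ p ^ 2 - 1 ∧ q < p := by
  obtain ⟨d, rfl⟩ : ∃ d, i = j + d := ⟨i - j, by omega⟩
  rw [show (p : ℤ) ^ (j + d) - (p : ℤ) ^ j = ((p ^ j : ℕ) : ℤ) * ((p ^ d - 1 : ℕ) : ℤ) by
    rw [Nat.cast_sub (Nat.one_le_pow _ _ hp.pos)]; push_cast; ring, ← Nat.cast_mul,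
    Int.natCast_dvd_natCast] at h
  have hcop : q.Coprime (p ^ j) := Nat.Coprime.pow_right j ((Nat.coprime_primes hq hp).mpr hqp)
  have h2 : q ∣ p ^ 2 - 1 := by
    rcases (show d = 1 ∨ d = 2 by omega) with rfl | rfl
    · rw [pow_one] at h
      exact (hcop.dvd_of_dvd_mul_left h).trans (by simpa using Nat.sub_one_dvd_pow_sub_one p 2)
    · exact hcop.dvd_of_dvd_mul_left h
  refine ⟨h2, ?_⟩
  have h3 : p ^ 2 - 1 = (p + 1) * (p - 1) := by rw [← Nat.sq_sub_sq p 1, one_pow]
  rw [h3] at h2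
  rcases (Nat.Prime.dvd_mul hq).mp h2 with h4 | h4
  · have h5 : q ≤ p + 1 := Nat.le_of_dvd (by omega) h4
    have h6 := hp.two_le
    by_contra hlt
    have hq1 : q = p + 1 := by omega
    have h7 : 2 ∣ q := by
      rcases hp.eq_two_or_odd with h8 | h8
      · exact absurd h8 hp2
      · omega
    rcases hq.eq_one_or_self_of_dvd 2 h7 with h8 | h8 <;> omega
  · have h5 : q ≤ p - 1 := Nat.le_of_dvd (by have := hp.two_le; omega) h4
    omega

/-- For odd p, a prime q ≠ p dividing the order of the automorphism group of a p-group of rank at most 2 divides p² - 1 and is less than p. -/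
theorem result {R : Type*} [Group R] [Finite R] {p : ℕ} [Fact p.Prime] (hp : p ≠ 2) (hR : IsPGroup p R) (hrk : Cfsg.PRankLE p 2 R) (q : ℕ) (hq : q.Prime) (hqp : q ≠ p) (hdvd : q ∣ Nat.card (MulAut R)) : q ∣ p ^ 2 - 1 ∧ q < p := by
  have hpp : p.Prime := Fact.out
  have : Fact q.Prime := ⟨hq⟩
  have : Finite (MulAut R) :=
    Finite.of_injective (fun s : MulAut R => (s : R → R)) DFunLike.coe_injective
  obtain ⟨φ, hφ⟩ := exists_prime_orderOf_dvd_card' q hdvd
  obtain ⟨H, hHc, -, hHZ, hHC⟩ := Cfsg.Agent.PGroup.exists_critical hR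
  have hcl : ∀ x y : H, ⁅x, y⁆ ∈ Subgroup.center H := fun x y =>
    Subgroup.mem_center_iff.mpr fun z => by
      have h := hHZ (Subgroup.commutator_mem_commutator x.2 (Subgroup.mem_top (y : R)))
      exact Subtype.ext (Subgroup.mem_centralizer_iff.mp h.2 z z.2)
  let E : Subgroup R :=
    { carrier := {x | x ∈ H ∧ x ^ p = 1}
      one_mem' := ⟨one_mem _, one_pow _⟩
      mul_mem' := fun {a b} ha hb => ⟨mul_mem ha.1 hb.1, by
        have h1 : (⟨b, hb.1⟩ : H) ^ p = 1 := Subtype.ext hb.2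
        have h2 := Cfsg.Agent.PGroup.mul_pow_prime hpp hp (x := (⟨a, ha.1⟩ : H)) (y := ⟨b, hb.1⟩) (hcl _ _)
          (by rw [← Cfsg.Agent.PGroup.commutator_pow_left (hcl _ _), h1, commutatorElement_one_left])
        have h3 := congrArg Subtype.val h2
        simp only [SubmonoidClass.coe_pow, Subgroup.coe_mul] at h3
        rw [h3, ha.2, hb.2, one_mul]⟩
      inv_mem' := fun {a} ha => ⟨inv_mem ha.1, by rw [inv_pow, ha.2, inv_one]⟩ }
  have hHφ : ∀ x ∈ H, φ x ∈ H := fun x hx =>
    Subgroup.characteristic_iff_map_le.mp hHc φ (Subgroup.mem_map_of_mem _ hx)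
  have hEφ : ∀ x ∈ E, φ x ∈ E := fun x hx => ⟨hHφ x hx.1, by rw [← map_pow, hx.2, map_one]⟩
  set F := φ.toMonoidHom.eqLocus (MonoidHom.id R) with hF
  -- `φ` moves an element of order `p` of `H`
  have hne : ¬ E ≤ F := by
    intro hle
    have hone : φ = 1 := by
      refine Cfsg.Agent.PGroup.aut_eq_one_of_centralizer_le hR H hHC φ
        (by rw [hφ]; exact (Nat.coprime_primes hq hpp).mpr hqp) fun h hh => ?_
      let Γ := R ⋊[MonoidHom.id (MulAut R)] MulAut R
      have : Finite Γ := Finite.of_injective (fun x : Γ => (x.left, x.right)) fun _ _ h =>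
        SemidirectProduct.ext (congrArg Prod.fst h) (congrArg Prod.snd h)
      let ι : R →* Γ := SemidirectProduct.inl
      let α : Γ := SemidirectProduct.inr φ
      have hconj : ∀ x : R, α * ι x * α⁻¹ = ι (φ x) := fun x => by
        show SemidirectProduct.inr φ * SemidirectProduct.inl x * (SemidirectProduct.inr φ)⁻¹ = _
        rw [← map_inv]
        exact (SemidirectProduct.inl_aut φ x).symm
      have hN : Subgroup.zpowers α ≤ Subgroup.normalizer ((H.map ι : Subgroup Γ) : Set Γ) := by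
        rw [Subgroup.zpowers_le]
        refine Subgroup.mem_normalizer_iff.mpr fun n => ⟨?_, ?_⟩
        · rintro ⟨x, hx, rfl⟩
          exact ⟨φ x, hHφ x hx, (hconj x).symm⟩
        · rintro ⟨y, hy, hyn⟩
          refine ⟨φ⁻¹ y, Subgroup.characteristic_iff_map_le.mp hHc φ⁻¹ (Subgroup.mem_map_of_mem _ hy), ?_⟩
          have h1 := hconj (φ⁻¹ y)
          rw [MulAut.apply_inv_self, hyn] at h1
          exact mul_left_cancel (mul_right_cancel h1)
      have h1 := Cfsg.Agent.Coprime.le_centralizer_of_fix_pow_eq_one hp (H.map ι) (Subgroup.zpowers α)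
        ((hR.to_subgroup H).map ι) hN (by
          rw [Nat.card_zpowers, show orderOf α = orderOf φ from
            orderOf_injective _ SemidirectProduct.inr_injective φ, hφ]
          exact (Nat.coprime_primes hq hpp).mpr hqp)
        (by
          rintro _ ⟨x, hx, rfl⟩ hxp
          rw [Subgroup.zpowers_le, Subgroup.mem_centralizer_singleton_iff]
          have hx1 : x ^ p = 1 := SemidirectProduct.inl_injective (by rw [map_pow, map_one]; exact hxp)
          have h2 : φ x = x := hle ⟨hx, hx1⟩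
          have h3 := hconj x
          rw [h2, mul_inv_eq_iff_eq_mul] at h3
          exact h3)
      have h2 := hconj h
      rw [← show ι h * α = α * ι h from h1 (Subgroup.mem_zpowers α) _ ⟨h, hh, rfl⟩,
        mul_inv_cancel_right] at h2
      exact (SemidirectProduct.inl_injective h2).symm
    rw [hone, orderOf_one] at hφ
    exact hq.one_lt.ne hφ
  have hEp : IsPGroup p E := hR.to_subgroup E
  have hErk : Cfsg.PRankLE p 2 E := by
    intro A hAc hAp
    rw [← Subgroup.card_map_of_injective (K := A) E.subtype_injective]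
    refine hrk _ (Subgroup.map_isMulCommutative A E.subtype) ?_
    rintro _ ⟨a, ha, rfl⟩
    rw [← map_pow, hAp a ha, map_one]
  have hE3 : Nat.card E ≤ p ^ 3 := Cfsg.Agent.S3771.result hEp hErk fun x => Subtype.ext x.2.2
  obtain ⟨i, hi⟩ := hEp.exists_card_eq
  obtain ⟨j, hj⟩ := (hR.to_subgroup (E ⊓ F)).exists_card_eq
  have hdiv := dvd_fixed_sub hφ E hEφ
  rw [hi, ← hF, hj] at hdiv
  push_cast at hdiv
  have hi3 : i ≤ 3 := (Nat.pow_le_pow_iff_right hpp.one_lt).mp (hi ▸ hE3)
  have hji : j < i := by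
    refine (Nat.pow_lt_pow_iff_right hpp.one_lt).mp ?_
    rw [← hi, ← hj]
    refine lt_of_le_of_ne (Subgroup.card_le_of_le inf_le_left) fun h => hne ?_
    exact inf_eq_left.mp (Subgroup.eq_of_le_of_card_ge inf_le_left h.ge)
  by_cases hsmall : i ≤ j + 2
  · exact arith hpp hp hq hqp hji hsmall hdiv
  -- the fixed points of `φ` are trivial and `E` is non-abelian of order `p³`
  have hi' : i = 3 := by omega
  have hj' : j = 0 := by omega
  subst hi' hj'
  have hnab : ¬ IsMulCommutative E := fun hc => by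
    have h := hrk E hc fun x hx => hx.2
    rw [hi] at h
    exact absurd ((Nat.pow_le_pow_iff_right hpp.one_lt).mp h) (by omega)
  set Z := (Subgroup.center E).map E.subtype with hZ
  have hZφ : ∀ x ∈ Z, φ x ∈ Z := by
    rintro _ ⟨z, hz, rfl⟩
    refine ⟨⟨φ z, hEφ z z.2⟩, Subgroup.mem_center_iff.mpr fun g => ?_, rfl⟩
    have hg : φ⁻¹ (g : R) ∈ E := ⟨Subgroup.characteristic_iff_map_le.mp hHc φ⁻¹
      (Subgroup.mem_map_of_mem _ g.2.1), by rw [← map_pow, g.2.2, map_one]⟩
    have h := congrArg (fun w : E => φ (w : R)) (Subgroup.mem_center_iff.mp hz ⟨_, hg⟩)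
    simp only [Subgroup.coe_mul, map_mul, MulAut.apply_inv_self] at h
    exact Subtype.ext h
  obtain ⟨k, hk⟩ := (hR.to_subgroup Z).exists_card_eq
  obtain ⟨l, hl⟩ := (hR.to_subgroup (Z ⊓ F)).exists_card_eq
  have hl0 : l = 0 := by
    have h1 := Subgroup.card_le_of_le (inf_le_inf_right F (Subgroup.map_subtype_le (Subgroup.center E)))
    rw [← hZ, hl, hj] at h1
    have := (Nat.pow_le_pow_iff_right hpp.one_lt).mp h1
    omega
  have : Nontrivial E := Finite.one_lt_card_iff_nontrivial.mp (by rw [hi]; exact Nat.one_lt_pow (by omega) hpp.one_lt)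
  have hk0 : 0 < k := by
    rcases Nat.eq_zero_or_pos k with rfl | h
    · have h1 := hEp.center_nontrivial
      rw [pow_zero, hZ, Subgroup.card_map_of_injective E.subtype_injective] at hk
      exact absurd hk (Finite.one_lt_card_iff_nontrivial.mpr h1).ne'
    · exact h
  have hk2 : k ≤ 2 := by
    by_contra hlt
    have h1 : Nat.card (Subgroup.center E) = Nat.card E := le_antisymm (Subgroup.card_le_card_group _) (by
      rw [← Subgroup.card_map_of_injective (K := Subgroup.center E) E.subtype_injective, ← hZ, hk, hi]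
      exact Nat.pow_le_pow_right hpp.pos (by omega))
    refine hnab ⟨⟨fun a b => ?_⟩⟩
    exact (Subgroup.mem_center_iff.mp (Subgroup.eq_top_of_card_eq _ h1 ▸ Subgroup.mem_top b) a)
  have hdiv' := dvd_fixed_sub hφ Z hZφ
  rw [hk, ← hF, hl, hl0] at hdiv'
  push_cast at hdiv'
  exact arith hpp hp hq hqp hk0 (by omega) hdiv'


end Cfsg.Agent.S0640
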