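import Cfsg.Statements.S0642
import Cfsg.Agent.Lib.PGroup.Frattini
import Cfsg.Agent.Lib.PGroup.ElementaryAbelian

open scoped commutatorElement

set_option autoImplicit false
open Cfsg

namespace Cfsg.Agent.S0642

/-- Among finite 2-groups the regular ones are exactly the abelian ones. -/
theorem result {G : Type*} [Group G] [Finite G] (hG : IsPGroup 2 G) : Cfsg.IsRegularPGroup 2 G ↔ ∀ a b : G, a * b = b * a := by
  constructor
  · intro hreg a b
    let H : Subgroup G := Subgroup.closure {a, b}
    have : Fact (Nat.Prime 2) := ⟨Nat.prime_two⟩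
    obtain ⟨c, hc, he⟩ := hreg.2 a b 1
    rw [pow_one] at he
    let N : Subgroup ↥H := powerClosure 2 1 (commutator ↥H)
    have hN : N.map H.subtype = powerClosure 2 1 ⁅H, H⁆ := by
      rw [PGroup.map_powerClosure, Subgroup.map_subtype_commutator]
    have hNn : N.Normal := by
      refine ⟨fun x hx g => ?_⟩
      have h := Subgroup.mem_map_of_mem (MulAut.conj g).toMonoidHom hx
      rw [PGroup.map_powerClosure] at h
      refine PGroup.powerClosure_mono ?_ 1 (by simpa using h)
      rintro _ ⟨y, hy, rfl⟩
      simpa using Subgroup.Normal.conj_mem inferInstance y hy g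
    let α : ↥H := ⟨a, Subgroup.subset_closure (Set.mem_insert a _)⟩
    let β : ↥H := ⟨b, Subgroup.subset_closure (Set.mem_insert_of_mem a rfl)⟩
    have hmem : (α ^ 2 * β ^ 2)⁻¹ * (α * β) ^ 2 ∈ N := by
      have hcN : c ∈ N.map H.subtype := hN.symm ▸ hc
      obtain ⟨γ, hγ, hγc⟩ := hcN
      suffices heq : (α ^ 2 * β ^ 2)⁻¹ * (α * β) ^ 2 = γ by rw [heq]; exact hγ
      rw [inv_mul_eq_iff_eq_mul]
      apply Subtype.ext
      simp only [Subgroup.coe_mul, Subgroup.coe_pow, α, β]
      rw [he, ← hγc, Subgroup.coe_subtype]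
    have hab : QuotientGroup.mk' N α * QuotientGroup.mk' N β =
        QuotientGroup.mk' N β * QuotientGroup.mk' N α := by
      have h1 := (QuotientGroup.eq_one_iff _).mpr hmem
      change QuotientGroup.mk' N _ = 1 at h1
      simp only [map_mul, map_pow, map_inv, inv_mul_eq_one, pow_two, mul_assoc] at h1
      have h2 := mul_left_cancel h1
      rw [← mul_assoc, ← mul_assoc] at h2
      exact mul_right_cancel h2
    have htop : Subgroup.closure ({α, β} : Set ↥H) = ⊤ := by
      rw [← Subgroup.closure_closure_coe_preimage (k := ({a, b} : Set G))]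
      congr 1
      ext x
      simp only [Set.mem_insert_iff, Set.mem_singleton_iff, Set.mem_preimage, α, β, Subtype.ext_iff]
    have hcomm : IsMulCommutative (↥H ⧸ N) := by
      have himg : Subgroup.closure (QuotientGroup.mk' N '' {α, β}) = ⊤ := by
        rw [← MonoidHom.map_closure, htop,
          Subgroup.map_top_of_surjective _ (QuotientGroup.mk'_surjective N)]
      have h := Subgroup.isMulCommutative_closure
        (k := (QuotientGroup.mk' N '' {α, β} : Set (↥H ⧸ N))) ?_
      · rw [himg] at h
        exact ⟨⟨fun x y =>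
          congrArg Subtype.val (h.is_comm.comm ⟨x, Subgroup.mem_top x⟩ ⟨y, Subgroup.mem_top y⟩)⟩⟩
      · rw [Set.image_pair]
        rintro x (rfl | rfl) y (rfl | rfl) <;> first | rfl | exact hab | exact hab.symm
    have hK : commutator ↥H ≤ N :=
      Subgroup.Normal.quotient_commutative_iff_commutator_le.mp hcomm
    have hbot : commutator ↥H = ⊥ := by
      have hfr : frattini ↥(commutator ↥H) = ⊤ := by
        rw [eq_top_iff, ← Subgroup.map_le_map_iff_of_injective (commutator ↥H).subtype_injective,
          ← MonoidHom.range_eq_map, Subgroup.range_subtype]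
        refine hK.trans (PGroup.powerClosure_le_iff.mpr fun x hx => ?_)
        exact ⟨(⟨x, hx⟩ : ↥(commutator ↥H)) ^ 2,
          PGroup.pow_mem_frattini ((hG.to_subgroup H).to_subgroup _) _, by simp⟩
      have hsub : (⊥ : Subgroup ↥(commutator ↥H)) = ⊤ :=
        frattini_nongenerating (by rw [hfr, sup_top_eq])
      refine (Subgroup.eq_bot_iff_forall _).mpr fun x hx => ?_
      have hx' : (⟨x, hx⟩ : ↥(commutator ↥H)) ∈ (⊥ : Subgroup ↥(commutator ↥H)) :=
        hsub ▸ Subgroup.mem_top _
      exact congrArg Subtype.val (Subgroup.mem_bot.mp hx')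
    have h1 := commutatorElement_eq_one_iff_mul_comm.mp
      (Subgroup.mem_bot.mp (hbot.le (Subgroup.commutator_mem_commutator (Subgroup.mem_top α) (Subgroup.mem_top β))))
    exact congrArg Subtype.val h1
  · intro h
    exact ⟨hG, fun a b n => ⟨1, one_mem _, by rw [mul_one, Commute.mul_pow (h a b)]⟩⟩

end Cfsg.Agent.S0642
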