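import Cfsg.Statements.S0645
import Cfsg.Agent.Lib.PGroup.CyclicMaximal

set_option autoImplicit false
open Cfsg

namespace Cfsg.Agent.S0645

/-- Classification of p-groups with a cyclic maximal subgroup, odd p: a non-abelian one of order p^n has generators a of order p^(n-1) and b of order p, b outside the cyclic subgroup generated by a, with b a b⁻¹ = a^(1 + p^(n-2)). -/
theorem result {G : Type*} [Group G] [Finite G] {p : ℕ} [Fact p.Prime] (hp : p ≠ 2) (n : ℕ) (hn : 3 ≤ n) (hG : Nat.card G = p ^ n) (C : Subgroup G) (hC : IsCyclic C) (hCi : C.index = p) (hna : ∃ x y : G, x * y ≠ y * x) : ∃ a b : G, orderOf a = p ^ (n - 1) ∧ orderOf b = p ∧ b ∉ Subgroup.zpowers a ∧ b * a * b⁻¹ = a ^ (1 + p ^ (n - 2)) := by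
  obtain ⟨m, rfl⟩ : ∃ m, n = m + 1 := ⟨n - 1, by omega⟩
  have hnc : ¬ IsCyclic G := fun h => by
    obtain ⟨x, y, hxy⟩ := hna
    have := h.isMulCommutative
    exact hxy (Std.Commutative.comm (op := (· * ·)) x y)
  obtain ⟨a, b, r, -, ha, hb, hbA, hgen, hzc, hconj⟩ :=
    PGroup.cyclic_index_odd hp (by omega : 1 ≤ m) hG C hC hCi hnc
  rw [show m + 1 - 1 = m by omega, show m + 1 - 2 = m - 1 by omega]
  have hzp : (a ^ p ^ (m - 1)) ^ p = 1 := by
    rw [← pow_mul, ← pow_succ, show m - 1 + 1 = m by omega, ← ha, pow_orderOf_eq_one]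
  set z := a ^ p ^ (m - 1) with hz
  have hnd : ¬ (p : ℤ) ∣ r := by
    rintro ⟨q, rfl⟩
    rw [zpow_mul, zpow_natCast, hzp, one_zpow, mul_one] at hconj
    obtain ⟨x, y, hxy⟩ := hna
    exact hxy (PGroup.commute_of_generators hgen (mul_inv_eq_iff_eq_mul.mp hconj).symm x y)
  obtain ⟨x, y, hxy⟩ := (Nat.prime_iff_prime_int.mp (Fact.out (p := p.Prime))).coprime_iff_not_dvd.mpr hnd
  set j : ℕ := (y % p).toNat with hj
  have hpz : (0 : ℤ) < p := by exact_mod_cast (Fact.out (p := p.Prime)).pos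
  have hjr : z ^ (r * (j : ℤ)) = z := by
    have h2 : (j : ℤ) = y % p := Int.toNat_of_nonneg (Int.emod_nonneg _ (by omega))
    conv_rhs => rw [← zpow_one z]
    rw [PGroup.zpow_eq_zpow_iff_dvd]
    refine (Int.natCast_dvd_natCast.mpr (orderOf_dvd_of_pow_eq_one hzp)).trans ⟨-(r * (y / p)) - x, ?_⟩
    rw [h2, Int.emod_def]
    linear_combination hxy
  have hpow : ∀ k : ℕ, b ^ k * a * (b ^ k)⁻¹ = a * z ^ (r * (k : ℤ)) := by
    intro k
    induction k with
    | zero => simp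
    | succ k ih =>
      have hc : b * z ^ (r * (k : ℤ)) * b⁻¹ = z ^ (r * (k : ℤ)) := by
        rw [Subgroup.mem_center_iff.mp (Subgroup.zpow_mem _ hzc _) b, mul_inv_cancel_right]
      calc b ^ (k + 1) * a * (b ^ (k + 1))⁻¹ = b * (b ^ k * a * (b ^ k)⁻¹) * b⁻¹ := by
            rw [pow_succ']; group
        _ = (b * a * b⁻¹) * (b * z ^ (r * (k : ℤ)) * b⁻¹) := by rw [ih]; group
        _ = a * z ^ (r * ((k + 1 : ℕ) : ℤ)) := by
            rw [hc, hconj, mul_assoc, ← zpow_add]; congr 2; push_cast; ring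
  have hcop : Nat.Coprime p j := by
    refine (Nat.Prime.coprime_iff_not_dvd Fact.out).mpr fun hd => ?_
    obtain ⟨q, hq⟩ := hd
    rw [hq, Nat.cast_mul, mul_left_comm, zpow_mul, zpow_natCast, hzp, one_zpow] at hjr
    rw [← hjr, one_zpow, mul_one] at hconj
    obtain ⟨u, v, huv⟩ := hna
    exact huv (PGroup.commute_of_generators hgen (mul_inv_eq_iff_eq_mul.mp hconj).symm u v)
  refine ⟨a, b ^ j, ha, ?_, fun h => ?_, ?_⟩
  · rw [Nat.Coprime.orderOf_pow (by rw [hb]; exact hcop), hb]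
  · obtain ⟨u, v, huv⟩ := Nat.Coprime.isCoprime hcop
    apply hbA
    have : b = (b ^ j) ^ v := by
      rw [← zpow_natCast, ← zpow_mul]
      conv_lhs => rw [← zpow_one b, ← huv, zpow_add, mul_comm u, zpow_mul, zpow_natCast, ← hb,
        pow_orderOf_eq_one, one_zpow, one_mul, mul_comm v]
    rw [this]
    exact Subgroup.zpow_mem _ h v
  · rw [hpow, hjr, pow_add, pow_one]

end Cfsg.Agent.S0645
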