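import Cfsg.Statements.S0647
import Mathlib
-- import your own Cfsg.Agent.* helpers here

set_option autoImplicit false
open Cfsg

namespace Cfsg.Agent.S0647

/-- For a nonempty family of maximal abelian subgroups of a finite group, the intersection of the family is the centre of the subgroup it generates, which is also the full centralizer of that subgroup. -/
theorem result {S : Type*} [Group S] [Finite S] (𝒜 : Set (Subgroup S)) (hne : 𝒜.Nonempty) (hab : ∀ A ∈ 𝒜, IsMulCommutative A) (hmax : ∀ A ∈ 𝒜, ∀ B : Subgroup S, IsMulCommutative B → A ≤ B → B = A) : sInf 𝒜 = sSup 𝒜 ⊓ Subgroup.centralizer ((sSup 𝒜 : Subgroup S) : Set S) ∧ sInf 𝒜 = Subgroup.centralizer ((sSup 𝒜 : Subgroup S) : Set S) := by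
  obtain ⟨A₀, hA₀⟩ := hne
  have h2 : sInf 𝒜 = Subgroup.centralizer ((sSup 𝒜 : Subgroup S) : Set S) := by
    refine le_antisymm (Subgroup.le_centralizer_iff.mp (sSup_le fun A hA => ?_))
      (le_sInf fun A hA => ?_)
    · have := hab A hA
      exact (Subgroup.le_centralizer A).trans (Subgroup.centralizer_le (SetLike.coe_subset_coe.mpr (sInf_le hA)))
    · intro x hx
      have hcA : A ≤ Subgroup.centralizer (Subgroup.zpowers x : Set S) :=
        (le_sSup hA).trans
          (Subgroup.le_centralizer_iff.mp (Subgroup.zpowers_le.mpr hx))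
      have := hab A hA
      have hB : IsMulCommutative ↥(A ⊔ Subgroup.zpowers x) := by
        rw [← Subgroup.le_centralizer_iff_isMulCommutative]
        refine sup_le (Subgroup.le_centralizer_iff.mp (sup_le (Subgroup.le_centralizer A) ?_))
          (Subgroup.le_centralizer_iff.mp (sup_le hcA (Subgroup.le_centralizer _)))
        exact Subgroup.le_centralizer_iff.mp hcA
      rw [← hmax A hA _ hB le_sup_left]
      exact Subgroup.mem_sup_right (Subgroup.mem_zpowers x)
  refine ⟨?_, h2⟩
  rw [← h2, eq_comm, inf_eq_right]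
  exact (sInf_le hA₀).trans (le_sSup hA₀)

end Cfsg.Agent.S0647
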