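import Cfsg.Statements.S0648
import Mathlib.GroupTheory.Commutator.Basic
-- import your own Cfsg.Agent.* helpers here

set_option autoImplicit false
open Cfsg

namespace Cfsg.Agent.S0648

open Subgroup
open scoped commutatorElement

theorem comm_mul_left {G : Type*} [Group G] (u v w : G) : ⁅u * v, w⁆ = u * ⁅v, w⁆ * u⁻¹ * ⁅u, w⁆ := by
  simp [commutatorElement_def, mul_assoc]

theorem comm_mul_right {G : Type*} [Group G] (u v w : G) :
    ⁅u, v * w⁆ = ⁅u, v⁆ * (v * ⁅u, w⁆ * v⁻¹) := by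
  simp [commutatorElement_def, mul_assoc]

/-- The squares argument. -/
theorem sq_eq_one {G : Type*} [Group G] {b x y e e' a a' : G}
    (hbx : a * b * a⁻¹ = b * x) (hby : a' * b * a'⁻¹ = b * y)
    (hy : a * y * a⁻¹ = y * e) (hx : a' * x * a'⁻¹ = x * e')
    (hea : a * e * a⁻¹ = e) (hea' : a' * e * a'⁻¹ = e)
    (hD1 : a * ⁅b, y⁆ * a⁻¹ = ⁅b, y⁆) (hD3 : a * ⁅b, e⁆ * a⁻¹ = ⁅b, e⁆)
    (hD2' : a' * ⁅b, x⁆ * a'⁻¹ = ⁅b, x⁆) (hD3' : a' * ⁅b, e⁆ * a'⁻¹ = ⁅b, e⁆)
    (hk : Commute b ⁅x, y⁆) (hk' : ∀ g, g = ⁅b, e⁆ ∨ g = x ∨ g = y ∨ g = ⁅b, y⁆ ∨ g = ⁅b, x⁆ → Commute ⁅x, y⁆ g)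
    (hxe : Commute b ⁅x, e⁆) (hye : Commute b ⁅y, e⁆) (hyD : Commute y ⁅b, e⁆)
    (hxD : Commute x ⁅b, e⁆) (he' : e' = ⁅x, y⁆ * e) : ⁅x, y⁆ ^ 2 = 1 := by
  set k := ⁅x, y⁆ with hkdef
  -- elements fixed by `a` commute with `x`
  have hx0 : ⁅x, e⁆ = 1 := by
    have h : ⁅b * x, e⁆ = ⁅b, e⁆ := by
      conv_rhs => rw [← hD3, ← MulAut.conj_apply, map_commutatorElement, MulAut.conj_apply,
        MulAut.conj_apply, hbx, hea]
    rw [comm_mul_left, hxe.eq, mul_inv_cancel_right] at h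
    exact mul_eq_right.1 h
  have hy0 : ⁅y, e⁆ = 1 := by
    have h : ⁅b * y, e⁆ = ⁅b, e⁆ := by
      conv_rhs => rw [← hD3', ← MulAut.conj_apply, map_commutatorElement, MulAut.conj_apply,
        MulAut.conj_apply, hby, hea']
    rw [comm_mul_left, hye.eq, mul_inv_cancel_right] at h
    exact mul_eq_right.1 h
  -- `k ⁅b, e⁆ = 1`
  have h1 : k * ⁅b, e⁆ = 1 := by
    have h : ⁅b * x, y * e⁆ = ⁅b, y⁆ := by
      conv_rhs => rw [← hD1, ← MulAut.conj_apply, map_commutatorElement, MulAut.conj_apply,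
        MulAut.conj_apply, hbx, hy]
    rw [comm_mul_left, comm_mul_right, comm_mul_right, ← hkdef, hx0, mul_one, mul_inv_cancel,
      mul_one, hk.eq, mul_inv_cancel_right, hyD.eq, mul_inv_cancel_right, ← mul_assoc,
      (hk' _ (Or.inr (Or.inr (Or.inr (Or.inl rfl))))).eq, mul_assoc] at h
    exact mul_eq_left.1 h
  -- `k⁻¹ ⁅b, e⁆ = 1`
  have h2 : k⁻¹ * ⁅b, e⁆ = 1 := by
    have hyk : ⁅y, x⁆ = k⁻¹ := by rw [hkdef, commutatorElement_inv]
    have hye' : ⁅y, e'⁆ = 1 := by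
      rw [he', comm_mul_right, hy0, mul_one, mul_inv_cancel, mul_one]
      exact commutatorElement_eq_one_iff_mul_comm.2 (hk' y (Or.inr (Or.inr (Or.inl rfl)))).eq.symm
    have hbe' : ⁅b, e'⁆ = ⁅b, e⁆ := by
      rw [he', comm_mul_right, commutatorElement_eq_one_iff_mul_comm.2 hk.eq, one_mul,
        (hk' _ (Or.inl rfl)).eq, mul_inv_cancel_right]
    have h : ⁅b * y, x * e'⁆ = ⁅b, x⁆ := by
      conv_rhs => rw [← hD2', ← MulAut.conj_apply, map_commutatorElement, MulAut.conj_apply,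
        MulAut.conj_apply, hby, hx]
    rw [comm_mul_left, comm_mul_right, comm_mul_right, hye', hyk, mul_one, mul_inv_cancel, mul_one,
      hk.inv_right.eq, mul_inv_cancel_right, hbe', hxD.eq, mul_inv_cancel_right, ← mul_assoc,
      (hk' _ (Or.inr (Or.inr (Or.inr (Or.inr rfl))))).inv_left.eq, mul_assoc] at h
    exact mul_eq_left.1 h
  have h3 : k = k⁻¹ := mul_right_cancel (h1.trans h2.symm)
  rw [pow_two]
  exact mul_eq_one_iff_eq_inv.2 h3


/-- If A acts on B centralizing [B, B], then [B, A] has derived subgroup central in B, and for abelian A and b ∈ B with [[b, A], A, A] = 1 the derived subgroup of the subgroup [b, A] generated by the commutators of b with A has exponent dividing 2. -/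
theorem result {G : Type*} [Group G] [Finite G] (A B : Subgroup G) (hAB : A ≤ Subgroup.normalizer (B : Set G)) (hc : ⁅⁅B, B⁆, A⁆ = ⊥) : ⁅⁅B, A⁆, ⁅B, A⁆⁆ ≤ B ⊓ Subgroup.centralizer (B : Set G) ∧ (IsMulCommutative A → ∀ b ∈ B, ⁅⁅(Subgroup.closure {g : G | ∃ a ∈ A, g = b⁻¹ * a * b * a⁻¹}), A⁆, A⁆ = ⊥ → ∀ w ∈ ⁅(Subgroup.closure {g : G | ∃ a ∈ A, g = b⁻¹ * a * b * a⁻¹}), (Subgroup.closure {g : G | ∃ a ∈ A, g = b⁻¹ * a * b * a⁻¹})⁆, w ^ 2 = 1) := by
  set D := ⁅B, B⁆ with hD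
  set C := ⁅B, A⁆ with hC
  have hDB : D ≤ B := Subgroup.commutator_le_self B
  have hCB : C ≤ B := Subgroup.le_normalizer_iff_commutator_le_left.1 hAB
  -- `A` centralises `D`, hence so does `C`
  have hDA : ∀ d ∈ D, ∀ a ∈ A, a * d = d * a := fun d hd a ha =>
    (commutatorElement_eq_one_iff_mul_comm.1 (by
      rw [← Subgroup.mem_bot, ← hc]
      exact Subgroup.commutator_mem_commutator hd ha)).symm
  have hDBD : ⁅D, B⁆ ≤ D := Subgroup.commutator_mono hDB le_rfl
  have hCD : ⁅C, D⁆ = ⊥ := by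
    rw [hC]
    refine Subgroup.commutator_commutator_eq_bot_of_rotate ?_ ?_
    · rw [Subgroup.commutator_comm A D, hc, Subgroup.commutator_bot_left]
    · exact le_bot_iff.1 ((Subgroup.commutator_mono hDBD le_rfl).trans hc.le)
  have hCDc : ∀ u ∈ C, ∀ d ∈ D, u * d = d * u := fun u hu d hd =>
    commutatorElement_eq_one_iff_mul_comm.1 (by
      rw [← Subgroup.mem_bot, ← hCD]
      exact Subgroup.commutator_mem_commutator hu hd)
  have hCCB : ⁅⁅C, C⁆, B⁆ = ⊥ := by
    have h : ⁅⁅C, B⁆, C⁆ = ⊥ := by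
      refine le_bot_iff.1 ((Subgroup.commutator_mono
        (Subgroup.commutator_mono hCB le_rfl : ⁅C, B⁆ ≤ D) le_rfl).trans ?_)
      rw [Subgroup.commutator_comm, hCD]
    refine Subgroup.commutator_commutator_eq_bot_of_rotate h ?_
    rwa [Subgroup.commutator_comm B C]
  have part1 : ⁅C, C⁆ ≤ B ⊓ Subgroup.centralizer (B : Set G) :=
    le_inf ((Subgroup.commutator_mono hCB hCB).trans hDB)
      (Subgroup.commutator_eq_bot_iff_le_centralizer.1 hCCB)
  refine ⟨part1, fun hA b hb hbb w hw => ?_⟩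
  set Cb := Subgroup.closure {g : G | ∃ a ∈ A, g = b⁻¹ * a * b * a⁻¹} with hCb
  -- membership facts
  have hgen : ∀ a ∈ A, b⁻¹ * a * b * a⁻¹ ∈ C := fun a ha => by
    have h : ⁅b⁻¹, a⁆ ∈ C := Subgroup.commutator_mem_commutator (inv_mem hb) ha
    rwa [commutatorElement_def, inv_inv] at h
  have hcentB : ∀ u ∈ C, ∀ v ∈ C, ∀ g ∈ B, Commute g ⁅u, v⁆ := fun u hu v hv g hg =>
    Subgroup.mem_centralizer_iff.1
      (part1 (Subgroup.commutator_mem_commutator hu hv)).2 g hg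
  have hsq : ∀ a ∈ A, ∀ a' ∈ A,
      ⁅b⁻¹ * a * b * a⁻¹, b⁻¹ * a' * b * a'⁻¹⁆ ^ 2 = 1 := by
    intro a ha a' ha'
    set x := b⁻¹ * a * b * a⁻¹ with hxdef
    set y := b⁻¹ * a' * b * a'⁻¹ with hydef
    set e := y⁻¹ * a * y * a⁻¹ with hedef
    set e' := x⁻¹ * a' * x * a'⁻¹ with he'def
    have hxC : x ∈ C := hgen a ha
    have hyC : y ∈ C := hgen a' ha'
    have heq : e = ⁅y⁻¹, a⁆ := by rw [hedef, commutatorElement_def, inv_inv]
    have heC : e ∈ C := heq ▸ Subgroup.commutator_mem_commutator (inv_mem (hCB hyC)) ha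
    have hefix : ∀ c ∈ A, c * e * c⁻¹ = e := by
      intro c hcA
      have h : ⁅e, c⁆ = 1 := by
        rw [← Subgroup.mem_bot, ← hbb]
        refine Subgroup.commutator_mem_commutator ?_ hcA
        rw [heq]
        exact Subgroup.commutator_mem_commutator
          (inv_mem (Subgroup.subset_closure ⟨a', ha', rfl⟩)) ha
      rw [← commutatorElement_eq_one_iff_mul_comm.1 h, mul_inv_cancel_right]
    have hDfix : ∀ c ∈ A, ∀ v ∈ B, c * ⁅b, v⁆ * c⁻¹ = ⁅b, v⁆ := fun c hcA v hv => by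
      rw [hDA _ (Subgroup.commutator_mem_commutator hb hv) c hcA, mul_inv_cancel_right]
    have hk : ∀ g ∈ B, Commute ⁅x, y⁆ g := fun g hg => (hcentB x hxC y hyC g hg).symm
    have hDb : ∀ v ∈ B, ⁅b, v⁆ ∈ B := fun v hv => hDB (Subgroup.commutator_mem_commutator hb hv)
    refine sq_eq_one (b := b) (e := e) (e' := e') (a := a) (a' := a') ?_ ?_ ?_ ?_
      (hefix a ha) (hefix a' ha') (hDfix a ha y (hCB hyC)) (hDfix a ha e (hCB heC))
      (hDfix a' ha' x (hCB hxC)) (hDfix a' ha' e (hCB heC)) (hk b hb).symm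
      ?_ (hcentB x hxC e heC b hb) (hcentB y hyC e heC b hb)
      (hCDc y hyC _ (Subgroup.commutator_mem_commutator hb (hCB heC)))
      (hCDc x hxC _ (Subgroup.commutator_mem_commutator hb (hCB heC))) ?_
    · rw [hxdef]; group
    · rw [hydef]; group
    · rw [hedef]; group
    · rw [he'def]; group
    · rintro g (rfl | rfl | rfl | rfl | rfl)
      · exact hk _ (hDb e (hCB heC))
      · exact hk _ (hCB hxC)
      · exact hk _ (hCB hyC)
      · exact hk _ (hDb y (hCB hyC))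
      · exact hk _ (hDb x (hCB hxC))
    · -- two ways of writing the commutator of `b` with `a a'`
      have haa : a * a' = a' * a := congrArg Subtype.val (hA.is_comm.comm ⟨a, ha⟩ ⟨a', ha'⟩)
      have h1 : x * y * e = y * x * e' := by
        have l1 : x * y * e = b⁻¹ * (a * a') * b * (a * a')⁻¹ := by
          rw [hxdef, hydef, hedef, hydef]; group
        have l2 : y * x * e' = b⁻¹ * (a' * a) * b * (a' * a)⁻¹ := by
          rw [hxdef, hydef, he'def, hxdef]; group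
        rw [l1, l2, haa]
      have h2 : x * y = ⁅x, y⁆ * (y * x) := by rw [commutatorElement_def]; group
      rw [h2, (hk (y * x) (mul_mem (hCB hyC) (hCB hxC))).eq, mul_assoc (y * x)] at h1
      exact (mul_left_cancel h1).symm
  -- squares of commutators of the generators
  let Z : Subgroup G :=
    { carrier := {u | u ∈ B ∧ (∀ g ∈ B, Commute g u) ∧ u ^ 2 = 1}
      one_mem' := ⟨one_mem B, fun g _ => Commute.one_right g, one_pow 2⟩
      mul_mem' := fun {u v} hu hv => ⟨mul_mem hu.1 hv.1, fun g hg => (hu.2.1 g hg).mul_right (hv.2.1 g hg),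
        by rw [(hv.2.1 u hu.1).mul_pow, hu.2.2, hv.2.2, one_mul]⟩
      inv_mem' := fun {u} hu => ⟨inv_mem hu.1, fun g hg => (hu.2.1 g hg).inv_right,
        by rw [inv_pow, hu.2.2, inv_one]⟩ }
  have hCbC : Cb ≤ C := by
    rw [hCb, Subgroup.closure_le]
    rintro _ ⟨a, ha, rfl⟩
    exact hgen a ha
  have hZ : ∀ g ∈ B, ∀ u ∈ Z, g * u * g⁻¹ = u := fun g hg u hu => by
    rw [(hu.2.1 g hg).eq, mul_inv_cancel_right]
  have hall : ∀ u ∈ Cb, ∀ v ∈ Cb, ⁅u, v⁆ ∈ Z := by
    intro u hu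
    induction hu using Subgroup.closure_induction with
    | mem u hu =>
      obtain ⟨a, ha, rfl⟩ := hu
      intro v hv
      induction hv using Subgroup.closure_induction with
      | mem v hv =>
        obtain ⟨a', ha', rfl⟩ := hv
        exact ⟨hCB ((Subgroup.commutator_le_self C) (Subgroup.commutator_mem_commutator (hgen a ha)
            (hgen a' ha'))), hcentB _ (hgen a ha) _ (hgen a' ha'), hsq a ha a' ha'⟩
      | one => rw [commutatorElement_one_right]; exact one_mem Z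
      | mul v1 v2 hv1 _ h1 h2 =>
        rw [comm_mul_right, hZ v1 (hCB (hCbC hv1)) _ h2]
        exact mul_mem h1 h2
      | inv v hv h1 =>
        have h := comm_mul_right (b⁻¹ * a * b * a⁻¹) v⁻¹ v
        rw [inv_mul_cancel, commutatorElement_one_right, hZ v⁻¹ (inv_mem (hCB (hCbC hv))) _ h1] at h
        rw [eq_inv_of_mul_eq_one_left h.symm]
        exact inv_mem h1
    | one => intro v _; rw [commutatorElement_one_left]; exact one_mem Z
    | mul u1 u2 hu1 _ h1 h2 =>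
      intro v hv
      rw [comm_mul_left, hZ u1 (hCB (hCbC hu1)) _ (h2 v hv)]
      exact mul_mem (h2 v hv) (h1 v hv)
    | inv u hu h1 =>
      intro v hv
      have h := comm_mul_left u⁻¹ u v
      rw [inv_mul_cancel, commutatorElement_one_left, hZ u⁻¹ (inv_mem (hCB (hCbC hu))) _ (h1 v hv)] at h
      rw [eq_inv_of_mul_eq_one_right h.symm]
      exact inv_mem (h1 v hv)
  exact ((Subgroup.commutator_le.2 hall) hw).2.2

end Cfsg.Agent.S0648
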