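import Cfsg.Statements.S0649
import Cfsg.Agent.Lib.Replacement.Families

set_option autoImplicit false
open Cfsg
open scoped Pointwise

namespace Cfsg.Agent.S0649

/-- In the Glauberman replacement situation, if B does not normalize A then some element of B normalizes N_S(A) without normalizing A. -/
theorem result {S : Type*} [Group S] [Finite S] {p : ℕ} [Fact p.Prime] (hS : IsPGroup p S) (B : Subgroup S) [B.Normal] (hB2 : p = 2 → IsMulCommutative B) (A : Subgroup S) (hA : IsMulCommutative A) (hBA : ⁅B, B⁆ ≤ A) (hnot : ¬ B ≤ Subgroup.normalizer (A : Set S)) : ∃ b ∈ B, b ∈ Subgroup.normalizer ((Subgroup.normalizer (A : Set S)) : Set S) ∧ b ∉ Subgroup.normalizer (A : Set S) := by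
  have hN : Subgroup.normalizer (A : Set S) < ⊤ :=
    lt_top_iff_ne_top.2 fun h => hnot (h ▸ le_top)
  haveI := hS.isNilpotent
  let N : Subgroup S := Subgroup.normalizer (A : Set S)
  let K : Subgroup S := N ⊔ B
  haveI : Group.IsNilpotent K := (hS.to_subgroup K).isNilpotent
  have hlt : N.subgroupOf K < ⊤ := lt_top_iff_ne_top.2 fun h =>
    hnot (le_sup_right.trans (Subgroup.subgroupOf_eq_top.1 h))
  obtain ⟨⟨k, hk⟩, hkN, hkN'⟩ :=
    SetLike.exists_of_lt (Group.normalizerCondition_of_isNilpotent (G := K) _ hlt)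
  have hk' : k ∈ (N : Set S) * (B : Set S) := by
    rw [← Subgroup.coe_mul_of_left_le_normalizer_right _ _ Subgroup.le_normalizer_of_normal]; exact hk
  obtain ⟨n, hn, b, hb, rfl⟩ := hk'
  have hnK : n ∈ K := Subgroup.mem_sup_left hn
  have hbK : b ∈ K := Subgroup.mem_sup_right hb
  have hbN : (⟨b, hbK⟩ : K) ∈ Subgroup.normalizer ((N.subgroupOf K : Subgroup K) : Set K) := by
    have h1 : (⟨n, hnK⟩ : K) ∈ N.subgroupOf K := Subgroup.mem_subgroupOf.2 hn
    have := mul_mem (inv_mem (Subgroup.le_normalizer h1)) hkN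
    convert this using 1
    ext; simp
  refine ⟨b, hb, ?_, fun hbA => hkN' (Subgroup.mem_subgroupOf.2 (mul_mem hn hbA))⟩
  rw [Subgroup.mem_normalizer_iff]
  intro x
  constructor
  · intro hx
    exact (Subgroup.mem_normalizer_iff.1 hbN ⟨x, Subgroup.mem_sup_left hx⟩).1 hx
  · intro hx
    have hxK : x ∈ K := by
      have := mul_mem (mul_mem (inv_mem hbK) (Subgroup.mem_sup_left hx)) hbK
      simpa [mul_assoc] using this
    exact (Subgroup.mem_normalizer_iff.1 hbN ⟨x, hxK⟩).2 hx

end Cfsg.Agent.S0649
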