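import Cfsg.Statements.S0650
import Cfsg.Agent.Lib.Replacement.GeneralB
-- import your own Cfsg.Agent.* helpers here

set_option autoImplicit false
open Cfsg
open scoped commutatorElement

namespace Cfsg.Agent.S0650

/-- The Glauberman replacement Theorem: from an abelian A ⊇ [B, B] not normalized by the normal subgroup B and a suitable b ∈ B one gets the abelian subgroup A* = (A ∩ b⁻¹Ab)[A, b] of the same order, containing [B, B], meeting B strictly more than A does but not containing B, mutually normalizing with A, with strictly larger normalizer containing b, and (p odd) of no larger exponent. -/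
theorem result {S : Type*} [Group S] [Finite S] {p : ℕ} [Fact p.Prime] (hS : IsPGroup p S) (B : Subgroup S) [B.Normal] (hB2 : p = 2 → IsMulCommutative B) (A : Subgroup S) (hA : IsMulCommutative A) (hBA : ⁅B, B⁆ ≤ A) (hnot : ¬ B ≤ Subgroup.normalizer (A : Set S)) (b : S) (hb : b ∈ B) (hbN : b ∈ Subgroup.normalizer ((Subgroup.normalizer (A : Set S)) : Set S)) (hbA : b ∉ Subgroup.normalizer (A : Set S)) : Nat.card ↥((A ⊓ A.map (MulAut.conj (b⁻¹)).toMonoidHom) ⊔ Subgroup.closure {g : S | ∃ a ∈ A, g = a * b⁻¹ * a⁻¹ * b}) = Nat.card A ∧ IsMulCommutative ↥((A ⊓ A.map (MulAut.conj (b⁻¹)).toMonoidHom) ⊔ Subgroup.closure {g : S | ∃ a ∈ A, g = a * b⁻¹ * a⁻¹ * b}) ∧ ⁅B, B⁆ ≤ ((A ⊓ A.map (MulAut.conj (b⁻¹)).toMonoidHom) ⊔ Subgroup.closure {g : S | ∃ a ∈ A, g = a * b⁻¹ * a⁻¹ * b}) ∧ A ⊓ B < ((A ⊓ A.map (MulAut.conj (b⁻¹)).toMonoidHom) ⊔ Subgroup.closure {g : S | ∃ a ∈ A, g = a * b⁻¹ * a⁻¹ * b}) ⊓ B ∧ ((A ⊓ A.map (MulAut.conj (b⁻¹)).toMonoidHom)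 ⊔ Subgroup.closure {g : S | ∃ a ∈ A, g = a * b⁻¹ * a⁻¹ * b}) ⊓ B < B ∧ A ≤ Subgroup.normalizer (((A ⊓ A.map (MulAut.conj (b⁻¹)).toMonoidHom) ⊔ Subgroup.closure {g : S | ∃ a ∈ A, g = a * b⁻¹ * a⁻¹ * b} : Subgroup S) : Set S) ∧ ((A ⊓ A.map (MulAut.conj (b⁻¹)).toMonoidHom) ⊔ Subgroup.closure {g : S | ∃ a ∈ A, g = a * b⁻¹ * a⁻¹ * b}) ≤ Subgroup.normalizer (A : Set S) ∧ b ∈ Subgroup.normalizer (((A ⊓ A.map (MulAut.conj (b⁻¹)).toMonoidHom) ⊔ Subgroup.closure {g : S | ∃ a ∈ A, g = a * b⁻¹ * a⁻¹ * b} : Subgroup S) : Set S) ∧ Subgroup.normalizer (A : Set S) < Subgroup.normalizer (((A ⊓ A.map (MulAut.conj (b⁻¹)).toMonoidHom) ⊔ Subgroup.closure {g : S | ∃ a ∈ A, g = a * b⁻¹ * a⁻¹ * b} : Subgroup S) : Set S) ∧ (p ≠ 2 → Monoid.exponent ↥((A ⊓ A.map (MulAut.conj (b⁻¹)).toMonoidHom) ⊔ Subgroup.closure {g : S | ∃ a ∈ A, g = a * b⁻¹ * a⁻¹ * b}) ∣ Monoid.exponent A) := by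
  have hS' := hS; clear hS
  set N := Subgroup.normalizer (A : Set S)
  set A' := A.map (MulAut.conj b⁻¹).toMonoidHom with hA'
  set As := Cfsg.Agent.Replacement.star A A b⁻¹ with hAs
  have hstar : (A ⊓ A') ⊔ Subgroup.closure {g : S | ∃ a ∈ A, g = a * b⁻¹ * a⁻¹ * b} = As := by
    rw [hAs, Cfsg.Agent.Replacement.star]
    congr 1
    rw [← Subgroup.closure_inv {g : S | ∃ a ∈ A, g = a * b⁻¹ * a⁻¹ * b}]
    congr 1
    ext g
    simp only [Set.mem_inv, Set.mem_setOf_eq, Set.mem_image, SetLike.mem_coe]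
    constructor
    · rintro ⟨a, ha, h⟩
      exact ⟨a, ha, by rw [← inv_inv g, h, commutatorElement_def]; group⟩
    · rintro ⟨a, ha, rfl⟩
      exact ⟨a, ha, by rw [commutatorElement_def]; group⟩
  have hconjN : ∀ (c : S), c ∈ Subgroup.normalizer (N : Set S) → ∀ n ∈ N, c * n * c⁻¹ ∈ N :=
    fun c hc n hn => (Subgroup.mem_normalizer_iff.1 hc n).1 hn
  have hcN := inv_mem hbN
  have hS : Cfsg.Agent.Replacement.General.GSetup A B b⁻¹ := by
    refine ⟨hA, ?_, inv_mem hb, hBA, ?_, ?_⟩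
    · rw [Subgroup.normalizer_eq_top]; exact le_top
    · rintro _ ⟨a, ha, rfl⟩
      exact hconjN _ hcN a (Subgroup.le_normalizer ha)
    · intro a ha
      have hn : b * a * b⁻¹ ∈ N := hconjN b hbN a (Subgroup.le_normalizer ha)
      rw [Subgroup.mem_normalizer_iff]
      intro x
      rw [Subgroup.mem_map_equiv, Subgroup.mem_map_equiv]
      simp only [MulAut.conj_symm_apply, inv_inv]
      rw [Subgroup.mem_normalizer_iff.1 hn (b * x * b⁻¹)]
      simp [mul_assoc]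
  have hodd : ∀ x ∈ ⁅B, B⁆, x * x = 1 → x = 1 := by
    intro x hx hxx
    by_cases h2 : p = 2
    · have h0 : ⁅B, B⁆ = ⊥ := Subgroup.commutator_eq_bot_iff_le_centralizer.2 fun u hu =>
        Subgroup.mem_centralizer_iff.2 fun v hv =>
          congrArg Subtype.val ((hB2 h2).is_comm.comm ⟨v, hv⟩ ⟨u, hu⟩)
      rwa [h0, Subgroup.mem_bot] at hx
    · exact Cfsg.Agent.Replacement.odd_of_isPGroup (hS'.to_subgroup B) h2 x (Subgroup.commutator_le_self B hx) hxx
  rw [hstar]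
  have hlt : A ⊓ B < As ⊓ B := by
    refine lt_of_le_of_ne (le_inf ?_ inf_le_right) fun heq => hbA ?_
    · exact (le_inf inf_le_left hS.inf_B_le).trans le_sup_left
    · have hle : A' ≤ A := by
        rintro _ ⟨a, ha, rfl⟩
        show MulAut.conj b⁻¹ a ∈ A
        rw [Cfsg.Agent.Replacement.conj_eq]
        have : ⁅b⁻¹, a⁆ ∈ A ⊓ B :=
          heq ▸ ⟨Subgroup.mem_sup_right (Subgroup.subset_closure ⟨a, ha, rfl⟩), hS.c_mem ha⟩
        exact mul_mem this.1 ha
      have heq' : A' = A := Subgroup.eq_of_le_of_card_ge hle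
        (le_of_eq (Subgroup.card_map_of_injective (MulAut.conj b⁻¹).injective).symm)
      exact inv_inv b ▸ inv_mem (Subgroup.mem_normalizer_iff_map_conj_eq.2 heq' :)
  have hsN : As ≤ N := hS.star_le_normalizer le_rfl
  have hfin : ∀ g : S, (∀ x ∈ As, g * x * g⁻¹ ∈ As) → g ∈ Subgroup.normalizer (As : Set S) := by
    intro g hg
    refine Subgroup.mem_normalizer_iff_map_conj_eq.2 (Subgroup.eq_of_le_of_card_ge ?_
      (le_of_eq (Subgroup.card_map_of_injective (MulAut.conj g).injective).symm))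
    rintro _ ⟨x, hx, rfl⟩
    exact hg x hx
  have hbAs : b ∈ Subgroup.normalizer (As : Set S) := by
    have := inv_mem (hfin b⁻¹ fun x hx => hS.conj_mem_star hx)
    rwa [inv_inv] at this
  have hNle : N ≤ Subgroup.normalizer (As : Set S) := by
    intro g hg
    refine hfin g fun x hx => hS.normalizer_conj_mem_star ?_ hg ?_ hx
    · rw [Subgroup.normalizer_eq_top]; exact Subgroup.mem_top _
    · have := hconjN b hbN g hg
      simpa using this
  refine ⟨hS.card_star le_rfl le_rfl inf_le_right, hS.star_comm hodd le_rfl,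
    fun d hd => Subgroup.mem_sup_left (hS.comm_mem_inf hd), hlt, ?_, ?_, hsN, hbAs, ?_, ?_⟩
  · exact inf_lt_right.2 fun h => hnot (h.trans hsN)
  · exact Subgroup.le_normalizer.trans hNle
  · exact lt_of_le_of_ne hNle fun h => hbA (h ▸ hbAs :)
  · intro h2
    have hn : Odd (Monoid.exponent A) := by
      obtain ⟨k, hk⟩ := IsPGroup.iff_card.1 (hS'.to_subgroup A)
      obtain ⟨j, -, hj⟩ := (Nat.dvd_prime_pow (Fact.out : p.Prime)).1
        (hk ▸ Group.exponent_dvd_nat_card : Monoid.exponent A ∣ p ^ k)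
      rw [hj]
      exact ((Fact.out : p.Prime).odd_of_ne_two h2).pow
    have hpow : ∀ a ∈ A, a ^ Monoid.exponent A = 1 := fun a ha =>
      congrArg Subtype.val (Monoid.pow_exponent_eq_one (⟨a, ha⟩ : A))
    refine Monoid.exponent_dvd_of_forall_pow_eq_one fun x => Subtype.ext ?_
    exact hS.star_pow_eq_one hodd le_rfl hn hpow
      (fun a ha a' ha' => hpow _ (hS.comm_mem ha' (hS.conj_mem ha)).1) _ x.2


end Cfsg.Agent.S0650
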