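import Cfsg.Statements.S0655
import Cfsg.Agent.Lib.Replacement.Families

set_option autoImplicit false
open Cfsg

namespace Cfsg.Agent.S0655

/-- In a p-group the intersection of all elementary abelian subgroups of largest order is the subgroup generated by the elements of order dividing p in the centre (equivalently the centralizer) of the elementary-version Thompson subgroup. -/
theorem result {S : Type*} [Group S] [Finite S] {p : ℕ} [Fact p.Prime] (hS : IsPGroup p S) : sInf (Cfsg.maxElementaryAbelianSubgroups p S) = Cfsg.omegaCenterThompson p S ∧ Cfsg.omegaCenterThompson p S = Cfsg.omegaOne p (Subgroup.centralizer (Cfsg.thompsonSubgroup p S : Set S)) := by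
  have hmax : ∀ A, PGroup.IsMaxEA p (⊤ : Subgroup S) A ↔ A ∈ Cfsg.maxElementaryAbelianSubgroups p S :=
    fun A => ⟨fun h => ⟨h.2.1, fun B => h.2.2 B le_top⟩, fun h => ⟨le_top, h.1, fun B _ => h.2 B⟩⟩
  have h1 := Replacement.sInf_isMaxEA p (⊤ : Subgroup S)
  have h2 := Replacement.omegaOne_centralizer_le_sInf p (⊤ : Subgroup S)
  simp only [hmax, Set.setOf_mem_eq, Cfsg.centerThompsonOf, PGroup.thompsonSubgroupOf_top, top_inf_eq]
    at h1 h2
  refine ⟨h1, le_antisymm (PGroup.omegaOne_mono inf_le_right) ?_⟩
  exact h2.trans h1.le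

end Cfsg.Agent.S0655
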