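import Cfsg.Statements.S0657
import Cfsg.Agent.Lib.Replacement.QdFree
-- import your own Cfsg.Agent.* helpers here

set_option autoImplicit false
open Cfsg

namespace Cfsg.Agent.S0657

/-- For odd p, a group that fails to be p-stable modulo its largest normal subgroup of order prime to p, and whose upper p-series does not stop there, has a section isomorphic to SL(2, p). -/
theorem result {G : Type*} [Group G] [Finite G] {p : ℕ} [Fact p.Prime] (hp : p ≠ 2) (hO : Cfsg.pPrimeCore p G < Cfsg.pPrimePCore p G) (hns : ¬ Cfsg.IsPStable p (G ⧸ Cfsg.pPrimeCore p G)) : ∃ (K L : Subgroup G) (hL : (L.subgroupOf K).Normal), K ≤ ⊤ ∧ Nonempty ((K ⧸ L.subgroupOf K) ≃* Matrix.SpecialLinearGroup (Fin 2) (ZMod p)) := by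
  by_contra hno
  set N := Cfsg.pPrimeCore p G with hN
  refine hns ⟨(Fact.out : p.Prime).odd_of_ne_two hp, fun h0 => ?_, fun A P hA hP hn hle hnorm hq => ?_⟩
  · refine hO.ne ?_
    rw [pPrimePCore, h0, MonoidHom.comap_bot, QuotientGroup.ker_mk']
  rw [Cfsg.Agent.PCore.pPrimeCore_quotient_self_eq_bot, bot_sup_eq] at hnorm
  haveI := hnorm
  have hst : IsPStableOn p P := by
    by_contra hbad
    obtain ⟨K, φ, hφ⟩ := Cfsg.Agent.Replacement.exists_SL2_of_not_isPStableOn hp P hP hbad
    let f : K.comap (QuotientGroup.mk' N) →* K :=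
      ((QuotientGroup.mk' N).comp (K.comap (QuotientGroup.mk' N)).subtype).codRestrict K fun x => x.2
    have hf : Function.Surjective f := by
      rintro ⟨y, hy⟩
      obtain ⟨x, rfl⟩ := QuotientGroup.mk'_surjective N y
      exact ⟨⟨x, hy⟩, rfl⟩
    exact hno (Cfsg.Agent.Replacement.exists_section_of_surjective (φ.comp f) (hφ.comp hf))
  rintro _ ⟨⟨a, haN⟩, ha, rfl⟩
  have h1 : (QuotientGroup.mk a : (G ⧸ N) ⧸ Subgroup.centralizer (P : Set (G ⧸ N))) ∈
      pCore p ((G ⧸ N) ⧸ Subgroup.centralizer (P : Set (G ⧸ N))) := hst a (le_bot_iff.1 (by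
    rw [← hq]
    exact Subgroup.commutator_mono (Subgroup.commutator_mono le_rfl (Subgroup.zpowers_le.2 ha))
      (Subgroup.zpowers_le.2 ha)))
  set M := Subgroup.normalizer (P : Set (G ⧸ N))
  set C := (Subgroup.centralizer (P : Set (G ⧸ N))).subgroupOf M
  let π := QuotientGroup.map C (Subgroup.centralizer (P : Set (G ⧸ N))) M.subtype (fun x hx => hx)
  have hπ : Function.Injective π := by
    refine (injective_iff_map_eq_one _).2 fun q hq' => ?_
    obtain ⟨x, rfl⟩ := QuotientGroup.mk'_surjective C q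
    exact (QuotientGroup.eq_one_iff x).2 ((QuotientGroup.eq_one_iff (x : G ⧸ N)).1 hq')
  exact Cfsg.Agent.PCore.le_pCore
    (N := (pCore p ((G ⧸ N) ⧸ Subgroup.centralizer (P : Set (G ⧸ N)))).comap π)
    (Cfsg.Agent.PCore.isPGroup_pCore.comap_of_injective π hπ) h1

end Cfsg.Agent.S0657
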