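import Cfsg.Statements.S0658
import Cfsg.Agent.Lib.Replacement.Constrained

set_option autoImplicit false
open Cfsg
open scoped Pointwise

namespace Cfsg.Agent.S0658

/-- In a group of characteristic p type all of whose p-locals are p-stable (p odd), the normalizer of Z(J(P)) contains the normalizer of every nontrivial subgroup of the Sylow p-subgroup P. -/
theorem result {G : Type*} [Group G] [Finite G] {p : ℕ} [Fact p.Prime] (hp : p ≠ 2) (hloc : ∀ Q : Subgroup G, IsPGroup p Q → Q ≠ ⊥ → Cfsg.pPrimeCore p ↥(Subgroup.normalizer (Q : Set G)) = ⊥ ∧ Cfsg.IsPConstrained p ↥(Subgroup.normalizer (Q : Set G)) ∧ Cfsg.IsPStable p ↥(Subgroup.normalizer (Q : Set G))) (P : Sylow p G) (Q : Subgroup G) (hQP : Q ≤ (P : Subgroup G)) (hQ1 : Q ≠ ⊥) : Subgroup.normalizer (Q : Set G) ≤ Subgroup.normalizer (Cfsg.centerThompsonAOf ((P : Subgroup G)) : Set G) := by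
  classical
  set L := Subgroup.normalizer (Cfsg.centerThompsonAOf (P : Subgroup G) : Set G) with hL
  -- a nontrivial `p`-group has nontrivial `Z(J)`
  have hne : ∀ U : Subgroup G, IsPGroup p U → U ≠ ⊥ → Cfsg.centerThompsonAOf U ≠ ⊥ := by
    intro U hU hU1 h0
    haveI := (Subgroup.nontrivial_iff_ne_bot U).2 hU1
    haveI := hU.center_nontrivial
    obtain ⟨⟨z, hz⟩, hz1⟩ := exists_ne (1 : Subgroup.center U)
    have hmem : (z : G) ∈ Cfsg.centerThompsonAOf U := by
      rw [← Replacement.sInf_isMaxAb, Subgroup.mem_sInf]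
      intro A hA
      refine (PGroup.inf_centralizer_eq_of_isMaxAb hA).le (Subgroup.mem_inf.2 ⟨z.2, ?_⟩)
      exact Subgroup.mem_centralizer_iff.2 fun a ha =>
        congrArg Subtype.val (Subgroup.mem_center_iff.1 hz ⟨a, hA.1 ha⟩)
    rw [h0, Subgroup.mem_bot] at hmem
    exact hz1 (Subtype.ext (Subtype.ext hmem))
  have hsucc : ∀ U : Subgroup G, U ≤ (P : Subgroup G) → U ≠ (P : Subgroup G) →
      Nat.card U < Nat.card ↥((P : Subgroup G) ⊓
        Subgroup.normalizer (Cfsg.centerThompsonAOf U : Set G)) := by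
    intro U hUP hUne
    haveI := P.2.isNilpotent
    have hlt : U.subgroupOf (P : Subgroup G) < ⊤ := lt_top_iff_ne_top.2 fun h =>
      hUne (le_antisymm hUP (Subgroup.subgroupOf_eq_top.1 h))
    obtain ⟨⟨y, hyP⟩, hyN, hyU⟩ := SetLike.exists_of_lt
      (Group.normalizerCondition_of_isNilpotent (G := (P : Subgroup G)) _ hlt)
    have hy : y ∈ Subgroup.normalizer (U : Set G) := by
      rw [← Subgroup.subgroupOf_normalizer_eq hUP] at hyN
      exact hyN
    have hyC : y ∈ Subgroup.normalizer (Cfsg.centerThompsonAOf U : Set G) :=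
      PGroup.mem_normalizer_of_map_conj_eq (by
        rw [← Replacement.centerThompsonAOf_map_equiv, PGroup.map_conj_eq_of_mem_normalizer hy])
    have hle : U ≤ (P : Subgroup G) ⊓ Subgroup.normalizer (Cfsg.centerThompsonAOf U : Set G) :=
      le_inf hUP fun u hu => PGroup.mem_normalizer_of_map_conj_eq (by
        rw [← Replacement.centerThompsonAOf_map_equiv,
          PGroup.map_conj_eq_of_mem_normalizer (Subgroup.le_normalizer hu)])
    refine lt_of_not_ge fun h => hyU (Subgroup.mem_subgroupOf.2 ?_)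
    rw [Subgroup.eq_of_le_of_card_ge hle h]
    exact Subgroup.mem_inf.2 ⟨hyP, hyC⟩
  induction hk : Nat.card (P : Subgroup G) -
      Nat.card ↥((P : Subgroup G) ⊓ Subgroup.normalizer (Q : Set G))
    using Nat.strong_induction_on generalizing Q with
  | _ k ih =>
  subst hk
  set M := Subgroup.normalizer (Q : Set G) with hM
  set U := (P : Subgroup G) ⊓ M with hU
  have hQU : Q ≤ U := le_inf hQP Subgroup.le_normalizer
  have hU1 : U ≠ ⊥ := fun h => hQ1 (le_bot_iff.1 (h ▸ hQU))
  obtain ⟨hO, hcon, hst⟩ := hloc Q (P.2.to_le hQP) hQ1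
  obtain ⟨T₀, hT₀⟩ := IsPGroup.exists_le_sylow (P := U.subgroupOf M)
    ((P.2.to_le inf_le_left).of_equiv (Subgroup.subgroupOfEquivOfLe inf_le_right).symm)
  set T := (T₀ : Subgroup M).map M.subtype with hT
  have hUT : U ≤ T := fun u hu =>
    ⟨⟨u, (Subgroup.mem_inf.1 hu).2⟩, hT₀ (Subgroup.mem_subgroupOf.2 hu), rfl⟩
  have hTM : T ≤ M := Subgroup.map_subtype_le _
  have hTp : IsPGroup p T := T₀.2.map _
  have hMT : M ≤ Subgroup.normalizer (Cfsg.centerThompsonAOf T : Set G) := by
    rw [hT, Replacement.centerThompsonAOf_map_injOn M.subtype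
      (fun x _ hx => Subtype.ext hx)]
    haveI := Replacement.centerThompsonAOf_normal_of_isPStable hp hcon hst hO T₀
    intro m hm
    rw [Subgroup.mem_normalizer_iff]
    intro x
    constructor
    · rintro ⟨y, hy, rfl⟩
      exact ⟨⟨m, hm⟩ * y * ⟨m, hm⟩⁻¹, Subgroup.Normal.conj_mem inferInstance y hy _, rfl⟩
    · rintro ⟨y, hy, hyx⟩
      refine ⟨⟨m, hm⟩⁻¹ * y * ⟨m, hm⟩, ?_, ?_⟩
      · simpa using Subgroup.Normal.conj_mem
          (inferInstance : (Cfsg.centerThompsonAOf (T₀ : Subgroup M)).Normal) y hy ⟨m, hm⟩⁻¹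
      · have : (y : G) = m * x * m⁻¹ := hyx
        simp [this, mul_assoc]
  have hPL : (P : Subgroup G) ≤ L := fun x hx => PGroup.mem_normalizer_of_map_conj_eq (by
    rw [← Replacement.centerThompsonAOf_map_equiv,
      PGroup.map_conj_eq_of_mem_normalizer (Subgroup.le_normalizer hx)])
  have hcardT : Nat.card T ≤ Nat.card (P : Subgroup G) := by
    obtain ⟨P', hP'⟩ := hTp.exists_le_sylow
    exact (Subgroup.card_le_of_le hP').trans_eq (P'.card_eq_multiplicity.trans P.card_eq_multiplicity.symm)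
  by_cases hUP : U = (P : Subgroup G)
  · have hTP : T = (P : Subgroup G) := (Subgroup.eq_of_le_of_card_ge (hUP ▸ hUT) hcardT).symm
    rw [hTP] at hMT
    exact hMT
  -- normalizers of `Z(J(V))` for large `V ≤ P`
  have hstep : ∀ V : Subgroup G, V ≤ (P : Subgroup G) → Nat.card U ≤ Nat.card V →
      Subgroup.normalizer (Cfsg.centerThompsonAOf V : Set G) ≤ L := by
    intro V hV hcard
    by_cases hVP : V = (P : Subgroup G)
    · rw [hVP]
    refine ih _ ?_ (Cfsg.centerThompsonAOf V)
      ((inf_le_left.trans (PGroup.thompsonSubgroupAOf_le V)).trans hV)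
      (hne V (P.2.to_le hV) fun h => hU1 (Subgroup.card_eq_one.1 (le_antisymm
        (hcard.trans_eq (by rw [h, Subgroup.card_bot])) Nat.card_pos))) rfl
    have h1 := hsucc V hV hVP
    have h2 : Nat.card ↥((P : Subgroup G) ⊓
        Subgroup.normalizer (Cfsg.centerThompsonAOf V : Set G)) ≤ Nat.card (P : Subgroup G) :=
      Subgroup.card_le_of_le inf_le_left
    omega
  have hNV : ∀ V : Subgroup G, V ≤ L → IsPGroup p V → Nat.card U ≤ Nat.card V →
      Subgroup.normalizer (Cfsg.centerThompsonAOf V : Set G) ≤ L := by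
    intro V hVL hVp hcard
    obtain ⟨S, hS⟩ := IsPGroup.exists_le_sylow (P := V.subgroupOf L)
      (hVp.of_equiv (Subgroup.subgroupOfEquivOfLe hVL).symm)
    obtain ⟨l, hl⟩ := MulAction.exists_smul_eq L S (P.subtype hPL)
    have hconj : V.map (MulAut.conj (l : G)).toMonoidHom ≤ (P : Subgroup G) := by
      rintro _ ⟨v, hv, rfl⟩
      have h1 : MulAut.conj l (⟨v, hVL hv⟩ : L) ∈ ((P.subtype hPL : Sylow p L) : Subgroup L) := by
        rw [← hl, Sylow.coe_subgroup_smul]
        exact ⟨_, hS (Subgroup.mem_subgroupOf.2 hv), rfl⟩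
      exact h1
    have h := hstep _ hconj (by rwa [Subgroup.card_map_of_injective (MulAut.conj (l : G)).injective])
    rw [Replacement.centerThompsonAOf_map_equiv] at h
    intro x hx
    have hx' : (l : G) * x * (l : G)⁻¹ ∈ L := by
      refine h (PGroup.mem_normalizer_of_map_conj_eq ?_)
      have hcomp : (MulAut.conj ((l : G) * x * (l : G)⁻¹)).toMonoidHom.comp (MulAut.conj (l : G)).toMonoidHom =
          (MulAut.conj (l : G)).toMonoidHom.comp (MulAut.conj x).toMonoidHom := by
        ext z; simp [mul_assoc]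
      rw [Subgroup.map_map, hcomp, ← Subgroup.map_map, PGroup.map_conj_eq_of_mem_normalizer hx]
    have := mul_mem (mul_mem (inv_mem l.2) hx') l.2
    simpa [mul_assoc] using this
  have hNN : ∀ V : Subgroup G, Subgroup.normalizer (V : Set G) ≤
      Subgroup.normalizer (Cfsg.centerThompsonAOf V : Set G) := fun V x hx =>
    PGroup.mem_normalizer_of_map_conj_eq (by
      rw [← Replacement.centerThompsonAOf_map_equiv, PGroup.map_conj_eq_of_mem_normalizer hx])
  have hUL : U ≤ L := inf_le_left.trans hPL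
  have hTL : T ≤ L := by
    by_contra hnot
    haveI := hTp.isNilpotent
    have hlt : (T ⊓ L).subgroupOf T < ⊤ := lt_top_iff_ne_top.2 fun h =>
      hnot ((Subgroup.subgroupOf_eq_top.1 h).trans inf_le_right)
    obtain ⟨⟨y, hyT⟩, hyN, hyU⟩ := SetLike.exists_of_lt
      (Group.normalizerCondition_of_isNilpotent (G := T) _ hlt)
    rw [← Subgroup.subgroupOf_normalizer_eq inf_le_left] at hyN
    refine hyU (Subgroup.mem_subgroupOf.2 (Subgroup.mem_inf.2 ⟨hyT, ?_⟩))
    exact hNV (T ⊓ L) inf_le_right (hTp.to_le inf_le_left)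
      (Subgroup.card_le_of_le (le_inf hUT hUL)) (hNN _ hyN)
  exact hMT.trans (hNV T hTL hTp (Subgroup.card_le_of_le hUT))

end Cfsg.Agent.S0658
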