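import Cfsg.Statements.S0660
-- import your own Cfsg.Agent.* helpers here

set_option autoImplicit false
open Cfsg

namespace Cfsg.Agent.S0660

/-- Under a coprime action on an abelian group, an invariant subgroup that is complemented admits an invariant complement. -/
theorem result {G : Type*} [Group G] [Finite G] (V A U : Subgroup G) (hVab : IsMulCommutative V) (hAV : A ≤ Subgroup.normalizer (V : Set G)) (hcop : (Nat.card A).Coprime (Nat.card V)) (hUV : U ≤ V) (hAU : A ≤ Subgroup.normalizer (U : Set G)) (W : Subgroup G) (hWV : W ≤ V) (hUW : U ⊓ W = ⊥) (hUWV : U ⊔ W = V) : ∃ W' : Subgroup G, W' ≤ V ∧ A ≤ Subgroup.normalizer (W' : Set G) ∧ U ⊓ W' = ⊥ ∧ U ⊔ W' = V := by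
  classical
  letI : CommGroup ↥V :=
    { (inferInstance : Group ↥V) with mul_comm := fun a b => hVab.is_comm.comm a b }
  letI : Fintype ↥A := Fintype.ofFinite _
  -- decomposition along `W`
  have hdec : ∀ v : ↥V, ∃ u : ↥V, (u : G) ∈ U ∧ ((u⁻¹ * v : ↥V) : G) ∈ W := by
    intro v
    have hv : v ∈ U.subgroupOf V ⊔ W.subgroupOf V := by
      rw [← Subgroup.subgroupOf_sup hUV hWV, Subgroup.mem_subgroupOf, hUWV]
      exact v.2
    obtain ⟨u, hu, w, hw, rfl⟩ := Subgroup.mem_sup.1 hv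
    exact ⟨u, hu, by rw [inv_mul_cancel_left]; exact hw⟩
  choose π hπU hπW using hdec
  have huniq : ∀ v u : ↥V, (u : G) ∈ U → ((u⁻¹ * v : ↥V) : G) ∈ W → π v = u := by
    intro v u hu hw
    have h1 : ((π v)⁻¹ * u : ↥V) ∈ U.subgroupOf V ⊓ W.subgroupOf V := by
      refine Subgroup.mem_inf.2 ⟨Subgroup.mul_mem _ (Subgroup.inv_mem _ (hπU v)) hu, ?_⟩
      have e : (π v)⁻¹ * u = ((π v)⁻¹ * v) * (u⁻¹ * v)⁻¹ := by group
      rw [e]
      exact Subgroup.mul_mem _ (hπW v) (Subgroup.inv_mem _ hw)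
    have h2 : ((((π v)⁻¹ * u : ↥V)) : G) ∈ U ⊓ W := h1
    rw [hUW, Subgroup.mem_bot, OneMemClass.coe_eq_one, inv_mul_eq_one] at h2
    exact h2
  have hmul : ∀ v w : ↥V, π (v * w) = π v * π w := fun v w => huniq _ _ (U.mul_mem (hπU v) (hπU w))
    (by rw [show (π v * π w)⁻¹ * (v * w) = ((π v)⁻¹ * v) * ((π w)⁻¹ * w) by
          rw [mul_inv]; exact mul_mul_mul_comm _ _ _ _]
        exact W.mul_mem (hπW v) (hπW w))
  let act : ↥A → ↥V → ↥V := fun a v => ⟨(a : G) * v * (a : G)⁻¹, (Subgroup.mem_normalizer_iff.1 (hAV a.2) _).1 v.2⟩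
  have act_mul : ∀ a v w, act a (v * w) = act a v * act a w := fun a v w => Subtype.ext (by simp [act, mul_assoc])
  have act_act : ∀ a b v, act a (act b v) = act (a * b) v := fun a b v => Subtype.ext (by simp [act, mul_assoc])
  let ψ : ↥V →* ↥V :=
    { toFun := fun v => ∏ a : ↥A, act a (π (act a⁻¹ v))
      map_one' := by
        refine Finset.prod_eq_one fun a _ => ?_
        have h1 : act a⁻¹ 1 = 1 := Subtype.ext (by simp [act])
        have h2 : π 1 = 1 := huniq 1 1 U.one_mem (by simp)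
        rw [h1, h2]; exact Subtype.ext (by simp [act])
      map_mul' := fun v w => by
        rw [← Finset.prod_mul_distrib]
        exact Finset.prod_congr rfl fun a _ => by rw [act_mul, hmul, act_mul] }
  have hψA : ∀ (b : ↥A) v, ψ (act b v) = act b (ψ v) := by
    intro b v
    show ∏ a, act a (π (act a⁻¹ (act b v))) = act b (∏ a, act a (π (act a⁻¹ v)))
    have hb : ∀ s : Finset ↥A, ∀ f : ↥A → ↥V, act b (∏ a ∈ s, f a) = ∏ a ∈ s, act b (f a) := by
      intro s f
      induction s using Finset.induction_on with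
      | empty => simp only [Finset.prod_empty]; exact Subtype.ext (by simp [act])
      | insert x s hx ih => rw [Finset.prod_insert hx, act_mul, ih, Finset.prod_insert hx]
    rw [hb]
    refine (Fintype.prod_equiv (Equiv.mulLeft b) _ _ fun a => ?_).symm
    simp only [Equiv.coe_mulLeft, act_act, mul_inv_rev, mul_assoc, inv_mul_cancel, mul_one]
  have hψU : ∀ v : ↥V, ((ψ v : ↥V) : G) ∈ U := fun v =>
    (show ψ v ∈ U.subgroupOf V from prod_mem fun a _ =>
      (Subgroup.mem_normalizer_iff.1 (hAU a.2) _).1 (hπU _))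
  have hψid : ∀ u : ↥V, (u : G) ∈ U → ψ u = u ^ Nat.card A := by
    intro u hu
    show ∏ a, act a (π (act a⁻¹ u)) = _
    rw [Finset.prod_congr rfl (g := fun _ => u), Finset.prod_const, Finset.card_univ,
      Nat.card_eq_fintype_card]
    intro a _
    have h1 : π (act a⁻¹ u) = act a⁻¹ u := huniq _ _
      ((Subgroup.mem_normalizer_iff.1 (hAU (inv_mem a.2)) _).1 hu) (by simp)
    rw [h1, act_act, mul_inv_cancel]
    exact Subtype.ext (by simp [act])
  refine ⟨ψ.ker.map V.subtype, Subgroup.map_subtype_le _, ?_, ?_, ?_⟩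
  · intro a ha
    rw [Subgroup.mem_normalizer_iff_map_conj_eq]
    refine le_antisymm ?_ ?_
    · rintro _ ⟨_, ⟨v, hv, rfl⟩, rfl⟩
      refine ⟨act ⟨a, ha⟩ v, ?_, rfl⟩
      show ψ _ = 1
      rw [hψA, show ψ v = 1 from hv]
      exact Subtype.ext (by simp [act])
    · rintro _ ⟨v, hv, rfl⟩
      refine ⟨_, ⟨act ⟨a⁻¹, inv_mem ha⟩ v, ?_, rfl⟩, by simp [act, mul_assoc]⟩
      show ψ _ = 1
      rw [hψA, show ψ v = 1 from hv]
      exact Subtype.ext (by simp [act])
  · rw [eq_bot_iff]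
    rintro _ ⟨hu, v, hv, rfl⟩
    have h1 : v ^ Nat.card A = 1 := by rw [← hψid v hu]; exact hv
    have h2 : orderOf v ∣ Nat.card V := orderOf_dvd_natCard v
    have h3 : orderOf v = 1 := Nat.eq_one_of_dvd_coprimes hcop (orderOf_dvd_of_pow_eq_one h1) h2
    rw [orderOf_eq_one_iff] at h3
    simp [h3]
  · refine le_antisymm (sup_le hUV (Subgroup.map_subtype_le _)) fun v hv => ?_
    obtain ⟨m, hm⟩ := exists_pow_eq_self_of_coprime (x := ψ ⟨v, hv⟩) (n := Nat.card A)
      (hcop.coprime_dvd_right (orderOf_dvd_natCard _))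
    set x : ↥V := (ψ ⟨v, hv⟩) ^ m
    have hx : (x : G) ∈ U := (U.subgroupOf V).pow_mem (hψU _) m
    have hk : ψ (x⁻¹ * ⟨v, hv⟩) = 1 := by
      rw [map_mul, map_inv, hψid x hx, inv_mul_eq_one]
      rw [← pow_mul, mul_comm, pow_mul, hm]
    have : v = (x : G) * ((x⁻¹ * ⟨v, hv⟩ : ↥V) : G) := by simp
    rw [this]
    exact Subgroup.mul_mem_sup hx ⟨_, hk, rfl⟩

end Cfsg.Agent.S0660
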