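import Cfsg.Statements.S0663
import Cfsg.Agent.Lib.PGroup.ElementaryAbelian

open scoped commutatorElement

set_option autoImplicit false
open Cfsg

namespace Cfsg.Agent.S0663

/-- A p-group acts uniserially on a p-group N of order p^n exactly when the iterated commutator chain from N has length n; in that case the chain terms are all the invariant subgroups of N and they are normal in N. -/
theorem result {L : Type*} [Group L] [Finite L] {p : ℕ} [Fact p.Prime] (N G : Subgroup L) (hN : IsPGroup p N) (hG : IsPGroup p G) (hGN : G ≤ Subgroup.normalizer (N : Set L)) (n : ℕ) (hn : Nat.card N = p ^ n) : ((∀ H : Subgroup L, H ≤ N → G ≤ Subgroup.normalizer (H : Set L) → H ≠ ⊥ → (⁅H, G⁆).relIndex H = p) ↔ Cfsg.iterCommutator N G (n - 1) ≠ ⊥ ∨ n = 0) ∧ ((∀ H : Subgroup L, H ≤ N → G ≤ Subgroup.normalizer (H : Set L) → H ≠ ⊥ → (⁅H, G⁆).relIndex H = p) → ∀ H : Subgroup L, H ≤ N → G ≤ Subgroup.normalizer (H : Set L) → (∃ i ≤ n, H = Cfsg.iterCommutator N G i) ∧ N ≤ Subgroup.normalizer (H : Set L)) := by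
  have hp := Fact.out (p := p.Prime)
  have hP : IsPGroup p ↥(N ⊔ G : Subgroup L) := IsPGroup.to_sup_of_normal_left' hN hG hGN
  -- commutation with `N ⊔ G` strictly decreases
  have hlt : ∀ C : Subgroup L, C ≤ N ⊔ G → C ≠ ⊥ → (N ⊔ G) ≤ Subgroup.normalizer (C : Set L) →
      ⁅C, N ⊔ G⁆ < C := by
    intro C hCP hC hn
    have hCn : (C.subgroupOf (N ⊔ G)).Normal :=
      ⟨fun x hx g => (Subgroup.mem_normalizer_iff.mp (hn g.2) x).mp hx⟩
    have hne : C.subgroupOf (N ⊔ G) ≠ ⊥ := by
      rw [Ne, Subgroup.subgroupOf_eq_bot, disjoint_iff, inf_eq_left.mpr hCP]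
      exact hC
    have h := Subgroup.map_lt_map_iff_of_injective (f := (N ⊔ G).subtype) (Subgroup.subtype_injective _) |>.mpr
      (PGroup.commutator_top_lt hP _ hne)
    rw [Subgroup.map_commutator, Subgroup.map_subgroupOf_eq_of_le hCP, ← MonoidHom.range_eq_map,
      Subgroup.range_subtype] at h
    exact h
  -- strict decrease under `G` alone
  have hltG : ∀ C : Subgroup L, C ≤ N → C ≠ ⊥ → G ≤ Subgroup.normalizer (C : Set L) → ⁅C, G⁆ < C := by
    intro C hCN hC hn
    have hP' : IsPGroup p ↥(C ⊔ G : Subgroup L) :=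
      IsPGroup.to_sup_of_normal_left' (hN.to_le hCN) hG hn
    have hCn : (C.subgroupOf (C ⊔ G)).Normal :=
      ⟨fun x hx g => (Subgroup.mem_normalizer_iff.mp ((sup_le Subgroup.le_normalizer hn) g.2) x).mp hx⟩
    have hne : C.subgroupOf (C ⊔ G) ≠ ⊥ := by
      rw [Ne, Subgroup.subgroupOf_eq_bot, disjoint_iff, inf_eq_left.mpr le_sup_left]
      exact hC
    have h := Subgroup.map_lt_map_iff_of_injective (f := (C ⊔ G).subtype) (Subgroup.subtype_injective _) |>.mpr
      (PGroup.commutator_top_lt hP' _ hne)
    rw [Subgroup.map_commutator, Subgroup.map_subgroupOf_eq_of_le le_sup_left, ← MonoidHom.range_eq_map,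
      Subgroup.range_subtype] at h
    exact lt_of_le_of_lt (Subgroup.commutator_mono le_rfl le_sup_right) h
  set Cs := iterCommutator N G with hCs
  have hs : ∀ i, Cs (i + 1) = ⁅Cs i, G⁆ := fun i => rfl
  have hbase : ∀ i, Cs i ≤ N ∧ G ≤ Subgroup.normalizer (Cs i : Set L) := by
    intro i
    induction i with
    | zero => exact ⟨le_rfl, hGN⟩
    | succ i ih =>
      rw [hs]
      exact ⟨(Subgroup.le_normalizer_iff_commutator_le_left.mp ih.2).trans ih.1,
        Subgroup.normalizer_commutator_ge_right _ _⟩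
  have hcardP : ∀ C : Subgroup L, C ≤ N → ∃ k, Nat.card ↥C = p ^ k := fun C hC =>
    IsPGroup.iff_card.mp (hN.to_le hC)
  have hmul : ∀ C D : Subgroup L, D < C → C ≤ N → p * Nat.card ↥D ≤ Nat.card ↥C := by
    intro C D hDC hCN
    obtain ⟨a, ha⟩ := hcardP C hCN
    obtain ⟨b, hb⟩ := hcardP D (hDC.le.trans hCN)
    have hlt : Nat.card ↥D < Nat.card ↥C :=
      lt_of_not_ge fun h => hDC.ne (Subgroup.eq_of_le_of_card_ge hDC.le h)
    rw [ha, hb] at hlt ⊢
    have := (Nat.pow_lt_pow_iff_right hp.one_lt).mp hlt
    rw [← pow_succ']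
    exact Nat.pow_le_pow_right hp.pos (by omega)
  have hdec : ∀ i, i ≤ n → Nat.card ↥(Cs i) * p ^ i ≤ p ^ n := by
    intro i
    induction i with
    | zero => intro _; rw [pow_zero, mul_one, ← hn]; exact le_rfl
    | succ i ih =>
      intro hi
      by_cases hb : Cs i = ⊥
      · rw [hs, hb, Subgroup.commutator_bot_left, Subgroup.card_bot, one_mul]
        exact Nat.pow_le_pow_right hp.pos hi
      · calc Nat.card ↥(Cs (i + 1)) * p ^ (i + 1) = p * Nat.card ↥(Cs (i + 1)) * p ^ i := by
              rw [pow_succ]; ring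
          _ ≤ Nat.card ↥(Cs i) * p ^ i :=
            Nat.mul_le_mul_right _ (hmul _ _ (hltG _ (hbase i).1 hb (hbase i).2) (hbase i).1)
          _ ≤ p ^ n := ih (by omega)
  have hbotn : Cs n = ⊥ := by
    have h := hdec n le_rfl
    exact Subgroup.card_eq_one.mp (le_antisymm (Nat.le_of_mul_le_mul_right (by rwa [one_mul])
      (Nat.pow_pos hp.pos)) Nat.card_pos)
  -- consequences of the chain having full length
  have main : (Cs (n - 1) ≠ ⊥ ∨ n = 0) →
      (∀ i, i ≤ n → Nat.card ↥(Cs i) = p ^ (n - i)) ∧
      (∀ i, i ≤ n → N ≤ Subgroup.normalizer (Cs i : Set L)) ∧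
      ∀ H : Subgroup L, H ≤ N → G ≤ Subgroup.normalizer (H : Set L) → ∃ i ≤ n, H = Cs i := by
    intro hlong
    have hneq : ∀ i, i < n → Cs i ≠ ⊥ := by
      intro i hi hb
      rcases hlong with h | h
      · refine h ?_
        obtain ⟨d, hd⟩ := Nat.le.dest (show i ≤ n - 1 by omega)
        rw [← hd]
        clear hd
        induction d with
        | zero => exact hb
        | succ d ih => rw [← add_assoc, hs, ih, Subgroup.commutator_bot_left]
      · omega
    have hcards : ∀ i, i ≤ n → Nat.card ↥(Cs i) = p ^ (n - i) := by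
      have hge : ∀ d i, i + d = n → p ^ d ≤ Nat.card ↥(Cs i) := by
        intro d
        induction d with
        | zero => intro i _; rw [pow_zero]; exact Nat.card_pos
        | succ d ih =>
          intro i hid
          calc p ^ (d + 1) ≤ p * Nat.card ↥(Cs (i + 1)) := by
                rw [pow_succ']; exact Nat.mul_le_mul_left _ (ih (i + 1) (by omega))
            _ ≤ _ := hmul _ _ (hltG _ (hbase i).1 (hneq i (by omega)) (hbase i).2) (hbase i).1
      intro i hi
      refine le_antisymm ?_ (hge (n - i) i (by omega))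
      have h := hdec i hi
      rw [show p ^ n = p ^ (n - i) * p ^ i by rw [← pow_add]; congr 1; omega] at h
      exact Nat.le_of_mul_le_mul_right h (Nat.pow_pos hp.pos)
    have hnorm : ∀ i, i ≤ n → N ⊔ G ≤ Subgroup.normalizer (Cs i : Set L) := by
      intro i
      induction i with
      | zero => exact fun _ => sup_le Subgroup.le_normalizer hGN
      | succ i ih =>
        intro hi
        have h1 := hlt (Cs i) ((hbase i).1.trans le_sup_left) (hneq i (by omega)) (ih (by omega))
        have heq : Cs (i + 1) = ⁅Cs i, N ⊔ G⁆ := by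
          refine Subgroup.eq_of_le_of_card_ge (hs i ▸ Subgroup.commutator_mono le_rfl le_sup_right) ?_
          have h2 := hmul _ _ h1 (hbase i).1
          rw [hcards i (by omega), show n - i = n - (i + 1) + 1 by omega, pow_succ'] at h2
          rw [hcards (i + 1) hi]
          exact Nat.le_of_mul_le_mul_left h2 hp.pos
        rw [heq]
        exact Subgroup.normalizer_commutator_ge_right _ _
    refine ⟨hcards, fun i hi => le_sup_left.trans (hnorm i hi), fun H hHN hHG => ?_⟩
    suffices hcl : ∀ i, i ≤ n → H ≤ Cs i → ∃ j ≤ n, H = Cs j from hcl 0 (Nat.zero_le n) hHN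
    intro i hi
    induction hd : n - i generalizing i with
    | zero =>
      intro hle
      obtain rfl : i = n := by omega
      exact ⟨i, le_rfl, le_antisymm hle (hbotn ▸ bot_le)⟩
    | succ d ih =>
      intro hle
      by_cases hnext : H ≤ Cs (i + 1)
      · exact ih (i + 1) (by omega) (by omega) hnext
      refine ⟨i, hi, le_antisymm hle ?_⟩
      -- `Cs j ≤ H ⊔ Cs (j+1)` for all `j ≥ i`
      have hstep : ∀ k, i + k < n → Cs (i + k) ≤ H ⊔ Cs (i + k + 1) := by
        intro k
        induction k with
        | zero =>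
          intro _
          rw [add_zero]
          have hlt' : Cs (i + 1) < H ⊔ Cs (i + 1) := right_lt_sup.mpr hnext
          have hKle : H ⊔ Cs (i + 1) ≤ Cs i := sup_le hle
            (hs i ▸ Subgroup.le_normalizer_iff_commutator_le_left.mp (hbase i).2)
          have h2 := hmul _ _ hlt' (hKle.trans (hbase i).1)
          rw [hcards (i + 1) (by omega), ← pow_succ', show n - (i + 1) + 1 = n - i by omega,
            ← hcards i hi] at h2
          exact (Subgroup.eq_of_le_of_card_ge hKle h2).ge
        | succ k ihk =>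
          intro hk
          rw [← add_assoc, hs (i + k), Subgroup.commutator_le]
          intro c hc g hg
          have hN' : N ≤ Subgroup.normalizer (Cs (i + k + 1 + 1) : Set L) :=
            le_sup_left.trans (hnorm _ (by omega))
          obtain ⟨h, hh, c', hc', rfl⟩ : ∃ h ∈ H, ∃ c' ∈ Cs (i + k + 1), h * c' = c := by
            have hmem := ihk (by omega) hc
            rwa [← SetLike.mem_coe, Subgroup.coe_mul_of_left_le_normalizer_right _ _
              (hHN.trans (le_sup_left.trans (hnorm _ (by omega)))), Set.mem_mul] at hmem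
          rw [commutatorElement_mul_left_eq_conj_mul]
          refine mul_mem (Subgroup.mem_sup_right ?_) (Subgroup.mem_sup_left ?_)
          · exact (Subgroup.mem_normalizer_iff.mp (hN' (hHN hh)) _).mp
              (hs (i + k + 1) ▸ Subgroup.commutator_mem_commutator hc' hg)
          · exact Subgroup.le_normalizer_iff_commutator_le_left.mp hHG
              (Subgroup.commutator_mem_commutator hh hg)
      have hall : ∀ d k, i + k + d = n → Cs (i + k) ≤ H := by
        intro d
        induction d with
        | zero => intro k hk; rw [show i + k = n by omega, hbotn]; exact bot_le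
        | succ d ihd =>
          intro k hk
          exact (hstep k (by omega)).trans (sup_le le_rfl (ihd (k + 1) (by omega)))
      exact hall (n - i) 0 (by omega)
  have hunique : (∀ H : Subgroup L, H ≤ N → G ≤ Subgroup.normalizer (H : Set L) → H ≠ ⊥ →
      (⁅H, G⁆).relIndex H = p) → Cs (n - 1) ≠ ⊥ ∨ n = 0 := by
    intro huni
    rcases Nat.eq_zero_or_pos n with h0 | h0
    · exact Or.inr h0
    left
    have hge : ∀ i, i < n → p ^ (n - i) ≤ Nat.card ↥(Cs i) := by
      intro i
      induction i with
      | zero => intro _; rw [Nat.sub_zero, ← hn]; exact le_rfl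
      | succ i ih =>
        intro hi
        have h1 := ih (by omega)
        have hne : Cs i ≠ ⊥ := fun hb => by
          rw [hb, Subgroup.card_bot] at h1
          exact absurd h1 (not_le.mpr (Nat.one_lt_pow (by omega) hp.one_lt))
        have h2 := huni _ (hbase i).1 (hbase i).2 hne
        have hle : ⁅Cs i, G⁆ ≤ Cs i := Subgroup.le_normalizer_iff_commutator_le_left.mp (hbase i).2
        have h3 : Nat.card ↥⁅Cs i, G⁆ * p = Nat.card ↥(Cs i) := by
          rw [← h2, ← Subgroup.relIndex_bot_left, Subgroup.relIndex_mul_relIndex _ _ _ bot_le hle,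
            Subgroup.relIndex_bot_left]
        rw [← h3, show n - i = n - (i + 1) + 1 by omega, pow_succ] at h1
        exact hs i ▸ Nat.le_of_mul_le_mul_right h1 hp.pos
    intro hb
    have h1 := hge (n - 1) (by omega)
    rw [hb, Subgroup.card_bot] at h1
    exact absurd h1 (not_le.mpr (Nat.one_lt_pow (by omega) hp.one_lt))
  refine ⟨⟨hunique, fun hlong H hHN hHG hH => ?_⟩, fun huni H hHN hHG => ?_⟩
  · obtain ⟨hcards, -, hall⟩ := main hlong
    obtain ⟨i, hi, rfl⟩ := hall H hHN hHG
    have hlt : i < n := lt_of_le_of_ne hi fun h => hH (h ▸ hbotn)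
    have h3 : Nat.card ↥⁅Cs i, G⁆ * (⁅Cs i, G⁆).relIndex (Cs i) = Nat.card ↥(Cs i) := by
      rw [← Subgroup.relIndex_bot_left, Subgroup.relIndex_mul_relIndex _ _ _ bot_le
        (Subgroup.le_normalizer_iff_commutator_le_left.mp (hbase i).2), Subgroup.relIndex_bot_left]
    rw [← hs, hcards (i + 1) hlt, hcards i hi, show n - i = n - (i + 1) + 1 by omega, pow_succ] at h3
    exact Nat.eq_of_mul_eq_mul_left (Nat.pow_pos hp.pos) h3
  · obtain ⟨-, hnorm, hall⟩ := main (hunique huni)
    obtain ⟨i, hi, rfl⟩ := hall H hHN hHG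
    exact ⟨⟨i, hi, rfl⟩, hnorm i hi⟩

end Cfsg.Agent.S0663
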