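import Cfsg.Statements.S0666
import Cfsg.Agent.Lib.CharInt.FrobeniusKernel
import Cfsg.Agent.Lib.Frobenius.Basic
-- import your own Cfsg.Agent.* helpers here

set_option autoImplicit false
open Cfsg

namespace Cfsg.Agent.S0666

/-- A Frobenius group acting on a nontrivial abelian group of order prime to that of its kernel, with the kernel acting without nontrivial fixed points, has a complement with a nontrivial fixed point. -/
theorem result {G : Type*} [Group G] [Finite G] (V F : Subgroup G) (hVab : IsMulCommutative V) (hV1 : V ≠ ⊥) (hFV : F ≤ Subgroup.normalizer (V : Set G)) (H : Subgroup ↥F) (hH : Cfsg.IsFrobeniusComplement H) (hcop : (Nat.card V).Coprime (Nat.card (Cfsg.frobeniusKernel H))) (hCK : V ⊓ Subgroup.centralizer (Subtype.val '' Cfsg.frobeniusKernel H : Set G) = ⊥) : V ⊓ Subgroup.centralizer ((H.map F.subtype : Subgroup G) : Set G) ≠ ⊥ := by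
  classical
  intro hCH
  obtain ⟨N, hNset, hNn, hNc⟩ := Cfsg.Agent.CharInt.exists_frobeniusKernel hH
  have hmem : ∀ x, x ∈ N ↔ x ∈ Cfsg.frobeniusKernel H := fun x => by rw [← hNset]; rfl
  rw [← hNset] at hcop hCK
  have := Fintype.ofFinite N
  have := Fintype.ofFinite H
  have := Fintype.ofFinite F
  have := Fintype.ofFinite (F ⧸ H)
  have key : ∀ v : V, v = 1 := by
    let act : F →* MulAut V := V.normalizerMonoidHom.comp (Subgroup.inclusion hFV)
    have hval : ∀ (x : F) (v : V), ((act x v : V) : G) = (x : G) * v * (x : G)⁻¹ := fun _ _ => rfl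
    open scoped IsMulCommutative in
    have fixedH : ∀ w : V, (∀ h ∈ H, act h w = w) → w = 1 := by
      intro w hw
      have h1 : (w : G) ∈ V ⊓ Subgroup.centralizer ((H.map F.subtype : Subgroup G) : Set G) := by
        refine Subgroup.mem_inf.2 ⟨w.2, Subgroup.mem_centralizer_iff.2 ?_⟩
        rintro _ ⟨h, hh, rfl⟩
        have := congrArg (fun z : V => (z : G)) (hw h hh)
        simp only [hval] at this
        exact mul_inv_eq_iff_eq_mul.1 this
      rw [hCH, Subgroup.mem_bot] at h1
      exact Subtype.ext h1
    open scoped IsMulCommutative in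
    have fixedN : ∀ w : V, (∀ x ∈ N, act x w = w) → w = 1 := by
      intro w hw
      have h1 : (w : G) ∈ V ⊓ Subgroup.centralizer (Subtype.val '' (N : Set F) : Set G) := by
        refine Subgroup.mem_inf.2 ⟨w.2, Subgroup.mem_centralizer_iff.2 ?_⟩
        rintro _ ⟨h, hh, rfl⟩
        have := congrArg (fun z : V => (z : G)) (hw h hh)
        simp only [hval] at this
        exact mul_inv_eq_iff_eq_mul.1 this
      rw [hCK, Subgroup.mem_bot] at h1
      exact Subtype.ext h1
    open scoped IsMulCommutative in
    have hall : ∀ v : V, v = 1 := by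
      intro v
      have hF : ∏ x : F, act x v = 1 := fixedN _ fun y _ => by
        rw [map_prod]
        exact Fintype.prod_equiv (Equiv.mulLeft y) _ _ fun x => by rw [Equiv.coe_mulLeft, map_mul]; rfl
      have hN : ∏ x : N, act x v = 1 := fixedN _ fun y hy => by
        rw [map_prod]
        exact Fintype.prod_equiv (Equiv.mulLeft (⟨y, hy⟩ : N)) _ _ fun x => by
          rw [Equiv.coe_mulLeft, Subgroup.coe_mul, map_mul]; rfl
      have hHall : ∀ w : V, ∏ h : H, act h w = 1 := fun w => fixedH _ fun y hy => by
        rw [map_prod]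
        exact Fintype.prod_equiv (Equiv.mulLeft (⟨y, hy⟩ : H)) _ _ fun x => by
          rw [Equiv.coe_mulLeft, Subgroup.coe_mul, map_mul]; rfl
      have hr : ∀ r : F, ∏ h : {h : H // h ≠ 1}, act (r * (h.1 : F) * r⁻¹) v = v⁻¹ := by
        intro r
        have h1 : ∏ h : H, act (r * (h : F) * r⁻¹) v = 1 := by
          simp only [map_mul, MulAut.mul_apply, ← map_prod, hHall, map_one]
        rw [← Finset.mul_prod_erase _ _ (Finset.mem_univ (1 : H)), Subgroup.coe_one, mul_one,
          mul_inv_cancel, map_one, MulAut.one_apply, mul_eq_one_iff_inv_eq] at h1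
        rw [h1]
        exact (Finset.prod_subtype _ (fun x => by simp) fun h : H => act (r * (h : F) * r⁻¹) v).symm
      let f : (F ⧸ H) × {h : H // h ≠ 1} → {x : F // ¬ x ∈ N} := fun q =>
        ⟨q.1.out * (q.2.1 : F) * q.1.out⁻¹, fun hm => by
          rcases (hmem _).1 hm with h | h
          · exact q.2.2 (Subtype.ext (by simpa using h))
          · exact h q.1.out (Cfsg.Agent.Coprime.mem_conj_smul_iff.2 (by simp [mul_assoc]))⟩
      have hfb : Function.Bijective f := by
        have hinj : Function.Injective f := by
          rintro ⟨q, ⟨h, hh⟩, hh1⟩ ⟨q', ⟨h', hh'⟩, hh1'⟩ he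
          have he' : q.out * h * q.out⁻¹ = q'.out * h' * q'.out⁻¹ := congrArg Subtype.val he
          have hm : q.out⁻¹ * q'.out ∈ H := by
            refine Cfsg.Agent.Frobenius.mem_of_inter hH hh (fun e => hh1 (Subtype.ext e)) ?_
            rw [show (q.out⁻¹ * q'.out)⁻¹ * h * (q.out⁻¹ * q'.out) =
              q'.out⁻¹ * (q.out * h * q.out⁻¹) * q'.out by group, he']
            simpa [mul_assoc] using hh'
          have hq : q = q' := by
            rw [← QuotientGroup.out_eq' q, ← QuotientGroup.out_eq' q']
            exact QuotientGroup.eq.2 hm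
          subst hq
          simp only [mul_left_inj, mul_right_inj] at he'
          subst he'
          rfl
        refine (Nat.bijective_iff_injective_and_card f).2 ⟨hinj, ?_⟩
        have h1 := Nat.card_congr (Equiv.sumCompl (fun x : F => x ∈ N))
        have h2 : Nat.card {h : H // h ≠ 1} + 1 = Nat.card H := by
          rw [Nat.card_congr (Equiv.sumCompl (fun h : H => h = 1)).symm, Nat.card_sum,
            Nat.card_unique (α := {h : H // h = 1}), add_comm]
        rw [Nat.card_sum, ← hNc.card_mul_card, ← h2] at h1
        have h4 : Nat.card (F ⧸ H) = Nat.card N := by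
          rw [← Subgroup.index_eq_card]; exact hNc.index_eq_card
        rw [Nat.card_prod, h4]
        have h5 : Nat.card {x : F // x ∈ N} = Nat.card N := rfl
        rw [Nat.mul_add, mul_one, h5] at h1
        omega
      have hsplit := Fintype.prod_subtype_mul_prod_subtype (fun x : F => x ∈ N) fun x => act x v
      have hrest : ∏ x : {x : F // ¬ x ∈ N}, act x.1 v = (v ^ Fintype.card (F ⧸ H))⁻¹ := by
        rw [← Fintype.prod_equiv (Equiv.ofBijective f hfb)
          (fun q => act (q.1.out * (q.2.1 : F) * q.1.out⁻¹) v) (fun x => act x.1 v) (fun q => rfl),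
          Fintype.prod_prod_type]
        simp only [hr, Finset.prod_const, Finset.card_univ, inv_pow]
      rw [hrest, hF] at hsplit
      have hN' : ∀ inst : Fintype {x : F // x ∈ N},
          (@Finset.prod {x : F // x ∈ N} V _ (@Finset.univ _ inst) fun x => act x.1 v) = 1 := fun inst => by
        refine (Finset.prod_congr ?_ fun _ _ => rfl).trans hN
        ext; simp
      rw [hN', one_mul, inv_eq_one] at hsplit
      have h6 : Fintype.card (F ⧸ H) = Nat.card N := by
        rw [← Nat.card_eq_fintype_card, ← Subgroup.index_eq_card]; exact hNc.index_eq_card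
      exact orderOf_eq_one_iff.1 (Nat.eq_one_of_dvd_coprimes hcop (orderOf_dvd_natCard v)
        (h6 ▸ orderOf_dvd_of_pow_eq_one hsplit))
    exact hall
  exact hV1 ((Subgroup.eq_bot_iff_forall _).2 fun x hx => congrArg Subtype.val (key ⟨x, hx⟩))

end Cfsg.Agent.S0666
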