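import Cfsg.Statements.S0668
import Cfsg.Agent.Lib.Perm.ModuleHeart

set_option autoImplicit false
open Cfsg

namespace Cfsg.Agent.S0668

/-- The equivariant linear maps between the permutation modules of two finite `G`-sets form a space whose dimension is the number of `G`-orbits on the product of the two sets. -/
theorem result {G : Type*} [Group G] {K : Type*} [Field K] {Ω₁ Ω₂ : Type*} [Fintype Ω₁] [Fintype Ω₂] [MulAction G Ω₁] [MulAction G Ω₂] : Module.finrank K ((Cfsg.permRep K G Ω₁).linHom (Cfsg.permRep K G Ω₂)).invariants = Nat.card (MulAction.orbitRel.Quotient G (Ω₁ × Ω₂)) := by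
  classical
  let e : ((Cfsg.permRep K G Ω₁).linHom (Cfsg.permRep K G Ω₂)).invariants ≃ₗ[K]
      (MulAction.orbitRel.Quotient G (Ω₁ × Ω₂) → K) :=
    { toFun := fun T q => Quotient.liftOn' q
        (fun z => (T : (Ω₁ → K) →ₗ[K] (Ω₂ → K)) (Pi.single z.1 1) z.2) (by
        rintro z w ⟨g, rfl⟩
        show (T : (Ω₁ → K) →ₗ[K] (Ω₂ → K)) (Pi.single (g • w.1) 1) (g • w.2) = _
        have hT := LinearMap.congr_fun (T.2 g) (Pi.single (g • w.1) 1)
        have hsing : Cfsg.permRep K G Ω₁ g⁻¹ (Pi.single (g • w.1) (1 : K)) = Pi.single w.1 1 := by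
          funext x
          simp [Perm.ModuleHeart.permRep_apply, Pi.single_apply, smul_left_cancel_iff]
        have h2 : Cfsg.permRep K G Ω₂ g ((T : (Ω₁ → K) →ₗ[K] (Ω₂ → K))
            (Cfsg.permRep K G Ω₁ g⁻¹ (Pi.single (g • w.1) 1))) =
            (T : (Ω₁ → K) →ₗ[K] (Ω₂ → K)) (Pi.single (g • w.1) 1) := hT
        rw [hsing] at h2
        rw [← h2, Perm.ModuleHeart.permRep_apply, inv_smul_smul])
      map_add' := fun S T => funext fun q => Quotient.inductionOn' q fun _ => rfl
      map_smul' := fun c T => funext fun q => Quotient.inductionOn' q fun _ => rfl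
      invFun := fun φ => ⟨Perm.ModuleHeart.kernelMap (fun y x => φ (Quotient.mk'' (x, y))), fun g => by
        refine LinearMap.ext fun f => ?_
        show Cfsg.permRep K G Ω₂ g (Perm.ModuleHeart.kernelMap (fun y x => φ (Quotient.mk'' (x, y)))
            (Cfsg.permRep K G Ω₁ g⁻¹ f)) =
          Perm.ModuleHeart.kernelMap (fun y x => φ (Quotient.mk'' (x, y))) f
        rw [← Perm.ModuleHeart.kernelMap_equivariant (G := G)
          (M := fun y x => φ (Quotient.mk'' (x, y)))
          (fun h y x => congrArg φ (Quotient.sound' ⟨h, rfl⟩)) g]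
        congr 1
        funext x
        simp [Perm.ModuleHeart.permRep_apply]⟩
      left_inv := fun T => Subtype.ext (LinearMap.ext fun f => funext fun y => by
        show ∑ x, (T : (Ω₁ → K) →ₗ[K] (Ω₂ → K)) (Pi.single x 1) y * f x =
          (T : (Ω₁ → K) →ₗ[K] (Ω₂ → K)) f y
        conv_rhs => rw [pi_eq_sum_univ' f]
        simp only [map_sum, map_smul, Finset.sum_apply, Pi.smul_apply, smul_eq_mul, mul_comm])
      right_inv := fun φ => funext fun q => Quotient.inductionOn' q fun z => by
        show ∑ x, φ (Quotient.mk'' (x, z.2)) * (Pi.single z.1 (1 : K) : Ω₁ → K) x = φ (Quotient.mk'' z)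
        simp [Pi.single_apply] }
  haveI : Fintype (MulAction.orbitRel.Quotient G (Ω₁ × Ω₂)) := Fintype.ofFinite _
  rw [e.finrank_eq, Module.finrank_fintype_fun_eq_card, Nat.card_eq_fintype_card]

end Cfsg.Agent.S0668
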