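import Cfsg.Statements.S0669
-- import your own Cfsg.Agent.* helpers here

set_option autoImplicit false
open Cfsg

namespace Cfsg.Agent.S0669

/-- The rank of a transitive action: orbits on ordered pairs correspond to orbits of a point stabiliser. -/
theorem result {G : Type*} [Group G] {Ω : Type*} [Finite Ω] [MulAction G Ω] [MulAction.IsPretransitive G Ω] (a : Ω) : Nat.card (MulAction.orbitRel.Quotient G (Ω × Ω)) = Nat.card (MulAction.orbitRel.Quotient (MulAction.stabilizer G a) Ω) := by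
  classical
  refine (Nat.card_eq_of_bijective
    (Quotient.lift
      (fun b : Ω => (Quotient.mk'' ((a, b) : Ω × Ω) : MulAction.orbitRel.Quotient G (Ω × Ω)))
      ?_) ⟨?_, ?_⟩).symm
  · rintro b c ⟨g, rfl⟩
    refine Quotient.sound' ⟨(g : G), ?_⟩
    exact Prod.ext g.2 rfl
  · rintro ⟨b⟩ ⟨c⟩ h
    obtain ⟨g, hg⟩ := Quotient.exact' h
    exact Quotient.sound' ⟨⟨g, (Prod.ext_iff.1 hg).1⟩, (Prod.ext_iff.1 hg).2⟩
  · rintro ⟨x, y⟩
    obtain ⟨g, hg⟩ := MulAction.exists_smul_eq G x a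
    refine ⟨Quotient.mk'' (g • y), ?_⟩
    exact Quotient.sound' ⟨g, Prod.ext hg rfl⟩

end Cfsg.Agent.S0669
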