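import Cfsg.Statements.S0677

import Cfsg.Agent.S0676
import Cfsg.Agent.Lib.Socle.DerangementClasses
import Cfsg.Agent.Lib.Perm.Basic
import Cfsg.Agent.Lib.Coprime.Basic

set_option autoImplicit false
set_option linter.style.haveILetI false
open Cfsg
open Cfsg.Agent Cfsg.Agent.Perm.PrimeDegree

namespace Cfsg.Agent.S0677

section
variable {α : Type*} [Fintype α] [DecidableEq α] {G : Subgroup (Equiv.Perm α)} (H : Subgroup G)

/-- The point `x` lies in the translate of `B` named by the coset. -/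
def Inc (B : Set α) (hB : ∀ h ∈ H, ∀ x, h • x ∈ B ↔ x ∈ B) (x : α) : G ⧸ H → Prop :=
  Quotient.lift (fun g : G => g⁻¹ • x ∈ B) fun a b hab => propext (by
    have h := hB _ (QuotientGroup.leftRel_apply.1 hab) (b⁻¹ • x)
    rwa [smul_smul, mul_inv_cancel_right] at h)

omit [Fintype α] [DecidableEq α] in
theorem inc_mk (B : Set α) (hB : ∀ h ∈ H, ∀ x, h • x ∈ B ↔ x ∈ B) (x : α) (g : G) :
    Inc H B hB x (g : G ⧸ H) ↔ g⁻¹ • x ∈ B := Iff.rfl

omit [Fintype α] [DecidableEq α] in
theorem inc_smul (B : Set α) (hB : ∀ h ∈ H, ∀ x, h • x ∈ B ↔ x ∈ B) (x : α) (g : G) (c : G ⧸ H) :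
    Inc H B hB (g • x) (g • c) ↔ Inc H B hB x c := by
  induction c using QuotientGroup.induction_on with
  | _ b =>
    show (g * b)⁻¹ • g • x ∈ B ↔ b⁻¹ • x ∈ B
    rw [smul_smul, mul_inv_rev, inv_mul_cancel_right]

/-- The derived incidence map is injective, so there are at least `p - 1` translates through a point. -/
theorem fisher (h3 : MulAction.IsMultiplyPretransitive G α 3) (B : Set α)
    (hB : ∀ h ∈ H, ∀ x, h • x ∈ B ↔ x ∈ B) {b₁ b₂ c₀ : α} (hb₁ : b₁ ∈ B) (hb₂ : b₂ ∈ B) (hb : b₁ ≠ b₂)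
    (hc : c₀ ∉ B) :
    Fintype.card α ≤ Nat.card {c : G ⧸ H // Inc H B hB b₁ c} + 1 := by
  classical
  haveI : Fintype (G ⧸ H) := Fintype.ofFinite _
  let S : Finset α → Finset (G ⧸ H) := fun T => Finset.univ.filter fun c => ∀ x ∈ T, Inc H B hB x c
  have hinv : ∀ (g : G) (T : Finset α), (S (T.image (g • ·))).card = (S T).card := by
    intro g T
    refine (Finset.card_bij (fun c _ => g • c) (fun c hc => ?_) (fun a _ b _ h => smul_left_cancel g h) ?_).symm
    · simp only [S, Finset.mem_filter, Finset.mem_univ, true_and] at hc ⊢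
      intro x hx
      obtain ⟨y, hy, rfl⟩ := Finset.mem_image.1 hx
      exact (inc_smul H B hB y g c).2 (hc y hy)
    · intro c hc
      simp only [S, Finset.mem_filter, Finset.mem_univ, true_and] at hc
      refine ⟨g⁻¹ • c, ?_, smul_inv_smul g c⟩
      simp only [S, Finset.mem_filter, Finset.mem_univ, true_and]
      intro y hy
      have := hc (g • y) (Finset.mem_image_of_mem _ hy)
      rwa [← smul_inv_smul g c, inc_smul] at this
  have h3' : ∀ {a b c a' b' c' : α}, a ≠ b → a ≠ c → b ≠ c → a' ≠ b' → a' ≠ c' → b' ≠ c' →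
      ∃ g : G, g • a = a' ∧ g • b = b' ∧ g • c = c' := by
    intro a b c a' b' c' h1 h2 h3'' h4 h5 h6
    have hi : ∀ u v w : α, u ≠ v → u ≠ w → v ≠ w → Function.Injective ![u, v, w] := by
      intro u v w e1 e2 e3 i j hij
      fin_cases i <;> fin_cases j <;> simp_all
    obtain ⟨g, hg⟩ := MulAction.exists_smul_eq (M := G) (⟨![a, b, c], hi a b c h1 h2 h3''⟩ : Fin 3 ↪ α)
      ⟨![a', b', c'], hi a' b' c' h4 h5 h6⟩
    exact ⟨g, by simpa using DFunLike.congr_fun hg 0, by simpa using DFunLike.congr_fun hg 1,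
      by simpa using DFunLike.congr_fun hg 2⟩
  have h2' : MulAction.IsMultiplyPretransitive G α 2 := by
    rw [MulAction.is_two_pretransitive_iff]
    intro a b c d hab hcd
    obtain ⟨e, he⟩ : ∃ e, e ∉ ({a, b} : Finset α) := by
      by_contra hcon
      push Not at hcon
      have hle := Finset.card_le_card (fun x (_ : x ∈ (Finset.univ : Finset α)) => hcon x)
      have : ({b₁, b₂, c₀} : Finset α).card = 3 := Finset.card_eq_three.2
        ⟨b₁, b₂, c₀, hb, fun h => hc (h ▸ hb₁), fun h => hc (h ▸ hb₂), rfl⟩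
      have h5 := Finset.card_le_univ ({b₁, b₂, c₀} : Finset α)
      rw [Finset.card_univ] at hle
      have : ({a, b} : Finset α).card ≤ 2 := Finset.card_le_two
      omega
    obtain ⟨e', he'⟩ : ∃ e, e ∉ ({c, d} : Finset α) := by
      by_contra hcon
      push Not at hcon
      have hle := Finset.card_le_card (fun x (_ : x ∈ (Finset.univ : Finset α)) => hcon x)
      have : ({b₁, b₂, c₀} : Finset α).card = 3 := Finset.card_eq_three.2
        ⟨b₁, b₂, c₀, hb, fun h => hc (h ▸ hb₁), fun h => hc (h ▸ hb₂), rfl⟩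
      have h5 := Finset.card_le_univ ({b₁, b₂, c₀} : Finset α)
      rw [Finset.card_univ] at hle
      have : ({c, d} : Finset α).card ≤ 2 := Finset.card_le_two
      omega
    simp only [Finset.mem_insert, Finset.mem_singleton, not_or] at he he'
    obtain ⟨g, g1, g2, -⟩ := h3' hab (Ne.symm he.1) (Ne.symm he.2) hcd (Ne.symm he'.1) (Ne.symm he'.2)
    exact ⟨g, g1, g2⟩
  set l := (S {b₁, b₂}).card
  set m := (S {b₁, b₂, c₀}).card
  have hml : m < l := by
    refine Finset.card_lt_card ⟨fun c hc' => ?_, fun hsub => ?_⟩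
    · simp only [S, Finset.mem_filter, Finset.mem_univ, true_and] at hc' ⊢
      intro x hx
      exact hc' x (by simp only [Finset.mem_insert, Finset.mem_singleton] at hx ⊢; tauto)
    · have : ((1 : G) : G ⧸ H) ∈ S {b₁, b₂} := by
        simp [S, inc_mk, hb₁, hb₂]
      have := hsub this
      simp [S, inc_mk, hc] at this
  have hpair : ∀ y, y ≠ b₁ → (S {b₁, y}).card = l := by
    intro y hy
    obtain ⟨g, g1, g2⟩ := MulAction.is_two_pretransitive_iff.1 h2' hb (Ne.symm hy)
    have := hinv g {b₁, b₂}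
    rw [Finset.image_insert, Finset.image_singleton, g1, g2] at this
    exact this
  have htriple : ∀ y z, y ≠ b₁ → z ≠ b₁ → y ≠ z → (S {b₁, y, z}).card = m := by
    intro y z hy hz hyz
    obtain ⟨g, g1, g2, g3⟩ := h3' hb (ne_of_mem_of_not_mem hb₁ hc) (ne_of_mem_of_not_mem hb₂ hc) (Ne.symm hy)
      (Ne.symm hz) hyz
    have := hinv g {b₁, b₂, c₀}
    rw [Finset.image_insert, Finset.image_insert, Finset.image_singleton, g1, g2, g3] at this
    exact this
  let M : ({y : α // y ≠ b₁} → ℚ) →ₗ[ℚ] ({c : G ⧸ H // Inc H B hB b₁ c} → ℚ) :=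
    { toFun := fun f c => ∑ y, if Inc H B hB y.1 c.1 then f y else 0
      map_add' := fun f g => funext fun c => by
        simp only [Pi.add_apply, ← Finset.sum_add_distrib]
        exact Finset.sum_congr rfl fun y _ => by split_ifs <;> simp
      map_smul' := fun a f => funext fun c => by
        simp only [Pi.smul_apply, smul_eq_mul, Finset.mul_sum, RingHom.id_apply]
        exact Finset.sum_congr rfl fun y _ => by split_ifs <;> simp }
  have hinjM : Function.Injective M := by
    rw [← LinearMap.ker_eq_bot, LinearMap.ker_eq_bot']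
    intro f hf
    have hent : ∀ y z : {y : α // y ≠ b₁},
        ∑ c : {c : G ⧸ H // Inc H B hB b₁ c},
          (if Inc H B hB y.1 c.1 ∧ Inc H B hB z.1 c.1 then (1 : ℚ) else 0) =
        if y = z then (l : ℚ) else (m : ℚ) := by
      intro y z
      rw [Finset.sum_boole]
      have hh : (Finset.univ.filter fun c : {c : G ⧸ H // Inc H B hB b₁ c} =>
          Inc H B hB y.1 c.1 ∧ Inc H B hB z.1 c.1).card = (S {b₁, y.1, z.1}).card := by
        refine Finset.card_bij (fun c _ => c.1) (fun c hc' => ?_) (fun a _ b _ h => Subtype.ext h) ?_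
        · simp only [Finset.mem_filter, Finset.mem_univ, true_and] at hc'
          simp [S, c.2, hc'.1, hc'.2]
        · intro c hc'
          simp only [S, Finset.mem_filter, Finset.mem_univ, true_and] at hc'
          exact ⟨⟨c, hc' b₁ (by simp)⟩, by simp [hc' y.1 (by simp), hc' z.1 (by simp)], rfl⟩
      rw [hh]
      split_ifs with hyz
      · subst hyz
        rw [show ({b₁, y.1, y.1} : Finset α) = {b₁, y.1} by simp, hpair _ y.2]
      · rw [htriple _ _ y.2 z.2 fun h => hyz (Subtype.ext h)]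
    have h0 : (0 : ℚ) = ((l : ℚ) - m) * ∑ y, f y ^ 2 + (m : ℚ) * (∑ y, f y) ^ 2 := by
      calc (0 : ℚ) = ∑ c, (M f c) ^ 2 := by rw [hf]; simp
        _ = ∑ c : {c : G ⧸ H // Inc H B hB b₁ c}, ∑ y, ∑ z,
              f y * f z * (if Inc H B hB y.1 c.1 ∧ Inc H B hB z.1 c.1 then (1 : ℚ) else 0) := by
            refine Finset.sum_congr rfl fun c _ => ?_
            show (∑ y, if Inc H B hB y.1 c.1 then f y else 0) ^ 2 = _
            rw [pow_two, Finset.sum_mul_sum]
            refine Finset.sum_congr rfl fun y _ => Finset.sum_congr rfl fun z _ => ?_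
            split_ifs <;> simp_all
        _ = ∑ y, ∑ z, f y * f z * (if y = z then (l : ℚ) else (m : ℚ)) := by
            rw [Finset.sum_comm]
            refine Finset.sum_congr rfl fun y _ => ?_
            rw [Finset.sum_comm]
            exact Finset.sum_congr rfl fun z _ => by rw [← Finset.mul_sum, hent]
        _ = ∑ y, ∑ z, ((if y = z then ((l : ℚ) - m) * (f y * f z) else 0) + (m : ℚ) * (f y * f z)) :=
            Finset.sum_congr rfl fun y _ => Finset.sum_congr rfl fun z _ => by split_ifs <;> ring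
        _ = _ := by
            simp only [Finset.sum_add_distrib, Finset.sum_ite_eq, Finset.mem_univ, if_true, ← Finset.mul_sum,
              pow_two, Finset.sum_mul_sum]
    have hpos : (0 : ℚ) < (l : ℚ) - m := by
      rw [sub_pos]; exact_mod_cast hml
    have hsq : ∑ y, f y ^ 2 = 0 := by
      have h1 : (0 : ℚ) ≤ ∑ y, f y ^ 2 := Finset.sum_nonneg fun y _ => sq_nonneg _
      have h2 : (0 : ℚ) ≤ (m : ℚ) * (∑ y, f y) ^ 2 := by positivity
      nlinarith [mul_nonneg hpos.le h1]
    funext y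
    exact pow_eq_zero_iff two_ne_zero |>.1 ((Finset.sum_eq_zero_iff_of_nonneg fun y _ => sq_nonneg _).1 hsq y (Finset.mem_univ y))
  have := LinearMap.finrank_le_finrank_of_injective hinjM
  rw [Module.finrank_fintype_fun_eq_card, Module.finrank_fintype_fun_eq_card, Fintype.card_subtype_compl,
    Fintype.card_subtype_eq, ← Nat.card_eq_fintype_card (α := {c : G ⧸ H // Inc H B hB b₁ c})] at this
  omega

end


/-- In a transitive permutation group of prime degree `p` whose Sylow `p`-normaliser has even order, the point stabilisers are the only subgroups of index `p`. -/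
theorem result {α : Type*} [Fintype α] [DecidableEq α] {p : ℕ} [Fact p.Prime] (hα : Fintype.card α = p) (G : Subgroup (Equiv.Perm α)) [MulAction.IsPretransitive G α] (P : Sylow p G) (heven : Even (Nat.card (Subgroup.normalizer ((P : Subgroup G) : Set G)))) (H : Subgroup G) (hH : H.index = p) : ∃ a : α, H = MulAction.stabilizer G a := by
  classical
  have hp := (Fact.out : p.Prime)
  haveI : Nonempty α := Fintype.card_pos_iff.1 (hα ▸ hp.pos)
  have hpG : ¬ p ^ 2 ∣ Nat.card G := not_dvd_card_sq G hp hα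
  have hHp : ¬ p ∣ Nat.card H := fun h => hpG (by
    rw [pow_two, ← H.index_mul_card, hH]
    exact Nat.mul_dvd_mul_left p h)
  have hstab : ∀ a : α, (MulAction.stabilizer G a).index = p := fun a => by
    rw [MulAction.index_stabilizer_of_transitive, Nat.card_eq_fintype_card, hα]
  -- it suffices to fix a point
  suffices hfix : ∃ a : α, ∀ h ∈ H, h • a = a by
    obtain ⟨a, ha⟩ := hfix
    refine ⟨a, Subgroup.eq_of_le_of_card_ge (fun h hh => ha h hh) (le_of_eq ?_)⟩
    refine Nat.eq_of_mul_eq_mul_left hp.pos ?_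
    rw [← hH, H.index_mul_card, hH, ← hstab a, Subgroup.index_mul_card]
  by_cases hsol : Group.IsSolvable G
  · haveI : Nontrivial G := by
      obtain ⟨c, hc⟩ := exists_orderOf_eq G hα
      exact ⟨⟨c, 1, fun h => hp.ne_one (by rw [← hc, h, orderOf_one])⟩⟩
    obtain ⟨N, hN, hne, hmin⟩ := Socle.exists_minimal_normal (G := G)
    haveI := hN
    haveI hNab : IsMulCommutative N := by
      rcases hmin ⁅N, N⁆ inferInstance (Subgroup.commutator_le_left N N) with h | h
      · exact ⟨⟨fun a b => Subtype.ext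
          (Subgroup.mem_centralizer_iff.mp (Subgroup.commutator_eq_bot_iff_le_centralizer.mp h b.2) a a.2)⟩⟩
      · exact absurd h (Group.IsSolvable.commutator_lt_of_ne_bot hne).ne
    haveI : MulAction.IsPreprimitive G α :=
      MulAction.IsPreprimitive.of_prime_card (by rwa [Nat.card_eq_fintype_card, hα])
    obtain ⟨hNtr, hNreg, -⟩ := Perm.regular_of_abelian_normal (α := α) hne
    haveI := hNtr
    obtain ⟨a⟩ := ‹Nonempty α›
    have hNcard : Nat.card N = p := by
      rw [Perm.card_eq_of_regular (hNreg a), Nat.card_eq_fintype_card, hα]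
    have hcompl : ∀ K : Subgroup G, K.index = p → Subgroup.IsComplement' N K := by
      intro K hK
      have hKp : ¬ p ∣ Nat.card K := fun h => hpG (by
        rw [pow_two, ← K.index_mul_card, hK]; exact Nat.mul_dvd_mul_left p h)
      exact Subgroup.isComplement'_of_coprime (by rw [hNcard, ← hK, K.index_mul_card])
        (by rw [hNcard]; exact hp.coprime_iff_not_dvd.2 hKp)
    have hcop : (Nat.card N).Coprime N.index := by
      rw [hNcard, (hcompl H hH).symm.index_eq_card]
      exact hp.coprime_iff_not_dvd.2 hHp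
    obtain ⟨g, -, hg⟩ := Coprime.exists_conj_eq_of_isComplement' hcop
      (Or.inl (Group.isSolvable_of_comm fun u v => mul_comm' u v)) (hcompl H hH) (hcompl _ (hstab a))
    refine ⟨g⁻¹ • a, fun h hh => ?_⟩
    have : g * h * g⁻¹ ∈ MulAction.stabilizer G a := hg ▸ ⟨h, hh, rfl⟩
    rw [MulAction.mem_stabilizer_iff, mul_smul, mul_smul] at this
    exact (eq_inv_smul_iff.2 this : h • g⁻¹ • a = g⁻¹ • a)
  -- the non-solvable case
  have h3 := S0676.result hα G hsol P heven
  have hp5 : 5 ≤ p := by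
    obtain ⟨c, hc⟩ := exists_orderOf_eq G hα
    obtain ⟨e, -, -⟩ := exists_coords (p := p) hα (c := (c : Equiv.Perm α)) (by rw [Subgroup.orderOf_coe, hc])
      (Classical.arbitrary α)
    exact five_le_of_not_isSolvable e hsol
  set a₀ := Classical.arbitrary α
  let B : Set α := MulAction.orbit H a₀
  have hB : ∀ h ∈ H, ∀ x, h • x ∈ B ↔ x ∈ B := fun h hh x => by
    constructor
    · intro hx
      have := MulAction.mem_orbit_of_mem_orbit (⟨h, hh⟩⁻¹ : H) hx
      rwa [Subgroup.smul_def, InvMemClass.coe_inv, Subtype.coe_mk, inv_smul_smul] at this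
    · exact fun hx => MulAction.mem_orbit_of_mem_orbit (⟨h, hh⟩ : H) hx
  have hBc : ∀ h ∈ H, ∀ x, h • x ∈ Bᶜ ↔ x ∈ Bᶜ := fun h hh x => not_congr (hB h hh x)
  obtain ⟨c₀, hc₀⟩ : ∃ c, c ∉ B := by
    by_contra hcon
    push Not at hcon
    refine hHp ?_
    haveI : MulAction.IsPretransitive H α :=
      ⟨fun x y => by
        obtain ⟨u, rfl⟩ := hcon x
        obtain ⟨v, rfl⟩ := hcon y
        exact ⟨v * u⁻¹, by simp [mul_smul]⟩⟩
    rw [← hα, ← Nat.card_eq_fintype_card, ← MulAction.index_stabilizer_of_transitive H a₀]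
    exact Subgroup.index_dvd_card _
  by_cases hB2 : ∃ b₂ ∈ B, b₂ ≠ a₀
  swap
  · push Not at hB2
    exact ⟨a₀, fun h hh => hB2 _ ((hB h hh a₀).2 (MulAction.mem_orbit_self a₀))⟩
  by_cases hC2 : ∃ c₂ ∈ Bᶜ, c₂ ≠ c₀
  swap
  · push Not at hC2
    exact ⟨c₀, fun h hh => hC2 _ ((hBc h hh c₀).2 hc₀)⟩
  exfalso
  obtain ⟨b₂, hb₂, hb₂'⟩ := hB2
  obtain ⟨c₂, hc₂, hc₂'⟩ := hC2
  have e1 := fisher H h3 B hB (MulAction.mem_orbit_self a₀) hb₂ (Ne.symm hb₂') hc₀
  have e2 := fisher H h3 Bᶜ hBc (b₁ := c₀) hc₀ hc₂ (Ne.symm hc₂') (c₀ := a₀)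
    (fun h => h (MulAction.mem_orbit_self a₀))
  obtain ⟨g, hg⟩ := MulAction.exists_smul_eq G a₀ c₀
  have e3 : Nat.card {c : G ⧸ H // Inc H Bᶜ hBc c₀ c} = Nat.card {c : G ⧸ H // ¬ Inc H B hB a₀ c} := by
    refine Nat.card_congr (Equiv.subtypeEquiv (MulAction.toPerm (g⁻¹ : G)) fun c => ?_)
    show Inc H Bᶜ hBc c₀ c ↔ ¬ Inc H B hB a₀ (g⁻¹ • c)
    rw [← inc_smul H B hB a₀ g (g⁻¹ • c), smul_inv_smul, hg]
    induction c using QuotientGroup.induction_on with
    | _ b => exact Iff.rfl
  rw [e3] at e2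
  have e4 : Nat.card {c : G ⧸ H // Inc H B hB a₀ c} + Nat.card {c : G ⧸ H // ¬ Inc H B hB a₀ c} = p := by
    rw [← Nat.card_sum, Nat.card_congr (Equiv.sumCompl _)]
    exact hH
  rw [hα] at e1 e2
  omega

end Cfsg.Agent.S0677
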