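import Cfsg.Statements.S0681
-- import your own Cfsg.Agent.* helpers here

set_option autoImplicit false
open Cfsg

namespace Cfsg.Agent.S0681

/-- The affine maps `x ↦ x * a + b`, `a ≠ 0`, of a near-field form a sharply doubly transitive permutation group. -/
theorem result {F : Type*} [Cfsg.NearField F] : ∃ H : Subgroup (Equiv.Perm F), (∀ σ : Equiv.Perm F, σ ∈ H ↔ ∃ a b : F, a ≠ 0 ∧ ∀ x : F, σ x = x * a + b) ∧ MulAction.IsMultiplyPretransitive H F 2 ∧ ∀ x : Fin 2 ↪ F, MulAction.stabilizer H x = ⊥ := by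
  classical
  have h0 : ∀ c : F, (0 : F) * c = 0 := fun c =>
    (AddMonoidHom.mk' (fun x => x * c) (fun a b => Cfsg.NearField.right_distrib a b c)).map_zero
  have hneg : ∀ x c : F, (-x) * c = -(x * c) := fun x c =>
    (AddMonoidHom.mk' (fun x => x * c) (fun a b => Cfsg.NearField.right_distrib a b c)).map_neg x
  let S : Set (Equiv.Perm F) := {σ | ∃ a b : F, a ≠ 0 ∧ ∀ x : F, σ x = x * a + b}
  have hone : (1 : Equiv.Perm F) ∈ S := ⟨1, 0, Cfsg.NearField.zero_ne_one.symm, fun x => by simp⟩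
  have hmul : ∀ σ τ, σ ∈ S → τ ∈ S → σ * τ ∈ S := by
    rintro σ τ ⟨a, b, ha, hσ⟩ ⟨c, d, hc, hτ⟩
    refine ⟨c * a, d * a + b, ?_, fun x => ?_⟩
    · intro h
      obtain ⟨a', ha', -⟩ := Cfsg.NearField.exists_inv a ha
      have h2 := congrArg (· * a') h
      simp only [mul_assoc, ha', mul_one, h0] at h2
      exact hc h2
    · rw [Equiv.Perm.mul_apply, hτ, hσ, Cfsg.NearField.right_distrib, mul_assoc, add_assoc]
  have hinv : ∀ σ, σ ∈ S → σ⁻¹ ∈ S := by
    rintro σ ⟨a, b, ha, hσ⟩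
    obtain ⟨a', haa', ha'a⟩ := Cfsg.NearField.exists_inv a ha
    refine ⟨a', -b * a', ?_, fun x => ?_⟩
    · intro h
      rw [h, Cfsg.NearField.mul_zero] at haa'
      exact Cfsg.NearField.zero_ne_one haa'
    · apply σ.injective
      rw [Equiv.Perm.inv_def, Equiv.apply_symm_apply, hσ, ← Cfsg.NearField.right_distrib, mul_assoc,
        ha'a, mul_one, neg_add_cancel_right]
  let H : Subgroup (Equiv.Perm F) :=
    { carrier := S
      mul_mem' := fun {a b} => hmul a b
      one_mem' := hone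
      inv_mem' := fun {a} => hinv a }
  have hmem : ∀ σ : Equiv.Perm F, σ ∈ H ↔ ∃ a b : F, a ≠ 0 ∧ ∀ x : F, σ x = x * a + b :=
    fun σ => Iff.rfl
  -- the element of `H` with given coefficients
  have hmk : ∀ a b : F, a ≠ 0 → ∃ σ : H, ∀ x : F, σ • x = x * a + b := by
    intro a b ha
    obtain ⟨a', haa', ha'a⟩ := Cfsg.NearField.exists_inv a ha
    refine ⟨⟨⟨fun x => x * a + b, fun y => (y + -b) * a', ?_, ?_⟩, a, b, ha, fun x => rfl⟩, fun x => rfl⟩
    · intro x
      simp only [add_neg_cancel_right]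
      rw [mul_assoc, haa', mul_one]
    · intro y
      simp only [mul_assoc, ha'a, mul_one, neg_add_cancel_right]
  have key : ∀ x y u v : F, x ≠ y → u ≠ v → ∃ σ : H, σ • x = u ∧ σ • y = v := by
    intro x y u v hxy huv
    have hyx : y + -x ≠ 0 := fun h => hxy (add_neg_eq_zero.1 h).symm
    have hvu : v + -u ≠ 0 := fun h => huv (add_neg_eq_zero.1 h).symm
    obtain ⟨e, he, he'⟩ := Cfsg.NearField.exists_inv (y + -x) hyx
    have ha : e * (v + -u) ≠ 0 := by
      intro h
      have h2 : (y + -x) * (e * (v + -u)) = (y + -x) * 0 := by rw [h]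
      rw [← mul_assoc, he, one_mul, Cfsg.NearField.mul_zero] at h2
      exact hvu h2
    have hy : (y + -x) * (e * (v + -u)) = v + -u := by rw [← mul_assoc, he, one_mul]
    generalize e * (v + -u) = a at ha hy
    obtain ⟨σ, hσ⟩ := hmk a (-(x * a) + u) ha
    refine ⟨σ, ?_, ?_⟩
    · rw [hσ, add_neg_cancel_left]
    · rw [hσ, ← add_assoc, ← hneg, ← Cfsg.NearField.right_distrib, hy, neg_add_cancel_right]
  refine ⟨H, hmem, MulAction.is_two_pretransitive_iff.mpr (fun {a b c d} hab hcd => key a b c d hab hcd), ?_⟩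
  intro e
  rw [Subgroup.eq_bot_iff_forall]
  rintro ⟨σ, a, b, ha, hσ⟩ hfix
  have hfix' : ∀ i, σ (e i) = e i := fun i =>
    congrFun (congrArg DFunLike.coe (MulAction.mem_stabilizer_iff.1 hfix)) i
  have e0 := hfix' 0
  have e1 := hfix' 1
  rw [hσ] at e0 e1
  have hd : (e 0 + -e 1) * a = e 0 + -e 1 := by
    rw [Cfsg.NearField.right_distrib, hneg]
    conv_rhs => rw [← e0, ← e1]
    rw [neg_add_rev, add_assoc, ← add_assoc b, add_neg_cancel, zero_add]
  have hne : e 0 + -e 1 ≠ 0 := fun h =>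
    absurd (e.injective (add_neg_eq_zero.1 h)) (by decide)
  obtain ⟨w, hw, hw'⟩ := Cfsg.NearField.exists_inv (e 0 + -e 1) hne
  have ha1 : a = 1 := by
    have h := congrArg (w * ·) hd
    simp only [← mul_assoc, hw', one_mul] at h
    exact h
  have hb : b = 0 := by
    rw [ha1, mul_one] at e0
    exact add_eq_left.1 e0
  apply Subtype.ext
  ext x
  change σ x = x
  rw [hσ, ha1, hb, mul_one, add_zero]

end Cfsg.Agent.S0681
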