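import Cfsg.Statements.S0682
import Mathlib.GroupTheory.Perm.Cycle.Type
import Mathlib.GroupTheory.PGroup
-- import your own Cfsg.Agent.* helpers here

set_option autoImplicit false
open Cfsg

namespace Cfsg.Agent.S0682

/-- A finite near-field has prime-power order; its additive group is commutative of prime exponent. -/
theorem result {F : Type*} [Cfsg.NearField F] [Finite F] : ∃ p j : ℕ, p.Prime ∧ 1 ≤ j ∧ Nat.card F = p ^ j ∧ (∀ x y : F, x + y = y + x) ∧ ∀ x : F, p • x = 0 := by
  classical
  haveI : Fintype F := Fintype.ofFinite F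
  have h0ne : (0 : F) ≠ 1 := Cfsg.NearField.zero_ne_one
  haveI : Nontrivial F := ⟨⟨0, 1, h0ne⟩⟩
  -- right multiplication by a fixed element is additive
  let R : F → F →+ F := fun c => AddMonoidHom.mk' (fun x => x * c)
    (fun a b => Cfsg.NearField.right_distrib a b c)
  have h0 : ∀ c : F, (0 : F) * c = 0 := fun c => (R c).map_zero
  -- any nonzero element is carried to any other by such a map
  have hmove : ∀ x y : F, x ≠ 0 → ∃ c : F, x * c = y := by
    intro x y hx
    obtain ⟨z, hz, -⟩ := Cfsg.NearField.exists_inv x hx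
    exact ⟨z * y, by rw [← mul_assoc, hz, one_mul]⟩
  obtain ⟨p, hp, hpdvd⟩ := Nat.exists_prime_and_dvd (n := Nat.card F)
    (Finite.one_lt_card (α := F)).ne'
  haveI : Fact p.Prime := ⟨hp⟩
  obtain ⟨x₀, hx₀⟩ := exists_prime_addOrderOf_dvd_card p (Nat.card_eq_fintype_card (α := F) ▸ hpdvd)
  have hx₀0 : x₀ ≠ 0 := by
    intro h
    rw [h, addOrderOf_zero] at hx₀
    exact hp.ne_one hx₀.symm
  have hexp : ∀ x : F, p • x = 0 := by
    intro x
    obtain ⟨c, rfl⟩ := hmove x₀ x hx₀0
    have h := (R c).map_nsmul p x₀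
    rw [← hx₀, addOrderOf_nsmul_eq_zero, map_zero, hx₀] at h
    exact h.symm
  have hpg : IsPGroup p (Multiplicative F) := fun g => ⟨1, by
    rw [pow_one]
    exact congrArg Multiplicative.ofAdd (hexp g.toAdd)⟩
  obtain ⟨j, hj⟩ := IsPGroup.iff_card.1 hpg
  have hj' : Nat.card F = p ^ j := by
    rw [← hj]
    exact Nat.card_congr Multiplicative.ofAdd
  have hj1 : 1 ≤ j := by
    rcases Nat.eq_zero_or_pos j with h | h
    · rw [h, pow_zero] at hj'
      exact absurd hj' (Finite.one_lt_card (α := F)).ne'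
    · exact h
  refine ⟨p, j, hp, hj1, hj', fun x y => ?_, hexp⟩
  -- a nontrivial centre, hence everything is central
  haveI : Nontrivial (Multiplicative F) := Multiplicative.ofAdd.symm.nontrivial
  haveI := hpg.center_nontrivial
  obtain ⟨⟨z, hz⟩, hz1⟩ := exists_ne (1 : Subgroup.center (Multiplicative F))
  have hz0 : z.toAdd ≠ 0 := fun h => hz1 (Subtype.ext (congrArg Multiplicative.ofAdd h))
  obtain ⟨c, hc⟩ := hmove z.toAdd x hz0
  by_cases hc0 : c = 0
  · rw [← hc, hc0, Cfsg.NearField.mul_zero, zero_add, add_zero]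
  · obtain ⟨d, -, hd⟩ := Cfsg.NearField.exists_inv c hc0
    have hy : y * d * c = y := by rw [mul_assoc, hd, mul_one]
    have hcomm : y * d + z.toAdd = z.toAdd + y * d :=
      congrArg Multiplicative.toAdd (Subgroup.mem_center_iff.1 hz (Multiplicative.ofAdd (y * d)))
    have h := congrArg (R c) hcomm
    rw [map_add, map_add] at h
    change y * d * c + z.toAdd * c = z.toAdd * c + y * d * c at h
    rw [hy, hc] at h
    exact h.symm

end Cfsg.Agent.S0682
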