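import Cfsg.Statements.S0683
import Cfsg.Agent.Lib.Perm.Sharply
-- import your own Cfsg.Agent.* helpers here

set_option autoImplicit false
open Cfsg

namespace Cfsg.Agent.S0683

theorem result_aux {α : Type*} [Fintype α] (H : Subgroup (Equiv.Perm α))
    [MulAction.IsMultiplyPretransitive H α 2]
    (hsharp : ∀ x : Fin 2 ↪ α, MulAction.stabilizer H x = ⊥) (h2 : 2 ≤ Fintype.card α) :
    ∃ _ : Cfsg.NearField α, ∀ σ : Equiv.Perm α,
      σ ∈ H ↔ ∃ a b : α, a ≠ 0 ∧ ∀ x : α, σ x = x * a + b := by
  classical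
  have : Nontrivial α := Fintype.one_lt_card_iff_nontrivial.1 (by omega)
  obtain ⟨K, hKn, hKt, hKreg, -, hKc, -⟩ := Perm.exists_kernel_of_sharply_two (G := H) (α := α) hsharp
  obtain ⟨o, u, hou⟩ := exists_pair_ne α
  let e : α ≃ Additive K :=
    (Equiv.ofBijective _ (Perm.bijective_smul_of_regular (hKreg o))).symm.trans Additive.ofMul
  let k : α → K := fun a => Additive.toMul (e a)
  have hk : ∀ a, ((k a : H) • o : α) = a := fun a =>
    (Equiv.ofBijective _ (Perm.bijective_smul_of_regular (hKreg o))).apply_symm_apply a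
  have hkinv : ∀ n : K, k ((n : H) • o) = n := fun n =>
    (Perm.bijective_smul_of_regular (hKreg o)).1 (hk _)
  have hm : ∀ b : α, ∃ g : H, (g • o = o) ∧ (b ≠ o → g • u = b) := by
    intro b
    by_cases hb : b = o
    · exact ⟨1, one_smul H o, fun h => absurd hb h⟩
    · obtain ⟨g, h1, h2⟩ := Perm.exists_smul_eq_two ‹MulAction.IsMultiplyPretransitive H α 2› hou (Ne.symm hb)
      exact ⟨g, h1, fun _ => h2⟩
  choose m hm0 hm1 using hm
  have huniq : ∀ {g h : H}, g • o = h • o → g • u = h • u → g = h := by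
    intro g h h1 h2
    exact (inv_mul_eq_one.1 (Perm.eq_one_of_fixes_two hsharp hou
      (by rw [mul_smul, ← h1, inv_smul_smul]) (by rw [mul_smul, ← h2, inv_smul_smul]))).symm.symm
  have hm1' : ∀ b, b ≠ o → m b = 1 → b = u := fun b hb h => by
    rw [← hm1 b hb, h, one_smul]
  have hne : ∀ {b c : α}, b ≠ o → m c • b ≠ o := fun {b c} hb h =>
    hb (smul_left_cancel (m c) (h.trans (hm0 c).symm))
  letI hA : AddGroup α := e.addGroup
  have hzero : (0 : α) = o := one_smul H o
  have hadd : ∀ a b : α, a + b = ((k a : H) * (k b : H)) • o := fun a b => rfl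
  have hadd' : ∀ a b : α, a + b = (k a : H) • b := fun a b => by
    rw [hadd, mul_smul, hk]
  have hcomm : ∀ a b : α, a + b = (k b : H) • a := fun a b => by
    rw [hadd, show (k a : H) * (k b : H) = (k b : H) * (k a : H) from
      congrArg Subtype.val (mul_comm' (k a) (k b)), mul_smul, hk]
  let mul : α → α → α := fun a b => if b = o then o else m b • a
  have mul_o : ∀ a, mul a o = o := fun a => if_pos rfl
  have mul_ne : ∀ a b, b ≠ o → mul a b = m b • a := fun a b h => if_neg h
  have o_mul : ∀ b, mul o b = o := fun b => by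
    by_cases hb : b = o
    · rw [hb, mul_o]
    · rw [mul_ne _ _ hb, hm0]
  letI hM : Monoid α :=
    { mul := mul
      one := u
      mul_assoc := fun a b c => by
        change mul (mul a b) c = mul a (mul b c)
        by_cases hc : c = o
        · rw [hc, mul_o, mul_o, mul_o]
        by_cases hb : b = o
        · rw [hb, mul_o, o_mul, mul_o]
        rw [mul_ne b c hc, mul_ne a b hb, mul_ne _ c hc, mul_ne a _ (hne hb), ← mul_smul]
        congr 1
        refine huniq ?_ ?_
        · rw [mul_smul, hm0, hm0, hm0]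
        · rw [mul_smul, hm1 b hb, hm1 _ (hne hb)]
      one_mul := fun b => by
        change mul u b = b
        by_cases hb : b = o
        · rw [hb, mul_o]
        · rw [mul_ne _ _ hb, hm1 b hb]
      mul_one := fun a => by
        change mul a u = a
        rw [mul_ne _ _ hou.symm, show m u = 1 from huniq (by rw [hm0, one_smul])
          (by rw [hm1 u hou.symm, one_smul]), one_smul] }
  have hdist : ∀ a b c : α, mul (a + b) c = mul a c + mul b c := by
    intro a b c
    by_cases hc : c = o
    · rw [hc, mul_o, mul_o, mul_o, ← hzero, add_zero]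
    rw [mul_ne _ _ hc, mul_ne _ _ hc, mul_ne _ _ hc, hcomm, hcomm]
    have hconj : m c * (k b : H) * (m c)⁻¹ = (k (m c • b) : H) := by
      have hmem := hKn.conj_mem _ (k b).2 (m c)
      refine Perm.eq_of_smul_eq (hKreg o) hmem (k (m c • b)).2 ?_
      rw [Perm.conj_smul_eq (hm0 c), hk, hk]
    rw [← hconj, mul_smul, mul_smul, inv_smul_smul]
  refine ⟨{ hA, hM with
    right_distrib := hdist
    mul_zero := fun a => by rw [hzero]; exact mul_o a
    zero_ne_one := by rw [hzero]; exact hou
    exists_inv := fun a ha => by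
      rw [hzero] at ha
      have hb : (m a)⁻¹ • u ≠ o := fun h => hou (by
        rw [inv_smul_eq_iff, hm0] at h; exact h.symm)
      refine ⟨(m a)⁻¹ • u, ?_, ?_⟩
      · change mul a _ = u
        rw [mul_ne _ _ hb, show m ((m a)⁻¹ • u) = (m a)⁻¹ from huniq
          (by rw [hm0, eq_comm, inv_smul_eq_iff, hm0]) (by rw [hm1 _ hb]), inv_smul_eq_iff,
          hm1 a ha]
      · change mul _ a = u
        rw [mul_ne _ _ ha, smul_inv_smul] }, fun σ => ?_⟩
  change σ ∈ H ↔ ∃ a b : α, a ≠ 0 ∧ ∀ x : α, σ x = mul x a + b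
  constructor
  · intro hσ
    let g : H := ⟨σ, hσ⟩
    have ha : (k (g • o) : H)⁻¹ • g • u ≠ o := fun h => hou (by
      rw [inv_smul_eq_iff, hk] at h
      exact (smul_left_cancel g h).symm)
    refine ⟨(k (g • o) : H)⁻¹ • g • u, g • o, by rw [hzero]; exact ha, fun x => ?_⟩
    have : g = (k (g • o) : H) * m ((k (g • o) : H)⁻¹ • g • u) := by
      refine huniq ?_ ?_
      · rw [mul_smul, hm0, hk]
      · rw [mul_smul, hm1 _ ha, smul_inv_smul]
    rw [hcomm, mul_ne _ _ ha, ← mul_smul, ← this]
    rfl
  · rintro ⟨a, b, ha, hσ⟩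
    rw [hzero] at ha
    have : σ = (((k b : H) * m a : H) : Equiv.Perm α) := by
      ext x
      rw [hσ x, hcomm, mul_ne _ _ ha, ← mul_smul]
      rfl
    rw [this]
    exact ((k b : H) * m a).2


/-- A finite sharply doubly transitive permutation group is the affine group of a near-field: the permuted set carries a near-field structure for which the group consists exactly of the maps `x ↦ x * a + b` with `a ≠ 0`. -/
theorem result {α : Type*} [Fintype α] [DecidableEq α] (H : Subgroup (Equiv.Perm α)) [MulAction.IsMultiplyPretransitive H α 2] (hsharp : ∀ x : Fin 2 ↪ α, MulAction.stabilizer H x = ⊥) (h2 : 2 ≤ Fintype.card α) : ∃ _ : Cfsg.NearField α, ∀ σ : Equiv.Perm α, σ ∈ H ↔ ∃ a b : α, a ≠ 0 ∧ ∀ x : α, σ x = x * a + b := by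
  exact result_aux H hsharp h2

end Cfsg.Agent.S0683
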