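-- S0686
import Cfsg.Statements.S0686
import Cfsg.Agent.Lib.Frobenius.Construct
import Cfsg.Agent.Lib.Frobenius.ComplementSL25
import Cfsg.Agent.Lib.Frobenius.SL25Normal

set_option autoImplicit false
set_option linter.style.haveILetI false
open Cfsg

namespace Cfsg.Agent.S0686

open scoped MatrixGroups

/-- A quaternion group of class two has order eight. -/
theorem quat_class_two {n : ℕ} (hn : 1 ≤ n)
    (h : ∀ x y z : QuaternionGroup (2 ^ n), z * (x * y * x⁻¹ * y⁻¹) = (x * y * x⁻¹ * y⁻¹) * z) : n = 1 := by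
  haveI : NeZero (2 ^ n) := ⟨by positivity⟩
  have h' := h (.a 1) (.xa 0) (.xa 0)
  have hc : (QuaternionGroup.a 1 : QuaternionGroup (2 ^ n)) * .xa 0 * (.a 1)⁻¹ * (.xa 0)⁻¹ = .a 2 := by
    rw [mul_inv_eq_iff_eq_mul, mul_inv_eq_iff_eq_mul]
    simp only [QuaternionGroup.a_mul_a, QuaternionGroup.a_mul_xa, QuaternionGroup.xa_mul_a, QuaternionGroup.xa.injEq]
    ring
  rw [hc, QuaternionGroup.xa_mul_a, QuaternionGroup.a_mul_xa, QuaternionGroup.xa.injEq] at h'
  have h4 : ((4 : ℕ) : ZMod (2 * 2 ^ n)) = 0 := by push_cast; linear_combination h'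
  rw [ZMod.natCast_eq_zero_iff] at h4
  have hle := Nat.le_of_dvd (by norm_num) h4
  by_contra hne
  have : 2 ^ 2 ≤ 2 ^ n := Nat.pow_le_pow_right (by norm_num) (by omega)
  omega

/-- In a linear group over the prime field that is regular on non-zero vectors and has no irreducible cyclic normal subgroup, let `A` be a maximal normal abelian subgroup and `N` a normal subgroup centralising `A` that is minimal among non-abelian normal subgroups centralising `A`. Then `N` is quaternion of order 8 or isomorphic to `SL(2,5)`. -/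
theorem result {p : ℕ} [Fact p.Prime] {V : Type*} [AddCommGroup V] [Module (ZMod p) V] [Finite V] (H : Subgroup (V ≃ₗ[ZMod p] V)) (hreg : ∀ v w : V, v ≠ 0 → w ≠ 0 → ∃! h : H, (h : V ≃ₗ[ZMod p] V) v = w) (hI : ∀ A : Subgroup H, A.Normal → IsCyclic A → ∃ W : Submodule (ZMod p) V, W ≠ ⊥ ∧ W ≠ ⊤ ∧ ∀ a ∈ A, ∀ v ∈ W, ((a : H) : V ≃ₗ[ZMod p] V) v ∈ W) (A : Subgroup H) (hAn : A.Normal) (hAc : IsMulCommutative A) (hAmax : ∀ B : Subgroup H, B.Normal → IsMulCommutative B → A ≤ B → B = A) (N : Subgroup H) (hNn : N.Normal) (hNle : N ≤ Subgroup.centralizer (A : Set H)) (hNna : ¬ IsMulCommutative N) (hNmin : ∀ M : Subgroup H, M.Normal → M ≤ N → ¬ IsMulCommutative M → M = N) : Nonempty (N ≃* QuaternionGroup 2) ∨ Nonempty (N ≃* Matrix.SpecialLinearGroup (Fin 2) (ZMod 5)) := by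
  classical
  haveI : Nontrivial H := by
    by_contra hcon
    haveI := not_nontrivial_iff_subsingleton.1 hcon
    exact hNna ⟨⟨fun a b => Subsingleton.elim _ _⟩⟩
  haveI : Nontrivial V := by
    by_contra hcon
    haveI := not_nontrivial_iff_subsingleton.1 hcon
    obtain ⟨a, ha⟩ := exists_ne (1 : H)
    exact ha (Subtype.ext (LinearEquiv.ext fun v => Subsingleton.elim _ _))
  haveI : Finite (V ≃ₗ[ZMod p] V) := Finite.of_injective _ DFunLike.coe_injective
  haveI : Finite H := inferInstance
  let φ : H →* MulAut (Multiplicative V) :=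
    { toFun := fun h => AddEquiv.toMultiplicative (h : V ≃ₗ[ZMod p] V).toAddEquiv
      map_one' := rfl
      map_mul' := fun _ _ => rfl }
  have hφ : ∀ a, a ≠ 1 → ∀ v, φ a v = v → v = 1 := by
    intro a ha v hv
    by_contra hv1
    have hw : (v.toAdd : V) ≠ 0 := fun e => hv1 (by
      rw [← ofAdd_toAdd v, e, ofAdd_zero])
    have hav : (a : V ≃ₗ[ZMod p] V) v.toAdd = v.toAdd := congrArg Multiplicative.toAdd hv
    obtain ⟨c, -, hc⟩ := hreg v.toAdd v.toAdd hw hw
    exact ha ((hc a hav).trans (hc 1 rfl).symm)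
  haveI : Nontrivial (Multiplicative V) := Multiplicative.ofAdd.symm.nontrivial
  obtain ⟨L, iL, fL, HL, hHL, hiso, -⟩ := Frobenius.exists_complement_of_fpf φ hφ
  obtain ⟨d, ρ, hd, hρ⟩ := SL25.exists_fpfRep (G := H) ⟨L, iL, fL, HL, hHL, hiso⟩
  haveI : Nonempty (Fin d) := ⟨⟨0, hd⟩⟩
  have hρN := FpfRep.comp_subgroup hρ N
  by_cases hsol : Group.IsSolvable N
  swap
  · obtain ⟨K, ⟨ψ⟩⟩ := SL25.exists_SL25 hρN hsol
    let e : SL(2, ZMod 5) →* H := N.subtype.comp (K.subtype.comp ψ.symm.toMonoidHom)
    have he : Function.Injective e :=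
      N.subtype_injective.comp (K.subtype_injective.comp ψ.symm.injective)
    have hle : e.range ≤ N := by
      rintro _ ⟨q, rfl⟩
      exact ((K.subtype (ψ.symm q)) : N).2
    have hna : ¬ IsMulCommutative e.range := fun hc => by
      obtain ⟨-, -, -, -, -, -, -, -, -, -, hnc, -⟩ := SL25Facts.instance_facts
      refine hnc (he ?_)
      rw [map_mul, map_mul]
      exact congrArg Subtype.val (hc.is_comm.comm ⟨_, _, rfl⟩ ⟨_, _, rfl⟩)
    have heq := hNmin _ (Axes.range_normal hρ e he) hle hna
    exact Or.inr ⟨(MulEquiv.subgroupCongr heq.symm).trans (MonoidHom.ofInjective he).symm⟩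
  left
  haveI := hNn
  haveI := hAn
  -- abelian normal subgroups inside `N` are central in `N`
  have hcent : ∀ M : Subgroup H, M.Normal → M ≤ N → M ≠ N → ∀ m ∈ M, ∀ n ∈ N, n * m = m * n := by
    intro M hMn hMN hne m hm n hn
    have hab : IsMulCommutative M := by
      by_contra hc
      exact hne (hNmin M hMn hMN hc)
    haveI := hMn
    have hsup : M ⊔ A = A := by
      refine hAmax _ inferInstance ⟨⟨fun x y => Subtype.ext ?_⟩⟩ le_sup_right
      have hcl : M ⊔ A ≤ Subgroup.centralizer ((M ⊔ A : Subgroup H) : Set H) := by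
        rw [Subgroup.le_centralizer_iff, sup_le_iff]
        constructor
        · rw [Subgroup.le_centralizer_iff, sup_le_iff]
          refine ⟨fun a ha => Subgroup.mem_centralizer_iff.2 fun b hb =>
            congrArg Subtype.val (hab.is_comm.comm ⟨b, hb⟩ ⟨a, ha⟩), ?_⟩
          rw [Subgroup.le_centralizer_iff]
          exact hMN.trans hNle
        · rw [Subgroup.le_centralizer_iff, sup_le_iff]
          exact ⟨hMN.trans hNle, fun a ha => Subgroup.mem_centralizer_iff.2 fun b hb =>
            congrArg Subtype.val (hAc.is_comm.comm ⟨b, hb⟩ ⟨a, ha⟩)⟩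
      exact Subgroup.mem_centralizer_iff.1 (hcl y.2) x x.2
    have hmA : m ∈ A := hsup ▸ Subgroup.mem_sup_left hm
    exact (Subgroup.mem_centralizer_iff.1 (hNle hn) m hmA).symm
  haveI := hsol
  haveI hNnt : Nontrivial N := by
    by_contra hcon
    haveI := not_nontrivial_iff_subsingleton.1 hcon
    exact hNna ⟨⟨fun a b => Subsingleton.elim _ _⟩⟩
  -- the derived subgroup is central
  have hder : ∀ c ∈ commutator N, ∀ z : N, z * c = c * z := by
    have hlt : commutator N < ⊤ := Group.IsSolvable.commutator_lt_top_of_nontrivial N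
    have hne : (commutator N).map N.subtype ≠ N := fun h => hlt.ne (by
      refine Subgroup.map_injective N.subtype_injective ?_
      rw [h, ← MonoidHom.range_eq_map, Subgroup.range_subtype])
    intro c hc z
    exact Subtype.ext (hcent _ inferInstance (Subgroup.map_subtype_le _) hne c
      (Subgroup.mem_map_of_mem _ hc) z z.2)
  haveI hnil : Group.IsNilpotent N := by
    refine ⟨2, eq_top_iff.2 fun x _ => ?_⟩
    rw [Subgroup.mem_upperCentralSeries_succ_iff]
    intro y
    rw [Subgroup.upperCentralSeries_one, Subgroup.mem_center_iff]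
    exact hder _ (Subgroup.commutator_mem_commutator (Subgroup.mem_top _) (Subgroup.mem_top _))
  -- some Sylow subgroup is non-central, hence the whole of `N`
  obtain ⟨r, hr, P, hP⟩ : ∃ (r : ℕ) (_ : Fact r.Prime) (P : Sylow r N),
      ¬ (P : Subgroup N) ≤ Subgroup.center N := by
    by_contra hcon
    push Not at hcon
    refine hNna ⟨⟨fun a b => ?_⟩⟩
    have htop : Subgroup.center N = ⊤ := by
      refine Subgroup.eq_top_of_card_eq _ (Nat.dvd_antisymm (Subgroup.card_subgroup_dvd_card _) ?_)
      rw [← Nat.factorization_prime_le_iff_dvd Nat.card_pos.ne' Nat.card_pos.ne']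
      intro q hq
      haveI := Fact.mk hq
      obtain ⟨Q⟩ : Nonempty (Sylow q N) := Sylow.nonempty
      have := Subgroup.card_dvd_of_le (hcon q inferInstance Q)
      rw [Q.card_eq_multiplicity] at this
      exact (hq.pow_dvd_iff_le_factorization Nat.card_pos.ne').1 this
    exact ((Subgroup.mem_center_iff.1 (htop ▸ Subgroup.mem_top a : a ∈ Subgroup.center N)) b).symm
  haveI := hr
  haveI hPn : (P : Subgroup N).Normal := P.normal_of_normalizerCondition Group.normalizerCondition_of_isNilpotent
  haveI : (P : Subgroup N).Characteristic := P.characteristic_of_normal hPn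
  have hPtop : (P : Subgroup N) = ⊤ := by
    by_contra hne
    refine hP fun x hx => Subgroup.mem_center_iff.2 fun z => ?_
    exact Subtype.ext (hcent _ inferInstance (Subgroup.map_subtype_le _) (fun h => hne (by
      refine Subgroup.map_injective N.subtype_injective ?_
      rw [h, ← MonoidHom.range_eq_map, Subgroup.range_subtype])) x (Subgroup.mem_map_of_mem _ hx) z z.2)
  have hrN : IsPGroup r N := fun g => by
    obtain ⟨k, hk⟩ := P.2 ⟨g, hPtop ▸ Subgroup.mem_top g⟩
    exact ⟨k, congrArg Subtype.val hk⟩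
  rcases PGroup.cyclic_or_quaternion_of_unique hrN (SL25.unique_prime_subgroup hρ hrN) with hc | ⟨-, n, hn, -, ⟨θ⟩⟩
  · exfalso
    haveI := hc
    letI := IsCyclic.commGroup (α := N)
    exact hNna ⟨⟨fun a b => mul_comm a b⟩⟩
  · have h1 : n = 1 := quat_class_two hn fun x y z => by
      apply θ.symm.injective
      simp only [map_mul, map_inv]
      exact hder _ (Subgroup.commutator_mem_commutator (Subgroup.mem_top _) (Subgroup.mem_top _)) _
    subst h1
    exact ⟨θ⟩

end Cfsg.Agent.S0686
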