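-- S0689
import Cfsg.Statements.S0689
import Cfsg.Agent.Lib.Frobenius.Construct
import Cfsg.Agent.Lib.Frobenius.ComplementSL25
import Cfsg.Agent.Lib.Frobenius.Nonsolvable
import Cfsg.Agent.Lib.SharplyLinear.Regular

set_option autoImplicit false
set_option linter.style.haveILetI false
open Cfsg

namespace Cfsg.Agent.S0689

open scoped MatrixGroups

/-- The arithmetic of the degrees. -/
theorem degree_cases {p d Q r m i a : ℕ} (hp : p.Prime) (hQ : Q = p ^ d) (h7 : 7 ≤ Q) (hr : 2 ≤ r)
    (hm : m.Coprime 30) (hi : i = 1 ∨ i = 2) (ha : Q - 1 = 2 * m * a)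
    (hc : Q ^ r - 1 = 120 * m * i) :
    (Q ^ r = 121 ∧ m = 1 ∧ i = 1) ∨ (Q ^ r = 841 ∧ m = 7 ∧ i = 1) ∨ (Q ^ r = 3481 ∧ m = 29 ∧ i = 1) := by
  have hmpos : 0 < m := Nat.pos_of_ne_zero fun h => by simp [h] at hm
  set N := ∑ j ∈ Finset.range r, Q ^ j with hN
  have hgeom : N * (Q - 1) + 1 = Q ^ r := by
    have := geom_sum_mul_add (Q - 1) r
    rwa [Nat.sub_add_cancel (by omega : 1 ≤ Q)] at this
  have hN120 : N ∣ 120 := by
    have h1 : 2 * m * (N * a) = 2 * m * (60 * i) := by
      calc 2 * m * (N * a) = N * (Q - 1) := by rw [ha]; ring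
        _ = 120 * m * i := by omega
        _ = 2 * m * (60 * i) := by ring
    have h2 : N ∣ 60 * i := Dvd.intro a (Nat.eq_of_mul_eq_mul_left (by positivity) h1)
    refine h2.trans ?_
    rcases hi with rfl | rfl <;> norm_num
  have hNle := Nat.le_of_dvd (by norm_num) hN120
  have h3 : ∀ p' : ℕ, p'.Prime → p' ∣ Q → p' = p := fun p' hp' h =>
    (Nat.prime_dvd_prime_iff_eq hp' hp).1 (hp'.dvd_of_dvd_pow (hQ ▸ h))
  have hr3 : r ≤ 3 := by
    by_contra h4
    have hle : Q ^ 3 ≤ N := Finset.single_le_sum (f := fun j => Q ^ j) (fun j _ => Nat.zero_le _)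
      (Finset.mem_range.2 (by omega : 3 < r))
    have : 7 ^ 3 ≤ Q ^ 3 := Nat.pow_le_pow_left h7 3
    omega
  obtain rfl | rfl : r = 2 ∨ r = 3 := by omega
  · rw [hN, Finset.sum_range_succ, Finset.sum_range_succ, Finset.sum_range_zero, zero_add, pow_zero, pow_one,
      Nat.add_comm] at hN120
    have hmem : Q + 1 ∈ Nat.divisors 120 := Nat.mem_divisors.2 ⟨hN120, by norm_num⟩
    rw [show Nat.divisors 120 = {1, 2, 3, 4, 5, 6, 8, 10, 12, 15, 20, 24, 30, 40, 60, 120} by decide] at hmem
    simp only [Finset.mem_insert, Finset.mem_singleton] at hmem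
    rcases hmem with h | h | h | h | h | h | h | h | h | h | h | h | h | h | h | h <;>
      (obtain rfl : Q = _ := Nat.eq_sub_of_add_eq h) <;> rcases hi with rfl | rfl <;>
      revert h7 hc <;> norm_num <;> intros <;> (try intro) <;>
      first
        | omega
        | (rcases eq_or_ne m 3 with rfl | hne
           · exact absurd hm (by norm_num)
           · rcases eq_or_ne m 118 with rfl | hne'
             · exact absurd hm (by norm_num)
             · omega)
        | (have h7' := h3 7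
           have h17 := h3 17
           norm_num at h7' h17
           omega)
  · exfalso
    rw [hN, Finset.sum_range_succ, Finset.sum_range_succ, Finset.sum_range_succ, Finset.sum_range_zero] at hN120 hNle
    norm_num at hN120 hNle
    have hQ10 : Q ≤ 10 := by nlinarith
    interval_cases Q <;> revert hN120 hNle hc <;> norm_num

theorem dvd_units {E : Type*} [Ring E] [Finite E] [Nontrivial E] (hf : IsField E) {M : Type*} [Group M] [Finite M]
    (g : M →* E) (hg : Function.Injective g) : Nat.card M ∣ Nat.card E - 1 := by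
  letI := hf.toField
  rw [← Nat.card_units]
  exact Subgroup.card_dvd_of_injective g.toHomUnits fun x y h => hg (congrArg Units.val h)

/-- The insoluble sharply doubly transitive groups: a non-solvable linear group over the prime field that is regular on the non-zero vectors of `V` occurs only for `|V| = 11², 29², 59²`, and is `SL(2,5) × C_m` with `m = 1, 7, 29` respectively. -/
theorem result {p : ℕ} [Fact p.Prime] {V : Type*} [AddCommGroup V] [Module (ZMod p) V] [Finite V] (H : Subgroup (V ≃ₗ[ZMod p] V)) (hreg : ∀ v w : V, v ≠ 0 → w ≠ 0 → ∃! h : H, (h : V ≃ₗ[ZMod p] V) v = w) (hsolv : ¬ Group.IsSolvable H) : (Nat.card V = 121 ∧ Nonempty (H ≃* Matrix.SpecialLinearGroup (Fin 2) (ZMod 5))) ∨ (Nat.card V = 841 ∧ Nonempty (H ≃* Matrix.SpecialLinearGroup (Fin 2) (ZMod 5) × Multiplicative (ZMod 7))) ∨ (Nat.card V = 3481 ∧ Nonempty (H ≃* Matrix.SpecialLinearGroup (Fin 2) (ZMod 5) × Multiplicative (ZMod 29))) := by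
  classical
  haveI : Finite (V ≃ₗ[ZMod p] V) := Finite.of_injective _ DFunLike.coe_injective
  haveI : Nontrivial V := by
    by_contra hcon
    haveI := not_nontrivial_iff_subsingleton.1 hcon
    exact hsolv (Group.isSolvable_of_comm fun a b => Subtype.ext (LinearEquiv.ext fun v => Subsingleton.elim _ _))
  haveI : Nontrivial H := by
    by_contra hcon
    haveI := not_nontrivial_iff_subsingleton.1 hcon
    exact hsolv (Group.isSolvable_of_comm fun a b => Subsingleton.elim _ _)
  obtain ⟨v₀, hv₀⟩ := exists_ne (0 : V)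
  have hcardV := SharplyLinear.card_eq hreg hv₀
  let φ : H →* MulAut (Multiplicative V) :=
    { toFun := fun h => AddEquiv.toMultiplicative (h : V ≃ₗ[ZMod p] V).toAddEquiv
      map_one' := rfl
      map_mul' := fun _ _ => rfl }
  have hφ : ∀ a, a ≠ 1 → ∀ v, φ a v = v → v = 1 := by
    intro a ha v hv
    by_contra hv1
    exact ha (SharplyLinear.eq_one_of_fix hreg (v := v.toAdd) (fun e => hv1 (by rw [← ofAdd_toAdd v, e, ofAdd_zero]))
      (congrArg Multiplicative.toAdd hv))
  haveI : Nontrivial (Multiplicative V) := Multiplicative.ofAdd.symm.nontrivial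
  obtain ⟨L, iL, fL, HL, hHL, hiso, -⟩ := Frobenius.exists_complement_of_fpf φ hφ
  obtain ⟨d, ρ, hd, hρ⟩ := SL25.exists_fpfRep (G := H) ⟨L, iL, fL, HL, hHL, hiso⟩
  haveI : Nonempty (Fin d) := ⟨⟨0, hd⟩⟩
  obtain ⟨K, ⟨ψ⟩⟩ := SL25.exists_SL25 hρ hsolv
  let e : SL(2, ZMod 5) →* H := K.subtype.comp ψ.symm.toMonoidHom
  have he : Function.Injective e := K.subtype_injective.comp ψ.symm.injective
  obtain ⟨M, hMn, hMC, hco, hM⟩ := Axes.exists_odd_part hρ e he
  haveI := Axes.range_normal hρ e he
  haveI := hMn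
  -- the isomorphism with the direct product
  have hcm : ∀ (q : SL(2, ZMod 5)) (m : M), Commute (e q) (M.subtype m) := fun q m =>
    Subgroup.mem_centralizer_iff.1 (hMC m.2) (e q) (MonoidHom.mem_range.2 ⟨q, rfl⟩)
  set Φ : SL(2, ZMod 5) × M →* H := MonoidHom.noncommCoprod e M.subtype hcm with hΦdef
  have hΦ : Function.Injective Φ := by
    rw [injective_iff_map_eq_one]
    rintro ⟨q, m⟩ h
    have h1 : e q * (m : H) = 1 := h
    have hm : (m : H) ∈ e.range ⊓ M := Subgroup.mem_inf.2
      ⟨eq_inv_of_mul_eq_one_right h1 ▸ inv_mem (MonoidHom.mem_range.2 ⟨q, rfl⟩), m.2⟩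
    rw [Axes.inf_odd_part hρ e he hMC hco, Subgroup.mem_bot] at hm
    rw [hm, mul_one] at h1
    exact Prod.ext (he (h1.trans (map_one e).symm)) (Subtype.ext hm)
  have hrange : Φ.range = e.range ⊔ M := by
    rw [hΦdef, MonoidHom.noncommCoprod_range, Subgroup.range_subtype]
  set G₀ := e.range ⊔ M with hG₀
  have hG₀card : Nat.card G₀ = 120 * Nat.card M := by
    rw [← hrange, ← Nat.card_congr (MonoidHom.ofInjective hΦ).toEquiv, Nat.card_prod, Axes.card_SL25]
  have hidx : G₀.index = 1 ∨ G₀.index = 2 := by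
    rw [hG₀, Axes.sup_odd_part hρ e he hMC hM]
    exact Axes.index_sup_centralizer hρ e he
  have hHcard : Nat.card H = 120 * Nat.card M * G₀.index := by
    rw [← hG₀card, Subgroup.card_mul_index]
  -- the commutant of the irreducible `SL(2, 5)`
  set N := e.range with hN
  have hNna : ¬ IsMulCommutative N := fun hc => by
    obtain ⟨-, -, -, -, -, -, -, -, -, -, hnc, -⟩ := SL25Facts.instance_facts
    refine hnc (he ?_)
    rw [map_mul, map_mul]
    exact congrArg Subtype.val (hc.is_comm.comm ⟨_, _, rfl⟩ ⟨_, _, rfl⟩)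
  obtain ⟨U, -, hU⟩ := SharplyLinear.exists_irr_le N (W₀ := ⊤) top_ne_bot fun _ _ _ _ => Submodule.mem_top
  have htop : U = ⊤ := by
    by_contra h
    exact hNna (SharplyLinear.comm_of_reducible hreg hU h)
  set E := SharplyLinear.commutant N hU.2.1 with hE
  haveI : Finite (Module.End (ZMod p) U) :=
    Finite.of_injective (fun f : Module.End (ZMod p) U => (⇑f : U → U)) DFunLike.coe_injective
  obtain ⟨u, hu, hu0⟩ := Submodule.exists_mem_ne_zero_of_ne_bot hU.1
  haveI : Nontrivial E := ⟨⟨1, 0, fun h => hu0 (by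
    simpa using congrArg Subtype.val (LinearMap.congr_fun (congrArg Subtype.val h) ⟨u, hu⟩))⟩⟩
  have hfield : IsField E := by
    haveI : NoZeroDivisors E := ⟨fun {a b} hab => by
      by_contra hcon
      rw [not_or] at hcon
      refine hcon.2 (Subtype.ext (LinearMap.ext fun x => SharplyLinear.injective_of_mem_commutant hU a.2
        (fun h => hcon.1 (Subtype.ext h)) ?_))
      have := LinearMap.congr_fun (congrArg Subtype.val hab) x
      simpa using this⟩
    haveI : IsDomain E := NoZeroDivisors.to_isDomain _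
    exact Finite.isDomain_to_isField E
  -- the odd part lies in the commutant
  have hMinv : SharplyLinear.Inv M U := fun a _ v _ => htop ▸ Submodule.mem_top
  let g : M →* E :=
    { toFun := fun m => ⟨SharplyLinear.rest M hMinv m, SharplyLinear.mem_commutant.2 fun a w => Subtype.ext (by
        show ((a : H) : V ≃ₗ[ZMod p] V) (((m : H) : V ≃ₗ[ZMod p] V) (w : V)) =
          ((m : H) : V ≃ₗ[ZMod p] V) (((a : H) : V ≃ₗ[ZMod p] V) (w : V))
        have hc : (a : H) * (m : H) = (m : H) * (a : H) := Subgroup.mem_centralizer_iff.1 (hMC m.2) a a.2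
        exact congrArg (fun h : H => (h : V ≃ₗ[ZMod p] V) (w : V)) hc)⟩
      map_one' := Subtype.ext (map_one _)
      map_mul' := fun a b => Subtype.ext (map_mul _ a b) }
  have hg : Function.Injective g := fun a b h =>
    SharplyLinear.rest_injective hreg hMinv hU.1 (congrArg Subtype.val h)
  have hMdvd : Nat.card M ∣ Nat.card E - 1 := dvd_units hfield g hg
  -- the orders
  set Q := Nat.card E with hQ
  obtain ⟨r, hr⟩ : ∃ r, Nat.card V = Q ^ r := by
    letI := hfield.toField
    exact ⟨Module.finrank E U, by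
      rw [← Module.natCard_eq_pow_finrank (K := E) (V := U), htop]
      exact (Nat.card_congr Submodule.topEquiv.toEquiv).symm⟩
  haveI : Module.Finite (ZMod p) V := Module.Finite.of_finite
  have hVp : Nat.card V = p ^ Module.finrank (ZMod p) V := by
    rw [Module.natCard_eq_pow_finrank (K := ZMod p) (V := V), Nat.card_zmod]
  set n := Module.finrank (ZMod p) V
  have hpp : p.Prime := Fact.out
  have hn : n ≠ 0 := fun h => by
    have : Nat.card V = 1 := by rw [hVp, h, pow_zero]
    exact (Finite.one_lt_card).ne' this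
  have h120 : Nat.card H + 1 = Q ^ r := hcardV.trans hr
  have hr0 : r ≠ 0 := fun h => by
    rw [h, pow_zero] at hr
    exact (Finite.one_lt_card).ne' hr
  obtain ⟨k, -, hk⟩ : ∃ k ≤ n, Q = p ^ k := (Nat.dvd_prime_pow hpp).1 (hVp ▸ hr ▸ dvd_pow_self Q hr0)
  have hk0 : k ≠ 0 := fun h => by
    have : 1 < Q := Finite.one_lt_card
    rw [hk, h, pow_zero] at this
    omega
  have hp7 : 7 ≤ p := by
    have key : ∀ q : ℕ, q ∣ 120 → q ≠ 1 → p ≠ q := by
      intro q hq hq1 hpq
      subst hpq
      have h1 : p ∣ Nat.card H + 1 := by rw [hcardV, hVp]; exact dvd_pow_self p hn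
      have h2 : p ∣ Nat.card H := hHcard ▸ Dvd.dvd.mul_right (Dvd.dvd.mul_right hq _) _
      exact hq1 (Nat.dvd_one.1 ((Nat.dvd_add_right h2).1 h1))
    have := key 2 (by norm_num) (by norm_num)
    have := key 3 (by norm_num) (by norm_num)
    have := key 4 (by norm_num) (by norm_num)
    have := key 5 (by norm_num) (by norm_num)
    have := key 6 (by norm_num) (by norm_num)
    have := hpp.two_le
    omega
  have hQ7 : 7 ≤ Q := hk ▸ hp7.trans (Nat.le_self_pow hk0 p)
  have hr2 : 2 ≤ r := by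
    by_contra h
    obtain rfl : r = 1 := by omega
    rw [pow_one] at hr
    -- then the commutant acts simply transitively, so `SL(2, 5)` lies in it
    have hbij : Function.Bijective (fun f : E => (f.1 ⟨u, hu⟩ : U)) := by
      refine (Nat.bijective_iff_injective_and_card _).2 ⟨fun f f' hff => ?_, ?_⟩
      · by_contra hne
        have hne' : (f - f' : E).1 ≠ 0 := fun h => hne (sub_eq_zero.1 (Subtype.ext h))
        exact hu0 (congrArg Subtype.val (SharplyLinear.injective_of_mem_commutant hU (f - f' : E).2 hne'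
          (show (f - f' : E).1 ⟨u, hu⟩ = (f - f' : E).1 0 by
            rw [map_zero]
            show f.1 ⟨u, hu⟩ - f'.1 ⟨u, hu⟩ = 0
            exact sub_eq_zero.2 hff)))
      · rw [← hQ, htop, ← hr]
        exact (Nat.card_congr Submodule.topEquiv.toEquiv).symm
    have key : ∀ a : N, ∃ f : E, SharplyLinear.rest N hU.2.1 a = f.1 := by
      intro a
      obtain ⟨f, hf⟩ := hbij.2 (SharplyLinear.rest N hU.2.1 a ⟨u, hu⟩)
      refine ⟨f, LinearMap.ext fun x => ?_⟩
      obtain ⟨f', hf'⟩ := hbij.2 x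
      rw [← hf', SharplyLinear.mem_commutant.1 f'.2 a, ← hf]
      exact LinearMap.congr_fun (congrArg Subtype.val (hfield.mul_comm f' f)) ⟨u, hu⟩
    refine hNna ⟨⟨fun a b => SharplyLinear.rest_injective hreg hU.2.1 hU.1 ?_⟩⟩
    obtain ⟨fa, hfa⟩ := key a
    obtain ⟨fb, hfb⟩ := key b
    rw [map_mul, map_mul, hfa, hfb]
    exact congrArg Subtype.val (hfield.mul_comm fa fb)
  obtain ⟨a, ha⟩ : 2 * Nat.card M ∣ Q - 1 := by
    refine Nat.Coprime.mul_dvd_of_dvd_of_dvd (Nat.Coprime.coprime_dvd_left (by norm_num) hco.symm) ?_ hMdvd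
    rw [hk]
    obtain ⟨j, hj⟩ : Odd (p ^ k) := (hpp.odd_of_ne_two (by omega)).pow
    exact ⟨j, by omega⟩
  have fin : ∀ m : ℕ, Nat.card M = m → G₀.index = 1 → ∀ _ : Fact (m = 1 ∨ m.Prime),
      Nonempty (H ≃* SL(2, ZMod 5) × Multiplicative (ZMod m)) := by
    intro m hm h1 hf
    have hsurj : Function.Surjective Φ :=
      MonoidHom.range_eq_top.1 (hrange.trans (Subgroup.index_eq_one.1 h1))
    haveI : IsCyclic M := by
      rcases hf.out with h | h
      · haveI : Subsingleton M := (Nat.card_eq_one_iff_unique.1 (hm.trans h)).1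
        exact isCyclic_of_subsingleton
      · haveI := Fact.mk h
        exact isCyclic_of_prime_card (p := m) hm
    exact ⟨(MulEquiv.ofBijective Φ ⟨hΦ, hsurj⟩).symm.trans
      (MulEquiv.prodCongr (MulEquiv.refl _) (mulEquivOfCyclicCardEq
        (by rw [hm, Nat.card_congr Multiplicative.toAdd, Nat.card_zmod])))⟩
  rcases degree_cases hpp hk hQ7 hr2 hco hidx ha (by omega) with ⟨h1, h2, h3⟩ | ⟨h1, h2, h3⟩ | ⟨h1, h2, h3⟩
  · refine Or.inl ⟨hr.trans h1, ?_⟩
    obtain ⟨θ⟩ := fin 1 h2 h3 ⟨Or.inl rfl⟩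
    exact ⟨θ.trans MulEquiv.prodUnique⟩
  · exact Or.inr (Or.inl ⟨hr.trans h1, fin 7 h2 h3 ⟨Or.inr (by norm_num)⟩⟩)
  · exact Or.inr (Or.inr ⟨hr.trans h1, fin 29 h2 h3 ⟨Or.inr (by norm_num)⟩⟩)

end Cfsg.Agent.S0689
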