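-- S3359
import Cfsg.Statements.S3359
import Cfsg.Agent.Lib.Frobenius.Nonsolvable
import Cfsg.Agent.Lib.Frobenius.ComplementSL25

set_option autoImplicit false
set_option linter.style.haveILetI false
open Cfsg

namespace Cfsg.Agent.S3359

open scoped MatrixGroups

/-- Structure of non-solvable Frobenius complements. Let G be a finite non-solvable group that occurs as a Frobenius complement. Then G has a normal subgroup G₀ of index 1 or 2 which is the direct product of a subgroup isomorphic to SL(2,5) and a subgroup M of order prime to 30 all of whose Sylow subgroups are cyclic. -/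
theorem result {G : Type*} [Group G] [Finite G] (hns : ¬ Group.IsSolvable G)
    (hFC : ∃ (L : Type) (_ : Group L) (_ : Finite L) (H : Subgroup L), Cfsg.IsFrobeniusComplement H ∧ Nonempty (G ≃* H)) :
    ∃ G₀ : Subgroup G, G₀.Normal ∧ (G₀.index = 1 ∨ G₀.index = 2) ∧
      ∃ S M : Subgroup G, S ⊔ M = G₀ ∧ S ⊓ M = ⊥ ∧ (∀ s ∈ S, ∀ x ∈ M, s * x = x * s) ∧
        Nonempty (S ≃* Matrix.SpecialLinearGroup (Fin 2) (ZMod 5)) ∧
        (∀ (p : ℕ) [Fact p.Prime] (P : Sylow p M), IsCyclic P) ∧ (Nat.card M).Coprime 30 := by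
  obtain ⟨n, ρ, hn, hρ⟩ := SL25.exists_fpfRep hFC
  haveI : Nonempty (Fin n) := ⟨⟨0, hn⟩⟩
  obtain ⟨K, ⟨φ⟩⟩ := SL25.exists_SL25 hρ hns
  let e : SL(2, ZMod 5) →* G := K.subtype.comp φ.symm.toMonoidHom
  have he : Function.Injective e := K.subtype_injective.comp φ.symm.injective
  obtain ⟨M, hMn, hMC, hco, hM⟩ := Axes.exists_odd_part hρ e he
  haveI := Axes.range_normal hρ e he
  haveI := hMn
  refine ⟨e.range ⊔ M, inferInstance, ?_, e.range, M, rfl, Axes.inf_odd_part hρ e he hMC hco, ?_, ?_, ?_, hco⟩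
  · rw [Axes.sup_odd_part hρ e he hMC hM]
    exact Axes.index_sup_centralizer hρ e he
  · exact fun s hs x hx => Subgroup.mem_centralizer_iff.1 (hMC hx) s hs
  · exact ⟨(MonoidHom.ofInjective he).symm⟩
  · have h2 : ¬ 2 ∣ Nat.card M := fun h => by
      have := Nat.eq_one_of_dvd_coprimes hco h (by norm_num)
      omega
    have hz := SL25.isZGroup_of_odd (FpfRep.comp_subgroup hρ M) h2
    exact fun p _ P => hz.isZGroup p Fact.out P

end Cfsg.Agent.S3359
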