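import Cfsg.Statements.S0690
import Cfsg.Agent.S3359
import Cfsg.Agent.Lib.Frobenius.Construct

set_option autoImplicit false
set_option linter.style.haveILetI false
open Cfsg

namespace Cfsg.Agent.S0690

open scoped MatrixGroups

theorem aux {G : Type*} [Group G] [Finite G] (hperf : commutator G = ⊤) (hnt : Nontrivial G)
    (hFC : ∃ (L : Type) (_ : Group L) (_ : Finite L) (H : Subgroup L),
      Cfsg.IsFrobeniusComplement H ∧ Nonempty (G ≃* H)) :
    Nonempty (G ≃* SL(2, ZMod 5)) := by
  have hns : ¬ Group.IsSolvable G := fun h => by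
    obtain ⟨g, hg⟩ := exists_ne (1 : G)
    exact hg (SL25.hom_eq_one hperf h (MonoidHom.id G) g)
  obtain ⟨G₀, hG₀, hidx, S, M, hsup, -, hcomm, hS, hM, -⟩ := S3359.result hns hFC
  haveI := hG₀
  have htop : G₀ = ⊤ := by
    refine eq_top_iff.2 fun g _ => (QuotientGroup.eq_one_iff g).1 ?_
    haveI : Finite (G ⧸ G₀) := inferInstance
    have hsolv : Group.IsSolvable (G ⧸ G₀) := by
      rcases hidx with h | h
      · haveI : Subsingleton (G ⧸ G₀) := (Nat.card_eq_one_iff_unique.1 h).1
        infer_instance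
      · haveI : Fact (Nat.Prime 2) := ⟨Nat.prime_two⟩
        haveI : IsCyclic (G ⧸ G₀) := isCyclic_of_prime_card (p := 2) h
        exact Group.isSolvable_of_comm fun a b => (IsCyclic.isMulCommutative (α := G ⧸ G₀)).is_comm.comm a b
    exact SL25.hom_eq_one hperf hsolv (QuotientGroup.mk' G₀) g
  rw [htop] at hsup
  have hSn : S.Normal := by
    rw [← Subgroup.normalizer_eq_top_iff, eq_top_iff, ← hsup]
    refine sup_le Subgroup.le_normalizer fun x hx => ?_
    rw [Subgroup.mem_normalizer_iff]
    intro s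
    constructor
    · intro hs
      rw [← hcomm s hs x hx, mul_inv_cancel_right]
      exact hs
    · intro hs
      have h := hcomm _ hs x⁻¹ (M.inv_mem hx)
      have : x⁻¹ * (x * s * x⁻¹) * x = x * s * x⁻¹ := by rw [← h]; group
      have h2 : x⁻¹ * (x * s * x⁻¹) * x = s := by group
      rw [h2] at this
      rwa [← this] at hs
  haveI := hSn
  have hStop : S = ⊤ := by
    refine eq_top_iff.2 fun g _ => (QuotientGroup.eq_one_iff g).1 ?_
    haveI : IsZGroup M := ⟨fun p hp P => @hM p ⟨hp⟩ P⟩
    have hsurj : Function.Surjective ((QuotientGroup.mk' S).comp M.subtype) := by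
      intro q
      obtain ⟨x, rfl⟩ := QuotientGroup.mk'_surjective S q
      obtain ⟨a, ha, b, hb, rfl⟩ := Subgroup.mem_sup_of_normal_left.1 (hsup ▸ Subgroup.mem_top x : x ∈ S ⊔ M)
      exact ⟨⟨b, hb⟩, by simp [(QuotientGroup.eq_one_iff a).2 ha]⟩
    haveI := Group.isSolvable_of_surjective hsurj
    exact SL25.hom_eq_one hperf inferInstance (QuotientGroup.mk' S) g
  obtain ⟨e⟩ := hS
  exact ⟨(Subgroup.topEquiv.symm.trans (MulEquiv.subgroupCongr hStop.symm)).trans e⟩

/-- Zassenhaus: a perfect non-trivial group of fixed-point-free automorphisms of a finite group is isomorphic to `SL(2,5)`. -/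
theorem result {K : Type*} [Group K] [Finite K] (G : Subgroup (MulAut K)) (hfpf : ∀ φ ∈ G, φ ≠ 1 → ∀ k : K, φ k = k → k = 1) (hperf : commutator G = ⊤) (hne : G ≠ ⊥) : Nonempty (G ≃* Matrix.SpecialLinearGroup (Fin 2) (ZMod 5)) := by
  haveI : Finite G := inferInstance
  haveI hnt : Nontrivial G := G.nontrivial_iff_ne_bot.2 hne
  haveI : Nontrivial K := by
    by_contra hK
    rw [not_nontrivial_iff_subsingleton] at hK
    exact hne ((Subgroup.eq_bot_iff_forall _).2 fun φ _ => MulEquiv.ext fun k => Subsingleton.elim _ _)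
  obtain ⟨L, i1, i2, H, hH, hiso, -⟩ := Frobenius.exists_complement_of_fpf G.subtype
    (fun a ha v hv => hfpf a a.2 (fun h => ha (Subtype.ext h)) v hv)
  exact aux hperf hnt ⟨L, i1, i2, H, hH, hiso⟩

end Cfsg.Agent.S0690
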