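import Cfsg.Statements.S0693
import Cfsg.Agent.Lib.SharplyCert.Basic
import Mathlib.Data.List.GetD
import Mathlib.Data.ZMod.Basic
import Mathlib.Tactic.LinearCombination
import Mathlib.LinearAlgebra.Matrix.ToLinearEquiv
import Mathlib.Tactic.NormNum.Prime
import Mathlib.Algebra.Field.ZMod
-- import your own Cfsg.Agent.* helpers here

set_option autoImplicit false
open Cfsg
set_option maxRecDepth 100000

namespace Cfsg.Agent.S0693

open Cfsg.Agent.SharplyCert

/-- The two generators of determinant one. -/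
def gA : Tup (ZMod 59) := (0, -1, 1, 0)

/-- The two generators of determinant one. -/
def gB : Tup (ZMod 59) := (9, 15, -10, -10)

/-- Product of residues. -/
def mulN (x y : Tup ℕ) : Tup ℕ :=
  ((x.1 * y.1 + x.2.1 * y.2.2.1) % 59, (x.1 * y.2.1 + x.2.1 * y.2.2.2) % 59,
    (x.2.2.1 * y.1 + x.2.2.2 * y.2.2.1) % 59, (x.2.2.1 * y.2.1 + x.2.2.2 * y.2.2.2) % 59)

/-- Residues to field elements. -/
def castN (x : Tup ℕ) : Tup (ZMod 59) := (x.1, x.2.1, x.2.2.1, x.2.2.2)

/-- The elements of the `SL(2, 5)` factor, as residues. -/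
def eltsN : List (Tup ℕ) :=
  [(1, 0, 0, 1), (0, 58, 1, 0), (9, 15, 49, 49), (58, 0, 0, 58), (15, 50, 49, 10), (10, 10, 9, 15), (49, 44, 10, 9), (0, 1, 58, 0), (50, 44, 10, 10), (10, 49, 15, 50), (44, 10, 9, 49), (48, 20, 46, 45), (49, 50, 49, 44), (44, 9, 10, 49), (49, 49, 50, 44), (10, 15, 49, 50), (20, 11, 45, 13), (50, 10, 44, 10), (13, 14, 48, 20), (1, 29, 4, 58), (55, 48, 23, 4), (49, 10, 44, 9), (15, 49, 50, 10), (11, 39, 13, 14), (10, 9, 10, 15), (14, 46, 20, 11), (29, 58, 58, 55), (48, 4, 4, 36), (11, 13, 39, 14), (55, 1, 1, 29), (36, 55, 55, 48), (14, 20, 46, 11), (39, 48, 14, 46), (9, 49, 15, 49), (46, 45, 11, 39), (58, 30, 55, 1), (4, 11, 36, 55), (13, 48, 14, 20), (1, 4, 29, 58), (55, 23, 48, 4), (20, 45, 11, 13), (35, 32, 31, 25), (38, 31, 30, 54), (28, 35, 34, 32), (45, 13, 39, 48), (30, 1, 1, 4), (11, 55, 55, 23), (48, 46, 20, 45), (4, 58, 58, 30), (23, 4, 4, 11), (45, 39, 13, 48), (32, 24, 25, 28), (31, 21, 54, 29), (35,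 31, 32, 25), (28, 34, 35, 32), (29, 5, 38, 31), (25, 27, 28, 35), (54, 28, 29, 38), (46, 11, 45, 39), (58, 55, 30, 1), (4, 36, 11, 55), (39, 14, 48, 46), (24, 27, 28, 34), (21, 28, 29, 5), (31, 24, 25, 27), (34, 31, 32, 24), (5, 30, 31, 21), (27, 34, 35, 31), (28, 5, 38, 30), (10, 19, 19, 48), (5, 38, 38, 53), (30, 21, 54, 28), (27, 35, 34, 31), (28, 38, 5, 30), (24, 28, 27, 34), (31, 25, 24, 27), (30, 54, 21, 28), (34, 32, 31, 24), (5, 31, 30, 21), (19, 49, 48, 40), (38, 54, 53, 21), (21, 29, 28, 5), (40, 11, 10, 19), (21, 6, 5, 38), (25, 16, 42, 34), (18, 19, 45, 41), (25, 28, 27, 35), (54, 29, 28, 38), (32, 25, 24, 28), (31, 54, 21, 29), (49, 40, 40, 11), (54, 21, 21, 6), (29, 38, 5, 31), (11, 19, 19, 49), (6, 38, 38, 54), (16, 34, 34, 17), (19, 41, 41, 14), (38, 30, 31, 54), (17, 25, 25, 16), (14, 18, 18, 19), (40, 10, 11, 19), (21, 5, 6, 38), (19, 48, 49, 40), (38, 53, 54, 21), (34, 43, 17, 25), (41, 40, 14, 18), (25, 42, 16, 34), (18,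 45, 19, 41), (40, 18, 18, 45), (56, 52, 52, 3), (42, 34, 34, 43), (48, 40, 40, 10), (53, 21, 21, 5), (43, 25, 25, 42), (45, 41, 41, 40), (52, 3, 3, 7), (34, 17, 43, 25), (41, 14, 40, 18), (7, 56, 56, 52), (3, 7, 7, 56)]

def stepA : List ℕ :=
  [1, 3, 5, 7, 9, 8, 12, 0, 14, 13, 17, 18, 15, 21, 2, 24, 25, 22, 23, 29, 30, 4, 33, 34, 6, 32, 38, 39, 40, 35, 36, 37, 44, 10, 11, 48, 49, 50, 45, 46, 47, 54, 55, 56, 16, 59, 60, 61, 19, 20, 58, 65, 66, 67, 62, 63, 64, 71, 31, 26, 27, 28, 75, 76, 77, 72, 73, 74, 81, 82, 83, 78, 86, 87, 88, 41, 42, 43, 92, 93, 94, 89, 90, 91, 98, 99, 51, 52, 53, 97, 102, 103, 57, 100, 101, 106, 107, 68, 104, 105, 111, 112, 69, 70, 110, 114, 113, 108, 117, 118, 84, 79, 80, 116, 85, 109, 95, 96, 119, 115]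

def stepB : List ℕ :=
  [2, 4, 6, 8, 10, 11, 0, 13, 15, 16, 1, 19, 20, 22, 23, 3, 26, 27, 28, 5, 31, 32, 7, 35, 36, 37, 9, 40, 41, 42, 43, 12, 45, 46, 47, 14, 50, 51, 52, 53, 17, 18, 56, 57, 58, 21, 61, 62, 63, 64, 24, 25, 67, 68, 69, 70, 29, 30, 72, 73, 74, 33, 34, 77, 78, 79, 80, 38, 39, 83, 84, 85, 44, 88, 89, 90, 91, 48, 49, 94, 95, 96, 97, 54, 55, 93, 100, 101, 59, 60, 103, 104, 105, 71, 65, 66, 102, 108, 109, 110, 112, 113, 81, 75, 76, 111, 115, 116, 82, 114, 119, 92, 86, 87, 98, 117, 118, 106, 107, 99]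

def parents : List (Bool × ℕ) :=
  [(false, 0), (true, 0), (false, 1), (true, 1), (false, 2), (true, 2), (false, 3), (true, 3), (false, 4), (true, 4), (true, 5), (false, 6), (true, 7), (false, 8), (true, 8), (true, 9), (false, 10), (false, 11), (true, 11), (true, 12), (false, 13), (true, 13), (true, 14), (false, 15), (false, 16), (true, 16), (true, 17), (true, 18), (false, 19), (false, 20), (true, 20), (true, 21), (false, 22), (false, 23), (true, 23), (true, 24), (true, 25), (false, 26), (false, 27), (true, 27), (true, 28), (true, 29), (true, 30), (false, 32), (true, 32), (true, 33), (true, 34), (false, 35), (false, 36), (true, 36), (true, 37), (true, 38), (true, 39), (false, 41), (false, 42), (true, 42), (true, 43), (true, 44), (false, 45), (false, 46), (true, 46), (true, 47), (true, 48), (true, 49), (false, 51), (false, 52), (true, 52), (true, 53), (true, 54), (true, 55), (false, 57), (true, 58), (true, 59), (true, 60), (false, 62), (false,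 63), (true, 63), (true, 64), (true, 65), (true, 66), (false, 68), (false, 69), (true, 69), (true, 70), (true, 71), (false, 72), (false, 73), (true, 73), (true, 74), (true, 75), (true, 76), (false, 78), (false, 79), (true, 79), (true, 80), (true, 81), (true, 82), (false, 84), (false, 85), (true, 86), (true, 87), (false, 90), (true, 90), (true, 91), (true, 92), (false, 95), (false, 96), (true, 97), (true, 98), (true, 99), (false, 100), (true, 100), (true, 101), (false, 105), (true, 106), (true, 107), (false, 108), (false, 109), (true, 110)]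

def gAN : Tup ℕ := (0, 58, 1, 0)

def gBN : Tup ℕ := (9, 15, 49, 49)

theorem castN_mulN (x y : Tup ℕ) : castN (mulN x y) = tmul (castN x) (castN y) := by
  simp [castN, mulN, tmul, ZMod.natCast_mod]

theorem gA_eq : gA = castN gAN := by decide
theorem gB_eq : gB = castN gBN := by decide

/-- The elements. -/
def elts : List (Tup (ZMod 59)) := eltsN.map castN

/-- The scalars. -/
def scal (k : Fin 29) : ZMod 59 := (4 : ZMod 59) ^ (k : ℕ)

theorem scal_eq (k : Fin 29) : scal k = ((4 ^ (k : ℕ) % 59 : ℕ) : ZMod 59) := by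
  rw [ZMod.natCast_mod, Nat.cast_pow]; rfl

theorem cast59_eq {a b : ℕ} (h : (a : ZMod 59) = (b : ZMod 59)) : a % 59 = b % 59 :=
  (ZMod.natCast_eq_natCast_iff' a b 59).1 h

theorem scal_injN : ∀ k k' : Fin 29,
    (4 ^ (k : ℕ) % 59 * (4 ^ (k : ℕ) % 59)) % 59 = (4 ^ (k' : ℕ) % 59 * (4 ^ (k' : ℕ) % 59)) % 59 →
      k = k' := by decide +kernel

theorem scal_inj (k k' : Fin 29) (h : scal k * scal k = scal k' * scal k') : k = k' := by
  rw [scal_eq, scal_eq, ← Nat.cast_mul, ← Nat.cast_mul] at h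
  exact scal_injN k k' (cast59_eq h)

theorem scal_mul (k : Fin 29) : ∃ k' : Fin 29, 4 * scal k = scal k' := by
  have h29 : ∀ k : Fin 29, (4 * (4 ^ (k : ℕ) % 59)) % 59 = 4 ^ ((k + 1 : Fin 29) : ℕ) % 59 := by
    decide +kernel
  refine ⟨k + 1, ?_⟩
  rw [scal_eq, scal_eq, ← h29]
  simp [ZMod.natCast_mod]

theorem eltsN_facts : ∀ x ∈ eltsN,
    (x.1 * x.2.2.2) % 59 = (x.2.1 * x.2.2.1 + 1) % 59 ∧
    x.1 % 59 = x.1 ∧ x.2.1 % 59 = x.2.1 ∧ x.2.2.1 % 59 = x.2.2.1 ∧ x.2.2.2 % 59 = x.2.2.2 := by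
  decide +kernel

theorem stepA_eq : eltsN.map (mulN gAN) = stepA.map fun i => eltsN.getD i (1, 0, 0, 1) := by
  decide +kernel

theorem stepB_eq : eltsN.map (mulN gBN) = stepB.map fun i => eltsN.getD i (1, 0, 0, 1) := by
  decide +kernel

theorem eltsN_nodup : eltsN.Nodup := by decide +kernel

theorem freeN : ∀ x ∈ eltsN, ∀ k : Fin 29,
    (4 ^ (k : ℕ) % 59 * (4 ^ (k : ℕ) % 59) + 1) % 59 =
      (4 ^ (k : ℕ) % 59 * (x.1 + x.2.2.2)) % 59 → k = 0 ∧ x = (1, 0, 0, 1) := by decide +kernel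

theorem det_one : ∀ x ∈ elts, x.1 * x.2.2.2 - x.2.1 * x.2.2.1 = 1 := by
  intro x hx
  obtain ⟨y, hy, rfl⟩ := List.mem_map.1 hx
  have h := congrArg (Nat.cast : ℕ → ZMod 59) (eltsN_facts y hy).1
  rw [ZMod.natCast_mod, ZMod.natCast_mod, Nat.cast_add, Nat.cast_mul, Nat.cast_mul, Nat.cast_one] at h
  simp only [castN]
  linear_combination h

theorem getD_mem (i : ℕ) : eltsN.getD i (1, 0, 0, 1) ∈ eltsN := by
  by_cases h : i < eltsN.length
  · rw [List.getD_eq_getElem _ _ h]; exact List.getElem_mem h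
  · rw [List.getD_eq_default _ _ (by omega)]; decide +kernel

theorem closed : ∀ x ∈ elts, tmul gA x ∈ elts ∧ tmul gB x ∈ elts := by
  intro x hx
  obtain ⟨y, hy, rfl⟩ := List.mem_map.1 hx
  rw [gA_eq, gB_eq, ← castN_mulN, ← castN_mulN]
  have hA : mulN gAN y ∈ eltsN := by
    have h := List.mem_map_of_mem (f := mulN gAN) hy
    rw [stepA_eq] at h
    obtain ⟨i, -, hi⟩ := List.mem_map.1 h
    exact hi ▸ getD_mem i
  have hB : mulN gBN y ∈ eltsN := by
    have h := List.mem_map_of_mem (f := mulN gBN) hy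
    rw [stepB_eq] at h
    obtain ⟨i, -, hi⟩ := List.mem_map.1 h
    exact hi ▸ getD_mem i
  exact ⟨List.mem_map_of_mem hA, List.mem_map_of_mem hB⟩

theorem castN_injOn {x y : Tup ℕ} (hx : x ∈ eltsN) (hy : y ∈ eltsN) (h : castN x = castN y) : x = y := by
  obtain ⟨-, a1, a2, a3, a4⟩ := eltsN_facts x hx
  obtain ⟨-, b1, b2, b3, b4⟩ := eltsN_facts y hy
  simp only [castN, Prod.mk.injEq] at h
  obtain ⟨h1, h2, h3, h4⟩ := h
  exact Prod.ext (a1 ▸ b1 ▸ cast59_eq h1) (Prod.ext (a2 ▸ b2 ▸ cast59_eq h2)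
    (Prod.ext (a3 ▸ b3 ▸ cast59_eq h3) (a4 ▸ b4 ▸ cast59_eq h4)))

theorem nodup : elts.Nodup :=
  List.Nodup.map_on (fun _ hx _ hy h => castN_injOn hx hy h) eltsN_nodup

theorem length_elts : elts.length = 120 := by
  rw [elts, List.length_map]; decide +kernel

theorem one_mem : ((1, 0, 0, 1) : Tup (ZMod 59)) ∈ elts :=
  List.mem_map.2 ⟨(1, 0, 0, 1), by decide +kernel, by simp [castN]⟩

theorem four_ne : (4 : ZMod 59) ≠ 0 := by decide

theorem free (x : Tup (ZMod 59)) (hx : x ∈ elts) (k : Fin 29)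
    (h : scal k * scal k - scal k * (x.1 + x.2.2.2) + 1 = 0) : k = 0 ∧ x = (1, 0, 0, 1) := by
  obtain ⟨y, hy, rfl⟩ := List.mem_map.1 hx
  rw [scal_eq] at h
  simp only [castN] at h
  have h' : (((4 ^ (k : ℕ) % 59) * (4 ^ (k : ℕ) % 59) + 1 : ℕ) : ZMod 59) =
      (((4 ^ (k : ℕ) % 59) * (y.1 + y.2.2.2) : ℕ) : ZMod 59) := by
    push_cast
    push_cast at h
    linear_combination h
  obtain ⟨h1, rfl⟩ := freeN y hy k (cast59_eq h')
  exact ⟨h1, by simp [castN]⟩

/-- The table rebuilt from the parents. -/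
def builtN : List (Tup ℕ) :=
  parents.foldl (fun acc jp => acc ++ [mulN (if jp.1 then gBN else gAN) (acc.getD jp.2 (1, 0, 0, 1))])
    [(1, 0, 0, 1)]

theorem builtN_eq : builtN = eltsN := by decide +kernel

theorem induction_elts {P : Tup (ZMod 59) → Prop} (h1 : P (1, 0, 0, 1)) (hl : ∀ x, P x → P (tmul gA x))
    (hu : ∀ x, P x → P (tmul gB x)) : ∀ x ∈ elts, P x := by
  have h1' : P (castN (1, 0, 0, 1)) := by
    rw [show castN (1, 0, 0, 1) = (1, 0, 0, 1) by simp [castN]]; exact h1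
  suffices H : ∀ (L : List (Bool × ℕ)) (acc : List (Tup ℕ)), (∀ x ∈ acc, P (castN x)) →
      ∀ x ∈ L.foldl (fun acc jp =>
        acc ++ [mulN (if jp.1 then gBN else gAN) (acc.getD jp.2 (1, 0, 0, 1))]) acc, P (castN x) by
    intro x hx
    obtain ⟨y, hy, rfl⟩ := List.mem_map.1 hx
    rw [← builtN_eq] at hy
    exact H parents [(1, 0, 0, 1)] (by intro z hz; rw [List.mem_singleton] at hz; exact hz ▸ h1') y hy
  intro L
  induction L with
  | nil => exact fun acc h => h
  | cons jp L ih =>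
    intro acc h
    refine ih _ fun x hx => ?_
    rcases List.mem_append.1 hx with hx | hx
    · exact h x hx
    · rw [List.mem_singleton] at hx
      subst hx
      have : P (castN (acc.getD jp.2 (1, 0, 0, 1))) := by
        by_cases hlt : jp.2 < acc.length
        · rw [List.getD_eq_getElem _ _ hlt]; exact h _ (List.getElem_mem hlt)
        · rw [List.getD_eq_default _ _ (by omega)]; exact h1'
      rw [castN_mulN]
      cases jp.1
      · rw [show (if false = true then gBN else gAN) = gAN from rfl, ← gA_eq]; exact hl _ this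
      · rw [show (if true = true then gBN else gAN) = gBN from rfl, ← gB_eq]; exact hu _ this

/-- `4^k x`. -/
def mat (z : Fin 29 × Tup (ZMod 59)) : Matrix (Fin 2) (Fin 2) (ZMod 59) := scal z.1 • toMat z.2

/-- An exceptional sharply doubly transitive group of degree 59^2: the listed matrices generate a subgroup of GL(2,59) of order 3480 acting regularly on the non-zero vectors. -/
theorem result (A : Matrix.GeneralLinearGroup (Fin 2) (ZMod 59)) (B : Matrix.GeneralLinearGroup (Fin 2) (ZMod 59)) (C : Matrix.GeneralLinearGroup (Fin 2) (ZMod 59)) (hA : (A : Matrix (Fin 2) (Fin 2) (ZMod 59)) = !![0, -1; 1, 0]) (hB : (B : Matrix (Fin 2) (Fin 2) (ZMod 59)) = !![9, 15; -10, -10]) (hC : (C : Matrix (Fin 2) (Fin 2) (ZMod 59)) = !![4, 0; 0, 4]) : Nat.card (Subgroup.closure ({A, B, C} : Set (Matrix.GeneralLinearGroup (Fin 2) (ZMod 59)))) = 3480 ∧ ∀ v w : Fin 2 → ZMod 59, v ≠ 0 → w ≠ 0 → ∃! h : Subgroup.closure ({A, B, C} : Set (Matrix.GeneralLinearGroup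 (Fin 2) (ZMod 59))), Matrix.mulVec ((h : Matrix.GeneralLinearGroup (Fin 2) (ZMod 59)) : Matrix (Fin 2) (Fin 2) (ZMod 59)) v = w := by
  haveI : Fact (Nat.Prime 59) := ⟨by norm_num⟩
  set S := ({A, B, C} : Set (Matrix.GeneralLinearGroup (Fin 2) (ZMod 59)))
  set H := Subgroup.closure S
  have hA' : (A : Matrix (Fin 2) (Fin 2) (ZMod 59)) = toMat gA := hA.trans (by
    ext a b; fin_cases a <;> fin_cases b <;> decide)
  have hB' : (B : Matrix (Fin 2) (Fin 2) (ZMod 59)) = toMat gB := hB.trans (by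
    ext a b; fin_cases a <;> fin_cases b <;> decide)
  have hC' : (C : Matrix (Fin 2) (Fin 2) (ZMod 59)) = (4 : ZMod 59) • (1 : Matrix (Fin 2) (Fin 2) (ZMod 59)) :=
    hC.trans (by ext a b; fin_cases a <;> fin_cases b <;> simp)
  have hone : mat (0, (1, 0, 0, 1)) = 1 := by
    ext a b; fin_cases a <;> fin_cases b <;> simp [mat, scal, toMat]
  have h1 : ∀ z : Fin 29 × {x // x ∈ elts}, ∃ h : H,
      ((h : Matrix.GeneralLinearGroup (Fin 2) (ZMod 59)) : Matrix (Fin 2) (Fin 2) (ZMod 59)) =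
        mat (z.1, z.2.1) := by
    rintro ⟨k, x, hx⟩
    obtain ⟨h, hh⟩ := induction_elts (P := fun x => ∃ h : H,
        ((h : Matrix.GeneralLinearGroup (Fin 2) (ZMod 59)) : Matrix (Fin 2) (Fin 2) (ZMod 59)) = toMat x)
      ⟨1, by ext a b; fin_cases a <;> fin_cases b <;> simp [toMat]⟩
      (fun x ⟨h, hh⟩ => ⟨⟨A, Subgroup.subset_closure (by simp [S])⟩ * h, by simp [toMat_tmul, hh, hA']⟩)
      (fun x ⟨h, hh⟩ => ⟨⟨B, Subgroup.subset_closure (by simp [S])⟩ * h, by simp [toMat_tmul, hh, hB']⟩)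
      x hx
    refine ⟨⟨C, Subgroup.subset_closure (by simp [S])⟩ ^ (k : ℕ) * h, ?_⟩
    rw [Subgroup.coe_mul, Subgroup.coe_pow, Units.val_mul, Units.val_pow_eq_pow_val, hh, hC',
      smul_pow, one_pow, smul_mul_assoc, one_mul]
    rfl
  have h2 : ∀ g ∈ H, ∃ z : Fin 29 × {x // x ∈ elts},
      (g : Matrix (Fin 2) (Fin 2) (ZMod 59)) = mat (z.1, z.2.1) := by
    intro g hg
    have hg' : g ∈ Submonoid.closure S := by
      rw [← Subgroup.closure_toSubmonoid_of_finite]; exact hg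
    clear hg
    induction hg' using Submonoid.closure_induction_left with
    | one =>
      exact ⟨(0, ⟨(1, 0, 0, 1), one_mem⟩), hone.symm⟩
    | mul_left a ha b _ ih =>
      obtain ⟨⟨k, x, hx⟩, hz⟩ := ih
      rcases ha with rfl | rfl | rfl
      · exact ⟨(k, ⟨_, (closed x hx).1⟩), by simp [hA', hz, mat, toMat_tmul]⟩
      · exact ⟨(k, ⟨_, (closed x hx).2⟩), by simp [hB', hz, mat, toMat_tmul]⟩
      · obtain ⟨k', hk'⟩ := scal_mul k
        exact ⟨(k', ⟨x, hx⟩), by simp [hC', hz, mat, smul_smul, ← hk', mul_comm]⟩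
  choose f hf using h1
  have hbij : Function.Bijective f := by
    refine ⟨fun z z' h => ?_, fun g => ?_⟩
    · have e : mat (z.1, z.2.1) = mat (z'.1, z'.2.1) := by rw [← hf z, h, hf z']
      have hdet : ∀ w : Fin 29 × {x // x ∈ elts}, (mat (w.1, w.2.1)).det = scal w.1 * scal w.1 := fun w => by
        rw [mat, Matrix.det_smul, Fintype.card_fin, pow_two, toMat, Matrix.det_fin_two_of,
          det_one _ w.2.2, mul_one]
      have hk : z.1 = z'.1 := scal_inj _ _ (by rw [← hdet, e, hdet])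
      refine Prod.ext hk (Subtype.ext ?_)
      have hne : scal z'.1 ≠ 0 := pow_ne_zero _ four_ne
      have key : ∀ i j, toMat z.2.1 i j = toMat z'.2.1 i j := fun i j => by
        have := congrFun (congrFun e i) j
        rw [mat, mat, hk, Matrix.smul_apply, Matrix.smul_apply] at this
        exact mul_left_cancel₀ hne this
      exact Prod.ext (key 0 0) (Prod.ext (key 0 1) (Prod.ext (key 1 0) (key 1 1)))
    · obtain ⟨z, hz⟩ := h2 g g.2
      exact ⟨z, Subtype.ext (Units.ext ((hf z).trans hz.symm))⟩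
  have hcard : Nat.card H = 3480 := by
    rw [← Nat.card_eq_of_bijective f hbij, Nat.card_prod, Nat.card_eq_fintype_card, Fintype.card_fin,
      Nat.card_congr (Equiv.subtypeEquivRight fun x => (List.mem_toFinset (l := elts)).symm),
      Nat.card_eq_finsetCard, List.toFinset_card_of_nodup nodup, length_elts]
  have hfree : ∀ g : H, ∀ v : Fin 2 → ZMod 59, v ≠ 0 →
      Matrix.mulVec ((g : Matrix.GeneralLinearGroup (Fin 2) (ZMod 59)) : Matrix (Fin 2) (Fin 2) (ZMod 59)) v = v →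
      g = 1 := by
    intro g v hv hgv
    obtain ⟨⟨k, x, hx⟩, hz⟩ := h2 g g.2
    rw [hz] at hgv
    have hd : (mat (k, x) - 1).det = 0 :=
      Matrix.exists_mulVec_eq_zero_iff.1 ⟨v, hv, by rw [Matrix.sub_mulVec, Matrix.one_mulVec, hgv, sub_self]⟩
    have he : scal k * scal k - scal k * (x.1 + x.2.2.2) + 1 = 0 := by
      rw [Matrix.det_fin_two] at hd
      simp [mat, toMat] at hd
      linear_combination hd - scal k * scal k * det_one x hx
    obtain ⟨rfl, rfl⟩ := free x hx k he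
    exact Subtype.ext (Units.ext (hz.trans hone))
  refine ⟨hcard, fun v w hv hw => ?_⟩
  let φ : H → {u : Fin 2 → ZMod 59 // u ≠ 0} := fun g =>
    ⟨Matrix.mulVec ((g : Matrix.GeneralLinearGroup (Fin 2) (ZMod 59)) : Matrix (Fin 2) (Fin 2) (ZMod 59)) v,
      fun h0 => hv (by
        have := congrArg (Matrix.mulVec ((g⁻¹ : H).1 : Matrix (Fin 2) (Fin 2) (ZMod 59))) h0
        rwa [Matrix.mulVec_mulVec, ← Units.val_mul, ← Subgroup.coe_mul, inv_mul_cancel, Subgroup.coe_one,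
          Units.val_one, Matrix.one_mulVec, Matrix.mulVec_zero] at this)⟩
  have hφi : Function.Injective φ := by
    intro g g' h
    have e := congrArg (fun u : {u : Fin 2 → ZMod 59 // u ≠ 0} =>
      Matrix.mulVec ((g'⁻¹ : H).1 : Matrix (Fin 2) (Fin 2) (ZMod 59)) u.1) h
    simp only [φ, Matrix.mulVec_mulVec, ← Units.val_mul, ← Subgroup.coe_mul, inv_mul_cancel,
      Subgroup.coe_one, Units.val_one, Matrix.one_mulVec] at e
    exact (inv_mul_eq_one.1 (hfree (g'⁻¹ * g) v hv e)).symm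
  have hb := (Nat.bijective_iff_injective_and_card φ).2 ⟨hφi, by
    rw [hcard, Nat.card_eq_fintype_card, Fintype.card_subtype_compl, Fintype.card_fun,
      Fintype.card_subtype_eq, Fintype.card_fin, ZMod.card]; norm_num⟩
  obtain ⟨g, hg⟩ := hb.2 ⟨w, hw⟩
  exact ⟨g, congrArg Subtype.val hg, fun g' hg' => hb.1 ((Subtype.ext hg').trans hg.symm)⟩

end Cfsg.Agent.S0693
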