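import Cfsg.Statements.S0694
import Mathlib

set_option autoImplicit false
set_option linter.style.haveILetI false
open Cfsg

namespace Cfsg.Agent.S0694

theorem pow_sub_one_ne_zero {q i : ℕ} (hq : 2 ≤ q) (hi : i ≠ 0) : q ^ i - 1 ≠ 0 := by
  have := Nat.le_self_pow hi q
  omega

theorem modEq_iff {q m i : ℕ} (hq : 2 ≤ q) (_hm : m ≠ 0) : q ^ i ≡ 1 [MOD m] ↔ m ∣ q ^ i - 1 :=
  ⟨fun h => (Nat.modEq_iff_dvd' (Nat.one_le_pow _ _ (by omega))).mp h.symm,
    fun h => ((Nat.modEq_iff_dvd' (Nat.one_le_pow _ _ (by omega))).mpr h).symm⟩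

theorem not_dvd_of_dvd_sub_one {r q : ℕ} (hr : r.Prime) (hq : 2 ≤ q) (h : r ∣ q - 1) : ¬ r ∣ q := fun h' => by
  have := Nat.dvd_sub h' h
  rw [Nat.sub_sub_self (by omega)] at this
  exact hr.not_dvd_one this

theorem val_two_add_one {q : ℕ} (hq : 2 ≤ q) (h : 4 ∣ q - 1) : padicValNat 2 (q + 1) = 1 := by
  haveI := Fact.mk Nat.prime_two
  have h1 : 1 ≤ padicValNat 2 (q + 1) := one_le_padicValNat_of_dvd (by omega) (by omega)
  have h2 : ¬ 2 ≤ padicValNat 2 (q + 1) := fun hc => by
    have : 4 ∣ q + 1 := (pow_dvd_pow 2 hc).trans pow_padicValNat_dvd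
    omega
  omega

theorem val_two_odd_pow {q i : ℕ} (hq : 2 ≤ q) (h : 2 ∣ q - 1) (hi : Odd i) :
    padicValNat 2 (q ^ i - 1) = padicValNat 2 (q - 1) := by
  haveI := Fact.mk Nat.prime_two
  have hgeom : q ^ i - 1 = (∑ j ∈ Finset.range i, q ^ j) * (q - 1) := by
    have h := geom_sum_mul_of_one_le (show 1 ≤ q by omega) i
    omega
  have hodd : ¬ 2 ∣ ∑ j ∈ Finset.range i, q ^ j := by
    rw [Nat.two_dvd_ne_zero, Finset.sum_nat_mod]
    have hq1 : q % 2 = 1 := by omega
    simp [Nat.pow_mod, hq1, Nat.odd_iff.mp hi]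
  rw [hgeom, padicValNat.mul (fun h0 => hodd (by simp [h0])) (by omega),
    padicValNat.eq_zero_of_not_dvd hodd, zero_add]

theorem dvd_of_good' {q n X : ℕ} (hq : 2 ≤ q) (hn : n ≠ 0) (hX : X ≠ 0)
    (h : ∀ s, s.Prime → s ∣ n →
      (s ∣ q - 1 ∧ padicValNat s n ≤ padicValNat s X ∧ (s = 2 → Even X)) ∨
        (¬ s ∣ q - 1 ∧ s ^ padicValNat s n ∣ q ^ X - 1)) :
    n * (q - 1) ∣ q ^ X - 1 := by
  rw [← Nat.factorization_prime_le_iff_dvd (Nat.mul_ne_zero hn (by omega)) (pow_sub_one_ne_zero hq hX)]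
  intro s hs
  haveI := Fact.mk hs
  rw [Nat.factorization_def _ hs, Nat.factorization_def _ hs, padicValNat.mul hn (by omega)]
  by_cases hsn : s ∣ n
  swap
  · rw [padicValNat.eq_zero_of_not_dvd hsn, zero_add]
    exact (padicValNat_dvd_iff_le (pow_sub_one_ne_zero hq hX)).mp
      (pow_padicValNat_dvd.trans (Nat.sub_one_dvd_pow_sub_one q _))
  rcases h s hs hsn with ⟨hsq, hle, hev⟩ | ⟨hsq, hd⟩
  · have hnq := not_dvd_of_dvd_sub_one hs hq hsq
    rcases hs.eq_two_or_odd' with h2 | hodd
    · subst h2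
      have hv := padicValNat.pow_two_sub_one (x := q) (by omega) hnq hX (hev rfl)
      have : 1 ≤ padicValNat 2 (q + 1) := one_le_padicValNat_of_dvd (by omega) (by omega)
      omega
    · have hv := padicValNat.pow_sub_pow (p := s) (x := q) (y := 1) hodd (by omega) hsq hnq hX
      rw [one_pow] at hv
      omega
  · rw [padicValNat.eq_zero_of_not_dvd hsq, add_zero]
    exact (padicValNat_dvd_iff_le (pow_sub_one_ne_zero hq hX)).mp hd

theorem dvd_of_good {q n X : ℕ} (hq : 2 ≤ q) (hn : n ≠ 0) (hX : X ≠ 0)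
    (h : ∀ s, s.Prime → s ∣ n →
      s ∣ q - 1 ∧ padicValNat s n ≤ padicValNat s X ∧ (s = 2 → Even X)) :
    n * (q - 1) ∣ q ^ X - 1 :=
  dvd_of_good' hq hn hX fun s hs hsn => Or.inl (h s hs hsn)


/-- The Dickson pair condition: for a prime power `q` and `n > 1`, (every prime factor of `n` divides `q - 1`, and `4 ∣ n → 4 ∣ q - 1`) holds exactly when `q ^ n ≡ 1` modulo `n * (q - 1)` but `q ^ i` is not, for `0 < i < n`. -/
theorem result (q n : ℕ) (hq : IsPrimePow q) (hn : 1 < n) : ((∀ r : ℕ, r.Prime → r ∣ n → r ∣ q - 1) ∧ (4 ∣ n → 4 ∣ q - 1)) ↔ (q ^ n ≡ 1 [MOD n * (q - 1)] ∧ ∀ i : ℕ, 0 < i → i < n → ¬ q ^ i ≡ 1 [MOD n * (q - 1)]) := by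
  classical
  have hq2 : 2 ≤ q := hq.two_le
  have hn0 : n ≠ 0 := by omega
  have hm0 : n * (q - 1) ≠ 0 := Nat.mul_ne_zero hn0 (by omega)
  constructor
  · rintro ⟨hgood, h4⟩
    refine ⟨(modEq_iff hq2 hm0).mpr ?_, fun i hi0 hin hmod => ?_⟩
    · exact dvd_of_good hq2 hn0 hn0 (fun r hr hrn => ⟨hgood r hr hrn, le_rfl, fun h2 => by
        subst h2; exact even_iff_two_dvd.mpr hrn⟩)
    · have hdvd := (modEq_iff hq2 hm0).mp hmod
      refine absurd (Nat.le_of_dvd hi0 ?_) (not_le.mpr hin)
      rw [← Nat.factorization_prime_le_iff_dvd hn0 hi0.ne']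
      intro r hr
      haveI := Fact.mk hr
      rw [Nat.factorization_def _ hr, Nat.factorization_def _ hr]
      by_cases hrn : r ∣ n
      swap
      · simp [padicValNat.eq_zero_of_not_dvd hrn]
      have hrq := hgood r hr hrn
      have hle : padicValNat r n + padicValNat r (q - 1) ≤ padicValNat r (q ^ i - 1) := by
        rw [← padicValNat.mul hn0 (by omega)]
        exact (padicValNat_dvd_iff_le (pow_sub_one_ne_zero hq2 hi0.ne')).mp (pow_padicValNat_dvd.trans hdvd)
      have hnq : ¬ r ∣ q := not_dvd_of_dvd_sub_one hr hq2 hrq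
      rcases hr.eq_two_or_odd' with h2 | hodd
      · subst h2
        by_cases hie : Even i
        · have hv := padicValNat.pow_two_sub_one (x := q) (by omega) hnq hi0.ne' hie
          by_cases h4n : 4 ∣ n
          · have h4q := h4 h4n
            have : padicValNat 2 (q + 1) = 1 := val_two_add_one hq2 h4q
            omega
          · have h1 : padicValNat 2 n ≤ 1 := by
              by_contra hc
              exact h4n ((pow_dvd_pow 2 (show 2 ≤ padicValNat 2 n by omega)).trans pow_padicValNat_dvd)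
            have h2 : 1 ≤ padicValNat 2 i :=
              one_le_padicValNat_of_dvd hi0.ne' (even_iff_two_dvd.mp hie)
            omega
        · have hv := val_two_odd_pow hq2 (hgood 2 hr hrn) (Nat.not_even_iff_odd.mp hie)
          have : 1 ≤ padicValNat 2 n := one_le_padicValNat_of_dvd hn0 hrn
          omega
      · have hv := padicValNat.pow_sub_pow (p := r) (x := q) (y := 1) hodd (by omega) hrq hnq hi0.ne'
        rw [one_pow] at hv
        omega
  · rintro ⟨hmod, hmin⟩
    have hper : ∀ X, X ≠ 0 → n * (q - 1) ∣ q ^ X - 1 → n ∣ X := by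
      intro X hX hdvd
      have hord : orderOf ((q : ℕ) : ZMod (n * (q - 1))) = n := by
        refine (orderOf_eq_iff (by omega)).mpr ⟨?_, fun i hin hi0 h => hmin i hi0 hin ?_⟩
        · exact_mod_cast (ZMod.natCast_eq_natCast_iff (q ^ n) 1 (n * (q - 1))).mpr hmod
        · exact (ZMod.natCast_eq_natCast_iff _ _ _).mp (by exact_mod_cast h)
      have hX1 : ((q ^ X : ℕ) : ZMod (n * (q - 1))) = ((1 : ℕ) : ZMod (n * (q - 1))) :=
        (ZMod.natCast_eq_natCast_iff _ _ _).mpr ((modEq_iff hq2 hm0).mpr hdvd)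
      rw [← hord]
      exact orderOf_dvd_of_pow_eq_one (by exact_mod_cast hX1)
    have hcop : ∀ r, r.Prime → r ∣ n → ¬ r ∣ q := by
      intro r hr hrn hrq
      have h1 : r ∣ q ^ n - 1 := (hrn.trans (dvd_mul_right n (q - 1))).trans ((modEq_iff hq2 hm0).mp hmod)
      have h2 : r ∣ q ^ n := dvd_pow hrq hn0
      have := Nat.dvd_sub h2 h1
      rw [Nat.sub_sub_self (Nat.one_le_pow _ _ (by omega))] at this
      exact hr.not_dvd_one this
    have hall : ∀ r, r.Prime → r ∣ n → r ∣ q - 1 := by
      intro r₀ hr₀ hr₀n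
      by_contra hr₀q
      let S := n.primeFactors.filter fun r => ¬ r ∣ q - 1
      have hSne : S.Nonempty := ⟨r₀, Finset.mem_filter.mpr ⟨Nat.mem_primeFactors.mpr ⟨hr₀, hr₀n, hn0⟩, hr₀q⟩⟩
      set r := S.max' hSne with hrdef
      have hrS := S.max'_mem hSne
      rw [← hrdef, Finset.mem_filter] at hrS
      obtain ⟨hrp, hrbad⟩ := hrS
      have hr := Nat.prime_of_mem_primeFactors hrp
      haveI := Fact.mk hr
      let B : ℕ → ℕ := fun s => if s ∣ q - 1 then s ^ padicValNat s n else Nat.totient (s ^ padicValNat s n)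
      have hBne : ∀ s ∈ n.primeFactors, B s ≠ 0 := by
        intro s hs
        have := (Nat.prime_of_mem_primeFactors hs).pos
        simp only [B]
        split_ifs
        · positivity
        · exact (Nat.totient_pos.mpr (by positivity)).ne'
      set X := ∏ s ∈ n.primeFactors, B s
      have hX0 : X ≠ 0 := Finset.prod_ne_zero_iff.mpr hBne
      have hdvd : n * (q - 1) ∣ q ^ X - 1 := by
        refine dvd_of_good' hq2 hn0 hX0 fun s hs hsn => ?_
        have hBX : B s ∣ X := Finset.dvd_prod_of_mem _ (Nat.mem_primeFactors.mpr ⟨hs, hsn, hn0⟩)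
        haveI := Fact.mk hs
        by_cases hsq : s ∣ q - 1
        · left
          simp only [B, if_pos hsq] at hBX
          refine ⟨hsq, (padicValNat_dvd_iff_le hX0).mp hBX, fun h2 => ?_⟩
          subst h2
          exact even_iff_two_dvd.mpr ((dvd_pow_self 2 (Nat.one_le_iff_ne_zero.mp
            (one_le_padicValNat_of_dvd hn0 hsn))).trans hBX)
        · right
          refine ⟨hsq, ?_⟩
          simp only [B, if_neg hsq] at hBX
          obtain ⟨c, hc⟩ := hBX
          refine (Nat.modEq_iff_dvd' (Nat.one_le_pow _ _ (by omega))).mp ?_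
          rw [hc, pow_mul]
          have := (Nat.ModEq.pow_totient ((hs.coprime_iff_not_dvd.mpr (hcop s hs hsn)).symm.pow_right
            (padicValNat s n))).pow c
          rw [one_pow] at this
          exact this.symm
      have hvn : 1 ≤ padicValNat r n :=
        one_le_padicValNat_of_dvd hn0 (Nat.dvd_of_mem_primeFactors hrp)
      have hXsplit : X = B r * ∏ s ∈ n.primeFactors.erase r, B s :=
        (Finset.mul_prod_erase _ B hrp).symm
      have hrest : ¬ r ∣ ∏ s ∈ n.primeFactors.erase r, B s := by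
        rw [hr.prime.dvd_finset_prod_iff]
        rintro ⟨s, hs, hdv⟩
        obtain ⟨hsne, hsp⟩ := Finset.mem_erase.mp hs
        have hsP := Nat.prime_of_mem_primeFactors hsp
        simp only [B] at hdv
        split_ifs at hdv with hsq
        · exact hsne ((Nat.prime_dvd_prime_iff_eq hr hsP).mp (hr.dvd_of_dvd_pow hdv)).symm
        · haveI := Fact.mk hsP
          rw [Nat.totient_prime_pow hsP (one_le_padicValNat_of_dvd hn0 (Nat.dvd_of_mem_primeFactors hsp))] at hdv
          rcases hr.dvd_mul.mp hdv with h | h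
          · exact hsne ((Nat.prime_dvd_prime_iff_eq hr hsP).mp (hr.dvd_of_dvd_pow h)).symm
          · have h1 : s ≤ r := S.le_max' s (Finset.mem_filter.mpr ⟨hsp, hsq⟩)
            have := hsP.two_le
            have := Nat.le_of_dvd (by omega) h
            omega
      have hdiv := (pow_padicValNat_dvd (p := r) (n := n)).trans (hper X hX0 hdvd)
      rw [hXsplit] at hdiv
      have hBr := ((hr.coprime_iff_not_dvd.mpr hrest).pow_left _).dvd_of_dvd_mul_right hdiv
      simp only [B, if_neg hrbad, Nat.totient_prime_pow hr hvn] at hBr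
      have h1 : Nat.Coprime (r ^ padicValNat r n) (r - 1) := Nat.Coprime.pow_left _ (hr.coprime_iff_not_dvd.mpr (by
        intro h; have h2 := hr.two_le; have := Nat.le_of_dvd (by omega) h; omega))
      have := (Nat.pow_dvd_pow_iff_le_right hr.one_lt).mp (h1.dvd_of_dvd_mul_right hBr)
      omega
    refine ⟨hall, fun h4n => ?_⟩
    by_contra h4q
    have h2q : 2 ∣ q - 1 := hall 2 Nat.prime_two ((by norm_num : 2 ∣ 4).trans h4n)
    have hX0 : n / 2 ≠ 0 := by omega
    have hdvd : n * (q - 1) ∣ q ^ (n / 2) - 1 := by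
      rw [← Nat.factorization_prime_le_iff_dvd hm0 (pow_sub_one_ne_zero hq2 hX0)]
      intro s hs
      haveI := Fact.mk hs
      rw [Nat.factorization_def _ hs, Nat.factorization_def _ hs, padicValNat.mul hn0 (by omega)]
      by_cases hsn : s ∣ n
      swap
      · rw [padicValNat.eq_zero_of_not_dvd hsn, zero_add]
        exact (padicValNat_dvd_iff_le (pow_sub_one_ne_zero hq2 hX0)).mp
          (pow_padicValNat_dvd.trans (Nat.sub_one_dvd_pow_sub_one q _))
      have hnq := hcop s hs hsn
      have hsq := hall s hs hsn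
      have hn2 : n = n / 2 * 2 := by omega
      rcases hs.eq_two_or_odd' with h2 | hodd
      · subst h2
        have hv := padicValNat.pow_two_sub_one (x := q) (by omega) hnq hX0 (by
          rw [even_iff_two_dvd]; omega)
        have h3 : 2 ≤ padicValNat 2 (q + 1) := (padicValNat_dvd_iff_le (by omega)).mp (by
          show 4 ∣ q + 1; omega)
        have h4 : padicValNat 2 n = padicValNat 2 (n / 2) + 1 := by
          conv_lhs => rw [hn2]
          rw [padicValNat.mul hX0 two_ne_zero, padicValNat_self]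
        omega
      · have hv := padicValNat.pow_sub_pow (p := s) (x := q) (y := 1) hodd (by omega) hsq hnq hX0
        rw [one_pow] at hv
        have h4 : padicValNat s n = padicValNat s (n / 2) := by
          conv_lhs => rw [hn2]
          rw [padicValNat.mul hX0 two_ne_zero, padicValNat.eq_zero_of_not_dvd (n := 2) fun h => ?_, add_zero]
          have := (Nat.prime_dvd_prime_iff_eq hs Nat.prime_two).mp h
          subst this
          exact absurd hodd (by decide)
        omega
    have := Nat.le_of_dvd (Nat.pos_of_ne_zero hX0) (hper _ hX0 hdvd)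
    omega

end Cfsg.Agent.S0694
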