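import Cfsg.Statements.S0702
import Cfsg.Agent.Lib.Perm.Basic
-- import your own Cfsg.Agent.* helpers here

set_option autoImplicit false
open Cfsg

namespace Cfsg.Agent.S0702

theorem stab_of_centralizer {α : Type*} (G : Subgroup (Equiv.Perm α)) {c : Equiv.Perm α}
    (hc : c ∈ Subgroup.centralizer (G : Set (Equiv.Perm α))) (a : α) :
    MulAction.stabilizer G (c a) = MulAction.stabilizer G a := by
  ext g
  change (g : Equiv.Perm α) (c a) = c a ↔ (g : Equiv.Perm α) a = a
  rw [← Equiv.Perm.mul_apply, Subgroup.mem_centralizer_iff.1 hc g g.2, Equiv.Perm.mul_apply,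
    c.injective.eq_iff]

theorem result_aux {α : Type*} [Finite α] (G : Subgroup (Equiv.Perm α))
    [MulAction.IsPretransitive G α] (a : α) :
    Nonempty (Subgroup.centralizer (G : Set (Equiv.Perm α)) ≃*
      Subgroup.normalizer ((MulAction.stabilizer G a : Subgroup G) : Set G) ⧸
        (MulAction.stabilizer G a).subgroupOf
          (Subgroup.normalizer ((MulAction.stabilizer G a : Subgroup G) : Set G))) ∧
      MulAction.orbit (Subgroup.centralizer (G : Set (Equiv.Perm α))) a =
        MulAction.fixedPoints (MulAction.stabilizer G a) α := by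
  set C := Subgroup.centralizer (G : Set (Equiv.Perm α))
  set S := MulAction.stabilizer G a with hS
  set N := Subgroup.normalizer (S : Set G)
  have hN : ∀ g : G, g ∈ N ↔ MulAction.stabilizer G (g • a) = S := by
    intro g
    rw [Subgroup.mem_normalizer_iff, SetLike.ext_iff]
    constructor
    · intro h x
      have h1 := (h (g⁻¹ * x * g)).symm
      rw [show g * (g⁻¹ * x * g) * g⁻¹ = x by group] at h1
      rw [h1, hS, MulAction.mem_stabilizer_iff, MulAction.mem_stabilizer_iff, mul_smul, mul_smul,
        inv_smul_eq_iff]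
    · intro h x
      rw [← h (g * x * g⁻¹), hS, MulAction.mem_stabilizer_iff,
        MulAction.mem_stabilizer_iff, mul_smul, mul_smul, inv_smul_smul, smul_left_cancel_iff]
  have hex : ∀ c : C, ∃ g : N, ((g : G) • a : α) = (c : Equiv.Perm α)⁻¹ a := by
    intro c
    obtain ⟨g, hg⟩ := MulAction.exists_smul_eq G a ((c : Equiv.Perm α)⁻¹ a)
    exact ⟨⟨g, (hN g).2 (by rw [hg]; exact stab_of_centralizer G (C.inv_mem c.2) a)⟩, hg⟩
  choose w hw using hex
  have hwd : ∀ g g' : N, ((g : G) • a : α) = (g' : G) • a →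
      (QuotientGroup.mk g : N ⧸ S.subgroupOf N) = QuotientGroup.mk g' := by
    intro g g' h
    refine QuotientGroup.eq.2 ?_
    rw [Subgroup.mem_subgroupOf, Subgroup.coe_mul, Subgroup.coe_inv, hS,
      MulAction.mem_stabilizer_iff, mul_smul, inv_smul_eq_iff, h]
  let φ : C →* N ⧸ S.subgroupOf N :=
    MonoidHom.mk' (fun c => QuotientGroup.mk (w c)) (fun c d => by
      rw [← QuotientGroup.mk_mul]
      refine hwd _ _ ?_
      rw [hw, Subgroup.coe_mul, Subgroup.coe_mul, mul_smul, hw d, mul_inv_rev,
        Equiv.Perm.mul_apply]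
      have hcomm := Subgroup.mem_centralizer_iff.1 (C.inv_mem d.2) _ (w c : G).2
      have hwc : ((w c : G) : Equiv.Perm α) a = (c : Equiv.Perm α)⁻¹ a := hw c
      rw [← hwc, ← Equiv.Perm.mul_apply]
      exact (congrArg (fun σ : Equiv.Perm α => σ a) hcomm).symm)
  refine ⟨⟨MulEquiv.ofBijective φ ⟨?_, ?_⟩⟩, ?_⟩
  · rw [injective_iff_map_eq_one]
    intro c hc
    have hmem : (w c : G) ∈ S := by
      simpa [Subgroup.mem_subgroupOf] using (QuotientGroup.eq_one_iff (w c)).1 hc
    have h1 : (c : Equiv.Perm α)⁻¹ a = a := (hw c).symm.trans hmem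
    have : (c⁻¹ : C) = 1 :=
      Subtype.ext (Perm.eq_one_of_forall_smul_eq fun b =>
        Perm.smul_eq_of_mem_centralizer (N := G) (C.inv_mem c.2) h1 b)
    simpa using this
  · intro q
    obtain ⟨g, rfl⟩ := QuotientGroup.mk_surjective q
    obtain ⟨c, hc, hca⟩ := Perm.exists_centralizer_apply_eq G (a := a) (b := (g : G) • a)
      ((hN g).1 g.2).symm
    refine ⟨⟨c, hc⟩⁻¹, hwd _ _ ?_⟩
    rw [hw]
    simpa using hca
  · ext b
    constructor
    · rintro ⟨c, rfl⟩ ⟨g, hg⟩
      change g ∈ MulAction.stabilizer G ((c : Equiv.Perm α) a)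
      rw [stab_of_centralizer G c.2]
      exact hg
    · intro hb
      have hle : S ≤ MulAction.stabilizer G b := fun g hg => hb ⟨g, hg⟩
      haveI : Finite G := Finite.of_injective _ Subtype.val_injective
      have hcard : Nat.card (MulAction.stabilizer G b) ≤ Nat.card S := by
        have h := (Perm.card_mul_card_stabilizer (G := G) b).trans
          (Perm.card_mul_card_stabilizer (G := G) a).symm
        haveI : Nonempty α := ⟨a⟩
        exact le_of_eq (Nat.eq_of_mul_eq_mul_left Nat.card_pos h)
      obtain ⟨c, hc, hca⟩ := Perm.exists_centralizer_apply_eq G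
        (Subgroup.eq_of_le_of_card_ge hle hcard)
      exact ⟨⟨c, hc⟩, hca⟩


/-- For a transitive permutation group `G` on a finite set, the centraliser of `G` in the symmetric group is isomorphic to `N_G(G_ω)/G_ω`, and its orbit of `ω` is the set of fixed points of `G_ω`. -/
theorem result {α : Type*} [Finite α] (G : Subgroup (Equiv.Perm α)) [MulAction.IsPretransitive G α] (a : α) : Nonempty (Subgroup.centralizer (G : Set (Equiv.Perm α)) ≃* Subgroup.normalizer ((MulAction.stabilizer G a : Subgroup G) : Set G) ⧸ (MulAction.stabilizer G a).subgroupOf (Subgroup.normalizer ((MulAction.stabilizer G a : Subgroup G) : Set G))) ∧ MulAction.orbit (Subgroup.centralizer (G : Set (Equiv.Perm α))) a = MulAction.fixedPoints (MulAction.stabilizer G a) α := by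
  exact result_aux G a

end Cfsg.Agent.S0702
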