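import Cfsg.Statements.S0703
import Cfsg.Agent.Lib.Perm.Basic
-- import your own Cfsg.Agent.* helpers here

set_option autoImplicit false
open Cfsg

namespace Cfsg.Agent.S0703

/-- An abelian transitive minimal normal subgroup `M` of a permutation group on a finite set is self-centralising in the symmetric group, regular, elementary abelian, and is the unique minimal normal subgroup. -/
theorem result {α : Type*} [Finite α] (G : Subgroup (Equiv.Perm α)) (M : Subgroup G) [M.Normal] (hM : M ≠ ⊥) (hmin : ∀ L : Subgroup G, L.Normal → L ≤ M → L = ⊥ ∨ L = M) (hab : IsMulCommutative M) (htrans : MulAction.IsPretransitive M α) : Subgroup.centralizer ((M.map G.subtype : Subgroup (Equiv.Perm α)) : Set (Equiv.Perm α)) = M.map G.subtype ∧ (∀ a : α, MulAction.stabilizer M a = ⊥) ∧ (∃ p : ℕ, p.Prime ∧ ∀ m ∈ M, m ^ p = 1) ∧ ∀ L : Subgroup G, L.Normal → L ≠ ⊥ → (∀ L' : Subgroup G, L'.Normal → L' ≤ L → L' = ⊥ ∨ L' = L) → L = M := by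
  haveI := htrans
  haveI : Finite G := Finite.of_injective _ Subtype.val_injective
  have hne : Nonempty α := by
    by_contra hα
    rw [not_nonempty_iff] at hα
    exact hM ((Subgroup.eq_bot_iff_forall M).2 fun g _ => Subtype.ext (Subsingleton.elim _ _))
  have ht' : MulAction.IsPretransitive (M.map G.subtype) α :=
    Perm.isPretransitive_subgroup_iff.2 fun a b =>
      let ⟨g, hg, hab⟩ := Perm.isPretransitive_subgroup_iff.1 htrans a b
      ⟨g, ⟨g, hg, rfl⟩, hab⟩
  haveI : IsMulCommutative M := hab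
  refine ⟨Perm.centralizer_eq_of_abelian ht', Perm.semiregular_of_abelian htrans, ?_, ?_⟩
  · have hM1 : Nat.card M ≠ 1 := fun h => hM (Subgroup.eq_bot_of_card_eq M h)
    obtain ⟨p, hp, hpd⟩ := Nat.exists_prime_and_dvd hM1
    haveI : Fact p.Prime := ⟨hp⟩
    obtain ⟨x, hx⟩ := exists_prime_orderOf_dvd_card' p hpd
    let K : Subgroup G :=
      { carrier := {g | g ∈ M ∧ g ^ p = 1}
        one_mem' := ⟨M.one_mem, one_pow p⟩
        mul_mem' := fun {g k} hg hk => ⟨M.mul_mem hg.1 hk.1, by
          have hc : Commute g k :=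
            congrArg Subtype.val (mul_comm' (⟨g, hg.1⟩ : M) ⟨k, hk.1⟩)
          rw [hc.mul_pow, hg.2, hk.2, one_mul]⟩
        inv_mem' := fun {g} hg => ⟨M.inv_mem hg.1, by rw [inv_pow, hg.2, inv_one]⟩ }
    have hK : K.Normal := ⟨fun n hn g => ⟨‹M.Normal›.conj_mem n hn.1 g, by
      rw [conj_pow, hn.2, mul_one, mul_inv_cancel]⟩⟩
    refine ⟨p, hp, fun m hm => ?_⟩
    rcases hmin K hK (fun g hg => hg.1) with h | h
    · have hxK : (x : G) ∈ K :=
        ⟨x.2, by rw [← Subgroup.coe_pow, ← hx, pow_orderOf_eq_one, Subgroup.coe_one]⟩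
      rw [h, Subgroup.mem_bot] at hxK
      rw [show x = 1 from Subtype.ext hxK, orderOf_one] at hx
      exact absurd hx.symm hp.ne_one
    · exact (h.ge hm : m ∈ K).2
  · intro L hL hLne hLmin
    by_contra h
    have hle := Perm.le_centralizer_of_minimal hLmin hmin h
    rw [Perm.centralizer_eq_of_abelian htrans] at hle
    rcases hmin L hL hle with h' | h'
    · exact hLne h'
    · exact h h'

end Cfsg.Agent.S0703
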