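import Cfsg.Statements.S0704
import Cfsg.Agent.Lib.Perm.Basic
-- import your own Cfsg.Agent.* helpers here

set_option autoImplicit false
open Cfsg

namespace Cfsg.Agent.S0704

/-- Two distinct transitive minimal normal subgroups `M`, `N` of a permutation group are regular, non-abelian, isomorphic, each other's centraliser in the symmetric group, and the only minimal normal subgroups. -/
theorem result {α : Type*} (G : Subgroup (Equiv.Perm α)) (M N : Subgroup G) [M.Normal] [N.Normal] (hM : M ≠ ⊥) (hN : N ≠ ⊥) (hMmin : ∀ L : Subgroup G, L.Normal → L ≤ M → L = ⊥ ∨ L = M) (hNmin : ∀ L : Subgroup G, L.Normal → L ≤ N → L = ⊥ ∨ L = N) (hMN : M ≠ N) (hMt : MulAction.IsPretransitive M α) (hNt : MulAction.IsPretransitive N α) : (∀ a : α, MulAction.stabilizer M a = ⊥) ∧ (∀ a : α, MulAction.stabilizer N a = ⊥) ∧ ¬ IsMulCommutative M ∧ Nonempty (M ≃* N) ∧ Subgroup.centralizer ((M.map G.subtype : Subgroup (Equiv.Perm α)) : Set (Equiv.Perm α)) = N.map G.subtype ∧ Subgroup.centralizer ((N.map G.subtype : Subgroup (Equiv.Perm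 α)) : Set (Equiv.Perm α)) = M.map G.subtype ∧ ∀ L : Subgroup G, L.Normal → L ≠ ⊥ → (∀ L' : Subgroup G, L'.Normal → L' ≤ L → L' = ⊥ ∨ L' = L) → L = M ∨ L = N := by
  haveI := hMt
  haveI := hNt
  have hcm : M ≤ Subgroup.centralizer (N : Set G) :=
    Perm.le_centralizer_of_minimal hMmin hNmin hMN
  have hcn : N ≤ Subgroup.centralizer (M : Set G) :=
    Perm.le_centralizer_of_minimal hNmin hMmin (Ne.symm hMN)
  have hsM := Perm.semiregular_of_commute hNt hcm
  have hsN := Perm.semiregular_of_commute hMt hcn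
  have hne : Nonempty α := by
    by_contra hα
    rw [not_nonempty_iff] at hα
    exact hM ((Subgroup.eq_bot_iff_forall M).2 fun g _ => Subtype.ext (Subsingleton.elim _ _))
  have hmap : ∀ K : Subgroup G, MulAction.IsPretransitive K α →
      MulAction.IsPretransitive (K.map G.subtype) α := fun K hK =>
    Perm.isPretransitive_subgroup_iff.2 fun a b =>
      let ⟨g, hg, hab⟩ := Perm.isPretransitive_subgroup_iff.1 hK a b
      ⟨g, ⟨g, hg, rfl⟩, hab⟩
  have hcle : ∀ K L : Subgroup G, K ≤ Subgroup.centralizer (L : Set G) →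
      K.map G.subtype ≤
        Subgroup.centralizer ((L.map G.subtype : Subgroup _) : Set (Equiv.Perm α)) := by
    rintro K L h _ ⟨k, hk, rfl⟩
    refine Subgroup.mem_centralizer_iff.2 ?_
    rintro _ ⟨l, hl, rfl⟩
    exact congrArg Subtype.val (Subgroup.mem_centralizer_iff.1 (h hk) l hl)
  haveI := hmap M hMt
  haveI := hmap N hNt
  refine ⟨hsM, hsN, ?_, ?_, ?_, ?_, ?_⟩
  · intro hab
    rw [Perm.centralizer_eq_of_abelian hMt] at hcn
    rcases hMmin N ‹_› hcn with h | h
    · exact hN h
    · exact hMN h.symm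
  · obtain ⟨a⟩ := hne
    choose w hw using fun m : M => MulAction.exists_smul_eq N a (m⁻¹ • a)
    have hinjN := Perm.bijective_smul_of_regular (hsN a)
    refine ⟨MulEquiv.ofBijective (MonoidHom.mk' w fun m m' => hinjN.1 ?_) ⟨?_, ?_⟩⟩
    · change w (m * m') • a = (w m * w m') • a
      rw [mul_smul, hw, hw m', mul_inv_rev, mul_smul, ← hw m]
      change (((m'⁻¹ : M) : G) • ((w m : G) • a)) = (w m : G) • (((m'⁻¹ : M) : G) • a)
      rw [← mul_smul, ← mul_smul, Subgroup.mem_centralizer_iff.1 (hcm (m'⁻¹).2) _ (w m).2]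
    · intro m m' h
      have h' : w m = w m' := h
      have := hw m
      rw [h', hw m'] at this
      simpa using ((Perm.bijective_smul_of_regular (hsM a)).1 this).symm
    · intro n
      obtain ⟨m, hm⟩ := MulAction.exists_smul_eq M a (n • a)
      refine ⟨m⁻¹, hinjN.1 ?_⟩
      change w m⁻¹ • a = n • a
      rw [hw, inv_inv, hm]
  · exact (Perm.eq_of_transitive_le_semiregular (hcle N M hcn) (hmap N hNt)
      fun a => Perm.semiregular_centralizer a).symm
  · exact (Perm.eq_of_transitive_le_semiregular (hcle M N hcm) (hmap M hMt)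
      fun a => Perm.semiregular_centralizer a).symm
  · intro L hL hLne hLmin
    by_contra h
    rw [not_or] at h
    have hle := Perm.le_centralizer_of_minimal hLmin hMmin h.1
    rw [← Perm.eq_of_transitive_le_semiregular hcn hNt fun a => Perm.semiregular_centralizer a]
      at hle
    rcases hNmin L hL hle with h' | h'
    · exact hLne h'
    · exact h.2 h'

end Cfsg.Agent.S0704
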