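import Cfsg.Statements.S0705
-- import your own Cfsg.Agent.* helpers here

set_option autoImplicit false
open scoped Pointwise
open Cfsg

namespace Cfsg.Agent.S0705

/-- A generously `k`-transitive permutation group (every `(k+1)`-subset has its full symmetric group induced by the setwise stabiliser) of degree greater than `k` is `k`-transitive, and for a `k`-subset the setwise and pointwise stabilisers have the same orbits outside it. -/
theorem result {α : Type*} [Fintype α] [DecidableEq α] (G : Subgroup (Equiv.Perm α)) {k : ℕ} (hk : k < Fintype.card α) (hgen : ∀ s : Finset α, s.card = k + 1 → ∀ σ : Equiv.Perm ↥s, ∃ g ∈ G, ∀ x : ↥s, g (x : α) = σ x) : MulAction.IsMultiplyPretransitive G α k ∧ ∀ s : Finset α, s.card = k → ∀ a b : α, a ∉ s → b ∉ s → (∃ g ∈ G, g • s = s ∧ g a = b) → ∃ g ∈ G, (∀ x ∈ s, g x = x) ∧ g a = b := by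
  classical
  have hsw : ∀ (x : Fin k ↪ α) (i : Fin k) (c : α), ∃ g ∈ G, ∀ j : Fin k, g (x j) = Equiv.swap (x i) c (x j) := by
    intro x i c
    obtain ⟨s, hs, hsc⟩ := Finset.exists_superset_card_eq (n := k + 1)
      (s := insert c (Finset.univ.map x))
      ((Finset.card_insert_le _ _).trans (by simp)) (by omega)
    have hmem : ∀ j, x j ∈ s := fun j => hs (Finset.mem_insert_of_mem (Finset.mem_map_of_mem _ (Finset.mem_univ j)))
    obtain ⟨g, hg, hgs⟩ := hgen s hsc
      (Equiv.swap ⟨x i, hmem i⟩ ⟨c, hs (Finset.mem_insert_self _ _)⟩)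
    refine ⟨g, hg, fun j => ?_⟩
    rw [hgs ⟨x j, hmem j⟩, Equiv.swap_apply_def, Equiv.swap_apply_def]
    simp only [Subtype.mk.injEq]
    split_ifs <;> rfl
  constructor
  · refine ⟨fun x y => ?_⟩
    suffices H : ∀ n, ∀ x : Fin k ↪ α, (Finset.univ.filter fun i => x i ≠ y i).card = n →
        ∃ g : G, g • x = y from H _ x rfl
    intro n
    induction n using Nat.strong_induction_on with
    | _ n ih =>
      intro x hx
      by_cases hall : ∀ i, x i = y i
      · exact ⟨1, by ext i; simp [hall i]⟩
      push Not at hall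
      obtain ⟨i, hi⟩ := hall
      obtain ⟨g, hg, hgx⟩ := hsw x i (y i)
      have hsm : ∀ j, ((⟨g, hg⟩ : G) • x) j = Equiv.swap (x i) (y i) (x j) := fun j => hgx j
      have hlt : (Finset.univ.filter fun j => ((⟨g, hg⟩ : G) • x) j ≠ y j).card < n := by
        rw [← hx]
        refine Finset.card_lt_card (Finset.ssubset_iff_of_subset ?_ |>.2 ⟨i, by simp [hi], by simp [hsm]⟩)
        intro j hj
        simp only [Finset.mem_filter, Finset.mem_univ, true_and, hsm] at hj ⊢
        intro hxy
        apply hj
        by_cases hji : j = i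
        · subst hji; simp
        rw [Equiv.swap_apply_of_ne_of_ne (fun h => hji (x.injective h)) (fun h => hji (y.injective (hxy.symm.trans h))), hxy]
      obtain ⟨g', hg'⟩ := ih _ hlt _ rfl
      exact ⟨g' * ⟨g, hg⟩, (mul_smul g' (⟨g, hg⟩ : G) x).trans hg'⟩
  · rintro s hs a b ha hb ⟨g, hg, hgs, hgab⟩
    have hgmem : ∀ x ∈ s, g x ∈ s := fun x hx => by
      have := Finset.smul_mem_smul_finset (a := g) hx
      rwa [hgs] at this
    have hgmem' : ∀ x ∈ s, g⁻¹ x ∈ s := fun x hx => by
      rw [← hgs] at hx
      obtain ⟨y, hy, rfl⟩ := Finset.mem_smul_finset.1 hx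
      simpa [Equiv.Perm.smul_def] using hy
    obtain ⟨g', hg', hgs'⟩ := hgen (insert b s) (by rw [Finset.card_insert_of_notMem hb, hs])
      { toFun := fun x => ⟨if (x : α) = b then b else g⁻¹ x, by
          split_ifs with h
          · exact Finset.mem_insert_self _ _
          · exact Finset.mem_insert_of_mem (hgmem' _ ((Finset.mem_insert.1 x.2).resolve_left h))⟩
        invFun := fun x => ⟨if (x : α) = b then b else g x, by
          split_ifs with h
          · exact Finset.mem_insert_self _ _
          · exact Finset.mem_insert_of_mem (hgmem _ ((Finset.mem_insert.1 x.2).resolve_left h))⟩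
        left_inv := fun x => by
          ext
          by_cases h : (x : α) = b
          · simp [h]
          · have : g⁻¹ (x : α) ≠ b := fun e => hb (e ▸ hgmem' _ ((Finset.mem_insert.1 x.2).resolve_left h))
            simp [h, this]
            intro e; exact absurd (by simpa using e) this
        right_inv := fun x => by
          ext
          by_cases h : (x : α) = b
          · simp [h]
          · have : g (x : α) ≠ b := fun e => hb (e ▸ hgmem _ ((Finset.mem_insert.1 x.2).resolve_left h))
            simp [h, this] }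
    refine ⟨g' * g, G.mul_mem hg' hg, fun x hx => ?_, ?_⟩
    · have h := hgs' ⟨g x, Finset.mem_insert_of_mem (hgmem x hx)⟩
      have hne : g x ≠ b := fun e => hb (e ▸ hgmem x hx)
      simp only [Equiv.coe_fn_mk, hne, if_false] at h
      rw [Equiv.Perm.mul_apply, h]; simp
    · rw [Equiv.Perm.mul_apply, hgab]
      have h := hgs' ⟨b, Finset.mem_insert_self _ _⟩
      simpa using h

end Cfsg.Agent.S0705
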