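import Cfsg.Statements.S0706
import Mathlib

set_option autoImplicit false
open Cfsg
open scoped Pointwise

namespace Cfsg.Agent.S0706

variable {α : Type*} [DecidableEq α]

/-- A permutation of a finite set containing a `k`-set and one more point is induced by the group. -/
theorem exists_induced {G : Subgroup (Equiv.Perm α)} {k : ℕ}
    (hgen : ∀ s : Finset α, s.card = k + 1 → ∀ σ : Equiv.Perm ↥s, ∃ g ∈ G, ∀ x : ↥s, g (x : α) = σ x)
    {Γ : Finset α} (hΓ : Γ.card = k) {a : α} (ha : a ∉ Γ) (σ : Equiv.Perm α)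
    (hσ : ∀ x ∈ insert a Γ, σ x ∈ insert a Γ) :
    ∃ g ∈ G, ∀ x ∈ insert a Γ, g x = σ x := by
  have hσ' : ∀ x, x ∈ insert a Γ ↔ σ x ∈ insert a Γ := fun x => by
    refine ⟨hσ x, fun h => ?_⟩
    have himg : (insert a Γ).image σ = insert a Γ :=
      Finset.eq_of_subset_of_card_le (Finset.image_subset_iff.2 hσ)
        (by rw [Finset.card_image_of_injective _ σ.injective])
    rw [← himg, Finset.mem_image] at h
    obtain ⟨y, hy, hyx⟩ := h
    rwa [← σ.injective hyx]
  obtain ⟨g, hg, hgσ⟩ := hgen (insert a Γ) (by rw [Finset.card_insert_of_notMem ha, hΓ])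
    (σ.subtypePerm fun x => (hσ' x).symm)
  exact ⟨g, hg, fun x hx => hgσ ⟨x, hx⟩⟩

/-- Transitivity on `k`-sets. -/
theorem exists_image_eq {G : Subgroup (Equiv.Perm α)} {k : ℕ}
    (hgen : ∀ s : Finset α, s.card = k + 1 → ∀ σ : Equiv.Perm ↥s, ∃ g ∈ G, ∀ x : ↥s, g (x : α) = σ x)
    (n : ℕ) : ∀ Γ Γ' : Finset α, Γ.card = k → Γ'.card = k → (Γ' \ Γ).card = n →
      ∃ g ∈ G, Γ.image g = Γ' := by
  induction n with
  | zero =>
    intro Γ Γ' h h' hn
    refine ⟨1, G.one_mem, ?_⟩
    rw [Equiv.Perm.coe_one, Finset.image_id]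
    exact (Finset.eq_of_subset_of_card_le (Finset.sdiff_eq_empty_iff_subset.1
      (Finset.card_eq_zero.1 hn)) (by omega)).symm
  | succ n ih =>
    intro Γ Γ' h h' hn
    obtain ⟨y, hy⟩ := Finset.card_pos.1 (show 0 < (Γ' \ Γ).card by omega)
    rw [Finset.mem_sdiff] at hy
    obtain ⟨x, hx⟩ := Finset.card_pos.1 (show 0 < (Γ \ Γ').card by
      rw [Finset.card_sdiff_comm (h.trans h'.symm)]; omega)
    rw [Finset.mem_sdiff] at hx
    obtain ⟨g, hg, hgσ⟩ := exists_induced hgen h hy.2 (Equiv.swap x y) (fun z hz => by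
      rcases eq_or_ne z x with rfl | hzx
      · rw [Equiv.swap_apply_left]; exact Finset.mem_insert_self _ _
      · rcases eq_or_ne z y with rfl | hzy
        · rw [Equiv.swap_apply_right]; exact Finset.mem_insert_of_mem hx.1
        · rwa [Equiv.swap_apply_of_ne_of_ne hzx hzy])
    have himg : Γ.image g = insert y (Γ.erase x) := by
      refine Finset.eq_of_subset_of_card_le (Finset.image_subset_iff.2 fun z hz => ?_) ?_
      · rw [hgσ z (Finset.mem_insert_of_mem hz)]
        rcases eq_or_ne z x with rfl | hzx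
        · rw [Equiv.swap_apply_left]; exact Finset.mem_insert_self _ _
        · rw [Equiv.swap_apply_of_ne_of_ne hzx (fun e : z = y => hy.2 (e ▸ hz))]
          exact Finset.mem_insert_of_mem (Finset.mem_erase.2 ⟨hzx, hz⟩)
      · rw [Finset.card_image_of_injective _ g.injective,
          Finset.card_insert_of_notMem (fun e => hy.2 (Finset.mem_of_mem_erase e)),
          Finset.card_erase_add_one hx.1]
    have hc : (insert y (Γ.erase x)).card = k := by
      rw [← himg, Finset.card_image_of_injective _ g.injective, h]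
    have hd : Γ' \ insert y (Γ.erase x) = (Γ' \ Γ).erase y := by
      ext z
      simp only [Finset.mem_sdiff, Finset.mem_insert, Finset.mem_erase]
      constructor
      · rintro ⟨hz, hn⟩
        exact ⟨fun e => hn (Or.inl e), hz, fun e => hn (Or.inr ⟨fun e' => hx.2 (e' ▸ hz), e⟩)⟩
      · rintro ⟨hzy, hz, hzΓ⟩
        exact ⟨hz, fun e => e.elim hzy fun e => hzΓ e.2⟩
    obtain ⟨g', hg', hgg⟩ := ih _ Γ' hc h' (by
      rw [hd, Finset.card_erase_of_mem (Finset.mem_sdiff.2 hy), hn, Nat.add_sub_cancel])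
    exact ⟨g' * g, G.mul_mem hg' hg, by rw [Equiv.Perm.coe_mul, ← Finset.image_image, himg, hgg]⟩

/-- In a generously `k`-transitive permutation group, for a prime `p ≤ k` and a `k`-set `Γ`, there are no `p` points outside `Γ` lying in distinct orbits of the pointwise stabiliser of `Γ` all of length prime to `p` (at most `p - 1` such orbits). -/
theorem result {α : Type*} [Fintype α] [DecidableEq α] (G : Subgroup (Equiv.Perm α)) {k : ℕ} (hk : k < Fintype.card α) (hgen : ∀ s : Finset α, s.card = k + 1 → ∀ σ : Equiv.Perm ↥s, ∃ g ∈ G, ∀ x : ↥s, g (x : α) = σ x) {p : ℕ} (hp : p.Prime) (hpk : p ≤ k) (Γ : Finset α) (hΓ : Γ.card = k) (f : Fin p → α) (hf : ∀ i, f i ∉ Γ) (hdist : ∀ i j, i ≠ j → f j ∉ MulAction.orbit (fixingSubgroup G (Γ : Set α)) (f i)) : ∃ i, p ∣ Nat.card (MulAction.orbit (fixingSubgroup G (Γ : Set α)) (f i)) := by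
  classical
  haveI : Fact p.Prime := ⟨hp⟩
  by_contra hcon
  simp only [not_exists] at hcon
  set H := fixingSubgroup G (Γ : Set α) with hH
  have hmem : ∀ g : G, g ∈ H ↔ ∀ x ∈ Γ, (g : Equiv.Perm α) x = x := fun g => by
    rw [hH, mem_fixingSubgroup_iff]; rfl
  -- a permutation of order `p` of `Γ`
  obtain ⟨δ, hδΓ, hδ⟩ := Finset.exists_subset_card_eq (hpk.trans hΓ.ge)
  let c : Equiv.Perm α := δ.toList.formPerm
  have hcp : c ^ p = 1 := by
    have := List.formPerm_pow_length_eq_one_of_nodup (l := δ.toList) δ.nodup_toList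
    rwa [Finset.length_toList, hδ] at this
  have hcout : ∀ x, x ∉ δ → c x = x := fun x hx =>
    List.formPerm_apply_of_notMem (by simpa using hx)
  have hcin : ∀ x ∈ δ, c x ∈ δ := fun x hx =>
    Finset.mem_toList.1 (List.formPerm_apply_mem_of_mem (Finset.mem_toList.2 hx))
  obtain ⟨x₀, hx₀, hcx₀⟩ : ∃ x ∈ δ, c x ≠ x := by
    by_contra h
    simp only [not_exists, not_and, not_not] at h
    have hc1 : c = 1 := Equiv.ext fun x => by
      by_cases hx : x ∈ δ
      · exact h x hx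
      · exact hcout x hx
    have := (List.formPerm_eq_one_iff _ δ.nodup_toList).1 hc1
    rw [Finset.length_toList, hδ] at this
    exact absurd this (not_le.2 hp.one_lt)
  have hcΓ : ∀ x ∈ Γ, c x ∈ Γ := fun x hx => by
    by_cases h : x ∈ δ
    · exact hδΓ (hcin x h)
    · rwa [hcout x h]
  have hlift : ∀ a, a ∉ Γ → ∃ g : G, (g : Equiv.Perm α) a = a ∧
      ∀ x ∈ Γ, (g : Equiv.Perm α) x = c x := by
    intro a ha
    have hca : c a = a := hcout a fun h => ha (hδΓ h)
    obtain ⟨g, hg, hgc⟩ := exists_induced hgen hΓ ha c (fun x hx => by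
      rcases Finset.mem_insert.1 hx with rfl | hx
      · rw [hca]; exact Finset.mem_insert_self _ _
      · exact Finset.mem_insert_of_mem (hcΓ x hx))
    exact ⟨⟨g, hg⟩, (hgc a (Finset.mem_insert_self _ _)).trans hca,
      fun x hx => hgc x (Finset.mem_insert_of_mem hx)⟩
  obtain ⟨g₀, -, hg₀⟩ := hlift _ (hf ⟨0, hp.pos⟩)
  -- elements preserving `Γ` normalise `H`
  have hconj : ∀ g : G, (∀ x ∈ Γ, (g : Equiv.Perm α) x = c x) → ∀ h ∈ H, g * h * g⁻¹ ∈ H := by
    intro g hg h hh
    rw [hmem]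
    intro x hx
    have himg : Γ.image c = Γ :=
      Finset.eq_of_subset_of_card_le (Finset.image_subset_iff.2 hcΓ)
        (by rw [Finset.card_image_of_injective _ c.injective])
    rw [← himg, Finset.mem_image] at hx
    obtain ⟨y, hy, rfl⟩ := hx
    rw [← hg y hy]
    change (g : Equiv.Perm α) ((h : Equiv.Perm α) ((g⁻¹ : G) • ((g : G) • y))) = (g : G) • y
    rw [inv_smul_smul, (hmem h).1 hh y hy]
    rfl
  let L : Subgroup G := H ⊔ Subgroup.zpowers g₀
  have hg₀L : g₀ ∈ L := Subgroup.mem_sup_right (Subgroup.mem_zpowers g₀)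
  have hHn : (H.subgroupOf L).Normal := by
    rw [Subgroup.normal_subgroupOf_iff_le_normalizer le_sup_left]
    exact sup_le Subgroup.le_normalizer
      (Subgroup.zpowers_le.2 (Subgroup.mem_normalizer_fintype (hconj g₀ hg₀)))
  have hg₀H : g₀ ∉ H := fun h => hcx₀ ((hg₀ x₀ (hδΓ hx₀)).symm.trans ((hmem g₀).1 h x₀ (hδΓ hx₀)))
  have hpow : ∀ n : ℕ, ∀ x ∈ Γ, ((g₀ ^ n : G) : Equiv.Perm α) x = (c ^ n) x := by
    intro n
    induction n with
    | zero => intro x _; rfl
    | succ n ih =>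
      intro x hx
      rw [pow_succ, pow_succ, Subgroup.coe_mul, Equiv.Perm.mul_apply, Equiv.Perm.mul_apply,
        hg₀ x hx, ih (c x) (hcΓ x hx)]
  have hg₀p : g₀ ^ p ∈ H := (hmem _).2 fun x hx => by rw [hpow p x hx, hcp]; rfl
  have hpdvd : p ∣ (H.subgroupOf L).index := by
    haveI := hHn
    let q : L ⧸ H.subgroupOf L := QuotientGroup.mk' (H.subgroupOf L) ⟨g₀, hg₀L⟩
    have hq1 : q ≠ 1 := fun h =>
      hg₀H ((QuotientGroup.eq_one_iff (N := H.subgroupOf L) ⟨g₀, hg₀L⟩).1 h)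
    have hqp : q ^ p = 1 := by
      change QuotientGroup.mk' _ _ ^ p = 1
      rw [← map_pow, ← MonoidHom.mem_ker, QuotientGroup.ker_mk', Subgroup.mem_subgroupOf]
      exact hg₀p
    rw [Subgroup.index_eq_card, ← orderOf_eq_prime hqp hq1]
    exact orderOf_dvd_natCard q
  have hcardL : p * Nat.card H ∣ Nat.card L := by
    have h1 := (H.subgroupOf L).index_mul_card
    rw [Nat.card_congr (Subgroup.subgroupOfEquivOfLe (le_sup_left : H ≤ L)).toEquiv] at h1
    rw [← h1]
    exact Nat.mul_dvd_mul_right hpdvd _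
  obtain ⟨R⟩ : Nonempty (Sylow p L) := inferInstance
  let R' : Subgroup G := (R : Subgroup L).map L.subtype
  have hR'p : IsPGroup p R' := R.2.map _
  have hRL : R' ≤ L := Subgroup.map_subtype_le _
  -- each chosen orbit is invariant under `L`
  have hinv : ∀ i, ∀ g ∈ L, ∀ y ∈ MulAction.orbit H (f i), g • y ∈ MulAction.orbit H (f i) := by
    intro i
    obtain ⟨gi, hgi, hgic⟩ := hlift (f i) (hf i)
    have hst : L ≤ MulAction.stabilizer G (MulAction.orbit H (f i)) := by
      refine sup_le (fun h hh => ?_) (Subgroup.zpowers_le.2 ?_)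
      · rw [MulAction.mem_stabilizer_set' (Set.toFinite _)]
        rintro _ ⟨u, rfl⟩
        exact ⟨⟨h, hh⟩ * u, mul_smul (⟨h, hh⟩ : H) u (f i)⟩
      · rw [MulAction.mem_stabilizer_set' (Set.toFinite _)]
        rintro _ ⟨u, rfl⟩
        have hd : gi⁻¹ * g₀ ∈ H := (hmem _).2 fun x hx => by
          change (gi⁻¹ : G) • (g₀ • x) = x
          rw [inv_smul_eq_iff]
          exact (hg₀ x hx).trans (hgic x hx).symm
        refine ⟨⟨_, hconj gi hgic _ hd⟩ * ⟨_, hconj gi hgic _ u.2⟩, ?_⟩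
        change (gi * (gi⁻¹ * g₀) * gi⁻¹ * (gi * (u : G) * gi⁻¹)) • (f i) = g₀ • ((u : G) • f i)
        have hfi : gi⁻¹ • f i = f i := inv_smul_eq_iff.2 (hgi.symm : f i = gi • f i)
        have e : gi * (gi⁻¹ * g₀) * gi⁻¹ * (gi * (u : G) * gi⁻¹) = g₀ * (u : G) * gi⁻¹ := by group
        rw [e, mul_smul, hfi, mul_smul]
    intro g hg y hy
    rw [← MulAction.mem_stabilizer_iff.1 (hst hg)]
    exact Set.smul_mem_smul_set hy
  -- fixed points of `R'`
  have hfix : ∀ i, ∃ y ∈ MulAction.orbit H (f i), ∀ r ∈ R', r • y = y := by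
    intro i
    let O : SubMulAction R' α :=
      ⟨MulAction.orbit H (f i), fun r y hy => hinv i r.1 (hRL r.2) y hy⟩
    have hnd : ¬ p ∣ Nat.card O := hcon i
    obtain ⟨⟨y, hy⟩, hyf⟩ := hR'p.nonempty_fixed_point_of_prime_not_dvd_card O hnd
    exact ⟨y, hy, fun r hr => congrArg Subtype.val (hyf ⟨r, hr⟩)⟩
  choose y hy hyR using hfix
  have hyinj : Function.Injective y := fun i j h => by
    by_contra hij
    refine hdist i j hij ?_
    rw [← MulAction.orbit_eq_iff.2 (hy i), h, MulAction.orbit_eq_iff.2 (hy j)]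
    exact MulAction.mem_orbit_self _
  have hyΓ : ∀ i, y i ∉ Γ := fun i hi => by
    obtain ⟨u, hu⟩ := hy i
    apply hf i
    have h1 : (u : G) • y i = (u : G) • f i → y i = f i := smul_left_cancel _
    rwa [← h1 (((hmem u).1 u.2 (y i) hi).trans hu.symm)]
  let Γ' : Finset α := (Γ \ δ) ∪ Finset.univ.image y
  have hΓ' : Γ'.card = k := by
    rw [Finset.card_union_of_disjoint, Finset.card_image_of_injective _ hyinj,
      Finset.card_sdiff_of_subset hδΓ, hΓ, hδ, Finset.card_univ, Fintype.card_fin]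
    · omega
    · rw [Finset.disjoint_left]
      rintro x hx hx'
      obtain ⟨i, -, rfl⟩ := Finset.mem_image.1 hx'
      exact hyΓ i (Finset.mem_sdiff.1 hx).1
  have hLfix : ∀ g ∈ L, ∀ x ∈ Γ \ δ, g • x = x := by
    intro g hg x hx
    rw [Finset.mem_sdiff] at hx
    have : L ≤ MulAction.stabilizer G x := sup_le (fun h hh => (hmem h).1 hh x hx.1)
      (Subgroup.zpowers_le.2 ((hg₀ x hx.1).trans (hcout x hx.2)))
    exact this hg
  obtain ⟨g, hg, hgΓ⟩ := exists_image_eq hgen _ Γ Γ' hΓ hΓ' rfl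
  have hR'H : R'.map (MulAut.conj (⟨g, hg⟩ : G)⁻¹).toMonoidHom ≤ H := by
    rintro _ ⟨r, hr, rfl⟩
    rw [hmem]
    intro x hx
    have hgx : g x ∈ Γ' := hgΓ ▸ Finset.mem_image_of_mem g hx
    have hrx : r • g x = g x := by
      rcases Finset.mem_union.1 hgx with h | h
      · exact hLfix r (hRL hr) _ h
      · obtain ⟨i, -, hi⟩ := Finset.mem_image.1 h
        rw [← hi]; exact hyR i r hr
    change ((⟨g, hg⟩ : G)⁻¹ * r * (⟨g, hg⟩ : G)⁻¹⁻¹) • x = x
    rw [inv_inv, mul_smul, mul_smul, inv_smul_eq_iff]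
    exact hrx
  have hdvd : Nat.card R' ∣ Nat.card H := by
    rw [← Subgroup.card_map_of_injective (f := (MulAut.conj (⟨g, hg⟩ : G)⁻¹).toMonoidHom)
      (MulAut.conj (⟨g, hg⟩ : G)⁻¹).injective]
    exact Subgroup.card_dvd_of_le hR'H
  rw [Subgroup.card_map_of_injective L.subtype_injective, R.card_eq_multiplicity,
    hp.pow_dvd_iff_le_factorization Nat.card_pos.ne'] at hdvd
  have := (Nat.factorization_le_iff_dvd (mul_ne_zero hp.ne_zero Nat.card_pos.ne')
    Nat.card_pos.ne').2 hcardL p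
  rw [Nat.factorization_mul hp.ne_zero Nat.card_pos.ne', Finsupp.add_apply,
    hp.factorization_self] at this
  omega

end Cfsg.Agent.S0706
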