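import Cfsg.Statements.S0707
import Cfsg.Agent.Lib.Perm.Basic
-- import your own Cfsg.Agent.* helpers here

set_option autoImplicit false
open Cfsg

namespace Cfsg.Agent.S0707

/-- In a primitive permutation group, distinct points have distinct stabilisers unless the group is regular of prime degree. -/
theorem result {α : Type*} (G : Subgroup (Equiv.Perm α)) [MulAction.IsPreprimitive G α] (h : ¬ (Nat.card α).Prime ∨ ∃ a : α, MulAction.stabilizer G a ≠ ⊥) {a b : α} (hab : a ≠ b) : MulAction.stabilizer G a ≠ MulAction.stabilizer G b := by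
  intro heq
  haveI : Nontrivial α := ⟨a, b, hab⟩
  have hr : ∀ x : α, MulAction.stabilizer G x = MulAction.stabilizer G a := fun x =>
    (Perm.equivalence_trivial (G := G)
      (r := fun x y : α => MulAction.stabilizer G x = MulAction.stabilizer G y)
      ⟨fun _ => rfl, fun h => h.symm, fun h k => h.trans k⟩
      (fun g x y hxy => by
        rw [MulAction.stabilizer_smul_eq_stabilizer_map_conj,
          MulAction.stabilizer_smul_eq_stabilizer_map_conj, hxy]) heq hab x).symm
  have hbot : ∀ x : α, MulAction.stabilizer G x = ⊥ := by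
    intro x
    rw [hr x, Subgroup.eq_bot_iff_forall]
    intro g hg
    refine Perm.eq_one_of_forall_smul_eq fun y : α => ?_
    rw [← MulAction.mem_stabilizer_iff, hr y]; exact hg
  rcases h with h | ⟨c, hc⟩
  · apply h
    have hco := MulAction.IsPreprimitive.isCoatom_stabilizer_of_isPreprimitive (G := G) a
    rw [hbot a] at hco
    have hbij : Function.Bijective fun g : G => g • a := by
      refine ⟨fun g k hgk => ?_, fun y => MulAction.exists_smul_eq G a y⟩
      have : k⁻¹ * g ∈ MulAction.stabilizer G a := by
        rw [MulAction.mem_stabilizer_iff, mul_smul, inv_smul_eq_iff]; exact hgk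
      rw [hbot a, Subgroup.mem_bot, inv_mul_eq_one] at this
      exact this.symm
    rw [← Nat.card_congr (Equiv.ofBijective _ hbij)]
    haveI : Nontrivial G := (Equiv.ofBijective _ hbij).nontrivial
    obtain ⟨g, hg⟩ := exists_ne (1 : G)
    have hz : ∀ g : G, g ≠ 1 → Subgroup.zpowers g = ⊤ := fun g hg =>
      hco.2 _ (bot_lt_iff_ne_bot.2 (Subgroup.zpowers_ne_bot.2 hg))
    letI : CommGroup G :=
      { (inferInstance : Group G) with
        mul_comm := fun x y => by
          obtain ⟨i, rfl⟩ := Subgroup.mem_zpowers_iff.1 (hz g hg ▸ Subgroup.mem_top x)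
          obtain ⟨j, rfl⟩ := Subgroup.mem_zpowers_iff.1 (hz g hg ▸ Subgroup.mem_top y)
          exact zpow_mul_comm g i j }
    haveI : IsSimpleGroup G :=
      ⟨fun H _ => or_iff_not_imp_left.2 fun hH => hco.2 H (bot_lt_iff_ne_bot.2 hH)⟩
    exact IsSimpleGroup.prime_card
  · exact hc (hbot c)

end Cfsg.Agent.S0707
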