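import Cfsg.Statements.S0708
import Cfsg.Agent.Lib.Perm.SharplyFour

set_option autoImplicit false
open Cfsg
open MulAction

namespace Cfsg.Agent.S0708

/-- Tits' argument: a sharply 4-transitive group (no finiteness assumed) has finite degree at most 11, and at most 6 when the degree is even. -/
theorem result {G : Type*} [Group G] {Ω : Type*} [MulAction G Ω] (h4 : MulAction.IsMultiplyPretransitive G Ω 4) (hsharp : ∀ x : Fin 4 ↪ Ω, MulAction.stabilizer G x = ⊥) (hne : Nonempty (Fin 4 ↪ Ω)) : Finite Ω ∧ Nat.card Ω ≤ 11 ∧ (Even (Nat.card Ω) → Nat.card Ω ≤ 6) := by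
  classical
  suffices hfin : Finite Ω by
    haveI := hfin
    obtain ⟨x⟩ := hne
    have hn : 4 ≤ Nat.card Ω := by
      rw [← Nat.card_fin 4]; exact Nat.card_le_card_of_injective x x.injective
    have := Perm.card_of_sharply_four hn h4 hsharp
    exact ⟨hfin, by omega, fun ⟨m, hm⟩ => by omega⟩
  obtain ⟨x⟩ := hne
  have hne' : ∀ i j, i ≠ j → x i ≠ x j := fun i j h => x.injective.ne h
  have four : ∀ {g : G} {a b c d : Ω}, a ≠ b → a ≠ c → a ≠ d → b ≠ c → b ≠ d → c ≠ d →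
      g • a = a → g • b = b → g • c = c → g • d = d → g = 1 := by
    intro g a b c d hab hac had hbc hbd hcd ha hb hc hd
    let y : Fin 4 ↪ Ω := ⟨![a, b, c, d], by
      intro i j
      fin_cases i <;> fin_cases j <;>
        simp [hab, hac, had, hbc, hbd, hcd, hab.symm, hac.symm, had.symm, hbc.symm, hbd.symm,
          hcd.symm]⟩
    have h : g ∈ stabilizer G y := Function.Embedding.ext fun i => by
      fin_cases i <;> assumption
    rwa [hsharp y, Subgroup.mem_bot] at h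
  -- an involution fixing two points
  obtain ⟨t, ta, tb, tc, td⟩ := Perm.exists_smul_eq_four h4 (hne' 0 1 (by decide))
    (hne' 0 2 (by decide)) (hne' 0 3 (by decide)) (hne' 1 2 (by decide)) (hne' 1 3 (by decide))
    (hne' 2 3 (by decide)) (hne' 0 1 (by decide)) (hne' 0 3 (by decide)) (hne' 0 2 (by decide))
    (hne' 1 3 (by decide)) (hne' 1 2 (by decide)) (hne' 3 2 (by decide))
  have ht2 : ∀ u : Ω, t • t • u = u := fun u => by
    have := four (g := t * t) (hne' 0 1 (by decide)) (hne' 0 2 (by decide)) (hne' 0 3 (by decide))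
      (hne' 1 2 (by decide)) (hne' 1 3 (by decide)) (hne' 2 3 (by decide))
      (by rw [mul_smul, ta, ta]) (by rw [mul_smul, tb, tb]) (by rw [mul_smul, tc, td])
      (by rw [mul_smul, td, tc])
    rw [smul_smul, this, one_smul]
  have ht1 : t ≠ 1 := fun e => hne' 2 3 (by decide) (by rw [← tc, e, one_smul])
  -- fixed points
  have hF : Finite {u : Ω // t • u = u} := by
    by_contra hinf
    rw [not_finite_iff_infinite] at hinf
    haveI := hinf
    let e := Infinite.natEmbedding {u : Ω // t • u = u}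
    have hne2 : ∀ i j : ℕ, i ≠ j → (e i : Ω) ≠ e j := fun i j h h' =>
      h (e.injective (Subtype.ext h'))
    exact ht1 (four (hne2 0 1 (by decide)) (hne2 0 2 (by decide)) (hne2 0 3 (by decide))
      (hne2 1 2 (by decide)) (hne2 1 3 (by decide)) (hne2 2 3 (by decide))
      (e 0).2 (e 1).2 (e 2).2 (e 3).2)
  set c := x 2
  have hc : t • c ≠ c := fun h => hne' 2 3 (by decide) (h.symm.trans tc)
  -- moved points outside `{c, t • c}` embed into the permutations of the fixed points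
  suffices hM : Finite {u : Ω // t • u ≠ u ∧ u ≠ c ∧ u ≠ t • c} by
    haveI := hF
    refine Finite.of_surjective (α := {u : Ω // t • u = u} ⊕ {u : Ω // t • u ≠ u ∧ u ≠ c ∧ u ≠ t • c} ⊕ Bool)
      (Sum.elim Subtype.val (Sum.elim Subtype.val fun b => if b then c else t • c)) fun u => ?_
    by_cases h1 : t • u = u
    · exact ⟨Sum.inl ⟨u, h1⟩, rfl⟩
    by_cases h2 : u = c
    · exact ⟨Sum.inr (Sum.inr true), h2.symm⟩
    by_cases h3 : u = t • c
    · exact ⟨Sum.inr (Sum.inr false), h3.symm⟩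
    exact ⟨Sum.inr (Sum.inl ⟨u, h1, h2, h3⟩), rfl⟩
  rcases isEmpty_or_nonempty {u : Ω // t • u ≠ u ∧ u ≠ c ∧ u ≠ t • c} with h | ⟨d₀, hd₀⟩
  · infer_instance
  have hq : ∀ d, (t • d ≠ d ∧ d ≠ c ∧ d ≠ t • c) →
      c ≠ t • c ∧ c ≠ d ∧ c ≠ t • d ∧ t • c ≠ d ∧ t • c ≠ t • d ∧ d ≠ t • d := by
    rintro d ⟨h1, h2, h3⟩
    exact ⟨hc.symm, h2.symm, fun e => h3 (by rw [e, ht2]), h3.symm,
      fun e => h2 (smul_left_cancel t e).symm, h1.symm⟩
  have hgd : ∀ d, (t • d ≠ d ∧ d ≠ c ∧ d ≠ t • c) →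
      ∃ g : G, g • c = c ∧ g • t • c = t • c ∧ g • d₀ = d ∧ g * t = t * g := by
    intro d hd
    obtain ⟨h1, h2, h3, h4', h5, h6⟩ := hq d₀ hd₀
    obtain ⟨k1, k2, k3, k4, k5, k6⟩ := hq d hd
    obtain ⟨g, g1, g2, g3, g4⟩ := Perm.exists_smul_eq_four h4 h1 h2 h3 h4' h5 h6 k1 k2 k3 k4 k5 k6
    refine ⟨g, g1, g2, g3, ?_⟩
    have hw : t⁻¹ * (g * t * g⁻¹) = 1 := by
      refine four k1 k2 k3 k4 k5 k6 ?_ ?_ ?_ ?_ <;>
        rw [mul_smul, mul_smul, mul_smul, inv_smul_eq_iff]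
      · rw [show g⁻¹ • c = c from inv_smul_eq_iff.2 g1.symm]; exact g2
      · rw [show g⁻¹ • t • c = t • c from inv_smul_eq_iff.2 g2.symm, ht2]; simpa [ht2] using g1
      · rw [show g⁻¹ • d = d₀ from inv_smul_eq_iff.2 g3.symm]; exact g4
      · rw [show g⁻¹ • t • d = t • d₀ from inv_smul_eq_iff.2 g4.symm, ht2]; simpa [ht2] using g3
    exact mul_inv_eq_iff_eq_mul.1 (inv_mul_eq_one.1 hw).symm
  choose g hgc hgtc hgd hgt using hgd
  have hgF : ∀ d hd, ∀ u : Ω, t • u = u ↔ t • g d hd • u = g d hd • u := by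
    intro d hd u
    rw [smul_smul t, ← hgt d hd, mul_smul]
    exact ⟨fun h => by rw [h], fun h => smul_left_cancel _ h⟩
  haveI := hF
  refine Finite.of_injective
    (fun d : {u : Ω // t • u ≠ u ∧ u ≠ c ∧ u ≠ t • c} =>
      (toPermHom G Ω (g d.1 d.2)).subtypePerm
      (p := fun u : Ω => t • u = u) fun u => (hgF d.1 d.2 u).symm) fun d d' h => Subtype.ext ?_
  have hag : ∀ u : Ω, t • u = u → g d.1 d.2 • u = g d'.1 d'.2 • u := fun u hu =>
    congrArg Subtype.val (Equiv.ext_iff.1 h ⟨u, hu⟩)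
  have hfix : ∀ u : Ω, g d.1 d.2 • u = g d'.1 d'.2 • u → ((g d'.1 d'.2)⁻¹ * g d.1 d.2) • u = u :=
    fun u hu => by rw [mul_smul, inv_smul_eq_iff]; exact hu
  have := four (hne' 0 1 (by decide)) (hne' 0 2 (by decide))
    (fun e => by rw [e, ht2] at ta; exact hc ta.symm)
    (hne' 1 2 (by decide)) (fun e => by rw [e, ht2] at tb; exact hc tb.symm) hc.symm
    (hfix _ (hag _ ta)) (hfix _ (hag _ tb)) (hfix _ ((hgc _ _).trans (hgc _ _).symm))
    (hfix _ ((hgtc _ _).trans (hgtc _ _).symm))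
  rw [← hgd d.1 d.2, ← hgd d'.1 d'.2, inv_mul_eq_one.1 this]

end Cfsg.Agent.S0708
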