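import Cfsg.Statements.S0709
import Cfsg.Agent.Lib.Perm.Extension
-- import your own Cfsg.Agent.* helpers here

set_option autoImplicit false
open Cfsg

namespace Cfsg.Agent.S0709

section

variable {α : Type*} [Fintype α]

theorem result_aux (t : ℕ) (ht : 2 ≤ t) (q : ℕ → α)
    (hq : ∀ i j : ℕ, 1 ≤ i → i ≤ t → 1 ≤ j → j ≤ t → q i = q j → i = j)
    (G : Subgroup (Equiv.Perm α)) (hfix : ∀ g ∈ G, ∀ i : ℕ, 3 ≤ i → i ≤ t → g (q i) = q i)
    (h2 : ∀ a b c d : α, (∀ i, 3 ≤ i → i ≤ t → a ≠ q i ∧ b ≠ q i ∧ c ≠ q i ∧ d ≠ q i) →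
      a ≠ b → c ≠ d → ∃ g ∈ G, g a = c ∧ g b = d)
    (s : ℕ → Equiv.Perm α) (hs1 : s 1 ∈ G) (hs1q : s 1 (q 1) = q 2 ∧ s 1 (q 2) = q 1)
    (hsq : ∀ i : ℕ, 2 ≤ i → i + 1 ≤ t → s i (q i) = q (i + 1) ∧ s i (q (i + 1)) = q i ∧
      ∀ j : ℕ, 1 ≤ j → j ≤ t → j ≠ i → j ≠ i + 1 → s i (q j) = q j)
    (H : Subgroup (Equiv.Perm α))
    (hH : H = G ⊓ MulAction.stabilizer (Equiv.Perm α) (q 1) ⊓
      MulAction.stabilizer (Equiv.Perm α) (q 2))
    (hsq2 : ∀ i : ℕ, 1 ≤ i → i + 1 ≤ t → s i ^ 2 ∈ H)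
    (hbraid : ∀ i : ℕ, 1 ≤ i → i + 2 ≤ t → (s i * s (i + 1)) ^ 3 ∈ H)
    (hcomm : ∀ i j : ℕ, 1 ≤ i → i + 2 ≤ j → j + 1 ≤ t →
      (s i * s j) ^ 2 ∈ H ∧ (s j * s i) ^ 2 ∈ H)
    (hnorm : ∀ i : ℕ, 2 ≤ i → i + 1 ≤ t →
      ∀ g ∈ G ⊓ MulAction.stabilizer (Equiv.Perm α) (q 2),
        s i * g * (s i)⁻¹ ∈ G ⊓ MulAction.stabilizer (Equiv.Perm α) (q 2)) :
    MulAction.IsMultiplyPretransitive ↥(Subgroup.closure ((G : Set (Equiv.Perm α)) ∪
        {x | ∃ i : ℕ, 2 ≤ i ∧ i + 1 ≤ t ∧ x = s i})) α t ∧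
      Subgroup.closure ((G : Set (Equiv.Perm α)) ∪
        {x | ∃ i : ℕ, 2 ≤ i ∧ i + 1 ≤ t ∧ x = s i}) ⊓
        fixingSubgroup (Equiv.Perm α) {x | ∃ i : ℕ, 1 ≤ i ∧ i ≤ t ∧ x = q i} = H := by
  set B := G ⊓ MulAction.stabilizer (Equiv.Perm α) (q 2) with hB
  let L : ℕ → Subgroup (Equiv.Perm α) := fun i =>
    Subgroup.closure ((G : Set (Equiv.Perm α)) ∪ {x | ∃ k : ℕ, 2 ≤ k ∧ k + 1 ≤ i ∧ x = s k})
  let M : ℕ → Subgroup (Equiv.Perm α) := fun i => if i ≤ 2 then B else L (i - 1)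
  have hGL : ∀ i, G ≤ L i := fun i g hg => Subgroup.subset_closure (Or.inl hg)
  have hsL : ∀ i k, 2 ≤ k → k + 1 ≤ i → s k ∈ L i := fun i k h1 h2 =>
    Subgroup.subset_closure (Or.inr ⟨k, h1, h2, rfl⟩)
  have hHB : H ≤ B := by rw [hH]; exact fun g hg => ⟨hg.1.1, hg.2⟩
  have hHG : H ≤ G := hHB.trans inf_le_left
  have hmono : ∀ i j, i ≤ j → L i ≤ L j := fun i j hij => Subgroup.closure_mono
    (Set.union_subset_union_right _ (fun x ⟨k, h1, h2, h3⟩ => ⟨k, h1, h2.trans hij, h3⟩))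
  have hsinv : ∀ i, 1 ≤ i → i + 1 ≤ t → (s i)⁻¹ = (s i * s i)⁻¹ * s i := fun i _ _ => by group
  -- decomposition of `G`
  have hdecG : ∀ g ∈ G, g ∈ B ∨ ∃ a ∈ B, ∃ b ∈ B, g = a * s 1 * b := by
    intro g hg
    by_cases hg2 : g (q 2) = q 2
    · exact Or.inl ⟨hg, hg2⟩
    have h12 : q 1 ≠ q 2 := fun e => by have := hq 1 2 le_rfl (by omega) (by omega) ht e; omega
    obtain ⟨b, hb, hb2, hbg⟩ := h2 (q 2) (g (q 2)) (q 2) (q 1) (fun i hi hit => by
      have e2 : q 2 ≠ q i := fun e => by have := hq 2 i (by omega) ht (by omega) hit e; omega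
      refine ⟨e2, fun e => e2 (g.injective ?_), e2, fun e => ?_⟩
      · rw [e, hfix g hg i hi hit]
      · have := hq 1 i le_rfl (by omega) (by omega) hit e; omega) (Ne.symm hg2) h12.symm
    refine Or.inr ⟨b⁻¹, B.inv_mem ⟨hb, hb2⟩, (s 1)⁻¹ * b * g,
      ⟨G.mul_mem (G.mul_mem (G.inv_mem hs1) hb) hg, ?_⟩, by group⟩
    show ((s 1)⁻¹ * b * g) (q 2) = q 2
    rw [Equiv.Perm.mul_apply, Equiv.Perm.mul_apply, hbg, Equiv.Perm.inv_eq_iff_eq, hs1q.2]
  -- `s i` normalises `M i`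
  have hnormL : ∀ i, 2 ≤ i → i + 1 ≤ t → ∀ g ∈ M i, s i * g * (s i)⁻¹ ∈ M i := by
    intro i hi hit g hg
    by_cases hi2 : i ≤ 2
    · simp only [M, hi2, if_true] at hg ⊢
      exact hnorm i hi hit g hg
    · simp only [M, hi2, if_false] at hg ⊢
      have hgen : ∀ k, 1 ≤ k → k + 2 ≤ i → s i * s k * (s i)⁻¹ ∈ L (i - 1) := by
        intro k hk hki
        have h1 := (hcomm k i hk hki hit).1
        have hsk : s k ∈ L (i - 1) := by
          rcases Nat.lt_or_ge k 2 with h | h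
          · rw [show k = 1 by omega]; exact hGL _ hs1
          · exact hsL _ k h (by omega)
        have heq : s i * s k * (s i)⁻¹ = (s k)⁻¹ * ((s k * s i) ^ 2) * (s i ^ 2)⁻¹ := by
          rw [pow_two, pow_two]; group
        rw [heq]
        exact Subgroup.mul_mem _ (Subgroup.mul_mem _ (Subgroup.inv_mem _ hsk) (hGL _ (hHG h1)))
          (Subgroup.inv_mem _ (hGL _ (hHG (hsq2 i (by omega) hit))))
      induction hg using Subgroup.closure_induction with
      | mem x hx =>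
        rcases hx with hx | ⟨k, hk, hki, rfl⟩
        · rcases hdecG x hx with h | ⟨a, ha, b, hb, rfl⟩
          · exact hGL _ (hnorm i hi hit x h).1
          · have := Subgroup.mul_mem _ (Subgroup.mul_mem _ (hGL (i - 1) (hnorm i hi hit a ha).1)
              (hgen 1 le_rfl (by omega))) (hGL (i - 1) (hnorm i hi hit b hb).1)
            rwa [show s i * a * (s i)⁻¹ * (s i * s 1 * (s i)⁻¹) * (s i * b * (s i)⁻¹) =
              s i * (a * s 1 * b) * (s i)⁻¹ by group] at this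
        · exact hgen k (by omega) (by omega)
      | one => simp
      | mul x y _ _ ihx ihy =>
        have := Subgroup.mul_mem _ ihx ihy
        rwa [show s i * x * (s i)⁻¹ * (s i * y * (s i)⁻¹) = s i * (x * y) * (s i)⁻¹ by group]
          at this
      | inv x _ ih =>
        have := Subgroup.inv_mem _ ih
        rwa [show (s i * x * (s i)⁻¹)⁻¹ = s i * x⁻¹ * (s i)⁻¹ by group] at this
  have key : ∀ i, 2 ≤ i → i ≤ t →
      (∀ g ∈ L i, ∀ j, i < j → j ≤ t → g (q j) = q j) ∧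
      (∀ z w : α, (∀ j, i < j → j ≤ t → z ≠ q j ∧ w ≠ q j) → ∃ g ∈ L i, g z = w) ∧
      (∀ x y : Fin i → α, Function.Injective x → Function.Injective y →
        (∀ a j, i < j → j ≤ t → x a ≠ q j ∧ y a ≠ q j) → ∃ g ∈ L i, ∀ a, g (x a) = y a) ∧
      (∀ g ∈ L i, (∀ j, 1 ≤ j → j ≤ i → g (q j) = q j) → g ∈ H) ∧
      M i ≤ L i ∧
      (∀ g ∈ L i, g ∈ M i ∨ ∃ a ∈ M i, ∃ b ∈ M i, g = a * s (i - 1) * b) := by
    intro i hi
    induction i, hi using Nat.le_induction with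
    | base =>
      intro _
      have hL2 : L 2 = G := by
        refine le_antisymm ((Subgroup.closure_le G).2 ?_) (hGL 2)
        rintro x (hx | ⟨k, h1, h3, -⟩)
        · exact hx
        · omega
      refine ⟨?_, ?_, ?_, ?_, ?_, ?_⟩
      · rw [hL2]; exact fun g hg j hj hjt => hfix g hg j (by omega) hjt
      · intro z w hzw
        have h12 : q 1 ≠ q 2 := fun e => by have := hq 1 2 le_rfl (by omega) (by omega) ht e; omega
        have hother : ∀ z : α, ∃ b, (b = q 1 ∨ b = q 2) ∧ b ≠ z := fun z => by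
          by_cases h : z = q 1
          · exact ⟨q 2, Or.inr rfl, fun e => h12 (h.symm.trans e.symm)⟩
          · exact ⟨q 1, Or.inl rfl, Ne.symm h⟩
        obtain ⟨b, hb, hbz⟩ := hother z
        obtain ⟨d, hd, hdw⟩ := hother w
        have hq12 : ∀ c, (c = q 1 ∨ c = q 2) → ∀ i, 3 ≤ i → i ≤ t → c ≠ q i := by
          rintro c (rfl | rfl) i hi hit e
          · have := hq 1 i le_rfl (by omega) (by omega) hit e; omega
          · have := hq 2 i (by omega) ht (by omega) hit e; omega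
        obtain ⟨g, hg, hgz, -⟩ := h2 z b w d (fun i hi hit =>
          ⟨(hzw i (by omega) hit).1, hq12 b hb i hi hit, (hzw i (by omega) hit).2,
            hq12 d hd i hi hit⟩) (Ne.symm hbz) (Ne.symm hdw)
        exact ⟨g, hGL 2 hg, hgz⟩
      · intro x y hx hy hav
        obtain ⟨g, hg, h0, h1⟩ := h2 (x 0) (x 1) (y 0) (y 1) (fun j hj hjt =>
          ⟨(hav 0 j (by omega) hjt).1, (hav 1 j (by omega) hjt).1, (hav 0 j (by omega) hjt).2,
            (hav 1 j (by omega) hjt).2⟩) (hx.ne (by decide)) (hy.ne (by decide))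
        refine ⟨g, hGL 2 hg, fun a => ?_⟩
        fin_cases a <;> assumption
      · intro g hg hgf
        rw [hL2] at hg
        rw [hH]
        exact ⟨⟨hg, hgf 1 le_rfl (by omega)⟩, hgf 2 (by omega) le_rfl⟩
      · simp only [M, le_refl, if_true]
        exact fun g hg => hGL 2 hg.1
      · simp only [M, le_refl, if_true]
        rw [hL2]
        exact hdecG
    | succ i hi ih =>
      intro hit
      obtain ⟨hfx, htr1, htr, hst, hML, hdec⟩ := ih (by omega)
      have hss : s i * s i ∈ L i := by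
        rw [← pow_two]; exact hGL _ (hHG (hsq2 i (by omega) hit))
      have hUeq : ∀ g ∈ L (i + 1), g ∈ L i ∨ ∃ a ∈ L i, ∃ b ∈ L i, g = a * s i * b := by
        intro g hg
        refine Perm.closure_insert_eq_union (L i) (s i) hss ?_ ?_
        · -- the closure condition
          intro x hx
          have hconj : ∀ a ∈ M i, s i * a * (s i)⁻¹ ∈ L i := fun a ha =>
            hML (hnormL i hi hit a ha)
          have hconj' : ∀ a ∈ M i, (s i)⁻¹ * a * s i ∈ L i := fun a ha => by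
            have := Subgroup.mul_mem _ (Subgroup.mul_mem _ (Subgroup.inv_mem _ hss) (hconj a ha)) hss
            rwa [show (s i * s i)⁻¹ * (s i * a * (s i)⁻¹) * (s i * s i) = (s i)⁻¹ * a * s i by group]
              at this
          rcases hdec x hx with h | ⟨a, ha, b, hb, rfl⟩
          · left
            have := Subgroup.mul_mem _ (hconj x h) hss
            rwa [show s i * x * (s i)⁻¹ * (s i * s i) = s i * x * s i by group] at this
          · right
            have hbr := hGL i (hHG (hbraid (i - 1) (by omega) (by omega)))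
            rw [show i - 1 + 1 = i by omega] at hbr
            have hsp : s (i - 1) ∈ L i := by
              rcases Nat.lt_or_ge (i - 1) 2 with h | h
              · rw [show i - 1 = 1 by omega]; exact hGL _ hs1
              · exact hsL _ (i - 1) h (by omega)
            refine ⟨s i * a * (s i)⁻¹ *
                ((s (i - 1))⁻¹ * (s (i - 1) * s i) ^ 3 * (s i * s i)⁻¹),
              ?_, (s (i - 1))⁻¹ * ((s i)⁻¹ * b * s i), ?_, ?_⟩
            · exact Subgroup.mul_mem _ (hconj a ha) (Subgroup.mul_mem _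
                (Subgroup.mul_mem _ (Subgroup.inv_mem _ hsp) hbr) (Subgroup.inv_mem _ hss))
            · exact Subgroup.mul_mem _ (Subgroup.inv_mem _ hsp) (hconj' b hb)
            · rw [pow_succ, pow_two]; group
        · refine Subgroup.closure_mono ?_ hg
          rintro x (hx | ⟨k, h1, h3, rfl⟩)
          · exact Or.inl (hGL i hx)
          · rcases Nat.lt_or_ge k i with h | h
            · exact Or.inl (hsL i k h1 (by omega))
            · exact Or.inr (by rw [show k = i by omega]; rfl)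
      have hsi : s i ∈ L (i + 1) := hsL _ i hi le_rfl
      obtain ⟨hsi1, hsi2, hsi3⟩ := hsq i hi hit
      have hle := hmono i (i + 1) (by omega)
      have hfx' : ∀ g ∈ L (i + 1), ∀ j, i + 1 < j → j ≤ t → g (q j) = q j := by
        intro g hg j hj hjt
        rcases hUeq g hg with h | ⟨a, ha, b, hb, rfl⟩
        · exact hfx g h j (by omega) hjt
        · rw [Equiv.Perm.mul_apply, Equiv.Perm.mul_apply, hfx b hb j (by omega) hjt,
            hsi3 j (by omega) hjt (by omega) (by omega), hfx a ha j (by omega) hjt]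
      have hqne : ∀ j k, 1 ≤ j → j ≤ t → 1 ≤ k → k ≤ t → j ≠ k → q j ≠ q k :=
        fun j k h1 h3 h4 h5 h6 e => h6 (hq j k h1 h3 h4 h5 e)
      have hto : ∀ z : α, (∀ j, i + 1 < j → j ≤ t → z ≠ q j) →
          ∃ g ∈ L (i + 1), g z = q (i + 1) := by
        intro z hz
        by_cases hzq : z = q (i + 1)
        · exact ⟨1, Subgroup.one_mem _, by rw [hzq]; rfl⟩
        obtain ⟨g, hg, hgz⟩ := htr1 z (q i) (fun j hj hjt => ⟨by
          rcases Nat.lt_or_ge (i + 1) j with h | h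
          · exact hz j h hjt
          · rw [show j = i + 1 by omega]; exact hzq,
          hqne i j (by omega) (by omega) (by omega) hjt (by omega)⟩)
        exact ⟨s i * g, Subgroup.mul_mem _ hsi (hle hg), by rw [Equiv.Perm.mul_apply, hgz, hsi1]⟩
      have hstab : ∀ g ∈ L (i + 1), g (q (i + 1)) = q (i + 1) → g ∈ L i := by
        intro g hg hgq
        rcases hUeq g hg with h | ⟨a, ha, b, hb, rfl⟩
        · exact h
        · exfalso
          rw [Equiv.Perm.mul_apply, Equiv.Perm.mul_apply, hfx b hb (i + 1) (by omega) hit, hsi2] at hgq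
          exact hqne i (i + 1) (by omega) (by omega) (by omega) hit (by omega)
            (a.injective (hgq.trans (hfx a ha (i + 1) (by omega) hit).symm))
      have hMi : M (i + 1) = L i := by
        simp only [M, show ¬ (i + 1 ≤ 2) by omega, if_false, Nat.add_sub_cancel]
      refine ⟨hfx', ?_, ?_, ?_, ?_, ?_⟩
      · intro z w hzw
        obtain ⟨g, hg, hgz⟩ := hto z fun j hj hjt => (hzw j hj hjt).1
        obtain ⟨k, hk, hkw⟩ := hto w fun j hj hjt => (hzw j hj hjt).2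
        exact ⟨k⁻¹ * g, Subgroup.mul_mem _ (Subgroup.inv_mem _ hk) hg, by
          rw [Equiv.Perm.mul_apply, hgz, Equiv.Perm.inv_eq_iff_eq, hkw]⟩
      · intro x y hx hy hav
        obtain ⟨g, hg, hgx⟩ := hto (x (Fin.last i)) fun j hj hjt => (hav _ j hj hjt).1
        obtain ⟨k, hk, hky⟩ := hto (y (Fin.last i)) fun j hj hjt => (hav _ j hj hjt).2
        have havoid : ∀ (u : Fin (i + 1) → α) (g : Equiv.Perm α), g ∈ L (i + 1) →
            Function.Injective u → g (u (Fin.last i)) = q (i + 1) →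
            (∀ a j, i + 1 < j → j ≤ t → u a ≠ q j) →
            ∀ (a : Fin i) j, i < j → j ≤ t → g (u a.castSucc) ≠ q j := by
          intro u g hg hu hgu hua a j hj hjt e
          rcases Nat.lt_or_ge (i + 1) j with h | h
          · exact hua a.castSucc j h hjt (g.injective (e.trans (hfx' g hg j h hjt).symm))
          · rw [show j = i + 1 by omega, ← hgu] at e
            exact (Fin.castSucc_lt_last a).ne (hu (g.injective e))
        obtain ⟨l, hl, hla⟩ := htr (fun a => g (x a.castSucc)) (fun a => k (y a.castSucc))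
          (fun a b e => Fin.castSucc_injective i (hx (g.injective e)))
          (fun a b e => Fin.castSucc_injective i (hy (k.injective e)))
          (fun a j hj hjt => ⟨havoid x g hg hx hgx (fun a j h1 h3 => (hav a j h1 h3).1) a j hj hjt,
            havoid y k hk hy hky (fun a j h1 h3 => (hav a j h1 h3).2) a j hj hjt⟩)
        refine ⟨k⁻¹ * l * g, Subgroup.mul_mem _ (Subgroup.mul_mem _ (Subgroup.inv_mem _ hk)
          (hle hl)) hg, fun a => ?_⟩
        rw [Equiv.Perm.mul_apply, Equiv.Perm.mul_apply, Equiv.Perm.inv_eq_iff_eq]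
        refine Fin.lastCases ?_ (fun b => hla b) a
        rw [hgx, hky, hfx l hl (i + 1) (by omega) hit]
      · intro g hg hgf
        exact hst g (hstab g hg (hgf (i + 1) (by omega) le_rfl)) fun j h1 h3 =>
          hgf j h1 (by omega)
      · rw [hMi]; exact hle
      · rw [hMi, Nat.add_sub_cancel]; exact hUeq
  obtain ⟨-, -, htr, hst, -⟩ := key t ht le_rfl
  refine ⟨?_, le_antisymm ?_ ?_⟩
  · refine Perm.isMultiplyPretransitive_of_forall fun x y hx hy => ?_
    obtain ⟨g, hg, hgx⟩ := htr x y hx hy (fun a j hj hjt => absurd hjt (by omega))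
    exact ⟨⟨g, hg⟩, hgx⟩
  · rintro g ⟨hg, hgf⟩
    exact hst g hg fun j h1 h3 =>
      (mem_fixingSubgroup_iff _).1 hgf (q j) ⟨j, h1, h3, rfl⟩
  · intro g hg
    refine ⟨hGL t (hHG hg), (mem_fixingSubgroup_iff _).2 ?_⟩
    rintro _ ⟨j, h1, h3, rfl⟩
    rcases Nat.lt_or_ge j 3 with h | h
    · rw [hH] at hg
      rcases (show j = 1 ∨ j = 2 by omega) with rfl | rfl
      · exact hg.1.2
      · exact hg.2
    · exact hfix g (hHG hg) j h h3

end


/-- Witt's Lemma for constructing transitive extensions. Points `q 1, …, q t` (`t ≥ 2`) of a finite set are given; `G` fixes `q i` for `i ≥ 3` and is doubly transitive on the remaining points; `s 1 ∈ G` swaps `q 1, q 2`; for `2 ≤ i ≤ t-1`, `s i` swaps `q i, q (i+1)` and fixes the other `q j`; with `H` the stabiliser of `q 1, q 2` in `G`: `s i ^ 2 ∈ H`, `(s i * s (i+1)) ^ 3 ∈ H`, `(s i * s j) ^ 2 ∈ H` for `j ≥ i + 2`, and `s i` (`i ≥ 2`) normalises the stabiliser of `q 2` in `G`. Then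 `G` and the `s i` generate a `t`-transitive group whose pointwise stabiliser of the `q`'s is `H`. -/
theorem result {α : Type*} [Fintype α] [DecidableEq α] (t : ℕ) (ht : 2 ≤ t) (q : ℕ → α) (hq : ∀ i j : ℕ, 1 ≤ i → i ≤ t → 1 ≤ j → j ≤ t → q i = q j → i = j) (G : Subgroup (Equiv.Perm α)) (hfix : ∀ g ∈ G, ∀ i : ℕ, 3 ≤ i → i ≤ t → g (q i) = q i) (h2 : ∀ a b c d : α, (∀ i, 3 ≤ i → i ≤ t → a ≠ q i ∧ b ≠ q i ∧ c ≠ q i ∧ d ≠ q i) → a ≠ b → c ≠ d → ∃ g ∈ G, g a = c ∧ g b = d) (s : ℕ → Equiv.Perm α) (hs1 : s 1 ∈ G) (hs1q : s 1 (q 1) = q 2 ∧ s 1 (q 2) = q 1) (hsq : ∀ i : ℕ, 2 ≤ i → i + 1 ≤ t → s i (q i) = q (i + 1) ∧ s i (q (i + 1)) = q i ∧ ∀ j : ℕ, 1 ≤ j → j ≤ t → j ≠ i → j ≠ i + 1 → s i (q j) = q j) (H : Subgroup (Equiv.Perm α)) (hH : H = G ⊓ MulAction.stabilizer (Equiv.Perm α) (q 1) ⊓ MulAction.stabilizer (Equiv.Perm α) (q 2)) (hsq2 : ∀ i : ℕ, 1 ≤ i → i + 1 ≤ t → s i ^ 2 ∈ H) (hbraid : ∀ i : ℕ, 1 ≤ i → i + 2 ≤ t → (s i * s (i + 1))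 ^ 3 ∈ H) (hcomm : ∀ i j : ℕ, 1 ≤ i → i + 2 ≤ j → j + 1 ≤ t → (s i * s j) ^ 2 ∈ H ∧ (s j * s i) ^ 2 ∈ H) (hnorm : ∀ i : ℕ, 2 ≤ i → i + 1 ≤ t → ∀ g ∈ G ⊓ MulAction.stabilizer (Equiv.Perm α) (q 2), s i * g * (s i)⁻¹ ∈ G ⊓ MulAction.stabilizer (Equiv.Perm α) (q 2)) : MulAction.IsMultiplyPretransitive ↥(Subgroup.closure ((G : Set (Equiv.Perm α)) ∪ {x | ∃ i : ℕ, 2 ≤ i ∧ i + 1 ≤ t ∧ x = s i})) α t ∧ Subgroup.closure ((G : Set (Equiv.Perm α)) ∪ {x | ∃ i : ℕ, 2 ≤ i ∧ i + 1 ≤ t ∧ x = s i}) ⊓ fixingSubgroup (Equiv.Perm α) {x | ∃ i : ℕ, 1 ≤ i ∧ i ≤ t ∧ x = q i} = H := by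
  exact result_aux t ht q hq G hfix h2 s hs1 hs1q hsq H hH hsq2 hbraid hcomm hnorm

end Cfsg.Agent.S0709
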