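import Cfsg.Statements.S0710
-- import your own Cfsg.Agent.* helpers here

set_option autoImplicit false
open Cfsg

namespace Cfsg.Agent.S0710

/-- No transitive permutation group on 13 points has order `13 * 12 * 11 * 10 * 9 * 8`. -/
theorem result {α : Type*} [Fintype α] [DecidableEq α] (hα : Fintype.card α = 13) (G : Subgroup (Equiv.Perm α)) [MulAction.IsPretransitive G α] : Nat.card G ≠ 13 * 12 * 11 * 10 * 9 * 8 := by
  intro hcard
  haveI : Fact (Nat.Prime 13) := ⟨by decide⟩
  let P : Sylow 13 G := default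
  have hP : Nat.card (P : Subgroup G) = 13 := by
    obtain ⟨k, hk⟩ := P.2.exists_card_eq
    have h1 : 13 ^ 1 ∣ Nat.card (P : Subgroup G) :=
      P.pow_dvd_card_of_pow_dvd_card (by rw [hcard]; norm_num)
    have h2 := Subgroup.card_subgroup_dvd_card (P : Subgroup G)
    rw [hk, hcard] at h2
    rw [hk] at h1
    match k, hk with
    | 0, _ => norm_num at h1
    | 1, hk => simpa using hk
    | k + 2, _ =>
      have : (13 : ℕ) ^ 2 ∣ 13 * 12 * 11 * 10 * 9 * 8 := (pow_dvd_pow 13 (by omega)).trans h2
      norm_num at this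
  haveI : IsCyclic (P : Subgroup G) := isCyclic_of_prime_card hP
  have hC : Subgroup.centralizer ((P : Subgroup G) : Set G) ≤ (P : Subgroup G) := by
    intro g hg
    obtain ⟨x, hx, hx1⟩ : ∃ x ∈ (P : Subgroup G), x ≠ 1 := by
      by_contra h
      push Not at h
      have h' : (P : Subgroup G) = ⊥ := (Subgroup.eq_bot_iff_forall _).2 h
      rw [h', Subgroup.card_bot] at hP
      norm_num at hP
    have ho : orderOf x = 13 := by
      have h1 : orderOf (⟨x, hx⟩ : (P : Subgroup G)) ∣ 13 := (orderOf_dvd_natCard _).trans (dvd_of_eq hP)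
      rw [Subgroup.orderOf_mk] at h1
      rcases (Nat.dvd_prime (by decide)).1 h1 with h2 | h2
      · exact absurd (orderOf_eq_one_iff.1 h2) hx1
      · exact h2
    have ho' : orderOf (x : Equiv.Perm α) = 13 := by rw [Subgroup.orderOf_coe, ho]
    have hcyc : (x : Equiv.Perm α).IsCycle :=
      Equiv.Perm.isCycle_of_prime_order'' (by rw [hα]; decide) (ho'.trans hα.symm)
    have hs : (x : Equiv.Perm α).support = Finset.univ :=
      Finset.eq_univ_of_card _ (by rw [← hcyc.orderOf, ho', hα])
    have hmv : ∀ a : α, (x : Equiv.Perm α) a ≠ a := fun a =>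
      Equiv.Perm.mem_support.1 (by rw [hs]; exact Finset.mem_univ a)
    obtain ⟨a, -⟩ : ∃ a : α, True := by
      haveI : Nonempty α := Fintype.card_pos_iff.1 (by omega)
      exact ⟨Classical.arbitrary α, trivial⟩
    obtain ⟨i, hi⟩ := hcyc.sameCycle (hmv a) (hmv ((g : Equiv.Perm α) a))
    have hcm : Commute (g : Equiv.Perm α) (x : Equiv.Perm α) :=
      (congrArg Subtype.val (Subgroup.mem_centralizer_iff.1 hg x hx)).symm
    have hgx : g = x ^ i := by
      apply Subtype.ext
      rw [SubgroupClass.coe_zpow]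
      ext b
      obtain ⟨j, rfl⟩ := hcyc.sameCycle (hmv a) (hmv b)
      calc (g : Equiv.Perm α) (((x : Equiv.Perm α) ^ j) a)
          = ((x : Equiv.Perm α) ^ j) ((g : Equiv.Perm α) a) := by
            rw [← Equiv.Perm.mul_apply, (hcm.zpow_right j).eq, Equiv.Perm.mul_apply]
        _ = _ := by
            rw [← hi, ← Equiv.Perm.mul_apply, ← Equiv.Perm.mul_apply, (Commute.zpow_zpow_self _ j i).eq]
    exact hgx ▸ zpow_mem hx i
  let φ := (P : Subgroup G).normalizerMonoidHom
  have hk : Nat.card φ.ker ∣ 13 := by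
    rw [Subgroup.normalizerMonoidHom_ker]
    refine dvd_trans ?_ ((Subgroup.card_dvd_of_le hC).trans (dvd_of_eq hP))
    exact dvd_of_eq (Nat.card_congr (Subgroup.subgroupOfEquivOfLe
      (Subgroup.centralizer_le_normalizer _)).toEquiv)
  have hr : Nat.card φ.range ∣ 12 := by
    refine (Subgroup.card_subgroup_dvd_card _).trans ?_
    rw [IsCyclic.card_mulAut, hP]
    exact dvd_of_eq (Nat.totient_prime (Fact.out : Nat.Prime 13))
  have hN : Nat.card (Subgroup.normalizer ((P : Subgroup G) : Set G)) ∣ 13 * 12 := by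
    rw [← φ.ker.index_mul_card, Subgroup.index_ker, mul_comm]
    exact mul_dvd_mul hk hr
  have hn : Nat.card (Sylow 13 G) * Nat.card (Subgroup.normalizer ((P : Subgroup G) : Set G))
      = 13 * 12 * 11 * 10 * 9 * 8 := by
    rw [P.card_eq_index_normalizer, ← hcard]
    exact Subgroup.index_mul_card _
  have hmod := card_sylow_modEq_one 13 G
  generalize hd : Nat.card (Subgroup.normalizer ((P : Subgroup G) : Set G)) = d at hN hn
  have hd' : d ∈ Nat.divisors (13 * 12) := Nat.mem_divisors.2 ⟨hN, by norm_num⟩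
  have key : ∀ e ∈ Nat.divisors (13 * 12), (13 * 12 * 11 * 10 * 9 * 8) / e % 13 ≠ 1 := by decide
  apply key d hd'
  have hd0 : 0 < d := Nat.pos_of_mem_divisors hd'
  rw [← hn, Nat.mul_div_cancel _ hd0]
  exact hmod

end Cfsg.Agent.S0710
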