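import Cfsg.Statements.S0714
import Cfsg.Agent.Lib.Perm.ModuleHeart

set_option autoImplicit false
open Cfsg
open Cfsg.Agent.Perm.ModuleHeart

namespace Cfsg.Agent.S0714

/-- Over any field, the permutation module of the alternating group of degree at least 5 has exactly four invariant subspaces: zero, the constant functions, the functions with coordinate sum zero, and everything. -/
theorem result {α : Type*} [Fintype α] [DecidableEq α] (hα : 5 ≤ Fintype.card α) {K : Type*} [Field K] (W : Subrepresentation (Cfsg.permRep K (alternatingGroup α) α)) : W.toSubmodule = ⊥ ∨ W = Cfsg.permConstants K (alternatingGroup α) α ∨ W = Cfsg.permSumZero K (alternatingGroup α) α ∨ W.toSubmodule = ⊤ := by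
  classical
  by_cases hc : ∀ v ∈ W.toSubmodule, ∀ x y : α, v x = v y
  · -- only constant functions
    have hle : W.toSubmodule ≤ (Cfsg.permConstants K (alternatingGroup α) α).toSubmodule := by
      intro v hv
      haveI : Nonempty α := Fintype.card_pos_iff.1 (by omega)
      exact mem_constants_iff.2 ⟨v (Classical.arbitrary α), funext fun x => hc v hv x _⟩
    by_cases hb : W.toSubmodule = ⊥
    · exact Or.inl hb
    · refine Or.inr (Or.inl (Subrepresentation.toSubmodule_injective (le_antisymm hle ?_)))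
      obtain ⟨v, hv, hv0⟩ := W.toSubmodule.ne_bot_iff.1 hb
      obtain ⟨c, rfl⟩ := mem_constants_iff.1 (hle hv)
      have hc0 : c ≠ 0 := fun h => hv0 (funext fun _ => h)
      intro w hw
      obtain ⟨d, rfl⟩ := mem_constants_iff.1 hw
      have he : (fun _ : α => d) = (d / c) • (fun _ : α => c) := by
        funext x; simp [div_mul_cancel₀ d hc0]
      exact he ▸ W.toSubmodule.smul_mem _ hv
  · push Not at hc
    obtain ⟨v, hv, x, y, hxy⟩ := hc
    -- the group is triply transitive
    have h3 : ∀ a b c a' b' c' : α, a ≠ b → a ≠ c → b ≠ c → a' ≠ b' → a' ≠ c' → b' ≠ c' →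
        ∃ g : alternatingGroup α, (g : Equiv.Perm α) a = a' ∧ (g : Equiv.Perm α) b = b' ∧
          (g : Equiv.Perm α) c = c' := by
      intro a b c a' b' c' h1 h2 h3 h4 h5 h6
      have hm : MulAction.IsMultiplyPretransitive (alternatingGroup α) α 3 := by
        haveI := alternatingGroup.isMultiplyPretransitive α
        exact MulAction.isMultiplyPretransitive_of_le' (n := Nat.card α - 2)
          (by rw [Nat.card_eq_fintype_card]; omega) (by simp [ENat.card_eq_coe_fintype_card])
      obtain ⟨g, hg⟩ := MulAction.exists_smul_eq (alternatingGroup α)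
        (⟨![a, b, c], by simp [Function.Injective, Fin.forall_fin_succ, h1, h2, h3, h1.symm, h2.symm, h3.symm]⟩ : Fin 3 ↪ α)
        (⟨![a', b', c'], by simp [Function.Injective, Fin.forall_fin_succ, h4, h5, h6, h4.symm, h5.symm, h6.symm]⟩ : Fin 3 ↪ α)
      refine ⟨g, ?_, ?_, ?_⟩
      · exact congrArg (fun e : Fin 3 ↪ α => e 0) hg
      · exact congrArg (fun e : Fin 3 ↪ α => e 1) hg
      · exact congrArg (fun e : Fin 3 ↪ α => e 2) hg
    have hWi : ∀ g : alternatingGroup α, ∀ w ∈ W.toSubmodule,
        (fun z => w ((g : Equiv.Perm α) z)) ∈ W.toSubmodule := fun g w hw => by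
      have h := W.apply_mem_toSubmodule g⁻¹ hw
      have he : Cfsg.permRep K (alternatingGroup α) α g⁻¹ w =
          fun z => w ((g : Equiv.Perm α) z) := by
        funext z; rw [permRep_apply, inv_inv]; rfl
      exact he ▸ h
    -- a difference of two delta functions lies in `W`
    have hd : ∀ u ∈ W.toSubmodule, ∀ a b c e : α, a ≠ b → a ≠ c → b ≠ c → a ≠ e → b ≠ e → c ≠ e →
        (u b - u a) • (Pi.single a (1 : K) - Pi.single b 1) +
          (u e - u c) • (Pi.single c (1 : K) - Pi.single e 1) ∈ W.toSubmodule := by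
      intro u hu a b c e hab hac hbc hae hbe hce
      let g : alternatingGroup α := ⟨Equiv.swap a b * Equiv.swap c e, by
        simp [Equiv.Perm.mem_alternatingGroup, Equiv.Perm.sign_swap hab, Equiv.Perm.sign_swap hce]⟩
      have he : (fun z => u ((g : Equiv.Perm α) z)) - u =
          (u b - u a) • (Pi.single a (1 : K) - Pi.single b 1) +
          (u e - u c) • (Pi.single c (1 : K) - Pi.single e 1) := by
        funext z
        simp only [g, Equiv.Perm.mul_apply, Pi.sub_apply, Pi.add_apply, Pi.smul_apply,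
          Pi.single_apply, smul_eq_mul]
        rcases eq_or_ne z a with rfl | hza
        · simp [Equiv.swap_apply_of_ne_of_ne hac hae, hab, hac, hae]
        rcases eq_or_ne z b with rfl | hzb
        · simp [Equiv.swap_apply_of_ne_of_ne hbc hbe, hab.symm, hbc, hbe]
        rcases eq_or_ne z c with rfl | hzc
        · simp [Equiv.swap_apply_of_ne_of_ne hae.symm hbe.symm, hac.symm, hbc.symm, hce]
        rcases eq_or_ne z e with rfl | hze
        · simp [Equiv.swap_apply_of_ne_of_ne hac.symm hbc.symm, hae.symm, hbe.symm, hce.symm]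
        simp [Equiv.swap_apply_of_ne_of_ne hzc hze, Equiv.swap_apply_of_ne_of_ne hza hzb, hza, hzb,
          hzc, hze]
      exact he ▸ W.toSubmodule.sub_mem (hWi g u hu) hu
    obtain ⟨s, t, r, hsx, hsy, htx, hty, hrx, hry, hst, hsr, htr⟩ : ∃ s t r : α, s ≠ x ∧ s ≠ y ∧
        t ≠ x ∧ t ≠ y ∧ r ≠ x ∧ r ≠ y ∧ s ≠ t ∧ s ≠ r ∧ t ≠ r := by
      have hcd : 2 < ((Finset.univ.erase x).erase y).card := by
        rw [Finset.card_erase_of_mem, Finset.card_erase_of_mem, Finset.card_univ]
        · omega
        · simp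
        · simpa using fun h => hxy (by rw [h])
      obtain ⟨s, t, r, hs, ht, hr, h1, h2, h3⟩ := Finset.two_lt_card_iff.1 hcd
      simp only [Finset.mem_erase, Finset.mem_univ, and_true] at hs ht hr
      exact ⟨s, t, r, hs.2, hs.1, ht.2, ht.1, hr.2, hr.1, h1, h2, h3⟩
    have hxy' : x ≠ y := fun h => hxy (by rw [h])
    let k := v y - v x
    let l := v t - v s
    let m : α → K := k • (Pi.single x (1 : K) - Pi.single y 1) + l • (Pi.single s (1 : K) - Pi.single t 1)
    have hmem : m ∈ W.toSubmodule := hd v hv x y s t hxy' hsx.symm hsy.symm htx.symm hty.symm hst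
    have hk : k ≠ 0 := sub_ne_zero.2 (Ne.symm hxy)
    let e : α → α → α → α → K := fun a b c =>
      Pi.single a (1 : K) + Pi.single c 1 - ((2 : K) • Pi.single b 1)
    obtain ⟨g, hgx, hgy, hgr⟩ : ∃ g : alternatingGroup α, (g : Equiv.Perm α) x = y ∧
        (g : Equiv.Perm α) y = r ∧ (g : Equiv.Perm α) r = x ∧ ∀ z, z ≠ x → z ≠ y → z ≠ r →
          (g : Equiv.Perm α) z = z := by
      refine ⟨⟨Equiv.swap x r * Equiv.swap x y, by
        simp [Equiv.Perm.mem_alternatingGroup, Equiv.Perm.sign_swap hxy', Equiv.Perm.sign_swap hrx.symm]⟩, ?_, ?_, ?_, ?_⟩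
      · simp [Equiv.swap_apply_of_ne_of_ne hxy'.symm hry.symm]
      · simp
      · simp [Equiv.swap_apply_of_ne_of_ne hrx hry]
      · intro z hzx hzy hzr
        simp [Equiv.swap_apply_of_ne_of_ne hzx hzy, Equiv.swap_apply_of_ne_of_ne hzx hzr]
    have he : m - (fun z => m ((g : Equiv.Perm α) z)) = (-k) • e y x r := by
      funext z
      simp only [e, m, Pi.sub_apply, Pi.add_apply, Pi.smul_apply, Pi.single_apply,
        smul_eq_mul]
      rcases eq_or_ne z x with rfl | hzx
      · simp [hgx, hxy', hxy'.symm, hrx.symm, hsx.symm, htx.symm, hsy.symm, hty.symm]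
        ring
      rcases eq_or_ne z y with rfl | hzy
      · simp [hgy, hxy', hxy'.symm, hrx, hry, hry.symm, hsr.symm, htr.symm, hsy.symm, hty.symm]
      rcases eq_or_ne z r with rfl | hzr
      · simp [hgr.1, hxy', hrx, hry, hsr.symm, htr.symm, hsx.symm, htx.symm]
      simp [hgr.2 z hzx hzy hzr, hzx, hzy, hzr]
    have hexyr : e y x r ∈ W.toSubmodule := by
      have h := W.toSubmodule.smul_mem (-k)⁻¹ (W.toSubmodule.sub_mem hmem (hWi g m hmem))
      rwa [he, smul_smul, inv_mul_cancel₀ (neg_ne_zero.2 hk), one_smul] at h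
    have hall : ∀ a b c : α, a ≠ b → a ≠ c → b ≠ c → e a b c ∈ W.toSubmodule := by
      intro a b c h1 h2 h4
      obtain ⟨g, ga, gb, gc⟩ := h3 a b c y x r h1 h2 h4 hxy'.symm hry.symm hrx.symm
      have he' : (fun z => e y x r ((g : Equiv.Perm α) z)) = e a b c := by
        funext z
        simp only [e, ← ga, ← gb, ← gc, Pi.sub_apply, Pi.add_apply, Pi.smul_apply, Pi.single_apply,
          EmbeddingLike.apply_eq_iff_eq]
      exact he' ▸ hWi g _ hexyr
    have hdiff : ∀ c d : α, c ≠ d → Pi.single c (1 : K) - Pi.single d 1 ∈ W.toSubmodule := by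
      intro c d hcd
      obtain ⟨a, b, hac, had, hbc, hbd, hab⟩ : ∃ a b : α, a ≠ c ∧ a ≠ d ∧ b ≠ c ∧ b ≠ d ∧ a ≠ b := by
        have hcd' : 1 < ((Finset.univ.erase c).erase d).card := by
          rw [Finset.card_erase_of_mem, Finset.card_erase_of_mem, Finset.card_univ]
          · omega
          · simp
          · simpa using hcd.symm
        obtain ⟨a, b, ha, hb, hab⟩ := Finset.one_lt_card_iff.1 hcd'
        simp only [Finset.mem_erase, Finset.mem_univ, and_true] at ha hb
        exact ⟨a, b, ha.2, ha.1, hb.2, hb.1, hab⟩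
      have h := W.toSubmodule.sub_mem (hall a b c hab hac hbc) (hall a b d hab had hbd)
      simpa [e] using h
    have hS : (Cfsg.permSumZero K (alternatingGroup α) α).toSubmodule ≤ W.toSubmodule := by
      intro u hu
      rw [mem_sumZero_iff] at hu
      have hu' : u = ∑ z, u z • (Pi.single z (1 : K) - Pi.single x 1) := by
        conv_lhs => rw [pi_eq_sum_univ' u]
        simp only [smul_sub, Finset.sum_sub_distrib, ← Finset.sum_smul, hu, zero_smul, sub_zero]
      rw [hu']
      refine Submodule.sum_mem _ fun z _ => W.toSubmodule.smul_mem _ ?_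
      rcases eq_or_ne z x with rfl | hz
      · simp
      · exact hdiff z x hz
    by_cases hWS : W.toSubmodule ≤ (Cfsg.permSumZero K (alternatingGroup α) α).toSubmodule
    · exact Or.inr (Or.inr (Or.inl (Subrepresentation.toSubmodule_injective (le_antisymm hWS hS))))
    · refine Or.inr (Or.inr (Or.inr (eq_top_iff.2 fun u _ => ?_)))
      obtain ⟨w, hw, hwS⟩ := SetLike.not_le_iff_exists.1 hWS
      rw [mem_sumZero_iff] at hwS
      let c := (∑ z, u z) / ∑ z, w z
      have hsz : u - c • w ∈ W.toSubmodule := hS (by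
        rw [mem_sumZero_iff]
        simp [c, Finset.sum_sub_distrib, ← Finset.mul_sum, div_mul_cancel₀ _ hwS])
      simpa using W.toSubmodule.add_mem hsz (W.toSubmodule.smul_mem c hw)

end Cfsg.Agent.S0714
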