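import Cfsg.Statements.S0716
import Cfsg.Agent.Lib.Char.PermRelation

set_option autoImplicit false
open Cfsg

namespace Cfsg.Agent.S0716

open Cfsg.Agent.Char Cfsg.Agent.Char.PermConstituent in
theorem part_a {G : Type*} [Group G] [Fintype G] {Ω : Type*} [Fintype Ω] [MulAction G Ω]
    [MulAction.IsPretransitive G Ω] (a : Ω) (f : ℕ)
    (hdeg : ∀ χ : G → ℂ, IsIrrCharacter G χ → χ ≠ (fun _ => 1) →
      classInner (permRep ℂ G Ω).character χ ≠ 0 → χ 1 = f) :
    (∀ χ : G → ℂ, IsIrrCharacter G χ → classInner (permRep ℂ G Ω).character χ = 0 ∨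
      classInner (permRep ℂ G Ω).character χ = 1) ∧
    ∀ b : Ω, b ≠ a → Nat.card (MulAction.orbit (MulAction.stabilizer G a) b) = f := by
  classical
  obtain ⟨m, hm, hm1, hn, hr⟩ := exists_mult_spec (G := G) a
  have ht : degree (trivialChar G) = 1 := by
    have := (apply_one_eq_degree (trivialChar G)).symm
    rw [trivialChar_apply] at this
    exact_mod_cast this
  set C := Finset.univ.erase (trivialChar G) with hC
  have hd : ∀ χ ∈ C, m χ ≠ 0 → degree χ = f := by
    intro χ hχ h0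
    have h1 := hdeg χ.1 χ.2 (fun h => (Finset.mem_erase.1 hχ).1 (Subtype.ext h))
      (by rw [hm]; exact Nat.cast_ne_zero.2 h0)
    rw [apply_one_eq_degree, Nat.cast_inj] at h1
    exact h1
  have hn' : Fintype.card Ω = 1 + f * ∑ χ ∈ C, m χ := by
    rw [hn, ← Finset.add_sum_erase _ _ (Finset.mem_univ (trivialChar G)), hm1, ht, one_mul,
      Finset.mul_sum]
    congr 1
    refine Finset.sum_congr rfl fun χ hχ => ?_
    by_cases h0 : m χ = 0
    · simp [h0]
    rw [hd χ hχ h0, mul_comm]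
  have hr' : Nat.card (MulAction.orbitRel.Quotient (MulAction.stabilizer G a) Ω) =
      1 + ∑ χ ∈ C, m χ * m χ := by
    rw [hr, ← Finset.add_sum_erase _ _ (Finset.mem_univ (trivialChar G)), hm1, one_mul]
  -- all valencies are multiples of `f`
  have hge : ∀ b : Ω, b ≠ a → f ≤ Nat.card (MulAction.orbit (MulAction.stabilizer G a) b) := by
    intro b hb
    rcases Nat.eq_zero_or_pos f with h0 | hf
    · omega
    have hpos : 0 < Nat.card (MulAction.orbit (MulAction.stabilizer G a) b) :=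
      Nat.card_pos_iff.2 ⟨⟨⟨b, MulAction.mem_orbit_self b⟩⟩, inferInstance⟩
    refine Nat.le_of_dvd hpos (dvd_of_same_degree (G := G) a hf hdeg
      (R := fun x y => ∃ g : G, g • a = x ∧ g • b = y) ?_ ?_ ?_)
    · rintro h x y ⟨g, rfl, rfl⟩
      exact ⟨h * g, mul_smul _ _ _, mul_smul _ _ _⟩
    · rintro x ⟨g, h1, h2⟩
      exact hb (smul_left_cancel g (h2.trans h1.symm))
    · intro x
      obtain ⟨g₀, rfl⟩ := MulAction.exists_smul_eq G a x
      refine (Nat.card_congr (Equiv.subtypeEquiv (MulAction.toPerm g₀) fun y => ?_)).symm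
      constructor
      · rintro ⟨h, rfl⟩
        exact ⟨g₀ * (h : G), by rw [mul_smul, (h.2 : (h : G) • a = a)], by
          rw [mul_smul]; rfl⟩
      · rintro ⟨g, h1, h2⟩
        refine ⟨⟨g₀⁻¹ * g, ?_⟩, ?_⟩
        · rw [MulAction.mem_stabilizer_iff, mul_smul, h1, inv_smul_smul]
        · show (g₀⁻¹ * g) • b = y
          rw [mul_smul, h2, MulAction.toPerm_apply, inv_smul_smul]
  -- counting
  have hsum : Fintype.card Ω = ∑ q : MulAction.orbitRel.Quotient (MulAction.stabilizer G a) Ω,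
      Nat.card (MulAction.orbit (MulAction.stabilizer G a) q.out) := by
    rw [← Nat.card_eq_fintype_card,
      Nat.card_congr (MulAction.selfEquivSigmaOrbits (MulAction.stabilizer G a) Ω), Nat.card_sigma]
  set qa : MulAction.orbitRel.Quotient (MulAction.stabilizer G a) Ω := Quotient.mk _ a with hqa
  have hout : ∀ q, q ≠ qa → q.out ≠ a := fun q hq h =>
    hq ((Quotient.out_eq q).symm.trans (congrArg (fun z => Quotient.mk _ z) h))
  have hone : Nat.card (MulAction.orbit (MulAction.stabilizer G a) qa.out) = 1 := by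
    have h1 : qa.out = a := by
      obtain ⟨g, hg⟩ := Quotient.exact (Quotient.out_eq qa)
      rw [← hg]
      exact g.2
    rw [h1, Nat.card_eq_one_iff_unique]
    refine ⟨⟨fun x y => ?_⟩, ⟨⟨a, MulAction.mem_orbit_self a⟩⟩⟩
    obtain ⟨g, hg⟩ := x.2
    obtain ⟨g', hg'⟩ := y.2
    refine Subtype.ext ?_
    rw [← hg, ← hg']
    exact (g.2 : (g : G) • a = a).trans (g'.2 : (g' : G) • a = a).symm
  rw [← Finset.add_sum_erase _ _ (Finset.mem_univ qa), hone, hn', Nat.add_left_cancel_iff] at hsum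
  have hle : ∀ q ∈ Finset.univ.erase qa,
      f ≤ Nat.card (MulAction.orbit (MulAction.stabilizer G a) q.out) :=
    fun q hq => hge _ (hout q (Finset.mem_erase.1 hq).1)
  have hcard : (Finset.univ.erase qa).card = ∑ χ ∈ C, m χ * m χ := by
    rw [Finset.card_erase_of_mem (Finset.mem_univ _), Finset.card_univ, ← Nat.card_eq_fintype_card,
      hr']
    omega
  have hsq : ∀ χ ∈ C, m χ ≤ m χ * m χ := fun χ _ => Nat.le_mul_self _
  have h1 : ∑ _q ∈ Finset.univ.erase qa, f = f * ∑ χ ∈ C, m χ * m χ := by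
    rw [Finset.sum_const, hcard, smul_eq_mul, mul_comm]
  have h2 := Finset.sum_le_sum hle
  rw [← hsum, h1] at h2
  have h2' : f * ∑ χ ∈ C, m χ * m χ = f * ∑ χ ∈ C, m χ :=
    le_antisymm h2 (Nat.mul_le_mul_left f (Finset.sum_le_sum hsq))
  have h3 : ∑ _q ∈ Finset.univ.erase qa, f =
      ∑ q ∈ Finset.univ.erase qa, Nat.card (MulAction.orbit (MulAction.stabilizer G a) q.out) := by
    rw [h1, h2', hsum]
  have heq := (Finset.sum_eq_sum_iff_of_le hle).1 h3
  refine ⟨fun χ hχ => ?_, fun b hb => ?_⟩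
  · let χ' : IrrCharacter G := ⟨χ, hχ⟩
    have hk : classInner (permRep ℂ G Ω).character χ = (m χ' : ℂ) := hm χ'
    by_cases ht' : χ' = trivialChar G
    · right; rw [hk, ht', hm1, Nat.cast_one]
    by_cases h0 : m χ' = 0
    · left; rw [hk, h0, Nat.cast_zero]
    right
    have hmem : χ' ∈ C := Finset.mem_erase.2 ⟨ht', Finset.mem_univ _⟩
    have hf : 0 < f := hd χ' hmem h0 ▸ degree_pos χ'
    have h4 := Nat.eq_of_mul_eq_mul_left hf h2'
    have h5 := (Finset.sum_eq_sum_iff_of_le hsq).1 h4.symm χ' hmem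
    rw [hk]
    have : m χ' = 1 := (Nat.mul_eq_left h0).1 h5.symm
    rw [this, Nat.cast_one]
  · have hq : (Quotient.mk _ b : MulAction.orbitRel.Quotient (MulAction.stabilizer G a) Ω) ∈
        Finset.univ.erase qa := by
      refine Finset.mem_erase.2 ⟨fun h => hb ?_, Finset.mem_univ _⟩
      obtain ⟨g, hg⟩ := Quotient.exact h
      rw [← hg]
      exact g.2
    have h := (heq _ hq).symm
    have horb : ((Quotient.mk _ b : MulAction.orbitRel.Quotient (MulAction.stabilizer G a) Ω)).out ∈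
        MulAction.orbit (MulAction.stabilizer G a) b :=
      MulAction.orbitRel_apply.1 (Quotient.exact (Quotient.out_eq _))
    rwa [MulAction.orbit_eq_iff.2 horb] at h

/-- (a) If all non-principal irreducible constituents of the permutation character of a transitive group have the same degree `f`, the character is multiplicity-free and all non-trivial subdegrees equal `f`. (b) A transitive group of rank at most 5 has multiplicity-free permutation character. -/
theorem result {G : Type*} [Group G] [Fintype G] {Ω : Type*} [Fintype Ω] [MulAction G Ω] [MulAction.IsPretransitive G Ω] (a : Ω) : ((f : ℕ) → (∀ χ : G → ℂ, Cfsg.IsIrrCharacter G χ → χ ≠ (fun _ => 1) → Cfsg.classInner (fun g : G => (Nat.card (MulAction.fixedBy Ω g) : ℂ)) χ ≠ 0 → χ 1 = f) → (∀ χ : G → ℂ, Cfsg.IsIrrCharacter G χ → Cfsg.classInner (fun g : G => (Nat.card (MulAction.fixedBy Ω g) : ℂ)) χ = 0 ∨ Cfsg.classInner (fun g : G => (Nat.card (MulAction.fixedBy Ω g) : ℂ)) χ = 1) ∧ ∀ b : Ω, b ≠ a → Nat.card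 (MulAction.orbit (MulAction.stabilizer G a) b) = f) ∧ (Nat.card (MulAction.orbitRel.Quotient (MulAction.stabilizer G a) Ω) ≤ 5 → ∀ χ : G → ℂ, Cfsg.IsIrrCharacter G χ → Cfsg.classInner (fun g : G => (Nat.card (MulAction.fixedBy Ω g) : ℂ)) χ = 0 ∨ Cfsg.classInner (fun g : G => (Nat.card (MulAction.fixedBy Ω g) : ℂ)) χ = 1) := by
  classical
  rw [show (fun g : G => (Nat.card (MulAction.fixedBy Ω g) : ℂ)) =
    (Cfsg.permRep ℂ G Ω).character from
      (Cfsg.Agent.Char.PermConstituent.character_permRep).symm]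
  refine ⟨fun f hdeg => part_a a f hdeg, fun hr5 χ hχ => ?_⟩
  obtain ⟨m, hm, hm1, -, hr⟩ :=
    Cfsg.Agent.Char.PermConstituent.exists_mult_spec (G := G) a
  let χ' : Cfsg.IrrCharacter G := ⟨χ, hχ⟩
  have hk : Cfsg.classInner (Cfsg.permRep ℂ G Ω).character χ = (m χ' : ℂ) := hm χ'
  by_cases hle : m χ' ≤ 1
  · rw [hk]
    rcases Nat.le_one_iff_eq_zero_or_eq_one.1 hle with h | h <;> simp [h]
  have ht : χ' ≠ Cfsg.Agent.Char.trivialChar G := fun h => hle (by rw [h, hm1])
  have h4 : 4 ≤ m χ' * m χ' := Nat.mul_le_mul (Nat.lt_of_not_le hle) (Nat.lt_of_not_le hle)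
  have honly : ∀ ψ : Cfsg.IrrCharacter G, m ψ ≠ 0 →
      ψ = Cfsg.Agent.Char.trivialChar G ∨ ψ = χ' := by
    intro ψ h0
    by_contra! hne
    have h5 : ({Cfsg.Agent.Char.trivialChar G, χ', ψ} : Finset _).sum (fun φ => m φ * m φ) ≤
        ∑ φ, m φ * m φ :=
      Finset.sum_le_sum_of_subset (Finset.subset_univ _)
    rw [Finset.sum_insert (by simp [ht.symm, hne.1.symm]), Finset.sum_insert (by simp [hne.2.symm]),
      Finset.sum_singleton, hm1] at h5
    have : 1 ≤ m ψ * m ψ := Nat.mul_pos (Nat.pos_of_ne_zero h0) (Nat.pos_of_ne_zero h0)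
    omega
  obtain ⟨d, -, hd⟩ := Cfsg.Agent.Char.IsIrrCharacter.exists_degree hχ
  exact (part_a a d fun φ hφ h1 h0 => by
    have hφ' : m ⟨φ, hφ⟩ ≠ 0 := fun h => h0 (by
      have := hm ⟨φ, hφ⟩
      rw [h, Nat.cast_zero] at this
      exact this)
    rcases honly ⟨φ, hφ⟩ hφ' with h | h
    · exact absurd (congrArg Subtype.val h) h1
    · rw [show φ = χ from congrArg Subtype.val h]
      exact hd).1 χ hχ

end Cfsg.Agent.S0716
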