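import Cfsg.Statements.S0718
import Cfsg.Agent.Lib.Char.PermConstituent

set_option autoImplicit false
open Cfsg

namespace Cfsg.Agent.S0718

/-- Multiplicity-freeness of the permutation character is equivalent to commutativity of the centraliser ring, i.e. of the algebra of `G`-equivariant endomorphisms of the complex permutation module. -/
theorem result {G : Type*} [Group G] [Fintype G] {Ω : Type*} [Fintype Ω] [MulAction G Ω] : (∀ χ : G → ℂ, Cfsg.IsIrrCharacter G χ → Cfsg.classInner (fun g : G => (Nat.card (MulAction.fixedBy Ω g) : ℂ)) χ = 0 ∨ Cfsg.classInner (fun g : G => (Nat.card (MulAction.fixedBy Ω g) : ℂ)) χ = 1) ↔ ∀ S T : (Ω → ℂ) →ₗ[ℂ] (Ω → ℂ), S ∈ ((Cfsg.permRep ℂ G Ω).linHom (Cfsg.permRep ℂ G Ω)).invariants → T ∈ ((Cfsg.permRep ℂ G Ω).linHom (Cfsg.permRep ℂ G Ω)).invariants → S ∘ₗ T = T ∘ₗ S := by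
  have hinv : ∀ S : (Ω → ℂ) →ₗ[ℂ] (Ω → ℂ),
      S ∈ ((Cfsg.permRep ℂ G Ω).linHom (Cfsg.permRep ℂ G Ω)).invariants ↔
        ∀ g x, S (Cfsg.permRep ℂ G Ω g x) = Cfsg.permRep ℂ G Ω g (S x) := by
    intro S
    rw [Representation.mem_invariants]
    constructor
    · intro h g x
      have h1 := LinearMap.congr_fun (h g) (Cfsg.permRep ℂ G Ω g x)
      simp only [Representation.linHom_apply, LinearMap.comp_apply,
        ← Module.End.mul_apply, ← map_mul, inv_mul_cancel, map_one, Module.End.one_apply] at h1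
      exact h1.symm
    · intro h g
      refine LinearMap.ext fun x => ?_
      simp only [Representation.linHom_apply, LinearMap.comp_apply, h]
      rw [← Module.End.mul_apply, ← map_mul, mul_inv_cancel, map_one, Module.End.one_apply]
  have hchar : (fun g : G => (Nat.card (MulAction.fixedBy Ω g) : ℂ)) =
      (Cfsg.permRep ℂ G Ω).character :=
    funext fun g => (Cfsg.Agent.Char.character_permFun Ω g).symm
  rw [hchar]
  constructor
  · intro hmf S T hS hT
    exact Cfsg.Agent.Char.PermConstituent.comm_of_mult_free _ hmf ((hinv S).1 hS) ((hinv T).1 hT)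
  · intro hcomm χ hχ
    exact Cfsg.Agent.Char.PermConstituent.mult_free_of_comm _
      (fun S T hS hT => hcomm S T ((hinv S).2 hS) ((hinv T).2 hT)) χ hχ

end Cfsg.Agent.S0718
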