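import Cfsg.Statements.S0719
import Cfsg.Agent.Lib.Char.PermRelation
import Mathlib.GroupTheory.GroupAction.Primitive

set_option autoImplicit false
open Cfsg

namespace Cfsg.Agent.S0719

open Cfsg.Agent.Char Cfsg.Agent.Char.PermConstituent

section
variable {G : Type*} [Group G] {Ω : Type*} [Fintype Ω] [MulAction G Ω]

/-- The subdegree of a pair of points. -/
noncomputable def subdeg (G : Type*) [Group G] {Ω : Type*} [MulAction G Ω] (x y : Ω) : ℕ :=
  Nat.card (MulAction.orbit (MulAction.stabilizer G x) y)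

omit [Fintype Ω] in
theorem subdeg_mul_card [MulAction.IsPretransitive G Ω] (x y : Ω) :
    subdeg G x y * Nat.card Ω = (MulAction.stabilizer G y ⊓ MulAction.stabilizer G x).index := by
  have h1 : MulAction.stabilizer (MulAction.stabilizer G x) y =
      (MulAction.stabilizer G y).subgroupOf (MulAction.stabilizer G x) := by
    ext g
    rfl
  have h2 : subdeg G x y =
      ((MulAction.stabilizer G y).subgroupOf (MulAction.stabilizer G x)).index := by
    rw [← h1, MulAction.index_stabilizer]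
    rfl
  rw [h2, ← MulAction.index_stabilizer_of_transitive G x,
    ← Subgroup.relIndex_mul_index (inf_le_right :
      MulAction.stabilizer G y ⊓ MulAction.stabilizer G x ≤ MulAction.stabilizer G x),
    Subgroup.inf_relIndex_right]
  rfl

theorem subdeg_comm [MulAction.IsPretransitive G Ω] (x y : Ω) :
    subdeg G x y = subdeg G y x := by
  haveI : Nonempty Ω := ⟨x⟩
  refine Nat.eq_of_mul_eq_mul_right (Nat.card_pos (α := Ω)) ?_
  rw [subdeg_mul_card, subdeg_mul_card, inf_comm]

omit [Fintype Ω] in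
theorem subdeg_smul (g : G) (x y : Ω) : subdeg G (g • x) (g • y) = subdeg G x y := by
  refine (Nat.card_congr (Equiv.subtypeEquiv (MulAction.toPerm g) fun z => ?_)).symm
  constructor
  · rintro ⟨h, rfl⟩
    refine ⟨⟨g * h * g⁻¹, ?_⟩, ?_⟩
    · rw [MulAction.mem_stabilizer_iff, mul_smul, inv_smul_smul, mul_smul,
        (h.2 : (h : G) • x = x)]
    · show (g * h * g⁻¹) • g • y = g • ((h : G) • y)
      rw [mul_smul, inv_smul_smul, mul_smul]
  · rintro ⟨h, hh⟩
    refine ⟨⟨g⁻¹ * h * g, ?_⟩, ?_⟩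
    · rw [MulAction.mem_stabilizer_iff, mul_smul, mul_smul, (h.2 : (h : G) • g • x = g • x),
        inv_smul_smul]
    · show (g⁻¹ * h * g) • y = z
      rw [mul_smul, mul_smul]
      rw [show (h : G) • g • y = g • z from hh, inv_smul_smul]

/-- The integer solutions of the trace equations. -/
theorem diophantine {m k r s : ℤ} (hm : 2 ≤ m) (hk : 2 ≤ k) (hk' : k + 3 ≤ 2 * m)
    (h1 : k + (m - 1) * r + m * s = 0)
    (h2 : k ^ 2 + (m - 1) * r ^ 2 + m * s ^ 2 = 2 * m * k) :
    ∃ a : ℕ, 0 < a ∧ m = 2 * (a : ℤ) ^ 2 + 2 * a + 1 ∧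
      (k = a * (2 * a + 1) ∨ k = (a + 1) * (2 * a + 1)) := by
  obtain ⟨j, hj⟩ : ∃ j, j = -r - s := ⟨_, rfl⟩
  obtain ⟨u, hu⟩ : ∃ u, u = r + j := ⟨_, rfl⟩
  have hk0 : k = r + m * j := by rw [hj]; linear_combination h1
  have hkey : 2 * u * (u - 1) + (m - 1) * (j * (j - 2)) = 0 := by
    have hs : s = -r - j := by rw [hj]; ring
    have : m * (2 * u * (u - 1) + (m - 1) * (j * (j - 2))) = 0 := by
      rw [hk0, hs] at h2
      rw [hu]
      linear_combination h2
    exact (mul_eq_zero.1 this).resolve_left (by omega)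
  have hu0 : 0 ≤ u * (u - 1) := by
    rcases le_or_gt u 0 with h | h
    · exact mul_nonneg_of_nonpos_of_nonpos h (by omega)
    · exact mul_nonneg h.le (by omega)
  have hj' : j = 0 ∨ j = 1 ∨ j = 2 := by
    by_contra! hne
    have : 1 ≤ j * (j - 2) := by
      rcases le_or_gt j 0 with h | h
      · nlinarith [show j ≤ -1 by omega]
      · nlinarith [show 3 ≤ j by omega]
    nlinarith
  have hu01 : j ≠ 1 → u = 0 ∨ u = 1 := by
    intro hne
    have : u * (u - 1) = 0 := by
      rcases hj' with rfl | rfl | rfl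
      · linarith
      · exact absurd rfl hne
      · linarith
    rcases mul_eq_zero.1 this with h | h
    · exact Or.inl h
    · exact Or.inr (by omega)
  rcases hj' with rfl | rfl | rfl
  · rcases hu01 (by norm_num) with h | h <;> omega
  · have hmu : m = 2 * u * (u - 1) + 1 := by linarith
    have hr : r = u - 1 := by omega
    rcases le_or_gt u 0 with h | h
    · obtain ⟨a, ha⟩ : ∃ a : ℕ, u = -(a : ℤ) := ⟨(-u).toNat, by omega⟩
      have ha0 : 0 < a := by
        rcases Nat.eq_zero_or_pos a with rfl | h'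
        · simp [ha] at hmu; omega
        · exact h'
      refine ⟨a, ha0, by rw [hmu, ha]; ring, Or.inl ?_⟩
      rw [hk0, hmu, hr, ha]; ring
    · obtain ⟨a, ha⟩ : ∃ a : ℕ, u = (a : ℤ) + 1 := ⟨(u - 1).toNat, by omega⟩
      have ha0 : 0 < a := by
        rcases Nat.eq_zero_or_pos a with rfl | h'
        · simp [ha] at hmu; omega
        · exact h'
      refine ⟨a, ha0, by rw [hmu, ha]; ring, Or.inr ?_⟩
      rw [hk0, hmu, hr, ha]; ring
  · rcases hu01 (by norm_num) with h | h <;> omega

end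

section
variable {G : Type*} [Group G] [Fintype G] {Ω : Type*} [Fintype Ω] [MulAction G Ω]

/-- A subrepresentation carrying a constituent, with the projection along an invariant
complement. -/
theorem exists_proj {χ : G → ℂ} (hχ : IsIrrCharacter G χ)
    (h1 : classInner (permRep ℂ G Ω).character χ = 1) :
    ∃ (A B : Subrepresentation (permRep ℂ G Ω)), A.toRepresentation.IsIrreducible ∧
      A.toRepresentation.character = χ ∧ IsCompl A.toSubmodule B.toSubmodule ∧
      classInner B.toRepresentation.character χ = 0 := by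
  obtain ⟨A, hA, hAχ⟩ := exists_sub (permRep ℂ G Ω) hχ (by rw [h1]; exact one_ne_zero)
  obtain ⟨B, hAB⟩ := exists_isCompl (permRep ℂ G Ω) A
  refine ⟨A, B, hA, hAχ, hAB, ?_⟩
  rw [character_eq_add_of_isCompl _ A B hAB, classInner_add_left, hAχ,
    classInner_irr_self hχ] at h1
  linear_combination h1

/-- The spectral decomposition for the three constituents. -/
theorem spectral [MulAction.IsPretransitive G Ω] (a₀ : Ω) (χ₁ χ₂ : G → ℂ)
    (h₁ : IsIrrCharacter G χ₁) (h₂ : IsIrrCharacter G χ₂)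
    (hπ : (permRep ℂ G Ω).character = fun g => 1 + χ₁ g + χ₂ g) (hne : χ₁ ≠ χ₂)
    {R : Ω → Ω → Prop} {k : ℕ} (hR : ∀ (g : G) x y, R x y → R (g • x) (g • y))
    (hk : ∀ x, Nat.card {y // R x y} = k) :
    ∃ r s : ℂ,
      LinearMap.trace ℂ _ (relOp R) = k + r * χ₁ 1 + s * χ₂ 1 ∧
      LinearMap.trace ℂ _ (relOp R * relOp R) = (k : ℂ) ^ 2 + r ^ 2 * χ₁ 1 + s ^ 2 * χ₂ 1 ∧
      ∀ v x, relOp R (relOp R v) x - (r + s) * relOp R v x + r * s * v x =
        (k - r) * (k - s) * ((Fintype.card Ω : ℂ)⁻¹ * ∑ y, v y) := by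
  classical
  set ρ := permRep ℂ G Ω with hρ
  let one : G → ℂ := fun _ => 1
  have hone : IsIrrCharacter G one := isIrrCharacter_one
  have hπ' : ρ.character = one + χ₁ + χ₂ := hπ
  have h10 : χ₁ ≠ one ∧ χ₂ ≠ one := by
    have hm := mult_one (G := G) a₀
    obtain ⟨i, hi⟩ := IsCharacter.exists_nat_classInner (IsIrrCharacter.isCharacter h₁)
      (IsIrrCharacter.isCharacter hone)
    obtain ⟨j, hj⟩ := IsCharacter.exists_nat_classInner (IsIrrCharacter.isCharacter h₂)
      (IsIrrCharacter.isCharacter hone)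
    rw [← hρ, hπ', show (fun _ : G => (1 : ℂ)) = one from rfl, classInner_add_left,
      classInner_add_left, classInner_irr_self hone, hi, hj] at hm
    have : 1 + i + j = 1 := by exact_mod_cast hm
    constructor <;> intro he
    · rw [he, classInner_irr_self hone] at hi
      have : i = 1 := by exact_mod_cast hi.symm
      omega
    · rw [he, classInner_irr_self hone] at hj
      have : j = 1 := by exact_mod_cast hj.symm
      omega
  have hinner : ∀ χ, IsIrrCharacter G χ → classInner ρ.character χ =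
      (if one = χ then 1 else 0) + (if χ₁ = χ then 1 else 0) + (if χ₂ = χ then 1 else 0) := by
    intro χ hχ
    rw [hπ', classInner_add_left, classInner_add_left]
    have : ∀ φ, IsIrrCharacter G φ → classInner φ χ = if φ = χ then 1 else 0 := by
      intro φ hφ
      split_ifs with h
      · rw [h]; exact classInner_irr_self hχ
      · exact classInner_irr_of_ne hφ hχ h
    rw [this one hone, this χ₁ h₁, this χ₂ h₂]
  have hmf : ∀ χ : G → ℂ, IsIrrCharacter G χ →
      classInner ρ.character χ = 0 ∨ classInner ρ.character χ = 1 := by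
    intro χ hχ
    rw [hinner χ hχ]
    by_cases e0 : one = χ
    · subst e0; simp [h10.1, h10.2]
    by_cases e1 : χ₁ = χ
    · subst e1; simp [e0, hne.symm]
    by_cases e2 : χ₂ = χ <;> simp [e0, e1, e2]
  obtain ⟨A₀, B₀, hA₀, hc₀, hAB₀, hB₀⟩ := exists_proj (G := G) hone (mult_one (G := G) a₀)
  obtain ⟨A₁, B₁, hA₁, hc₁, hAB₁, hB₁⟩ := exists_proj (G := G) h₁
    (by rw [hinner χ₁ h₁]; simp [h10.1.symm, hne.symm])
  obtain ⟨A₂, B₂, hA₂, hc₂, hAB₂, hB₂⟩ := exists_proj (G := G) h₂
    (by rw [hinner χ₂ h₂]; simp [h10.2.symm, hne])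
  -- a constituent lies in the complement of each other one
  have hle : ∀ (A A' B' : Subrepresentation ρ) (χ χ' : G → ℂ), IsIrrCharacter G χ →
      IsIrrCharacter G χ' → χ ≠ χ' → A.toRepresentation.character = χ →
      A'.toRepresentation.character = χ' → IsCompl A'.toSubmodule B'.toSubmodule →
      A.toSubmodule ≤ B'.toSubmodule := by
    intro A A' B' χ χ' hχ hχ' hn hA hA' hc x hx
    obtain ⟨a, ha, b, hb, hab⟩ := Submodule.mem_sup.1
      (show x ∈ A'.toSubmodule ⊔ B'.toSubmodule by rw [hc.sup_eq_top]; trivial)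
    let p := Submodule.projectionOnto A'.toSubmodule B'.toSubmodule hc
    have hp : ∀ g v, p (ρ g v) = A'.toRepresentation g (p v) := by
      intro g v
      obtain ⟨c, hc1, d, hd, rfl⟩ := Submodule.mem_sup.1
        (show v ∈ A'.toSubmodule ⊔ B'.toSubmodule by rw [hc.sup_eq_top]; trivial)
      rw [map_add (ρ g)]
      simp only [p, map_add]
      rw [Submodule.projectionOnto_apply_left _ ⟨ρ g c, A'.apply_mem_toSubmodule g hc1⟩,
        Submodule.projectionOnto_apply_left _ ⟨c, hc1⟩,
        Submodule.projectionOnto_apply_right _ ⟨ρ g d, B'.apply_mem_toSubmodule g hd⟩,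
        Submodule.projectionOnto_apply_right _ ⟨d, hd⟩]
      simp only [map_zero, add_zero]
      rfl
    have h0 := eq_zero_of_disjoint A.toRepresentation A'.toRepresentation
      (by rw [hA, hA']; exact classInner_irr_of_ne hχ' hχ hn.symm)
      (p ∘ₗ A.toSubmodule.subtype) (fun g y => hp g y)
    exact (Submodule.projectionOnto_apply_eq_zero_iff hc).1 (LinearMap.congr_fun h0 ⟨x, hx⟩)
  -- projections
  let P₀ := A₀.toSubmodule.subtype ∘ₗ Submodule.projectionOnto A₀.toSubmodule B₀.toSubmodule hAB₀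
  let P₁ := A₁.toSubmodule.subtype ∘ₗ Submodule.projectionOnto A₁.toSubmodule B₁.toSubmodule hAB₁
  let P₂ := A₂.toSubmodule.subtype ∘ₗ Submodule.projectionOnto A₂.toSubmodule B₂.toSubmodule hAB₂
  have hz : ∀ (A B : Submodule ℂ (Ω → ℂ)) (h : IsCompl A B) (v : Ω → ℂ), v ∈ B →
      (A.subtype ∘ₗ Submodule.projectionOnto A B h) v = 0 := fun A B h v hv => by
    simp [(Submodule.projectionOnto_apply_eq_zero_iff h).2 hv]
  have hid : ∀ (A B : Submodule ℂ (Ω → ℂ)) (h : IsCompl A B) (v : Ω → ℂ), v ∈ A →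
      (A.subtype ∘ₗ Submodule.projectionOnto A B h) v = v := fun A B h v hv => by
    simp [Submodule.projectionOnto_apply_left h ⟨v, hv⟩]
  have hproj : ∀ (A B : Submodule ℂ (Ω → ℂ)) (h : IsCompl A B),
      LinearMap.IsProj A (A.subtype ∘ₗ Submodule.projectionOnto A B h) := fun A B h =>
    ⟨fun v => (Submodule.projectionOnto A B h v).2, hid A B h⟩
  have hK : ∀ v, v ∈ B₀.toSubmodule → v ∈ B₁.toSubmodule → v ∈ B₂.toSubmodule → v = 0 := by
    intro v v0 v1 v2
    let K : Subrepresentation ρ := ⟨B₀.toSubmodule ⊓ B₁.toSubmodule ⊓ B₂.toSubmodule,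
      fun g x hx => ⟨⟨B₀.apply_mem_toSubmodule g hx.1.1, B₁.apply_mem_toSubmodule g hx.1.2⟩,
        B₂.apply_mem_toSubmodule g hx.2⟩⟩
    have hsub : ∀ (B : Subrepresentation ρ) (χ : G → ℂ), IsIrrCharacter G χ →
        K.toSubmodule ≤ B.toSubmodule → classInner B.toRepresentation.character χ = 0 →
        classInner K.toRepresentation.character χ = 0 := by
      intro B χ hχ hKB h0
      by_contra hne0
      obtain ⟨n, σ, -, rfl⟩ := hχ
      obtain ⟨f, hf0, hf⟩ := exists_ne_zero_of_meet σ K.toRepresentation hne0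
      have h2 := eq_zero_of_disjoint σ B.toRepresentation h0
        (Submodule.inclusion hKB ∘ₗ f) (fun g y => by
          show Submodule.inclusion hKB (f (σ g y)) = _
          rw [hf]
          rfl)
      exact hf0 (LinearMap.ext fun y => Subtype.ext
        (congrArg Subtype.val (LinearMap.congr_fun h2 y) :))
    have hK0 : K.toRepresentation.character = 0 := by
      rw [eq_sum_classInner_smul (IsCharacter.isClassFunction (isCharacter_character _))]
      refine Finset.sum_eq_zero fun χ _ => ?_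
      rw [smul_eq_zero]
      left
      by_cases e0 : χ.1 = one
      · rw [e0]; exact hsub B₀ one hone (fun x hx => hx.1.1) hB₀
      by_cases e1 : χ.1 = χ₁
      · rw [e1]; exact hsub B₁ χ₁ h₁ (fun x hx => hx.1.2) hB₁
      by_cases e2 : χ.1 = χ₂
      · rw [e2]; exact hsub B₂ χ₂ h₂ (fun x hx => hx.2) hB₂
      have h3 := hinner χ.1 χ.2
      rw [if_neg (Ne.symm e0), if_neg (Ne.symm e1), if_neg (Ne.symm e2)] at h3
      obtain ⟨n, n', hn, hn'⟩ := exists_mult_le ρ K χ.2
      rw [hn'] at h3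
      have : n + n' = 0 := by
        simp only [add_zero] at h3
        exact_mod_cast h3
      rw [hn, show n = 0 by omega, Nat.cast_zero]
    have hdim := congrFun hK0 1
    rw [Representation.char_one, Pi.zero_apply, Nat.cast_eq_zero] at hdim
    exact (Submodule.eq_bot_iff _).1 (Submodule.finrank_eq_zero.1 hdim) v ⟨⟨v0, v1⟩, v2⟩
  have hm₀ : ∀ v, P₀ v ∈ A₀.toSubmodule := fun v => (Submodule.projectionOnto _ _ hAB₀ v).2
  have hm₁ : ∀ v, P₁ v ∈ A₁.toSubmodule := fun v => (Submodule.projectionOnto _ _ hAB₁ v).2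
  have hm₂ : ∀ v, P₂ v ∈ A₂.toSubmodule := fun v => (Submodule.projectionOnto _ _ hAB₂ v).2
  have hsum : ∀ v, P₀ v + P₁ v + P₂ v = v := by
    intro v
    refine (sub_eq_zero.1 (hK _ ?_ ?_ ?_)).symm
    · rw [← Submodule.projectionOnto_apply_eq_zero_iff hAB₀]
      apply Subtype.ext
      show P₀ (v - (P₀ v + P₁ v + P₂ v)) = 0
      rw [map_sub, map_add, map_add, hid _ _ hAB₀ (P₀ v) (hm₀ v),
        hz _ _ hAB₀ (P₁ v) (hle A₁ A₀ B₀ χ₁ one h₁ hone h10.1 hc₁ hc₀ hAB₀ (hm₁ v)),
        hz _ _ hAB₀ (P₂ v) (hle A₂ A₀ B₀ χ₂ one h₂ hone h10.2 hc₂ hc₀ hAB₀ (hm₂ v))]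
      abel
    · rw [← Submodule.projectionOnto_apply_eq_zero_iff hAB₁]
      apply Subtype.ext
      show P₁ (v - (P₀ v + P₁ v + P₂ v)) = 0
      rw [map_sub, map_add, map_add, hid _ _ hAB₁ (P₁ v) (hm₁ v),
        hz _ _ hAB₁ (P₀ v) (hle A₀ A₁ B₁ one χ₁ hone h₁ h10.1.symm hc₀ hc₁ hAB₁ (hm₀ v)),
        hz _ _ hAB₁ (P₂ v) (hle A₂ A₁ B₁ χ₂ χ₁ h₂ h₁ hne.symm hc₂ hc₁ hAB₁ (hm₂ v))]
      abel
    · rw [← Submodule.projectionOnto_apply_eq_zero_iff hAB₂]
      apply Subtype.ext
      show P₂ (v - (P₀ v + P₁ v + P₂ v)) = 0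
      rw [map_sub, map_add, map_add, hid _ _ hAB₂ (P₂ v) (hm₂ v),
        hz _ _ hAB₂ (P₀ v) (hle A₀ A₂ B₂ one χ₂ hone h₂ h10.2.symm hc₀ hc₂ hAB₂ (hm₀ v)),
        hz _ _ hAB₂ (P₁ v) (hle A₁ A₂ B₂ χ₁ χ₂ h₁ h₂ hne hc₁ hc₂ hAB₂ (hm₁ v))]
      abel
  have hconst : ∀ x ∈ A₀.toSubmodule, x = fun _ => x a₀ := by
    intro x hx
    refine eq_const_of_fixed (G := G) a₀ fun g => ?_
    obtain ⟨e⟩ := nonempty_equiv_of_character_eq A₀.toRepresentation (linearRep (1 : G →* ℂ))
      (by rw [hc₀, character_linearRep]; rfl)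
    have h := Representation.IntertwiningMap.isIntertwining _ _ e.toIntertwiningMap g ⟨x, hx⟩
    have h' : e.toLinearEquiv (A₀.toRepresentation g ⟨x, hx⟩) = e.toLinearEquiv ⟨x, hx⟩ := by
      refine h.trans ?_
      simp [linearRep]
      rfl
    exact congrArg Subtype.val (e.toLinearEquiv.injective h')
  set T := relOp R with hT
  have hTk : ∀ x ∈ A₀.toSubmodule, T x = (k : ℂ) • x := fun x hx => by
    rw [hconst x hx]
    exact relOp_const hk _
  haveI := hA₁
  haveI := hA₂
  obtain ⟨r, hr⟩ := exists_scalar ρ hmf A₁ T (fun g x => relOp_comm hR g x)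
  obtain ⟨s, hs⟩ := exists_scalar ρ hmf A₂ T (fun g x => relOp_comm hR g x)
  have hTdec : T = (k : ℂ) • P₀ + r • P₁ + s • P₂ := LinearMap.ext fun v => by
    conv_lhs => rw [← hsum v]
    simp only [map_add, hTk _ (hm₀ v), hr _ (hm₁ v), hs _ (hm₂ v), LinearMap.add_apply,
      LinearMap.smul_apply]
  have hTT : T * T = (k : ℂ) ^ 2 • P₀ + r ^ 2 • P₁ + s ^ 2 • P₂ := LinearMap.ext fun v => by
    rw [Module.End.mul_apply]
    conv_lhs => rw [← hsum v]
    simp only [map_add, map_smul, hTk _ (hm₀ v), hr _ (hm₁ v), hs _ (hm₂ v), smul_smul, ← sq,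
      LinearMap.add_apply, LinearMap.smul_apply]
  have hdim : ∀ (A : Subrepresentation ρ) (χ : G → ℂ), A.toRepresentation.character = χ →
      (Module.finrank ℂ A.toSubmodule : ℂ) = χ 1 := fun A χ h => by
    rw [← h, Representation.char_one]
  have htr : ∀ a b c : ℂ, LinearMap.trace ℂ _ (a • P₀ + b • P₁ + c • P₂) =
      a + b * χ₁ 1 + c * χ₂ 1 := by
    intro a b c
    rw [map_add, map_add, map_smul, map_smul, map_smul, (hproj _ _ hAB₀).trace,
      (hproj _ _ hAB₁).trace, (hproj _ _ hAB₂).trace, hdim A₀ one hc₀, hdim A₁ χ₁ hc₁,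
      hdim A₂ χ₂ hc₂]
    simp [one]
  refine ⟨r, s, by rw [hTdec, htr], by rw [hTT, htr], fun v x => ?_⟩
  -- the projection to the constants is the average
  have havg : P₀ v x = (Fintype.card Ω : ℂ)⁻¹ * ∑ y, v y := by
    obtain ⟨c, hc⟩ : ∃ c : ℂ, P₀ v = fun _ => c := ⟨_, hconst _ (hm₀ v)⟩
    have hb : ∀ b ∈ B₀.toSubmodule, ∑ y, b y = 0 := by
      let φ : B₀.toSubmodule →ₗ[ℂ] ℂ :=
        { toFun := fun b => ∑ y, (b : Ω → ℂ) y
          map_add' := fun b b' => by simp [Finset.sum_add_distrib]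
          map_smul' := fun t b => by simp [Finset.mul_sum] }
      have hφ := eq_zero_of_disjoint B₀.toRepresentation (linearRep (1 : G →* ℂ)) (by
        rw [character_linearRep, show ((1 : G →* ℂ) : G → ℂ) = one from rfl, ← conj_classInner,
          hB₀, map_zero]) φ (fun g b => by
          show ∑ y, (b : Ω → ℂ) (g⁻¹ • y) = linearRep (1 : G →* ℂ) g (φ b)
          simp only [linearRep]
          simp only [MonoidHom.coe_comp, Function.comp_apply, MonoidHom.one_apply, map_one,
            Module.End.one_apply]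
          exact Fintype.sum_equiv (MulAction.toPerm g⁻¹) _ _ fun y => rfl)
      exact fun b hb => LinearMap.congr_fun hφ ⟨b, hb⟩
    have hmem : v - P₀ v ∈ B₀.toSubmodule := by
      rw [← Submodule.projectionOnto_apply_eq_zero_iff hAB₀]
      apply Subtype.ext
      show P₀ (v - P₀ v) = 0
      rw [map_sub, hid _ _ hAB₀ (P₀ v) (hm₀ v), sub_self]
    have h := hb _ hmem
    simp only [Pi.sub_apply, Finset.sum_sub_distrib, hc, Finset.sum_const, Finset.card_univ,
      nsmul_eq_mul] at h
    rw [hc]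
    have hn : (Fintype.card Ω : ℂ) ≠ 0 := by
      haveI : Nonempty Ω := ⟨a₀⟩
      exact Nat.cast_ne_zero.2 Fintype.card_ne_zero
    rw [sub_eq_zero] at h
    show c = _
    rw [h]
    field_simp
  have e1 := congrFun (LinearMap.congr_fun hTT v) x
  have e2 := congrFun (LinearMap.congr_fun hTdec v) x
  have e3 := congrFun (hsum v) x
  simp only [Module.End.mul_apply] at e1
  simp only [LinearMap.add_apply, LinearMap.smul_apply, Pi.add_apply, Pi.smul_apply,
    smul_eq_mul] at e1 e2 e3
  rw [← havg, e1, e2]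
  linear_combination -(r * s) * e3

end

/-- Groups of Wielandt type: if a primitive group of degree `2m` has rank 3 and permutation character `1 + χ₁ + χ₂` with irreducible `χ₁, χ₂` of degrees `m - 1` and `m`, then `m = 2a² + 2a + 1` for some positive integer `a` and the two non-trivial subdegrees are `a(2a+1)` and `(a+1)(2a+1)`. -/
theorem result {G : Type*} [Group G] [Fintype G] {Ω : Type*} [Fintype Ω] [MulAction G Ω] (hprim : MulAction.IsPreprimitive G Ω) {m : ℕ} (hm : Fintype.card Ω = 2 * m) (a₀ : Ω) (hrank : Nat.card (MulAction.orbitRel.Quotient (MulAction.stabilizer G a₀) Ω) = 3) (χ₁ χ₂ : G → ℂ) (h₁ : Cfsg.IsIrrCharacter G χ₁) (h₂ : Cfsg.IsIrrCharacter G χ₂) (hπ : (fun g : G => (Nat.card (MulAction.fixedBy Ω g) : ℂ)) = fun g => 1 + χ₁ g + χ₂ g) (hd₁ : χ₁ 1 = (m : ℂ) - 1) (hd₂ : χ₂ 1 = m) : ∃ a : ℕ, 0 < a ∧ m = 2 * a ^ 2 + 2 * a + 1 ∧ ∀ b : Ω, b ≠ a₀ → Nat.card (MulAction.orbit (MulAction.stabilizer G a₀) b) = a * (2 * a + 1) ∨ Nat.card (MulAction.orbit (MulAction.stabilizer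 G a₀) b) = (a + 1) * (2 * a + 1) := by
  classical
  haveI := hprim
  have hπ' : (Cfsg.permRep ℂ G Ω).character = fun g => 1 + χ₁ g + χ₂ g :=
    character_permRep.trans hπ
  -- three orbits of the stabiliser
  have hcard3 : Fintype.card (MulAction.orbitRel.Quotient (MulAction.stabilizer G a₀) Ω) = 3 := by
    rw [← Nat.card_eq_fintype_card, hrank]
  have hmk : ∀ x y : Ω, ((Quotient.mk _ x :
      MulAction.orbitRel.Quotient (MulAction.stabilizer G a₀) Ω) = Quotient.mk _ y) ↔
      x ∈ MulAction.orbit (MulAction.stabilizer G a₀) y := fun x y => by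
    rw [Quotient.eq]
    exact MulAction.orbitRel_apply
  have horba : ∀ x, x ∈ MulAction.orbit (MulAction.stabilizer G a₀) a₀ → x = a₀ := by
    rintro x ⟨g, rfl⟩
    exact g.2
  -- no suborbit of size one
  have hno1 : ∀ b, b ≠ a₀ → 2 ≤ subdeg G a₀ b := by
    intro b hb
    haveI : Nonempty (MulAction.orbit (MulAction.stabilizer G a₀) b) :=
      ⟨⟨b, MulAction.mem_orbit_self b⟩⟩
    have hpos : 0 < subdeg G a₀ b := Nat.card_pos
    by_contra hlt
    have h1 : subdeg G a₀ b = 1 := by omega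
    have hfix : ∀ g : G, g • a₀ = a₀ → g • b = b := fun g hg => by
      haveI := (Nat.card_eq_one_iff_unique.1 h1).1
      exact congrArg Subtype.val (Subsingleton.elim
        (⟨g • b, ⟨⟨g, hg⟩, rfl⟩⟩ : MulAction.orbit (MulAction.stabilizer G a₀) b)
        ⟨b, MulAction.mem_orbit_self b⟩)
    have hle : MulAction.stabilizer G a₀ ≤ MulAction.stabilizer G b := fun g hg => hfix g hg
    have heq : MulAction.stabilizer G a₀ = MulAction.stabilizer G b := by
      refine Subgroup.eq_of_le_of_card_ge hle (le_of_eq ?_)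
      have h2 := (MulAction.stabilizer G a₀).card_mul_index
      have h3 := (MulAction.stabilizer G b).card_mul_index
      rw [MulAction.index_stabilizer_of_transitive] at h2 h3
      haveI : Nonempty Ω := ⟨a₀⟩
      exact Nat.eq_of_mul_eq_mul_right Nat.card_pos (h3.trans h2.symm)
    have hB : MulAction.IsBlock G
        {x : Ω | MulAction.stabilizer G x = MulAction.stabilizer G a₀} := by
      rw [MulAction.isBlock_iff_smul_eq_of_mem]
      intro g x hx hgx
      simp only [Set.mem_ofPred_eq] at hx hgx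
      have hconj : (MulAction.stabilizer G a₀).map (MulAut.conj g).toMonoidHom =
          MulAction.stabilizer G a₀ := by
        rw [← hx, ← MulAction.stabilizer_smul_eq_stabilizer_map_conj, hgx, hx]
      ext y
      rw [Set.mem_smul_set_iff_inv_smul_mem]
      simp only [Set.mem_ofPred_eq]
      constructor
      · intro hy
        rw [show y = g • g⁻¹ • y from (smul_inv_smul g y).symm,
          MulAction.stabilizer_smul_eq_stabilizer_map_conj, hy, hconj]
      · intro hy
        have h5 := hy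
        rw [show y = g • g⁻¹ • y from (smul_inv_smul g y).symm,
          MulAction.stabilizer_smul_eq_stabilizer_map_conj, ← hconj] at h5
        exact Subgroup.map_injective (MulAut.conj g).injective h5
    rcases MulAction.IsPreprimitive.isTrivialBlock_of_isBlock hB with h | h
    · exact hb (h (show b ∈ _ from heq.symm) (show a₀ ∈ _ from rfl))
    · have hall : ∀ x : Ω, MulAction.stabilizer G x = MulAction.stabilizer G a₀ := fun x =>
        Set.eq_univ_iff_forall.1 h x
      have : Fintype.card (MulAction.orbitRel.Quotient (MulAction.stabilizer G a₀) Ω) =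
          Fintype.card Ω := by
        refine (Fintype.card_congr (Equiv.ofBijective (fun x : Ω => Quotient.mk _ x)
          ⟨fun x y hxy => ?_, Quotient.mk_surjective⟩)).symm
        obtain ⟨g, hg⟩ := (hmk x y).1 hxy
        rw [← hg]
        have : (g : G) ∈ MulAction.stabilizer G y := by rw [hall]; exact g.2
        exact this
      omega
  -- data for a fixed suborbit
  have main : ∀ b, b ≠ a₀ → ∃ a : ℕ, 0 < a ∧ m = 2 * a ^ 2 + 2 * a + 1 ∧
      (subdeg G a₀ b = a * (2 * a + 1) ∨ subdeg G a₀ b = (a + 1) * (2 * a + 1)) := by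
    intro b hb
    let qa : MulAction.orbitRel.Quotient (MulAction.stabilizer G a₀) Ω := Quotient.mk _ a₀
    let qb : MulAction.orbitRel.Quotient (MulAction.stabilizer G a₀) Ω := Quotient.mk _ b
    have hab : qb ≠ qa := fun h => hb (horba b ((hmk b a₀).1 h))
    obtain ⟨qc, hqc⟩ : ∃ qc, qc ∉ ({qa, qb} : Finset _) := by
      by_contra! hall
      have := Finset.card_le_card (fun q (_ : q ∈ Finset.univ) => hall q)
      rw [Finset.card_univ, hcard3] at this
      have := this.trans Finset.card_le_two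
      omega
    obtain ⟨c, rfl⟩ := Quotient.exists_rep qc
    simp only [Finset.mem_insert, Finset.mem_singleton, not_or] at hqc
    have hca : c ≠ a₀ := fun h => hqc.1 (by rw [h])
    have huniv : ({qa, qb, Quotient.mk _ c} :
        Finset (MulAction.orbitRel.Quotient (MulAction.stabilizer G a₀) Ω)) = Finset.univ := by
      refine Finset.eq_univ_of_card _ ?_
      rw [hcard3, Finset.card_insert_of_notMem (by simp [hab.symm, Ne.symm hqc.1]),
        Finset.card_insert_of_notMem (by simp [Ne.symm hqc.2]), Finset.card_singleton]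
    have hcover : ∀ y, y ≠ a₀ → y ∈ MulAction.orbit (MulAction.stabilizer G a₀) b ∨
        y ∈ MulAction.orbit (MulAction.stabilizer G a₀) c := by
      intro y hy
      have := huniv.symm ▸ Finset.mem_univ
        (Quotient.mk _ y : MulAction.orbitRel.Quotient (MulAction.stabilizer G a₀) Ω)
      simp only [Finset.mem_insert, Finset.mem_singleton] at this
      rcases this with h | h | h
      · exact absurd (horba y ((hmk y a₀).1 h)) hy
      · exact Or.inl ((hmk y b).1 h)
      · exact Or.inr ((hmk y c).1 h)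
    have hsubd : ∀ y z, y ∈ MulAction.orbit (MulAction.stabilizer G a₀) z →
        subdeg G a₀ y = subdeg G a₀ z := fun y z h => by
      simp only [subdeg, MulAction.orbit_eq_iff.2 h]
    set k := subdeg G a₀ b with hkdef
    set l := subdeg G a₀ c with hldef
    have hkl : 1 + k + l = 2 * m := by
      rw [← hm, ← Nat.card_eq_fintype_card,
        Nat.card_congr (MulAction.selfEquivSigmaOrbits (MulAction.stabilizer G a₀) Ω),
        Nat.card_sigma, ← huniv, Finset.sum_insert (by simp [hab.symm, Ne.symm hqc.1]),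
        Finset.sum_insert (by simp [Ne.symm hqc.2]), Finset.sum_singleton]
      have hout : ∀ z : Ω, Nat.card (MulAction.orbit (MulAction.stabilizer G a₀)
          (Quotient.mk _ z : MulAction.orbitRel.Quotient (MulAction.stabilizer G a₀) Ω).out) =
          subdeg G a₀ z := fun z =>
        hsubd _ z ((hmk _ z).1 (Quotient.out_eq _))
      rw [hout, hout, hout, ← hkdef, ← hldef]
      have : subdeg G a₀ a₀ = 1 := by
        rw [subdeg, Nat.card_eq_one_iff_unique]
        exact ⟨⟨fun x y => Subtype.ext ((horba x x.2).trans (horba y y.2).symm)⟩,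
          ⟨⟨a₀, MulAction.mem_orbit_self _⟩⟩⟩
      omega
    let R : Ω → Ω → Prop := fun x y => x ≠ y ∧ subdeg G x y = k
    have hR : ∀ (g : G) x y, R x y → R (g • x) (g • y) := fun g x y h =>
      ⟨fun he => h.1 (smul_left_cancel g he), (subdeg_smul g x y).trans h.2⟩
    have hirr : ∀ x, ¬ R x x := fun x h => h.1 rfl
    have hsymm : ∀ x y, R x y → R y x := fun x y h =>
      ⟨fun he => h.1 he.symm, (subdeg_comm y x).trans h.2⟩
    have hRa : ∀ y, R a₀ y ↔ y ∈ MulAction.orbit (MulAction.stabilizer G a₀) b := by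
      intro y
      constructor
      · rintro ⟨h1, h2⟩
        rcases hcover y h1.symm with h | h
        · exact h
        · exfalso
          rw [hsubd y c h, ← hldef] at h2
          omega
      · intro h
        refine ⟨fun he => hb ?_, hsubd y b h⟩
        rw [← he] at h
        exact horba b (MulAction.mem_orbit_symm.1 h)
    have hk : ∀ x, Nat.card {y // R x y} = k := by
      intro x
      obtain ⟨g, rfl⟩ := MulAction.exists_smul_eq G a₀ x
      rw [hkdef, subdeg]
      refine (Nat.card_congr (Equiv.subtypeEquiv (MulAction.toPerm g) fun y => ?_)).symm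
      rw [← hRa]
      exact ⟨hR g a₀ y, fun h => by simpa using hR g⁻¹ _ _ h⟩
    have hk2 : 2 ≤ k := hno1 b hb
    have hl2 : 2 ≤ l := hno1 c hca
    have hne : χ₁ ≠ χ₂ := fun h => by
      rw [h, hd₂] at hd₁
      exact one_ne_zero (by linear_combination hd₁ : (1 : ℂ) = 0)
    obtain ⟨r, s, ht1, ht2, ht3⟩ := spectral a₀ χ₁ χ₂ h₁ h₂ hπ' hne hR hk
    rw [trace_relOp hirr, hd₁, hd₂] at ht1
    rw [trace_relOp_sq hk hsymm, hd₁, hd₂, hm, Nat.cast_mul] at ht2
    have hδ : ∀ x y : Ω, relOp R (Pi.single b 1) y = if R y b then 1 else 0 := by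
      intro _ y
      rw [relOp_apply, Finset.sum_pi_single']
      simp
    have hTT : ∀ x, ∃ N : ℕ, relOp R (relOp R (Pi.single b 1)) x = N := by
      intro x
      refine ⟨((Finset.univ.filter (R x)).filter (fun y => R y b)).card, ?_⟩
      rw [relOp_apply, Finset.sum_congr rfl fun y _ => hδ x y, Finset.sum_boole]
      congr 2
      ext z
      simp
    have hx0 : ∃ x, x ≠ b ∧ ¬ R x b := by
      obtain ⟨g, hg⟩ := MulAction.exists_smul_eq G a₀ b
      refine ⟨g • c, fun he => hca ?_, fun h => ?_⟩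
      · rw [← hg] at he
        exact smul_left_cancel g he
      · have h2 := hsymm _ _ h
        rw [← hg] at h2
        have h3 : R a₀ c := by simpa using hR g⁻¹ _ _ h2
        exact hqc.2 ((hmk c b).2 ((hRa c).1 h3))
    obtain ⟨x₀, hx₀, hx₀'⟩ := hx0
    have hx1 : R a₀ b := ⟨hb.symm, rfl⟩
    obtain ⟨N₁, hN₁⟩ := hTT a₀
    obtain ⟨N₀, hN₀⟩ := hTT x₀
    have e₁ := ht3 (Pi.single b 1) a₀
    have e₀ := ht3 (Pi.single b 1) x₀
    rw [hN₁, hδ a₀ a₀, if_pos hx1, Pi.single_eq_of_ne hb.symm] at e₁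
    rw [hN₀, hδ x₀ x₀, if_neg hx₀', Pi.single_eq_of_ne hx₀] at e₀
    have hrs : r + s = (N₁ : ℂ) - N₀ := by linear_combination e₀ - e₁
    let σ : ℤ := (N₁ : ℤ) - N₀
    let sz : ℤ := -(k : ℤ) - ((m : ℤ) - 1) * σ
    let rz : ℤ := σ - sz
    have hs : s = (sz : ℂ) := by
      simp only [sz, σ]
      push_cast
      linear_combination -ht1 - ((m : ℂ) - 1) * hrs
    have hr : r = (rz : ℂ) := by
      simp only [rz, Int.cast_sub, ← hs]
      simp only [σ]
      push_cast
      linear_combination hrs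
    rw [hr, hs] at ht1 ht2
    have h1 : (k : ℤ) + ((m : ℤ) - 1) * rz + m * sz = 0 := by
      have : ((k : ℤ) : ℂ) + (((m : ℤ) : ℂ) - 1) * (rz : ℂ) + ((m : ℤ) : ℂ) * (sz : ℂ) = 0 := by
        push_cast
        linear_combination -ht1
      exact_mod_cast this
    have h2 : (k : ℤ) ^ 2 + ((m : ℤ) - 1) * rz ^ 2 + m * sz ^ 2 = 2 * m * k := by
      have : ((k : ℤ) : ℂ) ^ 2 + (((m : ℤ) : ℂ) - 1) * (rz : ℂ) ^ 2 +
          ((m : ℤ) : ℂ) * (sz : ℂ) ^ 2 = 2 * ((m : ℤ) : ℂ) * ((k : ℤ) : ℂ) := by
        push_cast at ht2 ⊢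
        linear_combination -ht2
      exact_mod_cast this
    obtain ⟨a, ha, hma, hka⟩ := diophantine (by omega) (by omega) (by omega) h1 h2
    refine ⟨a, ha, by exact_mod_cast hma, ?_⟩
    rcases hka with h | h
    · exact Or.inl (by exact_mod_cast h)
    · exact Or.inr (by exact_mod_cast h)
  obtain ⟨b₀, hb₀⟩ : ∃ b, b ≠ a₀ := by
    by_contra! hall
    haveI : Subsingleton (MulAction.orbitRel.Quotient (MulAction.stabilizer G a₀) Ω) :=
      ⟨fun p q => by
        induction p using Quotient.inductionOn with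
        | _ x => induction q using Quotient.inductionOn with
          | _ y => rw [hall x, hall y]⟩
    have := Fintype.card_le_one_iff_subsingleton.2 this
    omega
  obtain ⟨a, ha, hma, -⟩ := main b₀ hb₀
  refine ⟨a, ha, hma, fun b hb => ?_⟩
  obtain ⟨a', -, hma', h⟩ := main b hb
  have : a' = a := by
    rcases Nat.lt_trichotomy a' a with h' | h' | h'
    · have := Nat.pow_lt_pow_left h' (two_ne_zero)
      omega
    · exact h'
    · have := Nat.pow_lt_pow_left h' (two_ne_zero)
      omega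
  subst this
  exact h

end Cfsg.Agent.S0719
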