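import Cfsg.Statements.S0720
import Cfsg.Agent.Lib.TwoP.PSLCase
import Cfsg.Agent.Lib.TwoP.RankThree
import Cfsg.Agent.Lib.Perm.Jordan
import Cfsg.Agent.Lib.Char.KernelSum
import Cfsg.Agent.S4503
import Cfsg.Agent.S4504
-- import your own Cfsg.Agent.* helpers here

set_option autoImplicit false
open Cfsg

namespace Cfsg.Agent.S0720

open scoped MatrixGroups

variable {α : Type*} [Fintype α] [DecidableEq α]

/-- A group containing the alternating group is doubly transitive. -/
theorem two_transitive_of_alternating (h4 : 4 ≤ Fintype.card α) (G : Subgroup (Equiv.Perm α))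
    (hle : alternatingGroup α ≤ G) : MulAction.IsMultiplyPretransitive G α 2 := by
  haveI := alternatingGroup.isMultiplyPretransitive α
  rw [Nat.card_eq_fintype_card (α := α)] at this
  have h2 : MulAction.IsMultiplyPretransitive (alternatingGroup α) α 2 :=
    MulAction.isMultiplyPretransitive_of_le (n := Fintype.card α - 2) (by omega)
      (by simp [ENat.card_eq_coe_fintype_card])
  rw [MulAction.is_two_pretransitive_iff] at h2 ⊢
  intro a b c d h h'
  obtain ⟨g, h1, h3⟩ := h2 h h'
  exact ⟨⟨g, hle g.2⟩, h1, h3⟩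

/-- A primitive group of degree four is doubly transitive. -/
theorem two_transitive_of_four (h4 : Fintype.card α = 4) (G : Subgroup (Equiv.Perm α))
    [hG : MulAction.IsPreprimitive G α] (a₀ : α) : MulAction.IsMultiplyPretransitive G α 2 := by
  classical
  haveI : Fact (Nat.Prime 3) := ⟨Nat.prime_three⟩
  haveI : Fact (Nat.Prime 2) := ⟨Nat.prime_two⟩
  haveI : Nontrivial α := Fintype.one_lt_card_iff_nontrivial.1 (by omega)
  by_cases h3 : 3 ∣ Nat.card G
  · obtain ⟨g, hg⟩ := exists_prime_orderOf_dvd_card' 3 h3
    have ho : orderOf (g : Equiv.Perm α) = 3 := by rw [Subgroup.orderOf_coe, hg]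
    have hc : (g : Equiv.Perm α).IsCycle := Equiv.Perm.isCycle_of_prime_order' (by rw [ho]; exact Nat.prime_three)
      (by rw [ho, h4]; norm_num)
    refine two_transitive_of_alternating h4.ge G (Perm.alternatingGroup_le_of_support_le_three G hG g.2
      (fun h => by rw [h, orderOf_one] at ho; omega) ?_)
    rw [← hc.orderOf, ho]
  · exfalso
    have hdvd : Nat.card G ∣ 24 := by
      have h := Subgroup.card_subgroup_dvd_card G
      rw [Nat.card_perm, Nat.card_eq_fintype_card (α := α), h4] at h
      exact h
    have h8 : Nat.card G ∣ 2 ^ 3 := by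
      refine (((Nat.prime_three.coprime_iff_not_dvd).2 h3).symm).dvd_of_dvd_mul_left (m := 3) ?_
      exact hdvd
    obtain ⟨j, -, hj⟩ := (Nat.dvd_prime_pow Nat.prime_two).1 h8
    have hpG : IsPGroup 2 G := IsPGroup.of_card hj
    have hco := MulAction.IsPreprimitive.isCoatom_stabilizer_of_isPreprimitive (G := G) a₀
    haveI := hpG.isNilpotent
    have hn := Subgroup.NormalizerCondition.normal_of_coatom _ Group.normalizerCondition_of_isNilpotent hco
    have hidx := MulAction.index_stabilizer_of_transitive G a₀
    rw [Nat.card_eq_fintype_card (α := α), h4] at hidx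
    -- a normal maximal subgroup has prime index
    haveI := hn
    have hq : IsSimpleGroup (G ⧸ MulAction.stabilizer G a₀) := by
      haveI : Nontrivial (G ⧸ MulAction.stabilizer G a₀) := by
        refine Finite.one_lt_card_iff_nontrivial.1 ?_
        rw [← Subgroup.index_eq_card, hidx]; norm_num
      refine ⟨fun K hK => ?_⟩
      rcases hco.le_iff.1 (QuotientGroup.le_comap_mk' (MulAction.stabilizer G a₀) K) with h | h
      · exact Or.inr (Subgroup.comap_injective (QuotientGroup.mk'_surjective _)
          (h.trans (Subgroup.comap_top _).symm))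
      · refine Or.inl (Subgroup.comap_injective (QuotientGroup.mk'_surjective _) ?_)
        rw [h, MonoidHom.comap_bot, QuotientGroup.ker_mk']
    have hqp : IsPGroup 2 (G ⧸ MulAction.stabilizer G a₀) := hpG.to_quotient _
    haveI := hqp.center_nontrivial
    rcases (Subgroup.center (G ⧸ MulAction.stabilizer G a₀)).normal_of_characteristic.eq_bot_or_eq_top
      with h | h
    · exact absurd h (Subgroup.nontrivial_iff_ne_bot _ |>.1 inferInstance)
    · letI : CommGroup (G ⧸ MulAction.stabilizer G a₀) :=
        { (inferInstance : Group (G ⧸ MulAction.stabilizer G a₀)) with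
          mul_comm := fun x y => (Subgroup.mem_center_iff.1 (h ▸ Subgroup.mem_top y) x) }
      have := IsSimpleGroup.prime_card (α := G ⧸ MulAction.stabilizer G a₀)
      rw [← Subgroup.index_eq_card, hidx] at this
      norm_num at this

/-- Wielandt's Theorem on primitive groups of degree `2p`: such a group is doubly transitive, or it has rank 3, `p = 2a² + 2a + 1`, and subdegrees `a(2a+1)` and `(a+1)(2a+1)`. -/
theorem result {α : Type*} [Fintype α] [DecidableEq α] {p : ℕ} (hp : p.Prime) (hα : Fintype.card α = 2 * p) (G : Subgroup (Equiv.Perm α)) (hG : MulAction.IsPreprimitive G α) (a₀ : α) : MulAction.IsMultiplyPretransitive G α 2 ∨ (Nat.card (MulAction.orbitRel.Quotient (MulAction.stabilizer G a₀) α) = 3 ∧ ∃ a : ℕ, 0 < a ∧ p = 2 * a ^ 2 + 2 * a + 1 ∧ ∀ b : α, b ≠ a₀ → Nat.card (MulAction.orbit (MulAction.stabilizer G a₀) b) = a * (2 * a + 1) ∨ Nat.card (MulAction.orbit (MulAction.stabilizer G a₀) b) = (a + 1) * (2 * a + 1)) := by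
  classical
  haveI := hG
  haveI : Fact p.Prime := ⟨hp⟩
  by_cases h3 : 3 ≤ p
  swap
  · left
    obtain rfl : p = 2 := by have := hp.two_le; omega
    exact two_transitive_of_four hα G a₀
  haveI := Fintype.ofFinite G
  haveI : Nontrivial α := Fintype.one_lt_card_iff_nontrivial.1 (by omega)
  -- elements of order `p`
  by_cases hfix : ∀ g : G, orderOf g = p → ∀ z : α, g • z ≠ z
  swap
  · left
    push Not at hfix
    obtain ⟨g, hg, z, hz⟩ := hfix
    have ho : orderOf (g : Equiv.Perm α) = p := by rw [Subgroup.orderOf_coe, hg]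
    have hsupp : (g : Equiv.Perm α).support.card < 2 * p := by
      have hz' : z ∉ (g : Equiv.Perm α).support := by
        rw [Equiv.Perm.mem_support, not_not]; exact hz
      rw [← hα]
      exact Finset.card_lt_univ_of_notMem hz'
    have hc := Equiv.Perm.isCycle_of_prime_order (σ := (g : Equiv.Perm α)) (by rw [ho]; exact hp)
      (by rw [ho]; exact hsupp)
    refine two_transitive_of_alternating (by omega) G
      (Perm.alternatingGroup_le_of_prime_cycle G hG hp (by omega) hc ?_ g.2)
    rw [← hc.orderOf, ho]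
  have hpG : p ∣ Nat.card G := by
    have h := (MulAction.stabilizer G a₀).card_mul_index
    rw [MulAction.index_stabilizer_of_transitive, Nat.card_eq_fintype_card (α := α), hα] at h
    exact ⟨Nat.card (MulAction.stabilizer G a₀) * 2, by rw [← h]; ring⟩
  have hsq : ¬ p ^ 2 ∣ Nat.card G := by
    intro h
    obtain ⟨Q, hQ⟩ := Sylow.exists_subgroup_card_pow_prime p h
    have hst : MulAction.stabilizer Q a₀ = ⊥ := by
      by_contra hne
      have h1 : p ∣ Nat.card (MulAction.stabilizer Q a₀) := by
        have h2 := Subgroup.card_subgroup_dvd_card (MulAction.stabilizer Q a₀)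
        rw [hQ] at h2
        obtain ⟨j, -, hj⟩ := (Nat.dvd_prime_pow hp).1 h2
        rcases j with _ | j
        · exact absurd (Subgroup.eq_bot_of_card_eq _ (by rw [hj, pow_zero])) hne
        · exact ⟨p ^ j, by rw [hj, pow_succ']⟩
      obtain ⟨g, hg⟩ := exists_prime_orderOf_dvd_card' p h1
      exact hfix ((g : Q) : G) (by rw [Subgroup.orderOf_coe, Subgroup.orderOf_coe, hg]) a₀ g.2
    have h2 : Nat.card (MulAction.orbit Q a₀) = p ^ 2 := by
      rw [Nat.card_congr (MulAction.orbitEquivQuotientStabilizer Q a₀), ← Subgroup.index_eq_card,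
        hst, Subgroup.index_bot, hQ]
    have h4 : Nat.card (MulAction.orbit Q a₀) ≤ 2 * p := by
      rw [← hα, ← Nat.card_eq_fintype_card (α := α)]
      exact Nat.card_le_card_of_injective _ Subtype.val_injective
    rw [h2, sq] at h4
    have := Nat.le_of_mul_le_mul_right h4 hp.pos
    omega
  have hnn : ∀ H : Subgroup G, H.Normal → Nat.card H ≠ p := by
    intro H hH hcard
    have htr : MulAction.IsPretransitive H α := by
      refine MulAction.IsQuasiPreprimitive.isPretransitive_of_normal fun h => ?_
      have hbot : H = ⊥ := (Subgroup.eq_bot_iff_forall H).2 fun g hg =>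
        eq_of_smul_eq_smul (α := α) fun z => by
          rw [one_smul]
          have : z ∈ MulAction.fixedPoints H α := h ▸ Set.mem_univ z
          exact this ⟨g, hg⟩
      rw [hbot, Subgroup.card_bot] at hcard
      exact hp.one_lt.ne hcard
    have h := Nat.card_le_card_of_surjective (fun g : H => g • a₀)
      (fun z => MulAction.exists_smul_eq H a₀ z)
    rw [hcard, Nat.card_eq_fintype_card (α := α), hα] at h
    omega
  obtain ⟨x, hx⟩ := exists_prime_orderOf_dvd_card' p hpG
  rcases TwoP.constituents h3 hα hx (hfix x hx) a₀ with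
    h2 | ⟨h3', χp, χq, hp1, hq1, hpx, hqx, hmp, hmq, hmf⟩ | ⟨χ, hfaith, hdeg⟩
  · -- two orbits
    left
    rw [MulAction.is_two_pretransitive_iff]
    intro a b c d hab hcd
    let q : α → MulAction.orbitRel.Quotient (MulAction.stabilizer G a₀) α := Quotient.mk _
    haveI : Fintype (MulAction.orbitRel.Quotient (MulAction.stabilizer G a₀) α) := Fintype.ofFinite _
    have hne : ∀ z, z ≠ a₀ → q z ≠ q a₀ := fun z hz h => by
      obtain ⟨g, hg⟩ := Quotient.exact h
      exact hz (hg.symm.trans g.2)
    have hsame : ∀ y z : α, y ≠ a₀ → z ≠ a₀ → q y = q z := by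
      intro y z hy hz
      by_contra hyz
      have h3 : ({q a₀, q y, q z} : Finset _).card = 3 :=
        Finset.card_eq_three.2 ⟨_, _, _, (hne y hy).symm, (hne z hz).symm, hyz, rfl⟩
      have := Finset.card_le_univ ({q a₀, q y, q z} : Finset _)
      rw [h3, ← Nat.card_eq_fintype_card, h2] at this
      omega
    obtain ⟨g₁, hg₁⟩ := MulAction.exists_smul_eq G a a₀
    obtain ⟨g₂, hg₂⟩ := MulAction.exists_smul_eq G c a₀
    obtain ⟨s, hs⟩ := Quotient.exact (hsame (g₂ • d) (g₁ • b)
      (fun h => hcd (MulAction.injective g₂ (hg₂.trans h.symm)))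
      (fun h => hab (MulAction.injective g₁ (hg₁.trans h.symm))))
    refine ⟨g₂⁻¹ * (s : G) * g₁, ?_, ?_⟩
    · rw [mul_smul, mul_smul, hg₁, show (s : G) • a₀ = a₀ from s.2, inv_smul_eq_iff, hg₂]
    · rw [mul_smul, mul_smul, inv_smul_eq_iff]
      exact hs
  · -- rank three
    right
    have hr3 := h3'
    rw [Char.PermConstituent.card_orbits_stabilizer a₀] at hr3
    obtain ⟨b₀, hb₀⟩ := exists_ne a₀
    obtain ⟨a, ha, hpa, -⟩ := TwoP.subdegree h3 hα x hr3 χp χq hp1 hq1 hpx hqx hmp hmq hmf a₀ b₀ hb₀
    refine ⟨h3', a, ha, hpa, fun b hb => ?_⟩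
    obtain ⟨a', ha', hpa', hb'⟩ := TwoP.subdegree h3 hα x hr3 χp χq hp1 hq1 hpx hqx hmp hmq hmf a₀ b hb
    obtain rfl : a = a' := by
      rcases lt_trichotomy a a' with h | h | h
      · exfalso; have := Nat.pow_lt_pow_left h two_ne_zero; omega
      · exact h
      · exfalso; have := Nat.pow_lt_pow_left h two_ne_zero; omega
    exact hb'
  · -- a small faithful character
    exfalso
    have hcd : Cfsg.charDegree χ.1 = Char.degree χ := Char.charDegree_eq_degree χ
    have hge := S4503.result p hp hpG hsq hnn χ.1 (Char.irr_isCharacter χ) hfaith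
    rw [hcd] at hge
    have hd : 2 * Cfsg.charDegree χ.1 + 1 = p := by rw [hcd]; omega
    have hZ : Subgroup.center G = ⊥ := by
      by_contra hne
      have htr : MulAction.IsPretransitive (Subgroup.center G) α := by
        refine MulAction.IsQuasiPreprimitive.isPretransitive_of_normal fun h => hne ?_
        refine (Subgroup.eq_bot_iff_forall _).2 fun g hg => eq_of_smul_eq_smul (α := α) fun z => ?_
        rw [one_smul]
        have : z ∈ MulAction.fixedPoints (Subgroup.center G) α := h ▸ Set.mem_univ z
        exact this ⟨g, hg⟩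
      obtain ⟨b₀, hb₀⟩ := exists_ne a₀
      obtain ⟨-, -, hpr, hc⟩ := Perm.regular_prime_of_fixes_second (G := G) (Ne.symm hb₀)
        fun g hg => by
          obtain ⟨z, hz⟩ := MulAction.exists_smul_eq (Subgroup.center G) a₀ b₀
          rw [← hz]
          show g • ((z : G) • a₀) = (z : G) • a₀
          rw [← mul_smul, Subgroup.mem_center_iff.1 z.2 g, mul_smul, hg]
      rw [Nat.card_eq_fintype_card (α := α), hα] at hc
      rw [← hc] at hpr
      exact Nat.not_prime_mul (by norm_num) hp.one_lt.ne' hpr
    obtain ⟨e⟩ := S4504.result p hp hpG hsq hnn χ.1 (Char.irr_isCharacter χ) hfaith hd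
    obtain ⟨n, ρ, hρ⟩ := Char.irr_isCharacter χ
    have hn : Cfsg.charDegree χ.1 = n := by
      have h1 : χ.1 1 = n := by rw [← hρ]; simp
      rw [Cfsg.charDegree, h1, Complex.natCast_re, Nat.floor_natCast]
    rw [hn] at hd
    let M : G →* Matrix (Fin n) (Fin n) ℂ :=
      (LinearMap.toMatrixAlgEquiv' : ((Fin n → ℂ) →ₗ[ℂ] (Fin n → ℂ)) ≃ₐ[ℂ] _).toAlgHom.toMonoidHom.comp ρ
    have hM : Function.Injective M := by
      refine (injective_iff_map_eq_one M).2 fun g hg => hfaith g ?_
      have h1 : ρ g = 1 := LinearMap.toMatrixAlgEquiv'.injective (hg.trans (map_one _).symm)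
      rw [← hρ]
      simp only [Representation.character, h1, map_one]
    by_cases h5 : 5 ≤ p
    · let e' : G ≃* PSL(2, ZMod p) :=
        (((QuotientGroup.quotientMulEquivOfEq hZ).trans QuotientGroup.quotientBot).symm).trans e
      refine TwoP.false_of_index h5 e' (MulAction.stabilizer G a₀)
        (MulAction.IsPreprimitive.isCoatom_stabilizer_of_isPreprimitive (G := G) a₀) ?_ M hM hd
      rw [MulAction.index_stabilizer_of_transitive, Nat.card_eq_fintype_card (α := α), hα]
    · obtain rfl : n = 1 := by omega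
      have hxZ : x ∈ Subgroup.center G := Subgroup.mem_center_iff.2 fun g => hM (by
        rw [map_mul, map_mul]
        ext i j
        simp [Matrix.mul_apply, Subsingleton.elim i 0, Subsingleton.elim j 0, mul_comm])
      rw [hZ, Subgroup.mem_bot] at hxZ
      rw [hxZ, orderOf_one] at hx
      exact hp.one_lt.ne hx


end Cfsg.Agent.S0720
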