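import Cfsg.Statements.S0724
import Mathlib

set_option autoImplicit false
open Cfsg

namespace Cfsg.Agent.S0724

private theorem pow_sum {α : Type*} [Fintype α] [DecidableEq α] (G : Subgroup (Equiv.Perm α)) [Fintype G] (j : ℕ) :
    (Fintype.card G : ℤ) ∣ ∑ g : G, (Nat.card (MulAction.fixedBy α g) : ℤ) ^ j := by
  classical
  have h := MulAction.sum_card_fixedBy_eq_card_orbits_mul_card_group G (Fin j → α)
  have e : ∀ g : G, Fintype.card (MulAction.fixedBy (Fin j → α) g) = Nat.card (MulAction.fixedBy α g) ^ j := by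
    intro g
    rw [show Nat.card (MulAction.fixedBy α g) ^ j = Nat.card (Fin j → MulAction.fixedBy α g) by
      rw [Nat.card_fun, Nat.card_fin], ← Nat.card_eq_fintype_card]
    exact Nat.card_congr
      { toFun := fun f i => ⟨f.1 i, congrFun f.2 i⟩
        invFun := fun f => ⟨fun i => f i, funext fun i => (f i).2⟩
        left_inv := fun _ => rfl
        right_inv := fun _ => rfl }
  simp only [e] at h
  have h' := congrArg (fun t : ℕ => (t : ℤ)) h
  push_cast at h'
  rw [h']
  exact dvd_mul_left _ _

private theorem prod_sum {α : Type*} [Fintype α] [DecidableEq α] (G : Subgroup (Equiv.Perm α)) [Fintype G]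
    (L : Finset ℕ) : ∀ j : ℕ, (Fintype.card G : ℤ) ∣
      ∑ g : G, (Nat.card (MulAction.fixedBy α g) : ℤ) ^ j * ∏ l ∈ L, ((Nat.card (MulAction.fixedBy α g) : ℤ) - l) := by
  classical
  induction L using Finset.induction_on with
  | empty => intro j; simpa using pow_sum G j
  | insert l L hl ih =>
    intro j
    simp only [Finset.prod_insert hl]
    have e : ∀ g : G, (Nat.card (MulAction.fixedBy α g) : ℤ) ^ j * (((Nat.card (MulAction.fixedBy α g) : ℤ) - l) *
        ∏ x ∈ L, ((Nat.card (MulAction.fixedBy α g) : ℤ) - x)) =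
        (Nat.card (MulAction.fixedBy α g) : ℤ) ^ (j + 1) * ∏ x ∈ L, ((Nat.card (MulAction.fixedBy α g) : ℤ) - x) -
        (l : ℤ) * ((Nat.card (MulAction.fixedBy α g) : ℤ) ^ j * ∏ x ∈ L, ((Nat.card (MulAction.fixedBy α g) : ℤ) - x)) :=
      fun g => by ring
    simp only [e, Finset.sum_sub_distrib, ← Finset.mul_sum]
    exact dvd_sub (ih (j + 1)) (Dvd.dvd.mul_left (ih j) _)

/-- Blichfeldt's Theorem: if a finite set `L` of natural numbers contains the number of fixed points of every non-identity element of a permutation group `G` of degree `n`, then the order of `G` divides `∏ (n - l)` over `l ∈ L`. -/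
theorem result {α : Type*} [Fintype α] [DecidableEq α] (G : Subgroup (Equiv.Perm α)) (L : Finset ℕ) (hL : ∀ g ∈ G, g ≠ 1 → Nat.card (MulAction.fixedBy α g) ∈ L) : Nat.card G ∣ ∏ l ∈ L, (Fintype.card α - l) := by
  classical
  have : Fintype G := Fintype.ofFinite G
  by_cases hbad : ∃ l ∈ L, Fintype.card α ≤ l
  · obtain ⟨l, hl, hle⟩ := hbad
    rw [Finset.prod_eq_zero hl (Nat.sub_eq_zero_of_le hle)]
    exact dvd_zero _
  push Not at hbad
  have h := prod_sum G L 0
  rw [Finset.sum_eq_single (1 : G)] at h
  · have e : Nat.card (MulAction.fixedBy α (1 : G)) = Fintype.card α := by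
      rw [MulAction.fixedBy_one_eq_univ, Nat.card_univ, Nat.card_eq_fintype_card]
    rw [e, pow_zero, one_mul] at h
    rw [Nat.card_eq_fintype_card, ← Int.natCast_dvd_natCast, Nat.cast_prod]
    convert h using 1
    exact Finset.prod_congr rfl fun l hl => Int.ofNat_sub (hbad l hl).le
  · intro g _ hg
    have hmem := hL g g.2 (fun e => hg (Subtype.ext e))
    rw [Finset.prod_eq_zero hmem (sub_eq_zero.2 rfl), mul_zero]
  · intro h; exact absurd (Finset.mem_univ _) h

end Cfsg.Agent.S0724
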