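import Cfsg.Statements.S0726
import Cfsg.Agent.Lib.Perm.Basic
-- import your own Cfsg.Agent.* helpers here

set_option autoImplicit false
open Cfsg

namespace Cfsg.Agent.S0726

/-- The left and right regular permutation representations of a group are each other's centralisers in the symmetric group: the centraliser of the left regular image is the right regular image, and a transitive subgroup centralising the left regular image is the whole right regular image. -/
theorem result {G : Type*} [Group G] : Subgroup.centralizer ((MulAction.toPermHom G G).range : Set (Equiv.Perm G)) = (MulAction.toPermHom Gᵐᵒᵖ G).range ∧ ∀ H : Subgroup (Equiv.Perm G), H ≤ Subgroup.centralizer ((MulAction.toPermHom G G).range : Set (Equiv.Perm G)) → MulAction.IsPretransitive H G → H = (MulAction.toPermHom Gᵐᵒᵖ G).range := by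
  have hle : (MulAction.toPermHom Gᵐᵒᵖ G).range ≤
      Subgroup.centralizer ((MulAction.toPermHom G G).range : Set (Equiv.Perm G)) := by
    rintro c ⟨h, rfl⟩
    refine Subgroup.mem_centralizer_iff.2 ?_
    rintro d ⟨g, rfl⟩
    ext x
    exact (mul_assoc g x h.unop).symm
  haveI hL : MulAction.IsPretransitive (MulAction.toPermHom G G).range G :=
    Perm.isPretransitive_subgroup_iff.2 fun a b =>
      ⟨_, ⟨b * a⁻¹, rfl⟩, inv_mul_cancel_right b a⟩
  have hR : MulAction.IsPretransitive (MulAction.toPermHom Gᵐᵒᵖ G).range G :=
    Perm.isPretransitive_subgroup_iff.2 fun a b =>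
      ⟨_, ⟨MulOpposite.op (a⁻¹ * b), rfl⟩, mul_inv_cancel_left a b⟩
  have heq := Perm.eq_of_transitive_le_semiregular hle hR fun a => Perm.semiregular_centralizer a
  refine ⟨heq.symm, fun H hH hHt => ?_⟩
  exact Perm.eq_of_transitive_le_semiregular (heq ▸ hH) hHt
    (Perm.semiregular_of_le hle fun a => Perm.semiregular_centralizer a)

end Cfsg.Agent.S0726
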