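import Cfsg.Statements.S0729
import Mathlib
import Cfsg.Agent.Lib.Perm.SharplyEvenStab
-- import your own Cfsg.Agent.* helpers here

set_option autoImplicit false
open Cfsg

namespace Cfsg.Agent.S0729

/-- In a sharply triply transitive group of even degree at least 6, the two-point stabiliser `H = G_{a,b}` has a normal subgroup of index 2 that is normalised by the element `s` interchanging `a, b` and fixing a third point `c`. -/
theorem result {α : Type*} [Fintype α] [DecidableEq α] (heven : Even (Fintype.card α)) (h6 : 6 ≤ Fintype.card α) (G : Subgroup (Equiv.Perm α)) (h3 : MulAction.IsMultiplyPretransitive G α 3) (hsharp : ∀ x : Fin 3 ↪ α, MulAction.stabilizer G x = ⊥) {a b c : α} (hab : a ≠ b) (hac : a ≠ c) (hbc : b ≠ c) (s : G) (hsa : s • a = b) (hsb : s • b = a) (hsc : s • c = c) : ∃ N : Subgroup G, N ≤ MulAction.stabilizer G a ⊓ MulAction.stabilizer G b ∧ (N.subgroupOf (MulAction.stabilizer G a ⊓ MulAction.stabilizer G b)).Normal ∧ N.relIndex (MulAction.stabilizer G a ⊓ MulAction.stabilizer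 G b) = 2 ∧ ∀ n ∈ N, s * n * s⁻¹ ∈ N := by
  classical
  set H := MulAction.stabilizer G a ⊓ MulAction.stabilizer G b
  obtain ⟨χ, hχ, hχs⟩ := Cfsg.Agent.Perm.exists_invariant_quotient_twoStab h3 hsharp heven h6 hab hac hbc hsa hsb hsc
  have hsub : (χ.ker.map H.subtype).subgroupOf H = χ.ker :=
    Subgroup.comap_map_eq_self_of_injective H.subtype_injective _
  refine ⟨χ.ker.map H.subtype, Subgroup.map_subtype_le _, ?_, ?_, ?_⟩
  · rw [hsub]; infer_instance
  · rw [Subgroup.relIndex, hsub, Subgroup.index_ker]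
    have h1 := Subgroup.card_subgroup_dvd_card χ.range
    rw [show Nat.card (Multiplicative (ZMod 2)) = 2 by simp] at h1
    refine ((Nat.dvd_prime Nat.prime_two).1 h1).resolve_left fun h => hχ ?_
    exact MonoidHom.range_eq_bot_iff.1 (Subgroup.card_eq_one.1 h)
  · rintro _ ⟨n, hn, rfl⟩
    have hss : s * s = 1 := Cfsg.Agent.Perm.eq_one_of_fixes_three hsharp hab hac hbc
      (by rw [mul_smul, hsa, hsb]) (by rw [mul_smul, hsb, hsa]) (by rw [mul_smul, hsc, hsc])
    have hsinv : s⁻¹ = s := inv_eq_of_mul_eq_one_right hss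
    have hmem : s * (n : G) * s⁻¹ ∈ H := by
      constructor
      · show (s * (n : G) * s⁻¹) • a = a
        rw [hsinv, mul_smul, mul_smul, hsa, show (n : G) • b = b from n.2.2, hsb]
      · show (s * (n : G) * s⁻¹) • b = b
        rw [hsinv, mul_smul, mul_smul, hsb, show (n : G) • a = a from n.2.1, hsa]
    exact ⟨⟨_, hmem⟩, by rw [SetLike.mem_coe, MonoidHom.mem_ker, hχs n ⟨_, hmem⟩ rfl]; exact hn, rfl⟩

end Cfsg.Agent.S0729
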