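import Cfsg.Statements.S0733
import Cfsg.Agent.Lib.Perm.Basic
-- import your own Cfsg.Agent.* helpers here

set_option autoImplicit false
open Cfsg

namespace Cfsg.Agent.S0733

/-- A permutation group of affine type — generated by the translations of a finite vector space `V` over `ZMod p` together with a group `G₀` of linear automorphisms — is primitive on `V` if and only if `G₀` is irreducible on `V`. -/
theorem result {p : ℕ} [Fact p.Prime] {V : Type*} [AddCommGroup V] [Module (ZMod p) V] [Finite V] [Nontrivial V] (G₀ : Subgroup (V ≃ₗ[ZMod p] V)) (G : Subgroup (Equiv.Perm V)) (hG : ∀ σ : Equiv.Perm V, σ ∈ G ↔ ∃ g ∈ G₀, ∃ b : V, ∀ x : V, σ x = (g : V ≃ₗ[ZMod p] V) x + b) : MulAction.IsPreprimitive G V ↔ ∀ W : Submodule (ZMod p) V, (∀ g ∈ G₀, ∀ v ∈ W, (g : V ≃ₗ[ZMod p] V) v ∈ W) → W = ⊥ ∨ W = ⊤ := by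
  have htr : ∀ b : V, ∃ σ : G, ∀ x : V, σ • x = x + b := fun b =>
    ⟨⟨Equiv.addRight b, (hG _).2 ⟨1, G₀.one_mem, b, fun x => rfl⟩⟩, fun x => rfl⟩
  haveI : MulAction.IsPretransitive G V := ⟨fun u v => by
    obtain ⟨σ, hσ⟩ := htr (v - u)
    exact ⟨σ, by rw [hσ]; abel⟩⟩
  constructor
  · intro hprim W hW
    by_cases hW0 : W = ⊥
    · exact Or.inl hW0
    right
    obtain ⟨w, hw, hw0⟩ := W.ne_bot_iff.1 hW0
    rw [Submodule.eq_top_iff']
    intro x
    have := Perm.equivalence_trivial (G := G) (r := fun u v : V => v - u ∈ W)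
      ⟨fun u => by simp, fun {u v} h => by simpa using W.neg_mem h,
        fun {u v z} h k => by simpa using W.add_mem k h⟩
      (fun σ u v huv => by
        obtain ⟨g, hg, b, hb⟩ := (hG _).1 σ.2
        change (σ : Equiv.Perm V) v - (σ : Equiv.Perm V) u ∈ W
        rw [hb, hb, add_sub_add_right_eq_sub, ← map_sub]
        exact hW g hg _ huv) (a := 0) (b := w) (by simpa using hw) (Ne.symm hw0) x
    simpa using this
  · intro hirr
    refine Perm.isPreprimitive_of_equivalence fun r hr hinv => ?_
    have htrans : ∀ u v b : V, r u v → r (u + b) (v + b) := fun u v b h => by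
      obtain ⟨σ, hσ⟩ := htr b
      simpa only [hσ] using hinv σ u v h
    have hdiff : ∀ u v : V, r u v ↔ r 0 (v - u) := fun u v =>
      ⟨fun h => by simpa [sub_eq_add_neg] using htrans u v (-u) h,
        fun h => by simpa using htrans 0 (v - u) u h⟩
    let A : AddSubgroup V :=
      { carrier := {v | r 0 v}
        zero_mem' := hr.refl 0
        add_mem' := fun {u v} hu hv => hr.trans hv (by simpa using htrans 0 u v hu)
        neg_mem' := fun {u} hu => hr.symm (by simpa using htrans 0 u (-u) hu) }
    rcases hirr (AddSubgroup.toZModSubmodule p A) (fun g hg v hv => by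
      have := hinv ⟨(g : V ≃ₗ[ZMod p] V).toEquiv, (hG _).2 ⟨g, hg, 0, fun x => by simp⟩⟩ 0 v hv
      change r 0 (g v)
      rw [← map_zero g]
      exact this) with h | h
    · left
      intro u v huv
      have : v - u ∈ AddSubgroup.toZModSubmodule p A := (hdiff u v).1 huv
      rw [h, Submodule.mem_bot, sub_eq_zero] at this
      exact this.symm
    · right
      intro u v
      exact (hdiff u v).2 (h.ge Submodule.mem_top : v - u ∈ AddSubgroup.toZModSubmodule p A)

end Cfsg.Agent.S0733
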