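import Cfsg.Statements.S0734
import Cfsg.Agent.Lib.Perm.Basic
-- import your own Cfsg.Agent.* helpers here

set_option autoImplicit false
open Cfsg

namespace Cfsg.Agent.S0734

/-- Higman's criterion for primitivity: a transitive action on a finite set is primitive if and only if every non-trivial orbital graph (edges = images of a fixed pair of distinct points) is connected. -/
theorem result {G : Type*} [Group G] {Ω : Type*} [Finite Ω] [MulAction G Ω] [MulAction.IsPretransitive G Ω] [Nontrivial Ω] : MulAction.IsPreprimitive G Ω ↔ ∀ a b : Ω, a ≠ b → (SimpleGraph.fromRel fun x y : Ω => ∃ g : G, g • a = x ∧ g • b = y).Connected := by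
  constructor
  · intro h a b hab
    rw [SimpleGraph.connected_iff_exists_forall_reachable]
    refine ⟨a, fun x => ?_⟩
    have hadj : (SimpleGraph.fromRel fun x y : Ω => ∃ g : G, g • a = x ∧ g • b = y).Adj a b :=
      ⟨hab, Or.inl ⟨1, one_smul G a, one_smul G b⟩⟩
    refine Perm.equivalence_trivial (G := G)
      (r := (SimpleGraph.fromRel fun x y : Ω => ∃ g : G, g • a = x ∧ g • b = y).Reachable)
      ⟨fun _ => SimpleGraph.Reachable.refl _, fun h => h.symm, fun h k => h.trans k⟩
      ?_ hadj.reachable hab x
    intro g u v huv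
    refine huv.map ⟨fun z => g • z, ?_⟩
    rintro u v ⟨hne, hk⟩
    refine ⟨fun h => hne (smul_left_cancel g h), hk.imp ?_ ?_⟩ <;>
      rintro ⟨k, hka, hkb⟩ <;> exact ⟨g * k, by rw [mul_smul, hka], by rw [mul_smul, hkb]⟩
  · intro h
    refine Perm.isPreprimitive_of_equivalence fun r hr hinv => ?_
    by_cases ht : ∀ a b, r a b → a = b
    · exact Or.inl ht
    right
    simp only [not_forall] at ht
    obtain ⟨a, b, hab, hne⟩ := ht
    intro x y
    obtain ⟨w⟩ := (h a b hne).preconnected x y
    induction w with
    | nil => exact hr.refl _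
    | cons hadj _ ih =>
      refine hr.trans ?_ ih
      rcases hadj.2 with ⟨g, rfl, rfl⟩ | ⟨g, rfl, rfl⟩
      · exact hinv g a b hab
      · exact hr.symm (hinv g a b hab)

end Cfsg.Agent.S0734
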