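import Cfsg.Statements.S0738
import Mathlib
import Cfsg.Agent.Lib.Perm.Zassenhaus

set_option autoImplicit false
open Cfsg

namespace Cfsg.Agent.S0738

open Finset in
/-- A finite group whose non-identity elements fall into at most two classes of equal size, invariant
under order and centrality, is elementary abelian. -/
private theorem core {F : Type*} [Group F] [Finite F] [Nontrivial F] (orb : F → Finset F) (d : ℕ)
    (hd : Nat.card F - 1 ≤ 2 * d) (hmem : ∀ x, x ≠ 1 → x ∈ orb x) (hcard : ∀ x, x ≠ 1 → (orb x).card = d)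
    (hone : ∀ x, x ≠ 1 → (1 : F) ∉ orb x) (heq : ∀ x, x ≠ 1 → ∀ y ∈ orb x, orb y = orb x)
    (hord : ∀ x, x ≠ 1 → ∀ y ∈ orb x, orderOf y = orderOf x)
    (hcen : ∀ x, x ≠ 1 → ∀ y ∈ orb x, x ∈ Subgroup.center F → y ∈ Subgroup.center F) :
    IsMulCommutative F ∧ ∃ p f : ℕ, p.Prime ∧ (∀ u : F, u ^ p = 1) ∧ Nat.card F = p ^ f := by
  classical
  have := Fintype.ofFinite F
  have hn : 1 < Nat.card F := Finite.one_lt_card
  have hu : (univ.erase (1 : F)).card = Nat.card F - 1 := by
    rw [card_erase_of_mem (mem_univ _), card_univ, Nat.card_eq_fintype_card]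
  have hpart : ∀ x, x ≠ 1 → ∀ y, y ≠ 1 → y ∈ orb x ∨
      (2 * d + 1 = Nat.card F ∧ ∀ z, z ≠ 1 → z ∈ orb x ∨ z ∈ orb y) := by
    intro x hx y hy
    by_cases h : y ∈ orb x
    · exact Or.inl h
    refine Or.inr ?_
    have hdis : Disjoint (orb x) (orb y) := by
      rw [disjoint_left]
      intro z hzx hzy
      exact h ((heq x hx z hzx).symm.trans (heq y hy z hzy) ▸ hmem y hy)
    have hsub : orb x ∪ orb y ⊆ univ.erase (1 : F) := by
      intro z hz
      refine mem_erase.2 ⟨?_, mem_univ _⟩
      rintro rfl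
      rcases mem_union.1 hz with hz | hz
      · exact hone x hx hz
      · exact hone y hy hz
    have hc := card_le_card hsub
    rw [card_union_of_disjoint hdis, hcard x hx, hcard y hy, hu] at hc
    refine ⟨by omega, fun z hz => ?_⟩
    have heq' := eq_of_subset_of_card_le hsub (by rw [card_union_of_disjoint hdis, hcard x hx, hcard y hy, hu]; omega)
    exact mem_union.1 (heq'.symm ▸ mem_erase.2 ⟨hz, mem_univ z⟩)
  have hdpos : 0 < d := by
    obtain ⟨x, hx⟩ := exists_ne (1 : F)
    rw [← hcard x hx]; exact card_pos.2 ⟨x, hmem x hx⟩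
  have hsubgroup : ∀ (K : Subgroup F) (x : F), x ≠ 1 → 2 * d + 1 = Nat.card F →
      (∀ z, z ∈ K ↔ z = 1 ∨ z ∈ orb x) → False := by
    intro K x hx hn2 hK
    have hKc : Nat.card K = d + 1 := by
      have : (K : Set F) = ((insert 1 (orb x) : Finset F) : Set F) := by
        ext z; simp [hK]
      rw [← SetLike.coe_sort_coe, Nat.card_coe_set_eq, this, Set.ncard_coe_finset,
        card_insert_of_notMem (hone x hx), hcard x hx]
    have h := Subgroup.card_subgroup_dvd_card K
    rw [hKc, ← hn2, show 2 * d + 1 = (d + 1) + d by ring, Nat.dvd_add_right dvd_rfl] at h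
    have := Nat.le_of_dvd hdpos h
    omega
  obtain ⟨p, hp, hpn⟩ := Nat.exists_prime_and_dvd hn.ne'
  have := Fact.mk hp
  obtain ⟨x, hx⟩ := exists_prime_orderOf_dvd_card' p hpn
  have hx1 : x ≠ 1 := fun e => by rw [e, orderOf_one] at hx; exact hp.one_lt.ne' hx.symm
  -- all orders are powers of p
  have hpg : IsPGroup p F := by
    refine IsPGroup.of_card (n := (Nat.card F).factorization p) (Nat.eq_pow_of_factorization_eq_single
      (by omega) ?_)
    ext r
    rw [Finsupp.single_apply]
    split_ifs with hr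
    · rw [hr]
    · rw [Nat.factorization_eq_zero_iff]
      by_contra hcon
      push Not at hcon
      obtain ⟨hrp, hrn, -⟩ := hcon
      have := Fact.mk hrp
      obtain ⟨w, hw⟩ := exists_prime_orderOf_dvd_card' r hrn
      have hw1 : w ≠ 1 := fun e => by rw [e, orderOf_one] at hw; exact hrp.one_lt.ne' hw.symm
      rcases hpart x hx1 w hw1 with h | ⟨hn2, hall⟩
      · exact hr (((hord x hx1 w h).trans hx).symm.trans hw)
      have hS : Nat.card {u : F // orderOf u = p} = d := by
        rw [Nat.card_eq_fintype_card, Fintype.card_subtype, ← hcard x hx1]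
        congr 1
        ext u
        simp only [mem_filter, mem_univ, true_and]
        refine ⟨fun hup => ?_, fun h => (hord x hx1 u h).trans hx⟩
        have hu1 : u ≠ 1 := fun e => by rw [e, orderOf_one] at hup; exact hp.one_lt.ne' hup.symm
        refine (hall u hu1).resolve_right fun h => hr ?_
        rw [← hup, hord w hw1 u h, hw]
      let C : Subgroup (ConjAct F) := Subgroup.zpowers (ConjAct.toConjAct w)
      have hC : IsPGroup r C := IsPGroup.of_card (n := 1) (by
        rw [Nat.card_zpowers, pow_one]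
        exact (MulEquiv.orderOf_eq ConjAct.toConjAct w).trans hw)
      let : MulAction C {u : F // orderOf u = p} :=
        { smul := fun c u => ⟨(c : ConjAct F) • (u : F), by
            rw [show (c : ConjAct F) • (u : F) = MulDistribMulAction.toMulEquiv F (c : ConjAct F) u from rfl,
              MulEquiv.orderOf_eq, u.2]⟩
          one_smul := fun u => Subtype.ext (one_smul (ConjAct F) (u : F))
          mul_smul := fun c c' u => Subtype.ext (mul_smul (c : ConjAct F) (c' : ConjAct F) (u : F)) }
      have hmod := hC.card_modEq_card_fixedPoints {u : F // orderOf u = p}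
      have hempty : Nat.card (MulAction.fixedPoints C {u : F // orderOf u = p}) = 0 := by
        rw [Nat.card_eq_zero]
        refine Or.inl ⟨fun u => ?_⟩
        have hf : ConjAct.toConjAct w • (u.1.1 : F) = u.1.1 :=
          congrArg Subtype.val (u.2 ⟨_, Subgroup.mem_zpowers _⟩)
        rw [ConjAct.toConjAct_smul, mul_inv_eq_iff_eq_mul] at hf
        have ho : orderOf (w * u.1.1) = r * p := by
          rw [Commute.orderOf_mul_eq_mul_orderOf_of_coprime hf, hw, u.1.2]
          rw [hw, u.1.2]
          exact (Nat.coprime_primes hrp hp).2 (Ne.symm hr)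
        have hne : w * u.1.1 ≠ 1 := fun e => by
          rw [e, orderOf_one] at ho
          have := Nat.le_mul_of_pos_right r hp.pos
          have := hrp.two_le
          omega
        rcases hall _ hne with h | h
        · have := (hord x hx1 _ h).symm.trans ho
          rw [hx] at this
          nlinarith [hrp.two_le, hp.two_le]
        · have := (hord w hw1 _ h).symm.trans ho
          rw [hw] at this
          nlinarith [hrp.two_le, hp.two_le]
      rw [hS, hempty, Nat.modEq_zero_iff_dvd] at hmod
      rw [← hn2] at hrn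
      have := (Nat.dvd_add_right (dvd_mul_of_dvd_right hmod 2)).1 hrn
      exact hrp.one_lt.ne' (Nat.dvd_one.1 this)
  -- commutativity
  have hcomm : Subgroup.center F = ⊤ := by
    have := hpg.center_nontrivial
    obtain ⟨⟨z, hzc⟩, hz⟩ := exists_ne (1 : Subgroup.center F)
    have hz1 : z ≠ 1 := fun e => hz (Subtype.ext e)
    rw [eq_top_iff]
    intro y _
    by_contra hy
    have hy1 : y ≠ 1 := fun e => hy (e ▸ one_mem _)
    rcases hpart z hz1 y hy1 with h | ⟨hn2, hall⟩
    · exact hy (hcen z hz1 y h hzc)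
    refine hsubgroup (Subgroup.center F) z hz1 hn2 fun u => ⟨fun hu => ?_, ?_⟩
    · rcases eq_or_ne u 1 with hu1 | hu1
      · exact Or.inl hu1
      refine Or.inr ((hall u hu1).resolve_right fun h => hy ?_)
      exact hcen u hu1 y ((heq y hy1 u h).symm ▸ hmem y hy1) hu
    · rintro (rfl | h)
      · exact one_mem _
      · exact hcen z hz1 u h hzc
  have hab : IsMulCommutative F := ⟨⟨fun a b => (Subgroup.mem_center_iff.1 (hcomm ▸ Subgroup.mem_top b) a)⟩⟩
  refine ⟨hab, p, ?_⟩
  obtain ⟨f, hf⟩ := IsPGroup.iff_card.1 hpg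
  refine ⟨f, hp, fun u => ?_, hf⟩
  rcases eq_or_ne u 1 with rfl | hu1
  · exact one_pow p
  rcases hpart x hx1 u hu1 with h | ⟨hn2, hall⟩
  · rw [← hx, ← hord x hx1 u h, pow_orderOf_eq_one]
  by_contra hup
  refine hsubgroup
    { carrier := {v | v ^ p = 1}
      mul_mem' := fun {a b} (ha : a ^ p = 1) (hb : b ^ p = 1) => show (a * b) ^ p = 1 by
        rw [(show Commute a b from hab.1.1 a b).mul_pow, ha, hb, one_mul]
      one_mem' := one_pow p
      inv_mem' := fun {a} (ha : a ^ p = 1) => show a⁻¹ ^ p = 1 by rw [inv_pow, ha, inv_one] }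
    x hx1 hn2 fun v => ⟨fun (hv : v ^ p = 1) => ?_, ?_⟩
  · rcases eq_or_ne v 1 with hv1 | hv1
    · exact Or.inl hv1
    refine Or.inr ((hall v hv1).resolve_right fun h => hup ?_)
    rw [← orderOf_eq_prime hv hv1, hord u hu1 v h, pow_orderOf_eq_one]
  · rintro (rfl | h)
    · exact one_pow p
    · show v ^ p = 1
      rw [← hx, ← hord x hx1 v h, pow_orderOf_eq_one]

/-- Let a finite Zassenhaus group of degree `n + 1` have two-point stabilisers of order `d` with `2d ≥ n - 1`. Then a normal subgroup of a point stabiliser acting regularly on the remaining points is elementary abelian, and the degree is a prime power plus one. -/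
theorem result {G Ω : Type*} [Group G] [Finite G] [MulAction G Ω] [Fintype Ω] (hZ : Cfsg.IsZassenhausGroup G Ω) {a b : Ω} (hab : a ≠ b) (hd : Fintype.card Ω - 2 ≤ 2 * Nat.card ↥(MulAction.stabilizer G a ⊓ MulAction.stabilizer G b)) (F : Subgroup G) (hFle : F ≤ MulAction.stabilizer G a) (hFn : (F.subgroupOf (MulAction.stabilizer G a)).Normal) (hreg : ∀ y z : Ω, y ≠ a → z ≠ a → ∃! u : F, (u : G) • y = z) : IsMulCommutative F ∧ ∃ p f : ℕ, p.Prime ∧ (∀ u ∈ F, u ^ p = 1) ∧ Fintype.card Ω = p ^ f + 1 := by
  classical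
  have := Fintype.ofFinite G
  let H := MulAction.stabilizer G a ⊓ MulAction.stabilizer G b
  let φ : F → Ω := fun u => (u : G) • b
  have hFa : ∀ u : F, (u : G) • a = a := fun u => hFle u.2
  have hφne : ∀ u, φ u ≠ a := fun u e => hab.symm (smul_left_cancel _ (e.trans (hFa u).symm))
  have hφinj : Function.Injective φ := by
    intro u v huv
    obtain ⟨w, -, hw⟩ := hreg b (φ v) hab.symm (hφne v)
    exact (hw u huv).trans (hw v rfl).symm
  have hcardF : Nat.card F + 1 = Fintype.card Ω := by
    rw [Nat.card_congr (Equiv.ofBijective (fun u : F => (⟨φ u, hφne u⟩ : {x : Ω // x ≠ a}))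
      ⟨fun u v h => hφinj (congrArg Subtype.val h), fun x => ?_⟩)]
    · rw [Nat.card_eq_fintype_card, Fintype.card_subtype_compl, Fintype.card_subtype_eq]
      have := Fintype.card_pos_iff.2 ⟨a⟩
      omega
    · obtain ⟨w, hw, -⟩ := hreg b x.1 hab.symm x.2
      exact ⟨w, Subtype.ext hw⟩
  have : Nontrivial F := by
    rw [← Finite.one_lt_card_iff_nontrivial]
    have := Cfsg.Agent.Perm.Zass.three_le hZ
    omega
  have hconj : ∀ (h : H) (u : F), (h : G) * u * (h : G)⁻¹ ∈ F := fun h u =>
    hFn.conj_mem ⟨u, hFle u.2⟩ u.2 ⟨h, h.2.1⟩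
  let act : H → F ≃* F := fun h =>
    { toFun := fun u => ⟨(h : G) * u * (h : G)⁻¹, hconj h u⟩
      invFun := fun u => ⟨(h : G)⁻¹ * u * (h : G), by simpa using hconj h⁻¹ u⟩
      left_inv := fun u => Subtype.ext (by simp only; group)
      right_inv := fun u => Subtype.ext (by simp only; group)
      map_mul' := fun u v => Subtype.ext (by simp only [Subgroup.coe_mul]; group) }
  have hact : ∀ h u, φ (act h u) = (h : G) • φ u := by
    intro h u
    show ((h : G) * u * (h : G)⁻¹) • b = _
    rw [mul_smul, inv_smul_eq_iff.2 (show (h : G) • b = b from h.2.2).symm, mul_smul]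
  let orb : F → Finset F := fun x => Finset.univ.image fun h => act h x
  have hcard : ∀ x, x ≠ 1 → (orb x).card = Nat.card H := by
    intro x hx
    rw [Finset.card_image_of_injective, Finset.card_univ, Nat.card_eq_fintype_card]
    intro h h' e
    have hxb : φ x ≠ b := fun e' => hx (hφinj (e'.trans (one_smul G b).symm))
    have e' := congrArg φ e
    rw [hact, hact] at e'
    have h1 := Cfsg.Agent.Perm.Zass.eq_one_of_three hZ (g := (h' : G)⁻¹ * h) hab (Ne.symm hxb)
      (Ne.symm (hφne x))
      (by rw [mul_smul, show (h : G) • a = a from h.2.1, inv_smul_eq_iff.2 (show (h' : G) • a = a from h'.2.1).symm])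
      (by rw [mul_smul, show (h : G) • b = b from h.2.2, inv_smul_eq_iff.2 (show (h' : G) • b = b from h'.2.2).symm])
      (by rw [mul_smul, e', inv_smul_smul])
    exact Subtype.ext (inv_mul_eq_one.1 h1).symm
  have horb : ∀ x y, y ∈ orb x ↔ ∃ h, act h x = y := by simp [orb]
  have hmul : ∀ h h' u, act h (act h' u) = act (h * h') u := fun h h' u => Subtype.ext (by
    show (h : G) * ((h' : G) * u * (h' : G)⁻¹) * (h : G)⁻¹ = (h * h' : G) * u * (h * h' : G)⁻¹
    group)
  obtain ⟨hA, p, f, hp, hexp, hf⟩ := core orb (Nat.card H) (by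
      show Nat.card F - 1 ≤ 2 * Nat.card ↥(MulAction.stabilizer G a ⊓ MulAction.stabilizer G b)
      omega)
    (fun x _ => (horb x x).2 ⟨1, Subtype.ext (by simp [act])⟩) hcard
    (fun x hx h => by
      obtain ⟨g, hg⟩ := (horb x 1).1 h
      exact hx ((act g).map_eq_one_iff.1 hg))
    (fun x _ y hy => by
      obtain ⟨g, rfl⟩ := (horb x y).1 hy
      ext z
      rw [horb, horb]
      constructor
      · rintro ⟨k, rfl⟩; exact ⟨k * g, (hmul k g x).symm⟩
      · rintro ⟨k, rfl⟩; exact ⟨k * g⁻¹, by rw [hmul, inv_mul_cancel_right]⟩)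
    (fun x _ y hy => by
      obtain ⟨g, rfl⟩ := (horb x y).1 hy
      exact MulEquiv.orderOf_eq (act g) x)
    (fun x _ y hy hxc => by
      obtain ⟨g, rfl⟩ := (horb x y).1 hy
      refine Subgroup.mem_center_iff.2 fun u => ?_
      obtain ⟨v, rfl⟩ := (act g).surjective u
      rw [← map_mul, ← map_mul, Subgroup.mem_center_iff.1 hxc v])
  exact ⟨hA, p, f, hp, fun u hu => congrArg Subtype.val (hexp ⟨u, hu⟩), by rw [← hcardF, hf]⟩

end Cfsg.Agent.S0738
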