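import Cfsg.Statements.S0739
import Mathlib
import Cfsg.Agent.Lib.ZassenhausOdd.Basic

set_option autoImplicit false
open Cfsg

namespace Cfsg.Agent.S0739

open MulAction Cfsg.Agent Cfsg.Agent.ZassenhausOdd
open scoped commutatorElement

/-- An element of a cyclic group of odd prime power order that is normalised and not centralised by
`g`, with `g²` centralising, is inverted. -/
private theorem inverts_of_sq {G : Type*} [Group G] [Finite G] {r : ℕ} [Fact r.Prime] (hr2 : r ≠ 2)
    (R : Subgroup G) (hR : IsPGroup r R) (hcyc : IsCyclic R) {g : G} (hg : ∀ x ∈ R, g * x * g⁻¹ ∈ R)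
    (hg2 : ∀ x ∈ R, g * g * x = x * (g * g)) (hne : ∃ x ∈ R, g * x * g⁻¹ ≠ x) :
    ∀ x ∈ R, g * x * g⁻¹ = x⁻¹ := by
  obtain ⟨γ, hγ⟩ := IsCyclic.exists_generator (α := R)
  have hcomm : ∀ x ∈ R, ∀ y ∈ R, x * y = y * x := by
    intro x hx y hy
    obtain ⟨i, hi⟩ := Subgroup.mem_zpowers_iff.1 (hγ ⟨x, hx⟩)
    obtain ⟨j, hj⟩ := Subgroup.mem_zpowers_iff.1 (hγ ⟨y, hy⟩)
    have h : γ ^ i * γ ^ j = γ ^ j * γ ^ i := by rw [← zpow_add, ← zpow_add, add_comm]
    rw [hi, hj] at h
    exact congrArg Subtype.val h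
  obtain ⟨x₀, hx₀, hx₀ne⟩ := hne
  have hu : g * x₀ * g⁻¹ * x₀⁻¹ ∈ R := R.mul_mem (hg _ hx₀) (R.inv_mem hx₀)
  have hgg : ∀ x ∈ R, g * (g * x * g⁻¹) * g⁻¹ = x := by
    intro x hx
    calc g * (g * x * g⁻¹) * g⁻¹ = (g * g * x) * (g * g)⁻¹ := by group
      _ = x := by rw [hg2 x hx]; group
  -- the inverted element
  have hu_inv : g * (g * x₀ * g⁻¹ * x₀⁻¹) * g⁻¹ = (g * x₀ * g⁻¹ * x₀⁻¹)⁻¹ := by
    calc g * (g * x₀ * g⁻¹ * x₀⁻¹) * g⁻¹ = (g * (g * x₀ * g⁻¹) * g⁻¹) * (g * x₀ * g⁻¹)⁻¹ := by group
      _ = _ := by rw [hgg x₀ hx₀]; group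
  intro x hx
  have hv : g * x * g⁻¹ * x ∈ R := R.mul_mem (hg _ hx) hx
  have hv_fix : g * (g * x * g⁻¹ * x) * g⁻¹ = g * x * g⁻¹ * x := by
    calc g * (g * x * g⁻¹ * x) * g⁻¹ = (g * (g * x * g⁻¹) * g⁻¹) * (g * x * g⁻¹) := by group
      _ = x * (g * x * g⁻¹) := by rw [hgg x hx]
      _ = _ := hcomm x hx _ (hg x hx)
  by_contra hxne
  have hv1 : g * x * g⁻¹ * x ≠ 1 := fun h => hxne (eq_inv_of_mul_eq_one_left h)
  have hu1 : g * x₀ * g⁻¹ * x₀⁻¹ ≠ 1 := fun h => hx₀ne (mul_inv_eq_one.1 h)
  -- both yield elements of order `r`, hence generate the same subgroup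
  have hpow : ∀ u : R, u ≠ 1 → ∃ k : ℕ, orderOf (u ^ k) = r := by
    intro u hu'
    obtain ⟨n, hn⟩ := (IsPGroup.iff_orderOf.1 hR) u
    have hn0 : n ≠ 0 := fun h => hu' (orderOf_eq_one_iff.1 (by rw [hn, h, pow_zero]))
    refine ⟨r ^ (n - 1), ?_⟩
    rw [orderOf_pow' u (pow_ne_zero _ (Fact.out : r.Prime).ne_zero), hn,
      Nat.gcd_eq_right (pow_dvd_pow r (Nat.sub_le n 1)), Nat.pow_div (Nat.sub_le n 1) (Fact.out : r.Prime).pos,
      show n - (n - 1) = 1 by omega, pow_one]
  obtain ⟨k, hk⟩ := hpow ⟨_, hv⟩ (fun h => hv1 (congrArg Subtype.val h))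
  obtain ⟨l, hl⟩ := hpow ⟨_, hu⟩ (fun h => hu1 (congrArg Subtype.val h))
  set a : R := (⟨_, hv⟩ : R) ^ k
  set b : R := (⟨_, hu⟩ : R) ^ l
  have ha : g * (a : G) * g⁻¹ = (a : G) := by
    simp only [a, SubmonoidClass.coe_pow]
    rw [← conj_pow, hv_fix]
  have hb : g * (b : G) * g⁻¹ = (b : G)⁻¹ := by
    simp only [b, SubmonoidClass.coe_pow]
    rw [← conj_pow, hu_inv, inv_pow]
  have hmem : b ∈ Subgroup.zpowers a := by
    classical
    have := Fintype.ofFinite R
    have hsub : (Subgroup.zpowers a : Set R).toFinset ⊆ Finset.univ.filter fun v : R => v ^ r = 1 := by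
      intro v hv'
      rw [Set.mem_toFinset] at hv'
      simp only [Finset.mem_filter, Finset.mem_univ, true_and]
      exact hk ▸ orderOf_dvd_iff_pow_eq_one.1 (orderOf_dvd_of_mem_zpowers hv')
    have heq := Finset.eq_of_subset_of_card_le hsub ((IsCyclic.card_pow_eq_one_le (Fact.out : r.Prime).pos).trans
      (by rw [Set.toFinset_card, ← Nat.card_eq_fintype_card]; exact (Nat.card_zpowers a).trans hk |>.ge))
    have hb' : b ∈ Finset.univ.filter fun v : R => v ^ r = 1 := by
      simp only [Finset.mem_filter, Finset.mem_univ, true_and]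
      rw [← hl]; exact pow_orderOf_eq_one b
    rw [← heq, Set.mem_toFinset] at hb'
    exact hb'
  obtain ⟨i, hi⟩ := Subgroup.mem_zpowers_iff.1 hmem
  have hb2 : g * (b : G) * g⁻¹ = (b : G) := by
    rw [← hi, SubgroupClass.coe_zpow, ← conj_zpow, ha]
  rw [hb] at hb2
  have : b ^ 2 = 1 := Subtype.ext (by
    rw [SubmonoidClass.coe_pow, pow_two]
    exact eq_inv_iff_mul_eq_one.1 hb2.symm)
  have := hl ▸ orderOf_dvd_of_pow_eq_one this
  exact hr2 ((Nat.prime_dvd_prime_iff_eq Fact.out Nat.prime_two).1 this)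

/-- In a finite Zassenhaus group whose two-point stabiliser `H = G_{a,b}` has odd order `d`, and which has no normal `q`-complement for any prime `q ∣ d`, `H` is cyclic, `C_G(H) = H`, and every element swapping `a` and `b` inverts each element of `H`. -/
theorem result {G Ω : Type*} [Group G] [Finite G] [MulAction G Ω] [Fintype Ω] (hZ : Cfsg.IsZassenhausGroup G Ω) {a b : Ω} (hab : a ≠ b) (hodd : Odd (Nat.card ↥(MulAction.stabilizer G a ⊓ MulAction.stabilizer G b))) (hnil : ∀ q : ℕ, q.Prime → q ∣ Nat.card ↥(MulAction.stabilizer G a ⊓ MulAction.stabilizer G b) → ¬ ∃ N : Subgroup G, N.Normal ∧ N.index = q ^ (Nat.card G).factorization q) : IsCyclic ↥(MulAction.stabilizer G a ⊓ MulAction.stabilizer G b) ∧ Subgroup.centralizer ((MulAction.stabilizer G a ⊓ MulAction.stabilizer G b : Subgroup G) : Set G) = MulAction.stabilizer G a ⊓ MulAction.stabilizer G b ∧ ∀ s : G, s • a = b → s • b = a → ∀ h ∈ MulAction.stabilizer G a ⊓ MulAction.stabilizer G b, s * h * s⁻¹ = h⁻¹ := by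
  classical
  set E := twoStab G a b with hE
  have : IsZGroup E := isZGroup_twoStab hZ hab hodd
  have hpow2 : ∀ x ∈ E, x * x = 1 → x = 1 := by
    intro x hx h
    have h1 : orderOf x ∣ 2 := orderOf_dvd_of_pow_eq_one (by rw [pow_two, h])
    have h2 : orderOf x ∣ Nat.card E := by
      rw [← Subgroup.orderOf_mk x hx]; exact orderOf_dvd_natCard _
    have := Nat.dvd_gcd h1 h2
    rw [(Nat.coprime_two_left.2 hodd)] at this
    exact orderOf_eq_one_iff.1 (Nat.dvd_one.1 this)
  -- the degree is coprime to the order of `E`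
  have hdvd : Nat.card E ∣ Fintype.card Ω - 2 := by
    obtain ⟨T, hT⟩ : ∃ T : Finset Ω, T = (Finset.univ.erase a).erase b := ⟨_, rfl⟩
    have hTc : T.card = Fintype.card Ω - 2 := by
      rw [hT, Finset.card_erase_of_mem (Finset.mem_erase.2 ⟨hab.symm, Finset.mem_univ b⟩),
        Finset.card_erase_of_mem (Finset.mem_univ a), Finset.card_univ]
      omega
    let act : MulAction E {x : Ω // x ∈ T} :=
      { smul := fun h x => ⟨(h : G) • (x : Ω), by
          have hx := x.2
          simp only [hT, Finset.mem_erase, Finset.mem_univ, and_true] at hx ⊢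
          exact ⟨fun e => hx.1 (smul_left_cancel (h : G) (e.trans (show (h : G) • b = b from h.2.2).symm)),
            fun e => hx.2 (smul_left_cancel (h : G) (e.trans (show (h : G) • a = a from h.2.1).symm))⟩⟩
        one_smul := fun x => Subtype.ext (one_smul G (x : Ω))
        mul_smul := fun h h' x => Subtype.ext (mul_smul (h : G) h' (x : Ω)) }
    have hfree : ∀ x : {x : Ω // x ∈ T}, stabilizer E x = ⊥ := by
      intro x
      rw [Subgroup.eq_bot_iff_forall]
      intro h hh
      have hx := x.2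
      simp only [hT, Finset.mem_erase, Finset.mem_univ, and_true] at hx
      exact Subtype.ext (Perm.Zass.eq_one_of_three hZ hab (Ne.symm hx.1) (Ne.symm hx.2) h.2.1 h.2.2
        (congrArg Subtype.val hh))
    rw [← hTc, ← Nat.card_eq_finsetCard, Nat.card_congr (selfEquivSigmaOrbits E {x : Ω // x ∈ T})]
    have := Fintype.ofFinite (Quotient (orbitRel E {x : Ω // x ∈ T}))
    rw [Nat.card_sigma]
    refine Finset.dvd_sum fun ω _ => dvd_of_eq ?_
    have h1 := index_stabilizer E ω.out
    rw [hfree, Subgroup.index_bot] at h1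
    rw [h1, ← Nat.card_coe_set_eq]
  -- swapping elements
  have hswap2 : ∀ s : G, s • a = b → s • b = a → s * s ∈ E := fun s h1 h2 =>
    ⟨show (s * s) • a = a by rw [mul_smul, h1, h2], show (s * s) • b = b by rw [mul_smul, h2, h1]⟩
  have hnormE : ∀ g : G, (g • a = a ∨ g • a = b) → (g • b = a ∨ g • b = b) → ∀ x ∈ E, g * x * g⁻¹ ∈ E :=
    fun g h1 h2 x hx => (Subgroup.mem_normalizer_iff.1 (mem_normalizer_twoStab hZ hab h1 h2) x).1 hx
  -- each Sylow subgroup is moved by an element preserving the pair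
  have hkey : ∀ r : ℕ, ∀ [Fact r.Prime], r ∣ Nat.card E → ∀ R : Sylow r E,
      ∃ g : G, ((g • a = a ∨ g • a = b) ∧ (g • b = a ∨ g • b = b)) ∧
        (∀ x ∈ (R : Subgroup E).map E.subtype, g * x * g⁻¹ ∈ (R : Subgroup E).map E.subtype) ∧
        ∃ x ∈ (R : Subgroup E).map E.subtype, g * x * g⁻¹ ≠ x := by
    intro r hr hrE R
    have hcard : Nat.card ((R : Subgroup E).map E.subtype) = r ^ (Nat.card G).factorization r := by
      rw [Subgroup.card_map_of_injective E.subtype_injective, R.card_eq_multiplicity]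
      congr 1
      have h3 := Perm.Zass.three_le hZ
      rw [card_group hZ hab, Nat.factorization_mul (by omega) (Nat.mul_ne_zero (by omega) Nat.card_pos.ne'),
        Nat.factorization_mul (by omega) Nat.card_pos.ne', Finsupp.add_apply, Finsupp.add_apply]
      have hr2 : r ≠ 2 := fun e => (Nat.not_even_iff_odd.2 hodd) (even_iff_two_dvd.2 (e ▸ hrE))
      have hd : r ∣ Fintype.card Ω - 2 := hrE.trans hdvd
      rw [Nat.factorization_eq_zero_of_not_dvd (n := Fintype.card Ω),
        Nat.factorization_eq_zero_of_not_dvd (n := Fintype.card Ω - 1), zero_add, zero_add]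
      · intro h
        obtain ⟨u, hu⟩ := h
        obtain ⟨v, hv⟩ := hd
        have : r ∣ 1 := ⟨u - v, by rw [Nat.mul_sub, ← hu, ← hv]; omega⟩
        exact hr.out.one_lt.ne' (Nat.dvd_one.1 this)
      · intro h
        obtain ⟨u, hu⟩ := h
        obtain ⟨v, hv⟩ := hd
        have : r ∣ 2 := ⟨u - v, by rw [Nat.mul_sub, ← hu, ← hv]; omega⟩
        exact hr2 ((Nat.prime_dvd_prime_iff_eq hr.out Nat.prime_two).1 this)
    let P : Sylow r G := Sylow.ofCard _ hcard
    have hnc : ¬ Subgroup.normalizer (P : Set G) ≤ Subgroup.centralizer (P : Set G) := by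
      intro hle
      refine hnil r hr.out hrE ⟨_, inferInstance,
        (MonoidHom.ker_transferSylow_isComplement' P hle).symm.index_eq_card.trans hcard⟩
    obtain ⟨g, hg, hgc⟩ := SetLike.not_le_iff_exists.1 hnc
    rw [Subgroup.mem_centralizer_iff] at hgc
    push Not at hgc
    obtain ⟨x, hx, hxne⟩ := hgc
    have hn := Subgroup.mem_normalizer_iff.1 hg
    refine ⟨g, ?_, fun y hy => (hn y).1 hy, x, hx, fun e => hxne ?_⟩
    · have hx1 : x ≠ 1 := fun e => hxne (by rw [e, one_mul, mul_one])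
      obtain ⟨y, -, rfl⟩ := Subgroup.mem_map.1 hx
      have h2 : g⁻¹ * (y : G) * g ∈ (R : Subgroup E).map E.subtype := by
        refine (hn _).2 ?_
        show g * (g⁻¹ * (y : G) * g) * g⁻¹ ∈ _
        rw [show g * (g⁻¹ * (y : G) * g) * g⁻¹ = y by group]
        exact hx
      obtain ⟨w, -, hw⟩ := Subgroup.mem_map.1 h2
      exact pair_of_conj_mem hZ hab y.2 hx1 (hw ▸ w.2)
    · exact (mul_inv_eq_iff_eq_mul.1 e).symm
  have hsw0 := Perm.Zass.exists_swap hZ hab
  -- a fixed swapping element inverts modulo the commutator subgroup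
  have hmain : ∀ s : G, s • a = b → s • b = a → ∀ x : E, ∀ h : s * (x : G) * s⁻¹ ∈ E,
      (⟨_, h⟩ : E) * x ∈ commutator E := by
    intro s hsa hsb
    let σ : E →* E :=
      { toFun := fun x => ⟨s * x * s⁻¹, hnormE s (Or.inr hsa) (Or.inl hsb) x x.2⟩
        map_one' := Subtype.ext (by simp)
        map_mul' := fun x y => Subtype.ext (by simp [mul_assoc]) }
    let qm := QuotientGroup.mk' (commutator E)
    have hqc : ∀ x y : E, qm x * qm y = qm y * qm x := fun x y => by
      rw [← map_mul, ← map_mul]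
      exact QuotientGroup.eq.2 (by
        rw [show (x * y)⁻¹ * (y * x) = ⁅y⁻¹, x⁻¹⁆ by rw [commutatorElement_def]; group]
        exact Subgroup.commutator_mem_commutator (Subgroup.mem_top _) (Subgroup.mem_top _))
    let L : Subgroup E :=
      { carrier := {x | qm (σ x) * qm x = 1}
        one_mem' := by simp [qm]
        mul_mem' := by
          intro x y hx hy
          simp only [Set.mem_ofPred_eq, map_mul] at hx hy ⊢
          calc qm (σ x) * qm (σ y) * (qm x * qm y) = qm (σ x) * (qm (σ y) * qm x) * qm y := by group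
            _ = (qm (σ x) * qm x) * (qm (σ y) * qm y) := by rw [hqc (σ y) x]; group
            _ = 1 := by rw [hx, hy, one_mul]
        inv_mem' := by
          intro x hx
          simp only [Set.mem_ofPred_eq, map_inv] at hx ⊢
          rw [← mul_inv_rev, hqc, hx, inv_one] }
    suffices hL : L = ⊤ by
      intro x hx
      have hxL : x ∈ L := hL ▸ Subgroup.mem_top x
      have : qm (σ x * x) = 1 := by rw [map_mul]; exact hxL
      exact (QuotientGroup.eq_one_iff _).1 this
    refine Subgroup.eq_top_of_card_eq L (Nat.dvd_antisymm (Subgroup.card_subgroup_dvd_card L) ?_)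
    refine (Nat.dvd_iff_prime_pow_dvd_dvd _ _).2 fun r k hr hrk => ?_
    rcases Nat.eq_zero_or_pos k with rfl | hk
    · simp
    have : Fact r.Prime := ⟨hr⟩
    obtain ⟨R⟩ : Nonempty (Sylow r E) := inferInstance
    have hRk : r ^ k ∣ Nat.card (R : Subgroup E) := by
      rw [R.card_eq_multiplicity]
      exact pow_dvd_pow r ((Nat.Prime.pow_dvd_iff_le_factorization hr Nat.card_pos.ne').1 hrk)
    refine hRk.trans (Subgroup.card_dvd_of_le fun x hxR => ?_)
    show qm (σ x) * qm x = 1
    have hrE : r ∣ Nat.card E := (dvd_pow_self r hk.ne').trans hrk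
    by_cases hrc : r ∣ Nat.card (commutator E)
    · -- `R` lies in the commutator subgroup
      have hridx : ¬ r ∣ (commutator E).index := fun h =>
        hr.one_lt.ne' (Nat.dvd_one.1 ((IsZGroup.coprime_commutator_index (G := E)) ▸ Nat.dvd_gcd hrc h))
      have hsub : ∀ y ∈ (R : Subgroup E), qm y = 1 := by
        intro y hy
        obtain ⟨j, hj⟩ := IsPGroup.iff_orderOf.1 R.2 ⟨y, hy⟩
        rw [Subgroup.orderOf_mk] at hj
        have h1 : orderOf (qm y) ∣ r ^ j := hj ▸ orderOf_map_dvd qm y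
        have h2 : orderOf (qm y) ∣ (commutator E).index := by
          rw [Subgroup.index_eq_card]; exact orderOf_dvd_natCard _
        have := Nat.dvd_gcd h1 h2
        rw [(Nat.Coprime.pow_left j (hr.coprime_iff_not_dvd.2 hridx))] at this
        exact orderOf_eq_one_iff.1 (Nat.dvd_one.1 this)
      have hσR : σ x ∈ commutator E := by
        have h1 : x ∈ commutator E := (QuotientGroup.eq_one_iff x).1 (hsub x hxR)
        have h2 : (commutator E).map σ ≤ commutator E := by
          rw [commutator_def, Subgroup.map_commutator]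
          exact Subgroup.commutator_mono le_top le_top
        exact h2 (Subgroup.mem_map_of_mem σ h1)
      rw [hsub x hxR, mul_one]
      exact (QuotientGroup.eq_one_iff _).2 hσR
    · obtain ⟨g, ⟨hga, hgb⟩, hgR, y, hy, hgy⟩ := hkey r hrE R
      have hcentral : ∀ e : E, (∀ y ∈ (R : Subgroup E), e * y * e⁻¹ ∈ (R : Subgroup E)) →
          ∀ y ∈ (R : Subgroup E), e * y = y * e := by
        intro e he y hy
        rcases R.normalizer_le_centralizer_or_le_commutator with h | h
        · refine (Subgroup.mem_centralizer_iff.1 (h (Subgroup.mem_normalizer_iff.2 fun w => ⟨he w, fun hw => ?_⟩)) y hy).symm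
          have hfin : ((R : Subgroup E).map (MulAut.conj e).toMonoidHom) = (R : Subgroup E) := by
            refine Subgroup.eq_of_le_of_card_ge ?_ (Subgroup.card_map_of_injective (MulAut.conj e).injective).ge
            rintro _ ⟨u, hu, rfl⟩
            exact he u hu
          rw [← hfin] at hw
          obtain ⟨u, hu, hu'⟩ := Subgroup.mem_map.1 hw
          have : u = w := (MulAut.conj e).injective hu'
          exact this ▸ hu
        · exact absurd ((dvd_pow_self r hk.ne').trans (hRk.trans (Subgroup.card_dvd_of_le h))) hrc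
      have hgab : g • a = b ∧ g • b = a := by
        rcases hga with h1 | h1 <;> rcases hgb with h2 | h2
        · exact absurd (smul_left_cancel g (h1.trans h2.symm)) hab
        · exfalso
          obtain ⟨w, hw, rfl⟩ := Subgroup.mem_map.1 hy
          refine hgy ?_
          have := congrArg Subtype.val (hcentral ⟨g, h1, h2⟩ (fun u hu => by
            obtain ⟨v, hv, hv'⟩ := Subgroup.mem_map.1 (hgR _ (Subgroup.mem_map_of_mem E.subtype hu))
            have e' : v = (⟨g, h1, h2⟩ : E) * u * (⟨g, h1, h2⟩ : E)⁻¹ := Subtype.ext hv'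
            exact e' ▸ hv) w hw)
          exact mul_inv_eq_iff_eq_mul.2 this
        · exact ⟨h1, h2⟩
        · exact absurd (smul_left_cancel g (h1.trans h2.symm)) hab
      have hr2 : r ≠ 2 := fun e => (Nat.not_even_iff_odd.2 hodd) (even_iff_two_dvd.2 (e ▸ hrE))
      have hg2R : ∀ u ∈ (R : Subgroup E), (⟨g * g, hswap2 g hgab.1 hgab.2⟩ : E) * u *
          (⟨g * g, hswap2 g hgab.1 hgab.2⟩ : E)⁻¹ ∈ (R : Subgroup E) := by
        intro u hu
        obtain ⟨v, hv, hv'⟩ := Subgroup.mem_map.1 (hgR _ (Subgroup.mem_map_of_mem E.subtype hu))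
        obtain ⟨w, hw, hw'⟩ := Subgroup.mem_map.1 (hgR _ (Subgroup.mem_map_of_mem E.subtype hv))
        have e' : w = (⟨g * g, hswap2 g hgab.1 hgab.2⟩ : E) * u * (⟨g * g, hswap2 g hgab.1 hgab.2⟩ : E)⁻¹ := by
          apply Subtype.ext
          show (w : G) = g * g * u * (g * g)⁻¹
          simp only [Subgroup.coe_subtype] at hv' hw'
          rw [hw', hv']; group
        exact e' ▸ hw
      have hinvg := inverts_of_sq hr2 ((R : Subgroup E).map E.subtype) (R.2.map _)
        (((R : Subgroup E).equivMapOfInjective E.subtype E.subtype_injective).isCyclic.1 inferInstance) hgR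
        (by
          rintro _ ⟨u, hu, rfl⟩
          exact congrArg Subtype.val (hcentral ⟨g * g, hswap2 g hgab.1 hgab.2⟩ hg2R u hu)) ⟨y, hy, hgy⟩
      -- `s` differs from `g` by an element of `E`
      let e : E := ⟨s * g⁻¹, show (s * g⁻¹) • a = a by rw [mul_smul, inv_smul_eq_iff.2 hgab.2.symm, hsb],
        show (s * g⁻¹) • b = b by rw [mul_smul, inv_smul_eq_iff.2 hgab.1.symm, hsa]⟩
      have hσx : σ x = e * x⁻¹ * e⁻¹ := by
        apply Subtype.ext
        show s * (x : G) * s⁻¹ = (s * g⁻¹) * (x : G)⁻¹ * (s * g⁻¹)⁻¹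
        rw [← hinvg (x : G) (Subgroup.mem_map_of_mem E.subtype hxR)]
        group
      rw [hσx, map_mul, map_mul, map_inv, map_inv]
      have hc : qm x⁻¹ * qm e = qm e * qm x⁻¹ := hqc _ _
      rw [map_inv] at hc
      rw [← hc, mul_inv_cancel_right, inv_mul_cancel]
  obtain ⟨s₀, -, h0a, h0b⟩ := hsw0
  -- the commutator subgroup is central
  have hcen : commutator E ≤ Subgroup.center E := by
    have := IsZGroup.isCyclic_commutator E
    let θ : E →* MulAut (commutator E) := MulAut.conjNormal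
    have hθcomm : ∀ x y : E, θ x * θ y = θ y * θ x := by
      intro x y
      obtain ⟨γ, hγ⟩ := IsCyclic.exists_generator (α := commutator E)
      obtain ⟨i, hi⟩ := Subgroup.mem_zpowers_iff.1 (hγ (θ x γ))
      obtain ⟨j, hj⟩ := Subgroup.mem_zpowers_iff.1 (hγ (θ y γ))
      refine MulEquiv.ext fun u => ?_
      obtain ⟨k, rfl⟩ := Subgroup.mem_zpowers_iff.1 (hγ u)
      rw [MulAut.mul_apply, MulAut.mul_apply, map_zpow, map_zpow, map_zpow, map_zpow, ← hi, ← hj,
        map_zpow, map_zpow, ← hi, ← hj, ← zpow_mul, ← zpow_mul, ← zpow_mul, ← zpow_mul]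
      congr 1; ring
    intro u hu
    rw [Subgroup.mem_center_iff]
    intro x
    -- `x` and its inverse act alike on the commutator subgroup
    have hσ : ∀ z : E, s₀ * (z : G) * s₀⁻¹ ∈ E := fun z => hnormE s₀ (Or.inr h0a) (Or.inl h0b) z z.2
    have hker : ∀ c ∈ commutator E, θ c = 1 := by
      intro c hc
      refine MulEquiv.ext fun w => Subtype.ext ?_
      show c * (w : E) * c⁻¹ = w
      obtain ⟨γ, hγ⟩ := IsCyclic.exists_generator (α := commutator E)
      obtain ⟨i, hi⟩ := Subgroup.mem_zpowers_iff.1 (hγ ⟨c, hc⟩)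
      obtain ⟨j, hj⟩ := Subgroup.mem_zpowers_iff.1 (hγ w)
      have h : γ ^ i * γ ^ j = γ ^ j * γ ^ i := by rw [← zpow_add, ← zpow_add, add_comm]
      rw [hi, hj] at h
      rw [mul_inv_eq_iff_eq_mul]
      exact congrArg Subtype.val h
    have hθσ : θ ⟨_, hσ x⟩ * θ x = 1 := by
      rw [← map_mul]
      exact hker _ (hmain s₀ h0a h0b x (hσ x))
    have hθx : θ ⟨_, hσ x⟩ = θ x := by
      -- conjugation by `s₀` on the cyclic group commutes with conjugation by `x`
      obtain ⟨γ, hγ⟩ := IsCyclic.exists_generator (α := commutator E)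
      refine MulEquiv.ext fun w => Subtype.ext (Subtype.ext ?_)
      let σ : E →* E :=
        { toFun := fun z => ⟨s₀ * z * s₀⁻¹, hσ z⟩
          map_one' := Subtype.ext (by simp)
          map_mul' := fun z z' => Subtype.ext (by simp [mul_assoc]) }
      have hσc : ∀ z ∈ commutator E, σ z ∈ commutator E := by
        intro z hz
        have h2 : (commutator E).map σ ≤ commutator E := by
          rw [commutator_def, Subgroup.map_commutator]
          exact Subgroup.commutator_mono le_top le_top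
        exact h2 (Subgroup.mem_map_of_mem σ hz)
      let σ' : commutator E →* commutator E :=
        { toFun := fun z => ⟨σ (z : E), hσc (z : E) z.2⟩
          map_one' := Subtype.ext (map_one σ)
          map_mul' := fun z z' => Subtype.ext (map_mul σ (z : E) (z' : E)) }
      have hbij : Function.Surjective σ' := Finite.injective_iff_surjective.1 (fun z z' h => by
        have := congrArg (fun v : commutator E => ((v : E) : G)) h
        simp only [σ', σ, MonoidHom.coe_mk, OneHom.coe_mk] at this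
        exact Subtype.ext (Subtype.ext (mul_left_cancel (mul_right_cancel this))))
      obtain ⟨v, rfl⟩ := hbij w
      obtain ⟨i, hi⟩ := Subgroup.mem_zpowers_iff.1 (hγ (θ x γ))
      have hpow : ∀ z : commutator E, θ x z = z ^ i := by
        intro z
        obtain ⟨k, rfl⟩ := Subgroup.mem_zpowers_iff.1 (hγ z)
        rw [map_zpow, ← hi, ← zpow_mul, ← zpow_mul, mul_comm]
      have h1 : σ' (θ x v) = θ x (σ' v) := by rw [hpow, hpow, map_zpow]
      have h2 := congrArg (fun z : commutator E => ((z : E) : G)) h1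
      rw [← h2]
      show (s₀ * x * s₀⁻¹) * (s₀ * ((v : E) : G) * s₀⁻¹) * (s₀ * x * s₀⁻¹)⁻¹ =
        s₀ * ((x : G) * ((v : E) : G) * (x : G)⁻¹) * s₀⁻¹
      group
    have hθ1 : θ x = 1 := by
      rw [hθx] at hθσ
      have h1 : orderOf (θ x) ∣ 2 := orderOf_dvd_of_pow_eq_one (by rw [pow_two]; exact hθσ)
      have h2 : orderOf (θ x) ∣ Nat.card E := (orderOf_map_dvd θ x).trans (orderOf_dvd_natCard x)
      have := Nat.dvd_gcd h1 h2
      rw [(Nat.coprime_two_left.2 hodd)] at this
      exact orderOf_eq_one_iff.1 (Nat.dvd_one.1 this)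
    have := congrArg Subtype.val (DFunLike.congr_fun hθ1 (⟨u, hu⟩ : commutator E))
    exact mul_inv_eq_iff_eq_mul.1 this
  have hnilp : Group.IsNilpotent E := by
    refine Group.of_quotient_center_nilpotent ?_
    let _ : CommGroup (E ⧸ Subgroup.center E) :=
      { (inferInstance : Group (E ⧸ Subgroup.center E)) with
        mul_comm := fun u v => by
          obtain ⟨x, rfl⟩ := QuotientGroup.mk_surjective u
          obtain ⟨y, rfl⟩ := QuotientGroup.mk_surjective v
          refine QuotientGroup.eq.2 (hcen ?_)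
          rw [show (x * y)⁻¹ * (y * x) = ⁅y⁻¹, x⁻¹⁆ by rw [commutatorElement_def]; group]
          exact Subgroup.commutator_mem_commutator (Subgroup.mem_top _) (Subgroup.mem_top _) }
    infer_instance
  have hcyc : IsCyclic E := inferInstance
  have hcomm : commutator E = ⊥ := by
    rw [eq_bot_iff, commutator_def, Subgroup.commutator_le]
    intro x _ y _
    obtain ⟨γ, hγ⟩ := IsCyclic.exists_generator (α := E)
    obtain ⟨i, rfl⟩ := Subgroup.mem_zpowers_iff.1 (hγ x)
    obtain ⟨j, rfl⟩ := Subgroup.mem_zpowers_iff.1 (hγ y)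
    rw [Subgroup.mem_bot]
    exact commutatorElement_eq_one_iff_mul_comm.2 (by rw [← zpow_add, ← zpow_add, add_comm])
  have hinv : ∀ s : G, s • a = b → s • b = a → ∀ h ∈ E, s * h * s⁻¹ = h⁻¹ := by
    intro s hsa hsb h hh
    have hm := hnormE s (Or.inr hsa) (Or.inl hsb) h hh
    have h1 := hmain s hsa hsb ⟨h, hh⟩ hm
    rw [hcomm, Subgroup.mem_bot] at h1
    exact eq_inv_of_mul_eq_one_left (congrArg Subtype.val h1)
  refine ⟨hcyc, le_antisymm (fun c hc => ?_) (fun c hc => ?_), hinv⟩
  · have : Nontrivial E := Finite.one_lt_card_iff_nontrivial.1 (twoStab_nontrivial hZ hab)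
    obtain ⟨x, hx1⟩ := exists_ne (1 : E)
    rw [Subgroup.mem_centralizer_iff] at hc
    have hxc := hc (x : G) x.2
    have hx1' : (x : G) ≠ 1 := fun e => hx1 (Subtype.ext e)
    have hconj : c⁻¹ * (x : G) * c = x := by rw [mul_assoc, hxc, inv_mul_cancel_left]
    obtain ⟨h1, h2⟩ := pair_of_conj_mem hZ hab x.2 hx1' (hconj.symm ▸ x.2)
    rcases h1 with h1 | h1 <;> rcases h2 with h2 | h2
    · exact absurd (smul_left_cancel c (h1.trans h2.symm)) hab
    · exact ⟨h1, h2⟩
    · exfalso
      have := hinv c h1 h2 (x : G) x.2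
      rw [← hxc, mul_inv_cancel_right] at this
      exact hx1' (hpow2 _ x.2 (eq_inv_iff_mul_eq_one.1 this))
    · exact absurd (smul_left_cancel c (h1.trans h2.symm)) hab
  · rw [Subgroup.mem_centralizer_iff]
    intro h hh
    obtain ⟨γ, hγ⟩ := IsCyclic.exists_generator (α := E)
    obtain ⟨i, hi⟩ := Subgroup.mem_zpowers_iff.1 (hγ ⟨c, hc⟩)
    obtain ⟨j, hj⟩ := Subgroup.mem_zpowers_iff.1 (hγ ⟨h, hh⟩)
    have h' : γ ^ j * γ ^ i = γ ^ i * γ ^ j := by rw [← zpow_add, ← zpow_add, add_comm]
    rw [hi, hj] at h'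
    exact congrArg Subtype.val h'


end Cfsg.Agent.S0739
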