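import Cfsg.Statements.S0740
import Mathlib
import Cfsg.Agent.Lib.Perm.Zassenhaus

set_option autoImplicit false
open Cfsg

namespace Cfsg.Agent.S0740

/-- In a finite Zassenhaus group any two points `a ≠ b` are swapped by an involution; every such involution has exactly one fixed point when the degree is odd and 0 or 2 fixed points when the degree is even; and if the two-point stabiliser has even order, some such involution has exactly 2 fixed points. -/
theorem result {G Ω : Type*} [Group G] [Finite G] [MulAction G Ω] [Fintype Ω] (hZ : Cfsg.IsZassenhausGroup G Ω) {a b : Ω} (hab : a ≠ b) : (∃ s : G, orderOf s = 2 ∧ s • a = b ∧ s • b = a) ∧ (∀ s : G, orderOf s = 2 → s • a = b → s • b = a → (Odd (Fintype.card Ω) → Nat.card (MulAction.fixedBy Ω s) = 1) ∧ (Even (Fintype.card Ω) → Nat.card (MulAction.fixedBy Ω s) = 0 ∨ Nat.card (MulAction.fixedBy Ω s) = 2)) ∧ (Even (Fintype.card Ω) → Even (Nat.card ↥(MulAction.stabilizer G a ⊓ MulAction.stabilizer G b)) → ∃ s : G, orderOf s = 2 ∧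 s • a = b ∧ s • b = a ∧ Nat.card (MulAction.fixedBy Ω s) = 2) := by
  classical
  refine ⟨Cfsg.Agent.Perm.Zass.exists_swap hZ hab, ?_, ?_⟩
  · intro s hs _ _
    have hs1 : s ≠ 1 := fun e => by rw [e, orderOf_one] at hs; omega
    have h := Cfsg.Agent.Perm.Zass.card_fixed_le hZ hs1
    have hp := Cfsg.Agent.Perm.Zass.card_fixed_parity (Ω := Ω) (Cfsg.Agent.Perm.Zass.sq_eq_one_of_order hs)
    have hn : Nat.card (MulAction.fixedBy Ω s) = (Finset.univ.filter fun x : Ω => s • x = x).card := by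
      rw [← Fintype.card_subtype, ← Nat.card_eq_fintype_card]
      rfl
    rw [hn]
    rw [Nat.even_iff, Nat.even_iff] at hp
    refine ⟨fun ho => ?_, fun he => ?_⟩
    · rw [Nat.odd_iff] at ho; omega
    · rw [Nat.even_iff] at he; omega
  · intro _ heven
    obtain ⟨z, hz, hza, hzb⟩ := Cfsg.Agent.Perm.Zass.exists_involution_of_even heven
    obtain ⟨c, hca, hcb⟩ := Cfsg.Agent.Perm.Zass.exists_third hZ a b
    have hz1 : z ≠ 1 := fun e => by rw [e, orderOf_one] at hz; omega
    have hzc : z • c ≠ c := fun e => hz1 (Cfsg.Agent.Perm.Zass.eq_one_of_three hZ hab hcb.symm hca.symm hza hzb e)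
    obtain ⟨k, hka, hkb⟩ := Cfsg.Agent.Perm.Zass.two_trans hZ hzc.symm hab
    have hzz := Cfsg.Agent.Perm.Zass.smul_smul_of_sq (Cfsg.Agent.Perm.Zass.sq_eq_one_of_order hz) c
    have ho : orderOf (k * z * k⁻¹) = 2 := by
      rw [show k * z * k⁻¹ = MulAut.conj k z from rfl, MulEquiv.orderOf_eq, hz]
    refine ⟨k * z * k⁻¹, ho, ?_, ?_, ?_⟩
    · rw [mul_smul, mul_smul, inv_smul_eq_iff.2 hka.symm, hkb]
    · rw [mul_smul, mul_smul, inv_smul_eq_iff.2 hkb.symm, hzz, hka]
    · have hn : Nat.card (MulAction.fixedBy Ω (k * z * k⁻¹)) = (Finset.univ.filter fun x : Ω => (k * z * k⁻¹) • x = x).card := by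
        rw [← Fintype.card_subtype, ← Nat.card_eq_fintype_card]
        rfl
      rw [hn]
      have h1 : k * z * k⁻¹ ≠ 1 := fun e => by rw [e, orderOf_one] at ho; omega
      refine le_antisymm (Cfsg.Agent.Perm.Zass.card_fixed_le hZ h1)
        (Finset.one_lt_card.2 ⟨k • a, ?_, k • b, ?_, fun e => hab (smul_left_cancel k e)⟩)
      · simp [mul_smul, hza]
      · simp [mul_smul, hzb]

end Cfsg.Agent.S0740
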