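import Cfsg.Statements.S0748
import Cfsg.Agent.Lib.Perm.LivingstoneWagner
import Cfsg.Agent.Lib.Perm.InducedAlternating

set_option autoImplicit false
open Cfsg

namespace Cfsg.Agent.S0748

open MulAction Finset Pointwise Cfsg.Agent.Perm

/-- The Livingstone–Wagner Theorem: a `k`-homogeneous permutation group of degree `n` with `10 ≤ 2k ≤ n` is `k`-transitive. -/
theorem result {α : Type*} [Fintype α] [DecidableEq α] (G : Subgroup (Equiv.Perm α)) {k : ℕ} (hk : 5 ≤ k) (hkn : 2 * k ≤ Fintype.card α) (hh : MulAction.IsPretransitive G (Set.powersetCard α k)) : MulAction.IsMultiplyPretransitive G α k := by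
  classical
  have hn : Fintype.card α = Fintype.card α := rfl
  have ht := LW.isMultiplyPretransitive_pred (G := G) k (by omega) hkn hh
  obtain ⟨Δ, hΔ, halt⟩ := inducesAlt_of_transitive (Fintype.card α) G (k - 1) rfl (by omega)
    (by omega) ht
  -- some stabiliser of `k - 2` points has even order
  obtain ⟨Θ, hΘ, hev⟩ : ∃ Θ : Finset α, Θ.card = k - 2 ∧
      2 ∣ Nat.card (fixingSubgroup G (Θ : Set α)) := by
    by_contra hcon
    push Not at hcon
    obtain ⟨Φ, -, hΦ⟩ := exists_subset_card_eq (s := (univ : Finset α)) (n := k - 5)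
      (by rw [card_univ]; omega)
    haveI : Fintype (SubMulAction.ofFixingSubgroup G (Φ : Set α)) := Fintype.ofFinite _
    haveI := ht
    have S : OddThree (fixingSubgroup G (Φ : Set α))
        (SubMulAction.ofFixingSubgroup G (Φ : Set α)) :=
      { four := SubMulAction.ofFixingSubgroup.isMultiplyPretransitive G (n := k - 1) (Φ : Set α)
          (by rw [Set.ncard_coe_finset, hΦ]; omega)
        odd := fun g a b c hab hac hbc ga gb gc => by
          set Y := Φ ∪ {(a : α), (b : α), (c : α)} with hY
          have hYc : Y.card = k - 2 := by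
            rw [hY, card_union_of_disjoint, hΦ, card_insert_of_notMem, card_pair]
            · omega
            · exact fun e => hbc (Subtype.ext e)
            · simp only [mem_insert, mem_singleton, not_or]
              exact ⟨fun e => hab (Subtype.ext e), fun e => hac (Subtype.ext e)⟩
            · rw [disjoint_left]
              intro t ht ht'
              simp only [mem_insert, mem_singleton] at ht'
              rcases ht' with rfl | rfl | rfl
              · exact a.2 (mem_coe.2 ht)
              · exact b.2 (mem_coe.2 ht)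
              · exact c.2 (mem_coe.2 ht)
          have hmem : (g : G) ∈ fixingSubgroup G (Y : Set α) := by
            rw [mem_fixingSubgroup_iff]
            intro t ht
            rw [hY, coe_union, Set.mem_union] at ht
            rcases ht with ht | ht
            · exact (mem_fixingSubgroup_iff G).1 g.2 t ht
            · simp only [coe_insert, coe_singleton, Set.mem_insert_iff,
                Set.mem_singleton_iff] at ht
              rcases ht with rfl | rfl | rfl
              · exact congrArg Subtype.val ga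
              · exact congrArg Subtype.val gb
              · exact congrArg Subtype.val gc
          have h := Subgroup.orderOf_dvd_natCard _ hmem
          rw [Subgroup.orderOf_coe] at h
          refine Odd.of_dvd_nat ?_ h
          rw [← Nat.not_even_iff_odd, even_iff_two_dvd]
          exact hcon Y hYc }
    refine S.false ?_
    have : Fintype.card (SubMulAction.ofFixingSubgroup G (Φ : Set α)) =
        Fintype.card α - (k - 5) := by
      rw [← hΦ, ← card_univ (α := α), ← card_sdiff_of_subset (subset_univ _)]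
      exact Fintype.card_of_subtype _ fun v => by simp [SubMulAction.mem_ofFixingSubgroup_iff]
    omega
  haveI : Fact (Nat.Prime 2) := ⟨Nat.prime_two⟩
  obtain ⟨⟨z, hz⟩, hzo⟩ := exists_prime_orderOf_dvd_card' (G := fixingSubgroup G (Θ : Set α)) 2 hev
  rw [Subgroup.orderOf_mk] at hzo
  have hzz : z * z = 1 := by rw [← pow_two, ← hzo, pow_orderOf_eq_one]
  obtain ⟨a, ha⟩ : ∃ a : α, z • a ≠ a := by
    by_contra hall
    push Not at hall
    rw [show z = 1 from Subtype.ext (Equiv.ext hall), orderOf_one] at hzo
    omega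
  have hzΘ : ∀ t ∈ Θ, z • t = t := fun t ht => (mem_fixingSubgroup_iff G).1 hz t (mem_coe.2 ht)
  have haΘ : a ∉ Θ := fun h => ha (hzΘ a h)
  have hzaΘ : z • a ∉ Θ := fun h => ha (by
    have := hzΘ _ h
    rwa [← mul_smul, hzz, one_smul, eq_comm] at this)
  obtain ⟨g, hg⟩ := exists_smul_finset_eq hh
    (show (insert a (insert (z • a) Θ)).card = k by
      rw [card_insert_of_notMem (by simp [Ne.symm ha, haΘ]), card_insert_of_notMem hzaΘ, hΘ]
      omega)
    (show Δ.card = k by omega)
  have hmemΔ : ∀ t, t ∈ Δ ↔ ∃ t' ∈ insert a (insert (z • a) Θ), g • t' = t := fun t => by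
    rw [← hg, mem_smul_finset]
  let i0 : ↥Δ := ⟨g • a, (hmemΔ _).2 ⟨a, by simp, rfl⟩⟩
  let j0 : ↥Δ := ⟨g • z • a, (hmemΔ _).2 ⟨z • a, by simp, rfl⟩⟩
  have hij : i0 ≠ j0 := fun e => ha (smul_left_cancel g (congrArg Subtype.val e)).symm
  -- every permutation of `Δ` is induced
  have hall : ∀ σ : Equiv.Perm ↥Δ, ∃ u : G, ∀ x : ↥Δ, u • (x : α) = σ x := by
    intro σ
    have hτ : ∀ x : ↥Δ, (g * z * g⁻¹) • (x : α) = Equiv.swap i0 j0 x := by
      intro x
      obtain ⟨t, ht, hx⟩ := (hmemΔ _).1 x.2
      rw [mul_smul, mul_smul, inv_smul_eq_iff.2 hx.symm]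
      simp only [mem_insert] at ht
      rcases ht with rfl | rfl | ht
      · rw [show x = i0 from Subtype.ext hx.symm, Equiv.swap_apply_left]
      · rw [show x = j0 from Subtype.ext hx.symm, Equiv.swap_apply_right, ← mul_smul z, hzz,
          one_smul]
      · rw [hzΘ t ht, Equiv.swap_apply_of_ne_of_ne, hx]
        · exact fun e => haΘ (by
            have : g • t = g • a := by rw [hx, e]
            exact (smul_left_cancel g this) ▸ ht)
        · exact fun e => hzaΘ (by
            have : g • t = g • z • a := by rw [hx, e]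
            exact (smul_left_cancel g this) ▸ ht)
    rcases Int.units_eq_one_or (Equiv.Perm.sign σ) with hσ | hσ
    · obtain ⟨u, hu, hux⟩ := halt σ (Equiv.Perm.mem_alternatingGroup.2 hσ)
      exact ⟨⟨u, hu⟩, hux⟩
    · obtain ⟨u, hu, hux⟩ := halt (σ * Equiv.swap i0 j0) (by
        rw [Equiv.Perm.mem_alternatingGroup, map_mul, hσ, Equiv.Perm.sign_swap hij]; rfl)
      refine ⟨⟨u, hu⟩ * (g * z * g⁻¹), fun x => ?_⟩
      rw [mul_smul, hτ]
      exact (hux _).trans (by rw [Equiv.Perm.mul_apply, Equiv.swap_apply_self])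
  refine isMultiplyPretransitive_of_swaps hh fun y i j hij' => ?_
  obtain ⟨w, hw⟩ := exists_smul_finset_eq hh
    (show (univ.map y).card = k by rw [card_map, card_univ, Fintype.card_fin])
    (show Δ.card = k by omega)
  have hy : ∀ l, w • y l ∈ Δ := fun l => hw ▸ smul_mem_smul_finset (mem_map_of_mem y (mem_univ l))
  obtain ⟨u, hu⟩ := hall (Equiv.swap ⟨w • y i, hy i⟩ ⟨w • y j, hy j⟩)
  have key : ∀ l, (w⁻¹ * u * w) • y l =
      w⁻¹ • ((Equiv.swap (⟨w • y i, hy i⟩ : ↥Δ) ⟨w • y j, hy j⟩ ⟨w • y l, hy l⟩ : ↥Δ) : α) :=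
    fun l => by rw [mul_smul, mul_smul, ← hu]
  refine ⟨w⁻¹ * u * w, ?_, ?_, fun l hli hlj => ?_⟩
  · rw [key, Equiv.swap_apply_left, inv_smul_smul]
  · rw [key, Equiv.swap_apply_right, inv_smul_smul]
  · rw [key, Equiv.swap_apply_of_ne_of_ne, inv_smul_smul]
    · exact fun e => hli (y.injective (smul_left_cancel w (congrArg Subtype.val e)))
    · exact fun e => hlj (y.injective (smul_left_cancel w (congrArg Subtype.val e)))

end Cfsg.Agent.S0748
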