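import Cfsg.Statements.S0745
import Cfsg.Agent.Lib.Perm.LivingstoneWagner
import Cfsg.Agent.Lib.Perm.SharplyFour
import Cfsg.Agent.Lib.Perm.Sharply
import Cfsg.Agent.S0748
-- import your own Cfsg.Agent.* helpers here

set_option autoImplicit false
open Cfsg

namespace Cfsg.Agent.S0745

open MulAction Finset Pointwise Cfsg.Agent.Perm

variable {α : Type*} [Fintype α] [DecidableEq α] {G : Subgroup (Equiv.Perm α)}

/-- `G` maps any `j`-set to any other. -/
def Hom (G : Subgroup (Equiv.Perm α)) (j : ℕ) : Prop :=
  ∀ S T : Finset α, S.card = j → T.card = j → ∃ g : G, g • S = T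

theorem hom_of_homogeneous {j : ℕ} (h : IsPretransitive G (Set.powersetCard α j)) : Hom G j :=
  fun _ _ hS hT => exists_smul_finset_eq h hS hT

theorem hom_of_trans {t j : ℕ} (ht : IsMultiplyPretransitive G α t) (htn : t ≤ Fintype.card α)
    (hj : j ≤ t) : Hom G j := by
  haveI := ht
  have hj' : IsMultiplyPretransitive G α j :=
    isMultiplyPretransitive_of_le hj (by rw [Nat.card_eq_fintype_card]; exact htn)
  intro S T hS hT
  let x : Fin j ↪ α := ⟨fun i => ((S.equivFinOfCardEq hS).symm i : α),
    fun a b h => (S.equivFinOfCardEq hS).symm.injective (Subtype.ext h)⟩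
  let y : Fin j ↪ α := ⟨fun i => ((T.equivFinOfCardEq hT).symm i : α),
    fun a b h => (T.equivFinOfCardEq hT).symm.injective (Subtype.ext h)⟩
  obtain ⟨g, hg⟩ := hj'.exists_smul_eq x y
  refine ⟨g, Finset.eq_of_subset_of_card_le ?_ (by rw [Finset.card_smul_finset, hS, hT])⟩
  intro z hz
  obtain ⟨s, hs, rfl⟩ := mem_smul_finset.1 hz
  have h := DFunLike.congr_fun hg (S.equivFinOfCardEq hS ⟨s, hs⟩)
  simp only [Function.Embedding.smul_apply] at h
  change g • (((S.equivFinOfCardEq hS).symm (S.equivFinOfCardEq hS ⟨s, hs⟩)) : α) = _ at h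
  rw [Equiv.symm_apply_apply] at h
  rw [show g • s = _ from h]
  exact Subtype.coe_prop _

/-- A commutator of two permutations with exactly one common moved point is a 3-cycle. -/
theorem isThreeCycle_commutator {f g : Equiv.Perm α} {a : α} (hf : f a ≠ a) (hg : g a ≠ a)
    (h : ∀ x, f x ≠ x → g x ≠ x → x = a) : Equiv.Perm.IsThreeCycle (f * g * f⁻¹ * g⁻¹) := by
  have hgb : g (f a) = f a := by
    by_contra hc
    exact hf (h (f a) (fun e => hf (f.injective e)) hc)
  have hfc : f (g a) = g a := by
    by_contra hc
    exact hg (h (g a) hc (fun e => hg (g.injective e)))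
  have hne : f a ≠ g a := fun e => hf (f.injective (by rw [e, hfc]))
  have heq : f * g * f⁻¹ * g⁻¹ = Equiv.swap (f a) a * Equiv.swap (f a) (g a) := by
    ext x
    simp only [Equiv.Perm.mul_apply]
    by_cases hxa : x = a
    · subst hxa
      obtain ⟨d, hd⟩ : ∃ d, g⁻¹ x = d := ⟨_, rfl⟩
      have hgd : g d = x := by rw [← hd]; exact g.apply_symm_apply x
      have hdx : d ≠ x := fun e => hg (by rw [e] at hgd; exact hgd)
      have hfd : f d = d := by
        by_contra hc
        exact hdx (h d hc (fun e => hdx (e.symm.trans hgd)))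
      have hfd' : f⁻¹ d = d := by
        rw [Equiv.Perm.inv_eq_iff_eq]; exact hfd.symm
      rw [hd, hfd', hgd, Equiv.swap_apply_of_ne_of_ne hf.symm hg.symm, Equiv.swap_apply_right]
    by_cases hxb : x = f a
    · subst hxb
      have h1 : g⁻¹ (f a) = f a := by rw [Equiv.Perm.inv_eq_iff_eq]; exact hgb.symm
      have h2 : f⁻¹ (f a) = a := f.symm_apply_apply a
      rw [h1, h2, hfc, Equiv.swap_apply_left, Equiv.swap_apply_of_ne_of_ne hne.symm hg]
    by_cases hxc : x = g a
    · subst hxc
      have h1 : g⁻¹ (g a) = a := g.symm_apply_apply a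
      obtain ⟨e, he⟩ : ∃ e, f⁻¹ a = e := ⟨_, rfl⟩
      have hfe : f e = a := by rw [← he]; exact f.apply_symm_apply a
      have hea : e ≠ a := fun e' => hf (by rw [e'] at hfe; exact hfe)
      have hge : g e = e := by
        by_contra hc
        exact hea (h e (fun e' => hea (e'.symm.trans hfe)) hc)
      rw [h1, he, hge, hfe, Equiv.swap_apply_right, Equiv.swap_apply_left]
    rw [Equiv.swap_apply_of_ne_of_ne hxb hxc, Equiv.swap_apply_of_ne_of_ne hxb hxa]
    by_cases hgx : g x = x
    · have h1 : g⁻¹ x = x := by rw [Equiv.Perm.inv_eq_iff_eq]; exact hgx.symm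
      obtain ⟨y, hy⟩ : ∃ y, f⁻¹ x = y := ⟨_, rfl⟩
      have hfy : f y = x := by rw [← hy]; exact f.apply_symm_apply x
      have hgy : g y = y := by
        by_contra hc
        rcases eq_or_ne (f y) y with e | e
        · rw [← hfy, e] at hgx; exact hc hgx
        · exact hxb (by rw [← h y e hc, hfy])
      rw [h1, hy, hgy, hfy]
    · obtain ⟨y, hy⟩ : ∃ y, g⁻¹ x = y := ⟨_, rfl⟩
      have hgy : g y = x := by rw [← hy]; exact g.apply_symm_apply x
      have hfx : f x = x := by
        by_contra hc
        exact hxa (h x hc hgx)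
      have hyx : g y ≠ y := fun e => hgx (by rw [← hgy, e]; exact e)
      have hfy : f y = y := by
        by_contra hc
        exact hxc (by rw [← h y hc hyx, hgy])
      have h2 : f⁻¹ y = y := by rw [Equiv.Perm.inv_eq_iff_eq]; exact hfy.symm
      rw [hy, h2, hgy, hfx]
  rw [heq]
  exact Equiv.Perm.isThreeCycle_swap_mul_swap_same hf hne hg.symm

theorem alt_le_of_common (hprim : IsPreprimitive G α) {f g : G} {a : α} (hf : f • a ≠ a)
    (hg : g • a ≠ a) (h : ∀ x, f • x ≠ x → g • x ≠ x → x = a) : alternatingGroup α ≤ G :=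
  Equiv.Perm.alternatingGroup_le_of_isPreprimitive_of_isThreeCycle_mem hprim
    (isThreeCycle_commutator (f := (f : Equiv.Perm α)) (g := (g : Equiv.Perm α)) hf hg h)
    (f * g * f⁻¹ * g⁻¹).2

/-- Either `A_n ≤ G`, or only the identity fixes `m` points. -/
theorem alt_or_semiregular (hprim : IsPreprimitive G α) {m : ℕ}
    (hm : 2 * (Fintype.card α - m) ≤ Fintype.card α + 1)
    (hhom : ∀ j, j ≤ Fintype.card α - m → Hom G j) :
    alternatingGroup α ≤ G ∨ ∀ x : Fin m ↪ α, stabilizer G x = ⊥ := by
  classical
  by_cases hs : ∀ x : Fin m ↪ α, stabilizer G x = ⊥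
  · exact Or.inr hs
  left
  push Not at hs
  obtain ⟨x, hx⟩ := hs
  obtain ⟨g', hg'⟩ := Subgroup.ne_bot_iff_exists_ne_one.1 hx
  obtain ⟨g, hgmem, hg1⟩ : ∃ g : G, g ∈ stabilizer G x ∧ g ≠ 1 :=
    ⟨g'.1, g'.2, fun e => hg' (Subtype.ext e)⟩
  set S : Finset α := univ.filter fun z => g • z ≠ z with hS
  have hSne : S.Nonempty := by
    by_contra hemp
    apply hg1
    refine Subtype.ext (Equiv.Perm.ext fun z => ?_)
    by_contra hz
    exact hemp ⟨z, by simp only [hS, mem_filter, mem_univ, true_and]; exact hz⟩
  have hSc : S.card ≤ Fintype.card α - m := by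
    have hsub : S ⊆ (univ.map x)ᶜ := by
      intro z hz
      simp only [mem_compl, mem_map, mem_univ, true_and, not_exists]
      intro i hi
      simp only [hS, mem_filter, mem_univ, true_and] at hz
      exact hz (hi ▸ DFunLike.congr_fun (mem_stabilizer_iff.1 hgmem) i)
    have := card_le_card hsub
    rwa [card_compl, card_map, card_univ, Fintype.card_fin] at this
  obtain ⟨a, ha⟩ := hSne
  obtain ⟨R, hR, hRc⟩ := exists_subset_card_eq (s := Sᶜ) (n := S.card - 1)
    (by rw [card_compl]; omega)
  have haR : a ∉ R := fun e => mem_compl.1 (hR e) ha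
  obtain ⟨h, hh⟩ := hhom S.card hSc S (insert a R) rfl (by
    rw [card_insert_of_notMem haR, hRc]; have := card_pos.2 ⟨a, ha⟩; omega)
  have key : ∀ z, (h * g * h⁻¹) • z ≠ z ↔ z ∈ insert a R := by
    intro z
    rw [← hh, ← Finset.inv_smul_mem_iff]
    simp only [hS, mem_filter, mem_univ, true_and, mul_smul, ne_eq]
    rw [← eq_inv_smul_iff]
  refine alt_le_of_common hprim (f := g) (g := h * g * h⁻¹) (a := a) ?_ ?_ ?_
  · simp only [hS, mem_filter, mem_univ, true_and] at ha; exact ha
  · exact (key a).2 (mem_insert_self _ _)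
  · intro z hz1 hz2
    rcases mem_insert.1 ((key z).1 hz2) with e | e
    · exact e
    · exact absurd (show z ∈ S by simp only [hS, mem_filter, mem_univ, true_and]; exact hz1)
        (mem_compl.1 (hR e))

/-- A very transitive group contains the alternating group. -/
theorem alt_of_half {t : ℕ} (ht : IsMultiplyPretransitive G α t) (h2 : 2 ≤ t)
    (htn : t + 1 ≤ Fintype.card α) (hn : Fintype.card α + 1 ≤ 2 * t) :
    alternatingGroup α ≤ G := by
  classical
  haveI := ht
  have hcard : Nat.card α = Fintype.card α := Nat.card_eq_fintype_card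
  have hprim : IsPreprimitive G α := isPreprimitive_of_is_two_pretransitive
    (isMultiplyPretransitive_of_le h2 (by rw [hcard]; omega))
  have mv : ∀ s : Finset α, s.card + 1 ≤ t → ∀ u v, u ∉ s → v ∉ s →
      ∃ g : G, (∀ z ∈ s, g • z = z) ∧ g • u = v := by
    intro s hs u v hu hv
    have h1 := SubMulAction.ofFixingSubgroup.isMultiplyPretransitive' (G := G) (α := α)
      (m := 1) (n := t) (s : Set α) (by rw [Set.ncard_coe_finset]; omega)
      (by rw [ENat.card_eq_coe_natCard, hcard]; exact_mod_cast (by omega : t ≤ Fintype.card α))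
    obtain ⟨g, hg⟩ := (is_one_pretransitive_iff.1 h1).exists_smul_eq ⟨u, hu⟩ ⟨v, hv⟩
    exact ⟨g, fun z hz => (mem_fixingSubgroup_iff _).1 g.2 z hz, congrArg Subtype.val hg⟩
  obtain ⟨D, -, hD⟩ := exists_subset_card_eq (s := (univ : Finset α)) (n := t - 1)
    (by rw [card_univ]; omega)
  obtain ⟨a, ha, b, hb, hab⟩ := Finset.one_lt_card.1 (show 1 < Dᶜ.card by
    rw [card_compl, hD]; omega)
  obtain ⟨g, hgD, hgab⟩ := mv D (by omega) a b (mem_compl.1 ha) (mem_compl.1 hb)
  set s := (univ.filter fun z => g • z ≠ z).erase a with hs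
  have hsub : s ⊆ Dᶜ.erase a := by
    refine erase_subset_erase _ fun z hz => mem_compl.2 fun hzD => ?_
    simp only [mem_filter, mem_univ, true_and] at hz
    exact hz (hgD z hzD)
  have hsc : s.card + 1 ≤ t := by
    have := card_le_card hsub
    rw [card_erase_of_mem ha, card_compl, hD] at this
    omega
  obtain ⟨d, hd⟩ := card_pos.1 (show 0 < D.card by omega)
  have hds : d ∉ s := fun e => mem_compl.1 (mem_of_mem_erase (hsub e)) hd
  obtain ⟨h, hh, hhad⟩ := mv s hsc a d (by simp [hs]) hds
  refine alt_le_of_common hprim (f := g) (g := h) (a := a) (by rw [hgab]; exact Ne.symm hab)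
    (by rw [hhad]; exact fun e => mem_compl.1 ha (e ▸ hd)) ?_
  intro z hz1 hz2
  by_contra hza
  exact hz2 (hh z (by
    rw [hs, mem_erase, mem_filter]; exact ⟨hza, mem_univ _, hz1⟩))

theorem card_emb (m : ℕ) : Nat.card (Fin m ↪ α) = (Fintype.card α).descFactorial m := by
  rw [Nat.card_eq_fintype_card, Fintype.card_embedding_eq, Fintype.card_fin]

theorem emb_nonempty {m : ℕ} (hm : m ≤ Fintype.card α) : Nonempty (Fin m ↪ α) :=
  Function.Embedding.nonempty_of_card_le (by rw [Fintype.card_fin]; exact hm)

theorem descFactorial_dvd_card {m : ℕ} (h : IsMultiplyPretransitive G α m)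
    (hm : m ≤ Fintype.card α) : (Fintype.card α).descFactorial m ∣ Nat.card G := by
  haveI := h
  have h' := Cfsg.Agent.Perm.descFactorial_dvd_card h (by rw [Nat.card_eq_fintype_card]; exact hm)
  rwa [Nat.card_eq_fintype_card (α := α)] at h'

theorem card_dvd_of_semiregular {m : ℕ} (h : ∀ x : Fin m ↪ α, stabilizer G x = ⊥) :
    Nat.card G ∣ (Fintype.card α).descFactorial m := by
  rw [← card_emb, Nat.card_congr (MulAction.selfEquivOrbitsQuotientProd h), Nat.card_prod]
  exact dvd_mul_left _ _

theorem trans_of_semiregular {m : ℕ} (h : ∀ x : Fin m ↪ α, stabilizer G x = ⊥)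
    (hcard : Nat.card G = (Fintype.card α).descFactorial m) :
    IsMultiplyPretransitive G α m := by
  refine ⟨fun x y => ?_⟩
  have horb : Nat.card (orbit G x) = Nat.card (Fin m ↪ α) := by
    rw [card_emb, ← hcard, ← Nat.card_congr (orbitProdStabilizerEquivGroup G x), Nat.card_prod, h x,
      Subgroup.card_bot, mul_one]
    rfl
  have huniv : orbit G x = Set.univ := Set.eq_univ_iff_ncard _ |>.2 horb
  exact mem_orbit_iff.1 (huniv ▸ Set.mem_univ y)

theorem card_eq_of_sharply {m : ℕ} (ht : IsMultiplyPretransitive G α m)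
    (hm : m ≤ Fintype.card α) (h : ∀ x : Fin m ↪ α, stabilizer G x = ⊥) :
    Nat.card G = (Fintype.card α).descFactorial m :=
  Nat.dvd_antisymm (card_dvd_of_semiregular h) (descFactorial_dvd_card ht hm)

/-- No group of order `1008` is semiregular on injective 4-tuples of 9 points and 3-transitive. -/
theorem not_order_1008 (h3 : IsMultiplyPretransitive G α 3) (hn : Fintype.card α = 9)
    (hf : ∀ x : Fin 4 ↪ α, stabilizer G x = ⊥) (hc : Nat.card G = 1008) : False := by
  classical
  have hfix : ∀ g : G, g ≠ 1 → (univ.filter fun z : α => g • z = z).card ≤ 3 := by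
    intro g hg
    by_contra hlt
    obtain ⟨R, hR, hRc⟩ := exists_subset_card_eq (s := univ.filter fun z : α => g • z = z) (n := 4)
      (by omega)
    let x : Fin 4 ↪ α := ⟨fun i => ((R.equivFinOfCardEq hRc).symm i : α),
      fun u v h => (R.equivFinOfCardEq hRc).symm.injective (Subtype.ext h)⟩
    have : g ∈ stabilizer G x := Function.Embedding.ext fun i =>
      (mem_filter.1 (hR ((R.equivFinOfCardEq hRc).symm i).2)).2
    rw [hf x, Subgroup.mem_bot] at this
    exact hg this
  haveI := h3
  have h2 : IsMultiplyPretransitive G α 2 :=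
    isMultiplyPretransitive_of_le (n := 3) (by omega) (by rw [Nat.card_eq_fintype_card]; omega)
  obtain ⟨a, b, hab⟩ := Fintype.exists_pair_of_one_lt_card (α := α) (by omega)
  have hpair : ({a, b} : Finset α).card = 2 := card_pair hab
  haveI : IsPretransitive G (Set.powersetCard α 2) := ⟨fun S T => by
    obtain ⟨g, hg⟩ := hom_of_trans h2 (by omega) le_rfl S.1 T.1 S.2 T.2
    exact ⟨g, Subtype.ext hg⟩⟩
  set p := Set.powersetCard.ofCard hpair with hp
  set H := stabilizer G p with hHdef
  have hH : Nat.card H = 28 := by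
    have h := H.card_mul_index
    rw [hHdef, index_stabilizer_of_transitive G p, Set.powersetCard.card,
      Nat.card_eq_fintype_card (α := α), hn, hc, show Nat.choose 9 2 = 36 from rfl] at h
    rw [hHdef]
    omega
  have hHmem : ∀ g : H, g.1 • ({a, b} : Finset α) = {a, b} := fun g =>
    congrArg Subtype.val (mem_stabilizer_iff.1 g.2)
  haveI : Fact (Nat.Prime 7) := ⟨by norm_num⟩
  haveI : Fact (Nat.Prime 2) := ⟨Nat.prime_two⟩
  obtain ⟨P⟩ : Nonempty (Sylow 7 H) := inferInstance
  have hP : Nat.card (P : Subgroup H) = 7 := by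
    rw [P.card_eq_multiplicity, hH, show (28 : ℕ) = 7 * 4 from rfl,
      Nat.factorization_mul (by norm_num) (by norm_num), Finsupp.add_apply,
      (by norm_num : Nat.Prime 7).factorization_self,
      Nat.factorization_eq_zero_of_not_dvd (by norm_num), pow_one]
  have hPn : (P : Subgroup H).Normal := by
    have hd : Nat.card (Sylow 7 H) ∣ 4 := by
      have := P.card_dvd_index
      have h := (P : Subgroup H).card_mul_index
      rw [hP, hH] at h
      rwa [show (P : Subgroup H).index = 4 by omega] at this
    have hm := card_sylow_modEq_one 7 H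
    have h1 : Nat.card (Sylow 7 H) = 1 := by
      have := Nat.le_of_dvd (by norm_num) hd
      have := hm
      unfold Nat.ModEq at this
      omega
    haveI : Subsingleton (Sylow 7 H) := (Nat.card_eq_one_iff_unique.1 h1).1
    exact P.normal_of_subsingleton
  haveI := hPn
  haveI : IsCyclic (P : Subgroup H) := isCyclic_of_prime_card hP
  let φ : H →* MulAut (P : Subgroup H) := MulAut.conjNormal
  have hk : 2 ∣ Nat.card φ.ker := by
    have h := φ.ker.card_mul_index
    rw [hH, Subgroup.index_ker] at h
    have hr : Nat.card φ.range ∣ 6 := by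
      have := Subgroup.card_subgroup_dvd_card φ.range
      rwa [IsCyclic.card_mulAut, hP, Nat.totient_prime (by norm_num)] at this
    have hr' : Nat.card φ.range ∣ 28 := ⟨_, (h.symm.trans (mul_comm _ _))⟩
    have h3 : Nat.card φ.range ≤ 6 := Nat.le_of_dvd (by norm_num) hr
    interval_cases hv : Nat.card φ.range <;> omega
  obtain ⟨z, hz⟩ := exists_prime_orderOf_dvd_card' 2 hk
  obtain ⟨x, hx⟩ := exists_prime_orderOf_dvd_card' (G := (P : Subgroup H)) 7 (dvd_of_eq hP.symm)
  set Z : Equiv.Perm α := (((z : H) : G) : Equiv.Perm α) with hZ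
  set X : Equiv.Perm α := (((x : H) : G) : Equiv.Perm α) with hX
  have hZord : orderOf Z = 2 := by
    rw [hZ, Subgroup.orderOf_coe, Subgroup.orderOf_coe, Subgroup.orderOf_coe]; exact hz
  have hXord : orderOf X = 7 := by
    rw [hX, Subgroup.orderOf_coe, Subgroup.orderOf_coe, Subgroup.orderOf_coe]; exact hx
  have hcomm : Commute Z X := by
    have hk := MonoidHom.mem_ker.1 z.2
    have h := congrArg (fun m : MulAut (P : Subgroup H) => ((m x : (P : Subgroup H)) : H)) hk
    simp only [φ, MulAut.conjNormal_apply, MulAut.one_apply] at h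
    have h' : (z : H) * (x : H) = (x : H) * (z : H) := by
      rw [mul_inv_eq_iff_eq_mul] at h; exact h
    exact congrArg (fun w : H => ((w : G) : Equiv.Perm α)) h'
  have hab7 : ∀ g : H, orderOf g = 7 → g.1 • a = a ∧ g.1 • b = b := by
    intro g hg
    have hm : ∀ i : ℕ, ((g ^ i : H) : G) • a = a ∨ ((g ^ i : H) : G) • a = b := fun i => by
      have h := smul_mem_smul_finset (a := ((g ^ i : H) : G)) (mem_insert_self a {b})
      rw [hHmem (g ^ i)] at h
      simpa using h
    have hg1 := hm 1
    rw [pow_one] at hg1
    have hmb : g.1 • b = a ∨ g.1 • b = b := by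
      have h := smul_mem_smul_finset (a := g.1) (s := ({a, b} : Finset α))
        (show b ∈ ({a, b} : Finset α) by simp)
      rw [hHmem g] at h
      simpa using h
    rcases hg1 with e | e
    · exact ⟨e, hmb.resolve_left fun e' => hab (smul_left_cancel g.1 (e.trans e'.symm))⟩
    · exfalso
      have hb' : g.1 • b = a := hmb.resolve_right fun e' =>
        hab (smul_left_cancel g.1 (e.trans e'.symm))
      have hodd : ∀ i : ℕ, (g.1 ^ (2 * i + 1)) • a = b := by
        intro i
        induction i with
        | zero => simpa using e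
        | succ i ih =>
          rw [show 2 * (i + 1) + 1 = 1 + (1 + (2 * i + 1)) by ring, pow_add, pow_one, mul_smul,
            pow_add, pow_one, mul_smul, ih, hb', e]
      have h7 : g.1 ^ 7 = 1 := by
        rw [← Subgroup.coe_pow, ← hg, pow_orderOf_eq_one]; rfl
      have := hodd 3
      rw [show 2 * 3 + 1 = 7 from rfl, h7, one_smul] at this
      exact hab this
  obtain ⟨hXa, hXb⟩ : X a = a ∧ X b = b :=
    hab7 (x : H) (by rw [Subgroup.orderOf_coe]; exact hx)
  have hXne : X ≠ 1 := fun e => by rw [e, orderOf_one] at hXord; norm_num at hXord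
  have hXsupp : X.support.card ≤ 7 := by
    have : X.support ⊆ ({a, b} : Finset α)ᶜ := fun w hw => by
      rw [mem_compl, mem_insert, mem_singleton]
      rintro (rfl | rfl)
      · exact Equiv.Perm.mem_support.1 hw hXa
      · exact Equiv.Perm.mem_support.1 hw hXb
    have := card_le_card this
    rwa [card_compl, hpair, hn] at this
  have hXcyc : X.IsCycle := Equiv.Perm.isCycle_of_prime_order (by rw [hXord]; norm_num)
    (by rw [hXord]; omega)
  have hX7 : X.support.card = 7 := hXcyc.orderOf.symm.trans hXord
  have hsupp : X.support = ({a, b} : Finset α)ᶜ := Finset.eq_of_subset_of_card_le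
    (fun w hw => by
      rw [mem_compl, mem_insert, mem_singleton]
      rintro (rfl | rfl)
      · exact Equiv.Perm.mem_support.1 hw hXa
      · exact Equiv.Perm.mem_support.1 hw hXb)
    (by rw [card_compl, hpair, hn, hX7])
  have hZsupp : ∀ w, w ∈ ({a, b} : Finset α) → Z w ∈ ({a, b} : Finset α) := fun w hw => by
    rw [← hHmem (z : H)]
    exact smul_mem_smul_finset hw
  -- some point of the 7-cycle is fixed by the involution
  obtain ⟨c, hc7, hcZ⟩ : ∃ c ∈ X.support, Z c = c := by
    by_contra hno
    push Not at hno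
    have hsub : X.support ⊆ Z.support := fun w hw => Equiv.Perm.mem_support.2 (hno w hw)
    have heven := Equiv.Perm.two_dvd_card_support (σ := Z) (by rw [← hZord, pow_orderOf_eq_one])
    by_cases hZa : Z a = a
    · have hZb : Z b = b := by
        have h := hZsupp b (by simp)
        rcases mem_insert.1 h with e | e
        · exact absurd (Z.injective (e.trans hZa.symm)) hab.symm
        · exact mem_singleton.1 e
      have : Z.support = X.support := by
        refine Finset.Subset.antisymm (fun w hw => ?_) hsub
        rw [hsupp, mem_compl, mem_insert, mem_singleton]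
        rintro (rfl | rfl)
        · exact Equiv.Perm.mem_support.1 hw hZa
        · exact Equiv.Perm.mem_support.1 hw hZb
      rw [this, hX7] at heven
      omega
    · have hZb : Z b ≠ b := by
        intro e
        have h := hZsupp a (by simp)
        rcases mem_insert.1 h with e' | e'
        · exact hZa e'
        · exact hab (Z.injective ((mem_singleton.1 e').trans e.symm))
      have : Z.support = univ := by
        refine Finset.eq_univ_iff_forall.2 fun w => ?_
        by_cases hw : w ∈ X.support
        · exact hsub hw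
        · rw [hsupp, mem_compl, not_not, mem_insert, mem_singleton] at hw
          rcases hw with rfl | rfl
          · exact Equiv.Perm.mem_support.2 hZa
          · exact Equiv.Perm.mem_support.2 hZb
      rw [this, card_univ, hn] at heven
      omega
  have hall : X.support ⊆ univ.filter fun w => ((z : H) : G) • w = w := by
    intro w hw
    obtain ⟨i, hi⟩ := hXcyc.exists_zpow_eq (Equiv.Perm.mem_support.1 hc7)
      (Equiv.Perm.mem_support.1 hw)
    simp only [mem_filter, mem_univ, true_and]
    change Z w = w
    rw [← hi, ← Equiv.Perm.mul_apply, (hcomm.zpow_right i).eq, Equiv.Perm.mul_apply, hcZ]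
  have := card_le_card hall
  have hz1 : ((z : H) : G) ≠ 1 := fun e => by
    rw [hZ, e] at hZord; simp at hZord
  have := hfix _ hz1
  omega

/-- A 2-transitive 3-homogeneous group of degree 6 which is semiregular on triples is
3-transitive. -/
theorem card_ne_sixty (h2 : IsMultiplyPretransitive G α 2) (hn : Fintype.card α = 6)
    (hh : IsPretransitive G (Set.powersetCard α 3)) (hc : Nat.card G = 60) : False := by
  classical
  haveI := h2
  haveI := hh
  obtain ⟨x⟩ := emb_nonempty (α := α) (m := 2) (by omega)
  haveI : Fact (Nat.Prime 2) := ⟨Nat.prime_two⟩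
  have hst : Nat.card (stabilizer G x) = 2 := by
    have h := Cfsg.Agent.Perm.card_eq_descFactorial_mul (G := G) x
    rw [Nat.card_eq_fintype_card (α := α), hn, hc,
      show (6 : ℕ).descFactorial 2 = 30 from rfl] at h
    exact Nat.eq_of_mul_eq_mul_left (by norm_num : 0 < 30) h
  obtain ⟨z, hz⟩ := exists_prime_orderOf_dvd_card' (G := stabilizer G x) 2 (dvd_of_eq hst.symm)
  have hz' : orderOf (z : G) = 2 := by rw [Subgroup.orderOf_coe]; exact hz
  obtain ⟨c, hc'⟩ : ∃ c : α, (z : G) • c ≠ c := by
    by_contra hno
    push Not at hno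
    have : (z : G) = 1 := Subtype.ext (Equiv.Perm.ext hno)
    rw [this, orderOf_one] at hz'
    norm_num at hz'
  have hzz : (z : G) • (z : G) • c = c := by
    have h1 := pow_orderOf_eq_one (z : G)
    rw [hz', pow_two] at h1
    rw [← mul_smul, h1, one_smul]
  have hfx : ∀ i, (z : G) • x i = x i := DFunLike.congr_fun (mem_stabilizer_iff.1 z.2)
  have hD : ({x 0, c, (z : G) • c} : Finset α).card = 3 := by
    rw [card_eq_three]
    exact ⟨x 0, c, (z : G) • c, fun e => hc' (by rw [← e]; exact hfx 0), fun e => hc' (by
      have h := congrArg ((z : G) • ·) e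
      simp only [hfx, hzz] at h
      rw [← h]; exact hfx 0), Ne.symm hc', rfl⟩
  set p := Set.powersetCard.ofCard hD
  have hS : Nat.card (stabilizer G p) = 3 := by
    have h := (stabilizer G p).card_mul_index
    rw [index_stabilizer_of_transitive G p, Set.powersetCard.card,
      Nat.card_eq_fintype_card (α := α), hn, hc, show Nat.choose 6 3 = 20 from rfl] at h
    omega
  have hzp : (z : G) ∈ stabilizer G p := by
    refine Subtype.ext (Finset.eq_of_subset_of_card_le ?_ (le_of_eq ?_))
    · intro w hw
      obtain ⟨v, hv, rfl⟩ := mem_smul_finset.1 hw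
      change v ∈ ({x 0, c, (z : G) • c} : Finset α) at hv
      change _ ∈ ({x 0, c, (z : G) • c} : Finset α)
      simp only [mem_insert, mem_singleton] at hv ⊢
      rcases hv with rfl | rfl | rfl
      · exact Or.inl (hfx 0)
      · exact Or.inr (Or.inr rfl)
      · exact Or.inr (Or.inl hzz)
    · exact (Finset.card_smul_finset _ _).symm
  have := Subgroup.orderOf_dvd_natCard (stabilizer G p) hzp
  rw [hz', hS] at this
  omega

theorem not_sharply_three_seven (h3 : IsMultiplyPretransitive G α 3) (hn : Fintype.card α = 7)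
    (hf : ∀ x : Fin 3 ↪ α, stabilizer G x = ⊥) : False := by
  obtain ⟨a⟩ : Nonempty α := Fintype.card_pos_iff.1 (by omega)
  have hc : Nat.card α = 7 := by rw [Nat.card_eq_fintype_card, hn]
  obtain ⟨h2, hs⟩ := sharply_stabilizer h3 (by omega) hf a
  haveI := h2
  have hb : Nat.card (SubMulAction.ofStabilizer G a) = 6 := by
    have := SubMulAction.nat_card_ofStabilizer_add_one_eq (G := G) a
    omega
  haveI : Nontrivial (SubMulAction.ofStabilizer G a) :=
    Finite.one_lt_card_iff_nontrivial.1 (by omega)
  haveI : FaithfulSMul (stabilizer G a) (SubMulAction.ofStabilizer G a) := ⟨fun {g h'} e => by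
    obtain ⟨u, v, huv⟩ := exists_pair_ne (SubMulAction.ofStabilizer G a)
    let y : Fin 2 ↪ SubMulAction.ofStabilizer G a := ⟨![u, v], by
      intro i j hij; fin_cases i <;> fin_cases j <;> simp_all⟩
    have hm : h'⁻¹ * g ∈ stabilizer (stabilizer G a) y := Function.Embedding.ext fun i => by
      change (h'⁻¹ * g) • y i = y i
      rw [mul_smul, inv_smul_eq_iff, e]
    rw [hs y, Subgroup.mem_bot, inv_mul_eq_one] at hm
    exact hm.symm⟩
  obtain ⟨K, -, -, -, -, -, p, j, hp, hj, hpj, -⟩ := exists_kernel_of_sharply_two hs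
  rw [hb] at hpj
  have h1 : p ∣ 6 := hpj ▸ dvd_pow_self p (by omega)
  have h2' : p ≤ 6 := Nat.le_of_dvd (by norm_num) h1
  have hj3 : j ≤ 2 := by
    by_contra hlt
    have := Nat.pow_le_pow_right hp.pos (show 3 ≤ j by omega)
    have := Nat.pow_le_pow_left hp.two_le 3
    omega
  interval_cases p <;> interval_cases j <;> norm_num at *


/-- Let `G` have degree `n` and `3 ≤ k ≤ n`; suppose `G` is `(k-2)`-transitive but not `(k-1)`-transitive, and is `(k-1)`-homogeneous and `k`-homogeneous. Then `k = n` and `G` is the alternating group, or `n = 5, k = 4, |G| = 20`, or `n = 6, k = 5, |G| = 120`, or `n = 9, k = 5, |G| ∈ {504, 1512}`. -/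
theorem result {α : Type*} [Fintype α] [DecidableEq α] (G : Subgroup (Equiv.Perm α)) {k : ℕ} (hk : 3 ≤ k) (hkn : k ≤ Fintype.card α) (ht : MulAction.IsMultiplyPretransitive G α (k - 2)) (hnt : ¬ MulAction.IsMultiplyPretransitive G α (k - 1)) (hh1 : MulAction.IsPretransitive G (Set.powersetCard α (k - 1))) (hh : MulAction.IsPretransitive G (Set.powersetCard α k)) : (k = Fintype.card α ∧ G = alternatingGroup α) ∨ (Fintype.card α = 5 ∧ k = 4 ∧ Nat.card G = 20) ∨ (Fintype.card α = 6 ∧ k = 5 ∧ Nat.card G = 120) ∨ (Fintype.card α = 9 ∧ k = 5 ∧ (Nat.card G = 504 ∨ Nat.card G = 1512)) := by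
  classical
  set n := Fintype.card α with hn
  have hcard : Nat.card α = n := Nat.card_eq_fintype_card
  have hperm : Nat.card G ∣ n.factorial := by
    rw [← hcard, ← Nat.card_perm]; exact Subgroup.card_subgroup_dvd_card G
  have hprim : 2 ≤ k - 2 → MulAction.IsPreprimitive G α := fun h2 => by
    haveI := ht
    exact isPreprimitive_of_is_two_pretransitive
      (isMultiplyPretransitive_of_le h2 (by rw [hcard]; omega))
  have halt : alternatingGroup α ≤ G → k = n ∧ G = alternatingGroup α := by
    intro hle
    have hA := alternatingGroup.isMultiplyPretransitive α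
    have hkn' : k = n := by
      by_contra hne
      apply hnt
      haveI := hA
      have h := isMultiplyPretransitive_of_le (G := alternatingGroup α) (α := α)
        (m := k - 1) (n := Nat.card α - 2) (by rw [hcard]; omega) (by omega)
      refine ⟨fun x y => ?_⟩
      obtain ⟨g, hg⟩ := h.exists_smul_eq x y
      exact ⟨⟨g.1, hle g.2⟩, hg⟩
    refine ⟨hkn', ?_⟩
    haveI : Nontrivial α := Fintype.one_lt_card_iff_nontrivial.1 (by omega)
    have hidx : G.index ≤ 2 := by
      rw [← alternatingGroup.index_eq_two (α := α)]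
      exact Nat.le_of_dvd (Nat.pos_of_ne_zero Subgroup.index_ne_zero_of_finite)
        (Subgroup.index_dvd_of_le hle)
    have hidx0 : G.index ≠ 0 := Subgroup.index_ne_zero_of_finite
    rcases (by omega : G.index = 1 ∨ G.index = 2) with h | h
    · exfalso
      apply hnt
      refine ⟨fun x y => ?_⟩
      obtain ⟨σ, hσ⟩ := Equiv.Perm.exists_smul_eq_embedding x y
      exact ⟨⟨σ, (Subgroup.index_eq_one.1 h) ▸ Subgroup.mem_top σ⟩, hσ⟩
    · exact Equiv.Perm.eq_alternatingGroup_of_index_eq_two h
  by_cases hLW : 2 * k ≤ n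
  · exact absurd (LW.isMultiplyPretransitive_pred k (by omega) hLW hh) hnt
  by_cases hsmall : 2 * (k - 1) ≤ n
  · have hk5 : k ≤ 5 := by
      by_contra hlt
      exact hnt (Cfsg.Agent.S0748.result G (by omega) hsmall hh1)
    rcases (by omega : k = 3 ∨ k = 4 ∨ k = 5) with rfl | rfl | rfl
    · exfalso
      have hodd : ¬ Even (Nat.card G) := fun he =>
        hnt ((Cfsg.Agent.S0735.result G hh1 (by omega)).1 he)
      apply hodd
      rw [even_iff_two_dvd]
      refine dvd_trans ?_ (choose_dvd_card hh1 (by omega))
      rcases (by omega : n = 4 ∨ n = 5) with h | h <;> rw [← hn, h] <;> decide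
    · -- 2-transitive, 3-homogeneous, degree 6 or 7
      have hn67 : n = 6 ∨ n = 7 := by omega
      have hhom : ∀ j, j ≤ n - 3 → Hom G j := by
        intro j hj
        rcases (by omega : j ≤ 2 ∨ j = 3 ∨ j = 4) with h | h | h
        · exact hom_of_trans ht (by omega) h
        · exact h ▸ hom_of_homogeneous hh1
        · exact h ▸ hom_of_homogeneous hh
      rcases alt_or_semiregular (m := 3) (hprim (by omega)) (by omega) hhom with h | h
      · exact Or.inl (halt h)
      · exfalso
        have h1 := card_dvd_of_semiregular h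
        have h2 := descFactorial_dvd_card ht (by omega)
        have h3 := choose_dvd_card hh1 (by omega)
        have hne : Nat.card G ≠ (Fintype.card α).descFactorial 3 := fun e =>
          hnt (trans_of_semiregular h e)
        rw [← hn] at h1 h2 h3 hne
        rcases hn67 with h' | h'
        · rw [h'] at h1 h2 h3 hne
          change Nat.card G ∣ 120 at h1
          change 30 ∣ Nat.card G at h2
          change 20 ∣ Nat.card G at h3
          change Nat.card G ≠ 120 at hne
          have := Nat.le_of_dvd (by norm_num) h1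
          have hpos : 0 < Nat.card G := Nat.card_pos
          refine card_ne_sixty ht h' hh1 ?_
          omega
        · rw [h'] at h1 h2 h3 hne
          change Nat.card G ∣ 210 at h1
          change 42 ∣ Nat.card G at h2
          change 35 ∣ Nat.card G at h3
          change Nat.card G ≠ 210 at hne
          have := Nat.le_of_dvd (by norm_num) h1
          have : 0 < Nat.card G := Nat.card_pos
          omega
    · -- 3-transitive, 4-homogeneous, degree 8 or 9
      have hn89 : n = 8 ∨ n = 9 := by omega
      have hhom : ∀ j, j ≤ n - 4 → Hom G j := by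
        intro j hj
        rcases (by omega : j ≤ 3 ∨ j = 4 ∨ j = 5) with h | h | h
        · exact hom_of_trans ht (by omega) h
        · exact h ▸ hom_of_homogeneous hh1
        · exact h ▸ hom_of_homogeneous hh
      rcases alt_or_semiregular (m := 4) (hprim (by omega)) (by omega) hhom with h | h
      · exact Or.inl (halt h)
      · have h1 := card_dvd_of_semiregular h
        have h2 := descFactorial_dvd_card ht (by omega)
        have h3 := choose_dvd_card hh1 (by omega)
        have hne : Nat.card G ≠ (Fintype.card α).descFactorial 4 := fun e =>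
          hnt (trans_of_semiregular h e)
        rw [← hn] at h1 h2 h3 hne
        have hpos : 0 < Nat.card G := Nat.card_pos
        rcases hn89 with h' | h'
        · exfalso
          rw [h'] at h1 h2 h3 hne
          change Nat.card G ∣ 1680 at h1
          change 336 ∣ Nat.card G at h2
          change 70 ∣ Nat.card G at h3
          change Nat.card G ≠ 1680 at hne
          have := Nat.le_of_dvd (by norm_num) h1
          omega
        · rw [h'] at h1 h2 h3 hne
          change Nat.card G ∣ 3024 at h1
          change 504 ∣ Nat.card G at h2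
          change Nat.card G ≠ 3024 at hne
          have hne2 : Nat.card G ≠ 1008 := fun e => not_order_1008 ht h' h e
          have := Nat.le_of_dvd (by norm_num) h1
          refine Or.inr (Or.inr (Or.inr ⟨h', rfl, ?_⟩))
          obtain ⟨d, hd⟩ := h2
          have : d ≤ 6 := by omega
          interval_cases d <;> simp_all
  · -- `k - 2` is at least half the degree
    by_cases hbig : n + 1 ≤ 2 * (k - 2) ∧ 2 ≤ k - 2
    · exact Or.inl (halt (alt_of_half ht hbig.2 (by omega) hbig.1))
    by_cases hk3 : k = 3
    · subst hk3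
      have h3 : n = 3 := by omega
      refine Or.inl (halt (Equiv.Perm.alternatingGroup_le_of_index_le_two ?_))
      have h1 := descFactorial_dvd_card ht (by omega)
      rw [← hn, h3] at h1
      change 3 ∣ Nat.card G at h1
      have h := G.index_mul_card
      rw [Nat.card_perm, hcard, h3, show Nat.factorial 3 = 6 from rfl] at h
      have := Nat.le_of_dvd Nat.card_pos h1
      nlinarith
    have ht2 : 2 ≤ k - 2 := by omega
    have hhom : ∀ j, j ≤ n - (k - 2) → Hom G j := by
      intro j hj
      rcases (by omega : j ≤ k - 2 ∨ j = k - 1) with h | h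
      · exact hom_of_trans ht (by omega) h
      · exact h ▸ hom_of_homogeneous hh1
    rcases alt_or_semiregular (m := k - 2) (hprim ht2) (by omega) hhom with h | h
    · exact Or.inl (halt h)
    have hG := card_eq_of_sharply ht (by omega) h
    rw [← hn] at hG
    rcases (by omega : k = 4 ∨ k = 5 ∨ k = 6 ∨ k = 7 ∨ 8 ≤ k) with rfl | rfl | rfl | rfl | hk8
    · rcases (by omega : n = 4 ∨ n = 5) with h' | h'
      · refine Or.inl (halt (Equiv.Perm.alternatingGroup_le_of_index_le_two ?_))
        rw [h'] at hG
        change Nat.card G = 12 at hG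
        have hm := G.index_mul_card
        rw [Nat.card_perm, hcard, h', hG, show Nat.factorial 4 = 24 from rfl] at hm
        omega
      · refine Or.inr (Or.inl ⟨h', rfl, ?_⟩)
        rw [hG, h']; rfl
    · rcases (by omega : n = 6 ∨ n = 7) with h' | h'
      · refine Or.inr (Or.inr (Or.inl ⟨h', rfl, ?_⟩))
        rw [hG, h']; rfl
      · exact (not_sharply_three_seven ht h' h).elim
    · exfalso
      have := card_of_sharply_four (G := G) (α := α) (by omega) ht h
      omega
    · exfalso
      have := card_of_sharply_five (G := G) (α := α) (by omega) ht h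
      omega
    · exfalso
      have := card_of_sharply_ge_six (k - 2) (by omega) (G := G) (α := α) (by omega) ht h
      omega


end Cfsg.Agent.S0745
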