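import Cfsg.Statements.S0754
import Mathlib

set_option autoImplicit false
open Cfsg

namespace Cfsg.Agent.S0754

/-- In a field F with q^2 elements, every non-zero μ with μ^q = μ (that is, μ in the subfield of order q) has exactly q + 1 solutions λ of λ^(q+1) = μ. -/
theorem result {F : Type*} [Field F] [Fintype F] {q : ℕ} (hF : Fintype.card F = q ^ 2) (μ : F) (hμ : μ ≠ 0) (hμq : μ ^ q = μ) : Nat.card {x : F // x ^ (q + 1) = μ} = q + 1 := by
  classical
  have h1 : 1 < q ^ 2 := hF ▸ Fintype.one_lt_card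
  have hq : 1 < q := by nlinarith
  obtain ⟨g, hg⟩ := IsCyclic.exists_generator (α := Fˣ)
  have hord : orderOf g = (q + 1) * (q - 1) := by
    rw [orderOf_eq_card_of_forall_mem_zpowers hg, Nat.card_units, Nat.card_eq_fintype_card, hF,
      ← Nat.sq_sub_sq, one_pow]
  let φ : Fˣ →* Fˣ := powMonoidHom (q + 1)
  have hμ1 : (Units.mk0 μ hμ) ^ (q - 1) = 1 := by
    ext
    apply mul_left_cancel₀ hμ
    rw [Units.val_pow_eq_pow_val, Units.val_mk0, Units.val_one, mul_one, ← pow_succ', Nat.sub_add_cancel hq.le, hμq]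
  have hrange : φ.range = (powMonoidHom (q - 1) : Fˣ →* Fˣ).ker := by
    refine Subgroup.eq_of_le_of_card_ge ?_ (le_of_eq ?_)
    · rintro _ ⟨x, rfl⟩
      rw [MonoidHom.mem_ker]
      simp only [φ, powMonoidHom_apply, ← pow_mul, ← hord]
      exact orderOf_dvd_iff_pow_eq_one.1 (orderOf_eq_card_of_forall_mem_zpowers hg ▸ orderOf_dvd_natCard x)
    · rw [IsCyclic.card_powMonoidHom_ker, IsCyclic.card_powMonoidHom_range,
        ← orderOf_eq_card_of_forall_mem_zpowers hg, hord, Nat.gcd_mul_left_left, Nat.gcd_mul_right_left,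
        Nat.mul_div_cancel_left _ (by omega)]
  obtain ⟨x₀, hx₀⟩ : Units.mk0 μ hμ ∈ φ.range := hrange ▸ MonoidHom.mem_ker.2 hμ1
  have hx₀' : (x₀ : F) ^ (q + 1) = μ := by simpa [φ] using congrArg Units.val hx₀
  have hker : Nat.card φ.ker = q + 1 := by
    rw [IsCyclic.card_powMonoidHom_ker, ← orderOf_eq_card_of_forall_mem_zpowers hg, hord, Nat.gcd_mul_right_left]
  refine Eq.trans ?_ hker
  have hmem : ∀ u : φ.ker, ((x₀ : F) * ((u : Fˣ) : F)) ^ (q + 1) = μ := by
    intro u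
    have : (u : Fˣ) ^ (q + 1) = 1 := u.2
    rw [mul_pow, hx₀', ← Units.val_pow_eq_pow_val, this, Units.val_one, mul_one]
  refine (Nat.card_congr (Equiv.ofBijective
    (fun u : φ.ker => (⟨(x₀ : F) * ((u : Fˣ) : F), hmem u⟩ : {x : F // x ^ (q + 1) = μ})) ⟨?_, ?_⟩)).symm
  · intro a b hab
    have h := congrArg Subtype.val hab
    exact Subtype.ext (Units.ext (mul_left_cancel₀ x₀.ne_zero h))
  · rintro ⟨x, hx⟩
    have hx0 : x ≠ 0 := by rintro rfl; rw [zero_pow (by omega)] at hx; exact hμ hx.symm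
    refine ⟨⟨x₀⁻¹ * Units.mk0 x hx0, ?_⟩, ?_⟩
    · rw [MonoidHom.mem_ker]
      ext
      simp [φ, mul_pow, hx, ← hx₀', inv_mul_cancel₀]
    · ext; simp

end Cfsg.Agent.S0754
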