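import Mathlib
import Cfsg.Statements.S0757
-- import your own Cfsg.Agent.* helpers here

set_option autoImplicit false
open Cfsg

namespace Cfsg.Agent.S0757

theorem toMatrix'_wss {F : Type*} [Field F] [Invertible (2 : F)] (h2 : (2 : F) ≠ 0)
    {ι : Type*} [Fintype ι] [DecidableEq ι]
    (w : ι → F) :
    QuadraticForm.toMatrix' (QuadraticMap.weightedSumSquares F w) = Matrix.diagonal w := by
  ext i j
  set Q := QuadraticMap.weightedSumSquares F w with hQ
  rw [QuadraticForm.toMatrix', LinearMap.toMatrix₂'_apply]
  have h := congrArg (fun B => B (Pi.single i 1) (Pi.single j 1))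
    (QuadraticMap.two_nsmul_associated (S := F) Q)
  simp only [LinearMap.smul_apply, QuadraticMap.polarBilin_apply_apply, QuadraticMap.polar,
    nsmul_eq_mul, Nat.cast_ofNat] at h
  apply mul_left_cancel₀ h2
  refine h.trans ?_
  simp only [hQ, QuadraticMap.weightedSumSquares_apply, smul_eq_mul, Pi.add_apply,
    ← Finset.sum_sub_distrib]
  have hsum : ∀ x, w x * (((Pi.single i 1 : ι → F) x + (Pi.single j 1 : ι → F) x) * ((Pi.single i 1 : ι → F) x + (Pi.single j 1 : ι → F) x)) -
      w x * ((Pi.single i 1 : ι → F) x * (Pi.single i 1 : ι → F) x) -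
      w x * ((Pi.single j 1 : ι → F) x * (Pi.single j 1 : ι → F) x) =
      if x = i then (if i = j then 2 * w i else 0) else 0 := by
    intro x
    simp only [Pi.single_apply]
    clear h
    split_ifs <;> subst_vars <;> first | (simp_all; done) | (simp_all; ring) | ring
  rw [Finset.sum_congr rfl (fun x _ => hsum x)]
  simp only [Finset.sum_ite_eq', Finset.mem_univ, if_true, Matrix.diagonal_apply]
  split_ifs <;> simp

/-- The two diagonal forms Σ x_i^2 and Σ_(i<n) x_i^2 + α x_n^2 on F^(n+1), with α a non-square and 2 ≠ 0 in F, are inequivalent quadratic forms (so over a finite field of odd order there are exactly two classes of non-singular symmetric bilinear forms in each dimension). -/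
theorem result {F : Type*} [Field F] (h2 : (2 : F) ≠ 0) (n : ℕ) (α : F) (hα : ¬ IsSquare α) : ¬ (QuadraticMap.weightedSumSquares F (fun _ : Fin (n + 1) => (1 : F))).Equivalent (QuadraticMap.weightedSumSquares F (fun i : Fin (n + 1) => if i = Fin.last n then α else (1 : F))) := by
  rintro ⟨f⟩
  haveI : Invertible (2 : F) := invertibleOfNonzero h2
  set Q1 := QuadraticMap.weightedSumSquares F (fun _ : Fin (n + 1) => (1 : F))
  set Q2 := QuadraticMap.weightedSumSquares F (fun i : Fin (n + 1) => if i = Fin.last n then α else (1 : F))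
  have h : Q2.comp (f.toLinearEquiv : (Fin (n + 1) → F) →ₗ[F] (Fin (n + 1) → F)) = Q1 := by
    ext x
    exact f.map_app x
  have := QuadraticForm.discr'_comp (Q := Q2) (f.toLinearEquiv : (Fin (n + 1) → F) →ₗ[F] (Fin (n + 1) → F))
  rw [h] at this
  simp only [QuadraticForm.discr', Q1, Q2, toMatrix'_wss h2, Matrix.det_diagonal, Finset.prod_const_one,
    Finset.prod_ite_eq', Finset.mem_univ, if_true] at this
  set d := (LinearMap.toMatrix' (f.toLinearEquiv : (Fin (n + 1) → F) →ₗ[F] (Fin (n + 1) → F))).det with hd
  apply hα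
  have hd0 : d ≠ 0 := by
    intro h0; simp [h0] at this
  refine ⟨d⁻¹, ?_⟩
  field_simp
  linear_combination -this

end Cfsg.Agent.S0757
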