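import Mathlib
import Cfsg.Statements.S0758
-- import your own Cfsg.Agent.* helpers here

set_option autoImplicit false
open Cfsg

namespace Cfsg.Agent.S0758

/-- For a finite field F of odd order q and a non-square α: the form x² + y² is isotropic iff q ≡ 1 mod 4, and the form x² + α y² is isotropic iff q ≡ 3 mod 4. -/
theorem result {F : Type*} [Field F] [Fintype F] (h2 : (2 : F) ≠ 0) (α : F) (hα : ¬ IsSquare α) : ((∃ x y : F, (x ≠ 0 ∨ y ≠ 0) ∧ x ^ 2 + y ^ 2 = 0) ↔ Fintype.card F % 4 = 1) ∧ ((∃ x y : F, (x ≠ 0 ∨ y ≠ 0) ∧ x ^ 2 + α * y ^ 2 = 0) ↔ Fintype.card F % 4 = 3) := by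
  classical
  have hchar : ringChar F ≠ 2 := fun h => h2 (by
    haveI := ringChar.of_eq h
    exact CharTwo.two_eq_zero)
  have hodd : Fintype.card F % 2 = 1 := FiniteField.odd_card_of_char_ne_two hchar
  have hα0 : α ≠ 0 := fun h => hα (h ▸ IsSquare.zero)
  have hneg : IsSquare (-1 : F) ↔ Fintype.card F % 4 ≠ 3 := FiniteField.isSquare_neg_one_iff
  have iso : ∀ c : F, c ≠ 0 →
      ((∃ x y : F, (x ≠ 0 ∨ y ≠ 0) ∧ x ^ 2 + c * y ^ 2 = 0) ↔ IsSquare (-c)) := by
    intro c hc
    constructor
    · rintro ⟨x, y, hxy, h⟩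
      rcases eq_or_ne y 0 with rfl | hy
      · simp at h
        simp [h] at hxy
      · refine ⟨x / y, ?_⟩
        field_simp
        linear_combination -h
    · rintro ⟨r, hr⟩
      exact ⟨r, 1, Or.inr one_ne_zero, by linear_combination (-1 : F) * hr⟩
  constructor
  · have := iso 1 one_ne_zero
    simp only [one_mul] at this
    rw [this, hneg]
    omega
  · rw [iso α hα0]
    have hmul : quadraticChar F (-α) = quadraticChar F (-1) * quadraticChar F α := by
      rw [← map_mul]; ring_nf
    have hα1 : quadraticChar F α = -1 := quadraticChar_neg_one_iff_not_isSquare.mpr hα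
    rw [← quadraticChar_one_iff_isSquare (neg_ne_zero.mpr hα0), hmul, hα1]
    have : quadraticChar F (-1) * (-1) = 1 ↔ ¬ IsSquare (-1 : F) := by
      rw [← quadraticChar_neg_one_iff_not_isSquare]
      constructor <;> intro h <;> linarith
    rw [this, hneg]
    omega

end Cfsg.Agent.S0758
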