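import Cfsg.Statements.S0759
-- import your own Cfsg.Agent.* helpers here

set_option autoImplicit false
set_option maxHeartbeats 400000
open Cfsg

open scoped Matrix

namespace Cfsg.Agent.S0759

/-- Type of the orthonormal form: over a finite field of odd order q and for m ≥ 1, the quadratic form Σ_(i<2m) x_i² on F^(2m) admits an m-dimensional subspace on which it vanishes identically if and only if it is not the case that q ≡ 3 (mod 4) and m is odd. -/
theorem result {F : Type*} [Field F] [Fintype F] (h2 : (2 : F) ≠ 0) (m : ℕ) (hm : 1 ≤ m) : (∃ W : Submodule F (Fin (2 * m) → F), Module.finrank F W = m ∧ ∀ w ∈ W, ∑ i, w i ^ 2 = 0) ↔ ¬ (Fintype.card F % 4 = 3 ∧ Odd m) := by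
  classical
  have hodd : Fintype.card F % 2 = 1 :=
    FiniteField.odd_card_of_char_ne_two fun h => h2 (by simpa [h] using ringChar.Nat.cast_ringChar (R := F))
  let σ : Fin m ⊕ Fin m ≃ Fin (2 * m) := finSumFinEquiv.trans (finCongr (two_mul m).symm)
  constructor
  · rintro ⟨W, hW, hiso⟩ ⟨h3, hm'⟩
    let f : (Fin (2 * m) → F) ≃ₗ[F] (Fin m ⊕ Fin m → F) := LinearEquiv.funCongrLeft F F σ
    let W' : Submodule F (Fin m ⊕ Fin m → F) := W.map (f : (Fin (2 * m) → F) →ₗ[F] _)
    have hW' : Module.finrank F W' = m := (LinearEquiv.finrank_map_eq f W).trans hW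
    have hiso' : ∀ w ∈ W', w ⬝ᵥ w = 0 := by
      rintro _ ⟨w, hw, rfl⟩
      rw [← hiso w hw, ← σ.sum_comp]
      simp [dotProduct, f, sq]
    have hpol : ∀ v ∈ W', ∀ w ∈ W', v ⬝ᵥ w = 0 := fun v hv w hw => by
      have h := hiso' _ (add_mem hv hw)
      rw [add_dotProduct, dotProduct_add, dotProduct_add, hiso' v hv, hiso' w hw, dotProduct_comm w v] at h
      refine (mul_eq_zero.1 (show (2 : F) * (v ⬝ᵥ w) = 0 by linear_combination h)).resolve_left h2
    obtain ⟨U, hU⟩ := W'.exists_isCompl
    have hUm : Module.finrank F U = m := by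
      have h := Submodule.finrank_add_eq_of_isCompl hU
      simp [hW'] at h
      omega
    let bas : Module.Basis (Fin m ⊕ Fin m) F (Fin m ⊕ Fin m → F) :=
      ((Module.finBasisOfFinrankEq F W' hW').prod (Module.finBasisOfFinrankEq F U hUm)).map
        (Submodule.prodEquivOfIsCompl W' U hU)
    have hmem : ∀ i, bas (Sum.inl i) ∈ W' := fun i => by
      rw [show bas (Sum.inl i) = (Module.finBasisOfFinrankEq F W' hW' i : Fin m ⊕ Fin m → F) by simp [bas]]
      exact (Module.finBasisOfFinrankEq F W' hW' i).2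
    let P : Matrix (Fin m ⊕ Fin m) (Fin m ⊕ Fin m) F := fun r c => bas c r
    have hP : P.det ≠ 0 := by
      have h : (Pi.basisFun F (Fin m ⊕ Fin m)).toMatrix bas = P := by
        ext r c
        simp [Module.Basis.toMatrix_apply, P]
      intro h0
      have := congrArg Matrix.det (Module.Basis.toMatrix_mul_toMatrix_flip (Pi.basisFun F (Fin m ⊕ Fin m)) bas)
      rw [Matrix.det_mul, h, h0, zero_mul, Matrix.det_one] at this
      exact zero_ne_one this
    let M := Pᵀ * P
    have hM : M = Matrix.fromBlocks 0 M.toBlocks₁₂ M.toBlocks₁₂ᵀ M.toBlocks₂₂ := by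
      conv_lhs => rw [← Matrix.fromBlocks_toBlocks M]
      congr 1
      · ext i j
        exact hpol _ (hmem i) _ (hmem j)
      · ext i j
        show ∑ r, P r (Sum.inr i) * P r (Sum.inl j) = ∑ r, P r (Sum.inl j) * P r (Sum.inr i)
        exact Finset.sum_congr rfl fun r _ => mul_comm _ _
    generalize M.toBlocks₁₂ = A, M.toBlocks₂₂ = B at hM
    let J : Matrix (Fin m ⊕ Fin m) (Fin m ⊕ Fin m) F := Matrix.fromBlocks 0 (-1) 1 0
    have hJ : J.det = 1 := by
      have e : J = Matrix.fromBlocks 1 0 1 1 * Matrix.fromBlocks 1 (-1) 0 1 * Matrix.fromBlocks 1 0 1 1 := by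
        simp [J, Matrix.fromBlocks_multiply]
      rw [e, Matrix.det_mul, Matrix.det_mul, Matrix.det_fromBlocks_zero₁₂, Matrix.det_fromBlocks_zero₂₁]
      simp
    have hdet := congrArg Matrix.det
      (show Matrix.fromBlocks 0 A Aᵀ B * J = Matrix.fromBlocks A 0 B (-Aᵀ) by
        simp [J, Matrix.fromBlocks_multiply])
    rw [Matrix.det_mul, hJ, mul_one, ← hM, Matrix.det_fromBlocks_zero₁₂, Matrix.det_neg, Fintype.card_fin,
      Matrix.det_transpose, hm'.neg_one_pow, Matrix.det_mul, Matrix.det_transpose] at hdet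
    have hA : A.det ≠ 0 := by
      intro h0
      rw [h0] at hdet
      simp [hP] at hdet
    refine (FiniteField.isSquare_neg_one_iff (F := F)).1 ⟨P.det / A.det, ?_⟩ h3
    field_simp
    linear_combination -hdet
  · intro h
    obtain ⟨A, hA⟩ : ∃ A : Matrix (Fin m) (Fin m) F, Aᵀ * A = -1 := by
      by_cases h3 : Fintype.card F % 4 = 3
      · obtain ⟨k, hk⟩ := Nat.not_odd_iff_even.1 fun hm' => h ⟨h3, hm'⟩
        obtain ⟨x, y, hxy⟩ := FiniteField.exists_root_sum_quadratic (f := (Polynomial.X : Polynomial F) ^ 2)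
          (g := (Polynomial.X : Polynomial F) ^ 2 + Polynomial.C 1)
          (by simp) (Polynomial.degree_X_pow_add_C two_pos 1) hodd
        simp only [Polynomial.eval_pow, Polynomial.eval_X, Polynomial.eval_add, Polynomial.eval_C] at hxy
        let e : Fin 2 × Fin k ≃ Fin m := finProdFinEquiv.trans (finCongr (by omega))
        refine ⟨Matrix.reindex e e (Matrix.blockDiagonal fun _ : Fin k => !![x, -y; y, x]), ?_⟩
        rw [Matrix.transpose_reindex, Matrix.reindex_apply, Matrix.reindex_apply, Matrix.submatrix_mul_equiv,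
          Matrix.blockDiagonal_transpose, ← Matrix.blockDiagonal_mul]
        have hblk : (fun _ : Fin k => !![x, -y; y, x]ᵀ * !![x, -y; y, x]) = (-1 : Fin k → Matrix (Fin 2) (Fin 2) F) := by
          funext _
          ext i j
          fin_cases i <;> fin_cases j <;> simp [Matrix.mul_apply, Fin.sum_univ_two] <;>
            first | linear_combination hxy | linear_combination -hxy | ring1
        rw [hblk, Matrix.blockDiagonal_neg, Matrix.blockDiagonal_one, Matrix.submatrix_neg]
        simp
      · obtain ⟨i, hi⟩ := (FiniteField.isSquare_neg_one_iff (F := F)).2 h3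
        exact ⟨i • 1, by simp [smul_smul, ← hi]⟩
    let L : (Fin m → F) →ₗ[F] (Fin (2 * m) → F) :=
      (LinearEquiv.funCongrLeft F F σ.symm : (Fin m ⊕ Fin m → F) →ₗ[F] _).comp
        ((LinearEquiv.sumArrowLequivProdArrow (Fin m) (Fin m) F F).symm.toLinearMap.comp
          (LinearMap.id.prod A.mulVecLin))
    have hL : Function.Injective L := by
      intro v w hvw
      have := congrArg Prod.fst (((LinearEquiv.sumArrowLequivProdArrow (Fin m) (Fin m) F F).symm.injective
        ((LinearEquiv.funCongrLeft F F σ.symm).injective hvw)))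
      simpa using this
    refine ⟨L.range, by rw [LinearMap.finrank_range_of_inj hL]; simp, ?_⟩
    rintro _ ⟨v, rfl⟩
    rw [← σ.sum_comp, Fintype.sum_sum_type]
    simp only [L, LinearMap.comp_apply, LinearEquiv.coe_coe, LinearEquiv.funCongrLeft_apply,
      LinearMap.funLeft_apply, Equiv.symm_apply_apply, LinearEquiv.sumArrowLequivProdArrow_symm_apply_inl,
      LinearEquiv.sumArrowLequivProdArrow_symm_apply_inr, LinearMap.prod_apply, Function.prod_apply, LinearMap.id_coe,
      id_eq, Matrix.mulVecLin_apply]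
    have key : A *ᵥ v ⬝ᵥ A *ᵥ v = -(v ⬝ᵥ v) := by
      rw [Matrix.dotProduct_mulVec, ← Matrix.mulVec_transpose, Matrix.mulVec_mulVec, hA, Matrix.neg_mulVec,
        Matrix.one_mulVec, neg_dotProduct]
    simp only [dotProduct] at key
    simp only [sq]
    rw [key, add_neg_cancel]

end Cfsg.Agent.S0759
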