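import Cfsg.Statements.S0761
import Cfsg.Agent.Lib.Forms.Symp

set_option autoImplicit false
open Cfsg

namespace Cfsg.Agent.S0761

/-- Hyperbolic partners: let B be a non-degenerate bilinear form on a finite-dimensional space, either alternating, or symmetric with 2 ≠ 0. If Z is a subspace on which B vanishes, x ∉ Z is isotropic and orthogonal to Z, then there is an isotropic y with B x y = 1 which is orthogonal to Z. -/
theorem result {F V : Type*} [Field F] [AddCommGroup V] [Module F V] [FiniteDimensional F V] (B : LinearMap.BilinForm F V) (hB : B.Nondegenerate) (hform : B.IsAlt ∨ (B.IsSymm ∧ (2 : F) ≠ 0)) (x : V) (Z : Submodule F V) (hxZ : x ∉ Z) (hx : B x x = 0) (hxz : ∀ z ∈ Z, B x z = 0) (hZ : ∀ z ∈ Z, ∀ z' ∈ Z, B z z' = 0) : ∃ y : V, B y y = 0 ∧ B x y = 1 ∧ ∀ z ∈ Z, B z y = 0 := by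
  have key : ∀ {ε : F}, Forms.IsHermitianPolar (RingHom.id F) ε B →
      ∃ y : V, B y y = 0 ∧ B x y = 1 ∧ ∀ z ∈ Z, B z y = 0 := by
    intro ε h
    obtain ⟨u, hu, hux⟩ := h.exists_perp hxZ
    have hε : ε * ε = 1 := by simpa using h.eps
    obtain ⟨τ, hτ⟩ := h.trace u
    rw [RingHom.id_apply] at hτ
    have hxu : B x u = ε := by rw [h.swap u x, hux]; simp
    refine ⟨ε • u + (-ε * τ) • x, ?_, ?_, ?_⟩
    · simp only [map_add, map_smul, LinearMap.add_apply, LinearMap.smul_apply, smul_eq_mul, hx, hux, hxu, hτ]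
      ring
    · simp [hx, hxu, hε]
    · intro z hz
      have h1 : B z u = 0 := h.eq_zero_comm (hu z hz)
      have h2 : B z x = 0 := h.eq_zero_comm (hxz z hz)
      simp [h1, h2]
  rcases hform with h | ⟨h, h2⟩
  · exact key (Forms.isHermitianPolar_of_isAlt h hB)
  · exact key (Forms.isHermitianPolar_of_isSymm h2 h hB)

end Cfsg.Agent.S0761
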