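import Cfsg.Statements.S0762
import Mathlib

set_option autoImplicit false
open Cfsg

namespace Cfsg.Agent.S0762

/-- In characteristic two over a finite field, a quadratic form on a space of dimension at least 3 vanishes on some non-zero vector. -/
theorem result {F V : Type*} [Field F] [Finite F] [CharP F 2] [AddCommGroup V] [Module F V] [FiniteDimensional F V] (Q : QuadraticForm F V) (h3 : 3 ≤ Module.finrank F V) : ∃ v : V, v ≠ 0 ∧ Q v = 0 := by
  obtain ⟨a, ha⟩ : ∃ a : V, a ≠ 0 :=
    have : Nontrivial V := Module.nontrivial_of_finrank_pos (R := F) (by omega)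
    exists_ne 0
  by_cases hqa : Q a = 0
  · exact ⟨a, ha, hqa⟩
  let f : V →ₗ[F] F := QuadraticMap.polarBilin Q a
  obtain ⟨w, hw, hwa⟩ : ∃ w, f w = 0 ∧ ∀ c : F, c • a ≠ w := by
    by_contra h
    push Not at h
    have hle : LinearMap.ker f ≤ Submodule.span F {a} := fun x hx =>
      Submodule.mem_span_singleton.2 (h x hx)
    have h1 := Submodule.finrank_mono hle
    rw [finrank_span_singleton ha] at h1
    have h2 := LinearMap.finrank_range_add_finrank_ker f
    have h3 := Submodule.finrank_le (LinearMap.range f)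
    rw [Module.finrank_self] at h3
    omega
  have : Fintype F := Fintype.ofFinite F
  obtain ⟨x, hx⟩ := FiniteField.isSquare_of_char_two (F := F) (by rw [ringChar.eq F 2]) (Q w / Q a)
  refine ⟨x • a + w, fun h0 => hwa (-x) ?_, ?_⟩
  · rw [neg_smul, neg_eq_iff_add_eq_zero, h0]
  · rw [QuadraticMap.map_add (f := ⇑Q), QuadraticMap.map_smul, QuadraticMap.polar_smul_left]
    have : QuadraticMap.polar Q a w = 0 := hw
    rw [this, smul_zero, add_zero, smul_eq_mul, ← hx, div_mul_cancel₀ _ hqa, CharTwo.add_self_eq_zero]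

end Cfsg.Agent.S0762
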