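import Cfsg.Statements.S0763
import Mathlib

set_option autoImplicit false
open Cfsg

namespace Cfsg.Agent.S0763

/-- Binary quadratic forms in characteristic two over a finite field: if Q is a quadratic form on a 2-dimensional space whose polar form is non-degenerate, then either there are vectors v, w with Q v = Q w = 0 and polar value 1 (Q is xy in these coordinates), or there are v, w and μ with Q v = 1, Q w = μ, polar value 1 and x² + x + μ without roots in F (Q is x² + xy + μy²). -/
theorem result {F V : Type*} [Field F] [Finite F] [CharP F 2] [AddCommGroup V] [Module F V] (Q : QuadraticForm F V) (h2 : Module.finrank F V = 2) (hQ : (QuadraticMap.polarBilin Q).Nondegenerate) : (∃ v w : V, LinearIndependent F ![v, w] ∧ Q v = 0 ∧ Q w = 0 ∧ QuadraticMap.polar Q v w = 1) ∨ (∃ (v w : V) (μ : F), LinearIndependent F ![v, w] ∧ (∀ x : F, x ^ 2 + x + μ ≠ 0) ∧ Q v = 1 ∧ Q w = μ ∧ QuadraticMap.polar Q v w = 1) := by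
  classical
  have : Fintype F := Fintype.ofFinite F
  have hfin : FiniteDimensional F V := Module.finite_of_finrank_eq_succ h2
  have hpair : ∀ v : V, v ≠ 0 → ∃ w, QuadraticMap.polar Q v w = 1 := by
    intro v hv
    obtain ⟨w, hw⟩ : ∃ w, QuadraticMap.polar Q v w ≠ 0 := by
      by_contra h
      push Not at h
      exact hv (hQ.1 v h)
    refine ⟨(QuadraticMap.polar Q v w)⁻¹ • w, ?_⟩
    rw [QuadraticMap.polar_smul_right, smul_eq_mul, inv_mul_cancel₀ hw]
  have hself : ∀ v, QuadraticMap.polar Q v v = 0 := fun v => by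
    rw [QuadraticMap.polar_self, two_smul, CharTwo.add_self_eq_zero]
  have hadd : ∀ v w (c : F), Q (c • v + w) = c * c * Q v + Q w + c * QuadraticMap.polar Q v w := fun v w c => by
    rw [QuadraticMap.map_add (f := ⇑Q), QuadraticMap.map_smul, QuadraticMap.polar_smul_left, smul_eq_mul, smul_eq_mul]
  have hli : ∀ v w, QuadraticMap.polar Q v w = 1 → LinearIndependent F ![v, w] := by
    intro v w h
    have hv : v ≠ 0 := by
      rintro rfl
      simp [QuadraticMap.polar_zero_left] at h
    rw [LinearIndependent.pair_iff' hv]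
    intro c hc
    rw [← hc, QuadraticMap.polar_smul_right, hself, smul_zero] at h
    exact zero_ne_one h
  by_cases hiso : ∃ v, v ≠ 0 ∧ Q v = 0
  · obtain ⟨v, hv, hv0⟩ := hiso
    obtain ⟨w, hw⟩ := hpair v hv
    have hw' : QuadraticMap.polar Q v (Q w • v + w) = 1 := by
      rw [QuadraticMap.polar_add_right, QuadraticMap.polar_smul_right, hself, smul_zero, zero_add, hw]
    refine Or.inl ⟨v, Q w • v + w, hli _ _ hw', hv0, ?_, hw'⟩
    rw [hadd, hv0, hw, mul_zero, zero_add, mul_one, CharTwo.add_self_eq_zero]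
  · push Not at hiso
    obtain ⟨a, ha⟩ : ∃ a : V, a ≠ 0 :=
      have : Nontrivial V := Module.nontrivial_of_finrank_pos (R := F) (by omega)
      exists_ne 0
    obtain ⟨r, hr⟩ := FiniteField.isSquare_of_char_two (F := F) (by rw [ringChar.eq F 2]) (Q a)
    have hr0 : r ≠ 0 := fun e => hiso a ha (by rw [hr, e, mul_zero])
    have hv1 : Q (r⁻¹ • a) = 1 := by rw [QuadraticMap.map_smul, hr, smul_eq_mul]; field_simp
    obtain ⟨w, hw⟩ := hpair _ (smul_ne_zero (inv_ne_zero hr0) ha)
    refine Or.inr ⟨r⁻¹ • a, w, Q w, hli _ _ hw, fun x hx => ?_, hv1, rfl, hw⟩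
    refine hiso (x • (r⁻¹ • a) + w) (fun h0 => ?_) (by rw [hadd, hv1, hw]; linear_combination hx)
    have := congrArg (QuadraticMap.polar Q (r⁻¹ • a)) h0
    rw [QuadraticMap.polar_add_right, QuadraticMap.polar_smul_right, hself, smul_zero, zero_add, hw,
      QuadraticMap.polar_zero_right] at this
    exact one_ne_zero this

end Cfsg.Agent.S0763
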