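import Cfsg.Statements.S0767
import Cfsg.Agent.Lib.ClassicalSimple.SympMatrix
-- import your own Cfsg.Agent.* helpers here

set_option autoImplicit false
open Cfsg

namespace Cfsg.Agent.S0767
open scoped Matrix

/-- The root group of a point: T_v(c) T_v(d) = T_v(c + d), and for A in the symplectic group with A v = a v, the conjugate A T_v(c) A⁻¹ is again some T_v(d). -/
theorem result {F : Type*} [Field F] (m : ℕ) (v : Fin m ⊕ Fin m → F) : (∀ c d : F, Cfsg.sympTransvection m v c * Cfsg.sympTransvection m v d = Cfsg.sympTransvection m v (c + d)) ∧ ∀ (A : Matrix (Fin m ⊕ Fin m) (Fin m ⊕ Fin m) F) (a : F), A ∈ Matrix.symplecticGroup (Fin m) F → A.mulVec v = a • v → ∀ c : F, ∃ d : F, A * Cfsg.sympTransvection m v c * A⁻¹ = Cfsg.sympTransvection m v d := by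
  have key : ∀ w c, (ClassicalSimple.sympTransvectionElt (F := F) (m := m) w c).1 =
      Cfsg.sympTransvection m w c := fun _ _ => rfl
  refine ⟨fun c d => ?_, fun A a hA hAv c => ⟨a * a * c, ?_⟩⟩
  · have : ClassicalSimple.sympTransvectionElt v c * ClassicalSimple.sympTransvectionElt v d =
        ClassicalSimple.sympTransvectionElt v (c + d) := by
      apply ClassicalSimple.symplecticEquiv.injective
      rw [map_mul, ClassicalSimple.symplecticEquiv_transvection,
        ClassicalSimple.symplecticEquiv_transvection,
        ClassicalSimple.symplecticEquiv_transvection, ClassicalSimple.spTransv_add]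
    exact congrArg Subtype.val this
  · let g : Matrix.symplecticGroup (Fin m) F := ⟨A, hA⟩
    have : g * ClassicalSimple.sympTransvectionElt v c * g⁻¹ =
        ClassicalSimple.sympTransvectionElt v (a * a * c) := by
      apply ClassicalSimple.symplecticEquiv.injective
      rw [map_mul, map_mul, map_inv, ClassicalSimple.symplecticEquiv_transvection,
        ClassicalSimple.spTransv_conj, ClassicalSimple.symplecticEquiv_transvection,
        ClassicalSimple.symplecticEquiv_smul, show g.1 *ᵥ v = a • v from hAv,
        ClassicalSimple.spTransv_scale]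
    have h := congrArg Subtype.val this
    simp only [Submonoid.coe_mul, SymplecticGroup.coe_inv'] at h
    exact h

end Cfsg.Agent.S0767
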