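import Cfsg.Statements.S0768
import Cfsg.Agent.Lib.ClassicalSimple.RankOne

set_option autoImplicit false
open scoped LinearAlgebra.Projectivization
open Cfsg

namespace Cfsg.Agent.S0768

/-- Primitivity: for m ≥ 1 and F finite, the symplectic group of the form sympForm (as a subgroup of the general linear group) acts primitively on the projective space of F^(2m). -/
theorem result {F : Type*} [Field F] [Finite F] (m : ℕ) (hm : 1 ≤ m) : MulAction.IsPreprimitive ↥(Cfsg.spGL m F) (ℙ F (Fin m ⊕ Fin m → F)) := by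
  haveI : Nontrivial (Fin m ⊕ Fin m → F) := Cfsg.Agent.ClassicalSimple.nontrivial_symplectic_space hm
  have hP := (Cfsg.Agent.ClassicalSimple.sp_pointGeom (F := F)
    (Cfsg.Agent.ClassicalSimple.sympBilin_isAlt (m := m) (F := F))
    Cfsg.Agent.ClassicalSimple.sympBilin_nondegenerate).transfer (H := ↥(Cfsg.spGL m F)) fun g => ?_
  · exact Cfsg.Agent.ClassicalSimple.PointGeom.isPreprimitive hP
  · obtain ⟨A, rfl⟩ := Cfsg.Agent.ClassicalSimple.symplecticEquiv.surjective g
    refine ⟨⟨Matrix.GeneralLinearGroup.mk'' A.1 (SymplecticGroup.symplectic_det A.2), ?_⟩, fun v => ?_⟩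
    · intro u v
      rw [← Cfsg.Agent.ClassicalSimple.sympBilin_apply, ← Cfsg.Agent.ClassicalSimple.sympBilin_apply]
      exact Cfsg.Agent.ClassicalSimple.mem_symplecticGroup_iff_form.1 A.2 u v
    · rw [Cfsg.Agent.ClassicalSimple.symplecticEquiv_smul]
      rfl

end Cfsg.Agent.S0768
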