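import Cfsg.Statements.S0770
import Cfsg.Agent.Lib.GL.Basic
-- import your own Cfsg.Agent.* helpers here

set_option autoImplicit false
open Cfsg

namespace Cfsg.Agent.S0770

/-- For a field with at least 3 elements, an invertible matrix normalises the subgroup of invertible diagonal matrices of GL_n if and only if it is monomial (exactly one non-zero entry in each row). -/
theorem result {F : Type*} [Field F] (hF : ∃ a : F, a ≠ 0 ∧ a ≠ 1) (n : ℕ) (g : Matrix.GeneralLinearGroup (Fin n) F) : g ∈ Subgroup.normalizer ((Units.map (Matrix.diagonalRingHom (Fin n) F).toMonoidHom).range : Subgroup (Matrix.GeneralLinearGroup (Fin n) F)) ↔ ∀ i : Fin n, ∃! j : Fin n, (g : Matrix (Fin n) (Fin n) F) i j ≠ 0 := by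
  classical
  obtain ⟨a, ha, ha1⟩ := hF
  set D : Subgroup (Matrix.GeneralLinearGroup (Fin n) F) :=
    (Units.map (Matrix.diagonalRingHom (Fin n) F).toMonoidHom).range
  have hD : ∀ x : Matrix.GeneralLinearGroup (Fin n) F,
      x ∈ D ↔ ∀ i j, i ≠ j → (x : Matrix (Fin n) (Fin n) F) i j = 0 := by
    intro x
    constructor
    · rintro ⟨d, rfl⟩ i j hij
      exact Matrix.diagonal_apply_ne _ hij
    · intro h
      have hx : Matrix.diagonal (fun i => (x : Matrix (Fin n) (Fin n) F) i i) = x.1 :=
        Matrix.IsDiag.diagonal_diag (fun i j hij => h i j hij)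
      have hne : ∀ i, (x : Matrix (Fin n) (Fin n) F) i i ≠ 0 := by
        intro i hi
        have h0 := Matrix.GeneralLinearGroup.det_ne_zero x
        rw [← hx, Matrix.det_diagonal] at h0
        exact h0 (Finset.prod_eq_zero (Finset.mem_univ i) hi)
      exact ⟨MulEquiv.piUnits.symm (fun i => Units.mk0 _ (hne i)), Units.ext hx⟩
  -- `g` acts on diagonal matrices from both sides
  constructor
  · intro hg i
    rw [Subgroup.mem_normalizer_iff] at hg
    obtain ⟨j, hj⟩ : ∃ j, (g : Matrix (Fin n) (Fin n) F) i j ≠ 0 := by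
      by_contra hcon
      simp only [not_exists, not_not] at hcon
      exact Matrix.GeneralLinearGroup.det_ne_zero g (Matrix.det_eq_zero_of_row_eq_zero i hcon)
    refine ⟨j, hj, fun k hk => ?_⟩
    by_contra hne
    let d : Fin n → Fˣ := fun l => if l = j then Units.mk0 a ha else 1
    have hx := (hg (GL.diagHom d)).1 ((hD _).2 fun r s hrs => by simp [Matrix.diagonal_apply_ne _ hrs])
    obtain ⟨e, he⟩ := hx
    have h2 : g.1 * Matrix.diagonal (fun l => (d l : F)) = Matrix.diagonal (e : Fin n → F) * g.1 := by
      have hv : (Units.map (Matrix.diagonalRingHom (Fin n) F).toMonoidHom e) * g = g * GL.diagHom d := by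
        rw [he, inv_mul_cancel_right]
      exact (congrArg Units.val hv).symm
    have h3 := congrFun (congrFun h2 i) j
    have h4 := congrFun (congrFun h2 i) k
    rw [Matrix.mul_diagonal, Matrix.diagonal_mul] at h3 h4
    simp [d, hne] at h3 h4
    grind
  · intro hg
    choose σ hσ hσu using hg
    have hz : ∀ i k, k ≠ σ i → (g : Matrix (Fin n) (Fin n) F) i k = 0 := fun i k hk => by
      by_contra h
      exact hk (hσu i k h)
    have hσb : Function.Bijective σ := by
      refine Finite.injective_iff_bijective.1 fun i j hij => ?_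
      by_contra hne
      have h0 := Matrix.GeneralLinearGroup.det_ne_zero g
      refine h0 ?_
      rw [← Matrix.det_updateRow_add_smul_self (g : Matrix (Fin n) (Fin n) F) hne
        (-((g : Matrix (Fin n) (Fin n) F) i (σ i) / (g : Matrix (Fin n) (Fin n) F) j (σ j)))]
      refine Matrix.det_eq_zero_of_row_eq_zero i fun k => ?_
      rw [Matrix.updateRow_self]
      have hjne := hσ j
      by_cases hk : k = σ i
      · subst hk
        rw [← hij] at hjne ⊢
        simp
        field_simp
        ring
      · simp [hz i k hk, hz j k (hij ▸ hk)]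
    have key : ∀ d : Fin n → Fˣ, g * GL.diagHom d = GL.diagHom (fun i => d (σ i)) * g := by
      intro d
      refine Units.ext (Matrix.ext fun i k => ?_)
      show (g.1 * Matrix.diagonal fun l => (d l : F) : Matrix (Fin n) (Fin n) F) i k =
        (Matrix.diagonal (fun l => (d (σ l) : F)) * g.1 : Matrix (Fin n) (Fin n) F) i k
      rw [Matrix.mul_diagonal, Matrix.diagonal_mul]
      by_cases hk : k = σ i
      · subst hk; exact mul_comm _ _
      · simp [hz i k hk]
    have hrange : ∀ x, x ∈ D ↔ ∃ d : Fin n → Fˣ, GL.diagHom d = x := fun x =>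
      ⟨fun ⟨e, he⟩ => ⟨MulEquiv.piUnits e, by rw [← he]; exact Units.ext rfl⟩,
        fun ⟨d, hd⟩ => ⟨MulEquiv.piUnits.symm d, by rw [← hd]; exact Units.ext rfl⟩⟩
    rw [Subgroup.mem_normalizer_iff]
    intro x
    constructor
    · intro hx
      obtain ⟨d, rfl⟩ := (hrange x).1 hx
      rw [key, mul_inv_cancel_right]
      exact (hrange _).2 ⟨_, rfl⟩
    · intro hx
      obtain ⟨d, hd⟩ := (hrange _).1 hx
      obtain ⟨τ, hτ, -⟩ := Function.bijective_iff_has_inverse.1 hσb
      refine (hrange x).2 ⟨fun i => d (τ i), ?_⟩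
      have e1 := key (fun i => d (τ i))
      rw [show (fun i => d (τ (σ i))) = d from funext fun i => congrArg d (hτ i), hd] at e1
      rw [show g * x * g⁻¹ * g = g * x by group] at e1
      exact mul_left_cancel e1

end Cfsg.Agent.S0770
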