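import Cfsg.Statements.S0773
import Mathlib
import Cfsg.Agent.Lib.GL.Parabolic

set_option autoImplicit false
open Cfsg

namespace Cfsg.Agent.S0773

open Matrix Cfsg.Agent.GL.Parabolic

private noncomputable def revFun {F : Type*} [Field F] {n : ℕ} (g : Matrix.GeneralLinearGroup (Fin n) F) :
    Matrix.GeneralLinearGroup (Fin n) F :=
  GeneralLinearGroup.mk''
    ((((g⁻¹ : Matrix.GeneralLinearGroup (Fin n) F) : Matrix (Fin n) (Fin n) F))ᵀ.submatrix Fin.revPerm Fin.revPerm)
    (by rw [det_submatrix_equiv_self, det_transpose]; exact (isUnit_iff_isUnit_det _).1 (g⁻¹).isUnit)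

private theorem coe_revFun {F : Type*} [Field F] {n : ℕ} (g : Matrix.GeneralLinearGroup (Fin n) F) :
    ((revFun g : Matrix.GeneralLinearGroup (Fin n) F) : Matrix (Fin n) (Fin n) F) =
      (((g⁻¹ : Matrix.GeneralLinearGroup (Fin n) F) : Matrix (Fin n) (Fin n) F))ᵀ.submatrix Fin.revPerm Fin.revPerm := rfl

private theorem revFun_revFun {F : Type*} [Field F] {n : ℕ} (g : Matrix.GeneralLinearGroup (Fin n) F) :
    revFun (revFun g) = g := by
  apply Units.ext
  rw [coe_revFun, coe_units_inv, coe_revFun, inv_submatrix_equiv, ← transpose_nonsing_inv, ← coe_units_inv, inv_inv]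
  ext i j; simp [Fin.rev_rev]

private noncomputable def revEquiv (F : Type*) [Field F] (n : ℕ) :
    Matrix.GeneralLinearGroup (Fin n) F ≃* Matrix.GeneralLinearGroup (Fin n) F where
  toFun := revFun
  invFun := revFun
  left_inv := revFun_revFun
  right_inv := revFun_revFun
  map_mul' g h := by
    apply Units.ext
    rw [Units.val_mul, coe_revFun, coe_revFun, coe_revFun, _root_.mul_inv_rev, Units.val_mul, transpose_mul]
    exact (submatrix_mul_equiv _ _ _ _ _).symm

private theorem rev_mem {F : Type*} [Field F] {n k : ℕ} (hk : k ≤ n) (g : Matrix.GeneralLinearGroup (Fin n) F)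
    (hg : g ∈ parabolic F n k) : revEquiv F n g ∈ parabolic F n (n - k) := by
  rw [mem_parabolic_iff]
  intro i j hi hj
  show ((revFun g : Matrix.GeneralLinearGroup (Fin n) F) : Matrix (Fin n) (Fin n) F) i j = 0
  rw [coe_revFun, submatrix_apply]
  rw [transpose_apply]
  exact (mem_parabolic_iff _).1 (inv_mem hg) _ _ (by simp; omega) (by simp; omega)

private noncomputable def iso {F : Type*} [Field F] (n k : ℕ) (hk : k ≤ n) :
    parabolic F n k ≃* parabolic F n (n - k) where
  toFun g := ⟨revFun g.1, rev_mem hk g.1 g.2⟩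
  invFun g := ⟨revFun g.1, by
    have h := rev_mem (Nat.sub_le n k) g.1 g.2
    rw [Nat.sub_sub_self hk] at h
    exact h⟩
  left_inv g := Subtype.ext (revFun_revFun g.1)
  right_inv g := Subtype.ext (revFun_revFun g.1)
  map_mul' g h := Subtype.ext ((revEquiv F n).map_mul' g.1 h.1)

private theorem finrank_coordSub {F : Type*} [Field F] (n k : ℕ) (hk : k ≤ n) :
    Module.finrank F (coordSub F n k) = k := by
  let e : coordSub F n k ≃ₗ[F] (Fin k → F) :=
    { toFun := fun v i => (v : Fin n → F) (Fin.castLE hk i)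
      map_add' := fun _ _ => rfl
      map_smul' := fun _ _ => rfl
      invFun := fun w => ⟨fun i => if h : (i : ℕ) < k then w ⟨i, h⟩ else 0,
        fun i hi => dif_neg (not_lt.2 hi)⟩
      left_inv := fun v => Subtype.ext (funext fun i => by
        by_cases h : (i : ℕ) < k
        · simp [h]
        · simp [h, v.2 i (not_lt.1 h)])
      right_inv := fun w => funext fun i => by simp }
  rw [e.finrank_eq, Module.finrank_fin_fun]

/-- The stabilisers in GL_n(F), F finite, of the coordinate subspaces of dimensions k and n − k are isomorphic groups, but when 2k ≠ n (and 0 < k < n) no element of GL_n conjugates one onto the other. -/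
theorem result {F : Type*} [Field F] [Finite F] (n k : ℕ) (hk0 : 0 < k) (hkn : k < n) (h2 : 2 * k ≠ n) : Nonempty (↥(Cfsg.stabilizing (Cfsg.glToMat (Fin n) F) {v : Fin n → F | ∀ i : Fin n, k ≤ (i : ℕ) → v i = 0}) ≃* ↥(Cfsg.stabilizing (Cfsg.glToMat (Fin n) F) {v : Fin n → F | ∀ i : Fin n, n - k ≤ (i : ℕ) → v i = 0})) ∧ ∀ g : Matrix.GeneralLinearGroup (Fin n) F, (Cfsg.stabilizing (Cfsg.glToMat (Fin n) F) {v : Fin n → F | ∀ i : Fin n, k ≤ (i : ℕ) → v i = 0}).map (MulAut.conj g).toMonoidHom ≠ Cfsg.stabilizing (Cfsg.glToMat (Fin n) F) {v : Fin n → F | ∀ i : Fin n, n - k ≤ (i : ℕ) → v i = 0} := by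
  constructor
  · exact ⟨iso n k hkn.le⟩
  · intro g heq
    let gl : (Fin n → F) ≃ₗ[F] (Fin n → F) :=
      LinearEquiv.ofBijective (g : Matrix (Fin n) (Fin n) F).mulVecLin ⟨Matrix.mulVec_injective_iff_isUnit.2 g.isUnit, Matrix.mulVec_surjective_iff_isUnit.2 g.isUnit⟩
    let U := (coordSub F n k).map gl.toLinearMap
    have hinv : ∀ h ∈ parabolic F n (n - k), ∀ v ∈ U, (h : Matrix (Fin n) (Fin n) F) *ᵥ v ∈ U := by
      intro h hh v hv
      obtain ⟨w, hw, rfl⟩ := Submodule.mem_map.1 hv
      obtain ⟨p, hp, rfl⟩ := Subgroup.mem_map.1 (show h ∈ Subgroup.map (MulAut.conj g).toMonoidHom (parabolic F n k) from (SetLike.ext_iff.1 heq h).2 hh)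
      refine Submodule.mem_map.2 ⟨(p : Matrix (Fin n) (Fin n) F) *ᵥ w, (hp w).1 hw, ?_⟩
      show (g : Matrix (Fin n) (Fin n) F) *ᵥ ((p : Matrix (Fin n) (Fin n) F) *ᵥ w) =
        ((g * p * g⁻¹ : Matrix.GeneralLinearGroup (Fin n) F) : Matrix (Fin n) (Fin n) F) *ᵥ
          ((g : Matrix (Fin n) (Fin n) F) *ᵥ w)
      simp only [Matrix.mulVec_mulVec, ← Units.val_mul, inv_mul_cancel_right]
    have hdim : Module.finrank F U = k := by
      rw [LinearEquiv.finrank_map_eq gl, finrank_coordSub n k hkn.le]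
    rcases eq_of_invariant U hinv with h | h | h
    · rw [h, finrank_bot] at hdim; omega
    · rw [h, finrank_coordSub n (n - k) (by omega)] at hdim; omega
    · rw [h, finrank_top, Module.finrank_fin_fun] at hdim; omega

end Cfsg.Agent.S0773
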