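import Cfsg.Statements.S0774
import Cfsg.Agent.Lib.Forms.FrameCounts

set_option autoImplicit false
open Cfsg
open scoped Matrix

namespace Cfsg.Agent.S0774

/-- Borel subgroup of the symplectic group: the elements of Sp_2m(q) stabilising each of the totally isotropic coordinate subspaces ⟨e_0, ..., e_k⟩ (k < m) form a subgroup of order q^(m²) (q − 1)^m. -/
theorem result {F : Type*} [Field F] [Fintype F] {q : ℕ} (hF : Fintype.card F = q) (m : ℕ) : Nat.card ↥(⨅ k : Fin m, Cfsg.stabilizing (Cfsg.spToMat m F) {v : Fin m ⊕ Fin m → F | (∀ i : Fin m, (k : ℕ) < (i : ℕ) → v (Sum.inl i) = 0) ∧ ∀ i : Fin m, v (Sum.inr i) = 0}) = q ^ (m ^ 2) * (q - 1) ^ m := by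
  classical
  subst hF
  let e : Fin m → (Fin m ⊕ Fin m → F) := fun k => Pi.single (Sum.inl k) 1
  let U : ℕ → Submodule F (Fin m ⊕ Fin m → F) := fun j =>
    { carrier := {v | (∀ i : Fin m, j ≤ (i : ℕ) → v (Sum.inl i) = 0) ∧ ∀ i : Fin m, v (Sum.inr i) = 0}
      add_mem' := fun {a b} ha hb => ⟨fun i hi => by simp [ha.1 i hi, hb.1 i hi], fun i => by simp [ha.2 i, hb.2 i]⟩
      zero_mem' := ⟨fun i _ => rfl, fun i => rfl⟩
      smul_mem' := fun c a ha => ⟨fun i hi => by simp [ha.1 i hi], fun i => by simp [ha.2 i]⟩ }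
  let G : Subgroup ((Fin m ⊕ Fin m → F) ≃ₗ[F] (Fin m ⊕ Fin m → F)) :=
    { carrier := {g | g ∈ Forms.isom F (sympForm m F) ∧ ∀ k : Fin m, ∀ v, v ∈ U ((k : ℕ) + 1) ↔ g v ∈ U ((k : ℕ) + 1)}
      mul_mem' := fun {a c} ha hc => ⟨mul_mem ha.1 hc.1, fun k v => (hc.2 k v).trans (ha.2 k (c v))⟩
      one_mem' := ⟨one_mem _, fun k v => Iff.rfl⟩
      inv_mem' := fun {a} ha => ⟨inv_mem ha.1, fun k v => by
        have := ha.2 k (a.symm v)
        rw [LinearEquiv.apply_symm_apply] at this
        exact this.symm⟩ }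
  have hcardG : Nat.card ↥(⨅ k : Fin m, Cfsg.stabilizing (Cfsg.spToMat m F) {v : Fin m ⊕ Fin m → F |
      (∀ i : Fin m, (k : ℕ) < (i : ℕ) → v (Sum.inl i) = 0) ∧ ∀ i : Fin m, v (Sum.inr i) = 0}) = Nat.card G := by
    refine (Nat.card_congr (Equiv.subtypeEquiv (Forms.spEquiv m F).toEquiv (fun A => ?_))).trans
      (Nat.card_congr (Equiv.subtypeSubtypeEquivSubtypeInter (fun g => g ∈ Forms.isom F (sympForm m F))
        (fun g => ∀ k : Fin m, ∀ v, v ∈ U ((k : ℕ) + 1) ↔ g v ∈ U ((k : ℕ) + 1))))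
    simp only [Subgroup.mem_iInf]
    exact ⟨fun h k v => h k v, fun h k v => h k v⟩
  rw [hcardG]
  have he : LinearIndependent F e := (Pi.linearIndependent_single_one (Fin m ⊕ Fin m) F).comp Sum.inl Sum.inl_injective
  have heiso : ∀ i j, Forms.sympB m F (e i) (e j) = 0 := fun i j => by
    rw [Forms.sympB_apply, Forms.sympForm_eq_sum]
    simp [e]
  have heU : ∀ k : Fin m, e k ∈ U ((k : ℕ) + 1) := fun k =>
    ⟨fun i hi => by
      have : i ≠ k := fun h => by subst h; omega
      simp [e, this], fun i => by simp [e]⟩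
  let O : Set (Fin m → (Fin m ⊕ Fin m → F)) :=
    {v | ∀ k : Fin m, v k ∈ U ((k : ℕ) + 1) ∧ v k (Sum.inl k) ≠ 0}
  have hOli : ∀ v ∈ O, LinearIndependent F v := by
    intro v hv
    rw [Fintype.linearIndependent_iff]
    intro c hc
    by_contra hne
    simp only [not_forall] at hne
    obtain ⟨i₀, hi₀⟩ := hne
    obtain ⟨k, hk, hmax⟩ := (Finset.univ.filter fun i : Fin m => c i ≠ 0).exists_max_image id
      ⟨i₀, Finset.mem_filter.2 ⟨Finset.mem_univ _, hi₀⟩⟩
    have h := congrFun hc (Sum.inl k)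
    rw [Finset.sum_apply, Fintype.sum_eq_single k] at h
    · simp only [Pi.smul_apply, smul_eq_mul, Pi.zero_apply] at h
      exact (hv k).2 ((mul_eq_zero.1 h).resolve_left (Finset.mem_filter.1 hk).2)
    · intro i hi
      by_cases hci : c i = 0
      · simp [hci]
      · have hle : i ≤ k := hmax i (Finset.mem_filter.2 ⟨Finset.mem_univ _, hci⟩)
        have hlt : (i : ℕ) + 1 ≤ (k : ℕ) := Fin.lt_def.1 (lt_of_le_of_ne hle hi)
        simp [(hv i).1.1 k hlt]
  have hspan : ∀ v ∈ O, ∀ k : Fin m,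
      Submodule.span F (Set.range fun i : {i : Fin m // i ≤ k} => v i.1) = U ((k : ℕ) + 1) := by
    intro v hv k
    have hle : ∀ i : {i : Fin m // i ≤ k}, v i.1 ∈ U ((k : ℕ) + 1) := fun i =>
      ⟨fun j hj => (hv i.1).1.1 j (by have := Fin.le_def.1 i.2; omega), (hv i.1).1.2⟩
    refine Submodule.eq_of_le_of_finrank_le (Submodule.span_le.2 (by rintro _ ⟨i, rfl⟩; exact hle i)) ?_
    have hvk : LinearIndependent F fun i : {i : Fin m // i ≤ k} => v i.1 :=
      (hOli v hv).comp _ Subtype.val_injective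
    rw [finrank_span_eq_card hvk]
    let L : U ((k : ℕ) + 1) →ₗ[F] ({i : Fin m // i ≤ k} → F) :=
      { toFun := fun x i => x.1 (Sum.inl i.1)
        map_add' := fun _ _ => rfl
        map_smul' := fun _ _ => rfl }
    have hL : Function.Injective L := by
      intro x y h
      refine Subtype.ext (funext fun s => ?_)
      rcases s with i | i
      · by_cases hi : i ≤ k
        · exact congrFun h ⟨i, hi⟩
        · have hi' : (k : ℕ) + 1 ≤ (i : ℕ) := Fin.lt_def.1 (not_le.1 hi)
          rw [x.2.1 i hi', y.2.1 i hi']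
      · rw [x.2.2 i, y.2.2 i]
    have := LinearMap.finrank_le_finrank_of_injective hL
    rwa [Module.finrank_fintype_fun_eq_card] at this
  have hGmem : ∀ g ∈ G, (fun k => g (e k)) ∈ O := by
    intro g hg k
    refine ⟨(hg.2 k _).1 (heU k), fun h0 => ?_⟩
    have hgU : g (e k) ∈ U (k : ℕ) := ⟨fun i hi => by
      rcases eq_or_lt_of_le hi with h | h
      · rw [← Fin.ext h]; exact h0
      · exact ((hg.2 k _).1 (heU k)).1 i h, ((hg.2 k _).1 (heU k)).2⟩
    rcases Nat.eq_zero_or_pos (k : ℕ) with hk | hk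
    · have : g (e k) = 0 := funext fun s => by
        rcases s with i | i
        · exact hgU.1 i (by omega)
        · exact hgU.2 i
      exact he.ne_zero k (g.map_eq_zero_iff.1 this)
    · let k' : Fin m := ⟨(k : ℕ) - 1, by have := k.2; omega⟩
      have hk' : (k' : ℕ) + 1 = k := Nat.succ_pred_eq_of_pos hk
      have h := hg.2 k' (e k)
      rw [hk'] at h
      have h1 := (h.2 hgU).1 k le_rfl
      simp [e] at h1
  have hGO := Forms.card_eq_orbit_mul_fix G e O hGmem (by
    intro v hv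
    obtain ⟨g, hg, hgv⟩ := Forms.witt_symp_tuple he (hOli v hv) (fun i j => by
      rw [← Forms.sympB_apply (e i), heiso, Forms.sympForm_eq_sum]
      simp [(hv i).1.2, (hv j).1.2])
    have heO : e ∈ O := fun k => ⟨heU k, by simp [e]⟩
    have hmap : ∀ k : Fin m, (U ((k : ℕ) + 1)).map (g : (Fin m ⊕ Fin m → F) →ₗ[F] _) = U ((k : ℕ) + 1) := by
      intro k
      conv_lhs => rw [← hspan e heO k]
      rw [Submodule.map_span, ← Set.range_comp, ← hspan v hv k]
      congr 2
      funext i
      exact hgv i.1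
    refine ⟨g, ⟨hg, fun k x => ⟨fun hx => hmap k ▸ Submodule.mem_map_of_mem hx, fun hx => ?_⟩⟩, hgv⟩
    rw [← hmap k] at hx
    obtain ⟨y, hy, hyx⟩ := hx
    rwa [← g.injective hyx])
  have hI := Forms.card_eq_orbit_mul_fix (Forms.isom F (sympForm m F)) e
    {v | LinearIndependent F v ∧ ∀ i j, Forms.sympB m F (v i) (v j) = 0}
    (fun g hg => ⟨he.map' g.toLinearMap g.ker, fun i j => by
      rw [Forms.sympB_apply, hg, ← Forms.sympB_apply, heiso]⟩)
    (fun v hv => by
      obtain ⟨g, hg, hgv⟩ := Forms.witt_symp_tuple he hv.1 (fun i j => by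
        rw [← Forms.sympB_apply, ← Forms.sympB_apply, hv.2, heiso])
      exact ⟨g, hg, hgv⟩)
  have hfix : Nat.card {g : (Fin m ⊕ Fin m → F) ≃ₗ[F] (Fin m ⊕ Fin m → F) // g ∈ G ∧ ∀ i, g (e i) = e i}
      = Nat.card {g : (Fin m ⊕ Fin m → F) ≃ₗ[F] (Fin m ⊕ Fin m → F) //
          g ∈ Forms.isom F (sympForm m F) ∧ ∀ i, g (e i) = e i} := by
    refine Nat.card_congr (Equiv.subtypeEquivRight fun g => ⟨fun h => ⟨h.1.1, h.2⟩, fun h => ⟨⟨h.1, ?_⟩, h.2⟩⟩)
    intro k v
    have heO : e ∈ O := fun j => ⟨heU j, by simp [e]⟩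
    have hfixU : ∀ x ∈ U ((k : ℕ) + 1), g x = x := by
      intro x hx
      rw [← hspan e heO k] at hx
      induction hx using Submodule.span_induction with
      | mem y hy => obtain ⟨i, rfl⟩ := hy; exact h.2 i.1
      | zero => simp
      | add y z _ _ hy hz => simp [hy, hz]
      | smul c y _ hy => simp [hy]
    refine ⟨fun hv => (hfixU v hv).symm ▸ hv, fun hv => ?_⟩
    rwa [g.injective (hfixU _ hv)] at hv
  have hO : Nat.card O = ∏ k : Fin m, (Fintype.card F - 1) * Fintype.card F ^ (k : ℕ) := by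
    let E : O ≃ ∀ k : Fin m, {x : F // x ≠ 0} × ({i : Fin m // i < k} → F) :=
      { toFun := fun v k => (⟨v.1 k (Sum.inl k), (v.2 k).2⟩, fun i => v.1 k (Sum.inl i.1))
        invFun := fun p => ⟨fun k => Sum.elim
            (fun i => if h : i < k then (p k).2 ⟨i, h⟩ else if i = k then (p k).1.1 else 0) (fun _ => 0),
          fun k => ⟨⟨fun i hi => by
              have h1 : ¬ i < k := fun h => by have := Fin.lt_def.1 h; omega
              have h2 : i ≠ k := fun h => by subst h; omega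
              simp [h1, h2], fun i => rfl⟩, by simpa using (p k).1.2⟩⟩
        left_inv := fun v => by
          refine Subtype.ext (funext fun k => funext fun s => ?_)
          rcases s with i | i
          · simp only [Sum.elim_inl]
            split_ifs with h1 h2
            · rfl
            · rw [h2]
            · exact ((v.2 k).1.1 i (Fin.lt_def.1 (lt_of_le_of_ne (not_lt.1 h1) (Ne.symm h2)))).symm
          · exact ((v.2 k).1.2 i).symm
        right_inv := fun p => by
          funext k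
          refine Prod.ext (Subtype.ext ?_) (funext fun i => ?_)
          · simp
          · simp [i.2] }
    rw [Nat.card_congr E, Nat.card_pi]
    refine Finset.prod_congr rfl fun k _ => ?_
    rw [Nat.card_prod, Nat.card_fun, Nat.card_eq_fintype_card, Nat.card_eq_fintype_card, Nat.card_eq_fintype_card,
      Fintype.card_subtype_compl, Fintype.card_subtype_eq]
    congr 2
    rw [Fintype.card_subtype, Finset.filter_gt_eq_Iio, Fin.card_Iio]
  rw [Forms.card_isom_sympForm] at hI
  change Fintype.card F ^ m ^ 2 * _ = Nat.card (Forms.IsoFrame (Forms.sympB m F) m) * _ at hI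
  rw [Forms.card_isoFrame_alt (Forms.sympB_isAlt m) (Forms.sympB_nondegenerate m),
    Module.finrank_fintype_fun_eq_card, Fintype.card_sum, Fintype.card_fin, ← two_mul, ← hfix,
    Finset.prod_mul_distrib, Finset.prod_pow_eq_pow_sum,
    Finset.sum_range_reflect (fun i => i) m] at hI
  rw [hGO, hO, Finset.prod_mul_distrib, Finset.prod_const, Finset.card_univ, Fintype.card_fin,
    Finset.prod_pow_eq_pow_sum, Fin.sum_univ_eq_sum_range (fun i => i) m]
  have hP : ∏ i ∈ Finset.range m, (Fintype.card F ^ (2 * m - 2 * i) - 1)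
      = ∏ i ∈ Finset.range m, (Fintype.card F ^ (2 * (i + 1)) - 1) := by
    rw [← Finset.prod_range_reflect]
    refine Finset.prod_congr rfl fun i hi => ?_
    have := Finset.mem_range.1 hi
    congr 2
    omega
  rw [hP] at hI
  have hpos : 0 < ∏ i ∈ Finset.range m, (Fintype.card F ^ (2 * (i + 1)) - 1) :=
    Finset.prod_pos fun i _ => Nat.sub_pos_of_lt (Nat.one_lt_pow (by omega) Fintype.one_lt_card)
  refine Nat.eq_of_mul_eq_mul_left hpos ?_
  linear_combination ((Fintype.card F - 1) ^ m) * hI.symm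

end Cfsg.Agent.S0774
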