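import Cfsg.Statements.S0776
import Cfsg.Agent.Lib.Forms.ProdStab
import Cfsg.Agent.Lib.Forms.Classify

set_option autoImplicit false
open Cfsg

namespace Cfsg.Agent.S0776

/-- If W ≤ F^(2m) is a 2k-dimensional subspace on which the symplectic form is non-degenerate, then the stabiliser of W in Sp_2m(F) is isomorphic to Sp_2k(F) × Sp_(2m−2k)(F). -/
theorem result {F : Type*} [Field F] (m k : ℕ) (hk : k ≤ m) (W : Submodule F (Fin m ⊕ Fin m → F)) (hWk : Module.finrank F W = 2 * k) (hW : ∀ u ∈ W, (∀ v ∈ W, Cfsg.sympForm m F u v = 0) → u = 0) : Nonempty (↥(Cfsg.stabilizing (Cfsg.spToMat m F) (W : Set (Fin m ⊕ Fin m → F))) ≃* Matrix.symplecticGroup (Fin k) F × Matrix.symplecticGroup (Fin (m - k)) F) := by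
  classical
  let B := (Forms.sympB m F).flip
  have hBapp : ∀ u v, B u v = sympForm m F v u := fun u v => Forms.sympB_apply v u
  have hA : ∀ v, B v v = 0 := fun v => Forms.sympB_isAlt m v
  have hsw : ∀ u v, B v u = - B u v := fun u v => by
    rw [hBapp, hBapp, ← Forms.sympB_apply, ← Forms.sympB_apply,
      LinearMap.BilinForm.IsAlt.neg_eq (Forms.sympB_isAlt m)]
  have coords : ∀ (U : Submodule F (Fin m ⊕ Fin m → F)) (d : ℕ), Module.finrank F U = 2 * d →
      (∀ u ∈ U, (∀ v ∈ U, B u v = 0) → u = 0) →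
      ∃ e : U ≃ₗ[F] (Fin d ⊕ Fin d → F), ∀ x y : U,
        sympForm m F (x : Fin m ⊕ Fin m → F) y = sympForm d F (e x) (e y) := by
    intro U d hd hU
    obtain ⟨m', k', e, he⟩ := Forms.exists_alt_coords (Forms.restrictForm B U) (fun x => hA x)
    have hk' : k' = 0 := by
      by_contra hne
      let i : Fin k' := ⟨0, Nat.pos_of_ne_zero hne⟩
      let x : U := e.symm (Pi.single (.inr i) 1)
      have hx : x = 0 := Subtype.ext (hU x x.2 fun v hv => by
        show Forms.restrictForm B U x ⟨v, hv⟩ = 0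
        rw [he, Forms.sympForm_eq_sum]
        simp [x])
      have h := congrArg (fun z => e z (.inr i)) hx
      simp [x] at h
    subst hk'
    have hdim := e.finrank_eq
    rw [hd, Module.finrank_fintype_fun_eq_card] at hdim
    simp at hdim
    obtain rfl : d = m' := by omega
    refine ⟨e.trans (LinearEquiv.funCongrLeft F F (Equiv.sumEmpty (Fin d ⊕ Fin d) (Fin 0)).symm), fun x y => ?_⟩
    have h := he y x
    rw [Forms.restrictForm_apply, hBapp] at h
    exact h
  have hW' : ∀ u ∈ W, (∀ v ∈ W, B u v = 0) → u = 0 := fun u hu h => hW u hu fun v hv => by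
    rw [← hBapp, hsw, h v hv, neg_zero]
  have hrefl : LinearMap.BilinForm.IsRefl B := fun u v h => by rw [hsw, h, neg_zero]
  let C := LinearMap.BilinForm.orthogonal B W
  have hcompl : IsCompl W C := by
    refine LinearMap.BilinForm.isCompl_orthogonal_of_restrict_nondegenerate hrefl ?_
    refine ⟨fun x hx => Subtype.ext (hW' x x.2 fun v hv => hx ⟨v, hv⟩), fun x hx => Subtype.ext (hW' x x.2
      fun v hv => hrefl _ _ (hx ⟨v, hv⟩))⟩
  have horth : ∀ w ∈ W, ∀ c ∈ C, sympForm m F w c = 0 ∧ sympForm m F c w = 0 := fun w hw c hc => by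
    have h1 : B w c = 0 := (LinearMap.BilinForm.mem_orthogonal_iff.1 hc) w hw
    exact ⟨by rw [← hBapp, hrefl _ _ h1], by rw [← hBapp, h1]⟩
  have hCdim : Module.finrank F C = 2 * (m - k) := by
    have h := Submodule.finrank_add_eq_of_isCompl hcompl
    rw [hWk, Module.finrank_fintype_fun_eq_card] at h
    simp at h
    omega
  have hC : ∀ u ∈ C, (∀ v ∈ C, B u v = 0) → u = 0 := by
    intro u hu h
    refine ((Forms.sympB_polar (F := F) m).sep_right u fun v => ?_)
    obtain ⟨w, hw, c, hc, rfl⟩ := Submodule.mem_sup.1 (hcompl.sup_eq_top ▸ Submodule.mem_top : v ∈ W ⊔ C)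
    have h' := h c hc
    rw [hBapp] at h'
    rw [map_add, LinearMap.add_apply, Forms.sympB_apply, Forms.sympB_apply, (horth w hw u hu).1, h', add_zero]
  obtain ⟨eW, heW⟩ := coords W k hWk hW'
  obtain ⟨eC, heC⟩ := coords C (m - k) hCdim hC
  let ψ := (Submodule.prodEquivOfIsCompl W C hcompl).symm.trans (eW.prodCongr eC)
  let f : (Fin k ⊕ Fin k → F) × (Fin (m - k) ⊕ Fin (m - k) → F) →
      (Fin k ⊕ Fin k → F) × (Fin (m - k) ⊕ Fin (m - k) → F) → F :=
    fun p p' => sympForm k F p.1 p'.1 + sympForm (m - k) F p.2 p'.2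
  have hψ : ∀ u v, f (ψ u) (ψ v) = sympForm m F u v := by
    intro u v
    obtain ⟨⟨w, c⟩, rfl⟩ := (Submodule.prodEquivOfIsCompl W C hcompl).surjective u
    obtain ⟨⟨w', c'⟩, rfl⟩ := (Submodule.prodEquivOfIsCompl W C hcompl).surjective v
    simp only [f, ψ, LinearEquiv.trans_apply, LinearEquiv.symm_apply_apply]
    simp only [LinearEquiv.prodCongr_apply, Submodule.coe_prodEquivOfIsCompl', ← heW, ← heC]
    rw [← Forms.sympB_apply ((w : Fin m ⊕ Fin m → F) + (c : Fin m ⊕ Fin m → F)), map_add, map_add, LinearMap.add_apply,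
      LinearMap.add_apply, Forms.sympB_apply, Forms.sympB_apply, Forms.sympB_apply, Forms.sympB_apply,
      (horth w w.2 c' c'.2).1, (horth w' w'.2 c c.2).2]
    ring
  have hψW : ∀ v, v ∈ W ↔ (ψ v).2 = 0 := by
    intro v
    show v ∈ W ↔ eC ((Submodule.prodEquivOfIsCompl W C hcompl).symm v).2 = 0
    rw [LinearEquiv.map_eq_zero_iff]
    exact (Submodule.prodEquivOfIsCompl_symm_apply_snd_eq_zero W C hcompl).symm
  have hzero : ∀ d (x : Fin d ⊕ Fin d → F), sympForm d F x 0 = 0 ∧ sympForm d F 0 x = 0 := fun d x => by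
    simp [← Forms.sympB_apply]
  obtain ⟨P⟩ := Forms.nonempty_prod_stab (f := f) (fA := sympForm k F) (fC := sympForm (m - k) F)
    (fun _ _ => rfl) (hzero k) (hzero (m - k))
    (fun a ha => (Forms.sympB_polar (F := F) k).sep a fun a' => by rw [Forms.sympB_apply]; exact ha a')
  let E := (Forms.spEquiv m F).trans (Forms.isomCongr ψ hψ)
  have hmem : ∀ A, A ∈ stabilizing (spToMat m F) (W : Set (Fin m ⊕ Fin m → F)) ↔
      (E A).1 ∈ Forms.stabFst F (Fin k ⊕ Fin k → F) (Fin (m - k) ⊕ Fin (m - k) → F) := by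
    intro A
    constructor
    · intro h p
      have hp : ∀ q, q.2 = 0 ↔ ψ.symm q ∈ W := fun q => by rw [hψW, ψ.apply_symm_apply]
      rw [hp, hp]
      show _ ↔ ψ.symm (ψ ((Forms.spEquiv m F A).1 (ψ.symm p))) ∈ W
      rw [ψ.symm_apply_apply]
      exact h _
    · intro h v
      show v ∈ W ↔ (Forms.spEquiv m F A).1 v ∈ W
      rw [hψW, hψW, h (ψ v)]
      show (ψ ((Forms.spEquiv m F A).1 (ψ.symm (ψ v)))).2 = 0 ↔ _
      rw [ψ.symm_apply_apply]
  have hmap : ((stabilizing (spToMat m F) (W : Set (Fin m ⊕ Fin m → F))).map E.toMonoidHom).map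
      (Forms.isom F f).subtype = Forms.isom F f ⊓ Forms.stabFst F _ _ := by
    ext g
    constructor
    · rintro ⟨x, ⟨A, hA, rfl⟩, rfl⟩
      exact ⟨(E A).2, (hmem A).1 hA⟩
    · rintro ⟨hg, hs⟩
      refine ⟨⟨g, hg⟩, ⟨E.symm ⟨g, hg⟩, (hmem _).2 ?_, E.apply_symm_apply _⟩, rfl⟩
      rw [E.apply_symm_apply]
      exact hs
  exact ⟨(((E.subgroupMap _).trans ((Subgroup.equivMapOfInjective _ _ (Forms.isom F f).subtype_injective))).trans
    (MulEquiv.subgroupCongr hmap)).trans (P.trans ((Forms.spEquiv k F).prodCongr (Forms.spEquiv (m - k) F)).symm)⟩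

end Cfsg.Agent.S0776
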