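import Cfsg.Statements.S0777
import Cfsg.Agent.Lib.Forms.Symp
-- import your own Cfsg.Agent.* helpers here

set_option autoImplicit false
set_option maxHeartbeats 1000000
open Cfsg

namespace Cfsg.Agent.S0777

/-- Monomial linear map. -/
private def monoMap {F ι : Type*} [Field F] (π : Equiv.Perm ι) (c : ι → Fˣ) : (ι → F) ≃ₗ[F] (ι → F) :=
  (LinearEquiv.piCongrRight fun i => LinearEquiv.smulOfUnit (c i)).trans (LinearEquiv.funCongrLeft F F π.symm)

private theorem monoMap_single {F ι : Type*} [Field F] [DecidableEq ι] (π : Equiv.Perm ι) (c : ι → Fˣ) (i : ι) :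
    monoMap π c (Pi.single i 1) = (c i : F) • Pi.single (π i) 1 := by
  funext j
  rcases eq_or_ne j (π i) with rfl | h
  · simp [monoMap, LinearMap.funLeft_apply, LinearEquiv.smulOfUnit, Units.smul_def]
  · have h' : π.symm j ≠ i := fun e => h (by rw [← e, Equiv.apply_symm_apply])
    simp [monoMap, LinearMap.funLeft_apply, h, h']

/-- Weyl group of type C_m: for q ≥ 4 the diagonal matrices of Sp_2m(q) form a torus T ≅ (C_(q−1))^m (the elements stabilising every coordinate axis), and the normaliser of T in Sp_2m(q) has order 2^m · m! · (q − 1)^m. -/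
theorem result {F : Type*} [Field F] [Fintype F] {q : ℕ} (hF : Fintype.card F = q) (hq : 4 ≤ q) (m : ℕ) : Nat.card ↥(Subgroup.normalizer (⨅ i : Fin m ⊕ Fin m, Cfsg.stabilizing (Cfsg.spToMat m F) ((Submodule.span F {(Pi.single i (1 : F) : Fin m ⊕ Fin m → F)} : Submodule F (Fin m ⊕ Fin m → F)) : Set (Fin m ⊕ Fin m → F)) : Set (Matrix.symplecticGroup (Fin m) F))) = 2 ^ m * Nat.factorial m * (q - 1) ^ m := by
  classical
  subst hF
  rw [Set.iInf_eq_iInter, ← Subgroup.coe_iInf]
  let e : Fin m ⊕ Fin m → (Fin m ⊕ Fin m → F) := fun i => Pi.single i 1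
  let sgn : Fin m ⊕ Fin m → F := Sum.elim (fun _ => -1) (fun _ => 1)
  have hsgn : ∀ i, sgn i ≠ 0 := fun i => by rcases i with i | i <;> simp [sgn]
  have hsgn2 : ∀ i, sgn i.swap = -sgn i := fun i => by rcases i with i | i <;> simp [sgn]
  have hsgnsq : ∀ i, sgn i * sgn i = 1 := fun i => by rcases i with i | i <;> simp [sgn]
  have hform : ∀ i j, sympForm m F (e i) (e j) = if j = i.swap then sgn i else 0 := by
    intro i j
    rw [Forms.sympForm_eq_sum]
    rcases i with i | i <;> rcases j with j | j <;> simp [e, sgn, Pi.single_apply, eq_comm] <;> split_ifs <;> simp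
  let E : Matrix.symplecticGroup (Fin m) F → (Fin m ⊕ Fin m → F) ≃ₗ[F] (Fin m ⊕ Fin m → F) :=
    fun A => (Forms.spEquiv m F A).1
  have hEmul : ∀ A B v, E (A * B) v = E A (E B v) := fun A B v => by simp [E, LinearEquiv.mul_apply]
  have hEinv : ∀ A v, E A⁻¹ (E A v) = v := fun A v => by
    rw [← hEmul, inv_mul_cancel]; simp [E]
  have hEinj : Function.Injective E := Subtype.val_injective.comp (Forms.spEquiv m F).injective
  set T := ⨅ i : Fin m ⊕ Fin m, Cfsg.stabilizing (Cfsg.spToMat m F)
    ((Submodule.span F {(Pi.single i (1 : F) : Fin m ⊕ Fin m → F)} : Submodule F (Fin m ⊕ Fin m → F)) :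
      Set (Fin m ⊕ Fin m → F)) with hTdef
  have hT : ∀ A, A ∈ T ↔ ∀ i, ∃ c : F, E A (e i) = c • e i := by
    intro A
    simp only [hTdef, Subgroup.mem_iInf]
    constructor
    · intro h i
      obtain ⟨c, hc⟩ := Submodule.mem_span_singleton.1 ((h i (e i)).1 (Submodule.mem_span_singleton_self _))
      exact ⟨c, hc.symm⟩
    · intro h i v
      obtain ⟨c, hc⟩ := h i
      have hc0 : c ≠ 0 := fun h0 => by
        rw [h0, zero_smul, LinearEquiv.map_eq_zero_iff] at hc
        simpa [e] using congrFun hc i
      show v ∈ Submodule.span F {e i} ↔ E A v ∈ Submodule.span F {e i}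
      simp only [Submodule.mem_span_singleton]
      refine ⟨fun ⟨k, hk⟩ => ⟨k * c, by rw [← hk, map_smul, hc, smul_smul]⟩, fun ⟨k, hk⟩ => ⟨k / c, ?_⟩⟩
      apply (E A).injective
      rw [map_smul, hc, smul_smul, div_mul_cancel₀ k hc0, hk]
  let Mon : Matrix.symplecticGroup (Fin m) F → Prop :=
    fun A => ∀ i, ∃ j, ∃ c : F, E A (e i) = c • e j
  have hsing : ∀ (i j : Fin m ⊕ Fin m) (c d : F), c • e i = d • e j → c ≠ 0 → i = j ∧ c = d := by
    intro i j c d h hc
    have h1 := congrFun h i
    by_cases hij : i = j
    · subst hij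
      exact ⟨rfl, by simpa [e] using h1⟩
    · simp [e, hij] at h1
      exact absurd h1 hc
  have hperm : ∀ A, Mon A → ∃ π : Equiv.Perm (Fin m ⊕ Fin m), ∃ c : Fin m ⊕ Fin m → Fˣ,
      ∀ i, E A (e i) = (c i : F) • e (π i) := by
    intro A hA
    choose j c hc using hA
    have hc0 : ∀ i, c i ≠ 0 := fun i h0 => by
      have := hc i
      rw [h0, zero_smul, LinearEquiv.map_eq_zero_iff] at this
      simpa [e] using congrFun this i
    have hj : Function.Injective j := fun a b hab => by
      have h : E A (c b • e a) = E A (c a • e b) := by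
        rw [map_smul, map_smul, hc, hc, hab, smul_smul, smul_smul, mul_comm]
      exact (hsing a b _ _ ((E A).injective h) (hc0 b)).1
    exact ⟨Equiv.ofBijective j hj.bijective_of_finite, fun i => Units.mk0 (c i) (hc0 i), hc⟩
  let P := {π : Equiv.Perm (Fin m ⊕ Fin m) // ∀ i, π i.swap = (π i).swap}
  let cc : P → (Fin m → Fˣ) → (Fin m ⊕ Fin m → Fˣ) := fun π d =>
    Sum.elim d (fun i => Units.mk0 (sgn (.inl i) * sgn (π.1 (.inl i)) * (↑(d i)⁻¹ : F))
      (mul_ne_zero (mul_ne_zero (hsgn _) (hsgn _)) (Units.ne_zero _)))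
  have hcc : ∀ (π : P) d i, (cc π d i : F) * cc π d i.swap * sgn (π.1 i) = sgn i := by
    intro π d i
    rcases i with i | i
    · simp only [cc, Sum.swap_inl, Sum.elim_inl, Sum.elim_inr, Units.val_mk0]
      have h1 := hsgnsq (π.1 (.inl i))
      linear_combination (sgn (.inl i) * ((d i : F) * ((d i)⁻¹ : Fˣ))) * h1 + sgn (.inl i) * (d i).mul_inv
    · simp only [cc, Sum.swap_inr, Sum.elim_inl, Sum.elim_inr, Units.val_mk0]
      have h2 : π.1 (.inr i) = (π.1 (.inl i)).swap := π.2 (.inl i)
      rw [h2, hsgn2]
      have h1 := hsgnsq (π.1 (.inl i))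
      have h3 : sgn (.inr i) = -sgn (.inl i) := hsgn2 (.inl i)
      rw [h3]
      linear_combination -(sgn (.inl i) * ((d i : F) * ((d i)⁻¹ : Fˣ))) * h1 - sgn (.inl i) * (d i).mul_inv
  have hmono : ∀ (π : P) d, monoMap π.1 (cc π d) ∈ Forms.isom F (sympForm m F) := by
    intro π d
    have hB : ((Forms.sympB m F).comp (monoMap π.1 (cc π d)).toLinearMap (monoMap π.1 (cc π d)).toLinearMap)
        = Forms.sympB m F := by
      refine LinearMap.BilinForm.ext_basis (Pi.basisFun F (Fin m ⊕ Fin m)) fun i j => ?_
      rw [Pi.basisFun_apply, Pi.basisFun_apply, LinearMap.BilinForm.comp_apply, LinearEquiv.coe_coe,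
        monoMap_single, monoMap_single, map_smul, map_smul, LinearMap.smul_apply, Forms.sympB_apply,
        Forms.sympB_apply]
      change (cc π d j : F) * ((cc π d i : F) * sympForm m F (e _) (e _)) = sympForm m F (e i) (e j)
      rw [hform, hform]
      by_cases h : j = i.swap
      · subst h
        rw [if_pos (π.2 i), if_pos rfl]
        linear_combination hcc π d i
      · rw [if_neg h, if_neg (fun h' => h (π.1.injective (h'.trans (π.2 i).symm))), mul_zero, mul_zero]
    intro u v
    rw [← Forms.sympB_apply, ← Forms.sympB_apply u v]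
    exact LinearMap.congr_fun₂ hB u v
  let g : P → (Fin m → Fˣ) → Matrix.symplecticGroup (Fin m) F :=
    fun π d => (Forms.spEquiv m F).symm ⟨monoMap π.1 (cc π d), hmono π d⟩
  have hg : ∀ π d i, E (g π d) (e i) = (cc π d i : F) • e (π.1 i) := by
    intro π d i
    simp only [E, g, MulEquiv.apply_symm_apply]
    exact monoMap_single π.1 (cc π d) i
  have hnorm : ∀ A, A ∈ Subgroup.normalizer (T : Set _) ↔ Mon A := by
    intro A
    constructor
    · intro hA i
      let v := E A (e i)
      have heig : ∀ t ∈ T, ∃ c : F, E t v = c • v := by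
        intro t ht
        have h := (Subgroup.mem_normalizer_iff.1 (inv_mem hA) t).1 ht
        rw [inv_inv] at h
        obtain ⟨c, hc⟩ := (hT _).1 h i
        refine ⟨c, ?_⟩
        have h2 := congrArg (E A) hc
        rw [map_smul, ← hEmul, show A * (A⁻¹ * t * A) = t * A by group, hEmul] at h2
        exact h2
      have hv : v ≠ 0 := fun h => by
        have := (E A).map_eq_zero_iff.1 h
        simpa [e] using congrFun this i
      obtain ⟨a, ha⟩ : ∃ a, v a ≠ 0 := by
        by_contra! h
        exact hv (funext h)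
      refine ⟨a, v a, funext fun b => ?_⟩
      show v b = (v a • e a) b
      by_cases hba : b = a
      · subst hba; simp [e]
      simp [e, hba]
      by_contra hb
      obtain ⟨c, hc1, hc2⟩ : ∃ c : Fˣ, c ≠ 1 ∧ c ≠ c⁻¹ := by
        by_contra! h
        have h' : ∀ c : Fˣ, (c : F) = 1 ∨ (c : F) = -1 := fun c => by
          by_cases hc : c = 1
          · exact Or.inl (by rw [hc]; rfl)
          · have h2 := congrArg (fun x : Fˣ => (x : F) * c) (h c hc)
            simp at h2
            exact mul_self_eq_one_iff.1 h2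
        have hsub : (Finset.univ : Finset F) ⊆ {0, 1, -1} := fun x _ => by
          by_cases hx : x = 0
          · simp [hx]
          · rcases h' (Units.mk0 x hx) with h | h <;> simp at h <;> simp [h]
        have := (Finset.card_le_card hsub).trans Finset.card_le_three
        rw [Finset.card_univ] at this
        omega
      let one : P := ⟨1, fun _ => rfl⟩
      have hcc1 : ∀ d j, (cc one d (.inr j) : F) = ((d j)⁻¹ : Fˣ) := fun d j => by
        simp [cc, one, hsgnsq]
      let idx : Fin m ⊕ Fin m → Fin m := Sum.elim id id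
      obtain ⟨d, hd⟩ : ∃ d : Fin m → Fˣ, (cc one d a : F) ≠ cc one d b := by
        by_cases hidx : idx a = idx b
        · refine ⟨fun _ => c, ?_⟩
          have hc2' : (c : F) ≠ ((c⁻¹ : Fˣ) : F) := fun h => hc2 (Units.ext h)
          rcases a with a | a <;> rcases b with b | b <;> simp [idx] at hidx <;> subst hidx
          · exact absurd rfl hba
          · rw [hcc1]; exact hc2'
          · rw [hcc1]; exact hc2'.symm
          · exact absurd rfl hba
        · refine ⟨fun j => if j = idx a then c else 1, ?_⟩
          have hc1' : (c : F) ≠ 1 := fun h => hc1 (Units.ext h)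
          have hc1'' : ((c⁻¹ : Fˣ) : F) ≠ 1 := fun h => hc1 (inv_eq_one.1 (Units.ext h))
          rcases a with a | a <;> rcases b with b | b <;> simp [idx] at hidx <;>
            first
            | simpa [idx, cc, one, hsgnsq, Ne.symm hidx] using hc1'
            | simpa [idx, cc, one, hsgnsq, Ne.symm hidx] using hc1''
      obtain ⟨k, hk⟩ := heig (g one d) ((hT _).2 fun j => ⟨_, hg one d j⟩)
      have hcoord : ∀ j, E (g one d) v j = (cc one d j : F) * v j := by
        intro j
        simp only [E, g, MulEquiv.apply_symm_apply]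
        rfl
      have e1 := congrFun hk a
      have e2 := congrFun hk b
      rw [hcoord, Pi.smul_apply, smul_eq_mul] at e1 e2
      exact hd ((mul_right_cancel₀ ha e1).trans (mul_right_cancel₀ hb e2).symm)
    · intro hA
      have key : ∀ B, Mon B → ∀ t ∈ T, B * t * B⁻¹ ∈ T := by
        intro B hB t ht
        obtain ⟨π, c, hc⟩ := hperm B hB
        rw [hT]
        intro i
        obtain ⟨j, rfl⟩ := π.surjective i
        obtain ⟨k, hk⟩ := (hT t).1 ht j
        refine ⟨k, ?_⟩
        have h1 : E B⁻¹ (e (π j)) = ((c j)⁻¹ : Fˣ).1 • e j := by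
          have h2 := hEinv B (e j)
          rw [hc, map_smul] at h2
          rw [← h2, smul_smul, Units.inv_mul, one_smul]
        rw [hEmul, hEmul, h1, map_smul, map_smul, hk, map_smul, hc, smul_smul, smul_smul]
        congr 1
        linear_combination k * (c j).inv_mul
      have hAinv : Mon A⁻¹ := by
        obtain ⟨π, c, hc⟩ := hperm A hA
        intro i
        obtain ⟨j, rfl⟩ := π.surjective i
        refine ⟨j, ((c j)⁻¹ : Fˣ), ?_⟩
        have h2 := hEinv A (e j)
        rw [hc, map_smul] at h2
        rw [← h2, smul_smul, Units.inv_mul, one_smul]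
      refine Subgroup.mem_normalizer_iff.2 fun t => ⟨key A hA t, fun h => ?_⟩
      simpa [mul_assoc] using key A⁻¹ hAinv _ h
  have hbij : Function.Bijective (fun x : P × (Fin m → Fˣ) =>
      (⟨g x.1 x.2, (hnorm _).2 fun i => ⟨_, _, hg x.1 x.2 i⟩⟩ : Subgroup.normalizer (T : Set _))) := by
    constructor
    · rintro ⟨π, d⟩ ⟨π', d'⟩ h
      have h' : ∀ i, (cc π d i : F) • e (π.1 i) = (cc π' d' i : F) • e (π'.1 i) := fun i => by
        rw [← hg, ← hg]
        exact congrArg (fun B => E B (e i)) (congrArg Subtype.val h)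
      exact Prod.ext (Subtype.ext (Equiv.ext fun i => (hsing _ _ _ _ (h' i) (Units.ne_zero _)).1))
        (funext fun i => Units.ext (hsing _ _ _ _ (h' (.inl i)) (Units.ne_zero _)).2)
    · rintro ⟨A, hA⟩
      obtain ⟨π, c, hc⟩ := hperm A ((hnorm A).1 hA)
      have hrel : ∀ i, π i.swap = (π i).swap ∧ (c i : F) * c i.swap * sgn (π i) = sgn i := by
        intro i
        have h : sympForm m F (E A (e i)) (E A (e i.swap)) = sympForm m F (e i) (e i.swap) :=
          (Forms.spEquiv m F A).2 _ _
        rw [hc, hc, ← Forms.sympB_apply, map_smul, map_smul, LinearMap.smul_apply, Forms.sympB_apply,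
          hform, hform, if_pos rfl, smul_eq_mul, smul_eq_mul] at h
        by_cases h' : π i.swap = (π i).swap
        · rw [if_pos h'] at h
          exact ⟨h', by linear_combination h⟩
        · rw [if_neg h', mul_zero, mul_zero] at h
          exact absurd h.symm (hsgn i)
      refine ⟨(⟨π, fun i => (hrel i).1⟩, fun i => c (.inl i)), Subtype.ext (hEinj ?_)⟩
      refine LinearEquiv.toLinearMap_injective ((Pi.basisFun F (Fin m ⊕ Fin m)).ext fun i => ?_)
      rw [Pi.basisFun_apply]
      show E (g _ _) (e i) = E A (e i)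
      rw [hg, hc]
      rcases i with i | i
      · rfl
      · congr 1
        simp only [cc, Sum.elim_inr, Units.val_mk0]
        have h1 := (hrel (.inl i)).2
        simp only [Sum.swap_inl] at h1
        rw [Units.val_inv_eq_inv_val]
        have hc0 := (c (.inl i)).ne_zero
        have h2 := hsgnsq (π (.inl i))
        field_simp
        linear_combination -(sgn (π (.inl i))) * h1 + (c (.inl i) : F) * c (.inr i) * h2
  have hP : Nat.card P = 2 ^ m * Nat.factorial m := by
    let idx : Fin m ⊕ Fin m → Fin m := Sum.elim id id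
    let mk : Equiv.Perm (Fin m) → (Fin m → Bool) → Fin m ⊕ Fin m → Fin m ⊕ Fin m := fun p b =>
      Sum.elim (fun i => bif b i then .inr (p i) else .inl (p i))
        (fun i => bif b i then .inl (p i) else .inr (p i))
    have hmk : ∀ p b, Function.Injective (mk p b) := by
      intro p b x y h
      rcases x with x | x <;> rcases y with y | y <;> cases hx : b x <;> cases hy : b y <;>
        simp [mk, hx, hy] at h <;> (subst h; first | rfl | (rw [hx] at hy; cases hy))
    have hmb : Function.Bijective (fun x : Equiv.Perm (Fin m) × (Fin m → Bool) =>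
        (⟨Equiv.ofBijective (mk x.1 x.2) (hmk x.1 x.2).bijective_of_finite, fun i => by
          rcases i with i | i <;> cases h : x.2 i <;> simp [mk, h]⟩ : P)) := by
      constructor
      · rintro ⟨p, b⟩ ⟨p', b'⟩ h
        have h' : ∀ i, mk p b (.inl i) = mk p' b' (.inl i) := fun i =>
          Equiv.ext_iff.1 (congrArg Subtype.val h) (.inl i)
        refine Prod.ext (Equiv.ext fun i => ?_) (funext fun i => ?_) <;>
          have := h' i <;> cases hb : b i <;> cases hb' : b' i <;> simp [mk, hb, hb'] at this ⊢ <;> exact this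
      · rintro ⟨π, hπ⟩
        have hp : Function.Injective fun i => idx (π (.inl i)) := by
          intro i j h
          by_contra hij
          have h1 : π (.inl i) ≠ π (.inl j) := fun h => hij (Sum.inl_injective (π.injective h))
          have h2 : π (.inl i) ≠ π (.inr j) := fun h => Sum.inl_ne_inr (π.injective h)
          rw [show π (.inr j) = (π (.inl j)).swap from hπ (.inl j)] at h2
          revert h h1 h2
          dsimp only
          rcases π (.inl i) with a | a <;> rcases π (.inl j) with b | b <;> simp [idx]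
        refine ⟨(Equiv.ofBijective _ hp.bijective_of_finite, fun i => (π (.inl i)).isRight),
          Subtype.ext (Equiv.ext fun x => ?_)⟩
        have hinl : ∀ i, mk (Equiv.ofBijective _ hp.bijective_of_finite) (fun i => (π (.inl i)).isRight) (.inl i)
            = π (.inl i) := fun i => by
          rcases h : π (.inl i) with a | a <;> simp [mk, idx, h]
        rcases x with i | i
        · exact hinl i
        · show mk _ _ (.inr i) = π (.inr i)
          rw [show π (.inr i) = (π (.inl i)).swap from hπ (.inl i), ← hinl i]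
          cases hb : (π (.inl i)).isRight <;> simp [mk, hb]
    rw [← Nat.card_congr (Equiv.ofBijective _ hmb), Nat.card_prod, Nat.card_perm, Nat.card_fun]
    simp [mul_comm]
  rw [← Nat.card_congr (Equiv.ofBijective _ hbij), Nat.card_prod, hP, Nat.card_fun, Nat.card_units,
    Nat.card_eq_fintype_card, Nat.card_eq_fintype_card, Fintype.card_fin]

end Cfsg.Agent.S0777
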