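import Cfsg.Statements.S0778
import Mathlib


set_option autoImplicit false
open Cfsg

namespace Cfsg.Agent.S0778

open Matrix

abbrev Levi (F : Type*) [Field F] (m : ℕ) : Subgroup (Matrix.symplecticGroup (Fin m) F) :=
  Cfsg.stabilizing (Cfsg.spToMat m F) {v : Fin m ⊕ Fin m → F | ∀ i : Fin m, v (Sum.inr i) = 0} ⊓
    Cfsg.stabilizing (Cfsg.spToMat m F) {v : Fin m ⊕ Fin m → F | ∀ i : Fin m, v (Sum.inl i) = 0}

private theorem mem_symp {F : Type*} [Field F] {m : ℕ} (X Y : Matrix (Fin m) (Fin m) F) :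
    fromBlocks X 0 0 Y ∈ Matrix.symplecticGroup (Fin m) F ↔ X * Yᵀ = 1 ∧ Y * Xᵀ = 1 := by
  rw [SymplecticGroup.mem_iff, J, fromBlocks_transpose, fromBlocks_multiply, fromBlocks_multiply, fromBlocks_inj]
  simp [and_comm]

private theorem mem_levi {F : Type*} [Field F] {m : ℕ} (A : Matrix.symplecticGroup (Fin m) F)
    (X Y : Matrix (Fin m) (Fin m) F) (hA : (A : Matrix (Fin m ⊕ Fin m) (Fin m ⊕ Fin m) F) = fromBlocks X 0 0 Y)
    (hX : IsUnit X) (hY : IsUnit Y) : A ∈ Levi F m := by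
  constructor <;> intro v <;>
    simp only [Set.mem_ofPred_eq, MonoidHom.coe_coe, Submonoid.coe_subtype, hA, fromBlocks_mulVec,
      Sum.elim_inl, Sum.elim_inr, zero_mulVec, add_zero, zero_add]
  · have : (∀ i, (Y *ᵥ (v ∘ Sum.inr)) i = 0) ↔ Y *ᵥ (v ∘ Sum.inr) = 0 := (funext_iff).symm
    rw [this]
    constructor
    · intro h; rw [show v ∘ Sum.inr = 0 from funext h, mulVec_zero]
    · intro h i
      have := (mulVec_injective_iff_isUnit.2 hY) (h.trans (mulVec_zero Y).symm)
      exact congrFun this i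
  · have : (∀ i, (X *ᵥ (v ∘ Sum.inl)) i = 0) ↔ X *ᵥ (v ∘ Sum.inl) = 0 := (funext_iff).symm
    rw [this]
    constructor
    · intro h; rw [show v ∘ Sum.inl = 0 from funext h, mulVec_zero]
    · intro h i
      have := (mulVec_injective_iff_isUnit.2 hX) (h.trans (mulVec_zero X).symm)
      exact congrFun this i

private noncomputable def toLevi {F : Type*} [Field F] (m : ℕ) : Matrix.GeneralLinearGroup (Fin m) F →* Levi F m where
  toFun g := ⟨⟨fromBlocks (g : Matrix (Fin m) (Fin m) F) 0 0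
      ((((g⁻¹ : Matrix.GeneralLinearGroup (Fin m) F) : Matrix (Fin m) (Fin m) F))ᵀ),
    (mem_symp _ _).2 ⟨by rw [transpose_transpose, ← Units.val_mul, mul_inv_cancel, Units.val_one],
      by rw [← transpose_mul, ← Units.val_mul, mul_inv_cancel, Units.val_one, transpose_one]⟩⟩,
    mem_levi _ _ _ rfl g.isUnit ((isUnit_transpose _).2 (g⁻¹).isUnit)⟩
  map_one' := Subtype.ext (Subtype.ext (by simp [fromBlocks_one]))
  map_mul' g h := by
    apply Subtype.ext; apply Subtype.ext
    simp [fromBlocks_multiply, transpose_mul]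

private theorem toLevi_bijective {F : Type*} [Field F] (m : ℕ) : Function.Bijective (toLevi (F := F) m) := by
  constructor
  · intro g h e
    have := congrArg (fun A : Levi F m => ((A.1 : Matrix.symplecticGroup (Fin m) F) : Matrix (Fin m ⊕ Fin m) (Fin m ⊕ Fin m) F).toBlocks₁₁) e
    exact Units.ext (by simpa [toLevi] using this)
  · rintro ⟨⟨A, hA⟩, hA1, hA2⟩
    have h21 : A.toBlocks₂₁ = 0 := by
      ext i j
      have := (hA1 (Pi.single (Sum.inl j) 1)).1 (fun l => by simp) i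
      simpa [toBlocks₂₁] using this
    have h12 : A.toBlocks₁₂ = 0 := by
      ext i j
      have := (hA2 (Pi.single (Sum.inr j) 1)).1 (fun l => by simp) i
      simpa [toBlocks₁₂] using this
    have hblock : A = fromBlocks A.toBlocks₁₁ 0 0 A.toBlocks₂₂ := by
      conv_lhs => rw [← fromBlocks_toBlocks A, h12, h21]
    have hh := (mem_symp _ _).1 (hblock ▸ hA)
    have hu : IsUnit A.toBlocks₁₁ := IsUnit.of_mul_eq_one _ hh.1
    refine ⟨hu.unit, Subtype.ext (Subtype.ext ?_)⟩
    show fromBlocks _ 0 0 _ = A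
    conv_rhs => rw [hblock]
    congr 1
    have : ((hu.unit⁻¹ : (Matrix (Fin m) (Fin m) F)ˣ) : Matrix (Fin m) (Fin m) F) = A.toBlocks₂₂ᵀ := by
      rw [← Units.mul_right_inj hu.unit, ← Units.val_mul, mul_inv_cancel, Units.val_one, IsUnit.unit_spec, hh.1]
    rw [this, transpose_transpose]

/-- The elements of Sp_2m(F) stabilising both W = ⟨e_1..e_m⟩ and U = ⟨f_1..f_m⟩ form a subgroup isomorphic to GL_m(F) (block-diagonal matrices diag(X, X^(−ᵀ)) up to the sign convention of J), for m ≥ 1 or m = 0 alike. -/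
theorem result {F : Type*} [Field F] (m : ℕ) : Nonempty (↥(Cfsg.stabilizing (Cfsg.spToMat m F) {v : Fin m ⊕ Fin m → F | ∀ i : Fin m, v (Sum.inr i) = 0} ⊓ Cfsg.stabilizing (Cfsg.spToMat m F) {v : Fin m ⊕ Fin m → F | ∀ i : Fin m, v (Sum.inl i) = 0}) ≃* Matrix.GeneralLinearGroup (Fin m) F) := by
  exact ⟨(MulEquiv.ofBijective (toLevi m) (toLevi_bijective m)).symm⟩

end Cfsg.Agent.S0778
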