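import Cfsg.Statements.S0781
import Cfsg.Agent.Lib.ClassicalSimple.UnitaryMatrix
-- import your own Cfsg.Agent.* helpers here

set_option autoImplicit false
open Cfsg

namespace Cfsg.Agent.S0781

/-- In SU_n(q) with n ≥ 4, or n = 3 and q > 2, every element whose matrix is a unitary transvection x ↦ x + c h(x, v) v (v isotropic) is a commutator ⁅B, C⁆ of two elements of SU_n(q). -/
theorem result {F : Type*} [Field F] [Fintype F] {q : ℕ} (hF : Fintype.card F = q ^ 2) (n : ℕ) (hn : 4 ≤ n ∨ (n = 3 ∧ 3 ≤ q)) (A : ↥(Cfsg.SU n F q)) (v : Fin n → F) (c : F) (hv0 : Cfsg.hermForm n F q v v = 0) (hA : ((A : Matrix.SpecialLinearGroup (Fin n) F) : Matrix (Fin n) (Fin n) F) = Cfsg.unitaryTransvection n q v c) : A ∈ commutatorSet ↥(Cfsg.SU n F q) := by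
  have hh := ClassicalSimple.hermB_isUnitary hF (n := n)
  have h3 : 3 ≤ Module.finrank F (Fin n → F) := by
    rcases hn with h | ⟨h, -⟩ <;> simp <;> omega
  by_cases hv : v = 0
  · refine ⟨1, 1, ?_⟩
    rw [commutatorElement_one_left]
    refine Subtype.ext (Subtype.ext ?_)
    rw [hA, hv, Cfsg.unitaryTransvection]
    simp
  have hc := (ClassicalSimple.unitaryTransvection_isometry_iff hF hv (v := v) hv0 c).1 fun x y => by
    rw [← hA]
    exact (ClassicalSimple.mem_SU_iff hF A.1).1 A.2 x y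
  have hc' : c + Forms.qEnd hF c + Forms.hermB hF n (0 : Fin n → F) 0 = 0 := by
    simpa [Forms.qEnd_apply] using hc
  obtain ⟨g, hg, k, hk, e⟩ := ClassicalSimple.transvection_eq_commutator hh h3 hv0 hc'
  rw [← ClassicalSimple.SUH_eq_uRootGroup hh h3] at hg hk
  refine ⟨(ClassicalSimple.suEquiv hF).symm ⟨g, hg⟩, (ClassicalSimple.suEquiv hF).symm ⟨k, hk⟩, ?_⟩
  rw [← map_commutatorElement]
  refine (MulEquiv.symm_apply_eq _).2 (Subtype.ext ?_)
  rw [ClassicalSimple.suEquiv_eq_transvection hF hh A hv0 hA hc', ← e]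
  rfl

end Cfsg.Agent.S0781
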