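import Cfsg.Statements.S0783
import Mathlib

set_option autoImplicit false
open Cfsg

namespace Cfsg.Agent.S0783

open Matrix

private theorem frob_exists {F : Type*} [Field F] [Fintype F] {q : ℕ} (hF : Fintype.card F = q ^ 2) :
    ∃ f : F →+* F, ∀ x, f x = x ^ q := by
  obtain ⟨p, hp⟩ := CharP.exists F
  obtain ⟨r, hpr, hr⟩ := FiniteField.card F p
  have := Fact.mk hpr
  have hdvd : q ∣ p ^ (r : ℕ) := by rw [← hr, hF, pow_two]; exact Dvd.intro q rfl
  obtain ⟨a, -, ha⟩ := (Nat.dvd_prime_pow hpr).1 hdvd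
  exact ⟨iterateFrobenius F p a, fun x => by rw [iterateFrobenius_def, ha]⟩

private theorem det_pow {F : Type*} [Field F] [Fintype F] {q n : ℕ} (hF : Fintype.card F = q ^ 2)
    (g : ↥(Cfsg.GU n F q)) :
    (Matrix.GeneralLinearGroup.det (g : Matrix.GeneralLinearGroup (Fin n) F)) ^ (q + 1) = 1 := by
  obtain ⟨f, hf⟩ := frob_exists hF
  obtain ⟨⟨A, B, hAB, hBA⟩, hg⟩ := g
  have hh : ∀ u v, Cfsg.hermForm n F q (A *ᵥ u) (A *ᵥ v) = Cfsg.hermForm n F q u v := hg
  have hq0 : q ≠ 0 := by rintro rfl; simp at hF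
  have h1 : Aᵀ * A.map f = 1 := by
    ext i j
    have := hh (Pi.single i 1) (Pi.single j 1)
    simp only [Cfsg.hermForm, mulVec_single_one, col_apply] at this
    rw [Matrix.mul_apply]
    simp only [transpose_apply, Matrix.map_apply, hf]
    rw [this]
    simp [Pi.single_apply, zero_pow hq0, Matrix.one_apply, ite_pow, eq_comm]
  have h2 := congrArg Matrix.det h1
  rw [det_mul, det_transpose, det_one,
    show (A.map f).det = f A.det from (RingHom.map_det f A).symm, hf, ← pow_succ'] at h2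
  exact Units.ext h2

private noncomputable def diagGU {F : Type*} [Field F] {n q : ℕ} (d : Fin n → Fˣ) (hd : ∀ i, d i ^ (q + 1) = 1) :
    ↥(Cfsg.GU n F q) :=
  ⟨⟨diagonal fun i => (d i : F), diagonal fun i => ((d i)⁻¹ : Fˣ), by simp [← diagonal_one], by simp [← diagonal_one]⟩, by
    intro u v
    refine Finset.sum_congr rfl fun i _ => ?_
    simp only [Units.coeHom_apply, mulVec_diagonal]
    have h : (d i : F) * (d i : F) ^ q = 1 := by
      rw [← pow_succ', ← Units.val_pow_eq_pow_val, hd, Units.val_one]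
    rw [mul_pow]; linear_combination (u i * v i ^ q) * h⟩

private noncomputable def swapGU {F : Type*} [Field F] {n q : ℕ} (σ : Equiv.Perm (Fin n)) : ↥(Cfsg.GU n F q) :=
  ⟨⟨σ.permMatrix F, σ⁻¹.permMatrix F, by simp [← permMatrix_mul], by simp [← permMatrix_mul]⟩, by
    intro u v
    simp only [Units.coeHom_apply, permMatrix_mulVec]
    exact Equiv.sum_comp σ (fun i => u i * v i ^ q)⟩

private theorem center_eq_scalar {F : Type*} [Field F] {n q : ℕ} [NeZero n] (ζ : Fˣ) (hζ : ζ ^ (q + 1) = 1)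
    (hζ1 : ζ ≠ 1) (z : ↥(Cfsg.GU n F q)) (hz : z ∈ Subgroup.center ↥(Cfsg.GU n F q)) :
    ∃ c : F, (((z : Matrix.GeneralLinearGroup (Fin n) F) : Matrix (Fin n) (Fin n) F)) = diagonal fun _ => c := by
  classical
  obtain ⟨⟨A, B, hAB, hBA⟩, hzz⟩ := z
  rw [Subgroup.mem_center_iff] at hz
  refine ⟨A 0 0, ?_⟩
  have hoff : ∀ i j, j ≠ i → A j i = 0 := by
    intro i j hji
    let w := diagGU (q := q) (fun k => if k = i then ζ else 1) (fun k => by split_ifs <;> simp [hζ])
    have h := congrArg (fun x : ↥(Cfsg.GU n F q) => ((x : Matrix.GeneralLinearGroup (Fin n) F) : Matrix (Fin n) (Fin n) F) j i) (hz w)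
    simp [w, diagGU, hji] at h
    have : A j i * ((ζ : F) - 1) = 0 := by linear_combination -h
    exact (mul_eq_zero.1 this).resolve_right (sub_ne_zero.2 fun e => hζ1 (Units.ext e))
  have hdiag : ∀ i, A i i = A 0 0 := by
    intro i
    have h := congrArg (fun x : ↥(Cfsg.GU n F q) => ((x : Matrix.GeneralLinearGroup (Fin n) F) : Matrix (Fin n) (Fin n) F) 0 i) (hz (swapGU (Equiv.swap 0 i)))
    simp [swapGU, Matrix.mul_apply, Equiv.Perm.permMatrix, PEquiv.toMatrix_apply] at h
    rw [Finset.sum_eq_single (0 : Fin n)] at h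
    · simpa using h
    · intro b _ hb
      rw [if_neg]
      intro e
      exact hb ((Equiv.swap (0 : Fin n) i).injective (e.trans (Equiv.swap_apply_left _ _).symm))
    · simp
  ext i j
  rcases eq_or_ne i j with rfl | hij
  · rw [diagonal_apply_eq]; exact hdiag i
  · rw [diagonal_apply_ne _ hij]; exact hoff j i hij

/-- PGU_n(q)/PSU_n(q) is cyclic of order (n, q+1): for n ≥ 2 and |F| = q² there is a surjective homomorphism from GU_n(q) onto the cyclic group of order gcd(n, q + 1) whose kernel is generated by the determinant-one elements together with the centre. -/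
theorem result {F : Type*} [Field F] [Fintype F] {q : ℕ} (hF : Fintype.card F = q ^ 2) (n : ℕ) (hn : 2 ≤ n) : ∃ φ : ↥(Cfsg.GU n F q) →* Multiplicative (ZMod (Nat.gcd n (q + 1))), Function.Surjective φ ∧ φ.ker = (Matrix.GeneralLinearGroup.det : Matrix.GeneralLinearGroup (Fin n) F →* Fˣ).ker.subgroupOf (Cfsg.GU n F q) ⊔ Subgroup.center ↥(Cfsg.GU n F q) := by
  classical
  have : NeZero n := ⟨by omega⟩
  have hq : 1 < q := by
    have := hF ▸ Fintype.one_lt_card (α := F)
    nlinarith
  let K : Subgroup Fˣ := (powMonoidHom (q + 1) : Fˣ →* Fˣ).ker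
  have hK : Nat.card K = q + 1 := by
    rw [IsCyclic.card_powMonoidHom_ker, Nat.card_units, Nat.card_eq_fintype_card, hF,
      show q ^ 2 - 1 = (q + 1) * (q - 1) by rw [← Nat.sq_sub_sq, one_pow], Nat.gcd_mul_right_left]
  let N : Subgroup K := (powMonoidHom n).range
  have : IsCyclic (K ⧸ N) := isCyclic_of_surjective (QuotientGroup.mk' N) (QuotientGroup.mk'_surjective N)
  have hd : Nat.card (K ⧸ N) = Nat.card (Multiplicative (ZMod (Nat.gcd n (q + 1)))) := by
    rw [← Subgroup.index_eq_card, IsCyclic.index_powMonoidHom_range, hK, Nat.gcd_comm]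
    simp [Multiplicative]
  let e := mulEquivOfCyclicCardEq hd
  let δ : ↥(Cfsg.GU n F q) →* K :=
    (Matrix.GeneralLinearGroup.det.comp (Cfsg.GU n F q).subtype).codRestrict K fun g => det_pow hF g
  obtain ⟨ζ, hζ1⟩ : ∃ ζ : K, ζ ≠ 1 := by
    have : Nontrivial K := Finite.one_lt_card_iff_nontrivial.1 (by rw [hK]; omega)
    exact exists_ne 1
  have hδ : Function.Surjective δ := by
    intro t
    refine ⟨diagGU (fun k => if k = 0 then (t : Fˣ) else 1) (fun k => by
      split_ifs
      · exact t.2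
      · simp), ?_⟩
    apply Subtype.ext; apply Units.ext
    show (diagonal fun k => (((if k = (0 : Fin n) then (t : Fˣ) else 1) : Fˣ) : F)).det = _
    rw [det_diagonal, Finset.prod_eq_single (0 : Fin n)]
    · simp
    · intro b _ hb; simp [hb]
    · simp
  refine ⟨e.toMonoidHom.comp ((QuotientGroup.mk' N).comp δ),
    e.surjective.comp ((QuotientGroup.mk'_surjective N).comp hδ), ?_⟩
  have hker : ∀ g, g ∈ (e.toMonoidHom.comp ((QuotientGroup.mk' N).comp δ)).ker ↔ δ g ∈ N := by
    intro g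
    rw [MonoidHom.mem_ker, MonoidHom.comp_apply, MulEquiv.coe_toMonoidHom, MulEquiv.map_eq_one_iff,
      MonoidHom.comp_apply, QuotientGroup.mk'_apply, QuotientGroup.eq_one_iff]
  have hscalar : ∀ t : K, δ (diagGU (fun _ => (t : Fˣ)) fun _ => t.2) = t ^ n := by
    intro t
    apply Subtype.ext; apply Units.ext
    show (diagonal fun _ : Fin n => ((t : Fˣ) : F)).det = _
    simp
  apply le_antisymm
  · intro g hg
    obtain ⟨t, ht⟩ := (hker g).1 hg
    let c : ↥(Cfsg.GU n F q) := diagGU (fun _ => (t : Fˣ)) fun _ => t.2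
    have hc : c ∈ Subgroup.center ↥(Cfsg.GU n F q) := Subgroup.mem_center_iff.2 fun x => by
      apply Subtype.ext; apply Units.ext
      ext i j
      show (_ * diagonal _ : Matrix (Fin n) (Fin n) F) i j = (diagonal _ * _ : Matrix (Fin n) (Fin n) F) i j
      rw [mul_diagonal, diagonal_mul]; ring
    rw [show g = (g * c⁻¹) * c by group]
    refine Subgroup.mul_mem_sup ?_ hc
    rw [Subgroup.mem_subgroupOf, MonoidHom.mem_ker]
    have : δ (g * c⁻¹) = 1 := by
      rw [map_mul, map_inv, mul_inv_eq_one]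
      exact ht.symm.trans (hscalar t).symm
    exact congrArg Subtype.val this
  · refine sup_le (fun g hg => (hker g).2 ?_) (fun g hg => (hker g).2 ?_)
    · rw [show δ g = 1 from Subtype.ext (MonoidHom.mem_ker.1 (Subgroup.mem_subgroupOf.1 hg))]
      exact one_mem N
    · obtain ⟨c, hc⟩ := center_eq_scalar (ζ : Fˣ) ζ.2 (fun e => hζ1 (Subtype.ext e)) g hg
      have hh : Cfsg.hermForm n F q (((g : Matrix.GeneralLinearGroup (Fin n) F) : Matrix (Fin n) (Fin n) F) *ᵥ Pi.single 0 1)
          (((g : Matrix.GeneralLinearGroup (Fin n) F) : Matrix (Fin n) (Fin n) F) *ᵥ Pi.single 0 1) =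
          Cfsg.hermForm n F q (Pi.single 0 1) (Pi.single 0 1) := g.2 _ _
      rw [hc] at hh
      have hq0 : q ≠ 0 := by omega
      simp [Cfsg.hermForm, mulVec_diagonal, Pi.single_apply, ite_pow, zero_pow hq0] at hh
      have hc0 : c ≠ 0 := fun e => by simp [e] at hh
      refine ⟨⟨Units.mk0 c hc0, ?_⟩, ?_⟩
      · rw [MonoidHom.mem_ker]; exact Units.ext (by simpa [pow_succ'] using hh)
      · apply Subtype.ext; apply Units.ext
        show c ^ n = (((g : Matrix.GeneralLinearGroup (Fin n) F) : Matrix (Fin n) (Fin n) F)).det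
        rw [hc, det_diagonal]; simp

end Cfsg.Agent.S0783
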