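import Cfsg.Statements.S0787
import Cfsg.Agent.S0788
import Cfsg.Agent.S0789

set_option autoImplicit false
open Cfsg

namespace Cfsg.Agent.S0787

/-- Two subgroups, one inside the other, of the same finite index are equal. -/
theorem eq_of_le_of_index_eq {G : Type*} [Group G] {A B : Subgroup G} (hle : A ≤ B) (hA : A.index ≠ 0)
    (h : A.index = B.index) : A = B := by
  refine le_antisymm hle ?_
  have h1 := Subgroup.relIndex_mul_index hle
  rw [h] at h1 hA
  exact Subgroup.relIndex_eq_one.1 ((Nat.mul_eq_right hA).1 h1)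

/-- Existence and uniqueness of Ω: if F is finite, n ≥ 2, Q is a quadratic form on F^n with non-degenerate polar form and (|F|, n) ≠ (2, 4), then the group of isometries of determinant one has a unique subgroup of index 2. -/
theorem result {F : Type*} [Field F] [Fintype F] {n : ℕ} (hn : 2 ≤ n) (Q : QuadraticForm F (Fin n → F)) (hQ : (QuadraticMap.polarBilin Q).Nondegenerate) (h : Fintype.card F ≠ 2 ∨ n ≠ 4) : ∃! H : Subgroup ↥(Cfsg.specialIsometryGroup F ⇑Q), H.index = 2 := by
  classical
  set O := ↥(Cfsg.isometryGroup F ⇑Q)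
  set SO := Cfsg.specialIsometryGroup F ⇑Q with hSO
  have hh : Fintype.card F ≠ 2 ∨ Fintype.card (Fin n) ≠ 4 := by simpa using h
  have hbil := ClassicalSimple.bil_nondegenerate Q hQ
  let dt : O →* Fˣ := Matrix.GeneralLinearGroup.det.comp (Cfsg.isometryGroup F ⇑Q).subtype
  have hSOker : SO = dt.ker := rfl
  have hsub : Cfsg.Omega F ⇑Q ≤ SO := fun g hg => QForm.omega_le_ker Q dt hg
  -- the index of `SO`
  have hidx : (Cfsg.Omega F ⇑Q).index = 2 * SO.index ∧ SO.index ≠ 0 := by
    by_cases h2 : (2 : F) = 0
    · have : CharP F 2 := CharTwo.of_one_ne_zero_of_two_eq_zero one_ne_zero h2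
      have htop : SO = ⊤ := by
        refine eq_top_iff.2 fun g _ => Units.ext ?_
        rcases ClassicalSimple.isometry_det Q hbil g with hd | hd
        · exact hd
        · exact hd.trans (CharTwo.neg_eq 1)
      rw [htop, Subgroup.index_top, S0789.result hn Q hQ h]
      exact ⟨rfl, one_ne_zero⟩
    · have hSO2 : SO.index = 2 := by
        obtain ⟨v, hv⟩ := QForm.exists_ne_zero hQ (by simp; omega)
        rw [Subgroup.index_eq_two_iff]
        refine ⟨QForm.refl Q v hv, fun b => ?_⟩
        have hne : (-1 : Fˣ) ≠ 1 := fun hc => h2 (by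
          have := congrArg Units.val hc
          simp only [Units.val_neg, Units.val_one] at this
          linear_combination -this)
        have hr : dt (QForm.refl Q v hv) = -1 := Units.ext (QForm.det_reflectionMatrix Q hv)
        rw [hSOker, MonoidHom.mem_ker, MonoidHom.mem_ker, map_mul, hr]
        rcases ClassicalSimple.isometry_det Q hbil b with hd | hd
        · have : dt b = 1 := Units.ext hd
          rw [this, one_mul]
          exact Or.inr ⟨rfl, hne⟩
        · have : dt b = -1 := Units.ext hd
          rw [this, neg_one_mul, neg_neg]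
          exact Or.inl ⟨rfl, hne⟩
      rw [hSO2, S0788.result h2 hn Q hQ]
      exact ⟨rfl, two_ne_zero⟩
  refine ⟨(Cfsg.Omega F ⇑Q).subgroupOf SO, ?_, ?_⟩
  · have h1 := Subgroup.relIndex_mul_index hsub
    rw [hidx.1] at h1
    exact Nat.eq_of_mul_eq_mul_right (Nat.pos_of_ne_zero hidx.2) h1
  · intro H hH
    set K := H.map SO.subtype with hK
    have hsq : ∀ x ∈ SO, x * x ∈ K := fun x hx =>
      ⟨⟨x, hx⟩ * ⟨x, hx⟩, Subgroup.mul_self_mem_of_index_two hH ⟨x, hx⟩, rfl⟩
    set N := Subgroup.closure {y : O | ∃ x ∈ SO, x * x = y} with hN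
    have hNK : N ≤ K := (Subgroup.closure_le _).2 (by rintro _ ⟨x, hx, rfl⟩; exact hsq x hx)
    have hnormal : N.Normal := ⟨fun y hy g => by
      have hle : N.map (MulAut.conj g).toMonoidHom ≤ N := by
        rw [hN, MonoidHom.map_closure, Subgroup.closure_le]
        rintro _ ⟨_, ⟨x, hx, rfl⟩, rfl⟩
        refine Subgroup.subset_closure ⟨g * x * g⁻¹, ?_, ?_⟩
        · rw [hSOker, MonoidHom.mem_ker] at hx ⊢
          rw [map_mul, map_mul, hx, mul_one, map_inv, mul_inv_cancel]
        · simp [mul_assoc]
      exact hle ⟨y, hy, rfl⟩⟩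
    let π := QuotientGroup.mk' N
    have hrr : ∀ u hu v hv, π (QForm.refl Q u hu) * π (QForm.refl Q v hv) =
        π (QForm.refl Q v hv) * π (QForm.refl Q u hu) := by
      intro u hu v hv
      have hmem : QForm.refl Q u hu * QForm.refl Q v hv ∈ SO := by
        rw [hSOker, MonoidHom.mem_ker, map_mul]
        refine Units.ext ?_
        show (Cfsg.reflectionMatrix ⇑Q u).det * (Cfsg.reflectionMatrix ⇑Q v).det = 1
        rw [QForm.det_reflectionMatrix Q hu, QForm.det_reflectionMatrix Q hv, neg_mul_neg, one_mul]
      have h1 : π (QForm.refl Q u hu * QForm.refl Q v hv) * π (QForm.refl Q u hu * QForm.refl Q v hv) = 1 := by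
        rw [← map_mul]
        exact (QuotientGroup.eq_one_iff _).2 (Subgroup.subset_closure ⟨_, hmem, rfl⟩)
      have hu1 : π (QForm.refl Q u hu) * π (QForm.refl Q u hu) = 1 := by
        rw [← map_mul, QForm.refl_mul_self, map_one]
      have hv1 : π (QForm.refl Q v hv) * π (QForm.refl Q v hv) = 1 := by
        rw [← map_mul, QForm.refl_mul_self, map_one]
      rw [map_mul] at h1
      rw [eq_inv_of_mul_eq_one_left h1, mul_inv_rev, ← eq_inv_of_mul_eq_one_left hu1,
        ← eq_inv_of_mul_eq_one_left hv1]
    have hlist : ∀ (z : O ⧸ N), (∀ u hu, Commute z (π (QForm.refl Q u hu))) → ∀ g : O, Commute z (π g) := by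
      intro z hz g
      obtain ⟨vs, hvs, hg⟩ := QForm.exists_list hQ hh g
      induction vs generalizing g with
      | nil =>
        obtain rfl : g = 1 := Subtype.ext (Units.ext hg)
        rw [map_one]; exact Commute.one_right z
      | cons v vs ih =>
        obtain ⟨g', hg'⟩ := QForm.exists_prod_refl Q vs fun w hw => hvs w (List.mem_cons_of_mem _ hw)
        obtain rfl : g = QForm.refl Q v (hvs v List.mem_cons_self) * g' := Subtype.ext (Units.ext (by
          rw [hg, List.map_cons, List.prod_cons, ← hg']; rfl))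
        rw [map_mul]
        exact (hz v _).mul_right (ih g' (fun w hw => hvs w (List.mem_cons_of_mem _ hw)) hg')
    have hcomm : ∀ a b : O, Commute (π a) (π b) := fun a b =>
      hlist (π a) (fun u hu => (hlist (π (QForm.refl Q u hu)) (fun v hv => hrr u hu v hv) a).symm) b
    have hle : Cfsg.Omega F ⇑Q ≤ K := by
      refine le_trans ?_ hNK
      rw [Cfsg.Omega, commutator_def, Subgroup.commutator_le]
      intro a _ b _
      rw [← QuotientGroup.eq_one_iff, ← QuotientGroup.mk'_apply, map_commutatorElement]
      exact commutatorElement_eq_one_iff_commute.2 (hcomm a b)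
    have hKidx : K.index = 2 * SO.index := by rw [hK, Subgroup.index_map_subtype, hH]
    have heq : Cfsg.Omega F ⇑Q = K := eq_of_le_of_index_eq hle
      (by rw [hidx.1]; exact mul_ne_zero two_ne_zero hidx.2) (hidx.1.trans hKidx.symm)
    rw [heq, hK]
    exact (Subgroup.comap_map_eq_self_of_injective (Subgroup.subtype_injective SO) H).symm

end Cfsg.Agent.S0787
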