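import Cfsg.Statements.S0792
import Cfsg.Agent.Lib.ClassicalSimple.OrthRefl
-- import your own Cfsg.Agent.* helpers here

set_option autoImplicit false
open Cfsg

namespace Cfsg.Agent.S0792

/-- For q odd and Q with non-degenerate polar form on F^n, the determinant-one isometries form the subgroup generated by all products r_u r_v of two reflections (Q(u), Q(v) ≠ 0). -/
theorem result {F : Type*} [Field F] [Fintype F] (h2 : (2 : F) ≠ 0) {n : ℕ} (Q : QuadraticForm F (Fin n → F)) (hQ : (QuadraticMap.polarBilin Q).Nondegenerate) : Cfsg.specialIsometryGroup F ⇑Q = Subgroup.closure {g : ↥(Cfsg.isometryGroup F ⇑Q) | ∃ u v : Fin n → F, Q u ≠ 0 ∧ Q v ≠ 0 ∧ ((g : Matrix.GeneralLinearGroup (Fin n) F) : Matrix (Fin n) (Fin n) F) = Cfsg.reflectionMatrix ⇑Q u * Cfsg.reflectionMatrix ⇑Q v} := by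
  set P : Subgroup ↥(Cfsg.isometryGroup F ⇑Q) := Subgroup.closure {g | ∃ u v : Fin n → F,
    Q u ≠ 0 ∧ Q v ≠ 0 ∧ ((g : Matrix.GeneralLinearGroup (Fin n) F) : Matrix (Fin n) (Fin n) F) =
      Cfsg.reflectionMatrix ⇑Q u * Cfsg.reflectionMatrix ⇑Q v}
  let d : ↥(Cfsg.isometryGroup F ⇑Q) → F := fun g =>
    ((g : Matrix.GeneralLinearGroup (Fin n) F) : Matrix (Fin n) (Fin n) F).det
  have hd : ∀ g, g ∈ Cfsg.specialIsometryGroup F ⇑Q ↔ d g = 1 := fun g => by
    simp [Cfsg.specialIsometryGroup, Units.ext_iff, d]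
  have hdm : ∀ g k, d (g * k) = d g * d k := fun g k => Matrix.det_mul _ _
  have hP : P ≤ Cfsg.specialIsometryGroup F ⇑Q := by
    rw [Subgroup.closure_le]
    rintro g ⟨u, v, hu, hv, e⟩
    simp [hd, d, e, Matrix.det_mul, ClassicalSimple.det_reflectionMatrix _ hu,
      ClassicalSimple.det_reflectionMatrix _ hv]
  refine le_antisymm ?_ hP
  have hpair : ∀ a ∈ ClassicalSimple.reflectionSet Q, ∀ b ∈ ClassicalSimple.reflectionSet Q,
      a * b ∈ P := by
    rintro a ⟨u, hu, ea⟩ b ⟨v, hv, eb⟩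
    exact Subgroup.subset_closure ⟨u, v, hu, hv, by rw [← ea, ← eb]; rfl⟩
  have hgen := ClassicalSimple.closure_reflectionSet_eq_top Q hQ (Or.inl ⟨-1, by simp,
    fun e => h2 (by linear_combination -e)⟩)
  intro g hg
  have hinv : ∀ b ∈ ClassicalSimple.reflectionSet Q, b⁻¹ ∈ ClassicalSimple.reflectionSet Q := by
    rintro b ⟨v, hv, eb⟩
    have hb : b * b = 1 := by
      apply (ClassicalSimple.isometryEquiv Q).injective
      rw [map_mul, map_one, (ClassicalSimple.isometryEquiv_eq_iff Q b _ _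
        (ClassicalSimple.reflectionMatrix_mulVec Q hv)).2 eb]
      refine ClassicalSimple.OQ.ext' fun x => ?_
      simp only [mul_smul, one_smul, ClassicalSimple.orefl_smul, map_sub, map_smul,
        LinearMap.sub_apply, LinearMap.smul_apply, smul_eq_mul, ClassicalSimple.bil_self]
      match_scalars <;> field_simp <;> ring
    exact ⟨v, hv, by rw [inv_eq_of_mul_eq_one_right hb, eb]⟩
  suffices key : g ∈ P ∨ ∃ r ∈ ClassicalSimple.reflectionSet Q, r * g ∈ P by
    rcases key with hk | ⟨r, ⟨u, hu, er⟩, hk⟩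
    · exact hk
    · exfalso
      have h1 := (hd _).1 (hP hk)
      rw [hdm, (hd g).1 hg, mul_one] at h1
      simp only [d, er, ClassicalSimple.det_reflectionMatrix _ hu] at h1
      exact h2 (by linear_combination -h1)
  have hmem : g ∈ Subgroup.closure (ClassicalSimple.reflectionSet Q) :=
    hgen.symm ▸ Subgroup.mem_top g
  clear hg
  induction hmem using Subgroup.closure_induction_left with
  | one => exact Or.inl (one_mem _)
  | mul_left r hr y _ ih =>
    rcases ih with hy | ⟨s, hs, hy⟩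
    · exact Or.inr ⟨r⁻¹, hinv r hr, by rwa [inv_mul_cancel_left]⟩
    · exact Or.inl (by simpa [mul_assoc] using mul_mem (hpair r hr s⁻¹ (hinv s hs)) hy)
  | inv_mul_cancel r hr y _ ih =>
    rcases ih with hy | ⟨s, hs, hy⟩
    · exact Or.inr ⟨r, hr, by rwa [mul_inv_cancel_left]⟩
    · exact Or.inl (by simpa [mul_assoc] using mul_mem (hpair r⁻¹ (hinv r hr) s⁻¹ (hinv s hs)) hy)

end Cfsg.Agent.S0792
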