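import Cfsg.Statements.S0794
import Cfsg.Agent.Lib.ClassicalSimple.OrthMatrix
-- import your own Cfsg.Agent.* helpers here

set_option autoImplicit false
open Cfsg

namespace Cfsg.Agent.S0794

/-- For q odd, n ≥ 5 and Q with non-degenerate polar form: an isometry whose matrix is a Siegel transformation T_(u,v)(c) (u, v singular and orthogonal) is a commutator in the isometry group, so lies in Ω. -/
theorem result {F : Type*} [Field F] [Fintype F] (h2 : (2 : F) ≠ 0) {n : ℕ} (hn : 5 ≤ n) (Q : QuadraticForm F (Fin n → F)) (hQ : (QuadraticMap.polarBilin Q).Nondegenerate) (u v : Fin n → F) (hu : Q u = 0) (hv : Q v = 0) (huv : QuadraticMap.polar ⇑Q u v = 0) (c : F) (g : ↥(Cfsg.isometryGroup F ⇑Q)) (hg : ((g : Matrix.GeneralLinearGroup (Fin n) F) : Matrix (Fin n) (Fin n) F) = Cfsg.siegelMatrix ⇑Q u v c) : g ∈ commutatorSet ↥(Cfsg.isometryGroup F ⇑Q) ∧ g ∈ Cfsg.Omega F ⇑Q := by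
  have hN : (ClassicalSimple.bil Q).Nondegenerate := hQ
  have h5 : 5 ≤ Module.finrank F (Fin n → F) := by simpa using hn
  have huv' : ClassicalSimple.bil Q u v = 0 := huv
  have hcs : Q (c • v) = 0 := by rw [ClassicalSimple.quad_smul_vec, hv, mul_zero]
  have hucs : ClassicalSimple.bil Q u (c • v) = 0 := by simp [huv']
  have e : ClassicalSimple.isometryEquiv Q g = ClassicalSimple.siegel hu hucs :=
    (ClassicalSimple.isometryEquiv_eq_iff Q g _ _
      (ClassicalSimple.siegelMatrix_mulVec Q hu hv huv' c)).2 hg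
  obtain ⟨a, -, b, -, hab⟩ := ClassicalSimple.long_root_eq_commutator hN h5 hu hcs hucs
  have hc : g ∈ commutatorSet ↥(Cfsg.isometryGroup F ⇑Q) := by
    refine ⟨(ClassicalSimple.isometryEquiv Q).symm a, (ClassicalSimple.isometryEquiv Q).symm b, ?_⟩
    rw [← map_commutatorElement, hab, ← e, MulEquiv.symm_apply_apply]
  refine ⟨hc, ?_⟩
  rw [Cfsg.Omega, commutator_eq_closure]
  exact Subgroup.subset_closure hc

end Cfsg.Agent.S0794
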