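import Cfsg.Statements.S0796
import Mathlib

set_option autoImplicit false
open Cfsg

namespace Cfsg.Agent.S0796

/-- If G is finite and acts faithfully and primitively on X, H is the stabiliser of a point, A is a normal subgroup of H whose normal closure in G is G, then for every non-trivial normal subgroup K of G the quotient G ⧸ K is isomorphic to A ⧸ B for some normal subgroup B of A. -/
theorem result {G X : Type*} [Group G] [Finite G] [MulAction G X] [FaithfulSMul G X] (hprim : MulAction.IsPreprimitive G X) (x : X) (A : Subgroup G) (hA : A ≤ MulAction.stabilizer G x) (hAn : (A.subgroupOf (MulAction.stabilizer G x)).Normal) (hgen : Subgroup.normalClosure (A : Set G) = ⊤) (K : Subgroup G) [K.Normal] (hK : K ≠ ⊥) : ∃ (B : Subgroup A) (_ : B.Normal), Nonempty (G ⧸ K ≃* A ⧸ B) := by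
  haveI := hprim
  haveI : MulAction.IsPretransitive K X := by
    refine MulAction.IsQuasiPreprimitive.isPretransitive_of_normal fun e => hK ?_
    refine (Subgroup.eq_bot_iff_forall _).2 fun k hk => FaithfulSMul.eq_of_smul_eq_smul (α := X)
      fun y => ?_
    have hy : y ∈ MulAction.fixedPoints K X := e ▸ Set.mem_univ y
    rw [one_smul]
    exact hy ⟨k, hk⟩
  have hsup : ∀ g : G, g ∈ K ⊔ A := by
    intro g
    have hle : Subgroup.normalClosure (A : Set G) ≤ K ⊔ A := by
      rw [Subgroup.normalClosure, Subgroup.closure_le]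
      intro y hy
      obtain ⟨a, ha, hay⟩ := Group.mem_conjugatesOfSet_iff.1 hy
      obtain ⟨c, rfl⟩ := isConj_iff.1 hay
      obtain ⟨k, hk⟩ := MulAction.exists_smul_eq K x (c • x)
      have hst : (k : G)⁻¹ * c ∈ MulAction.stabilizer G x := by
        rw [MulAction.mem_stabilizer_iff, mul_smul, ← hk]
        exact inv_smul_smul (k : G) x
      have hconj : (k : G)⁻¹ * c * a * ((k : G)⁻¹ * c)⁻¹ ∈ A := hAn.conj_mem
        ⟨a, hA ha⟩ ha ⟨_, hst⟩
      have hkm : (k : G) ∈ K ⊔ A := (le_sup_left : K ≤ K ⊔ A) k.2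
      have := mul_mem (mul_mem hkm ((le_sup_right : A ≤ K ⊔ A) hconj)) (inv_mem hkm)
      simpa [mul_assoc] using this
    rw [hgen] at hle
    exact hle (Subgroup.mem_top g)
  have hsurj : Function.Surjective ((QuotientGroup.mk' K).comp A.subtype) := by
    intro z
    obtain ⟨g, rfl⟩ := QuotientGroup.mk'_surjective K z
    obtain ⟨k, hk, a, ha, rfl⟩ := Subgroup.mem_sup_of_normal_left.1 (hsup g)
    refine ⟨⟨a, ha⟩, ?_⟩
    simp [(QuotientGroup.eq_one_iff k).2 hk]
  exact ⟨_, MonoidHom.normal_ker _,
    ⟨(QuotientGroup.quotientKerEquivOfSurjective _ hsurj).symm⟩⟩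

end Cfsg.Agent.S0796
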