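import Cfsg.Statements.S0797
import Cfsg.Agent.Lib.QForm.ReflectionClasses

set_option autoImplicit false
open Cfsg

namespace Cfsg.Agent.S0797

/-- O^ε_2m(q) ≅ Ω.2² for q odd: if F is finite of odd characteristic, n ≥ 2 is even and Q has non-degenerate polar form on F^n, the isometry group of Q has exactly three subgroups of index 2. -/
theorem result {F : Type*} [Field F] [Fintype F] (h2 : (2 : F) ≠ 0) {n : ℕ} (hn : 2 ≤ n) (heven : Even n) (Q : QuadraticForm F (Fin n → F)) (hQ : (QuadraticMap.polarBilin Q).Nondegenerate) : Nat.card {H : Subgroup ↥(Cfsg.isometryGroup F ⇑Q) // H.index = 2} = 3 := by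
  classical
  have hchar : ringChar F ≠ 2 := fun h => h2 (by
    have := ringChar.Nat.cast_ringChar (R := F); rw [h] at this; exact_mod_cast this)
  obtain ⟨ε, hε⟩ := FiniteField.exists_nonsquare hchar
  have hε0 : ε ≠ 0 := by rintro rfl; exact hε IsSquare.zero
  obtain ⟨χ, hχ⟩ := QForm.exists_hom_refl Q h2 (one_ne_zero (α := F))
  obtain ⟨ψ, hψ⟩ := QForm.exists_hom_refl Q h2 hε0
  obtain ⟨v, hv⟩ := QForm.exists_norm_eq_top hQ h2 (by simpa using hn) (1 : F)
  obtain ⟨w, hw⟩ := QForm.exists_norm_eq_top hQ h2 (by simpa using hn) ε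
  have hv0 : Q v ≠ 0 := by rw [hv]; exact one_ne_zero
  have hw0 : Q w ≠ 0 := by rw [hw]; exact hε0
  set rv := QForm.refl Q v hv0
  set rw' := QForm.refl Q w hw0
  have hχv : χ rv = 1 := by rw [hχ, if_pos (by rw [hv]; exact ⟨1, rfl⟩)]
  have hχw : χ rw' = -1 := by rw [hχ, if_neg (by rw [hw, mul_one]; exact hε)]
  have hψv : ψ rv = -1 := by rw [hψ, if_neg (by rw [hv, one_mul]; exact hε)]
  have hψw : ψ rw' = 1 := by rw [hψ, if_pos (by rw [hw]; exact ⟨ε, rfl⟩)]
  let hom : Fin 3 → (↥(Cfsg.isometryGroup F ⇑Q) →* ℤˣ) := ![χ, ψ, χ * ψ]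
  -- the values on the two test reflections
  have hval : ∀ i, (hom i rv = -1 ↔ i ≠ 0) ∧ (hom i rw' = -1 ↔ i ≠ 1) ∧
      ((hom i rv = 1 ∨ hom i rv = -1) ∧ (hom i rw' = 1 ∨ hom i rw' = -1)) := by
    intro i
    fin_cases i <;> simp [hom, MonoidHom.mul_apply, hχv, hχw, hψv, hψw]
  have hne1 : (-1 : ℤˣ) ≠ 1 := by decide
  have hidx : ∀ i, (hom i).ker.index = 2 := by
    intro i
    rw [Subgroup.index_ker]
    have : (hom i).range = ⊤ := by
      refine eq_top_iff.2 fun u _ => ?_
      rcases Int.units_eq_one_or u with rfl | rfl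
      · exact one_mem _
      · by_cases h : i = 0
        · exact ⟨rw', (hval i).2.1.2 (by rw [h]; decide)⟩
        · exact ⟨rv, (hval i).1.2 h⟩
    rw [this, Subgroup.card_top, Nat.card_eq_fintype_card, Fintype.card_units_int]
  let f : Fin 3 → {H : Subgroup ↥(Cfsg.isometryGroup F ⇑Q) // H.index = 2} := fun i => ⟨(hom i).ker, hidx i⟩
  have hinj : Function.Injective f := by
    intro i j h
    have h' : (hom i).ker = (hom j).ker := congrArg Subtype.val h
    have e : ∀ g, hom i g = -1 ↔ hom j g = -1 := by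
      intro g
      have h3 : hom i g = 1 ↔ hom j g = 1 := by rw [← MonoidHom.mem_ker, ← MonoidHom.mem_ker, h']
      rcases Int.units_eq_one_or (hom i g) with a | a <;>
        rcases Int.units_eq_one_or (hom j g) with b | b <;> simp [a, b] at h3 ⊢
    have ev := e rv
    have ew := e rw'
    rw [(hval i).1, (hval j).1] at ev
    rw [(hval i).2.1, (hval j).2.1] at ew
    fin_cases i <;> fin_cases j <;> simp at ev ew ⊢
  have hsurj : Function.Surjective f := by
    rintro ⟨H, hH⟩
    let π : ↥(Cfsg.isometryGroup F ⇑Q) →* ℤˣ :=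
      { toFun := fun g => if g ∈ H then 1 else -1
        map_one' := if_pos (one_mem H)
        map_mul' := fun a b => by
          have := Subgroup.mul_mem_iff_of_index_two hH (a := a) (b := b)
          by_cases ha : a ∈ H <;> by_cases hb : b ∈ H <;> simp [ha, hb, this] }
    have hπ : ∀ g, π g = 1 ↔ g ∈ H := fun g => by
      show (if g ∈ H then (1 : ℤˣ) else -1) = 1 ↔ _
      by_cases hg : g ∈ H <;> simp [hg, hne1]
    -- `π` is constant on each class
    have hcls : ∀ u hu, π (QForm.refl Q u hu) = if IsSquare (Q u) then π rv else π rw' := by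
      intro u hu
      have e : ∀ z hz, IsSquare (Q u * Q z) → π (QForm.refl Q u hu) = π (QForm.refl Q z hz) := by
        intro z hz hsq
        have := congrArg (Abelianization.lift π) (QForm.of_refl_eq hQ hu hz hsq)
        simpa using this
      by_cases hs : IsSquare (Q u)
      · rw [if_pos hs]; exact e v hv0 (by rw [hv, mul_one]; exact hs)
      · rw [if_neg hs]
        refine e w hw0 ?_
        rw [hw, ← quadraticChar_one_iff_isSquare (mul_ne_zero hu hε0), map_mul,
          quadraticChar_neg_one_iff_not_isSquare.2 hs, quadraticChar_neg_one_iff_not_isSquare.2 hε]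
        rfl
    obtain ⟨i, hiv, hiw⟩ : ∃ i, hom i rv = π rv ∧ hom i rw' = π rw' := by
      rcases Int.units_eq_one_or (π rv) with a | a <;> rcases Int.units_eq_one_or (π rw') with b | b
      · exfalso
        have : π = 1 := QForm.hom_ext_refl hQ h2 fun u hu => by rw [hcls, a, b]; simp
        have htop : H = ⊤ := eq_top_iff.2 fun g _ => (hπ g).1 (by rw [this]; rfl)
        rw [htop, Subgroup.index_top] at hH
        omega
      · exact ⟨0, by rw [a]; exact hχv, by rw [b]; exact hχw⟩
      · exact ⟨1, by rw [a]; exact hψv, by rw [b]; exact hψw⟩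
      · exact ⟨2, by simp [hom, a, hχv, hψv], by simp [hom, b, hχw, hψw]⟩
    have hclsHom : ∀ u hu, hom i (QForm.refl Q u hu) =
        if IsSquare (Q u) then hom i rv else hom i rw' := by
      intro u hu
      have hεu : IsSquare (Q u * ε) ↔ ¬IsSquare (Q u) := by
        rw [← quadraticChar_one_iff_isSquare (mul_ne_zero hu hε0), map_mul,
          quadraticChar_neg_one_iff_not_isSquare.2 hε, mul_neg_one]
        constructor
        · intro h hs
          rw [(quadraticChar_one_iff_isSquare hu).2 hs] at h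
          exact absurd h (by decide)
        · intro hs
          rw [quadraticChar_neg_one_iff_not_isSquare.2 hs, neg_neg]
      by_cases hs : IsSquare (Q u) <;> fin_cases i <;>
        simp [hom, hχ, hψ, hs, hεu, hχv, hχw, hψv, hψw]
    have heq : hom i = π := QForm.hom_ext_refl hQ h2 fun u hu => by rw [hcls, hclsHom, hiv, hiw]
    refine ⟨i, Subtype.ext (Subgroup.ext fun g => ?_)⟩
    show g ∈ (hom i).ker ↔ g ∈ H
    rw [MonoidHom.mem_ker, heq, hπ]
  rw [← Nat.card_eq_of_bijective f ⟨hinj, hsurj⟩, Nat.card_fin]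

end Cfsg.Agent.S0797
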