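import Cfsg.Statements.S0800
-- import your own Cfsg.Agent.* helpers here

set_option autoImplicit false
open Cfsg Polynomial

namespace Cfsg.Agent.S0800

/-- Tori of SL_2(q): if g ∈ SL_2(q) has order coprime to the characteristic p, then the order of g divides q − 1 or q + 1. -/
theorem result {F : Type*} [Field F] [Fintype F] {q : ℕ} (hF : Fintype.card F = q) (p : ℕ) [Fact p.Prime] [CharP F p] (g : Matrix.SpecialLinearGroup (Fin 2) F) (hg : Nat.Coprime (orderOf g) p) : orderOf g ∣ q - 1 ∨ orderOf g ∣ q + 1 := by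
  subst hF
  classical
  set A : Matrix (Fin 2) (Fin 2) F := (g : Matrix (Fin 2) (Fin 2) F) with hA
  set q := Fintype.card F with hq
  set f : F[X] := X ^ 2 - C A.trace * X + 1 with hf
  have hfA : aeval A f = 0 := by
    have h := Matrix.aeval_self_charpoly A
    rw [Matrix.charpoly_fin_two, g.2] at h
    simpa [hf] using h
  have hord : ∀ n : ℕ, A ^ n = 1 → orderOf g ∣ n := fun n h =>
    orderOf_dvd_of_pow_eq_one (Subtype.ext (by simpa [hA] using h))
  have hq0 : 1 < q := Fintype.one_lt_card
  have hAq : A ^ q = A → orderOf g ∣ q - 1 := by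
    intro h
    have h' : g ^ q = g := Subtype.ext (by simpa [hA] using h)
    refine orderOf_dvd_of_pow_eq_one (mul_left_injective g ?_)
    show g ^ (q - 1) * g = 1 * g
    rw [← pow_succ, Nat.sub_add_cancel hq0.le, one_mul, h']
  by_cases hroot : ∃ l : F, f.eval l = 0
  · obtain ⟨l, hl⟩ := hroot
    left
    refine hAq ?_
    have hl' : l ^ 2 - A.trace * l + 1 = 0 := by simpa [hf] using hl
    have hfac : f = (X - C l) * (X - C (A.trace - l)) := by
      have : C l ^ 2 - C A.trace * C l + 1 = (0 : F[X]) := by
        simpa using congrArg C hl'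
      rw [hf, map_sub]
      linear_combination this
    by_cases hd : l = A.trace - l
    · obtain ⟨r, hr⟩ : f ∣ X ^ p - C (l ^ p) := by
        rw [hfac, ← hd, map_pow, ← sub_pow_char, ← sq]
        exact pow_dvd_pow _ (Nat.Prime.two_le Fact.out)
      have h1 : A ^ p = algebraMap F _ (l ^ p) := sub_eq_zero.1 (by
        simpa [hfA] using congrArg (aeval A) hr)
      obtain ⟨k, hk⟩ := exists_pow_eq_self_of_coprime hg.symm
      have h2 : A = algebraMap F _ ((l ^ p) ^ k) := by
        rw [map_pow _ (l ^ p) k, ← h1]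
        simpa [hA] using (congrArg Subtype.val hk).symm
      rw [h2, ← map_pow, FiniteField.pow_card]
    · obtain ⟨r, hr⟩ : f ∣ X ^ q - X := by
        rw [hfac]
        refine IsCoprime.mul_dvd (isCoprime_X_sub_C_of_isUnit_sub (sub_ne_zero.2 hd).isUnit)
          (dvd_iff_isRoot.2 ?_) (dvd_iff_isRoot.2 ?_) <;>
          simp [IsRoot, hq, FiniteField.pow_card]
      exact sub_eq_zero.1 (by simpa [hfA] using congrArg (aeval A) hr)
  · have hdeg : f.natDegree = 2 := by rw [hf]; compute_degree!
    have hirr : Irreducible f := (irreducible_iff_roots_eq_zero_of_degree_le_three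
      (by omega) (by omega)).2 (Multiset.eq_zero_of_forall_notMem fun l hl => hroot
        ⟨l, (mem_roots'.1 hl).2⟩)
    haveI := Fact.mk hirr
    set r := AdjoinRoot.root f with hr
    have hr0 : r ^ 2 - AdjoinRoot.of f A.trace * r + 1 = 0 := by
      have := AdjoinRoot.eval₂_root f
      simpa [hf, hr] using this
    obtain ⟨n, -, hn⟩ := FiniteField.card F p
    haveI : CharP (AdjoinRoot f) p := charP_of_injective_ringHom (AdjoinRoot.of f).injective p
    have hfr : (r ^ q) ^ 2 - AdjoinRoot.of f A.trace * r ^ q + 1 = 0 := by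
      have h := congrArg (fun z => z ^ p ^ (n : ℕ)) hr0
      simp only [add_pow_char_pow, sub_pow_char_pow, mul_pow, one_pow, ← map_pow] at h
      rw [← hn, ← hq, FiniteField.pow_card, zero_pow (by omega), ← pow_mul, mul_comm 2, pow_mul] at h
      exact h
    have hcases : (r ^ q - r) * (r ^ q + r - AdjoinRoot.of f A.trace) = 0 := by
      linear_combination hfr - hr0
    rcases mul_eq_zero.1 hcases with h | h
    · left
      refine hAq ?_
      obtain ⟨s, hs⟩ : f ∣ X ^ q - X := AdjoinRoot.mk_eq_zero.1 (by simpa [hr] using h)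
      exact sub_eq_zero.1 (by simpa [hfA] using congrArg (aeval A) hs)
    · right
      refine hord _ ?_
      have h' : r ^ (q + 1) - 1 = 0 := by linear_combination r * h - hr0
      obtain ⟨s, hs⟩ : f ∣ X ^ (q + 1) - 1 := AdjoinRoot.mk_eq_zero.1 (by simpa [hr] using h')
      exact sub_eq_zero.1 (by simpa [hfA] using congrArg (aeval A) hs)

end Cfsg.Agent.S0800
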