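import Cfsg.Statements.S0802
import Cfsg.Agent.Lib.PSL2.Klein
import Cfsg.Agent.Lib.PSL2.Sylow

set_option autoImplicit false
open Cfsg Matrix
open scoped MatrixGroups

namespace Cfsg.Agent.S0802

/-- PSL_2(p^n) has a subgroup isomorphic to A_4 if and only if it is not the case that p = 2 and n is odd. -/
theorem result {F : Type*} [Field F] [Fintype F] (p n : ℕ) [Fact p.Prime] [CharP F p] (hF : Fintype.card F = p ^ n) : (∃ H : Subgroup (Matrix.ProjectiveSpecialLinearGroup (Fin 2) F), Nonempty (H ≃* alternatingGroup (Fin 4))) ↔ ¬ (p = 2 ∧ Odd n) := by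
  constructor
  · rintro ⟨H, ⟨e⟩⟩ ⟨rfl, hn⟩
    -- an element of order three normalising a four-group would lie in a Borel subgroup
    let X : alternatingGroup (Fin 4) :=
      ⟨Equiv.swap 0 1 * Equiv.swap 2 3, Equiv.Perm.mem_alternatingGroup.2 (by decide)⟩
    let T : alternatingGroup (Fin 4) :=
      ⟨Equiv.swap 0 1 * Equiv.swap 1 2, Equiv.Perm.mem_alternatingGroup.2 (by decide)⟩
    have hX : orderOf X = 2 := orderOf_eq_prime (by decide) (by decide)
    have hT : orderOf T = 3 := orderOf_eq_prime (by decide) (by decide)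
    have hc : (T * X * T⁻¹) * X = X * (T * X * T⁻¹) := by decide
    set ψ : alternatingGroup (Fin 4) →* PSL(2, F) := H.subtype.comp e.symm.toMonoidHom with hψdef
    have hψ : Function.Injective ψ := H.subtype_injective.comp e.symm.injective
    obtain ⟨g, hg, htg, hgc⟩ := PSL2.exists_tr_eq_zero (x := ψ X)
      (by rw [orderOf_injective ψ hψ]; exact hX)
    have h2 : (2 : F) = 0 := CharTwo.two_eq_zero
    have hu : IsConj g (PSL2.uu 1) := by
      refine PSL2.tr_zero_isConj htg ?_ hgc (PSL2.uu_not_mem_center one_ne_zero)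
      rw [PSL2.tr_uu, h2]
    obtain ⟨k, hk⟩ := isConj_iff.1 hu
    obtain ⟨t, ht⟩ := PSL2.mk_surjective (ψ T)
    have hg' : g = k⁻¹ * PSL2.uu 1 * k := by rw [← hk]; group
    have hcomm : Commute (PSL2.mk (t * g * t⁻¹)) (PSL2.mk g) := by
      show _ * _ = _ * _
      simp only [map_mul, map_inv, ht, hg]
      simp only [← map_inv, ← map_mul, hc]
    have hcom : Commute (t * g * t⁻¹) g := by
      have hneg : -g = g := by
        rw [PSL2.neg_eq_neg_one_mul, PSL2.neg_one_eq_one_iff.2 h2, one_mul]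
      rcases PSL2.psl_commute_iff.1 hcomm with h | h
      · exact mul_inv_eq_iff_eq_mul.1 h
      · rw [hneg] at h; exact mul_inv_eq_iff_eq_mul.1 h
    have hmem : k * (t * g * t⁻¹) * k⁻¹ ∈ PSL2.pmUnip F := by
      refine PSL2.mem_cent.2 ?_
      rw [← hk]
      have := hcom.map (MulAut.conj k).toMonoidHom
      simpa using this
    obtain ⟨s, hs⟩ : ∃ s, PSL2.uu s = k * (t * g * t⁻¹) * k⁻¹ := by
      rcases PSL2.mem_pmUnip.1 hmem with h | h
      · exact PSL2.mem_unip.1 h
      · rw [PSL2.neg_eq_neg_one_mul, PSL2.neg_one_eq_one_iff.2 h2, one_mul] at h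
        exact PSL2.mem_unip.1 h
    have htB : k * t * k⁻¹ ∈ PSL2.borel F :=
      PSL2.uu_conj_mem_borel (t := (1 : F)) (s := s) one_ne_zero (by rw [hs, hg']; group)
    have hmk : PSL2.mk (k * t * k⁻¹) ∈ (PSL2.borel F).map PSL2.mk := Subgroup.mem_map_of_mem _ htB
    have hdvd := orderOf_dvd_natCard (⟨_, hmk⟩ : (PSL2.borel F).map PSL2.mk)
    rw [Subgroup.orderOf_mk, PSL2.orderOf_mk_conj, ht, orderOf_injective ψ hψ, hT] at hdvd
    have h3 := hdvd.trans ((PSL2.borel F).card_map_dvd PSL2.mk)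
    rw [PSL2.card_borel', hF] at h3
    obtain ⟨m, rfl⟩ := hn
    have hm : 2 ^ (2 * m + 1) % 3 = 2 := by
      rw [pow_succ, pow_mul, Nat.mul_mod, Nat.pow_mod]
      norm_num
    generalize 2 ^ (2 * m + 1) = X at h3 hm
    rcases (Nat.prime_three.dvd_mul).1 h3 with h | h <;> omega
  · intro hcond
    by_cases hp : p = 2
    · subst hp
      obtain ⟨m, rfl⟩ : Even n := Nat.not_odd_iff_even.1 fun h => hcond ⟨rfl, h⟩
      have h3 : 3 ∣ Nat.card Fˣ := by
        rw [GL.card_units_field, hF, ← two_mul, pow_mul]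
        exact Nat.dvd_trans (by norm_num) (Nat.sub_dvd_pow_sub_pow (2 ^ 2) 1 m |>.trans (by simp))
      obtain ⟨a, ha⟩ := exists_prime_orderOf_dvd_card' (G := Fˣ) 3 h3
      have h2 : (2 : F) = 0 := CharTwo.two_eq_zero
      have ha1 : (a : F) ≠ 1 := fun h => by
        rw [Units.val_eq_one] at h; rw [h, orderOf_one] at ha; omega
      have ha3 : (a : F) ^ 3 = 1 := by
        have := congrArg Units.val (pow_orderOf_eq_one a)
        rwa [ha, Units.val_pow_eq_pow_val, Units.val_one] at this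
      have hsum : (a : F) ^ 2 + a + 1 = 0 := by
        have : ((a : F) - 1) * ((a : F) ^ 2 + a + 1) = 0 := by linear_combination ha3
        exact (mul_eq_zero.1 this).resolve_left (sub_ne_zero.2 ha1)
      have ha2 : (a : F) ^ 2 ≠ 1 := fun h => ha1 (by linear_combination ha3 - (a : F) * h)
      have hinj : ∀ s t : F, PSL2.mk (PSL2.uu s) = PSL2.mk (PSL2.uu t) → s = t := fun s t h =>
        PSL2.uu_injective (PSL2.mk_injOn_unip (PSL2.uu_mem_unip s) (PSL2.uu_mem_unip t) h)
      have hinv : ∀ s : F, s ≠ 0 → orderOf (PSL2.mk (PSL2.uu s)) = 2 := fun s hs =>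
        PSL2.orderOf_mk_uu 2 hs
      have hpair : PSL2.IsInvPair (PSL2.mk (PSL2.uu (1 : F))) (PSL2.mk (PSL2.uu ((a : F) ^ 2))) := by
        refine ⟨hinv _ one_ne_zero, hinv _ (pow_ne_zero 2 (Units.ne_zero a)), ?_,
          fun h => ha2 (hinj _ _ h).symm⟩
        show _ * _ = _ * _
        rw [← map_mul, ← map_mul, PSL2.uu_mul_uu, PSL2.uu_mul_uu, add_comm]
      have hconj : ∀ s : F, PSL2.mk (PSL2.dd a) * PSL2.mk (PSL2.uu s) * (PSL2.mk (PSL2.dd a))⁻¹ =
          PSL2.mk (PSL2.uu ((a : F) ^ 2 * s)) := fun s => by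
        rw [← map_inv, ← map_mul, ← map_mul, PSL2.dd_conj_uu]
      have hmul : PSL2.mk (PSL2.uu (1 : F)) * PSL2.mk (PSL2.uu ((a : F) ^ 2)) =
          PSL2.mk (PSL2.uu (a : F)) := by
        rw [← map_mul, PSL2.uu_mul_uu]
        congr 2
        linear_combination hsum - (a : F) * h2
      obtain ⟨H, -, he⟩ := PSL2.exists_alternatingFour_of_cycle hpair (ρ := PSL2.mk (PSL2.dd a))
        (orderOf_eq_prime (by rw [← map_pow, PSL2.dd_pow, show (3 : ℕ) = orderOf a from ha.symm,
            pow_orderOf_eq_one, PSL2.dd_one, map_one])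
          (fun h => by
            rcases PSL2.mk_eq_one.1 h with h | h
            · exact ha1 (by rw [PSL2.dd_eq_one_iff.1 h]; rfl)
            · rw [PSL2.neg_one_eq_one_iff.2 h2, PSL2.dd_eq_one_iff] at h
              exact ha1 (by rw [h]; rfl)))
        (by rw [hconj, mul_one])
        (by rw [hconj, hmul]; congr 2; linear_combination (a : F) * ha3)
        (by rw [hmul, hconj]; congr 2; linear_combination ha3)
      exact ⟨H, he⟩
    · have h2 : (2 : F) ≠ 0 := Ring.two_ne_zero (by rwa [ringChar.eq F p])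
      obtain ⟨g, w, hL⟩ := PSL2.exists_lift_exists (F := F) h2
      obtain ⟨H, -, he⟩ := PSL2.exists_alternatingFour hL
      exact ⟨H, he⟩

end Cfsg.Agent.S0802
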