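import Cfsg.Statements.S0803
import Cfsg.Agent.Lib.PSL2.Platonic

set_option autoImplicit false
open Cfsg

namespace Cfsg.Agent.S0803

/-- PSL_2(q) has a subgroup isomorphic to S_4 iff q² ≡ 1 (mod 16). -/
theorem result {F : Type*} [Field F] [Fintype F] {q : ℕ} (hF : Fintype.card F = q) : (∃ H : Subgroup (Matrix.ProjectiveSpecialLinearGroup (Fin 2) F), Nonempty (H ≃* Equiv.Perm (Fin 4))) ↔ q ^ 2 % 16 = 1 := by
  subst hF
  constructor
  · rintro ⟨H, ⟨e⟩⟩
    obtain ⟨p, hp⟩ := CharP.exists F
    obtain ⟨n, hpp, hn⟩ := FiniteField.card F p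
    haveI : Fact p.Prime := ⟨hpp⟩
    let c : Equiv.Perm (Fin 4) := Equiv.swap 0 1 * Equiv.swap 1 2 * Equiv.swap 2 3
    have hc : orderOf c = 4 :=
      (orderOf_eq_iff (by norm_num)).2 ⟨by decide +kernel, by decide +kernel⟩
    have ho : orderOf (e.symm c : Matrix.ProjectiveSpecialLinearGroup (Fin 2) F) = 4 := by
      rw [Subgroup.orderOf_coe, MulEquiv.orderOf_eq, hc]
    rcases PSL2.psl_orderOf_dvd p (e.symm c : Matrix.ProjectiveSpecialLinearGroup (Fin 2) F) with h | h | h
    · rw [ho] at h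
      rcases (Nat.dvd_prime hpp).1 h with h1 | h1
      · omega
      · exact absurd (h1 ▸ hpp) (by norm_num)
    all_goals
      rw [ho] at h
      have hq : 1 < Fintype.card F := Fintype.one_lt_card
      have hd : Nat.gcd 2 (Fintype.card F - 1) = 1 ∨ Nat.gcd 2 (Fintype.card F - 1) = 2 :=
        (Nat.dvd_prime Nat.prime_two).1 (Nat.gcd_dvd_left _ _)
      have h8 : Fintype.card F % 8 = 1 ∨ Fintype.card F % 8 = 7 := by
        rcases hd with hd | hd
        · rw [hd, Nat.div_one] at h
          have : ¬ 2 ∣ Fintype.card F - 1 := fun h2 => by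
            rw [Nat.gcd_eq_left h2] at hd; omega
          omega
        · rw [hd] at h
          have h2 : 2 ∣ Fintype.card F - 1 := hd ▸ Nat.gcd_dvd_right _ _
          omega
      rw [pow_two, Nat.mul_mod]
      rcases h8 with h8 | h8
      · have h16 : Fintype.card F % 16 = 1 ∨ Fintype.card F % 16 = 9 := by omega
        rcases h16 with e | e <;> rw [e]
      · have h16 : Fintype.card F % 16 = 7 ∨ Fintype.card F % 16 = 15 := by omega
        rcases h16 with e | e <;> rw [e]
  · intro h
    have h8 : Fintype.card F % 8 = 1 ∨ Fintype.card F % 8 = 7 := by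
      rw [pow_two, Nat.mul_mod] at h
      have h16 := Nat.mod_lt (Fintype.card F) (show 16 > 0 by norm_num)
      generalize hr : Fintype.card F % 16 = r at h h16
      interval_cases r <;> omega
    have h2 : (2 : F) ≠ 0 := PSL2.odd_card_iff.1 (Nat.odd_iff.2 (by omega))
    obtain ⟨s, hs⟩ := FiniteField.isSquare_two_iff.2 (show Fintype.card F % 8 ≠ 3 ∧ Fintype.card F % 8 ≠ 5 by omega)
    obtain ⟨φ, hφ⟩ := PSL2.exists_permFour_of_sq_two h2 (s := s) (by rw [pow_two]; exact hs.symm)
    exact ⟨φ.range, ⟨(MonoidHom.ofInjective hφ).symm⟩⟩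

end Cfsg.Agent.S0803
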