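import Cfsg.Statements.S0804
import Cfsg.Agent.Lib.PSL2.Platonic

set_option autoImplicit false
open Cfsg

namespace Cfsg.Agent.S0804

/-- PSL_2(q) has a subgroup isomorphic to A_5 iff 5 ∣ q(q² − 1). -/
theorem result {F : Type*} [Field F] [Fintype F] {q : ℕ} (hF : Fintype.card F = q) : (∃ H : Subgroup (Matrix.ProjectiveSpecialLinearGroup (Fin 2) F), Nonempty (H ≃* alternatingGroup (Fin 5))) ↔ 5 ∣ q * (q ^ 2 - 1) := by
  subst hF
  constructor
  · rintro ⟨H, ⟨e⟩⟩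
    have h := H.card_subgroup_dvd_card
    rw [Nat.card_congr e.toEquiv, nat_card_alternatingGroup, Nat.card_fin] at h
    exact (show 5 ∣ Nat.factorial 5 / 2 by decide).trans (h.trans (Dvd.intro_left _ PSL2.gcd_mul_card_PSL))
  · intro h5
    haveI : Fact (Nat.Prime 5) := ⟨by norm_num⟩
    rw [← PSL2.gcd_mul_card_PSL] at h5
    have h5' : 5 ∣ Nat.card (Matrix.ProjectiveSpecialLinearGroup (Fin 2) F) :=
      Nat.Coprime.dvd_of_dvd_mul_left (Nat.Coprime.coprime_dvd_right (Nat.gcd_dvd_left _ _) (by decide)) h5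
    obtain ⟨x, hx⟩ := exists_prime_orderOf_dvd_card' 5 h5'
    obtain ⟨τ, hτ⟩ := PSL2.exists_golden hx
    obtain ⟨φ, hφ⟩ := PSL2.exists_altFive_of_golden hτ
    exact ⟨φ.range, ⟨(MonoidHom.ofInjective hφ).symm⟩⟩

end Cfsg.Agent.S0804
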