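import Cfsg.Statements.S0808
import Cfsg.Agent.Lib.PSL2.Klein

set_option autoImplicit false
open Cfsg Matrix
open scoped MatrixGroups

namespace Cfsg.Agent.S0808

/-- Conjugacy classes of four-groups in PSL_2(q), q odd: if q ≡ 3 or 5 (mod 8) all Klein four-subgroups are conjugate; if q ≡ 1 or 7 (mod 8) there are two Klein four-subgroups which are not conjugate, and every Klein four-subgroup is conjugate to one of them. -/
theorem result {F : Type*} [Field F] [Fintype F] {q : ℕ} (hF : Fintype.card F = q) (hodd : Odd q) : ((q % 8 = 3 ∨ q % 8 = 5) → ∀ V W : Subgroup (Matrix.ProjectiveSpecialLinearGroup (Fin 2) F), IsKleinFour V → IsKleinFour W → ∃ g : Matrix.ProjectiveSpecialLinearGroup (Fin 2) F, W = V.map (MulAut.conj g).toMonoidHom) ∧ ((q % 8 = 1 ∨ q % 8 = 7) → ∃ V₁ V₂ : Subgroup (Matrix.ProjectiveSpecialLinearGroup (Fin 2) F), IsKleinFour V₁ ∧ IsKleinFour V₂ ∧ (¬ ∃ g : Matrix.ProjectiveSpecialLinearGroup (Fin 2) F, V₂ = V₁.map (MulAut.conj g).toMonoidHom)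 ∧ ∀ W : Subgroup (Matrix.ProjectiveSpecialLinearGroup (Fin 2) F), IsKleinFour W → (∃ g : Matrix.ProjectiveSpecialLinearGroup (Fin 2) F, W = V₁.map (MulAut.conj g).toMonoidHom) ∨ (∃ g : Matrix.ProjectiveSpecialLinearGroup (Fin 2) F, W = V₂.map (MulAut.conj g).toMonoidHom)) := by
  have h2 : (2 : F) ≠ 0 := PSL2.odd_card_iff.1 (hF ▸ hodd)
  obtain ⟨g, w, hL⟩ := PSL2.exists_lift_exists (F := F) h2
  obtain ⟨z, hz⟩ := (PSL2.isCyclic_cent hL.h4).exists_generator
  have hgen : ∀ c ∈ PSL2.cent g, c ∈ Subgroup.zpowers (z : SL(2, F)) := by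
    intro c hc
    obtain ⟨i, hi⟩ := hz ⟨c, hc⟩
    exact ⟨i, congrArg Subtype.val hi⟩
  have hLz : PSL2.IsLift g ((z : SL(2, F)) * w) := hL.inverting_iff.2 ⟨z, z.2, rfl⟩
  have hsym : ∀ (A B : Subgroup PSL(2, F)) (k : PSL(2, F)), B = A.map (MulAut.conj k).toMonoidHom →
      A = B.map (MulAut.conj k⁻¹).toMonoidHom := by
    intro A B k h
    rw [h, Subgroup.map_map]
    conv_lhs => rw [← Subgroup.map_id A]
    congr 1
    exact MonoidHom.ext fun a => by simp [mul_assoc]
  have hcards := PSL2.card_cent_of_tr_zero h2 hL.trg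
  rw [hF] at hcards
  have hq2 := PSL2.one_lt_q (F := F)
  refine ⟨fun hq V W hV hW => ?_, fun hq => ⟨_, _, PSL2.isKleinFour_klein hL.isInvPair,
    PSL2.isKleinFour_klein hLz.isInvPair, ?_, fun W hW => ?_⟩⟩
  · have hn : Nat.card (PSL2.cent g) % 8 = 4 := by
      rcases hq with hq | hq
      · rw [hcards.2 (by omega)]; omega
      · rw [hcards.1 (by omega)]; omega
    -- `g z` is a square, so the two representatives are conjugate
    obtain ⟨i, hi⟩ := hgen g (PSL2.mem_cent.2 (Commute.refl g))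
    have hzo : orderOf (z : SL(2, F)) = Nat.card (PSL2.cent g) := by
      rw [Subgroup.orderOf_coe, orderOf_eq_card_of_forall_mem_zpowers hz]
    have hiodd : Odd i := by
      rw [← Int.not_even_iff_odd]
      rintro ⟨j, hj⟩
      change (z : SL(2, F)) ^ i = g at hi
      have h1 : (z : SL(2, F)) ^ (4 * j) ≠ 1 := by
        rw [show 4 * j = i + i by omega, _root_.zpow_add, hi, hL.gg]
        exact PSL2.neg_one_ne_one h2
      have h2' : (z : SL(2, F)) ^ (8 * j) = 1 := by
        rw [show 8 * j = i + i + (i + i) by omega, _root_.zpow_add, _root_.zpow_add, hi, hL.gg]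
        simp
      rw [← orderOf_dvd_iff_zpow_eq_one, hzo] at h2'
      apply h1
      rw [← orderOf_dvd_iff_zpow_eq_one, hzo]
      obtain ⟨u, hu⟩ : ∃ u, Nat.card (PSL2.cent g) = 4 * (2 * u + 1) :=
        ⟨Nat.card (PSL2.cent g) / 8, by omega⟩
      rw [hu] at h2' ⊢
      push_cast at h2' ⊢
      rw [mul_dvd_mul_iff_left (by norm_num)]
      rw [show (8 : ℤ) * j = 4 * (2 * j) by ring, mul_dvd_mul_iff_left (by norm_num)] at h2'
      exact (Int.isCoprime_iff_gcd_eq_one.2 (by
        rw [show (2 : ℤ) * (u : ℤ) + 1 = ((2 * u + 1 : ℕ) : ℤ) by push_cast; rfl,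
          show (2 : ℤ) = ((2 : ℕ) : ℤ) by rfl, Int.gcd_natCast_natCast]
        exact Nat.coprime_two_right.2 ⟨u, rfl⟩)).dvd_of_dvd_mul_left h2'
    obtain ⟨j, hj⟩ := hiodd
    change (z : SL(2, F)) ^ i = g at hi
    have hconj : ∃ k, PSL2.klein _ _ hLz.isInvPair =
        (PSL2.klein _ _ hL.isInvPair).map (MulAut.conj k).toMonoidHom := by
      set c := (z : SL(2, F)) ^ (j + 1) with hc
      have hcC : c ∈ PSL2.cent g := zpow_mem z.2 _
      have e2 : c * w * c⁻¹ = g * ((z : SL(2, F)) * w) := by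
        have hwc : w * c⁻¹ = c * w := by
          rw [← mul_inv_eq_iff_eq_mul]
          have := PSL2.conj_eq_inv (PSL2.not_mem_center_of_tr hL.h4)
            (PSL2.mem_cent.1 (inv_mem hcC)) hL.conj
          rwa [inv_inv] at this
        rw [mul_assoc, hwc, ← mul_assoc, ← mul_assoc, hc, ← _root_.zpow_add,
          show j + 1 + (j + 1) = i + 1 by omega, _root_.zpow_add_one, hi]
      have f1 : (MulAut.conj (PSL2.mk c)).toMonoidHom (PSL2.mk g) = PSL2.mk g := by
        simp only [MulEquiv.coe_toMonoidHom, MulAut.conj_apply]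
        rw [← map_mul, ← map_inv, ← map_mul, (PSL2.mem_cent.1 hcC).eq, mul_inv_cancel_right]
      have f2 : (MulAut.conj (PSL2.mk c)).toMonoidHom (PSL2.mk w) =
          PSL2.mk g * PSL2.mk ((z : SL(2, F)) * w) := by
        simp only [MulEquiv.coe_toMonoidHom, MulAut.conj_apply]
        rw [← map_mul, ← map_inv, ← map_mul, e2, map_mul]
      refine ⟨PSL2.mk c, ?_⟩
      rw [PSL2.map_klein _ _ (by rw [f1, f2]; exact hLz.isInvPair.mul)]
      simp only [f1, f2]
      exact (PSL2.klein_mul hLz.isInvPair).symm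
    obtain ⟨k, hk⟩ := hconj
    have key : ∀ V : Subgroup PSL(2, F), IsKleinFour V → ∃ d,
        V = (PSL2.klein _ _ hL.isInvPair).map (MulAut.conj d).toMonoidHom := by
      intro V hV
      obtain ⟨d, hd | hd⟩ := PSL2.klein_conj_cases hL z.2 hgen hV
      · exact ⟨d, hd⟩
      · refine ⟨d * k, ?_⟩
        rw [hd, hk, Subgroup.map_map]
        congr 1
        exact MonoidHom.ext fun a => by simp [mul_assoc]
    obtain ⟨a, ha⟩ := key V hV
    obtain ⟨b, hb⟩ := key W hW
    refine ⟨b * a⁻¹, ?_⟩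
    rw [hb, hsym _ _ a ha, Subgroup.map_map]
    congr 1
    exact MonoidHom.ext fun a => by simp [mul_assoc]
  · refine PSL2.klein_not_conj hL z.2 hgen ?_
    rcases hq with hq | hq
    · rw [hcards.1 (by omega)]; omega
    · rw [hcards.2 (by omega)]; omega
  · obtain ⟨k, hk | hk⟩ := PSL2.klein_conj_cases hL z.2 hgen hW
    · exact Or.inl ⟨k, hk⟩
    · exact Or.inr ⟨k, hk⟩

end Cfsg.Agent.S0808
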