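import Cfsg.Statements.S0809
import Cfsg.Agent.Lib.PSL2.Klein

set_option autoImplicit false
open Cfsg Matrix
open scoped MatrixGroups

namespace Cfsg.Agent.S0809

/-- In SL_2(q), q odd: any two subgroups of order 4 are conjugate, and the normaliser of a subgroup of order 4 has order 2(q − 1) if q ≡ 1 (mod 4) and 2(q + 1) if q ≡ 3 (mod 4); consequently all involutions of PSL_2(q) are conjugate. -/
theorem result {F : Type*} [Field F] [Fintype F] {q : ℕ} (hF : Fintype.card F = q) (hodd : Odd q) (A : Subgroup (Matrix.SpecialLinearGroup (Fin 2) F)) (hA : Nat.card A = 4) : (∀ B : Subgroup (Matrix.SpecialLinearGroup (Fin 2) F), Nat.card B = 4 → ∃ g : Matrix.SpecialLinearGroup (Fin 2) F, B = A.map (MulAut.conj g).toMonoidHom) ∧ (q % 4 = 1 → Nat.card ↥(Subgroup.normalizer (A : Set (Matrix.SpecialLinearGroup (Fin 2) F))) = 2 * (q - 1)) ∧ (q % 4 = 3 → Nat.card ↥(Subgroup.normalizer (A : Set (Matrix.SpecialLinearGroup (Fin 2) F))) = 2 * (q + 1)) ∧ (∀ x y : Matrix.ProjectiveSpecialLinearGroup (Fin 2)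 F, orderOf x = 2 → orderOf y = 2 → IsConj x y) := by
  have h2 : (2 : F) ≠ 0 := PSL2.odd_card_iff.1 (hF ▸ hodd)
  -- a subgroup of order four is generated by an element of trace zero
  have key : ∀ A : Subgroup SL(2, F), Nat.card A = 4 →
      ∃ a, PSL2.tr a = 0 ∧ A = Subgroup.zpowers a := by
    intro A hA
    have h1 : ∃ a ∈ A, a * a ≠ 1 := by
      by_contra h
      simp only [not_exists, not_and, not_not] at h
      have hle : A ≤ Subgroup.center SL(2, F) := fun a ha =>
        PSL2.mem_center_iff_pm.2 (PSL2.eq_pm_of_mul_self_eq_one h2 (h a ha))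
      have := Subgroup.card_le_of_le hle
      rw [hA, PSL2.card_center] at this
      have := Nat.le_of_dvd two_pos (Nat.gcd_dvd_left 2 (Fintype.card F - 1))
      omega
    obtain ⟨a, ha, haa⟩ := h1
    have hd : orderOf a ∣ 4 := hA ▸ Subgroup.orderOf_mk a ha ▸ orderOf_dvd_natCard (⟨a, ha⟩ : A)
    have h4 : orderOf a = 4 := by
      rcases (Nat.dvd_prime_pow Nat.prime_two).1 (show orderOf a ∣ 2 ^ 2 from hd) with ⟨i, hi, e⟩
      interval_cases i
      · rw [pow_zero, orderOf_eq_one_iff] at e
        simp [e] at haa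
      · rw [pow_one] at e
        have := pow_orderOf_eq_one a
        rw [e, pow_two] at this
        exact absurd this haa
      · exact e
    refine ⟨a, PSL2.tr_eq_zero_of_sq_eq_neg_one ?_, ?_⟩
    · refine (PSL2.eq_pm_of_mul_self_eq_one h2 ?_).resolve_left haa
      have := pow_orderOf_eq_one a
      rw [h4, show (4 : ℕ) = 2 * 2 from rfl, pow_mul, pow_two, pow_two] at this
      exact this
    · refine (Subgroup.eq_of_le_of_card_ge (Subgroup.zpowers_le.2 ha) ?_).symm
      rw [hA, Nat.card_zpowers, h4]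
  obtain ⟨a, ha, rfl⟩ := key A hA
  have h4 := PSL2.tr_sq_ne_four_of_tr_eq_zero h2 ha
  have hN : Subgroup.normalizer (Subgroup.zpowers a : Set SL(2, F)) =
      Subgroup.normalizer (PSL2.cent a : Set SL(2, F)) := by
    ext k
    rw [PSL2.mem_normalizer_cent h4]
    constructor
    · intro hk
      have := (Subgroup.mem_normalizer_iff.1 hk a).1 (Subgroup.mem_zpowers a)
      refine PSL2.eq_or_eq_inv_of_tr_eq h4 ?_ (PSL2.tr_conj k a)
      obtain ⟨i, hi⟩ := this
      rw [← hi]
      exact (Commute.refl a).zpow_left i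
    · intro hk
      have hmap : (Subgroup.zpowers a).map (MulAut.conj k).toMonoidHom = Subgroup.zpowers a := by
        rw [MonoidHom.map_zpowers]
        rcases hk with e | e <;> simp only [MulEquiv.coe_toMonoidHom, MulAut.conj_apply, e,
          Subgroup.zpowers_inv]
      rw [Subgroup.mem_normalizer_iff]
      intro x
      conv_rhs => rw [← hmap]
      rw [Subgroup.mem_map_equiv, MulAut.conj_symm_apply]
      group
  have hcard := PSL2.card_normalizer_cent h4
  rw [← hN] at hcard
  obtain ⟨c1, c3⟩ := PSL2.card_cent_of_tr_zero h2 ha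
  rw [hF] at c1 c3
  refine ⟨fun B hB => ?_, fun hq => by rw [hcard, c1 hq], fun hq => by rw [hcard, c3 hq],
    fun x y hx hy => PSL2.psl_involutions_isConj hx hy⟩
  obtain ⟨b, hb, rfl⟩ := key B hB
  obtain ⟨k, hk⟩ := isConj_iff.1 (PSL2.isConj_of_tr (ha.trans hb.symm) h4)
  refine ⟨k, ?_⟩
  rw [MonoidHom.map_zpowers]
  simp only [MulEquiv.coe_toMonoidHom, MulAut.conj_apply, hk]

end Cfsg.Agent.S0809
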