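import Cfsg.Statements.S0816
import Cfsg.Agent.Lib.AutPOmega.OutOdd

set_option autoImplicit false
open Cfsg

namespace Cfsg.Agent.S0816

/-- |Aut(PΩ_(2m+1)(q))| = 2 f · |PΩ_(2m+1)(q)| for q = p^f odd and m ≥ 3 (for the form quadFormOdd). -/
theorem result {F : Type*} [Field F] [Fintype F] (p f : ℕ) [Fact p.Prime] (hf : 1 ≤ f) (hF : Fintype.card F = p ^ f) (hodd : Odd p) (m : ℕ) (hm : 3 ≤ m) : Nat.card (MulAut (Cfsg.POmega F (Cfsg.quadFormOdd m F))) = 2 * f * Nat.card (Cfsg.POmega F (Cfsg.quadFormOdd m F)) := by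
  have h2 : (2 : F) ≠ 0 := by
    intro h
    have : CharP F p := charP_of_card_eq_prime_pow hF
    have h' := (Nat.prime_dvd_prime_iff_eq Fact.out Nat.prime_two).1
      ((CharP.cast_eq_zero_iff F p 2).1 (by exact_mod_cast h))
    exact absurd (h' ▸ hodd) (by decide)
  have e : ⇑(Cfsg.Agent.Forms.quadOdd m F) = Cfsg.quadFormOdd m F := funext Cfsg.Agent.Forms.quadOdd_apply
  rw [← e]
  have D := Cfsg.Agent.AutPOmega.autData_odd h2 hm (m := m) (F := F)
  obtain ⟨i⟩ := Cfsg.Agent.AutPOmega.out_odd hf hF h2 hm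
  rw [Cfsg.Agent.AutPOmega.card_mulAut D.nondeg D.five, Nat.card_congr i.toEquiv,
    Nat.card_congr Multiplicative.toAdd, Nat.card_prod, Nat.card_zmod, Nat.card_zmod]

end Cfsg.Agent.S0816
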