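import Cfsg.Statements.S0818
import Cfsg.Agent.Lib.AutPOmega.OutEven

set_option autoImplicit false
open Cfsg

namespace Cfsg.Agent.S0818

/-- |Aut(PΩ⁻_2m(q))| for q = p^f, m ≥ 4 (form quadFormMinus (m−1) with anisotropic binary part): |PΩ⁻_2m(q)| times f, times 2 if p = 2, and times 4 or 8 if p is odd according as m(q−1)/2 is even or odd. -/
theorem result {F : Type*} [Field F] [Fintype F] (p f : ℕ) [Fact p.Prime] (hf : 1 ≤ f) (hF : Fintype.card F = p ^ f) (m : ℕ) (hm : 4 ≤ m) (a b : F) (hab : ∀ z₁ z₂ : F, z₁ ^ 2 + a * z₁ * z₂ + b * z₂ ^ 2 = 0 → z₁ = 0 ∧ z₂ = 0) : Nat.card (MulAut (Cfsg.POmega F (Cfsg.quadFormMinus (m - 1) F a b))) = (if p = 2 then 2 else (if Even (m * (p ^ f - 1) / 2) then 4 else 8)) * f * Nat.card (Cfsg.POmega F (Cfsg.quadFormMinus (m - 1) F a b)) := by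
  have : CharP F p := charP_of_card_eq_prime_pow hF
  rw [← Cfsg.Agent.QForm.coe_minusForm]
  have D := Cfsg.Agent.AutPOmega.autData_minus (F := F) (a := a) (b := b) (m := m - 1) (by omega) hab
  rw [Cfsg.Agent.AutPOmega.card_mulAut D.nondeg D.five]
  congr 1
  by_cases hp : p = 2
  · subst hp
    rw [if_pos rfl]
    exact (Cfsg.Agent.AutPOmega.out_minus_two (m := m - 1) (by omega) hab 2 hf hF).2
  rw [if_neg hp]
  have hpo : Odd p := (Fact.out : p.Prime).odd_of_ne_two hp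
  have hodd : Odd (Fintype.card F) := hF ▸ hpo.pow
  have hq : p ^ f % 2 = 1 := Nat.odd_iff.1 hpo.pow
  have he : Even (m - 1) ↔ Odd m := by rw [Nat.even_iff, Nat.odd_iff]; omega
  obtain ⟨k, hk⟩ : ∃ k, p ^ f = 2 * k + 1 := ⟨p ^ f / 2, by omega⟩
  have hk2 : m * (p ^ f - 1) / 2 = m * k := by
    rw [hk, Nat.add_sub_cancel, ← mul_assoc, mul_comm m 2, mul_assoc,
      Nat.mul_div_cancel_left _ two_pos]
  rw [hk2]
  by_cases h : Even (m - 1) ∧ Fintype.card F % 4 = 3
  · obtain ⟨i⟩ := Cfsg.Agent.AutPOmega.out_minus_neg (m := m - 1) (by omega) hab p hf hF hodd h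
    have hkodd : Odd k := by
      rw [Nat.odd_iff]; have := h.2; rw [hF, hk] at this; omega
    rw [if_neg (Nat.not_even_iff_odd.2 ((he.1 h.1).mul hkodd)), Nat.card_congr i.toEquiv, Nat.card_prod,
      DihedralGroup.nat_card, Nat.card_congr Multiplicative.toAdd, Nat.card_zmod]
  · obtain ⟨i⟩ := Cfsg.Agent.AutPOmega.out_minus_pos (m := m - 1) (by omega) hab p hf hF hodd h
    have hev : Even (m * k) := by
      rw [← Nat.not_odd_iff_even, Nat.odd_mul, Nat.odd_iff (n := k)]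
      rintro ⟨hm', hk'⟩
      exact h ⟨he.2 hm', by rw [hF, hk]; omega⟩
    rw [if_pos hev, Nat.card_congr i.toEquiv, Nat.card_congr Multiplicative.toAdd, Nat.card_prod,
      Nat.card_zmod, Nat.card_zmod]
    ring

end Cfsg.Agent.S0818
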