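import Cfsg.Statements.S0819
-- import your own Cfsg.Agent.* helpers here

set_option autoImplicit false
open Cfsg

namespace Cfsg.Agent.S0819

open Polynomial

/-- Over an algebraically closed field, a matrix whose minimal polynomial has no multiple roots and whose eigenvalues
all satisfy `x ^ m = c` satisfies `A ^ m = c`. -/
theorem pow_eq_scalar {K : Type*} [Field K] [IsAlgClosed K] {n : Type*} [Fintype n] [DecidableEq n]
    (A : Matrix n n K) (N : ℕ) (hN : (N : K) ≠ 0) (hA : A ^ N = 1) (m : ℕ) (c : K)
    (hroots : ∀ r, A.charpoly.IsRoot r → r ^ m = c) : A ^ m = algebraMap K _ c := by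
  classical
  have hint : IsIntegral K A := Matrix.isIntegral A
  set p := minpoly K A with hp
  have hp0 : p ≠ 0 := minpoly.ne_zero hint
  have hmon : p.Monic := minpoly.monic hint
  have hdN : p ∣ X ^ N - C (1 : K) := minpoly.dvd K A (by simp [hA])
  have hsep : (X ^ N - C (1 : K)).Separable := separable_X_pow_sub_C (1 : K) hN one_ne_zero
  have hnd : p.roots.Nodup := nodup_roots (hsep.of_dvd hdN)
  have hdvd : p ∣ X ^ m - C c := by
    rw [(IsAlgClosed.splits p).eq_prod_roots_of_monic hmon]
    have : (p.roots.map fun a => X - C a) = p.roots.toFinset.val.map fun a => X - C a := by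
      rw [Multiset.toFinset_val, hnd.dedup]
    rw [this]
    refine Finset.prod_dvd_of_coprime ((pairwise_coprime_X_sub_C (s := fun a : K => a)
      Function.injective_id).set_pairwise _) fun r hr => ?_
    rw [dvd_iff_isRoot]
    have hr' : p.IsRoot r := (mem_roots hp0).1 (Multiset.mem_toFinset.1 hr)
    simp [hroots r (hr'.dvd (Matrix.minpoly_dvd_charpoly A))]
  have h := aeval_eq_zero_of_dvd_aeval_eq_zero hdvd (minpoly.aeval K A)
  simpa [sub_eq_zero] using h

/-- No element of PSL_3(4) has order 15. -/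
theorem result {F : Type*} [Field F] [Fintype F] (hF : Fintype.card F = 4) (g : Matrix.ProjectiveSpecialLinearGroup (Fin 3) F) : orderOf g ≠ 15 := by
  classical
  intro hord
  obtain ⟨h, rfl⟩ := QuotientGroup.mk_surjective g
  set K := AlgebraicClosure F
  set φ := algebraMap F K with hφ
  let ψ : Matrix (Fin 3) (Fin 3) F →+* Matrix (Fin 3) (Fin 3) K := φ.mapMatrix
  set A : Matrix (Fin 3) (Fin 3) K := ψ h.val with hA
  have hne : ∀ (m : ℕ) (c : K), A ^ m = algebraMap K _ c → m = 9 ∨ m = 5 → False := by
    intro m c hc hm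
    have hmem : h ^ m ∈ Subgroup.center (Matrix.SpecialLinearGroup (Fin 3) F) := by
      rw [Matrix.SpecialLinearGroup.mem_center_iff]
      have hpow : A ^ m = ψ (h ^ m).val := by
        rw [hA, Matrix.SpecialLinearGroup.coe_pow, map_pow]
      have hdiag : ∀ i j, φ ((h ^ m).val i j) = if i = j then c else 0 := fun i j => by
        have := congrFun (congrFun (hpow.symm.trans hc) i) j
        simpa [ψ, Matrix.algebraMap_matrix_apply] using this
      have hs : Matrix.scalar (Fin 3) ((h ^ m).val 0 0) = (h ^ m).val := by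
        ext i j
        apply φ.injective
        rw [hdiag, Matrix.scalar_apply, Matrix.diagonal_apply]
        split_ifs
        · rw [hdiag, if_pos rfl]
        · simp
      refine ⟨_, ?_, hs⟩
      have hd := (h ^ m).prop
      rw [← hs] at hd
      simpa using hd
    have h1 : (QuotientGroup.mk h : Matrix.ProjectiveSpecialLinearGroup (Fin 3) F) ^ m = 1 := by
      rw [← QuotientGroup.mk_pow]; exact (QuotientGroup.eq_one_iff _).2 hmem
    have := orderOf_dvd_of_pow_eq_one h1
    rw [hord] at this
    rcases hm with rfl | rfl <;> omega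
  have h45 : A ^ 45 = 1 := by
    have h1 : (QuotientGroup.mk h : Matrix.ProjectiveSpecialLinearGroup (Fin 3) F) ^ 15 = 1 := hord ▸ pow_orderOf_eq_one _
    rw [← QuotientGroup.mk_pow, QuotientGroup.eq_one_iff, Matrix.SpecialLinearGroup.mem_center_iff] at h1
    obtain ⟨r, hr, hh⟩ := h1
    have : h.val ^ 45 = 1 := by
      rw [show 45 = 15 * 3 from rfl, pow_mul, ← Matrix.SpecialLinearGroup.coe_pow, ← hh, ← map_pow]
      rw [Fintype.card_fin] at hr
      rw [hr, map_one]
    rw [hA, ← map_pow, this, map_one]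
  have h2 : (2 : F) = 0 := by
    have h4 : ((4 : ℕ) : F) = 0 := hF ▸ Nat.cast_card_eq_zero F
    have : (2 : F) * 2 = 0 := by push_cast at h4; linear_combination h4
    exact (mul_eq_zero.1 this).elim id id
  have h45K : ((45 : ℕ) : K) ≠ 0 := by
    have h2' : (2 : K) = 0 := by rw [← map_ofNat φ 2, h2, map_zero]
    have : ((45 : ℕ) : K) = 1 := by push_cast; linear_combination 22 * h2'
    rw [this]; exact one_ne_zero
  have hchar : A.charpoly = h.val.charpoly.map φ := Matrix.charpoly_map _ φ
  have hfrob : ∀ r, A.charpoly.IsRoot r → A.charpoly.IsRoot (r ^ 4) := by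
    intro r hr
    rw [hchar, IsRoot, eval_map] at hr ⊢
    have := congrArg (Polynomial.eval₂ φ r) (FiniteField.expand_card h.val.charpoly)
    rw [hF, eval₂_pow, hr, expand_eq_comp_X_pow, eval₂_comp, eval₂_X_pow, zero_pow (by norm_num)] at this
    exact this
  by_cases hall : ∀ r, A.charpoly.IsRoot r → r ^ 9 = 1
  · exact hne 9 1 (pow_eq_scalar A 45 h45K h45 9 1 hall) (Or.inl rfl)
  push Not at hall
  obtain ⟨r, hr, hr9⟩ := hall
  have h0 : A.charpoly ≠ 0 := A.charpoly_monic.ne_zero
  have hmem : ∀ {x}, A.charpoly.IsRoot x → x ∈ A.charpoly.roots := fun {x} hx => (mem_roots h0).2 hx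
  have hr45 : r ^ 45 = 1 := by
    have hint : IsIntegral K A := Matrix.isIntegral A
    have hs : r ∈ spectrum K A := Matrix.mem_spectrum_iff_isRoot_charpoly.2 hr
    have := spectrum.pow_mem_pow A 45 hs
    rw [h45] at this
    simpa using this
  have hr3 : r ^ 3 ≠ 1 := fun e => hr9 (by rw [show 9 = 3 * 3 from rfl, pow_mul, e, one_pow])
  have hne1 : r ≠ r ^ 4 := fun e => by
    have hr0 : r ≠ 0 := by rintro rfl; simp at hr45
    exact hr3 (mul_left_cancel₀ hr0 (by linear_combination -e))
  have hle : A.charpoly.roots.card = 3 := by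
    rw [← (IsAlgClosed.splits A.charpoly).natDegree_eq_card_roots, Matrix.charpoly_natDegree_eq_dim, Fintype.card_fin]
  obtain ⟨t, ht⟩ := Multiset.exists_cons_of_mem (hmem hr)
  have hm4 : r ^ 4 ∈ t := (Multiset.mem_cons.1 (ht ▸ hmem (hfrob r hr))).resolve_left (Ne.symm hne1)
  obtain ⟨t', rfl⟩ := Multiset.exists_cons_of_mem hm4
  obtain ⟨μ, rfl⟩ := Multiset.card_eq_one.1 (show t'.card = 1 by rw [ht] at hle; simpa using hle)
  have hdet : r * r ^ 4 * μ = 1 := by
    have := A.det_eq_prod_roots_charpoly
    rw [ht, hA, ← RingHom.map_det, h.prop, map_one] at this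
    simpa [mul_assoc] using this.symm
  have hroots : ∀ x, A.charpoly.IsRoot x → x = r ∨ x = r ^ 4 ∨ x = μ := fun x hx => by
    simpa [ht] using hmem hx
  have hr15 : r ^ 15 = 1 := by
    rcases hroots _ (hfrob _ (hfrob r hr)) with e | e | e
    · have hr0 : r ≠ 0 := by rintro rfl; simp at hr45
      exact mul_left_cancel₀ hr0 (by linear_combination e)
    · exfalso
      have h12 : r ^ 12 = 1 := by
        have hr0 : r ≠ 0 := by rintro rfl; simp at hr45
        exact mul_left_cancel₀ (pow_ne_zero 4 hr0) (by linear_combination e)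
      exact hr3 (by simpa using pow_gcd_eq_one.2 ⟨h12, hr45⟩)
    · exfalso
      rw [← e] at hdet
      have h21 : r ^ 21 = 1 := by linear_combination hdet
      exact hr3 (by simpa using pow_gcd_eq_one.2 ⟨h21, hr45⟩)
  refine hne 5 (r ^ 5) (pow_eq_scalar A 45 h45K h45 5 (r ^ 5) fun x hx => ?_) (Or.inr rfl)
  rcases hroots x hx with rfl | rfl | rfl
  · rfl
  · linear_combination r ^ 5 * hr15
  · have hr0 : r ≠ 0 := by rintro rfl; simp at hr45
    have h5 : x ^ 5 * r ^ 25 = 1 := by
      have := congrArg (· ^ 5) hdet; simp only [one_pow] at this; linear_combination this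
    apply mul_right_cancel₀ (pow_ne_zero 25 hr0)
    rw [h5]; linear_combination -(1 + r ^ 15) * hr15

end Cfsg.Agent.S0819
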