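import Cfsg.Statements.S2579
import Cfsg.Agent.Lib.GL.Action

set_option autoImplicit false
open Cfsg

namespace Cfsg.Agent.S2579

open scoped Matrix

variable {F : Type*} [Field F] {n : ℕ}

/-- The standard transvection. -/
def stdT (hn : 3 ≤ n) : Matrix.SpecialLinearGroup (Fin n) F :=
  ⟨Matrix.transvection ⟨0, by omega⟩ ⟨2, by omega⟩ 1, Matrix.det_transvection_of_ne _ _ (by simp) 1⟩

theorem exists_vecMulVec (M : Matrix (Fin n) (Fin n) F) (h1 : M.rank = 1) :
    ∃ a φ : Fin n → F, a ≠ 0 ∧ φ ≠ 0 ∧ M = Matrix.vecMulVec a φ := by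
  rw [Matrix.rank] at h1
  obtain ⟨⟨a, ha⟩, hane, hall⟩ := finrank_eq_one_iff'.1 h1
  choose φ hφ using fun j => hall ⟨M *ᵥ Pi.single j 1, ⟨_, rfl⟩⟩
  have hM : M = Matrix.vecMulVec a φ := by
    ext i j
    have h := congrFun (congrArg Subtype.val (hφ j)) i
    simp at h
    rw [Matrix.vecMulVec_apply, mul_comm, ← h]
  refine ⟨a, φ, fun h => hane (Subtype.ext h), ?_, hM⟩
  rintro rfl
  rw [hM, Matrix.vecMulVec_zero, Matrix.mulVecLin_zero, LinearMap.range_zero, finrank_bot] at h1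
  exact zero_ne_one h1

theorem exists_conj_std (hn : 3 ≤ n) (s : Matrix.SpecialLinearGroup (Fin n) F)
    (hs : Cfsg.IsTransvection (s : Matrix (Fin n) (Fin n) F)) :
    ∃ P : Matrix.SpecialLinearGroup (Fin n) F,
      (s : Matrix (Fin n) (Fin n) F) * (P : Matrix (Fin n) (Fin n) F) =
        (P : Matrix (Fin n) (Fin n) F) * (stdT hn : Matrix.SpecialLinearGroup (Fin n) F) := by
  classical
  obtain ⟨a, φ, ha, hφ, hM⟩ := exists_vecMulVec _ hs.1
  have hφa : φ ⬝ᵥ a = 0 := by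
    have h := hs.2
    rw [hM, Matrix.vecMulVec_mul_vecMulVec, Matrix.vecMulVec_eq_zero] at h
    rcases h with h | h
    · exact absurd h ha
    · exact (smul_eq_zero.1 h).resolve_right hφ
  obtain ⟨j, hj⟩ := Function.ne_iff.1 hφ
  let z : Fin n → F := Pi.single j (φ j)⁻¹
  have hz : φ ⬝ᵥ z = 1 := by rw [dotProduct_single]; exact mul_inv_cancel₀ hj
  let i0 : Fin n := ⟨0, by omega⟩
  let i1 : Fin n := ⟨1, by omega⟩
  let i2 : Fin n := ⟨2, by omega⟩
  have i01 : i0 ≠ i1 := by simp [i0, i1]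
  have i02 : i0 ≠ i2 := by simp [i0, i2]
  have i12 : i1 ≠ i2 := by simp [i1, i2]
  have hli : LinearIndependent F ![a, z] := by
    rw [LinearIndependent.pair_iff]
    intro c d hcd
    have h := congrArg (φ ⬝ᵥ ·) hcd
    simp only [dotProduct_add, dotProduct_smul, hφa, hz, smul_eq_mul, mul_zero, mul_one, zero_add,
      dotProduct_zero] at h
    subst h
    rw [zero_smul, add_zero] at hcd
    exact ⟨(smul_eq_zero.1 hcd).resolve_right ha, rfl⟩
  have hli' : LinearIndependent F ![(Pi.single i0 1 : Fin n → F), Pi.single i2 1] := by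
    rw [LinearIndependent.pair_iff]
    intro c d hcd
    exact ⟨by simpa [i02] using congrFun hcd i0, by simpa [i02.symm] using congrFun hcd i2⟩
  obtain ⟨g, hg⟩ := GL.exists_GL_of_linearIndependent hli' hli
  have hg0 : (g : Matrix (Fin n) (Fin n) F) *ᵥ Pi.single i0 1 = a := hg 0
  have hg2 : (g : Matrix (Fin n) (Fin n) F) *ᵥ Pi.single i2 1 = z := hg 1
  let e2 : Fin n → F := Pi.single i2 1
  let φ' : Fin n → F := φ ᵥ* (g : Matrix (Fin n) (Fin n) F)
  have h2 : φ' ⬝ᵥ e2 = 1 := by rw [← Matrix.dotProduct_mulVec, hg2, hz]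
  have h0 : φ' ⬝ᵥ Pi.single i0 1 = 0 := by rw [← Matrix.dotProduct_mulVec, hg0, hφa]
  have hn2 : (φ' - e2) ⬝ᵥ e2 = 0 := by rw [sub_dotProduct, h2]; simp [e2]
  have hsq : Matrix.vecMulVec e2 (φ' - e2) * Matrix.vecMulVec e2 (φ' - e2) = 0 := by
    rw [Matrix.vecMulVec_mul_vecMulVec, hn2, zero_smul, Matrix.vecMulVec_zero]
  let h : GL (Fin n) F :=
    ⟨1 - Matrix.vecMulVec e2 (φ' - e2), 1 + Matrix.vecMulVec e2 (φ' - e2),
      by rw [sub_mul, mul_add, mul_add, one_mul, one_mul, mul_one, hsq]; abel,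
      by rw [add_mul, mul_sub, mul_sub, one_mul, one_mul, mul_one, hsq]; abel⟩
  let d : Fin n → Fˣ := Pi.mulSingle i1 (Matrix.GeneralLinearGroup.det (g * h))⁻¹
  have hP : ((g * h * GL.diagHom d : GL (Fin n) F) : Matrix (Fin n) (Fin n) F).det = 1 := by
    have := congrArg Units.val (show Matrix.GeneralLinearGroup.det (g * h * GL.diagHom d) = 1 by
      rw [map_mul, GL.det_diagHom, Finset.prod_pi_mulSingle', if_pos (Finset.mem_univ _), mul_inv_cancel])
    simpa using this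
  refine ⟨⟨_, hP⟩, ?_⟩
  have hD : ((GL.diagHom d : GL (Fin n) F) : Matrix (Fin n) (Fin n) F) = Matrix.diagonal fun i => (d i : F) := rfl
  have he : Matrix.single i0 i2 (1 : F) = Matrix.vecMulVec (Pi.single i0 1) e2 := by
    rw [Matrix.single_eq_single_vecMulVec_single]
  show (s : Matrix (Fin n) (Fin n) F) * ((g * h * GL.diagHom d : GL (Fin n) F) : Matrix (Fin n) (Fin n) F) =
    ((g * h * GL.diagHom d : GL (Fin n) F) : Matrix (Fin n) (Fin n) F) * Matrix.transvection i0 i2 1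
  rw [show (s : Matrix (Fin n) (Fin n) F) = 1 + Matrix.vecMulVec a φ by rw [← hM, add_sub_cancel],
    Matrix.transvection, add_mul, mul_add, one_mul, mul_one, he, add_right_inj,
    Matrix.vecMulVec_mul, Matrix.mul_vecMulVec]
  simp only [Units.val_mul, hD, h, ← Matrix.vecMul_vecMul, ← Matrix.mulVec_mulVec]
  have hv : φ' ᵥ* (1 - Matrix.vecMulVec e2 (φ' - e2)) = e2 := by
    rw [Matrix.vecMul_sub, Matrix.vecMul_one, Matrix.vecMul_vecMulVec, h2, one_smul, sub_sub_cancel]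
  have hw : (1 - Matrix.vecMulVec e2 (φ' - e2)) *ᵥ Pi.single i0 1 = Pi.single i0 1 := by
    rw [Matrix.sub_mulVec, Matrix.one_mulVec, Matrix.vecMulVec_mulVec, sub_dotProduct, h0]
    simp [e2, i02]
  have hd0 : Matrix.diagonal (fun i => (d i : F)) *ᵥ Pi.single i0 1 = Pi.single i0 1 := by
    rw [Matrix.diagonal_mulVec_single]; simp [d, i01]
  have hd2 : e2 ᵥ* Matrix.diagonal (fun i => (d i : F)) = e2 := by
    ext x
    rw [Matrix.vecMul_diagonal]
    by_cases hx : x = i2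
    · subst hx; simp [e2, d, i12.symm]
    · simp [e2, hx]
  rw [hv, hd2, hd0, hw, hg0]

/-- In SL_n(F) with n ≥ 3, over a finite field F, any two transvections (matrices t with t − 1 of rank one and square zero) are conjugate by an element of SL_n(F). -/
theorem result {F : Type*} [Field F] [Finite F] {n : ℕ} (hn : 3 ≤ n) (s t : Matrix.SpecialLinearGroup (Fin n) F) (hs : Cfsg.IsTransvection (s : Matrix (Fin n) (Fin n) F)) (ht : Cfsg.IsTransvection (t : Matrix (Fin n) (Fin n) F)) : IsConj s t := by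
  have i0 : (⟨0, by omega⟩ : Fin n) ≠ ⟨2, by omega⟩ := by simp
  obtain ⟨P, hP⟩ := exists_conj_std hn s hs
  obtain ⟨Q, hQ⟩ := exists_conj_std hn t ht
  refine isConj_iff.2 ⟨Q * P⁻¹, ?_⟩
  have h1 : s * P = P * stdT hn := Subtype.ext hP
  have h2 : t * Q = Q * stdT hn := Subtype.ext hQ
  rw [mul_inv_eq_iff_eq_mul]
  calc Q * P⁻¹ * s = Q * P⁻¹ * (s * P) * P⁻¹ := by group
    _ = Q * P⁻¹ * (P * stdT hn) * P⁻¹ := by rw [h1]
    _ = Q * stdT hn * P⁻¹ := by group
    _ = t * (Q * P⁻¹) := by rw [← h2]; group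

end Cfsg.Agent.S2579
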