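import Cfsg.Statements.S0820
import Cfsg.Agent.S2579

set_option autoImplicit false
open Cfsg

namespace Cfsg.Agent.S0820

/-- Any two elements of order 2 of PSL_3(4) are conjugate. -/
theorem result {F : Type*} [Field F] [Fintype F] (hF : Fintype.card F = 4) (x y : Matrix.ProjectiveSpecialLinearGroup (Fin 3) F) (hx : orderOf x = 2) (hy : orderOf y = 2) : IsConj x y := by
  classical
  have h2' : (2 : F) = 0 := by
    have h4 : ((4 : ℕ) : F) = 0 := by rw [← hF]; exact FiniteField.cast_card_eq_zero F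
    have : (2 : F) * 2 = 0 := by rw [← h4]; norm_num
    exact mul_self_eq_zero.1 this
  have lift : ∀ z : Matrix.ProjectiveSpecialLinearGroup (Fin 3) F, orderOf z = 2 →
      ∃ A : Matrix.SpecialLinearGroup (Fin 3) F, QuotientGroup.mk A = z ∧
        Cfsg.IsTransvection (A : Matrix (Fin 3) (Fin 3) F) := by
    intro z hz
    obtain ⟨A, rfl⟩ := QuotientGroup.mk_surjective z
    have hA2 : A ^ 2 ∈ Subgroup.center (Matrix.SpecialLinearGroup (Fin 3) F) := by
      rw [← QuotientGroup.eq_one_iff, QuotientGroup.mk_pow, ← hz, pow_orderOf_eq_one]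
    have hA3 : (QuotientGroup.mk (A ^ 3) : Matrix.ProjectiveSpecialLinearGroup (Fin 3) F) = QuotientGroup.mk A := by
      rw [pow_succ, QuotientGroup.mk_mul, (QuotientGroup.eq_one_iff _).2 hA2, one_mul]
    have h6 : (A ^ 3) ^ 2 = 1 := by
      obtain ⟨r, hr3, hr⟩ := Matrix.SpecialLinearGroup.mem_center_iff.1 hA2
      rw [← pow_mul, mul_comm, pow_mul]
      apply Subtype.ext
      rw [Matrix.SpecialLinearGroup.coe_pow, ← hr, ← map_pow]
      simpa using congrArg (Matrix.scalar (Fin 3)) hr3
    refine ⟨A ^ 3, hA3, ?_⟩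
    set B := A ^ 3 with hB
    set M := (B : Matrix (Fin 3) (Fin 3) F) with hM
    have hMM : M * M = 1 := by rw [hM, ← Matrix.SpecialLinearGroup.coe_mul, ← sq, h6]; rfl
    have hsq : (M - 1) * (M - 1) = 0 := by
      ext i j
      have e : (M - 1) * (M - 1) = (2 : F) • (1 - M) := by
        rw [sub_mul, mul_sub, mul_sub, hMM, one_mul, mul_one, one_mul, two_smul]; abel
      rw [e, h2', zero_smul]
    refine ⟨?_, hsq⟩
    have hne : M - 1 ≠ 0 := fun h => by
      have : B = 1 := Subtype.ext (sub_eq_zero.1 h)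
      rw [← hA3, this, QuotientGroup.mk_one, orderOf_one] at hz
      omega
    have hle := Matrix.rank_mul_le_left (M - 1) (M - 1)
    have h1 : (M - 1).rank ≠ 0 := by
      intro h
      refine hne (Matrix.ext_iff_mulVec.2 fun v => ?_)
      have := LinearMap.congr_fun (LinearMap.range_eq_bot.1 (Submodule.finrank_eq_zero.1 h)) v
      simpa [Matrix.sub_mulVec] using this
    have h3 : LinearMap.range (M - 1).mulVecLin ≤ LinearMap.ker (M - 1).mulVecLin := by
      rintro _ ⟨v, rfl⟩
      rw [LinearMap.mem_ker, Matrix.mulVecLin_apply, Matrix.mulVecLin_apply, Matrix.mulVec_mulVec, hsq,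
        Matrix.zero_mulVec]
    have h4 := Submodule.finrank_mono h3
    have h5 := LinearMap.finrank_range_add_finrank_ker (M - 1).mulVecLin
    rw [Module.finrank_fin_fun] at h5
    rw [Matrix.rank] at h1 ⊢
    omega
  obtain ⟨A, rfl, hA⟩ := lift x hx
  obtain ⟨B, rfl, hB⟩ := lift y hy
  exact (QuotientGroup.mk' _).map_isConj (S2579.result le_rfl A B hA hB)

end Cfsg.Agent.S0820
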