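import Cfsg.Statements.S0821
import Cfsg.Agent.Lib.QForm.OmegaOddInvolution
import Cfsg.Agent.Lib.Forms.SympInvolution
import Cfsg.Agent.Lib.ClassicalSimple.SympMatrix

set_option autoImplicit false
open Cfsg

namespace Cfsg.Agent.S0821

open ClassicalSimple Forms.SympInvolution

/-- `-1` as an isometry. -/
noncomputable def negOne (m : ℕ) (F : Type*) [Field F] : SpB (sympBilin m F) :=
  ⟨LinearEquiv.neg F, fun u v => by simp⟩

theorem negOne_central (m : ℕ) (F : Type*) [Field F] :
    negOne m F ∈ Subgroup.center (SpB (sympBilin m F)) := by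
  refine Subgroup.mem_center_iff.2 fun k => SpB.ext' fun x => ?_
  simp [mul_smul, smul_eq_apply, negOne]

/-- A labelled lift of an involution of `PSp`. -/
def HasLift {m : ℕ} {F : Type*} [Field F] (y : Cfsg.PSp m F) (l : ℕ) : Prop :=
  ∃ T : SpB (sympBilin m F), QuotientGroup.mk' _ (symplecticEquiv.symm T) = y ∧
    ((l = 0 ∧ ∀ a, T.1 (T.1 a) = -a) ∨
     (1 ≤ l ∧ ∃ (u v : Fin m → (Fin m ⊕ Fin m → F)) (s : Fin m → Bool),
        IsFrame (sympBilin m F) u v ∧
        (∀ i, T.1 (u i) = (if s i then (1 : F) else -1) • u i ∧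
          T.1 (v i) = (if s i then (1 : F) else -1) • v i) ∧
        Fintype.card {i // s i = true} = l))

theorem exists_lift {m : ℕ} {F : Type*} [Field F] [Fintype F] (h2 : (2 : F) ≠ 0) (hm : 1 ≤ m)
    (y : Cfsg.PSp m F) (hy : orderOf y = 2) : ∃ l, l ≤ m / 2 ∧ HasLift y l := by
  classical
  haveI := nontrivial_symplectic_space (F := F) hm
  have hA : LinearMap.IsAlt (sympBilin m F) := sympBilin_isAlt
  have hN : (sympBilin m F).Nondegenerate := sympBilin_nondegenerate
  have hV : Module.finrank F (Fin m ⊕ Fin m → F) = 2 * m := by simp [two_mul]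
  obtain ⟨A, hAy⟩ := QuotientGroup.mk'_surjective _ y
  set T := symplecticEquiv A with hT
  have hy2 : y ^ 2 = 1 := hy ▸ pow_orderOf_eq_one y
  have hTT : T * T ∈ Subgroup.center (SpB (sympBilin m F)) := by
    have : A * A ∈ Subgroup.center (Matrix.symplecticGroup (Fin m) F) := by
      rw [← QuotientGroup.eq_one_iff, QuotientGroup.mk_mul, ← sq]
      rw [← hy2, ← hAy]; rfl
    rw [Subgroup.mem_center_iff] at this ⊢
    intro k
    obtain ⟨k, rfl⟩ := symplecticEquiv.surjective k
    rw [hT, ← map_mul, ← map_mul, ← map_mul, this]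
  obtain ⟨c, hc, hcx⟩ := (mem_center_iff_scalar hA hN _).1 hTT
  have hmk : QuotientGroup.mk' _ (symplecticEquiv.symm T) = y := by
    rw [hT, MulEquiv.symm_apply_apply, hAy]
  rcases mul_self_eq_one_iff.1 hc with rfl | rfl
  · have hxx : ∀ a, T.1 (T.1 a) = a := fun a => by
      have := hcx a; simpa [mul_smul, smul_eq_apply] using this
    obtain ⟨u, v, s, hf, hs⟩ := exists_frame_involution hV hA hN h2 T.1 (fun a b => T.2 a b) hxx m le_rfl
    set a := Fintype.card {i // s i = true} with ha
    have hle : a ≤ m := (Fintype.card_subtype_le _).trans_eq (Fintype.card_fin m)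
    -- the element is not central, so both signs occur
    have hne : ∀ b : Bool, ∃ i, s i = b := by
      intro b
      by_contra hall
      push Not at hall
      have hT1 : ∀ w, T.1 w = (if b then (-1 : F) else 1) • w := by
        intro w
        have : T.1.toLinearMap = (if b then (-1 : F) else 1) • LinearMap.id := by
          refine (hf.basis hA hV hm).ext fun i => ?_
          rw [hf.basis_apply hV hA hm]
          rcases i with i | i <;> have := hall i <;> cases b <;> cases hi : s i <;>
            simp_all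
        exact LinearMap.congr_fun this w
      have hcen : A ∈ Subgroup.center (Matrix.symplecticGroup (Fin m) F) := by
        refine Subgroup.mem_center_iff.2 fun k => symplecticEquiv.injective ?_
        refine SpB.ext' fun w => ?_
        simp only [map_mul, mul_smul, smul_eq_apply, ← hT, hT1, map_smul]
      have : y = 1 := by rw [← hAy]; exact (QuotientGroup.eq_one_iff _).2 hcen
      rw [this, orderOf_one] at hy
      omega
    obtain ⟨i₁, hi₁⟩ := hne true
    obtain ⟨i₂, hi₂⟩ := hne false
    have hpos : 1 ≤ a := Fintype.card_pos_iff.2 ⟨⟨i₁, hi₁⟩⟩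
    have hlt : a < m := (Fintype.card_subtype_lt (x := i₂) (by simp [hi₂])).trans_eq (Fintype.card_fin m)
    rcases Nat.le_total (2 * a) m with h | h
    · exact ⟨a, by omega, T, hmk, Or.inr ⟨hpos, u, v, s, hf, hs, rfl⟩⟩
    · refine ⟨m - a, by omega, negOne m F * T, ?_, Or.inr ⟨by omega, u, v, fun i => !(s i), hf, fun i => ?_, ?_⟩⟩
      · have hn : symplecticEquiv.symm (negOne m F) ∈
            Subgroup.center (Matrix.symplecticGroup (Fin m) F) := by
          refine Subgroup.mem_center_iff.2 fun k => symplecticEquiv.injective ?_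
          rw [map_mul, map_mul, MulEquiv.apply_symm_apply]
          exact Subgroup.mem_center_iff.1 (negOne_central m F) _
        rw [map_mul, map_mul, hmk, QuotientGroup.mk'_apply, (QuotientGroup.eq_one_iff _).2 hn, one_mul]
      · have h1 := (hs i).1
        have h2' := (hs i).2
        cases hi : s i <;> simp [hi] at h1 h2' <;>
          simp [negOne, LinearEquiv.mul_apply, h1, h2', hi]
      · have := Fintype.card_subtype_compl (fun i => s i = true)
        simp only [Fintype.card_fin, ← ha] at this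
        rw [← this]
        exact Fintype.card_congr (Equiv.subtypeEquivRight fun i => by simp)
  · refine ⟨0, Nat.zero_le _, T, hmk, Or.inl ⟨rfl, fun a => ?_⟩⟩
    have := hcx a; simpa [mul_smul, smul_eq_apply] using this

theorem isConj_of_hasLift {m : ℕ} {F : Type*} [Field F] [Fintype F] (h2 : (2 : F) ≠ 0) (hm : 1 ≤ m)
    {y z : Cfsg.PSp m F} {l : ℕ} (hy : HasLift y l) (hz : HasLift z l) : IsConj y z := by
  have hA : LinearMap.IsAlt (sympBilin m F) := sympBilin_isAlt
  have hN : (sympBilin m F).Nondegenerate := sympBilin_nondegenerate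
  have hV : Module.finrank F (Fin m ⊕ Fin m → F) = 2 * m := by simp [two_mul]
  obtain ⟨T, rfl, hT⟩ := hy
  obtain ⟨T', rfl, hT'⟩ := hz
  obtain ⟨g, hg, hgc⟩ : ∃ g : (Fin m ⊕ Fin m → F) ≃ₗ[F] (Fin m ⊕ Fin m → F),
      (∀ a b, sympBilin m F (g a) (g b) = sympBilin m F a b) ∧
      ∀ a, g (T.1 a) = T'.1 (g a) := by
    rcases hT with ⟨hl, h⟩ | ⟨hl, u, v, s, h, hs, hc⟩
    · rcases hT' with ⟨-, h'⟩ | ⟨hl', -⟩
      · exact exists_conj_of_sq_eq_neg hV hA hN h2 hm _ _ (fun a b => T.2 a b) (fun a b => T'.2 a b) h h'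
      · omega
    · rcases hT' with ⟨hl', -⟩ | ⟨-, u', v', s', h', hs', hc'⟩
      · omega
      · exact exists_conj_of_frames hV hA hm _ _ h h' hs hs' (hc.trans hc'.symm)
  have : IsConj T T' := isConj_iff.2 ⟨⟨g, hg⟩, by
    rw [mul_inv_eq_iff_eq_mul]
    refine SpB.ext' fun x => ?_
    simp only [mul_smul, smul_eq_apply]
    exact hgc x⟩
  exact (QuotientGroup.mk' _).map_isConj (symplecticEquiv.symm.toMonoidHom.map_isConj this)

/-- PSp_2m(q) ≇ PΩ_(2m+1)(q) for q odd and m ≥ 3 (they have the same order). -/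
theorem result {F : Type*} [Field F] [Fintype F] (hodd : Odd (Fintype.card F)) (m : ℕ) (hm : 3 ≤ m) : IsEmpty (Cfsg.PSp m F ≃* Cfsg.POmega F (Cfsg.quadFormOdd m F)) := by
  classical
  refine ⟨fun e => ?_⟩
  have h2 : (2 : F) ≠ 0 := Ring.two_ne_zero fun h => by
    have := FiniteField.even_card_of_char_two h
    rw [Nat.odd_iff] at hodd
    omega
  have hcen := QForm.OddInv.center_eq_bot (F := F) (m := m) h2 hm
  choose a haM haa hrank using fun k : Fin m =>
    QForm.OddInv.exists_involution (F := F) (m := m) h2 (k := (k : ℕ) + 1) (by omega) (by omega)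
  let x : Fin m → Cfsg.POmega F (Cfsg.quadFormOdd m F) := fun k => QuotientGroup.mk' _ ⟨a k, haM k⟩
  have hinj : ∀ b c : Omega F (quadFormOdd m F),
      QuotientGroup.mk' (Subgroup.center (Omega F (quadFormOdd m F))) b = QuotientGroup.mk' _ c → b = c := by
    intro b c h
    rw [QuotientGroup.mk'_apply, QuotientGroup.mk'_apply, QuotientGroup.eq, hcen,
      Subgroup.mem_bot, inv_mul_eq_one] at h
    exact h
  have hx : ∀ k, orderOf (x k) = 2 := by
    intro k
    refine orderOf_eq_prime ?_ ?_
    · show QuotientGroup.mk' _ (⟨a k, haM k⟩ : Omega F (quadFormOdd m F)) ^ 2 = 1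
      rw [← map_pow, sq, show (⟨a k, haM k⟩ : Omega F (quadFormOdd m F)) * ⟨a k, haM k⟩ = 1 from Subtype.ext (haa k), map_one]
    · intro h
      have h1 : a k = 1 := congrArg Subtype.val (hinj ⟨a k, haM k⟩ 1 (h.trans (map_one _).symm))
      have := hrank k
      simp [h1] at this
  have hconj : ∀ k l, IsConj (x k) (x l) → k = l := by
    intro k l h
    obtain ⟨g, hg⟩ := isConj_iff.1 h
    obtain ⟨g, rfl⟩ := QuotientGroup.mk'_surjective _ g
    rw [← map_inv, ← map_mul, ← map_mul] at hg
    have hg' := congrArg (fun z : Omega F (quadFormOdd m F) => ((z : isometryGroup F (quadFormOdd m F)) :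
      Matrix.GeneralLinearGroup (Unit ⊕ (Fin m ⊕ Fin m)) F)) (hinj _ _ hg)
    have hl := hrank l
    have hk := hrank k
    set G : Matrix.GeneralLinearGroup (Unit ⊕ (Fin m ⊕ Fin m)) F :=
      ((g : isometryGroup F (quadFormOdd m F)) : Matrix.GeneralLinearGroup (Unit ⊕ (Fin m ⊕ Fin m)) F)
    change G * (a k).1 * G⁻¹ = (a l).1 at hg'
    rw [← hg', Units.val_mul, Units.val_mul] at hl
    have e : G.val * (a k).1.val * (G⁻¹).val - 1 = G.val * ((a k).1.val - 1) * (G⁻¹).val := by
      rw [Matrix.mul_sub, Matrix.sub_mul, Matrix.mul_one, Units.mul_inv]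
    rw [e, Matrix.rank_mul_eq_left_of_isUnit_det _ _ ((Matrix.isUnit_iff_isUnit_det _).1 (G⁻¹).isUnit),
      Matrix.rank_mul_eq_right_of_isUnit_det _ _ ((Matrix.isUnit_iff_isUnit_det _).1 G.isUnit), hk] at hl
    exact Fin.ext (by omega)
  choose l hl hlift using fun k => exists_lift h2 (by omega) (e.symm (x k))
    (by rw [MulEquiv.orderOf_eq, hx])
  obtain ⟨k, k', hkk, hlk⟩ := Fintype.exists_ne_map_eq_of_card_lt
    (fun k => (⟨l k, Nat.lt_succ_of_le (hl k)⟩ : Fin (m / 2 + 1))) (by simp; omega)
  have hlk' : l k = l k' := congrArg Fin.val hlk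
  refine hkk (hconj k k' ?_)
  have hc := isConj_of_hasLift h2 (by omega) (hlift k)
    (show HasLift (e.symm (x k')) (l k) from hlk' ▸ hlift k')
  simpa using e.toMonoidHom.map_isConj hc

end Cfsg.Agent.S0821
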