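import Cfsg.Statements.S0823
import Cfsg.Prelude.Def_ClassicalGeometry
-- import your own Cfsg.Agent.* helpers here

set_option autoImplicit false
open Cfsg

namespace Cfsg.Agent.S0823

open Matrix

abbrev ι := Unit ⊕ (Fin 1 ⊕ Fin 1)

abbrev K := ZMod 3

def vec (a b c : K) : ι → K := Sum.elim (fun _ => a) (Sum.elim (fun _ => b) (fun _ => c))

theorem vec_eta (v : ι → K) : vec (v (.inl ())) (v (.inr (.inl 0))) (v (.inr (.inr 0))) = v := by
  funext i
  rcases i with ⟨⟩ | i | i
  · rfl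
  · fin_cases i; rfl
  · fin_cases i; rfl

def pt : Fin 4 → (ι → K) := ![vec 0 1 0, vec 0 0 1, vec 1 1 (-1), vec 1 (-1) 1]

theorem pt_ne (i j : Fin 4) : i ≠ j → pt i ≠ pt j ∧ pt i ≠ -pt j := by
  revert i j; decide

theorem pt_cover (v : ι → K) (h0 : v ≠ 0) (hQ : quadFormOdd 1 K v = 0) :
    ∃ j, v = pt j ∨ v = -pt j := by
  rw [← vec_eta v] at h0 hQ ⊢
  have key : ∀ a b c : K, vec a b c ≠ 0 → a ^ 2 + b * c = 0 →
      ∃ j, vec a b c = pt j ∨ vec a b c = -pt j := by decide
  exact key _ _ _ h0 (by simpa [quadFormOdd, vec] using hQ)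

theorem pt_sing (i : Fin 4) : quadFormOdd 1 K (pt i) = 0 := by revert i; decide

theorem pt_ne_zero (i : Fin 4) : pt i ≠ 0 := by revert i; decide

abbrev SO := specialIsometryGroup K (quadFormOdd 1 K)

def M (g : SO) : Matrix ι ι K := ((g.1.1 : GL ι K) : Matrix ι ι K)

theorem exists_image (g : SO) (i : Fin 4) : ∃ j, M g *ᵥ pt i = pt j ∨ M g *ᵥ pt i = -pt j := by
  refine pt_cover _ (fun h => pt_ne_zero i ?_) ?_
  · have := congrArg ((((g.1.1 : GL ι K)⁻¹ : GL ι K) : Matrix ι ι K) *ᵥ ·) h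
    simpa [M, mulVec_mulVec] using this
  · have := g.1.2 (pt i) (pt i)
    exact this.trans (pt_sing i)

noncomputable def σ (g : SO) (i : Fin 4) : Fin 4 := Classical.choose (exists_image g i)

theorem σ_spec (g : SO) (i : Fin 4) : M g *ᵥ pt i = pt (σ g i) ∨ M g *ᵥ pt i = -pt (σ g i) :=
  Classical.choose_spec (exists_image g i)

theorem σ_eq {g : SO} {i j : Fin 4} (h : M g *ᵥ pt i = pt j ∨ M g *ᵥ pt i = -pt j) : σ g i = j := by
  by_contra hne
  obtain ⟨h1, h2⟩ := pt_ne _ _ hne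
  rcases h with h | h <;> rcases σ_spec g i with h' | h'
  · exact h1 (h'.symm.trans h)
  · exact h2 (by rw [← h, h', neg_neg])
  · exact h2 (h'.symm.trans h)
  · exact h1 (neg_injective (h'.symm.trans h))

theorem σ_mul (g h : SO) (i : Fin 4) : σ (g * h) i = σ g (σ h i) := by
  refine σ_eq ?_
  show (M g * M h) *ᵥ _ = _ ∨ (M g * M h) *ᵥ _ = _
  rw [← mulVec_mulVec]
  rcases σ_spec h i with e | e <;> rcases σ_spec g (σ h i) with e' | e' <;> simp [e, e', mulVec_neg]

theorem σ_one (i : Fin 4) : σ 1 i = i := σ_eq (Or.inl (by simp [M]))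

noncomputable def act : SO →* Equiv.Perm (Fin 4) where
  toFun g := ⟨σ g, σ g⁻¹, fun i => by rw [← σ_mul, inv_mul_cancel, σ_one],
    fun i => by rw [← σ_mul, mul_inv_cancel, σ_one]⟩
  map_one' := Equiv.ext σ_one
  map_mul' g h := Equiv.ext (σ_mul g h)

theorem act_inj : Function.Injective act := by
  rw [injective_iff_map_eq_one]
  intro g hg
  have hc : ∀ i, ∃ c : K, (c = 1 ∨ c = -1) ∧ M g *ᵥ pt i = c • pt i := fun i => by
    have hi : σ g i = i := Equiv.Perm.ext_iff.1 hg i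
    rcases σ_spec g i with e | e <;> rw [hi] at e
    · exact ⟨1, Or.inl rfl, by rw [e, one_smul]⟩
    · exact ⟨-1, Or.inr rfl, by rw [e, neg_one_smul]⟩
  choose c hc1 hc2 using hc
  have hfirst : vec 1 0 0 = pt 2 - pt 0 + pt 1 := by decide
  have hsecond : vec 1 0 0 = pt 3 + pt 0 - pt 1 := by decide
  have ha := congrArg (M g *ᵥ ·) hfirst
  have hb := congrArg (M g *ᵥ ·) hsecond
  simp only [mulVec_add, mulVec_sub, hc2] at ha hb
  have key : ∀ a b x y : K, (a = 1 ∨ a = -1) → (b = 1 ∨ b = -1) → (x = 1 ∨ x = -1) → (y = 1 ∨ y = -1) →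
      x • pt 2 - a • pt 0 + b • pt 1 = y • pt 3 + a • pt 0 - b • pt 1 →
      b = a ∧ x = a ∧ x • pt 2 - a • pt 0 + b • pt 1 = a • vec 1 0 0 := by decide
  obtain ⟨hba, -, hv⟩ := key _ _ _ _ (hc1 0) (hc1 1) (hc1 2) (hc1 3) (ha.symm.trans hb)
  have hM : M g = c 0 • (1 : Matrix ι ι K) := by
    refine Matrix.ext_iff_mulVec.2 fun v => ?_
    have hdec : v = v (.inl ()) • vec 1 0 0 + v (.inr (.inl 0)) • pt 0 + v (.inr (.inr 0)) • pt 1 := by
      conv_lhs => rw [← vec_eta v]
      funext i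
      rcases i with ⟨⟩ | i | i
      · simp [vec, pt]
      · fin_cases i; simp [vec, pt]
      · fin_cases i; simp [vec, pt]
    rw [smul_mulVec, one_mulVec]
    conv_lhs => rw [hdec]
    conv_rhs => rw [hdec]
    rw [mulVec_add, mulVec_add, mulVec_smul, mulVec_smul, mulVec_smul, hc2, hc2, ha, hv, hba, smul_add, smul_add,
      smul_comm (c 0), smul_comm (c 0), smul_comm (c 0)]
  have hd : (M g).det = 1 := congrArg Units.val g.2
  rw [hM, det_smul, det_one, mul_one] at hd
  have h1 : c 0 = 1 := by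
    rcases hc1 0 with e | e
    · exact e
    · rw [e, show Fintype.card ι = 3 from rfl] at hd
      exact absurd hd (by decide)
  rw [h1, one_smul] at hM
  exact Subtype.ext (Subtype.ext (Units.ext hM))

def mk (a b c : ι → K) : Matrix ι ι K := Matrix.of fun i j => Sum.elim (fun _ => a) (Sum.elim (fun _ => b) (fun _ => c)) j i

def e3 : Fin 3 ≃ ι where
  toFun := ![.inl (), .inr (.inl 0), .inr (.inr 0)]
  invFun := Sum.elim (fun _ => 0) (Sum.elim (fun _ => 1) (fun _ => 2))
  left_inv := by decide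
  right_inv := by decide

theorem exists_gen (A : Matrix ι ι K) (hA : A * A = 1) (hQ : ∀ a b c, quadFormOdd 1 K (A *ᵥ vec a b c) = quadFormOdd 1 K (vec a b c))
    (hd : (A.submatrix e3 e3).det = 1) (τ : Equiv.Perm (Fin 4))
    (hτ : ∀ i, A *ᵥ pt i = pt (τ i) ∨ A *ᵥ pt i = -pt (τ i)) : τ ∈ act.range := by
  refine ⟨⟨⟨⟨A, A, hA, hA⟩, fun u v => ?_⟩, ?_⟩, ?_⟩
  · show quadFormOdd 1 K (A *ᵥ u) = quadFormOdd 1 K u
    rw [← vec_eta u]; exact hQ _ _ _
  · show Matrix.GeneralLinearGroup.det (⟨A, A, hA, hA⟩ : GL ι K) = 1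
    refine Units.ext ?_
    show A.det = 1
    rw [← det_submatrix_equiv_self e3]; exact hd
  · exact Equiv.ext fun i => σ_eq (hτ i)

theorem act_surj : Function.Surjective act := by
  rw [← MonoidHom.range_eq_top, eq_top_iff]
  intro τ _
  have h := Equiv.Perm.mclosure_swap_castSucc_succ 3
  have hm : τ ∈ Submonoid.closure (Set.range fun i : Fin 3 => Equiv.swap i.castSucc i.succ) := h ▸ Submonoid.mem_top τ
  refine (Submonoid.closure_le (S := act.range.toSubmonoid)).2 ?_ hm
  rintro _ ⟨i, rfl⟩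
  fin_cases i
  · exact exists_gen (mk (vec (-1) 0 0) (vec 0 0 1) (vec 0 1 0)) (by decide) (by decide)
      (by rw [det_fin_three]; decide) _ (by decide)
  · exact exists_gen (mk (vec 1 (-1) 0) (vec 0 (-1) 0) (vec 1 1 (-1))) (by decide) (by decide)
      (by rw [det_fin_three]; decide) _ (by decide)
  · exact exists_gen (mk (vec 1 0 0) (vec 0 (-1) 0) (vec 0 0 (-1))) (by decide) (by decide)
      (by rw [det_fin_three]; decide) _ (by decide)

theorem map_mulVec {R S : Type*} [CommRing R] [CommRing S] (f : R →+* S) (A : Matrix ι ι R) (v : ι → R) :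
    A.map f *ᵥ (f ∘ v) = f ∘ (A *ᵥ v) := funext fun i => (RingHom.map_mulVec f A v i).symm

/-- SO_3(3) ≅ S_4: the determinant-one isometries of the form x_0² + x_1y_1 over the field with 3 elements form a group isomorphic to the symmetric group on 4 letters. -/
theorem result {F : Type*} [Field F] [Fintype F] (hF : Fintype.card F = 3) : Nonempty (↥(Cfsg.specialIsometryGroup F (Cfsg.quadFormOdd 1 F)) ≃* Equiv.Perm (Fin 4)) := by
  classical
  haveI : Fact (Nat.Prime 3) := ⟨by norm_num⟩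
  let e : K ≃+* F := ZMod.ringEquivOfPrime F (by norm_num) hF
  let T : GL ι K →* GL ι F := Matrix.GeneralLinearGroup.map e.toRingHom
  have hQ : ∀ v : ι → K, quadFormOdd 1 F (e ∘ v) = e (quadFormOdd 1 K v) := fun v => by simp [quadFormOdd]
  have hT : ∀ (g : GL ι K) (v : ι → K), ((T g : GL ι F) : Matrix ι ι F) *ᵥ (e ∘ v) = e ∘ ((g : Matrix ι ι K) *ᵥ v) :=
    fun g v => map_mulVec e.toRingHom _ v
  let T₁ : isometryGroup K (quadFormOdd 1 K) →* isometryGroup F (quadFormOdd 1 F) :=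
    (T.comp (Subgroup.subtype _)).codRestrict _ fun g u v => by
      obtain ⟨u, rfl⟩ : ∃ u', e ∘ u' = u := ⟨e.symm ∘ u, funext fun i => e.apply_symm_apply _⟩
      show quadFormOdd 1 F (((T g.1 : GL ι F) : Matrix ι ι F) *ᵥ (e ∘ u)) = quadFormOdd 1 F (e ∘ u)
      rw [hT, hQ, hQ]; exact congrArg e (g.2 u u)
  have hdet : ∀ g : GL ι K, (((T g : GL ι F) : Matrix ι ι F)).det = e ((g : Matrix ι ι K)).det := fun g =>
    (RingHom.map_det e.toRingHom _).symm
  let T₂ : SO →* specialIsometryGroup F (quadFormOdd 1 F) :=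
    (T₁.comp (Subgroup.subtype _)).codRestrict _ fun g => Units.ext (by
      show (((T g.1.1 : GL ι F) : Matrix ι ι F)).det = 1
      rw [hdet, show ((g.1.1 : GL ι K) : Matrix ι ι K).det = 1 from congrArg Units.val g.2, map_one])
  have hbij : Function.Bijective T₂ := by
    constructor
    · intro g h hgh
      refine Subtype.ext (Subtype.ext (Units.ext (Matrix.ext fun i j => e.injective ?_)))
      exact congrFun (congrFun (congrArg (fun x => ((x.1.1 : GL ι F) : Matrix ι ι F)) hgh) i) j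
    · intro g
      let g' : GL ι K := Matrix.GeneralLinearGroup.map e.symm.toRingHom g.1.1
      have hg' : T g' = g.1.1 := Units.ext (Matrix.ext fun i j => e.apply_symm_apply _)
      refine ⟨⟨⟨g', fun u v => e.injective ?_⟩, Units.ext (e.injective ?_)⟩, ?_⟩
      · show e (quadFormOdd 1 K ((g' : Matrix ι ι K) *ᵥ u)) = e (quadFormOdd 1 K u)
        rw [← hQ, ← hQ, ← hT, hg']; exact g.1.2 (e ∘ u) (e ∘ u)
      · show e ((g' : Matrix ι ι K).det) = e 1
        rw [← hdet, hg', map_one]; exact congrArg Units.val g.2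
      · exact Subtype.ext (Subtype.ext hg')
  exact ⟨(MulEquiv.ofBijective T₂ hbij).symm.trans (MulEquiv.ofBijective act ⟨act_inj, act_surj⟩)⟩

end Cfsg.Agent.S0823
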