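import Cfsg.Statements.S0825
import Cfsg.Agent.Lib.Forms.SmallOrth

set_option autoImplicit false
open Cfsg

namespace Cfsg.Agent.S0825

open Matrix

abbrev J := Fin 3 ⊕ Fin 3

def vec (x : Fin 6 → ZMod 2) : J → ZMod 2 := Sum.elim ![x 0, x 1, x 2] ![x 3, x 4, x 5]

/-- The 28 nonsingular vectors. -/
def nsv : Fin 28 → J → ZMod 2 :=
  ![vec ![0, 0, 1, 0, 0, 1],
    vec ![0, 0, 1, 1, 0, 1],
    vec ![0, 0, 1, 0, 1, 1],
    vec ![0, 0, 1, 1, 1, 1],
    vec ![0, 1, 0, 0, 1, 0],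
    vec ![0, 1, 0, 1, 1, 0],
    vec ![0, 1, 0, 0, 1, 1],
    vec ![0, 1, 0, 1, 1, 1],
    vec ![0, 1, 1, 0, 1, 0],
    vec ![0, 1, 1, 1, 1, 0],
    vec ![0, 1, 1, 0, 0, 1],
    vec ![0, 1, 1, 1, 0, 1],
    vec ![1, 0, 0, 1, 0, 0],
    vec ![1, 0, 0, 1, 1, 0],
    vec ![1, 0, 0, 1, 0, 1],
    vec ![1, 0, 0, 1, 1, 1],
    vec ![1, 0, 1, 1, 0, 0],
    vec ![1, 0, 1, 1, 1, 0],
    vec ![1, 0, 1, 0, 0, 1],
    vec ![1, 0, 1, 0, 1, 1],
    vec ![1, 1, 0, 1, 0, 0],
    vec ![1, 1, 0, 0, 1, 0],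
    vec ![1, 1, 0, 1, 0, 1],
    vec ![1, 1, 0, 0, 1, 1],
    vec ![1, 1, 1, 1, 0, 0],
    vec ![1, 1, 1, 0, 1, 0],
    vec ![1, 1, 1, 0, 0, 1],
    vec ![1, 1, 1, 1, 1, 1]]

/-- The eight heptads. -/
def heptad : Fin 8 → List (Fin 28) :=
  ![[0, 6, 9, 15, 16, 22, 25], [0, 7, 8, 14, 17, 23, 24], [1, 6, 8, 13, 18, 20, 27], [1, 7, 9, 12, 19, 21, 26], [2, 4, 11, 15, 17, 20, 26], [2, 5, 10, 14, 16, 21, 27], [3, 4, 10, 13, 19, 22, 24], [3, 5, 11, 12, 18, 23, 25]]

def Q : (J → ZMod 2) → ZMod 2 := Cfsg.quadFormPlus 3 (ZMod 2)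

theorem cover : ∀ v, Q v = 1 → ∃ k, v = nsv k := by decide +kernel

theorem nsv_nonsingular : ∀ k, Q (nsv k) = 1 := by decide +kernel

theorem nsv_injective : ∀ a b, nsv a = nsv b → a = b := by decide +kernel

/-- Adjacency. -/
def adj (a b : Fin 28) : Bool := decide (a ≠ b) && decide (Q (nsv a + nsv b) = 1)

theorem heptad_clique : ∀ h, ∀ a ∈ heptad h, ∀ b ∈ heptad h, a ≠ b →
    adj a b = true ∧ ∀ c ∈ heptad h, nsv c ≠ nsv a + nsv b := by
  decide +kernel

/-- The third vertices of the heptad through an edge. -/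
def third (a b c : Fin 28) : Bool := adj a c && adj b c && decide (nsv c ≠ nsv a + nsv b)

theorem edge_heptad : ∀ a b, adj a b = true → ∃ h, a ∈ heptad h ∧ b ∈ heptad h ∧
    ∀ c, third a b c = true → c ∈ heptad h := by
  decide +kernel

theorem heptad_card : ∀ h, ((heptad h).map nsv).toFinset.card = 7 := by decide +kernel

/-- A heptad as a set of vectors. -/
def block (h : Fin 8) : Finset (J → ZMod 2) := ((heptad h).map nsv).toFinset

theorem mem_block {h : Fin 8} {v : J → ZMod 2} : v ∈ block h ↔ ∃ a ∈ heptad h, nsv a = v := by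
  simp [block]

theorem image_block (M : Matrix J J (ZMod 2)) (hM : ∀ v, Q (M *ᵥ v) = Q v)
    (hinj : Function.Injective (M *ᵥ ·)) (h : Fin 8) :
    ∃ h', (block h).image (M *ᵥ ·) = block h' := by
  classical
  choose f hf using fun k => cover (M *ᵥ nsv k) ((hM _).trans (nsv_nonsingular k))
  have hfinj : ∀ a b, f a = f b → a = b := fun a b hab =>
    nsv_injective a b (hinj ((hf a).trans (by rw [hab, ← hf b])))
  have hadd : ∀ a b, nsv (f a) + nsv (f b) = M *ᵥ (nsv a + nsv b) := fun a b => by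
    rw [mulVec_add, hf, hf]
  have hadj : ∀ a b, adj a b = true → adj (f a) (f b) = true := fun a b hab => by
    simp only [adj, Bool.and_eq_true, decide_eq_true_eq] at hab ⊢
    exact ⟨fun he => hab.1 (hfinj a b he), by rw [hadd, hM]; exact hab.2⟩
  obtain ⟨a, ha, b, hb, hab⟩ : ∃ a ∈ heptad h, ∃ b ∈ heptad h, a ≠ b := by
    revert h; decide +kernel
  obtain ⟨h', ha', hb', hc⟩ := edge_heptad (f a) (f b) (hadj a b (heptad_clique h a ha b hb hab).1)
  refine ⟨h', Finset.eq_of_subset_of_card_le ?_ ?_⟩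
  · intro v hv
    obtain ⟨u, hu, rfl⟩ := Finset.mem_image.1 hv
    obtain ⟨c, hc0, rfl⟩ := mem_block.1 hu
    refine mem_block.2 ⟨f c, ?_, (hf c).symm⟩
    rcases eq_or_ne c a with rfl | hca
    · exact ha'
    rcases eq_or_ne c b with rfl | hcb
    · exact hb'
    refine hc _ ?_
    simp only [third, Bool.and_eq_true, decide_eq_true_eq]
    refine ⟨⟨hadj _ _ (heptad_clique h a ha c hc0 hca.symm).1,
      hadj _ _ (heptad_clique h b hb c hc0 hcb.symm).1⟩, fun he => ?_⟩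
    rw [hadd, ← hf c] at he
    exact (heptad_clique h a ha b hb hab).2 c hc0 (hinj he)
  · rw [Finset.card_image_of_injective _ hinj, block, block, heptad_card, heptad_card]

/-- Reflection vectors of the adjacent swaps. -/
def refl : Fin 7 → J → ZMod 2 := ![nsv 0, nsv 8, nsv 1, nsv 26, nsv 2, nsv 10, nsv 3]

theorem refl_spec : ∀ i, Forms.SmallOrth.reflMat Q (refl i) * Forms.SmallOrth.reflMat Q (refl i) = 1 ∧
    (∀ v, Q (Forms.SmallOrth.reflMat Q (refl i) *ᵥ v) = Q v) ∧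
    ∀ k, (block k).image (Forms.SmallOrth.reflMat Q (refl i) *ᵥ ·) =
      block (Equiv.swap i.castSucc i.succ k) := by
  decide +kernel

theorem block_injective : ∀ i j, block i = block j → i = j := by decide +kernel

theorem pinned_spec : ∀ a : Fin 28, ∃ i j, block i ∩ block j = {nsv a} := by decide +kernel

theorem span_spec : ∀ k : J, ∃ l ∈ ([[0, 18], [0, 10], [4, 8], [0, 1], [0, 2], [4, 6]] : List (List (Fin 28))),
    (l.map nsv).sum = Pi.single k 1 := by
  decide +kernel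

theorem core : Nonempty (↥(Cfsg.isometryGroup (ZMod 2) Q) ≃* Equiv.Perm (Fin 8)) := by
  refine Forms.SmallOrth.nonempty_perm_equiv Q block block_injective image_block ?_ refl refl_spec
  intro k
  obtain ⟨l, -, hl⟩ := span_spec k
  refine ⟨l.map nsv, ?_, hl⟩
  intro v hv
  obtain ⟨a, -, rfl⟩ := List.mem_map.1 hv
  exact pinned_spec a


/-- O⁺_6(2) ≅ S_8: the isometry group of the hyperbolic form x_1y_1 + x_2y_2 + x_3y_3 over the field with 2 elements is isomorphic to the symmetric group on 8 letters. -/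
theorem result {F : Type*} [Field F] [Fintype F] (hF : Fintype.card F = 2) : Nonempty (↥(Cfsg.isometryGroup F (Cfsg.quadFormPlus 3 F)) ≃* Equiv.Perm (Fin 8)) := by
  obtain ⟨e⟩ := core
  let σ : ZMod 2 ≃+* F := FiniteField.ringEquivOfCardEq (by rw [ZMod.card, hF])
  obtain ⟨e'⟩ := Forms.SmallOrth.nonempty_equiv σ (Q := Q) (Q' := Cfsg.quadFormPlus 3 F)
    fun v => by simp [Q, Cfsg.quadFormPlus, map_mul, map_sum]
  exact ⟨e'.symm.trans e⟩

end Cfsg.Agent.S0825
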