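import Cfsg.Statements.S0826
import Cfsg.Agent.Lib.Forms.Classify
import Cfsg.Agent.Lib.Forms.Symp
import Cfsg.Prelude.Def_ClassicalGeometry
-- import your own Cfsg.Agent.* helpers here

set_option autoImplicit false
open Cfsg

namespace Cfsg.Agent.S0826

open Matrix

/-- The dot product on functions. -/
noncomputable def dotB (N : ℕ) : LinearMap.BilinForm (ZMod 2) (Fin N → ZMod 2) :=
  Matrix.toBilin' (1 : Matrix (Fin N) (Fin N) (ZMod 2))

theorem dotB_apply {N : ℕ} (u v : Fin N → ZMod 2) : dotB N u v = ∑ i, u i * v i := by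
  rw [dotB, Matrix.toBilin'_apply', Matrix.one_mulVec]; rfl

/-- The functions of even weight. -/
noncomputable def even (N : ℕ) : Submodule (ZMod 2) (Fin N → ZMod 2) :=
  LinearMap.ker (Fintype.linearCombination (ZMod 2) (fun _ : Fin N => (1 : ZMod 2)))

theorem mem_even {N : ℕ} (u : Fin N → ZMod 2) : u ∈ even N ↔ ∑ i, u i = 0 := by
  simp [even, Fintype.linearCombination_apply]

theorem pair_mem {N : ℕ} (i j : Fin N) : (Pi.single i 1 + Pi.single j 1 : Fin N → ZMod 2) ∈ even N := by
  rw [mem_even]
  simp only [Pi.add_apply, Finset.sum_add_distrib, Finset.sum_pi_single', Finset.mem_univ, if_true]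
  decide

/-- The permutation action on the functions of even weight. -/
noncomputable def act {N : ℕ} (g : Equiv.Perm (Fin N)) : even N →ₗ[ZMod 2] even N :=
  ((LinearMap.funLeft (ZMod 2) (ZMod 2) g.symm).comp (even N).subtype).codRestrict (even N) fun u => by
    rw [mem_even]
    show ∑ i, u.1 (g.symm i) = 0
    rw [Equiv.sum_comp g.symm u.1]
    exact (mem_even _).1 u.2

theorem act_apply {N : ℕ} (g : Equiv.Perm (Fin N)) (u : even N) (i : Fin N) :
    (act g u : Fin N → ZMod 2) i = u.1 (g.symm i) := rfl

/-- S_2n ≤ Sp_(2n−2)(2) for n ≥ 3: there is an injective homomorphism from the symmetric group on 2n letters into the symplectic group of degree 2n − 2 over the field with two elements. -/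
theorem result (n : ℕ) (hn : 3 ≤ n) : ∃ f : Equiv.Perm (Fin (2 * n)) →* Matrix.symplecticGroup (Fin (n - 1)) (ZMod 2), Function.Injective f := by
  classical
  set W := even (2 * n) with hWdef
  let B : LinearMap.BilinForm (ZMod 2) W := Forms.restrictForm (dotB (2 * n)) W
  have hBa : ∀ u v : W, B u v = ∑ i, u.1 i * v.1 i := fun u v => dotB_apply u.1 v.1
  have hA : B.IsAlt := fun u => by
    rw [hBa]
    have h : ∀ x : ZMod 2, x * x = x := by decide
    simp only [h]; exact (mem_even _).1 u.2
  have hinv : ∀ g u v, B (act g u) (act g v) = B u v := fun g u v => by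
    rw [hBa, hBa]
    exact Equiv.sum_comp g.symm fun i => u.1 i * v.1 i
  obtain ⟨m, k, e, he⟩ := Forms.exists_alt_coords B hA
  let p : W →ₗ[ZMod 2] (Fin m ⊕ Fin m → ZMod 2) :=
    (LinearMap.funLeft (ZMod 2) (ZMod 2) Sum.inl).comp e.toLinearMap
  let sect : (Fin m ⊕ Fin m → ZMod 2) →ₗ[ZMod 2] W :=
    { toFun := fun x => e.symm (Sum.elim x 0)
      map_add' := fun x y => by
        rw [← map_add]; congr 1; funext i; cases i <;> simp
      map_smul' := fun c x => by
        rw [RingHom.id_apply, ← map_smul]; congr 1; funext i; cases i <;> simp }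
  have hps : ∀ x, p (sect x) = x := fun x => funext fun i => by
    show e (e.symm (Sum.elim x 0)) (Sum.inl i) = x i
    rw [LinearEquiv.apply_symm_apply]; rfl
  have hBp : ∀ u v, B u v = sympForm m (ZMod 2) (p v) (p u) := he
  have hrad : ∀ x, p x = 0 ↔ ∀ y, B x y = 0 := by
    intro x
    constructor
    · intro h y
      rw [hBp, h, ← Forms.sympB_apply, map_zero]
    · intro h
      refine (Forms.sympB_nondegenerate m).2 _ fun z => ?_
      rw [Forms.sympB_apply, ← hps z, ← hBp]
      exact h _
  have hker : ∀ x, p x = 0 → ∀ i j, x.1 i = x.1 j := by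
    intro x hx i j
    have h := (hrad x).1 hx ⟨_, pair_mem i j⟩
    rw [hBa] at h
    simp only [Pi.add_apply, mul_add, Pi.single_apply, mul_ite, mul_one, mul_zero, Finset.sum_add_distrib,
      Finset.sum_ite_eq', Finset.mem_univ, if_true] at h
    exact CharTwo.add_eq_zero.1 h
  have hone : (fun _ => (1 : ZMod 2)) ∈ W := by
    rw [hWdef, mem_even]
    simp [show (2 : ZMod 2) = 0 from by decide]
  -- the radical is the line of constants
  have hk1 : k ≤ 1 := by
    let ι₀ : (Fin k → ZMod 2) →ₗ[ZMod 2] (Fin (2 * n) → ZMod 2) :=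
      { toFun := fun x => (e.symm (Sum.elim 0 x) : W).1
        map_add' := fun x y => by
          rw [← Submodule.coe_add, ← map_add]; congr 2; funext i; cases i <;> simp
        map_smul' := fun c x => by
          rw [RingHom.id_apply, ← Submodule.coe_smul, ← map_smul]; congr 2; funext i; cases i <;> simp }
    have hinj : Function.Injective ι₀ := fun x y h => by
      have := e.symm.injective (Subtype.ext h)
      exact funext fun i => congrFun this (Sum.inr i)
    let J : (Fin k → ZMod 2) →ₗ[ZMod 2] ZMod 2 :=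
      (LinearMap.proj (⟨0, by omega⟩ : Fin (2 * n))).comp ι₀
    have hJ : Function.Injective J := fun x y h => hinj (funext fun i => by
      have hc : ∀ z, ι₀ z i = J z := fun z => hker _ (funext fun j => by
        show e (e.symm (Sum.elim 0 z)) (Sum.inl j) = 0
        rw [LinearEquiv.apply_symm_apply]; rfl) _ _
      rw [hc, hc, h])
    have := LinearMap.finrank_le_finrank_of_injective hJ
    simpa using this
  have hdim : 2 * n = Module.finrank (ZMod 2) W + 1 := by
    have hne : Fintype.linearCombination (ZMod 2) (fun _ : Fin (2 * n) => (1 : ZMod 2)) ≠ 0 := fun h => by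
      simpa using LinearMap.congr_fun h (Pi.single ⟨0, by omega⟩ 1)
    have h := LinearMap.finrank_range_add_finrank_ker (Fintype.linearCombination (ZMod 2) (fun _ : Fin (2 * n) => (1 : ZMod 2)))
    rw [LinearMap.range_eq_top.2 (LinearMap.surjective hne), finrank_top, Module.finrank_self,
      Module.finrank_fin_fun] at h
    change 2 * n = Module.finrank (ZMod 2) (LinearMap.ker
      (Fintype.linearCombination (ZMod 2) (fun _ : Fin (2 * n) => (1 : ZMod 2)))) + 1
    omega
  have hfr : Module.finrank (ZMod 2) W = m + m + k := by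
    rw [e.finrank_eq, Module.finrank_fintype_fun_eq_card]; simp
  obtain rfl : m = n - 1 := by omega
  -- the representation
  let R : Equiv.Perm (Fin (2 * n)) → ((Fin (n - 1) ⊕ Fin (n - 1) → ZMod 2) →ₗ[ZMod 2] (Fin (n - 1) ⊕ Fin (n - 1) → ZMod 2)) :=
    fun g => p.comp ((act g).comp sect)
  have hR : ∀ g w, R g (p w) = p (act g w) := by
    intro g w
    show p (act g (sect (p w))) = p (act g w)
    rw [← sub_eq_zero, ← map_sub, ← map_sub, hrad]
    intro y
    have hy : y = act g (act g⁻¹ y) := Subtype.ext (funext fun i => by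
      show _ = y.1 ((g⁻¹).symm (g.symm i))
      rw [Equiv.Perm.inv_def, Equiv.symm_symm, Equiv.apply_symm_apply])
    rw [hy, hinv]
    refine (hrad _).1 ?_ _
    rw [map_sub, hps, sub_self]
  have hform : ∀ g u v, sympForm (n - 1) (ZMod 2) (R g u) (R g v) = sympForm (n - 1) (ZMod 2) u v := by
    intro g u v
    conv_rhs => rw [← hps u, ← hps v, ← hBp, ← hinv g]
    rw [hBp]; rfl
  let f : Equiv.Perm (Fin (2 * n)) →* Matrix.symplecticGroup (Fin (n - 1)) (ZMod 2) :=
    { toFun := fun g => ⟨LinearMap.toMatrix' (R g), Forms.mem_symplecticGroup_iff_form.2 fun u v => by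
        rw [LinearMap.toMatrix'_mulVec, LinearMap.toMatrix'_mulVec, hform]⟩
      map_one' := Subtype.ext (Matrix.ext_iff_mulVec.2 fun u => by
        show LinearMap.toMatrix' (R 1) *ᵥ u = (1 : Matrix _ _ (ZMod 2)) *ᵥ u
        rw [LinearMap.toMatrix'_mulVec, Matrix.one_mulVec]
        exact (congrArg p (Subtype.ext (funext fun i => rfl))).trans (hps u))
      map_mul' := fun g h => Subtype.ext (Matrix.ext_iff_mulVec.2 fun u => by
        show LinearMap.toMatrix' (R (g * h)) *ᵥ u = (LinearMap.toMatrix' (R g) * LinearMap.toMatrix' (R h)) *ᵥ u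
        rw [← Matrix.mulVec_mulVec, LinearMap.toMatrix'_mulVec, LinearMap.toMatrix'_mulVec, LinearMap.toMatrix'_mulVec]
        show p (act (g * h) (sect u)) = R g (p (act h (sect u)))
        rw [hR]
        rfl) }
  refine ⟨f, (injective_iff_map_eq_one f).2 fun g hg => ?_⟩
  have hRg : ∀ w, p (act g w) = p w := fun w => by
    rw [← hR]
    have h1 : LinearMap.toMatrix' (R g) = 1 := congrArg Subtype.val hg
    rw [← LinearMap.toMatrix'_mulVec (R g), h1, Matrix.one_mulVec]
  have hpair : ∀ i j : Fin (2 * n), i ≠ j → g i = i ∨ g i = j := by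
    intro i j hij
    by_contra hcon
    push Not at hcon
    have h0 := hker (act g ⟨_, pair_mem i j⟩ - ⟨_, pair_mem i j⟩) (by rw [map_sub, hRg, sub_self])
    obtain ⟨l, hl⟩ : ∃ l : Fin (2 * n), l ∉ ({i, j, g i, g j} : Finset (Fin (2 * n))) := by
      refine ((Finset.exists_mem_notMem_of_card_lt_card (t := Finset.univ) ?_).imp fun _ h => h.2)
      calc _ ≤ 4 := Finset.card_le_four
        _ < _ := by rw [Finset.card_univ, Fintype.card_fin]; omega
    simp only [Finset.mem_insert, Finset.mem_singleton, not_or] at hl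
    have h := h0 (g i) l
    simp only [Submodule.coe_sub, Pi.sub_apply, Pi.add_apply, act_apply, Pi.single_apply, Equiv.symm_apply_apply,
      Equiv.symm_apply_eq, if_true, if_neg hij, if_neg hcon.1, if_neg hcon.2, if_neg hl.1, if_neg hl.2.1,
      if_neg hl.2.2.1, if_neg hl.2.2.2] at h
    simp at h
  refine Equiv.ext fun i => ?_
  obtain ⟨j, hj⟩ : ∃ j : Fin (2 * n), j ≠ i := Fintype.exists_ne_of_one_lt_card (by rw [Fintype.card_fin]; omega) i
  obtain ⟨l, hl⟩ : ∃ l : Fin (2 * n), l ∉ ({i, j} : Finset (Fin (2 * n))) :=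
    (Finset.exists_mem_notMem_of_card_lt_card (t := Finset.univ) (lt_of_le_of_lt Finset.card_le_two (by rw [Finset.card_univ, Fintype.card_fin]; omega))).imp fun _ h => h.2
  simp only [Finset.mem_insert, Finset.mem_singleton, not_or] at hl
  rcases hpair i j hj.symm with h | h
  · exact h
  · rcases hpair i l (Ne.symm hl.1) with h' | h'
    · exact h'
    · exact absurd (h.symm.trans h') (Ne.symm hl.2)

end Cfsg.Agent.S0826
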