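import Cfsg.Statements.S0827
import Cfsg.Agent.S0282
import Cfsg.Agent.Lib.Forms.SmallUnitary

set_option autoImplicit false
open Cfsg

namespace Cfsg.Agent.S0827

open Matrix

variable {F : Type*} [Field F]

/-- The four matrices: a diagonal one, a cyclic one and two generators of a quaternion group. -/
def dM (w : F) : Matrix (Fin 3) (Fin 3) F := !![1, 0, 0; 0, w, 0; 0, 0, w ^ 2]
def cM : Matrix (Fin 3) (Fin 3) F := !![0, 1, 0; 0, 0, 1; 1, 0, 0]
def aM (w : F) : Matrix (Fin 3) (Fin 3) F := !![1, 1, 1; 1, w, w ^ 2; 1, w ^ 2, w]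
def bM (w : F) : Matrix (Fin 3) (Fin 3) F := !![1, w ^ 2, w ^ 2; w, w, w ^ 2; w, w ^ 2, w]

variable {w : F} (h2 : (2 : F) = 0) (hw : w ^ 2 + w + 1 = 0)

theorem det_dM (hw : w ^ 2 + w + 1 = 0) : (dM w).det = 1 := by
  simp [dM, Matrix.det_fin_three]; grind
theorem det_cM : (cM : Matrix (Fin 3) (Fin 3) F).det = 1 := by
  simp [cM, Matrix.det_fin_three]
include h2 hw in
theorem det_aM : (aM w).det = 1 := by
  simp [aM, Matrix.det_fin_three]; grind
include h2 hw in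
theorem det_bM : (bM w).det = 1 := by
  simp [bM, Matrix.det_fin_three]; grind

include h2 hw in
theorem m_dc : dM w * cM = (w ^ 2) • (cM * dM w) := by
  ext i j
  fin_cases i <;> fin_cases j <;> simp [dM, cM, Matrix.mul_apply, Fin.sum_univ_three] <;> grind

include h2 hw in
theorem m_d3 : dM w * dM w * dM w = (1 : F) • (1 : Matrix (Fin 3) (Fin 3) F) := by
  ext i j
  fin_cases i <;> fin_cases j <;> simp [dM, Matrix.mul_apply, Fin.sum_univ_three] <;> grind

include h2 hw in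
theorem m_c3 : (cM * cM * cM : Matrix (Fin 3) (Fin 3) F) = (1 : F) • (1 : Matrix (Fin 3) (Fin 3) F) := by
  ext i j
  fin_cases i <;> fin_cases j <;> simp [cM, Matrix.mul_apply, Fin.sum_univ_three] <;> grind

include h2 hw in
theorem m_a4 : aM w * aM w * aM w * aM w = (1 : F) • (1 : Matrix (Fin 3) (Fin 3) F) := by
  ext i j
  fin_cases i <;> fin_cases j <;> simp [aM, Matrix.mul_apply, Fin.sum_univ_three] <;> grind

include h2 hw in
theorem m_a2 : aM w * aM w = !![1, 0, 0; 0, 0, 1; 0, 1, 0] := by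
  ext i j
  fin_cases i <;> fin_cases j <;> simp [aM, Matrix.mul_apply, Fin.sum_univ_three] <;> grind

include h2 hw in
theorem m_b2 : bM w * bM w = (1 : F) • (aM w * aM w) := by
  ext i j
  fin_cases i <;> fin_cases j <;> simp [aM, bM, Matrix.mul_apply, Fin.sum_univ_three] <;> grind

include h2 hw in
theorem m_ba : bM w * aM w = (1 : F) • (aM w * aM w * aM w * bM w) := by
  ext i j
  fin_cases i <;> fin_cases j <;> simp [aM, bM, Matrix.mul_apply, Fin.sum_univ_three] <;> grind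

include h2 hw in
theorem m_ad : aM w * dM w = (1 : F) • (cM * aM w) := by
  ext i j
  fin_cases i <;> fin_cases j <;> simp [aM, dM, cM, Matrix.mul_apply, Fin.sum_univ_three] <;> grind

include h2 hw in
theorem m_ac : aM w * cM = (1 : F) • (dM w * dM w * aM w) := by
  ext i j
  fin_cases i <;> fin_cases j <;> simp [aM, dM, cM, Matrix.mul_apply, Fin.sum_univ_three] <;> grind

include h2 hw in
theorem m_bd : bM w * dM w = (w ^ 2) • (dM w * cM * bM w) := by
  ext i j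
  fin_cases i <;> fin_cases j <;> simp [bM, dM, cM, Matrix.mul_apply, Fin.sum_univ_three] <;> grind

include h2 hw in
theorem m_bc : bM w * cM = w • (dM w * (cM * cM) * bM w) := by
  ext i j
  fin_cases i <;> fin_cases j <;> simp [bM, dM, cM, Matrix.mul_apply, Fin.sum_univ_three] <;> grind

theorem mem_SU_iff (A : Matrix.SpecialLinearGroup (Fin 3) F) :
    A ∈ Cfsg.SU 3 F 2 ↔ ∀ u v : Fin 3 → F,
      Cfsg.hermForm 3 F 2 (A.1 *ᵥ u) (A.1 *ᵥ v) = Cfsg.hermForm 3 F 2 u v := Iff.rfl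

include h2 hw in
theorem exists_elements : ∃ d c a b : Cfsg.SU 3 F 2,
    d.1.1 = dM w ∧ c.1.1 = cM ∧ a.1.1 = aM w ∧ b.1.1 = bM w := by
  refine ⟨⟨⟨dM w, det_dM hw⟩, ?_⟩, ⟨⟨cM, det_cM⟩, ?_⟩, ⟨⟨aM w, det_aM h2 hw⟩, ?_⟩,
    ⟨⟨bM w, det_bM h2 hw⟩, ?_⟩, rfl, rfl, rfl, rfl⟩
  all_goals
    refine (mem_SU_iff _).2 fun u v => ?_
    simp [Cfsg.hermForm, dM, cM, aM, bM, Matrix.mulVec, dotProduct, Fin.sum_univ_three]
    grind

theorem mk_eq_mk_of_smul {g h : Cfsg.SU 3 F 2} (z : F) (hgh : g.1.1 = z • h.1.1) :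
    (QuotientGroup.mk g : Cfsg.PSU 3 F 2) = QuotientGroup.mk h := by
  have hc : h⁻¹ * g ∈ Subgroup.center (Cfsg.SU 3 F 2) := by
    rw [Subgroup.mem_center_iff]
    intro k
    have e : (h⁻¹ * g : Cfsg.SU 3 F 2).1.1 = z • (1 : Matrix (Fin 3) (Fin 3) F) := by
      show (h⁻¹ : Cfsg.SU 3 F 2).1.1 * g.1.1 = _
      rw [hgh, Matrix.mul_smul]
      show z • ((h⁻¹ * h : Cfsg.SU 3 F 2).1.1) = _
      rw [inv_mul_cancel]
      rfl
    apply Subtype.ext
    apply Subtype.ext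
    show k.1.1 * (h⁻¹ * g : Cfsg.SU 3 F 2).1.1 = (h⁻¹ * g : Cfsg.SU 3 F 2).1.1 * k.1.1
    rw [e, Matrix.mul_smul, Matrix.smul_mul, mul_one, one_mul]
  exact (QuotientGroup.eq.2 hc).symm

theorem scalar_of_mk_eq_one {g : Cfsg.SU 3 F 2} {c : Cfsg.SU 3 F 2}
    (h : (QuotientGroup.mk g : Cfsg.PSU 3 F 2) = 1) : g.1.1 * c.1.1 = c.1.1 * g.1.1 := by
  have h' := Subgroup.mem_center_iff.1 ((QuotientGroup.eq_one_iff g).1 h) c
  exact (congrArg (fun k : Cfsg.SU 3 F 2 => k.1.1) h').symm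

/-- U_3(2) ≅ 3².Q_8: PSU_3(2) (form over the field with 4 elements) has a normal subgroup N which is elementary abelian of order 9 such that the quotient by N is isomorphic to the quaternion group of order 8. -/
theorem result {F : Type*} [Field F] [Fintype F] (hF : Fintype.card F = 4) : ∃ (N : Subgroup (Cfsg.PSU 3 F 2)) (_ : N.Normal), Nat.card N = 9 ∧ (∀ x ∈ N, x ^ 3 = 1) ∧ Nonempty (Cfsg.PSU 3 F 2 ⧸ N ≃* QuaternionGroup 2) := by
  have h2 : (2 : F) = 0 := by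
    have h4 : ((4 : ℕ) : F) = 0 := by rw [← hF]; exact Nat.cast_card_eq_zero F
    have : (2 : F) * 2 = 0 := by rw [← h4]; norm_num
    exact mul_self_eq_zero.1 this
  obtain ⟨w, hw⟩ : ∃ w : F, w ^ 2 + w + 1 = 0 := by
    classical
    obtain ⟨w, -, hw01⟩ := Finset.exists_mem_notMem_of_card_lt_card
      (s := ({0, 1} : Finset F)) (t := Finset.univ)
      (Finset.card_le_two.trans_lt (by rw [Finset.card_univ, hF]; norm_num))
    simp only [Finset.mem_insert, Finset.mem_singleton, not_or] at hw01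
    have h3 : w ^ 3 = 1 := by simpa [hF] using FiniteField.pow_card_sub_one_eq_one w hw01.1
    exact ⟨w, mul_left_cancel₀ (sub_ne_zero.2 hw01.2) (by linear_combination h3)⟩
  obtain ⟨d, c, a, b, hd, hc, ha, hb⟩ := exists_elements h2 hw
  have hmul : ∀ g h : Cfsg.SU 3 F 2, (g * h).1.1 = g.1.1 * h.1.1 := fun _ _ => rfl
  have hone : (1 : Cfsg.SU 3 F 2).1.1 = 1 := rfl
  have rel : ∀ (g h : Cfsg.SU 3 F 2) (z : F), g.1.1 = z • h.1.1 →
      (QuotientGroup.mk g : Cfsg.PSU 3 F 2) = QuotientGroup.mk h := fun g h z => mk_eq_mk_of_smul z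
  have hp2 : ∀ g : Cfsg.SU 3 F 2, (g ^ 2).1.1 = g.1.1 * g.1.1 := fun g => by rw [sq]; rfl
  have hp3 : ∀ g : Cfsg.SU 3 F 2, (g ^ 3).1.1 = g.1.1 * g.1.1 * g.1.1 := fun g => by rw [pow_succ, sq]; rfl
  have hp4 : ∀ g : Cfsg.SU 3 F 2, (g ^ 4).1.1 = g.1.1 * g.1.1 * g.1.1 * g.1.1 := fun g => by
    rw [pow_succ, pow_succ, sq]; rfl
  refine Forms.SmallUnitary.split (G := Cfsg.PSU 3 F 2) (S0282.result hF).1
    (x := QuotientGroup.mk d) (y := QuotientGroup.mk c) (a := QuotientGroup.mk a) (b := QuotientGroup.mk b)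
    ?_ ?_ ?_ ?_ ?_ ?_ ?_ ?_ ?_ ?_ ?_ ?_ ?_
  · show _ * _ = _ * _
    rw [← QuotientGroup.mk_mul, ← QuotientGroup.mk_mul]
    refine rel _ _ (w ^ 2) ?_
    rw [hmul, hmul, hd, hc]
    exact m_dc h2 hw
  · rw [← QuotientGroup.mk_pow, ← QuotientGroup.mk_one]
    refine rel _ _ 1 ?_
    rw [hp3, hone, hd]
    exact m_d3 h2 hw
  · rw [← QuotientGroup.mk_pow, ← QuotientGroup.mk_one]
    refine rel _ _ 1 ?_
    rw [hp3, hone, hc]
    exact m_c3 h2 hw
  · intro h
    have e := congrFun (congrFun (scalar_of_mk_eq_one (c := c) h) 0) 1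
    simp [hd, hc, dM, cM, Matrix.mul_apply, Fin.sum_univ_three] at e
    grind
  · rintro ⟨k, hk⟩
    have hz : (d ^ k)⁻¹ * c ∈ Subgroup.center (Cfsg.SU 3 F 2) :=
      QuotientGroup.eq.1 ((QuotientGroup.mk_zpow _ d k).trans hk)
    have hcd : Commute d c := by
      have h1 : Commute d ((d ^ k)⁻¹ * c) := Subgroup.mem_center_iff.1 hz d
      have h2 : Commute d (d ^ k) := (Commute.refl d).zpow_right k
      simpa using h2.mul_right h1
    have e := congrFun (congrFun (congrArg (fun g : Cfsg.SU 3 F 2 => g.1.1) hcd.eq) 0) 1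
    simp [hmul, hd, hc, dM, cM, Matrix.mul_apply, Fin.sum_univ_three] at e
    grind
  · rw [← QuotientGroup.mk_pow, ← QuotientGroup.mk_one]
    refine rel _ _ 1 ?_
    rw [hp4, hone, ha]
    exact m_a4 h2 hw
  · intro h
    rw [← QuotientGroup.mk_pow] at h
    have e := congrFun (congrFun (scalar_of_mk_eq_one (c := c) h) 0) 1
    rw [hp2, ha, hc, m_a2 h2 hw] at e
    simp [cM, Matrix.mul_apply, Fin.sum_univ_three] at e
  · rw [← QuotientGroup.mk_pow, ← QuotientGroup.mk_pow]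
    refine rel _ _ 1 ?_
    rw [hp2, hp2, ha, hb]
    exact m_b2 h2 hw
  · rw [← QuotientGroup.mk_mul, ← QuotientGroup.mk_pow, ← QuotientGroup.mk_mul]
    refine rel _ _ 1 ?_
    rw [hmul, hmul, hp3, ha, hb]
    exact m_ba h2 hw
  · rw [mul_inv_eq_iff_eq_mul, ← QuotientGroup.mk_mul, ← QuotientGroup.mk_mul]
    refine rel _ _ 1 ?_
    rw [hmul, hmul, ha, hd, hc]
    exact m_ad h2 hw
  · rw [mul_inv_eq_iff_eq_mul, ← QuotientGroup.mk_mul, ← QuotientGroup.mk_pow, ← QuotientGroup.mk_mul]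
    refine rel _ _ 1 ?_
    rw [hmul, hmul, hp2, ha, hd, hc]
    exact m_ac h2 hw
  · rw [mul_inv_eq_iff_eq_mul, ← QuotientGroup.mk_mul, ← QuotientGroup.mk_mul, ← QuotientGroup.mk_mul]
    refine rel _ _ (w ^ 2) ?_
    rw [hmul, hmul, hmul, hb, hd, hc]
    exact m_bd h2 hw
  · rw [mul_inv_eq_iff_eq_mul, ← QuotientGroup.mk_mul, ← QuotientGroup.mk_pow, ← QuotientGroup.mk_mul, ← QuotientGroup.mk_mul]
    refine rel _ _ w ?_
    rw [hmul, hmul, hmul, hp2, hb, hd, hc]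
    exact m_bc h2 hw

end Cfsg.Agent.S0827
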