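import Cfsg.Statements.S0828
import Cfsg.Agent.Lib.Forms.FrameCounts

set_option autoImplicit false
open Cfsg

namespace Cfsg.Agent.S0828

/-- The symplectic generalised quadrangle over a field with q elements: the number of 2-dimensional subspaces of F^4 on which the symplectic form vanishes is (q + 1)(q² + 1), and every non-zero vector lies in exactly q + 1 of them. -/
theorem result {F : Type*} [Field F] [Fintype F] {q : ℕ} (hF : Fintype.card F = q) : Nat.card {W : Submodule F (Fin 2 ⊕ Fin 2 → F) // Module.finrank F W = 2 ∧ ∀ u ∈ W, ∀ v ∈ W, Cfsg.sympForm 2 F u v = 0} = (q + 1) * (q ^ 2 + 1) ∧ ∀ v : Fin 2 ⊕ Fin 2 → F, v ≠ 0 → Nat.card {W : Submodule F (Fin 2 ⊕ Fin 2 → F) // Module.finrank F W = 2 ∧ v ∈ W ∧ ∀ u ∈ W, ∀ w ∈ W, Cfsg.sympForm 2 F u w = 0} = q + 1 := by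
  classical
  subst hF
  have hq : 1 < Fintype.card F := Fintype.one_lt_card
  have hdim : Module.finrank F (Fin 2 ⊕ Fin 2 → F) = 4 := by simp
  have hsub : ∀ W : Submodule F (Fin 2 ⊕ Fin 2 → F),
      (∀ u ∈ W, ∀ v ∈ W, sympForm 2 F u v = 0) ↔ ∀ u ∈ W, ∀ v ∈ W, Forms.sympB 2 F u v = 0 := fun W => by
    simp only [Forms.sympB_apply]
  have hgl : ∏ i : Fin 2, (Fintype.card F ^ 2 - Fintype.card F ^ (i : ℕ))
      = (Fintype.card F ^ 2 - 1) * (Fintype.card F ^ 2 - Fintype.card F) := by
    rw [Fin.prod_univ_two]; simp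
  have h2 : Fintype.card F < Fintype.card F ^ 2 := lt_self_pow₀ hq one_lt_two
  constructor
  · have h := Forms.card_isoSubspace_mul (B := Forms.sympB 2 F) 2
    rw [Forms.card_isoFrame_alt (Forms.sympB_isAlt 2) (Forms.sympB_nondegenerate 2), hdim,
      Nat.card_eq_fintype_card (α := F), hgl, Finset.prod_range_succ, Finset.prod_range_one] at h
    rw [Nat.card_congr (Equiv.subtypeEquivRight fun W => and_congr_right fun _ => hsub W)]
    refine Nat.eq_of_mul_eq_mul_right (Nat.mul_pos (Nat.sub_pos_of_lt (by omega))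
      (Nat.sub_pos_of_lt h2)) (h.trans ?_)
    norm_num
    zify [Nat.one_le_pow 4 _ (Nat.zero_lt_of_lt hq), Nat.one_le_pow 2 _ (Nat.zero_lt_of_lt hq), h2.le]
    ring
  · intro v hv
    have hpol := Forms.sympB_polar (F := F) 2
    have hvv : Forms.sympB 2 F v v = 0 := Forms.sympB_isAlt 2 v
    obtain ⟨f, hff, hvf⟩ := hpol.exists_partner hv hvv
    let S := {w : Fin 1 → (Fin 2 ⊕ Fin 2 → F) // LinearIndependent F (Fin.cons v w : Fin 2 → _) ∧
      ∀ i j, Forms.sympB 2 F ((Fin.cons v w : Fin 2 → _) i) ((Fin.cons v w : Fin 2 → _) j) = 0}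
    have hS : Nat.card S = Fintype.card F * (Fintype.card F ^ 2 - 1) := by
      have h0 : ∀ x, Forms.pairRestrict (Forms.sympB 2 F) v f x x = 0 := fun x => Forms.sympB_isAlt 2 _
      have hn := hpol.pairRestrict_polar hvv hff hvf
      rw [Forms.card_frames_cons hpol hvv hff hvf 1,
        Forms.card_isoFrame_alt (B := Forms.pairRestrict (Forms.sympB 2 F) v f) h0
          ⟨hn.sep, hn.sep_right⟩ 1, Forms.finrank_pairPerp hpol hvv hff hvf, hdim,
        Nat.card_eq_fintype_card, pow_one]
      simp
    let T := {W : Submodule F (Fin 2 ⊕ Fin 2 → F) //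
      Module.finrank F W = 2 ∧ v ∈ W ∧ ∀ u ∈ W, ∀ w ∈ W, sympForm 2 F u w = 0}
    let Φ : S → T := fun w => ⟨Submodule.span F (Set.range (Fin.cons v w.1 : Fin 2 → _)),
      by rw [finrank_span_eq_card w.2.1, Fintype.card_fin],
      Submodule.subset_span ⟨0, Fin.cons_zero _ _⟩, fun a ha b hb => by
        rw [← Forms.sympB_apply]
        have h1 : ∀ i, Forms.sympB 2 F ((Fin.cons v w.1 : Fin 2 → _) i) b = 0 := fun i =>
          (Submodule.span_le.2 (by rintro _ ⟨j, rfl⟩; exact w.2.2 i j) :
            Submodule.span F (Set.range (Fin.cons v w.1 : Fin 2 → _))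
              ≤ LinearMap.ker (Forms.sympB 2 F ((Fin.cons v w.1 : Fin 2 → _) i))) hb
        induction ha using Submodule.span_induction with
        | mem x hx => obtain ⟨i, rfl⟩ := hx; exact h1 i
        | zero => simp
        | add x y _ _ hx hy => simp [hx, hy]
        | smul c x _ hx => simp [hx]⟩
    have hfib : ∀ W : T, Nat.card {w // Φ w = W} = Fintype.card F ^ 2 - Fintype.card F := by
      intro W
      have hle : Submodule.span F {v} ≤ W.1 := by simpa using W.2.2.1
      have hcard : Nat.card {x : W.1 // (x : Fin 2 ⊕ Fin 2 → F) ∉ Submodule.span F {v}}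
          = Fintype.card F ^ 2 - Fintype.card F := by
        rw [Nat.card_eq_fintype_card, Fintype.card_subtype_compl, ← Nat.card_eq_fintype_card,
          ← Nat.card_eq_fintype_card, Module.natCard_eq_pow_finrank (K := F), W.2.1,
          Nat.card_eq_fintype_card (α := F)]
        congr 1
        rw [← Nat.card_eq_fintype_card (α := F)]
        rw [Nat.card_congr (⟨fun x => ⟨x.1.1, x.2⟩, fun x => ⟨⟨x.1, hle x.2⟩, x.2⟩, fun _ => rfl, fun _ => rfl⟩ :
          {x : W.1 // (x : Fin 2 ⊕ Fin 2 → F) ∈ Submodule.span F {v}} ≃ Submodule.span F {v}),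
          Module.natCard_eq_pow_finrank (K := F), finrank_span_singleton hv, pow_one]
      rw [← hcard]
      have hind : ∀ x : Fin 2 ⊕ Fin 2 → F, x ∉ Submodule.span F {v} →
          LinearIndependent F (Fin.cons v (fun _ => x) : Fin 2 → _) := by
        intro x hx
        have heq : (Fin.cons v (fun _ => x) : Fin 2 → (Fin 2 ⊕ Fin 2 → F)) = ![v, x] := by
          funext i; fin_cases i <;> rfl
        rw [heq, LinearIndependent.pair_iff' hv]
        exact fun a ha => hx (Submodule.mem_span_singleton.2 ⟨a, ha⟩)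
      refine Nat.card_congr
        { toFun := fun w => ⟨⟨w.1.1 0, by
            rw [← congrArg Subtype.val w.2]
            exact Submodule.subset_span ⟨1, rfl⟩⟩, fun hmem => by
              obtain ⟨a, ha⟩ := Submodule.mem_span_singleton.1 hmem
              have hl := w.1.2.1
              have heq : (Fin.cons v w.1.1 : Fin 2 → (Fin 2 ⊕ Fin 2 → F)) = ![v, w.1.1 0] := by
                funext i; fin_cases i <;> rfl
              rw [heq, LinearIndependent.pair_iff' hv] at hl
              exact hl a ha⟩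
          invFun := fun x => ⟨⟨fun _ => x.1.1, hind _ x.2, fun i j => by
            rw [Forms.sympB_apply]
            refine W.2.2.2 _ ?_ _ ?_
            · refine Fin.cases W.2.2.1 (fun _ => x.1.2) i
            · refine Fin.cases W.2.2.1 (fun _ => x.1.2) j⟩, Subtype.ext <| by
              refine Submodule.eq_of_le_of_finrank_eq (Submodule.span_le.2 ?_) ?_
              · rintro _ ⟨i, rfl⟩
                refine Fin.cases W.2.2.1 (fun _ => x.1.2) i
              · rw [finrank_span_eq_card (hind _ x.2), Fintype.card_fin, W.2.1]⟩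
          left_inv := fun w => Subtype.ext (Subtype.ext (funext fun i => by
            rw [Fin.fin_one_eq_zero i]))
          right_inv := fun x => rfl }
    haveI := Fintype.ofFinite T
    have h := Nat.card_congr (Equiv.sigmaFiberEquiv Φ).symm
    rw [hS, Nat.card_sigma, Finset.sum_congr rfl fun W _ => hfib W, Finset.sum_const, smul_eq_mul,
      Finset.card_univ, ← Nat.card_eq_fintype_card (α := T)] at h
    show Nat.card T = Fintype.card F + 1
    refine Nat.eq_of_mul_eq_mul_right (Nat.sub_pos_of_lt h2) (h.symm.trans ?_)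
    zify [Nat.one_le_pow 2 _ (Nat.zero_lt_of_lt hq), h2.le]
    ring

end Cfsg.Agent.S0828
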