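import Cfsg.Statements.S0829
import Cfsg.Agent.Lib.Forms.FrameCounts

set_option autoImplicit false
open Cfsg

namespace Cfsg.Agent.S0829

/-- The unitary quadrangle of PSU_4(q): with |F| = q², the number of 2-dimensional subspaces of F^4 on which the Hermitian form Σ x_i y_i^q vanishes is (q + 1)(q³ + 1). -/
theorem result {F : Type*} [Field F] [Fintype F] {q : ℕ} (hF : Fintype.card F = q ^ 2) : Nat.card {W : Submodule F (Fin 4 → F) // Module.finrank F W = 2 ∧ ∀ u ∈ W, ∀ v ∈ W, Cfsg.hermForm 4 F q u v = 0} = (q + 1) * (q ^ 3 + 1) := by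
  classical
  have hq := Forms.one_lt_q hF
  have hsub : ∀ W : Submodule F (Fin 4 → F), (∀ u ∈ W, ∀ v ∈ W, hermForm 4 F q u v = 0) ↔
      ∀ u ∈ W, ∀ v ∈ W, Forms.hermB hF 4 u v = 0 :=
    fun W => ⟨fun h u hu v hv => h v hv u hu, fun h u hu v hv => h v hv u hu⟩
  have h := Forms.card_isoSubspace_mul (B := Forms.hermB hF 4) 2
  have hgl : ∏ i : Fin 2, (Nat.card F ^ 2 - Nat.card F ^ (i : ℕ))
      = ((q ^ 2) ^ 2 - 1) * ((q ^ 2) ^ 2 - q ^ 2) := by
    rw [Fin.prod_univ_two, Nat.card_eq_fintype_card, hF]; simp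
  rw [Forms.card_isoFrame_herm hF (Forms.hermB_polar hF 4), Module.finrank_fintype_fun_eq_card,
    Fintype.card_fin, hgl, Finset.prod_range_succ, Finset.prod_range_one] at h
  rw [Nat.card_eq_fintype_card (α := F), hF] at h
  simp only [Forms.card_herm_isotropic hF, Nat.add_sub_cancel, Nat.mul_zero, Nat.sub_zero, Nat.mul_one] at h
  norm_num [Nat.even_iff, -Nat.card_eq_fintype_card] at h
  rw [Nat.card_congr (Equiv.subtypeEquivRight fun W => and_congr_right fun _ => hsub W)]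
  have h1 : q ^ 2 < (q ^ 2) ^ 2 := lt_self_pow₀ (Nat.one_lt_pow two_ne_zero hq) one_lt_two
  have hq1 : 1 ≤ q := hq.le
  have p2 : 1 ≤ q ^ 2 := Nat.one_le_pow _ _ hq1
  have p4 : 1 ≤ q ^ 4 := Nat.one_le_pow _ _ hq1
  have p22 : 1 ≤ (q ^ 2) ^ 2 := Nat.one_le_pow _ _ p2
  refine Nat.eq_of_mul_eq_mul_right (Nat.mul_pos (Nat.sub_pos_of_lt (by omega : 1 < (q ^ 2) ^ 2))
    (Nat.sub_pos_of_lt h1)) (h.trans ?_)
  zify [p2, p4, p22, h1.le]
  ring

end Cfsg.Agent.S0829
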