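import Cfsg.Statements.S0831
import Cfsg.Agent.Lib.QForm.MaximalSingular

set_option autoImplicit false
open Cfsg

namespace Cfsg.Agent.S0831

/-- The two families of maximal totally singular subspaces of the hyperbolic quadric: for the form Σ x_i y_i on F^(2m), m ≥ 1, and m-dimensional subspaces U, W, X on which it vanishes, the parities of m − dim(U ∩ W), m − dim(W ∩ X) and m − dim(U ∩ X) sum to an even number (so 'even codimension of the intersection' is an equivalence relation), and there exist two such subspaces meeting in codimension 1 (so there are exactly two classes). -/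
theorem result {F : Type*} [Field F] (m : ℕ) (hm : 1 ≤ m) : (∀ U W X : Submodule F (Fin m ⊕ Fin m → F), (Module.finrank F U = m ∧ ∀ w ∈ U, Cfsg.quadFormPlus m F w = 0) → (Module.finrank F W = m ∧ ∀ w ∈ W, Cfsg.quadFormPlus m F w = 0) → (Module.finrank F X = m ∧ ∀ w ∈ X, Cfsg.quadFormPlus m F w = 0) → Even ((m - Module.finrank F ↥(U ⊓ W)) + (m - Module.finrank F ↥(W ⊓ X)) + (m - Module.finrank F ↥(U ⊓ X)))) ∧ ∃ U W : Submodule F (Fin m ⊕ Fin m → F), (Module.finrank F U = m ∧ ∀ w ∈ U, Cfsg.quadFormPlus m F w = 0) ∧ (Module.finrank F W = m ∧ ∀ w ∈ W, Cfsg.quadFormPlus m F w = 0) ∧ Module.finrank F ↥(U ⊓ W) + 1 = m := by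
  have hQ := QForm.plusForm_nondegenerate F m
  have hV := QForm.finrank_plus F m
  refine ⟨fun U W X hU hW hX => ?_, ?_⟩
  · have conv : ∀ Y : Submodule F (Fin m ⊕ Fin m → F), (∀ w ∈ Y, Cfsg.quadFormPlus m F w = 0) →
        QForm.TotallySingular (QForm.plusForm F m) Y := fun Y h w hw => by
      rw [QForm.plusForm_apply]; exact h w hw
    have := QForm.finrank_inf_parity hQ hV (conv U hU.2) hU.1 (conv W hW.2) hW.1 (conv X hX.2) hX.1
    have h1 := (Submodule.finrank_mono (inf_le_left : U ⊓ W ≤ U)).trans_eq hU.1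
    have h2 := (Submodule.finrank_mono (inf_le_left : W ⊓ X ≤ W)).trans_eq hW.1
    have h3 := (Submodule.finrank_mono (inf_le_left : U ⊓ X ≤ U)).trans_eq hU.1
    rw [Nat.even_iff]
    omega
  · obtain ⟨L, hL, hLm⟩ := QForm.exists_plus_maximal F m
    obtain ⟨H, hHL, hHm⟩ : ∃ H, H ≤ L ∧ Module.finrank F H + 1 = m := by
      let b := Module.finBasisOfFinrankEq F L hLm
      let i : Fin m := ⟨0, hm⟩
      refine ⟨(LinearMap.ker (b.coord i)).map L.subtype, Submodule.map_subtype_le _ _, ?_⟩
      rw [Submodule.finrank_map_subtype_eq]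
      have h2 := LinearMap.finrank_range_add_finrank_ker (b.coord i)
      rw [LinearMap.range_eq_top.2 (LinearMap.surjective fun h => by
        have := LinearMap.congr_fun h (b i); simp at this), finrank_top,
        Module.finrank_self, hLm] at h2
      omega
    obtain ⟨W, hW, hWm, hHW, hne⟩ := QForm.exists_other hQ hV hL hLm hHL hHm
    refine ⟨L, W, ⟨hLm, fun w hw => ?_⟩, ⟨hWm, fun w hw => ?_⟩, ?_⟩
    · rw [← QForm.plusForm_apply]; exact hL w hw
    · rw [← QForm.plusForm_apply]; exact hW w hw
    · have hle : H ≤ L ⊓ W := le_inf hHL hHW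
      have := Submodule.finrank_mono hle
      have hlt := Submodule.finrank_lt_finrank_of_lt (lt_of_le_of_ne (inf_le_left : L ⊓ W ≤ L)
        fun h => hne (Submodule.eq_of_le_of_finrank_eq (inf_eq_left.1 h) (hLm.trans hWm.symm)).symm)
      omega

end Cfsg.Agent.S0831
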