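import Cfsg.Statements.S0832
import Cfsg.Agent.Lib.QForm.MaximalSingular

set_option autoImplicit false
open Cfsg

namespace Cfsg.Agent.S0832

/-- For the form Σ x_i y_i on F^(2m) over a finite field, m ≥ 1: an (m−1)-dimensional subspace on which the form vanishes is contained in exactly two m-dimensional subspaces on which it vanishes. -/
theorem result {F : Type*} [Field F] [Finite F] (m : ℕ) (hm : 1 ≤ m) (U : Submodule F (Fin m ⊕ Fin m → F)) (hU : Module.finrank F U + 1 = m ∧ ∀ u ∈ U, Cfsg.quadFormPlus m F u = 0) : Nat.card {W : Submodule F (Fin m ⊕ Fin m → F) // Module.finrank F W = m ∧ (∀ w ∈ W, Cfsg.quadFormPlus m F w = 0) ∧ U ≤ W} = 2 := by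
  have hQ := QForm.plusForm_nondegenerate F m
  have hV := QForm.finrank_plus F m
  have hUs : QForm.TotallySingular (QForm.plusForm F m) U := fun u hu => by
    rw [QForm.plusForm_apply]; exact hU.2 u hu
  obtain ⟨L, hL, hLm⟩ := QForm.exists_plus_maximal F m
  obtain ⟨W, hW, hWm, hUW, -⟩ := QForm.exists_extension hQ hV hUs hU.1 hL hLm
  obtain ⟨W', hW', hW'm, hUW', hne⟩ := QForm.exists_other hQ hV hW hWm hUW hU.1
  have conv : ∀ Y, QForm.TotallySingular (QForm.plusForm F m) Y ↔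
      ∀ w ∈ Y, Cfsg.quadFormPlus m F w = 0 := fun Y =>
    forall₂_congr fun w _ => by rw [QForm.plusForm_apply]
  have hset : {Y : Submodule F (Fin m ⊕ Fin m → F) | Module.finrank F Y = m ∧
      (∀ w ∈ Y, Cfsg.quadFormPlus m F w = 0) ∧ U ≤ Y} = {W', W} := by
    ext Y
    simp only [Set.mem_setOf_eq, Set.mem_insert_iff, Set.mem_singleton_iff]
    constructor
    · rintro ⟨h1, h2, h3⟩
      exact (QForm.eq_or_eq_of_submaximal hQ hV hW hWm hW' hW'm ((conv Y).2 h2) h1 hUW hUW' h3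
        hU.1 hne).symm
    · rintro (rfl | rfl)
      · exact ⟨hW'm, (conv _).1 hW', hUW'⟩
      · exact ⟨hWm, (conv _).1 hW, hUW⟩
  show Nat.card ↥{Y : Submodule F (Fin m ⊕ Fin m → F) | Module.finrank F Y = m ∧
      (∀ w ∈ Y, Cfsg.quadFormPlus m F w = 0) ∧ U ≤ Y} = 2
  rw [hset, Nat.card_coe_set_eq, Set.ncard_pair hne]

end Cfsg.Agent.S0832
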