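import Cfsg.Statements.S0833
import Cfsg.Agent.Lib.QForm.PlusType

set_option autoImplicit false
open Cfsg

namespace Cfsg.Agent.S0833

/-- If B₁, B₂ are non-degenerate alternating forms on U (dim 2k) and W (dim 2l), then B₁ ⊗ B₂ on U ⊗ W is symmetric, non-degenerate, and vanishes identically on some subspace of dimension 2kl (half of dim U ⊗ W). -/
theorem result {F U W : Type*} [Field F] [Fintype F] [AddCommGroup U] [Module F U] [FiniteDimensional F U] [AddCommGroup W] [Module F W] [FiniteDimensional F W] (B₁ : LinearMap.BilinForm F U) (B₂ : LinearMap.BilinForm F W) (h₁ : B₁.Nondegenerate) (h₂ : B₂.Nondegenerate) (hA₁ : B₁.IsAlt) (hA₂ : B₂.IsAlt) (k l : ℕ) (hU : Module.finrank F U = 2 * k) (hW : Module.finrank F W = 2 * l) : (B₁.tmul B₂).IsSymm ∧ (B₁.tmul B₂).Nondegenerate ∧ (∃ X : Submodule F (TensorProduct F U W), Module.finrank F X = 2 * k * l ∧ ∀ x ∈ X, ∀ y ∈ X, (B₁.tmul B₂) x y = 0) := by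
  refine ⟨?_, QForm.tmul_nondegenerate h₁ h₂, ?_⟩
  · refine ⟨fun x y => ?_⟩
    have e : ∀ (u u' : U) (w w' : W), (B₁.tmul B₂) (u ⊗ₜ[F] w) (u' ⊗ₜ[F] w') = (B₁.tmul B₂) (u' ⊗ₜ[F] w') (u ⊗ₜ[F] w) := by
      intro u u' w w'
      rw [LinearMap.BilinForm.tensorDistrib_tmul, LinearMap.BilinForm.tensorDistrib_tmul,
        ← LinearMap.IsAlt.neg hA₁ u' u, ← LinearMap.IsAlt.neg hA₂ w' w, smul_eq_mul, smul_eq_mul]
      ring
    show (B₁.tmul B₂) x y = (B₁.tmul B₂) y x
    induction x using TensorProduct.induction_on generalizing y with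
    | zero => simp
    | tmul u w =>
      induction y using TensorProduct.induction_on with
      | zero => simp
      | tmul u' w' => exact e u u' w w'
      | add a b ha hb => simp only [map_add, LinearMap.add_apply, ha, hb]
    | add a b ha hb => simp only [map_add, LinearMap.add_apply, ha, hb]
  · obtain ⟨L, hL, hiso⟩ := QForm.exists_isotropic_alt hA₁ h₁ (k := k) hU.ge
    have hinj : Function.Injective (LinearMap.rTensor W L.subtype) :=
      Module.Flat.rTensor_preserves_injective_linearMap _ L.injective_subtype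
    refine ⟨LinearMap.range (LinearMap.rTensor W L.subtype), ?_, ?_⟩
    · rw [LinearMap.finrank_range_of_inj hinj, Module.finrank_tensorProduct, hL, hW]
      ring
    · rintro _ ⟨x, rfl⟩ _ ⟨y, rfl⟩
      induction x using TensorProduct.induction_on generalizing y with
      | zero => simp
      | tmul u w =>
        induction y using TensorProduct.induction_on with
        | zero => simp
        | tmul u' w' =>
          rw [LinearMap.rTensor_tmul, LinearMap.rTensor_tmul, LinearMap.BilinForm.tensorDistrib_tmul,
            Submodule.subtype_apply, Submodule.subtype_apply, hiso _ u.2 _ u'.2, smul_zero]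
        | add a b ha hb => simp only [map_add, ha, hb, add_zero]
      | add a b ha hb => simp only [map_add, LinearMap.add_apply, ha, hb, add_zero]

end Cfsg.Agent.S0833
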