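import Cfsg.Statements.S0835
import Cfsg.Agent.Lib.QForm.PlusType

set_option autoImplicit false
open Cfsg

namespace Cfsg.Agent.S0835

/-- Over a finite field with 2 ≠ 0: if B₁ on U (dim 2k, k ≥ 1) is non-degenerate symmetric of minus type (no totally isotropic k-subspace) and B₂ on W (dim 2l + 1) is non-degenerate symmetric, then B₁ ⊗ B₂ (dimension 2k(2l+1)) admits no totally isotropic subspace of dimension k(2l+1) (minus type). -/
theorem result {F U W : Type*} [Field F] [Fintype F] [AddCommGroup U] [Module F U] [FiniteDimensional F U] [AddCommGroup W] [Module F W] [FiniteDimensional F W] (h2 : (2 : F) ≠ 0) (B₁ : LinearMap.BilinForm F U) (B₂ : LinearMap.BilinForm F W) (h₁ : B₁.Nondegenerate) (h₂ : B₂.Nondegenerate) (hS₁ : B₁.IsSymm) (hS₂ : B₂.IsSymm) (k l : ℕ) (hk : 1 ≤ k) (hU : Module.finrank F U = 2 * k) (hW : Module.finrank F W = 2 * l + 1) (hm₁ : ¬ (∃ X : Submodule F (U), Module.finrank F X = k ∧ ∀ x ∈ X, ∀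 y ∈ X, (B₁) x y = 0)) : ¬ (∃ X : Submodule F (TensorProduct F U W), Module.finrank F X = k * (2 * l + 1) ∧ ∀ x ∈ X, ∀ y ∈ X, (B₁.tmul B₂) x y = 0) := by
  classical
  let b₁ := Module.finBasisOfFinrankEq F U hU
  let b₂ := Module.finBasisOfFinrankEq F W hW
  have hS : LinearMap.BilinForm.IsSymm (B₁.tmul B₂) := ⟨fun x y => (LinearMap.IsSymm.tmul (B₁ := B₁) (B₂ := B₂) ⟨hS₁.eq⟩ ⟨hS₂.eq⟩).eq x y⟩
  rintro ⟨X, hX, hiso⟩
  refine hm₁ ((QForm.exists_isotropic_iff h2 hS₁ h₁ hU b₁).2 ?_)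
  obtain ⟨r, hr⟩ := QForm.isSquare_of_isotropic hS (n := k * (2 * l + 1))
    (by rw [Module.finrank_tensorProduct, hU, hW]; ring) hX hiso (b₁.tensorProduct b₂)
  rw [QForm.det_toMatrix_tmul, Fintype.card_fin, Fintype.card_fin] at hr
  have hD : (LinearMap.BilinForm.toMatrix b₁ B₁).det ≠ 0 :=
    (LinearMap.BilinForm.nondegenerate_iff_det_ne_zero b₁).1 h₁
  have hD2 : (LinearMap.BilinForm.toMatrix b₂ B₂).det ≠ 0 :=
    (LinearMap.BilinForm.nondegenerate_iff_det_ne_zero b₂).1 h₂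
  set D := (LinearMap.BilinForm.toMatrix b₁ B₁).det
  set D' := (LinearMap.BilinForm.toMatrix b₂ B₂).det
  have h3 : (-1 : F) ^ (k * (2 * l + 1)) = (-1) ^ k := by
    rw [mul_comm k, pow_mul]; simp [pow_succ, pow_mul]
  rw [h3] at hr
  refine ⟨r / (D ^ l * D' ^ k), ?_⟩
  field_simp
  linear_combination hr

end Cfsg.Agent.S0835
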