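import Cfsg.Statements.S0836
import Cfsg.Agent.Lib.GL.Simple

set_option autoImplicit false
open Cfsg

namespace Cfsg.Agent.S0836

/-- For i ≠ j and any scalar c, the elementary transvection 1 + c E_ij is a commutator ⁅g, h⁆ of two elements of SL_n(F) provided n ≥ 3, or n = 2 and F contains x ≠ 0 with x² ≠ 1. -/
theorem result {F : Type*} [Field F] (n : ℕ) (hn : 3 ≤ n ∨ (n = 2 ∧ ∃ x : F, x ≠ 0 ∧ x ^ 2 ≠ 1)) (i j : Fin n) (hij : i ≠ j) (c : F) (t : Matrix.SpecialLinearGroup (Fin n) F) (ht : (t : Matrix (Fin n) (Fin n) F) = Matrix.transvection i j c) : t ∈ commutatorSet (Matrix.SpecialLinearGroup (Fin n) F) := by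
  have e : t = Matrix.SpecialLinearGroup.transvection hij c := Subtype.ext (by
    rw [ht, Matrix.SpecialLinearGroup.transvection_coe]; rfl)
  subst e
  rw [mem_commutatorSet_iff]
  rcases hn with h | ⟨-, x, hx, hx2⟩
  · obtain ⟨k, -, hk⟩ := Finset.exists_mem_notMem_of_card_lt_card
      (s := {i, j}) (t := (Finset.univ : Finset (Fin n)))
      ((Finset.card_le_two).trans_lt (by rw [Finset.card_univ, Fintype.card_fin]; omega))
    simp only [Finset.mem_insert, Finset.mem_singleton, not_or] at hk
    exact ⟨_, _, (GL.commutator_transvection (Ne.symm hk.1) hk.2 hij c 1).trans (by rw [mul_one])⟩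
  · let d : Matrix.SpecialLinearGroup (Fin n) F :=
      ⟨Matrix.diagonal (Function.update (Function.update 1 i x) j x⁻¹), by
        rw [Matrix.det_diagonal, Finset.prod_update_of_mem (Finset.mem_univ _),
          Finset.sdiff_singleton_eq_erase, Finset.prod_update_of_mem (by simp [hij])]
        simp [hx]⟩
    set a := c / (x ^ 2 - 1) with ha
    have hne : x ^ 2 - 1 ≠ 0 := sub_ne_zero.2 hx2
    refine ⟨d, Matrix.SpecialLinearGroup.transvection hij a, ?_⟩
    rw [commutatorElement_def, mul_inv_eq_iff_eq_mul, mul_inv_eq_iff_eq_mul]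
    apply Subtype.ext
    show Matrix.diagonal (Function.update (Function.update 1 i x) j x⁻¹) * Matrix.transvection i j a =
      Matrix.transvection i j c * Matrix.transvection i j a *
        Matrix.diagonal (Function.update (Function.update 1 i x) j x⁻¹)
    rw [Matrix.transvection_mul_transvection_same i j hij]
    ext r s
    simp [d, Matrix.diagonal_mul, Matrix.mul_diagonal, Matrix.transvection, Matrix.one_apply,
      Matrix.single_apply, Function.update_apply]
    grind

end Cfsg.Agent.S0836
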