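import Cfsg.Statements.S0837
import Cfsg.Agent.Lib.Forms.Herm
import Cfsg.Agent.Lib.Forms.Classify
import Cfsg.Prelude.Def_ClassicalGeometry

set_option autoImplicit false
open Cfsg

namespace Cfsg.Agent.S0837

/-- If W ≤ F^n (|F| = q²) is a k-dimensional subspace on which the Hermitian form Σ x_i y_i^q is non-degenerate, then the stabiliser of W in GU_n(q) is isomorphic to GU_k(q) × GU_(n−k)(q). -/
theorem result {F : Type*} [Field F] [Fintype F] {q : ℕ} (hF : Fintype.card F = q ^ 2) (n k : ℕ) (hk : k ≤ n) (W : Submodule F (Fin n → F)) (hWk : Module.finrank F W = k) (hW : ∀ u ∈ W, (∀ v ∈ W, Cfsg.hermForm n F q u v = 0) → u = 0) : Nonempty (↥((Cfsg.stabilizing (Cfsg.glToMat (Fin n) F) (W : Set (Fin n → F))).subgroupOf (Cfsg.GU n F q)) ≃* ↥(Cfsg.GU k F q) × ↥(Cfsg.GU (n - k) F q)) := by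
  classical
  set B := Forms.hermB hF n with hB
  set b := Module.finBasis F W
  let C : Submodule F (Fin n → F) := LinearMap.ker (LinearMap.pi fun i => B (b i : Fin n → F))
  have hCmem : ∀ x, x ∈ C ↔ ∀ w ∈ W, Cfsg.hermForm n F q x w = 0 := by
    intro x
    constructor
    · intro hx w hw
      have h0 : ∀ i, B (b i : Fin n → F) x = 0 := fun i => congrFun (LinearMap.mem_ker.1 hx) i
      show B w x = 0
      have : (⟨w, hw⟩ : W) = ∑ i, b.repr ⟨w, hw⟩ i • b i := (b.sum_repr _).symm
      have hw' : w = ∑ i, b.repr ⟨w, hw⟩ i • (b i : Fin n → F) := by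
        have h1 := congrArg W.subtype this
        rw [map_sum] at h1
        simpa only [map_smul, Submodule.subtype_apply] using h1
      rw [hw']
      simp [map_sum, LinearMap.map_smulₛₗ, LinearMap.sum_apply, LinearMap.smul_apply, h0]
    · exact fun h => LinearMap.mem_ker.2 (funext fun i => h _ (b i).2)
  have hswap0 : ∀ u v : Fin n → F, Cfsg.hermForm n F q u v = 0 → Cfsg.hermForm n F q v u = 0 := fun u v h => by
    rw [← Forms.hermForm_swap hF, h, map_zero]
  have hdisj : W ⊓ C = ⊥ := eq_bot_iff.2 fun x hx => hW x hx.1 ((hCmem x).1 hx.2)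
  have hCdim : n ≤ k + Module.finrank F C := by
    have h := LinearMap.finrank_range_add_finrank_ker (LinearMap.pi fun i => B (b i : Fin n → F))
    have h' := Submodule.finrank_le (LinearMap.range (LinearMap.pi fun i => B (b i : Fin n → F)))
    have h1 := Module.finrank_fin_fun (R := F) (n := n)
    have h2 := Module.finrank_fin_fun (R := F) (n := Module.finrank F W)
    have : Module.finrank F C = Module.finrank F (LinearMap.ker (LinearMap.pi fun i => B (b i : Fin n → F))) := rfl
    omega
  have hsup : W ⊔ C = ⊤ := Submodule.eq_top_of_finrank_eq (by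
    have h := Submodule.finrank_sup_add_finrank_inf_eq W C
    rw [hdisj, finrank_bot, hWk] at h
    have h' := Submodule.finrank_le (W ⊔ C)
    rw [Module.finrank_fin_fun] at h' ⊢
    omega)
  have hcompl : IsCompl W C := ⟨disjoint_iff.2 hdisj, codisjoint_iff.2 hsup⟩
  have hC : Module.finrank F C = n - k := by
    have h := Submodule.finrank_add_eq_of_isCompl hcompl
    rw [Module.finrank_fin_fun, hWk] at h
    omega
  have hS : ∀ x y, Forms.qEnd hF (B x y) = B y x := fun x y => Forms.hermForm_swap hF y x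
  obtain ⟨eW, heW⟩ : ∃ e : W ≃ₗ[F] (Fin k → F), ∀ x y : W,
      B (x : Fin n → F) y = Cfsg.hermForm k F q (e y) (e x) := by
    have := Forms.exists_herm_coords (V := W) hF (B := Forms.restrictForm B W) (fun x y => hS x y)
      (fun x h => Subtype.ext (hW x x.2 fun v hv => hswap0 v x (h ⟨v, hv⟩)))
    rwa [hWk] at this
  obtain ⟨eC, heC⟩ : ∃ e : C ≃ₗ[F] (Fin (n - k) → F), ∀ x y : C,
      B (x : Fin n → F) y = Cfsg.hermForm (n - k) F q (e y) (e x) := by
    have := Forms.exists_herm_coords (V := C) hF (B := Forms.restrictForm B C) (fun x y => hS x y)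
      (fun x h => Subtype.ext ((Forms.hermB_polar hF n).sep (x : Fin n → F) fun y => by
        obtain ⟨w, hw, c, hc, rfl⟩ := Submodule.mem_sup.1 (hsup ▸ Submodule.mem_top : y ∈ W ⊔ C)
        have h1 : B (x : Fin n → F) w = 0 := hswap0 _ _ ((hCmem x).1 x.2 w hw)
        have h2 : B (x : Fin n → F) c = 0 := h ⟨c, hc⟩
        rw [map_add, h1, h2, add_zero]))
    rwa [hC] at this
  let ψ : (Fin n → F) ≃ₗ[F] (Fin k → F) × (Fin (n - k) → F) :=
    (Submodule.prodEquivOfIsCompl W C hcompl).symm.trans (eW.prodCongr eC)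
  have hψW : ∀ v, v ∈ W ↔ (ψ v).2 = 0 := by
    intro v
    show v ∈ W ↔ eC ((Submodule.prodEquivOfIsCompl W C hcompl).symm v).2 = 0
    rw [LinearEquiv.map_eq_zero_iff]
    exact (Submodule.prodEquivOfIsCompl_symm_apply_snd_eq_zero W C hcompl).symm
  have hψ : ∀ u v, Cfsg.hermForm n F q u v =
      Cfsg.hermForm k F q (ψ u).1 (ψ v).1 + Cfsg.hermForm (n - k) F q (ψ u).2 (ψ v).2 := by
    intro u v
    obtain ⟨⟨w, c⟩, rfl⟩ := (Submodule.prodEquivOfIsCompl W C hcompl).surjective u
    obtain ⟨⟨w', c'⟩, rfl⟩ := (Submodule.prodEquivOfIsCompl W C hcompl).surjective v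
    simp only [ψ, LinearEquiv.trans_apply, LinearEquiv.symm_apply_apply, LinearEquiv.prodCongr_apply]
    rw [← heW, ← heC]
    show B _ _ = _
    simp only [Submodule.coe_prodEquivOfIsCompl', map_add, LinearMap.add_apply]
    rw [show B (w' : Fin n → F) c = 0 from (hCmem c).1 c.2 w' w'.2,
      show B (c' : Fin n → F) w = 0 from hswap0 _ _ ((hCmem c').1 c'.2 w w.2)]
    ring
  let lift : (↥(Forms.isom F (Cfsg.hermForm k F q)) × ↥(Forms.isom F (Cfsg.hermForm (n - k) F q))) →*
      ((Fin n → F) ≃ₗ[F] (Fin n → F)) :=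
    { toFun := fun g => (ψ.trans (g.1.1.prodCongr g.2.1)).trans ψ.symm
      map_one' := LinearEquiv.ext fun v => by simp
      map_mul' := fun g h => LinearEquiv.ext fun v => by simp [LinearEquiv.mul_apply] }
  have hlift : ∀ g v, ψ (lift g v) = (g.1.1 (ψ v).1, g.2.1 (ψ v).2) := fun g v => by
    show ψ (ψ.symm _) = _
    rw [LinearEquiv.apply_symm_apply]; rfl
  set S := (Cfsg.stabilizing (Cfsg.glToMat (Fin n) F) (W : Set (Fin n → F))).subgroupOf (Cfsg.GU n F q)
  let G₀ : (↥(Forms.isom F (Cfsg.hermForm k F q)) × ↥(Forms.isom F (Cfsg.hermForm (n - k) F q))) →*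
      ↥(Forms.isom F (Cfsg.hermForm n F q)) :=
    lift.codRestrict _ fun g u v => by rw [hψ, hlift, hlift, g.1.2, g.2.2, ← hψ]
  let G₁ := ((Forms.guEquiv n F q).symm.toMonoidHom).comp G₀
  have hact : ∀ g v, ((G₁ g : Matrix.GeneralLinearGroup (Fin n) F) : Matrix (Fin n) (Fin n) F).mulVec v = lift g v := by
    intro g v
    have := Forms.preservingEquiv_apply (Cfsg.hermForm n F q) (G₁ g) v
    rw [← this]
    show (Forms.guEquiv n F q ((Forms.guEquiv n F q).symm (G₀ g)) : (Fin n → F) ≃ₗ[F] (Fin n → F)) v = _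
    rw [MulEquiv.apply_symm_apply]; rfl
  let Φ : (↥(Forms.isom F (Cfsg.hermForm k F q)) × ↥(Forms.isom F (Cfsg.hermForm (n - k) F q))) →* ↥S :=
    G₁.codRestrict S fun g => by
      rw [Subgroup.mem_subgroupOf]
      intro v
      show v ∈ W ↔ ((G₁ g : Matrix.GeneralLinearGroup (Fin n) F) : Matrix (Fin n) (Fin n) F).mulVec v ∈ W
      rw [hact, hψW, hψW, hlift]
      exact (LinearEquiv.map_eq_zero_iff _).symm
  have hbij : Function.Bijective Φ := by
    constructor
    · intro g h e
      have e' : ∀ v, lift g v = lift h v := fun v => by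
        rw [← hact, ← hact, show G₁ g = G₁ h from congrArg Subtype.val e]
      refine Prod.ext (Subtype.ext (LinearEquiv.ext fun a => ?_)) (Subtype.ext (LinearEquiv.ext fun c => ?_))
      · have := congrArg (fun w => (ψ w).1) (e' (ψ.symm (a, 0)))
        simpa [hlift] using this
      · have := congrArg (fun w => (ψ w).2) (e' (ψ.symm (0, c)))
        simpa [hlift] using this
    · rintro ⟨g, hg⟩
      set γ : (Fin n → F) ≃ₗ[F] (Fin n → F) := (Forms.guEquiv n F q g).1 with hγ
      have hγiso : ∀ u v, Cfsg.hermForm n F q (γ u) (γ v) = Cfsg.hermForm n F q u v := (Forms.guEquiv n F q g).2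
      have hγW : ∀ v, v ∈ W ↔ γ v ∈ W := fun v => (Subgroup.mem_subgroupOf.1 hg) v
      set h := (ψ.symm.trans γ).trans ψ with hh
      have hiso : ∀ p r, Cfsg.hermForm k F q (h p).1 (h r).1 + Cfsg.hermForm (n - k) F q (h p).2 (h r).2 =
          Cfsg.hermForm k F q p.1 r.1 + Cfsg.hermForm (n - k) F q p.2 r.2 := fun p r => by
        simp only [hh, LinearEquiv.trans_apply]
        rw [← hψ, hγiso, hψ]; simp
      have hfst : ∀ a, (h (a, 0)).2 = 0 := fun a => by
        simp only [hh, LinearEquiv.trans_apply]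
        rw [← hψW, ← hγW, hψW]; simp
      have hz : ∀ (m : ℕ) (x : Fin m → F), Cfsg.hermForm m F q x 0 = 0 := fun m x => by
        simp [Cfsg.hermForm, zero_pow (Nat.ne_of_gt (Nat.lt_of_succ_lt (Forms.one_lt_q hF)))]
      have hz' : ∀ (m : ℕ) (x : Fin m → F), Cfsg.hermForm m F q 0 x = 0 := fun m x => by simp [Cfsg.hermForm]
      have hinj1 : Function.Injective (((LinearMap.fst F _ _).comp h.toLinearMap).comp (LinearMap.inl F (Fin k → F) (Fin (n - k) → F))) := by
        rw [injective_iff_map_eq_zero]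
        intro a ha
        have : h (a, 0) = 0 := Prod.ext ha (hfst a)
        simpa using congrArg Prod.fst ((LinearEquiv.map_eq_zero_iff h).1 this)
      let h₁ := LinearEquiv.ofInjectiveEndo _ hinj1
      have hh1 : ∀ a, h (a, 0) = (h₁ a, 0) := fun a => Prod.ext rfl (hfst a)
      have hsnd : ∀ c, (h (0, c)).1 = 0 := by
        intro c
        refine (Forms.hermB_polar hF k).sep _ fun a' => ?_
        obtain ⟨a, rfl⟩ := h₁.surjective a'
        show Cfsg.hermForm k F q (h₁ a) (h (0, c)).1 = 0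
        have := hiso (a, 0) (0, c)
        simpa [hh1, hz, hz'] using this
      have hinj2 : Function.Injective (((LinearMap.snd F _ _).comp h.toLinearMap).comp (LinearMap.inr F (Fin k → F) (Fin (n - k) → F))) := by
        rw [injective_iff_map_eq_zero]
        intro c hc
        have : h (0, c) = 0 := Prod.ext (hsnd c) hc
        simpa using congrArg Prod.snd ((LinearEquiv.map_eq_zero_iff h).1 this)
      let h₂ := LinearEquiv.ofInjectiveEndo _ hinj2
      have hh2 : ∀ c, h (0, c) = (0, h₂ c) := fun c => Prod.ext (hsnd c) rfl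
      refine ⟨(⟨h₁, fun u v => ?_⟩, ⟨h₂, fun u v => ?_⟩), Subtype.ext ((Forms.guEquiv n F q).injective ?_)⟩
      · have := hiso (u, 0) (v, 0)
        simpa [hh1, hz] using this
      · have := hiso (0, u) (0, v)
        simpa [hh2, hz] using this
      · show Forms.guEquiv n F q ((Forms.guEquiv n F q).symm (G₀ _)) = _
        rw [MulEquiv.apply_symm_apply]
        refine Subtype.ext (LinearEquiv.ext fun v => ψ.injective ?_)
        show ψ (lift _ v) = ψ (γ v)
        rw [hlift]
        have hv : h (ψ v) = ψ (γ v) := by simp [hh]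
        rw [← hv, show ψ v = ((ψ v).1, 0) + (0, (ψ v).2) by simp, map_add, hh1, hh2]
        simp
  exact ⟨((MulEquiv.ofBijective Φ hbij).symm).trans
    (MulEquiv.prodCongr (Forms.guEquiv k F q).symm (Forms.guEquiv (n - k) F q).symm)⟩

end Cfsg.Agent.S0837
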