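import Cfsg.Statements.S0838
import Cfsg.Agent.Lib.QForm.PlusType

set_option autoImplicit false
open Cfsg

namespace Cfsg.Agent.S0838

/-- Over a finite field with 2 ≠ 0 and n odd: two quadratic forms Q₁, Q₂ on F^n with non-degenerate polar forms are similar — there are an invertible linear map g and a scalar c ≠ 0 with Q₂ (g v) = c · Q₁ v for all v. -/
theorem result {F : Type*} [Field F] [Fintype F] (h2 : (2 : F) ≠ 0) {n : ℕ} (hn : Odd n) (Q₁ Q₂ : QuadraticForm F (Fin n → F)) (h₁ : (QuadraticMap.polarBilin Q₁).Nondegenerate) (h₂ : (QuadraticMap.polarBilin Q₂).Nondegenerate) : ∃ (g : (Fin n → F) ≃ₗ[F] (Fin n → F)) (c : F), c ≠ 0 ∧ ∀ v, Q₂ (g v) = c * Q₁ v := by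
  classical
  have hchar : ringChar F ≠ 2 := fun h => h2 (by
    have := ringChar.Nat.cast_ringChar (R := F); rw [h] at this; exact_mod_cast this)
  set b := Pi.basisFun F (Fin n) with hb
  set d₁ := (QForm.gram ⇑Q₁ ⇑b).det with hd₁
  set d₂ := (QForm.gram ⇑Q₂ ⇑b).det with hd₂
  have hc : d₁ * d₂ ≠ 0 := mul_ne_zero (QForm.det_gram_ne_zero h₁ b) (QForm.det_gram_ne_zero h₂ b)
  have hsep : (QuadraticMap.polarBilin ((d₁ * d₂) • Q₁)).Nondegenerate := by
    have hl : ∀ x, (∀ y, QuadraticMap.polarBilin ((d₁ * d₂) • Q₁) x y = 0) → x = 0 := fun x hx => h₁.1 x fun y => by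
      have := hx y
      simp only [QuadraticMap.polarBilin_apply_apply, QuadraticMap.coeFn_smul, QuadraticMap.polar_smul,
        smul_eq_mul] at this
      exact (mul_eq_zero.1 this).resolve_left hc
    exact ⟨hl, fun y hy => hl y fun x => (QuadraticMap.polar_comm _ _ _).trans (hy x)⟩
  have hgram : (QForm.gram ⇑((d₁ * d₂) • Q₁) ⇑b).det = (d₁ * d₂) ^ n * d₁ := by
    have : QForm.gram ⇑((d₁ * d₂) • Q₁) ⇑b = (d₁ * d₂) • QForm.gram ⇑Q₁ ⇑b := by
      ext i j
      simp [QForm.gram, QuadraticMap.polar_smul]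
    rw [this, Matrix.det_smul, Fintype.card_fin]
  obtain ⟨k, hk⟩ := hn
  obtain ⟨g, hg⟩ := (QForm.isometric_iff h2 _ Q₂ hsep h₂ b b).2 ⟨(d₁ * d₂) ^ (k + 1), by
    rw [hgram, ← hd₂, hk, two_mul, pow_add, pow_add, pow_add, pow_one]; ring⟩
  exact ⟨g, d₁ * d₂, hc, fun v => by rw [hg, QuadraticMap.smul_apply, smul_eq_mul]⟩

end Cfsg.Agent.S0838
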