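import Cfsg.Statements.S0839
import Cfsg.Agent.S2579

set_option autoImplicit false
open Cfsg
open scoped Matrix

namespace Cfsg.Agent.S0839

/-- Every transvection t ∈ SL_(n+2)(F) (rank(t − 1) = 1, (t − 1)² = 0) is conjugate in SL_(n+2)(F) to 1 + v·e_0ᵀ for some column vector v with v_0 = 0 (the group A of matrices that are the identity except in the first column below the diagonal); the dimension is written n + 2 ≥ 2. -/
theorem result {F : Type*} [Field F] (n : ℕ) (t : Matrix.SpecialLinearGroup (Fin (n + 2)) F) (ht : Cfsg.IsTransvection (t : Matrix (Fin (n + 2)) (Fin (n + 2)) F)) : ∃ (g : Matrix.SpecialLinearGroup (Fin (n + 2)) F) (v : Fin (n + 2) → F), v 0 = 0 ∧ ((g⁻¹ * t * g : Matrix.SpecialLinearGroup (Fin (n + 2)) F) : Matrix (Fin (n + 2)) (Fin (n + 2)) F) = 1 + Matrix.vecMulVec v (Pi.single 0 1) := by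
  classical
  obtain ⟨a, φ, -, hφ, hM⟩ : ∃ a φ : Fin (n + 2) → F, a ≠ 0 ∧ φ ≠ 0 ∧
      (t : Matrix (Fin (n + 2)) (Fin (n + 2)) F) - 1 = Matrix.vecMulVec a φ := S2579.exists_vecMulVec _ ht.1
  have hφa : φ ⬝ᵥ a = 0 := by
    have h := ht.2
    rw [hM, Matrix.vecMulVec_mul_vecMulVec] at h
    obtain ⟨j, hj⟩ := Function.ne_iff.1 hφ
    by_contra hne
    have ha : a = 0 := funext fun i => by
      have := congrFun (congrFun h i) j
      simp [Matrix.vecMulVec_apply, hne, hj] at this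
      exact this.resolve_right hj
    exact hne (by rw [ha, dotProduct_zero])
  set e0 : Fin (n + 2) → F := Pi.single 0 1 with he0
  obtain ⟨N, hN⟩ := GL.exists_GL_of_linearIndependent (v := fun _ : Unit => e0) (w := fun _ : Unit => φ)
    (LinearIndependent.of_subsingleton () (by rw [he0]; simp)) (LinearIndependent.of_subsingleton () hφ)
  set g : Matrix (Fin (n + 2)) (Fin (n + 2)) F := (N⁻¹ : GL (Fin (n + 2)) F).val.transpose with hg
  have hφg : φ ᵥ* g = e0 := by
    rw [hg, Matrix.vecMul_transpose, ← hN (), Matrix.mulVec_mulVec, ← Units.val_mul, inv_mul_cancel]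
    simp
  have hgdet : g.det ≠ 0 := by
    rw [hg, Matrix.det_transpose]; exact Matrix.GeneralLinearGroup.det_ne_zero _
  set D : Matrix (Fin (n + 2)) (Fin (n + 2)) F :=
    Matrix.diagonal (Function.update (fun _ => 1) 1 g.det⁻¹) with hD
  have hP : (g * D).det = 1 := by
    rw [Matrix.det_mul, hD, Matrix.det_diagonal, Finset.prod_update_of_mem (Finset.mem_univ _)]
    simp [hgdet]
  let P : Matrix.SpecialLinearGroup (Fin (n + 2)) F := ⟨g * D, hP⟩
  set v := ((P⁻¹ : Matrix.SpecialLinearGroup (Fin (n + 2)) F) : Matrix (Fin (n + 2)) (Fin (n + 2)) F) *ᵥ a with hv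
  have hφP : φ ᵥ* (P : Matrix (Fin (n + 2)) (Fin (n + 2)) F) = e0 := by
    show φ ᵥ* (g * D) = e0
    rw [← Matrix.vecMul_vecMul, hφg]
    ext i
    rw [hD, Matrix.vecMul_diagonal]
    by_cases hi : i = 1
    · subst hi; simp [he0]
    · simp [he0, hi]
  refine ⟨P, v, ?_, ?_⟩
  · have : v 0 = e0 ⬝ᵥ v := by rw [he0, single_dotProduct, one_mul]
    rw [this, ← hφP, ← Matrix.dotProduct_mulVec, hv, Matrix.mulVec_mulVec, ← Matrix.SpecialLinearGroup.coe_mul,
      mul_inv_cancel, Matrix.SpecialLinearGroup.coe_one, Matrix.one_mulVec, hφa]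
  · rw [Matrix.SpecialLinearGroup.coe_mul, Matrix.SpecialLinearGroup.coe_mul,
      show (t : Matrix (Fin (n + 2)) (Fin (n + 2)) F) = 1 + Matrix.vecMulVec a φ by rw [← hM, add_sub_cancel],
      mul_add, add_mul, mul_one, Matrix.mul_vecMulVec, Matrix.vecMulVec_mul, hφP, ← hv,
      ← Matrix.SpecialLinearGroup.coe_mul, inv_mul_cancel, Matrix.SpecialLinearGroup.coe_one]

end Cfsg.Agent.S0839
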