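import Cfsg.Statements.S0840
import Cfsg.Agent.Lib.Char.ClassSum

set_option autoImplicit false
open scoped ComplexConjugate
open Cfsg

namespace Cfsg.Agent.S0840

/-- Class multiplication coefficients from the character table: for elements a, b, c of a finite group G, the number of ordered pairs (x, y) with x conjugate to a, y conjugate to b and x * y = c equals the product of the sizes of the conjugacy classes of a and b, divided by the order of G, times the sum over the irreducible characters χ of χ a * χ b * conj (χ c) / χ 1. -/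
theorem result {G : Type*} [Group G] [Finite G] (a b c : G) : (Nat.card {p : G × G // IsConj a p.1 ∧ IsConj b p.2 ∧ p.1 * p.2 = c} : ℂ) = (Nat.card {x : G // IsConj a x} : ℂ) * (Nat.card {x : G // IsConj b x} : ℂ) / (Nat.card G : ℂ) * ∑ᶠ χ : Cfsg.IrrCharacter G, (χ : G → ℂ) a * (χ : G → ℂ) b * conj ((χ : G → ℂ) c) / (χ : G → ℂ) 1 := by
  classical
  haveI := Fintype.ofFinite G
  rw [finsum_eq_sum_of_fintype]
  have key := Char.card_conj_mul_conj_eq a b c
  set T := {p : G × G // IsConj a p.1 ∧ IsConj b p.2 ∧ p.1 * p.2 = c}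
  let u : ∀ q : T, G × G := fun q => ((isConj_iff.1 q.2.1).choose, (isConj_iff.1 q.2.2.1).choose)
  have hu : ∀ q : T, (u q).1 * a * (u q).1⁻¹ = q.1.1 ∧ (u q).2 * b * (u q).2⁻¹ = q.1.2 := fun q =>
    ⟨(isConj_iff.1 q.2.1).choose_spec, (isConj_iff.1 q.2.2.1).choose_spec⟩
  let E : T × (Subgroup.centralizer ({a} : Set G) × Subgroup.centralizer ({b} : Set G)) →
      {p : G × G // p.1 * a * p.1⁻¹ * (p.2 * b * p.2⁻¹) = c} := fun x =>
    ⟨((u x.1).1 * x.2.1, (u x.1).2 * x.2.2), by
      have ha := Subgroup.mem_centralizer_singleton_iff.1 x.2.1.2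
      have hb := Subgroup.mem_centralizer_singleton_iff.1 x.2.2.2
      have e1 : (u x.1).1 * (x.2.1 : G) * a * ((u x.1).1 * (x.2.1 : G))⁻¹ = x.1.1.1 := by
        rw [mul_assoc (u x.1).1, ha, ← (hu x.1).1]; group
      have e2 : (u x.1).2 * (x.2.2 : G) * b * ((u x.1).2 * (x.2.2 : G))⁻¹ = x.1.1.2 := by
        rw [mul_assoc (u x.1).2, hb, ← (hu x.1).2]; group
      show (u x.1).1 * (x.2.1 : G) * a * ((u x.1).1 * (x.2.1 : G))⁻¹ * _ = c
      rw [e1, e2, x.1.2.2.2]⟩
  have hE : Function.Bijective E := by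
    constructor
    · intro x y hxy
      have h := congrArg Subtype.val hxy
      simp only [E, Prod.mk.injEq] at h
      have hx1 : ∀ z : T × (Subgroup.centralizer ({a} : Set G) × Subgroup.centralizer ({b} : Set G)),
          (u z.1).1 * (z.2.1 : G) * a * ((u z.1).1 * (z.2.1 : G))⁻¹ = z.1.1.1 ∧
          (u z.1).2 * (z.2.2 : G) * b * ((u z.1).2 * (z.2.2 : G))⁻¹ = z.1.1.2 := by
        intro z
        constructor
        · rw [mul_assoc (u z.1).1, Subgroup.mem_centralizer_singleton_iff.1 z.2.1.2, ← (hu z.1).1]; group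
        · rw [mul_assoc (u z.1).2, Subgroup.mem_centralizer_singleton_iff.1 z.2.2.2, ← (hu z.1).2]; group
      have hq : x.1 = y.1 := Subtype.ext (Prod.ext
        (by rw [← (hx1 x).1, ← (hx1 y).1, h.1]) (by rw [← (hx1 x).2, ← (hx1 y).2, h.2]))
      rw [hq, mul_right_inj, mul_right_inj] at h
      exact Prod.ext hq (Prod.ext (Subtype.ext h.1) (Subtype.ext h.2))
    · rintro ⟨⟨g, g'⟩, hg⟩
      let q : T := ⟨(g * a * g⁻¹, g' * b * g'⁻¹), isConj_iff.2 ⟨g, rfl⟩, isConj_iff.2 ⟨g', rfl⟩, hg⟩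
      have h1 : (u q).1⁻¹ * g ∈ Subgroup.centralizer ({a} : Set G) := by
        rw [Subgroup.mem_centralizer_singleton_iff]
        have := (hu q).1
        calc (u q).1⁻¹ * g * a = (u q).1⁻¹ * (g * a * g⁻¹) * g := by group
          _ = (u q).1⁻¹ * ((u q).1 * a * (u q).1⁻¹) * g := by rw [this]
          _ = a * ((u q).1⁻¹ * g) := by group
      have h2 : (u q).2⁻¹ * g' ∈ Subgroup.centralizer ({b} : Set G) := by
        rw [Subgroup.mem_centralizer_singleton_iff]
        have := (hu q).2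
        calc (u q).2⁻¹ * g' * b = (u q).2⁻¹ * (g' * b * g'⁻¹) * g' := by group
          _ = (u q).2⁻¹ * ((u q).2 * b * (u q).2⁻¹) * g' := by rw [this]
          _ = b * ((u q).2⁻¹ * g') := by group
      exact ⟨(q, ⟨_, h1⟩, ⟨_, h2⟩), Subtype.ext (Prod.ext (mul_inv_cancel_left _ _) (mul_inv_cancel_left _ _))⟩
  have hcard := Nat.card_eq_of_bijective E hE
  rw [← hcard, Nat.card_prod, Nat.card_prod] at key
  have ha := Char.card_centralizer_mul_card_conj a
  have hb := Char.card_centralizer_mul_card_conj b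
  push_cast at key
  have hG : (Nat.card G : ℂ) ≠ 0 := Char.card_ne_zero
  have hsum : ∑ χ : IrrCharacter G, χ.1 a * χ.1 b * χ.1 c⁻¹ / χ.1 1 =
      ∑ χ : IrrCharacter G, χ.1 a * χ.1 b * (starRingEnd ℂ) (χ.1 c) / χ.1 1 :=
    Finset.sum_congr rfl fun χ _ => by rw [Char.IsCharacter.conj_apply (Char.irr_isCharacter χ)]
  rw [hsum] at key
  have ha' : (Nat.card (Subgroup.centralizer ({a} : Set G)) : ℂ) * Nat.card {x : G // IsConj a x} = Nat.card G := by
    exact_mod_cast ha
  have hb' : (Nat.card (Subgroup.centralizer ({b} : Set G)) : ℂ) * Nat.card {x : G // IsConj b x} = Nat.card G := by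
    exact_mod_cast hb
  rw [div_mul_eq_mul_div, eq_div_iff hG]
  apply mul_left_cancel₀ hG
  linear_combination ((Nat.card {x : G // IsConj a x} : ℂ) * Nat.card {x : G // IsConj b x}) * key -
    ((Nat.card T : ℂ) * Nat.card G) * ha' -
    ((Nat.card T : ℂ) * (Nat.card (Subgroup.centralizer ({a} : Set G))) * Nat.card {x : G // IsConj a x}) * hb'

end Cfsg.Agent.S0840
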