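import Cfsg.Statements.S0841
import Cfsg.Agent.Lib.PGroup.Class2

set_option autoImplicit false
open Cfsg
open scoped commutatorElement

namespace Cfsg.Agent.S0841

/-- If the commutator subgroup of G lies in the centre, then for all x, y in G and every natural number n one has (x * y) ^ n = x ^ n * y ^ n * c ^ (n * (n - 1) / 2) with c = y⁻¹ * x⁻¹ * y * x. -/
theorem result {G : Type*} [Group G] (hG : commutator G ≤ Subgroup.center G) (x y : G) (n : ℕ) : (x * y) ^ n = x ^ n * y ^ n * (y⁻¹ * x⁻¹ * y * x) ^ (n * (n - 1) / 2) := by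
  rw [← Nat.choose_two_right]
  have hc : ∀ a b : G, ⁅a, b⁆ ∈ Subgroup.center G := fun a b =>
    hG (Subgroup.commutator_mem_commutator (Subgroup.mem_top a) (Subgroup.mem_top b))
  have h := hc y x
  have e : ⁅y, x⁆ = y⁻¹ * x⁻¹ * y * x := by
    have h1 : (y * x) * (y⁻¹ * x⁻¹ * y * x) * (y * x)⁻¹ = y⁻¹ * x⁻¹ * y * x := by
      have hz := hc y⁻¹ x⁻¹
      rw [commutatorElement_def, inv_inv, inv_inv] at hz
      rw [(Subgroup.mem_center_iff.mp hz (y * x)), mul_inv_cancel_right]
    rw [← h1, commutatorElement_def]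
    group
  rw [← e]
  exact PGroup.mul_pow_of_central h n

end Cfsg.Agent.S0841
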