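import Cfsg.Statements.S0849
-- import your own Cfsg.Agent.* helpers here

set_option autoImplicit false
open Cfsg

namespace Cfsg.Agent.S0849

/-- Let H be a subgroup of a finite group G and S a subset of H that is mapped to itself under conjugation by H, is disjoint from its conjugate by any element outside H, and is closed under inverses. Let φ be a class function of H vanishing on H away from S, and let u, v be involutions of G. Then the sum of the induced function of φ over all products a * b with a conjugate to u and b conjugate to v equals the index of H times the sum of φ (a * b) over such pairs with a and b in H. -/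
theorem result {G : Type*} [Group G] [Fintype G] (H : Subgroup G) (S : Set G) (hSH : S ⊆ H) (hHS : ∀ h ∈ H, ∀ s ∈ S, h * s * h⁻¹ ∈ S) (hTI : ∀ g : G, g ∉ H → ∀ s ∈ S, g * s * g⁻¹ ∉ S) (hinv : ∀ s ∈ S, s⁻¹ ∈ S) (φ : H → ℂ) (hφ : Cfsg.IsClassFunction H φ) (hφS : ∀ x : H, (x : G) ∉ S → φ x = 0) (u v : G) (hu : orderOf u = 2) (hv : orderOf v = 2) : ∑ᶠ p ∈ {p : G × G | IsConj u p.1 ∧ IsConj v p.2}, Cfsg.indFun H φ (p.1 * p.2) = (H.index : ℂ) * ∑ᶠ p ∈ {p : H × H | IsConj u (p.1 : G) ∧ IsConj v (p.2 : G)}, φ (p.1 * p.2) := by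
  classical
  set f := extendByZero H φ with hf
  have hfH : ∀ x : H, f x = φ x := fun x => Subtype.val_injective.extend_apply _ _ x
  have hfS : ∀ g, g ∉ S → f g = 0 := fun g hg => by
    by_cases hgH : g ∈ H
    · exact (hfH ⟨g, hgH⟩).trans (hφS _ hg)
    · exact Function.extend_apply' _ _ _ fun ⟨a, ha⟩ => hgH (ha ▸ a.2)
  set P : Finset (G × G) := Finset.univ.filter fun p => IsConj u p.1 ∧ IsConj v p.2 with hP
  set Q : Finset (H × H) := Finset.univ.filter fun p => IsConj u (p.1 : G) ∧ IsConj v (p.2 : G) with hQ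
  rw [show {p : G × G | IsConj u p.1 ∧ IsConj v p.2} = (↑P : Set (G × G)) by ext; simp [hP],
    show {p : H × H | IsConj u (p.1 : G) ∧ IsConj v (p.2 : G)} = (↑Q : Set (H × H)) by ext; simp [hQ],
    finsum_mem_coe_finset, finsum_mem_coe_finset]
  have hinvol : ∀ {x y : G}, orderOf x = 2 → IsConj x y → y⁻¹ = y := fun {x y} hx hxy => by
    obtain ⟨c, rfl⟩ := isConj_iff.1 hxy
    have hx' : x * x = 1 := by rw [← sq, ← hx]; exact pow_orderOf_eq_one x
    rw [mul_inv_rev, mul_inv_rev, inv_inv, inv_eq_of_mul_eq_one_right hx', mul_assoc]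
  have hshift : ∀ x : G, ∑ p ∈ P, f (x⁻¹ * (p.1 * p.2) * x) = ∑ p ∈ P, f (p.1 * p.2) := fun x => by
    refine Finset.sum_nbij' (fun p => (x⁻¹ * p.1 * x, x⁻¹ * p.2 * x)) (fun p => (x * p.1 * x⁻¹, x * p.2 * x⁻¹))
      ?_ ?_ ?_ ?_ ?_
    · intro p hp
      simp only [hP, Finset.coe_filter, Finset.mem_filter, Finset.mem_univ, true_and, Set.mem_setOf_eq] at hp ⊢
      exact ⟨hp.1.trans (isConj_iff.2 ⟨x⁻¹, by simp⟩), hp.2.trans (isConj_iff.2 ⟨x⁻¹, by simp⟩)⟩
    · intro p hp
      simp only [hP, Finset.coe_filter, Finset.mem_filter, Finset.mem_univ, true_and, Set.mem_setOf_eq] at hp ⊢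
      exact ⟨hp.1.trans (isConj_iff.2 ⟨x, rfl⟩), hp.2.trans (isConj_iff.2 ⟨x, rfl⟩)⟩
    · intro p _; simp [mul_assoc]
    · intro p _; simp [mul_assoc]
    · intro p _; congr 1; group
  have hres : ∑ p ∈ P, f (p.1 * p.2) = ∑ p ∈ Q, φ (p.1 * p.2) := by
    rw [← Finset.sum_filter_of_ne (p := fun p : G × G => p.1 ∈ H ∧ p.2 ∈ H)]
    · refine (Finset.sum_nbij (fun p => ((p.1 : G), (p.2 : G))) ?_ ?_ ?_ ?_).symm
      · intro p hp
        simp only [hP, hQ, Finset.coe_filter, Finset.mem_filter, Finset.mem_univ, true_and, Set.mem_setOf_eq] at hp ⊢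
        exact ⟨hp, p.1.2, p.2.2⟩
      · intro p _ p' _ h
        exact Prod.ext (Subtype.ext (congrArg Prod.fst h)) (Subtype.ext (congrArg Prod.snd h))
      · intro p hp
        simp only [hP, hQ, Finset.coe_filter, Finset.mem_filter, Finset.mem_univ, true_and, Set.mem_setOf_eq,
          Set.mem_image] at hp ⊢
        exact ⟨(⟨p.1, hp.2.1⟩, ⟨p.2, hp.2.2⟩), hp.1, rfl⟩
      · intro p _
        exact (hfH (p.1 * p.2)).symm
    · intro p hp hne
      simp only [hP, Finset.mem_filter, Finset.mem_univ, true_and] at hp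
      have hs : p.1 * p.2 ∈ S := by
        by_contra h; exact hne (hfS _ h)
      have h1 : p.1 ∈ H := by
        by_contra h
        apply hTI _ h _ hs
        have ha : p.1 * p.1 = 1 := by conv_lhs => arg 1; rw [← hinvol hu hp.1]
                                      exact inv_mul_cancel _
        have : p.1 * (p.1 * p.2) * p.1⁻¹ = (p.1 * p.2)⁻¹ := by
          rw [← mul_assoc, ha, one_mul, hinvol hu hp.1, mul_inv_rev, hinvol hu hp.1, hinvol hv hp.2]
        rw [this]; exact hinv _ hs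
      exact ⟨h1, (H.mul_mem_cancel_left h1).1 (hSH hs)⟩
  simp only [Cfsg.indFun]
  rw [← Finset.mul_sum, Finset.sum_comm]
  rw [Finset.sum_congr rfl fun x _ => hshift x, hres, Finset.sum_const, Finset.card_univ, nsmul_eq_mul,
    ← mul_assoc]
  congr 1
  rw [← Nat.card_eq_fintype_card, ← H.index_mul_card, Nat.cast_mul,
    mul_comm (H.index : ℂ), ← mul_assoc, inv_mul_cancel₀ (Nat.cast_ne_zero.2 Nat.card_pos.ne'), one_mul]

end Cfsg.Agent.S0849
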