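import Cfsg.Statements.S0850
import Mathlib
import Cfsg.Agent.Lib.Char.Induction

set_option autoImplicit false
open Cfsg

namespace Cfsg.Agent.S0850

/-- A `p`-element normalising `K`, with `p` dividing `|K|`, lies in `K`. -/
theorem mem_of_pElement {G : Type*} [Group G] [Finite G] (K : Subgroup G)
    (hC : ∀ k ∈ K, k ≠ 1 → Subgroup.centralizer ({k} : Set G) ≤ K) {p : ℕ} [Fact p.Prime]
    (hp : p ∣ Nat.card K) (y : G) (hy : y ∈ Subgroup.normalizer (K : Set G))
    (hyp : ∃ k : ℕ, orderOf y = p ^ k) : y ∈ K := by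
  obtain ⟨k, hk⟩ := hyp
  let y' : Subgroup.normalizer (K : Set G) := ⟨y, hy⟩
  let P := Subgroup.zpowers y'
  letI : MulAction P K := MulAction.compHom _ (K.normalizerMonoidHom.comp P.subtype)
  have hP : IsPGroup p P := IsPGroup.of_card (n := k) (by
    rw [Nat.card_zpowers, ← Subgroup.orderOf_coe]; exact hk)
  have h1 : (1 : K) ∈ MulAction.fixedPoints P K := fun a => map_one ((K.normalizerMonoidHom.comp P.subtype) a)
  obtain ⟨b, hb, hne⟩ := hP.exists_fixed_point_of_prime_dvd_card_of_fixed_point K hp h1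
  have := hb ⟨y', Subgroup.mem_zpowers y'⟩
  have h2 : y * (b : G) * y⁻¹ = b := congrArg Subtype.val this
  refine hC b b.2 (fun h => hne (Subtype.ext h.symm)) ?_
  exact Subgroup.mem_centralizer_singleton_iff.2 (mul_inv_eq_iff_eq_mul.1 h2)

theorem mem_of_conj_mem {G : Type*} [Group G] [Finite G] (K : Subgroup G)
    (hC : ∀ k ∈ K, k ≠ 1 → Subgroup.centralizer ({k} : Set G) ≤ K)
    (x : G) (hx : x ∈ Subgroup.normalizer (K : Set G)) (g : G) (hg : g * x * g⁻¹ ∈ K) : x ∈ K := by
  have hdvd : orderOf x ∣ Nat.card K := by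
    have := Subgroup.orderOf_dvd_natCard K hg
    rwa [← MulAut.conj_apply, MulEquiv.orderOf_eq] at this
  by_contra hxK
  obtain ⟨n, hn⟩ : ∃ n, orderOf x = n := ⟨_, rfl⟩
  rcases Nat.eq_or_lt_of_le (Nat.one_le_iff_ne_zero.2 (hn ▸ (orderOf_pos x).ne')) with h1 | h1
  · exact hxK (by rw [orderOf_eq_one_iff.1 (hn.trans h1.symm)]; exact one_mem K)
  · obtain ⟨p, hp, hpn⟩ := Nat.exists_prime_and_dvd (n := n) (by omega)
    haveI := Fact.mk hp
    set a := n.factorization p
    have ha : 0 < a := hp.factorization_pos_of_dvd (by omega) hpn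
    have hdiv : p ^ a ∣ n := Nat.ordProj_dvd n p
    have hm0 : n / p ^ a ≠ 0 := (Nat.div_pos (Nat.le_of_dvd (by omega) hdiv) (pow_pos hp.pos a)).ne'
    have hy : x ^ (n / p ^ a) ∈ K := by
      refine mem_of_pElement K hC (hpn.trans (hn ▸ hdvd)) _ (pow_mem hx _) ⟨a, ?_⟩
      rw [orderOf_pow' _ hm0, hn, Nat.gcd_eq_right (Nat.div_dvd_of_dvd hdiv),
        Nat.div_div_self hdiv (by omega)]
    have hne : x ^ (n / p ^ a) ≠ 1 := by
      intro h
      have h2 := Nat.le_of_dvd (Nat.pos_of_ne_zero hm0) (hn ▸ orderOf_dvd_of_pow_eq_one h)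
      have : n / p ^ a < n := Nat.div_lt_self (by omega) (Nat.one_lt_pow ha.ne' hp.one_lt)
      omega
    exact hxK (hC _ hy hne (Subgroup.mem_centralizer_singleton_iff.2 ((Commute.pow_right rfl _).eq)))

/-- Let K be a subgroup of the finite group G that meets each conjugate by an element outside its normalizer N trivially, is properly contained in N, and contains the centralizer of each of its non-identity elements (a T.I. subgroup with Frobenius normalizer). Then no element of N outside K is conjugate in G to an element of K, and for every class function ϑ of N that vanishes on N away from K and at the identity, the function induced from ϑ to G agrees with ϑ on all of N. -/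
theorem result {G : Type*} [Group G] [Fintype G] (K : Subgroup G) (hTI : ∀ g : G, g ∉ Subgroup.normalizer (K : Set G) → ∀ k ∈ K, g * k * g⁻¹ ∈ K → k = 1) (hlt : K < Subgroup.normalizer (K : Set G)) (hC : ∀ k ∈ K, k ≠ 1 → Subgroup.centralizer ({k} : Set G) ≤ K) : (∀ x ∈ Subgroup.normalizer (K : Set G), x ∉ K → ∀ g : G, g * x * g⁻¹ ∉ K) ∧ ∀ (ϑ : Subgroup.normalizer (K : Set G) → ℂ), Cfsg.IsClassFunction (Subgroup.normalizer (K : Set G)) ϑ → (∀ x : Subgroup.normalizer (K : Set G), (x : G) ∉ K → ϑ x = 0) → ϑ 1 = 0 → ∀ x : Subgroup.normalizer (K : Set G), Cfsg.indFun (Subgroup.normalizer (K : Set G)) ϑ x = ϑ x := by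
  have key : ∀ x ∈ Subgroup.normalizer (K : Set G), x ∉ K → ∀ g : G, g * x * g⁻¹ ∉ K := by
    intro x hxN hxK g hgx
    exact hxK (mem_of_conj_mem K hC x hxN g hgx)
  refine ⟨key, fun ϑ hcl hoff h1 x => ?_⟩
  classical
  have hterm : ∀ g : G, extendByZero (Subgroup.normalizer (K : Set G)) ϑ (g⁻¹ * x * g) = if g ∈ (Subgroup.normalizer (K : Set G)) then ϑ x else 0 := by
    intro g
    by_cases hg : g ∈ (Subgroup.normalizer (K : Set G))
    · rw [if_pos hg]
      have : (g⁻¹ * x * g : G) = ((⟨g, hg⟩⁻¹ * x * ⟨g, hg⟩ : (Subgroup.normalizer (K : Set G))) : G) := rfl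
      rw [this, Char.extendByZero_coe]
      simpa using hcl x (⟨g, hg⟩⁻¹)
    · rw [if_neg hg]
      by_cases hm : g⁻¹ * x * g ∈ (Subgroup.normalizer (K : Set G))
      · rw [Char.extendByZero_of_mem (Subgroup.normalizer (K : Set G)) ϑ hm]
        by_cases hk : g⁻¹ * x * g ∈ K
        · have hxK : (x : G) ∈ K := by
            by_contra hxK
            exact key x x.2 hxK g⁻¹ (by simpa using hk)
          have h2 := hTI g hg _ hk (by simpa [mul_assoc] using hxK)
          have : (⟨g⁻¹ * x * g, hm⟩ : (Subgroup.normalizer (K : Set G))) = 1 := Subtype.ext h2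
          rw [this, h1]
        · exact hoff _ hk
      · exact Char.extendByZero_of_notMem (Subgroup.normalizer (K : Set G)) ϑ hm
  rw [indFun]
  simp only [hterm]
  rw [← Finset.sum_filter, Finset.sum_const, nsmul_eq_mul, ← Fintype.card_subtype,
    ← mul_assoc, Nat.card_eq_fintype_card, inv_mul_cancel₀, one_mul]
  exact Nat.cast_ne_zero.2 Fintype.card_ne_zero

end Cfsg.Agent.S0850
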