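import Cfsg.Statements.S0855
import Cfsg.Agent.Lib.Char.ThompsonDegree
import Cfsg.Agent.Lib.Char.Ito
import Cfsg.Agent.Lib.Char.Descend
import Cfsg.Agent.Lib.Glauberman.Solvable
import Cfsg.Agent.S0887

set_option autoImplicit false
set_option linter.style.haveILetI false
open Cfsg

namespace Cfsg.Agent.S0855

open Cfsg.Agent Cfsg.Agent.Char


/-- For a finite group G and a prime p: every irreducible character of G has degree a power of p if and only if G has an abelian normal subgroup whose order is prime to p and whose index is a power of p. -/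
theorem result {G : Type*} [Group G] [Finite G] (p : ℕ) (hp : p.Prime) : (∀ χ : Cfsg.IrrCharacter G, ∃ k : ℕ, (χ : G → ℂ) 1 = (p : ℂ) ^ k) ↔ ∃ A : Subgroup G, A.Normal ∧ (∀ a ∈ A, ∀ b ∈ A, a * b = b * a) ∧ Nat.Coprime (Nat.card A) p ∧ ∃ k : ℕ, A.index = p ^ k := by
  haveI := Fact.mk hp
  haveI := Fintype.ofFinite G
  constructor
  · intro h
    have hdeg : ∀ χ : Cfsg.IrrCharacter G, ∃ k, degree χ = p ^ k := fun χ => by
      obtain ⟨k, hk⟩ := h χ
      rw [apply_one_eq_degree] at hk
      exact ⟨k, by exact_mod_cast hk⟩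
    have hK := not_dvd_card_pResidual_of_dvd_degree p hp fun χ hχ => by
      obtain ⟨k, hk⟩ := hdeg χ
      rw [hk]
      exact dvd_pow_self p fun h0 => hχ (by rw [hk, h0, pow_zero])
    haveI : (Cfsg.pResidual p G).Normal := Transfer.pResidual_normal p
    haveI := Fintype.ofFinite (Cfsg.pResidual p G)
    obtain ⟨a, ha⟩ := Transfer.index_pResidual_eq_pow (G := G) p
    refine ⟨_, Transfer.pResidual_normal p, ?_, (hp.coprime_iff_not_dvd.2 hK).symm, a, ha⟩
    have h1 : ∀ θ : Cfsg.IrrCharacter (Cfsg.pResidual p G), θ.1 1 = 1 := fun θ => by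
      obtain ⟨χ, hχ⟩ := Glauberman.exists_over (Cfsg.pResidual p G).subtype Subtype.val_injective θ
      obtain ⟨hd, -⟩ := Cfsg.Agent.S0887.result _ χ.1 χ.2 θ.1 θ.2 hχ (degree χ) (degree θ)
        (apply_one_eq_degree χ) (apply_one_eq_degree θ)
      have hd' : degree θ ∣ Nat.card (Cfsg.pResidual p G) := by
        rw [← charDegree_eq_degree]; exact charDegree_dvd_card θ
      obtain ⟨k, hk⟩ := hdeg χ
      have hco : Nat.Coprime (degree θ) (degree χ) := by
        rw [hk]
        exact (((hp.coprime_iff_not_dvd.2 hK).symm.coprime_dvd_left hd')).pow_right k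
      rw [apply_one_eq_degree, hco.eq_one_of_dvd hd, Nat.cast_one]
    intro x hx y hy
    exact congrArg Subtype.val (forall_apply_one_iff_comm.1 h1 ⟨x, hx⟩ ⟨y, hy⟩)
  · rintro ⟨A, hA, hab, -, k, hk⟩ χ
    haveI := hA
    have h1 := degree_dvd_index_of_comm A hab χ
    rw [hk] at h1
    obtain ⟨i, -, hi⟩ := (Nat.dvd_prime_pow hp).1 h1
    exact ⟨i, by rw [apply_one_eq_degree, hi]; push_cast; rfl⟩

end Cfsg.Agent.S0855
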