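import Cfsg.Statements.S0856
import Cfsg.Agent.Lib.Char.CliffordCorrespondence
import Cfsg.Agent.Lib.Char.Linear

set_option autoImplicit false
set_option linter.style.haveILetI false
set_option linter.unusedVariables false
open Cfsg

namespace Cfsg.Agent.S0856

open Cfsg.Agent.Char
open scoped ComplexConjugate


/-- Let N be a normal subgroup of the finite group G and φ, ϑ irreducible characters of N that are invariant under conjugation by G, such that the pointwise product φ * ϑ is irreducible and ϑ is the restriction of an irreducible character χ of G. Then multiplication by χ is a bijection from the set of irreducible characters of G having nonzero inner product with the function induced from φ onto the set of those having nonzero inner product with the function induced from φ * ϑ. -/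
theorem result {G : Type*} [Group G] [Fintype G] (N : Subgroup G) [hN : N.Normal] (φ ϑ : N → ℂ) (hφ : Cfsg.IsIrrCharacter N φ) (hϑ : Cfsg.IsIrrCharacter N ϑ) (hφinv : ∀ (g : G) (n : N), φ ⟨g * n * g⁻¹, hN.conj_mem (n : G) n.2 g⟩ = φ n) (hϑinv : ∀ (g : G) (n : N), ϑ ⟨g * n * g⁻¹, hN.conj_mem (n : G) n.2 g⟩ = ϑ n) (hprod : Cfsg.IsIrrCharacter N (φ * ϑ)) (χ : G → ℂ) (hχ : Cfsg.IsIrrCharacter G χ) (hext : ∀ n : N, χ n = ϑ n) : Set.BijOn (fun β : G → ℂ => β * χ) {β : G → ℂ | Cfsg.IsIrrCharacter G β ∧ Cfsg.classInner (Cfsg.indFun N φ) β ≠ 0} {ψ : G → ℂ | Cfsg.IsIrrCharacter G ψ ∧ Cfsg.classInner (Cfsg.indFun N (φ * ϑ)) ψ ≠ 0} := by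
  classical
  haveI := Fintype.ofFinite N
  have hcfφ := IsCharacter.isClassFunction (IsIrrCharacter.isCharacter hφ)
  have hconj : ∀ (θ : N → ℂ), (∀ (g : G) (n : N), θ ⟨g * n * g⁻¹, hN.conj_mem (n : G) n.2 g⟩ = θ n) →
      ∀ g, conjFun N θ g = θ := fun θ h g => funext fun n => by
    refine Eq.trans ?_ (h g n)
    exact congrArg θ (Subtype.ext (by simp))
  have hprodinv : ∀ g, conjFun N (φ * ϑ) g = φ * ϑ := hconj _ fun g n => by
    simp only [Pi.mul_apply, hφinv, hϑinv]
  have hnorm : ∀ (θ : N → ℂ), IsIrrCharacter N θ → (∀ g, conjFun N θ g = θ) →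
      classInner (indFun N θ) (indFun N θ) = (N.index : ℂ) := by
    intro θ hθ hinv
    rw [classInner_indFun N θ (isClassFunction_indFun N θ),
      show (fun h : N => indFun N θ h) = resFun N (indFun N θ) from rfl, resFun_indFun,
      Finset.sum_congr rfl fun x _ => hinv x, Finset.sum_const, Finset.card_univ,
      ← Nat.cast_smul_eq_nsmul ℂ, smul_smul, classInner_smul_right, classInner_irr_self hθ, mul_one,
      ← Nat.card_eq_fintype_card, ← N.index_mul_card, Nat.cast_mul, mul_comm (N.index : ℂ),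
      inv_mul_cancel_left₀ card_ne_zero, Complex.conj_natCast]
  have hmul : indFun N (φ * ϑ) = indFun N φ * χ := by
    funext g
    rw [Pi.mul_apply, indFun, indFun, mul_assoc, Finset.sum_mul]
    congr 1
    refine Finset.sum_congr rfl fun x _ => ?_
    by_cases hx : x⁻¹ * g * x ∈ N
    · rw [extendByZero_of_mem _ _ hx, extendByZero_of_mem _ _ hx, Pi.mul_apply, ← hext ⟨_, hx⟩]
      congr 1
      simpa using IsCharacter.isClassFunction (IsIrrCharacter.isCharacter hχ) g x⁻¹
    · rw [extendByZero_of_notMem _ _ hx, extendByZero_of_notMem _ _ hx, zero_mul]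
  obtain ⟨m, hm, hm'⟩ := IsCharacter.exists_decomp
    (isCharacter_indFun N (IsIrrCharacter.isCharacter hφ))
  have hc : ∀ β : IrrCharacter G, IsCharacter G (β.1 * χ) := fun β =>
    IsCharacter.mul (irr_isCharacter β) (IsIrrCharacter.isCharacter hχ)
  choose A hA using fun β β' : IrrCharacter G =>
    IsCharacter.exists_nat_classInner (hc β) (hc β')
  have hexp : indFun N (φ * ϑ) = ∑ β : IrrCharacter G, (m β : ℂ) • (β.1 * χ) := by
    rw [hmul, hm, Finset.sum_mul]
    exact Finset.sum_congr rfl fun β _ => smul_mul_assoc _ _ _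
  have hApos : ∀ β, A β β ≠ 0 := fun β h0 => by
    have h1 := congrFun (classInner_self_eq_zero (φ := β.1 * χ) (by rw [hA, h0, Nat.cast_zero])) 1
    rw [Pi.mul_apply, Pi.zero_apply] at h1
    exact mul_ne_zero (IsIrrCharacter.apply_one_ne_zero β.2)
      (IsIrrCharacter.apply_one_ne_zero hχ) h1
  have h1 : ∑ β, m β * m β = N.index := by
    have h := hnorm φ hφ (hconj φ hφinv)
    nth_rewrite 1 [hm] at h
    rw [classInner_sum_left] at h
    have e : ∀ β : IrrCharacter G, classInner ((m β : ℂ) • β.1) (indFun N φ) =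
        ((m β * m β : ℕ) : ℂ) := fun β => by
      rw [classInner_smul_left, ← conj_classInner, hm', Complex.conj_natCast, Nat.cast_mul]
    rw [Finset.sum_congr rfl fun β _ => e β, ← Nat.cast_sum] at h
    exact_mod_cast h
  have h2 : ∑ β, ∑ β', m β * m β' * A β β' = N.index := by
    have h := hnorm (φ * ϑ) hprod hprodinv
    rw [hexp, classInner_sum_left] at h
    have e : ∀ β : IrrCharacter G, classInner ((m β : ℂ) • (β.1 * χ))
        (∑ β' : IrrCharacter G, (m β' : ℂ) • (β'.1 * χ)) =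
        ((∑ β', m β * m β' * A β β' : ℕ) : ℂ) := fun β => by
      rw [classInner_smul_left, classInner_sum_right, Finset.mul_sum, Nat.cast_sum]
      refine Finset.sum_congr rfl fun β' _ => ?_
      rw [classInner_smul_right, hA, Complex.conj_natCast]
      push_cast
      ring
    rw [Finset.sum_congr rfl fun β _ => e β, ← Nat.cast_sum] at h
    exact_mod_cast h
  have hle : ∀ β, m β * m β ≤ ∑ β', m β * m β' * A β β' := fun β =>
    le_trans (Nat.le_mul_of_pos_right _ (Nat.pos_of_ne_zero (hApos β)))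
      (Finset.single_le_sum (f := fun β' => m β * m β' * A β β') (fun _ _ => Nat.zero_le _)
        (Finset.mem_univ β))
  have heq := (Finset.sum_eq_sum_iff_of_le fun β _ => hle β).1 (h1.trans h2.symm)
  have horth : ∀ β β', m β ≠ 0 → m β' ≠ 0 →
      A β β' = if β = β' then 1 else 0 := fun β β' hb hb' => by
    have h := heq β (Finset.mem_univ β)
    rw [← Finset.add_sum_erase _ _ (Finset.mem_univ β)] at h
    have hp : 0 < m β * m β := Nat.mul_pos (Nat.pos_of_ne_zero hb) (Nat.pos_of_ne_zero hb)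
    have hge := Nat.le_mul_of_pos_right (m β * m β) (Nat.pos_of_ne_zero (hApos β))
    split_ifs with hbb
    · subst hbb
      have : m β * m β * A β β = m β * m β * 1 := by omega
      exact Nat.eq_of_mul_eq_mul_left hp this
    · have h0 : ∑ x ∈ Finset.univ.erase β, m β * m x * A β x = 0 := by omega
      have := Finset.sum_eq_zero_iff.1 h0 β' (Finset.mem_erase.2 ⟨Ne.symm hbb, Finset.mem_univ _⟩)
      simpa [hb, hb'] using this
  have hne : ∀ β : IrrCharacter G, classInner (indFun N φ) β.1 ≠ 0 ↔ m β ≠ 0 := fun β => by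
    rw [hm', Nat.cast_ne_zero]
  have hirr : ∀ β : IrrCharacter G, m β ≠ 0 → IsIrrCharacter G (β.1 * χ) := fun β hb =>
    isIrrCharacter_iff.2 ⟨hc β, by rw [hA, horth β β hb hb, if_pos rfl, Nat.cast_one]⟩
  have hinner : ∀ (ψ : G → ℂ), classInner (indFun N (φ * ϑ)) ψ =
      ∑ β : IrrCharacter G, (m β : ℂ) * classInner (β.1 * χ) ψ := fun ψ => by
    rw [hexp, classInner_sum_left]
    exact Finset.sum_congr rfl fun β _ => classInner_smul_left _ _ _
  refine ⟨?_, ?_, ?_⟩
  · rintro β ⟨hβ, hβ'⟩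
    have hb := (hne ⟨β, hβ⟩).1 hβ'
    refine ⟨hirr _ hb, ?_⟩
    rw [hinner, Finset.sum_eq_single (⟨β, hβ⟩ : IrrCharacter G)]
    · show (m ⟨β, hβ⟩ : ℂ) * classInner ((⟨β, hβ⟩ : IrrCharacter G).1 * χ)
        ((⟨β, hβ⟩ : IrrCharacter G).1 * χ) ≠ 0
      rw [hA, horth _ _ hb hb, if_pos rfl, Nat.cast_one, mul_one]
      exact Nat.cast_ne_zero.2 hb
    · intro γ _ hγ
      rcases eq_or_ne (m γ) 0 with h0 | h0
      · rw [h0, Nat.cast_zero, zero_mul]
      · show (m γ : ℂ) * classInner (γ.1 * χ) (((⟨β, hβ⟩ : IrrCharacter G)).1 * χ) = 0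
        rw [hA, horth _ _ h0 hb, if_neg hγ, Nat.cast_zero, mul_zero]
    · exact fun h => absurd (Finset.mem_univ _) h
  · rintro β ⟨hβ, hβ'⟩ γ ⟨hγ, hγ'⟩ h
    by_contra hne'
    have h0 := horth ⟨β, hβ⟩ ⟨γ, hγ⟩ ((hne _).1 hβ') ((hne _).1 hγ')
    rw [if_neg fun e => hne' (congrArg Subtype.val e)] at h0
    have h3 := hA ⟨β, hβ⟩ ⟨γ, hγ⟩
    have h : β * χ = γ * χ := h
    rw [h0, show classInner ((⟨β, hβ⟩ : IrrCharacter G).1 * χ) ((⟨γ, hγ⟩ : IrrCharacter G).1 * χ) =
      classInner (β * χ) (β * χ) by rw [show (⟨γ, hγ⟩ : IrrCharacter G).1 * χ = β * χ from h.symm],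
      classInner_irr_self (hirr ⟨β, hβ⟩ ((hne _).1 hβ')), Nat.cast_zero] at h3
    exact one_ne_zero h3
  · rintro ψ ⟨hψ, hψ'⟩
    rw [hinner] at hψ'
    obtain ⟨β, -, hb⟩ := Finset.exists_ne_zero_of_sum_ne_zero hψ'
    obtain ⟨hb1, hb2⟩ := mul_ne_zero_iff.1 hb
    have hmb : m β ≠ 0 := fun h => hb1 (by rw [h, Nat.cast_zero])
    refine ⟨β.1, ⟨β.2, (hne β).2 hmb⟩, ?_⟩
    by_contra hne'
    exact hb2 (classInner_irr_of_ne (hirr β hmb) hψ hne')

end Cfsg.Agent.S0856
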