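import Cfsg.Statements.S0857
import Cfsg.Agent.Lib.Glauberman.RelativeBase
import Cfsg.Agent.Lib.Char.NormalAction

set_option autoImplicit false
set_option linter.style.haveILetI false
open Cfsg

namespace Cfsg.Agent.S0857

open Cfsg.Agent.Char
open scoped ComplexConjugate

/-- The norm of a function supported on a normal subgroup. -/
theorem classInner_self_of_support {G : Type*} [Group G] [Fintype G] (N : Subgroup G) [Fintype N]
    (f : G → ℂ) (hf : ∀ g ∉ N, f g = 0) :
    (N.index : ℂ) * classInner f f = classInner (resFun N f) (resFun N f) := by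
  classical
  have hs : ∑ g : G, f g * conj (f g) = ∑ n : N, f n * conj (f n) := by
    rw [← Finset.sum_subset (Finset.subset_univ (Finset.univ.filter (· ∈ N))) fun g _ hg => by
      rw [hf g fun h => hg (Finset.mem_filter.2 ⟨Finset.mem_univ _, h⟩), zero_mul]]
    exact Finset.sum_subtype _ (fun g => by simp) _
  rw [classInner, classInner, hs, ← N.index_mul_card, Nat.cast_mul, mul_inv]
  have hi : (N.index : ℂ) ≠ 0 := Nat.cast_ne_zero.2 Subgroup.index_ne_zero_of_finite
  simp only [resFun_apply]
  field_simp

/-- Let L < K be normal subgroups of the finite group G with no normal subgroup of G strictly between them and with K / L abelian (the commutator subgroup of K lies in L). Let ϑ be an irreducible character of K invariant under conjugation by G. Then the restriction of ϑ to L is irreducible; or it equals e times an irreducible character of L with e ^ 2 equal to the index of L in K; or it is the sum of a family of pairwise distinct irreducible characters of L indexed by a set whose size is the index of L in K. -/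
theorem result {G : Type*} [Group G] [Fintype G] (K L : Subgroup G) [hK : K.Normal] [L.Normal] (hLK : L < K) (hchief : ∀ M : Subgroup G, M.Normal → L ≤ M → M ≤ K → M = L ∨ M = K) (hab : ⁅K, K⁆ ≤ L) (ϑ : K → ℂ) (hϑ : Cfsg.IsIrrCharacter K ϑ) (hinv : ∀ (g : G) (n : K), ϑ ⟨g * n * g⁻¹, hK.conj_mem (n : G) n.2 g⟩ = ϑ n) : Cfsg.IsIrrCharacter L (fun x : L => ϑ ⟨(x : G), hLK.le x.2⟩) ∨ (∃ (φ : L → ℂ) (e : ℕ), Cfsg.IsIrrCharacter L φ ∧ (fun x : L => ϑ ⟨(x : G), hLK.le x.2⟩) = (e : ℂ) • φ ∧ e ^ 2 = L.relIndex K) ∨ (∃ F : Finset (L → ℂ), (∀ φ ∈ F, Cfsg.IsIrrCharacter L φ) ∧ F.card = L.relIndex K ∧ (fun x : L => ϑ ⟨(x : G), hLK.le x.2⟩) = ∑ φ ∈ F, φ) := by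
  classical
  haveI := Fintype.ofFinite K
  set L' := L.subgroupOf K with hL'
  haveI := Fintype.ofFinite L'
  haveI := Fintype.ofFinite (K ⧸ L')
  set θ : IrrCharacter K := ⟨ϑ, hϑ⟩ with hθdef
  have hθcl : IsClassFunction K θ.1 := IsCharacter.isClassFunction (irr_isCharacter θ)
  obtain ⟨φ, hφ⟩ := exists_constituent L' θ
  set e' : L' ≃* L := Subgroup.subgroupOfEquivOfLe hLK.le
  have hcomm : ∀ a b : K, a * b * a⁻¹ * b⁻¹ ∈ L' := fun a b => by
    rw [hL', Subgroup.mem_subgroupOf]
    simpa [commutatorElement_def] using hab (Subgroup.commutator_mem_commutator a.2 b.2)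
  have hLinv : ∀ g : G, ∀ x ∈ L', MulAut.conjNormal g x ∈ L' := fun g x hx => by
    rw [hL', Subgroup.mem_subgroupOf] at hx ⊢
    rw [MulAut.conjNormal_apply]
    exact Subgroup.Normal.conj_mem inferInstance _ hx g
  let act : G →* MulAut L' := RelGlauberman.restrictAut MulAut.conjNormal L' hLinv
  have hinvK : ∀ (g : G) (x : K), θ.1 (MulAut.conjNormal g x) = θ.1 x := fun g x => by
    refine Eq.trans ?_ (hinv g x)
    exact congrArg ϑ (Subtype.ext (by simp))
  have hmap : ∀ M : Subgroup K, L' ≤ M → (∀ g : G, ∀ x ∈ M, MulAut.conjNormal g x ∈ M) →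
      M = L' ∨ M = ⊤ := fun M hM hMinv => by
    haveI : (M.map K.subtype).Normal := ⟨by
      rintro _ ⟨x, hx, rfl⟩ g
      exact ⟨MulAut.conjNormal g x, hMinv g x hx, by simp⟩⟩
    have h1 : L ≤ M.map K.subtype := fun l hl =>
      ⟨⟨l, hLK.le hl⟩, hM (Subgroup.mem_subgroupOf.2 hl), rfl⟩
    rcases hchief _ inferInstance h1 (Subgroup.map_subtype_le M) with h | h
    · left
      refine le_antisymm (fun x hx => ?_) hM
      rw [hL', Subgroup.mem_subgroupOf]
      exact h.le ⟨x, hx, rfl⟩
    · right
      refine eq_top_iff.2 fun x _ => ?_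
      obtain ⟨y, hy, hyx⟩ := h.ge x.2
      rwa [← show y = x from Subtype.ext hyx]
  have hres : ∀ (F : L' → ℂ), (∀ x : L', θ.1 (x : K) = F x) →
      (fun x : L => ϑ ⟨(x : G), hLK.le x.2⟩) = fun x => F (e'.symm x) := fun F hF =>
    funext fun x => hF (e'.symm x)
  have hirr : ∀ η : IrrCharacter L', IsIrrCharacter L (fun x => η.1 (e'.symm x)) := fun η =>
    IsIrrCharacter.comp_surjective η.2 e'.symm.toMonoidHom e'.symm.surjective
  set I := inertia L' φ.1 with hI
  have hLI : L' ≤ I := irr_le_inertia L' φ
  -- the inertia group is invariant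
  have hIinv : ∀ g : G, ∀ x ∈ I, MulAut.conjNormal g x ∈ I := fun g x hx => by
    have hψc : classInner (resFun L' θ.1) (fun n => φ.1 (act g n)) ≠ 0 := by
      refine fun h0 => hφ (Eq.trans ?_ h0)
      simp only [classInner]
      congr 1
      refine (Fintype.sum_equiv (act g).toEquiv _ _ fun n => ?_).symm
      show θ.1 (n : K) * conj (φ.1 (act g n)) = θ.1 (MulAut.conjNormal g (n : K)) * conj (φ.1 (act g n))
      rw [hinvK]
    obtain ⟨k, hk⟩ := exists_conjChar_of_constituents L' θ φ
      ⟨_, IsIrrCharacter.comp_surjective φ.2 (act g).toMonoidHom (act g).surjective⟩ hφ hψc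
    set y := MulAut.conjNormal g x with hy
    have hk' : ∀ n : L', φ.1 (act g n) = conjFun L' φ.1 k n :=
      fun n => congrFun (congrArg Subtype.val hk) n
    -- `y` fixes `φ` as `x` fixes its conjugate by `g`
    have hkx : conjFun L' φ.1 (k * x) = conjFun L' φ.1 k := by
      have hkxk : k * x = (k * x * k⁻¹) * k := by group
      rw [hkxk, conjFun_mul]
      have : k * x * k⁻¹ ∈ I := by
        rw [show k * x * k⁻¹ = (k * x * k⁻¹ * x⁻¹) * x by group]
        exact I.mul_mem (hLI (hcomm k x)) hx
      rw [show conjFun L' φ.1 (k * x * k⁻¹) = φ.1 from this]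
    show conjFun L' φ.1 y = φ.1
    funext m
    obtain ⟨n, rfl⟩ := (act g).surjective m
    rw [hk' n, ← hkx, conjFun_mul]
    refine Eq.trans ?_ (hk' (MulAut.conjNormal x n))
    exact congrArg φ.1 (Subtype.ext (Subtype.ext (by simp [act, hy, mul_assoc])))
  rcases hmap I hLI hIinv with hIL | hIK
  · -- the sum of the whole orbit
    right; right
    have hcard : (orbitFinset L' φ).card = L.relIndex K := by
      rw [← index_inertia, ← hI, hIL]; rfl
    obtain ⟨ψ, hψ⟩ := (cliffordInduce_bijective L' φ).2 θ hφ
    obtain ⟨c, hc0, hc, hcψ⟩ := exists_mult_of_over_inertia L' φ ψ.1 ψ.2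
    have hc1 : classInner (resFun L' θ.1) φ.1 = 1 := by
      rw [← hψ, classInner_resFun_cliffordInduce, hc]
      have hbij : Function.Bijective (Subgroup.inclusion (irr_le_inertia L' φ)) :=
        ⟨Subgroup.inclusion_injective _, fun x => ⟨⟨x, hIL.le x.2⟩, rfl⟩⟩
      have hirr1 : IsIrrCharacter L' (resIncl L' (irr_le_inertia L' φ) ψ.1.1) :=
        IsIrrCharacter.comp_surjective ψ.1.2 _ hbij.2
      have h1 := classInner_irr_self hirr1
      rw [show resIncl L' (irr_le_inertia L' φ) ψ.1.1 = (c : ℂ) • φ.1 from funext hcψ,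
        classInner_smul_left, classInner_smul_right, classInner_irr_self φ.2, mul_one,
        Complex.conj_natCast] at h1
      have h2 : c * c = 1 := by exact_mod_cast h1
      rw [(mul_eq_one.1 h2).1, Nat.cast_one]
    refine ⟨(orbitFinset L' φ).image fun η => fun x => η.1 (e'.symm x), ?_, ?_, ?_⟩
    · intro f hf
      obtain ⟨η, -, rfl⟩ := Finset.mem_image.1 hf
      exact hirr η
    · rw [Finset.card_image_of_injective _ fun a b h => Subtype.ext (funext fun x => by
        simpa using congrFun h (e' x)), hcard]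
    · rw [Finset.sum_image fun a _ b _ h => Subtype.ext (funext fun x => by
        simpa using congrFun h (e' x))]
      rw [hres (resFun L' θ.1) (fun x => rfl), resFun_eq_smul_orbitSum L' θ φ hφ, hc1, one_smul]
      funext x
      rw [orbitSum, Finset.sum_apply, Finset.sum_apply]
  · -- invariant constituent
    obtain ⟨c, hc⟩ := IsCharacter.exists_nat_classInner
      (IsCharacter.restrict (irr_isCharacter θ) L') (irr_isCharacter φ)
    have hrc : resFun L' θ.1 = (c : ℂ) • φ.1 := by
      rw [resFun_eq_smul_of_invariant L' θ φ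
        (fun k => (show k ∈ I by rw [hIK]; exact Subgroup.mem_top k)) hφ]
      rw [show classInner (resFun L' θ.1) φ.1 = (c : ℂ) from hc]
    have hnorm : classInner (resFun L' θ.1) (resFun L' θ.1) = ((c * c : ℕ) : ℂ) := by
      rw [hrc, classInner_smul_left, classInner_smul_right, classInner_irr_self φ.2,
        Complex.conj_natCast, mul_one, Nat.cast_mul]
    have hab' : ∀ a b : K ⧸ L', a * b = b * a := fun a b => by
      obtain ⟨x, rfl⟩ := QuotientGroup.mk_surjective a
      obtain ⟨y, rfl⟩ := QuotientGroup.mk_surjective b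
      rw [← QuotientGroup.mk_mul, ← QuotientGroup.mk_mul, QuotientGroup.eq_iff_div_mem]
      simpa [div_eq_mul_inv, mul_assoc] using hcomm x y
    have hone : ∀ β : IrrCharacter (K ⧸ L'), β.1 1 = 1 := apply_one_of_comm hab'
    have hmul : ∀ (β : IrrCharacter (K ⧸ L')) (a b : K ⧸ L'), β.1 (a * b) = β.1 a * β.1 b :=
      fun β a b => by
        obtain ⟨f, hf⟩ := IsCharacter.exists_monoidHom (irr_isCharacter β) (hone β)
        rw [← hf, map_mul]
    let tw : IrrCharacter (K ⧸ L') → K → ℂ := fun β => mulQuotient L' θ.1 β.1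
    have htw : ∀ β, IsIrrCharacter K (tw β) := fun β => by
      obtain ⟨f, hf⟩ := IsCharacter.exists_monoidHom (irr_isCharacter β) (hone β)
      rw [show tw β = ⇑(f.comp (QuotientGroup.mk' L')) * θ.1 from funext fun x => by
        show θ.1 x * β.1 (x : K ⧸ L') = f (x : K ⧸ L') * θ.1 x
        rw [hf, mul_comm]]
      exact IsIrrCharacter.mul_linear θ.2 _
    let M : Subgroup K :=
      { carrier := {x | ∀ β β', tw β = tw β' → β.1 (x : K ⧸ L') = β'.1 (x : K ⧸ L')}
        one_mem' := fun β β' _ => by rw [QuotientGroup.mk_one, hone, hone]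
        mul_mem' := fun {a b} ha hb β β' h => by
          rw [QuotientGroup.mk_mul, hmul, hmul, ha β β' h, hb β β' h]
        inv_mem' := fun {a} ha β β' h => by
          have h1 : ∀ γ : IrrCharacter (K ⧸ L'),
              γ.1 ((a⁻¹ : K) : K ⧸ L') = conj (γ.1 (a : K ⧸ L')) := fun γ => by
            rw [QuotientGroup.mk_inv, IsCharacter.conj_apply (irr_isCharacter γ)]
          rw [h1, h1, ha β β' h] }
    have hLM : L' ≤ M := fun x hx β β' _ => by
      rw [(QuotientGroup.eq_one_iff x).2 hx, hone, hone]
    have hMinv : ∀ g : G, ∀ x ∈ M, MulAut.conjNormal g x ∈ M := fun g x hx β β' h => by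
      let eq : (K ⧸ L') ≃* (K ⧸ L') :=
        RelGlauberman.quotAut (MulAut.conjNormal : G →* MulAut K) L' hLinv g
      let γ : IrrCharacter (K ⧸ L') → IrrCharacter (K ⧸ L') := fun δ =>
        ⟨fun q => δ.1 (eq q), IsIrrCharacter.comp_surjective δ.2 eq.toMonoidHom eq.surjective⟩
      refine hx (γ β) (γ β') (funext fun y => ?_)
      have h1 := congrFun h (MulAut.conjNormal g y)
      simp only [tw, mulQuotient_apply, hinvK] at h1
      exact h1
    rcases hmap M hLM hMinv with hML | hMK
    · -- vanishing off `L`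
      right; left
      refine ⟨fun x => φ.1 (e'.symm x), c, hirr φ, ?_, ?_⟩
      · rw [hres (resFun L' θ.1) (fun x => rfl), hrc]
        rfl
      · have hvan : ∀ x ∉ L', θ.1 x = 0 := fun x hx => by
          have hx' : ¬ ∀ β β', tw β = tw β' → β.1 (x : K ⧸ L') = β'.1 (x : K ⧸ L') :=
            fun h => hx (hML.le h)
          push Not at hx'
          obtain ⟨β, β', h, hne⟩ := hx'
          have h1 := congrFun h x
          simp only [tw, mulQuotient_apply] at h1
          by_contra h0
          exact hne (mul_left_cancel₀ h0 h1)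
        have h1 := classInner_self_of_support L' θ.1 hvan
        rw [classInner_irr_self θ.2, mul_one, hnorm] at h1
        have h2 : L'.index = c * c := by exact_mod_cast h1
        rw [pow_two, ← h2]
        rfl
    · -- all twists distinct
      left
      have hinj : Function.Injective tw := fun β β' h => Subtype.ext (funext fun q => by
        obtain ⟨x, rfl⟩ := QuotientGroup.mk_surjective q
        exact (show x ∈ M by rw [hMK]; exact Subgroup.mem_top x) β β' h)
      set F : K → ℂ := ∑ β : IrrCharacter (K ⧸ L'), tw β with hF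
      have hFx : ∀ x : K, F x = θ.1 x * if (x : K ⧸ L') = 1 then (Nat.card (K ⧸ L') : ℂ) else 0 :=
        fun x => by
          rw [hF, Finset.sum_apply]
          refine Eq.trans (Finset.sum_congr rfl fun β _ => show tw β x = θ.1 x * (β.1 1 * β.1 (x : K ⧸ L')) by
            rw [hone, one_mul]; rfl) ?_
          rw [← Finset.mul_sum, sum_irr_degree_mul]
          congr
      have hm : Fintype.card (IrrCharacter (K ⧸ L')) = Nat.card (K ⧸ L') := by
        have h := sum_degree_sq (G := K ⧸ L')
        rw [Finset.sum_congr rfl fun β _ => show degree β ^ 2 = 1 by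
          have h1 := hone β
          rw [apply_one_eq_degree, Nat.cast_eq_one] at h1
          rw [h1, one_pow], Finset.sum_const, smul_eq_mul, mul_one, Finset.card_univ] at h
        exact h
      have hFF : classInner F F = (Nat.card (K ⧸ L') : ℂ) := by
        rw [hF, classInner_sum_left, Finset.sum_congr rfl fun β _ => show
          classInner (tw β) (∑ β' : IrrCharacter (K ⧸ L'), tw β') = 1 by
            rw [classInner_sum_right, Finset.sum_eq_single β]
            · exact classInner_irr_self (htw β)
            · exact fun γ _ hγ => classInner_irr_of_ne (htw β) (htw γ) fun h => hγ (hinj h).symm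
            · exact fun h => absurd (Finset.mem_univ β) h,
          Finset.sum_const, Finset.card_univ, hm, nsmul_one]
      have hvan : ∀ x ∉ L', F x = 0 := fun x hx => by
        rw [hFx, if_neg fun h => hx ((QuotientGroup.eq_one_iff x).1 h), mul_zero]
      have h1 := classInner_self_of_support L' F hvan
      rw [hFF, show resFun L' F = (Nat.card (K ⧸ L') : ℂ) • resFun L' θ.1 from funext fun x => by
        rw [resFun_apply, hFx, if_pos ((QuotientGroup.eq_one_iff (x : K)).2 x.2), Pi.smul_apply,
          resFun_apply, smul_eq_mul, mul_comm],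
        classInner_smul_left, classInner_smul_right, Complex.conj_natCast, hnorm,
        ← Subgroup.index_eq_card] at h1
      have h2 : L'.index * L'.index = L'.index * (L'.index * (c * c)) := by exact_mod_cast h1
      have hpos : 0 < L'.index := Nat.pos_of_ne_zero Subgroup.index_ne_zero_of_finite
      have h3 := Nat.eq_of_mul_eq_mul_left hpos h2
      have h4 : c * c = 1 := Nat.eq_of_mul_eq_mul_left hpos (by rw [← h3, mul_one])
      rw [hres (resFun L' θ.1) (fun x => rfl), hrc, (mul_eq_one.1 h4).1, Nat.cast_one, one_smul]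
      exact hirr φ

end Cfsg.Agent.S0857
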