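import Cfsg.Statements.S0859
import Cfsg.Agent.Lib.MonomialRel.Main
-- import your own Cfsg.Agent.* helpers here

set_option autoImplicit false
open Cfsg

namespace Cfsg.Agent.S0859

/-- Let G be a finite solvable group and N a normal subgroup such that for every prime p every Sylow p-subgroup of N is abelian. Suppose every irreducible character of G is induced from an irreducible character of some subgroup containing N whose restriction to N is irreducible. Then every irreducible character of G is induced from a character of degree 1 of some subgroup. -/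
theorem result {G : Type*} [Group G] [Fintype G] [Group.IsSolvable G] (N : Subgroup G) [N.Normal] (hab : ∀ (p : ℕ) [Fact p.Prime] (P : Sylow p N), ∀ a ∈ P, ∀ b ∈ P, a * b = b * a) (hrel : ∀ χ : G → ℂ, Cfsg.IsIrrCharacter G χ → ∃ (H : Subgroup G) (hNH : N ≤ H) (ψ : H → ℂ), Cfsg.IsIrrCharacter H ψ ∧ Cfsg.indFun H ψ = χ ∧ Cfsg.IsIrrCharacter N (fun n : N => ψ ⟨(n : G), hNH n.2⟩)) (χ : G → ℂ) (hχ : Cfsg.IsIrrCharacter G χ) : ∃ (U : Subgroup G) (lam : U → ℂ), Cfsg.IsCharacter U lam ∧ lam 1 = 1 ∧ Cfsg.indFun U lam = χ := by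
  classical
  obtain ⟨H, hNH, ψ, hψ, rfl, hres⟩ := hrel χ hχ
  haveI := Fintype.ofFinite H
  haveI : (N.subgroupOf H).Normal := Subgroup.Normal.subgroupOf inferInstance H
  obtain ⟨S, lam, h⟩ := Char.IsMonomialChar.indFun_of (MonomialRel.claim _ H rfl (N.subgroupOf H)
    inferInstance (fun p hp P hP hPp a ha b hb => Subtype.ext
      (MonomialRel.abelianPSubgroups_of_sylow hab p hp (P.map H.subtype)
        (by rintro _ ⟨x, hx, rfl⟩; exact hP hx) (hPp.map _) a ⟨a, ha, rfl⟩ b ⟨b, hb, rfl⟩))
    ψ hψ (Char.IsIrrCharacter.comp_surjective hres (Subgroup.subgroupOfEquivOfLe hNH).toMonoidHom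
      (Subgroup.subgroupOfEquivOfLe hNH).surjective))
  exact ⟨S, lam, Char.IsIrrCharacter.isCharacter (Char.isIrrCharacter_of_monoidHom lam), map_one lam, h.symm⟩

end Cfsg.Agent.S0859
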