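import Cfsg.Statements.S0860
import Cfsg.Agent.Lib.Char.BrauerPerm
import Cfsg.Agent.Lib.Char.Orthogonality

set_option autoImplicit false
open Cfsg

namespace Cfsg.Agent.S0860

/-- Let a group A act on the set of irreducible characters and on the set of conjugacy classes of a finite group G in such a way that (a • χ) evaluated on the class a • C equals χ evaluated on C, for all a, χ and C. Then every element of A fixes exactly as many irreducible characters as it fixes conjugacy classes. -/
theorem result {G : Type*} [Group G] [Finite G] {A : Type*} [Group A] [MulAction A (Cfsg.IrrCharacter G)] [MulAction A (ConjClasses G)] (hcompat : ∀ (a : A) (χ : Cfsg.IrrCharacter G) (g g' : G), ConjClasses.mk g' = a • ConjClasses.mk g → ((a • χ : Cfsg.IrrCharacter G) : G → ℂ) g' = (χ : G → ℂ) g) (a : A) : Nat.card {χ : Cfsg.IrrCharacter G // a • χ = χ} = Nat.card {C : ConjClasses G // a • C = C} := by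
  classical
  haveI := Fintype.ofFinite G
  haveI : Finite (ConjClasses G) := Finite.of_surjective _ ConjClasses.mk_surjective
  haveI := Fintype.ofFinite (ConjClasses G)
  let X : Matrix (IrrCharacter G) (ConjClasses G) ℂ := Matrix.of fun χ C => χ.1 C.out
  let Y : Matrix (ConjClasses G) (IrrCharacter G) ℂ := Matrix.of fun C χ =>
    (Nat.card (Subgroup.centralizer ({C.out} : Set G)) : ℂ)⁻¹ * (starRingEnd ℂ) (χ.1 C.out)
  have hout : ∀ C : ConjClasses G, ConjClasses.mk C.out = C := fun C => Quotient.out_eq C
  have hYX : Y * X = 1 := by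
    ext C D
    have := Char.sum_irr_mul_conj D.out C.out
    simp only [Matrix.mul_apply, X, Y, Matrix.of_apply, mul_assoc, ← Finset.mul_sum,
      mul_comm ((starRingEnd ℂ) _) _, this]
    have he : IsConj D.out C.out ↔ C = D := by
      rw [← ConjClasses.mk_eq_mk_iff_isConj, hout, hout, eq_comm]
    rw [Matrix.one_apply]
    by_cases h : C = D
    · rw [if_pos (he.2 h), if_pos h, inv_mul_cancel₀]
      exact Nat.cast_ne_zero.2 Nat.card_pos.ne'
    · rw [if_neg (mt he.1 h), if_neg h, mul_zero]
  have hcard : Fintype.card (IrrCharacter G) = Fintype.card (ConjClasses G) := by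
    rw [← Nat.card_eq_fintype_card, ← Nat.card_eq_fintype_card]; exact Char.card_irr
  have := Char.brauer_perm_fixed X Y (Or.inr hYX) hcard (MulAction.toPerm a) (MulAction.toPerm a)
    (fun χ C => hcompat a χ C.out (a • C).out (by rw [hout, hout]))
  exact this

end Cfsg.Agent.S0860
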