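import Cfsg.Statements.S0861
import Cfsg.Agent.Lib.CharInt.GaloisAverage
import Cfsg.Agent.Lib.CharInt.Congruence
import Cfsg.Agent.Lib.Char.Ito
import Cfsg.Agent.Lib.Char.Descend
import Cfsg.Agent.Lib.Char.Linear
-- import your own Cfsg.Agent.* helpers here

set_option autoImplicit false
open Cfsg

namespace Cfsg.Agent.S0861

/-- Let P be a normal abelian Sylow p-subgroup of the finite group G and suppose some element g of P has centralizer exactly P. Then the number of irreducible characters of G is at most the order of P, and if equality holds then G / P is abelian (the commutator subgroup lies in P). -/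
theorem result {G : Type*} [Group G] [Finite G] (p : ℕ) [Fact p.Prime] (P : Sylow p G) [(P : Subgroup G).Normal] (hab : ∀ a ∈ P, ∀ b ∈ P, a * b = b * a) (g : G) (hg : g ∈ P) (hC : Subgroup.centralizer ({g} : Set G) = P) : Nat.card (Cfsg.IrrCharacter G) ≤ Nat.card P ∧ (Nat.card (Cfsg.IrrCharacter G) = Nat.card P → commutator G ≤ P) := by
  classical
  have hp : p.Prime := Fact.out
  have : Fintype G := Fintype.ofFinite G
  have : NeZero (Nat.card G) := ⟨Nat.card_pos.ne'⟩
  obtain ⟨m, k, hm, hk, hmain⟩ := Cfsg.Agent.CharInt.exists_twists.{0} (Nat.card G)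
  obtain ⟨j₀, hj₀⟩ := (IsPGroup.iff_orderOf.1 P.isPGroup') (⟨g, hg⟩ : (P : Subgroup G))
  rw [Subgroup.orderOf_mk] at hj₀
  have hne : ∀ χ : Cfsg.IrrCharacter G, χ.1 g ≠ 0 := by
    intro χ h0
    have hd := Cfsg.Agent.Char.degree_dvd_index_of_comm (P : Subgroup G) hab χ
    have hint := Cfsg.Agent.CharInt.char_pow_sub_isIntegral (Cfsg.Agent.Char.irr_isCharacter χ) g hp j₀
    rw [← hj₀, pow_orderOf_eq_one, h0, zero_pow (orderOf_pos g).ne', zero_sub,
      Cfsg.Agent.Char.apply_one_eq_degree, neg_div] at hint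
    have h2 := hint.neg
    rw [neg_neg] at h2
    have hpd := Cfsg.Agent.CharInt.dvd_of_isIntegral_div (z := (Cfsg.Agent.Char.degree χ : ℤ))
      hp.ne_zero (by simpa using h2)
    exact Sylow.not_dvd_index P ((Int.natCast_dvd_natCast.1 hpd).trans hd)
  let f : Cfsg.IrrCharacter G → ℝ := fun χ => ∑ j, ‖χ.1 (g ^ k j)‖ ^ 2
  have hge : ∀ χ ∈ (Finset.univ : Finset (Cfsg.IrrCharacter G)), (m : ℝ) ≤ f χ := by
    intro χ _
    obtain ⟨n, μ, -, hμ, hval⟩ :=
      Cfsg.Agent.CharInt.exists_roots (Cfsg.Agent.Char.irr_isCharacter χ) g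
    have hN : ∀ i, μ i ^ Nat.card G = 1 := fun i => by
      obtain ⟨d, hd⟩ := orderOf_dvd_natCard g
      rw [hd, pow_mul, hμ i, one_pow]
    have h1 := hval 1
    rw [pow_one] at h1
    have := hmain (Fin n) (fun _ => 1) μ hN (by simpa [h1] using hne χ)
    simpa [f, hval] using this
  have hcol : ∀ j, ∑ χ : Cfsg.IrrCharacter G, ‖χ.1 (g ^ k j)‖ ^ 2 = (Nat.card P : ℝ) := by
    intro j
    have hC' : Subgroup.centralizer ({g ^ k j} : Set G) = (P : Subgroup G) := by
      rw [← hC]
      obtain ⟨l, hl⟩ := exists_pow_eq_self_of_coprime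
        ((hk j).coprime_dvd_right (orderOf_dvd_natCard g))
      ext x
      simp only [Subgroup.mem_centralizer_singleton_iff]
      constructor
      · intro hx
        have h1 : Commute x (g ^ k j) := hx
        have h2 := h1.pow_right l
        rwa [hl] at h2
      · intro hx
        exact (Commute.pow_right (hx : Commute x g) (k j)).eq
    have h := Cfsg.Agent.Char.sum_irr_mul_conj (g ^ k j) (g ^ k j)
    rw [if_pos (IsConj.refl _), hC'] at h
    simp only [Complex.mul_conj'] at h
    exact_mod_cast h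
  have htot : ∑ χ : Cfsg.IrrCharacter G, f χ = (m : ℝ) * Nat.card P := by
    simp only [f]
    rw [Finset.sum_comm, Finset.sum_congr rfl fun j _ => hcol j, Finset.sum_const, Finset.card_univ,
      Fintype.card_fin, nsmul_eq_mul]
  have hm' : (0 : ℝ) < m := by exact_mod_cast hm
  have hle : (Nat.card (Cfsg.IrrCharacter G) : ℝ) * m ≤ (m : ℝ) * Nat.card P := by
    rw [← htot, Nat.card_eq_fintype_card, ← Finset.card_univ]
    simpa using Finset.card_nsmul_le_sum Finset.univ f (m : ℝ) hge
  have hle' : (Nat.card (Cfsg.IrrCharacter G) : ℝ) ≤ Nat.card P :=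
    le_of_mul_le_mul_left (by linarith) hm'
  refine ⟨by exact_mod_cast hle', fun heq => ?_⟩
  have hall : ∀ χ : Cfsg.IrrCharacter G, f χ = m := by
    intro χ
    have h0 : ∑ χ : Cfsg.IrrCharacter G, (f χ - m) = 0 := by
      rw [Finset.sum_sub_distrib, htot, Finset.sum_const, Finset.card_univ, nsmul_eq_mul,
        ← Nat.card_eq_fintype_card, heq]
      ring
    have := (Finset.sum_eq_zero_iff_of_nonneg (fun χ hχ => sub_nonneg.2 (hge χ hχ))).1 h0 χ
      (Finset.mem_univ χ)
    linarith
  have hquot : ∀ a b : G ⧸ (P : Subgroup G), a * b = b * a := by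
    refine Cfsg.Agent.Char.forall_apply_one_iff_comm.1 fun ψ => ?_
    have h1 := hall (Cfsg.Agent.Char.inflate (P : Subgroup G) ψ)
    have hq : ∀ j, ((g ^ k j : G) : G ⧸ (P : Subgroup G)) = 1 := fun j =>
      (QuotientGroup.eq_one_iff _).2 ((P : Subgroup G).pow_mem hg _)
    simp only [f, Cfsg.Agent.Char.inflate_apply, hq, Finset.sum_const, Finset.card_univ,
      Fintype.card_fin, nsmul_eq_mul, Cfsg.Agent.Char.apply_one_eq_degree, Complex.norm_natCast] at h1
    have h2 : (Cfsg.Agent.Char.degree ψ : ℝ) ^ 2 = 1 :=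
      mul_left_cancel₀ hm'.ne' (h1.trans (mul_one _).symm)
    have h3 : Cfsg.Agent.Char.degree ψ ^ 2 = 1 := by exact_mod_cast h2
    rw [Cfsg.Agent.Char.apply_one_eq_degree, (pow_eq_one_iff.1 h3).resolve_right (by norm_num), Nat.cast_one]
  rw [commutator_def, Subgroup.commutator_le]
  intro a _ b _
  rw [← QuotientGroup.eq_one_iff, commutatorElement_def]
  simp only [QuotientGroup.mk_mul, QuotientGroup.mk_inv]
  rw [hquot (a : G ⧸ (P : Subgroup G)) b]
  group

end Cfsg.Agent.S0861
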