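import Cfsg.Statements.S0862
import Cfsg.Agent.Lib.Clifford.GallagherExtension

set_option autoImplicit false
set_option linter.style.haveILetI false
set_option linter.unusedVariables false
open Cfsg

namespace Cfsg.Agent.S0862

open Cfsg.Agent.Char
open Cfsg.Agent


/-- Let N be a normal subgroup of the finite group G and ϑ an irreducible character of N of degree d coprime to the index of N, which is the restriction of some irreducible character of G. Let μ be a character of G of degree 1 whose restriction to N is the determinantal character of ϑ. Then there is exactly one irreducible character χ of G restricting to ϑ whose determinantal character is μ. -/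
theorem result {G : Type*} [Group G] [Finite G] (N : Subgroup G) [N.Normal] (ϑ : N → ℂ) (hϑ : Cfsg.IsIrrCharacter N ϑ) (d : ℕ) (hd : ϑ 1 = d) (hcop : Nat.Coprime N.index d) (hext : ∃ η : G → ℂ, Cfsg.IsIrrCharacter G η ∧ (∀ n : N, η n = ϑ n)) (μ : G → ℂ) (hμ : Cfsg.IsCharacter G μ ∧ μ 1 = 1) (hμN : ∀ n : N, μ n = Cfsg.detChar ϑ n) : ∃! χ : G → ℂ, Cfsg.IsIrrCharacter G χ ∧ (∀ n : N, χ n = ϑ n) ∧ Cfsg.detChar χ = μ := by
  haveI := Fintype.ofFinite G
  haveI := Fintype.ofFinite N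
  have hd' : degree ⟨ϑ, hϑ⟩ = d := by
    have h1 := apply_one_eq_degree (⟨ϑ, hϑ⟩ : IrrCharacter N)
    rw [show (⟨ϑ, hϑ⟩ : IrrCharacter N).1 1 = ϑ 1 from rfl, hd] at h1
    exact_mod_cast h1.symm
  obtain ⟨η, hη, hηN⟩ := hext
  obtain ⟨f, rfl⟩ := IsCharacter.exists_monoidHom hμ.1 hμ.2
  have hfN : ∀ n : N, f n = Clifford.detChar (⟨ϑ, hϑ⟩ : IrrCharacter N) n := fun n => by
    rw [hμN n, Clifford.detChar_fun_eq (⟨ϑ, hϑ⟩ : IrrCharacter N)]
  obtain ⟨χ, ⟨hχ, hdet⟩, huniq⟩ := Clifford.existsUnique_extension_det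
    (⟨ϑ, hϑ⟩ : IrrCharacter N) (hd' ▸ hcop) ⟨η, hη⟩ hηN f hfN
  refine ⟨χ.1, ⟨χ.2, hχ, by rw [Clifford.detChar_fun_eq, hdet]⟩, fun ψ ⟨hψ, hψN, hψdet⟩ => ?_⟩
  refine congrArg Subtype.val (huniq ⟨ψ, hψ⟩ ⟨hψN, DFunLike.coe_injective ?_⟩)
  rw [← Clifford.detChar_fun_eq]
  exact hψdet

end Cfsg.Agent.S0862
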