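import Cfsg.Statements.S0863
import Cfsg.Agent.Lib.Clifford.GallagherExtension

set_option autoImplicit false
set_option linter.style.haveILetI false
set_option linter.unusedVariables false
open Cfsg

namespace Cfsg.Agent.S0863

open Cfsg.Agent.Char
open Cfsg.Agent


/-- Let N be a normal subgroup of the finite group G with G / N solvable, and ϑ an irreducible character of N, invariant under conjugation by G, of degree d coprime to the index of N. Then ϑ is the restriction of an irreducible character of G if and only if the determinantal character of ϑ is the restriction of a character of G of degree 1. -/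
theorem result {G : Type*} [Group G] [Finite G] (N : Subgroup G) [hN : N.Normal] (hsolv : Group.IsSolvable (G ⧸ N)) (ϑ : N → ℂ) (hϑ : Cfsg.IsIrrCharacter N ϑ) (hinv : ∀ (g : G) (n : N), ϑ ⟨g * n * g⁻¹, hN.conj_mem (n : G) n.2 g⟩ = ϑ n) (d : ℕ) (hd : ϑ 1 = d) (hcop : Nat.Coprime N.index d) : (∃ χ : G → ℂ, Cfsg.IsIrrCharacter G χ ∧ (∀ n : N, χ n = ϑ n)) ↔ ∃ μ : G → ℂ, Cfsg.IsCharacter G μ ∧ μ 1 = 1 ∧ ∀ n : N, μ n = Cfsg.detChar ϑ n := by
  haveI := Fintype.ofFinite G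
  haveI := Fintype.ofFinite N
  have hd' : degree ⟨ϑ, hϑ⟩ = d := by
    have h1 := apply_one_eq_degree (⟨ϑ, hϑ⟩ : IrrCharacter N)
    rw [show (⟨ϑ, hϑ⟩ : IrrCharacter N).1 1 = ϑ 1 from rfl, hd] at h1
    exact_mod_cast h1.symm
  have hinv' : ∀ g, conjFun N ϑ g = ϑ := fun g => funext fun n => by
    refine Eq.trans ?_ (hinv g n)
    exact congrArg ϑ (Subtype.ext (by simp))
  have key := Clifford.exists_extension_iff_det (⟨ϑ, hϑ⟩ : IrrCharacter N) hinv' (hd' ▸ hcop)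
  constructor
  · rintro ⟨χ, hχ, hext⟩
    obtain ⟨μ, hμ⟩ := key.1 ⟨⟨χ, hχ⟩, hext⟩
    refine ⟨⇑μ, IsIrrCharacter.isCharacter (isIrrCharacter_of_monoidHom μ), map_one μ, fun n => ?_⟩
    rw [Clifford.detChar_fun_eq (⟨ϑ, hϑ⟩ : IrrCharacter N)]
    exact hμ n
  · rintro ⟨μ, hμ, hμ1, hμN⟩
    obtain ⟨f, rfl⟩ := IsCharacter.exists_monoidHom hμ hμ1
    obtain ⟨χ, hχ⟩ := key.2 ⟨f, fun n => by
      rw [hμN n, Clifford.detChar_fun_eq (⟨ϑ, hϑ⟩ : IrrCharacter N)]⟩
    exact ⟨χ.1, χ.2, hχ⟩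

end Cfsg.Agent.S0863
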