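import Cfsg.Statements.S0864
import Cfsg.Agent.Lib.Char.Linear
import Mathlib.GroupTheory.Transfer

set_option autoImplicit false
set_option linter.style.haveILetI false
set_option linter.unusedVariables false
open Cfsg

namespace Cfsg.Agent.S0864

open Cfsg.Agent.Char


/-- Let N be a normal subgroup of the finite group G and λ a character of N of degree 1 invariant under conjugation by G. Suppose that for every prime p dividing the order of λ (in the group of functions under pointwise multiplication) there is a subgroup H containing N, of index prime to p and with the index of N in H a power of p, together with a character of H of degree 1 restricting to λ. Then λ is the restriction of a character of G of degree 1. -/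
theorem result {G : Type*} [Group G] [Finite G] (N : Subgroup G) [hN : N.Normal] (lam : N → ℂ) (hlam : Cfsg.IsCharacter N lam ∧ lam 1 = 1) (hinv : ∀ (g : G) (n : N), lam ⟨g * n * g⁻¹, hN.conj_mem (n : G) n.2 g⟩ = lam n) (hsyl : ∀ p : ℕ, p.Prime → p ∣ orderOf lam → ∃ (H : Subgroup G) (hNH : N ≤ H) (ν : H → ℂ), Nat.Coprime H.index p ∧ (∃ k : ℕ, N.relIndex H = p ^ k) ∧ Cfsg.IsCharacter H ν ∧ ν 1 = 1 ∧ ∀ n : N, ν ⟨(n : G), hNH n.2⟩ = lam n) : ∃ μ : G → ℂ, Cfsg.IsCharacter G μ ∧ μ 1 = 1 ∧ ∀ n : N, μ n = lam n := by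
  obtain ⟨l₀, rfl⟩ := IsCharacter.exists_monoidHom hlam.1 hlam.2
  set l : N →* ℂˣ := l₀.toHomUnits with hl
  have hl' : ∀ n, ((l n : ℂˣ) : ℂ) = l₀ n := fun n => rfl
  let A : AddSubgroup ℤ :=
    { carrier := {k | ∃ μ : G →* ℂˣ, ∀ n : N, μ n = l n ^ k}
      zero_mem' := ⟨1, fun n => (zpow_zero (l n)).symm⟩
      add_mem' := fun {a b} ⟨μ, hμ⟩ ⟨ν, hν⟩ => ⟨μ * ν, fun n => by
        rw [MonoidHom.mul_apply, hμ, hν, zpow_add]⟩
      neg_mem' := fun {a} ⟨μ, hμ⟩ => ⟨μ⁻¹, fun n => by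
        rw [MonoidHom.inv_apply, hμ, zpow_neg]⟩ }
  have ho : ((orderOf (⇑l₀) : ℕ) : ℤ) ∈ A := ⟨1, fun n => by
    rw [zpow_natCast]
    refine Units.ext ?_
    rw [Units.val_pow_eq_pow_val, hl', ← Pi.pow_apply, pow_orderOf_eq_one]
    rfl⟩
  have hidx : ∀ p : ℕ, p.Prime → p ∣ orderOf (⇑l₀) → ∃ i : ℕ, Nat.Coprime i p ∧ (i : ℤ) ∈ A := by
    intro p hp hpo
    obtain ⟨H, hNH, ν, hco, -, hν, hν1, hνN⟩ := hsyl p hp hpo
    obtain ⟨ν₀, rfl⟩ := IsCharacter.exists_monoidHom hν hν1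
    refine ⟨H.index, hco, ν₀.toHomUnits.transfer, fun n => ?_⟩
    classical
    letI := H.fintypeQuotientOfFiniteIndex
    rw [zpow_natCast, Subgroup.index_eq_card, Nat.card_eq_fintype_card, ← Finset.card_univ,
      MonoidHom.transfer_def _ default, Subgroup.leftTransversals.diff]
    refine (Finset.prod_congr rfl fun q _ => ?_).trans (Finset.prod_const (l n))
    have hfix : (n : G)⁻¹ • q = q := by
      obtain ⟨x, rfl⟩ := QuotientGroup.mk_surjective q
      rw [MulAction.Quotient.smul_mk, smul_eq_mul, QuotientGroup.eq, mul_inv_rev, inv_inv]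
      refine hNH ?_
      simpa [mul_assoc] using hN.conj_mem (n : G) n.2 x⁻¹
    refine Units.ext ?_
    rw [hl']
    refine Eq.trans ?_ (hinv ((((default : H.LeftTransversal).2.leftQuotientEquiv q : _) : G))⁻¹ n)
    refine Eq.trans (congrArg ν₀ (Subtype.ext ?_))
      (hνN ⟨_, hN.conj_mem (n : G) n.2 _⟩)
    simp [Subgroup.smul_apply_eq_smul_apply_inv_smul, hfix, mul_assoc]
  obtain ⟨a, ha⟩ := Int.subgroup_cyclic A
  have ha1 : a.natAbs = 1 := by
    by_contra hne
    obtain ⟨p, hp, hpa⟩ := Nat.exists_prime_and_dvd hne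
    have hdvd : ∀ k : ℕ, (k : ℤ) ∈ A → p ∣ k := fun k hk => by
      rw [ha, AddSubgroup.mem_closure_singleton] at hk
      obtain ⟨j, hj⟩ := hk
      rw [← Int.natCast_dvd_natCast, ← hj, smul_eq_mul]
      exact (Int.natCast_dvd.2 hpa).mul_left j
    obtain ⟨i, hi, hiA⟩ := hidx p hp (hdvd _ ho)
    exact hp.one_lt.ne' (Nat.dvd_one.1 (hi ▸ Nat.dvd_gcd (hdvd _ hiA) dvd_rfl))
  have h1 : (1 : ℤ) ∈ A := by
    rw [ha, AddSubgroup.mem_closure_singleton]
    exact ⟨a, by rcases Int.natAbs_eq_iff.1 ha1 with h | h <;> simp [h]⟩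
  obtain ⟨μ, hμ⟩ := h1
  refine ⟨⇑((Units.coeHom ℂ).comp μ),
    IsIrrCharacter.isCharacter (isIrrCharacter_of_monoidHom _), map_one _, fun n => ?_⟩
  show ((μ n : ℂˣ) : ℂ) = l₀ n
  rw [hμ, zpow_one, hl']

end Cfsg.Agent.S0864
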