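import Cfsg.Statements.S0865
import Cfsg.Agent.Lib.Char.Linear
import Cfsg.Agent.Lib.Transfer.EvalPow
-- import your own Cfsg.Agent.* helpers here

set_option autoImplicit false
open Cfsg

namespace Cfsg.Agent.S0865

/-- Let N be a normal subgroup of the finite group G and λ a character of N of degree 1, invariant under conjugation by G, whose order (under pointwise multiplication) is coprime to the index of N. Then there is a character μ of G of degree 1 restricting to λ with the same order as λ, and μ is the only degree-1 character of G restricting to λ whose order is coprime to the index of N. -/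
theorem result {G : Type*} [Group G] [Finite G] (N : Subgroup G) [hN : N.Normal] (lam : N → ℂ) (hlam : Cfsg.IsCharacter N lam ∧ lam 1 = 1) (hinv : ∀ (g : G) (n : N), lam ⟨g * n * g⁻¹, hN.conj_mem (n : G) n.2 g⟩ = lam n) (hcop : Nat.Coprime N.index (orderOf lam)) : ∃ μ : G → ℂ, (Cfsg.IsCharacter G μ ∧ μ 1 = 1 ∧ (∀ n : N, μ n = lam n) ∧ orderOf μ = orderOf lam) ∧ ∀ μ' : G → ℂ, Cfsg.IsCharacter G μ' ∧ μ' 1 = 1 → (∀ n : N, μ' n = lam n) → Nat.Coprime N.index (orderOf μ') → μ' = μ := by
  classical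
  obtain ⟨hl, hl1⟩ := hlam
  obtain ⟨l, hll⟩ := Cfsg.Agent.Char.IsCharacter.exists_monoidHom hl hl1
  let u : N →* ℂˣ := l.toHomUnits
  have hu : ∀ n : N, ((u n : ℂˣ) : ℂ) = lam n := fun n => by
    rw [← hll]; rfl
  have htr : ∀ n : N, MonoidHom.transfer u (n : G) = u n ^ N.index := fun n =>
    Cfsg.Agent.Transfer.transfer_apply_eq_pow_index u n.2 fun k g₀ h => by
      have e : u ⟨g₀⁻¹ * (n : G) ^ k * g₀, h⟩ = u (n ^ k) := Units.ext <| by
        rw [hu, hu]
        have hi := hinv g₀⁻¹ (n ^ k)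
        simpa using hi
      rw [e, map_pow]
  set o := orderOf lam with ho
  have hlo : ∀ n : N, u n ^ o = 1 := fun n => Units.ext <| by
    rw [Units.val_pow_eq_pow_val, hu, Units.val_one]
    exact congrFun (pow_orderOf_eq_one lam) n
  have hTo : ∀ g : G, MonoidHom.transfer u g ^ o = 1 := fun g => by
    let _ := N.fintypeQuotientOfFiniteIndex
    rw [MonoidHom.transfer_eq_prod_quotient_orbitRel_zpowers_quot, ← Finset.prod_pow]
    exact Finset.prod_eq_one fun q _ => hlo _
  set b : ℤ := Nat.gcdA N.index o with hb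
  have hpow : ∀ z : ℂˣ, z ^ o = 1 → (z ^ N.index) ^ b = z := by
    intro z hz
    have h1 : (1 : ℤ) = (N.index : ℤ) * b + (o : ℤ) * Nat.gcdB N.index o := by
      have := Nat.gcd_eq_gcd_ab N.index o
      rw [hcop.gcd_eq_one] at this
      exact_mod_cast this
    calc (z ^ N.index) ^ b = z ^ ((N.index : ℤ) * b + (o : ℤ) * Nat.gcdB N.index o) := by
          rw [zpow_add, zpow_mul, zpow_mul, zpow_natCast, zpow_natCast, hz, one_zpow, mul_one]
      _ = z := by rw [← h1, zpow_one]
  let μh : G →* ℂˣ := (zpowGroupHom b).comp (MonoidHom.transfer u)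
  let μ : G → ℂ := fun g => ((μh g : ℂˣ) : ℂ)
  have hμN : ∀ n : N, μ n = lam n := fun n => by
    simp only [μ, μh, MonoidHom.comp_apply, zpowGroupHom_apply, htr, hpow _ (hlo n), hu]
  have hμo : μ ^ o = 1 := funext fun g => by
    have h1 : μh g ^ o = 1 := by
      simp only [μh, MonoidHom.comp_apply, zpowGroupHom_apply]
      rw [← zpow_natCast, ← zpow_mul, mul_comm, zpow_mul, zpow_natCast, hTo, one_zpow]
    simp only [μ, Pi.pow_apply, Pi.one_apply, ← Units.val_pow_eq_pow_val, h1, Units.val_one]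
  refine ⟨μ, ⟨?_, by simp [μ], hμN, ?_⟩, ?_⟩
  · exact Cfsg.Agent.Char.IsIrrCharacter.isCharacter
      (Cfsg.Agent.Char.isIrrCharacter_of_monoidHom ((Units.coeHom ℂ).comp μh))
  · refine Nat.dvd_antisymm (orderOf_dvd_of_pow_eq_one hμo) (orderOf_dvd_of_pow_eq_one (funext fun n => ?_))
    have h := congrFun (pow_orderOf_eq_one μ) (n : G)
    simp only [Pi.pow_apply, Pi.one_apply, hμN] at h ⊢
    exact h
  · rintro μ' ⟨hc', h1'⟩ hres hcop'
    obtain ⟨m, hm⟩ := Cfsg.Agent.Char.IsCharacter.exists_monoidHom hc' h1'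
    funext g
    let v : G →* ℂˣ := m.toHomUnits
    have hv : ∀ x, ((v x : ℂˣ) : ℂ) = μ' x := fun x => by rw [← hm]; rfl
    set w := v g * (μh g)⁻¹ with hw
    have hwi : w ^ N.index = 1 := by
      have hn : g ^ N.index ∈ N := Subgroup.pow_index_mem N g
      have e : v (g ^ N.index) = μh (g ^ N.index) := Units.ext <| by
        rw [hv]
        exact (hres ⟨_, hn⟩).trans (hμN ⟨_, hn⟩).symm
      rw [hw, mul_pow, inv_pow, ← map_pow, ← map_pow, e, mul_inv_cancel]
    have hwo : w ^ (o * orderOf μ') = 1 := by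
      have e1 : μh g ^ o = 1 := Units.ext <| by
        rw [Units.val_pow_eq_pow_val]; exact congrFun hμo g
      have e2 : v g ^ orderOf μ' = 1 := Units.ext <| by
        rw [Units.val_pow_eq_pow_val, hv]; exact congrFun (pow_orderOf_eq_one μ') g
      rw [hw, mul_pow, inv_pow, pow_mul (μh g), e1, one_pow, mul_comm o, pow_mul, e2, one_pow,
        inv_one, one_mul]
    have hw1 : w = 1 := by
      have hcop2 : Nat.Coprime N.index (o * orderOf μ') := Nat.Coprime.mul_right hcop hcop'
      have := pow_gcd_eq_one.2 ⟨hwi, hwo⟩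
      rwa [hcop2.gcd_eq_one, pow_one] at this
    rw [← hv g]
    show ((v g : ℂˣ) : ℂ) = μ g
    rw [mul_inv_eq_one.1 hw1]

end Cfsg.Agent.S0865
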