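import Cfsg.Statements.S0867
import Cfsg.Agent.Lib.Clifford.GallagherExtension

set_option autoImplicit false
set_option linter.style.haveILetI false
set_option linter.unusedVariables false
open Cfsg

namespace Cfsg.Agent.S0867

open Cfsg.Agent.Char
open Cfsg.Agent


/-- Let N be a normal subgroup of the finite group G and ϑ an irreducible character of N of degree d, invariant under conjugation by G, such that the index of N is coprime to the product of d and the determinantal order of ϑ. Then there is an irreducible character χ of G restricting to ϑ whose determinantal order equals that of ϑ, and χ is the only irreducible character of G restricting to ϑ whose determinantal order is coprime to the index of N. -/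
theorem result {G : Type*} [Group G] [Finite G] (N : Subgroup G) [hN : N.Normal] (ϑ : N → ℂ) (hϑ : Cfsg.IsIrrCharacter N ϑ) (hinv : ∀ (g : G) (n : N), ϑ ⟨g * n * g⁻¹, hN.conj_mem (n : G) n.2 g⟩ = ϑ n) (d : ℕ) (hd : ϑ 1 = d) (hcop : Nat.Coprime N.index (Cfsg.detOrder ϑ * d)) : ∃ χ : G → ℂ, (Cfsg.IsIrrCharacter G χ ∧ (∀ n : N, χ n = ϑ n) ∧ Cfsg.detOrder χ = Cfsg.detOrder ϑ) ∧ ∀ χ' : G → ℂ, Cfsg.IsIrrCharacter G χ' → (∀ n : N, χ' n = ϑ n) → Nat.Coprime N.index (Cfsg.detOrder χ') → χ' = χ := by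
  haveI := Fintype.ofFinite G
  haveI := Fintype.ofFinite N
  have hd' : degree ⟨ϑ, hϑ⟩ = d := by
    have h1 := apply_one_eq_degree (⟨ϑ, hϑ⟩ : IrrCharacter N)
    rw [show (⟨ϑ, hϑ⟩ : IrrCharacter N).1 1 = ϑ 1 from rfl, hd] at h1
    exact_mod_cast h1.symm
  have hinv' : ∀ g, conjFun N ϑ g = ϑ := fun g => funext fun n => by
    refine Eq.trans ?_ (hinv g n)
    exact congrArg ϑ (Subtype.ext (by simp))
  set θ : IrrCharacter N := ⟨ϑ, hϑ⟩
  have hco : Nat.Coprime N.index (degree θ * Cfsg.detOrder ϑ) := by rw [hd', mul_comm]; exact hcop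
  obtain ⟨χ, ⟨hχN, hχdet⟩, huniq⟩ := Clifford.existsUnique_extension_of_coprime θ hinv'
    (Clifford.detOrder_pos θ).ne' (fun n => (Clifford.detOrder_dvd_iff θ).1 dvd_rfl n) hco
  refine ⟨χ.1, ⟨χ.2, hχN, ?_⟩, fun ψ hψ hψN hψo => ?_⟩
  · refine Nat.dvd_antisymm ((Clifford.detOrder_dvd_iff χ).2 hχdet)
      ((Clifford.detOrder_dvd_iff θ).2 fun n => ?_)
    rw [← Clifford.detChar_extension θ χ hχN n]
    exact (Clifford.detOrder_dvd_iff χ).1 dvd_rfl _
  · refine congrArg Subtype.val (huniq ⟨ψ, hψ⟩ ⟨hψN, (Clifford.detOrder_dvd_iff ⟨ψ, hψ⟩).1 ?_⟩)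
    -- o(ψ) divides [G : N] * o(θ)
    have h1 : Cfsg.detOrder ψ ∣ N.index * Cfsg.detOrder ϑ :=
      (Clifford.detOrder_dvd_iff ⟨ψ, hψ⟩).2 fun g => by
        rw [pow_mul, ← map_pow, show g ^ N.index = ((⟨_, N.pow_index_mem g⟩ : N) : G) from rfl,
          Clifford.detChar_extension θ ⟨ψ, hψ⟩ hψN]
        exact (Clifford.detOrder_dvd_iff θ).1 dvd_rfl _
    exact hψo.symm.dvd_of_dvd_mul_left h1

end Cfsg.Agent.S0867
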