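import Cfsg.Statements.S0868
import Mathlib
import Cfsg.Agent.Lib.Char.Gallagher

set_option autoImplicit false
open scoped ComplexConjugate
open Cfsg

namespace Cfsg.Agent.S0868

/-- Let N be a normal subgroup of the finite group G, χ an irreducible character of G whose restriction ϑ to N is irreducible, and ψ an irreducible character of G. Define η on G by η g = (1 / order of N) * Σ over n in N of ψ (n * g) * conj (χ (n * g)). Then: if the restriction of ψ to N has nonzero inner product with ϑ, η is an irreducible character of G; if that inner product is zero, η vanishes identically; and if ψ = χ then η is identically 1. -/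
theorem result {G : Type*} [Group G] [Fintype G] (N : Subgroup G) [N.Normal] [Fintype N] (χ : G → ℂ) (hχ : Cfsg.IsIrrCharacter G χ) (hχN : Cfsg.IsIrrCharacter N (fun n : N => χ n)) (ψ : G → ℂ) (hψ : Cfsg.IsIrrCharacter G ψ) (η : G → ℂ) (hη : η = fun g => (Nat.card N : ℂ)⁻¹ * ∑ n : N, ψ ((n : G) * g) * conj (χ ((n : G) * g))) : (Cfsg.classInner (fun n : N => ψ n) (fun n : N => χ n) ≠ 0 → Cfsg.IsIrrCharacter G η) ∧ (Cfsg.classInner (fun n : N => ψ n) (fun n : N => χ n) = 0 → η = 0) ∧ (ψ = χ → η = fun _ => 1) := by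
  classical
  set X : Cfsg.IrrCharacter G := ⟨χ, hχ⟩
  have hres : Cfsg.IsIrrCharacter N (Char.resFun N X.1) := hχN
  haveI : Fintype (G ⧸ N) := Fintype.ofFinite _
  have hN0 : (Nat.card N : ℂ) ≠ 0 := Char.card_ne_zero
  have hcoset : ∀ g : G, ∑ n : N, χ ((n : G) * g) * conj (χ ((n : G) * g)) =
      (Nat.card N : ℂ) := by
    intro g
    rw [← Char.sum_coset_mul_conj N X hres g]
    refine Fintype.sum_equiv (MulAut.conjNormal (g⁻¹ : G) : MulAut N).toEquiv _ _ fun n => ?_
    show _ = χ (g * ((MulAut.conjNormal (g⁻¹ : G) n : N) : G)) *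
      conj (χ (g * ((MulAut.conjNormal (g⁻¹ : G) n : N) : G)))
    simp [mul_assoc]
  have hclχ := Char.IsCharacter.isClassFunction (Char.IsIrrCharacter.isCharacter hχ)
  have hclψ := Char.IsCharacter.isClassFunction (Char.IsIrrCharacter.isCharacter hψ)
  have hzero : Cfsg.classInner (fun n : N => ψ n) (fun n : N => χ n) = 0 → η = 0 := by
    intro h0
    let f : G ⧸ N → ℂ := fun q => η q.out
    have hηconst : ∀ (g : G) (m : N), η ((m : G) * g) = η g := by
      intro g m
      subst hη
      show _ * _ = _ * _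
      congr 1
      refine Fintype.sum_equiv (Equiv.mulRight m) _ _ fun n => ?_
      simp [mul_assoc]
    have hmk : ∀ g : G, f (g : G ⧸ N) = η g := by
      intro g
      have hm : (g : G ⧸ N).out * g⁻¹ ∈ N := by
        rw [← div_eq_mul_inv, ← QuotientGroup.eq_iff_div_mem]
        exact QuotientGroup.out_eq' _
      calc η (g : G ⧸ N).out = η (((⟨_, hm⟩ : N) : G) * g) := by simp
        _ = η g := hηconst g _
    have hfcl : Cfsg.IsClassFunction (G ⧸ N) f := by
      intro a b
      obtain ⟨a, rfl⟩ := QuotientGroup.mk_surjective a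
      obtain ⟨b, rfl⟩ := QuotientGroup.mk_surjective b
      rw [← QuotientGroup.mk_inv, ← QuotientGroup.mk_mul, ← QuotientGroup.mk_mul, hmk, hmk]
      subst hη
      show _ * _ = _ * _
      congr 1
      refine Fintype.sum_equiv (MulAut.conjNormal (b⁻¹ : G) : MulAut N).toEquiv _ _ fun n => ?_
      have : (n : G) * (b * a * b⁻¹) =
          b * (((MulAut.conjNormal (b⁻¹ : G) n : N) : G) * a) * b⁻¹ := by simp [mul_assoc]
      rw [this, hclψ, hclχ]
      rfl
    have hall : ∀ β : Cfsg.IrrCharacter (G ⧸ N), Cfsg.classInner f β.1 = 0 := by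
      intro β
      have hne : ψ ≠ Char.mulQuotient N χ β.1 := by
        intro he
        have h2 := Char.classInner_resFun_mulQuotient N χ hres β.1
        rw [← he] at h2
        exact Char.IsIrrCharacter.apply_one_ne_zero β.2 (h2.symm.trans h0)
      have h3 : Cfsg.classInner ψ (Char.mulQuotient N χ β.1) = 0 :=
        Char.classInner_irr_of_ne hψ (Char.isIrrCharacter_mulQuotient N X hres β) hne
      rw [← h3]
      have hsum : ∑ g : G, ψ g * conj (Char.mulQuotient N χ β.1 g) =
          (Nat.card N : ℂ) * ∑ q : G ⧸ N, f q * conj (β.1 q) := by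
        rw [Finset.mul_sum, ← Finset.sum_fiberwise Finset.univ (fun g : G => (g : G ⧸ N))]
        refine Finset.sum_congr rfl fun q _ => ?_
        obtain ⟨g, rfl⟩ := QuotientGroup.mk_surjective q
        rw [hmk, hη, ← mul_assoc, ← mul_assoc, mul_inv_cancel₀ hN0, one_mul, Finset.sum_mul]
        refine Finset.sum_bij' (fun x hx => (⟨x * g⁻¹, by
          rw [← div_eq_mul_inv, ← QuotientGroup.eq_iff_div_mem]
          exact (Finset.mem_filter.1 hx).2⟩ : N)) (fun n _ => (n : G) * g)
          (fun x hx => Finset.mem_univ _) (fun n _ => Finset.mem_filter.2 ⟨Finset.mem_univ _, by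
            rw [QuotientGroup.mk_mul, (QuotientGroup.eq_one_iff _).2 n.2, one_mul]⟩)
          (fun x _ => by simp) (fun n _ => Subtype.ext (by simp)) fun x hx => ?_
        rw [Char.mulQuotient_apply, map_mul]
        simp only [inv_mul_cancel_right]
        have hq : (x : G ⧸ N) = (g : G ⧸ N) := (Finset.mem_filter.1 hx).2
        rw [hq]; ring
      have hG : (Nat.card G : ℂ) = Nat.card (G ⧸ N) * Nat.card N := by
        exact_mod_cast N.card_eq_card_quotient_mul_card_subgroup
      simp only [Cfsg.classInner, hsum, hG, mul_inv, mul_assoc, inv_mul_cancel_left₀ hN0]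
    have hf0 := Char.eq_zero_of_classInner_irr hfcl hall
    funext g
    rw [← hmk, hf0]
    rfl
  refine ⟨fun hne => ?_, hzero, fun he => ?_⟩
  · obtain ⟨β, hβ⟩ := Char.exists_mulQuotient_eq N X hres ⟨ψ, hψ⟩ hne
    have : η = fun g : G => β.1 (g : G ⧸ N) := by
      funext g
      simp only [hη]
      have he : ∀ n : N, ψ ((n : G) * g) * conj (χ ((n : G) * g)) =
          β.1 (g : G ⧸ N) * (χ ((n : G) * g) * conj (χ ((n : G) * g))) := by
        intro n
        have h1 : χ ((n : G) * g) * β.1 (((n : G) * g : G) : G ⧸ N) = ψ ((n : G) * g) :=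
          congrFun hβ ((n : G) * g)
        rw [QuotientGroup.mk_mul, (QuotientGroup.eq_one_iff _).2 n.2, one_mul] at h1
        rw [← h1]; ring
      rw [Finset.sum_congr rfl fun n _ => he n, ← Finset.mul_sum, hcoset, mul_comm (β.1 _),
        ← mul_assoc, inv_mul_cancel₀ hN0, one_mul]
    rw [this]
    exact Char.IsIrrCharacter.comp_surjective β.2 (QuotientGroup.mk' N)
      (QuotientGroup.mk'_surjective N)
  · subst he
    funext g
    simp only [hη]
    rw [hcoset, inv_mul_cancel₀ hN0]

end Cfsg.Agent.S0868
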