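import Cfsg.Statements.S0869
import Mathlib

set_option autoImplicit false
open Cfsg

namespace Cfsg.Agent.S0869

/-- Let S be a nonempty finite type and R an additive subgroup of the integer-valued functions on S that is closed under pointwise multiplication. If the constant function 1 is not in R, then there exist a point x of S and a prime p such that p divides f x for every f in R. -/
theorem result {S : Type*} [Finite S] [Nonempty S] (R : AddSubgroup (S → ℤ)) (hmul : ∀ f ∈ R, ∀ g ∈ R, f * g ∈ R) (h1 : (1 : S → ℤ) ∉ R) : ∃ (x : S) (p : ℕ), p.Prime ∧ ∀ f ∈ R, (p : ℤ) ∣ f x := by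
  classical
  haveI := Fintype.ofFinite S
  by_contra hcon
  push Not at hcon
  -- for each point there is an element of R with value 1 there
  have hone : ∀ x : S, ∃ f ∈ R, f x = 1 := by
    intro x
    obtain ⟨a, ha⟩ := Int.subgroup_cyclic (R.map (Pi.evalAddMonoidHom (fun _ : S => ℤ) x))
    have hmem : ∀ f ∈ R, a ∣ f x := by
      intro f hf
      have : f x ∈ R.map (Pi.evalAddMonoidHom (fun _ : S => ℤ) x) := ⟨f, hf, rfl⟩
      rw [ha, AddSubgroup.mem_closure_singleton] at this
      obtain ⟨k, hk⟩ := this
      exact ⟨k, by rw [← hk, smul_eq_mul, mul_comm]⟩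
    have hunit : a.natAbs = 1 := by
      by_contra hne
      obtain ⟨p, hp, hpa⟩ := Nat.exists_prime_and_dvd hne
      obtain ⟨f, hf, hfx⟩ := hcon x p hp
      exact hfx ((Int.natCast_dvd.2 hpa).trans (hmem f hf))
    have : (1 : ℤ) ∈ R.map (Pi.evalAddMonoidHom (fun _ : S => ℤ) x) := by
      rw [ha, AddSubgroup.mem_closure_singleton]
      exact ⟨a, by rcases Int.natAbs_eq_iff.1 hunit with h | h <;> simp [h]⟩
    obtain ⟨f, hf, hfx⟩ := this
    exact ⟨f, hf, hfx⟩
  choose f hf hfx using hone
  have key : ∀ s : Finset S, ∃ r ∈ R, (∏ y ∈ s, (1 - f y)) = 1 - r := by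
    intro s
    induction s using Finset.induction with
    | empty => exact ⟨0, R.zero_mem, by simp⟩
    | insert y s hy ih =>
      obtain ⟨r, hr, he⟩ := ih
      refine ⟨f y + r - f y * r, R.sub_mem (R.add_mem (hf y) hr) (hmul _ (hf y) _ hr), ?_⟩
      rw [Finset.prod_insert hy, he]; ring
  obtain ⟨r, hr, he⟩ := key Finset.univ
  apply h1
  have : r = 1 := by
    funext x
    have := congrFun he x
    rw [Finset.prod_apply, Finset.prod_eq_zero (Finset.mem_univ x) (by simp [hfx])] at this
    simp at this ⊢
    omega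
  rwa [this] at hr

end Cfsg.Agent.S0869
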