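import Cfsg.Statements.S0870
import Mathlib
import Cfsg.Agent.Lib.PermIndOne.Basic

set_option autoImplicit false
open Cfsg

namespace Cfsg.Agent.S0870

/-- For subgroups H and K of a finite group G, the pointwise product of the functions induced from the constant function 1 on H and on K is a sum, over subgroups U of H with natural-number coefficients, of the functions induced from the constant function 1 on U. -/
theorem result {G : Type*} [Group G] [Fintype G] (H K : Subgroup G) : ∃ a : Subgroup G → ℕ, (∀ U, a U ≠ 0 → U ≤ H) ∧ Cfsg.indFun H (fun _ => 1) * Cfsg.indFun K (fun _ => 1) = ∑ U : Subgroup G, (a U : ℂ) • Cfsg.indFun U (fun _ => 1) := by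
  classical
  let X := (G ⧸ H) × (G ⧸ K)
  haveI : Fintype X := Fintype.ofFinite _
  haveI : Fintype (Quotient (MulAction.orbitRel G X)) := Fintype.ofFinite _
  have hU : ∀ ω : Quotient (MulAction.orbitRel G X), ∃ U : Subgroup G, U ≤ H ∧
      Cfsg.indFun (MulAction.stabilizer G ω.out) (fun _ => 1) =
        Cfsg.indFun U (fun _ => 1) := by
    intro ω
    obtain ⟨x, hx⟩ := QuotientGroup.mk_surjective ω.out.1
    refine ⟨(MulAction.stabilizer G ω.out).map (MulAut.conj x⁻¹).toMonoidHom, ?_,
      (PermIndOne.indFun_one_map_conj _ _).symm⟩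
    rintro _ ⟨u, hu, rfl⟩
    have h1 : u • ω.out.1 = ω.out.1 := congrArg Prod.fst (hu : u • ω.out = ω.out)
    rw [← hx, MulAction.Quotient.smul_mk, QuotientGroup.eq] at h1
    have := H.inv_mem h1
    simpa [mul_assoc, smul_eq_mul] using this
  choose U hUH hUeq using hU
  refine ⟨fun V => (Finset.univ.filter fun ω => U ω = V).card, fun V hV => ?_, ?_⟩
  · obtain ⟨ω, hω⟩ := Finset.card_pos.1 (Nat.pos_of_ne_zero hV)
    rw [← (Finset.mem_filter.1 hω).2]; exact hUH ω
  · rw [PermIndOne.indFun_one_mul, Char.fixedBy_eq_sum_indFun X,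
      Finset.sum_congr rfl fun ω _ => hUeq ω,
      ← Finset.sum_fiberwise Finset.univ U fun ω => Cfsg.indFun (U ω) (fun _ => 1)]
    refine Finset.sum_congr rfl fun V _ => ?_
    rw [Finset.sum_congr rfl fun ω hω => by rw [(Finset.mem_filter.1 hω).2], Finset.sum_const,
      Nat.cast_smul_eq_nsmul]

end Cfsg.Agent.S0870
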