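import Cfsg.Statements.S0872
import Cfsg.Agent.Lib.PermIndOne.Basic

set_option autoImplicit false
open Cfsg

namespace Cfsg.Agent.S0872

/-- For a finite group G and a prime p there are an integer m not divisible by p and a ℤ-linear combination of functions induced from the constant function 1 on subgroups H, each having a cyclic normal subgroup of order prime to p and p-power index in H, that equals the constant function m. -/
theorem result {G : Type*} [Group G] [Fintype G] (p : ℕ) (hp : p.Prime) : ∃ (m : ℤ) (a : Subgroup G → ℤ), ¬ (p : ℤ) ∣ m ∧ (∀ H, a H ≠ 0 → (∃ C : Subgroup G, C ≤ H ∧ H ≤ Subgroup.normalizer (C : Set G) ∧ IsCyclic C ∧ Nat.Coprime (Nat.card C) p ∧ ∃ k : ℕ, C.relIndex H = p ^ k)) ∧ (fun _ : G => (m : ℂ)) = ∑ H : Subgroup G, (a H : ℂ) • Cfsg.indFun H (fun _ => 1) := by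
  classical
  let R : AddSubgroup (G → ℂ) :=
    { carrier := {f | ∃ a : Subgroup G → ℤ, (∀ H, a H ≠ 0 → Char.IsQuasiElem p H) ∧
        f = ∑ H : Subgroup G, (a H : ℂ) • Cfsg.indFun H (fun _ => 1)}
      zero_mem' := ⟨0, by simp, by simp⟩
      add_mem' := by
        rintro f f' ⟨a, ha, rfl⟩ ⟨b, hb, rfl⟩
        refine ⟨a + b, fun H h => ?_, ?_⟩
        · by_cases h1 : a H = 0
          · exact hb H (by simpa [h1] using h)
          · exact ha H h1
        · simp [add_smul, Finset.sum_add_distrib]
      neg_mem' := by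
        rintro f ⟨a, ha, rfl⟩
        exact ⟨-a, fun H h => ha H (by simpa using h), by simp⟩ }
  obtain ⟨m, hm, a, ha, he⟩ := Char.exists_int_const_mem_of_quasiElem hp (R := R) (fun H hH =>
    ⟨fun K => if K = H then 1 else 0, fun K hK => by
      by_cases hKH : K = H
      · exact hKH ▸ hH
      · simp [hKH] at hK, by simp [ite_smul]⟩)
  exact ⟨m, a, hm, ha, he⟩

end Cfsg.Agent.S0872
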