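import Cfsg.Statements.S0874
import Cfsg.Agent.Lib.Char.Brauer
-- import your own Cfsg.Agent.* helpers here

set_option autoImplicit false
open Cfsg

namespace Cfsg.Agent.S0874

/-- For a finite group G and a prime p there are an integer m not divisible by p and a list of triples (E, φ, c), with E a p-elementary subgroup, φ a character of E and c an integer, such that the constant function m on G equals the sum of the c • (function induced from φ). -/
theorem result {G : Type*} [Group G] [Fintype G] (p : ℕ) (hp : p.Prime) : ∃ (m : ℤ) (l : List ((E : Subgroup G) × ((E → ℂ) × ℤ))), ¬ (p : ℤ) ∣ m ∧ (∀ t ∈ l, Cfsg.IsElementary p t.1 ∧ Cfsg.IsCharacter t.1 t.2.1) ∧ (fun _ : G => (m : ℂ)) = (l.map fun t => (t.2.2 : ℂ) • Cfsg.indFun t.1 t.2.1).sum := by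
  classical
  obtain ⟨m, hm, hmem⟩ := Char.exists_int_const_mem_elemInd (G := G) hp
  let L : Type _ := List ((E : Subgroup G) × ((E → ℂ) × ℤ))
  let ev : L → G → ℂ := fun l => (l.map fun t => (t.2.2 : ℂ) • Cfsg.indFun t.1 t.2.1).sum
  suffices H : ∀ f ∈ Char.elemInd G p, ∃ l : L,
      (∀ t ∈ l, Cfsg.IsElementary p t.1 ∧ Cfsg.IsCharacter t.1 t.2.1) ∧ f = ev l by
    obtain ⟨l, h1, h2⟩ := H _ hmem
    exact ⟨m, l, hm, h1, h2⟩
  intro f hf
  induction hf using AddSubgroup.closure_induction with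
  | mem f hf =>
    obtain ⟨E, θ, hel, hθ, rfl⟩ := hf
    refine ⟨[⟨E, θ, 1⟩], ?_, ?_⟩
    · intro t ht
      rw [List.mem_singleton] at ht
      subst ht
      exact ⟨hel, hθ⟩
    · simp [ev]
  | zero => exact ⟨[], fun t ht => absurd ht List.not_mem_nil, by simp [ev]⟩
  | add x y _ _ hx hy =>
    obtain ⟨l₁, h₁, rfl⟩ := hx
    obtain ⟨l₂, h₂, rfl⟩ := hy
    refine ⟨l₁ ++ l₂, fun t ht => (List.mem_append.1 ht).elim (h₁ t) (h₂ t), ?_⟩
    exact (List.sum_append.symm.trans (congrArg List.sum List.map_append.symm) : _ = ev (l₁ ++ l₂))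
  | neg x hmem2 hx =>
    obtain ⟨l, h, rfl⟩ := hx
    refine ⟨l.map fun t => ⟨t.1, t.2.1, -t.2.2⟩, fun t ht => ?_, ?_⟩
    · obtain ⟨s, hs, rfl⟩ := List.mem_map.1 ht
      exact h s hs
    · clear h hmem2
      induction l with
      | nil => simp [ev]
      | cons a t ih =>
        simp only [ev, List.map_cons, List.sum_cons] at ih ⊢
        rw [neg_add, ih, Int.cast_neg, neg_smul]

end Cfsg.Agent.S0874
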