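import Cfsg.Statements.S0876
import Cfsg.Agent.Lib.Char.Congruence
import Cfsg.Agent.Lib.Blocks.LocalRing
import Cfsg.Agent.Lib.Char.SectionIndicator
-- import your own Cfsg.Agent.* helpers here

set_option autoImplicit false
open Cfsg

namespace Cfsg.Agent.S0876

/-- Let G be a finite group, p a prime and M a maximal ideal of the ring of algebraic integers containing p. Let x, y be elements with p-parts a and b (so a⁻¹ * x and b⁻¹ * y are their p-regular parts). Then a⁻¹ * x and b⁻¹ * y are conjugate in G if and only if, for every irreducible character χ, the difference χ x - χ y lies in the local ideal at M. -/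
theorem result {G : Type*} [Group G] [Finite G] (p : ℕ) (M : Ideal Cfsg.AlgInt) (hM : Cfsg.IsPModular p M) (x y a b : G) (ha : Cfsg.IsPPart p x a) (hb : Cfsg.IsPPart p y b) : IsConj (a⁻¹ * x) (b⁻¹ * y) ↔ ∀ χ : Cfsg.IrrCharacter G, Cfsg.MemLocalIdeal M ((χ : G → ℂ) x - (χ : G → ℂ) y) := by
  classical
  haveI := Fintype.ofFinite G
  obtain ⟨hp, hMax, hpM⟩ := hM
  haveI := hMax
  haveI : M.IsPrime := hMax.isPrime
  obtain ⟨x', hx, hcx, hax, hx'⟩ := ha
  obtain ⟨y', hy, hcy, hby, hy'⟩ := hb
  subst hx hy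
  simp only [inv_mul_cancel_left]
  have hcong : ∀ (χ : Cfsg.IrrCharacter G) (u z : G), Commute u z → (∃ k, orderOf u = p ^ k) →
      ∃ γ : Cfsg.AlgInt, χ.1 (u * z) ^ p ^ (Nat.card G).factorization p -
        χ.1 (z ^ p ^ (Nat.card G).factorization p) = (p : ℂ) * (γ : ℂ) := by
    intro χ u z huz ⟨k, hk⟩
    rw [← Char.pow_pPart_eq hp huz hk _ le_rfl]
    exact Char.exists_char_pow_sub hp (Char.irr_isCharacter χ) _ _
  constructor
  · intro hconj χ
    set N := p ^ (Nat.card G).factorization p with hN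
    let A : Cfsg.AlgInt := ⟨χ.1 (a * x'), CharInt.isIntegral_char (Char.irr_isCharacter χ) _⟩
    let B : Cfsg.AlgInt := ⟨χ.1 (b * y'), CharInt.isIntegral_char (Char.irr_isCharacter χ) _⟩
    obtain ⟨γ, hγ⟩ := hcong χ a x' hcx hax
    obtain ⟨δ, hδ⟩ := hcong χ b y' hcy hby
    have hxy : χ.1 (x' ^ N) = χ.1 (y' ^ N) := by
      obtain ⟨w, hw⟩ := isConj_iff.1 hconj
      rw [← hw, conj_pow]
      exact (Char.IsCharacter.isClassFunction (Char.irr_isCharacter χ) _ w).symm
    have hmem : A ^ N - B ^ N ∈ M := by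
      have : A ^ N - B ^ N = (p : Cfsg.AlgInt) * (γ - δ) := by
        apply Subtype.ext
        simp only [Subalgebra.coe_sub, SubmonoidClass.coe_pow, Subalgebra.coe_mul, A, B]
        rw [hxy] at hγ
        linear_combination hγ - hδ
      rw [this]; exact M.mul_mem_right _ hpM
    obtain ⟨r, hr⟩ := exists_add_pow_prime_pow_eq hp (A - B) B ((Nat.card G).factorization p)
    have h2 : (A - B) ^ N ∈ M := by
      rw [sub_add_cancel, ← hN] at hr
      have h3 : (A - B) ^ N = (A ^ N - B ^ N) - (p : Cfsg.AlgInt) * (A - B) * B * r := by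
        rw [hr]; ring
      rw [h3]
      exact M.sub_mem hmem (M.mul_mem_right _ (M.mul_mem_right _ (M.mul_mem_right _ hpM)))
    have h4 := (Blocks.memLocalIdeal_coe_iff (M := M) (A - B)).2 (Ideal.IsPrime.mem_of_pow_mem inferInstance _ h2)
    simpa [A, B] using h4
  · intro h
    by_contra hne
    obtain ⟨c, hc⟩ := Char.exists_section_indicator hp x' hx'
    have h1 := (hc a x' hcx hax hx').1 (IsConj.refl _)
    have h2 := (hc b y' hcy hby hy').2 fun h' => hne h'.symm
    set n := Nat.card G / p ^ (Nat.card G).factorization p with hn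
    have hmem : Cfsg.MemLocalIdeal M (n : ℂ) := by
      have e : (n : ℂ) = ∑ χ, (c χ : ℂ) * (χ.1 (a * x') - χ.1 (b * y')) := by
        rw [Finset.sum_congr rfl fun χ _ => mul_sub (c χ : ℂ) _ _, Finset.sum_sub_distrib, h1, h2,
          sub_zero]
      rw [e]
      exact Blocks.MemLocalIdeal.sum _ fun χ _ =>
        Blocks.MemLocalIdeal.mul_left (Blocks.memLocalRing_coe _) (h χ)
    have hn' : (n : Cfsg.AlgInt) ∈ M := by
      refine (Blocks.memLocalIdeal_coe_iff (M := M) _).1 ?_
      simpa using hmem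
    have hcop : Nat.Coprime p n :=
      hp.coprime_iff_not_dvd.2 (Nat.not_dvd_ordCompl hp Nat.card_pos.ne')
    refine hMax.ne_top ((Ideal.eq_top_iff_one M).2 ?_)
    have hbz := Nat.gcd_eq_gcd_ab p n
    rw [hcop] at hbz
    have h1 : (1 : Cfsg.AlgInt) = (p : Cfsg.AlgInt) * (Nat.gcdA p n : Cfsg.AlgInt) +
        (n : Cfsg.AlgInt) * (Nat.gcdB p n : Cfsg.AlgInt) := by
      have := congrArg (fun z : ℤ => (z : Cfsg.AlgInt)) hbz
      push_cast at this
      exact this
    rw [h1]
    exact M.add_mem (M.mul_mem_right _ hpM) (M.mul_mem_right _ hn')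

end Cfsg.Agent.S0876
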