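import Cfsg.Statements.S0879
import Mathlib
import Cfsg.Agent.Lib.ZassenhausOdd.Basic
import Cfsg.Agent.Lib.Perm.Zassenhaus

set_option autoImplicit false
open Cfsg

namespace Cfsg.Agent.S0879

/-- Let G be a Zassenhaus group on the finite set Ω and E the stabilizer of two distinct points a, b. Then an element outside the normalizer of E conjugates no non-identity element of E into E, and E has index 2 in its normalizer. -/
theorem result {G Ω : Type*} [Group G] [Finite G] [MulAction G Ω] [Fintype Ω] (hZ : Cfsg.IsZassenhausGroup G Ω) {a b : Ω} (hab : a ≠ b) : (∀ g : G, g ∉ Subgroup.normalizer ((MulAction.stabilizer G a ⊓ MulAction.stabilizer G b : Subgroup G) : Set G) → ∀ x ∈ (MulAction.stabilizer G a ⊓ MulAction.stabilizer G b : Subgroup G), g * x * g⁻¹ ∈ (MulAction.stabilizer G a ⊓ MulAction.stabilizer G b : Subgroup G) → x = 1) ∧ ((MulAction.stabilizer G a ⊓ MulAction.stabilizer G b : Subgroup G).subgroupOf (Subgroup.normalizer ((MulAction.stabilizer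 G a ⊓ MulAction.stabilizer G b : Subgroup G) : Set G))).index = 2 := by
  classical
  open Cfsg.Agent.ZassenhausOdd in
  refine ⟨fun g hg x hx h => ?_, ?_⟩
  · by_contra hx1
    have h' : g⁻¹⁻¹ * x * g⁻¹ ∈ Cfsg.Agent.ZassenhausOdd.twoStab G a b := by rwa [inv_inv]
    obtain ⟨ha, hb⟩ := Cfsg.Agent.ZassenhausOdd.pair_of_conj_mem hZ hab hx hx1 h'
    exact hg (inv_inv g ▸ Subgroup.inv_mem _
      (Cfsg.Agent.ZassenhausOdd.mem_normalizer_twoStab hZ hab ha hb))
  set E := Cfsg.Agent.ZassenhausOdd.twoStab G a b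
  obtain ⟨x, hx, hx1⟩ : ∃ x ∈ E, x ≠ 1 := by
    haveI : Nontrivial E := Finite.one_lt_card_iff_nontrivial.1
      (Cfsg.Agent.ZassenhausOdd.twoStab_nontrivial hZ hab)
    obtain ⟨x, hx⟩ := exists_ne (1 : E)
    exact ⟨x, x.2, fun h => hx (Subtype.ext h)⟩
  have hpair : ∀ g ∈ Subgroup.normalizer (E : Set G),
      (g • a = a ∧ g • b = b) ∨ (g • a = b ∧ g • b = a) := by
    intro g hg
    have h' : g⁻¹ * x * g ∈ E := by
      simpa using (Subgroup.mem_normalizer_iff.1 (Subgroup.inv_mem _ hg) x).1 hx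
    obtain ⟨ha, hb⟩ := Cfsg.Agent.ZassenhausOdd.pair_of_conj_mem hZ hab hx hx1 h'
    rcases ha with ha | ha <;> rcases hb with hb | hb
    · exact absurd (smul_left_cancel g (ha.trans hb.symm)) hab
    · exact Or.inl ⟨ha, hb⟩
    · exact Or.inr ⟨ha, hb⟩
    · exact absurd (smul_left_cancel g (ha.trans hb.symm)) hab
  obtain ⟨t, -, hta, htb⟩ := Cfsg.Agent.Perm.Zass.exists_swap hZ hab
  rw [Subgroup.index_eq_two_iff]
  refine ⟨⟨t, Cfsg.Agent.ZassenhausOdd.mem_normalizer_twoStab hZ hab (Or.inr hta)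
    (Or.inl htb)⟩, fun g => ?_⟩
  simp only [Subgroup.mem_subgroupOf, Subgroup.coe_mul]
  rcases hpair g g.2 with ⟨h1, h2⟩ | ⟨h1, h2⟩
  · refine Or.inr ⟨⟨h1, h2⟩, fun h => hab ?_⟩
    have h3 : ((g : G) * t) • a = a := h.1
    rw [mul_smul, hta, h2] at h3
    exact h3.symm
  · refine Or.inl ⟨⟨?_, ?_⟩, fun h => hab ?_⟩
    · show ((g : G) * t) • a = a
      rw [mul_smul, hta, h2]
    · show ((g : G) * t) • b = b
      rw [mul_smul, htb, h1]
    · exact ((h.1 : (g : G) • a = a).symm.trans h1)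

end Cfsg.Agent.S0879
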