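import Cfsg.Statements.S0880
import Mathlib

set_option autoImplicit false
open Cfsg

namespace Cfsg.Agent.S0880

/-- Let G be a finite simple Zassenhaus group on Ω with n points whose two-point stabilizer E has odd order less than n - 2. Then there are two elements of G, each fixing no point of Ω, that are not conjugate. -/
theorem result {G Ω : Type*} [Group G] [Finite G] [MulAction G Ω] [Fintype Ω] (hZ : Cfsg.IsZassenhausGroup G Ω) {a b : Ω} (hab : a ≠ b) [IsSimpleGroup G] (hodd : Odd (Nat.card ↥(MulAction.stabilizer G a ⊓ MulAction.stabilizer G b : Subgroup G))) (hlt : Nat.card ↥(MulAction.stabilizer G a ⊓ MulAction.stabilizer G b : Subgroup G) < Fintype.card Ω - 2) : ∃ x y : G, (∀ c : Ω, x • c ≠ c) ∧ (∀ c : Ω, y • c ≠ c) ∧ ¬ IsConj x y := by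
  classical
  obtain ⟨hfaith, h2t, h3, ⟨g₀, hg₀, a₀, b₀, hab₀, hga₀, hgb₀⟩, -⟩ := hZ
  haveI := h2t
  haveI := Fintype.ofFinite G
  haveI : MulAction.IsPretransitive G Ω := MulAction.isPretransitive_of_is_two_pretransitive
  set E : Subgroup G := MulAction.stabilizer G a ⊓ MulAction.stabilizer G b with hE
  set e := Nat.card E with he
  set n := Fintype.card Ω with hn
  -- the two-point stabilizer is non-trivial
  have he3 : 3 ≤ e := by
    obtain ⟨k, hka, hkb⟩ := MulAction.is_two_pretransitive_iff.1 h2t hab₀ hab
    have hmem : k * g₀ * k⁻¹ ∈ E := by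
      simp only [hE, Subgroup.mem_inf, MulAction.mem_stabilizer_iff, mul_smul]
      rw [← hka, ← hkb]; simp [hga₀, hgb₀]
    have hne : k * g₀ * k⁻¹ ≠ 1 := by simpa using hg₀
    have : Nontrivial E := ⟨⟨⟨_, hmem⟩, 1, fun h => hne (congrArg Subtype.val h)⟩⟩
    have h1 : 1 < e := Finite.one_lt_card
    obtain ⟨t, ht⟩ := hodd
    omega
  -- orbit counting
  have hfix : ∀ g : G, g ≠ 1 → (Finset.univ.filter fun c : Ω => g • c = c).card ≤ 2 := by
    intro g hg
    by_contra hlt'
    obtain ⟨x, hx, y, hy, z, hz, hxy, hxz, hyz⟩ := Finset.two_lt_card.1 (by omega :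
      2 < (Finset.univ.filter fun c : Ω => g • c = c).card)
    simp only [Finset.mem_filter, Finset.mem_univ, true_and] at hx hy hz
    exact hg (h3 g x y z hxy hyz hxz hx hy hz)
  set F : G → Finset Ω := fun g => Finset.univ.filter fun c : Ω => g • c = c with hF
  have hcardG1 : ∀ c : Ω, Nat.card (MulAction.stabilizer G c) * n = Nat.card G := by
    intro c
    have h1 := (MulAction.stabilizer G c).card_mul_index
    rw [MulAction.index_stabilizer_of_transitive G c, Nat.card_eq_fintype_card (α := Ω), ← hn] at h1
    exact h1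
  have hstab2 : ∀ c d : Ω, c ≠ d →
      Nat.card ↥(MulAction.stabilizer G c ⊓ MulAction.stabilizer G d : Subgroup G) = e := by
    intro c d hcd
    obtain ⟨k, hka, hkb⟩ := MulAction.is_two_pretransitive_iff.1 h2t hab hcd
    have : (MulAction.stabilizer G c ⊓ MulAction.stabilizer G d : Subgroup G) =
        E.map (MulAut.conj k).toMonoidHom := by
      rw [hE, Subgroup.map_inf _ _ _ (MulAut.conj k).injective, ← hka, ← hkb,
        MulAction.stabilizer_smul_eq_stabilizer_map_conj,
        MulAction.stabilizer_smul_eq_stabilizer_map_conj]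
    rw [this, Subgroup.card_map_of_injective (MulAut.conj k).injective]
  -- first moment
  have hS1 : ∑ g : G, (F g).card = Nat.card G := by
    have h1 : ∑ g : G, (F g).card = ∑ c : Ω, Nat.card (MulAction.stabilizer G c) := by
      simp only [hF, Finset.card_filter]
      rw [Finset.sum_comm]
      refine Finset.sum_congr rfl fun c _ => ?_
      rw [← Finset.card_filter, Nat.card_eq_fintype_card,
        Fintype.card_of_subtype _ (fun g => ?_)]
      simp [MulAction.mem_stabilizer_iff]
    obtain ⟨c₀⟩ : Nonempty Ω := ⟨a⟩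
    have h2 : ∀ c : Ω, Nat.card (MulAction.stabilizer G c) =
        Nat.card (MulAction.stabilizer G a) := fun c => by
      have := hcardG1 c
      rw [← hcardG1 a] at this
      exact Nat.eq_of_mul_eq_mul_right (Fintype.card_pos_iff.2 ⟨a⟩) this
    rw [h1, Finset.sum_congr rfl fun c _ => h2 c, Finset.sum_const, Finset.card_univ,
      smul_eq_mul, mul_comm, ← hn, hcardG1 a]
  -- second moment
  have hS2 : ∑ g : G, (F g).offDiag.card = n * (n - 1) * e := by
    have hsplit : ∀ g : G, (F g).offDiag =
        (Finset.univ : Finset Ω).offDiag.filter fun q => g • q.1 = q.1 ∧ g • q.2 = q.2 := by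
      intro g; ext q; simp [hF]; tauto
    simp only [hsplit, Finset.card_filter]
    rw [Finset.sum_comm]
    have : ∀ q ∈ (Finset.univ : Finset Ω).offDiag,
        (∑ g : G, if g • q.1 = q.1 ∧ g • q.2 = q.2 then 1 else 0) = e := by
      intro q hq
      rw [Finset.mem_offDiag] at hq
      rw [← hstab2 q.1 q.2 hq.2.2, ← Finset.card_filter, Nat.card_eq_fintype_card,
        Fintype.card_of_subtype _ (fun g => ?_)]
      simp [MulAction.mem_stabilizer_iff]
    rw [Finset.sum_congr rfl this, Finset.sum_const, Finset.offDiag_card, Finset.card_univ,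
      smul_eq_mul, ← hn, Nat.mul_sub, mul_one]
  have hG : Nat.card G = n * (n - 1) * e := by
    have h1 : Nat.card (MulAction.stabilizer G a) = (n - 1) * e := by
      have hmem : ∀ c : Ω, c ≠ a → Nat.card ↥(MulAction.stabilizer G a ⊓
          MulAction.stabilizer G c : Subgroup G) = e := fun c hc => hstab2 a c (Ne.symm hc)
      have hidx : ((MulAction.stabilizer G b).subgroupOf (MulAction.stabilizer G a)).index =
          n - 1 := by
        have horb : MulAction.orbit (MulAction.stabilizer G a) b = {c | c ≠ a} := by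
          ext c
          constructor
          · rintro ⟨k, rfl⟩ h
            exact hab (smul_left_cancel (k : G) ((MulAction.mem_stabilizer_iff.1 k.2).trans h.symm))
          · intro hc
            obtain ⟨k, hka, hkb⟩ := MulAction.is_two_pretransitive_iff.1 h2t hab (Ne.symm hc)
            exact ⟨⟨k, hka⟩, hkb⟩
        have : (MulAction.stabilizer G b).subgroupOf (MulAction.stabilizer G a) =
            MulAction.stabilizer (MulAction.stabilizer G a) b := by
          ext k; simp [Subgroup.mem_subgroupOf, MulAction.mem_stabilizer_iff, Subgroup.smul_def]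
        rw [this, MulAction.index_stabilizer, horb, Set.ncard_eq_toFinset_card']
        simp [Finset.filter_ne', hn]
      have h2 := ((MulAction.stabilizer G b).subgroupOf (MulAction.stabilizer G a)).card_mul_index
      have h3' : Nat.card ((MulAction.stabilizer G b).subgroupOf (MulAction.stabilizer G a)) = e := by
        rw [← Subgroup.inf_subgroupOf_right,
          Nat.card_congr (Subgroup.subgroupOfEquivOfLe inf_le_right).toEquiv, inf_comm, ← hE, ← he]
      rw [hidx, h3'] at h2
      rw [← h2, mul_comm]
    rw [← hcardG1 a, h1]; ring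
  have hn3 : e + 3 ≤ n := by omega
  -- the elements with 0, 1, 2 fixed points
  set h := n - 1 with hh
  have hne : n = h + 1 := by omega
  set Z := (Finset.univ : Finset G).filter fun g => (F g).card = 0 with hZdef
  have hZ : 2 * Z.card = h * (n * (e - 1) + 2) := by
    have hpt : ∀ g ∈ (Finset.univ : Finset G).erase 1,
        2 * (if (F g).card = 0 then 1 else 0) + 2 * (F g).card = 2 + (F g).offDiag.card := by
      intro g hg
      have h2 := hfix g (Finset.ne_of_mem_erase hg)
      rw [Finset.offDiag_card]
      change (F g).card ≤ 2 at h2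
      interval_cases hc : (F g).card <;> simp
    have hsum := Finset.sum_congr rfl hpt
    simp only [Finset.sum_add_distrib, ← Finset.mul_sum, Finset.sum_const, smul_eq_mul] at hsum
    have hF1 : (F 1).card = n := by simp [hF, hn]
    have e1 := Finset.add_sum_erase Finset.univ (fun g => (F g).card) (Finset.mem_univ (1 : G))
    have e2 := Finset.add_sum_erase Finset.univ (fun g => (F g).offDiag.card)
      (Finset.mem_univ (1 : G))
    have e0 := Finset.add_sum_erase Finset.univ (fun g => if (F g).card = 0 then 1 else 0)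
      (Finset.mem_univ (1 : G))
    have hO1 : (F 1).offDiag.card = n * n - n := by rw [Finset.offDiag_card, hF1]
    simp only [hS1, hF1] at e1
    simp only [hS2, hO1] at e2
    simp only [hF1] at e0
    rw [if_neg (by omega), zero_add] at e0
    simp only [← Finset.card_filter] at hsum e0
    rw [e0, Finset.card_erase_of_mem (Finset.mem_univ _), Finset.card_univ,
      ← Nat.card_eq_fintype_card] at hsum
    change 2 * Z.card + _ = _ at hsum
    rw [hG] at hsum e1
    obtain ⟨e', hee⟩ : ∃ e', e = e' + 1 := ⟨e - 1, by omega⟩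
    rw [hee] at hsum e1 e2 ⊢
    rw [hne] at hsum e1 e2 ⊢
    simp only [Nat.add_sub_cancel] at hsum e1 e2 ⊢
    have hsub : (h + 1) * (h + 1) - (h + 1) = (h + 1) * h := by rw [Nat.mul_add, mul_one]; omega
    rw [hsub] at e2
    have hpos : 1 ≤ (h + 1) * h * (e' + 1) := by
      have : 0 < h := by omega
      have : 0 < (h + 1) * h * (e' + 1) := by positivity
      omega
    rw [Nat.sub_mul, one_mul] at hsum
    have hpos2 : 2 ≤ (h + 1) * h * (e' + 1) * 2 := by omega
    zify [hpos, hpos2] at hsum e1 e2 ⊢
    linear_combination hsum - 2 * e1 + e2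
  by_contra hcon
  push Not at hcon
  have hmemZ : ∀ g : G, g ∈ Z ↔ ∀ c : Ω, g • c ≠ c := by
    intro g; simp [hZdef, hF, Finset.filter_eq_empty_iff]
  have hpos : 0 < Z.card := by
    by_contra h0
    have : h * (n * (e - 1) + 2) = 0 := by omega
    simp at this
    omega
  obtain ⟨x, hx⟩ := Finset.card_pos.1 hpos
  rw [hmemZ] at hx
  have horb : (MulAction.orbit (ConjAct G) x) = (Z : Set G) := by
    ext y
    rw [Finset.mem_coe, hmemZ, ConjAct.mem_orbit_conjAct]
    constructor
    · intro hy c hc
      obtain ⟨k, hk⟩ := isConj_iff.1 hy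
      refine hx (k • c) ?_
      rw [← hk, ← mul_smul, mul_assoc, mul_assoc, inv_mul_cancel, mul_one, mul_smul, hc]
    · intro hy
      exact hcon y x hy hx
  have hdvd : Z.card ∣ Nat.card G := by
    have := (MulAction.stabilizer (ConjAct G) x).index_dvd_card
    rw [MulAction.index_stabilizer, horb, Set.ncard_coe_finset] at this
    exact this
  obtain ⟨m, hm⟩ := hdvd
  have key : 2 * (n * e) = (n * (e - 1) + 2) * m := by
    have h0 : 0 < h := by omega
    apply Nat.eq_of_mul_eq_mul_left h0
    rw [← mul_assoc h (n * (e - 1) + 2), ← hZ, mul_assoc 2 Z.card, ← hm, hG]; ring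
  have hD : n * (e - 1) + 2 ∣ 4 * e := by
    have h1 : n * (e - 1) + 2 ∣ (e - 1) * (2 * (n * e)) + 4 * e := by
      refine ⟨2 * e, ?_⟩
      ring
    have h2 : n * (e - 1) + 2 ∣ (e - 1) * (2 * (n * e)) :=
      ⟨(e - 1) * m, by rw [key]; ring⟩
    exact (Nat.dvd_add_right h2).1 h1
  have hle := Nat.le_of_dvd (by omega) hD
  obtain ⟨f, hf⟩ : ∃ f, e = f + 3 := ⟨e - 3, by omega⟩
  rw [hf] at hle hn3
  simp only [show f + 3 - 1 = f + 2 from rfl] at hle
  nlinarith

end Cfsg.Agent.S0880
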