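import Cfsg.Statements.S0883
import Mathlib
import Cfsg.Agent.Lib.Perm.Zassenhaus
import Cfsg.Agent.Lib.ZassenhausOdd.Involutions

set_option autoImplicit false
open Cfsg

namespace Cfsg.Agent.S0883

/-- Let G be a finite simple Zassenhaus group on Ω with h + 1 points whose two-point stabilizer E has odd order e with 2e < h - 1, and let H be the subgroup of the stabilizer of a consisting of the identity and the elements fixing no point other than a (given here as a subgroup of the stabilizer of order one less than the number of points whose non-identity elements fix only a; it is the Frobenius kernel of the stabilizer). If a non-identity element u of H is a product of two involutions of G, then u is an involution. -/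
theorem result {G Ω : Type*} [Group G] [Finite G] [MulAction G Ω] [Fintype Ω] (hZ : Cfsg.IsZassenhausGroup G Ω) {a b : Ω} (hab : a ≠ b) [IsSimpleGroup G] (h e : ℕ) (hh : Fintype.card Ω = h + 1) (he : Nat.card ↥(MulAction.stabilizer G a ⊓ MulAction.stabilizer G b : Subgroup G) = e) (hodd : Odd e) (hlt : 2 * e < h - 1) (H : Subgroup G) (hHa : H ≤ MulAction.stabilizer G a) (hHcard : Nat.card H + 1 = Fintype.card Ω) (hHfix : ∀ u ∈ H, u ≠ 1 → ∀ c : Ω, u • c = c → c = a) (u : G) (hu : u ∈ H) (hu1 : u ≠ 1) (x y : G) (hx : orderOf x = 2) (hy : orderOf y = 2) (hxy : x * y = u) : orderOf u = 2 := by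
  classical
  letI := Fintype.ofFinite G
  open Cfsg.Agent.ZassenhausOdd MulAction Finset in
  have key : x * u = u * x := by
    have hperf := commutator_eq_top hZ
    have hodd' : Odd (Nat.card (twoStab G a b)) := by
      show Odd (Nat.card ↥(stabilizer G a ⊓ stabilizer G b : Subgroup G))
      rw [he]; exact hodd
    have hx2 := Cfsg.Agent.Perm.Zass.sq_eq_one_of_order hx
    have hy2 := Cfsg.Agent.Perm.Zass.sq_eq_one_of_order hy
    have hua : u • a = a := hHa hu
    have hxy' : y = x * u := by rw [← hxy, ← mul_assoc, hx2, one_mul]
    have hinv : x * u * x = u⁻¹ := by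
      apply eq_inv_of_mul_eq_one_left
      rw [← hxy', mul_assoc, hxy', show x * u * (x * u) = y * y by rw [hxy'], hy2]
    have hxa : x • a = a := by
      refine hHfix u hu hu1 _ ?_
      have h1 : (x * u * x) • a = a := by rw [hinv, inv_smul_eq_iff, hua]
      have h2 := congrArg (x • ·) h1
      simpa [← mul_smul, ← mul_assoc, hx2] using h2
    have hoddall : ∀ c d : Ω, c ≠ d → Odd (Nat.card (twoStab G c d)) :=
      fun c d h => odd_twoStab hZ hab hodd' h
    have hn : Odd (Fintype.card Ω) := by
      by_contra hn
      have hf := card_fixed_involution hZ hab hodd' hx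
      rw [if_neg hn, card_eq_zero, filter_eq_empty_iff] at hf
      exact hf (mem_univ a) hxa
    set S : Finset G := univ.filter fun g => g • a = a
    set C : Finset G := S.filter fun g => g * x = x * g
    set only : Finset G := univ.filter fun g => g • a = a ∧ ∀ c, g • c = c → c = a
    set J : Finset G := univ.filter fun s => orderOf s = 2 ∧ s • a = a
    have hS : S.card = (Fintype.card Ω - 1) * Nat.card (twoStab G a b) := by
      rw [← card_stabilizer hZ hab,
        Nat.subtype_card S (fun g => by simp [S, mem_stabilizer_iff])]
    have hJ : J.card = Nat.card (twoStab G a b) :=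
      card_involutions_fixing hZ hperf hab hodd' hn a
    have hle : S.card ≤ C.card * J.card := by
      refine card_le_mul_card_image_of_maps_to (f := fun g => g * x * g⁻¹) ?_ _ ?_
      · intro g hg
        simp only [S, J, mem_filter, mem_univ, true_and] at hg ⊢
        refine ⟨(MulEquiv.orderOf_eq (MulAut.conj g) x).trans hx, ?_⟩
        rw [mul_smul, mul_smul, inv_smul_eq_iff.2 hg.symm, hxa, hg]
      · intro s hs
        rcases (S.filter fun g => g * x * g⁻¹ = s).eq_empty_or_nonempty with h0 | ⟨g₀, hg₀⟩
        · simp [h0]
        · refine card_le_card_of_injOn (fun g => g₀⁻¹ * g) ?_ ?_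
          · intro g hg
            simp only [coe_filter, S, mem_filter, mem_univ, true_and, Set.mem_ofPred_eq] at hg hg₀
            simp only [C, S, coe_filter, mem_filter, mem_univ, true_and, Set.mem_ofPred_eq]
            refine ⟨by rw [mul_smul, hg.1, inv_smul_eq_iff, hg₀.1], ?_⟩
            have h := hg.2.trans hg₀.2.symm
            calc g₀⁻¹ * g * x = g₀⁻¹ * (g * x * g⁻¹) * g := by group
              _ = x * (g₀⁻¹ * g) := by rw [h]; group
          · intro g _ g' _ h
            exact mul_left_cancel h
    have hsub : C ⊆ insert 1 only := by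
      intro g hg
      simp only [C, S, only, mem_filter, mem_insert, mem_univ, true_and] at hg ⊢
      rw [or_iff_not_imp_left]
      refine fun hg1 => ⟨hg.1, fun c hc => ?_⟩
      by_contra hca
      have hxc : x • c ≠ c := fun h => hca (involution_fix_unique hZ hoddall hx h hxa)
      have hxca : x • c ≠ a := fun h => hca (by
        have h2 := congrArg (x • ·) h
        simpa [← mul_smul, hx2, hxa] using h2)
      refine hg1 (Cfsg.Agent.Perm.Zass.eq_one_of_three hZ hxc hca hxca ?_ hc hg.1)
      rw [← mul_smul, hg.2, mul_smul, hc]
    have hcard : (insert 1 only).card ≤ C.card := by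
      have h3 := Cfsg.Agent.Perm.Zass.three_le hZ
      have h4 : only.card = Fintype.card Ω - 2 := card_fix_only hZ hab
      have h5 := card_insert_le 1 only
      have h6 : Fintype.card Ω - 1 ≤ C.card := by
        rw [hS, hJ] at hle
        exact Nat.le_of_mul_le_mul_right hle Nat.card_pos
      omega
    have hC : u ∈ C := by
      rw [eq_of_subset_of_card_le hsub hcard]
      simp only [only, mem_insert, mem_filter, mem_univ, true_and]
      exact Or.inr ⟨hua, hHfix u hu hu1⟩
    simp only [C, mem_filter] at hC
    exact hC.2.symm
  have hx2 := Cfsg.Agent.Perm.Zass.sq_eq_one_of_order hx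
  have hy2 := Cfsg.Agent.Perm.Zass.sq_eq_one_of_order hy
  refine orderOf_eq_prime (p := 2) ?_ hu1
  rw [pow_two]
  have hyx : y = x * u := by rw [← hxy, ← mul_assoc, hx2, one_mul]
  rw [hyx, mul_assoc, ← mul_assoc u x u, ← key, ← mul_assoc, ← mul_assoc, hx2, one_mul] at hy2
  exact hy2

end Cfsg.Agent.S0883
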