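import Cfsg.Statements.S0884
import Cfsg.Agent.Lib.ZassenhausFeit.Inequality

set_option autoImplicit false
open Cfsg

namespace Cfsg.Agent.S0884

open MulAction Finset in
/-- Products of two involutions meet at least `e` classes avoiding the kernel. -/
theorem count_classes {G Ω : Type*} [Group G] [Fintype G] [MulAction G Ω] [Fintype Ω]
    (hZ : Cfsg.IsZassenhausGroup G Ω) (hperf : commutator G = ⊤) {a b : Ω} (hab : a ≠ b)
    (hodd : Odd (Nat.card (ZassenhausOdd.twoStab G a b))) {H : Subgroup G}
    (hHa : H ≤ MulAction.stabilizer G a)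
    (hHfix : ∀ u ∈ H, u ≠ 1 → ∀ c : Ω, u • c = c → c = a) (hn : Odd (Fintype.card Ω)) :
    Nat.card (ZassenhausOdd.twoStab G a b) ≤
      Nat.card {C : ConjClasses G // ∀ g : G, ConjClasses.mk g = C → g ∉ H} := by
  classical
  set e := Nat.card (ZassenhausOdd.twoStab G a b) with he
  set n := Fintype.card Ω with hn'
  set I := univ.filter fun s : G => orderOf s = 2 with hI
  have hIcard : I.card = n * e := ZassenhausOdd.card_involutions_of_odd hZ hperf hab hodd hn
  have hfix : ∀ c : Ω, (univ.filter fun s : G => orderOf s = 2 ∧ s • c = c).card = e :=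
    ZassenhausOdd.card_involutions_fixing hZ hperf hab hodd hn
  set good := univ.filter fun C : ConjClasses G => ∀ g : G, ConjClasses.mk g = C → g ∉ H
  have hgood : Nat.card {C : ConjClasses G // ∀ g : G, ConjClasses.mk g = C → g ∉ H} = good.card := by
    rw [Nat.card_eq_fintype_card, Fintype.card_subtype]
  rw [hgood]
  set B := (I ×ˢ I).filter fun p => ConjClasses.mk (p.1 * p.2) ∈ good with hB
  -- the other pairs fix a common point
  set D := (univ : Finset Ω).biUnion fun c =>
    (univ.filter fun s : G => orderOf s = 2 ∧ s • c = c) ×ˢ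
      (univ.filter fun s : G => orderOf s = 2 ∧ s • c = c) with hD
  have hbad : (I ×ˢ I).filter (fun p => ¬ ConjClasses.mk (p.1 * p.2) ∈ good) ⊆ D := by
    rintro ⟨s, u⟩ hp
    simp only [good, hI, mem_filter, mem_univ, true_and, mem_product, not_forall, not_not] at hp
    obtain ⟨⟨hs, hu⟩, g, hg, hgH⟩ := hp
    simp only [hD, mem_biUnion, mem_product, mem_filter, mem_univ, true_and]
    have hss := Perm.Zass.sq_eq_one_of_order hs
    have huu := Perm.Zass.sq_eq_one_of_order hu
    obtain ⟨x, hx⟩ := isConj_iff.1 (ConjClasses.mk_eq_mk_iff_isConj.1 hg)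
    rcases eq_or_ne g 1 with rfl | hg1
    · have hsu : s = u := by
        rw [mul_one, mul_inv_cancel] at hx
        calc s = s * (u * u) := by rw [huu, mul_one]
          _ = u := by rw [← mul_assoc, ← hx, one_mul]
      have hne : (univ.filter fun c : Ω => s • c = c).Nonempty := by
        rw [← card_pos, ZassenhausOdd.card_fixed_involution hZ hab hodd hs, if_pos hn]
        exact one_pos
      obtain ⟨c, hc⟩ := hne
      exact ⟨c, ⟨hs, (mem_filter.1 hc).2⟩, hu, hsu ▸ (mem_filter.1 hc).2⟩
    · set c := x • a with hc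
      have honly : ∀ d : Ω, (s * u) • d = d → d = c := by
        intro d hd
        rw [← hx, mul_smul, mul_smul] at hd
        have h1 := hHfix g hgH hg1 (x⁻¹ • d) (by rw [eq_inv_smul_iff]; exact hd)
        rw [hc, ← h1, smul_inv_smul]
      have hsuc : (s * u) • c = c := by
        rw [← hx, hc, mul_smul, mul_smul, inv_smul_smul, show g • a = a from hHa hgH]
      have hus : u • c = s • c := by
        conv_rhs => rw [← hsuc, mul_smul, ← mul_smul s s, hss, one_smul]
      have h1 : s • c = c := by
        refine honly _ ?_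
        rw [mul_smul, ← hus, ← mul_smul u u, huu, one_smul, hus]
      exact ⟨c, ⟨hs, h1⟩, hu, hus.trans h1⟩
  have hDcard : D.card ≤ n * (e * e) := by
    refine card_biUnion_le.trans ?_
    rw [sum_congr rfl fun c _ => by rw [card_product, hfix c], sum_const, card_univ, smul_eq_mul]
  have hBcard : (n * e) * (n * e) ≤ B.card + n * (e * e) := by
    rw [← hIcard, ← card_product, ← card_filter_add_card_filter_not
      (s := I ×ˢ I) (p := fun p => ConjClasses.mk (p.1 * p.2) ∈ good)]
    exact Nat.add_le_add_left ((card_le_card hbad).trans hDcard) _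
  have hfib : B.card ≤ good.card * Nat.card G := by
    rw [card_eq_sum_card_fiberwise (s := B) (f := fun p : G × G => ConjClasses.mk (p.1 * p.2))
      (t := good) fun p hp => (mem_filter.1 (mem_coe.1 hp)).2, ← smul_eq_mul, ← sum_const]
    refine sum_le_sum fun C _ => ?_
    obtain ⟨x₀, rfl⟩ := ConjClasses.mk_surjective C
    set cls := univ.filter fun x : G => IsConj x₀ x with hcls
    have hmem : ∀ p ∈ B.filter fun p => ConjClasses.mk (p.1 * p.2) = ConjClasses.mk x₀,
        p.1 * p.2 ∈ cls := fun p hp => mem_filter.2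
      ⟨mem_univ _, (ConjClasses.mk_eq_mk_iff_isConj.1 (mem_filter.1 hp).2).symm⟩
    rw [card_eq_sum_card_fiberwise (f := fun p : G × G => p.1 * p.2) (t := cls)
      fun p hp => hmem p (mem_coe.1 hp)]
    have hone : ∀ x ∈ cls,
        ((B.filter fun p => ConjClasses.mk (p.1 * p.2) = ConjClasses.mk x₀).filter
          fun p => p.1 * p.2 = x).card * cls.card ≤ Nat.card G := by
      intro x hx
      have hclass : cls.card = Nat.card {y : G // IsConj x y} := by
        rw [Nat.card_eq_fintype_card, Fintype.card_subtype]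
        congr 1
        have hx0 := (mem_filter.1 hx).2
        exact filter_congr fun y _ => ⟨fun h => hx0.symm.trans h, fun h => hx0.trans h⟩
      rw [hclass, ← Char.card_centralizer_mul_card_conj x]
      refine Nat.mul_le_mul_right _ ?_
      set F := (B.filter fun p => ConjClasses.mk (p.1 * p.2) = ConjClasses.mk x₀).filter
        fun p => p.1 * p.2 = x with hF
      rcases F.eq_empty_or_nonempty with h0 | ⟨p₀, hp₀⟩
      · rw [h0]; exact Nat.zero_le _
      have hinv : ∀ p ∈ F, p.1 * p.1 = 1 ∧ p.1 * x * p.1 = x⁻¹ ∧ p.2 = p.1 * x := by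
        intro p hp
        simp only [hF, hB, hI, mem_filter, mem_product, mem_univ, true_and] at hp
        obtain ⟨⟨⟨⟨hs, hu⟩, -⟩, -⟩, rfl⟩ := hp
        have hss := Perm.Zass.sq_eq_one_of_order hs
        have huu := Perm.Zass.sq_eq_one_of_order hu
        refine ⟨hss, ?_, by rw [← mul_assoc, hss, one_mul]⟩
        rw [mul_inv_rev, inv_eq_of_mul_eq_one_right huu, inv_eq_of_mul_eq_one_right hss,
          ← mul_assoc p.1 p.1, hss, one_mul]
      obtain ⟨hs0, hx0, -⟩ := hinv p₀ hp₀
      have hcen : ∀ p ∈ F, p.1 * p₀.1 ∈ Subgroup.centralizer ({x} : Set G) := by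
        intro p hp
        obtain ⟨hs, hsx, -⟩ := hinv p hp
        have h1 : x * p₀.1 = p₀.1 * x⁻¹ := by
          rw [← hx0, ← mul_assoc, ← mul_assoc, hs0, one_mul]
        have h2 : p.1 * x⁻¹ = x * p.1 := by
          rw [← hsx, ← mul_assoc, ← mul_assoc, hs, one_mul]
        rw [Subgroup.mem_centralizer_singleton_iff]
        calc p.1 * p₀.1 * x = p.1 * (p₀.1 * x) := mul_assoc _ _ _
          _ = p.1 * (x⁻¹ * p₀.1) := by
            congr 1
            rw [eq_inv_mul_iff_mul_eq, ← mul_assoc, h1, inv_mul_cancel_right]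
          _ = x * (p.1 * p₀.1) := by rw [← mul_assoc, h2, mul_assoc]
      rw [← Nat.card_eq_finsetCard F]
      refine Nat.card_le_card_of_injective (fun p : F => ⟨p.1.1 * p₀.1, hcen p.1 p.2⟩) fun p q hpq => ?_
      have h1 : p.1.1 = q.1.1 := mul_right_cancel (congrArg Subtype.val hpq)
      exact Subtype.ext (Prod.ext h1 (by rw [(hinv p.1 p.2).2.2, (hinv q.1 q.2).2.2, h1]))
    have hpos : 0 < cls.card := card_pos.2 ⟨x₀, mem_filter.2 ⟨mem_univ _, IsConj.refl _⟩⟩
    refine Nat.le_of_mul_le_mul_right ?_ hpos
    rw [sum_mul]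
    exact (sum_le_sum hone).trans (le_of_eq (by rw [sum_const, smul_eq_mul, mul_comm]))
  have hG := ZassenhausOdd.card_group hZ hab
  rw [← hn', ← he] at hG
  rw [hG] at hfib
  obtain ⟨k, hk⟩ : ∃ k, n = k + 1 := ⟨n - 1, by have := Perm.Zass.three_le hZ; omega⟩
  rw [hk, Nat.add_sub_cancel] at hfib
  rw [hk] at hBcard
  have hk0 : 0 < k := by have := Perm.Zass.three_le hZ; omega
  have hpos : 0 < (k + 1) * (k * e) := Nat.mul_pos (Nat.succ_pos k) (Nat.mul_pos hk0 Nat.card_pos)
  refine Nat.le_of_mul_le_mul_right ?_ hpos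
  nlinarith

/-- Let G be a finite simple Zassenhaus group on Ω with h + 1 points whose two-point stabilizer E has odd order e with 2e < h - 1, and let H be the subgroup of the stabilizer of a consisting of the identity and the elements fixing no point other than a (given here as a subgroup of the stabilizer of order one less than the number of points whose non-identity elements fix only a; it is the Frobenius kernel of the stabilizer). Then at least e conjugacy classes of G contain no element of H. -/
theorem result {G Ω : Type*} [Group G] [Finite G] [MulAction G Ω] [Fintype Ω] (hZ : Cfsg.IsZassenhausGroup G Ω) {a b : Ω} (hab : a ≠ b) [IsSimpleGroup G] (h e : ℕ) (hh : Fintype.card Ω = h + 1) (he : Nat.card ↥(MulAction.stabilizer G a ⊓ MulAction.stabilizer G b : Subgroup G) = e) (hodd : Odd e) (hlt : 2 * e < h - 1) (H : Subgroup G) (hHa : H ≤ MulAction.stabilizer G a) (hHcard : Nat.card H + 1 = Fintype.card Ω) (hHfix : ∀ u ∈ H, u ≠ 1 → ∀ c : Ω, u • c = c → c = a) : e ≤ Nat.card {C : ConjClasses G // ∀ g : G, ConjClasses.mk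 g = C → g ∉ H} := by
  classical
  letI := Fintype.ofFinite G
  subst he
  have hperf : commutator G = ⊤ := ZassenhausOdd.commutator_eq_top hZ
  have h3 := Perm.Zass.three_le hZ
  have key := ZassenhausFeit.inequality hZ hab hodd hHa hHcard hHfix
  obtain ⟨hp2, -, -⟩ := key.resolve_left
    (by have hlt' : 2 * Nat.card (ZassenhausOdd.twoStab G a b) < h - 1 := hlt; omega)
  have hn : Odd (Fintype.card Ω) := by
    obtain ⟨k, hk⟩ := hp2.exists_card_eq
    rcases k with _ | k
    · rw [pow_zero] at hk; omega
    · rw [← hHcard, hk]; exact ⟨2 ^ k, by ring⟩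
  exact count_classes hZ hperf hab hodd hHa hHfix hn

end Cfsg.Agent.S0884
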