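import Cfsg.Statements.S0889
import Cfsg.Agent.Lib.Char.HomogeneousInduced
import Cfsg.Agent.Lib.Coprime.Basic
import Cfsg.Agent.Lib.PGroup.Basic
import Cfsg.Agent.Lib.PCore.UpperSeries

set_option autoImplicit false
set_option linter.style.haveILetI false
open Cfsg

namespace Cfsg.Agent.S0889

open Subgroup

variable {G : Type*} [Group G] [Fintype G]

theorem indFun_congr {H J : Subgroup G} (h : H = J) (f : H → ℂ) (g : J → ℂ)
    (hfg : ∀ (x : G) (hx : x ∈ H) (hx' : x ∈ J), f ⟨x, hx⟩ = g ⟨x, hx'⟩) :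
    indFun H f = indFun J g := by
  subst h
  exact congrArg (indFun H) (funext fun x => hfg x x.2 x.2)

/-- A character induced from `H` is induced from every subgroup containing `H`. -/
theorem exists_indFun_of_le {H J : Subgroup G} (hHJ : H ≤ J) {ψ : H → ℂ} (hψ : IsCharacter H ψ) :
    ∃ ψ' : J → ℂ, IsCharacter J ψ' ∧ indFun J ψ' = indFun H ψ := by
  classical
  letI : Fintype J := Fintype.ofFinite J
  let e := subgroupOfEquivOfLe hHJ
  refine ⟨indFun (H.subgroupOf J) fun x => ψ (e x),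
    Char.isCharacter_indFun _ (Char.IsCharacter.comp hψ e.toMonoidHom), ?_⟩
  rw [Char.indFun_indFun]
  refine indFun_congr (map_subgroupOf_eq_of_le hHJ) _ _ fun x hx hx' => ?_
  refine congrArg ψ (Subtype.ext ?_)
  have h := ((H.subgroupOf J).equivMapOfInjective _ J.subtype_injective).apply_symm_apply ⟨x, hx⟩
  have h2 := congrArg Subtype.val h
  exact h2

/-- If `χ` is quasi-primitive and induced from the maximal subgroup `K`, it is induced from a
proper subgroup whose core is larger. -/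
theorem exists_larger_core [Group.IsSolvable G] (χ : IrrCharacter G)
    (hqp : ∀ (N : Subgroup G), N.Normal → ∃ (ϑ : N → ℂ) (e : ℕ),
      IsIrrCharacter N ϑ ∧ (fun n : N => χ.1 n) = (e : ℂ) • ϑ)
    (K : Subgroup G) (hK : IsCoatom K) (ψ : K → ℂ) (hψ : IsCharacter K ψ)
    (hind : indFun K ψ = χ.1) :
    ∃ H : Subgroup G, H ≠ ⊤ ∧ K.normalCore < H.normalCore ∧
      ∃ ξ : H → ℂ, IsCharacter H ξ ∧ indFun H ξ = χ.1 := by
  classical
  set L := K.normalCore with hL
  have hLK : L ≤ K := normalCore_le K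
  haveI : L.Normal := normalCore_normal K
  let π := QuotientGroup.mk' L
  have hπ : Function.Surjective π := QuotientGroup.mk'_surjective L
  have hker : π.ker = L := QuotientGroup.ker_mk' L
  haveI : Nontrivial (G ⧸ L) := by
    refine not_subsingleton_iff_nontrivial.1 fun h => ?_
    exact hK.1 (top_le_iff.1 ((QuotientGroup.subsingleton_iff.1 h).ge.trans hLK))
  obtain ⟨p, A, hp, hAn, hA1, hAp⟩ := Coprime.exists_normal_isPGroup (G := G ⧸ L)
  haveI : Fact p.Prime := ⟨hp⟩
  haveI := hAn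
  haveI : Nontrivial A := (nontrivial_iff_ne_bot A).2 hA1
  set Z : Subgroup (G ⧸ L) := (center A).map A.subtype with hZ
  haveI hZn : Z.Normal := by rw [hZ]; infer_instance
  have hZ1 : Z ≠ ⊥ := by
    haveI := hAp.isNilpotent
    rw [hZ, Ne, map_eq_bot_iff_of_injective _ A.subtype_injective]
    exact Group.IsNilpotent.center_ne_bot A
  obtain ⟨Mb, ⟨hMn, hM1, hMZ⟩, hMmin⟩ := (Set.toFinite
    {N : Subgroup (G ⧸ L) | N.Normal ∧ N ≠ ⊥ ∧ N ≤ Z}).exists_minimal ⟨Z, hZn, hZ1, le_rfl⟩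
  haveI := hMn
  have hmin : ∀ N : Subgroup (G ⧸ L), N.Normal → N ≤ Mb → N = ⊥ ∨ N = Mb := fun N hN hle =>
    or_iff_not_imp_left.2 fun h1 => le_antisymm hle (hMmin ⟨hN, h1, hle.trans hMZ⟩ hle)
  have hMab : ∀ x ∈ Mb, ∀ y ∈ Mb, x * y = y * x := by
    intro x hx y hy
    obtain ⟨a, ha, rfl⟩ := hMZ hx
    obtain ⟨b, -, rfl⟩ := hMZ hy
    exact congrArg A.subtype (mem_center_iff.1 ha b).symm
  have hMp : IsPGroup p Mb := (hAp.to_le (map_subtype_le _)).to_le hMZ
  set M : Subgroup G := Mb.comap π with hM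
  haveI : M.Normal := hMn.comap π
  have hLM : L ≤ M := fun x hx => by
    rw [hM, mem_comap, show π x = 1 from (QuotientGroup.eq_one_iff x).2 hx]
    exact one_mem _
  have hcore : ∀ N : Subgroup (G ⧸ L), N.Normal → N ≤ K.map π → N = ⊥ := by
    intro N hN hle
    haveI := hN.comap π
    have h1 : N.comap π ≤ K := (comap_mono hle).trans (by
      rw [comap_map_eq, hker, sup_eq_left.2 hLK])
    have h2 : N.comap π ≤ L := normal_le_normalCore.2 h1
    rw [← map_comap_eq_self_of_surjective hπ N, eq_bot_iff]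
    rintro _ ⟨x, hx, rfl⟩
    exact mem_bot.2 ((QuotientGroup.eq_one_iff x).2 (h2 hx))
  set Kb := K.map π with hKb
  have hKcomap : ∀ g, π g ∈ Kb → g ∈ K := by
    rintro g ⟨a, ha, hag⟩
    have h1 : a⁻¹ * g ∈ L := QuotientGroup.eq.1 hag
    simpa using mul_mem ha (hLK h1)
  have hnot : ¬ M ≤ K := fun h => hM1 (hcore Mb hMn (by
    rw [← map_comap_eq_self_of_surjective hπ Mb]; exact map_mono h))
  have hgen : ∀ g : G, ∃ m ∈ M, ∃ k ∈ K, g = m * k := by
    intro g
    have htop : M ⊔ K = ⊤ := hK.2 _ (lt_of_le_of_ne le_sup_right fun h => hnot (h ▸ le_sup_left))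
    obtain ⟨m, hm, k, hk, h⟩ := mem_sup_of_normal_left.1 (htop.ge (mem_top g))
    exact ⟨m, hm, k, hk, h.symm⟩
  have hgen' : ∀ g : G ⧸ L, ∃ m ∈ Mb, ∃ k ∈ Kb, g = m * k := by
    intro g
    obtain ⟨g, rfl⟩ := hπ g
    obtain ⟨m, hm, k, hk, rfl⟩ := hgen g
    exact ⟨π m, hm, π k, mem_map_of_mem _ hk, map_mul _ _ _⟩
  have hMK : Mb ⊓ Kb = ⊥ := by
    refine hcore _ ⟨fun x hx g => ?_⟩ inf_le_right
    obtain ⟨m, hm, k, hk, rfl⟩ := hgen' g
    have h1 : k * x * k⁻¹ ∈ Mb ⊓ Kb :=
      ⟨hMn.conj_mem x hx.1 k, Kb.mul_mem (Kb.mul_mem hk hx.2) (Kb.inv_mem hk)⟩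
    rw [show m * k * x * (m * k)⁻¹ = m * (k * x * k⁻¹) * m⁻¹ by group, hMab m hm _ h1.1,
      mul_inv_cancel_right]
    exact h1
  have hML : M ⊓ K = L := le_antisymm (fun x hx => (QuotientGroup.eq_one_iff x).1
    (mem_bot.1 (hMK ▸ mem_inf.2 ⟨hx.1, mem_map_of_mem π hx.2⟩))) (le_inf hLM hLK)
  obtain ⟨ϑM, eM, hϑM, hresM⟩ := hqp M inferInstance
  obtain ⟨ϑL, eL, hϑL, hresL⟩ := hqp L inferInstance
  have hrel : L.relIndex M = Nat.card Mb := by
    rw [PCore.relIndex_eq_card_map_mk', hM, map_comap_eq_self_of_surjective hπ]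
  rcases eq_or_ne Kb ⊥ with hKb1 | hKb1
  · -- `K` is normal: the index is a prime and a square
    exfalso
    have hKL : K ≤ L := fun x hx => (QuotientGroup.eq_one_iff x).1
      (mem_bot.1 (hKb1 ▸ mem_map_of_mem π hx))
    have hMtop : Mb = ⊤ := eq_top_iff.2 fun g _ => by
      obtain ⟨m, hm, k, hk, rfl⟩ := hgen' g
      rw [hKb1, mem_bot] at hk
      simpa [hk] using hm
    letI : CommGroup (G ⧸ L) :=
      { (inferInstance : Group (G ⧸ L)) with
        mul_comm := fun x y => hMab x (hMtop ▸ mem_top x) y (hMtop ▸ mem_top y) }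
    haveI : IsSimpleGroup (G ⧸ L) := ⟨fun N hN => by
      simpa [hMtop] using hmin N hN (hMtop ▸ le_top)⟩
    have hprime : (Nat.card Mb).Prime := by
      rw [hMtop, card_top]
      exact IsSimpleGroup.prime_card
    letI : Fintype M := Fintype.ofFinite M
    letI : Fintype (L.subgroupOf M) := Fintype.ofFinite _
    have heM : eM ≠ 0 := fun h0 => Char.IsIrrCharacter.apply_one_ne_zero χ.2 (by
      have := congrFun hresM 1
      simpa [h0] using this)
    -- the constituent on `L.subgroupOf M`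
    let ι : L.subgroupOf M →* L :=
      { toFun := fun l => ⟨((l : M) : G), l.2⟩, map_one' := rfl, map_mul' := fun _ _ => rfl }
    have hι : Function.Surjective ι := fun l => ⟨⟨⟨l.1, hLM l.2⟩, l.2⟩, rfl⟩
    let φ' : IrrCharacter (L.subgroupOf M) :=
      ⟨fun l => ϑL (ι l), Char.IsIrrCharacter.comp_surjective hϑL ι hι⟩
    obtain ⟨n, hn⟩ : ∃ n : ℕ, ∀ l : L.subgroupOf M, ϑM (l : M) = n * φ'.1 l := by
      obtain ⟨mm, hmm, hmm'⟩ := Char.IsCharacter.exists_decomp
        (Char.IsCharacter.restrict (Char.IsIrrCharacter.isCharacter hϑM) (L.subgroupOf M))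
      have hkl : (eM : ℂ) • (fun l : L.subgroupOf M => ϑM (l : M)) = (eL : ℂ) • φ'.1 :=
        funext fun l => (congrFun hresM (l : M)).symm.trans (congrFun hresL (ι l))
      refine ⟨mm φ', fun l => ?_⟩
      have hz : ∀ η, η ≠ φ' → mm η = 0 := by
        intro η hη
        have h1 := congrArg (classInner · η.1) hkl
        simp only [Char.classInner_smul_left, hmm',
          Char.classInner_irr_of_ne φ'.2 η.2 (fun he => hη (Subtype.ext he.symm)), mul_zero] at h1
        exact_mod_cast (mul_eq_zero.1 h1).resolve_left (Nat.cast_ne_zero.2 heM)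
      have := congrFun hmm l
      rw [Finset.sum_apply, Finset.sum_eq_single φ' (fun η _ hη => by simp [hz η hη]) (by simp)]
        at this
      simpa using this
    have hsq := Char.sq_eq_index (θ := ⟨ϑM, hϑM⟩) heM (fun m => congrFun hresM m)
      (fun m _ hmL => by
        rw [← hind]
        refine Char.indFun_eq_zero_of_forall_notMem K ψ fun x hx => hmL ?_
        simpa [mul_assoc] using (inferInstance : L.Normal).conj_mem _ (hKL hx) x) hn
    rw [hrel] at hsq
    rcases n with _ | _ | n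
    · rw [← hsq] at hprime; norm_num at hprime
    · rw [← hsq] at hprime; norm_num at hprime
    · exact Nat.not_prime_mul (a := n + 2) (b := n + 2) (by omega) (by omega)
        (by rw [← sq, hsq]; exact hprime)
  · -- a minimal normal section of `K`
    haveI : Nontrivial Kb := (nontrivial_iff_ne_bot Kb).2 hKb1
    obtain ⟨q, B, hq, hBn, hB1, hBq⟩ := Coprime.exists_normal_isPGroup (G := Kb)
    haveI : Fact q.Prime := ⟨hq⟩
    haveI := hBn
    haveI : Nontrivial B := (nontrivial_iff_ne_bot B).2 hB1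
    set C : Subgroup Kb := (center B).map B.subtype with hC
    haveI hCn : C.Normal := by rw [hC]; infer_instance
    set Ub : Subgroup (G ⧸ L) := C.map Kb.subtype with hUb
    have hU1 : Ub ≠ ⊥ := by
      haveI := hBq.isNilpotent
      rw [hUb, Ne, map_eq_bot_iff_of_injective _ Kb.subtype_injective, hC,
        map_eq_bot_iff_of_injective _ B.subtype_injective]
      exact Group.IsNilpotent.center_ne_bot B
    have hUK : Ub ≤ Kb := map_subtype_le C
    have hUq : IsPGroup q Ub := ((hBq.to_subgroup _).map _).map _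
    have hUab : ∀ x ∈ Ub, ∀ y ∈ Ub, x * y = y * x := by
      rintro _ ⟨_, ⟨a, ha, rfl⟩, rfl⟩ _ ⟨_, ⟨b, -, rfl⟩, rfl⟩
      exact congrArg (fun z => Kb.subtype (B.subtype z)) (mem_center_iff.1 ha b).symm
    have hUn : ∀ a ∈ Kb, ∀ u ∈ Ub, a * u * a⁻¹ ∈ Ub := by
      rintro a ha _ ⟨c, hc, rfl⟩
      exact ⟨_, hCn.conj_mem c hc ⟨a, ha⟩, rfl⟩
    have hne : ¬ ∀ u ∈ Ub, ∀ m ∈ Mb, u * m = m * u := by
      intro hcen
      refine hU1 (hcore Ub ⟨fun u hu g => ?_⟩ hUK)
      obtain ⟨m, hm, k, hk, rfl⟩ := hgen' g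
      have h1 := hUn k hk u hu
      rw [show m * k * u * (m * k)⁻¹ = m * (k * u * k⁻¹) * m⁻¹ by group, ← hcen _ h1 m hm,
        mul_inv_cancel_right]
      exact h1
    have hqp' : q ≠ p := by
      rintro rfl
      set S := Mb ⊔ Ub with hS
      have hSn : S.Normal := by
        refine ⟨fun x hx g => ?_⟩
        obtain ⟨m, hm, k, hk, rfl⟩ := hgen' g
        obtain ⟨y, hy, u, hu, rfl⟩ := mem_sup_of_normal_left.1 hx
        have hmS : m ∈ S := mem_sup_left hm
        have h1 : k * (y * u) * k⁻¹ ∈ S := by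
          rw [show k * (y * u) * k⁻¹ = (k * y * k⁻¹) * (k * u * k⁻¹) by group]
          exact mul_mem (mem_sup_left (hMn.conj_mem y hy k)) (mem_sup_right (hUn k hk u hu))
        rw [show m * k * (y * u) * (m * k)⁻¹ = m * (k * (y * u) * k⁻¹) * m⁻¹ by group]
        exact mul_mem (mul_mem hmS h1) (inv_mem hmS)
      haveI := hSn
      have hSp : IsPGroup q S := hMp.to_sup_of_normal_left hUq
      set D : Subgroup (G ⧸ L) := Mb ⊓ (center S).map S.subtype with hD
      have hD1 : D ≠ ⊥ := by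
        have h1 := PGroup.inf_center_ne_bot hSp (Mb.subgroupOf S) (by
          rw [Ne, subgroupOf_eq_bot, disjoint_iff, inf_eq_left.2 le_sup_left]
          exact hM1)
        intro h0
        refine h1 (eq_bot_iff.2 fun x hx => mem_bot.2 (Subtype.ext ?_))
        exact mem_bot.1 (h0 ▸ mem_inf.2 ⟨hx.1, mem_map_of_mem S.subtype hx.2⟩)
      rcases hmin D (by rw [hD]; infer_instance) inf_le_left with h | h
      · exact hD1 h
      · refine hne fun u hu m hm => ?_
        obtain ⟨z, hz, hzm⟩ := (h ▸ hm : m ∈ D).2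
        rw [← hzm]
        exact congrArg S.subtype (mem_center_iff.1 hz ⟨u, mem_sup_right hu⟩)
    set U : Subgroup G := Ub.comap π with hU
    obtain ⟨u, hu, m, hm, hum⟩ : ∃ u ∈ Ub, ∃ m ∈ Mb, u * m ≠ m * u := by
      simpa [not_forall] using hne
    obtain ⟨u, rfl⟩ := hπ u
    obtain ⟨m, rfl⟩ := hπ m
    obtain ⟨H, hMH, hHtop, hξ⟩ := Char.exists_indFun_ge χ K M L hML hgen ψ hψ hind
      ⟨ϑM, hϑM⟩ eM hresM ⟨ϑL, hϑL⟩ eL hresL U
      (fun a ha x hx => by
        rw [hU, mem_comap, map_mul, map_mul, map_inv]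
        exact hUn _ (mem_map_of_mem π ha) _ hx)
      (fun x hx y hy => (QuotientGroup.eq_one_iff _).1 (by
        show π ((y * x)⁻¹ * (x * y)) = 1
        rw [map_mul, map_inv, map_mul, map_mul, hUab _ hy _ hx, inv_mul_cancel]))
      (Nat.card Ub) (fun x hx => (QuotientGroup.eq_one_iff _).1 (by
        show π (x ^ Nat.card Ub) = 1
        rw [map_pow]
        exact congrArg Subtype.val (pow_card_eq_one' (x := (⟨π x, hx⟩ : Ub)))))
      (by
        obtain ⟨a, ha⟩ := hMp.exists_card_eq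
        obtain ⟨b, hb⟩ := hUq.exists_card_eq
        rw [hrel, ha, hb]
        exact Nat.coprime_pow_primes _ _ hq hp hqp')
      ⟨u, hu, m, hm, fun h0 => hum (by
        have h1 : π (u * m * u⁻¹ * m⁻¹) = 1 := (QuotientGroup.eq_one_iff _).2 h0
        rw [map_mul, map_mul, map_mul, map_inv, map_inv, mul_inv_eq_one, mul_inv_eq_iff_eq_mul]
          at h1
        exact h1)⟩
    refine ⟨H, hHtop, lt_of_lt_of_le ?_ (normal_le_normalCore.2 hMH), hξ⟩
    refine lt_of_le_of_ne hLM fun h => hnot ?_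
    exact h ▸ hLK

/-- Let G be a finite solvable group and χ an irreducible character of G such that for every normal subgroup N the restriction of χ to N is a natural-number multiple of one irreducible character of N. Then χ is not induced from a character of any proper subgroup. -/
theorem result {G : Type*} [Group G] [Fintype G] [Group.IsSolvable G] (χ : G → ℂ) (hχ : Cfsg.IsIrrCharacter G χ) (hqp : ∀ (N : Subgroup G), N.Normal → ∃ (ϑ : N → ℂ) (e : ℕ), Cfsg.IsIrrCharacter N ϑ ∧ (fun n : N => χ n) = (e : ℂ) • ϑ) (K : Subgroup G) (hK : K ≠ ⊤) (ψ : K → ℂ) (hψ : Cfsg.IsCharacter K ψ) : Cfsg.indFun K ψ ≠ χ := by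
  classical
  intro hind
  obtain ⟨H, ⟨hH, hHi⟩, hmax⟩ := (Set.toFinite {H : Subgroup G |
    H ≠ ⊤ ∧ ∃ ξ : H → ℂ, IsCharacter H ξ ∧ indFun H ξ = χ}).exists_maximalFor
      (fun H => Nat.card H.normalCore) _ ⟨K, hK, ψ, hψ, hind⟩
  obtain ⟨ξ, hξ, hξi⟩ := hHi
  obtain ⟨K', hK', hHK'⟩ := (eq_top_or_exists_le_coatom H).resolve_left hH
  obtain ⟨ψ', hψ', hψ'i⟩ := exists_indFun_of_le hHK' hξ
  obtain ⟨H', hH', hlt, hξ'⟩ := exists_larger_core ⟨χ, hχ⟩ hqp K' hK' ψ' hψ' (hψ'i.trans hξi)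
  have h1 : Nat.card H.normalCore ≤ Nat.card K'.normalCore :=
    Subgroup.card_le_of_le (normalCore_mono hHK')
  have h2 : Nat.card K'.normalCore < Nat.card H'.normalCore := by
    refine lt_of_le_of_ne (Subgroup.card_le_of_le hlt.le) fun h => hlt.ne ?_
    exact eq_of_le_of_card_ge hlt.le h.ge
  have h3 := hmax ⟨hH', hξ'⟩ (h1.trans h2.le)
  simp only at h3
  omega

end Cfsg.Agent.S0889
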