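import Cfsg.Statements.S0891
import Cfsg.Agent.Lib.SpinCover.General

set_option autoImplicit false
open Cfsg

namespace Cfsg.Agent.S0891

/-- For every n ≥ 4 there are a finite group Γ and a central element z of Γ of order 2 lying in the commutator subgroup of Γ such that the quotient of Γ by the (normal) subgroup generated by z is isomorphic to the alternating group on n letters. -/
theorem result (n : ℕ) (hn : 4 ≤ n) : ∃ (Γ : Type) (_ : Group Γ) (_ : Finite Γ) (z : Γ) (hz : z ∈ Subgroup.center Γ), orderOf z = 2 ∧ z ∈ commutator Γ ∧ ∃ _ : (Subgroup.zpowers z).Normal, Nonempty (Γ ⧸ Subgroup.zpowers z ≃* alternatingGroup (Fin n)) := by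
  refine ⟨Agent.SpinCover.General.cover n, inferInstance, inferInstance, Agent.SpinCover.General.z,
    Agent.SpinCover.General.z_mem_center, Agent.SpinCover.General.orderOf_z,
    Agent.SpinCover.General.z_mem_commutator hn, ?_⟩
  have hnorm : (Subgroup.zpowers (Agent.SpinCover.General.z (n := n))).Normal := by
    rw [← Agent.SpinCover.General.ker_eq]; exact MonoidHom.normal_ker _
  exact ⟨hnorm, ⟨(QuotientGroup.quotientMulEquivOfEq Agent.SpinCover.General.ker_eq.symm).trans
    (QuotientGroup.quotientKerEquivOfSurjective _
      (Agent.SpinCover.General.proj_surjective (by omega)))⟩⟩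

end Cfsg.Agent.S0891
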