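import Cfsg.Statements.S0893
import Cfsg.Agent.Lib.CharInt.Extraspecial
import Cfsg.Agent.Lib.CharInt.Constituents
-- import your own Cfsg.Agent.* helpers here

set_option autoImplicit false
open Cfsg

namespace Cfsg.Agent.S0893

/-- Let P be an extraspecial p-group of order p ^ (2 * n + 1), A an abelian subgroup of order p ^ (n + 1), and λ a character of A of degree 1 that is not identically 1 on the elements of A lying in the centre of P. Then the function induced from λ to P is an irreducible character of P and vanishes at every element outside the centre. -/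
theorem result {P : Type*} [Group P] [Fintype P] (p n : ℕ) [Fact p.Prime] (hP : Cfsg.IsExtraspecial p P) (hcard : Nat.card P = p ^ (2 * n + 1)) (A : Subgroup P) (hab : ∀ a ∈ A, ∀ b ∈ A, a * b = b * a) (hA : Nat.card A = p ^ (n + 1)) (lam : A → ℂ) (hlam : Cfsg.IsCharacter A lam ∧ lam 1 = 1) (hZ : ∃ a : A, (a : P) ∈ Subgroup.center P ∧ lam a ≠ 1) : Cfsg.IsIrrCharacter P (Cfsg.indFun A lam) ∧ ∀ x : P, x ∉ Subgroup.center P → Cfsg.indFun A lam x = 0 := by
  classical
  have : Fintype A := Fintype.ofFinite A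
  have hp : p.Prime := Fact.out
  obtain ⟨hl, hl1⟩ := hlam
  obtain ⟨l, hll⟩ := Cfsg.Agent.Char.IsCharacter.exists_monoidHom hl hl1
  obtain ⟨a, haZ, hane⟩ := hZ
  obtain ⟨m, hm, hm'⟩ := Cfsg.Agent.Char.IsCharacter.exists_decomp
    (Cfsg.Agent.Char.isCharacter_indFun A hl)
  obtain ⟨χ, hχ⟩ : ∃ χ, m χ ≠ 0 := by
    by_contra hcon
    push Not at hcon
    have h1 := congrFun hm 1
    simp [hcon, Cfsg.Agent.Char.indFun_apply_one, hl1, Subgroup.FiniteIndex.index_ne_zero] at h1
  have hχA : Cfsg.classInner (fun h : A => χ.1 h) lam ≠ 0 := by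
    rw [← Cfsg.Agent.Char.conj_classInner, ← Cfsg.Agent.Char.classInner_indFun A lam
      (Cfsg.Agent.Char.IsCharacter.isClassFunction (Cfsg.Agent.Char.irr_isCharacter χ)), hm']
    simpa using hχ
  rcases Cfsg.Agent.CharInt.extraspecial_irr_dichotomy hP hcard χ with ⟨-, h2⟩ | ⟨h1, h2, -⟩
  · exfalso
    set S : ℂ := ∑ x : A, χ.1 x * starRingEnd ℂ (lam x) with hS
    have hS0 : S ≠ 0 := by
      intro h
      apply hχA
      simp only [Cfsg.classInner]
      rw [← hS, h, mul_zero]
    have hshift : S * starRingEnd ℂ (lam a) = S := by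
      conv_rhs => rw [hS, ← Equiv.sum_comp (Equiv.mulRight a)]
      rw [hS, Finset.sum_mul]
      refine Finset.sum_congr rfl fun x _ => ?_
      simp only [Equiv.coe_mulRight, Subgroup.coe_mul]
      rw [← Subgroup.mem_center_iff.1 haZ (x : P) |>.symm,
        Cfsg.Agent.CharInt.char_mul_of_mem_kernel (Cfsg.Agent.Char.irr_isCharacter χ) (h2 _ haZ),
        ← hll, map_mul, map_mul]
      ring
    apply hane
    simpa using congrArg (starRingEnd ℂ) ((mul_eq_left₀ hS0).1 hshift)
  · have hidx : A.index = p ^ n := by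
      have h := Subgroup.card_mul_index A
      rw [hA, hcard, show 2 * n + 1 = n + 1 + n by ring, pow_add p (n + 1) n] at h
      exact Nat.eq_of_mul_eq_mul_left (pow_pos hp.pos _) h
    have heq : χ.1 = Cfsg.indFun A lam :=
      Cfsg.Agent.CharInt.eq_indFun_of_degree_eq hl hχA (by rw [h1, hidx, hl1, mul_one, Nat.cast_pow])
    rw [← heq]
    exact ⟨χ.2, h2⟩

end Cfsg.Agent.S0893
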