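import Cfsg.Statements.S0894
import Cfsg.Agent.Lib.CharInt.Extraspecial
import Cfsg.Agent.Lib.Char.Linear
-- import your own Cfsg.Agent.* helpers here

set_option autoImplicit false
open Cfsg

namespace Cfsg.Agent.S0894

/-- Let P be an extraspecial p-group of order p ^ (2 * n + 1). Then every irreducible character of P has degree 1 or p ^ n, and exactly p - 1 of them have degree p ^ n. -/
theorem result {P : Type*} [Group P] [Finite P] (p n : ℕ) [Fact p.Prime] (hP : Cfsg.IsExtraspecial p P) (hcard : Nat.card P = p ^ (2 * n + 1)) : (∀ χ : Cfsg.IrrCharacter P, (χ : P → ℂ) 1 = 1 ∨ (χ : P → ℂ) 1 = (p : ℂ) ^ n) ∧ Nat.card {χ : Cfsg.IrrCharacter P // (χ : P → ℂ) 1 = (p : ℂ) ^ n} = p - 1 := by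
  classical
  have hp : p.Prime := Fact.out
  have : Fintype P := Fintype.ofFinite P
  have hdich := Cfsg.Agent.CharInt.extraspecial_irr_dichotomy hP hcard
  refine ⟨fun χ => (hdich χ).elim (fun h => Or.inl h.1) (fun h => Or.inr h.1), ?_⟩
  have hidx : (commutator P).index = p ^ (2 * n) := by
    have h := Subgroup.card_mul_index (commutator P)
    rw [Cfsg.Agent.PGroup.extraspecial_commutator_card hP, hcard, pow_succ'] at h
    exact Nat.eq_of_mul_eq_mul_left hp.pos h
  have hn0 : n ≠ 0 := by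
    rintro rfl
    refine Cfsg.Agent.PGroup.extraspecial_not_commutative hP
      (Subgroup.eq_top_of_card_eq _ (hP.2.trans ?_))
    rw [hcard]; simp
  have hlin : Nat.card {χ : Cfsg.IrrCharacter P // χ.1 1 = 1} = p ^ (2 * n) := by
    rw [Cfsg.Agent.Char.card_linear, hidx]
  have h1ne : (1 : ℂ) ≠ (p : ℂ) ^ n := by
    have := (Nat.one_lt_pow hn0 hp.one_lt).ne
    exact_mod_cast this
  have hsq := Cfsg.Agent.Char.sum_irr_mul_conj (1 : P) 1
  rw [if_pos (IsConj.refl 1)] at hsq
  have hc : Subgroup.centralizer ({1} : Set P) = ⊤ :=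
    (Subgroup.eq_top_iff' _).2 fun x => Subgroup.mem_centralizer_singleton_iff.2 (by simp)
  rw [hc, Subgroup.card_top, hcard] at hsq
  have hsplit : ∀ χ : Cfsg.IrrCharacter P, χ.1 1 * starRingEnd ℂ (χ.1 1) =
      (if χ.1 1 = 1 then (1 : ℂ) else 0) +
        (if χ.1 1 = (p : ℂ) ^ n then (p : ℂ) ^ (2 * n) else 0) := by
    intro χ
    rcases hdich χ with ⟨h, -⟩ | ⟨h, -⟩
    · simp [h, h1ne]
    · simp [h, h1ne.symm, two_mul, pow_add]
  rw [Finset.sum_congr rfl fun χ _ => hsplit χ, Finset.sum_add_distrib, Finset.sum_boole,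
    ← Finset.sum_filter, Finset.sum_const, nsmul_eq_mul, ← Fintype.card_subtype,
    ← Fintype.card_subtype, ← Nat.card_eq_fintype_card, ← Nat.card_eq_fintype_card, hlin] at hsq
  set k := Nat.card {χ : Cfsg.IrrCharacter P // χ.1 1 = (p : ℂ) ^ n}
  have h2 : p ^ (2 * n) + k * p ^ (2 * n) = p ^ (2 * n + 1) := by exact_mod_cast hsq
  have h3 : 1 + k = p := by
    apply Nat.eq_of_mul_eq_mul_left (pow_pos hp.pos (2 * n))
    rw [← pow_succ, ← h2]; ring
  omega

end Cfsg.Agent.S0894
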