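import Cfsg.Statements.S0895
import Mathlib
import Cfsg.Agent.Lib.Char.FrobeniusSchur
import Cfsg.Agent.Lib.Char.Orthogonality

set_option autoImplicit false
open Cfsg

namespace Cfsg.Agent.S0895

/-- Let χ be a real-valued irreducible character of a finite group G whose degree is an odd natural number. Then the average over s in G of χ (s * s) equals 1. -/
theorem result {G : Type*} [Group G] [Fintype G] (χ : G → ℂ) (hχ : Cfsg.IsIrrCharacter G χ) (hreal : ∀ g : G, (χ g).im = 0) (d : ℕ) (hd : χ 1 = d) (hodd : Odd d) : (Nat.card G : ℂ)⁻¹ * ∑ s : G, χ (s * s) = 1 := by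
  classical
  have hchar := Char.IsIrrCharacter.isCharacter hχ
  have hsq : (Nat.card G : ℂ)⁻¹ * ∑ g : G, χ g * χ g = 1 := by
    have h1 := Char.classInner_irr_self hχ
    rw [Cfsg.classInner] at h1
    simp only [fun g => Complex.conj_eq_iff_im.2 (hreal g)] at h1
    exact h1
  rw [← Char.fsIndicator_eq_sum]
  obtain h | h := Char.fsIndicator_eq_one_or_neg_one hchar hsq
  · exact h
  exfalso
  obtain ⟨n, ρ, hρ, rfl⟩ := hχ
  obtain ⟨v, w, hvw, h1⟩ := Char.idempotent_matrix_of_trace_one (Char.sqAverage_mul_self ρ)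
    (by rw [Char.trace_sqAverage, hsq])
  have hT : ∑ b, v b * w b.swap = -1 := by
    rw [← h, Char.fsIndicator_eq_swapTrace]
    simp [hvw]
  -- the invariant form
  set B : Matrix (Fin n) (Fin n) ℂ := Matrix.of fun i j => v (i, j) with hB
  have hanti : B.transpose = -B := by
    ext i j
    have hsum := Finset.sum_congr rfl (fun b (_ : b ∈ (Finset.univ : Finset (Fin n × Fin n))) =>
      congrArg (· * v b) (show v (i, j).swap * w b.swap = v (i, j) * w b by
        rw [← hvw, ← hvw, Char.sqAverage_swap]))
    have hl : ∑ b, v (i, j).swap * w b.swap * v b = v (j, i) * -1 := by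
      rw [← hT, Finset.mul_sum]
      exact Finset.sum_congr rfl fun b _ => by rw [Prod.swap_prod_mk]; ring
    have hr : ∑ b, v (i, j) * w b * v b = v (i, j) * 1 := by
      rw [← h1, dotProduct, Finset.mul_sum]
      exact Finset.sum_congr rfl fun b _ => by ring
    rw [hl, hr] at hsum
    simp only [hB, Matrix.transpose_apply, Matrix.of_apply, Matrix.neg_apply]
    linear_combination -hsum
  have hinv : ∀ g, LinearMap.toMatrix' (ρ g) * B * (LinearMap.toMatrix' (ρ g)).transpose = B := by
    intro g
    ext i j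
    obtain ⟨b₀, -, hb₀⟩ := Finset.exists_ne_zero_of_sum_ne_zero
      (show ∑ a, w a * v a ≠ 0 by rw [show ∑ a, w a * v a = 1 from h1]; exact one_ne_zero)
    have hwb : w b₀ ≠ 0 := (mul_ne_zero_iff.1 hb₀).1
    have hk := congrFun (congrFun (Char.kronecker_mul_sqAverage ρ g) (i, j)) b₀
    rw [Matrix.mul_apply] at hk
    simp only [hvw, Fintype.sum_prod_type, Matrix.kroneckerMap_apply, ← mul_assoc,
      ← Finset.sum_mul] at hk
    have := mul_right_cancel₀ hwb hk
    simp only [hB, Matrix.mul_apply, Matrix.transpose_apply, Matrix.of_apply, Finset.sum_mul]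
    rw [Finset.sum_comm]
    refine Eq.trans ?_ this
    exact Finset.sum_congr rfl fun k _ => Finset.sum_congr rfl fun l _ => by ring
  -- odd degree makes it degenerate
  have hn : n = d := by
    have : (n : ℂ) = (d : ℂ) := by rw [← hd]; simp
    exact_mod_cast this
  have hdet : B.det = 0 := by
    have h2 := congrArg Matrix.det hanti
    rw [Matrix.det_transpose, Matrix.det_neg, Fintype.card_fin, (show Odd n by rw [hn]; exact hodd).neg_one_pow] at h2
    linear_combination h2 / 2
  let S : Subrepresentation ρ := ⟨LinearMap.range (Matrix.toLin' B), fun g x hx => by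
    obtain ⟨y, rfl⟩ := hx
    refine ⟨(LinearMap.toMatrix' (ρ g⁻¹)).transpose.mulVec y, ?_⟩
    have hAA : (LinearMap.toMatrix' (ρ g)).transpose * (LinearMap.toMatrix' (ρ g⁻¹)).transpose =
        1 := by
      rw [← Matrix.transpose_mul, ← LinearMap.toMatrix'_mul, ← map_mul, inv_mul_cancel, map_one,
        LinearMap.toMatrix'_one, Matrix.transpose_one]
    have hBA : LinearMap.toMatrix' (ρ g) * B = B * (LinearMap.toMatrix' (ρ g⁻¹)).transpose := by
      conv_rhs => rw [← hinv g, Matrix.mul_assoc, hAA, Matrix.mul_one]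
    rw [Matrix.toLin'_apply, Matrix.toLin'_apply, Matrix.mulVec_mulVec, ← hBA,
      ← Matrix.mulVec_mulVec, LinearMap.toMatrix'_mulVec]⟩
  haveI := hρ
  rcases eq_bot_or_eq_top S with hS | hS
  · have h0 : Matrix.toLin' B = 0 := LinearMap.range_eq_bot.1
      (congrArg (fun T : Subrepresentation ρ => T.toSubmodule) hS)
    have hB0 : B = 0 := by simpa using h0
    have hv0 : ∀ b, v b = 0 := fun b => congrFun (congrFun hB0 b.1) b.2
    exact one_ne_zero (h1.symm.trans (by simp [dotProduct, hv0]))
  · have hsurj : Function.Surjective (Matrix.toLin' B) := LinearMap.range_eq_top.1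
      (congrArg (fun T : Subrepresentation ρ => T.toSubmodule) hS)
    have hu : IsUnit B := Matrix.mulVec_surjective_iff_isUnit.1 hsurj
    exact ((Matrix.isUnit_iff_isUnit_det B).1 hu).ne_zero hdet

end Cfsg.Agent.S0895
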