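import Cfsg.Statements.S0896
import Cfsg.Agent.Lib.Clifford.Detection

set_option autoImplicit false
set_option linter.style.haveILetI false
open scoped ComplexConjugate
open Cfsg

namespace Cfsg.Agent.S0896

open Cfsg.Agent.Char
open Cfsg.Agent

/-- Let N be a normal subgroup of the finite group G with the index of N a power of the prime p, and ϑ an irreducible character of N invariant under conjugation by G. Then there are a p-elementary subgroup E of G with E ⊔ N = ⊤ and an irreducible character φ of the subgroup E ⊓ N, invariant under conjugation by E, such that the inner product of the restriction of ϑ to E ⊓ N with φ is an integer not divisible by p. -/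
theorem result {G : Type*} [Group G] [Fintype G] (p : ℕ) (hp : p.Prime) (N : Subgroup G) [hN : N.Normal] (hind : ∃ k : ℕ, N.index = p ^ k) (ϑ : N → ℂ) (hϑ : Cfsg.IsIrrCharacter N ϑ) (hinv : ∀ (g : G) (n : N), ϑ ⟨g * n * g⁻¹, hN.conj_mem (n : G) n.2 g⟩ = ϑ n) : ∃ (E : Subgroup G) (φ : ↥(E ⊓ N) → ℂ), Cfsg.IsElementary p E ∧ E ⊔ N = ⊤ ∧ Cfsg.IsIrrCharacter ↥(E ⊓ N) φ ∧ (∀ (g : G) (hg : g ∈ E) (x : ↥(E ⊓ N)), φ ⟨g * x * g⁻¹, ⟨(E.mul_mem (E.mul_mem hg x.2.1) (E.inv_mem hg)), hN.conj_mem (x : G) x.2.2 g⟩⟩ = φ x) ∧ ∃ m : ℕ, ¬ p ∣ m ∧ (Nat.card ↥(E ⊓ N) : ℂ)⁻¹ * ∑ᶠ x : ↥(E ⊓ N), ϑ ⟨(x : G), x.2.2⟩ * conj (φ x) = (m : ℂ) := by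
  haveI := Fintype.ofFinite N
  have hinv' : ∀ g, Char.conjFun N ϑ g = ϑ := fun g => funext fun n => by
    refine Eq.trans ?_ (hinv g n)
    exact congrArg ϑ (Subtype.ext (by simp))
  obtain ⟨E, φ, hE, htop, hφ, m, hm, hval⟩ :=
    Clifford.exists_elementary_detection hp hind ⟨ϑ, hϑ⟩ hinv'
  let j : ↥(E ⊓ N) →* N.subgroupOf E :=
    MonoidHom.mk' (fun x => ⟨⟨(x : G), x.2.1⟩, Subgroup.mem_subgroupOf.2 x.2.2⟩) fun _ _ => rfl
  have hj : Function.Bijective j :=
    ⟨fun a b h => Subtype.ext (congrArg (fun z : N.subgroupOf E => ((z : E) : G)) h), fun d =>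
      ⟨⟨((d : E) : G), (d : E).2, Subgroup.mem_subgroupOf.1 d.2⟩, rfl⟩⟩
  refine ⟨E, fun x => φ.1 (j x), hE, by rwa [sup_comm], IsIrrCharacter.comp_surjective φ.2 j hj.2,
    fun g hg x => ?_, m, hm, ?_⟩
  · refine Eq.trans ?_ (congrFun (hφ ⟨g, hg⟩) (j x))
    exact congrArg φ.1 (Subtype.ext (Subtype.ext (by simp [j])))
  · letI := Fintype.ofFinite (N.subgroupOf E)
    haveI := Fintype.ofFinite ↥(E ⊓ N)
    rw [finsum_eq_sum_of_fintype, ← hval]
    unfold classInner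
    rw [Nat.card_eq_of_bijective j hj]
    congr 1
    refine Fintype.sum_bijective (M := ℂ) j hj _ _ ?_
    intro x
    rfl

end Cfsg.Agent.S0896
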