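import Cfsg.Statements.S0897
import Cfsg.Agent.Lib.Clifford.Detection
import Cfsg.Agent.Lib.Clifford.EigenExtension
import Mathlib.GroupTheory.FiniteAbelian.Duality
import Mathlib.RingTheory.RootsOfUnity.AlgebraicallyClosed

set_option autoImplicit false
set_option linter.style.haveILetI false
open Cfsg

namespace Cfsg.Agent.S0897

open Cfsg.Agent.Char
open Cfsg.Agent

/-- Let N be a normal subgroup of the finite group G with the index of N a power of the prime p, and P a Sylow p-subgroup of G such that P ⊓ N lies in the centre of P and every character of degree 1 of P ⊓ N is the restriction of a character of degree 1 of P. Then every irreducible character of N invariant under conjugation by G is the restriction of an irreducible character of G. -/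
theorem result {G : Type*} [Group G] [Fintype G] (p : ℕ) [Fact p.Prime] (N : Subgroup G) [hN : N.Normal] (hind : ∃ k : ℕ, N.index = p ^ k) (P : Sylow p G) (hcent : ∀ x ∈ (P : Subgroup G) ⊓ N, ∀ y ∈ (P : Subgroup G), x * y = y * x) (hlin : ∀ lam : ↥((P : Subgroup G) ⊓ N) → ℂ, Cfsg.IsCharacter ↥((P : Subgroup G) ⊓ N) lam → lam 1 = 1 → ∃ μ : ↥(P : Subgroup G) → ℂ, Cfsg.IsCharacter ↥(P : Subgroup G) μ ∧ μ 1 = 1 ∧ ∀ x : ↥((P : Subgroup G) ⊓ N), μ ⟨(x : G), x.2.1⟩ = lam x) (ϑ : N → ℂ) (hϑ : Cfsg.IsIrrCharacter N ϑ) (hinv : ∀ (g : G) (n : N), ϑ ⟨g * n * g⁻¹, hN.conj_mem (n : G) n.2 g⟩ = ϑ n) : ∃ χ : G → ℂ, Cfsg.IsIrrCharacter G χ ∧ ∀ n : N, χ n = ϑ n := by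
  have hp : p.Prime := Fact.out
  haveI := Fintype.ofFinite N
  have hinv' : ∀ g, Char.conjFun N ϑ g = ϑ := fun g => funext fun n => by
    refine Eq.trans ?_ (hinv g n)
    exact congrArg ϑ (Subtype.ext (by simp))
  obtain ⟨E, φ, hE, htop, -, m, hm, hval⟩ :=
    Clifford.exists_elementary_detection hp hind ⟨ϑ, hϑ⟩ hinv'
  obtain ⟨k, hk⟩ := hind
  -- a Sylow subgroup of `E`, conjugated into `P`
  obtain ⟨Q⟩ : Nonempty (Sylow p E) := inferInstance
  obtain ⟨P', hP'⟩ := (Q.isPGroup'.map E.subtype).exists_le_sylow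
  obtain ⟨c, hc⟩ := MulAction.exists_smul_eq G P' P
  have hκmem : ∀ q : (Q : Subgroup E), c * ((q : E) : G) * c⁻¹ ∈ (P : Subgroup G) := fun q => by
    rw [← hc]
    exact ⟨((q : E) : G), hP' ⟨q, q.2, rfl⟩, by simp⟩
  let κ : (Q : Subgroup E) →* (P : Subgroup G) :=
    MonoidHom.mk' (fun q => ⟨c * ((q : E) : G) * c⁻¹, hκmem q⟩) fun a b =>
      Subtype.ext (by simp [mul_assoc])
  have hκinj : Function.Injective κ := fun a b h => by
    have h1 : c * ((a : E) : G) * c⁻¹ = c * ((b : E) : G) * c⁻¹ := congrArg Subtype.val h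
    exact Subtype.ext (Subtype.ext (mul_left_cancel (mul_right_cancel h1)))
  have hκN : ∀ q : (Q : Subgroup E), (q : E) ∈ (N.subgroupOf E) → (κ q : G) ∈ (P : Subgroup G) ⊓ N := fun q hq =>
    ⟨(κ q).2, hN.conj_mem _ (Subgroup.mem_subgroupOf.1 hq) c⟩
  have hidxD : (N.subgroupOf E).index ∣ p ^ k := by
    rw [← hk, ← Subgroup.relIndex_top_right N, ← htop, Subgroup.relIndex_sup_left]
    rfl
  have hgen : ∀ R : Subgroup E, R.index ∣ p ^ k → R ⊔ (Q : Subgroup E) = ⊤ := fun R hR => by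
    rw [← Subgroup.index_eq_one]
    exact Nat.eq_one_of_dvd_coprimes ((hp.coprime_iff_not_dvd.2 Q.not_dvd_index).pow_left k)
      ((Subgroup.index_dvd_of_le le_sup_left).trans hR) (Subgroup.index_dvd_of_le le_sup_right)
  obtain ⟨x, hx, hxp, i, hi⟩ := hE
  have hxD : x ∈ (N.subgroupOf E) := by
    rw [← QuotientGroup.eq_one_iff, ← orderOf_eq_one_iff]
    refine Nat.eq_one_of_dvd_coprimes (hxp.pow_right k) (orderOf_map_dvd (QuotientGroup.mk' (N.subgroupOf E)) x)
      ((orderOf_dvd_natCard _).trans ?_)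
    rw [← Subgroup.index_eq_card]
    exact hidxD
  have hzgen : Subgroup.zpowers x ⊔ (Q : Subgroup E) = ⊤ := by
    rw [← Subgroup.index_eq_one]
    exact Nat.eq_one_of_dvd_coprimes ((hp.coprime_iff_not_dvd.2 Q.not_dvd_index).pow_left i)
      ((Subgroup.index_dvd_of_le le_sup_left).trans hi.dvd) (Subgroup.index_dvd_of_le le_sup_right)
  haveI : (Subgroup.zpowers x).Normal := ⟨fun a ha g => by
    rwa [Subgroup.mem_center_iff.1 (Subgroup.zpowers_le.2 hx ha) g, mul_inv_cancel_right]⟩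
  -- `E ∩ N` is central in `E`
  have hDc : (N.subgroupOf E) ≤ Subgroup.center E := fun d hd => by
    obtain ⟨z, hz, q, hq, rfl⟩ := Subgroup.mem_sup_of_normal_left.1
      (hzgen.symm ▸ Subgroup.mem_top d : d ∈ Subgroup.zpowers x ⊔ (Q : Subgroup E))
    have hzc : z ∈ Subgroup.center E := Subgroup.zpowers_le.2 hx hz
    have hqD : q ∈ (N.subgroupOf E) := by
      rw [← inv_mul_cancel_left z q]
      exact (N.subgroupOf E).mul_mem ((N.subgroupOf E).inv_mem (Subgroup.zpowers_le.2 hxD hz)) hd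
    refine Subgroup.mul_mem _ hzc ?_
    have hle : (⊤ : Subgroup E) ≤ Subgroup.centralizer ({q} : Set E) := by
      rw [← hzgen, sup_le_iff]
      refine ⟨fun a ha => Subgroup.mem_centralizer_singleton_iff.2
        (Subgroup.mem_center_iff.1 (Subgroup.zpowers_le.2 hx ha) q).symm, fun a ha =>
        Subgroup.mem_centralizer_singleton_iff.2 ?_⟩
      have h1 := hcent _ (hκN ⟨q, hq⟩ hqD) _ (κ ⟨a, ha⟩).2
      have h2 : κ ⟨q, hq⟩ * κ ⟨a, ha⟩ = κ ⟨a, ha⟩ * κ ⟨q, hq⟩ := Subtype.ext h1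
      rw [← map_mul, ← map_mul] at h2
      exact (congrArg Subtype.val (hκinj h2)).symm
    exact Subgroup.mem_center_iff.2 fun g =>
      (Subgroup.mem_centralizer_singleton_iff.1 (hle (Subgroup.mem_top g)))
  -- the constituent is linear
  have hφ1 : φ.1 1 = 1 := apply_one_of_comm
    (fun a b => Subtype.ext (Subgroup.mem_center_iff.1 (hDc b.2) a)) φ
  obtain ⟨f₀, hf₀⟩ := IsCharacter.exists_monoidHom (irr_isCharacter φ) hφ1
  set f := f₀.toHomUnits
  -- extend from `Q ∩ N` to `P`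
  set Z := (P : Subgroup G) ⊓ N
  letI : CommGroup Z :=
    { (inferInstance : Group Z) with
      mul_comm := fun a b => Subtype.ext (hcent a a.2 b b.2.1) }
  set D₀ := (N.subgroupOf E).subgroupOf (Q : Subgroup E)
  let κ₀ : D₀ →* Z := MonoidHom.mk' (fun q => ⟨_, hκN q q.2⟩) fun a b =>
    Subtype.ext (show (κ ((a : (Q : Subgroup E)) * b) : G) =
      (κ (a : (Q : Subgroup E)) : G) * (κ (b : (Q : Subgroup E)) : G) by rw [map_mul]; rfl)
  have hκ₀ : Function.Injective κ₀ := fun a b h => Subtype.ext (hκinj (Subtype.ext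
    (congrArg (fun z : Z => (z : G)) h)))
  let f₁ : D₀ →* ℂˣ := f.comp
    (MonoidHom.mk' (fun q : D₀ => (⟨((q : (Q : Subgroup E)) : E), q.2⟩ : (N.subgroupOf E))) fun _ _ => rfl)
  haveI : NeZero (Monoid.exponent Z : ℂ) :=
    ⟨Nat.cast_ne_zero.2 Monoid.exponent_ne_zero_of_finite⟩
  obtain ⟨lam, hlam⟩ := MonoidHom.domRestrict_surjective (M := ℂ) κ₀.range
    (f₁.comp (MonoidHom.ofInjective hκ₀).symm.toMonoidHom)
  obtain ⟨ν₀, hν₀, hν₁, hν⟩ := hlin (fun z => ((lam z : ℂˣ) : ℂ))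
    (IsIrrCharacter.isCharacter (isIrrCharacter_of_monoidHom ((Units.coeHom ℂ).comp lam))) (by simp)
  obtain ⟨ν, rfl⟩ := IsCharacter.exists_monoidHom hν₀ hν₁
  haveI : (N.subgroupOf E).Normal := Subgroup.normal_subgroupOf
  obtain ⟨μ, hμD, -⟩ := Clifford.exists_hom_of_normal_sup (N.subgroupOf E) (Q : Subgroup E) (hgen (N.subgroupOf E) hidxD) f
    (ν.toHomUnits.comp κ) (fun a b hab => by
      have hb : (b : E) ∈ (N.subgroupOf E) := hab ▸ a.2
      refine Units.ext ?_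
      show _ = ν (κ b)
      have h1 := hν (κ₀ ⟨b, hb⟩)
      rw [show ν (κ b) = ν ⟨((κ₀ ⟨b, hb⟩ : Z) : G), (κ₀ ⟨b, hb⟩).2.1⟩ from rfl, h1]
      have h2 := DFunLike.congr_fun hlam (MonoidHom.ofInjective hκ₀ ⟨b, hb⟩)
      simp only [MonoidHom.comp_apply, MulEquiv.coe_toMonoidHom, MulEquiv.symm_apply_apply] at h2
      refine Eq.trans ?_ (congrArg Units.val h2).symm
      show ((f a : ℂˣ) : ℂ) = ((f ⟨(b : E), hb⟩ : ℂˣ) : ℂ)
      rw [show a = ⟨(b : E), hb⟩ from Subtype.ext hab])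
    (fun b a a' h => by
      rw [show a' = a from Subtype.ext (by
        rw [h, Subgroup.mem_center_iff.1 (hDc a.2) b, mul_inv_cancel_right])])
  obtain ⟨d, σ, hσ, hσχ⟩ := hϑ
  haveI := hσ
  letI := Fintype.ofFinite (N.subgroupOf E)
  have hW : Module.finrank ℂ (Clifford.eigenSpace σ E μ) = m := by
    have h1 := Clifford.finrank_eigenSpace σ E μ
    rw [show (fun x : (N.subgroupOf E) => ((μ (x : E) : ℂˣ) : ℂ)) = φ.1 from funext fun x => by
      rw [hμD, ← hf₀]; rfl] at h1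
    simp only [hσχ] at h1
    refine Nat.cast_injective (R := ℂ) (h1.symm.trans ?_)
    convert hval using 2
  obtain ⟨ρ, hρ⟩ := Clifford.exists_extension_of_eigenSpace σ E μ
    (fun g n => by rw [hσχ]; exact congrFun (hinv' g) n) htop
    (by rw [hW, hk]; exact ((hp.coprime_iff_not_dvd.2 hm).pow_left k).symm)
  obtain ⟨χ, hχ, hχn⟩ := Clifford.exists_irrCharacter_extension σ ⟨ρ, hρ⟩
  exact ⟨χ, hχ, fun n => by rw [hχn, hσχ]⟩

end Cfsg.Agent.S0897
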