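import Cfsg.Statements.S0899
import Cfsg.Agent.Lib.Char.Blichfeldt

set_option autoImplicit false
open Cfsg

namespace Cfsg.Agent.S0899

/-- Let G be a finite group with a faithful complex representation of degree n (on Fin n → ℂ) and p a prime. Suppose either that (n + 1) ^ 2 ≤ p, or that n + 1 < p and every subgroup of G whose order is not divisible by p ^ 2 has a normal Sylow p-subgroup. Then every Sylow p-subgroup of G is normal. -/
theorem result {G : Type*} [Group G] [Finite G] (n : ℕ) (ρ : Representation ℂ G (Fin n → ℂ)) (hρ : Function.Injective ρ) (p : ℕ) [Fact p.Prime] (h : (n + 1) ^ 2 ≤ p ∨ (n + 1 < p ∧ ∀ K : Subgroup G, ¬ p ^ 2 ∣ Nat.card K → ∀ Q : Sylow p K, (Q : Subgroup K).Normal)) (P : Sylow p G) : (P : Subgroup G).Normal := by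
  classical
  open Cfsg.Agent.Char.Blichfeldt in
  have hn : n + 1 < p := by
    have h2 := (Fact.out : p.Prime).two_le
    rcases h with h1 | ⟨h1, -⟩
    · rcases Nat.eq_zero_or_pos n with rfl | hn0
      · omega
      · nlinarith
    · exact h1
  have hall : ∀ (j : ℕ) (K : Subgroup G), Nat.card K = j →
      Cfsg.Agent.Char.Blichfeldt.PClosed p K := by
    intro j
    induction j using Nat.strong_induction_on with
    | _ j ih =>
      intro K hK
      refine Cfsg.Agent.Char.Blichfeldt.pClosed_of_sylow_normal K fun Q => ?_
      letI := Fintype.ofFinite K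
      refine Cfsg.Agent.Char.Blichfeldt.pClosed_top hn (ρ.comp K.subtype)
        (hρ.comp Subtype.coe_injective) (fun L hL => ?_) (fun R hR => ?_) Q
      · intro u hu v hv hpu hpv
        have hlt : Nat.card (L.map K.subtype) < j := by
          rw [Subgroup.card_map_of_injective K.subtype_injective, ← hK]
          refine lt_of_le_of_ne (Subgroup.card_le_card_group L) fun he => hL ?_
          exact Subgroup.eq_top_of_card_eq L he
        obtain ⟨a, ha⟩ := hpu
        obtain ⟨b, hb⟩ := hpv
        obtain ⟨c, hc⟩ := ih _ hlt (L.map K.subtype) rfl (u : G) ⟨u, hu, rfl⟩ (v : G) ⟨v, hv, rfl⟩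
          ⟨a, by simpa [Subtype.ext_iff] using ha⟩ ⟨b, by simpa [Subtype.ext_iff] using hb⟩
        exact ⟨c, Subtype.ext (by simpa using hc)⟩
      · have hp : p.Prime := Fact.out
        have hdvd : p ∣ Nat.card K := by
          by_contra hnd
          apply hR
          have : (R : Subgroup K) = ⊥ := by
            rw [← Subgroup.card_eq_one, R.card_eq_multiplicity,
              Nat.factorization_eq_zero_of_not_dvd hnd, pow_zero]
          rw [this]
          infer_instance
        have hpos := hp.factorization_pos_of_dvd Nat.card_pos.ne' hdvd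
        rw [R.card_eq_multiplicity]
        rcases h with h1 | ⟨h1, h2⟩
        · exact h1.trans (Nat.le_self_pow hpos.ne' p)
        · have hsq : p ^ 2 ∣ Nat.card K := by
            by_contra hnd
            exact hR (h2 K hnd R)
          have h3 := (hp.pow_dvd_iff_le_factorization Nat.card_pos.ne').1 hsq
          refine le_trans ?_ (Nat.pow_le_pow_right hp.pos h3)
          exact Nat.pow_le_pow_left h1.le 2
  exact Cfsg.Agent.Char.Blichfeldt.sylow_normal_of_pClosed (hall _ ⊤ rfl) P

end Cfsg.Agent.S0899
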