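import Cfsg.Statements.S0900
import Mathlib
import Cfsg.Agent.Lib.Char.CliffordCorrespondence

set_option autoImplicit false
open Cfsg

namespace Cfsg.Agent.S0900

/-- Let N be a normal subgroup of the finite group G, χ an irreducible character of G and ϑ an irreducible character of N having nonzero inner product with the restriction of χ. Consider: (a) the restriction of χ to N is e • ϑ for a natural number e with e ^ 2 equal to the index of N; (b) χ vanishes outside N and ϑ is invariant under conjugation by G; (c) ϑ is invariant and every irreducible character of G having nonzero inner product with the function induced from ϑ equals χ. Then (a) ↔ (b) and (a) ↔ (c). -/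
theorem result {G : Type*} [Group G] [Fintype G] (N : Subgroup G) [hN : N.Normal] [Fintype N] (χ : G → ℂ) (hχ : Cfsg.IsIrrCharacter G χ) (ϑ : N → ℂ) (hϑ : Cfsg.IsIrrCharacter N ϑ) (hcon : Cfsg.classInner (fun n : N => χ n) ϑ ≠ 0) : ((∃ e : ℕ, (fun n : N => χ n) = (e : ℂ) • ϑ ∧ e ^ 2 = N.index) ↔ ((∀ g : G, g ∉ N → χ g = 0) ∧ ∀ (g : G) (n : N), ϑ ⟨g * n * g⁻¹, hN.conj_mem (n : G) n.2 g⟩ = ϑ n)) ∧ ((∃ e : ℕ, (fun n : N => χ n) = (e : ℂ) • ϑ ∧ e ^ 2 = N.index) ↔ (∀ (g : G) (n : N), ϑ ⟨g * n * g⁻¹, hN.conj_mem (n : G) n.2 g⟩ = ϑ n ∧ ∀ ψ : G → ℂ, Cfsg.IsIrrCharacter G ψ → Cfsg.classInner (Cfsg.indFun N ϑ) ψ ≠ 0 → ψ = χ)) := by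
  classical
  open Cfsg.Agent Cfsg.Agent.Char ComplexConjugate in
  have main : ∀ (χ : IrrCharacter G) (θ : IrrCharacter N),
      classInner (resFun N χ.1) θ.1 ≠ 0 →
      ((∃ e : ℕ, resFun N χ.1 = (e : ℂ) • θ.1 ∧ e ^ 2 = N.index) ↔
        ((∀ g : G, g ∉ N → χ.1 g = 0) ∧ ∀ g, conjFun N θ.1 g = θ.1)) ∧
      ((∃ e : ℕ, resFun N χ.1 = (e : ℂ) • θ.1 ∧ e ^ 2 = N.index) ↔
        ((∀ g, conjFun N θ.1 g = θ.1) ∧
          ∀ ψ : IrrCharacter G, classInner (indFun N θ.1) ψ.1 ≠ 0 → ψ = χ)) := by
    intro χ θ hθ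
    obtain ⟨k, hk⟩ := IsCharacter.exists_nat_classInner
      (IsCharacter.restrict (irr_isCharacter χ) N) (irr_isCharacter θ)
    replace hk : classInner (resFun N χ.1) θ.1 = k := hk
    have hk0 : (k : ℂ) ≠ 0 := hk ▸ hθ
    have hθ1 : θ.1 1 ≠ 0 := IsIrrCharacter.apply_one_ne_zero θ.2
    have hN0 : (Nat.card N : ℂ) ≠ 0 := card_ne_zero
    have hidx : (Nat.card G : ℂ) = Nat.card N * N.index := by exact_mod_cast N.card_mul_index.symm
    -- the mass of `χ` on `N`
    have hmass : (∀ g, conjFun N θ.1 g = θ.1) →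
        ∑ n : N, χ.1 (n : G) * conj (χ.1 (n : G)) = (Nat.card N : ℂ) * (k : ℂ) ^ 2 := by
      intro hinv
      have hres := resFun_eq_smul_of_invariant N χ θ hinv hθ
      rw [hk] at hres
      have h1 := classInner_irr_self θ.2
      rw [classInner, inv_mul_eq_one₀ hN0] at h1
      rw [h1, Finset.sum_mul]
      refine Finset.sum_congr rfl fun n _ => ?_
      have := congrFun hres n
      simp only [resFun_apply, Pi.smul_apply, smul_eq_mul] at this
      rw [this, map_mul, map_natCast]
      ring
    have hsplit : ∑ g : G, χ.1 g * conj (χ.1 g) = ∑ n : N, χ.1 (n : G) * conj (χ.1 (n : G)) +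
        ∑ g ∈ Finset.univ.filter (fun g => g ∉ N), χ.1 g * conj (χ.1 g) := by
      rw [← Finset.sum_filter_add_sum_filter_not Finset.univ (· ∈ N), Finset.sum_subtype
        (p := (· ∈ N)) _ (fun g => by simp)]
    have hnorm := classInner_irr_self χ.2
    rw [classInner, inv_mul_eq_one₀ card_ne_zero, hidx, hsplit] at hnorm
    have hmult : ∀ e : ℕ, resFun N χ.1 = (e : ℂ) • θ.1 →
        e = k ∧ ∀ g, conjFun N θ.1 g = θ.1 := by
      intro e he
      have h1 : classInner (resFun N χ.1) θ.1 = e := by
        rw [he, classInner_smul_left, classInner_irr_self θ.2, mul_one]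
      rw [hk] at h1
      have hek : e = k := by exact_mod_cast h1.symm
      refine ⟨hek, fun g => ?_⟩
      have h2 := conjFun_resFun N (IsCharacter.isClassFunction (irr_isCharacter χ)) g
      funext n
      have h3 := congrFun h2 n
      simp only [conjFun, he, Pi.smul_apply, smul_eq_mul] at h3
      exact mul_left_cancel₀ (by rw [hek]; exact hk0) h3
    have hind : (∀ g, conjFun N θ.1 g = θ.1) →
        resFun N (indFun N θ.1) = (N.index : ℂ) • θ.1 := by
      intro hinv
      rw [resFun_indFun, Finset.sum_congr rfl fun x _ => hinv x, Finset.sum_const,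
        Finset.card_univ, ← Nat.cast_smul_eq_nsmul ℂ, smul_smul, ← Nat.card_eq_fintype_card, hidx,
        ← mul_assoc, inv_mul_cancel₀ hN0, one_mul]
    have hIC := IsCharacter.isClassFunction (isCharacter_indFun N (irr_isCharacter θ))
    have hrec : ∀ ψ : IrrCharacter G, classInner (indFun N θ.1) ψ.1 =
        classInner θ.1 (resFun N ψ.1) := fun ψ =>
      classInner_indFun N θ.1 (IsCharacter.isClassFunction (irr_isCharacter ψ))
    have hkχ : classInner (indFun N θ.1) χ.1 = k := by
      rw [hrec, ← conj_classInner, hk, map_natCast]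
    constructor
    · constructor
      · rintro ⟨e, he, he2⟩
        obtain ⟨hek, hinv⟩ := hmult e he
        refine ⟨fun g hg => ?_, hinv⟩
        rw [hmass hinv, ← he2, hek, Nat.cast_pow] at hnorm
        have h0 : ∑ g ∈ Finset.univ.filter (fun g => g ∉ N), χ.1 g * conj (χ.1 g) = 0 := by
          linear_combination -hnorm
        have hre := congrArg Complex.re h0
        simp only [Complex.re_sum, Complex.mul_conj, Complex.ofReal_re, Complex.zero_re] at hre
        exact Complex.normSq_eq_zero.1 ((Finset.sum_eq_zero_iff_of_nonneg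
          fun x _ => Complex.normSq_nonneg _).1 hre g (by simp [hg]))
      · rintro ⟨hvan, hinv⟩
        refine ⟨k, ?_, ?_⟩
        · rw [← hk]; exact resFun_eq_smul_of_invariant N χ θ hinv hθ
        · rw [hmass hinv, Finset.sum_eq_zero (s := Finset.univ.filter (fun g => g ∉ N))
            (fun g hg => by rw [hvan g (Finset.mem_filter.1 hg).2, zero_mul]), add_zero] at hnorm
          have := mul_left_cancel₀ hN0 hnorm
          exact_mod_cast this.symm
    · constructor
      · rintro ⟨e, he, he2⟩
        obtain ⟨hek, hinv⟩ := hmult e he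
        refine ⟨hinv, fun ψ hψ => ?_⟩
        by_contra hne
        have h1 : classInner (indFun N θ.1) (indFun N θ.1) = ((k ^ 2 : ℕ) : ℂ) := by
          rw [classInner_indFun N θ.1 hIC, show (fun h : N => indFun N θ.1 h) =
            resFun N (indFun N θ.1) from rfl, hind hinv, classInner_smul_right, map_natCast,
            classInner_irr_self θ.2, mul_one, ← he2, hek]
        choose m hm using fun ψ : IrrCharacter G => IsCharacter.exists_nat_classInner
          (isCharacter_indFun N (irr_isCharacter θ)) (irr_isCharacter ψ)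
        rw [classInner_eq_sum hIC] at h1
        have h2 : ∀ φ : IrrCharacter G, classInner φ.1 (indFun N θ.1) = (m φ : ℂ) := fun φ => by
          rw [← conj_classInner, hm, map_natCast]
        simp only [hm, h2] at h1
        have h3 : ∑ φ : IrrCharacter G, m φ * m φ = k ^ 2 := by exact_mod_cast h1
        have hmχ : m χ = k := by exact_mod_cast (hm χ).symm.trans hkχ
        rw [← Finset.add_sum_erase _ _ (Finset.mem_univ χ), hmχ, ← pow_two, add_eq_left,
          Finset.sum_eq_zero_iff] at h3
        have h4 := h3 ψ (Finset.mem_erase.2 ⟨hne, Finset.mem_univ _⟩)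
        exact hψ (by rw [hm, Nat.mul_self_inj.1 (h4.trans (mul_zero 0).symm), Nat.cast_zero])
      · rintro ⟨hinv, huniq⟩
        refine ⟨k, ?_, ?_⟩
        · rw [← hk]; exact resFun_eq_smul_of_invariant N χ θ hinv hθ
        · have h1 := congrFun (eq_sum_classInner_smul hIC) 1
          rw [Finset.sum_apply, Finset.sum_eq_single χ] at h1
          · rw [Pi.smul_apply, hkχ, smul_eq_mul, indFun_apply_one] at h1
            have h2 := congrFun (resFun_eq_smul_of_invariant N χ θ hinv hθ) 1
            rw [hk, resFun_apply, Subgroup.coe_one, Pi.smul_apply, smul_eq_mul] at h2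
            rw [h2, ← mul_assoc] at h1
            have := mul_right_cancel₀ hθ1 h1
            rw [sq]
            exact_mod_cast this.symm
          · intro ψ _ hne
            rw [Pi.smul_apply, smul_eq_mul]
            by_cases h : classInner (indFun N θ.1) ψ.1 = 0
            · rw [h, zero_mul]
            · exact absurd (huniq ψ h) hne
          · exact fun h => absurd (Finset.mem_univ _) h
  obtain ⟨m1, m2⟩ := main ⟨χ, hχ⟩ ⟨ϑ, hϑ⟩ hcon
  have hconv : (∀ g, Cfsg.Agent.Char.conjFun N ϑ g = ϑ) ↔
      ∀ (g : G) (n : N), ϑ ⟨g * n * g⁻¹, hN.conj_mem (n : G) n.2 g⟩ = ϑ n := by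
    have e : ∀ (g : G) (n : N), Cfsg.Agent.Char.conjFun N ϑ g n =
        ϑ ⟨g * n * g⁻¹, hN.conj_mem (n : G) n.2 g⟩ := fun g n =>
      congrArg ϑ (Subtype.ext (by simp))
    exact ⟨fun h g n => (e g n).symm.trans (congrFun (h g) n),
      fun h g => funext fun n => (e g n).trans (h g n)⟩
  refine ⟨m1.trans (and_congr Iff.rfl hconv), m2.trans ⟨fun h g n => ⟨(hconv.1 h.1) g n, fun ψ hψ h' => ?_⟩,
    fun h => ⟨hconv.2 fun g n => (h g n).1, fun ψ hψ => Subtype.ext ((h 1 1).2 ψ.1 ψ.2 hψ)⟩⟩⟩
  exact congrArg Subtype.val (h.2 ⟨ψ, hψ⟩ h')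

end Cfsg.Agent.S0900
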