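import Cfsg.Statements.S0901
import Mathlib
import Cfsg.Agent.Lib.Blocks.LocalRing

set_option autoImplicit false
open Cfsg

namespace Cfsg.Agent.S0901

/-- Let M be a maximal ideal of the ring of algebraic integers containing the prime p, and let U be the set of complex roots of unity of order prime to p. Then reduction modulo M is injective on U, and every algebraic integer not in M is congruent modulo M to an element of U (so U maps bijectively onto the nonzero residues). -/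
theorem result (p : ℕ) [Fact p.Prime] (M : Ideal Cfsg.AlgInt) (hM : Cfsg.IsPModular p M) : (∀ ε₁ ε₂ : Cfsg.AlgInt, (∃ m : ℕ, ¬ p ∣ m ∧ (ε₁ : ℂ) ^ m = 1) → (∃ m : ℕ, ¬ p ∣ m ∧ (ε₂ : ℂ) ^ m = 1) → ε₁ - ε₂ ∈ M → ε₁ = ε₂) ∧ (∀ a : Cfsg.AlgInt, a ∉ M → ∃ ε : Cfsg.AlgInt, (∃ m : ℕ, ¬ p ∣ m ∧ (ε : ℂ) ^ m = 1) ∧ a - ε ∈ M) := by
  have hmax := hM.2.1
  haveI := hmax.isPrime
  have hp : p.Prime := Fact.out
  have key : ∀ (ζ : Cfsg.AlgInt) (m : ℕ), ¬ p ∣ m → ζ ^ m = 1 → ζ - 1 ∈ M → ζ = 1 := by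
    intro ζ m hm hζ hζM
    by_contra hne
    have h0 : ∑ i ∈ Finset.range m, ζ ^ i = 0 := by
      have h1 := geom_sum_mul ζ m
      rw [hζ, sub_self] at h1
      exact (mul_eq_zero.1 h1).resolve_right (sub_ne_zero.2 hne)
    have h2 : (∑ i ∈ Finset.range m, (ζ ^ i - 1)) ∈ M := M.sum_mem fun i _ => by
      obtain ⟨c, hc⟩ := sub_one_dvd_pow_sub_one ζ i
      rw [hc]
      exact M.mul_mem_right c hζM
    rw [Finset.sum_sub_distrib, h0, Finset.sum_const, Finset.card_range, zero_sub,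
      neg_mem_iff, nsmul_eq_mul, mul_one] at h2
    exact hm ((Blocks.natCast_mem_iff hM.2.2 m).1 h2)
  have hinj : ∀ ε₁ ε₂ : Cfsg.AlgInt, (∃ m : ℕ, ¬ p ∣ m ∧ (ε₁ : ℂ) ^ m = 1) →
      (∃ m : ℕ, ¬ p ∣ m ∧ (ε₂ : ℂ) ^ m = 1) → ε₁ - ε₂ ∈ M → ε₁ = ε₂ := by
    rintro a b ⟨m, hm, ha⟩ ⟨k, hk, hb⟩ hab
    have ha' : a ^ m = 1 := Subtype.ext (by simpa using ha)
    have hb' : b ^ k = 1 := Subtype.ext (by simpa using hb)
    have hk0 : k ≠ 0 := fun h => hk (h ▸ dvd_zero p)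
    obtain ⟨binv, hbinv⟩ : ∃ c, c * b = 1 := ⟨b ^ (k - 1), by
      rw [← pow_succ, Nat.sub_add_cancel (Nat.pos_of_ne_zero hk0), hb']⟩
    have hbinv' : binv ^ k = 1 := by
      have := congrArg (· ^ k) hbinv
      simpa [mul_pow, hb'] using this
    have h1 := key (binv * a) (m * k) (fun h => (hp.dvd_mul.1 h).elim hm hk)
      (by rw [mul_pow, mul_comm m k, pow_mul, hbinv', mul_comm k m, pow_mul, ha', one_pow, one_pow,
        one_mul])
      (by
        rw [show binv * a - 1 = binv * (a - b) by rw [mul_sub, hbinv]]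
        exact M.mul_mem_left _ hab)
    calc a = b * (binv * a) := by rw [← mul_assoc, mul_comm b binv, hbinv, one_mul]
      _ = b := by rw [h1, mul_one]
  refine ⟨hinj, fun a ha => ?_⟩
  obtain ⟨f, hf, hx⟩ := Blocks.exists_pow_eq hM.2.2 (Ideal.Quotient.mk M a)
  have hx0 : Ideal.Quotient.mk M a ≠ 0 := fun h => ha (Ideal.Quotient.eq_zero_iff_mem.1 h)
  set x := Ideal.Quotient.mk M a
  set q := p ^ f - 1 with hq
  have hpf : 1 < p ^ f := Nat.one_lt_pow hf.ne' hp.one_lt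
  have hq0 : q ≠ 0 := by omega
  have hqp : ¬ p ∣ q := by
    intro h
    have h1 : p ∣ p ^ f := dvd_pow_self p hf.ne'
    have h2 : p ∣ 1 := (Nat.dvd_add_right h).1 (by
      rw [hq, Nat.sub_add_cancel hpf.le]; exact h1)
    exact hp.one_lt.ne' (Nat.dvd_one.1 h2)
  have hxq : x ^ q = 1 := by
    have h1 : x ^ q * x = 1 * x := by
      rw [← pow_succ, one_mul, hq, Nat.sub_add_cancel hpf.le, hx]
    exact mul_right_cancel₀ hx0 h1
  have hz : IsPrimitiveRoot (Complex.exp (2 * Real.pi * Complex.I / q)) q :=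
    Complex.isPrimitiveRoot_exp q hq0
  set ζ : Cfsg.AlgInt := ⟨_, IsIntegral.of_pow (Nat.pos_of_ne_zero hq0)
    (by rw [hz.pow_eq_one]; exact isIntegral_one)⟩
  have hζ : ζ ^ q = 1 := Subtype.ext (by simpa using hz.pow_eq_one)
  have hprim : IsPrimitiveRoot (Ideal.Quotient.mk M ζ) q := by
    refine IsPrimitiveRoot.mk_of_lt _ (Nat.pos_of_ne_zero hq0) (by rw [← map_pow, hζ, map_one])
      fun l hl0 hlq hl => ?_
    have hmem : ζ ^ l - 1 ∈ M := by
      rw [← Ideal.Quotient.eq_zero_iff_mem, map_sub, map_pow, hl, map_one, sub_self]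
    have h1 := key (ζ ^ l) q hqp (by rw [← pow_mul, mul_comm, pow_mul, hζ, one_pow]) hmem
    have h2 : (Complex.exp (2 * Real.pi * Complex.I / q)) ^ l = 1 := by
      simpa using congrArg (fun c : Cfsg.AlgInt => (c : ℂ)) h1
    exact absurd (hz.dvd_of_pow_eq_one l h2) (Nat.not_dvd_of_pos_of_lt hl0 hlq)
  haveI : NeZero q := ⟨hq0⟩
  obtain ⟨i, -, hi⟩ := hprim.eq_pow_of_pow_eq_one hxq
  refine ⟨ζ ^ i, ⟨q, hqp, ?_⟩, ?_⟩
  · have h1 : (ζ ^ i) ^ q = 1 := by rw [← pow_mul, mul_comm, pow_mul, hζ, one_pow]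
    simpa using congrArg (fun c : Cfsg.AlgInt => (c : ℂ)) h1
  · rw [← Ideal.Quotient.eq_zero_iff_mem, map_sub, map_pow, hi, sub_self]

end Cfsg.Agent.S0901
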