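import Cfsg.Statements.S0903
import Mathlib

set_option autoImplicit false
open Cfsg

namespace Cfsg.Agent.S0903

/-- Let P be a p-subgroup of the finite group G, let c centralize P and let g, h ∈ G. The number of pairs (x, y) with x conjugate to g, y conjugate to h and x * y = c is congruent modulo p to the number of such pairs in which x and y both centralize P. (This is why the Brauer map on class sums is multiplicative.) -/
theorem result {G : Type*} [Group G] [Finite G] (p : ℕ) [Fact p.Prime] (P : Subgroup G) (hP : IsPGroup p P) (c : G) (hc : c ∈ Subgroup.centralizer (P : Set G)) (g h : G) : Nat.card {xy : G × G // IsConj g xy.1 ∧ IsConj h xy.2 ∧ xy.1 * xy.2 = c} ≡ Nat.card {xy : G × G // IsConj g xy.1 ∧ IsConj h xy.2 ∧ xy.1 * xy.2 = c ∧ xy.1 ∈ Subgroup.centralizer (P : Set G) ∧ xy.2 ∈ Subgroup.centralizer (P : Set G)} [MOD p] := by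
  classical
  let α := {xy : G × G // IsConj g xy.1 ∧ IsConj h xy.2 ∧ xy.1 * xy.2 = c}
  have hmem : ∀ u : P, (u : G) * c = c * (u : G) := fun u => hc u u.2
  letI act : MulAction P α :=
    { smul := fun u x => ⟨((u : G) * x.1.1 * (u : G)⁻¹, (u : G) * x.1.2 * (u : G)⁻¹),
        x.2.1.trans (isConj_iff.2 ⟨(u : G), rfl⟩), x.2.2.1.trans (isConj_iff.2 ⟨(u : G), rfl⟩), by
          show (u : G) * x.1.1 * (u : G)⁻¹ * ((u : G) * x.1.2 * (u : G)⁻¹) = c
          rw [show (u : G) * x.1.1 * (u : G)⁻¹ * ((u : G) * x.1.2 * (u : G)⁻¹) =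
            (u : G) * (x.1.1 * x.1.2) * (u : G)⁻¹ by group, x.2.2.2, hmem u, mul_inv_cancel_right]⟩
      one_smul := fun x => Subtype.ext (Prod.ext
        (show ((1 : P) : G) * x.1.1 * ((1 : P) : G)⁻¹ = x.1.1 by simp)
        (show ((1 : P) : G) * x.1.2 * ((1 : P) : G)⁻¹ = x.1.2 by simp))
      mul_smul := fun u v x => Subtype.ext (Prod.ext
        (show ((u * v : P) : G) * x.1.1 * ((u * v : P) : G)⁻¹ =
          (u : G) * ((v : G) * x.1.1 * (v : G)⁻¹) * (u : G)⁻¹ by push_cast; group)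
        (show ((u * v : P) : G) * x.1.2 * ((u * v : P) : G)⁻¹ =
          (u : G) * ((v : G) * x.1.2 * (v : G)⁻¹) * (u : G)⁻¹ by push_cast; group)) }
  refine (hP.card_modEq_card_fixedPoints α).trans ?_
  refine congrArg (fun a : ℕ => a % p) (Nat.card_congr ?_)
  refine ⟨fun x => ⟨x.1.1, x.1.2.1, x.1.2.2.1, x.1.2.2.2, ?_, ?_⟩,
    fun x => ⟨⟨x.1, x.2.1, x.2.2.1, x.2.2.2.1⟩, ?_⟩, fun x => rfl, fun x => rfl⟩
  · intro u hu
    exact mul_inv_eq_iff_eq_mul.1 (congrArg (fun y : α => y.1.1) (x.2 ⟨u, hu⟩))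
  · intro u hu
    exact mul_inv_eq_iff_eq_mul.1 (congrArg (fun y : α => y.1.2) (x.2 ⟨u, hu⟩))
  · intro u
    exact Subtype.ext (Prod.ext (mul_inv_eq_iff_eq_mul.2 (x.2.2.2.2.1 u u.2))
      (mul_inv_eq_iff_eq_mul.2 (x.2.2.2.2.2 u u.2)))

end Cfsg.Agent.S0903
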