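import Cfsg.Statements.S0905
import Mathlib
import Cfsg.Agent.Lib.Blocks.Nilpotent
import Cfsg.Agent.Lib.PCore.Basic

set_option autoImplicit false
open Cfsg

namespace Cfsg.Agent.S0905

/-- Let F be a field of characteristic p and let g be an element of the finite group G no conjugate of which centralizes O_p(G). Then the class sum of g is a nilpotent element of the group algebra F[G]. -/
theorem result {G : Type*} [Group G] [Finite G] (p : ℕ) [Fact p.Prime] (F : Type*) [Field F] [CharP F p] (g : G) (hg : ∀ x : G, IsConj g x → x ∉ Subgroup.centralizer (Cfsg.pCore p G : Set G)) : IsNilpotent (∑ᶠ x ∈ ConjClasses.carrier (ConjClasses.mk g), MonoidAlgebra.single x (1 : F) : MonoidAlgebra F G) := by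
  classical
  haveI := Fintype.ofFinite G
  have hz : (∑ᶠ x ∈ ConjClasses.carrier (ConjClasses.mk g), MonoidAlgebra.single x (1 : F) :
      MonoidAlgebra F G) = Blocks.classSum F g := by
    rw [finsum_mem_eq_toFinset_sum]
    refine Blocks.alg_ext fun y => ?_
    rw [MonoidAlgebra.coeff_sum, Finsupp.finsetSum_apply]
    simp [Blocks.classSum, Blocks.ofFun, ConjClasses.mem_carrier_iff_mk_eq,
      ConjClasses.mk_eq_mk_iff_isConj, Finsupp.single_apply, -isConj_iff]
    by_cases hc : IsConj g y
    · rw [if_pos hc, if_pos hc.symm]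
    · rw [if_neg hc, if_neg fun h => hc h.symm]
  rw [hz]
  haveI : (Cfsg.pCore p G).Normal := PCore.pCore_normal
  refine Blocks.isNilpotent_of_central (Cfsg.pCore p G) PCore.isPGroup_pCore
    (Blocks.isCentralElt_classSum g) fun x hx => ?_
  by_contra hne
  refine hg x ?_ hx
  by_contra hxg
  exact hne (by simp [Blocks.classSum, Blocks.ofFun, hxg, -isConj_iff])

end Cfsg.Agent.S0905
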