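import Cfsg.Statements.S0914
import Cfsg.Agent.Lib.Blocks.Defect
import Cfsg.Agent.Lib.CharInt.Central

set_option autoImplicit false
open Cfsg
open Cfsg.Agent

namespace Cfsg.Agent.S0914

/-- Let χ be an irreducible character of the finite group G, p a prime and M a maximal ideal of the algebraic integers containing p. Then p does not divide the integer (Nat.card G) / χ(1) if and only if the block of χ relative to M consists of χ alone. -/
theorem result {G : Type*} [Group G] [Finite G] (p : ℕ) [Fact p.Prime] (M : Ideal Cfsg.AlgInt) (hM : Cfsg.IsPModular p M) (χ : Cfsg.IrrCharacter G) : ¬ p ∣ Nat.card G / Cfsg.charDegree (χ : G → ℂ) ↔ Cfsg.blockOf M (χ : G → ℂ) = {χ} := by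
  haveI := hM.2.1
  have hd : 0 < Char.degree χ := Char.degree_pos χ
  rw [Blocks.blockOf_eq_singleton_iff hM.2.2, Blocks.charDegree_eq]
  obtain ⟨k, hk⟩ : Char.degree χ ∣ Nat.card G := by
    obtain ⟨n, ρ, hρ, he⟩ := χ.2
    haveI := hρ
    have hn : Char.degree χ = Module.finrank ℂ (Fin n → ℂ) := by
      have := Char.apply_one_eq_degree χ
      rw [← he, Representation.char_one] at this
      exact_mod_cast this.symm
    rw [hn]
    exact CharInt.finrank_dvd_natCard ρ
  have hk0 : k ≠ 0 := fun h => Nat.card_pos.ne' (by rw [hk, h, mul_zero])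
  rw [hk, Nat.mul_div_cancel_left _ hd, Nat.factorization_mul hd.ne' hk0, Finsupp.add_apply,
    (Fact.out : p.Prime).dvd_iff_one_le_factorization hk0]
  omega

end Cfsg.Agent.S0914
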