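import Cfsg.Statements.S0915
import Cfsg.Agent.Lib.Blocks.Defect
import Cfsg.Agent.Lib.PCore.Basic
import Cfsg.Agent.Lib.PCore.HallHigman

set_option autoImplicit false
open Cfsg
open Cfsg.Agent

namespace Cfsg.Agent.S0915

/-- Let G be a finite p-solvable group with trivial largest normal subgroup of order prime to p. Then any two irreducible characters of G lie in the same block relative to every maximal ideal M of the algebraic integers containing p: G has a single p-block. -/
theorem result {G : Type*} [Group G] [Finite G] (p : ℕ) [Fact p.Prime] (M : Ideal Cfsg.AlgInt) (hM : Cfsg.IsPModular p M) (hsolv : Cfsg.IsPSolvable p G) (hcore : Cfsg.pPrimeCore p G = ⊥) (χ ψ : Cfsg.IrrCharacter G) : Cfsg.SameBlock M (χ : G → ℂ) (ψ : G → ℂ) := by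
  haveI := hM.2.1
  refine Blocks.sameBlock_of_regular hM.2.2 fun g hg => ?_
  by_cases hg1 : g = 1
  · subst hg1
    have h1 : ∀ θ : IrrCharacter G, centralChar (θ : G → ℂ) 1 = 1 := fun θ => by
      have hc : Subgroup.centralizer ({1} : Set G) = ⊤ := by
        ext x; simp [Subgroup.mem_centralizer_singleton_iff]
      rw [centralChar, hc, Subgroup.index_top, Nat.cast_one, one_mul,
        div_self (Blocks.irr_one_ne_zero θ)]
    rw [h1, h1, sub_self]
    exact Blocks.memLocalIdeal_zero
  · have key : ∀ θ : IrrCharacter G, MemLocalIdeal M (centralChar (θ : G → ℂ) g) := fun θ => by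
      by_contra h
      obtain ⟨x, hx, hxQ⟩ :=
        Blocks.exists_conj_mem_centralizer hM.2.2 (Q := pCore p G) PCore.isPGroup_pCore h
      obtain ⟨c, rfl⟩ := isConj_iff.1 hx
      obtain ⟨k, hk⟩ := IsPGroup.iff_orderOf.1 (PCore.isPGroup_pCore (p := p) (G := G))
        ⟨_, PCore.centralizer_pCore_le hsolv hcore hxQ⟩
      replace hk : orderOf g = p ^ k := by
        rw [← MulEquiv.orderOf_eq (MulAut.conj c) g]
        rw [← Subgroup.orderOf_coe] at hk
        exact hk
      rcases Nat.eq_zero_or_pos k with rfl | hk'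
      · exact hg1 (orderOf_eq_one_iff.1 (by simpa using hk))
      · exact hg (hk ▸ dvd_pow_self p hk'.ne')
    exact Blocks.MemLocalIdeal.sub (key χ) (key ψ)

end Cfsg.Agent.S0915
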