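import Cfsg.Statements.S0916
import Mathlib

set_option autoImplicit false
open Cfsg

namespace Cfsg.Agent.S0916

/-- A `p`-subgroup `P` is the image of a Sylow subgroup of `K` iff it lies in `K` with the full
`p`-part of the order. -/
theorem exists_sylow_map_iff {G : Type*} [Group G] [Finite G] (p : ℕ) [Fact p.Prime]
    (P K : Subgroup G) :
    (∃ S : Sylow p K, (S : Subgroup K).map K.subtype = P) ↔
      P ≤ K ∧ Nat.card P = p ^ (Nat.card K).factorization p := by
  constructor
  · rintro ⟨S, rfl⟩
    refine ⟨Subgroup.map_subtype_le _, ?_⟩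
    rw [Subgroup.card_map_of_injective K.subtype_injective, S.card_eq_multiplicity]
  · rintro ⟨hle, hcard⟩
    refine ⟨Sylow.ofCard (P.subgroupOf K) ?_, ?_⟩
    · rw [Nat.card_congr (Subgroup.subgroupOfEquivOfLe hle).toEquiv, hcard]
    · rw [Sylow.coe_ofCard, Subgroup.map_subgroupOf_eq_of_le hle]

/-- Let P be a p-subgroup of the finite group G, C its centralizer and N its normalizer. Say that a conjugacy class (of G, or of N) has defect group P when P is a Sylow p-subgroup of the centralizer (in G, respectively in N) of some element of the class. Then: (i) if the class of g in G has defect group P, the elements of that class lying in C form a single N-class, again with defect group P; (ii) every N-class with defect group P arises this way from exactly one G-class with defect group P. -/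
theorem result {G : Type*} [Group G] [Finite G] (p : ℕ) [Fact p.Prime] (P : Subgroup G) (hP : IsPGroup p P) : (∀ g : G, (∃ S : Sylow p (Subgroup.centralizer ({g} : Set G)), (S : Subgroup (Subgroup.centralizer ({g} : Set G))).map (Subgroup.centralizer ({g} : Set G)).subtype = P) → (∃ c : G, IsConj g c ∧ c ∈ Subgroup.centralizer (P : Set G)) ∧ (∀ c₁ c₂ : G, IsConj g c₁ → IsConj g c₂ → c₁ ∈ Subgroup.centralizer (P : Set G) → c₂ ∈ Subgroup.centralizer (P : Set G) → ∃ n ∈ Subgroup.normalizer (P : Set G), n * c₁ * n⁻¹ = c₂)) ∧ (∀ c : G, c ∈ Subgroup.centralizer (P : Set G) → (∃ S : Sylow p (Subgroup.centralizer ({c} : Set G) ⊓ Subgroup.normalizer (P : Set G) : Subgroup G), (S : Subgroup ↥(Subgroup.centralizer ({c} : Set G) ⊓ Subgroup.normalizer (P : Set G))).map (Subgroup.centralizer ({c} : Set G) ⊓ Subgroup.normalizer (P : Set G)).subtype = P) → ∃ S : Sylow p (Subgroup.centralizer ({c} : Set G)), (S : Subgroup (Subgroup.centralizer ({c} : Set G))).map (Subgroup.centralizer ({c} : Set G)).subtype = P) :=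 by
  classical
  refine ⟨fun g hg => ?_, fun c hc hS => ?_⟩
  · obtain ⟨hPg, hcard⟩ := (exists_sylow_map_iff p P _).1 hg
    refine ⟨⟨g, IsConj.refl g, fun u hu => (Subgroup.mem_centralizer_singleton_iff.1 (hPg hu))⟩,
      fun c₁ c₂ h1 h2 hc1 hc2 => ?_⟩
    obtain ⟨k, hk⟩ := isConj_iff.1 (h1.symm.trans h2)
    have hP2 : P ≤ Subgroup.centralizer ({c₂} : Set G) := fun u hu =>
      Subgroup.mem_centralizer_singleton_iff.2 (hc2 u hu)
    have hkP : P.map (MulAut.conj k).toMonoidHom ≤ Subgroup.centralizer ({c₂} : Set G) := by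
      rintro _ ⟨u, hu, rfl⟩
      rw [Subgroup.mem_centralizer_singleton_iff, ← hk]
      show k * u * k⁻¹ * (k * c₁ * k⁻¹) = k * c₁ * k⁻¹ * (k * u * k⁻¹)
      rw [show k * u * k⁻¹ * (k * c₁ * k⁻¹) = k * (u * c₁) * k⁻¹ by group, hc1 u hu]
      group
    obtain ⟨l, hl⟩ := isConj_iff.1 h2
    have hcard2 : Nat.card (Subgroup.centralizer ({c₂} : Set G)) =
        Nat.card (Subgroup.centralizer ({g} : Set G)) := by
      rw [← hl]
      refine (Nat.card_congr (Equiv.subtypeEquiv (MulAut.conj l).toEquiv fun u => ?_)).symm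
      rw [Subgroup.mem_centralizer_singleton_iff, Subgroup.mem_centralizer_singleton_iff]
      show _ ↔ l * u * l⁻¹ * (l * g * l⁻¹) = l * g * l⁻¹ * (l * u * l⁻¹)
      rw [show l * u * l⁻¹ * (l * g * l⁻¹) = l * (u * g) * l⁻¹ by group,
        show l * g * l⁻¹ * (l * u * l⁻¹) = l * (g * u) * l⁻¹ by group, mul_left_inj,
        mul_right_inj]
    obtain ⟨S₁, hS₁⟩ := (exists_sylow_map_iff p P _).2 ⟨hP2, by rw [hcard, hcard2]⟩
    obtain ⟨S₂, hS₂⟩ := (exists_sylow_map_iff p (P.map (MulAut.conj k).toMonoidHom) _).2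
      ⟨hkP, by rw [Subgroup.card_map_of_injective (MulAut.conj k).injective, hcard, hcard2]⟩
    obtain ⟨z, hz⟩ := MulAction.exists_smul_eq (Subgroup.centralizer ({c₂} : Set G)) S₂ S₁
    refine ⟨(z : G) * k, ?_, ?_⟩
    · rw [Subgroup.mem_normalizer_iff_map_conj_eq]
      have h3 := congrArg (fun S : Sylow p (Subgroup.centralizer ({c₂} : Set G)) =>
        (S : Subgroup (Subgroup.centralizer ({c₂} : Set G))).map
          (Subgroup.centralizer ({c₂} : Set G)).subtype) hz
      simp only [hS₁] at h3
      refine Eq.trans ?_ h3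
      show P.map (MulAut.conj ((z : G) * k)).toMonoidHom = _
      rw [show ((MulAut.conj ((z : G) * k)).toMonoidHom : G →* G) =
        (MulAut.conj (z : G)).toMonoidHom.comp (MulAut.conj k).toMonoidHom by
          ext u; simp [mul_assoc], ← Subgroup.map_map, ← hS₂, Subgroup.map_map]
      rw [show ((z • S₂ : Sylow p (Subgroup.centralizer ({c₂} : Set G))) :
          Subgroup (Subgroup.centralizer ({c₂} : Set G))) =
        (S₂ : Subgroup (Subgroup.centralizer ({c₂} : Set G))).map (MulAut.conj z).toMonoidHom from rfl,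
        Subgroup.map_map]
      rfl
    · rw [show (z : G) * k * c₁ * ((z : G) * k)⁻¹ = (z : G) * (k * c₁ * k⁻¹) * (z : G)⁻¹ by group,
        hk, Subgroup.mem_centralizer_singleton_iff.1 z.2, mul_inv_cancel_right]
  · obtain ⟨hPK, hcard⟩ := (exists_sylow_map_iff p P _).1 hS
    have hPc : P ≤ Subgroup.centralizer ({c} : Set G) := fun u hu => (hPK hu).1
    obtain ⟨Q, hQ⟩ := (hP.comap_of_injective (Subgroup.centralizer ({c} : Set G)).subtype
      Subtype.val_injective).exists_le_sylow
    refine ⟨Q, le_antisymm ?_ ?_⟩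
    swap
    · intro u hu
      exact ⟨⟨u, hPc hu⟩, hQ hu, rfl⟩
    set QG := (Q : Subgroup (Subgroup.centralizer ({c} : Set G))).map
      (Subgroup.centralizer ({c} : Set G)).subtype with hQG
    have hPQ : P ≤ QG := fun u hu => ⟨⟨u, hPc hu⟩, hQ hu, rfl⟩
    by_contra hne
    have hQp : IsPGroup p QG := Q.2.map _
    haveI := hQp.isNilpotent
    have hlt : P.subgroupOf QG < ⊤ :=
      lt_top_iff_ne_top.2 fun h => hne (Subgroup.subgroupOf_eq_top.1 h)
    obtain ⟨u, huN, huP⟩ := SetLike.exists_of_lt (Group.normalizerCondition_of_isNilpotent _ hlt)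
    set R := QG ⊓ Subgroup.normalizer (P : Set G) with hR
    have huR : (u : G) ∈ R := by
      refine ⟨u.2, ?_⟩
      show (u : G) ∈ Subgroup.normalizer (P : Set G)
      rw [Subgroup.mem_normalizer_iff]
      intro w
      constructor
      · intro hw
        exact (Subgroup.mem_normalizer_iff.1 huN ⟨w, hPQ hw⟩).1 hw
      · intro hw
        have hwQ : w ∈ QG := by
          have h' : (u : G)⁻¹ * ((u : G) * w * (u : G)⁻¹) * u ∈ QG :=
            QG.mul_mem (QG.mul_mem (QG.inv_mem u.2) (hPQ hw)) u.2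
          simpa [mul_assoc] using h'
        exact (Subgroup.mem_normalizer_iff.1 huN ⟨w, hwQ⟩).2 hw
    have hRK : R ≤ Subgroup.centralizer ({c} : Set G) ⊓ Subgroup.normalizer (P : Set G) :=
      inf_le_inf_right _ (Subgroup.map_subtype_le _)
    have hPR : P ≤ R := le_inf hPQ Subgroup.le_normalizer
    have hRp : IsPGroup p R := hQp.to_le inf_le_left
    obtain ⟨r, hr⟩ := (IsPGroup.iff_card).1 hRp
    have hdvd : Nat.card R ∣ Nat.card P := by
      rw [hcard, hr]
      exact pow_dvd_pow _ (((Fact.out : p.Prime).pow_dvd_iff_le_factorization Nat.card_pos.ne').1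
        (hr ▸ Subgroup.card_dvd_of_le hRK))
    have hPR' : P = R :=
      Subgroup.eq_of_le_of_card_ge hPR (Nat.le_of_dvd Nat.card_pos hdvd)
    exact huP (show (u : G) ∈ P by rw [hPR']; exact huR)

end Cfsg.Agent.S0916
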