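import Cfsg.Statements.S0923
import Cfsg.Agent.Lib.Blocks.SecondMain

set_option autoImplicit false
open Cfsg
open Cfsg.Agent

namespace Cfsg.Agent.S0923

/-- Brauer's Second Main Theorem, in terms of ordinary characters. Let x be a p-element of the finite group G with centralizer C, let χ lie in the block B of G and let b be a block of C that does not induce B (relative to a maximal ideal M of the algebraic integers containing p). Form the class function ϑ(c) = χ(x c) on C and its b-part (the sum over ψ ∈ b of the inner product of ϑ with ψ, times ψ). Then the b-part of ϑ vanishes at every p-regular element of C. (Equivalently, the generalized decomposition numbers of χ with respect to b are zero.) -/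
theorem result {G : Type*} [Group G] [Finite G] (p : ℕ) [Fact p.Prime] (M : Ideal Cfsg.AlgInt) (hM : Cfsg.IsPModular p M) (x : G) (hx : ∃ k : ℕ, orderOf x = p ^ k) (B : Set (Cfsg.IrrCharacter G)) (hB : Cfsg.IsPBlock M B) (χ : Cfsg.IrrCharacter G) (hχ : χ ∈ B) (b : Set (Cfsg.IrrCharacter (Subgroup.centralizer ({x} : Set G)))) (hb : Cfsg.IsPBlock M b) (hnot : ¬ Cfsg.IsInducedBlock M (Subgroup.centralizer ({x} : Set G)) b B) (y : Subgroup.centralizer ({x} : Set G)) (hy : ¬ p ∣ orderOf y) : Cfsg.blockPart b (fun c : Subgroup.centralizer ({x} : Set G) => (χ : G → ℂ) (x * (c : G))) y = 0 := by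
  classical
  haveI := hM.2.1
  haveI := Fintype.ofFinite (Subgroup.centralizer ({x} : Set G))
  have hxy : Commute x (y : G) := (Subgroup.mem_centralizer_singleton_iff.1 y.2).symm
  have hθ : Cfsg.IsClassFunction (Subgroup.centralizer ({x} : Set G))
      (fun c : Subgroup.centralizer ({x} : Set G) => (χ : G → ℂ) (x * (c : G))) := fun c a => by
    have hax : x * (a : G) = (a : G) * x := (Subgroup.mem_centralizer_singleton_iff.1 a.2).symm
    simp only [Subgroup.coe_mul, InvMemClass.coe_inv]
    rw [← mul_assoc, ← mul_assoc, hax, mul_assoc (a : G) x, Blocks.irr_classFun χ]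
  let x' : Subgroup.centralizer ({x} : Set G) := ⟨x, Subgroup.mem_centralizer_singleton_iff.2 rfl⟩
  have hy' : ¬ p ∣ orderOf (y : G) := by rwa [Subgroup.orderOf_coe]
  have hp : Cfsg.IsPPart p ((x' * y : Subgroup.centralizer ({x} : Set G)) : G) x :=
    Blocks.isPPart_mul hxy hx hy'
  have h1 := Blocks.second_main_centralizer hM.2.2 hx hb (χ := χ)
    (by rwa [← Blocks.block_eq hB hχ]) hp
  rw [Blocks.chiL_inclA_mul_single] at h1
  rw [← Blocks.sum_mul_blockCoeff hθ, ← Equiv.sum_comp (Equiv.mulRight y), ← h1]
  refine Finset.sum_congr rfl fun k _ => ?_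
  have hkx : (k : G) * x = x * k := Subgroup.mem_centralizer_singleton_iff.1 k.2
  simp only [Equiv.coe_mulRight, mul_inv_cancel_right, Blocks.coeff_blockIdem, Subgroup.coe_mul, x']
  rw [← mul_assoc (k : G), hkx, mul_assoc, mul_comm]

end Cfsg.Agent.S0923
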