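import Cfsg.Statements.S0928
import Mathlib
import Cfsg.Agent.Lib.Char.Orthogonality
import Cfsg.Agent.Lib.CharInt.Basic

set_option autoImplicit false
open Cfsg

namespace Cfsg.Agent.S0928

open Representation

variable {G : Type*} [Group G]

/-- The class sum of `g` acts on an irreducible representation as an algebraic integer, equal to
the central character. -/
theorem isIntegral_classValue [Fintype G] {χ : G → ℂ} (hχ : IsIrrCharacter G χ) (g : G) :
    IsIntegral ℤ ((Nat.card {x : G // IsConj g x} : ℂ) * χ g / χ 1) := by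
  classical
  obtain ⟨n, ρ, hρ, rfl⟩ := hχ
  set c : G → ℂ := fun x => if IsConj g x then 1 else 0 with hc
  have hcl : IsClassFunction G c := by
    intro a b
    have : IsConj g (b * a * b⁻¹) ↔ IsConj g a := by
      have hab : IsConj a (b * a * b⁻¹) := isConj_iff.2 ⟨b, rfl⟩
      exact ⟨fun h => h.trans hab.symm, fun h => h.trans hab⟩
    simp only [hc]; exact if_congr this rfl rfl
  obtain ⟨t, ht'⟩ := Char.exists_opSum_eq_smul hcl ρ
  have ht : Char.opSum c ρ = t • (1 : Module.End ℂ (Fin n → ℂ)) :=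
    LinearMap.ext fun v => by rw [ht' v]; rfl
  haveI := hρ
  haveI : Nontrivial (Fin n → ℂ) := Char.nontrivial_of_isIrreducible ρ
  have hint : IsIntegral ℤ (Char.opSum c ρ) := by
    let φ : MonoidAlgebra ℤ G →ₐ[ℤ] Module.End ℂ (Fin n → ℂ) := MonoidAlgebra.lift ℤ _ G ρ
    have : Char.opSum c ρ =
        φ (∑ x : G, MonoidAlgebra.single x (if IsConj g x then (1 : ℤ) else 0)) := by
      apply LinearMap.ext; intro v
      simp [φ, map_sum, Char.opSum_apply, hc, apply_ite, ite_apply]
    rw [this]
    exact (IsIntegral.of_finite ℤ _).map φ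
  rw [ht] at hint
  have htint : IsIntegral ℤ t := by
    refine (isIntegral_algebraMap_iff (A := ℂ) (B := Module.End ℂ (Fin n → ℂ))
      (FaithfulSMul.algebraMap_injective ℂ _)).1 ?_
    simpa [Algebra.algebraMap_eq_smul_one] using hint
  have htr := Char.trace_opSum c ρ
  rw [ht] at htr
  have hfin : LinearMap.trace ℂ (Fin n → ℂ) (1 : Module.End ℂ (Fin n → ℂ)) = ρ.character 1 := by
    simp
  have hsum : ∑ x : G, c x * ρ.character x =
      (Nat.card {x : G // IsConj g x} : ℂ) * ρ.character g := by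
    have : ∀ x, c x * ρ.character x = if IsConj g x then ρ.character g else 0 := by
      intro x
      by_cases hx : IsConj g x
      · simp only [hc, if_pos hx, one_mul]
        exact (Char.IsClassFunction.apply_of_isConj
          (Char.IsCharacter.isClassFunction ⟨n, ρ, rfl⟩) hx).symm
      · simp only [hc, if_neg hx, zero_mul]
    rw [Finset.sum_congr rfl fun x _ => this x, ← Finset.sum_filter, Finset.sum_const,
      Nat.card_eq_fintype_card, Fintype.card_subtype, nsmul_eq_mul]
  rw [map_smul, smul_eq_mul, hfin, hsum] at htr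
  have h1 : ρ.character 1 ≠ 0 :=
    Char.IsIrrCharacter.apply_one_ne_zero ⟨n, ρ, hρ, rfl⟩
  rw [← htr, mul_div_cancel_right₀ _ h1]
  exact htint

/-- Grouping a sum of a class function by conjugacy classes. -/
theorem sum_eq_sum_classes [Fintype G] [DecidableEq (ConjClasses G)] [Fintype (ConjClasses G)]
    (f : G → ℂ) (hf : ∀ a b, IsConj a b → f a = f b) :
    ∑ g : G, f g = ∑ K : ConjClasses G,
      (Nat.card {x : G // IsConj (Quotient.out K) x} : ℂ) * f (Quotient.out K) := by
  classical
  rw [← Finset.sum_fiberwise Finset.univ ConjClasses.mk f]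
  refine Finset.sum_congr rfl fun K _ => ?_
  have hmem : ∀ x, ConjClasses.mk x = K ↔ IsConj (Quotient.out K) x := by
    intro x
    constructor
    · intro hx
      apply ConjClasses.mk_eq_mk_iff_isConj.1
      rw [hx]; exact Quotient.out_eq K
    · intro hx
      rw [← ConjClasses.mk_eq_mk_iff_isConj.2 hx]; exact Quotient.out_eq K
  simp only [hmem]
  rw [Finset.sum_congr rfl fun x hx => (hf _ _ (Finset.mem_filter.1 hx).2).symm, Finset.sum_const,
    Nat.card_eq_fintype_card, Fintype.card_subtype, nsmul_eq_mul]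

/-- The pairs of elements of exponent `p` multiplying to `g`. -/
noncomputable def pairCount (p : ℕ) (g : G) : ℕ :=
  Nat.card {x : G // x ^ p = 1 ∧ (x⁻¹ * g) ^ p = 1}

theorem pairCount_conj (p : ℕ) {a b : G} (h : IsConj a b) : pairCount p a = pairCount p b := by
  obtain ⟨k, rfl⟩ := isConj_iff.1 h
  apply Nat.card_congr
  refine Equiv.subtypeEquiv (MulAut.conj k).toEquiv fun x => ?_
  have e1 : (k * x * k⁻¹)⁻¹ * (k * a * k⁻¹) = k * (x⁻¹ * a) * k⁻¹ := by group
  show _ ↔ (k * x * k⁻¹) ^ p = 1 ∧ ((k * x * k⁻¹)⁻¹ * (k * a * k⁻¹)) ^ p = 1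
  rw [e1, conj_pow, conj_pow, conj_eq_one_iff, conj_eq_one_iff]

theorem dvd_pairCount [Finite G] (p : ℕ) [hp : Fact p.Prime] (g : G)
    (hg : p ∣ Nat.card (Subgroup.centralizer ({g} : Set G))) : p ∣ pairCount p g := by
  obtain ⟨⟨z, hzg⟩, hz⟩ := exists_prime_orderOf_dvd_card' p hg
  rw [Subgroup.orderOf_mk] at hz
  have hzg' : z * g = g * z := Subgroup.mem_centralizer_singleton_iff.1 hzg
  set P := Subgroup.zpowers z
  have hP : IsPGroup p P := IsPGroup.of_card (n := 1) (by rw [Nat.card_zpowers, hz, pow_one])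
  -- conjugation action of `z` on the pairs
  let α := {x : G // x ^ p = 1 ∧ (x⁻¹ * g) ^ p = 1}
  have hcomm : ∀ u : P, (u : G) * g = g * (u : G) := by
    rintro ⟨u, m, rfl⟩
    exact ((show Commute z g from hzg').zpow_left m)
  letI act : MulAction P α :=
    { smul := fun u x => ⟨(u : G) * x.1 * (u : G)⁻¹, by
        refine ⟨by rw [conj_pow, x.2.1]; group, ?_⟩
        have : ((u : G) * x.1 * (u : G)⁻¹)⁻¹ * g = (u : G) * (x.1⁻¹ * g) * (u : G)⁻¹ := by
          have h := hcomm u
          calc ((u : G) * x.1 * (u : G)⁻¹)⁻¹ * g = (u : G) * x.1⁻¹ * ((u : G)⁻¹ * g) := by group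
            _ = (u : G) * x.1⁻¹ * (g * (u : G)⁻¹) := by
              rw [(show Commute (u : G) g from h).inv_left.eq]
            _ = _ := by group
        rw [this, conj_pow, x.2.2]; group⟩
      one_smul := fun x => Subtype.ext (show ((1 : P) : G) * x.1 * ((1 : P) : G)⁻¹ = x.1 by simp)
      mul_smul := fun u v x => Subtype.ext (show ((u * v : P) : G) * x.1 * ((u * v : P) : G)⁻¹ =
        (u : G) * ((v : G) * x.1 * (v : G)⁻¹) * (u : G)⁻¹ by push_cast; group) }
  have h1 := hP.card_modEq_card_fixedPoints α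
  -- translation by `z` on the fixed pairs is free
  let β := MulAction.fixedPoints P α
  have hcz : ∀ x : β, z * x.1.1 = x.1.1 * z := by
    intro x
    have := congrArg Subtype.val (x.2 ⟨z, Subgroup.mem_zpowers z⟩)
    exact mul_inv_eq_iff_eq_mul.1 this
  have hzp : z ^ p = 1 := by rw [← hz]; exact pow_orderOf_eq_one z
  have hcu : ∀ (u : P) (x : β), (u : G) * x.1.1 = x.1.1 * (u : G) := by
    rintro ⟨u, m, rfl⟩ x
    exact (show Commute z x.1.1 from hcz x).zpow_left m
  letI act2 : MulAction P β :=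
    { smul := fun u x => ⟨⟨(u : G) * x.1.1, by
          have hu : (u : G) ^ p = 1 := by
            obtain ⟨u, m, rfl⟩ := u
            show (z ^ m) ^ p = 1
            rw [← zpow_natCast, zpow_comm, zpow_natCast, hzp, one_zpow]
          refine ⟨by rw [(show Commute (u : G) x.1.1 from hcu u x).mul_pow, hu, x.1.2.1, one_mul], ?_⟩
          have hc' : Commute (u : G)⁻¹ (x.1.1⁻¹ * g) :=
            ((show Commute (u : G) x.1.1 from hcu u x).inv_right.mul_right (hcomm u)).inv_left
          rw [mul_inv_rev, mul_assoc, ← mul_assoc, show x.1.1⁻¹ * (u : G)⁻¹ * g =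
            (u : G)⁻¹ * (x.1.1⁻¹ * g) by
              rw [← mul_assoc, ((show Commute (u : G) x.1.1 from hcu u x).inv_inv).eq.symm],
            hc'.mul_pow, inv_pow, hu, x.1.2.2, inv_one, one_mul]⟩, by
          intro v
          apply Subtype.ext
          show (v : G) * ((u : G) * x.1.1) * (v : G)⁻¹ = (u : G) * x.1.1
          rw [mul_inv_eq_iff_eq_mul]
          have hvu : Commute (v : G) (u : G) := by
            obtain ⟨v, m, rfl⟩ := v
            obtain ⟨u, m', rfl⟩ := u
            exact Commute.zpow_zpow_self z m m'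
          exact hvu.mul_right (hcu v x)⟩
      one_smul := fun x => Subtype.ext (Subtype.ext (show ((1 : P) : G) * x.1.1 = x.1.1 by simp))
      mul_smul := fun u v x => Subtype.ext (Subtype.ext (show ((u * v : P) : G) * x.1.1 =
        (u : G) * ((v : G) * x.1.1) by push_cast; group)) }
  have h2 := hP.card_modEq_card_fixedPoints β
  have hempty : IsEmpty (MulAction.fixedPoints P β) := by
    refine ⟨fun x => ?_⟩
    have := congrArg (fun y : β => y.1.1) (x.2 ⟨z, Subgroup.mem_zpowers z⟩)
    have hz1 : z = 1 := mul_eq_right.1 this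
    rw [hz1, orderOf_one] at hz
    exact hp.out.one_lt.ne hz
  rw [Nat.card_of_isEmpty (α := MulAction.fixedPoints P β)] at h2
  exact Nat.modEq_zero_iff_dvd.1 (h1.trans h2)

theorem sum_pairCount_mul [Fintype G] {χ : G → ℂ} (hχ : IsIrrCharacter G χ) (p : ℕ)
    (hp : p.Prime) (hvan : ∀ g : G, orderOf g = p → χ g = 0) :
    ∑ g : G, (pairCount p g : ℂ) * χ g = χ 1 := by
  classical
  have h1 : χ 1 ≠ 0 := Char.IsIrrCharacter.apply_one_ne_zero hχ
  obtain ⟨n, ρ, hρ, rfl⟩ := hχ
  haveI := hρ
  set c : G → ℂ := fun x => if x ^ p = 1 then 1 else 0 with hc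
  have hcl : IsClassFunction G c := fun a b => by simp [hc, conj_pow]
  obtain ⟨t, ht'⟩ := Char.exists_opSum_eq_smul hcl ρ
  have ht : Char.opSum c ρ = t • (1 : Module.End ℂ (Fin n → ℂ)) :=
    LinearMap.ext fun v => by rw [ht' v]; rfl
  have hfin : LinearMap.trace ℂ (Fin n → ℂ) (1 : Module.End ℂ (Fin n → ℂ)) = ρ.character 1 := by
    simp
  have hsum : ∑ x : G, c x * ρ.character x = ρ.character 1 := by
    rw [Finset.sum_eq_single 1]
    · simp [hc]
    · intro x _ hx
      by_cases hxp : x ^ p = 1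
      · rw [hvan x (haveI := Fact.mk hp; orderOf_eq_prime hxp hx), mul_zero]
      · simp [hc, hxp]
    · simp
  have htr := Char.trace_opSum c ρ
  rw [ht, map_smul, smul_eq_mul, hfin, hsum] at htr
  have ht1 : t = 1 := (mul_eq_right₀ h1).1 htr
  rw [ht1, one_smul] at ht
  have hsq : Char.opSum (fun g => (pairCount p g : ℂ)) ρ =
      Char.opSum c ρ * Char.opSum c ρ := by
    apply LinearMap.ext; intro v
    simp only [Module.End.mul_apply, Char.opSum_apply, map_sum, map_smul, smul_smul,
      Finset.smul_sum]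
    rw [← Fintype.sum_prod_type']
    have : ∀ g : G, (pairCount p g : ℂ) = ∑ x : G, c x * c (x⁻¹ * g) := by
      intro g
      rw [pairCount, Nat.card_eq_fintype_card, Fintype.card_subtype]
      simp [hc, ← ite_and, Finset.sum_boole, and_comm]
    simp only [this, Finset.sum_smul]
    rw [← Fintype.sum_prod_type']
    refine Fintype.sum_equiv
      ⟨fun q => (q.2⁻¹ * q.1, q.2), fun q => (q.2 * q.1, q.2), fun q => by simp, fun q => by simp⟩
      _ _ fun q => ?_
    simp [← Module.End.mul_apply, ← map_mul, mul_comm]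
  have htr2 := Char.trace_opSum (fun g => (pairCount p g : ℂ)) ρ
  rw [hsq, ht, one_mul, hfin] at htr2
  exact htr2.symm

theorem degree_dvd_card [Fintype G] {χ : G → ℂ} (hχ : IsIrrCharacter G χ) {n : ℕ}
    (hn : χ 1 = n) : n ∣ Nat.card G := by
  classical
  have hchar := Char.IsIrrCharacter.isCharacter hχ
  have h1 : χ 1 ≠ 0 := Char.IsIrrCharacter.apply_one_ne_zero hχ
  have horth := Char.classInner_irr_self hχ
  rw [classInner, inv_mul_eq_one₀ Char.card_ne_zero] at horth
  simp only [Char.IsCharacter.conj_apply hchar] at horth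
  have hcl := Char.IsCharacter.isClassFunction hchar
  have hf : ∀ a b, IsConj a b → χ a * χ a⁻¹ / χ 1 = χ b * χ b⁻¹ / χ 1 := by
    intro a b hab
    obtain ⟨k, rfl⟩ := isConj_iff.1 hab
    rw [show (k * a * k⁻¹)⁻¹ = k * a⁻¹ * k⁻¹ by group, hcl, hcl]
  have hint : IsIntegral ℤ ((Nat.card G : ℂ) / (n : ℂ)) := by
    rw [horth, ← hn, Finset.sum_div, sum_eq_sum_classes _ hf]
    refine IsIntegral.sum _ fun K _ => ?_
    rw [show ∀ a b c d : ℂ, a * (b * c / d) = (a * b / d) * c from fun a b c d => by ring]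
    exact (isIntegral_classValue hχ _).mul (CharInt.isIntegral_char hchar _)
  rw [show ((Nat.card G : ℂ) / (n : ℂ)) = algebraMap ℚ ℂ ((Nat.card G : ℚ) / (n : ℚ)) by
    rw [map_div₀, map_natCast, map_natCast]] at hint
  obtain ⟨z, hz⟩ := IsIntegrallyClosed.isIntegral_iff.1
    ((isIntegral_algebraMap_iff (FaithfulSMul.algebraMap_injective ℚ ℂ)).1 hint)
  have hn0 : (n : ℚ) ≠ 0 := by
    intro h0
    exact h1 (by rw [hn]; exact_mod_cast h0)
  rw [eq_div_iff hn0] at hz
  rw [eq_intCast] at hz
  have : (z : ℤ) * (n : ℤ) = (Nat.card G : ℤ) := by exact_mod_cast hz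
  exact Int.natCast_dvd_natCast.1 ⟨z, by rw [← this, mul_comm]⟩

/-- Let χ be an irreducible character of the finite group G and p a prime. If χ g = 0 for every element g of order p, then the exponent of p in the degree χ(1) equals the exponent of p in the order of G (χ has p-defect zero). -/
theorem result {G : Type*} [Group G] [Finite G] (p : ℕ) [Fact p.Prime] (χ : Cfsg.IrrCharacter G) (hvan : ∀ g : G, orderOf g = p → (χ : G → ℂ) g = 0) : (Cfsg.charDegree (χ : G → ℂ)).factorization p = (Nat.card G).factorization p := by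
  classical
  have hp : p.Prime := Fact.out
  haveI := Fintype.ofFinite G
  haveI := Fintype.ofFinite (ConjClasses G)
  obtain ⟨χ, hχ⟩ := χ
  obtain ⟨n, hn0, hn⟩ := Char.IsIrrCharacter.exists_degree hχ
  have hdeg : Cfsg.charDegree χ = n := by simp [Cfsg.charDegree, hn]
  show (Cfsg.charDegree χ).factorization p = _
  rw [hdeg]
  have hdvd := degree_dvd_card hχ hn
  by_contra hne
  -- then `p` divides `|G| / n`
  obtain ⟨q, hq⟩ := hdvd
  have hq0 : q ≠ 0 := fun h => Nat.card_pos.ne' (by rw [hq, h, mul_zero])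
  have hpq : p ∣ q := by
    rw [hq, Nat.factorization_mul hn0.ne' hq0, Finsupp.add_apply] at hne
    exact Nat.dvd_of_factorization_pos (by omega)
  -- a maximal ideal of the algebraic integers over `p`
  obtain ⟨M, hM, hpM⟩ : ∃ M : Ideal AlgInt, M.IsMaximal ∧ (p : AlgInt) ∈ M := by
    have hunit : ¬ IsUnit (p : AlgInt) := by
      rintro ⟨u, hu⟩
      have hi : IsIntegral ℤ ((p : ℂ)⁻¹) := by
        have h2 : ((p : AlgInt) : ℂ) * ((↑u⁻¹ : AlgInt) : ℂ) = 1 := by
          rw [← hu, ← Subalgebra.coe_mul, Units.mul_inv, Subalgebra.coe_one]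
        rw [← eq_inv_of_mul_eq_one_right (by simpa using h2)]
        exact (↑u⁻¹ : AlgInt).2
      rw [show ((p : ℂ)⁻¹) = algebraMap ℚ ℂ ((p : ℚ)⁻¹) by rw [map_inv₀, map_natCast]] at hi
      obtain ⟨z, hz⟩ := IsIntegrallyClosed.isIntegral_iff.1
        ((isIntegral_algebraMap_iff (FaithfulSMul.algebraMap_injective ℚ ℂ)).1 hi)
      have hp0 : (p : ℚ) ≠ 0 := by exact_mod_cast hp.ne_zero
      rw [← one_div, eq_div_iff hp0] at hz
      rw [eq_intCast] at hz
      have h3 : (z : ℤ) * (p : ℤ) = 1 := by exact_mod_cast hz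
      have := Int.eq_one_of_mul_eq_one_left (by positivity) h3
      exact hp.one_lt.ne' (by exact_mod_cast this)
    obtain ⟨M, hM, hle⟩ := Ideal.exists_le_maximal (Ideal.span {(p : AlgInt)})
      (fun h => hunit (Ideal.span_singleton_eq_top.1 h))
    exact ⟨M, hM, hle (Ideal.mem_span_singleton_self _)⟩
  have hnotM : ∀ m : ℕ, ¬ p ∣ m → (m : AlgInt) ∉ M := by
    intro m hm hmem
    obtain ⟨a, b, hab⟩ := Int.isCoprime_iff_gcd_eq_one.2
      (show Int.gcd (p : ℤ) (m : ℤ) = 1 by simpa using (hp.coprime_iff_not_dvd.2 hm))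
    apply hM.ne_top
    rw [Ideal.eq_top_iff_one]
    have : ((a : ℤ) : AlgInt) * (p : AlgInt) + ((b : ℤ) : AlgInt) * (m : AlgInt) = 1 := by
      exact_mod_cast congrArg (Int.cast : ℤ → AlgInt) hab
    rw [← this]
    exact M.add_mem (M.mul_mem_left _ hpM) (M.mul_mem_left _ hmem)
  have hchar := Char.IsIrrCharacter.isCharacter hχ
  have hcl := Char.IsCharacter.isClassFunction hchar
  let w : G → AlgInt := fun g => ⟨_, isIntegral_classValue hχ g⟩
  have hterm : ∀ g : G, (pairCount p g : AlgInt) * w g ∈ M := by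
    intro g
    by_cases hg : p ∣ Nat.card (Subgroup.centralizer ({g} : Set G))
    · obtain ⟨m, hm⟩ := dvd_pairCount p g hg
      rw [hm, Nat.cast_mul, mul_assoc]
      exact M.mul_mem_right _ hpM
    · apply M.mul_mem_left
      set C := Nat.card (Subgroup.centralizer ({g} : Set G))
      have hcard : Nat.card {x : G // IsConj g x} * C = Nat.card G := by
        rw [mul_comm]
        exact Char.card_centralizer_mul_card_conj g
      have heq : (C : AlgInt) * w g = (q : AlgInt) * ⟨χ g, CharInt.isIntegral_char hchar g⟩ := by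
        apply Subtype.ext
        show ((C : AlgInt) : ℂ) * ((Nat.card {x : G // IsConj g x} : ℂ) * χ g / χ 1) =
          ((q : AlgInt) : ℂ) * χ g
        have hn0' : (n : ℂ) ≠ 0 := by exact_mod_cast hn0.ne'
        rw [hn]; push_cast; rw [mul_div_assoc', div_eq_iff hn0']
        have : (Nat.card {x : G // IsConj g x} : ℂ) * (C : ℂ) = (n : ℂ) * (q : ℂ) := by
          exact_mod_cast hcard.trans hq
        linear_combination (χ g) * this
      have hmem : (C : AlgInt) * w g ∈ M := by
        rw [heq]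
        obtain ⟨q', rfl⟩ := hpq
        rw [Nat.cast_mul, mul_assoc]
        exact M.mul_mem_right _ hpM
      exact (hM.isPrime.mem_or_mem hmem).resolve_left (hnotM C hg)
  have hone : (1 : AlgInt) = ∑ K : ConjClasses G, (pairCount p (Quotient.out K) : AlgInt) *
      w (Quotient.out K) := by
    apply Subtype.ext
    rw [Subalgebra.coe_one, AddSubmonoidClass.coe_finset_sum]
    have hsum := sum_pairCount_mul hχ p hp hvan
    have h1 : χ 1 ≠ 0 := Char.IsIrrCharacter.apply_one_ne_zero hχ
    calc (1 : ℂ) = ∑ g : G, (pairCount p g : ℂ) * χ g / χ 1 := by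
          rw [← Finset.sum_div, hsum, div_self h1]
      _ = _ := by
          rw [sum_eq_sum_classes (fun g => (pairCount p g : ℂ) * χ g / χ 1) (fun a b hab => by
            rw [pairCount_conj p hab, Char.IsClassFunction.apply_of_isConj hcl hab])]
          refine Finset.sum_congr rfl fun K _ => ?_
          simp only [w, Subalgebra.coe_mul, map_natCast, SubringClass.coe_natCast, NatCast.natCast]
          push_cast
          ring
  apply hM.ne_top
  rw [Ideal.eq_top_iff_one, hone]
  exact M.sum_mem fun K _ => hterm _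

end Cfsg.Agent.S0928
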