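import Cfsg.Statements.S0932
import Mathlib
import Cfsg.Agent.Lib.Char.Induction
import Cfsg.Agent.Lib.Char.Orthogonality

set_option autoImplicit false
open Cfsg

namespace Cfsg.Agent.S0932

/-- The induced central character in closed form. -/
theorem inducedCentralChar_eq {G : Type*} [Group G] [Fintype G] (H : Subgroup G) (ξ : H → ℂ)
    (g : G) : Cfsg.inducedCentralChar H ξ g = Cfsg.centralChar (Cfsg.indFun H ξ) g := by
  classical
  haveI := Fintype.ofFinite H
  set C := Nat.card (Subgroup.centralizer ({g} : Set G)) with hC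
  have hfib : ∀ y : G, IsConj g y →
      (Finset.univ.filter fun x : G => x⁻¹ * g * x = y).card = C := by
    intro y hy
    obtain ⟨k, hk⟩ := isConj_iff.1 hy
    rw [hC, Nat.card_eq_fintype_card, ← Fintype.card_coe]
    refine Fintype.card_congr
      ⟨fun x => ⟨x.1 * k, ?_⟩, fun x => ⟨x.1 * k⁻¹, ?_⟩, fun x => Subtype.ext (by simp),
        fun x => Subtype.ext (by simp)⟩
    · rw [Subgroup.mem_centralizer_singleton_iff]
      have hx := (Finset.mem_filter.1 x.2).2.trans hk.symm
      calc x.1 * k * g = x.1 * (k * g * k⁻¹) * k := by group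
        _ = x.1 * (x.1⁻¹ * g * x.1) * k := by rw [hx]
        _ = g * (x.1 * k) := by group
    · rw [Finset.mem_filter]
      refine ⟨Finset.mem_univ _, ?_⟩
      have hx := Subgroup.mem_centralizer_singleton_iff.1 x.2
      rw [← hk]
      calc (x.1 * k⁻¹)⁻¹ * g * (x.1 * k⁻¹) = k * x.1⁻¹ * (g * x.1) * k⁻¹ := by group
        _ = k * x.1⁻¹ * (x.1 * g) * k⁻¹ := by rw [hx]
        _ = k * g * k⁻¹ := by group
  have hind : ∀ a : G, ∑ x : G, Cfsg.extendByZero H ξ (x⁻¹ * a * x) =
      ∑ h : H, ((Finset.univ.filter fun x : G => x⁻¹ * a * x = (h : G)).card : ℂ) * ξ h := by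
    intro a
    have : ∀ x : G, Cfsg.extendByZero H ξ (x⁻¹ * a * x) =
        ∑ h : H, if x⁻¹ * a * x = (h : G) then ξ h else 0 := by
      intro x
      by_cases hx : x⁻¹ * a * x ∈ H
      · rw [Char.extendByZero_of_mem H ξ hx, Finset.sum_eq_single ⟨_, hx⟩]
        · simp
        · intro h _ hne
          rw [if_neg fun he => hne (Subtype.ext he.symm)]
        · simp
      · rw [Char.extendByZero_of_notMem H ξ hx, Finset.sum_eq_zero]
        intro h _
        rw [if_neg]
        intro he
        exact hx (by rw [he]; exact h.2)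
    rw [Finset.sum_congr rfl fun x _ => this x, Finset.sum_comm]
    refine Finset.sum_congr rfl fun h _ => ?_
    rw [← Finset.sum_filter, Finset.sum_const, nsmul_eq_mul]
  have hsum : Cfsg.indFun H ξ g = (Nat.card H : ℂ)⁻¹ *
      ((C : ℂ) * ∑ h ∈ Finset.univ.filter (fun h : H => IsConj g (h : G)), ξ h) := by
    unfold Cfsg.indFun
    rw [hind, Finset.mul_sum _ _ (C : ℂ), Finset.sum_filter]
    congr 1
    refine Finset.sum_congr rfl fun h _ => ?_
    by_cases hh : IsConj g (h : G)
    · rw [if_pos hh, hfib _ hh]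
    · rw [if_neg hh, Finset.card_eq_zero.2, Nat.cast_zero, zero_mul]
      rw [Finset.filter_eq_empty_iff]
      intro x _ hx
      exact hh (isConj_iff.2 ⟨x⁻¹, by rw [inv_inv]; exact hx⟩)
  have hcent : (C : ℂ) * ((Subgroup.centralizer ({g} : Set G)).index : ℂ) = (Nat.card G : ℂ) := by
    exact_mod_cast (Subgroup.centralizer ({g} : Set G)).card_mul_index
  have hone : Cfsg.indFun H ξ 1 = (Nat.card G : ℂ) / (Nat.card H : ℂ) * ξ 1 := by
    unfold Cfsg.indFun
    simp only [mul_one, inv_mul_cancel, Char.extendByZero_of_mem H ξ H.one_mem, Finset.sum_const,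
      Finset.card_univ, nsmul_eq_mul, Nat.card_eq_fintype_card]
    rw [show (⟨1, H.one_mem⟩ : H) = 1 from rfl]
    ring
  unfold Cfsg.inducedCentralChar Cfsg.centralChar
  rw [finsum_mem_eq_toFinset_sum, hsum, hone, ← Finset.sum_div]
  have hset : ({h : H | IsConj g (h : G)} : Set H).toFinset =
      Finset.univ.filter (fun h : H => IsConj g (h : G)) := by
    ext h; simp
  rw [hset]
  by_cases h1 : ξ 1 = 0
  · simp [h1]
  · have hH : (Nat.card H : ℂ) ≠ 0 := Nat.cast_ne_zero.2 Nat.card_pos.ne'
    have hG : (Nat.card G : ℂ) ≠ 0 := Nat.cast_ne_zero.2 Nat.card_pos.ne'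
    field_simp
    linear_combination (-(∑ h ∈ Finset.univ.filter (fun h : H => IsConj g (h : G)), ξ h)) * hcent

/-- Let H be a subgroup of the finite group G and ξ a character of H. For every g ∈ G, the sum of ξ h / ξ 1 over the elements h ∈ H that are conjugate in G to g equals the central character at g of the character of G induced from ξ (class size times value divided by degree). -/
theorem result {G : Type*} [Group G] [Fintype G] (H : Subgroup G) (ξ : H → ℂ) (hξ : Cfsg.IsCharacter H ξ) (g : G) : Cfsg.inducedCentralChar H ξ g = Cfsg.centralChar (Cfsg.indFun H ξ) g := by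
  classical
  exact inducedCentralChar_eq H ξ g

end Cfsg.Agent.S0932
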