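import Cfsg.Statements.S0933
import Mathlib
import Cfsg.Agent.S0932
import Cfsg.Agent.Lib.Blocks.CentralChar

set_option autoImplicit false
open Cfsg

namespace Cfsg.Agent.S0933

/-- Let H be a subgroup of the finite group G and ξ an irreducible character of H such that the induced function ξ^G is an irreducible character of G. Then, relative to any maximal ideal M of the algebraic integers containing the prime p, the block of ξ induces the block of ξ^G. -/
theorem result {G : Type*} [Group G] [Fintype G] (p : ℕ) [Fact p.Prime] (M : Ideal Cfsg.AlgInt) (hM : Cfsg.IsPModular p M) (H : Subgroup G) (ξ : Cfsg.IrrCharacter H) (hind : Cfsg.IsIrrCharacter G (Cfsg.indFun H (ξ : H → ℂ))) : Cfsg.IsInducedBlock M H (Cfsg.blockOf M (ξ : H → ℂ)) (Cfsg.blockOf M (Cfsg.indFun H (ξ : H → ℂ))) := by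
  classical
  haveI := hM.2.1.isPrime
  set η : Cfsg.IrrCharacter G := ⟨Cfsg.indFun H (ξ : H → ℂ), hind⟩
  refine ⟨⟨ξ, rfl⟩, ⟨η, rfl⟩, fun ξ' hξ' χ hχ g => ?_⟩
  have hclass : ∀ (ζ : Cfsg.IrrCharacter H) (a b : H), IsConj a b →
      (ζ : H → ℂ) a = (ζ : H → ℂ) b := fun ζ a b hab =>
    Char.IsClassFunction.apply_of_isConj (Blocks.irr_classFun ζ) hab
  -- the induced central character is additive over classes of `H`
  haveI := Fintype.ofFinite H
  haveI := Fintype.ofFinite (ConjClasses H)
  have hlin : ∀ ζ : Cfsg.IrrCharacter H, Cfsg.inducedCentralChar H (ζ : H → ℂ) g =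
      ∑ K ∈ Finset.univ.filter (fun K : ConjClasses H => IsConj g ((Quotient.out K : H) : G)),
        Cfsg.centralChar (ζ : H → ℂ) (Quotient.out K) := by
    intro ζ
    unfold Cfsg.inducedCentralChar
    rw [finsum_mem_eq_toFinset_sum]
    have hset : ({h : H | IsConj g (h : G)} : Set H).toFinset =
        Finset.univ.filter (fun h : H => IsConj g (h : G)) := by
      ext h; simp
    have hout : ∀ K : ConjClasses H, ConjClasses.mk (Quotient.out K) = K :=
      fun K => Quotient.out_eq K
    have hG : ∀ a b : H, IsConj a b → (IsConj g (a : G) ↔ IsConj g (b : G)) := fun a b hab => by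
      have hab' : IsConj (a : G) (b : G) := H.subtype.map_isConj hab
      exact ⟨fun h => h.trans hab', fun h => h.trans hab'.symm⟩
    rw [hset, ← Finset.sum_fiberwise_of_maps_to (g := ConjClasses.mk) (t :=
      Finset.univ.filter (fun K : ConjClasses H => IsConj g ((Quotient.out K : H) : G)))]
    · refine Finset.sum_congr rfl fun K hK => ?_
      rw [Finset.mem_filter] at hK
      have hfil : (Finset.univ.filter (fun h : H => IsConj g (h : G))).filter
          (fun h => ConjClasses.mk h = K) =
          Finset.univ.filter (fun h : H => IsConj (Quotient.out K) h) := by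
        ext h
        simp only [Finset.mem_filter, Finset.mem_univ, true_and]
        constructor
        · rintro ⟨-, hh⟩
          exact (ConjClasses.mk_eq_mk_iff_isConj.1 (hh.trans (hout K).symm)).symm
        · intro hh
          exact ⟨(hG _ _ hh).1 hK.2,
            (ConjClasses.mk_eq_mk_iff_isConj.2 hh).symm.trans (hout K)⟩
      rw [hfil, Finset.sum_congr rfl fun h hh => by
        rw [← hclass ζ _ _ (Finset.mem_filter.1 hh).2], Finset.sum_const, nsmul_eq_mul]
      unfold Cfsg.centralChar
      rw [← Blocks.card_isConj_eq_index, Nat.card_eq_fintype_card, Fintype.card_subtype,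
        mul_div_assoc]
    · intro h hh
      rw [Finset.mem_filter] at hh ⊢
      refine ⟨Finset.mem_univ _, ?_⟩
      replace hh := hh.2
      exact (hG _ _ (ConjClasses.mk_eq_mk_iff_isConj.1 (hout (ConjClasses.mk h)).symm)).1 hh
  have h1 : Cfsg.MemLocalIdeal M (Cfsg.inducedCentralChar H (ξ : H → ℂ) g -
      Cfsg.inducedCentralChar H (ξ' : H → ℂ) g) := by
    rw [hlin, hlin, ← Finset.sum_sub_distrib]
    exact Blocks.MemLocalIdeal.sum _ fun K _ => hξ' _
  have h3 : Cfsg.inducedCentralChar H (ξ : H → ℂ) g =
      Cfsg.centralChar (Cfsg.indFun H (ξ : H → ℂ)) g := S0932.inducedCentralChar_eq H _ g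
  have h4 := hχ g
  rw [← h3] at h4
  have := Blocks.MemLocalIdeal.sub h4 h1
  rwa [show ∀ a b c : ℂ, (a - c) - (a - b) = b - c from fun a b c => by ring] at this

end Cfsg.Agent.S0933
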