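import Cfsg.Statements.S0944
import Cfsg.Agent.Lib.CharInt.Basic
import Cfsg.Agent.Lib.Char.Basic
-- import your own Cfsg.Agent.* helpers here

set_option autoImplicit false
open Cfsg

namespace Cfsg.Agent.S0944

/-- Let χ be an irreducible character of the finite group G and u an involution. Then χ u is a rational integer n with n ≡ χ 1 (mod 2). -/
theorem result {G : Type*} [Group G] [Finite G] (χ : Cfsg.IrrCharacter G) (u : G) (hu : orderOf u = 2) : ∃ n : ℤ, (χ : G → ℂ) u = (n : ℂ) ∧ (2 : ℤ) ∣ (Cfsg.charDegree (χ : G → ℂ) : ℤ) - n := by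
  obtain ⟨n, μ, h1, hμ, hval⟩ := Cfsg.Agent.CharInt.exists_roots (Cfsg.Agent.Char.irr_isCharacter χ) u
  have hv := hval 1
  simp only [pow_one] at hv
  classical
  have hpm : ∀ i, μ i = 1 ∨ μ i = -1 := fun i => sq_eq_one_iff.1 (by simpa [hu] using hμ i)
  let m : ℕ := (Finset.univ.filter fun i => μ i = -1).card
  refine ⟨(n : ℤ) - 2 * (m : ℤ), ?_, ?_⟩
  · have e : ∀ i, μ i = 1 - 2 * (if μ i = -1 then (1 : ℂ) else 0) := fun i => by
      rcases hpm i with h | h <;> simp [h] <;> norm_num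
    rw [hv, Finset.sum_congr rfl fun i _ => e i, Finset.sum_sub_distrib, ← Finset.mul_sum,
      Finset.sum_boole]
    simp [m]
  · have hdeg : Cfsg.charDegree (χ : G → ℂ) = n := by simp [Cfsg.charDegree, h1]
    rw [hdeg]
    exact ⟨(m : ℤ), by ring⟩

end Cfsg.Agent.S0944
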