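import Cfsg.Statements.S0954
import Cfsg.Agent.Lib.BlocksX.Normal

set_option autoImplicit false
open Cfsg

namespace Cfsg.Agent.S0954

/-- Let N be a normal subgroup of the finite group G of order prime to p and of p-power index (a normal p-complement), and fix a maximal ideal M of the algebraic integers containing p. Then two irreducible characters χ, ψ of G lie in the same block if and only if some irreducible character of N has nonzero inner product with both the restriction of χ and the restriction of ψ. -/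
theorem result {G : Type*} [Group G] [Fintype G] (p : ℕ) [Fact p.Prime] (M : Ideal Cfsg.AlgInt) (hM : Cfsg.IsPModular p M) (N : Subgroup G) [N.Normal] [Fintype N] (hN : ¬ p ∣ Nat.card N) (hidx : ∃ k : ℕ, N.index = p ^ k) (χ ψ : Cfsg.IrrCharacter G) : Cfsg.SameBlock M (χ : G → ℂ) (ψ : G → ℂ) ↔ ∃ θ : Cfsg.IrrCharacter N, Cfsg.classInner (fun n : N => (χ : G → ℂ) n) (θ : N → ℂ) ≠ 0 ∧ Cfsg.classInner (fun n : N => (ψ : G → ℂ) n) (θ : N → ℂ) ≠ 0 := by
  haveI : M.IsMaximal := hM.2.1
  haveI : Fact p.Prime := ⟨hM.1⟩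
  constructor
  · intro h
    obtain ⟨θ, hθ⟩ := Cfsg.Agent.Char.exists_constituent N χ
    obtain ⟨η, hη⟩ := Cfsg.Agent.Char.exists_constituent N ψ
    have hsing : Cfsg.blockOf M (θ : N → ℂ) = {θ} := by
      rw [Cfsg.Agent.Blocks.blockOf_eq_singleton_iff hM.2.2,
        ← Cfsg.Agent.Char.charDegree_eq_degree, Nat.factorization_eq_zero_of_not_dvd hN,
        Nat.factorization_eq_zero_of_not_dvd fun hd =>
          hN (hd.trans (Cfsg.Agent.Char.charDegree_dvd_card θ))]
    obtain ⟨g, hg⟩ := Cfsg.Agent.BlocksX.exists_conj_mem_of_congr N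
      (Cfsg.Agent.Blocks.isPBlock_blockOf θ) (Cfsg.Agent.Blocks.mem_blockOf_self (M := M) θ)
      (η := η) fun n => by
        have h' := h (n : G)
        rwa [Cfsg.Agent.BlocksX.centralChar_eq_of_constituent N χ θ hθ,
          Cfsg.Agent.BlocksX.centralChar_eq_of_constituent N ψ η hη] at h'
    rw [hsing, Set.mem_singleton_iff] at hg
    refine ⟨θ, hθ, ?_⟩
    rw [← hg, Cfsg.Agent.Char.conjChar_coe]
    exact fun h0 => hη ((Cfsg.Agent.Char.classInner_resFun_conjFun N
      (Cfsg.Agent.Blocks.irr_classFun ψ) η.1 g).symm.trans h0)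
  · rintro ⟨θ, hθ, hθ'⟩
    refine Cfsg.Agent.BlocksX.sameBlock_of_congr_index N hM.2.2 hidx fun n => ?_
    rw [Cfsg.Agent.BlocksX.centralChar_eq_of_constituent N χ θ hθ,
      Cfsg.Agent.BlocksX.centralChar_eq_of_constituent N ψ θ hθ', sub_self]
    exact Cfsg.Agent.Blocks.memLocalIdeal_zero

end Cfsg.Agent.S0954
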