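import Cfsg.Statements.S0957
import Cfsg.Agent.Lib.SmallSimple.Basic

set_option autoImplicit false
open Cfsg

namespace Cfsg.Agent.S0957

/-- Let P be a Sylow p-subgroup of the finite group G, let g, h ∈ G and let p ^ d be the order of a Sylow p-subgroup of the centralizer of g. Then the number of pairs (y, z) with y conjugate to g, z conjugate to h and z * y⁻¹ ∈ P is divisible by the order of P divided by p ^ d. -/
theorem result {G : Type*} [Group G] [Finite G] (p : ℕ) [Fact p.Prime] (P : Sylow p G) (g h : G) (S : Sylow p (Subgroup.centralizer ({g} : Set G))) : Nat.card P / Nat.card S ∣ Nat.card {yz : G × G // IsConj g yz.1 ∧ IsConj h yz.2 ∧ yz.2 * yz.1⁻¹ ∈ (P : Subgroup G)} := by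
  have hP : ∀ (x : (P : Subgroup G)) (yz : G × G),
      (IsConj g yz.1 ∧ IsConj h yz.2 ∧ yz.2 * yz.1⁻¹ ∈ (P : Subgroup G)) →
      (IsConj g ((x:G) * yz.1 * (x:G)⁻¹) ∧ IsConj h ((x:G) * yz.2 * (x:G)⁻¹) ∧
        ((x:G) * yz.2 * (x:G)⁻¹) * ((x:G) * yz.1 * (x:G)⁻¹)⁻¹ ∈ (P : Subgroup G)) := by
    rintro x yz ⟨h1, h2, h3⟩
    refine ⟨h1.trans (isConj_iff.mpr ⟨x, rfl⟩), h2.trans (isConj_iff.mpr ⟨x, rfl⟩), ?_⟩
    have := mul_mem (mul_mem x.2 h3) (inv_mem x.2)
    convert this using 1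
    group
  let act : MulAction (P : Subgroup G)
      {yz : G × G // IsConj g yz.1 ∧ IsConj h yz.2 ∧ yz.2 * yz.1⁻¹ ∈ (P : Subgroup G)} :=
    { smul := fun x w => ⟨((x:G) * w.1.1 * (x:G)⁻¹, (x:G) * w.1.2 * (x:G)⁻¹), hP x w.1 w.2⟩
      mul_smul := fun a b w => Subtype.ext (Prod.ext
        (by show (↑(a * b) : G) * w.1.1 * (↑(a * b) : G)⁻¹ = (a:G) * ((b:G) * w.1.1 * (b:G)⁻¹) * (a:G)⁻¹
            simp [mul_assoc])
        (by show (↑(a * b) : G) * w.1.2 * (↑(a * b) : G)⁻¹ = (a:G) * ((b:G) * w.1.2 * (b:G)⁻¹) * (a:G)⁻¹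
            simp [mul_assoc]))
      one_smul := fun w => Subtype.ext (by
        show (_, _) = (_ : G × G)
        simp) }
  have : Finite {yz : G × G // IsConj g yz.1 ∧ IsConj h yz.2 ∧ yz.2 * yz.1⁻¹ ∈ (P : Subgroup G)} :=
    inferInstance
  refine SmallSimple.dvd_card_of_dvd_card_orbit (G := (P : Subgroup G)) _ fun w => ?_
  obtain ⟨c, hc⟩ := isConj_iff.mp w.2.1
  set st := MulAction.stabilizer (P : Subgroup G) w
  set φ : st →* Subgroup.centralizer ({g} : Set G) :=
    (((MulAut.conj c⁻¹).toMonoidHom.comp (P : Subgroup G).subtype).comp st.subtype).codRestrict _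
      (by
        rintro ⟨x, hx⟩
        have hx' := congrArg (fun v => v.1.1) (MulAction.mem_stabilizer_iff.mp hx)
        change (x:G) * w.1.1 * (x:G)⁻¹ = w.1.1 at hx'
        rw [← hc] at hx'
        rw [Subgroup.mem_centralizer_singleton_iff]
        simp only [MonoidHom.comp_apply, MulEquiv.coe_toMonoidHom, MulAut.conj_apply, inv_inv,
          Subgroup.coe_subtype]
        calc c⁻¹ * (x:G) * c * g = c⁻¹ * ((x:G) * (c * g * c⁻¹) * (x:G)⁻¹) * (x:G) * c := by group
          _ = c⁻¹ * (c * g * c⁻¹) * (x:G) * c := by rw [hx']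
          _ = g * (c⁻¹ * (x:G) * c) := by group)
  have hφ : Function.Injective φ := by
    intro a b hab
    have := congrArg Subtype.val hab
    exact Subtype.ext (Subtype.ext ((MulAut.conj c⁻¹).injective this))
  have hst : IsPGroup p φ.range :=
    IsPGroup.of_surjective (P.isPGroup'.to_subgroup st) φ.rangeRestrict φ.rangeRestrict_surjective
  obtain ⟨S', hS'⟩ := hst.exists_le_sylow
  have hdvd : Nat.card st ∣ Nat.card S := by
    have h1 : Nat.card st = Nat.card φ.range := (Nat.card_congr (MonoidHom.ofInjective hφ).toEquiv)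
    rw [h1, Nat.card_congr (S.equiv S').toEquiv]
    exact Subgroup.card_dvd_of_le hS'
  have hSP : Nat.card S ∣ Nat.card P := by
    have hm : IsPGroup p ((S : Subgroup _).map (Subgroup.centralizer ({g} : Set G)).subtype) :=
      S.isPGroup'.map _
    obtain ⟨P', hP'⟩ := hm.exists_le_sylow
    rw [Nat.card_congr (P.equiv P').toEquiv]
    have := Subgroup.card_dvd_of_le hP'
    rwa [Subgroup.card_map_of_injective Subtype.val_injective] at this
  obtain ⟨k, hk⟩ := hdvd
  obtain ⟨m, hm⟩ := hSP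
  have horb := SmallSimple.card_orbit_mul_card_stabilizer (G := (P : Subgroup G)) w
  have hS : 0 < Nat.card S := Nat.card_pos
  rw [hm, Nat.mul_div_cancel_left _ hS]
  have hst0 : 0 < Nat.card st := Nat.card_pos
  refine ⟨k, ?_⟩
  apply Nat.eq_of_mul_eq_mul_right hst0
  rw [horb, hm, hk]
  ring

end Cfsg.Agent.S0957
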