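import Cfsg.Statements.S0972
import Cfsg.Agent.Lib.BlocksX.NormalDefect
import Cfsg.Agent.Lib.Char.Ito

set_option autoImplicit false
open Cfsg

namespace Cfsg.Agent.S0972

/-- Let B be a block of the finite group G (relative to a maximal ideal M of the algebraic integers containing the prime p) with a defect group P that is normal in G. Then P is commutative if and only if every member of B has height zero. -/
theorem result {G : Type*} [Group G] [Finite G] (p : ℕ) [Fact p.Prime] (M : Ideal Cfsg.AlgInt) (hM : Cfsg.IsPModular p M) (B : Set (Cfsg.IrrCharacter G)) (hB : Cfsg.IsPBlock M B) (P : Subgroup G) [P.Normal] (hP : Cfsg.IsDefectGroup p M B P) : (∀ a ∈ P, ∀ c ∈ P, a * c = c * a) ↔ ∀ χ ∈ B, Cfsg.blockHeight p B (χ : G → ℂ) = 0 := by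
  haveI : M.IsMaximal := hM.2.1
  refine ⟨fun hab χ hχ => ?_, fun hall a ha c hc =>
    Cfsg.Agent.BlocksX.comm_of_height_zero hM.2.2 hB hP hall ha hc⟩
  obtain ⟨h, hh, hhD⟩ := Cfsg.Agent.Blocks.isDefectGroup_iff.1 hP
  rw [Cfsg.Agent.Blocks.blockHeight_eq_zero_iff hM.2.2 hB hh hχ]
  haveI := Fintype.ofFinite G
  have h1 := Cfsg.Agent.Blocks.factorization_index_le_degree hM.2.2 χ (hh.2.2 χ hχ)
  have h2 := Cfsg.Agent.Blocks.factorization_index (p := p) (Subgroup.centralizer ({h} : Set G))
  have h3 := Cfsg.Agent.Blocks.factorization_index (p := p) P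
  rw [hhD.2, (Fact.out : p.Prime).factorization_pow, Finsupp.single_eq_same] at h3
  have h4 := (Nat.factorization_le_iff_dvd (Cfsg.Agent.Char.degree_pos χ).ne'
    Subgroup.index_ne_zero_of_finite).2
      (Cfsg.Agent.Char.degree_dvd_index_of_comm P hab χ) p
  omega

end Cfsg.Agent.S0972
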