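import Cfsg.Statements.S0986
import Cfsg.Agent.Lib.SmallSimple.Basic

set_option autoImplicit false
open Cfsg

namespace Cfsg.Agent.S0986

/-- Let P and Q be distinct Sylow p-subgroups of a finite group G chosen so that the order of P ∩ Q is as large as possible among intersections of two distinct Sylow p-subgroups, and let N be the normalizer of P ∩ Q. Then N has more than one Sylow p-subgroup, any two distinct Sylow p-subgroups of N intersect exactly in P ∩ Q, and each Sylow p-subgroup of N lies in exactly one Sylow p-subgroup of G. -/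
theorem result {G : Type*} [Group G] [Finite G] (p : ℕ) [Fact p.Prime] (P Q : Sylow p G) (hPQ : P ≠ Q) (hmax : ∀ P' Q' : Sylow p G, P' ≠ Q' → Nat.card ↥((P' : Subgroup G) ⊓ (Q' : Subgroup G)) ≤ Nat.card ↥((P : Subgroup G) ⊓ (Q : Subgroup G))) : 1 < Nat.card (Sylow p ↥(Subgroup.normalizer (((P : Subgroup G) ⊓ (Q : Subgroup G) : Subgroup G) : Set G))) ∧ (∀ S T : Sylow p ↥(Subgroup.normalizer (((P : Subgroup G) ⊓ (Q : Subgroup G) : Subgroup G) : Set G)), S ≠ T → (S : Subgroup _) ⊓ (T : Subgroup _) = ((P : Subgroup G) ⊓ (Q : Subgroup G)).subgroupOf (Subgroup.normalizer (((P : Subgroup G) ⊓ (Q : Subgroup G) : Subgroup G) : Set G))) ∧ ∀ S : Sylow p ↥(Subgroup.normalizer (((P : Subgroup G) ⊓ (Q : Subgroup G) : Subgroup G) : Set G)), ∃! T : Sylow p G, (S : Subgroup _).map (Subgroup.normalizer (((P : Subgroup G) ⊓ (Q : Subgroup G) : Subgroup G) : Set G)).subtype ≤ (T : Subgroup G) := by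
  classical
  set D := (P : Subgroup G) ⊓ (Q : Subgroup G) with hD
  set N := Subgroup.normalizer (D : Set G) with hN
  have hDN : D ≤ N := Subgroup.le_normalizer
  have hltP : D < (P : Subgroup G) := by
    refine lt_of_le_of_ne inf_le_left fun he => hPQ ?_
    apply Sylow.ext
    exact Subgroup.eq_of_le_of_card_ge (he ▸ inf_le_right) (Nat.card_congr (Q.equiv P).toEquiv).le
  have hltQ : D < (Q : Subgroup G) := by
    refine lt_of_le_of_ne inf_le_right fun he => hPQ ?_
    apply Sylow.ext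
    exact (Subgroup.eq_of_le_of_card_ge (he ▸ inf_le_left) (Nat.card_congr (P.equiv Q).toEquiv).le).symm
  -- two Sylow subgroups of G sharing a subgroup strictly above D are equal
  have key : ∀ T T' : Sylow p G, ∀ K : Subgroup G, D < K →
      K ≤ (T : Subgroup G) → K ≤ (T' : Subgroup G) → T = T' := by
    intro T T' K hK h1 h2
    by_contra hne
    have h3 := hmax T T' hne
    have h4 : Nat.card K ≤ Nat.card ↥((T : Subgroup G) ⊓ (T' : Subgroup G)) :=
      Nat.le_of_dvd Nat.card_pos (Subgroup.card_dvd_of_le (le_inf h1 h2))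
    exact absurd (Subgroup.eq_of_le_of_card_ge hK.le (h4.trans h3)) hK.ne
  have hP' := SmallSimple.lt_inf_normalizer P.isPGroup' hltP
  have hQ' := SmallSimple.lt_inf_normalizer Q.isPGroup' hltQ
  have pg : ∀ T : Sylow p G, IsPGroup p (((T : Subgroup G) ⊓ N).subgroupOf N) := fun T =>
    (T.isPGroup'.to_inf_left).comap_of_injective N.subtype Subtype.val_injective
  obtain ⟨S₁, hS₁⟩ := (pg P).exists_le_sylow
  obtain ⟨S₂, hS₂⟩ := (pg Q).exists_le_sylow
  have up : ∀ S : Sylow p N, ∃ T : Sylow p G, (S : Subgroup N).map N.subtype ≤ (T : Subgroup G) :=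
    fun S => (S.isPGroup'.map N.subtype).exists_le_sylow
  have hmapP : (P : Subgroup G) ⊓ N ≤ (S₁ : Subgroup N).map N.subtype := fun x hx =>
    ⟨⟨x, hx.2⟩, hS₁ hx, rfl⟩
  have hmapQ : (Q : Subgroup G) ⊓ N ≤ (S₂ : Subgroup N).map N.subtype := fun x hx =>
    ⟨⟨x, hx.2⟩, hS₂ hx, rfl⟩
  have h12 : S₁ ≠ S₂ := by
    rintro rfl
    obtain ⟨T, hT⟩ := up S₁
    have e1 := key T P _ hP' (hmapP.trans hT) inf_le_left
    have e2 := key T Q _ hQ' (hmapQ.trans hT) inf_le_left
    exact hPQ (e1.symm.trans e2)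
  have hDnorm : (D.subgroupOf N).Normal :=
    (Subgroup.normal_subgroupOf_iff_le_normalizer hDN).mpr le_rfl
  have hDp : IsPGroup p (D.subgroupOf N) :=
    (P.isPGroup'.to_inf_left).comap_of_injective N.subtype Subtype.val_injective
  have hDle : ∀ S : Sylow p N, D.subgroupOf N ≤ (S : Subgroup N) := fun S => hDp.le_sylow_of_normal S
  have hbig : ∀ S : Sylow p N, D < (S : Subgroup N).map N.subtype := by
    intro S
    refine lt_of_le_of_ne (fun x hx => ⟨⟨x, hDN hx⟩, hDle S hx, rfl⟩) fun he => ?_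
    have h1 : Nat.card D < Nat.card ↥((P : Subgroup G) ⊓ N) := by
      by_contra hge
      exact hP'.ne (Subgroup.eq_of_le_of_card_ge hP'.le (Nat.le_of_not_lt hge))
    have h2 := Subgroup.card_dvd_of_le hmapP
    rw [Subgroup.card_map_of_injective Subtype.val_injective] at h2
    have h3 : Nat.card D = Nat.card (S : Subgroup N) := by
      rw [he, Subgroup.card_map_of_injective Subtype.val_injective]
    rw [h3, Nat.card_congr (S.equiv S₁).toEquiv] at h1
    exact absurd (Nat.le_of_dvd Nat.card_pos h2) (not_le.mpr h1)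
  refine ⟨?_, ?_, ?_⟩
  · exact Finite.one_lt_card_iff_nontrivial.mpr ⟨⟨S₁, S₂, h12⟩⟩
  · intro S T hST
    obtain ⟨A, hA⟩ := up S
    obtain ⟨B, hB⟩ := up T
    have hAB : A ≠ B := by
      rintro rfl
      apply hST
      have hAN : IsPGroup p ((A : Subgroup G).subgroupOf N) :=
        A.isPGroup'.comap_of_injective N.subtype Subtype.val_injective
      have e1 := S.3 hAN (fun x hx => hA ⟨x, hx, rfl⟩)
      have e2 := T.3 hAN (fun x hx => hB ⟨x, hx, rfl⟩)
      exact Sylow.ext (e1.symm.trans e2)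
    refine le_antisymm ?_ (le_inf (hDle S) (hDle T))
    intro x hx
    rw [Subgroup.mem_subgroupOf]
    have hle : D ≤ (A : Subgroup G) ⊓ (B : Subgroup G) :=
      le_inf ((hbig S).le.trans hA) ((hbig T).le.trans hB)
    rw [Subgroup.eq_of_le_of_card_ge hle (hmax A B hAB)]
    exact ⟨hA ⟨x, hx.1, rfl⟩, hB ⟨x, hx.2, rfl⟩⟩
  · intro S
    obtain ⟨A, hA⟩ := up S
    exact ⟨A, hA, fun B hB => key B A _ (hbig S) hB hA⟩

end Cfsg.Agent.S0986
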