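import Cfsg.Statements.S0987
import Mathlib

set_option autoImplicit false
open Cfsg

namespace Cfsg.Agent.S0987

open Subgroup
open scoped Pointwise

/-- Sylow subgroups of prime order give pairwise disjoint sets of elements of that order. -/
theorem card_sylow_mul_le {G : Type*} [Group G] [Finite G] {r : ℕ} [Fact r.Prime]
    (h : ∀ P : Sylow r G, Nat.card (P : Subgroup G) = r) :
    Nat.card (Sylow r G) * (r - 1) ≤ Nat.card {x : G // orderOf x = r} := by
  classical
  have hr : r.Prime := Fact.out
  have hord : ∀ (P : Sylow r G) (x : (P : Subgroup G)), x ≠ 1 → orderOf (x : G) = r := fun P x hx => by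
    rw [Subgroup.orderOf_coe]
    rcases (Nat.dvd_prime hr).1 (h P ▸ orderOf_dvd_natCard x) with h1 | h1
    · exact absurd (orderOf_eq_one_iff.1 h1) hx
    · exact h1
  let f : (Σ P : Sylow r G, {x : (P : Subgroup G) // x ≠ 1}) → {x : G // orderOf x = r} :=
    fun y => ⟨y.2.1, hord y.1 y.2.1 y.2.2⟩
  have hinj : Function.Injective f := by
    rintro ⟨P, x, hx⟩ ⟨P', x', hx'⟩ he
    have h1 : (x : G) = x' := congrArg Subtype.val he
    have hz : ∀ (Q : Sylow r G) (y : (Q : Subgroup G)), y ≠ 1 → zpowers (y : G) = (Q : Subgroup G) := fun Q y hy =>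
      eq_of_le_of_card_ge (zpowers_le.2 y.2) (by rw [Nat.card_zpowers, hord Q y hy, h Q])
    obtain rfl : P = P' := Sylow.ext ((hz P x hx).symm.trans (h1 ▸ hz P' x' hx'))
    obtain rfl : x = x' := Subtype.ext h1
    rfl
  refine le_trans (le_of_eq ?_) (Nat.card_le_card_of_injective f hinj)
  let _ := Fintype.ofFinite (Sylow r G)
  have hc1 : ∀ P : Sylow r G, Nat.card {x : (P : Subgroup G) // x ≠ 1} = r - 1 := fun P => by
    let _ := Fintype.ofFinite (P : Subgroup G)
    classical
    rw [Nat.card_eq_fintype_card, Fintype.card_subtype_compl, Fintype.card_subtype_eq,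
      ← Nat.card_eq_fintype_card, h P]
  rw [Nat.card_sigma, Nat.card_eq_fintype_card, ← Finset.card_univ]
  exact (Finset.sum_const_nat (m := r - 1) fun P _ => hc1 P).symm

/-- If a finite group has order pqr for primes p < q < r, then its Sylow r-subgroups are normal. -/
theorem result {G : Type*} [Group G] [Finite G] (p q r : ℕ) (hp : p.Prime) (hq : q.Prime) [Fact r.Prime] (hpq : p < q) (hqr : q < r) (hG : Nat.card G = p * q * r) (R : Sylow r G) : (R : Subgroup G).Normal := by
  have hr : r.Prime := Fact.out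
  have := Fact.mk hp
  have := Fact.mk hq
  have hcp : ∀ {s t u : ℕ}, s.Prime → t.Prime → u.Prime → s ≠ t → s ≠ u → Nat.card G = s * (t * u) →
      ∀ P : Sylow s G, Nat.card (P : Subgroup G) = s ∧ (P : Subgroup G).index = t * u := by
    intro s t u hs ht hu hst hsu hc P
    have := Fact.mk hs
    have h1 : Nat.card (P : Subgroup G) = s := by
      rw [P.card_eq_multiplicity, hc, Nat.factorization_mul hs.ne_zero (Nat.mul_ne_zero ht.ne_zero hu.ne_zero),
        Nat.factorization_mul ht.ne_zero hu.ne_zero]
      simp [hs.factorization_self, ht.factorization, hu.factorization, Finsupp.single_apply, hst.symm, hsu.symm]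
    refine ⟨h1, ?_⟩
    have h2 := (P : Subgroup G).card_mul_index
    rw [h1, hc] at h2
    exact Nat.eq_of_mul_eq_mul_left hs.pos h2
  have hR := fun R : Sylow r G => hcp hr hp hq (by omega) (by omega) (by rw [hG]; ring) R
  have hQ := fun Q : Sylow q G => hcp hq hp hr (by omega) (by omega) (by rw [hG]; ring) Q
  by_contra hn
  have hnr : Nat.card (Sylow r G) = p * q := by
    have hd := R.card_dvd_index
    rw [(hR R).2] at hd
    obtain ⟨a, b, ha, hb, hab⟩ := exists_dvd_and_dvd_of_dvd_mul hd
    have hm := card_sylow_modEq_one r G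
    rcases (Nat.dvd_prime hp).1 ha with rfl | rfl <;> rcases (Nat.dvd_prime hq).1 hb with rfl | rfl
    · exfalso
      have : Subsingleton (Sylow r G) := (Nat.card_eq_one_iff_unique.1 hab).1
      exact hn (normalizer_eq_top_iff.1 (eq_top_iff.2 fun g _ =>
        Sylow.smul_eq_iff_mem_normalizer.1 (Subsingleton.elim _ _)))
    · exfalso
      rw [hab, one_mul, Nat.ModEq, Nat.mod_eq_of_lt hqr, Nat.mod_eq_of_lt hr.one_lt] at hm
      exact hq.ne_one hm
    · exfalso
      rw [hab, mul_one, Nat.ModEq, Nat.mod_eq_of_lt (hpq.trans hqr), Nat.mod_eq_of_lt hr.one_lt] at hm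
      exact hp.ne_one hm
    · exact hab
  obtain ⟨Q⟩ : Nonempty (Sylow q G) := Sylow.nonempty
  by_cases hQn : (Q : Subgroup G).Normal
  · set K := (Q : Subgroup G) ⊔ (R : Subgroup G) with hK
    have h1 : q ∣ Nat.card K := (hQ Q).1 ▸ card_dvd_of_le le_sup_left
    have h2 : r ∣ Nat.card K := (hR R).1 ▸ card_dvd_of_le le_sup_right
    have hqr' : q * r ∣ Nat.card K := ((Nat.coprime_primes hq hr).2 hqr.ne).mul_dvd_of_dvd_of_dvd h1 h2
    have hle : Nat.card K ∣ q * r := by
      have h3 : Nat.card K ≤ q * r := by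
        calc Nat.card K = Nat.card (((Q : Subgroup G) : Set G) * ((R : Subgroup G) : Set G) : Set G) := by
              rw [← Subgroup.normal_mul (Q : Subgroup G) (R : Subgroup G)]; rfl
          _ ≤ _ := by
              refine Set.natCard_mul_le.trans (le_of_eq ?_)
              exact congrArg₂ (· * ·) (hQ Q).1 (hR R).1
      rw [le_antisymm h3 (Nat.le_of_dvd Nat.card_pos hqr')]
    have hKc : Nat.card K = q * r := Nat.dvd_antisymm hle hqr'
    have hKi : K.index = p := by
      have h4 := K.card_mul_index
      rw [hKc, hG, show p * q * r = q * r * p by ring] at h4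
      exact Nat.eq_of_mul_eq_mul_left (Nat.mul_pos hq.pos hr.pos) h4
    have hKn : K.Normal := normal_of_index_eq_minFac_card (by
      rw [hKi]
      have hd : p ∣ Nat.card G := by rw [hG, mul_assoc]; exact dvd_mul_right _ _
      refine le_antisymm ?_ (Nat.minFac_le_of_dvd hp.two_le hd)
      set m := (Nat.card G).minFac with hm
      have hmp : m.Prime := Nat.minFac_prime (fun h => hp.ne_one (Nat.dvd_one.1 (h ▸ hd)))
      have hmd : m ∣ p * q * r := hG ▸ Nat.minFac_dvd _
      rcases hmp.dvd_mul.1 hmd with h5 | h5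
      · rcases hmp.dvd_mul.1 h5 with h6 | h6
        · exact ((Nat.prime_dvd_prime_iff_eq hmp hp).1 h6).ge
        · rw [(Nat.prime_dvd_prime_iff_eq hmp hq).1 h6]; exact hpq.le
      · rw [(Nat.prime_dvd_prime_iff_eq hmp hr).1 h5]; exact (hpq.trans hqr).le)
    have hRK : ∀ g : G, ((g • R : Sylow r G) : Subgroup G) ≤ K := by
      intro g x hx
      obtain ⟨y, hy, rfl⟩ := hx
      exact hKn.conj_mem y (le_sup_right (a := (Q : Subgroup G)) hy) g
    have hle' : ∀ P : Sylow r G, (P : Subgroup G) ≤ K := fun P => by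
      obtain ⟨g, rfl⟩ := MulAction.exists_smul_eq G R P
      exact hRK g
    let S : Sylow r G → Sylow r K := fun P => P.subtype (hle' P)
    have hinj : Function.Injective S := fun P P' h => Sylow.subtype_injective h
    have h6 := Nat.card_le_card_of_injective S hinj
    obtain ⟨T⟩ : Nonempty (Sylow r K) := Sylow.nonempty
    have hTd := T.card_dvd_index
    have hTi : (T : Subgroup K).index = q := by
      have h7 := (T : Subgroup K).card_mul_index
      rw [T.card_eq_multiplicity, hKc, Nat.factorization_mul hq.ne_zero hr.ne_zero] at h7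
      simp [hq.factorization, hr.factorization_self, Finsupp.single_apply, hqr.ne] at h7
      rw [mul_comm q r] at h7
      first | exact h7 | exact Nat.eq_of_mul_eq_mul_left hr.pos h7
    rw [hTi] at hTd
    have := Nat.le_of_dvd hq.pos hTd
    rw [hnr] at h6
    nlinarith [hp.two_le, hq.two_le]
  · have hq1 : Nat.card (Sylow q G) ≠ 1 := fun h => by
      have : Subsingleton (Sylow q G) := (Nat.card_eq_one_iff_unique.1 h).1
      exact hQn (normalizer_eq_top_iff.1 (eq_top_iff.2 fun g _ =>
        Sylow.smul_eq_iff_mem_normalizer.1 (Subsingleton.elim _ _)))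
    have hnq : q + 1 ≤ Nat.card (Sylow q G) := by
      have hm := card_sylow_modEq_one q G
      by_contra hlt
      push Not at hlt
      have hpos : 0 < Nat.card (Sylow q G) := Nat.card_pos
      rcases (by omega : Nat.card (Sylow q G) = q ∨ Nat.card (Sylow q G) < q) with h8 | h8
      · rw [h8, Nat.ModEq, Nat.mod_self, Nat.mod_eq_of_lt hq.one_lt] at hm
        omega
      · rw [Nat.ModEq, Nat.mod_eq_of_lt h8, Nat.mod_eq_of_lt hq.one_lt] at hm
        exact hq1 hm
    have hcq := card_sylow_mul_le (r := q) fun P => (hQ P).1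
    have hcr := card_sylow_mul_le (r := r) fun P => (hR P).1
    rw [hnr] at hcr
    have hsum : Nat.card {x : G // orderOf x = q} + Nat.card {x : G // orderOf x = r} + 1 ≤ Nat.card G := by
      let f : ({x : G // orderOf x = q} ⊕ {x : G // orderOf x = r}) ⊕ PUnit.{1} → G :=
        Sum.elim (Sum.elim Subtype.val Subtype.val) (fun _ => 1)
      have hf : Function.Injective f := by
        rintro ((⟨a, ha⟩ | ⟨a, ha⟩) | ⟨⟩) ((⟨b, hb⟩ | ⟨b, hb⟩) | ⟨⟩) h <;>
          simp only [f, Sum.elim_inl, Sum.elim_inr] at h <;> first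
          | (subst h; rfl)
          | rfl
          | (exfalso; subst h; first | omega | (rw [orderOf_one] at *; have := hq.one_lt; omega))
          | (exfalso; subst h; rw [orderOf_one] at *; have := hr.one_lt; omega)
      have := Nat.card_le_card_of_injective f hf
      simpa [Nat.card_sum] using this
    have h1 : (q + 1) * (q - 1) ≤ Nat.card (Sylow q G) * (q - 1) := Nat.mul_le_mul_right _ hnq
    rw [hG] at hsum
    obtain ⟨q', rfl⟩ : ∃ q', q = q' + 1 := ⟨q - 1, by have := hq.pos; omega⟩
    obtain ⟨r', rfl⟩ : ∃ r', r = r' + 1 := ⟨r - 1, by have := hr.pos; omega⟩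
    simp only [Nat.add_sub_cancel] at h1 hcq hcr
    nlinarith

end Cfsg.Agent.S0987
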