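import Cfsg.Statements.S0988
import Cfsg.Agent.Lib.SmallSimple.Criteria

set_option autoImplicit false
open Cfsg

namespace Cfsg.Agent.S0988

/-- If a finite simple group has order p^2 * q * r with p, q and r prime, then its order is 60. -/
theorem result {G : Type*} [Group G] [Finite G] [IsSimpleGroup G] (p q r : ℕ) (hp : p.Prime) (hq : q.Prime) (hr : r.Prime) (hG : Nat.card G = p ^ 2 * q * r) : Nat.card G = 60 := by
  have hnp : ¬ (Nat.card G).Prime := fun h => by
    have hd : p ∣ Nat.card G := ⟨p * q * r, by rw [hG]; ring⟩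
    have he := (Nat.prime_dvd_prime_iff_eq hp h).mp hd
    have h2 : p * (p * q * r) = p * 1 := by
      rw [mul_one, show p * (p * q * r) = p ^ 2 * q * r by ring, ← hG, ← he]
    have h3 := Nat.eq_of_mul_eq_mul_left hp.pos h2
    exact hr.one_lt.ne' (Nat.eq_one_of_mul_eq_one_left h3)
  by_cases hqr : q = r
  · exact (SmallSimple.false_of_two_primes (a := 2) (b := 2) hp hq (by rw [hG, ← hqr]; ring) hnp).elim
  by_cases hpq : p = q
  · exact (SmallSimple.false_of_two_primes (a := 3) (b := 1) hp hr (by rw [hG, ← hpq]; ring) hnp).elim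
  by_cases hpr : p = r
  · exact (SmallSimple.false_of_two_primes (a := 3) (b := 1) hp hq (by rw [hG, ← hpr]; ring) hnp).elim
  have hdiv : ∀ {s a b : ℕ}, s.Prime → a.Prime → b.Prime → s ∣ p ^ 2 * a * b → s = p ∨ s = a ∨ s = b :=
    fun hs ha hb h => by
      rcases hs.dvd_mul.mp h with h | h
      · rcases hs.dvd_mul.mp h with h | h
        · exact Or.inl ((Nat.prime_dvd_prime_iff_eq hs hp).mp (hs.dvd_of_dvd_pow h))
        · exact Or.inr (Or.inl ((Nat.prime_dvd_prime_iff_eq hs ha).mp h))
      · exact Or.inr (Or.inr ((Nat.prime_dvd_prime_iff_eq hs hb).mp h))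
  rcases Nat.lt_or_ge p q with hpq' | hpq'
  · rcases Nat.lt_or_ge p r with hpr' | hpr'
    · rcases Nat.lt_or_ge q r with hqr' | hqr'
      · exact SmallSimple.p_sq_q_r_aux hp hq hr hpq' hqr' hG
      · exact SmallSimple.p_sq_q_r_aux hp hr hq hpr' (by omega) (by rw [hG]; ring)
    · -- r is the smallest
      refine (SmallSimple.false_of_min_exponent_one (m := p ^ 2 * q) hr (by rw [hG]; ring) ?_ ?_).elim
      · exact Nat.one_lt_mul_iff.mpr ⟨pow_pos hp.pos 2, hq.pos, Or.inr hq.one_lt⟩
      · intro s hs hd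
        rcases hs.dvd_mul.mp hd with h | h
        · have := (Nat.prime_dvd_prime_iff_eq hs hp).mp (hs.dvd_of_dvd_pow h); omega
        · have := (Nat.prime_dvd_prime_iff_eq hs hq).mp h; omega
  · rcases Nat.lt_or_ge q r with hqr' | hqr'
    · refine (SmallSimple.false_of_min_exponent_one (m := p ^ 2 * r) hq (by rw [hG]; ring) ?_ ?_).elim
      · exact Nat.one_lt_mul_iff.mpr ⟨pow_pos hp.pos 2, hr.pos, Or.inr hr.one_lt⟩
      · intro s hs hd
        rcases hs.dvd_mul.mp hd with h | h
        · have := (Nat.prime_dvd_prime_iff_eq hs hp).mp (hs.dvd_of_dvd_pow h); omega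
        · have := (Nat.prime_dvd_prime_iff_eq hs hr).mp h; omega
    · refine (SmallSimple.false_of_min_exponent_one (m := p ^ 2 * q) hr (by rw [hG]; ring) ?_ ?_).elim
      · exact Nat.one_lt_mul_iff.mpr ⟨pow_pos hp.pos 2, hq.pos, Or.inr hq.one_lt⟩
      · intro s hs hd
        rcases hs.dvd_mul.mp hd with h | h
        · have := (Nat.prime_dvd_prime_iff_eq hs hp).mp (hs.dvd_of_dvd_pow h); omega
        · have := (Nat.prime_dvd_prime_iff_eq hs hq).mp h; omega

end Cfsg.Agent.S0988
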