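import Cfsg.Statements.S0990
import Mathlib

set_option autoImplicit false
open Cfsg

namespace Cfsg.Agent.S0990

/-- Let p be an odd prime and P a Sylow p-subgroup of the symmetric group on a finite set with at least two elements. Then P is contained in the alternating group, and twice the order of the normalizer of P inside the alternating group equals the order of the normalizer of P in the symmetric group. -/
theorem result {α : Type*} [Fintype α] [DecidableEq α] (hα : 2 ≤ Fintype.card α) (p : ℕ) [Fact p.Prime] (hp : p ≠ 2) (P : Sylow p (Equiv.Perm α)) : (P : Subgroup (Equiv.Perm α)) ≤ alternatingGroup α ∧ 2 * Nat.card ↥(Subgroup.normalizer ((((P : Subgroup (Equiv.Perm α)).subgroupOf (alternatingGroup α) : Subgroup ↥(alternatingGroup α)) : Set ↥(alternatingGroup α)))) = Nat.card ↥(Subgroup.normalizer ((P : Subgroup (Equiv.Perm α)) : Set (Equiv.Perm α))) := by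
  classical
  set A := alternatingGroup α
  have hPA : (P : Subgroup (Equiv.Perm α)) ≤ A := by
    intro g hg
    rw [Equiv.Perm.mem_alternatingGroup]
    obtain ⟨j, hj⟩ := IsPGroup.iff_orderOf.1 P.2 ⟨g, hg⟩
    rw [Subgroup.orderOf_mk] at hj
    have h1 : orderOf (Equiv.Perm.sign g) ∣ p ^ j := hj ▸ orderOf_map_dvd _ g
    have h2 : orderOf (Equiv.Perm.sign g) ∣ 2 :=
      orderOf_dvd_of_pow_eq_one (by rcases Int.units_eq_one_or (Equiv.Perm.sign g) with h | h <;> rw [h] <;> rfl)
    have h3 := Nat.dvd_gcd h1 h2
    rw [(Nat.Coprime.pow_left j ((Nat.coprime_primes Fact.out Nat.prime_two).2 hp))] at h3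
    exact orderOf_eq_one_iff.1 (Nat.dvd_one.1 h3)
  refine ⟨hPA, ?_⟩
  rw [← Subgroup.subgroupOf_normalizer_eq hPA]
  set N := Subgroup.normalizer ((P : Subgroup (Equiv.Perm α)) : Set (Equiv.Perm α))
  let f : N →* ℤˣ := Equiv.Perm.sign.comp N.subtype
  have hfs : Function.Surjective f := by
    intro u
    rcases Int.units_eq_one_or u with rfl | rfl
    · exact ⟨1, map_one f⟩
    by_contra h
    simp only [not_exists] at h
    have hNA : N ≤ A := fun g hg => Equiv.Perm.mem_alternatingGroup.2
      ((Int.units_eq_one_or _).resolve_right (h ⟨g, hg⟩))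
    have htop := Sylow.normalizer_sup_eq_top' (N := A) P hPA
    change N ⊔ A = ⊤ at htop
    rw [sup_eq_right.2 hNA] at htop
    haveI : Nontrivial α := Fintype.one_lt_card_iff_nontrivial.1 (by omega)
    have := congrArg Subgroup.index htop
    rw [alternatingGroup.index_eq_two, Subgroup.index_top] at this
    omega
  have h := f.ker.index_mul_card
  rw [Subgroup.index_ker, MonoidHom.range_eq_top.2 hfs, Subgroup.card_top] at h
  have e : Nat.card f.ker = Nat.card (N.subgroupOf A) := Nat.card_congr
    { toFun := fun x => ⟨⟨x.1.1, x.2⟩, x.1.2⟩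
      invFun := fun x => ⟨⟨x.1.1, x.2⟩, x.1.2⟩
      left_inv := fun _ => rfl
      right_inv := fun _ => rfl }
  rw [← e, ← h]
  congr 1
  simp

end Cfsg.Agent.S0990
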