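import Cfsg.Statements.S0991
import Cfsg.Agent.Lib.SmallSimple.Basic

set_option autoImplicit false
open Cfsg

namespace Cfsg.Agent.S0991

/-- Embedding Theorem: if a non-abelian finite simple group has a proper subgroup of index n, then it is isomorphic to a subgroup of the alternating group of degree n. -/
theorem result {G : Type*} [Group G] [Finite G] [IsSimpleGroup G] (hG : ¬ IsMulCommutative G) (H : Subgroup G) (hH : H ≠ ⊤) : ∃ f : G →* ↥(alternatingGroup (Fin H.index)), Function.Injective f := by
  classical
  have : Fintype (G ⧸ H) := Fintype.ofFinite _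
  have e : G ⧸ H ≃ Fin H.index := (Finite.equivFinOfCardEq rfl)
  set f : G →* Equiv.Perm (Fin H.index) :=
    e.permCongrHom.toMonoidHom.comp (MulAction.toPermHom G (G ⧸ H)) with hf
  have hinj : Function.Injective f :=
    e.permCongrHom.injective.comp
      (SmallSimple.injective_of_simple _ (SmallSimple.toPermHom_ne_one_of_index H hH))
  refine ⟨f.codRestrict _ (fun g => SmallSimple.mem_alternating_of_simple hG f g), ?_⟩
  intro a b hab
  exact hinj (congrArg Subtype.val hab)

end Cfsg.Agent.S0991
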