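import Cfsg.Statements.S0992
import Cfsg.Agent.Lib.SmallSimple.ThreeInvolutions

set_option autoImplicit false
open Cfsg

namespace Cfsg.Agent.S0992

/-- Let G be a non-abelian finite simple group of even order not divisible by 8, and T a Sylow 2-subgroup. Then T is a Klein four-group and the centralizer of T has index 3 in the normalizer of T. -/
theorem result {G : Type*} [Group G] [Finite G] [IsSimpleGroup G] (hG : ¬ IsMulCommutative G) (h2 : Even (Nat.card G)) (h8 : ¬ 8 ∣ Nat.card G) (T : Sylow 2 G) : IsKleinFour ↥(T : Subgroup G) ∧ (Subgroup.centralizer ((T : Subgroup G) : Set G)).relIndex (Subgroup.normalizer ((T : Subgroup G) : Set G)) = 3 := by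
  classical
  have h4 : Nat.card T = 2 ∨ Nat.card T = 4 := by
    obtain ⟨k, hk⟩ := T.isPGroup'.exists_card_eq
    have hd : 2 ∣ Nat.card T := by
      have h := T.dvd_card_of_dvd_card (even_iff_two_dvd.mp h2)
      exact h
    have hk3 : k ≤ 2 := by
      by_contra hc
      apply h8
      have := (pow_dvd_pow 2 (show 3 ≤ k by omega)).trans (hk ▸ Subgroup.card_subgroup_dvd_card (T : Subgroup G))
      simpa using this
    interval_cases k <;> simp_all
  have nocompl : ∀ N : Subgroup G, N.Normal → ¬ Subgroup.IsComplement' N (T : Subgroup G) := by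
    intro N hN hc
    rcases hN.eq_bot_or_eq_top with rfl | rfl
    · rw [Subgroup.isComplement'_bot_left] at hc
      apply hG
      rcases h4 with h | h
      · have : IsCyclic G := isCyclic_of_prime_card (p := 2) (by rw [← h, hc, Subgroup.card_top])
        exact ⟨⟨fun a b => IsCyclic.commGroup.mul_comm a b⟩⟩
      · have hc4 : Nat.card G = 2 ^ 2 := by rw [← Subgroup.card_top, ← hc, h]; norm_num
        exact IsPGroup.isMulCommutative_of_card_eq_prime_sq (p := 2) hc4
    · rw [Subgroup.isComplement'_top_left] at hc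
      rw [hc, Subgroup.card_bot] at h4
      omega
  have hncyc : ¬ IsCyclic (T : Subgroup G) := by
    intro hcyc
    have hmin : (Nat.card G).minFac = 2 := (Nat.minFac_eq_two_iff _).mpr (even_iff_two_dvd.mp h2)
    exact nocompl _ (MonoidHom.normal_ker _) (hcyc.isComplement' hmin)
  have hcard : Nat.card T = 4 := h4.resolve_left fun h => hncyc (isCyclic_of_prime_card h)
  have hexp : ∀ x : (T : Subgroup G), x ^ 2 = 1 := by
    intro x
    have hd : orderOf x ∣ 2 ^ 2 := (orderOf_dvd_natCard x).trans (by rw [hcard]; norm_num)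
    obtain ⟨i, hi, hx⟩ := (Nat.dvd_prime_pow Nat.prime_two).mp hd
    have : i ≠ 2 := fun h => hncyc (isCyclic_of_orderOf_eq_card x (by rw [hx, h, hcard]; norm_num))
    apply orderOf_dvd_iff_pow_eq_one.mp
    rw [hx]
    exact (pow_dvd_pow 2 (show i ≤ 1 by omega)).trans (by norm_num)
  have hk : IsKleinFour (T : Subgroup G) := by
    refine ⟨hcard, Nat.dvd_antisymm (Monoid.exponent_dvd_of_forall_pow_eq_one hexp) ?_⟩
    rcases Nat.dvd_prime Nat.prime_two |>.mp (Monoid.exponent_dvd_of_forall_pow_eq_one hexp) with h | h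
    · rw [Monoid.exp_eq_one_iff] at h
      rw [Nat.card_of_subsingleton (1 : (T : Subgroup G))] at hcard
      omega
    · rw [h]
  have hab : ∀ x ∈ (T : Subgroup G), ∀ y ∈ (T : Subgroup G), x * y = y * x := fun x hx y hy =>
    congrArg Subtype.val ((IsKleinFour.isMulCommutative (G := (T : Subgroup G))).is_comm.comm ⟨x, hx⟩ ⟨y, hy⟩)
  have h3 : Nat.card {x : G // x ∈ (T : Subgroup G) ∧ orderOf x = 2} = 3 := by
    have e : {x : G // x ∈ (T : Subgroup G) ∧ orderOf x = 2} ≃ {x : (T : Subgroup G) // x ≠ 1} :=
      { toFun := fun x => ⟨⟨x.1, x.2.1⟩, fun hc => by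
          have : x.1 = 1 := congrArg Subtype.val hc
          simpa [this] using x.2.2⟩
        invFun := fun x => ⟨x.1.1, x.1.2, by
          rw [Subgroup.orderOf_coe]; exact orderOf_eq_prime (hexp x.1) x.2⟩
        left_inv := fun x => rfl
        right_inv := fun x => rfl }
    have := Fintype.ofFinite (T : Subgroup G)
    rw [Nat.card_congr e, Nat.card_eq_fintype_card, Fintype.card_subtype_compl,
      Fintype.card_subtype_eq, ← Nat.card_eq_fintype_card, hcard]
  refine ⟨hk, (SmallSimple.automizer_three T hab h3).1.resolve_left fun h => ?_⟩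
  exact nocompl _ (MonoidHom.normal_ker _)
    (MonoidHom.ker_transferSylow_isComplement' T (Subgroup.relIndex_eq_one.mp h))

end Cfsg.Agent.S0992
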