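import Cfsg.Statements.S0994
import Cfsg.Agent.Lib.SmallSimple.Criteria

set_option autoImplicit false
open Cfsg

namespace Cfsg.Agent.S0994

/-- No finite simple group has order 1188 = 2^2 * 3^3 * 11. -/
theorem result {G : Type*} [Group G] [Finite G] [IsSimpleGroup G] : Nat.card G ≠ 1188 := by
  intro h
  have : Fact (Nat.Prime 11) := ⟨by norm_num⟩
  obtain ⟨P⟩ : Nonempty (Sylow 11 G) := inferInstance
  have hP : Nat.card (P : Subgroup G) = 11 :=
    (SmallSimple.card_sylow_eq_pow P 1 108 (by rw [h]; norm_num) (by norm_num)).trans (pow_one 11)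
  have hmul := SmallSimple.card_sylow_mul_card_normalizer P
  rw [h] at hmul
  have hcyc : IsCyclic (P : Subgroup G) := isCyclic_of_prime_card hP
  have hd : Nat.card (Sylow 11 G) ∣ 108 := by
    have h1 := P.card_dvd_index
    have h2 := Subgroup.card_mul_index (P : Subgroup G)
    rw [hP, h] at h2
    rwa [show (P : Subgroup G).index = 108 by omega] at h1
  have hmod := card_sylow_modEq_one 11 G
  have hle := Nat.le_of_dvd (by norm_num) hd
  unfold Nat.ModEq at hmod
  have hn : Nat.card (Sylow 11 G) = 1 ∨ Nat.card (Sylow 11 G) = 12 := by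
    obtain ⟨c, hc⟩ := hd
    have hc0 : 0 < c := Nat.pos_of_ne_zero (by rintro rfl; simp at hc)
    interval_cases Nat.card (Sylow 11 G) <;> omega
  rcases hn with hn | hn
  · have : Subsingleton (Sylow 11 G) := (Nat.card_eq_one_iff_unique.mp hn).1
    rcases P.normal_of_subsingleton.eq_bot_or_eq_top with hb | hb
    · rw [hb, Subgroup.card_bot] at hP; omega
    · rw [hb, Subgroup.card_top, h] at hP; omega
  · rw [hn] at hmul
    -- N/C embeds in a group of order 10 and has order dividing 99
    refine SmallSimple.no_complement_of_lt P (by rw [hP]; norm_num) (by rw [hP, h]; norm_num) _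
      (MonoidHom.normal_ker _) (MonoidHom.ker_transferSylow_isComplement' P ?_)
    rw [← Subgroup.relIndex_eq_one]
    refine Nat.eq_one_of_dvd_coprimes (show Nat.Coprime 99 10 by norm_num) ?_ ?_
    · have h1 : (Subgroup.centralizer ((P : Subgroup G) : Set G)).relIndex
          (Subgroup.normalizer ((P : Subgroup G) : Set G)) ∣
          Nat.card (Subgroup.normalizer ((P : Subgroup G) : Set G)) := Subgroup.relIndex_dvd_card _ _
      rwa [show Nat.card (Subgroup.normalizer ((P : Subgroup G) : Set G)) = 99 by omega] at h1
    · have h1 := Subgroup.card_subgroup_dvd_card (P : Subgroup G).normalizerMonoidHom.range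
      rwa [← Subgroup.index_ker, Subgroup.normalizerMonoidHom_ker, hcyc.card_mulAut, hP,
        Nat.totient_prime (by norm_num : Nat.Prime 11)] at h1

end Cfsg.Agent.S0994
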