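import Cfsg.Statements.S0995
import Cfsg.Agent.Lib.SmallSimple.Basic

set_option autoImplicit false
open Cfsg

namespace Cfsg.Agent.S0995

/-- Let G be a finite perfect group containing an element z of prime order p whose centralizer is the cyclic group it generates. Let t be the number of conjugacy classes of elements of order p. Then t divides p - 1, the number of Sylow p-subgroups has the form 1 + n * p, and |G| * t = (p - 1) * p * (1 + n * p). -/
theorem result {G : Type*} [Group G] [Finite G] (hperf : commutator G = ⊤) (p : ℕ) [Fact p.Prime] (z : G) (hz : orderOf z = p) (hC : Subgroup.centralizer ({z} : Set G) = Subgroup.zpowers z) : ∃ n t : ℕ, t = Nat.card {c : ConjClasses G // ∃ g : G, ConjClasses.mk g = c ∧ orderOf g = p} ∧ t ∣ p - 1 ∧ Nat.card (Sylow p G) = 1 + n * p ∧ Nat.card G * t = (p - 1) * p * (1 + n * p) := by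
  classical
  have := Fintype.ofFinite G
  have := Fintype.ofFinite (Sylow p G)
  have := Fintype.ofFinite (ConjClasses G)
  have hp : p.Prime := Fact.out
  obtain ⟨P, hP⟩ := (IsPGroup.of_card (n := 1) (G := Subgroup.zpowers z)
    (by rw [Nat.card_zpowers, hz, pow_one])).exists_le_sylow
  have hzP : Subgroup.zpowers z = (P : Subgroup G) := by
    have : Nontrivial (P : Subgroup G) := by
      refine ⟨⟨⟨z, hP (Subgroup.mem_zpowers z)⟩, 1, fun hc => ?_⟩⟩
      have : z = 1 := congrArg Subtype.val hc
      rw [this, orderOf_one] at hz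
      exact hp.one_lt.ne hz
    have := P.isPGroup'.center_nontrivial
    obtain ⟨⟨c, hc⟩, hc1⟩ := exists_ne (1 : Subgroup.center (P : Subgroup G))
    have hcz : (c : G) ∈ Subgroup.zpowers z := by
      rw [← hC, Subgroup.mem_centralizer_singleton_iff]
      exact congrArg Subtype.val (Subgroup.mem_center_iff.mp hc ⟨z, hP (Subgroup.mem_zpowers z)⟩).symm
    have hgen : Subgroup.zpowers (c : G) = Subgroup.zpowers z := by
      refine Subgroup.eq_of_le_of_card_ge (Subgroup.zpowers_le.mpr hcz) ?_
      have hd : Nat.card (Subgroup.zpowers (c : G)) ∣ p :=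
        (Subgroup.card_dvd_of_le (Subgroup.zpowers_le.mpr hcz)).trans
          (by rw [Nat.card_zpowers, hz])
      rcases (Nat.dvd_prime hp).mp hd with h1 | h1
      · exfalso
        rw [Nat.card_zpowers, orderOf_eq_one_iff] at h1
        exact hc1 (Subtype.ext (Subtype.ext h1))
      · rw [h1, Nat.card_zpowers, hz]
    refine le_antisymm hP fun x hx => ?_
    rw [← hC, Subgroup.mem_centralizer_singleton_iff]
    have hzc : z ∈ Subgroup.zpowers (c : G) := hgen ▸ Subgroup.mem_zpowers z
    obtain ⟨i, hi⟩ := Subgroup.mem_zpowers_iff.mp hzc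
    have hcomm : Commute x (c : G) :=
      congrArg Subtype.val (Subgroup.mem_center_iff.mp hc ⟨x, hx⟩)
    rw [← hi]
    exact (hcomm.zpow_right i)
  have hcardP : Nat.card P = p := by rw [← hzP, Nat.card_zpowers, hz]
  set t := Nat.card {c : ConjClasses G // ∃ g : G, ConjClasses.mk g = c ∧ orderOf g = p} with ht
  -- every element of order p is conjugate to a power of z, so has a centralizer of order p
  have hcent : ∀ g : G, orderOf g = p → Nat.card (Subgroup.centralizer ({g} : Set G)) = p := by
    intro g hg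
    obtain ⟨Q, hQ⟩ := (IsPGroup.of_card (n := 1) (G := Subgroup.zpowers g)
      (by rw [Nat.card_zpowers, hg, pow_one])).exists_le_sylow
    have hgQ : Subgroup.zpowers g = (Q : Subgroup G) := by
      refine Subgroup.eq_of_le_of_card_ge hQ ?_
      rw [Nat.card_congr (Q.equiv P).toEquiv, hcardP, Nat.card_zpowers, hg]
    obtain ⟨a, ha⟩ := MulAction.exists_smul_eq G P Q
    have hza : a * z * a⁻¹ ∈ Subgroup.zpowers g := by
      rw [hgQ, ← ha, Sylow.coe_subgroup_smul, Subgroup.mem_pointwise_smul_iff_inv_smul_mem]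
      have : (MulAut.conj a)⁻¹ • (a * z * a⁻¹) = z := by simp [MulAut.smul_def, mul_assoc]
      rw [this, ← hzP]
      exact Subgroup.mem_zpowers z
    have hgz : g ∈ Subgroup.zpowers (a * z * a⁻¹) := by
      have : Subgroup.zpowers (a * z * a⁻¹) = Subgroup.zpowers g := by
        refine Subgroup.eq_of_le_of_card_ge (Subgroup.zpowers_le.mpr hza) ?_
        rw [Nat.card_zpowers, Nat.card_zpowers, hg, ← MulAut.conj_apply, MulEquiv.orderOf_eq, hz]
      exact this ▸ Subgroup.mem_zpowers g
    have hC' : Subgroup.centralizer ({g} : Set G) = Subgroup.zpowers g := by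
      refine le_antisymm (fun x hx => ?_) (Subgroup.zpowers_le.mpr
        (Subgroup.mem_centralizer_singleton_iff.mpr rfl))
      rw [Subgroup.mem_centralizer_singleton_iff] at hx
      have hxc : Commute x (a * z * a⁻¹) := by
        obtain ⟨i, hi⟩ := Subgroup.mem_zpowers_iff.mp hza
        rw [← hi]
        exact (show Commute x g from hx).zpow_right i
      have hxz : a⁻¹ * x * a ∈ Subgroup.zpowers z := by
        rw [← hC, Subgroup.mem_centralizer_singleton_iff]
        calc a⁻¹ * x * a * z = a⁻¹ * (x * (a * z * a⁻¹)) * a := by group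
          _ = a⁻¹ * ((a * z * a⁻¹) * x) * a := by rw [hxc.eq]
          _ = z * (a⁻¹ * x * a) := by group
      obtain ⟨i, hi⟩ := Subgroup.mem_zpowers_iff.mp hxz
      have hxi : x = (a * z * a⁻¹) ^ i := by
        rw [conj_zpow, hi]; group
      rw [hxi]
      exact zpow_mem hza i
    rw [hC', Nat.card_zpowers, hg]
  have : Finite (ConjAct G) := inferInstanceAs (Finite G)
  have hclass : ∀ g : G, orderOf g = p → Nat.card {x : G // IsConj g x} * p = Nat.card G := by
    intro g hg
    have h2 : Nat.card {x : G // IsConj g x} = Nat.card (MulAction.orbit (ConjAct G) g) := by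
      refine Nat.card_congr (Equiv.subtypeEquivRight fun x => ?_)
      rw [ConjAct.mem_orbit_conjAct]
      exact isConj_comm
    have h3 := SmallSimple.card_orbit_mul_card_stabilizer (G := ConjAct G) (X := G) g
    rw [h2, ← hcent g hg]
    have h4 : Nat.card (MulAction.stabilizer (ConjAct G) g)
        = Nat.card (Subgroup.centralizer ({g} : Set G)) := by
      refine Nat.card_congr (Equiv.subtypeEquiv ConjAct.ofConjAct.toEquiv fun x => ?_)
      rw [MulAction.mem_stabilizer_iff, ConjAct.smul_def, Subgroup.mem_centralizer_singleton_iff,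
        mul_inv_eq_iff_eq_mul]
      rfl
    rw [← h4]
    exact h3
  -- count the elements of order p by classes
  have hcount1 : Nat.card {g : G // orderOf g = p} * p = t * Nat.card G := by
    let e : {g : G // orderOf g = p} ≃
        Σ c : {c : ConjClasses G // ∃ g : G, ConjClasses.mk g = c ∧ orderOf g = p},
          {x : G // ConjClasses.mk x = c.1} :=
      { toFun := fun g => ⟨⟨ConjClasses.mk g.1, g.1, rfl, g.2⟩, g.1, rfl⟩
        invFun := fun cx => ⟨cx.2.1, by
          obtain ⟨g, hg1, hg2⟩ := cx.1.2
          obtain ⟨b, hb⟩ := isConj_iff.mp (ConjClasses.mk_eq_mk_iff_isConj.mp (hg1.trans cx.2.2.symm))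
          rw [← hb, ← MulAut.conj_apply, MulEquiv.orderOf_eq, hg2]⟩
        left_inv := fun g => rfl
        right_inv := fun cx => Sigma.subtype_ext (Subtype.ext cx.2.2) rfl }
    rw [Nat.card_congr e, Nat.card_sigma, Finset.sum_mul,
      Finset.sum_congr rfl (g := fun _ => Nat.card G), Finset.sum_const, Finset.card_univ,
      smul_eq_mul, ht, ← Nat.card_eq_fintype_card]
    intro c _
    obtain ⟨g, hg1, hg2⟩ := c.2
    rw [← hclass g hg2]
    congr 1
    refine Nat.card_congr (Equiv.subtypeEquivRight fun x => ?_)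
    rw [← hg1, ConjClasses.mk_eq_mk_iff_isConj]
    exact isConj_comm
  -- count the elements of order p by Sylow subgroups
  have hcount2 : Nat.card {g : G // orderOf g = p} = Nat.card (Sylow p G) * (p - 1) := by
    let e : {g : G // orderOf g = p} ≃ Σ Q : Sylow p G, {x : (Q : Subgroup G) // x ≠ 1} :=
      Equiv.ofBijective (fun g =>
        ⟨⟨Subgroup.zpowers g.1, IsPGroup.of_card (n := 1)
            (by rw [Nat.card_zpowers, g.2, pow_one]), fun hQ hle => by
          obtain ⟨Q', hQ'⟩ := hQ.exists_le_sylow
          have he : Subgroup.zpowers g.1 = (Q' : Subgroup G) := by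
            refine Subgroup.eq_of_le_of_card_ge (hle.trans hQ') ?_
            rw [Nat.card_congr (Q'.equiv P).toEquiv, hcardP, Nat.card_zpowers, g.2]
          exact le_antisymm (he ▸ hQ') hle⟩,
        ⟨⟨g.1, Subgroup.mem_zpowers g.1⟩, fun hc => hp.one_lt.ne
          (by have h0 : g.1 = 1 := congrArg Subtype.val hc
              rw [← g.2, h0, orderOf_one])⟩⟩) ⟨?_, ?_⟩
    · rw [Nat.card_congr e, Nat.card_sigma, Finset.sum_congr rfl (g := fun _ => p - 1),
        Finset.sum_const, Finset.card_univ, smul_eq_mul, ← Nat.card_eq_fintype_card]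
      intro Q _
      have hQ : Nat.card (Q : Subgroup G) = p := by rw [Nat.card_congr (Q.equiv P).toEquiv, hcardP]
      have := Fintype.card_subtype_compl (fun x : (Q : Subgroup G) => x = 1)
      rw [Fintype.card_subtype_eq] at this
      rw [Nat.card_eq_fintype_card, this, ← Nat.card_eq_fintype_card, hQ]
    · intro g g' hgg
      have := congrArg (fun s : Σ Q : Sylow p G, {x : (Q : Subgroup G) // x ≠ 1} => ((s.2.1 : (s.1 : Subgroup G)) : G)) hgg
      exact Subtype.ext this
    · rintro ⟨Q, ⟨x, hx⟩, hx1⟩
      have hQ : Nat.card (Q : Subgroup G) = p := by rw [Nat.card_congr (Q.equiv P).toEquiv, hcardP]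
      have hox : orderOf x = p := by
        rcases (Nat.dvd_prime hp).mp (hQ ▸ orderOf_dvd_natCard (⟨x, hx⟩ : (Q : Subgroup G))) with h1 | h1
        · exact absurd (orderOf_eq_one_iff.mp h1) hx1
        · rwa [← Subgroup.orderOf_coe] at h1
      refine ⟨⟨x, hox⟩, ?_⟩
      have hzQ : Subgroup.zpowers x = (Q : Subgroup G) :=
        Subgroup.eq_of_le_of_card_ge (Subgroup.zpowers_le.mpr hx)
          (by rw [hQ, Nat.card_zpowers, hox])
      obtain ⟨Qs, hQs1, hQs2⟩ := Q
      simp only at hzQ
      subst hzQ
      rfl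
  refine ⟨Nat.card (Sylow p G) / p, t, rfl, ?_, ?_, ?_⟩
  · have hmul := SmallSimple.card_sylow_mul_card_normalizer P
    have hd : p ∣ Nat.card (Subgroup.normalizer ((P : Subgroup G) : Set G)) :=
      (dvd_of_eq hcardP.symm).trans (Subgroup.card_dvd_of_le Subgroup.le_normalizer)
    obtain ⟨e, he⟩ := hd
    refine ⟨e, ?_⟩
    rw [hcount2, ← hmul, he] at hcount1
    have h0 : 0 < Nat.card (Sylow p G) * p := Nat.mul_pos Nat.card_pos hp.pos
    exact Nat.eq_of_mul_eq_mul_left h0 (by linarith)
  · have := card_sylow_modEq_one p G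
    have h1 : Nat.card (Sylow p G) % p = 1 := by
      rw [this, Nat.mod_eq_of_lt hp.one_lt]
    have := Nat.div_add_mod (Nat.card (Sylow p G)) p
    rw [mul_comm p] at this
    omega
  · have h1 : 1 + Nat.card (Sylow p G) / p * p = Nat.card (Sylow p G) := by
      have h1 : Nat.card (Sylow p G) % p = 1 := by
        rw [card_sylow_modEq_one p G, Nat.mod_eq_of_lt hp.one_lt]
      have := Nat.div_add_mod (Nat.card (Sylow p G)) p
      rw [mul_comm p] at this
      omega
    rw [h1, mul_comm (Nat.card G), ← hcount1, hcount2]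
    ring

end Cfsg.Agent.S0995
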