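import Cfsg.Statements.S0996
import Mathlib
import Cfsg.Agent.Lib.BrauerPSL.Quotient

set_option autoImplicit false
open Cfsg
open scoped commutatorElement
set_option linter.style.haveILetI false

namespace Cfsg.Agent.S0996

/-- Let G be a finite perfect group containing an element z of prime order p whose centralizer is the cyclic group it generates, and suppose the number 1 + n * p of Sylow p-subgroups satisfies n < (p + 3) / 2. Then p > 3 and G is isomorphic to the projective special linear group of dimension 2 over the field with p elements, or p - 1 is a power of 2 and G is isomorphic to that group over the field with p - 1 elements. -/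
theorem result {G : Type*} [Group G] [Finite G] (hperf : commutator G = ⊤) (p : ℕ) [Fact p.Prime] (z : G) (hz : orderOf z = p) (hC : Subgroup.centralizer ({z} : Set G) = Subgroup.zpowers z) (hn : 2 * Nat.card (Sylow p G) < (p + 1) * (p + 2)) : (∃ (F : Type) (_ : Field F) (_ : Fintype F), Fintype.card F = p ∧ 3 < p ∧ Nonempty (G ≃* Matrix.ProjectiveSpecialLinearGroup (Fin 2) F)) ∨ (∃ (m : ℕ) (F : Type) (_ : Field F) (_ : Fintype F), Fintype.card F = 2 ^ m ∧ p = 2 ^ m + 1 ∧ 3 < p ∧ Nonempty (G ≃* Matrix.ProjectiveSpecialLinearGroup (Fin 2) F)) := by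
  classical
  haveI := Fintype.ofFinite G
  have hp : p.Prime := Fact.out
  obtain ⟨P, hP⟩ := IsPGroup.exists_le_sylow
    (IsPGroup.of_card (n := 1) (by rw [Nat.card_zpowers, hz, pow_one]) :
      IsPGroup p (Subgroup.zpowers z))
  have hzP : z ∈ (P : Subgroup G) := hP (Subgroup.mem_zpowers z)
  have hPle : (P : Subgroup G) ≤ Subgroup.zpowers z := by
    haveI : Nontrivial (P : Subgroup G) := ⟨⟨⟨z, hzP⟩, 1, fun e => by
      have h1 : z = 1 := congrArg Subtype.val e
      rw [h1, orderOf_one] at hz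
      exact hp.ne_one hz.symm⟩⟩
    haveI : Nontrivial (Subgroup.center (P : Subgroup G)) := IsPGroup.center_nontrivial P.isPGroup'
    obtain ⟨⟨w, hw⟩, hw1⟩ := exists_ne (1 : Subgroup.center (P : Subgroup G))
    have hwz : (w : G) ∈ Subgroup.zpowers z := by
      rw [← hC, Subgroup.mem_centralizer_singleton_iff]
      exact (congrArg Subtype.val (Subgroup.mem_center_iff.1 hw ⟨z, hzP⟩)).symm
    have hwg : Subgroup.zpowers (w : G) = Subgroup.zpowers z := by
      refine Subgroup.eq_of_le_of_card_ge (Subgroup.zpowers_le.2 hwz) ?_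
      rw [Nat.card_zpowers, Nat.card_zpowers, hz]
      have h1 : orderOf (w : G) ∣ p :=
        (Subgroup.orderOf_dvd_natCard _ hwz).trans (dvd_of_eq ((Nat.card_zpowers z).trans hz))
      rcases (Nat.dvd_prime hp).1 h1 with h | h
      · exact absurd (Subtype.ext (Subtype.ext (orderOf_eq_one_iff.1 h))) hw1
      · exact h.ge
    intro g hg
    rw [← hC, Subgroup.mem_centralizer_singleton_iff]
    obtain ⟨i, hi⟩ := Subgroup.mem_zpowers_iff.1 (hwg.ge (Subgroup.mem_zpowers z))
    rw [← hi]
    exact ((show Commute g (w : G) from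
      congrArg Subtype.val (Subgroup.mem_center_iff.1 hw ⟨g, hg⟩)).zpow_right i).eq
  have hPcard : Nat.card P = p := by
    change Nat.card (P : Subgroup G) = p
    rw [le_antisymm hPle hP, Nat.card_zpowers, hz]
  obtain ⟨n, hn'⟩ := Agent.BrauerPSL.sylow_mod_one (G := G) (p := p)
  have hF : Agent.BrauerPSL.NonF p n := by
    refine Agent.BrauerPSL.nonF_of_lt ?_
    rw [hn'] at hn
    by_contra hge
    have : (p + 3) * p ≤ 2 * n * p := Nat.mul_le_mul_right p (by omega)
    linarith
  obtain ⟨h3, hle, hres⟩ := Agent.BrauerPSL.brauer_quotient P hperf hPcard hn' hF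
  have hbot : pPrimeCore p G = ⊥ := by
    have hdisj : pPrimeCore p G ⊓ (P : Subgroup G) = ⊥ := by
      refine Subgroup.inf_eq_bot_of_coprime ?_
      change Nat.Coprime _ (Nat.card P)
      rw [hPcard]
      exact Agent.PCore.coprime_card_pPrimeCore
    refine eq_bot_iff.2 fun x hx => ?_
    have h1 : x * z * x⁻¹ * z⁻¹ ∈ pPrimeCore p G ⊓ (P : Subgroup G) := by
      refine ⟨?_, mul_mem ((Subgroup.mem_normalizer_iff.1 (hle hx) z).1 hzP) ((P : Subgroup G).inv_mem hzP)⟩
      have hn2 : (pPrimeCore p G).Normal := inferInstance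
      rw [show x * z * x⁻¹ * z⁻¹ = x * (z * x⁻¹ * z⁻¹) by group]
      exact mul_mem hx (hn2.conj_mem _ (inv_mem hx) z)
    rw [hdisj, Subgroup.mem_bot, mul_inv_eq_one, mul_inv_eq_iff_eq_mul] at h1
    have h2 : x ∈ Subgroup.zpowers z := by
      rw [← hC, Subgroup.mem_centralizer_singleton_iff]; exact h1
    rw [← hdisj]
    exact ⟨hx, hP h2⟩
  let e : G ⧸ pPrimeCore p G ≃* G :=
    (QuotientGroup.quotientMulEquivOfEq hbot).trans QuotientGroup.quotientBot
  rcases hres with ⟨F, iF, iFF, hF', -, ⟨e'⟩⟩ | ⟨m, F, iF, iFF, hF', hpm, -, ⟨e'⟩⟩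
  · exact Or.inl ⟨F, iF, iFF, hF', h3, ⟨e.symm.trans e'⟩⟩
  · obtain ⟨e''⟩ := Agent.BrauerPSL.sl_equiv_psl hF'
    exact Or.inr ⟨m, F, iF, iFF, hF', hpm, h3, ⟨(e.symm.trans e').trans e''⟩⟩

end Cfsg.Agent.S0996
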