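import Cfsg.Statements.S0997
import Cfsg.Agent.Lib.DefectOne.SmallCofactor.Cases
import Cfsg.Agent.S0996

set_option autoImplicit false
open Cfsg
open scoped commutatorElement

namespace Cfsg.Agent.S0997

/-- Let G be a non-cyclic finite simple group of order p * q^b * g₀, where p and q are distinct primes and g₀ < p - 1. Then either p has the form 2^m + 1 or 2^m - 1 and G is isomorphic to the projective special linear group of dimension 2 over the field with p elements, or p = 2^m + 1 > 3 and G is isomorphic to that group over the field with 2^m elements. -/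
theorem result {G : Type*} [Group G] [Finite G] [IsSimpleGroup G] (hG : ¬ IsCyclic G) (p q b g₀ : ℕ) (hp : p.Prime) (hq : q.Prime) (hpq : p ≠ q) (hG' : Nat.card G = p * q ^ b * g₀) (hg : g₀ < p - 1) : (∃ (m : ℕ) (F : Type) (_ : Field F) (_ : Fintype F), Fintype.card F = p ∧ (p = 2 ^ m + 1 ∨ p = 2 ^ m - 1) ∧ Nonempty (G ≃* Matrix.ProjectiveSpecialLinearGroup (Fin 2) F)) ∨ (∃ (m : ℕ) (F : Type) (_ : Field F) (_ : Fintype F), Fintype.card F = 2 ^ m ∧ p = 2 ^ m + 1 ∧ 3 < p ∧ Nonempty (G ≃* Matrix.ProjectiveSpecialLinearGroup (Fin 2) F)) := by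
  haveI := Fintype.ofFinite G
  haveI := Fact.mk hp
  have hnc : ∃ a c : G, a * c ≠ c * a := by
    by_contra hcon
    push Not at hcon
    haveI : Fact (Nat.card G).Prime := ⟨Agent.CharInt.card_prime_of_simple_comm hcon⟩
    exact hG (isCyclic_of_prime_card rfl)
  have hg0 : g₀ ≠ 0 := fun h => by rw [h, mul_zero] at hG'; exact Nat.card_pos.ne' hG'
  obtain ⟨c, g', hg', hgc⟩ := Nat.exists_eq_pow_mul_and_not_dvd hg0 q hq.ne_one
  have hle : g' ≤ g₀ := by
    rw [hgc]
    exact Nat.le_mul_of_pos_left _ (pow_pos hq.pos c)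
  obtain ⟨-, P, M, hM, e, t, S, θ, C⟩ := DefectOne.SmallCofactor.exists_cofactor (G := G) hnc hq hpq
    hg' (b := b + c) (by rw [hG', hgc, pow_add]; ring) (by omega)
  have hp5 := C.hp5
  have key : (∃ m, p = 2 ^ m + 1 ∨ p = 2 ^ m - 1) ∧
      2 * Nat.card (Sylow p G) < (p + 1) * (p + 2) := by
    rcases C.kind with ⟨hε, ht, k, hk⟩ | ⟨hε, α, hα, he⟩
    · obtain ⟨hn, -⟩ := C.mersenne hε ht hk
      exact ⟨⟨k, Or.inr (by omega)⟩, by rw [hn]; nlinarith⟩
    · by_cases hα1 : α = 1
      · rw [hα1, pow_one] at he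
        obtain ⟨hpb, hde, -⟩ := C.binary hε he
        refine ⟨⟨b + c, Or.inl hpb⟩, ?_⟩
        have h1 := C.sylow
        rw [he, show 2 ^ (b + c) = p - 1 by omega] at h1
        have h2 : g' * (p - 1) < (p + 1) * (p + 2) :=
          Nat.mul_lt_mul_of_lt_of_le (by omega) (by omega) (by omega)
        omega
      · obtain ⟨hpk, hn, -⟩ := C.fermat hε (by omega) he
        exact ⟨⟨α + 1, Or.inl hpk⟩, by rw [hn]; nlinarith⟩
  obtain ⟨⟨m, hm⟩, hn⟩ := key
  have hperf : commutator G = ⊤ := by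
    refine ((inferInstance : (commutator G).Normal).eq_bot_or_eq_top).resolve_left fun e => ?_
    obtain ⟨a, c, hac⟩ := hnc
    refine hac (commutatorElement_eq_one_iff_mul_comm.1 ?_)
    have : ⁅a, c⁆ ∈ commutator G := by
      rw [commutator_def]
      exact Subgroup.commutator_mem_commutator (Subgroup.mem_top a) (Subgroup.mem_top c)
    rwa [e, Subgroup.mem_bot] at this
  obtain ⟨z, hzP, hzgen, hzord⟩ := DefectOne.exists_gen C.sc.card
  have hz1 : z ≠ 1 := fun h => by rw [h, orderOf_one] at hzord; omega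
  have hC : Subgroup.centralizer ({z} : Set G) = Subgroup.zpowers z := by
    rw [C.sc.centralizer_singleton hzP hz1, hzgen]
  rcases Cfsg.Agent.S0996.result hperf p z hzord hC hn with
    ⟨F, i1, i2, hcF, -, hiso⟩ | ⟨m', F, i1, i2, hcF, hp', h3, hiso⟩
  · exact Or.inl ⟨m, F, i1, i2, hcF, hm, hiso⟩
  · exact Or.inr ⟨m', F, i1, i2, hcF, hp', h3, hiso⟩

end Cfsg.Agent.S0997
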