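import Cfsg.Statements.S0998
import Cfsg.Agent.Lib.SmallSimple.PRQPow
import Cfsg.Agent.Lib.PSL2.SylowPrime

set_option autoImplicit false
open Cfsg

namespace Cfsg.Agent.S0998

/-- A non-cyclic finite simple group whose order has the form p * r * q^b for distinct primes p, q, r is isomorphic to the projective special linear group of dimension 2 over the field with 5 or with 7 elements. -/
theorem result {G : Type*} [Group G] [Finite G] [IsSimpleGroup G] (hG : ¬ IsCyclic G) (p q r b : ℕ) (hp : p.Prime) (hq : q.Prime) (hr : r.Prime) (hpq : p ≠ q) (hpr : p ≠ r) (hqr : q ≠ r) (hG' : Nat.card G = p * r * q ^ b) : (∃ (F : Type) (_ : Field F) (_ : Fintype F), Fintype.card F = 5 ∧ Nonempty (G ≃* Matrix.ProjectiveSpecialLinearGroup (Fin 2) F)) ∨ (∃ (F : Type) (_ : Field F) (_ : Fintype F), Fintype.card F = 7 ∧ Nonempty (G ≃* Matrix.ProjectiveSpecialLinearGroup (Fin 2) F)) := by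
  haveI : Fact (Nat.Prime 5) := ⟨by norm_num⟩
  haveI : Fact (Nat.Prime 7) := ⟨by norm_num⟩
  have key : (Nat.card G = 60) ∨ (Nat.card G = 168) := by
    rcases lt_or_gt_of_ne hpr with h | h
    · rcases SmallSimple.PRQPow.card_eq hG hr hp hq (b := b) h hqr.symm hpq (by rw [hG']; ring) with
        ⟨-, h'⟩ | ⟨-, h'⟩ <;> simp [h']
    · rcases SmallSimple.PRQPow.card_eq hG hp hr hq h hpq hqr.symm hG' with
        ⟨-, h'⟩ | ⟨-, h'⟩ <;> simp [h']
  rcases key with h | h
  · refine Or.inl ⟨ZMod 5, inferInstance, inferInstance, ZMod.card 5, ?_⟩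
    refine PSL2.Recog.psl_of_prime (p := 5) (m := 12) (by norm_num) (by rw [h]) (by norm_num)
      (fun n hn hm => ?_) (ZMod.card 5)
    have := Nat.le_of_dvd (by norm_num) hn
    interval_cases n <;> omega
  · refine Or.inr ⟨ZMod 7, inferInstance, inferInstance, ZMod.card 7, ?_⟩
    refine PSL2.Recog.psl_of_prime (p := 7) (m := 24) (by norm_num) (by rw [h]) (by norm_num)
      (fun n hn hm => ?_) (ZMod.card 7)
    have := Nat.le_of_dvd (by norm_num) hn
    interval_cases n <;> omega

end Cfsg.Agent.S0998
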