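import Cfsg.Statements.S0999
import Mathlib
import Cfsg.Agent.Lib.BrauerPSL.Quotient

set_option autoImplicit false
open Cfsg
open scoped commutatorElement
set_option linter.style.haveILetI false

namespace Cfsg.Agent.S0999

/-- Let G be a non-cyclic finite simple group and p a prime divisor of its order with p^3 > |G|. Then p > 3 and G is isomorphic to the projective special linear group of dimension 2 over the field with p elements, or p - 1 is a power of 2 and G is isomorphic to that group over the field with p - 1 elements. -/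
theorem result {G : Type*} [Group G] [Finite G] [IsSimpleGroup G] (hG : ¬ IsCyclic G) (p : ℕ) (hp : p.Prime) (hdvd : p ∣ Nat.card G) (hbig : Nat.card G < p ^ 3) : (∃ (F : Type) (_ : Field F) (_ : Fintype F), Fintype.card F = p ∧ 3 < p ∧ Nonempty (G ≃* Matrix.ProjectiveSpecialLinearGroup (Fin 2) F)) ∨ (∃ (m : ℕ) (F : Type) (_ : Field F) (_ : Fintype F), Fintype.card F = 2 ^ m ∧ p = 2 ^ m + 1 ∧ 3 < p ∧ Nonempty (G ≃* Matrix.ProjectiveSpecialLinearGroup (Fin 2) F)) := by
  classical
  haveI := Fintype.ofFinite G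
  haveI := Fact.mk hp
  have hcyc : ¬ IsMulCommutative G := fun hc => by
    obtain ⟨x, hx⟩ := exists_ne (1 : G)
    have hxn : (Subgroup.zpowers x).Normal := ⟨fun a ha g => by
      rwa [hc.is_comm.comm g a, mul_inv_cancel_right]⟩
    rcases hxn.eq_bot_or_eq_top with h | h
    · exact hx (Subgroup.zpowers_eq_bot.1 h)
    · exact hG ⟨⟨x, fun g => by rw [← Subgroup.mem_zpowers_iff, h]; trivial⟩⟩
  have hperf : commutator G = ⊤ := by
    refine ((inferInstance : (commutator G).Normal).eq_bot_or_eq_top).resolve_left fun h => hcyc ?_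
    refine isMulCommutative_iff.2 fun a b => ?_
    have h1 : ⁅a, b⁆ ∈ commutator G := by
      rw [commutator_def]; exact Subgroup.commutator_mem_commutator trivial trivial
    rw [h, Subgroup.mem_bot, commutatorElement_eq_one_iff_mul_comm] at h1
    exact h1
  obtain ⟨P⟩ := (inferInstance : Nonempty (Sylow p G))
  have hnn : ¬ (P : Subgroup G).Normal := fun hN => by
    rcases hN.eq_bot_or_eq_top with h | h
    · exact P.ne_bot_of_dvd_card hdvd h
    · haveI : Nontrivial G := Finite.one_lt_card_iff_nontrivial.1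
        (hp.one_lt.trans_le (Nat.le_of_dvd Nat.card_pos hdvd))
      haveI : Nontrivial (Subgroup.center G) :=
        IsPGroup.center_nontrivial ((P.isPGroup').of_equiv
          ((MulEquiv.subgroupCongr h).trans Subgroup.topEquiv))
      rcases (inferInstance : (Subgroup.center G).Normal).eq_bot_or_eq_top with h' | h'
      · obtain ⟨x, hx⟩ := exists_ne (1 : Subgroup.center G)
        refine absurd (Subtype.ext ?_) hx
        exact Subgroup.mem_bot.1 (h'.le x.2)
      · exact hcyc (isMulCommutative_iff.2 fun a b =>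
          (Subgroup.mem_center_iff.1 (h' ▸ Subgroup.mem_top b) a))
  have hcore : pPrimeCore p G = ⊥ := by
    refine ((inferInstance : (pPrimeCore p G).Normal).eq_bot_or_eq_top).resolve_right fun h => ?_
    refine Agent.PCore.not_dvd_card_pPrimeCore (p := p) (G := G) ?_
    rw [h, Subgroup.card_top]; exact hdvd
  obtain ⟨hPcard, n, hn', hF⟩ := Agent.BrauerPSL.sylow_data_of_small P hperf hdvd hbig hnn
  obtain ⟨-, -, -, h3, hres⟩ := Agent.BrauerPSL.brauer P hperf hPcard hcore (hn'.symm ▸ dvd_rfl) hF
  rcases hres with ⟨F, iF, iFF, hF', -, he⟩ | ⟨m, F, iF, iFF, hF', hpm, -, ⟨e'⟩⟩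
  · exact Or.inl ⟨F, iF, iFF, hF', h3, he⟩
  · obtain ⟨e''⟩ := Agent.BrauerPSL.sl_equiv_psl hF'
    exact Or.inr ⟨m, F, iF, iFF, hF', hpm, h3, ⟨e'.trans e''⟩⟩

end Cfsg.Agent.S0999
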