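import Cfsg.Statements.S1006
import Cfsg.Agent.Lib.SmallSimple.Order168Two

set_option autoImplicit false
open Cfsg

namespace Cfsg.Agent.S1006

/-- In a simple group of order 168 there are 56 elements of order 3, all conjugate; 42 elements of order 4, all conjugate; and 48 elements of order 7 falling into two conjugacy classes of size 24, an element of order 7 not being conjugate to its inverse. -/
theorem result {G : Type*} [Group G] [Finite G] [IsSimpleGroup G] (h : Nat.card G = 168) : Nat.card {g : G // orderOf g = 3} = 56 ∧ (∀ s t : G, orderOf s = 3 → orderOf t = 3 → IsConj s t) ∧ Nat.card {g : G // orderOf g = 4} = 42 ∧ (∀ s t : G, orderOf s = 4 → orderOf t = 4 → IsConj s t) ∧ Nat.card {g : G // orderOf g = 7} = 48 ∧ ∀ x : G, orderOf x = 7 → Nat.card {g : G // IsConj x g} = 24 ∧ ¬ IsConj x x⁻¹ := by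
  classical
  have hs : SmallSimple.Simple168 G := ⟨inferInstance, h⟩
  have : Fact (Nat.Prime 2) := ⟨Nat.prime_two⟩
  have : Fact (Nat.Prime 3) := ⟨Nat.prime_three⟩
  have : Fact (Nat.Prime 7) := ⟨by norm_num⟩
  obtain ⟨-, c3, c7⟩ := hs.card_twoEls
  obtain ⟨-, n4, -, cl4⟩ := hs.class_counts
  refine ⟨c3, ?_, n4, cl4, c7, fun x hx => ⟨?_, ?_⟩⟩
  · intro s t hs3 ht3
    have h1 := SmallSimple.card_class_mul_card_centralizer s
    rw [hs.centralizer_three hs3, Nat.card_zpowers, hs3, h] at h1
    let i : {x : G // IsConj s x} → {x : G // orderOf x = 3} := fun x => ⟨x.1, by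
      obtain ⟨c, hc⟩ := isConj_iff.mp x.2
      rw [← hc, ← MulAut.conj_apply, MulEquiv.orderOf_eq, hs3]⟩
    have ji : Function.Injective i := fun a b hab => Subtype.ext (congrArg Subtype.val hab :)
    obtain ⟨⟨a, ha⟩, ha'⟩ := ((Nat.bijective_iff_injective_and_card i).mpr ⟨ji, by rw [c3]; omega⟩).2 ⟨t, ht3⟩
    obtain rfl : a = t := congrArg Subtype.val ha'
    exact ha
  · have h1 := SmallSimple.card_class_mul_card_centralizer x
    rw [hs.centralizer_seven_elem hx, Nat.card_zpowers, hx, h] at h1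
    omega
  · intro hconj
    obtain ⟨c, hc⟩ := isConj_iff.mp hconj
    obtain ⟨P, hP⟩ := SmallSimple.zpowers_eq_sylow (fun Q => hs.card7 Q) hx
    have hcN : c ∈ Subgroup.normalizer ((P : Subgroup G) : Set G) := by
      rw [hP]
      apply Subgroup.mem_normalizer_iff_map_conj_eq.mpr
      rw [MonoidHom.map_zpowers]
      show Subgroup.zpowers (c * x * c⁻¹) = _
      rw [hc, Subgroup.zpowers_inv]
    have hodd : Odd (orderOf c) := by
      have hd := Subgroup.orderOf_dvd_natCard _ hcN
      rw [hs.card_normalizer_seven P] at hd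
      exact Odd.of_dvd_nat (by decide) hd
    have h2 : Commute (c ^ 2) x := by
      have : c ^ 2 * x * (c ^ 2)⁻¹ = x := by
        calc c ^ 2 * x * (c ^ 2)⁻¹ = c * (c * x * c⁻¹) * c⁻¹ := by rw [pow_two]; group
          _ = c * x⁻¹ * c⁻¹ := by rw [hc]
          _ = (c * x * c⁻¹)⁻¹ := by group
          _ = x := by rw [hc, inv_inv]
      exact mul_inv_eq_iff_eq_mul.mp this
    obtain ⟨k, hk⟩ := hodd
    have h3 : c = (c ^ 2) ^ (k + 1) := by
      rw [← pow_mul, show 2 * (k + 1) = orderOf c + 1 by omega, pow_add, pow_orderOf_eq_one, one_mul, pow_one]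
    have h4 : Commute c x := h3 ▸ h2.pow_left (k + 1)
    have h5 : x = x⁻¹ := by rw [← hc, h4.eq, mul_inv_cancel_right]
    have h6 : x ^ 2 = 1 := by rw [pow_two]; nth_rewrite 2 [h5]; exact mul_inv_cancel x
    have := orderOf_dvd_of_pow_eq_one h6
    rw [hx] at this
    norm_num at this

end Cfsg.Agent.S1006
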