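import Cfsg.Statements.S1008
import Cfsg.Agent.Lib.SmallSimple.Order168Klein

set_option autoImplicit false
open Cfsg

namespace Cfsg.Agent.S1008

/-- In a simple group of order 168 every maximal subgroup is either isomorphic to the symmetric group of degree 4 or non-abelian of order 21; the maximal subgroups of order 21 form one conjugacy class and those isomorphic to the symmetric group of degree 4 form exactly two conjugacy classes. -/
theorem result {G : Type*} [Group G] [Finite G] [IsSimpleGroup G] (h : Nat.card G = 168) : (∀ M : Subgroup G, IsCoatom M → Nonempty (↥M ≃* Equiv.Perm (Fin 4)) ∨ (Nat.card ↥M = 21 ∧ ¬ IsMulCommutative ↥M)) ∧ (∀ M M' : Subgroup G, IsCoatom M → IsCoatom M' → Nat.card ↥M = 21 → Nat.card ↥M' = 21 → ∃ g : G, M' = M.map (MulAut.conj g).toMonoidHom) ∧ ∃ M₁ M₂ : Subgroup G, IsCoatom M₁ ∧ IsCoatom M₂ ∧ Nonempty (↥M₁ ≃* Equiv.Perm (Fin 4)) ∧ Nonempty (↥M₂ ≃* Equiv.Perm (Fin 4)) ∧ (∀ g : G, M₂ ≠ M₁.map (MulAut.conj g).toMonoidHom) ∧ ∀ M : Subgroup G, IsCoatom M → Nonempty (↥M ≃* Equiv.Perm (Fin 4)) → ∃ g : G, M = M₁.map (MulAut.conj g).toMonoidHom ∨ M = M₂.map (MulAut.conj g).toMonoidHom := by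
  classical
  have hs : SmallSimple.Simple168 G := ⟨inferInstance, h⟩
  have : Fact (Nat.Prime 2) := ⟨Nat.prime_two⟩
  have : Fact (Nat.Prime 3) := ⟨Nat.prime_three⟩
  have : Fact (Nat.Prime 7) := ⟨by norm_num⟩
  obtain ⟨T⟩ : Nonempty (Sylow 2 G) := inferInstance
  obtain ⟨A, B, hne, hA, hB, hAT, hBT, hclass⟩ := hs.klein_pair T
  have small : ∀ H : Subgroup G, H ≠ ⊤ → Nat.card H ≤ 24 := fun H hH => by
    have h1 := hs.index_ge_seven hH
    have h2 := Subgroup.card_mul_index H
    rw [h] at h2
    by_contra hc
    have : 25 * 7 ≤ Nat.card H * H.index := Nat.mul_le_mul (by omega) h1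
    omega
  have coatom24 : ∀ H : Subgroup G, Nat.card H = 24 → IsCoatom H := fun H hH => by
    refine ⟨fun hc => by rw [hc, Subgroup.card_top, h] at hH; omega, fun K hK => ?_⟩
    by_contra hKt
    exact hK.ne (Subgroup.eq_of_le_of_card_ge hK.le (by rw [hH]; exact small K hKt))
  -- every coatom is a Sylow 7-normalizer or a Klein normalizer
  have classify : ∀ M : Subgroup G, IsCoatom M →
      (∃ P : Sylow 7 G, M = Subgroup.normalizer ((P : Subgroup G) : Set G)) ∨
      (∃ U : Subgroup G, IsKleinFour U ∧ M = Subgroup.normalizer (U : Set G)) := by
    intro M hM
    have hMle := small M hM.1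
    have hd : Nat.card M ∣ 168 := h ▸ Subgroup.card_subgroup_dvd_card M
    by_cases h7 : 7 ∣ Nat.card M
    · left
      obtain ⟨S⟩ : Nonempty (Sylow 7 M) := inferInstance
      have hn : Nat.card (Sylow 7 M) = 1 := by
        have h1 := S.card_dvd_index
        have h2 := Subgroup.card_mul_index (S : Subgroup M)
        have h7S : 7 ∣ Nat.card (S : Subgroup M) := S.dvd_card_of_dvd_card h7
        obtain ⟨a, ha⟩ := h7S
        have h3 : Nat.card (Sylow 7 M) ∣ Nat.card M := h1.trans (Dvd.intro_left _ h2)
        have hm := card_sylow_modEq_one 7 M
        have hi : (S : Subgroup M).index ≤ 3 := by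
          by_contra hc
          have : 0 < a := Nat.pos_of_ne_zero (by rintro rfl; simp at ha; exact absurd ha Nat.card_pos.ne')
          have : 7 * 4 ≤ Nat.card (S : Subgroup M) * (S : Subgroup M).index :=
            Nat.mul_le_mul (by omega) (by omega)
          omega
        have hle := Nat.le_of_dvd (Nat.pos_of_ne_zero Subgroup.index_ne_zero_of_finite) h1
        unfold Nat.ModEq at hm
        omega
      have hSn : (S : Subgroup M).Normal := by
        have : Subsingleton (Sylow 7 M) := (Nat.card_eq_one_iff_unique.mp hn).1
        exact S.normal_of_subsingleton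
      obtain ⟨P, hP⟩ := S.exists_comap_subtype_eq
      have hPM : (P : Subgroup G) ≤ M := by
        intro x hx
        obtain ⟨y, hy⟩ := exists_prime_orderOf_dvd_card' (G := M) 7 h7
        have hyS : y ∈ (S : Subgroup M) := by
          have hp : IsPGroup 7 (Subgroup.zpowers y) :=
            IsPGroup.of_card (n := 1) (by rw [Nat.card_zpowers, hy, pow_one])
          obtain ⟨S', hS'⟩ := hp.exists_le_sylow
          have : Subsingleton (Sylow 7 M) := (Nat.card_eq_one_iff_unique.mp hn).1
          rw [Subsingleton.elim S S']
          exact hS' (Subgroup.mem_zpowers y)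
        rw [← hP] at hyS
        have hz : Subgroup.zpowers (y : G) = (P : Subgroup G) :=
          Subgroup.eq_of_le_of_card_ge (Subgroup.zpowers_le.mpr hyS)
            (by rw [hs.card7 P, Nat.card_zpowers, Subgroup.orderOf_coe, hy])
        exact (Subgroup.zpowers_le.mpr y.2) (hz ▸ hx)
      refine ⟨P, (hM.le_iff_eq ?_).mp ?_ |>.symm⟩
      · intro hc
        have := hs.card_normalizer_seven P
        rw [hc, Subgroup.card_top, h] at this
        omega
      · refine (Subgroup.normal_subgroupOf_iff_le_normalizer hPM).mp ?_
        have : (P : Subgroup G).subgroupOf M = (S : Subgroup M) := hP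
        rw [this]; exact hSn
    · right
      have key : ∃ U : Subgroup G, IsKleinFour U ∧ M ≤ Subgroup.normalizer (U : Set G) := by
        by_cases h3 : 3 ∣ Nat.card M
        · obtain ⟨S⟩ : Nonempty (Sylow 3 M) := inferInstance
          obtain ⟨R, hR⟩ := S.exists_comap_subtype_eq
          have hS3 : Nat.card (S : Subgroup M) = 3 := by
            obtain ⟨y, hy⟩ := exists_prime_orderOf_dvd_card' (G := (S : Subgroup M)) 3 (S.dvd_card_of_dvd_card h3)
            have h1 : 3 ≤ Nat.card (S : Subgroup M) :=
              hy.ge.trans (Nat.le_of_dvd Nat.card_pos (_root_.orderOf_dvd_natCard y))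
            have h2 : Nat.card ((S : Subgroup M).map M.subtype) ≤ 3 := by
              refine le_trans (Nat.le_of_dvd Nat.card_pos (Subgroup.card_dvd_of_le ?_)) (hs.card3 R).le
              rintro _ ⟨x, hx, rfl⟩
              rw [← hR] at hx
              exact hx
            rw [Subgroup.card_map_of_injective M.subtype_injective] at h2
            omega
          by_cases hn1 : Nat.card (Sylow 3 M) = 1
          · -- M normalizes R
            have : Subsingleton (Sylow 3 M) := (Nat.card_eq_one_iff_unique.mp hn1).1
            have hSn : (S : Subgroup M).Normal := S.normal_of_subsingleton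
            have hRM : (R : Subgroup G) ≤ M := by
              intro x hx
              have h' : Nat.card (R : Subgroup G) ≤ Nat.card ((S : Subgroup M).map M.subtype) := by
                rw [Subgroup.card_map_of_injective M.subtype_injective, hS3, hs.card3 R]
              have hle : (S : Subgroup M).map M.subtype ≤ (R : Subgroup G) := by
                rintro _ ⟨y, hy, rfl⟩
                rw [← hR] at hy
                exact hy
              obtain ⟨y, -, rfl⟩ := (Subgroup.eq_of_le_of_card_ge hle h') ▸ hx
              exact y.2
            have hMR : M ≤ Subgroup.normalizer ((R : Subgroup G) : Set G) := by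
              refine (Subgroup.normal_subgroupOf_iff_le_normalizer hRM).mp ?_
              have : (R : Subgroup G).subgroupOf M = (S : Subgroup M) := hR
              rw [this]; exact hSn
            obtain ⟨R₀, hR₀⟩ := hs.normalizer_three_le hA
            obtain ⟨g, hg⟩ := MulAction.exists_smul_eq G R₀ R
            refine ⟨A.map (MulAut.conj g).toMonoidHom, ?_, hMR.trans ?_⟩
            · have e := Subgroup.equivMapOfInjective A (MulAut.conj g).toMonoidHom (MulAut.conj g).injective
              exact ⟨by rw [← Nat.card_congr e.toEquiv, hA.card_four],
                (Monoid.exponent_eq_of_mulEquiv e).symm.trans hA.exponent_two⟩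
            · intro x hx
              have hx' : (g⁻¹ * x * g) • R₀ = R₀ := by
                rw [mul_smul, mul_smul, hg, Sylow.smul_eq_iff_mem_normalizer.mpr hx, ← hg, inv_smul_smul]
              have hA' := Subgroup.mem_normalizer_iff_map_conj_eq.mp
                (hR₀ (Sylow.smul_eq_iff_mem_normalizer.mp hx'))
              refine Subgroup.mem_normalizer_iff_map_conj_eq.mpr ?_
              conv_rhs => rw [← hA']
              rw [Subgroup.map_map, Subgroup.map_map]
              congr 1
              ext y
              simp [mul_assoc]
          · -- M has a normal four-group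
            have hm := card_sylow_modEq_one 3 M
            have h1 := S.card_dvd_index
            have h2 := Subgroup.card_mul_index (S : Subgroup M)
            rw [hS3] at h2
            have hdM : Nat.card M ∣ 24 := by
              have hc : Nat.Coprime (Nat.card M) 7 :=
                (((by norm_num : Nat.Prime 7).coprime_iff_not_dvd).mpr h7).symm
              exact hc.dvd_of_dvd_mul_right (show Nat.card M ∣ 24 * 7 from hd)
            obtain ⟨T'⟩ : Nonempty (Sylow 2 M) := inferInstance
            obtain ⟨Q, hQ⟩ := T'.exists_comap_subtype_eq
            have hcase : Nat.card M = 12 ∨ Nat.card M = 24 := by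
              have hn4 : 4 ≤ Nat.card (Sylow 3 M) := by
                have hp : 0 < Nat.card (Sylow 3 M) := Nat.card_pos
                unfold Nat.ModEq at hm
                omega
              have hi := Nat.le_of_dvd (Nat.pos_of_ne_zero Subgroup.index_ne_zero_of_finite) h1
              have hM12 : 12 ≤ Nat.card M := by omega
              obtain ⟨k, hk⟩ := hdM
              have hk2 : k ≤ 2 := by
                by_contra hc
                have : 12 * 3 ≤ Nat.card M * k := Nat.mul_le_mul hM12 (by omega)
                omega
              interval_cases k <;> omega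
            -- a normal subgroup of order 4
            obtain ⟨D, hD4, hDn⟩ : ∃ D : Subgroup M, Nat.card D = 4 ∧ D.Normal := by
              rcases hcase with h12 | h24
              · -- eight elements of order 3 leave a single Sylow 2-subgroup
                have h3all : ∀ P : Sylow 3 M, Nat.card (P : Subgroup M) = 3 := fun P => by
                  rw [Nat.card_congr (P.equiv S).toEquiv, hS3]
                have hc3 := SmallSimple.card_orderOf_eq_prime h3all
                have h8 : 8 ≤ Nat.card {g : M // orderOf g = 3} := by
                  have hp : 0 < Nat.card (Sylow 3 M) := Nat.card_pos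
                  unfold Nat.ModEq at hm
                  omega
                have hT4 : Nat.card (T' : Subgroup M) = 4 := by
                  rw [T'.card_eq_multiplicity, h12]
                  have : (12 : ℕ).factorization 2 = 2 := by
                    rw [Nat.factorization_def _ Nat.prime_two, show (12 : ℕ) = 2 ^ 2 * 3 by norm_num,
                      padicValNat.mul (by norm_num) (by norm_num), padicValNat.prime_pow,
                      padicValNat.eq_zero_of_not_dvd (by norm_num)]
                  rw [this]; norm_num
                have hsub : Subsingleton (Sylow 2 M) := by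
                  refine ⟨fun P P' => ?_⟩
                  have hno : ∀ (P : Sylow 2 M) (x : M), x ∈ (P : Subgroup M) → orderOf x ≠ 3 := by
                    intro P x hx hx3
                    obtain ⟨k, hk⟩ := (IsPGroup.iff_orderOf.mp P.isPGroup') ⟨x, hx⟩
                    rw [← Subgroup.orderOf_coe, hx3] at hk
                    have := Nat.prime_three.dvd_of_dvd_pow (dvd_of_eq hk)
                    norm_num at this
                  have := Fintype.ofFinite M
                  have hcard : Nat.card {g : M // orderOf g ≠ 3} ≤ 4 := by
                    have : Nat.card {g : M // orderOf g ≠ 3} = Nat.card M - Nat.card {g : M // orderOf g = 3} := by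
                      simp only [Nat.card_eq_fintype_card]
                      exact Fintype.card_subtype_compl _
                    rw [h12] at this
                    omega
                  have key : ∀ P : Sylow 2 M, ((P : Subgroup M) : Set M) = {g | orderOf g ≠ 3} := by
                    intro P
                    refine Set.eq_of_subset_of_ncard_le (fun x hx => hno P x hx) ?_ (Set.toFinite _)
                    rw [← Nat.card_coe_set_eq, ← Nat.card_coe_set_eq]
                    show Nat.card {g : M // orderOf g ≠ 3} ≤ Nat.card (P : Subgroup M)
                    rw [Nat.card_congr (P.equiv T').toEquiv, hT4]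
                    exact hcard
                  exact Sylow.ext (SetLike.coe_injective ((key P).trans (key P').symm))
                exact ⟨T', hT4, T'.normal_of_subsingleton⟩
              · -- two Sylow 2-subgroups meet in a normal subgroup of order 4
                have hT8 : ∀ P : Sylow 2 M, Nat.card (P : Subgroup M) = 8 := fun P => by
                  rw [P.card_eq_multiplicity, h24]
                  have : (24 : ℕ).factorization 2 = 3 := by
                    rw [Nat.factorization_def _ Nat.prime_two, show (24 : ℕ) = 2 ^ 3 * 3 by norm_num,
                      padicValNat.mul (by norm_num) (by norm_num), padicValNat.prime_pow,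
                      padicValNat.eq_zero_of_not_dvd (by norm_num)]
                  rw [this]; norm_num
                obtain ⟨T'', hne'⟩ : ∃ T'' : Sylow 2 M, T'' ≠ T' := by
                  by_contra hc
                  push Not at hc
                  have : Subsingleton (Sylow 2 M) := ⟨fun P P' => (hc P).trans (hc P').symm⟩
                  have hTn : (T' : Subgroup M).Normal := T'.normal_of_subsingleton
                  have hTM : (T' : Subgroup M).map M.subtype = (Q : Subgroup G) := by
                    refine Subgroup.eq_of_le_of_card_ge ?_ ?_
                    · rintro _ ⟨x, hx, rfl⟩; rw [← hQ] at hx; exact hx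
                    · rw [Subgroup.card_map_of_injective M.subtype_injective, hT8, hs.card2 Q]
                  have hle : M ≤ Subgroup.normalizer ((Q : Subgroup G) : Set G) := by
                    rw [← hTM]
                    refine (Subgroup.normal_subgroupOf_iff_le_normalizer (Subgroup.map_subtype_le _)).mp ?_
                    rw [Subgroup.subgroupOf, Subgroup.comap_map_eq_self_of_injective M.subtype_injective]
                    exact hTn
                  rw [hs.normalizer_two Q] at hle
                  have := Subgroup.card_dvd_of_le hle
                  rw [h24, hs.card2 Q] at this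
                  norm_num at this
                set D := (T' : Subgroup M) ⊓ (T'' : Subgroup M)
                have hidx : ((T'' : Subgroup M).subgroupOf (T' : Subgroup M)).index ≤ 3 := by
                  rw [← SmallSimple.card_orbit_sylow]
                  refine (Nat.card_le_card_of_injective _ Subtype.val_injective).trans ?_
                  refine (Nat.le_of_dvd ?_ T'.card_dvd_index).trans ?_
                  · exact Nat.pos_of_ne_zero Subgroup.index_ne_zero_of_finite
                  · have := Subgroup.card_mul_index (T' : Subgroup M)
                    rw [hT8, h24] at this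
                    omega
                have hD4 : Nat.card D = 4 := by
                  have h1 := Subgroup.card_mul_index ((T'' : Subgroup M).subgroupOf (T' : Subgroup M))
                  have h2 : Nat.card ((T'' : Subgroup M).subgroupOf (T' : Subgroup M)) = Nat.card D := by
                    rw [← Subgroup.inf_subgroupOf_right, inf_comm]
                    exact Nat.card_congr (Subgroup.subgroupOfEquivOfLe inf_le_left).toEquiv
                  rw [h2, hT8] at h1
                  have hne8 : Nat.card D ≠ 8 := fun hc => hne' (Sylow.ext
                    ((Subgroup.eq_of_le_of_card_ge inf_le_right (by rw [hc, hT8])).symm.trans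
                      (Subgroup.eq_of_le_of_card_ge inf_le_left (by rw [hc, hT8]))))
                  have hi0 := Subgroup.index_ne_zero_of_finite (H := (T'' : Subgroup M).subgroupOf (T' : Subgroup M))
                  interval_cases ((T'' : Subgroup M).subgroupOf (T' : Subgroup M)).index <;> omega
                refine ⟨D, hD4, Subgroup.normalizer_eq_top_iff.mp ?_⟩
                have e1 : (T' : Subgroup M) ≤ Subgroup.normalizer (D : Set M) :=
                  SmallSimple.Simple168.klein_normal_in_two inf_le_left (by rw [hT8, hD4])
                have e2 : (T'' : Subgroup M) ≤ Subgroup.normalizer (D : Set M) :=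
                  SmallSimple.Simple168.klein_normal_in_two inf_le_right (by rw [hT8, hD4])
                apply Subgroup.eq_top_of_card_eq
                have hd1 := Subgroup.card_dvd_of_le e1
                rw [hT8] at hd1
                have hd2 := Subgroup.card_subgroup_dvd_card (Subgroup.normalizer (D : Set M))
                rw [h24] at hd2
                have hne8 : Nat.card (Subgroup.normalizer (D : Set M)) ≠ 8 := fun hc => hne' (Sylow.ext
                  ((Subgroup.eq_of_le_of_card_ge e2 (by rw [hc, hT8])).trans
                    (Subgroup.eq_of_le_of_card_ge e1 (by rw [hc, hT8])).symm))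
                have hle24 := Nat.le_of_dvd (by norm_num) hd2
                rw [h24]
                obtain ⟨a, ha⟩ := hd1
                rw [ha] at hd2 hne8 hle24 ⊢
                have : a ≤ 3 := by omega
                interval_cases a <;> omega
            refine ⟨D.map M.subtype, ?_, ?_⟩
            · -- a normal subgroup of order 4 is not cyclic: a 3-element would centralize it
              have hcard : Nat.card (D.map M.subtype) = 4 := by
                rw [Subgroup.card_map_of_injective M.subtype_injective, hD4]
              have hno4 : ∀ x ∈ D.map M.subtype, orderOf x ≠ 4 := by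
                rintro x ⟨d, hd', rfl⟩ hx4
                obtain ⟨y, hy⟩ := exists_prime_orderOf_dvd_card' (G := M) 3 h3
                have hDc : IsCyclic D := isCyclic_of_orderOf_eq_card ⟨d, hd'⟩ (by
                  rw [hD4, ← hx4]; simp)
                have hD' : Subgroup.normalizer (D : Set M) = ⊤ := Subgroup.normalizer_eq_top_iff.mpr hDn
                have hyD : y ∈ Subgroup.normalizer (D : Set M) := hD' ▸ Subgroup.mem_top y
                have h1 : D.normalizerMonoidHom ⟨y, hyD⟩ = 1 := by
                  have hd1 : orderOf (D.normalizerMonoidHom ⟨y, hyD⟩) ∣ 3 := by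
                    have := orderOf_map_dvd D.normalizerMonoidHom ⟨y, hyD⟩
                    rwa [← Subgroup.orderOf_coe, hy] at this
                  have hd2 : orderOf (D.normalizerMonoidHom ⟨y, hyD⟩) ∣ 2 := by
                    have h' := _root_.orderOf_dvd_natCard (D.normalizerMonoidHom ⟨y, hyD⟩)
                    rwa [hDc.card_mulAut, hD4] at h'
                  exact orderOf_eq_one_iff.mp (Nat.eq_one_of_dvd_coprimes (by decide) hd1 hd2)
                have h2 : y * d * y⁻¹ = d :=
                  congrArg Subtype.val (show D.normalizerMonoidHom ⟨y, hyD⟩ ⟨d, hd'⟩ = ⟨d, hd'⟩ by rw [h1]; rfl)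
                have hyc : (y : G) ∈ Subgroup.centralizer ({((d : M) : G)} : Set G) :=
                  Subgroup.mem_centralizer_singleton_iff.mpr
                    (congrArg Subtype.val (mul_inv_eq_iff_eq_mul.mp h2))
                rw [(hs.centralizer_four (show orderOf ((d : M) : G) = 4 from hx4)).2.2] at hyc
                have := Subgroup.card_dvd_of_le (Subgroup.zpowers_le.mpr hyc)
                rw [Nat.card_zpowers, Nat.card_zpowers, Subgroup.orderOf_coe, hy] at this
                change 3 ∣ orderOf (M.subtype d) at this
                rw [hx4] at this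
                norm_num at this
              have hsq : ∀ z : D.map M.subtype, z ^ 2 = 1 := fun z => by
                rw [← orderOf_dvd_iff_pow_eq_one]
                have hd4 : orderOf z ∣ 2 ^ 2 := (_root_.orderOf_dvd_natCard z).trans (by rw [hcard]; norm_num)
                obtain ⟨i, hi, hi'⟩ := (Nat.dvd_prime_pow Nat.prime_two).mp hd4
                rw [hi']
                interval_cases i
                · norm_num
                · norm_num
                · exfalso
                  apply hno4 (z : G) z.2
                  rw [Subgroup.orderOf_coe, hi']; norm_num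
              refine ⟨hcard, Nat.dvd_antisymm (Monoid.exponent_dvd_of_forall_pow_eq_one hsq) ?_⟩
              rcases (Nat.dvd_prime Nat.prime_two).mp (Monoid.exponent_dvd_of_forall_pow_eq_one hsq) with h1 | h1
              · rw [Monoid.exp_eq_one_iff] at h1
                rw [Nat.card_of_subsingleton (1 : D.map M.subtype)] at hcard
                omega
              · rw [h1]
            · refine (Subgroup.normal_subgroupOf_iff_le_normalizer (Subgroup.map_subtype_le _)).mp ?_
              rw [Subgroup.subgroupOf, Subgroup.comap_map_eq_self_of_injective M.subtype_injective]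
              exact hDn
        · have hp2 : IsPGroup 2 M := by
            have hd8 : Nat.card M ∣ 2 ^ 3 := by
              have hc : Nat.Coprime (Nat.card M) 21 := Nat.Coprime.mul_right
                ((Nat.prime_three.coprime_iff_not_dvd.mpr h3).symm)
                (((by norm_num : Nat.Prime 7).coprime_iff_not_dvd.mpr h7).symm)
              exact hc.dvd_of_dvd_mul_right (show Nat.card M ∣ 8 * 21 from hd)
            obtain ⟨i, -, hi⟩ := (Nat.dvd_prime_pow Nat.prime_two).mp hd8
            exact IsPGroup.of_card hi
          obtain ⟨Q, hQ⟩ := hp2.exists_le_sylow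
          obtain ⟨C, D, -, hC, -, hCQ, -, -⟩ := hs.klein_pair Q
          exact ⟨C, hC, hQ.trans (hs.sylow_le_normalizer_klein Q hC hCQ)⟩
      obtain ⟨U, hU, hle⟩ := key
      refine ⟨U, hU, ((hM.le_iff_eq fun hc => ?_).mp hle).symm⟩
      have := hs.card_normalizer_klein hU
      rw [hc, Subgroup.card_top, h] at this
      omega
  refine ⟨fun M hM => ?_, fun M M' hM hM' h21 h21' => ?_, ?_⟩
  · rcases classify M hM with ⟨P, rfl⟩ | ⟨U, hU, rfl⟩
    · refine Or.inr ⟨hs.card_normalizer_seven P, fun hc => ?_⟩
      have hle : Subgroup.normalizer ((P : Subgroup G) : Set G) ≤ Subgroup.centralizer ((P : Subgroup G) : Set G) :=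
        fun x hx => Subgroup.mem_centralizer_iff.mpr fun y hy =>
          congrArg Subtype.val (hc.is_comm.comm ⟨y, Subgroup.le_normalizer hy⟩ ⟨x, hx⟩)
      rw [hs.centralizer_seven P] at hle
      have := Subgroup.card_dvd_of_le hle
      rw [hs.card_normalizer_seven P, hs.card7 P] at this
      norm_num at this
    · exact Or.inl (hs.normalizer_klein_iso hU)
  · have key : ∀ N : Subgroup G, IsCoatom N → Nat.card N = 21 →
        ∃ P : Sylow 7 G, N = Subgroup.normalizer ((P : Subgroup G) : Set G) := fun N hN h21N => by
      rcases classify N hN with h' | ⟨U, hU, rfl⟩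
      · exact h'
      · rw [hs.card_normalizer_klein hU] at h21N; omega
    obtain ⟨P, rfl⟩ := key M hM h21
    obtain ⟨P', rfl⟩ := key M' hM' h21'
    obtain ⟨g, rfl⟩ := MulAction.exists_smul_eq G P P'
    refine ⟨g, ?_⟩
    ext x
    have key2 : ∀ (Q : Sylow 7 G) (y : G),
        y ∈ Subgroup.normalizer ((Q : Subgroup G) : Set G) ↔ y • Q = Q :=
      fun Q y => Sylow.smul_eq_iff_mem_normalizer.symm
    rw [Subgroup.mem_map_equiv, key2, key2]
    simp only [MulAut.conj_symm_apply, mul_smul, inv_smul_eq_iff]
  · obtain ⟨e₁⟩ := hs.normalizer_klein_iso hA
    obtain ⟨e₂⟩ := hs.normalizer_klein_iso hB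
    refine ⟨Subgroup.normalizer (A : Set G), Subgroup.normalizer (B : Set G),
      coatom24 _ (hs.card_normalizer_klein hA), coatom24 _ (hs.card_normalizer_klein hB), ⟨e₁⟩, ⟨e₂⟩,
      fun g hg => ?_, fun M hM hiso => ?_⟩
    · set A' := A.map (MulAut.conj g).toMonoidHom with hA'
      have hAn : A ≤ Subgroup.normalizer (A : Set G) := Subgroup.le_normalizer
      have hA'le : A' ≤ Subgroup.normalizer (B : Set G) := hg ▸ Subgroup.map_mono hAn
      have hBn : Subgroup.normalizer (B : Set G) ≤ Subgroup.normalizer (A' : Set G) := by
        intro x hx
        rw [hg, Subgroup.mem_map_equiv] at hx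
        refine Subgroup.mem_normalizer_iff_map_conj_eq.mpr ?_
        conv_rhs => rw [hA', ← Subgroup.mem_normalizer_iff_map_conj_eq.mp hx]
        rw [hA', Subgroup.map_map, Subgroup.map_map]
        congr 1
        ext y
        simp [mul_assoc]
      have hTB := hs.sylow_le_normalizer_klein T hB hBT
      have e := Subgroup.equivMapOfInjective A (MulAut.conj g).toMonoidHom (MulAut.conj g).injective
      have hA'k : IsKleinFour A' := ⟨by rw [hA', ← Nat.card_congr e.toEquiv, hA.card_four],
        (Monoid.exponent_eq_of_mulEquiv e).symm.trans hA.exponent_two⟩
      -- A' is a normal 2-subgroup of N(B), so lies in T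
      have hA'T : A' ≤ (T : Subgroup G) := by
        set N := Subgroup.normalizer (B : Set G)
        have hn : (A'.subgroupOf N).Normal :=
          (Subgroup.normal_subgroupOf_iff_le_normalizer hA'le).mpr hBn
        have hp : IsPGroup 2 (A'.subgroupOf N) :=
          IsPGroup.of_card (n := 2) (by
            rw [Nat.card_congr (Subgroup.subgroupOfEquivOfLe hA'le).toEquiv, hA'k.card_four]; norm_num)
        have hle := hp.le_sylow_of_normal (T.subtype hTB)
        intro x hx
        exact hle (show (⟨x, hA'le hx⟩ : N) ∈ A'.subgroupOf N from hx)
      rcases hclass A' hA'T hA'k with h' | h'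
      · -- A is normalized by N(B), hence so is T = A ⊔ B
        have hsup : (T : Subgroup G) = A ⊔ B := by
          refine (Subgroup.eq_of_le_of_card_ge (sup_le hAT hBT) ?_).symm
          rw [hs.card2 T]
          have hd := Subgroup.card_dvd_of_le (le_sup_left : A ≤ A ⊔ B)
          have hd2 := Subgroup.card_dvd_of_le (sup_le hAT hBT)
          rw [hA.card_four] at hd
          rw [hs.card2 T] at hd2
          have hne4 : Nat.card (A ⊔ B : Subgroup G) ≠ 4 := fun hc => hne
            ((Subgroup.eq_of_le_of_card_ge le_sup_left (by rw [hc, hA.card_four])).trans
              (Subgroup.eq_of_le_of_card_ge le_sup_right (by rw [hc, hB.card_four])).symm)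
          obtain ⟨a, ha⟩ := hd
          rw [ha] at hd2 hne4 ⊢
          have : a ≠ 0 := by rintro rfl; simp at hd2
          omega
        have hle : Subgroup.normalizer (B : Set G) ≤ Subgroup.normalizer ((T : Subgroup G) : Set G) := by
          intro x hx
          apply Subgroup.mem_normalizer_iff_map_conj_eq.mpr
          rw [hsup, Subgroup.map_sup, Subgroup.mem_normalizer_iff_map_conj_eq.mp hx]
          have hxA : x ∈ Subgroup.normalizer (A : Set G) := by rw [← h']; exact hBn hx
          rw [Subgroup.mem_normalizer_iff_map_conj_eq.mp hxA]
        rw [hs.normalizer_two T] at hle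
        have := Subgroup.card_dvd_of_le hle
        rw [hs.card_normalizer_klein hB, hs.card2 T] at this
        norm_num at this
      · exact hne (hs.klein_not_conj T hA hB hAT hBT h')
    · rcases classify M hM with ⟨P, rfl⟩ | ⟨U, hU, rfl⟩
      · obtain ⟨e⟩ := hiso
        have h1 := Nat.card_congr e.toEquiv
        rw [hs.card_normalizer_seven P, Nat.card_perm, Nat.card_fin] at h1
        simp [Nat.factorial] at h1
      · obtain ⟨Q, hUQ⟩ := (IsPGroup.of_card (p := 2) (n := 2) (G := U)
          (by rw [hU.card_four]; norm_num)).exists_le_sylow
        obtain ⟨g, rfl⟩ := MulAction.exists_smul_eq G T Q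
        have hU' : U.map (MulAut.conj g⁻¹).toMonoidHom ≤ (T : Subgroup G) := by
          rintro _ ⟨u, hu, rfl⟩
          have := hUQ hu
          rw [Sylow.coe_subgroup_smul, Subgroup.mem_pointwise_smul_iff_inv_smul_mem] at this
          simpa [MulAut.smul_def] using this
        have e := Subgroup.equivMapOfInjective U (MulAut.conj g⁻¹).toMonoidHom (MulAut.conj g⁻¹).injective
        have hUk : IsKleinFour (U.map (MulAut.conj g⁻¹).toMonoidHom) :=
          ⟨by rw [← Nat.card_congr e.toEquiv, hU.card_four],
            (Monoid.exponent_eq_of_mulEquiv e).symm.trans hU.exponent_two⟩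
        refine ⟨g, ?_⟩
        have hback : ∀ V : Subgroup G, U.map (MulAut.conj g⁻¹).toMonoidHom = V →
            Subgroup.normalizer (U : Set G) = (Subgroup.normalizer (V : Set G)).map (MulAut.conj g).toMonoidHom := by
          rintro V rfl
          have : U = (U.map (MulAut.conj g⁻¹).toMonoidHom).map (MulAut.conj g).toMonoidHom := by
            rw [Subgroup.map_map]
            conv_lhs => rw [← Subgroup.map_id U]
            congr 1
            ext y; simp [mul_assoc]
          conv_lhs => rw [this]
          exact (Subgroup.map_equiv_normalizer_eq _ (MulAut.conj g)).symm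
        rcases hclass _ hU' hUk with h' | h'
        · exact Or.inl (hback A h')
        · exact Or.inr (hback B h')

end Cfsg.Agent.S1008
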