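import Mathlib
import Cfsg.Statements.S1013
-- import your own Cfsg.Agent.* helpers here

set_option autoImplicit false
open Cfsg

namespace Cfsg.Agent.S1013

theorem prime_card_pretransitive_normal {α : Type*} [Fintype α] {p : ℕ} [hp : Fact p.Prime]
    (hα : Fintype.card α = p) (G : Subgroup (Equiv.Perm α)) [MulAction.IsPretransitive G α]
    (N : Subgroup G) [N.Normal] (hN : N ≠ ⊥) : p ∣ Nat.card N := by
  have hcard : Nat.card α = p := by rw [Nat.card_eq_fintype_card, hα]
  haveI : MulAction.IsPreprimitive G α := MulAction.IsPreprimitive.of_prime_card (hcard ▸ hp.out)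
  have : MulAction.IsPretransitive N α := by
    apply MulAction.IsQuasiPreprimitive.isPretransitive_of_normal
    intro h
    apply hN
    rw [Subgroup.eq_bot_iff_forall]
    intro n hn
    apply Subtype.ext
    ext a
    have : a ∈ MulAction.fixedPoints N α := by rw [h]; trivial
    exact this ⟨n, hn⟩
  haveI := this
  haveI : Nonempty α := Fintype.card_pos_iff.1 (hα ▸ hp.out.pos)
  obtain ⟨a⟩ := ‹Nonempty α›
  have := MulAction.index_stabilizer_of_transitive N a
  rw [hcard] at this
  rw [← this]
  exact Subgroup.index_dvd_card _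


/-- Let G be a transitive permutation group of prime degree p having more than one Sylow p-subgroup, and suppose a Sylow p-subgroup P has prime index in its normalizer. Then G is simple. -/
theorem result {α : Type*} [Fintype α] [DecidableEq α] {p : ℕ} [Fact p.Prime] (hα : Fintype.card α = p) (G : Subgroup (Equiv.Perm α)) [MulAction.IsPretransitive ↥G α] (P : Sylow p ↥G) (hn : 1 < Nat.card (Sylow p ↥G)) (ht : (((P : Subgroup ↥G).subgroupOf (Subgroup.normalizer ((P : Subgroup ↥G) : Set ↥G))).index).Prime) : IsSimpleGroup ↥G := by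
  classical
  have hp := Fact.out (p := p.Prime)
  have hcardα : Nat.card α = p := by rw [Nat.card_eq_fintype_card, hα]
  -- order of P
  have hGdvd : Nat.card G ∣ p.factorial := by
    have := Subgroup.card_subgroup_dvd_card G
    rwa [Nat.card_perm, hcardα] at this
  obtain ⟨k, hk⟩ := IsPGroup.iff_card.1 P.isPGroup'
  have hk1 : k ≤ 1 := by
    by_contra hk2
    have h2 : p ^ 2 ∣ p.factorial := dvd_trans (pow_dvd_pow p (by omega))
      (dvd_trans (hk ▸ Subgroup.card_subgroup_dvd_card _) hGdvd)
    rw [← Nat.mul_factorial_pred hp.ne_zero, pow_two] at h2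
    have h3 := Nat.dvd_of_mul_dvd_mul_left hp.pos h2
    have := hp.dvd_factorial.1 h3
    have := hp.pos
    omega
  haveI : Nonempty α := Fintype.card_pos_iff.1 (hα ▸ hp.pos)
  have hpG : p ∣ Nat.card G := by
    obtain ⟨a⟩ := ‹Nonempty α›
    have := MulAction.index_stabilizer_of_transitive G a
    rw [hcardα] at this
    rw [← this]
    exact Subgroup.index_dvd_card _
  have hPp : Nat.card (P : Subgroup G) = p := by
    have := P.dvd_card_of_dvd_card hpG
    interval_cases k
    · rw [hk] at this; simp only [pow_zero, Nat.dvd_one] at this; exact absurd this hp.ne_one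
    · simpa using hk
  haveI : Nontrivial G := by
    by_contra h
    rw [not_nontrivial_iff_subsingleton] at h
    rw [Nat.card_of_subsingleton (1 : G), Nat.dvd_one] at hpG
    exact hp.ne_one hpG
  refine ⟨fun N hN => ?_⟩
  by_cases hbot : N = ⊥
  · exact Or.inl hbot
  right
  have hpN := prime_card_pretransitive_normal hα G N hbot
  -- P ≤ N
  have hPN : (P : Subgroup G) ≤ N := by
    obtain ⟨x, hx⟩ := exists_prime_orderOf_dvd_card' p hpN
    have hx' : orderOf (x : G) = p := by rw [← hx, Subgroup.orderOf_coe]
    obtain ⟨Q, hQ⟩ := (IsPGroup.of_card (n := 1) (p := p)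
      (by rw [Nat.card_zpowers, hx', pow_one] : Nat.card (Subgroup.zpowers (x : G)) = p ^ 1)).exists_le_sylow
    have hQN : (Q : Subgroup G) ≤ N := by
      have : Subgroup.zpowers (x : G) = Q := Subgroup.eq_of_le_of_card_ge hQ
        (by rw [Nat.card_zpowers, hx', Sylow.card_eq_multiplicity, ← Sylow.card_eq_multiplicity P, hPp])
      rw [← this]
      exact Subgroup.zpowers_le.2 x.2
    obtain ⟨g, hg⟩ := MulAction.exists_smul_eq G Q P
    rw [← hg]
    intro y hy
    rw [Sylow.coe_subgroup_smul, Subgroup.mem_pointwise_smul_iff_inv_smul_mem] at hy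
    have := hN.conj_mem _ (hQN hy) g
    simpa [mul_assoc] using this
  set K : Subgroup G := Subgroup.normalizer ((P : Subgroup G) : Set G) with hK
  have hsup : K ⊔ N = ⊤ := Sylow.normalizer_sup_eq_top' P hPN
  have hdvd : N.relIndex K ∣ (P : Subgroup G).relIndex K := ⟨(P : Subgroup G).relIndex (N ⊓ K), by
      rw [mul_comm, ← Subgroup.inf_relIndex_right N K]
      exact (Subgroup.relIndex_mul_relIndex _ _ _ (le_inf hPN Subgroup.le_normalizer) inf_le_right).symm⟩
  rcases ht.eq_one_or_self_of_dvd (N.relIndex K) hdvd with h | h
  · rw [Subgroup.relIndex_eq_one] at h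
    rwa [sup_eq_right.2 h] at hsup
  · -- N ⊓ K = P
    exfalso
    have hinf : N ⊓ K = P := by
      have e1 := Subgroup.relIndex_mul_relIndex (P : Subgroup G) (N ⊓ K) K
        (le_inf hPN Subgroup.le_normalizer) inf_le_right
      rw [Subgroup.inf_relIndex_right] at e1
      have h' : N.relIndex K = (P : Subgroup G).relIndex K := h
      rw [← h'] at e1
      have hne : N.relIndex K ≠ 0 := (fun h0 => by rw [Subgroup.relIndex] at h0; exact Subgroup.index_ne_zero_of_finite h0)
      have : (P : Subgroup G).relIndex (N ⊓ K) = 1 :=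
        Nat.eq_of_mul_eq_mul_right (Nat.pos_of_ne_zero hne) (by rw [e1, one_mul])
      exact le_antisymm (Subgroup.relIndex_eq_one.1 this) (le_inf hPN Subgroup.le_normalizer)
    set P' : Sylow p N := P.subtype hPN with hP'
    haveI : IsCyclic (P : Subgroup G) := isCyclic_of_prime_card hPp
    have hnc : Subgroup.normalizer ((P' : Subgroup N) : Set N) ≤
        Subgroup.centralizer ((P' : Subgroup N) : Set N) := by
      intro n hn
      have hn' : (n : G) ∈ (P : Subgroup G) := by
        rw [← hinf]
        refine ⟨n.2, ?_⟩
        rw [hK]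
        have hn2 := Subgroup.mem_normalizer_iff.1 hn
        refine Subgroup.mem_normalizer_iff.2 ?_
        intro y
        constructor
        · intro hy
          exact (hn2 ⟨y, hPN hy⟩).1 hy
        · intro hy
          have hy' : y ∈ N := by
            have := hN.conj_mem _ (hPN hy) (n : G)⁻¹
            simpa [mul_assoc] using this
          exact (hn2 ⟨y, hy'⟩).2 hy
      intro y hy
      apply Subtype.ext
      have := IsMulCommutative.is_comm.comm (⟨(y : G), hy⟩ : (P : Subgroup G)) ⟨n, hn'⟩
      exact congrArg (fun z : (P : Subgroup G) => (z : G)) this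
    haveI : Subgroup.Characteristic (MonoidHom.transferSylow P' hnc).ker := by
      have hc := MonoidHom.ker_transferSylow_isComplement' P' hnc
      have hnd := MonoidHom.not_dvd_card_ker_transferSylow P' hnc
      rw [Subgroup.characteristic_iff_map_le]
      intro φ y hy
      obtain ⟨z, hz, rfl⟩ := hy
      have hcop : Nat.Coprime (Nat.card (MonoidHom.transferSylow P' hnc).ker) (Nat.card (P' : Subgroup N)) := by
        obtain ⟨j, hj⟩ := IsPGroup.iff_card.1 P'.isPGroup'
        rw [hj]
        exact Nat.Coprime.pow_right _ ((hp.coprime_iff_not_dvd.2 hnd).symm)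
      rw [MonoidHom.mem_ker]
      apply orderOf_eq_one_iff.1
      refine Nat.eq_one_of_dvd_coprimes hcop ?_ (orderOf_dvd_natCard _)
      exact (orderOf_map_dvd _ _).trans ((orderOf_map_dvd _ z).trans
        (Subgroup.orderOf_dvd_natCard _ hz))
    set M : Subgroup G := (MonoidHom.transferSylow P' hnc).ker.map N.subtype with hM
    haveI : M.Normal := ConjAct.normal_of_characteristic_of_normal
    by_cases hMb : M = ⊥
    · -- N = P
      have hker : (MonoidHom.transferSylow P' hnc).ker = ⊥ :=
        (Subgroup.map_eq_bot_iff_of_injective _ N.subtype_injective).1 hMb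
      have hc := MonoidHom.ker_transferSylow_isComplement' P' hnc
      rw [hker, Subgroup.isComplement'_bot_left] at hc
      have hNP : N = P := le_antisymm (fun y hy => by
        have : (⟨y, hy⟩ : N) ∈ (P' : Subgroup N) := by rw [hc]; trivial
        exact this) hPN
      have : (P : Subgroup G).Normal := hNP ▸ hN
      have := Sylow.unique_of_normal P this
      have : Nat.card (Sylow p G) = 1 := Nat.card_unique
      omega
    · have := prime_card_pretransitive_normal hα G M hMb
      rw [hM, Subgroup.card_map_of_injective N.subtype_injective] at this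
      exact MonoidHom.not_dvd_card_ker_transferSylow P' hnc this

end Cfsg.Agent.S1013
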