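import Mathlib
import Cfsg.Statements.S1018
-- import your own Cfsg.Agent.* helpers here

set_option autoImplicit false
open Cfsg

namespace Cfsg.Agent.S1018

theorem mem_fixedBy_mk {G : Type*} [Group G] (H : Subgroup G) (x g : G) :
    (QuotientGroup.mk g : G ⧸ H) ∈ MulAction.fixedBy (G ⧸ H) x ↔ g⁻¹ * x * g ∈ H := by
  rw [MulAction.mem_fixedBy, MulAction.Quotient.smul_mk, eq_comm, QuotientGroup.eq, smul_eq_mul,
    mul_assoc]


/-- Let P be a Sylow p-subgroup of order p of a finite group G, and consider the action of G on the left cosets of the normalizer N of P. Then every element of order p fixes exactly one coset, and an element of N that does not centralize P fixes at most as many cosets as there are orbits of P. -/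
theorem result {G : Type*} [Group G] [Finite G] (p : ℕ) [Fact p.Prime] (P : Sylow p G) (hP : Nat.card ↥(P : Subgroup G) = p) : (∀ y : G, orderOf y = p → Nat.card (MulAction.fixedBy (G ⧸ Subgroup.normalizer ((P : Subgroup G) : Set G)) y) = 1) ∧ ∀ x : G, x ∈ Subgroup.normalizer ((P : Subgroup G) : Set G) → x ∉ Subgroup.centralizer ((P : Subgroup G) : Set G) → Nat.card (MulAction.fixedBy (G ⧸ Subgroup.normalizer ((P : Subgroup G) : Set G)) x) ≤ Nat.card (MulAction.orbitRel.Quotient ↥(P : Subgroup G) (G ⧸ Subgroup.normalizer ((P : Subgroup G) : Set G))) := by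
  classical
  have hp := Fact.out (p := p.Prime)
  have hcardS : ∀ Q : Sylow p G, Nat.card (Q : Subgroup G) = p := fun Q => by
    rw [Sylow.card_eq_multiplicity, ← Sylow.card_eq_multiplicity P, hP]
  constructor
  · intro y hy
    set N := Subgroup.normalizer ((P : Subgroup G) : Set G) with hN
    have hz : IsPGroup p (Subgroup.zpowers y) :=
      IsPGroup.of_card (n := 1) (by rw [Nat.card_zpowers, hy, pow_one])
    obtain ⟨Q, hQ⟩ := hz.exists_le_sylow
    have hQe : Subgroup.zpowers y = Q :=
      Subgroup.eq_of_le_of_card_ge hQ (by rw [hcardS, Nat.card_zpowers, hy])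
    -- the fixed cosets are those carrying P to Q
    have key : ∀ g : G, g⁻¹ * y * g ∈ N ↔ g • P = Q := by
      intro g
      constructor
      · intro hg
        have hz' : IsPGroup p (Subgroup.zpowers (g⁻¹ * y * g)) :=
          IsPGroup.of_card (n := 1) (by
            rw [Nat.card_zpowers, pow_one, show g⁻¹ * y * g = (MulAut.conj g⁻¹) y by simp,
              MulEquiv.orderOf_eq, hy])
        have hmem : g⁻¹ * y * g ∈ (P : Subgroup G) := by
          have h := hz'.inf_normalizer_sylow P
          have h2 : g⁻¹ * y * g ∈ Subgroup.zpowers (g⁻¹ * y * g) ⊓ N :=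
            ⟨Subgroup.mem_zpowers _, hg⟩
          exact (h.le h2).2
        apply Sylow.ext
        refine (Subgroup.eq_of_le_of_card_ge ?_ (by rw [hcardS, hcardS])).symm
        rw [← hQe, Subgroup.zpowers_le, Sylow.coe_subgroup_smul,
          Subgroup.mem_pointwise_smul_iff_inv_smul_mem]
        simpa [mul_assoc] using hmem
      · intro hg
        apply Subgroup.le_normalizer
        have : y ∈ ((g • P : Sylow p G) : Subgroup G) := by
          rw [hg]; exact hQ (Subgroup.mem_zpowers y)
        rw [Sylow.coe_subgroup_smul, Subgroup.mem_pointwise_smul_iff_inv_smul_mem] at this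
        simpa [mul_assoc] using this
    obtain ⟨g, hg⟩ := MulAction.exists_smul_eq G P Q
    rw [Nat.card_eq_one_iff_exists]
    refine ⟨⟨QuotientGroup.mk g, (mem_fixedBy_mk _ _ _).2 ((key g).2 hg)⟩, ?_⟩
    rintro ⟨q, hq⟩
    obtain ⟨g', rfl⟩ := QuotientGroup.mk_surjective q
    have h' := (key g').1 ((mem_fixedBy_mk _ _ _).1 hq)
    apply Subtype.ext
    show (QuotientGroup.mk g' : G ⧸ N) = QuotientGroup.mk g
    rw [QuotientGroup.eq]
    apply Sylow.smul_eq_iff_mem_normalizer.1
    rw [mul_smul, hg, ← h', inv_smul_smul]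
  · intro x hxN hxC
    let f : MulAction.fixedBy (G ⧸ Subgroup.normalizer ((P : Subgroup G) : Set G)) x →
      MulAction.orbitRel.Quotient (P : Subgroup G)
        (G ⧸ Subgroup.normalizer ((P : Subgroup G) : Set G)) := fun a => Quotient.mk'' a.1
    refine Nat.card_le_card_of_injective f ?_
    rintro ⟨b, hb⟩ ⟨a, ha⟩ h
    have h2 : b ∈ MulAction.orbit (P : Subgroup G) a := Quotient.exact' h
    obtain ⟨u, hu⟩ := h2
    apply Subtype.ext
    show b = a
    have hu' : (u : G) • a = b := hu
    rw [MulAction.mem_fixedBy] at ha hb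
    set v : (P : Subgroup G) :=
      ⟨x * u * x⁻¹, (Subgroup.mem_normalizer_iff.1 hxN u).1 u.2⟩ with hv
    have hw : (u⁻¹ * v) ∈ MulAction.stabilizer (P : Subgroup G) a := by
      rw [MulAction.mem_stabilizer_iff, mul_smul, inv_smul_eq_iff]
      show (x * u * x⁻¹) • a = (u : G) • a
      rw [mul_smul, mul_smul, inv_smul_eq_iff.2 ha.symm, hu', hb]
    haveI : Fact (Nat.card (P : Subgroup G)).Prime := ⟨by rw [hP]; exact hp⟩
    rcases Subgroup.eq_bot_or_eq_top_of_prime_card
      (MulAction.stabilizer (P : Subgroup G) a) with hs | hs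
    · rw [hs, Subgroup.mem_bot, inv_mul_eq_one] at hw
      by_cases hu1 : u = 1
      · rw [← hu', hu1, Subgroup.coe_one, one_smul]
      · exfalso
        apply hxC
        have hz : Subgroup.zpowers u = ⊤ := zpowers_eq_top_of_prime_card hP hu1
        intro y hy
        obtain ⟨n, hn⟩ := Subgroup.mem_zpowers_iff.1
          (show (⟨y, hy⟩ : (P : Subgroup G)) ∈ Subgroup.zpowers u by rw [hz]; trivial)
        have hc : Commute x (u : G) := by
          have : (u : G) = x * u * x⁻¹ := congrArg Subtype.val hw
          show x * u = u * x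
          conv_rhs => rw [this]
          group
        rw [show y = (u : G) ^ n by rw [← Subgroup.coe_zpow, hn]]
        exact (hc.zpow_right n).symm
    · have : u ∈ MulAction.stabilizer (P : Subgroup G) a := by rw [hs]; trivial
      rw [← hu']
      exact this

end Cfsg.Agent.S1018
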