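import Cfsg.Statements.S1014
import Mathlib
import Cfsg.Agent.S1018

set_option autoImplicit false
open Cfsg

namespace Cfsg.Agent.S1014

theorem perm_hom_sign {G : Type*} [Group G] [Finite G] [IsSimpleGroup G] (h2 : 2 < Nat.card G)
    {X : Type*} [Fintype X] [DecidableEq X] (f : G →* Equiv.Perm X) (g : G) :
    Equiv.Perm.sign (f g) = 1 := by
  set s := Equiv.Perm.sign.comp f with hs
  rcases s.normal_ker.eq_bot_or_eq_top with h | h
  · have := Nat.card_le_card_of_injective s (s.ker_eq_bot_iff.1 h)
    rw [Nat.card_eq_fintype_card (α := ℤˣ), Fintype.card_units_int] at this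
    omega
  · exact (s.mem_ker).1 (show g ∈ s.ker by rw [h]; trivial)


/-- No finite simple group has order 1104 = 2^4 * 3 * 23. -/
theorem result {G : Type*} [Group G] [Finite G] [IsSimpleGroup G] : Nat.card G ≠ 1104 := by
  intro hG
  classical
  haveI : Fact (Nat.Prime 23) := ⟨by norm_num⟩
  haveI : Fact (Nat.Prime 2) := ⟨by norm_num⟩
  obtain ⟨P⟩ : Nonempty (Sylow 23 G) := inferInstance
  have hP : Nat.card (P : Subgroup G) = 23 := by
    rw [P.card_eq_multiplicity, hG, show (1104 : ℕ) = 23 ^ 1 * 48 by norm_num,
      Nat.factorization_mul (by norm_num) (by norm_num), Finsupp.add_apply,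
      Nat.Prime.factorization_pow (by norm_num), Finsupp.single_eq_same,
      Nat.factorization_eq_zero_of_not_dvd (by norm_num : ¬ 23 ∣ 48), add_zero, pow_one]
  have hnorm : ¬ (P : Subgroup G).Normal := by
    intro h
    rcases h.eq_bot_or_eq_top with h' | h'
    · rw [h', Subgroup.card_bot] at hP; norm_num at hP
    · rw [h', Subgroup.card_top, hG] at hP; norm_num at hP
  set N := Subgroup.normalizer ((P : Subgroup G) : Set G) with hN
  have hmul := (P : Subgroup G).card_mul_index
  rw [hP, hG] at hmul
  have hd := P.card_dvd_index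
  rw [show (P : Subgroup G).index = 48 by omega] at hd
  have hm := card_sylow_modEq_one 23 G
  have hidx : N.index = 24 := by
    show (Subgroup.normalizer (P : Set G)).index = 24
    rw [← Sylow.card_eq_index_normalizer P]
    have hle := Nat.le_of_dvd (by norm_num) hd
    have h1 : Nat.card (Sylow 23 G) ≠ 1 := by
      intro h
      have hs : Subsingleton (Sylow 23 G) := (Nat.card_eq_one_iff_unique.1 h).1
      exact hnorm (Sylow.normal_of_subsingleton P)
    unfold Nat.ModEq at hm
    interval_cases Nat.card (Sylow 23 G) <;> omega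
  have hNc : Nat.card N = 46 := by
    have := N.card_mul_index
    rw [hidx, hG] at this
    omega
  -- an involution x of N
  obtain ⟨x', hx'⟩ := exists_prime_orderOf_dvd_card' 2 (show 2 ∣ Nat.card N by rw [hNc]; norm_num)
  set x : G := (x' : G) with hxdef
  have hx : orderOf x = 2 := by rw [hxdef, Subgroup.orderOf_coe, hx']
  have hxC : x ∉ Subgroup.centralizer ((P : Subgroup G) : Set G) := by
    intro hxC
    haveI : IsCyclic (P : Subgroup G) := isCyclic_of_prime_card hP
    have hPC : (P : Subgroup G) ≤ Subgroup.centralizer ((P : Subgroup G) : Set G) := fun y hy z hz => by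
      have := IsMulCommutative.is_comm.comm (⟨z, hz⟩ : (P : Subgroup G)) ⟨y, hy⟩
      exact congrArg (fun w : (P : Subgroup G) => (w : G)) this
    have hle : N ≤ Subgroup.centralizer ((P : Subgroup G) : Set G) := by
      set M := (P : Subgroup G) ⊔ Subgroup.zpowers x with hMdef
      have hMN : M ≤ N := sup_le Subgroup.le_normalizer (Subgroup.zpowers_le.2 x'.2)
      have h23 : 23 ∣ Nat.card M := hP ▸ Subgroup.card_dvd_of_le le_sup_left
      have h2 : 2 ∣ Nat.card M := by
        have := Subgroup.card_dvd_of_le (H := Subgroup.zpowers x) (K := M) le_sup_right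
        rwa [Nat.card_zpowers, hx] at this
      have h46 : 46 ∣ Nat.card M := (show Nat.Coprime 2 23 by norm_num).mul_dvd_of_dvd_of_dvd h2 h23
      have : M = N := Subgroup.eq_of_le_of_card_ge hMN
        (by rw [hNc]; exact Nat.le_of_dvd Nat.card_pos h46)
      rw [← this]
      exact sup_le hPC (Subgroup.zpowers_le.2 hxC)
    have hc := MonoidHom.ker_transferSylow_isComplement' P hle
    rcases (MonoidHom.transferSylow P hle).normal_ker.eq_bot_or_eq_top with h | h
    · rw [h, Subgroup.isComplement'_bot_left] at hc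
      exact hnorm (hc ▸ inferInstance)
    · rw [h, Subgroup.isComplement'_top_left] at hc
      rw [hc, Subgroup.card_bot] at hP
      norm_num at hP
  haveI : Fintype (G ⧸ N) := Fintype.ofFinite _
  haveI : Fintype (P : Subgroup G) := Fintype.ofFinite _
  have hX : Fintype.card (G ⧸ N) = 24 := by
    rw [← Nat.card_eq_fintype_card]; exact hidx
  obtain ⟨hone, hfix⟩ := Cfsg.Agent.S1018.result 23 P hP
  have horb : Nat.card (MulAction.orbitRel.Quotient (P : Subgroup G) (G ⧸ N)) = 2 := by
    have hb := MulAction.sum_card_fixedBy_eq_card_orbits_mul_card_group (P : Subgroup G) (G ⧸ N)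
    rw [← Nat.card_eq_fintype_card, ← Nat.card_eq_fintype_card, hP] at hb
    have hsum : ∑ a : (P : Subgroup G), Fintype.card (MulAction.fixedBy (G ⧸ N) a) =
        24 + 22 := by
      rw [← Finset.add_sum_erase _ _ (Finset.mem_univ 1), Finset.sum_congr rfl (g := fun _ => 1)]
      · rw [Finset.sum_const, Finset.card_erase_of_mem (Finset.mem_univ _), Finset.card_univ,
          ← Nat.card_eq_fintype_card (α := (P : Subgroup G)), hP, ← Nat.card_eq_fintype_card,
          MulAction.fixedBy_one_eq_univ, Nat.card_univ, Nat.card_eq_fintype_card, hX]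
        rfl
      · intro a ha
        rw [← Nat.card_eq_fintype_card]
        refine hone (a : G) ?_
        rw [Subgroup.orderOf_coe]
        exact orderOf_eq_prime (by
          have h : a ^ Nat.card (P : Subgroup G) = 1 := pow_card_eq_one'
          rwa [hP] at h) (Finset.ne_of_mem_erase ha)
    rw [hsum] at hb
    change 24 + 22 = Nat.card (MulAction.orbitRel.Quotient (P : Subgroup G) (G ⧸ N)) * 23 at hb
    omega
  set σ := MulAction.toPermHom G (G ⧸ N) x with hσdef
  have hfle : Nat.card (MulAction.fixedBy (G ⧸ N) x) ≤ 2 := horb ▸ hfix x x'.2 hxC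
  have hfeq : Nat.card (MulAction.fixedBy (G ⧸ N) x) = 24 - σ.support.card := by
    rw [Nat.card_eq_fintype_card, Fintype.card_of_finset' σ.supportᶜ, Finset.card_compl, hX]
    intro a
    simp [Equiv.Perm.mem_support, hσdef]
  have hfpos : 0 < Nat.card (MulAction.fixedBy (G ⧸ N) x) := by
    haveI : Nonempty (MulAction.fixedBy (G ⧸ N) x) :=
      ⟨⟨QuotientGroup.mk 1, (Cfsg.Agent.S1018.mem_fixedBy_mk N x 1).2 (by simp [hxdef, x'.2])⟩⟩
    exact Nat.card_pos
  have hord : σ ^ 2 = 1 := by rw [hσdef, ← map_pow, ← hx, pow_orderOf_eq_one, map_one]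
  have hne : σ ≠ 1 := by
    intro h
    rw [h, Equiv.Perm.support_one, Finset.card_empty] at hfeq
    omega
  obtain ⟨m, hm2⟩ := Equiv.Perm.cycleType_prime_order
    (show (orderOf σ).Prime by rw [orderOf_eq_prime hord hne]; norm_num)
  rw [orderOf_eq_prime hord hne] at hm2
  have hsum := σ.sum_cycleType
  rw [hm2, Multiset.sum_replicate, smul_eq_mul] at hsum
  have hm' : m = 10 := by omega
  have hsign := perm_hom_sign (by omega : 2 < Nat.card G) (MulAction.toPermHom G (G ⧸ N)) x
  rw [← hσdef, Equiv.Perm.sign_of_cycleType, hm2, hm', Multiset.sum_replicate,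
    Multiset.card_replicate] at hsign
  revert hsign
  decide

end Cfsg.Agent.S1014
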