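import Cfsg.Statements.S1015
import Mathlib

set_option autoImplicit false
open Cfsg

namespace Cfsg.Agent.S1015

theorem card_dvd_index_factorial {G : Type*} [Group G] [Finite G] [IsSimpleGroup G] (H : Subgroup G)
    (hH : H ≠ ⊤) : Nat.card G ∣ H.index.factorial := by
  classical
  have hinj : Function.Injective (MulAction.toPermHom G (G ⧸ H)) := by
    rw [← MonoidHom.ker_eq_bot_iff, ← Subgroup.normalCore_eq_ker]
    rcases (Subgroup.normalCore_normal H).eq_bot_or_eq_top with h | h
    · exact h
    · exact absurd (top_le_iff.1 (h ▸ H.normalCore_le)) hH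
  have := Subgroup.card_dvd_of_injective _ hinj
  rwa [Nat.card_perm] at this


/-- No finite simple group has order 1200 = 2^4 * 3 * 5^2. -/
theorem result {G : Type*} [Group G] [Finite G] [IsSimpleGroup G] : Nat.card G ≠ 1200 := by
  intro hG
  haveI : Fact (Nat.Prime 5) := ⟨by norm_num⟩
  obtain ⟨P⟩ : Nonempty (Sylow 5 G) := inferInstance
  have hP : ∀ Q : Sylow 5 G, Nat.card (Q : Subgroup G) = 5 ^ 2 := fun Q => by
    rw [Q.card_eq_multiplicity, hG, show (1200 : ℕ) = 5 ^ 2 * 48 by norm_num,
      Nat.factorization_mul (by norm_num) (by norm_num), Finsupp.add_apply,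
      Nat.Prime.factorization_pow (by norm_num), Finsupp.single_eq_same,
      Nat.factorization_eq_zero_of_not_dvd (by norm_num : ¬ 5 ∣ 48), add_zero]
  -- no subgroup of index below ten
  have hidx : ∀ H : Subgroup G, H ≠ ⊤ → 10 ≤ H.index := by
    intro H hH
    by_contra h
    have := card_dvd_index_factorial H hH
    rw [hG] at this
    have h' : H.index < 10 := by omega
    interval_cases H.index <;> revert this <;> decide
  have hn1 : Nat.card (Sylow 5 G) ≠ 1 := by
    intro h
    have hnorm : (P : Subgroup G).Normal := by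
      have hs : Subsingleton (Sylow 5 G) := (Nat.card_eq_one_iff_unique.1 h).1
      exact Sylow.normal_of_subsingleton P
    rcases hnorm.eq_bot_or_eq_top with h' | h'
    · have := hP P; rw [h', Subgroup.card_bot] at this; norm_num at this
    · have := hP P; rw [h', Subgroup.card_top, hG] at this; norm_num at this
  have hnle : Nat.card (Sylow 5 G) ≤ 16 := by
    have hd := P.card_dvd_index
    have hmul := (P : Subgroup G).card_mul_index
    rw [hP P, hG] at hmul
    have hi : (P : Subgroup G).index = 48 := by omega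
    rw [hi] at hd
    have hm := card_sylow_modEq_one 5 G
    have hle := Nat.le_of_dvd (by norm_num) hd
    unfold Nat.ModEq at hm
    by_contra hgt
    have h' : 16 < Nat.card (Sylow 5 G) := by omega
    interval_cases Nat.card (Sylow 5 G) <;> omega
  -- a second Sylow subgroup meeting P
  have hpos : 0 < Nat.card (Sylow 5 G) := Nat.card_pos
  obtain ⟨R, hR⟩ : ∃ R : Sylow 5 G, R ≠ P := by
    by_contra hall
    push Not at hall
    exact hn1 (Nat.card_eq_one_iff_unique.2 ⟨⟨fun a b => by rw [hall a, hall b]⟩, ⟨P⟩⟩)
  have horb : Nat.card (MulAction.orbit (P : Subgroup G) R) ≤ 16 :=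
    le_trans (Nat.card_le_card_of_injective _ Subtype.val_injective) hnle
  have hstab : MulAction.stabilizer (P : Subgroup G) R ≠ ⊥ := by
    intro h
    have := MulAction.index_stabilizer (P : Subgroup G) R
    rw [h, Subgroup.index_bot, hP P] at this
    rw [Nat.card_coe_set_eq] at horb
    omega
  obtain ⟨u, hu, hu1⟩ := (Subgroup.ne_bot_iff_exists_ne_one.1 hstab) |> fun ⟨u, h⟩ =>
    (⟨u.1, u.2, fun h' => h (Subtype.ext h')⟩ :
      ∃ u, u ∈ MulAction.stabilizer (P : Subgroup G) R ∧ u ≠ 1)
  have huR : (u : G) ∈ (R : Subgroup G) := by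
    have h1 : (u : G) ∈ Subgroup.normalizer ((R : Subgroup G) : Set G) :=
      Sylow.smul_eq_iff_mem_normalizer.1 hu
    have hz : IsPGroup 5 (Subgroup.zpowers (u : G)) :=
      P.isPGroup'.to_le (Subgroup.zpowers_le.2 u.2)
    exact ((hz.inf_normalizer_sylow R).le ⟨Subgroup.mem_zpowers _, h1⟩).2
  have hcomm : ∀ Q : Sylow 5 G, (u : G) ∈ (Q : Subgroup G) →
      (Q : Subgroup G) ≤ Subgroup.centralizer {(u : G)} := by
    intro Q huQ y hy
    rw [Subgroup.mem_centralizer_singleton_iff]
    haveI := IsPGroup.isMulCommutative_of_card_eq_prime_sq (hP Q)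
    have := IsMulCommutative.is_comm.comm (⟨y, hy⟩ : (Q : Subgroup G)) ⟨u, huQ⟩
    exact congrArg (fun z : (Q : Subgroup G) => (z : G)) this
  set C := Subgroup.centralizer {(u : G)} with hC
  have hCtop : C ≠ ⊤ := by
    intro h
    have hc : (u : G) ∈ Subgroup.center G := by
      rw [Subgroup.mem_center_iff]
      intro g
      exact Subgroup.mem_centralizer_singleton_iff.1 (show g ∈ C by rw [h]; trivial)
    rcases (inferInstance : (Subgroup.center G).Normal).eq_bot_or_eq_top with h' | h'
    · rw [h', Subgroup.mem_bot] at hc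
      exact hu1 (Subtype.ext hc)
    · have hn : (P : Subgroup G).Normal := ⟨fun n hn g => by
        have : g * n = n * g := (Subgroup.mem_center_iff.1 (show n ∈ Subgroup.center G by rw [h']; trivial)) g
        rw [this]; simpa using hn⟩
      rcases hn.eq_bot_or_eq_top with h'' | h''
      · have := hP P; rw [h'', Subgroup.card_bot] at this; norm_num at this
      · have := hP P; rw [h'', Subgroup.card_top, hG] at this; norm_num at this
  have h25 : 25 ∣ Nat.card C := by
    have := Subgroup.card_dvd_of_le (hcomm P u.2)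
    rwa [hP P] at this
  have hCle : Nat.card C ≤ 120 := by
    have h10 := hidx C hCtop
    have := C.card_mul_index
    rw [hG] at this
    nlinarith
  have hCdvd : Nat.card C ∣ 1200 := hG ▸ C.card_subgroup_dvd_card
  set P' := P.subtype (hcomm P u.2)
  set R' := R.subtype (hcomm R huR)
  have hne : P' ≠ R' := fun h => hR (Sylow.subtype_injective h).symm
  have hm := card_sylow_modEq_one 5 C
  have hgt : 1 < Nat.card (Sylow 5 C) := Finite.one_lt_card_iff_nontrivial.2 ⟨⟨P', R', hne⟩⟩
  have hd := P'.card_dvd_index
  have hmul := (P' : Subgroup C).card_mul_index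
  have hc' : Nat.card (P' : Subgroup C) = 25 := by
    rw [show (P' : Subgroup C) = (P : Subgroup G).subgroupOf C from rfl,
      Nat.card_congr (Subgroup.subgroupOfEquivOfLe (hcomm P u.2)).toEquiv, hP P]
    norm_num
  rw [hc'] at hmul
  have hile : (P' : Subgroup C).index ≤ 4 := by omega
  have hipos : (P' : Subgroup C).index ≠ 0 := by
    intro h; rw [h] at hmul
    have : 0 < Nat.card C := Nat.card_pos
    omega
  have hle := Nat.le_of_dvd (Nat.pos_of_ne_zero hipos) hd
  unfold Nat.ModEq at hm
  omega

end Cfsg.Agent.S1015
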