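import Mathlib
import Cfsg.Statements.S1019
-- import your own Cfsg.Agent.* helpers here

set_option autoImplicit false
open Cfsg

namespace Cfsg.Agent.S1019

theorem card_conj_fibre {G : Type*} [Group G] (x : G) (P : G → Prop) :
    Nat.card {g : G // P (g⁻¹ * x * g)} =
      Nat.card {y : G // IsConj x y ∧ P y} * Nat.card (Subgroup.centralizer ({x} : Set G)) := by
  classical
  rw [← Nat.card_prod]
  have hc : ∀ y : {y : G // IsConj x y ∧ P y}, ∃ c : G, c⁻¹ * x * c = y.1 := fun y => by
    obtain ⟨c, hc⟩ := isConj_iff.1 y.2.1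
    exact ⟨c⁻¹, by simpa using hc⟩
  choose c hc using hc
  have key : ∀ g : {g : G // P (g⁻¹ * x * g)},
      IsConj x (g.1⁻¹ * x * g.1) ∧ P (g.1⁻¹ * x * g.1) :=
    fun g => ⟨isConj_iff.2 ⟨g.1⁻¹, by simp⟩, g.2⟩
  refine Nat.card_congr
    { toFun := fun g => (⟨_, key g⟩, ⟨g.1 * (c ⟨_, key g⟩)⁻¹, ?_⟩)
      invFun := fun q => ⟨q.2.1 * c q.1, ?_⟩
      left_inv := ?_
      right_inv := ?_ }
  · rw [Subgroup.mem_centralizer_singleton_iff]
    have h := hc ⟨_, key g⟩
    simp only at h
    generalize c ⟨_, key g⟩ = d at h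
    have : x = d * (g.1⁻¹ * x * g.1) * d⁻¹ := by rw [← h]; group
    calc g.1 * d⁻¹ * x = g.1 * d⁻¹ * (d * (g.1⁻¹ * x * g.1) * d⁻¹) := by rw [← this]
      _ = x * (g.1 * d⁻¹) := by group
  · have h := Subgroup.mem_centralizer_singleton_iff.1 q.2.2
    have e : (q.2.1 * c q.1)⁻¹ * x * (q.2.1 * c q.1) = q.1.1 := by
      calc _ = (c q.1)⁻¹ * q.2.1⁻¹ * (x * q.2.1) * c q.1 := by group
        _ = (c q.1)⁻¹ * x * c q.1 := by rw [← h]; group
        _ = _ := hc q.1
    rw [e]; exact q.1.2.2
  · intro g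
    apply Subtype.ext
    simp
  · intro q
    have h := Subgroup.mem_centralizer_singleton_iff.1 q.2.2
    have e : (q.2.1 * c q.1)⁻¹ * x * (q.2.1 * c q.1) = q.1.1 := by
      calc _ = (c q.1)⁻¹ * q.2.1⁻¹ * (x * q.2.1) * c q.1 := by group
        _ = (c q.1)⁻¹ * x * c q.1 := by rw [← h]; group
        _ = _ := hc q.1
    apply Prod.ext
    · exact Subtype.ext e
    · apply Subtype.ext
      show q.2.1 * c q.1 * (c _)⁻¹ = q.2.1
      rw [show (⟨_, key _⟩ : {y : G // IsConj x y ∧ P y}) = q.1 from Subtype.ext e]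
      simp


/-- Let H be a subgroup of a finite group G and x an element of H. In the action of G on the left cosets of H, the number of cosets fixed by x, multiplied by the size of the conjugacy class of x, equals the index of H multiplied by the number of conjugates of x that lie in H. -/
theorem result {G : Type*} [Group G] [Finite G] (H : Subgroup G) (x : G) (hx : x ∈ H) : Nat.card (MulAction.fixedBy (G ⧸ H) x) * Nat.card {g : G // IsConj x g} = H.index * Nat.card {g : G // IsConj x g ∧ g ∈ H} := by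
  classical
  have h1 : Nat.card {g : G // g⁻¹ * x * g ∈ H} =
      Nat.card H * Nat.card (MulAction.fixedBy (G ⧸ H) x) := by
    rw [← QuotientGroup.card_preimage_mk]
    apply Nat.card_congr
    refine Equiv.subtypeEquivRight fun g => ?_
    show g⁻¹ * x * g ∈ H ↔ (QuotientGroup.mk g : G ⧸ H) ∈ MulAction.fixedBy (G ⧸ H) x
    rw [MulAction.mem_fixedBy, MulAction.Quotient.smul_mk, eq_comm, QuotientGroup.eq, smul_eq_mul,
      mul_assoc]
  have h2 := card_conj_fibre x (fun y => y ∈ H)
  have h3 := card_conj_fibre x (fun _ => True)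
  rw [Nat.card_congr (Equiv.subtypeUnivEquiv fun _ => trivial)] at h3
  simp only [and_true] at h3
  have hi := H.index_mul_card
  have pos : 0 < Nat.card H := Nat.card_pos
  apply Nat.eq_of_mul_eq_mul_right pos
  rw [h2] at h1
  calc Nat.card (MulAction.fixedBy (G ⧸ H) x) * Nat.card {g : G // IsConj x g} * Nat.card H
      = (Nat.card H * Nat.card (MulAction.fixedBy (G ⧸ H) x)) * Nat.card {g : G // IsConj x g} := by
        ring
    _ = Nat.card {g : G // IsConj x g ∧ g ∈ H} * (Nat.card {g : G // IsConj x g} *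
          Nat.card (Subgroup.centralizer ({x} : Set G))) := by rw [← h1]; ring
    _ = Nat.card {g : G // IsConj x g ∧ g ∈ H} * (H.index * Nat.card H) := by rw [← h3, hi]
    _ = _ := by ring

end Cfsg.Agent.S1019
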