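import Cfsg.Statements.S1022
import Cfsg.Agent.Lib.SmallSimple.CentralizerOrbits
import Cfsg.Agent.Lib.SmallSimple.ExceptionalDegree
import Cfsg.Agent.Lib.DefectOne.PrincipalOne
import Cfsg.Agent.Lib.DefectOne.Three
import Cfsg.Agent.Lib.Blocks.PPartDefect
import Cfsg.Agent.Lib.BrauerPairs.Lift
import Cfsg.Agent.Lib.Char.TwoDegrees
import Cfsg.Agent.Lib.Char.PRegular
import Cfsg.Agent.Lib.Transfer.Burnside
import Cfsg.Agent.Lib.BlockLow.Valuation
-- import your own Cfsg.Agent.* helpers here

set_option autoImplicit false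
open Cfsg

namespace Cfsg.Agent.S1022

open scoped ComplexConjugate

universe u

variable {G : Type u} [Group G] [Finite G]

section Index

open MulAction

variable [IsSimpleGroup G] {p : ℕ} [hp : Fact p.Prime]

theorem perm_three : ∀ k ≤ 3, ∀ σ : Equiv.Perm (Fin k),
    Equiv.Perm.sign σ = 1 → σ * σ = 1 → σ = 1 := by
  intro k hk
  interval_cases k <;> decide

/-- An involution centralising a Sylow subgroup of order `p`, whose centraliser contains that of
the Sylow subgroup, has centraliser of index at least `4p`. -/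
theorem four_mul_le_index (hG : ¬ IsMulCommutative G) (hp2 : Odd p) (P : Sylow p G)
    (hP : Nat.card (P : Subgroup G) = p) {z : G} (hz : orderOf z = 2)
    (hzC : z ∈ Subgroup.centralizer ((P : Subgroup G) : Set G))
    (hCH : Subgroup.centralizer ((P : Subgroup G) : Set G) ≤ Subgroup.centralizer ({z} : Set G)) :
    4 * p ≤ (Subgroup.centralizer ({z} : Set G)).index := by
  classical
  by_contra hlt
  set H := Subgroup.centralizer ({z} : Set G) with hH
  haveI := Fintype.ofFinite G
  haveI := Fintype.ofFinite (G ⧸ H)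
  haveI := Fintype.ofFinite (P : Subgroup G)
  have hz1 : z ≠ 1 := fun h => by simp [h] at hz
  have hHtop : H ≠ ⊤ := SmallSimple.centralizer_singleton_ne_top hG hz1
  have hPH : (P : Subgroup G) ≤ H := fun a ha =>
    Subgroup.mem_centralizer_singleton_iff.2 (hzC a ha)
  have hfixed : ∀ x : G ⧸ H, (∀ a ∈ (P : Subgroup G), a • x = x) → z • x = x := by
    intro x hx
    induction x using QuotientGroup.induction_on with
    | H g =>
      rw [MulAction.Quotient.smul_coe, QuotientGroup.eq, smul_eq_mul, mul_inv_rev]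
      have hmem : ∀ a ∈ (P : Subgroup G), g⁻¹ * a * g ∈ H := by
        intro a ha
        have h := hx a⁻¹ (inv_mem ha)
        rw [MulAction.Quotient.smul_coe, QuotientGroup.eq, smul_eq_mul, mul_inv_rev, inv_inv] at h
        exact h
      have hconj : ∀ a, a ∈ ((g⁻¹ • P : Sylow p G) : Subgroup G) → a ∈ H := by
        intro a ha
        obtain ⟨b, hb, rfl⟩ := Subgroup.mem_pointwise_smul_iff_inv_smul_mem.1 ha |> fun h =>
          (⟨_, h, rfl⟩ : ∃ b, b ∈ (P : Subgroup G) ∧ b = (MulAut.conj g⁻¹)⁻¹ • a)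
        have := hmem _ hb
        simpa [MulAut.smul_def, mul_assoc] using this
      obtain ⟨h, hh⟩ := MulAction.exists_smul_eq H ((g⁻¹ • P).subtype hconj) (P.subtype hPH)
      set n : G := (h : G) * g⁻¹
      have hn : ∀ a ∈ (P : Subgroup G), n * a * n⁻¹ ∈ (P : Subgroup G) := by
        intro a ha
        have h1 : g⁻¹ * a * g ∈ ((g⁻¹ • P : Sylow p G) : Subgroup G) := by
          have := Subgroup.smul_mem_pointwise_smul a (MulAut.conj g⁻¹) (P : Subgroup G) ha
          simp only [MulAut.smul_def, MulAut.conj_apply, inv_inv] at this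
          exact this
        have h2 : (⟨g⁻¹ * a * g, hmem a ha⟩ : H) ∈ (((g⁻¹ • P).subtype hconj : Sylow p H) : Subgroup H) :=
          h1
        have h3 := Subgroup.smul_mem_pointwise_smul _ (MulAut.conj h) _ h2
        rw [← Sylow.coe_subgroup_smul] at h3
        have h4 : MulAut.conj h • (⟨g⁻¹ * a * g, hmem a ha⟩ : H) ∈ ((P.subtype hPH : Sylow p H) : Subgroup H) := by
          rw [← hh]; exact h3
        have h5 : (h : G) * (g⁻¹ * a * g) * (h : G)⁻¹ ∈ (P : Subgroup G) := h4
        simpa [n, mul_assoc] using h5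
      have hzc : n * z * n⁻¹ ∈ Subgroup.centralizer ((P : Subgroup G) : Set G) := by
        have hsurj : ∀ b ∈ (P : Subgroup G), n⁻¹ * b * n ∈ (P : Subgroup G) := by
          have hN : n ∈ Subgroup.normalizer ((P : Subgroup G) : Set G) := by
            have hle : (P : Subgroup G).map (MulAut.conj n).toMonoidHom ≤ P := by
              rintro _ ⟨a, ha, rfl⟩; exact hn a ha
            have heq := Subgroup.eq_of_le_of_card_ge hle
              (Subgroup.card_map_of_injective (MulAut.conj n).injective).ge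
            rw [Subgroup.mem_normalizer_iff]
            refine fun a => ⟨hn a, fun ha => ?_⟩
            rw [← heq] at ha
            obtain ⟨b, hb, hba⟩ := ha
            rwa [← (MulAut.conj n).injective hba]
          intro b hb
          exact (Subgroup.mem_normalizer_iff''.1 hN b).1 hb
        intro b hb
        have := hzC _ (hsurj b hb)
        calc b * (n * z * n⁻¹) = n * ((n⁻¹ * b * n) * z) * n⁻¹ := by group
          _ = n * (z * (n⁻¹ * b * n)) * n⁻¹ := by rw [this]
          _ = n * z * n⁻¹ * b := by group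
      have h5 := mul_mem (mul_mem (inv_mem h.2) (hCH hzc)) h.2
      have hzinv : z⁻¹ = z := inv_eq_of_mul_eq_one_right (by rw [← pow_two, ← hz, pow_orderOf_eq_one])
      rw [hzinv]
      simpa [n, mul_assoc] using h5
  let X := {x : G ⧸ H // ∃ a ∈ (P : Subgroup G), a • x ≠ x}
  let K := Subgroup.zpowers z
  have hKC : K ≤ Subgroup.centralizer ((P : Subgroup G) : Set G) := Subgroup.zpowers_le.2 hzC
  letI actP : MulAction (P : Subgroup G) X :=
    { smul := fun a x => ⟨(a : G) • x.1, by
        obtain ⟨b, hb, hbx⟩ := x.2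
        refine ⟨(a : G) * b * (a : G)⁻¹, mul_mem (mul_mem a.2 hb) (inv_mem a.2), fun h => hbx ?_⟩
        rw [← mul_smul, inv_mul_cancel_right, mul_smul] at h
        exact smul_left_cancel _ h⟩
      one_smul := fun x => Subtype.ext (one_smul G x.1)
      mul_smul := fun a b x => Subtype.ext (mul_smul (a : G) (b : G) x.1) }
  letI actK : MulAction K X :=
    { smul := fun a x => ⟨(a : G) • x.1, by
        obtain ⟨b, hb, hbx⟩ := x.2
        refine ⟨b, hb, fun h => hbx (smul_left_cancel (a : G) ?_)⟩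
        rw [← mul_smul] at h ⊢
        rwa [← hKC a.2 b hb]⟩
      one_smul := fun x => Subtype.ext (one_smul G x.1)
      mul_smul := fun a b x => Subtype.ext (mul_smul (a : G) (b : G) x.1) }
  haveI : SMulCommClass K (P : Subgroup G) X := ⟨fun a b x => Subtype.ext (by
    show (a : G) • (b : G) • x.1 = (b : G) • (a : G) • x.1
    rw [← mul_smul, ← mul_smul, hKC a.2 b b.2])⟩
  have hfree : ∀ (a : (P : Subgroup G)) (x : X), a • x = x → a = 1 := by
    intro a x h
    by_contra ha
    obtain ⟨b, hb, hbx⟩ := x.2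
    obtain ⟨i, hi⟩ := Subgroup.mem_zpowers_iff.1
      (mem_zpowers_of_prime_card hP ha : (⟨b, hb⟩ : (P : Subgroup G)) ∈ Subgroup.zpowers a)
    apply hbx
    have ha' : (a : G) ∈ MulAction.stabilizer G x.1 := congrArg Subtype.val h
    have hbe : b = (a : G) ^ i := by rw [← Subgroup.coe_zpow, hi]
    rw [hbe]
    exact zpow_mem ha' i
  set Ω := Quotient (orbitRel (P : Subgroup G) X)
  haveI := Fintype.ofFinite Ω
  let zK : K := ⟨z, Subgroup.mem_zpowers z⟩
  have hle : Fintype.card Ω ≤ 3 := by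
    have h1 := SmallSimple.card_eq_orbits_mul (P := (P : Subgroup G)) (X := X) hfree
    have h2 : Nat.card X ≤ H.index := Finite.card_subtype_le _
    rw [h1, hP, Nat.card_eq_fintype_card] at h2
    have h3 := not_le.1 hlt
    have : Fintype.card Ω < 4 := Nat.lt_of_mul_lt_mul_right (lt_of_le_of_lt h2 h3)
    omega
  set σ := SmallSimple.orbitPerm (P := (P : Subgroup G)) (X := X) zK with hσ
  have hsign : Equiv.Perm.sign σ = 1 := by
    rw [hσ, SmallSimple.sign_orbitPerm hfree (by rw [← Nat.card_eq_fintype_card, hP]; exact hp2)]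
    have h := SmallSimple.mem_alternating_of_simple hG (toPermHom G (G ⧸ H)) z
    rw [Equiv.Perm.mem_alternatingGroup] at h
    refine Eq.trans ?_ h
    refine Eq.trans ?_ (Equiv.Perm.sign_subtypePerm (toPermHom G (G ⧸ H) z)
      (p := fun x => ∃ a ∈ (P : Subgroup G), a • x ≠ x) (fun x => ?_) (fun x hx => ?_))
    · congr 1
    · simp only [MulAction.toPermHom_apply, MulAction.toPerm_apply]
      constructor
      · rintro ⟨a, ha, hax⟩
        refine ⟨a, ha, fun h' => hax ?_⟩
        rw [← mul_smul, hzC a ha, mul_smul, h']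
      · rintro ⟨a, ha, hax⟩
        refine ⟨a, ha, fun h' => hax (smul_left_cancel z ?_)⟩
        rw [← mul_smul, ← hzC a ha, mul_smul, h']
    · by_contra hc
      push Not at hc
      exact hx (hfixed x hc)
  have hzz : zK * zK = 1 := Subtype.ext (show z * z = 1 by rw [← pow_two, ← hz, pow_orderOf_eq_one])
  have hσ1 : σ = 1 := by
    have e := Fintype.equivFin Ω
    have h := perm_three _ hle (e.permCongrHom σ) (by simpa [Equiv.permCongrHom] using hsign)
      (by rw [← map_mul, hσ, ← map_mul, hzz, map_one, map_one])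
    exact e.permCongrHom.injective (h.trans (map_one _).symm)
  apply hz1
  refine SmallSimple.toPermHom_injective hHtop ?_
  rw [map_one]
  ext x
  show z • x = x
  by_cases hx : ∃ a ∈ (P : Subgroup G), a • x ≠ x
  · have h := Equiv.congr_fun hσ1 (Quotient.mk _ (⟨x, hx⟩ : X))
    rw [hσ, SmallSimple.orbitPerm_mk, Equiv.Perm.one_apply] at h
    obtain ⟨a, ha⟩ := Quotient.exact h
    have ha' : zK • (⟨x, hx⟩ : X) = a • ⟨x, hx⟩ := ha.symm
    have h2 : (a * a) • (⟨x, hx⟩ : X) = ⟨x, hx⟩ := by
      rw [mul_smul, ← ha', ← smul_comm, ← ha', ← mul_smul, hzz, one_smul]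
    have h3 : a * a = 1 := hfree _ _ h2
    have h4 : a = 1 := by
      have hd : orderOf a ∣ 2 := orderOf_dvd_of_pow_eq_one (by rw [pow_two, h3])
      have hd' : orderOf a ∣ p := (orderOf_dvd_natCard a).trans hP.dvd
      have hcop : Nat.Coprime 2 p := Nat.coprime_two_left.2 hp2
      exact orderOf_eq_one_iff.1 (Nat.eq_one_of_dvd_coprimes hcop hd hd')
    rw [h4, one_smul] at ha'
    exact congrArg Subtype.val ha'
  · push Not at hx
    exact hfixed x hx

end Index

theorem exists_modular (p : ℕ) (hp : p.Prime) :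
    ∃ M : Ideal AlgInt, M.IsMaximal ∧ (p : AlgInt) ∈ M := by
  have hne : Ideal.span {(p : AlgInt)} ≠ ⊤ := by
    intro h
    rw [Ideal.span_singleton_eq_top] at h
    obtain ⟨u, hu⟩ := h.exists_right_inv
    have h2 : IsIntegral ℤ (((1 : ℤ) : ℂ) / (p : ℂ)) := by
      have := congrArg Subtype.val hu
      push_cast at this
      rw [Int.cast_one, one_div, ← eq_inv_of_mul_eq_one_right this]
      exact u.2
    have := BlockLow.dvd_of_isIntegral_div hp.ne_zero h2
    exact hp.not_dvd_one (by exact_mod_cast this)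
  obtain ⟨M, hM, hle⟩ := Ideal.exists_le_maximal _ hne
  exact ⟨M, hM, hle (Ideal.subset_span rfl)⟩

theorem two_dvd_value_add {t : G} (ht : orderOf t = 2) (χ : IrrCharacter G) {w : ℤ}
    (hw : χ.1 t = (w : ℂ)) : (2 : ℤ) ∣ (Char.degree χ : ℤ) + w := by
  classical
  haveI := Fintype.ofFinite G
  have hcard : Nat.card (Subgroup.zpowers t) = 2 := by rw [Nat.card_zpowers, ht]
  obtain ⟨k, hk⟩ := Char.IsCharacter.exists_nat_classInner
    (Char.IsCharacter.restrict (Char.irr_isCharacter χ) (Subgroup.zpowers t))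
    (Char.irr_isCharacter (Char.trivialChar (Subgroup.zpowers t)))
  simp only [classInner, Char.trivialChar_apply, map_one, mul_one, hcard] at hk
  have hval : ∀ y : Subgroup.zpowers t, y ≠ 1 → χ.1 (y : G) = (w : ℂ) := by
    intro y hy
    obtain ⟨i, hi⟩ := mem_zpowers_iff_mem_range_orderOf.1 y.2 |> Finset.mem_image.1
    rw [ht, Finset.mem_range] at hi
    obtain ⟨hi2, hi⟩ := hi
    interval_cases i
    · exact absurd (Subtype.ext (by simpa using hi.symm)) hy
    · rw [← hi, pow_one, hw]
  rw [SmallSimple.sum_over_nontrivial (fun y : Subgroup.zpowers t => χ.1 (y : G)) (w : ℂ) hval,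
    Subgroup.coe_one, Char.apply_one_eq_degree, ← Nat.card_eq_fintype_card, hcard,
    inv_mul_eq_iff_eq_mul₀ (by norm_num)] at hk
  refine ⟨k, ?_⟩
  have h : (((Char.degree χ : ℤ) + w : ℤ) : ℂ) = (((2 * k : ℕ) : ℤ) : ℂ) := by
    push_cast at hk ⊢; linear_combination hk
  have h' : (Char.degree χ : ℤ) + w = ((2 * k : ℕ) : ℤ) := by exact_mod_cast h
  rw [h']; push_cast; ring

theorem check₁ : ∀ a ∈ [(-18 : ℤ), -56, 96, -189],
    ¬ ((1 + a).natAbs ∣ 24192 ∧ (1 + a - 2) % 19 = 0) := by decide +kernel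

theorem check₂ : ∀ a ∈ [(-18 : ℤ), -56, 96, -189], ∀ b ∈ [(-18 : ℤ), -56, 96, -189],
    ¬ ((1 + a + b).natAbs ∣ 24192 ∧ (1 + a + b - 3) % 19 = 0) := by decide +kernel

theorem check₅ : ∀ a ∈ [(-18 : ℤ), -56, 96, -189], ∀ b ∈ [(-18 : ℤ), -56, 96, -189],
    ∀ c ∈ [(-18 : ℤ), -56, 96, -189], ∀ d ∈ [(-18 : ℤ), -56, 96, -189], ∀ f ∈ [(-18 : ℤ), -56, 96, -189],
    ((1 + a + b + c + d + f).natAbs ∣ 24192 ∧ (1 + a + b + c + d + f - 6) % 19 = 0) →
      2 ≤ ([a, b, c, d, f].filter fun x => x % 2 == 0).length := by decide +kernel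

theorem degree_candidates_pos : ∀ d ∈ List.range 678, d ∣ 24192 ∧ 2 ≤ d ∧ d % 19 = 1 → d = 96 := by
  decide +kernel

theorem degree_candidates_neg : ∀ d ∈ List.range 678, d ∣ 24192 ∧ 2 ≤ d ∧ d % 19 = 18 →
    d = 18 ∨ d = 56 ∨ d = 189 := by
  decide +kernel

theorem degree_candidates (d : ℕ) (hd : d < 678) (h1 : d ∣ 24192) (h2 : 2 ≤ d) :
    (d % 19 = 1 → (d : ℤ) ∈ [(-18 : ℤ), -56, 96, -189]) ∧
    (d % 19 = 18 → -(d : ℤ) ∈ [(-18 : ℤ), -56, 96, -189]) := by
  refine ⟨fun h => ?_, fun h => ?_⟩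
  · rw [degree_candidates_pos d (List.mem_range.2 hd) ⟨h1, h2, h⟩]; simp
  · rcases degree_candidates_neg d (List.mem_range.2 hd) ⟨h1, h2, h⟩ with rfl | rfl | rfl <;> simp

theorem not_dvd_altFive : ¬ (7 : ℕ) ^ 1 ∣ Nat.card (alternatingGroup (Fin 5)) := by
  rw [nat_card_alternatingGroup, Nat.card_eq_fintype_card, Fintype.card_fin]
  decide

set_option maxHeartbeats 1000000 in
/-- No finite simple group has order 459648 = 2^7 * 3^3 * 7 * 19. -/
theorem result {G : Type*} [Group G] [Finite G] [IsSimpleGroup G] : Nat.card G ≠ 459648 := by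
  classical
  intro hn
  haveI := Fintype.ofFinite G
  haveI : Fact (Nat.Prime 19) := ⟨by norm_num⟩
  haveI : Fact (Nat.Prime 7) := ⟨by norm_num⟩
  have hG : ¬ IsMulCommutative G := fun h => by
    have := CharInt.card_prime_of_simple_comm (G := G) (fun a b => mul_comm' a b)
    rw [hn] at this
    norm_num at this
  obtain ⟨P⟩ : Nonempty (Sylow 19 G) := inferInstance
  have hP : Nat.card (P : Subgroup G) = 19 := by
    rw [SmallSimple.card_sylow_subgroup (k := 1) (m := 24192) (by rw [hn]; norm_num) (by norm_num) P,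
      pow_one]
  have hdvd : 19 ∣ Nat.card G := by rw [hn]; norm_num
  have hsN := SmallSimple.card_sylow_mul_card_normalizer P
  have hmod : Nat.card (Sylow 19 G) % 19 = 1 := card_sylow_modEq_one 19 G
  have h5 := SmallSimple.five_le_card_sylow hG hdvd
  set C := Subgroup.centralizer ((P : Subgroup G) : Set G) with hCdef
  set N := Subgroup.normalizer ((P : Subgroup G) : Set G) with hNdef
  obtain ⟨j, hj⟩ : 19 ∣ Nat.card N := hP ▸ Subgroup.card_dvd_of_le Subgroup.le_normalizer
  have hns : Nat.card (Sylow 19 G) = 96 ∨ Nat.card (Sylow 19 G) = 1008 := by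
    have hlist : ∀ d < 24193, d % 19 = 1 → 5 ≤ d → d ∣ 24192 → d = 96 ∨ d = 1008 := by
      intro d hd h1 h5 h2
      have : ∀ e ∈ (24192 : ℕ).divisors, e % 19 = 1 → 5 ≤ e → e = 96 ∨ e = 1008 := by decide +kernel
      exact this d (Nat.mem_divisors.2 ⟨h2, by norm_num⟩) h1 h5
    have hd : Nat.card (Sylow 19 G) * j = 24192 := by
      rw [hj, hn] at hsN
      linarith
    exact hlist _ (by have := Nat.le_of_dvd (by norm_num) ⟨j, hd.symm⟩; omega) hmod h5 ⟨j, hd.symm⟩
  rcases hns with hns | hns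
  · -- a centralising element of order 7 has no room on five orbits
    rw [hns, hn] at hsN
    have h7 : 7 ^ 1 ∣ Nat.card C := by
      have h1 := SmallSimple.card_normalizer_dvd P hP
      rw [show Nat.card N = 4788 by linarith] at h1
      have h2 : 7 ∣ Nat.card C * 18 := (by norm_num : 7 ∣ 4788).trans h1
      rcases (Nat.Prime.dvd_mul (by norm_num)).1 h2 with h3 | h3
      · simpa using h3
      · norm_num at h3
    exact SmallSimple.not_dvd_centralizer (k := 5) hG (by decide) hdvd P hP (by rw [hns])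
      (by norm_num) not_dvd_altFive h7
  rw [hns, hn] at hsN
  have hN : Nat.card N = 456 := by linarith
  have hCN : C ≤ N := SmallSimple.centralizer_le_normalizer _
  obtain ⟨M, hmax, hpM⟩ := exists_modular 19 (by norm_num)
  haveI := hmax
  obtain ⟨S⟩ := DefectOne.primeShape (P := P) (M := M) hpM hP (m := C.relIndex N) rfl
  set e := C.relIndex N with he
  have hec : Nat.card C * e = 456 := by
    rw [he, Subgroup.relIndex, ← hN, ← Nat.card_congr (Subgroup.subgroupOfEquivOfLe hCN).toEquiv]
    exact Subgroup.card_mul_index _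
  have hPC : (P : Subgroup G) ≤ C := by
    haveI : IsCyclic (P : Subgroup G) := isCyclic_of_prime_card hP
    intro a ha b hb
    have := IsCyclic.isMulCommutative (α := (P : Subgroup G))
    exact congrArg Subtype.val (mul_comm' (⟨b, hb⟩ : (P : Subgroup G)) ⟨a, ha⟩)
  have he1 : e ≠ 1 := by
    intro h1
    exact SmallSimple.not_hasNormalPComplement hG hdvd
      (Transfer.hasNormalPComplement_of_normalizer_le_centralizer P (Subgroup.relIndex_eq_one.1 h1))
  obtain ⟨c, hc⟩ : 19 ∣ Nat.card C := hP ▸ Subgroup.card_dvd_of_le hPC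
  have hce : c * e = 24 := by rw [hc] at hec; linarith
  have hed : e ∣ 18 := S.m_dvd
  have he' : e = 2 ∨ e = 3 ∨ e = 6 := by
    have hle := Nat.le_of_dvd (by norm_num) hed
    have h24 : e ∣ 24 := ⟨c, by linarith⟩
    have : ∀ x < 19, x ∣ 18 → x ∣ 24 → x ≠ 1 → x = 2 ∨ x = 3 ∨ x = 6 := by decide
    exact this e (by omega) hed h24 he1
  obtain ⟨y₀, hy₀⟩ : ∃ y : (P : Subgroup G), y ≠ 1 := by
    haveI : Nontrivial (P : Subgroup G) := Finite.one_lt_card_iff_nontrivial.1 (by rw [hP]; norm_num)
    exact exists_ne 1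
  have htriv : Char.trivialChar G ∈ S.X := by
    have h := BrauerPairs.trivialChar_mem_principalBlock (M := M) (G := G)
    rw [S.union] at h
    rcases h with h | h
    · exact h
    · exfalso
      have h2 := S.Y_deg _ h
      rw [Char.charDegree_eq_degree, show Char.degree (Char.trivialChar G) = 1 from
        Char.degree_eq_of_apply_one (by rw [Char.trivialChar_apply, Nat.cast_one])] at h2
      rcases he' with h3 | h3 | h3 <;> rcases S.hε with h4 | h4 <;> rw [h4, h3] at h2 <;>
        revert h2 <;> decide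
  have hεtriv : S.εX (Char.trivialChar G) = 1 := by
    have h := S.X_val _ htriv y₀ hy₀
    rw [Char.trivialChar_apply] at h
    exact_mod_cast h.symm
  have hsq : ∀ χ : IrrCharacter G, Char.degree χ ^ 2 ≤ 459648 := fun χ => by
    rw [← hn, ← Char.sum_degree_sq (G := G)]
    exact Finset.single_le_sum (f := fun χ => Char.degree χ ^ 2) (fun _ _ => Nat.zero_le _)
      (Finset.mem_univ χ)
  have hdd : ∀ χ : IrrCharacter G, ¬ 19 ∣ Char.degree χ → Char.degree χ ∣ 24192 := by
    intro χ hχ
    have h := Char.degree_dvd_natCard χ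
    rw [hn, show 459648 = 19 * 24192 by norm_num] at h
    exact ((Nat.Prime.coprime_iff_not_dvd (by norm_num)).2 hχ).symm.dvd_of_dvd_mul_left h
  let T := S.X.erase (Char.trivialChar G)
  have hTcard : T.card = e - 1 := by rw [Finset.card_erase_of_mem htriv, S.cardX]
  let Z : IrrCharacter G → ℤ := fun χ => S.εX χ * (Char.degree χ : ℤ)
  have hZ : ∀ χ ∈ T, Z χ ∈ [(-18 : ℤ), -56, 96, -189] := by
    intro χ hχ
    obtain ⟨hne, hX⟩ := Finset.mem_erase.1 hχ
    have hdeg := S.X_deg χ hX
    rw [Char.charDegree_eq_degree] at hdeg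
    have h2 : 2 ≤ Char.degree χ := by
      by_contra hlt
      have := Char.degree_pos χ
      exact hne (SmallSimple.eq_trivialChar_of_degree_one hG _ (by
        rw [Char.apply_one_eq_degree, show Char.degree χ = 1 by omega, Nat.cast_one]))
    have hlt : Char.degree χ < 678 := by
      have := hsq χ; nlinarith
    have hε := S.hεX χ hX
    rw [Int.modEq_iff_dvd] at hdeg
    have hndvd : ¬ 19 ∣ Char.degree χ := by
      intro h19
      have : ((19 : ℕ) : ℤ) ∣ (Char.degree χ : ℤ) := Int.natCast_dvd_natCast.2 h19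
      rcases hε with h | h <;> rw [h] at hdeg <;> omega
    obtain ⟨hc1, hc2⟩ := degree_candidates _ hlt (hdd χ hndvd) h2
    rcases hε with h | h <;> rw [h] at hdeg
    · simp only [Z, h, one_mul]; exact hc1 (by omega)
    · simp only [Z, h, neg_one_mul]; exact hc2 (by omega)
  obtain ⟨θ, hθ⟩ : S.Y.Nonempty := Finset.card_pos.1 (by
    rw [S.cardY]; rcases he' with h | h | h <;> rw [h] <;> norm_num)
  have hrel : (1 + ∑ χ ∈ T, Z χ).natAbs ∣ 24192 ∧ (1 + ∑ χ ∈ T, Z χ - e) % 19 = 0 := by
    have h := S.relation θ hθ 1 (by simp [IsPRegular])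
    rw [← Finset.add_sum_erase _ _ htriv, hεtriv] at h
    simp only [Char.apply_one_eq_degree] at h
    have h' : (1 : ℤ) + ∑ χ ∈ T, Z χ = S.ε * (Char.degree θ : ℤ) := by
      have hd1 : Char.degree (Char.trivialChar G) = 1 :=
        Char.degree_eq_of_apply_one (by rw [Char.trivialChar_apply, Nat.cast_one])
      rw [hd1] at h
      have : (((1 : ℤ) + ∑ χ ∈ T, Z χ : ℤ) : ℂ) = ((S.ε * (Char.degree θ : ℤ) : ℤ) : ℂ) := by
        simp only [Z]; push_cast at h ⊢; linear_combination -h
      exact_mod_cast this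
    rw [h']
    have hdeg := S.Y_deg θ hθ
    rw [Char.charDegree_eq_degree, Int.modEq_iff_dvd] at hdeg
    refine ⟨?_, ?_⟩
    · have hna : (S.ε * (Char.degree θ : ℤ)).natAbs = Char.degree θ := by
        rcases S.hε with h | h <;> simp [h]
      rw [hna]
      refine hdd θ fun h19 => ?_
      have : ((19 : ℕ) : ℤ) ∣ (Char.degree θ : ℤ) := Int.natCast_dvd_natCast.2 h19
      rcases S.hε with h | h <;> rcases he' with h3 | h3 | h3 <;> rw [h, h3] at hdeg <;> omega
    · rcases S.hε with h | h <;> rw [h] at hdeg ⊢ <;> omega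
  let L : List ℤ := (T.toList).map Z
  have hLsum : ∑ χ ∈ T, Z χ = L.sum := by rw [← Finset.sum_map_toList]
  have hLlen : L.length = e - 1 := by simp [L, hTcard]
  have hLmem : ∀ a ∈ L, a ∈ [(-18 : ℤ), -56, 96, -189] := by
    intro a ha
    obtain ⟨χ, hχ, rfl⟩ := List.mem_map.1 ha
    exact hZ χ (Finset.mem_toList.1 hχ)
  rw [hLsum] at hrel
  rcases he' with h2 | h2 | h2
  · rw [h2] at hLlen hrel
    obtain ⟨a, ha⟩ := List.length_eq_one_iff.1 hLlen
    rw [ha] at hLmem hrel
    simp only [List.sum_cons, List.sum_nil, add_zero] at hrel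
    exact check₁ a (hLmem a (by simp)) hrel
  · rw [h2] at hLlen hrel
    obtain ⟨a, b, ha⟩ := List.length_eq_two.1 hLlen
    rw [ha] at hLmem hrel
    simp only [List.sum_cons, List.sum_nil, add_zero, ← add_assoc] at hrel
    exact check₂ a (hLmem a (by simp)) b (hLmem b (by simp)) hrel
  rw [h2] at hLlen hrel
  obtain ⟨a, b, c', d, f, hL⟩ : ∃ a b c d f, L = [a, b, c, d, f] := by
    match L, hLlen with
    | [a, b, c, d, f], _ => exact ⟨a, b, c, d, f, rfl⟩
  have heven : 2 ≤ (T.filter fun χ => Z χ % 2 = 0).card := by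
    rw [hL] at hLmem hrel
    simp only [List.sum_cons, List.sum_nil, add_zero, ← add_assoc] at hrel
    have := check₅ a (hLmem a (by simp)) b (hLmem b (by simp)) c' (hLmem c' (by simp)) d
      (hLmem d (by simp)) f (hLmem f (by simp)) hrel
    rw [← hL] at this
    simp only [L, List.filter_map, List.length_map] at this
    rw [← Finset.length_toList] at *
    refine this.trans (le_of_eq ?_)
    rw [Finset.length_toList, ← Finset.length_toList]
    apply List.Perm.length_eq
    apply (List.perm_ext_iff_of_nodup ((Finset.nodup_toList T).filter _) (Finset.nodup_toList _)).2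
    intro χ
    simp
  -- the involution centralising `P`
  have hcard : Nat.card C = 76 := by rw [h2] at hec; omega
  obtain ⟨⟨z, hzC⟩, hz⟩ := exists_prime_orderOf_dvd_card' (G := C) 2 (by rw [hcard]; norm_num)
  rw [Subgroup.orderOf_mk] at hz
  set H := Subgroup.centralizer ({z} : Set G) with hHdef
  have hz1 : z ≠ 1 := fun h => by simp [h] at hz
  have hPH : (P : Subgroup G) ≤ H := fun a ha =>
    Subgroup.mem_centralizer_singleton_iff.2 (hzC a ha)
  have hCH : C ≤ H := by
    obtain ⟨K, hK⟩ : ∃ K : Subgroup C, Nat.card K = 2 ^ 2 := by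
      haveI : Fact (Nat.Prime 2) := ⟨Nat.prime_two⟩
      exact Sylow.exists_subgroup_card_pow_prime 2 (by rw [hcard]; norm_num)
    haveI : Fact (Nat.Prime 2) := ⟨Nat.prime_two⟩
    have hKab : IsMulCommutative K := IsPGroup.isMulCommutative_of_card_eq_prime_sq hK
    set P' := (P : Subgroup G).subgroupOf C
    have hP' : Nat.card P' = 19 := by
      rw [Nat.card_congr (Subgroup.subgroupOfEquivOfLe hPC).toEquiv, hP]
    have hcentral : P' ≤ Subgroup.center C := fun a ha => Subgroup.mem_center_iff.2 fun g =>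
      Subtype.ext (g.2 a ha).symm
    have htop : K ⊔ P' = ⊤ := by
      refine Subgroup.eq_top_of_le_card _ ?_
      rw [hcard]
      refine Nat.le_of_dvd Nat.card_pos ?_
      exact Nat.Coprime.mul_dvd_of_dvd_of_dvd (by norm_num : Nat.Coprime 4 19)
        ((show 4 = Nat.card K by rw [hK]; norm_num) ▸ Subgroup.card_dvd_of_le le_sup_left)
        (hP' ▸ Subgroup.card_dvd_of_le le_sup_right)
    have hcomm : ∀ a b : C, a * b = b * a := by
      have hle : (⊤ : Subgroup C) ≤ Subgroup.centralizer (K : Set C) := by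
        rw [← htop, sup_le_iff]
        refine ⟨fun a ha b hb => congrArg Subtype.val (mul_comm' (⟨b, hb⟩ : K) ⟨a, ha⟩), ?_⟩
        exact hcentral.trans (Subgroup.center_le_centralizer _)
      have hK2 : K ≤ Subgroup.center C := fun a ha => Subgroup.mem_center_iff.2 fun g =>
        (hle (Subgroup.mem_top g) a ha).symm
      intro a b
      have : (⊤ : Subgroup C) ≤ Subgroup.center C := htop ▸ sup_le hK2 hcentral
      exact (Subgroup.mem_center_iff.1 (this (Subgroup.mem_top b)) a)
    intro a ha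
    exact Subgroup.mem_centralizer_singleton_iff.2
      (congrArg Subtype.val (hcomm ⟨a, ha⟩ ⟨z, hzC⟩))
  have hidx := four_mul_le_index hG (by decide) P hP hz hzC hCH
  have hHN : Nat.card H ≤ 456 := by
    have h1 := SmallSimple.card_sylow_mul_card_normalizer (P.subtype hPH)
    rw [Sylow.coe_subtype, ← Subgroup.subgroupOf_normalizer_eq hPH] at h1
    set k := Nat.card (Sylow 19 H)
    have h2 : k % 19 = 1 := card_sylow_modEq_one 19 H
    have hNH : Nat.card (N.subgroupOf H) = Nat.card (N ⊓ H : Subgroup G) := by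
      rw [← Subgroup.inf_subgroupOf_right]
      exact Nat.card_congr (Subgroup.subgroupOfEquivOfLe inf_le_right).toEquiv
    rw [hNH] at h1
    have h3 : 76 ≤ Nat.card (N ⊓ H : Subgroup G) :=
      hcard ▸ Nat.le_of_dvd Nat.card_pos (Subgroup.card_dvd_of_le (le_inf hCN hCH))
    have h4 : Nat.card (N ⊓ H : Subgroup G) ≤ 456 :=
      hN ▸ Nat.le_of_dvd Nat.card_pos (Subgroup.card_dvd_of_le inf_le_left)
    have h5 : k * 19 ∣ 459648 := by
      refine (mul_dvd_mul_left k ?_).trans (h1.dvd.trans (hn ▸ Subgroup.card_subgroup_dvd_card H))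
      exact hP ▸ Subgroup.card_dvd_of_le (le_inf Subgroup.le_normalizer hPH)
    have h6 : k ∣ 24192 := Nat.dvd_of_mul_dvd_mul_right (by norm_num : 0 < 19) h5
    have hlist : ∀ d ∈ (24192 : ℕ).divisors, d % 19 = 1 → d = 1 ∨ 96 ≤ d := by decide +kernel
    rcases hlist k (Nat.mem_divisors.2 ⟨h6, by norm_num⟩) h2 with h7 | h7
    · rw [h7, one_mul] at h1; omega
    · exfalso
      have h8 := Subgroup.card_mul_index H
      rw [hn, ← h1] at h8
      have : 96 * 76 ≤ k * Nat.card (N ⊓ H : Subgroup G) := Nat.mul_le_mul h7 h3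
      nlinarith
  -- column orthogonality at `z`
  obtain ⟨v, hv⟩ : ∃ v : IrrCharacter G → ℤ, ∀ χ, χ.1 z = (v χ : ℂ) := by
    choose v hv using fun χ => DefectOne.exists_int_apply hz χ
    exact ⟨v, hv⟩
  have hbig : ∀ χ ∈ T.filter (fun χ => Z χ % 2 = 0), 324 ≤ v χ ^ 2 := by
    intro χ hχ
    obtain ⟨hχT, hev⟩ := Finset.mem_filter.1 hχ
    obtain ⟨-, hX⟩ := Finset.mem_erase.1 hχT
    have hε := S.hεX χ hX
    have hpar := two_dvd_value_add hz χ (hv χ)
    have hdev : (2 : ℤ) ∣ (Char.degree χ : ℤ) := by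
      have : (2 : ℤ) ∣ Z χ := Int.dvd_of_emod_eq_zero hev
      rcases hε with h | h <;> simp only [Z, h, one_mul, neg_one_mul, dvd_neg] at this <;> exact this
    have hxz : χ.1 ((y₀ : G) * z) = (S.εX χ : ℂ) := by
      have hd := DefectOne.freeData_of_card_eq (P := P) hP
      have hχB : χ ∈ Cfsg.principalBlock M G := S.union.ge (Or.inl hX)
      have hpp : Cfsg.IsPPart 19 ((y₀ : G) * z) y₀ :=
        ⟨z, rfl, Subgroup.mem_centralizer_iff.1 hzC y₀ y₀.2, hd.exists_pow_orderOf y₀.2,
          by rw [hz]; norm_num⟩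
      rw [hd.apply_section hpM hχB hpp y₀.2 (fun h => hy₀ (Subtype.ext h))]
      exact S.X_val χ hX y₀ hy₀
    have hord : orderOf (y₀ : G) = 19 ^ 1 := by
      rw [pow_one, Subgroup.orderOf_coe]
      refine orderOf_eq_prime ?_ hy₀
      have hh := pow_card_eq_one' (G := (P : Subgroup G)) (x := y₀)
      rwa [hP] at hh
    have hm := Blocks.memLocalIdeal_char_mul_sub hpM (Char.irr_isCharacter χ)
      (hzC y₀ y₀.2 : Commute (y₀ : G) z) hord
    rw [hxz, hv, ← Int.cast_sub, Blocks.memLocalIdeal_intCast_iff hpM] at hm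
    have hfar : 18 ≤ v χ ∨ v χ ≤ -18 := by
      rcases hε with h | h <;> rw [h] at hm <;> omega
    rcases hfar with h | h <;> nlinarith
  have hsum : (Nat.card H : ℤ) = ∑ χ : IrrCharacter G, v χ ^ 2 := by
    have h := Char.sum_irr_mul_conj z z
    rw [if_pos (IsConj.refl _)] at h
    have h' : ((∑ χ : IrrCharacter G, v χ ^ 2 : ℤ) : ℂ) = ((Nat.card H : ℤ) : ℂ) := by
      push_cast
      rw [← h]
      exact Finset.sum_congr rfl fun χ _ => by rw [hv, map_intCast]; ring
    exact_mod_cast h'.symm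
  have h648 : (648 : ℤ) ≤ ∑ χ : IrrCharacter G, v χ ^ 2 := by
    refine le_trans ?_ (Finset.sum_le_sum_of_subset_of_nonneg (Finset.subset_univ (T.filter fun χ => Z χ % 2 = 0))
      fun _ _ _ => sq_nonneg _)
    refine le_trans ?_ (Finset.card_nsmul_le_sum _ _ 324 hbig)
    rw [nsmul_eq_mul]
    have : (2 : ℤ) ≤ ((T.filter fun χ => Z χ % 2 = 0).card : ℤ) := by exact_mod_cast heven
    linarith
  omega

end Cfsg.Agent.S1022
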