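import Cfsg.Statements.S1024
import Mathlib

set_option autoImplicit false
open Cfsg

namespace Cfsg.Agent.S1024

theorem neg_lt_of_mem (D : Cfsg.Lie.ChevalleyDatum) (hD : D ∈ [Cfsg.Lie.chevG2, Cfsg.Lie.chevB2, Cfsg.Lie.chevD4, Cfsg.Lie.chevF4, Cfsg.Lie.chevE6, Cfsg.Lie.chevE7, Cfsg.Lie.chevE8]) :
    ∀ r < D.nroots, D.negIdx.getD r 0 < D.nroots ∧ D.negIdx.getD r 0 ≠ r := by
  simp only [List.mem_cons, List.not_mem_nil, or_false] at hD
  rcases hD with rfl | rfl | rfl | rfl | rfl | rfl | rfl <;> decide +kernel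


/-- `x_r(0) = 1`, and `x_r(t) = 1` forces `t = 0`: the map `t ↦ x_r(t)` is injective. -/
theorem result {F : Type*} [Field F] (D : Cfsg.Lie.ChevalleyDatum) (hD : D ∈ [Cfsg.Lie.chevG2, Cfsg.Lie.chevB2, Cfsg.Lie.chevD4, Cfsg.Lie.chevF4, Cfsg.Lie.chevE6, Cfsg.Lie.chevE7, Cfsg.Lie.chevE8]) (r : ℕ) (hr : r < D.nroots) (t : F) :
    D.x F r t = 1 ↔ t = 0 := by
  obtain ⟨hn, hne⟩ := neg_lt_of_mem D hD r hr
  rw [Cfsg.Lie.ChevalleyDatum.x, dif_pos hr]
  constructor
  · intro h
    have e := congrFun (congrFun h (Sum.inr ⟨r, hr⟩)) (Sum.inr ⟨_, hn⟩)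
    rw [Matrix.one_apply_ne (fun h' => hne (congrArg Fin.val (Sum.inr.inj h')).symm)] at e
    simp only [Cfsg.Lie.ChevalleyDatum.xMat, Matrix.of_apply, Fin.ext_iff, if_neg hne, if_neg hne.symm,
      if_true, neg_eq_zero] at e
    exact pow_eq_zero_iff (n := 2) (by norm_num) |>.1 e
  · rintro rfl
    ext row col
    simp only [Cfsg.Lie.ChevalleyDatum.xMat, Matrix.of_apply]
    rcases col with i | s
    · rcases row with i' | u <;> simp [Matrix.one_apply]
    · simp only
      have hz : ∀ u : ℕ, ((D.chainCoeff r s.val u).map fun km => ((km.2 : ℤ) : F) * (0 : F) ^ km.1).sum = 0 := by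
        intro u
        refine List.sum_eq_zero fun x hx => ?_
        obtain ⟨km, hkm, rfl⟩ := List.mem_map.1 hx
        simp only [Cfsg.Lie.ChevalleyDatum.chainCoeff, List.mem_flatMap, List.mem_map] at hkm
        obtain ⟨e, -, q, -, rfl⟩ := hkm
        simp
      split_ifs with h1 h2
      · subst h1; rcases row with i' | u <;> simp [Matrix.one_apply]
      · rcases row with i' | u <;> simp [Matrix.one_apply]
      · rcases row with i' | u <;> simp [Matrix.one_apply, hz]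

end Cfsg.Agent.S1024
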