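import Cfsg.Statements.S1039
import Cfsg.Agent.Lib.Chev.WeylGroup
import Cfsg.Agent.Lib.Chev.Seven
-- import your own Cfsg.Agent.* helpers here

set_option autoImplicit false
open Cfsg

namespace Cfsg.Agent.S1039

theorem pairOrder_G2 : Cfsg.Agent.Chev.BNSetup.pairOrdersOK Cfsg.Agent.Chev.WeylTab.tabsG2 Cfsg.Lie.chevG2.nroots 2
    (fun i j => CoxeterMatrix.G₂ i j) = true := by decide +kernel

theorem pairOrder_B2 : Cfsg.Agent.Chev.BNSetup.pairOrdersOK Cfsg.Agent.Chev.WeylTab.tabsB2 Cfsg.Lie.chevB2.nroots 2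
    (fun i j => (CoxeterMatrix.B 2) i j) = true := by decide +kernel

theorem pairOrder_D4 : Cfsg.Agent.Chev.BNSetup.pairOrdersOK Cfsg.Agent.Chev.WeylTab.tabsD4 Cfsg.Lie.chevD4.nroots 4
    (fun i j => Cfsg.Lie.coxeterD4 i j) = true := by decide +kernel

theorem pairOrder_F4 : Cfsg.Agent.Chev.BNSetup.pairOrdersOK Cfsg.Agent.Chev.WeylTab.tabsF4 Cfsg.Lie.chevF4.nroots 4
    (fun i j => CoxeterMatrix.F₄ i j) = true := by decide +kernel

theorem pairOrder_E6 : Cfsg.Agent.Chev.BNSetup.pairOrdersOK Cfsg.Agent.Chev.WeylTab.tabsE6 Cfsg.Lie.chevE6.nroots 6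
    (fun i j => CoxeterMatrix.E₆ i j) = true := by decide +kernel

theorem pairOrder_E7 : Cfsg.Agent.Chev.BNSetup.pairOrdersOK Cfsg.Agent.Chev.WeylTab.tabsE7 Cfsg.Lie.chevE7.nroots 7
    (fun i j => CoxeterMatrix.E₇ i j) = true := by decide +kernel

theorem pairOrder_E8 : Cfsg.Agent.Chev.BNSetup.pairOrdersOK Cfsg.Agent.Chev.WeylTab.tabsE8 Cfsg.Lie.chevE8.nroots 8
    (fun i j => CoxeterMatrix.E₈ i j) = true := by decide +kernel

/-- `N/H ≅ W`: there is a surjective homomorphism from `N` onto the Coxeter group of the type (Mathlib's Coxeter matrix G₂, B₂, F₄, E₆, E₇, E₈, nodes numbered as the fundamental roots) with kernel `H`, mapping each `n_{p_i}` to the `i`-th simple reflection. -/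
theorem result {F : Type*} [Field F]
    (p : Cfsg.Lie.ChevalleyDatum × (Σ n : ℕ, CoxeterMatrix (Fin n)))
    (hp : p ∈ [(Cfsg.Lie.chevG2, ⟨2, CoxeterMatrix.G₂⟩), (Cfsg.Lie.chevB2, ⟨2, CoxeterMatrix.B 2⟩), (Cfsg.Lie.chevD4, ⟨4, Cfsg.Lie.coxeterD4⟩), (Cfsg.Lie.chevF4, ⟨4, CoxeterMatrix.F₄⟩),
      (Cfsg.Lie.chevE6, ⟨6, CoxeterMatrix.E₆⟩), (Cfsg.Lie.chevE7, ⟨7, CoxeterMatrix.E₇⟩), (Cfsg.Lie.chevE8, ⟨8, CoxeterMatrix.E₈⟩)]) :
    ∃ φ : ↥(p.1.monomialSubgroup F) →* p.2.2.Group, Function.Surjective φ ∧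
      φ.ker = (p.1.diagonalSubgroup F).subgroupOf (p.1.monomialSubgroup F) ∧
      ∀ (i : Fin p.2.1) (g : ↥(p.1.monomialSubgroup F)),
        ((g : GL p.1.Idx F) : Matrix p.1.Idx p.1.Idx F) = p.1.nMat F (p.1.simple i) 1 → φ g = p.2.2.simple i := by
  obtain ⟨D, n, M⟩ := p
  have main : D ∈ [Cfsg.Lie.chevG2, Cfsg.Lie.chevB2, Cfsg.Lie.chevD4, Cfsg.Lie.chevF4, Cfsg.Lie.chevE6,
      Cfsg.Lie.chevE7, Cfsg.Lie.chevE8] → D.rank = n →
      ∀ tabs simps : List ℕ, Cfsg.Agent.Chev.BNSetup.Facts D tabs simps →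
      Cfsg.Agent.Chev.BNSetup.pairOrdersOK tabs D.nroots n (fun i j => M i j) = true →
      ∃ φ : ↥(D.monomialSubgroup F) →* M.Group, Function.Surjective φ ∧
        φ.ker = (D.diagonalSubgroup F).subgroupOf (D.monomialSubgroup F) ∧
        ∀ (i : Fin n) (g : ↥(D.monomialSubgroup F)),
          ((g : GL D.Idx F) : Matrix D.Idx D.Idx F) = D.nMat F (D.simple i) 1 → φ g = M.simple i := by
    intro hD hn tabs simps hf hM
    exact Cfsg.Agent.Chev.BNSetup.exists_weyl_hom (Cfsg.Agent.Chev.good_of_mem hD) hf hn M hM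
  simp only [List.mem_cons, List.not_mem_nil, or_false, Prod.mk.injEq] at hp
  rcases hp with ⟨rfl, h⟩ | ⟨rfl, h⟩ | ⟨rfl, h⟩ | ⟨rfl, h⟩ | ⟨rfl, h⟩ | ⟨rfl, h⟩ | ⟨rfl, h⟩ <;> cases h
  · exact main (by simp) rfl _ _ Cfsg.Agent.Chev.BNSetup.facts_chevG2 pairOrder_G2
  · exact main (by simp) rfl _ _ Cfsg.Agent.Chev.BNSetup.facts_chevB2 pairOrder_B2
  · exact main (by simp) rfl _ _ Cfsg.Agent.Chev.BNSetup.facts_chevD4 pairOrder_D4
  · exact main (by simp) rfl _ _ Cfsg.Agent.Chev.BNSetup.facts_chevF4 pairOrder_F4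
  · exact main (by simp) rfl _ _ Cfsg.Agent.Chev.BNSetup.facts_chevE6 pairOrder_E6
  · exact main (by simp) rfl _ _ Cfsg.Agent.Chev.BNSetup.facts_chevE7 pairOrder_E7
  · exact main (by simp) rfl _ _ Cfsg.Agent.Chev.BNSetup.facts_chevE8 pairOrder_E8

end Cfsg.Agent.S1039
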