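import Cfsg.Statements.S1043
import Cfsg.Agent.Lib.Chev.Elements
import Cfsg.Agent.Lib.Chev.Seven
-- import your own Cfsg.Agent.* helpers here

set_option autoImplicit false
open Cfsg

namespace Cfsg.Agent.S1043

theorem simple_pos (D : Cfsg.Lie.ChevalleyDatum) (hD : D ∈ [Cfsg.Lie.chevG2, Cfsg.Lie.chevB2, Cfsg.Lie.chevD4, Cfsg.Lie.chevF4, Cfsg.Lie.chevE6, Cfsg.Lie.chevE7, Cfsg.Lie.chevE8]) :
    ∀ i < D.rank, D.IsPosRoot (D.simple i) := by
  simp only [List.mem_cons, List.not_mem_nil, or_false] at hD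
  rcases hD with rfl | rfl | rfl | rfl | rfl | rfl | rfl <;> decide +kernel

/-- `B ≤ G`, `N ≤ G` and `B ⊔ N = G` for the Chevalley group `G` generated by all root elements. -/
theorem result {F : Type*} [Field F] (D : Cfsg.Lie.ChevalleyDatum) (hD : D ∈ [Cfsg.Lie.chevG2, Cfsg.Lie.chevB2, Cfsg.Lie.chevD4, Cfsg.Lie.chevF4, Cfsg.Lie.chevE6, Cfsg.Lie.chevE7, Cfsg.Lie.chevE8]) :
    D.borelSubgroup F ≤ D.group F ∧ D.monomialSubgroup F ≤ D.group F ∧ D.borelSubgroup F ⊔ D.monomialSubgroup F = D.group F := by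
  have hG := Cfsg.Agent.Chev.good_of_mem hD
  have hx : ∀ {g : GL D.Idx F} {r : ℕ} {t : F}, (g : Matrix D.Idx D.Idx F) = D.x F r t → g ∈ D.group F :=
    fun {g r t} h => hG.eq_xg h ▸ hG.xg_mem_group r t
  have hU : D.posUnipotent F ≤ D.group F := by
    rw [Cfsg.Lie.ChevalleyDatum.posUnipotent, Subgroup.closure_le]
    rintro g ⟨r, t, -, h⟩; exact hx h
  have hH : D.diagonalSubgroup F ≤ D.group F := by
    rw [Cfsg.Lie.ChevalleyDatum.diagonalSubgroup, Subgroup.closure_le]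
    rintro g ⟨r, t, -, -, h⟩
    rw [show g = Cfsg.Agent.Chev.hG D F r t from Units.ext (h.trans (hG.coe_hG r t).symm)]
    exact hG.hG_mem_group r t
  have hN : D.monomialSubgroup F ≤ D.group F := by
    refine sup_le hH ?_
    rw [Subgroup.closure_le]
    rintro g ⟨r, -, h⟩
    rw [show g = Cfsg.Agent.Chev.nG D F r 1 from Units.ext (h.trans (hG.coe_nG r 1).symm)]
    exact hG.nG_mem_group r 1
  have hB : D.borelSubgroup F ≤ D.group F := sup_le hU hH
  refine ⟨hB, hN, le_antisymm (sup_le hB hN) ?_⟩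
  conv_lhs => rw [hG.group_eq_closure]
  rw [Subgroup.closure_le]
  rintro g ⟨r, hr, t, rfl⟩
  refine hG.root_induction (P := fun r => ∀ t : F, Cfsg.Agent.Chev.xg D F r t ∈ D.borelSubgroup F ⊔ D.monomialSubgroup F)
    (fun i hi t => Subgroup.mem_sup_left (Subgroup.mem_sup_left
      (Subgroup.subset_closure ⟨_, t, simple_pos D hD i hi, hG.coe_xg _ t⟩))) (fun i hi s hs ih t => ?_) hr t
  obtain ⟨η, h1, h2⟩ := hG.exists_sign_xg (F := F) hi
  have hn : Cfsg.Agent.Chev.nG D F (D.simple i) 1 ∈ D.borelSubgroup F ⊔ D.monomialSubgroup F :=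
    Subgroup.mem_sup_right (Subgroup.mem_sup_right (Subgroup.subset_closure ⟨_, hG.simple_lt hi, hG.coe_nG _ 1⟩))
  have e := h2 s hs (η s * t)
  rw [← mul_assoc, (h1 s hs).1, one_mul] at e
  rw [eq_mul_inv_of_mul_eq e.symm]
  exact Subgroup.mul_mem _ (Subgroup.mul_mem _ hn (ih _)) (Subgroup.inv_mem _ hn)

end Cfsg.Agent.S1043
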