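import Cfsg.Statements.S1052
import Cfsg.Agent.Lib.Chev.Perfect
import Cfsg.Agent.Lib.Chev.Seven
-- import your own Cfsg.Agent.* helpers here

set_option autoImplicit false
open Cfsg

namespace Cfsg.Agent.S1052

open Cfsg.Agent.Chev Cfsg.Lie

/-- Each fundamental root is the only term of the commutator formula of the listed pair. -/
noncomputable def pairsOK (D : ChevalleyDatum) (L : List (ℕ × ℕ)) : Bool :=
  allLt D.rank fun i =>
    decide ((L.getD i (0, 0)).1 < D.nroots) && decide ((L.getD i (0, 0)).2 < D.nroots) &&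
    decide ((L.getD i (0, 0)).2 ≠ (L.getD i (0, 0)).1) && decide ((L.getD i (0, 0)).2 ≠ D.neg (L.getD i (0, 0)).1) &&
    decide (D.commTerms (L.getD i (0, 0)).1 (L.getD i (0, 0)).2 = [(D.simple i, 1, 1, 1)] ∨
      D.commTerms (L.getD i (0, 0)).1 (L.getD i (0, 0)).2 = [(D.simple i, -1, 1, 1)])

theorem pairsD4 : pairsOK chevD4 [(6, 22), (1, 23), (3, 22), (2, 22)] = true := by decide +kernel
theorem pairsF4 : pairsOK chevF4 [(7, 44), (8, 40), (2, 46), (1, 47)] = true := by decide +kernel
theorem pairsE6 : pairsOK chevE6 [(16, 66), (1, 71), (5, 69), (2, 70), (3, 69), (4, 68)] = true := by decide +kernel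
theorem pairsE7 : pairsOK chevE7 [(1, 125), (7, 122), (2, 124), (3, 123), (4, 122), (5, 121), (6, 120)] = true := by
  decide +kernel
theorem pairsE8 :
    pairsOK chevE8 [(14, 233), (7, 234), (6, 234), (5, 235), (4, 236), (3, 237), (2, 238), (1, 239)] = true := by
  decide +kernel

/-- `G = G'` for every type G₂, B₂, D₄, F₄, E₆, E₇, E₈ over every field, except G₂ and B₂ over the field with two elements. -/
theorem result {F : Type*} [Field F] (D : Cfsg.Lie.ChevalleyDatum) (hD : D ∈ [Cfsg.Lie.chevG2, Cfsg.Lie.chevB2, Cfsg.Lie.chevD4, Cfsg.Lie.chevF4, Cfsg.Lie.chevE6, Cfsg.Lie.chevE7, Cfsg.Lie.chevE8]) (h2 : D = Cfsg.Lie.chevG2 ∨ D = Cfsg.Lie.chevB2 → ∃ a : F, a ≠ 0 ∧ a ≠ 1) :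
    commutator ↥(D.group F) = ⊤ := by
  have hG := good_of_mem hD
  refine hG.commutator_eq_top ?_
  have htorus : (∃ a : F, a ≠ 0 ∧ a ≠ 1) → ∀ i j s : ℕ, j < D.rank → s = D.simple i → s < D.nroots →
      D.cartan j s = -1 → ∀ t : F, xg D F (D.simple i) t ∈ derived D F := by
    rintro ⟨a, ha0, ha1⟩ i j s hj rfl hs hA t
    exact hG.derived_of_torus hj hs ha0 (by rw [hA, zpow_neg_one, Ne, inv_eq_one]; exact ha1) t
  have hpairs : ∀ L : List (ℕ × ℕ), pairsOK D L = true → ∀ i < D.rank, ∀ t : F,
      xg D F (D.simple i) t ∈ derived D F := by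
    intro L hL i hi t
    simp only [pairsOK, allLt_iff, Bool.and_eq_true, decide_eq_true_eq] at hL
    obtain ⟨⟨⟨⟨h1, h2⟩, h3⟩, h4⟩, h5⟩ := hL i hi
    rcases h5 with h5 | h5
    · exact hG.derived_of_pair h1 h2 h3 h4 (Or.inl rfl) (pre := []) (by simpa using h5) (by simp) t
    · exact hG.derived_of_pair h1 h2 h3 h4 (Or.inr rfl) (pre := []) (by simpa using h5) (by simp) t
  simp only [List.mem_cons, List.not_mem_nil, or_false] at hD
  rcases hD with rfl | rfl | rfl | rfl | rfl | rfl | rfl
  · intro i hi t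
    have hi' : i < 2 := hi
    interval_cases i
    · exact htorus (h2 (Or.inl rfl)) 0 1 7 (by decide) (by decide) (by decide) (by decide) t
    · exact hG.derived_of_pair (r := 1) (s := 11) (k := chevG2.simple 1) (a := 1) (C := -1) (by decide) (by decide)
        (by decide) (by decide) (Or.inr rfl) (pre := []) (by decide +kernel) (by simp) t
  · intro i hi t
    have hi' : i < 2 := hi
    have ha := htorus (h2 (Or.inr rfl)) 0 1 5 (by decide) (by decide) (by decide) (by decide)
    interval_cases i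
    · exact ha t
    · have h7 : ∀ v : F, xg chevB2 F 7 v ∈ derived chevB2 F := fun v =>
        hG.derived_of_pair (r := 6) (s := 3) (k := 7) (a := 2) (C := 1) (by decide) (by decide)
          (by decide) (by decide) (Or.inl rfl) (pre := [(chevB2.simple 0, -1, 1, 1)]) (by decide +kernel)
          (by intro x hx v; rw [List.mem_singleton] at hx; subst hx; exact ha v) v
      have := hG.derived_reflect (i := 0) (s := 7) (by decide) (by decide) h7 t
      rwa [show chevB2.reflectRoot 0 7 = chevB2.simple 1 by decide +kernel] at this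
  exacts [hpairs _ pairsD4, hpairs _ pairsF4, hpairs _ pairsE6, hpairs _ pairsE7, hpairs _ pairsE8]

end Cfsg.Agent.S1052
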