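import Cfsg.Statements.S1060
import Cfsg.Agent.Lib.Chev.Order
import Cfsg.Agent.Lib.Chev.Poincare
import Cfsg.Agent.Lib.Chev.CheckB2

set_option autoImplicit false
open Cfsg

namespace Cfsg.Agent.S1060

/-- `gcd(2, q-1) · |B₂(q)| = q⁴ (q² - 1)(q⁴ - 1)`. -/
theorem result {F : Type*} [Field F] [Fintype F] {q : ℕ} (hq : Fintype.card F = q) : Nat.gcd 2 (q - 1) * Nat.card ↥(Cfsg.Lie.chevB2.group F) = q ^ 4 * (q ^ 2 - 1) * (q ^ 4 - 1) := by
  subst hq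
  have h := Cfsg.Agent.Chev.BNSetup.card_group (F := F) Cfsg.Agent.Chev.B2.good
    Cfsg.Agent.Chev.BNSetup.facts_chevB2 Cfsg.Agent.Chev.BNSetup.kerCertB2
    Cfsg.Agent.Chev.BNSetup.kerCertB2_valid Cfsg.Agent.Chev.WeylTab.levelsB2 rfl
    Cfsg.Agent.Chev.WeylTab.levelsOK_B2
  simp only [show Cfsg.Lie.chevB2.rank = 2 from rfl, show Cfsg.Lie.chevB2.nroots / 2 = 4 from rfl,
    mul_assoc (Fintype.card F ^ 4), Cfsg.Agent.Chev.WeylTab.poincare_B2 (Fintype.card F) Fintype.card_pos,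
    Nat.gcd_one_left, one_pow, pow_one, one_mul] at h
  rw [h]
  ring

end Cfsg.Agent.S1060
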