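import Cfsg.Statements.S1058
import Cfsg.Agent.S1060
import Cfsg.Agent.Lib.Chev.CheckB2
import Cfsg.Agent.Lib.Chev.SimpleGen
import Cfsg.Agent.Lib.Chev.FieldAutFixed
-- import your own Cfsg.Agent.* helpers here

set_option autoImplicit false
open Cfsg

namespace Cfsg.Agent.S1058

open Cfsg.Lie
open scoped Matrix

abbrev K := ZMod 2

instance : Fact (Nat.Prime 2) := ⟨Nat.prime_two⟩

/-- A 0-1 vector with the given support. -/
def vec (l : List ℕ) : chevB2.Idx → K := fun a =>
  if Sum.elim (fun i : Fin chevB2.rank => i.val) (fun s : Fin chevB2.nroots => chevB2.rank + s.val) a ∈ l then 1 else 0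

/-- The fixed vector. -/
def v0 : chevB2.Idx → K := vec [0]

/-- Representatives of the six lines. -/
def pt (i : Fin 6) : chevB2.Idx → K :=
  vec (([[1, 4, 7], [1, 3, 4, 7], [1, 3, 8], [1, 3, 4, 8], [1, 3, 7, 8], [1, 4, 7, 8]] : List (List ℕ)).getD
    i.val [])

/-- `g` sends the class of `pt i` to that of `pt j`. -/
def Goes (g : Matrix chevB2.Idx chevB2.Idx K) (i j : Fin 6) : Prop :=
  g *ᵥ pt i = pt j ∨ g *ᵥ pt i = pt j + v0

instance decidableGoes (g : Matrix chevB2.Idx chevB2.Idx K) (i j : Fin 6) : Decidable (Goes g i j) :=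
  inferInstanceAs (Decidable (_ ∨ _))

theorem pt_unique : ∀ j k : Fin 6, (pt j = pt k ∨ pt j = pt k + v0 ∨ pt j + v0 = pt k ∨ pt j + v0 = pt k + v0) →
    j = k := by decide +kernel

theorem goes_unique {g : Matrix chevB2.Idx chevB2.Idx K} {i j k : Fin 6} (h : Goes g i j) (h' : Goes g i k) :
    j = k := by
  apply pt_unique
  rcases h with h | h <;> rcases h' with h' | h' <;> rw [h] at h'
  exacts [Or.inl h', Or.inr (Or.inl h'), Or.inr (Or.inr (Or.inl h')), Or.inr (Or.inr (Or.inr h'))]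

theorem add_add_cancel_v0 (x : chevB2.Idx → K) : x + v0 + v0 = x := by
  funext a
  simp only [Pi.add_apply, add_assoc, CharTwo.add_self_eq_zero, add_zero]

/-- The submonoid preserving the six lines. -/
def pres : Submonoid (GL chevB2.Idx K) where
  carrier := {g | (g : Matrix chevB2.Idx chevB2.Idx K) *ᵥ v0 = v0 ∧
    ∀ i, ∃ j, Goes (g : Matrix chevB2.Idx chevB2.Idx K) i j}
  one_mem' := ⟨by simp, fun i => ⟨i, Or.inl (by simp)⟩⟩
  mul_mem' := by
    rintro g g' ⟨hg, hg2⟩ ⟨hg', hg2'⟩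
    refine ⟨by rw [Units.val_mul, ← Matrix.mulVec_mulVec, hg', hg], fun i => ?_⟩
    obtain ⟨j, hj⟩ := hg2' i
    obtain ⟨k, hk⟩ := hg2 j
    refine ⟨k, ?_⟩
    rcases hj with hj | hj <;> rcases hk with hk | hk <;>
      simp only [Goes, Units.val_mul, ← Matrix.mulVec_mulVec, hj, Matrix.mulVec_add, hk, hg,
        add_add_cancel_v0, true_or, or_true]

/-- The subgroup preserving the six lines. -/
def presGroup : Subgroup (GL chevB2.Idx K) :=
  { pres with
    inv_mem' := fun {g} hg => by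
      have h : g⁻¹ = g ^ (orderOf g - 1) := by
        rw [inv_eq_iff_mul_eq_one, ← pow_succ', Nat.sub_add_cancel (orderOf_pos g), pow_orderOf_eq_one]
      show g⁻¹ ∈ pres
      rw [h]
      exact pres.pow_mem hg _ }

theorem mem_pres : ∀ r ∈ ([5, 4, 2, 3] : List ℕ),
    chevB2.x K r 1 *ᵥ v0 = v0 ∧ ∀ i, ∃ j, Goes (chevB2.x K r 1) i j := by
  decide +kernel

theorem roots_simple : chevB2.simple 0 ∈ ([5, 4, 2, 3] : List ℕ) ∧ chevB2.simple 1 ∈ ([5, 4, 2, 3] : List ℕ) ∧
    chevB2.neg (chevB2.simple 0) ∈ ([5, 4, 2, 3] : List ℕ) ∧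
    chevB2.neg (chevB2.simple 1) ∈ ([5, 4, 2, 3] : List ℕ) := by
  decide +kernel

theorem group_le_pres : chevB2.group K ≤ presGroup := by
  have key : ∀ r ∈ ([5, 4, 2, 3] : List ℕ), ∀ t : K, Cfsg.Agent.Chev.xg chevB2 K r t ∈ presGroup := by
    intro r hr t
    obtain rfl | rfl : t = 0 ∨ t = 1 := by revert t; decide
    · rw [Cfsg.Agent.Chev.B2.good.xg_zero]; exact presGroup.one_mem
    · show _ ∧ _
      rw [Cfsg.Agent.Chev.B2.good.coe_xg]
      exact mem_pres r hr
  refine Cfsg.Agent.Chev.B2.good.group_le_of_simple ?_ ?_ <;> intro i hi t <;> change i < 2 at hi <;>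
    interval_cases i
  exacts [key _ roots_simple.1 t, key _ roots_simple.2.1 t, key _ roots_simple.2.2.1 t,
    key _ roots_simple.2.2.2 t]

/-- The induced map on the six lines. -/
noncomputable def move (g : ↥(chevB2.group K)) (i : Fin 6) : Fin 6 :=
  ((group_le_pres g.2).2 i).choose

theorem move_spec (g : ↥(chevB2.group K)) (i : Fin 6) :
    Goes ((g : GL chevB2.Idx K) : Matrix chevB2.Idx chevB2.Idx K) i (move g i) :=
  ((group_le_pres g.2).2 i).choose_spec

theorem move_one : move 1 = id :=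
  funext fun i => goes_unique (move_spec 1 i) (Or.inl (by simp))

theorem move_mul (g g' : ↥(chevB2.group K)) : move (g * g') = move g ∘ move g' := by
  funext i
  refine goes_unique (move_spec (g * g') i) ?_
  have hj := move_spec g' i
  have hk := move_spec g (move g' i)
  have hg := (group_le_pres g.2).1
  show Goes _ i (move g (move g' i))
  rcases hj with hj | hj <;> rcases hk with hk | hk <;>
    simp only [Goes, Subgroup.coe_mul, Units.val_mul, ← Matrix.mulVec_mulVec, hj, Matrix.mulVec_add, hk, hg,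
      add_add_cancel_v0, true_or, or_true]

/-- The action on the six lines. -/
noncomputable def act : ↥(chevB2.group K) →* Equiv.Perm (Fin 6) where
  toFun g := ⟨move g, move g⁻¹,
    fun i => by rw [← Function.comp_apply (f := move g⁻¹), ← move_mul, inv_mul_cancel, move_one]; rfl,
    fun i => by rw [← Function.comp_apply (f := move g), ← move_mul, mul_inv_cancel, move_one]; rfl⟩
  map_one' := Equiv.ext fun i => congrFun move_one i
  map_mul' g g' := Equiv.ext fun i => congrFun (move_mul g g') i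

/-- The images of four generators. -/
def img : List (List (Fin 6)) := [[0, 1, 4, 3, 2, 5], [5, 4, 3, 2, 1, 0], [0, 1, 3, 2, 4, 5], [1, 0, 4, 5, 2, 3]]

theorem goes_img : ∀ k : Fin 4, ∀ i : Fin 6,
    Goes (chevB2.x K (([5, 4, 2, 3] : List ℕ).getD k.val 0) 1) i ((img.getD k.val []).getD i.val 0) := by
  decide +kernel

theorem act_gen (k : Fin 4) (i : Fin 6) :
    act (Cfsg.Agent.Chev.B2.good.xgrp (([5, 4, 2, 3] : List ℕ).getD k.val 0) (1 : K)) i =
      (img.getD k.val []).getD i.val 0 :=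
  goes_unique (move_spec _ i) (by rw [Cfsg.Agent.Chev.B2.good.coe_xgrp]; exact goes_img k i)

/-- The six-cycle in the image. -/
def six : Equiv.Perm (Fin 6) :=
  ⟨![4, 5, 3, 0, 1, 2], ![3, 4, 5, 2, 0, 1], by decide, by decide⟩

theorem six_eq : ∀ i : Fin 6,
    (img.getD (1 : Fin 4).val []).getD ((img.getD (0 : Fin 4).val []).getD
      ((img.getD (3 : Fin 4).val []).getD i.val 0).val 0).val 0 = six i := by
  decide +kernel

theorem swap_eq : ∀ i : Fin 6, (img.getD (2 : Fin 4).val []).getD i.val 0 = Equiv.swap 2 (six 2) i := by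
  decide +kernel

theorem six_support : six.support = Finset.univ := by
  decide +kernel

theorem six_cycle : six.IsCycle := by
  refine ⟨0, by decide, fun y _ => ?_⟩
  obtain ⟨k, hk⟩ : ∃ k : Fin 6, (six ^ k.val) 0 = y := by revert y; decide +kernel
  exact ⟨(k.val : ℤ), by rw [zpow_natCast]; exact hk⟩

theorem act_surjective : Function.Surjective act := by
  rw [← MonoidHom.range_eq_top, eq_top_iff,
    ← Equiv.Perm.closure_cycle_adjacent_swap (σ := six) ?_ ?_ 2, Subgroup.closure_le]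
  · rintro x (rfl | rfl)
    · refine ⟨Cfsg.Agent.Chev.B2.good.xgrp (([5, 4, 2, 3] : List ℕ).getD (1 : Fin 4).val 0) (1 : K) *
        Cfsg.Agent.Chev.B2.good.xgrp (([5, 4, 2, 3] : List ℕ).getD (0 : Fin 4).val 0) (1 : K) *
        Cfsg.Agent.Chev.B2.good.xgrp (([5, 4, 2, 3] : List ℕ).getD (3 : Fin 4).val 0) (1 : K), ?_⟩
      ext i
      rw [map_mul, map_mul, Equiv.Perm.mul_apply, Equiv.Perm.mul_apply, act_gen, act_gen, act_gen]
      exact congrArg Fin.val (six_eq i)
    · refine ⟨Cfsg.Agent.Chev.B2.good.xgrp (([5, 4, 2, 3] : List ℕ).getD (2 : Fin 4).val 0) (1 : K), ?_⟩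
      ext i
      rw [act_gen]
      exact congrArg Fin.val (swap_eq i)
  · exact six_cycle
  · exact six_support



theorem order_formula (n q : ℕ) (hq : q = 2)
    (h : Nat.gcd 2 (q - 1) * n = q ^ 4 * (q ^ 2 - 1) * (q ^ 4 - 1)) : n = 720 := by
  subst hq
  norm_num at h
  exact h

theorem card_group_K : Nat.card ↥(chevB2.group K) = 720 :=
  order_formula _ (Fintype.card K) (ZMod.card 2) (Cfsg.Agent.S1060.result (F := K) rfl)

/-- B₂(2) ≅ S₆. -/
theorem result {F : Type*} [Field F] [Fintype F] (hF : Fintype.card F = 2) :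
    Nonempty (↥(Cfsg.Lie.chevB2.group F) ≃* Equiv.Perm (Fin 6)) := by
  classical
  let e : F ≃+* K := (ZMod.ringEquivOfPrime F Nat.prime_two hF).symm
  let E : GL chevB2.Idx F ≃* GL chevB2.Idx K := Units.mapEquiv e.mapMatrix.toMulEquiv
  have hE : ∀ (r : ℕ) (t : F), E (Cfsg.Agent.Chev.BNSetup.xe Cfsg.Agent.Chev.B2.good r t) = Cfsg.Agent.Chev.BNSetup.xe Cfsg.Agent.Chev.B2.good r (e t) :=
    fun r t => Cfsg.Agent.Chev.BNSetup.entryMap_xe Cfsg.Agent.Chev.B2.good (e : F →+* K) r t
  have hmap : (chevB2.group F).map E.toMonoidHom = chevB2.group K := by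
    rw [Cfsg.Agent.Chev.BNSetup.group_eq_closure_xe Cfsg.Agent.Chev.B2.good F, Cfsg.Agent.Chev.BNSetup.group_eq_closure_xe Cfsg.Agent.Chev.B2.good K,
      MonoidHom.map_closure]
    congr 1
    ext g
    constructor
    · rintro ⟨_, ⟨r, hr, t, rfl⟩, rfl⟩
      exact ⟨r, hr, e t, hE r t⟩
    · rintro ⟨r, hr, t, rfl⟩
      exact ⟨_, ⟨r, hr, e.symm t, rfl⟩, (hE r _).trans (by rw [e.apply_symm_apply])⟩
  have hcard : Nat.card ↥(chevB2.group K) = 720 := by
    exact card_group_K
  have hcard' : Nat.card ↥(chevB2.group K) = Nat.card (Equiv.Perm (Fin 6)) := by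
    rw [hcard, Nat.card_perm, Nat.card_fin]
    rfl
  exact ⟨((E.subgroupMap (chevB2.group F)).trans (MulEquiv.subgroupCongr hmap)).trans
    (MulEquiv.ofBijective act ((Nat.bijective_iff_surjective_and_card _).2 ⟨act_surjective, hcard'⟩))⟩

end Cfsg.Agent.S1058
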