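import Cfsg.Statements.S1073
import Cfsg.Agent.Lib.Twisted.Ree.Mult
-- import your own Cfsg.Agent.* helpers here

set_option autoImplicit false
open Cfsg

namespace Cfsg.Agent.S1073

/-- ²G₂(3^(2m+1)) is simple for `m ≥ 1`. -/
theorem result {K : Type*} [Field K] [Fintype K] {m : ℕ} (hm : 1 ≤ m) (hK : Fintype.card K = 3 ^ (2 * m + 1)) :
    IsSimpleGroup ↥(Cfsg.Lie.twistedG2 K (3 ^ m)) ∧ ¬ IsMulCommutative ↥(Cfsg.Lie.twistedG2 K (3 ^ m)) := by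
  have := Twisted.Ree.charP_three hK
  refine ⟨Twisted.Ree.isSimpleGroup_G1 hK hm, fun h => ?_⟩
  obtain ⟨k, hk, hc⟩ := Twisted.Ree.exists_sq_ne_one hK hm
  let a : ↥(Cfsg.Lie.twistedG2 K (3 ^ m)) := ⟨k, hk.2⟩
  let b : ↥(Cfsg.Lie.twistedG2 K (3 ^ m)) :=
    ⟨Twisted.Ree.uW m 0 1 0, Twisted.Ree.uW_mem_G1 _ _ _ _⟩
  have hab := congrArg Subtype.val (h.is_comm.comm a b)
  have h1 := Twisted.Ree.eq_one_of_fixed hK hk hc (Twisted.Ree.uW_mem_U1 m 0 1 0)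
    (mul_inv_eq_iff_eq_mul.2 hab)
  rw [← Twisted.Ree.uW_zero (F := K) m] at h1
  exact one_ne_zero (Twisted.Ree.uW_inj h1).2.1

end Cfsg.Agent.S1073
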