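import Cfsg.Statements.S1074
import Cfsg.Agent.Lib.Twisted.Tits.Simple

set_option autoImplicit false
open Cfsg

namespace Cfsg.Agent.S1074

/-- ²F₄(2)′ has index 2 in ²F₄(2), is simple, and has order `2¹¹ · 3³ · 5² · 13`. -/
theorem result : (commutator ↥(Cfsg.Lie.twistedF4 (ZMod 2) 1)).index = 2 ∧ IsSimpleGroup Cfsg.Lie.TitsGroup ∧ ¬ IsMulCommutative Cfsg.Lie.TitsGroup ∧
    Nat.card Cfsg.Lie.TitsGroup = 2 ^ 11 * 3 ^ 3 * 5 ^ 2 * 13 := by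
  have hK : Fintype.card (ZMod 2) = 2 ^ (2 * 0 + 1) := by rw [ZMod.card]; rfl
  have : Fact (Nat.Prime 2) := ⟨Nat.prime_two⟩
  obtain ⟨h1, h2⟩ := Agent.Twisted.Tits.simple_commutator (F := ZMod 2) hK
  exact ⟨Agent.Twisted.Tits.index_commutator (F := ZMod 2) hK, h1, h2,
    Agent.Twisted.Tits.card_commutator (F := ZMod 2) hK⟩

end Cfsg.Agent.S1074
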