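import Cfsg.Statements.S1077
import Cfsg.Agent.Lib.Chev.Steinberg.Presented
import Cfsg.Agent.Lib.Chev.Seven

set_option autoImplicit false
open Cfsg

namespace Cfsg.Agent.S1077

/-- Steinberg's Theorem: there is a homomorphism `x̄_r(t) ↦ x_r(t)` from the presented group onto the Chevalley group whose kernel is precisely the centre; hence `L(K) ≅ Ḡ/Z(Ḡ)`. -/
theorem result {K : Type*} [Field K] (D : Cfsg.Lie.ChevalleyDatum) (hD : D ∈ [Cfsg.Lie.chevG2, Cfsg.Lie.chevB2, Cfsg.Lie.chevD4, Cfsg.Lie.chevF4, Cfsg.Lie.chevE6, Cfsg.Lie.chevE7, Cfsg.Lie.chevE8]) :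
    ∃ θ : D.SteinbergGroup K →* ↥(D.group K), Function.Surjective θ ∧ θ.ker = Subgroup.center (D.SteinbergGroup K) ∧
      ∀ (r : ℕ) (t : K), r < D.nroots → ((θ (D.stGen K r t) : GL D.Idx K) : Matrix D.Idx D.Idx K) = D.x K r t := by
  have hG := Agent.Chev.good_of_mem hD
  obtain ⟨tabs, simps, hf⟩ := Agent.Chev.BNSetup.exists_facts hD
  have hst := Agent.Chev.stData_of_mem D hD
  obtain ⟨θ, hs, hθ⟩ := hG.exists_steinberg_hom (F := K)
  refine ⟨θ, hs, le_antisymm ?_ ?_, hθ⟩
  · let S := Agent.Chev.steinbergModel D K ((D.group K).subtype.comp θ) fun r hr t => hG.eq_xg (hθ r t hr)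
    intro g hg
    refine S.ker_le_center hG hf hst (Agent.Chev.closure_stGen D K) ?_
    show ((D.group K).subtype.comp θ) g = 1
    rw [MonoidHom.comp_apply, MonoidHom.mem_ker.1 hg, map_one]
  · intro g hg
    have h : θ g ∈ Subgroup.center ↥(D.group K) := by
      rw [Subgroup.mem_center_iff]
      intro y
      obtain ⟨x, rfl⟩ := hs y
      rw [← map_mul, ← map_mul, Subgroup.mem_center_iff.1 hg x]
    rwa [Agent.Chev.center_group_eq_bot hG hD, Subgroup.mem_bot] at h

end Cfsg.Agent.S1077
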