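import Cfsg.Statements.S1078
import Cfsg.Agent.Lib.Chev.Steinberg.Presented
import Cfsg.Agent.Lib.Chev.Steinberg.TorusLift
import Cfsg.Agent.Lib.Chev.TorusCert
import Cfsg.Agent.Lib.Chev.Seven

set_option autoImplicit false
open Cfsg

namespace Cfsg.Agent.S1078

/-- For G₂, F₄, E₈ the presented group has trivial centre (the universal and adjoint groups coincide). -/
theorem result {K : Type*} [Field K] (D : Cfsg.Lie.ChevalleyDatum) (hD : D ∈ [Cfsg.Lie.chevG2, Cfsg.Lie.chevF4, Cfsg.Lie.chevE8]) :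
    Subgroup.center (D.SteinbergGroup K) = ⊥ := by
  have hD7 : D ∈ [Lie.chevG2, Lie.chevB2, Lie.chevD4, Lie.chevF4, Lie.chevE6, Lie.chevE7, Lie.chevE8] := by
    simp only [List.mem_cons, List.not_mem_nil, or_false] at hD ⊢
    tauto
  have hG := Agent.Chev.good_of_mem hD7
  obtain ⟨tabs, simps, hf⟩ := Agent.Chev.BNSetup.exists_facts hD7
  have hst := Agent.Chev.stData_of_mem D hD7
  obtain ⟨θ, hs, hθ⟩ := hG.exists_steinberg_hom (F := K)
  have hθ' : ∀ r < D.nroots, ∀ t : K, ((D.group K).subtype.comp θ) (D.stGen K r t) = Agent.Chev.xg D K r t :=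
    fun r hr t => hG.eq_xg (hθ r t hr)
  let S := Agent.Chev.steinbergModel D K ((D.group K).subtype.comp θ) hθ'
  have hm : S.MulRel := fun i hi t u ht hu => by
    have h := PresentedGroup.one_of_mem (rels := D.steinbergRels K)
      (Or.inr ⟨D.simple i, t, u, hG.simple_lt hi, ht, hu, rfl⟩)
    rwa [map_mul, map_mul, map_inv, mul_inv_eq_one, Agent.Chev.mk_stH D K _ hθ',
      Agent.Chev.mk_stH D K _ hθ',
      Agent.Chev.mk_stH D K _ hθ'] at h
  have hker : (Agent.Chev.BNSetup.torusHom K D).ker = ⊥ := by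
    have key : ∀ {C : Agent.Chev.BNSetup.KerCert D 1 0}, C.Valid →
        (Agent.Chev.BNSetup.torusHom K D).ker = ⊥ := by
      rintro C ⟨-, -, hQ, -⟩
      rw [Subgroup.eq_bot_iff_forall]
      intro c hc
      funext i
      have h := Agent.Chev.BNSetup.prod_zpow_comb c (C.Q i)
      simp only [hQ, Finset.univ_eq_empty, Finset.sum_empty, sub_zero, apply_ite, zpow_one, zpow_zero,
        Finset.prod_ite_eq', Finset.mem_univ, if_true] at h
      rw [← h]
      exact Finset.prod_eq_one fun j _ => by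
        rw [(Agent.Chev.BNSetup.mem_ker_torusHom hG).1 hc j, one_zpow]
    simp only [List.mem_cons, List.not_mem_nil, or_false] at hD
    rcases hD with rfl | rfl | rfl
    exacts [key Agent.Chev.BNSetup.kerCertG2_valid, key Agent.Chev.BNSetup.kerCertF4_valid,
      key Agent.Chev.BNSetup.kerCertE8_valid]
  have hS : S.θ.ker = ⊥ := by
    rw [S.ker_eq_map hG hf hst hm (Agent.Chev.closure_stGen D K), hker, Subgroup.map_bot]
  rw [Subgroup.eq_bot_iff_forall]
  intro g hg
  have h : θ g ∈ Subgroup.center ↥(D.group K) := by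
    rw [Subgroup.mem_center_iff]
    intro y
    obtain ⟨x, rfl⟩ := hs y
    rw [← map_mul, ← map_mul, Subgroup.mem_center_iff.1 hg x]
  rw [Agent.Chev.center_group_eq_bot hG hD7, Subgroup.mem_bot] at h
  have h' : g ∈ S.θ.ker := by
    show ((D.group K).subtype.comp θ) g = 1
    rw [MonoidHom.comp_apply, h, map_one]
  rwa [hS, Subgroup.mem_bot] at h'

end Cfsg.Agent.S1078
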