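import Cfsg.Statements.S1079
import Cfsg.Agent.Lib.Chev.Steinberg.Presented
import Cfsg.Agent.Lib.Chev.Steinberg.TorusLift
import Cfsg.Agent.Lib.Chev.Steinberg.Embed
import Cfsg.Agent.Lib.Chev.TorusCert
import Cfsg.Agent.Lib.Chev.Seven

set_option autoImplicit false
open Cfsg

namespace Cfsg.Agent.S1079

open Cfsg.Lie Cfsg.Agent.Chev

/-- The centre of the presented group has the order of the kernel of the torus map, when the type embeds in E8. -/
theorem card_center {K : Type*} [Field K] [Fintype K] (D : ChevalleyDatum)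
    (hD : D ∈ [chevG2, chevB2, chevD4, chevF4, chevE6, chevE7, chevE8]) (e : RootEmb D chevE8) {d : ℕ}
    (C : BNSetup.KerCert D d 1) (hC : C.Valid) :
    Nat.card (Subgroup.center (D.SteinbergGroup K)) = Nat.gcd d (Fintype.card K - 1) := by
  classical
  have hG := good_of_mem hD
  have hE : Good chevE8 := E8.good
  obtain ⟨tabs, simps, hf⟩ := BNSetup.exists_facts hD
  have hst := stData_of_mem D hD
  obtain ⟨θ, hs, hθ⟩ := hG.exists_steinberg_hom (F := K)
  have hθ' : ∀ r < D.nroots, ∀ t : K, ((D.group K).subtype.comp θ) (D.stGen K r t) = xg D K r t :=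
    fun r hr t => hG.eq_xg (hθ r t hr)
  let S := steinbergModel D K ((D.group K).subtype.comp θ) hθ'
  have hm : S.MulRel := fun i hi t u ht hu => by
    have h := PresentedGroup.one_of_mem (rels := D.steinbergRels K)
      (Or.inr ⟨D.simple i, t, u, hG.simple_lt hi, ht, hu, rfl⟩)
    rwa [map_mul, map_mul, map_inv, mul_inv_eq_one, mk_stH D K _ hθ', mk_stH D K _ hθ', mk_stH D K _ hθ'] at h
  have hcenter : Subgroup.center (D.SteinbergGroup K) = S.θ.ker := by
    refine le_antisymm (fun g hg => ?_) (S.ker_le_center hG hf hst (closure_stGen D K))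
    have h : θ g ∈ Subgroup.center ↥(D.group K) := by
      rw [Subgroup.mem_center_iff]
      intro y
      obtain ⟨x, rfl⟩ := hs y
      rw [← map_mul, ← map_mul, Subgroup.mem_center_iff.1 hg x]
    rw [center_group_eq_bot hG hD, Subgroup.mem_bot] at h
    show ((D.group K).subtype.comp θ) g = 1
    rw [MonoidHom.comp_apply, h, map_one]
  obtain ⟨ψ, hψ⟩ := exists_emb_hom (F := K) hG hE e
  have hinj : Function.Injective (S.tau hG hf hst hm) := by
    rw [← MonoidHom.ker_eq_bot_iff, Subgroup.eq_bot_iff_forall]
    intro c hc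
    rw [MonoidHom.mem_ker] at hc
    let ext : (Fin D.rank → Kˣ) →* (Fin chevE8.rank → Kˣ) :=
      MonoidHom.mk' (fun c j => if h : j.val < D.rank then c ⟨j.val, h⟩ else 1) fun a b => by
        funext j
        simp only [Pi.mul_apply]
        split_ifs <;> simp
    have key : ψ.comp (S.tau hG hf hst hm) = (BNSetup.torusHom K chevE8).comp ext := by
      refine MonoidHom.pi_ext fun i t => ?_
      rw [MonoidHom.comp_apply, MonoidHom.comp_apply, S.tau_single hG hf hst hm]
      have hext : ext (Pi.mulSingle i t) = Pi.mulSingle ⟨i.val, i.2.trans_le e.rank_le⟩ t := by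
        funext j
        show (if h : j.val < D.rank then (Pi.mulSingle i t : Fin D.rank → Kˣ) ⟨j.val, h⟩ else 1) = _
        by_cases hj : j.val = i.val
        · obtain rfl : j = ⟨i.val, i.2.trans_le e.rank_le⟩ := Fin.ext hj
          simp [i.2]
        · rw [Pi.mulSingle_eq_of_ne (fun h => hj (congrArg Fin.val h))]
          split_ifs with h
          · rw [Pi.mulSingle_eq_of_ne]
            exact fun h' => hj (congrArg Fin.val h')
          · rfl
      rw [hext, BNSetup.torusHom_single hE, ← mk_stH D K _ hθ', hψ i.val i.2]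
      exact Units.ext ((hE.coe_hG _ _).trans (BNSetup.coe_he hE _ _).symm)
    have h8 : BNSetup.torusHom K chevE8 (ext c) = 1 := by
      have h := congrFun (congrArg DFunLike.coe key) c
      rw [MonoidHom.comp_apply, hc, map_one, MonoidHom.comp_apply] at h
      exact h.symm
    obtain ⟨-, -, hQ, -⟩ := BNSetup.kerCertE8_valid
    funext i
    have hk : ext c = 1 := by
      funext j
      have h := BNSetup.prod_zpow_comb (ext c) (BNSetup.kerCertE8.Q j)
      simp only [hQ, Finset.univ_eq_empty, Finset.sum_empty, sub_zero, apply_ite, zpow_one, zpow_zero,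
        Finset.prod_ite_eq', Finset.mem_univ, if_true] at h
      rw [← h]
      exact Finset.prod_eq_one fun k _ => by rw [(BNSetup.mem_ker_torusHom hE).1 h8 k, one_zpow]
    have := congrFun hk ⟨i.val, i.2.trans_le e.rank_le⟩
    simpa [ext, i.2] using this
  rw [hcenter, S.ker_eq_map hG hf hst hm (closure_stGen D K), Subgroup.card_map_of_injective hinj,
    BNSetup.card_ker_torusHom hG C hC, pow_one]

end Cfsg.Agent.S1079

namespace Cfsg.Agent.S1079

/-- `|Z(Ḡ)| = gcd(3, q-1)` for E₆ and `gcd(2, q-1)` for E₇ over a field with `q` elements (the centre is dual to the weight lattice modulo the root lattice). -/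
theorem result {K : Type*} [Field K] [Fintype K] {q : ℕ} (hq : Fintype.card K = q)
    (p : Cfsg.Lie.ChevalleyDatum × ℕ) (hp : p ∈ [(Cfsg.Lie.chevE6, 3), (Cfsg.Lie.chevE7, 2)]) :
    Nat.card (Subgroup.center (p.1.SteinbergGroup K)) = Nat.gcd p.2 (q - 1) := by
  subst hq
  simp only [List.mem_cons, List.not_mem_nil, or_false] at hp
  rcases hp with rfl | rfl
  · obtain ⟨e⟩ := Agent.Chev.rootEmb_E6
    exact card_center _ (by simp) e _ Agent.Chev.BNSetup.kerCertE6_valid
  · obtain ⟨e⟩ := Agent.Chev.rootEmb_E7
    exact card_center _ (by simp) e _ Agent.Chev.BNSetup.kerCertE7_valid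

end Cfsg.Agent.S1079
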