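import Cfsg.Statements.S1081
import Cfsg.Agent.Lib.Chev.GraphAut
import Cfsg.Agent.Lib.Chev.TwistE6
import Cfsg.Agent.Lib.Chev.TwistD4
-- import your own Cfsg.Agent.* helpers here

set_option autoImplicit false
open Cfsg

namespace Cfsg.Agent.S1081

theorem gE6 : Cfsg.Agent.Chev.BNSetup.graphE6.OK Cfsg.Lie.chevE6 Cfsg.Agent.Chev.WeylTab.tabsE6 := by
  decide +kernel

theorem gD4 : Cfsg.Agent.Chev.BNSetup.graphD4.OK Cfsg.Lie.chevD4 Cfsg.Agent.Chev.WeylTab.tabsD4 := by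
  decide +kernel

theorem auxE6 {F : Type*} [Field F] (g : ↥(Cfsg.Lie.chevE6.group F)) {i : ℕ}
    (hi : i < Cfsg.Lie.chevE6.rank) (t : F) :
    (((g : GL Cfsg.Lie.chevE6.Idx F) : Matrix Cfsg.Lie.chevE6.Idx Cfsg.Lie.chevE6.Idx F) =
        Cfsg.Lie.chevE6.x F (Cfsg.Lie.chevE6.simple i) t →
      ((Cfsg.Agent.Chev.BNSetup.GraphTab.groupAut (F := F) Cfsg.Agent.Chev.E6.good Cfsg.Agent.Chev.BNSetup.facts_chevE6 gE6
        Cfsg.Agent.Chev.BNSetup.graphE6_cols (RingEquiv.refl F) g : GL Cfsg.Lie.chevE6.Idx F) : Matrix _ _ F) =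
        Cfsg.Lie.chevE6.x F (Cfsg.Lie.chevE6.simple ([5, 1, 4, 3, 2, 0].getD i 0)) t) ∧
    (((g : GL Cfsg.Lie.chevE6.Idx F) : Matrix Cfsg.Lie.chevE6.Idx Cfsg.Lie.chevE6.Idx F) =
        Cfsg.Lie.chevE6.x F (Cfsg.Lie.chevE6.neg (Cfsg.Lie.chevE6.simple i)) t →
      ((Cfsg.Agent.Chev.BNSetup.GraphTab.groupAut (F := F) Cfsg.Agent.Chev.E6.good Cfsg.Agent.Chev.BNSetup.facts_chevE6 gE6
        Cfsg.Agent.Chev.BNSetup.graphE6_cols (RingEquiv.refl F) g : GL Cfsg.Lie.chevE6.Idx F) : Matrix _ _ F) =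
        Cfsg.Lie.chevE6.x F (Cfsg.Lie.chevE6.neg (Cfsg.Lie.chevE6.simple ([5, 1, 4, 3, 2, 0].getD i 0))) t) := by
  have h := Cfsg.Agent.Chev.BNSetup.GraphTab.groupAut_simple (F := F) (G := Cfsg.Agent.Chev.BNSetup.graphE6) Cfsg.Agent.Chev.E6.good
    Cfsg.Agent.Chev.BNSetup.facts_chevE6 gE6 Cfsg.Agent.Chev.BNSetup.graphE6_cols g hi t
  rw [show Cfsg.Agent.Chev.BNSetup.graphE6.pi = [5, 1, 4, 3, 2, 0] from rfl] at h
  exact h

theorem auxD4 {F : Type*} [Field F] (g : ↥(Cfsg.Lie.chevD4.group F)) {i : ℕ}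
    (hi : i < Cfsg.Lie.chevD4.rank) (t : F) :
    (((g : GL Cfsg.Lie.chevD4.Idx F) : Matrix Cfsg.Lie.chevD4.Idx Cfsg.Lie.chevD4.Idx F) =
        Cfsg.Lie.chevD4.x F (Cfsg.Lie.chevD4.simple i) t →
      ((Cfsg.Agent.Chev.BNSetup.GraphTab.groupAut (F := F) Cfsg.Agent.Chev.D4.good Cfsg.Agent.Chev.BNSetup.facts_chevD4 gD4
        Cfsg.Agent.Chev.BNSetup.graphD4_cols (RingEquiv.refl F) g : GL Cfsg.Lie.chevD4.Idx F) : Matrix _ _ F) =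
        Cfsg.Lie.chevD4.x F (Cfsg.Lie.chevD4.simple ([2, 1, 3, 0].getD i 0)) t) ∧
    (((g : GL Cfsg.Lie.chevD4.Idx F) : Matrix Cfsg.Lie.chevD4.Idx Cfsg.Lie.chevD4.Idx F) =
        Cfsg.Lie.chevD4.x F (Cfsg.Lie.chevD4.neg (Cfsg.Lie.chevD4.simple i)) t →
      ((Cfsg.Agent.Chev.BNSetup.GraphTab.groupAut (F := F) Cfsg.Agent.Chev.D4.good Cfsg.Agent.Chev.BNSetup.facts_chevD4 gD4
        Cfsg.Agent.Chev.BNSetup.graphD4_cols (RingEquiv.refl F) g : GL Cfsg.Lie.chevD4.Idx F) : Matrix _ _ F) =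
        Cfsg.Lie.chevD4.x F (Cfsg.Lie.chevD4.neg (Cfsg.Lie.chevD4.simple ([2, 1, 3, 0].getD i 0))) t) := by
  have h := Cfsg.Agent.Chev.BNSetup.GraphTab.groupAut_simple (F := F) (G := Cfsg.Agent.Chev.BNSetup.graphD4) Cfsg.Agent.Chev.D4.good
    Cfsg.Agent.Chev.BNSetup.facts_chevD4 gD4 Cfsg.Agent.Chev.BNSetup.graphD4_cols g hi t
  rw [show Cfsg.Agent.Chev.BNSetup.graphD4.pi = [2, 1, 3, 0] from rfl] at h
  exact h

theorem pi_sq : ∀ i < Cfsg.Lie.chevD4.rank,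
    Cfsg.Agent.Chev.BNSetup.graphD4.pi.getD (Cfsg.Agent.Chev.BNSetup.graphD4.pi.getD i 0) 0 =
      [3, 1, 0, 2].getD i 0 := by
  decide +kernel

/-- Graph automorphisms: for E₆ with ρ = (p₁ p₆)(p₃ p₅) and for D₄ with ρ the 3-cycle on the outer nodes there is a group automorphism sending `x_p(t) ↦ x_{ρ(p)}(t)` and `x_{-p}(t) ↦ x_{-ρ(p)}(t)` for every fundamental root `p`. -/
theorem result {F : Type*} [Field F] (p : Cfsg.Lie.ChevalleyDatum × List ℕ)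
    (hp : p ∈ [(Cfsg.Lie.chevE6, [5, 1, 4, 3, 2, 0]), (Cfsg.Lie.chevD4, [2, 1, 3, 0]), (Cfsg.Lie.chevD4, [3, 1, 0, 2])]) :
    ∃ α : ↥(p.1.group F) ≃* ↥(p.1.group F), ∀ (g : ↥(p.1.group F)) (i : ℕ) (t : F), i < p.1.rank →
      (((g : GL p.1.Idx F) : Matrix p.1.Idx p.1.Idx F) = p.1.x F (p.1.simple i) t →
        ((α g : GL p.1.Idx F) : Matrix p.1.Idx p.1.Idx F) = p.1.x F (p.1.simple (p.2.getD i 0)) t) ∧
      (((g : GL p.1.Idx F) : Matrix p.1.Idx p.1.Idx F) = p.1.x F (p.1.neg (p.1.simple i)) t →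
        ((α g : GL p.1.Idx F) : Matrix p.1.Idx p.1.Idx F) = p.1.x F (p.1.neg (p.1.simple (p.2.getD i 0))) t) := by
  simp only [List.mem_cons, List.not_mem_nil, or_false] at hp
  rcases hp with rfl | rfl | rfl
  all_goals dsimp only
  · exact ⟨Cfsg.Agent.Chev.BNSetup.GraphTab.groupAut Cfsg.Agent.Chev.E6.good
      Cfsg.Agent.Chev.BNSetup.facts_chevE6 gE6 Cfsg.Agent.Chev.BNSetup.graphE6_cols (RingEquiv.refl F),
      fun g i t hi => auxE6 g hi t⟩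
  · exact ⟨Cfsg.Agent.Chev.BNSetup.GraphTab.groupAut Cfsg.Agent.Chev.D4.good
      Cfsg.Agent.Chev.BNSetup.facts_chevD4 gD4 Cfsg.Agent.Chev.BNSetup.graphD4_cols (RingEquiv.refl F),
      fun g i t hi => auxD4 g hi t⟩
  · let α := Cfsg.Agent.Chev.BNSetup.GraphTab.groupAut (F := F) Cfsg.Agent.Chev.D4.good
      Cfsg.Agent.Chev.BNSetup.facts_chevD4 gD4 Cfsg.Agent.Chev.BNSetup.graphD4_cols (RingEquiv.refl F)
    refine ⟨α.trans α, fun g i t hi => ⟨fun hg => ?_, fun hg => ?_⟩⟩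
    all_goals
      have hi' : [2, 1, 3, 0].getD i 0 < Cfsg.Lie.chevD4.rank := (gD4.1 i hi).1
      have hpi : [2, 1, 3, 0].getD ([2, 1, 3, 0].getD i 0) 0 =
          [3, 1, 0, 2].getD i 0 := pi_sq i hi
      rw [← hpi]
    · exact (auxD4 (α g) hi' t).1
        ((auxD4 g hi t).1 hg)
    · exact (auxD4 (α g) hi' t).2
        ((auxD4 g hi t).2 hg)

end Cfsg.Agent.S1081
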