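import Cfsg.Statements.S1097
import Cfsg.Agent.Lib.Chev.Steinberg.Kernel
import Cfsg.Agent.Lib.Chev.Seven

set_option autoImplicit false
open Cfsg

namespace Cfsg.Agent.S1097

/-- Any homomorphism from the presented group to the Chevalley group with `x̄_r(t) ↦ x_r(t)` has kernel contained in `H̄ = ⟨h̄_p(t) : p fundamental, t ≠ 0⟩`. -/
theorem result {K : Type*} [Field K] (D : Cfsg.Lie.ChevalleyDatum) (hD : D ∈ [Cfsg.Lie.chevG2, Cfsg.Lie.chevB2, Cfsg.Lie.chevD4, Cfsg.Lie.chevF4, Cfsg.Lie.chevE6, Cfsg.Lie.chevE7, Cfsg.Lie.chevE8]) (θ : D.SteinbergGroup K →* ↥(D.group K))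
    (hθ : ∀ (r : ℕ) (t : K), r < D.nroots → ((θ (D.stGen K r t) : GL D.Idx K) : Matrix D.Idx D.Idx K) = D.x K r t) :
    θ.ker ≤ Subgroup.closure {h | ∃ (i : ℕ) (t : K), i < D.rank ∧ t ≠ 0 ∧ h = PresentedGroup.mk (D.steinbergRels K) (D.stH (D.simple i) t)} := by
  have hG := Agent.Chev.good_of_mem hD
  obtain ⟨tabs, simps, hf⟩ := Agent.Chev.BNSetup.exists_facts hD
  have hst := Agent.Chev.stData_of_mem D hD
  let θ' : D.SteinbergGroup K →* GL D.Idx K := (D.group K).subtype.comp θ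
  have hθ' : ∀ r < D.nroots, ∀ t : K, θ' (D.stGen K r t) = Agent.Chev.xg D K r t :=
    fun r hr t => hG.eq_xg (hθ r t hr)
  let S := Agent.Chev.steinbergModel D K θ' hθ'
  have hle := S.ker_le_Hbar hG hf hst (Agent.Chev.closure_stGen D K)
  intro g hg
  have h1 : g ∈ S.Hbar := hle (by
    show θ' g = 1
    rw [MonoidHom.comp_apply, MonoidHom.mem_ker.1 hg, map_one])
  refine Subgroup.closure_mono ?_ h1
  rintro y ⟨i, t, hi, ht, rfl⟩
  exact ⟨i, t, hi, ht, (Agent.Chev.mk_stH D K θ' hθ' _ t).symm⟩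

end Cfsg.Agent.S1097
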