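import Cfsg.Statements.S1106
import Cfsg.Agent.Lib.Chev.TwistTorusD4

set_option autoImplicit false
open Cfsg

namespace Cfsg.Agent.S1106

/-- `|H¹| = |G¹ ∩ H|`: `|H¹| = (q - 1) ^ 2 * (q ^ 2 + q + 1)` for ³D₄(q). -/
theorem result {K : Type*} [Field K] [Fintype K] {q : ℕ} (hq : IsPrimePow q) (hK : Fintype.card K = q ^ 3) :
    Nat.card ↥(Cfsg.Lie.chevD4.diagonalSubgroup K ⊓ Cfsg.Lie.twistedD4 K q) = (q - 1) ^ 2 * (q ^ 2 + q + 1) := by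
  obtain ⟨φ, -, hGt, hcube, hcard⟩ := Agent.Chev.BNSetup.exists_frob3 hq hK
  rw [← hGt, Agent.Chev.BNSetup.card_diagonal_inf_D4 hK hcube hcard]
  have h1 : q ^ 3 - 1 = (q - 1) * (q ^ 2 + q + 1) := by
    obtain ⟨n, rfl⟩ : ∃ n, q = n + 1 := ⟨q - 1, by have := hq.one_lt; omega⟩
    rw [Nat.add_sub_cancel, Nat.sub_eq_iff_eq_add (Nat.one_le_pow 3 (n + 1) n.succ_pos)]
    ring
  rw [h1]
  ring

end Cfsg.Agent.S1106
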