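import Cfsg.Statements.S1107
import Cfsg.Agent.Lib.Chev.TwistWeyl
import Cfsg.Agent.Lib.Chev.TwistD4Group

set_option autoImplicit false
open Cfsg

namespace Cfsg.Agent.S1107

theorem pairOrders : ∀ i j : Fin 2, Agent.RootBN.PairOrder (Agent.Chev.BNSetup.orbD4.reflF 12 2 i)
    (Agent.Chev.BNSetup.orbD4.reflF 12 2 j) (CoxeterMatrix.G₂ i j) := by
  intro i j
  fin_cases i <;> fin_cases j <;> decide +kernel

/-- `N¹/H¹ ≅ W¹`: a surjective homomorphism from `N¹ = G¹ ∩ N` onto the Coxeter group of type G₂ (dihedral of order 12) with kernel `H¹`. -/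
theorem result {K : Type*} [Field K] [Fintype K] {q : ℕ} (hq : IsPrimePow q) (hK : Fintype.card K = q ^ 3) :
    ∃ φ : ↥(Cfsg.Lie.chevD4.monomialSubgroup K ⊓ Cfsg.Lie.twistedD4 K q) →* (CoxeterMatrix.G₂).Group, Function.Surjective φ ∧
      φ.ker = (Cfsg.Lie.chevD4.diagonalSubgroup K ⊓ Cfsg.Lie.twistedD4 K q).subgroupOf (Cfsg.Lie.chevD4.monomialSubgroup K ⊓ Cfsg.Lie.twistedD4 K q) := by
  obtain ⟨φ, -, hGt, -, -⟩ := Agent.Chev.BNSetup.exists_frob3 hq hK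
  rw [← hGt]
  exact Agent.Chev.BNSetup.exists_weyl_hom_Gt Agent.Chev.D4.good Agent.Chev.BNSetup.orbD4_ok φ
    Agent.Chev.BNSetup.facts_chevD4 Agent.Chev.BNSetup.negTri_chevD4 Agent.Chev.BNSetup.graphD4_cols
    CoxeterMatrix.G₂ pairOrders

end Cfsg.Agent.S1107
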