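import Cfsg.Statements.S1111
import Cfsg.Agent.Lib.Twisted.F4.Weyl
-- import your own Cfsg.Agent.* helpers here

set_option autoImplicit false
open Cfsg

namespace Cfsg.Agent.S1111

/-- `N¹/H¹ ≅ W¹`: a surjective homomorphism from `N¹ = G¹ ∩ N` onto the dihedral group of order 16 with kernel `H¹`. -/
theorem result {K : Type*} [Field K] [Fintype K] {m : ℕ} (hK : Fintype.card K = 2 ^ (2 * m + 1)) :
    ∃ φ : ↥(Cfsg.Lie.chevF4.monomialSubgroup K ⊓ Cfsg.Lie.twistedF4 K (2 ^ m)) →* DihedralGroup 8, Function.Surjective φ ∧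
      φ.ker = (Cfsg.Lie.chevF4.diagonalSubgroup K ⊓ Cfsg.Lie.twistedF4 K (2 ^ m)).subgroupOf (Cfsg.Lie.chevF4.monomialSubgroup K ⊓ Cfsg.Lie.twistedF4 K (2 ^ m)) := by
  have := Twisted.F4.charP_two hK
  let e := (MulEquiv.subgroupCongr (Twisted.F4.N_inf_twisted hK)).trans
    ((Twisted.F4.tw hK).data.N.equivMapOfInjective (Cfsg.Lie.chevF4.group K).subtype
      (Subgroup.subtype_injective _)).symm
  refine ⟨(Twisted.F4.weylHom hK).comp e.toMonoidHom,
    (Twisted.F4.weylHom_surjective hK).comp e.surjective, Subgroup.ext fun x => ?_⟩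
  rw [MonoidHom.mem_ker, MonoidHom.comp_apply, Twisted.F4.weylHom_ker hK,
    Subgroup.mem_subgroupOf, Twisted.F4.H_inf_twisted hK]
  have hx : ((((e x : ↥(Twisted.F4.tw hK).data.N) : Twisted.F4.G K)) : GL Cfsg.Lie.chevF4.Idx K) = x :=
    congrArg Subtype.val ((MulEquiv.apply_symm_apply _ _).trans rfl :
      ((Twisted.F4.tw hK).data.N.equivMapOfInjective (Cfsg.Lie.chevF4.group K).subtype
        (Subgroup.subtype_injective _)) (e x) = MulEquiv.subgroupCongr (Twisted.F4.N_inf_twisted hK) x)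
  rw [← hx]
  exact (Subgroup.mem_map_iff_mem (Subgroup.subtype_injective _)).symm

end Cfsg.Agent.S1111
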