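import Cfsg.Statements.S1115
import Cfsg.Agent.Lib.Twisted.Ree.Structure
-- import your own Cfsg.Agent.* helpers here

set_option autoImplicit false
open Cfsg

namespace Cfsg.Agent.S1115

/-- `N¹/H¹ ≅ W¹`: a surjective homomorphism from `N¹ = G¹ ∩ N` onto the group of order 2 with kernel `H¹`. -/
theorem result {K : Type*} [Field K] [Fintype K] {m : ℕ} (hK : Fintype.card K = 3 ^ (2 * m + 1)) :
    ∃ φ : ↥(Cfsg.Lie.chevG2.monomialSubgroup K ⊓ Cfsg.Lie.twistedG2 K (3 ^ m)) →* Multiplicative (ZMod 2), Function.Surjective φ ∧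
      φ.ker = (Cfsg.Lie.chevG2.diagonalSubgroup K ⊓ Cfsg.Lie.twistedG2 K (3 ^ m)).subgroupOf (Cfsg.Lie.chevG2.monomialSubgroup K ⊓ Cfsg.Lie.twistedG2 K (3 ^ m)) := by
  classical
  have := Twisted.Ree.charP_three hK
  have hN : Twisted.Ree.n0 K ∈ Cfsg.Lie.chevG2.monomialSubgroup K ⊓ Cfsg.Lie.twistedG2 K (3 ^ m) :=
    ⟨Twisted.Ree.n0_mem_monomial, Twisted.Ree.n0_mem_G1 m⟩
  have hn : Twisted.Ree.n0 K ∉ Cfsg.Lie.chevG2.diagonalSubgroup K := fun h =>
    Twisted.Ree.n0_not_borel (Subgroup.mem_sup_right h)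
  have hconj : ∀ k ∈ Cfsg.Lie.chevG2.diagonalSubgroup K, Twisted.Ree.n0 K * k * Twisted.Ree.n0 K ∈
      Cfsg.Lie.chevG2.diagonalSubgroup K := fun k hk => by
    have := Twisted.Ree.n0_conj_H hk
    rwa [Twisted.Ree.n0_inv] at this
  let φ : ↥(Cfsg.Lie.chevG2.monomialSubgroup K ⊓ Cfsg.Lie.twistedG2 K (3 ^ m)) →*
      Multiplicative (ZMod 2) :=
    MonoidHom.mk' (fun g => Multiplicative.ofAdd
      (if (g : GL Cfsg.Lie.chevG2.Idx K) ∈ Cfsg.Lie.chevG2.diagonalSubgroup K then 0 else 1)) (by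
      intro a b
      rw [← ofAdd_add]
      congr 1
      rcases (Twisted.Ree.mem_N1_iff hK).1 a.2 with ha | ⟨k, hk, ha⟩ <;>
        rcases (Twisted.Ree.mem_N1_iff hK).1 b.2 with hb | ⟨l, hl, hb⟩ <;>
        simp only [Subgroup.coe_mul]
      · rw [if_pos (Subgroup.mem_inf.1 ha).1, if_pos (Subgroup.mem_inf.1 hb).1, if_pos (Subgroup.mul_mem _ (Subgroup.mem_inf.1 ha).1 (Subgroup.mem_inf.1 hb).1)]; rfl
      · have hb' : (b : GL Cfsg.Lie.chevG2.Idx K) ∉ Cfsg.Lie.chevG2.diagonalSubgroup K := fun h =>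
          hn ((Subgroup.mul_mem_cancel_left _ (Subgroup.mem_inf.1 hl).1).1 (hb ▸ h))
        rw [if_pos (Subgroup.mem_inf.1 ha).1, if_neg hb',
          if_neg (mt (Subgroup.mul_mem_cancel_left _ (Subgroup.mem_inf.1 ha).1).1 hb')]
        rfl
      · have ha' : (a : GL Cfsg.Lie.chevG2.Idx K) ∉ Cfsg.Lie.chevG2.diagonalSubgroup K := fun h =>
          hn ((Subgroup.mul_mem_cancel_left _ (Subgroup.mem_inf.1 hk).1).1 (ha ▸ h))
        rw [if_neg ha', if_pos (Subgroup.mem_inf.1 hb).1,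
          if_neg (mt (Subgroup.mul_mem_cancel_right _ (Subgroup.mem_inf.1 hb).1).1 ha')]
        rfl
      · have ha' : (a : GL Cfsg.Lie.chevG2.Idx K) ∉ Cfsg.Lie.chevG2.diagonalSubgroup K := fun h =>
          hn ((Subgroup.mul_mem_cancel_left _ (Subgroup.mem_inf.1 hk).1).1 (ha ▸ h))
        have hb' : (b : GL Cfsg.Lie.chevG2.Idx K) ∉ Cfsg.Lie.chevG2.diagonalSubgroup K := fun h =>
          hn ((Subgroup.mul_mem_cancel_left _ (Subgroup.mem_inf.1 hl).1).1 (hb ▸ h))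
        have hab : (a : GL Cfsg.Lie.chevG2.Idx K) * b ∈ Cfsg.Lie.chevG2.diagonalSubgroup K := by
          rw [ha, hb]
          simpa [mul_assoc] using Subgroup.mul_mem _ (Subgroup.mem_inf.1 hk).1
            (hconj l (Subgroup.mem_inf.1 hl).1)
        rw [if_neg ha', if_neg hb', if_pos hab]
        rfl)
  refine ⟨φ, fun y => ?_, ?_⟩
  · rcases (show y = Multiplicative.ofAdd 0 ∨ y = Multiplicative.ofAdd 1 by revert y; decide) with rfl | rfl
    · exact ⟨1, by simp [φ]⟩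
    · exact ⟨⟨_, hN⟩, by simp [φ, hn]⟩
  · ext g
    rw [MonoidHom.mem_ker, Subgroup.mem_subgroupOf, Subgroup.mem_inf]
    simp only [φ, MonoidHom.mk'_apply]
    by_cases h : (g : GL Cfsg.Lie.chevG2.Idx K) ∈ Cfsg.Lie.chevG2.diagonalSubgroup K
    · simp [h, (Subgroup.mem_inf.1 g.2).2]
    · simp [h]

end Cfsg.Agent.S1115
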