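import Cfsg.Statements.S1118
import Cfsg.Agent.Lib.RankOne.Setup

set_option autoImplicit false
open Cfsg

namespace Cfsg.Agent.S1118

/-- In the rank-one set-up (`G` finite and doubly transitive on `Ω`, `t` an involution moving `a`, `Q` normal in `G_a` with `G_a = Q D`, `Q ⊓ D = 1` for the two-point stabiliser `D = G_a ⊓ G_{t • a}`, `|Q|` even, `|D|` odd), the normaliser of a subset of `Q` containing a non-identity element lies in `G_a`; consequently `N_G(Q) = N_G(G_a) = G_a`. -/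
theorem result {G Ω : Type*} [Group G] [Finite G] [MulAction G Ω] {a : Ω} {t : G} {Q : Subgroup G}
    (hS : Cfsg.IsRankOneSetup G Ω a t Q) :
    (∀ X : Set G, X ⊆ (Q : Set G) → (∃ x ∈ X, x ≠ 1) → Subgroup.normalizer X ≤ MulAction.stabilizer G a) ∧
      Subgroup.normalizer (Q : Set G) = MulAction.stabilizer G a ∧
      Subgroup.normalizer (MulAction.stabilizer G a : Set G) = MulAction.stabilizer G a := by
  have hfix : ∀ X : Set G, X ⊆ (Q : Set G) → (∃ x ∈ X, x ≠ 1) →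
      Subgroup.normalizer X ≤ MulAction.stabilizer G a := by
    rintro X hX ⟨x, hx, hx1⟩ g hg
    have h' : g * x * g⁻¹ ∈ X := (Subgroup.mem_set_normalizer_iff.1 hg x).1 hx
    exact RankOne.eq_of_fixed hS (hX h') (RankOne.conj_ne_one hx1)
      (RankOne.conj_smul_of_fixed (RankOne.smul_self_of_mem hS (hX hx)))
  obtain ⟨s, hs, hsQ⟩ := RankOne.exists_inv_a hS
  refine ⟨hfix, le_antisymm (hfix _ le_rfl ⟨s, hsQ, hs.2.1⟩) fun g hg => ?_,
    le_antisymm (fun g hg => ?_) Subgroup.le_normalizer⟩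
  · rw [Subgroup.mem_normalizer_iff]
    refine fun x => ⟨fun hx => hS.conj_mem g hg x hx, fun hx => ?_⟩
    have := hS.conj_mem g⁻¹ (inv_mem hg) _ hx
    rwa [show g⁻¹ * (g * x * g⁻¹) * g⁻¹⁻¹ = x by group] at this
  · have h' : g⁻¹ * s * g⁻¹⁻¹ ∈ MulAction.stabilizer G a :=
      (Subgroup.mem_normalizer_iff.1 (inv_mem hg) s).1 (hS.le hsQ)
    have h2 := RankOne.conj_smul_of_fixed (g := g) (x := g⁻¹ * s * g⁻¹⁻¹) (b := a) h'
    rw [show g * (g⁻¹ * s * g⁻¹⁻¹) * g⁻¹ = s by group] at h2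
    exact RankOne.eq_of_fixed hS hsQ hs.2.1 h2

end Cfsg.Agent.S1118
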