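import Cfsg.Statements.S1119
import Cfsg.Agent.Lib.RankOne.Setup

set_option autoImplicit false
open Cfsg

namespace Cfsg.Agent.S1119

/-- In the rank-one set-up (`G` finite and doubly transitive on `Ω`, `t` an involution moving `a`, `Q` normal in `G_a` with `G_a = Q D`, `Q ⊓ D = 1` for the two-point stabiliser `D = G_a ⊓ G_{t • a}`, `|Q|` even, `|D|` odd): `Q` acts regularly on `Ω` minus `a`; hence `|Ω| = |Q| + 1`, `|G| = |Q| |D| (|Q| + 1)`, some Sylow 2-subgroup of `G` lies in `Q`, and each `g ∉ G_a` is uniquely `x t y` with `x ∈ G_a`, `y ∈ Q` (canonical form). -/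
theorem result {G Ω : Type*} [Group G] [Finite G] [MulAction G Ω] {a : Ω} {t : G} {Q : Subgroup G}
    (hS : Cfsg.IsRankOneSetup G Ω a t Q) :
    (∀ b c : Ω, b ≠ a → c ≠ a → ∃! x : Q, (x : G) • b = c) ∧
      Nat.card Ω = Nat.card Q + 1 ∧
      Nat.card G = Nat.card Q * Nat.card ↥(MulAction.stabilizer G a ⊓ MulAction.stabilizer G (t • a)) * (Nat.card Q + 1) ∧
      (∃ P : Sylow 2 G, (P : Subgroup G) ≤ Q) ∧
      ∀ g : G, g ∉ MulAction.stabilizer G a → ∃! p : G × G, p.1 ∈ MulAction.stabilizer G a ∧ p.2 ∈ Q ∧ g = p.1 * t * p.2 := by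
  refine ⟨fun b c hb hc => RankOne.exists_unique_q hS hb hc, RankOne.card_omega hS,
    RankOne.card_group hS, RankOne.exists_sylow_le hS, fun g hg => ?_⟩
  have hne : g⁻¹ • a ≠ a := fun h => hg (inv_smul_eq_iff.1 h).symm
  obtain ⟨q, hq, hqb⟩ := RankOne.exists_q hS hne (RankOne.ta_ne hS)
  have hp : g * q⁻¹ * t ∈ MulAction.stabilizer G a := by
    show (g * q⁻¹ * t) • a = a
    rw [mul_smul, mul_smul, ← hqb, inv_smul_smul, smul_inv_smul]
  refine ⟨(g * q⁻¹ * t, q), ⟨hp, hq, ?_⟩, ?_⟩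
  · show g = g * q⁻¹ * t * t * q
    rw [mul_assoc (g * q⁻¹) t t, hS.mul_self, mul_one, inv_mul_cancel_right]
  · rintro ⟨p, q'⟩ ⟨hp', hq', e⟩
    have hq'e : q' = q := by
      refine RankOne.q_unique hS hne hq' hq ?_
      rw [hqb, e]
      have hpa : p⁻¹ • a = a := (inv_mem hp' : p⁻¹ ∈ MulAction.stabilizer G a)
      rw [mul_inv_rev, mul_inv_rev, mul_smul, mul_smul, hpa, smul_inv_smul, RankOne.t_inv hS]
    subst hq'e
    refine Prod.ext ?_ rfl
    show p = g * q'⁻¹ * t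
    have e' : g = p * t * q' := e
    rw [e', mul_inv_cancel_right, mul_assoc p, hS.mul_self, mul_one]

end Cfsg.Agent.S1119
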