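import Cfsg.Statements.S1120
import Cfsg.Agent.Lib.RankOne.Setup
import Cfsg.Agent.Lib.PCore.Basic

set_option autoImplicit false
open Cfsg

namespace Cfsg.Agent.S1120

/-- In the rank-one set-up (`G` finite and doubly transitive on `Ω`, `t` an involution moving `a`, `Q` normal in `G_a` with `G_a = Q D`, `Q ⊓ D = 1` for the two-point stabiliser `D = G_a ⊓ G_{t • a}`, `|Q|` even, `|D|` odd), if `G` has 2-rank at least 2 then `O_{2'}(G)` equals the normal core of `G_a`. -/
theorem result {G Ω : Type*} [Group G] [Finite G] [MulAction G Ω] {a : Ω} {t : G} {Q : Subgroup G}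
    (hS : Cfsg.IsRankOneSetup G Ω a t Q)
    (h2 : ∃ x y : G, x ≠ 1 ∧ y ≠ 1 ∧ x ≠ y ∧ x * x = 1 ∧ y * y = 1 ∧ x * y = y * x) :
    Cfsg.pPrimeCore 2 G = (MulAction.stabilizer G a).normalCore := by
  have := RankOne.isPretransitive hS
  refine le_antisymm ?_ ?_
  · obtain ⟨x, y, hx1, hy1, hxy, hx, hy, hc⟩ := h2
    have hK : (Cfsg.pPrimeCore 2 G).Normal := inferInstance
    have hodd : Odd (Nat.card ↥(Cfsg.pPrimeCore 2 G)) :=
      (Nat.coprime_two_right.1 PCore.coprime_card_pPrimeCore)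
    obtain ⟨p, hp, -⟩ := RankOne.exists_fix hS hx1 hx
    have hyp : y • p = p :=
      RankOne.fix_unique hS hx1 hx (by rw [← mul_smul, hc, mul_smul, hp]) hp
    have hle : Cfsg.pPrimeCore 2 G ≤ MulAction.stabilizer G p := by
      have key : ∀ z : G, z ≠ 1 → z * z = 1 → z • p = p → ∀ k ∈ Cfsg.pPrimeCore 2 G,
          z * k * z⁻¹ = k → k ∈ MulAction.stabilizer G p := by
        intro z hz1 hz hzp k _ hk
        refine RankOne.fix_unique hS hz1 hz ?_ hzp
        rw [← mul_smul, mul_inv_eq_iff_eq_mul.1 hk, mul_smul, hzp]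
      refine RankOne.le_of_four_group_centralizers hodd hx hy hc
        (fun k hk => hK.conj_mem k hk x) (fun k hk => hK.conj_mem k hk y)
        (key x hx1 hx hp) (key y hy1 hy hyp) (key (x * y) ?_ ?_ ?_)
      · exact fun h => hxy ((eq_inv_of_mul_eq_one_left h).trans (RankOne.invol_inv hy))
      · rw [mul_assoc, ← mul_assoc y, ← hc, mul_assoc x y y, hy, mul_one, hx]
      · rw [mul_smul, hyp, hp]
    obtain ⟨g, hg⟩ := MulAction.exists_smul_eq G a p
    refine Subgroup.normal_le_normalCore.2 fun k hk => ?_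
    have h := hle (hK.conj_mem k hk g)
    have h' : (g * k * g⁻¹) • p = p := h
    have := RankOne.conj_smul_of_fixed (g := g⁻¹) h'
    rwa [show g⁻¹ * (g * k * g⁻¹) * g⁻¹⁻¹ = k by group, ← hg, inv_smul_smul] at this
  · have hN : (MulAction.stabilizer G a).normalCore.Normal := inferInstance
    refine PCore.le_pPrimeCore (Nat.coprime_two_right.2 ?_)
    refine hS.odd_card.of_dvd_nat (Subgroup.card_dvd_of_le (le_inf (Subgroup.normalCore_le _) ?_))
    intro k hk
    have h : (t⁻¹ * k * t⁻¹⁻¹) • a = a := Subgroup.normalCore_le _ (hN.conj_mem k hk t⁻¹)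
    have := RankOne.conj_smul_of_fixed (g := t) h
    rwa [show t * (t⁻¹ * k * t⁻¹⁻¹) * t⁻¹ = k by group] at this

end Cfsg.Agent.S1120
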