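import Cfsg.Statements.S1124
import Cfsg.Agent.Lib.RankOne.Inverted

set_option autoImplicit false
open scoped Pointwise
open Cfsg

namespace Cfsg.Agent.S1124

/-- Let `t` be an element of order 2 of a finite group normalising a subgroup `X` of odd order, `Y = C_X(t)` and `Z` the set of elements of `X` inverted by `t`. Then `(y, z) ↦ y z` is a bijection `Y × Z → X`, so `|X| = |Y| |Z|`, and the subgroup generated by `Z` is normal in `X`. -/
theorem result {M : Type*} [Group M] [Finite M]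
    (t : M) (ht : orderOf t = 2) (X : Subgroup M) (hodd : Odd (Nat.card X))
    (hnorm : ∀ x ∈ X, t * x * t⁻¹ ∈ X) :
    (∀ x ∈ X, ∃! p : M × M, p.1 ∈ X ⊓ Subgroup.centralizer {t} ∧ p.2 ∈ Cfsg.invertedBy X t ∧ x = p.1 * p.2) ∧
      Nat.card X = Nat.card ↥(X ⊓ Subgroup.centralizer {t}) * Nat.card (Cfsg.invertedBy X t) ∧
      ∀ x ∈ X, MulAut.conj x • Subgroup.closure (Cfsg.invertedBy X t) = Subgroup.closure (Cfsg.invertedBy X t) := by
  have ht2 : t * t = 1 := by rw [← pow_two, ← ht, pow_orderOf_eq_one]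
  have hcent : ∀ c : M, c ∈ Subgroup.centralizer ({t} : Set M) ↔ t * c * t⁻¹ = c := fun c => by
    rw [Subgroup.mem_centralizer_singleton_iff, mul_inv_eq_iff_eq_mul]
    exact eq_comm
  have h1 : ∀ x ∈ X, ∃! p : M × M, p.1 ∈ X ⊓ Subgroup.centralizer {t} ∧
      p.2 ∈ Cfsg.invertedBy X t ∧ x = p.1 * p.2 := by
    intro x hx
    obtain ⟨c, p, hc, hct, hp, hpt, rfl⟩ := RankOne.exists_fix_mul_inverted hodd ht2 hnorm hx
    refine ⟨(c, p), ⟨⟨hc, (hcent c).2 hct⟩, ⟨hp, hpt⟩, rfl⟩, ?_⟩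
    rintro ⟨c', p'⟩ ⟨⟨-, hct'⟩, ⟨hp', hpt'⟩, e⟩
    obtain ⟨h, h'⟩ :=
      RankOne.fix_mul_inverted_unique hodd hp' hp ((hcent c').1 hct') hct hpt' hpt e.symm
    exact Prod.ext h h'
  refine ⟨h1, ?_, ?_⟩
  · rw [← Nat.card_prod]
    refine (Nat.card_eq_of_bijective
      (fun p : ↥(X ⊓ Subgroup.centralizer {t}) × Cfsg.invertedBy X t =>
        (⟨p.1.1 * p.2.1, mul_mem p.1.2.1 p.2.2.1⟩ : X)) ⟨?_, ?_⟩).symm
    · rintro ⟨c, p⟩ ⟨c', p'⟩ e
      have e' : c.1 * p.1 = c'.1 * p'.1 := congrArg Subtype.val e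
      have := (h1 _ (mul_mem c.2.1 p.2.1)).unique (y₁ := (c.1, p.1)) (y₂ := (c'.1, p'.1))
        ⟨c.2, p.2, rfl⟩ ⟨c'.2, p'.2, e'⟩
      exact Prod.ext (Subtype.ext (congrArg Prod.fst this)) (Subtype.ext (congrArg Prod.snd this))
    · rintro ⟨x, hx⟩
      obtain ⟨⟨c, p⟩, ⟨hc, hp, e⟩, -⟩ := h1 x hx
      exact ⟨(⟨c, hc⟩, ⟨p, hp⟩), Subtype.ext e.symm⟩
  · intro x hx
    have key : ∀ c, c ∈ X ⊓ Subgroup.centralizer {t} →
        MulAut.conj c • Subgroup.closure (Cfsg.invertedBy X t) ≤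
          Subgroup.closure (Cfsg.invertedBy X t) := by
      intro c hc
      rw [Subgroup.smul_closure, Subgroup.closure_le]
      rintro _ ⟨p, ⟨hp, hpt⟩, rfl⟩
      refine Subgroup.subset_closure ⟨?_, ?_⟩
      · exact mul_mem (mul_mem hc.1 hp) (inv_mem hc.1)
      · show t * (c * p * c⁻¹) * t⁻¹ = (c * p * c⁻¹)⁻¹
        calc t * (c * p * c⁻¹) * t⁻¹
            = (t * c * t⁻¹) * (t * p * t⁻¹) * (t * c * t⁻¹)⁻¹ := by group
          _ = (c * p * c⁻¹)⁻¹ := by rw [(hcent c).1 hc.2, hpt]; group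
    obtain ⟨⟨c, p⟩, ⟨hc, hp, rfl⟩, -⟩ := h1 x hx
    rw [map_mul, mul_smul, Subgroup.conj_smul_eq_self_of_mem (Subgroup.subset_closure hp)]
    refine le_antisymm (key c hc) ?_
    rw [Subgroup.subset_pointwise_smul_iff, ← map_inv]
    exact key c⁻¹ (inv_mem hc)

end Cfsg.Agent.S1124
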