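import Cfsg.Statements.S1127
import Cfsg.Agent.Lib.RankOne.Inverting

set_option autoImplicit false
open Cfsg

namespace Cfsg.Agent.S1127

/-- In the rank-one set-up (`G` finite and doubly transitive on `Ω`, `t` an involution moving `a`, `Q` normal in `G_a` with `G_a = Q D`, `Q ⊓ D = 1` for the two-point stabiliser `D = G_a ⊓ G_{t • a}`, `|Q|` even, `|D|` odd): if `s` is an involution of `G_a` and `r ∈ Q` satisfy `t s t = r⁻¹ t r`, then `C_D(t) = C_D(s)`; moreover `C_D(t) ⊓ C_D(K) = C_D(I ∩ G_a)`, where `K` is the set of elements of `D` inverted by `t` and `I ∩ G_a` the set of involutions of `G_a`. -/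
theorem result {G Ω : Type*} [Group G] [Finite G] [MulAction G Ω] {a : Ω} {t : G} {Q : Subgroup G}
    (hS : Cfsg.IsRankOneSetup G Ω a t Q) :
    (∀ s r : G, s ∈ Cfsg.involutionsIn (MulAction.stabilizer G a : Set G) → r ∈ Q → t * s * t = r⁻¹ * t * r →
        (MulAction.stabilizer G a ⊓ MulAction.stabilizer G (t • a)) ⊓ Subgroup.centralizer {t} = (MulAction.stabilizer G a ⊓ MulAction.stabilizer G (t • a)) ⊓ Subgroup.centralizer {s}) ∧
      (MulAction.stabilizer G a ⊓ MulAction.stabilizer G (t • a)) ⊓ Subgroup.centralizer {t} ⊓ Subgroup.centralizer (Cfsg.invertedBy (MulAction.stabilizer G a ⊓ MulAction.stabilizer G (t • a)) t) =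
        (MulAction.stabilizer G a ⊓ MulAction.stabilizer G (t • a)) ⊓ Subgroup.centralizer (Cfsg.involutionsIn (MulAction.stabilizer G a : Set G)) := by
  refine ⟨fun s r hs hr e => RankOne.centralizer_s0 hS hs hr e, ?_⟩
  obtain ⟨⟨s, r⟩, ⟨hs, hr, e⟩, -⟩ := RankOne.exists_unique_pair hS
  have hC := RankOne.centralizer_s0 hS hs hr e
  refine le_antisymm ?_ ?_
  · rintro c ⟨⟨hcD, hct⟩, hcI⟩
    refine ⟨hcD, Subgroup.mem_centralizer_iff.2 fun s' hs' => ?_⟩
    obtain ⟨k, hk, rfl⟩ := RankOne.exists_conj_s0 hS hs hr e hs'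
    have hcs : c ∈ RankOne.twoPt G a t ⊓ Subgroup.centralizer {s} := hC ▸ ⟨hcD, hct⟩
    have h1 : Commute c s := Subgroup.mem_centralizer_singleton_iff.1 hcs.2
    have h2 : Commute c k := (Subgroup.mem_centralizer_iff.1 hcI k hk).symm
    exact ((h2.inv_right.mul_right h1).mul_right h2).eq.symm
  · rintro c ⟨hcD, hcV⟩
    have hV := Subgroup.mem_centralizer_iff.1 hcV
    have hcC : c ∈ RankOne.twoPt G a t ⊓ Subgroup.centralizer {t} :=
      hC ▸ ⟨hcD, Subgroup.mem_centralizer_singleton_iff.2 (hV s hs).symm⟩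
    refine ⟨hcC, Subgroup.mem_centralizer_iff.2 fun k hk => ?_⟩
    have hks := hV _ (RankOne.conj_mem_invA hS hs (d := k) hk.1.1)
    have hm : k * c * k⁻¹ ∈ RankOne.twoPt G a t ⊓ Subgroup.centralizer {t} := by
      rw [hC]
      refine ⟨(mul_mem (mul_mem hk.1 hcD) (inv_mem hk.1) : _ ∈ RankOne.twoPt G a t),
        Subgroup.mem_centralizer_singleton_iff.2 ?_⟩
      calc k * c * k⁻¹ * s = k * (c * (k⁻¹ * s * k)) * k⁻¹ := by group
        _ = k * (k⁻¹ * s * k * c) * k⁻¹ := by rw [hks]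
        _ = s * (k * c * k⁻¹) := by group
    have e1 : t * (k * c * k⁻¹) * t⁻¹ = k * c * k⁻¹ := by
      rw [← Subgroup.mem_centralizer_singleton_iff.1 hm.2, mul_inv_cancel_right]
    have e2 : t * c * t⁻¹ = c := by
      rw [← Subgroup.mem_centralizer_singleton_iff.1 hcC.2, mul_inv_cancel_right]
    have e3 : k * c * k⁻¹ = k⁻¹ * c * k := by
      calc k * c * k⁻¹ = t * (k * c * k⁻¹) * t⁻¹ := e1.symm
        _ = (t * k * t⁻¹) * (t * c * t⁻¹) * (t * k * t⁻¹)⁻¹ := by group
        _ = k⁻¹ * c * k := by rw [hk.2, e2, inv_inv]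
    have e4 : Commute c (k * k) := by
      show c * (k * k) = k * k * c
      calc c * (k * k) = k * (k⁻¹ * c * k) * k := by group
        _ = k * (k * c * k⁻¹) * k := by rw [e3]
        _ = k * k * c := by group
    exact (RankOne.commute_of_commute_sq hS.odd_card hk.1 e4).eq.symm

end Cfsg.Agent.S1127
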