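import Cfsg.Statements.S1132
import Cfsg.Agent.Lib.RankOne.InvertedCyclic
import Cfsg.Agent.Lib.RankOne.FixedSet

set_option autoImplicit false
open Cfsg

namespace Cfsg.Agent.S1132

/-- In the rank-one set-up (`G` finite and doubly transitive on `Ω`, `t` an involution moving `a`, `Q` normal in `G_a` with `G_a = Q D`, `Q ⊓ D = 1` for the two-point stabiliser `D = G_a ⊓ G_{t • a}`, `|Q|` even, `|D|` odd), with the action faithful and `G` containing two distinct commuting involutions: a Sylow 2-subgroup of `Q` is abelian or a Suzuki 2-group. -/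
theorem result {G Ω : Type*} [Group G] [Finite G] [MulAction G Ω] [FaithfulSMul G Ω] {a : Ω} {t : G} {Q : Subgroup G}
    (hS : Cfsg.IsRankOneSetup G Ω a t Q)
    (h2 : ∃ x y : G, x ≠ 1 ∧ y ≠ 1 ∧ x ≠ y ∧ x * x = 1 ∧ y * y = 1 ∧ x * y = y * x)
    (S : Sylow 2 ↥Q) : IsMulCommutative (S : Subgroup ↥Q) ∨ Cfsg.IsSuzukiTwoGroup ↥(S : Subgroup ↥Q) := by
  classical
  obtain ⟨⟨k0, hk0, hK⟩, -, -⟩ := Cfsg.Agent.RankOne.inverted_structure hS h2
  haveI : Fact (Nat.Prime 2) := ⟨Nat.prime_two⟩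
  by_cases hcomm : IsMulCommutative (S : Subgroup ↥Q)
  · exact Or.inl hcomm
  refine Or.inr ?_
  have hnil := Cfsg.Agent.RankOne.isNilpotent_Q hS h2
  haveI := hnil
  haveI hSn : (S : Subgroup ↥Q).Normal :=
    (((Group.isNilpotent_of_finite_tfae (G := ↥Q)).out 0 3).mp hnil : ∀ (p : ℕ) (_hp : Fact p.Prime)
      (P : Sylow p ↥Q), (P : Subgroup ↥Q).Normal) 2 inferInstance S
  -- two-elements of `Q` lie in `S`
  have hmemS : ∀ q : ↥Q, q ^ 2 = 1 → q ∈ (S : Subgroup ↥Q) := by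
    intro q hq
    have hpg : IsPGroup 2 ↥(Subgroup.zpowers q) := by
      obtain ⟨k, -, hk⟩ := (Nat.dvd_prime_pow Nat.prime_two).1
        (show orderOf q ∣ 2 ^ 1 by rw [pow_one]; exact orderOf_dvd_of_pow_eq_one hq)
      exact IsPGroup.of_card (n := k) (by rw [Nat.card_zpowers, hk])
    obtain ⟨P, hP⟩ := hpg.exists_le_sylow
    haveI := Sylow.unique_of_normal S hSn
    rw [Subsingleton.elim S P]
    exact hP (Subgroup.mem_zpowers q)
  have hinA : ∀ z : ↥(S : Subgroup ↥Q), z ≠ 1 → z * z = 1 →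
      (((z : ↥Q) : G)) ∈ Cfsg.Agent.RankOne.invA G a := fun z hz1 hz2 =>
    ⟨hS.le (z : ↥Q).2, fun e => hz1 (Subtype.ext (Subtype.ext e)),
      congrArg (fun w : ↥(S : Subgroup ↥Q) => ((w : ↥Q) : G)) hz2⟩
  -- the cyclic group of automorphisms
  let K0 : Subgroup G := Subgroup.zpowers k0
  have hK0 : ∀ k ∈ K0, k ∈ Cfsg.Agent.RankOne.invD G a t := fun k hk => by
    have : k ∈ ((Subgroup.zpowers k0 : Subgroup G) : Set G) := hk
    rwa [hK] at this
  let cQ : ↥K0 →* MulAut ↥Q :=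
    { toFun := fun k =>
        { toFun := fun q => ⟨k * q * (k : G)⁻¹, hS.conj_mem _ (hK0 k k.2).1.1 q q.2⟩
          invFun := fun q => ⟨(k : G)⁻¹ * q * k, by
            have := hS.conj_mem _ (inv_mem (hK0 k k.2).1.1) q q.2
            rwa [inv_inv] at this⟩
          left_inv := fun q => Subtype.ext (by simp [mul_assoc])
          right_inv := fun q => Subtype.ext (by simp [mul_assoc])
          map_mul' := fun q q' => Subtype.ext (by simp [mul_assoc]) }
      map_one' := MulEquiv.ext fun q => Subtype.ext (by simp)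
      map_mul' := fun k k' => MulEquiv.ext fun q => Subtype.ext (by simp [mul_assoc]) }
  have hinv : ∀ (k : ↥K0) (q : ↥Q), q ∈ (S : Subgroup ↥Q) → cQ k q ∈ (S : Subgroup ↥Q) := by
    intro k q hq
    have hchar : (S : Subgroup ↥Q).Characteristic := Sylow.characteristic_of_normal S hSn
    show q ∈ Subgroup.comap (cQ k).toMonoidHom (S : Subgroup ↥Q)
    rw [hchar.fixed (cQ k)]
    exact hq
  let cS : ↥K0 →* MulAut ↥(S : Subgroup ↥Q) :=
    { toFun := fun k =>
        { toFun := fun q => ⟨cQ k q, hinv k q q.2⟩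
          invFun := fun q => ⟨cQ k⁻¹ q, hinv k⁻¹ q q.2⟩
          left_inv := fun q => Subtype.ext (by
            show cQ k⁻¹ (cQ k q) = q
            rw [← MulAut.mul_apply, ← map_mul, inv_mul_cancel, map_one, MulAut.one_apply])
          right_inv := fun q => Subtype.ext (by
            show cQ k (cQ k⁻¹ q) = q
            rw [← MulAut.mul_apply, ← map_mul, mul_inv_cancel, map_one, MulAut.one_apply])
          map_mul' := fun q q' => Subtype.ext (map_mul (cQ k) _ _) }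
      map_one' := MulEquiv.ext fun q => Subtype.ext (by simp)
      map_mul' := fun k k' => MulEquiv.ext fun q => Subtype.ext (by simp) }
  refine ⟨inferInstance, S.isPGroup', ?_, ?_, cS.range, ?_, ?_⟩
  · by_contra hcon
    push Not at hcon
    exact hcomm ⟨⟨hcon⟩⟩
  · obtain ⟨s, hs, s', hs', hne⟩ := Cfsg.Agent.RankOne.exists_ne_invA hS h2
    have m := fun (z : G) (hz : z ∈ Cfsg.Agent.RankOne.invA G a) =>
      hmemS ⟨z, (Cfsg.Agent.RankOne.invA_central hS h2 hz).1⟩ (Subtype.ext (by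
        show z ^ 2 = 1
        rw [pow_two]; exact hz.2.2))
    exact ⟨⟨_, m s hs⟩, ⟨_, m s' hs'⟩, fun e => hne (congrArg (fun z : ↥(S : Subgroup ↥Q) => ((z : ↥Q) : G)) e),
      fun e => hs.2.1 (congrArg (fun z : ↥(S : Subgroup ↥Q) => ((z : ↥Q) : G)) e),
      Subtype.ext (Subtype.ext hs.2.2),
      fun e => hs'.2.1 (congrArg (fun z : ↥(S : Subgroup ↥Q) => ((z : ↥Q) : G)) e),
      Subtype.ext (Subtype.ext hs'.2.2)⟩
  · exact isCyclic_of_surjective cS.rangeRestrict cS.rangeRestrict_surjective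
  · intro x y hx1 hx hy1 hy
    obtain ⟨k, hk, hkxy⟩ := Cfsg.Agent.RankOne.exists_conj_inverted hS (hinA x hx1 hx) (hinA y hy1 hy)
    have hkK : k ∈ K0 := by
      show k ∈ ((Subgroup.zpowers k0 : Subgroup G) : Set G)
      rw [hK]; exact hk
    refine ⟨⟨cS (⟨k, hkK⟩ : ↥K0)⁻¹, _, rfl⟩, Subtype.ext (Subtype.ext ?_), ?_⟩
    · show k⁻¹ * ((x : ↥Q) : G) * k⁻¹⁻¹ = _
      rw [inv_inv, hkxy]
    · rintro ⟨_, k', rfl⟩ he
      have e' : (k' : G) * ((x : ↥Q) : G) * (k' : G)⁻¹ = k⁻¹ * ((x : ↥Q) : G) * k := by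
        rw [hkxy]; exact congrArg (fun z : ↥(S : Subgroup ↥Q) => ((z : ↥Q) : G)) he
      have hkk : k' = (⟨k, hkK⟩ : ↥K0)⁻¹ := by
        by_contra hne
        refine hx1 (Subtype.ext (Subtype.ext (Cfsg.Agent.RankOne.inverted_fpf hS
          (hK0 (k * k') (mul_mem hkK k'.2)) (fun e1 => hne (Subtype.ext ?_)) (x : ↥Q).2 ?_)))
        · exact eq_inv_of_mul_eq_one_right e1
        · calc ((x : ↥Q) : G) * (k * k') = k * (k⁻¹ * ((x : ↥Q) : G) * k) * k' := by group
            _ = k * ((k' : G) * ((x : ↥Q) : G) * (k' : G)⁻¹) * k' := by rw [e']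
            _ = k * k' * ((x : ↥Q) : G) := by group
      exact Subtype.ext (by rw [hkk])

end Cfsg.Agent.S1132
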