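import Cfsg.Statements.S1133
import Cfsg.Agent.Lib.RankOne.InvertedCyclic

set_option autoImplicit false
open Cfsg

namespace Cfsg.Agent.S1133

/-- In the rank-one set-up (`G` finite and doubly transitive on `Ω`, `t` an involution moving `a`, `Q` normal in `G_a` with `G_a = Q D`, `Q ⊓ D = 1` for the two-point stabiliser `D = G_a ⊓ G_{t • a}`, `|Q|` even, `|D|` odd), with the action faithful and `G` containing two distinct commuting involutions, with `V = C_D(t)`, `K` the elements of `D` inverted by `t` and `W = C_V(K)`: `V/W` is cyclic, i.e. `V = W ⟨v⟩` for some `v ∈ V`. -/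
theorem result {G Ω : Type*} [Group G] [Finite G] [MulAction G Ω] [FaithfulSMul G Ω] {a : Ω} {t : G} {Q : Subgroup G}
    (hS : Cfsg.IsRankOneSetup G Ω a t Q)
    (h2 : ∃ x y : G, x ≠ 1 ∧ y ≠ 1 ∧ x ≠ y ∧ x * x = 1 ∧ y * y = 1 ∧ x * y = y * x) :
    ∃ v ∈ (MulAction.stabilizer G a ⊓ MulAction.stabilizer G (t • a)) ⊓ Subgroup.centralizer {t},
      ((MulAction.stabilizer G a ⊓ MulAction.stabilizer G (t • a)) ⊓ Subgroup.centralizer {t} ⊓ Subgroup.centralizer (Cfsg.invertedBy (MulAction.stabilizer G a ⊓ MulAction.stabilizer G (t • a)) t)) ⊔ Subgroup.closure {v} =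
        (MulAction.stabilizer G a ⊓ MulAction.stabilizer G (t • a)) ⊓ Subgroup.centralizer {t} := by
  classical
  obtain ⟨-, -, p, Z, hZ, θ, -, hcyc, hker⟩ := Cfsg.Agent.RankOne.inverted_structure hS h2
  haveI := hcyc
  haveI : IsCyclic ↥θ.range := inferInstance
  obtain ⟨g, hg⟩ := IsCyclic.exists_generator (α := ↥θ.range)
  obtain ⟨v, hv⟩ := g.2
  refine ⟨v, v.2, le_antisymm (sup_le inf_le_left
    ((Subgroup.closure_le _).2 (Set.singleton_subset_iff.2 v.2))) fun u hu => ?_⟩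
  obtain ⟨i, hi⟩ := Subgroup.mem_zpowers_iff.1 (hg ⟨θ ⟨u, hu⟩, _, rfl⟩)
  have hi' : θ v ^ i = θ ⟨u, hu⟩ := by
    rw [hv]; exact congrArg Subtype.val hi
  have hw : θ (⟨u, hu⟩ * (v ^ i)⁻¹) = 1 := by rw [map_mul, map_inv, map_zpow, hi', mul_inv_cancel]
  have hwmem := fun k hk => hker _ hw k hk
  have hm := mul_mem hu (inv_mem (zpow_mem v.2 i))
  rw [show u = (u * ((v : G) ^ i)⁻¹) * (v : G) ^ i by group]
  refine Subgroup.mul_mem_sup ⟨hm, ?_⟩
    (zpow_mem (Subgroup.subset_closure (Set.mem_singleton (v : G))) i)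
  exact Subgroup.mem_centralizer_iff.2 fun k hk => (hwmem k hk).symm.eq

end Cfsg.Agent.S1133
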