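import Cfsg.Statements.S1134
import Cfsg.Agent.Lib.RankOne.FixedSet

set_option autoImplicit false
open Cfsg

namespace Cfsg.Agent.S1134

/-- In the rank-one set-up (`G` finite and doubly transitive on `Ω`, `t` an involution moving `a`, `Q` normal in `G_a` with `G_a = Q D`, `Q ⊓ D = 1` for the two-point stabiliser `D = G_a ⊓ G_{t • a}`, `|Q|` even, `|D|` odd), with the action faithful and `G` containing two distinct commuting involutions, with `V = C_D(t)`: subsets of `V` conjugate in `G` are conjugate in `V`. -/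
theorem result {G Ω : Type*} [Group G] [Finite G] [MulAction G Ω] [FaithfulSMul G Ω] {a : Ω} {t : G} {Q : Subgroup G}
    (hS : Cfsg.IsRankOneSetup G Ω a t Q)
    (h2 : ∃ x y : G, x ≠ 1 ∧ y ≠ 1 ∧ x ≠ y ∧ x * x = 1 ∧ y * y = 1 ∧ x * y = y * x)
    (X : Set G) (hX : X ⊆ (((MulAction.stabilizer G a ⊓ MulAction.stabilizer G (t • a)) ⊓ Subgroup.centralizer {t} : Subgroup G) : Set G)) (g : G)
    (hY : (fun x => g * x * g⁻¹) '' X ⊆ (((MulAction.stabilizer G a ⊓ MulAction.stabilizer G (t • a)) ⊓ Subgroup.centralizer {t} : Subgroup G) : Set G)) :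
    ∃ v ∈ (MulAction.stabilizer G a ⊓ MulAction.stabilizer G (t • a)) ⊓ Subgroup.centralizer {t}, (fun x => v * x * v⁻¹) '' X = (fun x => g * x * g⁻¹) '' X := by
  obtain ⟨⟨s, r⟩, ⟨hs, hr, e⟩, -⟩ := RankOne.exists_unique_pair hS
  have hC := RankOne.centralizer_s0 hS hs hr e
  have hsQ := RankOne.mem_Q_of_inv hS hs.2.1 hs.2.2 hs.1
  have fa : ∀ x ∈ X, x • a = a := fun x hx => (hX hx).1.1
  have fb : ∀ x ∈ X, x • t • a = t • a := fun x hx => (hX hx).1.2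
  have h3 : ∃ b c d : Ω, b ≠ c ∧ b ≠ d ∧ c ≠ d ∧
      (∀ x ∈ X, x • b = b) ∧ (∀ x ∈ X, x • c = c) ∧ (∀ x ∈ X, x • d = d) := by
    refine ⟨a, t • a, s • t • a, Ne.symm (RankOne.ta_ne hS),
      Ne.symm (RankOne.smul_ne_a hS hs.1 (RankOne.ta_ne hS)),
      fun h => RankOne.ta_ne hS (RankOne.eq_of_fixed hS hsQ hs.2.1 h.symm), fa, fb, fun x hx => ?_⟩
    have hx' : x ∈ RankOne.twoPt G a t ⊓ Subgroup.centralizer {s} := hC ▸ hX hx
    rw [← mul_smul, Subgroup.mem_centralizer_singleton_iff.1 hx'.2, mul_smul, fb x hx]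
  have fg : ∀ b : Ω, (∀ x ∈ X, (g * x * g⁻¹) • b = b) → ∀ x ∈ X, x • g⁻¹ • b = g⁻¹ • b := by
    intro b hb x hx
    have := RankOne.conj_smul_of_fixed (g := g⁻¹) (hb x hx)
    rwa [show g⁻¹ * (g * x * g⁻¹) * g⁻¹⁻¹ = x by group] at this
  have hY' : ∀ x ∈ X, g * x * g⁻¹ ∈
      RankOne.twoPt G a t ⊓ Subgroup.centralizer {t} := fun x hx => hY ⟨x, hx, rfl⟩
  obtain ⟨h, hh, hha, hhb⟩ := RankOne.exists_centralizing_pair hS h3 (Ne.symm (RankOne.ta_ne hS))
    (b₁ := a) (b₂ := t • a) (c₁ := g⁻¹ • a) (c₂ := g⁻¹ • t • a)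
    (fun e => RankOne.ta_ne hS (smul_left_cancel g⁻¹ e).symm) fa fb
    (fg a fun x hx => (hY' x hx).1.1) (fg (t • a) fun x hx => (hY' x hx).1.2)
  have hd : g * h ∈ RankOne.twoPt G a t :=
    RankOne.mem_twoPt (by rw [mul_smul, hha, smul_inv_smul]) (by rw [mul_smul, hhb, smul_inv_smul])
  obtain ⟨c, i, hc, hct, hi, hit, hdci⟩ :=
    RankOne.exists_fix_mul_inverted hS.odd_card hS.mul_self (fun _ => RankOne.conj_twoPt hS) hd
  refine ⟨c, ⟨hc, Subgroup.mem_centralizer_singleton_iff.2 (mul_inv_eq_iff_eq_mul.1 hct).symm⟩,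
    Set.image_congr fun x hx => ?_⟩
  have tfix : ∀ y : G, y * t = t * y → t * y * t⁻¹ = y := fun y hy => by
    rw [← hy, mul_inv_cancel_right]
  have e1 : g * x * g⁻¹ = (c * i) * x * (c * i)⁻¹ := by
    calc g * x * g⁻¹ = g * (x * h) * h⁻¹ * g⁻¹ := by group
      _ = g * (h * x) * h⁻¹ * g⁻¹ := by rw [Subgroup.mem_centralizer_iff.1 hh x hx]
      _ = (g * h) * x * (g * h)⁻¹ := by group
      _ = (c * i) * x * (c * i)⁻¹ := by rw [hdci]
  have e2 := tfix x (Subgroup.mem_centralizer_singleton_iff.1 (hX hx).2)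
  have e3 := tfix _ (Subgroup.mem_centralizer_singleton_iff.1 (hY' x hx).2)
  rw [e1] at e3
  have e4 : c * (i⁻¹ * x * i) * c⁻¹ = c * (i * x * i⁻¹) * c⁻¹ := by
    calc c * (i⁻¹ * x * i) * c⁻¹
        = (t * c * t⁻¹) * ((t * i * t⁻¹) * (t * x * t⁻¹) * (t * i * t⁻¹)⁻¹) * (t * c * t⁻¹)⁻¹ := by
          rw [hit, e2, hct, inv_inv]
      _ = t * ((c * i) * x * (c * i)⁻¹) * t⁻¹ := by group
      _ = (c * i) * x * (c * i)⁻¹ := e3
      _ = c * (i * x * i⁻¹) * c⁻¹ := by group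
  have e5 : Commute x (i * i) := by
    show x * (i * i) = i * i * x
    calc x * (i * i) = i * (i⁻¹ * x * i) * i := by group
      _ = i * (i * x * i⁻¹) * i := by rw [mul_left_cancel (mul_right_cancel e4)]
      _ = i * i * x := by group
  rw [e1]
  calc c * x * c⁻¹ = c * (x * i) * i⁻¹ * c⁻¹ := by group
    _ = c * (i * x) * i⁻¹ * c⁻¹ := by rw [(RankOne.commute_of_commute_sq hS.odd_card hi e5).eq]
    _ = c * i * x * (c * i)⁻¹ := by group

end Cfsg.Agent.S1134
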