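import Cfsg.Statements.S1141
import Cfsg.Agent.Lib.U3Two.Heisenberg

set_option autoImplicit false
open Cfsg

namespace Cfsg.Agent.S1141

open Cfsg.Agent.U3Two

variable {F : Type*} [Field F] [Fintype F] {n : ℕ} (hn : 1 ≤ n) (hF : Fintype.card F = (2 ^ n) ^ 2)

/-- Scaling by an element of the fixed field, as a map of parameters. -/
noncomputable def scale (m : (powMonoidHom (α := Fˣ) (2 ^ n - 1)).ker) : MulAut (syl hn hF) :=
  let g : ∀ u : (powMonoidHom (α := Fˣ) (2 ^ n - 1)).ker, Par F n → Par F n := fun u p =>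
    ⟨((u.1 : F) * p.1.1, (u.1 : F) ^ 2 * p.1.2), by
      have hu : (u.1 : F) ^ (2 ^ n - 1) = 1 := by simpa using congrArg Units.val u.2
      have hu' : (u.1 : F) ^ 2 ^ n = u.1 := by
        calc (u.1 : F) ^ 2 ^ n = (u.1 : F) ^ (2 ^ n - 1 + 1) := by rw [Nat.sub_add_cancel Nat.one_le_two_pow]
          _ = _ := by rw [pow_succ, hu, one_mul]
      have h := p.2
      unfold U3Two.cond at *
      simp only [mul_pow, pow_succ, hu', ← pow_mul, sq] at h ⊢
      linear_combination (u.1 : F) * (u.1 : F) * h⟩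
  { toFun := fun s => param hn hF (g m ((param hn hF).symm s))
    invFun := fun s => param hn hF (g m⁻¹ ((param hn hF).symm s))
    left_inv := fun s => by
      obtain ⟨p, rfl⟩ := (param hn hF).surjective s
      simp only [Equiv.symm_apply_apply]
      refine congrArg _ (Subtype.ext (Prod.ext ?_ ?_))
      · simp [g]
      · simp [g]
    right_inv := fun s => by
      obtain ⟨p, rfl⟩ := (param hn hF).surjective s
      simp only [Equiv.symm_apply_apply]
      refine congrArg _ (Subtype.ext (Prod.ext ?_ ?_))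
      · simp [g]
      · simp [g]
    map_mul' := fun s s' => by
      obtain ⟨p, rfl⟩ := (param hn hF).surjective s
      obtain ⟨r, rfl⟩ := (param hn hF).surjective s'
      simp only [param_prod, Equiv.symm_apply_apply]
      have hu : (m.1 : F) ^ (2 ^ n - 1) = 1 := by simpa using congrArg Units.val m.2
      have hu' : (m.1 : F) ^ 2 ^ n = m.1 := by
        calc (m.1 : F) ^ 2 ^ n = (m.1 : F) ^ (2 ^ n - 1 + 1) := by rw [Nat.sub_add_cancel Nat.one_le_two_pow]
          _ = _ := by rw [pow_succ, hu, one_mul]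
      refine congrArg _ (Subtype.ext (Prod.ext ?_ ?_))
      · simp [g, U3Two.prod, pmul, mul_add]
      · simp [g, U3Two.prod, pmul, mul_pow, hu']
        ring }

theorem scale_param (m : (powMonoidHom (α := Fˣ) (2 ^ n - 1)).ker) (p : Par F n) :
    ((param hn hF).symm (scale hn hF m (param hn hF p))).1 =
      ((m.1 : F) * p.1.1, (m.1 : F) ^ 2 * p.1.2) := by
  simp [scale]

/-- The cyclic group of scalings. -/
noncomputable def scaleHom : (powMonoidHom (α := Fˣ) (2 ^ n - 1)).ker →* MulAut (syl hn hF) where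
  toFun := scale hn hF
  map_one' := MulEquiv.ext fun s => by
    obtain ⟨p, rfl⟩ := (param hn hF).surjective s
    refine (param hn hF).symm.injective (Subtype.ext ?_)
    rw [scale_param]; simp
  map_mul' a b := MulEquiv.ext fun s => by
    obtain ⟨p, rfl⟩ := (param hn hF).surjective s
    refine (param hn hF).symm.injective (Subtype.ext ?_)
    obtain ⟨r, hr⟩ := (param hn hF).surjective (scale hn hF b (param hn hF p))
    rw [MulAut.mul_apply, ← hr, scale_param, scale_param]
    have hr' : r.1 = ((b.1 : F) * p.1.1, (b.1 : F) ^ 2 * p.1.2) := by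
      rw [← scale_param hn hF b p, ← hr, Equiv.symm_apply_apply]
    rw [hr']
    simp [mul_pow, mul_assoc]

include hn hF in
theorem suzuki_syl (hn2 : 2 ≤ n) : Cfsg.IsSuzukiTwoGroup (syl hn hF) := by
  classical
  haveI := charTwo hn hF
  have hq4 : 4 ≤ 2 ^ n := le_trans (by norm_num) (Nat.pow_le_pow_right (by norm_num) hn2)
  refine ⟨inferInstance, IsPGroup.of_card (n := n * 3) (by rw [card_syl, ← pow_mul]), ?_, ?_,
    (scaleHom hn hF).range, isCyclic_of_surjective _ (scaleHom hn hF).rangeRestrict_surjective, ?_⟩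
  · by_contra h
    push Not at h
    have h1 := card_center hn hF
    rw [(Subgroup.eq_top_iff' _).mpr fun g => Subgroup.mem_center_iff.mpr fun g' => h g' g, Subgroup.card_top,
      card_syl] at h1
    exact absurd h1 (Nat.ne_of_gt (lt_self_pow₀ (by omega) (by norm_num)))
  · have h3 : 2 < Nat.card (Subgroup.center (syl hn hF)) := by rw [card_center hn hF]; omega
    haveI := Fintype.ofFinite (Subgroup.center (syl hn hF))
    rw [Nat.card_eq_fintype_card, Fintype.two_lt_card_iff] at h3
    obtain ⟨a, b, c, hab, hac, hbc⟩ := h3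
    have key : ∀ z : Subgroup.center (syl hn hF), (z : syl hn hF) * z = 1 := by
      intro z
      obtain ⟨p, hp⟩ := (param hn hF).surjective z
      rw [← hp, U3Two.sq_eq_one_iff, ← mem_center_iff hn hF, hp]
      exact z.2
    by_cases ha : a = 1
    · subst ha
      exact ⟨b, c, fun e => hbc (Subtype.ext e), fun e => hab (Subtype.ext e).symm, key b,
        fun e => hac (Subtype.ext e).symm, key c⟩
    · by_cases hb : b = 1
      · subst hb
        exact ⟨a, c, fun e => hac (Subtype.ext e), fun e => ha (Subtype.ext e), key a,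
          fun e => hbc (Subtype.ext e).symm, key c⟩
      · exact ⟨a, b, fun e => hab (Subtype.ext e), fun e => ha (Subtype.ext e), key a,
          fun e => hb (Subtype.ext e), key b⟩
  · intro x y hx hx2 hy hy2
    obtain ⟨p, rfl⟩ := (param hn hF).surjective x
    obtain ⟨r, rfl⟩ := (param hn hF).surjective y
    rw [U3Two.sq_eq_one_iff] at hx2 hy2
    have hne : ∀ s : Par F n, s.1.1 = 0 → param hn hF s ≠ 1 → s.1.2 ≠ 0 := fun s h0 hs e => hs (by
      rw [← param_zero hn hF]; exact congrArg _ (Subtype.ext (Prod.ext h0 e)))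
    have hfix : ∀ s : Par F n, s.1.1 = 0 → s.1.2 ^ 2 ^ n = s.1.2 := fun s h0 => by
      have h := s.2
      unfold U3Two.cond at h
      rw [h0, zero_pow (Nat.succ_ne_zero _)] at h
      exact (tr_eq_zero hn hF).mp h
    have hp0 := hne p hx2 hx
    have hr0 := hne r hy2 hy
    set c : F := r.1.2 * (p.1.2)⁻¹ with hc
    have hc0 : c ≠ 0 := mul_ne_zero hr0 (inv_ne_zero hp0)
    have hcq : c ^ 2 ^ n = c := by rw [hc, mul_pow, inv_pow, hfix p hx2, hfix r hy2]
    have hd : c ^ 2 ^ (n - 1) * c ^ 2 ^ (n - 1) = c := by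
      rw [← pow_add, ← two_mul, ← pow_succ', Nat.sub_add_cancel hn, hcq]
    have hd0 : c ^ 2 ^ (n - 1) ≠ 0 := pow_ne_zero _ hc0
    have hm : Units.mk0 _ hd0 ∈ (powMonoidHom (α := Fˣ) (2 ^ n - 1)).ker := by
      refine Units.ext ?_
      rw [powMonoidHom_apply, Units.val_pow_eq_pow_val, Units.val_mk0, Units.val_one]
      refine mul_right_cancel₀ hd0 ?_
      rw [← pow_succ, Nat.sub_add_cancel Nat.one_le_two_pow, one_mul, ← pow_mul, mul_comm, pow_mul, hcq]
    refine ⟨⟨_, ⟨⟨_, hm⟩, rfl⟩⟩, ?_, ?_⟩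
    · refine (param hn hF).symm.injective (Subtype.ext ?_)
      show ((param hn hF).symm (scale hn hF ⟨_, hm⟩ (param hn hF p))).1 = _
      rw [scale_param, Equiv.symm_apply_apply, hx2, mul_zero]
      refine Prod.ext hy2.symm ?_
      show (c ^ 2 ^ (n - 1)) ^ 2 * p.1.2 = r.1.2
      rw [sq, hd, hc, inv_mul_cancel_right₀ hp0]
    · rintro ⟨_, ⟨m', rfl⟩⟩ hk
      refine Subtype.ext ?_
      show scale hn hF m' = scale hn hF ⟨_, hm⟩
      have h2 := congrArg (fun s => ((param hn hF).symm s).1.2) hk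
      simp only [Equiv.symm_apply_apply] at h2
      rw [show (scaleHom hn hF m') = scale hn hF m' from rfl, scale_param] at h2
      congr 1
      refine Subtype.ext (Units.ext ?_)
      show (m'.1 : F) = c ^ 2 ^ (n - 1)
      have h3 : (m'.1 : F) ^ 2 = (c ^ 2 ^ (n - 1)) ^ 2 := by
        rw [sq (c ^ _), hd, hc]
        exact (eq_mul_inv_iff_mul_eq₀ hp0).mpr h2
      exact frobenius_inj F 2 h3

theorem suzuki_congr {P P' : Type*} [Group P] [Group P'] (e : P ≃* P') (h : Cfsg.IsSuzukiTwoGroup P') :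
    Cfsg.IsSuzukiTwoGroup P := by
  obtain ⟨hf, hp, ⟨x, y, hxy⟩, ⟨a, b, hab, ha, ha2, hb, hb2⟩, K, hK, hreg⟩ := h
  haveI := hf
  refine ⟨Finite.of_equiv _ e.symm.toEquiv, hp.of_equiv e.symm,
    ⟨e.symm x, e.symm y, fun h => hxy (e.symm.injective (by simpa using h))⟩,
    ⟨e.symm a, e.symm b, fun h => hab (e.symm.injective h), fun h => ha (e.symm.injective (by simpa using h)),
      by rw [← map_mul, ha2, map_one], fun h => hb (e.symm.injective (by simpa using h)),
      by rw [← map_mul, hb2, map_one]⟩,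
    K.map (MulAut.congr e.symm).toMonoidHom, ?_, ?_⟩
  · exact isCyclic_of_surjective _ (K.equivMapOfInjective _ (MulAut.congr e.symm).injective).surjective
  · intro u v hu hu2 hv hv2
    obtain ⟨k, hk, huniq⟩ := hreg (e u) (e v) (by simpa using hu) (by rw [← map_mul, hu2, map_one])
      (by simpa using hv) (by rw [← map_mul, hv2, map_one])
    refine ⟨⟨_, Subgroup.mem_map_of_mem _ k.2⟩, ?_, ?_⟩
    · show e.symm ((k : MulAut P') (e u)) = v
      rw [hk, e.symm_apply_apply]
    · rintro ⟨_, k', hk', rfl⟩ h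
      have := huniq ⟨k', hk'⟩ (e.symm.injective (by rw [e.symm_apply_apply]; exact h))
      subst this
      rfl


/-- Let `q = 2^n ≥ 4` and `|F| = q²`. A Sylow 2-subgroup `S` of `PSU₃(q)` has order `q³`, its centre has order `q`, and `S` is a Suzuki 2-group. -/
theorem result {F : Type*} [Field F] [Fintype F] {n : ℕ} (hn : 2 ≤ n)
    (hF : Fintype.card F = (2 ^ n) ^ 2) (S : Sylow 2 (Cfsg.PSU 3 F (2 ^ n))) :
    Nat.card S = (2 ^ n) ^ 3 ∧ Nat.card (Subgroup.center ↥(S : Subgroup (Cfsg.PSU 3 F (2 ^ n)))) = 2 ^ n ∧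
      Cfsg.IsSuzukiTwoGroup ↥(S : Subgroup (Cfsg.PSU 3 F (2 ^ n))) := by
  have hn1 : 1 ≤ n := by omega
  obtain ⟨e⟩ := U3Two.equiv_syl hn1 hF S
  refine ⟨(Nat.card_congr e.toEquiv).trans (U3Two.card_syl hn1 hF), ?_,
    suzuki_congr e (suzuki_syl hn1 hF hn)⟩
  rw [Nat.card_congr (Subgroup.centerCongr e).toEquiv, U3Two.card_center hn1 hF]

end Cfsg.Agent.S1141
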