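import Cfsg.Statements.S1142
import Cfsg.Agent.Lib.FeitHigman.Hecke

set_option autoImplicit false
open Cfsg

namespace Cfsg.Agent.S1142

open BN FeitHigman

theorem prod_map_alt {α M : Type*} [Monoid M] (f : α → M) : ∀ (i : ℕ) (a b : α),
    ((altList a b (2 * i)).map f).prod = (f a * f b) ^ i ∧
      ((altList a b (2 * i + 1)).map f).prod = (f a * f b) ^ i * f a := by
  intro i
  induction i with
  | zero => intro a b; simp [altList]
  | succ i ih =>
    intro a b
    have st : ∀ (n : ℕ), altList a b (n + 2) = a :: b :: altList a b n := fun _ => rfl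
    constructor
    · rw [show 2 * (i + 1) = 2 * i + 2 by omega, st, List.map_cons, List.map_cons, List.prod_cons, List.prod_cons,
        (ih a b).1, pow_succ', mul_assoc]
    · rw [show 2 * (i + 1) + 1 = (2 * i + 1) + 2 by omega, st, List.map_cons, List.map_cons, List.prod_cons,
        List.prod_cons, (ih a b).2, pow_succ']
      simp only [mul_assoc]

variable {G : Type*} [Group G] [Finite G] {P : BNPair G}

theorem valency_word : ∀ l : List P.S, len P (word P l) = l.length →
    valency P (word P l) = (l.map fun u => valency P (refl P u)).prod := by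
  classical
  haveI : Fintype (G ⧸ P.B) := Fintype.ofFinite _
  intro l
  induction l with
  | nil => intro _; simp [valency_one]
  | cons u l ih =>
    intro h
    have h' := len_word_tail P h
    rw [word_cons, valency_up P (by simp only [word_cons, List.length_cons] at h; omega), ih h', List.map_cons,
      List.prod_cons]

theorem mirror_valency {s t : P.S} (h : TwoGen s t) (hodd : Odd (orderOf (rot P s t))) :
    valency P (refl P s) = valency P (refl P t) := by
  classical
  haveI : Fintype (G ⧸ P.B) := Fintype.ofFinite _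
  obtain ⟨k, hk⟩ := hodd
  have hm := TwoGen.order_swap s t
  have e := congrArg (valency P) (TwoGen.braid s t)
  have r1 := h.alt_reduced (n := orderOf (rot P s t)) le_rfl
  have r2 := h.symm.alt_reduced (n := orderOf (rot P s t)) hm.ge
  rw [valency_word _ (by rw [r1, altList_length]), valency_word _ (by rw [r2, altList_length]), hk,
    (prod_map_alt _ k s t).2, (prod_map_alt _ k t s).2, mul_comm (valency P (refl P t)) (valency P (refl P s))] at e
  refine mul_left_cancel₀ (pow_ne_zero k (Nat.mul_ne_zero ?_ ?_)) e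
  · have := two_le_valency P s; omega
  · have := two_le_valency P t; omega

section Algebra

variable [Fintype (G ⧸ P.B)] [DecidableEq (G ⧸ P.B)]

/-- operators paired with their images in the two-dimensional representation -/
abbrev Pr (P : BNPair G) [Fintype (G ⧸ P.B)] [DecidableEq (G ⧸ P.B)] : Type _ :=
  Matrix (G ⧸ P.B) (G ⧸ P.B) ℝ × Matrix (Fin 2) (Fin 2) ℝ

/-- the pair of a word -/
noncomputable def pr (ρ : P.S → Matrix (Fin 2) (Fin 2) ℝ) (l : List P.S) : Pr P :=
  (l.map fun u => ((opM P (refl P u), ρ u) : Pr P)).prod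

theorem pr_cons (ρ : P.S → Matrix (Fin 2) (Fin 2) ℝ) (u : P.S) (l : List P.S) :
    pr ρ (u :: l) = ((opM P (refl P u), ρ u) : Pr P) * pr ρ l := List.prod_cons

theorem pr_fst (ρ : P.S → Matrix (Fin 2) (Fin 2) ℝ) : ∀ l : List P.S, len P (word P l) = l.length →
    (pr ρ l).1 = opM P (word P l) := by
  intro l
  induction l with
  | nil => intro _; rw [word_nil, opM_one]; rfl
  | cons u l ih =>
    intro h
    have h' := len_word_tail P h
    rw [pr_cons, Prod.fst_mul, ih h', word_cons,
      opM_mul_up P (by simp only [word_cons, List.length_cons] at h; omega)]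

theorem pr_snd (ρ : P.S → Matrix (Fin 2) (Fin 2) ℝ) (l : List P.S) : (pr ρ l).2 = (l.map ρ).prod := by
  induction l with
  | nil => rfl
  | cons u l ih => rw [pr_cons, Prod.snd_mul, ih, List.map_cons, List.prod_cons]

set_option maxHeartbeats 1000000 in
theorem rationality {s t : P.S} (h : TwoGen s t) {σ τ θ : ℝ} (hσ0 : 0 < σ) (hτ0 : 0 < τ)
    (hσ : σ ^ 2 = valency P (refl P s)) (hτ : τ ^ 2 = valency P (refl P t))
    (hA : Angle (orderOf (rot P s t)) θ) :
    (((σ ^ 2 - 1) / σ) ^ 2 + ((τ ^ 2 - 1) / τ) ^ 2 + 2 * ((σ ^ 2 - 1) / σ) * ((τ ^ 2 - 1) / τ) * Real.cos θ)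
      / Real.sin θ ^ 2 ∈ ratField := by
  classical
  set m := orderOf (rot P s t) with hm
  have hpos : 0 < m := orderOf_pos _
  have hm' : orderOf (rot P t s) = m := TwoGen.order_swap s t
  set X := genX σ τ θ
  set Y := genY τ
  set ρ : P.S → Matrix (Fin 2) (Fin 2) ℝ := fun u => if u = s then X else Y with hρ
  have hρs : ρ s = X := if_pos rfl
  have hρt : ρ t = Y := if_neg h.ne.symm
  have hgXY := genPair_XY σ τ θ
  have hgYX := genPair_YX σ τ θ
  -- quadratic relations of pairs
  have hq : ∀ u, ((opM P (refl P u), ρ u) : Pr P) * (opM P (refl P u), ρ u) =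
      ((valency P (refl P u) : ℝ) - 1) • ((opM P (refl P u), ρ u) : Pr P) + (valency P (refl P u) : ℝ) • (1 : Pr P) := by
    intro u
    refine Prod.ext (opM_sq P u) ?_
    rcases h.cases u with rfl | rfl
    · show ρ u * ρ u = _ • ρ u + _ • 1
      rw [hρs, ← hσ]; exact hgXY.sqX
    · show ρ u * ρ u = _ • ρ u + _ • 1
      rw [hρt, ← hτ]; exact hgYX.sqX
  -- braid relation of pairs
  have hbraid : pr ρ (altList s t m) = pr ρ (altList t s m) := by
    refine Prod.ext ?_ ?_
    · rw [pr_fst ρ _ (by rw [h.alt_reduced le_rfl, altList_length]),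
        pr_fst ρ _ (by rw [h.symm.alt_reduced hm'.ge, altList_length]), TwoGen.braid]
    · rw [pr_snd, pr_snd]
      rcases Nat.even_or_odd' m with ⟨k, hk | hk⟩
      · rw [hk, (prod_map_alt ρ k s t).1, (prod_map_alt ρ k t s).1, hρs, hρt]
        exact braid_even (hk ▸ hA)
      · have hst : σ = τ := by
          have e := mirror_valency h ⟨k, hk⟩
          rw [← sq_eq_sq₀ hσ0.le hτ0.le, hσ, hτ, e]
        rw [hk, (prod_map_alt ρ k s t).2, (prod_map_alt ρ k t s).2, hρs, hρt]
        show (genX σ τ θ * genY τ) ^ k * genX σ τ θ = (genY τ * genX σ τ θ) ^ k * genY τ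
        rw [← hst]
        exact braid_odd (hk ▸ hA)
  -- the span of the standard basis
  let g : TwoGen.Idx s t → Pr P := fun κ => pr ρ (TwoGen.idxList s t κ)
  let H : Submodule ℝ (Pr P) := Submodule.span ℝ (Set.range g)
  have hbase : ∀ n, n ≤ m → pr ρ (altList s t n) ∈ H ∧ pr ρ (altList t s n) ∈ H := by
    intro n hn
    have hmem : ∀ κ, g κ ∈ H := fun κ => Submodule.subset_span ⟨κ, rfl⟩
    rcases Nat.even_or_odd' n with ⟨i, rfl | rfl⟩
    · refine ⟨?_, ?_⟩
      · have e := hmem (⟨i, by omega⟩, false)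
        simpa [g, TwoGen.idxList, ← hm, hn] using e
      · rcases Nat.eq_zero_or_pos i with rfl | hi
        · have e := hmem (⟨0, hpos⟩, false)
          simpa [g, TwoGen.idxList, altList, pr] using e
        rcases eq_or_lt_of_le hn with heq | hlt
        · rw [heq, ← hbraid]
          have e := hmem (⟨i, by omega⟩, false)
          simpa [g, TwoGen.idxList, ← hm, hn, ← heq] using e
        · have e := hmem (⟨m - i, by omega⟩, false)
          simpa [g, TwoGen.idxList, ← hm, show ¬ 2 * (m - i) ≤ m by omega, show m - (m - i) = i by omega] using e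
    · refine ⟨?_, ?_⟩
      · have e := hmem (⟨i, by omega⟩, true)
        simpa [g, TwoGen.idxList, ← hm, hn, show 2 * i < m by omega] using e
      · rcases eq_or_lt_of_le hn with heq | hlt
        · rw [heq, ← hbraid]
          have e := hmem (⟨i, by omega⟩, true)
          simpa [g, TwoGen.idxList, ← hm, hn, ← heq, show 2 * i < m by omega] using e
        · have e := hmem (⟨m - 1 - i, by omega⟩, true)
          simpa [g, TwoGen.idxList, ← hm, show ¬ 2 * (m - 1 - i) < m by omega,
            show m - 1 - (m - 1 - i) = i by omega] using e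
  have hstep : ∀ (a b : P.S), (a = s ∧ b = t) ∨ (a = t ∧ b = s) → ∀ n, n ≤ m →
      ((opM P (refl P a), ρ a) : Pr P) * pr ρ (altList b a n) ∈ H ∧
      ((opM P (refl P a), ρ a) : Pr P) * pr ρ (altList a b n) ∈ H := by
    intro a b hab n hn
    have hb : ∀ k, k ≤ m → pr ρ (altList a b k) ∈ H ∧ pr ρ (altList b a k) ∈ H := by
      rcases hab with ⟨rfl, rfl⟩ | ⟨rfl, rfl⟩
      · exact hbase
      · exact fun k hk => (hbase k hk).symm
    have hbr : pr ρ (altList b a m) = pr ρ (altList a b m) := by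
      rcases hab with ⟨rfl, rfl⟩ | ⟨rfl, rfl⟩
      · exact hbraid.symm
      · exact hbraid
    have same : ∀ k, k ≤ m → ((opM P (refl P a), ρ a) : Pr P) * pr ρ (altList a b k) ∈ H := by
      intro k hk
      rcases k with - | k
      · have e := (hb 1 (by omega)).1
        rw [show altList a b 1 = [a] from rfl, pr_cons] at e
        simpa [altList] using e
      · have e0 : ((opM P (refl P a), ρ a) : Pr P) * pr ρ (altList b a k) = pr ρ (altList a b (k + 1)) :=
          (pr_cons ρ a _).symm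
        rw [← e0, ← mul_assoc, hq, add_mul, smul_mul_assoc, smul_mul_assoc, one_mul, e0]
        exact H.add_mem (H.smul_mem _ (hb _ hk).1) (H.smul_mem _ (hb k (by omega)).2)
    refine ⟨?_, same n hn⟩
    rcases eq_or_lt_of_le hn with rfl | hlt
    · rw [hbr]; exact same m le_rfl
    · rw [← pr_cons]
      exact (hb (n + 1) hlt).1
  have hgen : ∀ (u : P.S) (p : Pr P), p ∈ H → ((opM P (refl P u), ρ u) : Pr P) * p ∈ H := by
    intro u p hp
    induction hp using Submodule.span_induction with
    | zero => rw [mul_zero]; exact H.zero_mem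
    | add x y _ _ hx hy => rw [mul_add]; exact H.add_mem hx hy
    | smul r x _ hx => rw [mul_smul_comm]; exact H.smul_mem r hx
    | mem x hx =>
      obtain ⟨κ, rfl⟩ := hx
      have hlen := TwoGen.length_idxList κ
      obtain ⟨a, b, hab, hl⟩ : ∃ a b, ((a = s ∧ b = t) ∨ (a = t ∧ b = s)) ∧
          TwoGen.idxList s t κ = altList a b (TwoGen.idxList s t κ).length := by
        rcases h.eq_alt _ (h.idxList_reduced κ) with e | e
        · exact ⟨s, t, Or.inl ⟨rfl, rfl⟩, e⟩
        · exact ⟨t, s, Or.inr ⟨rfl, rfl⟩, e⟩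
      show _ * pr ρ (TwoGen.idxList s t κ) ∈ H
      rw [hl]
      rcases h.cases u with rfl | rfl <;> rcases hab with ⟨rfl, rfl⟩ | ⟨rfl, rfl⟩
      · exact (hstep _ _ (Or.inl ⟨rfl, rfl⟩) _ hlen).2
      · exact (hstep _ _ (Or.inl ⟨rfl, rfl⟩) _ hlen).1
      · exact (hstep _ _ (Or.inr ⟨rfl, rfl⟩) _ hlen).1
      · exact (hstep _ _ (Or.inr ⟨rfl, rfl⟩) _ hlen).2
  have hone : (1 : Pr P) ∈ H := by simpa [altList, pr] using (hbase 0 (Nat.zero_le _)).1
  have hpr : ∀ l, pr ρ l ∈ H := by
    intro l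
    induction l with
    | nil => simpa [pr] using hone
    | cons u l ih => rw [pr_cons]; exact hgen u _ ih
  have hmul : ∀ p ∈ H, ∀ p' ∈ H, p * p' ∈ H := by
    intro p hp p' hp'
    induction hp using Submodule.span_induction with
    | zero => rw [zero_mul]; exact H.zero_mem
    | add x y _ _ hx hy => rw [add_mul]; exact H.add_mem hx hy
    | smul r x _ hx => rw [smul_mul_assoc]; exact H.smul_mem r hx
    | mem x hx =>
      obtain ⟨κ, rfl⟩ := hx
      show pr ρ (TwoGen.idxList s t κ) * p' ∈ H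
      generalize TwoGen.idxList s t κ = l
      induction l with
      | nil => simpa [pr] using hp'
      | cons u l ih => rw [pr_cons, mul_assoc]; exact hgen u _ ih
  -- the trace form
  let E := Equiv.ofBijective _ h.idxElt_bijective
  let q : TwoGen.Idx s t → ℝ := fun κ => valency P (TwoGen.idxElt s t κ)
  let inv' : TwoGen.Idx s t → TwoGen.Idx s t := fun κ => E.symm (E κ)⁻¹
  have hinvE : ∀ κ, TwoGen.idxElt s t (inv' κ) = (TwoGen.idxElt s t κ)⁻¹ := fun κ => E.apply_symm_apply _
  have hg1 : ∀ κ, (g κ).1 = opM P (TwoGen.idxElt s t κ) := fun κ => by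
    rw [← TwoGen.word_idxList]; exact pr_fst ρ _ (h.idxList_reduced κ)
  have hvl : ∀ κ, q κ = (((TwoGen.idxList s t κ).map fun u => valency P (refl P u)).prod : ℕ) := fun κ => by
    show (valency P (TwoGen.idxElt s t κ) : ℝ) = _
    rw [← TwoGen.word_idxList, valency_word _ (h.idxList_reduced κ)]
  have hqpos : ∀ κ, q κ ≠ 0 := by
    intro κ
    rw [hvl, Nat.cast_ne_zero]
    refine List.prod_ne_zero fun hz => ?_
    obtain ⟨u, -, hu⟩ := List.mem_map.1 hz
    have := two_le_valency P u
    omega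
  set v : ℝ := ((Fintype.card (G ⧸ P.B) : ℕ) : ℝ) with hv
  have hv0 : v ≠ 0 := by
    rw [hv]; exact_mod_cast (Fintype.card_pos_iff.2 ⟨((1 : G) : G ⧸ P.B)⟩).ne'
  have htr : ∀ κ ι, ((g κ).1 * (g ι).1).trace = if κ = inv' ι then v * q κ else 0 := by
    intro κ ι
    rw [hg1, hg1, trace_opM_mul]
    refine if_congr ⟨fun e => ?_, fun e => ?_⟩ rfl rfl
    · refine h.idxElt_bijective.1 ?_
      rw [hinvE, e, inv_inv]
    · rw [e, hinvE, inv_inv]
  have hinvinv : ∀ κ, inv' (inv' κ) = κ := fun κ => h.idxElt_bijective.1 (by rw [hinvE, hinvE, inv_inv])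
  have hdet : ∀ p ∈ H, p.1 = 0 → p = 0 := by
    intro p hp hp1
    obtain ⟨f, rfl⟩ := (Submodule.mem_span_range_iff_exists_fun ℝ).1 hp
    have hf : ∀ κ, f κ = 0 := by
      intro κ
      have e := congrArg (fun M => (M * (g (inv' κ)).1).trace) hp1
      simp only [Prod.fst_sum, Prod.smul_fst, Finset.sum_mul, Matrix.trace_sum, smul_mul_assoc, Matrix.trace_smul,
        htr, hinvinv, zero_mul, Matrix.trace_zero, smul_eq_mul, mul_ite, mul_zero, Finset.sum_ite_eq',
        Finset.mem_univ, if_true] at e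
      exact (mul_eq_zero.1 e).resolve_right (mul_ne_zero hv0 (hqpos κ))
    simp [hf]
  -- values of the character
  let χ : TwoGen.Idx s t → ℝ := fun κ => ((g κ).2).trace
  have hχinv : ∀ κ, χ (inv' κ) = χ κ := by
    intro κ
    have hrev : word P (TwoGen.idxList s t κ).reverse = TwoGen.idxElt s t (inv' κ) := by
      rw [word_reverse, TwoGen.word_idxList, hinvE]
    have hred : len P (word P (TwoGen.idxList s t κ).reverse) = (TwoGen.idxList s t κ).reverse.length := by
      rw [word_reverse, len_inv, h.idxList_reduced, List.length_reverse]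
    have e : g (inv' κ) = pr ρ (TwoGen.idxList s t κ).reverse := by
      rw [← sub_eq_zero]
      refine hdet _ (H.sub_mem (Submodule.subset_span ⟨_, rfl⟩) (hpr _)) ?_
      rw [Prod.fst_sub, hg1, pr_fst ρ _ hred, hrev, sub_self]
    show ((g (inv' κ)).2).trace = ((g κ).2).trace
    rw [e]
    show _ = (pr ρ (TwoGen.idxList s t κ)).2.trace
    rw [pr_snd, pr_snd]
    obtain ⟨a, b, hab, hl⟩ : ∃ a b, ((a = s ∧ b = t) ∨ (a = t ∧ b = s)) ∧
        TwoGen.idxList s t κ = altList a b (TwoGen.idxList s t κ).length := by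
      rcases h.eq_alt _ (h.idxList_reduced κ) with e | e
      · exact ⟨s, t, Or.inl ⟨rfl, rfl⟩, e⟩
      · exact ⟨t, s, Or.inr ⟨rfl, rfl⟩, e⟩
    rw [hl]
    rcases Nat.even_or_odd' (TwoGen.idxList s t κ).length with ⟨i, hi | hi⟩ <;> rw [hi]
    · rw [(altList_reverse i a b).1, (prod_map_alt ρ i b a).1, (prod_map_alt ρ i a b).1]
      rcases hab with ⟨rfl, rfl⟩ | ⟨rfl, rfl⟩ <;> rw [hρs, hρt, hgXY.trace_pow hA.sin_ne, hgYX.trace_pow hA.sin_ne,
        mul_comm τ σ]
    · rw [(altList_reverse i a b).2]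
  have hval : ∀ i : Fin m, (χ (i, false)) ^ 2 / q (i, false) = (2 * Real.cos ((i.1 : ℕ) * θ)) ^ 2 ∧
      (χ (i, true)) ^ 2 / q (i, true) =
        ((σ ^ 2 - 1) / σ * sr θ (i.1 + 1) + (τ ^ 2 - 1) / τ * sr θ i.1) ^ 2 := by
    intro i
    have hi := i.2
    have hστ : σ * τ ≠ 0 := mul_ne_zero hσ0.ne' hτ0.ne'
    constructor
    · rw [hvl]
      show ((pr ρ (TwoGen.idxList s t (i, false))).2.trace) ^ 2 / _ = _
      rw [pr_snd]
      simp only [TwoGen.idxList, ← hm]
      split_ifs with hle
      · rw [(prod_map_alt ρ _ s t).1, (prod_map_alt (fun u => valency P (refl P u)) _ s t).1, hρs, hρt,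
          hgXY.trace_pow hA.sin_ne, Nat.cast_pow, Nat.cast_mul, ← hσ, ← hτ, ← mul_pow σ τ 2]
        field_simp
        ring
      · rw [(prod_map_alt ρ _ t s).1, (prod_map_alt (fun u => valency P (refl P u)) _ t s).1, hρs, hρt,
          hgYX.trace_pow hA.sin_ne, Nat.cast_pow, Nat.cast_mul, ← hσ, ← hτ, ← mul_pow τ σ 2,
          hA.cos_sub_nat hi.le]
        field_simp
        ring
    · rw [hvl]
      show ((pr ρ (TwoGen.idxList s t (i, true))).2.trace) ^ 2 / _ = _
      rw [pr_snd]
      simp only [TwoGen.idxList, ← hm]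
      split_ifs with hle
      · rw [(prod_map_alt ρ _ s t).2, (prod_map_alt (fun u => valency P (refl P u)) _ s t).2, hρs, hρt,
          hgXY.trace_pow_mul hA.sin_ne hσ0.ne' hτ0.ne', Nat.cast_mul, Nat.cast_pow, Nat.cast_mul, ← hσ, ← hτ,
          ← mul_pow σ τ 2]
        field_simp
        ring
      · rw [(prod_map_alt ρ _ t s).2, (prod_map_alt (fun u => valency P (refl P u)) _ t s).2, hρs, hρt,
          hgYX.trace_pow_mul hA.sin_ne hτ0.ne' hσ0.ne', Nat.cast_mul, Nat.cast_pow, Nat.cast_mul, ← hσ, ← hτ,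
          ← mul_pow τ σ 2, show m - 1 - i.1 + 1 = m - i.1 by omega,
          show m - 1 - i.1 = m - (i.1 + 1) by omega, hA.sr_sub_nat hi.le,
          hA.sr_sub_nat (show i.1 + 1 ≤ m from hi)]
        field_simp
        ring
  -- the element dual to the character
  set z : Pr P := ∑ κ, (χ (inv' κ) / q κ) • g κ with hz
  have hzH : z ∈ H := H.sum_mem fun κ _ => H.smul_mem _ (Submodule.subset_span ⟨κ, rfl⟩)
  have hdual : ∀ p ∈ H, (z.1 * p.1).trace = v * p.2.trace := by
    intro p hp
    induction hp using Submodule.span_induction with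
    | zero => simp
    | add x y _ _ hx hy => simp [mul_add, hx, hy]
    | smul r x _ hx => simp [hx]; ring
    | mem x hx =>
      obtain ⟨ι, rfl⟩ := hx
      simp only [hz, Prod.fst_sum, Prod.smul_fst, Finset.sum_mul, Matrix.trace_sum, smul_mul_assoc,
        Matrix.trace_smul, htr, smul_eq_mul, mul_ite, mul_zero, Finset.sum_ite_eq', Finset.mem_univ, if_true, hinvinv]
      have := hqpos (inv' ι)
      show _ = v * χ ι
      field_simp
  have hnd : ∀ p ∈ H, (∀ k ∈ H, (p.1 * k.1).trace = 0) → p = 0 := by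
    intro p hp hk
    refine hdet p hp ?_
    obtain ⟨f, rfl⟩ := (Submodule.mem_span_range_iff_exists_fun ℝ).1 hp
    have hf : ∀ κ, f κ = 0 := by
      intro κ
      have e := hk (g (inv' κ)) (Submodule.subset_span ⟨_, rfl⟩)
      simp only [Prod.fst_sum, Prod.smul_fst, Finset.sum_mul, Matrix.trace_sum, smul_mul_assoc, Matrix.trace_smul,
        htr, hinvinv, smul_eq_mul, mul_ite, mul_zero, Finset.sum_ite_eq', Finset.mem_univ, if_true] at e
      exact (mul_eq_zero.1 e).resolve_right (mul_ne_zero hv0 (hqpos κ))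
    simp [hf]
  have hcomm : ∀ p ∈ H, z * p = p * z := by
    intro p hp
    refine sub_eq_zero.1 (hnd _ (H.sub_mem (hmul z hzH p hp) (hmul p hp z hzH)) fun k hk => ?_)
    rw [Prod.fst_sub, Prod.fst_mul, Prod.fst_mul, sub_mul, Matrix.trace_sub, mul_assoc z.1 p.1 k.1,
      Matrix.trace_mul_cycle p.1 z.1 k.1, mul_assoc, Matrix.trace_mul_comm k.1 (p.1 * z.1), mul_assoc p.1 z.1 k.1,
      Matrix.trace_mul_comm p.1 (z.1 * k.1), mul_assoc z.1 k.1 p.1, ← Prod.fst_mul (p := p) (q := k), ← Prod.fst_mul (p := k) (q := p),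
      hdual _ (hmul p hp k hk), hdual _ (hmul k hk p hp), Prod.snd_mul, Prod.snd_mul, Matrix.trace_mul_comm, sub_self]
  set c := z.2 0 0 with hc
  have hscalar : z.2 = c • (1 : Matrix (Fin 2) (Fin 2) ℝ) := by
    refine scalar_of_commute hσ0 hτ0 hA.sin_ne _ ?_ ?_
    · have e := congrArg Prod.snd (hcomm (pr ρ [s]) (hpr _))
      rw [Prod.snd_mul, Prod.snd_mul, pr_snd] at e
      simpa [hρs] using e
    · have e := congrArg Prod.snd (hcomm (pr ρ [t]) (hpr _))
      rw [Prod.snd_mul, Prod.snd_mul, pr_snd] at e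
      simpa [hρt] using e
  have hzz : z * z = c • z := by
    have hy : z - c • (1 : Pr P) ∈ H := H.sub_mem hzH (H.smul_mem c hone)
    have hy2 : (z - c • (1 : Pr P)).2 = 0 := by simp [hscalar]
    have h0 : z * (z - c • (1 : Pr P)) = 0 := hnd _ (hmul z hzH _ hy) fun k hk => by
      rw [Prod.fst_mul, mul_assoc, ← Prod.fst_mul, hdual _ (hmul _ hy k hk), Prod.snd_mul, hy2, zero_mul,
        Matrix.trace_zero, mul_zero]
    rwa [mul_sub, mul_smul_comm, mul_one, sub_eq_zero] at h0
  have htrz : z.1.trace = v * 2 := by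
    have e := hdual 1 hone
    simpa [Matrix.trace_fin_two, one_add_one_eq_two] using e
  set A := (σ ^ 2 - 1) / σ with hAd
  set B := (τ ^ 2 - 1) / τ with hBd
  set R := (A ^ 2 + B ^ 2 + 2 * A * B * Real.cos θ) / Real.sin θ ^ 2 with hR
  have hctot : 2 * c = 2 * (m : ℝ) + (m : ℝ) / 2 * R := by
    have e1 : z.2.trace = 2 * c := by rw [hscalar]; simp [Matrix.trace_fin_two]; ring
    have e2 : z.2.trace = ∑ κ, (χ κ) ^ 2 / q κ := by
      rw [hz, Prod.snd_sum, Matrix.trace_sum]
      refine Finset.sum_congr rfl fun κ _ => ?_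
      rw [Prod.smul_snd, Matrix.trace_smul, hχinv, smul_eq_mul]
      show χ κ / q κ * χ κ = _
      ring
    rw [← e1, e2, Fintype.sum_prod_type, Finset.sum_congr rfl fun i _ => Fintype.sum_bool _,
      Finset.sum_add_distrib, Finset.sum_congr rfl fun i _ => (hval i).1,
      Finset.sum_congr rfl fun i _ => (hval i).2]
    rw [Fin.sum_univ_eq_sum_range (fun i => (2 * Real.cos ((i : ℝ) * θ)) ^ 2) m,
      Fin.sum_univ_eq_sum_range (fun i => (A * sr θ (i + 1) + B * sr θ i) ^ 2) m, hA.cos_sq_sum, hA.odd_sum, hR]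
    field_simp
    ring
  have hc0 : c ≠ 0 := by
    have hpos2 : 0 ≤ (m : ℝ) / 2 * R := by
      refine mul_nonneg (by positivity) (div_nonneg ?_ (sq_nonneg _))
      nlinarith [sq_nonneg (A + B * Real.cos θ), mul_nonneg (sq_nonneg B) (sq_nonneg (Real.sin θ)),
        Real.sin_sq_add_cos_sq θ]
    have : (0 : ℝ) < m := by exact_mod_cast hpos
    intro hc0
    rw [hc0] at hctot
    linarith
  obtain ⟨k, hk⟩ : ∃ k : ℕ, c⁻¹ * (v * 2) = k := by
    have hidem : IsIdempotentElem (c⁻¹ • z.1) := by
      show (c⁻¹ • z.1) * (c⁻¹ • z.1) = c⁻¹ • z.1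
      rw [smul_mul_assoc, mul_smul_comm, ← Prod.fst_mul, hzz, Prod.smul_fst, smul_smul, smul_smul]
      congr 1
      field_simp
    have hproj := (LinearMap.isProj_range_iff_isIdempotentElem (Matrix.toLin' (c⁻¹ • z.1))).2
      (hidem.map (Matrix.toLinAlgEquiv' : Matrix (G ⧸ P.B) (G ⧸ P.B) ℝ ≃ₐ[ℝ] _))
    refine ⟨Module.finrank ℝ (LinearMap.range (Matrix.toLin' (c⁻¹ • z.1))), ?_⟩
    rw [← hproj.trace, Matrix.trace_toLin'_eq, Matrix.trace_smul, htrz, smul_eq_mul]
  have hk0 : (k : ℝ) ≠ 0 := by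
    rw [← hk]; exact mul_ne_zero (inv_ne_zero hc0) (mul_ne_zero hv0 two_ne_zero)
  have hcrat : c ∈ ratField := by
    have e : c = v * 2 / k := by rw [← hk]; field_simp
    rw [e]
    exact div_mem (mul_mem (nat_mem_ratField _) (natCast_mem ratField 2)) (nat_mem_ratField k)
  have e : R = (2 * c - 2 * m) * 2 / m := by
    rw [hctot]
    have : (m : ℝ) ≠ 0 := by exact_mod_cast hpos.ne'
    field_simp
    ring
  show R ∈ ratField
  rw [e]
  exact div_mem (mul_mem (sub_mem (mul_mem (natCast_mem ratField 2) hcrat)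
    (mul_mem (natCast_mem ratField 2) (nat_mem_ratField m))) (natCast_mem ratField 2)) (nat_mem_ratField m)

end Algebra

/-- Feit–Higman: if a finite group has a (B,N)-pair of rank 2, its Weyl group `N/(B ⊓ N)` has order 4, 6, 8, 12 or 16. -/
theorem result {G : Type*} [Group G] [Finite G] (P : Cfsg.BNPair G)
    (h2 : P.rank = 2) :
    ((P.B ⊓ P.N).subgroupOf P.N).index ∈ ({4, 6, 8, 12, 16} : Set ℕ) := by
  classical
  haveI : Fintype (G ⧸ P.B) := Fintype.ofFinite _
  obtain ⟨s, t, hne, hall⟩ := Nat.card_eq_two_iff.1 h2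
  have h : TwoGen s t := ⟨hne, fun u => by
    have : u ∈ ({s, t} : Set P.S) := by rw [hall]; exact Set.mem_univ u
    simpa using this⟩
  set m := orderOf (rot P s t) with hm
  have hindex : ((P.B ⊓ P.N).subgroupOf P.N).index = 2 * m := by
    rw [Subgroup.index, ← Nat.card_eq_of_bijective _ h.idxElt_bijective, Nat.card_prod, Nat.card_fin,
      Nat.card_eq_fintype_card, Fintype.card_bool, mul_comm]
  set σ := Real.sqrt (valency P (refl P s)) with hσdef
  set τ := Real.sqrt (valency P (refl P t)) with hτdef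
  have hs2 := two_le_valency P s
  have ht2 := two_le_valency P t
  have hσ : σ ^ 2 = valency P (refl P s) := Real.sq_sqrt (Nat.cast_nonneg _)
  have hτ : τ ^ 2 = valency P (refl P t) := Real.sq_sqrt (Nat.cast_nonneg _)
  have hσ0 : 0 < σ := Real.sqrt_pos.2 (by exact_mod_cast (show 0 < valency P (refl P s) by omega))
  have hτ0 : 0 < τ := Real.sqrt_pos.2 (by exact_mod_cast (show 0 < valency P (refl P t) by omega))
  have key := feit_higman_numbers h.two_le hs2 ht2 hσ hτ
    (fun hodd => by rw [hσdef, hτdef, mirror_valency h hodd]) (fun j h1 h2 h3 => by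
      refine rationality h hσ0 hτ0 hσ hτ ⟨⟨j, ?_⟩, ?_⟩
      · have : (m : ℝ) ≠ 0 := by exact_mod_cast (show m ≠ 0 by omega)
        rw [← hm]
        field_simp
      · intro hsin
        rw [Real.sin_eq_zero_iff] at hsin
        obtain ⟨k, hk⟩ := hsin
        have hmR : (m : ℝ) ≠ 0 := by exact_mod_cast (show m ≠ 0 by omega)
        rw [← hm, eq_div_iff hmR] at hk
        have hk2 : ((k * m : ℤ) : ℝ) = ((2 * j : ℕ) : ℤ) := by
          push_cast
          refine mul_left_cancel₀ Real.pi_ne_zero ?_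
          linarith
        have hk3 : k * (m : ℤ) = ((2 * j : ℕ) : ℤ) := Int.cast_injective hk2
        push_cast at hk3
        rcases lt_trichotomy k 1 with hk1 | hk1 | hk1
        · have : k ≤ 0 := by omega
          nlinarith
        · rw [hk1, one_mul] at hk3; omega
        · have : 2 ≤ k := by omega
          nlinarith)
  rw [← hm] at key
  rw [hindex]
  simp only [Set.mem_insert_iff, Set.mem_singleton_iff]
  omega

end Cfsg.Agent.S1142
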