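import Cfsg.Statements.S1151
import Cfsg.Agent.Lib.Twisted.Ree.Simple
-- import your own Cfsg.Agent.* helpers here

set_option autoImplicit false
open Cfsg

namespace Cfsg.Agent.S1151

/-- In the small Ree group ²G₂(q), q = 3^(2m+1), realised as G¹ inside the Chevalley group G₂ over the field with q elements (θ the 3^m-th power map), with H¹ = G¹ ∩ H and U¹ = G¹ ∩ U the intersections with the ambient diagonal and positive unipotent subgroups: `H¹` has exactly `(q - 1)/2` elements of odd order, and each non-identity one centralises no non-identity element of `U¹`. -/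
theorem result {K : Type*} [Field K] [Fintype K] {m : ℕ} (hK : Fintype.card K = 3 ^ (2 * m + 1)) :
    2 * Nat.card {h : ↥(Cfsg.Lie.chevG2.diagonalSubgroup K ⊓ Cfsg.Lie.twistedG2 K (3 ^ m)) // Odd (orderOf h)} = 3 ^ (2 * m + 1) - 1 ∧
      ∀ h ∈ (Cfsg.Lie.chevG2.diagonalSubgroup K ⊓ Cfsg.Lie.twistedG2 K (3 ^ m)), h ≠ 1 → Odd (orderOf h) →
        (Cfsg.Lie.chevG2.posUnipotent K ⊓ Cfsg.Lie.twistedG2 K (3 ^ m)) ⊓ Subgroup.centralizer {h} = ⊥ := by
  classical
  have := Twisted.Ree.charP_three hK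
  set q := 3 ^ (2 * m + 1) with hq
  have hM : ∃ M, q - 1 = 2 * M ∧ Odd M := by
    have h3 : q % 4 = 3 := by rw [hq, pow_succ, pow_mul, Nat.mul_mod, Nat.pow_mod]; simp
    exact ⟨(q - 1) / 2, by omega, Nat.odd_iff.2 (by omega)⟩
  obtain ⟨M, hqM, hodd⟩ := hM
  let e := Twisted.Ree.torusEquiv (F := K) hK
  have hord : ∀ h, Odd (orderOf h) ↔ e h ^ M = 1 := by
    intro h
    have hd : orderOf (e h) ∣ 2 * M := by
      rw [← hqM, ← hK, ← Fintype.card_units]
      exact orderOf_dvd_card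
    rw [← e.orderOf_eq]
    refine ⟨fun ho => orderOf_dvd_iff_pow_eq_one.1 ?_, fun hp => hodd.of_dvd_nat (orderOf_dvd_of_pow_eq_one hp)⟩
    exact ((Nat.coprime_two_right.2 ho).dvd_mul_left).1 hd
  refine ⟨?_, fun h hh h1 ho => ?_⟩
  · have hc : Nat.card {h : ↥(Twisted.Ree.H1 K m) // Odd (orderOf h)} =
        Nat.card ↥(powMonoidHom M : Kˣ →* Kˣ).ker :=
      Nat.card_congr ((Equiv.subtypeEquiv e.toEquiv fun h => by
        rw [MonoidHom.mem_ker, powMonoidHom_apply]; exact hord h))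
    rw [hc, IsCyclic.card_powMonoidHom_ker, Nat.card_units, Nat.card_eq_fintype_card, hK, hqM,
      Nat.gcd_mul_left_left]
  · rw [Subgroup.eq_bot_iff_forall]
    rintro g ⟨hg, hgc⟩
    replace hgc := Subgroup.mem_centralizer_iff.1 hgc
    refine Twisted.Ree.eq_one_of_fixed hK hh (fun h2 => h1 ?_) hg
      (by rw [hgc h rfl, mul_inv_cancel_right])
    let k : ↥(Twisted.Ree.H1 K m) := ⟨h, hh⟩
    have ho' : Odd (orderOf k) := by rwa [← Subgroup.orderOf_coe k]
    have hd : orderOf (e k) ∣ 2 := orderOf_dvd_of_pow_eq_one (Units.ext h2)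
    rw [e.orderOf_eq] at hd
    have hk : orderOf k = 1 := by
      rcases (Nat.dvd_prime Nat.prime_two).1 hd with h' | h'
      · exact h'
      · rw [h'] at ho'; exact absurd ho' (by decide)
    exact congrArg Subtype.val (orderOf_eq_one_iff.1 hk)

end Cfsg.Agent.S1151
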