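import Cfsg.Statements.S1153
import Cfsg.Agent.Lib.Twisted.Ree.Cosets
import Cfsg.Agent.Lib.Twisted.Ree.Mult
-- import your own Cfsg.Agent.* helpers here

set_option autoImplicit false
open Cfsg

namespace Cfsg.Agent.S1153

/-- In the small Ree group ²G₂(q), q = 3^(2m+1), realised as G¹ inside the Chevalley group G₂ over the field with q elements, with `B¹ = G¹ ∩ B`: in the action of `G¹` on the cosets of `B¹`, the joint stabiliser of any three distinct cosets has order at most 2, and for some three distinct cosets it has order exactly 2. -/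
theorem result {K : Type*} [Field K] [Fintype K] {m : ℕ} (hK : Fintype.card K = 3 ^ (2 * m + 1)) :
    (∀ x y z : ↥(Cfsg.Lie.twistedG2 K (3 ^ m)) ⧸ ((Cfsg.Lie.chevG2.borelSubgroup K ⊓ Cfsg.Lie.twistedG2 K (3 ^ m))).subgroupOf (Cfsg.Lie.twistedG2 K (3 ^ m)), x ≠ y → x ≠ z → y ≠ z →
        Nat.card ↥(MulAction.stabilizer ↥(Cfsg.Lie.twistedG2 K (3 ^ m)) x ⊓ MulAction.stabilizer ↥(Cfsg.Lie.twistedG2 K (3 ^ m)) y ⊓ MulAction.stabilizer ↥(Cfsg.Lie.twistedG2 K (3 ^ m)) z) ≤ 2) ∧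
      ∃ x y z : ↥(Cfsg.Lie.twistedG2 K (3 ^ m)) ⧸ ((Cfsg.Lie.chevG2.borelSubgroup K ⊓ Cfsg.Lie.twistedG2 K (3 ^ m))).subgroupOf (Cfsg.Lie.twistedG2 K (3 ^ m)), x ≠ y ∧ x ≠ z ∧ y ≠ z ∧
        Nat.card ↥(MulAction.stabilizer ↥(Cfsg.Lie.twistedG2 K (3 ^ m)) x ⊓ MulAction.stabilizer ↥(Cfsg.Lie.twistedG2 K (3 ^ m)) y ⊓ MulAction.stabilizer ↥(Cfsg.Lie.twistedG2 K (3 ^ m)) z) = 2 := by
  classical
  have := Twisted.Ree.charP_three hK
  refine ⟨fun x y z hxy hxz hyz => Twisted.Ree.card_stab_le hK hxy hxz hyz, ?_⟩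
  have hu := Twisted.Ree.uW_mem_U1 m (0 : K) 1 0
  set u := Twisted.Ree.uW m (0 : K) 1 0 with hudef
  have hne : u ≠ 1 := by
    rw [hudef, ← Twisted.Ree.uW_zero (F := K) m]
    exact fun h => one_ne_zero (Twisted.Ree.uW_inj h).2.1
  refine ⟨((1 : ↥(Twisted.Ree.G1 K m)) : _ ⧸ Twisted.Ree.B1 K m), Twisted.Ree.nG K m,
    (((⟨u, hu.2⟩ : ↥(Twisted.Ree.G1 K m)) * Twisted.Ree.nG K m : ↥(Twisted.Ree.G1 K m))),
    ?_, ?_, ?_, le_antisymm (Twisted.Ree.card_three_stab hK hu hne) ?_⟩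
  · intro h
    have := Twisted.Ree.mem_B1.1 (QuotientGroup.eq.1 h)
    exact Twisted.Ree.n0_not_borel (by simpa [Twisted.Ree.nG] using this)
  · intro h
    have h' := Twisted.Ree.mem_B1.1 (QuotientGroup.eq.1 h)
    simp only [inv_one, one_mul, Subgroup.coe_mul, Twisted.Ree.nG] at h'
    exact Twisted.Ree.n0_not_borel ((Subgroup.mul_mem_cancel_left _
      (Twisted.Ree.U1_le_borel hu)).1 h')
  · intro h
    have h' := Twisted.Ree.mem_B1.1 (QuotientGroup.eq.1 h)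
    simp only [Subgroup.coe_mul, Subgroup.coe_inv, Twisted.Ree.nG] at h'
    refine hne (Twisted.Ree.eq_one_of_conj_mem hu.1 ?_)
    simpa [Twisted.Ree.n0_inv, mul_assoc] using h'
  · obtain ⟨k, hk, hkG, e⟩ := Twisted.Ree.exists_torus hK (c := (-1 : K)) (by simp)
    have hs : (⟨k, hkG⟩ : ↥(Twisted.Ree.G1 K m)) ∈ _ :=
      (Twisted.Ree.three_stab hu ⟨k, hkG⟩).2 ⟨⟨hk, hkG⟩,
        (Twisted.Ree.fixed_uW_iff hK ⟨hk, hkG⟩ 0 1 0).2 ⟨by simp, by
          rw [e, mul_one]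
          refine Even.neg_one_pow ?_
          rw [Nat.even_add_one, Nat.not_even_iff_odd]
          exact Odd.pow (by decide), by simp⟩⟩
    have hne1 : (⟨k, hkG⟩ : ↥(Twisted.Ree.G1 K m)) ≠ 1 := fun h => by
      rw [show k = 1 from congrArg Subtype.val h,
        show Twisted.Ree.wt (1 : GL Cfsg.Lie.chevG2.Idx K) = 1 by simp [Twisted.Ree.wt]] at e
      have h3 : ((3 : ℕ) : K) = 0 := CharP.cast_eq_zero K 3
      exact one_ne_zero (show (1 : K) = 0 by linear_combination h3 - e)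
    refine Nat.succ_le_of_lt (Finite.one_lt_card_iff_nontrivial.2 ?_)
    exact ⟨⟨_, hs⟩, 1, fun h => hne1 (congrArg Subtype.val h)⟩

end Cfsg.Agent.S1153
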