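import Cfsg.Statements.S1154
import Cfsg.Agent.Lib.Twisted.Ree.Mult
-- import your own Cfsg.Agent.* helpers here

set_option autoImplicit false
open Cfsg

namespace Cfsg.Agent.S1154

/-- In the small Ree group ²G₂(q), q = 3^(2m+1) with m ≥ 1, realised as G¹ inside the Chevalley group G₂ over the field with q elements (θ the 3^m-th power map), with `U¹ = G¹ ∩ U` (U the positive unipotent subgroup of the ambient G₂): `U¹` has exactly `q² - 1` elements of order 3. -/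
theorem result {K : Type*} [Field K] [Fintype K] {m : ℕ} (hm : 1 ≤ m) (hK : Fintype.card K = 3 ^ (2 * m + 1)) :
    Nat.card {u : ↥(Cfsg.Lie.chevG2.posUnipotent K ⊓ Cfsg.Lie.twistedG2 K (3 ^ m)) // orderOf u = 3} = (3 ^ (2 * m + 1)) ^ 2 - 1 := by
  classical
  have := Twisted.Ree.charP_three hK
  have h3 : Fact (Nat.Prime 3) := ⟨by norm_num⟩
  have key : ∀ u : ↥(Twisted.Ree.U1 K m), orderOf u = 3 ↔
      ∃ p : {p : K × K // p ≠ (0, 0)}, (u : GL _ K) = Twisted.Ree.uW m 0 p.1.1 p.1.2 := by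
    intro u
    rw [orderOf_eq_prime_iff]
    obtain ⟨t, x, v, e⟩ := (Twisted.Ree.mem_U1_iff hK).1 u.2
    rw [Subtype.ext_iff, Subgroup.coe_pow, Subgroup.coe_one, e, Twisted.Ree.uW_pow_three_iff,
      ne_eq, Subtype.ext_iff, Subgroup.coe_one, e]
    constructor
    · rintro ⟨rfl, hne⟩
      refine ⟨⟨(x, v), fun h => hne ?_⟩, rfl⟩
      rw [Prod.mk.injEq] at h
      rw [h.1, h.2, Twisted.Ree.uW_zero]
    · rintro ⟨⟨⟨x', v'⟩, hp⟩, h⟩
      obtain ⟨rfl, rfl, rfl⟩ := Twisted.Ree.uW_inj h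
      refine ⟨rfl, fun h0 => hp ?_⟩
      rw [← Twisted.Ree.uW_zero (F := K) m] at h0
      obtain ⟨-, rfl, rfl⟩ := Twisted.Ree.uW_inj h0
      rfl
  let f : {p : K × K // p ≠ (0, 0)} → {u : ↥(Twisted.Ree.U1 K m) // orderOf u = 3} := fun p =>
    ⟨⟨Twisted.Ree.uW m 0 p.1.1 p.1.2, Twisted.Ree.uW_mem_U1 _ _ _ _⟩, (key _).2 ⟨p, rfl⟩⟩
  have hf : Function.Bijective f := by
    refine ⟨fun p p' h => ?_, fun u => ?_⟩
    · obtain ⟨-, h1, h2⟩ := Twisted.Ree.uW_inj (congrArg (fun u : {u : ↥(Twisted.Ree.U1 K m) // orderOf u = 3} => (u.1.1 : GL Cfsg.Lie.chevG2.Idx K)) h)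
      exact Subtype.ext (Prod.ext h1 h2)
    · obtain ⟨p, hp⟩ := (key u.1).1 u.2
      exact ⟨p, Subtype.ext (Subtype.ext hp.symm)⟩
  rw [← Nat.card_congr (Equiv.ofBijective f hf), Nat.card_eq_fintype_card]
  simp only [ne_eq, Fintype.card_subtype_compl, Fintype.card_prod, hK, Fintype.card_subtype_eq, sq]

end Cfsg.Agent.S1154
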