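import Cfsg.Statements.S1155
import Cfsg.Agent.Lib.Twisted.Ree.Simple
-- import your own Cfsg.Agent.* helpers here

set_option autoImplicit false
open Cfsg

namespace Cfsg.Agent.S1155

theorem normU {K : Type*} [Field K] [Fintype K] [CharP K 3] {m : ℕ}
    (hK : Fintype.card K = 3 ^ (2 * m + 1)) {g : ↥(Twisted.Ree.G1 K m)}
    (hb : (g : GL _ K) ∈ Cfsg.Lie.chevG2.borelSubgroup K) (y : ↥(Twisted.Ree.G1 K m)) :
    y ∈ (Twisted.Ree.U1 K m).subgroupOf (Twisted.Ree.G1 K m) ↔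
      g * y * g⁻¹ ∈ (Twisted.Ree.U1 K m).subgroupOf (Twisted.Ree.G1 K m) := by
  simp only [Subgroup.mem_subgroupOf, Subgroup.coe_mul, Subgroup.coe_inv]
  have hbG : (g : GL _ K) ∈ Cfsg.Lie.chevG2.borelSubgroup K ⊓ Twisted.Ree.G1 K m :=
    Subgroup.mem_inf.2 ⟨hb, g.2⟩
  refine ⟨fun hy => Twisted.Ree.conj_U1_by_B1 hK hbG hy, fun hy => ?_⟩
  have := Twisted.Ree.conj_U1_by_B1 hK (Subgroup.inv_mem _ hbG) hy
  simpa [mul_assoc] using this

theorem tiU {K : Type*} [Field K] [Fintype K] [CharP K 3] {m : ℕ}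
    (hK : Fintype.card K = 3 ^ (2 * m + 1)) {a y : GL Cfsg.Lie.chevG2.Idx K}
    (ha : a ∈ Twisted.Ree.G1 K m) (hb : a ∉ Cfsg.Lie.chevG2.borelSubgroup K)
    (hy : y ∈ Twisted.Ree.U1 K m) (hy' : a * y * a⁻¹ ∈ Twisted.Ree.U1 K m) : y = 1 := by
  obtain ⟨u, hu, k, hk, w, hw, rfl⟩ := Twisted.Ree.exists_of_not_mem_B1 hK ha hb
  have hbu : u * k ∈ Cfsg.Lie.chevG2.borelSubgroup K :=
    Subgroup.mul_mem _ (Twisted.Ree.U1_le_borel hu) (Twisted.Ree.H1_le_borel hk)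
  have h1 : Twisted.Ree.n0 K * (w * y * w⁻¹) * (Twisted.Ree.n0 K)⁻¹ ∈
      Cfsg.Lie.chevG2.borelSubgroup K := by
    have h := Subgroup.mul_mem _ (Subgroup.mul_mem _ (Subgroup.inv_mem _ hbu)
      (Twisted.Ree.U1_le_borel hy')) hbu
    rwa [show (u * k)⁻¹ * (u * k * Twisted.Ree.n0 K * w * y *
      (u * k * Twisted.Ree.n0 K * w)⁻¹) * (u * k) =
      Twisted.Ree.n0 K * (w * y * w⁻¹) * (Twisted.Ree.n0 K)⁻¹ by group] at h
  exact conj_eq_one_iff.1 (Twisted.Ree.eq_one_of_conj_mem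
    (Subgroup.mul_mem _ (Subgroup.mul_mem _ hw hy) (Subgroup.inv_mem _ hw)).1 h1)

/-- In the small Ree group ²G₂(q), q = 3^(2m+1) with m ≥ 1, realised as G¹ inside the Chevalley group G₂ over the field with q elements (θ the 3^m-th power map): distinct Sylow 3-subgroups of `G¹` meet trivially. -/
theorem result {K : Type*} [Field K] [Fintype K] {m : ℕ} (hm : 1 ≤ m) (hK : Fintype.card K = 3 ^ (2 * m + 1))
    (P Q : Sylow 3 ↥(Cfsg.Lie.twistedG2 K (3 ^ m))) (hPQ : P ≠ Q) : (P : Subgroup ↥(Cfsg.Lie.twistedG2 K (3 ^ m))) ⊓ (Q : Subgroup ↥(Cfsg.Lie.twistedG2 K (3 ^ m))) = ⊥ := by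
  classical
  have := Twisted.Ree.charP_three hK
  have h3 : Fact (Nat.Prime 3) := ⟨by norm_num⟩
  let G : Type _ := ↥(Twisted.Ree.G1 K m)
  let U : Subgroup G := (Twisted.Ree.U1 K m).subgroupOf (Twisted.Ree.G1 K m)
  have hUc : Nat.card U = (3 ^ (2 * m + 1)) ^ 3 :=
    (Nat.card_congr (Subgroup.subgroupOfEquivOfLe inf_le_right).toEquiv).trans
      (Twisted.Ree.card_U1 hK)
  have hfac : Nat.card U = 3 ^ (Nat.card G).factorization 3 := by
    have h1 : 1 ≤ 3 ^ (2 * m + 1) := Nat.one_le_pow _ _ (by norm_num)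
    have hd : 3 ∣ 3 ^ (2 * m + 1) := dvd_pow_self _ (by omega)
    rw [hUc, Twisted.Ree.card_G1 hK, mul_assoc, Nat.factorization_mul, Finsupp.add_apply,
      Nat.factorization_eq_zero_of_not_dvd (n := (3 ^ (2 * m + 1) - 1) * _) (p := 3), add_zero,
      ← pow_mul, Nat.Prime.factorization_pow (by norm_num), Finsupp.single_eq_same]
    · rw [Nat.Prime.dvd_mul (by norm_num)]
      rintro (h | h)
      · have := Nat.dvd_sub hd h
        rw [Nat.sub_sub_self h1] at this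
        omega
      · have := (Nat.dvd_add_right (dvd_pow hd (by norm_num : 3 ≠ 0))).1 h
        omega
    · positivity
    · exact Nat.mul_ne_zero (by
        have : 3 ^ 1 ≤ 3 ^ (2 * m + 1) := Nat.pow_le_pow_right (by norm_num) (by omega)
        omega) (by positivity)
  let S : Sylow 3 G := Sylow.ofCard U hfac
  obtain ⟨g, rfl⟩ := MulAction.exists_smul_eq G S P
  obtain ⟨g', rfl⟩ := MulAction.exists_smul_eq G S Q
  have hmem : ∀ (a : G) (y : G), y ∈ ((a • S : Sylow 3 G) : Subgroup G) →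
      (a.1 : GL _ K)⁻¹ * y.1 * a.1 ∈ Twisted.Ree.U1 K m := by
    intro a y hy
    rw [Sylow.coe_subgroup_smul, Subgroup.mem_pointwise_smul_iff_inv_smul_mem] at hy
    have h : a⁻¹ * y * a ∈ U := by simpa [MulAut.smul_def, S] using hy
    exact Subgroup.mem_subgroupOf.1 h
  rw [Subgroup.eq_bot_iff_forall]
  intro x hx
  have h1 := hmem g x (Subgroup.mem_inf.1 hx).1
  have h2 := hmem g' x (Subgroup.mem_inf.1 hx).2
  by_cases hb : (g.1 : GL _ K)⁻¹ * (g'.1 : GL _ K) ∈ Cfsg.Lie.chevG2.borelSubgroup K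
  · refine absurd ?_ hPQ
    have hnorm : (g⁻¹ * g') • S = S := by
      rw [Sylow.smul_eq_iff_mem_normalizer]
      refine Subgroup.mem_normalizer_iff.2 fun y => ?_
      exact normU hK (g := g⁻¹ * g') hb y
    calc g • S = g • ((g⁻¹ * g') • S) := by rw [hnorm]
      _ = g' • S := by rw [smul_smul, mul_inv_cancel_left]
  · have h3 := tiU hK (Subgroup.mul_mem _ (Subgroup.inv_mem _ g.2) g'.2) hb h2 (by
      have e : (g.1 : GL _ K)⁻¹ * (g'.1 : GL _ K) * ((g'.1 : GL _ K)⁻¹ * (x.1 : GL _ K) * (g'.1 : GL _ K)) *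
          ((g.1 : GL _ K)⁻¹ * (g'.1 : GL _ K))⁻¹ = (g.1 : GL _ K)⁻¹ * (x.1 : GL _ K) * (g.1 : GL _ K) := by group
      rw [e]; exact h1)
    apply Subtype.ext
    have h4 : x.1 = g'.1 * ((g'.1)⁻¹ * x.1 * g'.1) * (g'.1)⁻¹ := by group
    rw [h4, h3, mul_one, mul_inv_cancel]
    rfl

end Cfsg.Agent.S1155
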