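import Cfsg.Statements.S1160
import Mathlib
import Cfsg.Agent.S0126

set_option autoImplicit false
open Cfsg

namespace Cfsg.Agent.S1160

open Subgroup MulAction

variable {P E : Type*} [Group P] [Finite P] [AddCommGroup E] [Finite E] [DistribMulAction P E]

/-- The sum over the powers of an element. -/
def tr (p : ℕ) (a : P) (x : E) : E := ∑ j ∈ Finset.range p, a ^ j • x

omit [Finite P] [Finite E] in
theorem tr_fixed {p : ℕ} {a : P} (ha : a ^ p = 1) (x : E) : a • tr p a x = tr p a x := by
  rw [tr, Finset.smul_sum]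
  have h1 := Finset.sum_range_succ' (fun j => a ^ j • x) p
  have h2 := Finset.sum_range_succ (fun j => a ^ j • x) p
  rw [h2, ha, pow_zero] at h1
  simp only [← mul_smul, ← pow_succ']
  exact (add_right_cancel h1).symm

omit [Finite P] [Finite E] in
theorem tr_of_fixed {p : ℕ} {a : P} {x : E} (hx : a • x = x) : tr p a x = p • x := by
  have : ∀ j : ℕ, a ^ j • x = x := fun j => by
    induction j with
    | zero => rw [pow_zero, one_smul]
    | succ j ih => rw [pow_succ, mul_smul, hx, ih]
  simp [tr, this]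

omit [Finite P] [Finite E] in
theorem sum_tr {p : ℕ} (hp : 0 < p) {a b : P} (hab : Commute a b) (hb : b ^ p = 1)
    (hcop : ∀ j, 0 < j → j < p → Nat.Coprime j p) (x : E) (hbx : tr p b x = 0) :
    ∑ i ∈ Finset.range p, tr p (a * b ^ i) x = p • x := by
  simp only [tr]
  rw [Finset.sum_comm, Finset.sum_eq_single 0]
  · simp
  · intro j hj hj0
    rw [Finset.mem_range] at hj
    obtain ⟨m, -, hm⟩ := Nat.exists_mul_mod_eq_one_of_coprime (hcop j (Nat.pos_of_ne_zero hj0) hj)
      (by omega)
    have hterm : ∀ i : ℕ, (a * b ^ i) ^ j • x = a ^ j • (b ^ (i * j % p) • x) := fun i => by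
      rw [(hab.pow_right i).mul_pow, mul_smul, ← pow_mul, ← pow_mod_orderOf b (i * j),
        ← Nat.mod_mod_of_dvd _ (orderOf_dvd_of_pow_eq_one hb), pow_mod_orderOf]
    simp only [hterm, ← Finset.smul_sum]
    rw [show ∑ i ∈ Finset.range p, b ^ (i * j % p) • x = tr p b x from ?_, hbx, smul_zero]
    refine Finset.sum_nbij' (fun i => i * j % p) (fun i => i * m % p)
      (fun i _ => Finset.mem_range.2 (Nat.mod_lt _ hp))
      (fun i _ => Finset.mem_range.2 (Nat.mod_lt _ hp)) ?_ ?_ (fun i _ => rfl)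
    · intro i hi
      rw [Finset.mem_range] at hi
      rw [Nat.mod_mul_mod, mul_assoc, Nat.mul_mod, hm, mul_one, Nat.mod_mod, Nat.mod_eq_of_lt hi]
    · intro i hi
      rw [Finset.mem_range] at hi
      rw [Nat.mod_mul_mod, mul_assoc, mul_comm m j, Nat.mul_mod, hm, mul_one, Nat.mod_mod,
        Nat.mod_eq_of_lt hi]
  · intro h
    exact absurd (Finset.mem_range.2 hp) h

omit [Finite E] in
/-- Subgroups of the same order of a cyclic group are equal. -/
theorem eq_of_card_eq [IsCyclic P] {H K : Subgroup P} (h : Nat.card H = Nat.card K) : H = K := by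
  classical
  have := Fintype.ofFinite P
  have key : ∀ L : Subgroup P, (L : Set P).toFinset =
      (Finset.univ.filter fun x : P => x ^ Nat.card L = 1) := fun L => by
    refine Finset.eq_of_subset_of_card_le (fun x hx => ?_) ?_
    · rw [Finset.mem_filter]
      refine ⟨Finset.mem_univ _, ?_⟩
      exact orderOf_dvd_iff_pow_eq_one.1 (Subgroup.orderOf_dvd_natCard _ (by simpa using hx))
    · refine (IsCyclic.card_pow_eq_one_le Nat.card_pos).trans ?_
      rw [Set.toFinset_card, ← Nat.card_eq_fintype_card]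
      exact le_rfl
  refine SetLike.coe_injective (Set.toFinset_inj.1 ?_)
  rw [key, key, h]

section Contradiction

variable [FaithfulSMul P E] {p : ℕ}

omit [Finite E] [FaithfulSMul P E] in
theorem eq_of_mem_of_not_mem {A : Subgroup P} (hp : p.Prime) (hA : Nat.card A = p ^ 2) {a e : P}
    (ha : a ∈ A) (hoa : orderOf a = p) (he : e ∈ A) (hne : e ∉ zpowers a) :
    zpowers a ⊔ zpowers e = A := by
  have hle : zpowers a ⊔ zpowers e ≤ A := sup_le (zpowers_le.2 ha) (zpowers_le.2 he)
  refine eq_of_le_of_card_ge hle ?_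
  obtain ⟨i, hi, hi'⟩ := (Nat.dvd_prime_pow hp).1 (hA ▸ card_dvd_of_le hle)
  have hlt : p < p ^ i := by
    rw [← hi', ← hoa, ← Nat.card_zpowers]
    refine lt_of_le_of_ne (card_le_of_le le_sup_left) fun h => hne ?_
    exact (eq_of_le_of_card_ge le_sup_left h.ge).ge (mem_sup_right (mem_zpowers e))
  have : 1 < i := by
    by_contra hc
    exact absurd hlt (not_lt.2 ((Nat.pow_le_pow_right hp.pos (not_lt.1 hc)).trans (pow_one p).le))
  rw [hA, hi']
  exact Nat.pow_le_pow_right hp.pos this

/-- A faithful coprime action with stabilisers of constant order has no normal `C_p × C_p`. -/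
theorem no_normal_sq (hp : p.Prime) (hodd : ∀ g : P, Odd (orderOf g))
    (hinj : ∀ x : E, p • x = 0 → x = 0)
    (hconst : ∀ a b : E, a ≠ 0 → b ≠ 0 →
      Nat.card (stabilizer P a) = Nat.card (stabilizer P b))
    (A : Subgroup P) [A.Normal] (hAc : IsMulCommutative A) (hAp : ∀ a ∈ A, a ^ p = 1)
    (hA : Nat.card A = p ^ 2) : False := by
  classical
  have := Fintype.ofFinite A
  have hord : ∀ a ∈ A, a ≠ 1 → orderOf a = p := fun a ha h1 =>
    haveI := Fact.mk hp; orderOf_eq_prime (hAp a ha) h1
  have hcomm : ∀ a ∈ A, ∀ b ∈ A, Commute a b := fun a ha b hb =>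
    congrArg Subtype.val (mul_comm' (⟨a, ha⟩ : A) ⟨b, hb⟩)
  have hstab : ∀ {u v : E}, u ≠ 0 → v ≠ 0 → stabilizer P u ≤ stabilizer P v →
      stabilizer P u = stabilizer P v :=
    fun hu hv h => eq_of_le_of_card_ge h (hconst _ _ hv hu).le
  have hA1 : A ≠ ⊥ := fun h => by
    rw [h, card_bot] at hA
    exact absurd hA.symm (Nat.one_lt_pow two_ne_zero hp.one_lt).ne'
  have hfix2 : ∀ {a c : P}, a ∈ A → a ≠ 1 → c ∈ A → c ∉ zpowers a → ∀ {z : E}, a • z = z →
      c • z = z → ∀ e ∈ A, e • z = z := by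
    intro a c ha ha1 hc hca z hz hz' e he
    rw [← eq_of_mem_of_not_mem hp hA ha (hord a ha ha1) hc hca] at he
    exact (sup_le (zpowers_le.2 hz) (zpowers_le.2 hz') : _ ≤ stabilizer P z) he
  by_cases hC : ∃ u : E, u ≠ 0 ∧ ∀ e ∈ A, e • u = u
  · obtain ⟨u, hu, huA⟩ := hC
    obtain ⟨e₀, he₀, he₁⟩ := (A.bot_or_exists_ne_one).resolve_left hA1
    obtain ⟨v₀, hv₀⟩ : ∃ v : E, e₀ • v ≠ v := by
      by_contra hc
      push Not at hc
      exact he₁ (eq_of_smul_eq_smul fun v => by rw [hc, one_smul])
    let S : E → E := fun x => ∑ e : A, (e : P) • x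
    have hSadd : ∀ x y, S (x + y) = S x + S y := fun x y => by
      simp only [S, smul_add, Finset.sum_add_distrib]
    have hSfix : ∀ x, ∀ e ∈ A, e • S x = S x := fun x e he => by
      simp only [S, Finset.smul_sum, ← mul_smul]
      exact Fintype.sum_equiv (Equiv.mulLeft (⟨e, he⟩ : A)) _ _ fun f => rfl
    have hSof : ∀ x, (∀ e ∈ A, e • x = x) → S x = p ^ 2 • x := fun x hx => by
      simp only [S]
      rw [Finset.sum_congr rfl (fun (e : A) _ => hx e e.2), Finset.sum_const, Finset.card_univ,
        ← Nat.card_eq_fintype_card, hA]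
    have hSg : ∀ (g : P) x, S (g • x) = g • S x := fun g x => by
      simp only [S, Finset.smul_sum, ← mul_smul]
      refine Fintype.sum_equiv (MulAut.conjNormal g⁻¹).toEquiv _ _ fun f => ?_
      show ((f : P) * g) • x = (g * ↑(MulAut.conjNormal g⁻¹ f)) • x
      rw [MulAut.conjNormal_apply]
      group
    have hp2 : ∀ {x y : E}, p ^ 2 • x = p ^ 2 • y → x = y := fun {x y} h => by
      refine sub_eq_zero.1 (hinj _ (hinj _ ?_))
      rw [smul_smul, ← sq, smul_sub, h, sub_self]
    set v := p ^ 2 • v₀ - S v₀ with hv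
    have hSv : S v = 0 := by
      have h1 : S (p ^ 2 • v₀ - S v₀) + S (S v₀) = S (p ^ 2 • v₀) := by
        rw [← hSadd, sub_add_cancel]
      have h2 : S (p ^ 2 • v₀) = p ^ 2 • S v₀ := by
        simp only [S, Finset.smul_sum]
        exact Finset.sum_congr rfl fun e _ => smul_comm _ _ _
      rw [hSof _ (hSfix v₀), h2] at h1
      simpa using h1
    have hvA : e₀ • v ≠ v := fun h => by
      rw [hv, smul_sub, hSfix v₀ e₀ he₀, smul_comm, sub_left_inj] at h
      exact hv₀ (hp2 h)
    have huv : u + v ≠ 0 := fun h => hvA (by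
      rw [eq_neg_of_add_eq_zero_right h, smul_neg, huA e₀ he₀])
    have hle : ∀ g ∈ stabilizer P (u + v), g ∈ stabilizer P u ∧ g ∈ stabilizer P v := by
      intro g hg
      rw [mem_stabilizer_iff] at hg
      have h1 : g • S (u + v) = S (u + v) := by rw [← hSg, hg]
      rw [hSadd, hSv, add_zero, hSof u huA, smul_comm] at h1
      have h2 : g • u = u := hp2 h1
      rw [smul_add, h2, add_right_inj] at hg
      exact ⟨h2, hg⟩
    have hv0 : v ≠ 0 := fun h => hvA (by rw [h, smul_zero])
    have e1 := hstab huv hu fun g hg => (hle g hg).1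
    have e2 := hstab huv hv0 fun g hg => (hle g hg).2
    exact hvA (mem_stabilizer_iff.1 ((e1.symm.trans e2).le (mem_stabilizer_iff.2 (huA e₀ he₀))))
  · push Not at hC
    have hzero : ∀ {a c : P}, a ∈ A → a ≠ 1 → c ∈ A → c ∉ zpowers a → ∀ {z : E}, c • z = z →
        tr p a z = 0 := by
      intro a c ha ha1 hc hca z hz
      by_contra hne
      obtain ⟨e, he, hne'⟩ := hC _ hne
      refine hne' (hfix2 ha ha1 hc hca (tr_fixed (hAp a ha) z) ?_ e he)
      rw [tr, Finset.smul_sum]
      refine Finset.sum_congr rfl fun j _ => ?_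
      rw [← mul_smul, ((hcomm c hc a ha).pow_right j).eq, mul_smul, hz]
    -- two lines with fixed points
    have hcop : ∀ j, 0 < j → j < p → Nat.Coprime j p := fun j h0 h1 =>
      ((hp.coprime_iff_not_dvd).2 (Nat.not_dvd_of_pos_of_lt h0 h1)).symm
    obtain ⟨a₀, ha₀, ha₀1⟩ := (A.bot_or_exists_ne_one).resolve_left hA1
    obtain ⟨b₀, hb₀, hb₀a⟩ : ∃ b ∈ A, b ∉ zpowers a₀ := by
      by_contra hc
      push Not at hc
      have := card_le_of_le (show A ≤ zpowers a₀ from hc)
      rw [hA, Nat.card_zpowers, hord a₀ ha₀ ha₀1] at this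
      exact absurd this (not_le.2 (lt_self_pow₀ hp.one_lt (by omega)))
    have hmk : ∀ {a b : P}, a ∈ A → a ≠ 1 → b ∈ A → b ∉ zpowers a → ∀ i : ℕ,
        a * b ^ i ∈ A ∧ a * b ^ i ≠ 1 := by
      intro a b ha ha1 hb hba i
      refine ⟨mul_mem ha (pow_mem hb i), fun h => ?_⟩
      have hb1 : b ≠ 1 := fun h' => hba (h' ▸ one_mem _)
      haveI := Fact.mk hp
      have h1 : a ∈ zpowers b := by
        rw [eq_inv_of_mul_eq_one_left h]
        exact inv_mem (pow_mem (mem_zpowers b) i)
      have h2 : zpowers a = zpowers b := eq_of_le_of_card_ge (zpowers_le.2 h1)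
        (by rw [Nat.card_zpowers, Nat.card_zpowers, hord a ha ha1, hord b hb hb1])
      exact hba (h2 ▸ mem_zpowers b)
    have step1 : ∃ a ∈ A, a ≠ 1 ∧ ∃ v : E, v ≠ 0 ∧ a • v = v := by
      by_contra hc
      push Not at hc
      have htr : ∀ e ∈ A, e ≠ 1 → ∀ x : E, tr p e x = 0 := fun e he he1 x => by
        by_contra h
        exact hc e he he1 _ h (tr_fixed (hAp e he) x)
      obtain ⟨v, hv⟩ : ∃ v : E, a₀ • v ≠ v := by
        by_contra hcc
        push Not at hcc
        exact ha₀1 (eq_of_smul_eq_smul fun w => by rw [hcc, one_smul])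
      have h := sum_tr hp.pos (hcomm a₀ ha₀ b₀ hb₀) (hAp b₀ hb₀) hcop v
        (htr b₀ hb₀ (fun h' => hb₀a (h' ▸ one_mem _)) v)
      rw [Finset.sum_eq_zero fun i _ => htr _ (hmk ha₀ ha₀1 hb₀ hb₀a i).1
        (hmk ha₀ ha₀1 hb₀ hb₀a i).2 v] at h
      exact hv (by rw [hinj _ h.symm, smul_zero])
    obtain ⟨a, ha, ha1, v, hv0, hav⟩ := step1
    have step2 : ∃ c ∈ A, c ∉ zpowers a ∧ ∃ w : E, w ≠ 0 ∧ c • w = w := by
      by_contra hc
      push Not at hc
      obtain ⟨b, hb, hba⟩ : ∃ b ∈ A, b ∉ zpowers a := by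
        by_contra hcc
        push Not at hcc
        have := card_le_of_le (show A ≤ zpowers a from hcc)
        rw [hA, Nat.card_zpowers, hord a ha ha1] at this
        exact absurd this (not_le.2 (lt_self_pow₀ hp.one_lt (by omega)))
      have htr : ∀ e ∈ A, e ∉ zpowers a → ∀ x : E, tr p e x = 0 := fun e he hea x => by
        by_contra h
        exact hc e he hea _ h (tr_fixed (hAp e he) x)
      refine ha1 (eq_of_smul_eq_smul fun x : E => ?_)
      have h := sum_tr hp.pos (hcomm a ha b hb) (hAp b hb) hcop x (htr b hb hba x)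
      rw [Finset.sum_eq_single 0, pow_zero, mul_one] at h
      · rw [one_smul]
        refine sub_eq_zero.1 (hinj _ ?_)
        rw [smul_sub, ← h, smul_comm, ← h, tr_fixed (hAp a ha), sub_self]
      · intro i hi hi0
        refine htr _ (hmk ha ha1 hb hba i).1 (fun hmem => hba ?_) x
        have h1 : b ^ i ∈ zpowers a := (mul_mem_cancel_left (mem_zpowers a)).1 hmem
        haveI := Fact.mk hp
        have hbi : b ^ i ≠ 1 := fun h' => by
          have := orderOf_dvd_of_pow_eq_one h'
          rw [hord b hb (fun h'' => hba (h'' ▸ one_mem _))] at this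
          exact absurd (Nat.le_of_dvd (Nat.pos_of_ne_zero hi0) this)
            (not_le.2 (Finset.mem_range.1 hi))
        have h2 : zpowers (b ^ i) = zpowers b := eq_of_le_of_card_ge
          (zpowers_le.2 (pow_mem (mem_zpowers b) i))
          (by rw [Nat.card_zpowers, Nat.card_zpowers, hord _ (pow_mem hb i) hbi,
            hord b hb (fun h'' => hba (h'' ▸ one_mem _))])
        exact (zpowers_le.2 h1 : zpowers (b ^ i) ≤ _) (h2 ▸ mem_zpowers b)
      · exact fun h' => absurd (Finset.mem_range.2 hp.pos) h'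
    obtain ⟨c, hc, hca, w, hw0, hcw⟩ := step2
    have hpv : p • v ≠ 0 := fun h => hv0 (hinj v h)
    have trAdd : ∀ x y : E, tr p a (x + y) = tr p a x + tr p a y := fun x y => by
      simp only [tr, smul_add, Finset.sum_add_distrib]
    have hsum : tr p a (v + w) = p • v := by
      rw [trAdd, tr_of_fixed hav, hzero ha ha1 hc hca hcw, add_zero]
    have hvw : v + w ≠ 0 := fun h => hpv (by rw [← hsum, h]; simp [tr])
    have hfixz : ∀ {e : P} {z : E}, e • z = z → ∀ f ∈ zpowers e, f • z = z :=
      fun h f hf => (zpowers_le.2 h : zpowers _ ≤ stabilizer P _) hf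
    have hza : ∀ {e : P}, e ∈ zpowers a → e ≠ 1 → a ∈ zpowers e := fun {e} he he1 => by
      have he' : e ∈ A := zpowers_le.2 ha he
      have h2 : zpowers e = zpowers a := eq_of_le_of_card_ge (zpowers_le.2 he)
        (by rw [Nat.card_zpowers, Nat.card_zpowers, hord e he' he1, hord a ha ha1])
      rw [h2]; exact mem_zpowers a
    have hle : ∀ g ∈ stabilizer P (v + w), g ∈ stabilizer P v ∧ g ∈ stabilizer P w := by
      intro g hg
      rw [mem_stabilizer_iff] at hg
      have hga : (g * a * g⁻¹) • g • v = g • v := by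
        rw [mul_smul, mul_smul, inv_smul_smul, hav]
      have hgc : (g * c * g⁻¹) • g • w = g • w := by
        rw [mul_smul, mul_smul, inv_smul_smul, hcw]
      have hgaA : g * a * g⁻¹ ∈ A := ‹A.Normal›.conj_mem a ha g
      have hgcA : g * c * g⁻¹ ∈ A := ‹A.Normal›.conj_mem c hc g
      have hga1 : g * a * g⁻¹ ≠ 1 := fun h => ha1 (conj_eq_one_iff.1 h)
      have hgc1 : g * c * g⁻¹ ≠ 1 := fun h => hca (conj_eq_one_iff.1 h ▸ one_mem _)
      have hsum' : tr p a (g • v) + tr p a (g • w) = p • v := by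
        rw [← trAdd, ← smul_add, hg, hsum]
      by_cases hmem : g * a * g⁻¹ ∈ zpowers a
      · have hav' : a • g • v = g • v := hfixz hga _ (hza hmem hga1)
        have hnc : g * c * g⁻¹ ∉ zpowers a := fun h => hca (by
          have h3 : g * c * g⁻¹ ∈ zpowers (g * a * g⁻¹) := zpowers_le.2 (hza hmem hga1) h
          obtain ⟨k, hk⟩ := mem_zpowers_iff.1 h3
          rw [conj_zpow] at hk
          exact mem_zpowers_iff.2 ⟨k, by simpa using hk⟩)
        rw [hzero ha ha1 hgcA hnc hgc, tr_of_fixed hav', add_zero] at hsum'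
        have h1 : g • v = v := sub_eq_zero.1 (hinj _ (by rw [smul_sub, hsum', sub_self]))
        rw [smul_add, h1, add_right_inj] at hg
        exact ⟨h1, hg⟩
      · rw [hzero ha ha1 hgaA hmem hga, zero_add] at hsum'
        have hcmem : g * c * g⁻¹ ∈ zpowers a := by
          by_contra hnc
          rw [hzero ha ha1 hgcA hnc hgc] at hsum'
          exact hpv hsum'.symm
        have haw : a • g • w = g • w := hfixz hgc _ (hza hcmem hgc1)
        rw [tr_of_fixed haw] at hsum'
        have h1 : g • w = v := sub_eq_zero.1 (hinj _ (by rw [smul_sub, hsum', sub_self]))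
        have h2 : g • v = w := by
          rw [smul_add, h1, add_comm v w] at hg
          exact add_right_cancel hg
        obtain ⟨k, hk⟩ := hodd g
        have h3 : g = (g ^ 2) ^ (k + 1) := by
          rw [← pow_mul, show 2 * (k + 1) = orderOf g + 1 by omega, pow_succ, pow_orderOf_eq_one,
            one_mul]
        have hv2 : g ^ 2 • v = v := by rw [pow_two, mul_smul, h2, h1]
        have hw2 : g ^ 2 • w = w := by rw [pow_two, mul_smul, h1, h2]
        rw [h3]
        exact ⟨pow_mem (mem_stabilizer_iff.2 hv2) _, pow_mem (mem_stabilizer_iff.2 hw2) _⟩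
    have e1 := hstab hvw hv0 fun g hg => (hle g hg).1
    have e2 := hstab hvw hw0 fun g hg => (hle g hg).2
    obtain ⟨e, he, hne⟩ := hC v hv0
    exact hne (hfix2 ha ha1 hc hca hav (mem_stabilizer_iff.1 ((e2.symm.trans e1).le (mem_stabilizer_iff.2 hcw))) e he)

end Contradiction


/-- Let `p ≠ 2` be prime and `P` a finite `p`-group acting faithfully by additive automorphisms on a finite elementary abelian `q`-group `E` (`q` prime), such that `|P_a|` is the same for all `a ≠ 0`. Then `P` is cyclic and every non-identity element of `P` fixes only `0`. -/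
theorem result {P E : Type*} [Group P] [Finite P]
    [AddCommGroup E] [Finite E] [DistribMulAction P E] [FaithfulSMul P E]
    {p q : ℕ} [Fact p.Prime] (hp2 : p ≠ 2) (hP : IsPGroup p P) (hq : q.Prime) (hE : ∀ e : E, q • e = 0)
    (hconst : ∀ a b : E, a ≠ 0 → b ≠ 0 →
      Nat.card (MulAction.stabilizer P a) = Nat.card (MulAction.stabilizer P b)) :
    IsCyclic P ∧ ∀ g : P, g ≠ 1 → ∀ a : E, g • a = a → a = 0 := by
  have hcyc : IsCyclic P := by
    by_contra hnc
    have hE1 : ∃ e : E, e ≠ 0 := by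
      by_contra hc
      push Not at hc
      have : Subsingleton P := ⟨fun g h => eq_of_smul_eq_smul fun e : E => by rw [hc e, smul_zero, smul_zero]⟩
      exact hnc inferInstance
    have hqp : p ≠ q := by
      rintro rfl
      obtain ⟨e, he⟩ := hE1
      have hpE : p ∣ Nat.card E := by
        have hord : addOrderOf e = p := addOrderOf_eq_prime (hE e) he
        exact hord ▸ addOrderOf_dvd_natCard e
      obtain ⟨u, hu, hu0⟩ := hP.exists_fixed_point_of_prime_dvd_card_of_fixed_point E hpE
        (a := (0 : E)) (fun g => smul_zero g)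
      have hall : ∀ a : E, ∀ g : P, g • a = a := fun a g => by
        rcases eq_or_ne a 0 with rfl | ha
        · exact smul_zero g
        have h1 := hconst u a (Ne.symm hu0) ha
        rw [show MulAction.stabilizer P u = ⊤ from eq_top_iff.2 fun g _ => hu g, Subgroup.card_top] at h1
        exact ((Subgroup.card_eq_iff_eq_top _).1 h1.symm).ge (Subgroup.mem_top g)
      have : Subsingleton P := ⟨fun g h => eq_of_smul_eq_smul fun e : E => by rw [hall, hall]⟩
      exact hnc inferInstance
    obtain ⟨A, hAn, hA, hAc⟩ := Cfsg.Agent.S0126.result hp2 hP hnc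
    refine no_normal_sq (Fact.out : p.Prime) (fun g => ?_) (fun x hx => ?_) hconst A hA.1 hA.2 hAc
    · obtain ⟨k, hk⟩ := IsPGroup.iff_orderOf.1 hP g
      rw [hk]
      exact ((Fact.out : p.Prime).odd_of_ne_two hp2).pow
    · refine AddMonoid.addOrderOf_eq_one_iff.1 (Nat.eq_one_of_dvd_coprimes
        ((Nat.coprime_primes (Fact.out : p.Prime) hq).2 hqp) ?_ ?_)
      · exact addOrderOf_dvd_of_nsmul_eq_zero hx
      · exact addOrderOf_dvd_of_nsmul_eq_zero (hE x)
  refine ⟨hcyc, fun g hg a ha => ?_⟩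
  by_contra hne
  refine hg (eq_of_smul_eq_smul fun b : E => ?_)
  rw [one_smul]
  rcases eq_or_ne b 0 with rfl | hb
  · exact smul_zero g
  · exact (eq_of_card_eq (hconst a b hne hb)).le (MulAction.mem_stabilizer_iff.2 ha)

end Cfsg.Agent.S1160
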