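import Cfsg.Statements.S1161
import Cfsg.Agent.Lib.OddLinear.Main
import Cfsg.Agent.Lib.Components.Fitting
import Mathlib.GroupTheory.Nilpotent

set_option autoImplicit false
open Cfsg

namespace Cfsg.Agent.S1161

/-- Let `D` be a finite group of odd order acting faithfully by additive automorphisms on a finite elementary abelian `q`-group `E ≠ 0` (`q` prime), transitively on `E ∖ {0}`. Then the Fitting subgroup `F(D)` is cyclic, its non-identity elements fix only `0`, and `D/F(D)` is abelian (the derived subgroup lies in `F(D)`). -/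
theorem result {D E : Type*} [Group D] [Finite D]
    [AddCommGroup E] [Finite E] [Nontrivial E] [DistribMulAction D E] [FaithfulSMul D E]
    (hodd : Odd (Nat.card D)) {q : ℕ} (hq : q.Prime) (hE : ∀ e : E, q • e = 0)
    (htrans : ∀ a b : E, a ≠ 0 → b ≠ 0 → ∃ d : D, d • a = b) :
    IsCyclic ↥(Cfsg.fittingSubgroup D) ∧
      (∀ g ∈ Cfsg.fittingSubgroup D, g ≠ 1 → ∀ a : E, g • a = a → a = 0) ∧
      commutator D ≤ Cfsg.fittingSubgroup D := by
  haveI := Fact.mk hq
  have hq2 : q = 2 := by
    by_contra hne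
    obtain ⟨k, hk⟩ : ∃ k, Nat.card E = q ^ k := by
      letI : Module (ZMod q) E := AddCommGroup.zmodModule hE
      exact ⟨_, by rw [Module.natCard_eq_pow_finrank (K := ZMod q), Nat.card_zmod]⟩
    have h := Cfsg.Agent.SolvableTransitive.card_pred_dvd (G := D) htrans
    rw [hk] at h
    obtain ⟨c, hc⟩ := (hq.odd_of_ne_two hne).pow (n := k)
    rw [hc] at h
    exact Nat.not_even_iff_odd.2 (hodd.of_dvd_nat h) ⟨c, by omega⟩
  subst hq2
  obtain ⟨x, hgood⟩ := Cfsg.Agent.OddLinear.exists_good hodd hE htrans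
  set C := Subgroup.centralizer ({x} : Set D) with hC
  haveI := hgood.cyclic
  letI := hgood.cyclic.commGroup
  have hCn : C.Normal := by
    refine ⟨fun c hc g => ?_⟩
    obtain ⟨j, hj⟩ := Subgroup.mem_zpowers_iff.1 (hgood.normal g)
    rw [hC, Subgroup.mem_centralizer_singleton_iff]
    have hcx : Commute c (x ^ j) := Commute.zpow_right (Subgroup.mem_centralizer_singleton_iff.1 hc) j
    rw [hj] at hcx
    calc g * c * g⁻¹ * x = g * (c * (g⁻¹ * x * g)) * g⁻¹ := by group
      _ = g * (g⁻¹ * x * g * c) * g⁻¹ := by rw [hcx.eq]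
      _ = x * (g * c * g⁻¹) := by group
  haveI := hCn
  have hle : C ≤ Cfsg.fittingSubgroup D :=
    Cfsg.Agent.Components.le_fittingSubgroup hCn
  have hge : Cfsg.fittingSubgroup D ≤ C := by
    refine sSup_le ?_
    rintro N ⟨hNn, hNnil⟩
    rcases hgood.order with h1 | hp
    · intro g _
      rw [orderOf_eq_one_iff.1 h1] at hC
      rw [hC, Subgroup.mem_centralizer_singleton_iff, mul_one, one_mul]
    -- `⟨x⟩` has prime order `p`
    set p := orderOf x with hpdef
    haveI : Fact p.Prime := ⟨hp⟩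
    haveI := hNn
    haveI := hNnil
    have key : ∀ g : D, (∀ k, g ^ p ^ k ∈ C → g ∈ C) := by
      intro g k hgk
      obtain ⟨j, hj⟩ := Subgroup.mem_zpowers_iff.1 (hgood.normal g)
      obtain ⟨i, hi⟩ : ∃ i : ℕ, x ^ i = g⁻¹ * x * g :=
        (Submonoid.mem_powers_iff _ _).1 (mem_powers_iff_mem_zpowers.2 (hgood.normal g))
      have hiter : ∀ m : ℕ, (g ^ m)⁻¹ * x * g ^ m = x ^ (i ^ m) := fun m => by
        induction m with
        | zero => simp
        | succ m ih =>
          rw [pow_succ, show (g ^ m * g)⁻¹ * x * (g ^ m * g) = g⁻¹ * ((g ^ m)⁻¹ * x * g ^ m) * g by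
            group, ih]
          have e : g⁻¹ * x ^ (i ^ m) * g = (g⁻¹ * x * g) ^ (i ^ m) := by
            simpa using (conj_pow (i := i ^ m) (a := g⁻¹) (b := x)).symm
          rw [e, ← hi, ← pow_mul, pow_succ, mul_comm]
      have e := hiter (p ^ k)
      rw [mul_assoc, ← Subgroup.mem_centralizer_singleton_iff.1 hgk, inv_mul_cancel_left] at e
      have e' : x ^ 1 = x ^ (i ^ p ^ k) := by rw [pow_one]; exact e
      rw [pow_eq_pow_iff_modEq, ← ZMod.natCast_eq_natCast_iff, Nat.cast_pow] at e'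
      rw [hC, Subgroup.mem_centralizer_singleton_iff]
      have hi1 : ((i : ℕ) : ZMod p) = ((1 : ℕ) : ZMod p) := by
        rw [e']
        exact (ZMod.pow_card_pow (x := (i : ZMod p))).symm
      rw [ZMod.natCast_eq_natCast_iff, ← pow_eq_pow_iff_modEq, pow_one] at hi1
      have e2 : g⁻¹ * x * g = x := hi.symm.trans hi1
      nth_rw 1 [← e2]
      group
    -- the commutator map into `⟨x⟩`
    intro g hg
    -- iterate commutators: `[x, g]` lies in `N ⊓ ⟨x⟩`
    by_cases hxN : x ∈ N
    · obtain ⟨k, m, hm, hgm⟩ := Nat.exists_eq_pow_mul_and_not_dvd (orderOf_pos g).ne' p hp.ne_one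
      refine key g k ?_
      rw [hC, Subgroup.mem_centralizer_singleton_iff]
      have hcop : Nat.Coprime (orderOf (⟨g ^ p ^ k, N.pow_mem hg _⟩ : ↥N))
          (orderOf (⟨x, hxN⟩ : ↥N)) := by
        rw [← Subgroup.orderOf_coe, ← Subgroup.orderOf_coe]
        show Nat.Coprime (orderOf (g ^ p ^ k)) p
        refine Nat.Coprime.coprime_dvd_left ?_ ((hp.coprime_iff_not_dvd.2 hm).symm)
        exact orderOf_dvd_of_pow_eq_one (by rw [← pow_mul, ← hgm, pow_orderOf_eq_one])
      exact congrArg Subtype.val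
        ((Cfsg.Agent.OddLinear.commute_of_coprime hcop).eq)
    · rw [hC, Subgroup.mem_centralizer_singleton_iff]
      have hmem : g⁻¹ * x * g * x⁻¹ ∈ N := by
        rw [show g⁻¹ * x * g * x⁻¹ = g⁻¹ * (x * g * x⁻¹) by group]
        exact mul_mem (inv_mem hg) (hNn.conj_mem g hg x)
      obtain ⟨j, hj⟩ := Subgroup.mem_zpowers_iff.1 (hgood.normal g)
      have hmem' : g⁻¹ * x * g * x⁻¹ ∈ Subgroup.zpowers x :=
        mul_mem (hgood.normal g) (inv_mem (Subgroup.mem_zpowers x))
      by_contra hne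
      apply hxN
      have hne1 : g⁻¹ * x * g * x⁻¹ ≠ 1 := fun e1 => hne (by
        rw [mul_inv_eq_one] at e1
        nth_rw 1 [← e1]
        group)
      have hgen := mem_zpowers_of_prime_card (G := ↥(Subgroup.zpowers x)) (p := p)
        (by rw [Nat.card_zpowers]) (g := ⟨_, hmem'⟩) (g' := ⟨x, Subgroup.mem_zpowers x⟩)
        (fun e1 => hne1 (congrArg Subtype.val e1))
      obtain ⟨i, hi⟩ := hgen
      have hi' : (g⁻¹ * x * g * x⁻¹) ^ i = x := congrArg Subtype.val hi
      exact hi' ▸ N.zpow_mem hmem i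
  have heq : Cfsg.fittingSubgroup D = C := le_antisymm hge hle
  refine ⟨heq ▸ hgood.cyclic, fun g hg hg1 a ha => ?_, ?_⟩
  · exact hgood.fpf g (by rw [← hC, ← heq]; exact hg) hg1 a ha
  · rw [heq, commutator_def, Subgroup.commutator_le]
    intro a _ b _
    rw [commutatorElement_def, hC, Subgroup.mem_centralizer_singleton_iff]
    exact Cfsg.Agent.OddLinear.commute_commutator hgood.normal a b

end Cfsg.Agent.S1161
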