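import Cfsg.Statements.S1163
import Cfsg.Agent.Lib.Sz.Lie
import Cfsg.Agent.Lib.Sz.Sylow

set_option autoImplicit false
open Cfsg

namespace Cfsg.Agent.S1163

/-- For the Suzuki group Sz(q), q = 2^(2m+1) ≥ 8, realised as the elements g of Sp₄(F) with g* = g^θ (θ the 2^(m+1)-th power map, so that θ² is squaring): `|Sz(q)| = q² (q - 1) (q² + 1)`, and there is a Sylow 2-subgroup `S` whose normaliser `H` has order `q²(q-1)` and index `q² + 1`, the action of `Sz(q)` on the cosets of `H` is doubly transitive, and `S` acts regularly on the cosets other than `H` itself. -/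
theorem result {F : Type*} [Field F] [Fintype F] {m : ℕ} (hm : 1 ≤ m) (hF : Fintype.card F = 2 ^ (2 * m + 1)) :
    Nat.card ↥(Cfsg.Lie.Sz F (2 ^ (m + 1))) = (2 ^ (2 * m + 1)) ^ 2 * (2 ^ (2 * m + 1) - 1) * ((2 ^ (2 * m + 1)) ^ 2 + 1) ∧
    ∃ S : Sylow 2 ↥(Cfsg.Lie.Sz F (2 ^ (m + 1))),
      Nat.card (Subgroup.normalizer ((S : Subgroup ↥(Cfsg.Lie.Sz F (2 ^ (m + 1)))) : Set ↥(Cfsg.Lie.Sz F (2 ^ (m + 1))))) = (2 ^ (2 * m + 1)) ^ 2 * (2 ^ (2 * m + 1) - 1) ∧
      (Subgroup.normalizer ((S : Subgroup ↥(Cfsg.Lie.Sz F (2 ^ (m + 1)))) : Set ↥(Cfsg.Lie.Sz F (2 ^ (m + 1))))).index = (2 ^ (2 * m + 1)) ^ 2 + 1 ∧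
      MulAction.IsMultiplyPretransitive ↥(Cfsg.Lie.Sz F (2 ^ (m + 1))) (↥(Cfsg.Lie.Sz F (2 ^ (m + 1))) ⧸ Subgroup.normalizer ((S : Subgroup ↥(Cfsg.Lie.Sz F (2 ^ (m + 1)))) : Set ↥(Cfsg.Lie.Sz F (2 ^ (m + 1))))) 2 ∧
      ∀ x y : ↥(Cfsg.Lie.Sz F (2 ^ (m + 1))) ⧸ Subgroup.normalizer ((S : Subgroup ↥(Cfsg.Lie.Sz F (2 ^ (m + 1)))) : Set ↥(Cfsg.Lie.Sz F (2 ^ (m + 1)))),
        x ≠ (QuotientGroup.mk 1) → y ≠ (QuotientGroup.mk 1) → ∃! s : ↥(S : Subgroup ↥(Cfsg.Lie.Sz F (2 ^ (m + 1)))), (s : ↥(Cfsg.Lie.Sz F (2 ^ (m + 1)))) • x = y := by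
  haveI : Fact (Nat.Prime 2) := ⟨Nat.prime_two⟩
  set e := SZ.szEquiv hm hF
  refine ⟨by rw [SZ.card_LieSz hm hF, hF]; ring, ?_⟩
  let S : Sylow 2 (Cfsg.Lie.Sz F (2 ^ (m + 1))) :=
    Sylow.ofCard ((SZ.uGrp hF).map e.toMonoidHom) (by
      rw [Subgroup.card_map_of_injective e.injective, SZ.card_uGrp, ← SZ.factorization_card hm hF,
        Nat.card_congr e.toEquiv])
  refine ⟨S, ?_⟩
  have hS : (S : Subgroup (Cfsg.Lie.Sz F (2 ^ (m + 1)))) = (SZ.uGrp hF).map e.toMonoidHom := rfl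
  have hN : Subgroup.normalizer ((S : Subgroup (Cfsg.Lie.Sz F (2 ^ (m + 1)))) : Set (Cfsg.Lie.Sz F (2 ^ (m + 1)))) =
      (MulAction.stabilizer (Cfsg.Sz F m) (Cfsg.suzukiPointInfinity F)).map e.toMonoidHom := by
    rw [hS, ← SZ.normalizer_uGrp hm hF]
    exact (Subgroup.map_normalizer_eq_of_bijective (SZ.uGrp hF) (f := e.toMonoidHom) e.bijective).symm
  set N := Subgroup.normalizer ((S : Subgroup (Cfsg.Lie.Sz F (2 ^ (m + 1)))) : Set (Cfsg.Lie.Sz F (2 ^ (m + 1))))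
  have hmem : ∀ g, g ∈ N ↔ (e.symm g).1 • Cfsg.suzukiPointInfinity F = Cfsg.suzukiPointInfinity F := by
    intro g
    rw [hN, Subgroup.mem_map_equiv]
    rfl
  refine ⟨?_, ?_, ?_, ?_⟩
  · rw [hN, Subgroup.card_map_of_injective e.injective, SZ.card_stab_inf hm hF, hF]
  · rw [hN, Subgroup.index_map_of_bijective (f := e.toMonoidHom) e.bijective, ← SZ.normalizer_uGrp hm hF, SZ.index_normalizer_uGrp hm hF, hF]
  -- the action on cosets is the action on the ovoid
  all_goals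
    let pnt : Cfsg.Lie.Sz F (2 ^ (m + 1)) ⧸ N → Projectivization F (Fin 4 → F) := fun x =>
      Quotient.liftOn' x (fun g => (e.symm g).1 • Cfsg.suzukiPointInfinity F) fun a b h => by
        have h' := (hmem _).1 (QuotientGroup.leftRel_apply.1 h)
        rw [map_mul, map_inv, Subgroup.coe_mul, InvMemClass.coe_inv, mul_smul, inv_smul_eq_iff] at h'
        exact h'.symm
    have pnt_smul : ∀ g x, pnt (g • x) = (e.symm g).1 • pnt x := by
      intro g x
      induction x using QuotientGroup.induction_on with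
      | H a =>
        show (e.symm (g * a)).1 • Cfsg.suzukiPointInfinity F = _
        rw [map_mul, Subgroup.coe_mul, mul_smul]
        rfl
    have pnt_inj : Function.Injective pnt := by
      intro x y
      induction x using QuotientGroup.induction_on with
      | H a => induction y using QuotientGroup.induction_on with
        | H b =>
          intro h
          change (e.symm a).1 • _ = (e.symm b).1 • _ at h
          refine QuotientGroup.eq.2 ((hmem _).2 ?_)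
          rw [map_mul, map_inv, Subgroup.coe_mul, InvMemClass.coe_inv, mul_smul, ← h, inv_smul_smul]
    have pnt_mem : ∀ x, pnt x ∈ Cfsg.suzukiOvoid F m := by
      intro x
      induction x using QuotientGroup.induction_on with
      | H a => exact SZ.smul_mem (e.symm a).2 SZ.inf_mem
  · rw [MulAction.is_two_pretransitive_iff]
    intro a b c d hab hcd
    obtain ⟨g, hg, g1, g2⟩ := SZ.exists_move hF (pnt_mem a) (pnt_mem b) (pnt_inj.ne hab)
    obtain ⟨k, hk, k1, k2⟩ := SZ.exists_move hF (pnt_mem c) (pnt_mem d) (pnt_inj.ne hcd)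
    refine ⟨e ⟨k⁻¹ * g, Subgroup.mul_mem _ (Subgroup.inv_mem _ hk) hg⟩, pnt_inj ?_, pnt_inj ?_⟩
    · rw [pnt_smul, MulEquiv.symm_apply_apply, mul_smul, g1, ← k1, inv_smul_smul]
    · rw [pnt_smul, MulEquiv.symm_apply_apply, mul_smul, g2, ← k2, inv_smul_smul]
  · intro x y hx hy
    have h1 : pnt (QuotientGroup.mk 1) = Cfsg.suzukiPointInfinity F := by
      show (e.symm 1).1 • _ = _
      rw [map_one, OneMemClass.coe_one, one_smul]
    obtain ⟨s, hs, huniq⟩ := SZ.uGrp_regular hF (pnt_mem x) (pnt_mem y)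
      (fun h => hx (pnt_inj (h.trans h1.symm))) (fun h => hy (pnt_inj (h.trans h1.symm)))
    refine ⟨⟨e s.1, Subgroup.mem_map_of_mem _ s.2⟩, pnt_inj ?_, ?_⟩
    · rw [pnt_smul, MulEquiv.symm_apply_apply]
      exact hs
    · rintro ⟨t, ht⟩ htx
      obtain ⟨t', ht', rfl⟩ := ht
      apply Subtype.ext
      show e t' = e s.1
      have := huniq ⟨t', ht'⟩ (by
        have h' := congrArg pnt htx
        rw [pnt_smul] at h'
        simpa using h')
      rw [← this]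

end Cfsg.Agent.S1163
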