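import Cfsg.Statements.S1164
import Cfsg.Agent.Lib.Chev.CurtisTits.Universal

set_option autoImplicit false
open Cfsg

namespace Cfsg.Agent.S1164

/-- Curtis–Tits: for the Chevalley datum of type D₄, F₄, E₆, E₇ or E₈ and a field `K` with at least four elements, there is an isomorphism from the group presented by the Curtis–Tits relators (additivity, the commutator relators and the `h̄`-relators only for roots inside a common rank-two subsystem spanned by two fundamental roots, all other generators killed) onto the group of Steinberg's presentation, sending each generator `x̄_r(t)` with `r` in such a subsystem to `x̄_r(t)`. -/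
theorem result (D : Cfsg.Lie.ChevalleyDatum)
    (hD : D ∈ [Cfsg.Lie.chevD4, Cfsg.Lie.chevF4, Cfsg.Lie.chevE6, Cfsg.Lie.chevE7, Cfsg.Lie.chevE8])
    (K : Type*) [Field K] [Fintype K] (hK : 4 ≤ Fintype.card K) :
    ∃ e : D.CurtisTitsGroup K ≃* D.SteinbergGroup K,
      ∀ (i j r : ℕ) (t : K), D.InRankTwoSub i j r →
        e (PresentedGroup.mk (D.curtisTitsRels K) (D.stX r t)) = D.stGen K r t := by
  classical
  obtain ⟨hG, hst, C, tabs, simps, hV⟩ := Agent.Chev.CT.exists_valid hD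
  obtain ⟨ρ, -, hρ⟩ : ∃ ρ : D.SteinbergGroup K →* ↥(D.group K), Function.Surjective ρ ∧ ∀ (r : ℕ) (t : K),
      r < D.nroots → ((ρ (D.stGen K r t) : GL D.Idx K) : Matrix D.Idx D.Idx K) = D.x K r t :=
    hG.exists_steinberg_hom
  let θ : D.SteinbergGroup K →* GL D.Idx K := (D.group K).subtype.comp ρ
  have hθ : ∀ r < D.nroots, ∀ t : K, θ (D.stGen K r t) = Agent.Chev.xg D K r t :=
    fun r hr t => hG.eq_xg (hρ r t hr)
  let S' := Agent.Chev.steinbergModel D K θ hθ
  let S : Agent.Chev.CT.CTModel D K (D.CurtisTitsGroup K) := Agent.Chev.CT.ctModel hV hG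
  obtain ⟨ψ, hψ⟩ := Agent.Chev.CT.exists_steinberg_hom hV hG S hst
  let g : Fin D.nroots × K → D.SteinbergGroup K :=
    fun a => if Agent.Chev.CT.RTwo D a.1.val then D.stGen K a.1.val a.2 else 1
  have hg : ∀ r, Agent.Chev.CT.RTwo D r → ∀ t : K, FreeGroup.lift g (D.stX r t) = D.stGen K r t := fun r hr t => by
    simp [g, Lie.ChevalleyDatum.stX, hr.lt, hr]
  have hword : ∀ w : List (ℕ × K), (∀ p ∈ w, Agent.Chev.CT.RTwo D p.1) →
      FreeGroup.lift g (D.stWord w) = PresentedGroup.mk (D.steinbergRels K) (D.stWord w) := by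
    intro w hw
    simp only [Lie.ChevalleyDatum.stWord, map_list_prod, List.map_map]
    exact congrArg List.prod (List.map_congr_left fun p hp => hg _ (hw p hp) _)
  have hrels : ∀ w ∈ D.curtisTitsRels K, FreeGroup.lift g w = 1 := by
    rintro w (((⟨r, t, hr, hnot, rfl⟩ | ⟨i, j, r, t₁, t₂, h, rfl⟩) | ⟨i, j, r, s, t, u, h, h', h1, h2, rfl⟩) |
      ⟨i, j, r, t₁, t₂, h, h1, h2, rfl⟩)
    · have : ¬ Agent.Chev.CT.RTwo D r := fun ⟨i, j, e⟩ => hnot i j e
      simp [g, Lie.ChevalleyDatum.stX, hr, this]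
    · have hr : Agent.Chev.CT.RTwo D r := ⟨i, j, h⟩
      have e := PresentedGroup.one_of_mem (rels := D.steinbergRels K) (Or.inl (Or.inl ⟨r, t₁, t₂, h.1, rfl⟩))
      simp only [map_mul, map_inv, hg r hr] at e ⊢
      exact e
    · have hr : Agent.Chev.CT.RTwo D r := ⟨i, j, h⟩
      have hs : Agent.Chev.CT.RTwo D s := ⟨i, j, h'⟩
      have e := PresentedGroup.one_of_mem (rels := D.steinbergRels K)
        (Or.inl (Or.inr ⟨r, s, t, u, h.1, h'.1, h1, h2, rfl⟩))
      have hw : ∀ p ∈ D.commWord K r s t u, Agent.Chev.CT.RTwo D p.1 := by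
        intro p hp
        obtain ⟨x, hx, rfl⟩ := List.mem_map.1 hp
        exact ⟨i, j, hV.sub_terms h h' x hx⟩
      simp only [map_mul, map_inv, hg r hr, hg s hs, hword _ hw] at e ⊢
      exact e
    · have hr : Agent.Chev.CT.RTwo D r := ⟨i, j, h⟩
      have hn : Agent.Chev.CT.RTwo D (D.neg r) := ⟨i, j, hV.sub_neg h⟩
      have e := PresentedGroup.one_of_mem (rels := D.steinbergRels K) (Or.inr ⟨r, t₁, t₂, h.1, h1, h2, rfl⟩)
      have hH : ∀ t : K, FreeGroup.lift g (D.stH r t) = PresentedGroup.mk (D.steinbergRels K) (D.stH r t) :=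
        fun t => hword _ (by simp [Lie.ChevalleyDatum.hWord, Lie.ChevalleyDatum.nWord, hr, hn])
      simp only [map_mul, map_inv, hH] at e ⊢
      exact e
  let φ : D.CurtisTitsGroup K →* D.SteinbergGroup K := PresentedGroup.toGroup hrels
  have hφ : ∀ r, Agent.Chev.CT.RTwo D r → ∀ t : K, φ (S.x r t) = D.stGen K r t := fun r hr t => hg r hr t
  have e1 : φ.comp ψ = MonoidHom.id _ := by
    refine MonoidHom.eq_of_eqOn_dense (Agent.Chev.closure_stGen D K) ?_
    rintro y ⟨r, hr, t, rfl⟩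
    rw [MonoidHom.comp_apply, hψ r hr t]
    exact Agent.Chev.CT.map_X_model hV hG S hst S' φ hφ hr t
  have e2 : ψ.comp φ = MonoidHom.id _ := by
    refine PresentedGroup.ext fun a => ?_
    obtain ⟨⟨r, hr⟩, t⟩ := a
    have hof : (PresentedGroup.of (⟨r, hr⟩, t) : D.CurtisTitsGroup K) = Agent.Chev.CT.ctGen D K r t := by
      simp [Agent.Chev.CT.ctGen, Lie.ChevalleyDatum.stX, hr, PresentedGroup.of]
    rw [hof, MonoidHom.comp_apply, MonoidHom.id_apply]
    by_cases h : Agent.Chev.CT.RTwo D r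
    · rw [show Agent.Chev.CT.ctGen D K r t = S.x r t from rfl, hφ r h, hψ r hr, S.X_eq hV hG hst h]
    · have : Agent.Chev.CT.ctGen D K r t = 1 :=
        PresentedGroup.one_of_mem (Or.inl (Or.inl (Or.inl ⟨r, t, hr, fun i j e => h ⟨i, j, e⟩, rfl⟩)))
      rw [this, map_one, map_one]
  exact ⟨φ.toMulEquiv ψ e2 e1, fun i j r t h => hφ r ⟨i, j, h⟩ t⟩

end Cfsg.Agent.S1164
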