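import Cfsg.Statements.S1167
import Mathlib
import Cfsg.Agent.Lib.ZassenhausOdd.Reduction

set_option autoImplicit false
open Cfsg

namespace Cfsg.Agent.S1167

/-- Let `G` be a finite simple Zassenhaus group on `Ω`, `U` a normal subgroup of `G_a` regular on `Ω` minus `a` which is an abelian 2-group, and `v` an involution with `v • a ≠ a`. Then there is a unique `u₀ ∈ U`, `u₀ ≠ 1`, with `v u₀ v = u₀ v u₀`. -/
theorem result {G Ω : Type*} [Group G] [Finite G] [MulAction G Ω] [Finite Ω]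
    (hZ : Cfsg.IsZassenhausGroup G Ω) [IsSimpleGroup G] {a : Ω}
    (U : Subgroup G) (hUle : U ≤ MulAction.stabilizer G a)
    (hUn : ∀ h ∈ MulAction.stabilizer G a, ∀ u ∈ U, h * u * h⁻¹ ∈ U)
    (hreg : ∀ c d : Ω, c ≠ a → d ≠ a → ∃! u : U, (u : G) • c = d)
    (hU2 : IsPGroup 2 U) (hUab : ∀ u ∈ U, ∀ u' ∈ U, u * u' = u' * u)
    (v : G) (hv1 : v ≠ 1) (hv2 : v * v = 1) (hva : v • a ≠ a) :
    ∃! u₀ : G, u₀ ∈ U ∧ u₀ ≠ 1 ∧ v * u₀ * v = u₀ * v * u₀ := by
  classical
  haveI := Fintype.ofFinite Ω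
  haveI := Fintype.ofFinite G
  set b := v • a with hb
  have hba : b ≠ a := hva
  have hvb : v • b = a := by rw [hb, ← mul_smul, hv2, one_smul]
  have hUa : ∀ u ∈ U, u • a = a := fun u hu => hUle hu
  have hinj : ∀ u ∈ U, ∀ w ∈ U, u • b = w • b → u = w := by
    intro u hu w hw e
    have hne : w • b ≠ a := fun h => hba (smul_left_cancel w (h.trans (hUa w hw).symm))
    exact congrArg Subtype.val ((hreg b (w • b) hba hne).unique (y₁ := ⟨u, hu⟩) (y₂ := ⟨w, hw⟩) e rfl)
  have hHfix : ∀ u ∈ U, u ≠ 1 → ∀ c : Ω, u • c = c → c = a := by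
    intro u hu hu1 c hc
    by_contra hca
    exact hu1 (congrArg Subtype.val
      ((hreg c c hca hca).unique (y₁ := ⟨u, hu⟩) (y₂ := 1) hc (one_smul G c)))
  have hHcard : Nat.card U + 1 = Fintype.card Ω := by
    rw [Nat.card_congr (Equiv.ofBijective (fun k : U => (⟨(k : G) • b, fun h =>
          hba (smul_left_cancel _ (h.trans (hUa _ k.2).symm))⟩ : {x : Ω // x ≠ a}))
          ⟨fun k k' h => Subtype.ext (hinj k k.2 k' k'.2 (congrArg Subtype.val h)),
            fun x => let ⟨w, hw, _⟩ := hreg b x.1 hba x.2; ⟨w, Subtype.ext hw⟩⟩),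
      Nat.card_eq_fintype_card, Fintype.card_subtype_compl, Fintype.card_subtype_eq]
    have := Fintype.card_pos_iff.2 ⟨a⟩
    omega
  have h3 := Cfsg.Agent.Perm.Zass.three_le hZ
  have hdeg : Odd (Fintype.card Ω) := by
    obtain ⟨k, hk⟩ := IsPGroup.iff_card.1 hU2
    rcases k with _ | k
    · rw [pow_zero] at hk; omega
    · exact ⟨2 ^ k, by rw [← hHcard, hk, pow_succ]; ring⟩
  -- involutions fix exactly one point
  have honly : ∀ s : G, s * s = 1 → s ≠ 1 → ∃ c : Ω, s • c = c ∧ ∀ x : Ω, s • x = x → x = c := by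
    intro s hs hs1
    have h1 := Cfsg.Agent.Perm.Zass.card_fixed_le hZ hs1
    have h2 : ¬ Even (Finset.univ.filter fun x : Ω => s • x = x).card :=
      fun e => Nat.not_even_iff_odd.2 hdeg ((Cfsg.Agent.Perm.Zass.card_fixed_parity hs).1 (by convert e))
    have h4 : (Finset.univ.filter fun x : Ω => s • x = x).card = 1 := by
      rw [Nat.even_iff] at h2; omega
    obtain ⟨c, hc⟩ := Finset.card_eq_one.1 h4
    have hc' : ∀ x, s • x = x ↔ x = c := fun x => by
      have := Finset.ext_iff.1 hc x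
      simpa using this
    exact ⟨c, (hc' c).2 rfl, fun x => (hc' x).1⟩
  set D := Cfsg.Agent.ZassenhausOdd.twoStab G a b
  have hDodd : Odd (Nat.card D) := by
    rw [← Nat.not_even_iff_odd]
    intro hev
    obtain ⟨⟨z, hz⟩, hzo⟩ := exists_prime_orderOf_dvd_card' 2 (G := D) hev.two_dvd
    rw [Subgroup.orderOf_mk] at hzo
    obtain ⟨c, -, hc⟩ := honly z (Cfsg.Agent.Perm.Zass.sq_eq_one_of_order hzo)
      (fun e => by rw [e, orderOf_one] at hzo; omega)
    exact hba ((hc b hz.2).trans (hc a hz.1).symm)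
  -- the two-point stabiliser is transitive on the non-identity elements of `U`
  have hcop : (Fintype.card Ω - 2).Coprime 2 := by
    rw [Nat.coprime_two_right]
    obtain ⟨k, hk⟩ := hdeg
    exact ⟨k - 1, by omega⟩
  have hD : Fintype.card Ω - 2 ≤ Nat.card D :=
    Nat.le_of_dvd Nat.card_pos (hcop.dvd_of_dvd_mul_left
      (Cfsg.Agent.ZassenhausOdd.dvd_two_mul_of_abelian hZ hba.symm hDodd hUle hHcard hHfix hUab))
  obtain ⟨z, hzo⟩ : ∃ z : U, orderOf z = 2 := by
    haveI : Fact (Nat.Prime 2) := ⟨Nat.prime_two⟩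
    refine exists_prime_orderOf_dvd_card' 2 ?_
    obtain ⟨k, hk⟩ := hdeg
    exact ⟨k, by omega⟩
  have hzz : (z : G) * z = 1 := Cfsg.Agent.Perm.Zass.sq_eq_one_of_order (by rw [Subgroup.orderOf_coe, hzo])
  have hz1 : (z : G) ≠ 1 := fun e => by
    rw [← Subgroup.orderOf_coe, e, orderOf_one] at hzo; omega
  have hsq : ∀ u ∈ U, u * u = 1 := by
    intro u hu
    rcases eq_or_ne u 1 with rfl | hu1
    · exact one_mul 1
    have hpt : ∀ w ∈ U, w ≠ 1 → w • b ≠ a ∧ w • b ≠ b := fun w hw hw1 =>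
      ⟨fun h => hba (smul_left_cancel w (h.trans (hUa w hw).symm)),
        fun h => hw1 (hinj w hw 1 U.one_mem (h.trans (one_smul G b).symm))⟩
    let f : D → {c : Ω // c ≠ a ∧ c ≠ b} := fun g => ⟨(g : G) • (z : G) • b,
      fun e => (hpt z z.2 hz1).1 (smul_left_cancel (g : G) (e.trans (show (g : G) • a = a from g.2.1).symm)),
      fun e => (hpt z z.2 hz1).2 (smul_left_cancel (g : G) (e.trans (show (g : G) • b = b from g.2.2).symm))⟩
    have hf : Function.Injective f := by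
      intro g g' e
      have e' : (g : G) • (z : G) • b = (g' : G) • (z : G) • b := congrArg Subtype.val e
      refine Subtype.ext (inv_mul_eq_one.1 (Cfsg.Agent.Perm.Zass.eq_one_of_three hZ hba.symm
        (hpt z z.2 hz1).2.symm (hpt z z.2 hz1).1.symm ?_ ?_ ?_)).symm
      · rw [mul_smul, (show (g : G) • a = a from g.2.1), inv_smul_eq_iff]; exact (show (g' : G) • a = a from g'.2.1).symm
      · rw [mul_smul, (show (g : G) • b = b from g.2.2), inv_smul_eq_iff]; exact (show (g' : G) • b = b from g'.2.2).symm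
      · rw [mul_smul, e', inv_smul_smul]
    have hcard : Nat.card {c : Ω // c ≠ a ∧ c ≠ b} = Fintype.card Ω - 2 := by
      rw [Nat.subtype_card ((Finset.univ.erase a).erase b) (fun c => by simp [and_comm]),
        Finset.card_erase_of_mem (by simp [hba]), Finset.card_erase_of_mem (Finset.mem_univ _),
        Finset.card_univ]
      omega
    obtain ⟨g, hg⟩ := (hf.bijective_of_nat_card_le (by rw [hcard]; exact hD)).2 ⟨u • b, hpt u hu hu1⟩
    have hg' : (g : G) • (z : G) • b = u • b := congrArg Subtype.val hg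
    have e : (g : G) * z * (g : G)⁻¹ = u := hinj _ (hUn g g.2.1 z z.2) u hu (by
      rw [mul_smul, inv_smul_eq_iff.2 (show (g : G) • b = b from g.2.2).symm, mul_smul, hg'])
    rw [← e, show (g : G) * z * (g : G)⁻¹ * ((g : G) * z * (g : G)⁻¹) =
      (g : G) * (z * z) * (g : G)⁻¹ by group, hzz, mul_one, mul_inv_cancel]
  obtain ⟨c, hvc, huniq⟩ := honly v hv2 hv1
  have hca : c ≠ a := fun e => hba (by rw [hb, ← e, hvc, e])
  have hcb : c ≠ b := fun e => hba (by rw [← hvb, ← e, hvc, e])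
  obtain ⟨⟨u₀, hu₀⟩, hu₀b, -⟩ := hreg b c hba hca
  change u₀ • b = c at hu₀b
  have hu₀c : u₀ • c = b := by rw [← hu₀b, ← mul_smul, hsq u₀ hu₀, one_smul]
  have hu₀a := hUa u₀ hu₀
  refine ⟨u₀, ⟨hu₀, fun e => hcb (by rw [← hu₀b, e, one_smul]), ?_⟩, ?_⟩
  · refine inv_mul_eq_one.1 (Cfsg.Agent.Perm.Zass.eq_one_of_three hZ hba.symm hcb.symm hca.symm ?_ ?_ ?_) |>.symm
    all_goals simp only [mul_smul, inv_smul_eq_iff, hu₀a, hu₀b, hu₀c, ← hb, hvb, hvc]
  · rintro u ⟨hu, -, heq⟩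
    have hfix : v • u • b = u • b := by
      have h1 := congrArg (fun g : G => g • b) heq
      simp only [mul_smul, hvb, hUa u hu, ← hb] at h1
      calc v • u • b = u • u • v • u • b := by rw [← mul_smul u u, hsq u hu, one_smul]
        _ = u • b := by rw [← h1]
    exact hinj u hu u₀ hu₀ (by rw [hu₀b, huniq _ hfix])

end Cfsg.Agent.S1167
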