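import Cfsg.Statements.S1172
import Cfsg.Agent.Lib.ProductFusion.Main
import Cfsg.Agent.Lib.Subnormal.SylowJoin
import Cfsg.Agent.S0205

set_option autoImplicit false
open Cfsg

namespace Cfsg.Agent.S1172

open Subgroup
open Cfsg.Agent.ProductFusion

universe u

variable {G : Type u} [Group G] [Finite G]

/-- A factor of a product of two strongly closed factors is a Sylow 2-subgroup of its normal closure. -/
theorem inf_normalClosure (hO : Cfsg.oddCore G = ⊥) {S : Sylow 2 G} {S₁ S₂ : Subgroup G}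
    (d : Data S S₁ S₂) (hsup : S₁ ⊔ S₂ = (S : Subgroup G)) :
    (S : Subgroup G) ⊓ normalClosure (S₁ : Set G) = S₁ := by
  classical
  haveI : Fact (Nat.Prime 2) := ⟨Nat.prime_two⟩
  set N := normalClosure (S₁ : Set G) with hN
  have h0 : ⁅N, normalClosure (S₂ : Set G)⁆ = ⊥ :=
    le_bot_iff.1 (hO ▸ ProductFusion.commutator_le (fun _ _ _ h => S0205.result h) d)
  have hc : ∀ a ∈ N, ∀ b ∈ S₂, a * b = b * a := fun a ha b hb =>
    (mem_centralizer_iff.1 (commutator_eq_bot_iff_le_centralizer.1 h0 ha) b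
      (subset_normalClosure hb)).symm
  have hS₁N : S₁ ≤ N := le_normalClosure
  -- `T = S ∩ N` and its elements
  set T : Subgroup N := (S : Subgroup G).subgroupOf N with hT
  have hdec : ∀ t ∈ (S : Subgroup G), ∃ a ∈ S₁, ∃ b ∈ S₂, a * b = t := by
    intro t ht
    have hle : S₁ ≤ normalizer (S₂ : Set G) := (le_centralizer_iff.2 fun b hb =>
      mem_centralizer_iff.2 fun a ha => d.comm a ha b hb).trans (centralizer_le_normalizer _)
    exact (Coprime.mem_sup_iff_of_le_normalizer hle).1 (hsup ▸ ht)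
  set U : Subgroup T := (S₁.subgroupOf N).subgroupOf T with hU
  haveI hUn : U.Normal := ⟨fun x hx g => by
    have hxS : ((x : N) : G) ∈ S₁ := hx
    show ((g : N) : G) * ((x : N) : G) * ((g : N) : G)⁻¹ ∈ S₁
    exact d.hS.2 _ hxS _ ((S : Subgroup G).mul_mem ((S : Subgroup G).mul_mem g.2 x.2)
      ((S : Subgroup G).inv_mem g.2))⟩
  haveI : IsMulCommutative (↥T ⧸ U) := ⟨⟨fun x y => by
    obtain ⟨x, rfl⟩ := QuotientGroup.mk'_surjective U x
    obtain ⟨y, rfl⟩ := QuotientGroup.mk'_surjective U y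
    obtain ⟨a, ha, b, hb, hab⟩ := hdec ((x : N) : G) x.2
    have hbN : b ∈ N := by
      have : b = a⁻¹ * ((x : N) : G) := by rw [← hab, inv_mul_cancel_left]
      rw [this]; exact N.mul_mem (N.inv_mem (hS₁N ha)) (x : N).2
    have hx : QuotientGroup.mk' U x = QuotientGroup.mk' U ⟨⟨b, hbN⟩, d.hT.1 hb⟩ := by
      refine QuotientGroup.eq.mpr ?_
      show ((x : N) : G)⁻¹ * b ∈ S₁
      rw [← hab, d.comm a ha b hb, mul_inv_rev, mul_assoc, inv_mul_cancel, mul_one]
      exact inv_mem ha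
    rw [hx, ← map_mul, ← map_mul]
    congr 1
    exact Subtype.ext (Subtype.ext (hc _ (y : N).2 b hb).symm)⟩⟩
  letI : CommGroup (↥T ⧸ U) :=
    { (inferInstance : Group (↥T ⧸ U)) with mul_comm := fun a b => IsMulCommutative.is_comm.comm a b }
  let ψ : N →* ↥T ⧸ U := MonoidHom.transfer (QuotientGroup.mk' U)
  -- the transfer kills all conjugates of elements of `S₁`
  have hgen : ∀ (x : N), InS S₁ (x : G) → ψ x = 1 := by
    intro x hx
    letI : Fintype (Quotient (MulAction.orbitRel (zpowers x) (N ⧸ T))) := Fintype.ofFinite _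
    show MonoidHom.transfer _ x = 1
    rw [MonoidHom.transfer_eq_prod_quotient_orbitRel_zpowers_quot]
    refine Finset.prod_eq_one fun q _ => (QuotientGroup.eq_one_iff _).2 ?_
    show ((q.out.out⁻¹ * x ^ _ * q.out.out : N) : G) ∈ S₁
    refine mem_of_inS d.hS (QuotientGroup.out_conj_pow_minimalPeriod_mem T x q.out) ?_
    simp only [Subgroup.coe_mul, Subgroup.coe_inv, SubgroupClass.coe_pow]
    refine InS.conj' ?_ _
    obtain ⟨g, hg⟩ := hx
    exact ⟨g, by rw [← conj_pow]; exact pow_mem hg _⟩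
  have hψ : ∀ x : N, ψ x = 1 := by
    intro x
    have key : ∀ y, y ∈ N → ∀ hy : y ∈ N, ψ ⟨y, hy⟩ = 1 := by
      intro y hy
      induction hy using closure_induction with
      | mem z hz =>
        intro hz'
        refine hgen _ ?_
        obtain ⟨s, hs, hsz⟩ := Group.mem_conjugatesOfSet_iff.1 hz
        obtain ⟨c, rfl⟩ := isConj_iff.1 hsz
        exact (InS.of_mem hs).conj c
      | one => intro _; exact map_one ψ
      | mul a b ha hb iha ihb =>
        intro _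
        rw [show (⟨a * b, _⟩ : N) = ⟨a, ha⟩ * ⟨b, hb⟩ from rfl, map_mul, iha ha, ihb hb, mul_one]
      | inv a ha iha =>
        intro _
        rw [show (⟨a⁻¹, _⟩ : N) = (⟨a, ha⟩ : N)⁻¹ from rfl, map_inv, iha ha, inv_one]
    exact key x x.2 x.2
  refine le_antisymm (fun t ht => ?_) (le_inf d.hS.1 hS₁N)
  obtain ⟨a, ha, b, hb, rfl⟩ := hdec t ht.1
  have hbN : b ∈ N := by simpa using N.mul_mem (N.inv_mem (hS₁N ha)) ht.2
  set bN : N := ⟨b, hbN⟩
  have hcen : ∀ (k : ℕ) (g₀ : N), g₀⁻¹ * bN ^ k * g₀ ∈ T → g₀⁻¹ * bN ^ k * g₀ = bN ^ k := by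
    intro k g₀ _
    have h : Commute g₀ bN := Subtype.ext (hc _ g₀.2 b hb)
    rw [mul_assoc, ← (h.pow_right k).eq, inv_mul_cancel_left]
  have h1 : ψ bN = QuotientGroup.mk' U ⟨bN ^ T.index, _⟩ :=
    MonoidHom.transfer_eq_pow (QuotientGroup.mk' U) bN hcen
  rw [hψ, eq_comm] at h1
  have h2 : b ^ T.index ∈ S₁ := by
    have hm := (QuotientGroup.eq_one_iff (N := U) _).1 h1
    simpa [hU, bN, Subgroup.mem_subgroupOf] using hm
  have h3 : b ^ T.index = 1 := by
    have : b ^ T.index ∈ S₁ ⊓ S₂ := ⟨h2, pow_mem hb _⟩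
    rwa [d.disj, mem_bot] at this
  have h4 : (orderOf b).Coprime T.index := by
    obtain ⟨k, hk⟩ := IsPGroup.iff_orderOf.1 S.isPGroup' ⟨b, d.hT.1 hb⟩
    rw [Subgroup.orderOf_mk] at hk
    rw [hk]
    refine Nat.Coprime.pow_left k ((Nat.Prime.coprime_iff_not_dvd Nat.prime_two).2 ?_)
    have := SylowJoin.not_dvd_relIndex_inf S (normalClosure_normal (s := (S₁ : Set G))).isSubnormal
    rwa [inf_relIndex_right] at this
  have h5 : b = 1 := orderOf_eq_one_iff.1
    (Nat.eq_one_of_dvd_coprimes h4 dvd_rfl (orderOf_dvd_of_pow_eq_one h3))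
  simpa [h5] using ha

end Cfsg.Agent.S1172

namespace Cfsg.Agent.S1172

/-- Let G be a finite group with no nontrivial normal subgroup of odd order and no proper normal subgroup of odd index, whose Sylow 2-subgroup S is not commutative and is the internal direct product of two subgroups each isomorphic to a dihedral group of order at least 4 and each strongly closed in S with respect to G (product fusion). Then G is the internal direct product of two normal subgroups G₁, G₂, and S is the internal direct product of dihedral subgroups R₁ ≤ G₁ and R₂ ≤ G₂ of odd index in G₁ and G₂ respectively (so R_i is a Sylow 2-subgroup of G_i). -/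
theorem result {G : Type*} [Group G] [Finite G] (hO : Cfsg.oddCore G = ⊥) (hO' : ∀ N : Subgroup G, N.Normal → Odd N.index → N = ⊤) (S : Sylow 2 G) (hS : ¬ IsMulCommutative (S : Subgroup G)) (S₁ S₂ : Subgroup G) (hprod : Cfsg.IsInternalDirectProduct S₁ S₂ (S : Subgroup G)) (m₁ m₂ : ℕ) (hm₁ : 2 ≤ m₁) (hm₂ : 2 ≤ m₂) (e₁ : S₁ ≃* DihedralGroup m₁) (e₂ : S₂ ≃* DihedralGroup m₂) (hcl₁ : Cfsg.IsStronglyClosed S₁ (S : Subgroup G)) (hcl₂ : Cfsg.IsStronglyClosed S₂ (S : Subgroup G)) : ∃ G₁ G₂ : Subgroup G, G₁.Normal ∧ G₂.Normal ∧ Cfsg.IsInternalDirectProduct G₁ G₂ ⊤ ∧ ∃ R₁ R₂ : Subgroup G, Cfsg.IsInternalDirectProduct R₁ R₂ (S : Subgroup G) ∧ (∃ n₁, 2 ≤ n₁ ∧ Nonempty (R₁ ≃* DihedralGroup n₁)) ∧ (∃ n₂, 2 ≤ n₂ ∧ Nonempty (R₂ ≃* DihedralGroup n₂)) ∧ R₁ ≤ G₁ ∧ R₂ ≤ G₂ ∧ Odd (R₁.relIndex G₁) ∧ Odd (R₂.relIndex G₂) := by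
  have d : ProductFusion.Data S S₁ S₂ := ⟨hcl₁, hcl₂, hprod.2.2.1, hprod.2.2.2.1⟩
  haveI : Fact (Nat.Prime 2) := ⟨Nat.prime_two⟩
  set G₁ := Subgroup.normalClosure (S₁ : Set G) with hG₁
  set G₂ := Subgroup.normalClosure (S₂ : Set G) with hG₂
  have h1 : (S : Subgroup G) ⊓ G₁ = S₁ := inf_normalClosure hO d hprod.2.2.2.2
  have h2 : (S : Subgroup G) ⊓ G₂ = S₂ :=
    inf_normalClosure hO d.symm ((sup_comm S₂ S₁).trans hprod.2.2.2.2)
  have hc : ∀ a ∈ G₁, ∀ b ∈ G₂, a * b = b * a := fun a ha b hb =>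
    (Subgroup.mem_centralizer_iff.1 (Subgroup.commutator_eq_bot_iff_le_centralizer.1
      (le_bot_iff.1 (hO ▸ ProductFusion.commutator_le (fun _ _ _ h => S0205.result h) d)) ha) b hb).symm
  have hodd : ∀ A : Subgroup G, A.Normal → ¬ 2 ∣ (S : Subgroup G).relIndex A := fun A hA => by
    have := SylowJoin.not_dvd_relIndex_inf S hA.isSubnormal
    rwa [Subgroup.inf_relIndex_right] at this
  have hinf : G₁ ⊓ G₂ = ⊥ := by
    refine le_bot_iff.1 (hO ▸ PCore.le_pPrimeCore ((Nat.Prime.coprime_iff_not_dvd Nat.prime_two).2 ?_).symm)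
    have h := hodd (G₁ ⊓ G₂) inferInstance
    rwa [← Subgroup.inf_relIndex_right, ← inf_assoc, h1,
      show S₁ ⊓ G₂ = ⊥ from le_bot_iff.1 fun x hx => d.disj.le
        ⟨hx.1, h2.le ⟨hcl₁.1 hx.1, hx.2⟩⟩, Subgroup.relIndex_bot_left] at h
  have htop : G₁ ⊔ G₂ = ⊤ := by
    refine hO' _ inferInstance ?_
    have hle : (S : Subgroup G) ≤ G₁ ⊔ G₂ := by
      rw [← hprod.2.2.2.2]
      exact sup_le_sup Subgroup.le_normalClosure Subgroup.le_normalClosure
    exact Nat.odd_iff.2 (Nat.two_dvd_ne_zero.1 fun h =>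
      S.not_dvd_index (h.trans (Subgroup.index_dvd_of_le hle)))
  have hrel : ∀ (A B : Subgroup G), A.Normal → (S : Subgroup G) ⊓ A = B → Odd (B.relIndex A) := by
    rintro A B hA rfl
    rw [Subgroup.inf_relIndex_right]
    exact Nat.odd_iff.2 (Nat.two_dvd_ne_zero.1 (hodd A hA))
  exact ⟨G₁, G₂, Subgroup.normalClosure_normal, Subgroup.normalClosure_normal,
    ⟨le_top, le_top, hc, hinf, htop⟩, S₁, S₂, hprod, ⟨m₁, hm₁, ⟨e₁⟩⟩, ⟨m₂, hm₂, ⟨e₂⟩⟩,
    Subgroup.le_normalClosure, Subgroup.le_normalClosure,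
    hrel G₁ S₁ Subgroup.normalClosure_normal h1, hrel G₂ S₂ Subgroup.normalClosure_normal h2⟩

end Cfsg.Agent.S1172
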