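import Cfsg.Statements.S1176
import Cfsg.Agent.Lib.Involution.Isolated
-- import your own Cfsg.Agent.* helpers here

set_option autoImplicit false
open Cfsg

namespace Cfsg.Agent.S1176

open scoped commutatorElement

/-- Let x₀ be an involution of the finite group G and D its conjugacy class. Assume (a) for each x ∈ D the subgroup W(x) generated by the members of D commuting with x is a 2-group of nilpotency class at most 2, and (b) the product of two distinct commuting members of D again lies in D. Then for all x, y ∈ D, if xy has even order greater than 2, its order is 4. -/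
theorem result {G : Type*} [Group G] [Finite G] (x₀ : G) (hx₀ : orderOf x₀ = 2) (ha : ∀ x : G, IsConj x₀ x → IsPGroup 2 ↥(Subgroup.closure {y : G | IsConj x₀ y ∧ Commute y x}) ∧ ⁅⁅Subgroup.closure {y : G | IsConj x₀ y ∧ Commute y x}, Subgroup.closure {y : G | IsConj x₀ y ∧ Commute y x}⁆, Subgroup.closure {y : G | IsConj x₀ y ∧ Commute y x}⁆ = ⊥) (hb : ∀ x y : G, IsConj x₀ x → IsConj x₀ y → x ≠ y → Commute x y → IsConj x₀ (x * y)) (x y : G) (hx : IsConj x₀ x) (hy : IsConj x₀ y) (heven : Even (orderOf (x * y))) (hgt : 2 < orderOf (x * y)) : orderOf (x * y) = 4 :=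
  by
  have hsq : ∀ u : G, IsConj x₀ u → u * u = 1 := by
    intro u hu
    obtain ⟨g, rfl⟩ := isConj_iff.mp hu
    have h0 : x₀ * x₀ = 1 := by
      have := pow_orderOf_eq_one x₀
      rwa [hx₀, pow_two] at this
    calc g * x₀ * g⁻¹ * (g * x₀ * g⁻¹) = g * (x₀ * x₀) * g⁻¹ := by group
      _ = 1 := by rw [h0]; group
  have hu := hsq x hx
  have hv := hsq y hy
  have hy' : y = x * (x * y) := by rw [← mul_assoc, hu, one_mul]
  generalize hr : x * y = r at heven hgt hy' ⊢
  obtain ⟨m, hm⟩ := heven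
  have hw : (r ^ m)⁻¹ = r ^ m := inv_eq_of_mul_eq_one_right (by
    rw [← pow_add, ← hm, pow_orderOf_eq_one])
  have hne : r ^ m ≠ 1 := pow_ne_one_of_lt_orderOf (by omega) (by omega)
  have hxz : Commute x (r ^ m) := by
    have h1 := Involution.Isolated.conj_pow_eq hu hv m
    rw [hr, hw] at h1
    show x * r ^ m = r ^ m * x
    conv_rhs => rw [← h1]
    rw [mul_assoc (x * r ^ m) x x, hu, mul_one]
  have hconj : ∀ k : ℕ, (r ^ k)⁻¹ * x * r ^ k = x * r ^ (k + k) := fun k => by
    rw [← hr]; exact Involution.Isolated.conj_pow_left hu hv k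
  have hD' : IsConj x₀ (x * r ^ m) := by
    rcases Nat.even_or_odd m with ⟨k, hk⟩ | ⟨k, hk⟩
    · rw [hk, ← hconj k]
      exact hx.trans (isConj_iff.mpr ⟨(r ^ k)⁻¹, by rw [inv_inv]⟩)
    · refine hy.trans (isConj_iff.mpr ⟨(r ^ k)⁻¹, ?_⟩)
      have h1 : (r ^ k)⁻¹ * y * r ^ k = ((r ^ k)⁻¹ * x * r ^ k) * r := by
        rw [hy', mul_assoc ((r ^ k)⁻¹ * x), ← pow_succ, pow_succ']
        simp [mul_assoc]
      rw [inv_inv, h1, hconj, mul_assoc, ← pow_succ, show k + k + 1 = m by omega]
  have hz : IsConj x₀ (r ^ m) := by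
    have := hb x (x * r ^ m) hx hD' (fun h => hne (mul_eq_left.mp h.symm))
      ((Commute.refl x).mul_right hxz)
    rwa [← mul_assoc, hu, one_mul] at this
  obtain ⟨-, hcl⟩ := ha _ hz
  set W := Subgroup.closure {y : G | IsConj x₀ y ∧ Commute y (r ^ m)}
  have hxW : x ∈ W := Subgroup.subset_closure ⟨hx, hxz⟩
  have hyW : y ∈ W := Subgroup.subset_closure ⟨hy, by
    rw [hy']; exact hxz.mul_left ((Commute.refl r).pow_right m)⟩
  have h4 : ⁅⁅x, y⁆, y⁆ ∈ (⊥ : Subgroup G) :=
    hcl ▸ Subgroup.commutator_mem_commutator (Subgroup.commutator_mem_commutator hxW hyW) hyW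
  rw [Subgroup.mem_bot] at h4
  have hxi : x⁻¹ = x := Involution.Isolated.inv_mul_self_eq hu
  have hyi : y⁻¹ = y := Involution.Isolated.inv_mul_self_eq hv
  have h5 : r ^ 4 = 1 := by
    rw [← hr, ← h4, commutatorElement_def, commutatorElement_def]
    simp only [mul_inv_rev, inv_inv, hxi, hyi, pow_succ, pow_zero, one_mul, mul_assoc]
    simp [← mul_assoc y y, hv]
  have h6 := Nat.le_of_dvd (by norm_num) (orderOf_dvd_of_pow_eq_one h5)
  have h7 := orderOf_dvd_of_pow_eq_one h5
  rcases (show orderOf r = 4 ∨ orderOf r < 4 by omega) with h | h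
  · exact h
  · omega

end Cfsg.Agent.S1176
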