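import Cfsg.Statements.S1177
import Cfsg.Agent.Lib.Involution.Isolated
-- import your own Cfsg.Agent.* helpers here

set_option autoImplicit false
open Cfsg

namespace Cfsg.Agent.S1177

/-- Let A be a nontrivial elementary abelian 2-subgroup of a finite group G which is a T.I. set (each conjugate of A meets A trivially or equals A) and which does not commute elementwise with any conjugate of A other than A itself. Then for every a ∈ A, a ≠ 1, every conjugate of A contained in C_G(a) is equal to A (A is weakly closed in C_G(a)). -/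
theorem result {G : Type*} [Group G] [Finite G] (A : Subgroup G) (hA : Cfsg.IsElementaryAbelian 2 A) (hA1 : A ≠ ⊥) (hTI : ∀ g : G, A.map (MulAut.conj g).toMonoidHom ⊓ A = ⊥ ∨ A.map (MulAut.conj g).toMonoidHom = A) (hb : ∀ g : G, (∀ a ∈ A, ∀ b ∈ A.map (MulAut.conj g).toMonoidHom, a * b = b * a) → A.map (MulAut.conj g).toMonoidHom = A) (a : G) (ha : a ∈ A) (ha1 : a ≠ 1) (g : G) (hg : A.map (MulAut.conj g).toMonoidHom ≤ Subgroup.centralizer ({a} : Set G)) : A.map (MulAut.conj g).toMonoidHom = A :=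
  by
  haveI : IsMulCommutative A := hA.1
  set B := A.map (MulAut.conj g).toMonoidHom with hB
  have hcomA : ∀ b ∈ A, ∀ c ∈ A, b * c = c * b := fun b hb c hc =>
    congrArg Subtype.val (hA.1.is_comm.comm ⟨b, hb⟩ ⟨c, hc⟩)
  have hsqA : ∀ b ∈ A, b⁻¹ = b := fun b hb =>
    inv_eq_of_mul_eq_one_right (by rw [← pow_two]; exact hA.2 b hb)
  have hsqB : ∀ c ∈ B, c⁻¹ = c := by
    rintro _ ⟨b, hb, rfl⟩
    rw [← map_inv, hsqA b hb]
  have hconjmap : ∀ (K : Subgroup G) (x w : G), x ∈ K →
      w * x * w⁻¹ ∈ K.map (MulAut.conj w).toMonoidHom := fun K x w hx => ⟨x, hx, rfl⟩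
  -- each element of `B` normalises `A`
  have hnorm : ∀ c ∈ B, ∀ b ∈ A, c * b * c⁻¹ ∈ A := by
    intro c hc b hb
    have hca : c * a * c⁻¹ = a := by
      have : c * a = a * c := Subgroup.mem_centralizer_singleton_iff.mp (hg hc)
      rw [this, mul_inv_cancel_right]
    rcases hTI c with h | h
    · exfalso
      have h1 : a ∈ A.map (MulAut.conj c).toMonoidHom ⊓ A := ⟨hca ▸ hconjmap A a c ha, ha⟩
      rw [h, Subgroup.mem_bot] at h1
      exact ha1 h1
    · rw [← h]; exact hconjmap A b c hb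
  by_contra hne
  have hAB : B ⊓ A = ⊥ := (hTI g).resolve_right hne
  have hnot : ∃ b ∈ A, ∃ c ∈ B, b * c ≠ c * b := by
    by_contra hh
    push Not at hh
    exact hne (hb g hh)
  obtain ⟨b₀, hb₀, c₀, hc₀, hne0⟩ := hnot
  set C := A ⊓ Subgroup.centralizer (B : Set G) with hC
  -- among the elements of `A` outside `C` one with the largest centralizer in `B`
  classical
  haveI := Fintype.ofFinite G
  let N : G → ℕ := fun b => (Finset.univ.filter fun c => c ∈ B ∧ b * c = c * b).card
  obtain ⟨b, hb', hmax⟩ := Finset.exists_max_image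
    (Finset.univ.filter fun b => b ∈ A ∧ b ∉ C) N
    ⟨b₀, Finset.mem_filter.mpr ⟨Finset.mem_univ _, hb₀, fun h =>
      hne0 (Subgroup.mem_centralizer_iff.mp h.2 c₀ hc₀).symm⟩⟩
  obtain ⟨-, hbA, hbC⟩ := Finset.mem_filter.mp hb'
  have hcomB : ∀ c ∈ B, ∀ d ∈ B, c * d = d * c := by
    rintro _ ⟨u, hu, rfl⟩ _ ⟨v, hv, rfl⟩
    simp only [MulEquiv.coe_toMonoidHom]
    rw [← map_mul, ← map_mul, hcomA u hu v hv]
  -- `[b, B] ≤ C`
  have key : ∀ c ∈ B, b * (c * b * c⁻¹) ∈ C := by
    intro c hc
    set e := b * (c * b * c⁻¹) with he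
    have heA : e ∈ A := mul_mem hbA (hnorm c hc b hbA)
    by_contra heC
    have hce : e * c = c * e := by
      have hcc : c * c = 1 := by
        calc c * c = c⁻¹ * c := by rw [hsqB c hc]
          _ = 1 := inv_mul_cancel c
      rw [he]
      calc b * (c * b * c⁻¹) * c = b * c * b := by group
        _ = (c * c) * (b * c * b) := by rw [hcc, one_mul]
        _ = c * ((c * b * c⁻¹) * (c * c) * b) := by group
        _ = c * (b * (c * b * c⁻¹)) := by
          rw [hcc, mul_one, hcomA _ (hnorm c hc b hbA) b hbA]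
    have hcb : b * c ≠ c * b := by
      intro h
      apply heC
      have : e = 1 := by
        rw [he, ← h, mul_inv_cancel_right, ← pow_two]
        exact hA.2 b hbA
      rw [this]
      exact one_mem _
    have hlt : N b < N e := by
      refine Finset.card_lt_card (Finset.ssubset_iff_of_subset ?_ |>.mpr ⟨c, ?_, ?_⟩)
      · intro d hd
        simp only [Finset.mem_filter, Finset.mem_univ, true_and] at hd ⊢
        obtain ⟨hd, hbd⟩ := hd
        refine ⟨hd, ?_⟩
        have hcd : Commute c d := hcomB c hc d hd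
        exact (Commute.mul_left hbd (((hcd.mul_left hbd).mul_left hcd.inv_left))).eq
      · simp [hc, hce]
      · simp [hcb]
    exact absurd (hmax e (Finset.mem_filter.mpr ⟨Finset.mem_univ _, heA, heC⟩)) (not_le.mpr hlt)
  -- only the identity of `B` centralises `b`
  have htriv : ∀ c ∈ B, b * c = c * b → c = 1 := by
    intro c hc hbc
    by_contra hc1
    apply hbC
    refine ⟨hbA, Subgroup.mem_centralizer_iff.mpr fun d hd => ?_⟩
    -- `b` normalises `B`
    have hBb : ∀ d ∈ B, b * d * b⁻¹ ∈ B := by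
      rcases hTI (g⁻¹ * b * g) with h | h
      · exfalso
        obtain ⟨u, hu, huc⟩ := hc
        simp only [MulEquiv.coe_toMonoidHom, MulAut.conj_apply] at huc
        have hfix : g⁻¹ * b * g * u * (g⁻¹ * b * g)⁻¹ = u := by
          calc g⁻¹ * b * g * u * (g⁻¹ * b * g)⁻¹ = g⁻¹ * (b * (g * u * g⁻¹) * b⁻¹) * g := by group
            _ = g⁻¹ * (g * u * g⁻¹) * g := by rw [huc, hbc, mul_inv_cancel_right]
            _ = u := by group
        have h1 : u ∈ A.map (MulAut.conj (g⁻¹ * b * g)).toMonoidHom ⊓ A :=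
          ⟨hfix ▸ hconjmap A u _ hu, hu⟩
        rw [h, Subgroup.mem_bot] at h1
        subst h1
        exact hc1 (by rw [← huc]; group)
      · rintro _ ⟨u, hu, rfl⟩
        have h1 : g⁻¹ * b * g * u * (g⁻¹ * b * g)⁻¹ ∈ A := h ▸ hconjmap A u _ hu
        refine ⟨_, h1, ?_⟩
        simp only [MulEquiv.coe_toMonoidHom, MulAut.conj_apply]
        group
    have h1 : b * d * b⁻¹ * d⁻¹ ∈ B ⊓ A := by
      refine Subgroup.mem_inf.mpr ⟨B.mul_mem (hBb d hd) (B.inv_mem hd), ?_⟩
      have : b * d * b⁻¹ * d⁻¹ = b * (d * b⁻¹ * d⁻¹) := by group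
      rw [this]
      exact mul_mem hbA (hnorm d hd _ (inv_mem hbA))
    rw [hAB, Subgroup.mem_bot, mul_inv_eq_one] at h1
    exact (mul_inv_eq_iff_eq_mul.mp h1).symm
  -- hence `|C| ≥ |B| = |A|`
  have hinj : Function.Injective (fun c : B => (⟨_, key c c.2⟩ : C)) := by
    intro c d hcd
    have h1 : (c : G) * b * (c : G)⁻¹ = (d : G) * b * (d : G)⁻¹ :=
      mul_left_cancel (congrArg Subtype.val hcd)
    have h2 := htriv ((d : G)⁻¹ * c) (mul_mem (inv_mem d.2) c.2) (by
      calc b * ((d : G)⁻¹ * c) = (d : G)⁻¹ * ((d : G) * b * (d : G)⁻¹) * c := by group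
        _ = (d : G)⁻¹ * c * b := by rw [← h1]; group)
    exact Subtype.ext (inv_mul_eq_one.mp h2).symm
  have hcard : Nat.card A ≤ Nat.card C := by
    have := Nat.card_le_card_of_injective _ hinj
    exact le_of_eq_of_le (Subgroup.card_map_of_injective (MulAut.conj g).injective).symm this
  exact hbC ((Subgroup.eq_of_le_of_card_ge inf_le_left hcard).ge hbA)

end Cfsg.Agent.S1177
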