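import Cfsg.Statements.S1178
-- import your own Cfsg.Agent.* helpers here

set_option autoImplicit false
open Cfsg

namespace Cfsg.Agent.S1178

/-- Let A be a subgroup of a Sylow 2-subgroup S of the finite group G which is weakly closed in S. If a conjugate g A g⁻¹ commutes elementwise with A, then g A g⁻¹ = A. -/
theorem result {G : Type*} [Group G] [Finite G] (S : Sylow 2 G) (A : Subgroup G) (hW : Cfsg.IsWeaklyClosed A (S : Subgroup G)) (g : G) (hc : ∀ a ∈ A, ∀ b ∈ A.map (MulAut.conj g).toMonoidHom, a * b = b * a) : A.map (MulAut.conj g).toMonoidHom = A :=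
  by
  have hcS : ∀ x ∈ A, x ∈ (S : Subgroup G) := hW.1
  have hA2 : IsPGroup 2 A := S.2.to_le hW.1
  set B := A.map (MulAut.conj g).toMonoidHom
  have hB2 : IsPGroup 2 B := hA2.map _
  have hnorm : B ≤ Subgroup.normalizer (A : Set G) := by
    refine le_trans ?_ (Subgroup.centralizer_le_normalizer _)
    intro b hb
    rw [Subgroup.mem_centralizer_iff]
    intro a ha
    exact hc a ha b hb
  obtain ⟨P, hP⟩ := (hA2.to_sup_of_normal_left' hB2 hnorm).exists_le_sylow
  obtain ⟨h, rfl⟩ := MulAction.exists_smul_eq G S P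
  have hconj : ∀ K : Subgroup G, K ≤ ((h • S : Sylow 2 G) : Subgroup G) →
      K.map (MulAut.conj h⁻¹).toMonoidHom ≤ (S : Subgroup G) := by
    rintro K hK _ ⟨x, hx, rfl⟩
    obtain ⟨y, hy, hyx⟩ := hK hx
    have hyx' : h * y * h⁻¹ = x := hyx
    show h⁻¹ * x * h⁻¹⁻¹ ∈ (S : Subgroup G)
    rw [← hyx']
    have hy' : y ∈ (S : Subgroup G) := hy
    simpa [mul_assoc] using hy'
  have h1 := hW.2 h⁻¹ (hconj A (le_sup_left.trans hP))
  have hcomp : B.map (MulAut.conj h⁻¹).toMonoidHom = A.map (MulAut.conj (h⁻¹ * g)).toMonoidHom := by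
    rw [Subgroup.map_map, map_mul]
    rfl
  have h2 := hW.2 (h⁻¹ * g) (hcomp ▸ hconj B (le_sup_right.trans hP))
  have h3 : B.map (MulAut.conj h⁻¹).toMonoidHom = A.map (MulAut.conj h⁻¹).toMonoidHom := by
    rw [hcomp, h2, h1]
  exact Subgroup.map_injective (MulAut.conj h⁻¹).injective h3

end Cfsg.Agent.S1178
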