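import Cfsg.Statements.S1183
import Cfsg.Agent.Lib.Involution.Isolated
import Cfsg.Agent.Lib.Transfer.Fusion
-- import your own Cfsg.Agent.* helpers here

set_option autoImplicit false
open Cfsg

namespace Cfsg.Agent.S1183

/-- Let z be an isolated involution of the finite group G and C = C_G(z). Then the subgroup of G generated by its elements of odd order is all of G if and only if the subgroup of C generated by its elements of odd order is all of C. -/
theorem result {G : Type*} [Group G] [Finite G] (z : G) (hz : Cfsg.IsIsolatedInvolution z) : Cfsg.pResidual 2 G = ⊤ ↔ Cfsg.pResidual 2 ↥(Subgroup.centralizer ({z} : Set G)) = ⊤ :=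
  by
  set C := Subgroup.centralizer ({z} : Set G) with hC
  haveI : Fact (Nat.Prime 2) := ⟨Nat.prime_two⟩
  have hp : IsPGroup 2 (Subgroup.zpowers z) := by
    refine IsPGroup.of_card (n := 1) ?_
    rw [Nat.card_zpowers, hz.1, pow_one]
  obtain ⟨P, hP⟩ := hp.exists_le_sylow
  have hPC : (P : Subgroup G) ≤ C := fun x hx =>
    (Involution.Isolated.mem_centralizer_iff_commute).mpr
      (Involution.Isolated.commute_of_mem_pGroup hz P.2 (hP (Subgroup.mem_zpowers z)) hx)
  have hc : Transfer.ControlsElementFusion C (P : Subgroup G) := by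
    intro x hx g hg
    obtain ⟨c, -, hcz, he⟩ := Involution.Isolated.exists_centralizing_conj hz (H := ⊤)
      (Subgroup.le_normalizer (H := (⊤ : Subgroup G)) (Subgroup.mem_top z)) (Subgroup.mem_top g)
      (Involution.Isolated.mem_centralizer_iff_commute.mp (hPC hx))
      (Involution.Isolated.mem_centralizer_iff_commute.mp (hPC hg)) rfl
    exact ⟨c, Involution.Isolated.mem_centralizer_iff_commute.mpr hcz, he⟩
  have hn : Nat.Coprime 2 (P : Subgroup G).index :=
    (Nat.Prime.coprime_iff_not_dvd Fact.out).mpr P.not_dvd_index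
  obtain ⟨k, hk⟩ := IsPGroup.iff_card.mp P.2
  have key := Transfer.inf_residual_eq_of_controlsElementFusion (H := C) P.2.isNilpotent hn
    (dvd_of_eq hk) hPC hc
  rw [Transfer.pResidual_eq_residual, Transfer.pResidual_eq_residual]
  constructor
  · intro h
    rw [h, inf_top_eq] at key
    have hle : (P : Subgroup G).subgroupOf C ≤ Transfer.residual 2 C := by
      intro x hx
      have h1 : (x : G) ∈ (P : Subgroup G) ⊓ (Transfer.residual 2 C).map C.subtype := key ▸ hx
      obtain ⟨y, hy, hyx⟩ := h1.2
      exact (Subtype.ext hyx : y = x) ▸ hy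
    rw [← top_le_iff, ← Transfer.sup_residual_eq_top ((P : Subgroup G).subgroupOf C) 2
      (hn.coprime_dvd_right (Subgroup.relIndex_dvd_index_of_le hPC))]
    exact sup_le hle le_rfl
  · intro h
    have h0 : (P : Subgroup G) ⊓ (Transfer.residual 2 C).map C.subtype = (P : Subgroup G) := by
      rw [h, ← MonoidHom.range_eq_map, Subgroup.range_subtype, inf_eq_left.mpr hPC]
    rw [h0, inf_eq_left] at key
    rw [← top_le_iff, ← Transfer.sup_residual_eq_top (P : Subgroup G) 2 hn]
    exact sup_le key le_rfl

end Cfsg.Agent.S1183
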