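import Cfsg.Statements.S1187
import Cfsg.Agent.Lib.ZStar.Main
import Cfsg.Agent.Lib.Coprime.Sylow
-- import your own Cfsg.Agent.* helpers here

set_option autoImplicit false
open Cfsg

namespace Cfsg.Agent.S1187

/-- Let z be an isolated involution of the finite group G and p a prime. If Q is a p-subgroup normalized by z that is maximal among p-subgroups normalized by z, then Q is a Sylow p-subgroup of G. -/
theorem result {G : Type*} [Group G] [Finite G] (z : G) (hz : Cfsg.IsIsolatedInvolution z) {p : ℕ} [Fact p.Prime] (Q : Subgroup G) (hQ : IsPGroup p Q) (hzQ : z ∈ Subgroup.normalizer (Q : Set G)) (hmax : ∀ R : Subgroup G, IsPGroup p R → z ∈ Subgroup.normalizer (R : Set G) → Q ≤ R → R = Q) : ∃ P : Sylow p G, (P : Subgroup G) = Q := by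
  obtain ⟨P, hQP⟩ := hQ.exists_le_sylow
  refine ⟨P, ?_⟩
  rcases eq_or_ne p 2 with rfl | hp2
  · -- the prime two: `z` lies in `Q`
    have hz2 : IsPGroup 2 (Subgroup.zpowers z) :=
      IsPGroup.of_card (n := 1) (by rw [Nat.card_zpowers, hz.1, pow_one])
    have hsup : IsPGroup 2 (Subgroup.zpowers z ⊔ Q : Subgroup G) :=
      hz2.to_sup_of_normal_right' hQ (Subgroup.zpowers_le.mpr hzQ)
    have hzmem : z ∈ Q := by
      have h1 := hmax _ hsup
        (Subgroup.le_normalizer (Subgroup.mem_sup_left (Subgroup.mem_zpowers z))) le_sup_right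
      exact h1 ▸ Subgroup.mem_sup_left (Subgroup.mem_zpowers z)
    exact hmax _ P.2 (Subgroup.le_normalizer (hQP hzmem)) hQP
  · -- odd primes: work inside `P O(G)`
    have hKodd : Odd (Nat.card (oddCore G)) := PCore.odd_card_oddCore
    set L : Subgroup G := (P : Subgroup G) ⊔ oddCore G with hL
    have hLcard : Nat.card L ∣ Nat.card (oddCore G) * Nat.card (P : Subgroup G) := by
      have h1 := Subgroup.relIndex_mul_relIndex ⊥ (oddCore G) L bot_le le_sup_right
      rw [Subgroup.relIndex_bot_left, Subgroup.relIndex_bot_left] at h1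
      rw [← h1, hL, Subgroup.relIndex_sup_right]
      exact Nat.mul_dvd_mul_left _ (Subgroup.relIndex_dvd_card _ _)
    have hcop : (Nat.card (Subgroup.zpowers z)).Coprime (Nat.card L) := by
      rw [Nat.card_zpowers, hz.1]
      refine Nat.Coprime.coprime_dvd_right hLcard (Nat.Coprime.mul_right ?_ ?_)
      · exact Nat.coprime_two_left.mpr hKodd
      · obtain ⟨n, hn⟩ := IsPGroup.iff_card.mp P.2
        rw [hn]
        exact Nat.Coprime.pow_right n
          ((Nat.coprime_primes Nat.prime_two Fact.out).mpr (Ne.symm hp2))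
    have hAL : Subgroup.zpowers z ≤ Subgroup.normalizer (L : Set G) := by
      refine Subgroup.zpowers_le.mpr ?_
      rw [Subgroup.mem_normalizer_iff]
      intro x
      have hc := ZStar.commutator_mem_oddCore (ZStar.inZStar hz) x
      have hc' : z * x * z⁻¹ * x⁻¹ ∈ L := Subgroup.mem_sup_right hc
      constructor
      · intro hx
        have := mul_mem hc' hx
        rwa [inv_mul_cancel_right] at this
      · intro hx
        have := mul_mem (inv_mem hc') hx
        rwa [show (z * x * z⁻¹ * x⁻¹)⁻¹ * (z * x * z⁻¹) = x by group] at this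
    obtain ⟨S, hQS, hAS⟩ := Coprime.exists_invariant_sylow_ge hAL hcop
      (Or.inl inferInstance) (hQP.trans le_sup_left) hQ (Subgroup.zpowers_le.mpr hzQ)
    have hSQ : (S : Subgroup L).map L.subtype = Q :=
      hmax _ (S.2.map _) (hAS (Subgroup.mem_zpowers z)) hQS
    have hcard : Nat.card (P : Subgroup G) ≤ Nat.card Q := by
      rw [← hSQ, Subgroup.card_map_of_injective L.subtype_injective]
      obtain ⟨R, hR⟩ := (P.2.comap_subtype : IsPGroup p ((P : Subgroup G).subgroupOf L)).exists_le_sylow
      calc Nat.card (P : Subgroup G) = Nat.card ((P : Subgroup G).subgroupOf L) :=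
            (Nat.card_congr (Subgroup.subgroupOfEquivOfLe le_sup_left).toEquiv).symm
        _ ≤ Nat.card (R : Subgroup L) :=
            Nat.le_of_dvd Nat.card_pos (Subgroup.card_dvd_of_le hR)
        _ = Nat.card (S : Subgroup L) := by
            rw [R.card_eq_multiplicity, S.card_eq_multiplicity]
    exact (Subgroup.eq_of_le_of_card_ge hQP hcard).symm

end Cfsg.Agent.S1187
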