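import Cfsg.Statements.S1189
import Cfsg.Agent.Lib.TwoGroups.QuasiDihedralSub

set_option autoImplicit false
open Cfsg

namespace Cfsg.Agent.S1189

open Cfsg.Agent.TwoGroups

theorem card_classes_eq_two {S : Type*} [Group S] (P : S → Prop) (a b : S) (hab : ¬ IsConj a b)
    (ha : P a) (hb : P b) (hall : ∀ t, P t → IsConj t a ∨ IsConj t b) :
    Nat.card {C : ConjClasses S // ∃ t : S, P t ∧ ConjClasses.mk t = C} = 2 := by
  have hset : {C : ConjClasses S | ∃ t : S, P t ∧ ConjClasses.mk t = C} =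
      {ConjClasses.mk a, ConjClasses.mk b} := by
    ext C
    constructor
    · rintro ⟨t, ht, rfl⟩
      rcases hall t ht with h | h
      · exact Or.inl (ConjClasses.mk_eq_mk_iff_isConj.2 h)
      · exact Or.inr (ConjClasses.mk_eq_mk_iff_isConj.2 h)
    · rintro (rfl | rfl)
      exacts [⟨a, ha, rfl⟩, ⟨b, hb, rfl⟩]
  rw [show {C : ConjClasses S // ∃ t : S, P t ∧ ConjClasses.mk t = C} =
    ↥{C : ConjClasses S | ∃ t : S, P t ∧ ConjClasses.mk t = C} from rfl, Nat.card_coe_set_eq, hset,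
    Set.ncard_pair (fun e => hab (ConjClasses.mk_eq_mk_iff_isConj.1 e))]


/-- A quasi-dihedral 2-group has exactly two conjugacy classes of elements of order 2 and exactly two conjugacy classes of elements of order 4. -/
theorem result {S : Type*} [Group S] [Finite S] (hS : Cfsg.IsQuasiDihedral S) : Nat.card {C : ConjClasses S // ∃ t : S, orderOf t = 2 ∧ ConjClasses.mk t = C} = 2 ∧ Nat.card {C : ConjClasses S // ∃ t : S, orderOf t = 4 ∧ ConjClasses.mk t = C} = 2 := by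
  obtain ⟨x, y, m, h⟩ := TwoGroups.exists_qdGen hS
  have hpos : (0 : ℤ) < 2 ^ m := by positivity
  have ord2 : ∀ g : S, orderOf g = 2 ↔ g ^ 2 = 1 ∧ g ≠ 1 := fun g => by
    haveI : Fact (Nat.Prime 2) := ⟨Nat.prime_two⟩
    exact orderOf_eq_prime_iff
  have ord4 : ∀ g : S, orderOf g = 4 ↔ g ^ 4 = 1 ∧ g ^ 2 ≠ 1 := fun g => by
    haveI : Fact (Nat.Prime 2) := ⟨Nat.prime_two⟩
    constructor
    · intro e
      refine ⟨e ▸ pow_orderOf_eq_one g, fun e2 => ?_⟩
      have := Nat.le_of_dvd two_pos (orderOf_dvd_of_pow_eq_one e2)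
      omega
    · rintro ⟨e4, e2⟩
      exact orderOf_eq_prime_pow (p := 2) (n := 1) (by simpa using e2) (by simpa using e4)
  constructor
  · refine card_classes_eq_two (fun t => orderOf t = 2) (x ^ ((4 : ℤ) * 2 ^ m)) (x ^ (0 : ℤ) * y)
      ?_ ?_ ?_ ?_
    · rw [isConj_iff]
      rintro ⟨g, hg⟩
      exact h.zpow_conj_ne g hg
    · refine (ord2 _).2 ⟨(h.x_sq_eq_one_iff _).2 dvd_rfl, fun e => ?_⟩
      rw [h.zpow_eq_one_iff] at e
      have := Int.le_of_dvd (by positivity) e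
      omega
    · exact (ord2 _).2 ⟨(h.xy_sq_eq_one_iff _).2 (dvd_zero _), fun e => h.xy_ne 0 0 (by rw [e, zpow_zero])⟩
    · intro t ht
      obtain ⟨hsq, ht1⟩ := (ord2 t).1 ht
      obtain ⟨i, rfl | rfl⟩ := h.exists_form t
      · left
        obtain ⟨c, rfl⟩ := (h.x_sq_eq_one_iff i).1 hsq
        have hodd : ¬ 2 ∣ c := fun ⟨d, hd⟩ => ht1 ((h.zpow_eq_one_iff _).2 ⟨d, by rw [hd]; ring⟩)
        obtain ⟨d, rfl⟩ : Odd c := Int.not_even_iff_odd.1 fun he => hodd (even_iff_two_dvd.1 he)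
        rw [show x ^ (4 * 2 ^ m * (2 * d + 1)) = x ^ ((4 : ℤ) * 2 ^ m) from
          (h.zpow_eq_iff _ _).2 ⟨d, by ring⟩]
      · right
        obtain ⟨j, hj⟩ := h.exists_conj (i := i) (i' := 0)
          (by simpa using ((h.xy_sq_eq_one_iff i).1 hsq))
        exact isConj_iff.2 ⟨_, hj⟩
  · refine card_classes_eq_two (fun t => orderOf t = 4) (x ^ ((2 : ℤ) * 2 ^ m)) (x ^ (1 : ℤ) * y)
      ?_ ?_ ?_ ?_
    · rw [isConj_iff]
      rintro ⟨g, hg⟩
      exact h.zpow_conj_ne g hg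
    · refine (ord4 _).2 ⟨(h.x_pow_four_eq_one_iff _).2 dvd_rfl, fun e => ?_⟩
      rw [h.x_sq_eq_one_iff] at e
      have := Int.le_of_dvd (by positivity) e
      omega
    · refine (ord4 _).2 ⟨h.xy_pow_four 1, fun e => ?_⟩
      have := (h.xy_sq_eq_one_iff 1).1 e
      omega
    · intro t ht
      obtain ⟨h4, h2⟩ := (ord4 t).1 ht
      obtain ⟨i, rfl | rfl⟩ := h.exists_form t
      · left
        obtain ⟨c, rfl⟩ := (h.x_pow_four_eq_one_iff i).1 h4
        have hodd : ¬ 2 ∣ c := fun ⟨d, hd⟩ => h2 ((h.x_sq_eq_one_iff _).2 ⟨d, by rw [hd]; ring⟩)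
        obtain ⟨d, rfl⟩ : Odd c := Int.not_even_iff_odd.1 fun he => hodd (even_iff_two_dvd.1 he)
        rcases Int.even_or_odd d with ⟨e, rfl⟩ | ⟨e, rfl⟩
        · rw [show x ^ (2 * 2 ^ m * (2 * (e + e) + 1)) = x ^ ((2 : ℤ) * 2 ^ m) from
            (h.zpow_eq_iff _ _).2 ⟨e, by ring⟩]
        · refine isConj_iff.2 ⟨x ^ (0 : ℤ) * y, ?_⟩
          rw [h.conj_x_by_xy, h.zpow_eq_iff]
          exact ⟨-(e + 1) + 2 ^ m * (4 * e + 3), by ring⟩
      · right
        obtain ⟨j, hj⟩ := h.exists_conj (i := i) (i' := 1) (by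
          have : ¬ 2 ∣ i := fun he => h2 ((h.xy_sq_eq_one_iff i).2 he)
          omega)
        exact isConj_iff.2 ⟨_, hj⟩

end Cfsg.Agent.S1189
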