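import Cfsg.Statements.S1192
import Cfsg.Agent.Lib.TwoGroups.QuasiDihedralSub

set_option autoImplicit false
open Cfsg

namespace Cfsg.Agent.S1192

/-- A quasi-dihedral group S of order 2^(n+1) has exactly three maximal subgroups; one is cyclic, one is isomorphic to the generalized quaternion group of order 2^n and one to the dihedral group of order 2^n. -/
theorem result {S : Type*} [Group S] [Finite S] (hS : Cfsg.IsQuasiDihedral S) (n : ℕ) (hn : Nat.card S = 2 ^ (n + 1)) : ∃ M₁ M₂ M₃ : Subgroup S, IsCoatom M₁ ∧ IsCoatom M₂ ∧ IsCoatom M₃ ∧ M₁ ≠ M₂ ∧ M₁ ≠ M₃ ∧ M₂ ≠ M₃ ∧ (∀ M : Subgroup S, IsCoatom M → M = M₁ ∨ M = M₂ ∨ M = M₃) ∧ IsCyclic M₁ ∧ Nonempty (M₂ ≃* QuaternionGroup (2 ^ (n - 2))) ∧ Nonempty (M₃ ≃* DihedralGroup (2 ^ (n - 1))) := by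
  obtain ⟨x, y, m, h⟩ := TwoGroups.exists_qdGen hS
  have hnm : n = m + 3 := by
    have := hn.symm.trans h.card
    rw [show 2 * (8 * 2 ^ m) = 2 ^ (m + 4) by ring] at this
    have := Nat.pow_right_injective le_rfl this
    omega
  subst hnm
  have hd := TwoGroups.QDGen.dvd_two m
  have hpos : (0 : ℤ) < 2 ^ m := by positivity
  have hx1 : x ∈ Subgroup.zpowers x := Subgroup.mem_zpowers x
  have hy0 : x ^ (0 : ℤ) * y ∈ h.part 2 hd 0 := (h.xy_mem_part hd).2 (by simp)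
  have hy1 : x ^ (1 : ℤ) * y ∈ h.part 2 hd 1 := (h.xy_mem_part hd).2 (by simp)
  have hnot : ∀ e : ℤ, x ^ (1 : ℤ) ∉ h.part 2 hd e := fun e he => by
    have := (h.x_mem_part hd).1 he
    omega
  refine ⟨Subgroup.zpowers x, h.part 2 hd 1, h.part 2 hd 0,
    TwoGroups.QDGen.isCoatom_of_index_two _ h.index_zpowers,
    TwoGroups.QDGen.isCoatom_of_index_two _ (h.index_part_two 1),
    TwoGroups.QDGen.isCoatom_of_index_two _ (h.index_part_two 0),
    fun e => hnot 1 (by rw [← e, zpow_one]; exact hx1),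
    fun e => hnot 0 (by rw [← e, zpow_one]; exact hx1),
    fun e => by have := (h.xy_mem_part hd).1 (e ▸ hy1); omega,
    fun M hM => h.eq_of_isCoatom M hM, inferInstance, ?_, ?_⟩
  all_goals
    have ha : x ^ (2 : ℕ) ∈ h.part 2 hd 1 := by
      rw [← zpow_natCast]; exact (h.x_mem_part hd).2 dvd_rfl
    have ha0 : x ^ (2 : ℕ) ∈ h.part 2 hd 0 := by
      rw [← zpow_natCast]; exact (h.x_mem_part hd).2 dvd_rfl
    have hord : orderOf (x ^ (2 : ℕ)) = 4 * 2 ^ m := by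
      rw [orderOf_pow_of_dvd two_ne_zero ⟨4 * 2 ^ m, by rw [h.ordX]; ring⟩, h.ordX]; omega
    have hconj : ∀ e : ℤ, x ^ e * y * x ^ (2 : ℕ) * (x ^ e * y)⁻¹ = (x ^ (2 : ℕ))⁻¹ := fun e => by
      rw [← zpow_natCast, h.conj_x_by_xy, ← zpow_neg, h.zpow_eq_iff]
      exact ⟨1, by push_cast; ring⟩
    have hni : ∀ e : ℤ, x ^ e * y ∉ Subgroup.zpowers (x ^ (2 : ℕ)) := fun e he => by
      obtain ⟨i, hi, -⟩ := (h.zpowers_sq_eq _).1 he
      exact h.xy_ne _ _ hi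
  · refine PGroup.quaternionEquivOfRel (a := ⟨_, ha⟩) (b := ⟨_, hy1⟩)
      (by rw [Subgroup.orderOf_mk, hord, show m + 3 - 2 = m + 1 by omega]; ring) ?_ ?_ ?_ ?_
    · rintro ⟨i, hi⟩
      exact hni 1 ⟨i, by simpa using congrArg Subtype.val hi⟩
    · apply Subtype.ext
      show (x ^ (1 : ℤ) * y) ^ 2 = (x ^ (2 : ℕ)) ^ (2 ^ (m + 3 - 2))
      rw [h.xy_sq, ← pow_mul, ← zpow_natCast x, h.zpow_eq_iff]
      refine ⟨0, ?_⟩
      rw [show m + 3 - 2 = m + 1 by omega]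
      push_cast
      ring
    · exact Subtype.ext (hconj 1)
    · rw [h.card_part, show m + 3 - 2 = m + 1 by omega, pow_succ]; omega
  · refine PGroup.dihedralEquivOfRel (a := ⟨_, ha0⟩) (b := ⟨_, hy0⟩)
      (by rw [Subgroup.orderOf_mk, hord, show m + 3 - 1 = m + 2 by omega]; ring) ?_ ?_ ?_ ?_
    · rintro ⟨i, hi⟩
      exact hni 0 ⟨i, by simpa using congrArg Subtype.val hi⟩
    · apply Subtype.ext
      show (x ^ (0 : ℤ) * y) ^ 2 = 1
      exact (h.xy_sq_eq_one_iff 0).2 (dvd_zero _)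
    · exact Subtype.ext (hconj 0)
    · rw [h.card_part, show m + 3 - 1 = m + 2 by omega, pow_add]; omega

end Cfsg.Agent.S1192
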