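import Cfsg.Statements.S1193
import Cfsg.Agent.Lib.TwoGroups.QuasiDihedralSub

set_option autoImplicit false
open Cfsg

namespace Cfsg.Agent.S1193

/-- Let S be quasi-dihedral of order 2^(n+1). Then S' = Φ(S) is cyclic of order 2^(n-1), the centre of S has order 2, and the subgroup generated by the involutions of S is dihedral of order 2^n. -/
theorem result {S : Type*} [Group S] [Finite S] (hS : Cfsg.IsQuasiDihedral S) (n : ℕ) (hn : Nat.card S = 2 ^ (n + 1)) : commutator S = frattini S ∧ IsCyclic (commutator S) ∧ Nat.card (commutator S) = 2 ^ (n - 1) ∧ Nat.card (Subgroup.center S) = 2 ∧ Nonempty (↥(Subgroup.closure {x : S | orderOf x = 2}) ≃* DihedralGroup (2 ^ (n - 1))) := by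
  obtain ⟨x, y, m, h⟩ := TwoGroups.exists_qdGen hS
  have hnm : n = m + 3 := by
    have := hn.symm.trans h.card
    rw [show 2 * (8 * 2 ^ m) = 2 ^ (m + 4) by ring] at this
    have := Nat.pow_right_injective le_rfl this
    omega
  subst hnm
  have hd := TwoGroups.QDGen.dvd_two m
  have hord : orderOf (x ^ (2 : ℕ)) = 4 * 2 ^ m := by
    rw [orderOf_pow_of_dvd two_ne_zero ⟨4 * 2 ^ m, by rw [h.ordX]; ring⟩, h.ordX]; omega
  have hy0 : x ^ (0 : ℤ) * y ∈ h.part 2 hd 0 := (h.xy_mem_part hd).2 (by simp)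
  have hΩ : Subgroup.closure {a : S | orderOf a = 2} = h.part 2 hd 0 := by
    apply le_antisymm
    · rw [Subgroup.closure_le]
      intro a ha
      have ha2 : a ^ 2 = 1 := (show orderOf a = 2 from ha) ▸ pow_orderOf_eq_one a
      obtain ⟨i, rfl | rfl⟩ := h.exists_form a
      · exact (h.x_mem_part hd).2 (dvd_trans ⟨2 * 2 ^ m, by push_cast; ring⟩ ((h.x_sq_eq_one_iff i).1 ha2))
      · exact (h.xy_mem_part hd).2 (by simpa using (h.xy_sq_eq_one_iff i).1 ha2)
    · have hgen : ∀ i : ℤ, 2 ∣ i → x ^ i * y ∈ Subgroup.closure {a : S | orderOf a = 2} := by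
        intro i hi
        haveI : Fact (Nat.Prime 2) := ⟨Nat.prime_two⟩
        exact Subgroup.subset_closure (orderOf_eq_prime_iff.2
          ⟨(h.xy_sq_eq_one_iff i).2 hi, fun e => h.xy_ne i 0 (by rw [e, zpow_zero])⟩)
      rintro g ⟨i, ⟨rfl, hi⟩ | ⟨rfl, hi⟩⟩
      · have := mul_mem (hgen i (by exact_mod_cast hi)) (hgen 0 (dvd_zero _))
        rwa [h.xy_mul_xy, mul_zero, add_zero] at this
      · exact hgen i (by simpa using hi)
  refine ⟨h.commutator_eq.trans h.frattini_eq.symm, h.commutator_eq ▸ inferInstance, ?_, h.card_center,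
    hΩ ▸ ?_⟩
  · rw [h.commutator_eq, Nat.card_zpowers, hord, show m + 3 - 1 = m + 2 by omega]; ring
  · have ha0 : x ^ (2 : ℕ) ∈ h.part 2 hd 0 := by
      rw [← zpow_natCast]; exact (h.x_mem_part hd).2 dvd_rfl
    refine PGroup.dihedralEquivOfRel (a := ⟨_, ha0⟩) (b := ⟨_, hy0⟩)
      (by rw [Subgroup.orderOf_mk, hord, show m + 3 - 1 = m + 2 by omega]; ring) ?_ ?_ ?_ ?_
    · rintro ⟨i, hi⟩
      obtain ⟨j, hj, -⟩ := (h.zpowers_sq_eq (x ^ (0 : ℤ) * y)).1 ⟨i, by simpa using congrArg Subtype.val hi⟩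
      exact h.xy_ne _ _ hj
    · apply Subtype.ext
      show (x ^ (0 : ℤ) * y) ^ 2 = 1
      exact (h.xy_sq_eq_one_iff 0).2 (dvd_zero _)
    · apply Subtype.ext
      show x ^ (0 : ℤ) * y * x ^ (2 : ℕ) * (x ^ (0 : ℤ) * y)⁻¹ = (x ^ (2 : ℕ))⁻¹
      rw [← zpow_natCast, h.conj_x_by_xy, ← zpow_neg, h.zpow_eq_iff]
      exact ⟨1, by push_cast; ring⟩
    · rw [h.card_part, show m + 3 - 1 = m + 2 by omega, pow_add]; omega

end Cfsg.Agent.S1193
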