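import Cfsg.Statements.S1194
import Cfsg.Agent.Lib.TwoGroups.QuasiDihedralSub

set_option autoImplicit false
open Cfsg

namespace Cfsg.Agent.S1194

/-- In a quasi-dihedral 2-group S, every proper normal subgroup is either a maximal subgroup or a cyclic subgroup contained in the derived subgroup S'. -/
theorem result {S : Type*} [Group S] [Finite S] (hS : Cfsg.IsQuasiDihedral S) (N : Subgroup S) [N.Normal] (hN : N ≠ ⊤) : IsCoatom N ∨ (IsCyclic N ∧ N ≤ commutator S) := by
  obtain ⟨x, y, m, h⟩ := TwoGroups.exists_qdGen hS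
  have hN' : N.Normal := inferInstance
  have hd := TwoGroups.QDGen.dvd_two m
  by_cases hle : N ≤ Subgroup.zpowers x
  · by_cases hle2 : N ≤ Subgroup.zpowers (x ^ (2 : ℕ))
    · exact Or.inr ⟨Subgroup.isCyclic_of_le hle2, h.commutator_eq ▸ hle2⟩
    · obtain ⟨g, hg, hg2⟩ := SetLike.not_le_iff_exists.1 hle2
      obtain ⟨i, rfl⟩ := hle hg
      have hodd : ¬ 2 ∣ i := fun hi => hg2 ((h.zpowers_sq_eq _).2 ⟨i, rfl, hi⟩)
      left
      suffices N = Subgroup.zpowers x from
        this ▸ TwoGroups.QDGen.isCoatom_of_index_two _ h.index_zpowers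
      refine le_antisymm hle (Subgroup.zpowers_le.2 ?_)
      obtain ⟨a, b, hab⟩ : IsCoprime i ((8 : ℤ) * 2 ^ m) := by
        rw [show (8 : ℤ) * 2 ^ m = 2 ^ (m + 3) by ring]
        exact ((Prime.coprime_iff_not_dvd Int.prime_two).2 hodd).symm.pow_right
      have := N.zpow_mem hg a
      rwa [← zpow_mul, show x ^ (i * a) = x from
        (((h.zpow_eq_iff _ 1).2 ⟨-b, by linear_combination hab⟩).trans (zpow_one x))] at this
  · obtain ⟨g, hg, hgx⟩ := SetLike.not_le_iff_exists.1 hle
    obtain ⟨i, rfl | rfl⟩ := h.exists_form g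
    · exact absurd ⟨i, rfl⟩ hgx
    left
    have hsub : h.part 2 hd i ≤ N := by
      have hconj : ∀ i' : ℤ, 2 ∣ i' - i → x ^ i' * y ∈ N := fun i' hi' => by
        obtain ⟨j, hj⟩ := h.exists_conj hi'
        exact hj ▸ hN'.conj_mem _ hg _
      rintro a ⟨j, ⟨rfl, hj⟩ | ⟨rfl, hj⟩⟩
      · have := mul_mem (hconj (i + j) (by simpa using hj)) (inv_mem hg)
        rw [mul_inv_rev, h.y_inv, mul_assoc, ← mul_assoc y, h.y_mul_self, one_mul, ← zpow_neg,
          TwoGroups.QDGen.x_mul_x] at this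
        simpa using this
      · exact hconj j (by simpa using hj)
    exact ((TwoGroups.QDGen.isCoatom_of_index_two _ (h.index_part_two i)).le_iff_eq hN).1 hsub ▸
      TwoGroups.QDGen.isCoatom_of_index_two _ (h.index_part_two i)

end Cfsg.Agent.S1194
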