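import Cfsg.Statements.S1195
import Cfsg.Agent.Lib.TwoGroups.Wreathed

set_option autoImplicit false
open Cfsg

namespace Cfsg.Agent.S1195

open Cfsg.Agent.TwoGroups Cfsg.Agent.TwoGroups.WRGen

theorem card_classes_eq_three {S : Type*} [Group S] (P : S → Prop) (a b c : S) (hab : ¬ IsConj a b)
    (hac : ¬ IsConj a c) (hbc : ¬ IsConj b c) (ha : P a) (hb : P b) (hc : P c)
    (hall : ∀ t, P t → IsConj t a ∨ IsConj t b ∨ IsConj t c) :
    Nat.card {C : ConjClasses S // ∃ t : S, P t ∧ ConjClasses.mk t = C} = 3 := by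
  have hset : {C : ConjClasses S | ∃ t : S, P t ∧ ConjClasses.mk t = C} =
      {ConjClasses.mk a, ConjClasses.mk b, ConjClasses.mk c} := by
    ext C
    constructor
    · rintro ⟨t, ht, rfl⟩
      rcases hall t ht with h | h | h
      · exact Or.inl (ConjClasses.mk_eq_mk_iff_isConj.2 h)
      · exact Or.inr (Or.inl (ConjClasses.mk_eq_mk_iff_isConj.2 h))
      · exact Or.inr (Or.inr (ConjClasses.mk_eq_mk_iff_isConj.2 h))
    · rintro (rfl | rfl | rfl)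
      exacts [⟨a, ha, rfl⟩, ⟨b, hb, rfl⟩, ⟨c, hc, rfl⟩]
  rw [show {C : ConjClasses S // ∃ t : S, P t ∧ ConjClasses.mk t = C} =
    ↥{C : ConjClasses S | ∃ t : S, P t ∧ ConjClasses.mk t = C} from rfl, Nat.card_coe_set_eq, hset,
    Set.ncard_eq_three]
  exact ⟨_, _, _, fun e => hab (ConjClasses.mk_eq_mk_iff_isConj.1 e),
    fun e => hac (ConjClasses.mk_eq_mk_iff_isConj.1 e),
    fun e => hbc (ConjClasses.mk_eq_mk_iff_isConj.1 e), rfl⟩


/-- A wreathed 2-group has exactly three conjugacy classes of elements of order 2. -/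
theorem result {S : Type*} [Group S] [Finite S] (hS : Cfsg.IsWreathed S) : Nat.card {C : ConjClasses S // ∃ t : S, orderOf t = 2 ∧ ConjClasses.mk t = C} = 3 := by
  obtain ⟨x, y, z, n, h⟩ := exists_wrGen hS
  obtain ⟨m, rfl⟩ : ∃ m, n = m + 1 := ⟨n - 1, by have := h.two_le; omega⟩
  have hN : (2 : ℤ) ^ (m + 1) = 2 * 2 ^ m := by ring
  have hpos : (0 : ℤ) < 2 ^ m := by positivity
  have nd : ¬ (2 : ℤ) ^ (m + 1) ∣ 2 ^ m := fun e => by
    have := Int.le_of_dvd hpos e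
    omega
  have ord2 : ∀ g : S, orderOf g = 2 ↔ g ^ 2 = 1 ∧ g ≠ 1 := fun g => by
    haveI : Fact (Nat.Prime 2) := ⟨Nat.prime_two⟩
    exact orderOf_eq_prime_iff
  refine card_classes_eq_three (fun t => orderOf t = 2) (pr x y (2 ^ m) 0) (pr x y (2 ^ m) (2 ^ m))
    (pr x y 0 0 * z) ?_ ?_ ?_ ?_ ?_ ?_ ?_
  · rw [isConj_iff]
    rintro ⟨g, hg⟩
    obtain ⟨i, j, rfl | rfl⟩ := h.exists_form g
    · rw [h.conj_pr_by_pr, h.pr_eq_iff] at hg
      exact nd (by simpa using hg.2.neg_right)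
    · rw [h.conj_pr_by_prz, h.pr_eq_iff] at hg
      exact nd (by simpa using hg.1.neg_right)
  · rw [isConj_iff]
    rintro ⟨g, hg⟩
    obtain ⟨i, j, rfl | rfl⟩ := h.exists_form g
    · rw [h.conj_pr_by_pr] at hg; exact h.prz_ne _ _ _ _ hg.symm
    · rw [h.conj_pr_by_prz] at hg; exact h.prz_ne _ _ _ _ hg.symm
  · rw [isConj_iff]
    rintro ⟨g, hg⟩
    obtain ⟨i, j, rfl | rfl⟩ := h.exists_form g
    · rw [h.conj_pr_by_pr] at hg; exact h.prz_ne _ _ _ _ hg.symm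
    · rw [h.conj_pr_by_prz] at hg; exact h.prz_ne _ _ _ _ hg.symm
  · refine (ord2 _).2 ⟨(h.pr_sq_eq_one_iff _ _).2 ⟨dvd_rfl, dvd_zero _⟩, fun e => ?_⟩
    exact nd ((h.pr_eq_one_iff _ _).1 e).1
  · refine (ord2 _).2 ⟨(h.pr_sq_eq_one_iff _ _).2 ⟨dvd_rfl, dvd_rfl⟩, fun e => ?_⟩
    exact nd ((h.pr_eq_one_iff _ _).1 e).1
  · exact (ord2 _).2 ⟨(h.prz_sq_eq_one_iff _ _).2 (by simp),
      fun e => h.prz_ne 0 0 0 0 (by rw [e]; simp [pr])⟩
  · intro t ht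
    obtain ⟨hsq, ht1⟩ := (ord2 t).1 ht
    obtain ⟨i, j, rfl | rfl⟩ := h.exists_form t
    · obtain ⟨⟨a, ha⟩, ⟨b, hb⟩⟩ := (h.pr_sq_eq_one_iff i j).1 hsq
      rw [Nat.add_sub_cancel] at ha hb
      subst ha hb
      rcases Int.even_or_odd a with ⟨a, rfl⟩ | ⟨a, rfl⟩ <;>
        rcases Int.even_or_odd b with ⟨b, rfl⟩ | ⟨b, rfl⟩
      · exact absurd ((h.pr_eq_one_iff _ _).2 ⟨⟨a, by ring⟩, ⟨b, by ring⟩⟩) ht1
      · refine Or.inl (isConj_iff.2 ⟨pr x y 0 0 * z, ?_⟩)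
        rw [h.conj_pr_by_prz, h.pr_eq_iff]
        exact ⟨⟨b, by ring⟩, ⟨a, by ring⟩⟩
      · refine Or.inl (isConj_iff.2 ⟨1, ?_⟩)
        rw [one_mul, inv_one, mul_one, h.pr_eq_iff]
        exact ⟨⟨a, by ring⟩, ⟨b, by ring⟩⟩
      · refine Or.inr (Or.inl (isConj_iff.2 ⟨1, ?_⟩))
        rw [one_mul, inv_one, mul_one, h.pr_eq_iff]
        exact ⟨⟨a, by ring⟩, ⟨b, by ring⟩⟩
    · refine Or.inr (Or.inr (isConj_iff.2 ⟨pr x y (-i) 0, ?_⟩))
      obtain ⟨c, hc⟩ := (h.prz_sq_eq_one_iff i j).1 hsq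
      rw [h.conj_prz_by_pr, h.prz_eq_iff]
      exact ⟨⟨0, by ring⟩, ⟨c, by rw [← hc]; ring⟩⟩

end Cfsg.Agent.S1195
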