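import Cfsg.Statements.S1197
import Cfsg.Agent.Lib.TwoGroups.Wreathed

set_option autoImplicit false
open Cfsg

namespace Cfsg.Agent.S1197

open Cfsg.Agent.TwoGroups Cfsg.Agent.TwoGroups.WRGen
open scoped commutatorElement

theorem pr_diag_zpow {S : Type*} [Group S] {x y : S} (hc : Commute x y) (a b c : ℤ) :
    pr x y a b ^ c = pr x y (a * c) (b * c) := by
  simp only [pr, zpow_mul]
  exact ((hc.zpow_left a).zpow_right b).mul_zpow c


/-- Let S be a wreathed 2-group of order 2^(2n+1). Then Z(S) is cyclic of order 2^n, the derived subgroup S' is cyclic of order 2^n, and S/Z(S) is isomorphic to the dihedral group of order 2^(n+1). -/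
theorem result {S : Type*} [Group S] [Finite S] (hS : Cfsg.IsWreathed S) (n : ℕ) (hn : Nat.card S = 2 ^ (2 * n + 1)) : IsCyclic (Subgroup.center S) ∧ Nat.card (Subgroup.center S) = 2 ^ n ∧ IsCyclic (commutator S) ∧ Nat.card (commutator S) = 2 ^ n ∧ Nonempty (S ⧸ Subgroup.center S ≃* DihedralGroup (2 ^ n)) := by
  obtain ⟨x, y, z, h⟩ := exists_wrGen_of_card hS hn
  have hN2 : (2 : ℤ) ^ n ≠ 0 := by positivity
  have hord : ∀ a b : ℤ, (∀ c : ℤ, ((2 : ℤ) ^ n ∣ a * c ∧ (2 : ℤ) ^ n ∣ b * c) ↔ (2 : ℤ) ^ n ∣ c) →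
      orderOf (pr x y a b) = 2 ^ n := by
    intro a b hab
    apply Nat.dvd_antisymm
    · rw [← Int.natCast_dvd_natCast, orderOf_dvd_iff_zpow_eq_one, pr_diag_zpow h.comm, h.pr_eq_one_iff, hab]
      push_cast
      exact dvd_rfl
    · rw [← Int.natCast_dvd_natCast]
      push_cast
      rw [← hab, ← h.pr_eq_one_iff, ← pr_diag_zpow h.comm, zpow_natCast, pow_orderOf_eq_one]
  have hz1 : orderOf (pr x y 1 1) = 2 ^ n := hord 1 1 fun c => by simp
  have hd1 : orderOf (pr x y 1 (-1)) = 2 ^ n := hord 1 (-1) fun c => by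
    simp
  have hD : commutator S = Subgroup.zpowers (pr x y 1 (-1)) := by
    apply le_antisymm
    · rw [commutator_def, Subgroup.commutator_le]
      intro a _ b _
      have key : ∀ i j : ℤ, (2 : ℤ) ^ n ∣ i + j → pr x y i j ∈ Subgroup.zpowers (pr x y 1 (-1)) := by
        intro i j hij
        refine ⟨i, ?_⟩
        show pr x y 1 (-1) ^ i = pr x y i j
        rw [pr_diag_zpow h.comm, h.pr_eq_iff]
        exact ⟨⟨0, by ring⟩, by rw [show -1 * i - j = -(i + j) by ring]; exact hij.neg_right⟩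
      rw [commutatorElement_def]
      obtain ⟨i, j, rfl | rfl⟩ := h.exists_form a <;> obtain ⟨k, l, rfl | rfl⟩ := h.exists_form b
      · rw [h.conj_pr_by_pr, mul_inv_cancel]; exact one_mem _
      · rw [h.conj_prz_by_pr, h.prz_inv, h.prz_mul_prz]
        exact key _ _ (by ring_nf; exact dvd_zero _)
      · rw [h.conj_pr_by_prz, h.pr_inv, h.pr_mul]
        exact key _ _ (by ring_nf; exact dvd_zero _)
      · rw [h.conj_prz_by_prz, h.prz_inv, h.prz_mul_prz]
        exact key _ _ (by ring_nf; exact dvd_zero _)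
    · rw [Subgroup.zpowers_le]
      have hmem : ⁅pr x y 1 0, pr x y 0 0 * z⁆ ∈ commutator S :=
        Subgroup.commutator_mem_commutator (Subgroup.mem_top _) (Subgroup.mem_top _)
      rwa [commutatorElement_def, h.conj_prz_by_pr, h.prz_inv, h.prz_mul_prz, show
        pr x y (1 + 0 - 0 + -0) (0 + 0 - 1 + -0) = pr x y 1 (-1) by norm_num] at hmem
  refine ⟨?_, ?_, hD ▸ inferInstance, by rw [hD, Nat.card_zpowers, hd1], ?_⟩
  · rw [h.center_eq]; infer_instance
  · rw [h.center_eq, Nat.card_zpowers, hz1]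
  have hcZ : Nat.card (Subgroup.center S) = 2 ^ n := by rw [h.center_eq, Nat.card_zpowers, hz1]
  have hcQ : Nat.card (S ⧸ (Subgroup.center S)) = 2 * 2 ^ n := by
    have := (Subgroup.center S).card_mul_index
    rw [Subgroup.index_eq_card, hcZ, h.card] at this
    exact Nat.eq_of_mul_eq_mul_left (show 0 < 2 ^ n by positivity) (by linarith)
  have hqa : ∀ c : ℤ, (QuotientGroup.mk x : S ⧸ (Subgroup.center S)) ^ c = 1 ↔ (2 : ℤ) ^ n ∣ c := fun c => by
    rw [← QuotientGroup.mk_zpow, QuotientGroup.eq_one_iff, show x ^ c = pr x y c 0 by simp [pr],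
      h.pr_mem_center_iff, sub_zero]
  refine PGroup.dihedralEquivOfRel (a := (QuotientGroup.mk x : S ⧸ (Subgroup.center S)))
    (b := (QuotientGroup.mk z : S ⧸ (Subgroup.center S))) ?_ ?_ ?_ ?_ hcQ
  · apply Nat.dvd_antisymm
    · rw [← Int.natCast_dvd_natCast, orderOf_dvd_iff_zpow_eq_one, hqa]
      push_cast
      exact dvd_rfl
    · rw [← Int.natCast_dvd_natCast]
      push_cast
      rw [← hqa, zpow_natCast, pow_orderOf_eq_one]
  · rintro ⟨c, hc⟩
    simp only at hc
    rw [← QuotientGroup.mk_zpow, QuotientGroup.eq, show (x ^ c)⁻¹ * z = pr x y (-c) 0 * z by simp [pr]] at hc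
    exact h.prz_not_mem_center _ _ hc
  · rw [← QuotientGroup.mk_pow, pow_two, h.z_mul_self, QuotientGroup.mk_one]
  · rw [← QuotientGroup.mk_inv, ← QuotientGroup.mk_mul, ← QuotientGroup.mk_mul, ← QuotientGroup.mk_inv,
      QuotientGroup.eq, h.conj, show y⁻¹ * x⁻¹ = pr x y (-1) (-1) by
        rw [pr, zpow_neg_one, zpow_neg_one, ← mul_inv_rev, h.comm.eq, mul_inv_rev]]
    rw [h.pr_mem_center_iff]; simp

end Cfsg.Agent.S1197
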