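import Cfsg.Statements.S1198
import Cfsg.Agent.Lib.TwoGroups.Wreathed

set_option autoImplicit false
open Cfsg

namespace Cfsg.Agent.S1198

open Cfsg.Agent.TwoGroups Cfsg.Agent.TwoGroups.WRGen

/-- The four-group on two commuting involutions. -/
def fourSub {S : Type*} [Group S] (a b : S) (ha : a * a = 1) (hb : b * b = 1) (hab : a * b = b * a) :
    Subgroup S where
  carrier := {g | g = 1 ∨ g = a ∨ g = b ∨ g = a * b}
  one_mem' := Or.inl rfl
  mul_mem' {u v} hu hv := by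
    have e1 : a * (a * b) = b := by rw [← mul_assoc, ha, one_mul]
    have e2 : b * (a * b) = a := by rw [hab, ← mul_assoc, hb, one_mul]
    have e3 : a * b * a = b := by rw [hab, mul_assoc, ha, mul_one]
    have e4 : a * b * b = a := by rw [mul_assoc, hb, mul_one]
    have e5 : a * b * (a * b) = 1 := by rw [← mul_assoc, e3, hb]
    rcases hu with rfl | rfl | rfl | rfl <;> rcases hv with rfl | rfl | rfl | rfl <;>
      simp [ha, hb, e1, e2, e3, e4, e5, ← hab, Set.mem_setOf_eq]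
  inv_mem' {u} hu := by
    rcases hu with rfl | rfl | rfl | rfl
    · exact Or.inl inv_one
    · exact Or.inr (Or.inl (inv_eq_of_mul_eq_one_right ha))
    · exact Or.inr (Or.inr (Or.inl (inv_eq_of_mul_eq_one_right hb)))
    · exact Or.inr (Or.inr (Or.inr (by
        rw [mul_inv_rev, inv_eq_of_mul_eq_one_right ha, inv_eq_of_mul_eq_one_right hb, hab])))

theorem isKleinFour_fourSub {S : Type*} [Group S] (a b : S) (ha : a * a = 1) (hb : b * b = 1)
    (hab : a * b = b * a) (ha1 : a ≠ 1) (hb1 : b ≠ 1) (hne : a ≠ b) :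
    IsKleinFour (fourSub a b ha hb hab) := by
  have hab1 : a * b ≠ 1 := fun e => hne (by
    rw [← inv_eq_of_mul_eq_one_right ha, inv_eq_of_mul_eq_one_right e])
  refine ⟨?_, ?_⟩
  · rw [← SetLike.coe_sort_coe, Nat.card_coe_set_eq,
      show ((fourSub a b ha hb hab : Subgroup S) : Set S) = {1, a, b, a * b} from rfl,
      Set.ncard_insert_of_notMem, Set.ncard_insert_of_notMem, Set.ncard_pair]
    · intro e; exact ha1 (mul_eq_right.1 e.symm)
    · simp only [Set.mem_insert_iff, Set.mem_singleton_iff, not_or]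
      exact ⟨hne, fun e => hb1 (mul_eq_left.1 e.symm)⟩
    · simp only [Set.mem_insert_iff, Set.mem_singleton_iff, not_or]
      exact ⟨Ne.symm ha1, Ne.symm hb1, Ne.symm hab1⟩
  · have h2 : Monoid.exponent (fourSub a b ha hb hab) ∣ 2 := by
      rw [Monoid.exponent_dvd_iff_forall_pow_eq_one]
      rintro ⟨g, hg⟩
      apply Subtype.ext
      show g ^ 2 = 1
      rw [pow_two]
      rcases hg with rfl | rfl | rfl | rfl
      · exact mul_one 1
      · exact ha
      · exact hb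
      · rw [mul_assoc, ← mul_assoc b, ← hab, mul_assoc a b b, hb, mul_one, ha]
    rcases (Nat.dvd_prime Nat.prime_two).1 h2 with h | h
    · exact absurd (congrArg Subtype.val
        (Monoid.exp_eq_one_iff.1 h |>.elim (⟨a, Or.inr (Or.inl rfl)⟩ : fourSub a b ha hb hab) 1)) ha1
    · exact h


/-- A wreathed 2-group S has a normal Klein four-subgroup T such that every Klein four-subgroup of S other than T is conjugate in S to any other such subgroup; in particular S has exactly two conjugacy classes of Klein four-subgroups. -/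
theorem result {S : Type*} [Group S] [Finite S] (hS : Cfsg.IsWreathed S) : ∃ T : Subgroup S, IsKleinFour T ∧ T.Normal ∧ (∃ T₀ : Subgroup S, IsKleinFour T₀ ∧ T₀ ≠ T) ∧ ∀ T₁ T₂ : Subgroup S, IsKleinFour T₁ → IsKleinFour T₂ → T₁ ≠ T → T₂ ≠ T → ∃ s : S, T₁.map (MulAut.conj s).toMonoidHom = T₂ := by
  obtain ⟨x, y, z, n, h⟩ := exists_wrGen hS
  obtain ⟨m, rfl⟩ : ∃ m, n = m + 1 := ⟨n - 1, by have := h.two_le; omega⟩
  have hpos : (0 : ℤ) < 2 ^ m := by positivity
  have nd : ¬ (2 : ℤ) ^ (m + 1) ∣ 2 ^ m := fun e => by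
    have := Int.le_of_dvd hpos e
    rw [pow_succ] at this
    omega
  set a := pr x y (2 ^ m) 0 with ha'
  set b := pr x y 0 (2 ^ m) with hb'
  set c := pr x y (2 ^ m) (2 ^ m) with hc'
  have sq : ∀ {g : S}, g ^ 2 = 1 → g * g = 1 := fun hg => by rwa [pow_two] at hg
  have ha : a * a = 1 := sq ((h.pr_sq_eq_one_iff _ _).2 ⟨dvd_rfl, dvd_zero _⟩)
  have hb : b * b = 1 := sq ((h.pr_sq_eq_one_iff _ _).2 ⟨dvd_zero _, dvd_rfl⟩)
  have hcc : c * c = 1 := sq ((h.pr_sq_eq_one_iff _ _).2 ⟨dvd_rfl, dvd_rfl⟩)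
  have hz : z * z = 1 := h.z_mul_self
  have hz' : z = pr x y 0 0 * z := by simp [pr]
  have hcz : c * z = z * c := by rw [hc', h.z_mul_pr]
  set T := fourSub a b ha hb (h.pr_comm _ _ _ _) with hT
  have hmem : ∀ i j : ℤ, (2 : ℤ) ^ m ∣ i → (2 : ℤ) ^ m ∣ j → pr x y i j ∈ T := by
    rintro i j ⟨u, rfl⟩ ⟨v, rfl⟩
    rcases Int.even_or_odd u with ⟨u, rfl⟩ | ⟨u, rfl⟩ <;>
      rcases Int.even_or_odd v with ⟨v, rfl⟩ | ⟨v, rfl⟩
    · exact Or.inl ((h.pr_eq_one_iff _ _).2 ⟨⟨u, by ring⟩, ⟨v, by ring⟩⟩)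
    · exact Or.inr (Or.inr (Or.inl ((h.pr_eq_iff _ _ _ _).2 ⟨⟨u, by ring⟩, ⟨v, by ring⟩⟩)))
    · exact Or.inr (Or.inl ((h.pr_eq_iff _ _ _ _).2 ⟨⟨u, by ring⟩, ⟨v, by ring⟩⟩))
    · refine Or.inr (Or.inr (Or.inr ?_))
      rw [ha', hb', h.pr_mul, h.pr_eq_iff]
      exact ⟨⟨u, by ring⟩, ⟨v, by ring⟩⟩
  have ha1 : a ≠ 1 := fun e => nd ((h.pr_eq_one_iff _ _).1 e).1
  have hb1 : b ≠ 1 := fun e => nd ((h.pr_eq_one_iff _ _).1 e).2
  have hc1 : c ≠ 1 := fun e => nd ((h.pr_eq_one_iff _ _).1 e).1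
  have hz1 : z ≠ 1 := fun e => h.not_pr_z 0 0 (by rw [e]; simp [pr])
  have hTk : IsKleinFour T := isKleinFour_fourSub a b ha hb _ ha1 hb1 (fun e => by
    have := ((h.pr_eq_iff _ _ _ _).1 e).1
    rw [sub_zero] at this
    exact nd this)
  have hTn : T.Normal := by
    refine ⟨fun g hg s => ?_⟩
    obtain ⟨i, j, rfl, hi, hj⟩ : ∃ i j : ℤ, g = pr x y i j ∧ (2 : ℤ) ^ m ∣ i ∧ (2 : ℤ) ^ m ∣ j := by
      rcases hg with rfl | rfl | rfl | rfl
      · exact ⟨0, 0, by simp [pr], dvd_zero _, dvd_zero _⟩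
      · exact ⟨_, _, rfl, dvd_rfl, dvd_zero _⟩
      · exact ⟨_, _, rfl, dvd_zero _, dvd_rfl⟩
      · exact ⟨_, _, h.pr_mul _ _ _ _, by simp, by simp⟩
    obtain ⟨k, l, rfl | rfl⟩ := h.exists_form s
    · rw [h.conj_pr_by_pr]; exact hmem _ _ hi hj
    · rw [h.conj_pr_by_prz]; exact hmem _ _ hj hi
  refine ⟨T, hTk, hTn, ⟨fourSub c z hcc hz hcz, isKleinFour_fourSub c z hcc hz hcz hc1 hz1
    (h.not_pr_z _ _), fun e => ?_⟩, ?_⟩
  · have hzT : z ∈ T := e ▸ (Or.inr (Or.inr (Or.inl rfl)) : z ∈ fourSub c z hcc hz hcz)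
    rcases hzT with h0 | h0 | h0 | h0
    · exact hz1 h0
    · exact h.not_pr_z _ _ h0.symm
    · exact h.not_pr_z _ _ h0.symm
    · rw [ha', hb', h.pr_mul] at h0; exact h.not_pr_z _ _ h0.symm
  have struct : ∀ T' : Subgroup S, IsKleinFour T' → T' ≠ T → ∃ i j : ℤ, (2 : ℤ) ^ (m + 1) ∣ i + j ∧
      pr x y i j * z ∈ T' ∧
      ∀ g ∈ T', g = 1 ∨ g = c ∨ g = pr x y i j * z ∨ g = c * (pr x y i j * z) := by
    intro T' hT' hne
    have h2 : ∀ g ∈ T', g ^ 2 = 1 := by
      intro g hg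
      have := Monoid.pow_exponent_eq_one (⟨g, hg⟩ : T')
      rw [IsKleinFour.exponent_two] at this
      exact congrArg Subtype.val this
    have hcomm : ∀ u ∈ T', ∀ v ∈ T', u * v = v * u := fun u hu v hv => by
      have e1 := inv_eq_of_mul_eq_one_right (sq (h2 u hu))
      have e2 := inv_eq_of_mul_eq_one_right (sq (h2 v hv))
      have e3 := inv_eq_of_mul_eq_one_right (sq (h2 _ (mul_mem hu hv)))
      rw [← e3, mul_inv_rev, e1, e2]
    by_cases hall : ∀ i j : ℤ, pr x y i j * z ∉ T'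
    · refine absurd (Subgroup.eq_of_le_of_card_ge (fun g hg => ?_)
        (by rw [hT'.card_four, hTk.card_four])) hne
      obtain ⟨i, j, rfl | rfl⟩ := h.exists_form g
      · obtain ⟨h3, h4⟩ := (h.pr_sq_eq_one_iff i j).1 (h2 _ hg)
        exact hmem i j (by simpa using h3) (by simpa using h4)
      · exact absurd hg (hall i j)
    push Not at hall
    obtain ⟨i, j, hij⟩ := hall
    have key : ∀ k l : ℤ, pr x y k l ∈ T' → pr x y k l = 1 ∨ pr x y k l = c := by
      intro k l hkl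
      have h5 := (h.commute_prz_iff i j k l).1 (hcomm _ hkl _ hij)
      obtain ⟨⟨u, hu⟩, -⟩ := (h.pr_sq_eq_one_iff k l).1 (h2 _ hkl)
      rw [Nat.add_sub_cancel] at hu
      subst hu
      obtain ⟨v, hv⟩ := h5
      obtain rfl : l = 2 ^ m * u - 2 ^ (m + 1) * v := by linarith
      rcases Int.even_or_odd u with ⟨u, rfl⟩ | ⟨u, rfl⟩
      · exact Or.inl ((h.pr_eq_one_iff _ _).2 ⟨⟨u, by ring⟩, ⟨u - v, by ring⟩⟩)
      · exact Or.inr ((h.pr_eq_iff _ _ _ _).2 ⟨⟨u, by ring⟩, ⟨u - v, by ring⟩⟩)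
    refine ⟨i, j, (h.prz_sq_eq_one_iff i j).1 (h2 _ hij), hij, fun g hg => ?_⟩
    have hinv : (pr x y i j * z)⁻¹ = pr x y i j * z := inv_eq_of_mul_eq_one_right (sq (h2 _ hij))
    obtain ⟨k, l, rfl | rfl⟩ := h.exists_form g
    · rcases key k l hg with e | e
      · exact Or.inl e
      · exact Or.inr (Or.inl e)
    · have hp := mul_mem hg hij
      rw [h.prz_mul_prz] at hp
      rcases key _ _ hp with e | e <;> rw [← h.prz_mul_prz] at e
      · exact Or.inr (Or.inr (Or.inl ((eq_inv_of_mul_eq_one_left e).trans hinv)))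
      · exact Or.inr (Or.inr (Or.inr (by
          conv_rhs => rw [← hinv]
          rw [eq_mul_inv_iff_mul_eq, e])))
  intro T₁ T₂ h₁ h₂ n₁ n₂
  obtain ⟨i, j, hij, g₁, hall₁⟩ := struct T₁ h₁ n₁
  obtain ⟨k, l, hkl, g₂, hall₂⟩ := struct T₂ h₂ n₂
  refine ⟨pr x y (k - i) 0, ?_⟩
  have hcon : pr x y (k - i) 0 * (pr x y i j * z) * (pr x y (k - i) 0)⁻¹ = pr x y k l * z := by
    rw [h.conj_prz_by_pr, h.prz_eq_iff]
    refine ⟨⟨0, by ring⟩, ?_⟩
    rw [show 0 + j - (k - i) - l = (i + j) - (k + l) by ring]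
    exact dvd_sub hij hkl
  refine Subgroup.eq_of_le_of_card_ge ?_ ?_
  · rintro _ ⟨g, hg, rfl⟩
    simp only [MulEquiv.coe_toMonoidHom, MulAut.conj_apply]
    have hc2 : c ∈ T₂ := by
      by_contra hc2
      have hsub : (T₂ : Set S) ⊆ {1, pr x y k l * z} := by
        intro g hg
        rcases hall₂ g hg with e | e | e | e
        · exact Or.inl e
        · exact absurd (e ▸ hg) hc2
        · exact Or.inr e
        · exact absurd (by
            have := mul_mem hg g₂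
            rwa [e, mul_assoc, sq ((h.prz_sq_eq_one_iff k l).2 hkl), mul_one] at this) hc2
      have h4 := Set.ncard_le_ncard hsub
      rw [← Nat.card_coe_set_eq, SetLike.coe_sort_coe, h₂.card_four] at h4
      have := Set.ncard_insert_le (1 : S) {pr x y k l * z}
      rw [Set.ncard_singleton] at this
      omega
    have hcc' : pr x y (k - i) 0 * c * (pr x y (k - i) 0)⁻¹ = c := h.conj_pr_by_pr _ _ _ _
    rcases hall₁ g hg with rfl | rfl | rfl | rfl
    · simp
    · rw [hcc']; exact hc2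
    · rw [hcon]; exact g₂
    · rw [← conj_mul, hcc', hcon]; exact mul_mem hc2 g₂
  · rw [Subgroup.card_map_of_injective (MulEquiv.injective _), h₁.card_four, h₂.card_four]

end Cfsg.Agent.S1198
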