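import Cfsg.Statements.S1199
import Cfsg.Agent.Lib.TwoGroups.Wreathed

set_option autoImplicit false
open Cfsg

namespace Cfsg.Agent.S1199

open Cfsg.Agent.TwoGroups Cfsg.Agent.TwoGroups.WRGen

theorem two_ne_zero' {M : ℕ} (hM : 2 ≤ M) : (2 : ZMod (2 * M)) ≠ 0 := by
  intro e
  have := (ZMod.natCast_eq_zero_iff 2 (2 * M)).1 (by exact_mod_cast e) |> Nat.le_of_dvd two_pos
  omega

theorem natCast_ne_zero' {M : ℕ} (hM : 2 ≤ M) : (M : ZMod (2 * M)) ≠ 0 := by
  intro e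
  have := Nat.le_of_dvd (by omega) ((ZMod.natCast_eq_zero_iff M (2 * M)).1 e)
  omega

theorem quat_involution {M : ℕ} (hM : 2 ≤ M) (g : QuaternionGroup M) (hg : g ^ 2 = 1) :
    g = 1 ∨ g = QuaternionGroup.xa 0 ^ 2 := by
  haveI : NeZero (2 * M) := ⟨by omega⟩
  rcases g with i | i
  · rw [pow_two, QuaternionGroup.a_mul_a, QuaternionGroup.one_def] at hg
    injection hg with hi
    rw [← ZMod.natCast_zmod_val i, ← Nat.cast_add, ZMod.natCast_eq_zero_iff] at hi
    obtain ⟨c, hc⟩ := hi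
    have hlt := ZMod.val_lt i
    have hc2 : c < 2 := by nlinarith
    interval_cases c
    · left
      rw [show i = 0 from (ZMod.val_eq_zero i).1 (by omega), QuaternionGroup.a_zero]
    · right
      rw [QuaternionGroup.xa_sq, ← ZMod.natCast_zmod_val i, show i.val = M by omega]
  · exfalso
    rw [QuaternionGroup.xa_sq, QuaternionGroup.one_def] at hg
    injection hg with hi
    exact natCast_ne_zero' hM hi

theorem quat_central {M : ℕ} (hM : 2 ≤ M) (g : QuaternionGroup M) (hg : ∀ k, k * g = g * k) :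
    g ^ 2 = 1 := by
  rcases g with i | i
  · have h1 := hg (QuaternionGroup.xa 0)
    rw [QuaternionGroup.xa_mul_a, QuaternionGroup.a_mul_xa] at h1
    injection h1 with hi
    rw [pow_two, QuaternionGroup.a_mul_a, ← QuaternionGroup.a_zero]
    congr 1
    linear_combination hi
  · exfalso
    have h1 := hg (QuaternionGroup.a 1)
    rw [QuaternionGroup.xa_mul_a, QuaternionGroup.a_mul_xa] at h1
    injection h1 with hi
    exact two_ne_zero' hM (by linear_combination -hi)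

theorem eq_ext {S : Type*} [Group S] [Finite S] {x y z : S} {m : ℕ} (h : WRGen x y z (m + 1))
    (hd : ((2 ^ (m + 1) : ℕ) : ℤ) ∣ 2 * 2 ^ m) (Y : Subgroup S) (hc : Nat.card Y = 2 ^ (m + 2))
    (e : Y ≃* QuaternionGroup (2 ^ m)) : Y = h.ext (2 ^ (m + 1)) (2 ^ m) hd := by
  have hM : 2 ≤ 2 ^ m := by
    calc 2 = 2 ^ 1 := rfl
      _ ≤ _ := Nat.pow_le_pow_right two_pos (by have := h.two_le; omega)
  have hcent : ∀ (i : ℤ), pr x y i i ∈ Y → (2 : ℤ) ^ m ∣ i := by
    intro i hi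
    have h1 := quat_central hM (e ⟨_, hi⟩) (fun k => by
      obtain ⟨⟨k, hk⟩, rfl⟩ := e.surjective k
      rw [← map_mul, ← map_mul]
      congr 1
      exact Subtype.ext (Subgroup.mem_center_iff.1 ((h.pr_mem_center_iff i i).2 (by simp)) k))
    rw [← map_pow, MulEquiv.map_eq_one_iff] at h1
    simpa using ((h.pr_sq_eq_one_iff i i).1 (congrArg Subtype.val h1)).1
  have hprz : ∀ i j : ℤ, pr x y i j * z ∈ Y → (2 : ℤ) ^ (m + 1) ∣ i + j - 2 ^ m := by
    intro i j hij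
    have hp := mul_mem hij hij
    rw [h.prz_mul_prz, add_comm j i] at hp
    obtain ⟨c, hc⟩ := hcent _ hp
    have hodd : ¬ 2 ∣ c := by
      rintro ⟨d, rfl⟩
      have hb2 : (pr x y i j * z) ^ 2 = 1 := (h.prz_sq_eq_one_iff i j).2 ⟨d, by rw [hc]; ring⟩
      rcases quat_involution hM (e ⟨_, hij⟩)
        (by rw [← map_pow, MulEquiv.map_eq_one_iff]; exact Subtype.ext hb2) with h1 | h1
      · rw [MulEquiv.map_eq_one_iff] at h1
        exact h.prz_ne i j 0 0 (by rw [show pr x y i j * z = 1 from congrArg Subtype.val h1]; simp [pr])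
      · obtain ⟨⟨w, hw⟩, hwe⟩ := e.surjective (QuaternionGroup.xa 0)
        rw [← hwe, ← map_pow, e.injective.eq_iff] at h1
        have h1' : pr x y i j * z = w ^ 2 := congrArg Subtype.val h1
        obtain ⟨k, l, rfl | rfl⟩ := h.exists_form w
        · rw [pow_two, h.pr_mul] at h1'; exact h.prz_ne _ _ _ _ h1'
        · rw [h.prz_sq] at h1'; exact h.prz_ne _ _ _ _ h1'
    obtain ⟨d, rfl⟩ : Odd c := Int.not_even_iff_odd.1 fun he => hodd (even_iff_two_dvd.1 he)
    exact ⟨d, by rw [hc]; ring⟩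
  obtain ⟨i, j, hij⟩ : ∃ i j : ℤ, pr x y i j * z ∈ Y := by
    by_contra hall
    push Not at hall
    have hcomm : ∀ u v : Y, u * v = v * u := by
      rintro ⟨u, hu⟩ ⟨v, hv⟩
      obtain ⟨k, l, rfl | rfl⟩ := h.exists_form u
      · obtain ⟨k', l', rfl | rfl⟩ := h.exists_form v
        · exact Subtype.ext (h.pr_comm _ _ _ _)
        · exact absurd hv (hall _ _)
      · exact absurd hu (hall _ _)
    have h1 := congrArg e (hcomm (e.symm (QuaternionGroup.xa 0)) (e.symm (QuaternionGroup.a 1)))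
    rw [map_mul, map_mul, MulEquiv.apply_symm_apply, MulEquiv.apply_symm_apply,
      QuaternionGroup.xa_mul_a, QuaternionGroup.a_mul_xa] at h1
    injection h1 with hi
    exact two_ne_zero' hM (by linear_combination hi)
  have hk : 2 ^ (m + 1) ∣ 2 ^ (m + 1) := dvd_rfl
  have hle : Y ≤ h.ext (2 ^ (m + 1)) (2 ^ m) hd := by
    intro g hg
    obtain ⟨k, l, rfl | rfl⟩ := h.exists_form g
    · have hp := mul_mem hg hij
      rw [h.pr_mul_prz] at hp
      rw [h.pr_mem_ext hk hd]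
      push_cast
      have := dvd_sub (hprz _ _ hp) (hprz _ _ hij)
      rwa [show k + i + (l + j) - (2 : ℤ) ^ m - (i + j - 2 ^ m) = k + l by ring] at this
    · rw [h.prz_mem_ext hk hd]
      push_cast
      exact hprz _ _ hg
  refine Subgroup.eq_of_le_of_card_ge hle (le_of_eq ?_)
  have h2 := h.card_ext hk hd
  rw [show (2 : ℕ) * (2 ^ (m + 1) * 2 ^ (m + 1)) = 2 ^ (m + 2) * 2 ^ (m + 1) by ring] at h2
  rw [hc, Nat.eq_of_mul_eq_mul_right (by positivity) h2]


/-- A wreathed 2-group S of order 2^(2n+1) has exactly one subgroup of order 2^(n+1) isomorphic to a generalized quaternion group, and that subgroup is normal in S. -/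
theorem result {S : Type*} [Group S] [Finite S] (hS : Cfsg.IsWreathed S) (n : ℕ) (hn : Nat.card S = 2 ^ (2 * n + 1)) : (∃! Y : Subgroup S, Nat.card Y = 2 ^ (n + 1) ∧ Nonempty (Y ≃* QuaternionGroup (2 ^ (n - 1)))) ∧ ∀ Y : Subgroup S, Nat.card Y = 2 ^ (n + 1) → Nonempty (Y ≃* QuaternionGroup (2 ^ (n - 1))) → Y.Normal := by
  obtain ⟨x, y, z, h⟩ := exists_wrGen_of_card hS hn
  obtain ⟨m, rfl⟩ : ∃ m, n = m + 1 := ⟨n - 1, by have := h.two_le; omega⟩
  rw [Nat.add_sub_cancel]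
  have hd : ((2 ^ (m + 1) : ℕ) : ℤ) ∣ 2 * 2 ^ m := ⟨1, by push_cast; ring⟩
  set Y₀ := h.ext (2 ^ (m + 1)) (2 ^ m) hd with hY₀
  have hk : 2 ^ (m + 1) ∣ 2 ^ (m + 1) := dvd_rfl
  have hc₀ : Nat.card Y₀ = 2 ^ (m + 2) := by
    have h2 := h.card_ext hk hd
    rw [show (2 : ℕ) * (2 ^ (m + 1) * 2 ^ (m + 1)) = 2 ^ (m + 2) * 2 ^ (m + 1) by ring] at h2
    exact Nat.eq_of_mul_eq_mul_right (by positivity) h2
  have hpow : ∀ c : ℤ, pr x y 1 (-1) ^ c = pr x y c (-c) := fun c => by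
    simp only [pr, zpow_one, h.comm.zpow_right (-1) |>.mul_zpow, ← zpow_mul, neg_one_mul]
  have ha : pr x y 1 (-1) ∈ Y₀ := (h.pr_mem_ext hk hd).2 (by simp)
  have hb : pr x y (2 ^ m) 0 * z ∈ Y₀ := (h.prz_mem_ext hk hd).2 (by simp)
  have hiso : Nonempty (Y₀ ≃* QuaternionGroup (2 ^ m)) := by
    have hord : orderOf (pr x y 1 (-1)) = 2 * 2 ^ m := by
      rw [← pow_succ']
      apply Nat.dvd_antisymm
      · rw [← Int.natCast_dvd_natCast, orderOf_dvd_iff_zpow_eq_one, hpow, h.pr_eq_one_iff]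
        push_cast
        exact ⟨dvd_rfl, (dvd_refl _).neg_right⟩
      · rw [← Int.natCast_dvd_natCast]
        push_cast
        refine ((h.pr_eq_one_iff _ (-((orderOf (pr x y 1 (-1)) : ℕ) : ℤ))).1 ?_).1
        rw [← hpow, zpow_natCast, pow_orderOf_eq_one]
    refine PGroup.quaternionEquivOfRel (a := ⟨_, ha⟩) (b := ⟨_, hb⟩)
      (by rw [Subgroup.orderOf_mk, hord]) ?_ ?_ ?_ (by rw [hc₀]; ring)
    · rintro ⟨c, hc⟩
      have hc' : pr x y 1 (-1) ^ c = pr x y (2 ^ m) 0 * z := by simpa using congrArg Subtype.val hc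
      rw [hpow] at hc'
      exact h.prz_ne _ _ _ _ hc'.symm
    · apply Subtype.ext
      show (pr x y (2 ^ m) 0 * z) ^ 2 = pr x y 1 (-1) ^ 2 ^ m
      rw [h.prz_sq, ← zpow_natCast, hpow, h.pr_eq_iff]
      push_cast
      exact ⟨⟨0, by ring⟩, ⟨1, by ring⟩⟩
    · apply Subtype.ext
      show pr x y (2 ^ m) 0 * z * pr x y 1 (-1) * (pr x y (2 ^ m) 0 * z)⁻¹ = (pr x y 1 (-1))⁻¹
      rw [h.conj_pr_by_prz, h.pr_inv]
      norm_num
  have huniq : ∀ Y : Subgroup S, Nat.card Y = 2 ^ (m + 2) → Nonempty (Y ≃* QuaternionGroup (2 ^ m)) →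
      Y = Y₀ := fun Y hc he => eq_ext h hd Y hc he.some
  refine ⟨⟨Y₀, ⟨hc₀, hiso⟩, fun Y hY => huniq Y hY.1 hY.2⟩, fun Y hc he => ?_⟩
  rw [huniq Y hc he]
  refine ⟨fun g hg s => ?_⟩
  have e := huniq (Y₀.map (MulAut.conj s).toMonoidHom)
    (by rw [Subgroup.card_map_of_injective (MulEquiv.injective _), hc₀])
    ⟨(Y₀.equivMapOfInjective _ (MulEquiv.injective (MulAut.conj s))).symm.trans hiso.some⟩
  rw [← e]
  exact ⟨g, hg, rfl⟩

end Cfsg.Agent.S1199
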