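import Cfsg.Statements.S1200
import Cfsg.Agent.Lib.TwoGroups.Wreathed

set_option autoImplicit false
open Cfsg

namespace Cfsg.Agent.S1200

open Cfsg.Agent.TwoGroups Cfsg.Agent.TwoGroups.WRGen


/-- Let S be a wreathed 2-group of order 2^(2n+1) and Ω the subgroup generated by its involutions. Then Ω has order 2^(n+2) and S/Ω is cyclic: some s ∈ S together with Ω generates S. -/
theorem result {S : Type*} [Group S] [Finite S] (hS : Cfsg.IsWreathed S) (n : ℕ) (hn : Nat.card S = 2 ^ (2 * n + 1)) : Nat.card (Subgroup.closure {x : S | orderOf x = 2}) = 2 ^ (n + 2) ∧ ∃ s : S, Subgroup.closure {x : S | orderOf x = 2} ⊔ Subgroup.zpowers s = ⊤ := by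
  obtain ⟨x, y, z, h⟩ := exists_wrGen_of_card hS hn
  obtain ⟨m, rfl⟩ : ∃ m, n = m + 1 := ⟨n - 1, by have := h.two_le; omega⟩
  have hd : ((2 ^ m : ℕ) : ℤ) ∣ 2 * 0 := by simp
  have hk : 2 ^ m ∣ 2 ^ (m + 1) := pow_dvd_pow 2 (Nat.le_succ m)
  haveI : Fact (Nat.Prime 2) := ⟨Nat.prime_two⟩
  set C := Subgroup.closure {x : S | orderOf x = 2}
  have hz : z ∈ C := Subgroup.subset_closure h.ordZ
  have hanti : ∀ i : ℤ, pr x y i (-i) * z ∈ C := fun i => Subgroup.subset_closure
    (orderOf_eq_prime_iff.2 ⟨(h.prz_sq_eq_one_iff _ _).2 (by simp),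
      fun e => h.prz_ne i (-i) 0 0 (by rw [e]; simp [pr])⟩)
  have hanti' : ∀ i : ℤ, pr x y i (-i) ∈ C := fun i => by
    have := mul_mem (hanti i) hz
    rwa [mul_assoc, h.z_mul_self, mul_one] at this
  have hpa : pr x y (2 ^ m) 0 ∈ C := by
    refine Subgroup.subset_closure (orderOf_eq_prime_iff.2
      ⟨(h.pr_sq_eq_one_iff _ _).2 ⟨by simp, dvd_zero _⟩, fun e => ?_⟩)
    have := Int.le_of_dvd (by positivity) ((h.pr_eq_one_iff _ _).1 e).1
    rw [pow_succ] at this
    have : (0 : ℤ) < 2 ^ m := by positivity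
    omega
  have hsup : ∀ i j : ℤ, pr x y i j = pr x y (i + j) 0 * pr x y (-j) j := fun i j => by
    rw [h.pr_mul]
    ring_nf
  have hxpow : ∀ u : ℤ, x ^ u = pr x y u 0 := fun u => by simp [pr]
  have hC : C = h.ext (2 ^ m) 0 hd := by
    apply le_antisymm
    · rw [Subgroup.closure_le]
      intro g hg
      have hg2 : g ^ 2 = 1 := (show orderOf g = 2 from hg) ▸ pow_orderOf_eq_one g
      obtain ⟨i, j, rfl | rfl⟩ := h.exists_form g
      · refine (h.pr_mem_ext hk hd).2 ?_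
        obtain ⟨h1, h2⟩ := (h.pr_sq_eq_one_iff i j).1 hg2
        push_cast
        exact dvd_add (by simpa using h1) (by simpa using h2)
      · refine (h.prz_mem_ext hk hd).2 ?_
        push_cast
        rw [sub_zero]
        exact (pow_dvd_pow 2 (Nat.le_succ m)).trans ((h.prz_sq_eq_one_iff i j).1 hg2)
    · have key : ∀ i j : ℤ, (2 : ℤ) ^ m ∣ i + j → pr x y i j ∈ C := by
        rintro i j ⟨u, hu⟩
        rw [hsup, hu, ← hxpow, zpow_mul, hxpow]
        have h' := hanti' (-j)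
        rw [neg_neg] at h'
        exact mul_mem (Subgroup.zpow_mem _ hpa u) h'
      rintro g ⟨i, j, ⟨rfl, hi⟩ | ⟨rfl, hi⟩⟩
      · exact key i j (by simpa using hi)
      · exact mul_mem (key i j (by simpa using hi)) hz
  refine ⟨?_, x, ?_⟩
  · rw [hC]
    have h2 := h.card_ext hk hd
    rw [show (2 : ℕ) * (2 ^ (m + 1) * 2 ^ (m + 1)) = 2 ^ (m + 1 + 2) * 2 ^ m by ring] at h2
    exact Nat.eq_of_mul_eq_mul_right (by positivity) h2
  · rw [eq_top_iff]
    intro g _
    have key : ∀ i j : ℤ, pr x y i j ∈ C ⊔ Subgroup.zpowers x := fun i j => by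
      rw [hsup, ← hxpow]
      have h' := hanti' (-j)
      rw [neg_neg] at h'
      exact mul_mem (Subgroup.mem_sup_right ⟨_, rfl⟩) (Subgroup.mem_sup_left h')
    obtain ⟨i, j, rfl | rfl⟩ := h.exists_form g
    · exact key i j
    · exact mul_mem (key i j) (Subgroup.mem_sup_left hz)

end Cfsg.Agent.S1200
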