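import Cfsg.Statements.S1204
import Cfsg.Agent.Lib.QDFusion.IndexTwo

set_option autoImplicit false
open Cfsg

namespace Cfsg.Agent.S1204

/-- Let G be a finite group with quasi-dihedral Sylow 2-subgroup S, T a Klein four-subgroup and Q a quaternion subgroup of order 8 of S, with |N_G(T) : C_G(T)| = 6 and |N_G(Q) : Q C_G(Q)| = 6. Then G has no subgroup of index 2, exactly one conjugacy class of involutions and exactly one conjugacy class of elements of order 4. -/
theorem result {G : Type*} [Group G] [Finite G] (S : Sylow 2 G) (hS : Cfsg.IsQuasiDihedral (S : Subgroup G)) (T : Subgroup G) (hT : IsKleinFour T) (hTS : T ≤ S) (Q : Subgroup G) (hQS : Q ≤ S) (eQ : Q ≃* QuaternionGroup 2) (h₁ : (Subgroup.centralizer (T : Set G)).relIndex (Subgroup.normalizer (T : Set G)) = 6) (h₂ : (Q ⊔ Subgroup.centralizer (Q : Set G)).relIndex (Subgroup.normalizer (Q : Set G)) = 6) : (∀ H : Subgroup G, H.index ≠ 2) ∧ Nat.card {C : ConjClasses G // ∃ t : G, orderOf t = 2 ∧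 ConjClasses.mk t = C} = 1 ∧ Nat.card {C : ConjClasses G // ∃ t : G, orderOf t = 4 ∧ ConjClasses.mk t = C} = 1 := by
  obtain ⟨x, y, m, h⟩ := TwoGroups.exists_qdGen hS
  refine ⟨fun H hH => ?_,
    QDFusion.card_classes_one (QDFusion.orderOf_zz h) fun u hu => QDFusion.isConj_zz_of_six h hT hTS h₁ hu,
    QDFusion.card_classes_one (QDFusion.orderOf_aa h) fun u hu => QDFusion.isConj_aa_of_six h eQ hQS h₂ hu⟩
  haveI : Fact (Nat.Prime 2) := ⟨Nat.prime_two⟩
  have hE : ∀ i : ℤ, 2 ∣ i → ((x ^ i : ↥(S : Subgroup G)) : G) ∈ H := fun i hi => QDFusion.x_even_mem h hH hi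
  have hrefl : ∀ i : ℤ, ((x ^ i * y : ↥(S : Subgroup G)) : G) ∈ H := by
    intro i
    by_cases hi : 2 ∣ i
    · obtain ⟨g, hg⟩ := isConj_iff.mp (QDFusion.isConj_zz_of_six h hT hTS h₁ (QDFusion.orderOf_xy_even h hi)).symm
      have h1 := QDFusion.mul_inv_mem_of_conj hH g ((QDFusion.zz x m : ↥(S : Subgroup G)) : G)
      rw [hg] at h1
      have h2 := H.mul_mem h1 (hE _ (dvd_mul_of_dvd_left (by norm_num) _) :
        ((QDFusion.zz x m : ↥(S : Subgroup G)) : G) ∈ H)
      rwa [inv_mul_cancel_right] at h2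
    · obtain ⟨g, hg⟩ := isConj_iff.mp (QDFusion.isConj_aa_of_six h eQ hQS h₂ (QDFusion.orderOf_xy_odd h hi)).symm
      have h1 := QDFusion.mul_inv_mem_of_conj hH g ((QDFusion.aa x m : ↥(S : Subgroup G)) : G)
      rw [hg] at h1
      have h2 := H.mul_mem h1 (hE _ (dvd_mul_of_dvd_left (by norm_num) _) :
        ((QDFusion.aa x m : ↥(S : Subgroup G)) : G) ∈ H)
      rwa [inv_mul_cancel_right] at h2
  have hSH : (S : Subgroup G) ≤ H := by
    intro g hg
    obtain ⟨i, hi | hi⟩ := h.exists_form ⟨g, hg⟩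
    · have h1 := H.mul_mem (hrefl i) (H.inv_mem (hrefl 0))
      have e : g = ((x ^ i * y : ↥(S : Subgroup G)) : G) * ((x ^ (0 : ℤ) * y : ↥(S : Subgroup G)) : G)⁻¹ := by
        rw [show g = ((x ^ i : ↥(S : Subgroup G)) : G) from congrArg Subtype.val hi]
        simp
      rwa [e]
    · rw [show g = ((x ^ i * y : ↥(S : Subgroup G)) : G) from congrArg Subtype.val hi]
      exact hrefl i
  exact S.not_dvd_index ((dvd_of_eq hH.symm).trans (Subgroup.index_dvd_of_le hSH))

end Cfsg.Agent.S1204
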