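import Cfsg.Statements.S1206
import Cfsg.Agent.Lib.QDFusion.IndexTwo

set_option autoImplicit false
open Cfsg

namespace Cfsg.Agent.S1206

/-- Let G be a finite group with quasi-dihedral Sylow 2-subgroup S, T a Klein four-subgroup and Q a quaternion subgroup of order 8 of S, with |N_G(T) : C_G(T)| = 6 and |N_G(Q) : Q C_G(Q)| = 2. Then G has a normal subgroup K of index 2 whose Sylow 2-subgroups are dihedral and which has no subgroup of index 2, and G has exactly one class of involutions and two classes of elements of order 4. -/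
theorem result {G : Type*} [Group G] [Finite G] (S : Sylow 2 G) (hS : Cfsg.IsQuasiDihedral (S : Subgroup G)) (T : Subgroup G) (hT : IsKleinFour T) (hTS : T ≤ S) (Q : Subgroup G) (hQS : Q ≤ S) (eQ : Q ≃* QuaternionGroup 2) (h₁ : (Subgroup.centralizer (T : Set G)).relIndex (Subgroup.normalizer (T : Set G)) = 6) (h₂ : (Q ⊔ Subgroup.centralizer (Q : Set G)).relIndex (Subgroup.normalizer (Q : Set G)) = 2) : (∃ K : Subgroup G, K.Normal ∧ K.index = 2 ∧ (∀ P : Sylow 2 ↥K, ∃ m : ℕ, Nonempty ((P : Subgroup ↥K) ≃* DihedralGroup m)) ∧ (∀ H : Subgroup ↥K, H.index ≠ 2)) ∧ Nat.card {C : ConjClasses G // ∃ t : G, orderOf t = 2 ∧ ConjClasses.mk t = C} = 1 ∧ Nat.card {C : ConjClasses G // ∃ t : G, orderOf t = 4 ∧ ConjClasses.mk t = C} = 2 := by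
  obtain ⟨x, y, m, h⟩ := TwoGroups.exists_qdGen hS
  have hne' := QDFusion.not_isConj_aa_of_two h eQ hQS h₂
  obtain ⟨M, hMn, hM, hbM⟩ := QDFusion.exists_index_two_missing_four h hne'
  haveI := hMn
  have hz : ((QDFusion.zz x m : ↥(S : Subgroup G)) : G) ∈ M :=
    QDFusion.x_even_mem h hM (dvd_mul_of_dvd_left (by norm_num) _)
  have hyM : ((x ^ (0 : ℤ) * y : ↥(S : Subgroup G)) : G) ∈ M := by
    obtain ⟨g, hg⟩ := isConj_iff.mp
      (QDFusion.isConj_zz_of_six h hT hTS h₁ (QDFusion.orderOf_xy_even h (dvd_zero _))).symm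
    rw [← hg]
    exact hMn.conj_mem _ hz g
  have hmem := QDFusion.mem_iff_mem_part h hM (e := 0) (d := 1) (by norm_num) hyM hbM
  refine ⟨⟨M, hMn, hM, fun P => ?_, fun L hL => ?_⟩,
    QDFusion.card_classes_one (QDFusion.orderOf_zz h) fun u hu => QDFusion.isConj_zz_of_six h hT hTS h₁ hu,
    QDFusion.card_classes_two (QDFusion.orderOf_aa h) (QDFusion.orderOf_xy_odd h (by norm_num)) hne'
      fun u hu => QDFusion.isConj_order_four h hu⟩
  · obtain ⟨e₁⟩ := QDFusion.nonempty_equiv_part h hmem P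
    obtain ⟨e₂⟩ := QDFusion.nonempty_part_equiv_dihedral h
    exact ⟨_, ⟨e₁.trans e₂⟩⟩
  -- no subgroup of index two
  set L' := L.map M.subtype with hL'
  have hsq : ∀ g ∈ M, g ^ 2 ∈ L' := fun g hg => ⟨_, Subgroup.sq_mem_of_index_two hL ⟨g, hg⟩, rfl⟩
  have hzL : ((QDFusion.zz x m : ↥(S : Subgroup G)) : G) ∈ L' := by
    have e : QDFusion.zz x m = (QDFusion.aa x m) ^ 2 := by
      rw [← zpow_natCast, ← zpow_mul]; exact congrArg (x ^ ·) (by push_cast; ring)
    rw [e, Subgroup.coe_pow]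
    exact hsq _ (QDFusion.x_even_mem h hM (dvd_mul_of_dvd_left (by norm_num) _))
  have hrefl : ∀ i : ℤ, 2 ∣ i → ((x ^ i * y : ↥(S : Subgroup G)) : G) ∈ L' := by
    intro i hi
    have hiM : ((x ^ i * y : ↥(S : Subgroup G)) : G) ∈ M := (hmem _).2 ((h.xy_mem_part _).2 (by simpa using hi))
    obtain ⟨g, hg⟩ := isConj_iff.mp (QDFusion.isConj_zz_of_six h hT hTS h₁ (QDFusion.orderOf_xy_even h hi)).symm
    obtain ⟨g', hg'M, hg'⟩ : ∃ g' ∈ M, g' * ((QDFusion.zz x m : ↥(S : Subgroup G)) : G) * g'⁻¹ =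
        ((x ^ i * y : ↥(S : Subgroup G)) : G) := by
      by_cases hgM : g ∈ M
      · exact ⟨g, hgM, hg⟩
      · refine ⟨g * ((x ^ (1 : ℤ) * y : ↥(S : Subgroup G)) : G),
          (Subgroup.mul_mem_iff_of_index_two hM).mpr (iff_of_false hgM hbM), ?_⟩
        rw [← hg]
        have e := congrArg Subtype.val (QDFusion.conj_zz h (x ^ (1 : ℤ) * y))
        simp only [Subgroup.coe_mul, Subgroup.coe_inv] at e
        calc _ = g * (((x ^ (1 : ℤ) * y : ↥(S : Subgroup G)) : G) * ((QDFusion.zz x m : ↥(S : Subgroup G)) : G) *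
              ((x ^ (1 : ℤ) * y : ↥(S : Subgroup G)) : G)⁻¹) * g⁻¹ := by group
          _ = _ := by simp only [Subgroup.coe_mul]; rw [e]
    have h1 : g' * ((QDFusion.zz x m : ↥(S : Subgroup G)) : G) * g'⁻¹ *
        (((QDFusion.zz x m : ↥(S : Subgroup G)) : G))⁻¹ ∈ L' :=
      ⟨_, QDFusion.mul_inv_mem_of_conj hL ⟨g', hg'M⟩ ⟨_, hz⟩, rfl⟩
    rw [hg'] at h1
    have h2 := L'.mul_mem h1 hzL
    rwa [inv_mul_cancel_right] at h2
  refine QDFusion.false_of_part_le h hmem hL fun g hg => ?_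
  obtain ⟨i, rfl | rfl⟩ := h.exists_form g
  · have hi : (2 : ℤ) ∣ i := (h.x_mem_part _).1 hg
    have e : ((x ^ i : ↥(S : Subgroup G)) : G) =
        ((x ^ i * y : ↥(S : Subgroup G)) : G) * ((x ^ (0 : ℤ) * y : ↥(S : Subgroup G)) : G)⁻¹ := by simp
    rw [e]
    exact L'.mul_mem (hrefl i hi) (L'.inv_mem (hrefl 0 (dvd_zero _)))
  · exact hrefl i (by simpa using (h.xy_mem_part _).1 hg)

end Cfsg.Agent.S1206
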