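import Cfsg.Statements.S1207
import Cfsg.Agent.Lib.QDFusion.IndexTwo

set_option autoImplicit false
open Cfsg

namespace Cfsg.Agent.S1207

/-- Let G be a finite group with quasi-dihedral Sylow 2-subgroup S, T a Klein four-subgroup and Q a quaternion subgroup of order 8 of S, with |N_G(T) : C_G(T)| = 2 and |N_G(Q) : Q C_G(Q)| = 2. Then G has a normal 2-complement, exactly two classes of involutions and exactly two classes of elements of order 4. -/
theorem result {G : Type*} [Group G] [Finite G] (S : Sylow 2 G) (hS : Cfsg.IsQuasiDihedral (S : Subgroup G)) (T : Subgroup G) (hT : IsKleinFour T) (hTS : T ≤ S) (Q : Subgroup G) (hQS : Q ≤ S) (eQ : Q ≃* QuaternionGroup 2) (h₁ : (Subgroup.centralizer (T : Set G)).relIndex (Subgroup.normalizer (T : Set G)) = 2) (h₂ : (Q ⊔ Subgroup.centralizer (Q : Set G)).relIndex (Subgroup.normalizer (Q : Set G)) = 2) : Cfsg.HasNormalPComplement 2 G ∧ Nat.card {C : ConjClasses G // ∃ t : G, orderOf t = 2 ∧ ConjClasses.mk t = C} = 2 ∧ Nat.card {C : ConjClasses G // ∃ t : G, orderOf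 t = 4 ∧ ConjClasses.mk t = C} = 2 := by
  obtain ⟨x, y, m, h⟩ := TwoGroups.exists_qdGen hS
  have hne := QDFusion.not_isConj_zz_of_two h hT hTS h₁
  have hne' := QDFusion.not_isConj_aa_of_two h eQ hQS h₂
  obtain ⟨M, -, hM, hyM⟩ := QDFusion.exists_index_two_missing_involution h hne
  obtain ⟨M', -, hM', hbM⟩ := QDFusion.exists_index_two_missing_four h hne'
  exact ⟨QDFusion.hasNormalPComplement_of_missing_both h hM hM' hyM hbM,
    QDFusion.card_classes_two (QDFusion.orderOf_zz h) (QDFusion.orderOf_xy_even h (dvd_zero _)) hne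
      fun u hu => QDFusion.isConj_involution h hu,
    QDFusion.card_classes_two (QDFusion.orderOf_aa h) (QDFusion.orderOf_xy_odd h (by norm_num)) hne'
      fun u hu => QDFusion.isConj_order_four h hu⟩

end Cfsg.Agent.S1207
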