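import Cfsg.Statements.S1209
import Cfsg.Agent.Lib.WRFusion.Adapted
-- import your own Cfsg.Agent.* helpers here

set_option autoImplicit false
open Cfsg

namespace Cfsg.Agent.S1209

/-- Let G be a finite group whose Sylow 2-subgroup S is wreathed of order 2^(2n+1), U the commutative subgroup of index 2 in S, Q a quaternion subgroup of order 8 of S and V = Q Z(S). If |N_G(U) : C_G(U)| = 6 and |N_G(V) : V C_G(V)| = 6, then G has no subgroup of index 2 and exactly one conjugacy class of involutions. -/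
theorem result {G : Type*} [Group G] [Finite G] (S : Sylow 2 G) (hS : Cfsg.IsWreathed (S : Subgroup G)) (n : ℕ) (hn : Nat.card S = 2 ^ (2 * n + 1)) (U : Subgroup G) (hUS : U ≤ S) (hUab : IsMulCommutative U) (hUcard : Nat.card U = 2 ^ (2 * n)) (Q : Subgroup G) (hQS : Q ≤ S) (eQ : Q ≃* QuaternionGroup 2) (h₁ : (Subgroup.centralizer (U : Set G)).relIndex (Subgroup.normalizer (U : Set G)) = 6) (h₂ : ((Q ⊔ ((Subgroup.center (S : Subgroup G)).map (S : Subgroup G).subtype)) ⊔ Subgroup.centralizer ((Q ⊔ ((Subgroup.center (S : Subgroup G)).map (S : Subgroup G).subtype) : Subgroup G) : Set G)).relIndex (Subgroup.normalizer ((Q ⊔ ((Subgroup.center (S : Subgroup G)).map (S : Subgroup G).subtype) : Subgroup G) : Set G)) = 6) : (∀ H : Subgroup G, H.index ≠ 2) ∧ Nat.card {C : ConjClasses G // ∃ t : G, orderOf t = 2 ∧ ConjClasses.mk t = C} = 1 := by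
  obtain ⟨m, rfl, W, rfl, rfl⟩ := WRFusion.exists_adapted hS n hn U hUS hUab hUcard Q hQS eQ
  have e : W.Q0 ⊔ (Subgroup.center ↥(S : Subgroup G)).map (S : Subgroup G).subtype = W.V := W.Q0_sup_Zs
  rw [e] at h₂
  have hac := W.isConj_ca_cc_of_six h₁
  have haz := W.isConj_ca_z0_of_six h₂
  refine ⟨fun H hH => ?_, QDFusion.card_classes_one W.orderOf_ca fun u hu => ?_⟩
  · haveI : Fact (Nat.Prime 2) := ⟨Nat.prime_two⟩
    have hUH := W.U_le_of_six h₁ hH
    have hz : W.z0 ∈ H := by
      obtain ⟨g, hg⟩ := isConj_iff.mp haz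
      haveI := Subgroup.normal_of_index_eq_two hH
      rw [← hg]
      exact Subgroup.Normal.conj_mem inferInstance _ (hUH W.ca_mem_U) g
    have hSH : (S : Subgroup G) ≤ H := by
      intro g hg
      obtain ⟨i, j, rfl | rfl⟩ := W.cases hg
      · exact hUH (W.pc_mem_U i j)
      · rw [show W.pz i j = W.pc i j * W.z0 by rw [WRFusion.WRAmb.z0, W.pc_mul_pz, add_zero, add_zero]]
        exact H.mul_mem (hUH (W.pc_mem_U i j)) hz
    exact S.not_dvd_index ((dvd_of_eq hH.symm).trans (Subgroup.index_dvd_of_le hSH))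
  · rcases W.isConj_involution hu with h | h | h
    exacts [h, h.trans hac.symm, h.trans haz.symm]

end Cfsg.Agent.S1209
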