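import Cfsg.Statements.S1210
import Cfsg.Agent.Lib.WRFusion.Adapted
-- import your own Cfsg.Agent.* helpers here

set_option autoImplicit false
open Cfsg

namespace Cfsg.Agent.S1210

/-- Let G be a finite group whose Sylow 2-subgroup S is wreathed of order 2^(2n+1), U the commutative subgroup of index 2 in S, Q a quaternion subgroup of order 8 of S and V = Q Z(S). If |N_G(U) : C_G(U)| = 2 and |N_G(V) : V C_G(V)| = 6, then G has a normal subgroup K of index 2^n whose Sylow 2-subgroups are generalized quaternion and which has no subgroup of index 2; every subgroup of Z(S) is weakly closed in S; and G has exactly two classes of involutions. -/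
theorem result {G : Type*} [Group G] [Finite G] (S : Sylow 2 G) (hS : Cfsg.IsWreathed (S : Subgroup G)) (n : ℕ) (hn : Nat.card S = 2 ^ (2 * n + 1)) (U : Subgroup G) (hUS : U ≤ S) (hUab : IsMulCommutative U) (hUcard : Nat.card U = 2 ^ (2 * n)) (Q : Subgroup G) (hQS : Q ≤ S) (eQ : Q ≃* QuaternionGroup 2) (h₁ : (Subgroup.centralizer (U : Set G)).relIndex (Subgroup.normalizer (U : Set G)) = 2) (h₂ : ((Q ⊔ ((Subgroup.center (S : Subgroup G)).map (S : Subgroup G).subtype)) ⊔ Subgroup.centralizer ((Q ⊔ ((Subgroup.center (S : Subgroup G)).map (S : Subgroup G).subtype) : Subgroup G) : Set G)).relIndex (Subgroup.normalizer ((Q ⊔ ((Subgroup.center (S : Subgroup G)).map (S : Subgroup G).subtype) : Subgroup G) : Set G)) = 6) : (∃ K : Subgroup G, K.Normal ∧ K.index = 2 ^ n ∧ (∀ P : Sylow 2 ↥K, ∃ m : ℕ, 1 ≤ m ∧ Nonempty ((P : Subgroup ↥K) ≃* QuaternionGroup (2 ^ m))) ∧ (∀ H : Subgroup ↥K, H.index ≠ 2)) ∧ (∀ Z₀ : Subgroup G, Z₀ ≤ ((Subgroup.center (S : Subgroup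 G)).map (S : Subgroup G).subtype) → Cfsg.IsWeaklyClosed Z₀ (S : Subgroup G)) ∧ Nat.card {C : ConjClasses G // ∃ t : G, orderOf t = 2 ∧ ConjClasses.mk t = C} = 2 := by
  obtain ⟨m, rfl, W, rfl, rfl⟩ := WRFusion.exists_adapted hS n hn U hUS hUab hUcard Q hQS eQ
  have e : W.Q0 ⊔ (Subgroup.center ↥(S : Subgroup G)).map (S : Subgroup G).subtype = W.V := W.Q0_sup_Zs
  rw [e] at h₂
  have hnac := W.not_isConj_ca_cc_of_two h₁
  have haz := W.isConj_ca_z0_of_six h₂
  obtain ⟨K, hKn, hidx, hKU, hKZ, hwc⟩ := W.exists_quaternion_kernel h₁ haz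
  haveI := hKn
  refine ⟨⟨K, hKn, hidx, fun P => ?_, fun L hL => ?_⟩, fun Z₀ hZ₀ => ?_,
    QDFusion.card_classes_two W.orderOf_ca W.orderOf_cc hnac fun u hu => ?_⟩
  · obtain ⟨e₁⟩ := W.nonempty_equiv_inf P
    obtain ⟨e₂⟩ := W.nonempty_equiv_quaternion hKU hKZ
    exact ⟨m + 1, by omega, ⟨e₁.trans e₂⟩⟩
  · refine W.false_of_inf_le hL fun g hg hgK => ?_
    have hD : ⁅K, K⁆ ≤ L.map K.subtype := by
      rw [Subgroup.commutator_le]
      intro a ha b hb
      exact ⟨_, WRFusion.comm_mem_of_index_two hL ⟨a, ha⟩ ⟨b, hb⟩, rfl⟩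
    exact hD (W.le_commutator_of_six h₂ hidx hKU hKZ hg hgK)
  · have hfix : ∀ z ∈ Z₀, ∀ g : G, g * z * g⁻¹ ∈ (S : Subgroup G) → g * z * g⁻¹ = z := by
      intro z hz g hg
      obtain ⟨t, rfl⟩ := W.mem_Zs.1 (hZ₀ hz)
      obtain ⟨i, j, e' | e'⟩ := W.cases hg
      · rcases W.fix_or_swap h₁ (W.pc_mem_U t t) (by rw [e']; exact W.pc_mem_U i j) with h | h
        · exact h
        · rw [h]; exact W.conj_pc_by_pz 0 0 t t
      · exfalso
        have hd := hwc t (i + j) g i j e' rfl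
        have hsq : g * W.pc (2 * t) (2 * t) * g⁻¹ = W.pc (i + j) (i + j) := by
          have := congrArg (· ^ 2) e'
          simp only [conj_pow, W.pc_sq, W.pz_sq] at this
          exact this
        have h2t : (4 : ℤ) * 2 ^ m ∣ i + j - 2 * t := by
          rcases W.fix_or_swap h₁ (W.pc_mem_U (2 * t) (2 * t)) (hsq ▸ W.pc_mem_U _ _) with h | h <;>
            rw [hsq] at h
          · exact (W.pc_eq_pc.1 h).1
          · rw [WRFusion.WRAmb.z0, W.conj_pc_by_pz] at h
            exact (W.pc_eq_pc.1 h).1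
        have h4 := dvd_sub hd h2t
        rw [show i + j + 2 * 2 ^ m - 2 * t - (i + j - 2 * t) = 2 ^ m * (2 : ℤ) by ring] at h4
        have := WRFusion.four_dvd_of_mul h4
        omega
    refine ⟨hZ₀.trans (Subgroup.map_subtype_le _), fun g hg => Subgroup.eq_of_le_of_card_ge ?_ ?_⟩
    · rintro _ ⟨z, hz, rfl⟩
      show g * z * g⁻¹ ∈ Z₀
      rw [hfix z hz g (hg ⟨z, hz, rfl⟩)]
      exact hz
    · rw [Subgroup.card_map_of_injective (MulAut.conj g).injective]
  · rcases W.isConj_involution hu with h | h | h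
    exacts [Or.inl h, Or.inr h, Or.inl (h.trans haz.symm)]

end Cfsg.Agent.S1210
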