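import Cfsg.Statements.S1211
import Cfsg.Agent.Lib.WRFusion.Adapted
-- import your own Cfsg.Agent.* helpers here

set_option autoImplicit false
open Cfsg

namespace Cfsg.Agent.S1211

/-- Let G be a finite group whose Sylow 2-subgroup S is wreathed of order 2^(2n+1), U the commutative subgroup of index 2 in S, Q a quaternion subgroup of order 8 of S and V = Q Z(S). If |N_G(U) : C_G(U)| = 6 and |N_G(V) : V C_G(V)| = 2, then G has a normal subgroup K of index 2 containing U (so U is a Sylow 2-subgroup of K) which has no subgroup of index 2, and G has exactly two classes of involutions. -/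
theorem result {G : Type*} [Group G] [Finite G] (S : Sylow 2 G) (hS : Cfsg.IsWreathed (S : Subgroup G)) (n : ℕ) (hn : Nat.card S = 2 ^ (2 * n + 1)) (U : Subgroup G) (hUS : U ≤ S) (hUab : IsMulCommutative U) (hUcard : Nat.card U = 2 ^ (2 * n)) (Q : Subgroup G) (hQS : Q ≤ S) (eQ : Q ≃* QuaternionGroup 2) (h₁ : (Subgroup.centralizer (U : Set G)).relIndex (Subgroup.normalizer (U : Set G)) = 6) (h₂ : ((Q ⊔ ((Subgroup.center (S : Subgroup G)).map (S : Subgroup G).subtype)) ⊔ Subgroup.centralizer ((Q ⊔ ((Subgroup.center (S : Subgroup G)).map (S : Subgroup G).subtype) : Subgroup G) : Set G)).relIndex (Subgroup.normalizer ((Q ⊔ ((Subgroup.center (S : Subgroup G)).map (S : Subgroup G).subtype) : Subgroup G) : Set G)) = 2) : (∃ K : Subgroup G, K.Normal ∧ K.index = 2 ∧ U ≤ K ∧ (∀ H : Subgroup ↥K, H.index ≠ 2)) ∧ Nat.card {C : ConjClasses G // ∃ t : G, orderOf t = 2 ∧ ConjClasses.mk t = C} = 2 := by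
  obtain ⟨m, rfl, W, rfl, rfl⟩ := WRFusion.exists_adapted hS n hn U hUS hUab hUcard Q hQS eQ
  have e : W.Q0 ⊔ (Subgroup.center ↥(S : Subgroup G)).map (S : Subgroup G).subtype = W.V := W.Q0_sup_Zs
  rw [e] at h₂
  obtain ⟨hza, hzc⟩ := W.not_isConj_z0_of_two h₂
  have hac := W.isConj_ca_cc_of_six h₁
  obtain ⟨M, hMn, hM, hzM, hUM⟩ := W.exists_index_two hza hzc
  haveI := hMn
  refine ⟨⟨M, hMn, hM, hUM, fun L hL => ?_⟩,
    QDFusion.card_classes_two W.orderOf_ca W.orderOf_z0 (fun h => hza h.symm) fun u hu => ?_⟩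
  · obtain ⟨k, hk, ha, hb, hc⟩ := W.U_cycle h₁ (N := 2) (by norm_num)
    have hkM : k ^ 2 ∈ M := hM ▸ Subgroup.pow_index_mem M k
    have hUL : W.U ≤ L.map M.subtype := W.exists_cycle_comm_le (pow_mem hk 2) ha hb hc fun u hu =>
      ⟨_, WRFusion.comm_mem_of_index_two hL ⟨_, hkM⟩ ⟨u, hUM hu⟩, rfl⟩
    refine W.false_of_inf_le hL fun g hg hgM => ?_
    obtain ⟨i, j, rfl | rfl⟩ := W.cases hg
    · exact hUL (W.pc_mem_U i j)
    · refine absurd ?_ hzM
      have h1 := M.mul_mem (M.inv_mem (hUM (W.pc_mem_U i j))) hgM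
      rwa [W.pc_inv, W.pc_mul_pz, neg_add_cancel, neg_add_cancel] at h1
  · rcases W.isConj_involution hu with h | h | h
    exacts [Or.inl h, Or.inl (h.trans hac.symm), Or.inr h]

end Cfsg.Agent.S1211
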