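import Cfsg.Statements.S1215
import Cfsg.Agent.Lib.TwoGroups.IsolatedCentre

set_option autoImplicit false
open Cfsg

namespace Cfsg.Agent.S1215

open Subgroup

/-- Normalising a cyclic central subgroup of a Sylow 2-subgroup means centralising it. -/
theorem conj_eq_of_normalizer {H : Type*} [Group H] [Finite H] (S : Sylow 2 H) {y : H}
    (hyS : y ∈ (S : Subgroup H)) (hyc : ∀ s ∈ (S : Subgroup H), s * y = y * s) {g : H}
    (hg : g ∈ normalizer (zpowers y : Set H)) : g * y * g⁻¹ = y := by
  have : Fact (Nat.Prime 2) := ⟨Nat.prime_two⟩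
  set N := normalizer (zpowers y : Set H)
  set f := normalizerMonoidHom (zpowers y) with hf
  have hSN : (S : Subgroup H) ≤ N := fun s hs => centralizer_le_normalizer _ (mem_centralizer_iff.mpr
    fun a ha => by
      obtain ⟨i, rfl⟩ := ha
      exact (Commute.zpow_left (show Commute y s from (hyc s hs).symm) i).eq)
  have hker : (S.subtype hSN : Subgroup ↥N) ≤ f.ker := by
    intro t ht
    rw [Sylow.coe_subtype, mem_subgroupOf] at ht
    refine MonoidHom.mem_ker.mpr (MulEquiv.ext fun a => Subtype.ext ?_)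
    obtain ⟨a, i, rfl⟩ := a
    show (t : H) * y ^ i * (t : H)⁻¹ = y ^ i
    rw [← conj_zpow, hyc _ ht, mul_inv_cancel_right]
  have hodd : ¬ 2 ∣ f.ker.index := fun hd =>
    (S.subtype hSN).not_dvd_index (hd.trans (Subgroup.index_dvd_of_le hker))
  obtain ⟨k, hk⟩ := (S.2.to_le (zpowers_le.mpr hyS)).exists_card_eq
  have hdvd : f.ker.index ∣ Nat.card (MulAut ↥(zpowers y)) := by
    rw [Subgroup.index_ker]
    exact Subgroup.card_subgroup_dvd_card _
  rw [IsCyclic.card_mulAut, hk] at hdvd
  have hone : f.ker.index = 1 := by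
    have hdvd' : f.ker.index ∣ 2 ^ k := by
      rcases k with _ | k
      · simpa using hdvd
      · rw [Nat.totient_prime_pow_succ Nat.prime_two, show 2 - 1 = 1 from rfl, mul_one] at hdvd
        exact hdvd.trans (pow_dvd_pow 2 k.le_succ)
    exact Nat.eq_one_of_dvd_coprimes ((Nat.prime_two.coprime_iff_not_dvd.mpr hodd).pow_left k) hdvd' dvd_rfl
  rw [Subgroup.index_eq_one] at hone
  have h : (⟨g, hg⟩ : ↥N) ∈ f.ker := hone ▸ mem_top _
  exact congrArg Subtype.val (DFunLike.congr_fun (MonoidHom.mem_ker.mp h) ⟨y, mem_zpowers y⟩)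

/-- Let H be a finite group with quasi-dihedral or wreathed Sylow 2-subgroup S such that H has a normal subgroup K of index a power of 2 with no subgroup of index 2 and with generalized quaternion Sylow 2-subgroups, and such that every subgroup of Z(S) is weakly closed in S with respect to H. Then H = O(H) C_H(Z(S)): every element of H is the product of an element of the largest normal odd-order subgroup and an element centralizing Z(S). -/
theorem result {H : Type*} [Group H] [Finite H] (S : Sylow 2 H) (hS : Cfsg.IsQuasiDihedral (S : Subgroup H) ∨ Cfsg.IsWreathed (S : Subgroup H)) (hQ : (∃ K : Subgroup H, K.Normal ∧ (∃ a : ℕ, K.index = 2 ^ a) ∧ (∀ M : Subgroup ↥K, M.index ≠ 2) ∧ (∀ P : Sylow 2 ↥K, ∃ m : ℕ, 1 ≤ m ∧ Nonempty ((P : Subgroup ↥K) ≃* QuaternionGroup (2 ^ m)))) ∧ (∀ Z₀ : Subgroup H, Z₀ ≤ ((Subgroup.center (S : Subgroup H)).map (S : Subgroup H).subtype) → Cfsg.IsWeaklyClosed Z₀ (S : Subgroup H))) (h : H) : ∃ o ∈ Cfsg.oddCore H, ∃ c ∈ Subgroup.centralizer (((Subgroup.center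 (S : Subgroup H)).map (S : Subgroup H).subtype : Subgroup H) : Set H), h = o * c := by
  obtain ⟨-, hw⟩ := hQ
  set Z := (Subgroup.center (S : Subgroup H)).map (S : Subgroup H).subtype with hZdef
  refine WreathedCentre.exists_core_mul_centralizer (S.2.to_le (Subgroup.map_subtype_le _)) (fun c hc => ?_) h
  refine ZStar.FusionCentre.inZStar_aux ZStar.zStarThm (Nat.card H) H rfl S c
    (WreathedCentre.commute_center hc).1 fun y hy g hg => ?_
  have hyZ : y ∈ Z := Subgroup.zpowers_le.mpr hc hy
  obtain ⟨hyS, hyc⟩ := WreathedCentre.commute_center hyZ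
  obtain ⟨-, hwc⟩ := hw (Subgroup.zpowers y) (Subgroup.zpowers_le.mpr hyZ)
  have heq := hwc g (by rw [MonoidHom.map_zpowers]; exact Subgroup.zpowers_le.mpr hg)
  refine conj_eq_of_normalizer S hyS hyc (Subgroup.mem_normalizer_iff.mpr fun a => ⟨fun ha => heq.le ⟨a, ha, rfl⟩, fun ha => ?_⟩)
  rw [← heq] at ha
  obtain ⟨b, hb, hbe⟩ := ha
  rwa [← (MulAut.conj g).injective hbe]

end Cfsg.Agent.S1215
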