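import Cfsg.Statements.S1218
import Cfsg.Agent.Lib.Forms.SylowTwoRankTwo
import Cfsg.Agent.Lib.Forms.Herm
import Cfsg.Agent.Lib.Forms.QuadOrder

set_option autoImplicit false
open scoped MatrixGroups
open Cfsg

open scoped Matrix

namespace Cfsg.Agent.S1218

/-- Let F be a finite field with q² elements, q odd, let GU be the subgroup of GL(2,F) preserving the Hermitian form u₁v₁^q + u₂v₂^q, and P a Sylow 2-subgroup of GU. If q ≡ 1 (mod 4) then P is quasi-dihedral; if q ≡ 3 (mod 4) then P is wreathed. -/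
theorem result {F : Type*} [Field F] [Fintype F] (q : ℕ) (hF : Fintype.card F = q ^ 2) (hq : Odd q) (P : Sylow 2 ↥(Cfsg.preserving (Units.coeHom (Matrix (Fin 2) (Fin 2) F)) (Cfsg.hermForm 2 F q))) : (q % 4 = 1 → Cfsg.IsQuasiDihedral (P : Subgroup ↥(Cfsg.preserving (Units.coeHom (Matrix (Fin 2) (Fin 2) F)) (Cfsg.hermForm 2 F q)))) ∧ (q % 4 = 3 → Cfsg.IsWreathed (P : Subgroup ↥(Cfsg.preserving (Units.coeHom (Matrix (Fin 2) (Fin 2) F)) (Cfsg.hermForm 2 F q)))) := by
  classical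
  have hq1 := Forms.one_lt_q hF
  have hqq : ∀ z : F, (z ^ q) ^ q = z := Forms.pow_q_q hF
  obtain ⟨k, hk⟩ := hq
  let G := Cfsg.preserving (Units.coeHom (Matrix (Fin 2) (Fin 2) F)) (Cfsg.hermForm 2 F q)
  have hform : ∀ u v : Fin 2 → F, hermForm 2 F q u v = u 0 * v 0 ^ q + u 1 * v 1 ^ q := fun u v =>
    Fin.sum_univ_two _
  have hcard : Nat.card G = q * ((q + 1) * ((q + 1) * (q - 1))) := by
    show Nat.card (GU 2 F q) = _
    rw [Forms.card_GU hF, ← Nat.sq_sub_sq q 1]
    simp [Finset.prod_range_succ, Nat.not_even_one]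
  have hfac : (q * ((q + 1) * ((q + 1) * (q - 1)))).factorization 2
      = (q + 1).factorization 2 + ((q + 1).factorization 2 + (q - 1).factorization 2) := by
    rw [Nat.factorization_mul (by omega) (Nat.mul_ne_zero (by omega) (Nat.mul_ne_zero (by omega) (by omega))),
      Nat.factorization_mul (by omega) (Nat.mul_ne_zero (by omega) (by omega)),
      Nat.factorization_mul (by omega) (by omega)]
    simp [Finsupp.add_apply, Forms.factorization_two_of_odd (Nat.odd_iff.2 (show q % 2 = 1 by omega))]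
  have hunits : Nat.card Fˣ = (q + 1) * (q - 1) := Forms.units_card hF
  constructor
  · intro h1
    obtain ⟨v, j, hv, hvf, hvj⟩ := Forms.exists_two_pow_mul_odd (a := q - 1) (by omega) (by omega)
    obtain ⟨lam, hlam⟩ := Forms.exists_orderOf_eq_of_dvd (G := Fˣ) (d := 2 ^ (v + 1)) (by
      rw [hunits, hvj, pow_succ, mul_comm (q + 1), mul_assoc (2 ^ v) (2 * j + 1)]
      exact mul_dvd_mul_left _ (Dvd.dvd.mul_left (by omega) _))
    have h2 : (2 : F) ≠ 0 := Forms.two_ne_zero_of_odd_card (by rw [hF, hk]; exact Odd.pow ⟨k, rfl⟩)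
    have hqodd : Odd q := ⟨k, hk⟩
    obtain ⟨a, ha0, ha⟩ := Forms.exists_norm_eq hF (c := (-1 : F)) (neg_ne_zero.2 one_ne_zero) hqodd.neg_one_pow
    have ha' : a * a ^ q = -1 := by rw [← pow_succ', ha]
    obtain ⟨h, hh⟩ : ∃ h : F, h = 2⁻¹ := ⟨_, rfl⟩
    have hh2 : 2 * h = 1 := by rw [hh, mul_inv_cancel₀ h2]
    have hhq : h ^ q = h := by
      rw [hh, ← Forms.qEnd_apply hF, map_inv₀, map_ofNat]
    let M : Matrix (Fin 2) (Fin 2) F := !![1, h; a, -(h * a)]
    have hM : M.det ≠ 0 := by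
      rw [Matrix.det_fin_two_of]
      intro h0
      exact ha0 (by linear_combination -h0 - a * hh2)
    let Mu := Matrix.GeneralLinearGroup.mkOfDetNeZero M hM
    have hMform : ∀ u w : Fin 2 → F, hermForm 2 F q (M *ᵥ u) (M *ᵥ w) = u 0 * w 1 ^ q + u 1 * w 0 ^ q := by
      intro u w
      rw [hform, ← Forms.qEnd_apply hF, ← Forms.qEnd_apply hF]
      simp [M, Matrix.mulVec, dotProduct, Fin.sum_univ_two]
      simp only [Forms.qEnd_apply, hhq]
      linear_combination (u 0 * w 0 ^ q + h * h * (u 1 * w 1 ^ q) - h * (u 0 * w 1 ^ q + u 1 * w 0 ^ q)) * ha'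
        + (u 0 * w 1 ^ q + u 1 * w 0 ^ q) * hh2
    have hpres : ∀ (D : GL (Fin 2) F), (∀ u w : Fin 2 → F,
        (D.val *ᵥ u) 0 * ((D.val *ᵥ w) 1) ^ q + (D.val *ᵥ u) 1 * ((D.val *ᵥ w) 0) ^ q
          = u 0 * w 1 ^ q + u 1 * w 0 ^ q) → Mu * D * Mu⁻¹ ∈ G := by
      intro D hD u w
      have hu : ∀ z, (Mu * D * Mu⁻¹).val *ᵥ z = M *ᵥ (D.val *ᵥ (Mu⁻¹.val *ᵥ z)) := fun z => by
        rw [Units.val_mul, Units.val_mul, Matrix.mulVec_mulVec, Matrix.mulVec_mulVec]
        rfl
      have hz : ∀ z, M *ᵥ (Mu⁻¹.val *ᵥ z) = z := fun z => by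
        rw [Matrix.mulVec_mulVec]
        show ((Mu.val * Mu⁻¹.val) *ᵥ z) = z
        rw [Units.mul_inv, Matrix.one_mulVec]
      show hermForm 2 F q ((Mu * D * Mu⁻¹).val *ᵥ u) ((Mu * D * Mu⁻¹).val *ᵥ w) = hermForm 2 F q u w
      rw [hu, hu, hMform, hD, ← hMform, hz, hz]
    let diag : Fˣ × Fˣ →* GL (Fin 2) F :=
      ({ toFun := fun p => Matrix.diagonal ![(p.1 : F), (p.2 : F)]
         map_one' := by ext i j; fin_cases i <;> fin_cases j <;> simp
         map_mul' := fun p r => by ext i j; fin_cases i <;> fin_cases j <;> simp } :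
        Fˣ × Fˣ →* Matrix (Fin 2) (Fin 2) F).toHomUnits
    have hdiag : Function.Injective diag := fun p r e => by
      have e' := congrArg Units.val e
      refine Prod.ext (Units.ext ?_) (Units.ext ?_)
      · simpa [diag] using congrFun (congrFun e' 0) 0
      · simpa [diag] using congrFun (congrFun e' 1) 1
    let sw : GL (Fin 2) F := Matrix.GeneralLinearGroup.mkOfDetNeZero !![0, 1; 1, 0] (by simp [Matrix.det_fin_two])
    let p : Fˣ × Fˣ := (lam, (lam ^ q)⁻¹)
    have hp : Mu * diag p * Mu⁻¹ ∈ G := hpres _ fun u w => by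
      have e1 : (lam : F) * (((lam ^ q)⁻¹ : Fˣ) : F) ^ q = 1 := by
        rw [← Units.val_pow_eq_pow_val, inv_pow, Units.val_inv_eq_inv_val, Units.val_pow_eq_pow_val,
          Units.val_pow_eq_pow_val, hqq, mul_inv_cancel₀ lam.ne_zero]
      have e2 : (((lam ^ q)⁻¹ : Fˣ) : F) * (lam : F) ^ q = 1 := by
        rw [← Units.val_pow_eq_pow_val, Units.inv_mul]
      generalize hc : (((lam ^ q)⁻¹ : Fˣ) : F) = c at e1 e2
      have hd : (diag p).val = Matrix.diagonal ![(lam : F), c] := by rw [← hc]; rfl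
      rw [hd]
      simp [Matrix.mulVec_diagonal, mul_pow]
      linear_combination (u 0 * w 1 ^ q) * e1 + (u 1 * w 0 ^ q) * e2
    have hsw : Mu * sw * Mu⁻¹ ∈ G := hpres _ fun u w => by
      simp [sw, Matrix.mulVec, dotProduct, Fin.sum_univ_two]
      ring
    refine Forms.sylow_quasiDihedral_of_rel P (n := v + 1) (by omega) ?_ (x := ⟨_, hp⟩) (y := ⟨_, hsw⟩) ?_ ?_ ?_
    · rw [hcard, hfac, Forms.factorization_two_of_mod_four (a := q + 1) (by omega), hvf]
      ring
    · rw [← Subgroup.orderOf_coe]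
      show orderOf (MulAut.conj Mu (diag p)) = _
      rw [MulEquiv.orderOf_eq, orderOf_injective diag hdiag, Prod.orderOf_mk, orderOf_inv, hlam]
      exact Nat.lcm_eq_left ((orderOf_pow_dvd q).trans (dvd_of_eq hlam))
    · refine Subtype.ext ?_
      show MulAut.conj Mu sw * MulAut.conj Mu sw = 1
      rw [← map_mul, show sw * sw = 1 from Units.ext (by ext i j; fin_cases i <;> fin_cases j <;>
        simp [sw, Matrix.mul_apply, Fin.sum_univ_two]), map_one]
    · refine Subtype.ext ?_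
      rw [Subgroup.coe_mul, Subgroup.coe_mul, Subgroup.coe_inv, SubmonoidClass.coe_pow]
      show MulAut.conj Mu sw * MulAut.conj Mu (diag p) * (MulAut.conj Mu sw)⁻¹
        = MulAut.conj Mu (diag p) ^ _
      rw [← map_inv, ← map_mul, ← map_mul, ← map_pow]
      congr 1
      rw [show sw * diag p * sw⁻¹ = diag ((lam ^ q)⁻¹, lam) from mul_inv_eq_of_eq_mul (Units.ext (by
        ext i j; fin_cases i <;> fin_cases j <;> simp [sw, diag, p, Matrix.mul_apply, Fin.sum_univ_two])),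
        ← map_pow]
      congr 1
      rw [Nat.add_sub_cancel]
      have h1' : 1 ≤ 2 ^ v := Nat.one_le_two_pow
      have hexp : lam ^ (q + (2 ^ v - 1)) = 1 := by
        rw [← orderOf_dvd_iff_pow_eq_one, hlam]
        refine ⟨j + 1, ?_⟩
        have : 2 ^ (v + 1) * (j + 1) = 2 ^ v * (2 * j + 1) + 2 ^ v := by ring
        omega
      refine Prod.ext ?_ ?_
      · show (lam ^ q)⁻¹ = lam ^ (2 ^ v - 1)
        exact inv_eq_of_mul_eq_one_right (by rw [← pow_add, hexp])
      · show lam = ((lam ^ q)⁻¹) ^ (2 ^ v - 1)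
        have hlam2 : (lam ^ q) ^ q = lam := Units.ext (by simp [hqq])
        rw [inv_eq_of_mul_eq_one_right (show lam ^ q * lam ^ (2 ^ v - 1) = 1 by rw [← pow_add, hexp])]
        conv_lhs => rw [← hlam2, eq_inv_of_mul_eq_one_left (show lam ^ q * lam ^ (2 ^ v - 1) = 1 by
          rw [← pow_add, hexp]), inv_pow]
        refine inv_eq_of_mul_eq_one_right ?_
        rw [← pow_mul, ← pow_mul, ← pow_add, ← mul_add, mul_comm, pow_mul, hexp, one_pow]
  · intro h3
    obtain ⟨v, j, hv, hvf, hvj⟩ := Forms.exists_two_pow_mul_odd (a := q + 1) (by omega) (by omega)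
    obtain ⟨a, ha⟩ := Forms.exists_orderOf_eq_of_dvd (G := Fˣ) (d := 2 ^ v) (by
      rw [hunits, hvj, mul_assoc]; exact dvd_mul_right _ _)
    have ha1 : (a : F) * (a : F) ^ q = 1 := by
      rw [← pow_succ', ← Units.val_pow_eq_pow_val, orderOf_dvd_iff_pow_eq_one.1 (ha.symm ▸ Dvd.intro _ hvj.symm),
        Units.val_one]
    have hmem : ∀ (D : GL (Fin 2) F), (∀ u w : Fin 2 → F,
        (D.val *ᵥ u) 0 * ((D.val *ᵥ w) 0) ^ q + (D.val *ᵥ u) 1 * ((D.val *ᵥ w) 1) ^ q
          = u 0 * w 0 ^ q + u 1 * w 1 ^ q) → D ∈ G := fun D hD u w => by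
      rw [hform, hform]
      exact hD u w
    refine Forms.sylow_wreathed_of_monomial P G.subtype G.subtype_injective hv ?_ ha
      (x := ⟨Matrix.GeneralLinearGroup.mkOfDetNeZero (Matrix.diagonal ![(a : F), 1]) (by simp), hmem _ ?_⟩)
      (y := ⟨Matrix.GeneralLinearGroup.mkOfDetNeZero (Matrix.diagonal ![1, (a : F)]) (by simp), hmem _ ?_⟩)
      (z := ⟨Matrix.GeneralLinearGroup.mkOfDetNeZero !![0, 1; 1, 0] (by simp [Matrix.det_fin_two]), hmem _ ?_⟩)
      rfl rfl rfl
    · rw [hcard, hfac, Forms.factorization_two_of_mod_four (a := q - 1) (by omega), hvf]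
      ring
    · intro u w
      simp [Matrix.mulVec_diagonal, mul_pow]
      linear_combination (u 0 * w 0 ^ q) * ha1
    · intro u w
      simp [Matrix.mulVec_diagonal, mul_pow]
      linear_combination (u 1 * w 1 ^ q) * ha1
    · intro u w
      simp [Matrix.mulVec, dotProduct, Fin.sum_univ_two]
      ring

end Cfsg.Agent.S1218
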