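import Cfsg.Statements.S5318
import Cfsg.Agent.Lib.Fusion.RankThreeTwo
import Cfsg.Agent.S1217
import Cfsg.Agent.Lib.Forms.QuadOrder
import Cfsg.Agent.Lib.GL.Basic

set_option autoImplicit false
open Cfsg

namespace Cfsg.Agent.S5318

open Matrix Cfsg.Agent.Fusion.RankThreeTwo

variable {F : Type*} [Field F] [Fintype F]

theorem setup_top (h2 : (2 : F) ≠ 0) (hq : Odd (Fintype.card F)) : Setup (⊤ : Subgroup (Matrix.SpecialLinearGroup (Fin 3) F)) := by
  refine ⟨h2, trivial, trivial, trivial, trivial, trivial, trivial, ⟨Fintype.card F ^ 2 * (Fintype.card F ^ 2 + Fintype.card F + 1), ?_, ?_⟩, ?_⟩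
  · obtain ⟨k, hk⟩ := hq
    rw [hk]
    exact ⟨(2*k+1)^2 * (2*k^2+3*k+1) + 2*k^2+2*k, by ring⟩
  · rw [Subgroup.card_top, Subgroup.comap_top, Subgroup.card_top, GL.card_GL2]
    have h := GL.card_SL_mul (F := F) 3 (by norm_num)
    obtain ⟨m, hm⟩ : ∃ m, Fintype.card F = m + 1 := ⟨_, (Nat.succ_pred_eq_of_pos Fintype.card_pos).symm⟩
    have hm1 : 1 ≤ m := by have := Fintype.one_lt_card (α := F); omega
    rw [hm, GL.prod_pow_sub_pow] at h
    simp [Finset.prod_Ico_succ_top] at h
    have e3 : (m + 1) ^ 3 - 1 = m * ((m + 1) ^ 2 + (m + 1) + 1) := by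
      rw [Nat.sub_eq_iff_eq_add (Nat.one_le_pow _ _ (by omega))]; ring
    rw [hm, Nat.add_sub_cancel]
    rw [e3] at h
    refine Nat.eq_of_mul_eq_mul_left (show 0 < m by omega) (h.trans ?_)
    ring
  · intro X Y _ _ tX tY hd _ hdet
    refine ⟨GeneralLinearGroup.mkOfDetNeZero _ hdet, trivial, ?_⟩
    show X.val * (X.val + Y.val) = (X.val + Y.val) * Y.val
    rw [mul_add, add_mul, sq_of_trace tX, sq_of_trace tY, hd, add_comm]


/-- For a finite field F of odd order, the 2-fusion system of PSL(3,F) on a Sylow 2-subgroup (semidihedral or wreathed according as |F| ≡ 3 or 1 mod 4) is simple. -/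
theorem result {F : Type*} [Field F] [Fintype F] (hodd : Fintype.card F % 2 = 1) (S : Sylow 2 (Matrix.ProjectiveSpecialLinearGroup (Fin 3) F)) :
    (Cfsg.groupFusionSystem (S : Subgroup (Matrix.ProjectiveSpecialLinearGroup (Fin 3) F))).IsSimple 2 := by
  have h2 : (2 : F) ≠ 0 := Forms.two_ne_zero_of_odd_card (Nat.odd_iff.2 hodd)
  have S₀ := setup_top h2 (Nat.odd_iff.2 hodd)
  let π : (⊤ : Subgroup (Matrix.SpecialLinearGroup (Fin 3) F)) →*
      Matrix.ProjectiveSpecialLinearGroup (Fin 3) F :=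
    (QuotientGroup.mk' _).comp (Subgroup.topEquiv : _ ≃* Matrix.SpecialLinearGroup (Fin 3) F).toMonoidHom
  have hπ : Function.Surjective π := (QuotientGroup.mk'_surjective _).comp Subgroup.topEquiv.surjective
  have hker : π.ker ≤ Subgroup.center _ := fun z hz => Subgroup.mem_center_iff.2 fun g => Subtype.ext
    (Subgroup.mem_center_iff.1 ((QuotientGroup.eq_one_iff _).1 hz) g.1)
  have hq1 : 1 < Fintype.card F := Fintype.one_lt_card
  rcases (show Fintype.card F % 4 = 3 ∨ Fintype.card F % 4 = 1 by omega) with h3 | h1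
  · refine isSimple_semidihedral S₀ π hπ hker (fun g _ _ _ _ h => ?_) ?_ S
    · exact FiniteField.isSquare_neg_one_iff.1 ⟨_, h.symm⟩ h3
    · rw [Subgroup.comap_top]
      exact quasiDihedral_of_equiv Subgroup.topEquiv fun Q => (S1217.result Q).1 h3
  · obtain ⟨v, j, hv, hvf, hvj⟩ :=
      Forms.exists_two_pow_mul_odd (a := Fintype.card F - 1) (by omega) (by omega)
    obtain ⟨a, ha⟩ := Forms.exists_orderOf_eq_of_dvd (G := Fˣ) (d := 2 ^ v) (by
      rw [GL.card_units_field, hvj]; exact dvd_mul_right _ _)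
    refine isSimple_wreathed S₀ π hπ hker hv ha
      (GeneralLinearGroup.mkOfDetNeZero !![(a : F), 0; 0, 1] (by simp [det_fin_two])) rfl trivial ?_ S
    rw [Subgroup.comap_top, Subgroup.card_top, GL.card_GL2]
    generalize hq : Fintype.card F = q at *
    have e1 : q ^ 2 - 1 = (q + 1) * (q - 1) := by rw [← Nat.sq_sub_sq, one_pow]
    rw [e1, Nat.factorization_mul (Nat.mul_ne_zero (by omega) (by omega)) (Nat.mul_ne_zero (by omega) (by omega)),
      Nat.factorization_mul (by omega) (by omega), Nat.factorization_mul (by omega) (by omega)]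
    simp only [Finsupp.add_apply]
    rw [hvf, Forms.factorization_two_of_odd (a := q) (Nat.odd_iff.2 hodd),
      Forms.factorization_two_of_mod_four (a := q + 1) (by omega)]
    omega

end Cfsg.Agent.S5318
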