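import Cfsg.Statements.S1219
import Cfsg.Agent.S5318

set_option autoImplicit false
open scoped MatrixGroups
open Cfsg

namespace Cfsg.Agent.S1219

open Matrix Cfsg.Agent.Fusion.RankThreeTwo

/-- The centralizer of `diag (-1, -1, 1)` consists of block matrices. -/
theorem exists_emb_of_commute {F : Type*} [Field F] (h2 : (2 : F) ≠ 0) {y : Matrix.SpecialLinearGroup (Fin 3) F}
    (h : y * emb (-1 : GL (Fin 2) F) = emb (-1 : GL (Fin 2) F) * y) : ∃ A, emb A = y := by
  have e := fun i k => congrFun (congrFun (congrArg Subtype.val h) i) k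
  have key : ∀ x : F, -x = x → x = 0 := fun x hx =>
    (mul_eq_zero.1 (show (2 : F) * x = 0 by linear_combination -hx)).resolve_left h2
  have h02 : y.1 0 2 = 0 := key _ (by simpa [emb_val, blockMat, mul_apply, Fin.sum_univ_three, det_fin_two] using (e 0 2).symm)
  have h12 : y.1 1 2 = 0 := key _ (by simpa [emb_val, blockMat, mul_apply, Fin.sum_univ_three, det_fin_two] using (e 1 2).symm)
  have h20 : y.1 2 0 = 0 := key _ (by simpa [emb_val, blockMat, mul_apply, Fin.sum_univ_three, det_fin_two] using e 2 0)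
  have h21 : y.1 2 1 = 0 := key _ (by simpa [emb_val, blockMat, mul_apply, Fin.sum_univ_three, det_fin_two] using e 2 1)
  have hd := y.2
  rw [det_fin_three, h02, h12, h20, h21] at hd
  simp only [mul_zero, zero_mul, sub_zero, add_zero] at hd
  have hd' : (!![y.1 0 0, y.1 0 1; y.1 1 0, y.1 1 1] : Matrix (Fin 2) (Fin 2) F).det * y.1 2 2 = 1 := by
    rw [det_fin_two_of]; linear_combination hd
  refine ⟨GeneralLinearGroup.mkOfDetNeZero _ (left_ne_zero_of_mul_eq_one hd'), Subtype.ext ?_⟩
  show blockMat !![y.1 0 0, y.1 0 1; y.1 1 0, y.1 1 1] = y.1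
  rw [blockMat, inv_eq_of_mul_eq_one_right hd']
  ext i k
  fin_cases i <;> fin_cases k <;> simp [h02, h12, h20, h21]


/-- Let F be a finite field of odd order q and t an involution of PSL(3,F). Then C(t) is isomorphic to the quotient of GL(2,F) by a central subgroup of order gcd(q−1, 3). -/
theorem result {F : Type*} [Field F] [Fintype F] (hF : Odd (Fintype.card F)) (t : Matrix.ProjectiveSpecialLinearGroup (Fin 3) F) (ht : orderOf t = 2) : ∃ (Z : Subgroup (GL (Fin 2) F)) (_ : Z.Normal), Z ≤ Subgroup.center (GL (Fin 2) F) ∧ Nat.card Z = Nat.gcd (Fintype.card F - 1) 3 ∧ Nonempty (↥(Subgroup.centralizer ({t} : Set (Matrix.ProjectiveSpecialLinearGroup (Fin 3) F))) ≃* GL (Fin 2) F ⧸ Z) := by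
  classical
  have h2 : (2 : F) ≠ 0 := Forms.two_ne_zero_of_odd_card hF
  have S₀ := S5318.setup_top h2 hF
  let π := QuotientGroup.mk' (Subgroup.center (Matrix.SpecialLinearGroup (Fin 3) F))
  let z : Matrix.SpecialLinearGroup (Fin 3) F := emb (-1 : GL (Fin 2) F)
  have hz2 : z * z = 1 := by rw [← map_mul, neg_mul_neg, one_mul, map_one]
  have hz1 : z ≠ 1 := fun h => one_ne_neg S₀ (by
    have := congrArg (fun g : GL (Fin 2) F => g.val 0 0) (emb_injective (h.trans (map_one emb).symm))
    simpa using this.symm)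
  have hcube : ∀ k ∈ Subgroup.center (Matrix.SpecialLinearGroup (Fin 3) F), k ^ 3 = 1 := fun k hk =>
    congrArg Subtype.val (center_cube S₀ (c := ⟨k, trivial⟩) (Subgroup.mem_center_iff.2 fun g =>
      Subtype.ext (Subgroup.mem_center_iff.1 hk g.1)))
  -- an involution over `t`
  obtain ⟨g, hg⟩ := QuotientGroup.mk'_surjective (Subgroup.center (Matrix.SpecialLinearGroup (Fin 3) F)) t
  have ht2 : t ^ 2 = 1 := ht ▸ pow_orderOf_eq_one t
  have ht1 : t ≠ 1 := fun h => by rw [h, orderOf_one] at ht; omega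
  let j := g ^ 3
  have hπj : π j = t := by
    rw [map_pow, hg, pow_succ, ht2, one_mul]
  have hj2 : j ^ 2 = 1 := by
    rw [← pow_mul, show 3 * 2 = 2 * 3 from rfl, pow_mul]
    refine hcube _ ((QuotientGroup.eq_one_iff _).1 ?_)
    show π (g ^ 2) = 1
    rw [map_pow, hg, ht2]
  have hj1 : j ≠ 1 := fun h => ht1 (by rw [← hπj, h, map_one])
  obtain ⟨d, hd⟩ : ∃ d, d * z * d⁻¹ = j := by
    let j' : (⊤ : Subgroup (Matrix.SpecialLinearGroup (Fin 3) F)) := ⟨j, trivial⟩
    obtain ⟨Q⟩ : Nonempty (Sylow 2 ((⊤ : Subgroup (Matrix.SpecialLinearGroup (Fin 3) F)).comap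
      (emb : GL (Fin 2) F →* Matrix.SpecialLinearGroup (Fin 3) F))) := Sylow.nonempty
    obtain ⟨U, hU⟩ := exists_sylow S₀ Q
    have hj' : orderOf j' = 2 ^ 1 := by
      rw [← Subgroup.orderOf_coe, pow_one]
      exact orderOf_eq_prime hj2 hj1
    obtain ⟨c, hc⟩ := Forms.exists_conj_into_sylow U (Forms.isPGroup_zpowers hj')
    obtain ⟨⟨h, hh⟩, -, he⟩ := hU.le (hc j' (Subgroup.mem_zpowers j'))
    have he' : emb h = c.1 * j * c.1⁻¹ := congrArg Subtype.val he
    have hh1 : h ≠ 1 := fun e => hj1 (by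
      rw [e, map_one] at he'
      exact conj_eq_one_iff.1 he'.symm)
    have hh2 : h * h = 1 := emb_injective (by
      rw [map_mul, map_one, he', ← sq, conj_pow, hj2, mul_one, mul_inv_cancel])
    have hconj : IsConj (emb h) z := by
      by_cases hn : h = -1
      · subst hn; exact IsConj.refl _
      · obtain ⟨e, he⟩ := isConj_iff.1 (isConj_neg S₀ (g := h) trivial hh2 hh1 hn)
        exact isConj_iff.2 ⟨e.1, congrArg Subtype.val he⟩
    exact isConj_iff.1 (hconj.symm.trans (isConj_iff.2 ⟨c.1⁻¹, by rw [he']; group⟩))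
  -- the map onto the centralizer
  let φ : GL (Fin 2) F →* Matrix.ProjectiveSpecialLinearGroup (Fin 3) F :=
    ((MulAut.conj (π d)).toMonoidHom.comp π).comp emb
  have hφ : ∀ A, φ A = π (d * emb A * d⁻¹) := fun A => by
    rw [map_mul, map_mul, map_inv]; rfl
  have hrange : φ.range = Subgroup.centralizer {t} := by
    refine le_antisymm ?_ ?_
    · rintro _ ⟨A, rfl⟩
      rw [Subgroup.mem_centralizer_singleton_iff, hφ, ← hπj, ← hd, ← map_mul, ← map_mul]
      congr 1
      calc d * emb A * d⁻¹ * (d * z * d⁻¹) = d * (emb A * z) * d⁻¹ := by group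
        _ = d * (z * emb A) * d⁻¹ := by rw [← map_mul, ← map_mul, mul_neg_one, neg_one_mul]
        _ = _ := by group
    · intro x hx
      obtain ⟨y, rfl⟩ := QuotientGroup.mk'_surjective (Subgroup.center (Matrix.SpecialLinearGroup (Fin 3) F)) x
      let y' := d⁻¹ * y * d
      have hc : y' * z * y'⁻¹ * z ∈ Subgroup.center (Matrix.SpecialLinearGroup (Fin 3) F) := by
        refine (QuotientGroup.eq_one_iff _).1 ?_
        show π (y' * z * y'⁻¹ * z) = 1
        have e : π y * π j = π j * π y := by rw [hπj]; exact Subgroup.mem_centralizer_singleton_iff.1 hx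
        have ez : π z = (π d)⁻¹ * π j * π d := by rw [← hd, map_mul, map_mul, map_inv]; group
        have ez2 : π z * π z = 1 := by rw [← map_mul, hz2, map_one]
        have e' : π y * π j * (π y)⁻¹ = π j := by rw [e, mul_inv_cancel_right]
        rw [show y' = d⁻¹ * y * d from rfl]
        simp only [map_mul, map_inv]
        calc _ = (π d)⁻¹ * (π y * π j * (π y)⁻¹) * π d * π z := by rw [ez]; group
          _ = π z * π z := by rw [e', ← ez]
          _ = 1 := ez2
      generalize hk : y' * z * y'⁻¹ * z = k at hc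
      have e1 : y' * z * y'⁻¹ = k * z := by rw [← hk, mul_assoc (y' * z * y'⁻¹), hz2, mul_one]
      have hk2 : k ^ 2 = 1 := by
        have e2 : (y' * z * y'⁻¹) ^ 2 = 1 := by rw [conj_pow, sq, hz2, mul_one, mul_inv_cancel]
        rwa [e1, (show Commute k z from ((Subgroup.mem_center_iff.1 hc z).symm)).mul_pow, sq z, hz2, mul_one] at e2
      have hk1 : k = 1 := by
        have := hcube k hc
        rwa [pow_succ, hk2, one_mul] at this
      rw [hk1, one_mul, mul_inv_eq_iff_eq_mul] at e1
      obtain ⟨A, hA⟩ := exists_emb_of_commute h2 e1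
      refine ⟨A, ?_⟩
      rw [hφ, hA]
      show π (d * (d⁻¹ * y * d) * d⁻¹) = π y
      congr 1
      group
  have hmem : ∀ A, A ∈ φ.ker ↔ emb A ∈ Subgroup.center (Matrix.SpecialLinearGroup (Fin 3) F) := fun A => by
    rw [MonoidHom.mem_ker, ← QuotientGroup.eq_one_iff]
    exact (MulAut.conj (π d)).map_eq_one_iff
  let ψ : rootsOfUnity 3 F →* GL (Fin 2) F :=
    (Units.map ((Matrix.scalar (Fin 2)).toMonoidHom : F →* Matrix (Fin 2) (Fin 2) F)).comp (rootsOfUnity 3 F).subtype
  have hψ : Function.Injective ψ := fun a b h => Subtype.ext (Units.ext (by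
    have := congrArg (fun g : GL (Fin 2) F => g.val 0 0) h
    simpa [ψ] using this))
  have hψr : ψ.range = φ.ker := by
    refine le_antisymm ?_ ?_
    · rintro _ ⟨r, rfl⟩
      rw [hmem]
      refine Matrix.SpecialLinearGroup.mem_center_iff.2 ⟨(r.1 : F), ?_, ?_⟩
      · rw [Fintype.card_fin, ← Units.val_pow_eq_pow_val, (mem_rootsOfUnity _ _).1 r.2, Units.val_one]
      · have h3 : (r.1 : F) * (r.1 : F) * (r.1 : F) = 1 := by
          rw [← Units.val_mul, ← Units.val_mul, ← pow_three', (mem_rootsOfUnity _ _).1 r.2, Units.val_one]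
        rw [emb_val]
        ext i k
        fin_cases i <;> fin_cases k <;> simp [ψ, blockMat, Matrix.det_fin_two]
        field_simp
        linear_combination h3
    · intro A hA
      obtain ⟨r, hr, hrA⟩ := Matrix.SpecialLinearGroup.mem_center_iff.1 ((hmem A).1 hA)
      rw [Fintype.card_fin] at hr
      rw [emb_val] at hrA
      have e := fun i k => congrFun (congrFun hrA i) k
      refine ⟨⟨Units.mk0 r (fun h0 => by rw [h0, zero_pow (by norm_num)] at hr; exact zero_ne_one hr), ?_⟩, ?_⟩
      · exact (mem_rootsOfUnity _ _).2 (Units.ext (by simpa using hr))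
      · refine Units.ext ?_
        ext i k
        fin_cases i <;> fin_cases k
        · simpa [ψ, blockMat] using e 0 0
        · simpa [ψ, blockMat] using e 0 1
        · simpa [ψ, blockMat] using e 1 0
        · simpa [ψ, blockMat] using e 1 1
  refine ⟨φ.ker, inferInstance, ?_, ?_, ⟨?_⟩⟩
  · rw [← hψr]
    rintro _ ⟨r, rfl⟩
    refine Subgroup.mem_center_iff.2 fun A => Units.ext ?_
    exact ((Matrix.scalar_commute (r.1 : F) (Commute.all _) A.val).symm).eq
  · rw [← hψr, ← Nat.card_congr (MonoidHom.ofInjective hψ).toEquiv, GL.card_rootsOfUnity_eq_gcd]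
  · exact ((MulEquiv.subgroupCongr hrange).symm).trans (QuotientGroup.quotientKerEquivRange φ).symm

end Cfsg.Agent.S1219
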