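import Cfsg.Statements.S1228
import Cfsg.Agent.Lib.Involution.ElemCentralizer
-- import your own Cfsg.Agent.* helpers here

set_option autoImplicit false
open Cfsg

namespace Cfsg.Agent.S1228

/-- Let G be a finite group with a Sylow 2-subgroup T that is neither cyclic nor normal, such that the centralizer of every involution is an elementary abelian 2-group; put H = N_G(T), let u be an involution outside H and D = H ∩ uHu⁻¹. Then N_G(D) = D ⊔ ⟨u⟩, and a coset gH is fixed by every element of D exactly when gH = H or gH = uH. -/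
theorem result {G : Type*} [Group G] [Finite G] (T : Sylow 2 G) (hnc : ¬ IsCyclic (T : Subgroup G)) (hnn : ¬ (T : Subgroup G).Normal) (hC : ∀ t : G, orderOf t = 2 → IsMulCommutative (Subgroup.centralizer ({t} : Set G)) ∧ ∀ c ∈ Subgroup.centralizer ({t} : Set G), c ^ 2 = 1) (u : G) (hu : orderOf u = 2) (huH : u ∉ Subgroup.normalizer ((T : Subgroup G) : Set G)) : Subgroup.normalizer ((Subgroup.normalizer ((T : Subgroup G) : Set G) ⊓ (Subgroup.normalizer ((T : Subgroup G) : Set G)).map (MulAut.conj u).toMonoidHom : Subgroup G) : Set G) = (Subgroup.normalizer ((T : Subgroup G) : Set G) ⊓ (Subgroup.normalizer ((T : Subgroup G) : Set G)).map (MulAut.conj u).toMonoidHom) ⊔ Subgroup.zpowers u ∧ ∀ g : G, ((∀ d ∈ Subgroup.normalizer ((T : Subgroup G) : Set G) ⊓ (Subgroup.normalizer ((T : Subgroup G) : Set G)).map (MulAut.conj u).toMonoidHom, d • (QuotientGroup.mk g : G ⧸ Subgroup.normalizer ((T : Subgroup G) : Set G)) = QuotientGroup.mk g) ↔ (QuotientGroup.mk g : G ⧸ Subgroup.normalizer ((T : Subgroup G) : Set G)) = QuotientGroup.mk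 1 ∨ (QuotientGroup.mk g : G ⧸ Subgroup.normalizer ((T : Subgroup G) : Set G)) = QuotientGroup.mk u) :=
  by
  obtain ⟨-, hinv⟩ := Involution.ElemCentralizer.card_D_and_inverts T hnc hC hnn hu huH
  set H := Subgroup.normalizer ((T : Subgroup G) : Set G) with hH
  set D := H ⊓ H.map (MulAut.conj u).toMonoidHom with hD
  have hui : u⁻¹ = u := Involution.StrongEmb.inv_eq_of_orderOf hu
  have hnormu : u ∈ Subgroup.normalizer (D : Set G) := by
    rw [Subgroup.mem_normalizer_iff]
    intro d
    constructor
    · intro hd; rw [hinv d hd]; exact D.inv_mem hd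
    · intro hd
      have h1 := hinv _ hd
      rw [hui] at h1 hd
      have h2 : d = (u * d * u)⁻¹ := by
        rw [← h1]
        simp [mul_assoc, Involution.StrongEmb.mul_self_of_orderOf hu,
          ← mul_assoc u u]
      rw [h2]; exact D.inv_mem hd
  have hfix : ∀ g : G, (∀ d ∈ D, d • (QuotientGroup.mk g : G ⧸ H) = QuotientGroup.mk g) →
      ∀ d ∈ D, g⁻¹ * d * g ∈ H := by
    intro g h d hd
    have := h d⁻¹ (D.inv_mem hd)
    rw [MulAction.Quotient.smul_coe, smul_eq_mul, QuotientGroup.eq] at this
    simpa [mul_assoc] using this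
  refine ⟨le_antisymm ?_ (sup_le Subgroup.le_normalizer (by rwa [Subgroup.zpowers_le])), fun g => ?_⟩
  · intro g hg
    have key : ∀ x ∈ Subgroup.normalizer (D : Set G), x ∈ H → x ∈ D := by
      intro x hx hxH
      obtain ⟨d, hd, hdT⟩ :=
        Involution.ElemCentralizer.exists_D_mul_mem T hnc hC hnn hu huH hxH
      set y := d⁻¹ * x with hy
      have hyN : y ∈ Subgroup.normalizer (D : Set G) :=
        mul_mem (inv_mem (Subgroup.le_normalizer hd)) hx
      have hyC : y ∈ Subgroup.centralizer (D : Set G) := by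
        rw [Subgroup.mem_centralizer_iff]
        intro c hc
        have h1 : y * c * y⁻¹ * c⁻¹ = 1 := by
          refine Involution.ElemCentralizer.eq_one_of_mem_D_of_mem T hnc hC hnn hu huH
            (D.mul_mem ((Subgroup.mem_normalizer_iff.mp hyN c).mp hc) (D.inv_mem hc)) ?_
          have h2 : y * c * y⁻¹ * c⁻¹ = y * (c * y⁻¹ * c⁻¹) := by group
          rw [h2]
          exact mul_mem hdT
            ((Subgroup.mem_normalizer_iff.mp (Subgroup.mem_inf.mp hc).1 _).mp (inv_mem hdT))
        rw [mul_inv_eq_one, mul_inv_eq_iff_eq_mul] at h1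
        exact h1.symm
      have h3 := (Involution.ElemCentralizer.centralizer_D T hnc hC hnn hu huH).2 y hyC
        (Subgroup.le_normalizer hdT)
      have := D.mul_mem hd h3
      rwa [hy, mul_inv_cancel_left] at this
    rcases Involution.ElemCentralizer.fixed_cosets T hnc hC hnn hu huH (g := g) (fun d hd =>
      (Subgroup.mem_inf.mp ((Subgroup.mem_normalizer_iff.mp (inv_mem hg) d).mp hd)).1 |> fun h =>
        (show g⁻¹ * d * g ∈ H by simpa using h)) with h | h
    · exact Subgroup.mem_sup_left (key g hg h)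
    · have h1 := key _ (mul_mem (inv_mem hnormu) hg) h
      have h2 : g = u * (u⁻¹ * g) := by group
      rw [h2]
      exact mul_mem (Subgroup.mem_sup_right (Subgroup.mem_zpowers u)) (Subgroup.mem_sup_left h1)
  constructor
  · intro h
    rcases Involution.ElemCentralizer.fixed_cosets T hnc hC hnn hu huH (hfix g h) with h' | h'
    · exact Or.inl (QuotientGroup.eq.mpr (by simpa using H.inv_mem h'))
    · refine Or.inr (QuotientGroup.eq.mpr ?_)
      have := H.inv_mem h'
      rwa [mul_inv_rev, inv_inv] at this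
  · rintro (h | h) d hd <;> rw [h, MulAction.Quotient.smul_coe, smul_eq_mul, QuotientGroup.eq]
    · simpa using (Subgroup.mem_inf.mp hd).1
    · obtain ⟨y, hy, hyd⟩ := (Subgroup.mem_inf.mp (D.inv_mem hd)).2
      have hyd' : u * y * u⁻¹ = d⁻¹ := hyd
      rw [mul_inv_rev, ← hyd']
      simpa [mul_assoc] using hy

end Cfsg.Agent.S1228
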