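import Cfsg.Statements.S1231
import Cfsg.Agent.Lib.PGroup.ElementaryAbelian
import Cfsg.Agent.Lib.PGroup.Basic
import Cfsg.Agent.Lib.Transfer.Fusion

set_option autoImplicit false
open Cfsg

namespace Cfsg.Agent.S1231

/-- The rank of `X` exceeds `k'` exactly when some elementary abelian subgroup is that large. -/
theorem not_pRankLE_iff {G : Type*} [Group G] {p k : ℕ} {X : Subgroup G} :
    ¬ Cfsg.PRankLE p k X ↔ ∃ A : Subgroup G, A ≤ X ∧ Cfsg.IsElementaryAbelian p A ∧
      ¬ Nat.card A ≤ p ^ k := by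
  constructor
  · intro h
    simp only [Cfsg.PRankLE, not_forall] at h
    obtain ⟨A, hA, hAp, hc⟩ := h
    refine ⟨A.map X.subtype, Subgroup.map_subtype_le _,
      Cfsg.Agent.PGroup.isElementaryAbelian_map ⟨hA, hAp⟩ _, ?_⟩
    rwa [Subgroup.card_map_of_injective X.subtype_injective]
  · rintro ⟨A, hAX, hA, hc⟩ h
    have h' := Cfsg.Agent.PGroup.isElementaryAbelian_comap hA (f := X.subtype) X.subtype_injective
    refine hc ((Nat.card_congr (Subgroup.subgroupOfEquivOfLe hAX).toEquiv).symm.le.trans ?_)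
    exact h _ h'.1 h'.2

/-- Let H be a subgroup of the finite group G, p a prime, k ≥ 1, and P a Sylow p-subgroup of H whose p-rank is at least k. Then N_G(X) ≤ H for every subgroup X of P of p-rank at least k if and only if H ∩ gHg⁻¹ has p-rank less than k for every g ∉ H. -/
theorem result {G : Type*} [Group G] [Finite G] {p : ℕ} [Fact p.Prime] (k : ℕ) (hk : 1 ≤ k) (H : Subgroup G) (P : Sylow p ↥H) (hP : ¬ Cfsg.PRankLE p (k - 1) ↥(P : Subgroup ↥H)) : (∀ X : Subgroup G, X ≤ (P : Subgroup ↥H).map H.subtype → ¬ Cfsg.PRankLE p (k - 1) ↥X → Subgroup.normalizer (X : Set G) ≤ H) ↔ (∀ g : G, g ∉ H → Cfsg.PRankLE p (k - 1) ↥(H ⊓ H.map (MulAut.conj g).toMonoidHom)) := by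
  have hPp : IsPGroup p ((P : Subgroup ↥H).map H.subtype) := P.2.map _
  constructor
  · intro hN g hg
    by_contra hr
    obtain ⟨A, hAle, hA, hAc⟩ := not_pRankLE_iff.mp hr
    -- any p-subgroup of H containing a large elementary abelian subgroup has normaliser in H
    have hnorm : ∀ Q B : Subgroup G, IsPGroup p Q → Q ≤ H → B ≤ Q → Cfsg.IsElementaryAbelian p B →
        ¬ Nat.card B ≤ p ^ (k - 1) → Subgroup.normalizer (Q : Set G) ≤ H := by
      intro Q B hQ hQH hBQ hB hBc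
      obtain ⟨R, hR⟩ := (hQ.comap_subtype (K := H)).exists_le_sylow
      obtain ⟨h, hh⟩ := MulAction.exists_smul_eq ↥H R P
      have hle : Q.map (MulAut.conj (h : G)).toMonoidHom ≤ (P : Subgroup ↥H).map H.subtype := by
        rintro _ ⟨x, hx, rfl⟩
        rw [← hh]
        exact ⟨_, ⟨⟨x, hQH hx⟩, hR hx, rfl⟩, rfl⟩
      have hbig : ¬ Cfsg.PRankLE p (k - 1) ↥(Q.map (MulAut.conj (h : G)).toMonoidHom) := by
        refine not_pRankLE_iff.mpr ⟨B.map (MulAut.conj (h : G)).toMonoidHom, Subgroup.map_mono hBQ,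
          Cfsg.Agent.PGroup.isElementaryAbelian_map hB _, ?_⟩
        rwa [Subgroup.card_map_of_injective (MulAut.conj (h : G)).injective]
      intro x hx
      have hx' : (h : G) * x * (h : G)⁻¹ ∈
          Subgroup.normalizer ((Q.map (MulAut.conj (h : G)).toMonoidHom : Subgroup G) : Set G) :=
        Subgroup.le_normalizer_map _ ⟨x, hx, rfl⟩
      have := hN _ hle hbig hx'
      have h2 := mul_mem (mul_mem (inv_mem h.2) this) h.2
      simpa [mul_assoc] using h2
    have hsyl : ∀ R B : Subgroup G, IsPGroup p R → B ≤ R → B ≤ H → Cfsg.IsElementaryAbelian p B →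
        ¬ Nat.card B ≤ p ^ (k - 1) → R ≤ H := by
      intro R B hR hBR hBH hB hBc
      by_contra hne
      have hlt : (H.subgroupOf R) < ⊤ := by
        rw [lt_top_iff_ne_top, Ne, Subgroup.subgroupOf_eq_top]
        exact hne
      obtain ⟨x, hxn, hx⟩ := SetLike.exists_of_lt (Cfsg.Agent.PGroup.lt_normalizer hR hlt.ne)
      refine hx (hnorm (R ⊓ H) B (hR.to_le inf_le_left) inf_le_right (le_inf hBR hBH) hB hBc
        (Subgroup.mem_normalizer_iff.mpr fun y => ?_))
      constructor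
      · rintro ⟨hyR, hyH⟩
        exact ⟨R.mul_mem (R.mul_mem x.2 hyR) (R.inv_mem x.2),
          (Subgroup.mem_normalizer_iff.mp hxn ⟨y, hyR⟩).mp hyH⟩
      · rintro ⟨hyR, hyH⟩
        have hy : y ∈ R := by simpa [mul_assoc] using mul_mem (mul_mem (inv_mem x.2) hyR) x.2
        exact ⟨hy, (Subgroup.mem_normalizer_iff.mp hxn ⟨y, hy⟩).mpr hyH⟩
    -- A and its conjugate by g⁻¹ both lie in H
    have hA' : A.map (MulAut.conj g⁻¹).toMonoidHom ≤ H := by
      rintro _ ⟨a, ha, rfl⟩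
      obtain ⟨y, hy, hya⟩ := (hAle ha).2
      rw [← hya]
      simpa [mul_assoc] using hy
    have hAp : IsPGroup p A := Cfsg.Agent.PGroup.isPGroup_of_elementaryAbelian hA
    have hA'e := Cfsg.Agent.PGroup.isElementaryAbelian_map hA (MulAut.conj g⁻¹).toMonoidHom
    have hA'c : ¬ Nat.card ↥(A.map (MulAut.conj g⁻¹).toMonoidHom) ≤ p ^ (k - 1) := by
      rwa [Subgroup.card_map_of_injective (MulAut.conj g⁻¹).injective]
    obtain ⟨R, hR⟩ := (hAp.map (MulAut.conj g⁻¹).toMonoidHom).exists_le_sylow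
    have hRH : (R : Subgroup G) ≤ H := hsyl _ _ R.2 hR hA' hA'e hA'c
    have hgR : A ≤ ((g • R : Sylow p G) : Subgroup G) := by
      intro a ha
      rw [Sylow.coe_subgroup_smul]
      exact ⟨g⁻¹ * a * g, hR ⟨a, ha, by simp⟩, by simp [mul_assoc]⟩
    have hgRH : ((g • R : Sylow p G) : Subgroup G) ≤ H :=
      hsyl _ A (g • R).2 hgR (fun a ha => (hAle ha).1) hA hAc
    obtain ⟨h, hh⟩ := MulAction.exists_smul_eq ↥H ((g • R).subtype hgRH) (R.subtype hRH)
    have hmem : (h : G) * g ∈ Subgroup.normalizer ((R : Subgroup G) : Set G) := by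
      apply Cfsg.Agent.Transfer.mem_normalizer_of_conj_mem
      intro y hy
      have h1 : (⟨g * y * g⁻¹, hgRH (by rw [Sylow.coe_subgroup_smul]; exact ⟨y, hy, rfl⟩)⟩ : ↥H) ∈
          ((g • R).subtype hgRH : Subgroup ↥H) := by
        show g * y * g⁻¹ ∈ ((g • R : Sylow p G) : Subgroup G)
        rw [Sylow.coe_subgroup_smul]
        exact ⟨y, hy, rfl⟩
      have h2 : h * _ * h⁻¹ ∈ ((h • (g • R).subtype hgRH : Sylow p ↥H) : Subgroup ↥H) :=
        ⟨_, h1, rfl⟩
      rw [hh] at h2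
      change (h : G) * (g * y * g⁻¹) * (h : G)⁻¹ ∈ (R : Subgroup G) at h2
      simpa [mul_assoc] using h2
    have := hnorm _ _ R.2 hRH hR hA'e hA'c hmem
    have h3 := mul_mem (inv_mem h.2) this
    simp only [inv_mul_cancel_left] at h3
    exact hg h3
  · intro hI X hXP hX g hgn
    by_contra hgH
    obtain ⟨A, hAX, hA, hAc⟩ := not_pRankLE_iff.mp hX
    have hXH : X ≤ H := hXP.trans (Subgroup.map_subtype_le _)
    refine not_pRankLE_iff.mpr ⟨A, ?_, hA, hAc⟩ (hI g hgH)
    intro a ha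
    refine ⟨hXH (hAX ha), g⁻¹ * a * g, hXH ?_, by simp [mul_assoc]⟩
    have := (Subgroup.mem_normalizer_iff.mp (inv_mem hgn) a).mp (hAX ha)
    simpa using this

end Cfsg.Agent.S1231
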