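import Cfsg.Statements.S1233
import Cfsg.Agent.Lib.SecRank.CentralProduct

set_option autoImplicit false
open Cfsg

namespace Cfsg.Agent.S1233

open QuaternionGroup

/-- The involution of the quaternion group. -/
abbrev zq : QuaternionGroup 2 := a 2

/-- Equality modulo the diagonal involution. -/
abbrev EqK (p q : QuaternionGroup 2 × QuaternionGroup 2) : Prop := p = q ∨ p = q * (zq, zq)

/-- A cyclic permutation of the three axes `i`, `j`, `k`. -/
def theta : QuaternionGroup 2 → QuaternionGroup 2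
  | a t => xa 0 ^ t.val
  | xa t => a 1 * xa 0 * xa 0 ^ t.val

/-- The preimage of the diagonal subgroup. -/
abbrev InA1 (p : QuaternionGroup 2 × QuaternionGroup 2) : Prop :=
  p.2 = p.1 ∨ p.2 = p.1 * zq

/-- The preimage of the twisted diagonal subgroup. -/
abbrev InA2 (p : QuaternionGroup 2 × QuaternionGroup 2) : Prop :=
  p.2 = theta p.1 ∨ p.2 = theta p.1 * zq

theorem sq_fact : ∀ p : QuaternionGroup 2 × QuaternionGroup 2,
    EqK (p * p) 1 ∨ EqK (p * p) (zq, 1) := by decide +kernel

theorem comm_fact : ∀ p q : QuaternionGroup 2 × QuaternionGroup 2,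
    EqK (p * q) (q * p) ∨ EqK (p * q) (q * p * (zq, 1)) := by decide +kernel

theorem centre_fact : ∀ p : QuaternionGroup 2 × QuaternionGroup 2,
    (∀ q, EqK (p * q) (q * p)) → EqK p 1 ∨ EqK p (zq, 1) := by decide +kernel

theorem kernel_fact : ∀ p : QuaternionGroup 2 × QuaternionGroup 2,
    (∀ b, p.1 * b = b * p.1) → (∀ b, p.2 * b = b * p.2) → p.1 ≠ 1 → p.2 ≠ 1 → p = (zq, zq) := by
  decide +kernel

theorem a1_closed : ∀ p q : QuaternionGroup 2 × QuaternionGroup 2,
    InA1 p → InA1 q → InA1 (p * q) := by decide +kernel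

theorem a2_closed : ∀ p q : QuaternionGroup 2 × QuaternionGroup 2,
    InA2 p → InA2 q → InA2 (p * q) := by decide +kernel

theorem a1_inv : ∀ p : QuaternionGroup 2 × QuaternionGroup 2, InA1 p → InA1 p⁻¹ := by
  decide +kernel

theorem a2_inv : ∀ p : QuaternionGroup 2 × QuaternionGroup 2, InA2 p → InA2 p⁻¹ := by
  decide +kernel

theorem a1_exp : ∀ p : QuaternionGroup 2 × QuaternionGroup 2, InA1 p → EqK (p * p) 1 := by
  decide +kernel

theorem a2_exp : ∀ p : QuaternionGroup 2 × QuaternionGroup 2, InA2 p → EqK (p * p) 1 := by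
  decide +kernel

theorem a1_self : ∀ p : QuaternionGroup 2 × QuaternionGroup 2,
    (∀ q, InA1 q → EqK (p * q) (q * p)) → InA1 p := by decide +kernel

theorem a2_self : ∀ p : QuaternionGroup 2 × QuaternionGroup 2,
    (∀ q, InA2 q → EqK (p * q) (q * p)) → InA2 p := by decide +kernel

theorem a1_card : (Finset.univ.filter InA1).card = 16 := by decide +kernel

theorem a2_card : (Finset.univ.filter InA2).card = 16 := by decide +kernel

theorem a12_fact : ∀ p q : QuaternionGroup 2 × QuaternionGroup 2,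
    InA1 p → InA2 q → EqK p q → EqK p 1 ∨ EqK p (zq, 1) := by decide +kernel


/-- Let S be a finite 2-group and Q a subgroup of order 32 generated by two elementwise-commuting subgroups Q₁, Q₂ each isomorphic to the quaternion group of order 8 (so Q = Q₁ ∗ Q₂). If C_S(Q) ≤ Q, then every section of S has 2-rank at most 4. -/
theorem result {S : Type*} [Group S] [Finite S] (hS : IsPGroup 2 S) (Q Q₁ Q₂ : Subgroup S) (e₁ : Q₁ ≃* QuaternionGroup 2) (e₂ : Q₂ ≃* QuaternionGroup 2) (hcomm : ∀ a ∈ Q₁, ∀ b ∈ Q₂, a * b = b * a) (hQ : Q₁ ⊔ Q₂ = Q) (hQ32 : Nat.card Q = 32) (hC : Subgroup.centralizer (Q : Set S) ≤ Q) : Cfsg.SectionalPRankLE 2 4 S := by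
  classical
  have : Fact (Nat.Prime 2) := ⟨Nat.prime_two⟩
  let f1 : QuaternionGroup 2 →* S := Q₁.subtype.comp e₁.symm.toMonoidHom
  let f2 : QuaternionGroup 2 →* S := Q₂.subtype.comp e₂.symm.toMonoidHom
  let f : QuaternionGroup 2 × QuaternionGroup 2 →* S :=
    MonoidHom.noncommCoprod f1 f2 fun u v => hcomm _ (e₁.symm u).2 _ (e₂.symm v).2
  have hfe : ∀ u v, f (u, v) = f1 u * f2 v := fun u v => rfl
  have hf1i : Function.Injective f1 := Q₁.subtype_injective.comp e₁.symm.injective
  have hf2i : Function.Injective f2 := Q₂.subtype_injective.comp e₂.symm.injective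
  have hr1 : f1.range = Q₁ := by
    refine le_antisymm ?_ fun x hx => ⟨e₁ ⟨x, hx⟩, ?_⟩
    · rintro _ ⟨u, rfl⟩; exact (e₁.symm u).2
    · show ((e₁.symm (e₁ ⟨x, hx⟩)) : S) = x
      rw [MulEquiv.symm_apply_apply]
  have hr2 : f2.range = Q₂ := by
    refine le_antisymm ?_ fun x hx => ⟨e₂ ⟨x, hx⟩, ?_⟩
    · rintro _ ⟨u, rfl⟩; exact (e₂.symm u).2
    · show ((e₂.symm (e₂ ⟨x, hx⟩)) : S) = x
      rw [MulEquiv.symm_apply_apply]
  have hfr : f.range = Q := by
    refine le_antisymm ?_ (hQ ▸ sup_le ?_ ?_)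
    · rintro _ ⟨⟨u, v⟩, rfl⟩
      rw [hfe, ← hQ]
      exact mul_mem (Subgroup.mem_sup_left (e₁.symm u).2) (Subgroup.mem_sup_right (e₂.symm v).2)
    · rw [← hr1]; rintro _ ⟨u, rfl⟩; exact ⟨(u, 1), by rw [hfe, map_one, mul_one]⟩
    · rw [← hr2]; rintro _ ⟨u, rfl⟩; exact ⟨(1, u), by rw [hfe, map_one, one_mul]⟩
  have hfQ : ∀ p, f p ∈ Q := fun p => hfr ▸ ⟨p, rfl⟩
  have hker2 : Nat.card f.ker = 2 := by
    have h1 := Cfsg.Agent.SecRank.card_split f ⊤
    rw [Subgroup.card_top, top_inf_eq, ← MonoidHom.range_eq_map, hfr, hQ32, Nat.card_prod,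
      Nat.card_eq_fintype_card, QuaternionGroup.card] at h1
    omega
  have hkform : ∀ p ∈ f.ker, p = 1 ∨ p = (zq, zq) := by
    rintro ⟨u, v⟩ hp
    rw [MonoidHom.mem_ker, hfe] at hp
    by_cases hu : u = 1
    · left
      subst hu
      rw [map_one, one_mul] at hp
      have hv : v = 1 := hf2i (by rw [hp, map_one])
      rw [hv]; rfl
    by_cases hv : v = 1
    · subst hv
      rw [map_one, mul_one] at hp
      exact absurd (hf1i (by rw [hp, map_one])) hu
    right
    refine kernel_fact (u, v) (fun b => hf1i ?_) (fun b => hf2i ?_) hu hv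
    · rw [map_mul, map_mul, eq_inv_of_mul_eq_one_left hp]
      exact (Commute.inv_left (show Commute (f2 v) (f1 b) from
        (hcomm _ (e₁.symm b).2 _ (e₂.symm v).2).symm)).eq
    · rw [map_mul, map_mul, eq_inv_of_mul_eq_one_right hp]
      exact (Commute.inv_left (show Commute (f1 u) (f2 b) from
        hcomm _ (e₁.symm u).2 _ (e₂.symm b).2)).eq
  have hkey : ∀ p q, f p = f q ↔ EqK p q := by
    have hk : f (zq, zq) = 1 := by
      by_contra hne
      have hle : f.ker ≤ ⊥ := fun p hp => by
        rcases hkform p hp with h | h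
        · rw [h]; exact one_mem _
        · exact absurd (h ▸ hp) hne
      have := Subgroup.card_le_of_le hle
      rw [hker2, Subgroup.card_bot] at this
      omega
    intro p q
    constructor
    · intro h
      have hm : q⁻¹ * p ∈ f.ker := by rw [MonoidHom.mem_ker, map_mul, map_inv, h, inv_mul_cancel]
      rcases hkform _ hm with h' | h'
      · exact Or.inl (inv_mul_eq_one.mp h').symm
      · exact Or.inr (by rw [← h']; group)
    · rintro (rfl | rfl)
      · rfl
      · rw [map_mul, hk, mul_one]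
  have hone : ∀ p, EqK p 1 → f p = 1 := fun p h => ((hkey p 1).mpr h).trans (map_one f)
  set z := f (zq, 1) with hz
  have hmem : ∀ x ∈ Q, ∃ p, f p = x := fun x hx => (hfr ▸ hx : x ∈ f.range)
  have hz1 : z ≠ 1 := fun h => by
    have := (hkey (zq, 1) 1).mp (by rw [← hz, h, map_one])
    revert this; decide
  have hz2 : z * z = 1 := by rw [hz, ← map_mul]; exact hone _ (by decide)
  let D : Cfsg.Agent.SecRank.ESData S :=
    { Q := Q, z := z, pGroup := hS, card_Q := hQ32, zQ := hfQ _, z1 := hz1, z2 := hz2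
      zc := fun v hv => by
        obtain ⟨p, rfl⟩ := hmem v hv
        rw [hz, ← map_mul, ← map_mul, hkey]
        have aux : ∀ p : QuaternionGroup 2 × QuaternionGroup 2,
            EqK (p * (zq, 1)) ((zq, 1) * p) := by decide +kernel
        exact aux p
      sq := fun v hv => by
        obtain ⟨p, rfl⟩ := hmem v hv
        rw [← map_mul]
        rcases sq_fact p with h | h
        · exact Or.inl (hone _ h)
        · exact Or.inr ((hkey _ _).mpr h)
      comm := fun v hv w hw => by
        obtain ⟨p, rfl⟩ := hmem v hv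
        obtain ⟨q, rfl⟩ := hmem w hw
        rcases comm_fact p q with h | h
        · left
          have e := (hkey _ _).mpr h
          simp only [map_mul] at e
          calc (f p)⁻¹ * ((f q)⁻¹ * f p * f q) = (f p)⁻¹ * (f q)⁻¹ * (f p * f q) := by group
            _ = 1 := by rw [e]; group
        · right
          have e := (hkey _ _).mpr h
          simp only [map_mul] at e
          calc (f p)⁻¹ * ((f q)⁻¹ * f p * f q) = (f p)⁻¹ * (f q)⁻¹ * (f p * f q) := by group
            _ = z := by rw [e, hz]; group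
      centre := fun v hv h => by
        obtain ⟨p, rfl⟩ := hmem v hv
        rcases centre_fact p (fun q => (hkey _ _).mp (by rw [map_mul, map_mul]; exact h _ (hfQ q)))
          with h' | h'
        · exact Or.inl (hone _ h')
        · exact Or.inr ((hkey _ _).mpr h') }
  let M1 : Subgroup (QuaternionGroup 2 × QuaternionGroup 2) :=
    { carrier := {p | InA1 p}
      one_mem' := by decide
      mul_mem' := fun {p q} hp hq => a1_closed p q hp hq
      inv_mem' := fun {p} hp => a1_inv p hp }
  let M2 : Subgroup (QuaternionGroup 2 × QuaternionGroup 2) :=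
    { carrier := {p | InA2 p}
      one_mem' := by decide
      mul_mem' := fun {p q} hp hq => a2_closed p q hp hq
      inv_mem' := fun {p} hp => a2_inv p hp }
  have hgood : ∀ (M : Subgroup (QuaternionGroup 2 × QuaternionGroup 2)),
      (zq, 1) ∈ M → (zq, zq) ∈ M → Nat.card M = 16 → (∀ p ∈ M, EqK (p * p) 1) →
      (∀ p, (∀ q ∈ M, EqK (p * q) (q * p)) → p ∈ M) → D.Good (M.map f) := by
    intro M hzM hkM hcard hexp hself
    refine ⟨fun x hx => ?_, ⟨_, hzM, rfl⟩, fun x hx => ?_, ?_, fun x hx h => ?_⟩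
    · obtain ⟨p, -, rfl⟩ := hx; exact hfQ p
    · obtain ⟨p, hp, rfl⟩ := hx
      rw [← map_mul]; exact hone _ (hexp p hp)
    · have h1 := Cfsg.Agent.SecRank.card_split f M
      have hle : f.ker ≤ M := fun p hp => by
        rcases hkform p hp with h | h <;> rw [h]
        · exact one_mem M
        · exact hkM
      rw [inf_eq_right.mpr hle, hker2, hcard] at h1
      omega
    · obtain ⟨p, rfl⟩ := hmem x hx
      exact ⟨p, hself p (fun q hq =>
        (hkey _ _).mp (by rw [map_mul, map_mul]; exact h _ ⟨q, hq, rfl⟩)), rfl⟩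
  have hc1 : Nat.card M1 = 16 := by
    rw [← a1_card, ← Fintype.card_subtype, ← Nat.card_eq_fintype_card]
    rfl
  have hc2 : Nat.card M2 = 16 := by
    rw [← a2_card, ← Fintype.card_subtype, ← Nat.card_eq_fintype_card]
    rfl
  have hg1 := hgood M1 (show InA1 _ by decide) (show InA1 _ by decide) hc1 a1_exp a1_self
  have hg2 := hgood M2 (show InA2 _ by decide) (show InA2 _ by decide) hc2 a2_exp a2_self
  refine Cfsg.Agent.SecRank.sectional_of_sq fun N H hNH => ?_
  have := D.card_le_sixteen hg1 hg2 (fun v hv1 hv2 => ?_) hC hNH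
  · simpa using this
  · obtain ⟨p, hp, rfl⟩ := hv1
    obtain ⟨q, hq, hqp⟩ := hv2
    rcases a12_fact p q hp hq ((hkey p q).mp hqp.symm) with h | h
    · exact Or.inl (hone _ h)
    · exact Or.inr ((hkey _ _).mpr h)

end Cfsg.Agent.S1233
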