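import Cfsg.Statements.S1234
import Cfsg.Agent.Lib.SecRank.SelfCentralizingEight

set_option autoImplicit false
open Cfsg

namespace Cfsg.Agent.S1234

/-- Let S be a finite 2-group and Q ≤ S a subgroup of order 32 having an elementary abelian subgroup E of order 16 and an involution s ∉ E whose centralizer in E has order 4 (so Q ≅ (Z₂ × Z₂) ≀ Z₂). If C_S(Z(Q)) = Q, then every section of S has 2-rank at most 4. -/
theorem result {S : Type*} [Group S] [Finite S] (hS : IsPGroup 2 S) (Q E : Subgroup S) (hEQ : E ≤ Q) (hE : Cfsg.IsElementaryAbelian 2 E) (hE16 : Nat.card E = 16) (hQ32 : Nat.card Q = 32) (s : S) (hsQ : s ∈ Q) (hsE : s ∉ E) (hs : orderOf s = 2) (hfix : Nat.card ↥(E ⊓ Subgroup.centralizer ({s} : Set S)) = 4) (hC : Subgroup.centralizer (((Subgroup.center Q).map Q.subtype : Subgroup S) : Set S) = Q) : Cfsg.SectionalPRankLE 2 4 S := by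
  classical
  have : Fact (Nat.Prime 2) := ⟨Nat.prime_two⟩
  have hexpE : ∀ x ∈ E, x * x = 1 := fun x hx => by rw [← pow_two]; exact hE.2 x hx
  have hEc : ∀ x ∈ E, ∀ y ∈ E, x * y = y * x := fun x hx y hy =>
    Cfsg.Agent.SecRank.comm_of_sq hexpE hx hy
  have hs2 : s * s = 1 := by rw [← pow_two, ← hs, pow_orderOf_eq_one]
  set L := E ⊓ Subgroup.centralizer ({s} : Set S) with hL
  set ZQ := ((Subgroup.center Q).map Q.subtype : Subgroup S) with hZQ
  have hLs : ∀ l ∈ L, l * s = s * l := fun l hl =>
    Subgroup.mem_centralizer_singleton_iff.mp (Subgroup.mem_inf.mp hl).2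
  have hidx : (E.subgroupOf Q).index = 2 := by
    have h1 := Subgroup.card_mul_index (E.subgroupOf Q)
    rw [Nat.card_congr (Subgroup.subgroupOfEquivOfLe hEQ).toEquiv, hE16, hQ32] at h1
    omega
  have hcov : ∀ q ∈ Q, q ∈ E ∨ s * q ∈ E := fun q hq => by
    by_cases h : q ∈ E
    · exact Or.inl h
    · exact Or.inr ((Subgroup.mul_mem_iff_of_index_two hidx (a := ⟨s, hsQ⟩) (b := ⟨q, hq⟩)).mpr
        (iff_of_false hsE h))
  have hback : ∀ q : S, q = s * (s * q) := fun q => by rw [← mul_assoc, hs2, one_mul]
  -- the centre of `Q` centralizes `E` and `s`, so lies in `L`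
  have hZL : ZQ ≤ L := by
    rintro _ ⟨q, hq, rfl⟩
    have hqc : ∀ x ∈ Q, x * (q : S) = q * x := fun x hx =>
      congrArg Subtype.val (Subgroup.mem_center_iff.mp hq ⟨x, hx⟩)
    refine Subgroup.mem_inf.mpr ⟨?_, Subgroup.mem_centralizer_singleton_iff.mpr (hqc s hsQ).symm⟩
    rcases hcov q q.2 with h | h
    · exact h
    exfalso
    have hall : E ≤ L := fun x hx => Subgroup.mem_inf.mpr ⟨hx, by
      rw [Subgroup.mem_centralizer_singleton_iff]
      have h1 := hEc x hx _ h
      calc x * s = x * (s * (q : S)) * (q : S)⁻¹ := by group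
        _ = s * ((q : S) * x) * (q : S)⁻¹ := by rw [h1]; group
        _ = s * (x * (q : S)) * (q : S)⁻¹ := by rw [hqc x (hEQ hx)]
        _ = s * x := by group⟩
    have := Subgroup.card_le_of_le hall
    rw [hfix, hE16] at this
    omega
  -- `A = L × ⟨s⟩` is elementary abelian of order eight and self-centralizing
  let A : Subgroup S :=
    { carrier := {x | x ∈ L ∨ s * x ∈ L}
      one_mem' := Or.inl (one_mem _)
      mul_mem' := by
        rintro p q (hp | hp) (hq | hq)
        · exact Or.inl (mul_mem hp hq)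
        · right
          rw [← mul_assoc, ← hLs p hp, mul_assoc]
          exact mul_mem hp hq
        · right; rw [← mul_assoc]; exact mul_mem hp hq
        · left
          have e : p * q = (s * p) * (s * q) := by
            calc p * q = (s * s) * p * q := by rw [hs2, one_mul]
              _ = s * (s * p) * q := by group
              _ = (s * p) * s * q := by rw [hLs _ hp]
              _ = (s * p) * (s * q) := by group
          rw [e]; exact mul_mem hp hq
      inv_mem' := by
        rintro p (hp | hp)
        · exact Or.inl (inv_mem hp)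
        · right
          have e : s * p⁻¹ = (s * p)⁻¹ := by
            have hps : p * s = s * p := by
              calc p * s = s * (s * p * s) := by
                    rw [show s * (s * p * s) = s * s * (p * s) by group, hs2, one_mul]
                _ = s * (s * (s * p)) := by rw [hLs _ hp]
                _ = s * p := by rw [← mul_assoc s s, hs2, one_mul]
            calc s * p⁻¹ = (p * s)⁻¹ := by rw [mul_inv_rev, inv_eq_of_mul_eq_one_right hs2]
              _ = (s * p)⁻¹ := by rw [hps]
          rw [e]; exact inv_mem hp }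
  have hsA : s ∈ A := Or.inr (by rw [hs2]; exact one_mem _)
  have hLA : L ≤ A := fun x hx => Or.inl hx
  have hAeq : A = L ⊔ Subgroup.zpowers s := by
    refine le_antisymm ?_ (sup_le hLA (Subgroup.zpowers_le.mpr hsA))
    rintro x (hx | hx)
    · exact Subgroup.mem_sup_left hx
    · rw [hback x]
      exact mul_mem (Subgroup.mem_sup_right (Subgroup.mem_zpowers s)) (Subgroup.mem_sup_left hx)
  have hAexp : ∀ x ∈ A, x * x = 1 := by
    rintro x (hx | hx)
    · exact hexpE x (Subgroup.mem_inf.mp hx).1
    · rw [hback x]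
      calc s * (s * x) * (s * (s * x)) = s * ((s * x) * s) * (s * x) := by group
        _ = (s * s) * ((s * x) * (s * x)) := by rw [hLs _ hx]; group
        _ = 1 := by rw [hs2, hexpE _ (Subgroup.mem_inf.mp hx).1, one_mul]
  have hsLc : s ∈ Subgroup.centralizer (L : Set S) :=
    Subgroup.mem_centralizer_iff.mpr fun v hv => hLs v hv
  have hA8 : Nat.card A = 8 := by
    have h1 := Cfsg.Agent.SecRank.card_union_two (H := A) (K := L) s fun x hx => hx
    have h2 : L < A := lt_of_le_of_ne hLA fun he =>
      hsE (Subgroup.mem_inf.mp (he.symm ▸ hsA : s ∈ L)).1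
    have h3 := Cfsg.Agent.PGroup.mul_card_le_card hS h2
    rw [hfix] at h1 h3
    omega
  have hAC : Subgroup.centralizer (A : Set S) = A := by
    refine le_antisymm (fun x hx => ?_) fun x hx => Subgroup.mem_centralizer_iff.mpr fun y hy =>
      Cfsg.Agent.SecRank.comm_of_sq hAexp hy hx
    rw [Subgroup.mem_centralizer_iff] at hx
    have hxQ : x ∈ Q := hC ▸ (Subgroup.mem_centralizer_iff.mpr fun y hy => hx y (hLA (hZL hy)))
    have hxs : x * s = s * x := (hx s hsA).symm
    rcases hcov x hxQ with h | h
    · exact Or.inl (Subgroup.mem_inf.mpr ⟨h, Subgroup.mem_centralizer_singleton_iff.mpr hxs⟩)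
    · exact Or.inr (Subgroup.mem_inf.mpr ⟨h, Subgroup.mem_centralizer_singleton_iff.mpr (by
        rw [mul_assoc, hxs])⟩)
  refine Cfsg.Agent.SecRank.sectional_of_sq fun N H hNH => ?_
  simpa using Cfsg.Agent.SecRank.card_le_sixteen_mul_of_selfCentralizing hS hAexp hA8 hAC hNH

end Cfsg.Agent.S1234
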