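import Cfsg.Statements.S1235
import Cfsg.Agent.Lib.SecRank.FourGroupProduct

set_option autoImplicit false
open Cfsg

namespace Cfsg.Agent.S1235

/-- Let G be a finite group, x an involution and T ≤ G a Sylow 2-subgroup of C_G(x) (T ≤ C_G(x) with |C_G(x) : T| odd) which is the internal direct product of a subgroup D that is dihedral (of order ≥ 4) or quasi-dihedral and a Klein four-subgroup B. Suppose that for every involution b ∈ B, T ≤ C_G(b) with |C_G(b) : T| odd. Then every section of G has 2-rank at most 4. -/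
theorem result {G : Type*} [Group G] [Finite G] (x : G) (hx : orderOf x = 2) (T D B : Subgroup G) (hT : IsPGroup 2 T) (hTx : T ≤ Subgroup.centralizer ({x} : Set G)) (hTxi : Odd (T.relIndex (Subgroup.centralizer ({x} : Set G)))) (hprod : Cfsg.IsInternalDirectProduct D B T) (hD : (∃ m : ℕ, 2 ≤ m ∧ Nonempty (D ≃* DihedralGroup m)) ∨ Cfsg.IsQuasiDihedral D) (hB : IsKleinFour B) (hTb : ∀ b ∈ B, orderOf b = 2 → T ≤ Subgroup.centralizer ({b} : Set G) ∧ Odd (T.relIndex (Subgroup.centralizer ({b} : Set G)))) : Cfsg.SectionalPRankLE 2 4 G := by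
  classical
  have : Fact (Nat.Prime 2) := ⟨Nat.prime_two⟩
  obtain ⟨S, hTS⟩ := hT.exists_le_sylow
  obtain ⟨hDT, hBT, hcomm, hdisj, hsup⟩ := hprod
  refine Cfsg.Agent.SecRank.sectional_of_sylow S fun N H hNH => ?_
  have hgen : ∀ t ∈ T, ∃ d ∈ D, ∃ b ∈ B, d * b = t := fun t ht => by
    have hc : ∀ (a : D) (b : B), Commute (D.subtype a) (B.subtype b) :=
      fun a b => hcomm a a.2 b b.2
    have hφ : (D.subtype.noncommCoprod B.subtype hc).range = T := by
      rw [MonoidHom.noncommCoprod_range, D.range_subtype, B.range_subtype, hsup]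
    obtain ⟨⟨d, b⟩, he⟩ := MonoidHom.mem_range.mp (hφ ▸ ht :
      t ∈ (D.subtype.noncommCoprod B.subtype hc).range)
    exact ⟨d, d.2, b, b.2, he⟩
  have hB4 : Nat.card B = 4 := hB.card_four
  have hBsq : ∀ b ∈ B, b * b = 1 := fun b hb => by
    have := hB
    exact congrArg Subtype.val
      (mul_eq_one_iff_eq_inv.mpr (IsKleinFour.inv_eq_self (⟨b, hb⟩ : B)).symm)
  obtain ⟨r, hcyc, habel⟩ : ∃ r : D, Nat.card D ≤ 2 * orderOf r ∧
      ((∀ a b : D, a * b = b * a) → Nat.card D = 4 ∧ ∀ a : D, a * a = 1) := by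
    rcases hD with ⟨m, hm, ⟨e⟩⟩ | ⟨n, hn, hcard, a, b, ha, hb, hab⟩
    · refine ⟨e.symm (DihedralGroup.r 1), ?_, fun hc => ?_⟩
      · rw [MulEquiv.orderOf_eq, DihedralGroup.orderOf_r_one, Nat.card_congr e.toEquiv,
          DihedralGroup.nat_card]
      · have h1 : (2 : ZMod m) = 0 := by
          have h2 := congrArg e (hc (e.symm (DihedralGroup.r 1)) (e.symm (DihedralGroup.sr 0)))
          simp only [map_mul, MulEquiv.apply_symm_apply, DihedralGroup.r_mul_sr,
            DihedralGroup.sr_mul_r, DihedralGroup.sr.injEq, zero_sub, zero_add] at h2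
          linear_combination -h2
        have hm2 : m = 2 := by
          have := (ZMod.natCast_eq_zero_iff 2 m).mp (by exact_mod_cast h1)
          exact le_antisymm (Nat.le_of_dvd two_pos this) hm
        subst hm2
        refine ⟨by rw [Nat.card_congr e.toEquiv, DihedralGroup.nat_card], fun v => e.injective ?_⟩
        rw [map_mul, map_one]
        revert v
        have : ∀ w : DihedralGroup 2, w * w = 1 := by decide
        exact fun v => this (e v)
    · refine ⟨a, by rw [hcard, ha, pow_succ, mul_comm], fun hc => ?_⟩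
      exfalso
      rw [hc b a, mul_inv_cancel_right] at hab
      have h4 : 4 ≤ 2 ^ (n - 1) :=
        le_trans (by norm_num) (Nat.pow_le_pow_right two_pos (show 2 ≤ n - 1 by omega))
      have h2n : 2 ^ n = 2 * 2 ^ (n - 1) := by
        rw [← pow_succ']
        congr 1
        omega
      have h5 : a ^ (2 ^ (n - 1) - 2) = 1 := by
        refine mul_right_cancel (b := a) ?_
        rw [one_mul, ← pow_succ, show 2 ^ (n - 1) - 2 + 1 = 2 ^ (n - 1) - 1 by omega, ← hab]
      have h6 := Nat.le_of_dvd (by omega) (orderOf_dvd_of_pow_eq_one h5)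
      rw [ha] at h6
      omega
  have hsmall : ∀ b ∈ B, b ≠ 1 → ∀ g ∈ (S : Subgroup G), g * b = b * g → g ∈ T := by
    intro b hb hb1 g hg hgb
    obtain ⟨hTC, hodd⟩ := hTb b hb (orderOf_eq_prime (by rw [pow_two]; exact hBsq b hb) hb1)
    let K : Subgroup G := (S : Subgroup G) ⊓ Subgroup.centralizer ({b} : Set G)
    have hTK : T ≤ K := le_inf hTS hTC
    have hK : IsPGroup 2 K := S.2.to_le inf_le_left
    have hdvd : T.relIndex K ∣ T.relIndex (Subgroup.centralizer ({b} : Set G)) :=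
      Dvd.intro _ (Subgroup.relIndex_mul_relIndex T K _ hTK inf_le_right)
    obtain ⟨m, hm⟩ := hK.index (T.subgroupOf K)
    change T.relIndex K = 2 ^ m at hm
    have h1 : T.relIndex K = 1 := by
      rcases Nat.eq_zero_or_pos m with h0 | h0
      · rw [hm, h0, pow_zero]
      · exact absurd ((dvd_pow_self 2 h0.ne').trans (hm ▸ hdvd)) hodd.not_two_dvd_nat
    exact Subgroup.relIndex_eq_one.mp h1 ⟨hg, Subgroup.mem_centralizer_singleton_iff.mpr hgb⟩
  have hDS : D ≤ (S : Subgroup G) := hDT.trans hTS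
  have hBS : B ≤ (S : Subgroup G) := hBT.trans hTS
  refine Cfsg.Agent.SecRank.card_le_sixteen_of_product S.2 (T.subgroupOf _) (D.subgroupOf _)
    (B.subgroupOf _) (fun _ hv => hBT hv) (fun _ hv => hDT hv) ?_ ?_ ?_ ?_ ?_
    ⟨(r : G), hDS r.2⟩ r.2 ?_ ?_ ?_ hNH |>.trans_eq (by norm_num)
  · intro t ht
    obtain ⟨d, hd, b, hb, he⟩ := hgen t ht
    exact ⟨⟨d, hDS hd⟩, hd, ⟨b, hBS hb⟩, hb, Subtype.ext he⟩
  · rw [eq_bot_iff]
    intro v hv
    have : (v : G) ∈ D ⊓ B := hv
    rw [hdisj, Subgroup.mem_bot] at this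
    exact Subgroup.mem_bot.mpr (Subtype.ext this)
  · exact fun a ha b hb => Subtype.ext (hcomm _ ha _ hb)
  · rw [Nat.card_congr (Subgroup.subgroupOfEquivOfLe hBS).toEquiv, hB4]
  · exact fun b hb => Subtype.ext (hBsq _ hb)
  · rw [Nat.card_congr (Subgroup.subgroupOfEquivOfLe hDS).toEquiv, Subgroup.orderOf_mk,
      Subgroup.orderOf_coe]
    exact hcyc
  · intro hc
    obtain ⟨h4, hexp⟩ := habel fun a b => Subtype.ext
      (congrArg Subtype.val (hc ⟨(a : G), hDS a.2⟩ a.2 ⟨(b : G), hDS b.2⟩ b.2) :)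
    refine ⟨by rw [Nat.card_congr (Subgroup.subgroupOfEquivOfLe hDS).toEquiv, h4], fun a ha => ?_⟩
    exact Subtype.ext (congrArg Subtype.val (hexp ⟨(a : G), ha⟩) :)
  · exact fun b hb hb1 g hg =>
      hsmall (b : G) hb (fun he => hb1 (Subtype.ext he)) g g.2 (congrArg Subtype.val hg)

end Cfsg.Agent.S1235
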