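import Cfsg.Statements.S1236


set_option autoImplicit false
open Cfsg

namespace Cfsg.Agent.S1236

/-- In a group with a cyclic subgroup of index two inverted up to exponent two, the centraliser of
a four-group is the four-group. -/
theorem centralizer_four_le {R : Type*} [Group R] [Finite R] (x : R)
    (hidx : (Subgroup.zpowers x).index = 2) (r : ℤ)
    (hconj : ∀ w ∉ Subgroup.zpowers x, w * x * w⁻¹ = x ^ r)
    (hr : ∀ j : ℤ, x ^ (r * j) = x ^ j → (x ^ j) ^ 2 = 1)
    (V : Subgroup R) (hV : ∀ v ∈ V, v ^ 2 = 1) (hV4 : Nat.card V = 4)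
    (hVc : ∀ a ∈ V, ∀ b ∈ V, a * b = b * a) :
    Subgroup.centralizer (V : Set R) = V := by
  classical
  let W : Set (Subgroup.zpowers x) := {z | z ^ 2 = 1}
  have hW : Nat.card W ≤ 2 := by
    have := Fintype.ofFinite (Subgroup.zpowers x)
    rw [Nat.card_eq_fintype_card]
    calc Fintype.card W = (Finset.univ.filter fun z : Subgroup.zpowers x => z ^ 2 = 1).card :=
          Fintype.card_of_subtype _ (fun z => by simp [W])
      _ ≤ 2 := IsCyclic.card_pow_eq_one_le (by norm_num)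
  -- V is not inside the cyclic subgroup
  obtain ⟨w, hwV, hw⟩ : ∃ w ∈ V, w ∉ Subgroup.zpowers x := by
    by_contra hall
    push Not at hall
    have hinj : Nat.card V ≤ Nat.card W :=
      Nat.card_le_card_of_injective
        (fun v => ⟨⟨v.1, hall v v.2⟩, Subtype.ext (hV v v.2)⟩)
        (fun a b h => Subtype.ext (congrArg (fun z : W => ((z.1 : Subgroup.zpowers x) : R)) h))
    omega
  have hle : V ≤ Subgroup.centralizer (V : Set R) := fun a ha b hb => hVc b hb a ha
  refine (Subgroup.eq_of_le_of_card_ge hle ?_).symm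
  rw [hV4]
  set C := Subgroup.centralizer (V : Set R)
  have h1 : (Subgroup.zpowers x).relIndex C ≤ 2 := by
    have h := Subgroup.relIndex_le_of_le_right (H := Subgroup.zpowers x) (le_top : C ≤ ⊤)
      (by rw [Subgroup.relIndex_top_right, hidx]; norm_num)
    rwa [Subgroup.relIndex_top_right, hidx] at h
  have h2 : Nat.card ((Subgroup.zpowers x).subgroupOf C) ≤ 2 := by
    refine le_trans ?_ hW
    refine Nat.card_le_card_of_injective (fun c => ⟨⟨(c.1 : R), c.2⟩, ?_⟩) (fun a b h =>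
      Subtype.ext (Subtype.ext (congrArg (fun z : W => ((z.1 : Subgroup.zpowers x) : R)) h)))
    obtain ⟨j, hj⟩ : ((c.1 : R)) ∈ Subgroup.zpowers x := c.2
    change x ^ j = (c.1 : R) at hj
    refine Subtype.ext (?_ : ((c.1 : R)) ^ 2 = 1)
    rw [← hj]
    refine hr j ?_
    have hcw : w * (c.1 : R) = (c.1 : R) * w := (c.1).2 w hwV
    have h3 : w * x ^ j * w⁻¹ = x ^ j := by
      rw [hj, hcw, mul_inv_cancel_right]
    rw [zpow_mul, ← hconj w hw, conj_zpow, h3]
  have h3 := Subgroup.card_mul_index ((Subgroup.zpowers x).subgroupOf C)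
  rw [← h3]
  calc Nat.card ((Subgroup.zpowers x).subgroupOf C) * ((Subgroup.zpowers x).subgroupOf C).index
      ≤ 2 * 2 := Nat.mul_le_mul h2 h1
    _ = 4 := rfl

theorem dihedral_or_quasiDihedral {R : Type*} [Group R] [Finite R]
    (hq : (∃ m : ℕ, 2 ≤ m ∧ Nonempty (R ≃* DihedralGroup m)) ∨ Cfsg.IsQuasiDihedral R) :
    ∃ (x : R) (r : ℤ), (Subgroup.zpowers x).index = 2 ∧
      (∀ w ∉ Subgroup.zpowers x, w * x * w⁻¹ = x ^ r) ∧
      (∀ j : ℤ, x ^ (r * j) = x ^ j → (x ^ j) ^ 2 = 1) := by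
  -- it suffices to know one element outside
  have suff : ∀ (x y : R) (r : ℤ), (Subgroup.zpowers x).index = 2 → y ∉ Subgroup.zpowers x →
      y * x * y⁻¹ = x ^ r → ∀ w ∉ Subgroup.zpowers x, w * x * w⁻¹ = x ^ r := by
    intro x y r hidx hy hyx w hw
    have h : y⁻¹ * w ∈ Subgroup.zpowers x := by
      rw [Subgroup.mul_mem_iff_of_index_two hidx, inv_mem_iff]
      exact iff_of_false hy hw
    obtain ⟨i, hi⟩ := h
    have hw' : w = y * x ^ i := by
      change x ^ i = y⁻¹ * w at hi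
      rw [hi, mul_inv_cancel_left]
    rw [hw', mul_inv_rev, ← hyx]
    group
  rcases hq with ⟨m, hm, ⟨e⟩⟩ | ⟨n, hn, hcard, x, y, hx, hy, hyx⟩
  · haveI : NeZero m := ⟨by omega⟩
    have hord : orderOf (e.symm (DihedralGroup.r 1)) = m := by
      rw [MulEquiv.orderOf_eq, DihedralGroup.orderOf_r_one]
    refine ⟨e.symm (DihedralGroup.r 1), -1, ?_, suff _ (e.symm (DihedralGroup.sr 0)) _ ?_ ?_ ?_, ?_⟩
    all_goals try
      (have h := (Subgroup.zpowers (e.symm (DihedralGroup.r 1))).index_mul_card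
       rw [Nat.card_zpowers, hord, Nat.card_congr e.toEquiv, DihedralGroup.nat_card] at h
       exact Nat.eq_of_mul_eq_mul_right (by omega) h)
    · rintro ⟨i, hi⟩
      change e.symm (DihedralGroup.r 1) ^ i = e.symm (DihedralGroup.sr 0) at hi
      rw [← map_zpow, e.symm.injective.eq_iff, DihedralGroup.r_one_zpow] at hi
      cases hi
    · rw [← map_mul, ← map_inv, ← map_mul, zpow_neg_one, ← map_inv]
      congr 1
      simp
    · intro j hj
      rw [neg_one_mul, zpow_neg, inv_eq_iff_mul_eq_one] at hj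
      rwa [sq]
  · have hidx : (Subgroup.zpowers x).index = 2 := by
      have h := (Subgroup.zpowers x).index_mul_card
      rw [Nat.card_zpowers, hx, hcard, pow_succ'] at h
      exact Nat.eq_of_mul_eq_mul_right (by positivity) h
    have hr : ∀ j : ℤ, x ^ ((((2 ^ (n - 1) - 1 : ℕ)) : ℤ) * j) = x ^ j → (x ^ j) ^ 2 = 1 := by
      intro j hj
      have hd : ((2 : ℤ) ^ n) ∣ (((2 ^ (n - 1) - 1 : ℕ) : ℤ) - 1) * j := by
        have := orderOf_dvd_iff_zpow_eq_one.mpr (show x ^ ((((2 ^ (n - 1) - 1 : ℕ) : ℤ)) * j - j) = 1 by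
          rw [zpow_sub, hj, mul_inv_cancel])
        rw [hx] at this
        push_cast at this
        rw [sub_mul, one_mul]
        exact this
      obtain ⟨k, rfl⟩ : ∃ k, n = k + 3 := ⟨n - 3, by omega⟩
      have e : (((2 ^ (k + 3 - 1) - 1 : ℕ) : ℤ) - 1) = 2 * (2 ^ (k + 1) - 1) := by
        rw [Nat.cast_sub (Nat.one_le_two_pow)]
        push_cast
        rw [show k + 2 = (k + 1) + 1 from rfl, pow_succ]
        ring
      rw [e, mul_assoc, mul_comm (2 : ℤ), pow_succ, mul_dvd_mul_iff_right (by norm_num)] at hd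
      have hcop : IsCoprime ((2 : ℤ) ^ (k + 2)) (2 ^ (k + 1) - 1) := by
        apply IsCoprime.pow_left
        exact ⟨2 ^ k, -1, by ring⟩
      obtain ⟨c, hc⟩ := hcop.dvd_of_dvd_mul_left hd
      rw [← zpow_natCast, ← zpow_mul, ← orderOf_dvd_iff_zpow_eq_one, hx]
      push_cast
      exact ⟨c, by rw [hc, pow_succ (2 : ℤ) (k + 2)]; ring⟩
    have hy1 : y ∉ Subgroup.zpowers x := by
      rintro ⟨i, rfl⟩
      have h1 : x ^ i * x * (x ^ i)⁻¹ = x := by group
      rw [h1] at hyx
      have h2 := hr 1 (by rw [mul_one, zpow_natCast, ← hyx, zpow_one])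
      rw [zpow_one] at h2
      have h3 := orderOf_dvd_of_pow_eq_one h2
      rw [hx] at h3
      have := Nat.le_of_dvd two_pos h3
      have : 2 ^ 3 ≤ 2 ^ n := Nat.pow_le_pow_right two_pos hn
      omega
    exact ⟨x, _, hidx, suff x y _ hidx hy1 (by rw [hyx, zpow_natCast]), hr⟩

/-- Let R be a finite group, t a central involution of R such that R ⧸ ⟨t⟩ is dihedral (of order ≥ 4) or quasi-dihedral, and A ≤ R an elementary abelian subgroup of order 8 containing t. Then C_R(A) = A. -/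
theorem result {R : Type*} [Group R] [Finite R] (t : R) (ht : orderOf t = 2) (htz : t ∈ Subgroup.center R) [(Subgroup.zpowers t).Normal] (hq : (∃ m : ℕ, 2 ≤ m ∧ Nonempty (R ⧸ Subgroup.zpowers t ≃* DihedralGroup m)) ∨ Cfsg.IsQuasiDihedral (R ⧸ Subgroup.zpowers t)) (A : Subgroup R) (hA : Cfsg.IsElementaryAbelian 2 A) (hA8 : Nat.card A = 8) (htA : t ∈ A) : Subgroup.centralizer (A : Set R) = A := by
  set q := QuotientGroup.mk' (Subgroup.zpowers t)
  obtain ⟨x, r, hidx, hconj, hr⟩ := dihedral_or_quasiDihedral hq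
  haveI := hA.1
  have htA' : Subgroup.zpowers t ≤ A := Subgroup.zpowers_le.mpr htA
  have hcom : (A.map q).comap q = A := by
    rw [Subgroup.comap_map_eq, QuotientGroup.ker_mk']
    exact sup_eq_left.mpr htA'
  have hV4 : Nat.card (A.map q) = 4 := by
    have h := Subgroup.card_mul_index ((Subgroup.zpowers t).subgroupOf A)
    rw [Nat.card_congr (Subgroup.subgroupOfEquivOfLe htA').toEquiv, Nat.card_zpowers, ht, hA8] at h
    have h2 : (Subgroup.zpowers t).relIndex A = Nat.card (A.map q) := by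
      conv_lhs => rw [← QuotientGroup.ker_mk' (Subgroup.zpowers t)]
      exact Subgroup.relIndex_ker A q
    have h3 : (Subgroup.zpowers t).relIndex A = ((Subgroup.zpowers t).subgroupOf A).index := rfl
    omega
  have hV := centralizer_four_le x hidx r hconj hr (A.map q)
    (by
      rintro _ ⟨a, ha, rfl⟩
      rw [← map_pow, hA.2 a ha, map_one])
    hV4
    (by
      rintro _ ⟨a, ha, rfl⟩ _ ⟨b, hb, rfl⟩
      rw [← map_mul, ← map_mul]
      exact congrArg q (congrArg Subtype.val (mul_comm' (⟨a, ha⟩ : A) ⟨b, hb⟩)))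
  refine le_antisymm (fun c hc => ?_) (fun a ha b hb =>
    congrArg Subtype.val (mul_comm' (⟨b, hb⟩ : A) ⟨a, ha⟩))
  rw [← hcom, Subgroup.mem_comap, ← hV]
  rintro _ ⟨a, ha, rfl⟩
  rw [← map_mul, ← map_mul, hc a ha]

end Cfsg.Agent.S1236
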