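import Cfsg.Statements.S1241
import Cfsg.Agent.Lib.Transfer.EvalPow

set_option autoImplicit false
open Cfsg

namespace Cfsg.Agent.S1241

/-- Let G be a finite group, p a prime, H a subgroup of index prime to p, K a subgroup of H normal in H with H/K commutative, and g ∈ H ∖ K an element of p-power order such that for all integers m and all a ∈ G with a g^m a⁻¹ ∈ H one has a g^m a⁻¹ ∈ g^m K. Then g ∉ G'. -/
theorem result {G : Type*} [Group G] [Finite G] {p : ℕ} [Fact p.Prime] (H K : Subgroup G) (hHK : K ≤ H) (hKn : (K.subgroupOf H).Normal) (hab : ∀ x ∈ H, ∀ y ∈ H, x * y * x⁻¹ * y⁻¹ ∈ K) (hidx : Nat.Coprime p H.index) (g : G) (hgH : g ∈ H) (hgK : g ∉ K) (hgp : ∃ k : ℕ, orderOf g = p ^ k) (hctrl : ∀ (m : ℤ) (a : G), a * g ^ m * a⁻¹ ∈ H → (a * g ^ m * a⁻¹) * (g ^ m)⁻¹ ∈ K) : g ∉ commutator G := by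
  intro hgG
  haveI := hKn
  let _ : CommGroup (↥H ⧸ K.subgroupOf H) :=
    { (inferInstance : Group (↥H ⧸ K.subgroupOf H)) with
      mul_comm := fun a b => by
        obtain ⟨a, rfl⟩ := QuotientGroup.mk_surjective a
        obtain ⟨b, rfl⟩ := QuotientGroup.mk_surjective b
        rw [← QuotientGroup.mk_mul, ← QuotientGroup.mk_mul, QuotientGroup.eq,
          Subgroup.mem_subgroupOf]
        have := hab _ (inv_mem b.2) _ (inv_mem a.2)
        simpa [mul_assoc] using this }
  set φ := QuotientGroup.mk' (K.subgroupOf H)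
  have hV : MonoidHom.transfer φ g = φ ⟨g, hgH⟩ ^ H.index := by
    refine Cfsg.Agent.Transfer.transfer_apply_eq_pow_index φ hgH fun k g₀ h => ?_
    rw [← map_pow]
    show QuotientGroup.mk' _ _ = QuotientGroup.mk' _ _
    rw [← div_eq_one, ← map_div, QuotientGroup.mk'_apply, QuotientGroup.eq_one_iff,
      Subgroup.mem_subgroupOf]
    have := hctrl k g₀⁻¹ (by simpa using h)
    simpa [div_eq_mul_inv] using this
  have h1 : MonoidHom.transfer φ g = 1 := Abelianization.commutator_subset_ker _ hgG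
  obtain ⟨k, hk⟩ := hgp
  have h2 : φ ⟨g, hgH⟩ = 1 := by
    rw [← orderOf_eq_one_iff]
    refine Nat.eq_one_of_dvd_coprimes (hidx.pow_left k) ?_
      (orderOf_dvd_of_pow_eq_one (hV.symm.trans h1))
    rw [← hk]
    refine (orderOf_map_dvd φ ⟨g, hgH⟩).trans ?_
    rw [← Subgroup.orderOf_coe]
  rw [QuotientGroup.mk'_apply, QuotientGroup.eq_one_iff, Subgroup.mem_subgroupOf] at h2
  exact hgK h2

end Cfsg.Agent.S1241
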