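import Cfsg.Statements.S1242
import Cfsg.Agent.Lib.Transfer.EvalPow
import Cfsg.Agent.Lib.Transfer.Residual

set_option autoImplicit false
open Cfsg

namespace Cfsg.Agent.S1242

/-- Let G be a finite group, p a prime and H a subgroup of index prime to p such that any two elements of H of p-power order that are conjugate in G are conjugate in H. Then (O^p(G)·G') ∩ H = O^p(H)·H', where O^p denotes the subgroup generated by the elements of order prime to p. -/
theorem result {G : Type*} [Group G] [Finite G] {p : ℕ} [Fact p.Prime] (H : Subgroup G) (hidx : Nat.Coprime p H.index) (hfus : ∀ g ∈ H, (∃ k : ℕ, orderOf g = p ^ k) → ∀ a : G, a * g * a⁻¹ ∈ H → ∃ h ∈ H, h * g * h⁻¹ = a * g * a⁻¹) : (Cfsg.pResidual p G ⊔ commutator G) ⊓ H = (Cfsg.pResidual p ↥H ⊔ commutator ↥H).map H.subtype := by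
  set K : Subgroup ↥H := Cfsg.pResidual p ↥H ⊔ commutator ↥H with hK
  haveI : K.Normal := Subgroup.Normal.of_commutator_le ↥H le_sup_right
  apply le_antisymm
  · rintro x ⟨hx, hxH⟩
    refine ⟨⟨x, hxH⟩, ?_, rfl⟩
    let _ : CommGroup (↥H ⧸ K) :=
      { (inferInstance : Group (↥H ⧸ K)) with
        mul_comm := fun a b => by
          obtain ⟨a, rfl⟩ := QuotientGroup.mk_surjective a
          obtain ⟨b, rfl⟩ := QuotientGroup.mk_surjective b
          rw [← QuotientGroup.mk_mul, ← QuotientGroup.mk_mul, QuotientGroup.eq]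
          apply le_sup_right (a := Cfsg.pResidual p ↥H)
          have := Subgroup.commutator_mem_commutator (G := ↥H) (H₁ := ⊤) (H₂ := ⊤)
            (Subgroup.mem_top b⁻¹) (Subgroup.mem_top a⁻¹)
          rw [← _root_.commutator_def] at this
          simpa [commutatorElement_def, mul_assoc] using this }
    set φ := QuotientGroup.mk' K
    haveI : (Cfsg.pResidual p ↥H).Normal := Cfsg.Agent.Transfer.pResidual_normal p
    have hp : IsPGroup p (↥H ⧸ K) := by
      refine (Cfsg.Agent.Transfer.isPGroup_quotient_pResidual (G := ↥H) p).of_surjective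
        (QuotientGroup.map (Cfsg.pResidual p ↥H) K (MonoidHom.id _) le_sup_left) ?_
      intro q
      obtain ⟨a, rfl⟩ := QuotientGroup.mk_surjective q
      exact ⟨QuotientGroup.mk a, rfl⟩
    have hker : Cfsg.pResidual p G ⊔ commutator G ≤ (MonoidHom.transfer φ).ker :=
      sup_le (Cfsg.Agent.Transfer.pResidual_le_ker _ hp) (Abelianization.commutator_subset_ker _)
    have hcop : ∀ (y : ↥H ⧸ K) (m : ℕ), Nat.Coprime p m → y ^ m = 1 → y = 1 := fun y m hm h => by
      obtain ⟨k, hk⟩ := hp y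
      rw [← orderOf_eq_one_iff]
      exact Nat.eq_one_of_dvd_coprimes (hm.pow_left k) (orderOf_dvd_of_pow_eq_one hk)
        (orderOf_dvd_of_pow_eq_one h)
    -- the p-part of x
    have hx0 : orderOf x ≠ 0 := (orderOf_pos x).ne'
    obtain ⟨a, m, hm, hxo⟩ := Nat.exists_eq_pow_mul_and_not_dvd hx0 p (Fact.out : p.Prime).ne_one
    have hym : x ^ m ∈ Cfsg.pResidual p G ⊔ commutator G := pow_mem hx _
    have hyp : ∃ k : ℕ, orderOf (x ^ m) = p ^ k := by
      refine ⟨a, ?_⟩
      rw [orderOf_pow, hxo, Nat.gcd_mul_left_left, Nat.mul_div_cancel]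
      exact Nat.pos_of_ne_zero fun h => hm (h ▸ dvd_zero p)
    have hV : MonoidHom.transfer φ (x ^ m) = φ ⟨x ^ m, pow_mem hxH m⟩ ^ H.index := by
      refine Cfsg.Agent.Transfer.transfer_apply_eq_pow_index φ _ fun k g₀ h => ?_
      have hpk : ∃ j : ℕ, orderOf ((x ^ m) ^ k) = p ^ j := by
        obtain ⟨j, hj⟩ := hyp
        obtain ⟨i, -, hi⟩ := (Nat.dvd_prime_pow (Fact.out : p.Prime)).mp
          (hj ▸ orderOf_pow_dvd (x := x ^ m) k)
        exact ⟨i, hi⟩
      obtain ⟨b, hb, hbe⟩ := hfus _ (pow_mem (pow_mem hxH m) k) hpk g₀⁻¹ (by simpa using h)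
      rw [← map_pow]
      have e : (⟨g₀⁻¹ * (x ^ m) ^ k * g₀, h⟩ : ↥H) =
          ⟨b, hb⟩ * ⟨x ^ m, pow_mem hxH m⟩ ^ k * (⟨b, hb⟩ : ↥H)⁻¹ :=
        Subtype.ext (by simpa using hbe.symm)
      rw [e, map_mul, map_mul, map_inv, mul_right_comm, mul_inv_cancel, one_mul]
    have h1 : φ ⟨x ^ m, pow_mem hxH m⟩ = 1 :=
      hcop _ _ hidx (hV.symm.trans (hker hym))
    have h2 : φ ⟨x, hxH⟩ = 1 := by
      refine hcop _ m ((Nat.Prime.coprime_iff_not_dvd Fact.out).mpr hm) ?_
      rw [← map_pow]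
      exact h1
    exact (QuotientGroup.eq_one_iff _).mp h2
  · refine le_inf ?_ (Subgroup.map_subtype_le _)
    rw [Subgroup.map_sup]
    refine sup_le_sup (Cfsg.Agent.Transfer.map_residual_subtype_le H p) ?_
    rw [_root_.commutator_def, _root_.commutator_def, Subgroup.map_commutator]
    exact Subgroup.commutator_mono le_top le_top

end Cfsg.Agent.S1242
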