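import Cfsg.Statements.S1244
import Cfsg.Agent.Lib.Transfer.EvalPow
import Cfsg.Agent.Lib.Transfer.Fusion
import Cfsg.Agent.Lib.PGroup.Basic

set_option autoImplicit false
open Cfsg

namespace Cfsg.Agent.S1244

open scoped IsMulCommutative in
theorem aux_fixed {G : Type*} [Group G] [Finite G] (hG : ∀ H : Subgroup G, H.index ≠ 2)
    (S : Sylow 2 G) (hS : IsMulCommutative (S : Subgroup G)) (z : G) (hz : z ∈ S)
    (hfix : ∀ n ∈ Subgroup.normalizer ((S : Subgroup G) : Set G), n * z * n⁻¹ = z) : z = 1 := by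
  haveI := hS
  have hV : MonoidHom.transfer (MonoidHom.id (S : Subgroup G)) z
      = (⟨z, hz⟩ : (S : Subgroup G)) ^ (S : Subgroup G).index := by
    refine Cfsg.Agent.Transfer.transfer_apply_eq_pow_index _ hz fun k g₀ h => ?_
    obtain ⟨n, hn, he⟩ := Cfsg.Agent.Transfer.controlsElementFusion_normalizer_of_isMulCommutative
      S hS (z ^ k) (pow_mem hz k) g₀⁻¹ (by simpa using h)
    apply Subtype.ext
    simp only [MonoidHom.id_apply, SubmonoidClass.coe_pow]
    rw [inv_inv] at he
    rw [← he]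
    have := congrArg (fun y => y ^ k) (hfix n hn)
    simpa [conj_pow] using this
  have h1 : MonoidHom.transfer (MonoidHom.id (S : Subgroup G)) z = 1 :=
    Abelianization.commutator_subset_ker _ (Cfsg.Agent.Transfer.sylow_two_le_commutator hG S hz)
  have h2 : (⟨z, hz⟩ : (S : Subgroup G)) = 1 := by
    obtain ⟨k, hk⟩ := S.2 ⟨z, hz⟩
    rw [← orderOf_eq_one_iff]
    exact Nat.eq_one_of_dvd_coprimes
      (((Nat.Prime.coprime_iff_not_dvd Nat.prime_two).mpr S.not_dvd_index).pow_left k)
      (orderOf_dvd_of_pow_eq_one hk) (orderOf_dvd_of_pow_eq_one (hV.symm.trans h1))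
  simpa using h2

open scoped IsMulCommutative in
/-- Let G be a finite group with no subgroup of index 2 whose Sylow 2-subgroup S is commutative, and let R ≤ S be a subgroup whose 2-rank is exactly one less than the 2-rank r of S. Then every involution of S is conjugate, by an element of N_G(S), to an element of R. -/
theorem result {G : Type*} [Group G] [Finite G] (hG : ∀ H : Subgroup G, H.index ≠ 2) (S : Sylow 2 G) (hS : IsMulCommutative (S : Subgroup G)) (r : ℕ) (hr1 : 1 ≤ r) (hSr : Cfsg.PRankLE 2 r (S : Subgroup G) ∧ ¬ Cfsg.PRankLE 2 (r - 1) (S : Subgroup G)) (R : Subgroup G) (hRS : R ≤ S) (hRr : Cfsg.PRankLE 2 (r - 1) R ∧ (r = 1 ∨ ¬ Cfsg.PRankLE 2 (r - 2) R)) (t : G) (ht : orderOf t = 2) (htS : t ∈ S) : ∃ n ∈ Subgroup.normalizer ((S : Subgroup G) : Set G), n * t * n⁻¹ ∈ R := by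
  haveI := hS
  haveI : Fact (Nat.Prime 2) := ⟨Nat.prime_two⟩
  -- Ω₁(S) and its hyperplane inside R
  let Ω : Subgroup (S : Subgroup G) :=
    { carrier := {x | x ^ 2 = 1}
      one_mem' := one_pow 2
      mul_mem' := fun {a b} ha hb => by
        show (a * b) ^ 2 = 1
        rw [Commute.mul_pow (mul_comm' a b), ha, hb, one_mul]
      inv_mem' := fun {a} ha => by
        show a⁻¹ ^ 2 = 1
        rw [inv_pow, ha, inv_one] }
  let M : Subgroup (S : Subgroup G) := Ω ⊓ R.subgroupOf S
  have hΩc : IsMulCommutative Ω := inferInstance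
  have hΩe : ∀ a ∈ Ω, a ^ 2 = 1 := fun a ha => ha
  have hΩle : Nat.card Ω ≤ 2 ^ r := hSr.1 Ω hΩc hΩe
  have hΩgt : 2 ^ (r - 1) < Nat.card Ω := by
    by_contra hle
    refine hSr.2 fun A _ hAe => (Subgroup.card_le_of_le ?_).trans (not_lt.mp hle)
    exact fun a ha => hAe a ha
  have hΩcard : Nat.card Ω = 2 ^ r := by
    obtain ⟨j, hj⟩ := Cfsg.Agent.PGroup.card_eq_pow S.2 Ω
    rw [hj] at hΩle hΩgt ⊢
    have h1 := (Nat.pow_le_pow_iff_right (le_refl 2)).mp hΩle
    have h2 := (Nat.pow_lt_pow_iff_right (le_refl 2)).mp hΩgt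
    rw [show j = r by omega]
  have hMcard : Nat.card M = 2 ^ (r - 1) := by
    have eM : Nat.card M = Nat.card ↥((M.map (S : Subgroup G).subtype).subgroupOf R) := by
      rw [Nat.card_congr (Subgroup.subgroupOfEquivOfLe ?_).toEquiv,
        Subgroup.card_map_of_injective (S : Subgroup G).subtype_injective]
      rintro _ ⟨y, hy, rfl⟩
      exact hy.2
    have hle : Nat.card M ≤ 2 ^ (r - 1) := by
      rw [eM]
      refine hRr.1 _ ⟨⟨fun a b => ?_⟩⟩ ?_
      · apply Subtype.ext
        apply Subtype.ext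
        obtain ⟨y, -, hy⟩ := a.2
        obtain ⟨w, -, hw⟩ := b.2
        show ((a : R) : G) * ((b : R) : G) = ((b : R) : G) * ((a : R) : G)
        change (y : G) = ((a : R) : G) at hy
        change (w : G) = ((b : R) : G) at hw
        rw [← hy, ← hw]
        exact congrArg Subtype.val (mul_comm' y w)
      · rintro ⟨a, haR⟩ ⟨y, hy, hya⟩
        apply Subtype.ext
        change (y : G) = a at hya
        show a ^ 2 = 1
        rw [← hya]
        exact congrArg Subtype.val hy.1
    obtain ⟨j, hj⟩ := Cfsg.Agent.PGroup.card_eq_pow S.2 M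
    rcases hRr.2 with hr | hR2
    · subst hr
      simp only [Nat.sub_self, pow_zero] at hle ⊢
      have : 0 < Nat.card M := Nat.card_pos
      omega
    · have hlt : 2 ^ (r - 2) < Nat.card M := by
        by_contra hle'
        refine hR2 fun A _ hAe => le_trans ?_ (not_lt.mp hle')
        rw [← Subgroup.card_map_of_injective (R.subtype_injective),
          ← Subgroup.card_map_of_injective (S : Subgroup G).subtype_injective]
        refine Subgroup.card_le_of_le ?_
        rintro _ ⟨a, ha, rfl⟩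
        refine ⟨⟨a, hRS a.2⟩, ⟨?_, a.2⟩, rfl⟩
        apply Subtype.ext
        show ((a : G)) ^ 2 = 1
        exact congrArg Subtype.val (hAe a ha)
      rw [hj] at hle hlt ⊢
      have h1 := (Nat.pow_le_pow_iff_right (le_refl 2)).mp hle
      have h2 := (Nat.pow_lt_pow_iff_right (le_refl 2)).mp hlt
      rw [show j = r - 1 by omega]
  have hidx : (M.subgroupOf Ω).index = 2 := by
    have h1 := (M.subgroupOf Ω).index_mul_card
    rw [Nat.card_congr (Subgroup.subgroupOfEquivOfLe (inf_le_left : M ≤ Ω)).toEquiv, hΩcard,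
      hMcard] at h1
    have h2 : 2 ^ r = 2 * 2 ^ (r - 1) := by
      rw [← pow_succ', show r - 1 + 1 = r by omega]
    rw [h2] at h1
    exact Nat.eq_of_mul_eq_mul_right (by positivity) h1
  by_contra hcon
  push Not at hcon
  set N := Subgroup.normalizer ((S : Subgroup G) : Set G)
  have hconj : ∀ n : N, (n : G) * t * (n : G)⁻¹ ∈ (S : Subgroup G) := fun n =>
    (Subgroup.mem_normalizer_iff.mp n.2 t).mp htS
  have hconjΩ : ∀ n : N, (⟨_, hconj n⟩ : (S : Subgroup G)) ∈ Ω := fun n => by
    apply Subtype.ext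
    show ((n : G) * t * (n : G)⁻¹) ^ 2 = 1
    have h2 : t * t = 1 := by rw [← sq]; exact ht ▸ pow_orderOf_eq_one t
    rw [sq, show (n : G) * t * (n : G)⁻¹ * ((n : G) * t * (n : G)⁻¹) = (n : G) * (t * t) * (n : G)⁻¹ by group, h2]
    group
  let f : N → Ω := fun n => ⟨⟨_, hconj n⟩, hconjΩ n⟩
  have hcomm : ∀ s ∈ (S : Subgroup G), s * t * s⁻¹ = t := fun s hs => by
    have := congrArg Subtype.val (mul_comm' (⟨s, hs⟩ : (S : Subgroup G)) ⟨t, htS⟩)
    simp only [Subgroup.coe_mul] at this
    rw [this, mul_inv_cancel_right]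
  let S' : Subgroup N := (S : Subgroup G).subgroupOf N
  have hwd : ∀ a b : N, (QuotientGroup.leftRel S') a b → f a = f b := by
    intro a b hab
    rw [QuotientGroup.leftRel_apply] at hab
    have h1 := hcomm ((a : G)⁻¹ * b) hab
    apply Subtype.ext
    apply Subtype.ext
    show (a : G) * t * (a : G)⁻¹ = (b : G) * t * (b : G)⁻¹
    conv_lhs => rw [← h1]
    group
  let F : N ⧸ S' → Ω := Quotient.lift f hwd
  have hF : ∀ q, F q ∉ M.subgroupOf Ω := by
    intro q hq
    obtain ⟨n, rfl⟩ := QuotientGroup.mk_surjective q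
    exact hcon n n.2 hq.2
  let _ : Fintype (N ⧸ S') := Fintype.ofFinite _
  let z : Ω := ∏ q, F q
  have hodd : Odd (Fintype.card (N ⧸ S')) := by
    rw [← Nat.card_eq_fintype_card, ← Subgroup.index_eq_card, ← Nat.not_even_iff_odd,
      even_iff_two_dvd]
    have hSN : (S : Subgroup G) ≤ N := Subgroup.le_normalizer
    exact (S.subtype hSN).not_dvd_index
  have hz : ∀ s : Finset (N ⧸ S'), ((∏ q ∈ s, F q) ∈ M.subgroupOf Ω ↔ Even s.card) := by
    intro s
    classical
    induction s using Finset.induction with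
    | empty => simp
    | insert a s ha ih =>
      rw [Finset.prod_insert ha, Subgroup.mul_mem_iff_of_index_two hidx, Finset.card_insert_of_notMem ha,
        Nat.even_add_one, ih]
      simp [hF a]
  have hz1 : z ∉ M.subgroupOf Ω := fun h => Nat.not_even_iff_odd.mpr hodd ((hz _).mp h)
  have hne : ((z : (S : Subgroup G)) : G) ≠ 1 := fun h => hz1 <| by
    have : z = 1 := Subtype.ext (Subtype.ext h)
    rw [this]
    exact one_mem _
  refine hne (aux_fixed hG S hS _ (z : (S : Subgroup G)).2 fun n hn => ?_)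
  let c : Ω →* G := ((MulAut.conj n).toMonoidHom.comp (S : Subgroup G).subtype).comp Ω.subtype
  let i : Ω →* G := (S : Subgroup G).subtype.comp Ω.subtype
  have hni : ∀ w : Ω, n * i w * n⁻¹ ∈ (S : Subgroup G) := fun w =>
    (Subgroup.mem_normalizer_iff.mp hn _).mp (w : (S : Subgroup G)).2
  let ψ : Ω →* Ω :=
    { toFun := fun w => ⟨⟨_, hni w⟩, by
        apply Subtype.ext
        simp [i, conj_pow, show ((w : (S : Subgroup G)) : G) ^ 2 = 1 from congrArg Subtype.val w.2]⟩
      map_one' := by ext; simp [i]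
      map_mul' := fun a b => by ext; simp [i] }
  have hFψ : ∀ q, ψ (F q) = F ((⟨n, hn⟩ : N) • q) := by
    intro q
    obtain ⟨w, rfl⟩ := QuotientGroup.mk_surjective q
    apply Subtype.ext
    apply Subtype.ext
    show n * ((w : G) * t * (w : G)⁻¹) * n⁻¹ = n * w * t * (n * w)⁻¹
    group
  have hψ : ψ z = z := by
    simp only [z, map_prod, hFψ]
    exact Fintype.prod_equiv (MulAction.toPerm (⟨n, hn⟩ : N)) _ _ fun q => rfl
  exact congrArg (fun w : Ω => ((w : (S : Subgroup G)) : G)) hψ

end Cfsg.Agent.S1244
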