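import Cfsg.Statements.S1246
import Cfsg.Agent.Lib.LocalChar.Basic
-- import your own Cfsg.Agent.* helpers here

set_option autoImplicit false
open Cfsg

namespace Cfsg.Agent.S1246

open Cfsg.Agent.Components Subgroup
open scoped commutatorElement

/-- Let V ≤ U be p-subgroups of the finite group G. If the generalized Fitting subgroup of C_G(V) is a p-group, then so is that of C_G(U). -/
theorem result {G : Type*} [Group G] [Finite G] {p : ℕ} [Fact p.Prime] (U V : Subgroup G) (hVU : V ≤ U) (hU : IsPGroup p U) (hV : IsPGroup p ↥(Cfsg.generalizedFittingSubgroup ↥(Subgroup.centralizer (V : Set G)))) : IsPGroup p ↥(Cfsg.generalizedFittingSubgroup ↥(Subgroup.centralizer (U : Set G))) := by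
  have hiff : ∀ (H : Subgroup G),
      IsPGroup p ↥(Cfsg.generalizedFittingSubgroup H) ↔ Cfsg.Agent.LocalChar.CP p H := by
    intro H
    rw [← Cfsg.Agent.LocalChar.genFitting_eq_pCore_iff]
    constructor
    · intro hp
      exact le_antisymm (Cfsg.Agent.LocalChar.le_pCore inferInstance hp)
        ((pCore_le_fittingSubgroup Fact.out).trans fittingSubgroup_le_generalizedFittingSubgroup)
    · intro he
      rw [he]; exact isPGroup_pCore' p
  rw [hiff] at hV ⊢
  have : Group.IsNilpotent U := hU.isNilpotent
  induction V using WellFoundedGT.induction with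
  | _ V ih =>
    rcases hVU.lt_or_eq with hlt | heq
    · have hne : V.subgroupOf U < ⊤ := lt_top_iff_ne_top.mpr fun e => hlt.not_ge (subgroupOf_eq_top.mp e)
      obtain ⟨x, hx, hxV⟩ := SetLike.exists_of_lt (Group.normalizerCondition_of_isNilpotent _ hne)
      have hx' := (le_normalizer_map (H := V.subgroupOf U) U.subtype) ⟨x, hx, rfl⟩
      rw [map_subgroupOf_eq_of_le hVU] at hx'
      have hVW : V ≤ U ⊓ normalizer (V : Set G) := le_inf hVU le_normalizer
      refine ih _ (lt_of_le_of_ne hVW fun e => hxV ?_) inf_le_left ?_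
      · have hmem : (x : G) ∈ U ⊓ normalizer (V : Set G) := mem_inf.mpr ⟨x.2, hx'⟩
        rw [← e] at hmem
        exact hmem
      · exact Cfsg.Agent.LocalChar.cp_centralizer_of_le
          (Cfsg.Agent.LocalChar.cp_normalizer_of_centralizer (hU.to_le hVU) hV)
          (hU.to_le inf_le_left) inf_le_right
          ((centralizer_le (SetLike.coe_subset_coe.mpr hVW)).trans (centralizer_le_normalizer _))
    · exact heq ▸ hV

end Cfsg.Agent.S1246
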