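import Cfsg.Statements.S5752
import Cfsg.Agent.Lib.Components.Inf
import Cfsg.Agent.Lib.Coprime.Commutator
import Cfsg.Agent.Lib.Subnormal.Nilpotent
import Cfsg.Agent.Lib.PCore.Basic
-- import your own Cfsg.Agent.* helpers here

set_option autoImplicit false
open Cfsg

namespace Cfsg.Agent.S5752

open Cfsg.Agent.Components Subgroup
open scoped commutatorElement

variable {G : Type*} [Group G] [Finite G] {p : ℕ}

/-- image of `O_p(X)` in the ambient group -/
def cp (p : ℕ) (X : Subgroup G) : Subgroup G := (Cfsg.pCore p X).map X.subtype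

/-- subgroup generated by the elements of order prime to `p` -/
def opp (p : ℕ) (X : Subgroup G) : Subgroup G :=
  closure {x : G | x ∈ X ∧ (orderOf x).Coprime p}

omit [Finite G] in
theorem mem_opp {X : Subgroup G} {x : G} (hx : x ∈ X) (h : (orderOf x).Coprime p) : x ∈ opp p X :=
  subset_closure ⟨hx, h⟩

omit [Finite G] in
theorem opp_le (X : Subgroup G) : opp p X ≤ X := (closure_le X).mpr fun _ h => h.1

omit [Finite G] in
theorem normalizer_le_normalizer_opp (X : Subgroup G) :
    normalizer (X : Set G) ≤ normalizer (opp p X : Set G) := by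
  rw [le_normalizer_iff]
  intro g hg y hy
  induction hy using closure_induction with
  | mem y hy =>
    exact mem_opp ((mem_normalizer_iff.mp hg y).mp hy.1)
      (by rw [← MulAut.conj_apply, MulEquiv.orderOf_eq]; exact hy.2)
  | one => simp
  | mul y w _ _ h1 h2 => simpa [mul_assoc] using mul_mem h1 h2
  | inv y _ h1 => simpa [mul_assoc] using inv_mem h1

theorem exists_pow_coprime [hp : Fact p.Prime] (x : G) :
    ∃ k : ℕ, (orderOf (x ^ p ^ k)).Coprime p := by
  obtain ⟨k, m, hm, he⟩ := Nat.exists_eq_pow_mul_and_not_dvd (orderOf_pos x).ne' p hp.out.ne_one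
  refine ⟨k, ?_⟩
  rw [orderOf_pow' _ (pow_ne_zero _ hp.out.ne_zero), he, Nat.gcd_mul_right_left,
    Nat.mul_div_cancel_left _ (pow_pos hp.out.pos k)]
  exact ((hp.out.coprime_iff_not_dvd).2 hm).symm

theorem isPGroup_of_opp_eq_bot [Fact p.Prime] {X : Subgroup G} (h : opp p X = ⊥) :
    IsPGroup p X := by
  intro x
  obtain ⟨k, hk⟩ := exists_pow_coprime (p := p) (x : G)
  refine ⟨k, Subtype.ext ?_⟩
  have : (x : G) ^ p ^ k ∈ opp p X := mem_opp (X.pow_mem x.2 _) hk
  rw [h, mem_bot] at this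
  rw [SubgroupClass.coe_pow, this, OneMemClass.coe_one]

theorem mem_of_isSubnormal_of_coprime {H : Subgroup G} (hH : H.IsSubnormal) {x : G}
    (h : (orderOf x).Coprime H.index) : x ∈ H := by
  induction hH with
  | top => exact mem_top x
  | step H K hle hK hN ih =>
    rw [← relIndex_mul_index hle] at h
    have hxK : x ∈ K := ih h.coprime_mul_left_right
    have := hN
    have h1 : orderOf (QuotientGroup.mk' (H.subgroupOf K) ⟨x, hxK⟩) ∣ orderOf x :=
      (orderOf_map_dvd _ _).trans (dvd_of_eq (Subgroup.orderOf_mk _ _))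
    have h2 : orderOf (QuotientGroup.mk' (H.subgroupOf K) ⟨x, hxK⟩) ∣ H.relIndex K :=
      orderOf_dvd_natCard _
    have := Nat.eq_one_of_dvd_coprimes h.coprime_mul_right_right h1 h2
    rw [orderOf_eq_one_iff, QuotientGroup.mk'_apply, QuotientGroup.eq_one_iff] at this
    exact this

/-- A normal `p`-subgroup normalises subnormal subgroups generated by `p'`-elements. -/
theorem le_normalizer_opp [hp : Fact p.Prime] {A X P : Subgroup G}
    (hY : ((opp p A).subgroupOf X).IsSubnormal) (hYX : opp p A ≤ X) (hPX : P ≤ X)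
    (hn : X ≤ normalizer (P : Set G)) (hP : IsPGroup p P) :
    P ≤ normalizer (opp p A : Set G) := by
  set Y := opp p A with hYdef
  have hYn : Y ≤ normalizer (P : Set G) := hYX.trans hn
  set W := Y ⊔ P with hW
  have hWX : W ≤ X := sup_le hYX hPX
  have hsub : (Y.subgroupOf W).IsSubnormal := hY.comap (inclusion hWX)
  obtain ⟨n, hPn⟩ := IsPGroup.iff_card.mp hP
  have hdvd : Y.relIndex W ∣ p ^ n := by
    rw [← hPn]
    have e1 := relIndex_mul_relIndex ⊥ Y W bot_le le_sup_left
    have e2 := relIndex_mul_relIndex ⊥ P W bot_le le_sup_right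
    rw [relIndex_bot_left, relIndex_bot_left] at e1 e2
    rw [hW, Cfsg.Agent.Coprime.relIndex_sup_right_of_le_normalizer hYn, ← hW, ← e1] at e2
    obtain ⟨t, ht⟩ : P.relIndex Y ∣ Nat.card Y := Subgroup.index_dvd_card _
    have hs : 0 < P.relIndex Y :=
      Nat.pos_of_ne_zero fun h0 => (Nat.card_pos (α := Y)).ne' (by rw [ht, h0, zero_mul])
    refine ⟨t, Nat.eq_of_mul_eq_mul_right hs ?_⟩
    rw [e2, ht]; ring
  -- all `p'`-elements of `W` lie in `Y`
  have key : ∀ x ∈ W, (orderOf x).Coprime p → x ∈ Y := fun x hx hc => by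
    refine (mem_subgroupOf (h := ⟨x, hx⟩)).mp (mem_of_isSubnormal_of_coprime hsub ?_)
    rw [Subgroup.orderOf_mk]
    exact (hc.pow_right n).coprime_dvd_right hdvd
  rw [le_normalizer_iff]
  intro g hg y hy
  induction hy using closure_induction with
  | mem y hy =>
    refine key _ (mul_mem (mul_mem (mem_sup_right hg) (mem_sup_left (mem_opp hy.1 hy.2)))
      (inv_mem (mem_sup_right hg))) ?_
    rw [← MulAut.conj_apply, MulEquiv.orderOf_eq]; exact hy.2
  | one => simp
  | mul y w _ _ h1 h2 => simpa [mul_assoc] using mul_mem h1 h2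
  | inv y _ h1 => simpa [mul_assoc] using inv_mem h1

theorem isPGroup_cp (p : ℕ) (X : Subgroup G) : IsPGroup p (cp p X) :=
  (isPGroup_pCore' p).map _

theorem le_normalizer_map (X : Subgroup G) (C : Subgroup X) [C.Normal] :
    X ≤ normalizer ((C.map X.subtype : Subgroup G) : Set G) := by
  refine le_trans ?_ (C.le_normalizer_map X.subtype)
  rw [normalizer_eq_top, ← MonoidHom.range_eq_map, range_subtype]

theorem le_normalizer_cp (p : ℕ) (X : Subgroup G) : X ≤ normalizer (cp p X : Set G) :=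
  have := pCore_normal' (G := X) p
  le_normalizer_map X _

theorem le_cp [Fact p.Prime] {X P : Subgroup G} (hPX : P ≤ X) (hP : IsPGroup p P)
    (h : (P.subgroupOf X).IsSubnormal) : P ≤ cp p X := by
  intro x hx
  have hp' : IsPGroup p (P.subgroupOf X) := hP.of_equiv (subgroupOfEquivOfLe hPX).symm
  have := hp'.isNilpotent
  obtain ⟨k, hk⟩ := hP ⟨x, hx⟩
  refine ⟨⟨x, hPX hx⟩, Cfsg.Agent.Subnormal.mem_pCore_of_mem_fittingSubgroup (k := k)
    (le_fittingSubgroup_of_isSubnormal h (mem_subgroupOf.mpr hx)) (Subtype.ext ?_), rfl⟩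
  simpa using congrArg Subtype.val hk

/-- A perfect subgroup whose `p'`-elements centralise `T` centralises `T`. -/
theorem le_centralizer_of_perfect [hp : Fact p.Prime] {D T : Subgroup G} (hD : ⁅D, D⁆ = D)
    (h : ∀ x ∈ D, (orderOf x).Coprime p → x ∈ centralizer (T : Set G)) :
    D ≤ centralizer (T : Set G) := by
  set N := (opp p D).subgroupOf D with hN
  have hNn : N.Normal := normal_subgroupOf_of_le_normalizer
    (le_normalizer.trans (normalizer_le_normalizer_opp D))
  have hpg : IsPGroup p (D ⧸ N) := by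
    intro x
    obtain ⟨d, rfl⟩ := QuotientGroup.mk'_surjective N x
    obtain ⟨k, hk⟩ := exists_pow_coprime (p := p) (d : G)
    refine ⟨k, ?_⟩
    rw [← map_pow, QuotientGroup.mk'_apply, QuotientGroup.eq_one_iff, hN, mem_subgroupOf,
      SubgroupClass.coe_pow]
    exact mem_opp (D.pow_mem d.2 _) hk
  have : Group.IsNilpotent (D ⧸ N) := hpg.isNilpotent
  have htop : N = ⊤ := by
    by_contra hne
    have : Nontrivial (D ⧸ N) := QuotientGroup.nontrivial_iff.mpr hne
    apply (Group.IsSolvable.commutator_lt_top_of_nontrivial (G := D ⧸ N)).ne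
    have hDD : _root_.commutator D = ⊤ := (isPerfect_iff.mpr hD).commutator_eq_top
    rw [_root_.commutator_def] at hDD ⊢
    rw [← map_top_of_surjective _ (QuotientGroup.mk'_surjective N), ← map_commutator, hDD]
  exact (subgroupOf_eq_top.mp htop).trans ((closure_le _).mpr fun x hx => h x hx.1 hx.2)

theorem card_cp_map (p : ℕ) (X : Subgroup G) (e : G ≃* G) :
    Nat.card (cp p (X.map e.toMonoidHom)) = Nat.card (cp p X) := by
  unfold cp
  rw [card_map_of_injective (subtype_injective _), card_map_of_injective (subtype_injective _)]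
  let f := X.equivMapOfInjective e.toMonoidHom e.injective
  rw [← card_map_of_injective (K := Cfsg.pCore p X) (f := f.toMonoidHom) f.injective]
  congr 2
  refine le_antisymm ?_ (le_trans (Cfsg.Agent.PCore.map_pCore_le f.toMonoidHom f.surjective) le_rfl)
  intro y hy
  exact ⟨f.symm y, Cfsg.Agent.PCore.map_pCore_le f.symm.toMonoidHom f.symm.surjective
    ⟨y, hy, rfl⟩, f.apply_symm_apply y⟩

/-- The configuration of the Thompson–Wielandt theorem. -/
structure Cfg (M N A₁ B₁ A₂ B₂ : Subgroup G) : Prop where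
  hne : M ≠ N
  pM : ∀ X : Subgroup G, X ≠ ⊥ → X ≤ M → M ≤ normalizer (X : Set G) → normalizer (X : Set G) = M
  pN : ∀ X : Subgroup G, X ≠ ⊥ → X ≤ N → N ≤ normalizer (X : Set G) → normalizer (X : Set G) = N
  hcard : ∀ p : ℕ, Nat.card (cp p M) = Nat.card (cp p N)
  hA1 : A₁ ≤ M ⊓ N
  hB1 : B₁ ≤ M ⊓ N
  nA1 : M ≤ normalizer (A₁ : Set G)
  nB1 : N ≤ normalizer (B₁ : Set G)
  hA2 : A₂ ≤ A₁ ⊓ B₁
  hB2 : B₂ ≤ A₁ ⊓ B₁
  nA2 : M ≤ normalizer (A₂ : Set G)
  nB2 : N ≤ normalizer (B₂ : Set G)
  A2ne : A₂ ≠ ⊥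
  B2ne : B₂ ≠ ⊥

variable {M N A₁ B₁ A₂ B₂ : Subgroup G}

omit [Finite G] in
theorem Cfg.symm (h : Cfg M N A₁ B₁ A₂ B₂) : Cfg N M B₁ A₁ B₂ A₂ :=
  ⟨h.hne.symm, h.pN, h.pM, fun p => (h.hcard p).symm, h.hB1.trans (inf_comm _ _).le,
    h.hA1.trans (inf_comm _ _).le, h.nB1, h.nA1, h.hB2.trans (inf_comm _ _).le,
    h.hA2.trans (inf_comm _ _).le, h.nB2, h.nA2, h.B2ne, h.A2ne⟩

omit [Finite G] in
theorem Cfg.eq_bot_of_normalized (h : Cfg M N A₁ B₁ A₂ B₂) {X : Subgroup G} (hX : X ≤ M ⊓ N)
    (hM : M ≤ normalizer (X : Set G)) (hN : N ≤ normalizer (X : Set G)) : X = ⊥ := by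
  by_contra hne
  exact h.hne ((h.pM X hne (hX.trans inf_le_left) hM).symm.trans
    (h.pN X hne (hX.trans inf_le_right) hN))

omit [Finite G] in
theorem Cfg.isSubnormal_of_normalized (h : Cfg M N A₁ B₁ A₂ B₂) {Y X : Subgroup G} (hYB : Y ≤ B₁)
    (hBX : B₁ ≤ X) (hB : X ≤ normalizer (B₁ : Set G)) (hY : B₁ ≤ normalizer (Y : Set G)) :
    (Y.subgroupOf X).IsSubnormal :=
  _root_.Cfsg.Agent.Components.isSubnormal_of_normalized
    (normal_subgroupOf_of_le_normalizer hB).isSubnormal (comap_mono hYB)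
    ((comap_mono hY).trans (le_normalizer_comap _))

theorem Cfg.cp_ne_bot (h : Cfg M N A₁ B₁ A₂ B₂) (hM : cp p M ≠ ⊥) : cp p N ≠ ⊥ := fun e => by
  have := h.hcard p
  rw [e, card_bot] at this
  exact hM (card_eq_one.mp this)

/-- `A₂` is a `p`-group for every prime `p` with `O_p(M) ≠ 1`. -/
theorem Cfg.isPGroup_A2 [hp : Fact p.Prime] (h : Cfg M N A₁ B₁ A₂ B₂) (hM : cp p M ≠ ⊥) :
    IsPGroup p A₂ := by
  refine isPGroup_of_opp_eq_bot (by_contra fun hne => ?_)
  set Y := opp p A₂ with hY
  set U := cp p M with hU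
  set T := cp p N with hT
  have hYA : Y ≤ A₂ := opp_le _
  have hYB : Y ≤ B₁ := hYA.trans (h.hA2.trans inf_le_right)
  have hYM : M ≤ normalizer (Y : Set G) := h.nA2.trans (normalizer_le_normalizer_opp _)
  have hNY : normalizer (Y : Set G) = M :=
    h.pM Y hne ((hYB.trans h.hB1).trans inf_le_left) hYM
  have hBY : B₁ ≤ normalizer (Y : Set G) := (h.hB1.trans inf_le_left).trans hYM
  have hTM : T ≤ M := hNY ▸ le_normalizer_opp
    (h.isSubnormal_of_normalized hYB (h.hB1.trans inf_le_right) h.nB1 hBY)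
    ((hYB.trans h.hB1).trans inf_le_right) (map_subtype_le _) (le_normalizer_cp p N) (isPGroup_cp p N)
  set U0 := U ⊓ N with hU0
  have hU0D : U0 ≤ M ⊓ N := inf_le_inf_right N (map_subtype_le _)
  have hDU0 : M ⊓ N ≤ normalizer (U0 : Set G) :=
    (le_inf (inf_le_left.trans (le_normalizer_cp p M)) (inf_le_right.trans le_normalizer)).trans
      inf_normalizer_le_normalizer_inf
  -- every `N`-conjugate of `U0` lies in `M ⊓ N`
  have hconj : ∀ n ∈ N, U0.map (MulAut.conj n).toMonoidHom ≤ M ⊓ N := by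
    intro n hn
    set c := (MulAut.conj n).toMonoidHom with hc
    have hXN : (M ⊓ N).map c ≤ N := by
      rintro _ ⟨x, hx, rfl⟩
      exact mul_mem (mul_mem hn hx.2) (inv_mem hn)
    have hBc : B₁ ≤ (M ⊓ N).map c := by
      intro b hb
      refine ⟨n⁻¹ * b * n, h.hB1 ?_, by simp [hc, mul_assoc]⟩
      simpa using (mem_normalizer_iff.mp (h.nB1 (inv_mem hn)) b).mp hb
    refine le_inf ?_ ((map_mono hU0D).trans hXN)
    rw [← hNY]
    exact le_normalizer_opp (X := (M ⊓ N).map c)
      (h.isSubnormal_of_normalized hYB hBc (hXN.trans h.nB1) hBY) (hYB.trans hBc) (map_mono hU0D)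
      ((map_mono hDU0).trans (Subgroup.le_normalizer_map c))
      (((isPGroup_cp p M).to_le inf_le_left).map c)
  have hU0T : U0 ≤ T := by
    refine le_cp inf_le_right ((isPGroup_cp p M).to_le inf_le_left) ?_
    set V := normalClosure ((U0.subgroupOf N : Subgroup N) : Set N) with hV
    have hVD : V ≤ (M ⊓ N).subgroupOf N := by
      refine (normalClosure_le_normal (N := ((M ⊓ N).subgroupOf N).normalCore) ?_).trans
        (normalCore_le _)
      intro x hx n
      rw [SetLike.mem_coe, mem_subgroupOf] at hx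
      rw [mem_subgroupOf]
      exact hconj n n.2 ⟨x, hx, rfl⟩
    refine _root_.Cfsg.Agent.Components.isSubnormal_of_normalized
      (normalClosure_normal : V.Normal).isSubnormal subset_normalClosure (hVD.trans ?_)
    exact (comap_mono hDU0).trans (le_normalizer_comap _)
  -- hence `U ≤ T`, so `U = T`
  have hUT : U ≤ T := by
    by_contra hnot
    set W := U ⊔ T with hW
    have hWp : IsPGroup p W :=
      (isPGroup_cp p M).to_sup_of_normal_left' (isPGroup_cp p N) (hTM.trans (le_normalizer_cp p M))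
    have := hWp.isNilpotent
    have hlt : T.subgroupOf W < ⊤ := lt_top_iff_ne_top.mpr fun e =>
      hnot (le_sup_left.trans (subgroupOf_eq_top.mp e))
    obtain ⟨w, hw, hwT⟩ := SetLike.exists_of_lt (normalizerCondition_of_isNilpotent _ hlt)
    have hwN : (w : G) ∈ normalizer (T : Set G) := by
      rw [mem_normalizer_iff]
      intro x
      by_cases hxW : x ∈ W
      · simpa [mem_subgroupOf] using mem_normalizer_iff.mp hw ⟨x, hxW⟩
      · refine iff_of_false (fun hx => hxW (mem_sup_right hx)) (fun hx => hxW ?_)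
        simpa [mul_assoc] using mul_mem (mul_mem (inv_mem w.2) (mem_sup_right hx : _ ∈ W)) w.2
    have hwN' : (w : G) ∈ N := by
      rwa [h.pN T (h.cp_ne_bot hM) (map_subtype_le _) (le_normalizer_cp p N)] at hwN
    have hmem : (w : G) ∈ U ⊔ T := w.2
    rw [← SetLike.mem_coe,
      coe_mul_of_right_le_normalizer_left U T (hTM.trans (le_normalizer_cp p M))] at hmem
    obtain ⟨u, hu, t, ht, he⟩ := hmem
    have huN : u ∈ N := by
      rw [← N.mul_mem_cancel_right (map_subtype_le _ ht : t ∈ N)]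
      show u * t ∈ N
      rw [show u * t = (w : G) from he]
      exact hwN'
    exact hwT (mem_subgroupOf.mpr (he ▸ mul_mem (hU0T ⟨hu, huN⟩) ht))
  have heq : U = T := Subgroup.eq_of_le_of_card_ge hUT (h.hcard p).ge
  exact hM (h.eq_bot_of_normalized (le_inf (map_subtype_le _) (heq.le.trans (map_subtype_le _)))
    (le_normalizer_cp p M) (heq ▸ le_normalizer_cp p N))

omit [Finite G] in
/-- Subgroups normalised by `X` commute with a component of `X` as soon as they are solvable. -/
theorem comm_of_component {X : Subgroup G} {K : Subgroup X} (hK : IsComponent K) {S : Subgroup G}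
    (hSX : S ≤ X) (hn : X ≤ normalizer (S : Set G)) (hs : Group.IsSolvable S) :
    ⁅K.map X.subtype, S⁆ = ⊥ := by
  have : Group.IsSolvable (S.subgroupOf X) := Group.isSolvable_of_isSolvable_injective
    (f := (subgroupOfEquivOfLe hSX).toMonoidHom) (subgroupOfEquivOfLe hSX).injective
  have := congrArg (Subgroup.map X.subtype) (IsComponent.commutator_eq_bot_of_isSolvable hK
    (normal_subgroupOf_of_le_normalizer hn).isSubnormal)
  rwa [map_commutator, Subgroup.map_bot, map_subgroupOf_eq_of_le hSX] at this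

/-- Components of `M` lie in `N`. -/
theorem Cfg.component_le (h : Cfg M N A₁ B₁ A₂ B₂) {K : Subgroup M} (hK : IsComponent K) :
    K.map M.subtype ≤ M ⊓ N := by
  refine le_inf (map_subtype_le _) ?_
  have hA1M : A₁ ≤ M := h.hA1.trans inf_le_left
  have : (A₁.subgroupOf M).Normal := normal_subgroupOf_of_le_normalizer h.nA1
  rcases IsComponent.le_or_commutator_eq_bot_of_normal hK (A₁.subgroupOf M) with hle | hc
  · exact (map_le_iff_le_comap.mpr hle).trans (h.hA1.trans inf_le_right)
  · have h1 := congrArg (Subgroup.map M.subtype) hc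
    rw [map_commutator, Subgroup.map_bot, map_subgroupOf_eq_of_le hA1M] at h1
    exact ((le_centralizer_of_commutator_eq_bot h1).trans
      (centralizer_le (h.hB2.trans inf_le_left))).trans ((centralizer_le_normalizer _).trans
      (h.pN B₂ h.B2ne (((h.hB2.trans inf_le_right).trans h.hB1).trans inf_le_right) h.nB2).le)

theorem Cfg.eq_prime (h : Cfg M N A₁ B₁ A₂ B₂) {q : ℕ} [Fact p.Prime] [Fact q.Prime]
    (hp : cp p M ≠ ⊥) (hq : cp q M ≠ ⊥) : p = q := by
  by_contra hpq
  exact h.A2ne (disjoint_self.mp (IsPGroup.disjoint_of_ne p q hpq _ _ (h.isPGroup_A2 hp)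
    (h.isPGroup_A2 hq)))

theorem Cfg.fitting_eq (h : Cfg M N A₁ B₁ A₂ B₂) [Fact p.Prime] (hp : cp p M ≠ ⊥) :
    (Cfsg.fittingSubgroup M).map M.subtype = cp p M := by
  refine le_antisymm ?_ (map_mono (pCore_le_fittingSubgroup Fact.out))
  rw [fittingSubgroup_eq_iSup_pCore, Subgroup.map_iSup]
  refine iSup_le fun q => ?_
  have := Fact.mk (Nat.prime_of_mem_primeFactors q.2)
  by_cases hq : cp (q : ℕ) M = ⊥
  · exact (show (Cfsg.pCore (q : ℕ) M).map M.subtype = ⊥ from hq).le.trans bot_le
  · rw [h.eq_prime hp hq]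
    exact le_rfl

theorem Cfg.component_le_layer (h : Cfg M N A₁ B₁ A₂ B₂) {K : Subgroup M} (hK : IsComponent K) :
    K.map M.subtype ≤ (Cfsg.layer N).map N.subtype := by
  set K' := K.map M.subtype with hK'
  have hKD : K' ≤ M ⊓ N := h.component_le hK
  have tr : ∀ (X : Subgroup G), M ⊓ N ≤ X → ∀ L : Subgroup X, IsComponent L →
      L.map X.subtype ≤ M ⊓ N → IsComponent ((L.map X.subtype).subgroupOf (M ⊓ N)) := by
    intro X hX L hL hLD
    have hle : L ≤ (M ⊓ N).subgroupOf X := map_le_iff_le_comap.mp hLD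
    have h2 := IsComponent.map_equiv (IsComponent.subgroupOf_of_le hL hle) (subgroupOfEquivOfLe hX)
    convert h2 using 1
    ext y
    simp only [mem_subgroupOf, Subgroup.mem_map, MulEquiv.coe_toMonoidHom]
    constructor
    · rintro ⟨z, hz, hzy⟩
      exact ⟨⟨z, by rw [mem_subgroupOf]; simpa [← hzy] using y.2⟩, hz,
        Subtype.ext (by simpa using hzy)⟩
    · rintro ⟨z, hz, hzy⟩
      exact ⟨z, hz, by rw [← hzy]; rfl⟩
  by_contra hnot
  have hK1 := tr M inf_le_left K hK hKD
  have hKL : ⁅K', (Cfsg.layer N).map N.subtype⁆ = ⊥ := by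
    rw [Cfsg.layer, sSup_eq_iSup', Subgroup.map_iSup]
    refine commutator_sSup_eq_bot ?_
    rintro _ ⟨⟨L, hL⟩, rfl⟩
    have hLD : L.map N.subtype ≤ M ⊓ N := (h.symm.component_le hL).trans (inf_comm _ _).le
    have hne : K'.subgroupOf (M ⊓ N) ≠ (L.map N.subtype).subgroupOf (M ⊓ N) := by
      intro he
      apply hnot
      have := congrArg (Subgroup.map (M ⊓ N).subtype) he
      rw [map_subgroupOf_eq_of_le hKD, map_subgroupOf_eq_of_le hLD] at this
      exact this.le.trans (map_mono (IsComponent.le_layer hL))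
    have := congrArg (Subgroup.map (M ⊓ N).subtype)
      (IsComponent.commutator_eq_bot hK1 (tr N inf_le_right L hL hLD) hne)
    rwa [map_commutator, Subgroup.map_bot, map_subgroupOf_eq_of_le hKD,
      map_subgroupOf_eq_of_le hLD] at this
  have hKF : ⁅K', (Cfsg.fittingSubgroup N).map N.subtype⁆ = ⊥ := by
    by_cases hex : ∃ p : ℕ, p.Prime ∧ cp p M ≠ ⊥
    · obtain ⟨p, hp', hp⟩ := hex
      have := Fact.mk hp'
      rw [h.symm.fitting_eq (h.cp_ne_bot hp), commutator_eq_bot_iff_le_centralizer]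
      refine le_centralizer_of_perfect (p := p) ?_ fun x hx hxc => ?_
      · rw [hK', ← map_commutator, IsComponent.commutator_self hK]
      have hA2p := h.isPGroup_A2 hp
      have hA2s : Group.IsSolvable A₂ :=
        have := hA2p.isNilpotent; inferInstance
      have hA2M : A₂ ≤ M := ((h.hA2.trans inf_le_left).trans h.hA1).trans inf_le_left
      have hxQ : zpowers x ≤ K' := zpowers_le.mpr hx
      have hTMp : IsPGroup p ↥(cp p N ⊓ M) := (isPGroup_cp p N).to_le inf_le_left
      have hT0 : ⁅K', cp p N ⊓ M⁆ = ⊥ := by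
        have hle : cp p N ⊓ M ≤ M ⊓ N := le_inf inf_le_right (inf_le_left.trans (map_subtype_le _))
        have := comm_of_component hK1 hle
          ((le_inf (inf_le_right.trans (le_normalizer_cp p N)) (inf_le_left.trans le_normalizer)).trans
            inf_normalizer_le_normalizer_inf) (have := hTMp.isNilpotent; inferInstance)
        rwa [map_subgroupOf_eq_of_le hKD] at this
      refine (Cfsg.Agent.Coprime.le_centralizer_of_pq (P := A₂) (Q := zpowers x) hA2p
        (by rwa [Nat.card_zpowers]) (isPGroup_cp p N) ?_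
        (((h.hA2.trans inf_le_left).trans h.hA1).trans (inf_le_right.trans (le_normalizer_cp p N)))
        (hxQ.trans (hKD.trans (inf_le_right.trans (le_normalizer_cp p N)))) ?_) (mem_zpowers x)
      · exact (le_centralizer_of_commutator_eq_bot
          (commutator_eq_bot_symm (comm_of_component hK hA2M h.nA2 hA2s))).trans
            (centralizer_le hxQ)
      · refine le_trans (le_inf inf_le_left ?_) ((le_centralizer_of_commutator_eq_bot
          (commutator_eq_bot_symm hT0)).trans (centralizer_le hxQ))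
        exact inf_le_right.trans ((centralizer_le_normalizer _).trans
          (h.pM A₂ h.A2ne hA2M h.nA2).le)
    · push Not at hex
      have hz : Cfsg.fittingSubgroup N = ⊥ := by
        rw [fittingSubgroup_eq_iSup_pCore, iSup_eq_bot]
        intro q
        refine (map_eq_bot_iff_of_injective _ N.subtype_injective).mp (card_eq_one.mp ?_)
        show Nat.card (cp (q : ℕ) N) = 1
        rw [← h.hcard, hex _ (Nat.prime_of_mem_primeFactors q.2), card_bot]
      rw [hz, Subgroup.map_bot, commutator_bot_right]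
  set S := (Cfsg.generalizedFittingSubgroup N).map N.subtype with hS
  have hKS : ⁅K', S⁆ = ⊥ := by
    rw [hS, Cfsg.generalizedFittingSubgroup, Subgroup.map_sup]
    exact commutator_sup_eq_bot hKL hKF
  have hle : K' ≤ S := by
    intro x hx
    refine ⟨⟨x, (hKD hx).2⟩, centralizer_generalizedFittingSubgroup_le
      (mem_centralizer_iff.mpr fun y hy => Subtype.ext ?_), rfl⟩
    exact mem_centralizer_iff.mp (commutator_eq_bot_iff_le_centralizer.mp hKS hx) y
      ⟨y, hy, rfl⟩
  refine IsQuasisimple.ne_bot (IsQuasisimple.map_injective hK.2 M.subtype_injective) (eq_bot_iff.mpr ?_)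
  rw [← IsQuasisimple.commutator_self (IsQuasisimple.map_injective hK.2 M.subtype_injective),
    ← hKS]
  exact commutator_mono le_rfl hle

theorem Cfg.layer_eq_bot (h : Cfg M N A₁ B₁ A₂ B₂) : Cfsg.layer M = ⊥ := by
  have hle : ∀ {M N A₁ B₁ A₂ B₂ : Subgroup G}, Cfg M N A₁ B₁ A₂ B₂ →
      (Cfsg.layer M).map M.subtype ≤ (Cfsg.layer N).map N.subtype := by
    intro M N A₁ B₁ A₂ B₂ h
    rw [Cfsg.layer, map_le_iff_le_comap]
    exact sSup_le fun K hK => map_le_iff_le_comap.mp (h.component_le_layer hK)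
  have he := le_antisymm (hle h) (hle h.symm)
  exact (map_eq_bot_iff_of_injective _ M.subtype_injective).mp (h.eq_bot_of_normalized
    (le_inf (map_subtype_le _) (he.le.trans (map_subtype_le _))) (le_normalizer_map M _)
    (he ▸ le_normalizer_map N _))

theorem Cfg.exists_prime (h : Cfg M N A₁ B₁ A₂ B₂) : ∃ p : ℕ, p.Prime ∧ cp p M ≠ ⊥ := by
  by_contra hex
  push Not at hex
  have hMne : Nontrivial M := (nontrivial_iff_ne_bot M).mpr fun e => h.A2ne
    (le_bot_iff.mp (e ▸ ((h.hA2.trans inf_le_left).trans h.hA1).trans inf_le_left))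
  refine generalizedFittingSubgroup_ne_bot (G := M) ?_
  rw [Cfsg.generalizedFittingSubgroup, h.layer_eq_bot, bot_sup_eq, fittingSubgroup_eq_iSup_pCore,
    iSup_eq_bot]
  exact fun q => (map_eq_bot_iff_of_injective _ M.subtype_injective).mp
    (hex _ (Nat.prime_of_mem_primeFactors q.2))

theorem genFitting_eq {X : Type*} [Group X] [Finite X] [Fact p.Prime]
    (h : IsPGroup p (Cfsg.generalizedFittingSubgroup X)) :
    Cfsg.generalizedFittingSubgroup X = Cfsg.pCore p X :=
  le_antisymm (le_sSup (Set.mem_setOf.mpr ⟨generalizedFittingSubgroup_normal X, h⟩))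
    ((pCore_le_fittingSubgroup Fact.out).trans fittingSubgroup_le_generalizedFittingSubgroup)

theorem Cfg.main [Fact p.Prime] (h : Cfg M N A₁ B₁ A₂ B₂) (hp : cp p M ≠ ⊥) :
    Cfsg.generalizedFittingSubgroup M = Cfsg.pCore p M ∧
      Cfsg.generalizedFittingSubgroup A₁ = Cfsg.pCore p A₁ := by
  have h1 : Cfsg.generalizedFittingSubgroup M = Cfsg.pCore p M := by
    rw [Cfsg.generalizedFittingSubgroup, h.layer_eq_bot, bot_sup_eq]
    exact map_injective M.subtype_injective (h.fitting_eq hp)
  refine ⟨h1, genFitting_eq ?_⟩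
  have e := subgroupOfEquivOfLe (h.hA1.trans inf_le_left : A₁ ≤ M)
  have hle := map_generalizedFittingSubgroup_le_of_isSubnormal
    (normal_subgroupOf_of_le_normalizer (H := M) (N := A₁) h.nA1).isSubnormal
  rw [h1] at hle
  have h2 : IsPGroup p (Cfsg.generalizedFittingSubgroup (A₁.subgroupOf M)) :=
    ((isPGroup_pCore' p).to_le hle).of_equiv
      ((Cfsg.generalizedFittingSubgroup _).equivMapOfInjective _ (subtype_injective _)).symm
  rw [← map_generalizedFittingSubgroup e]
  exact h2.map _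

/-- A form of the Thompson–Wielandt Theorem on primitive permutation groups. Let G be a finite group and M₁, M₂ two distinct conjugate maximal subgroups of G with trivial core in G; define two descending sequences of subgroups by A₀ = M₁, B₀ = M₂ and, for every i, A_{i+1} = the core in M₁ of A_i ∩ B_i and B_{i+1} = the core in M₂ of A_i ∩ B_i (the core in M of a subgroup Y ≤ M is the largest normal subgroup of M contained in Y). If A₂ and B₂ are both non-trivial, then for some prime p the subgroup generated by A₂ and B₂ is a p-group, and for each j the generalized Fitting subgroups of M_j and of its first core (A₁, resp. B₁) are their largest normal p-subgroups. -/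
theorem result {G : Type*} [Group G] [Finite G] (M₁ M₂ : Subgroup G) (hmax : IsCoatom M₁) (g : G)
    (hconj : M₂ = M₁.map (MulAut.conj g).toMonoidHom) (hne : M₁ ≠ M₂) (hcore : M₁.normalCore = ⊥)
    (A B : ℕ → Subgroup G) (hA0 : A 0 = M₁) (hB0 : B 0 = M₂)
    (hA : ∀ i, A (i + 1) = ((A i ⊓ B i).subgroupOf M₁).normalCore.map M₁.subtype)
    (hB : ∀ i, B (i + 1) = ((A i ⊓ B i).subgroupOf M₂).normalCore.map M₂.subtype) (hA2 : A 2 ≠ ⊥) (hB2 : B 2 ≠ ⊥) :
    ∃ p : ℕ, p.Prime ∧ IsPGroup p ↥(A 2 ⊔ B 2) ∧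
      Cfsg.generalizedFittingSubgroup ↥M₁ = Cfsg.pCore p ↥M₁ ∧ Cfsg.generalizedFittingSubgroup ↥(A 1) = Cfsg.pCore p ↥(A 1) ∧
      Cfsg.generalizedFittingSubgroup ↥M₂ = Cfsg.pCore p ↥M₂ ∧ Cfsg.generalizedFittingSubgroup ↥(B 1) = Cfsg.pCore p ↥(B 1) := by
  have hM2max : ∀ X : Subgroup G, X ≠ ⊥ → X ≤ M₂ → M₂ ≤ Subgroup.normalizer (X : Set G) →
      Subgroup.normalizer (X : Set G) = M₂ := by
    intro X h0 hXM hn
    have hmax2 : IsCoatom M₂ := by
      rw [hconj]
      exact ((MulAut.conj g).mapSubgroup.isCoatom_iff M₁).mpr hmax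
    refine (hmax2.le_iff.mp hn).resolve_left fun ht => h0 ?_
    have hX : X.Normal := normalizer_eq_top_iff.mp ht
    have hle : X ≤ M₁ := by
      intro x hx
      have h1 : g * x * g⁻¹ ∈ M₂ := hXM (hX.conj_mem x hx g)
      rw [hconj] at h1
      obtain ⟨m, hm, hmx⟩ := h1
      rw [MulEquiv.coe_toMonoidHom, MulAut.conj_apply, mul_left_inj, mul_right_inj] at hmx
      exact hmx ▸ hm
    exact le_bot_iff.mp (hcore ▸ Subgroup.normal_le_normalCore.mpr hle)
  have hM1max : ∀ X : Subgroup G, X ≠ ⊥ → X ≤ M₁ → M₁ ≤ Subgroup.normalizer (X : Set G) →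
      Subgroup.normalizer (X : Set G) = M₁ := by
    intro X h0 hXM hn
    refine (hmax.le_iff.mp hn).resolve_left fun ht => h0 ?_
    have hX : X.Normal := normalizer_eq_top_iff.mp ht
    exact le_bot_iff.mp (hcore ▸ Subgroup.normal_le_normalCore.mpr hXM)
  have hAn : ∀ i, M₁ ≤ Subgroup.normalizer (A (i + 1) : Set G) := fun i => by
    rw [hA i]; exact le_normalizer_map M₁ _
  have hBn : ∀ i, M₂ ≤ Subgroup.normalizer (B (i + 1) : Set G) := fun i => by
    rw [hB i]; exact le_normalizer_map M₂ _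
  have hAle : ∀ i, A (i + 1) ≤ A i ⊓ B i := fun i => by
    rw [hA i, map_le_iff_le_comap]
    exact Subgroup.normalCore_le _
  have hBle : ∀ i, B (i + 1) ≤ A i ⊓ B i := fun i => by
    rw [hB i, map_le_iff_le_comap]
    exact Subgroup.normalCore_le _
  have h : Cfg M₁ M₂ (A 1) (B 1) (A 2) (B 2) :=
    ⟨hne, hM1max, hM2max, fun p => (by rw [hconj]; exact (card_cp_map p M₁ (MulAut.conj g)).symm),
      hA0 ▸ hB0 ▸ hAle 0, hA0 ▸ hB0 ▸ hBle 0, hAn 0, hBn 0, hAle 1, hBle 1, hAn 1, hBn 1,
      hA2, hB2⟩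
  obtain ⟨p, hp', hp⟩ := h.exists_prime
  have := Fact.mk hp'
  refine ⟨p, hp', ?_, (h.main hp).1, (h.main hp).2, (h.symm.main (h.cp_ne_bot hp)).1,
    (h.symm.main (h.cp_ne_bot hp)).2⟩
  exact (h.isPGroup_A2 hp).to_sup_of_normal_left' (h.symm.isPGroup_A2 (h.cp_ne_bot hp))
    ((h.hB2.trans inf_le_left).trans ((h.hA1.trans inf_le_left).trans h.nA2))

end Cfsg.Agent.S5752
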