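import Cfsg.Statements.S1247
import Cfsg.Agent.Lib.Components.Inf
import Cfsg.Agent.Lib.Coprime.Commutator
import Cfsg.Agent.Lib.Subnormal.Nilpotent
import Cfsg.Agent.Lib.Transfer.Residual
import Cfsg.Agent.S5752
import Cfsg.Agent.Lib.Components.PAction
-- import your own Cfsg.Agent.* helpers here

set_option autoImplicit false
open Cfsg

namespace Cfsg.Agent.S1247

open Cfsg.Agent.Components Subgroup
open scoped commutatorElement

/-- `E(H)` joined with the `O_r(H)`, `r ≠ p`. -/
def other (p : ℕ) (H : Type*) [Group H] : Subgroup H :=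
  Cfsg.layer H ⊔ ⨆ q : (Nat.card H).primeFactors, ⨆ (_ : (q : ℕ) ≠ p), Cfsg.pCore (q : ℕ) H

section InA

variable {H : Type*} [Group H] [Finite H] {p : ℕ}

omit [Finite H] in
theorem other_normal (p : ℕ) : (other p H).Normal := by
  have : ∀ q : (Nat.card H).primeFactors,
      (⨆ (_ : (q : ℕ) ≠ p), Cfsg.pCore (q : ℕ) H).Normal := fun q => by
    have := pCore_normal' (G := H) (q : ℕ)
    infer_instance
  unfold other
  infer_instance

theorem other_le_centralizer [hp : Fact p.Prime] :
    other p H ≤ centralizer (Cfsg.pCore p H : Set H) := by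
  refine sup_le ((le_centralizer_of_commutator_eq_bot commutator_layer_fittingSubgroup).trans
    (centralizer_le (pCore_le_fittingSubgroup hp.out))) (iSup₂_le fun q hq => ?_)
  have := Fact.mk (Nat.prime_of_mem_primeFactors q.2)
  intro x hx
  rw [mem_centralizer_iff]
  intro y hy
  exact (commute_of_normal_of_disjoint _ _ (pCore_normal' p) (pCore_normal' _)
    (IsPGroup.disjoint_of_ne _ _ (Ne.symm hq) _ _ (isPGroup_pCore' _) (isPGroup_pCore' _))
    y x hy hx).eq

/-- The `p'`-elements of `F*(H)` lie in `other p H`. -/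
theorem mem_other [hp : Fact p.Prime] {x : H} (hx : x ∈ Cfsg.generalizedFittingSubgroup H)
    (hc : (orderOf x).Coprime p) : x ∈ other p H := by
  have := other_normal (H := H) p
  have hle : Cfsg.generalizedFittingSubgroup H ≤ other p H ⊔ Cfsg.pCore p H := by
    refine sup_le (le_sup_of_le_left le_sup_left) ?_
    rw [fittingSubgroup_eq_iSup_pCore]
    refine iSup_le fun q => ?_
    by_cases hq : (q : ℕ) = p
    · rw [hq]; exact le_sup_right
    · exact le_sup_of_le_left (le_sup_of_le_right (le_iSup₂_of_le q hq le_rfl))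
  have h1 := mem_map_of_mem (QuotientGroup.mk' (other p H)) (hle hx)
  rw [Subgroup.map_sup, QuotientGroup.map_mk'_self, bot_sup_eq] at h1
  obtain ⟨k, hk⟩ := ((isPGroup_pCore' (G := H) p).map (QuotientGroup.mk' (other p H))) ⟨_, h1⟩
  rw [← QuotientGroup.eq_one_iff (N := other p H), ← orderOf_eq_one_iff]
  exact Nat.eq_one_of_dvd_coprimes (hc.pow_right k) (orderOf_map_dvd (QuotientGroup.mk' (other p H)) x)
    (orderOf_dvd_of_pow_eq_one (congrArg Subtype.val hk))

theorem commutator_le_of_isSubnormal {S : Subgroup H} (hS : S.IsSubnormal) {X Q : Subgroup H}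
    (hQ : Q ≤ S) (he : ⁅⁅X, Q⁆, Q⁆ = ⁅X, Q⁆) : ⁅X, Q⁆ ≤ S := by
  induction hS with
  | top => exact le_top
  | step S K hle hK hN ih =>
    rw [← he]
    refine (commutator_mono (ih (hQ.trans hle)) hQ).trans ?_
    exact le_normalizer_iff_commutator_le_right.mp
      ((normal_subgroupOf_iff_le_normalizer hle).mp hN)

variable {S : Subgroup H}

theorem layer_le (hsn : S.IsSubnormal)
    (hC : Cfsg.generalizedFittingSubgroup H ⊓ centralizer (S : Set H) ≤ S) :
    Cfsg.layer H ≤ S :=
  sSup_le fun _K hK => (IsComponent.le_or_commutator_eq_bot hK hsn).elim id fun h =>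
    (le_inf ((IsComponent.le_layer hK).trans layer_le_generalizedFittingSubgroup)
      (le_centralizer_of_commutator_eq_bot h)).trans hC

theorem le_layer_sup (hS : S ≤ Cfsg.generalizedFittingSubgroup H) (hE : Cfsg.layer H ≤ S) :
    S ≤ Cfsg.layer H ⊔ S ⊓ Cfsg.fittingSubgroup H := by
  intro s hs
  have h := hS hs
  rw [Cfsg.generalizedFittingSubgroup, mem_sup_of_normal_left] at h
  obtain ⟨e, he, f, hf, rfl⟩ := h
  exact mul_mem (mem_sup_left he) (mem_sup_right ⟨(S.mul_mem_cancel_left (hE he)).mp hs, hf⟩)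

/-- An element of `O_r(H)` centralising `S ∩ O_r(H)` centralises `S`. -/
theorem mem_centralizer_of_pCore {r : ℕ} [hr : Fact r.Prime]
    (hS : S ≤ Cfsg.generalizedFittingSubgroup H) (hE : Cfsg.layer H ≤ S) {y : H}
    (hy : y ∈ Cfsg.pCore r H) (hc : y ∈ centralizer ((S ⊓ Cfsg.pCore r H : Subgroup H) : Set H)) :
    y ∈ centralizer (S : Set H) := by
  set F := Cfsg.fittingSubgroup H with hF
  have hyF : y ∈ F := pCore_le_fittingSubgroup hr.out hy
  set T := S ⊓ F with hT
  have hTn : Group.IsNilpotent T := (Group.isNilpotent_congr (subgroupOfEquivOfLe inf_le_right)).mp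
    (Subgroup.isNilpotent (T.subgroupOf F))
  have key : T ≤ centralizer {y} := by
    refine subgroupOf_eq_top.mp (eq_top_of_forall_sylow fun q hq _ => ?_)
    have := Fact.mk hq
    let P : Sylow q T := default
    refine ⟨P, fun t ht => ?_⟩
    rw [mem_subgroupOf, mem_centralizer_singleton_iff]
    obtain ⟨k, hk⟩ := P.isPGroup' ⟨t, ht⟩
    have hk' : ((t : H)) ^ q ^ k = 1 := congrArg Subtype.val (congrArg Subtype.val hk)
    by_cases hqr : q = r
    · subst hqr
      exact mem_centralizer_iff.mp hc t
        ⟨t.2.1, Cfsg.Agent.Subnormal.mem_pCore_of_mem_fittingSubgroup t.2.2 hk'⟩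
    · obtain ⟨l, hl⟩ := isPGroup_pCore' (G := H) r ⟨y, hy⟩
      have hcop : (orderOf (⟨y, hyF⟩ : F)).Coprime q := by
        rw [Subgroup.orderOf_mk]
        exact (((Nat.coprime_primes hr.out hq).mpr (Ne.symm hqr)).pow_left l).coprime_dvd_left
          (orderOf_dvd_of_pow_eq_one (congrArg Subtype.val hl))
      have hcm := Cfsg.Agent.Subnormal.commute_of_coprime (u := (⟨t, t.2.2⟩ : F)) (k := k)
        (Subtype.ext hk') hcop
      exact congrArg Subtype.val hcm.eq.symm
  rw [mem_centralizer_iff]
  intro s hs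
  have hEy : Cfsg.layer H ≤ centralizer {y} := fun e he => mem_centralizer_singleton_iff.mpr
    ((mem_centralizer_iff.mp (le_centralizer_of_commutator_eq_bot
      commutator_layer_fittingSubgroup he) y hyF).symm)
  exact mem_centralizer_singleton_iff.mp (sup_le hEy key (le_layer_sup hS hE hs))

/-- A `q`-element centralising `S ∩ O_r(H)` centralises `O_r(H)`, `r ≠ q`. -/
theorem le_centralizer_pCore {q r : ℕ} [hq : Fact q.Prime] [hr : Fact r.Prime] (hqr : q ≠ r)
    (hS : S ≤ Cfsg.generalizedFittingSubgroup H) (hE : Cfsg.layer H ≤ S)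
    (hC : Cfsg.generalizedFittingSubgroup H ⊓ centralizer (S : Set H) ≤ S)
    {Q : Subgroup H} (hQ : IsPGroup q Q)
    (hc : Q ≤ centralizer ((S ⊓ Cfsg.pCore r H : Subgroup H) : Set H)) :
    Q ≤ centralizer (Cfsg.pCore r H : Set H) := by
  obtain ⟨k, hk⟩ := hQ.exists_card_eq
  refine Cfsg.Agent.Coprime.le_centralizer_of_pq
    (P := S ⊓ Cfsg.pCore r H) ((isPGroup_pCore' r).to_le inf_le_right)
    (by rw [hk]; exact ((Nat.coprime_primes hq.out hr.out).mpr hqr).pow_left k)
    (isPGroup_pCore' r) (le_centralizer_iff.mp hc) (inf_le_right.trans le_normalizer)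
    (le_top.trans_eq (normalizer_eq_top (h := pCore_normal' r) _).symm) fun y hy => ?_
  have hyS : y ∈ S := hC ⟨(pCore_le_fittingSubgroup hr.out).trans
    fittingSubgroup_le_generalizedFittingSubgroup hy.1, mem_centralizer_of_pCore hS hE hy.1 hy.2⟩
  exact le_centralizer_iff.mp hc ⟨hyS, hy.1⟩

/-- A `p'`-element of `S` centralises a `p`-group `X` normalised by `S`. -/
theorem mem_centralizer_of_normalized [hp : Fact p.Prime] (hsn : S.IsSubnormal)
    (hS : S ≤ Cfsg.generalizedFittingSubgroup H) {X : Subgroup H} (hX : IsPGroup p X)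
    (hn : S ≤ normalizer (X : Set H)) {s : H} (hs : s ∈ S) (hc : (orderOf s).Coprime p) :
    s ∈ centralizer (X : Set H) := by
  set Q := zpowers s with hQ
  have hQS : Q ≤ S := zpowers_le.mpr hs
  obtain ⟨k, hk⟩ := hX.exists_card_eq
  have hcop : (Nat.card Q).Coprime (Nat.card X) := by
    rw [hQ, Nat.card_zpowers, hk]; exact hc.pow_right k
  have hsol : Group.IsSolvable Q ∨ Group.IsSolvable X :=
    Or.inl (Group.isSolvable_of_comm fun a b => mul_comm' a b)
  have hXS : ⁅X, Q⁆ ≤ S ⊓ X := le_inf (commutator_le_of_isSubnormal hsn hQS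
      (Cfsg.Agent.Coprime.commutator_commutator_eq (hQS.trans hn) hcop hsol))
    (Cfsg.Agent.Coprime.commutator_le_left_of_le_normalizer (hQS.trans hn))
  have hsub : (S ⊓ X).IsSubnormal := isSubnormal_of_normalized hsn inf_le_left
    ((le_inf le_normalizer hn).trans inf_normalizer_le_normalizer_inf)
  have hXp : IsPGroup p ↥(S ⊓ X) := hX.to_le inf_le_right
  have := hXp.isNilpotent
  have hXO : S ⊓ X ≤ Cfsg.pCore p H := by
    intro x hx
    obtain ⟨l, hl⟩ := hXp ⟨x, hx⟩
    exact Cfsg.Agent.Subnormal.mem_pCore_of_mem_fittingSubgroup (k := l)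
      (le_fittingSubgroup_of_isSubnormal hsub hx) (congrArg Subtype.val hl)
  exact Cfsg.Agent.Coprime.le_centralizer_of_commutator_le_centralizer (hQS.trans hn) hcop hsol
    ((zpowers_le.mpr (other_le_centralizer (mem_other (hS hs) hc))).trans
      (centralizer_le (hXS.trans hXO))) (mem_zpowers s)

end InA

/-- Let G be a non-abelian finite simple group, A a maximal subgroup, F = F*(A) its generalized Fitting subgroup (viewed in G), and S ≤ F a subgroup subnormal in F with C_F(S) ≤ S. Let B be any subgroup of G containing S. Then (a) for every prime q not dividing |F(A)|, O_q(B) ∩ A = 1; and (b) for every prime p dividing |F(A)|, O_p(B) commutes elementwise with the subgroup of F generated by its elements of order prime to p. -/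
theorem result {G : Type*} [Group G] [Finite G] [IsSimpleGroup G] (hna : ¬ IsMulCommutative G) (A : Subgroup G) (hA : IsCoatom A) (S : Subgroup G) (hSF : S ≤ (Cfsg.generalizedFittingSubgroup ↥A).map A.subtype) (hSsn : (S.subgroupOf ((Cfsg.generalizedFittingSubgroup ↥A).map A.subtype)).IsSubnormal) (hSC : (Cfsg.generalizedFittingSubgroup ↥A).map A.subtype ⊓ Subgroup.centralizer (S : Set G) ≤ S) (B : Subgroup G) (hSB : S ≤ B) : (∀ q : ℕ, q.Prime → ¬ q ∣ Nat.card (Cfsg.fittingSubgroup ↥A) → (Cfsg.pCore q ↥B).map B.subtype ⊓ A = ⊥) ∧ (∀ p : ℕ, p.Prime → p ∣ Nat.card (Cfsg.fittingSubgroup ↥A) → ∀ x ∈ (Cfsg.pCore p ↥B).map B.subtype, ∀ y ∈ (Cfsg.pResidual p ↥(Cfsg.generalizedFittingSubgroup ↥A)).map ((Cfsg.generalizedFittingSubgroup ↥A).subtype) , x * (A.subtype y) = (A.subtype y) * x) := by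
  set P := fun q : ℕ => (Cfsg.pCore q ↥B).map B.subtype with hP
  set F' := Cfsg.generalizedFittingSubgroup ↥A with hF'
  set S' := S.subgroupOf A with hS'
  have hSA : S ≤ A := hSF.trans (map_subtype_le _)
  have hSm : S'.map A.subtype = S := map_subgroupOf_eq_of_le hSA
  have hS'F : S' ≤ F' := by
    intro x hx
    obtain ⟨y, hy, hyx⟩ := hSF (mem_subgroupOf.mp hx)
    rwa [← show y = x from Subtype.ext hyx]
  have hsn : S'.IsSubnormal := by
    have h1 : (S'.subgroupOf F').IsSubnormal := by
      have := hSsn.comap ((F'.equivMapOfInjective A.subtype A.subtype_injective).toMonoidHom)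
      exact this
    have := isSubnormal_map_subtype (N := F') (generalizedFittingSubgroup_normal A).isSubnormal h1
    rwa [map_subgroupOf_eq_of_le hS'F] at this
  have hC : F' ⊓ centralizer (S' : Set ↥A) ≤ S' := fun x hx => mem_subgroupOf.mpr
    (hSC ⟨mem_map_of_mem _ hx.1, mem_centralizer_iff.mpr fun s hs =>
      congrArg Subtype.val (mem_centralizer_iff.mp hx.2 ⟨s, hSA hs⟩ hs)⟩)
  have hE : Cfsg.layer ↥A ≤ S' := layer_le hsn hC
  have hBn : ∀ q, B ≤ normalizer (P q : Set G) := fun q =>
    Cfsg.Agent.S5752.le_normalizer_cp q B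
  have hXn : ∀ q, S' ≤ normalizer (((P q).subgroupOf A : Subgroup A) : Set A) := fun q => by
    refine le_trans ?_ (le_normalizer_comap _)
    exact comap_mono (hSB.trans (hBn q))
  -- `q'`-elements of `S` centralise `O_q(B) ∩ A`
  have hkey : ∀ q : ℕ, q.Prime → ∀ s ∈ S', (orderOf s).Coprime q →
      s ∈ centralizer (((P q).subgroupOf A : Subgroup A) : Set A) := fun q hq s hs hc => by
    have := Fact.mk hq
    exact mem_centralizer_of_normalized hsn hS'F
      ((Cfsg.Agent.S5752.isPGroup_cp q B).comap_subtype) (hXn q) hs hc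
  refine ⟨fun q hq hqF => ?_, fun p hp hpF => ?_⟩
  · have := Fact.mk hq
    set X := (P q).subgroupOf A with hX
    have hXp : IsPGroup q X := (Cfsg.Agent.S5752.isPGroup_cp q B).comap_subtype
    have hFq : (Nat.card ↥(Cfsg.fittingSubgroup ↥A)).Coprime q :=
      (hq.coprime_iff_not_dvd.mpr hqF).symm
    have hXS : S' ≤ centralizer (X : Set A) := by
      refine (le_layer_sup hS'F hE).trans (sup_le ?_ fun s hs => hkey q hq s hs.1 ?_)
      · exact Cfsg.Agent.S5752.le_centralizer_of_perfect (p := q) commutator_layer_self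
          fun s hs hc => hkey q hq s (hE hs) hc
      · exact hFq.coprime_dvd_left (by
          have := orderOf_dvd_natCard (⟨s, hs.2⟩ : Cfsg.fittingSubgroup A)
          rwa [Subgroup.orderOf_mk] at this)
    have hXF : X ≤ centralizer (F' : Set A) := by
      rw [← commutator_eq_bot_iff_le_centralizer, hF', Cfsg.generalizedFittingSubgroup]
      refine commutator_sup_eq_bot ?_ ?_
      · exact commutator_eq_bot_iff_le_centralizer.mpr
          ((le_centralizer_iff.mp hXS).trans (centralizer_le hE))
      · rw [commutator_eq_bot_iff_le_centralizer, fittingSubgroup_eq_iSup_pCore,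
          le_centralizer_iff]
        refine iSup_le fun r => le_centralizer_iff.mp ?_
        have := Fact.mk (Nat.prime_of_mem_primeFactors r.2)
        by_cases hr : q = r
        · have hbot : Cfsg.pCore (r : ℕ) A = ⊥ := by
            rw [← hr]
            refine card_eq_one.mp (Nat.eq_one_of_dvd_coprimes
              (hFq.pow_right _) (card_dvd_of_le (pCore_le_fittingSubgroup hq))
              (dvd_of_eq (IsPGroup.iff_card.mp (isPGroup_pCore' q)).choose_spec))
          intro x _
          rw [hbot, mem_centralizer_iff]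
          intro y hy
          rw [SetLike.mem_coe, mem_bot] at hy
          simp [hy]
        · exact le_centralizer_pCore hr hS'F hE hC hXp
            ((le_centralizer_iff.mp hXS).trans (centralizer_le inf_le_left))
    have hXbot : X = ⊥ := by
      rw [eq_bot_iff]
      intro x hx
      have h2 : x ∈ Cfsg.fittingSubgroup A := inf_centralizer_le_fittingSubgroup
        (generalizedFittingSubgroup_normal A).isSubnormal
        ⟨centralizer_generalizedFittingSubgroup_le (hXF hx), hXF hx⟩
      obtain ⟨k, hk⟩ := hXp ⟨x, hx⟩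
      have h3 := orderOf_dvd_natCard (⟨x, h2⟩ : Cfsg.fittingSubgroup A)
      rw [Subgroup.orderOf_mk] at h3
      exact mem_bot.mpr (orderOf_eq_one_iff.mp (Nat.eq_one_of_dvd_coprimes (hFq.pow_right k) h3
        (orderOf_dvd_of_pow_eq_one (congrArg Subtype.val hk))))
    rw [hX, subgroupOf_eq_bot] at hXbot
    exact disjoint_iff.mp hXbot
  · have := Fact.mk hp
    have hnorm : ∀ W : Subgroup A, W.Normal → W ≠ ⊥ →
        normalizer ((W.map A.subtype : Subgroup G) : Set G) = A := by
      intro W hW h0
      refine (hA.le_iff.mp (Cfsg.Agent.S5752.le_normalizer_map A W)).resolve_left fun ht => ?_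
      rcases (normalizer_eq_top_iff.mp ht).eq_bot_or_eq_top with h | h
      · exact h0 ((map_eq_bot_iff_of_injective _ A.subtype_injective).mp h)
      · exact hA.1 (top_le_iff.mp (h.ge.trans (map_subtype_le _)))
    -- the centre of `O_r(A)` lies in `S`
    have hZS : ∀ r : ℕ, r.Prime →
        (center ↥(Cfsg.pCore r A)).map (Cfsg.pCore r A).subtype ≤ S' := by
      rintro r hr _ ⟨z, hz, rfl⟩
      have := Fact.mk hr
      have hzc : (z : A) ∈ centralizer ((S' ⊓ Cfsg.pCore r A : Subgroup A) : Set A) :=
        mem_centralizer_iff.mpr fun y hy => congrArg Subtype.val (mem_center_iff.mp hz ⟨y, hy.2⟩)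
      exact hC ⟨(pCore_le_fittingSubgroup hr).trans fittingSubgroup_le_generalizedFittingSubgroup
        z.2, mem_centralizer_of_pCore hS'F hE z.2 hzc⟩
    have hZne : ∀ r : ℕ, r.Prime → Cfsg.pCore r A ≠ ⊥ →
        (center ↥(Cfsg.pCore r A)).map (Cfsg.pCore r A).subtype ≠ ⊥ := by
      intro r hr h0 hz
      have := Fact.mk hr
      have := (isPGroup_pCore' (G := A) r).isNilpotent
      have := (nontrivial_iff_ne_bot _).mpr h0
      exact Group.IsNilpotent.center_ne_bot (G := ↥(Cfsg.pCore r A))
        ((map_eq_bot_iff_of_injective _ (subtype_injective _)).mp hz)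
    have hpne : Cfsg.pCore p A ≠ ⊥ := by
      intro h
      exact (hp.coprime_iff_not_dvd.mp (coprime_card_fittingSubgroup h).symm) hpF
    have hpC : ((center ↥(Cfsg.pCore p A)).map (Cfsg.pCore p A).subtype).Normal :=
      have := pCore_normal' (G := A) p
      ConjAct.normal_of_characteristic_of_normal
    -- `p'`-elements of `S` centralise `O_p(B)`
    have hSP : ∀ s ∈ S', (orderOf s).Coprime p → (s : G) ∈ centralizer (P p : Set G) := by
      intro s hs hc
      set SP := (S' ⊓ Cfsg.pCore p A).map A.subtype with hSPdef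
      have hSPS : SP ≤ S := hSm ▸ map_mono inf_le_left
      refine Cfsg.Agent.Coprime.le_centralizer_of_pq (P := SP) (Q := zpowers (s : G))
        (((isPGroup_pCore' p).to_le inf_le_right).map _)
        (by rwa [Nat.card_zpowers, Subgroup.orderOf_coe]) (Cfsg.Agent.S5752.isPGroup_cp p B) ?_
        ((hSPS.trans hSB).trans (hBn p)) (zpowers_le.mpr (hBn p (hSB hs))) ?_ (mem_zpowers _)
      · rw [le_centralizer_iff, zpowers_le, mem_centralizer_iff]
        rintro _ ⟨y, hy, rfl⟩
        exact congrArg Subtype.val (mem_centralizer_iff.mp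
          (other_le_centralizer (mem_other (hS'F hs) hc)) y hy.2)
      · rintro y ⟨hyP, hyc⟩
        have hyA : y ∈ A := by
          rw [← hnorm _ hpC (hZne p hp hpne)]
          refine centralizer_le_normalizer _ (centralizer_le ?_ hyc)
          exact map_mono (le_inf (hZS p hp) (map_subtype_le _))
        rw [mem_centralizer_iff]
        intro t ht
        obtain ⟨i, rfl⟩ := mem_zpowers_iff.mp ht
        have h1 := mem_centralizer_iff.mp (hkey p hp s hs hc) ⟨y, hyA⟩ hyP
        exact ((show Commute (s : G) y from (congrArg Subtype.val h1).symm).zpow_left i).eq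
    intro x hx y hy
    suffices hoth : other p A ≤ (centralizer {x}).comap A.subtype by
      refine (mem_centralizer_singleton_iff.mp (mem_comap.mp ?_)).symm
      obtain ⟨z, hz, rfl⟩ := hy
      rw [Cfsg.Agent.Transfer.pResidual_eq_residual] at hz
      exact ((closure_le (K := ((centralizer {x}).comap A.subtype).subgroupOf F')).mpr
        fun w hw => mem_subgroupOf.mpr
          (hoth (mem_other w.2 (by rw [Subgroup.orderOf_coe]; exact hw)))) hz
    -- the layer is centralised
    have hEx : Cfsg.layer A ≤ (centralizer {x}).comap A.subtype := by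
      intro e he
      rw [mem_comap, mem_centralizer_singleton_iff]
      refine (mem_centralizer_iff.mp (Cfsg.Agent.S5752.le_centralizer_of_perfect (p := p)
        (D := (Cfsg.layer A).map A.subtype) (by rw [← map_commutator, commutator_layer_self])
        ?_ (mem_map_of_mem _ he)) x hx).symm
      rintro _ ⟨s, hs, rfl⟩ hc
      exact hSP s (hE hs) (by rwa [← Subgroup.orderOf_coe])
    have hZx : ∀ r : (Nat.card A).primeFactors, (r : ℕ) ≠ p → Cfsg.pCore (r : ℕ) A ≠ ⊥ →
        x ∈ A := by
      intro r hr h0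
      have hrp := Nat.prime_of_mem_primeFactors r.2
      have := Fact.mk hrp
      have := pCore_normal' (G := A) (r : ℕ)
      rw [← hnorm _ ConjAct.normal_of_characteristic_of_normal (hZne r hrp h0)]
      refine centralizer_le_normalizer _ (mem_centralizer_iff.mpr ?_)
      rintro _ ⟨z, hz, rfl⟩
      refine (mem_centralizer_iff.mp (hSP z (hZS r hrp hz) ?_) x hx).symm
      obtain ⟨k, hk⟩ := isPGroup_pCore' (G := A) (r : ℕ) ⟨z, map_subtype_le _ hz⟩
      exact (((Nat.coprime_primes hrp hp).mpr hr).pow_left k).coprime_dvd_left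
        (orderOf_dvd_of_pow_eq_one (congrArg Subtype.val hk))
    refine sup_le hEx (iSup₂_le fun r hr => ?_)
    by_cases h0 : Cfsg.pCore (r : ℕ) A = ⊥
    · rw [h0]; exact bot_le
    have hxA : x ∈ A := hZx r hr h0
    have := Fact.mk (Nat.prime_of_mem_primeFactors r.2)
    obtain ⟨k, hk⟩ := Cfsg.Agent.S5752.isPGroup_cp p B ⟨x, hx⟩
    have hQp : IsPGroup p (zpowers (⟨x, hxA⟩ : A)) := by
      obtain ⟨j, -, hj⟩ := (Nat.dvd_prime_pow hp).mp
        (orderOf_dvd_of_pow_eq_one (congrArg Subtype.val hk : x ^ p ^ k = 1))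
      exact IsPGroup.of_card (n := j) (by rw [Nat.card_zpowers, Subgroup.orderOf_mk, hj])
    intro w hw
    rw [mem_comap, mem_centralizer_singleton_iff]
    refine congrArg Subtype.val (mem_centralizer_iff.mp (le_centralizer_pCore (Ne.symm hr)
      hS'F hE hC hQp ?_ (mem_zpowers _)) w hw)
    rw [zpowers_le, mem_centralizer_iff]
    intro v hv
    refine Subtype.ext (mem_centralizer_iff.mp (hSP v hv.1 ?_) x hx).symm
    obtain ⟨l, hl⟩ := isPGroup_pCore' (G := A) (r : ℕ) ⟨v, hv.2⟩
    exact (((Nat.coprime_primes (Fact.out : (r : ℕ).Prime) hp).mpr hr).pow_left l).coprime_dvd_left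
      (orderOf_dvd_of_pow_eq_one (congrArg Subtype.val hl))

end Cfsg.Agent.S1247
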