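import Cfsg.Statements.S1248
import Cfsg.Agent.Lib.SylL34.U34

set_option autoImplicit false
open Cfsg

namespace Cfsg.Agent.S1248

open Cfsg.Agent.Unital16 Cfsg.Agent.SylL34
open scoped commutatorElement

theorem facts : (∀ a : K16, ∃ b, U34.cond (a, b)) ∧
    (∀ b : K16, U34.cond (0, b) → ∃ a a' : K16, b = a ^ 4 * a' + a' ^ 4 * a) ∧
    (∀ a : K16, a ≠ 0 → ∃ a' : K16, a ^ 4 * a' ≠ a' ^ 4 * a) := by
  refine ⟨?_, ?_, ?_⟩ <;> decide +kernel

theorem syl_center (g : U34.syl) : g ∈ Subgroup.center U34.syl ↔ g * g = 1 := by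
  refine ⟨fun hg => ?_, props_syl.central g⟩
  obtain ⟨p, rfl⟩ := U34.param.surjective g
  rw [U34.param_prod, ← U34.param_one]
  refine congrArg _ (Subtype.ext ?_)
  show U34.pmul p.1 p.1 = (0, 0)
  rw [U34.pmul_self]
  by_contra h
  have hp : p.1.1 ≠ 0 := fun e => h (by rw [e]; simp)
  obtain ⟨a', ha'⟩ := facts.2.2 _ hp
  obtain ⟨b', hb'⟩ := facts.1 a'
  have hc := Subgroup.mem_center_iff.mp hg (U34.param ⟨(a', b'), hb'⟩)
  rw [U34.param_prod, U34.param_prod, U34.param.injective.eq_iff, Subtype.ext_iff] at hc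
  have h2 : b' + p.1.2 + a' ^ 4 * p.1.1 = p.1.2 + b' + p.1.1 ^ 4 * a' := congrArg Prod.snd hc
  apply ha'
  linear_combination -h2

theorem syl_le_commutator (g : U34.syl) (hg : g * g = 1) : g ∈ commutator U34.syl := by
  obtain ⟨p, rfl⟩ := U34.param.surjective g
  rw [U34.param_prod, ← U34.param_one, U34.param.injective.eq_iff, Subtype.ext_iff] at hg
  have hg' : U34.pmul p.1 p.1 = (0, 0) := hg
  rw [U34.pmul_self] at hg'
  have hp1 : p.1.1 = 0 := pow_eq_zero_iff (by norm_num) |>.mp (congrArg Prod.snd hg')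
  have hp : p.1 = (0, p.1.2) := Prod.ext hp1 rfl
  obtain ⟨a, a', hb⟩ := facts.2.1 p.1.2 (hp ▸ p.2)
  obtain ⟨c, hc⟩ := facts.1 a
  obtain ⟨c', hc'⟩ := facts.1 a'
  have he : U34.param p * (U34.param ⟨(a', c'), hc'⟩ * U34.param ⟨(a, c), hc⟩) =
      U34.param ⟨(a, c), hc⟩ * U34.param ⟨(a', c'), hc'⟩ := by
    rw [U34.param_prod, U34.param_prod, U34.param_prod]
    refine congrArg _ (Subtype.ext ?_)
    show U34.pmul p.1 (U34.pmul (a', c') (a, c)) = U34.pmul (a, c) (a', c')
    rw [hp]
    refine Prod.ext ?_ ?_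
    · show (0 : K16) + (a' + a) = a + a'
      rw [zero_add, add_comm]
    · show p.1.2 + (c' + c + a' ^ 4 * a) + (0 : K16) ^ 4 * (a' + a) = c + c' + a ^ 4 * a'
      rw [hb]
      linear_combination (a' ^ 4 * a) * (CharTwo.two_eq_zero : (2 : K16) = 0)
  have : U34.param p = ⁅U34.param ⟨(a, c), hc⟩, U34.param ⟨(a', c'), hc'⟩⁆ := by
    rw [commutatorElement_def, ← he]
    group
  rw [this]
  exact Subgroup.commutator_mem_commutator (Subgroup.mem_top _) (Subgroup.mem_top _)

theorem commute_of_sq {Q : Type*} [Group Q] (h : ∀ x : Q, x ^ 2 = 1) (a b : Q) : Commute a b := by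
  have hi : ∀ x : Q, x⁻¹ = x := fun x => inv_eq_of_mul_eq_one_right (by rw [← sq]; exact h x)
  have := hi (a * b)
  rw [mul_inv_rev, hi, hi] at this
  exact this.symm

theorem equiv_syl {F : Type*} [Field F] [Fintype F] (hF : Fintype.card F = 16)
    (S : Sylow 2 (Cfsg.PSU 3 F 4)) : Nonempty (↥(S : Subgroup (Cfsg.PSU 3 F 4)) ≃* U34.syl) := by
  haveI : Fact (Nat.Prime 2) := ⟨Nat.prime_two⟩
  obtain ⟨e⟩ := nonempty_psu_equiv hF
  let P : Subgroup (Cfsg.PSU 3 F 4) := U34.syl.map e.symm.toMonoidHom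
  let eP : U34.syl ≃* P := U34.syl.equivMapOfInjective _ e.symm.injective
  have hS : Nat.card ↥(S : Subgroup (Cfsg.PSU 3 F 4)) = 64 := (props_of_sylow hF S).card
  let S₀ : Sylow 2 (Cfsg.PSU 3 F 4) := Sylow.ofCard P (by
    rw [← S.card_eq_multiplicity, hS, ← Nat.card_congr eP.toEquiv, props_syl.card])
  exact ⟨(S.equiv S₀).trans eP.symm⟩

theorem of_equiv_syl {T : Type*} [Group T] [Finite T] (e : T ≃* U34.syl) :
    Nat.card T = 64 ∧ IsKleinFour (Subgroup.center T) ∧
      Subgroup.center T = Subgroup.closure {x : T | orderOf x = 2} ∧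
      Subgroup.center T = commutator T ∧ Nat.card (T ⧸ Subgroup.center T) = 16 ∧
      ∀ x : T ⧸ Subgroup.center T, x ^ 2 = 1 := by
  have h := props_syl.of_equiv e
  have hc : ∀ g : T, g ∈ Subgroup.center T ↔ g * g = 1 := by
    intro g
    refine ⟨fun hg => e.injective ?_, h.central g⟩
    rw [map_mul, map_one, ← syl_center, Subgroup.mem_center_iff]
    intro k
    obtain ⟨k, rfl⟩ := e.surjective k
    rw [← map_mul, ← map_mul, Subgroup.mem_center_iff.mp hg k]
  have hZ : Nat.card (Subgroup.center T) = 4 := by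
    rw [← h.card_inv]
    exact Nat.card_congr (Equiv.subtypeEquivRight hc)
  have hsq : ∀ x : T ⧸ Subgroup.center T, x ^ 2 = 1 := by
    intro x
    induction x using QuotientGroup.induction_on with
    | H g =>
      rw [← QuotientGroup.mk_pow, QuotientGroup.eq_one_iff, hc, sq]
      exact h.sq_sq g
  refine ⟨h.card, ⟨hZ, ?_⟩, ?_, ?_, ?_, hsq⟩
  · have hne : Nontrivial (Subgroup.center T) := Finite.one_lt_card_iff_nontrivial.mp (by omega)
    refine Monoid.exponent_eq_prime_iff Nat.prime_two |>.mpr fun z hz => orderOf_eq_prime ?_ hz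
    rw [sq]; exact Subtype.ext ((hc _).mp z.2)
  · refine le_antisymm (fun g hg => ?_) (Subgroup.closure_le _ |>.mpr fun g hg => ?_)
    · by_cases h1 : g = 1
      · rw [h1]; exact one_mem _
      · exact Subgroup.subset_closure (orderOf_eq_prime (by rw [sq]; exact (hc g).mp hg) h1)
    · exact (hc g).mpr (by rw [← sq, ← (show orderOf g = 2 from hg)]; exact pow_orderOf_eq_one g)
  · refine le_antisymm (fun g hg => ?_) ?_
    · have hm := syl_le_commutator (e g) (by rw [← map_mul, (hc g).mp hg, map_one])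
      have := Subgroup.mem_map_of_mem e.symm.toMonoidHom hm
      rw [commutator_def, Subgroup.map_commutator] at this
      have hm' : e.symm.toMonoidHom (e g) ∈ commutator T :=
        Subgroup.commutator_mono le_top le_top this
      simpa using hm'
    · rw [commutator_def, Subgroup.commutator_le]
      intro a _ b _
      rw [← QuotientGroup.eq_one_iff, ← QuotientGroup.mk'_apply, map_commutatorElement]
      rw [commutatorElement_eq_one_iff_commute]
      exact (commute_of_sq hsq _ _)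
  · have := Subgroup.card_eq_card_quotient_mul_card_subgroup (Subgroup.center T)
    rw [h.card, hZ] at this
    omega


/-- Let F be a field with 16 elements and S a Sylow 2-subgroup of PSU(3) over F (the unitary group U₃(4)). Then |S| = 64; the centre Z(S) is a Klein four-group and coincides with the subgroup generated by the involutions of S and with the derived subgroup; and every element of S ⧸ Z(S) squares to the identity, S ⧸ Z(S) having order 16. -/
theorem result {F : Type*} [Field F] [Fintype F] (hF : Fintype.card F = 16) (S : Sylow 2 (Cfsg.PSU 3 F 4)) : Nat.card S = 64 ∧ IsKleinFour (Subgroup.center (S : Subgroup (Cfsg.PSU 3 F 4))) ∧ Subgroup.center (S : Subgroup (Cfsg.PSU 3 F 4)) = Subgroup.closure {x : (S : Subgroup (Cfsg.PSU 3 F 4)) | orderOf x = 2} ∧ Subgroup.center (S : Subgroup (Cfsg.PSU 3 F 4)) = commutator (S : Subgroup (Cfsg.PSU 3 F 4)) ∧ Nat.card ((S : Subgroup (Cfsg.PSU 3 F 4)) ⧸ Subgroup.center (S : Subgroup (Cfsg.PSU 3 F 4))) = 16 ∧ ∀ x : (S :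 Subgroup (Cfsg.PSU 3 F 4)) ⧸ Subgroup.center (S : Subgroup (Cfsg.PSU 3 F 4)), x ^ 2 = 1 := by
  haveI : Fact (Nat.Prime 2) := ⟨Nat.prime_two⟩
  exact of_equiv_syl (equiv_syl hF S).some

end Cfsg.Agent.S1248
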