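import Cfsg.Statements.S1249
import Cfsg.Agent.Lib.Transfer.Fusion


set_option autoImplicit false
open Cfsg

namespace Cfsg.Agent.S1249

/-- Let P and Q be Sylow p-subgroups of the finite group G both containing the subgroup A. If A is strongly closed in P, then A is strongly closed in Q. -/
theorem result {G : Type*} [Group G] [Finite G] {p : ℕ} [Fact p.Prime] (P Q : Sylow p G) (A : Subgroup G) (hAQ : A ≤ Q) (hA : Cfsg.IsStronglyClosed A (P : Subgroup G)) : Cfsg.IsStronglyClosed A (Q : Subgroup G) := by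
  obtain ⟨c, hc⟩ := MulAction.exists_smul_eq G Q P
  have hQP : ∀ y ∈ (Q : Subgroup G), c * y * c⁻¹ ∈ (P : Subgroup G) := by
    intro y hy
    rw [← hc, Sylow.coe_subgroup_smul]
    exact ⟨y, hy, rfl⟩
  have hcA : ∀ a ∈ A, c * a * c⁻¹ ∈ A := fun a ha => hA.2 a ha c (hQP a (hAQ ha))
  have hn : c ∈ Subgroup.normalizer (A : Set G) :=
    Cfsg.Agent.Transfer.mem_normalizer_of_conj_mem hcA
  refine ⟨hAQ, fun x hx g hg => ?_⟩
  have h1 : (c * g) * x * (c * g)⁻¹ ∈ A := by
    apply hA.2 x hx
    have := hQP _ hg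
    simpa [mul_assoc] using this
  have h2 := (Subgroup.mem_normalizer_iff.mp hn (g * x * g⁻¹)).mpr
    (by simpa [mul_assoc] using h1)
  exact h2

end Cfsg.Agent.S1249
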