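import Cfsg.Statements.S1250
import Cfsg.Agent.Lib.Transfer.Fusion

set_option autoImplicit false
open Cfsg

namespace Cfsg.Agent.S1250

/-- Let S be a Sylow p-subgroup of the finite group G, A ≤ S strongly closed in S, and N a normal subgroup. Then the image of A in G ⧸ N is strongly closed in the image of S (which is a Sylow p-subgroup of G ⧸ N). -/
theorem result {G : Type*} [Group G] [Finite G] {p : ℕ} [Fact p.Prime] (S : Sylow p G) (A : Subgroup G) (hA : Cfsg.IsStronglyClosed A (S : Subgroup G)) (N : Subgroup G) [N.Normal] : Cfsg.IsStronglyClosed (A.map (QuotientGroup.mk' N)) ((S : Subgroup G).map (QuotientGroup.mk' N)) := by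
  refine ⟨Subgroup.map_mono hA.1, ?_⟩
  rintro _ ⟨x, hx, rfl⟩ g hg
  obtain ⟨g, rfl⟩ := QuotientGroup.mk'_surjective N g
  rw [← map_mul, ← map_inv, ← map_mul] at hg ⊢
  obtain ⟨s, hs, hse⟩ := hg
  -- g x g⁻¹ lies in S N
  set K : Subgroup G := (S : Subgroup G) ⊔ N
  have hSK : (S : Subgroup G) ≤ K := le_sup_left
  have hyK : g * x * g⁻¹ ∈ K := by
    have h1 : s⁻¹ * (g * x * g⁻¹) ∈ N := by
      rw [← QuotientGroup.eq]
      exact hse
    have := mul_mem (hSK hs) ((le_sup_right : N ≤ K) h1)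
    simpa [mul_assoc] using this
  have hp : IsPGroup p (Subgroup.zpowers (⟨g * x * g⁻¹, hyK⟩ : K)) := by
    have hx' : IsPGroup p (S : Subgroup G) := S.2
    obtain ⟨k, hk⟩ := IsPGroup.iff_orderOf.mp hx' ⟨x, hA.1 hx⟩
    have hy : orderOf (⟨g * x * g⁻¹, hyK⟩ : K) = p ^ k := by
      rw [← Subgroup.orderOf_coe]
      show orderOf (g * x * g⁻¹) = p ^ k
      rw [← hk, ← Subgroup.orderOf_coe]
      exact (MulAut.conj g).orderOf_eq x
    exact IsPGroup.of_card (n := k) (by rw [Nat.card_zpowers, hy])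
  obtain ⟨R, hR⟩ := hp.exists_le_sylow
  obtain ⟨c, hc⟩ := MulAction.exists_smul_eq K R (S.subtype hSK)
  have hmem : (c : G) * (g * x * g⁻¹) * (c : G)⁻¹ ∈ (S : Subgroup G) := by
    have h1 : c * ⟨g * x * g⁻¹, hyK⟩ * c⁻¹ ∈ (c • R : Sylow p K) :=
      ⟨_, hR (Subgroup.mem_zpowers _), rfl⟩
    rw [hc] at h1
    exact h1
  obtain ⟨t, ht, n, hn, htn⟩ := Subgroup.mem_sup_of_normal_right.mp c.2
  have hmem' : (n * g) * x * (n * g)⁻¹ ∈ (S : Subgroup G) := by
    have h3 := mul_mem (mul_mem (inv_mem ht) hmem) ht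
    rw [← htn] at h3
    simpa [mul_assoc] using h3
  refine ⟨_, hA.2 x hx _ hmem', ?_⟩
  have hn1 : QuotientGroup.mk' N n = 1 := (QuotientGroup.eq_one_iff n).mpr hn
  simp [map_mul, map_inv, hn1]

end Cfsg.Agent.S1250
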