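import Cfsg.Statements.S1251
import Cfsg.Agent.S1249
import Cfsg.Agent.Lib.PCore.Basic
import Cfsg.Agent.Lib.ZStar.Main

set_option autoImplicit false
open Cfsg

namespace Cfsg.Agent.S1251

open Subgroup

section

variable {G : Type*} [Group G] [Finite G] (S : Sylow 2 G) (A : Subgroup G)
  (hA : Cfsg.IsStronglyClosed A (S : Subgroup G)) (H : Subgroup G)
  (hAH : A ≤ Subgroup.normalizer (H : Set G)) (hdisj : A ⊓ H = ⊥)
include hA hAH hdisj

/-- A conjugate of `a` by an element of `H` lying in a 2-group with `a` equals `a`. -/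
theorem eq_of_isPGroup {a h : G} (ha : a ∈ A) (hh : h ∈ H)
    (hP : IsPGroup 2 ↥(Subgroup.zpowers a ⊔ Subgroup.zpowers (h * a * h⁻¹))) :
    h * a * h⁻¹ = a := by
  haveI : Fact (Nat.Prime 2) := ⟨Nat.prime_two⟩
  set b := h * a * h⁻¹ with hb
  set X := A ⊔ H with hX
  have hbX : b ∈ X := X.mul_mem (X.mul_mem (mem_sup_right hh) (mem_sup_left ha))
    (X.inv_mem (mem_sup_right hh))
  have hPX : Subgroup.zpowers a ⊔ Subgroup.zpowers b ≤ X :=
    sup_le (zpowers_le.mpr (mem_sup_left ha)) (zpowers_le.mpr hbX)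
  have hA2 : IsPGroup 2 A := S.2.to_le hA.1
  obtain ⟨T, hT⟩ := (hA2.comap_subtype (H := A) (K := X)).exists_le_sylow
  obtain ⟨T', hT'⟩ := (hP.comap_subtype (H := _) (K := X)).exists_le_sylow
  obtain ⟨x, hx⟩ := MulAction.exists_smul_eq X T T'
  obtain ⟨S₁, hS₁⟩ := (T.2.map X.subtype).exists_le_sylow
  have hAS₁ : A ≤ (S₁ : Subgroup G) := fun y hy =>
    hS₁ ⟨⟨y, mem_sup_left hy⟩, hT (mem_subgroupOf.mpr hy), rfl⟩
  have hA₁ := S1249.result S S₁ A hAS₁ hA
  have key : ∀ y ∈ Subgroup.zpowers a ⊔ Subgroup.zpowers b,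
      (x : G)⁻¹ * y * (x : G) ∈ (S₁ : Subgroup G) := by
    intro y hy
    have hy' : (⟨y, hPX hy⟩ : X) ∈ T' := hT' (mem_subgroupOf.mpr hy)
    have h1 : x⁻¹ * ⟨y, hPX hy⟩ * x ∈ (T : Subgroup X) := by
      have h2 : (⟨y, hPX hy⟩ : X) ∈ ((x • T : Sylow 2 X) : Subgroup X) := by rw [hx]; exact hy'
      rw [Sylow.coe_subgroup_smul, mem_pointwise_smul_iff_inv_smul_mem] at h2
      simpa [MulAut.smul_def] using h2
    exact hS₁ ⟨_, h1, rfl⟩
  have haA : (x : G)⁻¹ * a * (x : G) ∈ A := by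
    have h1 := hA₁.2 a ha (x : G)⁻¹ (by
      rw [inv_inv]; exact key a (mem_sup_left (mem_zpowers a)))
    rwa [inv_inv] at h1
  have hbA : (x : G)⁻¹ * b * (x : G) ∈ A := by
    have e : (x : G)⁻¹ * b * (x : G) = ((x : G)⁻¹ * h) * a * ((x : G)⁻¹ * h)⁻¹ := by
      rw [hb]; group
    rw [e]
    exact hA₁.2 a ha _ (by rw [← e]; exact key b (mem_sup_right (mem_zpowers b)))
  have hxN : (x : G)⁻¹ ∈ normalizer (H : Set G) :=
    inv_mem (sup_le hAH le_normalizer x.2)
  have habH : a * b⁻¹ ∈ H := by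
    have e : a * b⁻¹ = (a * h * a⁻¹) * h⁻¹ := by rw [hb]; group
    rw [e]
    exact H.mul_mem ((mem_normalizer_iff.mp (hAH ha) h).mp hh) (H.inv_mem hh)
  have h1 : (x : G)⁻¹ * (a * b⁻¹) * (x : G) ∈ A ⊓ H := by
    refine ⟨?_, ?_⟩
    · have e : (x : G)⁻¹ * (a * b⁻¹) * (x : G) =
          ((x : G)⁻¹ * a * (x : G)) * ((x : G)⁻¹ * b * (x : G))⁻¹ := by group
      rw [e]; exact A.mul_mem haA (A.inv_mem hbA)
    · have := (mem_normalizer_iff.mp hxN _).mp habH
      rwa [inv_inv] at this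
  rw [hdisj, mem_bot] at h1
  have h2 : a * b⁻¹ = (x : G) * 1 * (x : G)⁻¹ := by rw [← h1]; group
  rw [mul_one, mul_inv_cancel, mul_inv_eq_one] at h2
  exact h2.symm

theorem commute_aux (hO : Cfsg.oddCore ↥H = ⊥) (n : ℕ) :
    ∀ a ∈ A, orderOf a = n → ∀ h ∈ H, Commute a h := by
  haveI : Fact (Nat.Prime 2) := ⟨Nat.prime_two⟩
  induction n using Nat.strong_induction_on with
  | _ n ih =>
  intro a ha hn h hh
  by_cases ha1 : a = 1
  · rw [ha1]; exact Commute.one_left _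
  have hA2 : IsPGroup 2 A := S.2.to_le hA.1
  obtain ⟨k, hk⟩ := hA2 ⟨a, ha⟩
  obtain ⟨j, -, hj⟩ := (Nat.dvd_prime_pow Nat.prime_two).mp
    (orderOf_dvd_of_pow_eq_one (show a ^ 2 ^ k = 1 from congrArg Subtype.val hk))
  have hj0 : j ≠ 0 := by
    rintro rfl; exact ha1 (orderOf_eq_one_iff.mp (by simpa using hj))
  have hsq : ∀ g ∈ H, Commute (a ^ 2) g := by
    refine ih (orderOf (a ^ 2)) ?_ (a ^ 2) (A.pow_mem ha 2) rfl
    rw [← hn, orderOf_pow, hj, Nat.gcd_eq_right (dvd_pow_self 2 hj0)]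
    exact Nat.div_lt_self (Nat.pow_pos two_pos) one_lt_two
  set Y := Subgroup.zpowers a ⊔ H with hY
  have haY : a ∈ Y := mem_sup_left (mem_zpowers a)
  have hYN : Y ≤ normalizer (H : Set G) := sup_le (zpowers_le.mpr (hAH ha)) le_normalizer
  set a' : Y := ⟨a, haY⟩ with ha'
  have hcentral : a' ^ 2 ∈ Subgroup.center Y := by
    rw [Subgroup.mem_center_iff]
    intro g
    apply Subtype.ext
    show (g : G) * a ^ 2 = a ^ 2 * (g : G)
    have hle : Y ≤ Subgroup.centralizer ({a ^ 2} : Set G) :=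
      sup_le (zpowers_le.mpr (mem_centralizer_singleton_iff.mpr ((Commute.refl a).pow_right 2).eq))
        fun g hg => mem_centralizer_singleton_iff.mpr (hsq g hg).eq.symm
    exact mem_centralizer_singleton_iff.mp (hle g.2)
  set Z := Subgroup.zpowers (a' ^ 2) with hZ
  haveI hZn : Z.Normal := ⟨fun z hz g => by
    have hzc : z ∈ Subgroup.center Y := zpowers_le.mpr hcentral hz
    rw [Subgroup.mem_center_iff.mp hzc g, mul_inv_cancel_right]; exact hz⟩
  let π : Y →* Y ⧸ Z := QuotientGroup.mk' Z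
  have hZA : ∀ z ∈ Z, (z : G) ∈ A := by
    intro z hz
    obtain ⟨i, rfl⟩ := Subgroup.mem_zpowers_iff.mp hz
    simpa using A.zpow_mem (A.pow_mem ha 2) i
  have hiso : Cfsg.IsIsolatedInvolution (π a') := by
    refine ⟨orderOf_eq_prime_iff.mpr ⟨?_, ?_⟩, ?_⟩
    · rw [← map_pow]; exact (QuotientGroup.eq_one_iff _).mpr (mem_zpowers _)
    · intro h1
      obtain ⟨i, hi⟩ := Subgroup.mem_zpowers_iff.mp ((QuotientGroup.eq_one_iff _).mp h1)
      have h2 : (a ^ 2) ^ i = a := by simpa [ha'] using congrArg Subtype.val hi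
      have h3 : a ∈ Subgroup.zpowers (a ^ 2) := ⟨i, h2⟩
      have h4 := Nat.le_of_dvd (orderOf_pos _) (orderOf_dvd_of_mem_zpowers h3)
      rw [orderOf_pow, hj, Nat.gcd_eq_right (dvd_pow_self 2 hj0)] at h4
      exact absurd h4 (not_le.mpr (Nat.div_lt_self (Nat.pow_pos two_pos) one_lt_two))
    · intro q hq
      induction q using QuotientGroup.induction_on with
      | _ g =>
      have hgY : (g : G) ∈ ((H ⊔ Subgroup.zpowers a : Subgroup G) : Set G) := by
        rw [sup_comm]; exact g.2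
      rw [coe_mul_of_right_le_normalizer_left H (Subgroup.zpowers a)
        (zpowers_le.mpr (hAH ha))] at hgY
      obtain ⟨u, hu, v, hv, huv⟩ := hgY
      obtain ⟨i, rfl⟩ := Subgroup.mem_zpowers_iff.mp hv
      simp only at huv
      set b' : Y := g * a' * g⁻¹ with hb'
      have hbG : (b' : G) = u * a * u⁻¹ := by
        show (g : G) * a * (g : G)⁻¹ = u * a * u⁻¹
        rw [← huv]; group
      have hπ : (g : Y ⧸ Z) * π a' * (g : Y ⧸ Z)⁻¹ = π b' := rfl
      rw [hπ] at hq ⊢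
      have hc : a' * b' * (b' * a')⁻¹ ∈ Z := (QuotientGroup.eq_one_iff _).mp (by
        show π _ = 1
        rw [map_mul π (a' * b'), map_inv π, map_mul π a' b', map_mul π b' a', hq.eq, mul_inv_cancel])
      obtain ⟨i', hi'⟩ := Subgroup.mem_zpowers_iff.mp hc
      have hcG : (a ^ 2) ^ i' = a * (u * a * u⁻¹) * (u * a * u⁻¹ * a)⁻¹ := by
        have h3 := congrArg Subtype.val hi'
        simpa [hbG, ha'] using h3
      have hbnorm : u * a * u⁻¹ ∈ normalizer ((Subgroup.zpowers a : Subgroup G) : Set G) := by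
        refine Cfsg.Agent.Transfer.mem_normalizer_of_conj_mem fun y hy => ?_
        obtain ⟨l, rfl⟩ := Subgroup.mem_zpowers_iff.mp hy
        rw [← conj_zpow]
        refine zpow_mem ?_ _
        have e : u * a * u⁻¹ * a * (u * a * u⁻¹)⁻¹ =
            (a * (u * a * u⁻¹) * (u * a * u⁻¹ * a)⁻¹)⁻¹ * a := by group
        rw [e, ← hcG]
        exact mul_mem (inv_mem (zpow_mem (pow_mem (mem_zpowers a) 2) i')) (mem_zpowers a)
      have hob : orderOf (u * a * u⁻¹) = 2 ^ j := by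
        rw [← MulAut.conj_apply, MulEquiv.orderOf_eq, hj]
      have hP : IsPGroup 2 ↥(Subgroup.zpowers a ⊔ Subgroup.zpowers (u * a * u⁻¹)) :=
        (hA2.to_le (zpowers_le.mpr ha)).to_sup_of_normal_left'
          (IsPGroup.of_card (n := j) (by rw [Nat.card_zpowers, hob])) (zpowers_le.mpr hbnorm)
      have hab := eq_of_isPGroup S A hA H hAH hdisj ha hu hP
      have : b' = a' := Subtype.ext (hbG.trans hab)
      rw [this]
  -- the Z*-theorem
  have hz := ZStar.inZStar hiso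
  let ι : H →* Y := Subgroup.inclusion (le_sup_right : H ≤ Y)
  have hinj : Function.Injective (π.comp ι) := by
    refine (injective_iff_map_eq_one _).mpr fun g hg => ?_
    have h1 : (g : G) ∈ A ⊓ H := ⟨hZA _ ((QuotientGroup.eq_one_iff (ι g)).mp hg), g.2⟩
    rw [hdisj, mem_bot] at h1
    exact Subtype.ext h1
  set N := (Cfsg.pPrimeCore 2 (Y ⧸ Z)).comap (π.comp ι) with hN
  haveI : (Cfsg.pPrimeCore 2 (Y ⧸ Z)).Normal := PCore.pPrimeCore_normal
  have hNodd : Odd (Nat.card N) := by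
    refine Odd.of_dvd_nat (PCore.odd_card_oddCore (G := Y ⧸ Z)) ?_
    rw [← Subgroup.card_map_of_injective (K := N) hinj]
    exact Subgroup.card_dvd_of_le (Subgroup.map_comap_le _ _)
  have hNbot : N = ⊥ := le_bot_iff.mp (le_of_le_of_eq (PCore.le_oddCore hNodd) hO)
  have hc : h * a * h⁻¹ * a⁻¹ ∈ H := by
    have e : h * a * h⁻¹ * a⁻¹ = h * (a * h⁻¹ * a⁻¹) := by group
    rw [e]; exact H.mul_mem hh ((mem_normalizer_iff.mp (hAH ha) _).mp (H.inv_mem hh))
  have hcN : (⟨_, hc⟩ : H) ∈ N := hz (π ⟨h, mem_sup_right hh⟩)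
  rw [hNbot, mem_bot] at hcN
  have h2 : h * a * h⁻¹ * a⁻¹ = 1 := congrArg Subtype.val hcN
  rw [mul_inv_eq_one, mul_inv_eq_iff_eq_mul] at h2
  exact h2.symm

end

/-- Let S be a Sylow 2-subgroup of the finite group G and A ≤ S strongly closed in S. If H is a subgroup normalized by A with no nontrivial normal subgroup of odd order and A ∩ H = 1, then A ≤ C_G(H). -/
theorem result {G : Type*} [Group G] [Finite G] (S : Sylow 2 G) (A : Subgroup G) (hA : Cfsg.IsStronglyClosed A (S : Subgroup G)) (H : Subgroup G) (hAH : A ≤ Subgroup.normalizer (H : Set G)) (hO : Cfsg.oddCore ↥H = ⊥) (hdisj : A ⊓ H = ⊥) : A ≤ Subgroup.centralizer (H : Set G) := by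
  intro a ha
  rw [Subgroup.mem_centralizer_iff]
  intro h hh
  exact (commute_aux S A hA H hAH hdisj hO (orderOf a) a ha rfl h hh).eq.symm

end Cfsg.Agent.S1251
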