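import Cfsg.Statements.S1253
import Cfsg.Agent.Lib.Involution.Isolated
import Cfsg.Agent.Lib.Coprime.Sylow
import Cfsg.Agent.Lib.PCore.Basic
import Cfsg.Agent.Lib.SylowCount.Basic
import Cfsg.Agent.Lib.ZStar.Main

set_option autoImplicit false
open Cfsg

namespace Cfsg.Agent.S1253

theorem inv_mul_mem_centralizer_iff' {G : Type*} [Group G] {z g k : G} :
    g⁻¹ * k ∈ Subgroup.centralizer ({z} : Set G) ↔ k * z * k⁻¹ = g * z * g⁻¹ := by
  rw [Subgroup.mem_centralizer_singleton_iff]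
  constructor
  · intro h
    calc k * z * k⁻¹ = g * ((g⁻¹ * k) * z) * k⁻¹ := by group
      _ = g * (z * (g⁻¹ * k)) * k⁻¹ := by rw [h]
      _ = g * z * g⁻¹ := by group
  · intro h
    calc g⁻¹ * k * z = g⁻¹ * (k * z * k⁻¹) * k := by group
      _ = g⁻¹ * (g * z * g⁻¹) * k := by rw [h]
      _ = z * (g⁻¹ * k) := by group

open Involution.Isolated in
/-- An involution normalising a subgroup of odd order: cosets of its centralizer correspond to inverted elements. -/
theorem relIndex_eq_card_inverted {G : Type*} [Group G] [Finite G] {z : G} (hz : z * z = 1)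
    (Q : Subgroup G) (hQ : Odd (Nat.card Q)) (hzQ : z ∈ Subgroup.normalizer (Q : Set G)) :
    (Q ⊓ Subgroup.centralizer ({z} : Set G)).relIndex Q =
      Nat.card {x : G // x ∈ Q ∧ z * x * z⁻¹ = x⁻¹} := by
  have hsq : ∀ x : G, z * x * z⁻¹ = x⁻¹ → x * z * x⁻¹ = x * x * z := by
    intro x hx
    have hzi : z⁻¹ = z := inv_mul_self_eq hz
    calc x * z * x⁻¹ = x * z * (z * x * z⁻¹) := by rw [hx]
      _ = x * (z * z) * x * z⁻¹ := by group
      _ = x * x * z := by rw [hz, mul_one, hzi]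
  have hodd : ∀ x ∈ Q, Odd (orderOf x) := fun x hx => by
    have h := hQ.of_dvd_nat (orderOf_dvd_natCard (⟨x, hx⟩ : Q))
    rwa [Subgroup.orderOf_mk] at h
  let f : {x : G // x ∈ Q ∧ z * x * z⁻¹ = x⁻¹} →
      Q ⧸ (Q ⊓ Subgroup.centralizer ({z} : Set G)).subgroupOf Q :=
    fun x => QuotientGroup.mk (⟨x.1, x.2.1⟩ : Q)
  refine (Nat.card_eq_of_bijective f ⟨?_, ?_⟩).symm
  · intro x y hxy
    have h := (Subgroup.mem_inf.mp (Subgroup.mem_subgroupOf.mp (QuotientGroup.eq.mp hxy))).2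
    have h1 : y.1 * z * y.1⁻¹ = x.1 * z * x.1⁻¹ := inv_mul_mem_centralizer_iff'.mp h
    rw [hsq _ x.2.2, hsq _ y.2.2, mul_left_inj] at h1
    exact Subtype.ext (sq_inj (hodd _ x.2.1) (hodd _ y.2.1) h1.symm)
  · intro q
    induction q using QuotientGroup.induction_on with
    | _ g =>
    set r := (g : G) * z * (g : G)⁻¹ * z with hr
    have hzi : z⁻¹ = z := inv_mul_self_eq hz
    have hrQ : r ∈ Q := by
      have h : (g : G) * (z * (g : G)⁻¹ * z⁻¹) ∈ Q :=
        mul_mem g.2 ((Subgroup.mem_normalizer_iff.mp hzQ _).mp (inv_mem g.2))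
      have e : r = (g : G) * (z * (g : G)⁻¹ * z⁻¹) := by rw [hr, hzi]; group
      rwa [e]
    have hri : MulAut.conj z r = r⁻¹ := by
      rw [MulAut.conj_apply, hr, mul_inv_rev, mul_inv_rev, mul_inv_rev, inv_inv, hzi]
      simp [mul_assoc, hz]
    have hki : z * oddRoot r * z⁻¹ = (oddRoot r)⁻¹ := by
      rw [← MulAut.conj_apply, oddRoot, map_pow, hri, inv_pow]
    refine ⟨⟨oddRoot r, pow_mem hrQ _, hki⟩, QuotientGroup.eq.mpr ?_⟩
    refine Subgroup.mem_subgroupOf.mpr (Subgroup.mem_inf.mpr ⟨?_, inv_mul_mem_centralizer_iff'.mpr ?_⟩)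
    · exact mul_mem (inv_mem (pow_mem hrQ _)) g.2
    · rw [hsq _ hki, oddRoot_mul_self (hodd r hrQ), hr, mul_assoc _ z z, hz, mul_one]

/-- Let z be an isolated involution of the finite group G with centralizer C, p an odd prime and P a Sylow p-subgroup of G normalized by z. Then P ∩ C has p-power-free index in C (it is a Sylow p-subgroup of C), and |P : C_P(z)| equals the number of elements x ∈ P with z x z⁻¹ = x⁻¹. -/
theorem result {G : Type*} [Group G] [Finite G] (z : G) (hz : Cfsg.IsIsolatedInvolution z) {p : ℕ} [Fact p.Prime] (hp : p ≠ 2) (P : Sylow p G) (hzP : z ∈ Subgroup.normalizer ((P : Subgroup G) : Set G)) : ¬ p ∣ ((P : Subgroup G) ⊓ Subgroup.centralizer ({z} : Set G)).relIndex (Subgroup.centralizer ({z} : Set G)) ∧ ((P : Subgroup G) ⊓ Subgroup.centralizer ({z} : Set G)).relIndex (P : Subgroup G) = Nat.card {x : G // x ∈ P ∧ z * x * z⁻¹ = x⁻¹} := by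
  have hz2 : z * z = 1 := Involution.Isolated.mul_self hz
  have hPodd : Odd (Nat.card (P : Subgroup G)) := by
    obtain ⟨k, hk⟩ := (IsPGroup.iff_card (p := p)).mp P.2
    rw [hk]
    exact ((Fact.out : p.Prime).odd_of_ne_two hp).pow
  refine ⟨?_, relIndex_eq_card_inverted hz2 _ hPodd hzP⟩
  set C := Subgroup.centralizer ({z} : Set G) with hC
  set O := pPrimeCore 2 G with hO
  haveI : O.Normal := PCore.pPrimeCore_normal
  have hOodd : Odd (Nat.card O) := PCore.odd_card_oddCore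
  have hzO : z ∈ Subgroup.normalizer (O : Set G) := Subgroup.normalizer_eq_top O ▸ Subgroup.mem_top z
  set A := Subgroup.zpowers z with hA
  have hAcard : Nat.card A = 2 := by rw [Nat.card_zpowers, hz.1]
  have hAO : A ≤ Subgroup.normalizer (O : Set G) := Subgroup.zpowers_le.mpr hzO
  have hcop : (Nat.card A).Coprime (Nat.card O) := by
    rw [hAcard]; exact Nat.coprime_two_left.mpr hOodd
  have hs : Group.IsSolvable A ∨ Group.IsSolvable O :=
    Or.inl (Group.isSolvable_of_comm fun a b => mul_comm' a b)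
  -- the Sylow subgroup `P ∩ O` of `O`
  obtain ⟨Q₀, hQ₀⟩ := SylowCount.exists_sylow_inf P O
  have hQ₀map : (Q₀ : Subgroup O).map O.subtype = (P : Subgroup G) ⊓ O := by
    rw [hQ₀, Subgroup.subgroupOf_map_subtype]
  have hzPO : z ∈ Subgroup.normalizer (((P : Subgroup G) ⊓ O : Subgroup G) : Set G) :=
    Subgroup.inf_normalizer_le_normalizer_inf ⟨hzP, hzO⟩
  obtain ⟨R⟩ : Nonempty (Sylow p C) := inferInstance
  set R' := (R : Subgroup C).map C.subtype with hR'
  have hR'C : R' ≤ C := Subgroup.map_subtype_le _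
  have hR'p : IsPGroup p R' := R.2.map _
  set R₀ := R' ⊓ O with hR₀
  have hAR₀ : A ≤ Subgroup.normalizer (R₀ : Set G) := by
    refine Subgroup.zpowers_le.mpr (Subgroup.centralizer_le_normalizer _ ?_)
    rw [Subgroup.mem_centralizer_iff]
    intro x hx
    exact (Subgroup.mem_centralizer_singleton_iff.mp (hR'C hx.1))
  obtain ⟨S, hS, hSA⟩ := Coprime.exists_invariant_sylow_ge hAO hcop hs
    (U := R₀) inf_le_right (hR'p.to_le inf_le_left) hAR₀
  obtain ⟨c, hcA, hcS⟩ := Coprime.exists_centralizer_smul_sylow hAO hcop hs S Q₀ hSA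
    (Subgroup.zpowers_le.mpr (by rw [hQ₀map]; exact hzPO))
  -- `c` carries `R₀` into `P ∩ O ∩ C`
  have hcC : (c : G) ∈ C := Subgroup.mem_centralizer_singleton_iff.mpr
    (Subgroup.mem_centralizer_iff.mp hcA z (Subgroup.mem_zpowers z)).symm
  have hle : R₀.map (MulAut.conj (c : G)).toMonoidHom ≤ (P : Subgroup G) ⊓ O ⊓ C := by
    rintro _ ⟨x, hx, rfl⟩
    obtain ⟨x', hx', hxx⟩ := hS hx
    refine ⟨?_, ?_⟩
    · rw [← hQ₀map]
      refine ⟨c * x' * c⁻¹, ?_, ?_⟩
      · rw [← hcS]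
        exact Subgroup.smul_mem_pointwise_smul x' (MulAut.conj c) _ hx'
      · simp [← hxx, MulAut.conj_apply]
    · exact C.mul_mem (C.mul_mem hcC (hR'C hx.1)) (C.inv_mem hcC)
  have hcard0 : Nat.card R₀ ≤ Nat.card ↥((P : Subgroup G) ⊓ O ⊓ C) := by
    rw [← Subgroup.card_map_of_injective (f := (MulAut.conj (c : G)).toMonoidHom) (MulAut.conj (c : G)).injective]
    exact Nat.le_of_dvd Nat.card_pos (Subgroup.card_dvd_of_le hle)
  -- orders
  have hrel : ∀ K L : Subgroup G, K ≤ L → Nat.card K * K.relIndex L = Nat.card L := by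
    intro K L h
    rw [← Subgroup.relIndex_bot_left K, Subgroup.relIndex_mul_relIndex ⊥ K L bot_le h,
      Subgroup.relIndex_bot_left]
  obtain ⟨a, ha⟩ := (IsPGroup.iff_card (p := p)).mp (P.2.to_le (inf_le_left : (P : Subgroup G) ⊓ O ≤ P))
  have hdvd1 : O.relIndex R' ∣ O.index := Subgroup.relIndex_dvd_index_of_normal O R'
  have hpow : ∃ b, O.relIndex R' = p ^ b := by
    obtain ⟨b, -, hb⟩ := (Nat.dvd_prime_pow (Fact.out : p.Prime)).mp
      ((Subgroup.relIndex_dvd_card O R').trans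
        (dvd_of_eq ((IsPGroup.iff_card (p := p)).mp hR'p).choose_spec))
    exact ⟨b, hb⟩
  obtain ⟨b, hb⟩ := hpow
  have hbig : O.relIndex R' * Nat.card ↥((P : Subgroup G) ⊓ O) ≤ Nat.card (P : Subgroup G) := by
    refine Nat.le_of_dvd Nat.card_pos ?_
    rw [hb, ha, ← pow_add, P.card_eq_multiplicity]
    refine pow_dvd_pow p (((Fact.out : p.Prime).pow_dvd_iff_le_factorization Nat.card_pos.ne').mp ?_)
    rw [pow_add, ← hb, ← ha, mul_comm, ← O.card_mul_index]
    exact Nat.mul_dvd_mul (Subgroup.card_dvd_of_le inf_le_right) hdvd1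
  have hI1 := relIndex_eq_card_inverted hz2 _ hPodd hzP
  have hI2 := relIndex_eq_card_inverted hz2 _
    (hPodd.of_dvd_nat (Subgroup.card_dvd_of_le inf_le_left)) hzPO
  have hI : Nat.card {x : G // x ∈ ((P : Subgroup G) ⊓ O) ∧ z * x * z⁻¹ = x⁻¹} =
      Nat.card {x : G // x ∈ P ∧ z * x * z⁻¹ = x⁻¹} := by
    refine Nat.card_congr (Equiv.subtypeEquivRight fun x =>
      ⟨fun h => ⟨h.1.1, h.2⟩, fun h => ⟨⟨h.1, ?_⟩, h.2⟩⟩)
    -- an inverted element of odd order is in `O`
    have hx2 : x * x ∈ O := by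
      have h0 := ZStar.inZStar hz x
      have e : x * z * x⁻¹ * z⁻¹ = x * x := by
        calc x * z * x⁻¹ * z⁻¹ = x * z * (z * x * z⁻¹) * z⁻¹ := by rw [h.2]
          _ = x * (z * z) * x * (z * z)⁻¹ := by group
          _ = x * x := by rw [hz2, mul_one, inv_one, mul_one]
      rwa [e] at h0
    obtain ⟨k, hk⟩ : Odd (orderOf x) := by
      have := hPodd.of_dvd_nat (orderOf_dvd_natCard (⟨x, h.1⟩ : (P : Subgroup G)))
      rwa [Subgroup.orderOf_mk] at this
    have hxk : (x * x) ^ (k + 1) = x := by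
      rw [← pow_two, ← pow_mul, show 2 * (k + 1) = orderOf x + 1 by omega, pow_succ,
        pow_orderOf_eq_one, one_mul]
    rw [← hxk]; exact pow_mem hx2 _
  have hI2' := hI2.trans (hI.trans hI1.symm)
  have e1 := hrel ((P : Subgroup G) ⊓ C) P inf_le_left
  have e2 := hrel ((P : Subgroup G) ⊓ O ⊓ C) ((P : Subgroup G) ⊓ O) inf_le_left
  rw [hI2'] at e2
  have e3 := hrel R₀ R' inf_le_left
  rw [hR₀, inf_comm, Subgroup.inf_relIndex_right, inf_comm, ← hR₀] at e3
  have hpos : 0 < ((P : Subgroup G) ⊓ C).relIndex P := by rw [hI1] at *; exact Nat.pos_of_ne_zero (fun h => by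
    rw [h, mul_zero] at e1; exact Nat.card_pos.ne e1)
  have hkey : Nat.card R' ≤ Nat.card ↥((P : Subgroup G) ⊓ C) := by
    refine Nat.le_of_mul_le_mul_right ?_ hpos
    calc Nat.card R' * ((P : Subgroup G) ⊓ C).relIndex P
        = O.relIndex R' * (Nat.card R₀ * ((P : Subgroup G) ⊓ C).relIndex P) := by rw [← e3]; ring
      _ ≤ O.relIndex R' * Nat.card ↥((P : Subgroup G) ⊓ O) := by
          rw [← e2]; exact Nat.mul_le_mul_left _ (Nat.mul_le_mul_right _ hcard0)
      _ ≤ Nat.card (P : Subgroup G) := hbig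
      _ = _ := e1.symm
  -- so `P ∩ C` is a Sylow subgroup of `C`
  intro hdiv
  have hPC : IsPGroup p (((P : Subgroup G) ⊓ C).subgroupOf C) :=
    (P.2.to_le inf_le_left).comap_subtype
  obtain ⟨R₂, hR₂⟩ := hPC.exists_le_sylow
  have hR₂card : Nat.card R₂ = Nat.card R' := by
    rw [hR', Subgroup.card_map_of_injective C.subtype_injective, R₂.card_eq_multiplicity,
      R.card_eq_multiplicity]
  have heq : ((P : Subgroup G) ⊓ C).subgroupOf C = R₂ := by
    refine Subgroup.eq_of_le_of_card_ge hR₂ ?_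
    rw [hR₂card, Nat.card_congr (Subgroup.subgroupOfEquivOfLe inf_le_right).toEquiv]
    exact hkey
  exact R₂.not_dvd_index (heq ▸ hdiv)

end Cfsg.Agent.S1253
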