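import Cfsg.Statements.S1254
import Cfsg.Agent.Lib.DihedralSylow.Subgroups
import Cfsg.Agent.Lib.Transfer.Frobenius

set_option autoImplicit false
open Cfsg

namespace Cfsg.Agent.S1254

/-- Let X be a finite group whose Sylow 2-subgroup S is dihedral (of order at least 4). Then X has a normal 2-complement if and only if, for every Klein four-subgroup U ≤ S, the normalizer N_X(U) is generated by C_X(U) and N_S(U). -/
theorem result {X : Type*} [Group X] [Finite X] (S : Sylow 2 X) (m : ℕ) (hm : 2 ≤ m) (eS : (S : Subgroup X) ≃* DihedralGroup m) : Cfsg.HasNormalPComplement 2 X ↔ ∀ U : Subgroup X, U ≤ S → IsKleinFour U → Subgroup.normalizer (U : Set X) = Subgroup.centralizer (U : Set X) ⊔ ((S : Subgroup X) ⊓ Subgroup.normalizer (U : Set X)) := by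
  haveI : Fact (Nat.Prime 2) := ⟨Nat.prime_two⟩
  haveI : NeZero m := ⟨by omega⟩
  obtain ⟨φ, he⟩ := DihedralSylow.exists_embeds eS
  obtain ⟨k, hk⟩ := DihedralSylow.exists_two_pow eS
  have hk0 : k ≠ 0 := by rintro rfl; simp at hk; omega
  have hm2 : 2 ∣ m := by rw [hk]; exact dvd_pow_self 2 hk0
  constructor
  · intro hN U hUS hU
    haveI := hU
    refine le_antisymm ?_ (sup_le (Subgroup.centralizer_le_normalizer _) inf_le_right)
    obtain ⟨P, N, hNn, hc⟩ := hN
    obtain ⟨c, hcS⟩ := MulAction.exists_smul_eq X P S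
    intro n hn
    -- `n = s k` with `s ∈ S`, `k ∈ N`
    obtain ⟨⟨⟨k', hk'⟩, ⟨t, ht⟩⟩, hkt⟩ :=
      ((Subgroup.isComplement'_def.mp hc).existsUnique (c⁻¹ * n * c)).exists
    have hkt' : k' * t = c⁻¹ * n * c := hkt
    set s := c * t * c⁻¹ with hs
    set k := c * (t⁻¹ * k' * t) * c⁻¹ with hkdef
    have hsS : s ∈ (S : Subgroup X) := by
      rw [← hcS, Sylow.coe_subgroup_smul]
      exact Subgroup.smul_mem_pointwise_smul t (MulAut.conj c) _ ht
    have hkN : k ∈ N := hNn.conj_mem _ (by simpa using hNn.conj_mem _ hk' t⁻¹) c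
    have hn' : n = s * k := by
      calc n = c * (c⁻¹ * n * c) * c⁻¹ := by group
        _ = s * k := by rw [← hkt', hs, hkdef]; group
    have hkC : k ∈ Subgroup.centralizer (U : Set X) := by
      rw [Subgroup.mem_centralizer_iff]
      intro u hu
      have h1 : n * u * n⁻¹ ∈ (S : Subgroup X) :=
        hUS ((Subgroup.mem_normalizer_iff.mp hn u).mp hu)
      have h2 : k * u * k⁻¹ * u⁻¹ ∈ (S : Subgroup X) := by
        have e : k * u * k⁻¹ * u⁻¹ = s⁻¹ * (n * u * n⁻¹) * s * u⁻¹ := by rw [hn']; group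
        rw [e]
        exact mul_mem (mul_mem (mul_mem (inv_mem hsS) h1) hsS) (inv_mem (hUS hu))
      have h3 : k * u * k⁻¹ * u⁻¹ ∈ N := by
        have e : k * u * k⁻¹ * u⁻¹ = k * (u * k⁻¹ * u⁻¹) := by group
        rw [e]
        exact mul_mem hkN (hNn.conj_mem _ (inv_mem hkN) u)
      have h4 : c⁻¹ * (k * u * k⁻¹ * u⁻¹) * c ∈ (P : Subgroup X) := by
        rw [← hcS, Sylow.coe_subgroup_smul, Subgroup.mem_pointwise_smul_iff_inv_smul_mem] at h2
        simp [MulAut.smul_def] at h2
        convert h2 using 1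
        group
      have h5 := Subgroup.disjoint_def.mp hc.disjoint
        (by simpa using hNn.conj_mem _ h3 c⁻¹) h4
      have h6 : k * u * k⁻¹ * u⁻¹ = c * 1 * c⁻¹ := by rw [← h5]; group
      rw [mul_one, mul_inv_cancel, mul_inv_eq_one, mul_inv_eq_iff_eq_mul] at h6
      exact h6.symm
    have hsN : s ∈ Subgroup.normalizer (U : Set X) := by
      have e : s = n * k⁻¹ := by rw [hn']; group
      rw [e]
      exact mul_mem hn (inv_mem (Subgroup.centralizer_le_normalizer _ hkC))
    rw [hn']
    exact mul_mem (Subgroup.mem_sup_right ⟨hsS, hsN⟩) (Subgroup.mem_sup_left hkC)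
  · intro h
    refine Transfer.hasNormalPComplement_of_centralizer S fun Q hQ g hg hco => ?_
    have hodd : Odd (orderOf g) := Nat.coprime_two_right.mp hco
    refine he.mem_centralizer_of_four hk hm2 hQ hg hodd fun i hgi => ?_
    set U := (DihedralSylow.four hm2 i).map φ with hU
    have hUS : U ≤ (S : Subgroup X) := by rw [← he.range]; exact Subgroup.map_le_range φ _
    rw [h U hUS (he.isKleinFour_map hm2 i)] at hgi
    -- `C(U) ⊔ D` with `D` a 2-group normalising `C(U)`
    set D := (S : Subgroup X) ⊓ Subgroup.normalizer (U : Set X) with hD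
    have hDC : D ≤ Subgroup.normalizer ((Subgroup.centralizer (U : Set X) : Subgroup X) : Set X) := by
      intro d hd
      refine Transfer.mem_normalizer_of_conj_mem fun y hy => ?_
      rw [Subgroup.mem_centralizer_iff] at hy ⊢
      intro u hu
      have h1 := hy (d⁻¹ * u * d) (by
        simpa using (Subgroup.mem_normalizer_iff.mp (inv_mem hd.2) u).mp hu)
      calc u * (d * y * d⁻¹) = d * ((d⁻¹ * u * d) * y) * d⁻¹ := by group
        _ = d * y * d⁻¹ * u := by rw [h1]; group
    have hgi' : g ∈ ((Subgroup.centralizer (U : Set X) ⊔ D : Subgroup X) : Set X) := hgi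
    rw [Subgroup.coe_mul_of_right_le_normalizer_left _ _ hDC] at hgi'
    obtain ⟨c, hc, d, hd, hcd⟩ := hgi'
    have hcd' : c * d = g := hcd
    have hgN : g ∈ Subgroup.normalizer (U : Set X) := by
      rw [← hcd']; exact mul_mem (Subgroup.centralizer_le_normalizer _ hc) hd.2
    set f := U.normalizerMonoidHom with hf
    have hfc : f ⟨c, Subgroup.centralizer_le_normalizer _ hc⟩ = 1 := by
      rw [← MonoidHom.mem_ker, hf, Subgroup.normalizerMonoidHom_ker]
      exact hc
    have hfg : f ⟨g, hgN⟩ = f ⟨d, hd.2⟩ := by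
      have e : (⟨g, hgN⟩ : Subgroup.normalizer (U : Set X)) =
          ⟨c, Subgroup.centralizer_le_normalizer _ hc⟩ * ⟨d, hd.2⟩ := Subtype.ext hcd'.symm
      rw [e, map_mul, hfc, one_mul]
    obtain ⟨l, hl⟩ := S.2 ⟨d, hd.1⟩
    have h1 : orderOf (f ⟨g, hgN⟩) = 1 := by
      refine Nat.eq_one_of_dvd_coprimes ((Nat.coprime_two_right.mpr hodd).pow_right l)
        ((orderOf_map_dvd _ _).trans (by rw [Subgroup.orderOf_mk])) ?_
      rw [hfg]
      refine (orderOf_map_dvd _ _).trans (orderOf_dvd_of_pow_eq_one ?_)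
      exact Subtype.ext (congrArg Subtype.val hl :)
    have h2 := MonoidHom.mem_ker.mpr (orderOf_eq_one_iff.mp h1)
    rw [hf, Subgroup.normalizerMonoidHom_ker] at h2
    exact h2

end Cfsg.Agent.S1254
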