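import Cfsg.Statements.S1255
import Cfsg.Agent.Lib.DihedralSylow.Subgroups
import Cfsg.Agent.Lib.Transfer.Thompson

set_option autoImplicit false
open Cfsg

namespace Cfsg.Agent.S1255

open DihedralGroup DihedralSylow

variable {X : Type*} [Group X] [Finite X] {S : Sylow 2 X} {m : ℕ} [NeZero m] {φ : DihedralGroup m →* X}

theorem orderOf_phi_half (he : Embeds S φ) (hm : 2 ∣ m) : orderOf (φ (r (half m))) = 2 := by
  rw [orderOf_injective φ he.inj]
  refine orderOf_eq_prime_iff.mpr ⟨?_, fun h => ?_⟩
  · rw [pow_two, r_mul_r, half_add_half hm, r_zero]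
  · rw [one_def, r.injEq] at h; exact half_ne_zero hm h

theorem exists_conj_into (he : Embeds S φ) {u : X} (hu : orderOf u = 2) :
    ∃ d : DihedralGroup m, IsConj u (φ d) := by
  haveI : Fact (Nat.Prime 2) := ⟨Nat.prime_two⟩
  obtain ⟨P, hP⟩ := (IsPGroup.of_card (p := 2) (n := 1) (G := Subgroup.zpowers u)
    (by rw [Nat.card_zpowers, hu, pow_one])).exists_le_sylow
  obtain ⟨g, hg⟩ := MulAction.exists_smul_eq X P S
  have : g * u * g⁻¹ ∈ (S : Subgroup X) := by
    rw [← hg, Sylow.coe_subgroup_smul]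
    exact Subgroup.smul_mem_pointwise_smul u (MulAut.conj g) _ (hP (Subgroup.mem_zpowers u))
  obtain ⟨d, hd⟩ := he.exists_preimage this
  exact ⟨d, isConj_iff.mpr ⟨g, hd.symm⟩⟩

theorem r_eq_half {a : ZMod m} (h : orderOf (r a) = 2) : a = half m := by
  have h1 := pow_orderOf_eq_one (r a)
  rw [h, pow_two, r_mul_r, one_def, r.injEq] at h1
  rcases eq_zero_or_half h1 with h0 | h0
  · rw [h0, r_zero, orderOf_one] at h; omega
  · exact h0

theorem isConj_half_of (he : Embeds S φ) (hrefl : ∀ i, IsConj (φ (sr i)) (φ (r (half m))))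
    {u : X} (hu : orderOf u = 2) : IsConj u (φ (r (half m))) := by
  obtain ⟨d, hd⟩ := exists_conj_into he hu
  obtain ⟨g, hg⟩ := isConj_iff.mp hd
  have h2 : orderOf d = 2 := by
    rw [← orderOf_injective φ he.inj, ← hg, ← MulAut.conj_apply, MulEquiv.orderOf_eq, hu]
  rcases d with a | a
  · rwa [r_eq_half h2] at hd
  · exact hd.trans (hrefl a)

theorem fusionSimple_of_one_class (he : Embeds S φ) (hm : 2 ∣ m)
    (hall : ∀ a b : X, orderOf a = 2 → orderOf b = 2 → IsConj a b) :
    (∀ H : Subgroup X, H.index ≠ 2) ∧ ∀ z : X, ¬ Cfsg.IsIsolatedInvolution z := by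
  haveI : Fact (Nat.Prime 2) := ⟨Nat.prime_two⟩
  set z := φ (r (half m)) with hz
  have hz2 := orderOf_phi_half he hm
  have ht : ∀ i, orderOf (φ (sr i)) = 2 := fun i => by
    rw [orderOf_injective φ he.inj, orderOf_sr]
  have hcomm : ∀ i, Commute z (φ (sr i)) := fun i => by
    show φ (r (half m)) * φ (sr i) = φ (sr i) * φ (r (half m))
    rw [← map_mul, ← map_mul, r_mul_sr, sr_mul_r]
    congr 2
    linear_combination -(half_add_half hm)
  refine ⟨fun H hH => ?_, fun u hu => ?_⟩
  · haveI := Subgroup.normal_of_index_eq_two hH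
    have key : ∀ a b : X, IsConj a b → a * b⁻¹ ∈ H := by
      intro a b hab
      obtain ⟨g, rfl⟩ := isConj_iff.mp hab
      rw [← QuotientGroup.eq_one_iff]
      have hcard : Nat.card (X ⧸ H) = 2 := by rw [← Subgroup.index_eq_card, hH]
      haveI := isCyclic_of_prime_card hcard
      rw [QuotientGroup.mk_mul, QuotientGroup.mk_inv, QuotientGroup.mk_mul, QuotientGroup.mk_mul,
        QuotientGroup.mk_inv]
      have hc : ∀ a b : X ⧸ H, a * b = b * a := IsCyclic.commGroup.mul_comm
      rw [hc _ (a : X ⧸ H), mul_inv_cancel_right, mul_inv_cancel]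
    -- the Sylow subgroup lies in `H`
    have hsr : ∀ i j, φ (r (j - i)) ∈ H := by
      intro i j
      have h1 : φ (sr i) * φ (sr j) ∈ H := by
        have h := key _ _ (hall _ _ (ht i) (ht j))
        rwa [← map_inv, inv_sr] at h
      rwa [← map_mul, sr_mul_sr] at h1
    have hrot : ∀ a, φ (r a) ∈ H := fun a => by simpa using hsr 0 a
    have hSH : (S : Subgroup X) ≤ H := by
      rw [← he.range]
      rintro _ ⟨d, rfl⟩
      rcases d with a | a
      · exact hrot a
      · have h := key _ _ (hall _ _ (ht a) hz2)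
        have h3 := H.mul_mem h (hrot (half m))
        rwa [← hz, inv_mul_cancel_right] at h3
    exact S.not_dvd_index ((dvd_of_eq hH.symm).trans (Subgroup.index_dvd_of_le hSH))
  · obtain ⟨hu2, hiso⟩ := hu
    obtain ⟨g, hg⟩ := isConj_iff.mp (hall _ _ hz2 hu2)
    obtain ⟨g', hg'⟩ := isConj_iff.mp (hall _ _ hu2 (show orderOf (g * φ (sr 0) * g⁻¹) = 2 by
      rw [← MulAut.conj_apply, MulEquiv.orderOf_eq, ht 0]))
    have h := hiso g' (by
      rw [hg', ← hg]
      show g * z * g⁻¹ * (g * φ (sr 0) * g⁻¹) = g * φ (sr 0) * g⁻¹ * (g * z * g⁻¹)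
      calc g * z * g⁻¹ * (g * φ (sr 0) * g⁻¹) = g * (z * φ (sr 0)) * g⁻¹ := by group
        _ = g * (φ (sr 0) * z) * g⁻¹ := by rw [(hcomm 0).eq]
        _ = _ := by group)
    rw [hg', ← hg] at h
    have h1 := he.inj (mul_left_cancel (mul_right_cancel h))
    exact absurd h1 (by simp)

theorem one_class_of_fusionSimple (he : Embeds S φ) (hno : ∀ H : Subgroup X, H.index ≠ 2) :
    ∀ a b : X, orderOf a = 2 → orderOf b = 2 → IsConj a b := by
  haveI : Fact (Nat.Prime 2) := ⟨Nat.prime_two⟩
  suffices h : ∀ i, IsConj (φ (sr i)) (φ (r (half m))) from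
    fun a b ha hb => (isConj_half_of he h ha).trans (isConj_half_of he h hb).symm
  intro i
  set Q := (Subgroup.zpowers (r (1 : ZMod m))).map φ with hQ
  have hQS : Q ≤ (S : Subgroup X) := by rw [← he.range]; exact Subgroup.map_le_range φ _
  have hQi : Q.relIndex (S : Subgroup X) = 2 := by
    have h1 := (Q.subgroupOf (S : Subgroup X)).card_mul_index
    rw [Nat.card_congr (Subgroup.subgroupOfEquivOfLe hQS).toEquiv, hQ,
      Subgroup.card_map_of_injective he.inj, Nat.card_zpowers, orderOf_r_one] at h1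
    have h2 : Nat.card (S : Subgroup X) = m * 2 := by
      rw [← he.range, MonoidHom.range_eq_map, Subgroup.card_map_of_injective he.inj,
        Subgroup.card_top, DihedralGroup.nat_card, mul_comm]
    rw [h2] at h1
    exact Nat.eq_of_mul_eq_mul_left (NeZero.pos m) h1
  have hu : φ (sr i) ^ 2 = 1 := by rw [pow_two, ← map_mul, sr_mul_self, map_one]
  have hnot : φ (sr i) ∉ Q := by
    rintro ⟨d, ⟨l, rfl⟩, hl⟩
    have := he.inj hl
    simp at this
  by_contra hne
  obtain ⟨M, -, hM, -⟩ := Transfer.exists_index_two_of_involution S Q hQS hQi (φ (sr i)) hu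
    (he.mem _) hnot (by
      intro g hg
      obtain ⟨d, ⟨l, rfl⟩, hl⟩ := hg
      apply hne
      refine isConj_iff.mpr ⟨g, ?_⟩
      rw [← hl]
      simp only [r_one_zpow]
      congr 2
      apply r_eq_half
      rw [← orderOf_injective φ he.inj, ← r_one_zpow, hl, ← MulAut.conj_apply, MulEquiv.orderOf_eq,
        orderOf_injective φ he.inj, orderOf_sr])
  exact hno M hM

theorem conj_of_three_dvd (he : Embeds S φ) (hm : 2 ∣ m) (i : ZMod m)
    (h3 : 3 ∣ (Subgroup.centralizer (((four hm i).map φ : Subgroup X) : Set X)).relIndex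
      (Subgroup.normalizer (((four hm i).map φ : Subgroup X) : Set X))) :
    IsConj (φ (sr i)) (φ (r (half m))) := by
  haveI : Fact (Nat.Prime 3) := ⟨Nat.prime_three⟩
  set U := (four hm i).map φ with hU
  haveI := he.isKleinFour_map hm i
  rw [Subgroup.relIndex, ← Subgroup.normalizerMonoidHom_ker, Subgroup.index_ker] at h3
  obtain ⟨⟨f, n, rfl⟩, hf⟩ := exists_prime_orderOf_dvd_card' 3 h3
  replace hf : orderOf (U.normalizerMonoidHom n) = 3 := (Subgroup.orderOf_coe _).trans hf
  set f := U.normalizerMonoidHom n with hfdef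
  set u : U := ⟨φ (sr i), _, sr_mem_four_self hm i, rfl⟩ with hudef
  set w : U := ⟨φ (r (half m)), _, Or.inr (Or.inl rfl), rfl⟩ with hwdef
  have hconj : ∀ y : U, IsConj (y : X) (f y : X) := fun y => isConj_iff.mpr ⟨n, rfl⟩
  have hfne : ∀ y : U, y ≠ 1 → f y ≠ y := by
    intro y hy hfy
    have hf3 : f ^ 3 = 1 := by rw [← hf, pow_orderOf_eq_one]
    have hf2 : f ^ 2 = 1 := by
      ext1 v
      rw [pow_two, MulAut.mul_apply, MulAut.one_apply]
      by_cases hv1 : v = 1
      · rw [hv1, map_one, map_one]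
      by_cases hvy : v = y
      · rw [hvy, hfy, hfy]
      rcases eq_or_ne (f v) v with h | h
      · rw [h, h]
      have h' : f v = y * v := by
        refine IsKleinFour.eq_mul_of_ne_all (x := y) (y := v) hy ?_ ?_ (z := f v) ?_ ?_ h
        · exact hv1
        · exact fun h0 => hvy h0.symm
        · exact fun h0 => hv1 (f.injective (h0.trans (map_one f).symm))
        · exact fun h0 => hvy (f.injective (h0.trans hfy.symm))
      rw [h', map_mul, hfy, h', ← mul_assoc, IsKleinFour.mul_self, one_mul]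
    have hf1 : f = 1 := by
      calc f = f ^ 3 * (f ^ 2)⁻¹ := by group
        _ = 1 := by rw [hf2, hf3, inv_one, mul_one]
    rw [hf1, orderOf_one] at hf
    omega
  have hu1 : u ≠ 1 := fun h => by
    have := congrArg Subtype.val h
    rw [hudef, Subgroup.coe_one] at this
    simp only at this
    rw [← map_one φ] at this
    exact absurd (he.inj this) (by simp [one_def, -r_zero])
  have hw1 : w ≠ 1 := fun h => by
    have := congrArg Subtype.val h
    rw [hwdef, Subgroup.coe_one] at this
    simp only at this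
    have h2 := orderOf_phi_half he hm
    rw [this, orderOf_one] at h2
    omega
  by_cases h1 : f u = w
  · have := hconj u
    rw [h1] at this
    exact this
  by_cases h2 : f (f u) = w
  · have := (hconj u).trans (hconj (f u))
    rw [h2] at this
    exact this
  exfalso
  have huw : u ≠ w := fun h => by
    have := congrArg Subtype.val h
    simp only [hudef, hwdef] at this
    exact absurd (he.inj this) (by simp)
  have hfu1 : f u ≠ 1 := fun h => hu1 (f.injective (h.trans (map_one f).symm))
  have e1 : f u = u * w :=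
    IsKleinFour.eq_mul_of_ne_all (x := u) (y := w) hu1 hw1 huw (z := f u) hfu1 (hfne u hu1) h1
  have hffu1 : f (f u) ≠ 1 := fun h => hfu1 (f.injective (h.trans (map_one f).symm))
  by_cases h4 : f (f u) = u
  · -- then `f` fixes the product
    have h5 : f (u * f u) = u * f u := by
      rw [map_mul, h4]; exact mul_comm_of_exponent_two IsKleinFour.exponent_two _ _
    refine hfne _ ?_ h5
    intro h6
    exact hfne u hu1 (by rw [eq_inv_of_mul_eq_one_right h6]; exact IsKleinFour.inv_eq_self u)
  have e2 : f (f u) = u * w :=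
    IsKleinFour.eq_mul_of_ne_all (x := u) (y := w) hu1 hw1 huw (z := f (f u)) hffu1 h4 h2
  exact hfne (f u) hfu1 (e2.trans e1.symm)

/-- Let X be a finite group whose Sylow 2-subgroup S is dihedral of order 2m ≥ 4. Then X has no subgroup of index 2 and no isolated involution if and only if either all involutions of X are conjugate, or for every Klein four-subgroup U ≤ S the index |N_X(U) : C_X(U)| equals 3 when |S| = 4 and equals 6 when |S| > 4. -/
theorem result {X : Type*} [Group X] [Finite X] (S : Sylow 2 X) (m : ℕ) (hm : 2 ≤ m) (eS : (S : Subgroup X) ≃* DihedralGroup m) : ((∀ H : Subgroup X, H.index ≠ 2) ∧ (∀ z : X, ¬ Cfsg.IsIsolatedInvolution z)) ↔ ((∀ a b : X, orderOf a = 2 → orderOf b = 2 → IsConj a b) ∨ (∀ U : Subgroup X, U ≤ S → IsKleinFour U → (Subgroup.centralizer (U : Set X)).relIndex (Subgroup.normalizer (U : Set X)) = (if Nat.card S = 4 then 3 else 6))) := by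
  haveI : Fact (Nat.Prime 2) := ⟨Nat.prime_two⟩
  haveI : NeZero m := ⟨by omega⟩
  obtain ⟨φ, he⟩ := DihedralSylow.exists_embeds eS
  obtain ⟨k, hk⟩ := DihedralSylow.exists_two_pow eS
  have hk0 : k ≠ 0 := by rintro rfl; simp at hk; omega
  have hm2 : 2 ∣ m := by rw [hk]; exact dvd_pow_self 2 hk0
  refine ⟨fun h => Or.inl (one_class_of_fusionSimple he h.1), fun h => fusionSimple_of_one_class he hm2 ?_⟩
  rcases h with h | h
  · exact h
  suffices h' : ∀ i, IsConj (φ (DihedralGroup.sr i)) (φ (DihedralGroup.r (DihedralSylow.half m))) from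
    fun a b ha hb => (isConj_half_of he h' ha).trans (isConj_half_of he h' hb).symm
  intro i
  refine conj_of_three_dvd he hm2 i ?_
  rw [h _ (by rw [← he.range]; exact Subgroup.map_le_range φ _) (he.isKleinFour_map hm2 i)]
  split_ifs <;> norm_num

end Cfsg.Agent.S1255
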