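import Cfsg.Statements.S1256
import Cfsg.Agent.Lib.DihedralSylow.Subgroups

set_option autoImplicit false
open Cfsg

namespace Cfsg.Agent.S1256

/-- Let X be a finite group whose Sylow 2-subgroup S is dihedral of order 2m ≥ 4. If |S| = 4, any two Klein four-subgroups of X are conjugate; if |S| > 4, there are Klein four-subgroups U₁, U₂ of X that are not conjugate, and every Klein four-subgroup of X is conjugate to U₁ or to U₂. -/
theorem result {X : Type*} [Group X] [Finite X] (S : Sylow 2 X) (m : ℕ) (hm : 2 ≤ m) (eS : (S : Subgroup X) ≃* DihedralGroup m) : (Nat.card S = 4 → ∀ U V : Subgroup X, IsKleinFour U → IsKleinFour V → (∃ x : X, U.map (MulAut.conj x).toMonoidHom = V)) ∧ (4 < Nat.card S → ∃ U₁ U₂ : Subgroup X, IsKleinFour U₁ ∧ IsKleinFour U₂ ∧ ¬ (∃ x : X, U₁.map (MulAut.conj x).toMonoidHom = U₂) ∧ ∀ V : Subgroup X, IsKleinFour V → (∃ x : X, V.map (MulAut.conj x).toMonoidHom = U₁) ∨ (∃ x : X, V.map (MulAut.conj x).toMonoidHom = U₂)) := by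
  haveI : Fact (Nat.Prime 2) := ⟨Nat.prime_two⟩
  haveI : NeZero m := ⟨by omega⟩
  refine ⟨fun h4 U V hU hV => ?_, fun h4 => ?_⟩
  · haveI := hU
    haveI := hV
    obtain ⟨P, hP⟩ := (IsPGroup.of_card (p := 2) (n := 2) (G := U)
      (by rw [IsKleinFour.card_four]; norm_num)).exists_le_sylow
    obtain ⟨Q, hQ⟩ := (IsPGroup.of_card (p := 2) (n := 2) (G := V)
      (by rw [IsKleinFour.card_four]; norm_num)).exists_le_sylow
    have eU : U = P := Subgroup.eq_of_le_of_card_ge hP (by
      rw [IsKleinFour.card_four (G := U), P.card_eq_multiplicity, ← S.card_eq_multiplicity, h4])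
    have eV : V = Q := Subgroup.eq_of_le_of_card_ge hQ (by
      rw [IsKleinFour.card_four (G := V), Q.card_eq_multiplicity, ← S.card_eq_multiplicity, h4])
    obtain ⟨x, hx⟩ := MulAction.exists_smul_eq X P Q
    refine ⟨x, ?_⟩
    rw [eU, eV, ← hx, Sylow.coe_subgroup_smul]
    rfl
  obtain ⟨φ, he⟩ := DihedralSylow.exists_embeds eS
  obtain ⟨k, hk⟩ := DihedralSylow.exists_two_pow eS
  rw [Nat.card_congr eS.toEquiv, DihedralGroup.nat_card] at h4
  have hm4 : 4 ∣ m := by
    rcases Nat.lt_or_ge k 2 with h | h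
    · interval_cases k <;> omega
    · rw [hk, show (4 : ℕ) = 2 ^ 2 by norm_num]; exact pow_dvd_pow 2 h
  have hm2 : 2 ∣ m := (dvd_mul_left 2 2).trans hm4
  refine ⟨(DihedralSylow.four hm2 0).map φ, (DihedralSylow.four hm2 1).map φ,
    he.isKleinFour_map hm2 0, he.isKleinFour_map hm2 1, ?_, fun V hV => ?_⟩
  · rintro ⟨x, hx⟩
    have h := he.parity_eq_of_conj hm4 hx
    rw [map_zero, map_one] at h
    exact zero_ne_one h
  · haveI := hV
    obtain ⟨g, i, hgi⟩ := he.exists_conj_eq_four hm2 V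
    have key : ∀ l : ZMod m, DihedralSylow.parity hm2 i = DihedralSylow.parity hm2 l →
        ∃ x : X, V.map (MulAut.conj x).toMonoidHom = (DihedralSylow.four hm2 l).map φ := by
      intro l hl
      obtain ⟨c, hc⟩ := DihedralSylow.exists_conj_four hm2 hl
      refine ⟨φ c * g, ?_⟩
      rw [← DihedralSylow.map_conj_map, hgi, ← hc, he.map_conj]
    rcases DihedralSylow.parity_eq_zero_or_one hm2 i with h | h
    · exact Or.inl (key 0 (by rw [h, map_zero]))
    · exact Or.inr (key 1 (by rw [h, map_one]))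

end Cfsg.Agent.S1256
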