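import Cfsg.Statements.S1263
import Cfsg.Agent.Lib.Components.Layer
-- import your own Cfsg.Agent.* helpers here

set_option autoImplicit false
open Cfsg

namespace Cfsg.Agent.S1263

open Cfsg.Agent.Components Subgroup
open scoped commutatorElement

/-- For a finite group G, Z(E(G)) is the subgroup generated by the centres Z(L) of the components L of G (all viewed as subgroups of G). -/
theorem result {G : Type*} [Group G] [Finite G] : (Subgroup.center ↥(Cfsg.layer G)).map (Cfsg.layer G).subtype = ⨆ L : {K : Subgroup G // Cfsg.IsComponent K}, (Subgroup.center ↥(L : Subgroup G)).map (L : Subgroup G).subtype := by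
  let Z : Subgroup G → Subgroup G := fun L => L ⊓ centralizer (L : Set G)
  have hZ : ∀ L : Subgroup G, (center L).map L.subtype = Z L := by
    intro L
    ext x
    constructor
    · rintro ⟨z, hz, rfl⟩
      exact ⟨z.2, mem_centralizer_iff.mpr fun y hy =>
        congrArg Subtype.val (mem_center_iff.mp hz ⟨y, hy⟩)⟩
    · rintro ⟨hx, hc⟩
      exact ⟨⟨x, hx⟩, mem_center_iff.mpr fun y => Subtype.ext (mem_centralizer_iff.mp hc y y.2), rfl⟩
  simp only [hZ]
  let R : Subgroup G := ⨆ L : {K : Subgroup G // Cfsg.IsComponent K}, Z L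
  refine le_antisymm ?_ (iSup_le fun L => le_inf (inf_le_left.trans (IsComponent.le_layer L.2)) ?_)
  · suffices h : ∀ T : Set (Subgroup G), T ⊆ {K | Cfsg.IsComponent K} → Z (sSup T) ≤ R from
      h _ subset_rfl
    intro T
    induction T, T.toFinite using Set.Finite.induction_on with
    | empty => intro _; simp [Z]
    | @insert K T hKT _ ih =>
      intro hT
      rw [sSup_insert]
      rintro x ⟨hx, hc⟩
      have hKc : IsComponent K := hT (Set.mem_insert _ _)
      have hcomm : ⁅K, sSup T⁆ = ⊥ := commutator_sSup_eq_bot fun L hL =>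
        IsComponent.commutator_eq_bot hKc (hT (Set.mem_insert_of_mem _ hL)) fun e => hKT (e ▸ hL)
      have hKT' : sSup T ≤ centralizer (K : Set G) :=
        le_centralizer_of_commutator_eq_bot (commutator_eq_bot_symm hcomm)
      have hx' : x ∈ ((K ⊔ sSup T : Subgroup G) : Set G) := hx
      rw [coe_mul_of_right_le_normalizer_left _ _ (hKT'.trans (centralizer_le_normalizer _))] at hx'
      obtain ⟨k, hk, y, hy, rfl⟩ := hx'
      have hk' : k ∈ centralizer (K : Set G) :=
        (mul_mem_cancel_right (hKT' hy)).mp
          (centralizer_le (SetLike.coe_subset_coe.mpr le_sup_left) hc)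
      have hy' : y ∈ centralizer ((sSup T : Subgroup G) : Set G) :=
        (mul_mem_cancel_left (le_centralizer_of_commutator_eq_bot hcomm hk)).mp
          (centralizer_le (SetLike.coe_subset_coe.mpr le_sup_right) hc)
      exact R.mul_mem (le_iSup (fun L : {K : Subgroup G // Cfsg.IsComponent K} => Z L)
        ⟨K, hKc⟩ ⟨hk, hk'⟩) (ih ((Set.subset_insert _ _).trans hT) ⟨hy, hy'⟩)
  · refine le_centralizer_of_commutator_eq_bot (commutator_sSup_eq_bot fun M hM => ?_)
    by_cases h : (L : Subgroup G) = M
    · subst h
      exact commutator_eq_bot_iff_le_centralizer.mpr inf_le_right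
    · exact le_bot_iff.mp ((commutator_mono inf_le_left le_rfl).trans
        (IsComponent.commutator_eq_bot L.2 hM h).le)

end Cfsg.Agent.S1263
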