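import Cfsg.Statements.S1264
import Cfsg.Agent.Lib.Components.GenFitting
-- import your own Cfsg.Agent.* helpers here

set_option autoImplicit false
open Cfsg

namespace Cfsg.Agent.S1264

open Cfsg.Agent.Components Subgroup
open scoped commutatorElement

/-- Let G be finite, C = C_G(F(G)) the centralizer of the Fitting subgroup, and N a solvable subgroup of C normalized by C. Then N ≤ Z(F(G)). -/
theorem result {G : Type*} [Group G] [Finite G] (N : Subgroup G) (hN : N ≤ Subgroup.centralizer (Cfsg.fittingSubgroup G : Set G)) (hnorm : Subgroup.centralizer (Cfsg.fittingSubgroup G : Set G) ≤ Subgroup.normalizer (N : Set G)) (hsolv : Group.IsSolvable ↥N) : N ≤ (Subgroup.center ↥(Cfsg.fittingSubgroup G)).map (Cfsg.fittingSubgroup G).subtype := by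
  have hC : (centralizer (Cfsg.fittingSubgroup G : Set G)).Normal := inferInstance
  have hNs : N.IsSubnormal := isSubnormal_of_normalized hC.isSubnormal hN hnorm
  have h1 : ⁅Cfsg.layer G, N⁆ = ⊥ := commutator_layer_eq_bot_of_isSolvable hNs
  have h2 : N ≤ centralizer (Cfsg.generalizedFittingSubgroup G : Set G) :=
    le_centralizer_of_commutator_eq_bot (commutator_sup_eq_bot (commutator_eq_bot_symm h1)
      (commutator_eq_bot_iff_le_centralizer.mpr hN))
  have h3 : centralizer (Cfsg.generalizedFittingSubgroup G : Set G) ≤ Cfsg.fittingSubgroup G := by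
    set C := centralizer (Cfsg.generalizedFittingSubgroup G : Set G)
    have : Group.IsNilpotent C := by
      refine isNilpotent_of_commutator_commutator (le_bot_iff.mp ?_)
      refine (commutator_mono ((commutator_le_self _).trans centralizer_generalizedFittingSubgroup_le)
        le_rfl).trans (le_of_eq ?_)
      rw [commutator_comm, commutator_eq_bot_iff_le_centralizer]
    exact le_fittingSubgroup inferInstance
  intro x hx
  exact ⟨⟨x, h3 (h2 hx)⟩, mem_center_iff.mpr fun y => Subtype.ext
    (mem_centralizer_iff.mp (hN hx) y y.2), rfl⟩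

end Cfsg.Agent.S1264
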