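import Cfsg.Statements.S1266
import Cfsg.Agent.Lib.Components.PComponents
import Cfsg.Agent.Lib.Balance.Components
import Cfsg.Agent.Lib.Balance.PComp
-- import your own Cfsg.Agent.* helpers here

set_option autoImplicit false
open Cfsg

namespace Cfsg.Agent.S1266

open Cfsg.Agent.Components Subgroup
open scoped commutatorElement

/-- Let P be a p-subgroup of the finite group G and N = N_G(P). Then the preimage in N of E(N / O_{p'}(N)) centralizes O_p(G). -/
theorem result {G : Type*} [Group G] [Finite G] (p : ℕ) [Fact p.Prime] (P : Subgroup G) (hP : IsPGroup p ↥P) : (((Cfsg.layer (↥(Subgroup.normalizer ((P : Subgroup G) : Set G)) ⧸ Cfsg.pPrimeCore p ↥(Subgroup.normalizer ((P : Subgroup G) : Set G)))).comap (QuotientGroup.mk' (Cfsg.pPrimeCore p ↥(Subgroup.normalizer ((P : Subgroup G) : Set G))))).map (Subgroup.normalizer ((P : Subgroup G) : Set G)).subtype) ≤ Subgroup.centralizer (Cfsg.pCore p G : Set G) := by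
  set N := Subgroup.normalizer (P : Set G) with hNdef
  set O := Cfsg.pPrimeCore p N with hOdef
  have hpN : (Cfsg.pCore p N).Normal := pCore_normal' p
  have hdisj : Cfsg.pCore p N ⊓ O = ⊥ := Cfsg.Agent.PCore.pCore_inf_pPrimeCore
  have hP' : P.subgroupOf N ≤ Cfsg.pCore p N :=
    Cfsg.Agent.PCore.le_pCore (hN := normal_subgroupOf_of_le_normalizer le_rfl)
      (hP.of_equiv (subgroupOfEquivOfLe le_normalizer).symm)
  have hPsub : ∀ {y : N}, (∀ c ∈ Cfsg.pCore p N, Commute y c) → ∀ r ∈ P, Commute (y : G) r :=
    fun {y} hy r hr => (hy ⟨r, le_normalizer hr⟩ (hP' hr)).map N.subtype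
  have hOc : ∀ y ∈ O, ∀ c ∈ Cfsg.pCore p N, Commute y c := fun y hy c hc =>
    (Cfsg.Agent.PCore.commute_of_mem_cores hc hy).symm
  set Og := Cfsg.pCore p G with hOgdef
  have hOgn : Og.Normal := pCore_normal' p
  have htop : normalizer (Og : Set G) = ⊤ := normalizer_eq_top Og
  have hfixN : ∀ c ∈ Og, ∀ (hc : c ∈ N), (⟨c, hc⟩ : N) ∈ Cfsg.pCore p N := fun c hc hcN =>
    Cfsg.Agent.PCore.le_pCore (hN := hOgn.subgroupOf N) (isPGroup_pCore' (G := G) p).comap_subtype hc
  have key : (Cfsg.layer (↥N ⧸ O)).comap (QuotientGroup.mk' O) ≤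
      (centralizer (Og : Set G)).comap N.subtype := by
    rw [← map_pLayer, comap_map_eq, QuotientGroup.ker_mk']
    refine sup_le (sSup_le fun K hK => ?_) (map_le_iff_le_comap.mp ?_)
    · have hKc : ⁅K, Cfsg.pCore p N⁆ = ⊥ := by
        rw [eq_bot_iff, ← hdisj]
        refine le_inf (commutator_le_right _ _) ?_
        have : Group.IsNilpotent ((Cfsg.pCore p N).map (QuotientGroup.mk' O)) :=
          ((isPGroup_pCore' (G := ↥N) p).map _).isNilpotent
        have hq := IsComponent.commutator_eq_bot_of_isSolvable hK.2.1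
          (U := (Cfsg.pCore p N).map (QuotientGroup.mk' O))
          (hpN.map _ (QuotientGroup.mk'_surjective _)).isSubnormal
        rwa [← map_commutator, Subgroup.map_eq_bot_iff, QuotientGroup.ker_mk'] at hq
      refine Cfsg.Agent.Balance.le_of_forall_coprime_mem (p := p) (IsPComponent.commutator_self hK) ?_ ?_
      · refine le_trans ?_ (le_normalizer_comap _)
        refine map_le_iff_le_comap.mp (le_top.trans ?_)
        rw [normalizer_eq_top]
      · intro y hy hcop
        have hyc : ∀ c ∈ Cfsg.pCore p N, Commute y c := fun c hc =>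
          (mem_centralizer_iff.mp (le_centralizer_of_commutator_eq_bot hKc hy) c hc).symm
        refine mem_centralizer_iff.mpr fun z hz => ?_
        refine ((Cfsg.Agent.Balance.commute_of_commute_fixed (isPGroup_pCore' p) hP
          (by rw [htop]; exact le_top) (by rw [htop]; exact mem_top _)
          (by rwa [Subgroup.orderOf_coe]) (hPsub hyc) ?_) z hz).eq.symm
        intro c hc hcP
        have hcN : c ∈ N := centralizer_le_normalizer _
          (mem_centralizer_iff.mpr fun r hr => (hcP r hr).eq)
        exact (hyc ⟨c, hcN⟩ (hfixN c hc hcN)).map N.subtype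
    · refine Cfsg.Agent.Balance.le_centralizer_pCore hP ?_ ?_ ?_
      · rintro _ ⟨y, hy, rfl⟩
        exact mem_centralizer_iff.mpr fun r hr => (hPsub (hOc y hy) r hr).eq.symm
      · exact (centralizer_le_normalizer _).trans
          (le_normalizer.trans (normalizer_le_normalizer_map_of_characteristic N O))
      · rw [card_map_of_injective N.subtype_injective]
        exact Cfsg.Agent.PCore.coprime_card_pPrimeCore
  exact map_le_iff_le_comap.mpr key

end Cfsg.Agent.S1266
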