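import Cfsg.Statements.S1267
import Cfsg.Agent.Lib.Components.GenFitting
-- import your own Cfsg.Agent.* helpers here

set_option autoImplicit false
open Cfsg

namespace Cfsg.Agent.S1267

open Cfsg.Agent.Components Subgroup
open scoped commutatorElement

/-- Let G be finite and P ≤ O_p(G). Then E(N_G(P)) = E(G). -/
theorem result {G : Type*} [Group G] [Finite G] (p : ℕ) [Fact p.Prime] (P : Subgroup G) (hP : P ≤ Cfsg.pCore p G) : (Cfsg.layer ↥(Subgroup.normalizer ((P : Subgroup G) : Set G))).map (Subgroup.normalizer ((P : Subgroup G) : Set G)).subtype = Cfsg.layer G := by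
  set N := Subgroup.normalizer (P : Set G) with hNdef
  have hp : p.Prime := Fact.out
  have hOF : Cfsg.pCore p G ≤ Cfsg.fittingSubgroup G := pCore_le_fittingSubgroup hp
  have hEN : Cfsg.layer G ≤ N :=
    ((le_centralizer_of_commutator_eq_bot commutator_layer_fittingSubgroup).trans
      (centralizer_le (SetLike.coe_subset_coe.mpr (hP.trans hOF)))).trans (centralizer_le_normalizer _)
  refine le_antisymm ?_ (layer_le_map_layer_of_le hEN)
  rw [map_le_iff_le_comap]
  refine sSup_le fun L₀ hL₀ => map_le_iff_le_comap.mp ?_
  set L := L₀.map N.subtype with hLdef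
  have hLN : L ≤ N := map_subtype_le _
  have hLperf : Group.IsPerfect L := (IsQuasisimple.map_injective hL₀.2 N.subtype_injective).1
  -- transfer of the dichotomy to subnormal subgroups of `N`
  have hdich : ∀ A : Subgroup G, A ≤ N → N ≤ normalizer (A : Set G) →
      L ≤ A ∨ ⁅L, A⁆ = ⊥ := by
    intro A hA hn
    have := normal_subgroupOf_of_le_normalizer hn
    rcases IsComponent.le_or_commutator_eq_bot_of_normal hL₀ (A.subgroupOf N) with h | h
    · left
      have := Subgroup.map_mono (f := N.subtype) h
      rwa [map_subgroupOf_eq_of_le hA] at this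
    · right
      have := congrArg (Subgroup.map N.subtype) h
      rwa [map_commutator, Subgroup.map_bot, map_subgroupOf_eq_of_le hA] at this
  have hsolv : ∀ A : Subgroup G, A ≤ N → N ≤ normalizer (A : Set G) → A ≤ Cfsg.fittingSubgroup G →
      ⁅L, A⁆ = ⊥ := by
    intro A hA hn hAF
    refine (hdich A hA hn).resolve_left fun h => ?_
    exact IsQuasisimple.not_isSolvable (IsQuasisimple.map_injective hL₀.2 N.subtype_injective)
      (Group.isSolvable_of_isSolvable_injective (f := inclusion (h.trans hAF))
        (inclusion_injective _))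
  have hnormN : ∀ A : Subgroup G, A.Normal → N ≤ normalizer ((A ⊓ N : Subgroup G) : Set G) :=
    fun A hA => (le_inf (by rw [normalizer_eq_top]; exact le_top) le_normalizer).trans
      inf_normalizer_le_normalizer_inf
  rcases hdich (Cfsg.layer G) hEN (by rw [normalizer_eq_top]; exact le_top) with h | hLE
  · exact h
  exfalso
  have hP' : ⁅L, P⁆ = ⊥ :=
    hsolv P le_normalizer le_rfl (hP.trans hOF)
  -- `L` centralises `O_p(G)`
  have hLO : L ≤ centralizer (Cfsg.pCore p G : Set G) := by
    set O := Cfsg.pCore p G
    set R := O ⊓ centralizer (L : Set G)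
    have hPR : P ≤ R := le_inf hP (le_centralizer_of_commutator_eq_bot (commutator_eq_bot_symm hP'))
    have hNO : O ⊓ N ≤ R :=
      le_inf inf_le_left (le_centralizer_of_commutator_eq_bot (commutator_eq_bot_symm
        (hsolv _ inf_le_right (hnormN O inferInstance) (inf_le_left.trans hOF))))
    have hS : O ⊓ normalizer (R : Set G) ≤ R := by
      refine le_inf inf_le_left (le_centralizer_of_commutator_eq_bot ?_)
      set S := O ⊓ normalizer (R : Set G)
      refine commutator_eq_bot_symm (commutator_eq_bot_of_commutator_commutator hLperf ?_)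
      have hLR : ⁅L, R⁆ = ⊥ := commutator_eq_bot_symm
        (commutator_eq_bot_iff_le_centralizer.mpr inf_le_right)
      have h3 : ⁅⁅S, L⁆, R⁆ = ⊥ := by
        refine commutator_commutator_eq_bot_of_rotate ?_ ?_
        · rw [hLR, commutator_bot_left]
        · refine le_bot_iff.mp ((commutator_mono (le_normalizer_iff_commutator_le_left.mp
            inf_le_right) le_rfl).trans (commutator_eq_bot_symm hLR).le)
      rw [eq_bot_iff]
      have h4 : ⁅S, L⁆ ≤ R := le_trans (le_inf ((commutator_mono inf_le_left le_rfl).trans
        (commutator_le_left O L)) (((le_centralizer_of_commutator_eq_bot h3).trans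
          (centralizer_le (SetLike.coe_subset_coe.mpr hPR))).trans (centralizer_le_normalizer _))) hNO
      exact (commutator_mono h4 le_rfl).trans (commutator_eq_bot_symm hLR).le
    have hRO : R.subgroupOf O = ⊤ := by
      have := (isPGroup_pCore' (G := G) p).isNilpotent
      by_contra hne
      obtain ⟨x, hx, hxR⟩ := SetLike.exists_of_lt
        (Group.normalizerCondition_of_isNilpotent (R.subgroupOf O) (lt_top_iff_ne_top.mpr hne))
      refine hxR (hS ⟨x.2, ?_⟩)
      have := (le_normalizer_map (H := R.subgroupOf O) O.subtype) ⟨x, hx, rfl⟩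
      rwa [map_subgroupOf_eq_of_le inf_le_left] at this
    refine le_centralizer_of_commutator_eq_bot (commutator_eq_bot_symm ?_)
    exact commutator_eq_bot_iff_le_centralizer.mpr ((subgroupOf_eq_top.mp hRO).trans inf_le_right)
  have hLF : ⁅L, Cfsg.fittingSubgroup G⁆ = ⊥ := by
    rw [fittingSubgroup_eq_iSup_pCore]
    refine commutator_eq_bot_symm (commutator_eq_bot_iff_le_centralizer.mpr (iSup_le fun q => ?_))
    refine le_centralizer_of_commutator_eq_bot (commutator_eq_bot_symm ?_)
    by_cases hq : (q : ℕ) = p
    · rw [hq]; exact commutator_eq_bot_iff_le_centralizer.mpr hLO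
    have hqp : (q : ℕ).Prime := Nat.prime_of_mem_primeFactors q.2
    have := Fact.mk hqp
    refine hsolv _ ?_ (by rw [normalizer_eq_top]; exact le_top) (pCore_le_fittingSubgroup hqp)
    refine le_trans (fun x hx => mem_centralizer_iff.mpr fun y hy => ?_)
      (centralizer_le_normalizer _)
    exact commute_of_normal_of_disjoint _ _ (pCore_normal' _) (pCore_normal' _)
      (IsPGroup.disjoint_of_ne _ _ (fun e => hq e.symm) _ _ (isPGroup_pCore' _) (isPGroup_pCore' _))
      y x (hP hy) hx
  have hLc : L ≤ centralizer (Cfsg.generalizedFittingSubgroup G : Set G) :=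
    le_centralizer_of_commutator_eq_bot (commutator_sup_eq_bot hLE hLF)
  have hLbot : L = ⊥ := eq_bot_of_perfect_of_commutator hLperf (commutator_eq_bot_iff_le_centralizer.mpr
    (hLc.trans (centralizer_le
      (SetLike.coe_subset_coe.mpr (hLc.trans centralizer_generalizedFittingSubgroup_le)))))
  exact IsQuasisimple.ne_bot (IsQuasisimple.map_injective hL₀.2 N.subtype_injective) hLbot

end Cfsg.Agent.S1267
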