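import Cfsg.Statements.S1269
import Cfsg.Agent.Lib.Components.PComponentQuot
import Cfsg.Agent.Lib.Balance.Components
import Cfsg.Agent.Lib.Balance.PComp
import Cfsg.Agent.S1266
-- import your own Cfsg.Agent.* helpers here

set_option autoImplicit false
open Cfsg

namespace Cfsg.Agent.S1269

open Cfsg.Agent.Components Subgroup
open scoped commutatorElement

/-- Let G be finite with O_{p'}(G) = 1, P a p-subgroup, N = N_G(P), and x an element of the preimage in N of E(N / O_{p'}(N)). Then x normalizes every component L of G. -/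
theorem result {G : Type*} [Group G] [Finite G] (p : ℕ) [Fact p.Prime] (hO : Cfsg.pPrimeCore p G = ⊥) (P : Subgroup G) (hP : IsPGroup p ↥P) (L : Subgroup G) (hL : Cfsg.IsComponent L) (x : G) (hx : x ∈ (((Cfsg.layer (↥(Subgroup.normalizer ((P : Subgroup G) : Set G)) ⧸ Cfsg.pPrimeCore p ↥(Subgroup.normalizer ((P : Subgroup G) : Set G)))).comap (QuotientGroup.mk' (Cfsg.pPrimeCore p ↥(Subgroup.normalizer ((P : Subgroup G) : Set G))))).map (Subgroup.normalizer ((P : Subgroup G) : Set G)).subtype)) : L.map (MulAut.conj x).toMonoidHom = L := by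
  set N := Subgroup.normalizer (P : Set G) with hNdef
  have hCO : ((Cfsg.layer (↥N ⧸ Cfsg.pPrimeCore p N)).comap
      (QuotientGroup.mk' (Cfsg.pPrimeCore p N))).map N.subtype ≤
        centralizer (Cfsg.pCore p G : Set G) := Cfsg.Agent.S1266.result p P hP
  set O := Cfsg.pCore p G with hOdef
  have hOn : O.Normal := pCore_normal' p
  set D' := Cfsg.Agent.Balance.core' p (Cfsg.Agent.Balance.centR p P) with hD'def
  set U : Subgroup G := ⨅ K : {K : Subgroup G // Cfsg.IsComponent K}, normalizer ((K : Subgroup G) : Set G)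
    with hUdef
  have hUn : U.Normal := by
    refine ⟨fun u hu g => mem_iInf.mpr fun K => ?_⟩
    have hK' := IsComponent.conj K.2 g⁻¹
    have hu' := mem_iInf.mp hu ⟨_, hK'⟩
    have h' := le_normalizer_map (MulAut.conj g).toMonoidHom (mem_map_of_mem _ hu')
    rw [Subgroup.map_map] at h'
    have he : (MulAut.conj g).toMonoidHom.comp (MulAut.conj g⁻¹).toMonoidHom = MonoidHom.id G := by
      ext z; simp [mul_assoc]
    rw [he, Subgroup.map_id] at h'
    simpa [mul_assoc] using h'
  have hDN : ∀ d ∈ D', d ∈ U := fun d hd => mem_iInf.mpr fun K =>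
    Cfsg.Agent.Balance.mem_normalizer_of_mem_core' hO hP hd K.2
  suffices hall : ((Cfsg.layer (↥N ⧸ Cfsg.pPrimeCore p N)).comap
      (QuotientGroup.mk' (Cfsg.pPrimeCore p N))).map N.subtype ≤ U from
    Cfsg.Agent.Balance.map_conj_eq_of_mem_normalizer (mem_iInf.mp (hall hx) ⟨L, hL⟩)
  have hPN : P.subgroupOf N ≤ Cfsg.pCore p N :=
    Cfsg.Agent.PCore.le_pCore (hN := normal_subgroupOf_of_le_normalizer le_rfl)
      (hP.of_equiv (subgroupOfEquivOfLe le_normalizer).symm)
  set OC := (Cfsg.pPrimeCore p N).map N.subtype with hOCdef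
  have hON : OC ≤ D' := by
    refine Cfsg.Agent.Balance.le_core'_centR hP ?_ ?_ ?_
    · rintro _ ⟨y, hy, rfl⟩
      exact mem_centralizer_iff.mpr fun r hr => congrArg Subtype.val (Cfsg.Agent.PCore.commute_of_mem_cores
        (hPN (show (⟨r, le_normalizer hr⟩ : N) ∈ P.subgroupOf N from hr)) hy)
    · exact (centralizer_le_normalizer _).trans
        (le_normalizer.trans (normalizer_le_normalizer_map_of_characteristic N _))
    · rw [card_map_of_injective N.subtype_injective]
      exact Cfsg.Agent.PCore.coprime_card_pPrimeCore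
  rw [map_le_iff_le_comap, ← map_pLayer, comap_map_eq, QuotientGroup.ker_mk']
  refine sup_le (sSup_le fun J₀ hJ₀ => ?_) (fun y hy => hDN _ (hON ⟨y, hy, rfl⟩))
  refine map_le_iff_le_comap.mp ?_
  set J := J₀.map N.subtype with hJdef
  have hJN : J ≤ N := map_subtype_le _
  have hJperf : ⁅J, J⁆ = J := by rw [hJdef, ← map_commutator, IsPComponent.commutator_self hJ₀]
  have hJO : J ≤ centralizer (O : Set G) := le_trans (Subgroup.map_mono (by
    rw [← map_le_iff_le_comap]; exact IsComponent.le_layer hJ₀.2.1)) hCO
  have hJP : ∀ y ∈ J, ∀ r ∈ P, Commute y r := by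
    rintro _ ⟨y, hy, rfl⟩ r hr
    have h := mem_centralizer_iff.mp
      (le_centralizer_of_commutator_eq_bot (IsPComponent.commutator_pCore hJ₀) hy) _
      (hPN (show (⟨r, le_normalizer hr⟩ : N) ∈ P.subgroupOf N from hr))
    exact (congrArg Subtype.val h).symm
  set M0 := Cfsg.layer G ⊓ centralizer (P : Set G) with hM0def
  have hNM0 : N ≤ normalizer (M0 : Set G) :=
    (le_inf (le_top.trans (normalizer_eq_top (Cfsg.layer G)).ge)
      (Cfsg.Agent.Balance.normalizer_le_normalizer_centralizer (P : Set G))).trans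
        inf_normalizer_le_normalizer_inf
  have hM0N : M0 ≤ N := inf_le_right.trans (centralizer_le_normalizer _)
  have := normal_subgroupOf_of_le_normalizer hNM0
  rcases (Cfsg.Agent.Balance.isPQT_of_isPComponent hJ₀).le_or_commutator_le_of_normal hJ₀.1
      (M := M0.subgroupOf N) with hcase | hcase
  · have h1 : J ≤ Cfsg.layer G :=
      ((Subgroup.map_mono hcase).trans (map_subgroupOf_eq_of_le hM0N).le).trans inf_le_left
    exact h1.trans (le_iInf fun K => sSup_le fun K' hK' => IsComponent.le_normalizer hK' K.2)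
  · have hJM0 : ⁅J, M0⁆ ≤ D' := by
      have := Subgroup.map_mono (f := N.subtype) hcase
      rw [map_commutator, map_subgroupOf_eq_of_le hM0N] at this
      exact this.trans hON
    set M := Cfsg.layer G ⊓ Cfsg.Agent.Balance.fixedMod p P with hMdef
    have hMJ : ⁅M, J⁆ ≤ M0 := by
      refine commutator_le.mpr fun c hc y hy => ⟨?_, mem_centralizer_iff.mpr fun r hr => ?_⟩
      · exact commutator_le_left (Cfsg.layer G) ⊤ (commutator_mem_commutator hc.1 (mem_top y))
      · have hz : r * c * r⁻¹ * c⁻¹ ∈ O := Cfsg.Agent.Balance.mem_fixedMod.mp hc.2 r hr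
        set z := r * c * r⁻¹ * c⁻¹ with hzdef
        have hcy : ⁅c, y⁆ ∈ Cfsg.layer G :=
          commutator_le_left (Cfsg.layer G) ⊤ (commutator_mem_commutator hc.1 (mem_top y))
        have hzy : Commute z y := mem_centralizer_iff.mp (hJO hy) z hz
        have hzu : Commute ⁅c, y⁆ z := Cfsg.Agent.Balance.commute_layer_pCore hcy hz
        have e : r * ⁅c, y⁆ * r⁻¹ = ⁅c, y⁆ := by
          rw [conjugate_commutatorElement, show r * c * r⁻¹ = z * c by rw [hzdef]; group,
            show r * y * r⁻¹ = y by rw [← (hJP y hy r hr).eq]; group,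
            commutatorElement_mul_left_eq_conj_mul, hzy.commutator_eq, mul_one, ← hzu.eq]
          group
        exact mul_inv_eq_iff_eq_mul.mp e
    set W := normalizer (D' : Set G) with hWdef
    have hMW : M ≤ W := inf_le_right.trans (Cfsg.Agent.Balance.fixedMod_le_normalizer_core' P)
    have hNW : N ≤ W := by
      refine le_trans ?_ (Cfsg.Agent.Balance.normalizer_le_normalizer_core' _)
      exact (le_inf (Cfsg.Agent.Balance.normalizer_le_normalizer_centralizer (P : Set G))
        ((le_top.trans (normalizer_eq_top O).ge).trans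
          (Cfsg.Agent.Balance.normalizer_le_normalizer_centralizer (O : Set G)))).trans
        inf_normalizer_le_normalizer_inf
    have hD'W : (D'.subgroupOf W).Normal := normal_in_normalizer
    have hMJD : ⁅M, J⁆ ≤ D' := by
      let q := QuotientGroup.mk' (D'.subgroupOf W)
      have hq : ∀ A : Subgroup G, A ≤ W → A ≤ D' → (A.subgroupOf W).map q = ⊥ := fun A hA hAD => by
        rw [Subgroup.map_eq_bot_iff, QuotientGroup.ker_mk']; exact fun a ha => hAD ha
      have hperf : Group.IsPerfect ((J.subgroupOf W).map q) := by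
        have := (Subgroup.isPerfect_iff (H := J.subgroupOf W)).mpr (by
          apply Subgroup.map_injective W.subtype_injective
          rw [map_commutator, map_subgroupOf_eq_of_le (hJN.trans hNW), hJperf])
        exact Group.IsPerfect.map q
      have h2 : ⁅⁅(M.subgroupOf W).map q, (J.subgroupOf W).map q⁆, (J.subgroupOf W).map q⁆ = ⊥ := by
        rw [← map_commutator, ← map_commutator, Subgroup.map_eq_bot_iff, QuotientGroup.ker_mk',
          ← map_subtype_le_map_subtype, map_commutator, map_commutator,
          map_subgroupOf_eq_of_le hMW, map_subgroupOf_eq_of_le (hJN.trans hNW),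
          map_subgroupOf_eq_of_le le_normalizer]
        exact (commutator_mono hMJ le_rfl).trans ((commutator_comm _ _).le.trans hJM0)
      have h3 := commutator_eq_bot_of_commutator_commutator hperf h2
      rw [← map_commutator, Subgroup.map_eq_bot_iff, QuotientGroup.ker_mk',
        ← map_subtype_le_map_subtype, map_commutator, map_subgroupOf_eq_of_le hMW,
        map_subgroupOf_eq_of_le (hJN.trans hNW), map_subgroupOf_eq_of_le le_normalizer] at h3
      exact (commutator_comm _ _).le.trans h3
    refine Cfsg.Agent.Balance.le_of_forall_coprime_mem (p := p) hJperf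
      (by rw [normalizer_eq_top U]; exact le_top) fun y hy hcop => mem_iInf.mpr fun K => ?_
    refine Cfsg.Agent.Balance.mem_normalizer_of_conj_eq hP (hJP y hy) hcop
      (Cfsg.Agent.Balance.exists_conj_eq hO hP (hJP y hy) (fun c hcE hc => ?_) K.2)
    refine Cfsg.Agent.Balance.coprime_orderOf_of_mem_core' (hMJD ?_)
    have := commutator_mem_commutator (H₁ := M) (H₂ := J)
      (M.inv_mem (show c ∈ M from ⟨hcE, hc⟩)) hy
    simpa [commutatorElement_def, mul_assoc] using this

end Cfsg.Agent.S1269
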