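import Cfsg.Statements.S1270
import Cfsg.Agent.Lib.Balance.Components
import Cfsg.Agent.Lib.Balance.KBalance
import Cfsg.Agent.Lib.Components.Layer
-- import your own Cfsg.Agent.* helpers here

set_option autoImplicit false
open Cfsg

namespace Cfsg.Agent.S1270

open Cfsg.Agent.Components Subgroup
open scoped commutatorElement

/-- Let G be finite with O_{p'}(G) = 1, x of order p, and L a component with ⁅L, ⟨x⟩⁆ ≠ L. Then ⁅L, O_{p'}(C_G(x))⁆ = 1. -/
theorem result {G : Type*} [Group G] [Finite G] (p : ℕ) [Fact p.Prime] (hO : Cfsg.pPrimeCore p G = ⊥) (x : G) (hx : orderOf x = p) (L : Subgroup G) (hL : Cfsg.IsComponent L) (hne : ⁅L, Subgroup.zpowers x⁆ ≠ L) : ⁅L, Cfsg.centralizerPPrimeCore p x⁆ = ⊥ := by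
  set C := centralizer ({x} : Set G) with hCdef
  have hxR : IsPGroup p ↥(Subgroup.zpowers x) :=
    IsPGroup.of_card (n := 1) (by rw [Nat.card_zpowers, hx, pow_one])
  have hxC : C ≤ centralizer (Subgroup.zpowers x : Set G) := by
    rw [Cfsg.Agent.Balance.centralizer_zpowers]
  have hle : Cfsg.centralizerPPrimeCore p x ≤
      Cfsg.Agent.Balance.core' p (Cfsg.Agent.Balance.centR p (Subgroup.zpowers x)) :=
    Cfsg.Agent.Balance.le_core'_centR hxR ((map_subtype_le _).trans hxC)
      (by
        rw [Cfsg.Agent.Balance.centralizer_zpowers]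
        exact le_normalizer.trans (normalizer_le_normalizer_map_of_characteristic C _))
      (by
        rw [Cfsg.centralizerPPrimeCore, card_map_of_injective C.subtype_injective]
        exact Cfsg.Agent.PCore.coprime_card_pPrimeCore)
  rw [commutator_eq_bot_iff_le_centralizer]
  intro l hl
  refine mem_centralizer_iff.mpr fun d hd => ?_
  by_cases hn : x ∈ normalizer (L : Set G)
  · have hXn : Subgroup.zpowers x ≤ normalizer (L : Set G) := zpowers_le.mpr hn
    have hLX : ⁅L, Subgroup.zpowers x⁆ ≤ L := le_normalizer_iff_commutator_le_left.mp hXn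
    rcases IsQuasisimple.eq_or_commutator_eq_bot hL.2 hLX (normalizer_commutator_ge_left _ _) with h | h
    · exact absurd h hne
    · have h2 : ⁅L, Subgroup.zpowers x⁆ = ⊥ := by
        refine commutator_eq_bot_of_commutator_commutator hL.2.1 (le_bot_iff.mp ?_)
        rw [← commutator_eq_bot_symm h]
        exact commutator_mono (commutator_comm _ _).le le_rfl
      exact (Cfsg.Agent.Balance.commute_of_fixed hO hxR (hle hd) hL (fun y hy =>
        mem_centralizer_iff.mp (le_centralizer_of_commutator_eq_bot h2 hy) x (mem_zpowers x)) l hl).eq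
  · exact (Cfsg.Agent.Balance.commute_of_moved hO (by rw [← hx]; exact pow_orderOf_eq_one x)
      (hle hd) hL hn l hl).eq

end Cfsg.Agent.S1270
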