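import Cfsg.Statements.S1271
import Cfsg.Agent.Lib.Balance.KBalance
import Cfsg.Agent.Lib.Components.Layer
-- import your own Cfsg.Agent.* helpers here

set_option autoImplicit false
open Cfsg

namespace Cfsg.Agent.S1271

open Cfsg.Agent.Components Subgroup
open scoped commutatorElement

/-- Let G be finite with O_{p'}(G) = 1. Suppose that for every component L of G and every subgroup H ≥ L in which L is normal, the quotient H / C_H(L) is balanced for the prime p. Then G is balanced for p. -/
theorem result {G : Type*} [Group G] [Finite G] (p : ℕ) [Fact p.Prime] (hO : Cfsg.pPrimeCore p G = ⊥) (h : ∀ L : Subgroup G, Cfsg.IsComponent L → ∀ H : Subgroup G, L ≤ H → (L.subgroupOf H).Normal → ∀ [((Subgroup.centralizer (L : Set G)).subgroupOf H).Normal], Cfsg.IsBalancedFor p (↥H ⧸ (Subgroup.centralizer (L : Set G)).subgroupOf H)) : Cfsg.IsBalancedFor p G := by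
  intro x hx
  have hp : p.Prime := Fact.out
  set X := Subgroup.zpowers x with hXdef
  set D' := Cfsg.Agent.Balance.core' p (Cfsg.Agent.Balance.centR p X) with hD'def
  set Cx := centralizer ({x} : Set G) with hCxdef
  have hxR : IsPGroup p ↥X := IsPGroup.of_card (n := 1) (by rw [Nat.card_zpowers, hx, pow_one])
  have hle : Cfsg.centralizerPPrimeCore p x ≤ D' :=
    Cfsg.Agent.Balance.le_core'_centR hxR
      (by rw [Cfsg.Agent.Balance.centralizer_zpowers]; exact map_subtype_le _)
      (by
        rw [Cfsg.Agent.Balance.centralizer_zpowers]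
        exact le_normalizer.trans (normalizer_le_normalizer_map_of_characteristic Cx _))
      (by
        rw [Cfsg.centralizerPPrimeCore, card_map_of_injective Cx.subtype_injective]
        exact Cfsg.Agent.PCore.coprime_card_pPrimeCore)
  rw [hO]
  refine hle.trans fun d hd => mem_bot.mpr ?_
  refine Cfsg.Agent.Balance.eq_one_of_centralizes hO (Cfsg.Agent.Balance.coprime_orderOf_of_mem_core' hd)
    (fun z hz => (mem_centralizer_iff.mp (Cfsg.Agent.Balance.core'_le _ hd).2 z hz).symm) fun L hL => ?_
  by_cases hxL : x ∈ normalizer (L : Set G)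
  swap
  · exact Cfsg.Agent.Balance.commute_of_moved hO (by rw [← hx]; exact pow_orderOf_eq_one x) hd hL hxL
  by_cases hxfix : ∀ y ∈ L, Commute x y
  · exact Cfsg.Agent.Balance.commute_of_fixed hO hxR hd hL hxfix
  -- `x` acts nontrivially on `L`: use balance of `H / C_H(L)`
  set S := centralizer (X : Set G) ⊓ normalizer (L : Set G) with hSdef
  set H := L ⊔ S with hHdef
  have hHN : H ≤ normalizer (L : Set G) := sup_le le_normalizer inf_le_right
  have hdS : ∀ e ∈ D', e ∈ S := fun e he =>
    ⟨(Cfsg.Agent.Balance.core'_le _ he).1,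
      Cfsg.Agent.Balance.mem_normalizer_of_mem_core' hO hxR he hL⟩
  have hxS : x ∈ S := ⟨mem_centralizer_iff.mpr fun z hz => by
    obtain ⟨i, rfl⟩ := hz
    exact ((Commute.refl x).zpow_left i).eq, hxL⟩
  set Z := (centralizer (L : Set G)).subgroupOf H with hZdef
  have : Z.Normal := normal_subgroupOf_of_le_normalizer (hHN.trans
    (Cfsg.Agent.Balance.normalizer_le_normalizer_centralizer (L : Set G)))
  have hbal := h L hL H le_sup_left (normal_subgroupOf_of_le_normalizer hHN)
  set f := QuotientGroup.mk' Z with hfdef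
  have hmemZ : ∀ g : H, f g = 1 ↔ ∀ y ∈ L, Commute (g : G) y := fun g => by
    rw [hfdef, QuotientGroup.mk'_apply, QuotientGroup.eq_one_iff]
    exact ⟨fun hg y hy => (mem_centralizer_iff.mp hg y hy).symm,
      fun hg => mem_centralizer_iff.mpr fun y hy => (hg y hy).eq.symm⟩
  set x' : H := ⟨x, mem_sup_right hxS⟩
  have hfx : orderOf (f x') = p := orderOf_eq_prime
    (by rw [← map_pow, show x' ^ p = 1 from Subtype.ext (by rw [← hx]; exact pow_orderOf_eq_one x), map_one])
    (fun he => hxfix ((hmemZ x').mp he))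
  set T := (D'.subgroupOf H).map f with hTdef
  have hTC : T ≤ Cfsg.centralizerPPrimeCore p (f x') := by
    refine Cfsg.Agent.Balance.le_core' ?_ ?_ ?_
    · rintro _ ⟨g, hg, rfl⟩
      refine mem_centralizer_singleton_iff.mpr ?_
      rw [← map_mul, ← map_mul]
      congr 1
      exact Subtype.ext ((mem_centralizer_iff.mp (Cfsg.Agent.Balance.core'_le _ (mem_subgroupOf.mp hg)).1 x
        (mem_zpowers x)).symm)
    · intro a ha
      obtain ⟨g, rfl⟩ := QuotientGroup.mk'_surjective Z a
      have hgH : (g : G) ∈ ((L ⊔ S : Subgroup G) : Set G) := g.2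
      rw [coe_mul_of_right_le_normalizer_left L S inf_le_right, Set.mem_mul] at hgH
      obtain ⟨k, hk, s, hs, hks⟩ := hgH
      have hkf : k ∈ Cfsg.Agent.Balance.fixedMod p X := by
        set k' : H := ⟨k, mem_sup_left hk⟩
        set s' : H := ⟨s, mem_sup_right hs⟩
        have hg : g = k' * s' := Subtype.ext hks.symm
        have hsb : Commute (f s') (f x') :=
          (show Commute s' x' from Subtype.ext ((mem_centralizer_iff.mp hs.1 x (mem_zpowers x)).symm)).map f
        have hgb : Commute (f g) (f x') := mem_centralizer_singleton_iff.mp ha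
        have hkb : Commute (f k') (f x') := by
          have := hgb.mul_left hsb.inv_left
          rwa [hg, map_mul, mul_inv_cancel_right] at this
        refine Cfsg.Agent.Balance.mem_fixedMod.mpr ?_
        rintro r ⟨i, rfl⟩
        have h1 : f (x' ^ i * k' * (x' ^ i)⁻¹ * k'⁻¹) = 1 := by
          rw [map_mul, map_mul, map_mul, map_inv, map_inv, map_zpow, ((hkb.zpow_right i).symm).eq]
          group
        have h2 := (hmemZ _).mp h1
        simp only [Subgroup.coe_mul, InvMemClass.coe_inv, SubgroupClass.coe_zpow] at h2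
        refine Cfsg.Agent.Balance.inf_centralizer_le_pCore hO hL.1
          ⟨?_, mem_centralizer_iff.mpr fun y hy => ((h2 y hy).eq).symm⟩
        exact L.mul_mem ((mem_normalizer_iff.mp ((normalizer (L : Set G)).zpow_mem hxL i) k).mp hk)
          (L.inv_mem hk)
      have hgD : (g : G) ∈ normalizer (D' : Set G) := by
        rw [← hks]
        exact (normalizer (D' : Set G)).mul_mem
          (Cfsg.Agent.Balance.fixedMod_le_normalizer_core' _ hkf)
          (Cfsg.Agent.Balance.normalizer_le_normalizer_core' _
            (Cfsg.Agent.Balance.centralizer_le_normalizer_centR _ hs.1))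
      refine le_normalizer_map f (mem_map_of_mem f (mem_normalizer_iff.mpr fun y => ?_))
      simp only [mem_subgroupOf, Subgroup.coe_mul, InvMemClass.coe_inv]
      exact mem_normalizer_iff.mp hgD y
    · exact (Cfsg.Agent.Balance.card_core'_coprime _).coprime_dvd_left ((card_map_dvd _ _).trans
        (card_comap_dvd_of_injective _ _ H.subtype_injective))
  have hTO := hTC.trans (hbal (f x') hfx)
  set O := Cfsg.pPrimeCore p (↥H ⧸ Z) with hOdef
  set M := (O.comap f).map H.subtype with hMdef
  have hHM : H ≤ normalizer (M : Set G) := by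
    refine le_trans ?_ (le_normalizer_map H.subtype)
    rw [normalizer_eq_top, ← MonoidHom.range_eq_map, range_subtype]
  have hLM : L ⊓ M = L ∨ ⁅L, L ⊓ M⁆ = ⊥ :=
    IsQuasisimple.eq_or_commutator_eq_bot hL.2 inf_le_left
      ((le_inf le_normalizer (le_sup_left.trans hHM)).trans inf_normalizer_le_normalizer_inf)
  have hLM' : ⁅L, L ⊓ M⁆ = ⊥ := by
    refine hLM.resolve_left fun he => ?_
    obtain ⟨c, hc, ⟨j, hj⟩, hcp⟩ := Cfsg.Agent.Balance.exists_pElement_component hO hL
    obtain ⟨c', hc', hcc⟩ := mem_map.mp (mem_inf.mp (he.symm ▸ hc : c ∈ L ⊓ M)).2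
    have h1 : (orderOf (f c')).Coprime p :=
      Cfsg.Agent.PCore.coprime_card_pPrimeCore.coprime_dvd_left (Subgroup.orderOf_dvd_natCard _ hc')
    have h2 : f c' = 1 := orderOf_eq_one_iff.mp (Nat.eq_one_of_dvd_coprimes (h1.pow_right j) dvd_rfl
      (orderOf_dvd_of_pow_eq_one (by
        rw [← map_pow, show c' ^ p ^ j = 1 from H.subtype_injective (by rw [map_pow, hcc, hj, map_one]),
          map_one])))
    have h3 : c ∈ centralizer (L : Set G) := mem_centralizer_iff.mpr fun y hy => by
      rw [← hcc]; exact ((hmemZ c').mp h2 y hy).eq.symm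
    exact hcp (Cfsg.Agent.Balance.inf_centralizer_le_pCore hO hL.1 ⟨hc, h3⟩)
  have hM : ⁅L, M⁆ = ⊥ := by
    refine commutator_eq_bot_of_commutator_commutator hL.2.1 (le_bot_iff.mp ?_)
    refine le_trans (commutator_mono (le_inf ?_ ?_) le_rfl) (commutator_eq_bot_symm hLM').le
    · exact le_normalizer_iff_commutator_le_right.mp ((map_subtype_le _).trans hHN)
    · exact le_normalizer_iff_commutator_le_left.mp (le_sup_left.trans hHM)
  have hdM : d ∈ M := ⟨⟨d, mem_sup_right (hdS d hd)⟩,
    hTO ⟨⟨d, mem_sup_right (hdS d hd)⟩, hd, rfl⟩, rfl⟩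
  intro y hy
  exact (mem_centralizer_iff.mp (le_centralizer_of_commutator_eq_bot (commutator_eq_bot_symm hM) hdM) y hy).symm

end Cfsg.Agent.S1271
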