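import Cfsg.Statements.S1273
import Cfsg.Agent.Lib.Components.PComponentQuot
-- import your own Cfsg.Agent.* helpers here

set_option autoImplicit false
open Cfsg

namespace Cfsg.Agent.S1273

open Cfsg.Agent.Components Subgroup
open scoped commutatorElement

/-- Let K be a p-component of the finite group X and N a normal subgroup of K whose index in K is prime to p. Then N = K. -/
theorem result {X : Type*} [Group X] [Finite X] (p : ℕ) [Fact p.Prime] (K : Subgroup X) (hK : Cfsg.IsPComponent p K) (N : Subgroup ↥K) [N.Normal] (hidx : (N.index).Coprime p) : N = ⊤ := by
  have h := IsPComponent.eq_of_relIndex_coprime (H := N.map K.subtype) hK (map_subtype_le N)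
  have e : (N.map K.subtype).subgroupOf K = N := comap_map_eq_self_of_injective K.subtype_injective N
  rw [relIndex, e] at h
  exact e.symm.trans (subgroupOf_eq_top.mpr (h (inferInstance : N.Normal).isSubnormal hidx).ge)

end Cfsg.Agent.S1273
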