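import Cfsg.Statements.S1277
import Cfsg.Agent.Lib.Components.PComponentQuot
-- import your own Cfsg.Agent.* helpers here

set_option autoImplicit false
open Cfsg

namespace Cfsg.Agent.S1277

open Cfsg.Agent.Components Subgroup
open scoped commutatorElement

/-- For a finite group X with core O(X): the image of E(X) in X / O(X) is all of E(X / O(X)) if and only if every 2-component of X is a component, i.e. L_{2'}(X) ≤ E(X). -/
theorem result {X : Type*} [Group X] [Finite X] : (Cfsg.layer X).map (QuotientGroup.mk' (Cfsg.oddCore X)) = Cfsg.layer (X ⧸ Cfsg.oddCore X) ↔ Cfsg.pLayer 2 X ≤ Cfsg.layer X := by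
  constructor
  · intro h
    refine sSup_le fun K hK => ?_
    have hle : K.map (QuotientGroup.mk' (Cfsg.oddCore X)) ≤ sSup ((Subgroup.map
        (QuotientGroup.mk' (Cfsg.oddCore X))) '' {L : Subgroup X | IsComponent L}) := by
      refine (IsComponent.le_layer hK.2.1).trans (h.ge.trans ?_)
      rw [map_le_iff_le_comap]
      exact sSup_le fun L hL => map_le_iff_le_comap.mp
        (le_sSup (s := (Subgroup.map _) '' _) ⟨L, hL, rfl⟩)
    obtain ⟨U, ⟨L, hL, rfl⟩, hU⟩ := IsComponent.exists_le_of_le_sSup hK.2.1
      (by rintro _ ⟨L, hL, rfl⟩; exact hL.1.map (QuotientGroup.mk'_surjective _)) hle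
    have hne : ¬ L ≤ Cfsg.oddCore X := fun hl => IsComponent.ne_bot hK.2.1
      (le_bot_iff.mp (hU.trans (by
        rw [le_bot_iff, Subgroup.map_eq_bot_iff, QuotientGroup.ker_mk']; exact hl)))
    have hLp := IsComponent.isPComponent hL hne
    rw [IsPComponent.eq_of_map_eq hK hLp (IsComponent.eq_of_le hK.2.1 hLp.2.1 hU)]
    exact IsComponent.le_layer hL
  · intro h
    refine le_antisymm ?_ (map_pLayer (p := 2).ge.trans (Subgroup.map_mono h))
    rw [map_le_iff_le_comap]
    refine sSup_le fun L hL => map_le_iff_le_comap.mp ?_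
    by_cases hne : L.map (QuotientGroup.mk' (Cfsg.oddCore X)) = ⊥
    · exact hne ▸ bot_le
    · exact IsComponent.le_layer
        (IsComponent.map_of_surjective hL (QuotientGroup.mk'_surjective _) hne)

end Cfsg.Agent.S1277
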