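import Cfsg.Statements.S1282
import Cfsg.Agent.Lib.Signalizer.Family

set_option autoImplicit false
open Cfsg
open scoped Pointwise

namespace Cfsg.Agent.S1282

/-- Let A be an elementary abelian p-subgroup of rank at least 3 of the finite group G, q ≠ p a prime, and Q₁, Q₂ q-subgroups normalized by A with D = Q₁ ∩ Q₂ different from both. Then there is a non-identity a ∈ A such that, for i = 1 and i = 2, N_{Q_i}(D) ∩ C_G(a) is not contained in D. -/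
theorem result {G : Type*} [Group G] [Finite G] (p : ℕ) [Fact p.Prime] (A : Subgroup G) (hA : Cfsg.IsElementaryAbelian p A) (hA3 : p ^ 3 ≤ Nat.card ↥A) (q : ℕ) [Fact q.Prime] (hqp : q ≠ p) (Q₁ Q₂ : Subgroup G) (h₁ : IsPGroup q ↥Q₁) (h₂ : IsPGroup q ↥Q₂) (hA₁ : A ≤ Subgroup.normalizer (Q₁ : Set G)) (hA₂ : A ≤ Subgroup.normalizer (Q₂ : Set G)) (hD₁ : Q₁ ⊓ Q₂ ≠ Q₁) (hD₂ : Q₁ ⊓ Q₂ ≠ Q₂) : ∃ a ∈ A, a ≠ 1 ∧ ¬ (Subgroup.normalizer ((Q₁ ⊓ Q₂ : Subgroup G) : Set G) ⊓ Q₁ ⊓ Subgroup.centralizer {a} ≤ Q₁ ⊓ Q₂) ∧ ¬ (Subgroup.normalizer ((Q₁ ⊓ Q₂ : Subgroup G) : Set G) ⊓ Q₂ ⊓ Subgroup.centralizer {a} ≤ Q₁ ⊓ Q₂) := by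
  set D := Q₁ ⊓ Q₂ with hD
  set H := Subgroup.normalizer (D : Set G)
  have hAD : A ≤ Subgroup.normalizer (D : Set G) := Cfsg.Agent.Coprime.le_normalizer_inf_of_le hA₁ hA₂
  have grow : ∀ {Q : Subgroup G}, IsPGroup q Q → D < Q → D < H ⊓ Q := by
    intro Q hQ hlt
    refine lt_of_le_of_ne (le_inf Subgroup.le_normalizer hlt.le) fun heq => ?_
    have hlt' : D.subgroupOf Q < ⊤ := by
      rw [lt_top_iff_ne_top]
      exact fun he => hlt.not_ge (Subgroup.subgroupOf_eq_top.mp he)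
    haveI := hQ.isNilpotent
    obtain ⟨x, hx, hxD⟩ := SetLike.exists_of_lt (Group.normalizerCondition_of_isNilpotent _ hlt')
    apply hxD
    rw [Subgroup.mem_subgroupOf, heq]
    refine ⟨Subgroup.mem_normalizer_iff.mpr fun d => ?_, x.2⟩
    have hx' := Subgroup.mem_normalizer_iff.mp hx
    constructor
    · intro hd
      exact (hx' ⟨d, hlt.le hd⟩).mp hd
    · intro hd
      have hdQ : d ∈ Q := by
        have := Q.mul_mem (Q.mul_mem (Q.inv_mem x.2) (hlt.le hd)) x.2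
        simpa [mul_assoc] using this
      exact (hx' ⟨d, hdQ⟩).mpr hd
  have hAG : IsPGroup p A := fun a => ⟨1, Subtype.ext (by simpa using hA.2 a a.2)⟩
  obtain ⟨m, hm⟩ := hAG.exists_card_eq
  obtain ⟨E₁, hE₁⟩ := Sylow.exists_subgroup_card_pow_prime p (G := A) (n := 2 + 1)
    (hm ▸ pow_dvd_pow p ((Nat.pow_le_pow_iff_right (Fact.out : p.Prime).one_lt).mp (hm ▸ hA3)))
  set E₀ := E₁.map A.subtype with hE₀def
  have hE₀ : E₀ ≤ A := Subgroup.map_subtype_le _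
  have hE₀c : Nat.card E₀ = p ^ (2 + 1) := by rw [hE₀def, Subgroup.card_map_of_injective A.subtype_injective, hE₁]
  have hcomm : ∀ a ∈ E₀, ∀ b ∈ E₀, Commute a b := fun a ha b hb =>
    congrArg Subtype.val (hA.1.1.comm (⟨a, hE₀ ha⟩ : A) ⟨b, hE₀ hb⟩)
  have hH : A ≤ Subgroup.normalizer ((H : Subgroup G) : Set G) := hAD.trans Subgroup.le_normalizer
  obtain ⟨B₁, hB₁E, hB₁, hB₁D⟩ := Cfsg.Agent.OddOrder.exists_plane_not_le (p := p) hqp hE₀c
    (fun a ha => hA.2 a (hE₀ ha)) hcomm (h₁.to_le inf_le_right) (grow h₁ (lt_of_le_of_ne inf_le_left hD₁))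
    (hE₀.trans (Cfsg.Agent.Coprime.le_normalizer_inf_of_le hH hA₁))
  obtain ⟨B₂, hB₂E, hB₂, hB₂D⟩ := Cfsg.Agent.OddOrder.exists_plane_not_le (p := p) hqp hE₀c
    (fun a ha => hA.2 a (hE₀ ha)) hcomm (h₂.to_le inf_le_right) (grow h₂ (lt_of_le_of_ne inf_le_right hD₂))
    (hE₀.trans (Cfsg.Agent.Coprime.le_normalizer_inf_of_le hH hA₂))
  have hne : B₁ ⊓ B₂ ≠ ⊥ := by
    intro h
    have hB : B₁ ≤ Subgroup.normalizer (B₂ : Set G) :=
      (fun a ha => Subgroup.centralizer_le_normalizer _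
        (Subgroup.mem_centralizer_iff.mpr fun b hb => (hcomm a (hB₁E ha) b (hB₂E hb)).eq.symm))
    have e := Cfsg.Agent.Coprime.card_sup_of_le_normalizer hB h
    have h' := Subgroup.card_le_of_le (sup_le hB₁E hB₂E)
    rw [e, hB₁, hB₂, hE₀c, ← pow_add] at h'
    exact absurd h' (not_le.mpr (Nat.pow_lt_pow_right (Fact.out : p.Prime).one_lt (by norm_num)))
  obtain ⟨b, hb, hb1⟩ := (B₁ ⊓ B₂).bot_or_exists_ne_one.resolve_left hne
  exact ⟨b, hE₀ (hB₁E hb.1), hb1,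
    fun h => hB₁D ((inf_le_inf_left _ (Subgroup.centralizer_le (Set.singleton_subset_iff.mpr hb.1))).trans h),
    fun h => hB₂D ((inf_le_inf_left _ (Subgroup.centralizer_le (Set.singleton_subset_iff.mpr hb.2))).trans h)⟩

end Cfsg.Agent.S1282
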