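import Cfsg.Statements.S1284
import Cfsg.Agent.Lib.Signalizer.Family

set_option autoImplicit false
open Cfsg
open scoped Pointwise

namespace Cfsg.Agent.S1284

/-- Let θ be a solvable A-signalizer functor on the finite group G, A elementary abelian of rank at least 3, q a prime dividing some |θ a|, and Q maximal among the q-subgroups in the family of θ. Then (a) for every member H of the family, some c in the intersection of the θ a (a ∈ A non-identity) makes c Q c⁻¹ ∩ H a Sylow q-subgroup of H; and (b) for every nontrivial subgroup B ≤ A, C_Q(B) is a Sylow q-subgroup of the intersection of the θ b over the non-identity b ∈ B. -/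
theorem result {G : Type*} [Group G] [Finite G] (p : ℕ) [Fact p.Prime] (A : Subgroup G) (hA : Cfsg.IsElementaryAbelian p A) (hA3 : p ^ 3 ≤ Nat.card ↥A) (θ : G → Subgroup G) (hθ : Cfsg.IsSolvableSignalizerFunctor p A θ) (q : ℕ) [Fact q.Prime] (hq : ∃ a ∈ A, a ≠ 1 ∧ q ∣ Nat.card ↥(θ a)) (Q : Subgroup G) (hQW : Q ∈ Cfsg.signalizerFamily p A θ) (hQq : IsPGroup q ↥Q) (hQmax : ∀ R ∈ Cfsg.signalizerFamily p A θ, IsPGroup q ↥R → Q ≤ R → R = Q) : (∀ H : Subgroup G, H ∈ Cfsg.signalizerFamily p A θ → ∃ c ∈ Cfsg.signalizerInf A θ, ∃ S : Sylow q ↥H, (S : Subgroup ↥H).map H.subtype = Q.map (MulAut.conj c).toMonoidHom ⊓ H) ∧ (∀ B : Subgroup G, B ≤ A → B ≠ ⊥ → ∃ S : Sylow q ↥(Cfsg.signalizerInf B θ), (S : Subgroup ↥(Cfsg.signalizerInf B θ)).map (Cfsg.signalizerInf B θ).subtype = Q ⊓ Subgroup.centralizer (B : Set G)) := by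
  have hQ : Cfsg.Agent.Signalizer.IsMaxQ p A θ q Q := ⟨hQW, hQq, hQmax⟩
  refine ⟨fun H hH => Cfsg.Agent.Signalizer.exists_sylow_inf hA hA3 hθ hQ hH, fun B hBA hB1 => ?_⟩
  set H := Cfsg.signalizerInf B θ with hHdef
  obtain ⟨b, hb, hb1⟩ := B.bot_or_exists_ne_one.resolve_left hB1
  have hHb : H ≤ θ b := Cfsg.Agent.Signalizer.signalizerInf_le hb hb1
  have hH : H ∈ Cfsg.signalizerFamily p A θ := by
    refine Cfsg.Agent.Signalizer.family_of_le (Cfsg.Agent.Signalizer.theta_mem_family hθ (hBA hb) hb1) hHb ?_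
    refine Cfsg.Agent.Signalizer.le_normalizer_of_conj_mem fun a ha x hx => ?_
    exact Cfsg.Agent.Signalizer.mem_signalizerInf fun c hc hc1 =>
      hθ.1.2.2.1 c (hBA hc) hc1 a ha x (Cfsg.Agent.Signalizer.signalizerInf_le hc hc1 hx)
  have hQH : Q ⊓ H = Q ⊓ Subgroup.centralizer (B : Set G) := by
    refine le_antisymm (inf_le_inf_left _ (Cfsg.Agent.Signalizer.signalizerInf_le_centralizer hθ hBA)) ?_
    refine le_inf inf_le_left fun x hx => Cfsg.Agent.Signalizer.mem_signalizerInf fun c hc hc1 => ?_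
    exact hQW.2.2.2 c (hBA hc) hc1 ⟨hx.1, Subgroup.centralizer_le (Set.singleton_subset_iff.mpr hc) hx.2⟩
  obtain ⟨c, hc, S, hS⟩ := Cfsg.Agent.Signalizer.exists_sylow_inf hA hA3 hθ hQ hH
  have hcH : c ∈ H := Cfsg.Agent.Signalizer.mem_signalizerInf fun a ha ha1 =>
    Cfsg.Agent.Signalizer.signalizerInf_le (hBA ha) ha1 hc
  refine ⟨(⟨c, hcH⟩ : H)⁻¹ • S, ?_⟩
  rw [Sylow.coe_subgroup_smul, Cfsg.Agent.Coprime.map_conj_smul, hS, ← hQH]
  show MulAut.conj c⁻¹ • (MulAut.conj c • Q ⊓ H) = Q ⊓ H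
  conv_lhs => rw [← Cfsg.Agent.Coprime.conj_smul_eq_self_of_mem (Subgroup.le_normalizer hcH : c ∈ Subgroup.normalizer (H : Set G)), ← Subgroup.smul_inf]
  rw [Cfsg.Agent.Coprime.conj_smul_smul, inv_mul_cancel, map_one, one_smul]

end Cfsg.Agent.S1284
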