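import Cfsg.Statements.S1285
import Cfsg.Agent.Lib.Signalizer.Family

set_option autoImplicit false
open Cfsg
open scoped Pointwise

namespace Cfsg.Agent.S1285

/-- Let θ be a solvable A-signalizer functor on the finite group G with A elementary abelian of rank at least 3, and suppose that for some prime q every θ a (a ∈ A non-identity) is a q-group. Then θ is complete. -/
theorem result {G : Type*} [Group G] [Finite G] (p : ℕ) [Fact p.Prime] (A : Subgroup G) (hA : Cfsg.IsElementaryAbelian p A) (hA3 : p ^ 3 ≤ Nat.card ↥A) (θ : G → Subgroup G) (hθ : Cfsg.IsSolvableSignalizerFunctor p A θ) (q : ℕ) [Fact q.Prime] (hq : ∀ a ∈ A, a ≠ 1 → IsPGroup q ↥(θ a)) : Cfsg.IsCompleteSignalizerFunctor p A θ := by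
  have hbotF : (⊥ : Subgroup G) ∈ Cfsg.signalizerFamily p A θ :=
    ⟨inferInstance, by rw [Subgroup.card_bot]; exact (Fact.out : p.Prime).not_dvd_one,
      fun b _ u hu => by simp [Subgroup.mem_bot.mp hu], fun a _ _ => by simp⟩
  obtain ⟨Q, hQ, -⟩ := Cfsg.Agent.Signalizer.exists_maxQ_ge hbotF (IsPGroup.of_bot (p := q))
  refine ⟨hθ.1, Q, hQ.1.2.2.1, hQ.1.2.1, fun a ha ha1 => le_antisymm (hQ.1.2.2.2 a ha ha1) ?_⟩
  obtain ⟨c, hc, S, hS⟩ := Cfsg.Agent.Signalizer.exists_sylow_inf hA hA3 hθ hQ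
    (Cfsg.Agent.Signalizer.theta_mem_family hθ ha ha1)
  have htop : (S : Subgroup (θ a)) = ⊤ := (S.3 ((hq a ha ha1).to_subgroup ⊤) le_top).symm
  rw [htop, ← MonoidHom.range_eq_map, Subgroup.range_subtype] at hS
  have hle : θ a ≤ MulAut.conj c • Q := hS.le.trans inf_le_left
  refine le_inf (fun x hx => ?_) (hθ.1.1 a ha ha1)
  have hca := Cfsg.Agent.Signalizer.signalizerInf_le ha ha1 hc
  have h := Cfsg.Agent.Coprime.mem_conj_smul_iff.mp (hle ((θ a).mul_mem ((θ a).mul_mem hca hx) ((θ a).inv_mem hca)))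
  simpa [mul_assoc] using h

end Cfsg.Agent.S1285
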