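import Cfsg.Statements.S1286
import Mathlib.GroupTheory.Perm.Fin

set_option autoImplicit false
open Cfsg

namespace Cfsg.Agent.S1286

open Equiv

/-- The four-group generated by two commuting involutions, as an explicit set. -/
def four {X : Type*} [Group X] (u v : X) (hu : u * u = 1) (hv : v * v = 1)
    (huv : u * v = v * u) : Subgroup X where
  carrier := {1, u, v, u * v}
  one_mem' := by simp
  mul_mem' := by
    intro a b ha hb
    have e1 : u * (u * v) = v := by rw [← mul_assoc, hu, one_mul]
    have e2 : v * (u * v) = u := by rw [huv, ← mul_assoc, hv, one_mul]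
    have e3 : u * v * u = v := by rw [huv, mul_assoc, hu, mul_one]
    have e4 : u * v * v = u := by rw [mul_assoc, hv, mul_one]
    have e5 : u * v * (u * v) = 1 := by rw [← mul_assoc, e3, hv]
    simp only [Set.mem_insert_iff, Set.mem_singleton_iff] at ha hb ⊢
    rcases ha with rfl | rfl | rfl | rfl <;> rcases hb with rfl | rfl | rfl | rfl <;>
      simp only [one_mul, mul_one, hu, hv, e1, e2, e3, e4, e5, ← huv, true_or, or_true]
  inv_mem' := by
    intro a ha
    have e5 : u * v * (u * v) = 1 := by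
      calc u * v * (u * v) = u * (v * u) * v := by group
        _ = (u * u) * (v * v) := by rw [← huv]; group
        _ = 1 := by rw [hu, hv, one_mul]
    simp only [Set.mem_insert_iff, Set.mem_singleton_iff] at ha ⊢
    rcases ha with rfl | rfl | rfl | rfl
    · simp
    · exact Or.inr (Or.inl (inv_eq_of_mul_eq_one_right hu))
    · exact Or.inr (Or.inr (Or.inl (inv_eq_of_mul_eq_one_right hv)))
    · exact Or.inr (Or.inr (Or.inr (inv_eq_of_mul_eq_one_right e5)))

theorem mem_four {X : Type*} [Group X] {u v : X} {hu : u * u = 1} {hv : v * v = 1}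
    {huv : u * v = v * u} {a : X} :
    a ∈ four u v hu hv huv ↔ a = 1 ∨ a = u ∨ a = v ∨ a = u * v := Iff.rfl

theorem four_comm {X : Type*} [Group X] {u v : X} {hu : u * u = 1} {hv : v * v = 1}
    {huv : u * v = v * u} {a b : X} (ha : a ∈ four u v hu hv huv) (hb : b ∈ four u v hu hv huv) :
    a * b = b * a := by
  have cu : Commute u v := huv
  rcases mem_four.mp ha with rfl | rfl | rfl | rfl <;> rcases mem_four.mp hb with rfl | rfl | rfl | rfl
  all_goals first
    | rfl
    | exact (Commute.one_left _)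
    | exact (Commute.one_right _)
    | exact cu
    | exact cu.symm
    | exact (Commute.refl _).mul_right cu
    | exact cu.symm.mul_right (Commute.refl _)
    | exact (Commute.refl _).mul_left cu.symm
    | exact cu.mul_left (Commute.refl _)

def tu : Perm (Fin 5) := swap 0 1
def tv : Perm (Fin 5) := swap 2 3
def cyc1 : Perm (Fin 5) := swap 2 3 * swap 3 4
def cyc2 : Perm (Fin 5) := swap 0 1 * swap 1 4

/-- The four-subgroup `⟨(0 1), (2 3)⟩` of the symmetric group of degree 5. -/
def fourGroup : Subgroup (Perm (Fin 5)) := four tu tv (by decide) (by decide) (by decide)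

/-- The signalizer functor. -/
def theta (a : Perm (Fin 5)) : Subgroup (Perm (Fin 5)) :=
  if a = tu then Subgroup.zpowers cyc1 else if a = tv then Subgroup.zpowers cyc2 else ⊥

theorem theta_tu : theta tu = Subgroup.zpowers cyc1 := if_pos rfl
theorem theta_tv : theta tv = Subgroup.zpowers cyc2 := by
  rw [theta, if_neg (by decide), if_pos rfl]
theorem theta_tuv : theta (tu * tv) = ⊥ := by
  rw [theta, if_neg (by decide), if_neg (by decide)]

/-- A member of a group of order three commuting with `b` is trivial if the generator does not. -/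
theorem eq_one_of_mem {X : Type*} [Group X] {c b x : X} (hc : c ^ 3 = 1) (hcb : c * b ≠ b * c)
    (hx : x ∈ Subgroup.zpowers c) (hxb : x * b = b * x) : x = 1 := by
  by_contra hx1
  have : Fact (Nat.Prime 3) := ⟨Nat.prime_three⟩
  have ho : orderOf c = 3 := orderOf_eq_prime hc (fun h => hcb (by simp [h]))
  have hcard : Nat.card (Subgroup.zpowers c) = 3 := by rw [Nat.card_zpowers, ho]
  obtain ⟨k, hk⟩ := (zpowers_eq_top_of_prime_card hcard (g := ⟨x, hx⟩)
    (fun h => hx1 (congrArg Subtype.val h)) ▸ Subgroup.mem_top (⟨c, Subgroup.mem_zpowers c⟩ :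
      Subgroup.zpowers c) : (⟨c, Subgroup.mem_zpowers c⟩ : Subgroup.zpowers c) ∈ Subgroup.zpowers ⟨x, hx⟩)
  have h1 : x ^ k = c := congrArg Subtype.val hk
  exact hcb (h1 ▸ (Commute.zpow_left hxb k))

theorem theta_isSolvableSignalizerFunctor :
    Cfsg.IsSolvableSignalizerFunctor 2 fourGroup theta := by
  have : Fact (Nat.Prime 3) := ⟨Nat.prime_three⟩
  have h1 : cyc1 ^ 3 = 1 := by decide
  have h2 : cyc2 ^ 3 = 1 := by decide
  have n1 : cyc1 * tv ≠ tv * cyc1 := by decide
  have n1' : cyc1 * (tu * tv) ≠ tu * tv * cyc1 := by decide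
  have n2 : cyc2 * tu ≠ tu * cyc2 := by decide
  have n2' : cyc2 * (tu * tv) ≠ tu * tv * cyc2 := by decide
  have k1 : cyc1 * tu = tu * cyc1 := by decide
  have k2 : cyc2 * tv = tv * cyc2 := by decide
  have i1 : tv * cyc1 * tv⁻¹ = cyc1⁻¹ := by decide
  have i2 : tu * cyc2 * tu⁻¹ = cyc2⁻¹ := by decide
  have hp : ∀ a, IsPGroup 3 (theta a) := by
    intro a
    rcases eq_or_ne a tu with rfl | hu
    · rw [theta_tu]
      exact IsPGroup.of_card (n := 1) (by
        rw [Nat.card_zpowers, orderOf_eq_prime h1 (fun h => n1 (by simp [h]))]; rfl)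
    rcases eq_or_ne a tv with rfl | hv
    · rw [theta_tv]
      exact IsPGroup.of_card (n := 1) (by
        rw [Nat.card_zpowers, orderOf_eq_prime h2 (fun h => n2 (by simp [h]))]; rfl)
    rw [theta, if_neg hu, if_neg hv]
    exact IsPGroup.of_bot
  refine ⟨⟨?_, ?_, ?_, ?_⟩, ?_⟩
  · intro a ha ha1
    rcases mem_four.mp ha with rfl | rfl | rfl | rfl
    · exact absurd rfl ha1
    · rw [theta_tu, Subgroup.zpowers_le, Subgroup.mem_centralizer_singleton_iff]
      exact k1
    · rw [theta_tv, Subgroup.zpowers_le, Subgroup.mem_centralizer_singleton_iff]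
      exact k2
    · rw [theta_tuv]
      exact bot_le
  · intro a _ _ hd
    obtain ⟨n, hn⟩ := (hp a).exists_card_eq
    rw [hn] at hd
    exact absurd (Nat.prime_two.dvd_of_dvd_pow hd) (by decide)
  · intro a ha ha1 b hb x hx
    have norm : ∀ c : Perm (Fin 5), b * c * b⁻¹ ∈ Subgroup.zpowers c → x ∈ Subgroup.zpowers c →
        b * x * b⁻¹ ∈ Subgroup.zpowers c := by
      intro c hc hxc
      obtain ⟨k, rfl⟩ := hxc
      show b * c ^ k * b⁻¹ ∈ _
      rw [← conj_zpow]
      exact zpow_mem hc k
    rcases mem_four.mp ha with rfl | rfl | rfl | rfl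
    · exact absurd rfl ha1
    · rw [theta_tu] at hx ⊢
      refine norm _ ?_ hx
      rcases mem_four.mp hb with rfl | rfl | rfl | rfl
      · simp
      · rw [← k1, mul_inv_cancel_right]; exact Subgroup.mem_zpowers _
      · rw [i1]; exact inv_mem (Subgroup.mem_zpowers _)
      · rw [show tu * tv * cyc1 * (tu * tv)⁻¹ = tu * (tv * cyc1 * tv⁻¹) * tu⁻¹ by group, i1,
          show tu * cyc1⁻¹ * tu⁻¹ = (tu * cyc1 * tu⁻¹)⁻¹ by group, ← k1, mul_inv_cancel_right]
        exact inv_mem (Subgroup.mem_zpowers _)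
    · rw [theta_tv] at hx ⊢
      refine norm _ ?_ hx
      rcases mem_four.mp hb with rfl | rfl | rfl | rfl
      · simp
      · rw [i2]; exact inv_mem (Subgroup.mem_zpowers _)
      · rw [← k2, mul_inv_cancel_right]; exact Subgroup.mem_zpowers _
      · rw [show tu * tv * cyc2 * (tu * tv)⁻¹ = tu * (tv * cyc2 * tv⁻¹) * tu⁻¹ by group, ← k2,
          mul_inv_cancel_right, i2]
        exact inv_mem (Subgroup.mem_zpowers _)
    · rw [theta_tuv, Subgroup.mem_bot] at hx ⊢
      rw [hx, mul_one, mul_inv_cancel]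
  · intro a ha ha1 b hb hb1 x hx'
    obtain ⟨hx, hxb⟩ := Subgroup.mem_inf.mp hx'
    rw [Subgroup.mem_centralizer_singleton_iff] at hxb
    clear hx'
    rcases mem_four.mp ha with rfl | rfl | rfl | rfl
    · exact absurd rfl ha1
    · rw [theta_tu] at hx
      rcases mem_four.mp hb with rfl | rfl | rfl | rfl
      · exact absurd rfl hb1
      · rw [theta_tu]; exact hx
      · rw [eq_one_of_mem h1 n1 hx hxb]; exact one_mem _
      · rw [eq_one_of_mem h1 n1' hx hxb]; exact one_mem _
    · rw [theta_tv] at hx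
      rcases mem_four.mp hb with rfl | rfl | rfl | rfl
      · exact absurd rfl hb1
      · rw [eq_one_of_mem h2 n2 hx hxb]; exact one_mem _
      · rw [theta_tv]; exact hx
      · rw [eq_one_of_mem h2 n2' hx hxb]; exact one_mem _
    · rw [theta_tuv, Subgroup.mem_bot] at hx
      rw [hx]
      exact one_mem _
  · intro a _ _
    haveI := (hp a).isNilpotent
    infer_instance

/-- There exist a finite group X, an elementary abelian subgroup A of order 4 and a solvable A-signalizer functor θ on X for the prime 2 which is not complete. -/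
theorem result : ∃ (X : Type) (_ : Group X) (_ : Finite X) (A : Subgroup X) (θ : X → Subgroup X), Cfsg.IsElementaryAbelian 2 A ∧ Nat.card ↥A = 4 ∧ Cfsg.IsSolvableSignalizerFunctor 2 A θ ∧ ¬ Cfsg.IsCompleteSignalizerFunctor 2 A θ := by
  refine ⟨Equiv.Perm (Fin 5), inferInstance, inferInstance, fourGroup, theta,
    ⟨⟨⟨fun a b => Subtype.ext (four_comm a.2 b.2)⟩⟩, ?_⟩,
    ?_, theta_isSolvableSignalizerFunctor, ?_⟩
  · intro a ha
    rw [pow_two]
    rcases mem_four.mp ha with rfl | rfl | rfl | rfl <;> decide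
  · have : (fourGroup : Set (Equiv.Perm (Fin 5))) =
        (({1, tu, tv, tu * tv} : Finset (Equiv.Perm (Fin 5))) : Set (Equiv.Perm (Fin 5))) := by
      ext a
      simp only [Finset.coe_insert, Finset.coe_singleton, Set.mem_insert_iff,
        Set.mem_singleton_iff]
      exact mem_four
    show Nat.card (fourGroup : Set (Equiv.Perm (Fin 5))) = 4
    rw [this, Nat.card_coe_set_eq, Set.ncard_coe_finset]
    decide
  · rintro ⟨-, X, -, hX, hθ⟩
    have hc : cyc1 ∈ X := by
      have h := hθ tu (mem_four.mpr (Or.inr (Or.inl rfl))) (by decide)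
      have : cyc1 ∈ theta tu := theta_tu ▸ Subgroup.mem_zpowers _
      rw [← h] at this
      exact this.1
    have hd : cyc2 ∈ X := by
      have h := hθ tv (mem_four.mpr (Or.inr (Or.inr (Or.inl rfl)))) (by decide)
      have : cyc2 ∈ theta tv := theta_tv ▸ Subgroup.mem_zpowers _
      rw [← h] at this
      exact this.1
    have hw : cyc1 * cyc1 * cyc2 * cyc1 * cyc2 ∈ X :=
      mul_mem (mul_mem (mul_mem (mul_mem hc hc) hd) hc) hd
    apply hX
    have ho : orderOf (⟨_, hw⟩ : X) = 2 := by
      refine orderOf_eq_prime (hp := ⟨Nat.prime_two⟩) (Subtype.ext ?_) (fun h => ?_)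
      · show (cyc1 * cyc1 * cyc2 * cyc1 * cyc2) ^ 2 = 1
        decide
      · exact (by decide : cyc1 * cyc1 * cyc2 * cyc1 * cyc2 ≠ 1) (congrArg Subtype.val h)
    rw [← ho]
    exact orderOf_dvd_natCard _

end Cfsg.Agent.S1286
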