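import Cfsg.Statements.S1288
import Cfsg.Agent.Lib.Coprime.Generation
import Cfsg.Agent.Lib.PCore.HallHigman
-- import your own Cfsg.Agent.* helpers here

set_option autoImplicit false
open Cfsg Subgroup
open scoped commutatorElement

namespace Cfsg.Agent.S1288

/-- Let A be a noncyclic elementary abelian p-subgroup of a finite group H normalizing a solvable subgroup K of order prime to p, q a prime dividing |K|, and U ≤ K a subgroup of order prime to q such that ⁅U, C_K(B)⁆ has order prime to q for every subgroup B of index p in A. Then U ≤ O_{q'}(K). -/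
theorem result {H : Type*} [Group H] [Finite H] (p : ℕ) [Fact p.Prime] (A K : Subgroup H) (hA : Cfsg.IsElementaryAbelian p A) (hA2 : p ^ 2 ≤ Nat.card ↥A) (hK : ¬ p ∣ Nat.card ↥K) (hKs : Group.IsSolvable ↥K) (hAK : A ≤ Subgroup.normalizer (K : Set H)) (q : ℕ) [Fact q.Prime] (hqK : q ∣ Nat.card ↥K) (U : Subgroup H) (hU : U ≤ K) (hUq : ¬ q ∣ Nat.card ↥U) (hcomm : ∀ B : Subgroup H, B ≤ A → B.relIndex A = p → ¬ q ∣ Nat.card ↥⁅U, K ⊓ Subgroup.centralizer (B : Set H)⁆) : U ≤ (Cfsg.pPrimeCore q ↥K).map K.subtype := by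
  classical
  have := hA.1
  have hp := (Fact.out : p.Prime)
  have hAp : IsPGroup p ↥A := fun a => ⟨1, Subtype.ext (by simpa using hA.2 _ a.2)⟩
  obtain ⟨n, hn⟩ := IsPGroup.iff_card.1 hAp
  have hcop : (Nat.card A).Coprime (Nat.card K) := by
    rw [hn]
    exact Nat.Coprime.pow_left n (hp.coprime_iff_not_dvd.2 hK)
  have hn2 : 2 ≤ n := (Nat.pow_le_pow_iff_right hp.one_lt).1 (hn ▸ hA2)
  set M := Cfsg.pPrimeCore q ↥K with hM
  set mk := QuotientGroup.mk' M
  set U' := U.subgroupOf K with hU'
  set S : Subgroup K := (centralizer ((U'.map mk : Subgroup (K ⧸ M)) : Set (K ⧸ M))).comap mk with hS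
  set W := Cfsg.pPrimePCore q ↥K
  set V := W.map K.subtype with hV
  have hVA : A ≤ normalizer (V : Set H) :=
    hAK.trans (fun g hg => by
      refine Cfsg.Agent.Coprime.mem_normalizer_of_conj_smul_eq ?_
      let e : K ≃* K :=
        (MulEquiv.subgroupMap (MulAut.conj g) K).trans (MulEquiv.subgroupCongr
          (Cfsg.Agent.Coprime.conj_smul_eq_self_of_mem hg))
      have h := (inferInstance : W.Characteristic).fixed e
      ext x
      rw [Cfsg.Agent.Coprime.mem_conj_smul_iff]
      constructor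
      · rintro ⟨w, hw, hwx⟩
        refine ⟨e w, by rw [← h] at hw; exact hw, ?_⟩
        show g * (w : H) * g⁻¹ = x
        change (w : H) = g⁻¹ * x * g at hwx
        rw [hwx]; group
      · rintro ⟨w, hw, rfl⟩
        refine ⟨e.symm w, ?_, ?_⟩
        · rw [← h]; simpa using hw
        · show (MulAut.conj g).symm (w : H) = g⁻¹ * (w : H) * g
          simp)
  have hVK : V ≤ K := map_subtype_le _
  -- the fixed points of a hyperplane lie in `S`
  have hplane : ∀ B : Subgroup H, B ≤ A → B.relIndex A = p →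
      V ⊓ centralizer (B : Set H) ≤ S.map K.subtype := by
    intro B hBA hB v hv
    obtain ⟨⟨w, hwW, rfl⟩, hvB⟩ := mem_inf.1 hv
    refine ⟨w, ?_, rfl⟩
    show mk w ∈ centralizer _
    rw [mem_centralizer_iff]
    rintro _ ⟨u, hu, rfl⟩
    have huv : (⁅(u : H), (w : H)⁆) ∈ ⁅U, K ⊓ centralizer (B : Set H)⁆ :=
      commutator_mem_commutator hu (mem_inf.2 ⟨w.2, hvB⟩)
    have h1 : (orderOf ⁅u, w⁆).Coprime q := by
      rw [← orderOf_injective K.subtype K.subtype_injective ⁅u, w⁆]
      have : K.subtype ⁅u, w⁆ = ⁅(u : H), (w : H)⁆ := map_commutatorElement _ _ _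
      rw [this]
      exact Nat.Coprime.coprime_dvd_left (Subgroup.orderOf_dvd_natCard _ huv)
        ((Fact.out : q.Prime).coprime_iff_not_dvd.2 (hcomm B hBA hB)).symm
    have h2 : ∃ k : ℕ, orderOf (mk ⁅u, w⁆) = q ^ k := by
      have hmem : mk ⁅u, w⁆ ∈ Cfsg.pCore q (K ⧸ M) := by
        rw [← Cfsg.Agent.PCore.map_pPrimePCore]
        refine mem_map_of_mem _ ?_
        rw [commutatorElement_def]
        exact mul_mem ((inferInstance : W.Normal).conj_mem w hwW u) (inv_mem hwW)
      obtain ⟨k, hk⟩ := IsPGroup.iff_orderOf.1 Cfsg.Agent.PCore.isPGroup_pCore ⟨_, hmem⟩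
      exact ⟨k, by rw [← hk, orderOf_mk]⟩
    obtain ⟨k, hk⟩ := h2
    have h3 : mk ⁅u, w⁆ = 1 := by
      rw [← orderOf_eq_one_iff]
      exact Nat.eq_one_of_dvd_coprimes ((h1.coprime_dvd_left (orderOf_map_dvd mk _)).pow_right k)
        dvd_rfl (hk ▸ dvd_rfl)
    rw [map_commutatorElement, commutatorElement_eq_one_iff_mul_comm] at h3
    exact h3
  -- hence `V ≤ S`
  have hVS : V ≤ S.map K.subtype := by
    refine Cfsg.Agent.Coprime.le_of_forall_cyclic_quotient hVA
      (hcop.coprime_dvd_right (card_dvd_of_le hVK)) fun B hBA ⟨a, ha, hBa⟩ => ?_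
    by_cases haB : a ∈ B
    · have hBeq : B = A := le_antisymm hBA (hBa ▸ sup_le le_rfl (zpowers_le.2 haB))
      obtain ⟨B₁, hB₁⟩ := Sylow.exists_subgroup_card_pow_prime (G := A) p (n := n - 1)
        (hn ▸ pow_dvd_pow p (Nat.sub_le n 1))
      refine le_trans (inf_le_inf_left V (centralizer_le ?_))
        (hplane (B₁.map A.subtype) (map_subtype_le _) ?_)
      · rw [hBeq]
        exact map_subtype_le _
      · rw [relIndex, subgroupOf, comap_map_eq_self_of_injective A.subtype_injective]
        have := B₁.card_mul_index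
        rw [hB₁, hn, show p ^ n = p ^ (n - 1) * p by rw [← pow_succ, Nat.sub_add_cancel (by omega)]] at this
        exact Nat.eq_of_mul_eq_mul_left (pow_pos hp.pos _) this
    · refine hplane B hBA ?_
      have ha1 : a ≠ 1 := fun h => haB (h ▸ B.one_mem)
      have hord : orderOf a = p := orderOf_eq_prime (hA.2 a ha) ha1
      have hdis : B ⊓ zpowers a = ⊥ := by
        have hd : Nat.card (B ⊓ zpowers a : Subgroup H) ∣ p := by
          rw [← hord, ← Nat.card_zpowers]
          exact card_dvd_of_le inf_le_right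
        rcases (Nat.dvd_prime hp).1 hd with h | h
        · exact card_eq_one.1 h
        · exfalso
          refine haB ?_
          have := Subgroup.eq_of_le_of_card_ge (inf_le_right : B ⊓ zpowers a ≤ zpowers a)
            (by rw [Nat.card_zpowers, hord, h])
          exact (this.ge (mem_zpowers a)).1
      have hnorm : zpowers a ≤ normalizer (B : Set H) := by
        refine (zpowers_le.2 (centralizer_le_normalizer _ ?_))
        exact mem_centralizer_iff.2 fun b hb =>
          congrArg Subtype.val (mul_comm' (⟨b, hBA hb⟩ : A) ⟨a, ha⟩)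
      have hc := Cfsg.Agent.Coprime.card_sup_of_le_normalizer hnorm (by rw [inf_comm, hdis])
      rw [sup_comm, hBa, Nat.card_zpowers, hord] at hc
      have hmi := relIndex_mul_relIndex ⊥ B A bot_le hBA
      rw [relIndex_bot_left, relIndex_bot_left, hc, mul_comm p] at hmi
      exact Nat.eq_of_mul_eq_mul_left Nat.card_pos hmi
  -- so `U` centralises `O_q(K/M)`
  have hWS : W ≤ S := fun w hw => by
    obtain ⟨w', hw', he⟩ := hVS (mem_map_of_mem K.subtype hw)
    exact Subtype.ext he ▸ hw'
  have hUC : U'.map mk ≤ centralizer (Cfsg.pCore q (K ⧸ M) : Set (K ⧸ M)) := by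
    rw [← Cfsg.Agent.PCore.map_pPrimePCore, le_centralizer_iff, map_le_iff_le_comap]
    exact hWS
  have hsol : Group.IsSolvable (K ⧸ M) :=
    Group.isSolvable_of_surjective (QuotientGroup.mk'_surjective M)
  have hle := hUC.trans (Cfsg.Agent.PCore.centralizer_pCore_le_of_isSolvable
    Cfsg.Agent.PCore.pPrimeCore_quotient_self_eq_bot)
  have hbot : U'.map mk = ⊥ := by
    refine Cfsg.Agent.PCore.eq_bot_of_isPGroup_of_coprime (Cfsg.Agent.PCore.isPGroup_pCore.to_le hle) ?_
    refine Nat.Coprime.coprime_dvd_left ((card_map_dvd _ _).trans ?_)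
      ((Fact.out : q.Prime).coprime_iff_not_dvd.2 hUq).symm
    rw [hU', Cfsg.Agent.Coprime.card_subgroupOf hU]
  rw [Subgroup.map_eq_bot_iff, QuotientGroup.ker_mk'] at hbot
  rw [← map_subgroupOf_eq_of_le hU]
  exact map_mono hbot

end Cfsg.Agent.S1288
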