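import Cfsg.Statements.S1292
import Cfsg.Agent.Lib.LocalChar.Basic
-- import your own Cfsg.Agent.* helpers here

set_option autoImplicit false
open Cfsg

namespace Cfsg.Agent.S1292

open Cfsg.Agent.Components Subgroup
open scoped commutatorElement

/-- Let G be a finite group such that F*(C_G(t)) = O_2(C_G(t)) for every involution t. Then F*(N_G(T)) = O_2(N_G(T)) for every nontrivial 2-subgroup T of G. -/
theorem result {G : Type*} [Group G] [Finite G] (h : ∀ t : G, orderOf t = 2 → Cfsg.generalizedFittingSubgroup ↥(Subgroup.centralizer ({t} : Set G)) = Cfsg.pCore 2 ↥(Subgroup.centralizer ({t} : Set G))) (T : Subgroup G) (hT : IsPGroup 2 ↥T) (hT1 : T ≠ ⊥) : Cfsg.generalizedFittingSubgroup ↥(Subgroup.normalizer (T : Set G)) = Cfsg.pCore 2 ↥(Subgroup.normalizer (T : Set G)) := by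
  have : Fact (Nat.Prime 2) := ⟨Nat.prime_two⟩
  have : Nontrivial T := (nontrivial_iff_ne_bot T).mpr hT1
  have hZ : Nontrivial (center T) := hT.center_nontrivial
  obtain ⟨z, hz⟩ := exists_prime_orderOf_dvd_card' (G := center T) 2
    ((hT.to_subgroup (center T)).card_eq_or_dvd.resolve_left Finite.one_lt_card.ne')
  have ho : orderOf ((z : T) : G) = 2 := by
    rw [Subgroup.orderOf_coe, Subgroup.orderOf_coe]; convert hz using 2
  refine Cfsg.Agent.LocalChar.genFitting_eq_pCore_iff.mpr
    (Cfsg.Agent.LocalChar.cp_normalizer_of_centralizer_elem hT (z : T).2 (fun x hx => ?_)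
      (Cfsg.Agent.LocalChar.genFitting_eq_pCore_iff.mp (h _ ho)))
  exact congrArg Subtype.val (mem_center_iff.mp z.2 ⟨x, hx⟩)

end Cfsg.Agent.S1292
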