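import Cfsg.Statements.S1295
import Cfsg.Agent.Lib.Signalizer.Equivariant
import Cfsg.Agent.Lib.SSFT.HasSFT
import Cfsg.Agent.S1327

set_option autoImplicit false
open Cfsg

namespace Cfsg.Agent.S1295

/-- Let G be finite with O_{p'}(G) = 1 and p-rank at least 3, whose reduced rank-2 commuting graph for p is connected. Suppose that for every element a of order p with m_p(C_G(a)) ≥ 3 the p-layer of C_G(a) is trivial and O_{p'}(C_G(a)) is solvable. Then F*(C_G(a)) = O_p(C_G(a)) for every such a. -/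
theorem result {G : Type*} [Group G] [Finite G] (p : ℕ) [Fact p.Prime] (hO : Cfsg.pPrimeCore p G = ⊥) (hrk : ¬ Cfsg.PRankLE p 2 G) (hconn : Cfsg.IsRankGraphConnected p 2 G) (hL : ∀ a : G, (orderOf a = p ∧ ¬ Cfsg.PRankLE p 2 ↥(Subgroup.centralizer ({a} : Set G))) → Cfsg.pLayer p ↥(Subgroup.centralizer ({a} : Set G)) = ⊥ ∧ Group.IsSolvable ↥(Cfsg.centralizerPPrimeCore p a)) (a : G) (ha : (orderOf a = p ∧ ¬ Cfsg.PRankLE p 2 ↥(Subgroup.centralizer ({a} : Set G)))) : Cfsg.generalizedFittingSubgroup ↥(Subgroup.centralizer ({a} : Set G)) = Cfsg.pCore p ↥(Subgroup.centralizer ({a} : Set G)) := by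
  classical
  have hp : p.Prime := Fact.out
  have hcon : ∀ x : G, Cfsg.Agent.Signalizer.IsDeep p x →
      Cfsg.IsPConstrained p ↥(Subgroup.centralizer ({x} : Set G)) :=
    fun x hx => (Cfsg.Agent.S1327.result p).mpr (hL x hx).1
  have key : Cfsg.centralizerPPrimeCore p a = ⊥ := by
    refine Cfsg.Agent.Signalizer.eq_bot_of_sft (Cfsg.Agent.SSFT.hasSFT G) hO hconn (θ := fun x => Cfsg.centralizerPPrimeCore p x)
      (fun x hx => ⟨Subgroup.map_subtype_le _, ?_, (hL x hx).2⟩) (fun x g _ => ?_)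
      (fun x y hx hy hxy => Cfsg.Agent.Signalizer.balance_centralizerPPrimeCore
        (orderOf_dvd_iff_pow_eq_one.mp (dvd_of_eq hx.1)) hxy (hcon y hy)) ha
    · unfold Cfsg.centralizerPPrimeCore
      rw [Subgroup.card_map_of_injective (Subgroup.subtype_injective _)]
      exact hp.coprime_iff_not_dvd.mp (Nat.coprime_comm.mp Cfsg.Agent.PCore.coprime_card_pPrimeCore)
    · refine le_antisymm ?_ (Cfsg.Agent.Signalizer.map_centralizerPPrimeCore x g)
      intro y hy
      refine ⟨g⁻¹ * y * g, ?_, by simp [mul_assoc]⟩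
      have := Cfsg.Agent.Signalizer.map_centralizerPPrimeCore (p := p) (g * x * g⁻¹) g⁻¹
        ⟨y, hy, rfl⟩
      simpa [mul_assoc] using this
  refine Cfsg.Agent.Signalizer.fStar_eq_of_constrained (hcon a ha) ?_
  exact (Subgroup.map_eq_bot_iff_of_injective _ (Subgroup.subtype_injective _)).mp key

end Cfsg.Agent.S1295
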