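import Cfsg.Statements.S1297
import Cfsg.Agent.Lib.Components.LocalBalance
-- import your own Cfsg.Agent.* helpers here

set_option autoImplicit false
open Cfsg

namespace Cfsg.Agent.S1297

open Cfsg.Agent.Components Subgroup
open scoped commutatorElement

/-- Let G be finite. Suppose that for every involution x, writing C = C_G(x), every component K of C / O(C) has K / Z(K) locally balanced. Then G is balanced. -/
theorem result {G : Type*} [Group G] [Finite G] (h : ∀ x : G, orderOf x = 2 → ∀ K : Subgroup (↥(Subgroup.centralizer ({x} : Set G)) ⧸ Cfsg.oddCore ↥(Subgroup.centralizer ({x} : Set G))), Cfsg.IsComponent K → Cfsg.IsLocallyBalanced (↥K ⧸ Subgroup.center ↥K)) : Cfsg.IsBalanced G := by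
  have : Fact (Nat.Prime 2) := ⟨Nat.prime_two⟩
  have key : ∀ x y : G, orderOf x = 2 → orderOf y = 2 → x * y = y * x →
      Cfsg.centralizerPPrimeCore 2 x ⊓ centralizer {y} ≤ Cfsg.centralizerPPrimeCore 2 y := by
    intro x y hx hy hxy d hd
    set A := Subgroup.zpowers x
    have hA : Cfsg.IsElementaryAbelian 2 A := by
      refine ⟨inferInstance, ?_⟩
      rintro a ⟨i, rfl⟩
      rw [← zpow_natCast, ← zpow_mul, mul_comm, zpow_mul, zpow_natCast, ← hx, pow_orderOf_eq_one, one_zpow]
    refine mem_centralizerPPrimeCore_of_mem_signalizerDelta (k := 1) le_rfl hA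
      (by rw [Nat.card_zpowers, hx, pow_one]) ?_ ?_ hd.2 ?_
    · rintro a ⟨i, rfl⟩
      exact ((show Commute x y from hxy).zpow_left i).eq
    · rw [Cfsg.Agent.Balance.mem_signalizerDelta_iff]
      intro b hb hb1
      obtain ⟨i, rfl⟩ := hb
      have : x ^ i = x := by
        rcases Int.emod_two_eq_zero_or_one i with he | he
        · exfalso
          apply hb1
          show x ^ i = 1
          rw [← zpow_mod_orderOf, hx]; simp [he]
        · rw [← zpow_mod_orderOf, hx]; simp [he]
      rw [show (fun j : ℤ => x ^ j) i = x from this]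
      exact hd.1
    · exact fun K hK => isLocallyKBalanced_one_of_isLocallyBalanced (h y hy K hK)
  intro x y hx hy hxy
  exact le_antisymm
    (le_inf (key x y hx hy hxy) (inf_le_left.trans (map_subtype_le _)))
    (le_inf (key y x hy hx hxy.symm) (inf_le_left.trans (map_subtype_le _)))

end Cfsg.Agent.S1297
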