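import Cfsg.Statements.S1299
import Cfsg.Agent.Lib.Signalizer.GenFixed
import Cfsg.Agent.Lib.Balance.Components
import Cfsg.Agent.Lib.Coprime.Factorization

set_option autoImplicit false
open Cfsg

namespace Cfsg.Agent.S1299

open Subgroup (normalizer centralizer zpowers)
open scoped Pointwise

private theorem le_normalizer_pieces {G : Type*} [Group G] [Finite G] (p : ℕ) (D : Subgroup G) (H : Subgroup G)
    (hH : ∀ d ∈ D, d ≠ 1 → H ≤ centralizer ({d} : Set G)) : H ≤ normalizer (signalizerDelta p D : Set G) := by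
  intro h hh
  refine Subgroup.mem_normalizer_iff.2 fun x => ?_
  simp only [signalizerDelta, SetLike.mem_coe, Subgroup.mem_iInf]
  exact forall_congr' fun d => Subgroup.mem_normalizer_iff.1
    (Balance.le_normalizer_core' (centralizer ({(d : G)} : Set G)) (hH d d.2.1 d.2.2 hh)) x

private theorem exists_subgroup_le_le {G : Type*} [Group G] [Finite G] {p k : ℕ} [Fact p.Prime] {A E E' : Subgroup G}
    (hA : Cfsg.IsElementaryAbelian p A) (hAk : p ^ (k + 2) ≤ Nat.card A) (hE : E ≤ A)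
    (hc : ∃ a ∈ A, E ⊔ zpowers a = A) (hE' : E' ≤ A) (hc' : ∃ a ∈ A, E' ⊔ zpowers a = A) :
    ∃ D : Subgroup G, (D ≤ A ∧ Nat.card D = p ^ k) ∧ D ≤ E ∧ D ≤ E' := by
  have hp := (Fact.out : p.Prime)
  haveI := hA.1
  have hn : ∀ {S T : Subgroup G}, S ≤ A → T ≤ A → S ≤ normalizer (T : Set G) := fun hS hT x hx => by
    refine Subgroup.centralizer_le_normalizer _ (Subgroup.mem_centralizer_iff.2 fun y hy => ?_)
    exact congrArg (fun z : A => (z : G)) (mul_comm' (⟨y, hT hy⟩ : A) ⟨x, hS hx⟩)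
  have hmul : ∀ {S T : Subgroup G}, S ≤ A → T ≤ A →
      Nat.card (S ⊔ T : Subgroup G) * Nat.card (S ⊓ T : Subgroup G) = Nat.card S * Nat.card T :=
    fun {S T} hS hT => by
    have h := Coprime.ncard_mul_mul_card_inf S T
    rw [← Subgroup.coe_mul_of_left_le_normalizer_right S T (hn hS hT)] at h
    exact h
  have hle : ∀ F : Subgroup G, F ≤ A → (∃ a ∈ A, F ⊔ zpowers a = A) → Nat.card A ≤ Nat.card F * p := by
    rintro F hF ⟨a, ha, he⟩
    have h1 := hmul hF (Subgroup.zpowers_le.2 ha)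
    have h2 : Nat.card (zpowers a) ≤ p := by
      rw [Nat.card_zpowers]; exact orderOf_le_of_pow_eq_one hp.pos (hA.2 a ha)
    have h3 : 1 ≤ Nat.card (F ⊓ zpowers a : Subgroup G) := Nat.card_pos
    rw [he] at h1
    have h4 : Nat.card A * 1 ≤ Nat.card F * p := (Nat.mul_le_mul_left _ h3).trans
      (h1.le.trans (Nat.mul_le_mul_left _ h2))
    simpa using h4
  have h1 := hmul hE hE'
  have h2 : Nat.card (E ⊔ E' : Subgroup G) ≤ Nat.card A := Subgroup.card_le_of_le (sup_le hE hE')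
  have h3 : p ^ k ≤ Nat.card (E ⊓ E' : Subgroup G) := by
    by_contra hlt
    push Not at hlt
    have := hle E hE hc
    have := hle E' hE' hc'
    have hA0 : 0 < Nat.card A := Nat.card_pos
    have h4 : Nat.card A * Nat.card A ≤ (Nat.card E * Nat.card E') * (p * p) := by nlinarith
    have h5 : Nat.card A * Nat.card A ≤ Nat.card A * (Nat.card (E ⊓ E' : Subgroup G) * (p * p)) := by
      calc Nat.card A * Nat.card A ≤ (Nat.card E * Nat.card E') * (p * p) := h4
        _ ≤ (Nat.card A * Nat.card (E ⊓ E' : Subgroup G)) * (p * p) := by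
            refine Nat.mul_le_mul_right _ ?_
            rw [← h1]
            exact Nat.mul_le_mul_right _ h2
        _ = _ := by ring
    have h6 := Nat.le_of_mul_le_mul_left h5 hA0
    have h7 : Nat.card (E ⊓ E' : Subgroup G) * (p * p) < p ^ k * (p * p) :=
      Nat.mul_lt_mul_of_pos_right hlt (Nat.mul_pos hp.pos hp.pos)
    have h8 : p ^ k * (p * p) = p ^ (k + 2) := by rw [pow_add]; ring
    omega
  have hP : IsPGroup p (E ⊓ E' : Subgroup G) :=
    fun x => ⟨1, Subtype.ext (by simpa using hA.2 _ (hE x.2.1))⟩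
  obtain ⟨m, hm⟩ := IsPGroup.iff_card.1 hP
  have hkm : k ≤ m := (Nat.pow_le_pow_iff_right hp.one_lt).1 (hm ▸ h3)
  obtain ⟨K, hK⟩ := Sylow.exists_subgroup_card_pow_prime p (G := (E ⊓ E' : Subgroup G)) (n := k)
    (hm ▸ pow_dvd_pow p hkm)
  refine ⟨K.map (E ⊓ E' : Subgroup G).subtype, ⟨?_, ?_⟩, ?_, ?_⟩
  · exact (Subgroup.map_subtype_le K).trans (inf_le_left.trans hE)
  · rw [Subgroup.card_map_of_injective (E ⊓ E' : Subgroup G).subtype_injective, hK]
  · exact (Subgroup.map_subtype_le K).trans inf_le_left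
  · exact (Subgroup.map_subtype_le K).trans inf_le_right

/-- Let G be finite and k-balanced for the prime p (k ≥ 1), A an elementary abelian p-subgroup of order at least p^(k+2) such that O_{p'}(C_G(a)) is solvable for every non-identity a ∈ A. For a ∈ A put θ a = the subgroup generated by the Δ_G(D) ∩ C_G(a) over the subgroups D ≤ A of order p^k. Then θ is an A-signalizer functor. -/
theorem result {G : Type*} [Group G] [Finite G] (p k : ℕ) [Fact p.Prime] (hk : 1 ≤ k) (hbal : Cfsg.IsKBalanced p k G) (A : Subgroup G) (hA : Cfsg.IsElementaryAbelian p A) (hAk : p ^ (k + 2) ≤ Nat.card ↥A) (hsolv : ∀ a ∈ A, a ≠ 1 → Group.IsSolvable ↥(Cfsg.centralizerPPrimeCore p a)) : Cfsg.IsSignalizerFunctor p A (fun a => ⨆ D : {D : Subgroup G // D ≤ A ∧ Nat.card ↥D = p ^ k}, Cfsg.signalizerDelta p (D : Subgroup G) ⊓ Subgroup.centralizer {a}) := by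
  have hp := (Fact.out : p.Prime)
  haveI := hA.1
  have hcomm : ∀ x ∈ A, ∀ y ∈ A, x * y = y * x := fun x hx y hy =>
    congrArg (fun z : A => (z : G)) (mul_comm' (⟨x, hx⟩ : A) ⟨y, hy⟩)
  have hcent : ∀ x ∈ A, A ≤ centralizer ({x} : Set G) := fun x hx y hy =>
    Subgroup.mem_centralizer_singleton_iff.2 (hcomm y hy x hx)
  have hord : ∀ x ∈ A, x ≠ 1 → orderOf x = p := fun x hx hx1 => orderOf_eq_prime (hA.2 x hx) hx1
  have hel : ∀ D ≤ A, Cfsg.IsElementaryAbelian p D := fun D hD =>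
    ⟨⟨⟨fun x y => Subtype.ext (hcomm x (hD x.2) y (hD y.2))⟩⟩, fun x hx => hA.2 x (hD hx)⟩
  have hbal' : ∀ D : Subgroup G, D ≤ A → Nat.card D = p ^ k → ∀ b ∈ A, b ≠ 1 →
      signalizerDelta p D ⊓ centralizer {b} ≤ centralizerPPrimeCore p b := fun D hD hDc b hb hb1 =>
    hbal D (hel D hD) hDc b (hord b hb hb1) fun d hd => hcomm d (hD hd) b hb
  set θ : G → Subgroup G := fun a => ⨆ D : {D : Subgroup G // D ≤ A ∧ Nat.card ↥D = p ^ k},
    Cfsg.signalizerDelta p (D : Subgroup G) ⊓ Subgroup.centralizer {a} with hθ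
  have hle : ∀ a ∈ A, a ≠ 1 → θ a ≤ centralizerPPrimeCore p a := fun a ha ha1 =>
    iSup_le fun D => hbal' D D.2.1 D.2.2 a ha ha1
  have hndvd : ∀ a ∈ A, a ≠ 1 → ¬ p ∣ Nat.card (θ a) := fun a ha ha1 h =>
    hp.coprime_iff_not_dvd.1 (Balance.card_core'_coprime (centralizer ({a} : Set G))).symm
      (h.trans (Subgroup.card_dvd_of_le (hle a ha ha1)))
  have hpiece : ∀ a ∈ A, ∀ D ≤ A, A ≤ normalizer ((signalizerDelta p D ⊓ centralizer {a} : Subgroup G) : Set G) :=
    fun a ha D hD => Coprime.le_normalizer_inf_of_le (le_normalizer_pieces p D A fun d hd _ => hcent d (hD hd))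
      ((hcent a ha).trans Subgroup.le_normalizer)
  have hinv : ∀ a ∈ A, A ≤ normalizer (θ a : Set G) := fun a ha b hb => by
    rw [Subgroup.mem_normalizer_iff_map_conj_eq, hθ, Subgroup.map_iSup]
    exact iSup_congr fun D => Subgroup.mem_normalizer_iff_map_conj_eq.mp (hpiece a ha D D.2.1 hb)
  refine ⟨fun a _ _ => iSup_le fun _ => inf_le_right, hndvd,
    fun a ha _ b hb x hx => (Subgroup.mem_normalizer_iff.1 (hinv a ha hb) x).1 hx, fun a ha ha1 b hb hb1 => ?_⟩
  change θ a ⊓ centralizer {b} ≤ θ b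
  have hXC : θ a ≤ centralizer {a} := iSup_le fun _ => inf_le_right
  have hcop : (Nat.card A).Coprime (Nat.card (θ a)) := by
    have hPA : IsPGroup p A := fun x => ⟨1, Subtype.ext (by simpa using hA.2 _ x.2)⟩
    obtain ⟨m, hm⟩ := IsPGroup.iff_card.1 hPA
    rw [hm]
    exact Nat.Coprime.pow_left m (hp.coprime_iff_not_dvd.2 (hndvd a ha ha1))
  have hs : Group.IsSolvable (θ a) := Coprime.isSolvable_of_le (hle a ha ha1) (hsolv a ha ha1)
  let P : Signalizer.GenFixed.Pieces A (θ a) :=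
    { 𝓓 := {D | D ≤ A ∧ Nat.card D = p ^ k}
      T := fun D => signalizerDelta p D ⊓ centralizer {a}
      d_le := fun D hD => hD.1
      le_X := fun D hD => le_iSup (fun D : {D : Subgroup G // D ≤ A ∧ Nat.card ↥D = p ^ k} =>
        Cfsg.signalizerDelta p (D : Subgroup G) ⊓ Subgroup.centralizer {a}) ⟨D, hD⟩
      inv := fun D hD => hpiece a ha D hD.1
      norm := fun D hD => Coprime.le_normalizer_inf_of_le
        (le_normalizer_pieces p D _ fun d hd _ => inf_le_right.trans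
          (Subgroup.centralizer_le (Set.singleton_subset_iff.2 hd)))
        ((inf_le_left.trans hXC).trans Subgroup.le_normalizer)
      bal := by
        intro D hD D' hD' E _ _ hDE x hx
        obtain ⟨hx1, hxE⟩ := Subgroup.mem_inf.1 hx
        obtain ⟨hxD, hxa⟩ := Subgroup.mem_inf.1 hx1
        refine Subgroup.mem_inf.2 ⟨?_, hxa⟩
        rw [signalizerDelta, Subgroup.mem_iInf]
        intro d
        exact hbal' D hD.1 hD.2 d (hD'.1 d.2.1) d.2.2 (Subgroup.mem_inf.2
          ⟨hxD, Subgroup.centralizer_le (Set.singleton_subset_iff.2 (hDE d.2.1)) hxE⟩)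
      meet := fun E E' hE hc hE' hc' => exists_subgroup_le_le hA hAk hE hc hE' hc'
      gen := le_of_eq (by rfl) }
  have hYA : A ≤ normalizer ((θ a ⊓ centralizer {b} : Subgroup G) : Set G) :=
    Coprime.le_normalizer_inf_centralizer_singleton (hinv a ha) hb
  refine Coprime.le_of_forall_cyclic_quotient hYA
    (hcop.coprime_dvd_right (Subgroup.card_dvd_of_le inf_le_left)) ?_
  rintro E hE ⟨c, hc, hEc⟩
  intro x hx
  obtain ⟨hx1, hxE⟩ := Subgroup.mem_inf.1 hx
  obtain ⟨hxa, hxb⟩ := Subgroup.mem_inf.1 hx1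
  set E' := E ⊔ zpowers b with hE'def
  have hE'A : E' ≤ A := sup_le hE (Subgroup.zpowers_le.2 hb)
  have hE'c : ∃ a ∈ A, E' ⊔ zpowers a = A :=
    ⟨c, hc, le_antisymm (sup_le hE'A (Subgroup.zpowers_le.2 hc))
      (hEc.ge.trans (sup_le_sup_right le_sup_left _))⟩
  obtain ⟨D, hD, hDE, -⟩ := exists_subgroup_le_le hA hAk hE'A hE'c hE'A hE'c
  have hxE' : x ∈ centralizer (E' : Set G) := by
    have : E' ≤ centralizer ({x} : Set G) := sup_le
      (fun e he => Subgroup.mem_centralizer_singleton_iff.2 (Subgroup.mem_centralizer_iff.1 hxE e he))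
      (Subgroup.zpowers_le.2 (Subgroup.mem_centralizer_singleton_iff.2
        (Subgroup.mem_centralizer_singleton_iff.1 hxb).symm))
    exact Subgroup.mem_centralizer_iff.2 fun e he => Subgroup.mem_centralizer_singleton_iff.1 (this he)
  have hxT := P.inf_centralizer_le (hinv a ha) hcop hs (D := D) hD hE'A hE'c hDE (Subgroup.mem_inf.2 ⟨hxa, hxE'⟩)
  exact le_iSup (fun D : {D : Subgroup G // D ≤ A ∧ Nat.card ↥D = p ^ k} =>
      Cfsg.signalizerDelta p (D : Subgroup G) ⊓ Subgroup.centralizer {b}) ⟨D, hD⟩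
    (Subgroup.mem_inf.2 ⟨(Subgroup.mem_inf.1 hxT).1, hxb⟩)

end Cfsg.Agent.S1299
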