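import Cfsg.Statements.S1300


set_option autoImplicit false
open Cfsg

namespace Cfsg.Agent.S1300

/-- For a finite group G, balance in the sense of commuting involutions is the same as 1-balance for the prime 2. -/
theorem result {G : Type*} [Group G] [Finite G] : Cfsg.IsBalanced G ↔ Cfsg.IsKBalanced 2 1 G := by
  have key : ∀ (A : Subgroup G) (a : G), a ∈ A → orderOf a = 2 → Nat.card A = 2 →
      Cfsg.signalizerDelta 2 A = Cfsg.centralizerPPrimeCore 2 a := by
    intro A a ha hao hA
    have hmem : ∀ x ∈ A, x ≠ 1 → x = a := by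
      intro x hx hx1
      classical
      have : Fintype A := Fintype.ofFinite A
      have ha1 : a ≠ 1 := fun h => by simp [h] at hao
      have h3 : ({1, ⟨a, ha⟩} : Finset A) = Finset.univ := by
        apply Finset.eq_univ_of_card
        rw [Finset.card_pair (fun h => ha1 (congrArg Subtype.val h).symm),
          ← Nat.card_eq_fintype_card, hA]
      have h4 := h3 ▸ Finset.mem_univ (⟨x, hx⟩ : A)
      rcases Finset.mem_insert.mp h4 with h5 | h5
      · exact absurd (congrArg Subtype.val h5) hx1
      · exact congrArg Subtype.val (Finset.mem_singleton.mp h5)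
    refine le_antisymm (iInf_le_of_le ⟨a, ha, fun h => by simp [h] at hao⟩ le_rfl) ?_
    exact le_iInf fun x => by rw [hmem _ x.2.1 x.2.2]
  have hzp : ∀ x : G, orderOf x = 2 → Nat.card (Subgroup.zpowers x) = 2 := fun x hx => by
    rw [Nat.card_zpowers, hx]
  constructor
  · intro h A hA hAc b hb hcomm
    have : Nontrivial A := Finite.one_lt_card_iff_nontrivial.mp (by omega)
    obtain ⟨a, ha1⟩ := exists_ne (1 : A)
    have hao : orderOf (a : G) = 2 := by
      refine orderOf_eq_prime (hA.2 _ a.2) ?_
      simpa using ha1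
    rw [key A a a.2 hao (by simpa using hAc), h (a : G) b hao hb (hcomm a a.2)]
    exact inf_le_left
  · intro h x y hx hy hxy
    have main : ∀ x y : G, orderOf x = 2 → orderOf y = 2 → x * y = y * x →
        Cfsg.centralizerPPrimeCore 2 x ⊓ Subgroup.centralizer {y} ≤
          Cfsg.centralizerPPrimeCore 2 y := by
      intro x y hx hy hxy
      rw [← key _ x (Subgroup.mem_zpowers x) hx (hzp x hx)]
      refine h _ ⟨inferInstance, fun a ha => ?_⟩ (by rw [hzp x hx]; rfl) y hy ?_
      · obtain ⟨k, rfl⟩ := ha
        show (x ^ k) ^ 2 = 1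
        rw [← zpow_natCast, ← zpow_mul, mul_comm, zpow_mul]
        simp [show x ^ 2 = 1 from hx ▸ pow_orderOf_eq_one x]
      · intro a ha
        obtain ⟨k, rfl⟩ := ha
        exact (Commute.zpow_left hxy k)
    have hle : ∀ x : G, Cfsg.centralizerPPrimeCore 2 x ≤ Subgroup.centralizer {x} :=
      fun x => Subgroup.map_subtype_le _
    exact le_antisymm
      (le_inf (main x y hx hy hxy) (inf_le_left.trans (hle x)))
      (le_inf (main y x hy hx hxy.symm) (inf_le_left.trans (hle y)))

end Cfsg.Agent.S1300
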