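import Cfsg.Statements.S1302
import Cfsg.Agent.Lib.Baer.FixedPoints
import Cfsg.Agent.Lib.PCore.HallHigman
import Cfsg.Agent.Lib.PGroup.Critical
import Cfsg.Agent.Lib.PGroup.Class2
import Cfsg.Agent.Lib.Coprime.OmegaOne

set_option autoImplicit false
open Cfsg

namespace Cfsg.Agent.S1302

open Subgroup
open scoped commutatorElement

variable {G : Type*} [Group G] [Finite G] {p : ℕ} [Fact p.Prime]

/-- the case `O_{p'}(G) = 1` -/
theorem reduced (hp : p ≠ 2) (hC : centralizer (pCore p G : Set G) ≤ pCore p G)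
    (A Q : Subgroup G) (hAc : IsMulCommutative A) (hAp : IsPGroup p A)
    (hΩ : ∀ x ∈ centralizer (A : Set G), x ^ p = 1 → x ∈ A)
    (hQ : (Nat.card Q).Coprime p) (hAQ : A ≤ normalizer (Q : Set G)) : Q = ⊥ := by
  set P := pCore p G with hPdef
  have hP : IsPGroup p P := PCore.isPGroup_pCore
  obtain ⟨C, hCchar, hfr, -, hCC⟩ := PGroup.exists_critical hP
  have hCp : IsPGroup p C := hP.to_subgroup C
  have hΦc : frattini ↥C ≤ center ↥C := by
    intro x hx
    rw [mem_center_iff]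
    intro y
    exact Subtype.ext (mem_centralizer_iff.mp (hfr (mem_map_of_mem C.subtype hx)) y y.2)
  have hcl : commutator ↥C ≤ center ↥C := (PGroup.commutator_le_frattini hCp).trans hΦc
  have hpow : ∀ x : C, x ^ p ∈ center ↥C := fun x => hΦc (PGroup.pow_mem_frattini hCp x)
  have hc1 : ∀ a b : C, ⁅a, b⁆ ^ p = 1 := PGroup.commutator_pow_eq_one hcl hpow
  set R₀ : Subgroup ↥C := (PGroup.powHom (Fact.out : p.Prime) hp hcl hc1).ker with hR₀
  set C' : Subgroup G := C.map P.subtype with hC'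
  set R : Subgroup G := (R₀.map C.subtype).map P.subtype with hR
  have hmemR : ∀ x : G, x ∈ R ↔ x ∈ C' ∧ x ^ p = 1 := by
    intro x
    constructor
    · rintro ⟨y, ⟨z, hz, rfl⟩, rfl⟩
      refine ⟨mem_map_of_mem _ z.2, ?_⟩
      have hz' : z ^ p = 1 := hz
      exact congrArg (fun w : ↥C => ((w : ↥P) : G)) hz'
    · rintro ⟨⟨y, hy, rfl⟩, hx⟩
      exact ⟨y, ⟨⟨y, hy⟩, (Subtype.ext (Subtype.ext hx) : (⟨y, hy⟩ : ↥C) ^ p = 1), rfl⟩, rfl⟩
  have hC'n : C'.Normal := by
    rw [← normalizer_eq_top_iff, eq_top_iff, ← normalizer_eq_top (H := P)]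
    exact Components.normalizer_le_normalizer_map_of_characteristic P C
  have hRn : R.Normal := ⟨fun x hx g => by
    obtain ⟨h1, h2⟩ := (hmemR x).mp hx
    exact (hmemR _).mpr ⟨hC'n.conj_mem x h1 g, by rw [conj_pow, h2, mul_one, mul_inv_cancel]⟩⟩
  have hcl2 : Baer.ClassTwo p ↥R := by
    refine ⟨(Fact.out : p.Prime).odd_of_ne_two hp, fun a b c => ?_, fun a => ?_⟩
    · obtain ⟨⟨a', ha', hae⟩, -⟩ := (hmemR a).mp a.2
      obtain ⟨⟨b', hb', hbe⟩, -⟩ := (hmemR b).mp b.2
      obtain ⟨⟨c', hc', hce⟩, -⟩ := (hmemR c).mp c.2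
      have := mem_center_iff.mp (PGroup.mem_center_of_class_two hcl ⟨a', ha'⟩ ⟨b', hb'⟩) ⟨c', hc'⟩
      refine Subtype.ext ?_
      have h' := congrArg (fun w : ↥C => ((w : ↥P) : G)) this
      simp only [coe_subtype] at hae hbe hce
      simp only [commutatorElement_def, Subgroup.coe_mul, Subgroup.coe_inv, ← hae, ← hbe, ← hce] at h' ⊢
      exact h'.symm
    · exact Subtype.ext ((hmemR a).mp a.2).2
  have hQR : ∀ q ∈ Q, ∀ r : ↥R, MulAut.conjNormal q r = r := by
    refine Baer.fixed_of_classTwo hcl2 MulAut.conjNormal A Q hAp hQ hAQ ?_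
    intro r hr q hq
    have hrA : (r : G) ∈ A := by
      refine hΩ r (mem_centralizer_iff.mpr fun a ha => ?_) ((hmemR r).mp r.2).2
      exact mul_inv_eq_iff_eq_mul.mp (congrArg Subtype.val (hr a ha))
    have h1 : q * r * q⁻¹ * (r : G)⁻¹ ∈ R ⊓ Q := by
      refine ⟨R.mul_mem (hRn.conj_mem r r.2 q) (R.inv_mem r.2), ?_⟩
      rw [SetLike.mem_coe, mul_assoc q (r : G), mul_assoc q]
      exact mul_mem hq (by
        simpa [mul_assoc] using (mem_normalizer_iff.mp (hAQ hrA) q⁻¹).mp (Q.inv_mem hq))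
    rw [(PCore.disjoint_of_isPGroup_of_coprime ((hP.to_le (le_trans (fun x hx => ((hmemR x).mp hx).1)
      (map_subtype_le C) : R ≤ P))) hQ).eq_bot, mem_bot, mul_inv_eq_one] at h1
    exact Subtype.ext h1
  have hQC : Q ≤ centralizer (C' : Set G) := by
    refine Coprime.le_centralizer_of_fix_pow_eq_one hp C' Q (hP.to_le (map_subtype_le C))
      (normalizer_eq_top (H := C') ▸ le_top) hQ fun x hx hxp q hq => ?_
    rw [mem_centralizer_singleton_iff]
    exact mul_inv_eq_iff_eq_mul.mp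
      (congrArg Subtype.val (hQR q hq ⟨x, (hmemR x).mpr ⟨hx, hxp⟩⟩))
  refine eq_bot_iff.mpr fun q hq => ?_
  have hord : (orderOf q).Coprime p := hQ.coprime_dvd_left (Subgroup.orderOf_mk (G := G) q hq ▸
    orderOf_dvd_natCard (⟨q, hq⟩ : ↥Q))
  have : C.Normal := inferInstance
  have hφ := PGroup.aut_eq_one_of_centralizer_le hP C hCC (MulAut.conjNormal q)
    (hord.coprime_dvd_left (orderOf_map_dvd _ q)) fun h hh => Subtype.ext (by
      rw [MulAut.conjNormal_apply]
      exact mul_inv_eq_iff_eq_mul.mpr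
        (mem_centralizer_iff.mp (hQC hq) h (mem_map_of_mem _ hh)).symm)
  have hqP : q ∈ P := hC (mem_centralizer_iff.mpr fun x hx => by
    have := congrArg Subtype.val (DFunLike.congr_fun hφ ⟨x, hx⟩)
    rw [MulAut.conjNormal_apply] at this
    exact (mul_inv_eq_iff_eq_mul.mp this).symm)
  exact (PCore.disjoint_of_isPGroup_of_coprime hP hQ).le_bot ⟨hqP, hq⟩

/-- Let X be a finite p-constrained group, p an odd prime, and A an abelian p-subgroup of X containing every element of order p of C_X(A). Then every subgroup of X of order prime to p that is normalized by A lies in O_{p'}(X). -/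
theorem result {X : Type*} [Group X] [Finite X] (p : ℕ) [Fact p.Prime] (hp : p ≠ 2) (hX : Cfsg.IsPConstrained p X) (A : Subgroup X) (hA : IsMulCommutative ↥A) (hAp : IsPGroup p ↥A) (hΩ : ∀ x ∈ Subgroup.centralizer (A : Set X), orderOf x = p → x ∈ A) (Q : Subgroup X) (hQ : ¬ p ∣ Nat.card ↥Q) (hAQ : A ≤ Subgroup.normalizer (Q : Set X)) : Q ≤ Cfsg.pPrimeCore p X := by
  set N := Cfsg.pPrimeCore p X
  set π := QuotientGroup.mk' N with hπ
  have hQc : (Nat.card ↥Q).Coprime p := ((Fact.out : p.Prime).coprime_iff_not_dvd.mpr hQ).symm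
  have key : Q.map π = ⊥ := by
    refine reduced hp (PCore.isPConstrained_iff.mp hX) (A.map π) (Q.map π)
      (Subgroup.map_isMulCommutative A π) (hAp.map π) ?_
      (hQc.coprime_dvd_left (Subgroup.card_map_dvd _ _))
      ((Subgroup.map_mono hAQ).trans (Q.le_normalizer_map π))
    intro y hy hyp
    rw [← PCore.map_centralizer_mk' N PCore.coprime_card_pPrimeCore hAp] at hy
    obtain ⟨x, hx, rfl⟩ := hy
    have hxN : x ^ p ∈ N := by
      rwa [← map_pow, QuotientGroup.mk'_apply, QuotientGroup.eq_one_iff] at hyp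
    set m := Nat.card ↥N
    have hxm : (x ^ m) ^ p = 1 := by
      rw [← pow_mul, mul_comm, pow_mul]
      exact congrArg Subtype.val (pow_card_eq_one' (x := (⟨_, hxN⟩ : ↥N)))
    have hmem : x ^ m ∈ A := by
      rcases (Nat.dvd_prime (Fact.out : p.Prime)).mp (orderOf_dvd_of_pow_eq_one hxm) with h | h
      · exact (orderOf_eq_one_iff.mp h).symm ▸ one_mem A
      · exact hΩ _ (pow_mem hx m) h
    obtain ⟨a, b, hab⟩ := (Int.isCoprime_iff_nat_coprime.mpr (by
      simpa using PCore.coprime_card_pPrimeCore (p := p) (G := X)) : IsCoprime (m : ℤ) (p : ℤ))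
    have hp1 : (π x) ^ (p : ℤ) = 1 := by rw [zpow_natCast]; exact hyp
    have heq : π x = ((π x) ^ (m : ℤ)) ^ a := by
      rw [← zpow_mul]
      conv_lhs => rw [← zpow_one (π x), ← hab, zpow_add, mul_comm b, zpow_mul _ (p : ℤ), hp1,
        one_zpow, mul_one, mul_comm a]
    rw [heq, zpow_natCast, ← map_pow]
    exact zpow_mem (Subgroup.mem_map_of_mem π hmem) a
  rwa [Subgroup.map_eq_bot_iff, QuotientGroup.ker_mk'] at key

end Cfsg.Agent.S1302
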