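import Cfsg.Statements.S1303
import Cfsg.Agent.Lib.PCore.Constrained

set_option autoImplicit false
open Cfsg

namespace Cfsg.Agent.S1303

local notation "X" => Matrix.SpecialLinearGroup (Fin 2) (ZMod 3)

/-- the quaternion subgroup -/
def Q8 : Subgroup X where
  carrier := {g | g * g * (g * g) = 1}
  one_mem' := by decide
  mul_mem' := by
    intro a b
    revert a b
    decide
  inv_mem' := by
    intro a
    revert a
    decide

instance : DecidablePred (· ∈ Q8) := fun g => inferInstanceAs (Decidable (g * g * (g * g) = 1))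

theorem Q8_normal : Q8.Normal := ⟨fun n hn g => by revert g; revert hn; revert n; decide⟩

theorem isPGroup_Q8 : IsPGroup 2 ↥Q8 := fun g => ⟨2, Subtype.ext (by
  rw [Subgroup.coe_pow, Subgroup.coe_one, show 2 ^ 2 = 2 + 2 by rfl, pow_add, pow_two]
  exact g.2)⟩

theorem centralizer_Q8_le : Subgroup.centralizer (Q8 : Set X) ≤ Q8 := by
  intro g hg
  have h : ∀ g : X, (∀ q : X, q ∈ Q8 → q * g = g * q) → g ∈ Q8 := by decide
  exact h g fun q hq => Subgroup.mem_centralizer_iff.mp hg q hq

/-- The group X = SL(2, 3): it is 2-constrained, O_{2'}(X) = 1, its centre A = Z(X) contains every involution of X = C_X(A), and X has a subgroup of order 3 (normalized by A) not contained in O_{2'}(X). -/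
theorem result : Cfsg.IsPConstrained 2 (Matrix.SpecialLinearGroup (Fin 2) (ZMod 3)) ∧ Cfsg.pPrimeCore 2 (Matrix.SpecialLinearGroup (Fin 2) (ZMod 3)) = ⊥ ∧ (∀ t : Matrix.SpecialLinearGroup (Fin 2) (ZMod 3), orderOf t = 2 → t ∈ Subgroup.center (Matrix.SpecialLinearGroup (Fin 2) (ZMod 3))) ∧ ∃ Q : Subgroup (Matrix.SpecialLinearGroup (Fin 2) (ZMod 3)), Nat.card ↥Q = 3 ∧ ¬ (Q ≤ Cfsg.pPrimeCore 2 (Matrix.SpecialLinearGroup (Fin 2) (ZMod 3))) := by
  have hle : Q8 ≤ Cfsg.pCore 2 X := PCore.le_pCore (hN := Q8_normal) isPGroup_Q8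
  have hcp : Subgroup.centralizer (Cfsg.pCore 2 X : Set X) ≤ Cfsg.pCore 2 X :=
    ((Subgroup.centralizer_le hle).trans centralizer_Q8_le).trans hle
  have hbot := PCore.pPrimeCore_eq_bot_of_cp (G := X) hcp
  refine ⟨PCore.isPConstrained_of_ker (MonoidHom.id X) (fun x => ⟨x, rfl⟩) (by simp) hcp, hbot,
    fun t ht => ?_, ?_⟩
  · have h : ∀ t : X, t * t = 1 → ∀ g : X, g * t = t * g := by decide
    rw [Subgroup.mem_center_iff]
    refine h t ?_
    have := pow_orderOf_eq_one t
    rw [ht, pow_two] at this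
    exact this
  · let g : X := ⟨!![1, 1; 0, 1], by decide⟩
    have hg : orderOf g = 3 :=
      have : Fact (Nat.Prime 3) := ⟨Nat.prime_three⟩
      orderOf_eq_prime (by decide) fun e => absurd (congrArg (fun M : X => (M : Matrix (Fin 2) (Fin 2) (ZMod 3)) 0 1) e) (by decide)
    refine ⟨Subgroup.zpowers g, by rw [Nat.card_zpowers, hg], fun h => ?_⟩
    rw [hbot] at h
    have := Subgroup.mem_bot.mp (h (Subgroup.mem_zpowers g))
    rw [this, orderOf_one] at hg
    omega

end Cfsg.Agent.S1303
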