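import Cfsg.Statements.S1304
import Mathlib.Tactic.Group


set_option autoImplicit false
open Cfsg

namespace Cfsg.Agent.S1304

/-- Let X be a perfect group and α an automorphism of X with α(x) x⁻¹ central for every x. Then α is the identity. -/
theorem result {X : Type*} [Group X] (hperf : commutator X = ⊤) (α : X ≃* X) (h : ∀ x : X, α x * x⁻¹ ∈ Subgroup.center X) : ∀ x : X, α x = x := by
  intro x
  let f : X →* X := MonoidHom.mk' (fun x => α x * x⁻¹) fun a b => by
    have hb := Subgroup.mem_center_iff.mp (h b) a⁻¹
    calc α (a * b) * (a * b)⁻¹ = α a * ((α b * b⁻¹) * a⁻¹) := by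
          rw [map_mul, mul_inv_rev]; group
      _ = α a * (a⁻¹ * (α b * b⁻¹)) := by rw [hb]
      _ = α a * a⁻¹ * (α b * b⁻¹) := by group
  have hk : commutator X ≤ f.ker := by
    rw [commutator_def, Subgroup.commutator_le]
    intro a _ b _
    have hab : f b * f a = f a * f b := Subgroup.mem_center_iff.mp (h a) (f b)
    rw [MonoidHom.mem_ker, commutatorElement_def, map_mul, map_mul, map_mul, map_inv, map_inv,
      ← hab]
    group
  have : f x = 1 := hk (hperf ▸ Subgroup.mem_top x)
  exact mul_inv_eq_one.mp this

end Cfsg.Agent.S1304
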