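import Cfsg.Statements.S1305
import Mathlib
import Cfsg.Agent.Lib.Balance.LBalanceTwo
import Cfsg.Agent.Lib.Balance.Pumpup
import Cfsg.Agent.Lib.Balance.KBalance
import Cfsg.Agent.Lib.PGroup.ElementaryAbelian

set_option autoImplicit false
open Cfsg

namespace Cfsg.Agent.S1305

open Subgroup Cfsg.Agent.Balance
open scoped commutatorElement

/-- Let G be a finite group of component type with the B-property and no nontrivial normal subgroup of odd order. Let a be an involution and K a component of C_G(a) such that (a) |K| is maximal among the orders of components of centralizers of involutions of G, (b) subject to (a) the 2-rank of the centralizer of K in C_G(a) is as large as possible, and (c) K has 2-rank at least 2. If B is an elementary abelian 2-subgroup of that centralizer of the largest possible order, then K is a component of C_G(b) for every non-identity b ∈ B. -/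
theorem result {G : Type*} [Group G] [Finite G] (hO : Cfsg.oddCore G = ⊥) (hB : Cfsg.HasBProperty G) (hct : Cfsg.IsComponentType G) (a : G) (ha : orderOf a = 2) (K : Subgroup G) (hKa : K ≤ Subgroup.centralizer ({a} : Set G)) (hK : Cfsg.IsComponent (K.subgroupOf (Subgroup.centralizer ({a} : Set G)))) (hmax : ∀ y : G, orderOf y = 2 → ∀ K' : Subgroup G, K' ≤ Subgroup.centralizer ({y} : Set G) → Cfsg.IsComponent (K'.subgroupOf (Subgroup.centralizer ({y} : Set G))) → Nat.card ↥K' ≤ Nat.card ↥K ∧ (Nat.card ↥K' = Nat.card ↥K → ∀ k : ℕ, Cfsg.PRankLE 2 k ↥(Subgroup.centralizer ({a} : Set G) ⊓ Subgroup.centralizer (K : Set G)) → Cfsg.PRankLE 2 k ↥(Subgroup.centralizer ({y} : Set G) ⊓ Subgroup.centralizer (K' : Set G)))) (hrk : ¬ Cfsg.PRankLE 2 1 ↥K) (B : Subgroup G) (hBle : B ≤ Subgroup.centralizer ({a} : Set G) ⊓ Subgroup.centralizer (K : Set G)) (hBel : Cfsg.IsElementaryAbelian 2 B) (hBmax : ∀ B' : Subgroup G, B' ≤ Subgroup.centralizer ({a} : Set G) ⊓ Subgroup.centralizer (K : Set G) → Cfsg.IsElementaryAbelian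 2 B' → Nat.card ↥B' ≤ Nat.card ↥B) (b : G) (hb : b ∈ B) (hb1 : b ≠ 1) : K ≤ Subgroup.centralizer ({b} : Set G) ∧ Cfsg.IsComponent (K.subgroupOf (Subgroup.centralizer ({b} : Set G))) := by
  have := Fact.mk Nat.prime_two
  have hb2 : b * b = 1 := by rw [← pow_two]; exact hBel.2 b hb
  have hbord : orderOf b = 2 := orderOf_eq_prime (hBel.2 b hb) hb1
  have ha2 : a * a = 1 := by rw [← pow_two, ← ha]; exact pow_orderOf_eq_one a
  have hai : a⁻¹ = a := inv_eq_of_mul_eq_one_right ha2
  set C := centralizer ({b} : Set G) with hCdef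
  have hKC : K ≤ C := fun k hk => mem_centralizer_singleton_iff.2 (mem_centralizer_iff.1 (hBle hb).2 k hk)
  have haC : a ∈ C := mem_centralizer_singleton_iff.2 (mem_centralizer_singleton_iff.1 (hBle hb).1).symm
  refine ⟨hKC, ?_⟩
  set aC : ↥C := ⟨a, haC⟩ with haCdef
  have haC2 : aC * aC = 1 := Subtype.ext ha2
  set KC := K.subgroupOf C with hKCdef
  have hKqs : IsQuasisimple ↥K := by
    have := Components.IsQuasisimple.map_injective hK.2 (centralizer ({a} : Set G)).subtype_injective
    rwa [map_subgroupOf_eq_of_le hKa] at this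
  have hKCqs : IsQuasisimple ↥KC := Components.IsQuasisimple.subgroupOf_of_le hKqs hKC
  -- `K` as a component of the centralizer of `a` in `C`
  set Ca := centralizer ({aC} : Set ↥C) with hCa
  have hKCa : KC ≤ Ca := fun k hk => mem_centralizer_singleton_iff.2
    (Subtype.ext (mem_centralizer_singleton_iff.1 (hKa hk)))
  let ι : ↥Ca →* ↥(centralizer ({a} : Set G)) := (C.subtype.comp Ca.subtype).codRestrict _ fun c =>
    mem_centralizer_singleton_iff.2 (congrArg Subtype.val (mem_centralizer_singleton_iff.1 c.2))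
  have hKcomp : IsComponent (KC.subgroupOf Ca) :=
    ⟨hK.1.comap ι, Components.IsQuasisimple.subgroupOf_of_le hKCqs hKCa⟩
  -- the B-property makes the 2-layer of `C` a layer
  have hLlay : pLayer 2 ↥C ≤ layer ↥C := by
    refine sSup_le fun L hL => Components.IsComponent.le_layer ⟨hL.1, ?_⟩
    rw [Components.IsPComponent.isQuasisimple_iff hL, Components.IsPComponent.map_pPrimeCore_eq hL, eq_bot_iff]
    refine (commutator_mono (Components.IsPComponent.le_pLayer hL) inf_le_left).trans (le_of_eq ?_)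
    apply Subgroup.map_injective C.subtype_injective
    rw [Subgroup.map_bot]
    exact le_bot_iff.1 ((hB b hbord).trans hO.le)
  have hKlay : KC ≤ layer ↥C := by
    have hne : ¬ KC.subgroupOf Ca ≤ pPrimeCore 2 ↥Ca := by
      intro hle
      refine hrk fun A _ hA2 => ?_
      rw [pow_one]
      have h1 := (PCore.coprime_card_pPrimeCore (p := 2) (G := ↥Ca)).coprime_dvd_left (Subgroup.card_dvd_of_le hle)
      rw [Nat.card_congr (subgroupOfEquivOfLe hKCa).toEquiv, Nat.card_congr (subgroupOfEquivOfLe hKC).toEquiv] at h1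
      have hAbot : A = ⊥ := le_bot_iff.1 fun x hx => mem_bot.2 <| orderOf_eq_one_iff.1
        (Nat.eq_one_of_dvd_coprimes (h1.coprime_dvd_left (orderOf_dvd_natCard x)) dvd_rfl
          (orderOf_dvd_of_pow_eq_one (hA2 x hx)))
      rw [hAbot, Subgroup.card_bot]
      norm_num
    have hP := isPQT_of_isPComponent (Components.IsComponent.isPComponent hKcomp hne)
    have hP' := hP.map Ca.subtype fun he => hP.ne_bot ((map_eq_bot_iff_of_injective _ Ca.subtype_injective).1 he)
    rw [map_subgroupOf_eq_of_le hKCa] at hP'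
    have h2 := IsPQT.le_pLayer_two (R := zpowers aC)
      (IsPGroup.of_card (n := 1) (by rw [Nat.card_zpowers, haCdef, Subgroup.orderOf_mk, ha, pow_one])) hP'
      (hKCa.trans ((centralizer_zpowers aC).ge.trans (centralizer_le_normalizer _))) ?_
    · exact h2.trans hLlay
    · refine isSubnormal_subgroupOf_trans hKCa ((centralizer_zpowers aC).ge.trans (centralizer_le_normalizer _))
        hKcomp.1 (normal_subgroupOf_of_le_normalizer ?_).isSubnormal
      rw [hCa, ← centralizer_zpowers]
      exact normalizer_le_normalizer_centralizer _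
  obtain ⟨J, hJ, hJK, hcase⟩ := component_pumpup haC2 hKCa hKcomp hKlay
  have hJmap : IsComponent ((J.map C.subtype).subgroupOf C) := by
    rwa [Subgroup.subgroupOf, comap_map_eq_self_of_injective C.subtype_injective]
  have hmaxJ := hmax b hbord (J.map C.subtype) (map_subtype_le _) hJmap
  rcases hcase with ⟨-, hKJ⟩ | ⟨hJmov, hKJ, f, hf, hfv⟩
  · have hKJ' : K ≤ J.map C.subtype := by
      rw [← map_subgroupOf_eq_of_le hKC]
      exact map_mono hKJ
    rw [hKCdef, Subgroup.eq_of_le_of_card_ge hKJ' hmaxJ.1]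
    exact hJmap
  exfalso
  have hcardK : Nat.card KC = Nat.card K := Nat.card_congr (subgroupOfEquivOfLe hKC).toEquiv
  have hcardJ : Nat.card ↥(J.map C.subtype) = Nat.card J := Subgroup.card_map_of_injective C.subtype_injective
  have hle1 : Nat.card KC ≤ Nat.card J := Nat.card_le_card_of_surjective f hf
  have hcard : Nat.card J = Nat.card KC := le_antisymm (by rw [hcardK, ← hcardJ]; exact hmaxJ.1) hle1
  have hfinj : Function.Injective f :=
    ((Nat.bijective_iff_surjective_and_card f).2 ⟨hf, hcard⟩).1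
  have hrank := hmaxJ.2 (by rw [hcardJ, hcard, hcardK])
  set J' := J.map (MulAut.conj aC).toMonoidHom with hJ'def
  have haCi : aC⁻¹ = aC := Subtype.ext hai
  have hconj : ∀ j ∈ J, aC * j * aC ∈ J' := fun j hj => ⟨j, hj, by
    show aC * j * aC⁻¹ = _
    rw [haCi]⟩
  have hJ' : IsComponent J' := Components.IsComponent.conj hJ aC
  have hJJ' : ∀ x ∈ J, ∀ y ∈ J', Commute x y := fun x hx y hy =>
    (mem_centralizer_iff.1 (commutator_eq_bot_iff_le_centralizer.1
      (Components.IsComponent.commutator_eq_bot hJ hJ' (Ne.symm hJmov)) hx) y hy).symm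
  -- `a ∈ B`
  have haB : a ∈ B := by
    have haW : a ∈ centralizer ({a} : Set G) ⊓ centralizer (K : Set G) :=
      ⟨mem_centralizer_singleton_iff.2 rfl, mem_centralizer_iff.2 fun k hk => mem_centralizer_singleton_iff.1 (hKa hk)⟩
    have hE : IsElementaryAbelian 2 (B ⊔ zpowers a) := PGroup.isElementaryAbelian_sup hBel
      (PGroup.isElementaryAbelian_zpowers (by rw [← ha]; exact pow_orderOf_eq_one a)) (by
        rintro x hx _ ⟨i, rfl⟩
        exact ((show Commute x a from mem_centralizer_singleton_iff.1 (hBle hx).1).zpow_right i).eq)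
    have := Subgroup.eq_of_le_of_card_ge (le_sup_left : B ≤ B ⊔ zpowers a)
      (hBmax _ (sup_le hBle (zpowers_le.2 haW)) hE)
    exact this ▸ mem_sup_right (mem_zpowers a)
  have hBC : ∀ x ∈ B, x ∈ C := fun x hx =>
    mem_centralizer_singleton_iff.2 (PGroup.mul_comm_of_elementaryAbelian hBel hx hb)
  -- elements of `B` permute `J`, `J'`
  have hperm : ∀ x : ↥C, (x : G) ∈ B →
      J.map (MulAut.conj x).toMonoidHom = J ∨ J.map (MulAut.conj x).toMonoidHom = J' := by
    intro x hx
    by_contra hne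
    push Not at hne
    set L := J.map (MulAut.conj x).toMonoidHom with hL
    have hLc : IsComponent L := Components.IsComponent.conj hJ x
    have hKL : KC ≤ centralizer (L : Set ↥C) := hKJ.trans (sup_le
      (commutator_eq_bot_iff_le_centralizer.1 (Components.IsComponent.commutator_eq_bot hJ hLc (Ne.symm hne.1)))
      (commutator_eq_bot_iff_le_centralizer.1 (Components.IsComponent.commutator_eq_bot hJ' hLc (Ne.symm hne.2))))
    refine hJK fun k hk => mem_centralizer_iff.2 fun j hj => ?_
    have h1 : (x * j * x⁻¹) * k = k * (x * j * x⁻¹) := mem_centralizer_iff.1 (hKL hk) _ ⟨j, hj, rfl⟩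
    have hxk : k * x = x * k := Subtype.ext (mem_centralizer_iff.1 (hBle hx).2 k hk)
    have h2 : x * (j * k) * x⁻¹ = x * (k * j) * x⁻¹ := by
      calc x * (j * k) * x⁻¹ = x * j * x⁻¹ * (x * k * x⁻¹) := by group
        _ = x * j * x⁻¹ * k := by rw [← hxk, mul_inv_cancel_right]
        _ = k * (x * j * x⁻¹) := h1
        _ = x * (k * j) * x⁻¹ := by
          rw [show k * (x * j * x⁻¹) = k * x * j * x⁻¹ by group, hxk]; group
    exact mul_left_cancel (mul_right_cancel h2)
  set B₀ := B ⊓ (normalizer (J : Set ↥C)).map C.subtype with hB₀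
  have hcardB : Nat.card B ≤ 2 * Nat.card B₀ := by
    have : ∀ x : ↥B, (x : G) ∈ B₀ ∨ (x : G) * a ∈ B₀ := by
      intro x
      rcases hperm ⟨x, hBC x x.2⟩ x.2 with h | h
      · exact Or.inl ⟨x.2, ⟨_, mem_normalizer_of_map_conj_eq h, rfl⟩⟩
      · refine Or.inr ⟨B.mul_mem x.2 haB, ⟨aC * ⟨x, hBC x x.2⟩, mem_normalizer_of_map_conj_eq ?_, ?_⟩⟩
        · rw [map_conj_mul, h, hJ'def, ← map_conj_mul, haC2, map_conj_one]
        · exact (mem_centralizer_singleton_iff.1 (hBle x.2).1).symm
    let g : Bool × ↥B₀ → ↥B := fun z => if z.1 then ⟨(z.2 : G) * a, B.mul_mem z.2.2.1 haB⟩ else ⟨z.2, z.2.2.1⟩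
    have hg : Function.Surjective g := by
      intro x
      rcases this x with h | h
      · exact ⟨(false, ⟨x, h⟩), rfl⟩
      · exact ⟨(true, ⟨_, h⟩), Subtype.ext (by simp only [g, if_true]; rw [mul_assoc, ha2, mul_one])⟩
    refine (Nat.card_le_card_of_surjective g hg).trans (le_of_eq ?_)
    rw [Nat.card_prod, Nat.card_eq_fintype_card, Fintype.card_bool]
  -- `B₀` centralises `J`
  have hB₀J : ∀ u : ↥C, (u : G) ∈ B → u ∈ normalizer (J : Set ↥C) → ∀ j ∈ J, Commute u j := by
    intro u hu hun
    refine commute_of_commutator_central (Components.IsComponent.commutator_self hJ) (fun j hj i hi => ?_)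
      (fun j hj => (mem_normalizer_iff.1 hun j).1 hj)
    have hu1 : Commute u (f ⟨j, hj⟩ : ↥C) := Subtype.ext
      (mem_centralizer_iff.1 (hBle hu).2 _ (f ⟨j, hj⟩).2).symm
    rw [hfv] at hu1
    have hua : Commute u aC := Subtype.ext (mem_centralizer_singleton_iff.1 (hBle hu).1)
    set w := u * j * u⁻¹ with hw
    have hwJ : w ∈ J := (mem_normalizer_iff.1 hun j).1 hj
    have h1 : w * (aC * w * aC) = j * (aC * j * aC) := by
      calc w * (aC * w * aC) = u * j * u⁻¹ * (aC * u) * j * (u⁻¹ * aC) := by rw [hw]; group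
        _ = u * j * u⁻¹ * (u * aC) * j * (aC * u⁻¹) := by rw [hua.eq, hua.inv_left.eq]
        _ = u * (j * (aC * j * aC)) * u⁻¹ := by group
        _ = j * (aC * j * aC) := by rw [hu1.eq, mul_inv_cancel_right]
    have e : w * j⁻¹ = (aC * j * aC) * (aC * w * aC)⁻¹ := by
      rw [eq_mul_inv_iff_mul_eq, mul_assoc,
        (hJJ' _ (J.inv_mem hj) _ (hconj w hwJ)).eq, ← mul_assoc, h1, mul_assoc,
        ← (hJJ' _ (J.inv_mem hj) _ (hconj j hj)).eq, ← mul_assoc, mul_inv_cancel, one_mul]
    exact (hJJ' i hi _ (e ▸ J'.mul_mem (hconj j hj) (J'.inv_mem (hconj w hwJ)))).symm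
  -- an elementary abelian subgroup of rank `m + 1`
  obtain ⟨A, hA, hA2, hAcard⟩ : ∃ A : Subgroup ↥K, IsMulCommutative A ∧ (∀ x ∈ A, x ^ 2 = 1) ∧ 2 < Nat.card A := by
    by_contra hne
    push Not at hne
    exact hrk fun A hA hA2 => by rw [pow_one]; exact hne A hA hA2
  let e : ↥J ≃* ↥K := (MulEquiv.ofBijective f ⟨hfinj, hf⟩).trans (subgroupOfEquivOfLe hKC)
  set F := ((A.map e.symm.toMonoidHom).map J.subtype).map (MulAut.conj aC).toMonoidHom with hF
  have hFJ' : F ≤ J' := map_mono (map_subtype_le _)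
  set F' := F.map C.subtype with hF'
  have hF'el : IsElementaryAbelian 2 F' :=
    isElementaryAbelian_map (isElementaryAbelian_map (isElementaryAbelian_map
      (isElementaryAbelian_map (⟨hA, hA2⟩ : IsElementaryAbelian 2 A) _) _) _) _
  have hF'card : Nat.card F' = Nat.card A := by
    rw [hF', hF, Subgroup.card_map_of_injective C.subtype_injective,
      Subgroup.card_map_of_injective (MulAut.conj aC).injective,
      Subgroup.card_map_of_injective J.subtype_injective, Subgroup.card_map_of_injective e.symm.injective]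
  have hdisj : Disjoint B₀ F' := by
    rw [disjoint_iff_inf_le]
    rintro z ⟨⟨hzB, -⟩, z', hz', rfl⟩
    refine mem_bot.2 ?_
    have hz2 : z' * z' = 1 := Subtype.ext (by
      have := hBel.2 _ hzB
      rwa [pow_two] at this)
    have hzC : aC * z' = z' * aC := Subtype.ext
      (mem_centralizer_singleton_iff.1 (hBle hzB).1).symm
    obtain ⟨j, hj, rfl⟩ := hFJ' hz'
    have hz3 : aC * j * aC⁻¹ = j := by
      have h5 : aC * (aC * j * aC⁻¹) = aC * j * aC⁻¹ * aC := hzC
      rw [inv_mul_cancel_right] at h5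
      exact mul_left_cancel h5
    have hfz : f ⟨j, hj⟩ = 1 := by
      refine Subtype.ext ?_
      rw [hfv]
      show j * (aC * j * aC) = 1
      have h6 : (aC * j * aC⁻¹) * (aC * j * aC⁻¹) = 1 := hz2
      rw [hz3] at h6
      rw [show aC * j * aC = aC * j * aC⁻¹ by rw [haCi], hz3, h6]
    have := congrArg Subtype.val (hfinj (hfz.trans (map_one f).symm))
    simp only [OneMemClass.coe_one] at this
    simp [this]
  have hB₀F : ∀ u ∈ B₀, ∀ z ∈ F', u * z = z * u := by
    rintro u ⟨huB, uC, huN, rfl⟩ z ⟨z', hz', rfl⟩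
    obtain ⟨j, hj, rfl⟩ := hFJ' hz'
    have hua : Commute uC aC := Subtype.ext (mem_centralizer_singleton_iff.1 (hBle huB).1)
    exact congrArg Subtype.val ((hua.mul_right (hB₀J uC huB huN j hj)).mul_right hua.inv_right).eq
  set E := B₀ ⊔ F' with hE
  have hEel : IsElementaryAbelian 2 E :=
    PGroup.isElementaryAbelian_sup (PGroup.isElementaryAbelian_mono hBel inf_le_left) hF'el hB₀F
  have hEcard : Nat.card B₀ * Nat.card F' ≤ Nat.card E := by
    rw [← Nat.card_prod]
    refine Nat.card_le_card_of_injective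
      (fun z : ↥B₀ × ↥F' => (⟨(z.1 : G) * z.2, mul_mem (mem_sup_left z.1.2) (mem_sup_right z.2.2)⟩ : ↥E)) ?_
    intro z w h
    exact mul_injective_of_disjoint hdisj (congrArg Subtype.val h)
  have hEW : E ≤ centralizer ({b} : Set G) ⊓ centralizer (J.map C.subtype : Set G) := by
    refine sup_le (fun u hu => ⟨hBC u hu.1, ?_⟩) (le_inf (map_subtype_le F) ?_)
    · obtain ⟨huB, uC, huN, rfl⟩ := hu
      refine mem_centralizer_iff.2 ?_
      rintro _ ⟨j, hj, rfl⟩
      exact congrArg Subtype.val (hB₀J uC huB huN j hj).eq.symm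
    · rintro _ ⟨z', hz', rfl⟩
      refine mem_centralizer_iff.2 ?_
      rintro _ ⟨j, hj, rfl⟩
      exact congrArg Subtype.val (hJJ' j hj z' (hFJ' hz')).eq
  obtain ⟨m, hm⟩ := IsPGroup.iff_card.1 (PGroup.isPGroup_of_elementaryAbelian hBel)
  have hWle : PRankLE 2 m ↥(centralizer ({a} : Set G) ⊓ centralizer (K : Set G)) := by
    intro T hT hT2
    rw [← hm, ← Subgroup.card_map_of_injective (Subgroup.subtype_injective _)]
    exact hBmax _ (map_subtype_le T) (isElementaryAbelian_map ⟨hT, hT2⟩ _)
  set W := centralizer ({b} : Set G) ⊓ centralizer (J.map C.subtype : Set G) with hW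
  have hEle : Nat.card E ≤ 2 ^ m := by
    have h1 := (hrank m hWle) (E.subgroupOf W) (isElementaryAbelian_subgroupOf hEel).1
      (isElementaryAbelian_subgroupOf hEel).2
    rwa [Nat.card_congr (subgroupOfEquivOfLe hEW).toEquiv] at h1
  rw [hF'card] at hEcard
  rw [hm] at hcardB
  have hpos : 0 < Nat.card B₀ := Nat.card_pos
  nlinarith

end Cfsg.Agent.S1305
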