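import Cfsg.Statements.S1306
import Cfsg.Agent.Lib.Components.Layer

set_option autoImplicit false
open Cfsg

namespace Cfsg.Agent.S1306

variable {G : Type*} [Group G]

theorem map_centralizer_singleton (e : G ≃* G) (z : G) :
    (Subgroup.centralizer ({z} : Set G)).map e.toMonoidHom = Subgroup.centralizer {e z} := by
  ext a
  constructor
  · rintro ⟨b, hb, rfl⟩
    rw [Subgroup.mem_centralizer_singleton_iff]
    simp only [MulEquiv.coe_toMonoidHom, ← map_mul, Subgroup.mem_centralizer_singleton_iff.mp hb]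
  · intro ha
    refine ⟨e.symm a, ?_, e.apply_symm_apply a⟩
    rw [SetLike.mem_coe, Subgroup.mem_centralizer_singleton_iff]
    apply e.injective
    simp [Subgroup.mem_centralizer_singleton_iff.mp ha]

theorem compOf_map (e : G ≃* G) {K H : Subgroup G} (hle : K ≤ H)
    (h : Cfsg.IsComponent (K.subgroupOf H)) :
    K.map e.toMonoidHom ≤ H.map e.toMonoidHom ∧
      Cfsg.IsComponent ((K.map e.toMonoidHom).subgroupOf (H.map e.toMonoidHom)) := by
  refine ⟨Subgroup.map_mono hle, ?_⟩
  have heq : (K.subgroupOf H).map (e.subgroupMap H).toMonoidHom =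
      ((K.map e.toMonoidHom).subgroupOf (H.map e.toMonoidHom)) := by
    refine SetLike.ext fun y => ⟨?_, fun hy => ?_⟩
    · rintro ⟨c, hc, rfl⟩
      exact ⟨(c : G), hc, rfl⟩
    · obtain ⟨c, hc, hce⟩ := hy
      exact ⟨⟨c, hle hc⟩, hc, Subtype.ext hce⟩
  exact heq ▸ Cfsg.Agent.Components.IsComponent.map_equiv h (e.subgroupMap H)

theorem map_conj_eq_of_mem {L : Subgroup G} {g : G} (hg : g ∈ Subgroup.normalizer (L : Set G)) :
    L.map (MulAut.conj g).toMonoidHom = L := by
  ext a
  constructor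
  · rintro ⟨b, hb, rfl⟩
    exact (Subgroup.mem_normalizer_iff.mp hg b).mp hb
  · intro ha
    exact ⟨g⁻¹ * a * g, (Subgroup.mem_normalizer_iff.mp hg _).mpr (by simpa [mul_assoc] using ha),
      by simp [mul_assoc]⟩

theorem mem_normalizer_of_map {L : Subgroup G} (g : G)
    (h : L.map (MulAut.conj g).toMonoidHom = L) : g ∈ Subgroup.normalizer (L : Set G) :=
  Subgroup.mem_normalizer_iff.mpr fun b =>
    ⟨fun hb => h.le (Subgroup.mem_map_of_mem (MulAut.conj g).toMonoidHom hb), fun hb => by
      obtain ⟨c, hc, hce⟩ := h.ge hb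
      simp only [MulEquiv.coe_toMonoidHom, MulAut.conj_apply] at hce
      rwa [mul_left_cancel (mul_right_cancel hce)] at hc⟩

theorem normalizer_le_of_map {L : Subgroup G} (g : G)
    (h : L.map (MulAut.conj g).toMonoidHom = L) :
    g ∈ Subgroup.normalizer (Subgroup.centralizer (L : Set G) : Set G) := by
  apply mem_normalizer_of_map
  have hc : ∀ u : G, L.map (MulAut.conj u).toMonoidHom = L →
      (Subgroup.centralizer (L : Set G)).map (MulAut.conj u).toMonoidHom ≤
        Subgroup.centralizer (L : Set G) := by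
    rintro u hu _ ⟨b, hb, rfl⟩
    rw [Subgroup.mem_centralizer_iff]
    intro a ha
    obtain ⟨c, hc, rfl⟩ := hu.ge ha
    simp only [MulEquiv.coe_toMonoidHom, ← map_mul, Subgroup.mem_centralizer_iff.mp hb c hc]
  refine le_antisymm (hc g h) fun a ha => ?_
  refine ⟨g⁻¹ * a * g, ?_, by simp [mul_assoc]⟩
  have h' : L.map (MulAut.conj g⁻¹).toMonoidHom = L :=
    map_conj_eq_of_mem (inv_mem (mem_normalizer_of_map g h))
  simpa using hc g⁻¹ h' (Subgroup.mem_map_of_mem (MulAut.conj g⁻¹).toMonoidHom ha)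

/-- Let G be finite, x an involution and L ≤ C_G(x) a component of C_G(x). Suppose L is a component of C_G(y) for every involution y ∈ C_G(L), and ⁅L, g L g⁻¹⁆ ≠ 1 whenever g L g⁻¹ ≠ L. Then L is a standard subgroup of G. -/
theorem result {G : Type*} [Group G] [Finite G] (x : G) (hx : orderOf x = 2) (L : Subgroup G) (hLx : L ≤ Subgroup.centralizer ({x} : Set G)) (hL : Cfsg.IsComponent (L.subgroupOf (Subgroup.centralizer ({x} : Set G)))) (hne : ∀ y : G, orderOf y = 2 → y ∈ Subgroup.centralizer (L : Set G) → L ≤ Subgroup.centralizer ({y} : Set G) ∧ Cfsg.IsComponent (L.subgroupOf (Subgroup.centralizer ({y} : Set G)))) (hnc : ∀ g : G, L.map (MulAut.conj g).toMonoidHom ≠ L → ⁅L, L.map (MulAut.conj g).toMonoidHom⁆ ≠ ⊥) : Cfsg.IsStandardSubgroup L := by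
  have hqL : Cfsg.IsQuasisimple L :=
    (Cfsg.Agent.Components.isQuasisimple_congr (Subgroup.subgroupOfEquivOfLe hLx)).mp hL.2
  have hxL : x ∈ Subgroup.centralizer (L : Set G) := Subgroup.mem_centralizer_iff.mpr fun l hl =>
    Subgroup.mem_centralizer_singleton_iff.mp (hLx hl)
  -- if `y` and `g⁻¹ y g` are involutions centralising `L`, then `g` normalises `L`
  have key : ∀ g y : G, orderOf y = 2 → y ∈ Subgroup.centralizer (L : Set G) →
      g⁻¹ * y * g ∈ Subgroup.centralizer (L : Set G) →
      L.map (MulAut.conj g).toMonoidHom = L := by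
    intro g y hy hyL hgy
    by_contra hne'
    refine hnc g hne' ?_
    have hy' : orderOf (g⁻¹ * y * g) = 2 := by
      rw [← hy, ← orderOf_injective (MulAut.conj g⁻¹).toMonoidHom (MulAut.conj g⁻¹).injective y]
      simp
    obtain ⟨hA, hA'⟩ := hne y hy hyL
    obtain ⟨hB, hB'⟩ := hne _ hy' hgy
    have hC := compOf_map (MulAut.conj g) hB hB'
    rw [map_centralizer_singleton, MulAut.conj_apply,
      show g * (g⁻¹ * y * g) * g⁻¹ = y by group] at hC
    obtain ⟨hC, hC'⟩ := hC
    have hne'' : L.subgroupOf (Subgroup.centralizer {y}) ≠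
        (L.map (MulAut.conj g).toMonoidHom).subgroupOf (Subgroup.centralizer {y}) := by
      intro h
      apply hne'
      have := congrArg (Subgroup.map (Subgroup.centralizer ({y} : Set G)).subtype) h
      rw [Subgroup.map_subgroupOf_eq_of_le hA, Subgroup.map_subgroupOf_eq_of_le hC] at this
      exact this.symm
    have := congrArg (Subgroup.map (Subgroup.centralizer ({y} : Set G)).subtype)
      (Cfsg.Agent.Components.IsComponent.commutator_eq_bot hA' hC' hne'')
    rwa [Subgroup.map_commutator, Subgroup.map_bot, Subgroup.map_subgroupOf_eq_of_le hA,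
      Subgroup.map_subgroupOf_eq_of_le hC] at this
  refine ⟨hqL, ⟨?_, ?_⟩, hnc, ?_⟩
  · rw [even_iff_two_dvd, ← hx]
    exact Subgroup.orderOf_mk (G := G) x hxL ▸
      orderOf_dvd_natCard (⟨x, hxL⟩ : ↥(Subgroup.centralizer (L : Set G)))
  · intro g hg
    rw [← Nat.not_even_iff_odd, even_iff_two_dvd]
    intro hdvd
    have : Fact (Nat.Prime 2) := ⟨Nat.prime_two⟩
    obtain ⟨y, hy⟩ := exists_prime_orderOf_dvd_card' 2 hdvd
    have hy2 : orderOf (y : G) = 2 := by rwa [Subgroup.orderOf_coe]
    obtain ⟨hy1, z, hz, hzy⟩ := y.2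
    have hmap := key g y hy2 hy1 (by
      rw [← hzy]; simpa [mul_assoc] using hz)
    exact hg (normalizer_le_of_map g hmap)
  · refine le_antisymm (fun g hg => normalizer_le_of_map g (map_conj_eq_of_mem hg)) fun g hg => ?_
    refine mem_normalizer_of_map g (key g x hx hxL ?_)
    have := (Subgroup.mem_normalizer_iff.mp hg (g⁻¹ * x * g)).mpr
    exact this (by simpa [mul_assoc] using hxL)

end Cfsg.Agent.S1306
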