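import Cfsg.Statements.S1313
import Cfsg.Agent.Lib.Components.GenFitting
-- import your own Cfsg.Agent.* helpers here

set_option autoImplicit false
open Cfsg

namespace Cfsg.Agent.S1313

open Cfsg.Agent.Components Subgroup
open scoped commutatorElement

/-- For a finite group H, |H| ≤ |F*(H)|!. -/
theorem result {H : Type*} [Group H] [Finite H] : Nat.card H ≤ Nat.factorial (Nat.card ↥(Cfsg.generalizedFittingSubgroup H)) := by
  set S := Cfsg.generalizedFittingSubgroup H
  classical
  let φ : H →* MulAut S := MulAut.conjNormal
  have hker : φ.ker ≤ S := by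
    refine le_trans (fun g hg => ?_) centralizer_generalizedFittingSubgroup_le
    rw [mem_centralizer_iff]
    intro x hx
    have h1 : φ g ⟨x, hx⟩ = ⟨x, hx⟩ := by rw [MonoidHom.mem_ker.mp hg]; rfl
    have h2 : g * x * g⁻¹ = x := by
      simpa [φ, MulAut.conjNormal_apply] using congrArg Subtype.val h1
    exact (mul_inv_eq_iff_eq_mul.mp h2).symm
  have haut : Nat.card (MulAut S) ≤ Nat.factorial (Nat.card S - 1) := by
    have hiff : ∀ (e : MulAut S) (x : S), x ≠ 1 ↔ e x ≠ 1 := fun e x => by simp
    let f : MulAut S → Equiv.Perm {x : S // x ≠ 1} := fun e => e.toEquiv.subtypeEquiv (hiff e)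
    have hf : Function.Injective f := fun a b hab => by
      ext1 x
      by_cases hx : x = 1
      · subst hx; simp
      · exact congrArg Subtype.val (Equiv.ext_iff.mp hab ⟨x, hx⟩)
    refine (Nat.card_le_card_of_injective f hf).trans (le_of_eq ?_)
    rw [Nat.card_perm]
    congr 1
    have : Fintype S := Fintype.ofFinite S
    simp [Nat.card_eq_fintype_card, Fintype.card_subtype_compl]
  calc Nat.card H = Nat.card φ.ker * Nat.card φ.range := by
        rw [← φ.ker.card_mul_index, Subgroup.index_ker]
    _ ≤ Nat.card S * Nat.factorial (Nat.card S - 1) :=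
        Nat.mul_le_mul (card_le_of_le hker) ((Finite.card_subtype_le _).trans haut)
    _ = Nat.factorial (Nat.card S) := Nat.mul_factorial_pred Nat.card_pos.ne'

end Cfsg.Agent.S1313
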