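import Cfsg.Statements.S1314


set_option autoImplicit false
open Cfsg
open scoped commutatorElement

namespace Cfsg.Agent.S1314

/-- Let x be an involution of a group G and L a perfect subgroup with ⁅L, x L x⁻¹⁆ = 1. Then l ↦ l (x l x⁻¹) is a group homomorphism π from L to G whose kernel is central in L and whose image lies in C_G(x); and the commutator subgroup of C_{L ⊔ xLx⁻¹}(x) equals the image of π. -/
theorem result {G : Type*} [Group G] [Finite G] (x : G) (hx : orderOf x = 2) (L : Subgroup G) (hperf : ⁅L, L⁆ = L) (hcomm : ⁅L, L.map (MulAut.conj x).toMonoidHom⁆ = ⊥) : ∃ π : ↥L →* G, (∀ l : ↥L, π l = (l : G) * (x * (l : G) * x⁻¹)) ∧ π.ker ≤ Subgroup.center ↥L ∧ π.range ≤ Subgroup.centralizer ({x} : Set G) ∧ ⁅(L ⊔ L.map (MulAut.conj x).toMonoidHom) ⊓ Subgroup.centralizer ({x} : Set G), (L ⊔ L.map (MulAut.conj x).toMonoidHom) ⊓ Subgroup.centralizer ({x} : Set G)⁆ = π.range := by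
  have hc : ∀ a ∈ L, ∀ b ∈ L.map (MulAut.conj x).toMonoidHom, a * b = b * a := fun a ha b hb =>
    (Subgroup.mem_centralizer_iff.mp
      ((Subgroup.commutator_eq_bot_iff_le_centralizer.mp hcomm) ha) b hb).symm
  have hmem : ∀ l ∈ L, x * l * x⁻¹ ∈ L.map (MulAut.conj x).toMonoidHom := fun l hl =>
    ⟨l, hl, rfl⟩
  let π : ↥L →* G := MonoidHom.mk' (fun l => (l : G) * (x * (l : G) * x⁻¹)) fun a b => by
    have := hc b b.2 _ (hmem a a.2)
    calc ((a * b : L) : G) * (x * ((a * b : L) : G) * x⁻¹)
        = a * ((b : G) * (x * a * x⁻¹)) * (x * b * x⁻¹) := by push_cast; group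
      _ = a * ((x * a * x⁻¹) * b) * (x * b * x⁻¹) := by rw [this]
      _ = _ := by group
  have hx2 : x * x = 1 := by rw [← sq, ← hx]; exact pow_orderOf_eq_one x
  have hxi : x⁻¹ = x := inv_eq_of_mul_eq_one_right hx2
  have hZ : ∀ z ∈ L, z ∈ L.map (MulAut.conj x).toMonoidHom → ∀ l ∈ L, l * z = z * l :=
    fun z _ hz' l hl => hc l hl z hz'
  have hfix : ∀ l : ↥L, π l ∈ Subgroup.centralizer ({x} : Set G) := by
    intro l
    rw [Subgroup.mem_centralizer_singleton_iff]
    change (l : G) * (x * l * x⁻¹) * x = x * (l * (x * l * x⁻¹))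
    have := hc l l.2 _ (hmem l l.2)
    rw [hxi] at this ⊢
    calc (l : G) * (x * l * x) * x = (x * l * x) * l * x := by rw [this]
      _ = x * (l * (x * l * x)) := by group
  refine ⟨π, fun l => rfl, fun l hl => ?_, ?_, ?_⟩
  · rw [Subgroup.mem_center_iff]
    intro a
    refine Subtype.ext (hZ l l.2 ?_ a a.2)
    have hl' : (l : G) = (x * (l : G) * x⁻¹)⁻¹ :=
      eq_inv_of_mul_eq_one_left (MonoidHom.mem_ker.mp hl)
    rw [hl']
    exact inv_mem (hmem l l.2)
  · rintro _ ⟨l, rfl⟩
    exact hfix l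
  · set S := (L ⊔ L.map (MulAut.conj x).toMonoidHom) ⊓ Subgroup.centralizer ({x} : Set G)
    have hr : π.range ≤ S := by
      rintro _ ⟨l, rfl⟩
      exact ⟨mul_mem (Subgroup.mem_sup_left l.2) (Subgroup.mem_sup_right (hmem l l.2)), hfix l⟩
    refine le_antisymm ?_ ?_
    · -- every element of `S` is in the range up to a central element
      have hsup : ∀ s ∈ L ⊔ L.map (MulAut.conj x).toMonoidHom, ∃ a ∈ L, ∃ b ∈ L,
          s = a * (x * b * x⁻¹) := by
        have hn : L.map (MulAut.conj x).toMonoidHom ≤ Subgroup.normalizer (L : Set G) :=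
          le_trans (fun b hb => Subgroup.mem_centralizer_iff.mpr fun a ha => hc a ha b hb)
            (Subgroup.centralizer_le_normalizer _)
        intro s hs
        rw [← SetLike.mem_coe, Subgroup.coe_mul_of_right_le_normalizer_left _ _ hn] at hs
        obtain ⟨a, ha, _, ⟨b, hb, rfl⟩, rfl⟩ := hs
        exact ⟨a, ha, b, hb, rfl⟩
      rw [Subgroup.commutator_le]
      have hd : ∀ s ∈ S, ∃ p ∈ π.range, ∃ z ∈ L,
          z ∈ L.map (MulAut.conj x).toMonoidHom ∧ s = z * p := by
        intro s hs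
        obtain ⟨a, ha, b, hb, rfl⟩ := hsup s hs.1
        have hcx := Subgroup.mem_centralizer_singleton_iff.mp hs.2
        -- `b⁻¹ a` lies in both factors
        have h1 : a * (x * b * x⁻¹) = (x * a * x⁻¹) * b := by
          calc a * (x * b * x⁻¹) = (a * (x * b * x⁻¹) * x) * x⁻¹ := by group
            _ = x * (a * (x * b * x⁻¹)) * x⁻¹ := by rw [hcx]
            _ = (x * a * x⁻¹) * (x * (x * b * x⁻¹) * x⁻¹) := by group
            _ = (x * a * x⁻¹) * b := by
              congr 1
              rw [hxi]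
              calc x * (x * b * x) * x = (x * x) * b * (x * x) := by group
                _ = b := by rw [hx2]; group
        rw [← hc b hb _ (hmem a ha)] at h1
        have hz : b⁻¹ * a = (x * a * x⁻¹) * (x * b * x⁻¹)⁻¹ := by
          rw [eq_mul_inv_iff_mul_eq, mul_assoc, h1, inv_mul_cancel_left]
        refine ⟨π ⟨b, hb⟩, ⟨_, rfl⟩, b⁻¹ * a, mul_mem (inv_mem hb) ha,
          hz ▸ mul_mem (hmem a ha) (inv_mem (hmem b hb)), ?_⟩
        have hcm := hZ (b⁻¹ * a) (mul_mem (inv_mem hb) ha)
          (hz ▸ mul_mem (hmem a ha) (inv_mem (hmem b hb))) b hb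
        change a * (x * b * x⁻¹) = b⁻¹ * a * (b * (x * b * x⁻¹))
        rw [← mul_assoc _ b, ← hcm, mul_inv_cancel_left]
      intro s hs s' hs'
      obtain ⟨p, hp, z, hzL, hzM, rfl⟩ := hd s hs
      obtain ⟨p', hp', z', hzL', hzM', rfl⟩ := hd s' hs'
      have hzc : ∀ w ∈ L, w ∈ L.map (MulAut.conj x).toMonoidHom →
          ∀ q ∈ L ⊔ L.map (MulAut.conj x).toMonoidHom, Commute w q := by
        intro w hwL hwM q hq
        obtain ⟨a, ha, b, hb, rfl⟩ := hsup q hq
        exact Commute.mul_right (hZ w hwL hwM a ha).symm (hc w hwL _ (hmem b hb))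
      have e1 := hzc z hzL hzM
      have e2 := hzc z' hzL' hzM'
      have hz'p : Commute z' p := e2 p (hr hp).1
      have hzp' : Commute z p' := e1 p' (hr hp').1
      have hzz : Commute z z' := e1 z' (Subgroup.mem_sup_left hzL')
      have hzp : Commute z p := e1 p (hr hp).1
      have hz'p' : Commute z' p' := e2 p' (hr hp').1
      have : ⁅z * p, z' * p'⁆ = ⁅p, p'⁆ := by
        have h1 : (z * p) * (z' * p') = (z * z') * (p * p') := hz'p.symm.mul_mul_mul_comm z p'
        have h2 : (z' * p') * (z * p) = (z * z') * (p' * p) := by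
          rw [hzp'.symm.mul_mul_mul_comm z' p, hzz.eq]
        have h3 : Commute (z * z') ((p * p') * (p' * p)⁻¹) :=
          Commute.mul_left ((hzp.mul_right hzp').mul_right (hzp'.mul_right hzp).inv_right)
            ((hz'p.mul_right hz'p').mul_right (hz'p'.mul_right hz'p).inv_right)
        calc ⁅z * p, z' * p'⁆ = ((z * p) * (z' * p')) * ((z' * p') * (z * p))⁻¹ := by
              rw [commutatorElement_def]; group
          _ = (z * z') * ((p * p') * (p' * p)⁻¹) * (z * z')⁻¹ := by rw [h1, h2]; group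
          _ = (p * p') * (p' * p)⁻¹ := by rw [h3.eq, mul_inv_cancel_right]
          _ = ⁅p, p'⁆ := by rw [commutatorElement_def]; group
      rw [this, commutatorElement_def]
      exact mul_mem (mul_mem (mul_mem hp hp') (inv_mem hp)) (inv_mem hp')
    · calc π.range = (⊤ : Subgroup ↥L).map π := MonoidHom.range_eq_map π
        _ = ⁅(⊤ : Subgroup ↥L).map π, (⊤ : Subgroup ↥L).map π⁆ := by
          rw [← Subgroup.map_commutator]
          congr 1
          apply Subgroup.map_injective L.subtype_injective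
          rw [Subgroup.map_commutator, ← MonoidHom.range_eq_map, Subgroup.range_subtype, hperf]
        _ ≤ _ := Subgroup.commutator_mono (le_of_eq_of_le (MonoidHom.range_eq_map π).symm hr)
          (le_of_eq_of_le (MonoidHom.range_eq_map π).symm hr)

end Cfsg.Agent.S1314
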