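import Cfsg.Statements.S1315
import Cfsg.Agent.Lib.SL2Comp.Intrinsic
import Cfsg.Agent.S0205

set_option autoImplicit false
open Cfsg

namespace Cfsg.Agent.S1315

open Subgroup SL2Comp

universe u

local instance : Fact (Nat.Prime 2) := ⟨Nat.prime_two⟩

/-- The map of a group onto its central quotient modulo the odd core. -/
abbrev toTop (L : Type*) [Group L] :
    L →* (L ⧸ oddCore L) ⧸ center (L ⧸ oddCore L) :=
  (QuotientGroup.mk' _).comp (QuotientGroup.mk' _)

theorem isSolvable_ker_toTop {L : Type u} [Group L] [Finite L] : Group.IsSolvable (toTop L).ker := by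
  haveI : Group.IsSolvable ↥(oddCore L) :=
    S0205.result (Nat.coprime_two_right.1 (PCore.coprime_card_pPrimeCore (G := L) (p := 2)))
  haveI : Group.IsSolvable ↥(center (L ⧸ oddCore L)) :=
    Group.isSolvable_of_comm fun a b => Subtype.ext (mem_center_iff.1 b.2 a)
  let g : ↥(toTop L).ker →* ↥(center (L ⧸ oddCore L)) :=
    ((QuotientGroup.mk' (oddCore L)).comp (toTop L).ker.subtype).codRestrict _ fun x =>
      (QuotientGroup.eq_one_iff _).1 x.2
  have hle : oddCore L ≤ (toTop L).ker := fun x hx => by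
    rw [MonoidHom.mem_ker, MonoidHom.comp_apply,
      show QuotientGroup.mk' (oddCore L) x = 1 from (QuotientGroup.eq_one_iff x).2 hx, map_one]
  refine Group.isSolvable_of_ker_le_range (Subgroup.inclusion hle) g fun x hx => ?_
  exact ⟨⟨x.1, (QuotientGroup.eq_one_iff _).1 (congrArg Subtype.val hx)⟩, rfl⟩

theorem typ_of {G : Type u} [Group G] [Finite G] {X : Subgroup G} {S : Type*} [Group S]
    (e : (↥X ⧸ oddCore ↥X) ⧸ center (↥X ⧸ oddCore ↥X) ≃* S) : Typ S X := by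
  refine ⟨e.toMonoidHom.comp (toTop ↥X),
    e.surjective.comp ((QuotientGroup.mk'_surjective _).comp (QuotientGroup.mk'_surjective _)), ?_⟩
  rw [show (e.toMonoidHom.comp (toTop ↥X)).ker = (toTop ↥X).ker by
    ext; simp [MonoidHom.mem_ker]]
  exact isSolvable_ker_toTop

theorem map_center_eq {A B : Type*} [Group A] [Group B] (e : A ≃* B) :
    (center A).map (e : A →* B) = center B := by
  ext x
  rw [show (e : A →* B) = e.toMonoidHom from rfl, mem_map_equiv, mem_center_iff, mem_center_iff]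
  constructor
  · intro h y
    simpa using congrArg e (h (e.symm y))
  · intro h y
    simpa using congrArg e.symm (h (e y))

/-- Let G be finite and J ≠ K subgroups, each containing exactly one involution, z(J) resp. z(K), each a 2-component of the centralizer of its involution, with J / O(J) and K / O(K) both isomorphic to SL(2, F) for one finite field F of odd order, or both non-split double covers of A7. Then (i) every 2-element of K of order at least 4 centralizing z(J) normalizes J; (ii) if z(J) normalizes K then z(K) normalizes J. -/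
theorem result {G : Type*} [Group G] [Finite G] (J K : Subgroup G) (hJK : J ≠ K) (zJ zK : G) (hzJ : zJ ∈ J ∧ orderOf zJ = 2 ∧ ∀ t ∈ J, orderOf t = 2 → t = zJ) (hzK : zK ∈ K ∧ orderOf zK = 2 ∧ ∀ t ∈ K, orderOf t = 2 → t = zK) (hJ : J ≤ Subgroup.centralizer ({zJ} : Set G) ∧ Cfsg.IsPComponent 2 (J.subgroupOf (Subgroup.centralizer ({zJ} : Set G)))) (hK : K ≤ Subgroup.centralizer ({zK} : Set G) ∧ Cfsg.IsPComponent 2 (K.subgroupOf (Subgroup.centralizer ({zK} : Set G)))) (htype : (∃ (F : Type) (_ : Field F) (_ : Fintype F), Odd (Fintype.card F) ∧ Nonempty (↥J ⧸ Cfsg.oddCore ↥J ≃* Matrix.SpecialLinearGroup (Fin 2) F) ∧ Nonempty (↥K ⧸ Cfsg.oddCore ↥K ≃* Matrix.SpecialLinearGroup (Fin 2) F)) ∨ (Cfsg.IsNonsplitDoubleCover (↥J ⧸ Cfsg.oddCore ↥J) ↥(alternatingGroup (Fin 7)) ∧ Cfsg.IsNonsplitDoubleCover (↥K ⧸ Cfsg.oddCore ↥K) ↥(alternatingGroup (Fin 7)))) : (∀ y ∈ K, IsPGroup 2 ↥(Subgroup.zpowers y) → 4 ≤ orderOf y → y * zJ = zJ * y → y ∈ Subgroup.normalizer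 (J : Set G)) ∧ (zJ ∈ Subgroup.normalizer (K : Set G) → zK ∈ Subgroup.normalizer (J : Set G)) := by
  have hq : IsQuasisimple (↥J ⧸ oddCore ↥J) := by
    have h := Components.IsPComponent.isQuasisimple_quotient hJ.2
    let e := subgroupOfEquivOfLe hJ.1
    exact (Components.isQuasisimple_congr (QuotientGroup.congr _ _ e (PCore.map_pPrimeCore_mulEquiv e))).1 h
  haveI := hq.1
  haveI := hq.2
  have hS : ¬ IsMulCommutative ((↥J ⧸ oddCore ↥J) ⧸ center (↥J ⧸ oddCore ↥J)) := by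
    intro h
    haveI : Group.IsPerfect ((↥J ⧸ oddCore ↥J) ⧸ center (↥J ⧸ oddCore ↥J)) :=
      Group.IsPerfect.ofSurjective (QuotientGroup.mk'_surjective (center (↥J ⧸ oddCore ↥J)))
    haveI : Group.IsSolvable ((↥J ⧸ oddCore ↥J) ⧸ center (↥J ⧸ oddCore ↥J)) :=
      Group.isSolvable_of_comm fun a b => h.is_comm.comm a b
    exact (Group.IsSolvable.commutator_lt_top_of_nontrivial ((↥J ⧸ oddCore ↥J) ⧸ center (↥J ⧸ oddCore ↥J))).ne
      Group.IsPerfect.commutator_eq_top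
  obtain ⟨eK⟩ : Nonempty ((↥K ⧸ oddCore ↥K) ⧸ center (↥K ⧸ oddCore ↥K) ≃*
      (↥J ⧸ oddCore ↥J) ⧸ center (↥J ⧸ oddCore ↥J)) := by
    rcases htype with ⟨F, _, _, -, ⟨a⟩, ⟨b⟩⟩ | ⟨⟨-, ⟨a⟩, -⟩, ⟨-, ⟨b⟩, -⟩⟩
    · exact ⟨QuotientGroup.congr _ _ (b.trans a.symm) (map_center_eq _)⟩
    · exact ⟨b.trans a.symm⟩
  have tJ := typ_of (X := J) (MulEquiv.refl _)
  have tK := typ_of eK
  have uJ : Uniq J zJ := ⟨hzJ.1, hzJ.2.1, hzJ.2.2⟩
  have uK : Uniq K zK := ⟨hzK.1, hzK.2.1, hzK.2.2⟩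
  refine ⟨fun y hy hp h4 hyz => ?_, fun h => normalizes (fun _ _ _ h => S0205.result h) hS ⟨hJ.1, hJ.2⟩ uJ ⟨hK.1, hK.2⟩ uK tJ tK h⟩
  obtain ⟨n, hn⟩ := exists_pow_two_eq_one hp (mem_zpowers y)
  refine mem_normalizer_of_commute (fun _ _ _ h => S0205.result h) hS ⟨hJ.1, hJ.2⟩ uJ ⟨hK.1, hK.2⟩ uK tJ tK hy hn ?_ ?_ hyz
  · intro h
    rw [h, orderOf_one] at h4
    omega
  · intro h
    rw [h, hzK.2.1] at h4
    omega

end Cfsg.Agent.S1315
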