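import Cfsg.Statements.S1316
import Cfsg.Agent.Lib.Components.GenFitting
-- import your own Cfsg.Agent.* helpers here

set_option autoImplicit false
open Cfsg

namespace Cfsg.Agent.S1316

open Cfsg.Agent.Components Subgroup
open scoped commutatorElement

/-- For a finite group X, E(X) equals the intersection of the derived series of F*(X) (its last term). -/
theorem result {X : Type*} [Group X] [Finite X] : (⨅ n : ℕ, (derivedSeries ↥(Cfsg.generalizedFittingSubgroup X) n).map (Cfsg.generalizedFittingSubgroup X).subtype) = Cfsg.layer X := by
  set S := Cfsg.generalizedFittingSubgroup X with hSdef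
  set E := Cfsg.layer X
  let D : ℕ → Subgroup X := fun n => (derivedSeries S n).map S.subtype
  let A : ℕ → Subgroup X := fun n =>
    (derivedSeries (Cfsg.fittingSubgroup X) n).map (Cfsg.fittingSubgroup X).subtype
  have hD0 : D 0 = S := by simp [D, ← MonoidHom.range_eq_map]
  have hA0 : A 0 = Cfsg.fittingSubgroup X := by simp [A, ← MonoidHom.range_eq_map]
  have hDs : ∀ n, D (n + 1) = ⁅D n, D n⁆ := fun n => by simp [D, derivedSeries_succ, map_commutator]
  have hAs : ∀ n, A (n + 1) = ⁅A n, A n⁆ := fun n => by simp [A, derivedSeries_succ, map_commutator]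
  refine le_antisymm ?_ (le_iInf fun n => ?_)
  · let q := QuotientGroup.mk' E
    have key : ∀ n, (D n).map q ≤ (A n).map q := by
      intro n
      induction n with
      | zero =>
        have hEb : E.map q = ⊥ := by rw [Subgroup.map_eq_bot_iff, QuotientGroup.ker_mk']
        rw [hD0, hA0, hSdef, Cfsg.generalizedFittingSubgroup, Subgroup.map_sup, hEb, bot_sup_eq]
      | succ n ih =>
        rw [hDs, hAs, map_commutator, map_commutator]
        exact commutator_mono ih ih
    obtain ⟨n, hn⟩ := (inferInstance : Group.IsSolvable (Cfsg.fittingSubgroup X)).solvable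
    have h1 : (D n).map q ≤ ⊥ := (key n).trans (by simp [A, hn])
    rw [le_bot_iff, Subgroup.map_eq_bot_iff, QuotientGroup.ker_mk'] at h1
    exact (iInf_le _ n).trans h1
  · change E ≤ D n
    induction n with
    | zero => exact hD0 ▸ layer_le_generalizedFittingSubgroup
    | succ n ih =>
      rw [hDs]
      exact commutator_layer_self.ge.trans (commutator_mono ih ih)

end Cfsg.Agent.S1316
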