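import Cfsg.Statements.S1317
import Cfsg.Agent.Lib.Components.Inf
-- import your own Cfsg.Agent.* helpers here

set_option autoImplicit false
open Cfsg

namespace Cfsg.Agent.S1317

open Cfsg.Agent.Components Subgroup
open scoped commutatorElement

/-- For a finite group X, the centre of the layer E(X) is F(X) ∩ E(X). -/
theorem result {X : Type*} [Group X] [Finite X] : (Subgroup.center ↥(Cfsg.layer X)).map (Cfsg.layer X).subtype = Cfsg.fittingSubgroup X ⊓ Cfsg.layer X := by
  ext x
  constructor
  · rintro ⟨z, hz, rfl⟩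
    refine ⟨inf_centralizer_le_fittingSubgroup (inferInstance : (Cfsg.layer X).Normal).isSubnormal
      ⟨z.2, mem_centralizer_iff.mpr fun h hh => ?_⟩, z.2⟩
    exact congrArg Subtype.val (mem_center_iff.mp hz ⟨h, hh⟩)
  · rintro ⟨hF, hE⟩
    refine ⟨⟨x, hE⟩, mem_center_iff.mpr fun y => Subtype.ext ?_, rfl⟩
    exact mem_centralizer_iff.mp
      (le_centralizer_of_commutator_eq_bot (commutator_eq_bot_symm commutator_layer_fittingSubgroup) hF)
      y y.2

end Cfsg.Agent.S1317
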