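import Cfsg.Statements.S1318
import Cfsg.Agent.Lib.Components.Inf
-- import your own Cfsg.Agent.* helpers here

set_option autoImplicit false
open Cfsg

namespace Cfsg.Agent.S1318

open Cfsg.Agent.Components Subgroup
open scoped commutatorElement

/-- Let X be finite and S ≤ F*(X) a subgroup subnormal in F*(X). Then F(S) = F(X) ∩ S (inside X) and S = F(S)E(S). -/
theorem result {X : Type*} [Group X] [Finite X] (S : Subgroup X) (hS : S ≤ Cfsg.generalizedFittingSubgroup X) (hsn : (S.subgroupOf (Cfsg.generalizedFittingSubgroup X)).IsSubnormal) : (Cfsg.fittingSubgroup ↥S).map S.subtype = Cfsg.fittingSubgroup X ⊓ S ∧ Cfsg.fittingSubgroup ↥S ⊔ Cfsg.layer ↥S = ⊤ := by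
  have hS' : S.IsSubnormal :=
    Subgroup.IsSubnormal.trans hS hsn
      (inferInstance : (Cfsg.generalizedFittingSubgroup X).Normal).isSubnormal
  constructor
  · refine le_antisymm (le_inf (map_subtype_fittingSubgroup_le_of_isSubnormal hS')
      (map_subtype_le _)) ?_
    have : Group.IsNilpotent ↥((Cfsg.fittingSubgroup X ⊓ S).subgroupOf S) :=
      (Group.isNilpotent_congr (subgroupOfEquivOfLe inf_le_right)).mpr
        ((Group.isNilpotent_congr (subgroupOfEquivOfLe inf_le_left)).mp (Subgroup.isNilpotent _))
    have hn : ((Cfsg.fittingSubgroup X ⊓ S).subgroupOf S).Normal :=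
      normal_subgroupOf_of_le_normalizer
        ((le_inf (normalizer_eq_top (H := Cfsg.fittingSubgroup X) ▸ le_top) le_normalizer).trans
          inf_normalizer_le_normalizer_inf)
    rw [← map_subgroupOf_eq_of_le (inf_le_right : Cfsg.fittingSubgroup X ⊓ S ≤ S)]
    exact Subgroup.map_mono (le_fittingSubgroup hn)
  · have h := generalizedFittingSubgroup_inf_of_isSubnormal hS'
    rw [inf_eq_right.mpr hS] at h
    rw [← map_subtype_inj, ← MonoidHom.range_eq_map, range_subtype, sup_comm]
    exact h.symm

end Cfsg.Agent.S1318
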