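import Cfsg.Statements.S1319
import Cfsg.Agent.Lib.Components.Layer
-- import your own Cfsg.Agent.* helpers here

set_option autoImplicit false
open Cfsg

namespace Cfsg.Agent.S1319

open Cfsg.Agent.Components Subgroup
open scoped commutatorElement

/-- Let A be a subnormal subgroup of the finite group X with E(A) = A. Then A ≤ E(X) and A is normal in E(X). -/
theorem result {X : Type*} [Group X] [Finite X] (A : Subgroup X) (hsn : A.IsSubnormal) (hA : Cfsg.layer ↥A = ⊤) : A ≤ Cfsg.layer X ∧ (A.subgroupOf (Cfsg.layer X)).Normal := by
  have hle : A ≤ Cfsg.layer X := by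
    have := map_layer_le_layer hsn
    rwa [hA, ← MonoidHom.range_eq_map, range_subtype] at this
  refine ⟨hle, normal_subgroupOf_of_le_normalizer (sSup_le fun K hK => ?_)⟩
  rcases IsComponent.le_or_commutator_eq_bot hK hsn with h | h
  · exact h.trans le_normalizer
  · exact (le_centralizer_of_commutator_eq_bot h).trans (centralizer_le_normalizer _)

end Cfsg.Agent.S1319
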