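import Cfsg.Statements.S1321
import Cfsg.Agent.Lib.Components.Layer
-- import your own Cfsg.Agent.* helpers here

set_option autoImplicit false
open Cfsg

namespace Cfsg.Agent.S1321

open Cfsg.Agent.Components Subgroup
open scoped commutatorElement

/-- Let X be finite and U ≤ X. Then E(X) is generated by C_{E(X)}(U) together with ⁅E(X), U⁆ (indeed it is their product, ⁅E(X), U⁆ being normal in E(X)). -/
theorem result {X : Type*} [Group X] [Finite X] (U : Subgroup X) : Cfsg.layer X = (Cfsg.layer X ⊓ Subgroup.centralizer (U : Set X)) ⊔ ⁅Cfsg.layer X, U⁆ ∧ ⁅Cfsg.layer X, U⁆ ≤ Cfsg.layer X := by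
  have hn : ⁅Cfsg.layer X, U⁆ ≤ Cfsg.layer X := commutator_le_left _ _
  refine ⟨le_antisymm (sSup_le fun K hK => ?_) (sup_le inf_le_left hn), hn⟩
  have hN : (⁅Cfsg.layer X, U⁆).IsSubnormal :=
    isSubnormal_of_normalized (inferInstance : (Cfsg.layer X).Normal).isSubnormal hn
      (normalizer_commutator_ge_left _ _)
  rcases IsComponent.le_or_commutator_eq_bot hK hN with h | h
  · exact le_sup_of_le_right h
  · refine le_sup_of_le_left (le_inf (IsComponent.le_layer hK) (le_centralizer_of_commutator_eq_bot ?_))
    refine commutator_eq_bot_of_commutator_commutator hK.2.1 (le_bot_iff.mp ?_)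
    rw [← commutator_eq_bot_symm h]
    exact commutator_mono ((commutator_comm U K).le.trans
      (commutator_mono (IsComponent.le_layer hK) le_rfl)) le_rfl

end Cfsg.Agent.S1321
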