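import Cfsg.Statements.S1323
import Mathlib.GroupTheory.SpecificGroups.Alternating.Simple
import Mathlib.GroupTheory.Perm.Cycle.Type
import Cfsg.Agent.Lib.Components.Quasisimple

set_option autoImplicit false
open Cfsg

namespace Cfsg.Agent.S1323

open Subgroup Equiv
open scoped Pointwise

variable {α : Type*} [Fintype α] [DecidableEq α]

/-- the alternating group on `s`, inside the one on `α` -/
def alt (s : Finset α) : Subgroup (alternatingGroup α) := (alternatingGroup.ofSubtype s).range

theorem mem_alt {s : Finset α} {k : alternatingGroup α} :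
    k ∈ alt s ↔ ∀ x, x ∉ s → (k : Perm α) x = x := by
  rw [alt, alternatingGroup.mem_range_ofSubtype_iff]
  constructor
  · intro h x hx
    by_contra hne
    exact hx (h (Perm.mem_support.mpr hne))
  · intro h x hx
    by_contra hne
    exact Perm.mem_support.mp hx (h x hne)

theorem exists_threeCycle {s : Finset α} {x a b : α} (hx : x ∈ s) (ha : a ∈ s) (hb : b ∈ s)
    (h1 : x ≠ a) (h2 : x ≠ b) (h3 : a ≠ b) :
    ∃ k ∈ alt s, (k : Perm α) x = a ∧ (k : Perm α) a = b ∧ (k : Perm α) b = x ∧
      ∀ y, y ≠ x → y ≠ a → y ≠ b → (k : Perm α) y = y := by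
  let c : Perm α := swap x b * swap x a
  have hc : c ∈ alternatingGroup α :=
    Perm.mul_mem_alternatingGroup_of_isSwap ⟨x, b, h2, rfl⟩ ⟨x, a, h1, rfl⟩
  refine ⟨⟨c, hc⟩, mem_alt.mpr fun y hy => ?_, ?_, ?_, ?_, fun y e1 e2 e3 => ?_⟩
  · have e1 : y ≠ x := fun e => hy (e ▸ hx)
    have e2 : y ≠ a := fun e => hy (e ▸ ha)
    have e3 : y ≠ b := fun e => hy (e ▸ hb)
    simp [c, swap_apply_of_ne_of_ne e1 e2, swap_apply_of_ne_of_ne e1 e3]
  · simp [c, swap_apply_of_ne_of_ne h1.symm h3]
  · simp [c]
  · simp [c, swap_apply_of_ne_of_ne h2.symm h3.symm]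
  · simp [c, swap_apply_of_ne_of_ne e1 e2, swap_apply_of_ne_of_ne e1 e3]

theorem exists_two {s : Finset α} (h : 3 ≤ s.card) {x : α} (hx : x ∈ s) :
    ∃ a ∈ s, ∃ b ∈ s, x ≠ a ∧ x ≠ b ∧ a ≠ b := by
  have h2 : 1 < (s.erase x).card := by rw [Finset.card_erase_of_mem hx]; omega
  obtain ⟨a, ha, b, hb, hab⟩ := Finset.one_lt_card.mp h2
  rw [Finset.mem_erase] at ha hb
  exact ⟨a, ha.2, b, hb.2, ha.1.symm, hb.1.symm, hab⟩

theorem subset_of_alt_le {s t : Finset α} (hs : 3 ≤ s.card) (h : alt s ≤ alt t) : s ⊆ t := by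
  intro x hx
  by_contra hxt
  obtain ⟨a, ha, b, hb, h1, h2, h3⟩ := exists_two hs hx
  obtain ⟨k, hk, hkx, -⟩ := exists_threeCycle hx ha hb h1 h2 h3
  exact h1 ((mem_alt.mp (h hk) x hxt).symm.trans hkx)

theorem centralizer_alt {s : Finset α} (hs : 5 ≤ s.card) :
    centralizer (alt s : Set (alternatingGroup α)) = alt sᶜ := by
  ext g
  constructor
  · intro hg
    rw [mem_alt]
    intro x hx
    rw [Finset.mem_compl, not_not] at hx
    by_contra hne
    obtain ⟨a, ha, b, hb, h1, h2, h3⟩ := exists_two (by omega) hx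
    have key : ∀ u ∈ s, ∀ v ∈ s, x ≠ u → x ≠ v → u ≠ v →
        (g : Perm α) x = u ∨ (g : Perm α) x = v := by
      intro u hu v hv e1 e2 e3
      obtain ⟨k, hk, hkx, -, -, hfix⟩ := exists_threeCycle hx hu hv e1 e2 e3
      have hc := congrArg (fun k : alternatingGroup α => (k : Perm α) x) (mem_centralizer_iff.mp hg k hk)
      simp only [Subgroup.coe_mul, Perm.mul_apply, hkx] at hc
      by_contra hcon
      push Not at hcon
      have := hfix _ (fun e => hne e) hcon.1 hcon.2
      rw [this] at hc
      exact e1 ((g : Perm α).injective hc)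
    -- a third pair avoiding the first
    have h4 : 1 < (((s.erase x).erase a).erase b).card := by
      have l1 := Finset.card_erase_of_mem hx
      have l2 := Finset.pred_card_le_card_erase (a := a) (s := s.erase x)
      have l3 := Finset.pred_card_le_card_erase (a := b) (s := (s.erase x).erase a)
      omega
    obtain ⟨c, hc, d, hd, hcd⟩ := Finset.one_lt_card.mp h4
    simp only [Finset.mem_erase] at hc hd
    rcases key a ha b hb h1 h2 h3 with e | e <;>
      rcases key c hc.2.2.2 d hd.2.2.2 hc.2.2.1.symm hd.2.2.1.symm hcd with e' | e' <;>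
      rw [e] at e'
    · exact hc.2.1 e'.symm
    · exact hd.2.1 e'.symm
    · exact hc.1 e'.symm
    · exact hd.1 e'.symm
  · intro hg
    rw [mem_centralizer_iff]
    intro k hk
    refine Subtype.ext (Perm.Disjoint.commute fun x => ?_).eq
    by_cases hx : x ∈ s
    · exact Or.inr (mem_alt.mp hg x (by simpa using hx))
    · exact Or.inl (mem_alt.mp hk x hx)

theorem map_conj_alt (s : Finset α) (g : alternatingGroup α) :
    (alt s).map (MulAut.conj g).toMonoidHom = alt (g • s) :=
  alternatingGroup.conj_smul_range_ofSubtype s g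

theorem normalizer_alt {s : Finset α} (hs : 3 ≤ s.card) {g : alternatingGroup α} :
    g ∈ normalizer (alt s : Set (alternatingGroup α)) ↔ g • s = s := by
  constructor
  · intro hg
    have h : alt (g • s) = alt s := by
      rw [← map_conj_alt]
      refine le_antisymm ?_ fun a ha => ⟨g⁻¹ * a * g, (mem_normalizer_iff''.mp hg a).mp ha, by
        simp [mul_assoc]⟩
      rintro _ ⟨a, ha, rfl⟩
      exact (mem_normalizer_iff.mp hg a).mp ha
    exact (Finset.eq_of_subset_of_card_le (subset_of_alt_le hs h.ge)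
      (Finset.card_smul_finset g s).le).symm
  · intro h
    have he : (alt s).map (MulAut.conj g).toMonoidHom = alt s := by rw [map_conj_alt, h]
    refine mem_normalizer_iff.mpr fun a => ⟨fun ha => he.le ⟨a, ha, rfl⟩, fun ha => ?_⟩
    obtain ⟨c, hc, hce⟩ := he.ge ha
    simp only [MulEquiv.coe_toMonoidHom, MulAut.conj_apply] at hce
    rwa [mul_left_cancel (mul_right_cancel hce)] at hc

theorem odd_card_inf {s t : Finset α} (hst : (s ∩ t).card ≤ 3) :
    Odd (Nat.card ↥(alt s ⊓ alt t)) := by
  rw [← Nat.not_even_iff_odd, even_iff_two_dvd]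
  intro h
  have : Fact (Nat.Prime 2) := ⟨Nat.prime_two⟩
  obtain ⟨y, hy⟩ := exists_prime_orderOf_dvd_card' 2 h
  set σ : Perm α := ((y : alternatingGroup α) : Perm α) with hσ
  have ho : orderOf σ = 2 := by rw [hσ, Subgroup.orderOf_coe, Subgroup.orderOf_coe, hy]
  have hsupp : σ.support ⊆ s ∩ t := fun x hx => by
    rw [Finset.mem_inter]
    by_contra hne
    rcases not_and_or.mp hne with hn | hn
    · exact Perm.mem_support.mp hx (mem_alt.mp y.2.1 x hn)
    · exact Perm.mem_support.mp hx (mem_alt.mp y.2.2 x hn)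
  have hcard := (Finset.card_le_card hsupp).trans hst
  have hsign : Perm.sign σ = 1 := Perm.mem_alternatingGroup.mp (y : alternatingGroup α).2
  obtain ⟨n, hn⟩ := Perm.cycleType_prime_order (by rw [ho]; exact Nat.prime_two)
  rw [ho] at hn
  have hsum := Perm.sum_cycleType σ
  rw [hn, Multiset.sum_replicate, smul_eq_mul] at hsum
  rw [Perm.sign_of_cycleType, hn, Multiset.sum_replicate, Multiset.card_replicate, smul_eq_mul] at hsign
  rcases n with _ | n
  · norm_num at hsign
  · omega

/-- For n ≥ 9, the subgroup of the alternating group on Fin n fixing each of the points 0, 1, 2, 3 is a standard subgroup. -/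
theorem result (n : ℕ) (h4 : 4 ≤ n) (hn : 9 ≤ n) : Cfsg.IsStandardSubgroup (⨅ i : Fin 4, MulAction.stabilizer ↥(alternatingGroup (Fin n)) (Fin.castLE h4 i : Fin n)) := by
  set S : Finset (Fin n) := Finset.univ.map (Fin.castLEEmb h4) with hS
  have hSc : S.card = 4 := by rw [hS, Finset.card_map, Finset.card_univ, Fintype.card_fin]
  have hTc : Sᶜ.card = n - 4 := by rw [Finset.card_compl, hSc, Fintype.card_fin]
  have hL : (⨅ i : Fin 4, MulAction.stabilizer ↥(alternatingGroup (Fin n)) (Fin.castLE h4 i : Fin n))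
      = alt Sᶜ := by
    ext k
    simp only [Subgroup.mem_iInf, MulAction.mem_stabilizer_iff, mem_alt, hS, Finset.mem_compl,
      not_not, Finset.mem_map, Finset.mem_univ, true_and, Fin.castLEEmb_apply,
      forall_exists_index, forall_apply_eq_imp_iff]
    rfl
  rw [hL]
  have hC : Subgroup.centralizer (alt Sᶜ : Set (alternatingGroup (Fin n))) = alt S := by
    rw [centralizer_alt (by omega), compl_compl]
  refine ⟨?_, ⟨?_, fun g hg => ?_⟩, fun g _ hcomm => ?_, ?_⟩
  · have h5 : 5 ≤ Nat.card ↥Sᶜ := by
      rw [Nat.card_eq_fintype_card, Fintype.card_coe]; omega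
    have := alternatingGroup.isSimpleGroup (α := ↥Sᶜ) h5
    exact (Components.isQuasisimple_congr
      (MonoidHom.ofInjective (alternatingGroup.ofSubtype_injective (s := Sᶜ)))).mp
      (Components.isQuasisimple_of_isSimpleGroup fun hc => by
        have := alternatingGroup.isMulCommutative_iff_card_le_three.mp hc
        omega)
  · rw [hC, even_iff_two_dvd]
    have hfour : 4 ≤ Nat.card ↥S := by rw [Nat.card_eq_fintype_card, Fintype.card_coe]; omega
    have hi : Nat.card ↥(alt S) = Nat.card (alternatingGroup ↥S) :=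
      (Nat.card_congr (MonoidHom.ofInjective (alternatingGroup.ofSubtype_injective (s := S))).toEquiv).symm
    have : Nontrivial ↥S := Fintype.one_lt_card_iff_nontrivial.mp (by rw [Fintype.card_coe]; omega)
    have h2 := two_mul_nat_card_alternatingGroup (α := ↥S)
    rw [Nat.card_perm, Nat.card_eq_fintype_card (α := ↥S), Fintype.card_coe, hSc,
      show Nat.factorial 4 = 24 from rfl] at h2
    rw [hi]
    omega
  · rw [hC] at hg ⊢
    rw [map_conj_alt]
    refine odd_card_inf ?_
    by_contra hcard
    apply hg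
    rw [normalizer_alt (by omega)]
    have h1 : S ∩ g • S = S := Finset.eq_of_subset_of_card_le Finset.inter_subset_left (by omega)
    exact (Finset.eq_of_subset_of_card_le (Finset.inter_eq_left.mp h1)
      (Finset.card_smul_finset g S).le).symm
  · rw [map_conj_alt, Subgroup.commutator_comm, Subgroup.commutator_eq_bot_iff_le_centralizer, hC]
      at hcomm
    have h1 := Finset.card_le_card (subset_of_alt_le (by rw [Finset.card_smul_finset]; omega) hcomm)
    rw [Finset.card_smul_finset] at h1
    omega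
  · rw [hC]
    ext g
    rw [normalizer_alt (by omega), normalizer_alt (by omega)]
    rw [Finset.ext_iff, Finset.ext_iff]
    simp only [Finset.mem_compl, ← Finset.inv_smul_mem_iff]
    exact forall_congr' fun x => not_iff_not

end Cfsg.Agent.S1323
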