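import Cfsg.Statements.S1324
import Cfsg.Agent.Lib.Coprime.Generation

set_option autoImplicit false
open Cfsg

namespace Cfsg.Agent.S1324

open Subgroup

variable {G : Type*} [Group G] [Finite G]

theorem card_mul_relIndex' {A B : Subgroup G} (hB : B ≤ A) :
    Nat.card B * B.relIndex A = Nat.card A := by
  rw [← relIndex_bot_left B, ← relIndex_bot_left A]
  exact relIndex_mul_relIndex ⊥ B A bot_le hB

theorem coprime_card_of_isElementaryAbelian {p : ℕ} [hp : Fact p.Prime] {A X : Subgroup G}
    (hA : Cfsg.IsElementaryAbelian p A) (hX : ¬ p ∣ Nat.card ↥X) :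
    (Nat.card A).Coprime (Nat.card X) := by
  obtain ⟨k, hk⟩ := (show IsPGroup p A from fun a => ⟨1, Subtype.ext (by
    simpa using hA.2 a a.2)⟩).exists_card_eq
  rw [hk]
  exact ((hp.out.coprime_iff_not_dvd).mpr hX).pow_left k

theorem relIndex_le {p : ℕ} [hp : Fact p.Prime] {A B : Subgroup G}
    (hA : Cfsg.IsElementaryAbelian p A) (hB : B ≤ A) {a : G} (ha : a ∈ A) (h : B ⊔ zpowers a = A) :
    B.relIndex A ≤ p := by
  have := hA.1
  have hn : zpowers a ≤ normalizer (B : Set G) := by
    refine le_trans (fun x hx => ?_) (centralizer_le_normalizer (B : Set G))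
    exact mem_centralizer_iff.mpr fun b hb =>
      congrArg Subtype.val (mul_comm' (⟨b, hB hb⟩ : A) ⟨x, zpowers_le.mpr ha hx⟩)
  rw [show B.relIndex A = B.relIndex (zpowers a) by
    conv_lhs => rw [← h, sup_comm]
    exact Coprime.relIndex_sup_right_of_le_normalizer hn]
  calc B.relIndex (zpowers a) ≤ Nat.card (zpowers a) :=
        Nat.le_of_dvd Nat.card_pos (relIndex_dvd_card _ _)
    _ = orderOf a := Nat.card_zpowers a
    _ ≤ p := orderOf_le_of_pow_eq_one hp.out.pos (hA.2 a ha)

/-- Let A be a noncyclic elementary abelian p-subgroup of a finite group H normalizing a subgroup X of order prime to p. Then X is generated by the subgroups X ∩ C_H(B), B ranging over the subgroups of A of index at most p. -/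
theorem result {H : Type*} [Group H] [Finite H] (p : ℕ) [Fact p.Prime] (A X : Subgroup H) (hA : Cfsg.IsElementaryAbelian p A) (hA2 : p ^ 2 ≤ Nat.card ↥A) (hX : ¬ p ∣ Nat.card ↥X) (hAX : A ≤ Subgroup.normalizer (X : Set H)) : X = ⨆ B : {B : Subgroup H // B ≤ A ∧ B.relIndex A ≤ p}, X ⊓ Subgroup.centralizer ((B : Subgroup H) : Set H) := by
  have := hA.1
  refine le_antisymm ?_ (iSup_le fun _ => inf_le_left)
  refine Coprime.le_of_forall_cyclic_quotient hAX (coprime_card_of_isElementaryAbelian hA hX)
    fun B hB ⟨a, ha, hsup⟩ => ?_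
  exact le_iSup (fun B : {B : Subgroup H // B ≤ A ∧ B.relIndex A ≤ p} =>
    X ⊓ centralizer ((B : Subgroup H) : Set H)) ⟨B, hB, relIndex_le hA hB ha hsup⟩

end Cfsg.Agent.S1324
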