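import Cfsg.Statements.S1326
import Cfsg.Agent.Lib.Components.GenFitting
-- import your own Cfsg.Agent.* helpers here

set_option autoImplicit false
open Cfsg

namespace Cfsg.Agent.S1326

open Cfsg.Agent.Components Subgroup
open scoped commutatorElement

/-- For a finite group X: the Fitting subgroup contains its centralizer if and only if the layer of X is trivial. -/
theorem result {X : Type*} [Group X] [Finite X] : Subgroup.centralizer (Cfsg.fittingSubgroup X : Set X) ≤ Cfsg.fittingSubgroup X ↔ Cfsg.layer X = ⊥ := by
  constructor
  · intro h
    rw [layer_eq_bot_iff]
    rintro ⟨K, hK⟩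
    have hle : K ≤ Cfsg.fittingSubgroup X :=
      (le_centralizer_of_commutator_eq_bot (IsComponent.commutator_fittingSubgroup hK)).trans h
    exact IsComponent.not_isSolvable hK
      (Group.isSolvable_of_isSolvable_injective (f := inclusion hle) (inclusion_injective hle))
  · intro h
    have := centralizer_generalizedFittingSubgroup_le (G := X)
    rwa [Cfsg.generalizedFittingSubgroup, h, bot_sup_eq] at this

end Cfsg.Agent.S1326
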