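import Cfsg.Statements.S1328
import Cfsg.Agent.Lib.Balance.Components
import Cfsg.Agent.Lib.Coprime.Basic

set_option autoImplicit false
open Cfsg

namespace Cfsg.Agent.S1328

/-- Let G be finite, H ≤ G with O(H) = 1, t an involution of G normalizing H, and Y a nontrivial subgroup of O(C_H(t)). Then some component E of H is normalized by t and by Y and centralized by neither t nor Y. -/
theorem result {G : Type*} [Group G] [Finite G] (H : Subgroup G) (hO : Cfsg.oddCore ↥H = ⊥) (t : G) (ht : orderOf t = 2) (htH : t ∈ Subgroup.normalizer (H : Set G)) (Y : Subgroup G) (hY1 : Y ≠ ⊥) (hY : Y ≤ (Cfsg.oddCore ↥(H ⊓ Subgroup.centralizer ({t} : Set G))).map (H ⊓ Subgroup.centralizer ({t} : Set G)).subtype) : ∃ E : Subgroup ↥H, Cfsg.IsComponent E ∧ (E.map H.subtype).map (MulAut.conj t).toMonoidHom = E.map H.subtype ∧ Y ≤ Subgroup.normalizer ((E.map H.subtype : Subgroup G) : Set G) ∧ ¬ (t ∈ Subgroup.centralizer ((E.map H.subtype : Subgroup G) : Set G)) ∧ ¬ (Y ≤ Subgroup.centralizer ((E.map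 H.subtype : Subgroup G) : Set G)) := by
  have hp : Fact (Nat.Prime 2) := ⟨Nat.prime_two⟩
  set S : Subgroup G := Subgroup.zpowers t ⊔ H with hS
  have hHS : H ≤ S := le_sup_right
  have htS : t ∈ S := Subgroup.mem_sup_left (Subgroup.mem_zpowers t)
  have hzt : Subgroup.zpowers t ≤ Subgroup.normalizer (H : Set G) := Subgroup.zpowers_le.mpr htH
  set H' : Subgroup ↥S := H.subgroupOf S with hH'
  set e : ↥H' ≃* ↥H := Subgroup.subgroupOfEquivOfLe hHS with he
  set b : ↥S := ⟨t, htS⟩ with hb
  have hb2 : b ^ 2 = 1 := Subtype.ext (by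
    simp only [hb, SubmonoidClass.mk_pow, Subgroup.coe_one, ← ht, pow_orderOf_eq_one])
  have hSH : S ≤ Subgroup.normalizer (H : Set G) := sup_le hzt Subgroup.le_normalizer
  have hH'n : H'.Normal := Subgroup.normal_subgroupOf_of_le_normalizer hSH
  have hO' : Cfsg.pPrimeCore 2 ↥H' = ⊥ := (PCore.pPrimeCore_eq_bot_congr e).mpr hO
  -- `O(S) = 1`
  have hidx : H'.index ∣ 2 := by
    show H.relIndex S ∣ 2
    rw [hS, Coprime.relIndex_sup_right_of_le_normalizer hzt, ← ht, ← Nat.card_zpowers]
    exact Subgroup.relIndex_dvd_card _ _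
  have hOS : Cfsg.pPrimeCore 2 ↥S = ⊥ := by
    set O := Cfsg.pPrimeCore 2 ↥S with hOdef
    have h1 : O.subgroupOf H' = ⊥ := by
      rw [hOdef, ← PCore.pPrimeCore_normal_subgroup_eq H', hO']
    have h2 : H'.relIndex O = Nat.card O := by
      have : H'.subgroupOf O = ⊥ := by
        rw [Subgroup.subgroupOf_eq_bot] at h1 ⊢
        exact h1.symm
      rw [Subgroup.relIndex, this, Subgroup.index_bot]
    have h3 : Nat.card O ∣ 2 := h2 ▸ (Subgroup.relIndex_dvd_index_of_normal H' O).trans hidx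
    exact Subgroup.eq_bot_of_card_eq _ (Nat.eq_one_of_dvd_coprimes
      PCore.coprime_card_pPrimeCore dvd_rfl h3)
  set R := Subgroup.zpowers b with hR
  have hRp : IsPGroup 2 ↥R := fun x => ⟨1, Subtype.ext (by
    obtain ⟨i, hi⟩ := x.2
    simp only [SubmonoidClass.coe_pow, OneMemClass.coe_one, pow_one, ← hi]
    rw [← zpow_natCast, ← zpow_mul, mul_comm, zpow_mul, zpow_natCast, hb2, one_zpow])⟩
  -- `Y` lands in `O(C(t))` computed in `S`
  set C := H ⊓ Subgroup.centralizer ({t} : Set G) with hC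
  set D : Subgroup ↥S := ((Cfsg.oddCore ↥C).map C.subtype).subgroupOf S with hD
  have hCb : Subgroup.centralizer (R : Set ↥S) = Subgroup.centralizer {b} := by
    rw [hR, Subgroup.zpowers_eq_closure, Subgroup.centralizer_closure]
  have hDC : D ≤ Subgroup.centralizer (R : Set ↥S) := by
    intro d hd
    rw [hCb, Subgroup.mem_centralizer_singleton_iff]
    have := ((Subgroup.map_subtype_le (Cfsg.oddCore ↥C) : _ ≤ H ⊓ Subgroup.centralizer ({t} : Set G)) (hd : (d : G) ∈ _)).2
    exact Subtype.ext (Subgroup.mem_centralizer_singleton_iff.mp this)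
  have hDN : Subgroup.centralizer (R : Set ↥S) ≤ Subgroup.normalizer (D : Set ↥S) := by
    intro c hc
    rw [hCb, Subgroup.mem_centralizer_singleton_iff] at hc
    have hc' : (c : G) ∈ Subgroup.normalizer (C : Set G) := by
      refine Subgroup.inf_normalizer_le_normalizer_inf ⟨hSH c.2, Subgroup.le_normalizer ?_⟩
      exact Subgroup.mem_centralizer_singleton_iff.mpr (congrArg Subtype.val hc)
    have hc'' := Components.normalizer_le_normalizer_map_of_characteristic C (Cfsg.oddCore ↥C) hc'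
    refine Subgroup.mem_normalizer_iff.mpr fun d => ?_
    exact (Subgroup.mem_normalizer_iff.mp hc'' (d : G))
  have hDc : (Nat.card ↥D).Coprime 2 := by
    rw [hD, Nat.card_congr (Subgroup.subgroupOfEquivOfLe ((Subgroup.map_subtype_le _).trans
      (inf_le_left.trans hHS))).toEquiv, Subgroup.card_map_of_injective C.subtype_injective]
    exact PCore.coprime_card_pPrimeCore
  have hDN' : D ≤ Balance.core' 2 (Balance.centR 2 R) := Balance.le_core'_centR hRp hDC hDN hDc
  have hcomp : ∀ K : Subgroup ↥S, Cfsg.IsComponent K → K ≤ H' := by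
    intro K hK
    rw [← Components.IsComponent.commutator_self hK, ← QuotientGroup.ker_mk' H', Subgroup.commutator_le]
    intro x _ y _
    have hle : Nat.card (↥S ⧸ H') ≤ 2 := Nat.le_of_dvd (by norm_num) hidx
    have hpos : 0 < Nat.card (↥S ⧸ H') := Nat.card_pos
    have : IsCyclic (↥S ⧸ H') := by
      rcases (show Nat.card (↥S ⧸ H') = 1 ∨ Nat.card (↥S ⧸ H') = 2 by omega) with h | h
      · have := (Nat.card_eq_one_iff_unique.mp h).1
        infer_instance
      · exact isCyclic_of_prime_card h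
    let := IsCyclic.commGroup (α := ↥S ⧸ H')
    rw [MonoidHom.mem_ker, map_commutatorElement, commutatorElement_eq_one_iff_mul_comm]
    exact mul_comm _ _
  -- some component is normalised by `t` but centralised by neither `t` nor `Y`
  obtain ⟨y₀, hy₀, hy₀1⟩ := (Subgroup.bot_or_exists_ne_one Y).resolve_left hY1
  have hyS : ∀ y ∈ Y, y ∈ S := fun y hy =>
    hHS ((Subgroup.map_subtype_le _).trans inf_le_left (hY hy))
  have hyN : ∀ y (hy : y ∈ Y), (⟨y, hyS y hy⟩ : ↥S) ∈ Balance.core' 2 (Balance.centR 2 R) :=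
    fun y hy => hDN' (hY hy : y ∈ (Cfsg.oddCore ↥C).map C.subtype)
  obtain ⟨K, hK, hKb, hKbc, hKy⟩ : ∃ K : Subgroup ↥S, Cfsg.IsComponent K ∧
      b ∈ Subgroup.normalizer (K : Set ↥S) ∧ ¬ (∀ x ∈ K, Commute b x) ∧
      ¬ (∀ x ∈ K, Commute (⟨y₀, hyS y₀ hy₀⟩ : ↥S) x) := by
    by_contra hcon
    push Not at hcon
    refine hy₀1 (congrArg Subtype.val (Balance.eq_one_of_centralizes hOS
      (Balance.coprime_orderOf_of_mem_core' (hyN y₀ hy₀)) (fun z hz => ?_) fun K hK => ?_))
    · exact (Subgroup.mem_centralizer_iff.mp (Balance.core'_le _ (hyN y₀ hy₀)).2 z hz).symm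
    · by_cases h1 : b ∈ Subgroup.normalizer (K : Set ↥S)
      · by_cases h2 : ∀ x ∈ K, Commute b x
        · exact Balance.commute_of_fixed hOS hRp (hyN y₀ hy₀) hK h2
        · exact hcon K hK h1 (by simpa using h2)
      · exact Balance.commute_of_moved hOS hb2 (hyN y₀ hy₀) hK h1
  -- pull back to `H`
  have hKH := hcomp K hK
  refine ⟨(K.subgroupOf H').map e.toMonoidHom,
    Components.IsComponent.map_equiv (Components.IsComponent.subgroupOf_of_le hK hKH) e, ?_⟩
  have himg : ((K.subgroupOf H').map e.toMonoidHom).map H.subtype = K.map S.subtype := by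
    rw [Subgroup.map_map, ← Subgroup.map_subgroupOf_eq_of_le hKH, Subgroup.map_map,
      Subgroup.map_subgroupOf_eq_of_le hKH]
    rfl
  rw [himg]
  have hnorm : ∀ s : ↥S, s ∈ Subgroup.normalizer (K : Set ↥S) →
      (s : G) ∈ Subgroup.normalizer ((K.map S.subtype : Subgroup G) : Set G) :=
    fun s hs => K.le_normalizer_map S.subtype (Subgroup.mem_map_of_mem S.subtype hs)
  refine ⟨?_, fun y hy => hnorm _ (Balance.mem_normalizer_of_mem_core' hOS hRp (hyN y hy) hK),
    fun h => hKbc fun x hx => ?_, fun h => hKy fun x hx => ?_⟩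
  · exact Balance.map_conj_eq_of_mem_normalizer (hnorm b hKb)
  · exact Subtype.ext (Subgroup.mem_centralizer_iff.mp h _ (Subgroup.mem_map_of_mem S.subtype hx)).symm
  · exact Subtype.ext (Subgroup.mem_centralizer_iff.mp (h hy₀) _ (Subgroup.mem_map_of_mem S.subtype hx)).symm

end Cfsg.Agent.S1328
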