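import Cfsg.Statements.S1331
import Cfsg.Agent.S1324

set_option autoImplicit false
open Cfsg

namespace Cfsg.Agent.S1331

/-- Let θ be a solvable A-signalizer functor on the finite group G for the prime p, A elementary abelian of rank at least 3, X a member of the family of θ, and B ≤ A with |B| ≥ p². Then X is generated by the subgroups X ∩ ⋂_{d ∈ D, d ≠ 1} θ d, D ranging over the subgroups of index p in B. -/
theorem result {G : Type*} [Group G] [Finite G] (p : ℕ) [Fact p.Prime] (A : Subgroup G) (hA : Cfsg.IsElementaryAbelian p A) (hA3 : p ^ 3 ≤ Nat.card ↥A) (θ : G → Subgroup G) (hθ : Cfsg.IsSolvableSignalizerFunctor p A θ) (X : Subgroup G) (hX : X ∈ Cfsg.signalizerFamily p A θ) (B : Subgroup G) (hB : B ≤ A) (hB2 : p ^ 2 ≤ Nat.card ↥B) : X = ⨆ D : {D : Subgroup G // D ≤ B ∧ D.relIndex B = p}, X ⊓ Cfsg.signalizerInf (D : Subgroup G) θ := by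
  obtain ⟨-, hXp, hXA, hXc⟩ := hX
  have hB' : Cfsg.IsElementaryAbelian p B := by
    have := hA.1
    refine ⟨⟨⟨fun x y => Subtype.ext ?_⟩⟩, fun b hb => hA.2 b (hB hb)⟩
    have h := congrArg Subtype.val (mul_comm' (⟨x, hB x.2⟩ : A) ⟨y, hB y.2⟩)
    exact h
  have hBN : B ≤ Subgroup.normalizer (X : Set G) := by
    intro b hb
    refine Subgroup.mem_normalizer_iff.mpr fun x => ⟨hXA b (hB hb) x, fun h => ?_⟩
    have := hXA b⁻¹ (inv_mem (hB hb)) _ h
    simpa [mul_assoc] using this
  refine le_antisymm ?_ (iSup_le fun _ => inf_le_left)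
  have hgen := (S1324.result p B X hB' hB2 hXp hBN).le
  refine hgen.trans (iSup_le fun ⟨D, hD, hDi⟩ => ?_)
  -- a subgroup of index exactly `p` below `D`
  obtain ⟨E, hED, hEB, hEi⟩ : ∃ E : Subgroup G, E ≤ D ∧ E ≤ B ∧ E.relIndex B = p := by
    obtain ⟨k, hk⟩ := (show IsPGroup p B from fun a => ⟨1, Subtype.ext (by
      simpa using hB'.2 a a.2)⟩).exists_card_eq
    have hr := S1324.card_mul_relIndex' hD
    obtain ⟨j, hjk, hj⟩ := (Nat.dvd_prime_pow (Fact.out : p.Prime)).mp (hk ▸ Dvd.intro_left _ hr)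
    have hcases : j = 0 ∨ j = 1 := by
      have : p ^ j ≤ p ^ 1 := by rw [pow_one, ← hj]; exact hDi
      have := (Nat.pow_le_pow_iff_right (Fact.out : p.Prime).one_lt).mp this
      omega
    rcases hcases with rfl | rfl
    · rw [pow_zero, Subgroup.relIndex_eq_one] at hj
      have hk1 : 1 ≤ k := by
        rcases Nat.eq_zero_or_pos k with rfl | h
        · rw [hk, pow_zero] at hB2
          exact absurd hB2 (not_le.mpr (Nat.one_lt_pow (by norm_num) (Fact.out : p.Prime).one_lt))
        · exact h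
      obtain ⟨E', hE'⟩ := Sylow.exists_subgroup_card_pow_prime p (G := ↥B) (n := k - 1)
        (hk ▸ pow_dvd_pow p (Nat.sub_le k 1))
      refine ⟨E'.map B.subtype, (Subgroup.map_subtype_le E').trans hj, Subgroup.map_subtype_le E', ?_⟩
      have h1 := S1324.card_mul_relIndex' (Subgroup.map_subtype_le E')
      rw [Subgroup.card_map_of_injective B.subtype_injective, hE', hk] at h1
      have h2 : p ^ k = p ^ (k - 1) * p := by rw [← pow_succ, Nat.sub_add_cancel hk1]
      exact Nat.eq_of_mul_eq_mul_left (pow_pos (Fact.out : p.Prime).pos _) (h1.trans h2)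
    · exact ⟨D, le_rfl, hD, by rw [hj, pow_one]⟩
  refine le_trans ?_ (le_iSup _ (⟨E, hEB, hEi⟩ : {D : Subgroup G // D ≤ B ∧ D.relIndex B = p}))
  refine le_inf inf_le_left (le_iInf fun ⟨d, hd, hd1⟩ => ?_)
  refine le_trans (inf_le_inf_left X (Subgroup.centralizer_le ?_)) (hXc d (hB (hEB hd)) hd1)
  exact Set.singleton_subset_iff.mpr (hED hd)

end Cfsg.Agent.S1331
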