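import Cfsg.Statements.S1335


set_option autoImplicit false
open Cfsg

namespace Cfsg.Agent.S1335

/-- Let H be a subgroup of the finite group G, p a prime, k ≥ 1, P a Sylow p-subgroup of H of p-rank at least k, and suppose N_G(X) ≤ H for every subgroup X ≤ P of p-rank at least k. Then P is a Sylow p-subgroup of G. -/
theorem result {G : Type*} [Group G] [Finite G] {p : ℕ} [Fact p.Prime] (k : ℕ) (hk : 1 ≤ k) (H : Subgroup G) (P : Sylow p ↥H) (hP : ¬ Cfsg.PRankLE p (k - 1) ↥(P : Subgroup ↥H)) (hΓ : (∀ X : Subgroup G, X ≤ (P : Subgroup ↥H).map H.subtype → ¬ Cfsg.PRankLE p (k - 1) ↥X → Subgroup.normalizer (X : Set G) ≤ H)) : ∃ Q : Sylow p G, (Q : Subgroup G) = (P : Subgroup ↥H).map H.subtype := by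
  set P' : Subgroup G := (P : Subgroup ↥H).map H.subtype with hP'def
  have hP'H : P' ≤ H := Subgroup.map_subtype_le _
  have hP'p : IsPGroup p P' := P.isPGroup'.map _
  obtain ⟨Q, hQ⟩ := hP'p.exists_le_sylow
  refine ⟨Q, ?_⟩
  by_contra hne
  let e : ↥(P : Subgroup ↥H) ≃* ↥P' := (P : Subgroup ↥H).equivMapOfInjective _ H.subtype_injective
  have hrk : ¬ Cfsg.PRankLE p (k - 1) ↥P' := by
    intro hle
    refine hP fun A hA hA' => ?_
    have hA'' : ∀ a ∈ A.map e.toMonoidHom, a ^ p = 1 := by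
      rintro _ ⟨a, ha, rfl⟩
      rw [← map_pow, hA' a ha, map_one]
    have := hle (A.map e.toMonoidHom) (Subgroup.map_isMulCommutative A _) hA''
    rwa [Subgroup.card_map_of_injective e.injective] at this
  have hN := hΓ P' le_rfl hrk
  -- normalizers grow in `Q`
  have hlt : P'.subgroupOf Q < ⊤ := by
    rw [lt_top_iff_ne_top, Ne, Subgroup.subgroupOf_eq_top]
    exact fun h => hne (le_antisymm h hQ)
  have : Group.IsNilpotent (Q : Subgroup G) := Q.isPGroup'.isNilpotent
  have hgrow := Group.normalizerCondition_of_isNilpotent (P'.subgroupOf Q) hlt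
  obtain ⟨x, hx, hxn⟩ := SetLike.exists_of_lt hgrow
  have hxN : (x : G) ∈ Subgroup.normalizer (P' : Set G) := by
    rw [Subgroup.mem_normalizer_iff] at hx ⊢
    intro y
    refine ⟨fun hy => ?_, fun hy => ?_⟩
    · exact (hx ⟨y, hQ hy⟩).mp hy
    · have hyQ : y ∈ (Q : Subgroup G) := by
        have := mul_mem (mul_mem (inv_mem x.2) (hQ hy)) x.2
        simpa [mul_assoc] using this
      exact (hx ⟨y, hyQ⟩).mpr hy
  have hxH : (x : G) ∈ H := hN hxN
  -- the Sylow subgroup `P` of `H` is then not maximal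
  have hsup : IsPGroup p ↥(((Q : Subgroup G)).subgroupOf H) :=
    Q.isPGroup'.comap_of_injective _ H.subtype_injective
  have hPle : (P : Subgroup ↥H) ≤ (Q : Subgroup G).subgroupOf H := fun y hy =>
    hQ (Subgroup.mem_map_of_mem H.subtype hy)
  have heq := P.is_maximal' hsup hPle
  apply hxn
  have : (⟨x, hxH⟩ : H) ∈ (P : Subgroup ↥H) := heq ▸ x.2
  exact Subgroup.mem_map_of_mem H.subtype this

end Cfsg.Agent.S1335
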