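import Cfsg.Statements.S1336
import Cfsg.Agent.Lib.StrongEmb.Basic
import Cfsg.Agent.Lib.PGroup.ElementaryAbelian

set_option autoImplicit false
set_option linter.style.haveILetI false
open Cfsg

namespace Cfsg.Agent.S1336

variable {G : Type*} [Group G] [Finite G] (p : ℕ) [hp : Fact p.Prime]

set_option quotPrecheck false in
local notation "R" => fun A B : Subgroup G => IsElementaryAbelian p A ∧ p ^ 1 ≤ Nat.card ↥A ∧
  IsElementaryAbelian p B ∧ p ^ 1 ≤ Nat.card ↥B ∧ ∀ a ∈ A, ∀ b ∈ B, a * b = b * a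

theorem node {x : G} (hx : orderOf x = p) :
    IsElementaryAbelian p (Subgroup.zpowers x) ∧ p ^ 1 ≤ Nat.card ↥(Subgroup.zpowers x) :=
  ⟨PGroup.isElementaryAbelian_zpowers (hx ▸ pow_orderOf_eq_one x), by rw [Nat.card_zpowers, hx, pow_one]⟩

theorem exists_mem_orderOf {E : Subgroup G} (hE : IsElementaryAbelian p E) (hEc : p ^ 1 ≤ Nat.card ↥E) :
    ∃ x ∈ E, orderOf x = p := by
  have hne : E ≠ ⊥ := fun h => by
    rw [h, Subgroup.card_bot, pow_one] at hEc
    exact absurd hp.out.one_lt (by omega)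
  obtain ⟨x, hx, hx1⟩ := (Subgroup.ne_bot_iff_exists_ne_one).mp hne |> fun ⟨x, hx⟩ =>
    (⟨x, x.2, fun h => hx (Subtype.ext h)⟩ : ∃ y : G, y ∈ E ∧ y ≠ 1)
  exact ⟨x, hx, orderOf_eq_prime (hE.2 x hx) hx1⟩

/-- every node inside a Sylow subgroup touches the centre of that subgroup -/
theorem exists_hub (S : Sylow p G) (hS : (S : Subgroup G) ≠ ⊥) :
    ∃ z ∈ (S : Subgroup G), orderOf z = p ∧ ∀ s ∈ (S : Subgroup G), z * s = s * z := by
  haveI : (⊤ : Subgroup ↥(S : Subgroup G)).Normal := inferInstance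
  have htop : (⊤ : Subgroup ↥(S : Subgroup G)) ≠ ⊥ := by
    haveI := (Subgroup.nontrivial_iff_ne_bot _).mpr hS
    exact top_ne_bot
  obtain ⟨z, -, hzc, hz⟩ := PGroup.exists_orderOf_eq_mem_center S.2 (⊤ : Subgroup ↥(S : Subgroup G)) htop
  exact ⟨z, z.2, by rw [Subgroup.orderOf_coe]; exact hz, fun s hs =>
    (congrArg Subtype.val (Subgroup.mem_center_iff.mp hzc ⟨s, hs⟩)).symm⟩

theorem connected_of_chain (h : IsSylowChainConnected p G) : IsKConnected p 1 G := by
  rw [StrongEmb.connected_iff] at h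
  intro E E' hE hEc hE' hEc'
  obtain ⟨S, hS⟩ := (PGroup.isPGroup_of_elementaryAbelian hE).exists_le_sylow
  obtain ⟨T, hT⟩ := (PGroup.isPGroup_of_elementaryAbelian hE').exists_le_sylow
  obtain ⟨x, hxE, hx⟩ := exists_mem_orderOf p hE hEc
  have hne : ∀ U : Sylow p G, (U : Subgroup G) ≠ ⊥ := fun U hU => by
    obtain ⟨g, hg⟩ := MulAction.exists_smul_eq G U S
    have hxS := hS hxE
    rw [← hg, StrongEmb.mem_smul_sylow_iff, hU, Subgroup.mem_bot] at hxS
    have : x = 1 := by simpa [mul_assoc] using congrArg (fun y => g * y * g⁻¹) hxS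
    rw [this, orderOf_one] at hx
    exact hp.out.ne_one hx.symm
  choose z hzS hzo hzc using fun U => exists_hub p U (hne U)
  have touch : ∀ (U : Sylow p G) (A : Subgroup G), IsElementaryAbelian p A → p ^ 1 ≤ Nat.card ↥A →
      A ≤ U → R A (Subgroup.zpowers (z U)) ∧ R (Subgroup.zpowers (z U)) A := by
    intro U A hA hAc hAU
    have hc : ∀ a ∈ A, ∀ b ∈ Subgroup.zpowers (z U), a * b = b * a := by
      rintro a ha _ ⟨i, rfl⟩
      exact ((show Commute (z U) a from hzc U a (hAU ha)).zpow_left i).eq.symm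
    obtain ⟨n1, n2⟩ := node p (hzo U)
    exact ⟨⟨hA, hAc, n1, n2, hc⟩, ⟨n1, n2, hA, hAc, fun b hb a ha => (hc a ha b hb).symm⟩⟩
  have key : ∀ U : Sylow p G, StrongEmb.Reach S U →
      Relation.ReflTransGen R E (Subgroup.zpowers (z U)) := by
    intro U hU
    induction hU with
    | refl => exact .single (touch S E hE hEc hS).1
    | @tail A B _ hAB ih =>
      have hint : IsPGroup p ↥((A : Subgroup G) ⊓ B) := A.2.to_le inf_le_left
      haveI := (Subgroup.nontrivial_iff_ne_bot _).mpr hAB.2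
      obtain ⟨n, hn, hc⟩ := hint.nontrivial_iff_card.mp inferInstance
      obtain ⟨w, hw⟩ := exists_prime_orderOf_dvd_card' p (hc ▸ dvd_pow_self p hn.ne' :
        p ∣ Nat.card ↥((A : Subgroup G) ⊓ B))
      have hwo : orderOf (w : G) = p := by rw [Subgroup.orderOf_coe]; exact hw
      obtain ⟨n1, n2⟩ := node p hwo
      exact (ih.tail (touch A _ n1 n2 (Subgroup.zpowers_le.mpr w.2.1)).2).tail
        (touch B _ n1 n2 (Subgroup.zpowers_le.mpr w.2.2)).1
  exact (key T (h S T)).tail (touch T E' hE' hEc' hT).2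

/-- Let G be finite and p prime. Then G has a proper subgroup H with p ∣ |H| and p ∤ |H ∩ gHg⁻¹| for every g ∉ H (a strongly p-embedded subgroup) if and only if G is not 1-connected for p. -/
theorem result {G : Type*} [Group G] [Finite G] (p : ℕ) [Fact p.Prime] : (∃ H : Subgroup G, H ≠ ⊤ ∧ p ∣ Nat.card ↥H ∧ ∀ g : G, g ∉ H → ¬ p ∣ Nat.card ↥(H ⊓ H.map (MulAut.conj g).toMonoidHom)) ↔ ¬ Cfsg.IsKConnected p 1 G := by
  have hp := Fact.out (p := p.Prime)
  constructor
  · rintro ⟨H, hH, hpH, hse⟩ hcon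
    obtain ⟨⟨x, hxH⟩, hx⟩ := exists_prime_orderOf_dvd_card' p hpH
    rw [Subgroup.orderOf_mk] at hx
    obtain ⟨g, hg⟩ : ∃ g : G, g ∉ H := by
      by_contra hh
      push Not at hh
      exact hH ((Subgroup.eq_top_iff' H).mpr hh)
    have hy : orderOf (g * x * g⁻¹) = p := by rw [← MulAut.conj_apply, MulEquiv.orderOf_eq]; exact hx
    have hyH : g * x * g⁻¹ ∉ H := fun hmem => hse g hg (by
      rw [← hy]
      exact Subgroup.orderOf_dvd_natCard _ ⟨hmem, x, hxH, rfl⟩)
    obtain ⟨n1, n2⟩ := node p hx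
    obtain ⟨m1, m2⟩ := node p hy
    refine hyH ?_
    suffices h : ∀ B : Subgroup G, Relation.ReflTransGen _ (Subgroup.zpowers x) B → B ≤ H from
      h _ (hcon _ _ n1 n2 m1 m2) (Subgroup.mem_zpowers _)
    intro B hB
    induction hB with
    | refl => exact Subgroup.zpowers_le.mpr hxH
    | @tail A C _ hAC ih =>
      obtain ⟨hA, hAc, -, -, hcomm⟩ := hAC
      obtain ⟨a, ha, hao⟩ := exists_mem_orderOf p hA hAc
      exact fun c hc => StrongEmb.centralizer_le hse hao (ih ha)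
        (Subgroup.mem_centralizer_singleton_iff.mpr (hcomm a ha c hc).symm)
  · intro h
    obtain ⟨H, hH, hpH, hse⟩ := StrongEmb.exists_meetsPrime_of_not_connected
      (fun hc => h (connected_of_chain p hc))
    exact ⟨H, hH, hpH, hse⟩

end Cfsg.Agent.S1336
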