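import Cfsg.Statements.S1338
import Cfsg.Agent.Lib.PGroup.NormalRankFour

set_option autoImplicit false
open Cfsg

namespace Cfsg.Agent.S1338

open scoped commutatorElement

variable {P : Type*} [Group P] [Finite P]

theorem card_ker_comp_le {A B C : Type*} [Group A] [Group B] [Group C] [Finite A] [Finite B]
    (g : A →* B) (f : B →* C) : Nat.card ↥(f.comp g).ker ≤ Nat.card ↥g.ker * Nat.card ↥f.ker := by
  let h : ↥(f.comp g).ker →* ↥f.ker := g.subgroupComap f.ker
  have h1 := Subgroup.card_mul_index h.ker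
  rw [Subgroup.index_ker] at h1
  rw [← h1]
  refine Nat.mul_le_mul ?_ (Subgroup.card_le_card_group _)
  refine Nat.card_le_card_of_injective
    (fun a => (⟨(a : ↥(f.comp g).ker), congrArg Subtype.val (MonoidHom.mem_ker.mp a.2)⟩ : ↥g.ker)) ?_
  intro a b hab
  exact Subtype.ext (Subtype.ext (congrArg Subtype.val hab :))

/-- An element of order 3 fixes at least 9 points of a normal elementary abelian group of order `≥ 81`. -/
theorem nine_le_fixed (N : Subgroup P) [N.Normal] (hN : Cfsg.IsElementaryAbelian 3 N)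
    (hNc : 3 ^ 4 ≤ Nat.card ↥N) {x : P} (hx : x ^ 3 = 1) :
    3 ^ 2 ≤ Nat.card ↥(N ⊓ Subgroup.centralizer ({x} : Set P)) := by
  have hc : ∀ a b : ↥N, a * b = b * a := hN.1.is_comm.comm
  let D : ↥N →* ↥N :=
    { toFun := fun a => ⟨x * a * x⁻¹ * (a : P)⁻¹,
        mul_mem ((inferInstance : N.Normal).conj_mem _ a.2 x) (inv_mem a.2)⟩
      map_one' := Subtype.ext (by simp)
      map_mul' := fun a b => Subtype.ext (by
        show x * (a * b) * x⁻¹ * ((a : P) * b)⁻¹ = x * a * x⁻¹ * (a : P)⁻¹ * (x * b * x⁻¹ * (b : P)⁻¹)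
        have h := congrArg Subtype.val (hc (⟨x * b * x⁻¹ * (b : P)⁻¹,
          mul_mem ((inferInstance : N.Normal).conj_mem _ b.2 x) (inv_mem b.2)⟩) a⁻¹)
        simp only [Subgroup.coe_mul, Subgroup.coe_inv] at h
        calc x * (a * b) * x⁻¹ * ((a : P) * b)⁻¹
            = x * a * x⁻¹ * ((x * b * x⁻¹ * (b : P)⁻¹) * (a : P)⁻¹) := by group
          _ = x * a * x⁻¹ * ((a : P)⁻¹ * (x * b * x⁻¹ * (b : P)⁻¹)) := by rw [h]
          _ = _ := by group) }
  let σ : ↥N →* ↥N :=
    { toFun := fun a => ⟨x * a * x⁻¹, (inferInstance : N.Normal).conj_mem _ a.2 x⟩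
      map_one' := Subtype.ext (by simp)
      map_mul' := fun a b => Subtype.ext (by simp [mul_assoc]) }
  have hD : ∀ a, D a = σ a * a⁻¹ := fun a => rfl
  have htop : ((D.comp D).comp D).ker = ⊤ := by
    rw [eq_top_iff]
    intro n _
    rw [MonoidHom.mem_ker, MonoidHom.comp_apply, MonoidHom.comp_apply]
    simp only [hD, map_mul, map_inv]
    have h3 : ∀ a : ↥N, a * a * a = 1 := fun a => Subtype.ext (by
      show (a : P) * a * a = 1
      rw [← hN.2 a a.2, pow_succ, pow_two])
    have hs : σ (σ (σ n)) = n := Subtype.ext (by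
      show x * (x * (x * n * x⁻¹) * x⁻¹) * x⁻¹ = (n : P)
      calc x * (x * (x * n * x⁻¹) * x⁻¹) * x⁻¹ = x ^ 3 * n * (x ^ 3)⁻¹ := by rw [pow_succ, pow_two]; group
        _ = n := by rw [hx, one_mul, inv_one, mul_one])
    let instC : CommGroup ↥N := { (inferInstance : Group ↥N) with mul_comm := hc }
    rw [hs]
    set a := σ n with ha
    set b := σ a with hb
    clear_value a b
    have key : n * b⁻¹ * (b * a⁻¹)⁻¹ * (b * a⁻¹ * (a * n⁻¹)⁻¹)⁻¹ =
        (a * a * a) * (b * b * b)⁻¹ := by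
      apply Additive.ofMul.injective
      simp only [ofMul_mul, ofMul_inv]
      abel
    rw [key, h3, h3, inv_one, mul_one]
  have h1 : Nat.card ↥N ≤ Nat.card ↥D.ker * Nat.card ↥D.ker * Nat.card ↥D.ker := by
    rw [← Subgroup.card_top (G := ↥N), ← htop]
    calc _ ≤ Nat.card ↥D.ker * Nat.card ↥(D.comp D).ker := card_ker_comp_le _ _
      _ ≤ Nat.card ↥D.ker * (Nat.card ↥D.ker * Nat.card ↥D.ker) :=
          Nat.mul_le_mul_left _ (card_ker_comp_le _ _)
      _ = _ := by ring
  have h2 : Nat.card ↥D.ker ≤ Nat.card ↥(N ⊓ Subgroup.centralizer ({x} : Set P)) := by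
    refine Nat.card_le_card_of_injective (fun a => (⟨((a : ↥N) : P), (a : ↥N).2,
      Subgroup.mem_centralizer_singleton_iff.mpr ?_⟩ : ↥(N ⊓ Subgroup.centralizer ({x} : Set P)))) ?_
    · have h := congrArg Subtype.val (MonoidHom.mem_ker.mp a.2)
      change x * (a : ↥N) * x⁻¹ * ((a : ↥N) : P)⁻¹ = 1 at h
      exact (mul_inv_eq_iff_eq_mul.mp (mul_inv_eq_one.mp h)).symm
    · intro a b hab
      exact Subtype.ext (Subtype.ext (congrArg Subtype.val hab :))
  obtain ⟨k, hk⟩ := (PGroup.isPGroup_of_elementaryAbelian (PGroup.isElementaryAbelian_mono hN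
    (inf_le_left : N ⊓ Subgroup.centralizer ({x} : Set P) ≤ N))).exists_card_eq
  rw [hk] at h2 ⊢
  refine Nat.pow_le_pow_right (by norm_num) ?_
  by_contra hlt
  have h3 : 3 ^ k ≤ 3 ^ 1 := Nat.pow_le_pow_right (by norm_num) (by omega)
  have : Nat.card ↥D.ker ≤ 3 := by omega
  have h4 := Nat.mul_le_mul (Nat.mul_le_mul this this) this
  omega

/-- A finite 3-group of 3-rank at least 4 is 2-connected for the prime 3: its commuting graph on elementary abelian subgroups of order ≥ 9 is connected. -/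
theorem result {P : Type*} [Group P] [Finite P] (hP : IsPGroup 3 P) (hrk : ¬ Cfsg.PRankLE 3 3 P) : Cfsg.IsKConnected 3 2 P := by
  have : Fact (Nat.Prime 3) := ⟨Nat.prime_three⟩
  have hrk2 : ¬ Cfsg.PRankLE 3 2 P := fun h => hrk fun A hA hA' => (h A hA hA').trans (by norm_num)
  obtain ⟨U, hUn, hU, hUc, hchain⟩ := S1337.result 3 hP hrk2
  obtain ⟨N, hNn, hN, hNc⟩ := PGroup.exists_normal_elementary_card_ge_four hP (by norm_num) hrk
  have hQ : ∀ X : Subgroup P, Cfsg.IsElementaryAbelian 3 X → 3 ^ 2 ≤ Nat.card ↥X →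
      ¬ Cfsg.PRankLE 3 2 ↥(Subgroup.centralizer (X : Set P)) := by
    intro X hX hXc
    rw [S1337.not_rankLE_centralizer_iff hX]
    by_cases hX3 : 3 ^ 2 < Nat.card ↥X
    · exact ⟨X, hX, le_rfl, hX3⟩
    have hXc' : Nat.card ↥X = 3 ^ 2 := by omega
    have hPne : (⊤ : Subgroup P) ≠ ⊥ := fun h => by
      have h1 := Subgroup.card_le_of_le (h ▸ le_top : X ≤ (⊥ : Subgroup P))
      rw [hXc', Subgroup.card_bot] at h1
      norm_num at h1
    obtain ⟨z, -, hzc, hz⟩ := PGroup.exists_orderOf_eq_mem_center hP (⊤ : Subgroup P) hPne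
    by_cases hzX : z ∈ X
    swap
    · refine ⟨X ⊔ Subgroup.zpowers z, PGroup.isElementaryAbelian_sup hX
        (PGroup.isElementaryAbelian_zpowers (hz ▸ pow_orderOf_eq_one z)) ?_, le_sup_left, ?_⟩
      · rintro a _ _ ⟨i, rfl⟩
        exact Commute.zpow_right (Subgroup.mem_center_iff.mp hzc a) i
      · have hlt : X < X ⊔ Subgroup.zpowers z :=
          left_lt_sup.mpr fun h => hzX (h (Subgroup.mem_zpowers z))
        rw [← hXc']
        exact lt_of_le_of_ne (Subgroup.card_le_of_le hlt.le)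
          fun h => hlt.ne (Subgroup.eq_of_le_of_card_ge hlt.le h.ge)
    obtain ⟨x, hxX, hxz⟩ : ∃ x ∈ X, x ∉ Subgroup.zpowers z := by
      by_contra hh
      push Not at hh
      have h1 := Subgroup.card_le_of_le (show X ≤ Subgroup.zpowers z from hh)
      rw [Nat.card_zpowers, hz, hXc'] at h1
      norm_num at h1
    have hgen : Subgroup.zpowers z ⊔ Subgroup.zpowers x = X := by
      have hn : (Subgroup.zpowers z).Normal := ⟨fun w hw g => by
        rw [Subgroup.mem_center_iff.mp (Subgroup.zpowers_le.mpr hzc hw) g, mul_inv_cancel_right]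
        exact hw⟩
      refine Subgroup.eq_of_le_of_card_ge
        (sup_le (Subgroup.zpowers_le.mpr hzX) (Subgroup.zpowers_le.mpr hxX)) ?_
      rw [PGroup.card_sup_zpowers _ hxz (by rw [hX.2 x hxX]; exact one_mem _), Nat.card_zpowers, hz,
        hXc']
      norm_num
    set F := N ⊓ Subgroup.centralizer ({x} : Set P) with hF
    have hFX : ∀ a ∈ X, ∀ b ∈ F, a * b = b * a := by
      intro a ha b hb
      have hle : X ≤ Subgroup.centralizer ({b} : Set P) := by
        rw [← hgen]
        exact sup_le (Subgroup.zpowers_le.mpr (Subgroup.mem_centralizer_singleton_iff.mpr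
            (Subgroup.mem_center_iff.mp hzc b).symm))
          (Subgroup.zpowers_le.mpr (Subgroup.mem_centralizer_singleton_iff.mpr
            (Subgroup.mem_centralizer_singleton_iff.mp hb.2).symm))
      exact Subgroup.mem_centralizer_singleton_iff.mp (hle ha)
    by_cases hXN : X ≤ N
    · exact ⟨N, hN, hXN, lt_of_lt_of_le (by norm_num) hNc⟩
    refine ⟨X ⊔ F, PGroup.isElementaryAbelian_sup hX (PGroup.isElementaryAbelian_mono hN inf_le_left)
      hFX, le_sup_left, ?_⟩
    have hlt : F < X ⊔ F := right_lt_sup.mpr fun h => hXN (h.trans inf_le_left)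
    exact lt_of_le_of_lt (nine_le_fixed N hN hNc (hX.2 x hxX))
      (lt_of_le_of_ne (Subgroup.card_le_of_le hlt.le)
        fun h => hlt.ne (Subgroup.eq_of_le_of_card_ge hlt.le h.ge))
  intro E E' hE hEc hE' hEc'
  refine ((hchain E hE hEc).mpr (hQ E hE hEc)).trans ?_
  have h := (hchain E' hE' hEc').mpr (hQ E' hE' hEc')
  exact Relation.ReflTransGen.mono (fun A B ⟨a1, a2, a3, a4, a5⟩ => ⟨a3, a4, a1, a2, fun b hb a ha => (a5 a ha b hb).symm⟩) _ _ h.swap

end Cfsg.Agent.S1338
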