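import Cfsg.Statements.S1339
import Cfsg.Agent.Lib.LocalChar.Basic
import Mathlib.LinearAlgebra.Matrix.Transvection
import Mathlib.Algebra.CharP.Two

set_option autoImplicit false
open Cfsg

namespace Cfsg.Agent.S1339

open Matrix

variable {F : Type*} [Field F] {n : ℕ}

/-- entries forced by commuting with `E_ij` -/
theorem comm_entries {i j : Fin n} {g : Matrix (Fin n) (Fin n) F}
    (h : g * Matrix.single i j 1 = Matrix.single i j 1 * g) :
    (∀ k, k ≠ i → g k i = 0) ∧ (∀ l, l ≠ j → g j l = 0) ∧ g i i = g j j := by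
  refine ⟨fun k hk => ?_, fun l hl => ?_, ?_⟩
  · have := congrArg (fun M : Matrix (Fin n) (Fin n) F => M k j) h
    simpa [hk] using this
  · have := congrArg (fun M : Matrix (Fin n) (Fin n) F => M i l) h
    simpa [hl] using this.symm
  · have := congrArg (fun M : Matrix (Fin n) (Fin n) F => M i j) h
    simpa using this

/-- Let F be a field with 2 elements, n ≥ 3, and t ∈ SL(n, F) a transvection (t = 1 + E_{ij}, i ≠ j). Then the generalized Fitting subgroup of C(t) is O_2(C(t)). -/
theorem result {F : Type*} [Field F] [Fintype F] [DecidableEq F] (hF : Fintype.card F = 2) (n : ℕ) (hn : 3 ≤ n) (i j : Fin n) (hij : i ≠ j) (t : Matrix.SpecialLinearGroup (Fin n) F) (ht : (t : Matrix (Fin n) (Fin n) F) = Matrix.transvection i j 1) : Cfsg.generalizedFittingSubgroup ↥(Subgroup.centralizer ({t} : Set (Matrix.SpecialLinearGroup (Fin n) F))) = Cfsg.pCore 2 ↥(Subgroup.centralizer ({t} : Set (Matrix.SpecialLinearGroup (Fin n) F))) := by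
  classical
  have hp : Fact (Nat.Prime 2) := ⟨Nat.prime_two⟩
  have hone : ∀ x : F, x ≠ 0 → x = 1 := fun x hx => by
    have := FiniteField.pow_card_sub_one_eq_one x hx
    rwa [hF, show 2 - 1 = 1 from rfl, pow_one] at this
  have hchar : CharP F 2 := by
    have h2 : (2 : F) = 0 := by
      by_contra h
      exact one_ne_zero (show (1 : F) = 0 by linear_combination hone 2 h)
    exact CharTwo.of_one_ne_zero_of_two_eq_zero one_ne_zero h2
  set E : Matrix (Fin n) (Fin n) F := Matrix.single i j 1 with hE
  set C := Subgroup.centralizer ({t} : Set (Matrix.SpecialLinearGroup (Fin n) F)) with hC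
  have ht' : (t : Matrix (Fin n) (Fin n) F) = 1 + E := ht
  have hmemC : ∀ g : Matrix.SpecialLinearGroup (Fin n) F,
      g ∈ C ↔ (g : Matrix (Fin n) (Fin n) F) * E = E * (g : Matrix (Fin n) (Fin n) F) := by
    intro g
    rw [hC, Subgroup.mem_centralizer_singleton_iff]
    constructor
    · intro h
      have := congrArg (fun x : Matrix.SpecialLinearGroup (Fin n) F => (x : Matrix (Fin n) (Fin n) F)) h
      simpa [ht', mul_add, add_mul] using this
    · intro h
      apply Subtype.ext
      simp [ht', mul_add, add_mul, h]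
  have hent : ∀ g : ↥C, (∀ k, k ≠ i → (g : Matrix.SpecialLinearGroup (Fin n) F) k i = 0) ∧
      (∀ l, l ≠ j → (g : Matrix.SpecialLinearGroup (Fin n) F) j l = 0) ∧
      (g : Matrix.SpecialLinearGroup (Fin n) F) i i = 1 ∧
      (g : Matrix.SpecialLinearGroup (Fin n) F) j j = 1 := by
    intro g
    obtain ⟨h1, h2, h3⟩ := comm_entries ((hmemC g).mp g.2)
    have hii : (g : Matrix.SpecialLinearGroup (Fin n) F) i i = 1 := by
      refine hone _ fun h0 => ?_
      have hd := (g : Matrix.SpecialLinearGroup (Fin n) F).det_coe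
      rw [Matrix.det_eq_zero_of_column_eq_zero i fun k => ?_] at hd
      · exact zero_ne_one hd
      · by_cases hk : k = i
        · rw [hk]; exact h0
        · exact h1 k hk
    exact ⟨h1, h2, hii, h3 ▸ hii⟩
  -- action on the middle layer
  let φ : ↥C →* Matrix {k : Fin n // k ≠ i ∧ k ≠ j} {k : Fin n // k ≠ i ∧ k ≠ j} F :=
    { toFun := fun g k l => (g : Matrix.SpecialLinearGroup (Fin n) F) k l
      map_one' := by
        ext k l
        simp [Matrix.one_apply, Subtype.ext_iff]
      map_mul' := fun g h => by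
        ext k l
        simp only [Subgroup.coe_mul, Matrix.SpecialLinearGroup.coe_mul, Matrix.mul_apply]
        refine (Finset.sum_congr_of_eq_on_inter ?_ ?_ ?_).trans
          (Finset.sum_subtype (F := inferInstance) (p := fun m => m ≠ i ∧ m ≠ j)
            (Finset.univ.filter fun m => m ≠ i ∧ m ≠ j) (by simp)
            (fun m => (g : Matrix.SpecialLinearGroup (Fin n) F) k m *
              (h : Matrix.SpecialLinearGroup (Fin n) F) m l))
        · intro m _ hm
          simp only [Finset.mem_filter, Finset.mem_univ, true_and, not_and_or, not_not] at hm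
          rcases hm with rfl | rfl
          · rw [(hent g).1 k k.2.1, zero_mul]
          · rw [(hent h).2.1 l l.2.2, mul_zero]
        · intro m _ hm; exact absurd (Finset.mem_univ m) hm
        · intros; rfl }
  set Q : Subgroup ↥C := φ.ker with hQ
  have hmemQ : ∀ g : ↥C, g ∈ Q → ∀ k l : Fin n, k ≠ i → k ≠ j → l ≠ i → l ≠ j →
      (g : Matrix.SpecialLinearGroup (Fin n) F) k l = if k = l then 1 else 0 := by
    intro g hg k l hk1 hk2 hl1 hl2
    have h' : φ g = 1 := hg
    have := congrArg (fun M : Matrix _ _ F => M ⟨k, hk1, hk2⟩ ⟨l, hl1, hl2⟩) h'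
    simp [φ, Matrix.one_apply, Subtype.ext_iff] at this
    exact this
  have hQp : IsPGroup 2 ↥Q := by
    intro g
    refine ⟨2, Subtype.ext (Subtype.ext (Subtype.ext ?_))⟩
    obtain ⟨h1, h2, h3, h4⟩ := hent (g : ↥C)
    set N : Matrix (Fin n) (Fin n) F :=
      (((g : ↥C) : Matrix.SpecialLinearGroup (Fin n) F) : Matrix (Fin n) (Fin n) F) - 1 with hN
    have hN1 : ∀ k, N k i = 0 := fun k => by
      by_cases hk : k = i
      · simp [hN, hk, h3]
      · simp [hN, h1 k hk, Matrix.one_apply_ne hk]
    have hN2 : ∀ l, N j l = 0 := fun l => by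
      by_cases hl : l = j
      · simp [hN, hl, h4]
      · simp [hN, h2 l hl, Matrix.one_apply_ne (Ne.symm hl)]
    have hN3 : ∀ k l, k ≠ i → l ≠ j → N k l = 0 := fun k l hk hl => by
      by_cases hk' : k = j
      · rw [hk']; exact hN2 l
      · by_cases hl' : l = i
        · rw [hl']; exact hN1 k
        · simp [hN, hmemQ g g.2 k l hk hk' hl' hl, Matrix.one_apply]
    have hsq : ∀ k l, (k ≠ i ∨ l ≠ j) → (N * N) k l = 0 := by
      intro k l hkl
      rw [Matrix.mul_apply]
      refine Finset.sum_eq_zero fun m _ => ?_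
      rcases hkl with hk | hl
      · by_cases hm : m = j
        · rw [hm, hN2 l, mul_zero]
        · rw [hN3 k m hk hm, zero_mul]
      · by_cases hm : m = i
        · rw [hm, hN1 k, zero_mul]
        · rw [hN3 m l hm hl, mul_zero]
    have h4' : (N * N) * (N * N) = 0 := by
      ext k l
      rw [Matrix.mul_apply, Matrix.zero_apply]
      refine Finset.sum_eq_zero fun m _ => ?_
      by_cases hm : m = i
      · rw [hsq k m (Or.inr (by rw [hm]; exact hij)), zero_mul]
      · rw [hsq m l (Or.inl hm), mul_zero]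
    have hg : (((g : ↥C) : Matrix.SpecialLinearGroup (Fin n) F) : Matrix (Fin n) (Fin n) F) = 1 + N := by
      rw [hN]; abel
    have key : ∀ M : Matrix (Fin n) (Fin n) F, (1 + M) * (1 + M) = 1 + M * M := by
      intro M
      have h2 : M + M = 0 := by ext a b; simp [CharTwo.add_self_eq_zero]
      calc (1 + M) * (1 + M) = 1 + (M + M) + M * M := by noncomm_ring
        _ = _ := by rw [h2, add_zero]
    simp only [SubmonoidClass.coe_pow, Matrix.SpecialLinearGroup.coe_pow, hg]
    rw [show 2 ^ 2 = 2 * 2 from rfl, pow_mul, sq, sq, key, key, h4', add_zero]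
    rfl
  have hcq : Subgroup.centralizer (Q : Set ↥C) ≤ Q := by
    intro g hg
    refine MonoidHom.mem_ker.mpr ?_
    ext ⟨k, hk1, hk2⟩ ⟨l, hl1, hl2⟩
    -- the root element `1 + E_ik` lies in `Q`
    let u : Matrix.SpecialLinearGroup (Fin n) F :=
      ⟨Matrix.transvection i k 1, Matrix.det_transvection_of_ne _ _ (Ne.symm hk1) _⟩
    have hu : u ∈ C := by
      rw [hmemC]
      show (1 + Matrix.single i k 1) * E = E * (1 + Matrix.single i k 1)
      rw [hE, mul_add, add_mul, one_mul, mul_one]
      simp [hk1, Ne.symm hij]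
    have huQ : (⟨u, hu⟩ : ↥C) ∈ Q := by
      refine MonoidHom.mem_ker.mpr ?_
      ext ⟨a, ha1, ha2⟩ ⟨b, hb1, hb2⟩
      show ((1 : Matrix (Fin n) (Fin n) F) + (Matrix.single i k (1 : F) : Matrix (Fin n) (Fin n) F) : Matrix (Fin n) (Fin n) F) a b = _
      simp [Matrix.one_apply, Subtype.ext_iff, Ne.symm ha1]
    have hc := congrArg (fun x : ↥C => ((x : Matrix.SpecialLinearGroup (Fin n) F) :
      Matrix (Fin n) (Fin n) F)) (Subgroup.mem_centralizer_iff.mp hg _ huQ)
    simp only [Subgroup.coe_mul, Matrix.SpecialLinearGroup.coe_mul] at hc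
    change (1 + Matrix.single i k 1) * _ = _ * (1 + Matrix.single i k 1) at hc
    rw [add_mul, one_mul, mul_add, mul_one, add_right_inj] at hc
    have hil := congrArg (fun M : Matrix (Fin n) (Fin n) F => M i l) hc
    obtain ⟨-, -, h3, -⟩ := hent g
    show (g : Matrix.SpecialLinearGroup (Fin n) F) k l = _
    by_cases hkl : k = l
    · subst hkl
      simp [h3] at hil
      simp [hil]
    · simp [Ne.symm hkl] at hil
      simp [hil, hkl]
  refine Cfsg.Agent.LocalChar.genFitting_eq_pCore_iff.mpr ?_
  have hle : Q ≤ Cfsg.pCore 2 ↥C := Cfsg.Agent.LocalChar.le_pCore inferInstance hQp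
  exact ((Subgroup.centralizer_le hle).trans hcq).trans hle

end Cfsg.Agent.S1339
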