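import Cfsg.Statements.S1340
import Cfsg.Agent.Lib.DiagBlock.Basic
import Cfsg.Agent.Lib.PCore.Basic

set_option autoImplicit false
open Cfsg

namespace Cfsg.Agent.S1340

open Matrix Subgroup Cfsg.Agent.DiagBlock
open scoped MatrixGroups

theorem core {F : Type*} [Field F] [Fintype F] [DecidableEq F] (h2 : (2 : F) ≠ 0) (k : ℕ)
    (hF : k + 2 = 2 → 4 ≤ Nat.card F) :
    ∃ t : GeneralLinearGroup (Fin (k + 2 + 1)) F, orderOf t = 2 ∧
      t ∉ Subgroup.center (GeneralLinearGroup (Fin (k + 2 + 1)) F) ∧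
      Cfsg.HasComponent (↥(centralizer ({t} : Set (GeneralLinearGroup (Fin (k + 2 + 1)) F))) ⧸
        Cfsg.oddCore ↥(centralizer ({t} : Set (GeneralLinearGroup (Fin (k + 2 + 1)) F)))) := by
  have hne : (-1 : F) ≠ 1 := fun e => h2 (by linear_combination -e)
  obtain ⟨t, ht⟩ : ∃ t : GeneralLinearGroup (Fin (k + 2 + 1)) F,
      (t : Matrix (Fin (k + 2 + 1)) (Fin (k + 2 + 1)) F) = tmat F (k + 2) :=
    ⟨GeneralLinearGroup.mkOfDetNeZero (tmat F (k + 2)) (by simp [tmat, det_blk, det_neg]), rfl⟩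
  have ho : orderOf t = 2 := by
    refine orderOf_eq_prime (Units.ext ?_) fun e => ?_
    · rw [sq, Units.val_mul, ht, tmat, ← blk_mul, Units.val_one]
      simp [blk_one]
    · rw [e, Units.val_one, tmat, ← blk_one] at ht
      have := congrArg (fun M : Matrix (Fin (k + 2)) (Fin (k + 2)) F => M 0 0) (blk_inj ht).1
      simp at this
      exact hne this.symm
  refine ⟨t, ho, fun hc => ?_, ?_⟩
  · -- a transvection does not commute with `t`
    have h0 : (0 : Fin (k + 2 + 1)) ≠ Fin.last (k + 2) := by simp [Fin.ext_iff]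
    let T : GeneralLinearGroup (Fin (k + 2 + 1)) F :=
      GeneralLinearGroup.mkOfDetNeZero (transvection 0 (Fin.last (k + 2)) (1 : F))
        (by rw [det_transvection_of_ne _ _ h0]; exact one_ne_zero)
    have := congrArg (fun g : GeneralLinearGroup (Fin (k + 2 + 1)) F =>
      (g : Matrix (Fin (k + 2 + 1)) (Fin (k + 2 + 1)) F) 0 (Fin.last (k + 2))) (mem_center_iff.mp hc T)
    simp only [Units.val_mul, ht, tmat_eq, Matrix.mul_diagonal, Matrix.diagonal_mul] at this
    simp [T, transvection, GeneralLinearGroup.mkOfDetNeZero, Matrix.one_apply_ne h0] at this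
    exact hne this.symm
  set C := centralizer ({t} : Set (GeneralLinearGroup (Fin (k + 2 + 1)) F)) with hC
  have hblk : ∀ g : GeneralLinearGroup (Fin (k + 2 + 1)) F, g ∈ C →
      ∃ (A : Matrix (Fin (k + 2)) (Fin (k + 2)) F) (c : F),
        (g : Matrix (Fin (k + 2 + 1)) (Fin (k + 2 + 1)) F) = blk A c := by
    intro g hg
    refine exists_blk_of_comm h2 ?_
    rw [← ht, ← Units.val_mul, ← Units.val_mul, mem_centralizer_singleton_iff.mp hg]
  let χ₀ : ↥C →* F :=
    { toFun := fun g => (g : GeneralLinearGroup (Fin (k + 2 + 1)) F) (Fin.last _) (Fin.last _)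
      map_one' := by simp
      map_mul' := fun g h => by
        obtain ⟨A, c, hA⟩ := hblk g g.2
        obtain ⟨B, d, hB⟩ := hblk h h.2
        simp only [Subgroup.coe_mul, Units.val_mul, hA, hB, ← blk_mul, blk_last] }
  let χ : ↥C →* Fˣ := χ₀.toHomUnits
  let δ : ↥C →* Fˣ := GeneralLinearGroup.det.comp C.subtype
  set L := (toGL (F := F) (m := k + 2)).range with hL
  have hLC : L ≤ C := by
    rintro _ ⟨A, rfl⟩
    exact mem_centralizer_singleton_iff.mpr (Units.ext (by
      rw [Units.val_mul, Units.val_mul, coe_toGL, ht, tmat_comm_blk]))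
  have hker : L.subgroupOf C = χ.ker ⊓ δ.ker := by
    ext g
    obtain ⟨A, c, hA⟩ := hblk g g.2
    have hχ : g ∈ χ.ker ↔ c = 1 := by
      rw [MonoidHom.mem_ker, Units.ext_iff, MonoidHom.coe_toHomUnits]
      show (g : GeneralLinearGroup (Fin (k + 2 + 1)) F) (Fin.last _) (Fin.last _) = 1 ↔ _
      rw [hA, blk_last]
    have hδ : g ∈ δ.ker ↔ A.det * c = 1 := by
      rw [MonoidHom.mem_ker, Units.ext_iff]
      show ((g : GeneralLinearGroup (Fin (k + 2 + 1)) F) : Matrix (Fin (k + 2 + 1)) (Fin (k + 2 + 1)) F).det = 1 ↔ _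
      rw [hA, det_blk]
    rw [Subgroup.mem_inf, hχ, hδ, mem_subgroupOf]
    constructor
    · rintro ⟨B, hB⟩
      have h' : blk (B : Matrix (Fin (k + 2)) (Fin (k + 2)) F) 1 = blk A c := by
        rw [← hA, ← coe_toGL, hB]
      obtain ⟨rfl, rfl⟩ := blk_inj h'
      exact ⟨rfl, by simp⟩
    · rintro ⟨rfl, hd⟩
      rw [mul_one] at hd
      exact ⟨⟨A, hd⟩, Units.ext hA.symm⟩
  have hq : Cfsg.IsQuasisimple L := quasisimple_range (by omega) hF toGL toGL_injective
  have hcomp : Cfsg.IsComponent (L.subgroupOf C) :=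
    ⟨(hker ▸ inferInstance : (L.subgroupOf C).Normal).isSubnormal,
      Components.IsQuasisimple.subgroupOf_of_le hq hLC⟩
  refine Components.IsComponent.hasComponent
    (Components.IsComponent.map_of_surjective hcomp (QuotientGroup.mk'_surjective _) fun hbot => ?_)
  rw [Subgroup.map_eq_bot_iff, QuotientGroup.ker_mk'] at hbot
  -- an involution of `L`
  let s : SpecialLinearGroup (Fin (k + 2)) F :=
    ⟨diagonal fun i => if (i : ℕ) < 2 then (-1 : F) else 1, by
      simp [det_diagonal, Fin.prod_univ_succ]⟩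
  have hs : orderOf s = 2 := by
    refine orderOf_eq_prime (Subtype.ext ?_) fun e => ?_
    · rw [sq]
      show diagonal _ * diagonal _ = (1 : Matrix _ _ F)
      rw [diagonal_mul_diagonal, ← diagonal_one]
      congr 1; ext i; split_ifs <;> simp
    · have := congrArg (fun M : SpecialLinearGroup (Fin (k + 2)) F =>
        (M : Matrix (Fin (k + 2)) (Fin (k + 2)) F) 0 0) e
      simp [s] at this
      exact hne this
  have h1 : orderOf (⟨toGL s, hLC ⟨s, rfl⟩⟩ : ↥C) = 2 := by
    rw [Subgroup.orderOf_mk, orderOf_injective _ toGL_injective, hs]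
  have h2' : 2 ∣ Nat.card (Cfsg.oddCore ↥C) := by
    have hd := Subgroup.orderOf_dvd_natCard _ (hbot (mem_subgroupOf.mpr
      (show ((⟨toGL s, hLC ⟨s, rfl⟩⟩ : ↥C) : GeneralLinearGroup (Fin (k + 2 + 1)) F) ∈ L from ⟨s, rfl⟩)))
    rwa [h1] at hd
  exact Nat.not_even_iff_odd.mpr (PCore.odd_card_oddCore (G := ↥C)) (even_iff_two_dvd.mpr h2')

/-- Let F be a finite field of odd order and n ≥ 3 with (n, |F|) ≠ (3, 3). Then GL(n, F) has a non-central involution t such that C(t) / O(C(t)) has a component. -/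
theorem result {F : Type*} [Field F] [Fintype F] [DecidableEq F] (hF : Odd (Fintype.card F)) (n : ℕ) (hn : 3 ≤ n) (h33 : ¬ (n = 3 ∧ Fintype.card F = 3)) : ∃ t : Matrix.GeneralLinearGroup (Fin n) F, orderOf t = 2 ∧ t ∉ Subgroup.center (Matrix.GeneralLinearGroup (Fin n) F) ∧ Cfsg.HasComponent (↥(Subgroup.centralizer ({t} : Set (Matrix.GeneralLinearGroup (Fin n) F))) ⧸ Cfsg.oddCore ↥(Subgroup.centralizer ({t} : Set (Matrix.GeneralLinearGroup (Fin n) F)))) := by
  obtain ⟨k, rfl⟩ : ∃ k, n = k + 2 + 1 := ⟨n - 3, by omega⟩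
  have h2 : (2 : F) ≠ 0 := by
    intro h
    have h' : ringChar F = 2 := CharP.ringChar_of_prime_eq_zero Nat.prime_two (by exact_mod_cast h)
    have := FiniteField.even_card_iff_char_two.mp h'
    have := Nat.odd_iff.mp hF
    omega
  refine core h2 k fun hk => ?_
  rw [Nat.card_eq_fintype_card]
  have h1 : 1 < Fintype.card F := Fintype.one_lt_card
  have := Nat.odd_iff.mp hF
  by_contra hlt
  exact h33 ⟨by omega, by omega⟩

end Cfsg.Agent.S1340
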