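import Cfsg.Statements.S1344
import Cfsg.Agent.Lib.Components.PComponentQuot
import Cfsg.Agent.S1877
-- import your own Cfsg.Agent.* helpers here

set_option autoImplicit false
open Cfsg

namespace Cfsg.Agent.S1344

open Cfsg.Agent.Components Subgroup
open scoped commutatorElement

/-- Let K be a 2-component of the finite group X. Then K ≤ L*_{2'}(X) and K is normal in L*_{2'}(X). -/
theorem result {X : Type*} [Group X] [Finite X] (K : Subgroup X) (hK : Cfsg.IsPComponent 2 K) : K ≤ Cfsg.extendedTwoLayer X ∧ (K.subgroupOf (Cfsg.extendedTwoLayer X)).Normal := by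
  have : Fact (Nat.Prime 2) := ⟨Nat.prime_two⟩
  have hKE : K ≤ Cfsg.extendedTwoLayer X :=
    (IsPComponent.le_pLayer hK).trans (le_sup_left.trans le_sup_left)
  refine ⟨hKE, normal_subgroupOf_of_le_normalizer (sup_le (sup_le (IsPComponent.pLayer_le_normalizer hK)
    (IsPComponent.pPrimeCore_le_normalizer hK)) (iSup_le fun T => ?_))⟩
  let R := (T : Subgroup ↥(Cfsg.pLayer 2 X ⊔ Cfsg.pPrimePCore 2 X)).map
    (Cfsg.pLayer 2 X ⊔ Cfsg.pPrimePCore 2 X).subtype
  have hRdef : R = (T : Subgroup ↥(Cfsg.pLayer 2 X ⊔ Cfsg.pPrimePCore 2 X)).map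
    (Cfsg.pLayer 2 X ⊔ Cfsg.pPrimePCore 2 X).subtype := rfl
  have hR : IsPGroup 2 R := T.isPGroup'.map _
  have hR1 : R ≠ ⊥ := by
    intro h
    rw [hRdef, Subgroup.map_eq_bot_iff, Subgroup.ker_subtype, le_bot_iff] at h
    exact T.ne_bot_of_dvd_card ((IsPComponent.dvd_card hK).trans
      (card_dvd_of_le ((IsPComponent.le_pLayer hK).trans le_sup_left))) h
  let C := centralizer (R : Set X)
  have hCN : C ≤ normalizer (R : Set X) := centralizer_le_normalizer _
  have h1 : (Cfsg.oddCore C).map C.subtype ≤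
      (Cfsg.pPrimeCore 2 ↥(normalizer (R : Set X))).map (normalizer (R : Set X)).subtype := by
    refine Cfsg.Agent.Balance.le_core' ((map_subtype_le _).trans hCN) ?_ ?_
    · exact (Cfsg.Agent.Balance.normalizer_le_normalizer_centralizer (R : Set X)).trans
        (normalizer_le_normalizer_map_of_characteristic C _)
    · exact Cfsg.Agent.Balance.card_core'_coprime _
  exact (h1.trans (Cfsg.Agent.S1877.result R hR hR1)).trans (inf_le_left.trans (iInf_le (fun K' : {K' : Subgroup X // Cfsg.IsPComponent 2 K'} => normalizer ((K' : Subgroup X) : Set X)) ⟨K, hK⟩))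

end Cfsg.Agent.S1344
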