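import Cfsg.Statements.S1348
import Cfsg.Agent.Lib.DiagBlock.Basic

set_option autoImplicit false
open Cfsg

namespace Cfsg.Agent.S1348

open Matrix Subgroup Cfsg.Agent.DiagBlock
open scoped MatrixGroups commutatorElement

variable {F : Type*} [Field F] [Fintype F] [DecidableEq F] {m : ℕ}

theorem core (h2 : (2 : F) ≠ 0) (hm : 4 ≤ m) (heven : Even m)
    (t : SpecialLinearGroup (Fin (m + 1)) F) (ht : (t : Matrix (Fin (m + 1)) (Fin (m + 1)) F) = tmat F m) :
    Cfsg.IsStandardSubgroup ((Cfsg.layer ↥(centralizer ({t} : Set _))).map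
      (centralizer ({t} : Set (SpecialLinearGroup (Fin (m + 1)) F))).subtype) := by
  set C := centralizer ({t} : Set (SpecialLinearGroup (Fin (m + 1)) F)) with hC
  have hblk : ∀ g : SpecialLinearGroup (Fin (m + 1)) F, g ∈ C → ∃ (A : Matrix (Fin m) (Fin m) F) (c : F),
      (g : Matrix (Fin (m + 1)) (Fin (m + 1)) F) = blk A c := by
    intro g hg
    refine exists_blk_of_comm h2 ?_
    rw [← ht]
    have hgt : g * t = t * g := mem_centralizer_singleton_iff.mp hg
    have := congrArg (fun x : SpecialLinearGroup (Fin (m + 1)) F =>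
      (x : Matrix (Fin (m + 1)) (Fin (m + 1)) F)) hgt
    simpa using this
  let χ₀ : ↥C →* F :=
    { toFun := fun g => (g : SpecialLinearGroup (Fin (m + 1)) F) (Fin.last m) (Fin.last m)
      map_one' := by simp
      map_mul' := fun g h => by
        obtain ⟨A, c, hA⟩ := hblk g g.2
        obtain ⟨B, d, hB⟩ := hblk h h.2
        have e : ((g.1 * h.1 : SpecialLinearGroup (Fin (m + 1)) F) : Matrix (Fin (m + 1)) (Fin (m + 1)) F) =
            blk (A * B) (c * d) := by
          show (g.1 : Matrix (Fin (m + 1)) (Fin (m + 1)) F) * (h.1 : Matrix (Fin (m + 1)) (Fin (m + 1)) F) = _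
          rw [hA, hB, blk_mul]
        show ((g.1 * h.1 : SpecialLinearGroup (Fin (m + 1)) F) : Matrix (Fin (m + 1)) (Fin (m + 1)) F)
            (Fin.last m) (Fin.last m) = (g.1 : Matrix (Fin (m + 1)) (Fin (m + 1)) F) (Fin.last m) (Fin.last m) *
            (h.1 : Matrix (Fin (m + 1)) (Fin (m + 1)) F) (Fin.last m) (Fin.last m)
        rw [e, hA, hB, blk_last, blk_last, blk_last] }
  let χ : ↥C →* Fˣ := χ₀.toHomUnits
  set L := (toSL (F := F) (m := m)).range with hL
  have hLC : L ≤ C := by
    rintro _ ⟨A, rfl⟩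
    exact mem_centralizer_singleton_iff.mpr (Subtype.ext (by
      show blk (A : Matrix (Fin m) (Fin m) F) 1 * (t : Matrix (Fin (m + 1)) (Fin (m + 1)) F) = (t : Matrix (Fin (m + 1)) (Fin (m + 1)) F) * blk (A : Matrix (Fin m) (Fin m) F) 1
      rw [ht, tmat_comm_blk]))
  have hker : L.subgroupOf C = χ.ker := by
    ext g
    obtain ⟨A, c, hA⟩ := hblk g g.2
    have hχ : g ∈ χ.ker ↔ c = 1 := by
      rw [MonoidHom.mem_ker, Units.ext_iff, MonoidHom.coe_toHomUnits]
      show (g : SpecialLinearGroup (Fin (m + 1)) F) (Fin.last m) (Fin.last m) = 1 ↔ _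
      rw [show ((g : SpecialLinearGroup (Fin (m + 1)) F) : Matrix (Fin (m + 1)) (Fin (m + 1)) F) = blk A c from hA, blk_last]
    rw [hχ, mem_subgroupOf]
    constructor
    · rintro ⟨B, hB⟩
      have h' : blk (B : Matrix (Fin m) (Fin m) F) 1 = blk A c := (congrArg Subtype.val hB).trans hA
      exact (blk_inj h').2.symm
    · rintro rfl
      have hd : A.det = 1 := by
        have := (g : SpecialLinearGroup (Fin (m + 1)) F).det_coe
        rw [hA, det_blk, mul_one] at this
        exact this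
      exact ⟨⟨A, hd⟩, Subtype.ext hA.symm⟩
  have hq : Cfsg.IsQuasisimple L := quasisimple_range (by omega) (fun h => absurd h (by omega)) toSL toSL_injective
  have hcomp : Cfsg.IsComponent (L.subgroupOf C) :=
    ⟨(hker ▸ χ.normal_ker : (L.subgroupOf C).Normal).isSubnormal,
      Components.IsQuasisimple.subgroupOf_of_le hq hLC⟩
  have hlayer : Cfsg.layer ↥C = L.subgroupOf C := by
    refine le_antisymm (sSup_le fun K hK => ?_) (Components.IsComponent.le_layer hcomp)
    rw [hker, ← Components.IsComponent.commutator_self hK, Subgroup.commutator_le]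
    intro x _ y _
    rw [MonoidHom.mem_ker, map_commutatorElement, commutatorElement_eq_one_iff_mul_comm]
    exact mul_comm _ _
  rw [hlayer, map_subgroupOf_eq_of_le hLC]
  -- the centraliser of `L`
  have htL : t ∈ L := ⟨⟨-1, by simp [det_neg, heven.neg_one_pow]⟩, Subtype.ext ht.symm⟩
  have hcent : ∀ g ∈ centralizer (L : Set (SpecialLinearGroup (Fin (m + 1)) F)),
      ∃ a c : F, (g : Matrix (Fin (m + 1)) (Fin (m + 1)) F) = blk (Matrix.scalar (Fin m) a) c := by
    intro g hg
    obtain ⟨A, c, hA⟩ := hblk g (mem_centralizer_singleton_iff.mpr (mem_centralizer_iff.mp hg t htL).symm)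
    obtain ⟨a, ha⟩ := Matrix.mem_range_scalar_of_commute_transvectionStruct (M := A) fun T => by
      have hdet : (T.toMatrix).det = 1 := Matrix.TransvectionStruct.det _
      have := congrArg (fun x : SpecialLinearGroup (Fin (m + 1)) F => (x : Matrix (Fin (m + 1)) (Fin (m + 1)) F))
        (mem_centralizer_iff.mp hg (toSL ⟨_, hdet⟩) ⟨_, rfl⟩)
      change blk T.toMatrix 1 * (g : Matrix (Fin (m + 1)) (Fin (m + 1)) F) = (g : Matrix (Fin (m + 1)) (Fin (m + 1)) F) * blk T.toMatrix 1 at this
      rw [hA, ← blk_mul, ← blk_mul] at this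
      exact (blk_inj this).1
    exact ⟨a, c, by rw [hA, ha]⟩
  have hinv : ∀ g ∈ centralizer (L : Set (SpecialLinearGroup (Fin (m + 1)) F)), orderOf g = 2 → g = t := by
    intro g hg ho
    obtain ⟨a, c, hA⟩ := hcent g hg
    have hsq : (g : Matrix (Fin (m + 1)) (Fin (m + 1)) F) * (g : Matrix (Fin (m + 1)) (Fin (m + 1)) F) = 1 := by
      have := pow_orderOf_eq_one g
      rw [ho, sq] at this
      exact congrArg Subtype.val this
    rw [hA, ← blk_mul, ← blk_one] at hsq
    obtain ⟨h1, h2'⟩ := blk_inj hsq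
    have ha2 : a * a = 1 := by
      have := congrArg (fun M : Matrix (Fin m) (Fin m) F => M ⟨0, by omega⟩ ⟨0, by omega⟩) h1
      simpa using this
    have hd := g.det_coe
    rw [hA, det_blk, Matrix.scalar_apply, Matrix.det_diagonal, Finset.prod_const, Finset.card_univ,
      Fintype.card_fin] at hd
    obtain ⟨k, hk⟩ := heven
    rw [hk, pow_add, ← mul_pow, ha2, one_pow, one_mul] at hd
    subst hd
    rcases mul_self_eq_one_iff.mp ha2 with rfl | rfl
    · exfalso
      rw [show g = 1 from Subtype.ext (by rw [hA]; simp [blk_one]), orderOf_one] at ho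
      omega
    · exact Subtype.ext (by rw [hA, ht, tmat]; simp only [map_neg, map_one])
  have ho : orderOf t = 2 := by
    refine orderOf_eq_prime (Subtype.ext ?_) fun e => ?_
    · rw [sq]
      show (t : Matrix (Fin (m + 1)) (Fin (m + 1)) F) * (t : Matrix (Fin (m + 1)) (Fin (m + 1)) F) = 1
      rw [ht, tmat, ← blk_mul]
      simp [blk_one]
    · rw [e, tmat] at ht
      change (1 : Matrix (Fin (m + 1)) (Fin (m + 1)) F) = _ at ht
      rw [← blk_one] at ht
      have := congrArg (fun M : Matrix (Fin m) (Fin m) F => M ⟨0, by omega⟩ ⟨0, by omega⟩) (blk_inj ht).1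
      exact h2 (by simp at this; linear_combination this)
  have htC : t ∈ centralizer (L : Set (SpecialLinearGroup (Fin (m + 1)) F)) :=
    mem_centralizer_iff.mpr fun x hx => mem_centralizer_singleton_iff.mp (hLC hx)
  -- normalisers
  have hNC : ∀ g, g * t * g⁻¹ ∈ centralizer (L : Set (SpecialLinearGroup (Fin (m + 1)) F)) →
      g ∈ normalizer (L : Set (SpecialLinearGroup (Fin (m + 1)) F)) := by
    intro g hg
    have he : g * t * g⁻¹ = t := hinv _ hg (by rw [← MulAut.conj_apply, MulEquiv.orderOf_eq]; exact ho)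
    have hgC : g ∈ C := mem_centralizer_singleton_iff.mpr (mul_inv_eq_iff_eq_mul.mp he)
    have hn : C ≤ normalizer (L : Set (SpecialLinearGroup (Fin (m + 1)) F)) :=
      (normal_subgroupOf_iff_le_normalizer hLC).mp (hker ▸ χ.normal_ker)
    exact hn hgC
  have hNN : ∀ g ∈ normalizer (L : Set (SpecialLinearGroup (Fin (m + 1)) F)), g ∈ normalizer
      (centralizer (L : Set (SpecialLinearGroup (Fin (m + 1)) F)) : Set (SpecialLinearGroup (Fin (m + 1)) F)) := by
    intro g hg
    have aux : ∀ u ∈ normalizer (L : Set (SpecialLinearGroup (Fin (m + 1)) F)),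
        ∀ a ∈ centralizer (L : Set (SpecialLinearGroup (Fin (m + 1)) F)),
        u * a * u⁻¹ ∈ centralizer (L : Set (SpecialLinearGroup (Fin (m + 1)) F)) := by
      intro u hu a ha
      rw [mem_centralizer_iff]
      intro c hc
      have hc' : u⁻¹ * c * u ∈ L := (mem_normalizer_iff''.mp hu _).mp hc
      have := mem_centralizer_iff.mp ha _ hc'
      calc c * (u * a * u⁻¹) = u * (u⁻¹ * c * u * a) * u⁻¹ := by group
        _ = u * (a * (u⁻¹ * c * u)) * u⁻¹ := by rw [this]
        _ = _ := by group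
    exact mem_normalizer_iff.mpr fun a => ⟨aux g hg a, fun ha => by
      simpa [mul_assoc] using aux g⁻¹ (inv_mem hg) _ ha⟩
  refine ⟨hq, ⟨?_, fun g hg => ?_⟩, fun g _ hc => ?_, le_antisymm hNN fun g hg => hNC g ?_⟩
  · rw [even_iff_two_dvd, ← ho]
    exact Subgroup.orderOf_dvd_natCard _ htC
  · rw [← Nat.not_even_iff_odd, even_iff_two_dvd]
    intro hdvd
    have : Fact (Nat.Prime 2) := ⟨Nat.prime_two⟩
    obtain ⟨y, hy⟩ := exists_prime_orderOf_dvd_card' 2 hdvd
    have hy2 : orderOf (y : SpecialLinearGroup (Fin (m + 1)) F) = 2 := by rwa [Subgroup.orderOf_coe]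
    obtain ⟨hy1, z, hz, hzy⟩ := y.2
    have hz2 : orderOf z = 2 := by
      rw [← hy2, ← hzy, MulEquiv.coe_toMonoidHom, MulEquiv.orderOf_eq]
    refine hg (hNN g (hNC g ?_))
    rw [hinv _ hy1 hy2, hinv z hz hz2] at hzy
    have hzy' : g * t * g⁻¹ = t := hzy
    rw [hzy']; exact htC
  · -- a conjugate of `L` centralising `L` would be abelian
    rw [commutator_comm, commutator_eq_bot_iff_le_centralizer] at hc
    refine Components.IsQuasisimple.not_isMulCommutative hq ⟨⟨fun x y => Subtype.ext ?_⟩⟩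
    obtain ⟨a, c, ha⟩ := hcent _ (hc ⟨x, x.2, rfl⟩)
    obtain ⟨b, d, hb⟩ := hcent _ (hc ⟨y, y.2, rfl⟩)
    apply (MulAut.conj g).injective
    apply Subtype.ext
    simp only [Subgroup.coe_mul, map_mul]
    change ((MulAut.conj g x : SpecialLinearGroup (Fin (m + 1)) F) : Matrix (Fin (m + 1)) (Fin (m + 1)) F) *
        ((MulAut.conj g y : SpecialLinearGroup (Fin (m + 1)) F) : Matrix (Fin (m + 1)) (Fin (m + 1)) F) =
      ((MulAut.conj g y : SpecialLinearGroup (Fin (m + 1)) F) : Matrix (Fin (m + 1)) (Fin (m + 1)) F) *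
        ((MulAut.conj g x : SpecialLinearGroup (Fin (m + 1)) F) : Matrix (Fin (m + 1)) (Fin (m + 1)) F)
    simp only [MulEquiv.coe_toMonoidHom] at ha hb
    rw [ha, hb, ← blk_mul, ← blk_mul, mul_comm c d,
      (Matrix.scalar_commute a (Commute.all a) (Matrix.scalar (Fin m) b)).eq]
  · exact (mem_normalizer_iff.mp hg t).mp htC

/-- Let F be a finite field of odd order, n ≥ 7 odd, and t ∈ SL(n, F) the diagonal matrix with entries −1, …, −1, 1. Then E(C(t)) is a standard subgroup of SL(n, F). -/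
theorem result {F : Type*} [Field F] [Fintype F] [DecidableEq F] (hF : Odd (Fintype.card F)) (n : ℕ) (hn : 7 ≤ n) (hodd : Odd n) (t : Matrix.SpecialLinearGroup (Fin n) F) (ht : (t : Matrix (Fin n) (Fin n) F) = Matrix.diagonal (fun i : Fin n => if (i : ℕ) + 1 = n then (1 : F) else -1)) : Cfsg.IsStandardSubgroup ((Cfsg.layer ↥(Subgroup.centralizer ({t} : Set (Matrix.SpecialLinearGroup (Fin n) F)))).map (Subgroup.centralizer ({t} : Set (Matrix.SpecialLinearGroup (Fin n) F))).subtype) := by
  obtain ⟨m, rfl⟩ : ∃ m, n = m + 1 := ⟨n - 1, by omega⟩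
  have h2 : (2 : F) ≠ 0 := by
    intro h
    have h' : ringChar F = 2 := CharP.ringChar_of_prime_eq_zero Nat.prime_two (by exact_mod_cast h)
    have := FiniteField.even_card_iff_char_two.mp h'
    have := Nat.odd_iff.mp hF
    omega
  refine core h2 (by omega) ?_ t ?_
  · rw [Nat.even_iff]
    have := Nat.odd_iff.mp hodd
    omega
  · rw [DiagBlock.tmat_eq]; exact ht

end Cfsg.Agent.S1348
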