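import Cfsg.Statements.S1349
import Cfsg.Agent.Lib.Coprime.Generation
import Cfsg.Agent.Lib.Components.Fitting
import Cfsg.Agent.Lib.PGroup.SCN
import Cfsg.Agent.Lib.PGroup.CyclicMaximal

set_option autoImplicit false
open Cfsg

namespace Cfsg.Agent.S1349

open Subgroup
open scoped commutatorElement

variable {G : Type*} [Group G] [Finite G]

/-- `a` fixes or inverts `x`, for every `a ∈ A` -/
def Eig (A : Subgroup G) (x : G) : Prop :=
  ∀ a ∈ A, a * x * a⁻¹ = x ∨ a * x * a⁻¹ = x⁻¹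

theorem coprime_of_odd {A W : Subgroup G} {d : ℕ} (hA : Nat.card A = 2 ^ d)
    (hW : Odd (Nat.card W)) : (Nat.card A).Coprime (Nat.card W) := by
  rw [hA]; exact (Nat.coprime_two_left.mpr hW).pow_left d

omit [Finite G] in
theorem mul_self_of_mem {A : Subgroup G} (hA : Cfsg.IsElementaryAbelian 2 A) {a : G} (ha : a ∈ A) :
    a * a = 1 := by rw [← sq]; exact hA.2 a ha

omit [Finite G] in
theorem mem_normalizer_of_inv {A K : Subgroup G} (h : ∀ a ∈ A, ∀ x ∈ K, a * x * a⁻¹ ∈ K) :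
    A ≤ normalizer (K : Set G) := fun a ha => mem_normalizer_iff.mpr fun x => ⟨h a ha x, fun hx => by
    simpa [mul_assoc] using h a⁻¹ (inv_mem ha) _ hx⟩

/-- every invariant subgroup of odd order not inside `S` has an eigen element outside `S` -/
theorem exists_eig {A W S : Subgroup G} {d : ℕ} (hA : Cfsg.IsElementaryAbelian 2 A)
    (hd : Nat.card A = 2 ^ d) (hW : Odd (Nat.card W)) (hAW : A ≤ normalizer (W : Set G))
    (hWS : ¬ W ≤ S) : ∃ x ∈ W, x ∉ S ∧ Eig A x := by
  have := hA.1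
  let T : Set (Subgroup G) := {D | D ≤ W ∧ ¬ D ≤ S ∧ A ≤ normalizer (D : Set G)}
  obtain ⟨D, hD⟩ := T.toFinite.exists_minimal ⟨W, le_rfl, hWS, hAW⟩
  obtain ⟨hDW, hDS, hAD⟩ := hD.1
  set K0 := A ⊓ centralizer (D : Set G) with hK0
  by_cases hc : ∃ a₀ ∈ A, K0 ⊔ zpowers a₀ = A
  · obtain ⟨a₀, ha₀, hgen⟩ := hc
    -- every element of `A` acts on `D` as `1` or `a₀`
    have hact : ∀ a ∈ A, (∀ x ∈ D, a * x * a⁻¹ = x) ∨ (∀ x ∈ D, a * x * a⁻¹ = a₀ * x * a₀⁻¹) := by
      intro a ha
      rw [← hgen, Subgroup.zpowers_eq_closure] at ha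
      have ha' : a ∈ closure ((K0 : Set G) ∪ {a₀}) := by
        rwa [Subgroup.closure_union, Subgroup.closure_eq]
      clear ha
      induction ha' using closure_induction with
      | mem y hy =>
        rcases hy with hy | rfl
        · exact Or.inl fun x hx => mul_inv_eq_iff_eq_mul.mpr (mem_centralizer_iff.mp hy.2 x hx).symm
        · exact Or.inr fun x _ => rfl
      | one => exact Or.inl fun x _ => by simp
      | mul y z _ _ hy hz =>
        have h2 : ∀ x, a₀ * (a₀ * x * a₀⁻¹) * a₀⁻¹ = x := fun x => by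
          have e := mul_self_of_mem hA ha₀
          have e' : a₀⁻¹ = a₀ := inv_eq_of_mul_eq_one_right e
          calc a₀ * (a₀ * x * a₀⁻¹) * a₀⁻¹ = (a₀ * a₀) * x * (a₀ * a₀)⁻¹ := by group
            _ = x := by rw [e]; simp
        have hmem : ∀ x ∈ D, a₀ * x * a₀⁻¹ ∈ D := fun x hx =>
          (mem_normalizer_iff.mp (hAD ha₀) x).mp hx
        have e : ∀ x, y * z * x * (y * z)⁻¹ = y * (z * x * z⁻¹) * y⁻¹ := fun x => by group
        rcases hy with hy | hy <;> rcases hz with hz | hz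
        · exact Or.inl fun x hx => by rw [e, hz x hx, hy x hx]
        · exact Or.inr fun x hx => by rw [e, hz x hx, hy _ (hmem x hx)]
        · exact Or.inr fun x hx => by rw [e, hz x hx, hy x hx]
        · exact Or.inl fun x hx => by rw [e, hz x hx, hy _ (hmem x hx), h2]
      | inv y hy' hy =>
        have hyA : y ∈ A := by
          have : closure ((K0 : Set G) ∪ {a₀}) ≤ A := (closure_le A).mpr
            (Set.union_subset (inf_le_left : K0 ≤ A) (Set.singleton_subset_iff.mpr ha₀))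
          exact this hy'
        rw [inv_eq_of_mul_eq_one_right (mul_self_of_mem hA hyA)]
        exact hy
    obtain ⟨c, hc, hcS⟩ := SetLike.not_le_iff_exists.mp hDS
    set y := c⁻¹ * (a₀ * c * a₀⁻¹) with hy
    have hyD : y ∈ D := mul_mem (inv_mem hc) ((mem_normalizer_iff.mp (hAD ha₀) c).mp hc)
    have hyinv : a₀ * y * a₀⁻¹ = y⁻¹ := by
      have e := mul_self_of_mem hA ha₀
      have e' : a₀⁻¹ = a₀ := inv_eq_of_mul_eq_one_right e
      rw [hy, e']
      calc a₀ * (c⁻¹ * (a₀ * c * a₀)) * a₀ = a₀ * c⁻¹ * a₀ * c * (a₀ * a₀) := by group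
        _ = a₀ * c⁻¹ * a₀ * c := by rw [e, mul_one]
        _ = _ := by rw [mul_inv_rev, mul_inv_rev, mul_inv_rev, e', inv_inv, ← mul_assoc]
    by_cases hyS : y ∈ S
    · have hodd : Odd (orderOf y) := Odd.of_dvd_nat hW
        ((Subgroup.orderOf_dvd_natCard W (hDW hyD)))
      obtain ⟨k, hk⟩ := hodd
      set w := y ^ (k + 1) with hw
      have hww : w * w = y := by
        rw [hw, ← pow_add]
        conv_rhs => rw [← pow_one y, ← pow_mod_orderOf, hk]
        rw [← pow_mod_orderOf, hk]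
        congr 1
        rw [show k + 1 + (k + 1) = 1 + (2 * k + 1) by ring, Nat.add_mod_right]
      have hwinv : a₀ * w * a₀⁻¹ = w⁻¹ := by rw [hw, ← conj_pow, hyinv, inv_pow]
      refine ⟨c * w, hDW (mul_mem hc (pow_mem hyD _)), fun h => hcS ?_, fun a ha => ?_⟩
      · have := mul_mem h (inv_mem (show w ∈ S from pow_mem hyS _))
        rwa [mul_inv_cancel_right] at this
      · left
        rcases hact a ha with h | h
        · exact h _ (mul_mem hc (pow_mem hyD _))
        · rw [h _ (mul_mem hc (pow_mem hyD _))]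
          calc a₀ * (c * w) * a₀⁻¹ = (a₀ * c * a₀⁻¹) * (a₀ * w * a₀⁻¹) := by group
            _ = (c * y) * w⁻¹ := by rw [hwinv, hy, mul_inv_cancel_left]
            _ = c * w := by rw [← hww, ← mul_assoc, mul_inv_cancel_right]
    · refine ⟨y, hDW hyD, hyS, fun a ha => ?_⟩
      rcases hact a ha with h | h
      · exact Or.inl (h y hyD)
      · exact Or.inr ((h y hyD).trans hyinv)
  · push Not at hc
    exfalso
    have := Coprime.eq_of_forall_centralizer_le' (S := D ⊓ S) (K := D) inf_le_left inf_le_right hc hAD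
      (coprime_of_odd hd (Odd.of_dvd_nat hW (card_dvd_of_le hDW))) inf_le_left fun a ha haK => by
        refine le_inf inf_le_left ?_
        by_contra hnot
        have hmem : D ⊓ centralizer ({a} : Set G) ∈ T := ⟨inf_le_left.trans hDW, hnot,
          Coprime.le_normalizer_inf_centralizer_singleton hAD ha⟩
        have hle := hD.2 hmem inf_le_left
        exact haK ⟨ha, mem_centralizer_iff.mpr fun x hx =>
          mem_centralizer_singleton_iff.mp (hle hx).2⟩
    exact hDS (inf_eq_left.mp this)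

theorem commute_of_eig_odd {a x : G} (hx : Odd (orderOf x)) (h : a * x * a⁻¹ = x⁻¹)
    (h' : a * x * a⁻¹ = x) : x = 1 := by
  rw [h] at h'
  have h2 : x ^ 2 = 1 := by rw [sq, mul_eq_one_iff_inv_eq]; exact h'
  have := orderOf_dvd_of_pow_eq_one h2
  exact orderOf_eq_one_iff.mp (Nat.eq_one_of_dvd_coprimes (Nat.coprime_two_left.mpr hx) this dvd_rfl)

theorem trivial_of_inverted {a y : G} (hodd : Odd (orderOf y)) (ha : a * a = 1) {f : G}
    (hy : y = f⁻¹ * (a * f * a⁻¹)) (hfix : a * y * a⁻¹ = y) : a * f = f * a := by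
  have e' : a⁻¹ = a := inv_eq_of_mul_eq_one_right ha
  have hinv : a * y * a⁻¹ = y⁻¹ := by
    rw [hy, e']
    calc a * (f⁻¹ * (a * f * a)) * a = a * f⁻¹ * a * f * (a * a) := by group
      _ = a * f⁻¹ * a * f := by rw [ha, mul_one]
      _ = _ := by rw [mul_inv_rev, mul_inv_rev, mul_inv_rev, e', inv_inv, ← mul_assoc]
  have := commute_of_eig_odd hodd hinv hfix
  rw [hy, inv_mul_eq_one] at this
  exact mul_inv_eq_iff_eq_mul.mp this.symm

/-- an invariant abelian subgroup with faithful action -/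
theorem exists_faithful_abelian {L A : Subgroup G} {d : ℕ} (hLs : Group.IsSolvable L)
    (hL : Odd (Nat.card L)) (hA : Cfsg.IsElementaryAbelian 2 A) (hd : Nat.card A = 2 ^ d)
    (hAL : A ≤ normalizer (L : Set G)) (hf : A ⊓ centralizer (L : Set G) = ⊥) :
    ∃ M : Subgroup G, M ≤ L ∧ IsMulCommutative M ∧ A ≤ normalizer (M : Set G) ∧
      ∀ a ∈ A, (∀ m ∈ M, a * m = m * a) → a = 1 := by
  set F : Subgroup G := (Cfsg.fittingSubgroup ↥L).map L.subtype with hF
  have hFL : F ≤ L := map_subtype_le _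
  have hAF : A ≤ normalizer (F : Set G) :=
    hAL.trans (Components.normalizer_le_normalizer_map_of_characteristic L _)
  have : Group.IsNilpotent F := (Group.isNilpotent_congr
    ((Cfsg.fittingSubgroup ↥L).equivMapOfInjective _ L.subtype_injective)).mp inferInstance
  have hCF : ∀ l ∈ L, (∀ f ∈ F, l * f = f * l) → l ∈ F := fun l hl h =>
    ⟨⟨l, hl⟩, Components.centralizer_fittingSubgroup_le
      (mem_centralizer_iff.mpr fun f hfm => Subtype.ext (h f ⟨f, hfm, rfl⟩).symm), rfl⟩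
  let T : Set (Subgroup G) :=
    {M | M ≤ F ∧ IsMulCommutative M ∧ F ≤ normalizer (M : Set G) ∧ A ≤ normalizer (M : Set G)}
  obtain ⟨M, hM⟩ := T.toFinite.exists_maximal ⟨⊥, bot_le, inferInstance,
    mem_normalizer_of_inv (fun a _ x hx => by simp [mem_bot.mp hx]),
    mem_normalizer_of_inv (fun a _ x hx => by simp [mem_bot.mp hx])⟩
  obtain ⟨hMF, hMc, hFM, hAM⟩ := hM.1
  -- `M` is self centralising in `F`
  set C := F ⊓ centralizer (M : Set G) with hC
  have hconjC : ∀ u, u ∈ normalizer (F : Set G) → u ∈ normalizer (M : Set G) →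
      ∀ x ∈ C, u * x * u⁻¹ ∈ C := by
    intro u huF huM x hx
    refine ⟨(mem_normalizer_iff.mp huF x).mp hx.1, mem_centralizer_iff.mpr fun m hm => ?_⟩
    have hm' : u⁻¹ * m * u ∈ M := (mem_normalizer_iff''.mp huM m).mp hm
    have := mem_centralizer_iff.mp hx.2 _ hm'
    calc m * (u * x * u⁻¹) = u * ((u⁻¹ * m * u) * x) * u⁻¹ := by group
      _ = u * (x * (u⁻¹ * m * u)) * u⁻¹ := by rw [this]
      _ = _ := by group
  have hself : C ≤ M := by
    by_contra hnot
    let W : Subgroup G :=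
      { carrier := {x | x ∈ C ∧ ∀ f ∈ F, ⁅x, f⁆ ∈ M}
        one_mem' := ⟨one_mem _, fun f _ => by simp⟩
        mul_mem' := fun {x y} hx hy => ⟨mul_mem hx.1 hy.1, fun f hf => by
          have h1 := hy.2 f hf
          have h2 := mem_centralizer_iff.mp hx.1.2 _ h1
          rw [show ⁅x * y, f⁆ = x * ⁅y, f⁆ * x⁻¹ * ⁅x, f⁆ by simp only [commutatorElement_def]; group,
            ← h2, mul_inv_cancel_right]
          exact mul_mem h1 (hx.2 f hf)⟩
        inv_mem' := fun {x} hx => ⟨inv_mem hx.1, fun f hf => by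
          have h1 := inv_mem (hx.2 f hf)
          have h2 := mem_centralizer_iff.mp (C.inv_mem hx.1).2 _ h1
          rw [show ⁅x⁻¹, f⁆ = x⁻¹ * ⁅x, f⁆⁻¹ * x by simp only [commutatorElement_def]; group,
            ← h2, inv_mul_cancel_right]
          exact h1⟩ }
    have hAW : A ≤ normalizer (W : Set G) := mem_normalizer_of_inv fun a ha x hx => by
      refine ⟨hconjC a (hAF ha) (hAM ha) x hx.1, fun f hf => ?_⟩
      have hf' : a⁻¹ * f * a ∈ F := (mem_normalizer_iff''.mp (hAF ha) f).mp hf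
      rw [show ⁅a * x * a⁻¹, f⁆ = a * ⁅x, a⁻¹ * f * a⁆ * a⁻¹ by
        simp only [commutatorElement_def]; group]
      exact (mem_normalizer_iff.mp (hAM ha) _).mp (hx.2 _ hf')
    have hWM : ¬ W ≤ M := by
      intro hWM
      have hex : ∃ j, C ⊓ F.lowerCentralSeries j ≤ M :=
        ⟨_, by rw [lowerCentralSeries_eq_bot_of_nilpotencyClass_le le_rfl]; simp⟩
      classical
      have h0 : ¬ C ⊓ F.lowerCentralSeries 0 ≤ M := by
        rw [Subgroup.lowerCentralSeries_zero, inf_eq_left.mpr (inf_le_left : C ≤ F)]; exact hnot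
      have hpos : Nat.find hex ≠ 0 := fun h => h0 (h ▸ Nat.find_spec hex)
      obtain ⟨j, hj⟩ := Nat.exists_eq_succ_of_ne_zero hpos
      refine Nat.find_min hex (by omega : j < Nat.find hex) fun x hx => hWM ⟨hx.1, fun f hf => ?_⟩
      have hspec : C ⊓ F.lowerCentralSeries (j + 1) ≤ M := by
        have := Nat.find_spec hex
        rwa [hj] at this
      refine hspec ⟨?_, commutator_mem_commutator hx.2 hf⟩
      rw [commutatorElement_def, mul_assoc, mul_assoc, ← mul_assoc f]
      exact mul_mem hx.1 (hconjC f (le_normalizer hf) (hFM hf) _ (inv_mem hx.1))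
    obtain ⟨x, hxW, hxM, hxe⟩ := exists_eig hA hd
      (Odd.of_dvd_nat hL (card_dvd_of_le (fun y hy => hFL hy.1.1 : W ≤ L))) hAW hWM
    have hmem : M ⊔ zpowers x ∈ T := by
      refine ⟨sup_le hMF (zpowers_le.mpr hxW.1.1),
        PGroup.isMulCommutative_sup_zpowers hMc hxW.1.2, ?_, ?_⟩
      · refine mem_normalizer_of_inv fun f hf y hy => ?_
        have hle : M ⊔ zpowers x ≤ (M ⊔ zpowers x).comap (MulAut.conj f).toMonoidHom := by
          refine sup_le (fun m hm => mem_sup_left ((mem_normalizer_iff.mp (hFM hf) m).mp hm))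
            (zpowers_le.mpr ?_)
          suffices hh : f * x * f⁻¹ ∈ M ⊔ zpowers x by simpa using hh
          rw [show f * x * f⁻¹ = ⁅x, f⁆⁻¹ * x by simp only [commutatorElement_def]; group]
          exact mul_mem (mem_sup_left (inv_mem (hxW.2 f hf))) (mem_sup_right (mem_zpowers x))
        exact hle hy
      · refine mem_normalizer_of_inv fun f hf y hy => ?_
        have hle : M ⊔ zpowers x ≤ (M ⊔ zpowers x).comap (MulAut.conj f).toMonoidHom := by
          refine sup_le (fun m hm => mem_sup_left ((mem_normalizer_iff.mp (hAM hf) m).mp hm))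
            (zpowers_le.mpr ?_)
          suffices hh : f * x * f⁻¹ ∈ M ⊔ zpowers x by simpa using hh
          rcases hxe f hf with h | h <;> rw [h]
          · exact mem_sup_right (mem_zpowers x)
          · exact mem_sup_right (inv_mem (mem_zpowers x))
        exact hle hy
    exact hxM ((hM.2 hmem le_sup_left) (mem_sup_right (mem_zpowers x)))
  refine ⟨M, hMF.trans hFL, hMc, hAM, fun a ha hcm => ?_⟩
  have haa := mul_self_of_mem hA ha
  have ha' : a⁻¹ = a := inv_eq_of_mul_eq_one_right haa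
  have hfixF : ∀ f ∈ F, a * f = f * a := by
    intro f hf
    set y := f⁻¹ * (a * f * a⁻¹) with hy
    have hyF : y ∈ F := mul_mem (inv_mem hf) ((mem_normalizer_iff.mp (hAF ha) f).mp hf)
    have hyC : y ∈ centralizer (M : Set G) := by
      refine mem_centralizer_iff.mpr fun m hm => ?_
      have hfm : f * m * f⁻¹ ∈ M := (mem_normalizer_iff.mp (hFM hf) m).mp hm
      have h1 : a * (f * m * f⁻¹) * a⁻¹ = f * m * f⁻¹ := mul_inv_eq_iff_eq_mul.mpr (hcm _ hfm)
      have h2 : a⁻¹ * m * a = m := by rw [mul_assoc, ← hcm m hm, inv_mul_cancel_left]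
      calc m * y = f⁻¹ * ((f * m * f⁻¹) * (a * f * a⁻¹)) := by rw [hy]; group
        _ = f⁻¹ * ((a * (f * m * f⁻¹) * a⁻¹) * (a * f * a⁻¹)) := by rw [h1]
        _ = y * (a * m * a⁻¹) := by rw [hy]; group
        _ = y * m := by rw [mul_inv_eq_iff_eq_mul.mpr (hcm m hm)]
    exact trivial_of_inverted (Odd.of_dvd_nat hL (Subgroup.orderOf_dvd_natCard L (hFL hyF))) haa hy
      (mul_inv_eq_iff_eq_mul.mpr (hcm y (hself ⟨hyF, hyC⟩)))
  have haC : a ∈ A ⊓ centralizer (L : Set G) := by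
    refine ⟨ha, mem_centralizer_iff.mpr fun l hl => ?_⟩
    set y := l⁻¹ * (a * l * a⁻¹) with hy
    have hyL : y ∈ L := mul_mem (inv_mem hl) ((mem_normalizer_iff.mp (hAL ha) l).mp hl)
    have hyF : y ∈ F := by
      refine hCF y hyL fun f hf => ?_
      have hlf : l * f * l⁻¹ ∈ F := by
        obtain ⟨f', hf', rfl⟩ := hf
        exact ⟨⟨l, hl⟩ * f' * (⟨l, hl⟩)⁻¹, (inferInstance : (Cfsg.fittingSubgroup ↥L).Normal).conj_mem f' hf' _, rfl⟩
      have h1 : a * (l * f * l⁻¹) * a⁻¹ = l * f * l⁻¹ := mul_inv_eq_iff_eq_mul.mpr (hfixF _ hlf)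
      calc y * f = y * (a * f * a⁻¹) := by rw [mul_inv_eq_iff_eq_mul.mpr (hfixF f hf)]
        _ = l⁻¹ * ((a * (l * f * l⁻¹) * a⁻¹) * (a * l * a⁻¹)) := by rw [hy]; group
        _ = l⁻¹ * ((l * f * l⁻¹) * (a * l * a⁻¹)) := by rw [h1]
        _ = f * y := by rw [hy]; group
    exact (trivial_of_inverted (Odd.of_dvd_nat hL (Subgroup.orderOf_dvd_natCard L hyL)) haa hy
      (mul_inv_eq_iff_eq_mul.mpr (hfixF y hyF))).symm
  rwa [hf, mem_bot] at haC

/-- dual systems -/
theorem exists_dual {A M : Subgroup G} {d : ℕ} (hA : Cfsg.IsElementaryAbelian 2 A)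
    (hd : Nat.card A = 2 ^ d) (hMo : Odd (Nat.card M)) (hAM : A ≤ normalizer (M : Set G))
    (hf : ∀ a ∈ A, (∀ m ∈ M, a * m = m * a) → a = 1) :
    ∀ k : ℕ, ∀ B ≤ A, Nat.card B = 2 ^ k → ∃ a x : Fin k → G,
      (∀ i, a i ∈ B ∧ x i ∈ M ∧ x i ≠ 1 ∧ a i * x i * (a i)⁻¹ = (x i)⁻¹ ∧ Eig A (x i)) ∧
      (∀ i j, i ≠ j → Commute (a j) (x i)) ∧ B ≤ closure (Set.range a) := by
  intro k
  induction k with
  | zero =>
    intro B _ hB
    refine ⟨Fin.elim0, Fin.elim0, fun i => i.elim0, fun i => i.elim0, ?_⟩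
    rw [pow_zero, Subgroup.card_eq_one] at hB
    exact hB ▸ bot_le
  | succ k ih =>
    intro B hBA hB
    have hBne : B ≠ ⊥ := fun h => by
      rw [h, card_bot] at hB
      exact absurd hB (Nat.one_lt_two_pow (by omega)).ne
    obtain ⟨b, hb, hb1⟩ := (bot_or_exists_ne_one B).resolve_left hBne
    have hMb : ¬ M ≤ centralizer ({b} : Set G) := fun h => hb1 (hf b (hBA hb) fun m hm =>
      (mem_centralizer_singleton_iff.mp (h hm)).symm)
    obtain ⟨x₁, hx₁, hx₁b, hx₁e⟩ := exists_eig hA hd hMo hAM hMb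
    have hcomm_iff : ∀ c : G, c ∈ centralizer ({x₁} : Set G) ↔ c * x₁ * c⁻¹ = x₁ := fun c => by
      rw [mem_centralizer_singleton_iff, mul_inv_eq_iff_eq_mul]
    have hb_inv : b * x₁ * b⁻¹ = x₁⁻¹ := (hx₁e b (hBA hb)).resolve_left fun h =>
      hx₁b (mem_centralizer_singleton_iff.mpr (mul_inv_eq_iff_eq_mul.mp h).symm)
    have hx1ne : x₁ ≠ 1 := fun h => hx₁b (h ▸ one_mem _)
    have hne : x₁⁻¹ ≠ x₁ := fun h => hx1ne
      (commute_of_eig_odd (Odd.of_dvd_nat hMo (Subgroup.orderOf_dvd_natCard M hx₁)) hb_inv (hb_inv.trans h))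
    set B₀ := B ⊓ centralizer ({x₁} : Set G) with hB₀
    have hcase : ∀ c ∈ B, c ∉ B₀ → c * x₁ * c⁻¹ = x₁⁻¹ := fun c hc hc0 =>
      (hx₁e c (hBA hc)).resolve_left fun h => hc0 ⟨hc, (hcomm_iff c).mpr h⟩
    have htwo : ∀ c ∈ B, c ∉ B₀ → ∀ c' ∈ B, c' ∉ B₀ → c * c' ∈ B₀ := fun c hc hc0 c' hc' hc0' => by
      refine ⟨mul_mem hc hc', (hcomm_iff _).mpr ?_⟩
      rw [show c * c' * x₁ * (c * c')⁻¹ = c * (c' * x₁ * c'⁻¹) * c⁻¹ by group, hcase c' hc' hc0',
        ← conj_inv, hcase c hc hc0, inv_inv]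
    have hb0 : b ∉ B₀ := fun h => hne (hb_inv.symm.trans ((hcomm_iff b).mp h.2))
    have hidx : B₀.relIndex B = 2 := by
      refine relIndex_eq_two_iff.mpr ⟨b, hb, fun c hc => ?_⟩
      by_cases hc0 : c ∈ B₀
      · exact Or.inr ⟨hc0, fun h => hb0 (by simpa using mul_mem (inv_mem hc0) h)⟩
      · exact Or.inl ⟨htwo c hc hc0 b hb hb0, hc0⟩
    have hB₀c : Nat.card B₀ = 2 ^ k := by
      have h1 : Nat.card B₀ * B₀.relIndex B = Nat.card B := by
        rw [← relIndex_bot_left B₀, ← relIndex_bot_left B]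
        exact relIndex_mul_relIndex ⊥ B₀ B bot_le inf_le_left
      rw [hidx, hB, pow_succ] at h1
      exact Nat.eq_of_mul_eq_mul_right two_pos h1
    obtain ⟨a, x, hax, hcomm, hgen⟩ := ih B₀ (inf_le_left.trans hBA) hB₀c
    obtain ⟨a₁, ha₁B, ha₁0, ha₁c⟩ : ∃ c ∈ B, c ∉ B₀ ∧ ∀ i, c * x i * c⁻¹ = x i := by
      classical
      suffices ∀ s : Finset (Fin k), ∃ c ∈ B, c ∉ B₀ ∧ ∀ i ∈ s, c * x i * c⁻¹ = x i by
        obtain ⟨c, h1, h2, h3⟩ := this Finset.univ
        exact ⟨c, h1, h2, fun i => h3 i (Finset.mem_univ i)⟩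
      intro s
      induction s using Finset.induction_on with
      | empty => exact ⟨b, hb, hb0, fun i hi => absurd hi (Finset.notMem_empty i)⟩
      | insert i s his ih =>
        obtain ⟨c, hc, hc0, hcs⟩ := ih
        rcases (hax i).2.2.2.2 c (hBA hc) with h | h
        · exact ⟨c, hc, hc0, fun j hj => (Finset.mem_insert.mp hj).elim (fun e => e ▸ h) (hcs j)⟩
        · refine ⟨c * a i, mul_mem hc (hax i).1.1, fun h' => hc0 ?_, fun j hj => ?_⟩
          · simpa using mul_mem h' (inv_mem (hax i).1)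
          · rw [show c * a i * x j * (c * a i)⁻¹ = c * (a i * x j * (a i)⁻¹) * c⁻¹ by group]
            rcases Finset.mem_insert.mp hj with rfl | hj
            · rw [(hax j).2.2.2.1, ← conj_inv, h, inv_inv]
            · rw [mul_inv_eq_iff_eq_mul.mpr (hcomm j i (fun e => his (e ▸ hj))).eq, hcs j hj]
    refine ⟨Fin.cons a₁ a, Fin.cons x₁ x, fun i => ?_, fun i j hij => ?_, ?_⟩
    · induction i using Fin.cases with
      | zero =>
        simp only [Fin.cons_zero]
        exact ⟨ha₁B, hx₁, hx1ne, hcase a₁ ha₁B ha₁0, hx₁e⟩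
      | succ i =>
        simp only [Fin.cons_succ]
        exact ⟨(hax i).1.1, (hax i).2⟩
    · induction i using Fin.cases with
      | zero =>
        induction j using Fin.cases with
        | zero => exact absurd rfl hij
        | succ j =>
          simp only [Fin.cons_zero, Fin.cons_succ]
          exact mem_centralizer_singleton_iff.mp (hax j).1.2
      | succ i =>
        induction j using Fin.cases with
        | zero =>
          simp only [Fin.cons_zero, Fin.cons_succ]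
          exact mul_inv_eq_iff_eq_mul.mp (ha₁c i)
        | succ j =>
          simp only [Fin.cons_succ]
          exact hcomm i j fun e => hij (congrArg Fin.succ e)
    · have hsub : B₀ ≤ closure (Set.range (Fin.cons a₁ a : Fin (k + 1) → G)) := hgen.trans
        (closure_mono (by rintro _ ⟨i, rfl⟩; exact ⟨i.succ, by simp⟩))
      have ha1 : a₁ ∈ closure (Set.range (Fin.cons a₁ a : Fin (k + 1) → G)) :=
        subset_closure ⟨0, by simp⟩
      intro c hc
      by_cases hc0 : c ∈ B₀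
      · exact hsub hc0
      · simpa using mul_mem (inv_mem ha1) (hsub (htwo a₁ ha₁B ha₁0 c hc hc0))

theorem dihedral_pair {a x : G} (ha : a * a = 1) (ha1 : a ≠ 1) (hx : Odd (orderOf x))
    (h : a * x * a⁻¹ = x⁻¹) :
    Nonempty (↥(zpowers a ⊔ zpowers x) ≃* DihedralGroup (orderOf x)) := by
  set S := zpowers a ⊔ zpowers x
  have hord : orderOf a = 2 := orderOf_eq_prime (by rw [sq, ha]) ha1
  have hcop : (Nat.card (zpowers a)).Coprime (Nat.card (zpowers x)) := by
    rw [Nat.card_zpowers, Nat.card_zpowers, hord]; exact Nat.coprime_two_left.mpr hx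
  have hd : zpowers a ⊓ zpowers x = ⊥ := Coprime.disjoint_of_coprime_card hcop
  have hn : zpowers a ≤ normalizer (zpowers x : Set G) := by
    rw [zpowers_le]
    have key : ∀ y ∈ zpowers x, a * y * a⁻¹ ∈ zpowers x := by
      rintro _ ⟨i, rfl⟩
      simp only
      rw [← conj_zpow, h]
      exact zpow_mem (inv_mem (mem_zpowers x)) i
    refine mem_normalizer_iff.mpr fun y => ⟨key y, fun hy => ?_⟩
    have := key _ hy
    rw [inv_eq_of_mul_eq_one_right ha] at this
    rwa [show a * (a * y * a) * a = (a * a) * y * (a * a) by group, ha, one_mul, mul_one] at this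
  refine PGroup.dihedralEquivOfRel (G := ↥S) (a := ⟨x, mem_sup_right (mem_zpowers x)⟩)
    (b := ⟨a, mem_sup_left (mem_zpowers a)⟩) (Subgroup.orderOf_mk ..) ?_ (Subtype.ext (by simp [sq, ha]))
    (Subtype.ext h) ?_
  · rintro ⟨i, hi⟩
    refine ha1 (mem_bot.mp (hd ▸ ⟨mem_zpowers a, ⟨i, ?_⟩⟩))
    exact congrArg Subtype.val hi
  · rw [Coprime.card_sup_of_le_normalizer hn hd, Nat.card_zpowers, Nat.card_zpowers, hord]

/-- Let G be finite, L ≤ G solvable of odd order, and A an elementary abelian 2-subgroup of order 2^d (d ≥ 1) normalizing L with C_A(L) = 1. Then there are subgroups A_1, …, A_d of A of order 2 generating A and subgroups L_1, …, L_d of L such that each A_i ⊔ L_i is dihedral of order 2 n_i with n_i odd and at least 3, and A_i ⊔ L_i commutes elementwise with A_j ⊔ L_j for i ≠ j. -/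
theorem result {G : Type*} [Group G] [Finite G] (L A : Subgroup G) (hLs : Group.IsSolvable ↥L) (hLodd : Odd (Nat.card ↥L)) (hA : Cfsg.IsElementaryAbelian 2 A) (d : ℕ) (hd : 1 ≤ d) (hAd : Nat.card ↥A = 2 ^ d) (hAL : A ≤ Subgroup.normalizer (L : Set G)) (hfaith : A ⊓ Subgroup.centralizer (L : Set G) = ⊥) : ∃ (Ai : Fin d → Subgroup G) (Li : Fin d → Subgroup G) (n : Fin d → ℕ), (∀ i, Ai i ≤ A ∧ Nat.card ↥(Ai i) = 2 ∧ Li i ≤ L ∧ Odd (n i) ∧ 3 ≤ n i ∧ Nonempty (↥(Ai i ⊔ Li i) ≃* DihedralGroup (n i))) ∧ (⨆ i, Ai i) = A ∧ ∀ i j, i ≠ j → ∀ x ∈ Ai i ⊔ Li i, ∀ y ∈ Ai j ⊔ Li j, x * y = y * x := by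
  obtain ⟨M, hML, hMc, hAM, hf⟩ := exists_faithful_abelian hLs hLodd hA hAd hAL hfaith
  obtain ⟨a, x, hax, hcomm, hgen⟩ :=
    exists_dual hA hAd (Odd.of_dvd_nat hLodd (Subgroup.card_dvd_of_le hML)) hAM hf d A le_rfl hAd
  have hxodd : ∀ i, Odd (orderOf (x i)) := fun i =>
    Odd.of_dvd_nat hLodd (Subgroup.orderOf_dvd_natCard L (hML (hax i).2.1))
  have ha1 : ∀ i, a i ≠ 1 := fun i h => by
    have := (hax i).2.2.2.1
    rw [h, one_mul, inv_one, mul_one] at this
    exact (hax i).2.2.1 (commute_of_eig_odd (a := 1) (hxodd i) (by simpa using this) (by simp))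
  refine ⟨fun i => Subgroup.zpowers (a i), fun i => Subgroup.zpowers (x i), fun i => orderOf (x i),
    fun i => ⟨Subgroup.zpowers_le.mpr (hax i).1, ?_, Subgroup.zpowers_le.mpr (hML (hax i).2.1),
      hxodd i, ?_, dihedral_pair (mul_self_of_mem hA (hax i).1) (ha1 i) (hxodd i) (hax i).2.2.2.1⟩,
    ?_, ?_⟩
  · rw [Nat.card_zpowers]
    exact orderOf_eq_prime (hA.2 _ (hax i).1) (ha1 i)
  · obtain ⟨k, hk⟩ := hxodd i
    show 3 ≤ orderOf (x i)
    have : orderOf (x i) ≠ 1 := fun h => (hax i).2.2.1 (orderOf_eq_one_iff.mp h)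
    omega
  · refine le_antisymm (iSup_le fun i => Subgroup.zpowers_le.mpr (hax i).1) (hgen.trans ?_)
    rw [Subgroup.closure_le]
    rintro _ ⟨i, rfl⟩
    exact Subgroup.mem_iSup_of_mem i (Subgroup.mem_zpowers (a i))
  · intro i j hij u hu v hv
    have hle : Subgroup.zpowers (a i) ⊔ Subgroup.zpowers (x i) ≤
        Subgroup.centralizer ((Subgroup.zpowers (a j) ⊔ Subgroup.zpowers (x j) : Subgroup G) : Set G) := by
      refine sup_le (Subgroup.zpowers_le.mpr ?_) (Subgroup.zpowers_le.mpr ?_) <;>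
      rw [Subgroup.zpowers_eq_closure, Subgroup.zpowers_eq_closure, ← Subgroup.closure_union,
        Subgroup.centralizer_closure, Subgroup.mem_centralizer_iff] <;> rintro y (rfl | rfl)
      · exact Cfsg.Agent.PGroup.mul_comm_of_isMulCommutative hA.1 (hax j).1 (hax i).1
      · exact (hcomm j i hij.symm).eq.symm
      · exact (hcomm i j hij).eq
      · exact Cfsg.Agent.PGroup.mul_comm_of_isMulCommutative hMc (hax j).2.1 (hax i).2.1
    exact (Subgroup.mem_centralizer_iff.mp (hle hu) v hv).symm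

end Cfsg.Agent.S1349
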