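import Cfsg.Statements.S1350
import Cfsg.Agent.Lib.OddOrder.SigmaCore

set_option autoImplicit false
open Cfsg

namespace Cfsg.Agent.S1350

/-- Let G be a minimal simple group of odd order and M a maximal subgroup. Then M_σ (the largest normal σ(M)-subgroup of M) is a Hall σ(M)-subgroup of M and also of G, and every Hall σ(M)-subgroup of M that is normal in M equals M_σ. -/
theorem result {G : Type*} [Group G] [Finite G] (hG : Cfsg.IsMinSimpleOddOrder G)
    (M : Subgroup G) (hM : IsCoatom M) :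
    Cfsg.IsPiHallOf (Cfsg.sigma M) (Cfsg.sigmaCore M) M ∧ Cfsg.IsPiHall (Cfsg.sigma M) (Cfsg.sigmaCore M) ∧
      ∀ N : Subgroup G, M ≤ Subgroup.normalizer (N : Set G) → Cfsg.IsPiHallOf (Cfsg.sigma M) N M →
        N = Cfsg.sigmaCore M := by
  refine ⟨OddOrder.sigmaCore_hall hG hM, OddOrder.sigmaCore_isPiHall hG hM, fun N hN hNh => ?_⟩
  haveI hn : (N.subgroupOf M).Normal := Subgroup.normal_subgroupOf_iff_le_normalizer hNh.1 |>.2 hN
  have hle : N.subgroupOf M ≤ Cfsg.piCore (Cfsg.sigma M) ↥M := le_sSup ⟨hn, fun p hp hd =>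
    hNh.2.1 p hp (by rwa [Nat.card_congr (Subgroup.subgroupOfEquivOfLe hNh.1).toEquiv] at hd)⟩
  have hle' : N ≤ Cfsg.sigmaCore M := by
    have := Subgroup.map_mono (f := M.subtype) hle
    rwa [Subgroup.map_subgroupOf_eq_of_le hNh.1] at this
  refine le_antisymm hle' (Subgroup.relIndex_eq_one.1 ?_)
  by_contra hne
  obtain ⟨p, hp, hd⟩ := Nat.exists_prime_and_dvd hne
  exact hNh.2.2 p hp ((OddOrder.sigmaCore_hall hG hM).2.1 p hp (hd.trans (Subgroup.relIndex_dvd_card N _)))
    (hd.trans (Dvd.intro _ (Subgroup.relIndex_mul_relIndex N (Cfsg.sigmaCore M) M hle'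
      (OddOrder.sigmaCore_hall hG hM).1)))

end Cfsg.Agent.S1350
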