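import Cfsg.Statements.S1360
import Cfsg.Agent.Lib.OddOrder.TheoremB
import Cfsg.Agent.Lib.OddOrder.PMaximal
import Cfsg.Agent.Lib.OddOrder.FrobeniusCriterion
import Cfsg.Agent.Lib.OddOrder.TauThreeRegular
import Cfsg.Agent.S1421
-- import your own Cfsg.Agent.* helpers here

set_option autoImplicit false
open Cfsg

namespace Cfsg.Agent.S1360

/-- Let G be a minimal simple group of odd order and M a maximal subgroup with standard factorisation M = K U M_σ. Then U contains a subgroup U₀ with the same exponent as U such that no non-identity element of U₀ centralizes a non-identity element of M_σ. -/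
theorem result {G : Type*} [Group G] [Finite G] (hG : Cfsg.IsMinSimpleOddOrder G)
    (M : Subgroup G) (hM : IsCoatom M) (K U : Subgroup G) (hKU : Cfsg.IsSigmaDecomposition M K U) :
    ∃ U₀ : Subgroup G, U₀ ≤ U ∧ Monoid.exponent U₀ = Monoid.exponent U ∧ ∀ u ∈ U₀, u ∈ Cfsg.sigmaHat M → u = 1 := by
  have h13 := Cfsg.Agent.OddOrder.bg13 hG
  refine Cfsg.Agent.OddOrder.TheoremB.exists_free_same_exponent hG hM hKU (fun hK => ?_) (fun hK => ?_)
  · exact (S1421.result hG M hM U (Cfsg.Agent.OddOrder.TheoremB.complIn_of_bot hKU hK)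
      (fun e he he1 hπ => Cfsg.Agent.OddOrder.TheoremB.fpf_of_tau13 hG hM hKU he he1 hπ)).2
  · obtain ⟨U', hc, hU', -⟩ := (Cfsg.Agent.OddOrder.pMaximal_structure hG h13 hM hKU.hall hK).2.1
    exact ⟨U', hc, hU'⟩

end Cfsg.Agent.S1360
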