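import Cfsg.Statements.S1386


set_option autoImplicit false
open Cfsg

namespace Cfsg.Agent.S1386

theorem card_sup_of_commute {G : Type*} [Group G] (A B : Subgroup G) (hAB : A ⊓ B = ⊥)
    (hcomm : ∀ a ∈ A, ∀ c ∈ B, a * c = c * a) : Nat.card ↥(A ⊔ B) = Nat.card A * Nat.card B := by
  let f : A × B →* G := A.subtype.noncommCoprod B.subtype (fun a c => hcomm a a.2 c c.2)
  have hf : Function.Injective f := by
    refine MonoidHom.noncommCoprod_injective .. |>.mpr ⟨A.subtype_injective, B.subtype_injective, ?_⟩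
    rw [Subgroup.range_subtype, Subgroup.range_subtype, disjoint_iff]
    exact hAB
  have hr : f.range = A ⊔ B := by
    refine (MonoidHom.noncommCoprod_range A.subtype B.subtype (fun a c => hcomm a a.2 c c.2)).trans ?_
    rw [Subgroup.range_subtype, Subgroup.range_subtype]
  rw [← hr, ← Nat.card_prod]
  exact (Nat.card_congr (MonoidHom.ofInjective hf).toEquiv).symm

theorem eq_of_card_eq_in_cyclic {G : Type*} [Group G] [Finite G] (W A B : Subgroup G) [hW : IsCyclic W]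
    (hA : A ≤ W) (hB : B ≤ W) (h : Nat.card A = Nat.card B) : A = B := by
  obtain ⟨g, hg⟩ := hW.exists_generator
  classical
  haveI := Fintype.ofFinite W
  have key : ∀ C : Subgroup G, C ≤ W → ∀ y : W, (y : G) ∈ C → y ^ Nat.card C = 1 := by
    intro C hC y hy
    apply Subtype.ext
    have h0 : ((⟨(y : G), hy⟩ : C) : G) ^ Nat.card C = 1 := by
      rw [← Subgroup.coe_pow, pow_card_eq_one', Subgroup.coe_one]
    exact h0
  have hsol : ∀ C : Subgroup G, C ≤ W → (C.subgroupOf W : Set W) = {y : W | y ^ Nat.card C = 1} := by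
    intro C hC
    apply Set.eq_of_subset_of_ncard_le (fun y hy => key C hC y hy) ?_ (Set.toFinite _)
    have h1 : Set.ncard {y : W | y ^ Nat.card C = 1} ≤ Nat.card C := by
      rw [Set.ncard_eq_toFinset_card']
      simpa using IsCyclic.card_pow_eq_one_le (α := W) Nat.card_pos
    refine h1.trans_eq ?_
    exact (Nat.card_congr (Subgroup.subgroupOfEquivOfLe hC).toEquiv).symm.trans
      (Nat.card_coe_set_eq (C.subgroupOf W : Set W))
  have e : A.subgroupOf W = B.subgroupOf W := SetLike.coe_injective (by rw [hsol A hA, hsol B hB, h])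
  exact le_antisymm (fun a ha => Subgroup.mem_subgroupOf.mp (e ▸ (show (⟨a, hA ha⟩ : W) ∈ A.subgroupOf W from ha)))
    (fun a ha => Subgroup.mem_subgroupOf.mp (e.symm ▸ (show (⟨a, hB ha⟩ : W) ∈ B.subgroupOf W from ha)))


/-- Let G be a finite group, W₁, W₂ subgroups forming a self-normalizing cyclic pair, S a subgroup with W₂ ≤ S and W₁ a complement to S' in S, and (W₁, U, W₂') type-P data for S. Then W₂' = W₂ (that is, C_{S'}(W₁) = W₂). -/
theorem result {G : Type*} [Group G] [Finite G] (W₁ W₂ S U W₂' : Subgroup G) (hW : Cfsg.IsSelfNormalizingCyclic W₁ W₂)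
    (hSW : Cfsg.IsComplIn ⁅S, S⁆ W₁ S) (hW₂S : W₂ ≤ S) (hP : Cfsg.IsTypePWith S W₁ U W₂') :
    W₂' = W₂ := by
  obtain ⟨hW1ne, hW2ne, hW12, hWcomm, hWcyc, hWnorm⟩ := hW
  obtain ⟨-, -, hSW0, hSWmul⟩ := hSW
  set D : Subgroup G := ⁅S, S⁆ with hD
  obtain ⟨x, hx, hx1⟩ := W₁.bot_or_exists_ne_one.resolve_left hW1ne
  have hW2'eq := hP.W₂_centralizer x hx hx1
  have hP' := hP.selfNormalizing
  obtain ⟨-, -, hW12', hW'comm, hW'cyc, -⟩ := hP'
  -- the two products agree
  have hle : W₁ ⊔ W₂ ≤ W₁ ⊔ W₂' := by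
    refine sup_le le_sup_left fun b hb => ?_
    obtain ⟨d, hd, a, ha, rfl⟩ := hSWmul b (hW₂S hb)
    refine Subgroup.mul_mem _ ?_ (Subgroup.mem_sup_left ha)
    apply Subgroup.mem_sup_right
    rw [← hW2'eq]
    refine ⟨hd, Subgroup.mem_centralizer_singleton_iff.mpr ?_⟩
    have e1 : x * (d * a) = d * a * x := hWcomm x hx _ hb
    have e2 : x * a = a * x := by
      have : IsMulCommutative W₁ := by
        haveI := hP.W₁_cyclic
        infer_instance
      exact congrArg Subtype.val (mul_comm' (⟨x, hx⟩ : W₁) ⟨a, ha⟩)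
    have : d * x * a = x * d * a := by
      rw [mul_assoc d x a, e2, ← mul_assoc, ← e1, mul_assoc]
    exact (mul_right_cancel this)
  obtain ⟨b, hb, hb1⟩ := W₂.bot_or_exists_ne_one.resolve_left hW2ne
  have hw : x * b ∈ (↑(W₁ ⊔ W₂) : Set G) \ (↑W₁ ∪ ↑W₂) := by
    refine ⟨Subgroup.mul_mem _ (Subgroup.mem_sup_left hx) (Subgroup.mem_sup_right hb), ?_⟩
    rintro (h | h)
    · exact hb1 (Subgroup.mem_bot.mp (hW12 ▸ ⟨(W₁.mul_mem_cancel_left hx).mp h, hb⟩ : b ∈ (⊥ : Subgroup G)))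
    · exact hx1 (Subgroup.mem_bot.mp (hW12 ▸ ⟨hx, (W₂.mul_mem_cancel_right hb).mp h⟩ : x ∈ (⊥ : Subgroup G)))
  have hN := hWnorm {x * b} (Set.singleton_subset_iff.mpr hw) (Set.singleton_nonempty _)
  have heq : W₁ ⊔ W₂ = W₁ ⊔ W₂' := by
    refine le_antisymm hle fun v hv => ?_
    rw [← hN]
    haveI := hW'cyc
    have hc : (⟨v, hv⟩ : ↥(W₁ ⊔ W₂')) * ⟨x * b, hle hw.1⟩ = ⟨x * b, hle hw.1⟩ * ⟨v, hv⟩ := mul_comm' _ _
    have hc' : v * (x * b) = x * b * v := congrArg Subtype.val hc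
    show ∀ y, y ∈ ({x * b} : Set G) ↔ v * y * v⁻¹ ∈ ({x * b} : Set G)
    intro y
    simp only [Set.mem_singleton_iff]
    constructor
    · rintro rfl
      rw [hc', mul_inv_cancel_right]
    · intro h
      have : v * y * v⁻¹ = v * (x * b) * v⁻¹ := by rw [h, hc', mul_inv_cancel_right]
      simpa using this
  have hcard : ∀ A B : Subgroup G, A ⊓ B = ⊥ → (∀ a ∈ A, ∀ c ∈ B, a * c = c * a) →
      Nat.card ↥(A ⊔ B) = Nat.card A * Nat.card B := by
    intro A B hAB hcomm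
    exact card_sup_of_commute A B hAB hcomm
  have h2 : Nat.card W₂' = Nat.card W₂ := by
    have e1 := hcard W₁ W₂ hW12 hWcomm
    have e2 := hcard W₁ W₂' hW12' hW'comm
    rw [heq, e2] at e1
    exact Nat.eq_of_mul_eq_mul_left (Nat.pos_of_ne_zero (Nat.card_pos.ne')) e1
  exact eq_of_card_eq_in_cyclic (W₁ ⊔ W₂) W₂' W₂ (heq ▸ le_sup_right) le_sup_right h2

end Cfsg.Agent.S1386
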