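import Cfsg.Statements.S1388
import Cfsg.Agent.Lib.OddOrder.FittingHall

set_option autoImplicit false
open Cfsg

namespace Cfsg.Agent.S1388

/-- Let M be a subgroup of a finite group G with type-P data (W₁, U, W₂) and H = M_F. Then the derived subgroup of U centralizes H, and if U ≠ 1 then U does not centralize H. -/
theorem result {G : Type*} [Group G] [Finite G] (M W₁ U W₂ : Subgroup G) (hP : Cfsg.IsTypePWith M W₁ U W₂) :
    ⁅U, U⁆ ≤ Subgroup.centralizer (Cfsg.fittingHallOf M : Set G) ∧ (U ≠ ⊥ → ¬ U ≤ Subgroup.centralizer (Cfsg.fittingHallOf M : Set G)) := by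
  set H := Cfsg.fittingHallOf M with hH
  set C := Subgroup.centralizer (H : Set G) with hC
  obtain ⟨hHD, hUD, hHU, hDmul⟩ := hP.U_compl
  constructor
  · intro x hx
    have hxU : x ∈ U := U.commutator_le_self hx
    have hx' : x ∈ H ⊔ (U ⊓ C) := by
      have h := hP.derived_two_le (Subgroup.commutator_mono hUD hUD hx)
      rw [hP.fitting_eq, Cfsg.Agent.OddOrder.typeP_fitting_eq hP] at h
      exact h
    have hnorm : U ⊓ C ≤ Subgroup.normalizer (H : Set G) :=
      inf_le_right.trans (Subgroup.centralizer_le_normalizer _)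
    rw [← SetLike.mem_coe, Subgroup.coe_mul_of_right_le_normalizer_left _ _ hnorm] at hx'
    obtain ⟨h, hh, c, hc, rfl⟩ := hx'
    have : h ∈ H ⊓ U := ⟨hh, (U.mul_mem_cancel_right hc.1).mp hxU⟩
    rw [hHU, Subgroup.mem_bot] at this
    simpa [this] using hc.2
  · intro hU hUC
    apply hU
    have hUM : U ≤ M := hUD.trans M.commutator_le_self
    have hn : M ≤ Subgroup.normalizer (U : Set G) := by
      intro m hm
      obtain ⟨-, -, -, hMmul⟩ := hP.W₁_compl
      obtain ⟨d, hd, w, hw, rfl⟩ := hMmul m hm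
      obtain ⟨h, hh, u, hu, rfl⟩ := hDmul d hd
      refine Subgroup.mul_mem _ (Subgroup.mul_mem _ ?_ (Subgroup.le_normalizer hu)) (hP.U_normal hw)
      refine Subgroup.mem_normalizer_iff.mpr fun v => ?_
      constructor
      · intro hv
        have e : h * v = v * h := Subgroup.mem_centralizer_iff.mp (hUC hv) h hh
        rw [e, mul_inv_cancel_right]
        exact hv
      · intro hv
        have e : h * (h * v * h⁻¹) = h * v * h⁻¹ * h := Subgroup.mem_centralizer_iff.mp (hUC hv) h hh
        rw [inv_mul_cancel_right] at e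
        have e' : h * v * h⁻¹ = v := mul_left_cancel e
        rwa [e'] at hv
    have hcard : Nat.card (U.subgroupOf M) = Nat.card U := Nat.card_congr (Subgroup.subgroupOfEquivOfLe hUM).toEquiv
    have hDM := Cfsg.Agent.OddOrder.card_eq_of_isComplIn hP.W₁_compl
    have hHUc := Cfsg.Agent.OddOrder.card_eq_of_isComplIn hP.U_compl
    have hW : (Nat.card W₁).Coprime (Nat.card ↥⁅M, M⁆) := by
      have e := Subgroup.card_mul_index (W₁.subgroupOf M)
      rw [Nat.card_congr (Subgroup.subgroupOfEquivOfLe hP.W₁_compl.2.1).toEquiv, ← hDM,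
        mul_comm (Nat.card ↥⁅M, M⁆)] at e
      rw [← Nat.eq_of_mul_eq_mul_left Nat.card_pos e]
      exact hP.W₁_hall
    have hidx : (U.subgroupOf M).index = Nat.card H * Nat.card W₁ := by
      have e := Subgroup.card_mul_index (U.subgroupOf M)
      rw [hcard, ← hDM, ← hHUc] at e
      refine Nat.eq_of_mul_eq_mul_left Nat.card_pos (e.trans ?_)
      ring
    have hle : U.subgroupOf M ≤ Cfsg.fittingHall M := by
      refine le_sSup ⟨(Subgroup.normal_subgroupOf_iff_le_normalizer hUM).mpr hn, ?_, ?_⟩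
      · haveI := hP.U_nilpotent
        exact Group.nilpotent_of_mulEquiv (Subgroup.subgroupOfEquivOfLe hUM).symm
      · rw [hcard, hidx]
        refine Nat.Coprime.mul_right (Cfsg.Agent.OddOrder.coprime_fittingHallOf_of_inf_eq_bot hUM hHU).symm ?_
        exact (hW.coprime_dvd_right (hHUc ▸ Dvd.intro_left _ rfl)).symm
    have hUH : U ≤ H := fun u hu => Subgroup.mem_map.mpr ⟨⟨u, hUM hu⟩, hle (Subgroup.mem_subgroupOf.mpr hu), rfl⟩
    rw [← hHU]
    exact (inf_eq_right.mpr hUH).symm

end Cfsg.Agent.S1388
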