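import Cfsg.Statements.S1394
import Cfsg.Agent.Lib.OddOrder.Transitivity
import Cfsg.Agent.Lib.OddOrder.Elementary

set_option autoImplicit false
open Cfsg

namespace Cfsg.Agent.S1394

/-- Let G be a minimal simple group of odd order, A a subgroup satisfying the transitivity hypothesis whose centre has rank at least 2, K = O_{π(A)'}(C_G(A)), and q a prime dividing the order of C_G(A) but not that of A. Then any two maximal A-invariant q-subgroups of G are conjugate by an element of K. -/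
theorem result {G : Type*} [Group G] [Finite G] (hG : Cfsg.IsMinSimpleOddOrder G)
    (A : Subgroup G) (hA : Cfsg.TransitivityHypothesis A) (hZ : ¬ Cfsg.RankLE 1 ↥(A ⊓ Subgroup.centralizer (A : Set G)))
    (q : ℕ) (hq : q.Prime) (hqA : ¬ q ∣ Nat.card A) (hqC : q ∣ Nat.card (Subgroup.centralizer (A : Set G))) :
    ∀ Q₁ ∈ Cfsg.maxInvSubgroups ⊤ A {q}, ∀ Q₂ ∈ Cfsg.maxInvSubgroups ⊤ A {q}, ∃ k ∈ Cfsg.piCoreOf (Cfsg.primesNotDvd (Nat.card A)) (Subgroup.centralizer (A : Set G)), Q₂ = Q₁.map (MulAut.conj k).toMonoidHom := by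
  haveI := Fact.mk hq
  obtain ⟨p, hp, E, hEZ, hEc, hEp, hEcomm⟩ := OddOrder.exists_elementary_of_not_rankLE hZ
  haveI := Fact.mk hp
  have hE1 : E ≠ ⊥ := by
    intro h
    rw [h, Subgroup.card_bot] at hEc
    exact absurd hEc (Nat.one_lt_pow (by norm_num) hp.one_lt).ne
  obtain ⟨f, hf, hf1⟩ := E.bot_or_exists_ne_one.resolve_left hE1
  obtain ⟨e, he, hnot⟩ : ∃ e ∈ E, e ∉ Subgroup.zpowers f := by
    by_contra h
    push Not at h
    have := Subgroup.card_le_of_le (show E ≤ Subgroup.zpowers f from h)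
    rw [hEc, Nat.card_zpowers, orderOf_eq_prime (hEp f hf) hf1] at this
    exact absurd this (not_le.mpr (lt_self_pow₀ hp.one_lt (by norm_num)))
  obtain ⟨t, ht⟩ := exists_prime_orderOf_dvd_card' q hqC
  have ht' : orderOf (t : G) = q := (Subgroup.orderOf_coe t).trans ht
  have hT : IsPGroup q (Subgroup.zpowers (t : G)) :=
    IsPGroup.of_card (n := 1) (by rw [Nat.card_zpowers, ht', pow_one])
  have hTA : A ≤ Subgroup.normalizer ((Subgroup.zpowers (t : G)) : Set G) :=
    (Subgroup.le_centralizer_iff.mp ((Subgroup.zpowers_le).mpr t.2)).trans (Subgroup.centralizer_le_normalizer _)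
  obtain ⟨Q₀, hQ₀, hTQ₀⟩ := OddOrder.exists_maxInv_ge hT hTA
  have ht1 : (t : G) ≠ 1 := by
    intro h
    rw [h, orderOf_one] at ht'
    exact hq.ne_one ht'.symm
  have main : ∀ Q ∈ Cfsg.maxInvSubgroups ⊤ A {q}, OddOrder.Linked A Q Q₀ := by
    intro Q hQ
    have hQ1 : Q ≠ ⊥ := by
      intro h
      have := hQ.2 _ (OddOrder.mem_invSubgroups_iff.mpr ⟨hT, hTA⟩) (h ▸ bot_le)
      exact ht1 (Subgroup.mem_bot.mp ((this.trans h) ▸ Subgroup.mem_zpowers (t : G)))
    have hn := OddOrder.le_normalizer_of_maxInv hQ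
    obtain ⟨g, hg, hg1, x, hx, hx1, hgx⟩ := OddOrder.exists_fixed_in hqA (OddOrder.isPGroup_of_maxInv hQ) hQ1
      (hEZ hf).1 (hEcomm e he f hf) (hEp e he) (hEp f hf) hf1 hnot (hn (hEZ he).1) (hn (hEZ hf).1)
    have hgE : g ∈ E := sup_le (Subgroup.zpowers_le.mpr he) (Subgroup.zpowers_le.mpr hf) hg
    have hgA := hEZ hgE
    refine OddOrder.linked_of_meet hG hA hqA hQ hQ₀
      (OddOrder.centralizer_singleton_ne_top_of_minSimple hG hg1) ?_ ?_ ?_
    · intro a ha
      exact Subgroup.mem_centralizer_singleton_iff.mpr (Subgroup.mem_centralizer_iff.mp hgA.2 a ha)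
    · intro h
      exact hx1 (Subgroup.mem_bot.mp (h ▸ ⟨Subgroup.mem_centralizer_singleton_iff.mpr hgx.eq.symm, hx⟩))
    · intro h
      exact ht1 (Subgroup.mem_bot.mp (h ▸ ⟨Subgroup.mem_centralizer_singleton_iff.mpr
        (Subgroup.mem_centralizer_iff.mp t.2 g hgA.1).symm, hTQ₀ (Subgroup.mem_zpowers _)⟩))
  intro Q₁ h₁ Q₂ h₂
  exact ((main Q₁ h₁).trans (main Q₂ h₂).symm).exists_map

end Cfsg.Agent.S1394
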