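import Cfsg.Statements.S1481
import Cfsg.Agent.Lib.OddOrder.FittingLocal
import Cfsg.Agent.Lib.OddOrder.Transitivity
import Cfsg.Agent.Lib.PCore.HallHigman
import Cfsg.Agent.Lib.Coprime.Generation
-- import your own Cfsg.Agent.* helpers here

set_option autoImplicit false
open Cfsg

namespace Cfsg.Agent.S1481

open OddOrder
open Subgroup (centralizer normalizer)
open scoped commutatorElement Pointwise

universe u
variable {G : Type u} [Group G] [Finite G]

/-- The setting of the statement. -/
structure Setting (H M R : Subgroup G) : Prop where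
  hH : Cfsg.IsLocalSubgroup H
  hHmax : ∀ L : Subgroup G, Cfsg.IsLocalSubgroup L → H ≤ L → L = H
  hF2 : 2 ≤ (Nat.card (Cfsg.fittingOf H)).primeFactors.card
  hM : M ≤ Cfsg.fittingOf H
  hCM : Cfsg.fittingOf H ⊓ centralizer (M : Set G) ≤ M
  hR : Group.IsSolvable R
  hMR : M ≤ normalizer (R : Set G)
  hXR : H ⊓ centralizer (Cfsg.fittingOf H : Set G) ≤ normalizer (R : Set G)

variable {H M R : Subgroup G}

theorem Setting.normalizer_zOf (h : Setting H M R) {r : ℕ} [hr : Fact r.Prime]
    (hd : r ∣ Nat.card (fittingOf H)) : normalizer (zOf r H : Set G) = H :=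
  h.hHmax _ ⟨r, zOf r H, hr.out, isPGroup_zOf H, zOf_ne_bot hd, rfl⟩ (le_normalizer_zOf H)

theorem Setting.centralizer_zOf_le (h : Setting H M R) {r : ℕ} [Fact r.Prime]
    (hd : r ∣ Nat.card (fittingOf H)) : centralizer (zOf r H : Set G) ≤ H :=
  (Subgroup.centralizer_le_normalizer _).trans (h.normalizer_zOf hd).le

theorem Setting.zOf_le_M (h : Setting H M R) {r : ℕ} [Fact r.Prime] : zOf r H ≤ M :=
  ((zOf_le_center_fittingOf H).trans (inf_le_inf_left _ (Subgroup.centralizer_le h.hM))).trans h.hCM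

theorem Setting.eq_one_of_centralizes (h : Setting H M R) {g : G} (hgH : g ∈ H) (hgR : g ∈ R)
    (hgM : g ∈ centralizer (M : Set G)) (hcop : (orderOf g).Coprime (Nat.card (fittingOf H))) : g = 1 := by
  set F := fittingOf H with hF
  have hgF : g ∈ centralizer (F : Set G) := mem_centralizer_of_nilpotent (isNilpotent_fittingOf H) h.hM h.hCM
    (le_normalizer_fittingOf H hgH) hcop hgM
  haveI : Group.IsSolvable (R ⊓ (H ⊓ centralizer (F : Set G)) : Subgroup G) :=
    Coprime.isSolvable_of_le inf_le_left h.hR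
  have hg : g ∈ F := solvable_le_fittingOf inf_le_right
    ((le_inf h.hXR Subgroup.le_normalizer).trans Subgroup.inf_normalizer_le_normalizer_inf)
    ⟨hgR, hgH, hgF⟩
  exact orderOf_eq_one_iff.1 (Nat.eq_one_of_dvd_coprimes hcop dvd_rfl (Subgroup.orderOf_dvd_natCard F hg))

variable {q : ℕ} [hq : Fact q.Prime]

theorem Setting.inf_centralizer_eq_bot (h : Setting H M R) (hqF : ¬ q ∣ Nat.card (fittingOf H))
    {Y : Subgroup G} (hYR : Y ≤ R) (hY : IsPGroup q Y) (hMY : M ≤ normalizer (Y : Set G))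
    {r : ℕ} [Fact r.Prime] (hd : r ∣ Nat.card (fittingOf H)) :
    Y ⊓ centralizer (zOf r H : Set G) = ⊥ := by
  rw [Subgroup.eq_bot_iff_forall]
  intro v hv
  have hvH : v ∈ H := h.centralizer_zOf_le hd hv.2
  have hcopY : (Nat.card Y).Coprime (Nat.card (fittingOf H)) := by
    obtain ⟨k, hk⟩ := hY.exists_card_eq
    rw [hk]
    exact (hq.out.coprime_iff_not_dvd.2 hqF).pow_left k
  refine h.eq_one_of_centralizes hvH (hYR hv.1) (Subgroup.mem_centralizer_iff.2 fun m hm => ?_)
    (hcopY.coprime_dvd_left (Subgroup.orderOf_dvd_natCard Y hv.1))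
  refine commutatorElement_eq_one_iff_mul_comm.1 ?_
  have h1 : ⁅m, v⁆ ∈ Y ⊓ fittingOf H := by
    refine ⟨?_, ?_⟩
    · rw [commutatorElement_def]
      exact Y.mul_mem ((Subgroup.mem_normalizer_iff.1 (hMY hm) v).1 hv.1) (Y.inv_mem hv.1)
    · rw [commutatorElement_def, mul_assoc m, mul_assoc]
      exact (fittingOf H).mul_mem (h.hM hm)
        ((Subgroup.mem_normalizer_iff.1 (le_normalizer_fittingOf H hvH) _).1 ((fittingOf H).inv_mem (h.hM hm)))
  rwa [Coprime.disjoint_of_coprime_card hcopY, Subgroup.mem_bot] at h1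

/-- Invariant `q`-subgroups lie in `O_{π'}(R)`. -/
theorem Setting.le_core (h : Setting H M R) (hqF : ¬ q ∣ Nat.card (fittingOf H))
    {Y : Subgroup G} (hYR : Y ≤ R) (hY : IsPGroup q Y) (hMY : M ≤ normalizer (Y : Set G)) :
    Y ≤ piCoreOf (primesNotDvd (Nat.card (fittingOf H))) R := by
  classical
  set n := Nat.card (fittingOf H) with hn
  set T := piCoreOf (primesNotDvd n) R with hT
  have hTR : T ≤ R := piCoreOf_le _ _
  have hTn : (Nat.card T).Coprime n := coprime_of_primesNotDvd (isPiGrp_piCoreOf _ _)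
  set N := normalizer (T : Set G) with hN
  have hRN : R ≤ N := le_normalizer_piCoreOf _ _
  have hMN : M ≤ N := h.hMR.trans (normalizer_le_normalizer_piCoreOf _ _)
  set T₁ := T.subgroupOf N with hT₁
  haveI : T₁.Normal := (Subgroup.normal_subgroupOf_iff_le_normalizer Subgroup.le_normalizer).2 le_rfl
  have hT₁card : Nat.card T₁ = Nat.card T := Coprime.card_subgroupOf Subgroup.le_normalizer
  set π := QuotientGroup.mk' T₁ with hπ
  have hsurj : Function.Surjective π := QuotientGroup.mk'_surjective T₁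
  have hker : π.ker = T₁ := QuotientGroup.ker_mk' T₁
  set R₁ := R.subgroupOf N with hR₁
  set R' := R₁.map π with hR'
  haveI : Group.IsSolvable R' := Coprime.isSolvable_map π R₁ (Coprime.isSolvable_subgroupOf hRN h.hR)
  have hTR₁ : π.ker ≤ R₁ := hker.le.trans fun t ht => hTR ht
  have hcomapR : R'.comap π = R₁ := Subgroup.comap_map_eq_self hTR₁
  -- no primary part outside the primes of `n`
  have hout : ∀ {r : ℕ}, r.Prime → ¬ r ∣ n → pOf r R' = ⊥ := by
    intro r hr hrn
    haveI := Fact.mk hr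
    set U := (pOf r R').comap π with hU
    have hUR : U ≤ R₁ := (Subgroup.comap_mono (pOf_le R')).trans hcomapR.le
    have hUn : R₁ ≤ normalizer (U : Set N) := by
      intro x hx
      have hx' := Subgroup.mem_normalizer_iff.1 (le_normalizer_pOf (r := r) R' ⟨x, hx, rfl⟩)
      refine Subgroup.mem_normalizer_iff.2 fun w => ?_
      rw [hU, Subgroup.mem_comap, Subgroup.mem_comap, map_mul, map_mul, map_inv]
      exact hx' _
    have hle : U.map N.subtype ≤ T := le_piCoreOf
      ((Subgroup.map_mono hUR).trans (Subgroup.map_subgroupOf_eq_of_le hRN).le)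
      ((Subgroup.map_subgroupOf_eq_of_le hRN).ge.trans
        ((Subgroup.map_mono hUn).trans (Subgroup.le_normalizer_map _))) (fun s hs hd => by
        refine ⟨hs, fun hsn => ?_⟩
        rw [Subgroup.card_map_of_injective N.subtype_injective] at hd
        rcases hs.dvd_mul.1 (hd.trans (PCore.card_comap_dvd π (pOf r R'))) with hd' | hd'
        · rw [hker, hT₁card] at hd'
          exact hs.ne_one (Nat.eq_one_of_dvd_coprimes hTn hd' hsn)
        · obtain ⟨k, hk⟩ := (isPGroup_pOf (r := r) R').exists_card_eq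
          exact hrn ((Nat.prime_dvd_prime_iff_eq hs hr).1 (hs.dvd_of_dvd_pow (hk ▸ hd')) ▸ hsn))
    rw [eq_bot_iff]
    intro v hv
    obtain ⟨x, rfl⟩ := hsurj v
    exact (QuotientGroup.eq_one_iff x).2 (hle ⟨x, hv, rfl⟩)
  intro y hy
  have hyN : y ∈ N := hRN (hYR hy)
  set y₁ : N := ⟨y, hyN⟩ with hy₁
  suffices h1 : π y₁ = 1 from Subgroup.mem_subgroupOf.1 ((QuotientGroup.eq_one_iff y₁).1 h1)
  -- `y` centralizes all primary parts of `F(R')`
  have hcent : π y₁ ∈ centralizer (fittingOf R' : Set (N ⧸ T₁)) := by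
    have h2 : fittingOf R' ≤ centralizer ({π y₁} : Set (N ⧸ T₁)) := by
      refine fittingOf_le_of_forall fun r hr => ?_
      haveI := Fact.mk hr
      by_cases hrn : r ∣ n
      swap
      · rw [hout hr hrn]
        exact bot_le
      obtain ⟨s, hs, hsr⟩ := Finset.exists_mem_ne (Nat.lt_of_lt_of_le Nat.one_lt_two h.hF2) r
      obtain ⟨hsp, hsn, -⟩ := Nat.mem_primeFactors.1 hs
      haveI := Fact.mk hsp
      set V := pOf r R' with hV
      set Zs := (zOf s H).subgroupOf N with hZs
      set Zr := (zOf r H).subgroupOf N with hZr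
      have hnV : ∀ {x : N}, (x : G) ∈ M → π x ∈ normalizer (V : Set (N ⧸ T₁)) := by
        intro x hx
        refine normalizer_le_normalizer_pOf R' (Subgroup.le_normalizer_map π ⟨x, ?_, rfl⟩)
        exact Subgroup.mem_normalizer_iff.mpr fun w => Subgroup.mem_normalizer_iff.mp (h.hMR hx) w
      have hZrG : Zr.map N.subtype = zOf r H := Subgroup.map_subgroupOf_eq_of_le (h.zOf_le_M.trans hMN)
      have hrp : IsPGroup r Zr := (isPGroup_zOf H).comap_of_injective N.subtype N.subtype_injective
      have hsQ : (Nat.card (Zs.map π)).Coprime r := by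
        refine Nat.Coprime.coprime_dvd_left (Subgroup.card_map_dvd Zs π) ?_
        obtain ⟨k, hk⟩ := (isPGroup_zOf (r := s) H).exists_card_eq
        rw [Coprime.card_subgroupOf (h.zOf_le_M.trans hMN), hk]
        exact ((Nat.coprime_primes hsp hr).2 hsr).pow_left k
      have hcommZ : Zr.map π ≤ centralizer (Zs.map π : Set (N ⧸ T₁)) := by
        rintro _ ⟨a, ha, rfl⟩
        refine Subgroup.mem_centralizer_iff.2 ?_
        rintro _ ⟨b, hb, rfl⟩
        rw [← map_mul, ← map_mul]
        exact congrArg π (Subtype.ext (Subgroup.mem_centralizer_iff.1 (zOf_le_center_fittingOf H ha).2 _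
          (zOf_le_center_fittingOf H hb).1))
      have hZV : Zs.map π ≤ centralizer (V : Set (N ⧸ T₁)) := by
        refine Coprime.le_centralizer_of_pq (hrp.map π) hsQ (isPGroup_pOf R') hcommZ ?_ ?_ ?_
        · rintro _ ⟨a, ha, rfl⟩
          exact hnV (h.zOf_le_M ha)
        · rintro _ ⟨a, ha, rfl⟩
          exact hnV (h.zOf_le_M ha)
        · intro v hv
          have hTr : (Nat.card T₁).Coprime r := by
            rw [hT₁card]
            exact hTn.coprime_dvd_right hrn
          have hv2 := hv.2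
          rw [← PCore.map_centralizer_mk' T₁ hTr hrp] at hv2
          obtain ⟨u, hu, rfl⟩ := hv2
          have huH : (u : G) ∈ H := h.centralizer_zOf_le hrn (Subgroup.mem_centralizer_iff.2 fun w hw => by
            obtain ⟨a, ha, rfl⟩ := hZrG.ge hw
            exact congrArg Subtype.val (Subgroup.mem_centralizer_iff.1 hu a ha))
          refine Subgroup.mem_centralizer_iff.2 ?_
          rintro _ ⟨z, hz, rfl⟩
          rw [← commutatorElement_eq_one_iff_mul_comm, ← map_commutatorElement]
          suffices h3 : ⁅z, u⁆ = 1 by rw [h3, map_one]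
          have hz1 : ((⁅z, u⁆ : N) : G) ∈ zOf s H := by
            show ⁅(z : G), (u : G)⁆ ∈ zOf s H
            rw [commutatorElement_def, mul_assoc (z : G), mul_assoc]
            exact (zOf s H).mul_mem hz ((Subgroup.mem_normalizer_iff.1 (le_normalizer_zOf H huH) _).1
              ((zOf s H).inv_mem hz))
          have hz2 : ⁅z, u⁆ ∈ V.comap π := by
            rw [Subgroup.mem_comap, map_commutatorElement, commutatorElement_def]
            exact V.mul_mem ((Subgroup.mem_normalizer_iff.1 (hnV (h.zOf_le_M hz)) _).1 hv.1)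
              (V.inv_mem hv.1)
          have hcop : (Nat.card (V.comap π)).Coprime (Nat.card (zOf s H)) := by
            obtain ⟨k, hk⟩ := (isPGroup_zOf (r := s) H).exists_card_eq
            obtain ⟨j, hj⟩ := (isPGroup_pOf (r := r) R').exists_card_eq
            refine Nat.Coprime.coprime_dvd_left (PCore.card_comap_dvd π V) ?_
            rw [hker, hT₁card, hk, hj]
            exact Nat.Coprime.mul_left ((hTn.coprime_dvd_right hsn).pow_right k)
              (((Nat.coprime_primes hr hsp).2 (Ne.symm hsr)).pow j k)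
          refine orderOf_eq_one_iff.1 (Nat.eq_one_of_dvd_coprimes hcop
            (Subgroup.orderOf_dvd_natCard _ hz2) ?_)
          rw [← Subgroup.orderOf_coe]
          exact Subgroup.orderOf_dvd_natCard _ hz1
      -- hence so does `y`
      set K := ((centralizer (V : Set (N ⧸ T₁))).comap π).map N.subtype with hK
      have hyV : π y₁ ∈ normalizer (V : Set (N ⧸ T₁)) := le_normalizer_pOf R' ⟨y₁, hYR hy, rfl⟩
      have hnK : ∀ {x : N}, π x ∈ normalizer (V : Set (N ⧸ T₁)) → (x : G) ∈ normalizer (K : Set G) := by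
        intro x hx
        refine Subgroup.le_normalizer_map N.subtype ⟨x, Subgroup.mem_normalizer_iff.2 fun w => ?_, rfl⟩
        rw [Subgroup.mem_comap, Subgroup.mem_comap, map_mul, map_mul, map_inv]
        exact Subgroup.mem_normalizer_iff.1
          (Coprime.le_normalizer_centralizer (A := normalizer (V : Set (N ⧸ T₁))) le_rfl hx) _
      have hcopYZ : (Nat.card (zOf s H)).Coprime (Nat.card (Y ⊓ K : Subgroup G)) := by
        obtain ⟨k, hk⟩ := (isPGroup_zOf (r := s) H).exists_card_eq
        obtain ⟨j, hj⟩ := (hY.to_le inf_le_left : IsPGroup q (Y ⊓ K : Subgroup G)).exists_card_eq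
        rw [hk, hj]
        exact ((Nat.coprime_primes hsp hq.out).2 fun he => hqF (he ▸ hsn)).pow k j
      have hAN : zOf s H ≤ normalizer ((Y ⊓ K : Subgroup G) : Set G) := fun a ha =>
        Subgroup.inf_normalizer_le_normalizer_inf ⟨hMY (h.zOf_le_M ha),
          hnK (x := ⟨a, hMN (h.zOf_le_M ha)⟩) (hnV (h.zOf_le_M ha))⟩
      obtain ⟨m, hm, hmc⟩ := Coprime.exists_mul_mem_centralizer hAN hcopYZ
        (Or.inl (by haveI := (isPGroup_zOf (r := s) H).isNilpotent; infer_instance)) (k := y) fun a ha => by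
        have haK : a ∈ K := ⟨⟨a, hMN (h.zOf_le_M ha)⟩, hZV ⟨_, ha, rfl⟩, rfl⟩
        refine ⟨?_, ?_⟩
        · rw [mul_assoc y⁻¹, mul_assoc]
          exact Y.mul_mem (Y.inv_mem hy) ((Subgroup.mem_normalizer_iff.1 (hMY (h.zOf_le_M ha)) y).1 hy)
        · exact K.mul_mem (by simpa using (Subgroup.mem_normalizer_iff.1
            ((normalizer (K : Set G)).inv_mem (hnK hyV)) a).1 haK) (K.inv_mem haK)
      have hym : y * m ∈ Y ⊓ centralizer (zOf s H : Set G) := ⟨Y.mul_mem hy hm.1, hmc⟩
      rw [h.inf_centralizer_eq_bot hqF hYR hY hMY hsn, Subgroup.mem_bot] at hym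
      obtain ⟨x, hx, hxy⟩ : y ∈ K := by
        rw [eq_inv_of_mul_eq_one_left hym]
        exact K.inv_mem hm.2
      rw [show x = y₁ from Subtype.ext hxy] at hx
      intro v hv
      exact Subgroup.mem_centralizer_singleton_iff.2 (Subgroup.mem_centralizer_iff.1 hx v hv)
    exact Subgroup.mem_centralizer_iff.2 fun v hv => Subgroup.mem_centralizer_singleton_iff.1 (h2 hv)
  have h3 : π y₁ ∈ fittingOf R' := inf_centralizer_fittingOf_le R' ⟨⟨y₁, hYR hy, rfl⟩, hcent⟩
  obtain ⟨k, hk⟩ := hY ⟨y, hy⟩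
  have h4 := mem_pOf (r := q) h3 (k := k) (by
    rw [← map_pow, show y₁ ^ q ^ k = 1 from Subtype.ext (congrArg (fun w : Y => (w : G)) hk), map_one])
  rwa [hout hq.out hqF, Subgroup.mem_bot] at h4

/-- Let G be a finite group and H a local subgroup (the normalizer of a nontrivial subgroup of prime-power order) not properly contained in any local subgroup; let F = F(H), suppose at least two primes divide #F, put X = H ∩ C_G(F), let M ≤ F with F ∩ C_G(M) ≤ M, and let R be a solvable subgroup normalized by M and by X. Then for every prime q not dividing #F there is exactly one maximal M-invariant q-subgroup of R, and it is a Sylow q-subgroup of the largest normal subgroup of R of order coprime to #F. -/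
theorem result {G : Type*} [Group G] [Finite G] (H : Subgroup G) (hH : Cfsg.IsLocalSubgroup H) (hHmax : ∀ L : Subgroup G, Cfsg.IsLocalSubgroup L → H ≤ L → L = H)
    (hF2 : 2 ≤ (Nat.card (Cfsg.fittingOf H)).primeFactors.card)
    (M : Subgroup G) (hM : M ≤ Cfsg.fittingOf H) (hCM : Cfsg.fittingOf H ⊓ Subgroup.centralizer (M : Set G) ≤ M)
    (R : Subgroup G) (hR : Group.IsSolvable R) (hMR : M ≤ Subgroup.normalizer (R : Set G))
    (hXR : H ⊓ Subgroup.centralizer (Cfsg.fittingOf H : Set G) ≤ Subgroup.normalizer (R : Set G))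
    (q : ℕ) [Fact q.Prime] (hq : ¬ q ∣ Nat.card (Cfsg.fittingOf H)) :
    ∃! Q : Subgroup G, Q ∈ Cfsg.maxInvSubgroups R M {q} ∧
      (∀ Q' : Subgroup G, Q' ∈ Cfsg.maxInvSubgroups R M {q} →
        Q' ≤ Cfsg.piCoreOf (Cfsg.primesNotDvd (Nat.card (Cfsg.fittingOf H))) R ∧
        ¬ q ∣ Q'.relIndex (Cfsg.piCoreOf (Cfsg.primesNotDvd (Nat.card (Cfsg.fittingOf H))) R)) := by
  classical
  have h : Setting H M R := ⟨hH, hHmax, hF2, hM, hCM, hR, hMR, hXR⟩
  set n := Nat.card (Cfsg.fittingOf H) with hn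
  set W := Cfsg.piCoreOf (Cfsg.primesNotDvd n) R with hW
  have hWR : W ≤ R := OddOrder.piCoreOf_le _ _
  have hWn : (Nat.card W).Coprime n := OddOrder.coprime_of_primesNotDvd (OddOrder.isPiGrp_piCoreOf _ _)
  have hMW : M ≤ Subgroup.normalizer (W : Set G) :=
    hMR.trans (OddOrder.normalizer_le_normalizer_piCoreOf _ _)
  have hcop : (Nat.card M).Coprime (Nat.card W) :=
    hWn.symm.coprime_dvd_left (Subgroup.card_dvd_of_le hM)
  have hs : Group.IsSolvable M ∨ Group.IsSolvable W := Or.inr (Coprime.isSolvable_of_le hWR hR)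
  obtain ⟨r, hr⟩ : (n.primeFactors).Nonempty := Finset.card_pos.1 (by omega)
  obtain ⟨hrp, hrn, -⟩ := Nat.mem_primeFactors.1 hr
  haveI := Fact.mk hrp
  have hfix : ∀ c : W, (c : G) ∈ Subgroup.centralizer (M : Set G) → c = 1 := fun c hc =>
    Subtype.ext (h.eq_one_of_centralizes (h.centralizer_zOf_le hrn
      (Subgroup.centralizer_le h.zOf_le_M hc)) (hWR c.2) hc
      (hWn.coprime_dvd_left (Subgroup.orderOf_dvd_natCard W c.2)))
  obtain ⟨S, hS⟩ := Coprime.exists_invariant_sylow hMW hcop hs q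
  set Q := (S : Subgroup W).map W.subtype with hQ
  have hQW : Q ≤ W := Subgroup.map_subtype_le _
  have hmem : Q ∈ Cfsg.invSubgroups R M {q} :=
    ⟨hQW.trans hWR, OddOrder.isPiGrp_singleton_iff.2 (S.2.map _), hS⟩
  have huniq : ∀ Y ∈ Cfsg.invSubgroups R M {q}, Y ≤ Q := by
    intro Y hY
    have hYp := OddOrder.isPiGrp_singleton_iff.1 hY.2.1
    obtain ⟨S', hYS, hS'⟩ := Coprime.exists_invariant_sylow_ge hMW hcop hs
      (h.le_core hq hY.1 hYp hY.2.2) hYp hY.2.2
    obtain ⟨c, hc, hcS⟩ := Coprime.exists_centralizer_smul_sylow hMW hcop hs S S' hS hS'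
    rw [← hcS, hfix c hc, one_smul] at hYS
    exact hYS
  have hQmax : Q ∈ Cfsg.maxInvSubgroups R M {q} := ⟨hmem, fun Y hY hle => le_antisymm (huniq Y hY) hle⟩
  have hall : ∀ Q' ∈ Cfsg.maxInvSubgroups R M {q}, Q' = Q := fun Q' hQ' =>
    (hQ'.2 Q hmem (huniq Q' hQ'.1)).symm
  refine ⟨Q, ⟨hQmax, fun Q' hQ' => ?_⟩, fun Q' hQ' => hall Q' hQ'.1⟩
  rw [hall Q' hQ']
  refine ⟨hQW, ?_⟩
  show ¬ q ∣ (Q.subgroupOf W).index
  rw [hQ, Subgroup.subgroupOf, Subgroup.comap_map_eq_self_of_injective W.subtype_injective]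
  exact S.not_dvd_index

end Cfsg.Agent.S1481
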