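import Cfsg.Statements.S1482
import Cfsg.Agent.Lib.OddOrder.FittingLocal
import Cfsg.Agent.Lib.OddOrder.MaximalSubgroups
-- import your own Cfsg.Agent.* helpers here

set_option autoImplicit false
open Cfsg

namespace Cfsg.Agent.S1482

open OddOrder
open Subgroup (centralizer normalizer)
open scoped commutatorElement

universe u
variable {G : Type u} [Group G] [Finite G]

/-- A `p`-element of `H` centralizing the other primary parts of `F(H)`. -/
def Good (p : ℕ) (H : Subgroup G) (x : G) : Prop :=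
  x ∈ H ∧ (∃ k, x ^ p ^ k = 1) ∧ ∀ r : ℕ, r.Prime → r ≠ p → x ∈ centralizer (pOf r H : Set G)

theorem normalizer_zOf (hG : IsMinSimpleOddOrder G) {H : Subgroup G} (hH : IsCoatom H) {p : ℕ}
    [Fact p.Prime] (hp : p ∣ Nat.card (fittingOf H)) : normalizer (zOf p H : Set G) = H :=
  normalizer_eq_of_normal hG hH (zOf_le H) (le_normalizer_zOf H) (zOf_ne_bot hp)

theorem centralizer_zOf_le (hG : IsMinSimpleOddOrder G) {H : Subgroup G} (hH : IsCoatom H) {p : ℕ}
    [Fact p.Prime] (hp : p ∣ Nat.card (fittingOf H)) : centralizer (zOf p H : Set G) ≤ H :=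
  (Subgroup.centralizer_le_normalizer _).trans (normalizer_zOf hG hH hp).le

theorem exists_other {n : ℕ} (h : 2 ≤ n.primeFactors.card) (p : ℕ) :
    ∃ q : ℕ, q.Prime ∧ q ∣ n ∧ q ≠ p := by
  classical
  obtain ⟨q, hq, hne⟩ := Finset.exists_mem_ne (Nat.lt_of_lt_of_le Nat.one_lt_two h) p
  exact ⟨q, (Nat.mem_primeFactors.1 hq).1, (Nat.mem_primeFactors.1 hq).2.1, hne⟩

/-- `Z(F(H)) ≤ L`: the parts of `F(L)` are centralized by the other central parts of `F(H)`. -/
theorem pOf_le_centralizer_zOf (hG : IsMinSimpleOddOrder G) {H L : Subgroup G} (hH : IsCoatom H)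
    (hZL : fittingOf H ⊓ centralizer (fittingOf H : Set G) ≤ L) {p q : ℕ} [hp : Fact p.Prime] [hq : Fact q.Prime]
    (hne : p ≠ q) (hqn : q ∣ Nat.card (fittingOf H)) : pOf q L ≤ centralizer (zOf p H : Set G) := by
  have hZ : ∀ {r : ℕ} [Fact r.Prime], zOf r H ≤ L := fun {r} _ => (zOf_le_center_fittingOf H).trans hZL
  refine Subgroup.le_centralizer_iff.1 (Coprime.le_centralizer_of_pq (isPGroup_zOf (r := q) H) ?_
    (isPGroup_pOf L) ?_ (hZ.trans (le_normalizer_pOf L)) (hZ.trans (le_normalizer_pOf L)) ?_)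
  · obtain ⟨k, hk⟩ := (isPGroup_zOf (r := p) H).exists_card_eq
    rw [hk]
    exact ((Nat.coprime_primes hp.out hq.out).2 hne).pow_left k
  · exact (zOf_le_center_fittingOf H).trans
      (inf_le_right.trans (Subgroup.centralizer_le (inf_le_left.trans (pOf_le_fittingOf H hp.out))))
  · intro v hv
    have hvH : v ∈ H := centralizer_zOf_le hG hH hqn hv.2
    refine Subgroup.mem_centralizer_iff.2 fun z hz => ?_
    have h1 : ⁅z, v⁆ ∈ zOf p H ⊓ pOf q L := by
      refine ⟨?_, ?_⟩
      · rw [commutatorElement_def, mul_assoc z, mul_assoc]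
        exact (zOf p H).mul_mem hz ((Subgroup.mem_normalizer_iff.1 (le_normalizer_zOf H hvH) _).1
          ((zOf p H).inv_mem hz))
      · rw [commutatorElement_def]
        exact (pOf q L).mul_mem ((Subgroup.mem_normalizer_iff.1 (le_normalizer_pOf L (hZ hz)) v).1 hv.1)
          ((pOf q L).inv_mem hv.1)
    rw [inf_eq_bot_of_pgroup hne (isPGroup_zOf H) (isPGroup_pOf L), Subgroup.mem_bot] at h1
    exact commutatorElement_eq_one_iff_mul_comm.1 h1

theorem good_transfer (hG : IsMinSimpleOddOrder G) {H L : Subgroup G} (hH : IsCoatom H) (hL : IsCoatom L)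
    (hle : ∀ r : ℕ, r.Prime → pOf r L ≤ H)
    (hcross : ∀ r s : ℕ, r.Prime → s.Prime → r ≠ s → pOf s L ≤ centralizer (pOf r H : Set G))
    {p q : ℕ} [hp : Fact p.Prime] [hq : Fact q.Prime] (hne : q ≠ p) (hqL : q ∣ Nat.card (fittingOf L))
    {x : G} (hx : Good p H x) : Good p L x := by
  haveI := isSolvable_of_coatom hG hH
  obtain ⟨hxH, ⟨a, hxa⟩, hxc⟩ := hx
  have key : ∀ r : ℕ, r.Prime → r ≠ p → x ∈ centralizer (pOf r L : Set G) := by
    intro r hr hrp
    haveI := Fact.mk hr
    refine Subgroup.mem_centralizer_iff.2 fun y hy => ?_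
    obtain ⟨b, hb⟩ := isPGroup_pOf (r := r) L ⟨y, hy⟩
    exact (commute_of_cross (Ne.symm hrp) hxH (hle r hr hy) hxa (congrArg Subtype.val hb) hxc
      fun s hs hsr => hcross s r hs hr hsr hy).eq.symm
  have hN : normalizer (pOf q L : Set G) = L :=
    normalizer_eq_of_normal hG hL (pOf_le L) (le_normalizer_pOf L) fun h => pOf_eq_bot_iff.1 h hqL
  exact ⟨hN.le (Subgroup.centralizer_le_normalizer _ (key q hq.out hne)), ⟨a, hxa⟩, key⟩

/-- Let G be a minimal simple group of odd order, H a maximal subgroup whose Fitting subgroup F has at least two prime divisors, and M a subgroup of F containing the centre of F such that the only M-invariant subgroup of G of order coprime to #F is the trivial one. Then H is the only maximal subgroup of G containing M. -/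
theorem result {G : Type*} [Group G] [Finite G] (hG : Cfsg.IsMinSimpleOddOrder G) (H : Subgroup G) (hH : IsCoatom H) (hF2 : 2 ≤ (Nat.card (Cfsg.fittingOf H)).primeFactors.card)
    (M : Subgroup G) (hM : M ≤ Cfsg.fittingOf H) (hZM : Cfsg.fittingOf H ⊓ Subgroup.centralizer (Cfsg.fittingOf H : Set G) ≤ M)
    (hinv : ∀ Y ∈ Cfsg.invSubgroups ⊤ M (Cfsg.primesNotDvd (Nat.card (Cfsg.fittingOf H))), Y = ⊥) :
    ∀ L : Subgroup G, IsCoatom L → M ≤ L → L = H := by
  intro L hL hML
  haveI := OddOrder.isSolvable_of_coatom hG hH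
  haveI := OddOrder.isSolvable_of_coatom hG hL
  set n := Nat.card (Cfsg.fittingOf H) with hn
  have hZL := hZM.trans hML
  -- the parts of `F(L)`
  have hout : ∀ r : ℕ, r.Prime → ¬ r ∣ n → pOf r L = ⊥ := by
    intro r hr hrn
    haveI := Fact.mk hr
    refine hinv _ ⟨le_top, ?_, hML.trans (le_normalizer_pOf L)⟩
    intro s hs hd
    obtain ⟨k, hk⟩ := (isPGroup_pOf (r := r) L).exists_card_eq
    rw [hk] at hd
    exact ⟨hs, (Nat.prime_dvd_prime_iff_eq hs hr).1 (hs.dvd_of_dvd_pow hd) ▸ hrn⟩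
  have hEH : ∀ r : ℕ, r.Prime → pOf r L ≤ H := by
    intro r hr
    haveI := Fact.mk hr
    by_cases hrn : r ∣ n
    · obtain ⟨s, hs, hsn, hsr⟩ := exists_other hF2 r
      haveI := Fact.mk hs
      exact (pOf_le_centralizer_zOf hG hH hZL hsr hrn).trans (centralizer_zOf_le hG hH hsn)
    · rw [hout r hr hrn]
      exact bot_le
  have hdvd : ∀ r : ℕ, r.Prime → r ∣ n → r ∣ Nat.card (Cfsg.fittingOf L) := by
    intro r hr hrn
    haveI := Fact.mk hr
    by_contra hrE
    have hbot := (pOf_eq_bot_iff).2 hrE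
    refine zOf_ne_bot (H := H) hrn (le_bot_iff.1 (hbot ▸ fun z hz => ?_))
    obtain ⟨k, hk⟩ := isPGroup_zOf (r := r) H ⟨z, hz⟩
    refine mem_pOf (inf_centralizer_fittingOf_le L ⟨hZL (zOf_le_center_fittingOf H hz), ?_⟩)
      (congrArg Subtype.val hk)
    refine Subgroup.le_centralizer_iff.1 (fittingOf_le_of_forall fun s hs => ?_) hz
    haveI := Fact.mk hs
    by_cases hsn : s ∣ n
    · rcases eq_or_ne r s with rfl | hne
      · rw [hbot]
        exact bot_le
      · exact pOf_le_centralizer_zOf hG hH hZL hne hsn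
    · rw [hout s hs hsn]
      exact bot_le
  have hdvd' : ∀ r : ℕ, r.Prime → r ∣ Nat.card (Cfsg.fittingOf L) → r ∣ n := by
    intro r hr hrE
    haveI := Fact.mk hr
    by_contra hrn
    exact pOf_eq_bot_iff.1 (hout r hr hrn) hrE
  have hZH : Cfsg.fittingOf L ⊓ Subgroup.centralizer (Cfsg.fittingOf L : Set G) ≤ H :=
    inf_le_left.trans (fittingOf_le_of_forall hEH)
  have hFL : ∀ r : ℕ, r.Prime → pOf r H ≤ L := by
    intro r hr
    haveI := Fact.mk hr
    by_cases hrn : r ∣ n
    · obtain ⟨s, hs, hsn, hsr⟩ := exists_other hF2 r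
      haveI := Fact.mk hs
      exact (pOf_le_centralizer_zOf hG hL hZH hsr (hdvd r hr hrn)).trans
        (centralizer_zOf_le hG hL (hdvd s hs hsn))
    · rw [pOf_eq_bot_iff.2 hrn]
      exact bot_le
  have hcross : ∀ r s : ℕ, r.Prime → s.Prime → r ≠ s →
      pOf s L ≤ Subgroup.centralizer (pOf r H : Set G) := by
    intro r s hr hs hne
    haveI := Fact.mk hr
    haveI := Fact.mk hs
    exact le_centralizer_of_normalize (inf_eq_bot_of_pgroup hne.symm (isPGroup_pOf L) (isPGroup_pOf H))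
      ((hEH s hs).trans (le_normalizer_pOf H)) ((hFL r hr).trans (le_normalizer_pOf L))
  obtain ⟨p, hp, hpn, -⟩ := exists_other hF2 0
  obtain ⟨q, hq, hqn, hqp⟩ := exists_other hF2 p
  haveI := Fact.mk hp
  haveI := Fact.mk hq
  have hiff : {x | Good p H x} = {x | Good p L x} := Set.ext fun x =>
    ⟨good_transfer hG hH hL hEH hcross hqp (hdvd q hq hqn),
      good_transfer hG hL hH hFL (fun r s hr hs hne => Subgroup.le_centralizer_iff.1 (hcross s r hs hr hne.symm))
        hqp hqn⟩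
  have hnorm : ∀ K : Subgroup G, K ≤ Subgroup.normalizer
      ((Subgroup.closure {x | Good p K x} : Subgroup G) : Set G) := by
    intro K g hg
    rw [Subgroup.mem_normalizer_iff_map_conj_eq]
    refine Subgroup.eq_of_le_of_card_ge ?_ (Subgroup.card_map_of_injective (MulAut.conj g).injective).ge
    rw [MonoidHom.map_closure]
    refine Subgroup.closure_mono ?_
    rintro _ ⟨x, ⟨hx, ⟨k, hk⟩, hc⟩, rfl⟩
    refine ⟨K.mul_mem (K.mul_mem hg hx) (K.inv_mem hg), ⟨k, ?_⟩, fun r hr hrp => ?_⟩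
    · show (MulAut.conj g x) ^ p ^ k = 1
      rw [← map_pow, hk, map_one]
    · refine Subgroup.mem_centralizer_iff.2 fun w hw => ?_
      show w * (g * x * g⁻¹) = g * x * g⁻¹ * w
      have hg' := (Subgroup.mem_normalizer_iff.1 (le_normalizer_pOf K (K.inv_mem hg)) w).1 hw
      rw [inv_inv] at hg'
      calc w * (g * x * g⁻¹) = g * ((g⁻¹ * w * g) * x) * g⁻¹ := by group
        _ = g * (x * (g⁻¹ * w * g)) * g⁻¹ := by rw [Subgroup.mem_centralizer_iff.1 (hc r hr hrp) _ hg']
        _ = g * x * g⁻¹ * w := by group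
  set R := Subgroup.closure {x | Good p H x} with hR
  have hRH : R ≤ H := (Subgroup.closure_le _).2 fun x hx => hx.1
  have hR1 : R ≠ ⊥ := by
    refine ne_bot_of_le_ne_bot (b := pOf p H) (fun h => pOf_eq_bot_iff.1 h hpn) fun x hx => ?_
    obtain ⟨k, hk⟩ := isPGroup_pOf (r := p) H ⟨x, hx⟩
    refine Subgroup.subset_closure ⟨pOf_le H hx, ⟨k, congrArg Subtype.val hk⟩, fun r hr hrp => ?_⟩
    haveI := Fact.mk hr
    exact pOf_le_centralizer_pOf (Ne.symm hrp) H hx
  refine eq_of_coatom_le hL hH ?_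
  rw [← normalizer_eq_of_normal hG hH hRH (hnorm H) hR1, hR, hiff]
  exact hnorm L

end Cfsg.Agent.S1482
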