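import Cfsg.Statements.S1397
import Cfsg.Agent.S1398
import Cfsg.Agent.S1481
import Cfsg.Agent.S1482
-- import your own Cfsg.Agent.* helpers here

set_option autoImplicit false
open Cfsg

namespace Cfsg.Agent.S1397

open OddOrder
open scoped Pointwise
open Subgroup (centralizer normalizer)

universe u
variable {G : Type u} [Group G] [Finite G]

theorem isSubnormal_of_nilpotent {F : Type*} [Group F] [Finite F] [Group.IsNilpotent F] (H : Subgroup F) :
    H.IsSubnormal := by
  induction hn : Nat.card F - Nat.card H using Nat.strong_induction_on generalizing H with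
  | _ n ih =>
  subst hn
  rcases eq_or_lt_of_le (le_top : H ≤ ⊤) with rfl | hlt
  · exact Subgroup.IsSubnormal.top
  have h := Group.normalizerCondition_of_isNilpotent H hlt
  refine Subgroup.IsSubnormal.step H (normalizer (H : Set F)) h.le (ih _ ?_ _ rfl)
    ((Subgroup.normal_subgroupOf_iff_le_normalizer h.le).2 le_rfl)
  have h1 : Nat.card H < Nat.card (normalizer (H : Set F)) :=
    lt_of_le_of_ne (Subgroup.card_le_of_le h.le) fun e => h.ne (Subgroup.eq_of_le_of_card_ge h.le e.ge)
  have h2 := (normalizer (H : Set F)).card_le_card_group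
  omega

/-- No nontrivial `A`-invariant `π(A)'`-subgroups. -/
theorem invariant_eq_bot (hG : IsMinSimpleOddOrder G) {M : Subgroup G} (hM : IsCoatom M) {A : Subgroup G}
    (hA : TransitivityHypothesis A) (hZ : ¬ RankLE 2 ↥(A ⊓ centralizer (A : Set G)))
    (hAF : A ≤ fittingOf M)
    (hπ : ∀ r : ℕ, r.Prime → r ∣ Nat.card (fittingOf M) → r ∣ Nat.card A)
    {Y : Subgroup G} (hY : Y ∈ invSubgroups ⊤ A (primesNotDvd (Nat.card A))) : Y = ⊥ := by
  classical
  haveI := isSolvable_of_coatom hG hM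
  set F := fittingOf M with hFdef
  have hA1 : A ≠ ⊥ := hA.1
  have hF1 : F ≠ ⊥ := ne_bot_of_le_ne_bot hA1 hAF
  have hFtop : F ≠ ⊤ := fun h => hM.1 (top_unique (h ▸ fittingOf_le M))
  have hNF : normalizer (F : Set G) = M :=
    normalizer_eq_of_normal hG hM (fittingOf_le M) (le_normalizer_fittingOf M) hF1
  have hCF : centralizer (F : Set G) ≤ F := fun c hc =>
    inf_centralizer_fittingOf_le M ⟨hNF.le (Subgroup.centralizer_le_normalizer _ hc), hc⟩
  haveI : Group.IsNilpotent F := isNilpotent_fittingOf M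
  have hsn : (A.subgroupOf F).IsSubnormal := isSubnormal_of_nilpotent _
  have hYtop : Y ≠ ⊤ := by
    rintro rfl
    obtain ⟨r, hr, hrA⟩ := Nat.exists_prime_and_dvd (fun h => hA1 (Subgroup.card_eq_one.1 h))
    exact (hY.2.1 r hr (hrA.trans (Subgroup.card_dvd_of_le le_top))).2 hrA
  refine (Coprime.eq_of_forall_invariant_pgroup_le hY.2.2 (coprime_of_primesNotDvd hY.2.1).symm
    (Or.inr (hG.2.2.2 Y hYtop)) bot_le fun q Z hq hZq hZY hZA => ?_).symm
  haveI := Fact.mk hq
  by_cases hqY : q ∣ Nat.card Z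
  swap
  · rw [PCore.eq_bot_of_isPGroup_of_coprime hZq (hq.coprime_iff_not_dvd.2 hqY).symm]
  have hqA : ¬ q ∣ Nat.card A := (hY.2.1 q hq (hqY.trans (Subgroup.card_dvd_of_le hZY))).2
  obtain ⟨-, hb, hc, -⟩ := S1395.result hG A hA q hq hqA F hFtop hπ hAF hsn (S1393.result hG A hA hZ q hq hqA)
  have htriv : piCoreOf (primesNotDvd (Nat.card A)) (centralizer (F : Set G)) = ⊥ := by
    refine Subgroup.card_eq_one.1 (Nat.eq_one_iff_not_exists_prime_dvd.2 fun r hr hd => ?_)
    exact (isPiGrp_piCoreOf _ _ r hr hd).2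
      (hπ r hr (hd.trans (Subgroup.card_dvd_of_le ((piCoreOf_le _ _).trans hCF))))
  obtain ⟨Q, hQ, -⟩ := exists_maxInv_ge (B := F) (IsPGroup.of_bot (G := G) (p := q))
    ((Subgroup.normalizer_eq_top_iff.mpr inferInstance).ge.trans' le_top)
  have hQp := isPGroup_of_maxInv hQ
  have hMQ : M ≤ normalizer (Q : Set G) := by
    intro g hg
    obtain ⟨k, hk, hk'⟩ := hb Q hQ _ (conj_smul_mem_maxInv (hNF.ge hg) hQ)
    rw [htriv, Subgroup.mem_bot] at hk
    subst hk
    refine Coprime.mem_normalizer_of_conj_smul_eq (hk'.trans ?_)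
    ext x
    simp
  have hQ1 : Q = ⊥ := by
    by_contra hne
    have hN : normalizer (Q : Set G) = M :=
      (hM.le_iff.1 hMQ).resolve_left (normalizer_ne_top_of_pgroup hG hQp hne)
    refine hne (le_bot_iff.1 ((le_pOf (Subgroup.le_normalizer.trans hN.le) hMQ hQp).trans ?_))
    rw [pOf_eq_bot_iff.2 fun h => hqA (hπ q hq h)]
  have hbot := hc (hQ1 ▸ hQ)
  exact (hbot.2 Z ⟨le_top, isPiGrp_singleton_iff.2 hZq, hZA⟩ bot_le).le

/-- Let G be a minimal simple group of odd order, M a maximal subgroup, p a prime and A₀ an elementary abelian p-subgroup of F(M) of order at least p ^ 3 that is maximal among elementary abelian p-subgroups of F(M). (a) If F(M) is not a p-group, then F(M) ∩ C_G(A₀) lies in exactly one maximal subgroup of G. (b) If F(M) is a p-group and P is a Sylow p-subgroup of M, then p does not divide the index of P in G, and every normal self-centralizing subgroup A of P containing an elementary abelian subgroup of order p ^ 3 is contained in F(M) and lies in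 exactly one maximal subgroup of G. -/
theorem result {G : Type*} [Group G] [Finite G] (hG : Cfsg.IsMinSimpleOddOrder G)
    (M : Subgroup G) (hM : IsCoatom M) (p : ℕ) [Fact p.Prime] (A₀ : Subgroup G)
    (hA₀ : A₀ ≤ Cfsg.fittingOf M) (hA₀e : Cfsg.IsElementaryAbelian p A₀) (hA₀3 : p ^ 3 ≤ Nat.card A₀)
    (hA₀max : ∀ B : Subgroup G, B ≤ Cfsg.fittingOf M → Cfsg.IsElementaryAbelian p B → A₀ ≤ B → B = A₀) :
    (¬ IsPGroup p ↥(Cfsg.fittingOf M) → Cfsg.InUniqueMaximal (Cfsg.fittingOf M ⊓ Subgroup.centralizer (A₀ : Set G))) ∧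
      (IsPGroup p ↥(Cfsg.fittingOf M) → ∀ P : Sylow p M,
        ¬ p ∣ ((P : Subgroup M).map M.subtype).index ∧
        ∀ A : Subgroup G, Cfsg.IsSCN ((P : Subgroup M).map M.subtype) A → ¬ Cfsg.PRankLE p 2 ↥A →
          A ≤ Cfsg.fittingOf M ∧ Cfsg.InUniqueMaximal A) := by
  have hp : p.Prime := Fact.out
  haveI := isSolvable_of_coatom hG hM
  have hA₀1 : A₀ ≠ ⊥ := fun h => by
    rw [h, Subgroup.card_bot] at hA₀3
    exact absurd hA₀3 (Nat.one_lt_pow (by norm_num) hp.one_lt).not_ge
  have hA₀p : IsPGroup p A₀ := PGroup.isPGroup_of_elementaryAbelian hA₀e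
  have hp2 : p ≠ 2 := ne_two_of_minSimple hG hA₀p hA₀1
  set F := Cfsg.fittingOf M with hFdef
  have hF1 : F ≠ ⊥ := ne_bot_of_le_ne_bot hA₀1 hA₀
  have hCF : Subgroup.centralizer (F : Set G) ≤ F := fun c hc => inf_centralizer_fittingOf_le M
    ⟨(normalizer_eq_of_normal hG hM (fittingOf_le M) (le_normalizer_fittingOf M) hF1).le
      (Subgroup.centralizer_le_normalizer _ hc), hc⟩
  refine ⟨fun hnp => ?_, fun hFp S => ?_⟩
  · -- two primes
    set A := F ⊓ Subgroup.centralizer (A₀ : Set G) with hAdef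
    have hA₀A : A₀ ≤ A := le_inf hA₀ (PGroup.le_centralizer_of_isMulCommutative hA₀e.1)
    have hCA : F ⊓ Subgroup.centralizer (A : Set G) ≤ A :=
      inf_le_inf_left _ (Subgroup.centralizer_le hA₀A)
    have hZA : F ⊓ Subgroup.centralizer (F : Set G) ≤ A :=
      inf_le_inf_left _ (Subgroup.centralizer_le hA₀)
    have hpn : p ∣ Nat.card F := by
      obtain ⟨k, hk⟩ := hA₀p.exists_card_eq
      have hk0 : k ≠ 0 := fun h => hA₀1 (Subgroup.card_eq_one.1 (by rw [hk, h, pow_zero]))
      exact (hk ▸ dvd_pow_self p hk0).trans (Subgroup.card_dvd_of_le hA₀)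
    have hF2 : 2 ≤ (Nat.card F).primeFactors.card := by
      obtain ⟨q, hq, hqn, hqp⟩ : ∃ q : ℕ, q.Prime ∧ q ∣ Nat.card F ∧ q ≠ p := by
        by_contra hcon
        push Not at hcon
        exact hnp (IsPGroup.of_card (Nat.eq_prime_pow_of_unique_prime_dvd Nat.card_pos.ne'
          (fun {d} hd hdd => hcon d hd hdd)))
      refine Finset.one_lt_card.2 ⟨q, ?_, p, ?_, hqp⟩
      · exact Nat.mem_primeFactors.2 ⟨hq, hqn, Nat.card_pos.ne'⟩
      · exact Nat.mem_primeFactors.2 ⟨hp, hpn, Nat.card_pos.ne'⟩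
    have hπ : ∀ r : ℕ, r.Prime → r ∣ Nat.card F → r ∣ Nat.card A := fun r hr hd => by
      haveI := Fact.mk hr
      obtain ⟨k, hk⟩ := (isPGroup_zOf (r := r) M).exists_card_eq
      have hk0 : k ≠ 0 := fun h => zOf_ne_bot hd (Subgroup.card_eq_one.1 (by rw [hk, h, pow_zero]))
      exact (hk ▸ dvd_pow_self r hk0).trans (Subgroup.card_dvd_of_le ((zOf_le_center_fittingOf M).trans hZA))
    have hsets : Cfsg.primesNotDvd (Nat.card A) = Cfsg.primesNotDvd (Nat.card F) := by
      ext r
      exact and_congr_right fun hr =>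
        not_congr ⟨fun h => h.trans (Subgroup.card_dvd_of_le inf_le_left), hπ r hr⟩
    have hA : Cfsg.TransitivityHypothesis A := by
      refine ⟨ne_bot_of_le_ne_bot hA₀1 hA₀A,
        fun h => hM.1 (top_unique (h ▸ inf_le_left.trans (fittingOf_le M))), fun X hX hAX => ?_⟩
      refine le_antisymm (sSup_le fun Y hY => ?_) (le_sSup ⟨piCoreOf_le _ _, isPiGrp_piCoreOf _ _,
        hAX.trans (le_normalizer_piCoreOf _ _)⟩)
      have hSet : S1481.Setting M A X := by
        have hlocal : Cfsg.IsLocalSubgroup M :=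
          ⟨p, zOf p M, hp, isPGroup_zOf M, zOf_ne_bot hpn,
            (S1482.normalizer_zOf hG hM hpn).symm⟩
        refine ⟨hlocal, fun L hL hle => ?_, hF2, inf_le_left, hCA, hG.2.2.2 X hX,
          hAX.trans Subgroup.le_normalizer,
          (le_inf (fun c hc => hCF hc.2) inf_le_right).trans (hZA.trans (hAX.trans Subgroup.le_normalizer))⟩
        obtain ⟨r, T, hr, hT, hT1, rfl⟩ := hL
        haveI := Fact.mk hr
        exact (hM.le_iff.1 hle).resolve_left (normalizer_ne_top_of_pgroup hG hT hT1)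
      obtain ⟨hYX, hYπ, hYA⟩ := hY
      rw [hsets] at hYπ ⊢
      refine inf_eq_left.1 (Coprime.eq_of_forall_invariant_pgroup_le hYA
        ((coprime_of_primesNotDvd hYπ).symm.coprime_dvd_left (Subgroup.card_dvd_of_le inf_le_left))
        (Or.inr (Coprime.isSolvable_of_le hYX (hG.2.2.2 X hX))) inf_le_left fun q Z hq hZ hZY hZA' => ?_)
      haveI := Fact.mk hq
      refine le_inf hZY ?_
      by_cases hqY : q ∣ Nat.card Z
      · exact hSet.le_core (hYπ q hq (hqY.trans (Subgroup.card_dvd_of_le hZY))).2 (hZY.trans hYX) hZ hZA'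
      · rw [PCore.eq_bot_of_isPGroup_of_coprime hZ (hq.coprime_iff_not_dvd.2 hqY).symm]
        exact bot_le
    have hZ : ¬ Cfsg.RankLE 2 ↥(A ⊓ Subgroup.centralizer (A : Set G)) := fun h => by
      have hle : A₀ ≤ A ⊓ Subgroup.centralizer (A : Set G) :=
        le_inf hA₀A (Subgroup.le_centralizer_iff.1 inf_le_right)
      have h2 := pRankLE_of_le hle (h p hp) ⊤
        ⟨⟨fun a b => Subtype.ext (Subtype.ext (PGroup.mul_comm_of_elementaryAbelian hA₀e a.1.2 b.1.2))⟩⟩
        fun x _ => Subtype.ext (hA₀e.2 x x.2)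
      rw [Subgroup.card_top] at h2
      exact absurd (hA₀3.trans h2) (Nat.pow_lt_pow_right hp.one_lt (by norm_num)).not_ge
    have huniq := S1482.result hG M hM hF2 A inf_le_left hZA fun Y hY => by
      rw [← hsets] at hY
      exact invariant_eq_bot hG hM hA hZ inf_le_left hπ hY
    exact ⟨M, ⟨hM, inf_le_left.trans (fittingOf_le M)⟩, fun L hL => huniq L hL.1 hL.2⟩
  · -- one prime
    have hX : core p M = ⊥ := by
      set X := core p M
      have hcop : (Nat.card X).Coprime (Nat.card F) := by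
        obtain ⟨k, hk⟩ := hFp.exists_card_eq
        rw [hk]
        exact (coprime_card_core M).pow_right k
      have hXC : X ≤ Subgroup.centralizer (F : Set G) := le_centralizer_of_normalize
        (Coprime.disjoint_of_coprime_card hcop)
        ((core_le M).trans (le_normalizer_fittingOf M)) ((fittingOf_le M).trans (le_normalizer_core M))
      exact PCore.eq_bot_of_isPGroup_of_coprime (hFp.to_le (hXC.trans hCF)) (coprime_card_core M)
    have hO : Cfsg.pPrimeCore p M = ⊥ := Subgroup.map_injective M.subtype_injective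
      (hX.trans (Subgroup.map_bot _).symm)
    set P₀ := (S : Subgroup M).map M.subtype with hP₀
    have hFP : F ≤ P₀ := by
      intro x hx
      haveI := Fact.mk hp
      obtain ⟨k, hk⟩ := hFp ⟨x, hx⟩
      exact Subgroup.map_mono (PCore.pCore_le_sylow S) (mem_pOf hx (congrArg Subtype.val hk))
    have hP₀1 : P₀ ≠ ⊥ := ne_bot_of_le_ne_bot hF1 hFP
    have hNP : Subgroup.normalizer (P₀ : Set G) ≤ M := by
      refine (normalizer_le_normalizer_zj (p := p) P₀).trans ?_
      have hle : M ≤ Subgroup.normalizer (Cfsg.centerThompsonOf p P₀ : Set G) :=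
        le_of_zj hG hM.1 S rfl (hX.le.trans bot_le) inf_le_right
      exact ((hM.le_iff.1 hle).resolve_left (normalizer_ne_top_of_pgroup hG
        ((S.2.map _ : IsPGroup p P₀).to_le (zj_le P₀)) (zjOf_ne_bot (S.2.map _) hP₀1))).le
    obtain ⟨P, hP⟩ := exists_sylow_eq S hNP
    replace hP : (P : Subgroup G) = P₀ := hP
    refine ⟨by rw [← hP]; exact P.not_dvd_index, fun A hA hA3 => ?_⟩
    obtain ⟨hAP, hPA, hCA⟩ := id hA
    have hAM : A ≤ M := hAP.trans (Subgroup.map_subtype_le _)
    have hAc : IsMulCommutative A := PGroup.isMulCommutative_of_forall fun a ha b hb =>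
      (Subgroup.mem_centralizer_iff.1 (hCA.ge hb).2 a ha)
    have hS : ∀ a : M, (a : G) ∈ P₀ → a ∈ (S : Subgroup M) := fun a ⟨b, hb, hba⟩ =>
      (Subtype.ext hba : b = a) ▸ hb
    have hAF : A ≤ F := by
      have h := S1457.result (odd_subgroup hG.1 M) p S (A.subgroupOf M) (fun a ha => hS a (hAP ha))
        (PGroup.isMulCommutative_of_forall fun a ha b hb =>
          Subtype.ext (PGroup.mul_comm_of_isMulCommutative hAc ha hb))
        (fun s hs => Subgroup.mem_normalizer_iff.mpr fun w =>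
          Subgroup.mem_normalizer_iff.mp (hPA ⟨s, hs, rfl⟩) w)
      rw [PCore.pPrimePCore_eq_pCore hO] at h
      exact ((Subgroup.map_subgroupOf_eq_of_le hAM).ge.trans (Subgroup.map_mono h)).trans
        (pOf_le_fittingOf M hp)
    refine ⟨hAF, ?_⟩
    have hAp : IsPGroup p A := hFp.to_le hAF
    obtain ⟨E, hEA, hE, hE3⟩ : ∃ E : Subgroup G, E ≤ A ∧ Cfsg.IsElementaryAbelian p E ∧ p ^ 2 ≤ Nat.card E := by
      by_contra hcon
      push Not at hcon
      refine hA3 fun B hB hBp => ?_
      rw [← Subgroup.card_map_of_injective A.subtype_injective]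
      exact (hcon _ (Subgroup.map_subtype_le B) (PGroup.isElementaryAbelian_map ⟨hB, hBp⟩ _)).le
    have hA1 : A ≠ ⊥ := fun h => by
      rw [le_bot_iff.1 (hEA.trans h.le), Subgroup.card_bot] at hE3
      exact absurd hE3 (Nat.one_lt_pow (by norm_num) hp.one_lt).not_ge
    have hA2 : ¬ Cfsg.PRankLE p 1 A := fun h => hA3 fun B hB hB' =>
      (h B hB hB').trans (Nat.pow_le_pow_right hp.pos (by norm_num))
    have hpA : p ∣ Nat.card A := by
      obtain ⟨k, hk⟩ := hAp.exists_card_eq
      have hk0 : k ≠ 0 := fun h => hA1 (Subgroup.card_eq_one.1 (by rw [hk, h, pow_zero]))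
      exact hk ▸ dvd_pow_self p hk0
    rw [← hP] at hA
    have hAT : Cfsg.TransitivityHypothesis A := S1396.result hG p
      (hpA.trans A.card_subgroup_dvd_card) A hAp hAc (Or.inr ⟨P, hA, hA2⟩)
    have hZ : ¬ Cfsg.RankLE 2 ↥(A ⊓ Subgroup.centralizer (A : Set G)) := by
      rw [inf_eq_left.2 (PGroup.le_centralizer_of_isMulCommutative hAc)]
      exact fun h => hA3 (h p hp)
    have hπ : ∀ r : ℕ, r.Prime → r ∣ Nat.card F → r ∣ Nat.card A := fun r hr hd => by
      obtain ⟨k, hk⟩ := hFp.exists_card_eq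
      rw [(Nat.prime_dvd_prime_iff_eq hr hp).1 (hr.dvd_of_dvd_pow (hk ▸ hd))]
      exact hpA
    refine S1398.uniqueness hG hM hAM hAp hA1 fun Y hY hn => ?_
    rw [invariant_eq_bot hG hM hAT hZ hAF hπ (Y := Y) ⟨le_top, fun r hr hd => ⟨hr, fun hrA => ?_⟩, hn⟩]
    · exact bot_le
    · obtain ⟨k, hk⟩ := hAp.exists_card_eq
      rw [(Nat.prime_dvd_prime_iff_eq hr hp).1 (hr.dvd_of_dvd_pow (hk ▸ hrA))] at hd
      exact hp.ne_one (Nat.eq_one_of_dvd_coprimes hY hd dvd_rfl)

end Cfsg.Agent.S1397
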