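import Cfsg.Statements.S1399
import Cfsg.Agent.S1398
import Cfsg.Agent.Lib.OddOrder.Elementary
-- import your own Cfsg.Agent.* helpers here

set_option autoImplicit false
open Cfsg

namespace Cfsg.Agent.S1399

/-- Let G be a minimal simple group of odd order, L a subgroup contained in exactly one maximal subgroup of G, and K a subgroup of C_G(L) having, for some prime p, an elementary abelian subgroup of order p ^ 2. Then K is contained in exactly one maximal subgroup of G. -/
theorem result {G : Type*} [Group G] [Finite G] (hG : Cfsg.IsMinSimpleOddOrder G)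
    (L K : Subgroup G) (hL : Cfsg.InUniqueMaximal L) (hK : K ≤ Subgroup.centralizer (L : Set G)) (hKr : ¬ Cfsg.RankLE 1 K) :
    Cfsg.InUniqueMaximal K := by
  obtain ⟨M, ⟨hM, hLM⟩, huniq⟩ := hL
  have hL1 : L ≠ ⊥ := by
    intro hL1
    refine hM.1 ((Subgroup.eq_top_iff' M).2 fun g => ?_)
    have hne : Subgroup.zpowers g ≠ ⊤ := fun h => hG.2.2.1 ⟨⟨fun a b => by
      obtain ⟨i, rfl⟩ := Subgroup.mem_zpowers_iff.1 (h ▸ Subgroup.mem_top a)
      obtain ⟨j, rfl⟩ := Subgroup.mem_zpowers_iff.1 (h ▸ Subgroup.mem_top b)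
      exact ((Commute.refl g).zpow_zpow i j).eq⟩⟩
    obtain ⟨N, hN, hle⟩ := OddOrder.exists_coatom_ge hne
    exact huniq N ⟨hN, hL1 ▸ bot_le⟩ ▸ hle (Subgroup.mem_zpowers g)
  obtain ⟨p, hp, B, hBK, hBc, hBp, hBcomm⟩ := OddOrder.exists_elementary_of_not_rankLE hKr
  haveI := Fact.mk hp
  have hcent : ∀ b ∈ B, b ≠ 1 → Subgroup.centralizer ({b} : Set G) ≤ M := by
    intro b hb hb1
    refine OddOrder.le_of_forall_coatom (OddOrder.centralizer_singleton_ne_top_of_minSimple hG hb1)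
      fun N hN hle => huniq N ⟨hN, fun l hl => hle ?_⟩
    exact Subgroup.mem_centralizer_singleton_iff.2 (Subgroup.mem_centralizer_iff.1 (hK (hBK hb)) l hl)
  have hBM : B ≤ M := fun b hb => by
    by_cases hb1 : b = 1
    · exact hb1 ▸ M.one_mem
    · exact hcent b hb hb1 (Subgroup.mem_centralizer_singleton_iff.2 rfl)
  have hBnc : ¬ IsCyclic B := by
    intro h
    obtain ⟨g, hg⟩ := h.exists_generator
    have h1 : Nat.card B ≤ p := by
      rw [← Subgroup.card_top (G := B), ← (Subgroup.eq_top_iff' _).2 hg, Nat.card_zpowers]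
      exact Nat.le_of_dvd hp.pos (orderOf_dvd_of_pow_eq_one (Subtype.ext (hBp g g.2)))
    rw [hBc] at h1
    exact absurd h1 (lt_self_pow₀ hp.one_lt (by norm_num)).not_ge
  obtain ⟨M', -, hM'⟩ := S1398.result hG M hM p B hBM
    (PGroup.isElementaryAbelian_of_forall (fun a ha b hb => (hBcomm a ha b hb).eq) hBp) hBnc (Or.inl hcent)
  obtain ⟨l, hl, hl1⟩ := L.bot_or_exists_ne_one.resolve_left hL1
  have hKtop : K ≠ ⊤ := fun h => OddOrder.centralizer_singleton_ne_top_of_minSimple hG hl1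
    (top_unique (h ▸ hK.trans (Subgroup.centralizer_le (Set.singleton_subset_iff.2 hl))))
  obtain ⟨N, hN, hKN⟩ := OddOrder.exists_coatom_ge hKtop
  exact ⟨N, ⟨hN, hKN⟩, fun N' h =>
    (hM' N' ⟨h.1, hBK.trans h.2⟩).trans (hM' N ⟨hN, hBK.trans hKN⟩).symm⟩

end Cfsg.Agent.S1399
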