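import Cfsg.Statements.S1400
import Cfsg.Agent.Lib.OddOrder.UniqueMaximal
-- import your own Cfsg.Agent.* helpers here

set_option autoImplicit false
open Cfsg

namespace Cfsg.Agent.S1400

/-- Let G be a minimal simple group of odd order, p a prime, A an abelian p-subgroup containing an elementary abelian subgroup of order p ^ 3 and lying in exactly one maximal subgroup, and B a noncyclic p-subgroup whose centralizer contains an elementary abelian subgroup of order p ^ 3. Then B lies in exactly one maximal subgroup of G. -/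
theorem result {G : Type*} [Group G] [Finite G] (hG : Cfsg.IsMinSimpleOddOrder G)
    (p : ℕ) [Fact p.Prime] (A B : Subgroup G) (hAp : IsPGroup p A) (hAc : IsMulCommutative A) (hA3 : ¬ Cfsg.PRankLE p 2 ↥A)
    (hAU : Cfsg.InUniqueMaximal A) (hBp : IsPGroup p B) (hBnc : ¬ IsCyclic B) (hB3 : ¬ Cfsg.PRankLE p 2 ↥(Subgroup.centralizer (B : Set G))) :
    Cfsg.InUniqueMaximal B := by
  obtain ⟨E, hEC, hE, hE3⟩ := OddOrder.exists_elementary_cube hB3
  have hEU := OddOrder.elementary_unique_of_abelian hG hAc hA3 hAU hE hE3
  have hE1 : E ≠ ⊥ := fun h => by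
    rw [h, Subgroup.card_bot] at hE3
    exact absurd hE3 (Nat.one_lt_pow (by norm_num) (Fact.out : p.Prime).one_lt).not_ge
  exact S1399.result hG E B hEU (Subgroup.le_centralizer_iff.1 hEC)
    (OddOrder.not_rankLE_one_of_not_isCyclic
      (OddOrder.ne_two_of_minSimple hG (PGroup.isPGroup_of_elementaryAbelian hE) hE1) hBp hBnc)

end Cfsg.Agent.S1400
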