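import Cfsg.Statements.S1401
import Cfsg.Agent.S1397
import Cfsg.Agent.Lib.OddOrder.UniqueMaximal
-- import your own Cfsg.Agent.* helpers here

set_option autoImplicit false
open Cfsg

namespace Cfsg.Agent.S1401

open OddOrder

universe u
variable {G : Type u} [Group G] [Finite G] {p : ℕ} [Fact p.Prime]

/-- An elementary abelian subgroup of order at least `p³` in a Fitting subgroup is a uniqueness subgroup. -/
theorem elementary_unique (hG : IsMinSimpleOddOrder G) {M : Subgroup G} (hM : IsCoatom M)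
    (hF : ¬ PRankLE p 2 (fittingOf M)) {E : Subgroup G} (hE : IsElementaryAbelian p E)
    (hE3 : p ^ 3 ≤ Nat.card E) : InUniqueMaximal E := by
  have hp : p.Prime := Fact.out
  obtain ⟨E₀, hE₀F, hE₀, hE₀3⟩ := exists_elementary_cube hF
  obtain ⟨A₀, ⟨hA₀F, hA₀, hle⟩, hmax⟩ := Set.exists_max_image
    {X : Subgroup G | X ≤ fittingOf M ∧ IsElementaryAbelian p X ∧ E₀ ≤ X} (fun X => Nat.card X)
    (Set.toFinite _) ⟨E₀, hE₀F, hE₀, le_rfl⟩
  have hA₀3 : p ^ 3 ≤ Nat.card A₀ := hE₀3.trans (Subgroup.card_le_of_le hle)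
  have h := S1397.result hG M hM p A₀ hA₀F hA₀ hA₀3 fun B hB hB' hAB =>
    (Subgroup.eq_of_le_of_card_ge hAB (hmax B ⟨hB, hB', hle.trans hAB⟩)).symm
  by_cases hp' : IsPGroup p (fittingOf M)
  · obtain ⟨S⟩ : Nonempty (Sylow p M) := inferInstance
    have hFP : fittingOf M ≤ (S : Subgroup M).map M.subtype := fun x hx => by
      obtain ⟨k, hk⟩ := hp' ⟨x, hx⟩
      exact Subgroup.map_mono (PCore.pCore_le_sylow S) (mem_pOf hx (congrArg Subtype.val hk))
    have hA₀1 : A₀ ≠ ⊥ := fun h => by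
      rw [h, Subgroup.card_bot] at hA₀3
      exact absurd hA₀3 (Nat.one_lt_pow (by norm_num) hp.one_lt).not_ge
    have hp2 : p ≠ 2 := ne_two_of_minSimple hG (PGroup.isPGroup_of_elementaryAbelian hA₀) hA₀1
    obtain ⟨A, hA, hAc, hA3⟩ := S1398.exists_scn_three hp2 (S.2.map M.subtype)
      (fun h => hF (pRankLE_of_le hFP h))
    exact elementary_unique_of_abelian hG hAc hA3 ((h.2 hp' S).2 A hA hA3).2 hE hE3
  · refine elementary_cube_unique hG hA₀ hA₀3 (inUniqueMaximal_of_commute hG (h.1 hp') hA₀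
      ((Nat.pow_le_pow_right hp.pos (by norm_num)).trans hA₀3) ?_) hE hE3
    exact Subgroup.le_centralizer_iff.1 inf_le_right

/-- Let G be a minimal simple group of odd order, p a prime, and M a maximal subgroup whose Fitting subgroup contains an elementary abelian subgroup of order p ^ 3. Then every abelian p-subgroup of G containing an elementary abelian subgroup of order p ^ 3 lies in exactly one maximal subgroup of G. -/
theorem result {G : Type*} [Group G] [Finite G] (hG : Cfsg.IsMinSimpleOddOrder G)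
    (M : Subgroup G) (hM : IsCoatom M) (p : ℕ) [Fact p.Prime] (hF : ¬ Cfsg.PRankLE p 2 ↥(Cfsg.fittingOf M))
    (A : Subgroup G) (hAp : IsPGroup p A) (hAc : IsMulCommutative A) (hA3 : ¬ Cfsg.PRankLE p 2 ↥A) :
    Cfsg.InUniqueMaximal A := by
  obtain ⟨E, hEA, hE, hE3⟩ := exists_elementary_cube hA3
  exact inUniqueMaximal_of_le (elementary_unique hG hM hF hE hE3) hEA (ne_top_of_isPGroup hG hAp)

end Cfsg.Agent.S1401
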