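import Cfsg.Statements.S1407
import Cfsg.Agent.S1406
-- import your own Cfsg.Agent.* helpers here

set_option autoImplicit false
open Cfsg

namespace Cfsg.Agent.S1407

/-- Let G be a minimal simple group of odd order, M a maximal subgroup with M_α ≠ 1, p a prime dividing the order of M but not in σ(M), and P a Sylow p-subgroup of M. Then there is an element x of order p in the centre of P such that M_α ∩ C_G(x) has all Sylow subgroups cyclic and M is not the unique maximal subgroup of G containing C_G(x). -/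
theorem result {G : Type*} [Group G] [Finite G] (hG : Cfsg.IsMinSimpleOddOrder G)
    (M : Subgroup G) (hM : IsCoatom M) (hMα : Cfsg.alphaCore M ≠ ⊥) (p : ℕ) [Fact p.Prime] (hpM : p ∣ Nat.card M) (hp : p ∉ Cfsg.sigma M) (P : Sylow p M) :
    ∃ x : G, x ∈ ((Subgroup.center ↥(P : Subgroup M)).map (P : Subgroup M).subtype).map M.subtype ∧ orderOf x = p ∧
        IsZGroup ↥(Cfsg.alphaCore M ⊓ Subgroup.centralizer ({x} : Set G)) ∧
        ¬ (Subgroup.centralizer ({x} : Set G) ≤ M ∧ ∀ L : Subgroup G, IsCoatom L → Subgroup.centralizer ({x} : Set G) ≤ L → L = M) := by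
  have hpp : p.Prime := Fact.out
  set P' := (P : Subgroup M).map M.subtype with hP'
  have hP'p : IsPGroup p P' := P.2.map _
  have hpα : p ∉ Cfsg.alpha M := fun h => hp (OddOrder.alpha_subset_sigma hG hM h)
  by_contra hcon
  push Not at hcon
  have hZeq : ∀ x : G, x ∈ ((Subgroup.center ↥(P : Subgroup M)).map (P : Subgroup M).subtype).map M.subtype ↔
      x ∈ P' ∧ ∀ y ∈ P', y * x = x * y := by
    intro x
    constructor
    · rintro ⟨_, ⟨z, hz, rfl⟩, rfl⟩
      refine ⟨⟨z, z.2, rfl⟩, ?_⟩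
      rintro _ ⟨w, hw, rfl⟩
      exact congrArg (fun t : (P : Subgroup M) => ((t : M) : G)) (Subgroup.mem_center_iff.1 hz ⟨w, hw⟩)
    · rintro ⟨⟨w, hw, rfl⟩, hc⟩
      exact ⟨w, ⟨⟨w, hw⟩, Subgroup.mem_center_iff.2 fun y => Subtype.ext (Subtype.ext
        (hc _ ⟨y, y.2, rfl⟩)), rfl⟩, rfl⟩
  have huniq : ∀ x : G, x ∈ P' → (∀ y ∈ P', y * x = x * y) → orderOf x = p →
      Subgroup.centralizer ({x} : Set G) ≤ M ∧
        ∀ L : Subgroup G, IsCoatom L → Subgroup.centralizer ({x} : Set G) ≤ L → L = M := by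
    intro x hx hc hxo
    by_cases hz : Cfsg.RankLE 1 ↥(Cfsg.alphaCore M ⊓ Subgroup.centralizer ({x} : Set G))
    · exact hcon x ((hZeq x).2 ⟨hx, hc⟩) hxo (OddOrder.isZGroup_of_rankLE_one hG.1 hz)
    · have hxM : x ∈ M := Subgroup.map_subtype_le _ hx
      have hx1 : x ≠ 1 := fun h => by rw [h, orderOf_one] at hxo; exact hpp.ne_one hxo.symm
      have hce : Subgroup.centralizer (Subgroup.zpowers x : Set G) = Subgroup.centralizer ({x} : Set G) :=
        le_antisymm (Subgroup.centralizer_le (Set.singleton_subset_iff.2 (Subgroup.mem_zpowers x)))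
          fun c hc' => Subgroup.mem_centralizer_iff.2 fun y hy => by
            obtain ⟨i, rfl⟩ := hy
            exact ((show Commute c x from Subgroup.mem_centralizer_singleton_iff.1 hc').zpow_right i).eq.symm
      obtain ⟨L₀, -, hu⟩ := S1406.result hG M hM (Subgroup.zpowers x) (Subgroup.zpowers_le.2 hxM)
        (fun q hq hd => by
          rw [Nat.card_zpowers, hxo] at hd
          rw [(Nat.prime_dvd_prime_iff_eq hq hpp).1 hd]
          exact hpα) (by rwa [hce])
      rw [hce] at hu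
      have hLM : ∀ L : Subgroup G, IsCoatom L → Subgroup.centralizer ({x} : Set G) ≤ L → L = M := fun L hL hle =>
        (hu L ⟨hL, inf_le_right.trans hle⟩).trans (hu M ⟨hM, inf_le_left⟩).symm
      refine ⟨?_, hLM⟩
      refine OddOrder.le_of_forall_coatom (fun h => ?_) hLM
      refine OddOrder.normalizer_ne_top_of_pgroup hG (P := Subgroup.zpowers x) (hP'p.to_le (Subgroup.zpowers_le.2 hx))
        (fun e => hx1 (Subgroup.zpowers_eq_bot.1 e)) (top_unique ?_)
      exact h.ge.trans (hce.ge.trans (Subgroup.centralizer_le_normalizer _))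
  refine hp ⟨hpp, hpM, P, fun g hg => ?_⟩
  have hP1 : P' ≠ ⊥ := fun h => by
    obtain ⟨j, hj⟩ := P.2.exists_card_eq
    have h1 : Nat.card P' = 1 := by rw [h, Subgroup.card_bot]
    rw [hP', Subgroup.card_map_of_injective M.subtype_injective] at h1
    exact P.not_dvd_index (by
      have h2 := (P : Subgroup M).card_mul_index
      rw [h1, one_mul] at h2
      exact h2.symm ▸ hpM)
  haveI : Nontrivial P' := (Subgroup.nontrivial_iff_ne_bot _).2 hP1
  haveI := hP'p.center_nontrivial
  obtain ⟨j, hj⟩ := (hP'p.to_subgroup (Subgroup.center P')).exists_card_eq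
  have h1 := Finite.one_lt_card (α := Subgroup.center P')
  have hj0 : j ≠ 0 := fun h => by rw [hj, h, pow_zero] at h1; omega
  obtain ⟨z, hz⟩ := exists_prime_orderOf_dvd_card' p (hj ▸ dvd_pow_self p hj0)
  set w : G := ((z : P') : G) with hw
  have hwo : orderOf w = p := by rw [hw, Subgroup.orderOf_coe, Subgroup.orderOf_coe, hz]
  have hwc : ∀ y ∈ P', y * w = w * y := fun y hy =>
    congrArg Subtype.val (Subgroup.mem_center_iff.1 z.2 ⟨y, hy⟩)
  have hn' := Subgroup.mem_normalizer_iff.1 hg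
  obtain ⟨hwM, -⟩ := huniq w (z : P').2 hwc hwo
  obtain ⟨-, hu'⟩ := huniq (g * w * g⁻¹) ((hn' w).1 (z : P').2) (fun y hy => by
      have h2 : g⁻¹ * y * g ∈ P' := (hn' _).2 (by rwa [show g * (g⁻¹ * y * g) * g⁻¹ = y by group])
      calc y * (g * w * g⁻¹) = g * ((g⁻¹ * y * g) * w) * g⁻¹ := by group
        _ = g * (w * (g⁻¹ * y * g)) * g⁻¹ := by rw [hwc _ h2]
        _ = g * w * g⁻¹ * y := by group)
    (by rw [show g * w * g⁻¹ = MulAut.conj g w from rfl, MulEquiv.orderOf_eq, hwo])
  have hle : Subgroup.centralizer ({g * w * g⁻¹} : Set G) ≤ M.map (MulAut.conj g).toMonoidHom := fun c hc => by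
    refine ⟨g⁻¹ * c * g, hwM (Subgroup.mem_centralizer_singleton_iff.2 ?_), by simp [mul_assoc]⟩
    have h := Subgroup.mem_centralizer_singleton_iff.1 hc
    calc g⁻¹ * c * g * w = g⁻¹ * (c * (g * w * g⁻¹)) * g := by group
      _ = g⁻¹ * ((g * w * g⁻¹) * c) * g := by rw [h]
      _ = w * (g⁻¹ * c * g) := by group
  have hgM : g ∈ Subgroup.normalizer (M : Set G) := Subgroup.mem_normalizer_iff_map_conj_eq.2
    (hu' _ ((OrderIso.isCoatom_iff (MulEquiv.mapSubgroup (MulAut.conj g)) M).2 hM) hle)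
  refine ((hM.le_iff.1 Subgroup.le_normalizer).resolve_left fun h => ?_).le hgM
  have hMn : M.Normal := Subgroup.normalizer_eq_top_iff.1 h
  rcases hG.2.1.eq_bot_or_eq_top_of_normal M hMn with h' | h'
  · exact hP1 (le_bot_iff.1 ((Subgroup.map_subtype_le _).trans h'.le))
  · exact hM.1 h'

end Cfsg.Agent.S1407
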