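import Cfsg.Statements.S1413
import Cfsg.Agent.Lib.OddOrder.SylowSetting
-- import your own Cfsg.Agent.* helpers here

set_option autoImplicit false
open Cfsg
open scoped Pointwise

namespace Cfsg.Agent.S1413

/-- Let G be a minimal simple group of odd order, p a prime and P a Sylow p-subgroup. (c) If Q ≤ P and xQx⁻¹ ≤ P then xQx⁻¹ = yQy⁻¹ for some y ∈ N_G(P). (d) For every Q ≤ P, p does not divide the index of N_P(Q) in N_G(Q). (e) If R is a p-subgroup and Q ≤ P ∩ R is normal in N_G(P), then Q is normal in N_G(R). -/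
theorem result {G : Type*} [Group G] [Finite G] (hG : Cfsg.IsMinSimpleOddOrder G) (p : ℕ) [Fact p.Prime] (P : Sylow p G) :
    (∀ (Q : Subgroup G) (x : G), Q ≤ (P : Subgroup G) → Q.map (MulAut.conj x).toMonoidHom ≤ (P : Subgroup G) →
        ∃ y ∈ Subgroup.normalizer ((P : Subgroup G) : Set G), Q.map (MulAut.conj x).toMonoidHom = Q.map (MulAut.conj y).toMonoidHom) ∧
      (∀ Q : Subgroup G, Q ≤ (P : Subgroup G) →
        ¬ p ∣ ((P : Subgroup G) ⊓ Subgroup.normalizer (Q : Set G)).relIndex (Subgroup.normalizer (Q : Set G))) ∧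
      (∀ (R Q : Subgroup G), IsPGroup p R → Q ≤ (P : Subgroup G) ⊓ R →
        Subgroup.normalizer ((P : Subgroup G) : Set G) ≤ Subgroup.normalizer (Q : Set G) →
        Subgroup.normalizer (R : Set G) ≤ Subgroup.normalizer (Q : Set G)) := by
  have hc : ∀ (Q : Subgroup G) (x : G), Q ≤ (P : Subgroup G) → MulAut.conj x • Q ≤ (P : Subgroup G) →
      ∃ y ∈ Subgroup.normalizer ((P : Subgroup G) : Set G), MulAut.conj x • Q = MulAut.conj y • Q :=
    fun Q x hQ hx => Cfsg.Agent.OddOrder.exists_normalizer_conj hG P hQ hx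
  have hself : ∀ {g : G} {X : Subgroup G}, g ∈ Subgroup.normalizer (X : Set G) → MulAut.conj g • X = X :=
    fun h => Cfsg.Agent.Coprime.conj_smul_eq_self_of_mem h
  refine ⟨hc, fun Q hQ hd => ?_, fun R Q hR hQ hN => ?_⟩
  · set N := Subgroup.normalizer (Q : Set G) with hNdef
    set R₀ := (P : Subgroup G) ⊓ N with hR₀
    obtain ⟨S, hS⟩ := ((P.2.to_le inf_le_left : IsPGroup p R₀).comap_of_injective N.subtype
      N.subtype_injective).exists_le_sylow
    set R := (S : Subgroup N).map N.subtype with hR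
    have hR₀R : R₀ ≤ R := (Subgroup.map_subgroupOf_eq_of_le inf_le_right).ge.trans (Subgroup.map_mono hS)
    obtain ⟨T, hT⟩ := (S.2.map N.subtype : IsPGroup p R).exists_le_sylow
    obtain ⟨g, hg⟩ := MulAction.exists_smul_eq G T P
    have hRP : MulAut.conj g • R ≤ (P : Subgroup G) := by
      rw [← hg, Sylow.coe_subgroup_smul]
      exact Subgroup.pointwise_smul_le_pointwise_smul_iff.2 hT
    have hQR : Q ≤ R := (le_inf hQ Subgroup.le_normalizer).trans hR₀R
    obtain ⟨y, hy, hye⟩ := hc Q g hQ ((Subgroup.pointwise_smul_le_pointwise_smul_iff.2 hQR).trans hRP)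
    have hz : y⁻¹ * g ∈ N := Cfsg.Agent.Coprime.mem_normalizer_of_conj_smul_eq (by
      rw [← Cfsg.Agent.Coprime.conj_smul_smul, hye, Cfsg.Agent.Coprime.conj_smul_smul, inv_mul_cancel,
        map_one, one_smul])
    have hle : MulAut.conj (y⁻¹ * g) • R ≤ R₀ := le_inf
      (by
        rw [← Cfsg.Agent.Coprime.conj_smul_smul]
        exact (Subgroup.pointwise_smul_le_pointwise_smul_iff.2 hRP).trans (hself (inv_mem hy)).le)
      (by
        rw [← hself (Subgroup.le_normalizer hz)]
        exact Subgroup.pointwise_smul_le_pointwise_smul_iff.2 (Subgroup.map_subtype_le _))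
    have hcard := Nat.le_of_dvd Nat.card_pos (Subgroup.card_dvd_of_le hle)
    rw [Cfsg.Agent.Coprime.card_conj_smul] at hcard
    have hRe : R₀ = R := Subgroup.eq_of_le_of_card_ge hR₀R hcard
    apply S.not_dvd_index
    have he : R₀.subgroupOf N = (S : Subgroup N) := by
      rw [hRe, hR]; exact Subgroup.comap_map_eq_self_of_injective N.subtype_injective _
    rwa [← he]
  · obtain ⟨T, hT⟩ := hR.exists_le_sylow
    obtain ⟨g, hg⟩ := MulAction.exists_smul_eq G T P
    have hRP : MulAut.conj g • R ≤ (P : Subgroup G) := by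
      rw [← hg, Sylow.coe_subgroup_smul]
      exact Subgroup.pointwise_smul_le_pointwise_smul_iff.2 hT
    have hwc : ∀ x : G, MulAut.conj x • Q ≤ (P : Subgroup G) → MulAut.conj x • Q = Q := fun x hx => by
      obtain ⟨y, hy, hye⟩ := hc Q x (hQ.trans inf_le_left) hx
      rw [hye, hself (hN hy)]
    have hQR : Q ≤ R := hQ.trans inf_le_right
    have hgQ : MulAut.conj g • Q = Q :=
      hwc g ((Subgroup.pointwise_smul_le_pointwise_smul_iff.2 hQR).trans hRP)
    intro n hn
    have hnQ : MulAut.conj n • Q ≤ R :=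
      (Subgroup.pointwise_smul_le_pointwise_smul_iff.2 hQR).trans (hself hn).le
    have h1 := hwc (g * n) (by
      rw [← Cfsg.Agent.Coprime.conj_smul_smul]
      exact (Subgroup.pointwise_smul_le_pointwise_smul_iff.2 hnQ).trans hRP)
    refine Cfsg.Agent.Coprime.mem_normalizer_of_conj_smul_eq ?_
    have h2 : MulAut.conj g⁻¹ • Q = Q := by
      conv_lhs => rw [← hgQ, Cfsg.Agent.Coprime.conj_smul_smul, inv_mul_cancel, map_one, one_smul]
    rw [← Cfsg.Agent.Coprime.conj_smul_smul] at h1
    have h3 := congrArg (fun X => MulAut.conj g⁻¹ • X) h1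
    simp only [Cfsg.Agent.Coprime.conj_smul_smul, inv_mul_cancel_left] at h3
    rw [h3, h2]

end Cfsg.Agent.S1413
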