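import Cfsg.Statements.S1441
import Cfsg.Agent.Lib.Coprime.Stabilize

set_option autoImplicit false
open Cfsg

namespace Cfsg.Agent.S1441

/-- Let G be a finite group, H a solvable subgroup and A a subgroup normalizing H. Suppose there is a chain H = H₀ ≥ H₁ ≥ ⋯ ≥ H_n = 1 of subgroups normal in H and normalized by A such that A acts trivially on each factor H_{i-1}/H_i (that is, [H_{i-1}, A] ≤ H_i). Then every prime dividing the index of C_A(H) in A divides the order of H. -/
theorem result {G : Type*} [Group G] [Finite G] (H A : Subgroup G) (hH : Group.IsSolvable H) (hA : (A ≤ Subgroup.normalizer (H : Set G)))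
    (n : ℕ) (c : Fin (n + 1) → Subgroup G) (hc0 : c 0 = H) (hcn : c (Fin.last n) = ⊥) (hanti : Antitone c)
    (hcN : ∀ i, H ≤ Subgroup.normalizer ((c i : Subgroup G) : Set G)) (hcA : ∀ i, A ≤ Subgroup.normalizer ((c i : Subgroup G) : Set G))
    (htriv : ∀ i : Fin n, ⁅c i.castSucc, A⁆ ≤ c i.succ) :
    ∀ p : ℕ, p.Prime → p ∣ (A ⊓ Subgroup.centralizer (H : Set G)).relIndex A → p ∣ Nat.card H := by
  intro p hp hdvd
  by_contra hpH
  have hfix : ∀ a ∈ A, (orderOf a).Coprime (Nat.card H) → a ∈ Subgroup.centralizer (H : Set G) := by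
    intro a ha hcop
    have key : ∀ i : Fin (n + 1), ∀ h ∈ c i, Commute a h := by
      intro i
      induction i using Fin.reverseInduction with
      | last =>
        intro h hh
        rw [hcn, Subgroup.mem_bot] at hh
        simp [hh]
      | cast i ih =>
        intro h hh
        have hz : h * a * h⁻¹ * a⁻¹ ∈ c i.succ := by
          have := htriv i (Subgroup.commutator_mem_commutator hh ha)
          rwa [commutatorElement_def] at this
        have hzH : h * a * h⁻¹ * a⁻¹ ∈ H := hc0 ▸ hanti (Fin.zero_le _) hz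
        refine Cfsg.Agent.Coprime.commute_of_translate (z := (h * a * h⁻¹ * a⁻¹)⁻¹)
          (by group) ((ih _ hz).inv_right) ?_
        rw [orderOf_inv]
        exact Nat.Coprime.coprime_dvd_right (Subgroup.orderOf_dvd_natCard H hzH) hcop
    rw [Subgroup.mem_centralizer_iff]
    intro h hh
    exact (key 0 h (by rw [hc0]; exact hh)).eq.symm
  haveI := Fact.mk hp
  obtain ⟨Q⟩ : Nonempty (Sylow p A) := inferInstance
  have hQ : (Q : Subgroup A) ≤ (A ⊓ Subgroup.centralizer (H : Set G)).subgroupOf A := by
    intro x hx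
    refine Subgroup.mem_subgroupOf.mpr ⟨x.2, hfix x x.2 ?_⟩
    obtain ⟨k, hk⟩ := Q.2 ⟨x, hx⟩
    have hxk : (x : G) ^ p ^ k = 1 := by
      have := congrArg (fun y : (Q : Subgroup A) => ((y : A) : G)) hk
      simpa using this
    exact Nat.Coprime.coprime_dvd_left (orderOf_dvd_of_pow_eq_one hxk)
      (Nat.Coprime.pow_left k ((Nat.Prime.coprime_iff_not_dvd hp).mpr hpH))
  exact Q.not_dvd_index (hdvd.trans (Subgroup.index_dvd_of_le hQ))

end Cfsg.Agent.S1441
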