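import Cfsg.Statements.S1442
import Cfsg.Agent.Lib.Coprime.Stabilize

set_option autoImplicit false
open Cfsg

namespace Cfsg.Agent.S1442

/-- Let G be a finite group, H a nilpotent subgroup and A a subgroup normalizing H with the orders of A and H coprime. Put C = H ∩ C_G(A). If H ∩ C_G(C) ≤ C then A centralizes H. -/
theorem result {G : Type*} [Group G] [Finite G] (H A : Subgroup G) (hH : Group.IsNilpotent H) (hA : (A ≤ Subgroup.normalizer (H : Set G))) (hcop : (Nat.card A).Coprime (Nat.card H))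
    (hC : H ⊓ Subgroup.centralizer (((H ⊓ Subgroup.centralizer (A : Set G)) : Subgroup G) : Set G) ≤ (H ⊓ Subgroup.centralizer (A : Set G))) :
    A ≤ Subgroup.centralizer (H : Set G) := by
  intro a ha
  set C : Subgroup G := H ⊓ Subgroup.centralizer (A : Set G) with hCdef
  have hCH : C ≤ H := inf_le_left
  suffices hCeq : H ≤ C by
    rw [Subgroup.mem_centralizer_iff]
    intro h hh
    exact ((Subgroup.mem_centralizer_iff.mp (hCeq hh).2) a ha).symm
  by_contra hne
  have hlt : C.subgroupOf H < ⊤ := by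
    rw [lt_top_iff_ne_top]
    intro h
    exact hne (Subgroup.subgroupOf_eq_top.mp h)
  obtain ⟨n, hn, hnC⟩ := SetLike.exists_of_lt (Group.normalizerCondition_of_isNilpotent _ hlt)
  apply hnC
  have hmove : ∀ c ∈ C, (n : G) * c * (n : G)⁻¹ ∈ C := by
    intro c hc
    have h := (Subgroup.mem_normalizer_iff.mp hn ⟨c, hCH hc⟩).mp hc
    exact h
  refine Subgroup.mem_subgroupOf.mpr ⟨n.2, Subgroup.mem_centralizer_iff.mpr fun b hb => ?_⟩
  have hfix : ∀ c ∈ C, b * c = c * b := fun c hc => Subgroup.mem_centralizer_iff.mp hc.2 b hb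
  set z : G := b * (n : G) * b⁻¹ * (n : G)⁻¹ with hz
  have hzH : z ∈ H := H.mul_mem ((Subgroup.mem_normalizer_iff.mp (hA hb) _).mp n.2) (H.inv_mem n.2)
  have hinv : ∀ c ∈ C, (n : G)⁻¹ * c * (n : G) ∈ C := by
    intro c hc
    have h := (Subgroup.mem_normalizer_iff.mp (Subgroup.inv_mem _ hn) ⟨c, hCH hc⟩).mp hc
    simpa [Subgroup.mem_subgroupOf] using h
  have hzC : z ∈ C := by
    apply hC
    refine ⟨hzH, Subgroup.mem_centralizer_iff.mpr fun c hc => ?_⟩
    have e1 := hfix _ (hinv c hc)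
    have e2 := hfix c hc
    calc c * z = c * b * ((n : G) * b⁻¹ * (n : G)⁻¹) := by rw [hz]; group
      _ = b * (n : G) * (((n : G)⁻¹ * c * (n : G)) * b⁻¹) * (n : G)⁻¹ := by rw [← e2]; group
      _ = b * (n : G) * (b⁻¹ * ((n : G)⁻¹ * c * (n : G))) * (n : G)⁻¹ := by
          congr 2
          rw [eq_inv_mul_iff_mul_eq, ← mul_assoc, e1, mul_inv_cancel_right]
      _ = z * c := by rw [hz]; group
  exact Cfsg.Agent.Coprime.commute_of_translate (z := z) (by rw [hz]; group) (hfix z hzC)
    (Cfsg.Agent.Coprime.orderOf_coprime_of_mem hb hzH hcop)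

end Cfsg.Agent.S1442
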