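import Cfsg.Statements.S1443
import Cfsg.Agent.Lib.Coprime.OmegaOne
import Cfsg.Agent.S1442

set_option autoImplicit false
open Cfsg

namespace Cfsg.Agent.S1443

/-- Let G be a finite group, p an odd prime, H a p-subgroup, E an elementary abelian subgroup of H, and A a subgroup of order coprime to p normalizing H. If A centralizes every element of order p in H ∩ C_G(E), then A centralizes H. -/
theorem result {G : Type*} [Group G] [Finite G] (p : ℕ) [Fact p.Prime] (hp : p ≠ 2) (H E A : Subgroup G) (hH : IsPGroup p H) (hE : E ≤ H) (hEe : Cfsg.IsElementaryAbelian p E)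
    (hA : (A ≤ Subgroup.normalizer (H : Set G))) (hcop : (Nat.card A).Coprime p)
    (hfix : ∀ x ∈ (H ⊓ Subgroup.centralizer (E : Set G)), orderOf x = p → A ≤ Subgroup.centralizer ({x} : Set G)) :
    A ≤ Subgroup.centralizer (H : Set G) := by
  set D : Subgroup G := H ⊓ Subgroup.centralizer (E : Set G) with hD
  have hED : E ≤ D := fun e he =>
    ⟨hE he, Subgroup.mem_centralizer_iff.mpr fun f hf => by
      haveI := hEe.1
      exact congrArg Subtype.val (mul_comm' (⟨f, hf⟩ : E) ⟨e, he⟩)⟩
  have hAE : A ≤ Subgroup.centralizer (E : Set G) := fun a ha =>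
    Subgroup.mem_centralizer_iff.mpr fun e he => by
      rcases eq_or_ne e 1 with rfl | he1
      · simp
      exact Subgroup.mem_centralizer_iff.mp
        (hfix e (hED he) (orderOf_eq_prime (hEe.2 e he) he1) ha) e rfl
  have hAD : A ≤ Subgroup.normalizer (D : Set G) := by
    intro a ha
    have h1 := Subgroup.mem_normalizer_iff.mp (hA ha)
    have h2 := Subgroup.mem_normalizer_iff.mp
      (Subgroup.le_normalizer (H := Subgroup.centralizer (E : Set G)) (hAE ha))
    exact Subgroup.mem_normalizer_iff.mpr fun w => and_congr (h1 w) (h2 w)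
  have hAcD : A ≤ Subgroup.centralizer (D : Set G) :=
    Cfsg.Agent.Coprime.le_centralizer_of_fix_pow_eq_one hp D A (hH.to_le inf_le_left) hAD hcop fun x hx hxp => by
      rcases eq_or_ne x 1 with rfl | hx1
      · intro a _
        simp [Subgroup.mem_centralizer_singleton_iff]
      · exact hfix x hx (orderOf_eq_prime hxp hx1)
  have hDC : D ≤ H ⊓ Subgroup.centralizer (A : Set G) :=
    le_inf inf_le_left (Subgroup.le_centralizer_iff.mp hAcD)
  obtain ⟨k, hk⟩ := hH.exists_card_eq
  exact Cfsg.Agent.S1442.result H A hH.isNilpotent hA (hk ▸ hcop.pow_right k) fun v hv =>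
    hDC ⟨hv.1, Subgroup.mem_centralizer_iff.mpr fun e he =>
      Subgroup.mem_centralizer_iff.mp hv.2 e (hDC (hED he))⟩

end Cfsg.Agent.S1443
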