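import Cfsg.Statements.S3766
import Cfsg.Agent.Lib.Components.Fitting
import Cfsg.Agent.Lib.Solvable.Basic


set_option autoImplicit false
open Cfsg
open scoped commutatorElement

namespace Cfsg.Agent.S3766

open Subgroup

/-- A minimal normal subgroup is centralized by every nilpotent normal subgroup. -/
theorem commute_of_minimal_of_nilpotent {G : Type*} [Group G] {W M : Subgroup G}
    [hW : W.Normal] [hM : M.Normal] [Group.IsNilpotent M]
    (hmin : ∀ K : Subgroup G, K.Normal → K ≤ W → K = ⊥ ∨ K = W) {w m : G} (hw : w ∈ W) (hm : m ∈ M) :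
    w * m = m * w := by
  rcases hmin (W ⊓ M) inferInstance inf_le_left with h | h
  · refine commutatorElement_eq_one_iff_mul_comm.1 (mem_bot.1 ?_)
    rw [← h]
    exact commutator_le_inf W M (commutator_mem_commutator hw hm)
  · rcases eq_or_ne W ⊥ with rfl | hne
    · rw [mem_bot.1 hw, one_mul, mul_one]
    have hWM : W ≤ M := inf_eq_left.1 h
    have hne' : W.subgroupOf M ≠ ⊥ := by
      rw [Ne, subgroupOf_eq_bot, disjoint_iff, h]; exact hne
    have h1 := Cfsg.Agent.Solvable.inf_center_ne_bot (N := W.subgroupOf M) hne'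
    have hW2 : (W ⊓ (center M).map M.subtype).Normal := inferInstance
    rcases hmin _ hW2 inf_le_left with h2 | h2
    · refine absurd ?_ h1
      rw [eq_bot_iff_forall] at h2 ⊢
      exact fun x hx => Subtype.ext (h2 x ⟨hx.1, ⟨x, hx.2, rfl⟩⟩)
    · obtain ⟨w', hw', rfl⟩ := (inf_eq_left.1 h2) hw
      exact congrArg Subtype.val (mem_center_iff.1 hw' ⟨m, hm⟩).symm

/-- Elements of a nilpotent normal subgroup centralize every chief factor. -/
theorem commutator_mem_of_chief {G : Type*} [Group G] [Finite G] {U V M : Subgroup G} [M.Normal]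
    [Group.IsNilpotent M] (hU : U.Normal) (hV : V.Normal) (hVU : V ≤ U)
    (hmin : ∀ W : Subgroup G, W.Normal → V ≤ W → W ≤ U → W = V ∨ W = U)
    {g : G} (hg : g ∈ M) {u : G} (hu : u ∈ U) : u * g * u⁻¹ * g⁻¹ ∈ V := by
  let π := QuotientGroup.mk' V
  have hsurj : Function.Surjective π := QuotientGroup.mk'_surjective V
  have : (M.map π).Normal := Normal.map inferInstance π hsurj
  have : (U.map π).Normal := hU.map π hsurj
  have : Group.IsNilpotent (M.map π) :=
    Group.nilpotent_of_surjective (π.subgroupMap M) (π.subgroupMap_surjective M)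
  have hK : ∀ K : Subgroup (G ⧸ V), K.Normal → K ≤ U.map π → K = ⊥ ∨ K = U.map π := by
    intro K hK hKU
    have h1 : V ≤ K.comap π := fun x hx => by
      show π x ∈ K
      rw [show π x = 1 from (QuotientGroup.eq_one_iff x).2 hx]
      exact one_mem K
    have h2 : K.comap π ≤ U := by
      refine (comap_mono hKU).trans ?_
      rw [comap_map_eq, QuotientGroup.ker_mk', sup_of_le_left hVU]
    rcases hmin _ (hK.comap π) h1 h2 with h | h
    · left
      rw [← map_comap_eq_self_of_surjective hsurj K, h, Subgroup.map_eq_bot_iff, QuotientGroup.ker_mk']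
    · right
      rw [← map_comap_eq_self_of_surjective hsurj K, h]
  have hc := commute_of_minimal_of_nilpotent hK (mem_map_of_mem π hu) (mem_map_of_mem π hg)
  rw [← QuotientGroup.eq_one_iff]
  change π (u * g * u⁻¹ * g⁻¹) = 1
  simp only [map_mul, map_inv]
  rw [hc, mul_inv_cancel_right, mul_inv_cancel]


/-- Let G be a finite solvable group and N a normal subgroup of G. Call a pair V < U of normal subgroups of G a chief factor of G when no normal subgroup of G lies strictly between them; an element g centralizes the chief factor U/V when u g u⁻¹ g⁻¹ ∈ V for all u ∈ U. Then an element of G lies in the Fitting subgroup F(N) if and only if it lies in N and centralizes every chief factor of G; and also if and only if it lies in N and centralizes every chief factor U/V of G with U ≤ F(N). -/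
theorem result {G : Type*} [Group G] [Finite G] (hG : Group.IsSolvable G) (N : Subgroup G) [N.Normal] (g : G) : (g ∈ (Cfsg.fittingSubgroup ↥N).map N.subtype ↔ g ∈ N ∧ ∀ U V : Subgroup G, (U.Normal ∧ V.Normal ∧ V < U ∧ ∀ W : Subgroup G, W.Normal → V ≤ W → W ≤ U → W = V ∨ W = U) → ∀ u ∈ U, u * g * u⁻¹ * g⁻¹ ∈ V) ∧ (g ∈ (Cfsg.fittingSubgroup ↥N).map N.subtype ↔ g ∈ N ∧ ∀ U V : Subgroup G, (U.Normal ∧ V.Normal ∧ V < U ∧ ∀ W : Subgroup G, W.Normal → V ≤ W → W ≤ U → W = V ∨ W = U) → U ≤ (Cfsg.fittingSubgroup ↥N).map N.subtype → ∀ u ∈ U, u * g * u⁻¹ * g⁻¹ ∈ V) := by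
  set F := (Cfsg.fittingSubgroup ↥N).map N.subtype with hF
  have hFeq : F = Cfsg.fittingSubgroup G ⊓ N := by
    rw [hF, Cfsg.Agent.Components.fittingSubgroup_subgroupOf_of_normal N, Subgroup.subgroupOf_map_subtype]
  have hFFn : Group.IsNilpotent (Cfsg.fittingSubgroup G) := Cfsg.Agent.Components.fittingSubgroup_isNilpotent G
  have hFn : (Cfsg.fittingSubgroup G).Normal := Cfsg.Agent.Components.fittingSubgroup_normal G
  have hforward : g ∈ F → g ∈ N ∧ ∀ U V : Subgroup G, (U.Normal ∧ V.Normal ∧ V < U ∧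
      ∀ W : Subgroup G, W.Normal → V ≤ W → W ≤ U → W = V ∨ W = U) →
      ∀ u ∈ U, u * g * u⁻¹ * g⁻¹ ∈ V := fun hg => by
    rw [hFeq] at hg
    exact ⟨hg.2, fun U V h u hu => commutator_mem_of_chief h.1 h.2.1 h.2.2.1.le h.2.2.2 hg.1 hu⟩
  have hback : g ∈ N → (∀ U V : Subgroup G, (U.Normal ∧ V.Normal ∧ V < U ∧
      ∀ W : Subgroup G, W.Normal → V ≤ W → W ≤ U → W = V ∨ W = U) → U ≤ F →
      ∀ u ∈ U, u * g * u⁻¹ * g⁻¹ ∈ V) → g ∈ F := by
    intro hgN hg
    -- the common centralizer of the chief factors below `F`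
    let ι := {q : Subgroup G × Subgroup G // (q.1.Normal ∧ q.2.Normal ∧ q.2 < q.1 ∧
      ∀ W : Subgroup G, W.Normal → q.2 ≤ W → W ≤ q.1 → W = q.2 ∨ W = q.1) ∧ q.1 ≤ F}
    let M : Subgroup G := N ⊓ ⨅ q : ι,
      { carrier := {x | ∀ u ∈ q.1.1, u * x * u⁻¹ * x⁻¹ ∈ q.1.2}
        one_mem' := fun u _ => by simp
        mul_mem' := fun {a b} ha hb u hu => by
          have h := mul_mem (ha u hu) (q.2.1.2.1.conj_mem _ (hb u hu) a)
          convert h using 1
          group
        inv_mem' := fun {a} ha u hu => by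
          have h := q.2.1.2.1.conj_mem _ (inv_mem (ha u hu)) a⁻¹
          convert h using 1
          group }
    have hMmem : ∀ x, x ∈ M ↔ x ∈ N ∧ ∀ q : ι, ∀ u ∈ q.1.1, u * x * u⁻¹ * x⁻¹ ∈ q.1.2 := fun x => by
      simp only [M, Subgroup.mem_inf, Subgroup.mem_iInf]
      exact Iff.rfl
    have hMn : M.Normal := ⟨fun x hx k => by
      rw [hMmem] at hx ⊢
      refine ⟨Subgroup.Normal.conj_mem inferInstance x hx.1 k, fun q u hu => ?_⟩
      have h := q.2.1.2.1.conj_mem _ (hx.2 q (k⁻¹ * u * k)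
        (by simpa using q.2.1.1.conj_mem u hu k⁻¹)) k
      convert h using 1
      group⟩
    have hgM : g ∈ M := (hMmem g).2 ⟨hgN, fun q => hg _ _ q.2.1 q.2.2⟩
    have hFNn : F.Normal := by rw [hFeq]; exact inferInstance
    suffices hMF : M ≤ F from hMF hgM
    have : Group.IsSolvable G := hG
    by_contra hne
    -- a normal subgroup of `G` inside `M`, abelian modulo `F`, not inside `F`
    obtain ⟨L, hLn, hLM, hLF, hLL⟩ : ∃ L : Subgroup G, L.Normal ∧ L ≤ M ∧ ¬ L ≤ F ∧ ⁅L, L⁆ ≤ F := by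
      obtain ⟨k, hk⟩ := Group.IsSolvable.solvable (G := G)
      have hex : ∃ j, derivedSeries G j ⊓ M ≤ F := ⟨k, by rw [hk, bot_inf_eq]; exact bot_le⟩
      classical
      have hj := Nat.find_spec hex
      have hj0 : Nat.find hex ≠ 0 := fun h => by
        rw [h, derivedSeries_zero, top_inf_eq] at hj
        exact hne hj
      obtain ⟨j, hj'⟩ := Nat.exists_eq_succ_of_ne_zero hj0
      refine ⟨derivedSeries G j ⊓ M, inferInstance, inf_le_right,
        Nat.find_min hex (by omega), le_trans (le_inf ?_ ?_) hj⟩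
      · rw [hj', derivedSeries_succ]
        exact Subgroup.commutator_mono inf_le_left inf_le_left
      · exact (Subgroup.commutator_le_self _).trans inf_le_right
    -- iterated commutators with `L` kill `F`
    have key : ∀ n, ∀ X : Subgroup G, X.Normal → X ≤ F → Nat.card X = n → ∀ Y ≤ X,
        ∃ k, (fun Z => ⁅Z, L⁆)^[k] Y = ⊥ := by
      intro n
      induction n using Nat.strong_induction_on with
      | h n ih =>
      intro X hX hXF hn Y hY
      rcases eq_or_ne X ⊥ with rfl | hX1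
      · exact ⟨0, le_bot_iff.1 hY⟩
      obtain ⟨V, hV⟩ := (Set.toFinite {V : Subgroup G | V.Normal ∧ V < X}).exists_maximal
        ⟨⊥, inferInstance, bot_lt_iff_ne_bot.2 hX1⟩
      have hchief : ∀ W : Subgroup G, W.Normal → V ≤ W → W ≤ X → W = V ∨ W = X := fun W hW hVW hWX =>
        or_iff_not_imp_right.2 fun hWne => le_antisymm (hV.2 ⟨hW, lt_of_le_of_ne hWX hWne⟩ hVW) hVW
      have hle : ⁅Y, L⁆ ≤ V := Subgroup.commutator_le.2 fun y hy l hl =>
        ((hMmem l).1 (hLM hl)).2 ⟨(X, V), ⟨hX, hV.1.1, hV.1.2, hchief⟩, hXF⟩ y (hY hy)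
      have hcard : Nat.card V < n := by
        rw [← hn]
        exact lt_of_not_ge fun h => hV.1.2.ne (Subgroup.eq_of_le_of_card_ge hV.1.2.le h)
      obtain ⟨k, hk⟩ := ih _ hcard V hV.1.1 (hV.1.2.le.trans hXF) rfl _ hle
      exact ⟨k + 1, hk⟩
    obtain ⟨k, hk⟩ := key _ F hFNn le_rfl rfl ⁅L, L⁆ hLL
    have hlcs : ∀ j, L.lowerCentralSeries (j + 1) = (fun Z => ⁅Z, L⁆)^[j] ⁅L, L⁆ := by
      intro j
      induction j with
      | zero => rfl
      | succ j ihj => rw [Function.iterate_succ_apply', ← ihj]; rfl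
    have : Group.IsNilpotent L :=
      Subgroup.isNilpotent_of_lowerCentralSeries_eq_bot (n := k + 1) ((hlcs k).trans hk)
    exact hLF (hFeq ▸ le_inf (Cfsg.Agent.Components.le_fittingSubgroup hLn)
      (hLM.trans inf_le_left))
  exact ⟨⟨hforward, fun h => hback h.1 fun U V hUV _ => h.2 U V hUV⟩,
    ⟨fun h => ⟨(hforward h).1, fun U V hUV _ => (hforward h).2 U V hUV⟩, fun h => hback h.1 h.2⟩⟩


end Cfsg.Agent.S3766
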