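import Cfsg.Statements.S3765
import Cfsg.Agent.Lib.HallHigman.Extraspecial
import Cfsg.Agent.Lib.HallHigman.Bridge
import Cfsg.Agent.Lib.HallHigman.Frobenius
import Cfsg.Agent.Lib.Coprime.Stabilize
import Cfsg.Agent.Lib.Coprime.Commutator
import Cfsg.Agent.Lib.PGroup.Frattini


set_option autoImplicit false
open Cfsg

namespace Cfsg.Agent.S3765

open scoped commutatorElement

/-- Let p, q, r be distinct primes and let X, Q, V be subgroups of a finite group with X of order r normalizing the q-group Q and acting faithfully on it (X ∩ C(Q) = 1), and V a nontrivial elementary abelian p-group normalized by X and Q on which XQ acts faithfully. If q = 2 and r has the form 2^n + 1, assume in addition that Q is abelian. Then C_V(X) ≠ 1. -/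
theorem result {G : Type*} [Group G] [Finite G] {p q r : ℕ} (hp : p.Prime) (hq : q.Prime) (hr : r.Prime) (hpq : p ≠ q) (hpr : p ≠ r) (hqr : q ≠ r) (X Q V : Subgroup G) (hX : Nat.card X = r) (hQ : IsPGroup q Q) (hXQ : X ≤ Subgroup.normalizer (Q : Set G)) (hXfaith : X ⊓ Subgroup.centralizer (Q : Set G) = ⊥) (hV : Cfsg.IsElementaryAbelian p V) (hV1 : V ≠ ⊥) (hXV : X ≤ Subgroup.normalizer (V : Set G)) (hQV : Q ≤ Subgroup.normalizer (V : Set G)) (hfaith : (X ⊔ Q) ⊓ Subgroup.centralizer (V : Set G) = ⊥) (hexc : q = 2 → (∃ n : ℕ, r = 2 ^ n + 1) → IsMulCommutative Q) : V ⊓ Subgroup.centralizer (X : Set G) ≠ ⊥ := by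
  classical
  haveI := Fact.mk hp; haveI := Fact.mk hq; haveI := Fact.mk hr
  intro hCV
  obtain ⟨m, ρ, hρ1, hρ2⟩ := Agent.HallHigman.exists_rep V hV
  set K := AlgebraicClosure (ZMod p) with hK
  have hne : ∀ s : ℕ, s.Prime → p ≠ s → (s : K) ≠ 0 := fun s hs hps e => by
    rw [CharP.cast_eq_zero_iff K p] at e
    exact hps ((Nat.prime_dvd_prime_iff_eq hp hs).1 e)
  haveI : IsCyclic X := isCyclic_of_prime_card hX
  obtain ⟨⟨x, hxX⟩, hxgen⟩ := IsCyclic.exists_generator (α := X)
  have hox : orderOf x = r := by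
    rw [← hX, ← orderOf_eq_card_of_forall_mem_zpowers hxgen, Subgroup.orderOf_mk]
  have hxC : ∀ g : G, x * g = g * x → g ∈ Subgroup.centralizer (X : Set G) := by
    intro g hg
    refine Subgroup.mem_centralizer_iff.2 fun y hy => ?_
    obtain ⟨k, hk⟩ := Subgroup.mem_zpowers_iff.1 (hxgen ⟨y, hy⟩)
    have h1 : x ^ k = y := congrArg Subtype.val hk
    rw [← h1]
    exact (Commute.zpow_left hg k : Commute (x ^ k) g)
  -- a minimal subgroup on which `X` acts nontrivially
  have hne0 : ¬ Q ≤ Subgroup.centralizer (X : Set G) := by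
    intro h
    have : x ∈ X ⊓ Subgroup.centralizer (Q : Set G) :=
      ⟨hxX, Subgroup.mem_centralizer_iff.2 fun g hg => (Subgroup.mem_centralizer_iff.1 (h hg) x hxX).symm⟩
    rw [hXfaith, Subgroup.mem_bot] at this
    rw [this, orderOf_one] at hox
    exact hr.ne_one hox.symm
  obtain ⟨R, hR⟩ := (Set.toFinite {R : Subgroup G | R ≤ Q ∧ X ≤ Subgroup.normalizer (R : Set G) ∧
    ¬ R ≤ Subgroup.centralizer (X : Set G)}).exists_minimal ⟨Q, le_rfl, hXQ, hne0⟩
  obtain ⟨hRQ, hXR, hRne⟩ := hR.1
  have hmin : ∀ R' : Subgroup G, R' ≤ R → X ≤ Subgroup.normalizer (R' : Set G) → R' ≠ R →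
      R' ≤ Subgroup.centralizer (X : Set G) := by
    intro R' h1 h2 h3
    by_contra h
    exact h3 (le_antisymm h1 (hR.2 ⟨h1.trans hRQ, h2, h⟩ h1))
  have hRp : IsPGroup q R := hQ.to_le hRQ
  obtain ⟨e, he⟩ := hRp.exists_card_eq
  have hcopX : (Nat.card X).Coprime (Nat.card R) := by
    rw [hX, he]; exact ((Nat.coprime_primes hr hq).2 hqr.symm).pow_right e
  have hsolv : Group.IsSolvable X ∨ Group.IsSolvable R := by
    left
    letI : CommGroup X := IsCyclic.commGroup
    exact Group.isSolvable_of_comm mul_comm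
  -- `[R, X] = R`
  have hgen : ⁅R, X⁆ = R := by
    have hle : ⁅R, X⁆ ≤ R := Subgroup.le_normalizer_iff_commutator_le_left.1 hXR
    by_contra h
    refine hRne (Subgroup.le_centralizer_iff.1 ?_)
    refine Agent.Coprime.le_centralizer_of_commutator_le_centralizer hXR hcopX hsolv ?_
    refine Subgroup.le_centralizer_iff.1 (hmin _ hle ?_ h)
    rw [Subgroup.commutator_comm]
    exact (Subgroup.le_normalizer_iff_commutator_le_right.2
      (Subgroup.commutator_mono le_rfl ((Subgroup.commutator_comm X R).le.trans hle)))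
  -- `D := [R, R]` is centralized by `X`
  have hcv := he
  have hDR : ⁅R, R⁆ ≤ R := Subgroup.commutator_le_self R
  have hXD : X ≤ Subgroup.normalizer ((⁅R, R⁆ : Subgroup G) : Set G) := fun y hy => by
    rw [Subgroup.mem_normalizer_iff_map_conj_eq, Subgroup.map_commutator,
      Subgroup.mem_normalizer_iff_map_conj_eq.1 (hXR hy)]
  haveI hnt : Nontrivial R := (Subgroup.nontrivial_iff_ne_bot R).2 fun e' => hRne (e' ▸ bot_le)
  have hDne : ⁅R, R⁆ ≠ R := by
    intro h
    haveI := hRp.isNilpotent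
    have h1 := Subgroup.map_subtype_commutator R
    rw [h] at h1
    have h2 : commutator R = ⊤ := Subgroup.map_injective R.subtype_injective
      (h1.trans (by rw [← MonoidHom.range_eq_map, Subgroup.range_subtype]))
    have h3 : ∀ k, derivedSeries R k = ⊤ := by
      intro k
      induction k with
      | zero => rfl
      | succ k ih => rw [derivedSeries_succ, ih]; exact h2
    obtain ⟨k, hk⟩ := (inferInstance : Group.IsSolvable R).solvable
    exact bot_ne_top (hk.symm.trans (h3 k))
  have hDX : ⁅R, R⁆ ≤ Subgroup.centralizer (X : Set G) := hmin _ hDR hXD hDne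
  let σ : MulAut R := Subgroup.normalizerMonoidHom R ⟨x, hXR hxX⟩
  have hσpow : ∀ k : ℕ, ∀ a : R, (((σ ^ k) a : R) : G) = x ^ k * a * (x ^ k)⁻¹ := fun k a => by
    rw [← map_pow]; rfl
  have hσ1 : ∀ a : R, ((σ a : R) : G) = x * a * x⁻¹ := fun a => by rw [← pow_one σ, hσpow, pow_one]
  -- the fixed points of `X` in `R` are exactly `D`
  have hfix : ∀ a : R, (a : G) ∈ Subgroup.centralizer (X : Set G) → a ∈ commutator R := by
    let T : R →* Abelianization R :=
      ∏ k ∈ Finset.range r, (Abelianization.of.comp (σ ^ k).toMonoidHom)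
    have hT : ∀ a : R, T a = ∏ k ∈ Finset.range r, Abelianization.of ((σ ^ k) a) := fun a => by
      simp [T]
    have hTσ : ∀ a : R, T (σ a) = T a := by
      intro a
      rw [hT, hT]
      have h1 := Finset.prod_range_succ' (fun k => Abelianization.of ((σ ^ k) a)) r
      have hσr : (σ ^ r) a = a := Subtype.ext (by rw [hσpow, ← hox, pow_orderOf_eq_one]; simp)
      rw [Finset.prod_range_succ, hσr, pow_zero, MulAut.one_apply] at h1
      rw [mul_right_cancel h1]
      exact Finset.prod_congr rfl fun k _ => by rw [pow_succ, MulAut.mul_apply]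
    have hTpow : ∀ k : ℕ, ∀ a : R, T ((σ ^ k) a) = T a := by
      intro k
      induction k with
      | zero => intro a; simp
      | succ k ih => intro a; rw [pow_succ', MulAut.mul_apply, hTσ, ih]
    have hTtop : ∀ a : R, T a = 1 := by
      have : R ≤ T.ker.map R.subtype := by
        conv_lhs => rw [← hgen]
        rw [Subgroup.commutator_le]
        intro g hg y hy
        obtain ⟨k, hk⟩ := (mem_powers_iff_mem_zpowers.2 (hxgen ⟨y, hy⟩) : (⟨y, hy⟩ : X) ∈ Submonoid.powers ⟨x, hxX⟩)
        refine ⟨(⟨g, hg⟩ : R) * ((σ ^ k) ⟨g, hg⟩)⁻¹, ?_, ?_⟩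
        · show T _ = 1
          rw [map_mul, map_inv, hTpow, mul_inv_cancel]
        · show g * (((σ ^ k) ⟨g, hg⟩ : R) : G)⁻¹ = ⁅g, y⁆
          rw [hσpow, show y = x ^ k from (congrArg Subtype.val hk).symm, commutatorElement_def]
          group
      intro a
      obtain ⟨b, hb, hba⟩ := this a.2
      rw [← show b = a from Subtype.ext hba]
      exact hb
    intro a ha
    have h1 : ∀ k : ℕ, (σ ^ k) a = a := fun k => Subtype.ext (by
      rw [hσpow, (Commute.pow_left (Subgroup.mem_centralizer_iff.1 ha x hxX) k : Commute (x ^ k) (a : G)).eq,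
        mul_inv_cancel_right])
    have h2 := hTtop a
    rw [hT, Finset.prod_congr rfl fun k _ => by rw [h1 k], Finset.prod_const, Finset.card_range, ← map_pow] at h2
    have h3 : a ^ r ∈ commutator R := by
      rw [← Abelianization.ker_of]; exact h2
    have hcop : (orderOf a).Coprime r := by
      refine Nat.Coprime.coprime_dvd_left (orderOf_dvd_natCard a) ?_
      rw [he]; exact ((Nat.coprime_primes hq hr).2 hqr).pow_left e
    obtain ⟨t, ht⟩ := exists_pow_eq_self_of_coprime hcop.symm
    rw [← ht]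
    exact pow_mem h3 t
  have hmemD : ∀ a : R, a ∈ commutator R ↔ (a : G) ∈ ⁅R, R⁆ := fun a => by
    rw [← Subgroup.map_subtype_commutator R]
    exact (Subgroup.mem_map_iff_mem R.subtype_injective).symm
  have hfixiff : ∀ a : R, σ a = a ↔ a ∈ commutator R := by
    intro a
    refine ⟨fun h => hfix a (hxC _ ?_), fun h => Subtype.ext ?_⟩
    · have := congrArg Subtype.val h
      rw [hσ1] at this
      calc x * (a : G) = x * a * x⁻¹ * x := by group
        _ = a * x := by rw [this]
    · rw [hσ1, Subgroup.mem_centralizer_iff.1 (hDX ((hmemD a).1 h)) x hxX, mul_inv_cancel_right]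
  -- `D` is central in `R`
  have hDc : commutator R ≤ Subgroup.center R := by
    have h1 : ⁅⁅R, X⁆, ⁅R, R⁆⁆ = ⊥ := by
      refine Subgroup.commutator_commutator_eq_bot_of_rotate ?_ ?_
      · rw [show ⁅X, ⁅R, R⁆⁆ = ⊥ from Subgroup.commutator_eq_bot_iff_le_centralizer.2 (Subgroup.le_centralizer_iff.1 hDX)]
        exact Subgroup.commutator_bot_left R
      · refine le_bot_iff.1 ((Subgroup.commutator_mono ((Subgroup.commutator_mono hDR le_rfl)) le_rfl).trans ?_)
        rw [Subgroup.commutator_eq_bot_iff_le_centralizer.2 hDX]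
    rw [hgen] at h1
    intro a ha
    refine Subgroup.mem_center_iff.2 fun g => Subtype.ext ?_
    exact (Subgroup.mem_centralizer_iff.1 (Subgroup.commutator_eq_bot_iff_le_centralizer.1 h1 g.2) a
      ((hmemD a).1 ha)).symm
  -- the representation
  let N := Subgroup.normalizer (V : Set G)
  let xN : N := ⟨x, hXV hxX⟩
  let π0 : R →* Module.End K (Fin m → K) := ρ.comp (Subgroup.inclusion (hRQ.trans hQV))
  have hπ1 : ∀ g : R, π0 g = 1 → g = 1 := fun g hg => by
    have h1 : (g : G) ∈ (X ⊔ Q) ⊓ Subgroup.centralizer (V : Set G) :=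
      ⟨Subgroup.mem_sup_right (hRQ g.2), (hρ1 _).1 hg⟩
    rw [hfaith, Subgroup.mem_bot] at h1
    exact Subtype.ext h1
  have hS0 : ρ xN ^ r = 1 := by
    rw [← map_pow, show xN ^ r = 1 from Subtype.ext (by rw [Subgroup.coe_pow, ← hox, pow_orderOf_eq_one]; rfl), map_one]
  have hSπ0 : ∀ a, ρ xN * π0 a = π0 (σ a) * ρ xN := fun a => by
    show ρ _ * ρ _ = ρ _ * ρ _
    rw [← map_mul, ← map_mul]
    congr 1
    refine Subtype.ext ?_
    show x * (a : G) = (σ a : G) * x
    rw [hσ1, inv_mul_cancel_right]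
  have hfixV : ∀ w, ρ xN w = w → w = 0 := hρ2 xN fun v hv hxv =>
    Subgroup.mem_bot.1 (hCV ▸ ⟨hv, hxC v hxv⟩ : v ∈ (⊥ : Subgroup G))
  have hqK : (q : K) ≠ 0 := hne q hq hpq
  have hrK : (r : K) ≠ 0 := hne r hr hpr
  have hσr : σ ^ r = 1 := MulEquiv.ext fun a => Subtype.ext (by rw [hσpow, ← hox, pow_orderOf_eq_one]; simp)
  have hpowfix : ∀ k, 0 < k → k < r → ∀ a, (σ ^ k) a = a → σ a = a := by
    intro k hk0 hkr a h
    obtain ⟨t, ht⟩ := exists_pow_eq_self_of_coprime (x := σ) (n := k)
      (Nat.Coprime.coprime_dvd_right (orderOf_dvd_of_pow_eq_one hσr)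
        ((hr.coprime_iff_not_dvd.2 fun hd => absurd (Nat.le_of_dvd hk0 hd) (not_le_of_gt hkr)).symm))
    rw [← ht]
    clear ht
    induction t with
    | zero => simp
    | succ t ih => rw [pow_succ, MulAut.mul_apply, h, ih]
  by_cases hab : commutator R = ⊥
  · -- abelian case
    have hcard : (Nat.card R : K) ≠ 0 := by rw [he, Nat.cast_pow]; exact pow_ne_zero _ hqK
    have hall : ∀ g : R, g = 1 := fun g => hπ1 g (Agent.HallHigman.rep_eq_one_of_semiregular π0 σ (ρ xN) hr.pos hS0
      hSπ0 hfixV (fun k hk0 hkr a ha => Subgroup.mem_bot.1 (hab ▸ (hfixiff a).1 (hpowfix k hk0 hkr a ha))) hcard g)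
    obtain ⟨g, hg⟩ := exists_ne (1 : R)
    exact hg (hall g)
  -- nonabelian case: choose `c ∈ D` and a minimal invariant subspace where `c` acts nontrivially
  obtain ⟨c, hc, hc1⟩ := (Subgroup.bot_or_exists_ne_one _).resolve_left hab
  have hexp : ∀ a ∈ commutator R, a ^ q = 1 := by
    let Z1 : Subgroup R :=
      { carrier := {a | a ∈ Subgroup.center R ∧ a ^ q = 1}
        one_mem' := ⟨one_mem _, one_pow q⟩
        mul_mem' := fun {a b} ha hb => ⟨mul_mem ha.1 hb.1, by
          rw [Commute.mul_pow ((Subgroup.mem_center_iff.1 hb.1 a)), ha.2, hb.2, one_mul]⟩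
        inv_mem' := fun {a} ha => ⟨inv_mem ha.1, by rw [inv_pow, ha.2, inv_one]⟩ }
    have hle : commutator R ≤ Z1 := by
      rw [commutator_def, Subgroup.commutator_le]
      intro a _ b _
      have hz : ∀ u v : R, ⁅u, v⁆ ∈ Subgroup.center R := fun u v =>
        hDc (Subgroup.commutator_mem_commutator (Subgroup.mem_top _) (Subgroup.mem_top _))
      refine ⟨hz a b, ?_⟩
      show ⁅a, b⁆ ^ q = 1
      have haq : a ^ q ∈ commutator R := by
        have h1 : a ^ q ∈ frattini R := Agent.PGroup.pow_mem_frattini hRp a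
        by_contra hcon
        have hR'' : (frattini R).map R.subtype ≠ R := by
          intro h
          have : frattini R = ⊤ := Subgroup.map_injective R.subtype_injective
            (h.trans (by rw [← MonoidHom.range_eq_map, Subgroup.range_subtype]))
          have h5 := frattini_nongenerating (K := (⊥ : Subgroup R)) (by rw [this, sup_top_eq])
          exact bot_ne_top h5
        have hXF : X ≤ Subgroup.normalizer (((frattini R).map R.subtype : Subgroup G) : Set G) := fun y hy => by
          refine Subgroup.mem_normalizer_fintype ?_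
          rintro _ ⟨k, hk, rfl⟩
          exact ⟨Subgroup.normalizerMonoidHom R ⟨y, hXR hy⟩ k,
            Subgroup.characteristic_iff_map_le.mp (inferInstance : (frattini R).Characteristic)
              (Subgroup.normalizerMonoidHom R ⟨y, hXR hy⟩) (Subgroup.mem_map_of_mem _ hk), rfl⟩
        exact hcon (hfix _ (hmin _ (Subgroup.map_subtype_le _) hXF hR'' ⟨_, h1, rfl⟩))
      rw [← Agent.PGroup.commutator_pow_left (hz a b)]
      exact commutatorElement_eq_one_iff_mul_comm.2 (Subgroup.mem_center_iff.1 (hDc haq) b).symm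
    intro a ha
    exact (hle ha).2
  set U : Module.End K (Fin m → K) := π0 c with hU
  have hUq : U ^ q = 1 := by rw [hU, ← map_pow, hexp c hc, map_one]
  have hU1 : U ≠ 1 := fun e' => hc1 (hπ1 c e')
  haveI : NeZero (q : K) := ⟨hqK⟩
  haveI : NeZero (r : K) := ⟨hrK⟩
  obtain ⟨ζq, hζq⟩ := HasEnoughRootsOfUnity.exists_primitiveRoot K q
  obtain ⟨ζr, hζr⟩ := HasEnoughRootsOfUnity.exists_primitiveRoot K r
  obtain ⟨i, hi0, hiW⟩ := Agent.HallHigman.exists_eigen_ne hζq hqK hq.pos hUq hU1
  set lc := ζq ^ (i : ℕ) with hlc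
  have hlc1 : lc ≠ 1 := hζq.pow_ne_one_of_pos_of_lt hi0 i.2
  let Inv : Submodule K (Fin m → K) → Prop := fun W => (∀ g : R, ∀ w ∈ W, π0 g w ∈ W) ∧ ∀ w ∈ W, ρ xN w ∈ W
  have hcommc : ∀ g : R, Commute U (π0 g) := fun g => by
    rw [hU, Commute, SemiconjBy, ← map_mul, ← map_mul, Subgroup.mem_center_iff.1 (hDc hc) g]
  have hσc : ∀ d ∈ commutator R, σ d = d := fun d hd => (hfixiff d).2 hd
  have hex : ∃ d, ∃ W : Submodule K (Fin m → K), W ≠ ⊥ ∧ Inv W ∧ W ≤ Module.End.eigenspace U lc ∧
      Module.finrank K W = d := by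
    refine ⟨_, _, hiW, ⟨fun g w hw => ?_, fun w hw => ?_⟩, le_rfl, rfl⟩
    · rw [Module.End.mem_eigenspace_iff] at hw ⊢
      rw [← Module.End.mul_apply, (hcommc g).eq, Module.End.mul_apply, hw, map_smul]
    · rw [Module.End.mem_eigenspace_iff] at hw ⊢
      have h1 : U * ρ xN = ρ xN * U := by
        rw [hU, hSπ0, hσc c hc]
      rw [← Module.End.mul_apply, h1, Module.End.mul_apply, hw, map_smul]
  obtain ⟨W, hW0, hWinv, hWle, hWd⟩ := Nat.find_spec hex
  haveI : Nontrivial W := Submodule.nontrivial_iff_ne_bot.2 hW0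
  let π : R →* Module.End K W :=
    { toFun := fun g => (π0 g).restrict (hWinv.1 g)
      map_one' := LinearMap.ext fun v => Subtype.ext (by simp)
      map_mul' := fun a b => LinearMap.ext fun v => Subtype.ext (by simp) }
  let S : Module.End K W := (ρ xN).restrict hWinv.2
  have hSπ : ∀ a, S * π a = π (σ a) * S := fun a => LinearMap.ext fun w => Subtype.ext (by
    show ρ xN (π0 a (w : Fin m → K)) = π0 (σ a) (ρ xN (w : Fin m → K))
    rw [← Module.End.mul_apply, ← Module.End.mul_apply, hSπ0])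
  have hscal : ∀ d : commutator R, ∃! a : K, π (d : R) = a • 1 := by
    intro d
    obtain ⟨a, ha⟩ := Module.End.exists_eigenvalue (π (d : R))
    refine ⟨a, LinearMap.ext fun v => ?_, fun b hb => ?_⟩
    · set E := (Module.End.eigenspace (π (d : R)) a).map W.subtype with hE
      have hEinv : Inv E := by
        refine ⟨fun g w hw => ?_, fun w hw => ?_⟩
        · obtain ⟨u, hu, rfl⟩ := hw
          refine ⟨π g u, ?_, rfl⟩
          rw [SetLike.mem_coe, Module.End.mem_eigenspace_iff] at hu ⊢
          rw [← Module.End.mul_apply, ← map_mul, ← Subgroup.mem_center_iff.1 (hDc d.2) g, map_mul,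
            Module.End.mul_apply, hu, map_smul]
        · obtain ⟨u, hu, rfl⟩ := hw
          refine ⟨S u, ?_, rfl⟩
          rw [SetLike.mem_coe, Module.End.mem_eigenspace_iff] at hu ⊢
          rw [← Module.End.mul_apply, show π (d : R) * S = S * π (d : R) by rw [hSπ, hσc d d.2],
            Module.End.mul_apply, hu, map_smul]
      have hE0 : E ≠ ⊥ := by
        rw [hE]
        exact fun h => ha (Submodule.map_injective_of_injective W.subtype_injective (h.trans (Submodule.map_bot _).symm))
      have hEW : E = W := by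
        refine Submodule.eq_of_le_of_finrank_le (Submodule.map_subtype_le _ _) ?_
        rw [hWd]
        exact Nat.find_min' hex ⟨E, hE0, hEinv, (Submodule.map_subtype_le _ _).trans hWle, rfl⟩
      obtain ⟨u, hu, huv⟩ := (hEW.symm ▸ v.2 : (v : Fin m → K) ∈ E)
      rw [← show u = v from Subtype.ext huv]
      exact Module.End.mem_eigenspace_iff.1 hu
    · obtain ⟨v, hv, hv0⟩ := Submodule.exists_mem_ne_zero_of_ne_bot ha
      rw [Module.End.mem_eigenspace_iff, hb] at hv
      exact smul_left_injective K hv0 hv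
  choose lam hlam hlamu using hscal
  have hlamc : lam ⟨c, hc⟩ = lc := (hlamu ⟨c, hc⟩ lc (LinearMap.ext fun w => Subtype.ext
    (Module.End.mem_eigenspace_iff.1 (hWle w.2)))).symm
  -- the kernel and the extraspecial quotient
  set M := π.ker with hM
  have hker : ∀ g, g ∈ M ↔ π g = 1 := fun g => MonoidHom.mem_ker
  have hMσ : ∀ g, π g = 1 → π (σ g) = 1 := fun g hg => by
    have h1 := hSπ g
    rw [hg, mul_one] at h1
    have h2 : S * S ^ (r - 1) = 1 := by
      rw [← pow_succ', Nat.sub_add_cancel hr.one_le, Module.End.pow_restrict]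
      exact LinearMap.ext fun w => Subtype.ext (LinearMap.congr_fun hS0 (w : Fin m → K))
    rw [← mul_one (π (σ g)), ← h2, ← mul_assoc, ← h1]
  have hMmap : M.map (σ : R →* R) = M := by
    refine Subgroup.eq_of_le_of_card_ge ?_ (Subgroup.card_map_of_injective σ.injective).ge
    rintro _ ⟨g, hg, rfl⟩
    exact (hker _).2 (hMσ g ((hker _).1 hg))
  let σb : MulAut (R ⧸ M) := QuotientGroup.congr M M σ hMmap
  have hσb : ∀ g : R, σb (g : R ⧸ M) = ((σ g : R) : R ⧸ M) := fun g => rfl
  have hcentre : ∀ g : R, (g : R ⧸ M) ∈ Subgroup.center (R ⧸ M) → g ∈ commutator R := by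
    intro g hg
    set C := (Subgroup.center (R ⧸ M)).comap (QuotientGroup.mk' M) with hC
    have hgC : g ∈ C := hg
    by_contra hgD
    have hCx : ∀ y ∈ X, ∀ a : R, (hy : y * a * y⁻¹ ∈ R) → a ∈ C → (⟨_, hy⟩ : R) ∈ C := by
      intro y hy a hay haC
      obtain ⟨k, hk⟩ := (mem_powers_iff_mem_zpowers.2 (hxgen ⟨y, hy⟩) : (⟨y, hy⟩ : X) ∈ Submonoid.powers ⟨x, hxX⟩)
      obtain rfl : y = x ^ k := (congrArg Subtype.val hk).symm
      have hy' : (⟨_, hay⟩ : R) = (σ ^ k) a := Subtype.ext (by
        rw [hσpow])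
      rw [hy']
      clear hy' hk hay hy
      induction k with
      | zero => simpa using haC
      | succ k ih =>
        rw [pow_succ', MulAut.mul_apply]
        show ((σ _ : R) : R ⧸ M) ∈ Subgroup.center _
        rw [← hσb]
        exact Subgroup.mem_center_iff.2 fun u => σb.symm.injective (by
          rw [map_mul, map_mul, MulEquiv.symm_apply_apply]
          exact Subgroup.mem_center_iff.1 ih _)
    have hXC : X ≤ Subgroup.normalizer ((C.map R.subtype : Subgroup G) : Set G) := fun y hy => by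
      refine Subgroup.mem_normalizer_fintype ?_
      rintro _ ⟨a, ha, rfl⟩
      exact ⟨⟨_, (Subgroup.mem_normalizer_iff.1 (hXR hy) _).1 a.2⟩, hCx y hy a _ ha, rfl⟩
    have hCtop : C = ⊤ := by
      by_contra hne'
      have h1 := hmin _ (Subgroup.map_subtype_le C) hXC (fun h => hne' (Subgroup.map_injective R.subtype_injective
        (h.trans (by rw [← MonoidHom.range_eq_map, Subgroup.range_subtype]))))
      exact hgD (hfix g (h1 ⟨g, hgC, rfl⟩))
    have hcM : c ∈ M := by
      have h4 : commutator R ≤ M := by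
        rw [commutator_def, Subgroup.commutator_le]
        intro a _ b _
        rw [← QuotientGroup.eq_one_iff]
        show QuotientGroup.mk' M ⁅a, b⁆ = 1
        rw [map_commutatorElement, commutatorElement_eq_one_iff_mul_comm]
        exact Subgroup.mem_center_iff.1 (hCtop ▸ Subgroup.mem_top b : b ∈ C) _
      exact h4 hc
    have h2 := hlam ⟨c, hc⟩
    rw [hlamc, (hker c).1 hcM] at h2
    obtain ⟨v, hv⟩ := exists_ne (0 : W)
    have h3 : (1 : K) • v = lc • v := by
      rw [one_smul]; exact LinearMap.congr_fun h2 v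
    exact hlc1 (smul_left_injective K hv h3).symm
  have hZeq : Subgroup.center (R ⧸ M) = (commutator R).map (QuotientGroup.mk' M) := by
    refine le_antisymm (fun u hu => ?_) ?_
    · obtain ⟨g, rfl⟩ := QuotientGroup.mk_surjective u
      exact ⟨g, hcentre g hu, rfl⟩
    · rintro _ ⟨d, hd, rfl⟩
      refine Subgroup.mem_center_iff.2 fun u => ?_
      obtain ⟨g, rfl⟩ := QuotientGroup.mk_surjective u
      show QuotientGroup.mk' M g * QuotientGroup.mk' M d = QuotientGroup.mk' M d * QuotientGroup.mk' M g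
      rw [← map_mul, Subgroup.mem_center_iff.1 (hDc hd) g, map_mul]
  have hQbp : IsPGroup q (R ⧸ M) := hRp.to_quotient M
  have hΦ : frattini (R ⧸ M) = Subgroup.center (R ⧸ M) := by
    rw [hZeq, ← Agent.PGroup.map_frattini hRp _ (QuotientGroup.mk'_surjective M)]
    congr 1
    refine le_antisymm (Agent.PGroup.frattini_le (p := q) le_rfl fun a => ?_) (Agent.PGroup.commutator_le_frattini hRp)
    by_contra hcon
    have h1 : a ^ q ∈ frattini R := Agent.PGroup.pow_mem_frattini hRp a
    have hR'' : (frattini R).map R.subtype ≠ R := by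
      intro h
      have : frattini R = ⊤ := Subgroup.map_injective R.subtype_injective
        (h.trans (by rw [← MonoidHom.range_eq_map, Subgroup.range_subtype]))
      exact bot_ne_top (frattini_nongenerating (K := (⊥ : Subgroup R)) (by rw [this, sup_top_eq]))
    have hXF : X ≤ Subgroup.normalizer (((frattini R).map R.subtype : Subgroup G) : Set G) := fun y hy => by
      refine Subgroup.mem_normalizer_fintype ?_
      rintro _ ⟨k, hk, rfl⟩
      exact ⟨Subgroup.normalizerMonoidHom R ⟨y, hXR hy⟩ k,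
        Subgroup.characteristic_iff_map_le.mp (inferInstance : (frattini R).Characteristic)
          (Subgroup.normalizerMonoidHom R ⟨y, hXR hy⟩) (Subgroup.mem_map_of_mem _ hk), rfl⟩
    exact hcon (hfix _ (hmin _ (Subgroup.map_subtype_le _) hXF hR'' ⟨_, h1, rfl⟩))
  have hder : commutator (R ⧸ M) = Subgroup.center (R ⧸ M) := by
    rw [hZeq, commutator_def, commutator_def, Subgroup.map_commutator,
      Subgroup.map_top_of_surjective _ (QuotientGroup.mk'_surjective M)]
  let πb : R ⧸ M →* Module.End K W := QuotientGroup.lift M π (le_of_eq hM)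
  have hπb : ∀ g : R, πb (g : R ⧸ M) = π g := fun g => rfl
  have hscb : ∀ z : Subgroup.center (R ⧸ M), ∃! a : K, πb z = a • 1 := by
    intro z
    obtain ⟨d, hd, hdz⟩ := (hZeq ▸ z.2 : (z : R ⧸ M) ∈ (commutator R).map (QuotientGroup.mk' M))
    have hz' : (z : R ⧸ M) = (d : R ⧸ M) := hdz.symm
    exact ⟨lam ⟨d, hd⟩, by rw [hz', hπb]; exact hlam ⟨d, hd⟩,
      fun b hb => hlamu ⟨d, hd⟩ b (by show π d = b • 1; rw [← hπb, ← hz']; exact hb)⟩
  choose lamb hlamb hlambu using hscb
  let lamh : Subgroup.center (R ⧸ M) →* K :=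
    { toFun := lamb
      map_one' := (hlambu 1 1 (by simp)).symm
      map_mul' := fun a b => (hlambu _ _ (by
        rw [Subgroup.coe_mul, map_mul, hlamb a, hlamb b, smul_mul_smul_comm, mul_one])).symm }
  have hlinj : ∀ z, lamh z = 1 → z = 1 := by
    intro z hz
    obtain ⟨g, hg⟩ := QuotientGroup.mk_surjective (z : R ⧸ M)
    refine Subtype.ext ?_
    rw [← hg]
    refine (QuotientGroup.eq_one_iff g).2 ((hker g).2 ?_)
    rw [← hπb, hg, hlamb z]
    change lamb z = 1 at hz
    rw [hz, one_smul]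
  have hzq : ∀ z : Subgroup.center (R ⧸ M), z ^ q = 1 := fun z => by
    obtain ⟨d, hd, hdz⟩ := (hZeq ▸ z.2 : (z : R ⧸ M) ∈ (commutator R).map (QuotientGroup.mk' M))
    refine Subtype.ext ?_
    rw [Subgroup.coe_pow, ← hdz, ← map_pow, hexp d hd, map_one]
    rfl
  have hcardZ : Nat.card (Subgroup.center (R ⧸ M)) = q := by
    have hinj : Function.Injective (lamh : _ → K) := (injective_iff_map_eq_one lamh).2 hlinj
    have hcyc : IsCyclic (Subgroup.center (R ⧸ M)) := isCyclic_of_subgroup_isDomain lamh hinj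
    have hne1 : Subgroup.center (R ⧸ M) ≠ ⊥ := fun hb => by
      have h1 : (c : R ⧸ M) ∈ (⊥ : Subgroup (R ⧸ M)) := hb ▸ hZeq.symm ▸ ⟨c, hc, rfl⟩
      rw [Subgroup.mem_bot, QuotientGroup.eq_one_iff, hker] at h1
      have h2 := hlam ⟨c, hc⟩
      rw [hlamc, h1] at h2
      obtain ⟨v, hv⟩ := exists_ne (0 : W)
      have h3 : (1 : K) • v = lc • v := by rw [one_smul]; exact LinearMap.congr_fun h2 v
      exact hlc1 (smul_left_injective K hv h3).symm
    obtain ⟨g, hg⟩ := hcyc.exists_generator
    rw [← orderOf_eq_card_of_forall_mem_zpowers hg]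
    refine orderOf_eq_prime (hzq g) fun hg1 => hne1 ((Subgroup.eq_bot_iff_forall _).2 fun u hu => ?_)
    obtain ⟨k, hk⟩ := Subgroup.mem_zpowers_iff.1 (hg ⟨u, hu⟩)
    rw [hg1, one_zpow] at hk
    exact (congrArg Subtype.val hk).symm
  have hext : Cfsg.IsExtraspecial q (R ⧸ M) := ⟨⟨hQbp, hΦ, hder⟩, hcardZ⟩
  have hr0 : r.Prime := hr
  obtain ⟨hq2, n, hn, -⟩ := Agent.HallHigman.eq_pow_add_one_of_scalar hr hext hqK hrK hζr πb lamh hlamb hlinj σb
    (MulEquiv.ext fun u => by
      obtain ⟨g, rfl⟩ := QuotientGroup.mk_surjective u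
      have : ∀ k : ℕ, (σb ^ k) (g : R ⧸ M) = (((σ ^ k) g : R) : R ⧸ M) := by
        intro k
        induction k with
        | zero => rfl
        | succ k ih => rw [pow_succ', pow_succ', MulAut.mul_apply, ih, hσb, MulAut.mul_apply]
      rw [this, hσr]; rfl)
    (fun z hz => by
      obtain ⟨d, hd, rfl⟩ := (hZeq ▸ hz : z ∈ (commutator R).map (QuotientGroup.mk' M))
      show σb (d : R ⧸ M) = (d : R ⧸ M)
      rw [hσb, hσc d hd])
    (fun u hu => by
      obtain ⟨g, rfl⟩ := QuotientGroup.mk_surjective u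
      rw [hσb, ← QuotientGroup.mk_inv, ← QuotientGroup.mk_mul] at hu
      have hz := hcentre _ hu
      rw [hZeq]
      refine ⟨g, hfix g (hxC _ ?_), rfl⟩
      set d := σ g * g⁻¹ with hd
      have h1 : x * (g : G) * x⁻¹ = (d : G) * (g : G) := by
        rw [← hσ1, hd]; simp
      refine (Agent.Coprime.commute_of_translate h1 (Subgroup.mem_centralizer_iff.1 (hDX ((hmemD d).1 hz)) x hxX) ?_).eq
      rw [hox, Subgroup.orderOf_coe]
      exact ((Nat.coprime_primes hr hq).2 hqr.symm).coprime_dvd_right (orderOf_dvd_of_pow_eq_one (hexp d hz)))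
    S (by rw [Module.End.pow_restrict]; exact LinearMap.ext fun w => Subtype.ext (LinearMap.congr_fun hS0 (w : Fin m → K)))
    (fun u => by
      obtain ⟨g, rfl⟩ := QuotientGroup.mk_surjective u
      rw [hσb, hπb, hπb]; exact hSπ g)
    (fun w hw => Subtype.ext (hfixV w (congrArg Subtype.val hw)))
  -- the exceptional case: `Q` is abelian
  have hQab := hexc hq2 ⟨n, hn⟩
  refine hab ((commutator_eq_bot_iff_center_eq_top R).2 (eq_top_iff.2 fun a _ => Subgroup.mem_center_iff.2 fun b => ?_))
  exact Subtype.ext (congrArg (fun t : Q => (t : G)) (hQab.is_comm.comm ⟨(b : G), hRQ b.2⟩ ⟨(a : G), hRQ a.2⟩))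

end Cfsg.Agent.S3765
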