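import Cfsg.Statements.S3769
import Mathlib.GroupTheory.SemidirectProduct
import Cfsg.Agent.S3765
import Cfsg.Agent.Lib.Coprime.Sylow


set_option autoImplicit false
open Cfsg

namespace Cfsg.Agent.S3769

open scoped commutatorElement

/-- Let G and V be subgroups of a finite group with G solvable of odd order normalizing V, V an elementary abelian ℓ-group for a prime ℓ not dividing the order of G, and suppose G has a normal Hall subgroup K with a complement R of prime order. If C_V(R) = 1, then [R, K] centralizes V. -/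
theorem result {X : Type*} [Group X] [Finite X] (G : Subgroup X) (hsolv : Group.IsSolvable G) (hodd : Odd (Nat.card G)) (V : Subgroup X) {ℓ : ℕ} (hℓ : ℓ.Prime) (hV : Cfsg.IsElementaryAbelian ℓ V) (hℓG : ¬ ℓ ∣ Nat.card G) (hGV : G ≤ Subgroup.normalizer (V : Set X)) (K R : Subgroup X) (hKG : K ≤ G) (hKn : G ≤ Subgroup.normalizer (K : Set X)) (hHall : (Nat.card K).Coprime (K.relIndex G)) (hRG : R ≤ G) (hR : (Nat.card R).Prime) (hKR : K ⊓ R = ⊥) (hKRG : K ⊔ R = G) (hCV : V ⊓ Subgroup.centralizer (R : Set X) = ⊥) : ⁅R, K⁆ ≤ Subgroup.centralizer (V : Set X) := by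
  classical
  haveI := Fact.mk hℓ
  set r := Nat.card R with hrdef
  haveI := Fact.mk hR
  let N := Subgroup.normalizer (V : Set X)
  let f : N →* MulAut V := V.normalizerMonoidHom
  let A := f.range
  let fA : N →* A := f.rangeRestrict
  have hf1 : ∀ g : N, fA g = 1 ↔ (g : X) ∈ Subgroup.centralizer (V : Set X) := by
    intro g
    rw [← MonoidHom.mem_ker, MonoidHom.ker_rangeRestrict, Subgroup.normalizerMonoidHom_ker]
    rfl
  have hcomm : ∀ a b : X, ∀ (ha : a ∈ N) (hb : b ∈ N),
      ⁅a, b⁆ ∈ Subgroup.centralizer (V : Set X) ↔ fA ⟨a, ha⟩ * fA ⟨b, hb⟩ = fA ⟨b, hb⟩ * fA ⟨a, ha⟩ := by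
    intro a b ha hb
    rw [← commutatorElement_eq_one_iff_mul_comm, ← map_commutatorElement, hf1]
    rfl
  have hRN : R ≤ N := hRG.trans hGV
  have hKN : K ≤ N := hKG.trans hGV
  have hidx : r = K.relIndex G := by
    have hnor : (K.subgroupOf G).Normal := (Subgroup.normal_subgroupOf_iff_le_normalizer hKG).2 hKn
    have h1 : K.relIndex G = K.relIndex R := by
      have h2 := Subgroup.relIndex_sup_right (H := R.subgroupOf G) (K := K.subgroupOf G)
      rw [← Subgroup.subgroupOf_sup hRG hKG, sup_comm, hKRG, Subgroup.relIndex_subgroupOf le_rfl,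
        Subgroup.relIndex_subgroupOf hRG] at h2
      exact h2
    rw [h1]
    unfold Subgroup.relIndex
    rw [show K.subgroupOf R = ⊥ from Subgroup.subgroupOf_eq_bot.2 (disjoint_iff.2 hKR), Subgroup.index_bot]
  have hcopR : (Nat.card R).Coprime (Nat.card K) := (hidx.symm ▸ hHall).symm
  have hsR : Group.IsSolvable R := by
    haveI : IsCyclic R := isCyclic_of_prime_card (p := r) rfl
    letI : CommGroup R := IsCyclic.commGroup
    exact Group.isSolvable_of_comm mul_comm
  -- the elements of `K` which commute with `R` modulo `C(V)`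
  let L : Subgroup N := (Subgroup.centralizer (((R.subgroupOf N).map fA : Subgroup A) : Set A)).comap fA
  suffices hKL : K ≤ L.map N.subtype by
    rw [Subgroup.commutator_comm, Subgroup.commutator_le]
    intro k hk y hy
    obtain ⟨k', hk', rfl⟩ := hKL hk
    refine (hcomm _ _ k'.2 (hRN hy)).2 ?_
    exact (Subgroup.mem_centralizer_iff.1 hk' _ ⟨⟨y, hRN hy⟩, hy, rfl⟩).symm
  have hcard : ∀ q : ℕ, q.Prime → ∀ Q : Subgroup X, Q ≤ K → IsPGroup q Q → q ∣ Nat.card K →
      R ≤ Subgroup.normalizer (Q : Set X) → Q ≤ L.map N.subtype := by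
    intro q hq Q hQK hQ hqK hRQ
    haveI := Fact.mk hq
    rcases eq_or_ne V ⊥ with hV0 | hV0
    · intro k hk
      refine ⟨⟨k, hKN (hQK hk)⟩, Subgroup.mem_centralizer_iff.2 ?_, rfl⟩
      rintro _ ⟨y, -, rfl⟩
      have : ∀ g : N, fA g = 1 := fun g => (hf1 g).2 (Subgroup.mem_centralizer_iff.2 fun v hv => by
        rw [hV0] at hv
        rw [Subgroup.mem_bot.1 hv, one_mul, mul_one])
      rw [this y, this ⟨k, hKN (hQK hk)⟩]
    by_contra hcon
    -- apply the coprime fixed point theorem in `V ⋊ A`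
    let Qa : Subgroup A := (Q.subgroupOf N).map fA
    let Ra : Subgroup A := (R.subgroupOf N).map fA
    have hnot : ¬ Qa ≤ Subgroup.centralizer (Ra : Set A) := fun h => hcon fun k hk =>
      ⟨⟨k, hKN (hQK hk)⟩, h ⟨⟨k, hKN (hQK hk)⟩, hk, rfl⟩, rfl⟩
    let H := V ⋊[A.subtype] A
    haveI : Finite H := Finite.of_equiv _ SemidirectProduct.equivProd.symm
    let inl : V →* H := SemidirectProduct.inl
    let inr : A →* H := SemidirectProduct.inr
    have hinr : Function.Injective inr := SemidirectProduct.inr_injective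
    have hnorm : ∀ S : Subgroup A, S.map inr ≤ Subgroup.normalizer ((inl.range : Subgroup H) : Set H) := by
      intro S
      rintro _ ⟨a, _, rfl⟩
      refine Subgroup.mem_normalizer_fintype ?_
      rintro _ ⟨v, rfl⟩
      refine ⟨(a : MulAut V) v, ?_⟩
      show SemidirectProduct.inl _ = SemidirectProduct.inr a * SemidirectProduct.inl v * (SemidirectProduct.inr a)⁻¹
      rw [← map_inv, ← SemidirectProduct.inl_aut]
      rfl
    have hrq : q ≠ r := fun e => hR.ne_one (Nat.eq_one_of_dvd_coprimes hcopR dvd_rfl (e ▸ hqK))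
    have hℓq : ℓ ≠ q := fun e => hℓG (e ▸ hqK.trans (Subgroup.card_dvd_of_le hKG))
    have hℓr : ℓ ≠ r := fun e => hℓG (e ▸ Subgroup.card_dvd_of_le hRG)
    have hRac : Nat.card (Ra.map inr) = r := by
      rw [Subgroup.card_map_of_injective hinr]
      have hd : Nat.card Ra ∣ r := by
        refine (Subgroup.card_map_dvd (R.subgroupOf N) fA).trans ?_
        rw [Nat.card_congr (Subgroup.subgroupOfEquivOfLe hRN).toEquiv]
      refine ((Nat.dvd_prime hR).1 hd).resolve_left fun h1 => hnot ?_
      rw [Subgroup.card_eq_one.1 h1]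
      intro k _
      exact Subgroup.mem_centralizer_iff.2 fun y hy => by rw [Subgroup.mem_bot.1 hy, one_mul, mul_one]
    have hVbot : (inl.range : Subgroup H) ⊓ Subgroup.centralizer ((Ra.map inr : Subgroup H) : Set H) = ⊥ := by
      refine (Subgroup.eq_bot_iff_forall _).2 ?_
      rintro _ ⟨⟨v, rfl⟩, hv⟩
      have h1 : (v : X) ∈ V ⊓ Subgroup.centralizer (R : Set X) := by
        refine ⟨v.2, Subgroup.mem_centralizer_iff.2 fun y hy => ?_⟩
        have h2 := Subgroup.mem_centralizer_iff.1 hv (inr (fA ⟨y, hRN hy⟩)) ⟨_, ⟨⟨y, hRN hy⟩, hy, rfl⟩, rfl⟩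
        have h3 : SemidirectProduct.inl ((fA ⟨y, hRN hy⟩ : MulAut V) v) = (SemidirectProduct.inl v : H) := by
          rw [show ((fA ⟨y, hRN hy⟩ : MulAut V)) = A.subtype (fA ⟨y, hRN hy⟩) from rfl, SemidirectProduct.inl_aut]
          show inr _ * inl v * inr _ = inl v
          rw [h2, mul_assoc, ← map_mul, mul_inv_cancel, map_one, mul_one]
        have h4 : y * (v : X) * y⁻¹ = v := congrArg Subtype.val (SemidirectProduct.inl_injective h3)
        calc y * (v : X) = y * v * y⁻¹ * y := by group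
          _ = v * y := by rw [h4]
      rw [hCV, Subgroup.mem_bot] at h1
      rw [show v = 1 from Subtype.ext h1, map_one]
    refine Cfsg.Agent.S3765.result hℓ hq hR hℓq hℓr hrq (Ra.map inr) (Qa.map inr) inl.range hRac
      (((hQ.comap_subtype).map fA).map inr) ?_ ?_ ?_ ?_ (hnorm Ra) (hnorm Qa) ?_ ?_ hVbot
    · intro y hy
      obtain ⟨a, ⟨y', hy', rfl⟩, rfl⟩ := hy
      refine Subgroup.mem_normalizer_fintype ?_
      rintro _ ⟨_, ⟨k, hk, rfl⟩, rfl⟩
      refine ⟨fA (y' * k * y'⁻¹), ⟨y' * k * y'⁻¹, ?_, rfl⟩, by simp [map_mul, map_inv]⟩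
      exact (Subgroup.mem_normalizer_iff.1 (hRQ hy') _).1 hk
    · by_contra hne
      obtain ⟨g, hg, hg1⟩ := (Subgroup.bot_or_exists_ne_one _).resolve_left hne
      haveI : Fact (Nat.card (Ra.map inr)).Prime := ⟨hRac ▸ hR⟩
      have htop : ((Ra.map inr) ⊓ Subgroup.centralizer ((Qa.map inr : Subgroup H) : Set H)) = Ra.map inr := by
        refine Subgroup.eq_of_le_of_card_ge inf_le_left ?_
        have hd := Subgroup.card_dvd_of_le (inf_le_left : (Ra.map inr) ⊓ Subgroup.centralizer ((Qa.map inr : Subgroup H) : Set H) ≤ Ra.map inr)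
        rcases (Nat.dvd_prime Fact.out).1 hd with h | h
        · exact absurd (Subgroup.card_eq_one.1 h) hne
        · exact h.ge
      refine hnot fun k hk => Subgroup.mem_centralizer_iff.2 fun y hy => hinr ?_
      rw [map_mul, map_mul]
      exact (Subgroup.mem_centralizer_iff.1 (htop.symm ▸ Subgroup.mem_map_of_mem inr hy :
        inr y ∈ (Ra.map inr) ⊓ Subgroup.centralizer ((Qa.map inr : Subgroup H) : Set H)).2 _ (Subgroup.mem_map_of_mem inr hk)).symm
    · refine ⟨⟨⟨?_⟩⟩, ?_⟩
      · rintro ⟨_, v, rfl⟩ ⟨_, w, rfl⟩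
        exact Subtype.ext (by show inl v * inl w = inl w * inl v; rw [← map_mul, ← map_mul, hV.1.is_comm.comm v w])
      · rintro _ ⟨v, rfl⟩
        rw [← map_pow, show v ^ ℓ = 1 from Subtype.ext (hV.2 _ v.2), map_one]
    · intro h
      refine hV0 ((Subgroup.eq_bot_iff_forall _).2 fun v hv => ?_)
      have : inl ⟨v, hv⟩ ∈ (⊥ : Subgroup H) := h ▸ ⟨⟨v, hv⟩, rfl⟩
      exact congrArg Subtype.val (SemidirectProduct.inl_injective ((Subgroup.mem_bot.1 this).trans (map_one inl).symm))
    · refine (Subgroup.eq_bot_iff_forall _).2 fun h hh => ?_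
      obtain ⟨hh1, hh2⟩ := hh
      obtain ⟨a, -, rfl⟩ := (sup_le (Subgroup.map_mono le_top) (Subgroup.map_mono le_top) : _ ≤ (⊤ : Subgroup A).map inr) hh1
      rw [show a = 1 from Subtype.ext (MulEquiv.ext fun v => ?_), map_one]
      refine SemidirectProduct.inl_injective (φ := A.subtype) ?_
      rw [show ((a : MulAut V)) = A.subtype a from rfl, SemidirectProduct.inl_aut]
      show inr a * inl v * inr a⁻¹ = inl v
      rw [(Subgroup.mem_centralizer_iff.1 hh2 (inl v) ⟨v, rfl⟩).symm, mul_assoc, ← map_mul, mul_inv_cancel, map_one, mul_one]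
    · intro hq2
      exfalso
      subst hq2
      exact Nat.not_even_iff_odd.2 hodd (even_iff_two_dvd.2 (hqK.trans (Subgroup.card_dvd_of_le hKG)))
  -- the invariant Sylow subgroups generate `K`
  have hle : L.map N.subtype ⊓ K = K := by
    refine Subgroup.eq_of_le_of_card_ge inf_le_right (Nat.le_of_dvd Nat.card_pos ?_)
    rw [← Nat.factorization_prime_le_iff_dvd Nat.card_pos.ne' Nat.card_pos.ne']
    intro q hq
    haveI := Fact.mk hq
    by_cases hqK : q ∣ Nat.card K
    swap
    · rw [Nat.factorization_eq_zero_of_not_dvd hqK]; exact Nat.zero_le _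
    obtain ⟨P, hP⟩ := Cfsg.Agent.Coprime.exists_invariant_sylow (A := R) (K := K) (hRG.trans hKn) hcopR (Or.inl hsR) q
    set Q := (P : Subgroup K).map K.subtype with hQ
    have hQc : Nat.card Q = q ^ (Nat.card K).factorization q := by
      rw [hQ, Subgroup.card_map_of_injective K.subtype_injective]; exact P.card_eq_multiplicity
    have hQle : Q ≤ L.map N.subtype ⊓ K :=
      le_inf (hcard q hq Q (Subgroup.map_subtype_le _) (P.2.map _) hqK hP) (Subgroup.map_subtype_le _)
    have := Subgroup.card_dvd_of_le hQle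
    rw [hQc] at this
    exact (hq.pow_dvd_iff_le_factorization Nat.card_pos.ne').1 this
  exact inf_eq_right.1 hle

end Cfsg.Agent.S3769
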