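import Cfsg.Statements.S1445
import Cfsg.Agent.S3766
import Cfsg.Agent.S3769
import Cfsg.Agent.Lib.Coprime.Action
import Cfsg.Agent.Lib.Coprime.Commutator
import Cfsg.Agent.Lib.Coprime.Quotient
import Cfsg.Agent.Lib.Components.Fitting
import Cfsg.Agent.Lib.Components.Subnormal
import Cfsg.Agent.Lib.PCore.Basic

set_option autoImplicit false
open Cfsg

namespace Cfsg.Agent.S1445

open scoped commutatorElement
open Subgroup SemidirectProduct

/-- An element of prime order fixed-point-free on an elementary abelian `l`-group commutes with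
every `p`-group (`p ≠ l`) of automorphisms it normalises, odd orders. -/
theorem commute_of_pgroup {V : Type*} [Group V] [Finite V] {l q : ℕ} (hl : l.Prime) (hq : q.Prime)
    (hql : q ≠ l) (hVc : ∀ a b : V, a * b = b * a) (hVe : ∀ a : V, a ^ l = 1)
    (Q : Subgroup (MulAut V)) (hQ : IsPGroup q Q) (hQodd : Odd (Nat.card Q)) (σ : MulAut V)
    (hσr : (orderOf σ).Prime) (hσodd : Odd (orderOf σ)) (hcop : (orderOf σ).Coprime (Nat.card Q))
    (hσl : orderOf σ ≠ l) (hQσ : σ ∈ normalizer (Q : Set (MulAut V)))
    (hfix : ∀ v, σ v = v → v = 1) : ∀ g ∈ Q, g * σ = σ * g := by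
  classical
  have := Fact.mk hq
  let φ : MulAut V →* MulAut V := MonoidHom.id _
  have : Finite (V ⋊[φ] MulAut V) := Coprime.finite_semidirectProduct φ
  set X := zpowers σ
  have hXQ : X ≤ normalizer (Q : Set (MulAut V)) := zpowers_le.2 hQσ
  have hd : Q ⊓ X = ⊥ := disjoint_iff.1 (disjoint_of_coprime_natCard (by
    rw [Nat.card_zpowers]; exact hcop.symm))
  have hcardG : Nat.card ↥(Q ⊔ X) = Nat.card Q * orderOf σ := by
    rw [sup_comm, Coprime.card_sup_of_le_normalizer hXQ (by rwa [inf_comm]), Nat.card_zpowers, mul_comm]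
  set i : MulAut V →* V ⋊[φ] MulAut V := inr
  have hi : Function.Injective i := inr_injective
  have hsolv : Group.IsSolvable ↥((Q ⊔ X).map i) := by
    have : Group.IsNilpotent Q := hQ.isNilpotent
    have : Group.IsSolvable Q := inferInstance
    have h1 : Group.IsSolvable ↥(Q ⊔ X) := by
      have hn : (Q.subgroupOf (Q ⊔ X)).Normal :=
        normal_subgroupOf_of_le_normalizer (sup_le le_normalizer hXQ)
      have : Group.IsSolvable (Q.subgroupOf (Q ⊔ X)) :=
        Group.isSolvable_of_surjective (f := (subgroupOfEquivOfLe (le_sup_left : Q ≤ Q ⊔ X)).symm.toMonoidHom)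
          (MulEquiv.surjective _)
      have : Group.IsSolvable ((↥(Q ⊔ X)) ⧸ Q.subgroupOf (Q ⊔ X)) := by
        refine Group.isSolvable_of_surjective (G := X)
          (f := (QuotientGroup.mk' _).comp (inclusion (le_sup_right : X ≤ Q ⊔ X))) ?_
        intro y
        obtain ⟨⟨z, hz⟩, rfl⟩ := QuotientGroup.mk'_surjective _ y
        obtain ⟨a, ha, b, hb, rfl⟩ := (Coprime.mem_sup_iff_of_le_normalizer' hXQ).1
          (show z ∈ X ⊔ Q by rw [sup_comm]; exact hz)
        refine ⟨⟨b, hb⟩, (QuotientGroup.eq).2 ?_⟩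
        show b⁻¹ * (a * b) ∈ Q
        have := (mem_normalizer_iff.1 (hXQ (X.inv_mem hb)) a).1 ha
        simpa [mul_assoc] using this
      exact Group.isSolvable_of_ker_le_range (Q.subgroupOf (Q ⊔ X)).subtype
        (QuotientGroup.mk' (Q.subgroupOf (Q ⊔ X))) (by rw [QuotientGroup.ker_mk', range_subtype])
    exact Group.isSolvable_of_surjective (i.subgroupMap_surjective _)
  have hXr : Nat.card (X.map i) = orderOf σ := by
    rw [card_map_of_injective hi, Nat.card_zpowers]
  have key := Cfsg.Agent.S3769.result ((Q ⊔ X).map i) hsolv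
    (by rw [card_map_of_injective hi, hcardG]; exact hQodd.mul hσodd)
    (inl : V →* V ⋊[φ] MulAut V).range hl
    ⟨⟨⟨by rintro ⟨-, a, rfl⟩ ⟨-, b, rfl⟩
          exact Subtype.ext (by simp only [Subgroup.coe_mul, ← map_mul, hVc a b])⟩⟩,
      by rintro _ ⟨a, rfl⟩; rw [← map_pow, hVe, map_one]⟩
    (by
      rw [card_map_of_injective hi, hcardG, hl.dvd_mul]
      obtain ⟨e, he⟩ := IsPGroup.iff_card.1 hQ
      rintro (h | h)
      · rw [he] at h
        exact hql ((Nat.prime_dvd_prime_iff_eq hl hq).1 (hl.dvd_of_dvd_pow h)).symm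
      · exact hσl ((Nat.prime_dvd_prime_iff_eq hl hσr).1 h).symm)
    (le_trans (map_le_range _ _) (Coprime.inr_range_le_normalizer_inl_range φ))
    (Q.map i) (X.map i) (map_mono le_sup_left)
    ((map_mono (sup_le le_normalizer hXQ)).trans (le_normalizer_map i))
    (by
      have h1 : (Q.map i).relIndex ((Q ⊔ X).map i) = orderOf σ := by
        rw [relIndex_map_map_of_injective _ _ hi, relIndex]
        have h2 := card_mul_index (Q.subgroupOf (Q ⊔ X))
        rw [Nat.card_congr (subgroupOfEquivOfLe (le_sup_left : Q ≤ Q ⊔ X)).toEquiv, hcardG] at h2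
        exact Nat.eq_of_mul_eq_mul_left Nat.card_pos h2
      rw [h1, card_map_of_injective hi]; exact hcop.symm)
    (map_mono le_sup_right) (by rw [hXr]; exact hσr)
    (by rw [← map_inf _ _ _ hi, hd, Subgroup.map_bot]) (by rw [← Subgroup.map_sup])
    (by
      refine le_bot_iff.1 ?_
      rintro _ ⟨⟨v, rfl⟩, hv⟩
      have h1 := mem_centralizer_iff.1 hv (i σ) (mem_map_of_mem i (mem_zpowers σ))
      have h2 : σ v = v := by
        apply (inl_injective (φ := φ))
        show inl (φ σ v) = inl v
        rw [inl_aut, h1, map_inv, mul_inv_cancel_right]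
      rw [hfix v h2, map_one]; exact one_mem _)
  intro g hg
  have hc : ⁅σ, g⁆ = 1 := by
    refine MulEquiv.ext fun v => ?_
    have h1 := key (commutator_mem_commutator (mem_map_of_mem i (mem_zpowers σ))
      (mem_map_of_mem i hg))
    rw [← map_commutatorElement] at h1
    have h2 := mem_centralizer_iff.1 h1 (inl v) ⟨v, rfl⟩
    apply (inl_injective (φ := φ))
    show inl (φ ⁅σ, g⁆ v) = inl v
    rw [inl_aut, ← h2, map_inv, mul_inv_cancel_right]
  exact (commutatorElement_eq_one_iff_mul_comm.1 hc).symm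

/-- A fixed-point-free element of prime order on a minimal normal elementary abelian subgroup
commutes on it with a normal subgroup of odd order coprime to it. -/
theorem commutator_mem_centralizer {H : Type*} [Group H] [Finite H] (V K : Subgroup H) [V.Normal]
    [K.Normal] [Group.IsSolvable K] {l : ℕ} (hl : l.Prime) (hV : Cfsg.IsElementaryAbelian l V)
    (hV1 : V ≠ ⊥) (hmin : ∀ W : Subgroup H, W.Normal → W ≤ V → W = ⊥ ∨ W = V)
    (hVK : V ≤ K) (hKodd : Odd (Nat.card K)) (x : H) (hxp : (orderOf x).Prime)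
    (hxodd : Odd (orderOf x)) (hxcop : (orderOf x).Coprime (Nat.card K))
    (hfix : V ⊓ centralizer ({x} : Set H) = ⊥) :
    ∀ k ∈ K, ⁅k, x⁆ ∈ centralizer (V : Set H) := by
  classical
  have := Fact.mk hl
  let f : H →* MulAut V := MulAut.conjNormal
  have hfv : ∀ (h : H) (v : V), ((f h v : V) : H) = h * v * h⁻¹ := fun h v =>
    MulAut.conjNormal_apply h v
  set Kt := K.map f
  set σ := f x with hσdef
  have hVp : IsPGroup l V := fun v => ⟨1, Subtype.ext (by simpa using hV.2 v v.2)⟩
  have hlK : l ∣ Nat.card K := by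
    obtain ⟨v, hv, hv1⟩ := (bot_or_exists_ne_one V).resolve_left hV1
    have h1 : orderOf v ∣ l := orderOf_dvd_of_pow_eq_one (hV.2 v hv)
    rcases (Nat.dvd_prime hl).1 h1 with h | h
    · exact absurd (orderOf_eq_one_iff.1 h) hv1
    · exact h ▸ (orderOf_dvd_natCard (⟨v, hv⟩ : V) |> fun d => by
        rw [Subgroup.orderOf_mk] at d
        exact d.trans (card_dvd_of_le hVK))
  have hσfix : ∀ v : V, σ v = v → v = 1 := fun v hv => by
    have h1 : (x : H) * v = v * x := by
      have h2 := congrArg Subtype.val hv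
      rw [hfv] at h2
      conv_rhs => rw [← h2]
      group
    exact Subtype.ext (mem_bot.1 (hfix ▸ ⟨v.2, mem_centralizer_singleton_iff.2 h1.symm⟩))
  have hσ1 : σ ≠ 1 := by
    obtain ⟨v, hv, hv1⟩ := (bot_or_exists_ne_one V).resolve_left hV1
    intro h
    exact hv1 (congrArg Subtype.val (hσfix ⟨v, hv⟩ (by rw [h]; rfl)))
  have hσo : orderOf σ = orderOf x :=
    ((Nat.dvd_prime hxp).1 (orderOf_map_dvd f x)).resolve_left
      fun h => hσ1 (orderOf_eq_one_iff.1 h)
  have hKt : Nat.card Kt ∣ Nat.card K := card_map_dvd K f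
  have hrng : f.range ≤ normalizer (Kt : Set (MulAut V)) := by
    refine le_trans ?_ (le_normalizer_map f)
    rw [normalizer_eq_top, ← MonoidHom.range_eq_map]
  -- `x` commutes with every `O_q`
  have hq : ∀ q : ℕ, q.Prime → ∀ g ∈ (pCore q Kt).map Kt.subtype, g * σ = σ * g := by
    intro q hq
    have := Fact.mk hq
    set P := (pCore q Kt).map Kt.subtype
    have hPK : P ≤ Kt := map_subtype_le _
    have hP : IsPGroup q P := (Components.isPGroup_pCore' (G := Kt) q).map _
    have hPn : f.range ≤ normalizer (P : Set (MulAut V)) :=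
      hrng.trans (Components.normalizer_le_normalizer_map_of_characteristic Kt _)
    by_cases hql : q = l
    · subst hql
      intro g hg
      -- the fixed points of `P` on `V` form a normal subgroup, so `P` is trivial
      let W : Subgroup V :=
        { carrier := {v | ∀ τ ∈ P, τ v = v}
          one_mem' := fun τ _ => map_one τ
          mul_mem' := fun {a b} ha hb τ hτ => by rw [map_mul, ha τ hτ, hb τ hτ]
          inv_mem' := fun {a} ha τ hτ => by rw [map_inv, ha τ hτ] }
      have hWn : (W.map V.subtype).Normal := by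
        refine ⟨?_⟩
        rintro _ ⟨v, hv, rfl⟩ h
        refine ⟨f h v, fun τ hτ => ?_, hfv h v⟩
        have h1 : (f h)⁻¹ * τ * f h ∈ P := by
          have := (mem_normalizer_iff.1 (hPn ⟨h⁻¹, rfl⟩) τ).1 hτ
          simpa using this
        have h2 := hv _ h1
        simp only [MulAut.mul_apply] at h2
        calc τ (f h v) = f h ((f h)⁻¹ (τ (f h v))) := ((f h).apply_symm_apply _).symm
          _ = f h v := by rw [h2]
      have hWne : W.map V.subtype ≠ ⊥ := by
        obtain ⟨b, hb, hb1⟩ := hP.exists_fixed_point_of_prime_dvd_card_of_fixed_point (α := V)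
          (by
            obtain ⟨v, hv, hv1⟩ := (bot_or_exists_ne_one V).resolve_left hV1
            have h1 : orderOf v = q := ((Nat.dvd_prime hl).1
              (orderOf_dvd_of_pow_eq_one (hV.2 v hv))).resolve_left
                fun h => hv1 (orderOf_eq_one_iff.1 h)
            rw [← h1, ← Subgroup.orderOf_mk v hv]
            exact orderOf_dvd_natCard _)
          (a := 1) (fun τ => map_one (τ : MulAut V))
        intro h
        have h1 : (b : H) ∈ W.map V.subtype := ⟨b, fun τ hτ => hb ⟨τ, hτ⟩, rfl⟩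
        rw [h, mem_bot] at h1
        exact hb1 (Subtype.ext h1).symm
      have hWV := (hmin _ hWn (map_subtype_le _)).resolve_left hWne
      have hg1 : g = 1 := MulEquiv.ext fun v => by
        obtain ⟨w, hw, hwv⟩ := (hWV.ge v.2 : (v : H) ∈ W.map V.subtype)
        have : w = v := Subtype.ext hwv
        exact this ▸ hw g hg
      rw [hg1, one_mul, mul_one]
    · exact commute_of_pgroup hl hq hql (fun a b => hV.1.is_comm.comm a b)
        (fun a => Subtype.ext (by simpa using hV.2 a a.2)) P hP
        (Odd.of_dvd_nat hKodd ((card_dvd_of_le hPK).trans hKt)) σ (hσo ▸ hxp) (hσo ▸ hxodd)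
        (hσo ▸ hxcop.coprime_dvd_right ((card_dvd_of_le hPK).trans hKt))
        (fun h => by
          rw [hσo] at h
          exact hl.ne_one (Nat.eq_one_of_dvd_coprimes hxcop (h ▸ dvd_rfl) hlK))
        (hPn ⟨x, rfl⟩) hσfix
  -- hence with the Fitting subgroup, hence with `Kt`
  set X := zpowers σ
  set F := (fittingSubgroup Kt).map Kt.subtype
  have hFK : F ≤ Kt := map_subtype_le _
  have hFX : F ≤ centralizer (X : Set (MulAut V)) := by
    have h1 : F ≤ centralizer ({σ} : Set (MulAut V)) := by
      show (fittingSubgroup Kt).map Kt.subtype ≤ _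
      rw [Components.fittingSubgroup_eq_iSup_pCore, Subgroup.map_iSup]
      exact iSup_le fun q g hg => mem_centralizer_singleton_iff.2
        (hq q (Nat.prime_of_mem_primeFactors q.2) g hg)
    refine h1.trans (le_of_eq ?_)
    rw [show X = zpowers σ from rfl, zpowers_eq_closure, centralizer_closure]
  have hXK : X ≤ normalizer (Kt : Set (MulAut V)) := zpowers_le.2 (hrng ⟨x, rfl⟩)
  have hKF : ⁅F, Kt⁆ ≤ F := by
    refine le_normalizer_iff_commutator_le_left.1 ?_
    exact le_normalizer.trans (Components.normalizer_le_normalizer_map_of_characteristic Kt _)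
  have hC : ⁅Kt, X⁆ ≤ centralizer (F : Set (MulAut V)) := by
    rw [← commutator_eq_bot_iff_le_centralizer]
    refine commutator_commutator_eq_bot_of_rotate ?_ ?_
    · rw [commutator_comm X F, commutator_eq_bot_iff_le_centralizer.2 hFX, commutator_bot_left]
    · exact le_bot_iff.1 ((commutator_mono hKF le_rfl).trans
        (le_of_eq (commutator_eq_bot_iff_le_centralizer.2 hFX)))
  have hKtX : ⁅Kt, X⁆ ≤ Kt := Coprime.commutator_le_left_of_le_normalizer hXK
  have : Group.IsSolvable Kt := Group.isSolvable_of_surjective (f.subgroupMap_surjective K)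
  have hCF : ⁅Kt, X⁆ ≤ F := fun y hy =>
    ⟨⟨y, hKtX hy⟩, Components.centralizer_fittingSubgroup_le (mem_centralizer_iff.2 fun z hz =>
      Subtype.ext (mem_centralizer_iff.1 (hC hy) z ⟨z, hz, rfl⟩)), rfl⟩
  have hbot : ⁅Kt, X⁆ = ⊥ := by
    rw [← Coprime.commutator_commutator_eq hXK ?_
      (Or.inl (Group.isSolvable_of_comm fun a b => mul_comm' a b))]
    · exact le_bot_iff.1 ((commutator_mono hCF le_rfl).trans
        (le_of_eq (commutator_eq_bot_iff_le_centralizer.2 hFX)))
    · rw [show X = zpowers σ from rfl, Nat.card_zpowers, hσo]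
      exact hxcop.coprime_dvd_right hKt
  intro k hk
  have h1 : f ⁅k, x⁆ = 1 := by
    rw [map_commutatorElement]
    exact mem_bot.1 (hbot ▸ commutator_mem_commutator (mem_map_of_mem f hk) (mem_zpowers σ))
  refine mem_centralizer_iff.2 fun v hv => ?_
  have h2 : ⁅k, x⁆ * v * ⁅k, x⁆⁻¹ = v := by
    have := hfv ⁅k, x⁆ ⟨v, hv⟩
    rw [h1] at this
    exact this.symm
  conv_lhs => rw [← h2]
  group

/-- Let G be a solvable group of odd order, K a normal subgroup and R a subgroup with G = KR and the orders of K and R coprime. Suppose K ∩ C_G(x) = K ∩ C_G(R) for every non-identity x ∈ R, and F(K) ∩ C_G(R) = 1. Then [K, R] is contained in the Fitting subgroup of K. -/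
theorem result {G : Type*} [Group G] [Finite G] [Group.IsSolvable G] (hodd : Odd (Nat.card G)) (K R : Subgroup G) [K.Normal] (hKR : K ⊔ R = ⊤) (hcop : (Nat.card K).Coprime (Nat.card R))
    (hprime : ∀ x ∈ R, x ≠ 1 → K ⊓ Subgroup.centralizer ({x} : Set G) = (K ⊓ Subgroup.centralizer (R : Set G)))
    (hF : Cfsg.fittingOf K ⊓ Subgroup.centralizer (R : Set G) = ⊥) :
    ⁅K, R⁆ ≤ Cfsg.fittingOf K := by
  classical
  rw [commutator_le]
  intro k hk g hg
  rcases eq_or_ne R ⊥ with hR0 | hR0
  · rw [hR0, mem_bot] at hg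
    rw [hg, commutatorElement_one_right]
    exact one_mem _
  obtain ⟨q, hq, hqd⟩ := Nat.exists_prime_and_dvd (fun h => hR0 (Subgroup.card_eq_one.1 h))
  have := Fact.mk hq
  obtain ⟨x', hx'⟩ := exists_prime_orderOf_dvd_card' (G := R) q hqd
  set x : G := (x' : G) with hxdef
  have hxo : orderOf x = q := by rw [Subgroup.orderOf_coe, hx']
  have hx1 : x ≠ 1 := fun h => hq.ne_one (by rw [← hxo, h, orderOf_one])
  set X := zpowers x with hXdef
  have hXR : X ≤ R := zpowers_le.2 x'.2
  have hcopX : (Nat.card X).Coprime (Nat.card K) :=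
    hcop.symm.coprime_dvd_left (card_dvd_of_le hXR)
  have hcX : centralizer (X : Set G) = centralizer ({x} : Set G) := by
    rw [hXdef, zpowers_eq_closure, centralizer_closure]
  have hFK : Cfsg.fittingOf K ≤ K := map_subtype_le _
  have hFn : (Cfsg.fittingOf K).Normal := by
    show ((fittingSubgroup K).map K.subtype).Normal
    infer_instance
  have hsX : Group.IsSolvable X := Group.isSolvable_of_comm fun a b => mul_comm' a b
  have hFx : ∀ k ∈ K, ⁅k, x⁆ ∈ Cfsg.fittingOf K := by
    intro k hk
    refine ((Cfsg.Agent.S3766.result inferInstance K ⁅k, x⁆).2).2 ⟨?_, ?_⟩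
    · have := (inferInstance : K.Normal).conj_mem _ (K.inv_mem hk) x
      rw [commutatorElement_def, mul_assoc, mul_assoc, ← mul_assoc x]
      exact K.mul_mem hk this
    rintro U V ⟨hUn, hVn, hVU, hchief⟩ hUF u hu
    set f := QuotientGroup.mk' V
    have hf : Function.Surjective f := QuotientGroup.mk'_surjective V
    have hUb1 : U.map f ≠ ⊥ := fun h => hVU.ne (le_antisymm hVU.le fun y hy =>
      (QuotientGroup.eq_one_iff y).1 (mem_bot.1 (h ▸ mem_map_of_mem f hy)))
    have hmin : ∀ W : Subgroup (G ⧸ V), W.Normal → W ≤ U.map f → W = ⊥ ∨ W = U.map f := by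
      intro W hW hWU
      have hVW : V ≤ W.comap f := fun y hy => by
        rw [mem_comap, show f y = 1 from (QuotientGroup.eq_one_iff y).2 hy]
        exact one_mem W
      rcases hchief (W.comap f) (hW.comap f) hVW (by
        refine (comap_mono hWU).trans ?_
        rw [comap_map_eq, QuotientGroup.ker_mk']
        exact sup_le le_rfl hVU.le) with h | h
      · left
        rw [← map_comap_eq_self_of_surjective hf W, h, QuotientGroup.map_mk'_self]
      · right
        rw [← map_comap_eq_self_of_surjective hf W, h]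
    have : (U.map f).Normal := hUn.map f hf
    have : (K.map f).Normal := (inferInstance : K.Normal).map f hf
    obtain ⟨l, hl, hel⟩ : ∃ l, l.Prime ∧ Cfsg.IsElementaryAbelian l (U.map f) := by
      have hs : Group.IsSolvable G := inferInstance
      have := Group.isSolvable_of_surjective hf
      have hsU : Group.IsSolvable (U.map f) := inferInstance
      have hc := Solvable.isMulCommutative_of_minimal hsU hUb1 hmin
      obtain ⟨l, hl, he, -⟩ := Solvable.exists_prime_of_minimal hUb1 hmin
      exact ⟨l, hl, hc, he⟩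
    have : Group.IsSolvable (K.map f) :=
      Group.isSolvable_of_surjective (f.subgroupMap_surjective K)
    have hfix : U.map f ⊓ centralizer ({f x} : Set (G ⧸ V)) = ⊥ := by
      have h1 := Coprime.map_inf_centralizer f (A := X) (K := U)
        (normalizer_eq_top (H := U) ▸ le_top)
        (hcopX.coprime_dvd_right (card_dvd_of_le (hUF.trans hFK))) (Or.inl hsX)
      have h2 : U ⊓ centralizer (X : Set G) = ⊥ := by
        refine le_bot_iff.1 fun y hy => ?_
        have h3 : y ∈ K ⊓ centralizer ({x} : Set G) := ⟨hFK (hUF hy.1), hcX ▸ hy.2⟩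
        rw [hprime x x'.2 hx1] at h3
        exact hF ▸ ⟨hUF hy.1, h3.2⟩
      rw [h2, Subgroup.map_bot, hXdef, MonoidHom.map_zpowers, zpowers_eq_closure,
        centralizer_closure] at h1
      exact h1.symm
    have hodd' : Odd (Nat.card G) := hodd
    have hfx1 : f x ≠ 1 := fun h => hx1 (disjoint_def.1
      (disjoint_of_coprime_natCard (hcopX.coprime_dvd_right (card_dvd_of_le
        (hVU.le.trans (hUF.trans hFK))))) (mem_zpowers x) ((QuotientGroup.eq_one_iff x).1 h))
    have hfxo : orderOf (f x) = q := ((Nat.dvd_prime hq).1 (hxo ▸ orderOf_map_dvd f x)).resolve_left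
      fun h => hfx1 (orderOf_eq_one_iff.1 h)
    have h1 := commutator_mem_centralizer (U.map f) (K.map f) hl hel hUb1 hmin
      (map_mono (hUF.trans hFK))
      (Odd.of_dvd_nat hodd ((card_map_dvd K f).trans (card_subgroup_dvd_card K))) (f x)
      (by rw [hfxo]; exact hq)
      (by rw [hfxo]; exact Odd.of_dvd_nat hodd (hqd.trans (card_subgroup_dvd_card R)))
      (by
        rw [hfxo]
        exact (hcop.symm.coprime_dvd_left hqd).coprime_dvd_right (card_map_dvd K f))
      hfix (f k) (mem_map_of_mem f hk)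
    refine (QuotientGroup.eq_one_iff _).1 ?_
    show f (u * ⁅k, x⁆ * u⁻¹ * ⁅k, x⁆⁻¹) = 1
    rw [← commutatorElement_def, map_commutatorElement, commutatorElement_eq_one_iff_mul_comm,
      map_commutatorElement]
    exact mem_centralizer_iff.1 h1 _ (mem_map_of_mem f hu)
  -- `R` centralises `K / F(K)`
  set F := Cfsg.fittingOf K
  set f := QuotientGroup.mk' F
  have h1 : f k ∈ K.map f ⊓ centralizer ((X.map f : Subgroup (G ⧸ F)) : Set (G ⧸ F)) := by
    refine ⟨mem_map_of_mem f hk, ?_⟩
    rw [hXdef, MonoidHom.map_zpowers, zpowers_eq_closure, centralizer_closure]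
    refine mem_centralizer_singleton_iff.2 (commutatorElement_eq_one_iff_mul_comm.1 ?_)
    rw [← map_commutatorElement]
    exact (QuotientGroup.eq_one_iff _).2 (hFx k hk)
  rw [← Coprime.map_inf_centralizer f (normalizer_eq_top (H := K) ▸ le_top) hcopX (Or.inl hsX)]
    at h1
  obtain ⟨c, ⟨hcK, hcX'⟩, hc⟩ := h1
  have hcR : c ∈ centralizer (R : Set G) := by
    have : c ∈ K ⊓ centralizer ({x} : Set G) := ⟨hcK, hcX ▸ hcX'⟩
    rw [hprime x x'.2 hx1] at this
    exact this.2
  refine (QuotientGroup.eq_one_iff _).1 (?_ : f ⁅k, g⁆ = 1)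
  rw [map_commutatorElement, ← hc, ← map_commutatorElement,
    commutatorElement_eq_one_iff_mul_comm.2 (mem_centralizer_iff.1 hcR g hg).symm, map_one]

end Cfsg.Agent.S1445
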