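import Cfsg.Statements.S1447
import Cfsg.Agent.Lib.PGroup.MetacyclicCoset
import Cfsg.Agent.Lib.PGroup.UniqueOrderP
import Cfsg.Agent.Lib.PGroup.ExtraspecialClassify
import Cfsg.Agent.Lib.Coprime.Commutator

set_option autoImplicit false
open Cfsg

namespace Cfsg.Agent.S1447

open scoped commutatorElement

/-- An elementary abelian subgroup of a metacyclic `p`-group has order at most `p²`. -/
theorem card_le_sq {G : Type*} [Group G] [Finite G] {p : ℕ} [Fact p.Prime] {a b : G}
    (H : PGroup.MetaGen a b) (hG : IsPGroup p G) {E : Subgroup G} (hc : IsMulCommutative ↥E)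
    (he : ∀ g ∈ E, g ^ p = 1) : Nat.card ↥E ≤ p ^ 2 := by
  obtain ⟨u, v, i, hu, hv, hgen, -⟩ := H.exists_subgroup_params hG E
  let g : Bool → ↥E := fun t => if t then ⟨_, hu⟩ else ⟨_, hv⟩
  have h1 : Subgroup.closure (((⊥ : Subgroup ↥E) : Set ↥E) ∪ Set.range g) = ⊤ := by
    rw [eq_top_iff, ← Subgroup.map_le_map_iff_of_injective E.subtype_injective,
      MonoidHom.map_closure, ← MonoidHom.range_eq_map, Subgroup.range_subtype]
    refine hgen.trans ((Subgroup.closure_le _).mpr ?_)
    rintro x (rfl | rfl)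
    · exact Subgroup.subset_closure ⟨g true, Or.inr ⟨true, rfl⟩, by simp [g]⟩
    · exact Subgroup.subset_closure ⟨g false, Or.inr ⟨false, rfl⟩, by simp [g]⟩
  have hcard := PGroup.card_le_of_generators (p := p) (⊥ : Subgroup ↥E) bot_le g h1
    (fun s t => Subgroup.mem_bot.mpr (commutatorElement_eq_one_iff_mul_comm.mpr (hc.is_comm.comm _ _)))
    (fun t => Subgroup.mem_bot.mpr (Subtype.ext (by simpa using he _ (g t).2))) Finset.univ
  rw [Finset.coe_univ, Set.image_univ, ← Subgroup.closure_eq (⊥ : Subgroup ↥E),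
    ← Subgroup.closure_union, h1, Subgroup.card_top, Subgroup.closure_eq, Subgroup.card_bot,
    one_mul, Finset.card_univ, Fintype.card_bool] at hcard
  exact hcard

/-- An abelian subgroup `C` of a metacyclic `p`-group centralized by an element `w ∉ C` of order `p`
is cyclic. -/
theorem isCyclic_of_commute {G : Type*} [Group G] [Finite G] {p : ℕ} [Fact p.Prime] {a b : G}
    (H : PGroup.MetaGen a b) (hG : IsPGroup p G) {C : Subgroup G} (hC : IsMulCommutative ↥C) {w : G}
    (hw : w ^ p = 1) (hwC : w ∉ C) (hcomm : ∀ c ∈ C, c * w = w * c) : IsCyclic ↥C := by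
  have hp := (Fact.out (p := p.Prime))
  refine PGroup.isCyclic_of_unique_of_isMulCommutative (hG.to_subgroup C) (fun H₁ H₂ h₁ h₂ => ?_)
    hC
  have h₁' : Nat.card ↥(H₁.map C.subtype) = p := by
    rw [Subgroup.card_map_of_injective C.subtype_injective, h₁]
  have h₂' : Nat.card ↥(H₂.map C.subtype) = p := by
    rw [Subgroup.card_map_of_injective C.subtype_injective, h₂]
  refine Subgroup.map_injective C.subtype_injective ?_
  set U := H₁.map C.subtype
  set V := H₂.map C.subtype
  have hUC : U ≤ C := Subgroup.map_subtype_le _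
  have hVC : V ≤ C := Subgroup.map_subtype_le _
  have hel : ∀ W : Subgroup G, Nat.card ↥W = p → W ≤ C → Cfsg.IsElementaryAbelian p W :=
    fun W hW hWC => PGroup.isElementaryAbelian_of_forall
      (fun x hx y hy => PGroup.mul_comm_of_isMulCommutative hC (hWC hx) (hWC hy))
      (fun x hx => by
        have h := pow_card_eq_one' (x := (⟨x, hx⟩ : ↥W))
        rw [hW] at h
        simpa using congrArg Subtype.val h)
  by_contra hne
  have hUV := PGroup.isElementaryAbelian_sup (hel U h₁' hUC) (hel V h₂' hVC)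
    (fun x hx y hy => PGroup.mul_comm_of_isMulCommutative hC (hUC hx) (hVC hy))
  have hE := PGroup.isElementaryAbelian_sup hUV (PGroup.isElementaryAbelian_zpowers hw)
    (fun x hx y hy => by
      obtain ⟨k, rfl⟩ := hy
      exact (Commute.zpow_right (hcomm x (sup_le hUC hVC hx) : Commute x w) k).eq)
  have hlt1 : U < U ⊔ V := left_lt_sup.mpr fun hle =>
    hne (Subgroup.eq_of_le_of_card_ge hle (by rw [h₁', h₂'])).symm
  have hlt2 : U ⊔ V < U ⊔ V ⊔ Subgroup.zpowers w :=
    left_lt_sup.mpr fun hle => hwC (sup_le hUC hVC (hle (Subgroup.mem_zpowers w)))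
  have h3 := (Nat.mul_le_mul_left p (PGroup.mul_card_le_card hG hlt1)).trans
    (PGroup.mul_card_le_card hG hlt2)
  have h4 := h3.trans (card_le_sq H hG hE.1 hE.2)
  rw [h₁', pow_two, ← mul_assoc] at h4
  have := Nat.le_of_mul_le_mul_left (h4.trans_eq (mul_one _).symm) (Nat.mul_pos hp.pos hp.pos)
  exact absurd this hp.one_lt.not_ge

/-- Let G be a finite group, p an odd prime, R a metacyclic p-subgroup and A a subgroup of order coprime to p normalizing R. Then [R, A] is abelian; R is generated by [R, A] and R ∩ C_G(A), which meet trivially; and if R is non-abelian and A does not centralize R, then [R, A] and R ∩ C_G(A) are nontrivial cyclic groups and [R, R] ≤ [R, A]. -/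
theorem result {G : Type*} [Group G] [Finite G] (p : ℕ) [Fact p.Prime] (hp : p ≠ 2) (R A : Subgroup G) (hR : IsPGroup p R) (hRm : Cfsg.IsMetacyclic R)
    (hA : (A ≤ Subgroup.normalizer (R : Set G))) (hcop : (Nat.card A).Coprime p) :
    IsMulCommutative ↥⁅R, A⁆ ∧ ⁅R, A⁆ ⊔ (R ⊓ Subgroup.centralizer (A : Set G)) = R ∧ ⁅R, A⁆ ⊓ (R ⊓ Subgroup.centralizer (A : Set G)) = ⊥ ∧
      (¬ IsMulCommutative R → ¬ A ≤ Subgroup.centralizer (R : Set G) →
        ⁅R, A⁆ ≠ ⊥ ∧ IsCyclic ↥⁅R, A⁆ ∧ (R ⊓ Subgroup.centralizer (A : Set G)) ≠ ⊥ ∧ IsCyclic ↥(R ⊓ Subgroup.centralizer (A : Set G)) ∧ ⁅R, R⁆ ≤ ⁅R, A⁆) := by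
  have hp0 := (Fact.out (p := p.Prime))
  obtain ⟨e, he⟩ := IsPGroup.iff_card.mp hR
  have hcopR : (Nat.card A).Coprime (Nat.card R) := he ▸ hcop.pow_right e
  have hRn : Group.IsNilpotent R := hR.isNilpotent
  have hsR : Group.IsSolvable R := inferInstance
  have hsolv : Group.IsSolvable A ∨ Group.IsSolvable R := Or.inr hsR
  set C := R ⊓ Subgroup.centralizer (A : Set G) with hCdef
  set X := ⁅R, A⁆ with hXdef
  set D := ⁅R, R⁆ with hDdef
  have hXR : X ≤ R := Coprime.commutator_le_left_of_le_normalizer hA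
  have hsup : X ⊔ C = R := Coprime.commutator_sup_centralizer hA hcopR hsolv
  have hDR : D ≤ R := Subgroup.commutator_le_self R
  have hRD : R ≤ Subgroup.normalizer (D : Set G) := by
    rw [Subgroup.le_normalizer_iff_commutator_le_right]
    exact Subgroup.commutator_mono le_rfl hDR
  have hAconj : ∀ a ∈ A, ∀ x ∈ R, a * x * a⁻¹ ∈ R := fun a ha x hx =>
    (Subgroup.mem_normalizer_iff.mp (hA ha) x).mp hx
  have hAD : A ≤ Subgroup.normalizer (D : Set G) := by
    rw [Subgroup.le_normalizer_iff_commutator_le_right, Subgroup.commutator_le]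
    intro a ha d hd
    rw [commutatorElement_def]
    refine D.mul_mem ?_ (D.inv_mem hd)
    have h1 := Subgroup.mem_map_of_mem (MulAut.conj a).toMonoidHom hd
    rw [hDdef, Subgroup.map_commutator] at h1
    refine Subgroup.commutator_mono ?_ ?_ h1 <;>
    · rintro _ ⟨x, hx, rfl⟩
      exact hAconj a ha x hx
  -- `C ∩ X ≤ R'`
  have hinfD : X ⊓ C ≤ D := by
    set L := Subgroup.normalizer (D : Set G) with hL
    have hDn : (D.subgroupOf L).Normal := Subgroup.normal_in_normalizer
    let f : ↥L →* ↥L ⧸ D.subgroupOf L := QuotientGroup.mk' _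
    rintro x ⟨hxX, hxR, hxA⟩
    have hxL : x ∈ L := hRD hxR
    have hxcomm : (⟨x, hxL⟩ : ↥L) ∈ ⁅R.subgroupOf L, A.subgroupOf L⁆ := by
      refine (Subgroup.mem_map_iff_mem L.subtype_injective).mp ?_
      rw [Subgroup.map_commutator, Subgroup.map_subgroupOf_eq_of_le hRD,
        Subgroup.map_subgroupOf_eq_of_le hAD]
      exact hxX
    have hab : IsMulCommutative ↥((R.subgroupOf L).map f) := by
      refine PGroup.isMulCommutative_of_forall ?_
      rintro _ ⟨u, hu, rfl⟩ _ ⟨v, hv, rfl⟩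
      rw [← commutatorElement_eq_one_iff_mul_comm, ← map_commutatorElement]
      exact (QuotientGroup.eq_one_iff _).mpr (Subgroup.commutator_mem_commutator hu hv)
    have hnorm : (A.subgroupOf L).map f ≤
        Subgroup.normalizer (((R.subgroupOf L).map f : Subgroup _) : Set (↥L ⧸ D.subgroupOf L)) := by
      rw [Subgroup.le_normalizer_iff_commutator_le_right, ← Subgroup.map_commutator]
      refine Subgroup.map_mono (Subgroup.commutator_le.mpr fun u hu v hv => ?_)
      show ((u : G) * (v : G) * (u : G)⁻¹ * (v : G)⁻¹) ∈ R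
      exact R.mul_mem (hAconj u hu v hv) (R.inv_mem hv)
    have hcop' : (Nat.card ↥((A.subgroupOf L).map f)).Coprime
        (Nat.card ↥((R.subgroupOf L).map f)) := by
      refine (hcopR.coprime_dvd_left ?_).coprime_dvd_right ?_
      · rw [← Nat.card_congr (Subgroup.subgroupOfEquivOfLe hAD).toEquiv]
        exact Subgroup.card_map_dvd _ _
      · rw [← Nat.card_congr (Subgroup.subgroupOfEquivOfLe hRD).toEquiv]
        exact Subgroup.card_map_dvd _ _
    have hbot := Coprime.inf_centralizer_inf_commutator_eq_bot hnorm hcop'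
    have hmem : f ⟨x, hxL⟩ ∈ ((R.subgroupOf L).map f ⊓
        Subgroup.centralizer (((A.subgroupOf L).map f : Subgroup _) : Set (↥L ⧸ D.subgroupOf L))) ⊓
        ⁅(R.subgroupOf L).map f, (A.subgroupOf L).map f⁆ := by
      refine ⟨⟨Subgroup.mem_map_of_mem f (K := R.subgroupOf L) hxR, ?_⟩, ?_⟩
      · rintro _ ⟨a, ha, rfl⟩
        rw [← map_mul, ← map_mul]
        exact congrArg f (Subtype.ext (hxA a ha))
      · rw [← Subgroup.map_commutator]
        exact Subgroup.mem_map_of_mem f hxcomm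
    rw [hbot, Subgroup.mem_bot] at hmem
    exact (QuotientGroup.eq_one_iff (⟨x, hxL⟩ : ↥L)).mp hmem
  have hRp : IsPGroup p ↥R := hR
  obtain ⟨a, b, H⟩ := PGroup.exists_metaGen hRm
  have hDmap : (commutator ↥R).map R.subtype = D := Subgroup.map_subtype_commutator R
  have hDc : IsCyclic ↥D := by
    have := H.isCyclic_commutator
    rw [← hDmap]
    exact isCyclic_of_surjective _ ((commutator ↥R).equivMapOfInjective _ R.subtype_injective).surjective
  by_cases hab : IsMulCommutative ↥R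
  · have hD0 : D = ⊥ := by
      rw [hDdef, Subgroup.commutator_eq_bot_iff_le_centralizer]
      exact PGroup.le_centralizer_of_isMulCommutative hab
    refine ⟨PGroup.isMulCommutative_of_forall fun x hx y hy =>
      PGroup.mul_comm_of_isMulCommutative hab (hXR hx) (hXR hy), hsup,
      le_bot_iff.mp (hD0 ▸ hinfD), fun hn => absurd hab hn⟩
  by_cases htriv : A ≤ Subgroup.centralizer (R : Set G)
  · have hX0 : X = ⊥ := Coprime.le_centralizer_iff_commutator_eq_bot.mp htriv
    refine ⟨?_, hsup, by rw [hX0, bot_inf_eq], fun _ hn => absurd htriv hn⟩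
    rw [hX0]; infer_instance
  -- the main case
  have hna : commutator ↥R ≠ ⊥ := fun h => hab ((commutator_eq_bot_iff ↥R).mp h)
  let γ : ∀ a : G, a ∈ A → MulAut ↥R := fun a ha => R.normalizerMonoidHom ⟨a, hA ha⟩
  obtain ⟨N, s, hΦN, hsN, hNinv, hfix⟩ :=
    H.exists_fixed_coset hRp hp hna {g | ∃ (a : G) (ha : a ∈ A), γ a ha = g}
  set N' := N.map R.subtype with hN'
  have hN'R : N' ≤ R := Subgroup.map_subtype_le N
  have hAN' : A ≤ Subgroup.normalizer (N' : Set G) := by
    rw [Subgroup.le_normalizer_iff_commutator_le_right, Subgroup.commutator_le]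
    rintro a' ha _ ⟨n, hn, rfl⟩
    rw [commutatorElement_def]
    exact N'.mul_mem ⟨_, hNinv _ ⟨a', ha, rfl⟩ n hn, rfl⟩ (N'.inv_mem ⟨n, hn, rfl⟩)
  have hNn : N.Normal := Subgroup.Normal.of_commutator_le _
    ((PGroup.commutator_le_frattini hRp).trans hΦN)
  obtain ⟨n, hn, hnA⟩ := Coprime.exists_mul_mem_centralizer hAN'
    (hcopR.coprime_dvd_right (Subgroup.card_dvd_of_le hN'R))
    (Or.inr (Coprime.isSolvable_of_le hN'R hsR)) (k := (s : G)) (fun a' ha => by
      refine ⟨s⁻¹ * (γ a' ha s * s⁻¹) * s,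
        by simpa using hNn.conj_mem _ (hfix _ ⟨a', ha, rfl⟩) s⁻¹, ?_⟩
      show (s : G)⁻¹ * (a' * s * a'⁻¹ * (s : G)⁻¹) * s = _
      group)
  set x := (s : G) * n with hxdef
  have hxC : x ∈ C := ⟨R.mul_mem s.2 (hN'R hn), hnA⟩
  set Φ' := (frattini ↥R).map R.subtype with hΦ'
  have hΦR : Φ' ≤ R := Subgroup.map_subtype_le _
  have hxΦ : x ∉ Φ' := fun hx => by
    obtain ⟨n', hn', rfl⟩ := hn
    rw [hxdef, show (s : G) * R.subtype n' = R.subtype (s * n') from rfl, hΦ',
      Subgroup.mem_map_iff_mem R.subtype_injective] at hx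
    have := N.mul_mem (hΦN hx) (N.inv_mem hn')
    rw [mul_inv_cancel_right] at this
    exact hsN this
  have hCne : C ≠ ⊥ := fun h => hxΦ (by
    rw [show x = 1 from Subgroup.mem_bot.mp (h ▸ hxC)]
    exact Subgroup.one_mem _)
  have hXne : X ≠ ⊥ := fun h => htriv (Coprime.le_centralizer_iff_commutator_eq_bot.mpr h)
  -- `A` does not centralize `R'`
  have hDA : ¬ A ≤ Subgroup.centralizer (D : Set G) := by
    intro hcen
    have hXx : X ≤ Subgroup.centralizer ({x} : Set G) := by
      refine Subgroup.commutator_le.mpr fun g hg a' ha => ?_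
      rw [Subgroup.mem_centralizer_singleton_iff]
      set u := g⁻¹ with hu
      have hxa : a' * x * a'⁻¹ = x := by
        rw [hxC.2 a' ha, mul_inv_cancel_right]
      have hconj : a' * ⁅x, u⁆ * a'⁻¹ = ⁅x, u⁆ := by
        rw [← hcen ha _ (Subgroup.commutator_mem_commutator hxC.1 (R.inv_mem hg)),
          mul_inv_cancel_right]
      have h1 : a' * ⁅x, u⁆ * a'⁻¹ = ⁅x, a' * u * a'⁻¹⁆ := by
        conv_rhs => rw [← hxa]
        rw [commutatorElement_def, commutatorElement_def]
        group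
      rw [hconj, commutatorElement_def, commutatorElement_def] at h1
      have h2 : u * x⁻¹ * u⁻¹ = a' * u * a'⁻¹ * x⁻¹ * (a' * u * a'⁻¹)⁻¹ :=
        mul_left_cancel (by simpa only [mul_assoc] using h1)
      have h3 := congrArg (fun t => t⁻¹) h2
      simp only [mul_inv_rev, inv_inv] at h3
      rw [commutatorElement_def]
      rw [show g * a' * g⁻¹ * a'⁻¹ = u⁻¹ * a' * u * a'⁻¹ by rw [hu]; group]
      calc u⁻¹ * a' * u * a'⁻¹ * x
          = u⁻¹ * (a' * u * a'⁻¹ * (x * (a' * (u⁻¹ * a'⁻¹)))) * (a' * u * a'⁻¹) := by group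
        _ = u⁻¹ * (u * (x * u⁻¹)) * (a' * u * a'⁻¹) := by rw [← h3]
        _ = x * (u⁻¹ * a' * u * a'⁻¹) := by group
    set M := C ⊔ Φ' with hM
    by_cases hXM : X ≤ M
    · have hCR : C = R := by
        have htop : C.subgroupOf R = ⊤ := by
          refine frattini_nongenerating (eq_top_iff.mpr fun g _ => ?_)
          have hg : (g : G) ∈ M := (sup_le hXM le_sup_left) (hsup.symm ▸ g.2)
          have hle : M ≤ (C.subgroupOf R ⊔ frattini ↥R).map R.subtype := by
            rw [Subgroup.map_sup, Subgroup.map_subgroupOf_eq_of_le (inf_le_left : C ≤ R)]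
          exact (Subgroup.mem_map_iff_mem R.subtype_injective).mp (hle hg)
        exact le_antisymm inf_le_left (Subgroup.subgroupOf_eq_top.mp htop)
      refine htriv fun a' ha r hr => ?_
      exact ((hCR.ge hr : r ∈ C).2 a' ha).symm
    · obtain ⟨y, hyX, hyM⟩ := SetLike.not_le_iff_exists.mp hXM
      refine hab ?_
      set xR : ↥R := ⟨x, hxC.1⟩
      set yR : ↥R := ⟨y, hXR hyX⟩
      have hx1 : xR ∉ frattini ↥R := fun h => hxΦ ⟨xR, h, rfl⟩
      have hy1 : yR ∉ frattini ↥R ⊔ Subgroup.zpowers xR := fun h => hyM (by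
        have h2 := Subgroup.mem_map_of_mem R.subtype h
        rw [Subgroup.map_sup, MonoidHom.map_zpowers] at h2
        exact (sup_le le_sup_right (Subgroup.zpowers_le.mpr (Subgroup.mem_sup_left hxC))) h2)
      have htop : frattini ↥R ⊔ Subgroup.zpowers xR ⊔ Subgroup.zpowers yR = ⊤ := by
        refine Subgroup.eq_top_of_le_card _ ?_
        rw [PGroup.card_sup_zpowers_frattini hRp le_sup_left hy1,
          PGroup.card_sup_zpowers_frattini hRp le_rfl hx1,
          ← Subgroup.card_mul_index (frattini ↥R), mul_assoc, ← pow_two]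
        exact Nat.mul_le_mul_left _ (H.index_frattini_le hRp)
      have hgen : Subgroup.zpowers xR ⊔ Subgroup.zpowers yR = ⊤ :=
        frattini_nongenerating (by rw [← htop]; ac_rfl)
      have hyx : xR ∈ Subgroup.centralizer (Subgroup.zpowers yR : Set ↥R) := by
        rintro _ ⟨k, rfl⟩
        exact (Commute.zpow_left (Subtype.ext
          (Subgroup.mem_centralizer_singleton_iff.mp (hXx hyX)) : Commute yR xR) k).eq
      have hcom := PGroup.isMulCommutative_sup_zpowers (A := Subgroup.zpowers yR) inferInstance hyx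
      rw [sup_comm, hgen] at hcom
      exact ⟨⟨fun u v =>
        PGroup.mul_comm_of_isMulCommutative hcom (Subgroup.mem_top u) (Subgroup.mem_top v)⟩⟩
  have hDab : IsMulCommutative ↥D := IsCyclic.isMulCommutative
  have hDne : D ≠ ⊥ := fun h => hDA (by rw [h]; exact fun _ _ d hd => by rw [Subgroup.mem_bot.mp hd]; simp)
  have hDp : IsPGroup p ↥D := hRp.to_le hDR
  obtain ⟨e', he'⟩ := IsPGroup.iff_card.mp hDp
  have hcopD : (Nat.card A).Coprime (Nat.card D) := he' ▸ hcop.pow_right e'
  have hDCA : D ⊓ Subgroup.centralizer (A : Set G) = ⊥ := by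
    have hbot := Coprime.inf_centralizer_inf_commutator_eq_bot hAD hcopD
    by_contra hne
    have hne2 : ⁅D, A⁆ ≠ ⊥ := fun h => hDA (Coprime.le_centralizer_iff_commutator_eq_bot.mpr h)
    set U := (D ⊓ Subgroup.centralizer (A : Set G)).subgroupOf D
    set V := ⁅D, A⁆.subgroupOf D
    obtain ⟨g, hg⟩ := Subgroup.isCyclic_iff_exists_zpowers_eq_top D |>.mp hDc
    have hle1 : D ⊓ Subgroup.centralizer (A : Set G) ≤ Subgroup.zpowers g := inf_le_left.trans hg.ge
    have hle2 : ⁅D, A⁆ ≤ Subgroup.zpowers g :=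
      (Coprime.commutator_le_left_of_le_normalizer hAD).trans hg.ge
    have hgR : g ∈ R := hDR (hg ▸ Subgroup.mem_zpowers g)
    have hpg : IsPGroup p ↥(Subgroup.zpowers g) := hRp.to_le (Subgroup.zpowers_le.mpr hgR)
    set g' : ↥(Subgroup.zpowers g) := ⟨g, Subgroup.mem_zpowers g⟩
    have htop : ∀ K : Subgroup ↥(Subgroup.zpowers g), K ≤ Subgroup.zpowers g' := fun K z _ => by
      obtain ⟨i, hi⟩ := Subgroup.mem_zpowers_iff.mp z.2
      exact ⟨i, Subtype.ext (by simpa [g'] using hi)⟩
    obtain ⟨u, hu, -⟩ := PGroup.exists_eq_zpowers_pow hpg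
      (htop ((D ⊓ Subgroup.centralizer (A : Set G)).subgroupOf _))
    obtain ⟨v, hv, -⟩ := PGroup.exists_eq_zpowers_pow hpg (htop (⁅D, A⁆.subgroupOf _))
    have key : ∀ K : Subgroup G, K ≤ Subgroup.zpowers g → ∀ w : ℕ,
        K.subgroupOf (Subgroup.zpowers g) = Subgroup.zpowers (g' ^ p ^ w) →
        K = Subgroup.zpowers (g ^ p ^ w) := fun K hK w hw => by
      have h1 := congrArg (Subgroup.map (Subgroup.zpowers g).subtype) hw
      rwa [Subgroup.map_subgroupOf_eq_of_le hK, MonoidHom.map_zpowers] at h1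
    have hu' := key _ hle1 u hu
    have hv' := key _ hle2 v hv
    have hmono : ∀ i j : ℕ, i ≤ j → Subgroup.zpowers (g ^ p ^ j) ≤ Subgroup.zpowers (g ^ p ^ i) :=
      fun i j hij => by
        rw [Subgroup.zpowers_le, ← Nat.add_sub_cancel' hij, pow_add, pow_mul]
        exact Subgroup.pow_mem _ (Subgroup.mem_zpowers _) _
    rcases le_total u v with huv | huv
    · refine hne2 (le_bot_iff.mp ?_)
      rw [← hbot]
      exact le_inf (hu' ▸ hv' ▸ hmono u v huv) le_rfl
    · refine hne (le_bot_iff.mp ?_)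
      rw [← hbot]
      exact le_inf le_rfl (hu' ▸ hv' ▸ hmono v u huv)
  have hDC : D ⊓ C = ⊥ := le_bot_iff.mp (hDCA ▸ inf_le_inf_left D inf_le_right)
  have hDX : D ≤ X := by
    intro d hd
    obtain ⟨c, hc, m, hm, rfl⟩ := Coprime.exists_centralizer_mul_commutator hAD hcopD
      (Or.inr (Coprime.isSolvable_of_le hDR hsR)) hd
    rw [hDCA] at hc
    rw [Subgroup.mem_bot.mp hc, one_mul]
    exact Subgroup.commutator_mono hDR le_rfl hm
  have hXC : X ⊓ C = ⊥ := le_bot_iff.mp (hDC ▸ le_inf hinfD inf_le_right)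
  have hCab : IsMulCommutative ↥C := by
    refine PGroup.isMulCommutative_of_forall fun u hu v hv => ?_
    refine commutatorElement_eq_one_iff_mul_comm.mp (Subgroup.mem_bot.mp ?_)
    rw [← hDC]
    refine ⟨Subgroup.commutator_mem_commutator hu.1 hv.1, ?_⟩
    rw [commutatorElement_def]
    exact C.mul_mem (C.mul_mem (C.mul_mem hu hv) (C.inv_mem hu)) (C.inv_mem hv)
  -- `C` is cyclic
  have hCcyc : IsCyclic ↥C := by
    have hDne' : commutator ↥R ≠ ⊥ := hna
    obtain ⟨z, hzD, hzc, hzo⟩ := PGroup.exists_orderOf_eq_mem_center hRp (commutator ↥R) hDne'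
    have hC' : IsMulCommutative ↥(C.subgroupOf R) := PGroup.isMulCommutative_of_forall
      fun u hu v hv => Subtype.ext (PGroup.mul_comm_of_isMulCommutative hCab hu hv)
    have hzC : z ∉ C.subgroupOf R := fun h => by
      have : (z : G) ∈ D ⊓ C := ⟨hDmap ▸ Subgroup.mem_map_of_mem R.subtype hzD, h⟩
      rw [hDC, Subgroup.mem_bot, OneMemClass.coe_eq_one] at this
      rw [this, orderOf_one] at hzo
      exact hp0.ne_one hzo.symm
    have := isCyclic_of_commute H hRp hC' (w := z) (hzo ▸ pow_orderOf_eq_one z) hzC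
      (fun c _ => Subgroup.mem_center_iff.mp hzc c)
    exact isCyclic_of_surjective _ (Subgroup.subgroupOfEquivOfLe (inf_le_left : C ≤ R)).surjective
  -- `X` is cyclic
  have hXcyc : IsCyclic ↥X := by
    let q : ↥R →* ↥R ⧸ commutator ↥R := QuotientGroup.mk' _
    have hsurj := QuotientGroup.mk'_surjective (commutator ↥R)
    have Hq : PGroup.MetaGen (q a) (q b) := by
      refine ⟨?_, fun g => ?_⟩
      · rw [← MonoidHom.map_zpowers]
        exact Subgroup.Normal.map H.normal _ hsurj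
      · obtain ⟨g', rfl⟩ := hsurj g
        obtain ⟨i, j, rfl⟩ := H.gen g'
        exact ⟨i, j, by rw [map_mul, map_zpow, map_zpow]⟩
    have hqab : ∀ u v : ↥R ⧸ commutator ↥R, u * v = v * u := fun u v => by
      obtain ⟨u', rfl⟩ := hsurj u
      obtain ⟨v', rfl⟩ := hsurj v
      show q u' * q v' = q v' * q u'
      rw [← commutatorElement_eq_one_iff_mul_comm, ← map_commutatorElement]
      exact (QuotientGroup.eq_one_iff _).mpr
        (Subgroup.commutator_mem_commutator (Subgroup.mem_top _) (Subgroup.mem_top _))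
    obtain ⟨c, hc⟩ := exists_prime_orderOf_dvd_card' p (G := ↥C) (by
      obtain ⟨k, hk⟩ := IsPGroup.iff_card.mp (hRp.to_le (inf_le_left : C ≤ R))
      rcases k with _ | k
      · exact absurd (Subgroup.card_eq_one.mp (by rw [hk, pow_zero])) hCne
      · exact ⟨p ^ k, by rw [hk]; ring⟩)
    set w : ↥R := ⟨c, c.2.1⟩
    have hwp : (c : G) ^ p = 1 := by
      rw [← SubmonoidClass.coe_pow, ← hc, pow_orderOf_eq_one]; rfl
    have hwX : q w ∉ (X.subgroupOf R).map q := by
      rintro ⟨y, hy, hyw⟩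
      have h1 : y⁻¹ * w ∈ commutator ↥R := QuotientGroup.eq.mp hyw
      have h2 : (y : G)⁻¹ * (c : G) ∈ X := hDX (hDmap ▸ Subgroup.mem_map_of_mem R.subtype h1)
      have h3 : (c : G) ∈ X ⊓ C := ⟨by
        have h4 : (y : G) * ((y : G)⁻¹ * (c : G)) ∈ X := X.mul_mem hy h2
        rwa [mul_inv_cancel_left] at h4, c.2⟩
      rw [hXC, Subgroup.mem_bot, OneMemClass.coe_eq_one] at h3
      rw [h3, orderOf_one] at hc
      exact hp0.ne_one hc.symm
    have hcyc := isCyclic_of_commute Hq (hRp.to_quotient _)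
      (PGroup.isMulCommutative_of_forall fun u _ v _ => hqab u v : IsMulCommutative
        ↥((X.subgroupOf R).map q)) (w := q w)
      (by rw [← map_pow, show w ^ p = 1 from Subtype.ext (by simpa [w] using hwp), map_one]) hwX
      (fun u _ => hqab u (q w))
    obtain ⟨Y, hY⟩ := Subgroup.isCyclic_iff_exists_zpowers_eq_top _ |>.mp hcyc
    obtain ⟨y, hyX, rfl⟩ : Y ∈ (X.subgroupOf R).map q := hY ▸ Subgroup.mem_zpowers Y
    have hXgen : ∀ u : G, u ∈ X → ∃ k : ℤ, ((y : G) ^ k)⁻¹ * u ∈ D := by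
      intro u hu
      obtain ⟨k, hk⟩ := Subgroup.mem_zpowers_iff.mp (hY.symm ▸
        Subgroup.mem_map_of_mem q (K := X.subgroupOf R) (x := ⟨u, hXR hu⟩) hu :
        q ⟨u, hXR hu⟩ ∈ Subgroup.zpowers (q y))
      rw [← map_zpow] at hk
      have h1 := hDmap ▸ Subgroup.mem_map_of_mem R.subtype (QuotientGroup.eq.mp hk)
      exact ⟨k, by simpa using h1⟩
    have hXp : IsPGroup p ↥X := hRp.to_le hXR
    -- `R' ≤ Φ(X)`
    have hr := H.isRegular hRp hp
    have hDΦ : D ≤ (frattini ↥X).map X.subtype := by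
      have hgenD : D = Subgroup.zpowers ((⁅b, a⁆ : ↥R) : G) := by
        rw [← hDmap, H.commutator_eq, MonoidHom.map_zpowers]; rfl
      rw [hgenD, Subgroup.zpowers_le]
      obtain ⟨w', hw'⟩ := H.commutator_le_pow hRp hp
        (Subgroup.commutator_mem_commutator (Subgroup.mem_top b) (Subgroup.mem_top a))
      obtain ⟨c', hc', m, hm, hcm⟩ :=
        Coprime.exists_centralizer_mul_commutator hA hcopR hsolv (a ^ w').2
      obtain ⟨d, hd, hrule⟩ := hr.2 ⟨c', hc'.1⟩ ⟨m, hXR hm⟩ 1
      rw [pow_one] at hrule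
      have heq : ((⁅b, a⁆ : ↥R) : G) = c' ^ p * m ^ p * d := by
        have h1 : ⁅b, a⁆ = (a ^ w') ^ p := by
          simp only at hw'
          rw [← hw', ← zpow_natCast, ← zpow_natCast, ← zpow_mul, ← zpow_mul, mul_comm]
        have h2 : a ^ w' = (⟨c', hc'.1⟩ : ↥R) * ⟨m, hXR hm⟩ := Subtype.ext hcm
        rw [h1, h2, hrule]
        rfl
      have hdD : (d : G) ∈ (frattini ↥X).map X.subtype := by
        have hle : PGroup.HasPowerRule p 1 ↥R := fun u v => hr.2 u v 1
        obtain ⟨d', hd', rfl⟩ := PGroup.exists_eq_pow_of_mem_powerClosure hRp hle _ d hd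
        have hd'X : (d' : G) ∈ X := hDX (hDmap ▸ Subgroup.mem_map_of_mem R.subtype
          ((Subgroup.commutator_mono le_top le_top : _ ≤ commutator ↥R) hd'))
        exact ⟨⟨_, hd'X⟩ ^ p, PGroup.pow_mem_frattini hXp _, by simp⟩
      have hmΦ : m ^ p ∈ (frattini ↥X).map X.subtype :=
        ⟨⟨m, hm⟩ ^ p, PGroup.pow_mem_frattini hXp _, by simp⟩
      have hcp : c' ^ p = 1 := by
        refine Subgroup.mem_bot.mp (hXC ▸ ?_)
        refine ⟨?_, C.pow_mem hc' p⟩
        have hDm : ((⁅b, a⁆ : ↥R) : G) ∈ X := hDX (hgenD ▸ Subgroup.mem_zpowers _)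
        have := X.mul_mem (X.mul_mem hDm (X.inv_mem (Subgroup.map_subtype_le _ hdD)))
          (X.inv_mem (X.pow_mem hm p))
        rwa [heq, mul_inv_cancel_right, mul_inv_cancel_right] at this
      rw [heq, hcp, one_mul]
      exact Subgroup.mul_mem _ hmΦ hdD
    set yX : ↥X := ⟨y, hyX⟩
    have htopX : Subgroup.zpowers yX = ⊤ := by
      refine frattini_nongenerating (eq_top_iff.mpr fun u _ => ?_)
      obtain ⟨k, hk⟩ := hXgen u u.2
      obtain ⟨φ, hφ, hφk⟩ := hDΦ hk
      have hu : u = yX ^ k * φ := by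
        refine Subtype.ext ?_
        rw [Subgroup.coe_mul, show (φ : G) = ((y : G) ^ k)⁻¹ * u from hφk, Subgroup.coe_zpow]
        simp [yX]
      rw [hu]
      exact Subgroup.mul_mem _ (Subgroup.mem_sup_left ⟨k, rfl⟩) (Subgroup.mem_sup_right hφ)
    exact isCyclic_iff_exists_zpowers_eq_top.mpr ⟨yX, htopX⟩
  exact ⟨IsCyclic.isMulCommutative, hsup, hXC, fun _ _ => ⟨hXne, hXcyc, hCne, hCcyc, hDX⟩⟩

end Cfsg.Agent.S1447
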