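import Cfsg.Statements.S1449
import Cfsg.Agent.Lib.OddOrder.DerivedNilpotent
import Cfsg.Agent.Lib.Coprime.Sylow
-- import your own Cfsg.Agent.* helpers here

set_option autoImplicit false
open Cfsg

namespace Cfsg.Agent.S1449

/-- Let G be a finite group, p an odd prime, R a p-subgroup with no elementary abelian subgroup of order p ^ 3, and A a solvable subgroup of odd order normalizing R with A ∩ C_G(R) = 1. Then the derived subgroup [A, A] is a p-group. -/
theorem result {G : Type*} [Group G] [Finite G] (p : ℕ) [Fact p.Prime] (hp : p ≠ 2) (R A : Subgroup G) (hR : IsPGroup p R) (hr : Cfsg.PRankLE p 2 R)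
    (hA : (A ≤ Subgroup.normalizer (R : Set G))) (hAs : Group.IsSolvable A) (hAodd : Odd (Nat.card A)) (hfaith : A ⊓ Subgroup.centralizer (R : Set G) = ⊥) :
    IsPGroup p ↥⁅A, A⁆ := by
  set X := A ⊔ R with hX
  haveI hRn : (R.subgroupOf X).Normal := (Subgroup.normal_subgroupOf_iff_le_normalizer le_sup_right).2
    (sup_le hA Subgroup.le_normalizer)
  haveI : Group.IsSolvable X := by
    haveI : Group.IsNilpotent R := hR.isNilpotent
    haveI : Group.IsSolvable (R.subgroupOf X) := Coprime.isSolvable_subgroupOf le_sup_right inferInstance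
    haveI : Group.IsSolvable (X ⧸ R.subgroupOf X) := by
      refine Group.isSolvable_of_surjective
        (f := (QuotientGroup.mk' (R.subgroupOf X)).comp (Subgroup.inclusion le_sup_left)) ?_
      intro y
      obtain ⟨⟨x, hx⟩, rfl⟩ := QuotientGroup.mk'_surjective (R.subgroupOf X) y
      obtain ⟨a, ha, r, hr', rfl⟩ := (Coprime.mem_sup_iff_of_le_normalizer hA).1 hx
      refine ⟨⟨a, ha⟩, ?_⟩
      show (QuotientGroup.mk (Subgroup.inclusion le_sup_left ⟨a, ha⟩) : X ⧸ R.subgroupOf X) = QuotientGroup.mk _
      refine QuotientGroup.eq.2 ?_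
      show a⁻¹ * (a * r) ∈ R
      rwa [inv_mul_cancel_left]
    exact Group.isSolvable_of_ker_le_range (R.subgroupOf X).subtype (QuotientGroup.mk' (R.subgroupOf X))
      (by rw [QuotientGroup.ker_mk', Subgroup.range_subtype])
  have hodd : Odd (Nat.card X) := by
    have h1 := Subgroup.relIndex_mul_relIndex ⊥ R X bot_le le_sup_right
    rw [Subgroup.relIndex_bot_left, Subgroup.relIndex_bot_left, hX,
      Coprime.relIndex_sup_right_of_le_normalizer hA] at h1
    rw [hX, ← h1]
    refine Odd.mul ?_ (hAodd.of_dvd_nat (R.relIndex_dvd_card A))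
    obtain ⟨k, hk⟩ := hR.exists_card_eq
    exact hk ▸ ((Fact.out : p.Prime).odd_of_ne_two hp).pow
  refine PComplement.isPrimePow_orderOf_of_forall fun a ha hac => ?_
  have haA : a ∈ A := A.commutator_le_self ha
  have hax : (⟨a, Subgroup.mem_sup_left haA⟩ : X) ∈ commutator X := by
    have hmap : ⁅A, A⁆ ≤ (commutator X).map X.subtype := by
      rw [commutator_def, Subgroup.map_commutator, ← MonoidHom.range_eq_map, Subgroup.range_subtype]
      exact Subgroup.commutator_mono le_sup_left le_sup_left
    obtain ⟨w, hw, hwa⟩ := hmap ha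
    rwa [show (⟨a, Subgroup.mem_sup_left haA⟩ : X) = w from Subtype.ext hwa.symm]
  have h := OddOrder.commutator_mem_centralizer_of_rankTwo hodd (R.subgroupOf X) hR.comap_subtype
    (OddOrder.pRankLE_of_injective (f := (Subgroup.subgroupOfEquivOfLe (le_sup_right : R ≤ X)).toMonoidHom)
      (MulEquiv.injective _) hr)
    hax (by rwa [← Subgroup.orderOf_coe])
  refine Subgroup.mem_bot.1 (hfaith.le ⟨haA, Subgroup.mem_centralizer_iff.2 fun r hr' => ?_⟩)
  exact congrArg Subtype.val (Subgroup.mem_centralizer_iff.1 h ⟨r, Subgroup.mem_sup_right hr'⟩ hr')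

end Cfsg.Agent.S1449
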