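import Cfsg.Statements.S1452
import Cfsg.Agent.Lib.PGroup.NormalElementary

set_option autoImplicit false
open Cfsg

namespace Cfsg.Agent.S1452

/-- Let p be an odd prime and R a finite p-group containing an elementary abelian subgroup of order p ^ 3. If E is a normal elementary abelian subgroup of R of order p ^ 2, then E ≤ A for some normal subgroup A of R with C_R(A) = A that contains an elementary abelian subgroup of order p ^ 3. -/
theorem result {R : Type*} [Group R] [Finite R] (p : ℕ) [Fact p.Prime] (hp : p ≠ 2) (hR : IsPGroup p R) (hr : ¬ Cfsg.PRankLE p 2 R)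
    (E : Subgroup R) [E.Normal] (hE : Cfsg.IsElementaryAbelian p E) (hE2 : Nat.card E = p ^ 2) :
    ∃ A : Subgroup R, E ≤ A ∧ A.Normal ∧ Subgroup.centralizer (A : Set R) = A ∧ ¬ Cfsg.PRankLE p 2 A := by
  obtain ⟨U, hEU, hUn, hUe, hU3⟩ := PGroup.exists_normal_elementary_cube_ge hp hR hr hE
  obtain ⟨A, hUA, hAn, hAc, hAmax⟩ := PGroup.exists_maximal_abelian_normal_ge U hUe.1
  haveI := hAn
  refine ⟨A, hEU.trans hUA, hAn, PGroup.centralizer_eq_of_maximal_abelian_normal hR hAc hAmax, fun h => ?_⟩
  have h1 := h (U.subgroupOf A) ?_ ?_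
  · rw [Coprime.card_subgroupOf hUA] at h1
    exact absurd (hU3.trans h1) (not_le.2 (Nat.pow_lt_pow_right (Fact.out : p.Prime).one_lt (by norm_num)))
  · exact PGroup.isMulCommutative_of_forall fun x hx y hy =>
      Subtype.ext (PGroup.mul_comm_of_elementaryAbelian hUe hx hy)
  · exact fun x hx => Subtype.ext (hUe.2 x hx)

end Cfsg.Agent.S1452
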