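import Cfsg.Statements.S1454
import Cfsg.Agent.Lib.OddOrder.NarrowAut
import Cfsg.Agent.Lib.PrimeGraph.ThreePrimes

set_option autoImplicit false
set_option linter.style.haveILetI false
open Cfsg

namespace Cfsg.Agent.S1454

open Subgroup (centralizer normalizer zpowers)
open scoped commutatorElement

/-- Let G be a finite group, p an odd prime, R a narrow p-subgroup and A a solvable subgroup of odd order normalizing R with A ∩ C_G(R) = 1. Then [A, A] ≤ O_p(A) and the index of O_p(A) in A is coprime to p; if R has an elementary abelian subgroup of order p ^ 3 then the order of every element of A of order coprime to p divides p − 1; and if the order of A is a prime not dividing p(p − 1), then 2·#A divides p + 1, and if in addition [R, A] = R and R is non-abelian then #R = p ^ 3. -/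
theorem result {G : Type*} [Group G] [Finite G] (p : ℕ) [Fact p.Prime] (hp : p ≠ 2) (R A : Subgroup G) (hR : IsPGroup p R) (hRn : Cfsg.IsNarrow p R)
    (hA : (A ≤ Subgroup.normalizer (R : Set G))) (hAs : Group.IsSolvable A) (hAodd : Odd (Nat.card A)) (hfaith : A ⊓ Subgroup.centralizer (R : Set G) = ⊥) :
    (commutator ↥A ≤ Cfsg.pCore p ↥A ∧ ((Cfsg.pCore p ↥A).index).Coprime p) ∧
      (¬ Cfsg.PRankLE p 2 R → ∀ a ∈ A, (orderOf a).Coprime p → orderOf a ∣ p - 1) ∧
      ((Nat.card A).Prime → ¬ Nat.card A ∣ p * (p - 1) →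
        2 * Nat.card A ∣ p + 1 ∧ (⁅R, A⁆ = R → ¬ IsMulCommutative R → Nat.card R = p ^ 3)) := by
  have hpp : p.Prime := Fact.out
  set K := R ⊔ A with hK
  have hRK : R ≤ K := le_sup_left
  have hAK : A ≤ K := le_sup_right
  set U := R.subgroupOf K with hUdef
  haveI hUn : U.Normal := Subgroup.normal_subgroupOf_of_le_normalizer (sup_le Subgroup.le_normalizer hA)
  let e : ↥R ≃* ↥U := (Subgroup.subgroupOfEquivOfLe hRK).symm
  have hUp : IsPGroup p U := hR.of_equiv e
  have hrU : Cfsg.PRankLE p 2 R → Cfsg.PRankLE p 2 U := fun h =>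
    OddOrder.pRankLE_of_injective (f := e.symm.toMonoidHom) e.symm.injective h
  have hrR : Cfsg.PRankLE p 2 U → Cfsg.PRankLE p 2 R := fun h =>
    OddOrder.pRankLE_of_injective (f := e.toMonoidHom) e.injective h
  -- `A` acts faithfully
  have hfix : ∀ a (ha : a ∈ A), (⟨a, hAK ha⟩ : K) ∈ centralizer (U : Set K) → a = 1 := fun a ha h => by
    have h1 : a ∈ A ⊓ centralizer (R : Set G) := ⟨ha, Subgroup.mem_centralizer_iff.2 fun r hr =>
      congrArg Subtype.val (Subgroup.mem_centralizer_iff.1 h ⟨r, hRK hr⟩ (Subgroup.mem_subgroupOf.2 hr))⟩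
    rwa [hfaith, Subgroup.mem_bot] at h1
  -- the rank at least 3 criterion
  have hbig : ¬ Cfsg.PRankLE p 2 R → ∀ a (ha : a ∈ A), (orderOf a).Coprime p →
      (∀ M N : Subgroup K, M.Normal → N.Normal → N ≤ M → M ≤ U → N.relIndex M = p →
        ∀ m ∈ M, ⁅(⟨a, hAK ha⟩ : K), m⁆ ∈ N) → a = 1 := by
    intro hr a ha hac hx
    obtain ⟨E, hE, hE2, hEmax⟩ := OddOrder.exists_maximal_square_of_narrow hR hr hRn
    refine hfix a ha (OddOrder.mem_centralizer_of_narrow hp U hUp (fun h => hr (hrR h))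
      (E := E.map e.toMonoidHom) (PGroup.isElementaryAbelian_map hE _)
      (by rw [Subgroup.card_map_of_injective (f := e.toMonoidHom) e.injective, hE2])
      (fun B hB hEB => ?_) (by rwa [Subgroup.orderOf_mk]) hx)
    have h1 := hEmax (B.map e.symm.toMonoidHom) (PGroup.isElementaryAbelian_map hB _) fun c hc =>
      ⟨e c, hEB ⟨c, hc, rfl⟩, e.symm_apply_apply c⟩
    exact le_antisymm (fun b hb => ⟨e.symm b, h1.le ⟨b, hb, rfl⟩, e.apply_symm_apply b⟩) hEB
  have h2 : ¬ Cfsg.PRankLE p 2 R → ∀ a ∈ A, (orderOf a).Coprime p → orderOf a ∣ p - 1 := by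
    intro hr a ha hac
    refine orderOf_dvd_of_pow_eq_one (hbig hr (a ^ (p - 1)) (pow_mem ha _)
      (hac.coprime_dvd_left (orderOf_pow_dvd _)) fun M N _ _ _ _ h m hm => ?_)
    exact OddOrder.pow_pred_commutator_mem h (⟨a, hAK ha⟩ : K) hm
  -- solvability and parity of `R ⊔ A`
  haveI : Group.IsNilpotent R := hR.isNilpotent
  haveI := hAs
  haveI hKs : Group.IsSolvable K := PrimeGraph.isSolvable_sup_of_le_normalizer R A hA
  have hKodd : Odd (Nat.card K) := by
    have hsup : U ⊔ A.subgroupOf K = ⊤ := by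
      rw [hUdef, ← Subgroup.subgroupOf_sup hRK hAK, Subgroup.subgroupOf_self]
    have h := PCore.card_sup_dvd U (A.subgroupOf K)
    rw [hsup, Subgroup.card_top, Coprime.card_subgroupOf hRK, Coprime.card_subgroupOf hAK] at h
    obtain ⟨k, hk⟩ := hR.exists_card_eq
    exact (((hpp.odd_of_ne_two hp).pow (n := k)).mul hAodd).of_dvd_nat (hk ▸ h)
  -- `A'` is a p-group
  have hder : ∀ a : A, a ∈ commutator A → (orderOf a).Coprime p → a = 1 := by
    intro a ha hac
    have hcK : (⟨a, hAK a.2⟩ : K) ∈ commutator K := by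
      have h := Subgroup.mem_map_of_mem (Subgroup.inclusion hAK) ha
      rw [commutator_def, Subgroup.map_commutator] at h
      exact Subgroup.commutator_mono le_top le_top h
    have hac' : (orderOf (a : G)).Coprime p := by rwa [Subgroup.orderOf_coe]
    by_cases hr : Cfsg.PRankLE p 2 R
    · exact Subtype.ext (hfix a a.2
        (OddOrder.commutator_mem_centralizer_of_rankTwo hKodd U hUp (hrU hr) hcK (by rwa [Subgroup.orderOf_mk])))
    · exact Subtype.ext (hbig hr a a.2 hac' fun M N _ _ _ _ h m hm =>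
        OddOrder.commutator_mem_of_relIndex_eq h hcK hm)
  have hA' : IsPGroup p (commutator A) := by
    refine PComplement.isPrimePow_orderOf_of_forall fun a ha hac => ?_
    exact hder a ha hac
  refine ⟨⟨PCore.le_pCore hA', ?_⟩, h2, ?_⟩
  · obtain ⟨P⟩ : Nonempty (Sylow p A) := inferInstance
    have hcP : commutator A ≤ P := (PCore.le_pCore hA').trans (PCore.pCore_le_sylow P)
    haveI : (P : Subgroup A).Normal := Subgroup.Normal.of_commutator_le A hcP
    rw [le_antisymm (PCore.pCore_le_sylow P) (PCore.le_pCore P.2)]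
    exact (hpp.coprime_iff_not_dvd.2 P.not_dvd_index).symm
  -- a group of prime order not dividing `p (p - 1)`
  intro hq hnd
  set q := Nat.card A with hqdef
  have hqp : q ≠ p := fun h => hnd (by rw [h]; exact dvd_mul_right p _)
  have hq1 : ¬ q ∣ p - 1 := fun h => hnd (h.mul_left p)
  obtain ⟨a, ha, ha1⟩ : ∃ a ∈ A, a ≠ 1 := by
    obtain ⟨⟨a, ha⟩, ha1⟩ := Subgroup.ne_bot_iff_exists_ne_one.1 fun h : A = ⊥ =>
      hq.ne_one (by rw [hqdef, h, Subgroup.card_bot])
    exact ⟨a, ha, fun h => ha1 (Subtype.ext h)⟩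
  have haq : orderOf a = q :=
    ((Nat.dvd_prime hq).1 (Subgroup.orderOf_dvd_natCard A ha)).resolve_left (mt orderOf_eq_one_iff.1 ha1)
  have hac : (orderOf a).Coprime p := haq ▸ (Nat.coprime_primes hq hpp).2 hqp
  by_cases hr : Cfsg.PRankLE p 2 R
  swap
  · exact absurd (haq ▸ h2 hr a ha hac) hq1
  set x : K := ⟨a, hAK ha⟩
  have hxq : orderOf x = q := by rw [Subgroup.orderOf_mk, haq]
  have hxU : x ∉ centralizer (U : Set K) := fun h => ha1 (hfix a ha h)
  refine ⟨?_, fun hRA hab => ?_⟩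
  · refine Nat.Coprime.mul_dvd_of_dvd_of_dvd ?_ (even_iff_two_dvd.1 ((hpp.odd_of_ne_two hp).add_odd odd_one))
      (OddOrder.dvd_add_one_of_rankTwo hp hq hqp hq1 U hUp (hrU hr) hxq hxU)
    exact Nat.Coprime.symm (hq.coprime_iff_not_dvd.2 fun h =>
      Nat.not_even_iff_odd.2 hAodd (even_iff_two_dvd.2 (by rw [(Nat.prime_dvd_prime_iff_eq hq Nat.prime_two).1 h])))
  have hA1 : zpowers a = A :=
    Subgroup.eq_of_le_of_card_ge (Subgroup.zpowers_le.2 ha) (by rw [Nat.card_zpowers, haq])
  have hUmap : U.map K.subtype = R := Subgroup.map_subgroupOf_eq_of_le hRK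
  have h3 := OddOrder.card_eq_cube_of_commutator_ne_bot hp hq hqp hq1 U hUp (hrU hr) hxq ?_ ?_
  · rwa [Coprime.card_subgroupOf hRK] at h3
  · intro u hu
    have h : (u : G) ∈ ⁅R, A⁆ := hRA.ge (Subgroup.mem_subgroupOf.1 hu)
    rw [← hA1, ← hUmap, show zpowers a = (zpowers x).map K.subtype from (MonoidHom.map_zpowers K.subtype x).symm,
      ← Subgroup.map_commutator] at h
    exact (Subgroup.mem_map_iff_mem K.subtype_injective).1 h
  · intro h
    refine hab ⟨⟨fun r s => ?_⟩⟩
    have h4 : ⁅(⟨r, hRK r.2⟩ : K), ⟨s, hRK s.2⟩⁆ ∈ ⁅U, U⁆ :=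
      Subgroup.commutator_mem_commutator (Subgroup.mem_subgroupOf.2 r.2) (Subgroup.mem_subgroupOf.2 s.2)
    rw [h, Subgroup.mem_bot, commutatorElement_eq_one_iff_mul_comm] at h4
    exact Subtype.ext (congrArg (fun k : K => (k : G)) h4)

end Cfsg.Agent.S1454
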