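import Cfsg.Statements.S1455
import Cfsg.Agent.Lib.OddOrder.Narrow
import Cfsg.Agent.Lib.OddOrder.RankTwoStructure
import Cfsg.Agent.Lib.OddOrder.PLengthOne
-- import your own Cfsg.Agent.* helpers here

set_option autoImplicit false
open Cfsg

namespace Cfsg.Agent.S1455

/-- Let G be a solvable group of odd order, p a prime dividing its order, and S a Sylow p-subgroup of G that is narrow; if S has an elementary abelian subgroup of order p ^ 3 assume also G = O_{p',p,p'}(G). Then every prime dividing the index of O_{p'}(G) is at most p; if p = 3 or p is the smallest prime divisor of #G then G has a normal p-complement; G' has a normal p-complement; every subgroup of G' of order coprime to p lies in O_{p'}(G'); and G' ≤ O_{p',p}(G) with the index of O_{p',p}(G) coprime to p. -/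
theorem result {G : Type*} [Group G] [Finite G] [Group.IsSolvable G] (hodd : Odd (Nat.card G)) (p : ℕ) [Fact p.Prime] (hpG : p ∣ Nat.card G) (S : Sylow p G) (hS : Cfsg.IsNarrow p ↥(S : Subgroup G))
    (hpl : ¬ Cfsg.PRankLE p 2 ↥(S : Subgroup G) → Cfsg.PLengthLE p 1 G) :
    (∀ q : ℕ, q.Prime → q ∣ (Cfsg.pPrimeCore p G).index → q ≤ p) ∧
      ((p = 3 ∨ ∀ q : ℕ, q.Prime → q ∣ Nat.card G → p ≤ q) → Cfsg.HasNormalPComplement p G) ∧
      Cfsg.HasNormalPComplement p ↥(commutator G) ∧
      (∀ L : Subgroup ↥(commutator G), (Nat.card L).Coprime p → L ≤ Cfsg.pPrimeCore p ↥(commutator G)) ∧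
      commutator G ≤ Cfsg.pPrimePCore p G ∧ ((Cfsg.pPrimePCore p G).index).Coprime p := by
  have hodd' := OddOrder.odd_quotient hodd (Cfsg.pPrimeCore p G)
  have hd : p ∣ Nat.card (G ⧸ Cfsg.pPrimeCore p G) := by
    have h := (Cfsg.pPrimeCore p G).card_mul_index
    exact (((Fact.out : p.Prime).dvd_mul).1 (h.symm ▸ hpG)).resolve_left PCore.not_dvd_card_pPrimeCore
  by_cases hrS : Cfsg.PRankLE p 2 (S : Subgroup G)
  · have hle := OddOrder.sylow_le_pPrimePCore_of_rankTwo hodd S hrS
    obtain ⟨h1, h2⟩ := OddOrder.action_of_rankTwo hodd' hd _ PCore.isPGroup_pCore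
      (OddOrder.pRankLE_of_le (PCore.pCore_le_sylow (S.mapSurjective (QuotientGroup.mk'_surjective _)))
        (OddOrder.pRankLE_quotient_sylow S hrS))
    exact OddOrder.structure_of_action hodd S hle h1 h2
  have hle : (S : Subgroup G) ≤ Cfsg.pPrimePCore p G := OddOrder.le_pPrimePCore_of_pLength (hpl hrS) S.2
  have hp := OddOrder.ne_two_of_odd_of_dvd hodd hpG
  obtain ⟨E, hE, hE2, hEmax⟩ := OddOrder.exists_maximal_square_of_narrow S.2 hrS hS
  set π := QuotientGroup.mk' (Cfsg.pPrimeCore p G) with hπ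
  set U := Cfsg.pCore p (G ⧸ Cfsg.pPrimeCore p G) with hU
  have hSU : (S : Subgroup G).map π = U := by
    refine le_antisymm (Subgroup.map_le_iff_le_comap.2 hle) ?_
    have h := PCore.pCore_le_sylow (S.mapSurjective (QuotientGroup.mk'_surjective (Cfsg.pPrimeCore p G)))
    rwa [Sylow.coe_mapSurjective] at h
  let f : (S : Subgroup G) →* U := (π.comp (S : Subgroup G).subtype).codRestrict U fun s =>
    hSU.le ⟨s, s.2, rfl⟩
  have hf : Function.Bijective f := by
    refine ⟨fun a b h => Subtype.ext ?_, fun u => ?_⟩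
    · have h1 : (a : G)⁻¹ * b ∈ (S : Subgroup G) ⊓ Cfsg.pPrimeCore p G :=
        ⟨(S : Subgroup G).mul_mem ((S : Subgroup G).inv_mem a.2) b.2, QuotientGroup.eq.1 (congrArg Subtype.val h)⟩
      rw [(PCore.disjoint_of_isPGroup_of_coprime S.2 PCore.coprime_card_pPrimeCore).eq_bot,
        Subgroup.mem_bot, inv_mul_eq_one] at h1
      exact h1
    · obtain ⟨s, hs, hsu⟩ := hSU.ge u.2
      exact ⟨⟨s, hs⟩, Subtype.ext hsu⟩
  let e := MulEquiv.ofBijective f hf
  have hrU : ¬ Cfsg.PRankLE p 2 U := fun h => hrS (OddOrder.pRankLE_of_injective (f := e.toMonoidHom) e.injective h)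
  have hkey := fun (x : G ⧸ Cfsg.pPrimeCore p G) (hc : (orderOf x).Coprime p) hx =>
    OddOrder.mem_centralizer_of_narrow hp U PCore.isPGroup_pCore hrU
      (E := E.map e.toMonoidHom) (PGroup.isElementaryAbelian_map hE _)
      (by rw [Subgroup.card_map_of_injective (f := e.toMonoidHom) e.injective, hE2])
      (fun B hB hEB => by
        have h1 := hEmax (B.map e.symm.toMonoidHom) (PGroup.isElementaryAbelian_map hB _) (fun a ha =>
          ⟨e a, hEB ⟨a, ha, rfl⟩, e.symm_apply_apply a⟩)
        refine le_antisymm (fun b hb => ⟨e.symm b, h1.le ⟨b, hb, rfl⟩, e.apply_symm_apply b⟩) hEB)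
      hc hx
  refine OddOrder.structure_of_action hodd S hle
    (fun x hx hc => hkey x hc fun M N _ _ _ _ h m hm => OddOrder.commutator_mem_of_relIndex_eq h hx hm)
    fun q x hq hne hord hnc => ?_
  have hp1 : x ^ (p - 1) ∈ Subgroup.centralizer (U : Set (G ⧸ Cfsg.pPrimeCore p G)) :=
    hkey _ ((hord ▸ (Nat.coprime_primes hq Fact.out).2 hne : (orderOf x).Coprime p).coprime_dvd_left
      (orderOf_pow_dvd _)) fun M N _ _ _ _ h m hm => OddOrder.pow_pred_commutator_mem h x hm
  have hdvd : q ∣ p - 1 := by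
    by_contra hnd
    refine hnc ?_
    obtain ⟨i, hi⟩ := exists_pow_eq_self_of_coprime
      (show (p - 1).Coprime (orderOf x) from hord ▸ (hq.coprime_iff_not_dvd.2 hnd).symm)
    rw [← hi]
    exact pow_mem hp1 i
  have h2 := (Fact.out : p.Prime).two_le
  exact lt_of_le_of_lt (Nat.le_of_dvd (by omega) hdvd) (by omega)

end Cfsg.Agent.S1455
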