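import Cfsg.Statements.S1456
import Cfsg.Agent.Lib.OddOrder.Narrow
-- import your own Cfsg.Agent.* helpers here

set_option autoImplicit false
open Cfsg

namespace Cfsg.Agent.S1456

/-- Let G be a solvable group of odd order, p a prime, and E an elementary abelian p-subgroup of the Fitting subgroup F(G) such that F(G) ∩ C_G(E) has no elementary abelian subgroup of order q ^ 3 for any prime q. Then the derived subgroup of G is contained in F(G). -/
theorem result {G : Type*} [Group G] [Finite G] [Group.IsSolvable G] (hodd : Odd (Nat.card G)) (p : ℕ) [Fact p.Prime] (E : Subgroup G) (hE : E ≤ Cfsg.fittingSubgroup G) (hEe : Cfsg.IsElementaryAbelian p E)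
    (hr : Cfsg.RankLE 2 ↥(Cfsg.fittingSubgroup G ⊓ Subgroup.centralizer (E : Set G))) :
    commutator G ≤ Cfsg.fittingSubgroup G := by
  have hE' : E ≤ Cfsg.pCore p G := fun e he =>
    Subnormal.mem_pCore_of_mem_fittingSubgroup (k := 1) (hE he) (by rw [pow_one]; exact hEe.2 e he)
  refine OddOrder.commutator_le_fittingSubgroup_of_centralizes fun r hr' x hx hxr => ?_
  haveI := Fact.mk hr'
  rcases ne_or_eq r p with hne | rfl
  · refine OddOrder.commutator_mem_centralizer_pCore hodd ?_ hx hxr
    refine OddOrder.pRankLE_of_le (le_inf (Components.pCore_le_fittingSubgroup hr') fun u hu => ?_) (hr r hr')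
    exact Subgroup.mem_centralizer_iff.2 fun e he => (PCore.commute_of_normal_of_disjoint PCore.pCore_normal
      PCore.pCore_normal (PCore.pCore_disjoint_pCore hne.symm) (hE' he) hu)
  · set U := Cfsg.pCore r G
    by_cases hU : Cfsg.PRankLE r 2 U
    · exact OddOrder.commutator_mem_centralizer_pCore hodd hU hx hxr
    have hc : Cfsg.PRankLE r 2 (Subgroup.centralizer ((E.subgroupOf U : Subgroup U) : Set U)) := by
      refine OddOrder.pRankLE_of_injective
        (f := ((U.subtype).comp (Subgroup.centralizer ((E.subgroupOf U : Subgroup U) : Set U)).subtype).codRestrict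
          (Cfsg.fittingSubgroup G ⊓ Subgroup.centralizer (E : Set G)) fun u =>
            ⟨Components.pCore_le_fittingSubgroup hr' u.1.2, Subgroup.mem_centralizer_iff.2 fun e he =>
              congrArg Subtype.val (Subgroup.mem_centralizer_iff.1 u.2 ⟨e, hE' he⟩ he)⟩)
        (fun a b h => Subtype.ext (Subtype.ext (congrArg (fun z : ↥(Cfsg.fittingSubgroup G ⊓
          Subgroup.centralizer (E : Set G)) => (z : G)) h))) (hr r hr')
    obtain ⟨E', hE'e, hE'2, hE'max⟩ := OddOrder.exists_maximal_square PCore.isPGroup_pCore hU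
      (E₁ := E.subgroupOf U) (PGroup.isElementaryAbelian_of_forall
        (fun a ha b hb => Subtype.ext (PGroup.mul_comm_of_elementaryAbelian hEe ha hb))
        fun a ha => Subtype.ext (hEe.2 _ ha)) hc
    have hp : r ≠ 2 := by
      refine OddOrder.ne_two_of_odd_of_dvd hodd ((?_ : r ∣ Nat.card E').trans
        (E'.card_subgroup_dvd_card.trans U.card_subgroup_dvd_card))
      exact hE'2 ▸ dvd_pow_self r (by norm_num)
    exact OddOrder.mem_centralizer_of_narrow hp U PCore.isPGroup_pCore hU hE'e hE'2 hE'max hxr
      fun M N hM hN _ _ h m hm => OddOrder.commutator_mem_of_relIndex_eq h hx hm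

end Cfsg.Agent.S1456
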