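import Cfsg.Statements.S1461
import Cfsg.Agent.Lib.OddOrder.Supplement
import Cfsg.Agent.Lib.OddOrder.PLengthOne
-- import your own Cfsg.Agent.* helpers here

set_option autoImplicit false
open Cfsg

namespace Cfsg.Agent.S1461

/-- Let G be a finite solvable group, p a prime with G = O_{p',p,p'}(G), and S a Sylow p-subgroup. Then: if S ≤ G' then S ≤ [N_G(S), N_G(S)]; if Y ⊆ S and xYx⁻¹ ⊆ S then x = g c for some g ∈ N_G(S) and c centralizing Y; and for every p-subgroup Q there is x ∈ C_G(Q ∩ S) with xQx⁻¹ ≤ S. -/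
theorem result {G : Type*} [Group G] [Finite G] [Group.IsSolvable G] (p : ℕ) [Fact p.Prime] (hpl : Cfsg.PLengthLE p 1 G) (S : Sylow p G) :
    ((S : Subgroup G) ≤ commutator G → (S : Subgroup G) ≤ ⁅Subgroup.normalizer ((S : Subgroup G) : Set G), Subgroup.normalizer ((S : Subgroup G) : Set G)⁆) ∧
      (∀ (Y : Set G) (x : G), Y ⊆ (S : Subgroup G) → (fun y => x * y * x⁻¹) '' Y ⊆ (S : Subgroup G) →
        ∃ g ∈ Subgroup.normalizer ((S : Subgroup G) : Set G), ∃ c ∈ Subgroup.centralizer Y, g * c = x) ∧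
      ∀ Q : Subgroup G, IsPGroup p Q → ∃ x ∈ Subgroup.centralizer ((Q ⊓ (S : Subgroup G) : Subgroup G) : Set G), Q.map (MulAut.conj x).toMonoidHom ≤ (S : Subgroup G) := by
  set K := pPrimeCore p G
  set U := Subgroup.normalizer ((S : Subgroup G) : Set G)
  have hSU : (S : Subgroup G) ≤ U := Subgroup.le_normalizer
  have hcop : ∀ H : Subgroup G, H ≤ S → (Nat.card H).Coprime (Nat.card K) := by
    intro H hH
    obtain ⟨n, hn⟩ := IsPGroup.iff_card.mp (S.isPGroup'.to_le hH)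
    rw [hn]
    exact PCore.coprime_card_pPrimeCore.symm.pow_left n
  have hSN : (S : Subgroup G) ≤ pPrimePCore p G := OddOrder.le_pPrimePCore_of_pLength hpl S.isPGroup'
  have hNKS : pPrimePCore p G ≤ K ⊔ (S : Subgroup G) := OddOrder.pPrimePCore_le_sup_sylow S
  have hN : pPrimePCore p G = K ⊔ (S : Subgroup G) :=
    le_antisymm hNKS (sup_le PCore.pPrimeCore_le_pPrimePCore hSN)
  have hKU : K ⊔ U = ⊤ := by
    haveI : (K ⊔ (S : Subgroup G)).Normal := hN ▸ (inferInstance : (pPrimePCore p G).Normal)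
    have h := Sylow.normalizer_sup_eq_top' S (N := K ⊔ (S : Subgroup G)) le_sup_right
    rw [eq_top_iff, ← h]
    exact sup_le le_sup_right (sup_le le_sup_left (hSU.trans le_sup_right))
  refine ⟨fun hS x hx => ?_, fun Y x hY hxY => ?_, fun Q hQ => ?_⟩
  · have h := OddOrder.inf_commutator_eq hKU hSU (hcop _ le_rfl)
    have h2 : x ∈ (S : Subgroup G) ⊓ ⁅U, U⁆ := h ▸ ⟨hx, hS hx⟩
    exact h2.2
  · have hcl : Subgroup.closure Y ≤ (S : Subgroup G) := (Subgroup.closure_le _).2 hY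
    have hle : (Subgroup.closure Y).map (MulAut.conj x).toMonoidHom ≤ U := by
      rw [MonoidHom.map_closure]
      exact ((Subgroup.closure_le _).2 (fun z hz => hxY hz)).trans hSU
    obtain ⟨u, hu, c, hc, rfl⟩ :=
      OddOrder.exists_mul_of_conj_le hKU (hcl.trans hSU) (hcop _ hcl) hle
    exact ⟨u, hu, c, Subgroup.centralizer_le (Subgroup.subset_closure) hc.2, rfl⟩
  · obtain ⟨T, hT⟩ := hQ.exists_le_sylow
    obtain ⟨g, hg⟩ := MulAction.exists_smul_eq G T S
    have hmem : ∀ q ∈ Q, g * q * g⁻¹ ∈ (S : Subgroup G) := by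
      intro q hq
      rw [← hg, Sylow.coe_subgroup_smul]
      exact ⟨q, hT hq, rfl⟩
    have hle : (Q ⊓ (S : Subgroup G)).map (MulAut.conj g).toMonoidHom ≤ U := by
      rintro _ ⟨q, hq, rfl⟩
      exact hSU (hmem q hq.1)
    obtain ⟨u, hu, c, hc, rfl⟩ :=
      OddOrder.exists_mul_of_conj_le hKU (inf_le_right.trans hSU) (hcop _ inf_le_right) hle
    refine ⟨c, hc.2, ?_⟩
    rintro _ ⟨q, hq, rfl⟩
    have := (Subgroup.mem_normalizer_iff.1 (inv_mem hu) _).1 (hmem q hq)
    simpa [mul_assoc] using this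

end Cfsg.Agent.S1461
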