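import Cfsg.Statements.S1462
import Cfsg.Agent.Lib.OddOrder.Signalizer
import Cfsg.Agent.Lib.PGroup.ElementaryAbelian
import Cfsg.Agent.Lib.PCore.PSolvable
import Cfsg.Agent.Lib.PCore.HallHigman
-- import your own Cfsg.Agent.* helpers here

set_option autoImplicit false
open Cfsg

namespace Cfsg.Agent.S1462

/-- Let G be a finite solvable group, p an odd prime with G = O_{p',p,p'}(G), E an elementary abelian p-subgroup contained in no larger elementary abelian p-subgroup of G, and L a subgroup of order coprime to p normalized by E. Then L ≤ O_{p'}(G). -/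
theorem result {G : Type*} [Group G] [Finite G] [Group.IsSolvable G] (p : ℕ) [Fact p.Prime] (hp : p ≠ 2) (hpl : Cfsg.PLengthLE p 1 G) (E L : Subgroup G) (hE : Cfsg.IsElementaryAbelian p E)
    (hEmax : ∀ B : Subgroup G, Cfsg.IsElementaryAbelian p B → E ≤ B → B = E) (hL : (Nat.card L).Coprime p) (hEL : E ≤ Subgroup.normalizer (L : Set G)) :
    L ≤ Cfsg.pPrimeCore p G := by
  have hmax : ∀ x ∈ Subgroup.centralizer (E : Set G), x ^ p = 1 → x ∈ E := by
    intro x hx hxp
    have hB : IsElementaryAbelian p (E ⊔ Subgroup.zpowers x) :=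
      PGroup.isElementaryAbelian_sup hE (PGroup.isElementaryAbelian_zpowers hxp)
        (fun a ha b hb => by
          obtain ⟨k, rfl⟩ := Subgroup.mem_zpowers_iff.1 hb
          exact (Commute.zpow_right (Subgroup.mem_centralizer_iff.1 hx a ha : Commute a x) k).eq)
    exact hEmax _ hB le_sup_left ▸ Subgroup.mem_sup_right (Subgroup.mem_zpowers x)
  exact OddOrder.le_pPrimeCore_of_pLength hp
    (PCore.isPConstrained_of_isPSolvable PCore.isPSolvable_of_isSolvable) hpl
    (PGroup.isPGroup_of_elementaryAbelian hE) hL hEL hmax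

end Cfsg.Agent.S1462
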