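import Cfsg.Statements.S1463
import Cfsg.Agent.Lib.Quadratic.SL2Sub
-- import your own Cfsg.Agent.* helpers here

set_option autoImplicit false
open scoped MatrixGroups
open Cfsg

namespace Cfsg.Agent.S1463

/-- Let F be a field of odd characteristic p and H a finite subgroup of odd order of GL(2, F) that leaves no 1-dimensional subspace of F² invariant. Then p does not divide the order of H. -/
theorem result {F : Type*} [Field F] (p : ℕ) [Fact p.Prime] [CharP F p] (hp : p ≠ 2)
    (H : Subgroup (GL (Fin 2) F)) [Finite H] (hodd : Odd (Nat.card H))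
    (hirr : ∀ v : Fin 2 → F, v ≠ 0 → ∃ g ∈ H, (g : Matrix (Fin 2) (Fin 2) F).mulVec v ∉ Submodule.span F {v}) :
    ¬ p ∣ Nat.card H := by
  intro hdvd
  classical
  set ψ : Matrix.SpecialLinearGroup (Fin 2) F →* GL (Fin 2) F := Matrix.SpecialLinearGroup.toGL with hψdef
  have hψ : Function.Injective ψ := fun a b h => Subtype.ext (congrArg Units.val h)
  set S' : Set (Matrix.SpecialLinearGroup (Fin 2) F) := {y | ψ y ∈ H ∧ y ^ p = 1} with hS'
  set X := Subgroup.closure S' with hX
  have hXH : X ≤ H.comap ψ := (Subgroup.closure_le _).2 fun y hy => hy.1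
  haveI : Finite (H.comap ψ) := Finite.of_injective (fun x => (⟨ψ x, x.2⟩ : H))
    fun a b h => Subtype.ext (hψ (congrArg Subtype.val h))
  haveI : Finite X := Finite.of_injective _ (Subgroup.inclusion_injective hXH)
  have hXodd : Odd (Nat.card X) := by
    refine hodd.of_dvd_nat ?_
    rw [Nat.card_congr (X.equivMapOfInjective ψ hψ).toEquiv]
    exact Subgroup.card_dvd_of_le (Subgroup.map_le_iff_le_comap.2 hXH)
  have hpX : IsPGroup p X := Quadratic.isPGroup_of_odd X hXodd hp
    (Subgroup.closure_mono fun y hy => ⟨Subgroup.subset_closure hy, hy.2⟩)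
  set P := X.map ψ with hP
  have hpP : IsPGroup p P := hpX.map ψ
  have hdet : ∀ u : GL (Fin 2) F, u ^ p = 1 → Matrix.GeneralLinearGroup.det u = 1 := by
    intro u hu
    have h1 : ((Matrix.GeneralLinearGroup.det u : Fˣ) : F) ^ p = 1 := by
      rw [← Units.val_pow_eq_pow_val, ← map_pow, hu, map_one, Units.val_one]
    refine Units.ext (sub_eq_zero.1 (eq_zero_of_pow_eq_zero (n := p) ?_))
    rw [sub_pow_char, h1, Units.val_one, one_pow, sub_self]
  have hPeq : P = Subgroup.closure {u | u ∈ H ∧ u ^ p = 1} := by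
    rw [hP, hX, MonoidHom.map_closure]
    congr 1
    ext u
    constructor
    · rintro ⟨y, ⟨hy, hyp⟩, rfl⟩
      exact ⟨hy, by rw [← map_pow, hyp, map_one]⟩
    · rintro ⟨hu, hup⟩
      have hd : (u : Matrix (Fin 2) (Fin 2) F).det = 1 := congrArg Units.val (hdet u hup)
      obtain ⟨y, hy⟩ : ∃ y, ψ y = u :=
        ⟨(⟨(u : Matrix (Fin 2) (Fin 2) F), hd⟩ : Matrix.SpecialLinearGroup (Fin 2) F), Units.ext rfl⟩
      exact ⟨y, ⟨by rwa [hy], hψ (by rw [map_pow, hy, hup, map_one])⟩, hy⟩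
  haveI : Finite P := Finite.of_surjective (fun x : X => (⟨ψ x, x, x.2, rfl⟩ : P))
    fun ⟨_, x, hx, rfl⟩ => ⟨⟨x, hx⟩, rfl⟩
  haveI : Nontrivial P := by
    obtain ⟨u, hu⟩ := exists_prime_orderOf_dvd_card' (G := H) p hdvd
    refine ⟨⟨⟨u, ?_⟩, 1, fun h => ?_⟩⟩
    · rw [hPeq]
      exact Subgroup.subset_closure ⟨u.2, by rw [← SubmonoidClass.coe_pow, ← hu, pow_orderOf_eq_one]; rfl⟩
    · rw [show u = 1 from Subtype.ext (congrArg Subtype.val h :), orderOf_one] at hu
      exact (Fact.out : p.Prime).ne_one hu.symm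
  have hPn : ∀ h ∈ H, ∀ x ∈ P, h * x * h⁻¹ ∈ P := by
    intro h hh x hx
    rw [hPeq] at hx ⊢
    have : (Subgroup.closure {u | u ∈ H ∧ u ^ p = 1}).map (MulAut.conj h).toMonoidHom ≤
        Subgroup.closure {u | u ∈ H ∧ u ^ p = 1} := by
      rw [MonoidHom.map_closure]
      refine Subgroup.closure_mono ?_
      rintro _ ⟨u, ⟨hu, hup⟩, rfl⟩
      refine ⟨mul_mem (mul_mem hh hu) (inv_mem hh), ?_⟩
      show (MulAut.conj h u) ^ p = 1
      rw [← map_pow, hup, map_one]
    exact this ⟨x, hx, rfl⟩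
  haveI := hpP.center_nontrivial
  obtain ⟨zc, hzne⟩ := exists_ne (1 : Subgroup.center P)
  set z : GL (Fin 2) F := ((zc : P) : GL (Fin 2) F) with hz
  have hzP : z ∈ P := (zc : P).2
  have hzcomm : ∀ x ∈ P, x * z = z * x := fun x hx =>
    congrArg Subtype.val (Subgroup.mem_center_iff.1 zc.2 ⟨x, hx⟩)
  have hz1 : (z : Matrix (Fin 2) (Fin 2) F) ≠ 1 := fun h =>
    hzne (Subtype.ext (Subtype.ext (Units.ext h)))
  obtain ⟨k, hk⟩ := hpP ⟨z, hzP⟩
  have hk' : (z : Matrix (Fin 2) (Fin 2) F) ^ p ^ k = 1 := by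
    rw [← Units.val_pow_eq_pow_val, show z ^ p ^ k = 1 from congrArg Subtype.val hk, Units.val_one]
  set M := (z : Matrix (Fin 2) (Fin 2) F) - 1 with hM
  have hnil : IsNilpotent M := ⟨p ^ k, by
    rw [hM, sub_pow_char_pow_of_commute _ _ (Commute.one_right _), hk', one_pow, sub_self]⟩
  have hdetM : M.det = 0 := by
    obtain ⟨n, hn⟩ := hnil
    refine eq_zero_of_pow_eq_zero (n := n + 1) ?_
    rw [← Matrix.det_pow, pow_succ, hn, zero_mul, Matrix.det_zero]
  obtain ⟨v, hv, hMv⟩ := Matrix.exists_mulVec_eq_zero_iff.2 hdetM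
  have hfix : ∀ w, M.mulVec w = 0 ↔ (z : Matrix (Fin 2) (Fin 2) F).mulVec w = w := fun w => by
    rw [hM, Matrix.sub_mulVec, Matrix.one_mulVec, sub_eq_zero]
  have hline : ∀ w, M.mulVec w = 0 → w ∈ Submodule.span F {v} := by
    intro w hw
    rw [Submodule.mem_span_singleton]
    by_cases hD : v 0 * w 1 - v 1 * w 0 = 0
    · by_cases h0 : v 0 = 0
      · have h1 : v 1 ≠ 0 := fun h1 => hv (by ext i; fin_cases i <;> assumption)
        refine ⟨w 1 / v 1, ?_⟩
        ext i
        fin_cases i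
        · have : v 1 * w 0 = 0 := by linear_combination (w 1) * h0 - hD
          simp [h0, (mul_eq_zero.1 this).resolve_left h1]
        · simp [h1]
      · refine ⟨w 0 / v 0, ?_⟩
        ext i
        fin_cases i
        · simp [h0]
        · show w 0 / v 0 * v 1 = w 1
          field_simp
          linear_combination -hD
    · exfalso
      refine hz1 (sub_eq_zero.1 ?_)
      ext i j
      have e1 := congrFun hMv i
      have e2 := congrFun hw i
      simp only [Matrix.mulVec, dotProduct, Fin.sum_univ_two, Pi.zero_apply] at e1 e2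
      have f0 : M i 0 * (v 0 * w 1 - v 1 * w 0) = 0 := by linear_combination (w 1) * e1 - (v 1) * e2
      have f1 : M i 1 * (v 0 * w 1 - v 1 * w 0) = 0 := by linear_combination (v 0) * e2 - (w 0) * e1
      fin_cases j
      · exact (mul_eq_zero.1 f0).resolve_right hD
      · exact (mul_eq_zero.1 f1).resolve_right hD
  have hPv : ∀ g ∈ P, (g : Matrix (Fin 2) (Fin 2) F).mulVec v = v := by
    intro g hg
    have h1 : (z : Matrix (Fin 2) (Fin 2) F).mulVec ((g : Matrix (Fin 2) (Fin 2) F).mulVec v) =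
        (g : Matrix (Fin 2) (Fin 2) F).mulVec v := by
      rw [Matrix.mulVec_mulVec, ← Units.val_mul, ← hzcomm g hg, Units.val_mul, ← Matrix.mulVec_mulVec,
        (hfix v).1 hMv]
    obtain ⟨c, hc⟩ := Submodule.mem_span_singleton.1 (hline _ ((hfix _).2 h1))
    have hpow : ∀ n : ℕ, ((g ^ n : GL (Fin 2) F) : Matrix (Fin 2) (Fin 2) F).mulVec v = c ^ n • v := by
      intro n
      induction n with
      | zero => simp
      | succ n ih =>
        rw [pow_succ', Units.val_mul, ← Matrix.mulVec_mulVec, ih, Matrix.mulVec_smul, ← hc,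
          smul_smul, pow_succ]
    obtain ⟨m, hm⟩ := hpP ⟨g, hg⟩
    have h2 := hpow (p ^ m)
    rw [show g ^ p ^ m = 1 from congrArg Subtype.val hm, Units.val_one, Matrix.one_mulVec] at h2
    have h3 : c ^ p ^ m = 1 := smul_left_injective F hv (h2.symm.trans (one_smul F v).symm)
    have h4 : c = 1 := sub_eq_zero.1 (eq_zero_of_pow_eq_zero (n := p ^ m) (by
      rw [sub_pow_char_pow, h3, one_pow, sub_self]))
    rw [← hc, h4, one_smul]
  obtain ⟨h, hh, hhv⟩ := hirr v hv
  refine hhv (hline _ ((hfix _).2 ?_))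
  have h1 := hPv _ (hPn h⁻¹ (inv_mem hh) z hzP)
  rw [inv_inv] at h1
  conv_rhs => rw [← h1]
  rw [Matrix.mulVec_mulVec, Matrix.mulVec_mulVec, ← Units.val_mul, ← Units.val_mul]
  congr 2
  group

end Cfsg.Agent.S1463
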