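import Cfsg.Statements.S1464
import Cfsg.Agent.Lib.OddOrder.Stability
-- import your own Cfsg.Agent.* helpers here

set_option autoImplicit false
open Cfsg

namespace Cfsg.Agent.S1464

/-- Let p be an odd prime and G a solvable group of odd order, P a p-subgroup with O_{p'}(G)P normal in G, and A a p-subgroup of N_G(P) with [[P, A], A] = 1. Then the image of A in the quotient N_G(P)/C_G(P) is contained in the p-core of that quotient. -/
theorem result {G : Type*} [Group G] [Finite G] [Group.IsSolvable G] (hodd : Odd (Nat.card G)) (p : ℕ) [Fact p.Prime] (hp : p ≠ 2) (P A : Subgroup G) (hP : IsPGroup p P) (hPn : (Cfsg.pPrimeCore p G ⊔ P).Normal)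
    (hA : IsPGroup p A) (hAN : A ≤ Subgroup.normalizer (P : Set G)) (hquad : ⁅⁅P, A⁆, A⁆ = ⊥) :
    (A.subgroupOf (Subgroup.normalizer (P : Set G))).map
        (QuotientGroup.mk' ((Subgroup.centralizer (P : Set G)).subgroupOf (Subgroup.normalizer (P : Set G))))
      ≤ Cfsg.pCore p _ := by
  set N := Subgroup.normalizer (P : Set G) with hN
  rintro _ ⟨a, ha, rfl⟩
  set P' := P.subgroupOf N with hP'
  have hPN : P ≤ N := Subgroup.le_normalizer
  haveI : P'.Normal := Subgroup.normal_in_normalizer
  have hmap : P'.map N.subtype = P := Subgroup.map_subgroupOf_eq_of_le hPN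
  have hpP' : IsPGroup p P' := hP.of_equiv (Subgroup.subgroupOfEquivOfLe hPN).symm
  have hq : ⁅⁅P', Subgroup.zpowers a⁆, Subgroup.zpowers a⁆ = ⊥ := by
    refine (Subgroup.map_eq_bot_iff_of_injective _ (Subgroup.subtype_injective N)).1 ?_
    rw [Subgroup.map_commutator, Subgroup.map_commutator, MonoidHom.map_zpowers, hmap, eq_bot_iff]
    have hz : Subgroup.zpowers (N.subtype a) ≤ A := Subgroup.zpowers_le.2 (Subgroup.mem_subgroupOf.1 ha)
    exact (Subgroup.commutator_mono (Subgroup.commutator_mono le_rfl hz) hz).trans hquad.le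
  have hCeq : (Subgroup.centralizer (P : Set G)).subgroupOf N = Subgroup.centralizer (P' : Set N) := by
    ext c
    rw [Subgroup.mem_subgroupOf, Subgroup.mem_centralizer_iff, Subgroup.mem_centralizer_iff]
    exact ⟨fun h y hy => Subtype.ext (h y hy),
      fun h y hy => congrArg Subtype.val (h ⟨y, hPN hy⟩ hy)⟩
  have h := OddOrder.isPStableOn_of_odd (OddOrder.odd_subgroup hodd N) hp P' hpP' a hq
  have key : ∀ (C : Subgroup N) [C.Normal], C = Subgroup.centralizer (P' : Set N) →
      QuotientGroup.mk' C a ∈ pCore p (↥N ⧸ C) := by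
    intro C _ e; subst e; exact h
  exact key _ hCeq

end Cfsg.Agent.S1464
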