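import Cfsg.Statements.S1466
import Cfsg.Agent.Lib.OddOrder.Puig
import Cfsg.Agent.Lib.PGroup.SCN
-- import your own Cfsg.Agent.* helpers here

set_option autoImplicit false
open Cfsg

namespace Cfsg.Agent.S1466

/-- Let p be a prime and R a nontrivial finite p-group. Then for every i > 0, Z(R) ≤ C_R(L_i(R)) ≤ L_i(R); likewise Z(R) ≤ C_R(L_*(R)) ≤ L_*(R) and Z(R) ≤ C_R(L(R)) ≤ L(R); and L(R) ≠ 1, L_*(R) ≠ 1. -/
theorem result {R : Type*} [Group R] [Finite R] (p : ℕ) [Fact p.Prime] (hR : IsPGroup p R) [Nontrivial R] :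
    (∀ i : ℕ, 0 < i → Subgroup.center R ≤ Subgroup.centralizer ((Cfsg.puigSeq R i : Subgroup R) : Set R) ∧
        Subgroup.centralizer ((Cfsg.puigSeq R i : Subgroup R) : Set R) ≤ Cfsg.puigSeq R i) ∧
      (Subgroup.center R ≤ Subgroup.centralizer ((Cfsg.puigLower R : Subgroup R) : Set R) ∧ Subgroup.centralizer ((Cfsg.puigLower R : Subgroup R) : Set R) ≤ Cfsg.puigLower R) ∧
      (Subgroup.center R ≤ Subgroup.centralizer ((Cfsg.puigSubgroup R : Subgroup R) : Set R) ∧ Subgroup.centralizer ((Cfsg.puigSubgroup R : Subgroup R) : Set R) ≤ Cfsg.puigSubgroup R) ∧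
      Cfsg.puigSubgroup R ≠ ⊥ ∧ Cfsg.puigLower R ≠ ⊥ := by
  obtain ⟨A, hAn, hA, hAmax⟩ := PGroup.exists_maximal_abelian_normal (G := R)
  haveI := hAn
  have hC := PGroup.centralizer_eq_of_maximal_abelian_normal hR hA hAmax
  have hA1 : A ≠ ⊥ := by
    rintro rfl
    refine (bot_ne_top : (⊥ : Subgroup R) ≠ ⊤) (hC.symm.trans ?_)
    rw [eq_top_iff]
    intro x _
    simp [Subgroup.mem_centralizer_iff]
  have key : ∀ X : Subgroup R, A ≤ X → Subgroup.center R ≤ Subgroup.centralizer (X : Set R) ∧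
      Subgroup.centralizer (X : Set R) ≤ X := fun X hX =>
    ⟨Subgroup.center_le_centralizer _,
      ((Subgroup.centralizer_le hX).trans hC.le).trans hX⟩
  have h0 : A ≤ puigLower R :=
    le_trans (OddOrder.normal_le_puigSeq hA (by norm_num : 0 < 2 * 1))
      (le_iSup (fun n => puigSeq R (2 * n)) 1)
  have h1 : A ≤ puigSubgroup R := h0.trans OddOrder.puigLower_le_puigSubgroup
  exact ⟨fun i hi => key _ (OddOrder.normal_le_puigSeq hA hi), key _ h0, key _ h1,
    fun h => hA1 (le_bot_iff.1 (h ▸ h1)), fun h => hA1 (le_bot_iff.1 (h ▸ h0))⟩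

end Cfsg.Agent.S1466
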