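import Cfsg.Statements.S1469
import Cfsg.Agent.Lib.OddOrder.PuigSolvable
-- import your own Cfsg.Agent.* helpers here

set_option autoImplicit false
open Cfsg

namespace Cfsg.Agent.S1469

/-- Let p be an odd prime, G a solvable group of odd order and S a Sylow p-subgroup, and let Z be the centre of the Puig subgroup L(S), viewed inside G. Then G is generated by O_{p'}(G) and N_G(Z); and if O_{p'}(G) = 1 then Z is normal in G. -/
theorem result {G : Type*} [Group G] [Finite G] [Group.IsSolvable G] (hodd : Odd (Nat.card G)) (p : ℕ) [Fact p.Prime] (hp : p ≠ 2) (S : Sylow p G) :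
    Cfsg.pPrimeCore p G ⊔ Subgroup.normalizer ((((Subgroup.center ↥(Cfsg.puigSubgroup ↥(S : Subgroup G))).map (Cfsg.puigSubgroup ↥(S : Subgroup G)).subtype).map (S : Subgroup G).subtype : Subgroup G) : Set G) = ⊤ ∧
      (Cfsg.pPrimeCore p G = ⊥ → (((Subgroup.center ↥(Cfsg.puigSubgroup ↥(S : Subgroup G))).map (Cfsg.puigSubgroup ↥(S : Subgroup G)).subtype).map (S : Subgroup G).subtype).Normal) := by
  have hZ : (((Subgroup.center ↥(Cfsg.puigSubgroup ↥(S : Subgroup G))).map (Cfsg.puigSubgroup ↥(S : Subgroup G)).subtype).map (S : Subgroup G).subtype) =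
      OddOrder.puigOf (S : Subgroup G) ⊓ Subgroup.centralizer (OddOrder.puigOf (S : Subgroup G) : Set G) := by
    ext x
    simp only [OddOrder.puigOf, Subgroup.mem_map, Subgroup.mem_inf, Subgroup.mem_center_iff,
      Subgroup.mem_centralizer_iff, Subgroup.coe_subtype]
    constructor
    · rintro ⟨_, ⟨z, hz, rfl⟩, rfl⟩
      refine ⟨⟨_, z.2, rfl⟩, ?_⟩
      rintro _ ⟨y, hy, rfl⟩
      exact congrArg (fun w => ((w : ↥(S : Subgroup G)) : G)) (congrArg Subtype.val (hz ⟨y, hy⟩))
    · rintro ⟨⟨y, hy, rfl⟩, hc⟩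
      exact ⟨y, ⟨⟨y, hy⟩, fun w => Subtype.ext (Subtype.ext (hc _ ⟨w, w.2, rfl⟩)), rfl⟩, rfl⟩
  simp only [hZ]
  refine ⟨Replacement.sup_normalizer_of_normal_map S (inf_le_left.trans (OddOrder.puigOf_le _)) ?_,
    fun hO => OddOrder.centre_puigOf_normal hodd hp hO S⟩
  have hsurj : Function.Surjective (QuotientGroup.mk' (pPrimeCore p G)) :=
    QuotientGroup.mk'_surjective _
  have h := OddOrder.centre_puigOf_normal (OddOrder.odd_quotient hodd (pPrimeCore p G)) hp
    PCore.pPrimeCore_quotient_self_eq_bot (S.mapSurjective hsurj)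
  rw [Sylow.coe_mapSurjective,
    OddOrder.puigOf_map_injOn _ (Replacement.injOn_mk_pPrimeCore S.2),
    ← Replacement.map_inf_centralizer_injOn _ (Replacement.injOn_mk_pPrimeCore S.2)
      (OddOrder.puigOf_le _)] at h
  exact h

end Cfsg.Agent.S1469
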