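import Cfsg.Statements.S1471
import Cfsg.Agent.Lib.AppC.TwoElements
-- import your own Cfsg.Agent.* helpers here

set_option autoImplicit false
open Cfsg

namespace Cfsg.Agent.S1471

/-- Let p and q be odd primes with (p^q − 1)/(p − 1) coprime to p − 1. Then there are at least two elements a of the field with p ^ q elements such that both a and 2 − a have norm 1 to the prime field. -/
theorem result (p q : ℕ) [Fact p.Prime] [Fact q.Prime] (hp : p ≠ 2) (hq : q ≠ 2) (hA : Nat.Coprime ((p ^ q - 1) / (p - 1)) (p - 1)) :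
    2 ≤ Set.ncard {a : GaloisField p q | Algebra.norm (ZMod p) a = 1 ∧ Algebra.norm (ZMod p) (2 - a) = 1} := by
  classical
  have hq0 : q ≠ 0 := (Fact.out : q.Prime).ne_zero
  have hp2 : 2 ≤ p := (Fact.out : p.Prime).two_le
  have htwo : ∀ a : GaloisField p q, Algebra.norm (ZMod p) a = 1 → Algebra.norm (ZMod p) (2 - a) = 1 → a ≠ 1 →
      2 ≤ Set.ncard {a : GaloisField p q | Algebra.norm (ZMod p) a = 1 ∧ Algebra.norm (ZMod p) (2 - a) = 1} := by
    intro a h1 h2 hne
    have h1' : (1 : GaloisField p q) ∈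
        {a : GaloisField p q | Algebra.norm (ZMod p) a = 1 ∧ Algebra.norm (ZMod p) (2 - a) = 1} :=
      ⟨map_one _, by rw [show (2 : GaloisField p q) - 1 = 1 by norm_num, map_one]⟩
    exact (Set.one_lt_ncard (Set.toFinite _)).2 ⟨a, ⟨h1, h2⟩, 1, h1', hne⟩
  by_cases h3 : q = 3
  · subst h3
    obtain ⟨a, ha, h1, h2⟩ := AppC.exists_norm_pair_three p hp
    exact htwo a h1 h2 ha
  have hq5 : 4 ≤ q := by
    have := (Fact.out : q.Prime).two_le
    omega
  haveI : Fintype (GaloisField p q) := Fintype.ofFinite _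
  have hF : Fintype.card (GaloisField p q) = p ^ q := by
    rw [← Nat.card_eq_fintype_card, GaloisField.card p q hq0]
  have key : ∀ x : GaloisField p q, Algebra.norm (ZMod p) x = 1 ↔ AppC.frobNorm p q x = 1 := by
    intro x
    rw [AppC.frobNorm, AppC.geom_sum_eq_div q hp2,
      ← (algebraMap (ZMod p) (GaloisField p q)).injective.eq_iff, map_one,
      FiniteField.algebraMap_norm_eq_pow, GaloisField.card p q hq0, Nat.card_zmod]
  have h2F : (2 : GaloisField p q) ≠ 0 := by
    have : ((2 : ℕ) : GaloisField p q) ≠ 0 := by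
      rw [Ne, CharP.cast_eq_zero_iff (GaloisField p q) p, Nat.prime_dvd_prime_iff_eq Fact.out Nat.prime_two]
      exact hp
    exact_mod_cast this
  obtain ⟨a, ha, h1, h2⟩ := AppC.exists_normOne_pair (p := p) hq0 h2F (by
    have hn := AppC.card_normOne_ge (F := GaloisField p q) hp2 hF
    obtain ⟨r, rfl⟩ := Nat.exists_eq_add_of_le hq5
    have hn' : p ^ (3 + r) + p ^ (2 + r) ≤ (AppC.normOne (GaloisField p (4 + r)) p (4 + r)).card := by
      refine le_trans ?_ hn
      rw [show 4 + r = (2 + r) + 2 by omega, Finset.sum_range_succ, Finset.sum_range_succ,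
        show 2 + r + 1 = 3 + r by omega]
      omega
    have hp1 : (2 : ℝ) ≤ p := by exact_mod_cast hp2
    have hs : √((p : ℝ) ^ (4 + r)) ≤ (p : ℝ) ^ (2 + r) := by
      rw [Real.sqrt_le_left (by positivity), ← pow_mul]
      exact pow_le_pow_right₀ (by linarith) (by omega)
    have hn'' : (p : ℝ) ^ (3 + r) + (p : ℝ) ^ (2 + r) ≤
        ((AppC.normOne (GaloisField p (4 + r)) p (4 + r)).card : ℝ) := by exact_mod_cast hn'
    rw [hF, Nat.cast_pow]
    refine lt_of_lt_of_le ?_ (pow_le_pow_left₀ (by positivity) hn'' 2)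
    calc (p : ℝ) ^ (4 + r) + (p : ℝ) ^ (4 + r) * √((p : ℝ) ^ (4 + r))
        ≤ (p : ℝ) ^ (4 + r) + (p : ℝ) ^ (4 + r) * (p : ℝ) ^ (2 + r) := by gcongr
      _ = (p : ℝ) ^ (4 + r) + ((p : ℝ) ^ (3 + r)) ^ 2 := by ring
      _ < ((p : ℝ) ^ (3 + r) + (p : ℝ) ^ (2 + r)) ^ 2 := by
        have e1 : (p : ℝ) ^ (4 + r) ≤ (p : ℝ) ^ (3 + r) * (p : ℝ) ^ (2 + r) := by
          rw [← pow_add]; exact pow_le_pow_right₀ (by linarith) (by omega)
        have e2 : 0 < (p : ℝ) ^ (3 + r) * (p : ℝ) ^ (2 + r) := by positivity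
        nlinarith [sq_nonneg ((p : ℝ) ^ (2 + r))])
  exact htwo a ((key a).2 h1) ((key _).2 h2) ha

end Cfsg.Agent.S1471
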