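import Cfsg.Statements.S1473
import Cfsg.Agent.Lib.OddOrder.CNLocal

set_option autoImplicit false
open Cfsg

namespace Cfsg.Agent.S1473

universe u

open Subgroup in
theorem core : ∀ (n : ℕ) (G : Type u) [Group G] [Finite G], Nat.card G = n → Cfsg.IsCNGroup G →
    ∀ (H : Subgroup G) [H.Normal], Group.IsSolvable H → Cfsg.IsCNGroup (G ⧸ H) := by
  intro n
  induction n using Nat.strong_induction_on with
  | _ n ih =>
    intro G _ _ hn hCN H _ hH
    rcases eq_or_ne H ⊥ with hH0 | hne
    · subst hH0
      exact Cfsg.Agent.OddOrder.CN.of_injective hCN (QuotientGroup.quotientBot (G := G)).toMonoidHom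
        (MulEquiv.injective _)
    obtain ⟨A, p, hAn, hAH, hA1, -, hAc, hp, hAp⟩ :=
      Cfsg.Agent.Solvable.exists_abelian_minimal_normal hH hne
    haveI := hAn
    haveI := Fact.mk hp
    haveI : Nontrivial A := (Subgroup.nontrivial_iff_ne_bot A).mpr hA1
    have hlt : Nat.card (G ⧸ A) < n := by
      rw [← hn, Subgroup.card_eq_card_quotient_mul_card_subgroup A]
      exact lt_mul_of_one_lt_right Nat.card_pos Finite.one_lt_card
    haveI : (H.map (QuotientGroup.mk' A)).Normal :=
      Subgroup.Normal.map inferInstance _ (QuotientGroup.mk'_surjective A)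
    have h1 := ih _ hlt (G ⧸ A) rfl (Cfsg.Agent.OddOrder.CN.isCNGroup_quotient hCN A hAp
      fun a ha b hb => congrArg Subtype.val (hAc.is_comm.comm ⟨a, ha⟩ ⟨b, hb⟩))
      (H.map (QuotientGroup.mk' A))
      (haveI := hH; Group.isSolvable_of_surjective (MonoidHom.subgroupMap_surjective _ H))
    exact Cfsg.Agent.OddOrder.CN.of_injective h1
      (QuotientGroup.quotientQuotientEquivQuotient A H hAH).symm.toMonoidHom (MulEquiv.injective _)

/-- Let G be a finite group in which the centralizer of every non-identity element is nilpotent, and H a solvable normal subgroup of G. Then in G/H the centralizer of every non-identity element is nilpotent. -/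
theorem result {G : Type*} [Group G] [Finite G] (hCN : Cfsg.IsCNGroup G) (H : Subgroup G) [H.Normal] (hH : Group.IsSolvable H) :
    Cfsg.IsCNGroup (G ⧸ H) := by
  exact core _ G rfl hCN H hH

end Cfsg.Agent.S1473
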