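import Cfsg.Statements.S1475
import Cfsg.Agent.Lib.Solvable.Hall
import Cfsg.Agent.Lib.Solvable.Basic
import Cfsg.Agent.Lib.OddOrder.FixedPoint
import Mathlib
-- import your own Cfsg.Agent.* helpers here

set_option autoImplicit false
open Cfsg

namespace Cfsg.Agent.S1475

open Finset in
/-- If `f`, `e` act on an abelian group without fixed points, `e` has prime order `b`, and `f`, of
prime order, normalizes `⟨e⟩` without centralizing it, then the abelian group has exponent `b`. -/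
theorem pow_eq_one_aux {V : Type*} [CommGroup V] {b c : ℕ} (hb : b.Prime) (hc : c.Prime)
    (e f : MulAut V) (he : e ^ b = 1) (hf : f ^ c = 1) (hef : f * e * f⁻¹ ∈ Subgroup.zpowers e)
    (hne : ¬ Commute f e) (hfe : ∀ w, e w = w → w = 1) (hff : ∀ w, f w = w → w = 1) (v : V) :
    v ^ b = 1 := by
  have norm : ∀ (χ : MulAut V) (n : ℕ), χ ^ n = 1 → (∀ w, χ w = w → w = 1) →
      ∀ w : V, ∏ i ∈ range n, (χ ^ i) w = 1 := by
    intro χ n hχ hfree w
    refine hfree _ ?_
    have hs := prod_range_succ' (fun i => (χ ^ i) w) n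
    rw [prod_range_succ, hχ, pow_zero] at hs
    rw [map_prod]
    calc ∏ i ∈ range n, χ ((χ ^ i) w) = ∏ i ∈ range n, (χ ^ (i + 1)) w := by
          refine prod_congr rfl fun i _ => ?_
          rw [pow_succ', MulAut.mul_apply]
      _ = _ := (mul_right_cancel hs).symm
  have hn : ∀ i, f ^ i * e * (f ^ i)⁻¹ ∈ Subgroup.zpowers e := by
    intro i
    induction i with
    | zero => simp
    | succ j ih =>
      obtain ⟨k, hk⟩ := Subgroup.mem_zpowers_iff.1 ih
      have : f ^ (j + 1) * e * (f ^ (j + 1))⁻¹ = f * (f ^ j * e * (f ^ j)⁻¹) * f⁻¹ := by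
        rw [pow_succ']; group
      rw [this, ← hk, ← conj_zpow]
      exact Subgroup.zpow_mem _ hef k
  have hA : ∏ j ∈ range b, ∏ i ∈ range c, (e ^ j * f ^ i * (e ^ j)⁻¹) v = 1 := by
    refine prod_eq_one fun j _ => ?_
    have h := norm f c hf hff ((e ^ j)⁻¹ v)
    calc ∏ i ∈ range c, (e ^ j * f ^ i * (e ^ j)⁻¹) v
        = (e ^ j) (∏ i ∈ range c, (f ^ i) ((e ^ j)⁻¹ v)) := by
          rw [map_prod]; rfl
      _ = 1 := by rw [h, map_one]
  rw [prod_comm, prod_eq_single 0] at hA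
  · simpa using hA
  · intro i hi hi0
    set g : MulAut V := e * (f ^ i * e⁻¹ * (f ^ i)⁻¹) with hg
    have hgm : f ^ i * e⁻¹ * (f ^ i)⁻¹ ∈ Subgroup.zpowers e := by
      have := Subgroup.inv_mem _ (hn i)
      simpa [mul_assoc] using this
    obtain ⟨k, hk⟩ := Subgroup.mem_zpowers_iff.1 hgm
    have hcg : Commute e (f ^ i * e⁻¹ * (f ^ i)⁻¹) := hk ▸ Commute.self_zpow e k
    have hg1 : g ≠ 1 := by
      intro h1
      apply hne
      have h2 : Commute (f ^ i) e := by
        have : f ^ i * e⁻¹ * (f ^ i)⁻¹ = e⁻¹ := eq_inv_of_mul_eq_one_right h1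
        have : Commute (f ^ i) e⁻¹ := mul_inv_eq_iff_eq_mul.1 this
        exact inv_inv e ▸ this.inv_right
      obtain ⟨l, -, hl⟩ := Nat.exists_mul_mod_eq_one_of_coprime
        ((Nat.Prime.coprime_iff_not_dvd hc).2
          (Nat.not_dvd_of_pos_of_lt (Nat.pos_of_ne_zero hi0) (mem_range.1 hi))).symm hc.one_lt
      have h3 := h2.pow_left l
      rwa [← pow_mul, ← Nat.mod_add_div (i * l) c, hl, pow_add, pow_one, pow_mul, hf, one_pow,
        mul_one] at h3
    have hgb : g ^ b = 1 := by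
      rw [hg, hcg.mul_pow, he, ← hk, ← zpow_natCast, zpow_comm, zpow_natCast, he, one_zpow, one_mul]
    have hgfree : ∀ w, g w = w → w = 1 := by
      intro w hw
      refine hfe w ?_
      have hgz : g ∈ Subgroup.zpowers e :=
        Subgroup.mul_mem _ (Subgroup.mem_zpowers e) hgm
      obtain ⟨m, hm⟩ := Subgroup.mem_zpowers_iff.1 hgz
      have hstab : g ∈ MulAction.stabilizer (MulAut V) w := hw
      have hcop : (m : ℤ).natAbs.Coprime b := by
        refine Nat.Coprime.symm ((Nat.Prime.coprime_iff_not_dvd hb).2 fun hd => hg1 ?_)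
        obtain ⟨t, ht⟩ := Int.natCast_dvd.2 hd
        rw [← hm, ht, zpow_mul, zpow_natCast, he, one_zpow]
      obtain ⟨u, v', huv⟩ := (Int.isCoprime_iff_nat_coprime (a := m) (b := (b : ℤ))).2 hcop
      have : e = g ^ u := by
        calc e = e ^ (1 : ℤ) := (zpow_one e).symm
          _ = e ^ (m * u) * e ^ ((b : ℤ) * v') := by
            rw [← zpow_add]; congr 1; linarith [huv]
          _ = g ^ u := by rw [zpow_mul, hm, zpow_mul, zpow_natCast, he, one_zpow, mul_one]
      have h4 : e ∈ MulAction.stabilizer (MulAut V) w := this ▸ Subgroup.zpow_mem _ hstab u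
      exact h4
    have hpow : ∀ j, e ^ j * f ^ i * (e ^ j)⁻¹ = g ^ j * f ^ i := by
      intro j
      rw [hg, hcg.mul_pow, conj_pow]
      group
    rw [prod_congr rfl fun j _ => by rw [hpow j, MulAut.mul_apply]]
    exact norm g b hgb hgfree _
  · intro h
    exact absurd (mem_range.mpr hc.pos) h

theorem pow_eq_one_of_metacyclic {G : Type*} [Group G] (N : Subgroup G) [N.Normal]
    (hN : IsMulCommutative N) {b c : ℕ} (hb : b.Prime) {f y : G} (hf : f ^ b = 1)
    (hyf : y * f * y⁻¹ ∈ Subgroup.zpowers f) (hc : c.Prime) (hy : y ^ c = 1) (hne : ¬ Commute y f)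
    (hff : ∀ x ∈ N, x ≠ 1 → ¬ Commute f x) (hfy : ∀ x ∈ N, x ≠ 1 → ¬ Commute y x)
    (v : G) (hv : v ∈ N) : v ^ b = 1 := by
  letI : CommGroup N := { (inferInstance : Group N) with mul_comm := hN.1.comm }
  let ρ : G →* MulAut N := MulAut.conjNormal
  have hfix : ∀ g : G, (∀ x ∈ N, x ≠ 1 → ¬ Commute g x) → ∀ w : N, ρ g w = w → w = 1 := by
    intro g hg w hw
    by_contra hw1
    refine hg w w.2 (fun h => hw1 (Subtype.ext h)) ?_
    have : g * (w : G) * g⁻¹ = w := congrArg Subtype.val hw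
    exact mul_inv_eq_iff_eq_mul.1 this
  by_cases hρ : Commute (ρ y) (ρ f)
  · -- then the commutator of `y` and `f`, a nontrivial power of `f`, acts trivially
    obtain ⟨k, hk⟩ := Subgroup.mem_zpowers_iff.1 hyf
    have h1 : ρ f ^ (k - 1) = 1 := by
      have : ρ f ^ k = ρ f := by
        rw [← map_zpow, hk, map_mul, map_mul, hρ.eq, mul_assoc, ← map_mul, mul_inv_cancel, map_one, mul_one]
      rw [zpow_sub, this, zpow_one, mul_inv_cancel]
    have hb' : ρ f ^ b = 1 := by rw [← map_pow, hf, map_one]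
    have hnd : ¬ (b : ℤ) ∣ k - 1 := by
      rintro ⟨t, ht⟩
      apply hne
      have : f ^ k = f := by
        rw [show k = 1 + (b : ℤ) * t by omega, zpow_add, zpow_mul, zpow_natCast, hf, one_zpow,
          zpow_one, mul_one]
      exact mul_inv_eq_iff_eq_mul.1 (hk.symm.trans this)
    have hρf : ρ f = 1 := by
      rw [← orderOf_eq_one_iff]
      rcases (Nat.dvd_prime hb).1 (orderOf_dvd_of_pow_eq_one hb') with h | h
      · exact h
      · exact absurd (h ▸ orderOf_dvd_iff_zpow_eq_one.2 h1) hnd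
    by_contra hv1
    have hv2 : v ≠ 1 := by rintro rfl; exact hv1 (one_pow b)
    have := hfix f hff ⟨v, hv⟩ (by rw [hρf]; rfl)
    exact hv2 (congrArg Subtype.val this)
  · have hmem : ρ y * ρ f * (ρ y)⁻¹ ∈ Subgroup.zpowers (ρ f) := by
      obtain ⟨k, hk⟩ := Subgroup.mem_zpowers_iff.1 hyf
      exact Subgroup.mem_zpowers_iff.2 ⟨k, by rw [← map_zpow, hk, map_mul, map_mul, map_inv]⟩
    have h := pow_eq_one_aux hb hc (ρ f) (ρ y) (by rw [← map_pow, hf, map_one])
      (by rw [← map_pow, hy, map_one]) hmem hρ (hfix f hff) (hfix y hfy) ⟨v, hv⟩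
    exact congrArg Subtype.val h

/-- Let G be a finite solvable group such that the order of every element is a prime power (1 included). Then at most two distinct primes divide the order of G. -/
theorem result {G : Type*} [Group G] [Finite G] [Group.IsSolvable G] (h : ∀ g : G, IsPrimePow (orderOf g) ∨ g = 1) :
    (Nat.card G).primeFactors.card ≤ 2 := by
  by_contra hcon
  push Not at hcon
  have hno : ∀ (u v : G) (b c : ℕ), b.Prime → c.Prime → b ≠ c → Commute u v → u ≠ 1 → v ≠ 1 →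
      ∀ i j : ℕ, orderOf u ∣ b ^ i → orderOf v ∣ c ^ j → False := by
    intro u v b c hb hc hbc huv hu hv i j hi hj
    obtain ⟨i', -, hi'⟩ := (Nat.dvd_prime_pow hb).1 hi
    obtain ⟨j', -, hj'⟩ := (Nat.dvd_prime_pow hc).1 hj
    have hco : (orderOf u).Coprime (orderOf v) :=
      hi' ▸ hj' ▸ Nat.Coprime.pow _ _ ((Nat.coprime_primes hb hc).2 hbc)
    have hord := huv.orderOf_mul_eq_mul_orderOf_of_coprime hco
    have hb' : b ∣ orderOf u := by
      rcases Nat.eq_zero_or_pos i' with rfl | h0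
      · exact absurd (orderOf_eq_one_iff.1 (by simpa using hi')) hu
      · exact hi' ▸ dvd_pow_self b h0.ne'
    have hc' : c ∣ orderOf v := by
      rcases Nat.eq_zero_or_pos j' with rfl | h0
      · exact absurd (orderOf_eq_one_iff.1 (by simpa using hj')) hv
      · exact hj' ▸ dvd_pow_self c h0.ne'
    rcases h (u * v) with h1 | h1
    · obtain ⟨l, hl⟩ := isPrimePow_iff_unique_prime_dvd.1 h1
      exact hbc ((hl.2 b ⟨hb, hord ▸ dvd_mul_of_dvd_left hb' _⟩).trans
        (hl.2 c ⟨hc, hord ▸ dvd_mul_of_dvd_right hc' _⟩).symm)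
    · rw [h1, orderOf_one] at hord
      exact hu (orderOf_eq_one_iff.1 (Nat.eq_one_of_mul_eq_one_right hord.symm))
  have hord : ∀ (b : ℕ) (N : Subgroup G), IsPGroup b N → ∀ u ∈ N, ∃ i, orderOf u ∣ b ^ i := by
    intro b N hN u hu
    obtain ⟨i, hi⟩ := hN ⟨u, hu⟩
    exact ⟨i, orderOf_dvd_of_pow_eq_one (congrArg Subtype.val hi)⟩
  -- a minimal normal subgroup `N`, an `a`-group, and an `a`-complement `M`
  have hGtop : (⊤ : Subgroup G) ≠ ⊥ := by
    intro h0
    have : Nat.card G = 1 := by rw [← Subgroup.card_top, h0, Subgroup.card_bot]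
    simp [this] at hcon
  obtain ⟨N, a, hNn, -, hN1, -, hNc, ha, hNa⟩ :=
    Solvable.exists_abelian_minimal_normal (K := (⊤ : Subgroup G)) inferInstance hGtop
  haveI := Fact.mk ha
  obtain ⟨M, hMi, hMa⟩ := Solvable.exists_pComplement (G := G) ha
  have hsub : (Nat.card G).primeFactors.erase a ⊆ (Nat.card M).primeFactors := by
    intro l hl
    obtain ⟨hla, hl⟩ := Finset.mem_erase.1 hl
    obtain ⟨hlp, hld, -⟩ := Nat.mem_primeFactors.1 hl
    refine Nat.mem_primeFactors.2 ⟨hlp, ?_, Nat.card_pos.ne'⟩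
    rw [← Subgroup.card_mul_index M, hMi] at hld
    exact (hlp.dvd_mul.1 hld).resolve_right fun h' =>
      hla ((Nat.prime_dvd_prime_iff_eq hlp ha).1 (hlp.dvd_of_dvd_pow h'))
  have hM2 : 2 ≤ (Nat.card M).primeFactors.card :=
    le_trans (by have := Finset.pred_card_le_card_erase (a := a) (s := (Nat.card G).primeFactors); omega)
      (Finset.card_le_card hsub)
  have hMtop : (⊤ : Subgroup M) ≠ ⊥ := by
    intro h0
    have : Nat.card M = 1 := by rw [← Subgroup.card_top, h0, Subgroup.card_bot]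
    simp [this] at hM2
  obtain ⟨L, b, hLn, -, hL1, hLmin, hLc, hb, hLb⟩ :=
    Solvable.exists_abelian_minimal_normal (K := (⊤ : Subgroup M)) inferInstance hMtop
  haveI := Fact.mk hb
  haveI := hLc
  obtain ⟨b', hb'p, hLexp, -⟩ := Solvable.exists_prime_of_minimal (N := L) hL1 hLmin
  haveI := Fact.mk hb'p
  obtain ⟨f, hf, hf1⟩ := L.bot_or_exists_ne_one.resolve_left hL1
  have hbb : b' = b := by
    obtain ⟨i, hi⟩ := hLb ⟨f, hf⟩
    have h1 : orderOf f = b' := orderOf_eq_prime (hLexp f hf) hf1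
    have h2 : orderOf f ∣ b ^ i := orderOf_dvd_of_pow_eq_one (congrArg Subtype.val hi)
    exact (Nat.prime_dvd_prime_iff_eq hb'p hb).1 (hb'p.dvd_of_dvd_pow (h1 ▸ h2))
  subst hbb
  have hba : b' ≠ a := by
    rintro rfl
    refine hMa ?_
    rw [← orderOf_eq_prime (hLexp f hf) hf1]
    exact orderOf_dvd_natCard f
  obtain ⟨c, hc, hcb⟩ : ∃ c ∈ (Nat.card M).primeFactors, c ≠ b' := by
    by_contra hno'
    push Not at hno'
    have : (Nat.card M).primeFactors ⊆ {b'} := fun c hc => Finset.mem_singleton.2 (hno' c hc)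
    have := Finset.card_le_card this
    simp at this
    omega
  obtain ⟨hcp, hcd, -⟩ := Nat.mem_primeFactors.1 hc
  haveI := Fact.mk hcp
  have hca : c ≠ a := fun h' => hMa (h' ▸ hcd)
  obtain ⟨y, hy⟩ := exists_prime_orderOf_dvd_card' c hcd
  have hy1 : (y : G) ≠ 1 := by
    intro h'
    rw [← Subgroup.orderOf_coe, h', orderOf_one] at hy
    exact hcp.ne_one hy.symm
  have hyord : orderOf (y : G) ∣ c ^ 1 := by rw [Subgroup.orderOf_coe, hy, pow_one]
  have hLord : ∀ u ∈ L, orderOf (u : G) ∣ b' ^ 1 := fun u hu => by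
    rw [pow_one, Subgroup.orderOf_coe]; exact orderOf_dvd_of_pow_eq_one (hLexp u hu)
  have hfix : ∀ g : M, (g : G) ≠ 1 → ∀ e : ℕ, e.Prime → e ≠ a → ∀ i, orderOf (g : G) ∣ e ^ i →
      ∀ x ∈ N, x ≠ 1 → ¬ Commute (g : G) x := by
    intro g hg e he hea i hi x hx hx1 hgx
    obtain ⟨j, hj⟩ := hord a N hNa x hx
    exact hno _ _ e a he ha hea hgx hg hx1 i j hi hj
  by_cases hcyc : ∀ e ∈ L, e ∈ Subgroup.zpowers f
  · have hconj : y * f * y⁻¹ ∈ Subgroup.zpowers f := hcyc _ (hLn.conj_mem f hf y)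
    have hne : ¬ Commute (y : G) (f : G) := fun h' =>
      hno _ _ c b' hcp hb'p hcb h' hy1 (fun h'' => hf1 (Subtype.ext h'')) 1 1 hyord (hLord f hf)
    haveI := hNn
    obtain ⟨v, hv, hv1⟩ := N.bot_or_exists_ne_one.resolve_left hN1
    obtain ⟨i, hi⟩ := hord a N hNa v hv
    have hvb : v ^ b' = 1 := by
      refine pow_eq_one_of_metacyclic N hNc hb'p (f := (f : G)) (y := (y : G)) ?_ ?_ hcp
        (by rw [← hy, ← Subgroup.orderOf_coe, pow_orderOf_eq_one]) hne ?_ ?_ v hv
      · rw [← SubgroupClass.coe_pow, hLexp f hf, OneMemClass.coe_one]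
      · obtain ⟨k, hk⟩ := Subgroup.mem_zpowers_iff.1 hconj
        exact Subgroup.mem_zpowers_iff.2 ⟨k, by rw [← SubgroupClass.coe_zpow, hk]; rfl⟩
      · exact hfix f (fun h'' => hf1 (Subtype.ext h'')) b' hb'p hba 1 (hLord f hf)
      · exact hfix y hy1 c hcp hca 1 hyord
    exact hv1 (orderOf_eq_one_iff.1 (Nat.eq_one_of_dvd_coprimes
      (((Nat.coprime_primes hb'p ha).2 hba).pow_right i) (orderOf_dvd_of_pow_eq_one hvb) hi))
  · push Not at hcyc
    obtain ⟨e, he, hef⟩ := hcyc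
    obtain ⟨g, hg, hg1, x, hx, hx1, hgx⟩ := OddOrder.exists_fixed_of_two_commuting (p := b') (q := a)
      hba hNa hN1 (e := (e : G)) (f := (f : G))
      (congrArg Subtype.val (mul_comm' (⟨e, he⟩ : L) ⟨f, hf⟩) |> congrArg Subtype.val)
      (by rw [← SubgroupClass.coe_pow, hLexp e he, OneMemClass.coe_one])
      (by rw [← SubgroupClass.coe_pow, hLexp f hf, OneMemClass.coe_one])
      (fun h'' => hf1 (Subtype.ext h''))
      (fun h'' => hef (by
        obtain ⟨k, hk⟩ := Subgroup.mem_zpowers_iff.1 h''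
        exact Subgroup.mem_zpowers_iff.2 ⟨k, Subtype.ext (by simpa using hk)⟩))
      (by rw [Subgroup.normalizer_eq_top_iff.2 hNn]; exact Subgroup.mem_top _)
      (by rw [Subgroup.normalizer_eq_top_iff.2 hNn]; exact Subgroup.mem_top _)
    have hgL : g ∈ L.map M.subtype :=
      (sup_le (Subgroup.zpowers_le.2 (Subgroup.mem_map_of_mem M.subtype he))
        (Subgroup.zpowers_le.2 (Subgroup.mem_map_of_mem M.subtype hf))) hg
    obtain ⟨g', hg', rfl⟩ := hgL
    exact hfix g' hg1 b' hb'p hba 1 (hLord g' hg') x hx hx1 hgx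

end Cfsg.Agent.S1475
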