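import Cfsg.Statements.S1477
import Cfsg.Agent.Lib.OddOrder.CNBasic

set_option autoImplicit false
open Cfsg

namespace Cfsg.Agent.S1477

/-- Let G be a finite group in which every non-identity element has nilpotent centralizer, and H a nilpotent subgroup not properly contained in any nilpotent subgroup. Then the order of H is coprime to its index; if the order of H is not a prime power then H ∩ gHg⁻¹ = 1 whenever gHg⁻¹ ≠ H; and if H ∩ gHg⁻¹ = 1 whenever gHg⁻¹ ≠ H, then C_G(x) ≤ H for every non-identity x ∈ H. -/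
theorem result {G : Type*} [Group G] [Finite G] (hCN : Cfsg.IsCNGroup G) (H : Subgroup G) (hH : Group.IsNilpotent H)
    (hmax : ∀ L : Subgroup G, Group.IsNilpotent L → H ≤ L → L = H) :
    (Nat.card H).Coprime H.index ∧
      (¬ IsPrimePow (Nat.card H) → Nat.card H ≠ 1 → ∀ g : G, H.map (MulAut.conj g).toMonoidHom ≠ H → H ⊓ H.map (MulAut.conj g).toMonoidHom = ⊥) ∧
      ((∀ g : G, H.map (MulAut.conj g).toMonoidHom ≠ H → H ⊓ H.map (MulAut.conj g).toMonoidHom = ⊥) → ∀ x ∈ H, x ≠ 1 → Subgroup.centralizer ({x} : Set G) ≤ H) := by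
  classical
  have hmax : Cfsg.Agent.OddOrder.CN.IsMaxNilp H := ⟨hH, hmax⟩
  have hTI : (∀ x ∈ H, x ≠ 1 → Subgroup.centralizer ({x} : Set G) ≤ H) →
      ∀ g : G, H.map (MulAut.conj g).toMonoidHom ≠ H →
        H ⊓ H.map (MulAut.conj g).toMonoidHom = ⊥ := by
    intro hC g hg
    rw [Subgroup.eq_bot_iff_forall]
    rintro _ ⟨hxH, a, ha, rfl⟩
    by_contra hne
    refine hg (Subgroup.mem_normalizer_iff_map_conj_eq.mp
      (hmax.mem_normalizer hCN hC ha (fun h => hne (by rw [h, map_one])) hxH))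
  refine ⟨hmax.coprime_index hCN, fun hnp h1 => hTI fun x hx hx1 => ?_, fun hti x hx hx1 => ?_⟩
  · refine hmax.centralizer_le_of_not_pGroup hCN (fun p hp hHp => ?_) hx hx1
    haveI := Fact.mk hp
    obtain ⟨n, hn⟩ := hHp.exists_card_eq
    exact hnp (hn ▸ hp.isPrimePow.pow (fun h0 => h1 (by rw [hn, h0, pow_zero])))
  · by_cases hnp : ∀ p : ℕ, p.Prime → ¬ IsPGroup p H
    · exact hmax.centralizer_le_of_not_pGroup hCN hnp hx hx1
    push Not at hnp
    obtain ⟨p, hp, hHp⟩ := hnp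
    haveI := Fact.mk hp
    obtain ⟨P, hP⟩ := hHp.exists_le_sylow
    have hPH : (P : Subgroup G) = H := hmax.2 _ P.2.isNilpotent hP
    obtain ⟨k, hk⟩ := hHp ⟨x, hx⟩
    obtain ⟨Q, hQ⟩ := (Cfsg.Agent.OddOrder.CN.isPGroup_centralizer hCN P (hPH ▸ hmax) hx1
      ⟨k, congrArg Subtype.val hk⟩).exists_le_sylow
    obtain ⟨g, hg⟩ := MulAction.exists_smul_eq G P Q
    have hQH : (Q : Subgroup G) = H.map (MulAut.conj g).toMonoidHom := by
      rw [← hg, Sylow.coe_subgroup_smul, hPH]; rfl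
    by_cases heq : H.map (MulAut.conj g).toMonoidHom = H
    · rw [hQH, heq] at hQ; exact hQ
    · exfalso
      have h0 := hti g heq
      have hm : x ∈ H ⊓ H.map (MulAut.conj g).toMonoidHom :=
        ⟨hx, hQH ▸ hQ (Subgroup.mem_centralizer_singleton_iff.mpr rfl)⟩
      rw [h0, Subgroup.mem_bot] at hm
      exact hx1 hm

end Cfsg.Agent.S1477
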