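import Cfsg.Statements.S1480
import Cfsg.Agent.Lib.OddOrder.TransitivityGeneral
import Cfsg.Agent.Lib.PCore.PSolvable

set_option autoImplicit false
open Cfsg

namespace Cfsg.Agent.S1480

/-- Let G be a finite group and p a prime such that the normalizer of every nontrivial p-subgroup of G is p-constrained; if p = 2 assume also that the Sylow 2-subgroups of G have nilpotency class at most 2. Let E be an abelian p-subgroup containing an elementary abelian subgroup of order p ^ 3 and containing every element of p-power order of C_G(E). Then for every prime q ≠ p, any two maximal E-invariant q-subgroups of G are conjugate by an element of O_{p'}(C_G(E)). -/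
theorem result {G : Type*} [Group G] [Finite G] (p : ℕ) [Fact p.Prime]
    (hloc : ∀ T : Subgroup G, IsPGroup p T → T ≠ ⊥ → Cfsg.IsPConstrained p ↥(Subgroup.normalizer (T : Set G)))
    (h2 : p = 2 → ∀ S : Sylow p G, Group.IsNilpotent (S : Subgroup G) ∧ Group.nilpotencyClass (S : Subgroup G) ≤ 2)
    (E : Subgroup G) (hEp : IsPGroup p E) (hEc : IsMulCommutative E) (hE3 : ¬ Cfsg.PRankLE p 2 E)
    (hEfull : ∀ x ∈ Subgroup.centralizer (E : Set G), IsPGroup p (Subgroup.zpowers x) → x ∈ E)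
    (q : ℕ) [Fact q.Prime] (hqp : q ≠ p) :
    ∀ Q₁ ∈ Cfsg.maxInvSubgroups ⊤ E {q}, ∀ Q₂ ∈ Cfsg.maxInvSubgroups ⊤ E {q},
        ∃ k ∈ Cfsg.piCoreOf (Cfsg.primesNotDvd p) (Subgroup.centralizer (E : Set G)), Q₂ = Q₁.map (MulAut.conj k).toMonoidHom := by
  haveI := hEc
  obtain ⟨E₀, hE₀, hE₀c, hE₀p⟩ : ∃ E₀ : Subgroup G, E₀ ≤ E ∧ Nat.card E₀ = p ^ (2 + 1) ∧ ∀ a ∈ E₀, a ^ p = 1 := by
    simp only [Cfsg.PRankLE, not_forall, not_le] at hE3
    obtain ⟨A, hA, hAp, hlt⟩ := hE3
    have hAG : IsPGroup p A := fun a => ⟨1, Subtype.ext (by simpa using hAp a a.2)⟩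
    obtain ⟨m, hm⟩ := hAG.exists_card_eq
    rw [hm] at hlt
    have hkm : 2 + 1 ≤ m := (Nat.pow_lt_pow_iff_right (Fact.out : p.Prime).one_lt).mp hlt
    obtain ⟨B, hB⟩ := Sylow.exists_subgroup_card_pow_prime p (G := A) (n := 2 + 1) (hm ▸ pow_dvd_pow p hkm)
    refine ⟨(B.map A.subtype).map E.subtype, Subgroup.map_subtype_le _, ?_, ?_⟩
    · rw [Subgroup.card_map_of_injective E.subtype_injective, Subgroup.card_map_of_injective A.subtype_injective, hB]
    · rintro _ ⟨_, ⟨a, -, rfl⟩, rfl⟩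
      exact congrArg Subtype.val (hAp a a.2)
  intro Q₁ hQ₁ Q₂ hQ₂
  refine Cfsg.Agent.OddOrder.transitivity hloc (fun h S => ?_) hEp hE₀ hE₀c hE₀p hEfull hqp hQ₁ hQ₂
  obtain ⟨hn, hcl⟩ := h2 h S
  haveI := hn
  exact Subgroup.lowerCentralSeries_eq_bot_of_nilpotencyClass_le (S := (S : Subgroup G)) hcl

end Cfsg.Agent.S1480
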