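import Cfsg.Statements.S1485
import Cfsg.Agent.Lib.Char.Clifford
-- import your own Cfsg.Agent.* helpers here

set_option autoImplicit false
open Cfsg

namespace Cfsg.Agent.S1485

/-- Let H be a normal subgroup of the finite group G and θ an irreducible character of H. On H, the function induced from θ equals r times the sum of the distinct G-conjugates of θ, where r is the number of elements of G fixing θ under conjugation divided by the order of H (the index of H in the inertia group). -/
theorem result {G : Type*} [Group G] [Fintype G] (H : Subgroup G) [hN : H.Normal] (θ : H → ℂ) (hθ : Cfsg.IsIrrCharacter H θ) : (fun h : H => Cfsg.indFun H θ h) = ((Nat.card {g : G // ∀ h : H, θ ⟨g * h * g⁻¹, hN.conj_mem h h.2 g⟩ = θ h} : ℂ) / (Nat.card H : ℂ)) • ∑ᶠ ψ ∈ {ψ : H → ℂ | ∃ g : G, ψ = fun h : H => θ ⟨g * h * g⁻¹, hN.conj_mem h h.2 g⟩}, ψ := by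
  classical
  haveI := hN
  haveI : Fintype H := Fintype.ofFinite H
  let c : G → (H → ℂ) := fun g => Char.conjFun H θ g
  have hc : ∀ g, (fun h : H => θ ⟨g * h * g⁻¹, hN.conj_mem h h.2 g⟩) = c g := fun g =>
    funext fun h => congrArg θ (Subtype.ext (by simp))
  have hset : {ψ : H → ℂ | ∃ g : G, ψ = fun h : H => θ ⟨g * h * g⁻¹, hN.conj_mem h h.2 g⟩} =
      ((Finset.univ.image c : Finset (H → ℂ)) : Set (H → ℂ)) := by
    ext ψ; simp [hc, eq_comm]
  have hstab : Nat.card {g : G // ∀ h : H, θ ⟨g * h * g⁻¹, hN.conj_mem h h.2 g⟩ = θ h} =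
      (Finset.univ.filter fun g => c g = θ).card := by
    rw [Nat.card_eq_fintype_card, Fintype.card_subtype]
    congr 1; ext g; simp [← hc, funext_iff]
  rw [hset, finsum_mem_coe_finset]
  change Char.resFun H (indFun H θ) = _
  rw [Char.resFun_indFun, ← Finset.sum_fiberwise_of_maps_to
    (fun g _ => Finset.mem_image_of_mem c (Finset.mem_univ g)), hstab, div_eq_inv_mul, mul_smul]
  congr 1
  rw [Finset.smul_sum]
  refine Finset.sum_congr rfl fun ψ hψ => ?_
  obtain ⟨g₀, -, rfl⟩ := Finset.mem_image.1 hψ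
  rw [Finset.sum_congr rfl (g := fun _ => c g₀) fun g hg => (Finset.mem_filter.1 hg).2,
    Finset.sum_const, Nat.cast_smul_eq_nsmul]
  congr 1
  refine Finset.card_equiv (Equiv.mulRight g₀⁻¹) fun g => ?_
  simp only [Finset.mem_filter, Finset.mem_univ, true_and, Equiv.coe_mulRight, c,
    Char.conjFun_mul]
  rw [Char.conjFun_eq_iff H (Char.conjFun H θ g) θ g₀⁻¹, inv_inv]
  exact eq_comm

end Cfsg.Agent.S1485
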