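import Cfsg.Statements.S1487
import Cfsg.Agent.Lib.CharInt.Basic
import Cfsg.Agent.Lib.Char.Induction
-- import your own Cfsg.Agent.* helpers here

set_option autoImplicit false
open Cfsg

namespace Cfsg.Agent.S1487

/-- Let A ≤ H be normal subgroups of the finite group G and θ an irreducible character of H. Then θ takes the value θ 1 on all of A if and only if the function induced from θ to G takes its value at 1 on all of A. -/
theorem result {G : Type*} [Group G] [Fintype G] (A H : Subgroup G) [A.Normal] [H.Normal] (hAH : A ≤ H) (θ : H → ℂ) (hθ : Cfsg.IsIrrCharacter H θ) : (∀ a : H, (a : G) ∈ A → θ a = θ 1) ↔ (∀ a : G, a ∈ A → Cfsg.indFun H θ a = Cfsg.indFun H θ 1) := by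
  have hc : IsCharacter H θ := CharInt.isCharacter_of_isIrr hθ
  obtain ⟨n, hn⟩ := CharInt.exists_degree hc
  have hmem : ∀ (x a : G), a ∈ A → x⁻¹ * a * x ∈ A := fun x a ha => by
    simpa using (inferInstance : A.Normal).conj_mem a ha x⁻¹
  constructor
  · intro h a ha
    have key : ∀ b ∈ A, ∀ x : G, extendByZero H θ (x⁻¹ * b * x) = θ 1 := fun b hb x => by
      rw [Char.extendByZero_of_mem H θ (hAH (hmem x b hb))]
      exact h _ (hmem x b hb)
    simp only [indFun, key a ha, key 1 A.one_mem]
  · intro h a ha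
    have h1 := h a ha
    have hne : ((Nat.card H : ℂ))⁻¹ ≠ 0 := inv_ne_zero (Nat.cast_ne_zero.2 Nat.card_pos.ne')
    have h2 := mul_left_cancel₀ hne h1
    have hone : ∀ x : G, extendByZero H θ (x⁻¹ * 1 * x) = θ 1 := fun x => by
      rw [show x⁻¹ * 1 * x = 1 by group, Char.extendByZero_of_mem H θ H.one_mem]; rfl
    simp only [hone] at h2
    have hle : ∀ x : G, ‖extendByZero H θ (x⁻¹ * a * x)‖ ≤ (n : ℝ) := fun x => by
      rw [Char.extendByZero_of_mem H θ (hAH (hmem x a ha))]
      refine (CharInt.norm_char_le hc _).trans (le_of_eq ?_)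
      rw [hn, Complex.norm_natCast]
    have h3 := congrArg Complex.re h2
    simp only [Complex.re_sum, hn, Complex.natCast_re] at h3
    have h4 : ∀ x ∈ (Finset.univ : Finset G), (extendByZero H θ (x⁻¹ * a * x)).re = (n : ℝ) :=
      (Finset.sum_eq_sum_iff_of_le fun x _ => (Complex.re_le_norm _).trans (hle x)).1 h3
    have h5 := h4 1 (Finset.mem_univ _)
    have h6 := hle 1
    rw [show (1 : G)⁻¹ * a * 1 = (a : G) by group] at h5 h6
    rw [Char.extendByZero_coe] at h5 h6
    have h7 : (θ a).im = 0 := by
      have h8 := Complex.sq_norm (θ a)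
      rw [Complex.normSq_apply, h5] at h8
      nlinarith [norm_nonneg (θ a)]
    rw [hn]
    exact Complex.ext (by simpa using h5) (by simpa using h7)

end Cfsg.Agent.S1487
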