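import Cfsg.Statements.S1488
import Cfsg.Agent.Lib.Char.Induction
-- import your own Cfsg.Agent.* helpers here

set_option autoImplicit false
open Cfsg

namespace Cfsg.Agent.S1488

/-- Let A be a normal subgroup of the finite group G contained in the subgroup H, let θ be a function on H and θ₁ a function on the image of H in G ⧸ A whose composite with the projection is θ. Then the function induced from θ₁ to G ⧸ A, composed with the projection G → G ⧸ A, equals the function induced from θ to G. -/
theorem result {G : Type*} [Group G] [Fintype G] (A H : Subgroup G) [A.Normal] (hAH : A ≤ H) [Fintype (G ⧸ A)] [Fintype ↥(H.map (QuotientGroup.mk' A))] (θ : H → ℂ) (θ₁ : ↥(H.map (QuotientGroup.mk' A)) → ℂ) (hθ : ∀ x : H, θ₁ ⟨QuotientGroup.mk' A x, Subgroup.mem_map_of_mem _ x.2⟩ = θ x) (g : G) : Cfsg.indFun (H.map (QuotientGroup.mk' A)) θ₁ (QuotientGroup.mk' A g) = Cfsg.indFun H θ g := by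
  let B := H.map (QuotientGroup.mk' A)
  have hmem : ∀ y : G, QuotientGroup.mk' A y ∈ B → y ∈ H := by
    intro y hy
    have : y ∈ B.comap (QuotientGroup.mk' A) := hy
    rwa [Subgroup.comap_map_eq, QuotientGroup.ker_mk', sup_eq_left.2 hAH] at this
  have hext : ∀ y : G, extendByZero B θ₁ (QuotientGroup.mk' A y) = extendByZero H θ y := by
    intro y
    by_cases hy : y ∈ H
    · rw [Char.extendByZero_of_mem _ _ (Subgroup.mem_map_of_mem _ hy),
        Char.extendByZero_of_mem _ _ hy]
      exact hθ ⟨y, hy⟩
    · rw [Char.extendByZero_of_notMem _ _ hy,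
        Char.extendByZero_of_notMem _ _ fun h => hy (hmem y h)]
  have hsum : ∀ f : G ⧸ A → ℂ, ∑ x : G, f (QuotientGroup.mk' A x) = (Nat.card A : ℂ) * ∑ x, f x := by
    intro f
    haveI : Fintype A := Fintype.ofFinite A
    rw [Fintype.sum_equiv Subgroup.groupEquivQuotientProdSubgroup (fun x => f (QuotientGroup.mk' A x))
        (fun z => f z.1) fun x => by rw [Subgroup.groupEquivQuotientProdSubgroup]; rfl,
      Fintype.sum_prod_type_right]
    simp only [Finset.sum_const]
    rw [nsmul_eq_mul, Finset.card_univ,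
      Nat.card_eq_fintype_card]
  have hcard : (Nat.card H : ℂ) = Nat.card A * Nat.card B := by
    have h1 : B.index = H.index := Subgroup.index_map_eq _ (QuotientGroup.mk'_surjective A)
      (by rw [QuotientGroup.ker_mk']; exact hAH)
    have h2 : Nat.card H * H.index = Nat.card A * Nat.card B * H.index := by
      rw [Subgroup.card_mul_index, Subgroup.card_eq_card_quotient_mul_card_subgroup A, mul_assoc,
        ← h1, Subgroup.card_mul_index, mul_comm]
    rw [← Nat.cast_mul, Nat.eq_of_mul_eq_mul_right (Nat.pos_of_ne_zero Subgroup.index_ne_zero_of_finite) h2]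
  simp only [indFun]
  rw [hcard, mul_inv_rev, mul_assoc, Finset.sum_congr rfl fun x _ =>
    (hext (x⁻¹ * g * x)).symm]
  simp only [map_mul, map_inv]
  rw [hsum fun x => extendByZero B θ₁ (x⁻¹ * QuotientGroup.mk' A g * x), ← mul_assoc (_⁻¹ : ℂ) (Nat.card A : ℂ),
    inv_mul_cancel₀ (Nat.cast_ne_zero.2 Nat.card_pos.ne'), one_mul]

end Cfsg.Agent.S1488
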