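import Cfsg.Statements.S1489
import Cfsg.Agent.Lib.Char.Clifford
-- import your own Cfsg.Agent.* helpers here

set_option autoImplicit false
open Cfsg

namespace Cfsg.Agent.S1489

/-- Let H be a normal subgroup of the finite group G, θ an irreducible character of H, and T the inertia group of θ (the elements g with θ(g h g⁻¹) = θ(h) for all h ∈ H). If ψ and ψ' are irreducible characters of T having nonzero inner product with the function induced from θ to T, then the function induced from ψ to G is an irreducible character of G, and it equals the one induced from ψ' only if ψ = ψ'. -/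
theorem result {G : Type*} [Group G] [Fintype G] (H T : Subgroup G) [hN : H.Normal] [Fintype T] (θ : H → ℂ) (hθ : Cfsg.IsIrrCharacter H θ) (hT : ∀ g : G, g ∈ T ↔ ∀ h : H, θ ⟨g * h * g⁻¹, hN.conj_mem h h.2 g⟩ = θ h) (hHT : H ≤ T) (ψ ψ' : T → ℂ) (hψ : Cfsg.IsIrrCharacter T ψ) (hψ' : Cfsg.IsIrrCharacter T ψ') (hc : Cfsg.classInner (Cfsg.indFun (H.subgroupOf T) (fun x => θ ⟨(x : T), Subgroup.mem_subgroupOf.mp x.2⟩)) ψ ≠ 0) (hc' : Cfsg.classInner (Cfsg.indFun (H.subgroupOf T) (fun x => θ ⟨(x : T), Subgroup.mem_subgroupOf.mp x.2⟩)) ψ' ≠ 0) : Cfsg.IsIrrCharacter G (Cfsg.indFun T ψ) ∧ (Cfsg.indFun T ψ = Cfsg.indFun T ψ' → ψ = ψ') := by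
  classical
  haveI := hN
  set N' : Subgroup T := H.subgroupOf T
  let e : N' ≃* H := Subgroup.subgroupOfEquivOfLe hHT
  haveI : Fintype N' := Fintype.ofFinite _
  haveI : Fintype H := Fintype.ofFinite _
  have hθ' : IsIrrCharacter N' (fun x => θ ⟨(x : T), Subgroup.mem_subgroupOf.mp x.2⟩) := by
    have := Char.IsIrrCharacter.comp_surjective hθ e.toMonoidHom e.surjective
    exact this
  let θN : IrrCharacter N' := ⟨_, hθ'⟩
  have hI : ∀ g : G, Char.conjFun H θ g = θ → g ∈ T := fun g hg => (hT g).2 fun h =>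
    ((congrArg θ (Subtype.ext (by simp))).trans (congrFun hg h))
  have key : ∀ φ : T → ℂ, IsIrrCharacter T φ → classInner (indFun N' θN.1) φ ≠ 0 →
      ∃ m : ℕ, m ≠ 0 ∧ ∀ n : H, φ ⟨n, hHT n.2⟩ = m * θ n := by
    intro φ hφ hne
    have hφc := Char.IsIrrCharacter.isCharacter hφ
    rw [Char.classInner_indFun N' _ (Char.IsCharacter.isClassFunction hφc),
      ← Char.conj_classInner] at hne
    have hne' : classInner (Char.resFun N' φ) θN.1 ≠ 0 := fun h0 => hne (by
      rw [show classInner (fun h : N' => φ h) θN.1 = 0 from h0, map_zero])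
    have horb : Char.orbitFinset N' θN = {θN} := by
      ext η
      rw [Char.mem_orbitFinset, Finset.mem_singleton]
      refine ⟨?_, fun h => ⟨1, by rw [h]; exact Subtype.ext (Char.conjFun_one N' θN.1).symm⟩⟩
      rintro ⟨g, rfl⟩
      refine Subtype.ext (funext fun n => ?_)
      exact (congrArg θ (Subtype.ext (by simp))).trans ((hT (g : G)).1 g.2 ⟨(n : T), n.2⟩)
    obtain ⟨m, hm⟩ := Char.IsCharacter.exists_nat_classInner
      (Char.IsCharacter.restrict hφc N') (Char.IsIrrCharacter.isCharacter θN.2)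
    have hm' : classInner (Char.resFun N' φ) θN.1 = m := hm
    refine ⟨m, fun h0 => hne' (by rw [hm', h0, Nat.cast_zero]), fun n => ?_⟩
    have h := congrFun (Char.resFun_eq_smul_orbitSum N' ⟨φ, hφ⟩ θN hne') (e.symm n)
    rw [Char.orbitSum, horb, Finset.sum_singleton, hm'] at h
    exact h
  obtain ⟨m, hm, hres⟩ := key ψ hψ hc
  obtain ⟨m', hm', hres'⟩ := key ψ' hψ' hc'
  exact ⟨Char.isIrrCharacter_indFun_inertia H T hHT ⟨θ, hθ⟩ hI (ψ := ⟨ψ, hψ⟩) hm hres,
    fun h => congrArg Subtype.val (Char.indFun_inertia_injective H T hHT ⟨θ, hθ⟩ hI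
      (ψ := ⟨ψ, hψ⟩) (ψ' := ⟨ψ', hψ'⟩) hm hm' hres hres' h)⟩

end Cfsg.Agent.S1489
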