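import Cfsg.Statements.S1490
import Cfsg.Agent.Lib.Char.CliffordAbelian
-- import your own Cfsg.Agent.* helpers here

set_option autoImplicit false
open Cfsg

namespace Cfsg.Agent.S1490

/-- Let H be a normal subgroup of the finite group G, θ an irreducible character of H with inertia group T, and suppose the commutator of any two elements of T lies in H (T/H abelian). Then there are a positive integer e and a finite set C of irreducible characters of G with e ^ 2 * |C| * |H| = |T|, such that the function induced from θ is e times the sum of the members of C and every member of C has degree [G:T] * e * θ(1). -/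
theorem result {G : Type*} [Group G] [Fintype G] (H T : Subgroup G) [hN : H.Normal] (θ : H → ℂ) (hθ : Cfsg.IsIrrCharacter H θ) (hT : ∀ g : G, g ∈ T ↔ ∀ h : H, θ ⟨g * h * g⁻¹, hN.conj_mem h h.2 g⟩ = θ h) (hab : ∀ x ∈ T, ∀ y ∈ T, x * y * x⁻¹ * y⁻¹ ∈ H) : ∃ (e : ℕ) (C : Finset (G → ℂ)), 0 < e ∧ (∀ χ ∈ C, Cfsg.IsIrrCharacter G χ) ∧ e ^ 2 * C.card * Nat.card H = Nat.card T ∧ Cfsg.indFun H θ = (e : ℂ) • ∑ χ ∈ C, χ ∧ ∀ χ ∈ C, χ 1 = (T.index : ℂ) * e * θ 1 := by
  classical
  haveI : Fintype H := Fintype.ofFinite _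
  haveI : Fintype T := Fintype.ofFinite _
  have hT' : ∀ g, g ∈ T ↔ Char.conjFun H θ g = θ := by
    intro g
    rw [hT g]
    exact ⟨fun h => funext fun n => (congrArg θ (Subtype.ext rfl)).trans (h n),
      fun h n => (congrArg θ (Subtype.ext rfl)).trans (congrFun h n)⟩
  obtain ⟨e, C, he, hcard, hind, hdeg⟩ := Char.exists_clifford_abelian H ⟨θ, hθ⟩ T hT' hab
  refine ⟨e, C.image Subtype.val, he, ?_, ?_, ?_, ?_⟩
  · intro χ hχ
    obtain ⟨χ', -, rfl⟩ := Finset.mem_image.1 hχ
    exact χ'.2
  · rwa [Finset.card_image_of_injective _ Subtype.val_injective]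
  · rw [Finset.sum_image fun a _ b _ h => Subtype.ext h]
    exact hind
  · intro χ hχ
    obtain ⟨χ', hχ', rfl⟩ := Finset.mem_image.1 hχ
    exact hdeg χ' hχ'

end Cfsg.Agent.S1490
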