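import Cfsg.Statements.S1491
import Cfsg.Agent.Lib.Char.CliffordGallagher
import Cfsg.Agent.Lib.Clifford.CoprimeExtension

set_option autoImplicit false
set_option linter.style.haveILetI false
open Cfsg

namespace Cfsg.Agent.S1491

open Cfsg.Agent.Char
open Cfsg.Agent
open scoped ComplexConjugate


/-- Let H be a normal subgroup of the finite group G and θ an irreducible character of H with inertia group T, where T/H is abelian (commutators of T lie in H) and the index of H in T is coprime to the order of H. Then the function induced from θ is the sum of a set of exactly [T:H] irreducible characters of G, each of degree [G:T] * θ(1). -/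
theorem result {G : Type*} [Group G] [Fintype G] (H T : Subgroup G) [hN : H.Normal] (θ : H → ℂ) (hθ : Cfsg.IsIrrCharacter H θ) (hT : ∀ g : G, g ∈ T ↔ ∀ h : H, θ ⟨g * h * g⁻¹, hN.conj_mem h h.2 g⟩ = θ h) (hab : ∀ x ∈ T, ∀ y ∈ T, x * y * x⁻¹ * y⁻¹ ∈ H) (hcop : Nat.Coprime (Nat.card H) (H.relIndex T)) : ∃ C : Finset (G → ℂ), (∀ χ ∈ C, Cfsg.IsIrrCharacter G χ) ∧ C.card = H.relIndex T ∧ Cfsg.indFun H θ = ∑ χ ∈ C, χ ∧ ∀ χ ∈ C, χ 1 = (T.index : ℂ) * θ 1 := by
  classical
  haveI := Fintype.ofFinite H
  haveI := Fintype.ofFinite T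
  haveI := Fintype.ofFinite (H.subgroupOf T)
  set θ' : IrrCharacter H := ⟨θ, hθ⟩
  have hI : ∀ g, g ∈ T ↔ Char.conjFun H θ'.1 g = θ'.1 := fun g => by
    rw [hT, conjFun_eq_self_iff]
    exact ⟨fun h n n' hn => by
      rw [show n' = ⟨g * n * g⁻¹, hN.conj_mem (n : G) n.2 g⟩ from Subtype.ext hn]; exact h n,
      fun h n => h n _ rfl⟩
  have hHT : H ≤ T := fun g hg => (hI g).2 (congrArg Subtype.val (conjChar_of_mem H θ' hg))
  obtain ⟨ext, ⟨hext', -⟩, -⟩ := Clifford.existsUnique_extension_of_coprime_card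
    (toSubgroupOf H hHT θ') (fun g => (conjFun_toSubgroupOf_iff H hHT θ' g).2 ((hI g).1 g.2))
    (by
      rw [Nat.card_congr (Subgroup.subgroupOfEquivOfLe hHT).toEquiv]
      exact hcop.symm)
  have hext : ∀ n : H, ext.1 ⟨n, hHT n.2⟩ = θ'.1 n := fun n =>
    hext' ⟨⟨n, hHT n.2⟩, Subgroup.mem_subgroupOf.2 n.2⟩
  have hcomm : ∀ a b : T ⧸ H.subgroupOf T, a * b = b * a := fun a b => by
    obtain ⟨x, rfl⟩ := QuotientGroup.mk_surjective a
    obtain ⟨y, rfl⟩ := QuotientGroup.mk_surjective b
    rw [← QuotientGroup.mk_mul, ← QuotientGroup.mk_mul, QuotientGroup.eq_iff_div_mem,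
      Subgroup.mem_subgroupOf]
    simpa [div_eq_mul_inv, mul_assoc] using hab x x.2 y y.2
  have hone : ∀ β : IrrCharacter (T ⧸ H.subgroupOf T), β.1 1 = 1 := apply_one_of_comm hcomm
  set F := cgLift hHT hI hext
  refine ⟨Finset.univ.image fun β => (F β).1, ?_, ?_, ?_, ?_⟩
  · intro χ hχ
    obtain ⟨β, -, rfl⟩ := Finset.mem_image.1 hχ
    exact (F β).2
  · rw [Finset.card_image_of_injective _ (fun a b h => cgLift_injective hHT hI hext (Subtype.ext h)),
      Finset.card_univ, ← Nat.card_eq_fintype_card,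
      ← Nat.card_congr (Equiv.subtypeUnivEquiv hone), card_linear,
      show commutator (T ⧸ H.subgroupOf T) = ⊥ from ?_, Subgroup.index_bot, ← Subgroup.index_eq_card]
    · rfl
    · rw [eq_bot_iff, commutator_def, Subgroup.commutator_le]
      intro a _ b _
      rw [Subgroup.mem_bot, commutatorElement_eq_one_iff_mul_comm]
      exact hcomm a b
  · rw [Finset.sum_image fun a _ b _ h => cgLift_injective hHT hI hext (Subtype.ext h)]
    conv_lhs => rw [eq_sum_classInner_smul (isClassFunction_indFun H θ)]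
    rw [← Finset.sum_subset (Finset.subset_univ (Finset.univ.image F)) fun χ _ hχ => ?_,
      Finset.sum_image fun a _ b _ h => cgLift_injective hHT hI hext h]
    · refine Finset.sum_congr rfl fun β _ => ?_
      have h1 : classInner (resFun H (F β).1) θ'.1 = 1 := by
        rw [classInner_resFun_cgLift]
        have := hone β
        rw [apply_one_eq_degree] at this
        exact this
      rw [classInner_indFun H θ (IsCharacter.isClassFunction (irr_isCharacter (F β))),
        ← conj_classInner, show classInner (fun h : H => (F β).1 h) θ = 1 from h1, map_one,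
        one_smul]
    · rw [classInner_indFun H θ (IsCharacter.isClassFunction (irr_isCharacter χ)),
        ← conj_classInner]
      have h0 : classInner (fun h : H => χ.1 h) θ = 0 := by
        by_contra h
        obtain ⟨β, hβ⟩ := exists_cgLift_eq hHT hI hext χ h
        exact hχ (Finset.mem_image.2 ⟨β, Finset.mem_univ _, hβ⟩)
      rw [h0, map_zero, zero_smul]
  · intro χ hχ
    obtain ⟨β, -, rfl⟩ := Finset.mem_image.1 hχ
    rw [cgLift_apply_one, hone, mul_one]

end Cfsg.Agent.S1491
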