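import Cfsg.Statements.S1492
import Cfsg.Agent.Lib.CharInt.Constituents
import Cfsg.Agent.Lib.CharInt.Basic
import Cfsg.Agent.Lib.CharInt.Central
import Cfsg.Agent.Lib.Char.InducedEq
-- import your own Cfsg.Agent.* helpers here

set_option autoImplicit false
open Cfsg

namespace Cfsg.Agent.S1492

theorem trivial_of_constituent {H : Type*} [Group H] [Fintype H] {φ : H → ℂ}
    (hφ : Cfsg.IsCharacter H φ) (θ : Cfsg.IrrCharacter H) (h : Cfsg.classInner φ θ.1 ≠ 0) {b : H}
    (hb : φ b = φ 1) : θ.1 b = θ.1 1 := by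
  classical
  obtain ⟨m, hm, hm'⟩ := Char.IsCharacter.exists_decomp hφ
  have hle : ∀ η : Cfsg.IrrCharacter H,
      (m η : ℝ) * (η.1 b).re ≤ (m η : ℝ) * (η.1 1).re := fun η => by
    refine mul_le_mul_of_nonneg_left ?_ (by positivity)
    obtain ⟨d, -, hd⟩ := CharInt.irr_degree_pos η.2
    have := CharInt.norm_char_le (CharInt.isCharacter_of_isIrr η.2) b
    rw [hd, Complex.norm_natCast] at this
    rw [hd, Complex.natCast_re]
    exact le_trans (Complex.re_le_norm _) this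
  have heq : ∑ η, (m η : ℝ) * (η.1 b).re = ∑ η, (m η : ℝ) * (η.1 1).re := by
    have h1 := congrArg Complex.re hb
    rw [hm] at h1
    simpa [Finset.sum_apply, Complex.re_sum] using h1
  have hθ := (Finset.sum_eq_sum_iff_of_le fun η _ => hle η).1 heq θ (Finset.mem_univ θ)
  have hre : (θ.1 b).re = (θ.1 1).re :=
    mul_left_cancel₀ (Nat.cast_ne_zero.2 fun h0 => h (by rw [hm', h0, Nat.cast_zero])) hθ
  obtain ⟨d, -, hd⟩ := CharInt.irr_degree_pos θ.2
  have hn := CharInt.norm_char_le (CharInt.isCharacter_of_isIrr θ.2) b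
  rw [hd, Complex.norm_natCast] at hn
  rw [hd, Complex.natCast_re] at hre
  have him : (θ.1 b).im = 0 := by
    have h2 := Complex.sq_norm (θ.1 b)
    rw [Complex.normSq_apply, hre] at h2
    have h3 : ‖θ.1 b‖ ^ 2 ≤ (d : ℝ) ^ 2 := pow_le_pow_left₀ (norm_nonneg _) hn 2
    nlinarith [mul_self_nonneg (θ.1 b).im]
  rw [hd]
  exact Complex.ext (by simpa using hre) (by simpa using him)

/-- Let ψ be an irreducible character of the finite group G and B ≤ D ≤ C subgroups with B normal in C, every commutator of an element of D with an element of C lying in B (so D/B is central in C/B), and ψ constant equal to ψ 1 on B. Then ψ(1) ^ 2 * |C| * |D| ≤ |G| ^ 2. -/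
theorem result {G : Type*} [Group G] [Finite G] (ψ : G → ℂ) (hψ : Cfsg.IsIrrCharacter G ψ) (B C D : Subgroup G) (hBD : B ≤ D) (hDC : D ≤ C) (hBn : ∀ c ∈ C, ∀ b ∈ B, c * b * c⁻¹ ∈ B) (hcent : ∀ d ∈ D, ∀ c ∈ C, d * c * d⁻¹ * c⁻¹ ∈ B) (hker : ∀ b ∈ B, ψ b = ψ 1) : ‖ψ 1‖ ^ 2 * (Nat.card C : ℝ) * (Nat.card D : ℝ) ≤ (Nat.card G : ℝ) ^ 2 := by
  classical
  haveI := Fintype.ofFinite G
  haveI := Fintype.ofFinite C
  let χ : Cfsg.IrrCharacter G := ⟨ψ, hψ⟩
  obtain ⟨θ, hθ⟩ := CharInt.exists_constituent_res C χ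
  obtain ⟨n, ρ, hρ, hρθ⟩ := θ.2
  haveI := hρ
  obtain ⟨p, hppos, hp⟩ := CharInt.irr_degree_pos hψ
  obtain ⟨e, hepos, he⟩ := CharInt.irr_degree_pos θ.2
  have hle : p ≤ C.index * e :=
    CharInt.degree_le_of_constituent (CharInt.isCharacter_of_isIrr θ.2) hθ hp he
  have hφ : Cfsg.IsCharacter C (fun h : C => ψ h) :=
    Char.IsCharacter.restrict (CharInt.isCharacter_of_isIrr hψ) C
  have hBker : ∀ x : C, (x : G) ∈ B → ρ x = 1 := fun x hx => by
    rw [← CharInt.character_eq_finrank_iff, ← ρ.char_one, hρθ]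
    exact trivial_of_constituent hφ θ hθ (hker _ hx)
  have hscal : ∀ x : C, (x : G) ∈ D → ‖θ.1 x‖ = e := fun x hx => by
    have hcomm : ∀ y : C, ρ x * ρ y = ρ y * ρ x := fun y => by
      have h1 : ρ (x * y * x⁻¹ * y⁻¹) = 1 := hBker _ (by simpa using hcent _ hx _ y.2)
      calc ρ x * ρ y = ρ (x * y * x⁻¹ * y⁻¹) * (ρ y * ρ x) := by
            rw [← map_mul ρ y x, ← map_mul ρ x y, ← map_mul]; group
        _ = ρ y * ρ x := by rw [h1, one_mul]
    have h2 := (CharInt.norm_character_eq_finrank_iff ρ x).2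
      (CharInt.exists_eq_smul_one_of_commute ρ (ρ x) hcomm)
    have h3 : θ.1 1 = (Module.finrank ℂ (Fin n → ℂ) : ℂ) := by rw [← hρθ, ρ.char_one]
    have h4 : (e : ℕ) = Module.finrank ℂ (Fin n → ℂ) := by exact_mod_cast he.symm.trans h3
    rw [← hρθ, h2, h4]
  have hsum : ∑ x : C, ‖θ.1 x‖ ^ 2 = (Nat.card C : ℝ) := by
    have h1 := Char.classInner_irr_self θ.2
    unfold Cfsg.classInner at h1
    field_simp at h1
    simp only [Complex.mul_conj'] at h1
    exact_mod_cast h1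
  have hDC' : (Nat.card D : ℝ) * (e : ℝ) ^ 2 ≤ Nat.card C := by
    rw [← hsum]
    refine le_trans (le_of_eq ?_) (Finset.sum_le_univ_sum_of_nonneg
      (s := Finset.univ.filter fun x : C => (x : G) ∈ D) fun x => sq_nonneg _)
    rw [Finset.sum_congr rfl fun x hx => by rw [hscal x (Finset.mem_filter.1 hx).2],
      Finset.sum_const, nsmul_eq_mul,
      ← Nat.card_congr (Subgroup.subgroupOfEquivOfLe hDC).toEquiv, Nat.card_eq_fintype_card]
    congr 1
    norm_cast
    rw [← Fintype.card_subtype]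
    exact Fintype.card_congr (Equiv.refl _)
  have hG : (Nat.card G : ℝ) = (C.index : ℝ) * Nat.card C := by
    exact_mod_cast (Subgroup.index_mul_card C).symm
  have hle' : (p : ℝ) ≤ (C.index : ℝ) * e := by exact_mod_cast hle
  rw [show ψ 1 = (p : ℂ) from hp, Complex.norm_natCast, hG]
  calc (p : ℝ) ^ 2 * Nat.card C * Nat.card D
      ≤ ((C.index : ℝ) * e) ^ 2 * Nat.card C * Nat.card D := by gcongr
    _ = (C.index : ℝ) ^ 2 * Nat.card C * ((Nat.card D : ℝ) * (e : ℝ) ^ 2) := by ring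
    _ ≤ (C.index : ℝ) ^ 2 * Nat.card C * Nat.card C := by gcongr
    _ = _ := by ring

end Cfsg.Agent.S1492
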