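import Cfsg.Statements.S1495
import Mathlib
-- import your own Cfsg.Agent.* helpers here

set_option autoImplicit false
open Cfsg

namespace Cfsg.Agent.S1495

/-- Let p be a prime, ε = exp(2πi/p), and n an integer such that n = (1 − ε) * ω for some algebraic integer ω. Then p divides n. -/
theorem result (p : ℕ) (hp : p.Prime) (n : ℤ) (ω : ℂ) (hω : IsIntegral ℤ ω) (h : (n : ℂ) = (1 - Complex.exp (2 * Real.pi * Complex.I / p)) * ω) : (p : ℤ) ∣ n := by
  set ε : ℂ := Complex.exp (2 * Real.pi * Complex.I / p) with hε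
  have hprim : IsPrimitiveRoot ε p := Complex.isPrimitiveRoot_exp p hp.ne_zero
  have hεint : IsIntegral ℤ ε := hprim.isIntegral hp.pos
  have hk : ∀ k ∈ Finset.range (p - 1), ∃ v : ℂ, IsIntegral ℤ v ∧ (n : ℂ) = (1 - ε ^ (k + 1)) * v := by
    intro k hk
    rw [Finset.mem_range] at hk
    have hcop : Nat.Coprime (k + 1) p :=
      (hp.coprime_iff_not_dvd.2 (Nat.not_dvd_of_pos_of_lt (by omega) (by omega))).symm
    obtain ⟨m, -, hm⟩ := Nat.exists_mul_mod_eq_one_of_coprime hcop hp.one_lt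
    have hm' : (ε ^ (k + 1)) ^ m = ε := by
      rw [← pow_mul, ← Nat.mod_add_div ((k + 1) * m) p, hm, pow_add, pow_one, pow_mul, hprim.pow_eq_one,
        one_pow, mul_one]
    refine ⟨(∑ j ∈ Finset.range m, (ε ^ (k + 1)) ^ j) * ω,
      (IsIntegral.sum _ fun j _ => (hεint.pow _).pow _).mul hω, ?_⟩
    rw [← mul_assoc, mul_neg_geom_sum, hm', h]
  choose! v hv hv' using hk
  have hprod : ∏ k ∈ Finset.range (p - 1), (1 - ε ^ (k + 1)) = (p : ℂ) := by
    obtain ⟨m, rfl⟩ : ∃ m, p = m + 1 := ⟨p - 1, by have := hp.pos; omega⟩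
    have := hprim.prod_one_sub_pow_eq_order
    simpa using this
  have hpow : ((n ^ (p - 1) : ℤ) : ℂ) = (p : ℂ) * ∏ k ∈ Finset.range (p - 1), v k := by
    rw [← hprod, ← Finset.prod_mul_distrib, ← Finset.prod_congr rfl hv']; simp
  have hint : IsIntegral ℤ (∏ k ∈ Finset.range (p - 1), v k) := IsIntegral.prod _ hv
  have hq : (algebraMap ℚ ℂ) ((n ^ (p - 1) : ℤ) / (p : ℚ)) = ∏ k ∈ Finset.range (p - 1), v k := by
    rw [map_div₀, map_intCast, map_natCast, hpow, mul_div_cancel_left₀]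
    exact_mod_cast hp.ne_zero
  rw [← hq, isIntegral_algebraMap_iff (algebraMap ℚ ℂ).injective,
    IsIntegrallyClosed.isIntegral_iff] at hint
  obtain ⟨z, hz⟩ := hint
  have hpQ : (p : ℚ) ≠ 0 := by exact_mod_cast hp.ne_zero
  have hdvd : (p : ℤ) ∣ n ^ (p - 1) := by
    refine ⟨z, ?_⟩
    have : ((n ^ (p - 1) : ℤ) : ℚ) = (p : ℚ) * (z : ℚ) := by
      rw [show (algebraMap ℤ ℚ) z = (z : ℚ) from rfl] at hz
      rw [hz]; field_simp
    exact_mod_cast this
  exact (Nat.prime_iff_prime_int.1 hp).dvd_of_dvd_pow hdvd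

end Cfsg.Agent.S1495
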