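import Cfsg.Statements.S1497
-- import your own Cfsg.Agent.* helpers here

set_option autoImplicit false
open Cfsg

namespace Cfsg.Agent.S1497

/-- Let A be a nonempty subset of the finite group G not containing 1 and L a subgroup. Then A is a TI-subset whose normaliser is L if and only if the Dade hypothesis holds for A, L and the constant choice H(a) = ⊥. -/
theorem result {G : Type*} [Group G] [Finite G] (A : Set G) (hA : A.Nonempty) (h1 : (1 : G) ∉ A) (L : Subgroup G) : (Cfsg.IsTISubset A ∧ Subgroup.normalizer A = L) ↔ Cfsg.DadeHypothesis A L (fun _ => ⊥) := by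
  constructor
  · rintro ⟨hti, hL⟩
    subst hL
    have hfix : ∀ g : G, ∀ a ∈ A, g * a * g⁻¹ ∈ A → g ∈ Subgroup.normalizer A := fun g a ha h =>
      by_contra fun hg => h1 (hti g hg a ha h ▸ ha)
    have hc : ∀ a ∈ A, Subgroup.centralizer ({a} : Set G) ≤ Subgroup.normalizer A := by
      intro a ha g hg
      refine hfix g a ha ?_
      rw [Subgroup.mem_centralizer_singleton_iff] at hg
      rwa [hg, mul_inv_cancel_right]
    constructor
    · exact h1
    · exact fun a ha => hc a ha (Subgroup.mem_centralizer_singleton_iff.2 rfl)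
    · exact fun x hx a ha => (Subgroup.mem_set_normalizer_iff.1 hx a).1 ha
    · exact fun a ha g hg => ⟨g, hfix g a ha hg, rfl⟩
    · exact fun a _ => bot_le
    · intro a _ c _ u hu
      simp only [Subgroup.mem_bot] at hu ⊢
      simp [hu]
    · exact fun a _ => bot_inf_eq _
    · exact fun a ha => by rw [bot_sup_eq, inf_eq_right.2 (hc a ha)]
    · simp
  · intro hD
    have hLN : L ≤ Subgroup.normalizer A := by
      intro x hx
      rw [Subgroup.mem_set_normalizer_iff]
      intro a
      refine ⟨hD.conj_mem x hx a, fun h => ?_⟩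
      have := hD.conj_mem x⁻¹ (L.inv_mem hx) _ h
      simpa [mul_assoc] using this
    have hback : ∀ g : G, ∀ a ∈ A, g * a * g⁻¹ ∈ A → g ∈ L := by
      intro g a ha h
      obtain ⟨x, hx, hxg⟩ := hD.fusion a ha g h
      have hC : x⁻¹ * g ∈ Subgroup.centralizer ({a} : Set G) := by
        rw [Subgroup.mem_centralizer_singleton_iff]
        have : g * a = x * a * x⁻¹ * g := by rw [hxg]; group
        calc x⁻¹ * g * a = x⁻¹ * (g * a) := mul_assoc _ _ _
          _ = a * (x⁻¹ * g) := by rw [this]; group
      rw [← hD.sup_eq a ha, bot_sup_eq] at hC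
      simpa using L.mul_mem hx (Subgroup.mem_inf.1 hC).1
    refine ⟨fun g hg a ha h => absurd (hLN (hback g a ha h)) hg, le_antisymm ?_ hLN⟩
    intro g hg
    obtain ⟨a, ha⟩ := hA
    exact hback g a ha ((Subgroup.mem_set_normalizer_iff.1 hg a).1 ha)

end Cfsg.Agent.S1497
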