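import Cfsg.Statements.S1498
import Mathlib.GroupTheory.Complement
-- import your own Cfsg.Agent.* helpers here

set_option autoImplicit false
open Cfsg

namespace Cfsg.Agent.S1498

theorem conj_mem_centralizer {G : Type*} [Group G] {a v x c : G}
    (hv : v ∈ Subgroup.centralizer ({a} : Set G)) (hc : x * a * x⁻¹ = c) :
    MulAut.conj x v ∈ Subgroup.centralizer ({c} : Set G) := by
  rw [Subgroup.mem_centralizer_singleton_iff] at hv ⊢
  subst hc
  simp only [MulAut.conj_apply]
  calc x * v * x⁻¹ * (x * a * x⁻¹) = x * (v * a) * x⁻¹ := by group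
    _ = x * a * x⁻¹ * (x * v * x⁻¹) := by rw [hv]; group

/-- `H a` contains every subgroup of the centraliser of order prime to that of `C_L(a)`. -/
theorem le_of_coprime {G : Type*} [Group G] [Finite G] {A : Set G} {L : Subgroup G}
    {H : G → Subgroup G} (hD : Cfsg.DadeHypothesis A L H) {a : G} (ha : a ∈ A) {X : Subgroup G}
    (hX : X ≤ Subgroup.centralizer ({a} : Set G))
    (hcop : (Nat.card X).Coprime (Nat.card ↥(L ⊓ Subgroup.centralizer ({a} : Set G)))) :
    X ≤ H a := by
  set C := Subgroup.centralizer ({a} : Set G)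
  set K := L ⊓ C
  haveI hn : ((H a).subgroupOf C).Normal :=
    ⟨fun u hu c => hD.conj_mem_H a ha c c.2 u hu⟩
  have hcompl : Subgroup.IsComplement' ((H a).subgroupOf C) (K.subgroupOf C) := by
    refine Subgroup.isComplement'_of_disjoint_and_mul_eq_univ ?_ ?_
    · rw [disjoint_iff, show (H a).subgroupOf C ⊓ K.subgroupOf C = (H a ⊓ K).subgroupOf C from rfl,
        hD.inf_eq_bot a ha, Subgroup.bot_subgroupOf]
    · rw [← Subgroup.normal_mul, ← Subgroup.subgroupOf_sup (hD.le_centralizer a ha) inf_le_right,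
        hD.sup_eq a ha, Subgroup.subgroupOf_self, Subgroup.coe_top]
  have hidx : ((H a).subgroupOf C).index = Nat.card K := by
    rw [hcompl.symm.index_eq_card, Nat.card_congr (Subgroup.subgroupOfEquivOfLe inf_le_right).toEquiv]
  intro u hu
  have h1 : orderOf ((QuotientGroup.mk' ((H a).subgroupOf C)) ⟨u, hX hu⟩) ∣
      Nat.gcd (Nat.card X) (Nat.card K) := by
    refine Nat.dvd_gcd ?_ ?_
    · refine (orderOf_map_dvd _ _).trans ?_
      rw [← Subgroup.orderOf_coe]
      exact Subgroup.orderOf_dvd_natCard X hu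
    · rw [← hidx, Subgroup.index]; exact orderOf_dvd_natCard _
  rw [Nat.Coprime.gcd_eq_one hcop, Nat.dvd_one, orderOf_eq_one_iff, QuotientGroup.mk'_apply,
    QuotientGroup.eq_one_iff, Subgroup.mem_subgroupOf] at h1
  exact h1

/-- Under the Dade hypothesis for (A, L, H): for a ∈ A and x ∈ L, the subgroup attached to x * a * x⁻¹ is the conjugate of H a by x. -/
theorem result {G : Type*} [Group G] [Finite G] (A : Set G) (L : Subgroup G) (H : G → Subgroup G) (hD : Cfsg.DadeHypothesis A L H) (a : G) (ha : a ∈ A) (x : G) (hx : x ∈ L) : H (x * a * x⁻¹) = (H a).map (MulAut.conj x).toMonoidHom := by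
  set b := x * a * x⁻¹ with hb
  have hbA : b ∈ A := hD.conj_mem x hx a ha
  refine le_antisymm ?_ ?_
  · intro u hu
    refine ⟨x⁻¹ * u * x, ?_, by simp [mul_assoc]⟩
    have hmap : (H b).map (MulAut.conj x⁻¹).toMonoidHom ≤ H a := by
      refine le_of_coprime hD ha ?_ ?_
      · rintro _ ⟨v, hv, rfl⟩
        exact conj_mem_centralizer (hD.le_centralizer b hbA hv) (by simp [hb, mul_assoc])
      · rw [Subgroup.card_map_of_injective (MulEquiv.injective _)]
        exact hD.coprime b hbA a ha
    have := hmap ⟨u, hu, rfl⟩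
    simpa using this
  · refine le_of_coprime hD hbA ?_ ?_
    · rintro _ ⟨v, hv, rfl⟩
      exact conj_mem_centralizer (hD.le_centralizer a ha hv) (by simp [hb])
    · rw [Subgroup.card_map_of_injective (MulEquiv.injective _)]
      exact hD.coprime a ha b hbA

end Cfsg.Agent.S1498
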