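import Cfsg.Statements.S1499
-- import your own Cfsg.Agent.* helpers here

set_option autoImplicit false
open Cfsg

namespace Cfsg.Agent.S1499

/-- Under the Dade hypothesis for (A, L, H), let a, b ∈ A. If an element of the coset a·H(a) is conjugate in G to an element of b·H(b), then a and b are conjugate by an element of L. Moreover the set normaliser of the coset a·H(a) is the centraliser of a. -/
theorem result {G : Type*} [Group G] [Finite G] (A : Set G) (L : Subgroup G) (H : G → Subgroup G) (hD : Cfsg.DadeHypothesis A L H) (a b : G) (ha : a ∈ A) (hb : b ∈ A) : ((∃ u ∈ H a, ∃ v ∈ H b, ∃ g : G, g * (a * u) * g⁻¹ = b * v) → ∃ x ∈ L, x * a * x⁻¹ = b) ∧ Subgroup.normalizer ((fun u : G => a * u) '' (H a : Set G)) = Subgroup.centralizer ({a} : Set G) := by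
  have hcomm : ∀ c ∈ A, ∀ u ∈ H c, Commute c u := fun c hc u hu =>
    ((Subgroup.mem_centralizer_singleton_iff.1 (hD.le_centralizer c hc hu)) : u * c = c * u).symm
  have hord : ∀ c ∈ A, ∀ d ∈ A, (Nat.card (H c)).Coprime (orderOf d) := fun c hc d hd =>
    (hD.coprime c hc d hd).coprime_dvd_right (Subgroup.orderOf_dvd_natCard _
      (Subgroup.mem_inf.2 ⟨hD.subset hd, Subgroup.mem_centralizer_singleton_iff.2 rfl⟩))
  refine ⟨?_, ?_⟩
  · rintro ⟨u, hu, v, hv, g, hg⟩
    set N := Nat.card (H a) * Nat.card (H b) with hN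
    set M := orderOf a * orderOf b with hM
    have hcop : N.Coprime M :=
      Nat.Coprime.mul_left ((hord a ha a ha).mul_right (hord a ha b hb))
        ((hord b hb a ha).mul_right (hord b hb b hb))
    have hM0 : 0 < M := Nat.mul_pos (orderOf_pos a) (orderOf_pos b)
    have ha1 : 1 < orderOf a := by
      rcases (show 1 ≤ orderOf a from orderOf_pos a).eq_or_lt with h | h
      · exact absurd (orderOf_eq_one_iff.1 h.symm ▸ ha) hD.one_not_mem
      · exact h
    have hM1 : 1 < M := lt_of_lt_of_le ha1 (Nat.le_mul_of_pos_right _ (orderOf_pos b))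
    obtain ⟨t, -, ht⟩ := Nat.exists_mul_mod_eq_one_of_coprime hcop hM1
    have key : ∀ c u : G, Commute c u → orderOf c ∣ M → u ^ N = 1 → (c * u) ^ (N * t) = c := by
      intro c u hcu hdvd hu
      rw [hcu.mul_pow, pow_mul u, hu, one_pow, mul_one]
      conv_rhs => rw [← pow_one c]
      rw [pow_eq_pow_iff_modEq]
      exact Nat.ModEq.of_dvd hdvd (ht.trans (Nat.mod_eq_of_lt hM1).symm)
    have huN : u ^ N = 1 := orderOf_dvd_iff_pow_eq_one.1
      ((Subgroup.orderOf_dvd_natCard _ hu).trans (Dvd.intro _ rfl))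
    have hvN : v ^ N = 1 := orderOf_dvd_iff_pow_eq_one.1
      ((Subgroup.orderOf_dvd_natCard _ hv).trans (Dvd.intro_left _ rfl))
    have h := congrArg (· ^ (N * t)) hg
    simp only [conj_pow] at h
    rw [key a u (hcomm a ha u hu) (Dvd.intro _ rfl) huN,
      key b v (hcomm b hb v hv) (Dvd.intro_left _ rfl) hvN] at h
    obtain ⟨x, hx, hxa⟩ := hD.fusion a ha g (by rw [h]; exact hb)
    exact ⟨x, hx, hxa.trans h⟩
  · ext g
    rw [Subgroup.mem_set_normalizer_iff, Subgroup.mem_centralizer_singleton_iff]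
    constructor
    · intro hg
      obtain ⟨u, hu, hu'⟩ := (hg a).1 ⟨1, (H a).one_mem, mul_one a⟩
      simp only at hu'
      have h1 : orderOf u ∣ orderOf a := by
        have e : (a * u) ^ orderOf a = 1 := by rw [hu', conj_pow, pow_orderOf_eq_one]; group
        rw [(hcomm a ha u hu).mul_pow, pow_orderOf_eq_one, one_mul] at e
        exact orderOf_dvd_iff_pow_eq_one.2 e
      have h2 := Nat.dvd_gcd (Subgroup.orderOf_dvd_natCard _ hu) h1
      rw [(hord a ha a ha).gcd_eq_one, Nat.dvd_one, orderOf_eq_one_iff] at h2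
      rw [h2, mul_one] at hu'
      calc g * a = g * a * g⁻¹ * g := by group
        _ = a * g := by rw [← hu']
    · intro hg x
      have hgC : g ∈ Subgroup.centralizer ({a} : Set G) :=
        Subgroup.mem_centralizer_singleton_iff.2 hg
      have e : ∀ y : G, g * (a * y) * g⁻¹ = a * (g * y * g⁻¹) := fun y => by
        rw [← mul_assoc g a y, hg]; group
      constructor
      · rintro ⟨u, hu, rfl⟩
        exact ⟨g * u * g⁻¹, hD.conj_mem_H a ha g hgC u hu, (e u).symm⟩
      · rintro ⟨u, hu, hux⟩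
        refine ⟨g⁻¹ * u * g⁻¹⁻¹, hD.conj_mem_H a ha g⁻¹ (inv_mem hgC) u hu, ?_⟩
        simp only at hux ⊢
        apply mul_left_cancel (a := g)
        apply mul_right_cancel (b := g⁻¹)
        rw [e, ← hux]; group

end Cfsg.Agent.S1499
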