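import Cfsg.Statements.S1503
import Cfsg.Agent.Lib.OddOrder.CyclicTI
-- import your own Cfsg.Agent.* helpers here

set_option autoImplicit false
open Cfsg

namespace Cfsg.Agent.S1503

/-- Let W₁, W₂ ≤ G with W = W₁ ⊔ W₂ and let χ an orthonormal family of irreducible characters of G up to sign, indexed by the linear characters ω of W, with χ_1 = 1, χ_ω = ω on W outside W₁ ∪ W₂, and the induction identity for (1 − φ)(1 − ψ). If θ is an irreducible character of G orthogonal to χ ω for every linear character ω of W, then θ vanishes at every element of W lying outside W₁ ∪ W₂. -/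
theorem result {G : Type*} [Group G] [Fintype G] (W₁ W₂ : Subgroup G) (hW : Cfsg.IsSelfNormalizingCyclic W₁ W₂) (χ : (↥(W₁ ⊔ W₂) →* ℂˣ) → (G → ℂ)) (hχ : Cfsg.IsCyclicTIFamily W₁ W₂ χ) (θ : G → ℂ) (hθ : Cfsg.IsIrrCharacter G θ) (horth : ∀ ω, Cfsg.classInner θ (χ ω) = 0) (w : ↥(W₁ ⊔ W₂)) (hw₁ : (w : G) ∉ W₁) (hw₂ : (w : G) ∉ W₂) : θ w = 0 := by
  classical
  letI : CommGroup ↥(W₁ ⊔ W₂) :=
    { (inferInstance : Group ↥(W₁ ⊔ W₂)) with mul_comm := OddOrder.isCyclicTI_comm hW }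
  haveI : Fintype ↥(W₁ ⊔ W₂) := Fintype.ofFinite _
  set A : Subgroup ↥(W₁ ⊔ W₂) := W₁.subgroupOf (W₁ ⊔ W₂)
  set B : Subgroup ↥(W₁ ⊔ W₂) := W₂.subgroupOf (W₁ ⊔ W₂)
  have hwA : w ∉ A := hw₁
  have hwB : w ∉ B := hw₂
  have hcl : IsClassFunction G θ :=
    Char.IsCharacter.isClassFunction (Char.IsIrrCharacter.isCharacter hθ)
  let S : Subgroup ↥(W₁ ⊔ W₂) → ↥(W₁ ⊔ W₂) → ℂ :=
    fun N x => ∑ φ ∈ OddOrder.dualAnn N, (φ x : ℂ)
  let T : ↥(W₁ ⊔ W₂) → ℂ := fun x => S B (x * w⁻¹) * S A (x * w⁻¹)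
  -- `T` is a combination of the functions `(1 - φ) (1 - ψ)`
  have hT : T = ∑ φ ∈ OddOrder.dualAnn B, ∑ ψ ∈ OddOrder.dualAnn A,
      ((φ w⁻¹ : ℂ) * (ψ w⁻¹ : ℂ)) • fun x => 1 - (φ x : ℂ) - (ψ x : ℂ) + (φ x : ℂ) * (ψ x : ℂ) := by
    funext x
    have e1 : ∀ N, w ∉ N → ∑ φ ∈ OddOrder.dualAnn N, (φ w⁻¹ : ℂ) * (1 - (φ x : ℂ)) = -S N (x * w⁻¹) := by
      intro N hN
      simp only [mul_sub, mul_one, Finset.sum_sub_distrib]
      rw [OddOrder.sum_dualAnn_of_notMem (fun h => hN (inv_inv w ▸ N.inv_mem h)), zero_sub]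
      simp only [S, map_mul, Units.val_mul]
      exact congrArg Neg.neg (Finset.sum_congr rfl fun φ _ => mul_comm _ _)
    simp only [T, Finset.sum_apply, Pi.smul_apply, smul_eq_mul]
    rw [← neg_mul_neg, ← e1 B hwB, ← e1 A hwA, Finset.sum_mul_sum]
    exact Finset.sum_congr rfl fun φ _ => Finset.sum_congr rfl fun ψ _ => by ring
  have h0 : classInner (fun x : ↥(W₁ ⊔ W₂) => θ x) T = 0 := by
    rw [hT, Char.classInner_sum_right, Finset.sum_eq_zero]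
    intro φ hφ
    rw [Char.classInner_sum_right, Finset.sum_eq_zero]
    intro ψ hψ
    rw [Char.classInner_smul_right]
    by_cases h1 : φ = 1
    · subst h1
      rw [show (fun x => 1 - ((1 : ↥(W₁ ⊔ W₂) →* ℂˣ) x : ℂ) - (ψ x : ℂ) +
        ((1 : ↥(W₁ ⊔ W₂) →* ℂˣ) x : ℂ) * (ψ x : ℂ)) = 0 by funext x; simp]
      simp [classInner]
    by_cases h2 : ψ = 1
    · subst h2
      rw [show (fun x => 1 - (φ x : ℂ) - ((1 : ↥(W₁ ⊔ W₂) →* ℂˣ) x : ℂ) +
        (φ x : ℂ) * ((1 : ↥(W₁ ⊔ W₂) →* ℂˣ) x : ℂ)) = 0 by funext x; simp]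
      simp [classInner]
    rw [← Char.classInner_indFun_right _ _ hcl,
      hχ.induced_eq φ ψ h1 h2 (fun y hy => OddOrder.mem_dualAnn.1 hφ y hy)
        (fun y hy => OddOrder.mem_dualAnn.1 hψ y hy),
      show (fun g => 1 - χ φ g - χ ψ g + χ (φ * ψ) g) = χ 1 - χ φ - χ ψ + χ (φ * ψ) by
        rw [hχ.map_one]; rfl,
      Char.classInner_add_right, Char.classInner_sub_right, Char.classInner_sub_right,
      horth, horth, horth, horth]
    simp
  have hTw : T w = ((OddOrder.dualAnn B).card : ℂ) * ((OddOrder.dualAnn A).card : ℂ) := by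
    simp [T, S]
  have hT0 : ∀ x, x ≠ w → T x = 0 := by
    intro x hx
    by_cases hB : x * w⁻¹ ∈ B
    · have hA : x * w⁻¹ ∉ A := by
        intro hA
        apply hx
        have : ((x * w⁻¹ : ↥(W₁ ⊔ W₂)) : G) ∈ W₁ ⊓ W₂ := ⟨hA, hB⟩
        rw [hW.2.2.1, Subgroup.mem_bot] at this
        exact mul_inv_eq_one.1 (Subtype.ext this)
      simp only [T, S, OddOrder.sum_dualAnn_of_notMem hA, mul_zero]
    · simp only [T, S, OddOrder.sum_dualAnn_of_notMem hB, zero_mul]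
  rw [classInner, Finset.sum_eq_single w (fun x _ hx => by rw [hT0 x hx]; simp) (by simp), hTw] at h0
  have hne : ∀ N : Subgroup ↥(W₁ ⊔ W₂), ((OddOrder.dualAnn N).card : ℂ) ≠ 0 := fun N =>
    Nat.cast_ne_zero.2 (Finset.card_ne_zero.2 ⟨1, OddOrder.one_mem_dualAnn N⟩)
  simpa [hne, Char.card_ne_zero] using h0

end Cfsg.Agent.S1503
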