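import Cfsg.Statements.S1504
import Cfsg.Agent.Lib.Coprime.Basic
import Mathlib.LinearAlgebra.LinearIndependent.Basic
import Mathlib.RingTheory.IntegralDomain
-- import your own Cfsg.Agent.* helpers here

set_option autoImplicit false
open Cfsg

namespace Cfsg.Agent.S1504

/-- The functions `1 - φ`, `φ` running over nontrivial linear characters, are independent. -/
theorem eq_zero_of_one_sub {W : Type*} [Group W] (s : Finset (W →* ℂˣ)) (hs : ∀ φ ∈ s, φ ≠ 1)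
    (a : (W →* ℂˣ) → ℂ) (h : ∀ x : W, ∑ φ ∈ s, a φ * (1 - (φ x : ℂ)) = 0) :
    ∀ φ ∈ s, a φ = 0 := by
  classical
  intro φ hφ
  have hinj : Function.Injective fun φ : W →* ℂˣ => ((Units.coeHom ℂ).comp φ : W →* ℂ) :=
    fun f g h => MonoidHom.ext fun x => Units.ext (DFunLike.congr_fun h x)
  have hli := (linearIndependent_monoidHom W ℂ).comp _ hinj
  rw [linearIndependent_iff'] at hli
  have h1 : (1 : W →* ℂˣ) ∉ s := fun h1 => hs 1 h1 rfl
  have := hli (insert 1 s) (fun χ => if χ = 1 then ∑ ψ ∈ s, a ψ else -a χ) ?_ φ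
    (Finset.mem_insert_of_mem hφ)
  · simpa [hs φ hφ] using this
  · funext x
    simp only [Finset.sum_apply, Function.comp_apply, Pi.smul_apply, smul_eq_mul, Pi.zero_apply]
    rw [Finset.sum_insert h1, if_pos rfl]
    have e : ∀ ψ ∈ s, (if ψ = 1 then ∑ χ ∈ s, a χ else -a ψ) *
        ((Units.coeHom ℂ).comp ψ : W →* ℂ) x = -(a ψ * (ψ x : ℂ)) := fun ψ hψ => by
      rw [if_neg (hs ψ hψ), neg_mul]; rfl
    rw [Finset.sum_congr rfl e]
    have := h x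
    simp only [mul_sub, mul_one, Finset.sum_sub_distrib] at this
    simp [← sub_eq_add_neg, this]

/-- Let W₁, W₂ be subgroups of a finite group with W₁ ⊓ W₂ = ⊥ whose elements commute, and W = W₁ ⊔ W₂. For linear characters φ, ψ of W with φ trivial on W₂ and ψ trivial on W₁, the function (1 − φ)(1 − ψ) vanishes on W₁ ∪ W₂; and the family of these functions, indexed by pairs (φ, ψ) with φ ≠ 1 ≠ ψ, is linearly independent over ℂ. -/
theorem result {G : Type*} [Group G] [Finite G] (W₁ W₂ : Subgroup G) (hdisj : W₁ ⊓ W₂ = ⊥) (hcomm : ∀ a ∈ W₁, ∀ b ∈ W₂, a * b = b * a) : (∀ φ ψ : ↥(W₁ ⊔ W₂) →* ℂˣ, (∀ w : ↥(W₁ ⊔ W₂), (w : G) ∈ W₂ → φ w = 1) → (∀ w : ↥(W₁ ⊔ W₂), (w : G) ∈ W₁ → ψ w = 1) → ∀ w : ↥(W₁ ⊔ W₂), ((w : G) ∈ W₁ ∨ (w : G) ∈ W₂) → (1 - (φ w : ℂ) - (ψ w : ℂ) + (φ w : ℂ) * (ψ w : ℂ)) = 0) ∧ LinearIndependent ℂ (fun p : {p : (↥(W₁ ⊔ W₂) →* ℂˣ) × (↥(W₁ ⊔ W₂) →* ℂˣ) // p.1 ≠ 1 ∧ p.2 ≠ 1 ∧ (∀ w : ↥(W₁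 ⊔ W₂), (w : G) ∈ W₂ → p.1 w = 1) ∧ (∀ w : ↥(W₁ ⊔ W₂), (w : G) ∈ W₁ → p.2 w = 1)} => fun w : ↥(W₁ ⊔ W₂) => 1 - (p.1.1 w : ℂ) - (p.1.2 w : ℂ) + (p.1.1 w : ℂ) * (p.1.2 w : ℂ)) := by
  classical
  set W := W₁ ⊔ W₂ with hW
  refine ⟨?_, ?_⟩
  · intro φ ψ hφ hψ w hw
    rcases hw with hw | hw
    · rw [hψ w hw]; push_cast; ring
    · rw [hφ w hw]; push_cast; ring
  have hsplit : ∀ x : W, ∃ a b : W, (a : G) ∈ W₁ ∧ (b : G) ∈ W₂ ∧ x = a * b := by
    intro x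
    have hn : W₁ ≤ Subgroup.normalizer (W₂ : Set G) := by
      intro a ha
      rw [Subgroup.mem_normalizer_iff]
      intro z
      constructor
      · intro hz; rwa [hcomm a ha z hz, mul_inv_cancel_right]
      · intro hz
        have h := hcomm a ha _ hz
        have : a * z * a⁻¹ = z := by
          have h' : a * (a * z * a⁻¹) * a⁻¹ = a * z * a⁻¹ := by rw [h, mul_inv_cancel_right]
          simpa using h'
        rwa [this] at hz
    obtain ⟨a, ha, b, hb, hab⟩ := (Coprime.mem_sup_iff_of_le_normalizer hn).1 x.2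
    exact ⟨⟨a, Subgroup.mem_sup_left ha⟩, ⟨b, Subgroup.mem_sup_right hb⟩, ha, hb,
      Subtype.ext hab.symm⟩
  rw [linearIndependent_iff']
  intro s c hs p₀ hp₀
  have hmain : ∀ x y : W, ∑ p ∈ s, c p * (1 - (p.1.1 x : ℂ)) * (1 - (p.1.2 y : ℂ)) = 0 := by
    intro x y
    obtain ⟨a, a', ha, ha', rfl⟩ := hsplit x
    obtain ⟨b', b, hb', hb, rfl⟩ := hsplit y
    have := congrFun hs (a * b)
    rw [Finset.sum_apply, Pi.zero_apply] at this
    rw [← this]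
    refine Finset.sum_congr rfl fun p _ => ?_
    obtain ⟨-, -, h₂, h₁⟩ := p.2
    rw [Pi.smul_apply, smul_eq_mul, map_mul, map_mul, map_mul, map_mul, h₂ a' ha', h₂ b hb, h₁ a ha,
      h₁ b' hb']
    push_cast
    ring
  have hA : ∀ y : W, ∀ φ ∈ s.image (fun p => p.1.1),
      ∑ p ∈ s.filter (fun p => p.1.1 = φ), c p * (1 - (p.1.2 y : ℂ)) = 0 := by
    intro y
    refine eq_zero_of_one_sub _ (fun φ hφ => ?_)
      (fun φ => ∑ p ∈ s.filter (fun p => p.1.1 = φ), c p * (1 - (p.1.2 y : ℂ))) fun x => ?_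
    · obtain ⟨p, -, rfl⟩ := Finset.mem_image.1 hφ
      exact p.2.1
    · rw [← hmain x y, ← Finset.sum_fiberwise_of_maps_to (s := s) (t := s.image fun p => p.1.1)
        (fun p hp => Finset.mem_image_of_mem _ hp)]
      refine Finset.sum_congr rfl fun φ _ => ?_
      rw [Finset.sum_mul]
      refine Finset.sum_congr rfl fun p hp => ?_
      rw [(Finset.mem_filter.1 hp).2]; ring
  set t := s.filter (fun p => p.1.1 = p₀.1.1) with ht
  have hinj : ∀ p ∈ t, ∀ q ∈ t, p.1.2 = q.1.2 → p = q := by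
    intro p hp q hq h
    simp only [ht, Finset.mem_filter] at hp hq
    exact Subtype.ext (Prod.ext (hp.2.trans hq.2.symm) h)
  have hB : ∀ ψ ∈ t.image (fun p => p.1.2), ∑ p ∈ t.filter (fun p => p.1.2 = ψ), c p = 0 := by
    refine eq_zero_of_one_sub _ (fun ψ hψ => ?_)
      (fun ψ => ∑ p ∈ t.filter (fun p => p.1.2 = ψ), c p) fun y => ?_
    · obtain ⟨p, -, rfl⟩ := Finset.mem_image.1 hψ
      exact p.2.2.1
    · rw [← hA y _ (Finset.mem_image_of_mem (fun p => p.1.1) hp₀), ← ht,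
        ← Finset.sum_fiberwise_of_maps_to (s := t) (t := t.image fun p => p.1.2)
          (fun p hp => Finset.mem_image_of_mem _ hp)]
      refine Finset.sum_congr rfl fun ψ _ => ?_
      rw [Finset.sum_mul]
      refine Finset.sum_congr rfl fun p hp => ?_
      rw [(Finset.mem_filter.1 hp).2]
  have hp₀t : p₀ ∈ t := Finset.mem_filter.2 ⟨hp₀, rfl⟩
  have h := hB _ (Finset.mem_image_of_mem (fun p => p.1.2) hp₀t)
  rwa [Finset.sum_eq_single p₀ (fun q hq hne => absurd (hinj q (Finset.mem_filter.1 hq).1 p₀ hp₀t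
    (Finset.mem_filter.1 hq).2) hne) (fun hne => (hne (Finset.mem_filter.2 ⟨hp₀t, rfl⟩)).elim)] at h

end Cfsg.Agent.S1504
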