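import Cfsg.Statements.S1507
import Cfsg.Agent.Lib.OddOrder.CyclicTI
-- import your own Cfsg.Agent.* helpers here

set_option autoImplicit false
open Cfsg

namespace Cfsg.Agent.S1507

open Classical in
/-- Let W₁, W₂ ≤ G form a self-normalising cyclic subgroup W = W₁ ⊔ W₂ of odd order with Nat.card W₁ < Nat.card W₂, and χ an orthonormal family of irreducible characters of G up to sign, indexed by the linear characters ω of W, with χ_1 = 1, χ_ω = ω on W outside W₁ ∪ W₂, and the induction identity for (1 − φ)(1 − ψ). Let θ be a class function of G vanishing on W outside W₁ ∪ W₂, and suppose fewer than 2 · Nat.card W₁ linear characters ω of W have ⟨θ, χ ω⟩ ≠ 0. Then one of: all ⟨θ, χ ω⟩ vanish; or there are ψ₀ and a with ⟨θ, χ ω⟩ = a when ω ψ₀⁻¹ is trivial on W₂ and 0 otherwise; or there are φ₀ and a with ⟨θ, χ ω⟩ = a when ω φ₀⁻¹ is trivial on W₁ and 0 otherwise. -/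
theorem result {G : Type*} [Group G] [Fintype G] (W₁ W₂ : Subgroup G) (hW : Cfsg.IsSelfNormalizingCyclic W₁ W₂) (hodd : Odd (Nat.card ↥(W₁ ⊔ W₂))) (χ : (↥(W₁ ⊔ W₂) →* ℂˣ) → (G → ℂ)) (hχ : Cfsg.IsCyclicTIFamily W₁ W₂ χ) (hlt : Nat.card W₁ < Nat.card W₂) (θ : G → ℂ) (hθ : Cfsg.IsClassFunction G θ) (hθV : ∀ w : ↥(W₁ ⊔ W₂), (w : G) ∉ W₁ → (w : G) ∉ W₂ → θ w = 0) (hfew : Nat.card {ω : ↥(W₁ ⊔ W₂) →* ℂˣ // Cfsg.classInner θ (χ ω) ≠ 0} < 2 * Nat.card W₁) : (∀ ω, Cfsg.classInner θ (χ ω) = 0) ∨ (∃ (ψ₀ : ↥(W₁ ⊔ W₂) →* ℂˣ) (a : ℂ), ∀ ω, Cfsg.classInner θ (χ ω) = if (∀ w : ↥(W₁ ⊔ W₂), (w : G) ∈ W₂ → (ω * ψ₀⁻¹) w = 1) then a else 0) ∨ (∃ (φ₀ : ↥(W₁ ⊔ W₂) →* ℂˣ) (a : ℂ), ∀ ω, Cfsg.classInner θ (χ ω) = if (∀ w : ↥(W₁ ⊔ W₂), (w : G) ∈ W₁ → (ω * φ₀⁻¹) w = 1) then a else 0) := by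
  letI : CommGroup ↥(W₁ ⊔ W₂) :=
    { (inferInstance : Group ↥(W₁ ⊔ W₂)) with mul_comm := OddOrder.isCyclicTI_comm hW }
  set A : Subgroup ↥(W₁ ⊔ W₂) := W₁.subgroupOf (W₁ ⊔ W₂) with hA
  set B : Subgroup ↥(W₁ ⊔ W₂) := W₂.subgroupOf (W₁ ⊔ W₂) with hB
  have hd : A ⊓ B = ⊥ := by
    refine (Subgroup.eq_bot_iff_forall _).2 fun x hx => Subtype.ext ?_
    have h : (x : G) ∈ W₁ ⊓ W₂ := hx
    rw [hW.2.2.1, Subgroup.mem_bot] at h
    exact h
  have hs : A ⊔ B = ⊤ := by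
    rw [hA, hB, ← Subgroup.subgroupOf_sup le_sup_left le_sup_right, Subgroup.subgroupOf_self]
  set I := OddOrder.dualAnn B with hI
  set J := OddOrder.dualAnn A with hJ
  have hIc : I.card = Nat.card W₁ := by
    rw [hI, OddOrder.card_dualAnn_of_compl hd hs]
    exact Nat.card_congr (Subgroup.subgroupOfEquivOfLe le_sup_left).toEquiv
  have hJc : J.card = Nat.card W₂ := by
    rw [hJ, OddOrder.card_dualAnn_of_compl (inf_comm A B ▸ hd) (sup_comm A B ▸ hs)]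
    exact Nat.card_congr (Subgroup.subgroupOfEquivOfLe le_sup_right).toEquiv
  have hgap : Nat.card W₁ + 2 ≤ Nat.card W₂ := by
    obtain ⟨a, ha⟩ := hodd.of_dvd_nat (Subgroup.card_dvd_of_le (le_sup_left (a := W₁) (b := W₂)))
    obtain ⟨b, hb⟩ := hodd.of_dvd_nat (Subgroup.card_dvd_of_le (le_sup_right (a := W₁) (b := W₂)))
    omega
  set c := fun ω => classInner θ (χ ω) with hc
  obtain ⟨-, hinj, hsurj⟩ := OddOrder.dualAnn_mul_bijOn hd hs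
  have hrel : ∀ φ ∈ I, ∀ ψ ∈ J, c (φ * ψ) = c φ + (c ψ - c 1) := fun φ hφ ψ hψ => by
    simp only [hc]
    rw [OddOrder.coeff_eq hχ hθ hθV φ ψ (fun w hw => OddOrder.mem_dualAnn.1 hφ w hw)
      (fun w hw => OddOrder.mem_dualAnn.1 hψ w hw)]
    ring
  set NZ := (I ×ˢ J).filter fun p => c (p.1 * p.2) ≠ 0 with hNZ
  have hNZc : NZ.card < 2 * Nat.card W₁ := by
    refine lt_of_le_of_lt ?_ hfew
    rw [← Nat.card_eq_finsetCard]
    refine Nat.card_le_card_of_injective (fun p => ⟨p.1.1 * p.1.2, (Finset.mem_filter.1 p.2).2⟩)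
      fun p q h => Subtype.ext (hinj ?_ ?_ (congrArg Subtype.val h))
    · exact Finset.mem_coe.2 (Finset.mem_filter.1 p.2).1
    · exact Finset.mem_coe.2 (Finset.mem_filter.1 q.2).1
  have hdec : ∀ ω, ∃ φ ∈ I, ∃ ψ ∈ J, φ * ψ = ω := fun ω => by
    obtain ⟨⟨φ, ψ⟩, hp, h⟩ := hsurj (Set.mem_univ ω)
    rw [Finset.coe_product] at hp
    exact ⟨φ, hp.1, ψ, hp.2, h⟩
  have huniq : ∀ φ ∈ I, ∀ ψ ∈ J, ∀ φ' ∈ I, ∀ ψ' ∈ J, φ * ψ = φ' * ψ' → φ = φ' ∧ ψ = ψ' := by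
    intro φ hφ ψ hψ φ' hφ' ψ' hψ' h
    have := hinj (Finset.mem_coe.2 (Finset.mem_product.2 ⟨hφ, hψ⟩ : (φ, ψ) ∈ I ×ˢ J))
      (Finset.mem_coe.2 (Finset.mem_product.2 ⟨hφ', hψ'⟩ : (φ', ψ') ∈ I ×ˢ J)) h
    exact Prod.ext_iff.1 this
  have h1I : (1 : ↥(W₁ ⊔ W₂) →* ℂˣ) ∈ I := OddOrder.one_mem_dualAnn _
  have h1J : (1 : ↥(W₁ ⊔ W₂) →* ℂˣ) ∈ J := OddOrder.one_mem_dualAnn _
  by_cases hx : ∀ φ ∈ I, c φ = c 1
  · -- the coefficient depends on `ψ` only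
    have hval : ∀ φ ∈ I, ∀ ψ ∈ J, c (φ * ψ) = c ψ := fun φ hφ ψ hψ => by
      rw [hrel φ hφ ψ hψ, hx φ hφ]; ring
    by_cases hall : ∀ ψ ∈ J, c ψ = 0
    · refine Or.inl fun ω => ?_
      obtain ⟨φ, hφ, ψ, hψ, rfl⟩ := hdec ω
      exact (hval φ hφ ψ hψ).trans (hall ψ hψ)
    push Not at hall
    obtain ⟨ψ₀, hψ₀, hne⟩ := hall
    have honly : ∀ ψ ∈ J, ψ ≠ ψ₀ → c ψ = 0 := by
      intro ψ hψ hψne
      by_contra hne'
      have hsub : I ×ˢ {ψ₀, ψ} ⊆ NZ := by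
        rintro ⟨φ, ψ'⟩ hp
        obtain ⟨hφ, hψ'⟩ := Finset.mem_product.1 hp
        rcases Finset.mem_insert.1 hψ' with rfl | h
        · exact Finset.mem_filter.2 ⟨Finset.mem_product.2 ⟨hφ, hψ₀⟩, by rw [hval φ hφ _ hψ₀]; exact hne⟩
        · rw [Finset.mem_singleton] at h; subst h
          exact Finset.mem_filter.2 ⟨Finset.mem_product.2 ⟨hφ, hψ⟩, by rw [hval φ hφ _ hψ]; exact hne'⟩
      have := Finset.card_le_card hsub
      rw [Finset.card_product, Finset.card_pair (Ne.symm hψne), hIc] at this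
      omega
    refine Or.inr (Or.inl ⟨ψ₀, c ψ₀, fun ω => ?_⟩)
    obtain ⟨φ, hφ, ψ, hψ, rfl⟩ := hdec ω
    show c (φ * ψ) = _
    rw [hval φ hφ ψ hψ]
    split_ifs with h
    · have hmem : φ * ψ * ψ₀⁻¹ ∈ I := OddOrder.mem_dualAnn.2 fun x hx => h x hx
      have := huniq (φ * ψ * ψ₀⁻¹) hmem ψ₀ hψ₀ φ hφ ψ hψ (MonoidHom.ext fun x => by simp)
      rw [this.2]
    · refine honly ψ hψ fun he => h fun x hx => ?_
      subst he
      simpa using OddOrder.mem_dualAnn.1 hφ x hx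
  by_cases hy : ∀ ψ ∈ J, c ψ = c 1
  · have hval : ∀ φ ∈ I, ∀ ψ ∈ J, c (φ * ψ) = c φ := fun φ hφ ψ hψ => by
      rw [hrel φ hφ ψ hψ, hy ψ hψ]; ring
    by_cases hall : ∀ φ ∈ I, c φ = 0
    · refine Or.inl fun ω => ?_
      obtain ⟨φ, hφ, ψ, hψ, rfl⟩ := hdec ω
      exact (hval φ hφ ψ hψ).trans (hall φ hφ)
    push Not at hall
    obtain ⟨φ₀, hφ₀, hne⟩ := hall
    have honly : ∀ φ ∈ I, φ ≠ φ₀ → c φ = 0 := by
      intro φ hφ hφne
      by_contra hne'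
      have hsub : ({φ₀, φ} : Finset _) ×ˢ J ⊆ NZ := by
        rintro ⟨φ', ψ⟩ hp
        obtain ⟨hφ', hψ⟩ := Finset.mem_product.1 hp
        rcases Finset.mem_insert.1 hφ' with rfl | h
        · exact Finset.mem_filter.2 ⟨Finset.mem_product.2 ⟨hφ₀, hψ⟩, by rw [hval _ hφ₀ ψ hψ]; exact hne⟩
        · rw [Finset.mem_singleton] at h; subst h
          exact Finset.mem_filter.2 ⟨Finset.mem_product.2 ⟨hφ, hψ⟩, by rw [hval _ hφ ψ hψ]; exact hne'⟩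
      have := Finset.card_le_card hsub
      rw [Finset.card_product, Finset.card_pair (Ne.symm hφne), hJc] at this
      omega
    refine Or.inr (Or.inr ⟨φ₀, c φ₀, fun ω => ?_⟩)
    obtain ⟨φ, hφ, ψ, hψ, rfl⟩ := hdec ω
    show c (φ * ψ) = _
    rw [hval φ hφ ψ hψ]
    split_ifs with h
    · have hmem : φ * ψ * φ₀⁻¹ ∈ J := OddOrder.mem_dualAnn.2 fun x hx => h x hx
      have := huniq φ₀ hφ₀ (φ * ψ * φ₀⁻¹) hmem φ hφ ψ hψ
        (MonoidHom.ext fun x => by simp [mul_comm, mul_left_comm])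
      rw [this.1]
    · refine honly φ hφ fun he => h fun x hx => ?_
      subst he
      simpa [mul_comm, mul_left_comm] using OddOrder.mem_dualAnn.1 hψ x hx
  -- both non-constant: too many nonzero coefficients
  exfalso
  push Not at hx hy
  obtain ⟨φ₁, hφ₁, hφne⟩ := hx
  obtain ⟨ψ₁, hψ₁, hψne⟩ := hy
  set R := fun φ => J.filter fun ψ => c (φ * ψ) ≠ 0 with hR
  have hrow : ∀ φ ∈ I, 1 ≤ (R φ).card := by
    intro φ hφ
    rw [Nat.one_le_iff_ne_zero, Finset.card_ne_zero]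
    by_contra hemp
    rw [Finset.not_nonempty_iff_eq_empty, Finset.filter_eq_empty_iff] at hemp
    push Not at hemp
    have e1 := hemp h1J
    have e2 := hemp hψ₁
    rw [hrel φ hφ 1 h1J] at e1
    rw [hrel φ hφ ψ₁ hψ₁] at e2
    exact hψne (by linear_combination e2 - e1)
  have htwo : J.card ≤ (R 1).card + (R φ₁).card := by
    refine le_trans (Finset.card_le_card fun ψ hψ => ?_) (Finset.card_union_le _ _)
    by_contra hnot
    simp only [Finset.mem_union, hR, Finset.mem_filter, not_or, not_and, not_not] at hnot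
    have e1 := hnot.1 hψ
    have e2 := hnot.2 hψ
    rw [hrel 1 h1I ψ hψ] at e1
    rw [hrel φ₁ hφ₁ ψ hψ] at e2
    exact hφne (by linear_combination e2 - e1)
  have hne1 : φ₁ ≠ 1 := fun h => hφne (by rw [h])
  have hsum : NZ.card = ∑ φ ∈ I, (R φ).card := by
    rw [hNZ, Finset.card_filter, Finset.sum_product]
    exact Finset.sum_congr rfl fun φ _ => (Finset.card_filter _ _).symm
  have hrest : I.card - 2 ≤ ∑ φ ∈ (I.erase 1).erase φ₁, (R φ).card := by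
    have h := Finset.card_nsmul_le_sum ((I.erase 1).erase φ₁) (fun φ => (R φ).card) 1
      fun φ hφ => hrow φ (Finset.mem_of_mem_erase (Finset.mem_of_mem_erase hφ))
    rw [smul_eq_mul, mul_one, Finset.card_erase_of_mem (Finset.mem_erase.2 ⟨hne1, hφ₁⟩),
      Finset.card_erase_of_mem h1I] at h
    omega
  have e1 := Finset.add_sum_erase I (fun φ => (R φ).card) h1I
  have e2 := Finset.add_sum_erase (I.erase 1) (fun φ => (R φ).card) (Finset.mem_erase.2 ⟨hne1, hφ₁⟩)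
  omega

end Cfsg.Agent.S1507
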