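import Cfsg.Statements.S1509
import Cfsg.Agent.Lib.Char.Orthogonality
-- import your own Cfsg.Agent.* helpers here

set_option autoImplicit false
open Cfsg

namespace Cfsg.Agent.S1509

theorem signed_cases {X : Type*} [Group X] [Fintype X] {x y : X → ℂ}
    (hx : IsIrrCharacter X x ∨ IsIrrCharacter X (-x))
    (hy : IsIrrCharacter X y ∨ IsIrrCharacter X (-y)) :
    classInner x y = 0 ∨ ∃ e : ℝ, e ≠ 0 ∧ x = (e : ℂ) • y ∧ classInner x y = e := by
  obtain ⟨ε, a, hε, ha, rfl⟩ : ∃ (ε : ℝ) (a : X → ℂ), (ε = 1 ∨ ε = -1) ∧ IsIrrCharacter X a ∧ x = (ε : ℂ) • a := by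
    rcases hx with h | h
    · exact ⟨1, x, Or.inl rfl, h, by simp⟩
    · exact ⟨-1, -x, Or.inr rfl, h, by simp⟩
  obtain ⟨η, b, hη, hb, rfl⟩ : ∃ (η : ℝ) (b : X → ℂ), (η = 1 ∨ η = -1) ∧ IsIrrCharacter X b ∧ y = (η : ℂ) • b := by
    rcases hy with h | h
    · exact ⟨1, y, Or.inl rfl, h, by simp⟩
    · exact ⟨-1, -y, Or.inr rfl, h, by simp⟩
  rw [Char.classInner_smul_left, Char.classInner_smul_right]
  by_cases hab : a = b
  · subst hab
    right
    rw [Char.classInner_irr_self ha]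
    refine ⟨ε * η, ?_, ?_, by simp [Complex.conj_ofReal]⟩
    · rcases hε with rfl | rfl <;> rcases hη with rfl | rfl <;> norm_num
    · rw [smul_smul]
      congr 1
      rcases hε with rfl | rfl <;> rcases hη with rfl | rfl <;> norm_num
  · left
    rw [Char.classInner_irr_of_ne ha hb hab]; simp

theorem one_pair {X : Type*} [Group X] [Fintype X] {α β γ δ : X → ℂ}
    (hα : IsIrrCharacter X α ∨ IsIrrCharacter X (-α)) (hβ : IsIrrCharacter X β ∨ IsIrrCharacter X (-β))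
    (hγ : IsIrrCharacter X γ ∨ IsIrrCharacter X (-γ)) (hδ : IsIrrCharacter X δ ∨ IsIrrCharacter X (-δ))
    {u v : ℝ} (hu : u ≠ 0) (hab : classInner α β = 0) (hcd : classInner γ δ = 0)
    (hmix : classInner (α - β) ((u : ℂ) • γ - (v : ℂ) • δ) = 0) (h1 : α 1 = β 1)
    (h2 : (u : ℂ) * γ 1 = (v : ℂ) * δ 1) : classInner α γ = 0 := by
  rcases signed_cases hα hγ with h | ⟨e, he, hαe, hαv⟩
  · exact h
  exfalso
  have hαδ : classInner α δ = 0 := by rw [hαe, Char.classInner_smul_left, hcd, mul_zero]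
  have hβα : classInner β α = 0 := by rw [← Char.conj_classInner, hab, map_zero]
  have hβγ : classInner β γ = 0 := by
    rw [hαe, Char.classInner_smul_right] at hβα
    exact (mul_eq_zero.1 hβα).resolve_left (by simp [he])
  simp only [Char.classInner_sub_left, Char.classInner_sub_right, Char.classInner_smul_right, hαv,
    hαδ, hβγ, Complex.conj_ofReal, mul_zero, sub_zero, zero_sub, mul_neg, sub_neg_eq_add] at hmix
  rcases signed_cases hβ hδ with h | ⟨f, hf, hβf, hβv⟩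
  · rw [h, mul_zero, add_zero, ← Complex.ofReal_mul, Complex.ofReal_eq_zero] at hmix
    exact mul_ne_zero hu he hmix
  · rw [hβv] at hmix
    have hγ1 : γ 1 ≠ 0 := by
      rcases hγ with h | h
      · exact Char.IsIrrCharacter.apply_one_ne_zero h
      · simpa using Char.IsIrrCharacter.apply_one_ne_zero h
    have h3 : (e : ℂ) * γ 1 = (f : ℂ) * δ 1 := by
      have := h1
      rwa [congrFun hαe 1, congrFun hβf 1, Pi.smul_apply, Pi.smul_apply, smul_eq_mul, smul_eq_mul]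
        at this
    have h4 : ((u : ℂ) * ((e : ℂ) ^ 2 + (f : ℂ) ^ 2)) * γ 1 = 0 := by
      linear_combination ((f : ℂ) ^ 2) * h2 + (-((v : ℂ) * f)) * h3 + ((e : ℂ) * γ 1) * hmix
    rcases mul_eq_zero.1 h4 with h | h
    · rw [← Complex.ofReal_pow, ← Complex.ofReal_pow, ← Complex.ofReal_add, ← Complex.ofReal_mul,
        Complex.ofReal_eq_zero] at h
      exact mul_ne_zero hu (by positivity) h
    · exact hγ1 h

/-- Let α, β, γ, δ be functions on a finite group X each of which is an irreducible character or the negative of one, and u, v nonzero real numbers. Suppose ⟨α, β⟩ = ⟨γ, δ⟩ = 0, ⟨α − β, uγ − vδ⟩ = 0, α 1 = β 1 and u γ 1 = v δ 1. Then also ⟨α, γ⟩ = ⟨α, δ⟩ = ⟨β, γ⟩ = ⟨β, δ⟩ = 0. -/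
theorem result {X : Type*} [Group X] [Fintype X] (α β γ δ : X → ℂ) (hα : Cfsg.IsIrrCharacter X α ∨ Cfsg.IsIrrCharacter X (-α)) (hβ : Cfsg.IsIrrCharacter X β ∨ Cfsg.IsIrrCharacter X (-β)) (hγ : Cfsg.IsIrrCharacter X γ ∨ Cfsg.IsIrrCharacter X (-γ)) (hδ : Cfsg.IsIrrCharacter X δ ∨ Cfsg.IsIrrCharacter X (-δ)) (u v : ℝ) (hu : u ≠ 0) (hv : v ≠ 0) (hab : Cfsg.classInner α β = 0) (hcd : Cfsg.classInner γ δ = 0) (hmix : Cfsg.classInner (α - β) ((u : ℂ) • γ - (v : ℂ) • δ) = 0) (h1 : α 1 = β 1) (h2 : (u : ℂ) * γ 1 = (v : ℂ) * δ 1) : Cfsg.classInner α γ = 0 ∧ Cfsg.classInner α δ = 0 ∧ Cfsg.classInner β γ = 0 ∧ Cfsg.classInner β δ = 0 := by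
  have hcd' : classInner δ γ = 0 := by rw [← Char.conj_classInner, hcd, map_zero]
  have hab' : classInner β α = 0 := by rw [← Char.conj_classInner, hab, map_zero]
  have hm1 : classInner (α - β) ((v : ℂ) • δ - (u : ℂ) • γ) = 0 := by
    rw [← neg_sub ((u : ℂ) • γ) ((v : ℂ) • δ), Char.classInner_neg_right, hmix, neg_zero]
  have hm2 : classInner (β - α) ((u : ℂ) • γ - (v : ℂ) • δ) = 0 := by
    rw [← neg_sub α β, Char.classInner_neg_left, hmix, neg_zero]
  have hm3 : classInner (β - α) ((v : ℂ) • δ - (u : ℂ) • γ) = 0 := by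
    rw [← neg_sub α β, Char.classInner_neg_left, hm1, neg_zero]
  exact ⟨one_pair hα hβ hγ hδ hu hab hcd hmix h1 h2,
    one_pair hα hβ hδ hγ hv hab hcd' hm1 h1 h2.symm,
    one_pair hβ hα hγ hδ hu hab' hcd hm2 h1.symm h2,
    one_pair hβ hα hδ hγ hv hab' hcd' hm3 h1.symm h2.symm⟩

end Cfsg.Agent.S1509
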