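import Cfsg.Statements.S1512
import Cfsg.Agent.Lib.Coprime.Basic
-- import your own Cfsg.Agent.* helpers here

set_option autoImplicit false
open Cfsg

namespace Cfsg.Agent.S1512

/-- Let K be a normal subgroup of the finite group L and x a non-identity element whose order is coprime to the order of K, such that K ⊓ C_L(y) = W₂ for every non-identity element y of the cyclic group generated by x. Then the number of conjugacy classes of K mapped to themselves by conjugation by x is at most Nat.card W₂. -/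
theorem result {L : Type*} [Group L] [Finite L] (K W₂ : Subgroup L) [hK : K.Normal] (x : L) (hx1 : x ≠ 1) (hx : Nat.Coprime (orderOf x) (Nat.card K)) (hC : ∀ y ∈ Subgroup.zpowers x, y ≠ 1 → K ⊓ Subgroup.centralizer ({y} : Set L) = W₂) : Nat.card {C : ConjClasses K // ConjClasses.map (MulEquiv.toMonoidHom ((MulAut.conjNormal x : MulAut K))) C = C} ≤ Nat.card W₂ := by
  classical
  have hW : K ⊓ Subgroup.centralizer ({x} : Set L) = W₂ := hC x (Subgroup.mem_zpowers x) hx1
  have key : ∀ C : {C : ConjClasses K // ConjClasses.map (MulEquiv.toMonoidHom ((MulAut.conjNormal x : MulAut K))) C = C},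
      ∃ k : K, (k : L) ∈ W₂ ∧ ConjClasses.mk k = C.1 := by
    rintro ⟨C, hfix⟩
    induction C using Quotient.inductionOn with
    | _ k =>
    obtain ⟨u, hu⟩ : ∃ u : K, u * k * u⁻¹ = (MulAut.conjNormal x : MulAut K) k := by
      have h1 : IsConj k ((MulAut.conjNormal x : MulAut K) k) := (ConjClasses.mk_eq_mk_iff_isConj.1 hfix).symm
      exact isConj_iff.1 h1
    have hux : (u : L)⁻¹ * x ∈ Subgroup.centralizer ({(k : L)} : Set L) := by
      rw [Subgroup.mem_centralizer_singleton_iff]
      have h2 := congrArg (fun v : K => (v : L)) hu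
      simp only [Subgroup.coe_mul, Subgroup.coe_inv, MulAut.conjNormal_apply] at h2
      calc (u : L)⁻¹ * x * k = (u : L)⁻¹ * (x * k * x⁻¹) * x := by group
        _ = (u : L)⁻¹ * (u * k * (u : L)⁻¹) * x := by rw [h2]
        _ = k * ((u : L)⁻¹ * x) := by group
    have hKn : ∀ W : Subgroup L, W ≤ Subgroup.normalizer (K : Set L) := fun W => by
      rw [Subgroup.normalizer_eq_top]; exact le_top
    have hle : Subgroup.zpowers x ≤ Subgroup.centralizer ({(k : L)} : Set L) ⊔ K := by
      refine Subgroup.zpowers_le.2 ?_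
      simpa using mul_mem (Subgroup.mem_sup_right u.2 : _ ∈ Subgroup.centralizer ({(k : L)} : Set L) ⊔ K)
        (Subgroup.mem_sup_left hux)
    obtain ⟨v, hv, hvA⟩ := Cfsg.Agent.Coprime.exists_conj_le_of_le_mul (A := Subgroup.zpowers x) (K := K)
      (W := Subgroup.centralizer ({(k : L)} : Set L)) (hKn _) (by rwa [Nat.card_zpowers])
      (Or.inl (Group.isSolvable_of_comm fun a b => mul_comm' a b)) fun a ha => by
        obtain ⟨n, hn, w, hw, rfl⟩ := (Cfsg.Agent.Coprime.mem_sup_iff_of_le_normalizer' (hKn _)).1 (hle ha)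
        exact ⟨n, hn, by rwa [inv_mul_cancel_left]⟩
    refine ⟨(⟨v, hv⟩ : K) * k * (⟨v, hv⟩ : K)⁻¹, ?_, ?_⟩
    · rw [← hW]
      refine Subgroup.mem_inf.2 ⟨SetLike.coe_mem _, Subgroup.mem_centralizer_singleton_iff.2 ?_⟩
      have h3 := hvA (Subgroup.mem_zpowers x)
      rw [Cfsg.Agent.Coprime.mem_conj_smul_iff, Subgroup.mem_centralizer_singleton_iff] at h3
      simp only [Subgroup.coe_mul, Subgroup.coe_inv]
      calc v * (k : L) * v⁻¹ * x = v * ((k : L) * (v⁻¹ * x * v)) * v⁻¹ := by group
        _ = v * (v⁻¹ * x * v * (k : L)) * v⁻¹ := by rw [h3]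
        _ = x * (v * (k : L) * v⁻¹) := by group
    · exact ConjClasses.mk_eq_mk_iff_isConj.2 ((isConj_iff (a := k)).2 ⟨(⟨v, hv⟩ : K), rfl⟩).symm
  choose f hf1 hf2 using key
  refine Nat.card_le_card_of_injective (fun C => (⟨(f C : L), hf1 C⟩ : W₂)) ?_
  intro C D h
  refine Subtype.ext ?_
  rw [← hf2 C, ← hf2 D]
  exact congrArg _ (Subtype.ext (congrArg (fun v : W₂ => (v : L)) h))

end Cfsg.Agent.S1512
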