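import Cfsg.Statements.S1515
import Cfsg.Agent.Lib.OddOrder.Coherence
-- import your own Cfsg.Agent.* helpers here

set_option autoImplicit false
open Cfsg

namespace Cfsg.Agent.S1515

/-- Let (S, τ, R) be a coherence system from L to G, χ ∈ S, and ψ an integer combination of S with ⟨χ, ψ⟩ = ⟨conj χ, ψ⟩ = 0. Let τ₁ be a linear isometry on the integer combinations of χ − ψ and χ − conj χ, with virtual-character values, agreeing with τ on integer multiples of χ − conj χ. Then the sum over α ∈ R χ of the squared absolute values of ⟨τ₁(χ − ψ), α⟩ is at least ⟨χ, χ⟩; and if ⟨τ₁(χ − ψ), τ₁(χ − ψ)⟩ minus that sum is at least ⟨ψ, ψ⟩, then the sum equals ⟨χ, χ⟩ and every ⟨τ₁(χ − ψ), α⟩ with α ∈ R χ is 0 or 1. -/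
theorem result {L : Type*} [Group L] [Fintype L] {G : Type*} [Group G] [Fintype G] (S : Set (L → ℂ)) (τ : (L → ℂ) → (G → ℂ)) (R : (L → ℂ) → Finset (G → ℂ)) (hS : Cfsg.IsCoherenceSystem S τ R) (χ : L → ℂ) (hχ : χ ∈ S) (ψ : L → ℂ) (hψ : ψ ∈ Cfsg.zspan S) (h1 : Cfsg.classInner χ ψ = 0) (h2 : Cfsg.classInner (Cfsg.conjFun χ) ψ = 0) (τ₁ : (L → ℂ) → (G → ℂ)) (hτ₁ : Cfsg.IsLinearIsometryOn (Cfsg.zspan {χ - ψ, χ - Cfsg.conjFun χ}) τ₁) (hagree : ∀ n : ℤ, τ₁ (n • (χ - Cfsg.conjFun χ)) = τ (n • (χ - Cfsg.conjFun χ))) : (Cfsg.classInner χ χ).re ≤ ∑ α ∈ R χ, ‖Cfsg.classInner (τ₁ (χ - ψ)) α‖ ^ 2 ∧ ((Cfsg.classInner ψ ψ).re ≤ (Cfsg.classInner (τ₁ (χ - ψ)) (τ₁ (χ - ψ))).re - ∑ α ∈ R χ, ‖Cfsg.classInner (τ₁ (χ - ψ)) α‖ ^ 2 → (∑ α ∈ R χ, ‖Cfsg.classInner (τ₁ (χ - ψ)) α‖ ^ 2 = (Cfsg.classInner χ χ).re ∧ ∀ α ∈ R χ, Cfsg.classInner (τ₁ (χ - ψ)) α = 0 ∨ Cfsg.classInner (τ₁ (χ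 - ψ)) α = 1)) := by
  obtain ⟨n, -, hn⟩ := OddOrder.system_exists_norm hS hχ
  set E : Set (L → ℂ) := {χ - ψ, χ - Cfsg.conjFun χ} with hE
  have hm1 : χ - ψ ∈ zspan E := Submodule.subset_span (Or.inl rfl)
  have hm2 : χ - Cfsg.conjFun χ ∈ zspan E := Submodule.subset_span (Or.inr rfl)
  have hag : τ₁ (χ - Cfsg.conjFun χ) = τ (χ - Cfsg.conjFun χ) := by simpa using hagree 1
  obtain ⟨a, ha, hsum⟩ := OddOrder.exists_coeff hS hχ (hτ₁.2.2.2 _ hm1)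
  have hψχ : classInner ψ χ = 0 := by rw [← Char.conj_classInner, h1, map_zero]
  have hψc : classInner ψ (Cfsg.conjFun χ) = 0 := by rw [← Char.conj_classInner, h2, map_zero]
  rw [← hag, hτ₁.2.2.1 _ hm1 _ hm2] at hsum
  simp only [Char.classInner_sub_left, Char.classInner_sub_right,
    (OddOrder.system_conj_inner hS hχ).1, hψχ, hψc, hn, sub_zero] at hsum
  have hsum' : (n : ℤ) = ∑ α ∈ R χ, a α := by exact_mod_cast hsum
  have hS2 : ∑ α ∈ R χ, ‖classInner (τ₁ (χ - ψ)) α‖ ^ 2 = ((∑ α ∈ R χ, a α ^ 2 : ℤ) : ℝ) := by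
    rw [Int.cast_sum]
    refine Finset.sum_congr rfl fun α hα => ?_
    rw [ha α hα, Complex.norm_intCast, sq_abs, Int.cast_pow]
  have hle := OddOrder.le_sq_of_sum (R χ) a
  rw [← hsum'] at hle
  rw [hS2, hn, Complex.natCast_re]
  refine ⟨by exact_mod_cast hle, fun h => ?_⟩
  rw [hτ₁.2.2.1 _ hm1 _ hm1] at h
  simp only [Char.classInner_sub_left, Char.classInner_sub_right, h1, hψχ, hn, sub_zero, zero_sub,
    sub_neg_eq_add, Complex.add_re, Complex.natCast_re] at h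
  have hge : ((∑ α ∈ R χ, a α ^ 2 : ℤ) : ℝ) ≤ ((n : ℤ) : ℝ) := by push_cast at h ⊢; linarith
  have hge' : ∑ α ∈ R χ, a α ^ 2 ≤ (n : ℤ) := by exact_mod_cast hge
  refine ⟨by rw [le_antisymm hge' hle]; push_cast; rfl, fun α hα => ?_⟩
  rw [ha α hα]
  rcases OddOrder.zero_or_one_of_sum (R χ) a (hge'.trans_eq hsum') hα with e | e <;> simp [e]

end Cfsg.Agent.S1515
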