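import Cfsg.Statements.S1527
-- import your own Cfsg.Agent.* helpers here

set_option autoImplicit false
open Cfsg

namespace Cfsg.Agent.S1527

/-- Let G be a finite group and H i (i in a finite index type) subgroups of pairwise coprime orders, each of whose underlying sets is a TI-subset of G, such that every non-identity element of G is conjugate to an element of some H i. Then Nat.card G − 1 = Σ_i [G : N_G(H i)] · (Nat.card (H i) − 1). -/
theorem result {G : Type*} [Group G] [Finite G] {ι : Type*} [Fintype ι] (H : ι → Subgroup G) (hcop : ∀ i j, i ≠ j → Nat.Coprime (Nat.card (H i)) (Nat.card (H j))) (hTI : ∀ i, Cfsg.IsTISubset (H i : Set G)) (hcover : ∀ g : G, g ≠ 1 → ∃ i, ∃ x : G, x * g * x⁻¹ ∈ H i) : Nat.card G - 1 = ∑ i, (Subgroup.normalizer (H i : Set G)).index * (Nat.card (H i) - 1) := by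
  classical
  let N : ι → Subgroup G := fun i => Subgroup.normalizer (H i : Set G)
  let f : (Σ i, (G ⧸ N i) × {h : ↥(H i) // h ≠ 1}) → {g : G // g ≠ 1} := fun s =>
    ⟨s.2.1.out * (s.2.2.1 : G) * s.2.1.out⁻¹, by
      intro h
      apply s.2.2.2
      rw [conj_eq_one_iff] at h
      exact Subtype.ext h⟩
  have hinj : Function.Injective f := by
    rintro ⟨i, q, h, hh⟩ ⟨j, q', h', hh'⟩ he
    simp only [f, Subtype.mk.injEq] at he
    set t := q'.out⁻¹ * q.out with ht
    have hconj : t * (h : G) * t⁻¹ = (h' : G) := by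
      have : (h' : G) = q'.out⁻¹ * (q'.out * (h' : G) * q'.out⁻¹) * q'.out := by group
      rw [this, ← he, ht]
      group
    have hij : i = j := by
      by_contra hne
      have o1 : orderOf (h' : G) = orderOf (h : G) := by
        have hc : MulAut.conj t (h : G) = (h' : G) := by rw [MulAut.conj_apply]; exact hconj
        rw [← hc, MulEquiv.orderOf_eq]
      have d1 : orderOf (h : G) ∣ Nat.card (H i) := by
        rw [Subgroup.orderOf_coe]; exact orderOf_dvd_natCard h
      have d2 : orderOf (h : G) ∣ Nat.card (H j) := by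
        rw [← o1, Subgroup.orderOf_coe]; exact orderOf_dvd_natCard h'
      have h1 : orderOf (h : G) = 1 := by
        have := Nat.dvd_gcd d1 d2
        rwa [Nat.Coprime.gcd_eq_one (hcop i j hne), Nat.dvd_one] at this
      exact hh (Subtype.ext (orderOf_eq_one_iff.1 h1))
    subst hij
    have htN : t ∈ N i := by
      by_contra hne
      exact hh (Subtype.ext (hTI i t hne h h.2 (by rw [hconj]; exact h'.2)))
    have hq : q' = q := by
      rw [← q.out_eq', ← q'.out_eq']
      exact QuotientGroup.eq.2 htN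
    subst hq
    have : t = 1 := by simp [ht]
    rw [this] at hconj
    simp only [one_mul, inv_one, mul_one] at hconj
    obtain rfl : h = h' := Subtype.ext hconj
    rfl
  have hsurj : Function.Surjective f := by
    rintro ⟨g, hg⟩
    obtain ⟨i, x, hx⟩ := hcover g hg
    set q : G ⧸ N i := (QuotientGroup.mk x⁻¹ : G ⧸ N i) with hq
    have hmem : q.out⁻¹ * x⁻¹ ∈ N i := QuotientGroup.eq.1 (by rw [QuotientGroup.out_eq', hq])
    have hu : q.out⁻¹ * g * q.out ∈ H i := by
      have hc := (Subgroup.mem_normalizer_iff.1 hmem (x * g * x⁻¹)).1 hx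
      have : q.out⁻¹ * g * q.out = q.out⁻¹ * x⁻¹ * (x * g * x⁻¹) * (q.out⁻¹ * x⁻¹)⁻¹ := by group
      rw [this]
      exact hc
    refine ⟨⟨i, q, ⟨⟨_, hu⟩, fun h1 => hg ?_⟩⟩, Subtype.ext ?_⟩
    · have h2 : q.out⁻¹ * g * q.out = 1 := congrArg Subtype.val h1
      have : g = q.out * (q.out⁻¹ * g * q.out) * q.out⁻¹ := by group
      rw [this, h2]
      group
    · show q.out * (q.out⁻¹ * g * q.out) * q.out⁻¹ = g
      group
  have hne : ∀ (α : Type _) [Finite α] (a : α), Nat.card {x : α // x ≠ a} = Nat.card α - 1 := by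
    intro α _ a
    haveI := Fintype.ofFinite α
    rw [Nat.card_eq_fintype_card, Nat.card_eq_fintype_card, Fintype.card_subtype_compl,
      Fintype.card_subtype_eq]
  rw [← hne G 1, ← Nat.card_congr (Equiv.ofBijective f ⟨hinj, hsurj⟩), Nat.card_sigma]
  refine Finset.sum_congr rfl (fun i _ => ?_)
  rw [Nat.card_prod, hne _ 1]
  rfl

end Cfsg.Agent.S1527
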