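import Cfsg.Statements.S1528
import Cfsg.Agent.Lib.Char.Clifford
import Cfsg.Agent.Lib.Char.FixedIrr

set_option autoImplicit false
open Cfsg
open Cfsg.Agent.Char (conjFun resFun)

namespace Cfsg.Agent.S1528

/-- Let N be a normal subgroup of the finite group G such that every element of G commuting with a non-identity element of N lies in N. If χ is an irreducible character of G with χ n ≠ χ 1 for some n ∈ N, then χ is the function induced from some irreducible character of N. -/
theorem result {G : Type*} [Group G] [Fintype G] (N : Subgroup G) [N.Normal] (hC : ∀ n ∈ N, n ≠ 1 → Subgroup.centralizer ({n} : Set G) ≤ N) (χ : G → ℂ) (hχ : Cfsg.IsIrrCharacter G χ) (hker : ∃ n ∈ N, χ n ≠ χ 1) : ∃ φ : N → ℂ, Cfsg.IsIrrCharacter N φ ∧ χ = Cfsg.indFun N φ := by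
  classical
  haveI := Fintype.ofFinite N
  obtain ⟨θ, hθ⟩ := Cfsg.Agent.Char.exists_constituent N ⟨χ, hχ⟩
  have hθ1 : θ ≠ Cfsg.Agent.Char.trivialChar N := by
    rintro rfl
    obtain ⟨n, hn, hne⟩ := hker
    have hres := Cfsg.Agent.Char.resFun_eq_smul_orbitSum N ⟨χ, hχ⟩ _ hθ
    have horb : Cfsg.Agent.Char.orbitSum N (Cfsg.Agent.Char.trivialChar N) = fun _ =>
        ((Cfsg.Agent.Char.orbitFinset N (Cfsg.Agent.Char.trivialChar N)).card : ℂ) := by
      funext m
      rw [Cfsg.Agent.Char.orbitSum, Finset.sum_apply, Finset.sum_congr rfl (fun η hη => ?_),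
        Finset.sum_const, nsmul_one]
      obtain ⟨g, rfl⟩ := (Cfsg.Agent.Char.mem_orbitFinset N).1 hη
      rfl
    apply hne
    have e1 := congrFun hres ⟨n, hn⟩
    have e2 := congrFun hres 1
    simp only [Cfsg.Agent.Char.resFun_apply, Pi.smul_apply, horb] at e1 e2
    exact e1.trans e2.symm
  have hI : ∀ g, Cfsg.Agent.Char.conjFun N θ.1 g = θ.1 → g ∈ N := by
    intro g hg
    obtain ⟨a, ha, hconj⟩ := (Cfsg.Agent.Char.exists_fixed_irr_iff (MulAut.conjNormal g : MulAut N)).1
      ⟨θ, hθ1, hg⟩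
    obtain ⟨m, hm⟩ := isConj_iff.1 hconj
    have hm' : (m : G) * a * (m : G)⁻¹ = g * a * g⁻¹ := by
      simpa using congrArg Subtype.val hm
    have hmem : (m : G)⁻¹ * g ∈ N := by
      refine hC a a.2 (fun e => ha (Subtype.ext e)) ?_
      rw [Subgroup.mem_centralizer_singleton_iff]
      calc (m : G)⁻¹ * g * a = (m : G)⁻¹ * (g * a * g⁻¹) * g := by group
        _ = (m : G)⁻¹ * ((m : G) * a * (m : G)⁻¹) * g := by rw [hm']
        _ = _ := by group
    simpa using mul_mem m.2 hmem
  have hirr := Cfsg.Agent.Char.isIrrCharacter_indFun_inertia N N le_rfl θ hI (ψ := θ) one_ne_zero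
    (fun n => by simp)
  refine ⟨θ.1, θ.2, ?_⟩
  by_contra hne
  have h0 := Cfsg.Agent.Char.classInner_irr_of_ne hχ hirr hne
  rw [Cfsg.Agent.Char.classInner_indFun_right N θ.1
    (Cfsg.Agent.Char.IsCharacter.isClassFunction (Cfsg.Agent.Char.IsIrrCharacter.isCharacter hχ))] at h0
  exact hθ h0

end Cfsg.Agent.S1528
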