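import Cfsg.Statements.S1530
import Cfsg.Agent.Lib.Char.Isometry

set_option autoImplicit false
open Cfsg

namespace Cfsg.Agent.S1530

/-- Let N be a subgroup of the finite group G and S₀ a finite set of irreducible characters of N, χ an irreducible character of N not in S₀, with degrees ξ 1 = d ξ. Let τ be a linear isometry on the integer combinations of S₀ ∪ {χ} vanishing at 1, with values virtual characters of G vanishing at 1, such that (S₀, N minus 1, τ) is coherent. If some ψ ∈ S₀ has d ψ dividing d χ and 2 · d ψ · d χ < Σ_{ξ ∈ S₀} (d ξ)², then (S₀ ∪ {χ}, N minus 1, τ) is coherent. -/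
theorem result {G : Type*} [Group G] [Fintype G] (N : Subgroup G) [Fintype N] (S₀ : Finset (N → ℂ)) (χ : N → ℂ) (hirr : ∀ ξ ∈ S₀, Cfsg.IsIrrCharacter N ξ) (hχ : Cfsg.IsIrrCharacter N χ) (hχS : χ ∉ S₀) (d : (N → ℂ) → ℕ) (hd : ∀ ξ ∈ insert χ S₀, ξ 1 = (d ξ : ℂ)) (τ : (N → ℂ) → (G → ℂ)) (hτ : Cfsg.IsLinearIsometryOn (Cfsg.zspanOn (↑(insert χ S₀) : Set (N → ℂ)) {1}ᶜ) τ) (hτ1 : ∀ α ∈ Cfsg.zspanOn (↑(insert χ S₀) : Set (N → ℂ)) {1}ᶜ, τ α 1 = 0) (hcoh : Cfsg.IsCoherent (↑S₀ : Set (N → ℂ)) {1}ᶜ τ) (ψ : N → ℂ) (hψ : ψ ∈ S₀) (hdvd : d ψ ∣ d χ) (hlt : 2 * d ψ * d χ < ∑ ξ ∈ S₀, d ξ ^ 2) : Cfsg.IsCoherent (↑(insert χ S₀) : Set (N → ℂ)) {1}ᶜ τ := by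
  classical
  set S₀' : Set (N → ℂ) := (↑S₀ : Set (N → ℂ)) with hS₀'
  set S : Set (N → ℂ) := ↑(insert χ S₀) with hS
  obtain ⟨-, τ₁, hτ₁, hag⟩ := hcoh
  have hsubS : S₀' ⊆ S := by simp [hS, hS₀']
  have hψS : ψ ∈ S := hsubS hψ
  have hχS' : χ ∈ S := by simp [hS]
  have hmem : ∀ ξ ∈ S₀, ξ ∈ zspan S₀' := fun ξ hξ => Submodule.subset_span hξ
  have hdpos : ∀ ξ ∈ insert χ S₀, 0 < d ξ := by
    intro ξ hξ
    have hi : IsIrrCharacter N ξ := by
      rcases Finset.mem_insert.1 hξ with rfl | h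
      · exact hχ
      · exact hirr ξ h
    obtain ⟨n, hn0, hn⟩ := Cfsg.Agent.Char.IsIrrCharacter.exists_degree hi
    rw [hd ξ hξ] at hn
    have : d ξ = n := by exact_mod_cast hn
    omega
  obtain ⟨a, ha⟩ := hdvd
  have hdψ : 0 < d ψ := hdpos ψ (Finset.mem_insert_of_mem hψ)
  have ha0 : 0 < a := by
    have h := hdpos χ (Finset.mem_insert_self _ _)
    rw [ha] at h
    exact Nat.pos_of_mul_pos_left h
  have hχ1 : χ 1 = (d χ : ℂ) := hd χ (Finset.mem_insert_self _ _)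
  have hψ1 : ψ 1 = (d ψ : ℂ) := hd ψ (Finset.mem_insert_of_mem hψ)
  -- the combination vanishing at 1
  set α : N → ℂ := χ - (a : ℤ) • ψ with hα
  have hαS : α ∈ zspanOn S {1}ᶜ := by
    refine Cfsg.Agent.Char.mem_zspanOn_compl_one.2 ⟨Submodule.sub_mem _ (Submodule.subset_span hχS')
      (Submodule.smul_mem _ _ (Submodule.subset_span hψS)), ?_⟩
    simp [hα, hχ1, hψ1, ha, mul_comm]
  have hz : ∀ θ ∈ zspanOn S₀' {1}ᶜ, θ ∈ zspanOn S {1}ᶜ := fun θ h =>
    ⟨Submodule.span_mono hsubS h.1, h.2⟩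
  have h01 : ∀ θ ∈ zspan S₀', θ 1 = 0 → τ₁ θ 1 = 0 := fun θ h h1 => by
    have hθ := Cfsg.Agent.Char.mem_zspanOn_compl_one.2 ⟨h, h1⟩
    rw [hag θ hθ]
    exact hτ1 θ (hz θ hθ)
  have ee : ∀ ξ ∈ S₀, ∀ η ∈ S₀, classInner (τ₁ ξ) (τ₁ η) = if ξ = η then 1 else 0 := by
    intro ξ hξ η hη
    rw [hτ₁.2.2.1 ξ (hmem ξ hξ) η (hmem η hη)]
    split_ifs with h
    · subst h; exact Cfsg.Agent.Char.classInner_irr_self (hirr ξ hξ)
    · exact Cfsg.Agent.Char.classInner_irr_of_ne (hirr ξ hξ) (hirr η hη) h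
  set Δ : G → ℂ := τ α + (a : ℤ) • τ₁ ψ with hΔ
  have hΔg : IsGeneralizedCharacter G Δ := by
    rw [hΔ, ← Int.cast_smul_eq_zsmul ℂ]
    exact Cfsg.Agent.Char.IsGeneralizedCharacter.add (hτ.2.2.2 α hαS)
      (Cfsg.Agent.Char.IsGeneralizedCharacter.intCast_smul (hτ₁.2.2.2 ψ (hmem ψ hψ)) _)
  choose! u hu using fun (ξ : N → ℂ) (hξ : ξ ∈ S₀) =>
    Cfsg.Agent.Char.IsGeneralizedCharacter.exists_int_classInner hΔg (hτ₁.2.2.2 ξ (hmem ξ hξ))
  have hχξ : ∀ ξ ∈ S₀, classInner χ ξ = 0 := fun ξ hξ =>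
    Cfsg.Agent.Char.classInner_irr_of_ne hχ (hirr ξ hξ) fun e => hχS (e ▸ hξ)
  have hαξ : ∀ ξ ∈ S₀, classInner α ξ = -((a : ℂ) * if ψ = ξ then 1 else 0) := by
    intro ξ hξ
    rw [hα, Cfsg.Agent.Char.classInner_sub_left, Cfsg.Agent.Char.classInner_zsmul_left, hχξ ξ hξ]
    split_ifs with h
    · subst h; simp [Cfsg.Agent.Char.classInner_irr_self (hirr _ hξ)]
    · simp [Cfsg.Agent.Char.classInner_irr_of_ne (hirr _ hψ) (hirr _ hξ) h]
  have hcα : ∀ ξ ∈ S₀, classInner (τ α) (τ₁ ξ) = (u ξ : ℂ) - (a : ℂ) * if ψ = ξ then 1 else 0 := by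
    intro ξ hξ
    rw [← hu ξ hξ, hΔ, Cfsg.Agent.Char.classInner_add_left, Cfsg.Agent.Char.classInner_zsmul_left,
      ee ψ hψ ξ hξ, Int.cast_natCast]
    ring
  -- the projections are proportional to the degrees
  have hprop : ∀ ξ ∈ S₀, u ξ * d ψ = u ψ * d ξ := by
    intro ξ hξ
    set x : N → ℂ := (d ψ : ℤ) • ξ - (d ξ : ℤ) • ψ with hx
    have hxS : x ∈ zspanOn S₀' {1}ᶜ := by
      refine Cfsg.Agent.Char.mem_zspanOn_compl_one.2
        ⟨Submodule.sub_mem _ (Submodule.smul_mem _ _ (hmem ξ hξ)) (Submodule.smul_mem _ _ (hmem ψ hψ)), ?_⟩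
      simp [hx, hψ1, hd ξ (Finset.mem_insert_of_mem hξ), mul_comm]
    have h := hτ.2.2.1 α hαS x (hz x hxS)
    rw [← hag x hxS, hx, Cfsg.Agent.Char.iso_map_sub (E := Submodule.span ℤ S₀') hτ₁
      (Submodule.smul_mem _ _ (hmem ξ hξ)) (Submodule.smul_mem _ _ (hmem ψ hψ)),
      hτ₁.2.1 ξ (hmem ξ hξ), hτ₁.2.1 ψ (hmem ψ hψ)] at h
    simp only [Cfsg.Agent.Char.classInner_sub_right, Cfsg.Agent.Char.classInner_zsmul_right,
      Int.cast_natCast, hcα ξ hξ, hcα ψ hψ, hαξ ξ hξ, hαξ ψ hψ] at h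
    have h' : ((u ξ * d ψ : ℤ) : ℂ) = ((u ψ * d ξ : ℤ) : ℂ) := by
      push_cast
      linear_combination h
    exact_mod_cast h'
  set k := u ψ with hk
  have hnorm : classInner Δ Δ = ((1 + 2 * a * k : ℤ) : ℂ) := by
    have e1 : classInner (τ α) (τ α) = 1 + (a : ℂ) ^ 2 := by
      rw [hτ.2.2.1 α hαS α hαS]
      conv_lhs => arg 2; rw [hα]
      rw [Cfsg.Agent.Char.classInner_sub_right, Cfsg.Agent.Char.classInner_zsmul_right, hαξ ψ hψ, hα,
        Cfsg.Agent.Char.classInner_sub_left, Cfsg.Agent.Char.classInner_zsmul_left,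
        Cfsg.Agent.Char.classInner_irr_self hχ,
        Cfsg.Agent.Char.classInner_irr_of_ne (hirr ψ hψ) hχ (fun e => hχS (e ▸ hψ))]
      simp [sq]
    have e2 : classInner (τ α) (τ₁ ψ) = ((k - a : ℤ) : ℂ) := by
      rw [hcα ψ hψ]; simp [hk]
    have e3 : classInner (τ₁ ψ) (τ α) = ((k - a : ℤ) : ℂ) := by
      rw [← Cfsg.Agent.Char.conj_classInner, e2, map_intCast]
    rw [hΔ]
    simp only [Cfsg.Agent.Char.classInner_add_left, Cfsg.Agent.Char.classInner_add_right,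
      Cfsg.Agent.Char.classInner_zsmul_left, Cfsg.Agent.Char.classInner_zsmul_right, e1, e2, e3,
      ee ψ hψ ψ hψ, if_true]
    push_cast
    ring
  set P : G → ℂ := ∑ ξ ∈ S₀, u ξ • τ₁ ξ with hP
  set U : ℤ := ∑ ξ ∈ S₀, u ξ ^ 2 with hU
  have hPe : ∀ η ∈ S₀, classInner P (τ₁ η) = (u η : ℂ) := by
    intro η hη
    rw [hP, Cfsg.Agent.Char.classInner_sum_left, Finset.sum_eq_single η]
    · rw [Cfsg.Agent.Char.classInner_zsmul_left, ee η hη η hη, if_pos rfl, mul_one]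
    · intro ξ hξ hne
      rw [Cfsg.Agent.Char.classInner_zsmul_left, ee ξ hξ η hη, if_neg hne, mul_zero]
    · exact fun h => absurd hη h
  have hPP : classInner P P = (U : ℂ) := by
    conv_lhs => arg 2; rw [hP]
    rw [Cfsg.Agent.Char.classInner_sum_right, hU, Int.cast_sum]
    refine Finset.sum_congr rfl fun η hη => ?_
    rw [Cfsg.Agent.Char.classInner_zsmul_right, hPe η hη]
    push_cast
    ring
  have hΔP : classInner Δ P = (U : ℂ) := by
    rw [hP, Cfsg.Agent.Char.classInner_sum_right, hU, Int.cast_sum]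
    refine Finset.sum_congr rfl fun η hη => ?_
    rw [Cfsg.Agent.Char.classInner_zsmul_right, hu η hη]
    push_cast
    ring
  have hPΔ : classInner P Δ = (U : ℂ) := by
    rw [← Cfsg.Agent.Char.conj_classInner, hΔP, map_intCast]
  have hR : classInner (Δ - P) (Δ - P) = ((1 + 2 * a * k - U : ℤ) : ℂ) := by
    simp only [Cfsg.Agent.Char.classInner_sub_left, Cfsg.Agent.Char.classInner_sub_right, hnorm, hΔP,
      hPΔ, hPP]
    push_cast
    ring
  have hR0 := Cfsg.Agent.Char.zero_le_of_classInner_self hR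
  have hUd : U * (d ψ : ℤ) ^ 2 = k ^ 2 * ∑ ξ ∈ S₀, (d ξ : ℤ) ^ 2 := by
    rw [hU, Finset.sum_mul, Finset.mul_sum]
    refine Finset.sum_congr rfl fun ξ hξ => ?_
    rw [← mul_pow, hprop ξ hξ, mul_pow]
  have hk0 : k = 0 := by
    by_contra hk0
    have hlt' : 2 * (a : ℤ) * (d ψ : ℤ) ^ 2 < ∑ ξ ∈ S₀, (d ξ : ℤ) ^ 2 := by
      have : ((2 * d ψ * d χ : ℕ) : ℤ) < ((∑ ξ ∈ S₀, d ξ ^ 2 : ℕ) : ℤ) := by exact_mod_cast hlt
      push_cast [ha] at this
      linarith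
    have hksq : 0 < k ^ 2 := by positivity
    have hUlt : 2 * (a : ℤ) * k ^ 2 < U := by
      have hpos : (0 : ℤ) < (d ψ : ℤ) ^ 2 := by positivity
      nlinarith [mul_lt_mul_of_pos_left hlt' hksq]
    have hk1 : k = 1 := by
      have h2 : k ^ 2 ≤ k := by nlinarith
      rcases lt_trichotomy k 1 with h | h | h
      · have : k < 0 := by omega
        nlinarith
      · exact h
      · nlinarith
    have hU1 : U = 2 * a + 1 := by rw [hk1] at hR0 hUlt; omega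
    have hΔeq : Δ = P := by
      have : classInner (Δ - P) (Δ - P) = 0 := by rw [hR, hk1, hU1]; simp; ring
      exact sub_eq_zero.1 (Cfsg.Agent.Char.classInner_self_eq_zero this)
    have hv := congrFun hΔeq 1
    obtain ⟨f, e, he, hf⟩ := Cfsg.Agent.Char.exists_irr_image hτ₁ (χ := ψ) hψ (hirr ψ hψ)
    have hne : τ₁ ψ 1 ≠ 0 := by
      rw [hf]
      rcases he with rfl | rfl <;>
        simp [Cfsg.Agent.Char.apply_one_eq_degree, (Cfsg.Agent.Char.degree_pos f).ne']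
    have e1 : Δ 1 = (a : ℂ) * τ₁ ψ 1 := by
      rw [hΔ, Pi.add_apply, hτ1 α hαS, Pi.smul_apply, zsmul_eq_mul]
      simp
    have e2 : P 1 = (U : ℂ) * τ₁ ψ 1 := by
      rw [hP, hU, Finset.sum_apply, Int.cast_sum, Finset.sum_mul]
      refine Finset.sum_congr rfl fun ξ hξ => ?_
      have hval := Cfsg.Agent.Char.image_one_mul hirr hτ₁ h01 (χ := ξ) hξ (ψ := ψ) hψ
      rw [hψ1, hd ξ (Finset.mem_insert_of_mem hξ)] at hval
      have hpr : (u ξ : ℂ) * (d ψ : ℂ) = (d ξ : ℂ) := by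
        have := hprop ξ hξ
        rw [hk1, one_mul] at this
        exact_mod_cast this
      have hne' : (d ψ : ℂ) ≠ 0 := Nat.cast_ne_zero.2 hdψ.ne'
      rw [Pi.smul_apply, zsmul_eq_mul]
      apply mul_right_cancel₀ hne'
      push_cast
      linear_combination (u ξ : ℂ) * hval - (u ξ : ℂ) * τ₁ ψ 1 * hpr
    rw [e1, e2] at hv
    have : ((a : ℤ) : ℂ) = (U : ℂ) := by simpa using mul_right_cancel₀ hne hv
    have : (a : ℤ) = U := by exact_mod_cast this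
    omega
  have hu0 : ∀ ξ ∈ S₀, u ξ = 0 := fun ξ hξ => by
    have h := hprop ξ hξ
    rw [hk0, zero_mul] at h
    exact (mul_eq_zero.1 h).resolve_right (by exact_mod_cast hdψ.ne')
  -- the image of the new character
  let σ : (N → ℂ) → (G → ℂ) := fun θ => classInner θ χ • Δ
  have hspan : ∀ θ ∈ zspan ({χ} : Set (N → ℂ)), ∃ n : ℤ, n • χ = θ := fun θ h =>
    Submodule.mem_span_singleton.1 h
  have hσval : ∀ n : ℤ, σ (n • χ) = n • Δ := fun n => by
    simp only [σ, Cfsg.Agent.Char.classInner_zsmul_left, Cfsg.Agent.Char.classInner_irr_self hχ, mul_one,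
      Int.cast_smul_eq_zsmul]
  have hΔ1 : classInner Δ Δ = 1 := by rw [hnorm, hk0]; simp
  have hσ : IsLinearIsometryOn (zspan ({χ} : Set (N → ℂ))) σ := by
    refine ⟨?_, ?_, ?_, ?_⟩
    · intro p hp q hq
      simp only [σ, Cfsg.Agent.Char.classInner_add_left, add_smul]
    · intro p hp n
      simp only [σ, Cfsg.Agent.Char.classInner_zsmul_left, mul_smul, Int.cast_smul_eq_zsmul]
    · intro p hp q hq
      obtain ⟨n, rfl⟩ := hspan p hp
      obtain ⟨m, rfl⟩ := hspan q hq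
      simp only [hσval, Cfsg.Agent.Char.classInner_zsmul_left, Cfsg.Agent.Char.classInner_zsmul_right,
        hΔ1, Cfsg.Agent.Char.classInner_irr_self hχ]
    · intro p hp
      obtain ⟨n, rfl⟩ := hspan p hp
      rw [hσval, ← Int.cast_smul_eq_zsmul ℂ]
      exact Cfsg.Agent.Char.IsGeneralizedCharacter.intCast_smul hΔg n
  obtain ⟨τ₂, hτ₂, hval⟩ := Cfsg.Agent.Char.exists_glue (X := S₀') (Y := {χ})
    (fun x hx y hy => by
      obtain rfl : y = χ := hy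
      rw [← Cfsg.Agent.Char.conj_classInner, hχξ x hx, map_zero])
    hτ₁ hσ
    (fun x hx y hy => by
      obtain rfl : y = χ := hy
      have h1 := hσval 1
      rw [one_smul, one_smul] at h1
      rw [h1, ← Cfsg.Agent.Char.conj_classInner, hu x hx, hu0 x hx, Int.cast_zero, map_zero])
  have hSeq : S = S₀' ∪ {χ} := by rw [hS, hS₀', Finset.coe_insert, Set.union_singleton]
  refine ⟨⟨α, hαS, fun h => ?_⟩, τ₂, hSeq ▸ hτ₂, ?_⟩
  · have := congrArg (fun θ => classInner θ χ) h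
    simp only [hα, Cfsg.Agent.Char.classInner_sub_left, Cfsg.Agent.Char.classInner_zsmul_left,
      Cfsg.Agent.Char.classInner_irr_self hχ,
      Cfsg.Agent.Char.classInner_irr_of_ne (hirr ψ hψ) hχ (fun e => hχS (e ▸ hψ))] at this
    simp [classInner] at this
  · intro θ hθ
    have hθ' : θ ∈ Submodule.span ℤ (S₀' ∪ {χ}) := hSeq ▸ hθ.1
    rw [Submodule.span_union, Submodule.mem_sup] at hθ'
    obtain ⟨x, hx, y, hy, rfl⟩ := hθ'
    obtain ⟨n, rfl⟩ := hspan y hy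
    set x' : N → ℂ := x + (n * a) • ψ with hx'
    have hx'S : x' ∈ zspanOn S₀' {1}ᶜ := by
      refine Cfsg.Agent.Char.mem_zspanOn_compl_one.2
        ⟨Submodule.add_mem _ hx (Submodule.smul_mem _ _ (hmem ψ hψ)), ?_⟩
      have h1 : x 1 + (n : ℂ) * (d χ : ℂ) = 0 := by
        simpa [hχ1] using hθ.2 1 (by simp)
      simp only [hx', Pi.add_apply, Pi.mul_apply, Pi.intCast_apply, Pi.natCast_apply, Pi.smul_apply, zsmul_eq_mul, Int.cast_mul, Int.cast_natCast, hψ1]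
      rw [ha] at h1
      push_cast at h1 ⊢
      linear_combination h1
    have hdec : x + n • χ = x' + n • α := by
      rw [hx', hα, smul_sub, smul_smul]
      abel
    have hnα : n • α ∈ zspanOn S {1}ᶜ :=
      (Cfsg.Agent.Char.zspanOnSub S ({1}ᶜ : Set N)).smul_mem n hαS
    calc τ₂ (x + n • χ) = τ₁ x + n • Δ := by rw [hval x hx _ hy, hσval]
      _ = τ₁ x' + n • τ α := by
        rw [hx', hτ₁.1 x hx _ (Submodule.smul_mem _ _ (hmem ψ hψ)), hτ₁.2.1 ψ (hmem ψ hψ), hΔ,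
          smul_add, smul_smul]
        abel
      _ = τ (x + n • χ) := by
        rw [hdec, hτ.1 x' (hz x' hx'S) _ hnα, hτ.2.1 α hαS n, hag x' hx'S]

end Cfsg.Agent.S1530
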