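import Cfsg.Statements.S1534
import Cfsg.Agent.Lib.OddOrder.FeitSibley
-- import your own Cfsg.Agent.* helpers here

set_option autoImplicit false
open Cfsg

namespace Cfsg.Agent.S1534

/-- Let G be a finite group and K a nontrivial nilpotent subgroup whose underlying set is a TI-subset of G, properly contained in its set normaliser N, with C_G(k) ≤ K for every non-identity k ∈ K; let e be the index of K in N and S the set of irreducible characters χ of N with χ k ≠ χ 1 for some k ∈ K. Then one of: S has exactly one member, Nat.card K = e + 1 and K is an elementary abelian p-group for some prime p; or K is a Sylow 2-subgroup of G (Nat.card K is the largest power of 2 dividing Nat.card G) and [K : [K,K]] < 4e²; or (S, N minus 1, induction to G) is coherent. -/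
theorem result {G : Type*} [Group G] [Fintype G] (K : Subgroup G) (hK1 : K ≠ ⊥) (hnil : Group.IsNilpotent K) (hTI : Cfsg.IsTISubset (K : Set G)) (hlt : K < Subgroup.normalizer (K : Set G)) (hC : ∀ k ∈ K, k ≠ 1 → Subgroup.centralizer ({k} : Set G) ≤ K) [Fintype ↥(Subgroup.normalizer (K : Set G))] : (Nat.card {χ : ↥(Subgroup.normalizer (K : Set G)) → ℂ // Cfsg.IsIrrCharacter ↥(Subgroup.normalizer (K : Set G)) χ ∧ ∃ k : ↥(Subgroup.normalizer (K : Set G)), (k : G) ∈ K ∧ χ k ≠ χ 1} = 1 ∧ Nat.card K = (K.subgroupOf (Subgroup.normalizer (K : Set G))).index + 1 ∧ ∃ p : ℕ, p.Prime ∧ Cfsg.IsElementaryAbelian p K) ∨ (Nat.card K = 2 ^ (Nat.card G).factorization 2 ∧ (⁅K, K⁆.subgroupOf K).index < 4 * (K.subgroupOf (Subgroup.normalizer (K : Set G))).index ^ 2) ∨ Cfsg.IsCoherent {χ : ↥(Subgroup.normalizer (K : Set G)) → ℂ | Cfsg.IsIrrCharacter ↥(Subgroup.normalizer (K : Set G)) χ ∧ ∃ k : ↥(Subgroup.normalizer (K : Set G)), (k : G) ∈ K ∧ χ k ≠ χ 1} {1}ᶜ (fun α => Cfsg.indFun (Subgroup.normalizer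 (K : Set G)) α) := by
  classical
  by_cases hcard : Nat.card K = (K.subgroupOf (Subgroup.normalizer (K : Set G))).index + 1
  · obtain ⟨h1, h2⟩ := OddOrder.exceptional_or_coherent hK1 hTI hlt hC hcard
    exact Or.inl ⟨h1, hcard, h2⟩
  rcases OddOrder.coherent_or_sylow hK1 hTI hlt hC hcard with h | ⟨p, hp, ⟨P, rfl⟩, hna, hidx⟩
  · exact Or.inr (Or.inr h)
  haveI := Fact.mk hp
  by_cases hp2 : p = 2
  · subst hp2
    refine Or.inr (Or.inl ⟨P.card_eq_multiplicity, ?_⟩)
    have he := OddOrder.one_lt_index hlt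
    obtain ⟨hge, hdvd⟩ := OddOrder.succ_le_index_commutator hK1 hlt hC
    have hkey : ⁅(P : Subgroup G), (P : Subgroup G)⁆.subgroupOf (P : Subgroup G) = commutator (P : Subgroup G) := by
      apply Subgroup.map_injective (P : Subgroup G).subtype_injective
      rw [Subgroup.map_subgroupOf_eq_of_le (Subgroup.commutator_le_self _), Subgroup.map_subtype_commutator]
    rw [hkey] at hidx ⊢
    generalize ((P : Subgroup G).subgroupOf (Subgroup.normalizer ((P : Subgroup G) : Set G))).index = e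
      at he hge hdvd hidx ⊢
    obtain ⟨c, hc⟩ := IsPGroup.iff_card.1 P.isPGroup'
    obtain ⟨i, -, hi⟩ := (Nat.dvd_prime_pow hp).1 (hc ▸ Subgroup.index_dvd_card (commutator (P : Subgroup G)))
    rw [hi] at hge hdvd hidx ⊢
    rcases i with _ | i
    · simp at hge; omega
    have h2 : 2 ∣ 2 ^ (i + 1) := dvd_pow_self 2 (Nat.succ_ne_zero i)
    by_contra hlt4
    push Not at hlt4
    rcases Nat.lt_or_ge (4 * e ^ 2) (2 ^ (i + 1)) with h | h
    · have : 2 ^ (i + 1) = 4 * e ^ 2 + 1 := by omega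
      omega
    · have heq : 2 ^ (i + 1) = 4 * e ^ 2 := by omega
      rw [heq] at hdvd
      have hd : e ∣ 4 * e ^ 2 := dvd_mul_of_dvd_right (dvd_pow_self e two_ne_zero) 4
      have hpos : 0 < e ^ 2 := pow_pos (by omega) 2
      have h1 := Nat.dvd_sub hd hdvd
      rw [show 4 * e ^ 2 - (4 * e ^ 2 - 1) = 1 by omega, Nat.dvd_one] at h1
      omega
  · exact Or.inr (Or.inr (OddOrder.isCoherent_sylow_ti p hp2 P hna hTI hlt hC))

end Cfsg.Agent.S1534
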