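import Cfsg.Statements.S1536
import Cfsg.Agent.Lib.Char.FixedIrr
import Cfsg.Agent.Lib.Coprime.Basic

set_option autoImplicit false
open Cfsg

namespace Cfsg.Agent.S1536

/-- An element of order prime to `|H|` fixing a class of `H` fixes one of its members. -/
theorem exists_fixed_in_class {M : Type*} [Group M] [Finite M] (H : Subgroup M) [H.Normal] (x : M)
    (hcop : (orderOf x).Coprime (Nat.card H)) (a : H)
    (hconj : IsConj a (MulAut.conjNormal x a)) :
    ∃ b : H, IsConj a b ∧ MulAut.conjNormal x b = b := by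
  letI : MulAction M H := MulAction.compHom H (MulAut.conjNormal (H := H))
  have hsmul : ∀ (g : M) (b : H), g • b = MulAut.conjNormal g b := fun _ _ => rfl
  have hle : Subgroup.zpowers x ≤ MulAction.stabilizer M a ⊔ H := by
    rw [Subgroup.zpowers_le]
    obtain ⟨k, hk⟩ := isConj_iff.1 hconj
    have h1 : (k : M)⁻¹ * x ∈ MulAction.stabilizer M a := by
      rw [MulAction.mem_stabilizer_iff, hsmul, map_mul, MulAut.mul_apply, ← hk]
      exact Subtype.ext (by simp [mul_assoc])
    have : x = (k : M) * ((k : M)⁻¹ * x) := by group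
    rw [this]
    exact mul_mem (Subgroup.mem_sup_right k.2) (Subgroup.mem_sup_left h1)
  obtain ⟨k, hk, hfix⟩ := Cfsg.Agent.Coprime.exists_fixed_point (A := Subgroup.zpowers x) (K := H)
    (fun y _ => Subgroup.le_normalizer_of_normal (Subgroup.mem_top y)) (by rwa [Nat.card_zpowers])
    (Or.inl (isSolvable_of_comm fun p q => Subtype.ext (by
      obtain ⟨i, hi⟩ := Subgroup.mem_zpowers_iff.1 p.2
      obtain ⟨j, hj⟩ := Subgroup.mem_zpowers_iff.1 q.2
      show (p : M) * q = q * p
      rw [← hi, ← hj, ← zpow_add, ← zpow_add, add_comm])))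
    a (fun g hg => by
      obtain ⟨n, hn, s, hs, rfl⟩ :=
        (Cfsg.Agent.Coprime.mem_sup_iff_of_le_normalizer'
          (fun y _ => Subgroup.le_normalizer_of_normal (Subgroup.mem_top y))).1 (hle hg)
      exact ⟨n, hn, by rw [mul_smul, MulAction.mem_stabilizer_iff.1 hs]⟩)
  refine ⟨k • a, isConj_iff.2 ⟨⟨k, hk⟩, Subtype.ext ?_⟩, ?_⟩
  · simp [hsmul]
  · exact hfix x (Subgroup.mem_zpowers x)

/-- Let H be a normal subgroup of the finite group M whose order is coprime to its index. For x ∈ M: some non-principal irreducible character of H is unchanged under h ↦ θ(x h x⁻¹) if and only if some non-identity element of H commutes with x. -/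
theorem result {M : Type*} [Group M] [Finite M] (H : Subgroup M) [hN : H.Normal] (hHall : Nat.Coprime (Nat.card H) H.index) (x : M) : (∃ θ : H → ℂ, Cfsg.IsIrrCharacter H θ ∧ θ ≠ (fun _ => 1) ∧ (fun h : H => θ ⟨x * h * x⁻¹, hN.conj_mem h h.2 x⟩) = θ) ↔ ∃ h ∈ H, h ≠ 1 ∧ x * h = h * x := by
  classical
  set α : MulAut H := MulAut.conjNormal x with hα
  have hT : (∃ θ : H → ℂ, Cfsg.IsIrrCharacter H θ ∧ θ ≠ (fun _ => 1) ∧
      (fun h : H => θ ⟨x * h * x⁻¹, hN.conj_mem h h.2 x⟩) = θ) ↔
      ∃ χ : IrrCharacter H, χ ≠ Cfsg.Agent.Char.trivialChar H ∧ (fun h => χ.1 (α h)) = χ.1 := by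
    have e : ∀ h : H, (⟨x * h * x⁻¹, hN.conj_mem h h.2 x⟩ : H) = α h := fun h => Subtype.ext (by simp [hα])
    constructor
    · rintro ⟨θ, h1, h2, h3⟩
      exact ⟨⟨θ, h1⟩, fun e' => h2 (congrArg Subtype.val e'), by simpa only [e] using h3⟩
    · rintro ⟨χ, h2, h3⟩
      exact ⟨χ.1, χ.2, fun e' => h2 (Subtype.ext e'), by simpa only [e] using h3⟩
  rw [hT, Cfsg.Agent.Char.exists_fixed_irr_iff]
  constructor
  · rintro ⟨a, ha, hconj⟩
    by_cases hy : x ^ H.index = 1
    · have hcop : (orderOf x).Coprime (Nat.card H) :=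
        (Nat.Coprime.coprime_dvd_right (orderOf_dvd_of_pow_eq_one hy) hHall).symm
      obtain ⟨b, hb, hfix⟩ := exists_fixed_in_class H x hcop a hconj
      refine ⟨b, b.2, fun h1 => ha ?_, ?_⟩
      · obtain rfl : b = 1 := Subtype.ext h1
        exact isConj_one_left.1 hb
      · have := congrArg Subtype.val hfix
        simp only [MulAut.conjNormal_apply] at this
        calc x * b = x * b * x⁻¹ * x := by group
          _ = b * x := by rw [this]
    · exact ⟨x ^ H.index, Subgroup.pow_index_mem H x, hy, ((Commute.refl x).pow_right _).eq⟩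
  · rintro ⟨h, hh, hne, hcomm⟩
    refine ⟨⟨h, hh⟩, fun e => hne (congrArg Subtype.val e), ?_⟩
    have : α ⟨h, hh⟩ = ⟨h, hh⟩ := Subtype.ext (by simp [hα, hcomm])
    rw [this]

end Cfsg.Agent.S1536
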