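import Cfsg.Statements.S1546
import Mathlib

set_option autoImplicit false
open Cfsg

namespace Cfsg.Agent.S1546

theorem div_eq_sum (p q : ℕ) (hp : 1 < p) :
    (p ^ q - 1) / (p - 1) = ∑ i ∈ Finset.range q, p ^ i :=
  (Nat.geomSum_eq hp q).symm

/-- A prime divisor of `1 + p + ⋯ + p^(q-1)` is `q` or is congruent to `1` modulo `q`. -/
theorem prime_dvd_sum (p q r : ℕ) (hq : q.Prime) (hr : r.Prime)
    (h : r ∣ ∑ i ∈ Finset.range q, p ^ i) : (r = q ∧ p % r = 1) ∨ r % q = 1 := by
  haveI : Fact r.Prime := ⟨hr⟩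
  have h0 : ∑ i ∈ Finset.range q, (p : ZMod r) ^ i = 0 := by
    have := (ZMod.natCast_eq_zero_iff _ r).2 h
    simpa using this
  have hpow : (p : ZMod r) ^ q = 1 := by
    have := geom_sum_mul (p : ZMod r) q
    rw [h0, zero_mul] at this
    exact (sub_eq_zero.1 this.symm)
  by_cases h1 : (p : ZMod r) = 1
  · left
    rw [h1] at h0
    simp only [one_pow, Finset.sum_const, Finset.card_range, nsmul_eq_mul, mul_one] at h0
    have hrq : r = q := (Nat.prime_dvd_prime_iff_eq hr hq).1 ((ZMod.natCast_eq_zero_iff q r).1 h0)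
    refine ⟨hrq, ?_⟩
    have := (ZMod.natCast_eq_natCast_iff' p 1 r).1 (by simpa using h1)
    rw [this, Nat.mod_eq_of_lt hr.one_lt]
  · right
    haveI : Fact q.Prime := ⟨hq⟩
    have hord : orderOf (p : ZMod r) = q := orderOf_eq_prime hpow h1
    have hp0 : (p : ZMod r) ≠ 0 := fun e => by
      rw [e, zero_pow hq.ne_zero] at hpow
      exact zero_ne_one hpow
    have hdvd : q ∣ r - 1 := hord ▸ orderOf_dvd_of_pow_eq_one (ZMod.pow_card_sub_one_eq_one hp0)
    have h2 : r % q = 1 % q := ((Nat.modEq_iff_dvd' hr.one_lt.le).2 hdvd).symm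
    rw [h2, Nat.mod_eq_of_lt hq.one_lt]

/-- A number all of whose prime factors are `1` modulo `q` is `1` modulo `q`. -/
theorem mod_one_of_primes (q : ℕ) (hq : 1 < q) : ∀ x : ℕ, x ≠ 0 →
    (∀ r : ℕ, r.Prime → r ∣ x → r % q = 1) → x % q = 1 := by
  intro x
  induction x using Nat.recOnMul with
  | zero => simp
  | one => intro _ _; exact Nat.mod_eq_of_lt hq
  | prime r hr => intro _ h; exact h r hr dvd_rfl
  | mul a b ha hb =>
    intro hab h
    rw [Nat.mul_mod, ha (left_ne_zero_of_mul hab) (fun r hr hd => h r hr (hd.mul_right b)),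
      hb (right_ne_zero_of_mul hab) (fun r hr hd => h r hr (hd.mul_left a)), one_mul, Nat.mod_eq_of_lt hq]

/-- Let p and q be odd primes and N = (p ^ q − 1) / (p − 1) = 1 + p + ⋯ + p^(q−1). Then N is odd; if p ≡ 1 (mod q) then q ∣ N; and if p is not ≡ 1 (mod q) then N is coprime to p − 1 and every divisor of N is ≡ 1 (mod q). -/
theorem result (p q : ℕ) (hp : p.Prime) (hq : q.Prime) (hp2 : p ≠ 2) (hq2 : q ≠ 2) : Odd ((p ^ q - 1) / (p - 1)) ∧ (p % q = 1 → q ∣ (p ^ q - 1) / (p - 1)) ∧ (p % q ≠ 1 → Nat.Coprime ((p ^ q - 1) / (p - 1)) (p - 1) ∧ ∀ x : ℕ, x ∣ (p ^ q - 1) / (p - 1) → x % q = 1) := by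
  rw [div_eq_sum p q hp.one_lt]
  refine ⟨?_, ?_, ?_⟩
  · rw [Finset.odd_sum_iff_odd_card_odd (fun i => p ^ i)]
    have hodd : ∀ i : ℕ, Odd (p ^ i) := fun i => (hp.odd_of_ne_two hp2).pow
    rw [Finset.filter_true_of_mem (fun i _ => hodd i), Finset.card_range]
    exact hq.odd_of_ne_two hq2
  · intro h1
    rw [← ZMod.natCast_eq_zero_iff]
    have hp1 : (p : ZMod q) = 1 := by
      rw [← ZMod.natCast_mod, h1, Nat.cast_one]
    simp [hp1]
  · intro hne
    have hgood : ∀ r : ℕ, r.Prime → r ∣ ∑ i ∈ Finset.range q, p ^ i → r % q = 1 := by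
      intro r hr hd
      rcases prime_dvd_sum p q r hq hr hd with ⟨hrq, hpm⟩ | h
      · exact absurd (hrq ▸ hpm) hne
      · exact h
    refine ⟨?_, ?_⟩
    · refine Nat.coprime_of_dvd fun r hr hd hd' => ?_
      rcases prime_dvd_sum p q r hq hr hd with ⟨hrq, hpm⟩ | h
      · exact hne (hrq ▸ hpm)
      · haveI : Fact r.Prime := ⟨hr⟩
        have hp1 : (p : ZMod r) = 1 := by
          have h0 := (ZMod.natCast_eq_zero_iff _ r).2 hd'
          rw [Nat.cast_sub hp.one_lt.le, Nat.cast_one, sub_eq_zero] at h0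
          exact h0
        have h0 := (ZMod.natCast_eq_zero_iff _ r).2 hd
        simp only [Nat.cast_sum, Nat.cast_pow, hp1, one_pow, Finset.sum_const, Finset.card_range,
          nsmul_eq_mul, mul_one] at h0
        have hrq : r = q := (Nat.prime_dvd_prime_iff_eq hr hq).1 ((ZMod.natCast_eq_zero_iff q r).1 h0)
        rw [hrq, Nat.mod_self] at h
        exact zero_ne_one h
    · intro x hx
      refine mod_one_of_primes q hq.one_lt x ?_ (fun r hr hd => hgood r hr (hd.trans hx))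
      rintro rfl
      have hsum := Nat.eq_zero_of_zero_dvd hx
      have hpos : 0 < ∑ i ∈ Finset.range q, p ^ i :=
        Finset.sum_pos (fun i _ => pow_pos hp.pos i) (Finset.nonempty_range_iff.2 hq.ne_zero)
      omega

end Cfsg.Agent.S1546
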