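import Cfsg.Statements.S1551
import Cfsg.Agent.Lib.Mathieu.Stab.SextGroup

set_option autoImplicit false
set_option maxHeartbeats 300000
open scoped Pointwise
open Cfsg
open Cfsg.Agent.Mathieu

namespace Cfsg.Agent.S1551

/-- Structure of a sextet stabiliser: it induces every permutation of the six tetrads, the subgroup fixing each tetrad setwise has order 192, and there is a normal subgroup of order 64 consisting of elements squaring to the identity. -/
theorem result (S : Finset (Finset Cfsg.GolayPt)) (hS : S ∈ Cfsg.sextets) : (∀ e : Equiv.Perm ↥S, ∃ g ∈ MulAction.stabilizer Cfsg.M24 S, ∀ t : ↥S, (g : Equiv.Perm Cfsg.GolayPt) • (t : Finset Cfsg.GolayPt) = ((e t : ↥S) : Finset Cfsg.GolayPt)) ∧ Nat.card {g : ↥(MulAction.stabilizer Cfsg.M24 S) // ∀ t ∈ S, ((g : Cfsg.M24) : Equiv.Perm Cfsg.GolayPt) • t = t} = 192 ∧ ∃ N : Subgroup ↥(MulAction.stabilizer Cfsg.M24 S), N.Normal ∧ Nat.card N = 64 ∧ ∀ x ∈ N, x * x = 1 := by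
  obtain ⟨k, hk, hkS⟩ := exists_of_orbit_eq sext_cover.1 hS
  have hswap : Swappable S := hkS ▸ sext_swappable.smul hk
  have horb : MulAction.orbit M24 S = sextets :=
    (MulAction.orbit_eq_iff.2
      (show S ∈ MulAction.orbit M24 (famPts sextBase) from ⟨⟨k, hk⟩, hkS⟩)).trans sext_cover.1
  refine ⟨fun e => hswap.induces e, ?_, ?_⟩
  · have h1 := hswap.card_famFix
    have h2 := card_stabilizer_of_orbit horb
    rw [sextets_ncard] at h2
    rw [hS.1, show Nat.factorial 6 = 720 by decide +kernel] at h1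
    rw [Nat.card_congr (famFixEquiv S)]
    omega
  · subst hkS
    let ψ : MulAction.stabilizer M24 (famPts sextBase) ≃*
        MulAction.stabilizer M24 (k • famPts sextBase) := (stabShift hk _).symm
    refine ⟨sextNormal.map ψ.toMonoidHom, sextNormal_normal.map _ ψ.surjective, ?_, ?_⟩
    · rw [← card_sextNormal]
      exact (Nat.card_congr (sextNormal.equivMapOfInjective _ ψ.injective).toEquiv).symm
    · rintro _ ⟨x, hx, rfl⟩
      rw [← map_mul, sq_sextNormal x hx, map_one]

end Cfsg.Agent.S1551
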