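import Cfsg.Statements.S1552
import Cfsg.Agent.Lib.Mathieu.Stab.Invariants

set_option autoImplicit false
open scoped Pointwise
open Cfsg
open Cfsg.Agent.Mathieu

namespace Cfsg.Agent.S1552

/-- A sextet stabiliser has four orbits on the 1771 sextets, of sizes 1, 90, 240, 1440; and the stabiliser is a maximal proper subgroup. -/
theorem result (S : Finset (Finset Cfsg.GolayPt)) (hS : S ∈ Cfsg.sextets) : ∃ X₁ ∈ Cfsg.sextets, ∃ X₂ ∈ Cfsg.sextets, ∃ X₃ ∈ Cfsg.sextets, (MulAction.orbit ↥(MulAction.stabilizer Cfsg.M24 S) X₁).ncard = 90 ∧ (MulAction.orbit ↥(MulAction.stabilizer Cfsg.M24 S) X₂).ncard = 240 ∧ (MulAction.orbit ↥(MulAction.stabilizer Cfsg.M24 S) X₃).ncard = 1440 ∧ Cfsg.sextets = {S} ∪ MulAction.orbit ↥(MulAction.stabilizer Cfsg.M24 S) X₁ ∪ MulAction.orbit ↥(MulAction.stabilizer Cfsg.M24 S) X₂ ∪ MulAction.orbit ↥(MulAction.stabilizer Cfsg.M24 S) X₃ ∧ IsCoatom (MulAction.stabilizer Cfsg.M24 S) :=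 by
  obtain ⟨k, -, -, hS'⟩ := sext_separated.at hS
  have hlen : sextParts.length = 3 := by decide +kernel
  have hmem : ∀ i, ∃ X ∈ sextets,
      MulAction.orbit (MulAction.stabilizer M24 S) X = k • piece famKind sextParts i := fun i => by
    obtain ⟨X, hX⟩ := hS'.cover.nonempty i
    have hX' := hX
    rw [← hS'.fiber i] at hX'
    exact ⟨X, hX'.1, hS'.orbit_eq i hX⟩
  obtain ⟨X₁, h₁, e₁⟩ := hmem ⟨0, by omega⟩
  obtain ⟨X₂, h₂, e₂⟩ := hmem ⟨1, by omega⟩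
  obtain ⟨X₃, h₃, e₃⟩ := hmem ⟨2, by omega⟩
  have hsz := ncard_smul_piece sext_check (L := [90, 240, 1440]) (by decide +kernel) k
  refine ⟨X₁, h₁, X₂, h₂, X₃, h₃, by rw [e₁, hsz]; rfl, by rw [e₂, hsz]; rfl, by rw [e₃, hsz]; rfl,
    ?_, isCoatom_of_cert sext_check (L := [90, 240, 1440]) (by decide +kernel) (by decide +kernel)
      sext_cover sextets_ncard (by decide +kernel) hS⟩
  rw [e₁, e₂, e₃]
  ext y
  simp only [← hS'.orbit, hS'.cover.mem_orbit, Set.mem_union, Set.mem_singleton_iff, or_assoc]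
  refine or_congr_right ⟨fun ⟨i, hi⟩ => ?_, ?_⟩
  · rcases i with ⟨_ | _ | _ | n, hn⟩
    exacts [Or.inl hi, Or.inr (Or.inl hi), Or.inr (Or.inr hi), by omega]
  · rintro (h | h | h) <;> exact ⟨_, h⟩

end Cfsg.Agent.S1552
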