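import Cfsg.Statements.S1553
import Cfsg.Agent.Lib.Mathieu.Stab.OctadGroup

set_option autoImplicit false
open scoped Pointwise
open Cfsg
open Cfsg.Agent.Mathieu

namespace Cfsg.Agent.S1553

/-- The stabiliser of an octad in the group of the length-24 code induces on the octad exactly its alternating group. -/
theorem result (o : Finset Cfsg.GolayPt) (ho : o ∈ Cfsg.octads) : {e : Equiv.Perm ↥o | ∃ g : Equiv.Perm Cfsg.GolayPt, g ∈ Cfsg.M24 ∧ ∃ h : (∀ x, g x ∈ o ↔ x ∈ o), g.subtypePerm h = e} = (alternatingGroup ↥o : Set (Equiv.Perm ↥o)) := by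
  obtain ⟨p, hp⟩ : (oᶜ : Finset GolayPt).Nonempty := Finset.card_pos.1 (by
    rw [Finset.card_compl, octad_card ho, ← Finset.card_univ, card_univ_pts]; norm_num)
  rw [Finset.mem_compl] at hp
  rw [← compToPerm_range ho hp]
  ext e
  constructor
  · rintro ⟨g, hg, h, rfl⟩
    have hgo : g • o = o := Finset.eq_of_subset_of_card_le (fun x hx => by
      obtain ⟨y, hy, rfl⟩ := Finset.mem_smul_finset.1 hx
      exact (h y).2 hy) (card_smul_pts g o).ge
    obtain ⟨τ, hτ, hτg⟩ := exists_factor ho hp hg hgo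
    refine ⟨⟨_, hτg⟩, Equiv.ext fun x => Subtype.ext ?_⟩
    show τ⁻¹ (g (x : GolayPt)) = g x
    exact (mem_octFix.1 (inv_mem hτ)).2 _ ((h x).2 x.2)
  · rintro ⟨σ, rfl⟩
    exact ⟨σ, (mem_octComp.1 σ.2).1, fun x => apply_mem_iff_of_fixed (mem_octComp.1 σ.2).2.1 x, rfl⟩

end Cfsg.Agent.S1553
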