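import Cfsg.Statements.S1554
import Cfsg.Agent.Lib.Mathieu.Stab.OctadGroup

set_option autoImplicit false
open scoped Pointwise
open Cfsg
open Cfsg.Agent.Mathieu

namespace Cfsg.Agent.S1554

/-- An octad stabiliser is a split extension: the joint stabiliser of the octad and a point outside it is a complement to the pointwise stabiliser of the octad, and is isomorphic to the alternating group of degree 8. -/
theorem result (o : Finset Cfsg.GolayPt) (ho : o ∈ Cfsg.octads) (p : Cfsg.GolayPt) (hp : p ∉ o) : (Cfsg.M24 ⊓ fixingSubgroup (Equiv.Perm Cfsg.GolayPt) (o : Set Cfsg.GolayPt)) ⊓ (Cfsg.M24 ⊓ MulAction.stabilizer (Equiv.Perm Cfsg.GolayPt) o ⊓ MulAction.stabilizer (Equiv.Perm Cfsg.GolayPt) p) = ⊥ ∧ (Cfsg.M24 ⊓ fixingSubgroup (Equiv.Perm Cfsg.GolayPt) (o : Set Cfsg.GolayPt)) ⊔ (Cfsg.M24 ⊓ MulAction.stabilizer (Equiv.Perm Cfsg.GolayPt) o ⊓ MulAction.stabilizer (Equiv.Perm Cfsg.GolayPt) p) = (Cfsg.M24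 ⊓ MulAction.stabilizer (Equiv.Perm Cfsg.GolayPt) o) ∧ Nonempty (↥(Cfsg.M24 ⊓ MulAction.stabilizer (Equiv.Perm Cfsg.GolayPt) o ⊓ MulAction.stabilizer (Equiv.Perm Cfsg.GolayPt) p) ≃* alternatingGroup (Fin 8)) := by
  refine ⟨?_, le_antisymm (sup_le (fun σ hσ => ⟨hσ.1, octFix_le_stab hσ⟩) inf_le_left) ?_,
    octComp_equiv ho hp⟩
  · rw [Subgroup.eq_bot_iff_forall]
    rintro σ ⟨h1, h2⟩
    exact eq_one_of_octFix ho h1 hp (mem_octComp.1 h2).2.2
  · rintro σ ⟨hσ, hσo⟩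
    obtain ⟨τ, hτ, hτσ⟩ := exists_factor ho hp hσ hσo
    rw [← mul_inv_cancel_left τ σ]
    exact mul_mem (Subgroup.mem_sup_left hτ) (Subgroup.mem_sup_right hτσ)

end Cfsg.Agent.S1554
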