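import Cfsg.Statements.S1555
import Cfsg.Agent.Lib.Mathieu.Stab.Invariants

set_option autoImplicit false
open scoped Pointwise
open Cfsg
open Cfsg.Agent.Mathieu

namespace Cfsg.Agent.S1555

/-- Bottom row of the Leech triangle: an octad is met in a prescribed pair of its points by exactly 16 octads and in a prescribed 4-subset by exactly 4 octads. -/
theorem result (o : Finset Cfsg.GolayPt) (ho : o ∈ Cfsg.octads) (s : Finset Cfsg.GolayPt) (hs : s ⊆ o) : (s.card = 2 → {o' : Finset Cfsg.GolayPt | o' ∈ Cfsg.octads ∧ o ∩ o' = s}.ncard = 16) ∧ (s.card = 4 → {o' : Finset Cfsg.GolayPt | o' ∈ Cfsg.octads ∧ o ∩ o' = s}.ncard = 4) := by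
  obtain ⟨g, hg, rfl⟩ := exists_of_orbit_eq oct_cover.1 ho
  obtain ⟨m, hm, hs'⟩ := exists_mask (g⁻¹ • s)
  have hsub : ptsOf m ⊆ ptsOf octBase := by
    rw [hs', ← inv_smul_smul g (ptsOf octBase)]
    exact Finset.smul_finset_subset_smul_finset hs
  have hand : m &&& octBase = m := ptsOf_inj (Nat.lt_of_le_of_lt Nat.and_le_left hm) hm
    (by rw [ptsOf_and, Finset.inter_eq_left.2 hsub])
  have hc : s.card = popc 24 m := by rw [← card_ptsOf, hs', card_smul_pts]
  have hcount : {o' : Finset GolayPt | o' ∈ octads ∧ g • ptsOf octBase ∩ o' = s}.ncard =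
      ((maskList 8).filter fun a => octBase &&& a == m).length := by
    rw [ncard_transport g (smul_mem_iff_of_inv (fun _ h _ => M24_smul_octad h) hg)
      (fun y => ptsOf octBase ∩ y = ptsOf m) _ (fun y => by
        rw [← smul_inter_pts, hs', eq_inv_smul_iff])]
    exact ncard_weight_filter 8 _ _ fun a _ => by
      rw [← ptsOf_and, beq_iff_eq]
      exact ⟨fun h => by rw [h], fun h =>
        ptsOf_inj (Nat.lt_of_le_of_lt Nat.and_le_left (by decide +kernel)) hm h⟩
  rw [hcount, hc]
  have hchk : ((subMasks 24 octBase).all fun m =>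
      (popc 24 m != 2 || ((maskList 8).filter fun a => octBase &&& a == m).length == 16) &&
      (popc 24 m != 4 || ((maskList 8).filter fun a => octBase &&& a == m).length == 4)) = true := by
    decide +kernel
  have h := List.all_eq_true.1 hchk m (mem_subMasks 24 _ m hm hand)
  simp only [Bool.and_eq_true, Bool.or_eq_true, bne_iff_ne, beq_iff_eq] at h
  exact ⟨fun h2 => h.1.resolve_left (not_not.2 h2), fun h4 => h.2.resolve_left (not_not.2 h4)⟩

end Cfsg.Agent.S1555
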