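import Cfsg.Statements.S1558
import Cfsg.Agent.Lib.Mathieu.Stab.TrioGroup

set_option autoImplicit false
set_option maxHeartbeats 600000
open scoped Pointwise
open Cfsg
open Cfsg.Agent.Mathieu

namespace Cfsg.Agent.S1558

/-- Structure of a trio stabiliser: every permutation of the three octads is induced, and there is a normal subgroup of order 64 of elements squaring to the identity whose quotient is isomorphic to the product of GL(3, 2) with the symmetric group of degree 3. -/
theorem result (T : Finset (Finset Cfsg.GolayPt)) (hT : T ∈ Cfsg.trios) : (∀ e : Equiv.Perm ↥T, ∃ g ∈ MulAction.stabilizer Cfsg.M24 T, ∀ o : ↥T, (g : Equiv.Perm Cfsg.GolayPt) • (o : Finset Cfsg.GolayPt) = ((e o : ↥T) : Finset Cfsg.GolayPt)) ∧ ∃ (N : Subgroup ↥(MulAction.stabilizer Cfsg.M24 T)) (_ : N.Normal), Nat.card N = 64 ∧ (∀ x ∈ N, x * x = 1) ∧ Nonempty (↥(MulAction.stabilizer Cfsg.M24 T) ⧸ N ≃* GL (Fin 3) (ZMod 2) × Equiv.Perm (Fin 3)) := by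
  obtain ⟨k, hk, hkT⟩ := exists_of_orbit_eq trio_cover.1 hT
  have hswap : Swappable T := hkT ▸
    (swappable_of_swapsOK (A := trioBase) (sw := trioSwaps.map fun s => s.2.2) (by decide +kernel)
      (by decide +kernel)).smul hk
  refine ⟨fun e => hswap.induces e, ?_⟩
  subst hkT
  let ψ : MulAction.stabilizer M24 (famPts trioBase) ≃*
      MulAction.stabilizer M24 (k • famPts trioBase) := (stabShift hk _).symm
  have hN : (trioHom.ker.map ψ.toMonoidHom).Normal :=
    (MonoidHom.normal_ker trioHom).map _ ψ.surjective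
  refine ⟨trioHom.ker.map ψ.toMonoidHom, hN, ?_, ?_, ?_⟩
  · rw [← card_trioHom_ker]
    exact (Nat.card_congr (trioHom.ker.equivMapOfInjective _ ψ.injective).toEquiv).symm
  · rintro _ ⟨x, hx, rfl⟩
    rw [← map_mul, trioHom_ker_sq x hx, map_one]
  · obtain ⟨q⟩ := trioHom_quotient
    exact ⟨(QuotientGroup.congr trioHom.ker (trioHom.ker.map ψ.toMonoidHom) ψ rfl).symm.trans q⟩

end Cfsg.Agent.S1558
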