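import Cfsg.Statements.S1559
import Cfsg.Agent.Lib.Mathieu.Stab.Invariants

set_option autoImplicit false
open scoped Pointwise
open Cfsg
open Cfsg.Agent.Mathieu

namespace Cfsg.Agent.S1559

/-- A trio stabiliser has five orbits on the 3795 trios, of sizes 1, 42, 56, 1008, 2688; and the stabiliser is a maximal proper subgroup. -/
theorem result (T : Finset (Finset Cfsg.GolayPt)) (hT : T ∈ Cfsg.trios) : ∃ X₁ ∈ Cfsg.trios, ∃ X₂ ∈ Cfsg.trios, ∃ X₃ ∈ Cfsg.trios, ∃ X₄ ∈ Cfsg.trios, (MulAction.orbit ↥(MulAction.stabilizer Cfsg.M24 T) X₁).ncard = 42 ∧ (MulAction.orbit ↥(MulAction.stabilizer Cfsg.M24 T) X₂).ncard = 56 ∧ (MulAction.orbit ↥(MulAction.stabilizer Cfsg.M24 T) X₃).ncard = 1008 ∧ (MulAction.orbit ↥(MulAction.stabilizer Cfsg.M24 T) X₄).ncard = 2688 ∧ Cfsg.trios = {T} ∪ MulAction.orbit ↥(MulAction.stabilizer Cfsg.M24 T) X₁ ∪ MulAction.orbit ↥(MulAction.stabilizer Cfsg.M24 T) X₂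 ∪ MulAction.orbit ↥(MulAction.stabilizer Cfsg.M24 T) X₃ ∪ MulAction.orbit ↥(MulAction.stabilizer Cfsg.M24 T) X₄ ∧ IsCoatom (MulAction.stabilizer Cfsg.M24 T) := by
  obtain ⟨k, -, -, hT'⟩ := trio_separated.at hT
  have hlen : trioParts.length = 4 := by decide +kernel
  have hmem : ∀ i, ∃ X ∈ trios,
      MulAction.orbit (MulAction.stabilizer M24 T) X = k • piece famKind trioParts i := fun i => by
    obtain ⟨X, hX⟩ := hT'.cover.nonempty i
    have hX' := hX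
    rw [← hT'.fiber i] at hX'
    exact ⟨X, hX'.1, hT'.orbit_eq i hX⟩
  obtain ⟨X₁, h₁, e₁⟩ := hmem ⟨0, by omega⟩
  obtain ⟨X₂, h₂, e₂⟩ := hmem ⟨1, by omega⟩
  obtain ⟨X₃, h₃, e₃⟩ := hmem ⟨2, by omega⟩
  obtain ⟨X₄, h₄, e₄⟩ := hmem ⟨3, by omega⟩
  have hsz := ncard_smul_piece trio_check (L := [42, 56, 1008, 2688]) (by decide +kernel) k
  refine ⟨X₁, h₁, X₂, h₂, X₃, h₃, X₄, h₄, by rw [e₁, hsz]; rfl, by rw [e₂, hsz]; rfl, by rw [e₃, hsz]; rfl,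
    by rw [e₄, hsz]; rfl,
    ?_, isCoatom_of_cert trio_check (L := [42, 56, 1008, 2688]) (by decide +kernel) (by decide +kernel)
      trio_cover trios_ncard (by decide +kernel) hT⟩
  rw [e₁, e₂, e₃, e₄]
  ext y
  simp only [← hT'.orbit, hT'.cover.mem_orbit, Set.mem_union, Set.mem_singleton_iff, or_assoc]
  refine or_congr_right ⟨fun ⟨i, hi⟩ => ?_, ?_⟩
  · rcases i with ⟨_ | _ | _ | _ | n, hn⟩
    exacts [Or.inl hi, Or.inr (Or.inl hi), Or.inr (Or.inr (Or.inl hi)), Or.inr (Or.inr (Or.inr hi)),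
      by omega]
  · rintro (h | h | h | h) <;> exact ⟨_, h⟩

end Cfsg.Agent.S1559
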