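import Cfsg.Statements.S1560
import Cfsg.Agent.Lib.Mathieu.Stab.Invariants

set_option autoImplicit false
open scoped Pointwise
open Cfsg
open Cfsg.Agent.Mathieu

namespace Cfsg.Agent.S1560

/-- Intersection numbers of dodecads: a dodecad meets every other dodecad in 0, 4, 6 or 8 points, meeting 495 of them in 4 points, 1584 in 6 points and 495 in 8 points. -/
theorem result (d : Finset Cfsg.GolayPt) (hd : d ∈ Cfsg.dodecads) : (∀ d' ∈ Cfsg.dodecads, d' ≠ d → (d ∩ d').card = 0 ∨ (d ∩ d').card = 4 ∨ (d ∩ d').card = 6 ∨ (d ∩ d').card = 8) ∧ {d' : Finset Cfsg.GolayPt | d' ∈ Cfsg.dodecads ∧ (d ∩ d').card = 4}.ncard = 495 ∧ {d' : Finset Cfsg.GolayPt | d' ∈ Cfsg.dodecads ∧ (d ∩ d').card = 6}.ncard = 1584 ∧ {d' : Finset Cfsg.GolayPt | d' ∈ Cfsg.dodecads ∧ (d ∩ d').card = 8}.ncard = 495 := by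
  obtain ⟨k, -, -, hS⟩ := dod_separated.at hd
  have hn : ∀ i : Fin dodParts.length,
      {d' : Finset GolayPt | d' ∈ dodecads ∧ (d ∩ d').card = [0, 8, 4, 6].getD i.val 0}.ncard =
        [1, 495, 495, 1584].getD i.val 0 := fun i =>
    (congrArg Set.ncard (hS.fiber i)).trans (ncard_smul_piece dod_check (by decide +kernel) k i)
  refine ⟨fun d' hd' hne => ?_, hn ⟨2, by decide +kernel⟩, hn ⟨3, by decide +kernel⟩,
    hn ⟨1, by decide +kernel⟩⟩
  rcases hS.cases hd' with ⟨h, -⟩ | ⟨i, -, h⟩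
  · exact absurd h hne
  · have hall : ∀ i : Fin dodParts.length, [0, 8, 4, 6].getD i.val 0 ∈ [0, 4, 6, 8] := by
      decide +kernel
    have := hall i
    simp only [← h, List.mem_cons, List.not_mem_nil, or_false] at this
    exact this

end Cfsg.Agent.S1560
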