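import Cfsg.Statements.S1562
import Cfsg.Agent.Lib.Mathieu.Stab.Invariants

set_option autoImplicit false
open scoped Pointwise
open Cfsg
open Cfsg.Agent.Mathieu

namespace Cfsg.Agent.S1562

/-- Orbits of a triad stabiliser on the triads disjoint from it: the 210 triads inside a common octad with it form one orbit and the remaining 1120 another. -/
theorem result (T : Finset Cfsg.GolayPt) (hT : T.card = 3) : {U : Finset Cfsg.GolayPt | U.card = 3 ∧ Disjoint T U ∧ (∃ o ∈ Cfsg.octads, T ∪ U ⊆ o)}.ncard = 210 ∧ {U : Finset Cfsg.GolayPt | U.card = 3 ∧ Disjoint T U ∧ ¬ (∃ o ∈ Cfsg.octads, T ∪ U ⊆ o)}.ncard = 1120 ∧ ∀ U U' : Finset Cfsg.GolayPt, U.card = 3 → U'.card = 3 → Disjoint T U → Disjoint T U' → ((∃ o ∈ Cfsg.octads, T ∪ U ⊆ o) ↔ (∃ o ∈ Cfsg.octads, T ∪ U' ⊆ o)) → ∃ g : Equiv.Perm Cfsg.GolayPt, g ∈ Cfsg.M24 ∧ g • T = T ∧ g • U = U' := by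
  obtain ⟨k, -, -, hS⟩ := triad_separated.at (show T ∈ kSets 3 from hT)
  have hval : ∀ U : Finset GolayPt, Disjoint T U →
      ((∃ o ∈ octads, T ∪ U ⊆ o) → triadInv T U = 1) ∧
        ((¬ ∃ o ∈ octads, T ∪ U ⊆ o) → triadInv T U = 0) := fun U hU => by
    constructor <;> intro h <;>
      simp [triadInv, InOctad, h, Finset.disjoint_iff_inter_eq_empty.1 hU]
  have hdisj : ∀ U : Finset GolayPt, triadInv T U ≤ 1 → Disjoint T U := fun U hU => by
    rw [Finset.disjoint_iff_inter_eq_empty, ← Finset.card_eq_zero]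
    unfold triadInv at hU
    omega
  have hset : ∀ (n : ℕ) (Q : Finset GolayPt → Prop), n ≤ 1 →
      (∀ U, Disjoint T U → (Q U ↔ triadInv T U = n)) →
      {U : Finset GolayPt | U.card = 3 ∧ Disjoint T U ∧ Q U} =
        {U | U ∈ kSets 3 ∧ triadInv T U = n} := by
    intro n Q hn hQ
    ext U
    exact ⟨fun ⟨h1, h2, h3⟩ => ⟨h1, (hQ U h2).1 h3⟩, fun ⟨h1, h2⟩ =>
      have hd := hdisj U (h2 ▸ hn)
      ⟨h1, hd, (hQ U hd).2 h2⟩⟩
  have hn := fun i => (congrArg Set.ncard (hS.fiber i)).trans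
    (ncard_smul_piece triad_check (L := [63, 210, 630, 1120]) (by decide +kernel) k i)
  refine ⟨?_, ?_, fun U U' hU hU' hd hd' hiff => hS.exists_map hU hU' ?_⟩
  · rw [hset 1 _ le_rfl fun U hU => ⟨(hval U hU).1, fun h => by
      by_contra hne
      rw [(hval U hU).2 hne] at h
      exact absurd h (by norm_num)⟩]
    exact hn ⟨1, by decide +kernel⟩
  · rw [hset 0 _ (Nat.zero_le 1) fun U hU => ⟨(hval U hU).2, fun h hc => by
      rw [(hval U hU).1 hc] at h
      exact absurd h (by norm_num)⟩]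
    exact hn ⟨3, by decide +kernel⟩
  · by_cases h : ∃ o ∈ octads, T ∪ U ⊆ o
    · rw [(hval U hd).1 h, (hval U' hd').1 (hiff.1 h)]
    · rw [(hval U hd).2 h, (hval U' hd').2 fun h' => h (hiff.2 h')]

end Cfsg.Agent.S1562
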