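import Cfsg.Statements.S1564
import Cfsg.Agent.Lib.Mathieu.Stab.Covers

set_option autoImplicit false
open scoped Pointwise
open Cfsg
open Cfsg.Agent.Mathieu

namespace Cfsg.Agent.S1564

/-- The stabiliser of a set of three points (setwise) is a maximal proper subgroup of the group of the length-24 code. -/
theorem result (s : Finset Cfsg.GolayPt) (hs : s.card = 3) : IsCoatom (MulAction.stabilizer Cfsg.M24 s) := by
  exact isCoatom_of_cert triad_check (L := [63, 210, 630, 1120]) (by decide +kernel)
    (by decide +kernel) triad_cover (kSets_ncard 3) (by decide +kernel) (show s ∈ kSets 3 from hs)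

end Cfsg.Agent.S1564
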