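import Cfsg.Statements.S1568
import Cfsg.Agent.Lib.Leech.Shells

set_option autoImplicit false
open Cfsg

namespace Cfsg.Agent.S1568

/-- Shape census of the lattice vectors of sum of squares 48 (customary norm 6): the four families (2^12, 0^12), (±3^3, ±1^21), (±4, ±2^8, 0^15) and (±5, ±1^23) have 5275648, 8290304, 3108864 and 98304 members. -/
theorem result : {x : Cfsg.GolayPt → ℤ | x ∈ Cfsg.leechLattice ∧ Cfsg.sqNorm x = 48 ∧ ∀ i, x i = 0 ∨ x i = 2 ∨ x i = -2}.ncard = 5275648 ∧ {x : Cfsg.GolayPt → ℤ | x ∈ Cfsg.leechLattice ∧ Cfsg.sqNorm x = 48 ∧ ∃ i j k, i ≠ j ∧ j ≠ k ∧ i ≠ k ∧ |x i| = 3 ∧ |x j| = 3 ∧ |x k| = 3}.ncard = 8290304 ∧ {x : Cfsg.GolayPt → ℤ | x ∈ Cfsg.leechLattice ∧ Cfsg.sqNorm x = 48 ∧ ∃ i, |x i| = 4}.ncard = 3108864 ∧ {x : Cfsg.GolayPt → ℤ | x ∈ Cfsg.leechLattice ∧ Cfsg.sqNorm x = 48 ∧ ∃ i, |x i| = 5}.ncard = 98304 := by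
  have hv := Cfsg.Agent.Leech.shell_values
  simp only [List.cons.injEq] at hv
  obtain ⟨-, -, hev, hod, -, -, h2, h4, h3, h5, -⟩ := hv
  set E := Cfsg.Agent.Leech.evenShell 48 with hE
  set O := Cfsg.Agent.Leech.oddShell 48 with hO
  have hEc : E.ncard = 8384512 := (Cfsg.Agent.Leech.ncard_evenShell (by norm_num)).trans hev
  have hOc : O.ncard = 8388608 := (Cfsg.Agent.Leech.ncard_oddShell (by norm_num)).trans hod
  have hfE : E.Finite := (Cfsg.Agent.Leech.shell_finite (N := 48) (by norm_num)).subset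
    fun x hx => ⟨hx.1, hx.2.2⟩
  have hfO : O.Finite := (Cfsg.Agent.Leech.shell_finite (N := 48) (by norm_num)).subset
    fun x hx => ⟨hx.1, hx.2.2⟩
  set S := fun (a b : List ℤ) => {x : Cfsg.GolayPt → ℤ |
    Cfsg.Agent.Leech.InL x ∧ (∀ i, x i ∈ a ∨ x i ∈ b) ∧ Cfsg.sqNorm x = ((48 : ℕ) : ℤ)} with hS
  have hS2 : (S [-2, 2] [0]).ncard = 5275648 := (Cfsg.Agent.Leech.ncard_shell 0 (by norm_num) _ _
    (by decide) (by decide) (by decide) (by decide) (by norm_num)).trans h2
  have hS4 : (S [-2, 2] [-4, 0, 4]).ncard = 8384512 := (Cfsg.Agent.Leech.ncard_shell 0 (by norm_num) _ _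
    (by decide) (by decide) (by decide) (by decide) (by norm_num)).trans h4
  have hS3 : (S [-1, 3] [-3, 1]).ncard = 8290304 := (Cfsg.Agent.Leech.ncard_shell 1 (by norm_num) _ _
    (by decide) (by decide) (by decide) (by decide) (by norm_num)).trans h3
  have hS5 : (S [-5, -1, 3] [-3, 1, 5]).ncard = 8388608 := (Cfsg.Agent.Leech.ncard_shell 1 (by norm_num) _ _
    (by decide) (by decide) (by decide) (by decide) (by norm_num)).trans h5
  have sub2 : S [-2, 2] [0] ⊆ E := fun x hx => ⟨hx.1, fun i => by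
    rcases hx.2.1 i with h | h <;> simp only [List.mem_cons, List.not_mem_nil, or_false] at h ⊢ <;>
      simp [Cfsg.Agent.Leech.evA, Cfsg.Agent.Leech.evB] <;> omega, hx.2.2⟩
  have sub3 : S [-1, 3] [-3, 1] ⊆ O := fun x hx => ⟨hx.1, fun i => by
    rcases hx.2.1 i with h | h <;> simp only [List.mem_cons, List.not_mem_nil, or_false] at h ⊢ <;>
      simp [Cfsg.Agent.Leech.odA, Cfsg.Agent.Leech.odB] <;> omega, hx.2.2⟩
  have eqE : S [-2, 2] [-4, 0, 4] = E := Set.eq_of_subset_of_ncard_le (fun x hx => ⟨hx.1, fun i => by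
    rcases hx.2.1 i with h | h <;> simp only [List.mem_cons, List.not_mem_nil, or_false] at h ⊢ <;>
      simp [Cfsg.Agent.Leech.evA, Cfsg.Agent.Leech.evB] <;> omega, hx.2.2⟩) (by omega) hfE
  have eqO : S [-5, -1, 3] [-3, 1, 5] = O := Set.eq_of_subset_of_ncard_le (fun x hx => ⟨hx.1, fun i => by
    rcases hx.2.1 i with h | h <;> simp only [List.mem_cons, List.not_mem_nil, or_false] at h ⊢ <;>
      simp [Cfsg.Agent.Leech.odA, Cfsg.Agent.Leech.odB] <;> omega, hx.2.2⟩) (by omega) hfO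
  have vals : ∀ (x : Cfsg.GolayPt → ℤ), x ∈ Cfsg.leechLattice → Cfsg.sqNorm x = 48 →
      (x ∈ E ∧ (∀ i, x i = -2 ∨ x i = 2 ∨ x i = -4 ∨ x i = 0 ∨ x i = 4)) ∨
      (x ∈ O ∧ (∀ i, x i = -5 ∨ x i = -1 ∨ x i = 3 ∨ x i = -3 ∨ x i = 1 ∨ x i = 5)) := by
    intro x hx hn
    rcases Cfsg.Agent.Leech.shell_mem (Cfsg.Agent.Leech.mem_leechLattice.1 hx) (N := 48) (by norm_num)
      (by simpa using hn) with h | h
    · refine Or.inl ⟨h.2, fun i => ?_⟩
      have h' : x ∈ S [-2, 2] [-4, 0, 4] := eqE ▸ h.2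
      rcases h'.2.1 i with h | h <;> simp only [List.mem_cons, List.not_mem_nil, or_false] at h <;> omega
    · refine Or.inr ⟨h.2, fun i => ?_⟩
      have h' : x ∈ S [-5, -1, 3] [-3, 1, 5] := eqO ▸ h.2
      rcases h'.2.1 i with h | h <;> simp only [List.mem_cons, List.not_mem_nil, or_false] at h <;> omega
  have mem48 : ∀ {x : Cfsg.GolayPt → ℤ}, x ∈ E ∨ x ∈ O → x ∈ Cfsg.leechLattice ∧ Cfsg.sqNorm x = 48 := by
    rintro x (h | h) <;> exact ⟨Cfsg.Agent.Leech.mem_leechLattice.2 h.1, by simpa using h.2.2⟩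
  refine ⟨?_, ?_, ?_, ?_⟩
  · rw [← hS2]
    refine congrArg Set.ncard (Set.ext fun x => ?_)
    constructor
    · rintro ⟨hx, hn, hi⟩
      refine ⟨Cfsg.Agent.Leech.mem_leechLattice.1 hx, fun i => ?_, by simpa using hn⟩
      rcases hi i with h | h | h <;> simp [h]
    · intro hx
      refine ⟨(mem48 (Or.inl (sub2 hx))).1, (mem48 (Or.inl (sub2 hx))).2, fun i => ?_⟩
      rcases hx.2.1 i with h | h <;> simp only [List.mem_cons, List.not_mem_nil, or_false] at h <;> omega
  · rw [← hS3]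
    refine congrArg Set.ncard (Set.ext fun x => ?_)
    constructor
    · rintro ⟨hx, hn, i, j, k, hij, hjk, hik, hi, hj, hk⟩
      rcases vals x hx hn with ⟨-, hv⟩ | ⟨-, hv⟩
      · exfalso; rcases hv i with h | h | h | h | h <;> rw [h] at hi <;> norm_num at hi
      refine ⟨Cfsg.Agent.Leech.mem_leechLattice.1 hx, fun l => ?_, by simpa using hn⟩
      by_cases h5' : x l = 5 ∨ x l = -5
      · exfalso
        have hl5 : |x l| = 5 := by rcases h5' with h | h <;> rw [h] <;> norm_num
        have hli : l ≠ i := by rintro rfl; omega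
        have hlj : l ≠ j := by rintro rfl; omega
        have hlk : l ≠ k := by rintro rfl; omega
        have hle : ∑ t ∈ ({l, i, j, k} : Finset Cfsg.GolayPt), x t ^ 2 ≤ Cfsg.sqNorm x :=
          Finset.sum_le_sum_of_subset_of_nonneg (Finset.subset_univ _) fun _ _ _ => sq_nonneg _
        rw [Finset.sum_insert (by simp [hli, hlj, hlk]), Finset.sum_insert (by simp [hij, hik]),
          Finset.sum_pair hjk, hn, ← sq_abs (x l), ← sq_abs (x i), ← sq_abs (x j), ← sq_abs (x k),
          hl5, hi, hj, hk] at hle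
        norm_num at hle
      · rcases hv l with h | h | h | h | h | h <;> simp [h] at h5' ⊢
    · intro hx
      obtain ⟨hL, hn⟩ := mem48 (Or.inr (sub3 hx))
      refine ⟨hL, hn, ?_⟩
      set T := Finset.univ.filter fun i => |x i| = 3 with hT
      have hsq : ∀ i, x i ^ 2 = 1 + 8 * (if |x i| = 3 then 1 else 0) := by
        intro i
        rcases hx.2.1 i with h | h <;> simp only [List.mem_cons, List.not_mem_nil, or_false] at h <;>
          rcases h with h | h <;> rw [h] <;> norm_num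
      have hT3 : T.card = 3 := by
        have := hn
        simp only [Cfsg.sqNorm, hsq, Finset.sum_add_distrib, ← Finset.mul_sum, Finset.sum_boole,
          Finset.sum_const, Finset.card_univ] at this
        rw [show Fintype.card Cfsg.GolayPt = 24 from rfl, ← hT] at this
        norm_num at this
        omega
      obtain ⟨i, j, k, hij, hik, hjk, hT'⟩ := Finset.card_eq_three.1 hT3
      have hm : ∀ l ∈ T, |x l| = 3 := fun l hl => (Finset.mem_filter.1 hl).2
      exact ⟨i, j, k, hij, hjk, hik, hm i (by simp [hT']), hm j (by simp [hT']), hm k (by simp [hT'])⟩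
  · have : {x : Cfsg.GolayPt → ℤ | x ∈ Cfsg.leechLattice ∧ Cfsg.sqNorm x = 48 ∧ ∃ i, |x i| = 4} =
        E \ S [-2, 2] [0] := by
      ext x
      constructor
      · rintro ⟨hx, hn, i, hi⟩
        rcases vals x hx hn with ⟨hxE, -⟩ | ⟨-, hv⟩
        · refine ⟨hxE, fun hc => ?_⟩
          rcases hc.2.1 i with h | h <;> simp only [List.mem_cons, List.not_mem_nil, or_false] at h
          · rcases h with h | h <;> rw [h] at hi <;> norm_num at hi
          · rw [h] at hi; norm_num at hi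
        · exfalso; rcases hv i with h | h | h | h | h | h <;> rw [h] at hi <;> norm_num at hi
      · rintro ⟨hxE, hc⟩
        obtain ⟨hL, hn⟩ := mem48 (Or.inl hxE)
        refine ⟨hL, hn, ?_⟩
        by_contra hno
        push Not at hno
        refine hc ⟨hxE.1, fun i => ?_, hxE.2.2⟩
        have h' : x ∈ S [-2, 2] [-4, 0, 4] := eqE ▸ hxE
        have := hno i
        rcases h'.2.1 i with h | h <;> simp only [List.mem_cons, List.not_mem_nil, or_false] at h
        · rcases h with h | h <;> simp [h]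
        · rcases h with h | h | h <;> simp [h] at this ⊢
    rw [this, Set.ncard_diff sub2 (hfE.subset sub2), hEc, hS2]
  · have : {x : Cfsg.GolayPt → ℤ | x ∈ Cfsg.leechLattice ∧ Cfsg.sqNorm x = 48 ∧ ∃ i, |x i| = 5} =
        O \ S [-1, 3] [-3, 1] := by
      ext x
      constructor
      · rintro ⟨hx, hn, i, hi⟩
        rcases vals x hx hn with ⟨-, hv⟩ | ⟨hxO, -⟩
        · exfalso; rcases hv i with h | h | h | h | h <;> rw [h] at hi <;> norm_num at hi
        · refine ⟨hxO, fun hc => ?_⟩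
          rcases hc.2.1 i with h | h <;> simp only [List.mem_cons, List.not_mem_nil, or_false] at h <;>
            rcases h with h | h <;> rw [h] at hi <;> norm_num at hi
      · rintro ⟨hxO, hc⟩
        obtain ⟨hL, hn⟩ := mem48 (Or.inr hxO)
        refine ⟨hL, hn, ?_⟩
        by_contra hno
        push Not at hno
        refine hc ⟨hxO.1, fun i => ?_, hxO.2.2⟩
        have h' : x ∈ S [-5, -1, 3] [-3, 1, 5] := eqO ▸ hxO
        have := hno i
        rcases h'.2.1 i with h | h <;> simp only [List.mem_cons, List.not_mem_nil, or_false] at h <;>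
          rcases h with h | h | h <;> simp [h] at this ⊢
    rw [this, Set.ncard_diff sub3 (hfO.subset sub3), hOc, hS3]

end Cfsg.Agent.S1568
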