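import Cfsg.Statements.S1569
import Cfsg.Agent.Lib.Leech.Lattice

set_option autoImplicit false
open scoped Pointwise
open Cfsg

namespace Cfsg.Agent.S1569

/-- The cross through a lattice vector of customary norm 8 has exactly 48 members. -/
theorem result (x : Cfsg.GolayPt → ℤ) (hx : x ∈ Cfsg.leechLattice) (hxn : Cfsg.sqNorm x = 64) : (Cfsg.cross x).ncard = 48 := by
  have hx' := Cfsg.Agent.Leech.mem_leechLattice.1 hx
  classical
  rw [← Cfsg.Agent.Leech.classes_count.2 x hx' hxn, ← Set.ncard_coe_finset]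
  refine congrArg Set.ncard (Set.ext fun y => ?_)
  simp only [Cfsg.cross, Finset.coe_filter, Cfsg.Agent.Leech.mem_shellFinset, Cfsg.Agent.Leech.mem_leechLattice, hxn]
  constructor
  · rintro ⟨hy, hn, z, hz, e⟩
    exact ⟨⟨hy, hn⟩, ((Cfsg.Agent.Leech.cls_eq_iff hx' hy).2 ⟨z, hz, e⟩).symm⟩
  · rintro ⟨⟨hy, hn⟩, e⟩
    exact ⟨hy, hn, (Cfsg.Agent.Leech.cls_eq_iff hx' hy).1 e.symm⟩

end Cfsg.Agent.S1569
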