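import Cfsg.Statements.S1589
import Cfsg.Agent.Lib.Mathieu.IndexSub.Final

set_option autoImplicit false
open scoped Pointwise
open Cfsg

namespace Cfsg.Agent.S1589

/-- Subgroups of the group of the length-24 code of index 759, 276 and 1771 are exactly the octad, duad and sextet stabilisers, and no subgroup has index 253. -/
theorem result : (∀ H : Subgroup ↥Cfsg.M24, H.index = 759 → ∃ o ∈ Cfsg.octads, H = MulAction.stabilizer Cfsg.M24 o) ∧ (∀ H : Subgroup ↥Cfsg.M24, H.index = 276 → ∃ s : Finset Cfsg.GolayPt, s.card = 2 ∧ H = MulAction.stabilizer Cfsg.M24 s) ∧ (∀ H : Subgroup ↥Cfsg.M24, H.index = 1771 → ∃ S ∈ Cfsg.sextets, H = MulAction.stabilizer Cfsg.M24 S) ∧ ∀ H : Subgroup ↥Cfsg.M24, H.index ≠ 253 := by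
  refine ⟨fun H hH => ?_, fun H hH => ?_, fun H hH => ?_, fun H hH => ?_⟩
  · obtain ⟨o, ho, hfix⟩ := Mathieu.IndexSub.case759 (H := H.map M24.subtype) (Subgroup.map_subtype_le H)
      (Mathieu.IndexSub.card_of_index hH (by norm_num) (by norm_num))
    exact ⟨o, ho, Mathieu.IndexSub.eq_of_le_of_index
      (fun g hg => hfix g.1 (Subgroup.mem_map_of_mem _ hg)) hH
      (Mathieu.IndexSub.index_stab Mathieu.oct_cover.1 ho Mathieu.octads_ncard) (by norm_num)⟩
  · obtain ⟨s, hs, hfix⟩ := Mathieu.IndexSub.case276 (H := H.map M24.subtype) (Subgroup.map_subtype_le H)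
      (Mathieu.IndexSub.card_of_index hH (by norm_num) (by norm_num))
    exact ⟨s, hs, Mathieu.IndexSub.eq_of_le_of_index
      (fun g hg => hfix g.1 (Subgroup.mem_map_of_mem _ hg)) hH
      (Mathieu.IndexSub.index_stab Mathieu.duad_cover.1 hs
        ((Mathieu.kSets_ncard 2).trans (by decide +kernel))) (by norm_num)⟩
  · obtain ⟨S, hS, hfix⟩ := Mathieu.IndexSub.case1771 (H := H.map M24.subtype) (Subgroup.map_subtype_le H)
      (Mathieu.IndexSub.card_of_index hH (by norm_num) (by norm_num))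
    exact ⟨S, hS, Mathieu.IndexSub.eq_of_le_of_index
      (fun g hg => hfix g.1 (Subgroup.mem_map_of_mem _ hg)) hH
      (Mathieu.IndexSub.index_stab Mathieu.sext_cover.1 hS Mathieu.sextets_ncard) (by norm_num)⟩
  · exact Mathieu.IndexSub.no253 (H := H.map M24.subtype) (Subgroup.map_subtype_le H)
      (Mathieu.IndexSub.card_of_index hH (by norm_num) (by norm_num))

end Cfsg.Agent.S1589
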