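import Cfsg.Statements.S1591
import Cfsg.Agent.S1590

set_option autoImplicit false
open Cfsg

namespace Cfsg.Agent.S1591

open Cfsg.Agent.S1590

theorem word_00 (a : Fin 6 → ZMod 3) : word a (0, 0) = a 0 := rfl

theorem word_01 (a : Fin 6 → ZMod 3) : word a (0, 1) = a 1 := rfl

theorem word_02 (a : Fin 6 → ZMod 3) : word a (0, 2) = a 2 := rfl

theorem word_10 (a : Fin 6 → ZMod 3) : word a (1, 0) = a 3 := rfl

theorem word_11 (a : Fin 6 → ZMod 3) : word a (1, 1) = a 4 := rfl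

theorem word_12 (a : Fin 6 → ZMod 3) : word a (1, 2) = a 0 + a 1 + a 2 + 2 * a 3 + 2 * a 4 := rfl

theorem word_20 (a : Fin 6 → ZMod 3) : word a (2, 0) = a 5 := rfl

theorem word_21 (a : Fin 6 → ZMod 3) : word a (2, 1) = 2 * a 1 + a 2 + 2 * a 3 + a 4 + a 5 := rfl

theorem word_22 (a : Fin 6 → ZMod 3) : word a (2, 2) = a 0 + 2 * a 1 + a 3 + 2 * a 4 + a 5 := rfl

theorem word_30 (a : Fin 6 → ZMod 3) : word a (3, 0) = a 0 + 2 * a 1 + 2 * a 2 + 2 * a 3 + 2 * a 5 := rfl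

theorem word_31 (a : Fin 6 → ZMod 3) : word a (3, 1) = a 0 + a 2 + a 3 + a 4 + 2 * a 5 := rfl

theorem word_32 (a : Fin 6 → ZMod 3) : word a (3, 2) = 2 * a 0 + 2 * a 1 + a 2 + 2 * a 4 + 2 * a 5 := rfl

theorem dot_word (a b : Fin 6 → ZMod 3) : ∑ p, word a p * word b p = 0 := by
  have h : ∀ f : Cfsg.ArrayPt → ZMod 3, ∑ p, f p = ∑ i : Fin 4, (f (i, 0) + f (i, 1) + f (i, 2)) := fun f => by
    rw [Fintype.sum_prod_type]
    exact Finset.sum_congr rfl fun i _ => sum_three fun r => f (i, r)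
  rw [h, Fin.sum_univ_four]
  simp only [word_00, word_01, word_02, word_10, word_11, word_12, word_20, word_21, word_22, word_30, word_31, word_32]
  ring_nf
  reduce_mod_char

/-- Any two words of the length-12 ternary code have dot product zero. -/
theorem result (x y : Cfsg.ArrayPt → ZMod 3) (hx : x ∈ Cfsg.ternaryGolayCode) (hy : y ∈ Cfsg.ternaryGolayCode) : ∑ p, x p * y p = 0 := by
  rw [eq_word x hx, eq_word y hy]
  exact dot_word _ _

end Cfsg.Agent.S1591
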