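import Cfsg.Statements.S1592
import Cfsg.Agent.S1590

set_option autoImplicit false
open Cfsg

namespace Cfsg.Agent.S1592

open Cfsg.Agent.S1590

/-- The position of a point among twelve. -/
def pos (p : Cfsg.ArrayPt) : ℕ := 3 * p.1.val + p.2.val

/-- The points of a mask. -/
def pts (m : ℕ) : Finset Cfsg.ArrayPt := Finset.univ.filter fun p => m.testBit (pos p) = true

/-- The number of points of a mask. -/
def popc : ℕ → ℕ → ℕ
  | 0, _ => 0
  | k + 1, m => (m % 2) + popc k (m / 2)

/-- The point at a position. -/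
def ptAt (k : Fin 12) : Cfsg.ArrayPt := (⟨k.val / 3, by omega⟩, ((k.val : ℕ) : ZMod 3))

/-- The mask of the support of a word. -/
def maskOf (x : Cfsg.ArrayPt → ZMod 3) : ℕ := Nat.ofBits fun k : Fin 12 => decide (x (ptAt k) ≠ 0)

theorem pos_lt : ∀ p, pos p < 12 := by decide +kernel

theorem ptAt_pos : ∀ p, ptAt ⟨pos p, pos_lt p⟩ = p := by decide +kernel

theorem pos_ptAt : ∀ k, pos (ptAt k) = k.val := by decide +kernel

theorem pts_maskOf (x : Cfsg.ArrayPt → ZMod 3) : pts (maskOf x) = Cfsg.ternarySupport x := by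
  ext p
  simp only [pts, Cfsg.ternarySupport, Finset.mem_filter_univ]
  rw [maskOf, Nat.testBit_ofBits_lt _ _ (pos_lt p), decide_eq_true_iff, ptAt_pos]

theorem exists_mask (s : Finset Cfsg.ArrayPt) : ∃ m < 4096, pts m = s := by
  refine ⟨Nat.ofBits fun k : Fin 12 => decide (ptAt k ∈ s), Nat.ofBits_lt_two_pow _, ?_⟩
  ext p
  simp only [pts, Finset.mem_filter_univ]
  rw [Nat.testBit_ofBits_lt _ _ (pos_lt p), decide_eq_true_iff, ptAt_pos]

theorem pts_subset {a b : ℕ} : pts a ⊆ pts b ↔ ∀ p, a.testBit (pos p) = true → b.testBit (pos p) = true := by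
  simp [pts, Finset.subset_iff]

theorem subset_iff_land {a b : ℕ} (ha : a < 4096) : pts a ⊆ pts b ↔ a &&& b = a := by
  rw [pts_subset]
  constructor
  · intro h
    refine Nat.eq_of_testBit_eq fun j => ?_
    rw [Nat.testBit_and]
    by_cases hj : j < 12
    · have := h (ptAt ⟨j, hj⟩)
      rw [pos_ptAt] at this
      cases hA : a.testBit j
      · rfl
      · simp [this hA]
    · rw [Nat.testBit_lt_two_pow (lt_of_lt_of_le ha (Nat.pow_le_pow_right (show 1 ≤ 2 by norm_num) (not_lt.1 hj) :))]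
      rfl
  · intro h p hp
    rw [← h, Nat.testBit_and] at hp
    simp only [Bool.and_eq_true] at hp
    exact hp.2

theorem pts_inj {a b : ℕ} (ha : a < 4096) (hb : b < 4096) (h : pts a = pts b) : a = b := by
  have h1 := (subset_iff_land (b := b) ha).1 h.le
  have h2 := (subset_iff_land (b := a) hb).1 h.ge
  rw [Nat.land_comm] at h2
  exact h1.symm.trans h2

/-- All information vectors. -/
def infos : List (Fin 6 → ZMod 3) :=
  (List.range 729).map fun k i => ((k / 3 ^ i.val : ℕ) : ZMod 3)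

theorem infos_complete : ∀ a, a ∈ infos := by
  intro a
  let e : Fin (3 ^ 6) := finFunctionFinEquiv (fun i => (a i : Fin 3))
  refine List.mem_map.2 ⟨e.val, List.mem_range.2 e.isLt, funext fun i => ?_⟩
  have h := congrFun (finFunctionFinEquiv.symm_apply_apply (fun i => (a i : Fin 3))) i
  rw [show finFunctionFinEquiv (fun i => (a i : Fin 3)) = e from rfl] at h
  rw [← ZMod.natCast_zmod_val (a i), ← h]
  show _ = (((e.val / 3 ^ i.val % 3 : ℕ) : ℕ) : ZMod 3)
  rw [ZMod.natCast_mod]

/-- The masks of the blocks. -/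
def blocks : List ℕ := [3873, 2978, 1923, 3235, 3748, 2949, 1445, 3462, 679, 1830, 2343, 3591, 1960, 2729, 3465, 3370,
  2827, 1579, 3722, 427, 2476, 1677, 910, 2606, 1295, 3852, 3117, 813, 2191, 1198, 3504, 945,
  3729, 1714, 2451, 3858, 2611, 1331, 2868, 3349, 1589, 2710, 438, 1940, 2229, 3126, 791, 1175,
  2968, 1209, 826, 3099, 2234, 413, 1566, 1340, 2589, 3640, 1817, 2361, 1434, 667, 3228, 63,
  700, 2334, 4032, 1761, 2529, 1506, 2755, 3682, 3395, 867, 3428, 2661, 1861, 455, 1734, 996,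
  3269, 2886, 1127, 2278, 3304, 969, 1866, 2155, 1227, 2764, 366, 1644, 2381, 2920, 1385, 3657,
  746, 2506, 237, 3150, 1484, 591, 1904, 2897, 3185, 3282, 243, 2516, 630, 725, 1366, 504,
  2650, 1117, 1752, 347, 2172, 2800, 1489, 2418, 1619, 978, 1268, 2135, 3668, 373, 3416, 633,
  222, 2265, 1146, 860]

theorem blocks_eq : ((infos.map fun a => maskOf (word a)).filter fun m => popc 12 m == 6).dedup = blocks := by
  decide +kernel

theorem blocks_check :
    (blocks.length == 132 && blocks.all fun m => decide (m < 4096)) = true := by decide +kernel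

theorem card_check : (List.range 4096).all (fun m => (pts m).card == popc 12 m) = true := by decide +kernel

theorem steiner_check : (List.range 4096).all
    (fun s => popc 12 s != 5 || (blocks.filter fun m => s &&& m == s).length == 1) = true := by decide +kernel

theorem maskOf_lt (x : Cfsg.ArrayPt → ZMod 3) : maskOf x < 4096 := Nat.ofBits_lt_two_pow _

theorem card_pts {m : ℕ} (hm : m < 4096) : (pts m).card = popc 12 m :=
  beq_iff_eq.1 (List.all_eq_true.1 card_check m (List.mem_range.2 hm))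

theorem blockSet_eq :
    {h : Finset Cfsg.ArrayPt | ∃ x ∈ Cfsg.ternaryGolayCode, Cfsg.ternarySupport x = h ∧ h.card = 6} =
      pts '' {m | m ∈ blocks} := by
  ext h
  simp only [Set.mem_image, Set.mem_ofPred_eq, ← blocks_eq, List.mem_dedup, List.mem_filter, List.mem_map, beq_iff_eq]
  constructor
  · rintro ⟨x, hx, rfl, hc⟩
    refine ⟨maskOf x, ⟨⟨info x, infos_complete _, by rw [(mem_iff x).1 hx]⟩, ?_⟩, pts_maskOf x⟩
    rw [← card_pts (maskOf_lt x), pts_maskOf, hc]
  · rintro ⟨m, ⟨⟨a, -, rfl⟩, hc⟩, rfl⟩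
    exact ⟨word a, word_mem a, (pts_maskOf _).symm, by rw [card_pts (maskOf_lt _), hc]⟩

/-- The supports of the weight-6 words of the length-12 ternary code form a Steiner system S(5, 6, 12) with 132 blocks. -/
theorem result : Cfsg.IsSteinerSystem 5 6 {h : Finset Cfsg.ArrayPt | ∃ x ∈ Cfsg.ternaryGolayCode, Cfsg.ternarySupport x = h ∧ h.card = 6} ∧ {h : Finset Cfsg.ArrayPt | ∃ x ∈ Cfsg.ternaryGolayCode, Cfsg.ternarySupport x = h ∧ h.card = 6}.ncard = 132 := by
  classical
  simp only [blockSet_eq]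
  obtain ⟨hlen, hlt'⟩ := Bool.and_eq_true_iff.1 blocks_check
  have hlt : ∀ m ∈ blocks, m < 4096 := fun m hm => of_decide_eq_true (List.all_eq_true.1 hlt' m hm)
  have hnd : blocks.Nodup := blocks_eq ▸ List.nodup_dedup _
  refine ⟨⟨?_, ?_⟩, ?_⟩
  · rintro _ ⟨m, hm, rfl⟩
    rw [card_pts (hlt m hm)]
    have hm' : m ∈ blocks := hm
    rw [← blocks_eq, List.mem_dedup, List.mem_filter] at hm'
    exact beq_iff_eq.1 hm'.2
  · intro s hs
    obtain ⟨t, ht, rfl⟩ := exists_mask s
    have hc := List.all_eq_true.1 steiner_check t (List.mem_range.2 ht)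
    rw [← card_pts ht, hs] at hc
    simp only [bne_self_eq_false, Bool.false_or, beq_iff_eq] at hc
    obtain ⟨m, hm⟩ := List.length_eq_one_iff.1 hc
    have hm' : m ∈ blocks.filter fun m => t &&& m == t := by rw [hm]; exact List.mem_singleton_self m
    rw [List.mem_filter, beq_iff_eq] at hm'
    refine ⟨pts m, ⟨⟨m, hm'.1, rfl⟩, (subset_iff_land ht).2 hm'.2⟩, ?_⟩
    rintro _ ⟨⟨k, hk, rfl⟩, hsub⟩
    have : k ∈ blocks.filter fun m => t &&& m == t :=
      List.mem_filter.2 ⟨hk, beq_iff_eq.2 ((subset_iff_land ht).1 hsub)⟩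
    rw [hm, List.mem_singleton] at this
    rw [this]
  · rw [Set.InjOn.ncard_image (s := {m | m ∈ blocks})
        fun a ha b hb h => pts_inj (hlt a ha) (hlt b hb) h,
      show {m | m ∈ blocks} = (blocks.toFinset : Set ℕ) by ext; simp, Set.ncard_coe_finset,
      List.toFinset_card_of_nodup hnd]
    exact beq_iff_eq.1 hlen

end Cfsg.Agent.S1592
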