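import Cfsg.Statements.S1595
import Cfsg.Agent.Lib.Steiner.Counting

set_option autoImplicit false
open Cfsg

namespace Cfsg.Agent.S1595

open Cfsg.Agent.Steiner Finset

variable {α : Type*} [Fintype α] [DecidableEq α] {B : Set (Finset α)}

/-- Blocks meeting `b` exactly in `s`. -/
noncomputable def exact (B : Set (Finset α)) (b s : Finset α) : ℕ :=
  ((blocksF B).filter fun c => b ∩ c = s).card

theorem exact_eq_ncard (b s : Finset α) : exact B b s = {c : Finset α | c ∈ B ∧ b ∩ c = s}.ncard := by
  rw [exact, ← Set.ncard_coe_finset]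
  congr 1
  ext c
  simp [mem_blocksF]

/-- The blocks through `s` sorted by their intersection with `b`. -/
theorem through_eq_sum (b : Finset α) {s : Finset α} (hs : s ⊆ b) :
    ((blocksF B).filter fun c => s ⊆ c).card = ∑ t ∈ b.powerset.filter (fun t => s ⊆ t), exact B b t := by
  rw [card_eq_sum_card_fiberwise (f := fun c => b ∩ c) (t := b.powerset.filter fun t => s ⊆ t) (fun c hc => by
    simp only [coe_filter, Set.mem_ofPred_eq, mem_powerset] at hc ⊢
    exact ⟨inter_subset_left, subset_inter hs hc.2⟩)]
  refine sum_congr rfl fun t ht => ?_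
  rw [exact, filter_filter]
  congr 1
  refine filter_congr fun c _ => ⟨fun h => h.2, fun h => ⟨?_, h⟩⟩
  exact (mem_filter.1 ht).2.trans (h ▸ inter_subset_right)

/-- Sets between `s` and `b` of a given size. -/
theorem card_between (b : Finset α) {s : Finset α} (hs : s ⊆ b) (k : ℕ) (hk : s.card ≤ k) :
    ((b.powerset.filter fun t => s ⊆ t).filter fun t => t.card = k).card = (b.card - s.card).choose (k - s.card) := by
  rw [← card_sdiff_of_subset hs, ← card_powersetCard]
  refine card_nbij' (fun t => t \ s) (fun T => T ∪ s) ?_ ?_ ?_ ?_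
  · intro t ht
    simp only [coe_filter, Set.mem_ofPred_eq, mem_filter, mem_powerset] at ht
    simp only [mem_coe, mem_powersetCard]
    exact ⟨sdiff_subset_sdiff ht.1.1 le_rfl, by rw [card_sdiff_of_subset ht.1.2, ht.2]⟩
  · intro T hT
    simp only [mem_coe, mem_powersetCard, subset_sdiff] at hT
    simp only [coe_filter, Set.mem_ofPred_eq, mem_filter, mem_powerset]
    exact ⟨⟨union_subset hT.1.1 hs, subset_union_right⟩, by rw [card_union_of_disjoint hT.1.2, hT.2]; omega⟩
  · intro t ht
    simp only [coe_filter, Set.mem_ofPred_eq, mem_filter] at ht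
    exact sdiff_union_of_subset ht.1.2
  · intro T hT
    simp only [mem_coe, mem_powersetCard, subset_sdiff] at hT
    exact union_sdiff_cancel_right hT.1.2

section Triangle

variable (hα : Fintype.card α = 12) (hB : Cfsg.IsSteinerSystem 5 6 B) {b : Finset α} (hb : b ∈ B)
include hα hB hb

omit hα in
theorem exact_self : exact B b b = 1 := by
  rw [exact, card_eq_one]
  refine ⟨b, eq_singleton_iff_unique_mem.2 ⟨mem_filter.2 ⟨mem_blocksF.2 hb, inter_self b⟩, fun c hc => ?_⟩⟩
  obtain ⟨hcB, hc⟩ := mem_filter.1 hc
  rw [mem_blocksF] at hcB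
  exact (eq_of_subset_of_card_le (inter_eq_left.1 hc) (le_of_eq ((hB.1 c hcB).trans (hB.1 b hb).symm))).symm

omit hα in
theorem exact_five {t : Finset α} (ht : t ⊆ b) (h5 : t.card = 5) : exact B b t = 0 := by
  rw [exact, card_eq_zero, filter_eq_empty_iff]
  intro c hc h
  rw [mem_blocksF] at hc
  have : c = b := (hB.2 t h5).unique ⟨hc, h ▸ inter_subset_right⟩ ⟨hb, ht⟩
  rw [this, inter_self] at h
  rw [← h, hB.1 b hb] at h5
  omega

theorem exact_values : ∀ (s : Finset α), s ⊆ b → 1 ≤ s.card → s.card ≤ 4 →
    exact B b s = [0, 0, 3, 2, 3].getD s.card 0 := by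
  suffices H : ∀ n, ∀ s : Finset α, s ⊆ b → s.card = 4 - n → n ≤ 3 →
      exact B b s = [0, 0, 3, 2, 3].getD s.card 0 from
    fun s hs h1 h4 => H (4 - s.card) s hs (by omega) (by omega)
  intro n
  induction n using Nat.strong_induction_on with
  | _ n ih =>
    intro s hs hn hn3
    have hb6 : b.card = 6 := hB.1 b hb
    have hsum := through_eq_sum (B := B) b hs
    have hsplit : ∑ t ∈ b.powerset.filter (fun t => s ⊆ t), exact B b t =
        ∑ k ∈ range 7, ∑ t ∈ (b.powerset.filter (fun t => s ⊆ t)).filter (fun t => t.card = k), exact B b t := by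
      rw [sum_fiberwise_of_maps_to]
      intro t ht
      rw [mem_filter, mem_powerset] at ht
      exact mem_range.2 (Nat.lt_succ_of_le (hb6 ▸ card_le_card ht.1))
    have hval : ∀ k ∈ range 7, ∑ t ∈ (b.powerset.filter (fun t => s ⊆ t)).filter (fun t => t.card = k), exact B b t =
        if k < s.card then 0 else if k = s.card then exact B b s
        else (6 - s.card).choose (k - s.card) * [0, 0, 3, 2, 3, 0, 1].getD k 0 := by
      intro k hk
      rw [mem_range] at hk
      split
      · next h =>
        refine sum_eq_zero fun t ht => ?_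
        simp only [mem_filter, mem_powerset] at ht
        have := card_le_card ht.1.2
        omega
      · split
        · next h =>
          rw [show (b.powerset.filter (fun t => s ⊆ t)).filter (fun t => t.card = k) = {s} from ?_, sum_singleton]
          refine eq_singleton_iff_unique_mem.2 ⟨?_, fun t ht => ?_⟩
          · simp only [mem_filter, mem_powerset]
            exact ⟨⟨hs, subset_refl s⟩, h.symm⟩
          · simp only [mem_filter, mem_powerset] at ht
            exact (eq_of_subset_of_card_le ht.1.2 (by omega)).symm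
        · next h1 h2 =>
          rw [← hb6, ← card_between b hs k (by omega), ← smul_eq_mul, ← sum_const]
          refine sum_congr rfl fun t ht => ?_
          simp only [mem_filter, mem_powerset] at ht
          by_cases h6 : k = 6
          · subst h6
            rw [eq_of_subset_of_card_le ht.1.1 (by omega : b.card ≤ t.card), exact_self hB hb]
            rfl
          by_cases h5 : k = 5
          · subst h5
            rw [exact_five hB hb ht.1.1 ht.2]
            rfl
          rw [ih (4 - k) (by omega) t ht.1.1 (by omega) (by omega), ht.2]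
          interval_cases k <;> first | rfl | omega
    have hthr := card_through hB s (by omega)
    rw [hsum, hsplit, sum_congr rfl hval, hα, hn] at hthr
    rw [hn]
    interval_cases n <;>
      simp [Finset.sum_range_succ, Nat.choose] at hthr ⊢ <;> omega

end Triangle

/-- Leech triangle of S(5, 6, 12): blocks meet in 0, 2, 3 or 4 points, and a block is met exactly in a given 2-, 3- or 4-subset by 3, 2, 3 blocks respectively. -/
theorem result {α : Type*} [Fintype α] [DecidableEq α] (hα : Fintype.card α = 12) {B : Set (Finset α)} (hB : Cfsg.IsSteinerSystem 5 6 B) (b : Finset α) (hb : b ∈ B) : (∀ c ∈ B, c ≠ b → (b ∩ c).card = 0 ∨ (b ∩ c).card = 2 ∨ (b ∩ c).card = 3 ∨ (b ∩ c).card = 4) ∧ ∀ s ⊆ b, (s.card = 2 → {c : Finset α | c ∈ B ∧ b ∩ c = s}.ncard = 3) ∧ (s.card = 3 → {c : Finset α | c ∈ B ∧ b ∩ c = s}.ncard = 2) ∧ (s.card = 4 → {c : Finset α | c ∈ B ∧ b ∩ c = s}.ncard = 3) := by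
  refine ⟨fun c hc hne => ?_, fun s hs => ⟨fun h => ?_, fun h => ?_, fun h => ?_⟩⟩
  · have hle : (b ∩ c).card ≤ 6 := le_of_le_of_eq (card_le_card inter_subset_left) (hB.1 b hb)
    have hpos : 0 < exact B b (b ∩ c) := card_pos.2 ⟨c, mem_filter.2 ⟨mem_blocksF.2 hc, rfl⟩⟩
    by_cases h5 : (b ∩ c).card = 5
    · rw [exact_five hB hb inter_subset_left h5] at hpos; omega
    by_cases h6 : (b ∩ c).card = 6
    · refine absurd ?_ hne
      have h1 := eq_of_subset_of_card_le (inter_subset_left (s₁ := b) (s₂ := c)) (by rw [hB.1 b hb, h6])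
      exact (eq_of_subset_of_card_le (inter_eq_left.1 h1)
        (le_of_eq ((hB.1 c hc).trans (hB.1 b hb).symm))).symm
    by_cases h1 : (b ∩ c).card = 1
    · rw [exact_values hα hB hb _ inter_subset_left (by omega) (by omega), h1] at hpos
      simp at hpos
    omega
  · rw [← exact_eq_ncard, exact_values hα hB hb s hs (by omega) (by omega), h]; rfl
  · rw [← exact_eq_ncard, exact_values hα hB hb s hs (by omega) (by omega), h]; rfl
  · rw [← exact_eq_ncard, exact_values hα hB hb s hs (by omega) (by omega), h]; rfl

end Cfsg.Agent.S1595
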