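import Cfsg.Statements.S1598
import Cfsg.Agent.Lib.Mathieu.Dodecad.QuartetTransport

set_option autoImplicit false
open scoped Pointwise
open Cfsg
open Cfsg.Agent.Mathieu

namespace Cfsg.Agent.S1598

/-- A quartet stabiliser inside the dodecad stabiliser has order 432, a normal subgroup of order 9 with quotient GL(2, 3), and is transitive on the dodecad. -/
theorem result (d : Finset Cfsg.GolayPt) (hd : d ∈ Cfsg.dodecads) (Q : Finset (Finset Cfsg.GolayPt)) (hQ : Q ∈ Cfsg.quartets d) : Nat.card ↥(MulAction.stabilizer Cfsg.M24 d ⊓ MulAction.stabilizer Cfsg.M24 Q) = 432 ∧ (∃ (N : Subgroup ↥(MulAction.stabilizer Cfsg.M24 d ⊓ MulAction.stabilizer Cfsg.M24 Q)) (_ : N.Normal), Nat.card N = 9 ∧ Nonempty (↥(MulAction.stabilizer Cfsg.M24 d ⊓ MulAction.stabilizer Cfsg.M24 Q) ⧸ N ≃* GL (Fin 2) (ZMod 3))) ∧ ∀ p ∈ d, ∀ q ∈ d, ∃ g ∈ (MulAction.stabilizer Cfsg.M24 d ⊓ MulAction.stabilizer Cfsg.M24 Q), ((g : ↥Cfsg.M24) : Equiv.Perm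 Cfsg.GolayPt) p = q := by
  obtain ⟨g, hg, hgd, hgQ⟩ := Quartet.exists_frame hd hQ
  obtain ⟨hcard, f, hf, hker⟩ := Quartet.quartStab_structure
  refine ⟨?_, ?_, fun p hp q hq => Quartet.stab_map_point_of hd hQ hp hq⟩ <;> subst hgd hgQ <;>
    obtain ⟨e⟩ := Quartet.stab_equiv hg
  · rw [Nat.card_congr e.toEquiv, hcard]
  · have hF : Function.Surjective (f.comp e.toMonoidHom) := hf.comp e.surjective
    refine ⟨(f.comp e.toMonoidHom).ker, inferInstance, ?_,
      ⟨QuotientGroup.quotientKerEquivOfSurjective _ hF⟩⟩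
    rw [← hker]
    exact Nat.card_congr (e.toEquiv.subtypeEquiv fun z => Iff.rfl)

end Cfsg.Agent.S1598
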