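import Cfsg.Statements.S1599
import Cfsg.Agent.Lib.Mathieu.Dodecad.QuartetTransport

set_option autoImplicit false
open scoped Pointwise
open Cfsg
open Cfsg.Agent.Mathieu

namespace Cfsg.Agent.S1599

/-- A quartet stabiliser has five orbits on the quartets of its dodecad, of sizes 1, 12, 27, 72, 108. -/
theorem result (d : Finset Cfsg.GolayPt) (hd : d ∈ Cfsg.dodecads) (Q : Finset (Finset Cfsg.GolayPt)) (hQ : Q ∈ Cfsg.quartets d) : ∃ X₁ ∈ Cfsg.quartets d, ∃ X₂ ∈ Cfsg.quartets d, ∃ X₃ ∈ Cfsg.quartets d, ∃ X₄ ∈ Cfsg.quartets d, (MulAction.orbit ↥(MulAction.stabilizer Cfsg.M24 d ⊓ MulAction.stabilizer Cfsg.M24 Q) X₁).ncard = 12 ∧ (MulAction.orbit ↥(MulAction.stabilizer Cfsg.M24 d ⊓ MulAction.stabilizer Cfsg.M24 Q) X₂).ncard = 27 ∧ (MulAction.orbit ↥(MulAction.stabilizer Cfsg.M24 d ⊓ MulAction.stabilizer Cfsg.M24 Q) X₃).ncard = 72 ∧ (MulAction.orbit ↥(MulAction.stabilizer Cfsg.M24 d ⊓ MulAction.stabilizer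 Cfsg.M24 Q) X₄).ncard = 108 ∧ Cfsg.quartets d = {Q} ∪ MulAction.orbit ↥(MulAction.stabilizer Cfsg.M24 d ⊓ MulAction.stabilizer Cfsg.M24 Q) X₁ ∪ MulAction.orbit ↥(MulAction.stabilizer Cfsg.M24 d ⊓ MulAction.stabilizer Cfsg.M24 Q) X₂ ∪ MulAction.orbit ↥(MulAction.stabilizer Cfsg.M24 d ⊓ MulAction.stabilizer Cfsg.M24 Q) X₃ ∪ MulAction.orbit ↥(MulAction.stabilizer Cfsg.M24 d ⊓ MulAction.stabilizer Cfsg.M24 Q) X₄ := by
  obtain ⟨g, hg, rfl, rfl⟩ := Quartet.exists_frame hd hQ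
  obtain ⟨q1, e1, n1⟩ := Quartet.orbit_of_check Quartet.orbit12
  obtain ⟨q2, e2, n2⟩ := Quartet.orbit_of_check Quartet.orbit27
  obtain ⟨q3, e3, n3⟩ := Quartet.orbit_of_check Quartet.orbit72
  obtain ⟨q4, e4, n4⟩ := Quartet.orbit_of_check Quartet.orbit108
  obtain ⟨s1, s2, s3, s4⟩ := Quartet.sizes
  have hm : ∀ X, X ∈ quartets Spor.squareDodecad → g • X ∈ quartets (g • Spor.squareDodecad) :=
    fun X h => Quartet.smul_mem_quartets hg h
  refine ⟨_, hm _ q1, _, hm _ q2, _, hm _ q3, _, hm _ q4, ?_⟩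
  simp only [Quartet.orbit_smul hg, Set.ncard_smul_set]
  refine ⟨n1.trans s1, n2.trans s2, n3.trans s3, n4.trans s4, ?_⟩
  rw [Quartet.quartets_smul hg, ← Set.smul_set_singleton, ← Set.smul_set_union,
    ← Set.smul_set_union, ← Set.smul_set_union, ← Set.smul_set_union]
  congr 1
  ext X
  simp only [Set.mem_union, Set.mem_singleton_iff, e1, e2, e3, e4, Set.mem_ofPred_eq]
  constructor
  · intro hX
    rcases Quartet.moment_cases X hX with h | h | h | h | h <;> tauto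
  · rintro ((((rfl | h) | h) | h) | h)
    · exact Quartet.base_mem
    all_goals exact h.1

end Cfsg.Agent.S1599
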