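import Cfsg.Statements.S1600
import Cfsg.Agent.Lib.Mathieu.Dodecad.ThreePoint

set_option autoImplicit false
open scoped Pointwise
open Cfsg
open Cfsg.Agent.Mathieu

namespace Cfsg.Agent.S1600

/-- The pointwise stabiliser of three points of a dodecad inside the dodecad stabiliser (order 72) is transitive on the complementary dodecad. -/
theorem result (d : Finset Cfsg.GolayPt) (hd : d ∈ Cfsg.dodecads) (p q r : Cfsg.GolayPt) (hp : p ∈ d) (hq : q ∈ d) (hr : r ∈ d) (hpq : p ≠ q) (hpr : p ≠ r) (hqr : q ≠ r) : Nat.card ↥(MulAction.stabilizer Cfsg.M24 d ⊓ MulAction.stabilizer Cfsg.M24 p ⊓ MulAction.stabilizer Cfsg.M24 q ⊓ MulAction.stabilizer Cfsg.M24 r) = 72 ∧ ∀ x ∉ d, ∀ y ∉ d, ∃ g ∈ (MulAction.stabilizer Cfsg.M24 d ⊓ MulAction.stabilizer Cfsg.M24 p ⊓ MulAction.stabilizer Cfsg.M24 q ⊓ MulAction.stabilizer Cfsg.M24 r), ((g : ↥Cfsg.M24) : Equiv.Perm Cfsg.GolayPt) x = y := by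
  obtain ⟨g, hg, rfl⟩ := M24_exists_map_square hd
  obtain ⟨k, hk, hkx⟩ := M12_exists_map (k := 3) (by norm_num)
    ⟨![idx ptEnc 0, idx ptEnc 1, idx ptEnc 2], by decide +kernel⟩
    ⟨![g⁻¹ p, g⁻¹ q, g⁻¹ r], by
      intro i j; fin_cases i <;> fin_cases j <;> simp [hpq, hpr, hqr, hpq.symm, hpr.symm, hqr.symm]⟩
    (fun i => by fin_cases i <;> exact (idx_mem_square (by norm_num)).2 (by decide +kernel))
    (fun i => by
      fin_cases i
      · exact mem_smul_pts.1 hp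
      · exact mem_smul_pts.1 hq
      · exact mem_smul_pts.1 hr)
  have hgk : g * k ∈ M24 := mul_mem hg (M12_le_M24 hk)
  have e0 : g • Spor.squareDodecad = (g * k) • Spor.squareDodecad := by
    rw [mul_smul, (mem_M12_iff.1 hk).2]
  have ep : p = (g * k) • idx ptEnc 0 := by
    have h : k (idx ptEnc 0) = g⁻¹ p := hkx 0
    simp [mul_smul, Equiv.Perm.smul_def, h]
  have eq' : q = (g * k) • idx ptEnc 1 := by
    have h : k (idx ptEnc 1) = g⁻¹ q := hkx 1
    simp [mul_smul, Equiv.Perm.smul_def, h]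
  have er : r = (g * k) • idx ptEnc 2 := by
    have h : k (idx ptEnc 2) = g⁻¹ r := hkx 2
    simp [mul_smul, Equiv.Perm.smul_def, h]
  clear hpq hpr hqr hkx hp hq hr
  subst ep eq' er
  rw [e0]
  generalize g * k = u at hgk
  have hthree : threeFix = M24 ⊓ MulAction.stabilizer (Equiv.Perm GolayPt)
      (Spor.squareDodecad, idx ptEnc 0, idx ptEnc 1, idx ptEnc 2) := by
    simp only [threeFix, Spor.M12, stabilizer_prod, inf_assoc]
  refine ⟨?_, fun x hx y hy => ?_⟩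
  · rw [← card_threeFix, hthree, ← card_inf_stabilizer_conj hgk]
    simp only [Prod.smul_mk, stabilizer_prod, inf_assoc]
  · obtain ⟨σ, hσ, hσx⟩ := threeFix_map (x := u⁻¹ x) (y := u⁻¹ y)
      (fun h => hx (mem_smul_pts.2 h)) (fun h => hy (mem_smul_pts.2 h))
    rw [hthree] at hσ
    have hmem : u * σ * u⁻¹ ∈ M24 ⊓ MulAction.stabilizer (Equiv.Perm GolayPt)
        (u • (Spor.squareDodecad, idx ptEnc 0, idx ptEnc 1, idx ptEnc 2)) := by
      rw [← map_conj_inf_stabilizer hgk]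
      exact ⟨σ, hσ, rfl⟩
    refine ⟨⟨u * σ * u⁻¹, hmem.1⟩, ?_, ?_⟩
    · have h2 := MulAction.mem_stabilizer_iff.1 hmem.2
      simp only [Prod.smul_mk, Prod.mk.injEq] at h2
      exact ⟨⟨⟨h2.1, h2.2.1⟩, h2.2.2.1⟩, h2.2.2.2⟩
    · show (u * σ * u⁻¹) x = y
      rw [Equiv.Perm.mul_apply, Equiv.Perm.mul_apply, hσx]
      exact u.apply_symm_apply y

end Cfsg.Agent.S1600
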