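import Cfsg.Statements.S1601
import Cfsg.Agent.Lib.Mathieu.Dodecad.LinearEleven

set_option autoImplicit false
open scoped Pointwise
open Cfsg
open Cfsg.Agent.Mathieu

namespace Cfsg.Agent.S1601

/-- In the 3-transitive action of the smallest Mathieu group on the complementary dodecad, a point stabiliser is isomorphic to PSL(2, 11). -/
theorem result (d : Finset Cfsg.GolayPt) (hd : d ∈ Cfsg.dodecads) (p q : Cfsg.GolayPt) (hp : p ∈ d) (hq : q ∉ d) : Nonempty (↥(MulAction.stabilizer Cfsg.M24 d ⊓ MulAction.stabilizer Cfsg.M24 p ⊓ MulAction.stabilizer Cfsg.M24 q) ≃* Matrix.ProjectiveSpecialLinearGroup (Fin 2) (ZMod 11)) := by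
  obtain ⟨g, hg, rfl, rfl⟩ := M24_exists_map_square_point hd hp
  obtain ⟨k, hk, hkx⟩ := M11_exists_map_compl (k := 1) (by norm_num)
    ⟨fun _ => idx ptEnc 5, Function.injective_of_subsingleton _⟩
    ⟨fun _ => g⁻¹ q, Function.injective_of_subsingleton _⟩
    (fun _ => (idx_mem_square (by norm_num)).not.2 (by decide +kernel))
    (fun _ => fun h => hq (mem_smul_pts.2 h))
  obtain ⟨hk12, hk0⟩ := mem_M11_iff.1 hk
  have hgk : g * k ∈ M24 := mul_mem hg (M12_le_M24 hk12)
  have e1 : (g * k) • Spor.squareDodecad = g • Spor.squareDodecad := by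
    rw [mul_smul, (mem_M12_iff.1 hk12).2]
  have e2 : (g * k) • (some 0 : GolayPt) = g (some 0) := congrArg g hk0
  have e3 : (g * k) • idx ptEnc 5 = q := (congrArg g (hkx 0)).trans (g.apply_symm_apply q)
  obtain ⟨e⟩ := LinearEleven.outStab_equiv
  rw [← e1, ← e2, ← e3]
  refine ⟨(MulEquiv.subgroupCongr ?_).trans
    ((stabConjEquiv hgk (Spor.squareDodecad, (some 0 : GolayPt), idx ptEnc 5)).trans
      ((MulEquiv.subgroupCongr ?_).trans e))⟩
  · simp only [Prod.smul_mk, stabilizer_prod, inf_assoc]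
  · rw [stabilizer_prod, stabilizer_prod, LinearEleven.outStab, Spor.M11, Spor.M12]
    simp only [inf_assoc]

end Cfsg.Agent.S1601
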