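import Cfsg.Statements.S1602
import Cfsg.Agent.Lib.Mathieu.Dodecad.PairSym

set_option autoImplicit false
open scoped Pointwise
open Cfsg
open Cfsg.Agent.Mathieu

namespace Cfsg.Agent.S1602

/-- In the 12-point action of the smallest Mathieu group the setwise stabiliser of a pair is isomorphic to the symmetric group of degree 5. -/
theorem result (d : Finset Cfsg.GolayPt) (hd : d ∈ Cfsg.dodecads) (p q q' : Cfsg.GolayPt) (hp : p ∈ d) (hq : q ∉ d) (hq' : q' ∉ d) (hqq' : q ≠ q') : Nonempty (↥(MulAction.stabilizer Cfsg.M24 d ⊓ MulAction.stabilizer Cfsg.M24 p ⊓ MulAction.stabilizer Cfsg.M24 ({q, q'} : Finset Cfsg.GolayPt)) ≃* Equiv.Perm (Fin 5)) := by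
  obtain ⟨g, hg, rfl, rfl⟩ := M24_exists_map_square_point hd hp
  have h0 : ∀ {z : GolayPt}, z ∉ g • Spor.squareDodecad → g⁻¹ z ∉ Spor.squareDodecad :=
    fun hz h => hz (mem_smul_pts.2 h)
  obtain ⟨k, hk, hkx⟩ := M11_exists_map_compl (k := 2) (by norm_num)
    ⟨![idx ptEnc 5, idx ptEnc 7], by decide +kernel⟩
    ⟨![g⁻¹ q, g⁻¹ q'], by intro i j; fin_cases i <;> fin_cases j <;> simp [hqq', hqq'.symm]⟩
    (fun i => by
      fin_cases i
      · exact (idx_mem_square (by norm_num)).not.2 (by decide +kernel)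
      · exact (idx_mem_square (by norm_num)).not.2 (by decide +kernel))
    (fun i => by
      fin_cases i
      · exact h0 hq
      · exact h0 hq')
  obtain ⟨hk12, hk0⟩ := mem_M11_iff.1 hk
  have hgk : g * k ∈ M24 := mul_mem hg (M12_le_M24 hk12)
  have e1 : (g * k) • Spor.squareDodecad = g • Spor.squareDodecad := by
    rw [mul_smul, (mem_M12_iff.1 hk12).2]
  have e2 : (g * k) • (some 0 : GolayPt) = g (some 0) := congrArg g hk0
  have e3 : (g * k) • outPair = ({q, q'} : Finset GolayPt) := by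
    have a0 : k (idx ptEnc 5) = g⁻¹ q := hkx 0
    have a1 : k (idx ptEnc 7) = g⁻¹ q' := hkx 1
    simp [outPair, Finset.smul_finset_insert, Equiv.Perm.smul_def, a0, a1]
  obtain ⟨e⟩ := stab_outPair_equiv
  rw [← e1, ← e2, ← e3]
  refine ⟨(MulEquiv.subgroupCongr ?_).trans
    ((stabConjEquiv hgk (Spor.squareDodecad, (some 0 : GolayPt), outPair)).trans
      ((MulEquiv.subgroupCongr ?_).trans e))⟩
  · simp only [Prod.smul_mk, stabilizer_prod, inf_assoc]
  · rw [stabilizer_prod, stabilizer_prod, Spor.M11, Spor.M12]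
    simp only [inf_assoc]

end Cfsg.Agent.S1602
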