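import Cfsg.Statements.S1603
import Cfsg.Agent.Lib.Mathieu.Dodecad.Involution

set_option autoImplicit false
open scoped Pointwise
open Cfsg
open Cfsg.Agent.Mathieu

namespace Cfsg.Agent.S1603

/-- Involution centralisers in the smallest Mathieu group are isomorphic to GL(2, 3). -/
theorem result (d : Finset Cfsg.GolayPt) (hd : d ∈ Cfsg.dodecads) (p : Cfsg.GolayPt) (hp : p ∈ d) (x : ↥(MulAction.stabilizer Cfsg.M24 d ⊓ MulAction.stabilizer Cfsg.M24 p)) (hx : orderOf x = 2) : Nonempty (↥(Subgroup.centralizer ({x} : Set ↥(MulAction.stabilizer Cfsg.M24 d ⊓ MulAction.stabilizer Cfsg.M24 p))) ≃* GL (Fin 2) (ZMod 3)) := by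
  obtain ⟨g, hg, rfl, rfl⟩ := M24_exists_map_square_point hd hp
  obtain ⟨e⟩ : Nonempty (↥(MulAction.stabilizer M24 (g • Spor.squareDodecad) ⊓
      MulAction.stabilizer M24 (g (some 0))) ≃* Spor.M11) :=
    stab_dodecad_point_equiv hd (apply_mem_smul_pts.2 (by rw [squareDodecad_eq]; decide +kernel))
  have hx2 : x * x = 1 := by
    have := pow_orderOf_eq_one x
    rwa [hx, pow_two] at this
  have hy1 : ((e x : Spor.M11) : Equiv.Perm GolayPt) ≠ 1 := fun h => by
    have : x = 1 := e.injective ((Subtype.ext h).trans (map_one e).symm)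
    rw [this, orderOf_one] at hx
    norm_num at hx
  obtain ⟨k, hk, hke⟩ := Involution.exists_conj (e x).2
    (by rw [← Subgroup.coe_mul, ← map_mul, hx2, map_one, Subgroup.coe_one]) hy1
  obtain ⟨c⟩ := Involution.cent_equiv
  refine ⟨MulEquiv.trans ?_ c⟩
  let f := (e.trans (MulAut.conj (⟨k, hk⟩ : Spor.M11))).toMonoidHom
  have hf : Function.Injective (Spor.M11.subtype.comp f) :=
    Subtype.val_injective.comp (e.trans (MulAut.conj (⟨k, hk⟩ : Spor.M11))).injective
  refine (Subgroup.equivMapOfInjective _ _ hf).trans (MulEquiv.subgroupCongr ?_)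
  have hfx : ((f x : Spor.M11) : Equiv.Perm GolayPt) = Involution.invPerm := by
    simp [f, ← hke]
  ext z
  rw [Subgroup.mem_map, Involution.mem_cent]
  constructor
  · rintro ⟨u, hu, rfl⟩
    refine ⟨(f u).2, ?_⟩
    have := congrArg (Spor.M11.subtype.comp f) (Subgroup.mem_centralizer_iff.1 hu x rfl)
    simp only [map_mul, MonoidHom.comp_apply, Subgroup.subtype_apply, hfx] at this
    exact this.symm
  · rintro ⟨hz, hzc⟩
    obtain ⟨u, hu⟩ := (e.trans (MulAut.conj (⟨k, hk⟩ : Spor.M11))).surjective ⟨z, hz⟩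
    refine ⟨u, Subgroup.mem_centralizer_iff.2 fun w hw => ?_, congrArg Subtype.val hu⟩
    rw [Set.mem_singleton_iff.1 hw]
    apply hf
    simp only [map_mul, MonoidHom.comp_apply, Subgroup.subtype_apply, hfx]
    rw [show ((f u : Spor.M11) : Equiv.Perm GolayPt) = z from congrArg Subtype.val hu]
    exact hzc.symm

end Cfsg.Agent.S1603
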