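import Cfsg.Statements.S1604
import Cfsg.Agent.Lib.Mathieu.Dodecad.OctadRank

set_option autoImplicit false
open scoped Pointwise
open Cfsg
open Cfsg.Agent.Mathieu Cfsg.Agent.Mathieu.OctRank

namespace Cfsg.Agent.S1604

/-- A hexad stabiliser in the two-point stabiliser has orbits of sizes 1, 16, 60 on the 77 hexads: the 16 hexads disjoint from it and the 60 meeting it in two points. -/
theorem result (p q : Cfsg.GolayPt) (hpq : p ≠ q) (o o' o'' : Finset Cfsg.GolayPt) (ho : o ∈ Cfsg.octads) (ho' : o' ∈ Cfsg.octads) (ho'' : o'' ∈ Cfsg.octads) (hp : p ∈ o ∧ p ∈ o' ∧ p ∈ o'') (hq : q ∈ o ∧ q ∈ o' ∧ q ∈ o'') (h : (o ∩ o').card = (o ∩ o'').card) : {x : Finset Cfsg.GolayPt | x ∈ Cfsg.octads ∧ p ∈ x ∧ q ∈ x ∧ (o ∩ x).card = 2}.ncard = 16 ∧ {x : Finset Cfsg.GolayPt | x ∈ Cfsg.octads ∧ p ∈ x ∧ q ∈ x ∧ (o ∩ x).card = 4}.ncard = 60 ∧ ∃ g : Equiv.Perm Cfsg.GolayPt, g ∈ Cfsg.M24 ∧ g p = p ∧ g q = q ∧ g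 • o = o ∧ g • o' = o'' := by
  obtain ⟨u, hu, hub, hu0, hu1⟩ := exists_frame_two ho hp.1 hq.1 hpq
  have hlt : ∀ i ∈ [0, 1] ++ ([] : List ℕ), i < 24 := by decide
  have hdom : ∀ s : Finset GolayPt, Dom [0, 1] [] (u⁻¹ • s) ↔ p ∈ s ∧ q ∈ s := fun s => by
    simp [Dom, idx_mem_inv_smul, hu0, hu1]
  refine ⟨?_, ?_, ?_⟩
  · rw [← lengths.1, ← count_at hlt hu 2, hub]
    simp only [hdom, and_assoc]
  · rw [← lengths.2.1, ← count_at hlt hu 4, hub]
    simp only [hdom, and_assoc]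
  · have main : ∀ {gens : List ℕ} {hd : ℕ} {steps : List (ℕ × ℕ × ℕ)} {k : ℕ},
        classOK [0, 1] [] gens hd steps k = true → (o ∩ o').card = k →
        ∃ g : Equiv.Perm GolayPt, g ∈ M24 ∧ g p = p ∧ g q = q ∧ g • o = o ∧ g • o' = o'' := by
      intro gens hd steps k hc hk
      obtain ⟨g, hg, hgb, hgf, hge⟩ := map_at hc hlt hu ho' ho'' ((hdom o').2 ⟨hp.2.1, hq.2.1⟩)
        ((hdom o'').2 ⟨hp.2.2, hq.2.2⟩) (by rw [hub, hk]) (by rw [hub, ← h, hk])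
      rw [hub] at hgb
      exact ⟨g, hg, by simpa [hu0] using hgf 0 (by simp), by simpa [hu1] using hgf 1 (by simp),
        hgb, hge⟩
    rcases inter_cases ho ho' with h0 | h2 | h4 | he
    · have : 2 ≤ (o ∩ o').card := by
        refine le_of_eq_of_le (Finset.card_pair hpq).symm (Finset.card_le_card ?_)
        simp [Finset.insert_subset_iff, hp.1, hp.2.1, hq.1, hq.2.1]
      omega
    · exact main checkAA2 h2
    · exact main checkAA4 h4
    · exact ⟨1, one_mem _, rfl, rfl, one_smul _ _, by rw [one_smul, eq_of_inter_eq ho ho'' h he]⟩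

end Cfsg.Agent.S1604
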