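import Cfsg.Statements.S1605
import Cfsg.Agent.Lib.Mathieu.Dodecad.OctadRank

set_option autoImplicit false
open scoped Pointwise
open Cfsg
open Cfsg.Agent.Mathieu Cfsg.Agent.Mathieu.OctRank

namespace Cfsg.Agent.S1605

/-- The two-point stabiliser acts on the 176 octads through the first point avoiding the second with rank 3 and subdegrees 1, 70, 105 (intersections 8, 2, 4). -/
theorem result (p q : Cfsg.GolayPt) (hpq : p ≠ q) : {x : Finset Cfsg.GolayPt | (x ∈ Cfsg.octads ∧ p ∈ x ∧ q ∉ x)}.ncard = 176 ∧ (∀ o o' : Finset Cfsg.GolayPt, (o ∈ Cfsg.octads ∧ p ∈ o ∧ q ∉ o) → (o' ∈ Cfsg.octads ∧ p ∈ o' ∧ q ∉ o') → ∃ g : Equiv.Perm Cfsg.GolayPt, g ∈ Cfsg.M24 ∧ g p = p ∧ g q = q ∧ g • o = o') ∧ ∀ o : Finset Cfsg.GolayPt, (o ∈ Cfsg.octads ∧ p ∈ o ∧ q ∉ o) → {x : Finset Cfsg.GolayPt | (x ∈ Cfsg.octads ∧ p ∈ x ∧ q ∉ x) ∧ (o ∩ x).card = 2}.ncard = 70 ∧ {x : Finset Cfsg.GolayPt | (x ∈ Cfsg.octads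 ∧ p ∈ x ∧ q ∉ x) ∧ (o ∩ x).card = 4}.ncard = 105 ∧ ∀ o' o'' : Finset Cfsg.GolayPt, (o' ∈ Cfsg.octads ∧ p ∈ o' ∧ q ∉ o') → (o'' ∈ Cfsg.octads ∧ p ∈ o'' ∧ q ∉ o'') → (o ∩ o').card = (o ∩ o'').card → ∃ g : Equiv.Perm Cfsg.GolayPt, g ∈ Cfsg.M24 ∧ g p = p ∧ g q = q ∧ g • o = o ∧ g • o' = o'' := by
  obtain ⟨w, hw, hwp, hwq⟩ := M24_exists_map_pair (p := idx ptEnc 0) (q := idx ptEnc 5)
    (by decide +kernel) hpq
  have hlt : ∀ i ∈ [0] ++ [5], i < 24 := by decide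
  have hdom : ∀ (u : Equiv.Perm GolayPt), u (idx ptEnc 0) = p → u (idx ptEnc 5) = q →
      ∀ s : Finset GolayPt, Dom [0] [5] (u⁻¹ • s) ↔ p ∈ s ∧ q ∉ s := fun u h0 h5 s => by
    simp [Dom, idx_mem_inv_smul, h0, h5]
  have frame : ∀ o : Finset GolayPt, (o ∈ octads ∧ p ∈ o ∧ q ∉ o) →
      ∃ u ∈ M24, u • ptsOf octBase = o ∧ u (idx ptEnc 0) = p ∧ u (idx ptEnc 5) = q := by
    rintro o ⟨ho, hp, hq⟩
    obtain ⟨u₀, hu₀, hub₀, hu₀p⟩ := exists_frame_one ho hp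
    obtain ⟨u, hu, hub, huq, hux⟩ := exists_adjust ho hq hu₀ hub₀
    exact ⟨u, hu, hub, (hux _ (by decide +kernel)).trans hu₀p, huq⟩
  refine ⟨?_, fun o o' ho ho' => ?_, fun o hoD => ?_⟩
  · have hcard : {s | s ∈ octads ∧ Dom [0] [5] s}.ncard = 176 := by
      refine (ncard_weight_filter 8 (Dom [0] [5]) (inDom [0] [5]) fun m _ => ?_).trans (by decide +kernel)
      rw [dom_iff hlt]
    rw [← hcard]
    refine ncard_transport w (smul_mem_iff_of_inv (fun g hg y hy => M24_smul_octad hg hy) hw)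
      (Dom [0] [5]) (fun s => p ∈ s ∧ q ∉ s) fun s => ?_
    rw [← hdom w hwp hwq, inv_smul_smul]
  · obtain ⟨u, hu, hub, hup, huq⟩ := frame o ho
    obtain ⟨v, hv, hvb, hvp, hvq⟩ := frame o' ho'
    refine ⟨v * u⁻¹, mul_mem hv (inv_mem hu), ?_, ?_, by rw [mul_smul, ← hub, inv_smul_smul, hvb]⟩
    · rw [Equiv.Perm.mul_apply, show u⁻¹ p = idx ptEnc 0 from u.symm_apply_eq.2 hup.symm, hvp]
    · rw [Equiv.Perm.mul_apply, show u⁻¹ q = idx ptEnc 5 from u.symm_apply_eq.2 huq.symm, hvq]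
  · obtain ⟨u, hu, hub, hup, huq⟩ := frame o hoD
    have hd := hdom u hup huq
    refine ⟨?_, ?_, fun o' o'' ho' ho'' h => ?_⟩
    · rw [← lengths.2.2.1, ← count_at hlt hu 2, hub]
      simp only [hd, and_assoc]
    · rw [← lengths.2.2.2.1, ← count_at hlt hu 4, hub]
      simp only [hd, and_assoc]
    · have main : ∀ {gens : List ℕ} {hh : ℕ} {steps : List (ℕ × ℕ × ℕ)} {k : ℕ},
          classOK [0] [5] gens hh steps k = true → (o ∩ o').card = k →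
          ∃ g : Equiv.Perm GolayPt, g ∈ M24 ∧ g p = p ∧ g q = q ∧ g • o = o ∧ g • o' = o'' := by
        intro gens hh steps k hc hk
        obtain ⟨g, hg, hgb, hgf, hge⟩ := map_at hc hlt hu ho'.1 ho''.1 ((hd o').2 ho'.2)
          ((hd o'').2 ho''.2) (by rw [hub, hk]) (by rw [hub, ← h, hk])
        rw [hub] at hgb
        exact ⟨g, hg, by simpa [hup] using hgf 0 (by simp), by simpa [huq] using hgf 5 (by simp),
          hgb, hge⟩
      rcases inter_cases hoD.1 ho'.1 with h0 | h2 | h4 | he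
      · exact absurd (Finset.card_eq_zero.1 h0)
          (Finset.ne_empty_of_mem (Finset.mem_inter.2 ⟨hoD.2.1, ho'.2.1⟩))
      · exact main checkAC2 h2
      · exact main checkAC4 h4
      · exact ⟨1, one_mem _, rfl, rfl, one_smul _ _,
          by rw [one_smul, eq_of_inter_eq hoD.1 ho''.1 h he]⟩

end Cfsg.Agent.S1605
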