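import Cfsg.Statements.S1608
import Cfsg.Agent.Lib.Mathieu.Dodecad.OctadRank

set_option autoImplicit false
open scoped Pointwise
open Cfsg
open Cfsg.Agent.Mathieu Cfsg.Agent.Mathieu.OctRank

namespace Cfsg.Agent.S1608

/-- The point stabiliser acts on the 506 octads avoiding the point with rank 4 and subdegrees 1, 15, 210, 280, the suborbits being given by intersection size with the fixed octad. -/
theorem result (x : Cfsg.GolayPt) (o : Finset Cfsg.GolayPt) (ho : o ∈ Cfsg.octads) (hx : x ∉ o) : {o' : Finset Cfsg.GolayPt | o' ∈ Cfsg.octads ∧ x ∉ o' ∧ (o ∩ o').card = 0}.ncard = 15 ∧ {o' : Finset Cfsg.GolayPt | o' ∈ Cfsg.octads ∧ x ∉ o' ∧ (o ∩ o').card = 4}.ncard = 210 ∧ {o' : Finset Cfsg.GolayPt | o' ∈ Cfsg.octads ∧ x ∉ o' ∧ (o ∩ o').card = 2}.ncard = 280 ∧ ∀ o' o'' : Finset Cfsg.GolayPt, o' ∈ Cfsg.octads → o'' ∈ Cfsg.octads → x ∉ o' → x ∉ o'' → (o ∩ o').card = (o ∩ o'').card → ∃ g : Equiv.Perm Cfsg.GolayPt,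 g ∈ Cfsg.M24 ∧ g x = x ∧ g • o = o ∧ g • o' = o'' := by
  obtain ⟨y, hy⟩ : o.Nonempty := Finset.card_pos.1 (by rw [octad_card ho]; norm_num)
  obtain ⟨u₀, hu₀, hub₀, -⟩ := exists_frame_one ho hy
  obtain ⟨u, hu, hub, hu5, -⟩ := exists_adjust ho hx hu₀ hub₀
  have hlt : ∀ i ∈ ([] : List ℕ) ++ [5], i < 24 := by decide
  have hdom : ∀ s : Finset GolayPt, Dom [] [5] (u⁻¹ • s) ↔ x ∉ s := fun s => by
    simp [Dom, idx_mem_inv_smul, hu5]
  refine ⟨?_, ?_, ?_, fun o' o'' ho' ho'' hx' hx'' h => ?_⟩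
  · rw [← lengths.2.2.2.2.2.2.1, ← count_at hlt hu 0, hub]
    simp only [hdom]
  · rw [← lengths.2.2.2.2.2.2.2.1, ← count_at hlt hu 4, hub]
    simp only [hdom]
  · rw [← lengths.2.2.2.2.2.2.2.2, ← count_at hlt hu 2, hub]
    simp only [hdom]
  · have main : ∀ {gens : List ℕ} {hd : ℕ} {steps : List (ℕ × ℕ × ℕ)} {k : ℕ},
        classOK [] [5] gens hd steps k = true → (o ∩ o').card = k →
        ∃ g : Equiv.Perm GolayPt, g ∈ M24 ∧ g x = x ∧ g • o = o ∧ g • o' = o'' := by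
      intro gens hd steps k hc hk
      obtain ⟨g, hg, hgb, hgf, hge⟩ := map_at hc hlt hu ho' ho'' ((hdom o').2 hx')
        ((hdom o'').2 hx'') (by rw [hub, hk]) (by rw [hub, ← h, hk])
      rw [hub] at hgb
      exact ⟨g, hg, by simpa [hu5] using hgf 5 (by simp), hgb, hge⟩
    rcases inter_cases ho ho' with h0 | h2 | h4 | he
    · exact main checkC0 h0
    · exact main checkC2 h2
    · exact main checkC4 h4
    · exact ⟨1, one_mem _, rfl, one_smul _ _, by rw [one_smul, eq_of_inter_eq ho ho'' h he]⟩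

end Cfsg.Agent.S1608
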