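import Cfsg.Statements.S1609
import Cfsg.Agent.Lib.Mathieu.IndexSub.Final

set_option autoImplicit false
open scoped Pointwise
open Cfsg

namespace Cfsg.Agent.S1609

/-- Subgroups of index 253 in the Mathieu group of degree 23 are exactly the duad stabilisers and the heptad stabilisers. -/
theorem result (x : Cfsg.GolayPt) (H : Subgroup ↥(MulAction.stabilizer Cfsg.M24 x)) (hH : H.index = 253) : (∃ s : Finset Cfsg.GolayPt, s.card = 2 ∧ x ∉ s ∧ H = (MulAction.stabilizer Cfsg.M24 s).subgroupOf (MulAction.stabilizer Cfsg.M24 x)) ∨ ∃ o ∈ Cfsg.octads, x ∈ o ∧ H = (MulAction.stabilizer Cfsg.M24 o).subgroupOf (MulAction.stabilizer Cfsg.M24 x) := by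
  classical
  set H' := (H.map (MulAction.stabilizer M24 x).subtype).map M24.subtype with hH'
  have hle : H' ≤ M24 := Subgroup.map_subtype_le _
  have hx : ∀ g ∈ H', g x = x := by
    rintro _ ⟨k, ⟨m, -, rfl⟩, rfl⟩
    exact m.2
  have hn : Nat.card H' = 40320 := Mathieu.IndexSub.card_of_index_point hH
  obtain ⟨X, hX, hxX, h2 | h7⟩ := Mathieu.IndexSub.exists_two_or_seven hle hx
    (by rw [hn]; norm_num) (by rw [hn]; norm_num) (by rw [hn])
  · left
    refine ⟨X, h2, hxX, Mathieu.IndexSub.eq_of_le_of_index (c := 253) (fun g hg => ?_) hH ?_ (by norm_num)⟩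
    · exact Mathieu.IndexSub.Inv.smul_eq hX
        (Subgroup.mem_map_of_mem _ (Subgroup.mem_map_of_mem _ hg))
    · show (MulAction.stabilizer (MulAction.stabilizer M24 x) X).index = 253
      rw [MulAction.index_stabilizer, Mathieu.IndexSub.orbit_duads_off h2 hxX,
        Mathieu.IndexSub.card_duads_off]
  · right
    obtain ⟨P⟩ := Mathieu.IndexSub.rigid23 hle hx (by rw [hn]; norm_num)
    have ho := (P.octad_of_seven hX hxX h7).1
    have hxo : x ∈ insert x X := Finset.mem_insert_self _ _
    refine ⟨_, ho, hxo, Mathieu.IndexSub.eq_of_le_of_index (c := 253) (fun g hg => ?_) hH ?_ (by norm_num)⟩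
    · exact Mathieu.IndexSub.Inv.smul_eq (Mathieu.IndexSub.Inv.insert hX hx)
        (Subgroup.mem_map_of_mem _ (Subgroup.mem_map_of_mem _ hg))
    · show (MulAction.stabilizer (MulAction.stabilizer M24 x) (insert x X)).index = 253
      rw [MulAction.index_stabilizer, Mathieu.IndexSub.orbit_octads_at ho hxo,
        Mathieu.IndexSub.card_octads_at]

end Cfsg.Agent.S1609
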