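import Cfsg.Statements.S1610
import Cfsg.Agent.Lib.Hexacode.Basic

set_option autoImplicit false
open Cfsg

namespace Cfsg.Agent.S1610

open Cfsg.Agent.Hexacode

/-- The hexacode has 64 words, minimum weight 4, and weight distribution 0^1 4^45 6^18. -/
theorem result (F : Type*) [Field F] [Fintype F] [DecidableEq F] (hF : Fintype.card F = 4) (ω : F) (hω : ω ^ 2 + ω + 1 = 0) : Nat.card ↥(Cfsg.hexacode F ω) = 64 ∧ (∀ x ∈ Cfsg.hexacode F ω, x ≠ 0 → (Finset.univ.filter fun i => x i ≠ 0).card = 4 ∨ (Finset.univ.filter fun i => x i ≠ 0).card = 6) ∧ {x : Fin 6 → F | x ∈ Cfsg.hexacode F ω ∧ (Finset.univ.filter fun i => x i ≠ 0).card = 4}.ncard = 45 ∧ {x : Fin 6 → F | x ∈ Cfsg.hexacode F ω ∧ (Finset.univ.filter fun i => x i ≠ 0).card = 6}.ncard = 18 := by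
  have hinj : Function.Injective fun (a : Fin 3 → Fin 4) (i : Fin 6) => emb ω (word a i) := fun a b h => by
    rw [← info_word a, ← info_word b,
      show word a = word b from funext fun i => emb_injective hF hω (congrFun h i)]
  have hsupp : ∀ a, (Finset.univ.filter fun i => emb ω (word a i) ≠ 0) =
      Finset.univ.filter fun i => word a i ≠ 0 := fun a =>
    Finset.filter_congr fun i _ => not_congr (emb_eq_zero hF hω)
  have hcount : ∀ k, {x : Fin 6 → F | x ∈ Cfsg.hexacode F ω ∧
      (Finset.univ.filter fun i => x i ≠ 0).card = k}.ncard =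
      ((Finset.univ : Finset (Fin 3 → Fin 4)).filter
        fun a => (Finset.univ.filter fun i => word a i ≠ 0).card = k).card := fun k => by
    rw [← Set.ncard_coe_finset, ← Set.ncard_image_of_injective _ hinj]
    congr 1
    ext x
    simp only [Set.mem_ofPred_eq, Set.mem_image, Finset.mem_coe, Finset.mem_filter_univ, mem_hexacode hF hω]
    constructor
    · rintro ⟨⟨a, rfl⟩, h⟩
      exact ⟨a, by rw [hsupp] at h; exact h, rfl⟩
    · rintro ⟨a, h, rfl⟩
      exact ⟨⟨a, rfl⟩, by rw [hsupp]; exact h⟩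
  refine ⟨?_, ?_, ?_, ?_⟩
  · have hbij : Function.Bijective fun a : Fin 3 → Fin 4 =>
        (⟨fun i => emb ω (word a i), (mem_hexacode hF hω).2 ⟨a, rfl⟩⟩ : Cfsg.hexacode F ω) :=
      ⟨fun a b h => hinj (congrArg Subtype.val h), fun x => by
        obtain ⟨a, ha⟩ := (mem_hexacode hF hω).1 x.2
        exact ⟨a, Subtype.ext ha.symm⟩⟩
    rw [← Nat.card_eq_of_bijective _ hbij]
    simp [Nat.card_eq_fintype_card]
  · intro x hx hx0
    obtain ⟨a, rfl⟩ := (mem_hexacode hF hω).1 hx
    rw [hsupp]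
    rcases weight_word a with rfl | h
    · exact absurd (funext fun i => by rw [word_zero]; rfl) hx0
    · exact h
  · rw [hcount]; exact weight_counts.1
  · rw [hcount]; exact weight_counts.2

end Cfsg.Agent.S1610
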