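import Cfsg.Statements.S1611
import Cfsg.Agent.Lib.Hexacode.Basic

set_option autoImplicit false
open Cfsg

namespace Cfsg.Agent.S1611

open Cfsg.Agent.Hexacode

theorem pair_ok : pairWitness.all (fun w =>
    keeps (Equiv.swap w.1.1 w.1.2.1 * Equiv.swap w.1.1 w.1.2.2) w.2 &&
      (List.finRange 6).all fun i => w.2 i != 0) = true := by decide +kernel

theorem pair_complete : ∀ a b d : Fin 6, a ≠ b → a ≠ d → b ≠ d →
    (pairWitness.any fun w => decide (w.1 = (a, b, d))) = true := by decide +kernel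

theorem diag_ok : (List.range 729).all (fun n => !keeps 1 (diagOf n) ||
    (List.finRange 6).all fun i => diagOf n i == diagOf n 0) = true := by decide +kernel

theorem swap_ok : (List.range 729).all (fun n => !keeps (Equiv.swap 0 1) (diagOf n)) = true := by
  decide +kernel

variable {F : Type*} [Field F] [Fintype F] [DecidableEq F] {ω : F}

/-- Monomial symmetries of the hexacode. -/
def Good (ω : F) (σ : Equiv.Perm (Fin 6)) (c : Fin 6 → Fˣ) : Prop :=
  ∀ x ∈ Cfsg.hexacode F ω, Cfsg.monomialMap σ c x ∈ Cfsg.hexacode F ω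

omit [Fintype F] [DecidableEq F] in
theorem good_one : Good ω 1 1 := fun x hx => by
  rwa [show Cfsg.monomialMap 1 (1 : Fin 6 → Fˣ) x = x from funext fun i => by simp [Cfsg.monomialMap, Equiv.Perm.one_def]]

omit [Fintype F] [DecidableEq F] in
theorem good_mul {σ τ : Equiv.Perm (Fin 6)} {c d : Fin 6 → Fˣ} (h : Good ω σ c) (h' : Good ω τ d) :
    Good ω (σ * τ) (fun i => c i * d (σ.symm i)) := fun x hx => by
  have e : Cfsg.monomialMap (σ * τ) (fun i => c i * d (σ.symm i)) x =
      Cfsg.monomialMap σ c (Cfsg.monomialMap τ d x) := funext fun i => by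
    simp [Cfsg.monomialMap, Equiv.Perm.mul_def, mul_assoc]
  rw [e]
  exact h _ (h' _ hx)

theorem exists_diag (hF : Fintype.card F = 4) (hω : ω ^ 2 + ω + 1 = 0) (c : Fin 6 → Fˣ) :
    ∃ n < 729, ∀ i, (c i : F) = emb ω (diagOf n i) := by
  choose k hk using fun i => emb_surjective hF hω (c i : F)
  have hk0 : ∀ i, k i ≠ 0 := fun i h => (c i).ne_zero (by rw [← hk i, h]; rfl)
  have hlog : ∀ q : Fin 4, q ≠ 0 → ∃ l : Fin 3, (![1, 2, 3] : Fin 3 → Fin 4) l = q := by decide
  choose l hl using fun i => hlog (k i) (hk0 i)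
  refine ⟨(finFunctionFinEquiv l : Fin (3 ^ 6)).val, (finFunctionFinEquiv l).isLt, fun i => ?_⟩
  have e : diagOf (finFunctionFinEquiv l : Fin (3 ^ 6)).val i = k i := by
    have h := congrFun (finFunctionFinEquiv.symm_apply_apply l) i
    rw [← hl i, diagOf]
    congr 1
  rw [e, hk]

theorem good_iff (hF : Fintype.card F = 4) (hω : ω ^ 2 + ω + 1 = 0) {σ : Equiv.Perm (Fin 6)}
    {c : Fin 6 → Fˣ} {k : Fin 6 → Fin 4} (hc : ∀ i, (c i : F) = emb ω (k i)) :
    Good ω σ c ↔ keeps σ k = true := by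
  have e : ∀ w : Fin 6 → Fin 4, Cfsg.monomialMap σ c (fun i => emb ω (w i)) = fun i => emb ω (mon σ k w i) :=
    fun w => funext fun i => by simp [Cfsg.monomialMap, mon, hc, emb_mul hω]
  constructor
  · intro h
    simp only [keeps, List.all_eq_true, isWord_iff]
    intro j _
    have hj : isWord (sysBasis j) = true := by revert j; decide +kernel
    have := h _ ((mem_hexacode hF hω).2 ⟨info (sysBasis j), rfl⟩)
    rw [(isWord_iff _).1 hj, e] at this
    obtain ⟨a, ha⟩ := (mem_hexacode hF hω).1 this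
    have hw : mon σ k (sysBasis j) = word a := funext fun i => emb_injective hF hω (congrFun ha i)
    rw [hw, info_word]
  · intro h x hx
    simp only [keeps, List.all_eq_true, isWord_iff] at h
    obtain ⟨a, rfl⟩ := (mem_hexacode hF hω).1 hx
    rw [e]
    have hb : ∀ j, (fun i => emb ω (mon σ k (sysBasis j) i)) ∈ Cfsg.hexacode F ω := fun j =>
      (mem_hexacode hF hω).2 ⟨info (mon σ k (sysBasis j)), by rw [h j (List.mem_finRange j)]⟩
    have e2 : (fun i => emb ω (mon σ k (word a) i)) =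
        emb ω (a 0) • (fun i => emb ω (mon σ k (sysBasis 0) i)) +
        emb ω (a 1) • (fun i => emb ω (mon σ k (sysBasis 1) i)) +
        emb ω (a 2) • (fun i => emb ω (mon σ k (sysBasis 2) i)) := by
      funext i
      simp only [mon, word, comb, emb_add hF hω, emb_mul hω, Pi.add_apply, Pi.smul_apply, smul_eq_mul]
      ring
    rw [e2]
    exact add_mem (add_mem (Submodule.smul_mem _ _ (hb 0)) (Submodule.smul_mem _ _ (hb 1)))
      (Submodule.smul_mem _ _ (hb 2))

theorem good_scalar (hF : Fintype.card F = 4) (hω : ω ^ 2 + ω + 1 = 0) (c : Fin 6 → Fˣ) (h : Good ω 1 c) :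
    ∀ i j, c i = c j := by
  obtain ⟨n, hn, hc⟩ := exists_diag hF hω c
  have hk := List.all_eq_true.1 diag_ok n (List.mem_range.2 hn)
  rw [(good_iff hF hω hc).1 h] at hk
  simp only [Bool.not_true, Bool.false_or, List.all_eq_true, beq_iff_eq] at hk
  intro i j
  exact Units.ext (by rw [hc, hc, hk i (List.mem_finRange i), hk j (List.mem_finRange j)])

/-- The permutation parts. -/
def permGroup (ω : F) : Subgroup (Equiv.Perm (Fin 6)) where
  carrier := {σ | ∃ c, Good ω σ c}
  one_mem' := ⟨1, good_one⟩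
  mul_mem' := fun {σ τ} ⟨c, hc⟩ ⟨d, hd⟩ => ⟨_, good_mul hc hd⟩
  inv_mem' := fun {σ} hσ => by
    have key : ∀ m : ℕ, ∃ c, Good ω (σ ^ m) c := by
      intro m
      induction m with
      | zero => exact ⟨1, by rw [pow_zero]; exact good_one⟩
      | succ m ih =>
        obtain ⟨c, hc⟩ := ih
        obtain ⟨d, hd⟩ := hσ
        exact ⟨_, by rw [pow_succ]; exact good_mul hc hd⟩
    show ∃ c, Good ω σ⁻¹ c
    rw [show σ⁻¹ = σ ^ (orderOf σ - 1) from inv_eq_of_mul_eq_one_right (by
      rw [← pow_succ', Nat.sub_add_cancel (orderOf_pos σ), pow_orderOf_eq_one])]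
    exact key _

theorem mem_permGroup {σ : Equiv.Perm (Fin 6)} : σ ∈ permGroup ω ↔ ∃ c, Good ω σ c := Iff.rfl

theorem pair_mem (hF : Fintype.card F = 4) (hω : ω ^ 2 + ω + 1 = 0) {a b d : Fin 6} (hab : a ≠ b) (had : a ≠ d) :
    Equiv.swap a b * Equiv.swap a d ∈ permGroup ω := by
  rcases eq_or_ne b d with rfl | hbd
  · rw [Equiv.swap_mul_self]; exact one_mem _
  obtain ⟨w, hw, he⟩ := List.any_eq_true.1 (pair_complete a b d hab had hbd)
  have h := List.all_eq_true.1 pair_ok w hw
  rw [of_decide_eq_true he] at h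
  simp only [Bool.and_eq_true, List.all_eq_true, bne_iff_ne] at h
  obtain ⟨h1, h2⟩ := h
  refine ⟨fun i => Units.mk0 (emb ω (w.2 i)) fun h0 => h2 i (List.mem_finRange i)
    ((emb_eq_zero hF hω).1 h0), ?_⟩
  exact (good_iff hF hω fun i => rfl).2 h1

theorem permGroup_eq (hF : Fintype.card F = 4) (hω : ω ^ 2 + ω + 1 = 0) :
    permGroup ω = alternatingGroup (Fin 6) := by
  have hpair : ∀ p q : Equiv.Perm (Fin 6), p.IsSwap → q.IsSwap → p * q ∈ permGroup ω := by
    rintro _ _ ⟨a, b, hab, rfl⟩ ⟨c, d, hcd, rfl⟩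
    by_cases hac : a = c
    · subst hac; exact pair_mem hF hω hab hcd
    · have h1 := pair_mem hF hω hab hac
      have h2 := pair_mem hF hω (Ne.symm hac) hcd
      have e : Equiv.swap a b * Equiv.swap c d =
          (Equiv.swap a b * Equiv.swap a c) * (Equiv.swap c a * Equiv.swap c d) := by
        rw [Equiv.swap_comm c a, mul_assoc, Equiv.swap_mul_self_mul]
      rw [e]; exact mul_mem h1 h2
  have heven : ∀ σ : Equiv.Perm (Fin 6), (Equiv.Perm.sign σ = 1 → σ ∈ permGroup ω) ∧
      (Equiv.Perm.sign σ = -1 → ∀ p : Equiv.Perm (Fin 6), p.IsSwap → p * σ ∈ permGroup ω) := by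
    intro σ
    induction σ using Equiv.Perm.swap_induction_on with
    | one =>
      refine ⟨fun _ => one_mem _, fun h => ?_⟩
      rw [map_one] at h
      exact absurd h (by decide)
    | swap_mul τ x y hxy ih =>
      rw [map_mul, Equiv.Perm.sign_swap hxy]
      rcases Int.units_eq_one_or (Equiv.Perm.sign τ) with h | h <;> rw [h]
      · refine ⟨fun h' => absurd h' (by decide), fun _ p hp => ?_⟩
        rw [← mul_assoc]
        exact mul_mem (hpair p _ hp ⟨x, y, hxy, rfl⟩) (ih.1 h)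
      · exact ⟨fun _ => ih.2 h _ ⟨x, y, hxy, rfl⟩, fun h' => absurd h' (by decide)⟩
  refine le_antisymm (fun σ hσ => ?_) fun σ hσ => (heven σ).1 (Equiv.Perm.mem_alternatingGroup.1 hσ)
  rw [Equiv.Perm.mem_alternatingGroup]
  rcases Int.units_eq_one_or (Equiv.Perm.sign σ) with h | h
  · exact h
  exfalso
  have h01 : (Equiv.swap 0 1 : Equiv.Perm (Fin 6)) ∈ permGroup ω := by
    have := mul_mem ((heven σ).2 h (Equiv.swap 0 1) ⟨0, 1, by decide, rfl⟩) (inv_mem hσ)
    rwa [mul_inv_cancel_right] at this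
  obtain ⟨c, hc⟩ := h01
  obtain ⟨n, hn, hcn⟩ := exists_diag hF hω c
  have hk := List.all_eq_true.1 swap_ok n (List.mem_range.2 hn)
  rw [(good_iff hF hω hcn).1 hc] at hk
  exact Bool.false_ne_true hk

/-- The monomial automorphism group of the hexacode has order 1080: its diagonal part is the scalars and its permutation parts form the alternating group of degree 6. -/
theorem result (F : Type*) [Field F] [Fintype F] [DecidableEq F] (hF : Fintype.card F = 4) (ω : F) (hω : ω ^ 2 + ω + 1 = 0) : Nat.card {f : Equiv.Perm (Fin 6) × (Fin 6 → Fˣ) // (∀ x ∈ Cfsg.hexacode F ω, Cfsg.monomialMap f.1 f.2 x ∈ Cfsg.hexacode F ω)} = 1080 ∧ (∀ c : Fin 6 → Fˣ, (∀ x ∈ Cfsg.hexacode F ω, Cfsg.monomialMap 1 c x ∈ Cfsg.hexacode F ω) → ∀ i j, c i = c j) ∧ {σ : Equiv.Perm (Fin 6) | ∃ c : Fin 6 → Fˣ, (∀ x ∈ Cfsg.hexacode F ω, Cfsg.monomialMap σ c x ∈ Cfsg.hexacode F ω)} = (alternatingGroup (Fin 6) : Set (Equiv.Perm (Fin 6))) := by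
  have hscal := good_scalar (F := F) hF hω
  have hP := permGroup_eq (F := F) hF hω
  refine ⟨?_, hscal, ?_⟩
  · -- the pairs form an extension of the even permutations by the scalars
    have hex : ∀ σ : alternatingGroup (Fin 6), ∃ c, Good ω σ.1 c := fun σ =>
      (mem_permGroup (ω := ω)).1 (hP.symm ▸ σ.2)
    choose c₀ hc₀ using hex
    have hlam : ∀ (l : Fˣ), Good ω 1 (fun _ => l) := fun l x hx => by
      have : Cfsg.monomialMap 1 (fun _ => l) x = (l : F) • x := funext fun i => by simp [Cfsg.monomialMap, Equiv.Perm.one_def]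
      rw [this]; exact Submodule.smul_mem _ _ hx
    have hGood : ∀ (σ : alternatingGroup (Fin 6)) (l : Fˣ), Good ω σ.1 (fun i => l * c₀ σ i) := fun σ l => by
      have := good_mul (hlam l) (hc₀ σ)
      rwa [one_mul] at this
    have hbij : Function.Bijective fun q : alternatingGroup (Fin 6) × Fˣ =>
        (⟨(q.1.1, fun i => q.2 * c₀ q.1 i), hGood q.1 q.2⟩ :
          {f : Equiv.Perm (Fin 6) × (Fin 6 → Fˣ) //
            (∀ x ∈ Cfsg.hexacode F ω, Cfsg.monomialMap f.1 f.2 x ∈ Cfsg.hexacode F ω)}) := by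
      constructor
      · rintro ⟨σ, l⟩ ⟨τ, m⟩ h
        have h1 := congrArg (fun f => f.1.1) h
        have h2 := congrFun (congrArg (fun f => f.1.2) h) 0
        obtain rfl : σ = τ := Subtype.ext h1
        exact Prod.ext rfl (mul_right_cancel h2)
      · rintro ⟨⟨σ, c⟩, hg⟩
        let σ' : alternatingGroup (Fin 6) := ⟨σ, hP ▸ (mem_permGroup (ω := ω)).2 ⟨c, hg⟩⟩
        obtain ⟨d, hd⟩ := (mem_permGroup (ω := ω)).1 (inv_mem ((mem_permGroup (ω := ω)).2 ⟨c, hg⟩))
        have h1 := good_mul hg hd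
        have h2 := good_mul (hc₀ σ') hd
        rw [mul_inv_cancel] at h1 h2
        refine ⟨(σ', c 0 * (c₀ σ' 0)⁻¹), Subtype.ext (Prod.ext rfl (funext fun i => ?_))⟩
        have e1 : c i * d (σ.symm i) = c 0 * d (σ.symm 0) := hscal _ h1 i 0
        have e2 : c₀ σ' i * d (σ.symm i) = c₀ σ' 0 * d (σ.symm 0) := hscal _ h2 i 0
        show c 0 * (c₀ σ' 0)⁻¹ * c₀ σ' i = c i
        rw [eq_mul_inv_of_mul_eq e1, eq_mul_inv_of_mul_eq e2]
        simp [mul_comm, mul_assoc, mul_left_comm]
    rw [← Nat.card_eq_of_bijective _ hbij, Nat.card_prod, Nat.card_units, Nat.card_eq_fintype_card (α := F), hF]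
    have h360 := two_mul_card_alternatingGroup (α := Fin 6)
    rw [Fintype.card_perm, Fintype.card_fin] at h360
    rw [Nat.card_eq_fintype_card]
    have h720 : Nat.factorial 6 = 720 := rfl
    omega
  · ext σ
    show (∃ c, Good ω σ c) ↔ σ ∈ alternatingGroup (Fin 6)
    rw [← mem_permGroup, hP]

end Cfsg.Agent.S1611
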