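import Cfsg.Statements.S1612
import Cfsg.Agent.Lib.Fischer.Connected
-- import your own Cfsg.Agent.* helpers here

set_option autoImplicit false
open Cfsg

namespace Cfsg.Agent.S1612

/-- In a 3-transposition group (no solvable normal subgroup, perfect derived group), the normaliser of a commuting set of transpositions of maximum size contains a Sylow 2-subgroup and is doubly transitive on the set. -/
theorem result {G : Type*} [Group G] [Finite G] (hsol : ∀ N : Subgroup G, N.Normal → Group.IsSolvable ↥N → N = ⊥) (hperf : ⁅commutator G, commutator G⁆ = commutator G) {D : Set G} (hD : Cfsg.IsThreeTranspositionClass D) {E : Set G} (hE : E ⊆ D) (hc : ∀ a ∈ E, ∀ b ∈ E, Commute a b) (hmax : ∀ E' : Set G, E' ⊆ D → (∀ a ∈ E', ∀ b ∈ E', Commute a b) → E'.ncard ≤ E.ncard) : (∃ P : Sylow 2 G, (P : Subgroup G) ≤ Subgroup.normalizer E) ∧ ∀ a ∈ E, ∀ b ∈ E, ∀ c ∈ E, ∀ d ∈ E, a ≠ b → c ≠ d → ∃ g ∈ Subgroup.normalizer E, g * a * g⁻¹ = c ∧ g * b * g⁻¹ = d := by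
  have hT := Cfsg.Agent.Fischer.TClass.of hD
  have hsol' : ∀ N : Subgroup G, N.Normal → Group.IsSolvable ↥N → N ≤ commutator G → N = ⊥ :=
    fun N h1 h2 _ => hsol N h1 h2
  haveI : Fact (Nat.Prime 2) := ⟨Nat.prime_two⟩
  -- members of D in a 2-group commute
  have htwo : ∀ P : Subgroup G, IsPGroup 2 P → ∀ a ∈ D, ∀ b ∈ D, a ∈ P → b ∈ P → Commute a b := by
    intro P hP a ha b hb haP hbP
    rcases hT.ord a ha b hb with h | h
    · exact hT.toTSet.commute_of_sq ha hb h
    · obtain ⟨k, hk⟩ := hP ⟨a * b, mul_mem haP hbP⟩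
      have hk' : (a * b) ^ 2 ^ k = 1 := congrArg Subtype.val hk
      have := (pow_gcd_eq_one (a := a * b) (m := 2 ^ k) (n := 3)).2 ⟨hk', h⟩
      rw [Nat.Coprime.pow_left k (by norm_num : Nat.Coprime 2 3), pow_one] at this
      exact hT.toTSet.commute_of_sq ha hb (by rw [this, one_pow])
  -- a commuting subset of D lies in a Sylow 2-subgroup
  have hgrp : ∀ F : Set G, F ⊆ D → (∀ a ∈ F, ∀ b ∈ F, Commute a b) →
      IsPGroup 2 ↥(Subgroup.closure F) := by
    intro F hF hFc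
    haveI := Subgroup.isMulCommutative_closure (k := F) (fun a ha b hb => hFc a ha b hb)
    intro z
    refine ⟨1, Subtype.ext ?_⟩
    obtain ⟨z, hz⟩ := z
    show z ^ 2 ^ 1 = 1
    induction hz using Subgroup.closure_induction with
    | mem a ha => rw [pow_one, pow_two, hT.sq a (hF ha)]
    | one => exact one_pow _
    | mul a b ha hb ha' hb' =>
      have hab : Commute a b := congrArg Subtype.val
        ((inferInstance : IsMulCommutative (Subgroup.closure F)).is_comm.comm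
          (⟨a, ha⟩ : Subgroup.closure F) ⟨b, hb⟩)
      rw [hab.mul_pow, ha', hb', one_mul]
    | inv a _ ha' => rw [inv_pow, ha', inv_one]
  refine ⟨?_, ?_⟩
  · obtain ⟨S, hS⟩ := (hgrp E hE hc).exists_le_sylow
    have hEeq : {d : G | d ∈ D ∧ d ∈ (S : Subgroup G)} = E :=
      (Set.eq_of_subset_of_ncard_le
        (show E ⊆ {d : G | d ∈ D ∧ d ∈ (S : Subgroup G)} from fun e he => ⟨hE he, hS (Subgroup.subset_closure he)⟩)
        (hmax _ (fun d hd => hd.1) fun a ha b hb => htwo _ S.isPGroup' a ha.1 b hb.1 ha.2 hb.2)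
        (Set.toFinite _)).symm
    refine ⟨S, fun s hs => ?_⟩
    rw [Subgroup.mem_set_normalizer_iff]
    intro e
    rw [← hEeq]
    refine ⟨fun he => ⟨hT.conj s e he.1, mul_mem (mul_mem hs he.2) (inv_mem hs)⟩, fun he => ?_⟩
    have h1 := hT.conj s⁻¹ _ he.1
    have h2 := mul_mem (mul_mem (inv_mem hs) he.2) hs
    simp only [mul_assoc, inv_mul_cancel_left, inv_inv, inv_mul_cancel, mul_one] at h1 h2
    exact ⟨h1, h2⟩
  · intro a ha b hb c hcE d hdE hab hcd
    obtain ⟨g, hg⟩ := hT.trans a (hE ha) c (hE hcE)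
    have h1 : g * b * g⁻¹ ∈ Cfsg.Agent.Fischer.perp D c :=
      hg ▸ Cfsg.Agent.Fischer.conj_mem_perp hT g ⟨hE hb, fun e => hab e.symm, hc a ha b hb⟩
    obtain ⟨k, hk, hk'⟩ := Cfsg.Agent.Fischer.perp_transitive_centralizer hT hsol' (hE hcE) h1
      (b := d) ⟨hE hdE, fun e => hcd e.symm, hc c hcE d hdE⟩
    let m := k * g
    have hma : m * a * m⁻¹ = c := by
      rw [show m * a * m⁻¹ = k * (g * a * g⁻¹) * k⁻¹ by simp [m, mul_assoc], hg, hk]
    have hmb : m * b * m⁻¹ = d := by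
      rw [show m * b * m⁻¹ = k * (g * b * g⁻¹) * k⁻¹ by simp [m, mul_assoc], hk']
    let C : Subgroup G := Subgroup.centralizer {c, d}
    let E₂ : Set G := (fun e => m * e * m⁻¹) '' E
    have hE₂D : E₂ ⊆ D := by
      rintro _ ⟨e, he, rfl⟩
      exact hT.conj m e (hE he)
    have hE₂c : ∀ p ∈ E₂, ∀ q ∈ E₂, Commute p q := by
      rintro _ ⟨p, hp, rfl⟩ _ ⟨q, hq, rfl⟩
      exact (hc p hp q hq).conj m
    have hC1 : Subgroup.closure E ≤ C := by
      refine (Subgroup.closure_le _).2 fun e he => Subgroup.mem_centralizer_iff.2 fun u hu => ?_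
      rcases hu with rfl | rfl
      · exact hc _ hcE e he
      · exact hc _ hdE e he
    have hC2 : Subgroup.closure E₂ ≤ C := by
      refine (Subgroup.closure_le _).2 fun e he => Subgroup.mem_centralizer_iff.2 fun u hu => ?_
      rcases hu with rfl | rfl
      · exact hE₂c _ ⟨a, ha, hma⟩ e he
      · exact hE₂c _ ⟨b, hb, hmb⟩ e he
    obtain ⟨P, hP⟩ := (((hgrp E hE hc).comap_subtype (K := C))).exists_le_sylow
    obtain ⟨Q, hQ⟩ := (((hgrp E₂ hE₂D hE₂c).comap_subtype (K := C))).exists_le_sylow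
    obtain ⟨h, hh⟩ := MulAction.exists_smul_eq C Q P
    have hin1 : ∀ e ∈ E, e ∈ (P : Subgroup C).map C.subtype := fun e he =>
      ⟨⟨e, hC1 (Subgroup.subset_closure he)⟩, hP (Subgroup.subset_closure he), rfl⟩
    let n : G := (h : G) * m
    have hin2 : ∀ e ∈ E, n * e * n⁻¹ ∈ (P : Subgroup C).map C.subtype := by
      intro e he
      have hme : m * e * m⁻¹ ∈ Subgroup.closure E₂ := Subgroup.subset_closure ⟨e, he, rfl⟩
      refine ⟨h * ⟨m * e * m⁻¹, hC2 hme⟩ * h⁻¹, ?_, by simp [n, mul_assoc]⟩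
      rw [← hh]
      exact Subgroup.mem_map.2 ⟨⟨m * e * m⁻¹, hC2 hme⟩, hQ hme, by simp [MulAut.smul_def]⟩
    have hP2 : IsPGroup 2 ↥((P : Subgroup C).map C.subtype) := P.isPGroup'.map _
    let E' : Set G := {e | e ∈ D ∧ e ∈ (P : Subgroup C).map C.subtype}
    have hE' : E = E' := Set.eq_of_subset_of_ncard_le (fun e he => ⟨hE he, hin1 e he⟩)
      (hmax E' (fun e he => he.1) fun p hp q hq => htwo _ hP2 p hp.1 q hq.1 hp.2 hq.2)
      (Set.toFinite _)
    have hn : (fun e => n * e * n⁻¹) '' E = E := by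
      refine Set.eq_of_subset_of_ncard_le ?_ ?_ (Set.toFinite _)
      · rintro _ ⟨e, he, rfl⟩
        rw [hE']
        exact ⟨hT.conj n e (hE he), hin2 e he⟩
      · rw [Set.ncard_image_of_injective _ fun p q e => mul_left_cancel (mul_right_cancel e)]
    refine ⟨n, Subgroup.mem_set_normalizer_iff.2 fun e => ⟨fun he => ?_, fun he => ?_⟩, ?_, ?_⟩
    · exact hn.subset ⟨e, he, rfl⟩
    · obtain ⟨e', he', hee⟩ := hn.symm.subset he
      rwa [← mul_left_cancel (mul_right_cancel hee)]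
    · have hh1 := Subgroup.mem_centralizer_iff.1 h.2 c (Or.inl rfl)
      rw [show n * a * n⁻¹ = (h : G) * (m * a * m⁻¹) * (h : G)⁻¹ by simp [n, mul_assoc], hma,
        ← hh1, mul_inv_cancel_right]
    · have hh1 := Subgroup.mem_centralizer_iff.1 h.2 d (Or.inr rfl)
      rw [show n * b * n⁻¹ = (h : G) * (m * b * m⁻¹) * (h : G)⁻¹ by simp [n, mul_assoc], hmb,
        ← hh1, mul_inv_cancel_right]

end Cfsg.Agent.S1612
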