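import Cfsg.Statements.S1615
import Cfsg.Agent.Lib.Fischer.WidthTwo
import Cfsg.Agent.Lib.Transpos.S4
import Cfsg.Agent.S4203

set_option autoImplicit false
open Cfsg

namespace Cfsg.Agent.S1615

open Cfsg.Agent.Fischer

theorem solvable_perm_fin {i : ℕ} (hi : i ≤ 4) : Group.IsSolvable (Equiv.Perm (Fin i)) := by
  have := S4203.solvable_perm_four
  exact Group.isSolvable_of_isSolvable_injective
    (Equiv.Perm.viaEmbeddingHom_injective (Fin.castLEEmb hi))

theorem sym_five_of_card {G : Type*} [Group G] [Finite G]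
    (hsol : ∀ N : Subgroup G, N.Normal → Group.IsSolvable ↥N → N = ⊥) (hne : Nontrivial G)
    (hcard : Nat.card G ≤ 120) (φ : Equiv.Perm (Fin 4) →* G) (hφ : Function.Injective φ) :
    Nonempty (G ≃* Equiv.Perm (Fin 5)) := by
  have h24 : Nat.card φ.range = 24 := by
    rw [← Nat.card_congr (MonoidHom.ofInjective hφ).toEquiv, Nat.card_perm, Nat.card_fin]
    rfl
  have hidx := φ.range.card_mul_index
  rw [h24] at hidx
  have hi : φ.range.index ≤ 5 := by omega
  have hcore : φ.range.normalCore = ⊥ := by
    refine hsol _ inferInstance ?_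
    have := S4203.solvable_perm_four
    have : Group.IsSolvable φ.range := Group.isSolvable_of_surjective φ.rangeRestrict_surjective
    exact Group.isSolvable_of_isSolvable_injective
      (Subgroup.inclusion_injective φ.range.normalCore_le)
  let e : G ⧸ φ.range ≃ Fin φ.range.index := Finite.equivFin _
  let f : G →* Equiv.Perm (Fin φ.range.index) :=
    e.permCongrHom.toMonoidHom.comp (MulAction.toPermHom G (G ⧸ φ.range))
  have hf : Function.Injective f := by
    refine e.permCongrHom.injective.comp ?_
    rw [← MonoidHom.ker_eq_bot_iff, ← Subgroup.normalCore_eq_ker, hcore]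
  by_cases h4 : φ.range.index ≤ 4
  · have := solvable_perm_fin h4
    have : Group.IsSolvable G := Group.isSolvable_of_isSolvable_injective hf
    have htop := hsol ⊤ inferInstance inferInstance
    exact absurd htop top_ne_bot
  · have h5 : φ.range.index = 5 := by omega
    let f5 : G →* Equiv.Perm (Fin 5) := (finCongr h5).permCongrHom.toMonoidHom.comp f
    have hf5 : Function.Injective f5 := (finCongr h5).permCongrHom.injective.comp hf
    refine ⟨MulEquiv.ofBijective f5 ((Nat.bijective_iff_injective_and_card f5).2 ⟨hf5, ?_⟩)⟩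
    rw [Nat.card_perm, Nat.card_fin, ← hidx, h5]
    rfl

/-- If O(⟨D_x⟩) is not central in ⟨D_x⟩ for some transposition x, the 3-transposition group is the symmetric group of degree 5. -/
theorem result {G : Type*} [Group G] [Finite G] (hsol : ∀ N : Subgroup G, N.Normal → Group.IsSolvable ↥N → N = ⊥) (hperf : ⁅commutator G, commutator G⁆ = commutator G) {D : Set G} (hD : Cfsg.IsThreeTranspositionClass D) (x : G) (hx : x ∈ D) (h : ¬ Cfsg.oddCore ↥(Subgroup.closure {y : G | y ∈ D ∧ y ≠ x ∧ Commute x y}) ≤ Subgroup.center ↥(Subgroup.closure {y : G | y ∈ D ∧ y ≠ x ∧ Commute x y})) : Nonempty (G ≃* Equiv.Perm (Fin 5)) := by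
  have hT := TClass.of hD
  have hsol' : ∀ N : Subgroup G, N.Normal → Group.IsSolvable ↥N → N ≤ commutator G → N = ⊥ :=
    fun N h1 h2 _ => hsol N h1 h2
  have hTw := hasTwins_of_core_not_central hT hsol' hx h
  have hne : (perp D x).Nonempty := by
    by_contra hne
    apply h
    show Cfsg.oddCore ↥(Subgroup.closure (perp D x)) ≤ Subgroup.center ↥(Subgroup.closure (perp D x))
    intro g _
    have he : Subgroup.closure (perp D x) = ⊥ := by
      rw [Set.not_nonempty_iff_eq_empty.1 hne, Subgroup.closure_empty]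
    have := g.2
    simp only [he, Subgroup.mem_bot] at this
    rw [show g = 1 from Subtype.ext this]
    exact one_mem _
  obtain ⟨hn, hk, hμ⟩ := twins_params hT hsol' hperf hTw hx hne
  have hcen : Subgroup.center G = ⊥ :=
    hsol _ inferInstance (Group.isSolvable_of_comm fun a b => Subtype.ext
      (Subgroup.mem_center_iff.1 b.2 a))
  obtain ⟨hcard, b, hb, w, hw, hxw, hbw⟩ := card_le_120 hT hcen hn hk hμ
    (fun u hu a ha b hb hc => width_two hT hsol' hTw hu ha hb hc) hx
  have hR : Transpos.S4Rel x w b := by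
    refine ⟨hT.sq x hx, hT.sq w hw, hT.sq b hb.1, ?_, ?_, hb.2.2.eq.symm⟩
    · exact hT.toTSet.braid hw hx fun k => hxw k.symm
    · exact hT.toTSet.braid hb.1 hw hbw
  exact sym_five_of_card hsol ⟨x, 1, hT.ne_one x hx⟩ hcard _
    (Transpos.s4Hom_injective hR fun e => hb.2.1 e.symm)

end Cfsg.Agent.S1615
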