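import Cfsg.Statements.S1614
import Cfsg.Agent.Lib.Fischer.Solvable.Choose
import Cfsg.Agent.Lib.Fischer.Solvable.ModelTable
import Cfsg.Agent.S1615

set_option autoImplicit false
open Cfsg

namespace Cfsg.Agent.S1614

open Cfsg.Agent.Fischer Cfsg.Agent.Fischer.Solv Cfsg.Agent.Presented

/-- If the commuting transpositions of one transposition generate a solvable group, a Fischer 3-transposition group is S5, S6, PSU(4, 2) or PSU(5, 2). -/
theorem result {G : Type*} [Group G] [Finite G] (hsol : ∀ N : Subgroup G, N.Normal → Group.IsSolvable ↥N → N = ⊥) (hperf : ⁅commutator G, commutator G⁆ = commutator G) {D : Set G} (hD : Cfsg.IsThreeTranspositionClass D) (x : G) (hx : x ∈ D) (hs : Group.IsSolvable ↥(Subgroup.closure {y : G | y ∈ D ∧ y ≠ x ∧ Commute x y})) : Nonempty (G ≃* Equiv.Perm (Fin 5)) ∨ Nonempty (G ≃* Equiv.Perm (Fin 6)) ∨ ∃ (F : Type) (_ : Field F) (_ : Fintype F), Fintype.card F = 4 ∧ (Nonempty (G ≃* Cfsg.PSU 4 F 2) ∨ Nonempty (G ≃* Cfsg.PSU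 5 F 2)) := by
  by_cases hO : Cfsg.oddCore ↥(Subgroup.closure {y : G | y ∈ D ∧ y ≠ x ∧ Commute x y}) ≤
      Subgroup.center ↥(Subgroup.closure {y : G | y ∈ D ∧ y ≠ x ∧ Commute x y})
  swap
  · exact Or.inl (S1615.result hsol hperf hD x hx hO)
  have hT := TClass.of hD
  have hQ := GQ.of_solvable hT hsol hperf hx hs hO
  have hne : Nontrivial G := ⟨x, 1, hT.ne_one x hx⟩
  obtain ⟨s, n, hcase, hs', hn, hA, hN⟩ := hQ.params hx
  refine Or.inr ?_
  rcases hcase with ⟨rfl, rfl⟩ | ⟨rfl, rfl⟩ | ⟨rfl, rfl⟩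
  · obtain ⟨e⟩ := hQ.iso_six hs' hn hA hN hx
    obtain ⟨e'⟩ := nonempty_six_iso
    exact Or.inl ⟨e.trans e'⟩
  · obtain ⟨e⟩ := hQ.iso_u4 hs' hn hA hN hx
    refine Or.inr ⟨GaloisField 2 2, inferInstance, Fintype.ofFinite _, ?_, Or.inl ?_⟩
    · rw [Fintype.card_eq_nat_card, GaloisField.card 2 2 two_ne_zero]; norm_num
    let _ : Fintype (GaloisField 2 2) := Fintype.ofFinite _
    refine iso_PSU (F := GaloisField 2 2) hQ.center hne DataU4.model e code4 rfl (by decide) (by decide)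
      (checkBelow_spec code4_cover) (checkBelow_spec code4_pt) (checkBelow_spec code4_tv) ?_
    rw [Fintype.card_eq_nat_card, GaloisField.card 2 2 two_ne_zero]; norm_num
  · obtain ⟨e⟩ := hQ.iso_u5 hs' hn hA hN hx
    refine Or.inr ⟨GaloisField 2 2, inferInstance, Fintype.ofFinite _, ?_, Or.inr ?_⟩
    · rw [Fintype.card_eq_nat_card, GaloisField.card 2 2 two_ne_zero]; norm_num
    let _ : Fintype (GaloisField 2 2) := Fintype.ofFinite _
    refine iso_PSU (F := GaloisField 2 2) hQ.center hne DataU5.model e code5 rfl (by decide) (by decide)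
      (checkBelow_spec code5_cover) (checkBelow_spec code5_pt) (checkBelow_spec code5_tv) ?_
    rw [Fintype.card_eq_nat_card, GaloisField.card 2 2 two_ne_zero]; norm_num

end Cfsg.Agent.S1614
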