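import Cfsg.Statements.S1618
import Cfsg.Agent.Lib.ZStar.Main
import Cfsg.Agent.Lib.ZStar.PPowerClass

set_option autoImplicit false
open Cfsg
open Cfsg.Agent
open scoped commutatorElement

namespace Cfsg.Agent.S1618

/-- A group generated by a class of involutions whose pairwise products (of distinct members) have p-power order for a fixed odd prime p has nilpotent derived subgroup. -/
theorem result {G : Type*} [Group G] [Finite G] (p : ℕ) (hp : p.Prime) (hodd : p ≠ 2) {D : Set G} (hinv : ∀ d ∈ D, orderOf d = 2) (hconj : ∃ d ∈ D, D = conjugatesOf d) (hgen : Subgroup.closure D = ⊤) (hprod : ∀ x ∈ D, ∀ y ∈ D, x ≠ y → ∃ k : ℕ, orderOf (x * y) = p ^ k) : Group.IsNilpotent ↥(commutator G) := by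
  haveI : Fact p.Prime := ⟨hp⟩
  obtain ⟨d, hdD, rfl⟩ := hconj
  have hd : orderOf d = 2 := hinv d hdD
  have hprod' : ∀ a ∈ conjugatesOf d, ∀ b ∈ conjugatesOf d, ∃ k : ℕ, orderOf (a * b) = p ^ k := by
    intro a ha b hb
    rcases eq_or_ne a b with rfl | hne
    · exact ⟨0, by rw [pow_zero, orderOf_eq_one_iff]; exact ZStar.PPowerClass.mul_self (hinv a ha)⟩
    · exact hprod a ha b hb hne
  have key := ZStar.PPowerClass.mul_mem_pCore hp hd hprod'
    (ZStar.inZStar (ZStar.PPowerClass.isolated_of_products hp hodd hd hprod'))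
  set N := Cfsg.pCore p G
  have hle : commutator G ≤ N := by
    have hgen' : ∀ q : G ⧸ N, q ∈ Subgroup.zpowers (QuotientGroup.mk' N d) := by
      intro q
      obtain ⟨g, rfl⟩ := QuotientGroup.mk'_surjective N q
      have hg : g ∈ Subgroup.closure (conjugatesOf d) := hgen ▸ Subgroup.mem_top g
      induction hg using Subgroup.closure_induction with
      | mem a ha =>
        have h1 : QuotientGroup.mk' N (a * d) = 1 := (QuotientGroup.eq_one_iff _).2 (key a ha d mem_conjugatesOf_self)
        rw [map_mul, mul_eq_one_iff_eq_inv] at h1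
        rw [h1]
        exact inv_mem (Subgroup.mem_zpowers _)
      | one => rw [map_one]; exact one_mem _
      | mul a b _ _ ha hb => rw [map_mul]; exact mul_mem ha hb
      | inv a _ ha => rw [map_inv]; exact inv_mem ha
    rw [commutator_def, Subgroup.commutator_le]
    intro a _ b _
    rw [← QuotientGroup.eq_one_iff]
    show QuotientGroup.mk' N ⁅a, b⁆ = 1
    rw [map_commutatorElement, commutatorElement_eq_one_iff_commute]
    obtain ⟨i, hi⟩ := Subgroup.mem_zpowers_iff.1 (hgen' (QuotientGroup.mk' N a))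
    obtain ⟨k, hk⟩ := Subgroup.mem_zpowers_iff.1 (hgen' (QuotientGroup.mk' N b))
    rw [← hi, ← hk]
    exact (Commute.refl _).zpow_zpow i k
  exact ((PCore.isPGroup_pCore (p := p) (G := G)).to_le hle).isNilpotent

end Cfsg.Agent.S1618
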