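import Cfsg.Statements.S1620
import Cfsg.Agent.Lib.HallJanko.Simple

set_option autoImplicit false
open Quaternion
open Cfsg

namespace Cfsg.Agent.S1620

/-- The Hall–Janko group is simple and non-abelian. -/
theorem result : IsSimpleGroup Cfsg.Spor.J2 ∧ ∃ a b : Cfsg.Spor.J2, a * b ≠ b * a := by
  haveI : Nontrivial Cfsg.Spor.J2 := HJ.isSimple_J2.toNontrivial
  refine ⟨HJ.isSimple_J2, HJ.isoP.symm ⟨HJ.gperm 0, HJ.mem_P 0⟩, HJ.isoP.symm ⟨HJ.gperm 2, HJ.mem_P 2⟩,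
    fun h => HJ.gperm_noncomm ?_⟩
  rw [← map_mul, ← map_mul] at h
  exact congrArg Subtype.val (HJ.isoP.symm.injective h)

end Cfsg.Agent.S1620
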