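import Cfsg.Statements.S1621
import Cfsg.Agent.Lib.HallJanko.Group

set_option autoImplicit false
open Quaternion
open Cfsg

namespace Cfsg.Agent.S1621

/-- The icosian Leech lattice has 37800 minimal vectors giving 315 distinct reflections. -/
theorem result : {r : Fin 3 → ℍ[ℝ] | r ∈ Cfsg.Spor.icoLeech ∧ Cfsg.Spor.qip r r = 4}.ncard = 37800 ∧ {f : Equiv.Perm ↥Cfsg.Spor.icoLeech | Cfsg.Spor.IsIcoReflection f}.ncard = 315 := by
  constructor
  · show {r : Fin 3 → ℍ[ℝ] | Cfsg.Agent.HJ.Good r}.ncard = 37800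
    rw [HJ.minimal_eq, Set.ncard_range_of_injective HJ.unit_rep_injective, Nat.card_prod, Nat.card_fin,
      ← Nat.card_congr (HJ.unitsL_nodup.1.getEquiv HJ.unitsL), Nat.card_fin, HJ.unitsL_nodup.2]
  · rw [HJ.reflection_range, Set.ncard_range_of_injective HJ.R_injective, Nat.card_fin]

end Cfsg.Agent.S1621
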