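import Cfsg.Statements.S1622
import Cfsg.Agent.Lib.HallJanko.Group

set_option autoImplicit false
open Quaternion
open Cfsg

namespace Cfsg.Agent.S1622

/-- The reflection group is transitive on its 315 reflections by conjugation. -/
theorem result (f f' : Equiv.Perm ↥Cfsg.Spor.icoLeech) (hf : Cfsg.Spor.IsIcoReflection f) (hf' : Cfsg.Spor.IsIcoReflection f') : ∃ g ∈ Cfsg.Spor.twoJ2, g * f * g⁻¹ = f' := by
  obtain ⟨i, rfl⟩ : f ∈ Set.range HJ.R := HJ.reflection_range ▸ hf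
  obtain ⟨j, rfl⟩ : f' ∈ Set.range HJ.R := HJ.reflection_range ▸ hf'
  obtain ⟨v, hv⟩ := HJ.R_eq_conj i
  obtain ⟨w, hw⟩ := HJ.R_eq_conj j
  refine ⟨HJ.wG w * (HJ.wG v)⁻¹, mul_mem (HJ.closure_range_G_le (HJ.wG_mem w))
    (inv_mem (HJ.closure_range_G_le (HJ.wG_mem v))), ?_⟩
  rw [hv, hw]
  group

end Cfsg.Agent.S1622
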