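import Cfsg.Statements.S1624
import Cfsg.Agent.Lib.HallJanko.Subgroup6048

set_option autoImplicit false
open Quaternion
open Cfsg

namespace Cfsg.Agent.S1624

/-- The Hall–Janko group contains PSU(3, 3) with index 100 and acts on the 100 cosets with rank 3 and subdegrees 1, 36, 63. -/
theorem result : ∃ H : Subgroup Cfsg.Spor.J2, H.index = 100 ∧ (∃ (F : Type) (_ : Field F) (_ : Fintype F), Fintype.card F = 9 ∧ Nonempty (↥H ≃* Cfsg.PSU 3 F 3)) ∧ ∃ c₁ c₂ : Cfsg.Spor.J2 ⧸ H, (MulAction.orbit ↥H c₁).ncard = 36 ∧ (MulAction.orbit ↥H c₂).ncard = 63 := by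
  let e := HJ.isoP
  let H : Subgroup Cfsg.Spor.J2 := HJ.H100.comap e.toMonoidHom
  have hH : ∀ g, g ∈ H ↔ HJ.psi (e g) 0 = 0 := fun g => Iff.rfl
  obtain ⟨i⟩ := HJ.H100_iso
  obtain ⟨g1, hg1⟩ := HJ.psi_transitive 1
  obtain ⟨g6, hg6⟩ := HJ.psi_transitive 6
  obtain ⟨o1, o6⟩ := HJ.orbit_sets
  have hset : ∀ p : Fin 100, {j | ∃ h ∈ H, (HJ.psi.comp e.toMonoidHom) h p = j} =
      {j | ∃ h ∈ HJ.H100, HJ.psi h p = j} := fun p => Set.ext fun j =>
    ⟨fun ⟨h, hh, hj⟩ => ⟨e h, hh, hj⟩, fun ⟨h, hh, hj⟩ => ⟨e.symm h, by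
      refine (hH _).2 ?_; rw [e.apply_symm_apply]; exact hh, by
      show HJ.psi (e (e.symm h)) p = j; rw [e.apply_symm_apply]; exact hj⟩⟩
  refine ⟨H, ?_, ⟨HJ.E9, inferInstance, inferInstance, ?_, ?_⟩,
    ((e.symm g6 : Cfsg.Spor.J2) : Cfsg.Spor.J2 ⧸ H), ((e.symm g1 : Cfsg.Spor.J2) : Cfsg.Spor.J2 ⧸ H), ?_, ?_⟩
  · rw [Subgroup.index_comap_of_surjective _ e.surjective, HJ.index_H100]
  · simpa using HJ.card_E9
  · exact ⟨((e.subgroupMap H).trans (MulEquiv.subgroupCongr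
      (Subgroup.map_comap_eq_self_of_surjective e.surjective _))).trans i⟩
  · rw [HJ.coset_orbit (HJ.psi.comp e.toMonoidHom) H hH]
    simp only [MonoidHom.comp_apply, MulEquiv.coe_toMonoidHom, MulEquiv.apply_symm_apply, hg6]
    have := hset 6
    simp only [MonoidHom.comp_apply, MulEquiv.coe_toMonoidHom] at this
    rw [this, o6, Set.ncard_coe_finset, HJ.orbSet_cards.2.1]
  · rw [HJ.coset_orbit (HJ.psi.comp e.toMonoidHom) H hH]
    simp only [MonoidHom.comp_apply, MulEquiv.coe_toMonoidHom, MulEquiv.apply_symm_apply, hg1]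
    have := hset 1
    simp only [MonoidHom.comp_apply, MulEquiv.coe_toMonoidHom] at this
    rw [this, o1, Set.ncard_coe_finset, HJ.orbSet_cards.1]

end Cfsg.Agent.S1624
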