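import Cfsg.Statements.S1627
import Cfsg.Agent.Lib.RuAut.Simple

set_option autoImplicit false
open Cfsg

namespace Cfsg.Agent.S1627

/-- The automorphism group of the rank-28 Hermitian lattice is a fourfold cover of a simple group of order 145926144000 = 2^14·3^3·5^3·7·13·29. -/
theorem result : Nat.card ↥(Subgroup.center ↥Cfsg.Spor.fourRu) = 4 ∧ Nat.card Cfsg.Spor.Ru = 145926144000 ∧ IsSimpleGroup Cfsg.Spor.Ru := by
  exact ⟨Cfsg.Agent.RuAut.card_center, Cfsg.Agent.RuAut.card_Ru, Cfsg.Agent.RuAut.simple_Ru⟩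

end Cfsg.Agent.S1627
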