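import Cfsg.Statements.S1628
import Mathlib
import Cfsg.Agent.Lib.RuLattice.MinNorm
-- import your own Cfsg.Agent.* helpers here

set_option autoImplicit false
open Cfsg

namespace Cfsg.Agent.S1628

/-- The Conway–Wales lattice as stored is even with no vectors of true norm 2: stored norms are multiples of 8, never equal to 8, and the minimum over nonzero vectors is 16. -/
theorem result : (∀ x ∈ Cfsg.Spor.ruLattice, (8 : ℤ) ∣ Cfsg.Spor.ruNorm x) ∧ (∀ x ∈ Cfsg.Spor.ruLattice, Cfsg.Spor.ruNorm x ≠ 8) ∧ (∀ x ∈ Cfsg.Spor.ruLattice, x ≠ 0 → 16 ≤ Cfsg.Spor.ruNorm x) ∧ ∃ x ∈ Cfsg.Spor.ruLattice, Cfsg.Spor.ruNorm x = 16 := by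
  have h8 : ∀ x ∈ Cfsg.Spor.ruLattice, (8 : ℤ) ∣ Cfsg.Spor.ruNorm x :=
    fun x hx => RuMin.eight_dvd_norm (RuMin.lattice_le x hx)
  have hne : ∀ x ∈ Cfsg.Spor.ruLattice, Cfsg.Spor.ruNorm x ≠ 8 :=
    fun x hx => RuMin.not_norm_eight (RuMin.lattice_le x hx)
  refine ⟨h8, hne, fun x hx h0 => ?_, Cfsg.Spor.ruTable.getD 0 0, ?_, by decide +kernel⟩
  · have hpos : 0 < Cfsg.Spor.ruNorm x := by
      obtain ⟨p, hp⟩ := Function.ne_iff.1 h0
      exact Finset.sum_pos' (fun q _ => GaussianInt.norm_nonneg _)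
        ⟨p, Finset.mem_univ _, GaussianInt.norm_pos.2 hp⟩
    obtain ⟨k, hk⟩ := h8 x hx
    have := hne x hx
    omega
  · rw [Cfsg.Spor.ruLattice, AddSubgroup.mem_sInf]
    intro L hL
    refine hL.1 _ ?_
    have hlen : 0 < Cfsg.Spor.ruTable.length := by decide
    rw [List.getD_eq_getElem _ _ hlen]
    exact List.getElem_mem hlen

end Cfsg.Agent.S1628
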