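import Cfsg.Statements.S1632
import Cfsg.Agent.Lib.Theta.LevelOne

set_option autoImplicit false
open Matrix
open Cfsg

namespace Cfsg.Agent.S1632

open ModularForm EisensteinSeries ArithmeticFunction Cfsg.Agent.Theta
open UpperHalfPlane (qExpansion)
open scoped MatrixGroups

theorem coeff_E4 : ∀ m : ℕ, m < 5 →
    (qExpansion 1 E₄).coeff m = ([1, 240, 2160, 6720, 17520].getD m 0 : ℕ) := by
  intro m hm
  rw [E_qExpansion_coeff _ ⟨2, rfl⟩, show bernoulli 4 = -1 / 30 by decide +kernel]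
  interval_cases m <;> norm_num [ArithmeticFunction.sigma_apply, show Nat.divisors 2 = {1, 2} by decide,
    show Nat.divisors 3 = {1, 3} by decide, show Nat.divisors 4 = {1, 2, 4} by decide]

theorem coeff_E6 : ∀ m : ℕ, m < 5 →
    (qExpansion 1 E₆).coeff m = ([1, -504, -16632, -122976, -532728].getD m 0 : ℤ) := by
  intro m hm
  rw [E_qExpansion_coeff _ ⟨3, rfl⟩, show bernoulli 6 = 1 / 42 by decide +kernel]
  interval_cases m <;> norm_num [ArithmeticFunction.sigma_apply, show Nat.divisors 2 = {1, 2} by decide,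
    show Nat.divisors 3 = {1, 3} by decide, show Nat.divisors 4 = {1, 2, 4} by decide]

/-- An even unimodular lattice of rank 24 without roots has 196560, 16773120 and 398034000 vectors of norms 4, 6 and 8. -/
theorem result (B : Matrix (Fin 24) (Fin 24) ℤ) (hsymm : B.IsSymm) (hpos : ∀ x : Fin 24 → ℤ, x ≠ 0 → 0 < x ⬝ᵥ (B *ᵥ x)) (heven : ∀ x : Fin 24 → ℤ, (2 : ℤ) ∣ x ⬝ᵥ (B *ᵥ x)) (hdet : B.det = 1) (h2 : ∀ x : Fin 24 → ℤ, x ⬝ᵥ (B *ᵥ x) ≠ 2) : {x : Fin 24 → ℤ | x ⬝ᵥ (B *ᵥ x) = 4}.ncard = 196560 ∧ {x : Fin 24 → ℤ | x ⬝ᵥ (B *ᵥ x) = 6}.ncard = 16773120 ∧ {x : Fin 24 → ℤ | x ⬝ᵥ (B *ᵥ x) = 8}.ncard = 398034000 := by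
  classical
  have hpd := posDef_map hsymm hpos hdet
  have hI : (-Complex.I) ^ 12 = 1 := by
    rw [show (12 : ℕ) = 4 * 3 from rfl, pow_mul, Even.neg_pow (by decide), Complex.I_pow_four,
      one_pow]
  set θ := thetaForm B hpd hdet heven (h := 12) (by simp) hI
  set C : ModularForm 𝒮ℒ ((12 : ℕ) : ℤ) := ModularForm.mcast (by norm_num) (E₄.pow 3)
  set D : ModularForm 𝒮ℒ ((12 : ℕ) : ℤ) := ModularForm.mcast (by norm_num) (E₆.pow 2)
  have hC : qExpansion 1 C = qExpansion 1 E₄ * qExpansion 1 E₄ * qExpansion 1 E₄ := by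
    simp only [C, coe_mcast, ModularForm.qExpansion_pow one_pos one_mem_strictPeriods_SL]
    ring
  have hD : qExpansion 1 D = qExpansion 1 E₆ * qExpansion 1 E₆ := by
    simp only [D, coe_mcast, ModularForm.qExpansion_pow one_pos one_mem_strictPeriods_SL]
    ring
  have hs0 : shell B 0 = 1 := by
    rw [shell, Set.ncard_eq_one]
    refine ⟨0, Set.ext fun x => ?_⟩
    simp only [Nat.cast_zero, mul_zero, Set.mem_ofPred_eq, Set.mem_singleton_iff]
    refine ⟨fun h => by_contra fun hx => (hpos x hx).ne' h, fun h => by subst h; simp⟩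
  have hs1 : shell B 1 = 0 := by
    rw [shell]
    simp [h2]
  set f := θ - (7 / 12 : ℂ) • C - (5 / 12 : ℂ) • D
  have hf : ∀ m, (qExpansion 1 f).coeff m =
      (shell B m : ℂ) - 7 / 12 * (qExpansion 1 C).coeff m - 5 / 12 * (qExpansion 1 D).coeff m := by
    intro m
    have e1 := ModularForm.qExpansion_sub one_pos one_mem_strictPeriods_SL
      (θ - (7 / 12 : ℂ) • C) ((5 / 12 : ℂ) • D)
    have e2 := ModularForm.qExpansion_sub one_pos one_mem_strictPeriods_SL θ ((7 / 12 : ℂ) • C)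
    have e3 := ModularForm.qExpansion_smul one_pos one_mem_strictPeriods_SL (7 / 12 : ℂ) C
    have e4 := ModularForm.qExpansion_smul one_pos one_mem_strictPeriods_SL (5 / 12 : ℂ) D
    simp only [FunLike.coe_sub, FunLike.coe_smul] at e1 e2
    simp only [f, FunLike.coe_sub, FunLike.coe_smul, e1, e2, e3, e4, map_sub, map_smul,
      smul_eq_mul, θ, coeff_thetaForm]
  have c0 := coeff_E4 0 (by norm_num)
  have c1 := coeff_E4 1 (by norm_num)
  have c2 := coeff_E4 2 (by norm_num)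
  have c3 := coeff_E4 3 (by norm_num)
  have c4 := coeff_E4 4 (by norm_num)
  have d0 := coeff_E6 0 (by norm_num)
  have d1 := coeff_E6 1 (by norm_num)
  have d2 := coeff_E6 2 (by norm_num)
  have d3 := coeff_E6 3 (by norm_num)
  have d4 := coeff_E6 4 (by norm_num)
  norm_num [-PowerSeries.coeff_zero_eq_constantCoeff] at c0 c1 c2 c3 c4 d0 d1 d2 d3 d4
  have hf0 : f = 0 := by
    refine sturm_bound_levelOne_nat (k := 12) ?_
    refine lt_of_lt_of_le (b := ((2 : ℕ) : ℕ∞)) (by norm_num) (PowerSeries.nat_le_order _ _ fun i hi => ?_)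
    rw [hf, hC, hD]
    interval_cases i <;>
      norm_num [hs0, hs1, PowerSeries.coeff_mul, Finset.Nat.antidiagonal_succ,
        -PowerSeries.coeff_zero_eq_constantCoeff, c0, c1, d0, d1]
  have key : ∀ m, (shell B m : ℂ) =
      7 / 12 * (qExpansion 1 C).coeff m + 5 / 12 * (qExpansion 1 D).coeff m := by
    intro m
    have h := hf m
    rw [hf0, FunLike.coe_zero, UpperHalfPlane.qExpansion_zero, _root_.map_zero] at h
    linear_combination -h
  simp only [hC, hD] at key
  have k2 := key 2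
  have k3 := key 3
  have k4 := key 4
  norm_num [PowerSeries.coeff_mul, Finset.Nat.antidiagonal_succ,
    -PowerSeries.coeff_zero_eq_constantCoeff, c0, c1, c2, c3, c4, d0, d1, d2, d3, d4] at k2 k3 k4
  simp only [shell] at k2 k3 k4
  norm_num at k2 k3 k4
  exact ⟨by exact_mod_cast k2, by exact_mod_cast k3, by exact_mod_cast k4⟩

end Cfsg.Agent.S1632
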