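import Cfsg.Statements.S1635
import Cfsg.Agent.Lib.Mathieu.Cosets

set_option autoImplicit false
open Cfsg

namespace Cfsg.Agent.S1635

open Cfsg.Agent.Mathieu Cfsg.Agent.Mathieu.Cosets

/-- Coset leaders of the length-24 code: a coset contains a unique word of weight ≤ 3, or else exactly six words of weight 4 and none lighter. -/
theorem result (w : Cfsg.GolayPt → ZMod 2) : ({v : Cfsg.GolayPt → ZMod 2 | hammingNorm v ≤ 4 ∧ w - v ∈ Cfsg.golayCode}.ncard = 1 ∧ ∃ v : Cfsg.GolayPt → ZMod 2, hammingNorm v ≤ 3 ∧ w - v ∈ Cfsg.golayCode) ∨ ({v : Cfsg.GolayPt → ZMod 2 | hammingNorm v ≤ 4 ∧ w - v ∈ Cfsg.golayCode}.ncard = 6 ∧ ∀ v : Cfsg.GolayPt → ZMod 2, w - v ∈ Cfsg.golayCode → hammingNorm v ≤ 4 → hammingNorm v = 4) := by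
  classical
  set S := {v : Cfsg.GolayPt → ZMod 2 | hammingNorm v ≤ 4 ∧ w - v ∈ Cfsg.golayCode}
  have hS : ∀ v, v ∈ S ↔ ∃ t : Finset Cfsg.GolayPt, v = ind t ∧ t.card ≤ 4 ∧ ind t - w ∈ Cfsg.golayCode := by
    intro v
    show (hammingNorm v ≤ 4 ∧ w - v ∈ Cfsg.golayCode) ↔ _
    constructor
    · rintro ⟨h1, h2⟩
      refine ⟨support₂ v, (ind_support v).symm, h1, ?_⟩
      rw [ind_support, ← neg_sub]; exact neg_mem h2
    · rintro ⟨t, rfl, h1, h2⟩
      refine ⟨by rw [hammingNorm_eq_card, support_ind]; exact h1, ?_⟩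
      rw [← neg_sub]; exact neg_mem h2
  rcases coset_leaders w with ⟨s, hs, hsw⟩ | h6
  · left
    refine ⟨?_, ind s, by rw [hammingNorm_eq_card, support_ind]; exact hs, by rw [← neg_sub]; exact neg_mem hsw⟩
    rw [show S = {ind s} from Set.ext fun v => ?_, Set.ncard_singleton]
    rw [hS, Set.mem_singleton_iff]
    constructor
    · rintro ⟨t, rfl, ht, htw⟩
      have h := sub_mem htw hsw
      rw [sub_sub_sub_cancel_right] at h
      rcases eq_or_le h with e | e
      · rw [e]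
      · omega
    · rintro rfl
      exact ⟨s, rfl, by omega, hsw⟩
  · right
    set F := Finset.univ.filter fun t : Finset Cfsg.GolayPt => t.card = 4 ∧ ind t - w ∈ Cfsg.golayCode with hF
    have hne : F.Nonempty := Finset.card_pos.1 (by omega)
    obtain ⟨t₀, ht₀⟩ := hne
    rw [hF, Finset.mem_filter_univ] at ht₀
    have hfour : ∀ t : Finset Cfsg.GolayPt, t.card ≤ 4 → ind t - w ∈ Cfsg.golayCode → t.card = 4 := by
      intro t ht htw
      have h := sub_mem htw ht₀.2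
      rw [sub_sub_sub_cancel_right] at h
      rcases eq_or_le h with e | e
      · rw [e]; exact ht₀.1
      · omega
    refine ⟨?_, fun v hv hv4 => ?_⟩
    · rw [show S = ind '' (F : Set (Finset Cfsg.GolayPt)) from Set.ext fun v => ?_,
        Set.ncard_image_of_injective _ ind_injective, Set.ncard_coe_finset, h6]
      rw [hS, Set.mem_image]
      simp only [Finset.mem_coe, hF, Finset.mem_filter_univ]
      exact ⟨fun ⟨t, e, h1, h2⟩ => ⟨t, ⟨hfour t h1 h2, h2⟩, e.symm⟩,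
        fun ⟨t, ⟨h1, h2⟩, e⟩ => ⟨t, e.symm, h1.le, h2⟩⟩
    · obtain ⟨t, rfl, h1, h2⟩ := (hS v).1 ⟨hv4, hv⟩
      rw [hammingNorm_eq_card, support_ind]
      exact hfour t h1 h2

end Cfsg.Agent.S1635
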