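import Cfsg.Statements.S1636
import Cfsg.Agent.Lib.Mathieu.Code

set_option autoImplicit false
open Cfsg

namespace Cfsg.Agent.S1636

open Cfsg.Agent.Mathieu

/-- The restriction of the word of a mask to the residues. -/
def punct (m : ℕ) : ZMod 23 → ZMod 2 := fun x => wordOf m (some x)

theorem punct_mod (m : ℕ) : punct (m % 2 ^ 23) = punct m := by
  funext x
  have hx : (ptEnc (some x)).val < 23 := x.val_lt
  simp only [punct, wordOf, hasPt, Nat.testBit_mod_two_pow, hx, decide_true, Bool.true_and]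
  rfl

theorem norm_punct (m : ℕ) : hammingNorm (punct m) = popc 24 (m % 2 ^ 23) := by
  rw [← punct_mod, ← card_ptsOf]
  refine Finset.card_nbij some (fun x hx => ?_) (fun a _ b _ e => Option.some.inj e) (fun p hp => ?_)
  · have hx' : punct (m % 2 ^ 23) x ≠ 0 := (Finset.mem_filter.1 hx).2
    refine mem_ptsOf.2 ?_
    by_contra h
    exact hx' (if_neg h)
  · cases p with
    | none =>
      have h : hasPt (m % 2 ^ 23) none = true := mem_ptsOf.1 hp
      have hn : (ptEnc none).val = 23 := rfl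
      rw [hasPt, hn, Nat.testBit_mod_two_pow] at h
      simp at h
    | some x =>
      have h : hasPt (m % 2 ^ 23) (some x) = true := mem_ptsOf.1 hp
      exact ⟨x, Finset.mem_filter.2 ⟨Finset.mem_univ _, by rw [punct, wordOf, if_pos h]; exact one_ne_zero⟩, rfl⟩

theorem low_check : codeList.all (fun m => (m % 2 ^ 23 != 0) || m == 0) = true := by decide +kernel

theorem min_check : codeList.all (fun m => (m % 2 ^ 23 == 0) || decide (7 ≤ popc 24 (m % 2 ^ 23))) = true := by
  decide +kernel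

theorem count_check :
    (codeList.filter fun m => popc 24 (m % 2 ^ 23) == 7).length = 253 ∧
    (codeList.filter fun m => popc 24 (m % 2 ^ 23) == 8).length = 506 ∧
    (codeList.filter fun m => popc 24 (m % 2 ^ 23) == 11).length = 1288 ∧
    (codeList.filter fun m => popc 24 (m % 2 ^ 23) == 12).length = 1288 ∧
    (codeList.filter fun m => popc 24 (m % 2 ^ 23) == 15).length = 506 ∧
    (codeList.filter fun m => popc 24 (m % 2 ^ 23) == 16).length = 253 := by
  decide +kernel

theorem punct_injOn : Set.InjOn punct {m | m ∈ codeList} := by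
  intro a ha b hb h
  have ha' : inCode a = true := inCode_iff_mem.2 ha
  have hb' : inCode b = true := inCode_iff_mem.2 hb
  have hab := inCode_xor ha' hb'
  have hlow : (a ^^^ b) % 2 ^ 23 = 0 := by
    refine Nat.eq_of_testBit_eq fun j => ?_
    rw [Nat.testBit_mod_two_pow, Nat.zero_testBit]
    by_cases hj : j < 23
    · let x : ZMod 23 := (⟨j, hj⟩ : Fin 23)
      have hp : (ptEnc (some x)).val = j := rfl
      have e := congrFun h x
      simp only [punct, wordOf, hasPt, hp] at e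
      rw [Nat.testBit_xor]
      revert e
      cases a.testBit j <;> cases b.testBit j <;> simp
    · simp [hj]
  have := List.all_eq_true.1 low_check _ (inCode_iff_mem.1 hab)
  simp only [hlow, bne_self_eq_false, Bool.false_or, beq_iff_eq] at this
  exact Nat.eq_of_testBit_eq fun j => by
    have h0 := congrArg (·.testBit j) this
    simp only [Nat.testBit_xor, Nat.zero_testBit] at h0
    revert h0
    cases a.testBit j <;> cases b.testBit j <;> simp

theorem punctured_eq :
    {u : ZMod 23 → ZMod 2 | ∃ w ∈ Cfsg.golayCode, ∀ x : ZMod 23, u x = w (some x)} =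
      punct '' {m | m ∈ codeList} := by
  ext u
  simp only [Set.mem_ofPred_eq, Set.mem_image, mem_golayCode_iff]
  constructor
  · rintro ⟨_, ⟨m, hm, rfl⟩, h⟩
    exact ⟨m, inCode_iff_mem.1 hm, funext fun x => (h x).symm⟩
  · rintro ⟨m, hm, rfl⟩
    exact ⟨_, ⟨m, inCode_iff_mem.2 hm, rfl⟩, fun x => rfl⟩

theorem ncard_norm (k : ℕ) :
    {u : ZMod 23 → ZMod 2 | u ∈ punct '' {m | m ∈ codeList} ∧ hammingNorm u = k}.ncard =
      (codeList.filter fun m => popc 24 (m % 2 ^ 23) == k).length := by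
  rw [show {u : ZMod 23 → ZMod 2 | u ∈ punct '' {m | m ∈ codeList} ∧ hammingNorm u = k} =
      punct '' ((codeList.filter fun m => popc 24 (m % 2 ^ 23) == k).toFinset : Set ℕ) from ?_]
  · rw [Set.InjOn.ncard_image (punct_injOn.mono fun m hm => by
        simp only [List.coe_toFinset, Set.mem_ofPred_eq, List.mem_filter] at hm
        exact hm.1), Set.ncard_coe_finset, List.toFinset_card_of_nodup (codeList_nodup.filter _)]
  · ext u
    simp only [List.coe_toFinset, Set.mem_image, Set.mem_ofPred_eq, List.mem_filter, beq_iff_eq]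
    constructor
    · rintro ⟨⟨m, hm, rfl⟩, h⟩
      exact ⟨m, ⟨hm, (norm_punct m).symm.trans h⟩, rfl⟩
    · rintro ⟨m, ⟨hm, h⟩, rfl⟩
      exact ⟨⟨m, hm, rfl⟩, (norm_punct m).trans h⟩

/-- The punctured length-23 code has weight distribution 0^1 7^253 8^506 11^1288 12^1288 15^506 16^253 23^1. -/
theorem result : {u : ZMod 23 → ZMod 2 | ∃ w ∈ Cfsg.golayCode, ∀ x : ZMod 23, u x = w (some x)}.ncard = 4096 ∧ {u : ZMod 23 → ZMod 2 | u ∈ {u : ZMod 23 → ZMod 2 | ∃ w ∈ Cfsg.golayCode, ∀ x : ZMod 23, u x = w (some x)} ∧ hammingNorm u = 7}.ncard = 253 ∧ {u : ZMod 23 → ZMod 2 | u ∈ {u : ZMod 23 → ZMod 2 | ∃ w ∈ Cfsg.golayCode, ∀ x : ZMod 23, u x = w (some x)} ∧ hammingNorm u = 8}.ncard = 506 ∧ {u : ZMod 23 → ZMod 2 | u ∈ {u : ZMod 23 → ZMod 2 | ∃ w ∈ Cfsg.golayCode, ∀ x : ZMod 23, u x = w (some x)} ∧ hammingNorm u = 11}.ncard = 1288 ∧ {u : ZMod 23 → ZMod 2 | u ∈ {u : ZMod 23 → ZMod 2 | ∃ w ∈ Cfsg.golayCode, ∀ x : ZMod 23, u x = w (some x)} ∧ hammingNorm u = 12}.ncard = 1288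 ∧ {u : ZMod 23 → ZMod 2 | u ∈ {u : ZMod 23 → ZMod 2 | ∃ w ∈ Cfsg.golayCode, ∀ x : ZMod 23, u x = w (some x)} ∧ hammingNorm u = 15}.ncard = 506 ∧ {u : ZMod 23 → ZMod 2 | u ∈ {u : ZMod 23 → ZMod 2 | ∃ w ∈ Cfsg.golayCode, ∀ x : ZMod 23, u x = w (some x)} ∧ hammingNorm u = 16}.ncard = 253 ∧ ∀ u ∈ {u : ZMod 23 → ZMod 2 | ∃ w ∈ Cfsg.golayCode, ∀ x : ZMod 23, u x = w (some x)}, u ≠ 0 → 7 ≤ hammingNorm u := by
  rw [punctured_eq]
  obtain ⟨h7, h8, h11, h12, h15, h16⟩ := count_check
  refine ⟨?_, (ncard_norm 7).trans h7, (ncard_norm 8).trans h8, (ncard_norm 11).trans h11,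
    (ncard_norm 12).trans h12, (ncard_norm 15).trans h15, (ncard_norm 16).trans h16, ?_⟩
  · rw [punct_injOn.ncard_image, show {m | m ∈ codeList} = (codeList.toFinset : Set ℕ) by ext; simp,
      Set.ncard_coe_finset, List.toFinset_card_of_nodup codeList_nodup, codeList, List.length_map,
      List.length_range]
  · rintro _ ⟨m, hm, rfl⟩ hne
    rw [norm_punct]
    have := List.all_eq_true.1 min_check m hm
    simp only [Bool.or_eq_true, beq_iff_eq, decide_eq_true_eq] at this
    refine this.resolve_left fun h => hne ?_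
    rw [← punct_mod, h]
    funext x
    simp [punct, wordOf, hasPt]

end Cfsg.Agent.S1636
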