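import Cfsg.Statements.S1637
import Cfsg.Agent.Lib.Mathieu.Cosets

set_option autoImplicit false
open Cfsg

namespace Cfsg.Agent.S1637

open Cfsg.Agent.Mathieu Cfsg.Agent.Mathieu.Cosets

/-- The restriction to the residues. -/
def punct (w : Cfsg.GolayPt → ZMod 2) : ZMod 23 → ZMod 2 := fun x => w (some x)

theorem card_punct (w : Cfsg.GolayPt → ZMod 2) :
    hammingNorm (punct w) = ((support₂ w).erase none).card := by
  show (Finset.univ.filter fun x => w (some x) ≠ 0).card = _
  refine Finset.card_nbij some (fun x hx => ?_) (fun a _ b _ e => Option.some.inj e) (fun p hp => ?_)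
  · have hx' : w (some x) ≠ 0 := (Finset.mem_filter.1 hx).2
    exact Finset.mem_erase.2 ⟨Option.some_ne_none x, Finset.mem_filter.2 ⟨Finset.mem_univ _, hx'⟩⟩
  · cases p with
    | none => simp at hp
    | some x =>
      exact ⟨x, Finset.mem_filter.2 ⟨Finset.mem_univ _, (Finset.mem_filter.1 (Finset.mem_erase.1 hp).2).2⟩, rfl⟩

/-- The punctured length-23 code is a perfect 3-error-correcting code: each word of length 23 is within distance 3 of exactly one codeword. -/
theorem result (u : ZMod 23 → ZMod 2) : ∃! c : ZMod 23 → ZMod 2, c ∈ {u : ZMod 23 → ZMod 2 | ∃ w ∈ Cfsg.golayCode, ∀ x : ZMod 23, u x = w (some x)} ∧ hammingDist u c ≤ 3 := by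
  classical
  let w : Cfsg.GolayPt → ZMod 2 := fun p => p.elim 0 u
  have hdist : ∀ v, hammingDist u (punct v) = ((support₂ (w - v)).erase none).card := fun v => by
    rw [← card_punct]
    show (Finset.univ.filter fun x => u x ≠ punct v x).card =
      (Finset.univ.filter fun x => punct (w - v) x ≠ 0).card
    congr 1
    refine Finset.filter_congr fun x _ => ?_
    show u x ≠ v (some x) ↔ u x - v (some x) ≠ 0
    exact sub_ne_zero.symm
  have hex : ∃ v ∈ Cfsg.golayCode, ((support₂ (w - v)).erase none).card ≤ 3 := by
    have key : ∀ s : Finset Cfsg.GolayPt, ind s - w ∈ Cfsg.golayCode → (s.erase none).card ≤ 3 →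
        ∃ v ∈ Cfsg.golayCode, ((support₂ (w - v)).erase none).card ≤ 3 := fun s hs h =>
      ⟨w - ind s, by rw [← neg_sub]; exact neg_mem hs, by rw [sub_sub_cancel, support_ind]; exact h⟩
    rcases coset_leaders w with ⟨s, hs, hsw⟩ | h6
    · exact key s hsw (le_trans (Finset.card_le_card (Finset.erase_subset _ _)) hs)
    · set F := Finset.univ.filter fun t : Finset Cfsg.GolayPt => t.card = 4 ∧ ind t - w ∈ Cfsg.golayCode with hF
      have hmem : ∀ t ∈ F, t.card = 4 ∧ ind t - w ∈ Cfsg.golayCode := fun t ht => by simpa [hF] using ht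
      have hdis : (F : Set (Finset Cfsg.GolayPt)).PairwiseDisjoint id := by
        intro a ha b hb hne
        have h := sub_mem (hmem a ha).2 (hmem b hb).2
        rw [sub_sub_sub_cancel_right] at h
        rcases eq_or_le h with e | e
        · exact absurd e hne
        · have := (hmem a ha).1; have := (hmem b hb).1
          exact Finset.disjoint_iff_inter_eq_empty.mpr (Finset.card_eq_zero.mp (by simp only [id_eq]; omega))
      have huniv : F.biUnion id = Finset.univ := by
        apply Finset.eq_univ_of_card
        simp only [Finset.card_biUnion hdis, id_eq]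
        rw [Finset.sum_congr rfl (fun t ht => (hmem t ht).1), Finset.sum_const, h6]
        simp
      obtain ⟨t, ht, hnone⟩ := Finset.mem_biUnion.1 (huniv ▸ Finset.mem_univ (none : Cfsg.GolayPt))
      refine key t (hmem t ht).2 ?_
      rw [Finset.card_erase_of_mem (show none ∈ t from hnone), (hmem t ht).1]
  obtain ⟨v, hv, hv3⟩ := hex
  refine ⟨punct v, ⟨⟨v, hv, fun x => rfl⟩, by rw [hdist]; exact hv3⟩, ?_⟩
  rintro c ⟨⟨v', hv', hc⟩, hd⟩
  have hc' : c = punct v' := funext hc
  rw [hc', hdist] at hd
  rw [hc']
  by_contra hne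
  have hvv : v' - v ≠ 0 := fun e => hne (by rw [sub_eq_zero.1 e])
  have h8 := eight_le (sub_mem hv' hv) hvv
  have hsub : support₂ (v' - v) ⊆
      insert none (((support₂ (w - v)).erase none) ∪ ((support₂ (w - v')).erase none)) := by
    intro p hp
    simp only [Finset.mem_insert, Finset.mem_union, Finset.mem_erase]
    by_cases h : p = none
    · exact Or.inl h
    · right
      simp only [support₂, Finset.mem_filter_univ, Pi.sub_apply] at hp ⊢
      by_cases h1 : w p - v p = 0
      · refine Or.inr ⟨h, fun h2 => hp ?_⟩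
        linear_combination h1 - h2
      · exact Or.inl ⟨h, h1⟩
  have h1 := Finset.card_le_card hsub
  have h2 := Finset.card_insert_le (none : Cfsg.GolayPt)
    (((support₂ (w - v)).erase none) ∪ ((support₂ (w - v')).erase none))
  have h3 := Finset.card_union_le ((support₂ (w - v)).erase none) ((support₂ (w - v')).erase none)
  rw [hammingNorm_eq_card] at h8
  omega

end Cfsg.Agent.S1637
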