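import Cfsg.Statements.S1638
import Cfsg.Agent.Lib.Mathieu.Stab.DuadPairData
import Cfsg.Agent.Lib.Mathieu.Stab.Invariants

set_option autoImplicit false
set_option maxRecDepth 20000
open scoped Pointwise
open Cfsg

namespace Cfsg.Agent.S1638

open Cfsg.Agent.Mathieu

/-- The masks of the pairs avoiding the two fixed points `0` and `23`. -/
def pairs : List ℕ :=
  (List.range 23).flatMap fun i => (List.range i).filterMap fun j =>
    if j == 0 then none else some (2 ^ i ||| 2 ^ j)

theorem pairs_check : ((List.range 24).all fun i => (List.range 24).all fun j =>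
    i == j || i == 0 || i == 23 || j == 0 || j == 23 || pairs.contains (2 ^ i ||| 2 ^ j)) = true ∧
    pairs.all (fun m => decide (m < 2 ^ 24) && (popc 24 m == 2 && !m.testBit 0 && !m.testBit 23)) = true ∧
    pairs.Nodup := by decide +kernel

theorem mem_pairs {t : Finset GolayPt} :
    (t.card = 2 ∧ some 0 ∉ t ∧ none ∉ t) ↔ ∃ m ∈ pairs, ptsOf m = t := by
  constructor
  · rintro ⟨hc, h0, h23⟩
    obtain ⟨a, b, hab, rfl⟩ := Finset.card_eq_two.1 hc
    obtain ⟨i, hi, rfl⟩ : ∃ i < 24, idx ptEnc i = a := ⟨_, (ptEnc a).isLt, idx_self a⟩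
    obtain ⟨j, hj, rfl⟩ : ∃ j < 24, idx ptEnc j = b := ⟨_, (ptEnc b).isLt, idx_self b⟩
    simp only [Finset.mem_insert, Finset.mem_singleton, not_or] at h0 h23
    have h := List.all_eq_true.1 (List.all_eq_true.1 pairs_check.1 i (List.mem_range.2 hi)) j
      (List.mem_range.2 hj)
    simp only [Bool.or_eq_true, beq_iff_eq, List.contains_iff_mem] at h
    rcases h with ((((rfl | rfl) | rfl) | rfl) | rfl) | h
    · exact absurd rfl hab
    · exact absurd idx_zero.symm h0.1
    · exact absurd idx_none.symm h23.1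
    · exact absurd idx_zero.symm h0.2
    · exact absurd idx_none.symm h23.2
    · exact ⟨_, h, by rw [ptsOf_or, ptsOf_singleton hi, ptsOf_singleton hj, ← Finset.insert_eq]⟩
  · rintro ⟨m, hm, rfl⟩
    have h := List.all_eq_true.1 pairs_check.2.1 m hm
    simp only [Bool.and_eq_true, beq_iff_eq, Bool.not_eq_eq_eq_not, Bool.not_true] at h
    refine ⟨by rw [card_ptsOf, h.2.1.1], fun h' => ?_, fun h' => ?_⟩
    · have h0 : m.testBit 0 = true := mem_ptsOf.1 h'
      rw [h.2.1.2] at h0; exact Bool.false_ne_true h0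
    · have h0 : m.testBit 23 = true := mem_ptsOf.1 h'
      rw [h.2.2] at h0; exact Bool.false_ne_true h0

/-- The fixed pair. -/
def sMask : ℕ := 0x6

theorem sPts_eq : ptsOf sMask = {(some 1 : GolayPt), some 2} := by decide +kernel

/-- The octads through the fixed points and the fixed pair. -/
def octs : List ℕ := [0xc12017, 0x82402f, 0xa800c7, 0x908607, 0x841907]

theorem octs_spec : (maskList 8).all (fun a => (a &&& 0x800007 == 0x800007) == octs.contains a) = true ∧
    octs.all (fun a => inCode a && popc 24 a == 8) = true := by decide +kernel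

/-- Lying in one octad with the fixed points and the fixed pair. -/
def inOct (m : ℕ) : Bool :=
  octs.any fun a => a &&& (0x800001 ||| (sMask ||| m)) == (0x800001 ||| (sMask ||| m))

theorem inOct_eq (m : ℕ) : inOct m =
    (maskList 8).any fun a => a &&& (0x800001 ||| (sMask ||| m)) == (0x800001 ||| (sMask ||| m)) := by
  rw [Bool.eq_iff_iff]
  simp only [inOct, List.any_eq_true, beq_iff_eq]
  constructor
  · rintro ⟨a, ha, he⟩
    have h := List.all_eq_true.1 octs_spec.2 a ha
    simp only [Bool.and_eq_true, beq_iff_eq] at h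
    exact ⟨a, mem_maskList.2 h, he⟩
  · rintro ⟨a, ha, he⟩
    refine ⟨a, ?_, he⟩
    have h := List.all_eq_true.1 octs_spec.1 a ha
    have h7 : a &&& 0x800007 = 0x800007 := by
      refine Nat.eq_of_testBit_eq fun i => ?_
      have hi := congrArg (fun n => n.testBit i) he
      simp only [Nat.testBit_and, Nat.testBit_or] at hi ⊢
      have h0 : (0x800007 : ℕ).testBit i = ((0x800001 : ℕ).testBit i || sMask.testBit i) := by
        rw [← Nat.testBit_or]; rfl
      rw [h0]
      revert hi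
      cases a.testBit i <;> cases (0x800001 : ℕ).testBit i <;> cases sMask.testBit i <;> simp
    rw [h7, beq_iff_eq] at h
    simpa [List.contains_iff_mem] using h.symm

theorem inOct_iff {m : ℕ} (hm : m < 2 ^ 24) : inOct m = true ↔
    ∃ o ∈ octads, (some 0 : GolayPt) ∈ o ∧ none ∈ o ∧ ptsOf sMask ∪ ptsOf m ⊆ o := by
  have he : ptsOf 0x800001 = {(some 0 : GolayPt), none} := by decide +kernel
  rw [inOct_eq, ← inOctad_iff (Nat.or_lt_two_pow (by norm_num) (Nat.or_lt_two_pow (by decide +kernel) hm)),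
    ptsOf_or, ptsOf_or, he]
  simp only [InOctad, Finset.union_subset_iff, Finset.insert_subset_iff, Finset.singleton_subset_iff,
    and_assoc]

/-- The pairs other than the fixed one meeting it in `j` points, sorted by the octad property. -/
def cls (j : ℕ) (e : Bool) : List ℕ :=
  pairs.filter fun m => m != sMask && popc 24 (sMask &&& m) == j && inOct m == e

/-- The test for the class. -/
def inCls (j : ℕ) (e : Bool) (m : ℕ) : Bool :=
  pairs.contains m && (m != sMask && popc 24 (sMask &&& m) == j && inOct m == e)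

theorem mem_cls_of_inCls {j : ℕ} {e : Bool} {m : ℕ} (h : inCls j e m = true) : m ∈ cls j e := by
  simp only [inCls, Bool.and_eq_true, List.contains_iff_mem] at h
  simp [cls, h.1, h.2]

theorem cls_meet : relOK [2 ^ 0, 2 ^ 23, sMask] duadPairGens (inCls 1 true) 40 duadPairMeet = true := by
  decide +kernel

theorem cls_in : relOK [2 ^ 0, 2 ^ 23, sMask] duadPairGens (inCls 0 true) 30 duadPairIn = true := by
  decide +kernel

theorem cls_out : relOK [2 ^ 0, 2 ^ 23, sMask] duadPairGens (inCls 0 false) 160 duadPairOut = true := by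
  decide +kernel

theorem cls_cases : pairs.all (fun m => m == sMask ||
    [(1, true), (0, true), (0, false)].contains (popc 24 (sMask &&& m), inOct m)) = true := by
  decide +kernel

theorem ncard_cls (e : Bool) {A : Set (Finset GolayPt)}
    (hA : ∀ t, t ∈ A ↔ (t.card = 2 ∧ some 0 ∉ t ∧ none ∉ t) ∧ Disjoint (ptsOf sMask) t ∧
      ((∃ o ∈ octads, (some 0 : GolayPt) ∈ o ∧ none ∈ o ∧ ptsOf sMask ∪ t ⊆ o) ↔ e = true)) :
    A.ncard = (cls 0 e).length := by
  have hp := List.all_eq_true.1 pairs_check.2.1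
  have hlt : ∀ m ∈ pairs, m < 2 ^ 24 := fun m hm => by
    have := hp m hm; simp only [Bool.and_eq_true, decide_eq_true_eq] at this; exact this.1
  refine ncard_eq_length (pairs_check.2.2.filter _) (fun m hm => hlt m (List.mem_filter.1 hm).1)
    fun t => ?_
  rw [hA, mem_pairs]
  simp only [cls, List.mem_filter, Bool.and_eq_true, bne_iff_ne, beq_iff_eq]
  constructor
  · rintro ⟨⟨m, hm, rfl⟩, hd, he⟩
    have h0 : popc 24 (sMask &&& m) = 0 := by
      rw [← card_ptsOf, ptsOf_and, Finset.disjoint_iff_inter_eq_empty.1 hd, Finset.card_empty]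
    refine ⟨m, ⟨hm, ⟨fun hs => ?_, h0⟩, ?_⟩, rfl⟩
    · subst hs; exact absurd h0 (by decide +kernel)
    · rw [← inOct_iff (hlt m hm)] at he; exact Bool.eq_iff_iff.2 he
  · rintro ⟨m, ⟨hm, ⟨-, h0⟩, he⟩, rfl⟩
    refine ⟨⟨m, hm, rfl⟩, Finset.disjoint_iff_inter_eq_empty.2 ?_, ?_⟩
    · rw [← Finset.card_eq_zero, ← ptsOf_and, card_ptsOf, h0]
    · rw [← inOct_iff (hlt m hm), he]

/-- The octad property is moved along `M24`. -/
theorem octad_prop_smul {g : Equiv.Perm GolayPt} (hg : g ∈ M24) (p q : GolayPt)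
    (s t : Finset GolayPt) :
    (∃ o ∈ octads, g p ∈ o ∧ g q ∈ o ∧ g • s ∪ g • t ⊆ o) ↔
      ∃ o ∈ octads, p ∈ o ∧ q ∈ o ∧ s ∪ t ⊆ o := by
  rw [← smul_union_pts]
  constructor
  · rintro ⟨o, ho, hp, hq, hs⟩
    refine ⟨g⁻¹ • o, M24_smul_octad (inv_mem hg) ho, ?_, ?_, ?_⟩
    · simpa using (apply_mem_smul_pts (σ := g⁻¹)).2 hp
    · simpa using (apply_mem_smul_pts (σ := g⁻¹)).2 hq
    · simpa using Finset.smul_finset_subset_smul_finset (a := g⁻¹) hs
  · rintro ⟨o, ho, hp, hq, hs⟩
    exact ⟨g • o, M24_smul_octad hg ho, apply_mem_smul_pts.2 hp, apply_mem_smul_pts.2 hq,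
      Finset.smul_finset_subset_smul_finset hs⟩

theorem disjoint_smul_pts (g : Equiv.Perm GolayPt) (s t : Finset GolayPt) :
    Disjoint (g • s) (g • t) ↔ Disjoint s t := by
  simp only [Finset.disjoint_iff_inter_eq_empty, ← smul_inter_pts, Finset.smul_finset_eq_empty]

/-- Fix two points p ≠ q and a pair s of two further points. Among the pairs avoiding p, q and disjoint from s, exactly 30 lie in an octad together with p, q and s and exactly 160 do not; and any two pairs other than s that meet s in equally many points and agree on that octad property are carried to one another by an element of the group of the length-24 code fixing p, q and s. -/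
theorem result (p q : Cfsg.GolayPt) (hpq : p ≠ q) (s : Finset Cfsg.GolayPt) (hs : (s.card = 2 ∧ p ∉ s ∧ q ∉ s)) : {t : Finset Cfsg.GolayPt | (t.card = 2 ∧ p ∉ t ∧ q ∉ t) ∧ Disjoint s t ∧ (∃ o ∈ Cfsg.octads, p ∈ o ∧ q ∈ o ∧ s ∪ t ⊆ o)}.ncard = 30 ∧ {t : Finset Cfsg.GolayPt | (t.card = 2 ∧ p ∉ t ∧ q ∉ t) ∧ Disjoint s t ∧ ¬ (∃ o ∈ Cfsg.octads, p ∈ o ∧ q ∈ o ∧ s ∪ t ⊆ o)}.ncard = 160 ∧ ∀ t t' : Finset Cfsg.GolayPt, (t.card = 2 ∧ p ∉ t ∧ q ∉ t) → (t'.card = 2 ∧ p ∉ t' ∧ q ∉ t') → t ≠ s → t' ≠ s → (s ∩ t).card = (s ∩ t').card → ((∃ o ∈ Cfsg.octads, p ∈ o ∧ q ∈ o ∧ s ∪ t ⊆ o) ↔ (∃ o ∈ Cfsg.octads, p ∈ o ∧ q ∈ o ∧ s ∪ t' ⊆ o)) → ∃ g : Equiv.Perm Cfsg.GolayPt, g ∈ Cfsg.M24 ∧ g p = p ∧ g q = q ∧ g • s = s ∧ g • t = t' := by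
  obtain ⟨hs2, hps, hqs⟩ := hs
  obtain ⟨a, b, hab, rfl⟩ := Finset.card_eq_two.1 hs2
  simp only [Finset.mem_insert, Finset.mem_singleton, not_or] at hps hqs
  obtain ⟨g, hg, hgx⟩ := M24_exists_map (k := 4) (by norm_num)
    ⟨![some 0, none, some 1, some 2], by decide +kernel⟩
    ⟨![p, q, a, b], by
      intro i j
      fin_cases i <;> fin_cases j <;>
        simp [hpq, hpq.symm, hab, hab.symm, hps.1, hps.2, hqs.1, hqs.2, Ne.symm hps.1, Ne.symm hps.2,
          Ne.symm hqs.1, Ne.symm hqs.2]⟩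
  have hgp : g (some 0) = p := hgx 0
  have hgq : g none = q := hgx 1
  have hga : g (some 1) = a := hgx 2
  have hgb : g (some 2) = b := hgx 3
  have hgs : g • ptsOf sMask = {a, b} := by
    rw [sPts_eq, Finset.smul_finset_insert, Finset.smul_finset_singleton]
    simp [hga, hgb]
  subst hgp hgq
  rw [← hgs]
  clear hgs hga hgb hgx
  have hpair : ∀ y : Finset GolayPt, ((g • y).card = 2 ∧ g (some 0) ∉ g • y ∧ g none ∉ g • y) ↔
      (y.card = 2 ∧ some 0 ∉ y ∧ none ∉ y) := fun y => by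
    rw [card_smul_pts, apply_mem_smul_pts, apply_mem_smul_pts]
  refine ⟨?_, ?_, fun t t' ht ht' hts hts' hc ho => ?_⟩
  · refine Eq.trans ?_ (((ncard_cls true (A := {y | (y.card = 2 ∧ some 0 ∉ y ∧ none ∉ y) ∧
      Disjoint (ptsOf sMask) y ∧ ∃ o ∈ octads, (some 0 : GolayPt) ∈ o ∧ none ∈ o ∧
        ptsOf sMask ∪ y ⊆ o}) (by simp)).trans (by decide +kernel : _ = 30)))
    rw [← Set.ncard_image_of_injective _ (MulAction.injective (g⁻¹))]
    congr 1
    ext y
    simp only [Set.mem_image, Set.mem_ofPred_eq, inv_smul_eq_iff, exists_eq_right,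
      hpair, disjoint_smul_pts, octad_prop_smul hg]
  · refine Eq.trans ?_ (((ncard_cls false (A := {y | (y.card = 2 ∧ some 0 ∉ y ∧ none ∉ y) ∧
      Disjoint (ptsOf sMask) y ∧ ¬ ∃ o ∈ octads, (some 0 : GolayPt) ∈ o ∧ none ∈ o ∧
        ptsOf sMask ∪ y ⊆ o}) (by simp)).trans (by decide +kernel : _ = 160)))
    rw [← Set.ncard_image_of_injective _ (MulAction.injective (g⁻¹))]
    congr 1
    ext y
    simp only [Set.mem_image, Set.mem_ofPred_eq, inv_smul_eq_iff, exists_eq_right,
      hpair, disjoint_smul_pts, octad_prop_smul hg]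
  · obtain ⟨u, rfl⟩ : ∃ u, g • u = t := ⟨g⁻¹ • t, smul_inv_smul _ _⟩
    obtain ⟨u', rfl⟩ : ∃ u, g • u = t' := ⟨g⁻¹ • t', smul_inv_smul _ _⟩
    rw [card_smul_inter, card_smul_inter] at hc
    rw [octad_prop_smul hg, octad_prop_smul hg] at ho
    obtain ⟨m, hm, rfl⟩ := mem_pairs.1 ((hpair u).1 ht)
    obtain ⟨m', hm', rfl⟩ := mem_pairs.1 ((hpair u').1 ht')
    have hne : m ≠ sMask := fun h => hts (h ▸ rfl)
    have hne' : m' ≠ sMask := fun h => hts' (h ▸ rfl)
    have hlt : ∀ n ∈ pairs, n < 2 ^ 24 := fun n hn => by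
      have := List.all_eq_true.1 pairs_check.2.1 n hn
      simp only [Bool.and_eq_true, decide_eq_true_eq] at this; exact this.1
    rw [← inOct_iff (hlt m hm), ← inOct_iff (hlt m' hm'), ← Bool.eq_iff_iff] at ho
    rw [← ptsOf_and, ← ptsOf_and, card_ptsOf, card_ptsOf] at hc
    have hmem : m ∈ cls (popc 24 (sMask &&& m)) (inOct m) := by
      simp [cls, hm, hne]
    have hmem' : m' ∈ cls (popc 24 (sMask &&& m)) (inOct m) := by
      simp [cls, hm', hne', hc, ho]
    have hcase := List.all_eq_true.1 cls_cases m hm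
    simp only [Bool.or_eq_true, beq_iff_eq, hne, false_or, List.contains_iff_mem, List.mem_cons,
      List.not_mem_nil, or_false, Prod.mk.injEq] at hcase
    obtain ⟨σ, hσ, hσm⟩ : ∃ σ ∈ relStab [2 ^ 0, 2 ^ 23, sMask], σ • ptsOf m = ptsOf m' := by
      rcases hcase with ⟨h1, h2⟩ | ⟨h1, h2⟩ | ⟨h1, h2⟩ <;> rw [h1, h2] at hmem hmem'
      exacts [relOK_pair cls_meet (fun _ => mem_cls_of_inCls) (by decide +kernel) hmem hmem', relOK_pair cls_in (fun _ => mem_cls_of_inCls) (by decide +kernel) hmem hmem',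
        relOK_pair cls_out (fun _ => mem_cls_of_inCls) (by decide +kernel) hmem hmem']
    obtain ⟨hσM, hσF⟩ := mem_relStab.1 hσ
    have h0 : σ (some 0) = some 0 := by
      have := apply_eq_of_smul_singleton (show 0 < 24 by norm_num) (hσF _ List.mem_cons_self)
      rwa [idx_zero] at this
    have h23 : σ none = none := by
      have := apply_eq_of_smul_singleton (show 23 < 24 by norm_num)
        (hσF _ (List.mem_cons_of_mem _ List.mem_cons_self))
      rwa [idx_none] at this
    have hσs : σ • ptsOf sMask = ptsOf sMask :=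
      hσF _ (List.mem_cons_of_mem _ (List.mem_cons_of_mem _ List.mem_cons_self))
    refine ⟨g * σ * g⁻¹, M24.mul_mem (M24.mul_mem hg hσM) (M24.inv_mem hg), ?_, ?_, ?_, ?_⟩
    · simp [h0]
    · simp [h23]
    · rw [mul_smul, mul_smul, inv_smul_smul, hσs]
    · rw [mul_smul, mul_smul, inv_smul_smul, hσm]

end Cfsg.Agent.S1638
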