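import Cfsg.Statements.S1639
import Cfsg.Agent.Lib.Mathieu.Stab.DodPointData

set_option autoImplicit false
set_option maxRecDepth 20000
open scoped Pointwise
open Cfsg

namespace Cfsg.Agent.S1639

open Cfsg.Agent.Mathieu

/-- The dodecads through `0` with `k` points in the dodecad of squares. -/
def cls (k : ℕ) : List ℕ :=
  (maskList 12).filter fun m => m.testBit 0 && popc 24 (dodMask &&& m) == k

/-- The test for the class. -/
def inCls (k m : ℕ) : Bool :=
  inCode m && popc 24 m == 12 && m.testBit 0 && popc 24 (dodMask &&& m) == k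

theorem mem_cls_of_inCls {k m : ℕ} (h : inCls k m = true) : m ∈ cls k := by
  simp only [inCls, Bool.and_eq_true, beq_iff_eq] at h
  exact List.mem_filter.2 ⟨mem_maskList.2 h.1.1, by rw [h.1.2, h.2]; simp⟩

theorem cls_lengths :
    [4, 6, 8, 12].map (fun k => (cls k).length) = [165, 792, 330, 1] := by decide +kernel

theorem cls_four : relOK [dodMask, 2 ^ 0] gens11 (inCls 4) 165 dodPt4 = true := by decide +kernel

theorem cls_six : relOK [dodMask, 2 ^ 0] gens11 (inCls 6) 792 dodPt6 = true := by decide +kernel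

theorem cls_eight : relOK [dodMask, 2 ^ 0] gens11 (inCls 8) 330 dodPt8 = true := by decide +kernel

theorem cls_twelve : relOK [dodMask, 2 ^ 0] gens11 (inCls 12) 1 dodPt12 = true := by decide +kernel

theorem cls_cases : (maskList 12).all (fun m => !m.testBit 0 ||
    [4, 6, 8, 12].contains (popc 24 (dodMask &&& m))) = true := by decide +kernel

theorem hasPt_zero (m : ℕ) : hasPt m (some 0) = m.testBit 0 := rfl

theorem mem_cls {m k : ℕ} (hm : m ∈ maskList 12) :
    m ∈ cls k ↔ (some 0 : GolayPt) ∈ ptsOf m ∧ (Spor.squareDodecad ∩ ptsOf m).card = k := by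
  rw [squareDodecad_eq, ← ptsOf_and, card_ptsOf, mem_ptsOf, hasPt_zero]
  simp [cls, hm]

theorem ncard_cls (k : ℕ) :
    {y : Finset GolayPt | y ∈ dodecads ∧ some 0 ∈ y ∧ (Spor.squareDodecad ∩ y).card = k}.ncard =
      (cls k).length :=
  ncard_weight_filter 12 (fun y => some 0 ∈ y ∧ (Spor.squareDodecad ∩ y).card = k) _ fun m hm => by
    have := mem_cls (k := k) hm
    simpa [cls, hm] using this

theorem ncard_at {g : Equiv.Perm GolayPt} (hg : g ∈ M24) (k : ℕ) :
    {d' : Finset GolayPt | d' ∈ dodecads ∧ g (some 0) ∈ d' ∧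
      (g • Spor.squareDodecad ∩ d').card = k}.ncard = (cls k).length := by
  rw [← ncard_cls k]
  exact ncard_transport g (smul_mem_iff_of_inv (fun _ hh _ => M24_smul_dodecad hh) hg)
    (fun y => some 0 ∈ y ∧ (Spor.squareDodecad ∩ y).card = k)
    (fun y => g (some 0) ∈ y ∧ (g • Spor.squareDodecad ∩ y).card = k)
    fun y => by rw [apply_mem_smul_pts, card_smul_inter]

theorem pair_cls {k a b : ℕ} (hk : k ∈ [4, 6, 8, 12]) (ha : a ∈ cls k) (hb : b ∈ cls k) :
    ∃ σ ∈ relStab [dodMask, 2 ^ 0], σ • ptsOf a = ptsOf b := by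
  simp only [List.mem_cons, List.not_mem_nil, or_false] at hk
  have hl := cls_lengths
  simp only [List.map_cons, List.map_nil, List.cons.injEq, and_true] at hl
  obtain ⟨h4, h6, h8, h12⟩ := hl
  rcases hk with rfl | rfl | rfl | rfl
  exacts [relOK_pair cls_four (fun _ => mem_cls_of_inCls) h4 ha hb, relOK_pair cls_six (fun _ => mem_cls_of_inCls) h6 ha hb, relOK_pair cls_eight (fun _ => mem_cls_of_inCls) h8 ha hb,
    relOK_pair cls_twelve (fun _ => mem_cls_of_inCls) h12 ha hb]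

/-- The point stabiliser acts on the 1288 dodecads through the point with rank 4 and subdegrees 1, 165, 330, 792, distinguished by intersection 4, 8, 6 with the fixed dodecad. -/
theorem result (x : Cfsg.GolayPt) (d : Finset Cfsg.GolayPt) (hd : d ∈ Cfsg.dodecads) (hx : x ∈ d) : {d' : Finset Cfsg.GolayPt | d' ∈ Cfsg.dodecads ∧ x ∈ d' ∧ (d ∩ d').card = 4}.ncard = 165 ∧ {d' : Finset Cfsg.GolayPt | d' ∈ Cfsg.dodecads ∧ x ∈ d' ∧ (d ∩ d').card = 8}.ncard = 330 ∧ {d' : Finset Cfsg.GolayPt | d' ∈ Cfsg.dodecads ∧ x ∈ d' ∧ (d ∩ d').card = 6}.ncard = 792 ∧ ∀ d' d'' : Finset Cfsg.GolayPt, d' ∈ Cfsg.dodecads → d'' ∈ Cfsg.dodecads → x ∈ d' → x ∈ d'' → (d ∩ d').card = (d ∩ d'').card → ∃ g : Equiv.Perm Cfsg.GolayPt, g ∈ Cfsg.M24 ∧ g x = x ∧ g • d = d ∧ g • d' = d'' := by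
  obtain ⟨g, hg, rfl, rfl⟩ := M24_exists_map_square_point hd hx
  have hl := cls_lengths
  simp only [List.map_cons, List.map_nil, List.cons.injEq, and_true] at hl
  refine ⟨(ncard_at hg 4).trans hl.1, (ncard_at hg 8).trans hl.2.2.1,
    (ncard_at hg 6).trans hl.2.1, fun d' d'' hd' hd'' hx' hx'' hc => ?_⟩
  obtain ⟨e', rfl⟩ : ∃ e, g • e = d' := ⟨g⁻¹ • d', smul_inv_smul _ _⟩
  obtain ⟨e'', rfl⟩ : ∃ e, g • e = d'' := ⟨g⁻¹ • d'', smul_inv_smul _ _⟩
  rw [apply_mem_smul_pts] at hx' hx''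
  rw [card_smul_inter, card_smul_inter] at hc
  have hiff := smul_mem_iff_of_inv (A := dodecads) (fun _ hh _ => M24_smul_dodecad hh) hg
  obtain ⟨a, ha, rfl⟩ := mem_dodecads_iff.1 ((hiff e').1 hd')
  obtain ⟨b, hb, rfl⟩ := mem_dodecads_iff.1 ((hiff e'').1 hd'')
  set k := (Spor.squareDodecad ∩ ptsOf a).card with hk
  have hkmem : k ∈ [4, 6, 8, 12] := by
    have h := List.all_eq_true.1 cls_cases a ha
    rw [mem_ptsOf, hasPt_zero] at hx'
    rw [hx', Bool.not_true, Bool.false_or, List.contains_iff_mem] at h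
    rwa [hk, squareDodecad_eq, ← ptsOf_and, card_ptsOf]
  obtain ⟨σ, hσ, hσab⟩ := pair_cls hkmem ((mem_cls ha).2 ⟨hx', hk.symm⟩)
    ((mem_cls hb).2 ⟨hx'', hc.symm⟩)
  obtain ⟨hσM, hσF⟩ := mem_relStab.1 hσ
  have hσd : σ • Spor.squareDodecad = Spor.squareDodecad := by
    rw [squareDodecad_eq]; exact hσF _ List.mem_cons_self
  have hσ0 : σ (some 0) = some 0 := by
    have := apply_eq_of_smul_singleton (show 0 < 24 by norm_num)
      (hσF _ (List.mem_cons_of_mem _ List.mem_cons_self))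
    rwa [idx_zero] at this
  refine ⟨g * σ * g⁻¹, M24.mul_mem (M24.mul_mem hg hσM) (M24.inv_mem hg), ?_, ?_, ?_⟩
  · simp [hσ0]
  · rw [mul_smul, mul_smul, inv_smul_smul, hσd]
  · rw [mul_smul, mul_smul, inv_smul_smul, hσab]

end Cfsg.Agent.S1639
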