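import Cfsg.Statements.S1691
-- import your own Cfsg.Agent.* helpers here

set_option autoImplicit false
open Cfsg

namespace Cfsg.Agent.S1691

open Cfsg.Spor

private abbrev sgn : Fi24.Gen → Multiplicative (ZMod 2) := fun _ => Multiplicative.ofAdd 1

private lemma sgn_rels : ∀ r ∈ coxRelators Fi24.edges ∪ {r | r ∈ Fi24.extra}, FreeGroup.lift sgn r = 1 := by
  rintro r (⟨x, -, y, -, rfl⟩ | hr)
  · simp only [map_pow, map_mul, FreeGroup.lift_apply_of]
    have : (Multiplicative.ofAdd 1 * Multiplicative.ofAdd 1 : Multiplicative (ZMod 2)) = 1 := by decide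
    rw [show sgn x * sgn y = 1 from this, one_pow]
  · simp only [Fi24.extra, Set.mem_setOf_eq, List.mem_cons, List.not_mem_nil, or_false] at hr
    rcases hr with rfl | rfl <;>
      simp only [map_pow, map_mul, map_inv, FreeGroup.lift_apply_of] <;> decide

private noncomputable def t (x : Fi24.Gen) : Abelianization Fi24 := Abelianization.of (PresentedGroup.of x)

private lemma rel_one (x y : Fi24.Gen) (hx : x ∈ coxNodes Fi24.edges) (hy : y ∈ coxNodes Fi24.edges) :
    (t x * t y) ^ coxLabel Fi24.edges x y = 1 := by
  have h : PresentedGroup.mk (coxRelators Fi24.edges ∪ {r | r ∈ Fi24.extra})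
      ((FreeGroup.of x * FreeGroup.of y) ^ coxLabel Fi24.edges x y) = 1 :=
    PresentedGroup.one_of_mem (Or.inl ⟨x, hx, y, hy, rfl⟩)
  have h' := congrArg (Abelianization.of (G := Fi24)) h
  simpa [t, PresentedGroup.of, map_pow, map_mul, map_one] using h'

private lemma node (x : Fi24.Gen) : x ∈ coxNodes Fi24.edges := by cases x <;> decide

private lemma sq_one (x : Fi24.Gen) : t x * t x = 1 := by
  have h := rel_one x x (node x) (node x)
  rwa [show coxLabel Fi24.edges x x = 1 by simp [coxLabel], pow_one] at h

private lemma edge_eq (x y : Fi24.Gen) (h : coxLabel Fi24.edges x y = 3) : t x = t y := by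
  have h1 := rel_one x y (node x) (node y)
  rw [h, mul_pow, pow_succ, pow_two, sq_one, one_mul, pow_succ, pow_two, sq_one, one_mul] at h1
  calc t x = t x * (t y * t y) := by rw [sq_one, mul_one]
    _ = (t x * t y) * t y := by rw [mul_assoc]
    _ = t y := by rw [h1, one_mul]

private lemma all_eq : ∀ x, t x = t .a := by
  have ka : t .k = t .a := edge_eq _ _ (by decide)
  have la : t .l = t .a := (edge_eq .l .k (by decide)).trans ka
  have ba : t .b = t .a := edge_eq _ _ (by decide)
  have ca : t .c = t .a := (edge_eq .c .b (by decide)).trans ba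
  have da : t .d = t .a := (edge_eq .d .c (by decide)).trans ca
  have ea : t .e = t .a := (edge_eq .e .d (by decide)).trans da
  have fa : t .f = t .a := (edge_eq .f .e (by decide)).trans ea
  have ga : t .g = t .a := (edge_eq .g .f (by decide)).trans fa
  have ja : t .j = t .a := (edge_eq .j .g (by decide)).trans ga
  have ha : t .h = t .a := (edge_eq .h .d (by decide)).trans da
  have ia : t .i = t .a := (edge_eq .i .h (by decide)).trans ha
  intro x; cases x <;> first | rfl | assumption

/-- The commutator subgroup of the presented group Fi₂₄ has index 2 (the presented group is Fi₂₄′:2 with Fi₂₄′ its derived subgroup). -/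
theorem result : (commutator Cfsg.Spor.Fi24).index = 2 := by
  have hmem : ∀ u : Abelianization Fi24, u = 1 ∨ u = t .a := by
    intro u
    obtain ⟨g, rfl⟩ := Quotient.exists_rep u
    have hg : g ∈ Subgroup.closure (Set.range (PresentedGroup.of : Fi24.Gen → Fi24)) := by
      rw [PresentedGroup.closure_range_of]; trivial
    have key : Abelianization.of g = 1 ∨ Abelianization.of g = t .a := by
      induction hg using Subgroup.closure_induction with
      | mem y hy => obtain ⟨x, rfl⟩ := hy; exact Or.inr (all_eq x)
      | one => exact Or.inl (map_one _)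
      | mul a b _ _ ha hb =>
          rw [map_mul]
          rcases ha with ha | ha <;> rcases hb with hb | hb <;> simp [ha, hb, sq_one]
      | inv a _ ha =>
          rw [map_inv]
          rcases ha with ha | ha
          · simp [ha]
          · exact Or.inr (by rw [ha]; exact inv_eq_of_mul_eq_one_right (sq_one _))
    exact key
  have hsurj : Function.Surjective (fun b : Bool => if b then t .a else (1 : Abelianization Fi24)) := by
    intro u
    rcases hmem u with rfl | rfl
    · exact ⟨false, rfl⟩
    · exact ⟨true, rfl⟩
  haveI : Finite (Abelianization Fi24) := Finite.of_surjective _ hsurj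
  have hle := Nat.card_le_card_of_surjective _ hsurj
  rw [Nat.card_eq_fintype_card (α := Bool), Fintype.card_bool] at hle
  let φ : Abelianization Fi24 →* Multiplicative (ZMod 2) := Abelianization.lift (PresentedGroup.toGroup sgn_rels)
  have hne : t .a ≠ 1 := by
    intro h
    have h2 := congrArg φ h
    simp [φ, t] at h2
  haveI : Nontrivial (Abelianization Fi24) := ⟨⟨_, _, hne⟩⟩
  have hgt := Finite.one_lt_card (α := Abelianization Fi24)
  have heq : Nat.card (Abelianization Fi24) = 2 := by omega
  exact heq

end Cfsg.Agent.S1691
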