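import Cfsg.Statements.S1711
import Cfsg.Agent.Lib.Presented.J4Rep
import Cfsg.Agent.Lib.Presented.M24Pres
import Cfsg.Agent.Lib.Mathieu.Simple

set_option autoImplicit false
open Cfsg

namespace Cfsg.Agent.S1711

open Cfsg.Agent.Presented Cfsg.Agent.Presented.InvCert

/-- A letter of a reduced word; inverses of involutions are not distinguished. -/
def code : Spor.J4.Gen × Bool → ℕ
  | (.x, _) => 0
  | (.y, true) => 1
  | (.y, false) => 2
  | (.t, _) => 3

theorem codes : (Spor.J4.extra.take 7).map (fun r => r.toWord.map code) = M24Pres.R := by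
  decide +kernel

/-- The relators of `J4`. -/
abbrev rs : Set (FreeGroup Spor.J4.Gen) :=
  Spor.coxRelators Spor.J4.edges ∪ {r | r ∈ Spor.J4.extra}

/-- The generators `x, y, t`. -/
def gen : Spor.J4.Gen → Spor.J4 := fun g => PresentedGroup.of g

/-- The images of the letters. -/
def sJ : ℕ → Spor.J4
  | 3 => gen .t
  | k => M24Pres.sOf (gen .x) (gen .y) k

theorem mk_extra {r : FreeGroup Spor.J4.Gen} (hr : r ∈ Spor.J4.extra) :
    PresentedGroup.mk rs r = 1 := PresentedGroup.one_of_mem (Or.inr hr)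

theorem inv_x : (gen .x)⁻¹ = gen .x := by
  have h := mk_extra (show Spor.J4.x ^ 2 ∈ Spor.J4.extra from List.mem_cons_self)
  rw [map_pow, pow_two] at h
  exact inv_eq_of_mul_eq_one_right h

theorem inv_t : (gen .t)⁻¹ = gen .t := by
  have h := mk_extra (show Spor.J4.t ^ 2 ∈ Spor.J4.extra by simp [Spor.J4.extra])
  rw [map_pow, pow_two] at h
  exact inv_eq_of_mul_eq_one_right h

theorem mk_eq_pv (r : FreeGroup Spor.J4.Gen) :
    PresentedGroup.mk rs r = pv sJ (r.toWord.map code) := by
  have h : PresentedGroup.mk rs = FreeGroup.lift gen :=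
    FreeGroup.ext_hom _ _ fun g => by rw [FreeGroup.lift_apply_of]; rfl
  conv_lhs => rw [← FreeGroup.mk_toWord (x := r), h, FreeGroup.lift_mk]
  rw [pv, List.map_map]
  refine congrArg List.prod (List.map_congr_left fun p _ => ?_)
  obtain ⟨g, _ | _⟩ := p <;> cases g
  · exact inv_x
  · rfl
  · exact inv_t
  all_goals rfl

theorem rel_one : ∀ w ∈ M24Pres.R, pv (M24Pres.sOf (gen .x) (gen .y)) w = 1 := by
  intro w hw
  have hlt : ∀ u ∈ M24Pres.R, ∀ g ∈ u, g < 3 := by decide +kernel
  have e : pv (M24Pres.sOf (gen .x) (gen .y)) w = pv sJ w := by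
    refine congrArg List.prod (List.map_congr_left fun g hg => ?_)
    have := hlt w hw g hg
    interval_cases g <;> rfl
  rw [← codes, List.mem_map] at hw
  obtain ⟨r, hr, rfl⟩ := hw
  rw [e, ← mk_eq_pv]
  exact mk_extra (List.mem_of_mem_take hr)

/-- In the presented fourth Janko group (generators x, y, t), the subgroup generated by the images of x and y is isomorphic to the Mathieu group M₂₄. -/
theorem result : Nonempty ((((Subgroup.closure ({Cfsg.Spor.J4.x, Cfsg.Spor.J4.y} : Set (FreeGroup Cfsg.Spor.J4.Gen))).map (PresentedGroup.mk (Cfsg.Spor.coxRelators Cfsg.Spor.J4.edges ∪ {r | r ∈ Cfsg.Spor.J4.extra})))) ≃* Cfsg.M24) := by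
  obtain ⟨e⟩ := M24Pres.iso
  let f : Fin 2 → Spor.J4 := ![gen .x, gen .y]
  have hrel : ∀ r ∈ M24Pres.rels, FreeGroup.lift f r = 1 := by
    intro r hr
    obtain ⟨w, hw, rfl⟩ := List.mem_map.mp hr
    rw [M24Pres.map_pv, ← rel_one w hw]
    congr 1
    funext k
    rw [M24Pres.fs, M24Pres.map_sOf]
    simp [f]
  let φ : M24Pres.P →* Spor.J4 := PresentedGroup.toGroup hrel
  have hx : φ (PresentedGroup.of 0) = gen .x := PresentedGroup.toGroup.of hrel
  have hy : φ (PresentedGroup.of 1) = gen .y := PresentedGroup.toGroup.of hrel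
  have : IsSimpleGroup M24 := Cfsg.Agent.Mathieu.isSimple_M24
  have : IsSimpleGroup M24Pres.P := MulEquiv.isSimpleGroup e
  have hinj : Function.Injective φ := by
    rw [← MonoidHom.ker_eq_bot_iff]
    rcases φ.normal_ker.eq_bot_or_eq_top with h | h
    · exact h
    · have : PresentedGroup.of 0 ∈ φ.ker := by rw [h]; trivial
      rw [MonoidHom.mem_ker, hx] at this
      exact absurd this J4Rep.x_ne_one
  have hrange : (Subgroup.closure ({Spor.J4.x, Spor.J4.y} : Set (FreeGroup Spor.J4.Gen))).map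
      (PresentedGroup.mk rs) = φ.range := by
    rw [MonoidHom.range_eq_map, ← PresentedGroup.closure_range_of, MonoidHom.map_closure,
      MonoidHom.map_closure]
    congr 1
    rw [Set.image_pair]
    ext z
    constructor
    · rintro (rfl | rfl)
      · exact ⟨_, ⟨0, rfl⟩, hx⟩
      · exact ⟨_, ⟨1, rfl⟩, hy⟩
    · rintro ⟨_, ⟨i, rfl⟩, rfl⟩
      fin_cases i
      · exact Or.inl hx
      · exact Or.inr hy
  exact ⟨((MulEquiv.subgroupCongr hrange).trans (MonoidHom.ofInjective hinj).symm).trans e⟩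

end Cfsg.Agent.S1711
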