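import Cfsg.Statements.S1713
import Cfsg.Agent.Lib.Transpos.Recog22.Hyp
import Cfsg.Agent.Lib.Transpos.M22Present
import Cfsg.Agent.Lib.Transpos.M22Conn

set_option autoImplicit false
open Cfsg

namespace Cfsg.Agent.S1713

/-- The Fischer group Fi₂₂ from a transposition centraliser: let G be a finite group with an involution d such that the centraliser C of d is quasisimple, C modulo the subgroup generated by d is isomorphic to PSU(6, 2) (over a field with four elements), and d is not weakly closed in C, i.e. some conjugate of d different from d commutes with d. Then G is isomorphic to the presented Fischer group Fi₂₂. -/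
theorem result {G : Type*} [Group G] [Finite G] (d : G) (hd : orderOf d = 2) (hq : Cfsg.IsQuasisimple (Subgroup.centralizer ({d} : Set G))) [((Subgroup.zpowers d).subgroupOf (Subgroup.centralizer ({d} : Set G))).Normal] (K : Type) [Field K] [Fintype K] (hK : Fintype.card K = 4) (e : (Subgroup.centralizer ({d} : Set G)) ⧸ (Subgroup.zpowers d).subgroupOf (Subgroup.centralizer ({d} : Set G)) ≃* Cfsg.PSU 6 K 2) (hnwc : ∃ g : G, g * d * g⁻¹ ∈ Subgroup.centralizer ({d} : Set G) ∧ g * d * g⁻¹ ≠ d) : Cfsg.Spor.IsoFi22 G := by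
  obtain ⟨L⟩ := Cfsg.Agent.Transpos.Recog22.loc_of_hyp d hd hq K hK e hnwc
  have hC := L.is_class
  have hT := Cfsg.Agent.Fischer.TClass.of hC
  obtain ⟨b, hb, y, hy, -, -, hn⟩ := L.exists_far
  have hD2 : ∃ a ∈ conjugatesOf d, ∃ b ∈ conjugatesOf d, a ≠ b :=
    ⟨y, hy, b, hb, fun h => hn (by rw [h])⟩
  have hcore : ∀ p : ℕ, [Fact p.Prime] → (p = 2 ∨ p = 3) →
      Cfsg.pCore p G ≤ Subgroup.center G := fun p _ h23 =>
    sSup_le fun N ⟨hN, hp⟩ => (L.pgroup_normal_bot h23 N hN hp).le.trans bot_le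
  haveI : Fact (Nat.Prime 3) := ⟨Nat.prime_three⟩
  haveI : Fact (Nat.Prime 2) := ⟨Nat.prime_two⟩
  obtain ⟨N, hN, hNc, -⟩ := Cfsg.Agent.Fischer.exists_normal_component hT hD2
    (hcore 2 (Or.inl rfl)) (hcore 3 (Or.inr rfl))
  have hconn : (Cfsg.commutingGraph (conjugatesOf d)).Connected := by
    refine Cfsg.Agent.Fischer.connected_of_block hT (d := d) mem_conjugatesOf_self
      (Set.Subset.antisymm (Cfsg.Agent.Fischer.block_subset mem_conjugatesOf_self) fun v hv => ?_)
    exact Relation.ReflTransGen.mono (fun _ _ h => ⟨h.2.1, h.2.2⟩) _ _ (L.linked hv)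
  have hi := Cfsg.Agent.Fischer.index_le_two_of_connected hT hNc hconn
  obtain ⟨f, -⟩ := Cfsg.Agent.Transpos.exists_fi22_iso (Cfsg.Agent.Transpos.three_group_of_class hC)
    (Cfsg.Agent.Fischer.primitive_of_index hT hD2 hNc (hcore 2 (Or.inl rfl))
      (hcore 3 (Or.inr rfl)) hi) L.type_m22
  exact ⟨f.symm⟩

end Cfsg.Agent.S1713
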