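import Cfsg.Statements.S1717
-- import your own Cfsg.Agent.* helpers here

set_option autoImplicit false
open Cfsg

namespace Cfsg.Agent.S1717

open Matrix in
private abbrev SL5 := Matrix.SpecialLinearGroup (Fin 5) (ZMod 2)

private lemma zmod2_cases : ∀ c : ZMod 2, c = 0 ∨ c = 1 := by decide

private lemma commute_transvection {i j : Fin 5} {A : Matrix (Fin 5) (Fin 5) (ZMod 2)}
    (h : Matrix.transvection i j 1 * A = A * Matrix.transvection i j 1) :
    Commute (Matrix.single i j (1 : ZMod 2)) A := by
  rw [Matrix.transvection, add_mul, mul_add, one_mul, mul_one] at h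
  exact add_left_cancel h

variable (s : SL5) (hs : (s : Matrix (Fin 5) (Fin 5) (ZMod 2)) = Matrix.transvection 0 1 1)

include hs in
private lemma shape (A : Subgroup.centralizer ({s} : Set SL5)) :
    (∀ k, k ≠ 0 → (A.1.1 k 0) = 0) ∧ (∀ k, k ≠ 1 → (A.1.1 1 k) = 0) ∧ A.1.1 0 0 = 1 ∧ A.1.1 1 1 = 1 := by
  have h := Subgroup.mem_centralizer_iff.mp A.2 s rfl
  have h' := congrArg (fun x : SL5 => (x : Matrix (Fin 5) (Fin 5) (ZMod 2))) h
  simp only [Matrix.SpecialLinearGroup.coe_mul, hs] at h'
  have hc := commute_transvection h'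
  have c0 := fun k (hk : k ≠ (0 : Fin 5)) => Matrix.col_eq_zero_of_commute_single hc hk
  have r1 := fun k (hk : k ≠ (1 : Fin 5)) => Matrix.row_eq_zero_of_commute_single hc hk
  have d := Matrix.diag_eq_of_commute_single hc
  have h00 : A.1.1 0 0 = 1 := by
    rcases zmod2_cases (A.1.1 0 0) with h0 | h0
    · exfalso
      have hd : A.1.1.det = 0 := Matrix.det_eq_zero_of_column_eq_zero 0 fun k => by
        rcases eq_or_ne k 0 with rfl | hk
        · exact h0
        · exact c0 k hk
      rw [A.1.2] at hd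
      exact one_ne_zero hd
    · exact h0
  exact ⟨c0, r1, h00, d.symm.trans h00⟩

private def mid (A : Matrix (Fin 5) (Fin 5) (ZMod 2)) : Matrix (Fin 3) (Fin 3) (ZMod 2) :=
  fun a b => A ⟨a.1 + 2, by omega⟩ ⟨b.1 + 2, by omega⟩

include hs in
private lemma mid_mul (A B : Subgroup.centralizer ({s} : Set SL5)) :
    mid (A.1.1 * B.1.1) = mid A.1.1 * mid B.1.1 := by
  obtain ⟨a0, a1, -, -⟩ := shape s hs A
  obtain ⟨b0, b1, -, -⟩ := shape s hs B
  ext i j
  simp only [mid, Matrix.mul_apply, Fin.sum_univ_five, Fin.sum_univ_three, Matrix.of_apply]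
  rw [a0 ⟨i.1 + 2, by omega⟩ (fun h => absurd (congrArg Fin.val h) (by simp)), b1 ⟨j.1 + 2, by omega⟩ (fun h => absurd (congrArg Fin.val h) (by simp))]
  simp only [mul_zero, zero_mul, zero_add]
  rfl

include hs in
private def midHom : Subgroup.centralizer ({s} : Set SL5) →* Matrix (Fin 3) (Fin 3) (ZMod 2) where
  toFun A := mid A.1.1
  map_one' := by
    ext i j; fin_cases i <;> fin_cases j <;> rfl
  map_mul' A B := by
    simp only [Subgroup.coe_mul, Matrix.SpecialLinearGroup.coe_mul]
    exact mid_mul s hs A B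

include hs in
/-- The unipotent radical of the centraliser of the transvection. -/
private def rad : Subgroup (Subgroup.centralizer ({s} : Set SL5)) := (midHom s hs).ker

include hs in
private lemma rad_isPGroup : IsPGroup 2 (rad s hs) := by
  intro A
  refine ⟨2, ?_⟩
  have hA : mid A.1.1.1 = 1 := A.2
  obtain ⟨a0, a1, a00, a11⟩ := shape s hs A.1
  have m := fun i j => congrFun (congrFun hA i) j
  have m22 := m 0 0
  have m23 := m 0 1
  have m24 := m 0 2
  have m32 := m 1 0
  have m33 := m 1 1
  have m34 := m 1 2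
  have m42 := m 2 0
  have m43 := m 2 1
  have m44 := m 2 2
  simp [mid] at m22 m23 m24 m32 m33 m34 m42 m43 m44
  apply Subtype.ext; apply Subtype.ext; apply Subtype.ext
  simp only [SubgroupClass.coe_pow, Matrix.SpecialLinearGroup.coe_pow, OneMemClass.coe_one,
    Matrix.SpecialLinearGroup.coe_one]
  generalize A.1.1.1 = M at *
  rw [show (2 : ℕ) ^ 2 = 2 + 2 by norm_num, pow_add, pow_two]
  have two : ∀ c : ZMod 2, c + c = 0 := by decide
  have hsq : ∀ i j, (M * M) i j = if i = j then 1 else if i = 0 ∧ j = 1 then (M 0 2 * M 2 1 + M 0 3 * M 3 1 + M 0 4 * M 4 1) else 0 := by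
    intro i j
    fin_cases i <;> fin_cases j <;>
      simp [Matrix.mul_apply, Fin.sum_univ_five, a0, a1, a00, a11, m22, m23, m24, m32, m33, m34, m42, m43, m44, two]
  ext i j
  fin_cases i <;> fin_cases j <;>
    simp [Matrix.mul_apply (M := M * M), Fin.sum_univ_five, hsq, two, Matrix.one_apply]

include hs in
private lemma rad_centralizer (A : Subgroup.centralizer ({s} : Set SL5))
    (hA : ∀ q ∈ rad s hs, q * A = A * q) : A.1 = 1 ∨ A.1 = s := by
  obtain ⟨a0, a1, a00, a11⟩ := shape s hs A
  have key : ∀ i j : Fin 5, ∀ hij : i ≠ j, i ≠ 1 → j ≠ 0 →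
      mid (Matrix.transvection i j (1 : ZMod 2)) = 1 → Commute (Matrix.single i j (1 : ZMod 2)) A.1.1 := by
    intro i j hij hi hj hm
    let E : SL5 := ⟨Matrix.transvection i j 1, Matrix.det_transvection_of_ne i j hij 1⟩
    have hmem : E ∈ Subgroup.centralizer ({s} : Set SL5) := by
      rw [Subgroup.mem_centralizer_iff]
      rintro h rfl
      apply Subtype.ext
      simp only [Matrix.SpecialLinearGroup.coe_mul, hs]
      simp [E, Matrix.transvection, add_mul, mul_add, Matrix.single_mul_single_of_ne, hi.symm, hj]; abel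
    have hq : (⟨E, hmem⟩ : Subgroup.centralizer ({s} : Set SL5)) ∈ rad s hs := by
      exact hm
    have h := congrArg (fun x : Subgroup.centralizer ({s} : Set SL5) => (x.1.1)) (hA _ hq)
    simp only [Subgroup.coe_mul, Matrix.SpecialLinearGroup.coe_mul] at h
    exact commute_transvection h
  have h02 := key 0 2 (by decide) (by decide) (by decide) (by decide)
  have h03 := key 0 3 (by decide) (by decide) (by decide) (by decide)
  have h04 := key 0 4 (by decide) (by decide) (by decide) (by decide)
  have h21 := key 2 1 (by decide) (by decide) (by decide) (by decide)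
  have h31 := key 3 1 (by decide) (by decide) (by decide) (by decide)
  have h41 := key 4 1 (by decide) (by decide) (by decide) (by decide)
  have r2 := fun k (hk : k ≠ (2 : Fin 5)) => Matrix.row_eq_zero_of_commute_single h02 hk
  have r3 := fun k (hk : k ≠ (3 : Fin 5)) => Matrix.row_eq_zero_of_commute_single h03 hk
  have r4 := fun k (hk : k ≠ (4 : Fin 5)) => Matrix.row_eq_zero_of_commute_single h04 hk
  have c2 := fun k (hk : k ≠ (2 : Fin 5)) => Matrix.col_eq_zero_of_commute_single h21 hk
  have c3 := fun k (hk : k ≠ (3 : Fin 5)) => Matrix.col_eq_zero_of_commute_single h31 hk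
  have c4 := fun k (hk : k ≠ (4 : Fin 5)) => Matrix.col_eq_zero_of_commute_single h41 hk
  have d2 : A.1.1 2 2 = 1 := (Matrix.diag_eq_of_commute_single h02).symm.trans a00
  have d3 : A.1.1 3 3 = 1 := (Matrix.diag_eq_of_commute_single h03).symm.trans a00
  have d4 : A.1.1 4 4 = 1 := (Matrix.diag_eq_of_commute_single h04).symm.trans a00
  rcases zmod2_cases (A.1.1 0 1) with h01 | h01
  · left; apply Subtype.ext; ext i j
    fin_cases i <;> fin_cases j <;> simp [a0, a1, a00, a11, r2, r3, r4, c2, c3, c4, d2, d3, d4, h01]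
  · right; apply Subtype.ext; ext i j; rw [hs]
    fin_cases i <;> fin_cases j <;>
      simp [Matrix.transvection, a0, a1, a00, a11, r2, r3, r4, c2, c3, c4, d2, d3, d4, h01]

/-- Let G be a finite group with an involution z whose centraliser C is isomorphic to the centraliser of a transvection of SL(5, 2). Then a Sylow 2-subgroup of C, viewed in G, is a Sylow 2-subgroup of G (its index in G is odd). -/
theorem result {G : Type*} [Group G] [Finite G] (s : Matrix.SpecialLinearGroup (Fin 5) (ZMod 2)) (hs : (s : Matrix (Fin 5) (Fin 5) (ZMod 2)) = Matrix.transvection 0 1 1) (z : G) (hz : orderOf z = 2) (e : (Subgroup.centralizer ({z} : Set G)) ≃* Subgroup.centralizer ({s} : Set (Matrix.SpecialLinearGroup (Fin 5) (ZMod 2)))) (T : Sylow 2 (Subgroup.centralizer ({z} : Set G))) : ¬ 2 ∣ ((T : Subgroup (Subgroup.centralizer ({z} : Set G))).map (Subgroup.subtype (Subgroup.centralizer ({z} : Set G)))).index := by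
  haveI : Fact (Nat.Prime 2) := ⟨Nat.prime_two⟩
  let T' : Subgroup G := (T : Subgroup (Subgroup.centralizer ({z} : Set G))).map (Subgroup.centralizer ({z} : Set G)).subtype
  obtain ⟨S, hS⟩ := (T.isPGroup'.map (Subgroup.centralizer ({z} : Set G)).subtype).exists_le_sylow
  suffices hST : T' = (S : Subgroup G) by change ¬ 2 ∣ T'.index; rw [hST]; exact S.not_dvd_index
  have hzC : z ∈ (Subgroup.centralizer ({z} : Set G)) := Subgroup.mem_centralizer_iff.mpr (by rintro h rfl; rfl)
  -- any 2-subgroup of (Subgroup.centralizer ({z} : Set G)) above T' is T'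
  have hmax : ∀ P : Subgroup G, IsPGroup 2 P → T' ≤ P → P ⊓ (Subgroup.centralizer ({z} : Set G)) ≤ T' := by
    intro P hP hTP x hx
    have hle : (T : Subgroup (Subgroup.centralizer ({z} : Set G))) ≤ P.comap (Subgroup.centralizer ({z} : Set G)).subtype := fun t ht => hTP ⟨t, ht, rfl⟩
    have heq := T.is_maximal' (hP.comap_of_injective (Subgroup.centralizer ({z} : Set G)).subtype (Subgroup.centralizer ({z} : Set G)).subtype_injective) hle
    exact ⟨⟨x, hx.2⟩, by rw [← heq]; exact hx.1, rfl⟩
  have hnorm : ∀ (N : Subgroup (Subgroup.centralizer ({z} : Set G))), N.Normal → IsPGroup 2 N → N ≤ (T : Subgroup (Subgroup.centralizer ({z} : Set G))) := by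
    intro N hN hNp
    have := T.is_maximal' (IsPGroup.to_sup_of_normal_left hNp T.isPGroup') le_sup_right
    exact this ▸ le_sup_left
  -- the preimage of the radical lies in T
  have hRnormal : (rad s hs).Normal := MonoidHom.normal_ker _
  have hRp : IsPGroup 2 ((rad s hs).comap e.toMonoidHom) := (rad_isPGroup s hs).comap_of_injective _ e.injective
  have hRT := hnorm _ (hRnormal.comap _) hRp
  -- an element of (Subgroup.centralizer ({z} : Set G)) centralising T is 1 or z
  have hZ : ∀ w : (Subgroup.centralizer ({z} : Set G)), (∀ t ∈ (T : Subgroup (Subgroup.centralizer ({z} : Set G))), t * w = w * t) → w.1 = 1 ∨ w.1 = z := by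
    intro w hw
    have hw' : ∀ v : (Subgroup.centralizer ({z} : Set G)), (∀ t ∈ (T : Subgroup (Subgroup.centralizer ({z} : Set G))), t * v = v * t) → (e v).1 = 1 ∨ (e v).1 = s := by
      intro v hv
      apply rad_centralizer s hs
      intro q hq
      have h1 := hv (e.symm q) (hRT (by simpa [Subgroup.mem_comap] using hq))
      have h2 := congrArg e h1
      simpa using h2
    have hzc : ∀ t : (Subgroup.centralizer ({z} : Set G)), t * (⟨z, hzC⟩ : (Subgroup.centralizer ({z} : Set G))) = ⟨z, hzC⟩ * t := fun t =>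
      Subtype.ext (Subgroup.mem_centralizer_iff.mp t.2 z rfl).symm
    have ez := hw' ⟨z, hzC⟩ (fun t _ => hzc t)
    have hz1 : z ≠ 1 := by intro h; rw [h, orderOf_one] at hz; exact absurd hz (by decide)
    rcases ez with ez | ez
    · exfalso
      have : (⟨z, hzC⟩ : (Subgroup.centralizer ({z} : Set G))) = 1 := e.injective (by rw [map_one]; exact Subtype.ext ez)
      exact hz1 (congrArg Subtype.val this)
    rcases hw' w hw with hw1 | hw1
    · left
      have : w = 1 := e.injective (by rw [map_one]; exact Subtype.ext hw1)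
      exact congrArg Subtype.val this
    · right
      have : w = ⟨z, hzC⟩ := e.injective (Subtype.ext (hw1.trans ez.symm))
      exact congrArg Subtype.val this
  by_contra hne
  have hlt : T' < (S : Subgroup G) := lt_of_le_of_ne hS hne
  haveI : Group.IsNilpotent (S : Subgroup G) := S.isPGroup'.isNilpotent
  have hlt' : T'.subgroupOf (S : Subgroup G) < ⊤ := by
    rw [lt_top_iff_ne_top, Ne, Subgroup.subgroupOf_eq_top]
    exact fun h => hlt.not_ge h
  obtain ⟨⟨g, hgS⟩, hg, hgT⟩ := SetLike.exists_of_lt (normalizerCondition_of_isNilpotent _ hlt')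
  have hgT' : g ∉ T' := fun h => hgT h
  have hnormg : ∀ x, x ∈ T' ↔ g * x * g⁻¹ ∈ T' := by
    intro x
    constructor
    · intro hx
      have := (Subgroup.mem_normalizer_iff.mp hg ⟨x, hS hx⟩).mp hx
      exact this
    · intro hx
      have hxS : x ∈ (S : Subgroup G) := by
        have := S.1.mul_mem (S.1.mul_mem (S.1.inv_mem hgS) (hS hx)) hgS
        simpa [mul_assoc] using this
      exact (Subgroup.mem_normalizer_iff.mp hg ⟨x, hxS⟩).mpr hx
  -- z lies in T'
  have hzT : z ∈ T' := by
    have hp : IsPGroup 2 (Subgroup.zpowers (⟨z, hzC⟩ : (Subgroup.centralizer ({z} : Set G)))) := by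
      apply IsPGroup.of_card (n := 1)
      rw [Nat.card_zpowers, ← Subgroup.orderOf_coe]; simpa using hz
    have hn : (Subgroup.zpowers (⟨z, hzC⟩ : (Subgroup.centralizer ({z} : Set G)))).Normal := by
      constructor
      intro n hn c
      obtain ⟨k, rfl⟩ := Subgroup.mem_zpowers_iff.mp hn
      have hc : Commute c (⟨z, hzC⟩ : (Subgroup.centralizer ({z} : Set G))) := Subtype.ext (Subgroup.mem_centralizer_iff.mp c.2 z rfl).symm
      rw [(hc.zpow_right k).eq, mul_inv_cancel_right]
      exact zpow_mem (Subgroup.mem_zpowers _) k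
    exact ⟨⟨z, hzC⟩, hnorm _ hn hp (Subgroup.mem_zpowers _), rfl⟩
  obtain ⟨w, hwT, hw⟩ := (hnormg z).mp hzT
  have hcent : ∀ t ∈ (T : Subgroup (Subgroup.centralizer ({z} : Set G))), t * w = w * t := by
    intro t ht
    have ht' : g⁻¹ * t.1 * g ∈ T' := by
      rw [hnormg, show g * (g⁻¹ * t.1 * g) * g⁻¹ = t.1 by group]
      exact ⟨t, ht, rfl⟩
    have hmemC : g⁻¹ * t.1 * g ∈ (Subgroup.centralizer ({z} : Set G)) := by obtain ⟨u, -, hu⟩ := ht'; rw [← hu]; exact u.2
    have hc := Subgroup.mem_centralizer_iff.mp hmemC z rfl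
    apply Subtype.ext
    simp only [Subgroup.coe_mul]
    simp only [Subgroup.coe_subtype] at hw
    rw [hw]
    calc t.1 * (g * z * g⁻¹) = g * ((g⁻¹ * t.1 * g) * z) * g⁻¹ := by group
      _ = g * (z * (g⁻¹ * t.1 * g)) * g⁻¹ := by rw [hc]
      _ = g * z * g⁻¹ * t.1 := by group
  simp only [Subgroup.coe_subtype] at hw
  rcases hZ w hcent with h | h
  · rw [hw, conj_eq_one_iff] at h
    rw [h, orderOf_one] at hz
    exact absurd hz (by decide)
  · apply hgT'
    refine hmax S S.isPGroup' hS ⟨hgS, ?_⟩
    refine Subgroup.mem_centralizer_iff.mpr ?_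
    rintro x rfl
    rw [hw] at h
    exact (mul_inv_eq_iff_eq_mul.mp h).symm

end Cfsg.Agent.S1717
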