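import Cfsg.Statements.S1753


set_option autoImplicit false
universe u
open Cfsg

namespace Cfsg.Agent.S1753


/-- Let K be any property of groups. (1) If G is a minimal counterexample relative to K — a finite non-abelian simple group not satisfying K such that every finite non-abelian simple group of smaller order satisfies K — then every proper subgroup of G is a K-group (all its non-abelian simple sections satisfy K), since such sections have smaller order than G. (2) Consequently (induction on the order), if every finite non-abelian simple group all of whose proper subgroups are K-groups satisfies K, then every finite non-abelian simple group satisfies K. -/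
theorem result (K : ∀ (X : Type u) [Group X], Prop) :
    (∀ (G : Type u) [Group G], Cfsg.IsMinCounterexampleWith K G → Cfsg.IsKProperWith K G) ∧
      ((∀ (X : Type u) [Group X] [Finite X], IsSimpleGroup X → ¬ IsMulCommutative X → Cfsg.IsKProperWith K X → K X) →
        ∀ (G : Type u) [Group G] [Finite G], IsSimpleGroup G → ¬ IsMulCommutative G → K G) := by
  refine ⟨fun G _ hG => ?_, fun h => ?_⟩
  · obtain ⟨hfin, -, -, -, hsmall⟩ := hG
    intro H hH P N hN hs hc
    refine hsmall (↥P ⧸ N) hs hc ?_
    calc Nat.card (↥P ⧸ N) ≤ Nat.card ↥P :=
          Nat.card_le_card_of_surjective _ (QuotientGroup.mk'_surjective N)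
      _ ≤ Nat.card ↥H := Subgroup.card_le_card_group P
      _ < Nat.card G := by
          rcases lt_or_eq_of_le (Subgroup.card_le_card_group H) with hlt | heq
          · exact hlt
          · exact absurd ((Subgroup.card_eq_iff_eq_top H).mp heq) hH
  · suffices ∀ n : ℕ, ∀ (G : Type u) [Group G] [Finite G], Nat.card G = n →
        IsSimpleGroup G → ¬ IsMulCommutative G → K G from fun G _ _ hs hc => this _ G rfl hs hc
    intro n
    induction n using Nat.strong_induction_on with
    | _ n ih =>
      intro G _ _ hn hs hc
      refine h G hs hc fun H hH P N hN hs' hc' => ih _ ?_ (↥P ⧸ N) rfl hs' hc'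
      subst hn
      calc Nat.card (↥P ⧸ N) ≤ Nat.card ↥P :=
            Nat.card_le_card_of_surjective _ (QuotientGroup.mk'_surjective N)
        _ ≤ Nat.card ↥H := Subgroup.card_le_card_group P
        _ < Nat.card G := by
            rcases lt_or_eq_of_le (Subgroup.card_le_card_group H) with hlt | heq
            · exact hlt
            · exact absurd ((Subgroup.card_eq_iff_eq_top H).mp heq) hH

end Cfsg.Agent.S1753
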