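import Cfsg.Statements.S1755
import Cfsg.Agent.Lib.TI.Extraspecial
import Cfsg.Agent.Lib.TI.Abelian

set_option autoImplicit false
open Cfsg

namespace Cfsg.Agent.S1755

open Subgroup in
/-- Subgroups of a finite cyclic group with the same order are equal. -/
theorem subgroup_eq_of_card {A : Type*} [Group A] [Finite A] [IsCyclic A] {H K : Subgroup A}
    (h : Nat.card H = Nat.card K) : H = K := by
  classical
  cases nonempty_fintype A
  letI := IsCyclic.commGroup (α := A)
  have hle : ∀ L : Subgroup A, (L : Set A).toFinset ⊆ ({a : A | a ^ Nat.card H = 1} : Finset A) →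
      (L : Set A).toFinset.card ≤ Nat.card H := fun L hL =>
    le_trans (Finset.card_le_card hL) (IsCyclic.card_pow_eq_one_le Nat.card_pos)
  have hcard : ∀ L : Subgroup A, (L : Set A).toFinset.card = Nat.card L := fun L => by
    rw [Set.toFinset_card, ← Nat.card_eq_fintype_card]; rfl
  have hH : (H : Set A).toFinset = ({a : A | a ^ Nat.card H = 1} : Finset A) := by
    refine Finset.eq_of_subset_of_card_le ?_ ?_
    · intro a ha
      simp only [Set.mem_toFinset, SetLike.mem_coe] at ha
      have h0 : a ^ Nat.card H = 1 := congrArg Subtype.val (pow_card_eq_one' (x := (⟨a, ha⟩ : H)))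
      simpa using h0
    · rw [hcard]; exact IsCyclic.card_pow_eq_one_le Nat.card_pos
  have hK : (K : Set A).toFinset = ({a : A | a ^ Nat.card H = 1} : Finset A) := by
    refine Finset.eq_of_subset_of_card_le ?_ ?_
    · intro a ha
      simp only [Set.mem_toFinset, SetLike.mem_coe] at ha
      have h0 : a ^ Nat.card H = 1 := h ▸ congrArg Subtype.val (pow_card_eq_one' (x := (⟨a, ha⟩ : K)))
      simpa using h0
    · rw [hcard, ← h]; exact IsCyclic.card_pow_eq_one_le Nat.card_pos
  exact SetLike.coe_injective (Set.toFinset_inj.mp (hH.trans hK.symm))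

open Subgroup in
/-- A nontrivial characteristic abelian subgroup of a symplectic type normal subgroup `F ∋ z` of `C(z)`
determines `z`. -/
theorem ti_of_char {G : Type*} [Group G] [Finite G] (z : G) (hz : orderOf z = 2)
    (F : Subgroup ↥(centralizer ({z} : Set G))) (hFn : F.Normal)
    (hzmem : (⟨z, mem_centralizer_singleton_iff.mpr rfl⟩ : ↥(centralizer ({z} : Set G))) ∈ F)
    (hQ : Cfsg.IsOfSymplecticType ↥F) (B : Subgroup ↥F) (hBc : B.Characteristic)
    (hBa : IsMulCommutative ↥B) (g : G) :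
    ((B.map F.subtype).map (centralizer ({z} : Set G)).subtype).map (MulAut.conj g).toMonoidHom =
        (B.map F.subtype).map (centralizer ({z} : Set G)).subtype ∨
      ((B.map F.subtype).map (centralizer ({z} : Set G)).subtype).map (MulAut.conj g).toMonoidHom ⊓
        (B.map F.subtype).map (centralizer ({z} : Set G)).subtype = ⊥ := by
  haveI : Fact (Nat.Prime 2) := ⟨Nat.prime_two⟩
  let zF : ↥F := ⟨_, hzmem⟩
  have hzF : zF ∈ center ↥F := mem_center_iff.mpr fun y =>
    Subtype.ext (Subtype.ext (mem_centralizer_singleton_iff.mp (y : ↥(centralizer ({z} : Set G))).2))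
  have hzG : ((zF : ↥(centralizer ({z} : Set G))) : G) = z := rfl
  haveI hcyc : IsCyclic ↥(center ↥F) := hQ.2 _ inferInstance inferInstance
  haveI hBcyc : IsCyclic ↥B := hQ.2 B hBc hBa
  haveI := hFn
  have hBn : B.Normal := by haveI := hBc; exact inferInstance
  -- every involution of `B` equals `zF`
  have hinv : ∀ b ∈ B, orderOf b = 2 → b = zF := by
    intro b hb hb2
    haveI := hBc
    have hn : (zpowers b).Normal := by
      refine ⟨fun x hx y => ?_⟩
      have hyb : y * b * y⁻¹ ∈ B := hBn.conj_mem b hb y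
      have ho : orderOf (⟨y * b * y⁻¹, hyb⟩ : ↥B) = 2 ∧ orderOf (⟨b, hb⟩ : ↥B) = 2 := by
        rw [← orderOf_coe (⟨y * b * y⁻¹, hyb⟩ : ↥B), ← orderOf_coe (⟨b, hb⟩ : ↥B)]
        exact ⟨by show orderOf (y * b * y⁻¹) = 2; rw [← MulAut.conj_apply, MulEquiv.orderOf_eq, hb2], hb2⟩
      have heq : zpowers (⟨y * b * y⁻¹, hyb⟩ : ↥B) = zpowers ⟨b, hb⟩ :=
        subgroup_eq_of_card (by rw [Nat.card_zpowers, Nat.card_zpowers, ho.1, ho.2])
      obtain ⟨k, hk⟩ := mem_zpowers_iff.mp (heq ▸ mem_zpowers (⟨y * b * y⁻¹, hyb⟩ : ↥B) :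
        (⟨y * b * y⁻¹, hyb⟩ : ↥B) ∈ zpowers ⟨b, hb⟩)
      have hk' : b ^ k = y * b * y⁻¹ := congrArg Subtype.val hk
      obtain ⟨m, rfl⟩ := mem_zpowers_iff.mp hx
      rw [← conj_zpow, ← hk', ← zpow_mul]
      exact zpow_mem (mem_zpowers b) _
    have hbc : b ∈ center ↥F := by
      refine mem_center_iff.mpr fun y => ?_
      obtain ⟨m, hm⟩ := mem_zpowers_iff.mp (hn.conj_mem b (mem_zpowers b) y)
      rcases Int.even_or_odd m with ⟨k, rfl⟩ | ⟨k, rfl⟩
      · rw [← two_mul, zpow_mul, zpow_ofNat, ← hb2, pow_orderOf_eq_one, one_zpow, eq_comm,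
          conj_eq_one_iff] at hm
        rw [hm, mul_one, one_mul]
      · rw [zpow_add, zpow_mul, zpow_ofNat, ← hb2, pow_orderOf_eq_one, one_zpow, one_mul, zpow_one] at hm
        exact mul_inv_eq_iff_eq_mul.mp hm.symm
    have hzo : orderOf zF = 2 := by rw [← orderOf_coe, ← orderOf_coe, hzG, hz]
    have heq : zpowers (⟨b, hbc⟩ : ↥(center ↥F)) = zpowers ⟨zF, hzF⟩ :=
      subgroup_eq_of_card (by
        rw [Nat.card_zpowers, Nat.card_zpowers, ← orderOf_coe (⟨b, hbc⟩ : ↥(center ↥F)),
          ← orderOf_coe (⟨zF, hzF⟩ : ↥(center ↥F))]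
        exact hb2.trans hzo.symm)
    obtain ⟨k, hk⟩ := mem_zpowers_iff.mp (heq ▸ mem_zpowers (⟨b, hbc⟩ : ↥(center ↥F)) :
      (⟨b, hbc⟩ : ↥(center ↥F)) ∈ zpowers ⟨zF, hzF⟩)
    have hk' : zF ^ k = b := congrArg Subtype.val hk
    rcases Int.even_or_odd k with ⟨j, rfl⟩ | ⟨j, rfl⟩
    · rw [← two_mul, zpow_mul, zpow_ofNat, ← hzo, pow_orderOf_eq_one, one_zpow] at hk'
      rw [← hk', orderOf_one] at hb2
      omega
    · rw [zpow_add, zpow_mul, zpow_ofNat, ← hzo, pow_orderOf_eq_one, one_zpow, one_mul, zpow_one] at hk'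
      exact hk'.symm
  have hinv0 : ∀ x ∈ (B.map F.subtype).map (centralizer ({z} : Set G)).subtype, orderOf x = 2 → x = z := by
    rintro _ ⟨_, ⟨b, hb, rfl⟩, rfl⟩ hx
    have h1 : orderOf b = 2 := by rw [← orderOf_coe, ← orderOf_coe]; exact hx
    show ((b : ↥(centralizer ({z} : Set G))) : G) = z
    rw [hinv b hb h1, hzG]
  set B' : Subgroup G := (B.map F.subtype).map (centralizer ({z} : Set G)).subtype with hB'
  have hB2 : IsPGroup 2 ↥B' := ((hQ.1.to_subgroup B).map F.subtype).map _
  have hinv' : ∀ x ∈ B', orderOf x = 2 → x = z := hinv0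
  refine or_iff_not_imp_right.mpr fun hne => ?_
  haveI hnt : Nontrivial ↥(B'.map (MulAut.conj g).toMonoidHom ⊓ B') := (nontrivial_iff_ne_bot _).mpr hne
  obtain ⟨n, hn, hc⟩ := (hB2.to_le (inf_le_right (a := B'.map (MulAut.conj g).toMonoidHom))).nontrivial_iff_card.mp hnt
  obtain ⟨x, hx⟩ := exists_prime_orderOf_dvd_card' 2 (hc ▸ dvd_pow_self 2 hn.ne' :
    2 ∣ Nat.card ↥(B'.map (MulAut.conj g).toMonoidHom ⊓ B'))
  rw [← orderOf_coe] at hx
  have h1 : (x : G) = z := hinv' x x.2.2 hx
  have h2 : g⁻¹ * (x : G) * g = z := by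
    refine hinv' _ (TI.mem_conj_iff.mp x.2.1) ?_
    rw [show g⁻¹ * (x : G) * g = MulAut.conj g⁻¹ (x : G) by simp, MulEquiv.orderOf_eq, hx]
  have hgC : g ∈ centralizer ({z} : Set G) := mem_centralizer_singleton_iff.mpr (by
    calc g * z = g * (g⁻¹ * (x : G) * g) := by rw [h2]
      _ = z * g := by rw [h1]; group)
  have hBmap : ∀ c : ↥(centralizer ({z} : Set G)), c ∈ normalizer ((B.map F.subtype : Subgroup _) : Set _) := by
    haveI := hBc
    haveI : (B.map F.subtype).Normal := ConjAct.normal_of_characteristic_of_normal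
    exact fun c => normalizer_eq_top (H := B.map F.subtype) ▸ mem_top c
  rw [← TI.mem_normalizer_iff_conj_eq, hB']
  exact le_normalizer_map (centralizer ({z} : Set G)).subtype
    ⟨⟨g, hgC⟩, hBmap ⟨g, hgC⟩, rfl⟩


/-- Let G be a finite group and let z be an involution of G such that Q, the generalized Fitting subgroup of the centralizer C of z, is a 2-group of symplectic type (every characteristic abelian subgroup of Q is cyclic). Let B be a characteristic abelian subgroup of Q, viewed as a subgroup of G. Then for every g in G, the conjugate of B by g either equals B or meets B trivially. -/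
theorem result {G : Type*} [Group G] [Finite G] (z : G) (hz : orderOf z = 2) (hQ : Cfsg.IsOfSymplecticType ↥(Cfsg.generalizedFittingSubgroup ↥(Subgroup.centralizer ({z} : Set G))))
    (B : Subgroup ↥(Cfsg.generalizedFittingSubgroup ↥(Subgroup.centralizer ({z} : Set G)))) (hBc : B.Characteristic) (hBa : IsMulCommutative ↥B) (g : G) :
    ((B.map (Cfsg.generalizedFittingSubgroup ↥(Subgroup.centralizer ({z} : Set G))).subtype).map (Subgroup.centralizer ({z} : Set G)).subtype).map (MulAut.conj g).toMonoidHom =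
        (B.map (Cfsg.generalizedFittingSubgroup ↥(Subgroup.centralizer ({z} : Set G))).subtype).map (Subgroup.centralizer ({z} : Set G)).subtype ∨
      ((B.map (Cfsg.generalizedFittingSubgroup ↥(Subgroup.centralizer ({z} : Set G))).subtype).map (Subgroup.centralizer ({z} : Set G)).subtype).map (MulAut.conj g).toMonoidHom ⊓
        (B.map (Cfsg.generalizedFittingSubgroup ↥(Subgroup.centralizer ({z} : Set G))).subtype).map (Subgroup.centralizer ({z} : Set G)).subtype = ⊥ := by
  exact ti_of_char z hz _ (Cfsg.Agent.Components.generalizedFittingSubgroup_normal _)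
    (Cfsg.Agent.TI.mem_genFitting_of_central (Subgroup.mem_center_iff.mpr fun y => Subtype.ext
      (Subgroup.mem_centralizer_singleton_iff.mp y.2))) hQ B hBc hBa g

end Cfsg.Agent.S1755
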