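import Cfsg.Statements.S1756
import Cfsg.Agent.Lib.TI.Extraspecial

set_option autoImplicit false
open Cfsg

namespace Cfsg.Agent.S1756


/-- Let Q be an extraspecial 2-subgroup of the finite group G (special with centre of order 2) and t an involution of G normalizing Q such that the centralizer of t in Q has index at most 2 in Q. Then t lies in the product of Q with the centralizer of Q. -/
theorem result {G : Type*} [Group G] [Finite G] (Q : Subgroup G)
    (hQ : Cfsg.IsExtraspecial 2 ↥Q) (t : G) (ht : orderOf t = 2) (htN : t ∈ Subgroup.normalizer (Q : Set G))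
    (hi : (Subgroup.centralizer ({t} : Set G) ⊓ Q).relIndex Q ≤ 2) :
    t ∈ Q ⊔ Subgroup.centralizer (Q : Set G) := by
  haveI : Fact (Nat.Prime 2) := ⟨Nat.prime_two⟩
  let f : MulAut ↥Q := Q.normalizerMonoidHom ⟨t, htN⟩
  have hf : ∀ q : ↥Q, ((f q : ↥Q) : G) = t * q * t⁻¹ := fun _ => rfl
  have ht2 : t * t = 1 := by rw [← pow_two, ← ht, pow_orderOf_eq_one]
  have hf2 : ∀ q : ↥Q, f (f q) = q := fun q => Subtype.ext (by
    rw [hf, hf, inv_eq_of_mul_eq_one_right ht2]
    calc t * (t * (q : G) * t) * t = t * t * q * (t * t) := by group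
      _ = q := by rw [ht2, one_mul, mul_one])
  set D : Subgroup ↥Q := (Subgroup.centralizer ({t} : Set G)).subgroupOf Q with hD
  have hDf : ∀ q : ↥Q, q ∈ D ↔ f q = q := by
    intro q
    rw [hD, Subgroup.mem_subgroupOf, Subgroup.mem_centralizer_singleton_iff]
    constructor
    · intro h
      exact Subtype.ext (by rw [hf, ← h, mul_inv_cancel_right])
    · intro h
      have := congrArg Subtype.val h
      rw [hf, mul_inv_eq_iff_eq_mul] at this
      exact this.symm
  have hi' : D.index ≤ 2 := by
    rwa [Subgroup.inf_relIndex_right] at hi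
  have hi0 : D.index ≠ 0 := Subgroup.index_ne_zero_of_finite
  rcases (show D.index = 1 ∨ D.index = 2 by omega) with h1 | h1
  · refine Subgroup.mem_sup_right (Subgroup.mem_centralizer_iff.mpr fun q hq => ?_)
    have h : (⟨q, hq⟩ : ↥Q) ∈ D := by rw [Subgroup.index_eq_one.mp h1]; trivial
    exact Subgroup.mem_centralizer_singleton_iff.mp h
  · obtain ⟨a, ha⟩ := Cfsg.Agent.TI.exists_eq_conj hQ f hf2 D hDf h1
    have hmem : (a : G)⁻¹ * t ∈ Subgroup.centralizer (Q : Set G) :=
      Subgroup.mem_centralizer_iff.mpr fun q hq => by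
        have h := congrArg Subtype.val (ha ⟨q, hq⟩)
        rw [hf] at h
        have h' : t * q * t⁻¹ = (a : G) * q * (a : G)⁻¹ := h
        calc q * ((a : G)⁻¹ * t) = (a : G)⁻¹ * ((a : G) * q * (a : G)⁻¹) * t := by group
          _ = (a : G)⁻¹ * t * q := by rw [← h']; group
    have := Subgroup.mul_mem_sup a.2 hmem
    rwa [mul_inv_cancel_left] at this

end Cfsg.Agent.S1756
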