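import Cfsg.Statements.S1774
import Cfsg.Agent.Lib.TI.SymplecticFour
import Cfsg.Agent.Lib.TI.Extraspecial

set_option autoImplicit false
open Cfsg

namespace Cfsg.Agent.S1774

open Subgroup
open scoped commutatorElement

/-- The data carried by `Q = F*(C(z))` when it is of symplectic type and exponent four. -/
structure Core {G : Type*} [Group G] (z : G) (Q : Subgroup G) : Prop where
  two : IsPGroup 2 Q
  mem : z ∈ Q
  central : ∀ x ∈ Q, x * z = z * x
  normed : ∀ c, c * z = z * c → ∀ x ∈ Q, c * x * c⁻¹ ∈ Q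
  self : ∀ c, c * z = z * c → (∀ x ∈ Q, c * x = x * c) → c ∈ Q
  comm : ∀ a ∈ Q, ∀ b ∈ Q, a * b * a⁻¹ = b ∨ a * b * a⁻¹ = z * b
  uniq : ∀ y ∈ Q, y * y = 1 → (∀ x ∈ Q, x * y = y * x) → y = 1 ∨ y = z

theorem core {G : Type*} [Group G] [Finite G] (z : G) (hz : orderOf z = 2)
    (hQ : IsOfSymplecticType ↥(generalizedFittingSubgroup ↥(centralizer ({z} : Set G))))
    (h4 : ∀ q ∈ (generalizedFittingSubgroup ↥(centralizer ({z} : Set G))).map
      (centralizer ({z} : Set G)).subtype, q ^ 4 = 1) :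
    Core z ((generalizedFittingSubgroup ↥(centralizer ({z} : Set G))).map (centralizer ({z} : Set G)).subtype) := by
  set C : Subgroup G := centralizer ({z} : Set G) with hC
  set F : Subgroup C := generalizedFittingSubgroup C with hF
  have hmemC : ∀ c : G, c * z = z * c → c ∈ C := fun c h => mem_centralizer_singleton_iff.mpr h
  have hz2 : z * z = 1 := by rw [← pow_two, ← hz, pow_orderOf_eq_one]
  have hz1 : z ≠ 1 := fun h => by rw [h, orderOf_one] at hz; omega
  let zc : C := ⟨z, hmemC z rfl⟩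
  have hzc : zc ∈ center C := mem_center_iff.mpr fun c => Subtype.ext (mem_centralizer_singleton_iff.mp c.2)
  have hzF : zc ∈ F := TI.mem_genFitting_of_central hzc
  let zf : F := ⟨zc, hzF⟩
  have hzf : zf ∈ center F := mem_center_iff.mpr fun y => Subtype.ext (mem_center_iff.mp hzc y.1)
  have hzf2 : zf * zf = 1 := Subtype.ext (Subtype.ext hz2)
  have hzf1 : zf ≠ 1 := fun h => hz1 (congrArg (fun y : F => ((y : C) : G)) h)
  have hcs := TI.commutator_and_square_mem hQ
    (fun x => Subtype.ext (Subtype.ext (h4 _ ⟨x.1, x.2, rfl⟩))) hzf hzf2 hzf1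
  haveI : F.Normal := by rw [hF]; infer_instance
  refine ⟨hQ.1.map _, ⟨zc, hzF, rfl⟩, ?_, ?_, ?_, ?_, ?_⟩
  · rintro _ ⟨x, hx, rfl⟩
    exact mem_centralizer_singleton_iff.mp x.2
  · rintro c hc _ ⟨x, hx, rfl⟩
    exact ⟨⟨c, hmemC c hc⟩ * x * ⟨c, hmemC c hc⟩⁻¹, ‹F.Normal›.conj_mem x hx _, rfl⟩
  · intro c hc hcen
    refine ⟨⟨c, hmemC c hc⟩, Components.centralizer_generalizedFittingSubgroup_le
      (mem_centralizer_iff.mpr fun y hy => Subtype.ext (hcen _ ⟨y, hy, rfl⟩).symm), rfl⟩
  · rintro _ ⟨a, ha, rfl⟩ _ ⟨b, hb, rfl⟩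
    rcases hcs.1 ⟨a, ha⟩ ⟨b, hb⟩ with h | h <;> rw [commutatorElement_def, mul_inv_eq_iff_eq_mul] at h
    · refine Or.inl ?_
      rw [one_mul] at h
      exact congrArg (fun y : F => ((y : C) : G)) h
    · exact Or.inr (congrArg (fun y : F => ((y : C) : G)) h)
  · rintro _ ⟨y, hy, rfl⟩ hy2 hycen
    refine or_iff_not_imp_left.mpr fun hy1 => ?_
    have h := TI.unique_central_involution hQ (x := (⟨y, hy⟩ : F))
      (mem_center_iff.mpr fun x => Subtype.ext (Subtype.ext (hycen _ ⟨x.1, x.2, rfl⟩))) hzf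
      (Subtype.ext (Subtype.ext hy2)) hzf2
      (fun h => hy1 (congrArg (fun y : F => ((y : C) : G)) h)) hzf1
    exact congrArg (fun y : F => ((y : C) : G)) h

/-- A non-central involution is moved to its product with `z`. -/
theorem Core.moves {G : Type*} [Group G] {z : G} {Q : Subgroup G} (h : Core z Q) {y : G} (hy : y ∈ Q)
    (hy2 : y * y = 1) (hy1 : y ≠ 1) (hyz : y ≠ z) : ∃ x ∈ Q, x * y * x⁻¹ = z * y := by
  by_contra hcon
  push Not at hcon
  rcases h.uniq y hy hy2 (fun x hx => mul_inv_eq_iff_eq_mul.mp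
    ((h.comm x hx y hy).resolve_right (hcon x hx))) with e | e
  · exact hy1 e
  · exact hyz e

theorem four_cases {G : Type*} [Group G] {a b : G} (ha : a * a = 1) (hb : b * b = 1) (hab : b * a = a * b)
    {x : G} (hx : x ∈ closure ({a, b} : Set G)) : x = 1 ∨ x = a ∨ x = b ∨ x = a * b := by
  have hai : a⁻¹ = a := inv_eq_of_mul_eq_one_right ha
  have hbi : b⁻¹ = b := inv_eq_of_mul_eq_one_right hb
  have h1 : a * (a * b) = b := by rw [← mul_assoc, ha, one_mul]
  have h2 : b * (a * b) = a := by rw [← mul_assoc, hab, mul_assoc, hb, mul_one]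
  have h3 : a * b * a = b := by rw [mul_assoc, hab, h1]
  have h4 : a * b * b = a := by rw [mul_assoc, hb, mul_one]
  have h5 : a * b * (a * b) = 1 := by rw [mul_assoc, h2, ha]
  induction hx using closure_induction with
  | mem y hy => rcases hy with rfl | rfl <;> simp
  | one => simp
  | mul p q _ _ hp hq =>
    rcases hp with rfl | rfl | rfl | rfl <;> rcases hq with rfl | rfl | rfl | rfl <;>
      simp [ha, hb, hab, h1, h2, h3, h4, h5]
  | inv p _ hp =>
    rcases hp with rfl | rfl | rfl | rfl <;> simp [hai, hbi, hab]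

/-- Let G be a finite group and let z be an involution of G such that Q, the generalized Fitting subgroup of the centralizer C of z, is a 2-group of symplectic type (every characteristic abelian subgroup of Q is cyclic); suppose every element of Q has order dividing 4. Let g ∈ G with z' = g z g⁻¹ ≠ z and z' ∈ Q. Then z lies in the conjugate g Q g⁻¹, and the subgroup X generated by Q and g Q g⁻¹ induces every automorphism of the four-group generated by z and z': for any two distinct non-identity elements u, v of that four-group there is x ∈ X with x z x⁻¹ = u and x z' x⁻¹ = v. -/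
theorem result {G : Type*} [Group G] [Finite G] (z : G) (hz : orderOf z = 2) (hQ : Cfsg.IsOfSymplecticType ↥(Cfsg.generalizedFittingSubgroup ↥(Subgroup.centralizer ({z} : Set G))))
    (h4 : ∀ q ∈ (Cfsg.generalizedFittingSubgroup ↥(Subgroup.centralizer ({z} : Set G))).map (Subgroup.centralizer ({z} : Set G)).subtype, q ^ 4 = 1) (g : G) (hne : g * z * g⁻¹ ≠ z) (hin : g * z * g⁻¹ ∈ (Cfsg.generalizedFittingSubgroup ↥(Subgroup.centralizer ({z} : Set G))).map (Subgroup.centralizer ({z} : Set G)).subtype) :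
    z ∈ ((Cfsg.generalizedFittingSubgroup ↥(Subgroup.centralizer ({z} : Set G))).map (Subgroup.centralizer ({z} : Set G)).subtype).map (MulAut.conj g).toMonoidHom ∧
      ∀ u ∈ Subgroup.closure ({z, g * z * g⁻¹} : Set G), ∀ v ∈ Subgroup.closure ({z, g * z * g⁻¹} : Set G),
        u ≠ 1 → v ≠ 1 → u ≠ v →
          ∃ x ∈ (Cfsg.generalizedFittingSubgroup ↥(Subgroup.centralizer ({z} : Set G))).map (Subgroup.centralizer ({z} : Set G)).subtype ⊔ ((Cfsg.generalizedFittingSubgroup ↥(Subgroup.centralizer ({z} : Set G))).map (Subgroup.centralizer ({z} : Set G)).subtype).map (MulAut.conj g).toMonoidHom, x * z * x⁻¹ = u ∧ x * (g * z * g⁻¹) * x⁻¹ = v := by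
  set Q : Subgroup G := (Cfsg.generalizedFittingSubgroup ↥(Subgroup.centralizer ({z} : Set G))).map
    (Subgroup.centralizer ({z} : Set G)).subtype with hQdef
  have hK : Core z Q := core z hz hQ h4
  set R : Subgroup G := Q.map (MulAut.conj g).toMonoidHom with hRdef
  set z' : G := g * z * g⁻¹ with hz'
  have hz2 : z * z = 1 := by rw [← pow_two, ← hz, pow_orderOf_eq_one]
  have hz1 : z ≠ 1 := fun h => by rw [h, orderOf_one] at hz; omega
  have hzi : z⁻¹ = z := inv_eq_of_mul_eq_one_right hz2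
  have hz'2 : z' * z' = 1 := by
    calc z' * z' = g * (z * z) * g⁻¹ := by rw [hz']; group
      _ = 1 := by rw [hz2]; group
  have hz'i : z'⁻¹ = z' := inv_eq_of_mul_eq_one_right hz'2
  have hz'1 : z' ≠ 1 := fun h => hz1 (conj_eq_one_iff.mp h)
  have hcomm : z' * z = z * z' := hK.central z' hin
  have hmemR : ∀ x, x ∈ R ↔ g⁻¹ * x * g ∈ Q := fun x => by
    constructor
    · rintro ⟨y, hy, rfl⟩
      simpa [MulAut.conj_apply, mul_assoc] using hy
    · exact fun h => ⟨_, h, by simp [MulAut.conj_apply, mul_assoc]⟩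
  have hz'R : z' ∈ R := ⟨z, hK.mem, rfl⟩
  have hcR : ∀ x ∈ R, x * z' = z' * x := by
    rintro _ ⟨y, hy, rfl⟩
    show g * y * g⁻¹ * (g * z * g⁻¹) = g * z * g⁻¹ * (g * y * g⁻¹)
    calc g * y * g⁻¹ * (g * z * g⁻¹) = g * (y * z) * g⁻¹ := by group
      _ = g * (z * y) * g⁻¹ := by rw [hK.central y hy]
      _ = g * z * g⁻¹ * (g * y * g⁻¹) := by group
  obtain ⟨q, hq, hqz'⟩ := hK.moves hin hz'2 hz'1 hne
  have hqz : q * z = z * q := hK.central q hq
  have hne' : z * z' ≠ z' := fun h => hz1 (mul_eq_right.mp h)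
  have hne'' : z * z' ≠ z := fun h => hz'1 (mul_eq_left.mp h)
  -- if some `r` fixing `z'` sends `z` to `z * z'` then `z ∈ R`
  have hstar : ∀ r, r * z' = z' * r → r * z * r⁻¹ = z * z' → z ∈ R := by
    intro r hr1 hr2
    have hc : ((q * g)⁻¹ * r) * z = z * ((q * g)⁻¹ * r) := by
      calc (q * g)⁻¹ * r * z = (q * g)⁻¹ * (r * z * r⁻¹) * r := by group
        _ = (q * g)⁻¹ * (q * z' * q⁻¹) * r := by rw [hr2, hqz']
        _ = z * ((q * g)⁻¹ * r) := by rw [hz']; group
    have h1 := hK.normed _ hc z' hin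
    have h2 : (q * g)⁻¹ * r * z' * ((q * g)⁻¹ * r)⁻¹ = g⁻¹ * (q⁻¹ * z' * q) * g := by
      calc (q * g)⁻¹ * r * z' * ((q * g)⁻¹ * r)⁻¹ = g⁻¹ * q⁻¹ * (r * z') * r⁻¹ * q * g := by group
        _ = g⁻¹ * (q⁻¹ * z' * q) * g := by rw [hr1]; group
    have h3 : q⁻¹ * z' * q = z * z' := by
      calc q⁻¹ * z' * q = q⁻¹ * (z * (z * z')) * q := by rw [← mul_assoc z z z', hz2, one_mul]
        _ = q⁻¹ * (z * (q * z' * q⁻¹)) * q := by rw [hqz']
        _ = q⁻¹ * (z * q) * z' := by group
        _ = z * z' := by rw [← hqz]; group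
    rw [h2, h3, ← hmemR] at h1
    have := mul_mem h1 hz'R
    rwa [mul_assoc, hz'2, mul_one] at this
  -- elements centralising `R` and `z'` lie in `R`
  have hselfR : ∀ x, x * z' = z' * x → (∀ y ∈ R, x * y = y * x) → x ∈ R := by
    intro x hx hxR
    rw [hmemR]
    refine hK.self _ ?_ fun y hy => ?_
    · calc g⁻¹ * x * g * z = g⁻¹ * (x * z') * g := by rw [hz']; group
        _ = z * (g⁻¹ * x * g) := by rw [hx, hz']; group
    · calc g⁻¹ * x * g * y = g⁻¹ * (x * (g * y * g⁻¹)) * g := by group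
        _ = y * (g⁻¹ * x * g) := by
          rw [hxR (g * y * g⁻¹) ((hmemR _).mpr (by simpa [mul_assoc] using hy))]; group
  have hQ0step : ∀ x ∈ Q, ¬x * z' = z' * x → (x * q) * z' = z' * (x * q) := by
    intro x hx hxz
    have h1 : x * z' * x⁻¹ = z * z' :=
      (hK.comm x hx z' hin).resolve_left fun h => hxz (mul_inv_eq_iff_eq_mul.mp h)
    refine mul_inv_eq_iff_eq_mul.mp ?_
    calc x * q * z' * (x * q)⁻¹ = x * (q * z' * q⁻¹) * x⁻¹ := by group
      _ = x * z * z' * x⁻¹ := by rw [hqz']; group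
      _ = z * (x * z' * x⁻¹) := by rw [hK.central x hx]; group
      _ = z' := by rw [h1, ← mul_assoc, hz2, one_mul]
  have hcentral_of : ∀ c, (∀ k ∈ Q, k * z' = z' * k → c * k = k * c) → c * q = q * c → ∀ x ∈ Q, c * x = x * c := by
    intro c hc hcq x hx
    by_cases hxz : x * z' = z' * x
    · exact hc x hx hxz
    · have h1 : Commute c (x * q) := hc _ (mul_mem hx hq) (hQ0step x hx hxz)
      have h2 := h1.mul_right (Commute.inv_right (show Commute c q from hcq))
      rwa [mul_inv_cancel_right] at h2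
  -- involutions of `Q` centralising `Q ⊓ C(z')`
  have hL : ∀ c ∈ Q, c * c = 1 → (∀ k ∈ Q, k * z' = z' * k → c * k = k * c) →
      c = 1 ∨ c = z ∨ c = z' ∨ c = z * z' := by
    intro c hc hc2 hck
    rcases hK.comm q hq c hc with h | h
    · rcases hK.uniq c hc hc2 (fun x hx => (hcentral_of c hck (mul_inv_eq_iff_eq_mul.mp h).symm x hx).symm)
        with e | e
      · exact Or.inl e
      · exact Or.inr (Or.inl e)
    · have hcz' : c * z' = z' * c := hck z' hin rfl
      have hk : ∀ k ∈ Q, k * z' = z' * k → c * z' * k = k * (c * z') := fun k hk hkz => by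
        calc c * z' * k = c * k * z' := by rw [mul_assoc, ← hkz, mul_assoc]
          _ = k * (c * z') := by rw [hck k hk hkz, mul_assoc]
      have hq' : c * z' * q = q * (c * z') := (mul_inv_eq_iff_eq_mul.mp (show q * (c * z') * q⁻¹ = c * z' from by
        calc q * (c * z') * q⁻¹ = (q * c * q⁻¹) * (q * z' * q⁻¹) := by group
          _ = (z * c) * (z * z') := by rw [h, hqz']
          _ = z * (c * z) * z' := by group
          _ = c * z' := by rw [hK.central c hc, ← mul_assoc z z c, hz2, one_mul])).symm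
      have hsq : c * z' * (c * z') = 1 := by
        calc c * z' * (c * z') = c * (z' * c) * z' := by group
          _ = (c * c) * (z' * z') := by rw [← hcz']; group
          _ = 1 := by rw [hc2, hz'2, one_mul]
      rcases hK.uniq _ (mul_mem hc hin) hsq (fun x hx => (hcentral_of _ hk hq' x hx).symm) with e | e
      · exact Or.inr (Or.inr (Or.inl (by rw [eq_inv_of_mul_eq_one_left e, hz'i])))
      · exact Or.inr (Or.inr (Or.inr (by rw [← e, mul_assoc, hz'2, mul_one])))
  have hzR : z ∈ R := by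
    by_contra hzR
    haveI : Fact (Nat.Prime 2) := ⟨Nat.prime_two⟩
    let T : Subgroup (ConjAct G) := R.map (ConjAct.toConjAct (G := G)).toMonoidHom
    let K : Subgroup (ConjAct G) := (Q ⊓ centralizer ({z'} : Set G)).map (ConjAct.toConjAct (G := G)).toMonoidHom
    have hT : IsPGroup 2 T := ((hK.two).map _).map _
    have hKp : IsPGroup 2 K := (hK.two.to_le inf_le_left).map _
    have hKnorm : ∀ k ∈ K, ∀ s ∈ MulAction.orbit T z, k • s ∈ MulAction.orbit T z := by
      rintro _ ⟨k, ⟨hkQ, hkz⟩, rfl⟩ _ ⟨⟨_, r, hr, rfl⟩, rfl⟩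
      replace hkz : k * z' = z' * k := mem_centralizer_singleton_iff.mp hkz
      have hr' : k * r * k⁻¹ ∈ R := by
        replace hr := (hmemR r).mp hr
        rw [hmemR]
        have hc : (g⁻¹ * k * g) * z = z * (g⁻¹ * k * g) := by
          calc g⁻¹ * k * g * z = g⁻¹ * (k * z') * g := by rw [hz']; group
            _ = z * (g⁻¹ * k * g) := by rw [hkz, hz']; group
        have := hK.normed _ hc _ hr
        convert this using 1
        group
      refine ⟨⟨ConjAct.toConjAct (k * r * k⁻¹), _, hr', rfl⟩, ?_⟩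
      show k * r * k⁻¹ * z * (k * r * k⁻¹)⁻¹ = k * (r * z * r⁻¹) * k⁻¹
      calc k * r * k⁻¹ * z * (k * r * k⁻¹)⁻¹ = k * r * (k⁻¹ * z * k) * r⁻¹ * k⁻¹ := by group
        _ = k * (r * z * r⁻¹) * k⁻¹ := by
          rw [mul_assoc k⁻¹ z k, ← hK.central k hkQ]; group
    letI : MulAction K ↥(MulAction.orbit T z) :=
      { smul := fun k s => ⟨(k : ConjAct G) • (s : G), hKnorm k k.2 s s.2⟩
        one_smul := fun s => Subtype.ext (one_smul (ConjAct G) (s : G))
        mul_smul := fun a b s => Subtype.ext (mul_smul (a : ConjAct G) (b : ConjAct G) (s : G)) }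
    have h0 : (⟨z, MulAction.mem_orbit_self z⟩ : ↥(MulAction.orbit T z)) ∈
        MulAction.fixedPoints K ↥(MulAction.orbit T z) := by
      rintro ⟨_, k, ⟨hkQ, -⟩, rfl⟩
      apply Subtype.ext
      show k * z * k⁻¹ = z
      rw [hK.central k hkQ, mul_inv_cancel_right]
    have h2 : 2 ∣ Nat.card ↥(MulAction.orbit T z) := by
      obtain ⟨n, hn⟩ := hT.card_orbit z
      rcases n.eq_zero_or_pos with rfl | hn0
      · refine absurd (hselfR z hcomm.symm fun r hr => ?_) hzR
        haveI := (Nat.card_eq_one_iff_unique.mp (hn.trans (pow_zero 2))).1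
        have h := congrArg Subtype.val (Subsingleton.elim
          (⟨r * z * r⁻¹, ⟨⟨ConjAct.toConjAct r, r, hr, rfl⟩, rfl⟩⟩ : ↥(MulAction.orbit T z))
          ⟨z, MulAction.mem_orbit_self z⟩)
        exact (mul_inv_eq_iff_eq_mul.mp h).symm
      · exact hn ▸ dvd_pow_self 2 (by omega)
    obtain ⟨⟨w, hw⟩, hwfix, hwne⟩ := hKp.exists_fixed_point_of_prime_dvd_card_of_fixed_point _ h2 h0
    have hwz : w ≠ z := fun h => hwne (Subtype.ext h.symm)
    obtain ⟨⟨_, r, hr, rfl⟩, hrw⟩ := hw
    change r * z * r⁻¹ = w at hrw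
    have hwk : ∀ k ∈ Q, k * z' = z' * k → w * k = k * w := by
      intro k hk hkz
      have h := congrArg Subtype.val
        (hwfix ⟨ConjAct.toConjAct k, k, ⟨hk, mem_centralizer_singleton_iff.mpr hkz⟩, rfl⟩)
      exact (mul_inv_eq_iff_eq_mul.mp (show k * w * k⁻¹ = w from h)).symm
    have hwzc : w * z = z * w := hwk z hK.mem hcomm.symm
    have hwz'c : w * z' = z' * w := hwk z' hin rfl
    have hw2 : w * w = 1 := by
      calc w * w = r * (z * z) * r⁻¹ := by rw [← hrw]; group
        _ = 1 := by rw [hz2]; group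
    have hwi : w⁻¹ = w := inv_eq_of_mul_eq_one_right hw2
    set u := w * q * w⁻¹ with hu
    have huQ : u ∈ Q := hK.normed w hwzc q hq
    -- `d = q⁻¹ u` centralises `Q ⊓ C(z')`
    set d := q⁻¹ * u with hd
    have hdQ : d ∈ Q := mul_mem (inv_mem hq) huQ
    have hdk : ∀ k ∈ Q, k * z' = z' * k → d * k = k * d := by
      intro k hk hkz
      have h1 : q * k * q⁻¹ * z' = z' * (q * k * q⁻¹) := by
        rcases hK.comm q hq k hk with h | h <;> rw [h]
        · exact hkz
        · calc z * k * z' = z * (z' * k) := by rw [mul_assoc, hkz]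
            _ = z' * (z * k) := by rw [← mul_assoc, ← hcomm, mul_assoc]
      have h2 := hwk _ (mul_mem (mul_mem hq hk) (inv_mem hq)) h1
      have h3 := hwk k hk hkz
      have h4 : u * k * u⁻¹ = q * k * q⁻¹ := by
        calc u * k * u⁻¹ = w * q * w⁻¹ * (k * w) * q⁻¹ * w⁻¹ := by rw [hu]; group
          _ = w * (q * k * q⁻¹) * w⁻¹ := by rw [← h3]; group
          _ = q * k * q⁻¹ := by rw [h2]; group
      refine mul_inv_eq_iff_eq_mul.mp ?_
      calc d * k * d⁻¹ = q⁻¹ * (u * k * u⁻¹) * q := by rw [hd]; group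
        _ = k := by rw [h4]; group
    have hdz' : d * z' = z' * d := hdk z' hin rfl
    have hwd : w * d = d * w := hwk d hdQ hdz'
    have hud : u = q * d := by rw [hd]; group
    have hd2 : d * d = 1 := by
      have h1 : q = u * d := by
        calc q = w * (w * q * w⁻¹) * w⁻¹ := by rw [hwi, ← mul_assoc w (w * q) w, ← mul_assoc w w q, hw2,
                one_mul, mul_assoc, hw2, mul_one]
          _ = w * (q * d) * w⁻¹ := by rw [← hu, hud]
          _ = w * q * (d * w⁻¹) := by group
          _ = u * d := by rw [show d * w⁻¹ = w⁻¹ * d from by rw [hwi]; exact hwd.symm, hu]; group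
      rw [hud, mul_assoc] at h1
      exact mul_eq_left.mp h1.symm
    have hqq : u * u = q * q := by
      have h1 : q * q * z' = z' * (q * q) := hQ0step q hq (fun h => hne' (by
        rw [← hqz', h, mul_inv_cancel_right]))
      calc u * u = w * (q * q) * w⁻¹ := by rw [hu]; group
        _ = q * q := by rw [hwk _ (mul_mem hq hq) h1, mul_inv_cancel_right]
    have hnot : ∀ e, e = z' ∨ e = z * z' → d ≠ e := by
      intro e he hde
      have h2 : d * q = q * d := by
        have h3 : q * (d * q * d) = q * q := by rw [← hqq, hud]; group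
        calc d * q = d * q * (d * d) := by rw [hd2, mul_one]
          _ = (d * q * d) * d := by group
          _ = q * d := by rw [mul_left_cancel h3]
      apply hne'
      rw [← hqz']
      refine mul_inv_eq_iff_eq_mul.mpr ?_
      rcases he with rfl | rfl
      · rw [← hde]; exact h2.symm
      · have : z * (q * z') = z * (z' * q) := by
          rw [← mul_assoc, ← hqz, mul_assoc, ← hde, ← h2, hde, mul_assoc]
        exact mul_left_cancel this
    have hwQ : w ∈ Q := by
      rcases hL d hdQ hd2 hdk with e | e | e | e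
      · refine hK.self w hwzc (hcentral_of w hwk ?_)
        rw [e, mul_one, hu] at hud
        exact mul_inv_eq_iff_eq_mul.mp hud
      · have hz'q : z' * q = z * q * z' := by
          calc z' * q = z * (z * z') * q := by rw [← mul_assoc, hz2, one_mul]
            _ = z * (q * z' * q⁻¹) * q := by rw [hqz']
            _ = z * q * z' := by group
        have hwq : w * q = q * z * w := by rw [← e, ← hud, hu]; group
        have h : z' * w ∈ Q := by
          refine hK.self _ ?_ (hcentral_of _ ?_ ?_)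
          · rw [mul_assoc, hwzc, ← mul_assoc, hcomm, mul_assoc]
          · intro k hk hkz
            rw [mul_assoc, hwk k hk hkz, ← mul_assoc, ← hkz, mul_assoc]
          · calc z' * w * q = (z' * q) * z * w := by rw [mul_assoc, hwq]; group
              _ = z * q * (z' * z) * w := by rw [hz'q]; group
              _ = z * (q * z) * (z' * w) := by rw [hcomm]; group
              _ = q * (z' * w) := by rw [hqz, ← mul_assoc z z q, hz2, one_mul]
        have := mul_mem hin h
        rwa [← mul_assoc, hz'2, one_mul] at this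
      · exact absurd e (hnot _ (Or.inl rfl))
      · exact absurd e (hnot _ (Or.inr rfl))
    rcases hL w hwQ hw2 hwk with e | e | e | e
    · exact hz1 (conj_eq_one_iff.mp (hrw.trans e))
    · exact hwz e
    · refine hne ?_
      have h := hcR r hr
      calc z' = r⁻¹ * (z' * r) := by rw [← h]; group
        _ = z := by rw [← e, ← hrw]; group
    · exact hzR (hstar r (hcR r hr) (hrw.trans e))
  refine ⟨hzR, fun u hu v hv hu1 hv1 huv => ?_⟩
  obtain ⟨r₀, hr₀, hr₀y⟩ : ∃ r₀ ∈ Q, r₀ * (g⁻¹ * z * g) * r₀⁻¹ = z * (g⁻¹ * z * g) := by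
    refine hK.moves ((hmemR z).mp hzR) ?_ (fun h => hz1 ?_) (fun h => hne ?_)
    · calc g⁻¹ * z * g * (g⁻¹ * z * g) = g⁻¹ * (z * z) * g := by group
        _ = 1 := by rw [hz2]; group
    · calc z = g * (g⁻¹ * z * g) * g⁻¹ := by group
        _ = 1 := by rw [h]; group
    · calc z' = g * (g⁻¹ * z * g) * g⁻¹ := by rw [h, hz']
        _ = z := by group
  set r := g * r₀ * g⁻¹ with hr
  have hrR : r ∈ R := ⟨r₀, hr₀, rfl⟩
  have q1 : q * z * q⁻¹ = z := by rw [hqz, mul_inv_cancel_right]
  have r2 : r * z' * r⁻¹ = z' := by rw [hcR r hrR, mul_inv_cancel_right]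
  have r1 : r * z * r⁻¹ = z * z' := by
    calc r * z * r⁻¹ = g * (r₀ * (g⁻¹ * z * g) * r₀⁻¹) * g⁻¹ := by rw [hr]; group
      _ = z' * z := by rw [hr₀y, hz']; group
      _ = z * z' := hcomm
  have q3 : q * (z * z') * q⁻¹ = z' := by
    calc q * (z * z') * q⁻¹ = q * z * q⁻¹ * (q * z' * q⁻¹) := by group
      _ = z' := by rw [q1, hqz', ← mul_assoc, hz2, one_mul]
  have r3 : r * (z * z') * r⁻¹ = z := by
    calc r * (z * z') * r⁻¹ = r * z * r⁻¹ * (r * z' * r⁻¹) := by group
      _ = z := by rw [r1, r2, mul_assoc, hz'2, mul_one]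
  have hconj : ∀ a b y : G, a * b * y * (a * b)⁻¹ = a * (b * y * b⁻¹) * a⁻¹ := fun a b y => by group
  have hqX : q ∈ Q ⊔ R := mem_sup_left hq
  have hrX : r ∈ Q ⊔ R := mem_sup_right hrR
  have i1 : (1 : G) * z * 1⁻¹ = z := by group
  have i2 : (1 : G) * z' * 1⁻¹ = z' := by group
  have a1 : r * q * z * (r * q)⁻¹ = z * z' := by rw [hconj, q1, r1]
  have a2 : r * q * z' * (r * q)⁻¹ = z := by rw [hconj, hqz', r3]
  have b1 : q * r * z * (q * r)⁻¹ = z' := by rw [hconj, r1, q3]
  have b2 : q * r * z' * (q * r)⁻¹ = z * z' := by rw [hconj, r2, hqz']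
  have c1 : q * (r * q) * z * (q * (r * q))⁻¹ = z' := by rw [hconj, a1, q3]
  have c2 : q * (r * q) * z' * (q * (r * q))⁻¹ = z := by rw [hconj, a2, q1]
  rcases four_cases hz2 hz'2 hcomm hu with rfl | rfl | rfl | rfl <;>
    rcases four_cases hz2 hz'2 hcomm hv with rfl | rfl | rfl | rfl <;>
    first
    | exact absurd rfl hu1
    | exact absurd rfl hv1
    | exact absurd rfl huv
    | exact ⟨1, one_mem _, i1, i2⟩
    | exact ⟨q, hqX, q1, hqz'⟩
    | exact ⟨r, hrX, r1, r2⟩
    | exact ⟨r * q, mul_mem hrX hqX, a1, a2⟩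
    | exact ⟨q * r, mul_mem hqX hrX, b1, b2⟩
    | exact ⟨q * (r * q), mul_mem hqX (mul_mem hrX hqX), c1, c2⟩

end Cfsg.Agent.S1774
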