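import Cfsg.Statements.S1775
import Mathlib
import Cfsg.Agent.Lib.Balance.LBalanceTwo
import Cfsg.Agent.Lib.Components.Layer
import Cfsg.Agent.Lib.Components.PComponentQuot

set_option autoImplicit false
open Cfsg

namespace Cfsg.Agent.S1775

open Subgroup Cfsg.Agent.Balance
open scoped commutatorElement

universe u

/-- A subnormal PQT subgroup centralising the odd core is a component. -/
theorem isComponent_of_pqt {Y : Type u} [Group Y] [Finite Y] {T : Subgroup Y} (hT : IsPQT 2 T)
    (hsn : T.IsSubnormal) (hc : ∀ t ∈ T, ∀ o ∈ pPrimeCore 2 Y, Commute t o) : IsComponent T := by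
  have := Fact.mk Nat.prime_two
  refine ⟨hsn, ?_⟩
  have : Group.IsPerfect ↥T := isPerfect_iff.mpr hT.perfect
  set q := QuotientGroup.mk' (pPrimeCore 2 Y) with hq
  refine Components.isQuasisimple_of_surjective_of_ker_le_center (q.subgroupMap T)
    (MonoidHom.subgroupMap_surjective q T) ?_ (hT.isComponent_map hsn).2
  intro o ho
  refine mem_center_iff.2 fun t => Subtype.ext (hc t t.2 o ?_).eq
  exact (QuotientGroup.eq_one_iff _).1 (congrArg Subtype.val (MonoidHom.mem_ker.1 ho))

/-- Let G be a finite group whose generalized Fitting subgroup is a non-abelian simple group and in which every proper section (every quotient H/N of a proper subgroup H, or of G by a nontrivial normal subgroup) has the B-property. Let x, y be commuting involutions, let D be the intersection of the 2-layer of C_G(x) with C_G(y), and let J be a 2-component of D. Write Q for the quotient of C_G(y) by its largest normal odd-order subgroup. Then (i) the image of J in Q is a component of the centralizer in Q of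 the image of x; and (ii) for every J-invariant subgroup E of odd order of C_G(x) ∩ C_G(y), the commutator subgroup [J, E] lies in the largest normal odd-order subgroup of C_G(y). -/
theorem result {G : Type*} [Group G] [Finite G]
    (hF : IsSimpleGroup ↥(Cfsg.generalizedFittingSubgroup G)) (hF' : ¬ IsMulCommutative ↥(Cfsg.generalizedFittingSubgroup G))
    (hsec : ∀ (H : Subgroup G) (N : Subgroup ↥H) [N.Normal], (H ≠ ⊤ ∨ N ≠ ⊥) → Cfsg.HasBProperty (↥H ⧸ N))
    (x y : G) (hx : orderOf x = 2) (hy : orderOf y = 2) (hxy : x * y = y * x)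
    (J : Subgroup ↥((Cfsg.pLayer 2 ↥(Subgroup.centralizer ({x} : Set G))).map (Subgroup.centralizer ({x} : Set G)).subtype ⊓ Subgroup.centralizer ({y} : Set G)))
    (hJ : Cfsg.IsPComponent 2 J) :
    Cfsg.IsComponent
        ((((J.map (Subgroup.subtype _)).subgroupOf (Subgroup.centralizer ({y} : Set G))).map (QuotientGroup.mk' (Cfsg.oddCore ↥(Subgroup.centralizer ({y} : Set G))))).subgroupOf
          (Subgroup.centralizer ({(QuotientGroup.mk' (Cfsg.oddCore ↥(Subgroup.centralizer ({y} : Set G))) ⟨x, Subgroup.mem_centralizer_singleton_iff.mpr hxy⟩ : ↥(Subgroup.centralizer ({y} : Set G)) ⧸ Cfsg.oddCore ↥(Subgroup.centralizer ({y} : Set G)))} : Set _))) ∧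
      ∀ E : Subgroup G, E ≤ Subgroup.centralizer ({x} : Set G) ⊓ Subgroup.centralizer ({y} : Set G) → Odd (Nat.card ↥E) →
        (∀ j ∈ J.map (Subgroup.subtype _), ∀ e ∈ E, j * e * j⁻¹ ∈ E) →
          ⁅J.map (Subgroup.subtype _), E⁆ ≤ (Cfsg.oddCore ↥(Subgroup.centralizer ({y} : Set G))).map (Subgroup.centralizer ({y} : Set G)).subtype := by
  have := Fact.mk Nat.prime_two
  let C := centralizer ({y} : Set G)
  let A := (pLayer 2 ↥(centralizer ({x} : Set G))).map (centralizer ({x} : Set G)).subtype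
  set J₀ := J.map (Subgroup.subtype _) with hJ₀
  set xC : ↥C := ⟨x, mem_centralizer_singleton_iff.mpr hxy⟩ with hxC
  set q := QuotientGroup.mk' (oddCore ↥C) with hq
  have hker : (Nat.card ↥q.ker).Coprime 2 := by
    rw [hq, QuotientGroup.ker_mk']
    exact PCore.coprime_card_pPrimeCore
  -- `C` is proper
  have hCtop : C ≠ ⊤ := by
    intro htop
    have hyc : y ∈ centralizer (generalizedFittingSubgroup G : Set G) := mem_centralizer_iff.2 fun g _ =>
      mem_centralizer_singleton_iff.1 (htop ▸ mem_top g : g ∈ C)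
    have hyF := Components.centralizer_generalizedFittingSubgroup_le hyc
    rcases (inferInstance : (center ↥(generalizedFittingSubgroup G)).Normal).eq_bot_or_eq_top with hb | hb
    · have hyz : (⟨y, hyF⟩ : ↥(generalizedFittingSubgroup G)) ∈ center _ :=
        mem_center_iff.2 fun g => Subtype.ext (mem_centralizer_iff.1 hyc g g.2)
      rw [hb, mem_bot] at hyz
      rw [show y = 1 from congrArg Subtype.val hyz, orderOf_one] at hy
      omega
    · exact hF' ⟨⟨fun a b => (mem_center_iff.1 (hb ▸ mem_top b) a)⟩⟩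
  have hB : HasBProperty (↥C ⧸ oddCore ↥C) := hsec C (oddCore ↥C) (Or.inl hCtop)
  -- `J₀` is subnormal in `C ⊓ C(x)`
  have hJA : J₀ ≤ A ⊓ C := map_subtype_le _
  have hAx : A ≤ centralizer ({x} : Set G) := map_subtype_le _
  have hJ₀C : J₀ ≤ C := hJA.trans inf_le_right
  have hJ₀Z : J₀ ≤ centralizer ({x} : Set G) ⊓ C := le_inf ((hJA.trans inf_le_left).trans hAx) (hJA.trans inf_le_right)
  have hJP : IsPQT 2 J := isPQT_of_isPComponent hJ
  have hJ₀P : IsPQT 2 J₀ := hJP.map _ fun he => hJP.ne_bot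
    ((map_eq_bot_iff_of_injective _ (Subgroup.subtype_injective _)).1 he)
  have hAn : centralizer ({x} : Set G) ≤ normalizer (A : Set G) := by
    have := (Components.pLayer_normal (p := 2) (G := ↥(centralizer ({x} : Set G))))
    have h2 := le_normalizer_map (centralizer ({x} : Set G)).subtype (H := pLayer 2 ↥(centralizer ({x} : Set G)))
    rw [normalizer_eq_top (H := pLayer 2 ↥(centralizer ({x} : Set G))), ← MonoidHom.range_eq_map, range_subtype] at h2
    exact h2
  have hJsn : (J₀.subgroupOf (centralizer ({x} : Set G) ⊓ C)).IsSubnormal := by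
    refine isSubnormal_subgroupOf_trans hJA (inf_le_inf_right _ hAx) ?_
      (normal_subgroupOf_of_le_normalizer ((le_inf (inf_le_left.trans hAn) (inf_le_right.trans le_normalizer)).trans
        inf_normalizer_le_normalizer_inf)).isSubnormal
    rw [hJ₀, Subgroup.subgroupOf, comap_map_eq_self_of_injective (Subgroup.subtype_injective _)]
    exact hJ.1
  -- the image in `C_Q(x̄)`
  set Y := centralizer ({q xC} : Set (↥C ⧸ oddCore ↥C)) with hY
  set J₁ := (J₀.subgroupOf C).map q with hJ₁
  have hg : ∀ n : ↥(centralizer ({x} : Set G) ⊓ C), q ⟨n, n.2.2⟩ ∈ Y := fun n =>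
    mem_centralizer_singleton_iff.2 (by
      rw [← map_mul, ← map_mul]
      exact congrArg q (Subtype.ext (mem_centralizer_singleton_iff.1 n.2.1)))
  set g : ↥(centralizer ({x} : Set G) ⊓ C) →* ↥Y :=
    (q.comp (inclusion inf_le_right)).codRestrict Y hg with hgdef
  have hgs : Function.Surjective g := by
    rintro ⟨b, hb⟩
    obtain ⟨a, rfl⟩ := QuotientGroup.mk'_surjective (oddCore ↥C) b
    have hxp : IsPGroup 2 ↥(zpowers xC) := IsPGroup.of_card (n := 1)
      (by rw [Nat.card_zpowers, hxC, Subgroup.orderOf_mk, hx, pow_one])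
    obtain ⟨n, hn, he⟩ := exists_mem_centralizer_of_map q hker hxp (g := a) (by
      rintro _ ⟨i, rfl⟩
      rw [map_zpow]
      exact (show Commute (q a) (q xC) from mem_centralizer_singleton_iff.1 hb).zpow_right i)
    refine ⟨⟨(n : G), ⟨mem_centralizer_singleton_iff.2 ?_, n.2⟩⟩, Subtype.ext he⟩
    exact congrArg Subtype.val (mem_centralizer_iff.1 hn xC (mem_zpowers _)).symm
  have hJ₁Y : J₁ ≤ Y := by
    rintro _ ⟨a, ha, rfl⟩
    exact hg ⟨a, hJ₀Z ha⟩
  have hJ₁eq : J₁.subgroupOf Y = (J₀.subgroupOf (centralizer ({x} : Set G) ⊓ C)).map g := by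
    ext b
    constructor
    · rintro ⟨a, ha, he⟩
      exact ⟨⟨a, hJ₀Z ha⟩, ha, Subtype.ext he⟩
    · rintro ⟨a, ha, rfl⟩
      exact ⟨⟨a, a.2.2⟩, ha, rfl⟩
  have hJ₁ne : J₁ ≠ ⊥ := fun he => by
    rw [hJ₁, Subgroup.map_eq_bot_iff, hq, QuotientGroup.ker_mk'] at he
    have h1 := (PCore.coprime_card_pPrimeCore (p := 2) (G := ↥C)).coprime_dvd_left (Subgroup.card_dvd_of_le he)
    rw [Nat.card_congr (subgroupOfEquivOfLe hJ₀C).toEquiv] at h1
    exact hJ₀P.not_coprime h1
  have hJ₁P : IsPQT 2 (J₁.subgroupOf Y) := ((hJ₀P.subgroupOf hJ₀C).map q hJ₁ne).subgroupOf hJ₁Y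
  have hJ₁sn : (J₁.subgroupOf Y).IsSubnormal := hJ₁eq ▸ hJsn.map hgs
  have hxQ : orderOf (q xC) = 2 := by
    refine orderOf_eq_prime (by rw [← map_pow, show xC ^ 2 = 1 from Subtype.ext (hx ▸ pow_orderOf_eq_one x), map_one]) ?_
    intro he
    have h1 := (PCore.coprime_card_pPrimeCore (p := 2) (G := ↥C)).coprime_dvd_left
      (Subgroup.orderOf_dvd_natCard _ ((QuotientGroup.eq_one_iff xC).1 he))
    rw [hxC, Subgroup.orderOf_mk, hx] at h1
    norm_num at h1
  have hJlay : J₁.subgroupOf Y ≤ pLayer 2 ↥Y := by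
    refine IsPQT.le_pLayer_two (R := ⊥) (IsPGroup.of_bot) hJ₁P ?_ ?_
    · exact le_top.trans_eq (normalizer_eq_top (H := (⊥ : Subgroup ↥Y))).symm
    · exact hJ₁sn.comap _
  have hcomm : ∀ t ∈ J₁.subgroupOf Y, ∀ o ∈ pPrimeCore 2 ↥Y, Commute t o := by
    intro t ht o ho
    have h1 := hB (q xC) hxQ (mem_map_of_mem Y.subtype (commutator_mem_commutator (hJlay ht) ho))
    rw [show oddCore (↥C ⧸ oddCore ↥C) = ⊥ from PCore.pPrimeCore_quotient_self_eq_bot, mem_bot] at h1
    exact commutatorElement_eq_one_iff_commute.1 (Y.subtype_injective h1)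
  have hcomp : IsComponent (J₁.subgroupOf Y) := isComponent_of_pqt hJ₁P hJ₁sn hcomm
  refine ⟨hcomp, fun E hE hEodd hinv => ?_⟩
  set E₁ := (E.subgroupOf C).map q with hE₁
  have hE₁Y : E₁ ≤ Y := by
    rintro _ ⟨e, he, rfl⟩
    exact hg ⟨e, hE he⟩
  set H := J₁.subgroupOf Y ⊔ E₁.subgroupOf Y with hH
  have hJE : J₁.subgroupOf Y ≤ normalizer (E₁.subgroupOf Y : Set ↥Y) := by
    rw [le_normalizer_iff]
    rintro j ⟨a, ha, haj⟩ e ⟨b, hb, hbe⟩
    refine ⟨a * b * a⁻¹, hinv a ha b hb, ?_⟩
    rw [map_mul, map_mul, map_inv, haj, hbe]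
    rfl
  have hn : ((E₁.subgroupOf Y).subgroupOf H).Normal :=
    normal_subgroupOf_of_le_normalizer (sup_le hJE le_normalizer)
  rcases Components.IsComponent.le_or_commutator_eq_bot_of_normal
    (Components.IsComponent.subgroupOf_of_le hcomp (le_sup_left : _ ≤ H)) ((E₁.subgroupOf Y).subgroupOf H) with hle | hbot
  · exfalso
    refine hJ₁P.not_coprime ?_
    have h1 := map_mono (f := H.subtype) hle
    rw [map_subgroupOf_eq_of_le le_sup_left, map_subgroupOf_eq_of_le le_sup_right] at h1
    refine Nat.Coprime.coprime_dvd_left ((Subgroup.card_dvd_of_le h1).trans ?_) hEodd.coprime_two_right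
    rw [Nat.card_congr (subgroupOfEquivOfLe hE₁Y).toEquiv]
    refine (card_map_dvd _ _).trans ?_
    rw [Nat.card_congr (subgroupOfEquivOfLe (hE.trans inf_le_right)).toEquiv]
  · have h1 := congrArg (Subgroup.map H.subtype) hbot
    rw [map_commutator, map_subgroupOf_eq_of_le le_sup_left, map_subgroupOf_eq_of_le le_sup_right,
      Subgroup.map_bot] at h1
    have h2 := congrArg (Subgroup.map Y.subtype) h1
    rw [map_commutator, map_subgroupOf_eq_of_le hJ₁Y, map_subgroupOf_eq_of_le hE₁Y, Subgroup.map_bot,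
      hJ₁, hE₁, ← map_commutator, Subgroup.map_eq_bot_iff, hq, QuotientGroup.ker_mk'] at h2
    have h3 := map_mono (f := C.subtype) h2
    rwa [map_commutator, map_subgroupOf_eq_of_le hJ₀C, map_subgroupOf_eq_of_le (hE.trans inf_le_right)] at h3

end Cfsg.Agent.S1775
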