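import Cfsg.Statements.S1781
import Cfsg.Agent.Lib.TI.Abelian
import Cfsg.Agent.Lib.TI.FixedSquare

set_option autoImplicit false
open Cfsg

namespace Cfsg.Agent.S1781
open scoped commutatorElement


/-- Let A be an abelian 2-subgroup of the finite group G such that every conjugate of A equals A or meets A trivially, and let g ∈ G with g A g⁻¹ ≠ A. Then either the subgroup of those elements of A that normalize g A g⁻¹ is an elementary abelian 2-group, or A and g A g⁻¹ commute elementwise. -/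
theorem result {G : Type*} [Group G] [Finite G] (A : Subgroup G)
    (hA2 : IsPGroup 2 ↥A) (hAa : IsMulCommutative ↥A)
    (hti : ∀ h : G, A.map (MulAut.conj h).toMonoidHom = A ∨ A.map (MulAut.conj h).toMonoidHom ⊓ A = ⊥)
    (g : G) (hg : A.map (MulAut.conj g).toMonoidHom ≠ A) :
    Cfsg.IsElementaryAbelian 2 (A ⊓ Subgroup.normalizer ((A.map (MulAut.conj g).toMonoidHom : Subgroup G) : Set G)) ∨
      ⁅A, A.map (MulAut.conj g).toMonoidHom⁆ = ⊥ := by
  refine or_iff_not_imp_left.mpr fun hnel => ?_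
  set B : Subgroup G := A.map (MulAut.conj g).toMonoidHom with hB
  have hAB : A ⊓ B = ⊥ := by
    rw [inf_comm]
    exact (hti g).resolve_left hg
  obtain ⟨u, hu, hu2⟩ : ∃ u ∈ A ⊓ Subgroup.normalizer (B : Set G), u ^ 2 ≠ 1 := by
    by_contra hcon
    push Not at hcon
    refine hnel ⟨⟨⟨fun a b => Subtype.ext ?_⟩⟩, hcon⟩
    have h := congrArg Subtype.val
      (hAa.is_comm.comm (⟨a, a.2.1⟩ : A) ⟨b, b.2.1⟩)
    simpa using h
  obtain ⟨huA, huN⟩ := Subgroup.mem_inf.mp hu
  have hB2 : IsPGroup 2 ↥B := hA2.map _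
  have hBa : IsMulCommutative ↥B := by
    haveI := hAa
    exact inferInstance
  have hkey : ∀ b ∈ B, u ^ 2 * b = b * u ^ 2 → u * b = b * u := by
    intro b hb hcb
    have hbN : b ∈ Subgroup.normalizer (A : Set G) :=
      Cfsg.Agent.TI.mem_normalizer_of_commute hti (pow_mem huA 2) hu2 hcb.symm
    have h1 : ⁅u, b⁆ ∈ A ⊓ B := by
      rw [commutatorElement_def]
      refine Subgroup.mem_inf.mpr ⟨?_, ?_⟩
      · simpa [mul_assoc] using mul_mem huA
          (Cfsg.Agent.TI.conj_mem_of_mem_normalizer hbN (inv_mem huA))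
      · exact mul_mem (Cfsg.Agent.TI.conj_mem_of_mem_normalizer huN hb) (inv_mem hb)
    rw [hAB, Subgroup.mem_bot] at h1
    exact commutatorElement_eq_one_iff_mul_comm.mp h1
  have hu2k : ∃ k : ℕ, u ^ (2 ^ k) = 1 := by
    obtain ⟨k, hk⟩ := hA2 ⟨u, huA⟩
    exact ⟨k, by simpa using congrArg Subtype.val hk⟩
  have hcomm := Cfsg.Agent.TI.commute_of_sq hB2 hBa
    (fun b hb => Cfsg.Agent.TI.conj_mem_of_mem_normalizer huN hb) hu2k hkey
  have hu1 : u ≠ 1 := fun h => hu2 (by rw [h, one_pow])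
  haveI : Fact (Nat.Prime 2) := ⟨Nat.prime_two⟩
  exact Cfsg.Agent.TI.commutator_eq_bot 2 A B hA2 hB2 hti (Cfsg.Agent.TI.ti_conj hti g)
    (by rw [hB, Subgroup.card_map_of_injective (MulAut.conj g).injective]) hAB
    (fun b hb => Cfsg.Agent.TI.mem_normalizer_of_commute hti huA hu1 (hcomm b hb).symm)

end Cfsg.Agent.S1781
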