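import Cfsg.Statements.S1782
import Cfsg.Agent.Lib.TI.CommutingFamily
import Cfsg.Agent.Lib.PGroup.Frattini

set_option autoImplicit false
open Cfsg

namespace Cfsg.Agent.S1782

/-- Let S be a finite 2-group and Δ a set of subgroups of S closed under conjugation by S, all of the same order, each with nontrivial Frattini subgroup, and such that two distinct members of Δ meet trivially. Then any two distinct members of Δ commute elementwise. -/
theorem result {S : Type*} [Group S] [Finite S] (hS : IsPGroup 2 S)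
    (Δ : Set (Subgroup S)) (hinv : ∀ s : S, ∀ R ∈ Δ, R.map (MulAut.conj s).toMonoidHom ∈ Δ)
    (hΦ : ∀ R ∈ Δ, frattini ↥R ≠ ⊥) (hord : ∀ R ∈ Δ, ∀ T ∈ Δ, Nat.card ↥R = Nat.card ↥T)
    (hti : ∀ R ∈ Δ, ∀ T ∈ Δ, R = T ∨ R ⊓ T = ⊥) :
    ∀ R ∈ Δ, ∀ T ∈ Δ, R ≠ T → ⁅R, T⁆ = ⊥ := by
  haveI : Fact (Nat.Prime 2) := ⟨Nat.prime_two⟩
  refine Cfsg.Agent.TI.commute_family _ S rfl hS Δ hinv (fun R hR => ?_) hord hti
  by_contra hcon
  push Not at hcon
  have hinvR : ∀ x ∈ R, x⁻¹ = x := fun x hx => inv_eq_of_mul_eq_one_right (hcon x hx)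
  refine hΦ R hR ((Cfsg.Agent.PGroup.frattini_eq_bot_iff (p := 2) (hS.to_subgroup R)).mpr
    ⟨⟨⟨fun a b => Subtype.ext ?_⟩⟩, fun x => Subtype.ext (by simpa [pow_two] using hcon x x.2)⟩)
  show (a : S) * b = b * a
  calc (a : S) * b = ((a : S) * b)⁻¹ := (hinvR _ (mul_mem a.2 b.2)).symm
    _ = b * a := by rw [mul_inv_rev, hinvR a a.2, hinvR b b.2]

end Cfsg.Agent.S1782
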