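import Cfsg.Statements.S1783
import Cfsg.Agent.Lib.TI.CommutingFamily
import Cfsg.Agent.Lib.PCore.Faithful
import Cfsg.Agent.Lib.Components.GenFitting

set_option autoImplicit false
open Cfsg

namespace Cfsg.Agent.S1783

open Subgroup in
/-- Distinct conjugates of `A` meeting a normal 2-subgroup `Q` in subgroups of exponent `> 2` commute there. -/
theorem commute_in_normal {X : Type*} [Group X] [Finite X] {Q : Subgroup X} (hQ : IsPGroup 2 Q) [Q.Normal]
    {A : Subgroup X} (hti : ∀ h : X, A.map (MulAut.conj h).toMonoidHom = A ∨ A.map (MulAut.conj h).toMonoidHom ⊓ A = ⊥)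
    (hAa : IsMulCommutative A) (hexp : ∃ r ∈ A ⊓ Q, r * r ≠ 1)
    (x y : X) {u w : X} (hu : u ∈ A.map (MulAut.conj x).toMonoidHom) (huQ : u ∈ Q)
    (hw : w ∈ A.map (MulAut.conj y).toMonoidHom) (hwQ : w ∈ Q) : u * w = w * u := by
  let Δ : Set (Subgroup Q) := {U | ∃ z : X, U = (A.map (MulAut.conj z).toMonoidHom).subgroupOf Q}
  have hAQ : ∀ z : X, ((A.map (MulAut.conj z).toMonoidHom).subgroupOf Q).map Q.subtype =
      (A ⊓ Q).map (MulAut.conj z).toMonoidHom := by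
    intro z
    rw [subgroupOf_map_subtype, Subgroup.map_inf _ _ _ (MulAut.conj z).injective]
    congr 1
    exact (TI.mem_normalizer_iff_conj_eq.mp (normalizer_eq_top (H := Q) ▸ mem_top z)).symm
  have htiΔ : ∀ z z' : X, A.map (MulAut.conj z).toMonoidHom = A.map (MulAut.conj z').toMonoidHom ∨
      A.map (MulAut.conj z).toMonoidHom ⊓ A.map (MulAut.conj z').toMonoidHom = ⊥ := by
    intro z z'
    have he : (A.map (MulAut.conj z').toMonoidHom).map (MulAut.conj (z * z'⁻¹)).toMonoidHom =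
        A.map (MulAut.conj z).toMonoidHom := by
      ext v
      simp only [TI.mem_conj_iff]
      rw [show z'⁻¹ * ((z * z'⁻¹)⁻¹ * v * (z * z'⁻¹)) * z' = z⁻¹ * v * z by group]
    have h := TI.ti_conj hti z' (z * z'⁻¹)
    rwa [he] at h
  by_cases heq : A.map (MulAut.conj x).toMonoidHom = A.map (MulAut.conj y).toMonoidHom
  · rw [← heq] at hw
    obtain ⟨a, ha, rfl⟩ := hu
    obtain ⟨b, hb, rfl⟩ := hw
    rw [← map_mul, ← map_mul]
    exact congrArg _ (congrArg Subtype.val (hAa.is_comm.comm (⟨a, ha⟩ : A) ⟨b, hb⟩) : a * b = b * a)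
  have hne : (A.map (MulAut.conj x).toMonoidHom).subgroupOf Q ≠ (A.map (MulAut.conj y).toMonoidHom).subgroupOf Q := by
    intro h
    obtain ⟨r, hr, hr2⟩ := hexp
    obtain ⟨hrA, hrQ⟩ := mem_inf.mp hr
    have hmem : (⟨x * r * x⁻¹, Normal.conj_mem ‹_› r hrQ x⟩ : Q) ∈ (A.map (MulAut.conj x).toMonoidHom).subgroupOf Q :=
      mem_subgroupOf.mpr ⟨r, hrA, rfl⟩
    have hmem' := h ▸ hmem
    have hb : x * r * x⁻¹ ∈ A.map (MulAut.conj x).toMonoidHom ⊓ A.map (MulAut.conj y).toMonoidHom :=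
      mem_inf.mpr ⟨mem_subgroupOf.mp hmem, mem_subgroupOf.mp hmem'⟩
    rw [(htiΔ x y).resolve_left heq, mem_bot] at hb
    have hr1 : r = 1 := by
      calc r = x⁻¹ * (x * r * x⁻¹) * x := by group
        _ = 1 := by rw [hb]; group
    exact hr2 (by rw [hr1, one_mul])
  have key := TI.commute_family _ Q rfl hQ Δ ?_ ?_ ?_ ?_ _ ⟨x, rfl⟩ _ ⟨y, rfl⟩ hne
  · have h1 := commutator_mem_commutator (H₁ := (A.map (MulAut.conj x).toMonoidHom).subgroupOf Q)
      (H₂ := (A.map (MulAut.conj y).toMonoidHom).subgroupOf Q) (g₁ := ⟨u, huQ⟩) (g₂ := ⟨w, hwQ⟩)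
      (mem_subgroupOf.mpr hu) (mem_subgroupOf.mpr hw)
    rw [key, mem_bot, commutatorElement_eq_one_iff_mul_comm] at h1
    exact congrArg Subtype.val h1
  · rintro s _ ⟨z, rfl⟩
    refine ⟨(s : X) * z, ?_⟩
    ext v
    simp only [TI.mem_conj_iff, mem_subgroupOf]
    simp [mul_assoc]
  · rintro _ ⟨z, rfl⟩
    obtain ⟨r, hr, hr2⟩ := hexp
    obtain ⟨hrA, hrQ⟩ := mem_inf.mp hr
    refine ⟨⟨z * r * z⁻¹, Normal.conj_mem ‹_› r hrQ z⟩, mem_subgroupOf.mpr ⟨r, hrA, rfl⟩, fun h => hr2 ?_⟩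
    have h' : z * r * z⁻¹ * (z * r * z⁻¹) = 1 := congrArg Subtype.val h
    calc r * r = z⁻¹ * (z * r * z⁻¹ * (z * r * z⁻¹)) * z := by group
      _ = 1 := by rw [h']; group
  · rintro _ ⟨z, rfl⟩ _ ⟨z', rfl⟩
    rw [← card_map_of_injective (K := (A.map (MulAut.conj z).toMonoidHom).subgroupOf Q) Q.subtype_injective,
      ← card_map_of_injective (K := (A.map (MulAut.conj z').toMonoidHom).subgroupOf Q) Q.subtype_injective,
      hAQ, hAQ, card_map_of_injective (MulAut.conj z).injective, card_map_of_injective (MulAut.conj z').injective]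
  · rintro _ ⟨z, rfl⟩ _ ⟨z', rfl⟩
    rcases htiΔ z z' with h | h
    · exact Or.inl (by rw [h])
    · refine Or.inr ?_
      rw [eq_bot_iff]
      intro v hv
      rw [mem_inf, mem_subgroupOf, mem_subgroupOf, ← mem_inf, h, mem_bot] at hv
      exact mem_bot.mpr (Subtype.ext hv)

open Subgroup in
/-- The squares of the elements of an abelian TI 2-subgroup lie in `O₂` of a group of characteristic 2. -/
theorem sq_mem_pCore {X : Type*} [Group X] [Finite X]
    (hC : Subgroup.centralizer (Cfsg.pCore 2 X : Set X) ≤ Cfsg.pCore 2 X) {A : Subgroup X} (hA2 : IsPGroup 2 ↥A)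
    (hAa : IsMulCommutative ↥A)
    (hti : ∀ h : X, A.map (MulAut.conj h).toMonoidHom = A ∨ A.map (MulAut.conj h).toMonoidHom ⊓ A = ⊥)
    {a : X} (ha : a ∈ A) : a ^ 2 ∈ Cfsg.pCore 2 X := by
  haveI : Fact (Nat.Prime 2) := ⟨Nat.prime_two⟩
  by_cases ha2 : a * a = 1
  · rw [pow_two, ha2]; exact one_mem _
  set Q : Subgroup X := Cfsg.pCore 2 X with hQdef
  haveI hQn : Q.Normal := PCore.pCore_normal
  have hQp : IsPGroup 2 Q := PCore.isPGroup_pCore
  set P : Subgroup X := Q ⊔ A with hPdef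
  have hPp : IsPGroup 2 P := hQp.to_sup_of_normal_left hA2
  have hAP : A ≤ P := le_sup_right
  let Δ : Set (Subgroup P) := {U | ∃ z : P, U = (A.map (MulAut.conj (z : X)).toMonoidHom).subgroupOf P}
  have hle : ∀ z : P, A.map (MulAut.conj (z : X)).toMonoidHom ≤ P := by
    rintro z _ ⟨v, hv, rfl⟩
    exact mul_mem (mul_mem z.2 (hAP hv)) (inv_mem z.2)
  refine (PCore.mem_pCore_iff_frattini hC).mp fun q hq => ?_
  set d := a * q * a⁻¹ * q⁻¹ with hd
  have hdQ : d ∈ Q := mul_mem (hQn.conj_mem q hq a) (inv_mem hq)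
  -- `q A q⁻¹` commutes with `A`
  have hcomm : a * (q * a⁻¹ * q⁻¹) = q * a⁻¹ * q⁻¹ * a := by
    by_cases heq : A.map (MulAut.conj q).toMonoidHom = A
    · exact congrArg Subtype.val (hAa.is_comm.comm (⟨a, ha⟩ : A)
        ⟨q * a⁻¹ * q⁻¹, heq ▸ ⟨a⁻¹, inv_mem ha, rfl⟩⟩)
    · have hqP : q ∈ P := (le_sup_left : Q ≤ P) hq
      have h0 : (A.map (MulAut.conj ((1 : P) : X)).toMonoidHom) = A := by
        ext v; simp [TI.mem_conj_iff]
      have hne : (A.map (MulAut.conj ((1 : P) : X)).toMonoidHom).subgroupOf P ≠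
          (A.map (MulAut.conj ((⟨q, hqP⟩ : P) : X)).toMonoidHom).subgroupOf P := by
        intro h
        apply heq
        have h' := congrArg (Subgroup.map P.subtype) h
        rw [map_subgroupOf_eq_of_le (hle _), map_subgroupOf_eq_of_le (hle _), h0] at h'
        exact h'.symm
      have key := TI.commute_family _ P rfl hPp Δ ?_ ?_ ?_ ?_ _ ⟨1, rfl⟩ _ ⟨⟨q, hqP⟩, rfl⟩ hne
      · have h1 := commutator_mem_commutator (g₁ := (⟨a, hAP ha⟩ : P))
          (g₂ := (⟨q * a⁻¹ * q⁻¹, hle ⟨q, hqP⟩ ⟨a⁻¹, inv_mem ha, rfl⟩⟩ : P))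
          (H₁ := (A.map (MulAut.conj ((1 : P) : X)).toMonoidHom).subgroupOf P)
          (H₂ := (A.map (MulAut.conj ((⟨q, hqP⟩ : P) : X)).toMonoidHom).subgroupOf P)
          (mem_subgroupOf.mpr (h0.symm ▸ ha)) (mem_subgroupOf.mpr ⟨a⁻¹, inv_mem ha, rfl⟩)
        rw [key, mem_bot, commutatorElement_eq_one_iff_mul_comm] at h1
        exact congrArg Subtype.val h1
      · rintro s _ ⟨z, rfl⟩
        refine ⟨s * z, ?_⟩
        ext v
        simp only [TI.mem_conj_iff, mem_subgroupOf]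
        simp [mul_assoc]
      · rintro _ ⟨z, rfl⟩
        refine ⟨⟨(z : X) * a * (z : X)⁻¹, hle z ⟨a, ha, rfl⟩⟩, mem_subgroupOf.mpr ⟨a, ha, rfl⟩,
          fun h => ha2 ?_⟩
        have h' : (z : X) * a * (z : X)⁻¹ * ((z : X) * a * (z : X)⁻¹) = 1 := congrArg Subtype.val h
        calc a * a = (z : X)⁻¹ * ((z : X) * a * (z : X)⁻¹ * ((z : X) * a * (z : X)⁻¹)) * z := by group
          _ = 1 := by rw [h']; group
      · rintro _ ⟨z, rfl⟩ _ ⟨z', rfl⟩
        rw [Nat.card_congr (subgroupOfEquivOfLe (hle z)).toEquiv,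
          Nat.card_congr (subgroupOfEquivOfLe (hle z')).toEquiv,
          card_map_of_injective (MulAut.conj (z : X)).injective,
          card_map_of_injective (MulAut.conj (z' : X)).injective]
      · rintro _ ⟨z, rfl⟩ _ ⟨z', rfl⟩
        have he : (A.map (MulAut.conj (z' : X)).toMonoidHom).map (MulAut.conj ((z : X) * (z' : X)⁻¹)).toMonoidHom =
            A.map (MulAut.conj (z : X)).toMonoidHom := by
          ext v
          simp only [TI.mem_conj_iff]
          rw [show (z' : X)⁻¹ * (((z : X) * (z' : X)⁻¹)⁻¹ * v * ((z : X) * (z' : X)⁻¹)) * z' =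
            (z : X)⁻¹ * v * z by group]
        have h := TI.ti_conj hti (z' : X) ((z : X) * (z' : X)⁻¹)
        rw [he] at h
        refine h.imp (fun h => by rw [h]) fun h => ?_
        rw [eq_bot_iff]
        intro v hv
        rw [mem_inf, mem_subgroupOf, mem_subgroupOf, ← mem_inf, h, mem_bot] at hv
        exact mem_bot.mpr (Subtype.ext hv)
  have hda : a * d = d * a := by
    rw [hd]
    calc a * (a * q * a⁻¹ * q⁻¹) = a * (a * (q * a⁻¹ * q⁻¹)) := by group
      _ = a * ((q * a⁻¹ * q⁻¹) * a) := by rw [hcomm]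
      _ = a * q * a⁻¹ * q⁻¹ * a := by group
  have h2 : a ^ 2 * q * (a ^ 2)⁻¹ * q⁻¹ = d * d := by
    have hx : a * q * a⁻¹ = d * q := by rw [hd]; group
    calc a ^ 2 * q * (a ^ 2)⁻¹ * q⁻¹ = a * (a * q * a⁻¹) * a⁻¹ * q⁻¹ := by rw [pow_two]; group
      _ = a * d * (q * a⁻¹ * q⁻¹) := by rw [hx]; group
      _ = d * (a * q * a⁻¹ * q⁻¹) := by rw [hda]; group
      _ = d * d := by rw [hd]
  rw [h2]
  exact ⟨⟨d, hdQ⟩ ^ 2, PGroup.pow_mem_frattini hQp _, by simp [pow_two]⟩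

/-- Let X be a finite group whose generalized Fitting subgroup equals its largest normal 2-subgroup Q, and let A be an abelian 2-subgroup of X such that every conjugate of A equals A or meets A trivially. Let B be the subgroup generated by the squares of the elements of A. Then B lies in Q, and if B is not an elementary abelian 2-group then the normal closure of B in X is commutative. -/
theorem result {X : Type*} [Group X] [Finite X]
    (hX : Cfsg.generalizedFittingSubgroup X = Cfsg.pCore 2 X) (A : Subgroup X) (hA2 : IsPGroup 2 ↥A) (hAa : IsMulCommutative ↥A)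
    (hti : ∀ h : X, A.map (MulAut.conj h).toMonoidHom = A ∨ A.map (MulAut.conj h).toMonoidHom ⊓ A = ⊥) :
    Subgroup.closure ((fun a : X => a ^ 2) '' (A : Set X)) ≤ Cfsg.pCore 2 X ∧
      (¬ Cfsg.IsElementaryAbelian 2 (Subgroup.closure ((fun a : X => a ^ 2) '' (A : Set X))) →
        IsMulCommutative ↥(Subgroup.normalClosure ((fun a : X => a ^ 2) '' (A : Set X)))) := by
  haveI : Fact (Nat.Prime 2) := ⟨Nat.prime_two⟩
  have hC : Subgroup.centralizer (Cfsg.pCore 2 X : Set X) ≤ Cfsg.pCore 2 X := by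
    have h := Cfsg.Agent.Components.centralizer_generalizedFittingSubgroup_le (G := X)
    rwa [hX] at h
  have hsq : ∀ a ∈ A, a ^ 2 ∈ Cfsg.pCore 2 X := fun a ha => sq_mem_pCore hC hA2 hAa hti ha
  refine ⟨?_, fun hne => ?_⟩
  · rw [Subgroup.closure_le]
    rintro _ ⟨a, ha, rfl⟩
    exact hsq a ha
  obtain ⟨b, hb, hb2⟩ : ∃ b ∈ Subgroup.closure ((fun a : X => a ^ 2) '' (A : Set X)), b * b ≠ 1 := by
    by_contra hcon
    push Not at hcon
    refine hne ⟨Subgroup.isMulCommutative_closure ?_, fun b hb => by rw [pow_two]; exact hcon b hb⟩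
    rintro _ ⟨a, ha, rfl⟩ _ ⟨a', ha', rfl⟩
    exact (Commute.pow_pow (congrArg Subtype.val (hAa.is_comm.comm (⟨a, ha⟩ : A) ⟨a', ha'⟩) : a * a' = a' * a) 2 2).eq
  have hexp : ∃ r ∈ A ⊓ Cfsg.pCore 2 X, r * r ≠ 1 := by
    refine ⟨b, ?_, hb2⟩
    revert hb
    apply Subgroup.closure_le _ |>.mpr
    rintro _ ⟨a, ha, rfl⟩
    exact Subgroup.mem_inf.mpr ⟨pow_mem ha 2, hsq a ha⟩
  haveI : (Cfsg.pCore 2 X).Normal := Cfsg.Agent.PCore.pCore_normal
  unfold Subgroup.normalClosure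
  refine Subgroup.isMulCommutative_closure ?_
  intro u hu w hw
  obtain ⟨_, ⟨a, ha, rfl⟩, hcu⟩ := Group.mem_conjugatesOfSet_iff.mp hu
  obtain ⟨_, ⟨a', ha', rfl⟩, hcw⟩ := Group.mem_conjugatesOfSet_iff.mp hw
  obtain ⟨x, rfl⟩ := isConj_iff.mp hcu
  obtain ⟨y, rfl⟩ := isConj_iff.mp hcw
  exact commute_in_normal Cfsg.Agent.PCore.isPGroup_pCore hti hAa hexp x y
    ⟨a ^ 2, pow_mem ha 2, rfl⟩ (Subgroup.Normal.conj_mem ‹_› _ (hsq a ha) x)
    ⟨a' ^ 2, pow_mem ha' 2, rfl⟩ (Subgroup.Normal.conj_mem ‹_› _ (hsq a' ha') y)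

end Cfsg.Agent.S1783
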