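import Cfsg.Statements.S1784
import Cfsg.Agent.Lib.TI.Extraspecial

set_option autoImplicit false
open Cfsg

namespace Cfsg.Agent.S1784

open Subgroup in
theorem commutator_facts {G : Type*} [Group G] [Finite G] (z : G) (hz : orderOf z = 2)
    (hE : Cfsg.IsExtraspecial 2 ↥(Cfsg.generalizedFittingSubgroup ↥(centralizer ({z} : Set G))))
    (α : G) (hα : orderOf α = 2) (hαC : α ∈ centralizer ({z} : Set G))
    (hαQ : α ∉ (Cfsg.generalizedFittingSubgroup ↥(centralizer ({z} : Set G))).map (centralizer ({z} : Set G)).subtype)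
    (Q₀ : Subgroup G) (hQ₀ : ∀ q : G, q ∈ Q₀ ↔ (q ∈ (Cfsg.generalizedFittingSubgroup ↥(centralizer ({z} : Set G))).map (centralizer ({z} : Set G)).subtype ∧ α * q * α⁻¹ * q⁻¹ ∈ zpowers z)) :
    closure ((fun q : G => α * q * α⁻¹ * q⁻¹) '' ((Cfsg.generalizedFittingSubgroup ↥(centralizer ({z} : Set G))).map (centralizer ({z} : Set G)).subtype : Set G)) = (center ↥Q₀).map Q₀.subtype ∧
      (¬ Q₀ ≤ ((Cfsg.generalizedFittingSubgroup ↥(centralizer ({z} : Set G))).map (centralizer ({z} : Set G)).subtype ⊓ centralizer ({α} : Set G)) ⊔ zpowers z →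
        ∃ q ∈ (Cfsg.generalizedFittingSubgroup ↥(centralizer ({z} : Set G))).map (centralizer ({z} : Set G)).subtype, q * α * q⁻¹ = α * z) := by
  haveI : Fact (Nat.Prime 2) := ⟨Nat.prime_two⟩
  set C : Subgroup G := centralizer ({z} : Set G) with hC
  set F : Subgroup ↥C := Cfsg.generalizedFittingSubgroup ↥C with hF
  haveI hFn : F.Normal := Components.generalizedFittingSubgroup_normal ↥C
  set Q : Subgroup G := F.map C.subtype with hQdef
  have hE' : Cfsg.IsExtraspecial 2 ↥Q :=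
    TI.isExtraspecial_congr (F.equivMapOfInjective C.subtype C.subtype_injective) hE
  have hzc : (⟨z, mem_centralizer_singleton_iff.mpr rfl⟩ : ↥C) ∈ center ↥C :=
    mem_center_iff.mpr fun y => Subtype.ext (mem_centralizer_singleton_iff.mp y.2)
  have hzQ : z ∈ Q := ⟨_, TI.mem_genFitting_of_central hzc, rfl⟩
  have hzcent : (⟨z, hzQ⟩ : ↥Q) ∈ center ↥Q := mem_center_iff.mpr fun y => Subtype.ext
    (mem_centralizer_singleton_iff.mp ((map_subtype_le F) y.2))
  have hcen : ∀ x : ↥Q, x ∈ center ↥Q ↔ (x : G) ∈ zpowers z := by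
    have heq : zpowers (⟨z, hzQ⟩ : ↥Q) = center ↥Q :=
      eq_of_le_of_card_ge (zpowers_le.mpr hzcent) (by
        rw [Nat.card_zpowers, hE'.2, ← orderOf_coe, hz])
    intro x
    rw [← heq, mem_zpowers_iff, mem_zpowers_iff]
    exact exists_congr fun k => ⟨fun h => congrArg Subtype.val h, fun h => Subtype.ext h⟩
  have hαN : α ∈ normalizer (Q : Set G) :=
    le_normalizer_map C.subtype ⟨⟨α, hαC⟩, normalizer_eq_top (H := F) ▸ mem_top _, rfl⟩
  let f : MulAut ↥Q := Q.normalizerMonoidHom ⟨α, hαN⟩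
  have hf : ∀ q : ↥Q, ((f q : ↥Q) : G) = α * q * α⁻¹ := fun _ => rfl
  have hα2 : α * α = 1 := by rw [← pow_two, ← hα, pow_orderOf_eq_one]
  have hf2 : ∀ q : ↥Q, f (f q) = q := fun q => Subtype.ext (by
    rw [hf, hf, inv_eq_of_mul_eq_one_right hα2]
    calc α * (α * (q : G) * α) * α = α * α * q * (α * α) := by group
      _ = q := by rw [hα2, one_mul, mul_one])
  have hf1 : ∃ q, f q ≠ q := by
    by_contra hcon
    push Not at hcon
    refine hαQ ⟨⟨α, hαC⟩, Components.centralizer_generalizedFittingSubgroup_le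
      (mem_centralizer_iff.mpr fun y hy => Subtype.ext ?_), rfl⟩
    have := congrArg Subtype.val (hcon ⟨y, y, hy, rfl⟩)
    rw [hf, mul_inv_eq_iff_eq_mul] at this
    exact this.symm
  have hQ₀le : Q₀ ≤ Q := fun q hq => ((hQ₀ q).mp hq).1
  have hD : ∀ q : ↥Q, q ∈ Q₀.subgroupOf Q ↔ f q * q⁻¹ ∈ center ↥Q := fun q => by
    rw [mem_subgroupOf, hQ₀, hcen]
    exact ⟨fun h => h.2, fun h => ⟨q.2, h⟩⟩
  obtain ⟨hR1, hR2⟩ := TI.center_fixModCenter hE' f hf2 hf1 _ hD
  refine ⟨?_, fun hnot => ?_⟩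
  · have himg : (fun q : G => α * q * α⁻¹ * q⁻¹) '' (Q : Set G) =
        Q.subtype '' Set.range (fun q : ↥Q => f q * q⁻¹) := by
      ext x
      constructor
      · rintro ⟨q, hq, rfl⟩
        exact ⟨_, ⟨⟨q, hq⟩, rfl⟩, rfl⟩
      · rintro ⟨_, ⟨q, rfl⟩, rfl⟩
        exact ⟨q, q.2, rfl⟩
    rw [himg, ← MonoidHom.map_closure]
    ext x
    constructor
    · rintro ⟨y, hy, rfl⟩
      have hyQ₀ : (y : G) ∈ Q₀ := hR2 hy
      rw [hR1] at hy
      refine ⟨⟨y, hyQ₀⟩, mem_center_iff.mpr fun w => Subtype.ext ?_, rfl⟩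
      exact (congrArg Subtype.val (mem_centralizer_iff.mp hy ⟨w, hQ₀le w.2⟩ w.2) :)
    · rintro ⟨y, hy, rfl⟩
      refine ⟨⟨y, hQ₀le y.2⟩, ?_, rfl⟩
      rw [hR1]
      exact mem_centralizer_iff.mpr fun w hw => Subtype.ext
        (congrArg Subtype.val (mem_center_iff.mp hy ⟨w, hw⟩) :)
  · obtain ⟨q, hq, hq'⟩ := SetLike.not_le_iff_exists.mp hnot
    obtain ⟨hqQ, hc⟩ := (hQ₀ q).mp hq
    refine ⟨q, hqQ, ?_⟩
    obtain ⟨k, hk⟩ := mem_zpowers_iff.mp hc
    have hz2 : z * z = 1 := by rw [← pow_two, ← hz, pow_orderOf_eq_one]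
    have hαz : α * z = z * α := mem_centralizer_singleton_iff.mp hαC
    rcases Int.even_or_odd k with ⟨j, rfl⟩ | ⟨j, rfl⟩
    · exfalso
      apply hq'
      rw [← two_mul, zpow_mul, zpow_ofNat, pow_two, hz2, one_zpow, eq_comm, mul_inv_eq_one] at hk
      exact mem_sup_left (mem_inf.mpr ⟨hqQ, mem_centralizer_singleton_iff.mpr
        (mul_inv_eq_iff_eq_mul.mp hk).symm⟩)
    · rw [zpow_add, zpow_mul, zpow_ofNat, pow_two, hz2, one_zpow, one_mul, zpow_one] at hk
      have h1 : α * q * α⁻¹ = z * q := by rw [hk]; group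
      have h2 : α * q = z * q * α := mul_inv_eq_iff_eq_mul.mp h1
      have h3 : q * α = z * (α * q) := by rw [h2, ← mul_assoc, ← mul_assoc, hz2, one_mul]
      rw [h3, hαz]
      group


/-- Let G be a finite group and let z be an involution of G such that Q, the generalized Fitting subgroup of the centralizer C of z, is a 2-group of symplectic type (every characteristic abelian subgroup of Q is cyclic); suppose Q is extraspecial, and view Q inside G. Let α be an involution of C that is not in Q, and let Q₀ be the subgroup of those q ∈ Q whose commutator with α lies in the subgroup generated by z. Then (a) the subgroup generated by the commutators α q α⁻¹ q⁻¹, q ∈ Q, equals the centre of Q₀; and (b) if Q₀ is not contained in the product of the centralizer of α in Q with the subgroup generated by z, then some element of Q conjugates α to α z. -/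
theorem result {G : Type*} [Group G] [Finite G] (z : G) (hz : orderOf z = 2) (hQ : Cfsg.IsOfSymplecticType ↥(Cfsg.generalizedFittingSubgroup ↥(Subgroup.centralizer ({z} : Set G)))) (hE : Cfsg.IsExtraspecial 2 ↥(Cfsg.generalizedFittingSubgroup ↥(Subgroup.centralizer ({z} : Set G))))
    (α : G) (hα : orderOf α = 2) (hαC : α ∈ Subgroup.centralizer ({z} : Set G)) (hαQ : α ∉ (Cfsg.generalizedFittingSubgroup ↥(Subgroup.centralizer ({z} : Set G))).map (Subgroup.centralizer ({z} : Set G)).subtype)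
    (Q₀ : Subgroup G) (hQ₀ : ∀ q : G, q ∈ Q₀ ↔ (q ∈ (Cfsg.generalizedFittingSubgroup ↥(Subgroup.centralizer ({z} : Set G))).map (Subgroup.centralizer ({z} : Set G)).subtype ∧ α * q * α⁻¹ * q⁻¹ ∈ Subgroup.zpowers z)) :
    Subgroup.closure ((fun q : G => α * q * α⁻¹ * q⁻¹) '' ((Cfsg.generalizedFittingSubgroup ↥(Subgroup.centralizer ({z} : Set G))).map (Subgroup.centralizer ({z} : Set G)).subtype : Set G)) = (Subgroup.center ↥Q₀).map Q₀.subtype ∧
      (¬ Q₀ ≤ ((Cfsg.generalizedFittingSubgroup ↥(Subgroup.centralizer ({z} : Set G))).map (Subgroup.centralizer ({z} : Set G)).subtype ⊓ Subgroup.centralizer ({α} : Set G)) ⊔ Subgroup.zpowers z →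
        ∃ q ∈ (Cfsg.generalizedFittingSubgroup ↥(Subgroup.centralizer ({z} : Set G))).map (Subgroup.centralizer ({z} : Set G)).subtype, q * α * q⁻¹ = α * z) := by
  exact commutator_facts z hz hE α hα hαC hαQ Q₀ hQ₀

end Cfsg.Agent.S1784
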