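import Cfsg.Statements.S1786
import Cfsg.Agent.Lib.LargeTI.SL2
import Cfsg.Agent.Lib.PGroup.Frattini
import Cfsg.Agent.Lib.Components.GenFitting

set_option autoImplicit false
open Cfsg

namespace Cfsg.Agent.S1786

open Subgroup Cfsg.Agent.LargeTI
open scoped commutatorElement

/-- Let G be a finite group, V an elementary abelian 2-subgroup of G and M the normalizer of V; write Q for the largest normal 2-subgroup of M. Suppose (1) the generalized Fitting subgroup of M equals Q; (2) V is a maximal abelian normal subgroup of M; (3) every conjugate of V equals V or meets V trivially, and for some g ∈ G the conjugate V' = g V g⁻¹ is different from V and contained in Q. Let P be the centralizer of V in Q, W the subgroup generated by V and V', and H the subgroup generated by P and g P g⁻¹. Then: (a) V is contained in g Q g⁻¹; (b) every non-identity element of W lies in exactly one conjugate of V contained in W, H normalizes W, and H modulo the centralizer of W in H is isomorphic to the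 special linear group of dimension 2 over the field with |V| elements; (c) P = Q, and V equals the Frattini subgroup, the centre and the commutator subgroup of Q. -/
theorem result {G : Type*} [Group G] [Finite G] (V : Subgroup G)
    (hV : Cfsg.IsElementaryAbelian 2 V)
    (h1 : (Cfsg.generalizedFittingSubgroup ↥(Subgroup.normalizer (V : Set G))).map (Subgroup.normalizer (V : Set G)).subtype =
      (Cfsg.pCore 2 ↥(Subgroup.normalizer (V : Set G))).map (Subgroup.normalizer (V : Set G)).subtype)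
    (h2 : ∀ A : Subgroup G, V ≤ A → A ≤ Subgroup.normalizer (V : Set G) → IsMulCommutative ↥A →
      (∀ m ∈ Subgroup.normalizer (V : Set G), ∀ a ∈ A, m * a * m⁻¹ ∈ A) → A = V)
    (hti : ∀ x : G, V.map (MulAut.conj x).toMonoidHom = V ∨ V.map (MulAut.conj x).toMonoidHom ⊓ V = ⊥)
    (g : G) (hg : V.map (MulAut.conj g).toMonoidHom ≠ V)
    (hgQ : V.map (MulAut.conj g).toMonoidHom ≤ (Cfsg.pCore 2 ↥(Subgroup.normalizer (V : Set G))).map (Subgroup.normalizer (V : Set G)).subtype) :
    let Q : Subgroup G := (Cfsg.pCore 2 ↥(Subgroup.normalizer (V : Set G))).map (Subgroup.normalizer (V : Set G)).subtype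
    let P : Subgroup G := Q ⊓ Subgroup.centralizer (V : Set G)
    let W : Subgroup G := V ⊔ V.map (MulAut.conj g).toMonoidHom
    let H : Subgroup G := P ⊔ P.map (MulAut.conj g).toMonoidHom
    V ≤ Q.map (MulAut.conj g).toMonoidHom ∧
      (∀ w ∈ W, w ≠ 1 → ∃! U : Subgroup G, (∃ x : G, U = V.map (MulAut.conj x).toMonoidHom) ∧ U ≤ W ∧ w ∈ U) ∧
      H ≤ Subgroup.normalizer (W : Set G) ∧
      (∀ hN : ((Subgroup.centralizer (W : Set G)).subgroupOf H).Normal, ∃ (F : Type) (_ : Field F) (_ : Fintype F), Fintype.card F = Nat.card ↥V ∧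
        Nonempty (↥H ⧸ (Subgroup.centralizer (W : Set G)).subgroupOf H ≃* Matrix.SpecialLinearGroup (Fin 2) F)) ∧
      P = Q ∧ (frattini ↥Q).map Q.subtype = V ∧ (Subgroup.center ↥Q).map Q.subtype = V ∧ (commutator ↥Q).map Q.subtype = V := by
  intro Q P W H
  haveI : Fact (Nat.Prime 2) := ⟨Nat.prime_two⟩
  have hN : Hyp V :=
    { comm := fun a ha b hb => congrArg Subtype.val (hV.1.is_comm.comm (⟨a, ha⟩ : ↥V) ⟨b, hb⟩)
      sq := fun a ha => by rw [← pow_two]; exact hV.2 a ha
      ne_bot := fun e => hg (by rw [e, Subgroup.map_bot])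
      self := fun c hc hcq => by
        refine ⟨⟨c, hc⟩, ?_, rfl⟩
        rw [← Subgroup.map_injective (Subgroup.subtype_injective _) h1]
        refine Components.centralizer_generalizedFittingSubgroup_le (mem_centralizer_iff.mpr fun y hy => ?_)
        refine Subtype.ext (hcq y ⟨y, ?_, rfl⟩).symm
        rw [← Subgroup.map_injective (Subgroup.subtype_injective _) h1]
        exact hy
      max := fun B e1 e2 e3 e4 => h2 B e1 e2 ⟨⟨fun a b => Subtype.ext (e3 a a.2 b b.2)⟩⟩ e4
      ti := hti }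
  set V' := cj g V with hV'
  have hI : Into V V' := ⟨hN, ⟨g, rfl⟩, hg, le_inf hgQ fun b hb => mem_centralizer_iff.mpr fun a ha =>
    hN.commute_of_le_normalizer ⟨g, rfl⟩ hg (hgQ.trans (Subgroup.map_subtype_le _)) a ha b hb⟩
  have hI' : Into V' V := hI.symm
  have hPeq : P = PP V := rfl
  have hP' : cj g (PP V) = PP V' := (PP_cj g V).symm
  have hQeq : QQ V = PP V := hI.QQ_eq_PP
  refine ⟨?_, ?_, ?_, ?_, ?_, ?_⟩
  · show V ≤ cj g (QQ V)
    rw [← QQ_cj]
    exact hI'.le.trans inf_le_left
  · intro w hw hw1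
    obtain ⟨a, ha, b, hb, rfl⟩ := (mem_sup_iff_of_commute hI.comm).mp hw
    obtain ⟨U, hUc, hUW, hUw⟩ : ∃ U : Subgroup G, (∃ x, U = cj x V) ∧ U ≤ V ⊔ V' ∧ a * b ∈ U := by
      by_cases hb1 : b = 1
      · exact ⟨V, ⟨1, (cj_one V).symm⟩, le_sup_left, by rw [hb1, mul_one]; exact ha⟩
      · obtain ⟨p, hp, e⟩ := hI.surj ha hb hb1
        refine ⟨cj p V', ⟨p * g, by rw [hV', cj_cj]⟩, ?_, by rw [← e]; exact conj_mem_cj p hb⟩
        refine le_trans (cj_le_cj p (le_sup_right (a := V))) (le_of_eq ?_)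
        exact cj_eq_self (hI.PP_le_normalizer_sup hp)
    exact ⟨U, ⟨hUc, hUW, hUw⟩, fun U' hU' => hN.eq_of_meet hU'.1 hUc hU'.2.2 hUw hw1⟩
  · refine sup_le hI.PP_le_normalizer_sup ?_
    show cj g (PP V) ≤ normalizer ((V ⊔ V' : Subgroup G) : Set G)
    rw [hP', sup_comm]
    exact hI'.PP_le_normalizer_sup
  · intro hn
    have hH : H = PP V ⊔ PP V' := by rw [← hP']; rfl
    clear_value H
    subst hH
    exact hI.quotient_SL2 hI' hn
  · exact hQeq.symm
  · have hsq : ∀ x : ↥Q, ((x * x : ↥Q) : G) ∈ V := fun x => by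
      have hx : (x : G) ∈ PP V := hQeq ▸ x.2
      exact hN.sq_mem hx
    have hcm : ∀ x y : ↥Q, ((x * y * x⁻¹ * y⁻¹ : ↥Q) : G) ∈ V := fun x y => by
      have hx : (x : G) ∈ PP V := hQeq ▸ x.2
      have hy : (y : G) ∈ PP V := hQeq ▸ y.2
      exact hN.commutator_mem hx hy
    have hle : commutator ↥Q ≤ V.subgroupOf Q := by
      rw [_root_.commutator_def, commutator_le]
      exact fun x _ y _ => hcm x y
    have hVc : V ≤ (commutator ↥Q).map Q.subtype := by
      intro a ha
      obtain ⟨⟨b, hb⟩, hb1⟩ := Into.exists_partner.exists_ne_one_of_ne_bot hI.hypB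
      obtain ⟨p, hp, e⟩ := hI.surj ha hb hb1
      refine ⟨⁅(⟨p, inf_le_left (a := QQ V) hp⟩ : ↥Q), ⟨b, hgQ hb⟩⁆,
        commutator_mem_commutator (mem_top _) (mem_top _), ?_⟩
      show p * b * p⁻¹ * b⁻¹ = a
      rw [e, mul_inv_cancel_right]
    have hfr : (frattini ↥Q).map Q.subtype ≤ V := by
      rintro _ ⟨x, hx, rfl⟩
      exact PGroup.frattini_le (p := 2) hle (fun y => by
        rw [pow_two]; exact mem_subgroupOf.mpr (hsq y)) hx
    have hcf : (commutator ↥Q).map Q.subtype ≤ (frattini ↥Q).map Q.subtype :=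
      Subgroup.map_mono (PGroup.commutator_le_frattini (Hyp.isPGroup_QQ (A := V)))
    refine ⟨le_antisymm hfr (hVc.trans hcf), le_antisymm ?_ fun a ha => ?_, le_antisymm (hcf.trans hfr) hVc⟩
    · rintro _ ⟨z, hz, rfl⟩
      refine hN.mem_of_central (hQeq ▸ z.2) fun q hq => ?_
      exact (congrArg Subtype.val (mem_center_iff.mp hz ⟨q, hq.1⟩)).symm
    · exact ⟨⟨a, hN.le_QQ ha⟩, mem_center_iff.mpr fun q => Subtype.ext
        (Hyp.comm_PP (hQeq ▸ q.2 : (q : G) ∈ PP V) ha).symm, rfl⟩

end Cfsg.Agent.S1786
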