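import Cfsg.Statements.S1850
import Mathlib
import Cfsg.Agent.Lib.Balance.EvenChar
-- import your own Cfsg.Agent.* helpers here

set_option autoImplicit false
open Cfsg

namespace Cfsg.Agent.S1850

/-- Let G be a non-abelian finite simple QTKE-group and T a Sylow 2-subgroup of G. If U is a nontrivial 2-subgroup of G with U ∩ Z(T) ≠ 1, then F*(N_G(U)) = O₂(N_G(U)). -/
theorem result {G : Type*} [Group G] [Finite G] [IsSimpleGroup G]
    (hG : ¬ IsMulCommutative G) (hQ : Cfsg.IsQTKE G) (T : Sylow 2 G) (U : Subgroup G)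
    (hU : IsPGroup 2 ↥U) (hZ : U ⊓ ((T : Subgroup G) ⊓ Subgroup.centralizer ((T : Subgroup G) : Set G)) ≠ ⊥) :
    Subgroup.normalizer (U : Set G) ∈ Cfsg.calHe G := by
  have := Fact.mk Nat.prime_two
  rw [Ne, Subgroup.eq_bot_iff_forall] at hZ
  push Not at hZ
  obtain ⟨z, hz, hz1⟩ := hZ
  set Z : Subgroup G := Subgroup.zpowers (z : G) with hZdef
  have hZU : Z ≤ U := Subgroup.zpowers_le.2 hz.1
  have hTN : (T : Subgroup G) ≤ Subgroup.centralizer (Z : Set G) := by
    intro t ht
    rw [Subgroup.mem_centralizer_iff]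
    intro x hx
    obtain ⟨i, rfl⟩ := Subgroup.mem_zpowers_iff.1 hx
    have h1 : Commute t (z : G) := Subgroup.mem_centralizer_iff.1 hz.2.2 t ht
    exact ((h1.zpow_right i).eq).symm
  have hM : Balance.CharP' 2 (Subgroup.normalizer (Z : Set G)) :=
    (Balance.charP'_two_iff _).2 (hQ.2.2 _ ⟨Z, hU.to_le hZU, fun h => hz1 (Subgroup.mem_bot.1 (h ▸ Subgroup.mem_zpowers (z : G))), rfl⟩
      ⟨T, hTN.trans (Subgroup.centralizer_le_normalizer _)⟩)
  have hC : Balance.CharP' 2 (Subgroup.centralizer (Z : Set G)) :=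
    hM.of_normal (Subgroup.centralizer_le_normalizer _) (Balance.normalizer_le_normalizer_centralizer _)
  have hD := hC.centralizer_mono hZU hU
  set X := Subgroup.normalizer (U : Set G) with hX
  have hUX : U ≤ Balance.core 2 X := Balance.le_core Subgroup.le_normalizer le_rfl hU
  have hXc : Balance.CharP' 2 X := Balance.charP'_of_centralizer_le (Subgroup.centralizer_le_normalizer _)
    (Balance.normalizer_le_normalizer_centralizer _) (inf_le_right.trans (Subgroup.centralizer_le hUX)) hD
  exact Balance.generalizedFitting_eq_pCore ((Balance.charP'_iff_type X).1 hXc)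

end Cfsg.Agent.S1850
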