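import Cfsg.Statements.S1851
import Mathlib
import Cfsg.Agent.Lib.Balance.EvenChar
import Cfsg.Agent.Lib.PGroup.Basic
-- import your own Cfsg.Agent.* helpers here

set_option autoImplicit false
open Cfsg

namespace Cfsg.Agent.S1851

open Subgroup
open scoped commutatorElement

/-- `Ω₁(Z(O₂(Y)))` inside the ambient group. -/
abbrev omegaZ {G : Type*} [Group G] (Y : Subgroup G) : Subgroup G :=
  omegaOne 2 (pCoreTwoOf Y ⊓ centralizer (pCoreTwoOf Y : Set G))

theorem mem_omegaZ {G : Type*} [Group G] {Y : Subgroup G} {v : G} :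
    v ∈ omegaZ Y ↔ v ∈ pCoreTwoOf Y ∧ (∀ r ∈ pCoreTwoOf Y, r * v = v * r) ∧ v ^ 2 = 1 := by
  constructor
  · intro h
    induction h using Subgroup.closure_induction with
    | mem x hx => exact ⟨hx.1.1, fun r hr => mem_centralizer_iff.1 hx.1.2 r hr, hx.2⟩
    | one => exact ⟨one_mem _, fun r _ => by simp, one_pow 2⟩
    | mul x y _ _ hx hy =>
      refine ⟨mul_mem hx.1 hy.1, fun r hr => ?_, ?_⟩
      · rw [← mul_assoc, hx.2.1 r hr, mul_assoc, hy.2.1 r hr, mul_assoc]
      · have hc : Commute x y := hy.2.1 x hx.1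
        rw [hc.mul_pow, hx.2.2, hy.2.2, one_mul]
    | inv x _ hx =>
      refine ⟨inv_mem hx.1, fun r hr => ?_, by rw [inv_pow, hx.2.2, inv_one]⟩
      exact (Commute.inv_right (hx.2.1 r hr) : Commute r x⁻¹)
  · rintro ⟨h1, h2, h3⟩
    exact Subgroup.subset_closure ⟨⟨h1, mem_centralizer_iff.2 h2⟩, h3⟩

theorem le_normalizer_omegaZ {G : Type*} [Group G] (Y : Subgroup G) :
    normalizer (Y : Set G) ≤ normalizer (omegaZ Y : Set G) := by
  rw [le_normalizer_iff]
  intro g hg v hv
  obtain ⟨h1, h2, h3⟩ := mem_omegaZ.1 hv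
  have hn : g ∈ normalizer (pCoreTwoOf Y : Set G) := Balance.normalizer_le_normalizer_core (p := 2) Y hg
  refine mem_omegaZ.2 ⟨(mem_normalizer_iff.1 hn v).1 h1, fun r hr => ?_, ?_⟩
  · have := h2 _ ((mem_normalizer_iff''.1 hn r).1 hr)
    calc r * (g * v * g⁻¹) = g * (g⁻¹ * r * g * v) * g⁻¹ := by group
      _ = g * (v * (g⁻¹ * r * g)) * g⁻¹ := by rw [this]
      _ = g * v * g⁻¹ * r := by group
  · rw [← MulAut.conj_apply, ← map_pow, h3, map_one]

/-- A perfect subnormal subgroup is normalised by every normal `p`-subgroup. -/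
theorem normalizes_perfect_subnormal {G : Type*} [Group G] [Finite G] {p : ℕ} [Fact p.Prime]
    {L : Subgroup G} (hp : ⁅L, L⁆ = L) (hL : L.IsSubnormal) (R : Subgroup G) [R.Normal] (hR : IsPGroup p ↥R) :
    R ≤ normalizer (L : Set G) := by
  obtain ⟨n, f, hf, hnorm, h0, hn⟩ := hL.exists_chain
  have key : ∀ i, R ⊓ f i ≤ normalizer (L : Set G) := by
    intro i
    induction i with
    | zero => rw [h0]; exact inf_le_right.trans le_normalizer
    | succ i ih =>
      set g : Subgroup G := L ⊔ (R ⊓ f i) with hg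
      have hgN : g ≤ normalizer (L : Set G) := sup_le le_normalizer ih
      have hgR : L ≤ normalizer ((R ⊓ f i : Subgroup G) : Set G) :=
        (le_inf (le_of_le_of_eq le_top (normalizer_eq_top (H := R)).symm) ((h0 ▸ hf (Nat.zero_le i) : L ≤ f i).trans le_normalizer)).trans
          inf_normalizer_le_normalizer_inf
      have hmax : R ⊓ f (i + 1) ≤ normalizer (g : Set G) := by
        rw [le_normalizer_iff]
        intro r hr x hx
        have hLf : L ≤ f i := h0 ▸ hf (Nat.zero_le i)
        have hxf : x ∈ f i := (sup_le hLf inf_le_right : g ≤ f i) hx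
        have hrn : r ∈ normalizer (f i : Set G) :=
          (normal_subgroupOf_iff_le_normalizer (hf (Nat.le_succ i))).1 (hnorm i) hr.2
        have hconj : r * x * r⁻¹ ∈ f i := (mem_normalizer_iff.1 hrn x).1 hxf
        have hcomm : r * x * r⁻¹ * x⁻¹ ∈ R ⊓ f i := by
          refine ⟨?_, (f i).mul_mem hconj ((f i).inv_mem hxf)⟩
          have := R.mul_mem hr.1 (Normal.conj_mem (inferInstance : R.Normal) _ (R.inv_mem hr.1) x)
          simpa [mul_assoc] using this
        have : r * x * r⁻¹ = r * x * r⁻¹ * x⁻¹ * x := by group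
        rw [this]
        exact g.mul_mem (le_sup_right (a := L) hcomm) hx
      -- `L` is the last derived subgroup of `g`
      have hLn : (L.subgroupOf g).Normal := normal_subgroupOf_of_le_normalizer hgN
      have hquot : IsPGroup p (↥g ⧸ L.subgroupOf g) := by
        intro x
        obtain ⟨x, rfl⟩ := QuotientGroup.mk_surjective x
        have hx : (x : G) ∈ ((L ⊔ (R ⊓ f i) : Subgroup G) : Set G) := x.2
        rw [coe_mul_of_left_le_normalizer_right L _ hgR, Set.mem_mul] at hx
        obtain ⟨l, hl, r, hr, hlr⟩ := hx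
        obtain ⟨k, hk⟩ := hR ⟨r, hr.1⟩
        refine ⟨k, ?_⟩
        have hrg : r ∈ g := le_sup_right (a := L) hr
        have e : (QuotientGroup.mk x : ↥g ⧸ L.subgroupOf g) = QuotientGroup.mk ⟨r, hrg⟩ := by
          rw [QuotientGroup.eq, mem_subgroupOf]
          simp only [coe_mul, coe_inv, ← hlr, mul_inv_rev]
          exact (mem_normalizer_iff''.1 (hgN hrg) _).1 (L.inv_mem hl)
        rw [e, ← QuotientGroup.mk_pow]
        have : (⟨r, hrg⟩ : ↥g) ^ p ^ k = 1 := Subtype.ext (by simpa using congrArg Subtype.val hk)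
        rw [this, QuotientGroup.mk_one]
      have := hquot.isNilpotent
      obtain ⟨m, hm⟩ := (inferInstance : Group.IsSolvable (↥g ⧸ L.subgroupOf g)).solvable
      have hd : derivedSeries ↥g m = L.subgroupOf g := by
        refine le_antisymm ?_ ?_
        · have := map_derivedSeries_le_derivedSeries (QuotientGroup.mk' (L.subgroupOf g)) m
          rw [hm, le_bot_iff, Subgroup.map_eq_bot_iff, QuotientGroup.ker_mk'] at this
          exact this
        · clear hm
          induction m with
          | zero => simp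
          | succ m ihm =>
            have e : ⁅L.subgroupOf g, L.subgroupOf g⁆ = L.subgroupOf g := by
              apply map_injective g.subtype_injective
              rw [map_commutator, map_subgroupOf_eq_of_le le_sup_left, hp]
            rw [derivedSeries_succ, ← e]
            exact commutator_mono ihm ihm
      have hch : (L.subgroupOf g).Characteristic := hd ▸ derivedSeries_characteristic ↥g m
      have := Components.normalizer_le_normalizer_map_of_characteristic g (L.subgroupOf g)
      rw [map_subgroupOf_eq_of_le le_sup_left] at this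
      exact hmax.trans this
  have := key n
  rwa [hn, inf_top_eq] at this

/-- The action on `Ω₁(Z(O₂))` of a perfect subnormal subgroup survives in the group. -/
theorem omegaZ_of_subnormal {G : Type*} [Group G] [Finite G] {L H : Subgroup G} (hLH : L ≤ H)
    (hp : ⁅L, L⁆ = L) (hL : (L.subgroupOf H).IsSubnormal)
    (hR : Balance.core 2 H ≤ normalizer (L : Set G)) (hodd : oddGenerated L = L)
    (hne : ⁅omegaZ L, L⁆ ≠ ⊥) : ⁅omegaZ H, L⁆ ≠ ⊥ := by
  have := Fact.mk Nat.prime_two
  intro hbot
  apply hne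
  rw [commutator_eq_bot_iff_le_centralizer]
  intro v hv
  have hLc : L ≤ centralizer ({v} : Set G) := by
    rw [← hodd]
    refine (closure_le _).2 ?_
    rintro y ⟨hy, hyo⟩
    refine mem_centralizer_singleton_iff.2 ?_
    by_contra hne'
    have hyc : (orderOf y).Coprime 2 := by
      rw [Nat.coprime_two_right]; exact hyo
    set R := Balance.core 2 H with hRdef
    set z := y * v * y⁻¹ * v⁻¹ with hz
    have hVn := le_normalizer_omegaZ L
    have hzV : z ∈ omegaZ L :=
      (omegaZ L).mul_mem ((mem_normalizer_iff.1 (hVn (le_normalizer hy)) v).1 hv) ((omegaZ L).inv_mem hv)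
    let W : Subgroup G :=
      { carrier := {w | ∃ u ∈ omegaZ L, y * u * y⁻¹ * u⁻¹ = w}
        one_mem' := ⟨1, one_mem _, by group⟩
        mul_mem' := by
          rintro _ _ ⟨u, hu, rfl⟩ ⟨u', hu', rfl⟩
          refine ⟨u * u', mul_mem hu hu', ?_⟩
          have hyu' : y * u' * y⁻¹ * u'⁻¹ ∈ omegaZ L :=
            mul_mem ((mem_normalizer_iff.1 (hVn (le_normalizer hy)) u').1 hu') (inv_mem hu')
          have hc : Commute (u⁻¹) (y * u' * y⁻¹ * u'⁻¹) :=
            (mem_omegaZ.1 hyu').2.1 _ (mem_omegaZ.1 (inv_mem hu)).1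
          calc y * (u * u') * y⁻¹ * (u * u')⁻¹
              = y * u * y⁻¹ * ((y * u' * y⁻¹ * u'⁻¹) * u⁻¹) := by group
            _ = y * u * y⁻¹ * (u⁻¹ * (y * u' * y⁻¹ * u'⁻¹)) := by rw [hc.eq]
            _ = _ := by group
        inv_mem' := by
          rintro _ ⟨u, hu, rfl⟩
          refine ⟨u⁻¹, inv_mem hu, ?_⟩
          have hyu : y * u * y⁻¹ ∈ omegaZ L := (mem_normalizer_iff.1 (hVn (le_normalizer hy)) u).1 hu
          have hc : Commute u (y * u * y⁻¹)⁻¹ :=
            (mem_omegaZ.1 (inv_mem hyu)).2.1 _ (mem_omegaZ.1 hu).1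
          calc y * u⁻¹ * y⁻¹ * u⁻¹⁻¹ = (y * u * y⁻¹)⁻¹ * u := by group
            _ = u * (y * u * y⁻¹)⁻¹ := hc.eq.symm
            _ = _ := by group }
    have hcoreL : pCoreTwoOf L ≤ R := by
      rw [← map_subgroupOf_eq_of_le hLH]
      refine le_trans (le_of_eq (Balance.core_map_subtype (p := 2) (L.subgroupOf H))) ?_
      exact map_mono (Balance.core_le_pCore_of_isSubnormal hL)
    have hWR : W ≤ R := by
      rintro _ ⟨u, hu, rfl⟩
      exact hcoreL (mem_omegaZ.1 (mul_mem ((mem_normalizer_iff.1 (hVn (le_normalizer hy)) u).1 hu)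
        (inv_mem hu))).1
    -- commutators of `R` and `L` lie in `O₂(L)`, which centralises `V`
    have hRL : ∀ r ∈ R, r * y * r⁻¹ * y⁻¹ ∈ pCoreTwoOf L := by
      intro r hr
      have h1 : R ⊓ L ≤ pCoreTwoOf L := Balance.le_core inf_le_right
        ((le_inf (hLH.trans (Balance.le_normalizer_core H)) le_normalizer).trans inf_normalizer_le_normalizer_inf)
        ((Balance.isPGroup_core H).to_le inf_le_left)
      refine h1 ⟨?_, L.mul_mem ((mem_normalizer_iff.1 (hR hr) y).1 hy) (L.inv_mem hy)⟩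
      have := R.mul_mem hr ((mem_normalizer_iff.1 (Balance.le_normalizer_core H (hLH hy)) _).1 (inv_mem hr))
      simpa [mul_assoc] using this
    have hWn : R ≤ normalizer (W : Set G) := by
      rw [le_normalizer_iff]
      rintro r hr _ ⟨u, hu, rfl⟩
      have hru : r * u * r⁻¹ ∈ omegaZ L := (mem_normalizer_iff.1 (hVn (hR hr)) u).1 hu
      refine ⟨r * u * r⁻¹, hru, ?_⟩
      set u' := r * u * r⁻¹ with hu'
      set c := r * y * r⁻¹ * y⁻¹ with hc
      have hyu' : y * u' * y⁻¹ ∈ omegaZ L := (mem_normalizer_iff.1 (hVn (le_normalizer hy)) u').1 hru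
      have h2 := (mem_omegaZ.1 hyu').2.1 c (hRL r hr)
      calc y * u' * y⁻¹ * u'⁻¹ = (y * u' * y⁻¹ * c) * c⁻¹ * u'⁻¹ := by group
        _ = (c * (y * u' * y⁻¹)) * c⁻¹ * u'⁻¹ := by rw [h2]
        _ = r * (y * u * y⁻¹ * u⁻¹) * r⁻¹ := by rw [hc, hu']; group
    have hzW : z ∈ W := ⟨v, hv, hz.symm⟩
    have hWne : W.subgroupOf R ≠ ⊥ := by
      intro h
      have : (⟨z, hWR hzW⟩ : ↥R) ∈ W.subgroupOf R := hzW
      rw [h, Subgroup.mem_bot] at this
      refine hne' ?_
      have hz1 : z = 1 := congrArg Subtype.val this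
      rw [hz] at hz1
      exact (mul_inv_eq_iff_eq_mul.1 (mul_inv_eq_one.1 hz1)).symm.symm
    have := normal_subgroupOf_of_le_normalizer hWn
    obtain ⟨w, hwW, hwc, hwo⟩ :=
      PGroup.exists_orderOf_eq_mem_center (Balance.isPGroup_core H) (W.subgroupOf R) hWne
    have hwΩ : (w : G) ∈ omegaZ H := mem_omegaZ.2 ⟨w.2,
      fun r hr => congrArg Subtype.val (mem_center_iff.1 hwc ⟨r, hr⟩),
      by
        have h2 : (w : G) ^ orderOf w = 1 := by
          rw [← Subgroup.coe_pow, pow_orderOf_eq_one, Subgroup.coe_one]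
        simpa [hwo] using h2⟩
    obtain ⟨u, hu, hue'⟩ := hwW
    have hue : y * u * y⁻¹ * u⁻¹ = (w : G) := hue'
    have hyw : Commute y (w : G) :=
      mem_centralizer_iff.1 (commutator_eq_bot_iff_le_centralizer.1 hbot hwΩ) y hy
    have hcom : Commute y u := Balance.commute_of_translate'
      (Balance.isPGroup_core (p := 2) H) w.2 hyc (by rw [← hue]; show y * u * y⁻¹ = _; group) hyw
    have hw1 : (w : G) = 1 := by rw [← hue, hcom.eq]; group
    rw [← Subgroup.orderOf_coe, hw1, orderOf_one] at hwo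
    omega
  exact mem_centralizer_iff.2 fun y hy => mem_centralizer_singleton_iff.1 (hLc hy)

/-- Let G be a non-abelian finite simple QTKE-group and T a Sylow 2-subgroup of G, and let L be a member of ℒ_f(G, T) (a member of ℒ(G, T) that lies in 𝒳 — L ≠ 1, L = O²(L), F*(L) = O₂(L) — and acts nontrivially on Ω₁(Z(O₂(L)))). Then (1) every member K of ℒ(G, T) containing L is again in ℒ_f(G, T) (a sharper form of (1) also compares the modules [Ω₁(Z(R)), L] and [Ω₁(Z(R')), K] for suitable 2-subgroups R, R'; that comparison is not included); and (2) if L is maximal under inclusion among the members of ℒ_f(G, T), then L is a maximal member of ℒ(G, T), hence a member of ℒ_f*(G, T). -/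
theorem result {G : Type*} [Group G] [Finite G] [IsSimpleGroup G]
    (hG : ¬ IsMulCommutative G) (hQ : Cfsg.IsQTKE G) (T : Sylow 2 G) (L : Subgroup G)
    (hL : L ∈ Cfsg.calLf (T : Subgroup G)) :
    (∀ K ∈ Cfsg.calL (T : Subgroup G), L ≤ K → K ∈ Cfsg.calLf (T : Subgroup G)) ∧
    ((∀ K ∈ Cfsg.calLf (T : Subgroup G), L ≤ K → K = L) → L ∈ Cfsg.calLfMax (T : Subgroup G)) := by
  have := Fact.mk Nat.prime_two
  have part1 : ∀ K ∈ Cfsg.calL (T : Subgroup G), L ≤ K → K ∈ Cfsg.calLf (T : Subgroup G) := by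
    intro K hK hLK
    refine ⟨hK, ?_⟩
    obtain ⟨hKC, -, hKcore⟩ := hK
    obtain ⟨⟨hLC, -, -⟩, ⟨⟨hLne, hLodd, -⟩, hLV⟩⟩ := hL
    set H := K ⊔ (T : Subgroup G) with hHdef
    set H₀ := L ⊔ (T : Subgroup G) with hH₀def
    have hH₀H : H₀ ≤ H := sup_le_sup_right hLK _
    have perfOf : ∀ {A B : Subgroup G}, A ≤ B → ⁅A.subgroupOf B, A.subgroupOf B⁆ = A.subgroupOf B →
        ⁅A, A⁆ = A := by
      intro A B hAB h
      have := congrArg (Subgroup.map B.subtype) h
      rwa [Subgroup.map_commutator, Subgroup.map_subgroupOf_eq_of_le hAB] at this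
    have hLperf := perfOf le_sup_left hLC.2.1
    have hKperf := perfOf le_sup_left hKC.2.1
    have hcharH : Balance.CharP' 2 H := Balance.charP'_of_even_char hQ.2.2 T le_sup_right hKcore
    have hKhe : Cfsg.generalizedFittingSubgroup ↥K = Cfsg.pCore 2 ↥K :=
      Balance.generalizedFitting_eq_pCore
        ((Balance.charP'_iff_type K).1 (hcharH.of_isSubnormal le_sup_left hKC.2.2.1))
    have hKne : K ≠ ⊥ := fun h => hKC.1 (by rw [h, Subgroup.bot_subgroupOf])
    have hnormalizes : ∀ {A B : Subgroup G}, A ≤ B → (A.subgroupOf B).IsSubnormal → ⁅A, A⁆ = A →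
        Balance.core 2 B ≤ Subgroup.normalizer (A : Set G) := by
      intro A B hAB hsn hperf
      have hp' : ⁅A.subgroupOf B, A.subgroupOf B⁆ = A.subgroupOf B := by
        apply Subgroup.map_injective B.subtype_injective
        rw [Subgroup.map_commutator, Subgroup.map_subgroupOf_eq_of_le hAB, hperf]
      have h := normalizes_perfect_subnormal hp' hsn (Cfsg.pCore 2 ↥B) (Components.isPGroup_pCore' 2)
      have h' := (Subgroup.map_mono (f := B.subtype) h).trans (Subgroup.le_normalizer_map B.subtype)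
      rwa [Subgroup.map_subgroupOf_eq_of_le hAB] at h'
    have hstep : ⁅omegaZ H₀, L⁆ ≠ ⊥ := omegaZ_of_subnormal le_sup_left hLperf hLC.2.2.1
      (hnormalizes le_sup_left hLC.2.2.1 hLperf) hLodd hLV
    -- `Ω₁(Z(O₂(H₀))) ≤ Ω₁(Z(O₂(H)))`
    have hmono : omegaZ H₀ ≤ omegaZ H := by
      intro v hv
      obtain ⟨h1, h2, h3⟩ := mem_omegaZ.1 hv
      have hQR : Balance.core 2 H ≤ Balance.core 2 H₀ :=
        Balance.le_core ((Balance.core_le_sylow T le_sup_right).trans le_sup_right)
          (hH₀H.trans (Balance.le_normalizer_core H)) (Balance.isPGroup_core H)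
      have hvQ : v ∈ Balance.core 2 H :=
        hcharH ⟨hH₀H (Balance.core_le _ h1), Subgroup.mem_centralizer_iff.2 fun r hr => h2 r (hQR hr)⟩
      exact mem_omegaZ.2 ⟨hvQ, fun r hr => h2 r (hQR hr), h3⟩
    have hKodd : Cfsg.oddGenerated K = K := by
      refine le_antisymm ((Subgroup.closure_le _).2 fun x hx => hx.1) ?_
      have hN : (Cfsg.pResidual 2 ↥K).Normal := by
        refine ⟨fun n hn g => ?_⟩
        induction hn using Subgroup.closure_induction with
        | mem x hx =>
          refine Subgroup.subset_closure ?_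
          have hxo : orderOf (g * x * g⁻¹) = orderOf x := by
            simpa using orderOf_injective (MulAut.conj g).toMonoidHom (MulAut.conj g).injective x
          simpa only [Set.mem_setOf_eq, hxo] using hx
        | one => simp
        | mul x y _ _ hx hy => simpa [mul_assoc] using mul_mem hx hy
        | inv x _ hx => simpa [mul_assoc] using inv_mem hx
      have hP : Group.IsPerfect ↥K := Subgroup.isPerfect_iff.mpr hKperf
      have hp : IsPGroup 2 (↥K ⧸ Cfsg.pResidual 2 ↥K) := by
        intro q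
        obtain ⟨x, rfl⟩ := QuotientGroup.mk_surjective q
        refine ⟨(orderOf x).factorization 2, ?_⟩
        rw [← QuotientGroup.mk_pow, QuotientGroup.eq_one_iff]
        refine Subgroup.subset_closure ?_
        show (orderOf (x ^ 2 ^ (orderOf x).factorization 2)).Coprime 2
        rw [orderOf_pow_of_dvd (pow_ne_zero _ two_ne_zero) (Nat.ordProj_dvd _ _)]
        exact (Nat.coprime_ordCompl Nat.prime_two (orderOf_pos x).ne').symm
      have := hp.isNilpotent
      have hPq : Group.IsPerfect (↥K ⧸ Cfsg.pResidual 2 ↥K) :=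
        Group.IsPerfect.ofSurjective (QuotientGroup.mk'_surjective _)
      have hsub : Subsingleton (↥K ⧸ Cfsg.pResidual 2 ↥K) := by
        by_contra hns
        rw [not_subsingleton_iff_nontrivial] at hns
        exact Group.IsPerfect.not_isSolvable (↥K ⧸ Cfsg.pResidual 2 ↥K) inferInstance
      intro x hx
      have hxm : (⟨x, hx⟩ : ↥K) ∈ Cfsg.pResidual 2 ↥K :=
        (QuotientGroup.eq_one_iff _).1 (Subsingleton.elim _ _)
      have hle : (Cfsg.pResidual 2 ↥K).map K.subtype ≤ Cfsg.oddGenerated K := by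
        rw [Subgroup.map_le_iff_le_comap]
        refine (Subgroup.closure_le _).2 fun y hy => Subgroup.subset_closure ⟨y.2, ?_⟩
        rw [Subgroup.coe_subtype, Subgroup.orderOf_coe, ← Nat.coprime_two_right]
        exact hy
      exact hle ⟨_, hxm, rfl⟩
    refine ⟨⟨hKne, hKodd, hKhe⟩, fun hbot => hstep ?_⟩
    -- `K` centralises `Ω₁(Z(O₂(H)))`
    have hQK := hnormalizes le_sup_left hKC.2.2.1 hKperf
    have hQc : Balance.core 2 K ≤ Balance.core 2 H := by
      rw [← Subgroup.map_subgroupOf_eq_of_le (le_sup_left : K ≤ H)]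
      exact (le_of_eq (Balance.core_map_subtype (p := 2) (K.subgroupOf H))).trans
        (Subgroup.map_mono (Balance.core_le_pCore_of_isSubnormal hKC.2.2.1))
    have hcomm : ⁅omegaZ H, K⁆ ≤ omegaZ K := by
      rw [Subgroup.commutator_le]
      intro v hv k hk
      obtain ⟨hvQ, -, -⟩ := mem_omegaZ.1 hv
      have hkN : k ∈ Subgroup.normalizer (omegaZ H : Set G) :=
        le_normalizer_omegaZ H (Subgroup.le_normalizer ((le_sup_left : K ≤ H) hk))
      have hw1 : ⁅v, k⁆ ∈ omegaZ H := by
        rw [commutatorElement_def, mul_assoc, mul_assoc]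
        refine mul_mem hv ?_
        rw [← mul_assoc]
        exact (Subgroup.mem_normalizer_iff.1 hkN _).1 (inv_mem hv)
      have hw2 : ⁅v, k⁆ ∈ K := by
        rw [commutatorElement_def]
        exact mul_mem ((Subgroup.mem_normalizer_iff.1 (hQK hvQ) k).1 hk) (inv_mem hk)
      have hHK : Balance.core 2 H ⊓ K ≤ Balance.core 2 K := Balance.le_core inf_le_right
        ((le_inf ((le_sup_left : K ≤ H).trans (Balance.le_normalizer_core H)) Subgroup.le_normalizer).trans
          Subgroup.inf_normalizer_le_normalizer_inf)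
        ((Balance.isPGroup_core H).to_le inf_le_left)
      obtain ⟨a, b, c⟩ := mem_omegaZ.1 hw1
      exact mem_omegaZ.2 ⟨hHK ⟨a, hw2⟩, fun r hr => b r (hQc hr), c⟩
    have h2 : ⁅⁅omegaZ H, K⁆, K⁆ = ⊥ := le_bot_iff.1 (hbot ▸ Subgroup.commutator_mono hcomm le_rfl)
    have h3 := Components.commutator_eq_bot_of_commutator_commutator (Subgroup.isPerfect_iff.mpr hKperf) h2
    exact le_bot_iff.1 ((Subgroup.commutator_mono hmono hLK).trans (le_of_eq (Components.commutator_eq_bot_symm h3)))
  refine ⟨part1, fun hmax => ⟨⟨hL.1, fun K hK hLK => hmax K (part1 K hK hLK) hLK⟩, hL.2⟩⟩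

end Cfsg.Agent.S1851
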