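import Cfsg.Statements.S1892
import Cfsg.Agent.Lib.Coprime.Quotient
import Cfsg.Agent.Lib.PCore.HallHigman
-- import your own Cfsg.Agent.* helpers here

set_option autoImplicit false
open Cfsg

namespace Cfsg.Agent.S1892

/-- Let S be a finite p-solvable group with no nontrivial normal subgroup of order prime to p, A a p-subgroup of S, and Q a nontrivial A-invariant subgroup of order prime to p with [A, Q] = Q. Then the commutator [O_p(S), A, Q] is nontrivial. -/
theorem result {S : Type*} [Group S] [Finite S] {p : ℕ} [Fact p.Prime]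
    (hS : Cfsg.IsPSolvable p S) (hred : Cfsg.pPrimeCore p S = ⊥)
    (A Q : Subgroup S) (hA : IsPGroup p A) (hQ : ¬ p ∣ Nat.card Q) (hQ1 : Q ≠ ⊥)
    (hinv : ∀ a ∈ A, ∀ x ∈ Q, a * x * a⁻¹ ∈ Q) (hAQ : ⁅A, Q⁆ = Q) :
    ⁅⁅Cfsg.pCore p S, A⁆, Q⁆ ≠ ⊥ := by
  set U := Cfsg.pCore p S with hU
  intro hbot
  set W := ⁅U, A⁆ with hW
  have hUp : IsPGroup p U := Cfsg.Agent.PCore.isPGroup_pCore
  have hUn : ∀ X : Subgroup S, X ≤ Subgroup.normalizer (U : Set S) := fun X => by
    rw [Subgroup.normalizer_eq_top]; exact le_top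
  have hWU : W ≤ U := Cfsg.Agent.Coprime.commutator_le_left_of_le_normalizer (hUn A)
  have hQW : Q ≤ Subgroup.centralizer (W : Set S) :=
    Cfsg.Agent.Coprime.le_centralizer_iff_commutator_eq_bot.2 hbot
  have hAW : A ≤ Subgroup.normalizer (W : Set S) := Subgroup.normalizer_commutator_ge_right U A
  have hUW : U ≤ Subgroup.normalizer (W : Set S) := Subgroup.normalizer_commutator_ge_left U A
  have hQWn : Q ≤ Subgroup.normalizer (W : Set S) := hQW.trans (Subgroup.centralizer_le_normalizer _)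
  -- the elements acting trivially on `U / W`
  let P : S → Prop := fun g => g ∈ Subgroup.normalizer (W : Set S) ∧ ∀ u ∈ U, g * u * g⁻¹ * u⁻¹ ∈ W
  have hmul : ∀ g h, P g → P h → P (g * h) := by
    rintro g h ⟨hg, hgU⟩ ⟨hh, hhU⟩
    refine ⟨mul_mem hg hh, fun u hu => ?_⟩
    have h1 := W.mul_mem ((Subgroup.mem_normalizer_iff.1 hg _).1 (hhU u hu)) (hgU u hu)
    convert h1 using 1
    group
  have hinv : ∀ g, P g → P g⁻¹ := by
    rintro g ⟨hg, hgU⟩
    refine ⟨inv_mem hg, fun u hu => ?_⟩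
    have h1 := (Subgroup.mem_normalizer_iff''.1 hg _).1 (W.inv_mem (hgU u hu))
    convert h1 using 1
    group
  have hPA : ∀ a ∈ A, P a := fun a ha => ⟨hAW ha, fun u hu => by
    have h1 := Subgroup.commutator_mem_commutator (G := S) ha hu
    rw [Subgroup.commutator_comm] at h1
    simpa [commutatorElement_def] using h1⟩
  have hconj : ∀ a ∈ A, ∀ q ∈ Q, P (q * a * q⁻¹) := by
    intro a ha q hq
    refine ⟨mul_mem (mul_mem (hQWn hq) (hAW ha)) (inv_mem (hQWn hq)), fun u hu => ?_⟩
    have hu' : q⁻¹ * u * q ∈ U := (Subgroup.mem_normalizer_iff''.1 (hUn Q hq) u).1 hu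
    have h1 := (Subgroup.mem_normalizer_iff.1 (hQWn hq) _).1 ((hPA a ha).2 _ hu')
    convert h1 using 1
    group
  have hP : ∀ g ∈ Q, P g := by
    intro g hg
    rw [← hAQ, Subgroup.commutator_def] at hg
    induction hg using Subgroup.closure_induction with
    | mem x hx =>
        obtain ⟨a, ha, q, hq, rfl⟩ := hx
        have h1 := hmul _ _ (hPA a ha) (hconj a⁻¹ (A.inv_mem ha) q hq)
        convert h1 using 1
        rw [commutatorElement_def]; group
    | one => exact ⟨one_mem _, fun u hu => by simp⟩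
    | mul x y _ _ hx hy => exact hmul x y hx hy
    | inv x _ hx => exact hinv x hx
  have hcomm : ⁅U, Q⁆ ≤ W := by
    rw [Subgroup.commutator_comm]
    exact Subgroup.commutator_le.2 fun q hq u hu => (hP q hq).2 u hu
  obtain ⟨e, he⟩ := hUp.exists_card_eq
  have hcop : (Nat.card Q).Coprime (Nat.card U) :=
    he ▸ ((((Fact.out : p.Prime).coprime_iff_not_dvd).2 hQ).symm.pow_right e)
  have : Group.IsNilpotent U := hUp.isNilpotent
  have hQU : Q ≤ Subgroup.centralizer (U : Set S) :=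
    Cfsg.Agent.Coprime.le_centralizer_of_series (hUn Q) hcop (Or.inr inferInstance) hcomm hQW
  refine hQ1 ((Subgroup.eq_bot_iff_forall _).2 fun x hx => ?_)
  have h2 : x ∈ Q ⊓ U := ⟨hx, Cfsg.Agent.PCore.centralizer_pCore_le hS hred (hQU hx)⟩
  rwa [Cfsg.Agent.Coprime.disjoint_of_coprime_card hcop, Subgroup.mem_bot] at h2

end Cfsg.Agent.S1892
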