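import Cfsg.Statements.S1893
import Cfsg.Agent.S1886
import Cfsg.Agent.Lib.Quadratic.Stability
import Cfsg.Agent.Lib.PCore.PSolvable
import Cfsg.Agent.Lib.Coprime.Commutator
import Cfsg.Agent.Lib.Coprime.Basic
import Cfsg.Agent.Lib.Subnormal.Nilpotent
import Mathlib.GroupTheory.SchurZassenhaus

set_option autoImplicit false
open Cfsg

namespace Cfsg.Agent.S1893

open scoped commutatorElement
open Subgroup

/-- The core argument: `F` nilpotent containing every `O_p(S)`, `A` self-centralizing normal in `F`. -/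
theorem mem_of_core {S : Type*} [Group S] [Finite S] [Group.IsSolvable S] (F A : Subgroup S)
    [Group.IsNilpotent F] (hA : Cfsg.IsSCN F A) (hF : ∀ p : ℕ, p.Prime → Cfsg.pCore p S ≤ F)
    {q : ℕ} [hq : Fact q.Prime] (hq5 : 5 ≤ q) {x : S} {j : ℕ} (hx : x ^ q ^ j = 1)
    (hxA : x ∈ centralizer (A : Set S)) : x ∈ A := by
  obtain ⟨hAF, hFA, hAc⟩ := hA
  have hcl : ∀ v ∈ F, v ∈ centralizer (A : Set S) → v ∈ A := fun v h1 h2 => hAc ▸ ⟨h1, h2⟩
  have hpn : ∀ p : ℕ, (Cfsg.pCore p S).Normal := fun p => Components.pCore_normal' p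
  -- `x` centralizes `O_p(S)` for `p ≠ q`
  have hother : ∀ p : ℕ, p.Prime → p ≠ q → x ∈ centralizer ((Cfsg.pCore p S : Subgroup S) : Set S) := by
    intro p hp hpq
    haveI := Fact.mk hp
    haveI := hpn p
    let P : Subgroup S :=
      { carrier := {a | a ∈ A ∧ ∃ k : ℕ, a ^ p ^ k = 1}
        one_mem' := ⟨one_mem A, 0, one_pow _⟩
        mul_mem' := by
          rintro a b ⟨ha, k, hk⟩ ⟨hb, l, hl⟩
          refine ⟨mul_mem ha hb, k + l, ?_⟩
          have hab : Commute a b := mem_centralizer_iff.1 ((hAc.ge.trans inf_le_right) hb) a ha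
          rw [hab.mul_pow, pow_add, pow_mul, hk, one_pow, one_mul, mul_comm, pow_mul, hl, one_pow]
        inv_mem' := by
          rintro a ⟨ha, k, hk⟩
          exact ⟨inv_mem ha, k, by rw [inv_pow, hk, inv_one]⟩ }
    have hPp : IsPGroup p P := fun ⟨a, _, k, hk⟩ => ⟨k, Subtype.ext (by rw [Subgroup.coe_pow]; exact hk)⟩
    have h := Coprime.le_centralizer_of_pq (Q := zpowers x) hPp ?_ (Components.isPGroup_pCore' p)
      ?_ (by rw [normalizer_eq_top]; exact le_top) (by rw [normalizer_eq_top]; exact le_top) ?_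
    · exact h (mem_zpowers x)
    · rw [Nat.card_zpowers]
      exact (((Nat.coprime_primes hq.out hp).2 (Ne.symm hpq)).pow_left j).coprime_dvd_left
        (orderOf_dvd_of_pow_eq_one hx)
    · intro a ha
      rw [zpowers_eq_closure, centralizer_closure, mem_centralizer_singleton_iff]
      exact mem_centralizer_iff.1 hxA a ha.1
    · intro v hv
      rw [zpowers_eq_closure, centralizer_closure, mem_centralizer_singleton_iff]
      have hvA : v ∈ A := by
        refine hcl v (hF p hp hv.1) (mem_centralizer_iff.2 fun a ha => ?_)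
        -- split `a` into a `p`-part and a `p'`-part inside `F`
        obtain ⟨n, m, hm, hn⟩ := Nat.exists_eq_pow_mul_and_not_dvd (orderOf_pos a).ne' p hp.ne_one
        obtain ⟨l, hl⟩ := (Components.isPGroup_pCore' (G := S) p) ⟨v, hv.1⟩
        have h1 : Commute (a ^ p ^ n) v := congrArg Subtype.val
          (Subnormal.commute_of_coprime (G := F) (u := ⟨v, hF p hp hv.1⟩) (y := ⟨a ^ p ^ n, pow_mem (hAF ha) _⟩)
            (k := l) (Subtype.ext (by simpa using congrArg Subtype.val hl)) (by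
              rw [← Subgroup.orderOf_coe]
              refine ((hp.coprime_iff_not_dvd).2 hm).symm.coprime_dvd_left (orderOf_dvd_of_pow_eq_one ?_)
              show (a ^ p ^ n) ^ m = 1
              rw [← pow_mul, ← hn, pow_orderOf_eq_one])).eq
        have h2 : Commute (a ^ m) v := mem_centralizer_iff.1 hv.2 (a ^ m) ⟨pow_mem ha m, n, by
          rw [← pow_mul, mul_comm, ← hn, pow_orderOf_eq_one]⟩
        have h3 : Int.gcd (p ^ n : ℕ) (m : ℕ) = 1 := by
          rw [Int.gcd_natCast_natCast]; exact ((hp.coprime_iff_not_dvd).2 hm).pow_left n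
        have hgcd := Int.gcd_eq_gcd_ab ((p ^ n : ℕ) : ℤ) (m : ℤ)
        rw [h3] at hgcd
        have e : a = (a ^ (p ^ n)) ^ Int.gcdA ((p ^ n : ℕ) : ℤ) m * (a ^ m) ^ Int.gcdB ((p ^ n : ℕ) : ℤ) m := by
          rw [← zpow_natCast a (p ^ n), ← zpow_natCast a m, ← zpow_mul, ← zpow_mul, ← zpow_add, ← hgcd]
          simp
        show a * v = v * a
        rw [e]
        exact (h1.zpow_left _).mul_left (h2.zpow_left _)
      exact (mem_centralizer_iff.1 hxA v hvA)
  -- quadratic action on `O_q(S)`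
  set V := Cfsg.pCore q S with hV
  haveI := hpn q
  haveI hVc : V.Normal := hpn q
  have hquad : ⁅⁅V, zpowers x⁆, zpowers x⁆ = ⊥ := by
    have hA1 : A ≤ centralizer ({x} : Set S) := fun a ha => mem_centralizer_singleton_iff.2
      (mem_centralizer_iff.1 hxA a ha)
    rw [← Coprime.le_centralizer_iff_commutator_eq_bot]
    refine zpowers_le.2 (centralizer_le (?_ : ⁅V, zpowers x⁆ ≤ A) hxA)
    refine commutator_le.2 fun v hv y hy => ?_
    have hyA : ∀ a ∈ A, Commute a y := fun a ha => by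
      obtain ⟨i, rfl⟩ := mem_zpowers_iff.1 hy
      exact (show Commute a x from mem_centralizer_singleton_iff.1 (hA1 ha)).zpow_right i
    have hvF : v ∈ F := hF q hq.out hv
    refine hcl _ (hF q hq.out ?_) (mem_centralizer_iff.2 fun a ha => ?_)
    · rw [show ⁅v, y⁆ = v * (y * v⁻¹ * y⁻¹) by rw [commutatorElement_def]; group]
      exact mul_mem hv (hVc.conj_mem _ (inv_mem hv) y)
    · have hw : v⁻¹ * a * v * a⁻¹ ∈ A :=
        mul_mem ((mem_normalizer_iff''.1 (hFA hvF) a).1 ha) (inv_mem ha)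
      have h1 : (v⁻¹ * a * v * a⁻¹) * y = y * (v⁻¹ * a * v * a⁻¹) := hyA _ hw
      have h2 : a * y * a⁻¹ = y := by rw [(hyA a ha).eq, mul_inv_cancel_right]
      rw [← mul_inv_eq_iff_eq_mul]
      calc a * ⁅v, y⁆ * a⁻¹ = (a * v * a⁻¹) * (a * y * a⁻¹) * (a * v * a⁻¹)⁻¹ * (a * y * a⁻¹)⁻¹ := by
            rw [commutatorElement_def]; group
        _ = v * ((v⁻¹ * a * v * a⁻¹) * y * (v⁻¹ * a * v * a⁻¹)⁻¹) * v⁻¹ * y⁻¹ := by rw [h2]; group
        _ = ⁅v, y⁆ := by rw [h1, mul_inv_cancel_right, commutatorElement_def]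
  -- `p`-stability on `V / Φ(V)`
  set Φ := (frattini V).map V.subtype with hΦ
  obtain ⟨D, hDn, hKD, ⟨k, hk⟩, hxD⟩ :=
    (Quadratic.isActionPStable_of_pSolvable (p := q) hq5 PCore.isPSolvable_of_isSolvable).2.1 x
      (by rw [hquad]; exact bot_le)
  set L := ⨅ p : {p : ℕ // p.Prime ∧ p ≠ q}, centralizer ((Cfsg.pCore p.1 S : Subgroup S) : Set S) with hL
  haveI : L.Normal := normal_iInf_normal fun p => by haveI := hpn p.1; infer_instance
  set M := D ⊓ L with hM
  haveI := hDn
  haveI : M.Normal := Subgroup.normal_inf_normal D L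
  have hxM : x ∈ M := ⟨hxD, mem_iInf.2 fun p => hother p.1 p.2.1 p.2.2⟩
  set T := ⨆ p : {p : ℕ // p.Prime ∧ p ≠ q}, Cfsg.pCore p.1 S with hT
  haveI : T.Normal := by
    haveI : ∀ p : {p : ℕ // p.Prime ∧ p ≠ q}, (Cfsg.pCore p.1 S).Normal := fun p => hpn p.1
    exact Subgroup.iSup_normal _
  have hFle : Cfsg.fittingSubgroup S ≤ T ⊔ V := by
    rw [Components.fittingSubgroup_eq_iSup_pCore]
    refine iSup_le fun p => ?_
    by_cases hpq : (p : ℕ) = q
    · rw [hpq]; exact le_sup_right
    · exact le_sup_of_le_left (le_iSup (fun p : {p : ℕ // p.Prime ∧ p ≠ q} => Cfsg.pCore p.1 S)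
        ⟨p, Nat.prime_of_mem_primeFactors p.2, hpq⟩)
  have hVp : IsPGroup q V := Components.isPGroup_pCore' q
  -- elements of order prime to `q` of `M` are central in `M`
  have hcentral : ∀ y ∈ M, (orderOf y).Coprime q → ∀ m ∈ M, m * y = y * m := by
    intro y hy hyq m hm
    have hsk : y ∈ Cfsg.sectionKernel V Φ := by
      haveI : ((Cfsg.sectionKernel V Φ).subgroupOf D).Normal := by
        haveI : (Cfsg.sectionKernel V Φ).Normal := by
          haveI : (V.map (QuotientGroup.mk' Φ)).Normal := Subgroup.Normal.map hVc _ (QuotientGroup.mk'_surjective Φ)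
          exact Subgroup.Normal.comap inferInstance _
        infer_instance
      have h1 : (⟨y, hy.1⟩ : D) ^ ((Cfsg.sectionKernel V Φ).subgroupOf D).index ∈
          (Cfsg.sectionKernel V Φ).subgroupOf D := Subgroup.pow_index_mem _ _
      rw [mem_subgroupOf, SubmonoidClass.coe_pow, show ((Cfsg.sectionKernel V Φ).subgroupOf D).index = q ^ k from hk] at h1
      obtain ⟨c, hc⟩ := exists_pow_eq_self_of_coprime (hyq.symm.pow_left k)
      rw [← hc]
      exact pow_mem h1 c
    have hyV : zpowers y ≤ centralizer (V : Set S) := by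
      refine Coprime.le_centralizer_of_frattini (by rw [normalizer_eq_top]; exact le_top) ?_ fun a ha v hv => ?_
      · obtain ⟨n, hn⟩ := IsPGroup.iff_card.1 (hVp.to_subgroup (frattini V))
        rw [Nat.card_zpowers, hn]
        exact hyq.pow_right n
      · have ha' : a ∈ Cfsg.sectionKernel V Φ := zpowers_le.2 hsk ha
        rw [← QuotientGroup.eq_one_iff]
        have h1 := mem_centralizer_iff.1 ha' _ (mem_map_of_mem (QuotientGroup.mk' Φ) hv)
        show QuotientGroup.mk' Φ (a * v * a⁻¹ * v⁻¹) = 1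
        rw [map_mul, map_mul, map_mul, map_inv, map_inv, ← h1, mul_inv_cancel_right, mul_inv_cancel]
    have hyF : y ∈ Cfsg.fittingSubgroup S := by
      apply Components.centralizer_fittingSubgroup_le
      have : Cfsg.fittingSubgroup S ≤ centralizer ({y} : Set S) := hFle.trans (sup_le (iSup_le fun p => ?_) ?_)
      · exact mem_centralizer_iff.2 fun f hf => mem_centralizer_singleton_iff.1 (this hf)
      · intro t ht
        exact mem_centralizer_singleton_iff.2 (mem_centralizer_iff.1 ((mem_iInf.1 hy.2) p) t ht)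
      · intro t ht
        exact mem_centralizer_singleton_iff.2 (mem_centralizer_iff.1 (hyV (mem_zpowers y)) t ht)
    obtain ⟨t, ht, v, hv, e⟩ := mem_sup_of_normal_left.1 (hFle hyF)
    have htm : T ≤ centralizer ({m} : Set S) := iSup_le fun p t ht =>
      mem_centralizer_singleton_iff.2 (mem_centralizer_iff.1 ((mem_iInf.1 hm.2) p) t ht)
    obtain ⟨c, hc⟩ := hVp ⟨v, hv⟩
    have hyv : Commute y v := (mem_centralizer_iff.1 (hyV (mem_zpowers y)) v hv).symm
    have hpow : y ^ q ^ c ∈ T := by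
      have et : t = y * v⁻¹ := by rw [← e, mul_inv_cancel_right]
      have : t ^ q ^ c = y ^ q ^ c := by
        rw [et, hyv.inv_right.mul_pow, inv_pow, show v ^ q ^ c = 1 from congrArg Subtype.val hc, inv_one, mul_one]
      exact this ▸ pow_mem ht _
    obtain ⟨d, hd⟩ := exists_pow_eq_self_of_coprime (hyq.symm.pow_left c)
    have hmy : Commute (y ^ q ^ c) m := mem_centralizer_singleton_iff.1 (htm hpow)
    have := hmy.pow_left d
    rw [hd] at this
    exact this.symm.eq
  haveI : Group.IsNilpotent M := by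
    refine Group.of_quotient_center_nilpotent (IsPGroup.isNilpotent (p := q) fun z => ?_)
    obtain ⟨g, rfl⟩ := QuotientGroup.mk'_surjective _ z
    obtain ⟨a, m, hm, hn⟩ := Nat.exists_eq_pow_mul_and_not_dvd (orderOf_pos g).ne' q hq.out.ne_one
    refine ⟨a, ?_⟩
    rw [← map_pow]
    refine (QuotientGroup.eq_one_iff _).2 (mem_center_iff.2 fun w => Subtype.ext ?_)
    refine hcentral _ (g ^ q ^ a).2 ?_ w w.2
    rw [Subgroup.orderOf_coe]
    refine ((hq.out.coprime_iff_not_dvd).2 hm).symm.coprime_dvd_left (orderOf_dvd_of_pow_eq_one ?_)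
    rw [← pow_mul, ← hn, pow_orderOf_eq_one]
  have hxF : x ∈ Cfsg.fittingSubgroup S := Components.le_fittingSubgroup (N := M) inferInstance hxM
  refine hcl x ?_ hxA
  rw [Components.fittingSubgroup_eq_iSup_pCore] at hxF
  exact (iSup_le (fun p => hF _ (Nat.prime_of_mem_primeFactors p.2)) :
    (⨆ p : (Nat.card S).primeFactors, Cfsg.pCore (p : ℕ) S) ≤ F) hxF

/-- Let S be a finite solvable group, π a set of primes containing neither 2 nor 3, H a Hall π-subgroup of S, and A a self-centralizing normal subgroup of the Fitting subgroup F(H). Then C_S(A) = A × D for a normal subgroup D of C_S(A) whose order has no prime divisor in π. -/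
theorem result {S : Type*} [Group S] [Finite S] [Group.IsSolvable S]
    (π : Set ℕ) (h2 : 2 ∉ π) (h3 : 3 ∉ π) (H : Subgroup S) (hH : Cfsg.IsPiHall π H)
    (A : Subgroup S) (hA : Cfsg.IsSCN ((Cfsg.fittingSubgroup H).map H.subtype) A) :
    ∃ D : Subgroup S, D ≤ Subgroup.centralizer (A : Set S) ∧
      (∀ c ∈ Subgroup.centralizer (A : Set S), ∀ d ∈ D, c * d * c⁻¹ ∈ D) ∧
      A ⊓ D = ⊥ ∧ A ⊔ D = Subgroup.centralizer (A : Set S) ∧
      ∀ q : ℕ, q.Prime → q ∣ Nat.card D → q ∉ π := by
  classical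
  set F := (Cfsg.fittingSubgroup H).map H.subtype with hFdef
  set M := Cfsg.piCore πᶜ S with hMdef
  let g := QuotientGroup.mk' M
  have hMπ : OddOrder.IsPiGrp πᶜ M := OddOrder.isPiGrp_piCore _ _
  have hcopHM : (Nat.card H).Coprime (Nat.card M) :=
    Nat.coprime_of_dvd fun r hr h1 h2 => hMπ r hr h2 (hH.1 r hr h1)
  have hinj : ∀ a ∈ H, g a = 1 → a = 1 := fun a ha h => by
    have h1 : a ∈ H ⊓ M := ⟨ha, (QuotientGroup.eq_one_iff a).1 h⟩
    rwa [Coprime.disjoint_of_coprime_card hcopHM, mem_bot] at h1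
  have hFH : F ≤ H := map_subtype_le _
  obtain ⟨hAF, hFA, hAc⟩ := hA
  have hAab : ∀ a ∈ A, ∀ b ∈ A, a * b = b * a := fun a ha b hb =>
    mem_centralizer_iff.1 ((hAc.ge.trans inf_le_right) hb) a ha
  haveI hFnil : Group.IsNilpotent F :=
    Group.nilpotent_of_surjective _ (MonoidHom.subgroupMap_surjective H.subtype (Cfsg.fittingSubgroup H))
  haveI : Group.IsNilpotent (F.map g) := Group.nilpotent_of_surjective _ (MonoidHom.subgroupMap_surjective g F)
  have hSCN : Cfsg.IsSCN (F.map g) (A.map g) := by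
    refine ⟨map_mono hAF, (map_mono hFA).trans (le_normalizer_map g), le_antisymm ?_ ?_⟩
    · rintro _ ⟨⟨f, hf, rfl⟩, hfc⟩
      refine mem_map_of_mem g ?_
      rw [← hAc]
      refine ⟨hf, mem_centralizer_iff.2 fun a ha => ?_⟩
      have h1 : g a * g f = g f * g a := mem_centralizer_iff.1 hfc _ (mem_map_of_mem g ha)
      rw [← commutatorElement_eq_one_iff_mul_comm] at h1 ⊢
      refine hinj _ ?_ (by rwa [map_commutatorElement])
      have ha' := hFH (hAF ha)
      exact mul_mem (mul_mem (mul_mem ha' (hFH hf)) (inv_mem ha')) (inv_mem (hFH hf))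
    · refine le_inf (map_mono hAF) ?_
      rintro _ ⟨a, ha, rfl⟩
      refine mem_centralizer_iff.2 ?_
      rintro _ ⟨b, hb, rfl⟩
      rw [← map_mul, ← map_mul, hAab b hb a ha]
  -- every `O_p` of the quotient lies in the image of `F`
  let φ : H →* S ⧸ M := g.comp H.subtype
  have hφ : Function.Injective φ := by
    rw [injective_iff_map_eq_one]
    exact fun a h => Subtype.ext (hinj a a.2 h)
  have hcoreF : ∀ p : ℕ, p.Prime → Cfsg.pCore p (S ⧸ M) ≤ F.map g := by
    intro p hp
    haveI := Fact.mk hp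
    haveI := Components.pCore_normal' (G := S ⧸ M) p
    set N := Cfsg.pCore p (S ⧸ M) with hN
    obtain ⟨n, hn⟩ := IsPGroup.iff_card.1 (Components.isPGroup_pCore' (G := S ⧸ M) p)
    have hNr : ∀ r : ℕ, r.Prime → r ∣ Nat.card N → r = p := fun r hr hd => by
      rw [hn] at hd
      exact (Nat.prime_dvd_prime_iff_eq hr hp).1 (hr.dvd_of_dvd_pow hd)
    by_cases hpπ : p ∈ π
    · -- `N` lies in the Hall subgroup
      set K := φ.range with hK
      have hKπ : ∀ r : ℕ, r.Prime → r ∣ Nat.card K → r ∈ π := fun r hr hd =>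
        hH.1 r hr (hd.trans (card_range_dvd φ))
      have hKi : ∀ r : ℕ, r.Prime → r ∈ π → ¬ r ∣ K.index := fun r hr hrπ hd => by
        refine hH.2 r hr hrπ (hd.trans ?_)
        have : K = H.map g := by rw [hK, MonoidHom.range_comp, range_subtype]
        rw [this]
        exact index_map_dvd H (QuotientGroup.mk'_surjective M)
      have hNK : N ≤ K := by
        by_contra hle
        have h1 : K.relIndex (K ⊔ N) ≠ 1 := fun h =>
          hle ((le_sup_right : N ≤ K ⊔ N).trans (relIndex_eq_one.1 h))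
        obtain ⟨r, hr, hd⟩ := Nat.exists_prime_and_dvd h1
        have hrπ : r ∈ π := by
          have h3 := PCore.card_sup_dvd N K
          rw [sup_comm N K, ← relIndex_bot_left (K ⊔ N), ← relIndex_mul_relIndex ⊥ K (K ⊔ N) bot_le le_sup_left,
            relIndex_bot_left, mul_comm (Nat.card N)] at h3
          have h2 : r ∣ Nat.card N := hd.trans (Nat.dvd_of_mul_dvd_mul_left Nat.card_pos h3)
          exact hNr r hr h2 ▸ hpπ
        refine hKi r hr hrπ (hd.trans ?_)
        rw [← relIndex_mul_index (le_sup_left : K ≤ K ⊔ N)]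
        exact Dvd.intro _ rfl
      haveI : (N.comap φ).Normal := Subgroup.Normal.comap inferInstance φ
      have h1 : N.comap φ ≤ Cfsg.fittingSubgroup H := by
        haveI : Group.IsNilpotent (N.comap φ) :=
          (IsPGroup.comap_of_injective (Components.isPGroup_pCore' p) φ hφ).isNilpotent
        exact Components.le_fittingSubgroup inferInstance
      have h2 : (N.comap φ).map φ = N := map_comap_eq_self hNK
      rw [← h2, hFdef, Subgroup.map_map]
      exact map_mono h1
    · have : N ≤ ⊥ := by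
        rw [← (S1886.result (X := S) πᶜ).1]
        exact le_sSup ⟨inferInstance, fun r hr hd => hNr r hr hd ▸ hpπ⟩
      exact this.trans bot_le
  -- `π`-elements of `C_S(A)` lie in `A`
  set C := centralizer (A : Set S) with hC
  have hAC : A ≤ C := fun a ha => mem_centralizer_iff.2 fun b hb => hAab b hb a ha
  have key : ∀ q : ℕ, q.Prime → q ∈ π → ∀ (x : S) (j : ℕ), x ^ q ^ j = 1 → x ∈ C → x ∈ A := by
    intro q hq hqπ x j hx hxC
    haveI := Fact.mk hq
    have hq5 : 5 ≤ q := by
      have h1 := hq.two_le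
      rcases (show q = 2 ∨ q = 3 ∨ q = 4 ∨ 5 ≤ q by omega) with h | h | h | h
      · exact absurd (h ▸ hqπ) h2
      · exact absurd (h ▸ hqπ) h3
      · exact absurd (h ▸ hq) (by norm_num)
      · exact h
    have hgx : g x ∈ A.map g := by
      refine mem_of_core (S := S ⧸ M) (F.map g) (A.map g) hSCN hcoreF hq5 (x := g x) (j := j)
        (by rw [← map_pow, hx, map_one]) (mem_centralizer_iff.2 ?_)
      rintro _ ⟨a, ha, rfl⟩
      rw [← map_mul, ← map_mul, mem_centralizer_iff.1 hxC a ha]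
    obtain ⟨a, ha, hga⟩ := hgx
    have hmM : a⁻¹ * x ∈ M := by
      rw [← QuotientGroup.eq]
      exact hga
    have hcm : Commute a⁻¹ x := (show Commute a x from mem_centralizer_iff.1 hxC a ha).inv_left
    have hpow : (a⁻¹ * x) ^ (Nat.card H * q ^ j) = 1 := by
      rw [hcm.mul_pow, mul_comm (Nat.card H) (q ^ j), pow_mul x, hx, one_pow, mul_one, mul_comm (q ^ j), pow_mul]
      have : a⁻¹ ^ Nat.card H = 1 := congrArg Subtype.val
        (pow_card_eq_one' (x := (⟨a⁻¹, inv_mem (hFH (hAF ha))⟩ : H)))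
      rw [this, one_pow]
    have hcop : (Nat.card H * q ^ j).Coprime (Nat.card M) :=
      Nat.Coprime.mul_left hcopHM (Nat.Coprime.pow_left j ((hq.coprime_iff_not_dvd).2 fun hd => hMπ q hq hd hqπ))
    have h1 : orderOf (a⁻¹ * x) = 1 := Nat.eq_one_of_dvd_coprimes hcop (orderOf_dvd_of_pow_eq_one hpow)
      (Subgroup.orderOf_dvd_natCard M hmM)
    rw [orderOf_eq_one_iff, inv_mul_eq_one] at h1
    exact h1 ▸ ha
  haveI hAn : (A.subgroupOf C).Normal := ⟨fun z hz w => by
    rw [mem_subgroupOf] at hz ⊢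
    have : (z : S) * w = w * z := mem_centralizer_iff.1 w.2 _ hz
    simp only [Subgroup.coe_mul, InvMemClass.coe_inv]
    rw [← this, mul_inv_cancel_right]
    exact hz⟩
  have hidx : ∀ r : ℕ, r.Prime → r ∈ π → ¬ r ∣ (A.subgroupOf C).index := by
    intro r hr hrπ hd
    haveI := Fact.mk hr
    obtain ⟨R⟩ : Nonempty (Sylow r C) := inferInstance
    refine R.not_dvd_index (hd.trans (index_dvd_of_le fun y hy => ?_))
    obtain ⟨j, hj⟩ := R.isPGroup' ⟨y, hy⟩
    exact key r hr hrπ y j (congrArg (fun z : (R : Subgroup C) => ((z : C) : S)) hj) y.2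
  have hcop : (Nat.card (A.subgroupOf C)).Coprime (A.subgroupOf C).index :=
    Nat.coprime_of_dvd fun r hr h1 h2 => hidx r hr
      (hH.1 r hr ((h1.trans (Coprime.card_subgroupOf hAC).dvd).trans (card_dvd_of_le (hAF.trans hFH)))) h2
  obtain ⟨K, hK⟩ := exists_right_complement'_of_coprime hcop
  refine ⟨K.map C.subtype, map_subtype_le _, ?_, ?_, ?_, ?_⟩
  · intro c hc d hd
    obtain ⟨k', hk', rfl⟩ := hd
    have hcmem : (⟨c, hc⟩ : C) ∈ A.subgroupOf C ⊔ K := by rw [hK.sup_eq_top]; exact mem_top _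
    obtain ⟨a, ha, k, hk, e⟩ := mem_sup_of_normal_left.1 hcmem
    refine ⟨k * k' * k⁻¹, mul_mem (mul_mem hk hk') (inv_mem hk), ?_⟩
    have hac : (a : S) * ((k * k' * k⁻¹ : C) : S) = ((k * k' * k⁻¹ : C) : S) * a :=
      mem_centralizer_iff.1 (k * k' * k⁻¹ : C).2 _ ha
    have hce : c = (a : S) * k := (congrArg Subtype.val e).symm
    show ((k * k' * k⁻¹ : C) : S) = c * (k' : S) * c⁻¹
    rw [hce]
    calc ((k * k' * k⁻¹ : C) : S) = (a : S) * ((k * k' * k⁻¹ : C) : S) * (a : S)⁻¹ := by
          rw [hac, mul_inv_cancel_right]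
      _ = (a : S) * k * k' * ((a : S) * k)⁻¹ := by
          simp only [Subgroup.coe_mul, InvMemClass.coe_inv]; group
  · rw [eq_bot_iff]
    rintro z ⟨hzA, w, hwK, rfl⟩
    have h1 : w ∈ A.subgroupOf C ⊓ K := ⟨hzA, hwK⟩
    rw [hK.disjoint.eq_bot, mem_bot] at h1
    rw [h1]
    exact one_mem _
  · calc A ⊔ K.map C.subtype = (A.subgroupOf C).map C.subtype ⊔ K.map C.subtype := by
          rw [map_subgroupOf_eq_of_le hAC]
      _ = C := by rw [← Subgroup.map_sup, hK.sup_eq_top, ← MonoidHom.range_eq_map, range_subtype]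
  · intro r hr hd hrπ
    rw [card_map_of_injective C.subtype_injective] at hd
    refine hidx r hr hrπ ?_
    rw [hK.symm.index_eq_card]
    exact hd

end Cfsg.Agent.S1893
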