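import Cfsg.Statements.S1894
import Cfsg.Agent.Lib.PGroup.SCN

set_option autoImplicit false
open Cfsg

namespace Cfsg.Agent.S1894

/-- Let P be a finite p-group, A a normal subgroup of P and B an abelian subgroup of A that is normal in P. Then some subgroup C of A containing B is normal in P and is self-centralizing and normal in A (C ∈ SCN(A)). -/
theorem result {P : Type*} [Group P] [Finite P] {p : ℕ} [Fact p.Prime] (hP : IsPGroup p P)
    (A : Subgroup P) [A.Normal] (B : Subgroup P) [B.Normal] (hBA : B ≤ A) (hB : IsMulCommutative B) :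
    ∃ C : Subgroup P, C.Normal ∧ B ≤ C ∧ Cfsg.IsSCN A C := by
  obtain ⟨C, hC⟩ := (Set.toFinite {C : Subgroup P |
    B ≤ C ∧ C ≤ A ∧ C.Normal ∧ IsMulCommutative C}).exists_maximal ⟨B, le_rfl, hBA, inferInstance, hB⟩
  obtain ⟨⟨hBC, hCA, hCn, hCab⟩, hmax⟩ := hC
  refine ⟨C, hCn, hBC, hCA, ?_, le_antisymm ?_ (le_inf hCA (PGroup.le_centralizer_of_isMulCommutative hCab))⟩
  · rw [Subgroup.normalizer_eq_top_iff.mpr hCn]; exact le_top
  by_contra hne
  have hlt : C < A ⊓ Subgroup.centralizer (C : Set P) :=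
    lt_of_le_not_ge (le_inf hCA (PGroup.le_centralizer_of_isMulCommutative hCab)) hne
  obtain ⟨L, hL, hCL, hLD, hcard⟩ := PGroup.exists_normal_step hP C _ hlt
  obtain ⟨x, hxL, hxC⟩ := SetLike.exists_of_lt hCL
  have heq : C ⊔ Subgroup.zpowers x = L := by
    refine Subgroup.eq_of_le_of_card_ge (sup_le hCL.le (Subgroup.zpowers_le.mpr hxL)) ?_
    rw [hcard, mul_comm]
    exact PGroup.mul_card_le_card hP (left_lt_sup.mpr fun h => hxC (h (Subgroup.mem_zpowers x)))
  have hLab : IsMulCommutative ↥L := heq ▸ PGroup.isMulCommutative_sup_zpowers hCab (hLD hxL).2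
  exact hCL.not_ge (hmax ⟨hBC.trans hCL.le, hLD.trans inf_le_left, hL, hLab⟩ hCL.le)

end Cfsg.Agent.S1894
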