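import Cfsg.Statements.S1895
import Cfsg.Agent.Lib.RankTwo.ChiefFactor

set_option autoImplicit false
set_option linter.style.haveILetI false
set_option maxHeartbeats 1600000
open Cfsg

namespace Cfsg.Agent.S1895

open Cfsg.Agent RankTwo
open Subgroup (centralizer normalizer zpowers)
open scoped commutatorElement

universe u

variable {p : ℕ} [Fact p.Prime]

section AutSmall

variable {A : Type u} [Group A]

/-- The automorphisms fixing `L` and `A / L` pointwise. -/
def stab (L : Subgroup A) : Subgroup (MulAut A) where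
  carrier := {σ | (∀ l ∈ L, σ l = l) ∧ ∀ a, a⁻¹ * σ a ∈ L}
  one_mem' := ⟨fun _ _ => rfl, fun a => by simp [one_mem]⟩
  mul_mem' := fun {σ τ} hσ hτ => ⟨fun l hl => by rw [MulAut.mul_apply, hτ.1 l hl, hσ.1 l hl],
    fun a => by
      rw [MulAut.mul_apply]
      have := L.mul_mem (hτ.2 a) (hσ.2 (τ a))
      simpa [mul_assoc] using this⟩
  inv_mem' := fun {σ} hσ => ⟨fun l hl => by
      have := congrArg σ.symm (hσ.1 l hl)
      simpa using this.symm,
    fun a => by
      have := L.inv_mem (hσ.2 (σ⁻¹ a))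
      simpa [MulAut.apply_inv_self] using this⟩

theorem stab_pow (L : Subgroup A) (hL : ∀ l ∈ L, l ^ p = 1) {σ : MulAut A} (hσ : σ ∈ stab L) :
    σ ^ p = 1 := by
  refine MulEquiv.ext fun a => ?_
  set l := a⁻¹ * σ a with hl
  have h1 : ∀ n : ℕ, (σ ^ n) a = a * l ^ n := by
    intro n
    induction n with
    | zero => simp
    | succ n ih =>
      rw [pow_succ', MulAut.mul_apply, ih, map_mul, map_pow, hσ.1 l (hσ.2 a),
        show σ a = a * l by rw [hl, mul_inv_cancel_left], mul_assoc, ← pow_succ']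
  rw [h1, hL l (hσ.2 a), mul_one, MulAut.one_apply]

theorem stab_conj (L : Subgroup A) {σ τ : MulAut A} (hσ : σ ∈ stab L)
    (hτ : ∀ l ∈ L, τ l ∈ L ∧ τ⁻¹ l ∈ L) : τ * σ * τ⁻¹ ∈ stab L := by
  refine ⟨fun l hl => ?_, fun a => ?_⟩
  · rw [MulAut.mul_apply, MulAut.mul_apply, hσ.1 _ (hτ l hl).2, MulAut.apply_inv_self]
  · have := (hτ _ (hσ.2 (τ⁻¹ a))).1
    rw [map_mul, map_inv, MulAut.apply_inv_self] at this
    rwa [MulAut.mul_apply, MulAut.mul_apply]

/-- An injective endomorphism of a group of order at most `p` is a power map. -/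
theorem exists_pow_of_card_le [Finite A] (hA : Nat.card A ≤ p) (hexp : ∀ a : A, a ^ p = 1)
    (σ : A →* A) (hσ : Function.Injective σ) :
    ∃ i : ℕ, (∀ a, σ a = a ^ i) ∧ ∀ a : A, a ^ i ^ (p - 1) = a := by
  by_cases h : ∀ a : A, a = 1
  · exact ⟨1, fun a => by rw [pow_one, h a, map_one], fun a => by rw [one_pow, pow_one]⟩
  push Not at h
  obtain ⟨w, hw⟩ := h
  have ho : orderOf w = p := orderOf_eq_prime (hexp w) hw
  have htop : zpowers w = ⊤ := Subgroup.eq_top_of_le_card _ (by rw [Nat.card_zpowers, ho]; exact hA)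
  have hall : ∀ a : A, ∃ n : ℕ, w ^ n = a := fun a => by
    have : a ∈ zpowers w := htop ▸ Subgroup.mem_top a
    rw [← mem_powers_iff_mem_zpowers] at this
    exact this
  obtain ⟨i, hi⟩ := hall (σ w)
  have hs : ∀ a, σ a = a ^ i := fun a => by
    obtain ⟨n, rfl⟩ := hall a
    rw [map_pow, ← hi, ← pow_mul, ← pow_mul, mul_comm]
  refine ⟨i, hs, fun a => ?_⟩
  have hi0 : (i : ZMod p) ≠ 0 := by
    rw [Ne, ZMod.natCast_eq_zero_iff]
    intro hd
    exact hw (hσ (by rw [hs, map_one]; obtain ⟨k, rfl⟩ := hd; rw [pow_mul, hexp, one_pow]))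
  have hmod : i ^ (p - 1) ≡ 1 [MOD p] := by
    rw [← ZMod.natCast_eq_natCast_iff]
    push_cast
    exact ZMod.pow_card_sub_one_eq_one hi0
  have := Nat.ModEq.of_dvd (orderOf_dvd_of_pow_eq_one (hexp a)) hmod
  rw [pow_eq_pow_iff_modEq.2 this, pow_one]

/-- Commutators and `(p - 1)`-th powers of automorphisms preserving `L` stabilize it. -/
theorem stab_of_preserving [Finite A] (hcomm : ∀ a b : A, a * b = b * a) (hexp : ∀ a : A, a ^ p = 1)
    (L : Subgroup A) (hL : Nat.card L ≤ p) (hL' : L.index ≤ p) (T : Subgroup (MulAut A))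
    (hT : ∀ σ ∈ T, ∀ l ∈ L, σ l ∈ L) :
    ∀ σ ∈ T, (∀ τ ∈ T, ⁅σ, τ⁆ ∈ stab L) ∧ σ ^ (p - 1) ∈ stab L := by
  haveI : L.Normal := ⟨fun l hl a => by rwa [hcomm a l, mul_inv_cancel_right]⟩
  have hsc : ∀ σ ∈ T, ∃ i j : ℕ, (∀ l ∈ L, σ l = l ^ i) ∧ (∀ l ∈ L, l ^ i ^ (p - 1) = l) ∧
      (∀ a : A, (QuotientGroup.mk (σ a) : A ⧸ L) = QuotientGroup.mk a ^ j) ∧
      ∀ q : A ⧸ L, q ^ j ^ (p - 1) = q := by
    intro σ hσ
    have hinvT : ∀ l ∈ L, σ⁻¹ l ∈ L := hT _ (inv_mem hσ)
    obtain ⟨i, hi, hi'⟩ := exists_pow_of_card_le (p := p) hL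
      (fun l => Subtype.ext (hexp l)) ((σ.toMonoidHom.comp L.subtype).codRestrict L fun l => hT σ hσ l l.2)
      (fun x y e => Subtype.ext (σ.injective (congrArg Subtype.val e)))
    obtain ⟨j, hj, hj'⟩ := exists_pow_of_card_le (p := p) (A := A ⧸ L)
      (by rwa [← Subgroup.index_eq_card])
      (fun q => by
        obtain ⟨a, rfl⟩ := QuotientGroup.mk'_surjective L q
        rw [← map_pow, hexp, map_one])
      (QuotientGroup.map L L σ.toMonoidHom fun l hl => hT σ hσ l hl)
      (by
        refine (injective_iff_map_eq_one _).2 fun q hq => ?_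
        obtain ⟨a, rfl⟩ := QuotientGroup.mk'_surjective L q
        have h1 : σ a ∈ L := (QuotientGroup.eq_one_iff _).1 hq
        exact (QuotientGroup.eq_one_iff _).2 (by simpa using hinvT _ h1))
    exact ⟨i, j, fun l hl => congrArg Subtype.val (hi ⟨l, hl⟩), fun l hl =>
      congrArg Subtype.val (hi' ⟨l, hl⟩), fun a => hj (QuotientGroup.mk a), hj'⟩
  have hmk : ∀ (a : A) (σ : MulAut A), (QuotientGroup.mk (σ a) : A ⧸ L) = QuotientGroup.mk a →
      a⁻¹ * σ a ∈ L := fun a σ e => QuotientGroup.eq.1 e.symm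
  intro σ hσ
  obtain ⟨i, j, hi, hi', hj, hj'⟩ := hsc σ hσ
  refine ⟨fun τ hτ => ?_, ?_⟩
  · obtain ⟨i2, j2, hi2, -, hj2, -⟩ := hsc τ hτ
    have hcl : ∀ l ∈ L, (σ * τ) l = (τ * σ) l := fun l hl => by
      rw [MulAut.mul_apply, MulAut.mul_apply, hi2 l hl, hi l hl, map_pow, map_pow, hi l hl, hi2 l hl,
        ← pow_mul, ← pow_mul, mul_comm]
    have hca : ∀ a : A, (QuotientGroup.mk ((σ * τ) a) : A ⧸ L) = QuotientGroup.mk ((τ * σ) a) :=
      fun a => by
        rw [MulAut.mul_apply, MulAut.mul_apply, hj, hj2, hj2, hj, ← pow_mul, ← pow_mul, mul_comm]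
    have e : ∀ a, ⁅σ, τ⁆ a = (σ * τ) ((τ * σ)⁻¹ a) := fun a => by
      rw [← MulAut.mul_apply, show ⁅σ, τ⁆ = σ * τ * (τ * σ)⁻¹ by rw [commutatorElement_def]; group]
    refine ⟨fun l hl => ?_, fun a => hmk _ _ ?_⟩
    · have hl' : (τ * σ)⁻¹ l ∈ L := hT _ (inv_mem (mul_mem hτ hσ)) l hl
      rw [e, hcl _ hl', MulAut.apply_inv_self]
    · rw [e, hca, MulAut.apply_inv_self]
  · have hn : ∀ n : ℕ, (∀ l ∈ L, (σ ^ n) l = l ^ i ^ n) ∧
        ∀ a : A, (QuotientGroup.mk ((σ ^ n) a) : A ⧸ L) = QuotientGroup.mk a ^ j ^ n := by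
      intro n
      induction n with
      | zero => simp
      | succ n ih =>
        refine ⟨fun l hl => ?_, fun a => ?_⟩
        · rw [pow_succ', MulAut.mul_apply, ih.1 l hl, map_pow, hi l hl, ← pow_mul, ← pow_succ']
        · rw [pow_succ', MulAut.mul_apply, hj, ih.2, ← pow_mul, ← pow_succ]
    exact ⟨fun l hl => by rw [(hn _).1 l hl, hi' l hl], fun a => hmk _ _ (by rw [(hn _).2, hj'])⟩

/-- A nontrivial `p`-group of automorphisms of a group of order at most `p ^ 2` has order `p` and fixes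
exactly a subgroup of order `p`. -/
theorem aut_pgroup [Finite A] (hexp : ∀ a : A, a ^ p = 1) (hA : Nat.card A ≤ p ^ 2)
    (P : Subgroup (MulAut A)) (hP : IsPGroup p P) (hne : P ≠ ⊥) :
    Nat.card P ≤ p ∧ ∃ L : Subgroup A, Nat.card L ≤ p ∧ L.index ≤ p ∧
      ∀ l, l ∈ L ↔ ∀ σ ∈ P, σ l = l := by
  classical
  haveI : Fintype A := Fintype.ofFinite A
  haveI : Finite (MulAut A) := Finite.of_injective _ DFunLike.coe_injective
  have hp1 := (Fact.out : p.Prime).one_lt
  haveI : Nontrivial A := by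
    by_contra hA'
    rw [not_nontrivial_iff_subsingleton] at hA'
    exact hne ((Subgroup.eq_bot_iff_forall _).2 fun σ _ => MulEquiv.ext fun a => Subsingleton.elim _ _)
  have hAp : IsPGroup p A := fun a => ⟨1, by rw [pow_one, hexp]⟩
  obtain ⟨m, hm⟩ := hAp.exists_card_eq
  let _ : MulAction P A := MulAction.compHom A P.subtype
  let L : Subgroup A :=
    { carrier := {a | ∀ σ ∈ P, σ a = a}
      one_mem' := fun σ _ => map_one σ
      mul_mem' := fun {a b} ha hb σ hσ => by rw [map_mul, ha σ hσ, hb σ hσ]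
      inv_mem' := fun {a} ha σ hσ => by rw [map_inv, ha σ hσ] }
  have hfix : MulAction.fixedPoints P A = (L : Set A) := by
    ext a
    exact ⟨fun h σ hσ => h ⟨σ, hσ⟩, fun h σ => h σ.1 σ.2⟩
  have hm0 : m ≠ 0 := by
    rintro rfl
    have := Finite.one_lt_card (α := A)
    rw [hm, pow_zero] at this
    exact lt_irrefl _ this
  have hdvd : p ∣ Nat.card L := by
    have h1 := hP.card_modEq_card_fixedPoints A
    rw [hfix] at h1
    have h2 : p ∣ Nat.card A := hm ▸ dvd_pow_self p hm0
    exact (Nat.modEq_zero_iff_dvd.1 ((h1.symm.trans (Nat.modEq_zero_iff_dvd.2 h2))))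
  have hLtop : L ≠ ⊤ := fun e => hne ((Subgroup.eq_bot_iff_forall _).2 fun σ hσ =>
    MulEquiv.ext fun a => (e ▸ Subgroup.mem_top a : a ∈ L) σ hσ)
  obtain ⟨v, -, hv⟩ := SetLike.exists_of_lt (lt_top_iff_ne_top.2 hLtop)
  have hlc := L.card_mul_index
  have hidx : 1 < L.index := by
    rcases Nat.lt_or_ge 1 L.index with h | h
    · exact h
    · exfalso
      have : L.index ≠ 0 := Subgroup.index_ne_zero_of_finite
      exact hLtop (Subgroup.index_eq_one.1 (by omega))
  have hip : p ∣ L.index := by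
    obtain ⟨k, hk⟩ := (Nat.dvd_prime_pow Fact.out).1 (hm ▸ L.index_dvd_card)
    rw [hk.2] at hidx ⊢
    exact dvd_pow_self p (by rintro rfl; simp at hidx)
  obtain ⟨c, hc⟩ := hdvd
  obtain ⟨d, hd⟩ := hip
  have hcd : p * p * (c * d) ≤ p * p * 1 := by
    calc p * p * (c * d) = Nat.card L * L.index := by rw [hc, hd]; ring
      _ ≤ p * p * 1 := by rw [hlc, mul_one, ← pow_two]; exact hA
  have hcd1 : c * d ≤ 1 := Nat.le_of_mul_le_mul_left hcd (by positivity)
  have hc0 : c ≠ 0 := by rintro rfl; simp at hc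
  have hd0 : d ≠ 0 := by rintro rfl; simp at hd; exact Subgroup.index_ne_zero_of_finite hd
  have hc1 : c = 1 := by nlinarith [Nat.pos_of_ne_zero hc0, Nat.pos_of_ne_zero hd0]
  have hd1 : d = 1 := by nlinarith [Nat.pos_of_ne_zero hc0, Nat.pos_of_ne_zero hd0]
  subst hc1 hd1
  rw [mul_one] at hc hd
  refine ⟨?_, L, hc.le, hd.le, fun l => Iff.rfl⟩
  -- the orbit of `v` is regular
  have hgen : L ⊔ zpowers v = ⊤ := by
    have hlt : L < L ⊔ zpowers v :=
      lt_of_le_of_ne le_sup_left fun e => hv (e ▸ Subgroup.mem_sup_right (Subgroup.mem_zpowers _))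
    have hco : IsCoatom L := PGroup.isCoatom_of_index_eq hd
    exact hco.2 _ hlt
  have hinj : ∀ σ ∈ P, σ v = v → σ = 1 := by
    intro σ hσ hσv
    refine MulEquiv.ext fun a => ?_
    have hle : L ⊔ zpowers v ≤ MonoidHom.eqLocus σ.toMonoidHom (MonoidHom.id A) :=
      sup_le (fun l hl => hl σ hσ) (Subgroup.zpowers_le.2 hσv)
    exact hle (hgen ▸ Subgroup.mem_top a)
  obtain ⟨k, hk⟩ := hP.exists_card_eq
  have hle : Nat.card P < Nat.card A := by
    rw [Nat.card_eq_fintype_card (α := A)]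
    have : Fintype P := Fintype.ofFinite P
    rw [Nat.card_eq_fintype_card]
    refine Fintype.card_lt_of_injective_of_notMem (fun σ : P => (σ : MulAut A) v)
      (fun σ τ e => Subtype.ext ?_) (b := 1) ?_
    · have h1 := hinj _ (mul_mem (inv_mem τ.2) σ.2) (by
        show ((τ : MulAut A)⁻¹ * σ) v = v
        simp only at e
        rw [MulAut.mul_apply, e, MulAut.inv_apply_self])
      exact (inv_mul_eq_one.1 h1).symm
    · rintro ⟨σ, e⟩
      have : v = 1 := (σ : MulAut A).injective (e.trans (map_one _).symm)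
      exact hv (this ▸ L.one_mem)
  have hk2 : p ^ k < p ^ 2 := hk ▸ hle.trans_le hA
  rw [hk]
  calc p ^ k ≤ p ^ 1 := Nat.pow_le_pow_right hp1.le (by
        have := (Nat.pow_lt_pow_iff_right hp1).1 hk2; omega)
    _ = p := pow_one p

end AutSmall

section Main

variable {G : Type u} [Group G] [Finite G]

/-- A normal subgroup of exponent `p`, class at most 2 in `O_p(G)`, moved by every `p'`-element. -/
theorem exists_test (h2 : p ≠ 2) (hC : centralizer (Cfsg.pCore p G : Set G) ≤ Cfsg.pCore p G) :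
    ∃ D : Subgroup G, D.Normal ∧ D ≤ Cfsg.pCore p G ∧ (∀ a ∈ D, a ^ p = 1) ∧
      (∀ a ∈ D, ∀ b ∈ D, ∀ c ∈ D, Commute ⁅a, b⁆ c) ∧
      ∀ g : G, (orderOf g).Coprime p → g ∈ centralizer (D : Set G) → g = 1 := by
  set Q := Cfsg.pCore p G with hQ
  have hQp : IsPGroup p Q := PCore.isPGroup_pCore
  obtain ⟨C, hCc, hΦ, hcomm, hcent⟩ := PGroup.exists_critical hQp
  haveI := hCc
  set C0 := C.map Q.subtype with hC0
  haveI : C0.Normal := ConjAct.normal_of_characteristic_of_normal
  have hC0Q : C0 ≤ Q := Subgroup.map_subtype_le _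
  have hcl : ∀ a ∈ C0, ∀ b ∈ C0, ∀ c ∈ C0, Commute ⁅a, b⁆ c := by
    rintro _ ⟨a, ha, rfl⟩ _ ⟨b, hb, rfl⟩ _ ⟨c, hc, rfl⟩
    have h1 := (hcomm (Subgroup.commutator_mem_commutator ha (Subgroup.mem_top b))).2
    have h3 := (Subgroup.mem_centralizer_iff.1 h1 c hc).symm
    rw [← map_commutatorElement]
    show Q.subtype ⁅a, b⁆ * Q.subtype c = Q.subtype c * Q.subtype ⁅a, b⁆
    rw [← map_mul, ← map_mul, h3]
  have hcom' : ∀ a ∈ C0, ∀ b ∈ C0, ∀ c ∈ C0, Commute (b⁻¹ * a⁻¹ * b * a) c := fun a ha b hb c hc => by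
    have := hcl b⁻¹ (inv_mem hb) a⁻¹ (inv_mem ha) c hc
    simpa [commutatorElement_def, mul_assoc] using this
  let D : Subgroup G :=
    { carrier := {x | x ∈ C0 ∧ x ^ p = 1}
      one_mem' := ⟨one_mem C0, one_pow p⟩
      mul_mem' := fun {a b} ha hb => ⟨mul_mem ha.1 hb.1, by
        rw [RankTwo.mul_pow_prime (Fact.out : p.Prime) h2 (hcom' a ha.1 b hb.1 a ha.1)
          (hcom' a ha.1 b hb.1 b hb.1) (by rw [hb.2]; exact Commute.one_left a), ha.2, hb.2, one_mul]⟩
      inv_mem' := fun {a} ha => ⟨inv_mem ha.1, by rw [inv_pow, ha.2, inv_one]⟩ }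
  refine ⟨D, ⟨fun x hx g => ⟨Subgroup.Normal.conj_mem inferInstance x hx.1 g, by
    rw [conj_pow, hx.2, mul_one, mul_inv_cancel]⟩⟩, fun x hx => hC0Q hx.1, fun a ha => ha.2,
    fun a ha b hb c hc => hcl a ha.1 b hb.1 c hc.1, fun g hg hgD => ?_⟩
  have hgC : zpowers g ≤ centralizer (C0 : Set G) := by
    refine Coprime.le_centralizer_of_fix_omega h2 C0 ⊥ (zpowers g) (hQp.to_le hC0Q) IsPGroup.of_bot
      (by rw [Nat.card_zpowers]; exact hg) bot_le (by rw [Subgroup.normalizer_eq_top]; exact le_top)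
      bot_le ?_
    intro x hx hxp
    refine Subgroup.mem_centralizer_iff.2 fun y hy => ?_
    obtain ⟨n, rfl⟩ := hy
    exact ((show Commute x g from Subgroup.mem_centralizer_iff.1 hgD x ⟨hx.1, hxp⟩).zpow_right n).eq.symm
  have hgQ : g ∈ Q := by
    refine hC (Subgroup.mem_centralizer_iff.2 fun q hq => ?_)
    have hz : g * q * g⁻¹ * q⁻¹ ∈ Q :=
      Q.mul_mem ((inferInstance : Q.Normal).conj_mem q hq g) (Q.inv_mem hq)
    have hzC : g * q * g⁻¹ * q⁻¹ ∈ C0 := by
      refine ⟨⟨_, hz⟩, hcent (Subgroup.mem_centralizer_iff.2 fun c hc => Subtype.ext ?_), rfl⟩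
      have hcC : (c : G) ∈ C0 := ⟨c, hc, rfl⟩
      have h4 := Subgroup.mem_centralizer_iff.1 (hgC (Subgroup.mem_zpowers g))
      set c' := q⁻¹ * (c : G) * q
      have hc' : c' ∈ C0 := by
        have := Subgroup.Normal.conj_mem (inferInstance : C0.Normal) _ hcC q⁻¹
        simpa [c'] using this
      show (c : G) * (g * q * g⁻¹ * q⁻¹) = g * q * g⁻¹ * q⁻¹ * c
      symm
      calc g * q * g⁻¹ * q⁻¹ * (c : G) = g * q * (g⁻¹ * (c' * g)) * g⁻¹ * q⁻¹ := by
            simp only [c']; group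
        _ = g * q * c' * g⁻¹ * q⁻¹ := by rw [h4 c' hc']; group
        _ = g * (c : G) * q * g⁻¹ * q⁻¹ := by simp only [c']; group
        _ = (c : G) * g * q * g⁻¹ * q⁻¹ := by rw [h4 c hcC]
        _ = _ := by group
    refine (Coprime.commute_of_translate (z := g * q * g⁻¹ * q⁻¹) (by group)
      ((show Commute _ g from Subgroup.mem_centralizer_iff.1 (hgC (Subgroup.mem_zpowers g)) _ hzC).symm)
      (subgroup_pow_coprime hQp hg hz)).eq.symm
  exact orderOf_eq_one_iff.1 (Nat.eq_one_of_dvd_coprimes (subgroup_pow_coprime hQp hg hgQ) dvd_rfl dvd_rfl)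

/-- The rank hypothesis, in the form used. -/
theorem card_le_of_pow (hr : Cfsg.PRankLE p 2 G) (A : Subgroup G) (hc : ∀ a ∈ A, ∀ b ∈ A, Commute a b)
    (he : ∀ a ∈ A, a ^ p = 1) : Nat.card A ≤ p ^ 2 :=
  hr A ⟨⟨fun a b => Subtype.ext (hc a a.2 b b.2)⟩⟩ he

/-- Chief factors when `C(O_p(G)) ≤ O_p(G)`. -/
theorem relIndex_le_of_constrained (h2 : p ≠ 2) (hr : Cfsg.PRankLE p 2 G)
    (hC : centralizer (Cfsg.pCore p G : Set G) ≤ Cfsg.pCore p G)
    {H K : Subgroup G} (hHK : Cfsg.IsChiefFactor H K) {n : ℕ} (hn : K.relIndex H = p ^ n) :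
    K.relIndex H ≤ p ^ 2 := by
  classical
  have hp1 := (Fact.out : p.Prime).one_lt
  obtain ⟨D, hDn, hDQ, hDexp, hDcl, hfaith⟩ := exists_test h2 hC
  haveI := hDn
  set Q := Cfsg.pCore p G with hQ
  have hQp : IsPGroup p Q := PCore.isPGroup_pCore
  set ZD := D ⊓ centralizer (D : Set G) with hZD
  have hZc : ∀ z ∈ ZD, ∀ d ∈ D, Commute z d := fun z hz d hd =>
    (Subgroup.mem_centralizer_iff.1 hz.2 d hd).symm
  -- the kernel `Z1` of the section
  obtain ⟨Z1, hZ1n, hZ1D, hcase, hcommZ⟩ : ∃ Z1 : Subgroup G, Z1.Normal ∧ Z1 ≤ D ∧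
      ((Z1 = ⊥ ∧ (∀ a ∈ D, ∀ b ∈ D, Commute a b)) ∨
        (Z1 = ZD ∧ Nat.card ZD = p ∧ ∃ a ∈ D, ∃ b ∈ D, ⁅a, b⁆ ≠ 1 ∧
          Z1.relIndex D ≤ p ^ 2 ∧ D ≤ ZD ⊔ zpowers a ⊔ zpowers b)) ∧
      ∀ a ∈ D, ∀ b ∈ D, ⁅a, b⁆ ∈ Z1 := by
    by_cases hab : ∀ a ∈ D, ∀ b ∈ D, Commute a b
    · exact ⟨⊥, inferInstance, bot_le, Or.inl ⟨rfl, hab⟩,
        fun a ha b hb => commutatorElement_eq_one_iff_mul_comm.2 (hab a ha b hb).eq⟩
    push Not at hab
    obtain ⟨a, ha, b, hb, hne⟩ := hab
    have hcm : ∀ x ∈ D, ∀ y ∈ D, ⁅x, y⁆ ∈ ZD := fun x hx y hy =>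
      ⟨D.mul_mem (D.mul_mem (D.mul_mem hx hy) (D.inv_mem hx)) (D.inv_mem hy),
        Subgroup.mem_centralizer_iff.2 fun c hc => (hDcl x hx y hy c hc).eq.symm⟩
    have hab1 : ⁅a, b⁆ ≠ 1 := fun e => hne (commutatorElement_eq_one_iff_mul_comm.1 e)
    have haZ : a ∉ ZD := fun h => hne (hZc a h b hb)
    have hcard : Nat.card ZD = p := by
      have h1 : Nat.card ↥(ZD ⊔ zpowers a) ≤ p ^ 2 := by
        refine card_le_of_pow hr _ ?_ fun x hx => hDexp x (sup_le inf_le_left (Subgroup.zpowers_le.2 ha) hx)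
        have : ZD ⊔ zpowers a ≤ centralizer ((ZD ⊔ zpowers a : Subgroup G) : Set G) := by
          rw [Subgroup.sup_eq_closure, Subgroup.centralizer_closure, Subgroup.closure_le]
          rintro x (hx | hx) y (hy | hy)
          · exact (hZc x hx y hy.1).eq.symm
          · exact (hZc x hx y (Subgroup.zpowers_le.2 ha hy)).eq.symm
          · exact (hZc y hy x (Subgroup.zpowers_le.2 ha hx)).eq
          · obtain ⟨i, rfl⟩ := hx
            obtain ⟨j, rfl⟩ := hy
            exact ((Commute.refl a).zpow_zpow j i).eq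
        exact fun x hx y hy => (Subgroup.mem_centralizer_iff.1 (this hx) y hy).symm
      have h2 := RankTwo.card_mul_prime_le_of_lt (p := p)
        (hQp.to_le (sup_le (inf_le_left.trans hDQ) (Subgroup.zpowers_le.2 (hDQ ha))))
        (left_lt_sup.2 fun h => haZ (h (Subgroup.mem_zpowers a)) : ZD < ZD ⊔ zpowers a)
      have h3 : p ≤ Nat.card ZD := by
        have := Subgroup.card_le_of_le (Subgroup.zpowers_le.2 (hcm a ha b hb))
        rwa [Nat.card_zpowers, orderOf_eq_prime (hDexp _ (hcm a ha b hb).1) hab1] at this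
      nlinarith [pow_two p]
    obtain ⟨z, hz, hz1⟩ : ∃ z ∈ ZD, z ≠ 1 := ⟨_, hcm a ha b hb, hab1⟩
    have haz : a ∉ zpowers z := fun h => haZ (Subgroup.zpowers_le.2 hz h)
    set S := ZD ⊔ zpowers a with hS
    have hSD : S ≤ D := sup_le inf_le_left (Subgroup.zpowers_le.2 ha)
    have hcS : ∀ d ∈ D, Commute d a → d ∈ S := by
      intro d hd hda
      have hd' := RankTwo.mem_closure_of_rank_two hr (hDexp z hz.1) (hDexp a ha) (hDexp d hd)
        (hZc z hz a ha) (hZc z hz d hd) hda.symm hz1 haz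
      refine (Subgroup.closure_le _).2 ?_ hd'
      rintro w (rfl | rfl)
      exacts [Subgroup.mem_sup_left hz, Subgroup.mem_sup_right (Subgroup.mem_zpowers _)]
    have hSidx : S.relIndex D ≤ p := by
      rw [Subgroup.relIndex, Subgroup.index_eq_card, ← hcard]
      refine Nat.card_le_card_of_injective
        (fun q => (⟨⁅((Quotient.out q : D) : G), a⁆, hcm _ (Quotient.out q).2 a ha⟩ : ZD)) ?_
      intro q q' e
      rw [← Quotient.out_eq q, ← Quotient.out_eq q']
      refine Quotient.sound (QuotientGroup.leftRel_apply.2 ?_)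
      rw [Subgroup.mem_subgroupOf]
      refine hcS _ (SetLike.coe_mem _) ?_
      have e' := congrArg (fun w : ZD => (w : G) * a) e
      simp only [commutatorElement_def, inv_mul_cancel_right] at e'
      have := congrArg (fun w => ((Quotient.out q : D) : G)⁻¹ * w * (Quotient.out q' : D)) e'
      simp only [mul_assoc, inv_mul_cancel, mul_one, inv_mul_cancel_left] at this
      show ((Quotient.out q : D) : G)⁻¹ * (Quotient.out q' : D) * a = a * (((Quotient.out q : D) : G)⁻¹ * _)
      rw [mul_assoc]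
      exact this.symm
    have hS2 : Nat.card S ≤ p ^ 2 :=
      card_le_of_pow hr _ (fun x hx y hy => by
        have : S ≤ centralizer (S : Set G) := by
          rw [hS, Subgroup.sup_eq_closure, Subgroup.centralizer_closure, Subgroup.closure_le]
          rintro x (hx | hx) y (hy | hy)
          · exact (hZc x hx y hy.1).eq.symm
          · exact (hZc x hx y (Subgroup.zpowers_le.2 ha hy)).eq.symm
          · exact (hZc y hy x (Subgroup.zpowers_le.2 ha hx)).eq
          · obtain ⟨i, rfl⟩ := hx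
            obtain ⟨j, rfl⟩ := hy
            exact ((Commute.refl a).zpow_zpow j i).eq
        exact (Subgroup.mem_centralizer_iff.1 (this hx) y hy).symm) fun x hx => hDexp x (hSD hx)
    have hD3 : Nat.card D ≤ p * p ^ 2 := by
      rw [← (S.subgroupOf D).card_mul_index, Nat.card_congr (Subgroup.subgroupOfEquivOfLe hSD).toEquiv,
        mul_comm]
      exact Nat.mul_le_mul hSidx hS2
    refine ⟨ZD, inferInstance, inf_le_left, Or.inr ⟨rfl, hcard, a, ha, b, hb, hab1, ?_, ?_⟩, hcm⟩
    · have h := Subgroup.card_mul_index (ZD.subgroupOf D)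
      rw [Nat.card_congr (Subgroup.subgroupOfEquivOfLe (inf_le_left : ZD ≤ D)).toEquiv, hcard] at h
      refine Nat.le_of_mul_le_mul_left (c := p) ?_ (Fact.out : p.Prime).pos
      rw [Subgroup.relIndex, h]
      exact hD3
    · have hbS : b ∉ S := fun h => hne (by
        have : S ≤ centralizer ({a} : Set G) := sup_le
          (fun w hw => Subgroup.mem_centralizer_singleton_iff.2 (hZc w hw a ha).eq)
          (Subgroup.zpowers_le.2 (Subgroup.mem_centralizer_singleton_iff.2 rfl))
        exact (Subgroup.mem_centralizer_singleton_iff.1 (this h)).symm)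
      have hle : S ⊔ zpowers b ≤ D := sup_le hSD (Subgroup.zpowers_le.2 hb)
      have h5 := RankTwo.card_mul_prime_le_of_lt (p := p) (hQp.to_le (hle.trans hDQ))
        (left_lt_sup.2 fun h => hbS (h (Subgroup.mem_zpowers b)) : S < S ⊔ zpowers b)
      have h6 : p * p ≤ Nat.card S := by
        have := RankTwo.card_mul_prime_le_of_lt (p := p) (hQp.to_le (hSD.trans hDQ))
          (left_lt_sup.2 fun h => haZ (h (Subgroup.mem_zpowers a)) : ZD < S)
        rwa [hcard] at this
      refine (Subgroup.eq_of_le_of_card_ge hle (hD3.trans ?_)).ge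
      calc p * p ^ 2 = p * p * p := by ring
        _ ≤ Nat.card S * p := Nat.mul_le_mul_right _ h6
        _ ≤ _ := h5
  haveI := hZ1n
  -- the section `V = D / Z1` and the action on it
  set π := QuotientGroup.mk' Z1 with hπ
  set V := D.map π with hV
  haveI : V.Normal := hDn.map _ (QuotientGroup.mk'_surjective Z1)
  have hVexp : ∀ v : V, v ^ p = 1 := fun v => by
    obtain ⟨d, hd, e⟩ := v.2
    exact Subtype.ext (by rw [SubmonoidClass.coe_pow, ← e, ← map_pow, hDexp d hd, map_one]; rfl)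
  have hVcomm : ∀ v w : V, v * w = w * v := fun v w => by
    obtain ⟨d, hd, e⟩ := v.2
    obtain ⟨d', hd', e'⟩ := w.2
    refine Subtype.ext ?_
    rw [Subgroup.coe_mul, Subgroup.coe_mul, ← e, ← e', ← commutatorElement_eq_one_iff_mul_comm,
      ← map_commutatorElement]
    exact (QuotientGroup.eq_one_iff _).2 (hcommZ d hd d' hd')
  have hVcard : Nat.card V = Z1.relIndex D := relIndex_eq_card_map.symm
  have hVle : Nat.card V ≤ p ^ 2 := by
    rcases hcase with ⟨e, hab⟩ | ⟨-, -, -, -, -, -, -, h, -⟩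
    · rw [hVcard, e, Subgroup.relIndex_bot_left]
      exact card_le_of_pow hr D hab hDexp
    · exact hVcard.trans_le h
  set ψ : G →* MulAut V := MulAut.conjNormal.comp π with hψ
  have hψapp : ∀ (g : G) (v : V), ((ψ g v : V) : G ⧸ Z1) = π g * v * (π g)⁻¹ := fun g v => rfl
  have hψ1 : ∀ g, ψ g = 1 → ∀ d ∈ D, g * d * g⁻¹ * d⁻¹ ∈ Z1 := by
    intro g hg d hd
    have h1 := hψapp g ⟨π d, Subgroup.mem_map_of_mem π hd⟩
    rw [hg, MulAut.one_apply] at h1
    rw [← QuotientGroup.eq_one_iff]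
    show π (g * d * g⁻¹ * d⁻¹) = 1
    rw [map_mul, map_mul, map_mul, map_inv, map_inv, ← h1, mul_inv_cancel]
  have hkerQ : ψ.ker ≤ Q := by
    refine PCore.le_pCore (PComplement.isPrimePow_orderOf_of_forall fun g hg hgo => hfaith g hgo ?_)
    have hfix : ∀ d ∈ D, ∀ z, g * d * g⁻¹ * d⁻¹ = z → Commute g z → Commute g d := by
      intro d hd z hz hgz
      exact Coprime.commute_of_translate (z := z) (by rw [← hz]; group) hgz (subgroup_pow_coprime hQp hgo
        (hz ▸ hDQ (D.mul_mem (hDn.conj_mem d hd g) (D.inv_mem hd))))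
    -- `g` centralizes `Z1`
    have hgZ : ∀ z ∈ Z1, Commute g z := by
      rcases hcase with ⟨e, -⟩ | ⟨e, hcard, a, ha, b, hb, hab1, -, -⟩
      · intro z hz
        rw [e, Subgroup.mem_bot] at hz
        rw [hz]
        exact Commute.one_right g
      · intro z hz
        have h1 := hψ1 g hg a ha
        have h2 := hψ1 g hg b hb
        rw [e] at h1 h2 hz
        have hconj : g * ⁅a, b⁆ * g⁻¹ = ⁅a, b⁆ := by
          set z1 := g * a * g⁻¹ * a⁻¹ with hz1
          set z2 := g * b * g⁻¹ * b⁻¹ with hz2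
          have e1 : g * ⁅a, b⁆ * g⁻¹ = ⁅z1 * a, z2 * b⁆ := by
            rw [hz1, hz2, inv_mul_cancel_right, inv_mul_cancel_right, commutatorElement_def,
              commutatorElement_def]
            group
          have hz1b := hZc z1 h1 b hb
          have hz1a := hZc z1 h1 a ha
          have hz2b := hZc z2 h2 b hb
          have hz2a := hZc z2 h2 a ha
          have hz12 := hZc z1 h1 z2 h2.1
          have hc : Commute z1 (a * (z2 * b) * a⁻¹) :=
            (hz1a.mul_right (hz12.mul_right hz1b)).mul_right hz1a.inv_right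
          rw [e1, commutatorElement_def, commutatorElement_def]
          calc z1 * a * (z2 * b) * (z1 * a)⁻¹ * (z2 * b)⁻¹
              = z1 * (a * (z2 * b) * a⁻¹) * z1⁻¹ * (b⁻¹ * z2⁻¹) := by group
            _ = a * z2 * (b * a⁻¹ * b⁻¹) * z2⁻¹ := by rw [hc.eq]; group
            _ = z2 * a * (b * a⁻¹ * b⁻¹) * z2⁻¹ := by rw [hz2a.eq]
            _ = z2 * (a * b * a⁻¹ * b⁻¹) * z2⁻¹ := by group
            _ = a * b * a⁻¹ * b⁻¹ := by
              rw [((hz2a.mul_right hz2b).mul_right hz2a.inv_right |>.mul_right hz2b.inv_right).eq]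
              group
        have hcm' : ⁅a, b⁆ ∈ ZD := e ▸ hcommZ a ha b hb
        obtain ⟨i, hi⟩ := mem_zpowers_of_prime_card hcard (g := (⟨_, hcm'⟩ : ZD))
          (fun e' => hab1 (congrArg Subtype.val e')) (g' := ⟨z, hz⟩)
        have hi' : ⁅a, b⁆ ^ i = z := congrArg Subtype.val hi
        rw [← hi']
        exact (show Commute g ⁅a, b⁆ from mul_inv_eq_iff_eq_mul.1 hconj).zpow_right i
    exact Subgroup.mem_centralizer_iff.2 fun d hd =>
      (hfix d hd _ rfl (hgZ _ (hψ1 g hg d hd))).eq.symm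
  have hkp : IsPGroup p ψ.ker := hQp.to_le hkerQ
  have hψQ : IsPGroup p (Q.map ψ) := hQp.map ψ
  haveI : Finite (MulAut V) := Finite.of_injective _ DFunLike.coe_injective
  have below : ∀ H K : Subgroup G, Cfsg.IsChiefFactor H K → H ≤ Q → K.relIndex H ≤ p ^ 2 := by
    clear hn hHK n H K
    intro H K hHK hHQ
    haveI := hHK.2.1
    haveI := hHK.2.2.1
    have hchief : ∀ X : Subgroup G, X.Normal → IsPGroup p X → ∀ x ∈ H, ∀ y ∈ X, ⁅y, x⁆ ∈ K := by
      intro X hX hXp x hx y hy
      haveI := hX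
      have h1 := ConjFun.commutator_le_of_isChiefFactor hHK (hQp.to_le hHQ) hXp
        (Subgroup.commutator_mem_commutator hx hy)
      rw [← commutatorElement_inv]
      exact K.inv_mem h1
    -- an `L` preserved by the group gives order `p`
    have hscalar : ∀ L : Subgroup V, Nat.card L ≤ p → L.index ≤ p →
        (∀ g, ∀ l ∈ L, ψ g l ∈ L) → K.relIndex H ≤ p ^ 2 := by
      intro L hL hL' hinv
      set S : Subgroup G := (stab L).comap ψ with hS
      haveI : S.Normal := ⟨fun s hs g => by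
        show ψ (g * s * g⁻¹) ∈ stab L
        rw [map_mul, map_mul, map_inv]
        refine stab_conj L hs fun l hl => ⟨hinv g l hl, ?_⟩
        rw [← map_inv]
        exact hinv g⁻¹ l hl⟩
      have hSp : IsPGroup p S := fun s => by
        obtain ⟨k, hk⟩ := hkp ⟨(s : G) ^ p, by
          rw [MonoidHom.mem_ker, map_pow]
          exact stab_pow L (fun l _ => hVexp l) s.2⟩
        exact ⟨k + 1, Subtype.ext (by
          rw [Subgroup.coe_pow, pow_succ', pow_mul]
          exact congrArg Subtype.val hk)⟩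
      have hst := stab_of_preserving (p := p) hVcomm hVexp L hL hL' ψ.range
        (by rintro _ ⟨g, rfl⟩ l hl; exact hinv g l hl)
      have h := relIndex_eq_of_abelian_exponent hHK (hQp.to_le hHQ)
        (fun g g' x hx => hchief S inferInstance hSp x hx _ (by
          show ψ ⁅g, g'⁆ ∈ stab L
          rw [map_commutatorElement]
          exact (hst _ ⟨g, rfl⟩).1 _ ⟨g', rfl⟩))
        (fun g x hx => hchief S inferInstance hSp x hx _ (by
          show ψ (g ^ (p - 1)) ∈ stab L
          rw [map_pow]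
          exact (hst _ ⟨g, rfl⟩).2))
      rw [h]
      nlinarith
    by_cases hQk : Q ≤ ψ.ker
    swap
    · -- `O_p(G)` moves the section: its fixed points are preserved
      have hne : Q.map ψ ≠ ⊥ := fun e => hQk ((Subgroup.map_eq_bot_iff _).1 e)
      obtain ⟨-, L, hL, hL', hLfix⟩ := aut_pgroup hVexp hVle _ hψQ hne
      refine hscalar L hL hL' fun g l hl => (hLfix _).2 ?_
      rintro _ ⟨q, hq, rfl⟩
      have h1 := (hLfix l).1 hl (ψ (g⁻¹ * q * g)) (Subgroup.mem_map_of_mem ψ (by
        simpa using (inferInstance : Q.Normal).conj_mem q hq g⁻¹))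
      rw [map_mul, map_mul, map_inv, MulAut.mul_apply, MulAut.mul_apply] at h1
      have := congrArg (ψ g) h1
      rwa [MulAut.apply_inv_self] at this
    have hQV : ∀ q ∈ Q, ∀ d ∈ D, q * d * q⁻¹ * d⁻¹ ∈ Z1 := fun q hq => hψ1 q (hQk hq)
    rcases hcase with ⟨e, hab⟩ | ⟨e, hcard, a, ha, b, hb, hab1, -, hgen⟩
    · by_cases hsmall : Nat.card V ≤ p
      · exact hscalar ⊤ (by rwa [Subgroup.card_top])
          (by rw [Subgroup.index_top]; exact (Fact.out : p.Prime).one_le) fun g l _ => Subgroup.mem_top _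
      have hcV : Nat.card V = Nat.card D := by rw [hVcard, e, Subgroup.relIndex_bot_left]
      have hD2 : p ^ 2 ≤ Nat.card D := by
        obtain ⟨k, hk⟩ := (hQp.to_le hDQ).exists_card_eq
        rw [hcV, hk] at hsmall
        have : 2 ≤ k := by
          by_contra h
          exact hsmall ((Nat.pow_le_pow_right hp1.le (show k ≤ 1 by omega)).trans (pow_one p).le)
        rw [hk]
        exact Nat.pow_le_pow_right hp1.le this
      have hDcen : ∀ q ∈ Q, ∀ d ∈ D, Commute q d := fun q hq d hd => by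
        have h1 := hQV q hq d hd
        rw [e, Subgroup.mem_bot] at h1
        rw [← commutatorElement_eq_one_iff_commute]
        exact h1
      have homega : ∀ x ∈ Q, x ^ p = 1 → x ∈ D := by
        intro x hx hxp
        by_contra hxD
        have hAc : D ⊔ zpowers x ≤ centralizer ((D ⊔ zpowers x : Subgroup G) : Set G) := by
          rw [Subgroup.sup_eq_closure, Subgroup.centralizer_closure, Subgroup.closure_le]
          rintro y (hy | hy) z (hz | hz)
          · exact (hab y hy z hz).eq.symm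
          · exact (hDcen z (Subgroup.zpowers_le.2 hx hz) y hy).eq
          · exact (hDcen y (Subgroup.zpowers_le.2 hx hy) z hz).eq.symm
          · obtain ⟨i, rfl⟩ := hy
            obtain ⟨j, rfl⟩ := hz
            exact ((Commute.refl x).zpow_zpow j i).eq
        have hcm : ∀ y ∈ D ⊔ zpowers x, ∀ z ∈ D ⊔ zpowers x, Commute y z := fun y hy z hz =>
          (Subgroup.mem_centralizer_iff.1 (hAc hy) z hz).symm
        have hbound := card_le_of_pow hr _ hcm fun y hy => by
          obtain ⟨d, hd, w, ⟨i, rfl⟩, rfl⟩ := Subgroup.mem_sup_of_normal_left.1 hy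
          rw [(hcm d (Subgroup.mem_sup_left hd) _ (Subgroup.mem_sup_right
            (Subgroup.mem_zpowers_iff.2 ⟨i, rfl⟩))).mul_pow, hDexp d hd, ← zpow_natCast, ← zpow_mul,
            mul_comm, zpow_mul, zpow_natCast, hxp, one_zpow, one_mul]
        have h1 := RankTwo.card_mul_prime_le_of_lt (p := p)
          (hQp.to_le (sup_le hDQ (Subgroup.zpowers_le.2 hx)))
          (left_lt_sup.2 fun h => hxD (h (Subgroup.mem_zpowers x)) : D < D ⊔ zpowers x)
        nlinarith [Nat.card_pos (α := D)]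
      refine relIndex_le_of_pCentral h2 _ G Q le_rfl hQp
        (fun d hd hdp q hq => (hDcen q hq d (homega d hd hdp)).symm) ?_ H K hHK hHQ
      refine le_trans (Nat.card_le_card_of_injective
        (fun x => (⟨x.1, homega _ x.2.1 x.2.2⟩ : D)) fun x y h => Subtype.ext (congrArg Subtype.val h :)) ?_
      rw [← hcV]
      exact hVle
    -- `O_p(G) = D C(D)` with a cyclic centralizer
    subst e
    set C := Q ⊓ centralizer (D : Set G) with hC'
    obtain ⟨z, hz, hz1⟩ : ∃ z ∈ ZD, z ≠ 1 := ⟨_, hcommZ a ha b hb, hab1⟩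
    have hCD : ∀ c ∈ C, ∀ d ∈ D, Commute c d := fun c hc d hd =>
      (Subgroup.mem_centralizer_iff.1 hc.2 d hd).symm
    have hCZ : ∀ c ∈ C, c ^ p = 1 → c ∈ ZD := by
      intro c hc hcp
      have haz : a ∉ zpowers z := fun h =>
        hab1 (commutatorElement_eq_one_iff_mul_comm.2 (hZc a (Subgroup.zpowers_le.2 hz h) b hb).eq)
      have hc' := RankTwo.mem_closure_of_rank_two hr (hDexp z hz.1) (hDexp a ha) hcp
        (hZc z hz a ha) (hCD c hc z hz.1).symm (hCD c hc a ha).symm hz1 haz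
      exact ⟨(Subgroup.closure_le D).2 (by rintro w (rfl | rfl); exacts [hz.1, ha]) hc', hc.2⟩
    haveI hCcyc : IsCyclic C := by
      refine RankTwo.isCyclic_of_card_pow_le h2 (hQp.to_le inf_le_left) ?_
      refine (Nat.card_le_card_of_injective (fun c => (⟨(c.1 : G), hCZ _ c.1.2
        (by simpa using congrArg Subtype.val c.2)⟩ : ZD)) fun x y h => ?_).trans hcard.le
      exact Subtype.ext (Subtype.ext (congrArg Subtype.val h :))
    rcases chief_cases hHK C with hc | hc
    · rw [relIndex_inf_eq hHK.1.le hc]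
      have hch := ConjFun.isChiefFactor_inf hHK hc
      haveI := hch.2.2.1
      rw [relIndex_eq_card_map]
      set W := (H ⊓ C).map (QuotientGroup.mk' (K ⊓ C)) with hW
      have hWc : IsCyclic W := by
        haveI : IsCyclic (H ⊓ C : Subgroup G) :=
          isCyclic_of_injective (Subgroup.inclusion inf_le_right) (Subgroup.inclusion_injective _)
        exact isCyclic_of_surjective ((QuotientGroup.mk' (K ⊓ C)).subgroupMap (H ⊓ C))
          ((QuotientGroup.mk' (K ⊓ C)).subgroupMap_surjective _)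
      obtain ⟨w, hw⟩ := hWc.exists_generator
      have hwp : w ^ p = 1 := by
        obtain ⟨x, hx, hxw⟩ := w.2
        refine Subtype.ext ?_
        rw [SubmonoidClass.coe_pow, ← hxw, ← map_pow]
        exact (QuotientGroup.eq_one_iff _).2
          (ConjFun.pow_mem_of_isChiefFactor hch (hQp.to_le (inf_le_left.trans hHQ)) hx)
      rw [← orderOf_eq_card_of_forall_mem_zpowers hw]
      exact le_trans (Nat.le_of_dvd (Fact.out : p.Prime).pos (orderOf_dvd_of_pow_eq_one hwp)) (by nlinarith)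
    · rw [relIndex_map_eq hHK.1.le hc]
      refine le_trans (Nat.le_of_dvd Nat.card_pos (Subgroup.relIndex_dvd_card ..)) ?_
      refine le_trans (Subgroup.card_le_of_le (Subgroup.map_mono hHQ)) ?_
      rw [← relIndex_eq_card_map, Subgroup.relIndex, Subgroup.index_eq_card]
      have hcd : ∀ q : Q, ⁅(q : G), a⁆ ∈ ZD ∧ ⁅(q : G), b⁆ ∈ ZD := fun q => ⟨hQV q q.2 a ha, hQV q q.2 b hb⟩
      refine le_trans (Nat.card_le_card_of_injective
        (fun x => ((⟨_, (hcd (Quotient.out x)).1⟩, ⟨_, (hcd (Quotient.out x)).2⟩) : ZD × ZD)) ?_) ?_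
      · intro x y h
        rw [← Quotient.out_eq x, ← Quotient.out_eq y]
        refine Quotient.sound (QuotientGroup.leftRel_apply.2 ?_)
        rw [Subgroup.mem_subgroupOf]
        set q := ((Quotient.out x : Q) : G)
        set q' := ((Quotient.out y : Q) : G)
        have key : ∀ w : G, ⁅q, w⁆ = ⁅q', w⁆ → Commute (q⁻¹ * q') w := by
          intro w hw
          simp only [commutatorElement_def, mul_left_inj] at hw
          calc q⁻¹ * q' * w = q⁻¹ * (q' * w * q'⁻¹) * q' := by group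
            _ = q⁻¹ * (q * w * q⁻¹) * q' := by rw [hw]
            _ = w * (q⁻¹ * q') := by group
        have hca := key a (congrArg (fun t : ZD × ZD => (t.1 : G)) h)
        have hcb := key b (congrArg (fun t : ZD × ZD => (t.2 : G)) h)
        have hcz : ∀ w ∈ ZD, Commute (q⁻¹ * q') w := by
          intro w hw
          obtain ⟨i, hi⟩ := mem_zpowers_of_prime_card hcard (g := (⟨_, hcommZ a ha b hb⟩ : ZD))
            (fun e' => hab1 (congrArg Subtype.val e')) (g' := ⟨w, hw⟩)
          rw [← show ⁅a, b⁆ ^ i = w from congrArg Subtype.val hi]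
          refine Commute.zpow_right ?_ i
          rw [commutatorElement_def]
          exact ((hca.mul_right hcb).mul_right hca.inv_right).mul_right hcb.inv_right
        refine ⟨Q.mul_mem (Q.inv_mem (Quotient.out x : Q).2) (Quotient.out y : Q).2, ?_⟩
        have hle : D ≤ centralizer ({q⁻¹ * q'} : Set G) := by
          refine hgen.trans (sup_le (sup_le (fun w hw => ?_) (Subgroup.zpowers_le.2 ?_))
            (Subgroup.zpowers_le.2 ?_))
          exacts [Subgroup.mem_centralizer_singleton_iff.2 (hcz w hw).symm.eq,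
            Subgroup.mem_centralizer_singleton_iff.2 hca.symm.eq,
            Subgroup.mem_centralizer_singleton_iff.2 hcb.symm.eq]
        exact Subgroup.mem_centralizer_iff.2 fun d hd => Subgroup.mem_centralizer_singleton_iff.1 (hle hd)
      · rw [Nat.card_prod, hcard, pow_two]
  haveI := hHK.2.1
  haveI := hHK.2.2.1
  rcases chief_cases hHK Q with hcov | havoid
  swap
  · -- above `O_p(G)`
    rw [hn]
    refine Nat.pow_le_pow_right hp1.le (le_trans ?_ one_le_two)
    by_contra hn1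
    have h1 : p ^ n ∣ Nat.card ψ.range := by
      have h2 : K.relIndex H ∣ Q.index := by
        rw [relIndex_map_eq hHK.1.le havoid, Subgroup.index_eq_card]
        exact (Subgroup.relIndex_dvd_card ..).trans (Subgroup.card_subgroup_dvd_card _)
      rw [← Subgroup.index_ker, ← hn]
      exact h2.trans (Subgroup.index_dvd_of_le hkerQ)
    obtain ⟨P, hP⟩ := Sylow.exists_subgroup_card_pow_prime (G := ψ.range) p
      ((pow_dvd_pow p (show 2 ≤ n by omega)).trans h1)
    have hP' : Nat.card (P.map ψ.range.subtype) = p ^ 2 := by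
      rw [Subgroup.card_map_of_injective ψ.range.subtype_injective, hP]
    have hPne : P.map ψ.range.subtype ≠ ⊥ := fun e => by
      rw [e, Subgroup.card_bot] at hP'
      nlinarith
    have := (aut_pgroup hVexp hVle _ (IsPGroup.of_card hP') hPne).1
    rw [hP'] at this
    nlinarith
  · -- below `O_p(G)`
    rw [relIndex_inf_eq hHK.1.le hcov]
    exact below _ _ (ConjFun.isChiefFactor_inf hHK hcov) inf_le_right

end Main

/-- Let p be an odd prime and G a finite p-solvable group with no elementary abelian subgroup of order p³. Then every chief factor H/K of G (H, K normal in G with no normal subgroup of G strictly between them) whose order is a power of p has order p or p². -/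
theorem result {G : Type*} [Group G] [Finite G] {p : ℕ} [Fact p.Prime] (hp : p ≠ 2)
    (hG : Cfsg.IsPSolvable p G) (hr : Cfsg.PRankLE p 2 G)
    (H K : Subgroup G) [H.Normal] [K.Normal] (hKH : K < H) (hpow : ∃ n : ℕ, K.relIndex H = p ^ n)
    (hchief : ∀ L : Subgroup G, L.Normal → K ≤ L → L ≤ H → L = K ∨ L = H) :
    K.relIndex H = p ∨ K.relIndex H = p ^ 2 := by
  classical
  set M := Cfsg.pPrimeCore p G
  set π := QuotientGroup.mk' M with hπ
  have hMc : (Nat.card M).Coprime p := PCore.coprime_card_pPrimeCore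
  obtain ⟨n, hn⟩ := hpow
  have hchief' : Cfsg.IsChiefFactor H K := ⟨hKH, inferInstance, inferInstance, hchief⟩
  have havoid : H ⊓ M ≤ K := by
    rcases chief_cases hchief' M with h | h
    · exfalso
      have h1 : K.relIndex H ∣ Nat.card M := by
        rw [relIndex_inf_eq hKH.le h]
        exact (Subgroup.relIndex_dvd_card ..).trans (Subgroup.card_dvd_of_le inf_le_right)
      have h2 : K.relIndex H = 1 := Nat.eq_one_of_dvd_coprimes
        (hMc.pow_right n) h1 (hn ▸ dvd_rfl)
      exact hKH.not_ge (Subgroup.relIndex_eq_one.1 h2)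
    · exact h
  have hrel := relIndex_map_eq (M := M) hKH.le havoid
  have hQ : centralizer (Cfsg.pCore p (G ⧸ M) : Set (G ⧸ M)) ≤ Cfsg.pCore p (G ⧸ M) :=
    PCore.centralizer_pCore_le (PCore.isPSolvable_quotient hG M) PCore.pPrimeCore_quotient_self_eq_bot
  have hr' : Cfsg.PRankLE p 2 (G ⧸ M) := by
    intro A hA hAexp
    have hAp : IsPGroup p A := fun a => ⟨1, Subtype.ext (by simpa using hAexp a a.2)⟩
    obtain ⟨P⟩ : Nonempty (Sylow p ↥(A.comap π)) := inferInstance
    set A0 := (P : Subgroup ↥(A.comap π)).map (A.comap π).subtype with hA0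
    have hA0p : IsPGroup p A0 := P.2.map _
    have hA0le : A0 ≤ A.comap π := Subgroup.map_subtype_le _
    have hinj : ∀ x ∈ A0, π x = 1 → x = 1 := fun x hx h =>
      Subgroup.disjoint_def.1 (PCore.disjoint_of_isPGroup_of_coprime hA0p hMc) hx
        ((QuotientGroup.eq_one_iff x).1 h)
    have hsurj : A0.map π = A := by
      let f : ↥(A.comap π) →* A := π.subgroupComap A
      have hf : Function.Surjective f := π.subgroupComap_surjective_of_surjective A
        (QuotientGroup.mk'_surjective M)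
      have htop : ((P.mapSurjective hf : Sylow p A) : Subgroup A) = ⊤ :=
        (P.mapSurjective hf).3 (hAp.to_subgroup ⊤) le_top |>.symm
      refine le_antisymm (Subgroup.map_le_iff_le_comap.2 hA0le) fun y hy => ?_
      obtain ⟨x, hx, hxy⟩ : (⟨y, hy⟩ : A) ∈ (P : Subgroup ↥(A.comap π)).map f := by
        rw [← Sylow.coe_mapSurjective hf, htop]
        trivial
      exact ⟨(x : G), ⟨x, hx, rfl⟩, congrArg Subtype.val hxy⟩
    have hmem : ∀ x ∈ A0, π x ∈ A := fun x hx => hA0le hx
    have hcard : Nat.card A0 = Nat.card A := by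
      let φ : A0 →* A := (π.comp A0.subtype).codRestrict A fun x => hmem x x.2
      have hi : Function.Injective φ := (injective_iff_map_eq_one _).2 fun x hx =>
        Subtype.ext (hinj x x.2 (congrArg Subtype.val hx))
      refine Nat.card_eq_of_bijective φ ⟨hi, fun y => ?_⟩
      obtain ⟨x, hx, hxy⟩ := hsurj.ge y.2
      exact ⟨⟨x, hx⟩, Subtype.ext hxy⟩
    rw [← hcard]
    refine hr A0 ⟨⟨fun x y => Subtype.ext ?_⟩⟩ fun x hx => hinj _ (A0.pow_mem hx p) ?_
    · show (x : G) * y = y * x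
      rw [← commutatorElement_eq_one_iff_mul_comm]
      refine hinj _ (A0.mul_mem (A0.mul_mem (A0.mul_mem x.2 y.2) (A0.inv_mem x.2)) (A0.inv_mem y.2)) ?_
      rw [map_commutatorElement, commutatorElement_eq_one_iff_mul_comm]
      exact congrArg Subtype.val (hA.is_comm.comm (⟨_, hmem x x.2⟩ : A) ⟨_, hmem y y.2⟩)
    · rw [map_pow]
      exact hAexp _ (hmem x hx)
  have hle : p ^ n ≤ p ^ 2 := by
    have h3 := relIndex_le_of_constrained hp hr' hQ (isChiefFactor_map hchief' havoid)
      (n := n) (hrel.symm.trans hn)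
    rwa [← hrel, hn] at h3
  have hn2 : n ≤ 2 := (Nat.pow_le_pow_iff_right (Fact.out : p.Prime).one_lt).1 hle
  have hn0 : n ≠ 0 := fun e => hKH.not_ge (Subgroup.relIndex_eq_one.1 (by rw [hn, e, pow_zero]))
  rcases (show n = 1 ∨ n = 2 by omega) with rfl | rfl
  · exact Or.inl (hn.trans (pow_one p))
  · exact Or.inr hn

end Cfsg.Agent.S1895
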