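import Cfsg.Statements.S1896
import Cfsg.Agent.Lib.PGroup.Frattini
import Cfsg.Agent.Lib.PGroup.Class2
import Cfsg.Agent.Lib.PGroup.CyclicMaximal
import Mathlib

set_option autoImplicit false
open Cfsg

namespace Cfsg.Agent.S1896

open scoped commutatorElement

/-- An automorphism of prime order `r ≠ 2` of a 2-group, trivial modulo `Φ`, is trivial. -/
theorem burnside {X : Type*} [Group X] [Finite X] (hX : IsPGroup 2 X) {r : ℕ} [hr : Fact r.Prime] (hr2 : r ≠ 2)
    {α : MulAut X} (hα : α ^ r = 1) (h : ∀ x, x⁻¹ * α x ∈ frattini X) : α = 1 := by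
  classical
  have := Fintype.ofFinite X
  let C : Subgroup X := { carrier := {x | α x = x}
                          one_mem' := map_one α
                          mul_mem' := fun {a b} (ha : α a = a) (hb : α b = b) => show α (a * b) = a * b by
                            rw [map_mul, ha, hb]
                          inv_mem' := fun {a} (ha : α a = a) => show α a⁻¹ = a⁻¹ by rw [map_inv, ha] }
  suffices hC : C = ⊤ by
    ext x
    exact (hC ▸ Subgroup.mem_top x : x ∈ C)
  refine frattini_nongenerating (eq_top_iff.2 fun x _ => ?_)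
  have hmem : ∀ y, x⁻¹ * y ∈ frattini X ↔ x⁻¹ * α y ∈ frattini X := fun y => by
    have e : x⁻¹ * α y = (x⁻¹ * y) * (y⁻¹ * α y) := by group
    rw [e, Subgroup.mul_mem_cancel_right _ (h y)]
  let S := {y : X // x⁻¹ * y ∈ frattini X}
  let σ : Equiv.Perm S := Equiv.Perm.subtypePerm (α.toEquiv : Equiv.Perm X) (fun y => (hmem y).symm)
  have hσ : σ ^ r ^ 1 = 1 := by
    rw [pow_one]
    have key : ∀ (m : ℕ) (y : S), ((σ ^ m) y : X) = (α ^ m) (y : X) := by
      intro m
      induction m with
      | zero => simp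
      | succ m ih => intro y; rw [pow_succ', pow_succ', MulAut.mul_apply, ← ih y]; rfl
    ext y
    rw [key, hα]
    rfl
  have hcard : ¬ r ∣ Fintype.card S := by
    rw [← Nat.card_eq_fintype_card, Nat.card_congr (Equiv.subtypeEquiv (Equiv.mulLeft x⁻¹) (fun y => Iff.rfl) :
      S ≃ frattini X)]
    obtain ⟨k, hk⟩ := IsPGroup.iff_card.1 (hX.to_subgroup (frattini X))
    rw [hk]
    exact fun hd => hr2 ((Nat.prime_dvd_prime_iff_eq hr.out Nat.prime_two).1 (hr.out.dvd_of_dvd_pow hd))
  obtain ⟨⟨y, hy⟩, hfix⟩ := Equiv.Perm.exists_fixed_point_of_prime hcard hσ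
  have hyC : y ∈ C := (congrArg Subtype.val hfix : α y = y)
  have e : x = y * (x⁻¹ * y)⁻¹ := by group
  rw [e]
  exact Subgroup.mul_mem_sup hyC (inv_mem hy)

/-- The displacements of a nontrivial odd prime order automorphism of a two-generator 2-group generate it. -/
theorem closure_displ {X : Type*} [Group X] [Finite X] (hX : IsPGroup 2 X) {r : ℕ} [hr : Fact r.Prime]
    (hr2 : r ≠ 2) {α : MulAut X} (hα : α ^ r = 1) (hne : α ≠ 1) {s t : X}
    (hgen : Subgroup.closure {s, t} = ⊤) :
    Subgroup.closure (Set.range fun x => x⁻¹ * α x) = ⊤ := by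
  classical
  by_contra hM
  obtain ⟨H, hH, hle⟩ := (eq_top_or_exists_le_coatom _).resolve_left hM
  have hd : ∀ x, x⁻¹ * α x ∈ H := fun x => hle (Subgroup.subset_closure ⟨x, rfl⟩)
  have hHn : H.Normal := PGroup.normal_of_isCoatom hX hH
  have hH2 : H.index = 2 := PGroup.index_of_isCoatom hX hH
  have hΦH : frattini X ≤ H := iInf₂_le H hH
  have hi : (frattini X).index ≤ 4 := by
    have h1 := PGroup.card_closure_sup_frattini_le hX ({s, t} : Finset X)
    have h2 : (({s, t} : Finset X).card) ≤ 2 := Finset.card_le_two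
    rw [show ((({s, t} : Finset X)) : Set X) = {s, t} by simp, hgen, top_sup_eq, Subgroup.card_top,
      ← Subgroup.card_mul_index (frattini X)] at h1
    have h3 := Nat.le_of_mul_le_mul_left h1 Nat.card_pos
    exact h3.trans (Nat.pow_le_pow_right (by norm_num) h2)
  have hrel : (frattini X).relIndex H ≤ 2 := by
    have := Subgroup.relIndex_mul_index hΦH
    rw [hH2] at this
    omega
  have hHΦ : ∀ a ∈ H, ∀ b ∈ H, a ∉ frattini X → b ∉ frattini X → a⁻¹ * b ∈ frattini X := by
    intro a ha b hb ha' hb'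
    have h2 : ((frattini X).subgroupOf H).index = 2 := by
      have h1 : (frattini X).relIndex H ≠ 1 := fun h => ha' (Subgroup.relIndex_eq_one.1 h ha)
      have h0 : (frattini X).relIndex H ≠ 0 := Subgroup.index_ne_zero_of_finite
      show (frattini X).relIndex H = 2
      omega
    have := (Subgroup.mul_mem_iff_of_index_two h2 (a := ⟨a⁻¹, inv_mem ha⟩) (b := ⟨b, hb⟩)).2
      (iff_of_false (fun h => ha' ((inv_mem_iff (H := frattini X)).1 (Subgroup.mem_subgroupOf.1 h)))
        (fun h => hb' (Subgroup.mem_subgroupOf.1 h)))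
    exact this
  have hchar : ∀ x, α x ∈ frattini X ↔ x ∈ frattini X := fun x => by
    have := Subgroup.characteristic_iff_comap_eq.1 (inferInstance : (frattini X).Characteristic) α
    exact (SetLike.ext_iff.1 this x)
  have hfixH : ∀ x ∈ H, x⁻¹ * α x ∈ frattini X := by
    intro x hx
    by_cases hxΦ : x ∈ frattini X
    · exact mul_mem (inv_mem hxΦ) ((hchar x).2 hxΦ)
    · refine hHΦ x hx _ ?_ hxΦ (fun h => hxΦ ((hchar x).1 h))
      have := mul_mem hx (hd x)
      rwa [mul_inv_cancel_left] at this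
  let g := QuotientGroup.mk' (frattini X)
  have hg : ∀ a b, g a = g b ↔ a⁻¹ * b ∈ frattini X := fun a b => QuotientGroup.eq
  have h2 : ∀ x, g (α (α x)) = g x := by
    intro x
    have e : α (α x) = α x * α (x⁻¹ * α x) := by rw [← map_mul, mul_inv_cancel_left]
    have e1 : g (α (x⁻¹ * α x)) = g (x⁻¹ * α x) := ((hg _ _).2 (hfixH _ (hd x))).symm
    rw [e, map_mul, e1, ← map_mul]
    refine ((hg _ _).2 ?_).symm
    have e2 : x⁻¹ * (α x * (x⁻¹ * α x)) = (x⁻¹ * α x) ^ 2 := by rw [pow_two]; group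
    rw [e2]
    exact PGroup.pow_mem_frattini hX _
  obtain ⟨k, hk⟩ := hr.out.odd_of_ne_two hr2
  have hev : ∀ (m : ℕ) (x : X), g ((α ^ (2 * m)) x) = g x := by
    intro m
    induction m with
    | zero => simp
    | succ m ih =>
      intro x
      rw [show 2 * (m + 1) = 2 + 2 * m by ring, pow_add, MulAut.mul_apply, pow_two, MulAut.mul_apply, h2, ih]
  refine hne (burnside hX hr2 hα fun x => (hg _ _).1 ?_)
  rw [← hev k (α x), ← MulAut.mul_apply, ← pow_succ, ← hk, hα, MulAut.one_apply]

/-- A map to a group invariant under such an automorphism and multiplicative is trivial. -/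
theorem trivial_of_invariant {X A : Type*} [Group X] [Group A] {α : MulAut X}
    (hD : Subgroup.closure (Set.range fun x => x⁻¹ * α x) = ⊤) (f : X →* A) (hf : ∀ x, f (α x) = f x)
    (x : X) : f x = 1 := by
  have h : Subgroup.closure (Set.range fun x => x⁻¹ * α x) ≤ f.ker := by
    rw [Subgroup.closure_le]
    rintro _ ⟨y, rfl⟩
    rw [SetLike.mem_coe, MonoidHom.mem_ker, map_mul, map_inv, hf, inv_mul_cancel]
  exact h (hD ▸ Subgroup.mem_top x)

/-- The abelian case: homocyclic of rank two. -/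
theorem abelian_case {X : Type*} [Group X] [Finite X] (hX : IsPGroup 2 X) (hc : ∀ a b : X, a * b = b * a)
    {α : MulAut X} (hD : Subgroup.closure (Set.range fun x => x⁻¹ * α x) = ⊤) {s t : X}
    (hst : ∀ g : X, ∃ i j : ℤ, g = t ^ j * s ^ i) :
    ∃ n : ℕ, Nat.card X = 2 ^ n * 2 ^ n ∧ (∀ g : X, g ^ 2 ^ n = 1) ∧
      Nonempty (X ≃* Multiplicative (ZMod (2 ^ n)) × Multiplicative (ZMod (2 ^ n))) := by
  letI : CommGroup X := { (inferInstance : Group X) with mul_comm := hc }
  obtain ⟨a, ha⟩ := hX.exists_orderOf_eq_pow s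
  obtain ⟨b, hb⟩ := hX.exists_orderOf_eq_pow t
  set n := max a b with hn
  have hsn : s ^ 2 ^ n = 1 := orderOf_dvd_iff_pow_eq_one.1 (ha ▸ pow_dvd_pow 2 (le_max_left a b))
  have htn : t ^ 2 ^ n = 1 := orderOf_dvd_iff_pow_eq_one.1 (hb ▸ pow_dvd_pow 2 (le_max_right a b))
  have hexp : ∀ g : X, g ^ 2 ^ n = 1 := by
    intro g
    obtain ⟨i, j, rfl⟩ := hst g
    rw [mul_pow, ← zpow_natCast (t ^ j), ← zpow_natCast (s ^ i), ← zpow_mul, ← zpow_mul, mul_comm j,
      mul_comm i, zpow_mul, zpow_mul, zpow_natCast, zpow_natCast, htn, hsn, one_zpow, one_zpow, one_mul]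
  have hcs : ∀ z : X, Nat.card (Subgroup.zpowers z) = orderOf z := Nat.card_zpowers
  have finish : orderOf s = 2 ^ n → orderOf t = 2 ^ n → Subgroup.zpowers s ⊓ Subgroup.zpowers t = ⊥ →
      Nat.card X = 2 ^ n * 2 ^ n ∧
      Nonempty (X ≃* Multiplicative (ZMod (2 ^ n)) × Multiplicative (ZMod (2 ^ n))) := by
    intro hs ht hd
    let φ : Subgroup.zpowers s × Subgroup.zpowers t →* X :=
      (Subgroup.zpowers s).subtype.noncommCoprod (Subgroup.zpowers t).subtype (fun _ _ => hc _ _)
    have hφ : Function.Bijective φ := by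
      constructor
      · rw [injective_iff_map_eq_one]
        rintro ⟨⟨u, hu⟩, ⟨v, hv⟩⟩ (h : u * v = 1)
        have hu1 : u = 1 := by
          have : u ∈ Subgroup.zpowers s ⊓ Subgroup.zpowers t :=
            ⟨hu, (eq_inv_of_mul_eq_one_left h).symm ▸ (Subgroup.zpowers t).inv_mem hv⟩
          rwa [hd, Subgroup.mem_bot] at this
        subst hu1
        rw [one_mul] at h
        subst h
        rfl
      · intro g
        obtain ⟨i, j, rfl⟩ := hst g
        exact ⟨⟨⟨_, Subgroup.zpow_mem_zpowers s i⟩, ⟨_, Subgroup.zpow_mem_zpowers t j⟩⟩, hc _ _⟩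
    refine ⟨?_, ⟨(MulEquiv.ofBijective φ hφ).symm.trans (MulEquiv.prodCongr ?_ ?_)⟩⟩
    · rw [← Nat.card_congr (Equiv.ofBijective φ hφ), Nat.card_prod, hcs, hcs, hs, ht]
    · refine mulEquivOfCyclicCardEq ?_
      rw [hcs, hs]; exact (Nat.card_zmod _).symm
    · refine mulEquivOfCyclicCardEq ?_
      rw [hcs, ht]; exact (Nat.card_zmod _).symm
  rcases Nat.eq_zero_or_pos n with h0 | hpos
  · refine ⟨n, (finish ?_ ?_ ?_).1, hexp, (finish ?_ ?_ ?_).2⟩
    all_goals first
      | (rw [h0, pow_zero, orderOf_eq_one_iff]; rw [h0, pow_zero, pow_one] at hsn; exact hsn)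
      | (rw [h0, pow_zero, orderOf_eq_one_iff]; rw [h0, pow_zero, pow_one] at htn; exact htn)
      | (rw [eq_bot_iff]; intro z _; have := hexp z; rw [h0, pow_zero, pow_one] at this; exact this)
  obtain ⟨m, hm⟩ : ∃ m, n = m + 1 := ⟨n - 1, by omega⟩
  let ψ : X →* X := powMonoidHom (2 ^ m)
  have hsq : ∀ g, ψ g * ψ g = 1 := fun g => by
    show g ^ 2 ^ m * g ^ 2 ^ m = 1
    rw [← pow_add, ← two_mul, ← pow_succ', ← hm, hexp]
  have himg : ∀ z : X, z ≠ 1 → (∃ w, ψ w = z) → (∀ g, ψ g = 1 ∨ ψ g = z) → False := by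
    rintro z hz ⟨w, hw⟩ hall
    have hfix : α z = z := by
      rw [← hw]
      rcases hall (α w) with h | h
      · exfalso
        have h' : α (ψ w) = 1 := by rw [← h]; exact map_pow α w _
        exact hz (hw ▸ (map_eq_one_iff α (MulEquiv.injective α)).1 h')
      · rw [hw]
        exact (congrArg α hw).symm.trans ((map_pow α w _).trans h)
    refine hz (hw ▸ trivial_of_invariant hD ψ (fun g => ?_) w)
    have e : ψ (α g) = α (ψ g) := (map_pow α g _).symm
    rcases hall g with h | h <;> rw [e, h]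
    · exact map_one α
    · exact hfix
  have hdec : ∀ g, ∃ i j : ℤ, ψ g = ψ t ^ j * ψ s ^ i := fun g => by
    obtain ⟨i, j, rfl⟩ := hst g
    exact ⟨i, j, by rw [map_mul, map_zpow, map_zpow]⟩
  have hz2 : ∀ (z : X), z * z = 1 → ∀ i : ℤ, z ^ i = 1 ∨ z ^ i = z := fun z hz i => by
    rcases Int.even_or_odd i with ⟨u, rfl⟩ | ⟨u, rfl⟩
    · left; rw [zpow_add, ← mul_zpow, hz, one_zpow]
    · right; rw [zpow_add_one, two_mul, zpow_add, ← mul_zpow, hz, one_zpow, one_mul]
  have hord : ∀ z : X, ψ z ≠ 1 → orderOf z = 2 ^ n := fun z h => by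
    rw [hm]; exact orderOf_eq_prime_pow h (hm ▸ hexp z)
  have hzs : ψ s ≠ 1 := by
    intro h1
    by_cases h2 : ψ t = 1
    · have key : ∀ z, orderOf z ∣ 2 ^ m ↔ ψ z = 1 := fun z => orderOf_dvd_iff_pow_eq_one
      have ha' := (key s).2 h1
      have hb' := (key t).2 h2
      rw [ha, Nat.pow_dvd_pow_iff_le_right (by norm_num)] at ha'
      rw [hb, Nat.pow_dvd_pow_iff_le_right (by norm_num)] at hb'
      omega
    · refine himg (ψ t) h2 ⟨t, rfl⟩ fun g => ?_
      obtain ⟨i, j, h⟩ := hdec g
      rw [h, h1, one_zpow, mul_one]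
      exact hz2 _ (hsq t) j
  have hzt : ψ t ≠ 1 := by
    intro h1
    refine himg (ψ s) hzs ⟨s, rfl⟩ fun g => ?_
    obtain ⟨i, j, h⟩ := hdec g
    rw [h, h1, one_zpow, one_mul]
    exact hz2 _ (hsq s) i
  have hne : ψ s ≠ ψ t := by
    intro h1
    refine himg (ψ s) hzs ⟨s, rfl⟩ fun g => ?_
    obtain ⟨i, j, h⟩ := hdec g
    rw [h, ← h1, ← zpow_add]
    exact hz2 _ (hsq s) _
  have hd : Subgroup.zpowers s ⊓ Subgroup.zpowers t = ⊥ := by
    by_contra hne'
    have h2 : 2 ∣ Nat.card ↥(Subgroup.zpowers s ⊓ Subgroup.zpowers t) :=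
      ((hX.to_subgroup _).card_eq_or_dvd).resolve_left (fun h => hne' (Subgroup.card_eq_one.1 h))
    obtain ⟨u, hu⟩ := exists_prime_orderOf_dvd_card' 2 h2
    have hu1 : (u : X) ≠ 1 := fun h => by
      rw [show u = 1 from Subtype.ext h, orderOf_one] at hu; norm_num at hu
    have hu2 : (u : X) * u = 1 := by
      rw [← pow_two, ← SubmonoidClass.coe_pow, ← hu, pow_orderOf_eq_one, Subgroup.coe_one]
    have key : ∀ z : X, ψ z ≠ 1 → (u : X) ∈ Subgroup.zpowers z → (u : X) = ψ z := by
      intro z hz hmem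
      obtain ⟨k, hk⟩ := Subgroup.mem_zpowers_iff.1 hmem
      have hdvd : ((2 ^ n : ℕ) : ℤ) ∣ k + k := by
        rw [← hord z hz, orderOf_dvd_iff_zpow_eq_one, zpow_add, hk]
        exact hu2
      have : ((2 ^ m : ℕ) : ℤ) ∣ k := by
        rw [hm, pow_succ', Nat.cast_mul, ← two_mul] at hdvd
        exact Int.dvd_of_mul_dvd_mul_left two_ne_zero hdvd
      obtain ⟨l, rfl⟩ := this
      rw [zpow_mul, zpow_natCast] at hk
      rcases hz2 (ψ z) (hsq z) l with h | h
      · exact absurd (hk.symm.trans h) hu1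
      · exact hk.symm.trans h
    exact hne ((key s hzs u.2.1).symm.trans (key t hzt u.2.2))
  exact ⟨n, (finish (hord s hzs) (hord t hzt) hd).1, hexp, (finish (hord s hzs) (hord t hzt) hd).2⟩

/-- A finite metacyclic 2-group whose automorphism group is not a 2-group is isomorphic to the quaternion group of order 8 or to a homocyclic abelian group Z_{2^n} × Z_{2^n}. -/
theorem result {X : Type*} [Group X] [Finite X] (hX : IsPGroup 2 X)
    (hm : Cfsg.IsMetacyclic X) (hA : ¬ IsPGroup 2 (MulAut X)) :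
    Nonempty (X ≃* QuaternionGroup 2) ∨
      ∃ n : ℕ, Nonempty (X ≃* Multiplicative (ZMod (2 ^ n)) × Multiplicative (ZMod (2 ^ n))) := by
  classical
  obtain ⟨N, hNn, hNc, hQc⟩ := hm
  obtain ⟨⟨s, hs⟩, hsgen⟩ := hNc.exists_zpow_surjective
  obtain ⟨tq, htgen⟩ := hQc.exists_zpow_surjective
  obtain ⟨t, rfl⟩ := QuotientGroup.mk'_surjective N tq
  have hNz : N = Subgroup.zpowers s := by
    refine le_antisymm (fun x hx => ?_) (Subgroup.zpowers_le.2 hs)
    obtain ⟨i, hi⟩ := hsgen ⟨x, hx⟩
    exact ⟨i, congrArg Subtype.val hi⟩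
  have hst : ∀ g : X, ∃ i j : ℤ, g = t ^ j * s ^ i := by
    intro g
    obtain ⟨j, hj⟩ := htgen (QuotientGroup.mk' N g)
    have hmem : (t ^ j)⁻¹ * g ∈ N := by
      rw [← QuotientGroup.eq_one_iff]
      show QuotientGroup.mk' N ((t ^ j)⁻¹ * g) = 1
      rw [map_mul, map_inv, map_zpow, ← hj]
      exact inv_mul_cancel _
    rw [hNz] at hmem
    obtain ⟨i, hi⟩ := Subgroup.mem_zpowers_iff.1 hmem
    exact ⟨i, j, by rw [hi, mul_inv_cancel_left]⟩
  have hclosure : Subgroup.closure {s, t} = ⊤ := eq_top_iff.2 fun g _ => by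
    obtain ⟨i, j, rfl⟩ := hst g
    exact mul_mem (zpow_mem (Subgroup.subset_closure (by simp)) j) (zpow_mem (Subgroup.subset_closure (by simp)) i)
  -- an automorphism of odd prime order
  obtain ⟨α, r, hr, hr2, hαr⟩ : ∃ (α : MulAut X) (r : ℕ), r.Prime ∧ r ≠ 2 ∧ orderOf α = r := by
    haveI : Finite (MulAut X) := Finite.of_injective (fun e : MulAut X => (e : X → X)) DFunLike.coe_injective
    by_contra hno
    refine hA (IsPGroup.of_card (n := (Nat.card (MulAut X)).primeFactorsList.length)
      (Nat.eq_prime_pow_of_unique_prime_dvd Nat.card_pos.ne' ?_))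
    intro r hr hd
    haveI := Fact.mk hr
    obtain ⟨α, hα⟩ := exists_prime_orderOf_dvd_card' r hd
    by_contra hr2
    exact hno ⟨α, r, hr, hr2, hα⟩
  haveI := Fact.mk hr
  have hα1 : α ≠ 1 := fun h => hr.ne_one (by rw [← hαr, h, orderOf_one])
  have hαp : α ^ r = 1 := hαr ▸ pow_orderOf_eq_one α
  have hD := closure_displ hX hr2 hαp hα1 hclosure
  by_cases hc : ∀ a b : X, a * b = b * a
  · obtain ⟨n, -, -, e⟩ := abelian_case hX hc hD hst
    exact Or.inr ⟨n, e⟩
  left
  -- the derived group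
  set D := commutator X with hDdef
  have hDN : D ≤ N := by
    have : ⁅(⊤ : Subgroup X), ⊤⁆ ≤ N := Subgroup.commutator_le.2 fun a _ b _ => by
      rw [← QuotientGroup.eq_one_iff]
      show QuotientGroup.mk' N ⁅a, b⁆ = 1
      rw [map_commutatorElement, commutatorElement_eq_one_iff_mul_comm]
      exact mul_comm' _ _
    exact this
  haveI hDc : IsCyclic D := isCyclic_of_injective (Subgroup.inclusion hDN) (Subgroup.inclusion_injective hDN)
  have hDα : ∀ (β : MulAut X) (x : X), x ∈ D → β x ∈ D := fun β x hx =>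
    (Subgroup.characteristic_iff_map_le.1 (inferInstance : (commutator X).Characteristic) β)
      (Subgroup.mem_map_of_mem β.toMonoidHom hx)
  have hfix : ∀ x ∈ D, α x = x := by
    let β : MulAut D :=
      { toFun := fun x => ⟨α x, hDα α x x.2⟩
        invFun := fun x => ⟨α.symm x, hDα α.symm x x.2⟩
        left_inv := fun x => Subtype.ext (α.symm_apply_apply x)
        right_inv := fun x => Subtype.ext (α.apply_symm_apply x)
        map_mul' := fun x y => Subtype.ext (map_mul α (x : X) y) }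
    have key : ∀ (m : ℕ) (y : D), ((β ^ m) y : X) = (α ^ m) (y : X) := by
      intro m
      induction m with
      | zero => simp
      | succ m ih => intro y; rw [pow_succ', pow_succ', MulAut.mul_apply, MulAut.mul_apply, ← ih y]; rfl
    have hβr : β ^ r = 1 := by
      ext y
      rw [key, hαp]
      rfl
    haveI : Finite (MulAut D) := Finite.of_injective (fun e : MulAut D => (e : D → D)) DFunLike.coe_injective
    have hβ1 : β = 1 := by
      rw [← orderOf_eq_one_iff]
      obtain ⟨k, hk⟩ := IsPGroup.iff_card.1 (hX.to_subgroup D)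
      have h1 : orderOf β ∣ Nat.totient (2 ^ k) := by
        rw [← hk, ← IsCyclic.card_mulAut]; exact orderOf_dvd_natCard β
      rcases Nat.eq_zero_or_pos k with rfl | hk0
      · simpa using h1
      rw [Nat.totient_prime_pow Nat.prime_two hk0, show (2 : ℕ) - 1 = 1 from rfl, mul_one] at h1
      exact Nat.eq_one_of_dvd_coprimes
        (((Nat.coprime_primes hr Nat.prime_two).2 hr2).symm.pow_left (k - 1))
        h1 (orderOf_dvd_of_pow_eq_one hβr)
    intro x hx
    exact congrArg (fun γ : MulAut D => ((γ ⟨x, hx⟩ : D) : X)) hβ1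
  have hcl : D ≤ Subgroup.center X := by
    have : Subgroup.closure (Set.range fun x => x⁻¹ * α x) ≤ Subgroup.centralizer (D : Set X) := by
      rw [Subgroup.closure_le]
      rintro _ ⟨x, rfl⟩
      rw [SetLike.mem_coe, Subgroup.mem_centralizer_iff]
      intro d hd
      have hconj : x * d * x⁻¹ ∈ D := (inferInstance : (commutator X).Normal).conj_mem d hd x
      have h1 : α x * d * (α x)⁻¹ = x * d * x⁻¹ := by
        conv_lhs => rw [← hfix d hd, ← map_inv, ← map_mul, ← map_mul, hfix _ hconj]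
      have h2 : x⁻¹ * (α x * d * (α x)⁻¹) * α x = d * (x⁻¹ * α x) := by rw [h1]; group
      rw [← h2]
      group
    intro d hd
    rw [Subgroup.mem_center_iff]
    intro g
    exact ((Subgroup.mem_centralizer_iff.1 (this (hD ▸ Subgroup.mem_top g))) d hd).symm
  set c := ⁅t, s⁆ with hcdef
  have hcD : c ∈ D := Subgroup.commutator_mem_commutator (Subgroup.mem_top _) (Subgroup.mem_top _)
  have hcc : ∀ a b : X, ⁅a, b⁆ ∈ Subgroup.center X := PGroup.mem_center_of_class_two hcl
  have hDc' : D = Subgroup.zpowers c := by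
    refine le_antisymm ?_ (Subgroup.zpowers_le.2 hcD)
    haveI hZn : (Subgroup.zpowers c).Normal :=
      ⟨fun x hx g => by
        have : x ∈ Subgroup.center X := (Subgroup.zpowers_le.2 (hcl hcD)) hx
        rwa [Subgroup.mem_center_iff.1 this g, mul_inv_cancel_right]⟩
    let g := QuotientGroup.mk' (Subgroup.zpowers c)
    have h1 : Commute (g t) (g s) := by
      show g t * g s = g s * g t
      rw [← commutatorElement_eq_one_iff_mul_comm, ← map_commutatorElement]
      exact (QuotientGroup.eq_one_iff _).2 (Subgroup.mem_zpowers c)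
    have : ⁅(⊤ : Subgroup X), ⊤⁆ ≤ Subgroup.zpowers c := Subgroup.commutator_le.2 fun a _ b _ => by
      obtain ⟨i, j, rfl⟩ := hst a
      obtain ⟨i', j', rfl⟩ := hst b
      rw [← QuotientGroup.eq_one_iff]
      show g ⁅t ^ j * s ^ i, t ^ j' * s ^ i'⁆ = 1
      rw [map_commutatorElement, commutatorElement_eq_one_iff_mul_comm, map_mul, map_mul, map_zpow, map_zpow,
        map_zpow, map_zpow]
      exact (((Commute.refl (g t)).zpow_zpow j j').mul_right (h1.zpow_zpow j i')).mul_left
        ((h1.symm.zpow_zpow i j').mul_right ((Commute.refl (g s)).zpow_zpow i i'))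
    exact this
  obtain ⟨k, hk⟩ := hX.exists_orderOf_eq_pow c
  have hk1 : 1 ≤ k := by
    by_contra h0
    rw [show k = 0 by omega, pow_zero, orderOf_eq_one_iff] at hk
    refine hc fun a b => ?_
    rw [← commutatorElement_eq_one_iff_mul_comm, ← Subgroup.mem_bot]
    rw [hk, Subgroup.zpowers_one_eq_bot] at hDc'
    rw [← hDc']
    exact Subgroup.commutator_mem_commutator (Subgroup.mem_top a) (Subgroup.mem_top b)
  -- the quotient by `D`
  haveI : D.Normal := inferInstanceAs (commutator X).Normal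
  let π := QuotientGroup.mk' D
  have hQcomm : ∀ a b : X ⧸ D, a * b = b * a := by
    intro a b
    obtain ⟨a, rfl⟩ := QuotientGroup.mk'_surjective D a
    obtain ⟨b, rfl⟩ := QuotientGroup.mk'_surjective D b
    rw [← commutatorElement_eq_one_iff_mul_comm, ← map_commutatorElement]
    exact (QuotientGroup.eq_one_iff _).2 (Subgroup.commutator_mem_commutator (Subgroup.mem_top a) (Subgroup.mem_top b))
  have hDmap : D.map (α : X →* X) = D :=
    Subgroup.characteristic_iff_map_eq.1 (inferInstance : (commutator X).Characteristic) α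
  let αq : MulAut (X ⧸ D) := QuotientGroup.congr D D α hDmap
  have hαq : ∀ x, αq (π x) = π (α x) := fun x => QuotientGroup.congr_mk' D D α hDmap x
  have hDq : Subgroup.closure (Set.range fun y => y⁻¹ * αq y) = ⊤ := by
    have := congrArg (Subgroup.map π) hD
    rw [MonoidHom.map_closure, Subgroup.map_top_of_surjective _ (QuotientGroup.mk'_surjective D)] at this
    rw [← this]
    congr 1
    ext y
    constructor
    · rintro ⟨z, rfl⟩
      obtain ⟨x, rfl⟩ := QuotientGroup.mk'_surjective D z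
      exact ⟨x⁻¹ * α x, ⟨x, rfl⟩, by simp only [map_mul, map_inv]; rw [hαq]⟩
    · rintro ⟨_, ⟨x, rfl⟩, rfl⟩
      exact ⟨π x, by simp only [map_mul, map_inv]; rw [hαq]⟩
  obtain ⟨n, hcardQ, hexpQ, -⟩ := abelian_case (hX.to_quotient D) hQcomm hDq (s := π s) (t := π t) (fun y => by
    obtain ⟨x, rfl⟩ := QuotientGroup.mk'_surjective D y
    obtain ⟨i, j, rfl⟩ := hst x
    exact ⟨i, j, by rw [map_mul, map_zpow, map_zpow]⟩)
  have hpowD : ∀ g : X, g ^ 2 ^ n ∈ D := fun g => by
    rw [← QuotientGroup.eq_one_iff]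
    exact (map_pow π g _).trans (hexpQ _)
  have hcard : Nat.card X = 2 ^ (2 * n + k) := by
    rw [Subgroup.card_eq_card_quotient_mul_card_subgroup D, hcardQ, hDc', Nat.card_zpowers, hk, pow_add, two_mul,
      pow_add]
  have hkn : k ≤ n := by
    have h1 : c ^ 2 ^ n = 1 := by
      rw [hcdef, ← PGroup.commutator_pow_left (hcc t s), commutatorElement_eq_one_iff_mul_comm]
      exact (Subgroup.mem_center_iff.1 (hcl (hpowD t)) s).symm
    exact (Nat.pow_dvd_pow_iff_le_right (by norm_num)).1 (hk ▸ orderOf_dvd_of_pow_eq_one h1)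
  -- `|c|² ∣ |s|`
  obtain ⟨M, hM⟩ := hX.exists_orderOf_eq_pow s
  have hkM : 2 * k ≤ M := by
    obtain ⟨i, hi⟩ := Subgroup.mem_zpowers_iff.1 (hNz ▸ hDN hcD)
    have hci : c ^ i = 1 := by
      have h0 : ⁅s ^ i, t⁆ = 1 := by
        rw [hi, commutatorElement_eq_one_iff_mul_comm]
        exact (Subgroup.mem_center_iff.1 (hcl hcD) t).symm
      rw [PGroup.commutator_zpow_left (hcc s t), ← commutatorElement_inv, inv_zpow, inv_eq_one] at h0
      exact h0
    have hdi : ((2 ^ k : ℕ) : ℤ) ∣ i := hk ▸ orderOf_dvd_iff_zpow_eq_one.2 hci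
    by_contra hlt
    have h2 : c ^ 2 ^ (k - 1) = 1 := by
      rw [← hi, ← zpow_natCast, ← zpow_mul]
      refine orderOf_dvd_iff_zpow_eq_one.1 (dvd_trans ?_ (mul_dvd_mul_right hdi _))
      rw [hM, ← Nat.cast_mul, Int.natCast_dvd_natCast, ← pow_add]
      exact pow_dvd_pow 2 (by omega)
    have h3 := (Nat.pow_dvd_pow_iff_le_right (by norm_num)).1 (hk ▸ orderOf_dvd_of_pow_eq_one h2)
    omega
  -- the power maps
  have hpow : ∀ E, n ≤ E → k < E → ∀ g : X, g ^ 2 ^ E = 1 := by
    intro E hnE hkE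
    have hdvd : 2 ^ k ∣ (2 ^ E).choose 2 := by
      obtain ⟨E', rfl⟩ : ∃ E', E = E' + 1 := ⟨E - 1, by omega⟩
      rw [Nat.choose_two_right, pow_succ', mul_assoc, Nat.mul_div_cancel_left _ (by norm_num)]
      exact dvd_mul_of_dvd_left (pow_dvd_pow 2 (by omega)) _
    have hck : ∀ z ∈ D, z ^ 2 ^ k = 1 := fun z hz => by
      rw [hDc'] at hz
      obtain ⟨j, rfl⟩ := Subgroup.mem_zpowers_iff.1 hz
      rw [← zpow_natCast, ← zpow_mul, mul_comm, zpow_mul, zpow_natCast, ← hk, pow_orderOf_eq_one, one_zpow]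
    let f : X →* X :=
      { toFun := fun g => g ^ 2 ^ E
        map_one' := one_pow _
        map_mul' := fun a b => by
          obtain ⟨q, hq⟩ := hdvd
          rw [PGroup.mul_pow_of_central (hcc b a), hq, pow_mul,
            hck _ (Subgroup.commutator_mem_commutator (Subgroup.mem_top b) (Subgroup.mem_top a)), one_pow, mul_one] }
    refine trivial_of_invariant hD f (fun g => ?_)
    show α g ^ 2 ^ E = g ^ 2 ^ E
    rw [← map_pow]
    refine hfix _ ?_
    obtain ⟨d, rfl⟩ := Nat.exists_eq_add_of_le hnE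
    rw [pow_add, pow_mul]
    exact pow_mem (hpowD g) _
  have hbound : ∀ E, (∀ g : X, g ^ 2 ^ E = 1) → M ≤ E ∧ 2 * n + k ≤ 2 * E := by
    intro E hE
    have hME : M ≤ E := (Nat.pow_dvd_pow_iff_le_right (by norm_num)).1 (hM ▸ orderOf_dvd_of_pow_eq_one (hE s))
    refine ⟨hME, (Nat.pow_dvd_pow_iff_le_right (by norm_num : 1 < 2)).1 ?_⟩
    rw [← hcard, Subgroup.card_eq_card_quotient_mul_card_subgroup N, two_mul, pow_add]
    refine mul_dvd_mul ?_ ?_
    · have hq : orderOf (QuotientGroup.mk' N t) = Nat.card (X ⧸ N) := orderOf_eq_card_of_forall_mem_zpowers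
        fun y => by obtain ⟨j, hj⟩ := htgen y; exact ⟨j, hj⟩
      rw [← hq]
      exact (orderOf_map_dvd _ t).trans (orderOf_dvd_of_pow_eq_one (hE t))
    · rw [hNz, Nat.card_zpowers]
      exact orderOf_dvd_of_pow_eq_one (hE s)
  have hn1 : n = 1 ∧ k = 1 := by
    rcases hkn.lt_or_eq with h | h
    · have := (hbound n (hpow n le_rfl h)).2
      omega
    · have := hbound (n + 1) (hpow (n + 1) (by omega) (by omega))
      omega
  obtain ⟨rfl, rfl⟩ := hn1
  -- order eight
  have hD2 : ∀ z ∈ D, z * z = 1 := fun z hz => by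
    rw [hDc'] at hz
    obtain ⟨j, rfl⟩ := Subgroup.mem_zpowers_iff.1 hz
    rw [← (Commute.refl c).mul_zpow, ← pow_two, show (2 : ℕ) = 2 ^ 1 from rfl, ← hk, pow_orderOf_eq_one, one_zpow]
  have hq : ∀ x y : X, π x = π y → x * x = y * y := fun x y h => by
    have hz : x⁻¹ * y ∈ D := QuotientGroup.eq.1 h
    have hzc := Subgroup.mem_center_iff.1 (hcl hz)
    conv_rhs => rw [← mul_inv_cancel_left x y]
    rw [mul_assoc x (x⁻¹ * y), ← mul_assoc (x⁻¹ * y), ← hzc x, mul_assoc x (x⁻¹ * y), hD2 _ hz, mul_one]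
  have hqα : ∀ x, α x * α x = x * x := fun x => by
    rw [← map_mul]
    refine hfix _ ?_
    have := hpowD x
    rwa [pow_one, pow_two] at this
  have hcard4 : Nat.card (X ⧸ D) = 4 := by rw [hcardQ]; rfl
  have hsq' : ∀ y : X ⧸ D, y * y = 1 := fun y => by
    have := hexpQ y
    rwa [pow_one, pow_two] at this
  have hfpf : ∀ y : X ⧸ D, αq y = y → y = 1 := by
    intro a ha
    by_contra ha1
    have hoa : orderOf a = 2 := orderOf_eq_prime (by rw [pow_two]; exact hsq' a) ha1
    have hH : (Subgroup.zpowers a).index = 2 := by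
      have := Subgroup.card_mul_index (Subgroup.zpowers a)
      rw [Nat.card_zpowers, hoa, hcard4] at this
      omega
    have hle : Subgroup.closure (Set.range fun y => y⁻¹ * αq y) ≤ Subgroup.zpowers a := by
      rw [Subgroup.closure_le]
      rintro _ ⟨y, rfl⟩
      rw [SetLike.mem_coe, Subgroup.mul_mem_iff_of_index_two hH, inv_mem_iff]
      constructor
      · rintro ⟨j, rfl⟩
        exact ⟨j, by simp only; rw [map_zpow, ha]⟩
      · rintro ⟨j, hj⟩
        exact ⟨j, MulEquiv.injective αq (show αq (a ^ j) = αq y by rw [map_zpow, ha]; exact hj)⟩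
    rw [hDq, top_le_iff] at hle
    rw [hle, Subgroup.index_top] at hH
    norm_num at hH
  have h4 : ∀ y : X ⧸ D, y = 1 ∨ y = π s ∨ y = π t ∨ y = π t * π s := by
    intro y
    obtain ⟨x, rfl⟩ := QuotientGroup.mk'_surjective D y
    obtain ⟨i, j, rfl⟩ := hst x
    have hz2 : ∀ (z : X ⧸ D) (i : ℤ), z ^ i = 1 ∨ z ^ i = z := fun z i => by
      rcases Int.even_or_odd i with ⟨u, rfl⟩ | ⟨u, rfl⟩
      · left; rw [zpow_add, ← (Commute.refl z).mul_zpow, hsq', one_zpow]
      · right; rw [zpow_add_one, two_mul, zpow_add, ← (Commute.refl z).mul_zpow, hsq', one_zpow, one_mul]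
    rw [map_mul, map_zpow, map_zpow]
    rcases hz2 (π t) j with h | h <;> rcases hz2 (π s) i with h' | h' <;> rw [h, h'] <;> simp only [one_mul, mul_one] <;> tauto
  have hne_st : ¬ (π t = π s) := by
    intro h
    have hsub : ∀ y : X ⧸ D, y = 1 ∨ y = π s := fun y => by
      rcases h4 y with h' | h' | h' | h'
      · exact Or.inl h'
      · exact Or.inr h'
      · exact Or.inr (h' ▸ h)
      · left; rw [h', h, hsq']
    have : Nat.card (X ⧸ D) ≤ 2 := by
      have hf : Function.Surjective (fun b : Bool => if b then (1 : X ⧸ D) else π s) := fun y => by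
        rcases hsub y with h' | h'
        · exact ⟨true, by simp [h']⟩
        · exact ⟨false, by simp [h']⟩
      exact (Nat.card_le_card_of_surjective _ hf).trans (by simp)
    omega
  have hs1 : π s ≠ 1 := by
    intro h
    have hf : Function.Surjective (fun b : Bool => if b then (1 : X ⧸ D) else π t) := fun y => by
      rcases h4 y with h' | h' | h' | h'
      · exact ⟨true, by simp [h']⟩
      · exact ⟨true, by simp [h', h]⟩
      · exact ⟨false, by simp [h']⟩
      · exact ⟨false, by simp [h', h]⟩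
    have := (Nat.card_le_card_of_surjective _ hf).trans (le_of_eq (by simp : Nat.card Bool = 2))
    omega
  have ht1 : π t ≠ 1 := by
    intro h
    have hf : Function.Surjective (fun b : Bool => if b then (1 : X ⧸ D) else π s) := fun y => by
      rcases h4 y with h' | h' | h' | h'
      · exact ⟨true, by simp [h']⟩
      · exact ⟨false, by simp [h']⟩
      · exact ⟨true, by simp [h', h]⟩
      · exact ⟨false, by simp [h', h]⟩
    have := (Nat.card_le_card_of_surjective _ hf).trans (le_of_eq (by simp : Nat.card Bool = 2))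
    omega
  have hsα : αq (π s) = π t ∨ αq (π s) = π t * π s := by
    rcases h4 (αq (π s)) with h | h | h | h
    · exact absurd ((map_eq_one_iff αq (MulEquiv.injective αq)).1 h) hs1
    · exact absurd (hfpf _ h) hs1
    · exact Or.inl h
    · exact Or.inr h
  have hsq3 : t * t = s * s ∧ (t * s) * (t * s) = s * s := by
    have key : ∀ x y : X, αq (π x) = π y → y * y = x * x := fun x y h => by
      rw [hαq] at h
      rw [← hq _ _ h, hqα]
    rcases hsα with h | h
    · refine ⟨key s t h, ?_⟩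
      rcases h4 (αq (π t)) with h' | h' | h' | h'
      · exact absurd ((map_eq_one_iff αq (MulEquiv.injective αq)).1 h') ht1
      · exfalso
        have hfix2 : αq (π t * π s) = π t * π s := by rw [map_mul, h, h', hQcomm]
        exact hne_st ((eq_inv_of_mul_eq_one_left (hfpf _ hfix2)).trans (inv_eq_of_mul_eq_one_left (hsq' (π s))))
      · exact absurd (hfpf _ h') ht1
      · exact (key t (t * s) (h'.trans (map_mul π t s).symm)).trans (key s t h)
    · refine ⟨?_, key s (t * s) (h.trans (map_mul π t s).symm)⟩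
      rcases h4 (αq (π t)) with h' | h' | h' | h'
      · exact absurd ((map_eq_one_iff αq (MulEquiv.injective αq)).1 h') ht1
      · exact (key t s h').symm
      · exact absurd (hfpf _ h') ht1
      · exact absurd (MulEquiv.injective αq (h'.trans h.symm)) hne_st
  have hs4 : orderOf s = 2 ^ (1 + 1) := by
    refine orderOf_eq_prime_pow ?_ ?_
    · rw [pow_one, pow_two]
      intro h
      apply hc
      have hts : t * s = s * t := by
        have h1 := hsq3.1.trans h
        have h2 := hsq3.2.trans h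
        have e : s * t = (t * t) * (s * t) * (s * s) := by rw [h, h1, one_mul, mul_one]
        rw [e]
        calc t * s = t * ((t * s) * (t * s)) * s := by rw [h2, mul_one]
          _ = t * t * (s * t) * (s * s) := by group
      intro a b
      obtain ⟨i, j, rfl⟩ := hst a
      obtain ⟨i', j', rfl⟩ := hst b
      have h1 : Commute t s := hts
      exact (((Commute.refl t).zpow_zpow j j').mul_right (h1.zpow_zpow j i')).mul_left
        ((h1.symm.zpow_zpow i j').mul_right ((Commute.refl s).zpow_zpow i i'))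
    · have h1 := hD2 _ (hpowD s)
      rw [← pow_add] at h1
      exact h1
  have htN : t ∉ Subgroup.zpowers s := fun hmem => by
    refine hc fun a b => ?_
    obtain ⟨u, rfl⟩ := Subgroup.mem_zpowers_iff.1 hmem
    obtain ⟨i, j, rfl⟩ := hst a
    obtain ⟨i', j', rfl⟩ := hst b
    rw [← zpow_mul, ← zpow_mul, ← zpow_add, ← zpow_add, ← zpow_add, ← zpow_add, add_comm]
  refine PGroup.quaternionEquivOfRel (N := 2) (a := s) (b := t) (by rw [hs4]; rfl) htN
    (by rw [pow_two, pow_two]; exact hsq3.1) ?_ (by rw [hcard]; rfl)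
  have h1 : t * s * t = s := mul_right_cancel ((mul_assoc (t * s) t s).trans hsq3.2)
  calc t * s * t⁻¹ = (t * s * t) * (t * t)⁻¹ := by group
    _ = s * (s * s)⁻¹ := by rw [h1, hsq3.1]
    _ = s⁻¹ := by group

end Cfsg.Agent.S1896
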