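import Cfsg.Statements.S1897
import Cfsg.Agent.S3438
import Cfsg.Agent.Lib.PSL2.Basic

set_option autoImplicit false
open Cfsg

namespace Cfsg.Agent.S1897

/-- 3×3 matrices over the field with nine elements. -/
abbrev Mat : Type := Matrix (Fin 3) (Fin 3) S3438.K9

/-- Images of `uu x`. -/
def tabU : Fin 7 → Mat := ![
  !![⟨1, 0⟩, ⟨0, 0⟩, ⟨0, 0⟩; ⟨0, 0⟩, ⟨1, 0⟩, ⟨0, 0⟩; ⟨0, 0⟩, ⟨0, 0⟩, ⟨1, 0⟩],
  !![⟨0, 0⟩, ⟨1, 1⟩, ⟨1, 2⟩; ⟨1, 1⟩, ⟨1, 0⟩, ⟨0, 1⟩; ⟨1, 1⟩, ⟨2, 0⟩, ⟨0, 2⟩],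
  !![⟨2, 2⟩, ⟨0, 2⟩, ⟨1, 0⟩; ⟨0, 2⟩, ⟨1, 1⟩, ⟨0, 1⟩; ⟨0, 1⟩, ⟨2, 0⟩, ⟨1, 2⟩],
  !![⟨2, 0⟩, ⟨2, 0⟩, ⟨2, 2⟩; ⟨2, 0⟩, ⟨2, 2⟩, ⟨2, 0⟩; ⟨1, 2⟩, ⟨0, 2⟩, ⟨0, 2⟩],
  !![⟨2, 0⟩, ⟨2, 0⟩, ⟨1, 1⟩; ⟨2, 0⟩, ⟨2, 1⟩, ⟨0, 1⟩; ⟨2, 1⟩, ⟨2, 0⟩, ⟨0, 1⟩],
  !![⟨2, 1⟩, ⟨0, 1⟩, ⟨0, 2⟩; ⟨0, 1⟩, ⟨1, 2⟩, ⟨2, 0⟩; ⟨1, 0⟩, ⟨0, 2⟩, ⟨1, 1⟩],
  !![⟨0, 0⟩, ⟨1, 2⟩, ⟨1, 2⟩; ⟨1, 2⟩, ⟨1, 0⟩, ⟨2, 0⟩; ⟨1, 1⟩, ⟨0, 2⟩, ⟨0, 1⟩]]

/-- Images of `dd a`. -/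
def tabD : Fin 7 → Mat := ![
  !![⟨1, 0⟩, ⟨0, 0⟩, ⟨0, 0⟩; ⟨0, 0⟩, ⟨1, 0⟩, ⟨0, 0⟩; ⟨0, 0⟩, ⟨0, 0⟩, ⟨1, 0⟩],
  !![⟨1, 0⟩, ⟨0, 0⟩, ⟨0, 0⟩; ⟨0, 0⟩, ⟨1, 0⟩, ⟨0, 0⟩; ⟨0, 0⟩, ⟨0, 0⟩, ⟨1, 0⟩],
  !![⟨0, 1⟩, ⟨2, 2⟩, ⟨0, 1⟩; ⟨2, 2⟩, ⟨0, 0⟩, ⟨1, 1⟩; ⟨0, 2⟩, ⟨2, 2⟩, ⟨0, 2⟩],
  !![⟨0, 2⟩, ⟨2, 1⟩, ⟨0, 1⟩; ⟨2, 1⟩, ⟨0, 0⟩, ⟨2, 1⟩; ⟨0, 2⟩, ⟨1, 2⟩, ⟨0, 1⟩],
  !![⟨0, 2⟩, ⟨2, 1⟩, ⟨0, 1⟩; ⟨2, 1⟩, ⟨0, 0⟩, ⟨2, 1⟩; ⟨0, 2⟩, ⟨1, 2⟩, ⟨0, 1⟩],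
  !![⟨0, 1⟩, ⟨2, 2⟩, ⟨0, 1⟩; ⟨2, 2⟩, ⟨0, 0⟩, ⟨1, 1⟩; ⟨0, 2⟩, ⟨2, 2⟩, ⟨0, 2⟩],
  !![⟨1, 0⟩, ⟨0, 0⟩, ⟨0, 0⟩; ⟨0, 0⟩, ⟨1, 0⟩, ⟨0, 0⟩; ⟨0, 0⟩, ⟨0, 0⟩, ⟨1, 0⟩]]

/-- Images of `dd c⁻¹ * ww`. -/
def tabM : Fin 7 → Mat := ![
  !![⟨1, 0⟩, ⟨0, 0⟩, ⟨0, 0⟩; ⟨0, 0⟩, ⟨1, 0⟩, ⟨0, 0⟩; ⟨0, 0⟩, ⟨0, 0⟩, ⟨1, 0⟩],
  !![⟨0, 0⟩, ⟨0, 0⟩, ⟨0, 1⟩; ⟨0, 0⟩, ⟨2, 0⟩, ⟨0, 0⟩; ⟨0, 2⟩, ⟨0, 0⟩, ⟨0, 0⟩],
  !![⟨1, 0⟩, ⟨1, 2⟩, ⟨1, 0⟩; ⟨1, 1⟩, ⟨0, 0⟩, ⟨2, 2⟩; ⟨1, 0⟩, ⟨2, 1⟩, ⟨1, 0⟩],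
  !![⟨1, 0⟩, ⟨1, 1⟩, ⟨2, 0⟩; ⟨1, 2⟩, ⟨0, 0⟩, ⟨1, 2⟩; ⟨2, 0⟩, ⟨1, 1⟩, ⟨1, 0⟩],
  !![⟨1, 0⟩, ⟨1, 1⟩, ⟨2, 0⟩; ⟨1, 2⟩, ⟨0, 0⟩, ⟨1, 2⟩; ⟨2, 0⟩, ⟨1, 1⟩, ⟨1, 0⟩],
  !![⟨1, 0⟩, ⟨1, 2⟩, ⟨1, 0⟩; ⟨1, 1⟩, ⟨0, 0⟩, ⟨2, 2⟩; ⟨1, 0⟩, ⟨2, 1⟩, ⟨1, 0⟩],
  !![⟨0, 0⟩, ⟨0, 0⟩, ⟨0, 1⟩; ⟨0, 0⟩, ⟨2, 0⟩, ⟨0, 0⟩; ⟨0, 2⟩, ⟨0, 0⟩, ⟨0, 0⟩]]

/-- The representation on the entries, by the Bruhat form. -/
def psi (a b c d : ZMod 7) : Mat :=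
  if c = 0 then tabD a * tabU (b * a ^ 5) else tabU (a * c ^ 5) * tabM c * tabU (d * c ^ 5)

theorem psi_step : ∀ a b c d : ZMod 7, a * d - b * c = 1 →
    psi a (a + b) c (c + d) = psi a b c d * psi 1 1 0 1 ∧
      psi (-b) a (-d) c = psi a b c d * psi 0 1 (-1) 0 := by decide +kernel

theorem psi_const : psi 1 0 0 1 = 1 ∧ psi (-1) 0 0 (-1) = 1 ∧
    psi 1 1 0 1 * psi 0 1 (-1) 0 ≠ psi 0 1 (-1) 0 * psi 1 1 0 1 := by decide +kernel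

theorem psi_unitary : ((psi 1 1 0 1).det = 1 ∧
    (psi 1 1 0 1).transpose * (psi 1 1 0 1).map (· ^ 3) = 1) ∧
    (psi 0 1 (-1) 0).det = 1 ∧
    (psi 0 1 (-1) 0).transpose * (psi 0 1 (-1) 0).map (· ^ 3) = 1 := by
  rw [Matrix.det_fin_three, Matrix.det_fin_three]
  decide +kernel

open scoped MatrixGroups
open Cfsg.Agent.PSL2 (uu ll ww)

section

variable {K : Type*} [Field K] (e : ZMod 7 ≃+* K)

include e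

theorem closure_gen :
    Subgroup.closure ({uu (1 : K), ww} : Set SL(2, K)) = ⊤ := by
  have hw : ww ∈ Subgroup.closure ({uu (1 : K), ww} : Set SL(2, K)) :=
    Subgroup.subset_closure (by simp)
  have hu : ∀ t : K, uu t ∈ Subgroup.closure ({uu (1 : K), ww} : Set SL(2, K)) := by
    intro t
    have h : uu t = uu (1 : K) ^ (e.symm t).val := by
      rw [PSL2.uu_pow, mul_one]
      congr 1
      rw [← map_natCast e, ZMod.natCast_zmod_val, e.apply_symm_apply]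
    rw [h]
    exact pow_mem (Subgroup.subset_closure (by simp)) _
  refine PSL2.eq_top_of_uu_ll hu fun t => ?_
  rw [show t = - -t from (neg_neg t).symm, ← PSL2.ww_conj_uu]
  exact mul_mem (mul_mem hw (hu _)) (inv_mem hw)

/-- The entrywise map. -/
def psiK (g : SL(2, K)) : Mat :=
  psi (e.symm (g 0 0)) (e.symm (g 0 1)) (e.symm (g 1 0)) (e.symm (g 1 1))

theorem psiK_det (g : SL(2, K)) : e.symm (g 0 0) * e.symm (g 1 1) -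
    e.symm (g 0 1) * e.symm (g 1 0) = 1 := by
  rw [← map_mul, ← map_mul, ← map_sub, PSL2.det_eq, map_one]

theorem psiK_one : psiK e 1 = 1 := by
  simp [psiK, psi_const.1]

theorem psiK_mul (g h : SL(2, K)) : psiK e (h * g) = psiK e h * psiK e g := by
  have hg : g ∈ Subgroup.closure ({uu (1 : K), ww} : Set SL(2, K)) := by
    rw [closure_gen e]; trivial
  induction hg using Subgroup.closure_induction generalizing h with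
  | mem x hx =>
    rcases hx with rfl | rfl
    · have := (psi_step _ _ _ _ (psiK_det e h)).1
      simp only [psiK, PSL2.mul00, PSL2.mul01, PSL2.mul10, PSL2.mul11]
      simpa using this
    · have := (psi_step _ _ _ _ (psiK_det e h)).2
      simp only [psiK, PSL2.mul00, PSL2.mul01, PSL2.mul10, PSL2.mul11]
      simpa using this
  | one => rw [mul_one, psiK_one, mul_one]
  | mul x y _ _ hx hy => rw [← mul_assoc, hy, hx, mul_assoc, ← hy]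
  | inv x _ hx =>
    have h1 := hx (h * x⁻¹)
    have h2 := hx x⁻¹
    rw [inv_mul_cancel_right] at h1
    rw [inv_mul_cancel, psiK_one] at h2
    rw [h1, mul_assoc, mul_eq_one_comm.1 h2.symm, mul_one]

end

variable {F : Type*} [Field F] [Fintype F]

theorem exists_lift (hF : Fintype.card F = 9) (eF : S3438.K9 ≃+* F) (C : Mat) (hC : C.det = 1)
    (hCu : C.transpose * C.map (· ^ 3) = 1) : ∃ x : SU 3 F 3,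
      ((x : Matrix.SpecialLinearGroup (Fin 3) F) : Matrix (Fin 3) (Fin 3) F) =
        eF.toRingHom.mapMatrix C := by
  have : CharP F 3 := charP_of_card_eq_prime_pow (f := 2) (hp := ⟨Nat.prime_three⟩) (by simp [hF])
  have : Fact (Nat.Prime 3) := ⟨Nat.prime_three⟩
  refine ⟨⟨⟨eF.toRingHom.mapMatrix C, by rw [← RingHom.map_det, hC, map_one]⟩, ?_⟩, rfl⟩
  intro u v
  have hu' : (eF.toRingHom.mapMatrix C).transpose * (eF.toRingHom.mapMatrix C).map (· ^ 3) = 1 := by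
    have := congrArg eF.toRingHom.mapMatrix hCu
    rw [map_mul, map_one] at this
    rw [← this]
    ext i j
    simp [Matrix.mul_apply]
  change hermForm 3 F 3 ((eF.toRingHom.mapMatrix C).mulVec u)
    ((eF.toRingHom.mapMatrix C).mulVec v) = _
  have hconv : ∀ u v : Fin 3 → F, hermForm 3 F 3 u v = u ⬝ᵥ (fun i => v i ^ 3) := fun u v => rfl
  have hfrob : (fun i => (eF.toRingHom.mapMatrix C).mulVec v i ^ 3) =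
      ((eF.toRingHom.mapMatrix C).map (· ^ 3)).mulVec (fun i => v i ^ 3) := by
    ext i
    simp only [Matrix.mulVec, dotProduct, Fin.sum_univ_three, Matrix.map_apply, add_pow_char, mul_pow]
  rw [hconv, hconv, hfrob, ← Matrix.vecMul_transpose, ← Matrix.dotProduct_mulVec,
    Matrix.mulVec_mulVec, hu', Matrix.one_mulVec]

/-- The projective special unitary group PSU₃(3) (realised over the field with 9 elements) has a subgroup isomorphic to PSL₂(7). -/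
theorem result {F : Type*} [Field F] [Fintype F] (hF : Fintype.card F = 9)
    {K : Type*} [Field K] [Fintype K] (hK : Fintype.card K = 7) :
    ∃ H : Subgroup (Cfsg.PSU 3 F 3), Nonempty (H ≃* Matrix.ProjectiveSpecialLinearGroup (Fin 2) K) := by
  haveI : Fact (Nat.Prime 7) := ⟨by norm_num⟩
  haveI : CharP K 7 := charP_of_card_eq_prime_pow (f := 1) (by simp [hK])
  let e : ZMod 7 ≃+* K := RingEquiv.ofBijective (ZMod.castHom dvd_rfl K)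
    ((Fintype.bijective_iff_injective_and_card _).2 ⟨RingHom.injective _, by rw [ZMod.card, hK]⟩)
  obtain ⟨eF⟩ := S3438.exists_equiv hF
  set f : SL(2, K) →* Matrix (Fin 3) (Fin 3) F :=
    eF.toRingHom.mapMatrix.toMonoidHom.comp
      { toFun := psiK e, map_one' := psiK_one e, map_mul' := fun h g => psiK_mul e g h } with hf
  set m : SU 3 F 3 →* Matrix (Fin 3) (Fin 3) F :=
    { toFun := fun x => ((x : Matrix.SpecialLinearGroup (Fin 3) F) : Matrix (Fin 3) (Fin 3) F)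
      map_one' := rfl
      map_mul' := fun _ _ => rfl } with hm
  have hmi : Function.Injective m := fun x y h => Subtype.ext (Subtype.ext h)
  have hu : ∃ x, m x = f (uu 1) := by
    obtain ⟨x, hx⟩ := exists_lift hF eF _ psi_unitary.1.1 psi_unitary.1.2
    refine ⟨x, hx.trans (congrArg _ ?_)⟩
    show _ = psiK e (uu 1)
    simp [psiK]
  have hw : ∃ x, m x = f ww := by
    obtain ⟨x, hx⟩ := exists_lift hF eF _ psi_unitary.2.1 psi_unitary.2.2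
    refine ⟨x, hx.trans (congrArg _ ?_)⟩
    show _ = psiK e ww
    simp [psiK]
  have hall : ∀ g, ∃ x, m x = f g := by
    intro g
    have hg : g ∈ Subgroup.closure ({uu (1 : K), ww} : Set SL(2, K)) := by
      rw [closure_gen e]; trivial
    induction hg using Subgroup.closure_induction with
    | mem x hx =>
      rcases hx with rfl | rfl
      exacts [hu, hw]
    | one => exact ⟨1, by rw [map_one, map_one]⟩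
    | mul x y _ _ hx hy =>
      obtain ⟨a, ha⟩ := hx
      obtain ⟨b, hb⟩ := hy
      exact ⟨a * b, by rw [map_mul, map_mul, ha, hb]⟩
    | inv x _ hx =>
      obtain ⟨a, ha⟩ := hx
      refine ⟨a⁻¹, left_inv_eq_right_inv (a := m a) ?_ ?_⟩
      · rw [← map_mul, inv_mul_cancel, map_one]
      · rw [ha, ← map_mul, mul_inv_cancel, map_one]
  choose x hx using hall
  let φ : SL(2, K) →* Cfsg.PSU 3 F 3 := (QuotientGroup.mk' _).comp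
    { toFun := x
      map_one' := hmi (by rw [hx, map_one, map_one])
      map_mul' := fun g h => hmi (by rw [hx, map_mul, map_mul, hx, hx]) }
  have hker : Subgroup.center SL(2, K) ≤ φ.ker := by
    intro g hg
    rcases PSL2.mem_center_iff_pm.1 hg with rfl | rfl
    · exact map_one φ
    · have h : x (-1) = 1 := hmi (by
        rw [hx, map_one]
        simp [hf, psiK, psi_const.2.1])
      show QuotientGroup.mk' _ (x (-1)) = 1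
      rw [h, map_one]
  let ψ : Matrix.ProjectiveSpecialLinearGroup (Fin 2) K →* Cfsg.PSU 3 F 3 :=
    QuotientGroup.lift _ φ hker
  haveI : IsSimpleGroup (Matrix.ProjectiveSpecialLinearGroup (Fin 2) K) :=
    PSL2.psl_isSimpleGroup (F := K) (by omega)
  rcases ψ.normal_ker.eq_bot_or_eq_top with hb | ht
  · exact ⟨ψ.range, ⟨(MonoidHom.ofInjective ((ψ.ker_eq_bot_iff).1 hb)).symm⟩⟩
  · exfalso
    have h1 : ψ (QuotientGroup.mk ww) = 1 := by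
      rw [← MonoidHom.mem_ker, ht]; trivial
    have h2 : x ww ∈ Subgroup.center (SU 3 F 3) := (QuotientGroup.eq_one_iff _).1 h1
    have h3 := congrArg m (Subgroup.mem_center_iff.1 h2 (x (uu 1)))
    rw [map_mul, map_mul, hx, hx] at h3
    simp only [hf, MonoidHom.comp_apply, RingHom.toMonoidHom_eq_coe, MonoidHom.coe_coe,
      MonoidHom.coe_mk, OneHom.coe_mk] at h3
    rw [← map_mul, ← map_mul] at h3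
    have h4 := Matrix.map_injective eF.injective h3
    simp [psiK, PSL2.uu, PSL2.ww] at h4
    exact psi_const.2.2 h4

end Cfsg.Agent.S1897
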