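import Cfsg.Statements.S1898
import Cfsg.Agent.Lib.RankTwo.Basic

set_option autoImplicit false
open Cfsg

namespace Cfsg.Agent.S1898

/-- Let X be a finite 2-group whose derived subgroup is elementary abelian and central. Then the subgroup generated by the elements of order dividing 4 has exponent dividing 4, and every automorphism of X fixing each element of order dividing 4 has 2-power order. -/
theorem result {X : Type*} [Group X] [Finite X] (hX : IsPGroup 2 X)
    (hel : Cfsg.IsElementaryAbelian 2 (commutator X)) (hcen : commutator X ≤ Subgroup.center X) :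
    (∀ x ∈ Subgroup.closure {g : X | g ^ 4 = 1}, x ^ 4 = 1) ∧
      ∀ φ : MulAut X, (∀ g : X, g ^ 4 = 1 → φ g = g) → ∃ k : ℕ, φ ^ (2 ^ k) = 1 := by
  have hz : ∀ a b : X, b⁻¹ * a⁻¹ * b * a ∈ commutator X := fun a b => by
    have := Subgroup.commutator_mem_commutator (Subgroup.mem_top b⁻¹) (Subgroup.mem_top a⁻¹)
    rw [commutator_def]; simpa [commutatorElement_def, mul_assoc] using this
  have hz2 : ∀ a b : X, (b⁻¹ * a⁻¹ * b * a) ^ 2 = 1 := fun a b => hel.2 _ (hz a b)
  have hzc : ∀ a b g : X, Commute (b⁻¹ * a⁻¹ * b * a) g := fun a b g =>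
    (Subgroup.mem_center_iff.mp (hcen (hz a b)) g).symm
  have hba : ∀ a b : X, b * a = a * b * (b⁻¹ * a⁻¹ * b * a) := fun a b => by group
  have hpow : ∀ (a b : X) (n : ℕ), (a * b) ^ n = a ^ n * b ^ n * (b⁻¹ * a⁻¹ * b * a) ^ n.choose 2 :=
    fun a b => RankTwo.mul_pow_of_central (hba a b) (hzc a b a) (hzc a b b)
  constructor
  · intro x hx
    induction hx using Subgroup.closure_induction with
    | mem y hy => exact hy
    | one => exact one_pow 4
    | mul a b _ _ iha ihb =>
      rw [hpow a b 4, iha, ihb, one_mul, one_mul, show (4 : ℕ).choose 2 = 2 * 3 from rfl, pow_mul,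
        hz2, one_pow]
    | inv a _ iha => rw [inv_pow, iha, inv_one]
  · intro φ hφ
    obtain ⟨k, m, hm, hkm⟩ := Nat.exists_eq_two_pow_mul_odd (orderOf_pos φ).ne'
    refine ⟨k, ?_⟩
    have hψm : (φ ^ 2 ^ k) ^ m = 1 := by rw [← pow_mul, ← hkm, pow_orderOf_eq_one]
    have hψfix : ∀ g : X, g ^ 4 = 1 → (φ ^ 2 ^ k) g = g := by
      intro g hg
      induction (2 ^ k) with
      | zero => simp
      | succ n ih => rw [pow_succ', MulAut.mul_apply, ih, hφ g hg]
    generalize φ ^ 2 ^ k = ψ at hψm hψfix
    have main : ∀ (j : ℕ) (x : X), x ^ 2 ^ j = 1 → ψ x = x := by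
      intro j
      induction j with
      | zero => intro x hx; rw [pow_zero, pow_one] at hx; rw [hx, map_one]
      | succ j ih =>
        intro x hx
        have hx2 : ψ (x ^ 2) = x ^ 2 := ih _ (by rw [← pow_mul, ← pow_succ']; exact hx)
        have hψx : ψ x = x * (x⁻¹ * ψ x) := (mul_inv_cancel_left _ _).symm
        generalize x⁻¹ * ψ x = g at hψx
        have hg2 : g ^ 2 * (g⁻¹ * x⁻¹ * g * x) = 1 := by
          have h := hpow x g 2
          rw [← hψx, ← map_pow, hx2, show (2 : ℕ).choose 2 = 1 from rfl, pow_one, mul_assoc] at h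
          exact mul_eq_left.mp h.symm
        have hg4 : g ^ 4 = 1 := by
          rw [show (4 : ℕ) = 2 * 2 from rfl, pow_mul, eq_inv_of_mul_eq_one_left hg2, inv_pow, hz2,
            inv_one]
        have hiter : ∀ n : ℕ, (ψ ^ n) x = x * g ^ n := by
          intro n
          induction n with
          | zero => simp
          | succ n ihn =>
            rw [pow_succ', MulAut.mul_apply, ihn, map_mul, hψx, map_pow, hψfix g hg4, mul_assoc, ← pow_succ']
        have hgm : g ^ m = 1 := by
          have h := hiter m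
          rw [hψm, MulAut.one_apply] at h
          exact mul_eq_left.mp h.symm
        have hg1 : g = 1 := by
          rw [← orderOf_eq_one_iff]
          have hcop : (4 : ℕ).Coprime m := (hm.coprime_two_left).pow_left 2
          exact Nat.eq_one_of_dvd_coprimes hcop (orderOf_dvd_of_pow_eq_one hg4) (orderOf_dvd_of_pow_eq_one hgm)
        rw [hψx, hg1, mul_one]
    apply MulEquiv.ext
    intro x
    obtain ⟨j, hj⟩ := hX x
    exact main j x hj

end Cfsg.Agent.S1898
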