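import Cfsg.Statements.S1899
-- import your own Cfsg.Agent.* helpers here

set_option autoImplicit false
open Cfsg

namespace Cfsg.Agent.S1899

/-- Let a dihedral group of order 2n, n odd and n > 1, act on a finite abelian 2-group A through automorphisms d and t with d^n = 1, t² = 1 and t d t⁻¹ = d⁻¹, and suppose that d fixes only the identity. Then A is the internal direct product of C_A(t) and its image under d. -/
theorem result {A : Type*} [CommGroup A] [Finite A] (hA : IsPGroup 2 A)
    {n : ℕ} (hn : Odd n) (hn1 : 1 < n) (d t : MulAut A) (hd : d ^ n = 1) (ht : t ^ 2 = 1) (hdt : t * d * t⁻¹ = d⁻¹)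
    (hfix : ∀ a : A, d a = a → a = 1) :
    (MulEquiv.toMonoidHom t).eqLocus (MonoidHom.id A) ⊓ ((MulEquiv.toMonoidHom t).eqLocus (MonoidHom.id A)).map d.toMonoidHom = ⊥ ∧
      (MulEquiv.toMonoidHom t).eqLocus (MonoidHom.id A) ⊔ ((MulEquiv.toMonoidHom t).eqLocus (MonoidHom.id A)).map d.toMonoidHom = ⊤ := by
  classical
  set C := (MulEquiv.toMonoidHom t).eqLocus (MonoidHom.id A) with hC
  have hmem : ∀ a : A, a ∈ C ↔ t a = a := fun a => Iff.rfl
  have htd : ∀ a, t (d a) = d⁻¹ (t a) := fun a => by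
    rw [← hdt]
    show t (d a) = t (d (t⁻¹ (t a)))
    simp
  have htd' : ∀ a, t (d⁻¹ a) = d (t a) := fun a => by
    apply (d⁻¹).injective
    rw [← htd]
    simp
  have hinj : ∀ a, d a = d⁻¹ a → a = 1 := fun a ha => by
    refine hfix a ?_
    have h2 : (d ^ 2) a = a := by
      show d (d a) = a
      conv_lhs => rw [ha]
      simp
    obtain ⟨m, rfl⟩ := hn
    have h3 : ∀ k : ℕ, (d ^ (2 * k)) a = a := by
      intro k
      induction k with
      | zero => simp
      | succ k ih =>
        rw [show 2 * (k + 1) = 2 * k + 2 by ring, pow_add]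
        show (d ^ (2 * k)) ((d ^ 2) a) = a
        rw [h2, ih]
    have h4 : (d ^ (2 * m + 1)) a = a := by rw [hd]; rfl
    rw [pow_succ'] at h4
    rwa [show (d * d ^ (2 * m)) a = d ((d ^ (2 * m)) a) from rfl, h3] at h4
  refine ⟨?_, ?_⟩
  · refine (Subgroup.eq_bot_iff_forall _).2 ?_
    rintro y ⟨hy, a, ha, rfl⟩
    have h1 : t (d a) = d a := hy
    rw [htd, (hmem a).1 ha] at h1
    simp [hinj a h1.symm]
  · let φ : A →* A := MonoidHom.mk' (fun a => d a / d⁻¹ a) fun a b => by
      simp [map_mul, mul_div_mul_comm]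
    have hφ : Function.Bijective φ := Finite.injective_iff_bijective.1
      ((MonoidHom.ker_eq_bot_iff φ).1 ((Subgroup.eq_bot_iff_forall _).2 fun a ha =>
        hinj a (div_eq_one.1 ha)))
    refine eq_top_iff.2 fun a _ => ?_
    obtain ⟨y, hy⟩ := hφ.2 (a / t a)
    have hy' : d y / d⁻¹ y = a / t a := hy
    have htt : ∀ b, t (t b) = b := fun b => by
      have := congrArg (fun f : MulAut A => f b) ht
      simpa [pow_two] using this
    have hyC : y ∈ C := by
      refine (hmem y).2 (hφ.1 ?_)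
      show d (t y) / d⁻¹ (t y) = d y / d⁻¹ y
      rw [← htd, ← htd', ← map_div, ← inv_div, hy', map_inv, map_div, htt, inv_div]
    have hxC : a / d y ∈ C := by
      refine (hmem _).2 ?_
      rw [map_div, htd, (hmem y).1 hyC, div_eq_div_iff_mul_eq_mul]
      rw [div_eq_div_iff_mul_eq_mul] at hy'
      rw [mul_comm, hy']
    rw [← div_mul_cancel a (d y)]
    exact Subgroup.mul_mem_sup hxC ⟨y, hyC, rfl⟩

end Cfsg.Agent.S1899
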