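import Cfsg.Statements.S1900
import Cfsg.Agent.Lib.Coprime.Commutator
import Cfsg.Agent.Lib.Coprime.Generation
import Cfsg.Agent.Lib.Coprime.Quotient
import Cfsg.Agent.Lib.Coprime.Sylow

set_option autoImplicit false
open Cfsg

namespace Cfsg.Agent.S1900
open scoped commutatorElement


open Subgroup in
/-- Half of the bilinearity argument: modulo `N ≥ [W, P]` the commutators lie in `W ∩ C₁`. -/
theorem half {S : Type*} [Group S] (P W N C₁ C₂ X₂ : Subgroup S) [N.Normal] (hWP : ⁅W, P⁆ ≤ N)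
    (h1P : C₁ ≤ P) (h2P : C₂ ≤ P) (hW : W ≤ P) (hgen : W ≤ (W ⊓ C₁) ⊔ (W ⊓ C₂))
    (hfix : C₁ ≤ ⁅C₁, X₂⁆) (hn : X₂ ≤ normalizer ((W ⊓ C₁ : Subgroup S) : Set S))
    (hn1 : X₂ ≤ normalizer (C₁ : Set S))
    (hc : X₂ ≤ centralizer (C₂ : Set S)) (hcomm : ⁅C₁, C₂⁆ ≤ W) {c₁ c₂ : S} (hc₁ : c₁ ∈ C₁) (hc₂ : c₂ ∈ C₂) :
    ⁅(c₁ : S ⧸ N), (c₂ : S ⧸ N)⁆ ∈ (W ⊓ C₁).map (QuotientGroup.mk' N) := by
  let g := QuotientGroup.mk' N
  have hcen : ∀ w ∈ W, ∀ y ∈ P, g w * g y = g y * g w := by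
    intro w hw y hy
    rw [← commutatorElement_eq_one_iff_mul_comm, ← map_commutatorElement]
    exact (QuotientGroup.eq_one_iff _).2 (hWP (commutator_mem_commutator hw hy))
  have hd : ∀ c : C₁, ⁅(c : S), c₂⁆ ∈ W := fun c => hcomm (commutator_mem_commutator c.2 hc₂)
  let φ : C₁ →* S ⧸ N :=
    { toFun := fun c => g ⁅(c : S), c₂⁆
      map_one' := by simp
      map_mul' := fun a b => by
        have e : ⁅((a * b : C₁) : S), c₂⁆ = (a : S) * ⁅(b : S), c₂⁆ * (a : S)⁻¹ * ⁅(a : S), c₂⁆ := by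
          rw [Subgroup.coe_mul]
          simp only [commutatorElement_def]
          group
        show g _ = g _ * g _
        rw [e]
        simp only [map_mul, map_inv]
        rw [← hcen _ (hd b) _ (h1P a.2), mul_inv_cancel_right]
        exact hcen _ (hd b) _ (hW (hd a)) }
  have hker : C₁ ≤ (((W ⊓ C₁).map g).comap φ).map C₁.subtype := by
    refine hfix.trans (Subgroup.commutator_le.2 fun c hc' x hx => ?_)
    have hx' : x * c⁻¹ * x⁻¹ ∈ C₁ := (mem_normalizer_iff.1 (hn1 hx) _).1 (inv_mem hc')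
    refine ⟨⟨c, hc'⟩ * ⟨_, hx'⟩, ?_, by simp [commutatorElement_def, mul_assoc]⟩
    rw [SetLike.mem_coe, mem_comap, map_mul]
    have e2 : φ ⟨_, hx'⟩ = g x * (φ ⟨c, hc'⟩)⁻¹ * (g x)⁻¹ := by
      have h1 : φ (⟨c, hc'⟩⁻¹) = (φ ⟨c, hc'⟩)⁻¹ := map_inv φ _
      rw [← h1]
      show g ⁅x * c⁻¹ * x⁻¹, c₂⁆ = g x * g ⁅c⁻¹, c₂⁆ * (g x)⁻¹
      rw [← map_inv, ← map_mul, ← map_mul]
      congr 1
      conv_rhs => rw [conjugate_commutatorElement]
      congr 1
      rw [← mem_centralizer_iff.1 (hc hx) c₂ hc₂, mul_inv_cancel_right]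
    rw [e2]
    have hm : g ⁅c, c₂⁆ ∈ ((W ⊓ C₁) ⊔ (W ⊓ C₂)).map g := mem_map_of_mem g (hgen (hd ⟨c, hc'⟩))
    have hnorm : (W ⊓ C₁).map g ≤ normalizer (((W ⊓ C₂).map g : Subgroup (S ⧸ N)) : Set (S ⧸ N)) := by
      refine LE.le.trans ?_ (centralizer_le_normalizer _)
      rintro _ ⟨a, ha, rfl⟩
      rw [mem_centralizer_iff]
      rintro _ ⟨b, hb, rfl⟩
      exact hcen b hb.1 a (hW ha.1)
    rw [Subgroup.map_sup, Coprime.mem_sup_iff_of_le_normalizer hnorm] at hm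
    obtain ⟨_, ⟨w₁, hw₁, rfl⟩, _, ⟨w₂, hw₂, rfl⟩, e⟩ := hm
    show g ⁅c, c₂⁆ * (g x * (g ⁅c, c₂⁆)⁻¹ * (g x)⁻¹) ∈ _
    rw [← e]
    refine ⟨w₁ * (x * w₁⁻¹ * x⁻¹), mul_mem hw₁ ((mem_normalizer_iff.1 (hn hx) _).1 (inv_mem hw₁)), ?_⟩
    have hxw : g w₂ * g x = g x * g w₂ := by
      rw [← map_mul, ← map_mul, mem_centralizer_iff.1 (hc hx) w₂ hw₂.2]
    simp only [map_mul, map_inv]
    calc g w₁ * (g x * (g w₁)⁻¹ * (g x)⁻¹)
        = g w₁ * g w₂ * g x * ((g x * g w₂)⁻¹ * g x) * (g w₁)⁻¹ * (g x)⁻¹ := by rw [← hxw]; group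
      _ = g w₁ * g w₂ * (g x * (g w₁ * g w₂)⁻¹ * (g x)⁻¹) := by group
  obtain ⟨c, hc', hcc⟩ := hker hc₁
  have := (mem_comap.1 hc' : φ c ∈ (W ⊓ C₁).map g)
  subst hcc
  exact this

/-- Let S = PQ be a finite group with P a normal Sylow p-subgroup and Q elementary abelian of order q², q a prime different from p. If exactly two subgroups X₁, X₂ of order q in Q have a nontrivial centralizer in P, then P is the internal direct product of C_P(X₁) and C_P(X₂): they commute elementwise, meet trivially and generate P. -/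

theorem result {S : Type*} [Group S] [Finite S] {p q : ℕ} [Fact p.Prime] [Fact q.Prime] (hpq : p ≠ q)
    (P : Sylow p S) [(P : Subgroup S).Normal] (Q : Subgroup S) (hQ : Cfsg.IsElementaryAbelian q Q) (hQc : Nat.card Q = q ^ 2)
    (hS : (P : Subgroup S) ⊔ Q = ⊤)
    (X₁ X₂ : Subgroup S) (h₁ : X₁ ≤ Q) (h₂ : X₂ ≤ Q) (h₁₂ : X₁ ≠ X₂) (hc₁ : Nat.card X₁ = q) (hc₂ : Nat.card X₂ = q)
    (hf₁ : (P : Subgroup S) ⊓ Subgroup.centralizer (X₁ : Set S) ≠ ⊥)
    (hf₂ : (P : Subgroup S) ⊓ Subgroup.centralizer (X₂ : Set S) ≠ ⊥)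
    (honly : ∀ X : Subgroup S, X ≤ Q → Nat.card X = q →
      (P : Subgroup S) ⊓ Subgroup.centralizer (X : Set S) ≠ ⊥ → X = X₁ ∨ X = X₂) :
    ⁅(P : Subgroup S) ⊓ Subgroup.centralizer (X₁ : Set S), (P : Subgroup S) ⊓ Subgroup.centralizer (X₂ : Set S)⁆ = ⊥ ∧
      ((P : Subgroup S) ⊓ Subgroup.centralizer (X₁ : Set S)) ⊓ ((P : Subgroup S) ⊓ Subgroup.centralizer (X₂ : Set S)) = ⊥ ∧
      ((P : Subgroup S) ⊓ Subgroup.centralizer (X₁ : Set S)) ⊔ ((P : Subgroup S) ⊓ Subgroup.centralizer (X₂ : Set S)) = P := by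
  obtain ⟨hQm, hQq⟩ := hQ
  haveI := hQm
  set C₁ := (P : Subgroup S) ⊓ Subgroup.centralizer (X₁ : Set S) with hC₁
  set C₂ := (P : Subgroup S) ⊓ Subgroup.centralizer (X₂ : Set S) with hC₂
  have hq : q.Prime := Fact.out
  obtain ⟨m, hm⟩ := IsPGroup.iff_card.1 P.isPGroup'
  have hPnorm : ∀ H : Subgroup S, H ≤ Subgroup.normalizer ((P : Subgroup S) : Set S) := fun H => by
    rw [Subgroup.normalizer_eq_top_iff.2 ‹(P : Subgroup S).Normal›]
    exact le_top
  have hcopQ : ∀ H : Subgroup S, H ≤ Q → ∀ K : Subgroup S, K ≤ (P : Subgroup S) →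
      (Nat.card H).Coprime (Nat.card K) := fun H hH K hK => by
    have h1 : (Nat.card Q).Coprime (Nat.card (P : Subgroup S)) := by
      rw [hQc, hm]
      exact Nat.Coprime.pow _ _ ((Nat.coprime_primes hq Fact.out).2 (Ne.symm hpq))
    exact (h1.coprime_dvd_left (Subgroup.card_dvd_of_le hH)).coprime_dvd_right (Subgroup.card_dvd_of_le hK)
  have hcyc : ∀ (X : Subgroup S), Nat.card X = q → ∀ a ∈ X, a ≠ 1 → Subgroup.zpowers a = X := fun X hX a ha ha1 => by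
    refine Subgroup.eq_of_le_of_card_ge (Subgroup.zpowers_le.2 ha) ?_
    rw [hX, Nat.card_zpowers]
    have : orderOf a ∣ q := hX ▸ Subgroup.orderOf_dvd_natCard X ha
    exact ((hq.eq_one_or_self_of_dvd _ this).resolve_left (orderOf_eq_one_iff.not.2 ha1)).ge
  have hord : ∀ a ∈ Q, a ≠ 1 → Nat.card (Subgroup.zpowers a) = q := fun a ha ha1 => by
    rw [Nat.card_zpowers]
    exact orderOf_eq_prime (hQq a ha) ha1
  -- generation, for every `Q`-invariant subgroup of `P`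
  have hgen : ∀ W : Subgroup S, W ≤ (P : Subgroup S) → Q ≤ Subgroup.normalizer (W : Set S) →
      W ≤ (W ⊓ C₁) ⊔ (W ⊓ C₂) := by
    intro W hW hQW
    refine le_of_eq (Coprime.eq_of_forall_centralizer_le ?_ hQW (hcopQ Q le_rfl W hW)
      (sup_le inf_le_left inf_le_left) fun a ha ha1 => ?_).symm
    · intro hc
      obtain ⟨g, hg⟩ := IsCyclic.exists_ofOrder_eq_natCard (α := Q)
      rw [hQc] at hg
      have h1 : orderOf g ∣ q := orderOf_dvd_of_pow_eq_one (Subtype.ext (hQq g g.2))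
      rw [hg] at h1
      have h2 := Nat.le_of_dvd hq.pos h1
      have h3 := hq.two_le
      nlinarith
    · intro w hw
      rcases eq_or_ne w 1 with rfl | hw1
      · exact one_mem _
      have hwC : w ∈ (P : Subgroup S) ⊓ Subgroup.centralizer ((Subgroup.zpowers a : Subgroup S) : Set S) := by
        refine ⟨hW hw.1, ?_⟩
        rw [← Subgroup.centralizer_closure, ← Subgroup.zpowers_eq_closure] at hw
        exact hw.2
      have hne : (P : Subgroup S) ⊓ Subgroup.centralizer ((Subgroup.zpowers a : Subgroup S) : Set S) ≠ ⊥ :=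
        fun h => hw1 (Subgroup.mem_bot.1 (h ▸ hwC))
      rcases honly _ (Subgroup.zpowers_le.2 ha) (hord a ha ha1) hne with h | h <;> rw [h] at hwC
      · exact Subgroup.mem_sup_left ⟨hw.1, hwC⟩
      · exact Subgroup.mem_sup_right ⟨hw.1, hwC⟩
  -- `C₁ ∩ C₂ = 1`
  have hdisj : C₁ ⊓ C₂ = ⊥ := by
    rw [eq_bot_iff]
    intro w hw
    by_contra hw1
    rw [Subgroup.mem_bot] at hw1
    obtain ⟨a, ha, ha1⟩ := (Subgroup.ne_bot_iff_exists_ne_one.1 (fun h : X₁ = ⊥ => hq.ne_one (by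
      rw [← hc₁, h, Subgroup.card_bot])) : ∃ a : X₁, a ≠ 1) |> fun ⟨a, h⟩ => (⟨a, a.2, by simpa using h⟩ :
        ∃ a : S, a ∈ X₁ ∧ a ≠ 1)
    obtain ⟨b, hb, hb1⟩ := (Subgroup.ne_bot_iff_exists_ne_one.1 (fun h : X₂ = ⊥ => hq.ne_one (by
      rw [← hc₂, h, Subgroup.card_bot])) : ∃ b : X₂, b ≠ 1) |> fun ⟨b, h⟩ => (⟨b, b.2, by simpa using h⟩ :
        ∃ b : S, b ∈ X₂ ∧ b ≠ 1)
    have hab : a * b ≠ 1 := fun h => h₁₂ (by
      rw [← hcyc X₁ hc₁ a ha ha1, ← hcyc X₂ hc₂ b hb hb1, eq_inv_of_mul_eq_one_right h, Subgroup.zpowers_inv])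
    have hne : (P : Subgroup S) ⊓ Subgroup.centralizer ((Subgroup.zpowers (a * b) : Subgroup S) : Set S) ≠ ⊥ :=
      fun h => hw1 (Subgroup.mem_bot.1 (h ▸ ⟨hw.1.1, by
        show w ∈ Subgroup.centralizer ((Subgroup.zpowers (a * b) : Subgroup S) : Set S)
        rw [Subgroup.zpowers_eq_closure, Subgroup.centralizer_closure, Subgroup.mem_centralizer_singleton_iff]
        rw [← mul_assoc, ← Subgroup.mem_centralizer_iff.1 hw.1.2 a ha, mul_assoc,
          ← Subgroup.mem_centralizer_iff.1 hw.2.2 b hb, mul_assoc]⟩))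
    rcases honly _ (Subgroup.zpowers_le.2 (mul_mem (h₁ ha) (h₂ hb)))
        (hord _ (mul_mem (h₁ ha) (h₂ hb)) hab) hne with h | h
    · have : b ∈ X₁ := (Subgroup.mul_mem_cancel_left X₁ ha).1 (h ▸ Subgroup.mem_zpowers (a * b))
      exact h₁₂ ((hcyc X₁ hc₁ b this hb1).symm.trans (hcyc X₂ hc₂ b hb hb1))
    · have : a ∈ X₂ := (Subgroup.mul_mem_cancel_right X₂ hb).1 (h ▸ Subgroup.mem_zpowers (a * b))
      exact h₁₂ ((hcyc X₁ hc₁ a ha ha1).symm.trans (hcyc X₂ hc₂ a this ha1))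
  have hjoin : C₁ ⊔ C₂ = (P : Subgroup S) :=
    le_antisymm (sup_le inf_le_left inf_le_left)
      ((hgen _ le_rfl (hPnorm Q)).trans (sup_le_sup inf_le_right inf_le_right))
  have hQnorm : ∀ X : Subgroup S, X ≤ Q →
      Q ≤ Subgroup.normalizer (((P : Subgroup S) ⊓ Subgroup.centralizer (X : Set S) : Subgroup S) : Set S) :=
    fun X hX => Coprime.le_normalizer_inf_of_le (hPnorm Q)
      (((Subgroup.le_centralizer Q).trans (Subgroup.centralizer_le hX)).trans Subgroup.le_normalizer)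
  have hfix : ∀ A B : Subgroup S, A ≤ Q → B ≤ Q →
      ((P : Subgroup S) ⊓ Subgroup.centralizer (A : Set S)) ⊓ ((P : Subgroup S) ⊓ Subgroup.centralizer (B : Set S)) = ⊥ →
      (P : Subgroup S) ⊓ Subgroup.centralizer (A : Set S) ≤ ⁅(P : Subgroup S) ⊓ Subgroup.centralizer (A : Set S), B⁆ := by
    intro A B hA hB h0
    have := Coprime.commutator_sup_centralizer (A := B)
      (K := (P : Subgroup S) ⊓ Subgroup.centralizer (A : Set S)) (hB.trans (hQnorm A hA))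
      (hcopQ B hB _ inf_le_left)
      (Or.inl (Coprime.isSolvable_of_le hB (Group.isSolvable_of_comm fun a b => mul_comm' a b)))
    have h1 : ((P : Subgroup S) ⊓ Subgroup.centralizer (A : Set S)) ⊓ Subgroup.centralizer (B : Set S) = ⊥ := by
      rw [eq_bot_iff, ← h0]
      exact le_inf inf_le_left (le_inf (inf_le_left.trans inf_le_left) inf_le_right)
    rw [h1, sup_bot_eq] at this
    exact this.ge
  -- descent along normal subgroups containing `[C₁, C₂]`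
  have hdesc : ∀ k : ℕ, ∀ W : Subgroup S, Nat.card W = k → W.Normal → W ≤ (P : Subgroup S) →
      ⁅C₁, C₂⁆ ≤ W → ⁅C₁, C₂⁆ = ⊥ := by
    intro k
    induction k using Nat.strong_induction_on with
    | _ k ih =>
    intro W hk hWn hWP hle
    rcases eq_or_ne W ⊥ with rfl | hWne
    · exact le_bot_iff.1 hle
    have hlt := Coprime.commutator_lt_of_isPGroup P.isPGroup' (P.isPGroup'.to_le hWP)
      (by rw [Subgroup.normalizer_eq_top_iff.2 hWn]; exact le_top) hWne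
    haveI := hWn
    set N := ⁅W, (P : Subgroup S)⁆ with hN
    refine ih _ (hk ▸ Set.ncard_lt_ncard hlt) N rfl inferInstance (hlt.le.trans hWP) ?_
    have hQW : Q ≤ Subgroup.normalizer (W : Set S) := by
      rw [Subgroup.normalizer_eq_top_iff.2 hWn]; exact le_top
    refine Subgroup.commutator_le.2 fun c₁ hc₁' c₂ hc₂' => ?_
    rw [← QuotientGroup.eq_one_iff]
    let g := QuotientGroup.mk' N
    have hA : g ⁅c₁, c₂⁆ ∈ (W ⊓ C₁).map g := by
      rw [map_commutatorElement]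
      exact half (P : Subgroup S) W N C₁ C₂ X₂ le_rfl inf_le_left inf_le_left hWP (hgen W hWP hQW)
        (hfix X₁ X₂ h₁ h₂ hdisj) (Coprime.le_normalizer_inf_of_le (h₂.trans hQW) (h₂.trans (hQnorm X₁ h₁)))
        (h₂.trans (hQnorm X₁ h₁)) (Subgroup.le_centralizer_iff.1 inf_le_right) hle hc₁' hc₂'
    have hB : g ⁅c₁, c₂⁆ ∈ (W ⊓ C₂).map g := by
      rw [← inv_mem_iff, ← map_inv, commutatorElement_inv, map_commutatorElement]
      exact half (P : Subgroup S) W N C₂ C₁ X₁ le_rfl inf_le_left inf_le_left hWP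
        ((hgen W hWP hQW).trans_eq (sup_comm _ _))
        (hfix X₂ X₁ h₂ h₁ (by rw [inf_comm]; exact hdisj))
        (Coprime.le_normalizer_inf_of_le (h₁.trans hQW) (h₁.trans (hQnorm X₂ h₂)))
        (h₁.trans (hQnorm X₂ h₂)) (Subgroup.le_centralizer_iff.1 inf_le_right)
        (by rw [Subgroup.commutator_comm]; exact hle) hc₂' hc₁'
    have hmem : g ⁅c₁, c₂⁆ ∈ ((P : Subgroup S) ⊓ Subgroup.centralizer ((X₁ ⊔ X₂ : Subgroup S) : Set S)).map g := by
      rw [Coprime.map_mk'_inf_centralizer N (hPnorm _) (hcopQ _ (sup_le h₁ h₂) _ le_rfl)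
        (Or.inl (Coprime.isSolvable_of_le (sup_le h₁ h₂) (Group.isSolvable_of_comm fun a b => mul_comm' a b)))]
      refine ⟨Subgroup.map_mono (inf_le_left.trans hWP) hA, ?_⟩
      have h1 : ((X₁ ⊔ X₂).map g) ≤ Subgroup.centralizer {g ⁅c₁, c₂⁆} := by
        rw [Subgroup.map_sup]
        refine sup_le ?_ ?_
        · obtain ⟨w, hw, e⟩ := hA
          rintro _ ⟨x, hx, rfl⟩
          rw [← e, Subgroup.mem_centralizer_singleton_iff, ← map_mul, ← map_mul,
            Subgroup.mem_centralizer_iff.1 hw.2.2 x hx]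
        · obtain ⟨w, hw, e⟩ := hB
          rintro _ ⟨x, hx, rfl⟩
          rw [← e, Subgroup.mem_centralizer_singleton_iff, ← map_mul, ← map_mul,
            Subgroup.mem_centralizer_iff.1 hw.2.2 x hx]
      exact Subgroup.mem_centralizer_iff.2 fun y hy => (Subgroup.mem_centralizer_singleton_iff.1 (h1 hy))
    have h0 : (P : Subgroup S) ⊓ Subgroup.centralizer ((X₁ ⊔ X₂ : Subgroup S) : Set S) = ⊥ := by
      rw [eq_bot_iff, ← hdisj]
      exact le_inf (inf_le_inf_left _ (Subgroup.centralizer_le (le_sup_left : X₁ ≤ X₁ ⊔ X₂)))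
        (inf_le_inf_left _ (Subgroup.centralizer_le (le_sup_right : X₂ ≤ X₁ ⊔ X₂)))
    rw [h0, Subgroup.map_bot, Subgroup.mem_bot] at hmem
    exact hmem
  refine ⟨hdesc _ (P : Subgroup S) rfl inferInstance le_rfl ?_, hdisj, hjoin⟩
  exact (Subgroup.commutator_mono inf_le_left inf_le_left).trans (Subgroup.commutator_le_left _ _)

end Cfsg.Agent.S1900
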