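import Cfsg.Statements.S1901
import Cfsg.Agent.Lib.Coprime.Commutator
import Cfsg.Agent.Lib.Coprime.Basic
import Cfsg.Agent.Lib.Coprime.Generation
import Cfsg.Agent.Lib.PCore.PSolvable
import Cfsg.Agent.Lib.Components.Wielandt

set_option autoImplicit false
open Cfsg

namespace Cfsg.Agent.S1901

universe v

open Subgroup in
/-- A `p`-element normalising a `p'`-subgroup `Q` which normalises a Sylow `p`-subgroup centralises `Q`. -/
theorem mem_centralizer_aux (n : ℕ) : ∀ (G : Type v) [Group G] [Finite G], Nat.card G = n →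
    ∀ {p : ℕ} [Fact p.Prime], Cfsg.IsPSolvable p G → ∀ (Q : Subgroup G), ¬ p ∣ Nat.card Q →
    ∀ (P : Sylow p G), Q ≤ normalizer ((P : Subgroup G) : Set G) →
    ∀ (x : G) (k : ℕ), x ^ p ^ k = 1 → x ∈ normalizer (Q : Set G) → x ∈ centralizer (Q : Set G) := by
  induction n using Nat.strong_induction_on with
  | _ n ih =>
  intro G _ _ hn p hp hG Q hQ P hQP x k hx hxN
  by_contra hxC
  haveI : Nontrivial G := ⟨⟨x, 1, fun h => hxC (h ▸ one_mem _)⟩⟩
  set X := zpowers x with hX
  have hXQ : X ≤ normalizer (Q : Set G) := zpowers_le.2 hxN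
  have hcop : (Nat.card X).Coprime (Nat.card Q) := by
    rw [hX, Nat.card_zpowers]
    exact (((hp.out.coprime_iff_not_dvd).2 hQ).pow_left k).coprime_dvd_left (orderOf_dvd_of_pow_eq_one hx)
  have hs : Group.IsSolvable X ∨ Group.IsSolvable Q :=
    Or.inl (Group.isSolvable_of_comm fun a b => mul_comm' a b)
  set Q₁ := ⁅Q, X⁆ with hQ₁
  have hQ₁X : ⁅Q₁, X⁆ = Q₁ := Coprime.commutator_commutator_eq hXQ hcop hs
  have hQ₁Q : Q₁ ≤ Q := Coprime.commutator_le_left_of_le_normalizer hXQ
  have hQ₁ne : Q₁ ≠ ⊥ := by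
    rw [hQ₁, Ne, ← Coprime.le_centralizer_iff_commutator_eq_bot]
    exact fun h => hxC (h (mem_zpowers x))
  obtain ⟨N, hN, hNne, -, hNmin⟩ := Components.exists_minimalNormal_le (G := G) (N := ⊤) inferInstance top_ne_bot
  -- induction in `G ⧸ N`
  have hlt : Nat.card (G ⧸ N) < n := by
    rw [← hn, Subgroup.card_eq_card_quotient_mul_card_subgroup N]
    exact lt_mul_of_one_lt_right Nat.card_pos ((one_lt_card_iff_ne_bot N).2 hNne)
  let f := QuotientGroup.mk' N
  have hf : Function.Surjective f := QuotientGroup.mk'_surjective N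
  have hxf : f x ∈ centralizer ((Q.map f : Subgroup (G ⧸ N)) : Set (G ⧸ N)) := by
    refine ih _ hlt (G ⧸ N) rfl (PCore.isPSolvable_quotient hG N) _
      (fun h => hQ (h.trans (card_map_dvd Q f))) (P.mapSurjective hf) ?_ _ k ?_ ?_
    · rw [Sylow.coe_mapSurjective]
      exact (map_mono hQP).trans (le_normalizer_map f)
    · rw [← map_pow, hx, map_one]
    · exact le_normalizer_map f (mem_map_of_mem f hxN)
  have hQ₁N : Q₁ ≤ N := by
    have h1 : X.map f ≤ centralizer ((Q.map f : Subgroup (G ⧸ N)) : Set (G ⧸ N)) := by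
      rw [hX, MonoidHom.map_zpowers]
      exact zpowers_le.2 hxf
    rw [Coprime.le_centralizer_iff_commutator_eq_bot, ← map_commutator, Subgroup.map_eq_bot_iff,
      QuotientGroup.ker_mk'] at h1
    exact h1
  rcases PCore.isPGroup_or_coprime_of_minimal_normal hG N hNmin with hNp | hNp
  · obtain ⟨m, hm⟩ := IsPGroup.iff_card.1 hNp
    refine hQ₁ne (eq_bot_iff.2 ?_)
    rw [← Coprime.disjoint_of_coprime_card (H := Q) (K := N)
      (by rw [hm]; exact ((hp.out.coprime_iff_not_dvd).2 hQ).symm.pow_right m)]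
    exact le_inf hQ₁Q hQ₁N
  · obtain ⟨m, hm⟩ := IsPGroup.iff_card.1 P.isPGroup'
    have hPQ₁ : (P : Subgroup G) ≤ centralizer (Q₁ : Set G) := by
      rw [Coprime.le_centralizer_iff_commutator_eq_bot, eq_bot_iff,
        ← Coprime.disjoint_of_coprime_card (H := (P : Subgroup G)) (K := N)
          (by rw [hm]; exact hNp.symm.pow_left m)]
      refine le_inf ?_ ((commutator_mono hQ₁N le_rfl).trans (commutator_le_left _ _))
      rw [commutator_comm]
      exact (commutator_mono le_rfl hQ₁Q).trans (Coprime.commutator_le_left_of_le_normalizer hQP)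
    set C := centralizer (Q₁ : Set G) with hC
    set M := normalizer (Q₁ : Set G) with hM
    have hxM : x ∈ M := by
      refine (le_normalizer_iff_commutator_le_left.2 (le_of_eq hQ₁X)) (mem_zpowers x)
    have hCM : C ≤ M := centralizer_le_normalizer _
    have hnd : ¬ p ∣ C.relIndex M := fun h =>
      P.not_dvd_index ((h.trans (Dvd.intro _ (relIndex_mul_index hCM))).trans (index_dvd_of_le hPQ₁))
    haveI : (C.subgroupOf M).Normal :=
      Coprime.normal_subgroupOf_of_le_normalizer ((Coprime.le_normalizer_centralizer le_rfl))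
    have hxC₁ : x ∈ C := by
      have h1 : orderOf (QuotientGroup.mk' (C.subgroupOf M) ⟨x, hxM⟩) = 1 := by
        refine Nat.eq_one_of_dvd_coprimes (((hp.out.coprime_iff_not_dvd).2 hnd).pow_left k) ?_
          (orderOf_dvd_natCard (G := M ⧸ C.subgroupOf M) _)
        refine orderOf_dvd_of_pow_eq_one ?_
        have h2 : (⟨x, hxM⟩ : M) ^ p ^ k = 1 := Subtype.ext hx
        rw [← map_pow, h2, map_one]
      exact mem_subgroupOf.1 ((QuotientGroup.eq_one_iff (N := C.subgroupOf M) (⟨x, hxM⟩ : M)).1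
        (orderOf_eq_one_iff.1 h1))
    refine hQ₁ne ?_
    rw [← hQ₁X, ← Coprime.le_centralizer_iff_commutator_eq_bot]
    exact zpowers_le.2 hxC₁

/-- Let G be a finite p-solvable group and Q a subgroup of order prime to p such that p divides the index of C_G(Q) in N_G(Q). Then Q normalizes no Sylow p-subgroup of G. -/
theorem result {G : Type*} [Group G] [Finite G] {p : ℕ} [Fact p.Prime]
    (hG : Cfsg.IsPSolvable p G) (Q : Subgroup G) (hQ : ¬ p ∣ Nat.card Q)
    (hA : p ∣ (Subgroup.centralizer (Q : Set G)).relIndex (Subgroup.normalizer (Q : Set G)))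
    (P : Sylow p G) : ¬ Q ≤ Subgroup.normalizer ((P : Subgroup G) : Set G) := by
  intro hQP
  haveI hCn : ((Subgroup.centralizer (Q : Set G)).subgroupOf (Subgroup.normalizer (Q : Set G))).Normal :=
    Coprime.normal_subgroupOf_of_le_normalizer ((Coprime.le_normalizer_centralizer le_rfl))
  let S : Sylow p (Subgroup.normalizer (Q : Set G)) := default
  refine S.not_dvd_index (hA.trans (Subgroup.index_dvd_of_le ?_))
  intro y hy
  obtain ⟨k, hk⟩ := S.isPGroup' ⟨y, hy⟩
  exact mem_centralizer_aux _ G rfl hG Q hQ P hQP (y : G) k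
    (by simpa using congrArg (fun z : (S : Subgroup (Subgroup.normalizer (Q : Set G))) =>
      ((z : Subgroup.normalizer (Q : Set G)) : G)) hk) y.2

end Cfsg.Agent.S1901
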