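import Cfsg.Statements.S1902
import Cfsg.Agent.Lib.Signalizer.Family

set_option autoImplicit false
open Cfsg
open scoped Pointwise

namespace Cfsg.Agent.S1902

/-- Let p be an odd prime, G a finite p-solvable group, and B an elementary abelian subgroup of order p² such that B is the subgroup generated by the elements of order p of some Sylow p-subgroup of C_G(b₀), for some nontrivial b₀ ∈ B. Then every B-invariant subgroup of G of order prime to p lies in O_{p'}(G). -/
theorem result {G : Type*} [Group G] [Finite G] {p : ℕ} [Fact p.Prime] (hp : p ≠ 2)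
    (hG : Cfsg.IsPSolvable p G) (B : Subgroup G) (hB : Cfsg.IsElementaryAbelian p B) (hBc : Nat.card B = p ^ 2)
    (b₀ : G) (hb₀ : b₀ ∈ B) (hb₁ : b₀ ≠ 1) (P : Sylow p ↥(Subgroup.centralizer ({b₀} : Set G)))
    (hBP : B = Subgroup.closure {x : G | x ∈ ((P : Subgroup ↥(Subgroup.centralizer ({b₀} : Set G))).map
      (Subgroup.centralizer ({b₀} : Set G)).subtype : Subgroup G) ∧ orderOf x = p})
    (Q : Subgroup G) (hQ : ¬ p ∣ Nat.card Q) (hinv : ∀ b ∈ B, ∀ x ∈ Q, b * x * b⁻¹ ∈ Q) :
    Q ≤ Cfsg.pPrimeCore p G := by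
  refine Cfsg.Agent.OddOrder.le_pPrimeCore_of_omega hp (Cfsg.Agent.PCore.isPConstrained_of_isPSolvable hG)
    (A := B) (fun b => ⟨1, Subtype.ext (by simpa using hB.2 b b.2)⟩)
    (((Nat.Prime.coprime_iff_not_dvd Fact.out).mpr hQ).symm)
    (fun b hb => Subgroup.mem_normalizer_iff.mpr fun x =>
      ⟨hinv b hb x, fun h => by simpa [mul_assoc] using hinv b⁻¹ (B.inv_mem hb) _ h⟩) fun x hx hxp => ?_
  by_contra hxB
  have hx1 : x ≠ 1 := fun h => hxB (h ▸ B.one_mem)
  have hBC : B ≤ (Subgroup.centralizer ({b₀} : Set G)) := fun b hb => Subgroup.mem_centralizer_singleton_iff.mpr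
    (congrArg Subtype.val (hB.1.1.comm (⟨b, hb⟩ : B) ⟨b₀, hb₀⟩))
  have hxC : x ∈ (Subgroup.centralizer ({b₀} : Set G)) := Subgroup.mem_centralizer_singleton_iff.mpr (Subgroup.mem_centralizer_iff.mp hx b₀ hb₀).symm
  have hH : IsPGroup p ↥(B ⊔ Subgroup.zpowers x) :=
    IsPGroup.to_sup_of_normal_right' (fun b => ⟨1, Subtype.ext (by simpa using hB.2 b b.2)⟩)
      (IsPGroup.of_card (n := 1) (by rw [Nat.card_zpowers, orderOf_eq_prime hxp hx1, pow_one]))
      ((Subgroup.le_centralizer_iff.mpr (Subgroup.zpowers_le.mpr hx)).trans (Subgroup.centralizer_le_normalizer _))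
  obtain ⟨T, hT⟩ := (hH.comap_of_injective (Subgroup.centralizer ({b₀} : Set G)).subtype (Subgroup.centralizer ({b₀} : Set G)).subtype_injective).exists_le_sylow
  obtain ⟨g, rfl⟩ := MulAction.exists_smul_eq (Subgroup.centralizer ({b₀} : Set G)) P T
  have hH' : B ⊔ Subgroup.zpowers x ≤ MulAut.conj (g : G) • B := by
    have key : ∀ y ∈ B ⊔ Subgroup.zpowers x, y ^ p = 1 → y ∈ MulAut.conj (g : G) • B := by
      intro y hy hyp
      rcases eq_or_ne y 1 with rfl | hy1
      · exact Subgroup.one_mem _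
      rw [Cfsg.Agent.Coprime.mem_conj_smul_iff, hBP]
      refine Subgroup.subset_closure ⟨?_, orderOf_eq_prime ?_ ?_⟩
      · have hyC : y ∈ (Subgroup.centralizer ({b₀} : Set G)) := sup_le hBC (Subgroup.zpowers_le.mpr hxC) hy
        have h := hT (show (⟨y, hyC⟩ : (Subgroup.centralizer ({b₀} : Set G))) ∈ (B ⊔ Subgroup.zpowers x).comap (Subgroup.centralizer ({b₀} : Set G)).subtype from hy)
        rw [Sylow.coe_subgroup_smul, Cfsg.Agent.Coprime.mem_conj_smul_iff] at h
        exact Subgroup.mem_map_of_mem (Subgroup.centralizer ({b₀} : Set G)).subtype h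
      · have := conj_pow (a := (g : G)⁻¹) (b := y) (i := p)
        rw [inv_inv, hyp] at this
        simpa using this
      · intro h
        apply hy1
        calc y = (g : G) * ((g : G)⁻¹ * y * (g : G)) * (g : G)⁻¹ := by group
          _ = 1 := by rw [h]; group
    refine sup_le (fun b hb => key b (Subgroup.mem_sup_left hb) (hB.2 b hb)) ?_
    exact Subgroup.zpowers_le.mpr (key x (Subgroup.mem_sup_right (Subgroup.mem_zpowers x)) hxp)
  have heq := Subgroup.eq_of_le_of_card_ge (le_sup_left.trans hH')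
    (le_of_eq (Cfsg.Agent.Coprime.card_conj_smul _ _))
  exact hxB (heq ▸ hH' (Subgroup.mem_sup_right (Subgroup.mem_zpowers x)))

end Cfsg.Agent.S1902
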