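import Cfsg.Statements.S1903
import Cfsg.Agent.Lib.Order320.Structure
import Cfsg.Agent.Lib.Order320.Centralizer

set_option autoImplicit false
open Cfsg

namespace Cfsg.Agent.S1903

/-- A finite group of order 320 whose derived subgroup has order 64 and has centre a Klein four-group is isomorphic to the centralizer of an involution in PSU₃(4). -/
theorem result {G : Type*} [Group G] [Finite G] (hG : Nat.card G = 320) (hD : Nat.card (commutator G) = 64)
    (hZ : IsKleinFour (Subgroup.center (commutator G)))
    {F : Type*} [Field F] [Fintype F] (hF : Fintype.card F = 16) :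
    ∃ t : Cfsg.PSU 3 F 4, orderOf t = 2 ∧ Nonempty (G ≃* Subgroup.centralizer ({t} : Set (Cfsg.PSU 3 F 4))) := by
  obtain ⟨e⟩ := Cfsg.Agent.Unital16.nonempty_psu_equiv hF
  obtain ⟨h1, h2, h3⟩ := Order320.cent_facts
  obtain ⟨A⟩ := Order320.exists_gens hG hD hZ
  obtain ⟨B⟩ := Order320.exists_gens h1 h2 h3
  obtain ⟨φ⟩ := A.nonempty_mulEquiv B
  refine ⟨e.symm Order320.invol, ?_, ⟨φ.trans ?_⟩⟩
  · rw [MulEquiv.orderOf_eq]
    exact orderOf_eq_prime (by rw [sq]; exact Order320.invol_facts.2) Order320.invol_facts.1
  · exact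
      { toFun := fun g => ⟨e.symm g.1, Subgroup.mem_centralizer_singleton_iff.mpr (by
          rw [← map_mul, ← map_mul, Subgroup.mem_centralizer_singleton_iff.mp g.2])⟩
        invFun := fun g => ⟨e g.1, Subgroup.mem_centralizer_singleton_iff.mpr (by
          have h := congrArg e (Subgroup.mem_centralizer_singleton_iff.mp g.2)
          rwa [map_mul, map_mul, e.apply_symm_apply] at h)⟩
        left_inv := fun g => Subtype.ext (e.apply_symm_apply _)
        right_inv := fun g => Subtype.ext (e.symm_apply_apply _)
        map_mul' := fun a b => Subtype.ext (map_mul e.symm _ _) }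

end Cfsg.Agent.S1903
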