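import Cfsg.Statements.S1905
import Cfsg.Agent.Lib.Involution.StrongEmb

set_option autoImplicit false
open Cfsg

namespace Cfsg.Agent.S1905

/-- Let M be a subgroup of even order of a finite group S such that M contains the centralizer in S of each of its involutions and the normal core of M in S has odd order. Then all involutions of S are conjugate. If moreover N_S(X) ≤ M for a Sylow 2-subgroup X of M and I is an involution in the centre of X, then all involutions of M are conjugate in M and M = M₀ C_M(I) for some subgroup M₀ of M of odd order. -/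
theorem result {S : Type*} [Group S] [Finite S] (M : Subgroup S) (hM : Even (Nat.card M))
    (hC : ∀ i ∈ M, orderOf i = 2 → Subgroup.centralizer ({i} : Set S) ≤ M) (hcore : Odd (Nat.card M.normalCore)) :
    (∀ x y : S, orderOf x = 2 → orderOf y = 2 → IsConj x y) ∧
      ∀ (X : Sylow 2 M) (I : M), I ∈ (Subgroup.center ↥(X : Subgroup ↥M)).map (X : Subgroup ↥M).subtype → orderOf I = 2 →
        Subgroup.normalizer (((X : Subgroup M).map M.subtype : Subgroup S) : Set S) ≤ M →
        (∀ x y : M, orderOf x = 2 → orderOf y = 2 → IsConj x y) ∧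
          ∃ M₀ : Subgroup M, Odd (Nat.card M₀) ∧
            ∀ m : M, ∃ a ∈ M₀, ∃ c ∈ Subgroup.centralizer ({I} : Set M), m = a * c := by
  have hinvol : ∃ i ∈ M, orderOf i = 2 := by
    obtain ⟨x, hx⟩ := exists_prime_orderOf_dvd_card' (G := M) 2 (even_iff_two_dvd.mp hM)
    exact ⟨x, x.2, (Subgroup.orderOf_coe x).trans hx⟩
  obtain ⟨i, hi, hi2⟩ := hinvol
  have hmemC : ∀ x ∈ M, orderOf x = 2 → ∀ g, Commute g x → g ∈ M := fun x hx hx2 g hg =>
    hC x hx hx2 (Subgroup.mem_centralizer_singleton_iff.mpr hg)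
  obtain ⟨j, hj, hj2⟩ : ∃ j : S, j ∉ M ∧ orderOf j = 2 := by
    by_contra hcon
    push Not at hcon
    have hmem : i ∈ M.normalCore := by
      intro g
      by_contra h
      exact hcon _ h (by rw [← MulAut.conj_apply, MulEquiv.orderOf_eq, hi2])
    have h2 : 2 ∣ Nat.card M.normalCore := by
      have := orderOf_dvd_natCard (⟨i, hmem⟩ : M.normalCore)
      rwa [Subgroup.orderOf_mk, hi2] at this
    exact Nat.not_even_iff_odd.mpr hcore (even_iff_two_dvd.mpr h2)
  have hodd : ∀ x ∈ M, orderOf x = 2 → ∀ y ∉ M, orderOf y = 2 → Odd (orderOf (x * y)) := by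
    intro x hx hx2 y hy hy2
    have hu := Involution.StrongEmb.mul_self_of_orderOf hx2
    have hv := Involution.StrongEmb.mul_self_of_orderOf hy2
    by_contra hcon
    obtain ⟨m, hm⟩ := Nat.not_odd_iff_even.mp hcon
    have hpos := orderOf_pos (x * y)
    have hwi : ((x * y) ^ m)⁻¹ = (x * y) ^ m := inv_eq_of_mul_eq_one_right (by
      rw [← pow_add, ← hm, pow_orderOf_eq_one])
    have hc : Commute x ((x * y) ^ m) := by
      have h1 := Involution.Isolated.conj_pow_eq hu hv m
      rw [hwi] at h1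
      have h2 := congrArg (fun a => a * x) h1
      simp only [mul_assoc, hu, mul_one] at h2
      exact h2
    have hwM : (x * y) ^ m ∈ M := hmemC x hx hx2 _ hc.symm
    have hw2 : orderOf ((x * y) ^ m) = 2 := by
      rw [orderOf_eq_prime_iff, pow_two]
      refine ⟨by rw [← pow_add, ← hm, pow_orderOf_eq_one], fun h => ?_⟩
      have := Nat.le_of_dvd (by omega) (orderOf_dvd_of_pow_eq_one h)
      omega
    refine hy (hmemC _ hwM hw2 y ?_)
    have e : y = x * (x * y) := by rw [← mul_assoc, hu, one_mul]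
    have h3 := hc.mul_left ((Commute.refl (x * y)).pow_right m)
    rwa [← e] at h3
  have hconj : ∀ x ∈ M, orderOf x = 2 → ∀ y ∉ M, orderOf y = 2 → IsConj x y := by
    intro x hx hx2 y hy hy2
    have hu := Involution.StrongEmb.mul_self_of_orderOf hx2
    have hv := Involution.StrongEmb.mul_self_of_orderOf hy2
    refine isConj_iff.mpr ⟨Involution.Isolated.middle x y, ?_⟩
    rw [Involution.Isolated.inv_mul_self_eq (Involution.Isolated.middle_mul_self hu hv)]
    exact Involution.Isolated.middle_conj hu hv (hodd x hx hx2 y hy hy2)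
  have hall : ∀ x : S, orderOf x = 2 → IsConj i x := fun x hx => by
    by_cases hxM : x ∈ M
    · exact (hconj i hi hi2 j hj hj2).trans (hconj x hxM hx j hj hj2).symm
    · exact hconj i hi hi2 x hxM hx
  refine ⟨fun x y hx hy => (hall x hx).symm.trans (hall y hy), ?_⟩
  intro X I hIX hI hN
  -- a 2-subgroup containing an involution of `M` lies in `M`
  have hQle : ∀ Q : Subgroup S, IsPGroup 2 Q → (∃ x ∈ Q, x ∈ M ∧ orderOf x = 2) → Q ≤ M := by
    rintro Q hQ ⟨x, hxQ, hxM, hx2⟩
    have : Nontrivial Q := ⟨⟨⟨x, hxQ⟩, 1, fun h => by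
      have h' : x = 1 := congrArg Subtype.val h
      rw [h', orderOf_one] at hx2
      norm_num at hx2⟩⟩
    have hdvd : 2 ∣ Nat.card (Subgroup.center Q) := by
      have := hQ.center_nontrivial
      rcases (hQ.to_subgroup (Subgroup.center Q)).card_eq_or_dvd with h | h
      · exact absurd h (Finite.one_lt_card (α := Subgroup.center Q)).ne'
      · exact h
    obtain ⟨w, hw⟩ := exists_prime_orderOf_dvd_card' 2 hdvd
    have hw2 : orderOf ((w : Q) : S) = 2 := by rw [Subgroup.orderOf_coe, Subgroup.orderOf_coe, hw]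
    have hwc : ∀ y ∈ Q, Commute y ((w : Q) : S) := fun y hy =>
      congrArg Subtype.val (Subgroup.mem_center_iff.mp w.2 ⟨y, hy⟩)
    have hwM : ((w : Q) : S) ∈ M := hmemC x hxM hx2 _ (hwc x hxQ).symm
    exact fun y hy => hmemC _ hwM hw2 y (hwc y hy)
  set X₀ := (X : Subgroup M).map M.subtype with hX₀
  have hX₀p : IsPGroup 2 X₀ := X.isPGroup'.map _
  have hX₀M : X₀ ≤ M := Subgroup.map_subtype_le _
  have hstrong : Cfsg.IsStronglyEmbedded M := by
    refine ⟨fun h => hj (h ▸ Subgroup.mem_top j), hM, fun g hg => ?_⟩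
    rw [← Nat.not_even_iff_odd]
    intro hev
    obtain ⟨x, hx⟩ := exists_prime_orderOf_dvd_card' 2 (even_iff_two_dvd.mp hev)
    have hx2 : orderOf (x : S) = 2 := by rw [Subgroup.orderOf_coe, hx]
    obtain ⟨hxM, k, hk, hkx⟩ := x.2
    have hkx : g * k * g⁻¹ = x := hkx
    have hk2 : orderOf k = 2 := by rw [← hx2, ← hkx, ← MulAut.conj_apply, MulEquiv.orderOf_eq]
    have hconjX : ∀ y : M, orderOf (y : S) = 2 → ∃ m : M, (m : S)⁻¹ * y * m ∈ X₀ := by
      intro y hy
      have hyp : IsPGroup 2 (Subgroup.zpowers y) :=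
        IsPGroup.of_card (n := 1) (by rw [Nat.card_zpowers, ← Subgroup.orderOf_coe, hy]; rfl)
      obtain ⟨T, hT⟩ := hyp.exists_le_sylow
      obtain ⟨m, hm⟩ := MulAction.exists_smul_eq M X T
      have hyT : y ∈ (T : Subgroup M) := hT (Subgroup.mem_zpowers y)
      rw [← hm, Sylow.coe_subgroup_smul, Subgroup.mem_pointwise_smul_iff_inv_smul_mem] at hyT
      exact ⟨m, ⟨_, hyT, by simp⟩⟩
    obtain ⟨m₁, hm₁⟩ := hconjX ⟨x, hxM⟩ hx2
    obtain ⟨m₂, hm₂⟩ := hconjX ⟨k, hk⟩ hk2
    have hhk : ((m₁ : S)⁻¹ * g * m₂) * ((m₂ : S)⁻¹ * k * m₂) * ((m₁ : S)⁻¹ * g * m₂)⁻¹ = (m₁ : S)⁻¹ * x * m₁ := by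
      rw [← hkx]; group
    set h := (m₁ : S)⁻¹ * g * m₂ with hh
    have hhM : h ∉ M := by
      intro hc
      apply hg
      have := M.mul_mem (M.mul_mem m₁.2 hc) (M.inv_mem m₂.2)
      rw [hh] at this
      simpa [mul_assoc] using this
    let Q := X₀.map (MulAut.conj h).toMonoidHom
    have hQp : IsPGroup 2 Q := hX₀p.map _
    have hQM : Q ≤ M := hQle Q hQp ⟨_, ⟨_, hm₂, hhk⟩, hX₀M hm₁,
      by rw [← hx2, ← MulEquiv.orderOf_eq (MulAut.conj ((m₁ : S)⁻¹)) (x : S)]; simp [MulAut.conj_apply]⟩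
    let Q' : Subgroup M := Q.subgroupOf M
    have hQ'p : IsPGroup 2 Q' := hQp.comap_subtype
    obtain ⟨T, hT⟩ := hQ'p.exists_le_sylow
    have hcard : Nat.card Q' = Nat.card T := by
      rw [Nat.card_congr (Subgroup.subgroupOfEquivOfLe hQM).toEquiv,
        Subgroup.card_map_of_injective (MulAut.conj h).injective, hX₀,
        Subgroup.card_map_of_injective M.subtype_injective, X.card_eq_multiplicity, T.card_eq_multiplicity]
    have hQT : Q' = (T : Subgroup M) := Subgroup.eq_of_le_of_card_ge hT hcard.ge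
    obtain ⟨m, hm⟩ := MulAction.exists_smul_eq M X T
    apply hhM
    have hnorm : (m : S)⁻¹ * h ∈ Subgroup.normalizer (X₀ : Set S) := by
      have hle : X₀.map (MulAut.conj ((m : S)⁻¹ * h)).toMonoidHom = X₀ := by
        refine Subgroup.eq_of_le_of_card_ge ?_ (Subgroup.card_map_of_injective (MulAut.conj _).injective).ge
        rintro _ ⟨y, hy, rfl⟩
        have hy' : (⟨h * y * h⁻¹, hQM ⟨y, hy, rfl⟩⟩ : M) ∈ (T : Subgroup M) :=
          hQT ▸ (show (h * y * h⁻¹) ∈ Q from ⟨y, hy, rfl⟩)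
        rw [← hm, Sylow.coe_subgroup_smul, Subgroup.mem_pointwise_smul_iff_inv_smul_mem] at hy'
        exact ⟨_, hy', by simp [MulAut.conj_apply, mul_assoc]⟩
      rw [Subgroup.mem_normalizer_iff]
      intro y
      conv_rhs => rw [← hle]
      constructor
      · exact fun hy => ⟨y, hy, rfl⟩
      · rintro ⟨y', hy', hye⟩
        exact (MulAut.conj ((m : S)⁻¹ * h)).injective hye ▸ hy'
    have := M.mul_mem m.2 (hN hnorm)
    rwa [mul_inv_cancel_left] at this
  obtain ⟨u, hu, -⟩ := Involution.StrongEmb.exists_involution_not_mem hstrong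
  have htrans : ∀ x y : M, orderOf x = 2 → orderOf y = 2 →
      ∃ d : M, (d : S) ∈ M ⊓ M.map (MulAut.conj u).toMonoidHom ∧ d * x * d⁻¹ = y := by
    intro x y hx hy
    obtain ⟨d, hd, hde⟩ := Involution.StrongEmb.exists_mem_inter_conj hstrong hu
      ((Subgroup.orderOf_coe x).trans hx) x.2 ((Subgroup.orderOf_coe y).trans hy) y.2
    exact ⟨⟨d, hd.1⟩, hd, Subtype.ext hde⟩
  refine ⟨fun x y hx hy => ?_, (M ⊓ M.map (MulAut.conj u).toMonoidHom).subgroupOf M, ?_, fun m => ?_⟩
  · obtain ⟨d, -, hd⟩ := htrans x y hx hy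
    exact isConj_iff.mpr ⟨d, hd⟩
  · rw [Nat.card_congr (Subgroup.subgroupOfEquivOfLe inf_le_left).toEquiv]
    exact hstrong.2.2 u hu
  · obtain ⟨d, hd, hde⟩ := htrans I (m * I * m⁻¹) hI (by rw [← MulAut.conj_apply, MulEquiv.orderOf_eq, hI])
    refine ⟨d, hd, d⁻¹ * m, Subgroup.mem_centralizer_singleton_iff.mpr ?_, (mul_inv_cancel_left d m).symm⟩
    calc d⁻¹ * m * I = d⁻¹ * (m * I * m⁻¹) * m := by group
      _ = d⁻¹ * (d * I * d⁻¹) * m := by rw [hde]
      _ = I * (d⁻¹ * m) := by group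

end Cfsg.Agent.S1905
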