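import Cfsg.Statements.S1906
import Cfsg.Agent.Lib.GLThreeSylow.Monomial
import Cfsg.Agent.Lib.GLThreeSylow.Fusion

set_option autoImplicit false
open Cfsg

namespace Cfsg.Agent.S1906

/-- Let G be a finite group with no subgroup of index 2 whose Sylow 2-subgroup X embeds in GL₃(F) for a finite field F of odd order. If X contains an elementary abelian subgroup of order 8, then X is abelian. -/
theorem result {G : Type*} [Group G] [Finite G] (hG : ∀ H : Subgroup G, H.index ≠ 2) (X : Sylow 2 G)
    {F : Type*} [Field F] [Fintype F] (hF : Odd (Fintype.card F))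
    (f : ↥(X : Subgroup G) →* GL (Fin 3) F) (hf : Function.Injective f)
    (E : Subgroup G) (hE : E ≤ (X : Subgroup G)) (hEa : Cfsg.IsElementaryAbelian 2 E) (hE8 : Nat.card E = 8) :
    IsMulCommutative (X : Subgroup G) := by
  by_contra hnc
  let K := AlgebraicClosure F
  have h2 : (2 : K) ≠ 0 := by
    have hF2 : (2 : F) ≠ 0 := Ring.two_ne_zero (fun h =>
      Nat.not_even_iff_odd.mpr hF (FiniteField.even_card_iff_char_two.mp h |> Nat.even_iff.mpr))
    intro h
    exact hF2 ((algebraMap F K).injective (by rw [map_ofNat, map_zero]; exact h))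
  let ρ : ↥(X : Subgroup G) →* Module.End K (Fin 3 → K) :=
    ((Matrix.toLinAlgEquiv' (R := K) (n := Fin 3)).toMulEquiv.toMonoidHom.comp
      (((algebraMap F K).mapMatrix : Matrix (Fin 3) (Fin 3) F →+* Matrix (Fin 3) (Fin 3) K).toMonoidHom.comp
        (Units.coeHom _))).comp f
  have hρ : Function.Injective ρ :=
    (((Matrix.toLinAlgEquiv' (R := K) (n := Fin 3)).injective.comp
      (Matrix.map_injective (algebraMap F K).injective)).comp Units.val_injective).comp hf
  obtain ⟨ψ, hψ⟩ := GLThreeSylow.exists_mono ρ (by simp) h2 X.2 hρ hnc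
  obtain ⟨H, hH⟩ := GLThreeSylow.index_two_of_mono X h2 ψ hψ hnc (E.subgroupOf (X : Subgroup G))
    (fun x hx y hy => by
      have h := hEa.1.is_comm.comm (⟨(x : G), Subgroup.mem_subgroupOf.mp hx⟩ : E)
        ⟨(y : G), Subgroup.mem_subgroupOf.mp hy⟩
      exact Subtype.ext (congrArg Subtype.val h :))
    (fun x hx => Subtype.ext (by
      rw [Subgroup.coe_mul, ← pow_two, hEa.2 _ (Subgroup.mem_subgroupOf.mp hx)]; rfl))
    ((Nat.card_congr (Subgroup.subgroupOfEquivOfLe hE).toEquiv).trans hE8)
  exact hG H hH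

end Cfsg.Agent.S1906
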