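import Cfsg.Statements.S1907
import Cfsg.Agent.Lib.PCore.Constrained
import Cfsg.Agent.Lib.Coprime.Basic

set_option autoImplicit false
open Cfsg

namespace Cfsg.Agent.S1907

variable {G : Type*} [Group G] [Finite G] {p : ℕ} [Fact p.Prime] (P : Sylow p G)

/-- `N_G(P ∩ O_{p',p}(G))` covers `G / O_{p'}(G)`. -/
theorem exists_decomp (g : G) :
    ∃ d ∈ Cfsg.pPrimeCore p G,
      ∃ n ∈ Subgroup.normalizer (((P : Subgroup G) ⊓ Cfsg.pPrimePCore p G : Subgroup G) : Set G), g = d * n := by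
  set N := Cfsg.pPrimeCore p G
  haveI hNn : N.Normal := PCore.pPrimeCore_normal
  set π := QuotientGroup.mk' N
  set H := (P : Subgroup G) ⊓ Cfsg.pPrimePCore p G
  have hH : IsPGroup p H := P.2.to_le inf_le_left
  let T : Sylow p (G ⧸ N) := P.mapSurjective (QuotientGroup.mk'_surjective N)
  have hHO : H.map π = pCore p (G ⧸ N) := by
    refine le_antisymm ((Subgroup.map_mono inf_le_right).trans (Subgroup.map_comap_le _ _)) fun y hy => ?_
    obtain ⟨s, hs, rfl⟩ := (PCore.pCore_le_sylow T) hy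
    exact ⟨s, ⟨hs, hy⟩, rfl⟩
  have htop : (Subgroup.normalizer (H : Set G)).map π = ⊤ := by
    rw [PCore.map_normalizer_mk' N PCore.coprime_card_pPrimeCore hH, hHO,
      Subgroup.normalizer_eq_top_iff.mpr PCore.pCore_normal]
  obtain ⟨n, hn, he⟩ := (htop ▸ Subgroup.mem_top (π g) : π g ∈ (Subgroup.normalizer (H : Set G)).map π)
  refine ⟨g * n⁻¹, (QuotientGroup.eq_one_iff _).mp ?_, n, hn, (inv_mul_cancel_right g n).symm⟩
  show π (g * n⁻¹) = 1
  rw [map_mul, map_inv, he, mul_inv_cancel]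

/-- `O_{p'}(G)` meets the normalizer of a `p`-subgroup in its centralizer. -/
theorem commute_of_mem_core {H : Subgroup G} (hH : IsPGroup p H) {c : G} (hc : c ∈ Cfsg.pPrimeCore p G)
    (hcn : c ∈ Subgroup.normalizer (H : Set G)) : c ∈ Subgroup.centralizer (H : Set G) := by
  haveI hNn : (Cfsg.pPrimeCore p G).Normal := PCore.pPrimeCore_normal
  rw [Subgroup.mem_centralizer_iff]
  intro h hh
  have h1 : c * h * c⁻¹ * h⁻¹ = 1 :=
    Subgroup.disjoint_def.mp (PCore.disjoint_of_isPGroup_of_coprime hH PCore.coprime_card_pPrimeCore)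
      (H.mul_mem ((Subgroup.mem_normalizer_iff.mp hcn h).mp hh) (H.inv_mem hh))
      (by simpa [mul_assoc] using Subgroup.mul_mem _ hc (hNn.conj_mem _ (Subgroup.inv_mem _ hc) h))
  exact (mul_inv_eq_iff_eq_mul.mp (mul_inv_eq_one.mp h1)).symm

/-- Elements of `O_{p'}(G)` moving a `p`-element inside `N_G(H)` factor. -/
theorem exists_factor {H : Subgroup G} (hH : IsPGroup p H) {y : G} (hy : y ∈ Subgroup.normalizer (H : Set G))
    (hyk : ∃ k : ℕ, orderOf y = p ^ k) {d : G} (hd : d ∈ Cfsg.pPrimeCore p G)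
    (hyd : d⁻¹ * y * d ∈ Subgroup.normalizer (H : Set G)) :
    ∃ d₁ ∈ Cfsg.pPrimeCore p G ⊓ Subgroup.centralizer ({y} : Set G),
      ∃ d₂ ∈ Cfsg.pPrimeCore p G ⊓ Subgroup.centralizer (H : Set G), d = d₁ * d₂ := by
  set O := Cfsg.pPrimeCore p G
  haveI hOn : O.Normal := PCore.pPrimeCore_normal
  set N := O ⊓ Subgroup.normalizer (H : Set G)
  have hA : IsPGroup p (Subgroup.zpowers y) := by
    obtain ⟨k, hk⟩ := hyk
    exact IsPGroup.of_card (n := k) (by rw [Nat.card_zpowers, hk])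
  have hAN : Subgroup.zpowers y ≤ Subgroup.normalizer (N : Set G) := by
    rw [Subgroup.zpowers_le, Subgroup.mem_normalizer_iff]
    intro c
    constructor
    · rintro ⟨hc, hcn⟩
      exact ⟨hOn.conj_mem c hc y, Subgroup.mul_mem _ (Subgroup.mul_mem _ hy hcn) (Subgroup.inv_mem _ hy)⟩
    · rintro ⟨hc, hcn⟩
      refine ⟨by simpa [mul_assoc] using hOn.conj_mem _ hc y⁻¹, ?_⟩
      simpa [mul_assoc] using Subgroup.mul_mem _ (Subgroup.mul_mem _ (Subgroup.inv_mem _ hy) hcn) hy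
  have hcop : (Nat.card (Subgroup.zpowers y)).Coprime (Nat.card N) := by
    obtain ⟨k, hk⟩ := IsPGroup.iff_card.mp hA
    rw [hk]
    exact (((PCore.coprime_card_pPrimeCore (p := p) (G := G)).coprime_dvd_left
      (Subgroup.card_dvd_of_le inf_le_left)).symm).pow_left k
  have hy1 : d⁻¹ * y * d * y⁻¹ ∈ N := by
    refine ⟨?_, Subgroup.mul_mem _ hyd (Subgroup.inv_mem _ hy)⟩
    simpa [mul_assoc] using O.mul_mem (O.inv_mem hd) (hOn.conj_mem d hd y)
  have hk : ∀ a ∈ Subgroup.zpowers y, d⁻¹ * a * d * a⁻¹ ∈ N := by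
    rintro a ⟨i, rfl⟩
    have hle : Subgroup.zpowers y ≤ Subgroup.normalizer (H : Set G) := Subgroup.zpowers_le.mpr hy
    refine ⟨?_, ?_⟩
    · simpa [mul_assoc] using O.mul_mem (O.inv_mem hd) (hOn.conj_mem d hd (y ^ i))
    · refine Subgroup.mul_mem _ ?_ (Subgroup.inv_mem _ (hle ⟨i, rfl⟩))
      have e : d⁻¹ * y ^ i * d = (d⁻¹ * y * d) ^ i := by
        have := (conj_zpow (a := d⁻¹) (b := y) (i := i)).symm
        rwa [inv_inv] at this
      exact e ▸ Subgroup.zpow_mem _ hyd i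
  haveI : Group.IsSolvable (Subgroup.zpowers y) := by
    haveI := hA.isNilpotent
    infer_instance
  obtain ⟨c, hc, hcd⟩ := Coprime.exists_mul_mem_centralizer hAN hcop (Or.inl inferInstance) hk
  refine ⟨d * c, ⟨O.mul_mem hd hc.1, ?_⟩, c⁻¹, ⟨O.inv_mem hc.1,
    Subgroup.inv_mem _ (commute_of_mem_core hH hc.1 hc.2)⟩, (mul_inv_cancel_right d c).symm⟩
  exact Subgroup.mem_centralizer_singleton_iff.mpr (Subgroup.mem_centralizer_iff.mp hcd y (Subgroup.mem_zpowers y)).symm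

/-- `N_G(P ∩ O_{p',p}(G))` controls fusion of elements of `P`. -/
theorem exists_conj_normalizer {g x : G} (hx : x ∈ (P : Subgroup G)) (hgx : g * x * g⁻¹ ∈ (P : Subgroup G)) :
    ∃ n ∈ Subgroup.normalizer (((P : Subgroup G) ⊓ Cfsg.pPrimePCore p G : Subgroup G) : Set G),
      n * x * n⁻¹ = g * x * g⁻¹ := by
  haveI : (Cfsg.pPrimePCore p G).Normal := by
    haveI : (Cfsg.pCore p (G ⧸ Cfsg.pPrimeCore p G)).Normal := PCore.pCore_normal
    exact Subgroup.Normal.comap inferInstance _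
  set H := (P : Subgroup G) ⊓ Cfsg.pPrimePCore p G with hHdef
  have hH : IsPGroup p H := P.2.to_le inf_le_left
  have hPN : (P : Subgroup G) ≤ Subgroup.normalizer (H : Set G) := by
    intro u hu
    rw [Subgroup.mem_normalizer_iff]
    intro h
    constructor
    · rintro ⟨h1, h2⟩
      exact ⟨Subgroup.mul_mem _ (Subgroup.mul_mem _ hu h1) (Subgroup.inv_mem _ hu),
        Subgroup.Normal.conj_mem inferInstance _ h2 u⟩
    · rintro ⟨h1, h2⟩
      refine ⟨?_, ?_⟩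
      · have h3 := Subgroup.mul_mem (P : Subgroup G) (Subgroup.mul_mem _ (Subgroup.inv_mem _ hu) h1) hu
        have e : u⁻¹ * (u * h * u⁻¹) * u = h := by group
        rwa [e] at h3
      · simpa [mul_assoc] using (Subgroup.Normal.conj_mem (H := Cfsg.pPrimePCore p G) inferInstance _ h2 u⁻¹)
  obtain ⟨d, hd, n, hn, rfl⟩ := exists_decomp P g
  have hy := hPN hgx
  have hyk : ∃ k : ℕ, orderOf (d * n * x * (d * n)⁻¹) = p ^ k := by
    obtain ⟨k, hk⟩ := IsPGroup.iff_orderOf.mp P.2 ⟨_, hgx⟩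
    exact ⟨k, by rwa [Subgroup.orderOf_mk] at hk⟩
  have hyd : d⁻¹ * (d * n * x * (d * n)⁻¹) * d ∈ Subgroup.normalizer (H : Set G) := by
    have e : d⁻¹ * (d * n * x * (d * n)⁻¹) * d = n * x * n⁻¹ := by group
    rw [e]
    exact Subgroup.mul_mem _ (Subgroup.mul_mem _ hn (hPN hx)) (Subgroup.inv_mem _ hn)
  obtain ⟨d₁, hd₁, d₂, hd₂, hdd⟩ := exists_factor hH hy hyk hd hyd
  refine ⟨d₂ * n, Subgroup.mul_mem _ (Subgroup.centralizer_le_normalizer _ hd₂.2) hn, ?_⟩
  have hc := Subgroup.mem_centralizer_singleton_iff.mp hd₁.2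
  calc d₂ * n * x * (d₂ * n)⁻¹ = d₁⁻¹ * (d * n * x * (d * n)⁻¹) * d₁ := by rw [hdd]; group
    _ = d₁⁻¹ * ((d * n * x * (d * n)⁻¹) * d₁) := by rw [mul_assoc]
    _ = d * n * x * (d * n)⁻¹ := by rw [← hc, inv_mul_cancel_left]

/-- Let P be a Sylow p-subgroup of a finite group G, H = P ∩ O_{p',p}(G), N = N_G(H) and D = O_{p'}(G). (a) If y is an element of p-power order of N and d ∈ D with d⁻¹ y d ∈ N, then d = d₁ d₂ with d₁ ∈ C_D(y) and d₂ ∈ C_D(H). (b) Two elements of P that are conjugate in G are conjugate in N. -/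
theorem result {G : Type*} [Group G] [Finite G] {p : ℕ} [Fact p.Prime] (P : Sylow p G) :
    (∀ y ∈ Subgroup.normalizer (((P : Subgroup G) ⊓ Cfsg.pPrimePCore p G : Subgroup G) : Set G), (∃ k : ℕ, orderOf y = p ^ k) →
      ∀ d ∈ Cfsg.pPrimeCore p G, d⁻¹ * y * d ∈ Subgroup.normalizer (((P : Subgroup G) ⊓ Cfsg.pPrimePCore p G : Subgroup G) : Set G) →
        ∃ d₁ ∈ Cfsg.pPrimeCore p G ⊓ Subgroup.centralizer ({y} : Set G),
          ∃ d₂ ∈ Cfsg.pPrimeCore p G ⊓ Subgroup.centralizer (((P : Subgroup G) ⊓ Cfsg.pPrimePCore p G : Subgroup G) : Set G), d = d₁ * d₂) ∧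
    ∀ x y : G, x ∈ (P : Subgroup G) → y ∈ (P : Subgroup G) → IsConj x y →
      ∃ n ∈ Subgroup.normalizer (((P : Subgroup G) ⊓ Cfsg.pPrimePCore p G : Subgroup G) : Set G), n * x * n⁻¹ = y := by
  refine ⟨fun y hy hyk d hd hyd => exists_factor (P.2.to_le inf_le_left) hy hyk hd hyd, fun x y hx hy hxy => ?_⟩
  obtain ⟨g, rfl⟩ := isConj_iff.mp hxy
  exact exists_conj_normalizer P hx hy

end Cfsg.Agent.S1907
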