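import Cfsg.Statements.S1910
-- import your own Cfsg.Agent.* helpers here

set_option autoImplicit false
open Cfsg

namespace Cfsg.Agent.S1910

variable {G : Type*} [Group G] [Finite G]

theorem card_le_of_sylow {A T P : Subgroup G} (hT : IsPGroup 2 T) (hTA : T ≤ A)
    (hTs : ¬ 2 ∣ T.relIndex A) (hP : IsPGroup 2 P) (hPA : P ≤ A) : Nat.card P ≤ Nat.card T := by
  obtain ⟨a, ha⟩ := IsPGroup.iff_card.mp hT
  obtain ⟨b, hb⟩ := IsPGroup.iff_card.mp hP
  have h1 : Nat.card T * T.relIndex A = Nat.card A := by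
    rw [← Subgroup.card_mul_index (T.subgroupOf A), Nat.card_congr (Subgroup.subgroupOfEquivOfLe hTA).toEquiv]
    rfl
  have h2 : 2 ^ b ∣ T.relIndex A * 2 ^ a := by
    rw [← hb, ← ha, mul_comm, h1]; exact Subgroup.card_dvd_of_le hPA
  have h3 : 2 ^ b ∣ 2 ^ a :=
    (Nat.Coprime.pow_left b ((Nat.prime_two.coprime_iff_not_dvd).mpr hTs)).dvd_of_dvd_mul_left h2
  rw [ha, hb]
  exact Nat.le_of_dvd (by positivity) h3

theorem inf_eq_bot_of_odd {T A : Subgroup G} (hT : IsPGroup 2 T) (hA : Odd (Nat.card A)) :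
    T ⊓ A = ⊥ := by
  refine Subgroup.eq_bot_of_card_eq _ ?_
  obtain ⟨a, ha⟩ := IsPGroup.iff_card.mp (hT.to_le (inf_le_left (b := A)))
  rcases Nat.eq_zero_or_pos a with rfl | hpos
  · simpa using ha
  · exfalso
    have h2 : 2 ∣ Nat.card (T ⊓ A : Subgroup G) := ha ▸ dvd_pow_self 2 hpos.ne'
    exact Nat.not_even_iff_odd.mpr hA
      (even_iff_two_dvd.mpr (h2.trans (Subgroup.card_dvd_of_le inf_le_right)))

theorem even_of_ne_bot {T : Subgroup G} (hT : IsPGroup 2 T) (h : T ≠ ⊥) : Even (Nat.card T) := by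
  obtain ⟨a, ha⟩ := IsPGroup.iff_card.mp hT
  rcases Nat.eq_zero_or_pos a with rfl | hpos
  · exact absurd (Subgroup.eq_bot_of_card_eq T (by simpa using ha)) h
  · exact ha ▸ even_iff_two_dvd.mpr (dvd_pow_self 2 hpos.ne')

theorem conj_le_normalizer_mem {H : Subgroup G} {x : G}
    (h : ∀ t ∈ H, x * t * x⁻¹ ∈ H) : x ∈ Subgroup.normalizer (H : Set G) := by
  have hle : H.map (MulAut.conj x).toMonoidHom = H := by
    refine Subgroup.eq_of_le_of_card_ge ?_ (Subgroup.card_map_of_injective (MulAut.conj x).injective).ge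
    rintro _ ⟨t, ht, rfl⟩
    exact h t ht
  rw [Subgroup.mem_normalizer_iff]
  intro y
  conv_rhs => rw [← hle]
  constructor
  · exact fun hy => ⟨y, hy, rfl⟩
  · rintro ⟨y', hy', hye⟩
    exact (MulAut.conj x).injective hye ▸ hy'

/-- `K` meets its other conjugates in subgroups of odd order. -/
def OddMeet (K : Subgroup G) : Prop :=
  ∀ x : G, x ∉ Subgroup.normalizer (K : Set G) → Odd (Nat.card ↥(K ⊓ K.map (MulAut.conj x).toMonoidHom))

theorem normalizer_le {K T : Subgroup G} (hK : OddMeet K) (hT : IsPGroup 2 T) (hT1 : T ≠ ⊥)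
    (hTK : T ≤ K) : Subgroup.normalizer (T : Set G) ≤ Subgroup.normalizer (K : Set G) := by
  intro x hx
  by_contra hc
  apply hT1
  have h := inf_eq_bot_of_odd hT (hK x hc)
  rw [← h]
  refine le_antisymm (le_inf le_rfl (le_inf hTK ?_)) inf_le_left
  intro t ht
  refine ⟨x⁻¹ * t * x, hTK ?_, by simp [MulAut.conj_apply, mul_assoc]⟩
  have h1 : x⁻¹ ∈ Subgroup.normalizer (T : Set G) := Subgroup.inv_mem _ hx
  simpa using (Subgroup.mem_normalizer_iff.mp h1 t).mp ht

/-- The hypotheses, in a form symmetric in the two conjugates. -/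
structure Data (Q K T S : Subgroup G) : Prop where
  meetQ : OddMeet Q
  meetK : OddMeet K
  meet : Odd (Nat.card ↥(Q ⊓ K))
  iso : Nonempty (K ≃* Q)
  ne : T ≠ ⊥
  le : T ≤ K ⊓ Subgroup.normalizer (Q : Set G)
  two : IsPGroup 2 T
  syl : ¬ 2 ∣ T.relIndex (K ⊓ Subgroup.normalizer (Q : Set G))
  leS : T ≤ S
  Sle : S ≤ Q ⊔ T
  Stwo : IsPGroup 2 S
  Ssyl : ¬ 2 ∣ S.relIndex (Q ⊔ T)

variable {Q K T S : Subgroup G}

theorem Data.inf_eq_bot (D : Data Q K T S) : T ⊓ Q = ⊥ := by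
  rw [← inf_eq_bot_of_odd D.two D.meet]
  exact le_antisymm (le_inf inf_le_left (le_inf inf_le_right (inf_le_left.trans (D.le.trans inf_le_left))))
    (le_inf inf_le_left (inf_le_right.trans inf_le_left))

theorem Data.S_le_normalizer (D : Data Q K T S) : S ≤ Subgroup.normalizer (Q : Set G) :=
  D.Sle.trans (sup_le Subgroup.le_normalizer (D.le.trans inf_le_right))

theorem Data.exists_decomp (D : Data Q K T S) {x : G} (hx : x ∈ Q ⊔ T) :
    ∃ q ∈ Q, ∃ t ∈ T, x = q * t := by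
  have h : x ∈ ((Q ⊔ T : Subgroup G) : Set G) := hx
  rw [Subgroup.coe_mul_of_right_le_normalizer_left Q T (D.le.trans inf_le_right)] at h
  obtain ⟨q, hq, t, ht, he⟩ := h
  exact ⟨q, hq, t, ht, he.symm⟩

theorem Data.unique (D : Data Q K T S) {q q' t t' : G} (hq : q ∈ Q) (hq' : q' ∈ Q) (ht : t ∈ T)
    (ht' : t' ∈ T) (h : q * t = q' * t') : q = q' ∧ t = t' := by
  have h1 : q'⁻¹ * q = t' * t⁻¹ := by
    rw [eq_mul_inv_iff_mul_eq, mul_assoc, h, inv_mul_cancel_left]
  have h2 : q'⁻¹ * q ∈ T ⊓ Q :=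
    ⟨h1 ▸ T.mul_mem ht' (T.inv_mem ht), Q.mul_mem (Q.inv_mem hq') hq⟩
  rw [D.inf_eq_bot, Subgroup.mem_bot, inv_mul_eq_one] at h2
  exact ⟨h2.symm, mul_left_cancel (h2 ▸ h)⟩

theorem Data.card_sub (D : Data Q K T S) (H : Subgroup G) (hTH : T ≤ H) (hH : H ≤ Q ⊔ T) :
    Nat.card (H ⊓ Q : Subgroup G) * Nat.card T = Nat.card H := by
  rw [← Nat.card_prod]
  refine Nat.card_eq_of_bijective
    (fun x => ⟨(x.1 : G) * x.2, H.mul_mem x.1.2.1 (hTH x.2.2)⟩) ⟨?_, ?_⟩
  · rintro ⟨q, t⟩ ⟨q', t'⟩ h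
    obtain ⟨h1, h2⟩ := D.unique q.2.2 q'.2.2 t.2 t'.2 (congrArg Subtype.val h)
    exact Prod.ext (Subtype.ext h1) (Subtype.ext h2)
  · rintro ⟨x, hx⟩
    obtain ⟨q, hq, t, ht, rfl⟩ := D.exists_decomp (hH hx)
    exact ⟨(⟨q, by simpa using H.mul_mem hx (H.inv_mem (hTH ht)), hq⟩, ⟨t, ht⟩), rfl⟩

theorem Data.commutator (D : Data Q K T S) :
    ⁅T, S ⊓ Subgroup.normalizer (T : Set G) ⊓ Q⁆ = ⊥ := by
  rw [eq_bot_iff, Subgroup.commutator_le]
  intro t ht r hr
  rw [← D.inf_eq_bot]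
  refine ⟨?_, ?_⟩
  · have h1 := (Subgroup.mem_normalizer_iff.mp hr.1.2 t⁻¹).mp (T.inv_mem ht)
    show t * r * t⁻¹ * r⁻¹ ∈ T
    simpa [mul_assoc] using T.mul_mem ht h1
  · have h1 := (Subgroup.mem_normalizer_iff.mp ((D.le ht).2) r).mp hr.2
    exact Q.mul_mem h1 (Q.inv_mem hr.2)

theorem Data.sup_eq (D : Data Q K T S) :
    T ⊔ (S ⊓ Subgroup.normalizer (T : Set G) ⊓ Q) = S ⊓ Subgroup.normalizer (T : Set G) := by
  refine le_antisymm (sup_le (le_inf D.leS Subgroup.le_normalizer) inf_le_left) fun x hx => ?_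
  obtain ⟨q, hq, t, ht, rfl⟩ := D.exists_decomp (D.Sle hx.1)
  have hq' : q ∈ S ⊓ Subgroup.normalizer (T : Set G) ⊓ Q := by
    refine ⟨?_, hq⟩
    simpa using Subgroup.mul_mem _ hx (Subgroup.inv_mem _
      ((le_inf D.leS Subgroup.le_normalizer : T ≤ S ⊓ Subgroup.normalizer (T : Set G)) ht))
  exact Subgroup.mul_mem _ (Subgroup.mem_sup_right hq') (Subgroup.mem_sup_left ht)

/-- Either `N_S(T) ∩ Q` is a Sylow 2-subgroup of `Q`, or `T` embeds into it. -/
theorem Data.dichotomy (D : Data Q K T S) :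
    (¬ 2 ∣ (S ⊓ Subgroup.normalizer (T : Set G) ⊓ Q).relIndex Q) ∨
      ∃ f : T →* (S ⊓ Subgroup.normalizer (T : Set G) ⊓ Q : Subgroup G), Function.Injective f := by
  set R := S ⊓ Subgroup.normalizer (T : Set G) ⊓ Q with hR
  by_cases hcase : S ≤ Subgroup.normalizer (T : Set G)
  · left
    have hRS : R = S ⊓ Q := by rw [hR, inf_eq_left.mpr hcase]
    have h1 := D.card_sub S D.leS D.Sle
    have h2 := D.card_sub (Q ⊔ T) le_sup_right le_rfl
    rw [inf_eq_right.mpr (le_sup_left : Q ≤ Q ⊔ T)] at h2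
    have h3 : Nat.card S * S.relIndex (Q ⊔ T) = Nat.card (Q ⊔ T : Subgroup G) := by
      rw [← Subgroup.card_mul_index (S.subgroupOf (Q ⊔ T)),
        Nat.card_congr (Subgroup.subgroupOfEquivOfLe D.Sle).toEquiv]
      rfl
    have h4 : Nat.card (S ⊓ Q : Subgroup G) * (S ⊓ Q).relIndex Q = Nat.card Q := by
      rw [← Subgroup.card_mul_index ((S ⊓ Q).subgroupOf Q),
        Nat.card_congr (Subgroup.subgroupOfEquivOfLe (inf_le_right : S ⊓ Q ≤ Q)).toEquiv]
      rfl
    rw [hRS]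
    have h5 : (S ⊓ Q).relIndex Q = S.relIndex (Q ⊔ T) := by
      apply Nat.eq_of_mul_eq_mul_left (show 0 < Nat.card (S ⊓ Q : Subgroup G) * Nat.card T from
        Nat.mul_pos Nat.card_pos Nat.card_pos)
      rw [mul_right_comm, h4, h1, h3, h2]
    rw [h5]
    exact D.Ssyl
  · right
    set H := S ⊓ Subgroup.normalizer (T : Set G) with hH
    have hHS : H.subgroupOf S ≠ ⊤ := fun h => hcase fun x hx => (Subgroup.subgroupOf_eq_top.mp h hx).2
    have hS2 : Group.IsNilpotent S := D.Stwo.isNilpotent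
    obtain ⟨x, hxN, hxH⟩ := SetLike.exists_of_lt
      (Group.normalizerCondition_of_isNilpotent (G := S) (H.subgroupOf S) (lt_top_iff_ne_top.mpr hHS))
    have hxH' : (x : G) ∉ Subgroup.normalizer (T : Set G) := fun h => hxH ⟨x.2, h⟩
    have hTH : T ≤ H := le_inf D.leS Subgroup.le_normalizer
    have hconj : ∀ t ∈ T, (x : G) * t * (x : G)⁻¹ ∈ H := fun t ht =>
      (Subgroup.mem_normalizer_iff.mp hxN ⟨t, D.leS ht⟩).mp (hTH ht)
    have hmeet : ∀ t ∈ T, (x : G) * t * (x : G)⁻¹ ∈ T → t = 1 := by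
      intro t ht htx
      by_contra hne
      have hxK : (x : G) ∈ Subgroup.normalizer (K : Set G) := by
        by_contra hc
        have h := inf_eq_bot_of_odd D.two (D.meetK _ hc)
        have hm : (x : G) * t * (x : G)⁻¹ ∈ T ⊓ (K ⊓ K.map (MulAut.conj (x : G)).toMonoidHom) :=
          ⟨htx, (D.le htx).1, t, (D.le ht).1, rfl⟩
        rw [h, Subgroup.mem_bot, conj_eq_one_iff] at hm
        exact hne hm
      apply hxH'
      refine conj_le_normalizer_mem fun s hs => ?_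
      let P := S ⊓ (K ⊓ Subgroup.normalizer (Q : Set G))
      have hTP : T ≤ P := le_inf D.leS D.le
      have hPT : T = P := Subgroup.eq_of_le_of_card_ge hTP
        (card_le_of_sylow D.two D.le D.syl (D.Stwo.to_le inf_le_left) inf_le_right)
      rw [hPT]
      exact ⟨(hconj s hs).1, (Subgroup.mem_normalizer_iff.mp hxK s).mp (D.le hs).1,
        Subgroup.mul_mem _ (Subgroup.mul_mem _ (D.S_le_normalizer x.2) (D.le hs).2)
          (Subgroup.inv_mem _ (D.S_le_normalizer x.2))⟩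
    have hdec : ∀ t : T, ∃ r ∈ R, ∃ s ∈ T, (x : G) * t * (x : G)⁻¹ = r * s := by
      intro t
      have ht := hconj t t.2
      obtain ⟨q, hq, s, hs, he⟩ := D.exists_decomp (D.Sle ht.1)
      refine ⟨q, ⟨?_, hq⟩, s, hs, he⟩
      have : q = (x : G) * t * (x : G)⁻¹ * s⁻¹ := by rw [he, mul_inv_cancel_right]
      rw [this]
      exact H.mul_mem ht (H.inv_mem (hTH hs))
    choose r hr s hs he using hdec
    have hmul : ∀ a b : T, r (a * b) = r a * r b := by
      intro a b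
      have hc : s a * r b = r b * s a :=
        commutatorElement_eq_one_iff_mul_comm.mp (Subgroup.mem_bot.mp
          (D.commutator ▸ Subgroup.commutator_mem_commutator (hs a) (hr b)))
      refine (D.unique (hr (a * b)).2 (Q.mul_mem (hr a).2 (hr b).2) (hs (a * b)) (T.mul_mem (hs a) (hs b)) ?_).1
      rw [← he (a * b)]
      calc (x : G) * ((a * b : T) : G) * (x : G)⁻¹
          = ((x : G) * a * (x : G)⁻¹) * ((x : G) * b * (x : G)⁻¹) := by push_cast; group
        _ = r a * (s a * r b) * s b := by rw [he a, he b]; group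
        _ = r a * r b * (s a * s b) := by rw [hc]; group
    refine ⟨MonoidHom.mk' (fun t => ⟨r t, hr t⟩) fun a b => Subtype.ext (hmul a b), ?_⟩
    rw [injective_iff_map_eq_one]
    intro t ht
    have h1 : r t = 1 := congrArg Subtype.val ht
    refine Subtype.ext (hmeet t t.2 ?_)
    rw [he t, h1, one_mul]
    exact hs t

theorem Data.card_le (D : Data Q K T S) :
    Nat.card T ≤ Nat.card (S ⊓ Subgroup.normalizer (T : Set G) ⊓ Q : Subgroup G) := by
  rcases D.dichotomy with h | ⟨f, hf⟩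
  · obtain ⟨e⟩ := D.iso
    have hTK : T ≤ K := D.le.trans inf_le_left
    let T' := ((T.subgroupOf K).map e.toMonoidHom).map Q.subtype
    have hc : Nat.card T' = Nat.card T := by
      rw [Subgroup.card_map_of_injective Q.subtype_injective, Subgroup.card_map_of_injective (f := e.toMonoidHom) e.injective,
        Nat.card_congr (Subgroup.subgroupOfEquivOfLe hTK).toEquiv]
    have hT' : IsPGroup 2 T' := ((D.two.comap_subtype (K := K)).map _).map _
    rw [← hc]
    exact card_le_of_sylow (D.Stwo.to_le (inf_le_left.trans inf_le_left)) inf_le_right h hT'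
      (Subgroup.map_subtype_le _)
  · exact Nat.card_le_card_of_injective f hf

theorem exists_sylow_of_subgroup {A P : Subgroup G} (hP : IsPGroup 2 P) (hPA : P ≤ A) :
    ∃ T : Subgroup G, P ≤ T ∧ T ≤ A ∧ IsPGroup 2 T ∧ ¬ 2 ∣ T.relIndex A := by
  obtain ⟨X, hX⟩ := (hP.comap_subtype (K := A)).exists_le_sylow
  refine ⟨(X : Subgroup A).map A.subtype, fun y hy => ⟨⟨y, hPA hy⟩, hX hy, rfl⟩,
    Subgroup.map_subtype_le _, X.isPGroup'.map _, ?_⟩
  rw [Subgroup.relIndex, Subgroup.subgroupOf, Subgroup.comap_map_eq_self_of_injective A.subtype_injective]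
  exact X.not_dvd_index

theorem Data.card_eq (D : Data Q K T S) :
    Nat.card (S ⊓ Subgroup.normalizer (T : Set G) ⊓ Q : Subgroup G) = Nat.card T := by
  refine le_antisymm ?_ D.card_le
  set R := S ⊓ Subgroup.normalizer (T : Set G) ⊓ Q
  have hRp : IsPGroup 2 R := D.Stwo.to_le (inf_le_left.trans inf_le_left)
  have hRle : R ≤ Q ⊓ Subgroup.normalizer (K : Set G) := le_inf inf_le_right
    ((inf_le_left.trans inf_le_right).trans (normalizer_le D.meetK D.two D.ne (D.le.trans inf_le_left)))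
  obtain ⟨T', hRT', hT'le, hT'p, hT's⟩ := exists_sylow_of_subgroup hRp hRle
  have hT'ne : T' ≠ ⊥ := by
    intro h
    have h1 := D.card_le
    have h2 : R = ⊥ := le_bot_iff.mp (h ▸ hRT')
    rw [show S ⊓ Subgroup.normalizer (T : Set G) ⊓ Q = ⊥ from h2, Subgroup.card_bot] at h1
    exact absurd h1 (not_le.mpr ((Subgroup.one_lt_card_iff_ne_bot _).mpr D.ne))
  obtain ⟨S', hT'S', hS'le, hS'p, hS's⟩ := exists_sylow_of_subgroup hT'p (le_sup_right : T' ≤ K ⊔ T')
  obtain ⟨e⟩ := D.iso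
  have D' : Data K Q T' S' := ⟨D.meetK, D.meetQ, by rw [inf_comm]; exact D.meet, ⟨e.symm⟩, hT'ne, hT'le,
    hT'p, hT's, hT'S', hS'le, hS'p, hS's⟩
  refine (Subgroup.card_le_of_le hRT').trans (D'.card_le.trans ?_)
  exact card_le_of_sylow D.two D.le D.syl (hS'p.to_le (inf_le_left.trans inf_le_left))
    (le_inf inf_le_right ((inf_le_left.trans inf_le_right).trans
      (normalizer_le D.meetQ hT'p hT'ne (hT'le.trans inf_le_left))))

theorem Data.equiv (D : Data Q K T S) :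
    Nonempty ((S ⊓ Subgroup.normalizer (T : Set G) ⊓ Q : Subgroup G) ≃* T) := by
  rcases D.dichotomy with h | ⟨f, hf⟩
  · set R := S ⊓ Subgroup.normalizer (T : Set G) ⊓ Q
    obtain ⟨e⟩ := D.iso
    have hRQ : R ≤ Q := inf_le_right
    have hTK : T ≤ K := D.le.trans inf_le_left
    let P₁ : Sylow 2 Q := ((D.Stwo.to_le (inf_le_left.trans inf_le_left) : IsPGroup 2 R).comap_subtype (K := Q)).toSylow h
    let T' := (T.subgroupOf K).map e.toMonoidHom
    have hT' : IsPGroup 2 T' := (D.two.comap_subtype (K := K)).map _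
    obtain ⟨P₂, hP₂⟩ := hT'.exists_le_sylow
    have hP₂' : T' = (P₂ : Subgroup Q) := by
      refine Subgroup.eq_of_le_of_card_ge hP₂ ?_
      rw [P₂.card_eq_multiplicity, ← P₁.card_eq_multiplicity,
        Subgroup.card_map_of_injective (f := e.toMonoidHom) e.injective,
        Nat.card_congr (Subgroup.subgroupOfEquivOfLe hTK).toEquiv, ← D.card_eq]
      exact le_of_eq (Nat.card_congr (Subgroup.subgroupOfEquivOfLe hRQ).toEquiv)
    exact ⟨(Subgroup.subgroupOfEquivOfLe hRQ).symm.trans ((Sylow.equiv P₁ P₂).trans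
      ((MulEquiv.subgroupCongr hP₂'.symm).trans
        ((Subgroup.equivMapOfInjective _ e.toMonoidHom e.injective).symm.trans
          (Subgroup.subgroupOfEquivOfLe hTK))))⟩
  · exact ⟨(MulEquiv.ofBijective f ((Nat.bijective_iff_injective_and_card f).mpr ⟨hf, D.card_eq.symm⟩)).symm⟩

/-- Let Q be a tightly embedded subgroup of a finite group G, g an element outside N_G(Q), T a nontrivial Sylow 2-subgroup of Q^g ∩ N_G(Q), and S a Sylow 2-subgroup of QT containing T. Then T ∩ Q = 1, and N_S(T) is the direct product of T and N_S(T) ∩ Q, with N_S(T) ∩ Q isomorphic to T. -/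
theorem result {G : Type*} [Group G] [Finite G] (Q : Subgroup G) (hQ : Cfsg.IsTightlyEmbedded Q)
    (g : G) (hg : g ∉ Subgroup.normalizer (Q : Set G))
    (T : Subgroup G) (hT1 : T ≠ ⊥) (hT : T ≤ Q.map (MulAut.conj g).toMonoidHom ⊓ Subgroup.normalizer (Q : Set G))
    (hTsyl : IsPGroup 2 T ∧ ¬ 2 ∣ T.relIndex (Q.map (MulAut.conj g).toMonoidHom ⊓ Subgroup.normalizer (Q : Set G)))
    (S : Subgroup G) (hTS : T ≤ S) (hS : S ≤ Q ⊔ T) (hSsyl : IsPGroup 2 S ∧ ¬ 2 ∣ S.relIndex (Q ⊔ T)) :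
    T ⊓ Q = ⊥ ∧
      T ⊓ (S ⊓ Subgroup.normalizer (T : Set G) ⊓ Q) = ⊥ ∧
      ⁅T, S ⊓ Subgroup.normalizer (T : Set G) ⊓ Q⁆ = ⊥ ∧
      T ⊔ (S ⊓ Subgroup.normalizer (T : Set G) ⊓ Q) = S ⊓ Subgroup.normalizer (T : Set G) ∧
      Nonempty (↥(S ⊓ Subgroup.normalizer (T : Set G) ⊓ Q) ≃* T) := by
  have hmeet : OddMeet Q := hQ.2
  have hmeetK : OddMeet (Q.map (MulAut.conj g).toMonoidHom) := by
    intro x hx
    have hx' : g⁻¹ * x * g ∉ Subgroup.normalizer (Q : Set G) := by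
      intro hc
      refine hx (conj_le_normalizer_mem ?_)
      rintro _ ⟨q, hq, rfl⟩
      refine ⟨_, (Subgroup.mem_normalizer_iff.mp hc q).mp hq, ?_⟩
      simp [MulAut.conj_apply, mul_assoc]
    have e : Q.map (MulAut.conj g).toMonoidHom ⊓ (Q.map (MulAut.conj g).toMonoidHom).map (MulAut.conj x).toMonoidHom =
        (Q ⊓ Q.map (MulAut.conj (g⁻¹ * x * g)).toMonoidHom).map (MulAut.conj g).toMonoidHom := by
      rw [Subgroup.map_inf _ _ _ (MulAut.conj g).injective, Subgroup.map_map, Subgroup.map_map]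
      congr 2
      ext y
      simp [MulAut.conj_apply, mul_assoc]
    rw [e, Subgroup.card_map_of_injective (MulAut.conj g).injective]
    exact hQ.2 _ hx'
  have D : Data Q (Q.map (MulAut.conj g).toMonoidHom) T S := ⟨hmeet, hmeetK, hQ.2 g hg,
    ⟨(Subgroup.equivMapOfInjective Q _ (MulAut.conj g).injective).symm⟩, hT1, hT, hTsyl.1, hTsyl.2,
    hTS, hS, hSsyl.1, hSsyl.2⟩
  refine ⟨D.inf_eq_bot, ?_, D.commutator, D.sup_eq, D.equiv⟩
  exact eq_bot_iff.mpr fun y hy => D.inf_eq_bot ▸ (⟨hy.1, hy.2.2⟩ : y ∈ T ⊓ Q)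

end Cfsg.Agent.S1910
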