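import Cfsg.Statements.S1914
import Cfsg.Agent.Lib.CyclicFourFixed.Main

set_option autoImplicit false
open Cfsg Cfsg.Agent.CyclicFourFixed

namespace Cfsg.Agent.S1914

/-- Let A be a semisimple subgroup (a central product of quasisimple groups, A = E(A)) of a finite group and t an involution normalizing A such that the Sylow 2-subgroups of C_A(t) are cyclic of order 4. Then A has 2-rank exactly 1. -/
theorem result {G : Type*} [Group G] [Finite G] (A : Subgroup G) (hA : Cfsg.layer ↥A = ⊤)
    (t : G) (ht : orderOf t = 2) (htA : t ∈ Subgroup.normalizer (A : Set G))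
    (hC : ∀ R : Sylow 2 ↥(A ⊓ Subgroup.centralizer ({t} : Set G)), IsCyclic R ∧ Nat.card R = 4) :
    Cfsg.PRankLE 2 1 A ∧ ¬ Cfsg.PRankLE 2 0 A := by
  haveI : Fact (Nat.Prime 2) := ⟨Nat.prime_two⟩
  have ht2 : t * t = 1 := by rw [← pow_two, ← ht, pow_orderOf_eq_one]
  have ht1 : t ≠ 1 := fun h => by rw [h, orderOf_one] at ht; norm_num at ht
  have hperf : ⁅(⊤ : Subgroup A), (⊤ : Subgroup A)⁆ = (⊤ : Subgroup A) := by
    rw [← hA]; exact Components.commutator_layer_self
  have hperfG : ⁅A, A⁆ = A := by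
    have h := congrArg (Subgroup.map A.subtype) hperf
    rwa [Subgroup.map_commutator, ← MonoidHom.range_eq_map, Subgroup.range_subtype] at h
  -- a generator of a Sylow subgroup of the fixed points
  set C := A ⊓ Subgroup.centralizer ({t} : Set G) with hCdef
  obtain ⟨R₀⟩ : Nonempty (Sylow 2 C) := inferInstance
  obtain ⟨hcy, hc4⟩ := hC R₀
  obtain ⟨r₀, hr₀⟩ := hcy.exists_generator
  set r : G := ((r₀ : C) : G) with hrdef
  have hr4 : orderOf r = 4 := by
    rw [hrdef, Subgroup.orderOf_coe, Subgroup.orderOf_coe,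
      orderOf_eq_card_of_forall_mem_zpowers hr₀]
    exact hc4
  have hrA : r ∈ A := (r₀ : C).2.1
  have hrt : Commute r t := Subgroup.mem_centralizer_singleton_iff.1 (r₀ : C).2.2
  -- work in `A ∪ A t`
  let K := twoCosets A t (fun x hx => (Subgroup.mem_normalizer_iff.1 htA x).1 hx)
    (by rw [ht2]; exact A.one_mem)
  have hAK : A ≤ K := fun x hx => Or.inl hx
  have htK : t ∈ K := Or.inr (by rw [mul_inv_cancel]; exact A.one_mem)
  set A' := A.subgroupOf K with hA'
  haveI : A'.Normal := ⟨fun x hx g => by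
    rw [hA', Subgroup.mem_subgroupOf] at hx ⊢
    show (g : G) * x * (g : G)⁻¹ ∈ A
    rcases g.2 with hg | hg
    · exact mul_mem (mul_mem hg hx) (inv_mem hg)
    · rw [show (g : G) * x * (g : G)⁻¹ = g * t⁻¹ * (t * x * t⁻¹) * ((g : G) * t⁻¹)⁻¹ by group]
      exact mul_mem (mul_mem hg ((Subgroup.mem_normalizer_iff.1 htA x).1 hx)) (inv_mem hg)⟩
  have hperf' : ⁅A', A'⁆ = A' := by
    apply Subgroup.map_injective K.subtype_injective
    rw [Subgroup.map_commutator, hA', Subgroup.map_subgroupOf_eq_of_le hAK, hperfG]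
  have hkey : ∀ x ∈ A, ∀ y ∈ A, x * x = 1 → y * y = 1 → x ≠ 1 → y ≠ 1 → Commute x y → x = y := by
    intro x hx y hy hx2 hy2 hx1 hy1 hxy
    refine congrArg Subtype.val (involution_unique A' hperf' (t := (⟨t, htK⟩ : K))
      (r := ⟨r, hAK hrA⟩) (Subtype.ext ht2) (fun h => ht1 (congrArg Subtype.val h))
      (fun g => g.2) hrA
      (by rw [Subgroup.orderOf_mk]; exact hr4) (Subtype.ext hrt.eq) ?_
      (x := ⟨x, hAK hx⟩) (y := ⟨y, hAK hy⟩) hx hy (Subtype.ext hx2) (Subtype.ext hy2)
      (fun h => hx1 (congrArg Subtype.val h)) (fun h => hy1 (congrArg Subtype.val h))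
      (Subtype.ext hxy.eq))
    intro R hR hRp hRt
    have hle : R.map K.subtype ≤ C := by
      rintro _ ⟨w, hw, rfl⟩
      exact ⟨hR hw, Subgroup.mem_centralizer_singleton_iff.2 (congrArg Subtype.val (hRt w hw).eq)⟩
    obtain ⟨Q, hQ⟩ := ((hRp.map K.subtype).of_equiv
      (Subgroup.subgroupOfEquivOfLe hle).symm).exists_le_sylow
    obtain ⟨hQc, hQ4⟩ := hC Q
    let e₁ : R ≃* R.map K.subtype := R.equivMapOfInjective K.subtype K.subtype_injective
    let f : R →* (Q : Subgroup C) := (Subgroup.inclusion hQ).comp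
      ((Subgroup.subgroupOfEquivOfLe hle).symm.toMonoidHom.comp e₁.toMonoidHom)
    have hf : Function.Injective f := (Subgroup.inclusion_injective hQ).comp
      ((Subgroup.subgroupOfEquivOfLe hle).symm.injective.comp e₁.injective)
    haveI := hQc
    exact ⟨isCyclic_of_injective f hf, (Nat.card_le_card_of_injective f hf).trans_eq hQ4⟩
  refine ⟨fun B hBc hB2 => ?_, fun h0 => ?_⟩
  · -- elementary abelian subgroups have at most two elements
    rw [pow_one]
    by_contra hgt
    push Not at hgt
    obtain ⟨x, hx1⟩ : ∃ x : B, x ≠ 1 := by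
      by_contra hall
      push Not at hall
      haveI : Subsingleton B := ⟨fun a b => (hall a).trans (hall b).symm⟩
      rw [Nat.card_of_subsingleton (1 : B)] at hgt
      omega
    obtain ⟨y, hy1, hyx⟩ : ∃ y : B, y ≠ 1 ∧ y ≠ x := by
      by_contra hall
      push Not at hall
      have hle := Set.ncard_le_ncard (s := (Set.univ : Set B)) (t := {1, x}) (fun b _ => by
        by_cases hb : b = 1
        · exact Or.inl hb
        · exact Or.inr (hall b hb)) (Set.toFinite _)
      rw [Set.ncard_univ] at hle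
      have h2 : Set.ncard ({1, x} : Set B) ≤ 2 :=
        (Set.ncard_insert_le _ _).trans (by rw [Set.ncard_singleton])
      omega
    have hval : ∀ w : B, ((w : A) : G) * (w : A) = 1 := fun w => by
      have := congrArg (fun v : A => (v : G)) (hB2 w w.2)
      simpa [pow_two] using this
    refine hyx (Subtype.ext (Subtype.ext (hkey _ (y : A).2 _ (x : A).2 (hval y) (hval x)
      (fun h => hy1 (Subtype.ext (Subtype.ext h))) (fun h => hx1 (Subtype.ext (Subtype.ext h))) ?_)))
    exact congrArg (fun w : B => ((w : A) : G)) (mul_comm' y x)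
  · -- `r ^ 2` is an involution of `A`
    have hz : orderOf (r * r) = 2 := by
      rw [← pow_two, orderOf_pow, hr4]
      rfl
    set zA : A := ⟨r * r, mul_mem hrA hrA⟩ with hzA
    have hz2 : orderOf zA = 2 := by rw [hzA, Subgroup.orderOf_mk]; exact hz
    have := h0 (Subgroup.zpowers zA) inferInstance (fun w hw => by
      obtain ⟨i, rfl⟩ := Subgroup.mem_zpowers_iff.1 hw
      rw [← zpow_natCast, ← zpow_mul, mul_comm, zpow_mul, zpow_natCast,
        show zA ^ 2 = 1 by rw [← hz2, pow_orderOf_eq_one], one_zpow])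
    rw [Nat.card_zpowers, hz2] at this
    norm_num at this

end Cfsg.Agent.S1914
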