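import Cfsg.Statements.S1915
import Cfsg.Agent.Lib.PGroup.InvariantFour
import Cfsg.Agent.Lib.Transfer.Thompson
import Cfsg.Agent.Lib.Components.Layer
import Cfsg.Agent.Lib.SmithTyrer.Main

set_option autoImplicit false
set_option linter.style.haveILetI false
open Cfsg

namespace Cfsg.Agent.S1915

open Subgroup

section

variable {G : Type*} [Group G]

/-- `A ∪ A e` for `e` normalising `A` with `e * e ∈ A`. -/
def twoCosets (A : Subgroup G) (e : G) (he : e ∈ normalizer (A : Set G)) (hee : e * e ∈ A) :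
    Subgroup G where
  carrier := {q | q ∈ A ∨ q * e⁻¹ ∈ A}
  one_mem' := Or.inl A.one_mem
  mul_mem' := by
    have hn : ∀ x ∈ A, e * x * e⁻¹ ∈ A := fun x hx => (mem_normalizer_iff.1 he x).1 hx
    rintro p q (hp | hp) (hq | hq)
    · exact Or.inl (mul_mem hp hq)
    · exact Or.inr (by rw [mul_assoc]; exact mul_mem hp hq)
    · refine Or.inr ?_
      rw [show p * q * e⁻¹ = p * e⁻¹ * (e * q * e⁻¹) by group]
      exact mul_mem hp (hn q hq)
    · refine Or.inl ?_
      rw [show p * q = p * e⁻¹ * (e * (q * e⁻¹) * e⁻¹) * (e * e) by group]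
      exact mul_mem (mul_mem hp (hn _ hq)) hee
  inv_mem' := by
    rintro p (hp | hp)
    · exact Or.inl (inv_mem hp)
    · refine Or.inr ?_
      rw [show p⁻¹ * e⁻¹ = e⁻¹ * (p * e⁻¹)⁻¹ * e * (e * e)⁻¹ by group]
      refine mul_mem ?_ (inv_mem hee)
      refine (mem_normalizer_iff.1 he _).2 ?_
      convert inv_mem hp using 1
      group

/-- The structure of a Sylow 2-subgroup with cyclic subgroup `⟨a⟩` of index 2. -/
structure Cfg (A S : Subgroup G) (a b : G) (m : ℕ) (i : ℤ) : Prop where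
  le : S ≤ A
  ord : orderOf a = 2 ^ m
  two : 2 ≤ m
  amem : a ∈ S
  bmem : b ∈ S
  bsq : b * b = 1
  bout : b ∉ zpowers a
  conj : b * a * b⁻¹ = a ^ i
  icases : i = -1 ∨ (3 ≤ m ∧ i = (2 : ℤ) ^ (m - 1) - 1)
  cover : ∀ x ∈ S, ∃ l : ℤ, x = a ^ l ∨ x = a ^ l * b
  sylow : ∀ R : Subgroup G, R ≤ A → IsPGroup 2 R → ∃ g ∈ A, ∀ x ∈ R, g * x * g⁻¹ ∈ S

variable {A S : Subgroup G} {a b : G} {m : ℕ} {i : ℤ}

/-- The central involution. -/
abbrev zz (a : G) (m : ℕ) : G := a ^ ((2 : ℤ) ^ (m - 1))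

namespace Cfg

variable (C : Cfg A S a b m i)
include C

theorem eq_iff (k l : ℤ) : a ^ k = a ^ l ↔ (2 : ℤ) * 2 ^ (m - 1) ∣ k - l := by
  rw [InvFour.zpow_eq_iff C.ord, InvFour.pow_pred_two (show 1 ≤ m by have := C.two; omega)]

theorem eq_one_iff (k : ℤ) : a ^ k = 1 ↔ (2 : ℤ) * 2 ^ (m - 1) ∣ k := by
  rw [← zpow_zero a, C.eq_iff, sub_zero]

theorem half_even : ∃ q : ℤ, (2 : ℤ) ^ (m - 1) = 2 * q :=
  ⟨2 ^ (m - 2), by rw [show m - 1 = m - 2 + 1 by have := C.two; omega, pow_succ]; ring⟩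

theorem b_inv : b⁻¹ = b := inv_eq_of_mul_eq_one_right C.bsq

theorem conj_pow (k : ℤ) : b * a ^ k * b = a ^ (i * k) := by
  rw [zpow_mul, ← C.conj, conj_zpow, C.b_inv]

theorem mul_mul (k l : ℤ) : a ^ k * b * (a ^ l * b) = a ^ (k + i * l) := by
  rw [zpow_add, ← C.conj_pow]
  group

theorem z_ne_one : zz a m ≠ 1 := by
  rw [Ne, C.eq_one_iff]
  intro hh
  have h0 : (0 : ℤ) < 2 ^ (m - 1) := by positivity
  have := Int.le_of_dvd h0 hh
  omega

theorem z_sq : zz a m * zz a m = 1 := by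
  rw [← zpow_add, C.eq_one_iff]
  exact ⟨1, by ring⟩

theorem z_mem : zz a m ∈ S := zpow_mem C.amem _

theorem eq_one_or_z {x : G} (hx : x ∈ zpowers a) (h : x * x = 1) : x = 1 ∨ x = zz a m := by
  obtain ⟨k, rfl⟩ := mem_zpowers_iff.1 hx
  rw [← zpow_add, C.eq_one_iff] at h
  obtain ⟨c, hc⟩ := h
  obtain rfl : k = 2 ^ (m - 1) * c := by linarith
  rcases Int.even_or_odd c with ⟨s, rfl⟩ | ⟨s, rfl⟩
  · exact Or.inl ((C.eq_one_iff _).2 ⟨s, by ring⟩)
  · exact Or.inr ((C.eq_iff _ _).2 ⟨s, by ring⟩)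

theorem i_add_one : ∃ t : ℤ, i + 1 = 2 * t := by
  rcases C.icases with rfl | ⟨-, rfl⟩
  · exact ⟨0, by ring⟩
  · obtain ⟨q, hq⟩ := C.half_even
    exact ⟨q, by rw [hq]; ring⟩

theorem commute_z (x : G) (hx : x ∈ S) : Commute (zz a m) x := by
  have hb : Commute (zz a m) b := by
    obtain ⟨t, ht⟩ := C.i_add_one
    have h : b * zz a m * b = zz a m := by
      rw [C.conj_pow, C.eq_iff]
      exact ⟨t - 1, by linear_combination ((2 : ℤ) ^ (m - 1)) * ht⟩
    have := congrArg (· * b) h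
    simp only [mul_assoc, C.bsq, mul_one] at this
    exact this.symm
  obtain ⟨l, rfl | rfl⟩ := C.cover x hx
  · exact (Commute.refl a).zpow_zpow _ _
  · exact ((Commute.refl a).zpow_zpow _ _).mul_right hb

theorem centralizer_four {p q : G} (hp : p ∈ S) (hq : q ∈ S) (hpp : p * p = 1) (hqq : q * q = 1)
    (hp1 : p ≠ 1) (hq1 : q ≠ 1) (hpq : p ≠ q) :
    ∃ w, ∃ hwS : w ∈ S, w ∉ zpowers a ∧ ∃ hw : w * w = 1, ∀ y ∈ S, Commute y p → Commute y q →
      y ∈ Invol.fourSubgroup C.z_sq hw (C.commute_z w hwS) := by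
  have hchoice : ∃ w ∈ S, w ∉ zpowers a ∧ w * w = 1 ∧ (w = p ∨ w = q) := by
    by_cases h : p ∈ zpowers a
    · refine ⟨q, hq, fun h' => hpq ?_, hqq, Or.inr rfl⟩
      rw [(C.eq_one_or_z h hpp).resolve_left hp1, (C.eq_one_or_z h' hqq).resolve_left hq1]
    · exact ⟨p, hp, h, hpp, Or.inl rfl⟩
  obtain ⟨w, hw, hwout, hww, hwpq⟩ := hchoice
  refine ⟨w, hw, hwout, hww, fun y hy hyp hyq => ?_⟩
  have hyw : Commute y w := by rcases hwpq with rfl | rfl <;> assumption
  obtain ⟨k, rfl | rfl⟩ := C.cover w hw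
  · exact absurd (zpow_mem (mem_zpowers a) k) hwout
  have hclaim : ∀ l : ℤ, Commute (a ^ l) (a ^ k * b) → a ^ l = 1 ∨ a ^ l = zz a m := by
    intro l hl
    have h : b * a ^ l * b = a ^ l := by
      have h1 : b * a ^ l = a ^ l * b := by
        have h2 := hl.eq
        rw [← mul_assoc, ← zpow_add, add_comm, zpow_add, mul_assoc, mul_assoc] at h2
        exact (mul_left_cancel h2).symm
      rw [h1, mul_assoc, C.bsq, mul_one]
    rw [C.conj_pow, C.eq_iff] at h
    apply C.eq_one_or_z (zpow_mem (mem_zpowers a) l)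
    rw [← zpow_add, C.eq_one_iff]
    obtain ⟨c, hc⟩ := h
    obtain ⟨u, hu, hu'⟩ : ∃ u : ℤ, i - 1 = 2 * u ∧ ∃ v : ℤ, Odd v ∧ u = v := by
      rcases C.icases with rfl | ⟨h3, rfl⟩
      · exact ⟨-1, by norm_num, -1, by decide, rfl⟩
      · refine ⟨2 ^ (m - 2) - 1, ?_, _, ⟨2 ^ (m - 3) - 1, ?_⟩, rfl⟩
        · rw [show m - 1 = m - 2 + 1 by omega, pow_succ]; ring
        · rw [show m - 2 = m - 3 + 1 by omega, pow_succ]; ring
    obtain ⟨v, hv, rfl⟩ := hu'
    have hd : (2 : ℤ) ^ (m - 1) ∣ l := by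
      have hco : IsCoprime ((2 : ℤ) ^ (m - 1)) u := by
        refine IsCoprime.pow_left ?_
        obtain ⟨s, rfl⟩ := hv
        exact ⟨-s, 1, by ring⟩
      refine hco.dvd_of_dvd_mul_left ⟨c, ?_⟩
      have : 2 * (u * l) = 2 * ((2 : ℤ) ^ (m - 1) * c) := by linear_combination hc - l * hu
      linarith
    obtain ⟨d, rfl⟩ := hd
    exact ⟨d, by ring⟩
  obtain ⟨l, rfl | rfl⟩ := C.cover y hy
  · rcases hclaim l hyw with h | h <;> rw [h]
    · exact one_mem _
    · exact Or.inr (Or.inl rfl)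
  · have hl : Commute (a ^ (l - k)) (a ^ k * b) := by
      have : a ^ (l - k) = a ^ l * b * (a ^ k * b)⁻¹ := by rw [zpow_sub]; group
      rw [this]
      exact hyw.mul_left (Commute.refl _).inv_left
    have hy' : a ^ l * b = a ^ (l - k) * (a ^ k * b) := by rw [← mul_assoc, ← zpow_add]; ring_nf
    rw [hy']
    rcases hclaim _ hl with h | h <;> rw [h]
    · exact Or.inr (Or.inr (Or.inl (one_mul _)))
    · exact Or.inr (Or.inr (Or.inr rfl))

end Cfg

end

section

variable {G : Type*} [Group G] [Finite G] {A S : Subgroup G} {a b : G} {m : ℕ} {i : ℤ}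

/-- A 2-element `e` inducing nothing on `S` with square the central involution keeps the central
involution from moving within four-subgroups of `S`. -/
theorem Cfg.fixed (C : Cfg A S a b m i) {e : G} (he : e ∈ normalizer (A : Set G))
    (hes : ∀ x ∈ S, Commute e x) (hee : e * e = zz a m) {g x : G} (hg : g ∈ A) (hx : x ∈ S)
    (hxx : x * x = 1) (hxout : x ∉ zpowers a) (hgz : g * zz a m * g⁻¹ ∈ S)
    (hgx : g * x * g⁻¹ ∈ S) : g * zz a m * g⁻¹ = zz a m := by
  haveI : Fact (Nat.Prime 2) := ⟨Nat.prime_two⟩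
  set z := zz a m with hz
  have hzA : z ∈ A := C.le C.z_mem
  set p := g * z * g⁻¹ with hp
  set q := g * x * g⁻¹ with hq
  have hx1 : x ≠ 1 := fun h => hxout (h ▸ one_mem _)
  have hzx : z ≠ x := fun h => hxout (h ▸ zpow_mem (mem_zpowers a) _)
  have hpp : p * p = 1 := by rw [hp, conj_mul, C.z_sq]; simp
  have hqq : q * q = 1 := by rw [hq, conj_mul, hxx]; simp
  have hp1 : p ≠ 1 := fun h => C.z_ne_one (conj_eq_one_iff.1 h)
  have hq1 : q ≠ 1 := fun h => hx1 (conj_eq_one_iff.1 h)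
  have hpq : p ≠ q := fun h => hzx (by simpa [hp, hq] using h)
  have hpqc : Commute p q := by
    have hc := (C.commute_z x hx).eq
    show g * z * g⁻¹ * (g * x * g⁻¹) = g * x * g⁻¹ * (g * z * g⁻¹)
    rw [conj_mul, conj_mul, hc]
  have heeA : e * e ∈ A := hee ▸ hzA
  let K := twoCosets A e he heeA
  let D := Invol.fourSubgroup hpp hqq hpqc
  have hDS : D ≤ S := by
    intro w hw
    change w ∈ ({1, p, q, p * q} : Set G) at hw
    simp only [Set.mem_insert_iff, Set.mem_singleton_iff] at hw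
    rcases hw with rfl | rfl | rfl | rfl
    exacts [one_mem _, hgz, hgx, mul_mem hgz hgx]
  set L := K ⊓ centralizer (D : Set G) with hL
  have heK : e ∈ K := Or.inr (by simp)
  have hAK : A ≤ K := fun w hw => Or.inl hw
  have heL : e ∈ L := ⟨heK, fun w hw => ((hes w (hDS hw)).eq).symm⟩
  have hDL : D ≤ L := fun w hw => ⟨hAK (C.le (hDS hw)), fun v hv => by
    have : ∀ d ∈ D, d = 1 ∨ d = p ∨ d = q ∨ d = p * q := fun d hd => by
      change d ∈ ({1, p, q, p * q} : Set G) at hd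
      simpa using hd
    have hc : Commute v w := by
      rcases this v hv with rfl | rfl | rfl | rfl <;> rcases this w hw with rfl | rfl | rfl | rfl <;>
        first
          | exact Commute.one_left _
          | exact Commute.one_right _
          | exact Commute.refl _
          | exact hpqc
          | exact hpqc.symm
          | exact (Commute.refl p).mul_right hpqc
          | exact hpqc.symm.mul_right (Commute.refl q)
          | exact ((Commute.refl p).mul_left hpqc.symm)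
          | exact (hpqc.mul_left (Commute.refl q))
    exact hc.eq⟩
  have h4 : IsPGroup 2 D := IsPGroup.of_card (n := 2) (by
    rw [InvFour.card_fourSubgroup hpp hqq hpqc hp1 hq1 hpq]; norm_num)
  have he4 : IsPGroup 2 (zpowers e) := by
    have h : e ^ (2 ^ 2) = 1 := by
      rw [show (2 : ℕ) ^ 2 = 2 * 2 by norm_num, pow_mul, pow_two, pow_two, hee, C.z_sq]
    obtain ⟨k, -, hk⟩ := (Nat.dvd_prime_pow Nat.prime_two).1 (orderOf_dvd_of_pow_eq_one h)
    exact IsPGroup.of_card (n := k) (by rw [Nat.card_zpowers, hk])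
  have hQ : IsPGroup 2 ((zpowers e ⊔ D : Subgroup G) : Subgroup G) := by
    refine he4.to_sup_of_normal_right' h4 (zpowers_le.2 ?_)
    refine centralizer_le_normalizer _ ?_
    exact fun w hw => ((hes w (hDS hw)).eq).symm
  have hQL : zpowers e ⊔ D ≤ L := sup_le (zpowers_le.2 heL) hDL
  set e' := g * e * g⁻¹ with he'
  have he'L : e' ∈ L := by
    refine ⟨?_, ?_⟩
    · exact K.mul_mem (K.mul_mem (hAK hg) heK) (K.inv_mem (hAK hg))
    · intro w hw
      change w ∈ ({1, p, q, p * q} : Set G) at hw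
      have hep : Commute p e' := by
        show g * z * g⁻¹ * (g * e * g⁻¹) = g * e * g⁻¹ * (g * z * g⁻¹)
        rw [conj_mul, conj_mul, (hes z C.z_mem).eq]
      have heq : Commute q e' := by
        show g * x * g⁻¹ * (g * e * g⁻¹) = g * e * g⁻¹ * (g * x * g⁻¹)
        rw [conj_mul, conj_mul, (hes x hx).eq]
      simp only [Set.mem_insert_iff, Set.mem_singleton_iff] at hw
      rcases hw with rfl | rfl | rfl | rfl
      exacts [by simp, hep.eq, heq.eq, (hep.mul_left heq).eq]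
  have he'2 : e' * e' = p := by rw [he', conj_mul, hee]
  have he'4 : IsPGroup 2 (zpowers (⟨e', he'L⟩ : L)) := by
    have h : (⟨e', he'L⟩ : L) ^ (2 ^ 2) = 1 := Subtype.ext (by
      rw [SubgroupClass.coe_pow, OneMemClass.coe_one,
        show (2 : ℕ) ^ 2 = 2 * 2 by norm_num, pow_mul, pow_two, pow_two, he'2, hpp])
    obtain ⟨k, -, hk⟩ := (Nat.dvd_prime_pow Nat.prime_two).1 (orderOf_dvd_of_pow_eq_one h)
    exact IsPGroup.of_card (n := k) (by rw [Nat.card_zpowers, hk])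
  obtain ⟨Q1, hQ1⟩ := (hQ.of_equiv (subgroupOfEquivOfLe hQL).symm).exists_le_sylow
  obtain ⟨Q2, hQ2⟩ := he'4.exists_le_sylow
  obtain ⟨c, hc⟩ := MulAction.exists_smul_eq L Q2 Q1
  set w : L := c * ⟨e', he'L⟩ * c⁻¹ with hw
  have hwQ : w ∈ (Q1 : Subgroup L) := by
    rw [← hc, Sylow.coe_subgroup_smul]
    exact ⟨⟨e', he'L⟩, hQ2 (mem_zpowers _), rfl⟩
  have hw2 : (w : G) * w = p := by
    have hcp : (c : G) * p = p * c := ((mem_centralizer_iff.1 c.2.2) p (Or.inr (Or.inl rfl))).symm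
    rw [hw, Subgroup.coe_mul, Subgroup.coe_mul, Subgroup.coe_inv, conj_mul, he'2, hcp]
    group
  -- every element of `Q1` squares into `{1, z}`
  set T := (Q1 : Subgroup L).map L.subtype with hT
  have hTp : IsPGroup 2 T := Q1.isPGroup'.map _
  have hTmem : ∀ v ∈ (zpowers e ⊔ D : Subgroup G), v ∈ T := fun v hv =>
    ⟨⟨v, hQL hv⟩, hQ1 (mem_subgroupOf.2 hv), rfl⟩
  have hR : T ⊓ A ≤ D := by
    obtain ⟨f, hfA, hf⟩ := C.sylow (T ⊓ A) inf_le_right (hTp.to_le inf_le_left)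
    have hDR : D ≤ T ⊓ A := fun v hv => ⟨hTmem v (mem_sup_right hv), C.le (hDS hv)⟩
    have hpR : p ∈ T ⊓ A := hDR (Or.inr (Or.inl rfl))
    have hqR : q ∈ T ⊓ A := hDR (Or.inr (Or.inr (Or.inl rfl)))
    obtain ⟨v, hv, hvout, hvv, hall⟩ := C.centralizer_four (hf p hpR) (hf q hqR)
      (by rw [conj_mul, hpp]; simp) (by rw [conj_mul, hqq]; simp)
      (fun h => hp1 (conj_eq_one_iff.1 h)) (fun h => hq1 (conj_eq_one_iff.1 h))
      (fun h => hpq (by simpa using h))
    have hle : (T ⊓ A).map (MulAut.conj f).toMonoidHom ≤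
        Invol.fourSubgroup C.z_sq hvv (C.commute_z v hv) := by
      rintro _ ⟨y, hy, rfl⟩
      have hcm : ∀ d ∈ D, Commute y d := fun d hd => by
        obtain ⟨⟨y', hy'⟩, -, rfl⟩ := hy.1
        exact ((mem_centralizer_iff.1 hy'.2) d hd).symm
      refine hall _ (hf y hy) ?_ ?_
      · show f * y * f⁻¹ * (f * p * f⁻¹) = f * p * f⁻¹ * (f * y * f⁻¹)
        rw [conj_mul, conj_mul, (hcm p (Or.inr (Or.inl rfl))).eq]
      · show f * y * f⁻¹ * (f * q * f⁻¹) = f * q * f⁻¹ * (f * y * f⁻¹)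
        rw [conj_mul, conj_mul, (hcm q (Or.inr (Or.inr (Or.inl rfl)))).eq]
    have hcard := card_le_of_le hle
    rw [card_map_of_injective (MulAut.conj f).injective,
      InvFour.card_fourSubgroup C.z_sq hvv _ C.z_ne_one (fun h => hvout (h ▸ one_mem _))
        (fun h => hvout (h ▸ zpow_mem (mem_zpowers a) _)),
      ← InvFour.card_fourSubgroup hpp hqq hpqc hp1 hq1 hpq] at hcard
    exact (eq_of_le_of_card_ge hDR hcard).ge
  have hwT : (w : G) ∈ T := ⟨w, hwQ, rfl⟩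
  rcases w.2.1 with hwA | hwA
  · have := InvFour.sq_eq_one_of_mem hpp hqq hpqc _ (hR ⟨hwT, hwA⟩)
    exact absurd (hw2.symm.trans this) hp1
  · have hd : (w : G) * e⁻¹ ∈ D :=
      hR ⟨T.mul_mem hwT (T.inv_mem (hTmem e (mem_sup_left (mem_zpowers e)))), hwA⟩
    set d := (w : G) * e⁻¹ with hd'
    have hde : (w : G) = d * e := by rw [hd']; group
    have hcd : Commute e d := hes d (hDS hd)
    have : (w : G) * w = d * d * (e * e) := by
      rw [hde, mul_assoc, ← mul_assoc e d e, hcd.eq, mul_assoc d e e, ← mul_assoc]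
    rw [hw2, InvFour.sq_eq_one_of_mem hpp hqq hpqc d hd, one_mul, hee] at this
    exact this

omit [Finite G] in
/-- An involution `u` centralising no four-subgroup of `S` either is inner with square root `c` of
the central involution or acts as `-1` or `2 ^ (m - 1) + 1` on `a`. -/
theorem Cfg.analyse (C : Cfg A S a b m i) {u : G} (hu : u * u = 1) {r j : ℤ}
    (hr : u * a * u⁻¹ = a ^ r) (hj : u * b * u⁻¹ = a ^ j * b)
    (hbad : ∀ k : ℤ, (a ^ k * b) * (a ^ k * b) = 1 → u * (a ^ k * b) * u⁻¹ ≠ a ^ k * b) :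
    (∃ c ∈ S, c * c = zz a m ∧ Commute u c ∧ Commute (u * c⁻¹) a ∧ Commute (u * c⁻¹) b) ∨
      (2 : ℤ) * 2 ^ (m - 1) ∣ r + 1 ∨
      (i ≠ -1 ∧ (2 : ℤ) * 2 ^ (m - 1) ∣ r - (2 ^ (m - 1) + 1)) := by
  have hui : u⁻¹ = u := inv_eq_of_mul_eq_one_right hu
  have hpow : ∀ k : ℤ, u * a ^ k * u⁻¹ = a ^ (r * k) := fun k => by
    rw [zpow_mul, ← hr, conj_zpow]
  have himg : ∀ k : ℤ, u * (a ^ k * b) * u⁻¹ = a ^ (r * k + j) * b := fun k => by
    rw [zpow_add, mul_assoc (a ^ (r * k)), ← hj, ← hpow]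
    group
  have hsq : ∀ k : ℤ, a ^ k * b * (a ^ k * b) = a ^ (k + i * k) := fun k => C.mul_mul k k
  have hbad' : ∀ k : ℤ, (2 : ℤ) * 2 ^ (m - 1) ∣ k + i * k →
      ¬ (2 : ℤ) * 2 ^ (m - 1) ∣ r * k + j - k := fun k hk h => by
    refine hbad k (by rw [hsq, C.eq_one_iff]; exact hk) ?_
    rw [himg, (C.eq_iff _ _).2 h]
  have hr2 : (2 : ℤ) * 2 ^ (m - 1) ∣ r * r - 1 := by
    rw [← C.eq_iff, zpow_one, ← hpow, ← hr, hui]
    simp [← mul_assoc, hu, mul_assoc a u u]
  have hj1 : (2 : ℤ) * 2 ^ (m - 1) ∣ j + i * j := by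
    rw [← C.eq_one_iff, ← hsq, ← hj, conj_mul, C.bsq]
    simp
  have hj2 : (2 : ℤ) * 2 ^ (m - 1) ∣ r * j + j := by
    rw [← C.eq_one_iff]
    have h := himg j
    rw [← hj, hui] at h
    simp only [← mul_assoc, hu, one_mul] at h
    rw [mul_assoc, hu, mul_one] at h
    exact (mul_right_cancel ((one_mul b).trans h)).symm
  have hm1 : (2 : ℤ) * 2 ^ (m - 1) = 2 ^ m :=
    (InvFour.pow_pred_two (show 1 ≤ m by have := C.two; omega)).symm
  rcases InvFour.sq_roots C.two (hm1 ▸ hr2) with h | h | h | h <;> rw [← hm1] at h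
  · -- `u` centralises `a`
    left
    obtain ⟨n, rfl⟩ : ∃ n, m = n + 2 := ⟨m - 2, by have := C.two; omega⟩
    simp only [show n + 2 - 1 = n + 1 by omega] at *
    have hj0 : ¬ (2 : ℤ) * 2 ^ (n + 1) ∣ j := fun hd => hbad' 0 (by simp) (by simpa using hd)
    obtain ⟨c1, hc1⟩ := h
    obtain ⟨c2, hc2⟩ := hj2
    obtain ⟨t, ht⟩ : (2 : ℤ) ^ (n + 1) ∣ j := by
      refine ⟨c2 - c1 * j, mul_left_cancel₀ (two_ne_zero (α := ℤ)) ?_⟩
      linear_combination hc2 - j * hc1
    obtain ⟨s, rfl⟩ : Odd t := by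
      by_contra hh
      obtain ⟨s, rfl⟩ := Int.not_odd_iff_even.1 hh
      exact hj0 ⟨s, by rw [ht]; ring⟩
    have hra : a ^ r = a ^ (1 : ℤ) := (C.eq_iff _ _).2 (by
      simp only [show n + 2 - 1 = n + 1 by omega]
      exact ⟨c1, hc1⟩)
    have hua : Commute u a := mul_inv_eq_iff_eq_mul.mp (by rw [hr, hra, zpow_one])
    refine ⟨a ^ ((2 : ℤ) ^ n), zpow_mem C.amem _, ?_, hua.zpow_right _,
      hua.mul_left ((Commute.refl a).zpow_left _).inv_left, ?_⟩
    · show a ^ (2 : ℤ) ^ n * a ^ (2 : ℤ) ^ n = a ^ ((2 : ℤ) ^ (n + 2 - 1))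
      rw [← zpow_add, show n + 2 - 1 = n + 1 by omega, pow_succ]
      ring_nf
    · set h2 := (2 : ℤ) ^ n with hh2
      have hcb : (a ^ h2)⁻¹ * b * a ^ h2 = a ^ (-h2 + i * h2) * b := by
        rw [zpow_add, ← C.conj_pow, zpow_neg]
        simp [mul_assoc, C.bsq]
      show u * (a ^ h2)⁻¹ * b = b * (u * (a ^ h2)⁻¹)
      apply mul_inv_eq_iff_eq_mul.mp
      rw [show u * (a ^ h2)⁻¹ * b * (u * (a ^ h2)⁻¹)⁻¹ = u * ((a ^ h2)⁻¹ * b * a ^ h2) * u⁻¹ by
        group, hcb, himg]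
      conv_rhs => rw [← one_mul b, ← zpow_zero a]
      rw [(C.eq_iff _ _).2]
      simp only [show n + 2 - 1 = n + 1 by omega]
      rcases C.icases with rfl | ⟨h3, rfl⟩
      · exact ⟨-(2 * c1 * h2) + s, by
          rw [pow_succ] at hc1 ht ⊢; rw [← hh2] at hc1 ht ⊢
          linear_combination (-2 * h2) * hc1 + ht⟩
      · obtain ⟨q, hq⟩ : ∃ q, h2 = 2 * q := ⟨2 ^ (n - 1), by
          rw [hh2, ← pow_succ', show n - 1 + 1 = n by omega]⟩
        simp only [show n + 2 - 1 = n + 1 by omega]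
        exact ⟨c1 * (-h2 + (2 ^ (n + 1) - 1) * h2) + s + q, by
          rw [pow_succ] at hc1 ht ⊢; rw [← hh2] at hc1 ht ⊢; rw [hq] at hc1 ht ⊢
          linear_combination (-2 * q + (4 * q - 1) * (2 * q)) * hc1 + ht⟩
  · exact Or.inr (Or.inl (by simpa using h))
  · rcases C.icases with rfl | ⟨-, hi⟩
    · -- dihedral: `a ↦ a ^ (2 ^ (m - 1) + 1)`
      rcases Nat.lt_or_ge m 3 with hm3 | hm3
      · right; left
        obtain rfl : m = 2 := by have := C.two; omega
        norm_num at h ⊢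
        omega
      · exfalso
        obtain ⟨q, hq⟩ : ∃ q : ℤ, (2 : ℤ) ^ (m - 1) = 4 * q :=
          ⟨2 ^ (m - 3), by rw [show m - 1 = m - 3 + 2 by omega, pow_add]; ring⟩
        rw [hq] at h hj2
        obtain ⟨c1, hc1⟩ := h
        obtain ⟨c2, hc2⟩ := hj2
        have hju : j * (1 + 2 * q) = 4 * q * (c2 - c1 * j) := by
          apply mul_left_cancel₀ (two_ne_zero (α := ℤ))
          linear_combination hc2 - j * hc1
        set t := (c2 - c1 * j) * (1 + 2 * q) - j * (1 + q) with ht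
        have hjt : j = 4 * q * t := by linear_combination (1 + 2 * q) * hju
        refine hbad' (-t) ⟨0, by ring⟩ ⟨-c1 * t, ?_⟩
        rw [hq]
        linear_combination (-t) * hc1 + hjt
    · refine Or.inr (Or.inr ⟨fun hh => ?_, h⟩)
      have : (0 : ℤ) < 2 ^ (m - 1) := by positivity
      omega
  · -- `a ↦ a ^ (2 ^ (m - 1) - 1)`
    rcases Nat.lt_or_ge m 3 with hm3 | hm3
    · -- this is the identity when `m = 2`
      obtain rfl : m = 2 := by have := C.two; omega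
      have hi : i = -1 := C.icases.resolve_right fun h => by omega
      subst hi
      left
      norm_num at h hj2 hbad' ⊢
      have hj0 : ¬ (4 : ℤ) ∣ j := fun hd => hbad' 0 (by simpa using hd)
      obtain ⟨c1, hc1⟩ := h
      have hj' : (2 : ℤ) ∣ j := by
        obtain ⟨c2, hc2⟩ := hj2
        refine ⟨c2 - c1 * j, mul_left_cancel₀ (two_ne_zero (α := ℤ)) ?_⟩
        linear_combination hc2 - j * hc1
      obtain ⟨s, rfl⟩ := hj'
      have hodd : Odd s := by
        by_contra hh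
        obtain ⟨s', rfl⟩ := Int.not_odd_iff_even.1 hh
        exact hj0 ⟨s', by ring⟩
      obtain ⟨s', rfl⟩ := hodd
      have hra : a ^ r = a ^ (1 : ℤ) := (C.eq_iff _ _).2 ⟨c1, by norm_num; linarith⟩
      have hua : Commute u a := mul_inv_eq_iff_eq_mul.mp (by rw [hr, hra, zpow_one])
      refine ⟨a, C.amem, ?_, hua, hua.mul_left (Commute.refl a).inv_left, ?_⟩
      · show a * a = a ^ ((2 : ℤ) ^ (2 - 1))
        norm_num [zpow_two, zpow_ofNat, pow_two]
      · show u * a⁻¹ * b = b * (u * a⁻¹)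
        apply mul_inv_eq_iff_eq_mul.mp
        have hcb : a⁻¹ * b * a = a ^ (-1 + (-1) * (1 : ℤ)) * b := by
          rw [zpow_add, ← C.conj_pow, zpow_neg_one, zpow_one]
          simp [mul_assoc, C.bsq]
        rw [show u * a⁻¹ * b * (u * a⁻¹)⁻¹ = u * (a⁻¹ * b * a) * u⁻¹ by group, hcb, himg]
        conv_rhs => rw [← one_mul b, ← zpow_zero a]
        rw [(C.eq_iff _ _).2]
        exact ⟨-2 * c1 + s', by norm_num; linarith⟩
    obtain ⟨q, hq⟩ : ∃ q : ℤ, (2 : ℤ) ^ (m - 1) = 4 * q :=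
      ⟨2 ^ (m - 3), by rw [show m - 1 = m - 3 + 2 by omega, pow_add]; ring⟩
    rw [hq] at h hj1 hj2 hbad' hr2
    obtain ⟨c1, hc1⟩ := h
    obtain ⟨c2, hc2⟩ := hj2
    obtain ⟨j', rfl⟩ : (2 : ℤ) ∣ j := by
      have h2 : j * q * 4 = 2 * (4 * q) * (c2 - c1 * j) := by linear_combination hc2 - j * hc1
      have hq0 : 4 * q ≠ 0 := by rw [← hq]; positivity
      exact ⟨c2 - c1 * j, mul_left_cancel₀ hq0 (by linear_combination h2)⟩
    set l := -j' * (2 * q - 1) with hl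
    have hsol : (2 : ℤ) * (4 * q) ∣ r * l + 2 * j' - l :=
      ⟨c1 * l - j' * (q - 1), by rw [hl]; linear_combination (-j' * (2 * q - 1)) * hc1⟩
    rcases C.icases with rfl | ⟨-, hi⟩
    · exact absurd hsol (hbad' l ⟨0, by ring⟩)
    rw [hq] at hi
    subst hi
    obtain ⟨s, hs⟩ : Odd l := by
      by_contra hh
      obtain ⟨s, hs⟩ := Int.not_odd_iff_even.1 hh
      exact hbad' l ⟨s, by rw [hs]; ring⟩ hsol
    left
    set c := a ^ l * b with hc
    have hcu : u * c * u⁻¹ = c := by rw [hc, himg, (C.eq_iff _ _).2 (by rw [hq]; exact hsol)]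
    have hcom : Commute u c := mul_inv_eq_iff_eq_mul.mp hcu
    refine ⟨c, mul_mem (zpow_mem C.amem _) C.bmem, ?_, hcom, ?_, ?_⟩
    · rw [hc, hsq, zz, C.eq_iff, hq]
      exact ⟨s, by rw [hs]; ring⟩
    · show u * c⁻¹ * a = a * (u * c⁻¹)
      apply mul_inv_eq_iff_eq_mul.mp
      have hci : c⁻¹ * a * c = a ^ (4 * q - 1) := by
        have h1 : c⁻¹ * a * c = b * a * b⁻¹ := by rw [hc, mul_inv_rev, C.b_inv]; group
        rw [h1, C.conj]
      rw [show u * c⁻¹ * a * (u * c⁻¹)⁻¹ = u * (c⁻¹ * a * c) * u⁻¹ by group, hci, hpow]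
      conv_rhs => rw [← zpow_one a]
      rw [C.eq_iff, hq]
      exact ⟨c1 * (4 * q - 1) + 2 * q - 1, by linear_combination (4 * q - 1) * hc1⟩
    · show u * c⁻¹ * b = b * (u * c⁻¹)
      apply mul_inv_eq_iff_eq_mul.mp
      have hci : c⁻¹ * b * c = a ^ (((4 * q - 1) * -l) + l) * b := by
        rw [hc, mul_inv_rev, C.b_inv, zpow_add, ← C.conj_pow, zpow_neg]
        group
      rw [show u * c⁻¹ * b * (u * c⁻¹)⁻¹ = u * (c⁻¹ * b * c) * u⁻¹ by group, hci, himg]
      conv_rhs => rw [← one_mul b, ← zpow_zero a]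
      rw [(C.eq_iff _ _).2]
      rw [hq]
      exact ⟨c1 * ((2 - 4 * q) * l) + j' * (4 * q ^ 2 - 5 * q + 2), by
        rw [hl]; linear_combination (-(2 - 4 * q) * j' * (2 * q - 1)) * hc1⟩

end

/-- Some element centralising the Sylow subgroup squares to the central involution. -/
theorem exists_e {G : Type*} [Group G] [Finite G] {A S : Subgroup G} {a b : G} {m : ℕ} {i : ℤ}
    (C : Cfg A S a b m i) (U : Subgroup G) (hU : IsKleinFour U)
    (hUA : U ≤ normalizer (A : Set G)) (hUa : ∀ u ∈ U, u * a * u⁻¹ ∈ zpowers a)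
    (hUS : ∀ u ∈ U, ∀ x ∈ S, u * x * u⁻¹ ∈ S)
    (hbad : ∀ u ∈ U, u ≠ 1 → ∀ x y : G, x ∈ A → y ∈ A → x * x = 1 → y * y = 1 → x ≠ 1 → y ≠ 1 →
      x ≠ y → Commute x y → Commute u x → Commute u y → False) :
    ∃ e ∈ normalizer (A : Set G), (∀ x ∈ S, Commute e x) ∧ e * e = zz a m := by
  have huu : ∀ u ∈ U, u * u = 1 := fun u hu => by
    have := Monoid.pow_exponent_eq_one (⟨u, hu⟩ : U)
    rw [hU.exponent_two, pow_two] at this
    exact congrArg Subtype.val this
  have han : ∀ u ∈ U, ∃ r : ℤ, u * a * u⁻¹ = a ^ r := fun u hu => by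
    obtain ⟨r, hr⟩ := mem_zpowers_iff.1 (hUa u hu)
    exact ⟨r, hr.symm⟩
  have himb : ∀ u ∈ U, ∃ j : ℤ, u * b * u⁻¹ = a ^ j * b := by
    intro u hu
    obtain ⟨l, h | h⟩ := C.cover _ (hUS u hu b C.bmem)
    · exfalso
      apply C.bout
      have h' : b = u⁻¹ * a ^ l * u⁻¹⁻¹ := by rw [← h]; group
      rw [h']
      obtain ⟨r, hr⟩ := han u⁻¹ (inv_mem hu)
      rw [← conj_zpow, hr, ← zpow_mul]
      exact zpow_mem (mem_zpowers a) _
    · exact ⟨l, h⟩
  have huz : ∀ u ∈ U, Commute u (zz a m) := by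
    intro u hu
    obtain ⟨r, hr⟩ := han u hu
    have h1 : u * zz a m * u⁻¹ ∈ zpowers a := by
      rw [← conj_zpow, hr, ← zpow_mul]; exact zpow_mem (mem_zpowers a) _
    rcases C.eq_one_or_z h1 (by rw [conj_mul, C.z_sq]; simp) with h | h
    · exact absurd (conj_eq_one_iff.1 h) C.z_ne_one
    · exact mul_inv_eq_iff_eq_mul.mp h
  have hcase : ∀ u ∈ U, u ≠ 1 →
      (∃ e ∈ normalizer (A : Set G), (∀ x ∈ S, Commute e x) ∧ e * e = zz a m) ∨
      ∃ r : ℤ, u * a * u⁻¹ = a ^ r ∧ ((2 : ℤ) * 2 ^ (m - 1) ∣ r + 1 ∨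
        (i ≠ -1 ∧ (2 : ℤ) * 2 ^ (m - 1) ∣ r - (2 ^ (m - 1) + 1))) := by
    intro u hu hu1
    obtain ⟨r, hr⟩ := han u hu
    obtain ⟨j, hj⟩ := himb u hu
    have hbk : ∀ k : ℤ, a ^ k * b * (a ^ k * b) = 1 →
        u * (a ^ k * b) * u⁻¹ ≠ a ^ k * b := by
      intro k hk hf
      refine hbad u hu hu1 (zz a m) (a ^ k * b) (C.le C.z_mem)
        (C.le (mul_mem (zpow_mem C.amem k) C.bmem)) C.z_sq hk C.z_ne_one ?_ ?_
        (C.commute_z _ (mul_mem (zpow_mem C.amem k) C.bmem)) (huz u hu) ?_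
      · intro h
        exact C.bout (by rw [eq_inv_of_mul_eq_one_right h]; exact inv_mem (zpow_mem (mem_zpowers a) k))
      · intro h
        refine C.bout ?_
        have : b = (a ^ k)⁻¹ * zz a m := by rw [h]; group
        rw [this]
        exact mul_mem (inv_mem (zpow_mem (mem_zpowers a) k)) (zpow_mem (mem_zpowers a) _)
      · exact mul_inv_eq_iff_eq_mul.mp hf
    rcases C.analyse (huu u hu) hr hj hbk with ⟨c, hc, hcz, huc, hua, hub⟩ | h
    · left
      refine ⟨u * c⁻¹, mul_mem (hUA hu) (inv_mem (le_normalizer (C.le hc))), fun x hx => ?_, ?_⟩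
      · obtain ⟨l, rfl | rfl⟩ := C.cover x hx
        · exact hua.zpow_right l
        · exact (hua.zpow_right l).mul_right hub
      · calc u * c⁻¹ * (u * c⁻¹) = (u * u) * (c⁻¹ * c⁻¹) := by
              rw [mul_assoc, ← mul_assoc c⁻¹ u, ← (huc.inv_right).eq, mul_assoc u c⁻¹ c⁻¹,
                ← mul_assoc u u]
          _ = zz a m := by
              rw [huu u hu, one_mul, ← mul_inv_rev, hcz]
              exact inv_eq_of_mul_eq_one_right C.z_sq
    · exact Or.inr ⟨r, hr, h⟩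
  have hcard := hU.card_four
  haveI : Finite U := Nat.finite_of_card_ne_zero (by omega)
  obtain ⟨u1, hu1, hu11⟩ : ∃ u ∈ U, u ≠ 1 := (U.bot_or_exists_ne_one).resolve_left fun h => by
    rw [h, card_bot] at hcard; omega
  obtain ⟨u2, hu2, hu21⟩ : ∃ u ∈ U, u ∉ zpowers u1 := by
    by_contra hh
    push Not at hh
    have := card_le_of_le (show U ≤ zpowers u1 from hh)
    have h2 : orderOf u1 ≤ 2 := Nat.le_of_dvd two_pos
      (orderOf_dvd_of_pow_eq_one (by rw [pow_two]; exact huu u1 hu1))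
    rw [hcard, Nat.card_zpowers] at this
    omega
  have hu20 : u2 ≠ 1 := fun h => hu21 (h ▸ one_mem _)
  have hu12 : u1 * u2 ≠ 1 := fun h => hu21 (by
    rw [eq_inv_of_mul_eq_one_right h]; exact inv_mem (mem_zpowers u1))
  rcases hcase u1 hu1 hu11 with h | ⟨r1, hr1, h1⟩
  · exact h
  rcases hcase u2 hu2 hu20 with h | ⟨r2, hr2, h2⟩
  · exact h
  rcases hcase _ (mul_mem hu1 hu2) hu12 with h | ⟨r3, hr3, h3⟩
  · exact h
  exfalso
  have h12 : u1 * u2 * a * (u1 * u2)⁻¹ = a ^ (r1 * r2) := by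
    rw [zpow_mul, ← hr1, conj_zpow, ← hr2]; group
  rw [h12, C.eq_iff] at hr3
  have hm := C.two
  obtain ⟨q, hq⟩ := C.half_even
  have h4 : (4 : ℤ) ∣ 2 * 2 ^ (m - 1) := ⟨q, by rw [hq]; ring⟩
  rcases C.icases with hi | ⟨hm3, hi⟩
  · have key : ∀ r : ℤ, ((2 : ℤ) * 2 ^ (m - 1) ∣ r + 1 ∨
        (i ≠ -1 ∧ (2 : ℤ) * 2 ^ (m - 1) ∣ r - (2 ^ (m - 1) + 1))) → ∃ s, r = 4 * s - 1 := by
      intro r hr
      rcases hr with h | ⟨h', -⟩
      · obtain ⟨s, hs⟩ := h4.trans h; exact ⟨s, by linarith⟩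
      · exact absurd hi h'
    obtain ⟨s1, rfl⟩ := key r1 h1
    obtain ⟨s2, rfl⟩ := key r2 h2
    obtain ⟨s3, rfl⟩ := key r3 h3
    obtain ⟨c, hc⟩ := h4.trans hr3
    have : (4 * s1 - 1) * (4 * s2 - 1) = 4 * (4 * s1 * s2 - s1 - s2) + 1 := by ring
    omega
  · obtain ⟨w, hw⟩ : ∃ w : ℤ, (2 : ℤ) ^ (m - 1) = 4 * w :=
      ⟨2 ^ (m - 3), by rw [show m - 1 = m - 3 + 2 by omega, pow_add]; ring⟩
    have key : ∀ r : ℤ, ((2 : ℤ) * 2 ^ (m - 1) ∣ r + 1 ∨
        (i ≠ -1 ∧ (2 : ℤ) * 2 ^ (m - 1) ∣ r - (2 ^ (m - 1) + 1))) →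
        ∃ s ε : ℤ, (ε = 0 ∨ ε = 1) ∧ r = (2 * (4 * w)) * s + ε * (4 * w + 2) - 1 := by
      intro r hr
      rcases hr with ⟨s, hs⟩ | ⟨-, s, hs⟩ <;> rw [hw] at hs
      · exact ⟨s, 0, Or.inl rfl, by linarith⟩
      · exact ⟨s, 1, Or.inr rfl, by linarith⟩
    obtain ⟨s1, e1, he1, rfl⟩ := key r1 h1
    obtain ⟨s2, e2, he2, rfl⟩ := key r2 h2
    obtain ⟨s3, e3, he3, rfl⟩ := key r3 h3
    obtain ⟨c, hc⟩ := hr3
    rw [hw] at hc
    have hw0 : 4 * w ≠ 0 := by rw [← hw]; positivity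
    -- modulo `4` the right side is `2 * e3 - 1`, the left one `1 - 2 * (e1 + e2)` plus `4 e1 e2`
    obtain ⟨N, hN⟩ : ∃ N : ℤ, (e1 * (4 * w + 2) - 1) * (e2 * (4 * w + 2) - 1) -
        (e3 * (4 * w + 2) - 1) = 8 * (w * N) :=
      ⟨c - (8 * w * s1 * s2 + s1 * (e2 * (4 * w + 2) - 1) + s2 * (e1 * (4 * w + 2) - 1) - s3), by
        linear_combination hc⟩
    rcases he1 with rfl | rfl <;> rcases he2 with rfl | rfl <;> rcases he3 with rfl | rfl <;>
      first
        | (ring_nf at hN; omega)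
        | (have h0 : 4 * w * (2 * N + 1) = 0 := by linear_combination -hN
           rcases mul_eq_zero.1 h0 with h | h
           · exact hw0 h
           · omega)
        | (have h0 : 4 * w * (4 * w + 1 - 2 * N) = 0 := by linear_combination hN
           rcases mul_eq_zero.1 h0 with h | h
           · exact hw0 h
           · omega)

/-- Let A be a semisimple subgroup (A = E(A)) of a finite group and U a Klein four-group normalizing A. If the subgroup of A generated by the normalizers N_A(V) of the nontrivial subgroups V of U has 2-rank exactly 1, then A has 2-rank exactly 1. -/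
theorem result {G : Type*} [Group G] [Finite G] (A : Subgroup G) (hA : Cfsg.layer ↥A = ⊤)
    (U : Subgroup G) (hU : IsKleinFour U) (hUA : U ≤ Subgroup.normalizer (A : Set G))
    (hΓ : Cfsg.PRankLE 2 1 ↥(⨆ V : {V : Subgroup G // V ≤ U ∧ V ≠ ⊥}, A ⊓ Subgroup.normalizer ((V : Subgroup G) : Set G)) ∧
      ¬ Cfsg.PRankLE 2 0 ↥(⨆ V : {V : Subgroup G // V ≤ U ∧ V ≠ ⊥}, A ⊓ Subgroup.normalizer ((V : Subgroup G) : Set G))) :
    Cfsg.PRankLE 2 1 A ∧ ¬ Cfsg.PRankLE 2 0 A := by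
  haveI : Fact (Nat.Prime 2) := ⟨Nat.prime_two⟩
  set Γ := ⨆ V : {V : Subgroup G // V ≤ U ∧ V ≠ ⊥},
    A ⊓ Subgroup.normalizer ((V : Subgroup G) : Set G) with hΓdef
  have hΓA : Γ ≤ A := iSup_le fun V => inf_le_left
  refine ⟨?_, fun h => hΓ.2 fun B hBc hB => ?_⟩
  swap
  · haveI := hBc
    have hi := Subgroup.inclusion_injective hΓA
    rw [← Subgroup.card_map_of_injective hi]
    refine h _ (Subgroup.map_isMulCommutative B _) ?_
    rintro _ ⟨x, hx, rfl⟩
    rw [← map_pow, hB x hx, map_one]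
  by_contra hne
  obtain ⟨B, hBc, hB, hBcard⟩ : ∃ B : Subgroup A, IsMulCommutative B ∧ (∀ b ∈ B, b ^ 2 = 1) ∧
      2 < Nat.card B := by
    simp only [Cfsg.PRankLE, pow_one] at hne
    push Not at hne
    exact hne
  have huu : ∀ u ∈ U, u * u = 1 := fun u hu => by
    have := Monoid.pow_exponent_eq_one (⟨u, hu⟩ : U)
    rw [hU.exponent_two, pow_two] at this
    exact congrArg Subtype.val this
  have hbad : ∀ u ∈ U, u ≠ 1 → ∀ x y : G, x ∈ A → y ∈ A → x * x = 1 → y * y = 1 → x ≠ 1 → y ≠ 1 →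
      x ≠ y → Commute x y → Commute u x → Commute u y → False := by
    intro u hu hu1 x y hx hy hxx hyy hx1 hy1 hxy hc hux huy
    set F := Invol.fourSubgroup hxx hyy hc
    have hFΓ : F ≤ Γ := by
      refine le_trans ?_ (le_iSup (fun V : {V : Subgroup G // V ≤ U ∧ V ≠ ⊥} =>
        A ⊓ Subgroup.normalizer ((V : Subgroup G) : Set G))
        ⟨Subgroup.zpowers u, Subgroup.zpowers_le.2 hu, by simpa using hu1⟩)
      intro w hw
      change w ∈ ({1, x, y, x * y} : Set G) at hw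
      simp only [Set.mem_insert_iff, Set.mem_singleton_iff] at hw
      have key : ∀ v ∈ A, Commute u v →
          v ∈ A ⊓ Subgroup.normalizer ((Subgroup.zpowers u : Subgroup G) : Set G) := by
        intro v hv huv
        refine ⟨hv, Subgroup.centralizer_le_normalizer _ ?_⟩
        rintro _ ⟨n, rfl⟩
        exact (huv.zpow_left n).eq
      rcases hw with rfl | rfl | rfl | rfl
      exacts [key 1 (one_mem _) (Commute.one_right _), key _ hx hux, key _ hy huy,
        key _ (mul_mem hx hy) (hux.mul_right huy)]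
    have hle := hΓ.1 (F.subgroupOf Γ) ⟨⟨fun p q => by
        apply Subtype.ext; apply Subtype.ext
        have hp : ((p : Γ) : G) ∈ F := p.2
        have hq : ((q : Γ) : G) ∈ F := q.2
        have hsq := InvFour.sq_eq_one_of_mem hxx hyy hc
        show ((p : Γ) : G) * (q : Γ) = ((q : Γ) : G) * (p : Γ)
        rw [← inv_eq_of_mul_eq_one_right (hsq _ (mul_mem hp hq)), mul_inv_rev,
          inv_eq_of_mul_eq_one_right (hsq _ hp), inv_eq_of_mul_eq_one_right (hsq _ hq)]⟩⟩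
      fun w hw => Subtype.ext (by
        rw [SubgroupClass.coe_pow, pow_two]
        exact InvFour.sq_eq_one_of_mem hxx hyy hc _ hw)
    rw [Nat.card_congr (Subgroup.subgroupOfEquivOfLe hFΓ).toEquiv,
      InvFour.card_fourSubgroup hxx hyy hc hx1 hy1 hxy] at hle
    norm_num at hle
  -- a Sylow 2-subgroup `T` of `N = N_G(A)` containing `U`
  set N := Subgroup.normalizer (A : Set G) with hN
  have hUp : IsPGroup 2 (U.subgroupOf N) := fun x => ⟨1, Subtype.ext (Subtype.ext (by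
    simp only [pow_one, SubgroupClass.coe_pow, pow_two]
    exact huu _ x.2))⟩
  obtain ⟨T, hT⟩ := hUp.exists_le_sylow
  haveI : (A.subgroupOf N).Normal := Subgroup.normal_in_normalizer
  obtain ⟨P', hP'⟩ := SmithTyrer.exists_sylow_inf_normal T (A.subgroupOf N)
  let S₀ : Subgroup (T : Subgroup N) := (A.subgroupOf N).subgroupOf (T : Subgroup N)
  haveI : S₀.Normal := Subgroup.Normal.subgroupOf inferInstance _
  obtain ⟨u1, hu1, hu11⟩ : ∃ u ∈ U, u ≠ 1 := (U.bot_or_exists_ne_one).resolve_left fun h => by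
    have := hU.card_four
    rw [h, Subgroup.card_bot] at this
    omega
  have hno : ∀ W : Subgroup (T : Subgroup N), W.Normal → W ≤ S₀ → Nat.card W = 4 →
      (∀ w ∈ W, w * w = 1) → False := by
    intro W hWn hWS hWc hW
    haveI := hWn
    obtain ⟨z0, hz0, hz1⟩ := (Subgroup.bot_or_exists_ne_one _).resolve_left
      (PGroup.inf_center_ne_bot T.isPGroup' W fun h => by
        rw [h, Subgroup.card_bot] at hWc; omega)
    obtain ⟨e0, he0, hez⟩ : ∃ e0 ∈ W, e0 ∉ Subgroup.zpowers z0 := by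
      by_contra hh
      push Not at hh
      have := Subgroup.card_le_of_le (show W ≤ Subgroup.zpowers z0 from hh)
      have h2 : orderOf z0 ≤ 2 := Nat.le_of_dvd two_pos
        (orderOf_dvd_of_pow_eq_one (by rw [pow_two]; exact hW z0 hz0.1))
      rw [hWc, Nat.card_zpowers] at this
      omega
    have he1 : e0 ≠ 1 := fun h => hez (h ▸ one_mem _)
    have hze : z0 ≠ e0 := fun h => hez (h ▸ Subgroup.mem_zpowers z0)
    have hcm : Commute z0 e0 := ((Subgroup.mem_center_iff.1 hz0.2) e0).symm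
    have hall : W = Invol.fourSubgroup (hW z0 hz0.1) (hW e0 he0) hcm := by
      refine (Subgroup.eq_of_le_of_card_ge ?_ (by
        rw [InvFour.card_fourSubgroup _ _ _ hz1 he1 hze, hWc])).symm
      intro w hw
      change w ∈ ({1, z0, e0, z0 * e0} : Set _) at hw
      simp only [Set.mem_insert_iff, Set.mem_singleton_iff] at hw
      rcases hw with rfl | rfl | rfl | rfl
      exacts [one_mem _, hz0.1, he0, mul_mem hz0.1 he0]
    have himg : ∀ t : (T : Subgroup N), t * e0 * t⁻¹ = e0 ∨ t * e0 * t⁻¹ = z0 * e0 := by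
      intro t
      have := hWn.conj_mem e0 he0 t
      rw [hall] at this
      change t * e0 * t⁻¹ ∈ ({1, z0, e0, z0 * e0} : Set _) at this
      simp only [Set.mem_insert_iff, Set.mem_singleton_iff] at this
      rcases this with h | h | h | h
      · exact absurd (conj_eq_one_iff.1 h) he1
      · refine absurd ?_ hze.symm
        have hcz := (Subgroup.mem_center_iff.1 hz0.2) t
        calc e0 = t⁻¹ * (t * e0 * t⁻¹) * t := by group
          _ = t⁻¹ * (z0 * t) := by rw [h, mul_assoc]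
          _ = z0 := by rw [← hcz]; group
      · exact Or.inl h
      · exact Or.inr h
    have hUT : ∀ u, ∀ hu : u ∈ U, (⟨u, hUA hu⟩ : N) ∈ (T : Subgroup N) :=
      fun u hu => hT (Subgroup.mem_subgroupOf.2 hu)
    have hfix : ∀ u, ∀ hu : u ∈ U, u ≠ 1 →
        (⟨⟨u, hUA hu⟩, hUT u hu⟩ : (T : Subgroup N)) * e0 *
          (⟨⟨u, hUA hu⟩, hUT u hu⟩ : (T : Subgroup N))⁻¹ = e0 → False := by
      intro u hu hu1 he
      have hez' := mul_inv_eq_iff_eq_mul.mp he
      have hzz' := (Subgroup.mem_center_iff.1 hz0.2) (⟨⟨u, hUA hu⟩, hUT u hu⟩ : (T : Subgroup N))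
      refine hbad u hu hu1 ((z0 : N) : G) ((e0 : N) : G) (hWS hz0.1) (hWS he0) ?_ ?_ ?_ ?_ ?_ ?_
        ?_ ?_
      · exact congrArg (fun w : (T : Subgroup N) => ((w : N) : G)) (hW z0 hz0.1)
      · exact congrArg (fun w : (T : Subgroup N) => ((w : N) : G)) (hW e0 he0)
      · exact fun h => hz1 (Subtype.ext (Subtype.ext h))
      · exact fun h => he1 (Subtype.ext (Subtype.ext h))
      · exact fun h => hze (Subtype.ext (Subtype.ext h))
      · exact congrArg (fun w : (T : Subgroup N) => ((w : N) : G)) hcm.eq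
      · exact congrArg (fun w : (T : Subgroup N) => ((w : N) : G)) hzz'
      · exact congrArg (fun w : (T : Subgroup N) => ((w : N) : G)) hez'
    obtain ⟨u2, hu2, hu21⟩ : ∃ u ∈ U, u ∉ Subgroup.zpowers u1 := by
      by_contra hh
      push Not at hh
      have := Subgroup.card_le_of_le (show U ≤ Subgroup.zpowers u1 from hh)
      have h2 : orderOf u1 ≤ 2 := Nat.le_of_dvd two_pos
        (orderOf_dvd_of_pow_eq_one (by rw [pow_two]; exact huu u1 hu1))
      rw [hU.card_four, Nat.card_zpowers] at this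
      omega
    rcases himg ⟨⟨u1, hUA hu1⟩, hUT u1 hu1⟩ with h | h
    · exact hfix u1 hu1 hu11 h
    rcases himg ⟨⟨u2, hUA hu2⟩, hUT u2 hu2⟩ with h' | h'
    · exact hfix u2 hu2 (fun h => hu21 (h ▸ one_mem _)) h'
    have hu12 : u1 * u2 ≠ 1 := fun h => hu21 (by
      rw [eq_inv_of_mul_eq_one_right h]; exact inv_mem (Subgroup.mem_zpowers u1))
    refine hfix (u1 * u2) (mul_mem hu1 hu2) hu12 ?_
    set t1 : (T : Subgroup N) := ⟨⟨u1, hUA hu1⟩, hUT u1 hu1⟩
    set t2 : (T : Subgroup N) := ⟨⟨u2, hUA hu2⟩, hUT u2 hu2⟩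
    show t1 * t2 * e0 * (t1 * t2)⁻¹ = e0
    have hcz := (Subgroup.mem_center_iff.1 hz0.2) t1
    calc t1 * t2 * e0 * (t1 * t2)⁻¹ = t1 * (t2 * e0 * t2⁻¹) * t1⁻¹ := by group
      _ = z0 * (t1 * e0 * t1⁻¹) := by
          rw [h', ← mul_assoc, hcz]
          group
      _ = e0 := by rw [h, ← mul_assoc, hW z0 hz0.1, one_mul]
  obtain ⟨a₀, m, hS⟩ := InvFour.exists_shape T.isPGroup' S₀ hno
  -- move to `G`
  let ι : (T : Subgroup N) →* G := N.subtype.comp (T : Subgroup N).subtype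
  have hι : Function.Injective ι := N.subtype_injective.comp (T : Subgroup N).subtype_injective
  set S := S₀.map ι with hSdef
  set a := ι a₀ with hadef
  have hza : ∀ x : (T : Subgroup N), ι x ∈ Subgroup.zpowers a ↔ x ∈ Subgroup.zpowers a₀ := fun x => by
    rw [hadef, ← MonoidHom.map_zpowers, Subgroup.mem_map_iff_mem hι]
  have hSA : S ≤ A := by rintro _ ⟨x, hx, rfl⟩; exact hx
  -- `S` is a Sylow subgroup of `A`
  let ψ : (A.subgroupOf N) →* A :=
    (Subgroup.subgroupOfEquivOfLe (Subgroup.le_normalizer (H := A))).toMonoidHom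
  have hψ : Function.Bijective ψ :=
    (Subgroup.subgroupOfEquivOfLe (Subgroup.le_normalizer (H := A))).bijective
  let P : Sylow 2 A := P'.mapSurjective (f := ψ) hψ.2
  have hP : ∀ x : A, x ∈ (P : Subgroup A) ↔ (x : G) ∈ S := by
    intro x
    constructor
    · rintro ⟨y, hy, rfl⟩
      rw [SetLike.mem_coe, hP'] at hy
      exact ⟨⟨(y : N), hy.1⟩, y.2, rfl⟩
    · rintro ⟨y, hy, hyx⟩
      refine ⟨⟨(y : N), hy⟩, ?_, Subtype.ext hyx⟩
      rw [SetLike.mem_coe, hP']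
      exact ⟨y.2, hy⟩
  have hsyl : ∀ R : Subgroup G, R ≤ A → IsPGroup 2 R → ∃ g ∈ A, ∀ x ∈ R, g * x * g⁻¹ ∈ S := by
    intro R hR hRp
    obtain ⟨Q, hQ⟩ := (hRp.of_equiv (Subgroup.subgroupOfEquivOfLe hR).symm).exists_le_sylow
    obtain ⟨g, hg⟩ := MulAction.exists_smul_eq A Q P
    refine ⟨g, g.2, fun x hx => ?_⟩
    have hm : g * ⟨x, hR hx⟩ * g⁻¹ ∈ (P : Subgroup A) := by
      rw [← hg, Sylow.coe_subgroup_smul]
      exact ⟨⟨x, hR hx⟩, hQ hx, rfl⟩
    exact (hP _).1 hm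
  -- an involution of `S` outside `⟨a⟩`
  have hB2 : IsPGroup 2 B := fun x => ⟨1, by simpa using Subtype.ext (hB x x.2)⟩
  obtain ⟨f, hfA, hf⟩ := hsyl (B.map A.subtype) (Subgroup.map_subtype_le B) (hB2.map _)
  have hsq2 : ∀ x ∈ B, (x : G) * x = 1 := fun x hx => by
    have := congrArg (fun w : A => (w : G)) (hB x hx)
    simpa [pow_two] using this
  obtain ⟨b₀, hb₀, hb₀sq, hb₀out⟩ : ∃ b₀ ∈ S₀, b₀ * b₀ = 1 ∧ b₀ ∉ Subgroup.zpowers a₀ := by
    by_contra hh
    push Not at hh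
    have hlt : 2 < Nat.card ((B.map A.subtype).map (MulAut.conj f).toMonoidHom) := by
      rw [Subgroup.card_map_of_injective (MulAut.conj f).injective,
        Subgroup.card_map_of_injective A.subtype_injective]
      exact hBcard
    set B' := (B.map A.subtype).map (MulAut.conj f).toMonoidHom
    have hB'le : ∀ y ∈ B', y ∈ Subgroup.zpowers a ∧ y * y = 1 := by
      rintro _ ⟨_, ⟨x, hx, rfl⟩, rfl⟩
      have hyy : f * (x : G) * f⁻¹ * (f * (x : G) * f⁻¹) = 1 := by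
        rw [conj_mul, hsq2 x hx]; simp
      refine ⟨?_, hyy⟩
      obtain ⟨x₀, hx₀, hx₀'⟩ := hf _ (Subgroup.mem_map_of_mem A.subtype hx)
      show f * (x : G) * f⁻¹ ∈ _
      change ι x₀ = f * (x : G) * f⁻¹ at hx₀'
      rw [← hx₀', hza]
      refine hh x₀ hx₀ (hι ?_)
      rw [map_mul, hx₀', map_one, hyy]
    -- a cyclic group has at most two solutions of `x * x = 1`
    have hcy : IsCyclic B' := isCyclic_of_injective _
      (Subgroup.inclusion_injective (show B' ≤ Subgroup.zpowers a from fun y hy => (hB'le y hy).1))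
    have hexp : Monoid.exponent B' ∣ 2 := Monoid.exponent_dvd_of_forall_pow_eq_one fun y =>
      Subtype.ext (by simpa [pow_two] using (hB'le y y.2).2)
    rw [IsCyclic.exponent_eq_card] at hexp
    have := Nat.le_of_dvd two_pos hexp
    omega
  set b := ι b₀ with hbdef
  have hi : ∃ i : ℤ, (i = -1 ∨ (3 ≤ m ∧ i = (2 : ℤ) ^ (m - 1) - 1)) ∧ b * a * b⁻¹ = a ^ i := by
    rcases hS.act b₀ hb₀ hb₀out with h | ⟨h3, h⟩
    · exact ⟨-1, Or.inl rfl, by rw [zpow_neg_one, ← map_inv, ← map_inv, ← map_mul, ← map_mul, h]⟩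
    · exact ⟨_, Or.inr ⟨h3, rfl⟩, by rw [← map_zpow, ← map_inv, ← map_mul, ← map_mul, h]⟩
  obtain ⟨i, hicases, hconj⟩ := hi
  have hC : Cfg A S a b m i :=
    { le := hSA
      ord := by rw [hadef, orderOf_injective ι hι]; exact hS.ord
      two := hS.two b₀ hb₀ hb₀out
      amem := Subgroup.mem_map_of_mem ι hS.mem
      bmem := Subgroup.mem_map_of_mem ι hb₀
      bsq := by rw [hbdef, ← map_mul, hb₀sq, map_one]
      bout := fun h => hb₀out ((hza b₀).1 h)
      conj := hconj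
      icases := hicases
      cover := by
        rintro _ ⟨x, hx, rfl⟩
        by_cases hxa : x ∈ Subgroup.zpowers a₀
        · obtain ⟨l, rfl⟩ := Subgroup.mem_zpowers_iff.1 hxa
          exact ⟨l, Or.inl (map_zpow ι a₀ l)⟩
        · obtain ⟨l, hl⟩ := Subgroup.mem_zpowers_iff.1 (hS.index x hx b₀ hb₀ hxa hb₀out)
          refine ⟨l, Or.inr ?_⟩
          rw [hadef, hbdef, ← map_zpow, hl, ← map_mul, mul_assoc, hb₀sq, mul_one]
      sylow := hsyl }
  have hUT : ∀ u, ∀ hu : u ∈ U, ∃ t : (T : Subgroup N), ι t = u := fun u hu =>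
    ⟨⟨⟨u, hUA hu⟩, hT (Subgroup.mem_subgroupOf.2 hu)⟩, rfl⟩
  obtain ⟨e, heN, hes, hee⟩ := exists_e hC U hU hUA
    (fun u hu => by
      obtain ⟨t, rfl⟩ := hUT u hu
      rw [hadef, ← map_inv, ← map_mul, ← map_mul]
      exact (hza _).2 (hS.normal.conj_mem a₀ (Subgroup.mem_zpowers a₀) t))
    (fun u hu x hx => by
      obtain ⟨t, rfl⟩ := hUT u hu
      obtain ⟨x₀, hx₀, rfl⟩ := hx
      rw [← map_inv, ← map_mul, ← map_mul]
      exact Subgroup.mem_map_of_mem ι ((inferInstance : S₀.Normal).conj_mem x₀ hx₀ t))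
    hbad
  -- fusion in the perfect group `A`
  have hperf : ∀ M : Subgroup A, M.Normal → M.index ≠ 2 := by
    intro M hMn hMi
    have hc : commutator A = ⊤ := by
      rw [_root_.commutator_def, ← hA, Components.commutator_layer_self]
    haveI := hMn
    have hq : IsCyclic (A ⧸ M) := isCyclic_of_prime_card (p := 2) hMi
    have := Subgroup.Normal.quotient_commutative_iff_commutator_le.1 (inferInstance : IsMulCommutative (A ⧸ M))
    rw [hc, top_le_iff] at this
    rw [this, Subgroup.index_top] at hMi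
    omega
  set a' : A := ⟨a, hSA hC.amem⟩
  set b' : A := ⟨b, hSA hC.bmem⟩
  have hza' : ∀ x : A, x ∈ Subgroup.zpowers a' ↔ (x : G) ∈ Subgroup.zpowers a := fun x => by
    rw [← Subgroup.mem_map_iff_mem A.subtype_injective, MonoidHom.map_zpowers]; rfl
  have hQP : Subgroup.zpowers a' ≤ (P : Subgroup A) := Subgroup.zpowers_le.2 ((hP a').2 hC.amem)
  have hbQ : b' ∉ Subgroup.zpowers a' := fun h => hC.bout ((hza' b').1 h)
  have hQi : (Subgroup.zpowers a').relIndex (P : Subgroup A) = 2 := by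
    refine Subgroup.relIndex_eq_two_iff.2 ⟨b', (hP b').2 hC.bmem, fun x hx => ?_⟩
    obtain ⟨l, hl | hl⟩ := hC.cover _ ((hP x).1 hx)
    · exact Or.inr ⟨(hza' x).2 (hl ▸ zpow_mem (Subgroup.mem_zpowers a) l), fun h => hbQ
        (by simpa using mul_mem (inv_mem ((hza' x).2 (hl ▸ zpow_mem (Subgroup.mem_zpowers a) l))) h)⟩
    · have hxQ : x ∉ Subgroup.zpowers a' := fun h => hC.bout (by
        have := (hza' x).1 h
        rw [hl] at this
        simpa using mul_mem (inv_mem (zpow_mem (Subgroup.mem_zpowers a) l)) this)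
      refine Or.inl ⟨(hza' _).2 ?_, hxQ⟩
      rw [Subgroup.coe_mul, hl]
      show a ^ l * b * b ∈ _
      rw [mul_assoc, hC.bsq, mul_one]
      exact zpow_mem (Subgroup.mem_zpowers a) l
  have hb'sq : b' ^ 2 = 1 := Subtype.ext (by simpa [pow_two] using hC.bsq)
  obtain ⟨g, hg⟩ : ∃ g : A, g * b' * g⁻¹ ∈ Subgroup.zpowers a' := by
    by_contra hh
    push Not at hh
    obtain ⟨M, hM, hMi, -⟩ := Transfer.exists_index_two_of_involution P _ hQP hQi b' hb'sq
      ((hP b').2 hC.bmem) hbQ hh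
    exact hperf M hM hMi
  set z := zz a m
  have hzA : z ∈ A := hSA hC.z_mem
  have hgb : (g : G) * b * (g : G)⁻¹ = z := by
    have hmem : (g : G) * b * (g : G)⁻¹ ∈ Subgroup.zpowers a := (hza' _).1 hg
    refine (hC.eq_one_or_z hmem (by rw [conj_mul, hC.bsq]; simp)).resolve_left fun h => ?_
    exact hC.bout (conj_eq_one_iff.1 h ▸ one_mem _)
  set p := (g : G) * z * (g : G)⁻¹ with hp
  have hpA : p ∈ A := mul_mem (mul_mem g.2 hzA) (inv_mem g.2)
  have hpp : p * p = 1 := by rw [hp, conj_mul, hC.z_sq]; simp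
  set C := Subgroup.centralizer ({(⟨z, hzA⟩ : A)} : Set A) with hCdef
  have hPC : (P : Subgroup A) ≤ C := fun x hx => Subgroup.mem_centralizer_singleton_iff.2
    (Subtype.ext (hC.commute_z _ ((hP x).1 hx)).eq.symm)
  have hpC : (⟨p, hpA⟩ : A) ∈ C := by
    refine Subgroup.mem_centralizer_singleton_iff.2 (Subtype.ext ?_)
    show p * z = z * p
    rw [← hgb, hp, conj_mul, conj_mul, (hC.commute_z b hC.bmem).eq]
  have hp2 : IsPGroup 2 (Subgroup.zpowers (⟨⟨p, hpA⟩, hpC⟩ : C)) := by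
    obtain ⟨k, -, hk⟩ := (Nat.dvd_prime_pow Nat.prime_two).1
      (orderOf_dvd_of_pow_eq_one (n := 2 ^ 1) (show (⟨⟨p, hpA⟩, hpC⟩ : C) ^ (2 ^ 1) = 1 from
        Subtype.ext (Subtype.ext (by simpa [pow_two] using hpp))))
    exact IsPGroup.of_card (n := k) (by rw [Nat.card_zpowers, hk])
  obtain ⟨Q, hQ⟩ := hp2.exists_le_sylow
  obtain ⟨h, hh⟩ := MulAction.exists_smul_eq C Q (P.subtype hPC)
  set f' := ((h : A) : G)
  have hfz : Commute f' z :=
    congrArg Subtype.val (Subgroup.mem_centralizer_singleton_iff.1 h.2)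
  have hfp : f' * p * f'⁻¹ ∈ S := by
    have hm : h * ⟨⟨p, hpA⟩, hpC⟩ * h⁻¹ ∈ (P.subtype hPC : Subgroup C) := by
      rw [← hh, Sylow.coe_subgroup_smul]
      exact ⟨_, hQ (Subgroup.mem_zpowers _), rfl⟩
    exact (hP _).1 (Subgroup.mem_subgroupOf.1 hm)
  set g' := f' * (g : G)
  have hg'b : g' * b * g'⁻¹ = z := by
    rw [show g' * b * g'⁻¹ = f' * ((g : G) * b * (g : G)⁻¹) * f'⁻¹ by simp only [g']; group, hgb]
    rw [hfz.eq]; group
  have hg'z : g' * z * g'⁻¹ = f' * p * f'⁻¹ := by simp only [g', hp]; group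
  have hfix := hC.fixed heN hes hee (g := g') (x := b) (mul_mem (h : A).2 g.2) hC.bmem hC.bsq
    hC.bout (hg'z ▸ hfp) (hg'b ▸ hC.z_mem)
  refine hC.bout ?_
  have : b = z := by simpa using hg'b.trans hfix.symm
  rw [this]
  exact zpow_mem (Subgroup.mem_zpowers a) _

end Cfsg.Agent.S1915
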