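import Cfsg.Statements.S1921
import Cfsg.Agent.Lib.Components.Layer

set_option autoImplicit false
open Cfsg

namespace Cfsg.Agent.S1921

/-- Let a be an involution of a finite group H and L a component of H with a L a⁻¹ ≠ L; put M = ⟨L, aLa⁻¹⟩ and let J be the subgroup generated by the elements x · a x a⁻¹ with x ∈ L (the diagonal). Then every element of M outside J·Z(M) generates M together with J. -/
theorem result {H : Type*} [Group H] [Finite H] (a : H) (ha : orderOf a = 2) (L : Subgroup H) (hL : Cfsg.IsComponent L)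
    (hLa : L.map (MulAut.conj a).toMonoidHom ≠ L) (x : H) (hxM : x ∈ L ⊔ L.map (MulAut.conj a).toMonoidHom)
    (hxJ : x ∉ Subgroup.closure {y : H | ∃ l ∈ L, y = l * (a * l * a⁻¹)} ⊔
      ((L ⊔ L.map (MulAut.conj a).toMonoidHom) ⊓ Subgroup.centralizer ((L ⊔ L.map (MulAut.conj a).toMonoidHom : Subgroup H) : Set H))) :
    Subgroup.closure {y : H | ∃ l ∈ L, y = l * (a * l * a⁻¹)} ⊔ Subgroup.zpowers x = L ⊔ L.map (MulAut.conj a).toMonoidHom := by
  set La := L.map (MulAut.conj a).toMonoidHom with hLadef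
  set J := Subgroup.closure {y : H | ∃ l ∈ L, y = l * (a * l * a⁻¹)} with hJdef
  have hcomp : IsComponent La := Components.IsComponent.conj hL a
  have hne : L ≠ La := fun h => hLa h.symm
  have haL : ∀ l ∈ L, a * l * a⁻¹ ∈ La := fun l hl => ⟨l, hl, rfl⟩
  have hcommM : ∀ u ∈ L, ∀ v ∈ La, Commute u v := fun u hu v hv =>
    commutatorElement_eq_one_iff_commute.mp (Subgroup.mem_bot.mp
      (Components.IsComponent.commutator_eq_bot hL hcomp hne ▸ Subgroup.commutator_mem_commutator hu hv))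
  have hMn : La ≤ Subgroup.normalizer (L : Set H) := Components.IsComponent.le_normalizer hcomp hL
  obtain ⟨u, hu, w, hw, hxe⟩ : ∃ u ∈ L, ∃ w ∈ La, x = u * w := by
    have hx := (SetLike.mem_coe (p := L ⊔ La)).mpr hxM
    have hLn : L ≤ Subgroup.normalizer (La : Set H) := Components.IsComponent.le_normalizer hL hcomp
    rw [Subgroup.coe_mul_of_left_le_normalizer_right L La hLn] at hx
    obtain ⟨u, hu, w, hw, h⟩ := hx
    exact ⟨u, hu, w, hw, h.symm⟩
  obtain ⟨l₂, hl₂, rfl⟩ := hw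
  set Y := J ⊔ Subgroup.zpowers x with hYdef
  have hJle : J ≤ L ⊔ La := (Subgroup.closure_le _).mpr (by
    rintro y ⟨l, hl, rfl⟩
    exact (L ⊔ La).mul_mem (Subgroup.mem_sup_left hl) (Subgroup.mem_sup_right (haL l hl)))
  have hYle : Y ≤ L ⊔ La := sup_le hJle (Subgroup.zpowers_le.mpr hxM)
  have hjY : ∀ l ∈ L, l * (a * l * a⁻¹) ∈ Y := fun l hl =>
    Subgroup.mem_sup_left (Subgroup.subset_closure ⟨l, hl, rfl⟩)
  let M₀ : Subgroup L := (Y ⊓ L).subgroupOf L
  have hM₀ : M₀.Normal := by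
    refine ⟨fun m hm g => ?_⟩
    have hm : (m : H) ∈ Y ⊓ L := hm
    refine ⟨?_, L.mul_mem (L.mul_mem g.2 m.2) (L.inv_mem g.2)⟩
    have hgi := haL g g.2
    have hga : Commute (m : H) (a * (g : H) * a⁻¹) := hcommM m m.2 _ hgi
    have e : ((g * m * g⁻¹ : L) : H) = (g : H) * (a * g * a⁻¹) * m * ((g : H) * (a * g * a⁻¹))⁻¹ := by
      show (g : H) * m * (g : H)⁻¹ = _
      calc (g : H) * m * (g : H)⁻¹
          = (g : H) * (m * (a * g * a⁻¹)) * (a * g * a⁻¹)⁻¹ * (g : H)⁻¹ := by group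
        _ = (g : H) * ((a * g * a⁻¹) * m) * (a * g * a⁻¹)⁻¹ * (g : H)⁻¹ := by rw [hga.eq]
        _ = _ := by group
    show ((g * m * g⁻¹ : L) : H) ∈ Y
    rw [e]
    exact Y.mul_mem (Y.mul_mem (hjY g g.2) hm.1) (Y.inv_mem (hjY g g.2))
  have hkey : u * l₂⁻¹ ∈ Y ⊓ L := by
    refine ⟨?_, L.mul_mem hu (L.inv_mem hl₂)⟩
    have hx' : x * (l₂ * (a * l₂ * a⁻¹))⁻¹ ∈ Y :=
      Y.mul_mem (Subgroup.mem_sup_right (Subgroup.mem_zpowers x)) (Y.inv_mem (hjY l₂ hl₂))
    rw [hxe] at hx'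
    simpa [MulAut.conj_apply, mul_assoc] using hx'
  rcases (Components.IsQuasisimple.normal_eq_top_or_le_center hL.2 M₀) with htop | hcen
  · refine le_antisymm hYle (sup_le ?_ ?_)
    · intro l hl
      exact ((show (⟨l, hl⟩ : L) ∈ M₀ from htop ▸ Subgroup.mem_top _) : l ∈ Y ⊓ L).1
    · rintro _ ⟨l, hl, rfl⟩
      have h1 : l ∈ Y := ((show (⟨l, hl⟩ : L) ∈ M₀ from htop ▸ Subgroup.mem_top _) : l ∈ Y ⊓ L).1
      have h2 := Y.mul_mem (Y.inv_mem h1) (hjY l hl)
      simpa [MulAut.conj_apply, ← mul_assoc] using h2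
  · exfalso
    apply hxJ
    have hz : ∀ l ∈ L, Commute l (u * l₂⁻¹) := fun l hl => congrArg Subtype.val
      (Subgroup.mem_center_iff.mp (hcen (show (⟨_, hkey.2⟩ : L) ∈ M₀ from hkey)) ⟨l, hl⟩)
    have hzM : u * l₂⁻¹ ∈ (L ⊔ La) ⊓ Subgroup.centralizer ((L ⊔ La : Subgroup H) : Set H) := by
      refine ⟨Subgroup.mem_sup_left hkey.2, ?_⟩
      have hle : L ⊔ La ≤ Subgroup.centralizer ({u * l₂⁻¹} : Set H) :=
        sup_le (fun l hl => Subgroup.mem_centralizer_singleton_iff.mpr (hz l hl).eq)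
          (fun v hv => Subgroup.mem_centralizer_singleton_iff.mpr (hcommM _ hkey.2 v hv).symm.eq)
      exact fun v hv => Subgroup.mem_centralizer_singleton_iff.mp (hle hv)
    have e : x = (u * l₂⁻¹) * (l₂ * (a * l₂ * a⁻¹)) := by
      rw [hxe]; simp [MulAut.conj_apply, mul_assoc]
    rw [e]
    exact Subgroup.mul_mem _ (Subgroup.mem_sup_right hzM)
      (Subgroup.mem_sup_left (Subgroup.subset_closure ⟨l₂, hl₂, rfl⟩))

end Cfsg.Agent.S1921
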