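import Cfsg.Statements.S1922
import Cfsg.Agent.Lib.Involution.Isolated

set_option autoImplicit false
open Cfsg

namespace Cfsg.Agent.S1922

open Cfsg.Agent.Involution.Isolated

/-- Parity of a finite set permuted by conjugation by an involution. -/
theorem card_modEq_fixed {G : Type*} [Group G] [Finite G] {x : G} (hx : orderOf x = 2) (S : Set G)
    (hS : ∀ c ∈ S, x * c * x⁻¹ ∈ S) :
    Nat.card S ≡ Nat.card {c : G | c ∈ S ∧ Commute x c} [MOD 2] := by
  have hP : IsPGroup 2 (Subgroup.zpowers x) := IsPGroup.of_card (n := 1) (by rw [Nat.card_zpowers, hx]; rfl)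
  have hinv : ∀ u ∈ Subgroup.zpowers x, ∀ c ∈ S, u * c * u⁻¹ ∈ S := by
    rintro u ⟨n, rfl⟩ c hc
    have h2 : x ^ (2 : ℤ) = 1 := by
      rw [zpow_ofNat, ← hx, pow_orderOf_eq_one]
    rcases Int.even_or_odd' n with ⟨k, rfl | rfl⟩
    · simpa [zpow_mul, h2] using hc
    · simpa [zpow_add, zpow_mul, h2] using hS c hc
  let act : MulAction (Subgroup.zpowers x) S :=
    { smul := fun u c => ⟨(u : G) * c * (u : G)⁻¹, hinv u u.2 c c.2⟩
      one_smul := fun c => by
        apply Subtype.ext
        show ((1 : Subgroup.zpowers x) : G) * c * ((1 : Subgroup.zpowers x) : G)⁻¹ = c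
        simp
      mul_smul := fun u v c => by
        apply Subtype.ext
        show ((u * v : Subgroup.zpowers x) : G) * c * ((u * v : Subgroup.zpowers x) : G)⁻¹ =
          (u : G) * ((v : G) * c * (v : G)⁻¹) * (u : G)⁻¹
        simp [mul_assoc] }
  have h := hP.card_modEq_card_fixedPoints (α := S)
  suffices he : Nat.card (MulAction.fixedPoints (Subgroup.zpowers x) S) =
      Nat.card {c : G | c ∈ S ∧ Commute x c} by rwa [he] at h
  apply Nat.card_congr
  refine
    { toFun := fun c => ⟨(c.1 : G), c.1.2, ?_⟩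
      invFun := fun c => ⟨⟨c.1, c.2.1⟩, ?_⟩
      left_inv := fun c => rfl
      right_inv := fun c => rfl }
  · exact mul_inv_eq_iff_eq_mul.mp (congrArg Subtype.val (c.2 ⟨x, Subgroup.mem_zpowers x⟩))
  · rintro ⟨u, n, rfl⟩
    apply Subtype.ext
    show x ^ n * c.1 * (x ^ n)⁻¹ = c.1
    rw [(c.2.2.zpow_left n).eq, mul_inv_cancel_right]

variable {G : Type*} [Group G] [Finite G]

/-- A `(u * v) ^ k` with `k` half the order gives, times `u`, a conjugate of `u` or of `v`. -/
theorem isConj_mul_half {u v : G} (hu : u * u = 1) (hv : v * v = 1) (k : ℕ) :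
    IsConj u (u * (u * v) ^ k) ∨ IsConj v (u * (u * v) ^ k) := by
  rcases Nat.even_or_odd' k with ⟨i, rfl | rfl⟩
  · refine Or.inl (isConj_iff.mpr ⟨((u * v) ^ i)⁻¹, ?_⟩)
    rw [inv_inv, conj_pow_left hu hv, two_mul]
  · refine Or.inr (isConj_iff.mpr ⟨((u * v) ^ i)⁻¹, ?_⟩)
    have e : v = u * (u * v) := by rw [← mul_assoc, hu, one_mul]
    rw [inv_inv]
    calc ((u * v) ^ i)⁻¹ * v * (u * v) ^ i
        = ((u * v) ^ i)⁻¹ * (u * (u * v)) * (u * v) ^ i := by rw [← e]
      _ = (((u * v) ^ i)⁻¹ * u * (u * v) ^ i) * (u * v) := by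
          rw [mul_assoc _ (u * (u * v)), mul_assoc u, ← pow_succ', pow_succ]
          simp only [mul_assoc]
      _ = u * (u * v) ^ (2 * i + 1) := by
          rw [conj_pow_left hu hv, ← two_mul, mul_assoc, ← pow_succ]

/-- The involution in the cyclic group generated by a product of even order. -/
theorem half_power {u v : G} (hu : u * u = 1) (hv : v * v = 1) (h : ¬ Odd (orderOf (u * v))) :
    ∃ k : ℕ, (u * v) ^ k ≠ 1 ∧ Commute u ((u * v) ^ k) ∧ Commute v ((u * v) ^ k) := by
  obtain ⟨k, hk⟩ := Nat.not_odd_iff_even.mp h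
  have hpos := orderOf_pos (u * v)
  refine ⟨k, fun he => ?_, ?_, ?_⟩
  · have := Nat.le_of_dvd (by omega) (orderOf_dvd_of_pow_eq_one he)
    omega
  all_goals
    have hinv : ((u * v) ^ k)⁻¹ = (u * v) ^ k := inv_eq_of_mul_eq_one_right (by
      rw [← pow_add, ← hk, pow_orderOf_eq_one])
    have hcu : Commute u ((u * v) ^ k) := by
      have h1 := conj_pow_eq hu hv k
      rw [hinv] at h1
      have h2 := congrArg (fun a => a * u) h1
      simp only [mul_assoc, hu, mul_one] at h2
      exact h2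
  · exact hcu
  · have e : v = u * (u * v) := by rw [← mul_assoc, hu, one_mul]
    have h3 := hcu.mul_left ((Commute.refl (u * v)).pow_right k)
    rwa [← e] at h3


/-- Let z be an involution of a finite group G and H a proper subgroup such that z lies in gHg⁻¹ exactly when g ∈ H. Then the following are equivalent: (1) for every conjugate t ≠ z of z commuting with z, the product zt lies in gHg⁻¹ exactly when g ∈ H; (2) z lies in the centre of some Sylow 2-subgroup of G, and for every conjugate t ≠ z of z commuting with z, the centralizer of zt is contained in H. -/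
theorem result {G : Type*} [Group G] [Finite G] (z : G) (hz : orderOf z = 2) (H : Subgroup G) (hH : H ≠ ⊤)
    (h0 : ∀ g : G, z ∈ H.map (MulAut.conj g).toMonoidHom ↔ g ∈ H) :
    (∀ t : G, IsConj z t → t ≠ z → t * z = z * t → ∀ g : G, z * t ∈ H.map (MulAut.conj g).toMonoidHom ↔ g ∈ H) ↔
      ((∃ P : Sylow 2 G, z ∈ (Subgroup.center ↥(P : Subgroup G)).map (P : Subgroup G).subtype) ∧
        ∀ t : G, IsConj z t → t ≠ z → t * z = z * t → Subgroup.centralizer ({z * t} : Set G) ≤ H) := by
  have hz1 : z * z = 1 := by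
    have := pow_orderOf_eq_one z
    rwa [hz, pow_two] at this
  have h0' : ∀ g : G, g⁻¹ * z * g ∈ H ↔ g ∈ H := by
    intro g
    rw [← h0 g, Subgroup.mem_map]
    constructor
    · exact fun h => ⟨_, h, by simp [MulAut.conj_apply, mul_assoc]⟩
    · rintro ⟨x, hx, he⟩
      have : g⁻¹ * z * g = x := by rw [← he]; simp [MulAut.conj_apply, mul_assoc]
      rwa [this]
  have hzH : z ∈ H := by simpa using (h0' 1).mpr H.one_mem
  have hCz : ∀ g : G, Commute g z → g ∈ H := fun g hg => (h0' g).mp (by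
    rw [mul_assoc, ← hg.eq, inv_mul_cancel_left]; exact hzH)
  constructor
  · intro hyp
    have hyp' : ∀ t : G, IsConj z t → t ≠ z → Commute t z → ∀ g : G, g⁻¹ * (z * t) * g ∈ H ↔ g ∈ H := by
      intro t h1 h2 h3 g
      rw [← hyp t h1 h2 h3 g, Subgroup.mem_map]
      constructor
      · exact fun h => ⟨_, h, by simp [MulAut.conj_apply, mul_assoc]⟩
      · rintro ⟨x, hx, he⟩
        have : g⁻¹ * (z * t) * g = x := by rw [← he]; simp [MulAut.conj_apply, mul_assoc]
        rwa [this]
    refine ⟨?_, fun t h1 h2 h3 g hg => (hyp' t h1 h2 h3 g).mp ?_⟩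
    swap
    · have hg : Commute g (z * t) := Subgroup.mem_centralizer_singleton_iff.mp hg
      rw [mul_assoc, ← hg.eq, inv_mul_cancel_left]
      simpa using (hyp' t h1 h2 h3 1).mpr H.one_mem
    let J : Set G := {x | IsConj z x}
    have hJsq : ∀ x ∈ J, x * x = 1 := fun x hx => by
      obtain ⟨g, rfl⟩ := isConj_iff.mp hx
      rw [conj_mul, hz1]; simp
    -- the key step: a product of two commuting conjugates lying in `H`
    have hA : ∀ r t : G, r ∈ J → t ∈ J → Commute t r → t ≠ r → r * t ∈ H → r ∈ H := by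
      intro r t hr ht hc hne hrt
      obtain ⟨g, hg⟩ := isConj_iff.mp hr
      have hgz : z = g⁻¹ * r * g := by rw [← hg]; group
      have hconj : IsConj z (g⁻¹ * t * g) :=
        ht.trans (isConj_iff.mpr ⟨g⁻¹, by rw [inv_inv]⟩)
      have hne' : g⁻¹ * t * g ≠ z := fun he => hne (mul_left_cancel (mul_right_cancel (he.trans hgz)))
      have hcm : Commute (g⁻¹ * t * g) z := by
        rw [hgz]
        show g⁻¹ * t * g * (g⁻¹ * r * g) = g⁻¹ * r * g * (g⁻¹ * t * g)
        calc g⁻¹ * t * g * (g⁻¹ * r * g) = g⁻¹ * (t * r) * g := by group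
          _ = g⁻¹ * (r * t) * g := by rw [hc.eq]
          _ = _ := by group
      have hgH : g⁻¹ ∈ H := (hyp' _ hconj hne' hcm g⁻¹).mp (by
        have e : (g⁻¹)⁻¹ * (z * (g⁻¹ * t * g)) * g⁻¹ = r * t := by rw [← hg]; group
        rw [e]; exact hrt)
      rw [← hg]
      exact H.mul_mem (H.mul_mem (by simpa using H.inv_mem hgH) hzH) hgH
    have hodd : ∀ j ∈ J, j ∉ H → Odd (orderOf (z * j)) := by
      intro j hj hjH
      by_contra hcon
      obtain ⟨k, hk1, hkz, hkj⟩ := half_power hz1 (hJsq j hj) hcon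
      set w := (z * j) ^ k
      have ht : IsConj z (z * w) := by
        rcases isConj_mul_half hz1 (hJsq j hj) k with h | h
        · exact h
        · exact IsConj.trans hj h
      have htne : z * w ≠ z := fun he => hk1 (mul_eq_left.mp he)
      have htc : Commute (z * w) z := (Commute.refl z).mul_left hkz.symm
      have hzt : z * (z * w) = w := by rw [← mul_assoc, hz1, one_mul]
      apply hjH
      have h1 := hyp' _ ht htne htc j
      rw [hzt] at h1
      refine h1.mp ?_
      rw [mul_assoc, ← hkj.eq, inv_mul_cancel_left]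
      exact hCz w hkz.symm
    obtain ⟨r₀, hr₀, hr₀H⟩ : ∃ r ∈ J, r ∉ H := by
      by_contra hcon
      push Not at hcon
      refine hH (eq_top_iff.mpr fun g _ => ?_)
      exact (h0' g).mp (hcon _ (isConj_iff.mpr ⟨g⁻¹, by rw [inv_inv]⟩))
    have hr₀1 := hJsq r₀ hr₀
    have hr₀i : r₀⁻¹ = r₀ := inv_mul_self_eq hr₀1
    let R : Set G := {r | r ∈ J ∧ r₀ * r ∈ H}
    have hRH : ∀ r ∈ R, r ∉ H := fun r hr hrH => hr₀H (by
      have := H.mul_mem hr.2 (H.inv_mem hrH)
      rwa [mul_inv_cancel_right] at this)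
    have hinj : ∀ r ∈ R, ∀ r' ∈ R, r * z * r = r' * z * r' → r = r' := by
      intro r hr r' hr' he
      have h1 := hJsq r hr.1
      have h2 := hJsq r' hr'.1
      have hri := inv_mul_self_eq h1
      have hr'i := inv_mul_self_eq h2
      by_contra hne
      have hc0 : r * r' ≠ 1 := fun h => hne (by rw [← hr'i]; exact eq_inv_of_mul_eq_one_left h)
      have hcz : Commute (r * r') z := by
        show r * r' * z = z * (r * r')
        calc r * r' * z = r * (r' * z * r') * r' := by simp [mul_assoc, h2]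
          _ = r * (r * z * r) * r' := by rw [he]
          _ = z * (r * r') := by simp [← mul_assoc, h1]
      have hcinv : r * (r * r') * r⁻¹ = (r * r')⁻¹ := by
        rw [mul_inv_rev, hri, hr'i, ← mul_assoc, h1, one_mul]
      by_cases hco : Odd (orderOf (r * r'))
      · -- `r` centralises `r * r'`
        set c := r * r'
        let N := Subgroup.normalizer ((Subgroup.zpowers c) : Set G)
        have hmemN : ∀ x : G, (x * c * x⁻¹ = c ∨ x * c * x⁻¹ = c⁻¹) → x ∈ N := by
          intro x hx
          have hle : (Subgroup.zpowers c).map (MulAut.conj x).toMonoidHom = Subgroup.zpowers c := by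
            rw [MonoidHom.map_zpowers]
            show Subgroup.zpowers (x * c * x⁻¹) = _
            rcases hx with h | h <;> rw [h]
            exact Subgroup.zpowers_inv
          rw [Subgroup.mem_normalizer_iff]
          intro h
          conv_rhs => rw [← hle]
          constructor
          · exact fun hh => ⟨h, hh, rfl⟩
          · rintro ⟨y, hy, hye⟩
            have : y = h := by simpa [MulAut.conj_apply] using hye
            exact this ▸ hy
        have hm := middle_conj hz1 h1 (hodd r hr.1 (hRH r hr))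
        have hmN : middle z r ∈ N := N.mul_mem (hmemN z (Or.inl (by rw [← hcz.eq, mul_inv_cancel_right])))
          (N.pow_mem (N.mul_mem (hmemN z (Or.inl (by rw [← hcz.eq, mul_inv_cancel_right])))
            (hmemN r (Or.inr hcinv))) _)
        set m := middle z r
        have hm1 : m * m = 1 := middle_mul_self hz1 h1
        obtain ⟨n, hn⟩ := (Subgroup.mem_normalizer_iff.mp hmN c).mp (Subgroup.mem_zpowers c)
        have hn : c ^ n = m * c * m := by simpa [inv_mul_self_eq hm1] using hn
        have hmc : Commute z (m * c * m) := hn ▸ hcz.symm.zpow_right n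
        have hrc : r * c * r⁻¹ = c := by
          rw [mul_inv_eq_iff_eq_mul, ← hm]
          calc m * z * m * c = m * (z * (m * c * m)) * m := by simp [mul_assoc, hm1]
            _ = m * (m * c * m * z) * m := by rw [hmc.eq]
            _ = c * (m * z * m) := by simp [mul_assoc, ← mul_assoc m m, hm1]
        exact hc0 (eq_one_of_eq_inv hco (hrc.symm.trans hcinv))
      · obtain ⟨k, hk1, hkr, hkr'⟩ := half_power h1 h2 hco
        set w := (r * r') ^ k
        have ht : IsConj z (r * w) := by
          rcases isConj_mul_half h1 h2 k with h | h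
          · exact IsConj.trans hr.1 h
          · exact IsConj.trans hr'.1 h
        apply hRH r hr
        refine hA r (r * w) hr.1 ht ((Commute.refl r).mul_left hkr.symm) (fun h => hk1 (mul_eq_left.mp h)) ?_
        rw [← mul_assoc, h1, one_mul]
        exact hCz w (hcz.pow_left k)
    have hR : Odd (Nat.card R) := by
      have hpar := card_modEq_fixed (x := r₀) ?_ R ?_
      · have heq : {c : G | c ∈ R ∧ Commute r₀ c} = {r₀} := by
          ext c
          refine ⟨fun ⟨hc, hcc⟩ => ?_, fun hc => ?_⟩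
          · by_contra hne
            exact hr₀H (hA r₀ c hr₀ hc.1 hcc.symm hne hc.2)
          · rw [Set.mem_singleton_iff] at hc
            subst hc
            exact ⟨⟨hr₀, by rw [hr₀1]; exact H.one_mem⟩, Commute.refl _⟩
        rw [heq] at hpar
        have h1 : Nat.card ({r₀} : Set G) = 1 := Nat.card_unique
        rw [h1] at hpar
        exact Nat.odd_iff.mpr hpar
      · obtain ⟨g, rfl⟩ := isConj_iff.mp hr₀
        rw [← MulAut.conj_apply, MulEquiv.orderOf_eq, hz]
      · intro c hc
        refine ⟨IsConj.trans hc.1 (isConj_iff.mpr ⟨r₀, rfl⟩), ?_⟩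
        rw [hr₀i]
        have e : r₀ * (r₀ * c * r₀) = (r₀ * c)⁻¹ := by
          rw [mul_inv_rev, hr₀i, inv_mul_self_eq (hJsq c hc.1)]
          simp [← mul_assoc, hr₀1]
        rw [e]
        exact H.inv_mem hc.2
    have hJH : Odd (Nat.card {x : G | x ∈ J ∧ x ∈ H}) := by
      suffices he : Nat.card R = Nat.card {x : G | x ∈ J ∧ x ∈ H} by rwa [← he]
      have hmap : ∀ r ∈ R, r₀ * (r * z * r) * r₀ ∈ {x : G | x ∈ J ∧ x ∈ H} := by
        intro r hr
        have hri := inv_mul_self_eq (hJsq r hr.1)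
        have e : r₀ * (r * z * r) * r₀ = r₀ * r * z * (r₀ * r)⁻¹ := by
          rw [mul_inv_rev, hri, hr₀i]; simp [mul_assoc]
        rw [e]
        exact ⟨isConj_iff.mpr ⟨_, rfl⟩, H.mul_mem (H.mul_mem hr.2 hzH) (H.inv_mem hr.2)⟩
      refine Nat.card_eq_of_bijective (fun r => ⟨_, hmap r.1 r.2⟩) ⟨fun r r' he => ?_, fun x => ?_⟩
      · exact Subtype.ext (hinj r.1 r.2 r'.1 r'.2
          (mul_left_cancel (mul_right_cancel (congrArg Subtype.val he))))
      · obtain ⟨x, hxJ, hxH⟩ := x
        have hjJ : r₀ * x * r₀ ∈ J := IsConj.trans hxJ (isConj_iff.mpr ⟨r₀, by rw [hr₀i]⟩)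
        have hjH : r₀ * x * r₀ ∉ H := by
          intro h
          obtain ⟨g, hg⟩ := isConj_iff.mp hxJ
          subst hg
          have hg : g⁻¹ ∈ H := (h0' g⁻¹).mp (by simpa using hxH)
          have hrg : (r₀ * g)⁻¹ ∈ H := (h0' (r₀ * g)⁻¹).mp (by
            simpa [hr₀i, mul_assoc] using h)
          exact hr₀H (by simpa using H.mul_mem (H.inv_mem hrg) hg)
        have hj1 := hJsq _ hjJ
        have ho := hodd _ hjJ hjH
        have hmid := middle_conj hz1 hj1 ho
        have hm1 : middle z (r₀ * x * r₀) * middle z (r₀ * x * r₀) = 1 := middle_mul_self hz1 hj1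
        refine ⟨⟨middle z (r₀ * x * r₀), isConj_middle hz1 hj1 ho, ?_⟩, Subtype.ext ?_⟩
        · have e : (r₀ * middle z (r₀ * x * r₀))⁻¹⁻¹ * z * (r₀ * middle z (r₀ * x * r₀))⁻¹ = x := by
            rw [inv_inv, mul_inv_rev, inv_mul_self_eq hm1, hr₀i]
            simp only [mul_assoc] at hmid ⊢
            rw [← mul_assoc z, ← mul_assoc (middle _ _), ← mul_assoc (middle _ _)]
            simp [mul_assoc, hmid, hr₀1, ← mul_assoc r₀ r₀]
          have := (h0' (r₀ * middle z (r₀ * x * r₀))⁻¹).mp (by rw [e]; exact hxH)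
          simpa using H.inv_mem this
        · show r₀ * (middle z (r₀ * x * r₀) * z * middle z (r₀ * x * r₀)) * r₀ = x
          rw [hmid]
          simp [mul_assoc, hr₀1, ← mul_assoc r₀ r₀]
    have hJodd : Odd (Nat.card J) := by
      have h2 := card_modEq_fixed hz {x : G | x ∈ J ∧ x ∈ H} (fun c hc =>
        ⟨IsConj.trans hc.1 (isConj_iff.mpr ⟨z, rfl⟩), H.mul_mem (H.mul_mem hzH hc.2) (H.inv_mem hzH)⟩)
      have h3 := card_modEq_fixed hz J (fun c hc => IsConj.trans hc (isConj_iff.mpr ⟨z, rfl⟩))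
      have heq : {c : G | c ∈ {x : G | x ∈ J ∧ x ∈ H} ∧ Commute z c} = {c : G | c ∈ J ∧ Commute z c} :=
        Set.ext fun c => ⟨fun h => ⟨h.1.1, h.2⟩, fun h => ⟨⟨h.1, hCz c h.2.symm⟩, h.2⟩⟩
      rw [heq] at h2
      rw [Nat.odd_iff] at hJH ⊢
      exact Eq.trans (h3.trans h2.symm) hJH
    have hidx : (Subgroup.centralizer ({z} : Set G)).index = Nat.card J := by
      rw [Subgroup.index_eq_card]
      refine Nat.card_eq_of_bijective (Quotient.lift (fun g : G => (⟨g * z * g⁻¹, isConj_iff.mpr ⟨g, rfl⟩⟩ : J))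
        ?_) ⟨?_, ?_⟩
      · intro a b hab
        apply Subtype.ext
        have hc : Commute (a⁻¹ * b) z :=
          Subgroup.mem_centralizer_singleton_iff.mp (QuotientGroup.leftRel_apply.mp hab)
        calc a * z * a⁻¹ = a * (z * (a⁻¹ * b)) * b⁻¹ := by group
          _ = a * (a⁻¹ * b * z) * b⁻¹ := by rw [hc.eq]
          _ = b * z * b⁻¹ := by group
      · intro a b
        induction a using Quotient.inductionOn
        induction b using Quotient.inductionOn
        rename_i a b
        intro he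
        have he : a * z * a⁻¹ = b * z * b⁻¹ := congrArg Subtype.val he
        refine Quotient.sound (QuotientGroup.leftRel_apply.mpr (Subgroup.mem_centralizer_singleton_iff.mpr ?_))
        calc a⁻¹ * b * z = a⁻¹ * (b * z * b⁻¹) * b := by group
          _ = a⁻¹ * (a * z * a⁻¹) * b := by rw [he]
          _ = z * (a⁻¹ * b) := by group
      · rintro ⟨x, hx⟩
        obtain ⟨g, hg⟩ := isConj_iff.mp hx
        exact ⟨Quotient.mk _ g, Subtype.ext hg⟩
    obtain ⟨Q⟩ : Nonempty (Sylow 2 (Subgroup.centralizer ({z} : Set G))) := inferInstance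
    have hQp : IsPGroup 2 ((Q : Subgroup _).map (Subgroup.centralizer ({z} : Set G)).subtype) := Q.isPGroup'.map _
    have hQi : ¬ 2 ∣ ((Q : Subgroup _).map (Subgroup.centralizer ({z} : Set G)).subtype).index := by
      rw [Subgroup.index_map_subtype, hidx, Nat.prime_two.dvd_mul, not_or]
      exact ⟨Q.not_dvd_index, fun h => (Nat.not_even_iff_odd.mpr hJodd) (even_iff_two_dvd.mpr h)⟩
    refine ⟨hQp.toSylow hQi, ?_⟩
    have hzc : z ∈ Subgroup.centralizer ({z} : Set G) := Subgroup.mem_centralizer_singleton_iff.mpr rfl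
    have hzZ : (⟨z, hzc⟩ : Subgroup.centralizer ({z} : Set G)) ∈ Subgroup.center _ :=
      Subgroup.mem_center_iff.mpr fun y => Subtype.ext (Subgroup.mem_centralizer_singleton_iff.mp y.2)
    have hzQ : (⟨z, hzc⟩ : Subgroup.centralizer ({z} : Set G)) ∈ (Q : Subgroup _) := by
      have hnorm : (Subgroup.zpowers (⟨z, hzc⟩ : Subgroup.centralizer ({z} : Set G))).Normal :=
        ⟨fun n hn g => by
          obtain ⟨i, rfl⟩ := hn
          rw [Subgroup.mem_center_iff.mp (Subgroup.zpow_mem _ hzZ i) g, mul_inv_cancel_right]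
          exact ⟨i, rfl⟩⟩
      have hp : IsPGroup 2 (Subgroup.zpowers (⟨z, hzc⟩ : Subgroup.centralizer ({z} : Set G))) :=
        IsPGroup.of_card (n := 1) (by rw [Nat.card_zpowers, Subgroup.orderOf_mk, hz]; rfl)
      exact (Q.3 (hp.to_sup_of_normal_left Q.isPGroup') le_sup_right).le
        (Subgroup.mem_sup_left (Subgroup.mem_zpowers _))
    refine ⟨⟨z, ?_⟩, ?_, rfl⟩
    · exact ⟨_, hzQ, rfl⟩
    · refine Subgroup.mem_center_iff.mpr fun y => Subtype.ext ?_
      obtain ⟨q, hq, hqy⟩ := y.2
      show (y : G) * z = z * y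
      rw [← hqy]
      exact Subgroup.mem_centralizer_singleton_iff.mp q.2
  · rintro ⟨⟨P, hzP⟩, hC⟩ t h1 h2 h3 g
    obtain ⟨⟨z', hz'⟩, hzc, rfl⟩ := hzP
    have hPH : (P : Subgroup G) ≤ H := fun x hx => hCz x
      (congrArg Subtype.val (Subgroup.mem_center_iff.mp hzc ⟨x, hx⟩))
    have h3' : Commute t z' := h3
    have hz1' : z' * z' = 1 := hz1
    have hu : z' * t ∈ H := H.mul_mem hzH (hCz t h3')
    have hu2 : (z' * t) * (z' * t) = 1 := by
      obtain ⟨a, ha⟩ := isConj_iff.mp h1
      have ht1 : t * t = 1 := by rw [← ha, conj_mul, hz1]; simp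
      calc (z' * t) * (z' * t) = z' * (t * z') * t := by group
        _ = z' * (z' * t) * t := by rw [h3'.eq]
        _ = 1 := by rw [← mul_assoc z' z', hz1', one_mul, ht1]
    constructor
    swap
    · intro hg
      exact ⟨g⁻¹ * (z' * t) * g, H.mul_mem (H.mul_mem (H.inv_mem hg) hu) hg, by simp [MulAut.conj_apply, mul_assoc]⟩
    rintro ⟨y, hy, hye⟩
    have hye : g * y * g⁻¹ = z' * t := hye
    have hy2 : y ^ 2 = 1 := by
      have : y = g⁻¹ * (z' * t) * g := by rw [← hye]; group
      rw [this, pow_two]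
      calc g⁻¹ * (z' * t) * g * (g⁻¹ * (z' * t) * g) = g⁻¹ * ((z' * t) * (z' * t)) * g := by group
        _ = 1 := by rw [hu2]; group
    have hyp2 : IsPGroup 2 (Subgroup.zpowers (⟨y, hy⟩ : H)) := by
      refine IsPGroup.of_card_dvd_pow (n := 1) ?_
      rw [Nat.card_zpowers, Subgroup.orderOf_mk, pow_one]
      exact orderOf_dvd_of_pow_eq_one hy2
    obtain ⟨T, hT⟩ := hyp2.exists_le_sylow
    let P' : Sylow 2 H := P.subtype hPH
    obtain ⟨h, hh⟩ := MulAction.exists_smul_eq H P' T
    have hyT : (⟨y, hy⟩ : H) ∈ (T : Subgroup H) := hT (Subgroup.mem_zpowers _)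
    rw [← hh, Sylow.coe_subgroup_smul, Subgroup.mem_pointwise_smul_iff_inv_smul_mem] at hyT
    have hyP : (h : G)⁻¹ * y * h ∈ (P : Subgroup G) := by
      simpa [P', Subgroup.mem_subgroupOf, MulAut.smul_def, MulAut.conj_apply] using hyT
    have hcy : Commute z' ((h : G)⁻¹ * y * h) :=
      (congrArg Subtype.val (Subgroup.mem_center_iff.mp hzc ⟨_, hyP⟩)).symm
    have hgh : ((g * h) * z' * (g * h)⁻¹) ∈ H := by
      refine hC t h1 h2 h3 (Subgroup.mem_centralizer_singleton_iff.mpr ?_)
      have hc : g * h * z' * (g * h)⁻¹ * (g * y * g⁻¹) = g * y * g⁻¹ * (g * h * z' * (g * h)⁻¹) := by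
        calc g * h * z' * (g * h)⁻¹ * (g * y * g⁻¹)
            = g * h * (z' * ((h : G)⁻¹ * y * h)) * (g * h)⁻¹ := by group
          _ = g * h * (((h : G)⁻¹ * y * h) * z') * (g * h)⁻¹ := by rw [hcy.eq]
          _ = _ := by group
      rwa [hye] at hc
    have hgh' : (g * h)⁻¹ ∈ H := (h0' (g * h)⁻¹).mp (by simpa using hgh)
    simpa using H.mul_mem (H.inv_mem hgh') (H.inv_mem h.2)

end Cfsg.Agent.S1922
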