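import Cfsg.Statements.S1924
import Cfsg.Agent.Lib.Transfer.Thompson
import Cfsg.Agent.Lib.Transfer.Residual

set_option autoImplicit false
open Cfsg

namespace Cfsg.Agent.S1924

open Equiv Equiv.Perm in
/-- A permutation whose orbits all have length `2^(m+1)`, odd in number, is odd. -/
theorem sign_eq_neg_one {α : Type*} [Fintype α] [DecidableEq α] (σ : Equiv.Perm α) (m : ℕ)
    (h1 : σ ^ 2 ^ (m + 1) = 1) (h2 : ∀ a, (σ ^ 2 ^ m) a ≠ a) (u : ℕ) (hu : Odd u)
    (hcard : Fintype.card α = 2 ^ (m + 1) * u) : Equiv.Perm.sign σ = -1 := by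
  have hall : ∀ n ∈ σ.cycleType, n = 2 ^ (m + 1) := by
    intro n hn
    obtain ⟨i, hi, rfl⟩ := (Nat.dvd_prime_pow Nat.prime_two).1
      ((dvd_of_mem_cycleType hn).trans (orderOf_dvd_of_pow_eq_one h1))
    rcases hi.eq_or_lt with rfl | hlt
    · rfl
    exfalso
    rw [cycleType_def, Multiset.mem_map] at hn
    obtain ⟨c, hc, hcs⟩ := hn
    have hcyc : c.IsCycle := (mem_cycleFactorsFinset_iff.1 hc).1
    obtain ⟨a, ha⟩ : c.support.Nonempty := by
      rw [← Finset.card_pos]
      rw [show c.support.card = 2 ^ i from hcs]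
      exact Nat.two_pow_pos i
    have hce : c = σ.cycleOf a := cycle_is_cycleOf ha hc
    have hc1 : c ^ 2 ^ i = 1 := by
      have : c.support.card = 2 ^ i := hcs
      rw [← this, ← hcyc.orderOf, pow_orderOf_eq_one]
    apply h2 a
    rw [← cycleOf_pow_apply_self, ← hce, ← Nat.add_sub_cancel' (Nat.le_of_lt_succ hlt), pow_add, pow_mul, hc1,
      one_pow, one_apply]
  rw [sign_of_cycleType_eq_replicate (Nat.two_pow_pos (m + 1)) (Multiset.eq_replicate_card.2 hall),
    if_neg (Nat.not_odd_iff_even.2 (Nat.even_pow.2 ⟨even_two, Nat.succ_ne_zero m⟩))]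
  have hfix : Fintype.card (Function.fixedPoints σ) = 0 := by
    refine Fintype.card_eq_zero_iff.2 ⟨fun ⟨a, ha⟩ => h2 a ?_⟩
    have key : ∀ k : ℕ, (σ ^ k) a = a := fun k => by
      induction k with
      | zero => rfl
      | succ k ih => rw [pow_succ', Perm.mul_apply, ih]; exact ha
    exact key _
  rw [hfix, Nat.sub_zero, hcard, Nat.mul_div_cancel_left _ (Nat.two_pow_pos (m + 1)), hu.neg_one_pow]

/-- In a dihedral group whose order is four times a natural number, elements outside a cyclic subgroup of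
index two are involutions. -/
theorem involution_outside {n : ℕ} (hn : 2 ≤ n) {D : Type*} [Group D] (e : D ≃* DihedralGroup n) (C : Subgroup D)
    (hC : IsCyclic C) (hi : C.index = 2) {x : D} (hx : x ∉ C) : orderOf x = 2 := by
  haveI : NeZero n := ⟨by omega⟩
  haveI : Finite D := Finite.of_equiv _ e.symm.toEquiv
  have hDn : Nat.card D = 2 * n := by rw [Nat.card_congr e.toEquiv, DihedralGroup.nat_card]
  have hCn : Nat.card C = n := by
    have := C.card_mul_index
    rw [hi, hDn] at this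
    omega
  obtain ⟨c, hc⟩ := hC.exists_ofOrder_eq_natCard (α := C)
  rw [hCn, ← Subgroup.orderOf_coe] at hc
  have hx1 : x ≠ 1 := fun h => hx (h ▸ one_mem C)
  have hord : orderOf (e x) = orderOf x := MulEquiv.orderOf_eq e x
  rw [← hord]
  rcases hec : e (c : D) with i | i
  · -- `c` is a rotation, so `C` is the rotation subgroup
    rcases hex : e x with j | j
    · exfalso
      apply hx
      have hr : Subgroup.zpowers (e (c : D)) = Subgroup.zpowers (DihedralGroup.r (1 : ZMod n)) := by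
        refine Subgroup.eq_of_le_of_card_ge (Subgroup.zpowers_le.2 ?_) ?_
        · rw [hec]
          exact ⟨(i.val : ℤ), by simp [DihedralGroup.r_one_zpow]⟩
        · rw [Nat.card_zpowers, Nat.card_zpowers, DihedralGroup.orderOf_r_one, MulEquiv.orderOf_eq, hc]
      have hmem : e x ∈ Subgroup.zpowers (e (c : D)) := by
        rw [hr, hex]
        exact ⟨(j.val : ℤ), by simp [DihedralGroup.r_one_zpow]⟩
      obtain ⟨k, hk⟩ := Subgroup.mem_zpowers_iff.1 hmem
      rw [← map_zpow] at hk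
      exact e.injective hk ▸ zpow_mem c.2 k
    · exact DihedralGroup.orderOf_sr j
  · -- `c` is a reflection, so the group has order four
    have h2n : n = 2 := by
      have := MulEquiv.orderOf_eq e (c : D)
      rw [hec, DihedralGroup.orderOf_sr, hc] at this
      exact this.symm
    have h1 : e x ≠ 1 := fun h => hx1 (e.injective (h.trans (map_one e).symm))
    refine orderOf_eq_prime ?_ h1
    rw [pow_two]
    subst h2n
    revert h1
    generalize e x = z
    revert z
    decide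

/-- A consequence of Thompson's transfer lemma. Let G be a finite group, L a subgroup with O²(L) = L, T a Sylow 2-subgroup of L and S a Sylow 2-subgroup of G containing T. Suppose D ≤ S is a dihedral subgroup of order at least 4 (the four-group counts) with D ∩ T = 1 and S = TD as a set of products (so |S| = |T|·|D|), and C ≤ D is cyclic of index 2 in D. If no involution of D outside C is G-conjugate to an involution of the subgroup generated by T and C, and the involution of C is not G-conjugate to any involution of T, then G has a normal subgroup K, containing every Sylow 2-subgroup of L as a Sylow 2-subgroup, with G = KD. -/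
theorem result {G : Type*} [Group G] [Finite G] (L T S D C : Subgroup G) (hL : Cfsg.pResidual 2 ↥L = ⊤)
    (hTL : T ≤ L) (hT2 : IsPGroup 2 T) (hTsyl : ¬ 2 ∣ T.relIndex L)
    (hS2 : IsPGroup 2 S) (hSsyl : ¬ 2 ∣ S.index) (hTS : T ≤ S)
    (hDS : D ≤ S) (hDih : ∃ n : ℕ, 2 ≤ n ∧ Nonempty (↥D ≃* DihedralGroup n)) (hDT : D ⊓ T = ⊥) (hTD : T ⊔ D = S) (hTDc : Nat.card T * Nat.card D = Nat.card S)
    (hCD : C ≤ D) (hC : IsCyclic ↥C) (hCi : C.relIndex D = 2)
    (h1 : ∀ x ∈ D, x ∉ C → orderOf x = 2 → ∀ g : G, g * x * g⁻¹ ∈ T ⊔ C → False)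
    (h2 : ∀ c ∈ C, orderOf c = 2 → ∀ g : G, g * c * g⁻¹ ∈ T → False) :
    ∃ K : Subgroup G, K.Normal ∧ K ⊔ D = ⊤ ∧
      ∀ T' : Subgroup G, T' ≤ L → IsPGroup 2 T' → ¬ 2 ∣ T'.relIndex L → T' ≤ K ∧ ¬ 2 ∣ T'.relIndex K := by
  classical
  haveI := Fact.mk Nat.prime_two
  obtain ⟨n, hn, ⟨e⟩⟩ := hDih
  haveI : NeZero n := ⟨by omega⟩
  set K := Cfsg.pResidual 2 G with hK
  haveI hKn : K.Normal := Transfer.pResidual_normal 2
  let P : Sylow 2 G := hS2.toSylow hSsyl
  have hP : (P : Subgroup G) = S := rfl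
  -- `L ≤ O²(G)`
  have hLK : L ≤ K := by
    intro l hl
    have h : (⟨l, hl⟩ : L) ∈ Cfsg.pResidual 2 ↥L := by rw [hL]; exact Subgroup.mem_top _
    have h' : (Cfsg.pResidual 2 ↥L) ≤ K.subgroupOf L := by
      rw [Cfsg.pResidual, Subgroup.closure_le]
      intro z hz
      refine Subgroup.mem_subgroupOf.2 (Subgroup.subset_closure ?_)
      show (orderOf (z : G)).Coprime 2
      rw [Subgroup.orderOf_coe]
      exact hz
    exact h' h
  have hTK : T ≤ K := hTL.trans hLK
  have hKD : K ⊔ D = ⊤ := by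
    rw [eq_top_iff, ← Transfer.sylow_sup_pResidual_eq_top P, hP, ← hTD]
    exact sup_le (sup_le (hTK.trans le_sup_left) le_sup_right) le_sup_left
  -- unique decomposition
  have hinj : ∀ t ∈ T, ∀ t' ∈ T, ∀ d ∈ D, ∀ d' ∈ D, t * d = t' * d' → t = t' ∧ d = d' := by
    intro t ht t' ht' d hd d' hd' he
    have h1 : t'⁻¹ * t = d' * d⁻¹ := by
      rw [eq_mul_inv_iff_mul_eq, mul_assoc, he, inv_mul_cancel_left]
    have h2 : t'⁻¹ * t ∈ D ⊓ T := Subgroup.mem_inf.2 ⟨h1 ▸ D.mul_mem hd' (D.inv_mem hd), T.mul_mem (T.inv_mem ht') ht⟩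
    rw [hDT, Subgroup.mem_bot, inv_mul_eq_one] at h2
    exact ⟨h2.symm, mul_left_cancel (h2 ▸ he)⟩
  have hdec : ∀ s ∈ S, ∃ t ∈ T, ∃ d ∈ D, s = t * d := by
    have hb : Function.Bijective (fun td : T × D => (⟨(td.1 : G) * td.2, mul_mem (hTS td.1.2) (hDS td.2.2)⟩ : S)) := by
      rw [Nat.bijective_iff_injective_and_card]
      refine ⟨?_, by rw [Nat.card_prod, hTDc]⟩
      intro a b hab
      obtain ⟨h1, h2⟩ := hinj _ a.1.2 _ b.1.2 _ a.2.2 _ b.2.2 (congrArg Subtype.val hab)
      exact Prod.ext (Subtype.ext h1) (Subtype.ext h2)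
    intro s hs
    obtain ⟨⟨t, d⟩, h⟩ := hb.2 ⟨s, hs⟩
    exact ⟨t, t.2, d, d.2, (congrArg Subtype.val h).symm⟩
  -- the involutions outside `C`
  haveI hCc : IsCyclic (C.subgroupOf D) :=
    isCyclic_of_surjective (Subgroup.subgroupOfEquivOfLe hCD).symm.toMonoidHom (MulEquiv.surjective _)
  have hinv : ∀ x ∈ D, x ∉ C → orderOf x = 2 := fun x hx hxC => by
    have := involution_outside hn e (C.subgroupOf D) hCc hCi (x := ⟨x, hx⟩) (by rwa [Subgroup.mem_subgroupOf])
    rwa [← Subgroup.orderOf_coe] at this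
  obtain ⟨x₀, hx₀D, hx₀C⟩ : ∃ x, x ∈ D ∧ x ∉ C := by
    by_contra h
    push Not at h
    have := Subgroup.relIndex_eq_one.2 (fun x hx => h x hx)
    omega
  have hS1le : T ⊔ C ≤ S := sup_le hTS (hCD.trans hDS)
  have hi2 : (T ⊔ C).relIndex S = 2 := by
    have hne : (T ⊔ C).relIndex S ≠ 1 := fun h => h1 x₀ hx₀D hx₀C (hinv x₀ hx₀D hx₀C) 1 (by
      simpa using Subgroup.relIndex_eq_one.1 h (hDS hx₀D))
    have hcard : Nat.card (T ⊔ C : Subgroup G) * (T ⊔ C).relIndex S = Nat.card S := by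
      rw [← Subgroup.relIndex_bot_left (T ⊔ C), ← Subgroup.relIndex_bot_left S]
      exact Subgroup.relIndex_mul_relIndex ⊥ (T ⊔ C) S bot_le hS1le
    have hge : Nat.card T * Nat.card C ≤ Nat.card (T ⊔ C : Subgroup G) := by
      rw [← Nat.card_prod]
      refine Nat.card_le_card_of_injective (fun td : T × C => (⟨(td.1 : G) * td.2,
        mul_mem (Subgroup.mem_sup_left td.1.2) (Subgroup.mem_sup_right td.2.2)⟩ : (T ⊔ C : Subgroup G))) ?_
      intro a b hab
      obtain ⟨u1, u2⟩ := hinj _ a.1.2 _ b.1.2 _ (hCD a.2.2) _ (hCD b.2.2) (congrArg Subtype.val hab)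
      exact Prod.ext (Subtype.ext u1) (Subtype.ext u2)
    have hD2 : Nat.card C * 2 = Nat.card D := by
      rw [← hCi, ← Subgroup.relIndex_bot_left C, ← Subgroup.relIndex_bot_left D]
      exact Subgroup.relIndex_mul_relIndex ⊥ C D bot_le hCD
    have hpos : 0 < Nat.card T * Nat.card C := Nat.mul_pos Nat.card_pos Nat.card_pos
    have hle : (T ⊔ C).relIndex S ≤ 2 := by
      by_contra hgt
      have := Nat.mul_le_mul hge (show 3 ≤ (T ⊔ C).relIndex S by omega)
      rw [hcard, ← hTDc, ← hD2, ← mul_assoc] at this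
      omega
    have h0 : (T ⊔ C).relIndex S ≠ 0 := Subgroup.index_ne_zero_of_finite
    omega
  -- first step: `D ∩ K ≤ C`
  have hDK : D ⊓ K ≤ C := by
    rintro x ⟨hxD, hxK⟩
    by_contra hxC
    have hox := hinv x hxD hxC
    obtain ⟨M, hMn, hMi, hxM⟩ := Transfer.exists_index_two_of_involution P (T ⊔ C) (hP ▸ hS1le) (hP ▸ hi2) x
      (hox ▸ pow_orderOf_eq_one x) (hP ▸ hDS hxD)
      (fun h => h1 x hxD hxC hox 1 (by simpa using h)) (fun g h => h1 x hxD hxC hox g h)
    haveI := hMn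
    exact hxM (Transfer.pResidual_le_of_isPGroup_quotient M (IsPGroup.of_card (n := 1) (by
      rw [← Subgroup.index_eq_card, hMi, pow_one])) hxK)
  -- `|K ∩ S| = |T| |K ∩ C|`
  have hcardI : Nat.card (S ⊓ K : Subgroup G) = Nat.card T * Nat.card (C ⊓ K : Subgroup G) := by
    rw [← Nat.card_prod]
    refine (Nat.card_eq_of_bijective (fun td : T × (C ⊓ K : Subgroup G) =>
      (⟨(td.1 : G) * td.2, ⟨mul_mem (hTS td.1.2) (hDS (hCD td.2.2.1)), mul_mem (hTK td.1.2) td.2.2.2⟩⟩ :
        (S ⊓ K : Subgroup G))) ⟨?_, ?_⟩).symm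
    · intro a b hab
      obtain ⟨u1, u2⟩ := hinj _ a.1.2 _ b.1.2 _ (hCD a.2.2.1) _ (hCD b.2.2.1) (congrArg Subtype.val hab)
      exact Prod.ext (Subtype.ext u1) (Subtype.ext u2)
    · rintro ⟨s, hs, hsK⟩
      obtain ⟨t, ht, d, hd, rfl⟩ := hdec s hs
      have hdK : d ∈ K := by
        have := mul_mem (inv_mem (hTK ht)) hsK
        rwa [inv_mul_cancel_left] at this
      exact ⟨⟨⟨t, ht⟩, ⟨d, hDK ⟨hd, hdK⟩, hdK⟩⟩, rfl⟩
  obtain ⟨r, hr, hrodd⟩ : ∃ r, Nat.card (S ⊓ K : Subgroup G) * r = Nat.card K ∧ ¬ 2 ∣ r := by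
    refine ⟨(S ⊓ K).relIndex K, ?_, fun h => hSsyl ?_⟩
    · rw [← Subgroup.relIndex_bot_left (S ⊓ K), ← Subgroup.relIndex_bot_left K]
      exact Subgroup.relIndex_mul_relIndex ⊥ (S ⊓ K) K bot_le inf_le_right
    · rw [Subgroup.inf_relIndex_right] at h
      refine h.trans ?_
      have e1 : (S ⊔ K) = ⊤ := by rw [← hP]; exact Transfer.sylow_sup_pResidual_eq_top P
      have e2 : S.index = S.relIndex (K ⊔ S) := by rw [sup_comm, e1, Subgroup.relIndex_top_right]
      rw [e2]
      have h1 := Subgroup.relIndex_mul_relIndex ⊥ S (K ⊔ S) bot_le le_sup_right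
      have h2 := Subgroup.relIndex_mul_relIndex ⊥ K (K ⊔ S) bot_le le_sup_left
      have h3 := Subgroup.relIndex_mul_relIndex ⊥ (S ⊓ K) S bot_le inf_le_left
      have h4 := Subgroup.relIndex_mul_relIndex ⊥ (S ⊓ K) K bot_le inf_le_right
      simp only [Subgroup.relIndex_bot_left, Subgroup.inf_relIndex_right] at h1 h2 h3 h4
      rw [Subgroup.relIndex_sup_left] at h2
      rw [Subgroup.inf_relIndex_left] at h3
      have key : Nat.card (S ⊓ K : Subgroup G) * K.relIndex S * S.relIndex (K ⊔ S) =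
          Nat.card (S ⊓ K : Subgroup G) * K.relIndex S * S.relIndex K := by
        rw [h3, h1, ← h2, ← h4, ← h3]; ring
      have hpos : 0 < Nat.card (S ⊓ K : Subgroup G) * K.relIndex S :=
        Nat.mul_pos Nat.card_pos (Nat.pos_of_ne_zero Subgroup.index_ne_zero_of_finite)
      exact (Nat.eq_of_mul_eq_mul_left hpos key).symm.dvd
  -- second step: `C ∩ K = 1`
  have hCK : C ⊓ K = ⊥ := by
    by_contra hne
    have h2C : IsPGroup 2 (C ⊓ K : Subgroup G) := hS2.to_le (inf_le_left.trans (hCD.trans hDS))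
    obtain ⟨m, hm⟩ := IsPGroup.iff_card.1 h2C
    obtain ⟨m, rfl⟩ : ∃ k, m = k + 1 := Nat.exists_eq_succ_of_ne_zero fun h => hne (by
      rw [h, pow_zero] at hm; exact Subgroup.card_eq_one.1 hm)
    haveI : IsCyclic (C ⊓ K : Subgroup G) :=
      isCyclic_of_injective (Subgroup.inclusion (inf_le_left : C ⊓ K ≤ C)) (Subgroup.inclusion_injective _)
    obtain ⟨⟨c, hcC, hcK⟩, hc⟩ := IsCyclic.exists_ofOrder_eq_natCard (α := (C ⊓ K : Subgroup G))
    rw [← Subgroup.orderOf_coe, hm] at hc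
    have hc : orderOf c = 2 ^ (m + 1) := hc
    have hc0 : orderOf (c ^ 2 ^ m) = 2 := by
      rw [orderOf_pow' _ (Nat.two_pow_pos m).ne', hc, Nat.gcd_eq_right (pow_dvd_pow 2 (Nat.le_succ m)), pow_succ,
        Nat.mul_div_cancel_left _ (Nat.two_pow_pos m)]
    set H := T.subgroupOf K with hH
    letI : Fintype (↥K ⧸ H) := Fintype.ofFinite _
    let f : ↥K →* ℤˣ := Equiv.Perm.sign.comp (MulAction.toPermHom ↥K (↥K ⧸ H))
    have hidx : Fintype.card (↥K ⧸ H) = 2 ^ (m + 1) * r := by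
      rw [← Nat.card_eq_fintype_card, ← Subgroup.index_eq_card]
      have e := H.card_mul_index
      rw [Nat.card_congr (Subgroup.subgroupOfEquivOfLe hTK).toEquiv, ← hr, hcardI, hm, mul_assoc] at e
      exact Nat.eq_of_mul_eq_mul_left Nat.card_pos e
    have hf : f ⟨c, hcK⟩ = -1 := by
      refine sign_eq_neg_one _ m ?_ (fun a => ?_) r (Nat.not_even_iff_odd.1 fun h => hrodd h.two_dvd) hidx
      · rw [← map_pow]
        have : (⟨c, hcK⟩ : ↥K) ^ 2 ^ (m + 1) = 1 :=
          Subtype.ext (show c ^ 2 ^ (m + 1) = 1 by rw [← hc, pow_orderOf_eq_one])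
        rw [this, map_one]
      · rw [← map_pow, MulAction.toPermHom_apply, MulAction.toPerm_apply]
        obtain ⟨⟨g, hgK⟩, rfl⟩ := QuotientGroup.mk_surjective a
        intro h
        rw [MulAction.Quotient.smul_mk, QuotientGroup.eq, Subgroup.mem_subgroupOf] at h
        refine h2 (c ^ 2 ^ m) (pow_mem hcC _) hc0 g⁻¹ ?_
        have e' : ((((⟨c, hcK⟩ : ↥K) ^ 2 ^ m • (⟨g, hgK⟩ : ↥K))⁻¹ * (⟨g, hgK⟩ : ↥K) : ↥K) : G)
            = (c ^ 2 ^ m * g)⁻¹ * g := rfl
        rw [e'] at h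
        have := inv_mem h
        simpa [mul_assoc] using this
    have htop : Cfsg.pResidual 2 ↥K = ⊤ := Transfer.pResidual_pResidual 2
    have hker : Cfsg.pResidual 2 ↥K ≤ f.ker :=
      Transfer.pResidual_le_ker f (IsPGroup.of_card (n := 1) (by rw [Nat.card_eq_fintype_card, pow_one]; rfl))
    rw [htop] at hker
    have := hker (Subgroup.mem_top (⟨c, hcK⟩ : ↥K))
    rw [MonoidHom.mem_ker, hf] at this
    exact absurd this (by decide)
  rw [hCK, Subgroup.card_bot, mul_one] at hcardI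
  refine ⟨K, hKn, hKD, fun T' hT'L hT' hT'syl => ⟨hT'L.trans hLK, ?_⟩⟩
  have hLcard : ∀ U : Subgroup G, U ≤ L → Nat.card U * U.relIndex L = Nat.card L := fun U hU => by
    rw [← Subgroup.relIndex_bot_left U, ← Subgroup.relIndex_bot_left L]
    exact Subgroup.relIndex_mul_relIndex ⊥ U L bot_le hU
  obtain ⟨a, ha⟩ := IsPGroup.iff_card.1 hT2
  obtain ⟨b, hb⟩ := IsPGroup.iff_card.1 hT'
  have hab : a = b := by
    have e := (hLcard T hTL).trans (hLcard T' hT'L).symm
    rw [ha, hb] at e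
    have h : (2 ^ a * T.relIndex L).factorization 2 = (2 ^ b * T'.relIndex L).factorization 2 := by rw [e]
    rw [Nat.factorization_mul (pow_ne_zero _ two_ne_zero) (show T.relIndex L ≠ 0 from Subgroup.index_ne_zero_of_finite),
      Nat.factorization_mul (pow_ne_zero _ two_ne_zero) (show T'.relIndex L ≠ 0 from Subgroup.index_ne_zero_of_finite),
      Finsupp.add_apply, Finsupp.add_apply, Nat.factorization_eq_zero_of_not_dvd hTsyl,
      Nat.factorization_eq_zero_of_not_dvd hT'syl, Nat.prime_two.factorization_pow, Nat.prime_two.factorization_pow,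
      Finsupp.single_eq_same, Finsupp.single_eq_same, add_zero, add_zero] at h
    exact h
  have hK' : Nat.card T' * T'.relIndex K = Nat.card K := by
    rw [← Subgroup.relIndex_bot_left T', ← Subgroup.relIndex_bot_left K]
    exact Subgroup.relIndex_mul_relIndex ⊥ T' K bot_le (hT'L.trans hLK)
  rw [hb, ← hr, hcardI, ha, hab] at hK'
  rw [Nat.eq_of_mul_eq_mul_left (Nat.two_pow_pos b) hK']
  exact hrodd

end Cfsg.Agent.S1924
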