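import Cfsg.Statements.S1930
import Cfsg.Agent.Lib.FlavellQ.Apply

set_option autoImplicit false
open Cfsg

namespace Cfsg.Agent.S1930

/-- Inside a finite group let G be a nontrivial subgroup and R an r-subgroup (r a prime) normalizing G, with the order of G prime to r. Let p > 3 be a prime with F*(G) = O_p(G), and let P be the intersection of all R-invariant Sylow p-subgroups of G. Then P has a nontrivial characteristic subgroup that is normalized by G. -/
theorem result {X : Type*} [Group X] [Finite X] (G R : Subgroup X) (r : ℕ) [Fact r.Prime] (hR : IsPGroup r ↥R) (hcop : (Nat.card ↥G).Coprime r) (hnorm : R ≤ Subgroup.normalizer (G : Set X)) (hG : G ≠ ⊥) (p : ℕ) [Fact p.Prime] (hp : 3 < p) (hF : Cfsg.generalizedFittingSubgroup ↥G = Cfsg.pCore p ↥G) (P : Subgroup X) (hP : P = ⨅ S : {S : Sylow p ↥G // ∀ a ∈ R, ((S : Subgroup ↥G).map G.subtype).map (MulAut.conj a).toMonoidHom = (S : Subgroup ↥G).map G.subtype}, ((S : Sylow p ↥G) :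 Subgroup ↥G).map G.subtype) : ∃ C : Subgroup ↥P, C.Characteristic ∧ C ≠ ⊥ ∧ G ≤ Subgroup.normalizer ((C.map P.subtype : Subgroup X) : Set X) := by
  classical
  let ρ : ↥R →* MulAut ↥G := G.normalizerMonoidHom.comp (Subgroup.inclusion hnorm)
  have hρ : ∀ (a : ↥R) (x : ↥G), ((ρ a x : ↥G) : X) = (a : X) * x * (a : X)⁻¹ := fun a x => rfl
  have hRr : IsPGroup r ↥ρ.range := hR.of_surjective _ ρ.rangeRestrict_surjective
  haveI := hR.isNilpotent
  have hsol : Group.IsSolvable ↥R := inferInstance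
  have hcop' : (Nat.card ↥R).Coprime (Nat.card ↥G) := by
    obtain ⟨i, hi⟩ := hR.exists_card_eq
    rw [hi]
    exact hcop.symm.pow_left i
  set T := Cfsg.pCore p ↥G with hTdef
  have hC : Subgroup.centralizer ((T : Subgroup ↥G) : Set ↥G) ≤ T := by
    have h := Cfsg.Agent.Components.centralizer_generalizedFittingSubgroup_le (G := ↥G)
    rwa [hF] at h
  have hT : T ≠ ⊥ := by
    intro hb
    refine hG ((Subgroup.eq_bot_iff_forall _).2 fun x hx => ?_)
    have h1 : (⟨x, hx⟩ : ↥G) ∈ T := hC (by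
      rw [hb]
      exact Subgroup.mem_centralizer_iff.2 fun y hy => by
        rw [(Subgroup.mem_bot.1 hy), one_mul, mul_one])
    rw [hb, Subgroup.mem_bot] at h1
    exact congrArg Subtype.val h1
  have hrp : r ≠ p := by
    rintro rfl
    haveI : Nontrivial ↥T := (Subgroup.nontrivial_iff_ne_bot T).2 hT
    obtain ⟨k, hk⟩ := (PCore.isPGroup_pCore : IsPGroup r ↥T).exists_card_eq
    have hk0 : k ≠ 0 := fun h => by
      rw [h, pow_zero] at hk
      exact absurd hk Finite.one_lt_card.ne'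
    exact (Fact.out : r.Prime).not_dvd_one
      (hcop ▸ Nat.dvd_gcd ((hk ▸ dvd_pow_self r hk0).trans (Subgroup.card_subgroup_dvd_card T))
        dvd_rfl)
  have hpr : (Nat.card ↥ρ.range).Coprime p := by
    obtain ⟨i, hi⟩ := hRr.exists_card_eq
    rw [hi]
    exact ((Nat.coprime_primes (Fact.out : r.Prime) (Fact.out : p.Prime)).2 hrp).pow_left i
  set P0 : Subgroup ↥G := P.subgroupOf G with hP0
  have hTP : T ≤ P0 := by
    intro x hx
    show (x : X) ∈ P
    rw [hP, Subgroup.mem_iInf]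
    exact fun S => ⟨x, PCore.pCore_le_sylow _ hx, rfl⟩
  obtain ⟨S0, hPS⟩ : ∃ S : Sylow p ↥G, P ≤ (S : Subgroup ↥G).map G.subtype := by
    obtain ⟨S, hS⟩ := Cfsg.Agent.Coprime.exists_invariant_sylow hnorm hcop' (Or.inl hsol) p
    refine ⟨S, ?_⟩
    rw [hP]
    exact iInf_le_of_le ⟨S, fun a ha => Cfsg.Agent.Coprime.conj_smul_eq_self_of_mem (hS ha)⟩ le_rfl
  have hPG : P ≤ G := hPS.trans (Subgroup.map_subtype_le _)
  have hall : ∀ g ∈ P0, ∀ S : Sylow p ↥G,
      (∀ σ ∈ ρ.range, ∀ x ∈ (S : Subgroup ↥G), σ x ∈ (S : Subgroup ↥G)) → g ∈ (S : Subgroup ↥G) := by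
    intro g hg S hS
    have hinv : ∀ a ∈ R, ((S : Subgroup ↥G).map G.subtype).map (MulAut.conj a).toMonoidHom =
        (S : Subgroup ↥G).map G.subtype := by
      intro a ha
      refine le_antisymm ?_ ?_
      · rintro _ ⟨_, ⟨x, hx, rfl⟩, rfl⟩
        exact ⟨ρ ⟨a, ha⟩ x, hS _ ⟨_, rfl⟩ x hx, rfl⟩
      · rintro _ ⟨x, hx, rfl⟩
        refine ⟨_, ⟨ρ ⟨a, ha⟩⁻¹ x, hS _ ⟨_, rfl⟩ x hx, rfl⟩, ?_⟩
        show a * ((ρ ⟨a, ha⟩⁻¹ x : ↥G) : X) * a⁻¹ = (x : X)
        rw [hρ]
        simp [mul_assoc]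
    have h1 : (g : X) ∈ P := hg
    rw [hP, Subgroup.mem_iInf] at h1
    obtain ⟨y, hy, hye⟩ := h1 ⟨S, hinv⟩
    rwa [show g = y from Subtype.ext hye.symm]
  have hn := Cfsg.Agent.FlavellQ.normal_inducedFunctor_kInfLower hp hRr hcop hpr hC hTP hall
  have hPp : IsPGroup p ↥P := (S0.isPGroup'.map G.subtype).to_le hPS
  let e := Subgroup.subgroupOfEquivOfLe hPG
  refine ⟨Cfsg.kInfLower ↥P, KInf.kInfLower_characteristic, fun hb => hT ?_, ?_⟩
  · have h1 := KInf.centralizer_kInfLower_le hPp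
    rw [hb] at h1
    refine (Subgroup.eq_bot_iff_forall _).2 fun x hx => Subtype.ext ?_
    have h2 : (⟨x, hTP hx⟩ : ↥P) ∈ (⊥ : Subgroup ↥P) := h1 (Subgroup.mem_centralizer_iff.2
      fun y hy => by rw [(Subgroup.mem_bot.1 hy), one_mul, mul_one])
    exact (congrArg Subtype.val (Subgroup.mem_bot.1 h2) :)
  have hmap : (Cfsg.inducedFunctor Cfsg.kInfLower P0).map G.subtype =
      (Cfsg.kInfLower ↥P).map P.subtype := by
    rw [Cfsg.inducedFunctor, ← KInf.map_kInfLower_equiv e, Subgroup.map_map, Subgroup.map_map]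
    rfl
  rw [← hmap]
  intro g hg
  haveI := hn
  exact Subgroup.le_normalizer_map G.subtype ⟨⟨g, hg⟩, Subgroup.mem_top _ |>
    (Subgroup.normalizer_eq_top (H := Cfsg.inducedFunctor Cfsg.kInfLower P0)).ge, rfl⟩

end Cfsg.Agent.S1930
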