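import Cfsg.Statements.S1931
import Cfsg.Agent.Lib.FlavellQ.Local
import Cfsg.Agent.Lib.FlavellQ.Layers

set_option autoImplicit false
open Cfsg

namespace Cfsg.Agent.S1931

/-- Inside a finite group let G be a subgroup and R a noncyclic abelian r-subgroup (r a prime) normalizing G, with the order of G prime to r, and let p > 3 be a prime. Suppose that for every nonidentity a ∈ R, R centralizes the subgroup O^p(F*(C_G(a))) generated by the p'-elements of the generalized Fitting subgroup of C_G(a). Then R centralizes O^p(F*(G)). -/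
theorem result {X : Type*} [Group X] [Finite X] (G R : Subgroup X) (r : ℕ) [Fact r.Prime] (hR : IsPGroup r ↥R) (hcop : (Nat.card ↥G).Coprime r) (hnorm : R ≤ Subgroup.normalizer (G : Set X)) (hab : IsMulCommutative ↥R) (hnc : ¬ IsCyclic ↥R) (p : ℕ) [Fact p.Prime] (hp : 3 < p) (hloc : ∀ a ∈ R, a ≠ 1 → R ≤ Subgroup.centralizer ((((Cfsg.pResidual p ↥(Cfsg.generalizedFittingSubgroup ↥(G ⊓ Subgroup.centralizer ({a} : Set X)))).map (Cfsg.generalizedFittingSubgroup ↥(G ⊓ Subgroup.centralizer ({a} : Set X))).subtype).map (G ⊓ Subgroup.centralizer ({a} : Set X)).subtype : Subgroup X) : Set X)) : R ≤ Subgroup.centralizer ((((Cfsg.pResidual p ↥(Cfsg.generalizedFittingSubgroup ↥G)).map (Cfsg.generalizedFittingSubgroup ↥G).subtype).map G.subtype : Subgroup X) : Set X) := by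
  have := hab
  have hcop' : (Nat.card R).Coprime (Nat.card G) := by
    obtain ⟨i, hi⟩ := hR.exists_card_eq
    rw [hi]
    exact hcop.symm.pow_left i
  have hsol : Group.IsSolvable R := by
    have := hR.isNilpotent
    infer_instance
  have hG : FlavellQ.Acts R G := ⟨hnorm, hcop', hsol⟩
  have hgood : ∀ a ∈ R, a ≠ 1 → FlavellQ.Good p R (G ⊓ Subgroup.centralizer ({a} : Set X)) := by
    intro a ha ha1
    refine FlavellQ.good_of_fixes_genFit
      (hG.of_le inf_le_left (Coprime.le_normalizer_inf_centralizer_singleton hnorm ha)) ?_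
    rintro _ ⟨v, hv, rfl⟩ hvp b hb
    refine (Subgroup.mem_centralizer_iff.1 (hloc a ha ha1 hb) _ ?_).symm
    exact ⟨v, ⟨⟨v, hv⟩, Subgroup.subset_closure
      (show (orderOf (⟨v, hv⟩ : ↥(Cfsg.generalizedFittingSubgroup _))).Coprime p by
        rw [← Subgroup.orderOf_coe]
        rwa [Subgroup.coe_subtype, Subgroup.orderOf_coe] at hvp), rfl⟩, rfl⟩
  have hgG := FlavellQ.good_of_locGood hp hG hnc hgood
  rw [Subgroup.le_centralizer_iff, Cfsg.pResidual, MonoidHom.map_closure, MonoidHom.map_closure,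
    Subgroup.closure_le]
  rintro _ ⟨_, ⟨v, hv, rfl⟩, rfl⟩
  refine Subgroup.mem_centralizer_iff.2 fun b hb => ?_
  refine (hgG.fixes_genFit (x := ((v : ↥G) : X)) ⟨v, v.2, rfl⟩ ?_ b hb).eq
  rw [Subgroup.orderOf_coe, Subgroup.orderOf_coe]
  exact hv

end Cfsg.Agent.S1931
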