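import Cfsg.Statements.S1932
import Cfsg.Agent.Lib.Offender.ClassTwoNormal
import Cfsg.Agent.Lib.ConjFun.ThompsonClassTwo

set_option autoImplicit false
open Cfsg
open scoped commutatorElement

namespace Cfsg.Agent.S1932

/-- Let G be a finite group that is 2-constrained and has no section isomorphic to the symmetric group of degree 4, and let S be a Sylow 2-subgroup of G of nilpotency class at most 2. Then G = N_G(J(S))·O_{2'}(G), where J(S) is the Thompson subgroup generated by the elementary abelian subgroups of S of largest order. -/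
theorem result {G : Type*} [Group G] [Finite G] (hcon : Cfsg.IsPConstrained 2 G) (hS4 : ¬ Cfsg.Involves (Equiv.Perm (Fin 4)) G) (S : Sylow 2 G) (hcl : Subgroup.lowerCentralSeries (S : Subgroup G) 2 = ⊥) : Subgroup.normalizer ((Cfsg.thompsonSubgroupOf 2 (S : Subgroup G)) : Set G) ⊔ Cfsg.pPrimeCore 2 G = ⊤ := by
  haveI : Fact (Nat.Prime 2) := ⟨Nat.prime_two⟩
  set O := Cfsg.pPrimeCore 2 G with hO
  set π := QuotientGroup.mk' O with hπ
  have hπs : Function.Surjective π := QuotientGroup.mk'_surjective O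
  set J := Cfsg.thompsonSubgroupOf 2 (S : Subgroup G) with hJ
  have hinj : Set.InjOn π ((S : Subgroup G) : Set G) := by
    intro a ha b hb hab
    refine inv_mul_eq_one.1 (Subgroup.mem_bot.1 ?_)
    rw [← (disjoint_iff.1 (Cfsg.Agent.PCore.disjoint_of_isPGroup_of_coprime S.2 Cfsg.Agent.PCore.coprime_card_pPrimeCore))]
    exact Subgroup.mem_inf.2 ⟨mul_mem (inv_mem ha) hb, QuotientGroup.eq.1 hab⟩
  have hS'c : ((S.mapSurjective hπs : Sylow 2 (G ⧸ O)) : Subgroup (G ⧸ O)) = (S : Subgroup G).map π :=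
    Sylow.coe_mapSurjective _ _
  have hcl' : ∀ x ∈ (S : Subgroup G), ∀ y ∈ (S : Subgroup G), ∀ z ∈ (S : Subgroup G),
      ⁅x, y⁆ * z = z * ⁅x, y⁆ := fun x hx y hy z hz => by
    rw [← commutatorElement_eq_one_iff_mul_comm, ← Subgroup.mem_bot, ← hcl]
    exact Subgroup.commutator_mem_commutator (Subgroup.commutator_mem_commutator hx hy) hz
  have hn : (Cfsg.thompsonSubgroupOf 2
      ((S.mapSurjective hπs : Sylow 2 (G ⧸ O)) : Subgroup (G ⧸ O))).Normal := by
    refine Cfsg.Agent.Offender.thompsonSubgroupOf_normal_of_constrained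
      ((Cfsg.Agent.PCore.isPConstrained_iff).mp hcon)
      (fun h => hS4 (Cfsg.Agent.PComplement.involves_of_quotient h)) _ ?_
    intro x hx y hy z hz
    rw [hS'c] at hx hy hz
    obtain ⟨a, ha, rfl⟩ := hx
    obtain ⟨b, hb, rfl⟩ := hy
    obtain ⟨c, hc, rfl⟩ := hz
    rw [← map_commutatorElement, ← map_mul, ← map_mul, hcl' a ha b hb c hc]
  have hJ' : Cfsg.thompsonSubgroupOf 2
      ((S.mapSurjective hπs : Sylow 2 (G ⧸ O)) : Subgroup (G ⧸ O)) = J.map π := by
    rw [hS'c]
    exact Cfsg.Agent.ConjFun.inducedFunctor_map (Cfsg.Agent.ConjFun.isCharPFunctor_thompson) π _ S.2 hinj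
  rw [hJ'] at hn
  have h1 := Cfsg.Agent.ConjFun.map_normalizer_eq π hπs
    (by rw [hπ, QuotientGroup.ker_mk']; exact Cfsg.Agent.PCore.coprime_card_pPrimeCore)
    (S.2.to_le (Subgroup.map_subtype_le _) : IsPGroup 2 J)
  rw [Subgroup.normalizer_eq_top_iff.2 hn] at h1
  have h2 := congrArg (Subgroup.comap π) h1
  rwa [Subgroup.comap_map_eq, Subgroup.comap_top, hπ, QuotientGroup.ker_mk'] at h2


end Cfsg.Agent.S1932
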