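import Cfsg.Statements.S1935
import Cfsg.Agent.Lib.Offender.LimitNormal

set_option autoImplicit false
open Cfsg

namespace Cfsg.Agent.S1935

open Cfsg.Agent.PGV Cfsg.Agent.Offender.LimitNormal
open scoped commutatorElement

/-- Let p ≥ 5 be a prime and, inside an ambient finite group, let G be a p-subgroup acting faithfully by conjugation on an elementary abelian p-subgroup V that it normalizes (only the identity of G centralizes V). Suppose V is an F-module for G: some nontrivial elementary abelian subgroup E of G satisfies #E · #C_V(E) ≥ #V. Then G contains such an offender A that moreover acts quadratically on V ([V, A, A] = 1) and is normal in its normal closure in G. -/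
theorem result {Ω : Type*} [Group Ω] [Finite Ω] (p : ℕ) [Fact p.Prime] (hp : 5 ≤ p) (V G : Subgroup Ω) (hV : Cfsg.IsElementaryAbelian p V) (hG : IsPGroup p ↥G) (hGV : G ≤ Subgroup.normalizer (V : Set Ω)) (hfaith : G ⊓ Subgroup.centralizer (V : Set Ω) = ⊥) (hF : ∃ E : Subgroup Ω, E ≤ G ∧ E ≠ ⊥ ∧ Cfsg.IsElementaryAbelian p E ∧ Nat.card ↥V ≤ Nat.card ↥E * Nat.card ↥(V ⊓ Subgroup.centralizer (E : Set Ω))) : ∃ A : Subgroup Ω, A ≤ G ∧ A ≠ ⊥ ∧ Cfsg.IsElementaryAbelian p A ∧ Nat.card ↥V ≤ Nat.card ↥A * Nat.card ↥(V ⊓ Subgroup.centralizer (A : Set Ω)) ∧ ⁅⁅V, A⁆, A⁆ = ⊥ ∧ ∀ g ∈ Subgroup.closure {x : Ω | ∃ h ∈ G, ∃ a ∈ A, x = h * a * h⁻¹}, ∀ a ∈ A, g * a * g⁻¹ ∈ A := by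
  classical
  have : IsMulCommutative ↥V := hV.1
  let _ : CommGroup ↥V := { (inferInstance : Group ↥V) with mul_comm := hV.1.is_comm.comm }
  have hpV : ∀ v : Additive ↥V, p • v = 0 := fun v =>
    Additive.toMul.injective (Subtype.ext (hV.2 _ (Additive.toMul v).2))
  -- the action
  let c : ↥G → Module.End ℤ (Additive ↥V) := fun g => (MonoidHom.toAdditive
    { toFun := fun v : ↥V => (⟨(g : Ω) * v * (g : Ω)⁻¹,
        (Subgroup.mem_normalizer_iff.mp (hGV g.2) _).mp v.2⟩ : ↥V)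
      map_one' := Subtype.ext (by simp)
      map_mul' := fun a b => Subtype.ext (by simp [mul_assoc]) }).toIntLinearMap
  let ψ : ↥G →* (Module.End ℤ (Additive ↥V))ˣ := MonoidHom.toHomUnits
    { toFun := c
      map_one' := LinearMap.ext fun v => Additive.toMul.injective (Subtype.ext (by
        show ((1 : ↥G) : Ω) * (Additive.toMul v : ↥V) * ((1 : ↥G) : Ω)⁻¹ = (Additive.toMul v : ↥V)
        simp))
      map_mul' := fun g h => LinearMap.ext fun v => Additive.toMul.injective (Subtype.ext (by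
        show ((g * h : ↥G) : Ω) * (Additive.toMul v : ↥V) * ((g * h : ↥G) : Ω)⁻¹ =
          (g : Ω) * ((h : Ω) * (Additive.toMul v : ↥V) * (h : Ω)⁻¹) * (g : Ω)⁻¹
        simp [mul_assoc])) }
  have hψ : ∀ (g : ↥G) (v : Additive ↥V),
      ((Additive.toMul ((ψ g : Module.End ℤ (Additive ↥V)) v) : ↥V) : Ω) =
        (g : Ω) * (Additive.toMul v : ↥V) * (g : Ω)⁻¹ := fun g v => rfl
  have hψinj : Function.Injective ψ := by
    refine (injective_iff_map_eq_one ψ).mpr fun g hg => Subtype.ext ?_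
    refine Subgroup.mem_bot.mp (hfaith ▸ ⟨g.2, fun v hv => ?_⟩)
    have := hψ g (Additive.ofMul ⟨v, hv⟩)
    rw [hg, Units.val_one] at this
    change v = (g : Ω) * v * (g : Ω)⁻¹ at this
    exact mul_inv_eq_iff_eq_mul.mp this.symm |>.symm
  -- fixed points
  have hfix : ∀ H : Subgroup Ω, H ≤ G →
      Nat.card ↥(V ⊓ Subgroup.centralizer (H : Set Ω)) =
        Nat.card ↥(fixed ((H.subgroupOf G).map ψ)) := by
    intro H hH
    refine Nat.card_congr
      { toFun := fun v => ⟨Additive.ofMul ⟨v.1, v.2.1⟩, mem_fixed.mpr ?_⟩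
        invFun := fun v => ⟨(Additive.toMul v.1 : ↥V), (Additive.toMul v.1).2, fun a ha => ?_⟩
        left_inv := fun v => rfl
        right_inv := fun v => rfl }
    · rintro _ ⟨g, hg, rfl⟩
      refine Additive.toMul.injective (Subtype.ext ?_)
      rw [hψ]
      show (g : Ω) * v.1 * (g : Ω)⁻¹ = v.1
      rw [v.2.2 g hg, mul_inv_cancel_right]
    · have h1 := mem_fixed.mp v.2 _ ⟨⟨a, hH ha⟩, ha, rfl⟩
      have h2 := hψ ⟨a, hH ha⟩ v.1
      rw [h1] at h2
      exact (mul_inv_eq_iff_eq_mul.mp h2.symm)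
  have hG' : IsPGroup p ↥ψ.range := hG.of_surjective ψ.rangeRestrict ψ.rangeRestrict_surjective
  obtain ⟨E, hEG, hEne, hEel, hEoff⟩ := hF
  obtain ⟨A', ⟨hA'G, hA'ne, hA'el, hA'q, hA'off⟩, hA'n⟩ :=
    exists_quadratic_normal_closure (V := Additive ↥V) hpV (by omega) hG'
      ⟨(E.subgroupOf G).map ψ, ψ.range_eq_map ▸ Subgroup.map_mono le_top, fun h => hEne (by
          rw [Subgroup.map_eq_bot_iff_of_injective _ hψinj, Subgroup.subgroupOf_eq_bot,
            disjoint_iff, inf_eq_left.mpr hEG] at h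
          exact h),
        Cfsg.Agent.PGroup.isElementaryAbelian_map
          (Cfsg.Agent.PGroup.isElementaryAbelian_comap hEel G.subtype_injective) ψ, by
        rw [← hfix E hEG, Subgroup.card_map_of_injective hψinj,
          Nat.card_congr (Subgroup.subgroupOfEquivOfLe hEG).toEquiv]
        exact hEoff⟩
  set A : Subgroup Ω := (A'.comap ψ).map G.subtype with hA
  have hAG : A ≤ G := by rintro _ ⟨a, -, rfl⟩; exact a.2
  have hmap : (A.subgroupOf G).map ψ = A' := by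
    rw [hA, Subgroup.subgroupOf,
      Subgroup.comap_map_eq_self_of_injective G.subtype_injective, Subgroup.map_comap_eq,
      inf_eq_right.mpr hA'G]
  have hcard : Nat.card ↥A = Nat.card ↥A' := by
    rw [← hmap, Subgroup.card_map_of_injective hψinj,
      Nat.card_congr (Subgroup.subgroupOfEquivOfLe hAG).toEquiv]
  refine ⟨A, hAG, fun h => hA'ne ?_, Cfsg.Agent.PGroup.isElementaryAbelian_map
    (Cfsg.Agent.PGroup.isElementaryAbelian_comap hA'el hψinj) _, ?_, ?_, ?_⟩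
  · rw [← hmap, h, Subgroup.bot_subgroupOf, Subgroup.map_bot]
  · rw [hfix A hAG, hmap, hcard]
    exact hA'off
  · refine Subgroup.commutator_eq_bot_iff_le_centralizer.mpr (Subgroup.commutator_le.mpr ?_)
    rintro v hv _ ⟨a, ha, rfl⟩ _ ⟨d, hd, rfl⟩
    have h0 := LinearMap.congr_fun (hA'q _ hd _ ha) (Additive.ofMul ⟨v, hv⟩)
    simp only [Module.End.mul_apply, LinearMap.sub_apply, Module.End.one_apply, LinearMap.zero_apply,
      sub_eq_zero] at h0
    have h1 := congrArg (fun x : Additive ↥V => ((Additive.toMul x : ↥V) : Ω)) h0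
    simp only [toMul_sub, Subgroup.coe_div, hψ, toMul_ofMul] at h1
    show (d : Ω) * ⁅v, (a : Ω)⁆ = ⁅v, (a : Ω)⁆ * d
    have e : ⁅v, (a : Ω)⁆ = (((a : Ω) * v * (a : Ω)⁻¹) / v)⁻¹ := by
      rw [commutatorElement_def, inv_div, div_eq_mul_inv]; group
    have h2 : (d : Ω) * ((a : Ω) * v * (a : Ω)⁻¹ / v) * (d : Ω)⁻¹ = (a : Ω) * v * (a : Ω)⁻¹ / v := by
      exact h1
    have h3 : Commute (d : Ω) ((a : Ω) * v * (a : Ω)⁻¹ / v) := mul_inv_eq_iff_eq_mul.mp h2
    rw [e]
    exact h3.inv_right.eq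
  · suffices Subgroup.closure {x : Ω | ∃ h ∈ G, ∃ a ∈ A, x = h * a * h⁻¹} ≤
        Subgroup.normalizer (A : Set Ω) from
      fun g hg a ha => (Subgroup.mem_normalizer_iff.mp (this hg) a).mp ha
    refine (Subgroup.closure_le _).mpr ?_
    rintro _ ⟨h, hh, _, ⟨a, ha, rfl⟩, rfl⟩
    refine Subgroup.mem_normalizer_fintype ?_
    rintro _ ⟨b, hb, rfl⟩
    refine ⟨⟨h, hh⟩ * a * ⟨h, hh⟩⁻¹ * b * (⟨h, hh⟩ * a * ⟨h, hh⟩⁻¹)⁻¹, ?_, rfl⟩
    have hn := hA'n (ψ ⟨h, hh⟩) ⟨⟨h, hh⟩, rfl⟩ ⟨ψ a, ha, rfl⟩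
    show ψ _ ∈ A'
    simpa only [map_mul, map_inv, MulEquiv.coe_toMonoidHom, MulAut.conj_apply] using
      (Subgroup.mem_normalizer_iff.mp hn _).mp hb

end Cfsg.Agent.S1935
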