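import Cfsg.Statements.S1940
-- import your own Cfsg.Agent.* helpers here

set_option autoImplicit false
open Cfsg

namespace Cfsg.Agent.S1940

/-- Let the finite group L act by automorphisms on the finite abelian group M, and let N be an L-invariant subgroup of M such that M/N is a p-group on which L acts trivially (every l • m lies in the coset mN). If every element of M is a product of an element of N and an element fixed by a Sylow p-subgroup T of L, then every element of M is a product of an element of N and an element fixed by all of L. -/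
theorem result {L : Type*} [Group L] [Finite L] {M : Type*} [CommGroup M] [Finite M] [MulDistribMulAction L M]
    {p : ℕ} [Fact p.Prime] (N : Subgroup M) (hN : ∀ (l : L) (m : M), m ∈ N → l • m ∈ N)
    (hquot : IsPGroup p (M ⧸ N)) (htriv : ∀ (l : L) (m : M), (l • m) * m⁻¹ ∈ N) (T : Sylow p L)
    (hT : ∀ m : M, ∃ n ∈ N, ∃ c : M, (∀ t ∈ (T : Subgroup L), t • c = c) ∧ m = n * c) :
    ∀ m : M, ∃ n ∈ N, ∃ c : M, (∀ l : L, l • c = c) ∧ m = n * c := by
  classical
  intro m
  obtain ⟨n₀, hn₀, c, hc, rfl⟩ := hT m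
  have := Fintype.ofFinite (L ⧸ (T : Subgroup L))
  let c' : M := ∏ r : L ⧸ (T : Subgroup L), r.out • c
  have hc' : ∀ l : L, l • c' = c' := by
    intro l
    simp only [c', Finset.smul_prod']
    refine Fintype.prod_equiv (MulAction.toPerm l) _ _ fun r => ?_
    have h1 : (l * r.out)⁻¹ * (l • r).out ∈ (T : Subgroup L) := by
      rw [← QuotientGroup.eq, QuotientGroup.out_eq']
      conv_rhs => rw [← QuotientGroup.out_eq' r]
      rfl
    have h2 := hc _ h1
    show l • r.out • c = (l • r).out • c
    conv_rhs => rw [← mul_inv_cancel_left (l * r.out) (l • r).out, mul_smul, h2]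
    rw [mul_smul]
  set k := Fintype.card (L ⧸ (T : Subgroup L)) with hk
  have hmk : ((c' : M) : M ⧸ N) = ((c : M) : M ⧸ N) ^ k := by
    show QuotientGroup.mk' N c' = _
    rw [map_prod]
    rw [Finset.prod_congr rfl (g := fun _ => QuotientGroup.mk' N c) fun r _ => ?_]
    · rw [Finset.prod_const, Finset.card_univ]; rfl
    · rw [← div_eq_one, ← map_div, QuotientGroup.mk'_apply, QuotientGroup.eq_one_iff, div_eq_mul_inv]
      exact htriv _ _
  have hcop : (Nat.card (M ⧸ N)).Coprime k := by
    obtain ⟨e, he⟩ := hquot.exists_card_eq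
    rw [he, hk, ← Nat.card_eq_fintype_card, ← Subgroup.index_eq_card]
    exact (((Fact.out : p.Prime).coprime_iff_not_dvd).2 T.not_dvd_index).pow_left e
  obtain ⟨j, hj⟩ : ∃ j, ((c : M) : M ⧸ N) = ((c' : M) : M ⧸ N) ^ j := by
    obtain ⟨j, hj⟩ := exists_pow_eq_self_of_coprime
      (hcop.symm.coprime_dvd_right (orderOf_dvd_natCard ((c : M) : M ⧸ N)))
    exact ⟨j, by rw [hmk]; exact hj.symm⟩
  refine ⟨n₀ * (c * (c' ^ j)⁻¹), N.mul_mem hn₀ ?_, c' ^ j, fun l => ?_, ?_⟩
  · rw [← QuotientGroup.eq_one_iff, QuotientGroup.mk_mul, QuotientGroup.mk_inv, QuotientGroup.mk_pow,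
      ← hj, mul_inv_cancel]
  · rw [smul_pow', hc']
  · rw [mul_assoc, inv_mul_cancel_right]

end Cfsg.Agent.S1940
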