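import Cfsg.Statements.S1941
import Cfsg.Agent.Lib.Components.GenFitting
import Cfsg.Agent.Lib.Balance.Components

set_option autoImplicit false
open Cfsg

namespace Cfsg.Agent.S1941

/-- Let G be a finite group with no nontrivial normal subgroup of order prime to p, T a Sylow p-subgroup of G and E(G) the layer of G (the subgroup generated by its components). An automorphism of G of p-power order that fixes T and E(G) elementwise is inner. -/
theorem result {G : Type*} [Group G] [Finite G] {p : ℕ} [Fact p.Prime] (hcore : Cfsg.pPrimeCore p G = ⊥)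
    (T : Sylow p G) (α : MulAut G) (hα : ∃ j : ℕ, orderOf α = p ^ j) (hfixT : ∀ x ∈ (T : Subgroup G), α x = x)
    (hfixE : ∀ x ∈ Cfsg.layer G, α x = x) : ∃ g : G, ∀ x : G, α x = g * x * g⁻¹ := by
  classical
  let F := Cfsg.generalizedFittingSubgroup G
  let A : Subgroup G := Subgroup.centralizer (F : Set G)
  have hAF : A ≤ F := Components.centralizer_generalizedFittingSubgroup_le
  haveI hFn : F.Normal := Components.generalizedFittingSubgroup_normal G
  haveI hAn : A.Normal := inferInstance
  have hAcomm : ∀ a ∈ A, ∀ b ∈ A, a * b = b * a := fun a ha b hb =>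
    (Subgroup.mem_centralizer_iff.mp hb a (hAF ha))
  letI : CommGroup A :=
    { (inferInstance : Group A) with mul_comm := fun a b => Subtype.ext (hAcomm a a.2 b b.2) }
  haveI : Group.IsNilpotent A := inferInstance
  have hFit : Cfsg.fittingSubgroup G = Cfsg.pCore p G := Balance.fitting_eq_pCore hcore
  have hAO : A ≤ Cfsg.pCore p G := hFit ▸ Components.le_fittingSubgroup hAn
  have hOp : IsPGroup p (Cfsg.pCore p G) := Components.isPGroup_pCore' p
  have hAp : IsPGroup p A := hOp.to_le hAO
  have hOT : Cfsg.pCore p G ≤ (T : Subgroup G) := by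
    haveI := Components.pCore_normal' (G := G) p
    exact le_sup_left.trans (T.3 (hOp.to_sup_of_normal_left T.isPGroup') le_sup_right).le
  have hfixF : ∀ x ∈ F, α x = x := by
    have hle : F ≤ (α.toMonoidHom).eqLocus (MonoidHom.id G) := by
      refine sup_le (fun x hx => hfixE x hx) ?_
      rw [hFit]
      exact fun x hx => hfixT x (hOT hx)
    exact fun x hx => hle hx
  have hd : ∀ g : G, α g * g⁻¹ ∈ A := by
    intro g
    rw [Subgroup.mem_centralizer_iff]
    intro f hf
    have h1 := hfixF _ (hFn.conj_mem f hf g⁻¹)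
    simp only [map_mul, hfixF f hf, map_inv, inv_inv] at h1
    have h2 : f * α g = α g * (g⁻¹ * f * g) := by rw [← h1]; group
    calc f * (α g * g⁻¹) = (f * α g) * g⁻¹ := by group
      _ = α g * (g⁻¹ * f * g) * g⁻¹ := by rw [h2]
      _ = α g * g⁻¹ * f := by group
  let d : G → A := fun g => ⟨α g * g⁻¹, hd g⟩
  have hdT : ∀ g : G, ∀ t ∈ (T : Subgroup G), d (g * t) = d g := by
    intro g t ht
    apply Subtype.ext
    show α (g * t) * (g * t)⁻¹ = α g * g⁻¹
    rw [map_mul, hfixT t ht]; group
  let c : G → MulAut A := fun g => MulAut.conjNormal g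
  have hdmul : ∀ g h : G, d (g * h) = d g * c g (d h) := by
    intro g h
    apply Subtype.ext
    show α (g * h) * (g * h)⁻¹ = α g * g⁻¹ * (c g (d h) : G)
    simp only [c, MulAut.conjNormal_apply]
    show α (g * h) * (g * h)⁻¹ = α g * g⁻¹ * (g * (α h * h⁻¹) * g⁻¹)
    rw [map_mul]; group
  have := Fintype.ofFinite (G ⧸ (T : Subgroup G))
  let Sm : A := ∏ r : G ⧸ (T : Subgroup G), d r.out
  have hSm : ∀ g : G, Sm = d g ^ Fintype.card (G ⧸ (T : Subgroup G)) * c g Sm := by
    intro g
    show (∏ r : G ⧸ (T : Subgroup G), d r.out) = _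
    rw [map_prod, ← Finset.card_univ, ← Finset.prod_const, ← Finset.prod_mul_distrib]
    symm
    refine Fintype.prod_equiv (MulAction.toPerm g) _ _ fun r => ?_
    have h1 : (g * r.out)⁻¹ * (g • r).out ∈ (T : Subgroup G) := by
      rw [← QuotientGroup.eq, QuotientGroup.out_eq']
      conv_rhs => rw [← QuotientGroup.out_eq' r]
      rfl
    show d g * c g (d r.out) = d (g • r).out
    conv_rhs => rw [← mul_inv_cancel_left (g * r.out) (g • r).out]
    rw [hdT _ _ h1, hdmul]
  set m := Fintype.card (G ⧸ (T : Subgroup G)) with hm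
  have hcop : (Nat.card A).Coprime m := by
    obtain ⟨e, he⟩ := IsPGroup.iff_card.mp hAp
    rw [he, hm, ← Nat.card_eq_fintype_card, ← Subgroup.index_eq_card]
    exact (((Fact.out : p.Prime).coprime_iff_not_dvd).2 T.not_dvd_index).pow_left e
  obtain ⟨a, ha⟩ := (powCoprime hcop).surjective Sm
  have ha : a ^ m = Sm := ha
  refine ⟨a, fun g => ?_⟩
  have h1 : (d g * c g a) ^ m = a ^ m := by
    rw [mul_pow, ← map_pow, ha]; exact (hSm g).symm
  have h2 : d g * c g a = a := (powCoprime hcop).injective h1
  have h3 : α g * g⁻¹ * (g * (a : G) * g⁻¹) = (a : G) := by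
    have h4 := congrArg Subtype.val h2
    simpa only [c, Subgroup.coe_mul, MulAut.conjNormal_apply, d] using h4
  calc α g = α g * g⁻¹ * (g * (a : G) * g⁻¹) * (g * (a : G)⁻¹) := by group
    _ = (a : G) * g * (a : G)⁻¹ := by rw [h3, mul_assoc]

end Cfsg.Agent.S1941
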