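import Cfsg.Statements.S1944
import Cfsg.Agent.S1907

set_option autoImplicit false
open Cfsg

namespace Cfsg.Agent.S1944

/-- Let S be a Sylow p-subgroup of the finite group G and suppose that the centre Z(S) lies in O_{p',p}(G). The elements of S each of which is its only G-conjugate in S form a subgroup W of Z(S); W is then a direct factor of Z(S): there is a subgroup K of Z(S) with W ∩ K = 1 and WK = Z(S). -/
theorem result {G : Type*} [Group G] [Finite G] {p : ℕ} [Fact p.Prime] (S : Sylow p G)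
    (hZ : ((S : Subgroup G) ⊓ Subgroup.centralizer ((S : Subgroup G) : Set G)) ≤ Cfsg.pPrimePCore p G) :
    ∃ W K : Subgroup G, (∀ x : G, x ∈ W ↔ (x ∈ (S : Subgroup G) ∧ ∀ g : G, g * x * g⁻¹ ∈ (S : Subgroup G) → g * x * g⁻¹ = x)) ∧
      K ≤ ((S : Subgroup G) ⊓ Subgroup.centralizer ((S : Subgroup G) : Set G)) ∧ W ⊓ K = ⊥ ∧ W ⊔ K = ((S : Subgroup G) ⊓ Subgroup.centralizer ((S : Subgroup G) : Set G)) := by
  classical
  set Z := (S : Subgroup G) ⊓ Subgroup.centralizer ((S : Subgroup G) : Set G) with hZdef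
  set H := (S : Subgroup G) ⊓ Cfsg.pPrimePCore p G with hHdef
  set N := Subgroup.normalizer (H : Set G) with hNdef
  have hZH : Z ≤ H := le_inf inf_le_left hZ
  have hSN : (S : Subgroup G) ≤ N := by
    haveI : (Cfsg.pCore p (G ⧸ Cfsg.pPrimeCore p G)).Normal := PCore.pCore_normal
    haveI : (Cfsg.pPrimePCore p G).Normal := Subgroup.Normal.comap inferInstance _
    refine le_trans (le_inf Subgroup.le_normalizer ?_) Subgroup.inf_normalizer_le_normalizer_inf
    exact le_top.trans_eq (Subgroup.normalizer_eq_top_iff.mpr inferInstance).symm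
  have hHS : H ≤ (S : Subgroup G) := inf_le_left
  have hNH : ∀ n ∈ N, ∀ h ∈ H, n * h * n⁻¹ ∈ H := fun n hn h hh => (Subgroup.mem_normalizer_iff.mp hn h).mp hh
  let W : Subgroup G := Z ⊓ Subgroup.centralizer (N : Set G)
  have hWiff : ∀ x : G, x ∈ W ↔
      (x ∈ (S : Subgroup G) ∧ ∀ g : G, g * x * g⁻¹ ∈ (S : Subgroup G) → g * x * g⁻¹ = x) := by
    intro x
    constructor
    · rintro ⟨hxZ, hxN⟩
      refine ⟨hxZ.1, fun g hg => ?_⟩
      obtain ⟨n, hn, he⟩ := S1907.exists_conj_normalizer S hxZ.1 hg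
      rw [← he]
      rw [(Subgroup.mem_centralizer_iff.mp hxN n hn), mul_inv_cancel_right]
    · rintro ⟨hxS, hwc⟩
      have hxZ : x ∈ Z := by
        refine ⟨hxS, Subgroup.mem_centralizer_iff.mpr fun s hs => ?_⟩
        exact mul_inv_eq_iff_eq_mul.mp (hwc s (Subgroup.mul_mem _ (Subgroup.mul_mem _ hs hxS) (Subgroup.inv_mem _ hs)))
      refine ⟨hxZ, Subgroup.mem_centralizer_iff.mpr fun n hn => ?_⟩
      exact mul_inv_eq_iff_eq_mul.mp (hwc n (hHS (hNH n hn x (hZH hxZ))))
  -- the centre of `H`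
  let A : Subgroup G := H ⊓ Subgroup.centralizer (H : Set G)
  have hAcomm : ∀ a ∈ A, ∀ b ∈ A, a * b = b * a := fun a ha b hb => Subgroup.mem_centralizer_iff.mp hb.2 a ha.1
  letI : CommGroup A :=
    { (inferInstance : Group A) with mul_comm := fun a b => Subtype.ext (hAcomm a a.2 b b.2) }
  have hZA : Z ≤ A := fun z hz => ⟨hZH hz, Subgroup.mem_centralizer_iff.mpr fun h hh =>
    Subgroup.mem_centralizer_iff.mp hz.2 h (hHS hh)⟩
  have hNA : ∀ n : N, ∀ a : A, (n : G) * a * (n : G)⁻¹ ∈ A := by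
    intro n a
    refine ⟨hNH n n.2 a a.2.1, Subgroup.mem_centralizer_iff.mpr fun h hh => ?_⟩
    have h1 := Subgroup.mem_centralizer_iff.mp a.2.2 _ (hNH _ (N.inv_mem n.2) h hh)
    rw [inv_inv] at h1
    calc h * ((n : G) * a * (n : G)⁻¹) = (n : G) * ((n : G)⁻¹ * h * n * a) * (n : G)⁻¹ := by group
      _ = (n : G) * (a * ((n : G)⁻¹ * h * n)) * (n : G)⁻¹ := by rw [h1]
      _ = (n : G) * a * (n : G)⁻¹ * h := by group
  let cA : N → A →* A := fun n =>
    MonoidHom.mk' (fun a => ⟨(n : G) * a * (n : G)⁻¹, hNA n a⟩) fun a b => Subtype.ext (by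
      show (n : G) * ((a : G) * b) * (n : G)⁻¹ = (n : G) * a * (n : G)⁻¹ * ((n : G) * b * (n : G)⁻¹)
      group)
  have hcmul : ∀ (m n : N) (a : A), cA (m * n) a = cA m (cA n a) := fun m n a => Subtype.ext (by
    show ((m * n : N) : G) * a * ((m * n : N) : G)⁻¹ = (m : G) * ((n : G) * a * (n : G)⁻¹) * (m : G)⁻¹
    push_cast; group)
  let T := ((S : Subgroup G)).subgroupOf N
  have hcT : ∀ t ∈ T, ∀ z : A, (z : G) ∈ Z → cA t z = z := fun t ht z hz => Subtype.ext (by
    show (t : G) * z * (t : G)⁻¹ = z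
    rw [Subgroup.mem_centralizer_iff.mp hz.2 t ht, mul_inv_cancel_right])
  have := Fintype.ofFinite (N ⧸ T)
  let τ : A →* A := ∏ r : N ⧸ T, cA r.out
  have hτfix : ∀ (n : N) (z : A), (z : G) ∈ Z → cA n (τ z) = τ z := by
    intro n z hz
    simp only [τ, MonoidHom.finsetProd_apply, map_prod]
    refine Fintype.prod_equiv (MulAction.toPerm n) _ _ fun r => ?_
    have h1 : (n * r.out)⁻¹ * (n • r).out ∈ T := by
      rw [← QuotientGroup.eq, QuotientGroup.out_eq']
      conv_rhs => rw [← QuotientGroup.out_eq' r]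
      rfl
    show cA n (cA r.out z) = cA (n • r).out z
    conv_rhs => rw [← mul_inv_cancel_left (n * r.out) (n • r).out]
    rw [hcmul (n * r.out), hcT _ h1 z hz, hcmul]
  have hτW : ∀ z : A, (z : G) ∈ Z → (τ z : G) ∈ W := by
    intro z hz
    have hc : ∀ n ∈ N, (n : G) * (τ z : G) * n⁻¹ = τ z := fun n hn => congrArg Subtype.val (hτfix ⟨n, hn⟩ z hz)
    refine ⟨⟨hHS (τ z).2.1, Subgroup.mem_centralizer_iff.mpr fun s hs => ?_⟩,
      Subgroup.mem_centralizer_iff.mpr fun n hn => ?_⟩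
    · exact mul_inv_eq_iff_eq_mul.mp (hc s (hSN hs))
    · exact mul_inv_eq_iff_eq_mul.mp (hc n hn)
  set m := Fintype.card (N ⧸ T)
  have hτpow : ∀ z : A, (z : G) ∈ W → τ z = z ^ m := by
    intro z hz
    simp only [τ, MonoidHom.finsetProd_apply]
    rw [Finset.prod_congr rfl (g := fun _ => z) fun r _ => ?_, Finset.prod_const, Finset.card_univ]
    apply Subtype.ext
    show (r.out : G) * z * (r.out : G)⁻¹ = z
    rw [Subgroup.mem_centralizer_iff.mp hz.2 _ r.out.2, mul_inv_cancel_right]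
  have hA : IsPGroup p A := S.2.to_le (inf_le_left.trans hHS)
  have hcop : (Nat.card A).Coprime m := by
    obtain ⟨e, he⟩ := IsPGroup.iff_card.mp hA
    have hm : m = (S : Subgroup G).relIndex N := by
      show Fintype.card (N ⧸ T) = _
      rw [← Nat.card_eq_fintype_card, ← Subgroup.index_eq_card]; rfl
    rw [he, hm]
    refine ((Nat.Prime.coprime_iff_not_dvd Fact.out).mpr fun h => S.not_dvd_index ?_).pow_left e
    exact h.trans (Subgroup.relIndex_dvd_index_of_le hSN)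
  let K : Subgroup G := (τ.ker ⊓ Z.subgroupOf A).map A.subtype
  refine ⟨W, K, hWiff, ?_, ?_, ?_⟩
  · rintro _ ⟨z, ⟨_, hz⟩, rfl⟩
    exact hz
  · rw [eq_bot_iff]
    rintro _ ⟨hw, z, ⟨hz1, _⟩, rfl⟩
    rw [Subgroup.mem_bot]
    have h1 : z ^ m = 1 := (hτpow z hw).symm.trans hz1
    have : z = 1 := (powCoprime hcop).injective (show z ^ m = (1 : A) ^ m by rw [h1, one_pow])
    rw [this]; rfl
  · refine le_antisymm (sup_le inf_le_left ?_) fun z hz => ?_
    · rintro _ ⟨z, ⟨_, hz⟩, rfl⟩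
      exact hz
    let za : A := ⟨z, hZA hz⟩
    obtain ⟨w, hw⟩ := (powCoprime hcop).surjective (τ za)
    have hw : w ^ m = τ za := hw
    have hwW : (w : G) ∈ W := by
      have h1 : τ za ∈ W.subgroupOf A := hτW za hz
      obtain ⟨j, hj⟩ := exists_pow_eq_self_of_coprime (n := m)
        (hcop.symm.coprime_dvd_right (orderOf_dvd_natCard w))
      rw [hw] at hj
      exact hj ▸ (W.subgroupOf A).pow_mem h1 j
    have hk : w⁻¹ * za ∈ τ.ker ⊓ Z.subgroupOf A := by
      refine ⟨?_, Subgroup.mul_mem _ (Subgroup.inv_mem _ (show w ∈ Z.subgroupOf A from hwW.1)) hz⟩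
      exact MonoidHom.mem_ker.mpr (by rw [map_mul, map_inv, hτpow w hwW, hw, inv_mul_cancel])
    have : z = (w : G) * ((w⁻¹ * za : A) : G) := by
      rw [← Subgroup.coe_mul, mul_inv_cancel_left]
    rw [this]
    exact Subgroup.mul_mem _ (Subgroup.mem_sup_left hwW) (Subgroup.mem_sup_right ⟨_, hk, rfl⟩)

end Cfsg.Agent.S1944
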