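import Cfsg.Statements.S1948
import Cfsg.Agent.Lib.PCore.Constrained

set_option autoImplicit false
open Cfsg

namespace Cfsg.Agent.S1948

/-- Let S be a Sylow p-subgroup of the finite group G. Then G = N_G(S)·O_{p'}(G) if and only if G is p-constrained and N_G(S) controls fusion in S, in the sense that whenever a subgroup Q of S has a conjugate g Q g⁻¹ inside S, the element g is a product n c with n normalizing S and c centralizing Q. -/
theorem result {G : Type*} [Group G] [Finite G] {p : ℕ} [Fact p.Prime] (S : Sylow p G) :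
    Subgroup.normalizer ((S : Subgroup G) : Set G) ⊔ Cfsg.pPrimeCore p G = ⊤ ↔
      (Cfsg.IsPConstrained p G ∧
        ∀ Q : Subgroup G, Q ≤ (S : Subgroup G) → ∀ g : G, Q.map (MulAut.conj g).toMonoidHom ≤ (S : Subgroup G) →
          ∃ n ∈ Subgroup.normalizer ((S : Subgroup G) : Set G), ∃ c ∈ Subgroup.centralizer (Q : Set G), g = n * c) := by
  set N := pPrimeCore p G with hN
  set π := QuotientGroup.mk' N with hπ
  haveI hNn : N.Normal := PCore.pPrimeCore_normal
  have hsurj : Function.Surjective π := QuotientGroup.mk'_surjective N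
  let T : Sylow p (G ⧸ N) := S.mapSurjective hsurj
  have hT : (T : Subgroup (G ⧸ N)) = (S : Subgroup G).map π := rfl
  constructor
  · intro h
    have hTn : (T : Subgroup (G ⧸ N)).Normal := by
      rw [← Subgroup.normalizer_eq_top_iff, eq_top_iff]
      calc (⊤ : Subgroup (G ⧸ N))
          = (Subgroup.normalizer ((S : Subgroup G) : Set G) ⊔ N).map π := by
            rw [h, Subgroup.map_top_of_surjective π hsurj]
        _ = (Subgroup.normalizer ((S : Subgroup G) : Set G)).map π := by
            rw [Subgroup.map_sup, (Subgroup.map_eq_bot_iff N).mpr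
              (QuotientGroup.ker_mk' N).ge, sup_bot_eq]
        _ ≤ _ := hT ▸ Subgroup.le_normalizer_map π
    refine ⟨PCore.isPConstrained_quotient_iff.mp (PCore.isPConstrained_of_isPSolvable
      (PCore.isPSolvable_of_normal (T : Subgroup (G ⧸ N)) (PCore.isPSolvable_of_isPGroup T.2)
        (PCore.isPSolvable_of_coprime ?_))), ?_⟩
    · rw [← Subgroup.index_eq_card]
      exact ((Nat.Prime.coprime_iff_not_dvd Fact.out).mpr T.not_dvd_index).symm
    · intro Q hQ g hg
      have hmem : g ∈ Subgroup.normalizer ((S : Subgroup G) : Set G) ⊔ N := h ▸ Subgroup.mem_top g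
      obtain ⟨n, hn, m, hm, rfl⟩ := (Coprime.mem_sup_iff_of_le_normalizer
        (le_top.trans_eq (Subgroup.normalizer_eq_top_iff.mpr hNn).symm)).mp hmem
      refine ⟨n, hn, m, Subgroup.mem_centralizer_iff.mpr fun q hq => ?_, rfl⟩
      have h1 : n * (m * q * m⁻¹) * n⁻¹ ∈ (S : Subgroup G) :=
        hg ⟨q, hq, by simp [mul_assoc]⟩
      have h2 : m * q * m⁻¹ ∈ (S : Subgroup G) :=
        (Subgroup.mem_normalizer_iff.mp hn _).mpr h1
      have h3 : m * q * m⁻¹ * q⁻¹ ∈ N := by
        have := mul_mem hm (hNn.conj_mem _ (inv_mem hm) q)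
        simpa [mul_assoc] using this
      have h4 : m * q * m⁻¹ * q⁻¹ = 1 :=
        Subgroup.disjoint_def.mp (PCore.disjoint_of_isPGroup_of_coprime S.2
          PCore.coprime_card_pPrimeCore) (mul_mem h2 (inv_mem (hQ hq))) h3
      rw [mul_inv_eq_one, mul_inv_eq_iff_eq_mul] at h4
      exact h4.symm
  · rintro ⟨hc, hfus⟩
    have hcent : Subgroup.centralizer (pCore p (G ⧸ N) : Set (G ⧸ N)) ≤ pCore p (G ⧸ N) :=
      PCore.isPConstrained_iff.mp hc
    set O := pCore p (G ⧸ N) with hO
    have hOS : O ≤ (S : Subgroup G).map π := hT ▸ PCore.pCore_le_sylow T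
    set Q : Subgroup G := (S : Subgroup G) ⊓ O.comap π with hQ
    have hQO : Q.map π = O := by
      refine le_antisymm ((Subgroup.map_mono inf_le_right).trans (Subgroup.map_comap_le _ _))
        fun y hy => ?_
      obtain ⟨s, hs, rfl⟩ := hOS hy
      exact ⟨s, ⟨hs, hy⟩, rfl⟩
    have hSN : (S : Subgroup G).map π ≤
        (Subgroup.normalizer ((S : Subgroup G) : Set G)).map π :=
      Subgroup.map_mono Subgroup.le_normalizer
    have htop : (Subgroup.normalizer ((S : Subgroup G) : Set G)).map π = ⊤ := by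
      rw [eq_top_iff]
      intro y _
      have hy : y ∈ (Subgroup.normalizer (Q : Set G)).map π := by
        rw [PCore.map_normalizer_mk' N PCore.coprime_card_pPrimeCore (S.2.to_le inf_le_left), hQO,
          Subgroup.normalizer_eq_top_iff.mpr PCore.pCore_normal]
        trivial
      obtain ⟨x, hx, rfl⟩ := hy
      obtain ⟨n, hn, c, hc', rfl⟩ := hfus Q inf_le_left x (by
        rintro _ ⟨q, hq, rfl⟩
        exact ((Subgroup.mem_normalizer_iff.mp hx q).mp hq).1)
      have hcO : π c ∈ O := by
        refine hcent (Subgroup.mem_centralizer_iff.mpr ?_)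
        rw [← hQO]
        rintro _ ⟨q, hq, rfl⟩
        rw [← map_mul, ← map_mul, Subgroup.mem_centralizer_iff.mp hc' q hq]
      rw [map_mul]
      exact mul_mem ⟨n, hn, rfl⟩ (hSN (hOS hcO))
    have := congrArg (Subgroup.comap π) htop
    rwa [Subgroup.comap_map_eq, QuotientGroup.ker_mk', Subgroup.comap_top] at this

end Cfsg.Agent.S1948
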