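import Cfsg.Statements.S1949
import Cfsg.Agent.Lib.Fusion.SmallElements
import Cfsg.Agent.Lib.LocalStructure.PClosed

set_option autoImplicit false
open Cfsg

namespace Cfsg.Agent.S1949

open scoped commutatorElement

/-- Detection on a subgroup invariant under the automorphism. -/
theorem fix_of_centralizer {P : Type*} [Group P] [Finite P] {p : ℕ} [Fact p.Prime] (hP : IsPGroup p P)
    (R H : Subgroup P) (hHR : H ≤ R) (hHn : R ≤ Subgroup.normalizer (H : Set P))
    (hC : ∀ x ∈ R, x ∈ Subgroup.centralizer (H : Set P) → x ∈ H)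
    (φ : MulAut P) (hR : ∀ x ∈ R, φ x ∈ R) (hR' : ∀ x ∈ R, φ⁻¹ x ∈ R) (hco : (orderOf φ).Coprime p)
    (hfix : ∀ h ∈ H, φ h = h) : ∀ x ∈ R, φ x = x := by
  let β : MulAut R :=
    { toFun := fun x => ⟨φ x, hR x x.2⟩
      invFun := fun x => ⟨φ⁻¹ x, hR' x x.2⟩
      left_inv := fun x => Subtype.ext (MulAut.inv_apply_self P φ x)
      right_inv := fun x => Subtype.ext (MulAut.apply_inv_self P φ x)
      map_mul' := fun x y => Subtype.ext (map_mul φ _ _) }
  have key : ∀ (m : ℕ) (x : R), ((β ^ m) x : P) = (φ ^ m) (x : P) := by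
    intro m
    induction m with
    | zero => simp
    | succ m ih => intro x; rw [pow_succ', pow_succ', MulAut.mul_apply, MulAut.mul_apply, ← ih x]; rfl
  have hβco : (orderOf β).Coprime p := by
    refine hco.coprime_dvd_left (orderOf_dvd_of_pow_eq_one (MulEquiv.ext fun x => Subtype.ext ?_))
    rw [key, pow_orderOf_eq_one]
    rfl
  haveI : (H.subgroupOf R).Normal := ⟨fun a ha w => by
    simpa [Subgroup.mem_subgroupOf] using (Subgroup.mem_normalizer_iff.1 (hHn w.2) _).1 ha⟩
  have hcent : Subgroup.centralizer ((H.subgroupOf R : Subgroup R) : Set R) ≤ H.subgroupOf R := by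
    intro x hx
    refine Subgroup.mem_subgroupOf.2 (hC x x.2 (Subgroup.mem_centralizer_iff.2 fun h hh => ?_))
    exact congrArg Subtype.val (Subgroup.mem_centralizer_iff.1 hx ⟨h, hHR hh⟩ hh)
  have hβ := PGroup.aut_eq_one_of_centralizer_le (hP.to_subgroup R) (H.subgroupOf R) hcent β hβco
    (fun h hh => Subtype.ext (hfix h hh))
  intro x hx
  exact congrArg (fun γ : MulAut R => ((γ ⟨x, hx⟩ : R) : P)) hβ

/-- Let P be a finite p-group and G a group of automorphisms of P containing the inner automorphisms. Then there is a G-invariant subgroup D of P, contained in the subgroup generated by the elements x⁻¹α(x) with x in P and α in O^p(G), of exponent dividing p when p is odd and dividing 4 when p = 2, with [D, P] ≤ Z(D), such that every automorphism in G of order prime to p that fixes D elementwise is the identity; moreover every maximal abelian subgroup A of D is normal in P and every automorphism in G fixing A elementwise has p-power order. -/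
theorem result {P : Type*} [Group P] [Finite P] {p : ℕ} [Fact p.Prime] (hP : IsPGroup p P)
    (G : Subgroup (MulAut P)) (hG : Cfsg.Inn P ≤ G) :
    ∃ D : Subgroup P,
      (∀ α ∈ G, D.map α.toMonoidHom = D) ∧
      D ≤ Subgroup.closure {y : P | ∃ α ∈ Cfsg.pResidual p ↥G, ∃ x : P, y = x⁻¹ * (α : MulAut P) x} ∧
      (∀ d ∈ D, d ^ p = 1 ∨ (p = 2 ∧ d ^ 4 = 1)) ∧
      ⁅D, (⊤ : Subgroup P)⁆ ≤ D ⊓ Subgroup.centralizer (D : Set P) ∧
      (∀ α ∈ G, (orderOf α).Coprime p → (∀ d ∈ D, α d = d) → α = 1) ∧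
      ∀ A : Subgroup P, A ≤ D → IsMulCommutative ↥A →
        (∀ B : Subgroup P, A ≤ B → B ≤ D → IsMulCommutative ↥B → B = A) →
        A.Normal ∧ ∀ α ∈ G, (∀ a ∈ A, α a = a) → ∃ k : ℕ, orderOf α = p ^ k := by
  classical
  set O := Cfsg.pResidual p ↥G with hO
  set R : Subgroup P := Subgroup.closure {y : P | ∃ α ∈ O, ∃ x : P, y = x⁻¹ * (α : MulAut P) x} with hRdef
  let Inv : Subgroup P → Prop := fun K => ∀ α ∈ G, ∀ x ∈ K, α x ∈ K
  have hInner : ∀ K, Inv K → ∀ x ∈ K, ∀ g : P, g * x * g⁻¹ ∈ K := fun K hK x hx g =>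
    hK _ (hG ⟨g, rfl⟩) x hx
  have hInvR : Inv R := by
    intro γ hγ x hx
    haveI : O.Normal := LocalStructure.pResidual_normal p ↥G
    have : R ≤ R.comap γ.toMonoidHom := by
      rw [hRdef, Subgroup.closure_le]
      rintro _ ⟨α, hα, x, rfl⟩
      refine Subgroup.subset_closure ⟨⟨γ, hγ⟩ * α * ⟨γ, hγ⟩⁻¹, Subgroup.Normal.conj_mem inferInstance α hα _,
        γ x, ?_⟩
      show γ (x⁻¹ * (α : MulAut P) x) = (γ x)⁻¹ * (γ * (α : MulAut P) * γ⁻¹) (γ x)
      rw [map_mul, map_inv, MulAut.mul_apply, MulAut.mul_apply, MulAut.inv_apply_self]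
    exact this hx
  have hInvCent : ∀ K, Inv K → Inv (Subgroup.centralizer (K : Set P)) := by
    intro K hK α hα x hx
    rw [Subgroup.mem_centralizer_iff] at hx ⊢
    intro k hk
    have h1 := congrArg α (hx (α⁻¹ k) (hK _ (inv_mem hα) k hk))
    rwa [map_mul, map_mul, MulAut.apply_inv_self] at h1
  have hInvInf : ∀ K L, Inv K → Inv L → Inv (K ⊓ L) := fun K L hK hL α hα x hx =>
    ⟨hK α hα x hx.1, hL α hα x hx.2⟩
  have hInvNormal : ∀ K, Inv K → K.Normal := fun K hK => ⟨hInner K hK⟩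
  -- a maximal invariant abelian subgroup of `R`
  obtain ⟨A, hAmax⟩ := (Set.toFinite {A : Subgroup P | A ≤ R ∧ Inv A ∧ ∀ a ∈ A, ∀ b ∈ A, a * b = b * a}).exists_maximal
    ⟨⊥, bot_le, fun α _ x hx => by rw [Subgroup.mem_bot.1 hx, map_one]; exact one_mem _,
      fun a ha b hb => by rw [Subgroup.mem_bot.1 ha, Subgroup.mem_bot.1 hb]⟩
  obtain ⟨⟨hAR, hInvA, hAc⟩, hAmax⟩ := hAmax
  haveI hAn : A.Normal := hInvNormal A hInvA
  let π := QuotientGroup.mk' A
  let S₀ : Subgroup (P ⧸ A) :=
    { carrier := {z | z ∈ Subgroup.center (P ⧸ A) ∧ z ^ p = 1}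
      one_mem' := ⟨one_mem _, one_pow _⟩
      mul_mem' := fun {a b} ha hb => ⟨mul_mem ha.1 hb.1, by
        rw [(Commute.mul_pow (Subgroup.mem_center_iff.1 ha.1 b).symm p), ha.2, hb.2, one_mul]⟩
      inv_mem' := fun {a} ha => ⟨inv_mem ha.1, by rw [inv_pow, ha.2, inv_one]⟩ }
  set C : Subgroup P := R ⊓ Subgroup.centralizer (A : Set P) ⊓ S₀.comap π with hCdef
  have hAC : A ≤ C := fun a ha => by
    refine ⟨⟨hAR ha, Subgroup.mem_centralizer_iff.2 fun b hb => hAc b hb a ha⟩, ?_⟩
    show π a ∈ S₀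
    rw [show π a = 1 from (QuotientGroup.eq_one_iff a).2 ha]
    exact one_mem S₀
  have hCR : C ≤ R := inf_le_left.trans inf_le_left
  have hCA : ∀ x ∈ C, ∀ a ∈ A, a * x = x * a := fun x hx a ha =>
    Subgroup.mem_centralizer_iff.1 hx.1.2 a ha
  have hCcomm : ∀ x ∈ C, ∀ g : P, ⁅x, g⁆ ∈ A := fun x hx g => by
    rw [← QuotientGroup.eq_one_iff]
    show π ⁅x, g⁆ = 1
    rw [map_commutatorElement, commutatorElement_eq_one_iff_mul_comm]
    exact (Subgroup.mem_center_iff.1 hx.2.1 (π g)).symm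
  have hCpow : ∀ x ∈ C, x ^ p ∈ A := fun x hx => by
    rw [← QuotientGroup.eq_one_iff]
    show π (x ^ p) = 1
    rw [map_pow]
    exact hx.2.2
  have hInvC : Inv C := by
    intro α hα x hx
    refine ⟨hInvInf _ _ hInvR (hInvCent A hInvA) α hα x hx.1, ?_, ?_⟩
    · rw [Subgroup.mem_center_iff]
      intro z
      obtain ⟨g, rfl⟩ := QuotientGroup.mk'_surjective A z
      have h1 : α ⁅x, α⁻¹ g⁆ ∈ A := hInvA α hα _ (hCcomm x hx _)
      rw [map_commutatorElement, MulAut.apply_inv_self] at h1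
      show π g * π (α x) = π (α x) * π g
      symm
      rw [← commutatorElement_eq_one_iff_mul_comm, ← map_commutatorElement]
      exact (QuotientGroup.eq_one_iff _).2 h1
    · show π (α x) ^ p = 1
      rw [← map_pow, ← map_pow]
      exact (QuotientGroup.eq_one_iff _).2 (hInvA α hα _ (hCpow x hx))
  haveI hCn : C.Normal := hInvNormal C hInvC
  have hself : ∀ x ∈ R, x ∈ Subgroup.centralizer (C : Set P) → x ∈ C := by
    set K := R ⊓ Subgroup.centralizer (C : Set P) with hK
    have hInvK : Inv K := hInvInf _ _ hInvR (hInvCent C hInvC)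
    have hKC : C ⊓ K = A ⊓ K := by
      refine le_antisymm (le_inf ?_ inf_le_right) (inf_le_inf_right _ hAC)
      have hmem : A ⊔ (C ⊓ K) ∈ {A : Subgroup P | A ≤ R ∧ Inv A ∧ ∀ a ∈ A, ∀ b ∈ A, a * b = b * a} := by
        refine ⟨sup_le hAR (inf_le_left.trans hCR), fun α hα x hx => ?_, ?_⟩
        · obtain ⟨a, ha, b, hb, rfl⟩ := Subgroup.mem_sup_of_normal_left.1 hx
          rw [map_mul]
          exact Subgroup.mul_mem_sup (hInvA α hα a ha) (hInvInf _ _ hInvC hInvK α hα b hb)
        · intro u hu v hv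
          obtain ⟨a, ha, b, hb, rfl⟩ := Subgroup.mem_sup_of_normal_left.1 hu
          obtain ⟨a', ha', b', hb', rfl⟩ := Subgroup.mem_sup_of_normal_left.1 hv
          have hab' : Commute a b' := hCA b' hb'.1 a ha
          have hba' : Commute b a' := (hCA b hb.1 a' ha').symm
          have hbb' : Commute b b' := (Subgroup.mem_centralizer_iff.1 hb'.2.2 b hb.1)
          exact ((show Commute a a' from hAc a ha a' ha').mul_right hab').mul_left (hba'.mul_right hbb')
      exact le_sup_right.trans (hAmax hmem le_sup_left)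
    intro x hxR hxC
    by_contra hx
    haveI : K.Normal := hInvNormal K hInvK
    have hne : K.map π ≠ ⊥ := by
      intro h0
      rw [Subgroup.map_eq_bot_iff, QuotientGroup.ker_mk'] at h0
      exact hx (hAC (h0 ⟨hxR, hxC⟩))
    haveI : (K.map π).Normal := Subgroup.Normal.map inferInstance π (QuotientGroup.mk'_surjective A)
    obtain ⟨z, ⟨k, hk, rfl⟩, hzc, hzo⟩ := PGroup.exists_orderOf_eq_mem_center (hP.to_quotient A) (K.map π) hne
    have hkC : k ∈ C := by
      refine ⟨⟨hk.1, ?_⟩, hzc, ?_⟩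
      · exact Subgroup.centralizer_le hAC hk.2
      · rw [← hzo]; exact pow_orderOf_eq_one _
    have hkA : k ∈ A := (hKC ▸ (⟨hkC, hk⟩ : k ∈ C ⊓ K) : k ∈ A ⊓ K).1
    rw [show π k = 1 from (QuotientGroup.eq_one_iff k).2 hkA, orderOf_one] at hzo
    exact (Fact.out : p.Prime).ne_one hzo.symm
  -- the small elements
  have hclc : ∀ x y : C, ⁅y, x⁆ ∈ Subgroup.center C := fun x y => Subgroup.mem_center_iff.2 fun c =>
    Subtype.ext (hCA c c.2 _ (hCcomm y y.2 x)).symm
  have hpowc : ∀ x : C, x ^ p ∈ Subgroup.center C := fun x => Subgroup.mem_center_iff.2 fun c =>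
    Subtype.ext (hCA c c.2 _ (hCpow x x.2)).symm
  have hcp : ∀ x y : C, ⁅y, x⁆ ^ p = 1 := fun x y => by
    rw [← PGroup.commutator_pow_left (hclc x y), commutatorElement_eq_one_iff_mul_comm]
    exact (Subgroup.mem_center_iff.1 (hpowc y) x).symm
  have hp := (Fact.out : p.Prime)
  have hce : ∀ x y : C, ⁅y, x⁆ ^ (Fusion.Small.smallExp p).choose 2 = 1 := fun x y => by
    unfold Fusion.Small.smallExp
    split_ifs with h2
    · subst h2
      rw [show (4 : ℕ).choose 2 = 2 * 3 from rfl, pow_mul, hcp, one_pow]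
    · obtain ⟨k, hk⟩ := PGroup.dvd_choose_two hp h2
      rw [hk, pow_mul, hcp, one_pow]
  let D₀ : Subgroup C :=
    { carrier := {x | x ^ Fusion.Small.smallExp p = 1}
      one_mem' := one_pow _
      mul_mem' := fun {x y} (hx : x ^ _ = 1) (hy : y ^ _ = 1) => by
        show (x * y) ^ _ = 1
        rw [PGroup.mul_pow_of_central (hclc x y), hx, hy, hce, one_mul, one_mul]
      inv_mem' := fun {x} (hx : x ^ _ = 1) => by
        show x⁻¹ ^ _ = 1
        rw [inv_pow, hx, inv_one] }
  set D := D₀.map C.subtype with hDdef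
  have hDC : D ≤ C := Subgroup.map_subtype_le _
  have hInvD : Inv D := by
    rintro α hα _ ⟨x, hx, rfl⟩
    refine ⟨⟨α x, hInvC α hα x x.2⟩, ?_, rfl⟩
    refine Subtype.ext ?_
    show (α (x : P)) ^ _ = 1
    rw [← map_pow, show (x : P) ^ Fusion.Small.smallExp p = 1 from congrArg Subtype.val hx, map_one]
  haveI hDn : D.Normal := hInvNormal D hInvD
  have hDP : ∀ d ∈ D, ∀ g : P, ⁅d, g⁆ ∈ D ∧ ∀ e ∈ D, e * ⁅d, g⁆ = ⁅d, g⁆ * e := fun d hd g => by
    refine ⟨?_, fun e he => (hCA e (hDC he) _ (hCcomm d (hDC hd) g)).symm⟩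
    have e : ⁅d, g⁆ = d * (g * d⁻¹ * g⁻¹) := by rw [commutatorElement_def]; group
    rw [e]
    exact mul_mem hd (hInner D hInvD _ (inv_mem hd) g)
  have hdetect : ∀ φ ∈ G, (orderOf φ).Coprime p → (∀ d ∈ D, φ d = d) → φ = 1 := by
    intro φ hφ hco hfix
    have hC : ∀ (k : ℕ) (x : C), x ^ p ^ k = 1 → φ x = x := by
      intro k
      induction k with
      | zero =>
        intro x hx
        rw [pow_zero, pow_one] at hx
        rw [hx]
        exact map_one φ
      | succ k ih =>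
        intro x hx
        rw [pow_succ', pow_mul] at hx
        have hxp := ih (x ^ p) hx
        set y : C := x⁻¹ * ⟨φ x, hInvC φ hφ x x.2⟩ with hy
        have hmul : (x * y) ^ p = x ^ p := by
          rw [hy, mul_inv_cancel_left]
          apply Subtype.ext
          show (φ (x : P)) ^ p = (x : P) ^ p
          rw [← map_pow]
          exact hxp
        rw [PGroup.mul_pow_of_central (hclc x y), mul_assoc, mul_eq_left] at hmul
        have hyD : y ∈ D₀ := by
          show y ^ Fusion.Small.smallExp p = 1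
          unfold Fusion.Small.smallExp
          split_ifs with h2
          · subst h2
            rw [Nat.choose_self, pow_one] at hmul
            rw [show 4 = 2 * 2 from rfl, pow_mul, eq_inv_of_mul_eq_one_left hmul, inv_pow, hcp, inv_one]
          · obtain ⟨m, hm⟩ := PGroup.dvd_choose_two hp h2
            rw [hm, pow_mul, hcp, one_pow, mul_one] at hmul
            exact hmul
        exact Fusion.eq_self_of_translate hP hco (hfix _ ⟨y, hyD, rfl⟩)
    have hfixR := fix_of_centralizer hP R C hCR (by rw [Subgroup.normalizer_eq_top_iff.2 hCn]; exact le_top) hself φ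
      (fun x hx => hInvR φ hφ x hx) (fun x hx => hInvR φ⁻¹ (inv_mem hφ) x hx) hco (fun h hh => by
        obtain ⟨k, hk⟩ := (hP.to_subgroup C) ⟨h, hh⟩
        exact hC k ⟨h, hh⟩ hk)
    refine MulEquiv.ext fun x => ?_
    have hmem : (⟨φ, hφ⟩ : G) ∈ O := LocalStructure.mem_pResidual (by rwa [← Subgroup.orderOf_coe])
    exact Fusion.eq_self_of_translate hP hco (hfixR _ (Subgroup.subset_closure ⟨⟨φ, hφ⟩, hmem, x, rfl⟩))
  refine ⟨D, fun α hα => ?_, hDC.trans hCR, ?_, ?_, hdetect, ?_⟩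
  · refine le_antisymm ?_ fun x hx => ⟨α⁻¹ x, hInvD α⁻¹ (inv_mem hα) x hx, MulAut.apply_inv_self P α x⟩
    rintro _ ⟨x, hx, rfl⟩
    exact hInvD α hα x hx
  · rintro _ ⟨x, hx, rfl⟩
    exact Fusion.Small.pow_smallExp_cases (congrArg Subtype.val (show x ^ _ = 1 from hx))
  · rw [Subgroup.commutator_le]
    exact fun d hd g _ => ⟨(hDP d hd g).1, Subgroup.mem_centralizer_iff.2 (hDP d hd g).2⟩
  intro B hBD hB hBmax
  have hBc : ∀ a ∈ B, ∀ b ∈ B, a * b = b * a := fun a ha b hb =>
    congrArg Subtype.val (hB.is_comm.comm ⟨a, ha⟩ ⟨b, hb⟩)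
  have hBself : ∀ x ∈ D, x ∈ Subgroup.centralizer (B : Set P) → x ∈ B := by
    intro x hxD hxc
    have hle : B ⊔ Subgroup.zpowers x ≤ D := sup_le hBD (Subgroup.zpowers_le.2 hxD)
    have hcomm : IsMulCommutative ↥(B ⊔ Subgroup.zpowers x) := by
      rw [Subgroup.zpowers_eq_closure, ← Subgroup.closure_eq B, ← Subgroup.closure_union]
      refine Subgroup.isMulCommutative_closure ?_
      rintro a (ha | rfl) b (hb | rfl)
      · exact hBc a ha b hb
      · exact Subgroup.mem_centralizer_iff.1 hxc a ha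
      · exact (Subgroup.mem_centralizer_iff.1 hxc b hb).symm
      · rfl
    have := hBmax _ le_sup_left hle hcomm
    exact this ▸ Subgroup.mem_sup_right (Subgroup.mem_zpowers x)
  have hBn : B.Normal := ⟨fun a ha g => by
    have h1 : ⁅a, g⁆ ∈ B := hBself _ (hDP a (hBD ha) g).1
      (Subgroup.mem_centralizer_iff.2 fun b hb => (hDP a (hBD ha) g).2 b (hBD hb))
    have e : g * a * g⁻¹ = (⁅a, g⁆⁻¹) * a := by rw [commutatorElement_def]; group
    rw [e]
    exact mul_mem (inv_mem h1) ha⟩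
  refine ⟨hBn, fun α hα hfix => ?_⟩
  haveI : Finite (MulAut P) := Finite.of_injective (fun e : MulAut P => (e : P → P)) DFunLike.coe_injective
  obtain ⟨a, m, hm, hn⟩ := Nat.exists_eq_pow_mul_and_not_dvd (orderOf_pos α).ne' p hp.ne_one
  set β := α ^ p ^ a with hβ
  have hβo : orderOf β = m := by
    rw [hβ, orderOf_pow, hn, Nat.gcd_mul_right_left, Nat.mul_div_cancel_left _ (pow_pos hp.pos a)]
  have hfixk : ∀ k : ℕ, ∀ b ∈ B, (α ^ k) b = b := by
    intro k
    induction k with
    | zero => intro b _; rfl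
    | succ k ih => intro b hb; rw [pow_succ', MulAut.mul_apply, ih b hb, hfix b hb]
  have hβG : β ∈ G := pow_mem hα _
  have hco : (orderOf β).Coprime p := by rw [hβo]; exact ((hp.coprime_iff_not_dvd).2 hm).symm
  have hβD := fix_of_centralizer hP D B hBD (by rw [Subgroup.normalizer_eq_top_iff.2 hBn]; exact le_top) hBself β
    (fun x hx => hInvD β hβG x hx) (fun x hx => hInvD β⁻¹ (inv_mem hβG) x hx) hco (fun h hh => hfixk _ h hh)
  have hβ1 := hdetect β hβG hco hβD
  refine ⟨a, ?_⟩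
  rw [hβ1, orderOf_one] at hβo
  rw [hn, ← hβo, mul_one]

end Cfsg.Agent.S1949
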