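import Cfsg.Statements.S1950
import Cfsg.Agent.Lib.CyclicSylow.PairSimple
import Cfsg.Agent.Lib.Coprime.Lift
import Cfsg.Agent.Lib.Solvable.Basic

/-!
# S1950: cyclic Sylow subgroups, p-solvability from pairs of elements of order p
-/

set_option autoImplicit false
set_option linter.style.haveILetI false
open Cfsg

namespace Cfsg.Agent.S1950

open Subgroup

universe u

theorem step {G : Type u} [Group G] [Finite G] {p : ℕ} [hp : Fact p.Prime]
    (N : Subgroup G) [N.Normal] {z : G} (hcyc : CyclicSylow.CycSyl p G) (hN : IsPGroup p N)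
    (hzN : z ∈ N) (hz : orderOf z = p) : IsPSolvable p G := by
  set C := centralizer ({z} : Set G) with hC
  haveI hCn : C.Normal := by
    refine ⟨fun c hc g => mem_centralizer_singleton_iff.2 ?_⟩
    have hm : g⁻¹ * z * g ∈ zpowers z := by
      refine CyclicSylow.mem_zpowers_of_pow_eq_one (hcyc N hN) hz hzN ?_ ?_
      · have := conj_pow (i := p) (a := g⁻¹) (b := z)
        rw [inv_inv] at this
        rw [this, CyclicSylow.pow_eq_one_of_orderOf hz]
        group
      · simpa using (inferInstance : N.Normal).conj_mem z hzN g⁻¹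
    obtain ⟨i, hi⟩ := mem_zpowers_iff.1 hm
    have hcz : Commute c z := mem_centralizer_singleton_iff.1 hc
    have h2 : Commute c (g⁻¹ * z * g) := hi ▸ hcz.zpow_right i
    calc g * c * g⁻¹ * z = g * (c * (g⁻¹ * z * g)) * g⁻¹ := by group
      _ = g * ((g⁻¹ * z * g) * c) * g⁻¹ := by rw [h2.eq]
      _ = z * (g * c * g⁻¹) := by group
  have hz1 : z ≠ 1 := fun h1 => by rw [h1, orderOf_one] at hz; exact hp.out.ne_one hz.symm
  let P : Sylow p G := default
  haveI hPc : IsCyclic (P : Subgroup G) := hcyc _ P.2
  have hzP : z ∈ (P : Subgroup G) := PCore.pCore_le_sylow P (PCore.le_pCore hN hzN)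
  have hPC : (P : Subgroup G) ≤ C := fun y hy => mem_centralizer_singleton_iff.2
    (congrArg Subtype.val ((IsMulCommutative.is_comm (M := (P : Subgroup G))).comm ⟨y, hy⟩ ⟨z, hzP⟩))
  set S := P.subtype hPC
  have hSc : IsCyclic (S : Subgroup C) := hcyc.subgroup C _ S.2
  have hnc : HasNormalPComplement p C := by
    refine Transfer.hasNormalPComplement_of_normalizer_le_centralizer S
      (CyclicSylow.normalizer_le_centralizer_of S hSc fun b hb hbp => ?_)
    refine CyclicSylow.commute_of_fix (z := (⟨z, mem_centralizer_singleton_iff.2 rfl⟩ : C))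
      hSc S.2 hb hbp (show (⟨z, _⟩ : C) ∈ (S : Subgroup C) from hzP)
      (fun he => hz1 (congrArg Subtype.val he)) ?_
    exact Subtype.ext (mem_centralizer_singleton_iff.1 b.2)
  have hCs : IsPSolvable p C := by
    haveI := Transfer.pResidual_normal (G := C) p
    refine PCore.isPSolvable_of_isPGroup_quotient (Cfsg.pResidual p C) ?_
      (Transfer.isPGroup_quotient_pResidual p)
    exact PCore.isPSolvable_of_coprime
      ((Nat.Prime.coprime_iff_not_dvd hp.out).2 (Transfer.hasNormalPComplement_iff.1 hnc)).symm
  refine PCore.isPSolvable_of_normal C hCs (PCore.isPSolvable_of_coprime ?_)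
  rw [← Subgroup.index_eq_card]
  exact ((Nat.Prime.coprime_iff_not_dvd hp.out).2
    fun hd => P.not_dvd_index (hd.trans (index_dvd_of_le hPC))).symm

theorem pairs_subgroup {G : Type u} [Group G] [Finite G] {p : ℕ} [Fact p.Prime]
    (h : ∀ x y : G, orderOf x = p → orderOf y = p → IsPSolvable p (closure ({x, y} : Set G)))
    (K : Subgroup G) (a b : K) (ha : orderOf a = p) (hb : orderOf b = p) :
    IsPSolvable p (closure ({a, b} : Set K)) := by
  have h' := h a b (by rw [orderOf_coe, ha]) (by rw [orderOf_coe, hb])
  have hmap : (closure ({a, b} : Set K)).map K.subtype = closure ({(a : G), (b : G)} : Set G) := by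
    rw [MonoidHom.map_closure, Set.image_pair]
    rfl
  rw [← hmap] at h'
  exact (PCore.isPSolvable_congr
    ((closure ({a, b} : Set K)).equivMapOfInjective K.subtype K.subtype_injective)).2 h'

theorem aux (p : ℕ) [hp : Fact p.Prime] : ∀ n, ∀ (G : Type u) [Group G] [Finite G],
    Nat.card G = n → CyclicSylow.CycSyl p G →
    (∀ x y : G, orderOf x = p → orderOf y = p → IsPSolvable p (closure ({x, y} : Set G))) →
    IsPSolvable p G := by
  intro n
  induction n using Nat.strong_induction_on with
  | _ n ih =>
    intro G _ _ hn hcyc hpairs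
    subst hn
    by_cases hdvd : p ∣ Nat.card G
    swap
    · exact PCore.isPSolvable_of_coprime ((Nat.Prime.coprime_iff_not_dvd hp.out).2 hdvd).symm
    haveI : Nontrivial G := Finite.one_lt_card_iff_nontrivial.1
      (lt_of_lt_of_le hp.out.one_lt (Nat.le_of_dvd Nat.card_pos hdvd))
    by_cases hsimple : IsSimpleGroup G
    · by_cases hab : IsMulCommutative G
      · haveI : Group.IsSolvable G := Group.isSolvable_of_comm hab.is_comm.comm
        exact PCore.isPSolvable_of_isSolvable
      · haveI := hsimple
        haveI := Fintype.ofFinite G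
        exact (CyclicSylow.false_of_simple (P := (default : Sylow p G)) hab
          (hcyc _ (default : Sylow p G).2) hdvd hpairs).elim
    obtain ⟨K, hKn, hK1, hK2⟩ : ∃ K : Subgroup G, K.Normal ∧ K ≠ ⊥ ∧ K ≠ ⊤ := by
      by_contra hno
      push Not at hno
      exact hsimple ⟨fun H hH => or_iff_not_imp_left.2 (hno H hH)⟩
    haveI := hKn
    obtain ⟨N, hNn, hNK, hN1, hmin⟩ := Solvable.exists_minimal_normal (K := K) hK1
    haveI := hNn
    have hlt : Nat.card N < Nat.card G := by
      refine lt_of_le_of_ne (Subgroup.card_le_card_group N) fun he => hK2 ?_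
      rw [Subgroup.card_eq_iff_eq_top] at he
      exact top_le_iff.1 (he ▸ hNK)
    have hNs : IsPSolvable p N :=
      ih _ hlt N rfl (hcyc.subgroup N) (pairs_subgroup hpairs N)
    haveI : Nontrivial N := (Subgroup.nontrivial_iff_ne_bot N).2 hN1
    have hdich : IsPGroup p N ∨ (Nat.card N).Coprime p := by
      rcases PCore.pCore_ne_bot_or_pPrimeCore_ne_bot hNs with h1 | h1
      · left
        rcases hmin _ inferInstance (map_subtype_le (pCore p N)) with h2 | h2
        · exact absurd ((map_eq_bot_iff_of_injective _ N.subtype_injective).mp h2) h1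
        · exact h2 ▸ PCore.isPGroup_pCore.map N.subtype
      · right
        rcases hmin _ inferInstance (map_subtype_le (pPrimeCore p N)) with h2 | h2
        · exact absurd ((map_eq_bot_iff_of_injective _ N.subtype_injective).mp h2) h1
        · exact h2 ▸ PCore.coprime_card_pPrimeCore.coprime_dvd_left (card_map_dvd _ _)
    rcases hdich with hNp | hNc
    · obtain ⟨k, hk⟩ := hNp.exists_card_eq
      have hk0 : k ≠ 0 := fun h0 => by
        have := Finite.one_lt_card (α := N)
        rw [hk, h0, pow_zero] at this
        omega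
      obtain ⟨z, hz⟩ := exists_prime_orderOf_dvd_card' (G := N) p (hk ▸ dvd_pow_self p hk0)
      exact step N hcyc hNp z.2 (by rw [orderOf_coe, hz])
    · refine PCore.isPSolvable_of_normal N hNs (ih _ ?_ (G ⧸ N) rfl (hcyc.quotient N) ?_)
      · rw [← Subgroup.index_eq_card, ← N.card_mul_index]
        exact lt_mul_of_one_lt_left (Nat.pos_of_ne_zero Subgroup.index_ne_zero_of_finite)
          (Finite.one_lt_card_iff_nontrivial.2 ((Subgroup.nontrivial_iff_ne_bot N).2 hN1))
      · intro a b ha hb
        obtain ⟨x, hxa, hx⟩ := Coprime.exists_orderOf_lift N a (ha ▸ hNc.symm)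
        obtain ⟨y, hyb, hy⟩ := Coprime.exists_orderOf_lift N b (hb ▸ hNc.symm)
        have h := hpairs x y (hx.trans ha) (hy.trans hb)
        have hmap : (closure ({x, y} : Set G)).map (QuotientGroup.mk' N) =
            closure ({a, b} : Set (G ⧸ N)) := by
          rw [MonoidHom.map_closure, Set.image_pair, ← hxa, ← hyb]
          rfl
        rw [← hmap]
        exact PCore.isPSolvable_of_surjective _
          ((QuotientGroup.mk' N).subgroupMap_surjective (closure ({x, y} : Set G))) h

/-- Let G be a finite group whose Sylow p-subgroups are cyclic. Then G is p-solvable if and only if every two elements of order p of G generate a p-solvable subgroup. -/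
theorem result {G : Type*} [Group G] [Finite G] {p : ℕ} [Fact p.Prime] (P : Sylow p G) (hP : IsCyclic ↥(P : Subgroup G)) :
    Cfsg.IsPSolvable p G ↔ ∀ x y : G, orderOf x = p → orderOf y = p → Cfsg.IsPSolvable p ↥(Subgroup.closure ({x, y} : Set G)) :=
  ⟨fun h _ _ _ _ => PCore.isPSolvable_subgroup h _,
    fun h => aux p _ G rfl (CyclicSylow.CycSyl.of_sylow P hP) h⟩

end Cfsg.Agent.S1950
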