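import Cfsg.Statements.S1952
import Mathlib
-- import your own Cfsg.Agent.* helpers here

set_option autoImplicit false
open Cfsg

namespace Cfsg.Agent.S1952

open Polynomial in
theorem geom_eq_pow (p : ℕ) [hp : Fact p.Prime] :
    ((X : (ZMod p)[X]) - 1) ^ (p - 1) = ∑ i ∈ Finset.range p, X ^ i := by
  have h1 : (X : (ZMod p)[X]) - 1 ≠ 0 := by
    rw [← C_1]; exact X_sub_C_ne_zero 1
  refine mul_right_cancel₀ h1 ?_
  rw [geom_sum_mul, ← pow_succ, Nat.sub_add_cancel hp.out.one_le, sub_pow_char, one_pow]

/-- A nilpotent operator which is not trivial modulo `K` in degree `p - 1` makes `K` have index at least `p ^ p`. -/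
theorem card_ge {p : ℕ} [hp : Fact p.Prime] {V : Type*} [AddCommGroup V] [Module (ZMod p) V] [Finite V]
    (d : Module.End (ZMod p) V) (K : Submodule (ZMod p) V) (hK : ∀ v ∈ K, d v ∈ K) (hd : d ^ p = 0)
    (w : V) (hw : (d ^ (p - 1)) w ∉ K) : Nat.card K * p ^ p ≤ Nat.card V := by
  let R : ℕ → Submodule (ZMod p) V := fun i => LinearMap.range (d ^ i) ⊔ K
  have hstep : ∀ i, i < p → R (i + 1) < R i := by
    intro i hi
    refine lt_of_le_not_ge (sup_le_sup_right ?_ K) fun hle => hw ?_
    · rintro v ⟨u, rfl⟩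
      exact ⟨d u, by rw [pow_succ]; rfl⟩
    have key : ∀ j, ∀ u, (d ^ i) u ∈ LinearMap.range (d ^ (i + j)) ⊔ K := by
      intro j
      induction j with
      | zero => exact fun u => Submodule.mem_sup_left ⟨u, rfl⟩
      | succ j ih =>
        intro u
        obtain ⟨a, ⟨t, rfl⟩, k, hk, e⟩ := Submodule.mem_sup.1 (ih u)
        have h2 : (d ^ i) t ∈ R (i + 1) := hle (Submodule.mem_sup_left ⟨t, rfl⟩)
        obtain ⟨a', ⟨t', rfl⟩, k', hk', e'⟩ := Submodule.mem_sup.1 h2
        have hKj : ∀ (m : ℕ) (v : V), v ∈ K → (d ^ m) v ∈ K := by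
          intro m
          induction m with
          | zero => exact fun v hv => hv
          | succ m ihm =>
            intro v hv
            rw [pow_succ', Module.End.mul_apply]
            exact hK _ (ihm v hv)
        rw [← e, show (d ^ (i + j)) t = (d ^ j) ((d ^ i) t) by rw [← Module.End.mul_apply, ← pow_add, add_comm],
          ← e', map_add, ← Module.End.mul_apply, ← pow_add, show j + (i + 1) = i + (j + 1) by omega, add_assoc]
        exact Submodule.add_mem _ (Submodule.mem_sup_left ⟨t', rfl⟩)
          (Submodule.mem_sup_right (add_mem (hKj j k' hk') hk))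
    have h3 := key (p - i) ((d ^ (p - 1 - i)) w)
    rw [show i + (p - i) = p by omega, hd, LinearMap.range_zero, bot_sup_eq, ← Module.End.mul_apply, ← pow_add,
      show i + (p - 1 - i) = p - 1 by omega] at h3
    exact h3
  have hrk : ∀ i, i ≤ p → Module.finrank (ZMod p) (R i) + i ≤ Module.finrank (ZMod p) V := by
    intro i hi
    induction i with
    | zero => simpa using Submodule.finrank_le (R 0)
    | succ i ih =>
      have h1 := Submodule.finrank_lt_finrank_of_lt (hstep i (by omega))
      have h2 := ih (by omega)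
      omega
  have h := hrk p le_rfl
  rw [show R p = K by show LinearMap.range (d ^ p) ⊔ K = K; rw [hd, LinearMap.range_zero, bot_sup_eq]] at h
  rw [Module.natCard_eq_pow_finrank (K := ZMod p) (V := K),
    Module.natCard_eq_pow_finrank (K := ZMod p) (V := V), Nat.card_zmod, ← pow_add]
  exact Nat.pow_le_pow_right hp.out.pos h

open Subgroup in
theorem main' {P : Type*} [Group P] [Finite P] {p : ℕ} [hp : Fact p.Prime] (hP : IsPGroup p P)
    (A : Subgroup P) [A.Normal] {A' : Type*} [CommGroup A'] [Finite A'] (ι : A' →* P)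
    (hι : Function.Injective ι) (hrange : ι.range = A) (hA : ∀ a ∈ A, a ^ p = 1)
    (hidx : A.index = p) (x y : P)
    (hx : x ∈ A) (σ : A' →* A') (hσ : ∀ a, ι (σ a) = y⁻¹ * ι a * y)
    (hprod : ((List.range p).map (fun i => (y ^ i)⁻¹ * x * y ^ i)).prod ≠ 1) :
    ∃ (Q : Sylow p (Equiv.Perm (Fin (p ^ 2)))) (f : P →* ↥(Q : Subgroup (Equiv.Perm (Fin (p ^ 2))))),
      Function.Surjective f := by
  classical
  have hιA : ∀ a : A', ι a ∈ A := fun a => hrange ▸ ⟨a, rfl⟩
  have hpA : ∀ a : Additive A', p • a = 0 := fun a => by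
    show Additive.ofMul (a.toMul ^ p) = 0
    rw [show a.toMul ^ p = 1 from hι (by rw [map_pow, hA _ (hιA _), map_one])]
    rfl
  haveI : Module (ZMod p) (Additive A') := AddCommGroup.zmodModule hpA
  let s : Module.End (ZMod p) (Additive A') :=
    AddMonoidHom.toZModLinearMap p (MonoidHom.toAdditive σ)
  have hs : ∀ (i : ℕ) (a : Additive A'), ι ((s ^ i) a).toMul = (y ^ i)⁻¹ * ι a.toMul * y ^ i := by
    intro i
    induction i with
    | zero => intro a; simp
    | succ i ih =>
      intro a
      rw [pow_succ', Module.End.mul_apply]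
      show ι (σ ((s ^ i) a).toMul) = _
      rw [hσ, ih, pow_succ]
      group
  have hsp : s ^ p = 1 := by
    refine LinearMap.ext fun a => Additive.toMul.injective (hι ?_)
    rw [hs, Module.End.one_apply]
    have hyp : y ^ p ∈ A := by
      rw [← hidx, index_eq_card, ← QuotientGroup.eq_one_iff, QuotientGroup.mk_pow]
      exact pow_card_eq_one'
    have e : ι a.toMul * y ^ p = y ^ p * ι a.toMul := by
      obtain ⟨b, hb⟩ : y ^ p ∈ ι.range := hrange.symm ▸ hyp
      rw [← hb, ← map_mul, ← map_mul, mul_comm]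
    rw [mul_assoc, e, inv_mul_cancel_left]
  haveI : CharP (Polynomial (ZMod p)) p := inferInstance
  set d := s - 1 with hd
  have hdp : d ^ p = 0 := by
    have := congrArg (Polynomial.aeval s) (sub_pow_char (Polynomial.X : Polynomial (ZMod p)) 1 (p := p))
    simpa [hsp, ← hd] using this
  have hdN : d ^ (p - 1) = ∑ i ∈ Finset.range p, s ^ i := by
    have := congrArg (Polynomial.aeval s) (geom_eq_pow p)
    simpa [← hd] using this
  -- the product is `d ^ (p-1)` applied to `x`
  obtain ⟨x', hx'⟩ : x ∈ ι.range := hrange.symm ▸ hx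
  set w : Additive A' := Additive.ofMul x' with hw
  have hz : ι ((d ^ (p - 1)) w).toMul ≠ 1 := by
    have h : ∀ n : ℕ, ι (((∑ i ∈ Finset.range n, s ^ i) : Module.End (ZMod p) (Additive A')) w).toMul =
        ((List.range n).map (fun i => (y ^ i)⁻¹ * x * y ^ i)).prod := by
      intro n
      induction n with
      | zero => simp
      | succ n ih =>
        rw [Finset.sum_range_succ, LinearMap.add_apply, toMul_add, map_mul, ih, hs,
          List.range_succ, List.map_append, List.prod_append]
        simp [hw, hx']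
    rw [hdN, h]
    exact hprod
  set v := (d ^ (p - 1)) w with hv
  have hv0 : v ≠ 0 := fun h => hz (by rw [h]; exact map_one ι)
  obtain ⟨f, hf⟩ : ∃ f : Module.Dual (ZMod p) (Additive A'), f v ≠ 0 := by
    by_contra h
    push Not at h
    exact hv0 ((Module.forall_dual_apply_eq_zero_iff (ZMod p) v).1 h)
  let lam : A' →* Multiplicative (ZMod p) :=
    { toFun := fun a => Multiplicative.ofAdd (f (Additive.ofMul a))
      map_one' := by simp
      map_mul' := fun a b => by rw [ofMul_mul, map_add, ofAdd_add] }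
  set L := lam.ker.map ι with hL
  have hLA : L ≤ A := hrange ▸ map_le_range ι _
  have hlam : lam.ker.index = p := by
    rw [index_ker]
    have hs' : Function.Surjective lam := by
      intro b
      refine ⟨((b.toAdd * (f v)⁻¹) • v).toMul, ?_⟩
      show Multiplicative.ofAdd (f ((b.toAdd * (f v)⁻¹) • v)) = b
      rw [map_smul, smul_eq_mul, mul_assoc, inv_mul_cancel₀ hf, mul_one]
      rfl
    rw [MonoidHom.range_eq_top.2 hs', card_top, Nat.card_congr Multiplicative.toAdd, Nat.card_zmod]
  have hLidx : L.index = p ^ 2 := by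
    rw [hL, index_map_of_injective _ hι, hlam, hrange, hidx, pow_two]
  let e : P ⧸ L ≃ Fin (p ^ 2) := (Nat.equivFinOfCardPos (by
    rw [← index_eq_card, hLidx]; exact (pow_pos hp.out.pos 2).ne')).trans (finCongr (by rw [← index_eq_card, hLidx]))
  let g : P →* Equiv.Perm (Fin (p ^ 2)) := e.permCongrHom.toMonoidHom.comp (MulAction.toPermHom P (P ⧸ L))
  have hker : g.ker = L.normalCore := by
    rw [normalCore_eq_ker, MonoidHom.ker_comp_of_injective]
    exact e.permCongrHom.injective
  haveI : g.ker.Normal := inferInstance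
  have hkA : g.ker ≤ A := hker ▸ (L.normalCore_le).trans hLA
  let K : Submodule (ZMod p) (Additive A') :=
    AddSubgroup.toZModSubmodule p (Subgroup.toAddSubgroup (g.ker.comap ι))
  have hKiff : ∀ a : Additive A', a ∈ K ↔ ι a.toMul ∈ g.ker := fun a => Iff.rfl
  have hKd : ∀ a ∈ K, d a ∈ K := by
    intro a ha
    rw [hd, LinearMap.sub_apply, Module.End.one_apply]
    refine sub_mem ?_ ha
    rw [hKiff] at ha ⊢
    have := hs 1 a
    rw [pow_one, pow_one] at this
    rw [this]
    have := (inferInstance : g.ker.Normal).conj_mem _ ha y⁻¹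
    rwa [inv_inv] at this
  have hnot : v ∉ K := by
    intro h
    rw [hKiff, hker] at h
    obtain ⟨a, ha, he⟩ := L.normalCore_le h
    have he' : a = v.toMul := hι he
    rw [he', SetLike.mem_coe, MonoidHom.mem_ker] at ha
    exact hf (by simpa [lam] using ha)
  have hcard := card_ge d K hKd hdp w hnot
  have hK : Nat.card K = Nat.card g.ker := by
    have e : Nat.card K = Nat.card (g.ker.comap ι) := rfl
    rw [e, ← card_map_of_injective hι, map_comap_eq_self (hrange.symm ▸ hkA)]
  rw [hK, Nat.card_congr Additive.toMul, Nat.card_congr (MonoidHom.ofInjective hι).toEquiv, hrange] at hcard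
  -- orders
  obtain ⟨m, hm⟩ := hP.index g.ker
  have hidx' : p ^ (p + 1) ≤ p ^ m := by
    have h1 := card_mul_index g.ker
    rw [hm, ← card_mul_index A, hidx] at h1
    refine Nat.le_of_mul_le_mul_left ?_ (Nat.card_pos (α := g.ker))
    rw [show Nat.card g.ker * p ^ (p + 1) = Nat.card g.ker * p ^ p * p by ring, h1]
    exact Nat.mul_le_mul_right _ hcard
  obtain ⟨Q, hQ⟩ := (hP.of_surjective g.rangeRestrict g.rangeRestrict_surjective).exists_le_sylow
  have hQcard : Nat.card (Q : Subgroup (Equiv.Perm (Fin (p ^ 2)))) = p ^ (p + 1) := by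
    rw [Sylow.card_eq_multiplicity, Nat.card_perm, Nat.card_fin, Nat.factorization_def _ hp.out, pow_two,
      padicValNat_factorial_mul]
    have hpp : padicValNat p p.factorial = 1 := by
      have := padicValNat_factorial_mul (p := p) 1
      rw [mul_one, Nat.factorial_one, padicValNat.one, zero_add] at this
      exact this
    rw [hpp, add_comm]
  have heq : g.range = Q := by
    refine eq_of_le_of_card_ge hQ ?_
    rw [hQcard, ← index_ker, hm]
    exact hidx'
  exact ⟨Q, g.codRestrict _ fun u => hQ ⟨u, rfl⟩, fun q => by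
    obtain ⟨u, hu⟩ : (q : Equiv.Perm (Fin (p ^ 2))) ∈ g.range := (SetLike.ext_iff.1 heq _).2 q.2
    exact ⟨u, Subtype.ext hu⟩⟩

theorem main {P : Type*} [Group P] [Finite P] {p : ℕ} [hp : Fact p.Prime] (hP : IsPGroup p P)
    (A : Subgroup P) [A.Normal] (hA : Cfsg.IsElementaryAbelian p A) (hidx : A.index = p) (x y : P)
    (hx : x ∈ A)
    (hprod : ((List.range p).map (fun i => (y ^ i)⁻¹ * x * y ^ i)).prod ≠ 1) :
    ∃ (Q : Sylow p (Equiv.Perm (Fin (p ^ 2)))) (f : P →* ↥(Q : Subgroup (Equiv.Perm (Fin (p ^ 2))))),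
      Function.Surjective f := by
  letI : CommGroup ↥A :=
    { (inferInstance : Group ↥A) with mul_comm := hA.1.is_comm.comm }
  refine main' hP A A.subtype A.subtype_injective A.range_subtype hA.2 hidx x y hx
    (MulAut.conjNormal y⁻¹).toMonoidHom (fun a => ?_) hprod
  show ((MulAut.conjNormal y⁻¹ a : ↥A) : P) = _
  rw [MulAut.conjNormal_apply, inv_inv]
  rfl


/-- Let P be a finite p-group with a normal elementary abelian subgroup A of index p, and let x ∈ A and y ∈ P with y outside A. If the product of the p conjugates y^(-i) x y^i (i = 0, …, p−1) is not the identity, then the wreath product Z_p ≀ Z_p, realised as a Sylow p-subgroup of the symmetric group of degree p², is a homomorphic image of P. -/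
theorem result {P : Type*} [Group P] [Finite P] {p : ℕ} [Fact p.Prime] (hP : IsPGroup p P) (A : Subgroup P) [A.Normal]
    (hA : Cfsg.IsElementaryAbelian p A) (hidx : A.index = p) (x y : P) (hx : x ∈ A) (hy : y ∉ A)
    (hprod : ((List.range p).map (fun i => (y ^ i)⁻¹ * x * y ^ i)).prod ≠ 1) :
    ∃ (Q : Sylow p (Equiv.Perm (Fin (p ^ 2)))) (f : P →* ↥(Q : Subgroup (Equiv.Perm (Fin (p ^ 2))))), Function.Surjective f := by
  exact main hP A hA hidx x y hx hprod

end Cfsg.Agent.S1952
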