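import Cfsg.Statements.S1953
import Cfsg.Agent.Lib.Quadratic.LocallyFree
import Cfsg.Agent.Lib.ConjFun.KInfControl
import Cfsg.Agent.Lib.ZJControl.Fusion
import Cfsg.Agent.Lib.KInf.Basic

set_option autoImplicit false
set_option linter.style.haveILetI false
open Cfsg

namespace Cfsg.Agent.S1953

open Subgroup

universe u

section Helpers

theorem normalizer_le_normalizer_centralizer {G : Type u} [Group G] (Q : Subgroup G) :
    normalizer (Q : Set G) ≤ normalizer (centralizer (Q : Set G) : Set G) := by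
  refine (normal_subgroupOf_iff_le_normalizer (centralizer_le_normalizer _)).1 ?_
  rw [← normalizerMonoidHom_ker]
  exact MonoidHom.normal_ker _

variable {G : Type u} [Group G] [Finite G] {p : ℕ} [Fact p.Prime]

omit [Finite G] [Fact p.Prime] in
theorem locallyFree_of_no_section
    (hfree : ∀ Q : Subgroup G, IsPGroup p ↥Q → ¬ ∃ (H K : Subgroup G) (_ : (K.subgroupOf H).Normal),
      Subgroup.centralizer (Q : Set G) ≤ K ∧ K ≤ H ∧ H ≤ Subgroup.normalizer (Q : Set G) ∧
      Nonempty ((↥H ⧸ K.subgroupOf H) ≃* Matrix.SpecialLinearGroup (Fin 2) (ZMod p))) :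
    Quadratic.LocallyFree p G := by
  intro Q hQ K φ hK hφ
  by_contra hall
  push Not at hall
  set C := centralizer (Q : Set G) with hC
  have hCN : C ≤ normalizer (Q : Set G) := centralizer_le_normalizer _
  have hKC : K ≤ normalizer (C : Set G) := hK.trans (normalizer_le_normalizer_centralizer Q)
  set D := φ.ker.map K.subtype with hD
  have hKD : K ≤ normalizer (D : Set G) := fun g hg =>
    le_normalizer_map K.subtype ⟨⟨g, hg⟩, by rw [normalizer_eq_top]; exact mem_top _, rfl⟩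
  set H := K ⊔ C with hH
  set K' := D ⊔ C with hK'
  have hK'H : K' ≤ H := sup_le ((map_subtype_le _).trans le_sup_left) le_sup_right
  have hKK' : K ≤ normalizer (K' : Set G) := fun g hg => by
    refine PGroup.mem_normalizer_of_map_conj_eq ?_
    rw [hK', Subgroup.map_sup, PGroup.map_conj_eq_of_mem_normalizer (hKD hg),
      PGroup.map_conj_eq_of_mem_normalizer (hKC hg)]
  haveI hn : (K'.subgroupOf H).Normal := (normal_subgroupOf_iff_le_normalizer hK'H).2
    (sup_le hKK' ((le_sup_right : C ≤ K').trans le_normalizer))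
  let f : K →* ↥H ⧸ K'.subgroupOf H :=
    (QuotientGroup.mk' _).comp (Subgroup.inclusion (le_sup_left : K ≤ H))
  have hf : Function.Surjective f := by
    intro q
    obtain ⟨⟨h, hh⟩, rfl⟩ := QuotientGroup.mk'_surjective _ q
    obtain ⟨k, hk, c, hc, rfl⟩ := (Coprime.mem_sup_iff_of_le_normalizer hKC).1 hh
    exact ⟨⟨k, hk⟩, QuotientGroup.eq.2 (mem_subgroupOf.2 (by
      show k⁻¹ * (k * c) ∈ K'
      rw [inv_mul_cancel_left]; exact mem_sup_right hc))⟩
  have hker : f.ker = φ.ker := by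
    ext x
    constructor
    · intro hx
      have h1 : (x : G) ∈ K' := mem_subgroupOf.1
        ((QuotientGroup.eq_one_iff (Subgroup.inclusion (le_sup_left : K ≤ H) x)).1 hx)
      obtain ⟨_, ⟨d, hd, rfl⟩, c, hc, he⟩ :=
        (Coprime.mem_sup_iff_of_le_normalizer ((map_subtype_le _).trans hKC)).1 h1
      have hc' : (((d⁻¹ * x : K) : G)) ∈ C := by
        rw [Subgroup.coe_mul, Subgroup.coe_inv, ← he]
        show (d : G)⁻¹ * ((d : G) * c) ∈ C
        rwa [inv_mul_cancel_left]
      have h2 := hall _ hc'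
      rw [map_mul, map_inv, show φ d = 1 from hd, inv_one, one_mul] at h2
      exact h2
    · intro hx
      exact (QuotientGroup.eq_one_iff _).2 (mem_subgroupOf.2 (mem_sup_left ⟨x, hx, rfl⟩))
  exact hfree Q hQ ⟨H, K', hn, le_sup_right, hK'H, sup_le hK hCN,
    ⟨(QuotientGroup.quotientKerEquivOfSurjective f hf).symm.trans
      ((QuotientGroup.quotientMulEquivOfEq hker).trans
        (QuotientGroup.quotientKerEquivOfSurjective φ hφ))⟩⟩

/-- `controlsStrongFusion_kInf` in every Sylow subgroup. -/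
theorem fusion_kInfUpper
    (hst : ∀ (K R : Subgroup G) [_hR : (R.subgroupOf K).Normal],
      Cfsg.IsNormalizerPStable p (↥K ⧸ R.subgroupOf K)) (T : Sylow p G)
    (A : Set G) (hA : A ⊆ (T : Subgroup G)) (g : G) (hg : ∀ a ∈ A, g * a * g⁻¹ ∈ (T : Subgroup G)) :
    ∃ x ∈ normalizer ((Cfsg.inducedFunctor (G := G) Cfsg.kInfUpper (T : Subgroup G) : Subgroup G) : Set G),
      ∀ a ∈ A, x * a * x⁻¹ = g * a * g⁻¹ := by
  have h𝓦 : ∀ V ∈ ({Cfsg.kInfUpper.{u}} : Set (∀ (Q : Type u) [Group Q], Subgroup Q)),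
      Cfsg.IsCharPFunctor.{u} p V := by
    rintro V rfl
    exact KInf.isCharPFunctor_kInfUpper
  have hfus : Transfer.Fus p ({Cfsg.kInfUpper.{u}} : Set (∀ (Q : Type u) [Group Q], Subgroup Q)) G := by
    refine Transfer.fus_of_constrained_sections (G := G) h𝓦 (fun K' R' _ hC => ?_) _
      (ConjFun.involves_refl G)
    obtain ⟨S⟩ : Nonempty (Sylow p (↥K' ⧸ R'.subgroupOf K')) := inferInstance
    refine Transfer.familyControlsStrongFusionIn_of_lchain le_top S.2
      (by rw [Subgroup.relIndex_top_right]; exact S.not_dvd_index) fun A g _ hA hAg => ?_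
    refine Transfer.LChain.single ⟨_, ⟨Cfsg.kInfUpper, rfl, rfl⟩, rfl⟩
      (Subgroup.mem_inf.mpr ⟨Subgroup.mem_top g, ?_⟩) hAg
    have hnormal : (Cfsg.inducedFunctor (G := (↥K' ⧸ R'.subgroupOf K')) Cfsg.kInfUpper
        ((S : Subgroup (↥K' ⧸ R'.subgroupOf K')))).Normal := by
      by_contra hn
      obtain ⟨g, -, -, -, -, h1⟩ := ConjFun.exists_quartic S (ConjFun.not_normal_kInf (Or.inr rfl) hn)
      obtain ⟨A, hA, hA'⟩ := h1 hC
      obtain ⟨N, hN, hns⟩ := ConjFun.not_isNormalizerPStable_quotient hA hA'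
      obtain ⟨K'', R'', hR'', ⟨e⟩⟩ :=
        ConjFun.involves_trans (ConjFun.involves_quotient N) (ConjFun.involves_of_section K' R')
      exact hns (ConjFun.isNormalizerPStable_of_injective (hst K'' R'') e.symm.toMonoidHom e.symm.injective)
    rw [Subgroup.normalizer_eq_top_iff.mpr hnormal]
    exact Subgroup.mem_top g
  have hch := Transfer.lchain_of_familyControlsStrongFusionIn
    (Transfer.isConjugacyFunctor_sectionFamily h𝓦) le_top T.2
    (by rw [Subgroup.relIndex_top_right]; exact T.not_dvd_index) hfus (A := A) (g := g)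
    (Subgroup.mem_top g) hA hg
  rw [Transfer.sectionFamily, Set.image_singleton] at hch
  obtain ⟨x, hx, he⟩ := Transfer.lchain_singleton_exists hch
  exact ⟨x, hx.2, fun a ha => he a ha⟩

/-- A Sylow subgroup covers every `p`-quotient. -/
theorem sylow_sup_eq_top (S : Sylow p G) (O : Subgroup G) [O.Normal] (h : IsPGroup p (G ⧸ O)) :
    (S : Subgroup G) ⊔ O = ⊤ := by
  have h0 : ((S.mapSurjective (QuotientGroup.mk'_surjective O) : Sylow p (G ⧸ O)) : Subgroup (G ⧸ O)) = ⊤ :=
    ((S.mapSurjective (QuotientGroup.mk'_surjective O)).3 (h.to_subgroup ⊤) le_top).symm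
  rw [Sylow.coe_mapSurjective] at h0
  have h1 := congrArg (Subgroup.comap (QuotientGroup.mk' O)) h0
  rwa [comap_map_eq, QuotientGroup.ker_mk', comap_top] at h1

/-- If the centre of `K` is a Sylow `p`-subgroup of `C(K)`, `C(K) ≤ K O_{p'}`. -/
theorem centralizer_le_sup_pPrimeCore (P : Sylow p G) {K : Subgroup G} [K.Normal]
    (hCK : (P : Subgroup G) ⊓ centralizer (K : Set G) ≤ K) :
    centralizer (K : Set G) ≤ K ⊔ Cfsg.pPrimeCore p G := by
  set C := centralizer (K : Set G) with hC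
  obtain ⟨S, hS⟩ := SylowCount.exists_sylow_inf P C
  have hSK : ∀ z ∈ (S : Subgroup C), (z : G) ∈ K := fun z hz =>
    hCK ⟨mem_subgroupOf.1 (hS ▸ hz), z.2⟩
  have hcz : (S : Subgroup C) ≤ center C := fun z hz => mem_center_iff.2 fun y => Subtype.ext
    (mem_centralizer_iff.1 y.2 (z : G) (hSK z hz)).symm
  have hCn : Cfsg.HasNormalPComplement p C := (Transfer.hasNormalPComplement_iff_inf_eq_bot S).2
    (Transfer.pResidual_le_centralizer_of_central_sylow S hcz)
  haveI := Transfer.pResidual_characteristic (G := C) p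
  have hcop : (Nat.card ↥((Cfsg.pResidual p C).map C.subtype)).Coprime p := by
    rw [card_map_of_injective C.subtype_injective]
    exact ((Fact.out : p.Prime).coprime_iff_not_dvd.2
      (Transfer.hasNormalPComplement_iff.1 hCn)).symm
  have h1 : (Cfsg.pResidual p C).map C.subtype ≤ Cfsg.pPrimeCore p G := PCore.le_pPrimeCore hcop
  intro c hc
  obtain ⟨s, hs, o, ho, he⟩ := mem_sup_of_normal_right.1
    ((sylow_sup_eq_top S (Cfsg.pResidual p C) (Transfer.isPGroup_quotient_pResidual p)).ge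
      (mem_top (⟨c, hc⟩ : C)))
  rw [show c = (s : G) * o from (congrArg Subtype.val he).symm]
  exact mem_sup_of_normal_right.2 ⟨_, hSK s hs, _, h1 (mem_map_of_mem C.subtype ho), rfl⟩

/-- `O_{p',p}(G) = O_{p'}(G) (P ∩ O_{p',p}(G))`. -/
theorem pPrimePCore_le_sup (P : Sylow p G) :
    Cfsg.pPrimePCore p G ≤ Cfsg.pPrimeCore p G ⊔ ((P : Subgroup G) ⊓ Cfsg.pPrimePCore p G) := by
  set X := Cfsg.pPrimePCore p G
  set M := Cfsg.pPrimeCore p G
  obtain ⟨S, hS⟩ := SylowCount.exists_sylow_inf P X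
  obtain ⟨m, hm⟩ := PCore.relIndex_pPrimePCore (G := G) (p := p)
  have hq : IsPGroup p (X ⧸ M.subgroupOf X) := IsPGroup.of_card hm
  intro x hx
  obtain ⟨s, hs, o, ho, he⟩ := mem_sup_of_normal_right.1
    ((sylow_sup_eq_top S (M.subgroupOf X) hq).ge (mem_top (⟨x, hx⟩ : X)))
  rw [show x = (s : G) * o from (congrArg Subtype.val he).symm]
  exact mul_mem (mem_sup_right ⟨mem_subgroupOf.1 (hS ▸ hs), s.2⟩) (mem_sup_left (mem_subgroupOf.1 ho))

end Helpers

/-- Let p be an odd prime and P a Sylow p-subgroup of the finite group G, and suppose that for no p-subgroup Q of G does N_G(Q)/C_G(Q) have a section isomorphic to SL₂(p). Call a subgroup Q of P centric-radical when Z(Q) is a Sylow p-subgroup of C_G(Q) and the only normal subgroup X of N_G(Q) containing Q·C_G(Q) such that the index of Q·C_G(Q) in X is a power of p is Q·C_G(Q) itself (that is, N_G(Q)/Q·C_G(Q) has no nontrivial normal p-subgroup). Then there is a centric-radical subgroup Q of P contained in every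 centric-radical subgroup of P; it is normal in P, and N_G(Q) controls strong fusion in P: whenever a subgroup A of P has g A g⁻¹ ≤ P, the element g is a product h c with h in N_G(Q) and c centralizing A. -/
theorem result {G : Type*} [Group G] [Finite G] {p : ℕ} [Fact p.Prime] (hp : p ≠ 2) (P : Sylow p G)
    (hfree : ∀ Q : Subgroup G, IsPGroup p ↥Q → ¬ ∃ (H K : Subgroup G) (_ : (K.subgroupOf H).Normal),
      Subgroup.centralizer (Q : Set G) ≤ K ∧ K ≤ H ∧ H ≤ Subgroup.normalizer (Q : Set G) ∧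
      Nonempty ((↥H ⧸ K.subgroupOf H) ≃* Matrix.SpecialLinearGroup (Fin 2) (ZMod p)))
    (cr : Subgroup G → Prop)
    (hcr : ∀ Q : Subgroup G, cr Q ↔ (Q ≤ (P : Subgroup G) ∧
      (∃ R : Sylow p ↥(Subgroup.centralizer (Q : Set G)),
        (R : Subgroup ↥(Subgroup.centralizer (Q : Set G))).map (Subgroup.centralizer (Q : Set G)).subtype = Q ⊓ Subgroup.centralizer (Q : Set G)) ∧
      ∀ X : Subgroup G, X ≤ Subgroup.normalizer (Q : Set G) →
        (∀ n ∈ Subgroup.normalizer (Q : Set G), X.map (MulAut.conj n).toMonoidHom = X) →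
        Q ⊔ Subgroup.centralizer (Q : Set G) ≤ X → (∃ k : ℕ, (Q ⊔ Subgroup.centralizer (Q : Set G)).relIndex X = p ^ k) →
        X = Q ⊔ Subgroup.centralizer (Q : Set G))) :
    ∃ Q : Subgroup G, cr Q ∧ (∀ R : Subgroup G, cr R → Q ≤ R) ∧ (∀ x ∈ (P : Subgroup G), Q.map (MulAut.conj x).toMonoidHom = Q) ∧
      ∀ A : Subgroup G, A ≤ (P : Subgroup G) → ∀ g : G, A.map (MulAut.conj g).toMonoidHom ≤ (P : Subgroup G) →
        ∃ h ∈ Subgroup.normalizer (Q : Set G), ∃ c ∈ Subgroup.centralizer (A : Set G), g = h * c := by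
  have hst := fun (K R : Subgroup G) (_ : (R.subgroupOf K).Normal) =>
    Quadratic.isNormalizerPStable_section_of_locallyFree hp (locallyFree_of_no_section hfree) K R
  set K := Cfsg.inducedFunctor (G := G) Cfsg.kInfUpper (P : Subgroup G) with hKdef
  set H := normalizer (K : Set G) with hH
  have hPH : (P : Subgroup G) ≤ H :=
    ConjFun.le_normalizer_functor (ConjFun.isConjugacyFunctor_inducedFunctor KInf.isCharPFunctor_kInfUpper) P.2
  have hKP : K ≤ (P : Subgroup G) := ConjFun.inducedFunctor_le _ _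
  have hCPK : (P : Subgroup G) ⊓ centralizer (K : Set G) ≤ K := by
    rintro x ⟨hxP, hxC⟩
    refine ⟨⟨x, hxP⟩, KInf.centralizer_kInfUpper_le P.2 (mem_centralizer_iff.2 fun k hk => Subtype.ext ?_), rfl⟩
    exact mem_centralizer_iff.1 hxC (k : G) ⟨k, hk, rfl⟩
  haveI hKn : (K.subgroupOf H).Normal := normal_in_normalizer
  set PH : Sylow p H := P.subtype hPH with hPHdef
  set M := Cfsg.pPrimeCore p H with hM
  set X0 := Cfsg.pPrimePCore p H with hX0
  have hMc : (Nat.card M).Coprime p := PCore.coprime_card_pPrimeCore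
  have hKX0 : K.subgroupOf H ≤ X0 :=
    (PCore.le_pCore (hN := hKn) ((P.2.to_le hKP).comap_subtype)).trans PCore.pCore_le_pPrimePCore
  have hCX0 : centralizer ((K.subgroupOf H : Subgroup H) : Set H) ≤ X0 := by
    refine (centralizer_le_sup_pPrimeCore PH (K := K.subgroupOf H) ?_).trans (sup_le hKX0 PCore.pPrimeCore_le_pPrimePCore)
    rintro z ⟨hzP, hzC⟩
    exact mem_subgroupOf.2 (hCPK ⟨mem_subgroupOf.1 hzP, mem_centralizer_iff.2 fun k hk =>
      congrArg Subtype.val (mem_centralizer_iff.1 hzC ⟨k, le_normalizer hk⟩ (mem_subgroupOf.2 hk))⟩)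
  set QH := (PH : Subgroup H) ⊓ X0 with hQH
  set N0 := normalizer (QH : Set H) with hN0
  have hfr : M ⊔ N0 = ⊤ := top_le_iff.1 ((Transfer.sup_normalizer_inf_eq_top PH X0).ge.trans
    (sup_le ((pPrimePCore_le_sup PH).trans (sup_le_sup_left le_normalizer _)) le_sup_right))
  have hPN0 : (PH : Subgroup H) ≤ N0 := fun z hz => inf_normalizer_le_normalizer_inf
    ⟨le_normalizer hz, (normalizer_eq_top (H := X0)).symm ▸ mem_top z⟩
  set Q := QH.map H.subtype with hQ
  have hQP : Q ≤ (P : Subgroup G) := by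
    rintro _ ⟨z, hz, rfl⟩
    exact mem_subgroupOf.1 hz.1
  have hKQ : K ≤ Q := fun k hk =>
    ⟨⟨k, le_normalizer hk⟩, ⟨mem_subgroupOf.2 (hKP hk), hKX0 (mem_subgroupOf.2 hk)⟩, rfl⟩
  have hCQ : ∀ c ∈ centralizer (Q : Set G), ∃ hc : c ∈ H, (⟨c, hc⟩ : H) ∈ X0 := fun c hc => by
    have h1 : c ∈ centralizer (K : Set G) := centralizer_le hKQ hc
    exact ⟨centralizer_le_normalizer _ h1, hCX0 (mem_centralizer_iff.2 fun k hk =>
      Subtype.ext (mem_centralizer_iff.1 h1 (k : G) (mem_subgroupOf.1 hk)))⟩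
  have hN0Q : ∀ z ∈ N0, (z : G) ∈ normalizer (Q : Set G) := fun z hz =>
    le_normalizer_map H.subtype ⟨z, hz, rfl⟩
  have hPQ : (P : Subgroup G) ≤ normalizer (Q : Set G) := fun x hx =>
    hN0Q ⟨x, hPH hx⟩ (hPN0 (mem_subgroupOf.2 hx))
  -- control of fusion by `H ∩ N(Q)`
  have hctl : ∀ A : Set G, A ⊆ (P : Subgroup G) → ∀ g : G, (∀ a ∈ A, g * a * g⁻¹ ∈ (P : Subgroup G)) →
      ∃ y : G, y ∈ H ∧ y ∈ normalizer (Q : Set G) ∧ ∀ a ∈ A, g * a * g⁻¹ = y * a * y⁻¹ := by
    intro A hA g hg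
    obtain ⟨x, hx, he⟩ := fusion_kInfUpper hst P A hA g hg
    obtain ⟨m, hm, n, hn, hmn⟩ := mem_sup_of_normal_left.1 (hfr.ge (mem_top (⟨x, hx⟩ : H)))
    obtain ⟨y, hy, he'⟩ := ZJControl.ctl_of_mk_eq PH.2 hPN0 M hMc
      (A := ((↑) : H → G) ⁻¹' A) (g := ⟨x, hx⟩) (fun a ha => mem_subgroupOf.2 (hA ha))
      (fun a ha => mem_subgroupOf.2 (by
        show x * (a : G) * x⁻¹ ∈ (P : Subgroup G)
        rw [he _ ha]; exact hg _ ha))
      hn (fun a _ => by
        rw [← hmn]
        simp only [map_mul, map_inv, show QuotientGroup.mk' M m = 1 from (QuotientGroup.eq_one_iff m).2 hm,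
          one_mul])
    exact ⟨y, y.2, hN0Q y hy, fun a ha => (he a ha).symm.trans
      (congrArg Subtype.val (he' ⟨a, hPH (hA ha)⟩ ha))⟩
  have hsplit : ∀ (A : Set G) (g y : G), (∀ a ∈ A, g * a * g⁻¹ = y * a * y⁻¹) →
      y⁻¹ * g ∈ centralizer A := fun A g y h => mem_centralizer_iff.2 fun a ha => by
    have h1 := h a ha
    calc a * (y⁻¹ * g) = y⁻¹ * (y * a * y⁻¹) * g := by group
      _ = y⁻¹ * (g * a * g⁻¹) * g := by rw [h1]
      _ = y⁻¹ * g * a := by group
  have hNQH : normalizer (Q : Set G) ≤ H := by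
    intro x hx
    obtain ⟨y, hy, -, he⟩ := hctl Q hQP x fun a ha => hQP ((mem_normalizer_iff.1 hx a).1 ha)
    have h1 : y⁻¹ * x ∈ H := (hCQ _ (hsplit _ x y he)).1
    have := mul_mem hy h1
    rwa [mul_inv_cancel_left] at this
  have hPCQ : (P : Subgroup G) ⊓ centralizer (Q : Set G) ≤ Q ⊓ centralizer (Q : Set G) :=
    le_inf ((inf_le_inf_left _ (centralizer_le hKQ)).trans (hCPK.trans hKQ)) inf_le_right
  refine ⟨Q, (hcr Q).2 ⟨hQP, ?_, ?_⟩, fun R hR => ?_, fun x hx =>
    PGroup.map_conj_eq_of_mem_normalizer (hPQ hx), fun A hA g hg => ?_⟩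
  · -- the centre of `Q` is a Sylow subgroup of `C(Q)`
    set C := centralizer (Q : Set G) with hC
    set N := normalizer (Q : Set G) with hN
    haveI : (C.subgroupOf N).Normal := (normal_subgroupOf_iff_le_normalizer
      (centralizer_le_normalizer _)).2 (normalizer_le_normalizer_centralizer Q)
    obtain ⟨S, hS⟩ := SylowCount.exists_sylow_inf (P.subtype hPQ) (C.subgroupOf N)
    have hidx : ¬ p ∣ (((P : Subgroup G) ⊓ C).subgroupOf C).index := by
      have h1 := S.not_dvd_index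
      rw [hS] at h1
      change ¬ p ∣ ((P : Subgroup G).subgroupOf N).relIndex (C.subgroupOf N) at h1
      rw [relIndex_subgroupOf (centralizer_le_normalizer _)] at h1
      rw [inf_subgroupOf_right]
      exact h1
    refine ⟨((P.2.to_le (inf_le_left : (P : Subgroup G) ⊓ C ≤ _)).comap_subtype).toSylow hidx, ?_⟩
    show (((P : Subgroup G) ⊓ C).subgroupOf C).map C.subtype = Q ⊓ C
    rw [map_subgroupOf_eq_of_le inf_le_right]
    exact le_antisymm hPCQ (inf_le_inf_right _ hQP)
  · -- radical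
    intro X hXN hXc hQCX hk
    obtain ⟨k, hk⟩ := hk
    refine le_antisymm ?_ hQCX
    set π := QuotientGroup.mk' M with hπ
    set Y := Q ⊔ centralizer (Q : Set G) with hY
    haveI hYn : (Y.subgroupOf X).Normal := (normal_subgroupOf_iff_le_normalizer hQCX).2 fun x hx => by
      refine PGroup.mem_normalizer_of_map_conj_eq ?_
      rw [hY, Subgroup.map_sup, PGroup.map_conj_eq_of_mem_normalizer (hXN hx),
        PGroup.map_conj_eq_of_mem_normalizer (normalizer_le_normalizer_centralizer Q (hXN hx))]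
    have hYX0 : Y ≤ X0.map H.subtype :=
      sup_le (map_mono inf_le_right) fun c hc => ⟨⟨c, (hCQ c hc).1⟩, (hCQ c hc).2, rfl⟩
    haveI hnX : ((X.subgroupOf H).map π).Normal := by
      refine ⟨fun v hv q => ?_⟩
      obtain ⟨h, rfl⟩ := QuotientGroup.mk'_surjective M q
      obtain ⟨m, hm, n, hn, rfl⟩ := mem_sup_of_normal_left.1 (hfr.ge (mem_top h))
      obtain ⟨x, hx, rfl⟩ := hv
      refine ⟨n * x * n⁻¹, mem_subgroupOf.2 ?_, ?_⟩
      · rw [← hXc _ (hN0Q n hn)]
        exact ⟨x, hx, by simp⟩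
      · simp only [hπ, map_mul, map_inv, show QuotientGroup.mk' M m = 1 from
          (QuotientGroup.eq_one_iff m).2 hm, one_mul]
    have hpX : IsPGroup p ↥((X.subgroupOf H).map π) := by
      rintro ⟨_, x, hx, rfl⟩
      have h1 := pow_index_mem (Y.subgroupOf X) ⟨(x : G), mem_subgroupOf.1 hx⟩
      rw [show (Y.subgroupOf X).index = p ^ k from hk, mem_subgroupOf, SubgroupClass.coe_pow] at h1
      obtain ⟨z, hz, hze⟩ := hYX0 h1
      have hz' : x ^ p ^ k ∈ X0 := by
        rwa [show x ^ p ^ k = z from Subtype.ext (by simpa using hze.symm)]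
      obtain ⟨j, hj⟩ := PCore.isPGroup_pCore (⟨π (x ^ p ^ k), hz'⟩ : Cfsg.pCore p (H ⧸ M))
      exact ⟨k + j, Subtype.ext (by
        have := congrArg Subtype.val hj
        simpa [pow_add, pow_mul, map_pow] using this)⟩
    intro x hx
    have hxH : x ∈ H := hNQH (hXN hx)
    have h2 : (⟨x, hxH⟩ : H) ∈ X0 := PCore.le_pCore hpX ⟨⟨x, hxH⟩, mem_subgroupOf.2 hx, rfl⟩
    obtain ⟨m, hm, q, hq, hmq⟩ := mem_sup_of_normal_left.1 (pPrimePCore_le_sup PH h2)
    have hxe : (m : G) * q = x := congrArg Subtype.val hmq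
    have hqQ : (q : G) ∈ Q := ⟨q, hq, rfl⟩
    have hmN : (m : G) ∈ normalizer (Q : Set G) := by
      have := mul_mem (hXN hx) (inv_mem (le_normalizer hqQ))
      rwa [← hxe, mul_inv_cancel_right] at this
    have hmC : (m : G) ∈ centralizer (Q : Set G) := mem_centralizer_iff.2 fun a ha => by
      obtain ⟨a', ha', rfl⟩ := ha
      obtain ⟨b, hb, hbe⟩ := (mem_normalizer_iff.1 hmN a').1 ⟨a', ha', rfl⟩
      have hbe' : b = m * a' * m⁻¹ := Subtype.ext hbe
      have h3 : m * a' * m⁻¹ * a'⁻¹ = 1 := by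
        refine disjoint_def.1 (PCore.disjoint_of_isPGroup_of_coprime PH.2 hMc)
          (mul_mem (hbe' ▸ hb.1) (inv_mem ha'.1)) ?_
        rw [mul_assoc m, mul_assoc]
        exact mul_mem hm ((inferInstance : M.Normal).conj_mem _ (inv_mem hm) a')
      have h4 : m * a' = a' * m := by
        rw [mul_inv_eq_one, mul_inv_eq_iff_eq_mul] at h3
        exact h3
      exact (congrArg Subtype.val h4).symm
    rw [← hxe]
    exact mul_mem (mem_sup_right hmC) (mem_sup_left hqQ)
  · -- `Q` is the least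
    set C := centralizer (R : Set G) with hC
    set N := normalizer (R : Set G) with hN
    obtain ⟨hRP, ⟨S, hS⟩, hrad⟩ := (hcr R).1 hR
    have hCN : C ≤ N := centralizer_le_normalizer _
    have hPC : (P : Subgroup G) ⊓ C ≤ R := by
      have h1 : (S : Subgroup C) ≤ ((P : Subgroup G) ⊓ C).subgroupOf C := fun z hz => by
        have := hS.le (mem_map_of_mem C.subtype hz)
        exact mem_subgroupOf.2 ⟨hRP this.1, this.2⟩
      have h2 := S.3 ((P.2.to_le (inf_le_left : (P : Subgroup G) ⊓ C ≤ _)).comap_subtype) h1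
      intro z hz
      exact (hS.le ⟨⟨z, hz.2⟩, h2.le (mem_subgroupOf.2 hz), rfl⟩).1
    set T := Q ⊓ N with hT
    set Y := R ⊔ C with hY
    have hnY : ∀ n ∈ N, Y.map (MulAut.conj n).toMonoidHom = Y := fun n hn => by
      rw [hY, Subgroup.map_sup, PGroup.map_conj_eq_of_mem_normalizer hn,
        PGroup.map_conj_eq_of_mem_normalizer (normalizer_le_normalizer_centralizer R hn)]
    have hTY : T ≤ normalizer (Y : Set G) := fun t ht => PGroup.mem_normalizer_of_map_conj_eq (hnY t ht.2)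
    set X := T ⊔ Y with hX
    have hXn : ∀ n ∈ N, X.map (MulAut.conj n).toMonoidHom = X := by
      intro n hn
      obtain ⟨y, -, hyQ, he⟩ := hctl R hRP n fun a ha => hRP ((mem_normalizer_iff.1 hn a).1 ha)
      have hc : y⁻¹ * n ∈ C := hsplit _ n y he
      have hyN : y ∈ N := by
        have := mul_mem hn (inv_mem (hCN hc))
        rwa [mul_inv_rev, inv_inv, mul_inv_cancel_left] at this
      have h1 : X.map (MulAut.conj y).toMonoidHom = X := by
        rw [hX, Subgroup.map_sup, hnY y hyN, hT, Subgroup.map_inf _ _ _ (MulAut.conj y).injective,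
          PGroup.map_conj_eq_of_mem_normalizer hyQ,
          PGroup.map_conj_eq_of_mem_normalizer (le_normalizer hyN)]
      have h2 : y⁻¹ * n ∈ normalizer (X : Set G) := le_normalizer (mem_sup_right (mem_sup_right hc))
      have h3 := mul_mem (PGroup.mem_normalizer_of_map_conj_eq h1) h2
      rw [mul_inv_cancel_left] at h3
      exact PGroup.map_conj_eq_of_mem_normalizer h3
    haveI hYn : (Y.subgroupOf X).Normal :=
      (normal_subgroupOf_iff_le_normalizer le_sup_right).2 (sup_le hTY le_normalizer)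
    have hkX : ∃ k : ℕ, Y.relIndex X = p ^ k := by
      refine IsPGroup.exists_card_eq (G := ↥X ⧸ Y.subgroupOf X) fun q => ?_
      obtain ⟨⟨x, hx⟩, rfl⟩ := QuotientGroup.mk'_surjective _ q
      obtain ⟨t, ht, y, hy, rfl⟩ := (Coprime.mem_sup_iff_of_le_normalizer hTY).1 hx
      obtain ⟨j, hj⟩ := P.2.to_le (inf_le_left.trans hQP : T ≤ _) ⟨t, ht⟩
      refine ⟨j, ?_⟩
      have e : (QuotientGroup.mk' (Y.subgroupOf X)) ⟨t * y, hx⟩ =
          QuotientGroup.mk' (Y.subgroupOf X) ⟨t, mem_sup_left ht⟩ :=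
        (QuotientGroup.eq.2 (mem_subgroupOf.2 (by
          show t⁻¹ * (t * y) ∈ Y
          rwa [inv_mul_cancel_left]))).symm
      rw [e, ← map_pow, show (⟨t, mem_sup_left ht⟩ : X) ^ p ^ j = 1 from
        Subtype.ext (by simpa using congrArg Subtype.val hj), map_one]
    have hXY := hrad X (sup_le inf_le_right (sup_le le_normalizer hCN)) hXn le_sup_right hkX
    refine ZJControl.le_of_inf_normalizer_le P.2 hQP hRP hPQ fun t ht => ?_
    have h1 : t ∈ C ⊔ R := (sup_comm R C).le (hXY.le (mem_sup_left ht))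
    obtain ⟨c, hc, r, hr, rfl⟩ := (Coprime.mem_sup_iff_of_le_normalizer
      (show C ≤ normalizer (R : Set G) from hCN)).1 h1
    have hcP : c ∈ (P : Subgroup G) := by
      have := mul_mem (hQP ht.1) (inv_mem (hRP hr))
      rwa [mul_inv_cancel_right] at this
    exact mul_mem (hPC ⟨hcP, hc⟩) hr
  · obtain ⟨y, -, hy, he⟩ := hctl A hA g fun a ha => hg ⟨a, ha, rfl⟩
    exact ⟨y, hy, y⁻¹ * g, hsplit _ g y he, (mul_inv_cancel_left y g).symm⟩

end Cfsg.Agent.S1953
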