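import Cfsg.Statements.S1954
import Cfsg.Agent.Lib.Transfer.FocalLocal
import Cfsg.Agent.Lib.Transfer.Fusion
import Cfsg.Agent.Lib.ConjFun.Basic

set_option autoImplicit false
open Cfsg

namespace Cfsg.Agent.S1954

open Transfer Subgroup

variable {G : Type*} [Group G] [Finite G] {p : ℕ}

/-- Normalizers controlling fusion in `N` can be intersected. -/
theorem exists_same_action_finset {N R V : Subgroup G} [N.Normal] (hVR : V ≤ R)
    (hctrl : ∀ A : Subgroup G, A ≤ R → ∀ n ∈ N, A.map (MulAut.conj n).toMonoidHom ≤ R →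
      ∃ h ∈ N ⊓ normalizer (V : Set G), ∃ c ∈ N ⊓ centralizer (A : Set G), n = h * c) :
    ∀ s : Finset G, (↑s : Set G) ⊆ (normalizer (R : Set G) : Set G) →
      ∀ A : Set G, A ⊆ R → ∀ n ∈ N, (∀ a ∈ A, n * a * n⁻¹ ∈ R) →
      ∃ h ∈ N, (∀ x ∈ s, h ∈ normalizer ((V.map (MulAut.conj x).toMonoidHom : Subgroup G) : Set G)) ∧
        ∀ a ∈ A, h * a * h⁻¹ = n * a * n⁻¹ := by
  classical
  intro s
  induction s using Finset.induction with
  | empty => exact fun _ A _ n hn _ => ⟨n, hn, by simp, fun a _ => rfl⟩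
  | @insert x s hxs ih =>
    intro hs A hA n hn hnA
    rw [Finset.coe_insert, Set.insert_subset_iff] at hs
    obtain ⟨h, hh, hhV, hhA⟩ := ih hs.2 A hA n hn hnA
    have hx : x ∈ normalizer (R : Set G) := hs.1
    -- enlarge `A` by the conjugates already normalized
    let B : Set G := A ∪ ⋃ y ∈ s, ((V.map (MulAut.conj y).toMonoidHom : Subgroup G) : Set G)
    have hBR : ∀ b ∈ B, b ∈ R ∧ h * b * h⁻¹ ∈ R := by
      rintro b (hb | hb)
      · exact ⟨hA hb, (hhA b hb).symm ▸ hnA b hb⟩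
      · simp only [Set.mem_iUnion] at hb
        obtain ⟨y, hy, hb⟩ := hb
        have key : ∀ c ∈ V.map (MulAut.conj y).toMonoidHom, c ∈ R := by
          rintro _ ⟨v, hv, rfl⟩
          exact (mem_normalizer_iff.mp (hs.2 hy) v).mp (hVR hv)
        exact ⟨key b hb, key _ ((mem_normalizer_iff.mp (hhV y hy) b).mp hb)⟩
    let A' : Subgroup G := closure ((fun b => x⁻¹ * b * x) '' B)
    have hA' : A' ≤ R := by
      rw [closure_le]
      rintro _ ⟨b, hb, rfl⟩
      exact (mem_normalizer_iff''.mp hx b).mp (hBR b hb).1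
    obtain ⟨h', hh', c, hc, he⟩ := hctrl A' hA' (x⁻¹ * h * x)
      (by simpa using (inferInstance : N.Normal).conj_mem h hh x⁻¹) (by
        rw [map_le_iff_le_comap, closure_le]
        rintro _ ⟨b, hb, rfl⟩
        have h1 := (mem_normalizer_iff''.mp hx _).mp (hBR b hb).2
        show x⁻¹ * h * x * (x⁻¹ * b * x) * (x⁻¹ * h * x)⁻¹ ∈ R
        convert h1 using 1
        group)
    obtain ⟨hh'N, hh'V⟩ := mem_inf.mp hh'
    have hB : ∀ b ∈ B, (x * h' * x⁻¹) * b * (x * h' * x⁻¹)⁻¹ = h * b * h⁻¹ := by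
      intro b hb
      have hcb : x⁻¹ * b * x * c = c * (x⁻¹ * b * x) :=
        mem_centralizer_iff.mp (mem_inf.mp hc).2 _ (subset_closure ⟨b, hb, rfl⟩)
      calc (x * h' * x⁻¹) * b * (x * h' * x⁻¹)⁻¹
          = x * h' * (x⁻¹ * b * x * c) * c⁻¹ * h'⁻¹ * x⁻¹ := by group
        _ = x * (h' * c) * (x⁻¹ * b * x) * (h' * c)⁻¹ * x⁻¹ := by rw [hcb]; group
        _ = h * b * h⁻¹ := by rw [← he]; group
    refine ⟨x * h' * x⁻¹, (inferInstance : N.Normal).conj_mem h' hh'N x, fun y hy => ?_,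
      fun a ha => (hB a (Or.inl ha)).trans (hhA a ha)⟩
    rcases Finset.mem_insert.mp hy with rfl | hy
    · rw [← ConjFun.conjMap_normalizer]
      exact ⟨h', hh'V, rfl⟩
    · refine mem_normalizer_of_conj_mem fun b hb => ?_
      rw [hB b (Or.inr (Set.mem_biUnion (Finset.mem_coe.mpr hy) hb))]
      exact (mem_normalizer_iff.mp (hhV y hy) b).mp hb

/-- The inductive step of Alperin's theorem. -/
theorem tame_step [Fact p.Prime] (P : Sylow p G) (N W : Subgroup G) [N.Normal]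
    (hWR : W ≤ (P : Subgroup G) ⊓ N)
    (hNR : normalizer (((P : Subgroup G) ⊓ N : Subgroup G) : Set G) ≤ normalizer (W : Set G))
    (hfus : ∀ A : Set G, A ⊆ ((P : Subgroup G) ⊓ N : Subgroup G) → ∀ g : G,
      (∀ a ∈ A, g * a * g⁻¹ ∈ (P : Subgroup G) ⊓ N) →
      ∃ h ∈ normalizer (W : Set G), ∀ a ∈ A, h * a * h⁻¹ = g * a * g⁻¹) :
    ∀ k, ∀ D : Subgroup G, IsTame P D → Nat.card (P : Subgroup G) - Nat.card D = k →
      ∀ x ∈ normalizer (D : Set G),
        ∃ h ∈ normalizer (W : Set G), ∀ d ∈ D, h⁻¹ * d * h = x⁻¹ * d * x := by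
  intro k
  induction k using Nat.strong_induction_on with
  | _ k IH =>
  intro D hD hk x hx
  have hDP := hD.le
  set D₀ := D ⊓ N with hD₀
  have hD₀R : D₀ ≤ (P : Subgroup G) ⊓ N := inf_le_inf_right _ hDP
  have hD₀n : ∀ g ∈ normalizer (D : Set G), ∀ a ∈ D₀, g * a * g⁻¹ ∈ D₀ := fun g hg a ha =>
    mem_inf.mpr ⟨(mem_normalizer_iff.mp hg a).mp (mem_inf.mp ha).1,
      (inferInstance : N.Normal).conj_mem a (mem_inf.mp ha).2 g⟩
  by_cases hWD : W ≤ D
  · -- `x` itself normalizes `W`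
    refine ⟨x, ?_, fun d _ => rfl⟩
    have hWD₀ : W ≤ D₀ := le_inf hWD (hWR.trans inf_le_right)
    obtain ⟨h, hh, he⟩ := hfus (D₀ : Set G) hD₀R x fun a ha => hD₀R (hD₀n x hx a ha)
    refine mem_normalizer_of_conj_mem fun w hw => ?_
    rw [← he w (hWD₀ hw)]
    exact (mem_normalizer_iff.mp hh w).mp hw
  set M := normalizer (D : Set G) with hM
  set S : Subgroup G := (P : Subgroup G) ⊓ M with hS
  obtain ⟨Q, hQ⟩ := hD
  have hSi : ¬ p ∣ S.relIndex M := hQ.2.1
  -- an element of `W` outside `D` normalizing `D`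
  obtain ⟨z, hzW, hzM, hzD⟩ : ∃ z ∈ W, z ∈ M ∧ z ∉ D := by
    have hlt : D < D ⊔ W := left_lt_sup.mpr hWD
    have h1 := lt_inf_normalizer_of_lt (P.2.to_le (sup_le hDP (hWR.trans inf_le_left))) hlt
    obtain ⟨y, hy, hyD⟩ := SetLike.exists_of_lt h1
    obtain ⟨hy1, hy2⟩ := mem_inf.mp hy
    have hnorm : D ≤ normalizer (W : Set G) := fun d hd => hNR (by
      refine mem_normalizer_of_conj_mem fun a ha => mem_inf.mpr
        ⟨mul_mem (mul_mem (hDP hd) (mem_inf.mp ha).1) (inv_mem (hDP hd)),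
          (inferInstance : N.Normal).conj_mem a (mem_inf.mp ha).2 d⟩)
    obtain ⟨d, hd, w, hw, rfl⟩ := (Coprime.mem_sup_iff_of_le_normalizer hnorm).mp hy1
    refine ⟨w, hw, by simpa using mul_mem (inv_mem (Subgroup.le_normalizer hd)) hy2, fun hwD => ?_⟩
    exact hyD (mul_mem hd hwD)
  -- the elements acting on `D₀` like elements of `W`
  let U : Subgroup G :=
    { carrier := {l | l ∈ M ∧ l ∈ N ∧ ∃ w ∈ W, ∀ a ∈ D₀, l * a * l⁻¹ = w * a * w⁻¹}
      one_mem' := ⟨one_mem _, one_mem _, 1, one_mem _, fun a _ => rfl⟩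
      mul_mem' := by
        rintro l₁ l₂ ⟨h1, h2, w₁, hw₁, he₁⟩ ⟨h1', h2', w₂, hw₂, he₂⟩
        refine ⟨mul_mem h1 h1', mul_mem h2 h2', w₁ * w₂, mul_mem hw₁ hw₂, fun a ha => ?_⟩
        calc l₁ * l₂ * a * (l₁ * l₂)⁻¹ = l₁ * (l₂ * a * l₂⁻¹) * l₁⁻¹ := by group
          _ = w₁ * (l₂ * a * l₂⁻¹) * w₁⁻¹ := he₁ _ (hD₀n l₂ h1' a ha)
          _ = w₁ * w₂ * a * (w₁ * w₂)⁻¹ := by rw [he₂ a ha]; group
      inv_mem' := by
        rintro l ⟨h1, h2, w, hw, he⟩
        refine ⟨inv_mem h1, inv_mem h2, w⁻¹, inv_mem hw, fun a ha => ?_⟩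
        have h3 := he _ (hD₀n l⁻¹ (inv_mem h1) a ha)
        calc l⁻¹ * a * l⁻¹⁻¹ = w⁻¹ * (w * (l⁻¹ * a * l⁻¹⁻¹) * w⁻¹) * w := by group
          _ = w⁻¹ * (l * (l⁻¹ * a * l⁻¹⁻¹) * l⁻¹) * w := by rw [← h3]
          _ = w⁻¹ * a * w⁻¹⁻¹ := by group }
  have hUM : U ≤ M := fun l hl => hl.1
  have hMU : M ≤ normalizer (U : Set G) := by
    intro g hg
    obtain ⟨h, hh, he⟩ := hfus (D₀ : Set G) hD₀R g fun a ha => hD₀R (hD₀n g hg a ha)
    refine mem_normalizer_of_conj_mem ?_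
    rintro l ⟨h1, h2, w, hw, hwe⟩
    refine ⟨mul_mem (mul_mem hg h1) (inv_mem hg), (inferInstance : N.Normal).conj_mem l h2 g,
      h * w * h⁻¹, (mem_normalizer_iff.mp hh w).mp hw, fun a ha => ?_⟩
    set b := g⁻¹ * a * g with hb
    have hbD : b ∈ D₀ := by simpa [hb] using hD₀n g⁻¹ (inv_mem hg) a ha
    have e1 : h * b * h⁻¹ = a := by rw [he b hbD, hb]; group
    have e2 := he (l * b * l⁻¹) (hD₀n l h1 b hbD)
    calc g * l * g⁻¹ * a * (g * l * g⁻¹)⁻¹ = g * (l * b * l⁻¹) * g⁻¹ := by rw [hb]; group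
      _ = h * (l * b * l⁻¹) * h⁻¹ := e2.symm
      _ = h * (w * b * w⁻¹) * h⁻¹ := by rw [hwe b hbD]
      _ = h * w * h⁻¹ * (h * b * h⁻¹) * (h * w * h⁻¹)⁻¹ := by group
      _ = h * w * h⁻¹ * a * (h * w * h⁻¹)⁻¹ := by rw [e1]
  have hzU : z ∈ U := ⟨hzM, (mem_inf.mp (hWR hzW)).2, z, hzW, fun a _ => rfl⟩
  -- a power of every element of `U` centralizes `D`
  have hUp : ∀ l ∈ U, ∃ i : ℕ, l ^ p ^ i ∈ centralizer (D : Set G) := by
    rintro l ⟨h1, h2, w, hw, hwe⟩
    obtain ⟨i, hi⟩ := P.2 ⟨w, (mem_inf.mp (hWR hw)).1⟩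
    have hwi : w ^ p ^ i = 1 := by simpa using congrArg Subtype.val hi
    obtain ⟨j, hj⟩ := (P.2.to_le (hDP : D ≤ _)).to_le (inf_le_left : D₀ ≤ D) |>.exists_card_eq
    refine ⟨i + j, ?_⟩
    have hcl : ∀ a ∈ D₀, l ^ p ^ i * a * (l ^ p ^ i)⁻¹ = a := by
      have key : ∀ m : ℕ, ∀ a ∈ D₀, l ^ m * a * (l ^ m)⁻¹ = w ^ m * a * (w ^ m)⁻¹ ∧
          w ^ m * a * (w ^ m)⁻¹ ∈ D₀ := by
        intro m
        induction m with
        | zero => intro a ha; simpa using ha
        | succ m ih =>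
          intro a ha
          have hm : l * a * l⁻¹ ∈ D₀ := hD₀n l h1 a ha
          have h4 := ih _ hm
          rw [hwe a ha] at h4
          refine ⟨?_, ?_⟩
          · calc l ^ (m + 1) * a * (l ^ (m + 1))⁻¹ = l ^ m * (l * a * l⁻¹) * (l ^ m)⁻¹ := by
                  rw [pow_succ]; group
              _ = l ^ m * (w * a * w⁻¹) * (l ^ m)⁻¹ := by rw [hwe a ha]
              _ = w ^ m * (w * a * w⁻¹) * (w ^ m)⁻¹ := h4.1
              _ = w ^ (m + 1) * a * (w ^ (m + 1))⁻¹ := by rw [pow_succ]; group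
          · convert h4.2 using 1
            rw [pow_succ]
            group
      intro a ha
      rw [(key _ a ha).1, hwi]
      simp
    set m := l ^ p ^ i with hm
    rw [pow_add, pow_mul, ← hm, mem_centralizer_iff]
    intro d hd
    set c := m * d * m⁻¹ * d⁻¹ with hc
    have hmM : m ∈ M := pow_mem h1 _
    have hcD₀ : c ∈ D₀ := by
      refine mem_inf.mpr ⟨mul_mem ((mem_normalizer_iff.mp hmM d).mp hd) (inv_mem hd), ?_⟩
      have : c = m * (d * m⁻¹ * d⁻¹) := by rw [hc]; group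
      rw [this]
      exact mul_mem (pow_mem h2 _) ((inferInstance : N.Normal).conj_mem _ (inv_mem (pow_mem h2 _)) d)
    have hmc : Commute m c := mul_inv_eq_iff_eq_mul.mp (hcl c hcD₀)
    have hit : ∀ t : ℕ, m ^ t * d * (m ^ t)⁻¹ = c ^ t * d := by
      intro t
      induction t with
      | zero => simp
      | succ t iht =>
        calc m ^ (t + 1) * d * (m ^ (t + 1))⁻¹ = m * (m ^ t * d * (m ^ t)⁻¹) * m⁻¹ := by
              rw [pow_succ']; group
          _ = m * c ^ t * d * m⁻¹ := by rw [iht]; group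
          _ = c ^ t * m * d * m⁻¹ := by rw [(hmc.pow_right t).eq]
          _ = c ^ (t + 1) * d := by rw [pow_succ, hc]; group
    have h5 := hit (p ^ j)
    have hcq : c ^ p ^ j = 1 :=
      orderOf_dvd_iff_pow_eq_one.mp (hj ▸ Subgroup.orderOf_dvd_natCard D₀ hcD₀)
    rw [hcq, one_mul] at h5
    exact (mul_inv_eq_iff_eq_mul.mp h5).symm
  -- the Sylow subgroup `T` of `U`
  set T := S ⊓ U with hT
  have hSp : IsPGroup p S := P.2.to_le inf_le_left
  have hTi : ¬ p ∣ T.relIndex U := ConjFun.not_dvd_relIndex_inf hSp hSi hUM hMU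
  let T' : Sylow p U := ((hSp.to_le inf_le_left).comap_subtype (K := U)).toSylow hTi
  have hUT : ∀ u ∈ U, ∃ t ∈ T, t⁻¹ * u ∈ centralizer (D : Set G) := by
    intro u hu
    set C := (centralizer (D : Set G)).subgroupOf U with hC
    haveI hCn : C.Normal := ⟨fun c hc g => by
      rw [hC, mem_subgroupOf, mem_centralizer_iff]
      intro d hd
      have h6 := mem_centralizer_iff.mp (mem_subgroupOf.mp hc) _
        ((mem_normalizer_iff''.mp (hUM g.2) d).mp hd)
      simp only [Subgroup.coe_mul, Subgroup.coe_inv]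
      calc d * ((g : G) * (c : G) * (g : G)⁻¹) = (g : G) * ((g : G)⁻¹ * d * g * c) * (g : G)⁻¹ := by group
        _ = (g : G) * (c * ((g : G)⁻¹ * d * g)) * (g : G)⁻¹ := by rw [h6]
        _ = (g : G) * c * (g : G)⁻¹ * d := by group⟩
    have hπ := QuotientGroup.mk'_surjective C
    have hq : IsPGroup p (U ⧸ C) := by
      intro q
      obtain ⟨l, rfl⟩ := hπ q
      obtain ⟨i, hi⟩ := hUp l l.2
      refine ⟨i, ?_⟩
      rw [← map_pow]
      exact (QuotientGroup.eq_one_iff _).mpr (by rw [hC, mem_subgroupOf, Subgroup.coe_pow]; exact hi)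
    have htop : (T'.mapSurjective hπ : Subgroup (U ⧸ C)) = ⊤ :=
      ((T'.mapSurjective hπ).3 (hq.to_subgroup ⊤) le_top).symm
    obtain ⟨t, ht, hte⟩ := (htop.ge (mem_top (QuotientGroup.mk' C ⟨u, hu⟩)) :
      QuotientGroup.mk' C ⟨u, hu⟩ ∈ (T'.mapSurjective hπ : Subgroup (U ⧸ C)))
    refine ⟨t, ht, ?_⟩
    have h7 := QuotientGroup.eq.mp hte
    rw [hC, mem_subgroupOf] at h7
    simpa using h7
  -- Frattini
  have hTU : T ≤ U := inf_le_right
  have hxT : T.map (MulAut.conj x).toMonoidHom ≤ U := by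
    rintro _ ⟨t, ht, rfl⟩
    exact (mem_normalizer_iff.mp (hMU hx) t).mp (hTU ht)
  obtain ⟨u, hu, hle⟩ := ConjFun.exists_conj_le_of_relIndex (hSp.to_le (inf_le_left : T ≤ S)) hTi hxT
    ((hSp.to_le (inf_le_left : T ≤ S)).map _)
  set y := u * x with hy
  have hyM : y ∈ M := mul_mem (hUM hu) hx
  have hyT : ∀ t ∈ T, y * t * y⁻¹ ∈ T := fun t ht => by
    have h8 := hle ⟨_, ⟨t, ht, rfl⟩, rfl⟩
    simpa [hy, hT, MulAut.conj_apply, mul_assoc] using h8
  -- `y` normalizes a subgroup larger than `D`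
  set E := D ⊔ T with hE
  have hEP : E ≤ (P : Subgroup G) := sup_le hDP (inf_le_left.trans inf_le_left)
  have hyE : E.map (MulAut.conj y).toMonoidHom ≤ E := by
    rw [hE, Subgroup.map_sup]
    refine sup_le_sup ?_ ?_
    · rintro _ ⟨d, hd, rfl⟩
      exact (mem_normalizer_iff.mp hyM d).mp hd
    · rintro _ ⟨t, ht, rfl⟩
      exact hyT t ht
  have hlt : Nat.card D < Nat.card E := by
    by_contra hle'
    have hDE := eq_of_le_of_card_ge (le_sup_left : D ≤ E) (not_lt.mp hle')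
    exact hzD (hDE.ge (mem_sup_right (mem_inf.mpr ⟨mem_inf.mpr ⟨(mem_inf.mp (hWR hzW)).1, hzM⟩, hzU⟩)))
  have hch := (alperin P (E : Set G) y⁻¹ hEP (fun e he => by
    rw [inv_inv]; exact hEP (hyE ⟨e, he, rfl⟩))).strengthen (Nat.card E)
      (Nat.card_coe_set_eq (E : Set G)).le
  have hgood : ∀ (A : Set G) (g : G), FusionChain (fun F => IsTame P F ∧ Nat.card E ≤ Nat.card F) A g →
      ∃ h ∈ normalizer (W : Set G), ∀ a ∈ A, h⁻¹ * a * h = g⁻¹ * a * g := by
    intro A g hh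
    induction hh with
    | one A => exact ⟨1, one_mem _, fun a _ => rfl⟩
    | @step A F v g' hF hA hv _ ih =>
      obtain ⟨h₁, hh₁, he₁⟩ := IH _ (by
        have h2 := card_le_of_le hF.1.le
        have h3 := hF.2
        omega) F hF.1 rfl v hv
      obtain ⟨h₂, hh₂, he₂⟩ := ih
      refine ⟨h₁ * h₂, mul_mem hh₁ hh₂, fun a ha => ?_⟩
      have h4 := he₂ (v⁻¹ * a * v) ⟨a, ha, rfl⟩
      calc (h₁ * h₂)⁻¹ * a * (h₁ * h₂) = h₂⁻¹ * (h₁⁻¹ * a * h₁) * h₂ := by group
        _ = h₂⁻¹ * (v⁻¹ * a * v) * h₂ := by rw [he₁ a (hA ha)]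
        _ = g'⁻¹ * (v⁻¹ * a * v) * g' := h4
        _ = (v * g')⁻¹ * a * (v * g') := by group
  obtain ⟨hy', hhy', hey⟩ := hgood _ _ hch
  -- correct by `u`
  obtain ⟨t, ht, htu⟩ := hUT u hu
  have htP : t ∈ (P : Subgroup G) := (mem_inf.mp (mem_inf.mp ht).1).1
  have htW : t ∈ normalizer (W : Set G) := hNR (mem_normalizer_of_conj_mem fun a ha =>
    mem_inf.mpr ⟨mul_mem (mul_mem htP (mem_inf.mp ha).1) (inv_mem htP),
      (inferInstance : N.Normal).conj_mem a (mem_inf.mp ha).2 t⟩)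
  refine ⟨t⁻¹ * hy'⁻¹, mul_mem (inv_mem htW) (inv_mem hhy'), fun d hd => ?_⟩
  set d' := x⁻¹ * d * x with hd'
  have hd'D : d' ∈ D := (mem_normalizer_iff''.mp hx d).mp hd
  have h9 : hy'⁻¹ * d' * hy' = y * d' * y⁻¹ := by
    rw [hey d' (mem_sup_left hd'D)]
    group
  have htd : t⁻¹ * u * d = d * (t⁻¹ * u) := (mem_centralizer_iff.mp htu d hd).symm
  have h10 : y * d' * y⁻¹ = t * d * t⁻¹ := by
    calc y * d' * y⁻¹ = t * (t⁻¹ * u * d) * u⁻¹ := by rw [hy, hd']; group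
      _ = t * (d * (t⁻¹ * u)) * u⁻¹ := by rw [htd]
      _ = t * d * t⁻¹ := by group
  calc (t⁻¹ * hy'⁻¹)⁻¹ * d * (t⁻¹ * hy'⁻¹) = hy' * (t * d * t⁻¹) * hy'⁻¹ := by group
    _ = hy' * (hy'⁻¹ * d' * hy') * hy'⁻¹ := by rw [h9, h10]
    _ = d' := by group

/-- Let N be a normal subgroup of the finite group G, P a Sylow p-subgroup of G, and V a subgroup of P ∩ N normal in P ∩ N such that N_N(V) controls strong fusion in P ∩ N with respect to N (whenever a subgroup A of P ∩ N has n A n⁻¹ ≤ P ∩ N for some n in N, then n = h c with h in N_N(V) and c in C_N(A)). Let W be the subgroup generated by the conjugates of V under N_G(P ∩ N). Then N_G(W) controls strong fusion in P with respect to G. -/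
theorem result {G : Type*} [Group G] [Finite G] {p : ℕ} [Fact p.Prime] (N : Subgroup G) [N.Normal] (P : Sylow p G) (V : Subgroup G)
    (hV : V ≤ (P : Subgroup G) ⊓ N) (hVn : ∀ x ∈ (P : Subgroup G) ⊓ N, V.map (MulAut.conj x).toMonoidHom = V)
    (hctrl : ∀ A : Subgroup G, A ≤ (P : Subgroup G) ⊓ N → ∀ n ∈ N, A.map (MulAut.conj n).toMonoidHom ≤ (P : Subgroup G) ⊓ N →
      ∃ h ∈ N ⊓ Subgroup.normalizer (V : Set G), ∃ c ∈ N ⊓ Subgroup.centralizer (A : Set G), n = h * c)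
    (W : Subgroup G) (hW : W = Subgroup.closure (⋃ x ∈ Subgroup.normalizer (((P : Subgroup G) ⊓ N : Subgroup G) : Set G),
      ((V.map (MulAut.conj x).toMonoidHom : Subgroup G) : Set G))) :
    ∀ A : Subgroup G, A ≤ (P : Subgroup G) → ∀ g : G, A.map (MulAut.conj g).toMonoidHom ≤ (P : Subgroup G) →
        ∃ h ∈ Subgroup.normalizer (W : Set G), ∃ c ∈ Subgroup.centralizer (A : Set G), g = h * c := by
  set R := (P : Subgroup G) ⊓ N with hR
  have hWR : W ≤ R := by
    rw [hW, Subgroup.closure_le]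
    simp only [Set.iUnion_subset_iff]
    rintro x hx _ ⟨v, hv, rfl⟩
    exact (Subgroup.mem_normalizer_iff.mp hx v).mp (hV hv)
  have hNR : Subgroup.normalizer (R : Set G) ≤ Subgroup.normalizer (W : Set G) := by
    intro g hg
    refine Transfer.mem_normalizer_of_conj_mem fun w hw => ?_
    rw [hW] at hw
    induction hw using Subgroup.closure_induction with
    | mem b hb =>
      simp only [Set.mem_iUnion] at hb
      obtain ⟨x, hx, v, hv, rfl⟩ := hb
      rw [hW]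
      refine Subgroup.subset_closure (Set.mem_biUnion (mul_mem hg hx) ⟨v, hv, ?_⟩)
      simp [mul_assoc]
    | one => simpa using one_mem W
    | mul a b _ _ ha hb => simpa [mul_assoc] using mul_mem ha hb
    | inv a _ ha => simpa [mul_assoc] using inv_mem ha
  have hfus : ∀ A : Set G, A ⊆ R → ∀ g : G, (∀ a ∈ A, g * a * g⁻¹ ∈ R) →
      ∃ h ∈ Subgroup.normalizer (W : Set G), ∀ a ∈ A, h * a * h⁻¹ = g * a * g⁻¹ := by
    intro A hA g hg
    have hRN : R ≤ N := inf_le_right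
    have hRi : ¬ p ∣ R.relIndex N := ConjFun.not_dvd_relIndex_inf (H := ⊤) P.2
      (by rw [Subgroup.relIndex_top_right]; exact P.not_dvd_index) le_top
      (Subgroup.normalizer_eq_top (H := N)).ge
    have hRp : IsPGroup p R := P.2.to_le inf_le_left
    obtain ⟨m, hm, hme⟩ := ConjFun.exists_conj_eq_of_relIndex hRp hRN hRi
      (hRp.map (MulAut.conj g).toMonoidHom) (by
        rintro _ ⟨r, hr, rfl⟩
        exact (inferInstance : N.Normal).conj_mem r (hRN hr) g) (by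
        have e : N.map (MulAut.conj g).toMonoidHom = N := ConjFun.conjMap_eq_self
          ((Subgroup.normalizer_eq_top (H := N)).ge (Subgroup.mem_top g))
        rw [← e, Subgroup.relIndex_map_map_of_injective _ _ (MulAut.conj g).injective]
        exact hRi)
    set y := m * g with hy
    have hyR : ∀ r ∈ R, y * r * y⁻¹ ∈ R := fun r hr => by
      have h1 := hme.le ⟨_, ⟨r, hr, rfl⟩, rfl⟩
      simpa [hy, MulAut.conj_apply, mul_assoc] using h1
    -- now `g = m⁻¹ y`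
    classical
    let s : Finset G := Set.Finite.toFinset
      (Set.toFinite ((Subgroup.normalizer (R : Set G) : Subgroup G) : Set G))
    obtain ⟨h, -, hh, he⟩ := exists_same_action_finset hV hctrl s (by simp [s])
      ((fun a => y * a * y⁻¹) '' A) (by rintro _ ⟨a, ha, rfl⟩; exact hyR a (hA ha))
      m⁻¹ (inv_mem hm) (by
        rintro _ ⟨a, ha, rfl⟩
        convert hg a ha using 1
        rw [hy]
        group)
    have hhW : h ∈ Subgroup.normalizer (W : Set G) := by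
      refine Transfer.mem_normalizer_of_conj_mem fun w hw => ?_
      rw [hW] at hw
      induction hw using Subgroup.closure_induction with
      | mem b hb =>
        simp only [Set.mem_iUnion] at hb
        obtain ⟨x, hx, hb⟩ := hb
        rw [hW]
        exact Subgroup.subset_closure (Set.mem_biUnion hx
          ((Subgroup.mem_normalizer_iff.mp (hh x (by simpa [s] using hx)) b).mp hb))
      | one => simpa using one_mem W
      | mul a b _ _ ha hb => simpa [mul_assoc] using mul_mem ha hb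
      | inv a _ ha => simpa [mul_assoc] using inv_mem ha
    refine ⟨h * y, mul_mem hhW (hNR (Transfer.mem_normalizer_of_conj_mem hyR)), fun a ha => ?_⟩
    calc h * y * a * (h * y)⁻¹ = h * (y * a * y⁻¹) * h⁻¹ := by group
      _ = m⁻¹ * (y * a * y⁻¹) * m⁻¹⁻¹ := he _ ⟨a, ha, rfl⟩
      _ = g * a * g⁻¹ := by rw [hy]; group
  intro A hA g hg
  have hstep : ∀ D : Subgroup G, Transfer.IsTame P D → ∀ x ∈ Subgroup.normalizer (D : Set G),
      ∃ h ∈ Subgroup.normalizer (W : Set G), ∀ d ∈ D, h⁻¹ * d * h = x⁻¹ * d * x :=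
    fun D hD => tame_step P N W hWR hNR hfus _ D hD rfl
  obtain ⟨y, hy, he⟩ := Transfer.exists_conj_eq_of_tame P _ hstep (A : Set G) g⁻¹ hA fun a ha => by
    rw [inv_inv]; exact hg ⟨a, ha, rfl⟩
  refine ⟨y⁻¹, inv_mem hy, y * g, Subgroup.mem_centralizer_iff.mpr fun a ha => ?_, by group⟩
  calc a * (y * g) = y * (y⁻¹ * a * y) * g := by group
    _ = y * g * a := by rw [he a ha]; group

end Cfsg.Agent.S1954
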