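import Cfsg.Statements.S1957
import Cfsg.Agent.Lib.LocalChar.TwoType
import Cfsg.Agent.Lib.Coprime.Generation
import Cfsg.Agent.Lib.Coprime.Stabilize

set_option autoImplicit false
set_option linter.style.haveILetI false
open Cfsg

namespace Cfsg.Agent.S1957

open Subgroup

variable {G : Type*} [Group G] [Finite G]

/-- `O₂(C_G(u))` inside `G`. -/
def core (u : G) : Subgroup G :=
  (Cfsg.pCore 2 ↥(centralizer ({u} : Set G))).map (centralizer ({u} : Set G)).subtype

theorem isPGroup_core (u : G) : IsPGroup 2 (core u) :=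
  haveI : Fact (Nat.Prime 2) := ⟨Nat.prime_two⟩
  PCore.isPGroup_pCore.map _

theorem core_le_sylow {u : G} (R : Sylow 2 ↥(centralizer ({u} : Set G))) :
    core u ≤ (R : Subgroup ↥(centralizer ({u} : Set G))).map (centralizer ({u} : Set G)).subtype :=
  haveI : Fact (Nat.Prime 2) := ⟨Nat.prime_two⟩
  map_mono (PCore.pCore_le_sylow R)

/-- A stabiliser of `O₂(C(u)) > ⟨u⟩` lies in `O₂(C(u))`. -/
theorem mem_core {u : G} (hu : u ^ 2 = 1)
    (hc : Cfsg.IsOfCharacteristicTwo ↥(centralizer ({u} : Set G))) {v : G}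
    (hv : v ∈ centralizer ({u} : Set G))
    (h : ∀ x ∈ core u, v * x * v⁻¹ * x⁻¹ ∈ zpowers u) : v ∈ core u := by
  haveI : Fact (Nat.Prime 2) := ⟨Nat.prime_two⟩
  set M := centralizer ({u} : Set G) with hM
  have hcen : ∀ (a : ↥M) (z : G), z ∈ zpowers u → (a : G) * z * (a : G)⁻¹ = z := by
    intro a z hz
    obtain ⟨k, rfl⟩ := mem_zpowers_iff.1 hz
    have hau : Commute (a : G) u := mem_centralizer_singleton_iff.1 a.2
    rw [(hau.zpow_right k).eq, mul_inv_cancel_right]
  let D : Subgroup ↥M :=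
    { carrier := {m | ∀ x ∈ Cfsg.pCore 2 ↥M, ((m * x * m⁻¹ * x⁻¹ : ↥M) : G) ∈ zpowers u}
      one_mem' := fun x _ => by simp
      mul_mem' := fun {a b} ha hb x hx => by
        have e : a * b * x * (a * b)⁻¹ * x⁻¹ = a * (b * x * b⁻¹ * x⁻¹) * a⁻¹ * (a * x * a⁻¹ * x⁻¹) := by
          group
        rw [e]
        simp only [coe_mul, InvMemClass.coe_inv] at ha hb ⊢
        rw [hcen a _ (hb x hx)]
        exact mul_mem (hb x hx) (ha x hx)
      inv_mem' := fun {a} ha x hx => by
        have e : a⁻¹ * x * a⁻¹⁻¹ * x⁻¹ = a⁻¹ * (a * x * a⁻¹ * x⁻¹)⁻¹ * a⁻¹⁻¹ := by group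
        rw [e]
        simp only [coe_mul, InvMemClass.coe_inv] at ha ⊢
        have := hcen a⁻¹ _ (inv_mem (ha x hx))
        rw [InvMemClass.coe_inv] at this
        rw [this]
        exact inv_mem (ha x hx) }
  have hQn : (Cfsg.pCore 2 ↥M).Normal := PCore.pCore_normal
  have hDn : D.Normal := ⟨fun a ha g x hx => by
    have hx' : g⁻¹ * x * g ∈ Cfsg.pCore 2 ↥M := by simpa using hQn.conj_mem x hx g⁻¹
    have e : g * a * g⁻¹ * x * (g * a * g⁻¹)⁻¹ * x⁻¹ =
        g * (a * (g⁻¹ * x * g) * a⁻¹ * (g⁻¹ * x * g)⁻¹) * g⁻¹ := by group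
    rw [e, coe_mul, coe_mul, InvMemClass.coe_inv g, hcen g _ (ha _ hx')]
    exact ha _ hx'⟩
  have hodd : ∀ d ∈ D, ¬ 2 ∣ orderOf d → d = 1 := by
    intro d hd hnd
    have hdQ : d ∈ Cfsg.pCore 2 ↥M := by
      refine hc (mem_centralizer_iff.2 fun x hx => ?_)
      set z := d * x * d⁻¹ * x⁻¹ with hz
      have hzu : (z : G) ∈ zpowers u := hd x hx
      have hz2 : z ^ 2 = 1 := by
        obtain ⟨k, hk⟩ := mem_zpowers_iff.1 hzu
        refine Subtype.ext ?_
        rw [SubmonoidClass.coe_pow, ← hk, ← zpow_natCast, ← zpow_mul, mul_comm, zpow_mul,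
          zpow_natCast, hu, one_zpow]
        rfl
      refine (Coprime.commute_of_translate (a := d) (h := x) (z := z) (by rw [hz]; group) ?_ ?_).eq.symm
      · refine Subtype.ext ?_
        have := hcen d _ hzu
        rw [mul_inv_eq_iff_eq_mul] at this
        simpa using this
      · exact Nat.Coprime.coprime_dvd_right (orderOf_dvd_of_pow_eq_one hz2)
          ((Nat.prime_two.coprime_iff_not_dvd.2 hnd).symm)
    obtain ⟨k, hk⟩ := IsPGroup.iff_orderOf.1 (PCore.isPGroup_pCore (p := 2) (G := ↥M)) ⟨d, hdQ⟩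
    rw [Subgroup.orderOf_mk] at hk
    rcases Nat.eq_zero_or_pos k with rfl | hk0
    · exact orderOf_eq_one_iff.1 (by simpa using hk)
    · exact absurd (hk ▸ dvd_pow_self 2 hk0.ne') hnd
  have hDp : IsPGroup 2 D := by
    intro d
    obtain ⟨e, m, hm, hcard⟩ :=
      Nat.exists_eq_pow_mul_and_not_dvd (orderOf_pos (d : ↥M)).ne' 2 (by norm_num)
    refine ⟨e, Subtype.ext (hodd _ (pow_mem d.2 _) fun h2 => hm ?_)⟩
    rwa [SubmonoidClass.coe_pow, orderOf_pow_of_dvd (by positivity) (hcard ▸ dvd_mul_right _ _), hcard,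
      Nat.mul_div_cancel_left _ (by positivity)] at h2
  refine ⟨⟨v, hv⟩, LocalChar.le_pCore hDn hDp fun x hx => ?_, rfl⟩
  simpa using h x ⟨x, hx, rfl⟩

/-- In a cyclic group there is at most one involution. -/
theorem eq_of_isCyclic {H : Subgroup G} (hH : IsCyclic ↥H) {a b : G} (ha : a ∈ H) (hb : b ∈ H)
    (ha2 : a ^ 2 = 1) (hb2 : b ^ 2 = 1) (ha1 : a ≠ 1) (hb1 : b ≠ 1) : a = b := by
  classical
  haveI := Fintype.ofFinite ↥H
  by_contra hab
  have h := IsCyclic.card_pow_eq_one_le (α := ↥H) (n := 2) two_pos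
  have hsub : ({1, ⟨a, ha⟩, ⟨b, hb⟩} : Finset ↥H) ⊆ Finset.univ.filter (fun x : ↥H => x ^ 2 = 1) := by
    intro x hx
    simp only [Finset.mem_insert, Finset.mem_singleton] at hx
    refine Finset.mem_filter.2 ⟨Finset.mem_univ _, ?_⟩
    rcases hx with rfl | rfl | rfl <;> apply Subtype.ext <;> simp [ha2, hb2]
  have h3 := Finset.card_le_card hsub
  rw [Finset.card_insert_of_notMem, Finset.card_pair] at h3
  · omega
  · simpa [Subtype.ext_iff] using hab
  · simp [Subtype.ext_iff, Ne.symm ha1, Ne.symm hb1]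

/-- The main configuration: `U` lies in `O₂(C(u))` for each involution `u` of `U`. -/
theorem le_core (h2 : Cfsg.IsCharacteristicTwoType G)
    (P : Sylow 2 G) (U : Subgroup G) (hUP : U ≤ (P : Subgroup G))
    (hUn : (P : Subgroup G) ≤ normalizer (U : Set G)) (hU4 : IsKleinFour ↥U)
    (hUZ : ¬ IsCyclic ↥((P : Subgroup G) ⊓ centralizer ((P : Subgroup G) : Set G)) →
      U ≤ centralizer ((P : Subgroup G) : Set G))
    {u : G} (hu : u ∈ U) (hu1 : u ≠ 1) : U ≤ core u := by
  classical
  haveI : Fact (Nat.Prime 2) := ⟨Nat.prime_two⟩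
  have hcard : Nat.card U = 4 := hU4.card_four
  have hsq : ∀ a ∈ U, a ^ 2 = 1 := fun a ha => by
    have := congrArg Subtype.val (Monoid.pow_exponent_eq_one (⟨a, ha⟩ : ↥U))
    rw [hU4.exponent_two] at this
    simpa using this
  have hinvU : ∀ a ∈ U, a⁻¹ = a := fun a ha => inv_eq_of_mul_eq_one_right (by rw [← pow_two]; exact hsq a ha)
  have hcomm : ∀ a ∈ U, ∀ b ∈ U, a * b = b * a := fun a ha b hb => by
    have h := hinvU (a * b) (mul_mem ha hb)
    rwa [mul_inv_rev, hinvU a ha, hinvU b hb, eq_comm] at h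
  have hu2 : u ^ 2 = 1 := hsq u hu
  have hou : orderOf u = 2 := orderOf_eq_prime hu2 hu1
  have hc : Cfsg.IsOfCharacteristicTwo ↥(centralizer ({u} : Set G)) := by
    have := h2.2 _ (TwoType.isPGroup_zpowers hou) (TwoType.zpowers_ne_bot hou)
    rwa [TwoType.normalizer_zpowers hou] at this
  have hUC : U ≤ centralizer ({u} : Set G) := fun a ha => mem_centralizer_singleton_iff.2 (hcomm a ha u hu)
  have hPsub : ∀ (_ : (P : Subgroup G) ≤ centralizer ({u} : Set G)), core u ≤ (P : Subgroup G) := fun hle => by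
    refine (core_le_sylow (P.subtype hle)).trans ?_
    rintro _ ⟨x, hx, rfl⟩
    exact hx
  by_cases hUc : U ≤ centralizer ((P : Subgroup G) : Set G)
  · have hle : (P : Subgroup G) ≤ centralizer ({u} : Set G) := fun x hx =>
      mem_centralizer_singleton_iff.2 (hUc hu x hx)
    intro v hv
    refine mem_core hu2 hc (hUC hv) fun x hx => ?_
    rw [(hUc hv x (hPsub hle hx)).symm, mul_inv_cancel_right, mul_inv_cancel]
    exact one_mem _
  have hcyc : IsCyclic ↥((P : Subgroup G) ⊓ centralizer ((P : Subgroup G) : Set G)) :=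
    by_contra fun h => hUc (hUZ h)
  -- the involution of `U ∩ Z(P)`
  obtain ⟨z, hzU, hzc, hz1⟩ : ∃ z ∈ U, (∀ x ∈ (P : Subgroup G), x * z = z * x) ∧ z ≠ 1 := by
    haveI : (U.subgroupOf (P : Subgroup G)).Normal := normal_subgroupOf_of_le_normalizer hUn
    have hne : U.subgroupOf (P : Subgroup G) ≠ ⊥ := fun h => hu1 (by
      have hmem : (⟨u, hUP hu⟩ : ↥(P : Subgroup G)) ∈ U.subgroupOf (P : Subgroup G) := hu
      rw [h, mem_bot] at hmem
      exact congrArg Subtype.val hmem)
    obtain ⟨⟨z, hz⟩, hz1⟩ := Subgroup.ne_bot_iff_exists_ne_one.1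
      (PGroup.inf_center_ne_bot P.2 (U.subgroupOf (P : Subgroup G)) hne)
    exact ⟨z, hz.1, fun x hx => congrArg Subtype.val (mem_center_iff.1 hz.2 ⟨x, hx⟩),
      fun e => hz1 (Subtype.ext (Subtype.ext e))⟩
  have hzP : z ∈ (P : Subgroup G) ⊓ centralizer ((P : Subgroup G) : Set G) := ⟨hUP hzU, fun x hx => hzc x hx⟩
  have hz2 : z ^ 2 = 1 := hsq z hzU
  have hel : ∀ v ∈ U, u ≠ z → v = 1 ∨ v = z ∨ v = u ∨ v = z * u := by
    intro v hv huz
    by_contra hne
    simp only [not_or] at hne
    have hsub : (({1, z, u, z * u, v} : Finset G) : Set G) ⊆ (U : Set G) := by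
      intro a ha
      simp only [Finset.coe_insert, Finset.coe_singleton, Set.mem_insert_iff, Set.mem_singleton_iff] at ha
      rcases ha with rfl | rfl | rfl | rfl | rfl
      exacts [one_mem U, hzU, hu, mul_mem hzU hu, hv]
    have h5 : ({1, z, u, z * u, v} : Finset G).card = 5 := by
      rw [Finset.card_insert_of_notMem, Finset.card_insert_of_notMem, Finset.card_insert_of_notMem,
        Finset.card_pair]
      · exact Ne.symm hne.2.2.2
      · simp [Ne.symm hne.2.2.1, hz1]
      · simp [Ne.symm huz, Ne.symm hne.2.1, hu1]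
      · simp only [Finset.mem_insert, Finset.mem_singleton, not_or]
        refine ⟨Ne.symm hz1, Ne.symm hu1, fun h => huz ?_, Ne.symm hne.1⟩
        rw [eq_comm, mul_eq_one_iff_inv_eq, hinvU z hzU] at h
        exact h.symm
    have := Set.ncard_le_ncard hsub (Set.toFinite _)
    rw [Set.ncard_coe_finset, h5] at this
    have h4 : (U : Set G).ncard = 4 := hcard
    omega
  by_cases huz : u = z
  · subst huz
    have hle : (P : Subgroup G) ≤ centralizer ({u} : Set G) := fun x hx =>
      mem_centralizer_singleton_iff.2 (hzc x hx)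
    intro v hv
    refine mem_core hu2 hc (hUC hv) fun x hx => ?_
    have hxP := hPsub hle hx
    have hcv : x * v * x⁻¹ ∈ U := (mem_normalizer_iff.1 (hUn hxP) v).1 hv
    have hv' : v * x * v⁻¹ * x⁻¹ = v * (x * v * x⁻¹)⁻¹ := by group
    rw [hv']
    by_cases hvu : v = u
    · rw [hvu, show x * u * x⁻¹ = u by rw [hzc x hxP, mul_inv_cancel_right], mul_inv_cancel]
      exact one_mem _
    by_cases hv1 : v = 1
    · simp [hv1]
    -- `U = {1, u, v, u v}`
    by_contra hmem
    set c := x * v * x⁻¹ with hcdef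
    have hc1 : c ≠ 1 := fun h => hv1 (by simpa [hcdef] using h)
    have hcu : c ≠ u := fun h => hvu (by
      have h' : v = x⁻¹ * u * x := by rw [← h, hcdef]; group
      rw [h', mul_assoc, ← hzc x hxP, inv_mul_cancel_left])
    have hcv' : c ≠ v := fun h => hmem (by rw [h, mul_inv_cancel]; exact one_mem _)
    have hcuv : c ≠ u * v := fun h => hmem (by
      rw [h, mul_inv_rev, mul_inv_cancel_left]; exact inv_mem (mem_zpowers u))
    have hsub : (({1, u, v, u * v, c} : Finset G) : Set G) ⊆ (U : Set G) := by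
      intro a ha
      simp only [Finset.coe_insert, Finset.coe_singleton, Set.mem_insert_iff, Set.mem_singleton_iff] at ha
      rcases ha with rfl | rfl | rfl | rfl | rfl
      exacts [one_mem U, hu, hv, mul_mem hu hv, hcv]
    have h5 : ({1, u, v, u * v, c} : Finset G).card = 5 := by
      rw [Finset.card_insert_of_notMem, Finset.card_insert_of_notMem, Finset.card_insert_of_notMem,
        Finset.card_pair]
      · exact Ne.symm hcuv
      · simp [Ne.symm hcv', hu1]
      · simp [Ne.symm hvu, Ne.symm hcu, hv1]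
      · simp only [Finset.mem_insert, Finset.mem_singleton, not_or]
        refine ⟨Ne.symm hu1, Ne.symm hv1, fun h => hvu ?_, Ne.symm hc1⟩
        rw [eq_comm, mul_eq_one_iff_inv_eq, hinvU u hu] at h
        exact h.symm
    have := Set.ncard_le_ncard hsub (Set.toFinite _)
    rw [Set.ncard_coe_finset, h5] at this
    have h4 : (U : Set G).ncard = 4 := hcard
    omega
  -- `u` is not central
  suffices hz : z ∈ core u by
    have hu' : u ∈ core u := mem_core hu2 hc (mem_centralizer_singleton_iff.2 rfl) fun x hx => by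
      have hxu : x * u = u * x := by
        obtain ⟨y, -, rfl⟩ := hx
        exact mem_centralizer_singleton_iff.1 y.2
      rw [← hxu, mul_inv_cancel_right, mul_inv_cancel]
      exact one_mem _
    intro v hv
    rcases hel v hv huz with rfl | rfl | rfl | rfl
    exacts [one_mem _, hz, hu', mul_mem hz hu']
  set P0 := (P : Subgroup G) ⊓ centralizer ({u} : Set G) with hP0
  have huP0 : u ∈ P0 := ⟨hUP hu, mem_centralizer_singleton_iff.2 rfl⟩
  have hzP0 : z ∈ P0 := ⟨hUP hzU, hUC hzU⟩
  have hindex : Nat.card P ≤ 2 * Nat.card P0 := by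
    by_cases hall : ∀ x ∈ (P : Subgroup G), x ∈ P0
    · have hPe : (P : Subgroup G) = P0 := le_antisymm hall inf_le_left
      show Nat.card ↥(P : Subgroup G) ≤ _
      rw [hPe]; omega
    push Not at hall
    obtain ⟨y, hyP, hy⟩ := hall
    have key : ∀ x ∈ (P : Subgroup G), x ∈ P0 ∨ x * u * x⁻¹ = z * u := by
      intro x hx
      rcases hel _ ((mem_normalizer_iff.1 (hUn hx) u).1 hu) huz with h | h | h | h
      · exact absurd (by simpa using h) hu1
      · refine absurd ?_ huz
        have h' : u = x⁻¹ * z * x := by rw [← h]; group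
        rw [h', mul_assoc, ← hzc x hx, inv_mul_cancel_left]
      · exact Or.inl ⟨hx, mem_centralizer_singleton_iff.2 (mul_inv_eq_iff_eq_mul.1 h)⟩
      · exact Or.inr h
    have hy' := (key y hyP).resolve_left hy
    have hsub : ((P : Subgroup G) : Set G) ⊆ (P0 : Set G) ∪ (fun a => y * a) '' (P0 : Set G) := by
      intro x hx
      rcases key x hx with h | h
      · exact Or.inl h
      refine Or.inr ⟨y⁻¹ * x, ⟨(P : Subgroup G).mul_mem ((P : Subgroup G).inv_mem hyP) hx, mem_centralizer_singleton_iff.2 ?_⟩, by simp⟩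
      have e : x * u * x⁻¹ = y * u * y⁻¹ := h.trans hy'.symm
      calc y⁻¹ * x * u = y⁻¹ * (x * u * x⁻¹) * x := by group
        _ = u * (y⁻¹ * x) := by rw [e]; group
    have := (Set.ncard_le_ncard hsub (Set.toFinite _)).trans (Set.ncard_union_le _ _)
    rw [Set.ncard_image_of_injective _ (mul_right_injective y)] at this
    have h1 : ((P : Subgroup G) : Set G).ncard = Nat.card P := rfl
    have h0 : (P0 : Set G).ncard = Nat.card P0 := rfl
    omega
  have hP0p : IsPGroup 2 (P0.subgroupOf (centralizer ({u} : Set G))) :=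
    (P.2.to_le (inf_le_left : P0 ≤ _)).comap_subtype
  obtain ⟨R, hR⟩ := hP0p.exists_le_sylow
  set P1 := (R : Subgroup ↥(centralizer ({u} : Set G))).map (centralizer ({u} : Set G)).subtype with hP1
  have hP01 : P0 ≤ P1 := fun a ha => ⟨⟨a, ha.2⟩, hR ha, rfl⟩
  have hP1u : ∀ x ∈ P1, x * u = u * x := by
    rintro _ ⟨y, -, rfl⟩
    exact mem_centralizer_singleton_iff.1 y.2
  refine mem_core hu2 hc (hUC hzU) fun x hxQ => ?_
  have hx : x ∈ P1 := core_le_sylow R hxQ
  by_cases hxP0 : x ∈ P0
  · rw [← hzc x hxP0.1, mul_inv_cancel_right, mul_inv_cancel]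
    exact one_mem _
  -- `P₁` is a Sylow 2-subgroup with `P₀` of index two
  obtain ⟨S, hS⟩ := (R.2.map (centralizer ({u} : Set G)).subtype).exists_le_sylow
  obtain ⟨g, hg⟩ := MulAction.exists_smul_eq G P S
  have hSc : Nat.card S = Nat.card P := by rw [S.card_eq_multiplicity, P.card_eq_multiplicity]
  have hP1S : P1 = (S : Subgroup G) := by
    refine eq_of_le_of_card_ge hS ?_
    have hsub : (P0 : Set G) ∪ (fun a => x * a) '' (P0 : Set G) ⊆ (P1 : Set G) := by
      rintro a (ha | ⟨b, hb, rfl⟩)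
      · exact hP01 ha
      · exact mul_mem hx (hP01 hb)
    have hd : Disjoint (P0 : Set G) ((fun a => x * a) '' (P0 : Set G)) := by
      rw [Set.disjoint_left]
      rintro a ha ⟨b, hb, rfl⟩
      exact hxP0 (by simpa using mul_mem ha (inv_mem hb))
    have := Set.ncard_le_ncard hsub (Set.toFinite _)
    rw [Set.ncard_union_eq hd, Set.ncard_image_of_injective _ (mul_right_injective x)] at this
    have h1 : (P1 : Set G).ncard = Nat.card P1 := rfl
    have h0 : (P0 : Set G).ncard = Nat.card P0 := rfl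
    show Nat.card ↥(S : Subgroup G) ≤ _
    have : Nat.card S = Nat.card P := hSc
    omega
  have hcover : ∀ a ∈ P1, a ∈ P0 ∨ x⁻¹ * a ∈ P0 := by
    intro a ha
    by_contra hne
    push Not at hne
    have hsub : (P0 : Set G) ∪ (fun b => x * b) '' (P0 : Set G) ⊆ (P1 : Set G) \ {a} := by
      rintro b (hb | ⟨c, hc', rfl⟩)
      · exact ⟨hP01 hb, fun e => hne.1 (e ▸ hb)⟩
      · exact ⟨mul_mem hx (hP01 hc'), fun e => hne.2 (by
          rw [Set.mem_singleton_iff] at e
          rw [← e, inv_mul_cancel_left]; exact hc')⟩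
    have hd : Disjoint (P0 : Set G) ((fun b => x * b) '' (P0 : Set G)) := by
      rw [Set.disjoint_left]
      rintro b hb ⟨c, hc', rfl⟩
      exact hxP0 (by simpa using mul_mem hb (inv_mem hc'))
    have := Set.ncard_le_ncard hsub (Set.toFinite _)
    rw [Set.ncard_union_eq hd, Set.ncard_image_of_injective _ (mul_right_injective x),
      Set.ncard_sdiff_singleton_of_mem ha] at this
    have h1 : (P1 : Set G).ncard = Nat.card P1 := rfl
    have h0 : (P0 : Set G).ncard = Nat.card P0 := rfl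
    have hP1c : Nat.card P1 = Nat.card P := by rw [hP1S]; exact hSc
    have : 0 < Nat.card P0 := Nat.card_pos
    omega
  have hxx : x * x ∈ P0 := by
    rcases hcover _ (mul_mem hx hx) with h | h
    · exact h
    · exact absurd (by simpa using h) hxP0
  have hnorm : ∀ p ∈ P0, x⁻¹ * p * x ∈ P0 := by
    intro p hp
    rcases hcover _ (mul_mem (mul_mem (inv_mem hx) (hP01 hp)) hx) with h | h
    · exact h
    · refine absurd ?_ hxP0
      have := mul_mem (inv_mem hp) (mul_mem hxx h)
      rwa [show p⁻¹ * (x * x * (x⁻¹ * (x⁻¹ * p * x))) = x by group] at this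
  set z' := x * z * x⁻¹ with hz'
  have hz'c : ∀ p ∈ P0, p * z' = z' * p := by
    intro p hp
    have h : x⁻¹ * p * x * z = z * (x⁻¹ * p * x) := hzc _ (hnorm p hp).1
    calc p * z' = x * (x⁻¹ * p * x * z) * x⁻¹ := by rw [hz']; group
      _ = z' * p := by rw [h, hz']; group
  set w := z * z' with hw
  have hzz' : Commute z z' := hz'c z hzP0
  have hwP0 : ∀ p ∈ P0, p * w = w * p := fun p hp => by
    have a1 : Commute p z := hzc p hp.1
    have a2 : Commute p z' := hz'c p hp
    exact (a1.mul_right a2).eq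
  have hwx : x * w = w * x := by
    have e : x * z' * x⁻¹ = z := by
      have h : x * x * z = z * (x * x) := hzc _ hxx.1
      calc x * z' * x⁻¹ = x * x * z * (x * x)⁻¹ := by rw [hz']; group
        _ = z := by rw [h, mul_inv_cancel_right]
    have : x * w * x⁻¹ = w := by
      calc x * w * x⁻¹ = (x * z * x⁻¹) * (x * z' * x⁻¹) := by rw [hw]; group
        _ = w := by rw [e, ← hz', hw]; exact hzz'.eq.symm
    exact mul_inv_eq_iff_eq_mul.1 this
  have hwcen : ∀ a ∈ P1, a * w = w * a := by
    intro a ha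
    rcases hcover a ha with h | h
    · exact hwP0 a h
    · have := Commute.mul_left (show Commute x w from hwx) (hwP0 _ h : Commute (x⁻¹ * a) w)
      rwa [mul_inv_cancel_left] at this
  have hw2 : w ^ 2 = 1 := by
    rw [hw, hzz'.mul_pow, hz2, hz', conj_pow, hz2]
    simp
  have hback : ∀ a : G, a ∈ (P1 : Subgroup G) → (∀ b ∈ P1, b * a = a * b) →
      g⁻¹ * a * g ∈ (P : Subgroup G) ⊓ centralizer ((P : Subgroup G) : Set G) := by
    intro a ha hac
    have hmem : ∀ c : G, c ∈ P1 ↔ g⁻¹ * c * g ∈ (P : Subgroup G) := by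
      intro c
      rw [hP1S, ← hg, Sylow.coe_subgroup_smul]
      rw [Subgroup.mem_pointwise_smul_iff_inv_smul_mem]
      simp [MulAut.smul_def]
    refine ⟨(hmem a).1 ha, fun b hb => ?_⟩
    have hb' : g * b * g⁻¹ ∈ P1 := (hmem _).2 (by
      rwa [show g⁻¹ * (g * b * g⁻¹) * g = b by group])
    have := hac _ hb'
    calc b * (g⁻¹ * a * g) = g⁻¹ * ((g * b * g⁻¹) * a) * g := by group
      _ = g⁻¹ * a * g * b := by rw [this]; group
  have hcycg : ∀ a : G, a ∈ P1 → (∀ b ∈ P1, b * a = a * b) → a ^ 2 = 1 → a ≠ 1 → a = u := by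
    intro a ha hac ha2 ha1
    have h := eq_of_isCyclic hcyc (hback a ha hac) (hback u (hP01 huP0) hP1u)
      (by rw [show g⁻¹ * a * g = g⁻¹ * a * g⁻¹⁻¹ by rw [inv_inv], conj_pow, ha2]; simp)
      (by rw [show g⁻¹ * u * g = g⁻¹ * u * g⁻¹⁻¹ by rw [inv_inv], conj_pow, hu2]; simp)
      (fun h => ha1 (by have h' := congrArg (fun t => g * t * g⁻¹) h; simpa [mul_assoc] using h'))
      (fun h => hu1 (by have h' := congrArg (fun t => g * t * g⁻¹) h; simpa [mul_assoc] using h'))
    simpa [mul_assoc] using congrArg (fun t => g * t * g⁻¹) h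
  have hfin : z * x * z⁻¹ * x⁻¹ = w := by rw [hw, hz', hinvU z hzU]; group
  rw [hfin]
  by_cases hw1 : w = 1
  · rw [hw1]; exact one_mem _
  · rw [hcycg w (mul_mem (hP01 hzP0) (mul_mem (mul_mem hx (hP01 hzP0)) (inv_mem hx))) hwcen hw2 hw1]
    exact mem_zpowers u

/-- Let `G` be a finite non-abelian simple group in which every local subgroup is solvable and which is of characteristic 2 type. Let `P` be a Sylow 2-subgroup of `G` and `U` a normal subgroup of `P` that is a four-group, with `U` central in `P` if the centre of `P` is not cyclic. Then `U` centralizes every subgroup of odd order of `G` that it normalizes. -/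
theorem result {G : Type*} [Group G] [Finite G]
    [IsSimpleGroup G] (hna : ¬ IsMulCommutative G) (hN : Cfsg.IsNGroup G) (h2 : Cfsg.IsCharacteristicTwoType G)
    (P : Sylow 2 G) (U : Subgroup G) (hUP : U ≤ (P : Subgroup G)) (hUn : (P : Subgroup G) ≤ Subgroup.normalizer (U : Set G))
    (hU4 : IsKleinFour ↥U)
    (hUZ : ¬ IsCyclic ↥((P : Subgroup G) ⊓ Subgroup.centralizer ((P : Subgroup G) : Set G)) →
      U ≤ Subgroup.centralizer ((P : Subgroup G) : Set G))
    (K : Subgroup G) (hK : Odd (Nat.card K)) (hUK : U ≤ Subgroup.normalizer (K : Set G)) :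
    U ≤ Subgroup.centralizer (K : Set G) := by
  classical
  haveI : Fact (Nat.Prime 2) := ⟨Nat.prime_two⟩
  haveI : IsMulCommutative ↥U := ⟨⟨fun a b => by
    have h : ∀ c : ↥U, c⁻¹ = c := fun c => inv_eq_of_mul_eq_one_right (by
      rw [← pow_two, ← hU4.exponent_two]; exact Monoid.pow_exponent_eq_one c)
    have := h (a * b)
    rw [mul_inv_rev, h a, h b] at this
    exact this.symm⟩⟩
  have hncyc : ¬ IsCyclic ↥U := fun h => by
    have := h.exponent_eq_card
    rw [hU4.exponent_two, hU4.card_four] at this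
    omega
  have hcop : (Nat.card U).Coprime (Nat.card K) := by
    rw [hU4.card_four, show (4 : ℕ) = 2 ^ 2 from rfl]
    exact (Nat.coprime_two_left.2 hK).pow_left 2
  have hS : K ⊓ Subgroup.centralizer (U : Set G) = K := by
    refine Coprime.eq_of_forall_centralizer_le hncyc hUK hcop inf_le_left fun a ha ha1 y hy => ⟨hy.1, ?_⟩
    intro v hv
    have hQ := le_core h2 P U hUP hUn hU4 hUZ ha ha1 hv
    have hyC : y ∈ Subgroup.centralizer ({a} : Set G) := hy.2
    refine (TwoType.commute_of_mem_of_coprime (isPGroup_core a) hK ?_ ?_).eq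
    · exact mul_mem ((Subgroup.mem_normalizer_iff.1 (hUK hv) y).1 hy.1) (inv_mem hy.1)
    · have hn : y * v⁻¹ * y⁻¹ ∈ core a := by
        obtain ⟨q, hq, hqv⟩ := inv_mem hQ
        refine ⟨⟨y, hyC⟩ * q * ⟨y, hyC⟩⁻¹,
          PCore.pCore_normal.conj_mem q hq _, ?_⟩
        simp only [map_mul, map_inv, hqv]
        rfl
      rw [show v * y * v⁻¹ * y⁻¹ = v * (y * v⁻¹ * y⁻¹) by group]
      exact mul_mem hQ hn
  intro v hv y hy
  have hy' : y ∈ K ⊓ Subgroup.centralizer (U : Set G) := by rw [hS]; exact hy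
  exact (hy'.2 v hv).symm

end Cfsg.Agent.S1957
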