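import Cfsg.Statements.S1958
import Cfsg.Agent.Lib.PCore.Constrained

set_option autoImplicit false
open Cfsg

namespace Cfsg.Agent.S1958

open Subgroup

theorem inf_le_core {G : Type*} [Group G] [Finite G] {p : ℕ} [Fact p.Prime] {x y : G}
    (hy : orderOf y = p) (hxy : x * y = y * x)
    (hCx : Group.IsSolvable ↥(Subgroup.centralizer ({x} : Set G))) :
    Cfsg.centralizerPPrimeCore p y ⊓ Subgroup.centralizer {x} ≤ Cfsg.centralizerPPrimeCore p x := by
  rintro g ⟨hg, hgx⟩
  set H := Subgroup.centralizer ({x} : Set G) with hH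
  haveI : Group.IsSolvable ↥H := hCx
  have hyH : y ∈ H := mem_centralizer_singleton_iff.2 hxy.symm
  set Y : Subgroup ↥H := zpowers ⟨y, hyH⟩ with hY
  have hYp : IsPGroup p ↥Y := IsPGroup.of_card (n := 1) (by
    rw [hY, Nat.card_zpowers, ← orderOf_injective H.subtype H.subtype_injective, pow_one]
    exact hy)
  have hG : Cfsg.IsPConstrained p ↥H :=
    PCore.isPConstrained_iff.2 (PCore.centralizer_pCore_le_of_isSolvable PCore.pPrimeCore_quotient_self_eq_bot)
  set C := Subgroup.centralizer (Y : Set ↥H) with hC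
  have hmemC : ∀ h : ↥H, h ∈ C ↔ (h : G) ∈ Subgroup.centralizer ({y} : Set G) := fun h => by
    rw [hC, hY, zpowers_eq_closure, centralizer_closure, mem_centralizer_singleton_iff,
      mem_centralizer_singleton_iff, Subtype.ext_iff]
    rfl
  set D := Cfsg.centralizerPPrimeCore p y with hD
  have hDle : D ≤ Subgroup.centralizer ({y} : Set G) := map_subtype_le _
  have hDn : Subgroup.centralizer ({y} : Set G) ≤ Subgroup.normalizer (D : Set G) :=
    fun c hc => by
      haveI : (Cfsg.pPrimeCore p ↥(Subgroup.centralizer ({y} : Set G))).Normal :=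
        PCore.pPrimeCore_normal
      refine mem_normalizer_fintype ?_
      rintro _ ⟨d, hd, rfl⟩
      exact ⟨⟨c, hc⟩ * d * ⟨c, hc⟩⁻¹, Normal.conj_mem inferInstance d hd _, rfl⟩
  set M := (D.subgroupOf H).subgroupOf C with hM
  haveI : M.Normal := ⟨fun m hm c => by
    rw [hM, mem_subgroupOf, mem_subgroupOf] at hm ⊢
    exact (mem_normalizer_iff.1 (hDn ((hmemC c.1).1 c.2)) _).1 hm⟩
  have hMcard : (Nat.card M).Coprime p :=
    (PCore.coprime_card_pPrimeCore (G := ↥(Subgroup.centralizer ({y} : Set G)))).coprime_dvd_left (by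
      have e : Nat.card ↥D = Nat.card ↥(Cfsg.pPrimeCore p ↥(Subgroup.centralizer ({y} : Set G))) :=
        card_map_of_injective (Subgroup.subtype_injective _)
      rw [← e]
      exact (card_comap_dvd_of_injective _ _ C.subtype_injective).trans
        (card_comap_dvd_of_injective _ _ H.subtype_injective))
  have hgC : (⟨g, hgx⟩ : ↥H) ∈ C := (hmemC _).2 (hDle hg)
  have hgM : (⟨⟨g, hgx⟩, hgC⟩ : ↥C) ∈ Cfsg.pPrimeCore p ↥C :=
    PCore.le_pPrimeCore hMcard (show _ ∈ M from hg)
  rw [← PCore.ker_eq_pPrimeCore _ (MonoidHom.subgroupMap_surjective _ _) (PCore.ker_subgroupMap_mk' _)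
    (PCore.pPrimeCore_eq_bot_of_cp (PCore.cp_map_centralizer hG hYp))] at hgM
  exact ⟨⟨g, hgx⟩, (QuotientGroup.eq_one_iff _).1 (congrArg Subtype.val hgM), rfl⟩


/-- Let `G` be a finite group, `p` a prime, and `x, y` commuting elements of order `p` whose centralizers `C_G(x)` and `C_G(y)` are both solvable. Then `O_{p'}(C_G(x)) ∩ C_G(y) = O_{p'}(C_G(y)) ∩ C_G(x)` (balance). -/
theorem result {G : Type*} [Group G] [Finite G]
    (p : ℕ) [Fact p.Prime] (x y : G) (hx : orderOf x = p) (hy : orderOf y = p) (hxy : x * y = y * x)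
    (hCx : Group.IsSolvable ↥(Subgroup.centralizer ({x} : Set G))) (hCy : Group.IsSolvable ↥(Subgroup.centralizer ({y} : Set G))) :
    Cfsg.centralizerPPrimeCore p x ⊓ Subgroup.centralizer {y} = Cfsg.centralizerPPrimeCore p y ⊓ Subgroup.centralizer {x} := by
  exact le_antisymm (le_inf (inf_le_core hx hxy.symm hCy) (inf_le_left.trans (Subgroup.map_subtype_le _)))
    (le_inf (inf_le_core hy hxy hCx) (inf_le_left.trans (Subgroup.map_subtype_le _)))

end Cfsg.Agent.S1958
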