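import Cfsg.Statements.S1966
import Cfsg.Agent.Lib.PCore.Basic

set_option autoImplicit false
open Cfsg

namespace Cfsg.Agent.S1966

/-- Let p be a prime, G a finite group with Sylow p-subgroup S and 𝓕 a conjugation family for S in G. Then the members of 𝓕 containing O_p(G) still form a conjugation family for S in G. -/
theorem result {G : Type*} [Group G] [Finite G] {p : ℕ} [Fact p.Prime] (S : Sylow p G) (𝓕 : Set (Subgroup G)) (h : Cfsg.IsConjugationFamily 𝓕 (S : Subgroup G)) : Cfsg.IsConjugationFamily {T : Subgroup G | T ∈ 𝓕 ∧ Cfsg.pCore p G ≤ T} (S : Subgroup G) := by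
  refine ⟨fun T hT => h.1 T hT.1, fun A g hne hA hAg => ?_⟩
  set Q := Cfsg.pCore p G with hQ
  have hQn : Q.Normal := PCore.pCore_normal
  have hQS : (Q : Set G) ⊆ (S : Subgroup G) := PCore.pCore_le_sylow S
  obtain ⟨n, T, x, hx, hF, hN, h0, hi⟩ := h.2 (A ∪ Q) g (hne.mono Set.subset_union_left)
    (Set.union_subset hA hQS) (by
      rw [Set.image_union]
      refine Set.union_subset hAg ?_
      rintro _ ⟨q, hq, rfl⟩
      exact hQS (by simpa using hQn.conj_mem q hq g⁻¹))
  refine ⟨n, T, x, hx, fun i => ⟨hF i, ?_⟩, hN,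
    fun hn => Set.subset_union_left.trans (h0 hn), fun i hlt => ?_⟩
  · obtain ⟨_ | j, hj⟩ := i
    · exact Set.subset_union_right.trans (h0 hj)
    · intro q hq
      set w := ((List.ofFn x).take (j + 1)).prod with hw
      have h1 := hi ⟨j, by omega⟩ hj
        ⟨w * q * w⁻¹, Set.mem_union_right A (hQn.conj_mem q hq w), rfl⟩
      simpa [hw, mul_assoc] using h1
  · exact (Set.image_mono Set.subset_union_left).trans (hi i hlt)

end Cfsg.Agent.S1966
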