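import Cfsg.Statements.S1969
import Cfsg.Agent.Lib.Transfer.SectionFusion

set_option autoImplicit false
universe u
open Cfsg

namespace Cfsg.Agent.S1969

/-- Let p be a prime, G a finite group and W an isomorphism-invariant p-group functor (W assigns to every group Q a subgroup W(Q), nontrivial whenever Q is a nontrivial finite p-group, and every isomorphism from a finite p-group Q onto a group R carries W(Q) onto W(R)). Suppose that W(S*) is normal in G* whenever G* = K/R is a section of G with C_{G*}(O_p(G*)) ≤ O_p(G*) and S* is a Sylow p-subgroup of G*. Then W controls strong fusion in every section of G: for every section K/R and every Sylow p-subgroup T of K/R, the subgroup W(T) controls strong fusion in K/R. -/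
theorem result {G : Type u} [Group G] [Finite G] {p : ℕ} [Fact p.Prime] (W : ∀ (Q : Type u) [Group Q], Subgroup Q) (hW : Cfsg.IsCharPFunctor.{u} p W) (hloc : ∀ (K R : Subgroup G) [hR : (R.subgroupOf K).Normal], Subgroup.centralizer ((Cfsg.pCore p (↥K ⧸ R.subgroupOf K) : Subgroup (↥K ⧸ R.subgroupOf K)) : Set (↥K ⧸ R.subgroupOf K)) ≤ Cfsg.pCore p (↥K ⧸ R.subgroupOf K) → ∀ T : Sylow p (↥K ⧸ R.subgroupOf K), (Cfsg.inducedFunctor (G := (↥K ⧸ R.subgroupOf K)) W ((T : Subgroup (↥K ⧸ R.subgroupOf K)))).Normal) : ∀ (K R : Subgroup G) [hR : (R.subgroupOf K).Normal], ∀ T : Sylow p (↥K ⧸ R.subgroupOf K), Cfsg.ControlsStrongFusion p (Cfsg.inducedFunctor (G := (↥K ⧸ R.subgroupOf K)) W ((T : Subgroup (↥K ⧸ R.subgroupOf K)))) := by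
  have h𝓦 : ∀ V ∈ ({W} : Set (∀ (Q : Type u) [Group Q], Subgroup Q)),
      Cfsg.IsCharPFunctor.{u} p V := by
    rintro V rfl
    exact hW
  intro K R hR T
  have hfus : Transfer.Fus p ({W} : Set (∀ (Q : Type u) [Group Q], Subgroup Q))
      (↥K ⧸ R.subgroupOf K) := by
    refine Transfer.fus_of_constrained_sections (G := G) h𝓦 (fun K' R' _ hC => ?_) _
      (ConjFun.involves_of_section K R)
    obtain ⟨S⟩ : Nonempty (Sylow p (↥K' ⧸ R'.subgroupOf K')) := inferInstance
    refine Transfer.familyControlsStrongFusionIn_of_lchain le_top S.2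
      (by rw [Subgroup.relIndex_top_right]; exact S.not_dvd_index) fun A g _ hA hAg => ?_
    refine Transfer.LChain.single ⟨_, ⟨W, rfl, rfl⟩, rfl⟩ (Subgroup.mem_inf.mpr ⟨Subgroup.mem_top g, ?_⟩) hAg
    rw [Subgroup.normalizer_eq_top_iff.mpr (hloc K' R' hC S)]
    exact Subgroup.mem_top g
  refine ⟨T, ConjFun.inducedFunctor_le W _, fun A hA => ⟨hA, fun g hg => ?_⟩⟩
  have hch := Transfer.lchain_of_familyControlsStrongFusionIn
    (Transfer.isConjugacyFunctor_sectionFamily h𝓦) le_top T.2
    (by rw [Subgroup.relIndex_top_right]; exact T.not_dvd_index) hfus (A := A) (g := g)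
    (Subgroup.mem_top g) hA fun a ha => hg ⟨a, ha, rfl⟩
  rw [Transfer.sectionFamily, Set.image_singleton] at hch
  obtain ⟨x, hx, he⟩ := Transfer.lchain_singleton_exists hch
  exact ⟨x, hx.2, fun a ha => (he a ha).symm⟩

end Cfsg.Agent.S1969
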