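import Cfsg.Statements.S1971
import Cfsg.Agent.Lib.ConjFun.Sections
import Cfsg.Agent.Lib.PGroup.Frattini
import Cfsg.Agent.Lib.ConjFun.Parts

set_option autoImplicit false
universe u
open Cfsg

namespace Cfsg.Agent.S1971

open ConjFun
open scoped commutatorElement

/-- A Sylow subgroup outside the derived subgroup gives a normal subgroup of index `p`. -/
theorem exists_index_p {G : Type u} [Group G] [Finite G] {p : ℕ} [Fact p.Prime] (S : Sylow p G)
    (h : ¬ (S : Subgroup G) ≤ commutator G) : ∃ N : Subgroup G, N.Normal ∧ N.index = p := by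
  letI : CommGroup (G ⧸ commutator G) := inferInstanceAs (CommGroup (Abelianization G))
  set π := QuotientGroup.mk' (commutator G) with hπ
  let Sb : Sylow p (G ⧸ commutator G) := S.mapSurjective (QuotientGroup.mk'_surjective _)
  have hSb : (Sb : Subgroup (G ⧸ commutator G)) ≠ ⊥ := by
    intro hbot
    apply h
    intro s hs
    have : π s ∈ (Sb : Subgroup (G ⧸ commutator G)) := by
      rw [Sylow.coe_mapSurjective]
      exact ⟨s, hs, rfl⟩
    rw [hbot, Subgroup.mem_bot] at this
    exact (QuotientGroup.eq_one_iff s).mp this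
  obtain ⟨k, hk⟩ := IsPGroup.iff_card.mp Sb.2
  set R := (powMonoidHom (p ^ k) : (G ⧸ commutator G) →* (G ⧸ commutator G)).range with hR
  have hQ : IsPGroup p ((G ⧸ commutator G) ⧸ R) := fun x => by
    obtain ⟨y, rfl⟩ := QuotientGroup.mk'_surjective R x
    exact ⟨k, (QuotientGroup.eq_one_iff _).mpr ⟨y, rfl⟩⟩
  have hne : (⊥ : Subgroup ((G ⧸ commutator G) ⧸ R)) ≠ ⊤ := by
    intro he
    have hRtop : R = ⊤ := by
      rw [eq_top_iff]
      intro y _
      have : QuotientGroup.mk' R y ∈ (⊥ : Subgroup ((G ⧸ commutator G) ⧸ R)) := he ▸ trivial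
      exact (QuotientGroup.eq_one_iff y).mp (Subgroup.mem_bot.mp this)
    have hinj : Function.Injective (powMonoidHom (p ^ k) : (G ⧸ commutator G) →* _) :=
      Finite.injective_iff_surjective.mpr (MonoidHom.range_eq_top.mp hRtop)
    refine hSb ((Subgroup.eq_bot_iff_forall _).mpr fun x hx => hinj ?_)
    have hpow : (⟨x, hx⟩ : ↥(Sb : Subgroup (G ⧸ commutator G))) ^ p ^ k = 1 := hk ▸ pow_card_eq_one'
    simpa [powMonoidHom_apply] using congrArg Subtype.val hpow
  obtain ⟨M, hM, -⟩ := (IsCoatomic.eq_top_or_exists_le_coatom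
    (⊥ : Subgroup ((G ⧸ commutator G) ⧸ R))).resolve_left hne
  haveI : M.Normal := PGroup.normal_of_isCoatom hQ hM
  refine ⟨(M.comap (QuotientGroup.mk' R)).comap π, inferInstance, ?_⟩
  rw [Subgroup.index_comap_of_surjective _ (QuotientGroup.mk'_surjective _),
    Subgroup.index_comap_of_surjective _ (QuotientGroup.mk'_surjective _)]
  exact PGroup.index_of_isCoatom hQ hM

/-- The induction. -/
theorem sylow_not_le_commutator {p : ℕ} [Fact p.Prime] (W : ∀ (Q : Type u) [Group Q], Subgroup Q)
    (hW : Cfsg.IsCharPFunctor.{u} p W) : ∀ (n : ℕ) (G : Type u) [Group G] [Finite G],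
    Nat.card G = n → (∀ (X : Type u) [Group X], Cfsg.Involves X G → Controls p {W} X) →
    ∀ S : Sylow p G, (S : Subgroup G) ≠ ⊥ →
      (∀ g ∈ Subgroup.normalizer ((S : Subgroup G) : Set G), (orderOf g).Coprime p →
        g ∈ Subgroup.centralizer ((S : Subgroup G) : Set G)) →
      ¬ (S : Subgroup G) ≤ commutator G := by
  intro n
  induction n using Nat.strong_induction_on with
  | _ n IH =>
  intro G _ _ hn hctl S hS hN hle
  have h𝓦 : ∀ V ∈ ({W} : Set (∀ (Q : Type u) [Group Q], Subgroup Q)),
      Cfsg.IsCharPFunctor.{u} p V := by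
    rintro V rfl
    exact hW
  have hWc := isConjugacyFunctor_inducedFunctor (G := G) hW
  set U := Cfsg.inducedFunctor (G := G) W (S : Subgroup G) with hU
  set N := Subgroup.normalizer (U : Set G) with hNdef
  have hSN : (S : Subgroup G) ≤ N := le_normalizer_functor hWc S.2
  by_cases hNtop : N = ⊤
  · haveI hUn : U.Normal := Subgroup.normalizer_eq_top_iff.mp hNtop
    set π := QuotientGroup.mk' U with hπ
    let Sb : Sylow p (G ⧸ U) := S.mapSurjective (QuotientGroup.mk'_surjective U)
    have hSbc : (Sb : Subgroup (G ⧸ U)) = (S : Subgroup G).map π := Sylow.coe_mapSurjective _ _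
    by_cases hSb : (Sb : Subgroup (G ⧸ U)) = ⊥
    · have hSn : (S : Subgroup G).Normal := by
        have : (S : Subgroup G) = U := le_antisymm (by
          rw [hSbc, Subgroup.map_eq_bot_iff] at hSb
          exact hSb.trans (QuotientGroup.ker_mk' U).le) (inducedFunctor_le W _)
        rwa [this]
      haveI := hSn
      have hlt : ⁅(S : Subgroup G), (S : Subgroup G)⁆ ≠ (S : Subgroup G) := by
        intro he
        haveI : Nontrivial ↥(S : Subgroup G) := (Subgroup.nontrivial_iff_ne_bot _).mpr hS
        haveI : Group.IsNilpotent ↥(S : Subgroup G) := S.2.isNilpotent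
        refine (IsSolvable.commutator_lt_top_of_nontrivial ↥(S : Subgroup G)).ne ?_
        apply Subgroup.map_injective (S : Subgroup G).subtype_injective
        rw [Subgroup.map_subtype_commutator, he, ← MonoidHom.range_eq_map, Subgroup.range_subtype]
      refine hlt (le_antisymm (Subgroup.commutator_le_self _) ?_)
      refine (le_inf hle le_rfl).trans ?_
      rw [Subgroup.commutator_inf_eq_focalSubgroup, Subgroup.focalSubgroup, Subgroup.closure_le]
      rintro _ ⟨-, x, hx, u, rfl⟩
      obtain ⟨g₁, g₂, hg, hg₁, hg₂, -⟩ := exists_decomp (p := p) u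
      have hg₁S : g₁ ∈ (S : Subgroup G) := by
        obtain ⟨P', hP'⟩ := hg₁.exists_le_sylow
        obtain ⟨c, hc⟩ := MulAction.exists_smul_eq G S P'
        rw [← Sylow.smul_eq_of_normal (g := c) (P := S), hc]
        exact hP' (Subgroup.mem_zpowers g₁)
      have hcz := hN g₂ ((Subgroup.normalizer_eq_top (H := (S : Subgroup G))).ge
        (Subgroup.mem_top g₂)) hg₂
      have e : ⁅x, u⁆ = ⁅x, g₁⁆ := by
        have h1 : g₂ * x⁻¹ * g₂⁻¹ = x⁻¹ := by
          rw [mul_inv_eq_iff_eq_mul]
          exact (hcz _ (inv_mem hx)).symm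
        rw [hg, commutatorElement_def, commutatorElement_def, mul_inv_rev]
        calc x * (g₁ * g₂) * x⁻¹ * (g₂⁻¹ * g₁⁻¹) = x * g₁ * (g₂ * x⁻¹ * g₂⁻¹) * g₁⁻¹ := by group
          _ = _ := by rw [h1]
      rw [SetLike.mem_coe, e]
      exact Subgroup.commutator_mem_commutator hx hg₁S
    · have hne : U ≠ ⊥ := inducedFunctor_ne_bot hW S.2 hS
      refine IH _ (hn ▸ card_quotient_lt hne) (G ⧸ U) rfl
        (fun X _ hX => hctl X (involves_trans hX (involves_quotient U))) Sb hSb ?_ ?_
      · intro y hy hcop
        obtain ⟨g, rfl⟩ := QuotientGroup.mk'_surjective U y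
        have hg : g ∈ Subgroup.normalizer ((S : Subgroup G) : Set G) := by
          rw [hSbc] at hy
          have h1 : g ∈ (Subgroup.normalizer (((S : Subgroup G).map π : Subgroup (G ⧸ U)) :
              Set (G ⧸ U))).comap π := hy
          rw [Subgroup.comap_normalizer_eq_of_surjective _ (QuotientGroup.mk'_surjective U),
            Subgroup.comap_map_eq, QuotientGroup.ker_mk',
            sup_eq_left.mpr (show U ≤ (S : Subgroup G) from inducedFunctor_le W _)] at h1
          exact h1
        obtain ⟨g₁, g₂, hg', hg₁, hg₂, hpow⟩ := exists_decomp (p := p) g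
        have hπg : π g = π g₂ := by
          have h1 : orderOf (π g₁) = 1 := by
            obtain ⟨j, hj⟩ := IsPGroup.iff_orderOf.mp hg₁ ⟨g₁, Subgroup.mem_zpowers g₁⟩
            rw [Subgroup.orderOf_mk] at hj
            obtain ⟨m, hm⟩ := hpow
            refine Nat.eq_one_of_dvd_coprimes (hcop.pow_right j) ?_
              (hj ▸ orderOf_map_dvd π g₁)
            rw [hm, map_pow]
            exact orderOf_pow_dvd m
          rw [hg', map_mul, orderOf_eq_one_iff.mp h1, one_mul]
        show π g ∈ _
        rw [hπg, hSbc]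
        have hg₂N : g₂ ∈ Subgroup.normalizer ((S : Subgroup G) : Set G) := by
          obtain ⟨m, hm⟩ := hpow
          rw [show g₂ = g₁⁻¹ * g by rw [hg', inv_mul_cancel_left], hm]
          exact mul_mem (inv_mem (pow_mem hg m)) hg
        rintro _ ⟨x, hx, rfl⟩
        rw [← map_mul, ← map_mul, hN g₂ hg₂N hg₂ x hx]
      · rw [hSbc, commutator_def, ← Subgroup.map_top_of_surjective π
          (QuotientGroup.mk'_surjective U), ← Subgroup.map_commutator, ← commutator_def]
        exact Subgroup.map_mono hle
  · have h1 := hctl G (involves_refl G) S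
    rw [transferGen_inducedFamily, iSup_singleton] at h1
    have h2 : (S : Subgroup G) ≤ ⁅N, N⁆ := (le_inf le_rfl hle).trans (h1.trans inf_le_right)
    let SN : Sylow p ↥N := S.subtype hSN
    refine IH _ (hn ▸ card_lt_of_ne_top hNtop) ↥N rfl
      (fun X _ hX => hctl X (involves_trans hX (involves_subgroup N))) SN ?_ ?_ ?_
    · rw [Sylow.coe_subtype, Ne, Subgroup.subgroupOf_eq_bot, disjoint_iff, inf_eq_left.mpr hSN]
      exact hS
    · intro g hg hcop
      rw [Sylow.coe_subtype] at hg ⊢
      have hgS : (g : G) ∈ Subgroup.normalizer ((S : Subgroup G) : Set G) := by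
        rw [Subgroup.mem_normalizer_iff] at hg ⊢
        intro x
        refine ⟨fun hx => (hg ⟨x, hSN hx⟩).mp hx, fun hx => ?_⟩
        have hxN : x ∈ N := by
          have := mul_mem (mul_mem (inv_mem g.2) (hSN hx)) g.2
          simpa [mul_assoc] using this
        exact (hg ⟨x, hxN⟩).mpr hx
      intro x hx
      exact Subtype.ext (hN g hgS (by rwa [Subgroup.orderOf_coe]) x hx)
    · intro x hx
      rw [Sylow.coe_subtype] at hx
      have h3 : (x : G) ∈ (commutator ↥N).map N.subtype := by
        rw [Subgroup.map_subtype_commutator]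
        exact h2 hx
      obtain ⟨y, hy, he⟩ := h3
      exact N.subtype_injective he ▸ hy

/-- Let p be a prime, G a finite group with nontrivial Sylow p-subgroup S, and W an isomorphism-invariant p-group functor (W assigns to every group Q a subgroup W(Q), nontrivial whenever Q is a nontrivial finite p-group, and every isomorphism from a finite p-group Q onto a group R carries W(Q) onto W(R)) that controls transfer in every section of G. If N_G(S)/C_G(S) is a p-group (every element of N_G(S) of order prime to p centralizes S), then G has a normal subgroup of index p. -/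
theorem result {G : Type u} [Group G] [Finite G] {p : ℕ} [Fact p.Prime] (W : ∀ (Q : Type u) [Group Q], Subgroup Q) (hW : Cfsg.IsCharPFunctor.{u} p W) (hctl : ∀ (K R : Subgroup G) [hR : (R.subgroupOf K).Normal], Cfsg.ControlsTransferIn p (Cfsg.inducedFunctor (G := (↥K ⧸ R.subgroupOf K)) W) ⊤) (S : Sylow p G) (hS : (S : Subgroup G) ≠ ⊥) (hN : ∀ g ∈ Subgroup.normalizer (((S : Subgroup G) : Subgroup G) : Set G), (orderOf g).Coprime p → g ∈ Subgroup.centralizer ((S : Subgroup G) : Set G)) : ∃ N : Subgroup G, N.Normal ∧ N.index = p := by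
  have h𝓦 : ∀ V ∈ ({W} : Set (∀ (Q : Type u) [Group Q], Subgroup Q)),
      Cfsg.IsCharPFunctor.{u} p V := by
    rintro V rfl
    exact hW
  refine exists_index_p S (sylow_not_le_commutator W hW _ G rfl (fun X _ hX => ?_) S hS hN)
  obtain ⟨K, R, hR, ⟨e⟩⟩ := hX
  haveI : Finite X := Finite.of_equiv _ e.toEquiv
  refine controls_congr h𝓦 e ((controls_iff_family h𝓦).mp ?_)
  have h := (controlsTransferIn_top_iff _).mp (hctl K R)
  rwa [← inducedFamily_singleton] at h

end Cfsg.Agent.S1971
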