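import Cfsg.Statements.S1989
import Cfsg.Agent.Lib.ConjFun.KInfControl
import Cfsg.Agent.Lib.Qd.Stability
import Cfsg.Agent.Lib.Qd.Converse

set_option autoImplicit false
universe u
open Cfsg

namespace Cfsg.Agent.S1989

open scoped commutatorElement
open Cfsg.Agent.RankTwo Cfsg.Agent.Qd

theorem kInfLower_eq_top {P : Type u} [Group P] (h : ∀ a b c : P, Commute ⁅a, b⁆ c) :
    Cfsg.kInfLower P = ⊤ := by
  have hc : ⁅(⊤ : Subgroup P), ⊤⁆ ≤ Subgroup.centralizer ((⊤ : Subgroup P) : Set P) :=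
    Subgroup.commutator_le.2 fun a _ b _ =>
      Subgroup.mem_centralizer_iff.2 fun c _ => (h a b c).eq.symm
  have hmem : (⊤ : Subgroup P) ∈ Cfsg.kLowerStarFamily (Cfsg.kSeqOdd P 0) := by
    refine ⟨hc, ?_, fun A _ _ _ _ _ => ?_⟩
    · rw [Subgroup.normalizer_eq_top]; exact le_top
    · exact le_inf le_top ((Subgroup.commutator_mono le_rfl le_top).trans hc)
  exact top_le_iff.1 ((le_sSup hmem).trans (le_iSup (Cfsg.kSeqEven P) 0))

theorem commute_commutator_qdUpper {p : ℕ} [Fact p.Prime] {g h k : ↥(Cfsg.qd p)}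
    (hg : g ∈ qdUpper p) (hh : h ∈ qdUpper p) (hk : k ∈ qdUpper p) : Commute ⁅g, h⁆ k := by
  have h11 : ∀ x : ↥(qdUpper p), ent x.1 1 1 = 1 := fun x => by
    have hd := ent_det x.1
    rw [x.2.1, x.2.2] at hd
    linear_combination hd
  let ψ : ↥(qdUpper p) →* Multiplicative (ZMod p × ZMod p) :=
    MonoidHom.mk' (fun x => Multiplicative.ofAdd (ent x.1 0 1, ent x.1 1 2)) fun x y => by
      obtain ⟨r0, r1, r2⟩ := ent_row y.1
      rw [← ofAdd_add, Prod.mk_add_mk]
      congr 2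
      · rw [Subgroup.coe_mul, ent_mul, x.2.2, h11 y, r1]; ring
      · rw [Subgroup.coe_mul, ent_mul, x.2.1, h11 x, r2]; ring
  have hψ : ψ ⁅(⟨g, hg⟩ : ↥(qdUpper p)), (⟨h, hh⟩ : ↥(qdUpper p))⁆ = 1 := by
    rw [map_commutatorElement, commutatorElement_eq_one_iff_mul_comm, mul_comm]
  have hcoe : ((⁅(⟨g, hg⟩ : ↥(qdUpper p)), (⟨h, hh⟩ : ↥(qdUpper p))⁆ : ↥(qdUpper p)) : ↥(Cfsg.qd p)) = ⁅g, h⁆ := rfl
  have hm : ⁅g, h⁆ ∈ qdUpper p := hcoe ▸ (⁅(⟨g, hg⟩ : ↥(qdUpper p)), (⟨h, hh⟩ : ↥(qdUpper p))⁆).2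
  have h0 := congrArg Multiplicative.toAdd hψ
  simp only [ψ, MonoidHom.mk'_apply, toAdd_ofAdd, toAdd_one, Prod.ext_iff, Prod.fst_zero,
    Prod.snd_zero, hcoe] at h0
  have hc : ⁅g, h⁆ = qdT (ent ⁅g, h⁆ 0 2, 0) := by
    have e := eq_of_mem_qdUpper hm
    rwa [h0.1, h0.2, qdE_zero, mul_one] at e
  rw [hc, eq_of_mem_qdUpper hk]
  refine Commute.mul_right ?_ ?_
  · show _ = _
    rw [qdT_mul, qdT_mul, add_comm]
  · show _ = _
    rw [qdE_conj_qdT]
    simp

theorem exists_not_controls {p : ℕ} [Fact p.Prime] {H : Type u} [Group H]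
    (e : ↥(Cfsg.qd p) ≃* H) :
    ∃ T : Sylow p H,
      ¬ Cfsg.ControlsStrongFusion p (Cfsg.inducedFunctor Cfsg.kInfLower (T : Subgroup H)) := by
  have : Finite H := Finite.of_equiv _ e.toEquiv
  obtain ⟨T₀, hT₀⟩ := (isPGroup_qdUpper (p := p)).exists_le_sylow
  have hT : (T₀ : Subgroup ↥(Cfsg.qd p)) = qdUpper p := sylow_eq_qdUpper T₀ hT₀
  have he : Function.Surjective e.toMonoidHom := e.surjective
  refine ⟨T₀.mapSurjective he, ?_⟩
  set S : Sylow p H := T₀.mapSurjective he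
  have hS : (S : Subgroup H) = (qdUpper p).map e.toMonoidHom := by
    rw [Sylow.coe_mapSurjective, hT]
  have hW : Cfsg.inducedFunctor Cfsg.kInfLower (S : Subgroup H) = S := by
    rw [Cfsg.inducedFunctor, kInfLower_eq_top, ← MonoidHom.range_eq_map, Subgroup.range_subtype]
    intro a b c
    obtain ⟨g, hg, hga⟩ := hS.le a.2
    obtain ⟨h, hh, hhb⟩ := hS.le b.2
    obtain ⟨k, hk, hkc⟩ := hS.le c.2
    have hcomm := (commute_commutator_qdUpper hg hh hk).map e.toMonoidHom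
    rw [map_commutatorElement, hga, hhb, hkc] at hcomm
    exact Subtype.ext hcomm.eq
  rw [hW]
  rintro ⟨T', hle, hctl⟩
  have hTT : (T' : Subgroup H) = (S : Subgroup H) := S.3 T'.2 hle
  have hmem : ∀ v, e (qdT v) ∈ (T' : Subgroup H) := fun v =>
    hle (hS.ge (Subgroup.mem_map_of_mem _ (qdT_mem_qdUpper v)))
  obtain ⟨-, hfus⟩ := hctl {e (qdT (1, 0))} (Set.singleton_subset_iff.2 (hmem _))
  obtain ⟨w, hw⟩ := exists_swap (p := p)
  obtain ⟨x, hx, hxA⟩ := hfus (e w) (by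
    rw [Set.image_singleton]
    refine Set.singleton_subset_iff.2 ?_
    show e w * e (qdT (1, 0)) * (e w)⁻¹ ∈ _
    rw [← map_mul, ← map_inv, ← map_mul, hw]
    exact hmem _)
  have hx1 := hxA _ (Set.mem_singleton _)
  obtain ⟨y, rfl⟩ := e.surjective x
  simp only [← map_mul, ← map_inv, e.injective.eq_iff, hw] at hx1
  -- `y` normalizes the Sylow subgroup, hence its centre
  have hy : y⁻¹ * qdE 1 * y ∈ qdUpper p := by
    have h1 := (Subgroup.mem_normalizer_iff.1 (Subgroup.inv_mem _ hx) (e (qdE 1))).1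
      (hS.ge (Subgroup.mem_map_of_mem _ (qdE_mem_qdUpper 1)))
    rw [inv_inv, ← map_inv, ← map_mul, ← map_mul, hS] at h1
    obtain ⟨z, hz, hze⟩ := h1
    rwa [← e.injective (hze : e z = _)]
  have hcz : Commute (qdT ((1 : ZMod p), (0 : ZMod p))) (y⁻¹ * qdE 1 * y) := by
    rw [eq_of_mem_qdUpper hy]
    refine Commute.mul_right ?_ ?_
    · show _ = _
      rw [qdT_mul, qdT_mul, add_comm]
    · show _ = _
      rw [qdE_conj_qdT]
      simp
  have h2 : Commute (qdT ((0 : ZMod p), (-1 : ZMod p))) (qdE 1) := by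
    have h3 := hcz.map (MulAut.conj y).toMonoidHom
    simp only [MulEquiv.coe_toMonoidHom, MulAut.conj_apply, mul_assoc, mul_inv_cancel_left,
      mul_inv_cancel, mul_one] at h3
    rw [← mul_assoc] at h3
    rwa [← hx1] at h3
  have h4 := h2.eq
  rw [qdE_conj_qdT, mul_left_inj] at h4
  simpa using qdT_injective h4


/-- Let p be an odd prime and G a finite group. Then Qd(p) (the natural semidirect product of an elementary abelian group of order p² by SL₂(p)) is not involved in G if and only if, in every section K/R of G and for every Sylow p-subgroup T of K/R, the lower K-infinity subgroup of T controls strong fusion in K/R. -/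
theorem result {G : Type u} [Group G] [Finite G] {p : ℕ} [Fact p.Prime] (hp : p ≠ 2) : ¬ Cfsg.Involves ↥(Cfsg.qd p) G ↔ ∀ (K R : Subgroup G) [hR : (R.subgroupOf K).Normal], ∀ T : Sylow p (↥K ⧸ R.subgroupOf K), Cfsg.ControlsStrongFusion p (Cfsg.inducedFunctor (G := (↥K ⧸ R.subgroupOf K)) Cfsg.kInfLower (T : Subgroup (↥K ⧸ R.subgroupOf K))) := by
  constructor
  · intro hqd K R _ T
    exact ConjFun.controlsStrongFusion_kInf (Or.inl rfl) (fun K' R' _ =>
      Qd.isNormalizerPStable_of_not_involves_qd hp fun h => hqd (ConjFun.involves_trans h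
        (ConjFun.involves_trans (ConjFun.involves_of_section K' R')
          (ConjFun.involves_of_section K R)))) T
  · rintro h ⟨K, R, hR, ⟨e⟩⟩
    obtain ⟨T, hT⟩ := exists_not_controls e.symm
    exact hT (h K R T)

end Cfsg.Agent.S1989
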