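import Cfsg.Statements.S1990
import Cfsg.Agent.Lib.PComplement.AbelianCore

set_option autoImplicit false
universe u
open Cfsg

namespace Cfsg.Agent.S1990

/-- Let p be an odd prime, G a finite group with Sylow p-subgroup S, and W an isomorphism-invariant p-group functor (W assigns to every group Q a subgroup W(Q), nontrivial whenever Q is a nontrivial finite p-group, and every isomorphism from a finite p-group Q onto a group R carries W(Q) onto W(R)). Suppose N_G(W(S)) has a normal p-complement, and W(T) controls strong fusion in every section G* = K/R of G all of whose sections are p-stable in the normalizer form, for every Sylow p-subgroup T of G*. Then G has a normal p-complement. -/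
theorem result {G : Type u} [Group G] [Finite G] {p : ℕ} [Fact p.Prime] (hp : p ≠ 2) (W : ∀ (Q : Type u) [Group Q], Subgroup Q) (hW : Cfsg.IsCharPFunctor.{u} p W) (S : Sylow p G) (hN : Cfsg.HasNormalPComplement p ↥(Subgroup.normalizer ((Cfsg.inducedFunctor (G := G) W (S : Subgroup G) : Subgroup G) : Set G))) (hctl : ∀ (K R : Subgroup G) [hR : (R.subgroupOf K).Normal], (∀ (K' R' : Subgroup (↥K ⧸ R.subgroupOf K)) [hR' : (R'.subgroupOf K').Normal], Cfsg.IsNormalizerPStable p (↥K' ⧸ R'.subgroupOf K')) → ∀ T : Sylow p (↥K ⧸ R.subgroupOf K), Cfsg.ControlsStrongFusion p (Cfsg.inducedFunctor (G := (↥K ⧸ R.subgroupOf K)) W (T : Subgroup (↥K ⧸ R.subgroupOf K)))) : Cfsg.HasNormalPComplement p G := by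
  refine PComplement.hasNormalPComplement_of_config hW S hN fun K R hR T hT => ?_
  have hst : ∀ (K' R' : Subgroup (↥K ⧸ R.subgroupOf K)) [hR' : (R'.subgroupOf K').Normal],
      Cfsg.IsNormalizerPStable p (↥K' ⧸ R'.subgroupOf K') := fun K' R' hR' =>
    PComplement.isNormalizerPStable_of_pCommute
      ((PComplement.PCommute.subgroup hT.comm K').quotient (QuotientGroup.mk' _)
        (QuotientGroup.mk'_surjective _)) hp
  obtain ⟨T', hUT, hfus⟩ := hctl K R hst T
  set U := PComplement.wOf W (T : Subgroup (↥K ⧸ R.subgroupOf K)) with hU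
  by_contra hn
  have hTN : (T : Subgroup (↥K ⧸ R.subgroupOf K)) ≤ Subgroup.normalizer (U : Set (↥K ⧸ R.subgroupOf K)) :=
    Subgroup.le_normalizer.trans (PComplement.normalizer_le_normalizer_wOf hW _ T.2)
  have hNT : Subgroup.normalizer (U : Set (↥K ⧸ R.subgroupOf K)) = (T : Subgroup (↥K ⧸ R.subgroupOf K)) := by
    rcases hTN.lt_or_eq with h | h
    · exact absurd (Subgroup.normalizer_eq_top_iff.mp (hT.coatom.2 _ h)) hn
    · exact h.symm
  set Q := Cfsg.pCore p (↥K ⧸ R.subgroupOf K) with hQ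
  have hQT : Q ≤ (T : Subgroup (↥K ⧸ R.subgroupOf K)) := PCore.pCore_le_sylow T
  apply hT.coatom.1
  rw [eq_top_iff]
  intro h _
  have hQn : Q.Normal := PCore.pCore_normal
  obtain ⟨x, hx, hxh⟩ := (hfus (Q : Set (↥K ⧸ R.subgroupOf K))
    (fun q hq => PCore.pCore_le_sylow T' hq)).2 h (by
      rintro _ ⟨q, hq, rfl⟩
      exact PCore.pCore_le_sylow T' (hQn.conj_mem q hq h))
  replace hx : x ∈ Subgroup.normalizer (U : Set (↥K ⧸ R.subgroupOf K)) := hx
  rw [hNT] at hx
  have h1 : x⁻¹ * h ∈ Q := hT.cent (Subgroup.mem_centralizer_iff.2 fun q hq => by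
    have h2 : x⁻¹ * (h * q * h⁻¹) * h = x⁻¹ * (x * q * x⁻¹) * h := by rw [hxh q hq]
    have e1 : x⁻¹ * (h * q * h⁻¹) * h = x⁻¹ * h * q := by group
    have e2 : x⁻¹ * (x * q * x⁻¹) * h = q * (x⁻¹ * h) := by group
    rw [← e2, ← h2, e1])
  have := mul_mem hx (hQT h1)
  rwa [mul_inv_cancel_left] at this

end Cfsg.Agent.S1990
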