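import Cfsg.Statements.S1992
import Cfsg.Agent.S1991
import Cfsg.Agent.Lib.CharInt.Burnside

set_option autoImplicit false
open Cfsg

namespace Cfsg.Agent.S1992

/-- Let G be a finite group in which, for every prime q dividing the order of G, every Sylow q-subgroup is its own normalizer. Then the order of G is a power of a single prime (G is a q-group for some prime q; for G trivial any prime works). -/
theorem result {G : Type*} [Group G] [Finite G] (h : ∀ q : ℕ, q.Prime → q ∣ Nat.card G → ∀ Q : Sylow q G, Subgroup.normalizer ((Q : Subgroup G) : Set G) = Q) : ∃ q : ℕ, q.Prime ∧ IsPGroup q G := by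
  rcases subsingleton_or_nontrivial G with hG | hG
  · exact ⟨2, Nat.prime_two, fun g => ⟨0, Subsingleton.elim _ _⟩⟩
  obtain ⟨r, hr, N, hN, hNi⟩ : ∃ r : ℕ, r.Prime ∧ ∃ N : Subgroup G, N.Normal ∧ N.index = r := by
    by_cases hbig : ∃ q : ℕ, q.Prime ∧ 5 ≤ q ∧ q ∣ Nat.card G
    · obtain ⟨q, hq, hq5, hqG⟩ := hbig
      haveI := Fact.mk hq
      obtain ⟨S⟩ : Nonempty (Sylow q G) := inferInstance
      refine ⟨q, hq, S1991.result hq5 S (S.ne_bot_of_dvd_card hqG) fun g hg hcop => ?_⟩
      rw [h q hq hqG S] at hg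
      obtain ⟨k, hk⟩ := IsPGroup.iff_orderOf.mp S.2 ⟨g, hg⟩
      rw [Subgroup.orderOf_mk] at hk
      have h1 : g = 1 := orderOf_eq_one_iff.mp
        (Nat.eq_one_of_dvd_coprimes (hcop.pow_right k) dvd_rfl (hk ▸ dvd_rfl))
      rw [h1]
      exact one_mem _
    · have hsol : Group.IsSolvable G := by
        obtain ⟨a, m, hm, hcard⟩ := Nat.exists_eq_pow_mul_and_not_dvd
          (Nat.card_pos (α := G)).ne' 2 (by norm_num)
        obtain ⟨b, hb⟩ : ∃ b, m = 3 ^ b := ⟨m.primeFactorsList.length,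
          Nat.eq_prime_pow_of_unique_prime_dvd (fun h0 => hm (h0 ▸ dvd_zero 2)) fun {d} hd hdm => by
            have hd2 := hd.two_le
            have hne2 : d ≠ 2 := fun e => hm (e ▸ hdm)
            have hlt : ¬ 5 ≤ d := fun h5 => hbig ⟨d, hd, h5, hdm.trans (Dvd.intro_left _ hcard.symm)⟩
            have hne4 : d ≠ 4 := fun e => by rw [e] at hd; norm_num at hd
            omega⟩
        exact CharInt.isSolvable_of_card_eq Nat.prime_two Nat.prime_three (hb ▸ hcard)
      have hlt : commutator G < ⊤ := IsSolvable.commutator_lt_top_of_nontrivial G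
      obtain ⟨r, hr, hrd⟩ := Nat.exists_prime_and_dvd
        (show (commutator G).index ≠ 1 from fun e => hlt.ne (Subgroup.index_eq_one.mp e))
      haveI := Fact.mk hr
      obtain ⟨S⟩ : Nonempty (Sylow r G) := inferInstance
      refine ⟨r, hr, S1971.exists_index_p S fun hle => S.not_dvd_index ?_⟩
      exact hrd.trans (Subgroup.index_dvd_of_le hle)
  haveI := Fact.mk hr
  haveI := hN
  refine ⟨r, hr, IsPGroup.iff_card.mpr ⟨_, Nat.eq_prime_pow_of_unique_prime_dvd Nat.card_pos.ne'
    fun {q} hq hqG => ?_⟩⟩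
  by_contra hne
  haveI := Fact.mk hq
  obtain ⟨Q⟩ : Nonempty (Sylow q ↥N) := inferInstance
  have hcop : ¬ q ∣ N.index := fun hd =>
    hne ((Nat.prime_dvd_prime_iff_eq hq hr).mp (hNi ▸ hd))
  have hidx : ¬ q ∣ ((Q : Subgroup ↥N).map N.subtype).index := by
    rw [Subgroup.index_map_subtype]
    exact fun hd => (hq.dvd_mul.mp hd).elim Q.not_dvd_index hcop
  let Q' : Sylow q G := (Q.2.map N.subtype).toSylow hidx
  have h1 := Sylow.normalizer_sup_eq_top Q
  have h2 : Subgroup.normalizer (((Q : Subgroup ↥N).map N.subtype : Subgroup G) : Set G) =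
      (Q : Subgroup ↥N).map N.subtype := h q hq hqG Q'
  rw [h2, sup_eq_right.mpr (Subgroup.map_subtype_le _)] at h1
  exact hr.one_lt.ne' (hNi.symm.trans (Subgroup.index_eq_one.mpr h1))

end Cfsg.Agent.S1992
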