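import Cfsg.Statements.S1997
import Cfsg.Agent.Lib.Transfer.SectionFusion

set_option autoImplicit false
universe u
open Cfsg

namespace Cfsg.Agent.S1997

open Transfer Subgroup

/-- Conjugates of a central element of order `p` in the core are reached inside `N(W T)`. -/
def CoreFus (p : ℕ) (W : ∀ (Q : Type u) [Group Q], Subgroup Q) (X : Type u) [Group X] : Prop :=
  ∀ T : Sylow p X, ∀ z ∈ Cfsg.pCore p X, z ∈ (T : Subgroup X) →
    z ∈ centralizer ((T : Subgroup X) : Set X) → z ^ p = 1 → ∀ g : X,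
      ∃ n ∈ normalizer ((Cfsg.inducedFunctor (G := X) W (T : Subgroup X) : Subgroup X) : Set X),
        n * z * n⁻¹ = g * z * g⁻¹

section Pre

variable {p : ℕ} [Fact p.Prime] {W : ∀ (Q : Type u) [Group Q], Subgroup Q}
  (hW : Cfsg.IsCharPFunctor.{u} p W)
include hW

/-- `CoreFus` for a subgroup, read in the group. -/
theorem coreFus_subgroup {X : Type u} [Group X] [Finite X] (M : Subgroup X) (hM : CoreFus p W M)
    (T : Sylow p X) (hTM : (T : Subgroup X) ≤ M) {z : X} (hzM : z ∈ M)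
    (hzQ : (⟨z, hzM⟩ : M) ∈ Cfsg.pCore p M) (hzT : z ∈ (T : Subgroup X))
    (hzC : z ∈ centralizer ((T : Subgroup X) : Set X)) (hzp : z ^ p = 1) {g : X} (hg : g ∈ M) :
    ∃ n ∈ M ⊓ normalizer ((Cfsg.inducedFunctor (G := X) W (T : Subgroup X) : Subgroup X) : Set X),
      n * z * n⁻¹ = g * z * g⁻¹ := by
  set T' : Sylow p M := T.subtype hTM with hT'
  have hmap : ((T' : Subgroup M).map M.subtype) = (T : Subgroup X) := by
    rw [hT', Sylow.coe_subtype, subgroupOf_map_subtype, inf_eq_left.mpr hTM]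
  obtain ⟨n, hn, he⟩ := hM T' ⟨z, hzM⟩ hzQ hzT
    (mem_centralizer_iff.mpr fun t ht => Subtype.ext (mem_centralizer_iff.mp hzC _ ht))
    (Subtype.ext hzp) ⟨g, hg⟩
  refine ⟨n, mem_inf.mpr ⟨n.2, ?_⟩, congrArg Subtype.val he⟩
  rw [← hmap, ConjFun.inducedFunctor_map hW M.subtype _ T'.2 M.subtype_injective.injOn]
  exact le_normalizer_map M.subtype ⟨n, hn, rfl⟩

theorem coreFus_congr {X H : Type u} [Group X] [Group H] [Finite H] (e : H ≃* X)
    (h : CoreFus p W H) : CoreFus p W X := by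
  haveI : Finite X := Finite.of_equiv _ e.toEquiv
  intro T z hzQ hzT hzC hzp g
  let T' : Sylow p H := T.comapOfInjective e.toMonoidHom e.injective (by
    rw [MonoidHom.range_eq_top.mpr e.surjective]; exact le_top)
  have hmap : ((T' : Subgroup H).map e.toMonoidHom) = (T : Subgroup X) :=
    map_comap_eq_self_of_surjective e.surjective _
  obtain ⟨n, hn, he⟩ := h T' (e.symm z)
    ((PCore.mem_pCore_congr e).mp (by simpa using hzQ)) (by simpa [T'] using hzT)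
    (mem_centralizer_iff.mpr fun t ht => e.injective (by
      simpa using mem_centralizer_iff.mp hzC _ ht))
    (by rw [← map_pow, hzp, map_one]) (e.symm g)
  refine ⟨e n, ?_, by simpa using congrArg e he⟩
  rw [← hmap, ConjFun.inducedFunctor_map hW e.toMonoidHom _ T'.2 e.injective.injOn]
  exact le_normalizer_map e.toMonoidHom ⟨n, hn, rfl⟩

/-- The inductive step. -/
theorem coreFus_step {X : Type u} [Group X] [Finite X]
    (IH : ∀ (Y : Type u) [Group Y], Cfsg.Involves Y X → Nat.card Y < Nat.card X → CoreFus p W Y)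
    (hcon : centralizer (Cfsg.pCore p X : Set X) ≤ Cfsg.pCore p X → CoreFus p W X) :
    CoreFus p W X := by
  by_cases hK : Cfsg.pPrimeCore p X ≠ ⊥
  · -- the quotient by `O_{p'}`
    intro T z hzQ hzT hzC hzp g
    set K := Cfsg.pPrimeCore p X
    set π := QuotientGroup.mk' K with hπdef
    have hπ : Function.Surjective π := QuotientGroup.mk'_surjective K
    have hker : π.ker = K := QuotientGroup.ker_mk' K
    have hTK : Disjoint (T : Subgroup X) K :=
      PCore.disjoint_of_isPGroup_of_coprime T.2 PCore.coprime_card_pPrimeCore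
    have hQK : Disjoint (Cfsg.pCore p X) K :=
      PCore.disjoint_of_isPGroup_of_coprime PCore.isPGroup_pCore PCore.coprime_card_pPrimeCore
    have hinj : Set.InjOn π ((T : Subgroup X) : Set X) := by
      intro a ha b hb hab
      exact inv_mul_eq_one.mp
        (disjoint_def.mp hTK (mul_mem (inv_mem ha) hb) (QuotientGroup.eq.mp hab))
    obtain ⟨nb, hnb, he⟩ := IH _ (ConjFun.involves_quotient K) (ConjFun.card_quotient_lt hK)
      (T.mapSurjective hπ) (π z) (PCore.map_pCore_le π hπ ⟨z, hzQ, rfl⟩) ⟨z, hzT, rfl⟩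
      (mem_centralizer_iff.mpr (by
        rintro _ ⟨t, ht, rfl⟩
        rw [← map_mul, ← map_mul, mem_centralizer_iff.mp hzC t ht]))
      (by rw [← map_pow, hzp, map_one]) (π g)
    rw [Sylow.coe_mapSurjective, ConjFun.inducedFunctor_map hW π _ T.2 hinj,
      ← ConjFun.map_normalizer_eq π hπ (by rw [hker]; exact PCore.coprime_card_pPrimeCore)
        (T.2.to_le (ConjFun.inducedFunctor_le W _))] at hnb
    obtain ⟨n, hn, rfl⟩ := hnb
    refine ⟨n, hn, inv_mul_eq_one.mp (disjoint_def.mp hQK ?_ ?_)⟩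
    · exact mul_mem (inv_mem ((inferInstance : (Cfsg.pCore p X).Normal).conj_mem z hzQ n))
        ((inferInstance : (Cfsg.pCore p X).Normal).conj_mem z hzQ g)
    · apply QuotientGroup.eq.mp
      show π (n * z * n⁻¹) = π (g * z * g⁻¹)
      simp only [map_mul, map_inv]
      exact he
  rw [not_not] at hK
  by_cases hCQ : centralizer (Cfsg.pCore p X : Set X) ≤ Cfsg.pCore p X
  · exact hcon hCQ
  intro T z hzQ hzT hzC hzp g
  set Q := Cfsg.pCore p X with hQ
  set C := centralizer (Q : Set X) with hC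
  set M := normalizer (((T : Subgroup X) ⊓ C : Subgroup X) : Set X) with hM
  have hMtop : M ≠ ⊤ := by
    intro h
    haveI : ((T : Subgroup X) ⊓ C).Normal := normalizer_eq_top_iff.mp h
    have h1 := le_pPrimeCore_sup_of_inf_le T C Q
      (fun c hc d hd => (mem_centralizer_iff.mp hc d hd).symm)
      (PCore.le_pCore (T.2.to_le inf_le_left))
    rw [hK, bot_sup_eq] at h1
    exact hCQ h1
  have hTM : (T : Subgroup X) ≤ M := fun t ht => mem_normalizer_of_conj_mem fun a ha =>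
    mem_inf.mpr ⟨mul_mem (mul_mem ht (mem_inf.mp ha).1) (inv_mem ht),
      (inferInstance : C.Normal).conj_mem a (mem_inf.mp ha).2 t⟩
  -- `g = m c` (Frattini)
  have hCi : ¬ p ∣ ((T : Subgroup X) ⊓ C).relIndex C := ConjFun.not_dvd_relIndex_inf (H := ⊤) T.2
    (by rw [relIndex_top_right]; exact T.not_dvd_index) le_top (normalizer_eq_top (H := C)).ge
  have hTCp : IsPGroup p ((T : Subgroup X) ⊓ C : Subgroup X) := T.2.to_le inf_le_left
  obtain ⟨c, hc, hce⟩ := ConjFun.exists_conj_le_of_relIndex hTCp hCi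
    (U := ((T : Subgroup X) ⊓ C).map (MulAut.conj g).toMonoidHom) (by
      rintro _ ⟨a, ha, rfl⟩
      exact (inferInstance : C.Normal).conj_mem a (mem_inf.mp ha).2 g) (hTCp.map _)
  have hm : c * g ∈ M := mem_normalizer_of_conj_mem fun a ha => by
    have h2 := hce ⟨_, ⟨a, ha, rfl⟩, rfl⟩
    convert h2 using 1
    simp [MulAut.conj_apply, mul_assoc]
  obtain ⟨n, hn, hne⟩ := coreFus_subgroup hW M
    (IH M (ConjFun.involves_subgroup M) (ConjFun.card_lt_of_ne_top hMtop)) T hTM (hTM hzT)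
    (PCore.pCore_subgroupOf_le M hzQ) hzT hzC hzp hm
  refine ⟨n, (mem_inf.mp hn).2, ?_⟩
  have hgz : (g * z * g⁻¹) * c = c * (g * z * g⁻¹) :=
    mem_centralizer_iff.mp hc _ ((inferInstance : Q.Normal).conj_mem z hzQ g)
  calc n * z * n⁻¹ = c * (g * z * g⁻¹) * c⁻¹ := by rw [hne]; group
    _ = g * z * g⁻¹ := by rw [← hgz]; group

omit hW in
theorem mem_omegaOne_of {X : Type u} [Group X] {T : Subgroup X} {z : X} (hz : z ∈ T)
    (hzC : z ∈ centralizer (T : Set X)) (hzp : z ^ p = 1) :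
    z ∈ Cfsg.omegaOne p (T ⊓ centralizer (T : Set X)) :=
  subset_closure ⟨mem_inf.mpr ⟨hz, hzC⟩, hzp⟩

/-- All sections. -/
theorem coreFus_of_factor {G : Type u} [Group G] [Finite G]
    (hfac : ∀ (K R : Subgroup G) [hR : (R.subgroupOf K).Normal],
      centralizer ((Cfsg.pCore p (↥K ⧸ R.subgroupOf K) : Subgroup (↥K ⧸ R.subgroupOf K)) :
          Set (↥K ⧸ R.subgroupOf K)) ≤ Cfsg.pCore p (↥K ⧸ R.subgroupOf K) →
      ∀ T : Sylow p (↥K ⧸ R.subgroupOf K), ∀ x : ↥K ⧸ R.subgroupOf K,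
        ∃ a ∈ centralizer ((Cfsg.omegaOne p ((T : Subgroup (↥K ⧸ R.subgroupOf K)) ⊓
          centralizer ((T : Subgroup (↥K ⧸ R.subgroupOf K)) : Set (↥K ⧸ R.subgroupOf K))) :
            Subgroup (↥K ⧸ R.subgroupOf K)) : Set (↥K ⧸ R.subgroupOf K)),
        ∃ b ∈ normalizer ((Cfsg.inducedFunctor (G := (↥K ⧸ R.subgroupOf K)) W
          (T : Subgroup (↥K ⧸ R.subgroupOf K)) : Subgroup (↥K ⧸ R.subgroupOf K)) :
            Set (↥K ⧸ R.subgroupOf K)), x = a * b) :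
    ∀ (X : Type u) [Group X], Cfsg.Involves X G → CoreFus p W X := by
  suffices H : ∀ (n : ℕ) (X : Type u) [Group X], Cfsg.Involves X G → Nat.card X = n →
      CoreFus p W X from fun X _ hX => H _ X hX rfl
  intro n
  induction n using Nat.strong_induction_on with
  | _ n IH =>
  intro X _ hX hn
  obtain ⟨K, R, hR, ⟨e⟩⟩ := hX
  haveI : Finite X := Finite.of_equiv _ e.toEquiv
  refine coreFus_congr hW e (coreFus_step hW (fun Y _ hY hlt => ?_) fun hC T z _ hzT hzC hzp g => ?_)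
  · rw [Nat.card_congr e.toEquiv, hn] at hlt
    exact IH _ hlt Y (ConjFun.involves_trans hY (ConjFun.involves_of_section K R)) rfl
  · obtain ⟨a, ha, b, hb, hab⟩ := hfac K R hC T g⁻¹
    refine ⟨b⁻¹, inv_mem hb, ?_⟩
    have hg : g = b⁻¹ * a⁻¹ := by rw [← mul_inv_rev, ← hab, inv_inv]
    have haz : z * a⁻¹ = a⁻¹ * z :=
      mem_centralizer_iff.mp (inv_mem ha) z (mem_omegaOne_of hzT hzC hzp)
    calc b⁻¹ * z * b⁻¹⁻¹ = b⁻¹ * (z * a⁻¹) * a * b := by group
      _ = g * z * g⁻¹ := by rw [haz, hg]; group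


end Pre

/-- Let p be a prime, G a finite group with Sylow p-subgroup S, and W₁, W₂ two isomorphism-invariant p-group functors (W assigns to every group Q a subgroup W(Q), nontrivial whenever Q is a nontrivial finite p-group, and every isomorphism from a finite p-group Q onto a group R carries W(Q) onto W(R)). Suppose that G* = C_{G*}(Ω₁Z(S*)) N_{G*}(W₁(S*)) = C_{G*}(Ω₁Z(S*)) N_{G*}(W₂(S*)) = N_{G*}(W₁(S*)) N_{G*}(W₂(S*)) whenever G* = K/R is a section of G with C_{G*}(O_p(G*)) ≤ O_p(G*) and S* is a Sylow p-subgroup of G*, where Ω₁Z denotes the subgroup generated by the elements of order dividing p in the centre. Suppose also Ω₁Z(S) ≤ W₁(S) ∩ W₂(S), and let A be the normal closure of Ω₁Z(S) in N_G(W₁(S)). Then A is an elementary abelian subgroup of S, strongly closed in S with respect to G, and A controls strong fusion in G. -/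
theorem result {G : Type u} [Group G] [Finite G] {p : ℕ} [Fact p.Prime] (S : Sylow p G) (W₁ W₂ : ∀ (Q : Type u) [Group Q], Subgroup Q) (hW₁ : Cfsg.IsCharPFunctor.{u} p W₁) (hW₂ : Cfsg.IsCharPFunctor.{u} p W₂) (hfac : ∀ (K R : Subgroup G) [hR : (R.subgroupOf K).Normal], Subgroup.centralizer ((Cfsg.pCore p (↥K ⧸ R.subgroupOf K) : Subgroup (↥K ⧸ R.subgroupOf K)) : Set (↥K ⧸ R.subgroupOf K)) ≤ Cfsg.pCore p (↥K ⧸ R.subgroupOf K) → ∀ T : Sylow p (↥K ⧸ R.subgroupOf K), (∀ x : (↥K ⧸ R.subgroupOf K), ∃ a ∈ Subgroup.centralizer ((Cfsg.omegaOne p ((T : Subgroup (↥K ⧸ R.subgroupOf K)) ⊓ Subgroup.centralizer (((T : Subgroup (↥K ⧸ R.subgroupOf K)) : Subgroup (↥K ⧸ R.subgroupOf K)) : Set (↥K ⧸ R.subgroupOf K))) : Subgroup (↥K ⧸ R.subgroupOf K)) : Set (↥K ⧸ R.subgroupOf K)), ∃ b ∈ Subgroup.normalizer ((Cfsg.inducedFunctor (G := (↥K ⧸ R.subgroupOf K)) W₁ (T : Subgroup (↥K ⧸ R.subgroupOf K)) : Subgroup (↥K ⧸ R.subgroupOf K)) : Set (↥K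 ⧸ R.subgroupOf K)), x = a * b) ∧ (∀ x : (↥K ⧸ R.subgroupOf K), ∃ a ∈ Subgroup.centralizer ((Cfsg.omegaOne p ((T : Subgroup (↥K ⧸ R.subgroupOf K)) ⊓ Subgroup.centralizer (((T : Subgroup (↥K ⧸ R.subgroupOf K)) : Subgroup (↥K ⧸ R.subgroupOf K)) : Set (↥K ⧸ R.subgroupOf K))) : Subgroup (↥K ⧸ R.subgroupOf K)) : Set (↥K ⧸ R.subgroupOf K)), ∃ b ∈ Subgroup.normalizer ((Cfsg.inducedFunctor (G := (↥K ⧸ R.subgroupOf K)) W₂ (T : Subgroup (↥K ⧸ R.subgroupOf K)) : Subgroup (↥K ⧸ R.subgroupOf K)) : Set (↥K ⧸ R.subgroupOf K)), x = a * b) ∧ (∀ x : (↥K ⧸ R.subgroupOf K), ∃ a ∈ Subgroup.normalizer ((Cfsg.inducedFunctor (G := (↥K ⧸ R.subgroupOf K)) W₁ (T : Subgroup (↥K ⧸ R.subgroupOf K)) : Subgroup (↥K ⧸ R.subgroupOf K)) : Set (↥K ⧸ R.subgroupOf K)), ∃ b ∈ Subgroup.normalizer ((Cfsg.inducedFunctor (G := (↥K ⧸ R.subgroupOf K)) W₂ (T : Subgroup (↥K ⧸ R.subgroupOf K)) : Subgroup (↥K ⧸ R.subgroupOf K)) : Set (↥K ⧸ R.subgroupOf K)), x = a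 * b)) (hZ : Cfsg.omegaOne p ((S : Subgroup G) ⊓ Subgroup.centralizer (((S : Subgroup G) : Subgroup G) : Set G)) ≤ Cfsg.inducedFunctor (G := G) W₁ (S : Subgroup G) ⊓ Cfsg.inducedFunctor (G := G) W₂ (S : Subgroup G)) (N₁ : Subgroup G) (hN₁ : N₁ = Subgroup.normalizer ((Cfsg.inducedFunctor (G := G) W₁ (S : Subgroup G) : Subgroup G) : Set G)) (A : Subgroup G) (hA : A = (Subgroup.normalClosure (((Cfsg.omegaOne p ((S : Subgroup G) ⊓ Subgroup.centralizer (((S : Subgroup G) : Subgroup G) : Set G))).subgroupOf N₁ : Subgroup ↥N₁) : Set ↥N₁)).map N₁.subtype) : A ≤ (S : Subgroup G) ∧ Cfsg.IsElementaryAbelian p A ∧ Cfsg.IsStronglyClosed A (S : Subgroup G) ∧ Cfsg.ControlsStrongFusion p A := by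
  have h1 := coreFus_of_factor hW₁ fun K R _ hC T x => (hfac K R hC T).1 x
  have h2 := coreFus_of_factor hW₂ fun K R _ hC T x => (hfac K R hC T).2.1 x
  set Z := Cfsg.omegaOne p ((S : Subgroup G) ⊓ centralizer ((S : Subgroup G) : Set G)) with hZdef
  set U₁ := Cfsg.inducedFunctor (G := G) W₁ (S : Subgroup G) with hU₁
  set U₂ := Cfsg.inducedFunctor (G := G) W₂ (S : Subgroup G) with hU₂
  set N₂ := normalizer (U₂ : Set G) with hN₂
  subst hN₁
  set N₁ := normalizer (U₁ : Set G) with hN₁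
  have hS₁ : (S : Subgroup G) ≤ N₁ :=
    ConjFun.le_normalizer_functor (ConjFun.isConjugacyFunctor_inducedFunctor hW₁) S.2
  have hS₂ : (S : Subgroup G) ≤ N₂ :=
    ConjFun.le_normalizer_functor (ConjFun.isConjugacyFunctor_inducedFunctor hW₂) S.2
  have hU₁S : U₁ ≤ (S : Subgroup G) := ConjFun.inducedFunctor_le W₁ _
  have hU₂S : U₂ ≤ (S : Subgroup G) := ConjFun.inducedFunctor_le W₂ _
  have hZ1 : ∀ z ∈ Z, z ∈ (S : Subgroup G) ∧ z ∈ centralizer ((S : Subgroup G) : Set G) ∧ z ^ p = 1 := by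
    intro z hz
    rw [hZdef] at hz
    induction hz using Subgroup.closure_induction with
    | mem x hx => exact ⟨(mem_inf.mp hx.1).1, (mem_inf.mp hx.1).2, hx.2⟩
    | one => exact ⟨one_mem _, one_mem _, one_pow p⟩
    | mul a b _ _ ha hb =>
      refine ⟨mul_mem ha.1 hb.1, mul_mem ha.2.1 hb.2.1, ?_⟩
      have hab : Commute a b := mem_centralizer_iff.mp hb.2.1 a ha.1
      rw [hab.mul_pow, ha.2.2, hb.2.2, one_mul]
    | inv a _ ha => exact ⟨inv_mem ha.1, inv_mem ha.2.1, by rw [inv_pow, ha.2.2, inv_one]⟩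
  have hcore : ∀ (U : Subgroup G), U ≤ (S : Subgroup G) → ∀ z ∈ U, ∀ hz : z ∈ normalizer (U : Set G),
      (⟨z, hz⟩ : normalizer (U : Set G)) ∈ Cfsg.pCore p (normalizer (U : Set G)) := fun U hU z hz hz' => by
    haveI : (U.comap (normalizer (U : Set G)).subtype).Normal := normal_in_normalizer (H := U)
    exact PCore.le_pCore ((S.2.to_le hU).comap_subtype (K := normalizer (U : Set G))) hz
  -- classes under the two normalizers agree
  have h12 : ∀ z ∈ Z, ∀ n ∈ N₁, ∃ m ∈ N₁ ⊓ N₂, m * z * m⁻¹ = n * z * n⁻¹ := fun z hz n hn =>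
    coreFus_subgroup hW₂ N₁ (h2 _ (ConjFun.involves_subgroup N₁)) S hS₁ (hS₁ (hZ1 z hz).1)
      (hcore U₁ hU₁S z (mem_inf.mp (hZ hz)).1 _) (hZ1 z hz).1 (hZ1 z hz).2.1 (hZ1 z hz).2.2 hn
  have h21 : ∀ z ∈ Z, ∀ n ∈ N₂, ∃ m ∈ N₂ ⊓ N₁, m * z * m⁻¹ = n * z * n⁻¹ := fun z hz n hn =>
    coreFus_subgroup hW₁ N₂ (h1 _ (ConjFun.involves_subgroup N₂)) S hS₂ (hS₂ (hZ1 z hz).1)
      (hcore U₂ hU₂S z (mem_inf.mp (hZ hz)).2 _) (hZ1 z hz).1 (hZ1 z hz).2.1 (hZ1 z hz).2.2 hn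
  -- the generators of `A`
  set Ω : Set G := {x | ∃ z ∈ Z, ∃ n ∈ N₁, x = n * z * n⁻¹} with hΩ
  have hAΩ : A = Subgroup.closure Ω := by
    rw [hA, Subgroup.normalClosure, MonoidHom.map_closure]
    congr 1
    ext x
    simp only [Set.mem_image, Group.mem_conjugatesOfSet_iff, isConj_iff]
    constructor
    · rintro ⟨y, ⟨a, ha, c, hc⟩, rfl⟩
      exact ⟨a, ha, c, c.2, by rw [← hc]; simp⟩
    · rintro ⟨z, hz, n, hn, rfl⟩
      exact ⟨_, ⟨⟨z, hS₁ (hZ1 z hz).1⟩, hz, ⟨n, hn⟩, rfl⟩, rfl⟩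
  have hΩ₁ : ∀ x ∈ Ω, x ∈ U₁ := by
    rintro _ ⟨z, hz, n, hn, rfl⟩
    exact (mem_normalizer_iff.mp hn z).mp (mem_inf.mp (hZ hz)).1
  have hAU : A ≤ U₁ := by rw [hAΩ, closure_le]; exact hΩ₁
  have hnorm : ∀ n : G, (∀ x ∈ Ω, n * x * n⁻¹ ∈ A) → n ∈ normalizer (A : Set G) := fun n hn => by
    refine Transfer.mem_normalizer_of_conj_mem fun a ha => ?_
    have h : A ≤ A.comap (MulAut.conj n).toMonoidHom := by
      conv_lhs => rw [hAΩ]
      rw [closure_le]
      exact hn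
    exact h ha
  have hN₁A : N₁ ≤ normalizer (A : Set G) := fun n hn => hnorm n (by
    rintro _ ⟨z, hz, m, hm, rfl⟩
    rw [hAΩ]
    exact subset_closure ⟨z, hz, n * m, mul_mem hn hm, by group⟩)
  have hN₂A : N₂ ≤ normalizer (A : Set G) := fun n hn => hnorm n (by
    rintro _ ⟨z, hz, m, hm, rfl⟩
    obtain ⟨m', hm', he⟩ := h12 z hz m hm
    obtain ⟨k, hk, he'⟩ := h21 z hz (n * m') (mul_mem hn (mem_inf.mp hm').2)
    rw [hAΩ, ← he]
    exact subset_closure ⟨z, hz, k, (mem_inf.mp hk).2, by rw [he']; group⟩)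
  -- strong fusion
  have h𝓦 : ∀ V ∈ ({W₁, W₂} : Set (∀ (Q : Type u) [Group Q], Subgroup Q)),
      Cfsg.IsCharPFunctor.{u} p V := by
    rintro V (rfl | rfl)
    exacts [hW₁, hW₂]
  have hfus : Fus p ({W₁, W₂} : Set (∀ (Q : Type u) [Group Q], Subgroup Q)) G :=
    fus_of_constrained_sections h𝓦 (fun K R _ hC => by
      obtain ⟨T⟩ : Nonempty (Sylow p (↥K ⧸ R.subgroupOf K)) := inferInstance
      exact fus_of_factor h𝓦 (Or.inl rfl) (Or.inr rfl) T (hfac K R hC T).2.2)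
      G (ConjFun.involves_refl G)
  have hL : ∀ L ∈ functorNormalizers (sectionFamily ({W₁, W₂} : Set _) G) ⊤ (S : Subgroup G),
      L ≤ normalizer (A : Set G) := by
    rintro _ ⟨_, ⟨V, (rfl | rfl), rfl⟩, rfl⟩
    exacts [inf_le_right.trans hN₁A, inf_le_right.trans hN₂A]
  have hctl : ∀ (B : Set G) (g : G), B ⊆ (S : Subgroup G) → (∀ b ∈ B, g * b * g⁻¹ ∈ (S : Subgroup G)) →
      ∃ x ∈ normalizer (A : Set G), ∀ b ∈ B, g * b * g⁻¹ = x * b * x⁻¹ := fun B g hB hBg => by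
    have hch := lchain_of_familyControlsStrongFusionIn (isConjugacyFunctor_sectionFamily h𝓦)
      le_top S.2 (by rw [relIndex_top_right]; exact S.not_dvd_index) hfus (A := B) (g := g)
      (mem_top g) hB hBg
    clear hB hBg
    induction hch with
    | one h => exact ⟨1, one_mem _, fun b hb => by simpa using h b hb⟩
    | @step B g y h L hLm hy hT _ hg ih =>
      obtain ⟨x, hx, hxe⟩ := ih
      refine ⟨x * y, mul_mem hx (hL L hLm hy), fun b hb => ?_⟩
      rw [hg b hb, hxe _ ⟨b, hb, rfl⟩]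
      group
  refine ⟨hAU.trans hU₁S, ⟨?_, ?_⟩, ⟨hAU.trans hU₁S, fun x hx g hg => ?_⟩,
    ⟨S, hAU.trans hU₁S, fun B hB => ⟨hB, fun g hg => ?_⟩⟩⟩
  · rw [hAΩ]
    refine Subgroup.isMulCommutative_closure ?_
    rintro x ⟨z, hz, n, hn, rfl⟩ y hy
    have h3 : n⁻¹ * y * n ∈ (S : Subgroup G) :=
      hU₁S ((mem_normalizer_iff''.mp hn y).mp (hΩ₁ y hy))
    have h4 := mem_centralizer_iff.mp (hZ1 z hz).2.1 _ h3
    calc n * z * n⁻¹ * y = n * (z * (n⁻¹ * y * n)) * n⁻¹ := by group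
      _ = n * (n⁻¹ * y * n * z) * n⁻¹ := by rw [h4]
      _ = y * (n * z * n⁻¹) := by group
  · intro a ha
    have hcomm : IsMulCommutative (Subgroup.closure Ω) := by
      refine Subgroup.isMulCommutative_closure ?_
      rintro x ⟨z, hz, n, hn, rfl⟩ y hy
      have h3 : n⁻¹ * y * n ∈ (S : Subgroup G) :=
        hU₁S ((mem_normalizer_iff''.mp hn y).mp (hΩ₁ y hy))
      have h4 := mem_centralizer_iff.mp (hZ1 z hz).2.1 _ h3
      calc n * z * n⁻¹ * y = n * (z * (n⁻¹ * y * n)) * n⁻¹ := by group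
        _ = n * (n⁻¹ * y * n * z) * n⁻¹ := by rw [h4]
        _ = y * (n * z * n⁻¹) := by group
    rw [hAΩ] at ha
    induction ha using Subgroup.closure_induction with
    | mem x hx =>
      obtain ⟨z, hz, n, -, rfl⟩ := hx
      rw [conj_pow, (hZ1 z hz).2.2]
      group
    | one => exact one_pow p
    | mul a b ha' hb' ha hb =>
      have hab : Commute a b :=
        congrArg Subtype.val (hcomm.is_comm.comm ⟨a, ha'⟩ ⟨b, hb'⟩)
      rw [hab.mul_pow, ha, hb, one_mul]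
    | inv a _ ha => rw [inv_pow, ha, inv_one]
  · obtain ⟨y, hy, he⟩ := hctl {x} g (Set.singleton_subset_iff.mpr (hU₁S (hAU hx)))
      (fun b hb => by rw [Set.mem_singleton_iff.mp hb]; exact hg)
    rw [he x rfl]
    exact (mem_normalizer_iff.mp hy x).mp hx
  · exact hctl B g hB fun b hb => hg ⟨b, hb, rfl⟩

end Cfsg.Agent.S1997
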