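import Cfsg.Statements.S1998
import Cfsg.Agent.Lib.ConjFun.Sections
import Cfsg.Agent.Lib.ConjFun.Engel

set_option autoImplicit false
universe u
open Cfsg

namespace Cfsg.Agent.S1998

/-- Let p be a prime, G a finite group with Sylow p-subgroup S, and 𝓦 a nonempty set of isomorphism-invariant p-group functors (W assigns to every group Q a subgroup W(Q), nontrivial whenever Q is a nontrivial finite p-group, and every isomorphism from a finite p-group Q onto a group R carries W(Q) onto W(R)). Suppose the induced conjugacy functors control transfer in every section of G other than G itself, but not in G. Let T be the subgroup generated by the S ∩ (N_G(W(S)))', W ∈ 𝓦, and M = N_G(T ∩ O_p(G)). Then: C_G(O_p(G)) ≤ O_p(G); M is a proper subgroup of G containing every proper subgroup of G that contains S (the unique maximal subgroup over S); [O_p(G), M] ≤ O_p(G) ∩ M' ≤ O_p(G) ∩ T; and every element u of S outside O_p(G) satisfies [X, u, …, u] ≰ Y with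 p − 1 entries u, for some chief factor X/Y of G with X ≤ O_p(G). -/
theorem result {G : Type u} [Group G] [Finite G] {p : ℕ} [Fact p.Prime] (S : Sylow p G) (𝓦 : Set (∀ (Q : Type u) [Group Q], Subgroup Q)) (h𝓦 : ∀ W ∈ 𝓦, Cfsg.IsCharPFunctor.{u} p W) (hne : 𝓦.Nonempty) (hsec : ∀ (K R : Subgroup G) [hR : (R.subgroupOf K).Normal], (K = ⊤ → R ≠ ⊥) → Cfsg.FamilyControlsTransferIn p ((fun W => Cfsg.inducedFunctor (G := (↥K ⧸ R.subgroupOf K)) W) '' 𝓦) ⊤) (hG : ¬ Cfsg.FamilyControlsTransferIn p ((fun W => Cfsg.inducedFunctor (G := G) W) '' 𝓦) ⊤) (T M : Subgroup G) (hT : T = (⨆ W ∈ 𝓦, (S : Subgroup G) ⊓ ⁅Subgroup.normalizer ((Cfsg.inducedFunctor (G := G) W (S : Subgroup G) : Subgroup G) : Set G), Subgroup.normalizer ((Cfsg.inducedFunctor (G := G) W (S : Subgroup G) : Subgroup G) : Set G)⁆)) (hM : M = Subgroup.normalizer ((T ⊓ Cfsg.pCore p G : Subgroup G) : Set G)) : Subgroup.centralizer ((Cfsg.pCore p G : Subgroup G) : Set G) ≤ Cfsg.pCore p G ∧ (M ≠ ⊤ ∧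 ∀ H : Subgroup G, (S : Subgroup G) ≤ H → H ≠ ⊤ → H ≤ M) ∧ (⁅Cfsg.pCore p G, M⁆ ≤ Cfsg.pCore p G ⊓ ⁅M, M⁆ ∧ Cfsg.pCore p G ⊓ ⁅M, M⁆ ≤ Cfsg.pCore p G ⊓ T) ∧ ∀ u : G, u ∈ (S : Subgroup G) → u ∉ Cfsg.pCore p G → ∃ U V : Subgroup G, Cfsg.IsChiefFactor U V ∧ U ≤ Cfsg.pCore p G ∧ ¬ Cfsg.iterCommutator U (Subgroup.zpowers u) (p - 1) ≤ V := by
  have hnc : ¬ ConjFun.Controls p 𝓦 G := fun h =>
    hG (ConjFun.familyControlsTransferIn_of_controls h𝓦 h)
  have IH : ∀ (X : Type u) [Group X], Cfsg.Involves X G → Nat.card X < Nat.card G →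
      ConjFun.Controls p 𝓦 X := by
    intro X _ hX hlt
    obtain ⟨K, R, hR, ⟨e⟩⟩ := hX
    haveI : Finite X := Finite.of_equiv _ e.toEquiv
    refine ConjFun.controls_congr h𝓦 e
      ((ConjFun.controls_iff_family h𝓦).mp (hsec K R ?_))
    rintro rfl rfl
    refine hlt.ne ?_
    rw [← Nat.card_congr e.toEquiv, Nat.card_congr ((QuotientGroup.quotientMulEquivOfEq
      (Subgroup.bot_subgroupOf _)).trans
        (QuotientGroup.quotientBot.trans Subgroup.topEquiv)).toEquiv]
  have hcon : Subgroup.centralizer (Cfsg.pCore p G : Set G) ≤ Cfsg.pCore p G := by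
    by_contra h
    exact hnc (ConjFun.controls_step h𝓦 IH fun h' => absurd h' h)
  have hfail : ¬ Cfsg.pCore p G ⊓ commutator G ≤
      ConjFun.transferGen (ConjFun.inducedFamily 𝓦 G) (S : Subgroup G) := by
    intro h
    refine hnc (ConjFun.controls_step h𝓦 IH fun _ S' => ?_)
    obtain ⟨g, hg⟩ := MulAction.exists_smul_eq G S S'
    have hgS : (S : Subgroup G).map (MulAut.conj g).toMonoidHom = (S' : Subgroup G) := by
      rw [← hg]
      rfl
    have hn : (Cfsg.pCore p G ⊓ commutator G).map (MulAut.conj g).toMonoidHom =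
        Cfsg.pCore p G ⊓ commutator G :=
      ConjFun.conjMap_eq_self
        ((Subgroup.normalizer_eq_top (H := Cfsg.pCore p G ⊓ commutator G)).ge (Subgroup.mem_top g))
    rw [← hn, ← hgS,
      ← ConjFun.conjMap_transferGen (ConjFun.isConjugacyFunctor_inducedFamily h𝓦) S.2 g]
    exact Subgroup.map_mono h
  rw [← ConjFun.transferGen_inducedFamily 𝓦 (S : Subgroup G)] at hT
  subst hT
  subst hM
  obtain ⟨h1, h2, h3, h4, -, -⟩ := ConjFun.failure_structure h𝓦 hne IH S hfail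
  refine ⟨hcon, ⟨h1, h2⟩, ⟨h3, h4⟩, fun u huS huQ => ?_⟩
  by_contra hu
  refine ConjFun.not_isEngel h𝓦 hne IH S hfail huS huQ fun U V hUV hU => ?_
  by_contra hle
  exact hu ⟨U, V, hUV, hU, hle⟩

end Cfsg.Agent.S1998
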