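import Cfsg.Statements.S2761
import Cfsg.Agent.Lib.Qd.TISylow
-- import your own Cfsg.Agent.* helpers here

set_option autoImplicit false
open Cfsg

namespace Cfsg.Agent.S2761

section

open Matrix

/-- Append the coordinate `1`. -/
def aff (v : Fin 2 → ZMod 2) : Fin 3 → ZMod 2 := ![v 0, v 1, 1]

/-- Drop the last coordinate. -/
def unaff (w : Fin 3 → ZMod 2) : Fin 2 → ZMod 2 := ![w 0, w 1]

theorem unaff_aff (v : Fin 2 → ZMod 2) : unaff (aff v) = v := by
  funext i; fin_cases i <;> rfl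

/-- The action on the four affine points. -/
def act (M : ↥(Cfsg.qd 2)) (v : Fin 2 → ZMod 2) : Fin 2 → ZMod 2 :=
  unaff ((M.1 : Matrix (Fin 3) (Fin 3) (ZMod 2)) *ᵥ aff v)

theorem aff_act (M : ↥(Cfsg.qd 2)) (v : Fin 2 → ZMod 2) :
    aff (act M v) = (M.1 : Matrix (Fin 3) (Fin 3) (ZMod 2)) *ᵥ aff v := by
  haveI : Fact (Nat.Prime 2) := ⟨Nat.prime_two⟩
  obtain ⟨h0, h1, h2⟩ := Qd.qd_shape _ M.2
  funext i
  fin_cases i
  · rfl
  · rfl
  · simp [aff, Matrix.mulVec, dotProduct, Fin.sum_univ_three, h0, h1, h2]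

theorem act_mul (M N : ↥(Cfsg.qd 2)) (v : Fin 2 → ZMod 2) : act (M * N) v = act M (act N v) := by
  unfold act
  rw [show aff (unaff ((N.1 : Matrix (Fin 3) (Fin 3) (ZMod 2)) *ᵥ aff v)) = _ from aff_act N v,
    Matrix.mulVec_mulVec]
  rfl

theorem act_one (v : Fin 2 → ZMod 2) : act 1 v = v := by
  unfold act
  rw [show ((1 : ↥(Cfsg.qd 2)).1 : Matrix (Fin 3) (Fin 3) (ZMod 2)) = 1 from rfl, Matrix.one_mulVec,
    unaff_aff]

/-- The permutation representation. -/
def actHom : ↥(Cfsg.qd 2) →* Equiv.Perm (Fin 2 → ZMod 2) where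
  toFun M := ⟨act M, act M⁻¹, fun v => by rw [← act_mul, inv_mul_cancel, act_one],
    fun v => by rw [← act_mul, mul_inv_cancel, act_one]⟩
  map_one' := Equiv.ext act_one
  map_mul' M N := Equiv.ext (act_mul M N)

theorem det_one : ∀ a0 a1 b0 b1 : ZMod 2, ![a0, a1] ≠ 0 → ![b0, b1] ≠ 0 → ![a0, a1] ≠ ![b0, b1] →
    a0 * b1 - a1 * b0 = 1 := by decide

theorem fourth : ∀ p q r s : Fin 2 → ZMod 2, p ≠ q → p ≠ r → q ≠ r → s ≠ p → s ≠ q → s ≠ r →
    s = p + q + r := by decide

theorem four_points (v : Fin 2 → ZMod 2) : v = 0 ∨ v = ![1, 0] ∨ v = ![0, 1] ∨ v = ![1, 1] := by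
  revert v; decide

theorem actHom_injective : Function.Injective actHom := by
  intro M N h
  have h' : ∀ v, (M.1 : Matrix (Fin 3) (Fin 3) (ZMod 2)) *ᵥ aff v =
      (N.1 : Matrix (Fin 3) (Fin 3) (ZMod 2)) *ᵥ aff v := fun v => by
    rw [← aff_act, ← aff_act]
    exact congrArg aff (congrArg (fun σ : Equiv.Perm _ => σ v) h)
  refine Subtype.ext (Subtype.ext (Matrix.ext fun i j => ?_))
  have e0 := congrFun (h' ![0, 0]) i
  have e1 := congrFun (h' ![1, 0]) i
  have e2 := congrFun (h' ![0, 1]) i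
  simp [aff, Matrix.mulVec, dotProduct, Fin.sum_univ_three] at e0 e1 e2
  fin_cases j
  · rw [e0] at e1; exact add_right_cancel e1
  · rw [e0] at e2; exact add_right_cancel e2
  · exact e0

theorem actHom_surjective : Function.Surjective actHom := by
  intro σ
  set p := σ 0 with hp
  set a := σ ![1, 0] - p with ha
  set b := σ ![0, 1] - p with hb
  have ha0 : a ≠ 0 := sub_ne_zero.2 (σ.injective.ne (by decide))
  have hb0 : b ≠ 0 := sub_ne_zero.2 (σ.injective.ne (by decide))
  have hab : a ≠ b := fun h => σ.injective.ne (by decide) (sub_left_inj.1 h)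
  have hcons : ∀ v : Fin 2 → ZMod 2, ![v 0, v 1] = v := by
    intro v; funext i; fin_cases i <;> rfl
  have hd := det_one (a 0) (a 1) (b 0) (b 1) (by rwa [hcons]) (by rwa [hcons]) (by rwa [hcons, hcons])
  let A : Matrix.SpecialLinearGroup (Fin 3) (ZMod 2) :=
    ⟨!![a 0, b 0, p 0; a 1, b 1, p 1; 0, 0, 1], by
      simp [Matrix.det_fin_three]; linear_combination hd⟩
  have hA : A ∈ Cfsg.qd 2 := Subgroup.subset_closure ⟨rfl, rfl, rfl⟩
  refine ⟨⟨A, hA⟩, Equiv.ext fun v => ?_⟩
  have hval : ∀ v : Fin 2 → ZMod 2, act ⟨A, hA⟩ v = v 0 • a + v 1 • b + p := by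
    intro v
    funext i
    fin_cases i <;> simp [act, unaff, aff, A, Matrix.mulVec, dotProduct, Fin.sum_univ_three] <;> ring
  show act ⟨A, hA⟩ v = σ v
  rw [hval]
  rcases four_points v with rfl | rfl | rfl | rfl
  · simp [hp]
  · simp [ha]
  · simp [hb]
  · have := fourth p (σ ![1, 0]) (σ ![0, 1]) (σ ![1, 1]) (σ.injective.ne (by decide))
      (σ.injective.ne (by decide)) (σ.injective.ne (by decide)) (σ.injective.ne (by decide))
      (σ.injective.ne (by decide)) (σ.injective.ne (by decide))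
    rw [this, ha, hb]
    have h2 : ∀ x y z : Fin 2 → ZMod 2, (1 : ZMod 2) • (y - x) + (1 : ZMod 2) • (z - x) + x = x + y + z := by
      decide
    simpa using h2 p (σ ![1, 0]) (σ ![0, 1])

end

/-- The group Qd(2), the natural semidirect product of an elementary abelian group of order 4 by SL₂(2) (realised as the affine subgroup of SL₃(2)), is isomorphic to the symmetric group of degree 4. -/
theorem result : Nonempty (↥(Cfsg.qd 2) ≃* Equiv.Perm (Fin 4)) := by
  exact ⟨(MulEquiv.ofBijective actHom ⟨actHom_injective, actHom_surjective⟩).trans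
    (Equiv.permCongrHom (Fintype.equivFinOfCardEq (by simp)))⟩

end Cfsg.Agent.S2761
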