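import Cfsg.Statements.S2000
import Cfsg.Agent.Lib.Offender.SFourFusion
import Cfsg.Agent.Lib.Qd.ConverseFamily
import Cfsg.Agent.Lib.Qd.Stability
import Cfsg.Agent.Lib.ConjFun.KInfControl
import Cfsg.Agent.S2761
-- import your own Cfsg.Agent.* helpers here

set_option autoImplicit false
universe u
open Cfsg

namespace Cfsg.Agent.S2000

/-- Let p be a prime and G a finite group. Then Qd(p) (the natural semidirect product of an elementary abelian group of order p² by SL₂(p)) is not involved in G if and only if there is a set 𝓦 of isomorphism-invariant p-group functors (each nontrivial on nontrivial finite p-groups and carried onto W(R) by every isomorphism from a finite p-group Q onto R, hence with characteristic values on finite p-groups) whose induced conjugacy functors control strong fusion in every section of G. -/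
theorem result {G : Type u} [Group G] [Finite G] {p : ℕ} [Fact p.Prime] : ¬ Cfsg.Involves ↥(Cfsg.qd p) G ↔ ∃ 𝓦 : Set (∀ (Q : Type u) [Group Q], Subgroup Q), (∀ W ∈ 𝓦, Cfsg.IsCharPFunctor.{u} p W) ∧ ∀ (K R : Subgroup G) [hR : (R.subgroupOf K).Normal], Cfsg.FamilyControlsStrongFusionIn p ((fun W => Cfsg.inducedFunctor (G := (↥K ⧸ R.subgroupOf K)) W) '' 𝓦) ⊤ := by
  classical
  constructor
  · intro hfree
    by_cases hp : p = 2
    · subst hp
      obtain ⟨e₂⟩ := Cfsg.Agent.S2761.result
      refine ⟨Offender.zjFamily, Offender.isCharPFunctor_zjFamily, fun K R _ =>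
        Offender.fus_zjFamily (G := G) ?_ _ (ConjFun.involves_of_section K R)⟩
      rintro ⟨K', R', hR', ⟨e⟩⟩
      exact hfree ⟨K', R', hR', ⟨e.trans e₂.symm⟩⟩
    · refine ⟨{Cfsg.kInfLower}, by rintro W rfl; exact KInf.isCharPFunctor_kInfLower, fun K R _ => ?_⟩
      have h𝓦 : ∀ W ∈ ({Cfsg.kInfLower.{u}} : Set (∀ (Q : Type u) [Group Q], Subgroup Q)),
          Cfsg.IsCharPFunctor.{u} p W := by rintro W rfl; exact KInf.isCharPFunctor_kInfLower
      refine Transfer.fus_of_constrained_sections (G := G) h𝓦 (fun K' R' _ hC => ?_) _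
        (ConjFun.involves_of_section K R)
      obtain ⟨S⟩ : Nonempty (Sylow p (↥K' ⧸ R'.subgroupOf K')) := inferInstance
      refine Transfer.fus_of_factor h𝓦 rfl rfl S fun x => ⟨x, ?_, 1, one_mem _, (mul_one x).symm⟩
      rw [Subgroup.normalizer_eq_top_iff.mpr ?_]
      · exact Subgroup.mem_top x
      by_contra hn
      obtain ⟨g, -, -, -, -, h1⟩ := ConjFun.exists_quartic S (ConjFun.not_normal_kInf (Or.inl rfl) hn)
      obtain ⟨A, hA, hA'⟩ := h1 hC
      obtain ⟨N, hN, hns⟩ := ConjFun.not_isNormalizerPStable_quotient hA hA'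
      exact hns (Qd.isNormalizerPStable_of_not_involves_qd hp fun h => hfree (ConjFun.involves_trans h
        (ConjFun.involves_trans (ConjFun.involves_quotient N) (ConjFun.involves_of_section K' R'))))
  · rintro ⟨𝓦, h𝓦, hfus⟩ ⟨K, R, hR, ⟨e⟩⟩
    exact Qd.not_fus_of_equiv h𝓦 e.symm (hfus K R)

end Cfsg.Agent.S2000
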