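import Cfsg.Statements.S2001
import Cfsg.Agent.Lib.Transfer.PairLocal
import Cfsg.Agent.Lib.Transfer.SectionFusion

set_option autoImplicit false
open Cfsg

namespace Cfsg.Agent.S2001

open Transfer Subgroup

theorem center_mono_functor {G : Type*} [Group G] [Finite G] {p : ℕ} [Fact p.Prime] (P : Sylow p G)
    (hP : (P : Subgroup G) ≠ ⊥) {V : Subgroup G → Subgroup G}
    (hVmono : ∀ H K : Subgroup G, IsPGroup p ↥H → IsPGroup p ↥K → H ≠ ⊥ → K ≠ ⊥ →
      H ⊓ centralizer (H : Set G) ≤ K ⊓ centralizer (K : Set G) → V H ≤ V K)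
    {E : Subgroup G} (hE : E ≤ (P : Subgroup G))
    (hZ : centerOf (P : Subgroup G) ≤ centerOf ((P : Subgroup G) ⊓ normalizer (E : Set G))) :
    centralizer ((V ((P : Subgroup G) ⊓ normalizer (E : Set G)) : Subgroup G) : Set G) ≤
      centralizer ((V (P : Subgroup G) : Subgroup G) : Set G) := by
  refine Subgroup.centralizer_le (hVmono _ _ P.2 (P.2.to_le inf_le_left) hP ?_ hZ)
  intro hT
  by_cases hEb : E = ⊥
  · subst hEb
    rw [normalizer_eq_top_iff.mpr inferInstance, inf_top_eq] at hT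
    exact hP hT
  · exact hEb (eq_bot_iff.mpr (hT ▸ le_inf hE le_normalizer))

open scoped commutatorElement


/-- Let p be a prime dividing the order of the finite group G, P a Sylow p-subgroup, W a conjugacy functor for p on G with Z(H) ≤ W(H) for every nontrivial p-subgroup H, and V a central functor: a conjugacy functor with V(H) ≤ Z(H), and V(H) ≤ V(K) whenever Z(H) ≤ Z(K), for nontrivial p-subgroups H, K. Say that W with V controls transfer in a subgroup L when some Sylow p-subgroup Q of L satisfies Q ∩ L' = (Q ∩ (N_L(W(Q)))')·(Q ∩ (C_L(V(Q)))') as a product of two subgroups. If W with V controls transfer in N_G(H) for every subgroup H with Z(P) ≤ H ≤ P, then W with V controls transfer in G. -/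
theorem result {G : Type*} [Group G] [Finite G] {p : ℕ} [Fact p.Prime] (hdiv : p ∣ Nat.card G) (P : Sylow p G) (W V : Subgroup G → Subgroup G) (hW : Cfsg.IsConjugacyFunctor p W) (hV : Cfsg.IsConjugacyFunctor p V) (hWZ : ∀ H : Subgroup G, IsPGroup p ↥H → H ⊓ Subgroup.centralizer ((H : Subgroup G) : Set G) ≤ W H) (hVZ : ∀ H : Subgroup G, IsPGroup p ↥H → V H ≤ H ⊓ Subgroup.centralizer ((H : Subgroup G) : Set G)) (hVmono : ∀ H K : Subgroup G, IsPGroup p ↥H → IsPGroup p ↥K → H ≠ ⊥ → K ≠ ⊥ → H ⊓ Subgroup.centralizer ((H : Subgroup G) : Set G) ≤ K ⊓ Subgroup.centralizer ((K : Subgroup G) : Set G) → V H ≤ V K) (hloc : ∀ H : Subgroup G, (P : Subgroup G) ⊓ Subgroup.centralizer (((P : Subgroup G) : Subgroup G) : Set G) ≤ H → H ≤ (P : Subgroup G) → ∃ Q : Subgroup G, Q ≤ Subgroup.normalizer ((H : Subgroup G) : Set G) ∧ IsPGroup p ↥Q ∧ ¬ p ∣ (Q).relIndex (Subgroup.normalizer ((H : Subgroup G) : Set G)) ∧ ∀ x : G, x ∈ Q ⊓ ⁅Subgroup.normalizer ((H : Subgroup G) : Set G), Subgroup.normalizer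 ((H : Subgroup G) : Set G)⁆ ↔ ∃ a ∈ Q ⊓ ⁅Subgroup.normalizer ((H : Subgroup G) : Set G) ⊓ Subgroup.normalizer ((W Q : Subgroup G) : Set G), Subgroup.normalizer ((H : Subgroup G) : Set G) ⊓ Subgroup.normalizer ((W Q : Subgroup G) : Set G)⁆, ∃ b ∈ Q ⊓ ⁅Subgroup.normalizer ((H : Subgroup G) : Set G) ⊓ Subgroup.centralizer ((V Q : Subgroup G) : Set G), Subgroup.normalizer ((H : Subgroup G) : Set G) ⊓ Subgroup.centralizer ((V Q : Subgroup G) : Set G)⁆, x = a * b) : ∃ Q : Subgroup G, IsPGroup p ↥Q ∧ ¬ p ∣ Q.index ∧ ∀ x : G, x ∈ Q ⊓ commutator G ↔ ∃ a ∈ Q ⊓ ⁅Subgroup.normalizer ((W Q : Subgroup G) : Set G), Subgroup.normalizer ((W Q : Subgroup G) : Set G)⁆, ∃ b ∈ Q ⊓ ⁅Subgroup.centralizer ((V Q : Subgroup G) : Set G), Subgroup.centralizer ((V Q : Subgroup G) : Set G)⁆, x = a * b := by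
  have hPne : (P : Subgroup G) ≠ ⊥ := P.ne_bot_of_dvd_card hdiv
  set A₀ := (P : Subgroup G) ⊓ ⁅normalizer ((W (P : Subgroup G) : Subgroup G) : Set G),
    normalizer ((W (P : Subgroup G) : Subgroup G) : Set G)⁆ with hA₀
  set B₀ := (P : Subgroup G) ⊓ ⁅centralizer ((V (P : Subgroup G) : Subgroup G) : Set G),
    centralizer ((V (P : Subgroup G) : Subgroup G) : Set G)⁆ with hB₀
  set T₀ := A₀ ⊔ B₀ with hT₀
  have key : ∀ (A : Set G) (g : G), (∀ a ∈ A, a ∈ (P : Subgroup G)) →
      (∀ a ∈ A, g * a * g⁻¹ ∈ (P : Subgroup G)) → ∀ a ∈ A, a⁻¹ * (g * a * g⁻¹) ∈ T₀ := by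
    refine rel_of_local_above_center P hW hWZ (Rel := fun A g => ∀ a ∈ A, a⁻¹ * (g * a * g⁻¹) ∈ T₀)
      ⟨fun A g h a ha => by rw [h a ha]; simp, fun A B g hB h a ha => h a (hB ha),
        fun A g k h hk a ha => ?_, fun A g k he h a ha => by rw [he a ha]; exact h a ha⟩
      (fun U => (P : Subgroup G) ⊓ ⁅normalizer (U : Set G), normalizer (U : Set G)⁆ ≤ T₀)
      le_sup_left ?_ ?_ ?_
    · have h1 := mul_mem (h a ha) (hk _ ⟨a, ha, rfl⟩)
      convert h1 using 1
      group
    · intro D hD hΘ x hx a ha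
      refine hΘ (mem_inf.mpr ⟨mul_mem (inv_mem (hD ha))
        (hD ((mem_normalizer_iff.mp hx a).mp ha)), ?_⟩)
      have h1 := commutator_mem_commutator (H₁ := normalizer (D : Set G)) (inv_mem (le_normalizer ha)) hx
      convert h1 using 1
      rw [commutatorElement_def]
      group
    · intro U m hU hm hmrel hΘE s hs
      obtain ⟨hsP, hsc⟩ := mem_inf.mp hs
      have hsT : s ∈ (P : Subgroup G) ⊓ normalizer (U : Set G) :=
        mem_inf.mpr ⟨hsP, commutator_le_self _ hsc⟩
      have h1 : m * s * m⁻¹ ∈ T₀ := hΘE (mem_inf.mpr ⟨hm ⟨s, hsT, rfl⟩, by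
        rw [normalizer_conjMap, ← conjMap_commutator]
        exact conj_mem_conjMap hsc⟩)
      convert mul_mem h1 (inv_mem (hmrel s hsT)) using 1
      group
    · intro E hEP hZE hEi hZT hΘW s hs
      obtain ⟨hsP, hsc⟩ := mem_inf.mp hs
      set NE := normalizer (E : Set G) with hNE
      set T := (P : Subgroup G) ⊓ NE with hT
      have hTp : IsPGroup p T := P.2.to_le inf_le_left
      obtain ⟨Q, hQN, hQp, hQi, hQc⟩ := hloc E hZE hEP
      obtain ⟨h, hh, hhT⟩ := exists_conjMap_eq hQN hQp hQi inf_le_right hTp hEi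
      replace hhT : conjMap h Q = T := hhT
      have hsT : s ∈ T := mem_inf.mpr ⟨hsP, commutator_le_self _ hsc⟩
      have hfix : conjMap h ⁅NE, NE⁆ = ⁅NE, NE⁆ := by
        rw [conjMap_commutator, conjMap_of_mem hh]
      rw [← hhT, mem_conjMap] at hsT
      rw [← hfix, mem_conjMap] at hsc
      obtain ⟨a, ha, b, hb, hab⟩ := (hQc _).mp (mem_inf.mpr ⟨hsT, hsc⟩)
      have e : s = h * a * h⁻¹ * (h * b * h⁻¹) := by
        calc s = h * (h⁻¹ * s * h) * h⁻¹ := by group
          _ = _ := by rw [hab]; group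
      have hTP : T ≤ (P : Subgroup G) := inf_le_left
      rw [e]
      refine mul_mem (hΘW (mem_inf.mpr ⟨hTP (hhT ▸ conj_mem_conjMap (mem_inf.mp ha).1), ?_⟩))
        (mem_sup_right (mem_inf.mpr ⟨hTP (hhT ▸ conj_mem_conjMap (mem_inf.mp hb).1), ?_⟩))
      · have h1 : conjMap h ⁅normalizer ((W Q : Subgroup G) : Set G),
            normalizer ((W Q : Subgroup G) : Set G)⁆ =
            ⁅normalizer ((W T : Subgroup G) : Set G), normalizer ((W T : Subgroup G) : Set G)⁆ := by
          rw [conjMap_commutator, ← normalizer_conjMap, ← hhT]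
          show _ = ⁅normalizer ((W (Q.map (MulAut.conj h).toMonoidHom) : Subgroup G) : Set G),
            normalizer ((W (Q.map (MulAut.conj h).toMonoidHom) : Subgroup G) : Set G)⁆
          rw [(hW Q hQp).2.2 h]
        exact h1 ▸ conj_mem_conjMap (commutator_mono inf_le_right inf_le_right (mem_inf.mp ha).2)
      · have h1 : conjMap h (centralizer ((V Q : Subgroup G) : Set G)) =
            centralizer ((V T : Subgroup G) : Set G) := by
          rw [conjMap, ConjFun.conjMap_centralizer, ← (hV Q hQp).2.2 h]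
          exact congrArg (fun U => centralizer ((V U : Subgroup G) : Set G)) hhT
        have h2 := conj_mem_conjMap (g := h)
          (commutator_mono inf_le_right inf_le_right (mem_inf.mp hb).2 :
            b ∈ ⁅centralizer ((V Q : Subgroup G) : Set G), centralizer ((V Q : Subgroup G) : Set G)⁆)
        rw [conjMap_commutator, h1] at h2
        exact commutator_mono (center_mono_functor P hPne hVmono hEP hZT)
          (center_mono_functor P hPne hVmono hEP hZT) h2
  have hPN : (P : Subgroup G) ≤ normalizer ((W (P : Subgroup G) : Subgroup G) : Set G) :=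
    self_le_normalizer_functor hW P.2
  have hPC : (P : Subgroup G) ≤ centralizer ((V (P : Subgroup G) : Subgroup G) : Set G) :=
    fun x hx => mem_centralizer_iff.mpr fun v hv =>
      (mem_centralizer_iff.mp (mem_inf.mp (hVZ _ P.2 hv)).2 x hx).symm
  have hA₀B₀ : A₀ ≤ normalizer (B₀ : Set G) := fun x hx => mem_normalizer_of_conj_mem fun b hb => by
    have hxP := (mem_inf.mp hx).1
    refine mem_inf.mpr ⟨mul_mem (mul_mem hxP (mem_inf.mp hb).1) (inv_mem hxP), ?_⟩
    have h1 := conj_mem_conjMap (g := x) (mem_inf.mp hb).2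
    rwa [conjMap_commutator, conjMap_of_mem (hPC hxP)] at h1
  refine ⟨(P : Subgroup G), P.2, P.not_dvd_index, fun x => ⟨fun hx => ?_, ?_⟩⟩
  · have hx' : x ∈ (P : Subgroup G).focalSubgroup := by
      rw [← Subgroup.commutator_inf_eq_focalSubgroup]
      exact mem_inf.mpr ⟨(mem_inf.mp hx).2, (mem_inf.mp hx).1⟩
    have hle : (P : Subgroup G).focalSubgroup ≤ T₀ := by
      rw [Subgroup.focalSubgroup, closure_le]
      rintro _ ⟨hz, a, ha, u, rfl⟩
      have h2 : u * a⁻¹ * u⁻¹ ∈ (P : Subgroup G) := by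
        have h1 := mul_mem (inv_mem ha) hz
        simpa [commutatorElement_def, mul_assoc] using h1
      have h3 := key {a⁻¹} u (fun b hb => by rw [Set.mem_singleton_iff.mp hb]; exact inv_mem ha)
        (fun b hb => by rw [Set.mem_singleton_iff.mp hb]; exact h2) a⁻¹ rfl
      simpa [commutatorElement_def, mul_assoc] using h3
    obtain ⟨a, ha, b, hb, rfl⟩ := (Coprime.mem_sup_iff_of_le_normalizer hA₀B₀).mp (hle hx')
    exact ⟨a, ha, b, hb, rfl⟩
  · rintro ⟨a, ha, b, hb, rfl⟩
    exact mem_inf.mpr ⟨mul_mem (mem_inf.mp ha).1 (mem_inf.mp hb).1,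
      mul_mem (commutator_mono le_top le_top (mem_inf.mp ha).2)
        (commutator_mono le_top le_top (mem_inf.mp hb).2)⟩

end Cfsg.Agent.S2001
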