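import Cfsg.Statements.S2002
import Cfsg.Agent.Lib.Transfer.PairLocal
import Cfsg.Agent.Lib.Transfer.SectionFusion

set_option autoImplicit false
open Cfsg

namespace Cfsg.Agent.S2002

open Transfer Subgroup

theorem center_mono_functor {G : Type*} [Group G] [Finite G] {p : ℕ} [Fact p.Prime] (P : Sylow p G)
    (hP : (P : Subgroup G) ≠ ⊥) {V : Subgroup G → Subgroup G}
    (hVmono : ∀ H K : Subgroup G, IsPGroup p ↥H → IsPGroup p ↥K → H ≠ ⊥ → K ≠ ⊥ →
      H ⊓ centralizer (H : Set G) ≤ K ⊓ centralizer (K : Set G) → V H ≤ V K)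
    {E : Subgroup G} (hE : E ≤ (P : Subgroup G))
    (hZ : centerOf (P : Subgroup G) ≤ centerOf ((P : Subgroup G) ⊓ normalizer (E : Set G))) :
    centralizer ((V ((P : Subgroup G) ⊓ normalizer (E : Set G)) : Subgroup G) : Set G) ≤
      centralizer ((V (P : Subgroup G) : Subgroup G) : Set G) := by
  refine Subgroup.centralizer_le (hVmono _ _ P.2 (P.2.to_le inf_le_left) hP ?_ hZ)
  intro hT
  by_cases hEb : E = ⊥
  · subst hEb
    rw [normalizer_eq_top_iff.mpr inferInstance, inf_top_eq] at hT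
    exact hP hT
  · exact hEb (eq_bot_iff.mpr (hT ▸ le_inf hE le_normalizer))

theorem lchain_of_list {G : Type*} [Group G] {𝓛 : Set (Subgroup G)} {T : Subgroup G} :
    ∀ (n : ℕ) (b : Fin n → G), (∀ i, ∃ L ∈ 𝓛, b i ∈ L) → ∀ A : Set G,
      (∀ k ≤ n, ∀ a ∈ A, (((List.ofFn b).take k).prod)⁻¹ * a * ((List.ofFn b).take k).prod ∈ T) →
      LChain 𝓛 T A ((List.ofFn b).prod)⁻¹ := by
  intro n
  induction n with
  | zero => intro b _ A _; exact .one fun a _ => by simp
  | succ n ih =>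
    intro b hb A hT
    obtain ⟨L, hL, hb0⟩ := hb 0
    have hy : ∀ a ∈ A, (b 0)⁻¹ * a * (b 0)⁻¹⁻¹ ∈ T := fun a ha => by
      simpa [List.ofFn_succ] using hT 1 (by omega) a ha
    refine ((LChain.single hL (inv_mem hb0) hy).trans _
      (ih (fun i => b i.succ) (fun i => hb i.succ) _ ?_)).congr' fun a _ => by
        simp [List.ofFn_succ, mul_assoc]
    rintro k hk _ ⟨a, ha, rfl⟩
    simpa [List.ofFn_succ, mul_assoc] using hT (k + 1) (by omega) a ha

theorem exists_list_of_lchain {G : Type*} [Group G] {𝓛 : Set (Subgroup G)} {T : Subgroup G}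
    {A : Set G} {g : G} (h : LChain 𝓛 T A g) : (∀ a ∈ A, a ∈ T) →
    ∃ (n : ℕ) (b : Fin n → G), (∀ i, ∃ L ∈ 𝓛, b i ∈ L) ∧
      (∀ a ∈ A, ((List.ofFn b).prod)⁻¹ * a * (List.ofFn b).prod = g * a * g⁻¹) ∧
      ∀ k ≤ n, ∀ a ∈ A, (((List.ofFn b).take k).prod)⁻¹ * a * ((List.ofFn b).take k).prod ∈ T := by
  induction h with
  | @one A g h1 =>
    exact fun hA => ⟨0, Fin.elim0, fun i => i.elim0, fun a ha => by simpa using (h1 a ha).symm,
      fun k _ a ha => by simpa using hA a ha⟩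
  | @step A g y h L hL hy hT _ hg ih =>
    intro hA
    obtain ⟨n, b, hb, hbe, hbT⟩ := ih (by rintro _ ⟨a, ha, rfl⟩; exact hT a ha)
    refine ⟨n + 1, Fin.cons y⁻¹ b, fun i => ?_, fun a ha => ?_, fun k hk a ha => ?_⟩
    · induction i using Fin.cases with
      | zero => exact ⟨L, hL, by simpa using inv_mem hy⟩
      | succ j => simpa using hb j
    · rw [hg a ha, ← hbe _ ⟨a, ha, rfl⟩]
      simp [mul_assoc]
    · cases k with
      | zero => simpa using hA a ha
      | succ j => simpa [mul_assoc] using hbT j (by omega) _ ⟨a, ha, rfl⟩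


/-- Let p be a prime dividing the order of the finite group G, P a Sylow p-subgroup, W a conjugacy functor for p on G with Z(H) ≤ W(H) for every nontrivial p-subgroup H, and V a central functor (a conjugacy functor with V(H) ≤ Z(H), and V(H) ≤ V(K) whenever Z(H) ≤ Z(K)). Say that W with V controls strong fusion in a subgroup L when some Sylow p-subgroup Q of L has the property: whenever X ⊆ Q and a ∈ L with a⁻¹Xa ⊆ Q, then a = c b with c ∈ C_L(X) and b = b₁ ⋯ bₙ a product of elements each in N_L(W(Q)) or in C_L(V(Q)) such that every partial conjugate (b₁ ⋯ bₖ)⁻¹ X (b₁ ⋯ bₖ) lies in Q. If W with V controls strong fusion in N_G(H) for every subgroup H with Z(P) ≤ H ≤ P, then W with V controls strong fusion in G. -/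
theorem result {G : Type*} [Group G] [Finite G] {p : ℕ} [Fact p.Prime] (hdiv : p ∣ Nat.card G) (P : Sylow p G) (W V : Subgroup G → Subgroup G) (hW : Cfsg.IsConjugacyFunctor p W) (hV : Cfsg.IsConjugacyFunctor p V) (hWZ : ∀ H : Subgroup G, IsPGroup p ↥H → H ⊓ Subgroup.centralizer ((H : Subgroup G) : Set G) ≤ W H) (hVZ : ∀ H : Subgroup G, IsPGroup p ↥H → V H ≤ H ⊓ Subgroup.centralizer ((H : Subgroup G) : Set G)) (hVmono : ∀ H K : Subgroup G, IsPGroup p ↥H → IsPGroup p ↥K → H ≠ ⊥ → K ≠ ⊥ → H ⊓ Subgroup.centralizer ((H : Subgroup G) : Set G) ≤ K ⊓ Subgroup.centralizer ((K : Subgroup G) : Set G) → V H ≤ V K) (hloc : ∀ H : Subgroup G, (P : Subgroup G) ⊓ Subgroup.centralizer (((P : Subgroup G) : Subgroup G) : Set G) ≤ H → H ≤ (P : Subgroup G) → ∃ Q : Subgroup G, Q ≤ Subgroup.normalizer ((H : Subgroup G) : Set G) ∧ IsPGroup p ↥Q ∧ ¬ p ∣ (Q).relIndex (Subgroup.normalizer ((H : Subgroup G) : Set G)) ∧ ∀ (X : Set G) (a : G), X ⊆ Q → a ∈ Subgroup.normalizer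 ((H : Subgroup G) : Set G) → (fun x => a⁻¹ * x * a) '' X ⊆ Q → ∃ c ∈ Subgroup.normalizer ((H : Subgroup G) : Set G) ⊓ Subgroup.centralizer X, ∃ (n : ℕ) (b : Fin n → G), (∀ i, b i ∈ Subgroup.normalizer ((H : Subgroup G) : Set G) ⊓ Subgroup.normalizer ((W Q : Subgroup G) : Set G) ∨ b i ∈ Subgroup.normalizer ((H : Subgroup G) : Set G) ⊓ Subgroup.centralizer ((V Q : Subgroup G) : Set G)) ∧ a = c * (List.ofFn b).prod ∧ ∀ k : ℕ, k ≤ n → (fun x => (((List.ofFn b).take k).prod)⁻¹ * x * ((List.ofFn b).take k).prod) '' ((fun x => c⁻¹ * x * c) '' X) ⊆ Q) : ∃ Q : Subgroup G, IsPGroup p ↥Q ∧ ¬ p ∣ Q.index ∧ ∀ (X : Set G) (a : G), X ⊆ Q → (fun x => a⁻¹ * x * a) '' X ⊆ Q → ∃ c ∈ Subgroup.centralizer X, ∃ (n : ℕ) (b : Fin n → G), (∀ i, b i ∈ ⊤ ⊓ Subgroup.normalizer ((W Q : Subgroup G) : Set G) ∨ b i ∈ ⊤ ⊓ Subgroup.centralizer ((V Q : Subgroup G) : Set G)) ∧ a = c * (List.ofFn b).prod ∧ ∀ k : ℕ, k ≤ n → (fun x => (((List.ofFn b).take k).prod)⁻¹ * x * ((List.ofFn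 b).take k).prod) '' ((fun x => c⁻¹ * x * c) '' X) ⊆ Q := by
  have hPne : (P : Subgroup G) ≠ ⊥ := P.ne_bot_of_dvd_card hdiv
  set 𝓛 : Set (Subgroup G) := {(⊤ : Subgroup G) ⊓ normalizer ((W (P : Subgroup G) : Subgroup G) : Set G),
    (⊤ : Subgroup G) ⊓ centralizer ((V (P : Subgroup G) : Subgroup G) : Set G)} with h𝓛
  have key : ∀ (A : Set G) (g : G), (∀ a ∈ A, a ∈ (P : Subgroup G)) →
      (∀ a ∈ A, g * a * g⁻¹ ∈ (P : Subgroup G)) → LChain 𝓛 (P : Subgroup G) A g := by
    refine rel_of_local_above_center P hW hWZ (Rel := LChain 𝓛 (P : Subgroup G))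
      ⟨fun A g h => .one h, fun A B g hB h => h.mono_set B hB, fun A g k h hk => h.trans k hk,
        fun A g k he h => h.congr' he⟩
      (fun U => ∀ y ∈ normalizer (U : Set G), ∀ A : Set G,
        (∀ a ∈ A, a ∈ (P : Subgroup G) ⊓ normalizer (U : Set G)) →
        (∀ a ∈ A, y * a * y⁻¹ ∈ (P : Subgroup G) ⊓ normalizer (U : Set G)) →
        LChain 𝓛 (P : Subgroup G) A y) ?_ ?_ ?_ ?_
    · exact fun y hy A _ hAy => LChain.single (Set.mem_insert _ _)
        (mem_inf.mpr ⟨mem_top y, hy⟩) fun a ha => (mem_inf.mp (hAy a ha)).1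
    · exact fun D hD hΘ x hx => hΘ x hx D (fun a ha => le_inf hD le_normalizer ha)
        fun a ha => le_inf hD le_normalizer ((mem_normalizer_iff.mp hx a).mp ha)
    · intro U m hU hm hmrel hΘE y hy A hA hAy
      set T := (P : Subgroup G) ⊓ normalizer (U : Set G)
      have hTE : ∀ a ∈ T, m * a * m⁻¹ ∈
          (P : Subgroup G) ⊓ normalizer ((conjMap m U : Subgroup G) : Set G) := fun a ha =>
        mem_inf.mpr ⟨hm ⟨a, ha, rfl⟩, by
          rw [normalizer_conjMap]
          exact conj_mem_conjMap (mem_inf.mp ha).2⟩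
      have hyE : m * y * m⁻¹ ∈ normalizer ((conjMap m U : Subgroup G) : Set G) := by
        rw [normalizer_conjMap]
        exact conj_mem_conjMap hy
      have h1 := hmrel.mono_set A hA
      have h2 := hΘE _ hyE ((fun a => m * a * m⁻¹) '' A)
        (by rintro _ ⟨a, ha, rfl⟩; exact hTE a (hA a ha))
        (by
          rintro _ ⟨a, ha, rfl⟩
          convert hTE _ (hAy a ha) using 1
          group)
      have h3 := (hmrel.mono_set ((fun a => y * a * y⁻¹) '' A)
        (by rintro _ ⟨a, ha, rfl⟩; exact hAy a ha)).inv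
        (by rintro _ ⟨a, ha, rfl⟩; exact (mem_inf.mp (hAy a ha)).1)
      refine ((h1.trans _ h2).trans _ ?_).congr' (g := m⁻¹ * (m * y * m⁻¹ * m))
        (fun a _ => by group)
      convert h3 using 1
      rw [Set.image_image]
      exact Set.image_congr fun a _ => by group
    · intro E hEP hZE hEi hZT hΘW y hy A hA hAy
      set NE := normalizer (E : Set G) with hNE
      set T := (P : Subgroup G) ⊓ NE with hT
      have hTp : IsPGroup p T := P.2.to_le inf_le_left
      obtain ⟨Q, hQN, hQp, hQi, hQc⟩ := hloc E hZE hEP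
      obtain ⟨h, hh, hhT⟩ := exists_conjMap_eq hQN hQp hQi inf_le_right hTp hEi
      replace hhT : conjMap h Q = T := hhT
      have hback : ∀ a ∈ T, h⁻¹ * a * h ∈ Q := fun a ha => by
        rw [← hhT, mem_conjMap] at ha
        exact ha
      obtain ⟨c, hc, n, b, hb, hab, hpart⟩ := hQc ((fun a => h⁻¹ * a * h) '' A) (h⁻¹ * y⁻¹ * h)
        (by rintro _ ⟨a, ha, rfl⟩; exact hback a (hA a ha))
        (mul_mem (mul_mem (inv_mem hh) (inv_mem hy)) hh)
        (by
          rintro _ ⟨_, ⟨a, ha, rfl⟩, rfl⟩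
          convert hback _ (hAy a ha) using 1
          group
          rfl)
      have hcX : ∀ x ∈ (fun a => h⁻¹ * a * h) '' A, c⁻¹ * x * c = x := fun x hx => by
        rw [mul_assoc, mem_centralizer_iff.mp (mem_inf.mp hc).2 x hx]
        group
      set 𝓛Q : Set (Subgroup G) := {NE ⊓ normalizer ((W Q : Subgroup G) : Set G),
        NE ⊓ centralizer ((V Q : Subgroup G) : Set G)} with h𝓛Q
      have hch : LChain 𝓛Q Q ((fun a => h⁻¹ * a * h) '' A) ((List.ofFn b).prod)⁻¹ := by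
        refine lchain_of_list n b (fun i => ?_) _ fun k hk x hx => ?_
        · rcases hb i with hbi | hbi
          · exact ⟨_, Set.mem_insert _ _, hbi⟩
          · exact ⟨_, Set.mem_insert_of_mem _ rfl, hbi⟩
        · have h4 := hpart k hk ⟨_, ⟨x, hx, rfl⟩, rfl⟩
          simpa only [hcX x hx, SetLike.mem_coe] using h4
      have hch' : LChain 𝓛Q Q ((fun a => h⁻¹ * a * h) '' A) (h⁻¹ * y * h) := hch.congr' fun x hx => by
        have hy' : h⁻¹ * y * h = ((List.ofFn b).prod)⁻¹ * c⁻¹ := by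
          rw [← mul_inv_rev, ← hab]; group
        calc h⁻¹ * y * h * x * (h⁻¹ * y * h)⁻¹
            = ((List.ofFn b).prod)⁻¹ * (c⁻¹ * x * c) * ((List.ofFn b).prod)⁻¹⁻¹ := by rw [hy']; group
          _ = _ := by rw [hcX x hx]
      have h2 := hch'.conj h
      have eA : (fun a => h * a * h⁻¹) '' ((fun a => h⁻¹ * a * h) '' A) = A := by
        rw [Set.image_image]
        conv_rhs => rw [← Set.image_id A]
        exact Set.image_congr fun a _ => by simp [mul_assoc]
      rw [eA, hhT, show h * (h⁻¹ * y * h) * h⁻¹ = y by group] at h2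
      refine LChain.lift inf_le_left ?_ h2 hA
      rintro _ ⟨L, hL, rfl⟩ z hz B hB hBz
      rcases hL with rfl | rfl
      · rw [conjMap_inf, ← normalizer_conjMap, ← normalizer_conjMap, conjMap, conjMap,
          ← (hW Q hQp).2.2 h] at hz
        rw [conjMap] at hhT
        rw [hhT] at hz
        have hTN : T ≤ (P : Subgroup G) ⊓ normalizer ((W T : Subgroup G) : Set G) :=
          le_inf inf_le_left (self_le_normalizer_functor hW hTp)
        exact hΘW z (mem_inf.mp hz).2 B (fun a ha => hTN (hB a ha)) fun a ha => hTN (hBz a ha)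
      · have hz' : z ∈ centralizer ((V T : Subgroup G) : Set G) := by
          obtain ⟨z', hz', rfl⟩ := hz
          rw [← hhT]
          show _ ∈ centralizer ((V (Q.map (MulAut.conj h).toMonoidHom) : Subgroup G) : Set G)
          rw [(hV Q hQp).2.2 h, ← ConjFun.conjMap_centralizer]
          exact ⟨z', (mem_inf.mp hz').2, rfl⟩
        exact LChain.single (Set.mem_insert_of_mem _ rfl)
          (mem_inf.mpr ⟨mem_top z, center_mono_functor P hPne hVmono hEP hZT hz'⟩)
          fun a ha => (mem_inf.mp (hBz a ha)).1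
  refine ⟨(P : Subgroup G), P.2, P.not_dvd_index, fun X a hX hXa => ?_⟩
  obtain ⟨n, b, hb, hbe, hbT⟩ := exists_list_of_lchain (key X a⁻¹ (fun x hx => hX hx)
    fun x hx => by rw [inv_inv]; exact hXa ⟨x, hx, rfl⟩) fun x hx => hX hx
  have hcX : a * ((List.ofFn b).prod)⁻¹ ∈ centralizer X := by
    rw [mem_centralizer_iff]
    intro x hx
    have h1 := hbe x hx
    rw [inv_inv] at h1
    calc x * (a * ((List.ofFn b).prod)⁻¹) = a * (a⁻¹ * x * a) * ((List.ofFn b).prod)⁻¹ := by group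
      _ = a * ((List.ofFn b).prod)⁻¹ * x := by rw [← h1]; group
  refine ⟨_, hcX, n, b, fun i => ?_, by group, fun k hk => ?_⟩
  · obtain ⟨L, hL, hbi⟩ := hb i
    rcases hL with rfl | rfl
    · exact Or.inl hbi
    · exact Or.inr hbi
  · rintro _ ⟨_, ⟨x, hx, rfl⟩, rfl⟩
    have h2 : (a * ((List.ofFn b).prod)⁻¹)⁻¹ * x * (a * ((List.ofFn b).prod)⁻¹) = x := by
      rw [mul_assoc, mem_centralizer_iff.mp hcX x hx]
      group
    show _ * ((a * ((List.ofFn b).prod)⁻¹)⁻¹ * x * (a * ((List.ofFn b).prod)⁻¹)) * _ ∈ (P : Subgroup G)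
    rw [h2]
    exact hbT k hk x hx

end Cfsg.Agent.S2002
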