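import Cfsg.Statements.S2005
import Cfsg.Agent.Lib.PComplement.Reduction

set_option autoImplicit false
universe u
open Cfsg

namespace Cfsg.Agent.S2005

/-- Thompson's normal p-complement criterion in functor form. Let p be a prime, G a finite group with Sylow p-subgroup S, and W an isomorphism-invariant p-group functor (W assigns to every group Q a subgroup W(Q), nontrivial whenever Q is a nontrivial finite p-group, and every isomorphism from a finite p-group Q onto a group R carries W(Q) onto W(R)). Suppose N_G(W(S)) has a normal p-complement, and that W(S*) is normal in G* whenever G* = K/R is a section of G with C_{G*}(O_p(G*)) ≤ O_p(G*) such that G*/O_p(G*) has a normal p-complement, and S* is a Sylow p-subgroup of G* that is a maximal subgroup of G*. Then G has a normal p-complement. -/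
theorem result {G : Type u} [Group G] [Finite G] {p : ℕ} [Fact p.Prime] (W : ∀ (Q : Type u) [Group Q], Subgroup Q) (hW : Cfsg.IsCharPFunctor.{u} p W) (S : Sylow p G) (hN : Cfsg.HasNormalPComplement p ↥(Subgroup.normalizer ((Cfsg.inducedFunctor (G := G) W (S : Subgroup G) : Subgroup G) : Set G))) (hloc : ∀ (K R : Subgroup G) [hR : (R.subgroupOf K).Normal], Subgroup.centralizer ((Cfsg.pCore p (↥K ⧸ R.subgroupOf K) : Subgroup (↥K ⧸ R.subgroupOf K)) : Set (↥K ⧸ R.subgroupOf K)) ≤ Cfsg.pCore p (↥K ⧸ R.subgroupOf K) → Cfsg.HasNormalPComplement p ((↥K ⧸ R.subgroupOf K) ⧸ Cfsg.pCore p (↥K ⧸ R.subgroupOf K)) → ∀ T : Sylow p (↥K ⧸ R.subgroupOf K), IsCoatom (T : Subgroup (↥K ⧸ R.subgroupOf K)) → (Cfsg.inducedFunctor (G := (↥K ⧸ R.subgroupOf K)) W ((T : Subgroup (↥K ⧸ R.subgroupOf K)))).Normal) : Cfsg.HasNormalPComplement p G := by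
  refine PComplement.reduction (W := W) False
    (fun G' _ => ∃ (K : Subgroup G) (f : ↥K →* G'), Function.Surjective f) hW ?_ ?_ ?_ G
    ⟨⊤, (Subgroup.topEquiv (G := G)).toMonoidHom, (Subgroup.topEquiv (G := G)).surjective⟩ S ⟨hN, False.elim⟩
  · rintro G' _ _ H ⟨K, f, hf⟩
    let K' := (H.comap f).map K.subtype
    let e := (H.comap f).equivMapOfInjective K.subtype Subtype.coe_injective
    exact ⟨K', (f.subgroupComap H).comp e.symm.toMonoidHom,
      (f.subgroupComap_surjective_of_surjective H hf).comp e.symm.surjective⟩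
  · rintro G' _ _ N _ ⟨K, f, hf⟩
    exact ⟨K, (QuotientGroup.mk' N).comp f, (QuotientGroup.mk'_surjective N).comp hf⟩
  · rintro G' _ _ P ⟨K, f, hf⟩ hc hq -
    set R := f.ker.map K.subtype with hR
    have hker : R.subgroupOf K = f.ker := by
      rw [hR, Subgroup.subgroupOf, Subgroup.comap_map_eq_self_of_injective Subtype.coe_injective]
    have hRn : (R.subgroupOf K).Normal := by rw [hker]; infer_instance
    let e : (↥K ⧸ R.subgroupOf K) ≃* G' :=
      (QuotientGroup.quotientMulEquivOfEq hker).trans (QuotientGroup.quotientKerEquivOfSurjective f hf)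
    have hpc : (Cfsg.pCore p G').map e.symm.toMonoidHom = Cfsg.pCore p (↥K ⧸ R.subgroupOf K) :=
      PCore.map_pCore_mulEquiv e.symm
    have h := @hloc K R hRn (PCore.centralizer_pCore_le_congr e.symm hc.cent) ?_
      (P.mapSurjective (f := e.symm.toMonoidHom) e.symm.surjective) ?_
    · have h2 := h.map e.toMonoidHom e.surjective
      have e2 := PComplement.wOf_map hW e.toMonoidHom
        ((P.mapSurjective (f := e.symm.toMonoidHom) e.symm.surjective : Sylow p _) : Subgroup (↥K ⧸ R.subgroupOf K))
        (P.mapSurjective (f := e.symm.toMonoidHom) e.symm.surjective).2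
        (fun x _ hx => e.injective (hx.trans (map_one e).symm))
      change (PComplement.wOf W _).map e.toMonoidHom |>.Normal at h2
      rw [e2] at h2
      convert h2 using 2
      show (P : Subgroup G') = ((P : Subgroup G').map e.symm.toMonoidHom).map e.toMonoidHom
      rw [Subgroup.map_map]
      ext x
      simp
    · exact Transfer.hasNormalPComplement_of_surjective
        (QuotientGroup.congr (Cfsg.pCore p G') (Cfsg.pCore p (↥K ⧸ R.subgroupOf K)) e.symm hpc).toMonoidHom
        (QuotientGroup.congr (Cfsg.pCore p G') (Cfsg.pCore p (↥K ⧸ R.subgroupOf K)) e.symm hpc).surjective hq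
    · exact (OrderIso.isCoatom_iff (MulEquiv.mapSubgroup e.symm) _).2 hc.coatom

end Cfsg.Agent.S2005
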