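import Cfsg.Statements.S2011
import Cfsg.Agent.Lib.Transfer.ConjFamily
import Cfsg.Agent.Lib.Transfer.Fusion
import Cfsg.Agent.Lib.Coprime.Basic

set_option autoImplicit false
open Cfsg

namespace Cfsg.Agent.S2011

/-- Let G be a finite group with Sylow p-subgroup P and Q ≤ P. Then Q is centric in the fusion system of G on P (C_P(R) ≤ R for every G-conjugate R of Q lying in P) if and only if C_G(Q) is the internal direct product of Z(Q) = Q ∩ C_G(Q) and the largest normal subgroup of C_G(Q) of order prime to p. -/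
theorem result {G : Type*} [Group G] [Finite G] (p : ℕ) [Fact p.Prime] (P : Sylow p G) (Q : Subgroup G) (hQ : Q ≤ P) : (Cfsg.groupFusionSystem (P : Subgroup G)).IsCentric Q ↔ Cfsg.IsInternalDirectProduct (Q ⊓ Subgroup.centralizer (Q : Set G)) ((Cfsg.pPrimeCore p ↥(Subgroup.centralizer (Q : Set G))).map (Subgroup.centralizer (Q : Set G)).subtype) (Subgroup.centralizer (Q : Set G)) := by
  set C := Subgroup.centralizer (Q : Set G) with hC
  set Z := Q ⊓ C with hZ
  set O := (Cfsg.pPrimeCore p ↥C).map C.subtype with hO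
  have hOp : (Nat.card O).Coprime p := by
    rw [hO, Subgroup.card_map_of_injective C.subtype_injective]
    exact PCore.coprime_card_pPrimeCore
  have hQp : IsPGroup p Q := P.2.to_le hQ
  have hdisj : Z ⊓ O = ⊥ :=
    disjoint_iff.mp (PCore.disjoint_of_isPGroup_of_coprime (hQp.to_le inf_le_left) hOp)
  have hcomm : ∀ a ∈ Z, ∀ b ∈ O, a * b = b * a := fun a ha b hb =>
    Subgroup.mem_centralizer_iff.mp (Subgroup.map_subtype_le _ hb : b ∈ C) a (Subgroup.mem_inf.mp ha).1
  constructor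
  · rintro ⟨-, hc⟩
    obtain ⟨R⟩ : Nonempty (Sylow p ↥C) := inferInstance
    set R' := (R : Subgroup ↥C).map C.subtype with hR'
    have hRC : R' ≤ C := Subgroup.map_subtype_le _
    have hnorm : R' ≤ Subgroup.normalizer (Q : Set G) := hRC.trans (Subgroup.centralizer_le_normalizer _)
    obtain ⟨S, hS⟩ := ((R.2.map C.subtype).to_sup_of_normal_right' hQp hnorm).exists_le_sylow
    obtain ⟨g, hg⟩ := MulAction.exists_smul_eq G S P
    have hgS : ∀ x ∈ R' ⊔ Q, g * x * g⁻¹ ∈ (P : Subgroup G) := fun x hx => by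
      rw [← hg]
      exact ⟨x, hS hx, rfl⟩
    have hRZ : ∀ r ∈ R', r ∈ Z := fun r hr => by
      set φ : Q →* G := (MulAut.conj g).toMonoidHom.comp Q.subtype with hφ
      have hφm : φ ∈ (Cfsg.groupFusionSystem (P : Subgroup G)).Hom Q :=
        ⟨hQ, fun x => hgS _ (Subgroup.mem_sup_right x.2), g, fun x => rfl⟩
      have hr' : g * r * g⁻¹ ∈ Cfsg.FusionSystem.centralizerIn (P : Subgroup G) φ.range := by
        refine Subgroup.mem_inf.mpr ⟨hgS r (Subgroup.mem_sup_left hr), Subgroup.mem_centralizer_iff.mpr ?_⟩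
        rintro _ ⟨x, rfl⟩
        show g * x * g⁻¹ * (g * r * g⁻¹) = g * r * g⁻¹ * (g * x * g⁻¹)
        have h1 := Subgroup.mem_centralizer_iff.mp (hRC hr) x x.2
        calc g * x * g⁻¹ * (g * r * g⁻¹) = g * (x * r) * g⁻¹ := by group
          _ = g * (r * x) * g⁻¹ := by rw [h1]
          _ = _ := by group
      obtain ⟨x, hx⟩ := hc φ.range ⟨φ, hφm, rfl⟩ hr'
      have : (x : G) = r := mul_left_cancel (mul_right_cancel (hx : g * x * g⁻¹ = g * r * g⁻¹))
      exact Subgroup.mem_inf.mpr ⟨this ▸ x.2, hRC hr⟩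
    have htop := Transfer.le_pPrimeCore_sup_of_inf_le R (⊤ : Subgroup ↥C) (Q.subgroupOf C)
      (fun c _ d hd => Subtype.ext (Subgroup.mem_centralizer_iff.mp c.2 _ hd).symm)
      (fun r hr => (Subgroup.mem_inf.mp (hRZ _ ⟨r, (Subgroup.mem_inf.mp hr).1, rfl⟩)).1)
    refine ⟨inf_le_right, Subgroup.map_subtype_le _, hcomm, hdisj,
      le_antisymm (sup_le inf_le_right (Subgroup.map_subtype_le _)) fun x hx => ?_⟩
    have h1 := Subgroup.mem_map_of_mem C.subtype (htop (Subgroup.mem_top (⟨x, hx⟩ : ↥C)))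
    rw [Subgroup.map_sup, Subgroup.subgroupOf_map_subtype] at h1
    rw [sup_comm]
    exact h1
  · rintro ⟨-, -, -, -, hsup⟩
    refine ⟨hQ, ?_⟩
    rintro _ ⟨φ, ⟨-, -, g, hg⟩, rfl⟩ c hcR
    obtain ⟨hcP, hcc⟩ := Subgroup.mem_inf.mp hcR
    set d := g⁻¹ * c * g with hd
    have hdC : d ∈ C := by
      refine Subgroup.mem_centralizer_iff.mpr fun x hx => ?_
      have h1 := Subgroup.mem_centralizer_iff.mp hcc _ ⟨⟨x, hx⟩, rfl⟩
      rw [hg] at h1
      calc x * d = g⁻¹ * (g * x * g⁻¹ * c) * g := by rw [hd]; group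
        _ = g⁻¹ * (c * (g * x * g⁻¹)) * g := by rw [h1]
        _ = d * x := by rw [hd]; group
    obtain ⟨j, hj⟩ := P.2 ⟨c, hcP⟩
    have hdp : d ^ p ^ j = 1 := by
      have hcj : c ^ p ^ j = 1 := by simpa using congrArg Subtype.val hj
      have : d = g⁻¹ * c * g⁻¹⁻¹ := by rw [hd, inv_inv]
      rw [this, conj_pow, hcj]
      group
    have hnorm : Z ≤ Subgroup.normalizer (O : Set G) := fun z hz =>
      Transfer.mem_normalizer_of_conj_mem fun b hb => by
        rw [hcomm z hz b hb, mul_inv_cancel_right]; exact hb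
    obtain ⟨z, hz, o, ho, hzo⟩ := (Cfsg.Agent.Coprime.mem_sup_iff_of_le_normalizer hnorm).mp (hsup.ge hdC)
    have hz1 : Commute z o := hcomm z hz o ho
    have ho1 : o = 1 := by
      have hzp : z ^ p ^ j = (o ^ p ^ j)⁻¹ := by
        rw [← hzo, hz1.mul_pow] at hdp
        exact eq_inv_of_mul_eq_one_left hdp
      have h0 : o ^ p ^ j = 1 := by
        have hm : o ^ p ^ j ∈ Z ⊓ O := Subgroup.mem_inf.mpr
          ⟨by simpa [hzp] using inv_mem (pow_mem hz (p ^ j)), pow_mem ho _⟩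
        rwa [hdisj, Subgroup.mem_bot] at hm
      rw [← orderOf_eq_one_iff, ← Nat.dvd_one, ← Nat.Coprime.gcd_eq_one (hOp.pow_right j)]
      exact Nat.dvd_gcd (Subgroup.orderOf_dvd_natCard O ho) (orderOf_dvd_of_pow_eq_one h0)
    rw [ho1, mul_one] at hzo
    refine ⟨⟨z, (Subgroup.mem_inf.mp hz).1⟩, ?_⟩
    rw [hg]
    show g * z * g⁻¹ = c
    rw [hzo, hd]
    group

end Cfsg.Agent.S2011
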