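import Cfsg.Statements.S2012
import Cfsg.Agent.Lib.Transfer.FocalLocal

set_option autoImplicit false
open Cfsg

namespace Cfsg.Agent.S2012

open Transfer

variable {G : Type*} [Group G] {p : ℕ}

/-- Chains whose steps are `p`-elements away from `P`. -/
inductive PChain (P : Sylow p G) : Set G → G → Prop
  | one (A : Set G) : PChain P A 1
  | step {A : Set G} {Q : Sylow p G} {x h : G} :
      IsTameWith P Q ((P : Subgroup G) ⊓ (Q : Subgroup G)) →
      ((Q : Subgroup G) = (P : Subgroup G) ∨ ∃ k : ℕ, orderOf x = p ^ k) →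
      A ⊆ (((P : Subgroup G) ⊓ (Q : Subgroup G) : Subgroup G) : Set G) →
      x ∈ Subgroup.normalizer (((P : Subgroup G) ⊓ (Q : Subgroup G) : Subgroup G) : Set G) →
      PChain P ((fun a => x⁻¹ * a * x) '' A) h → PChain P A (x * h)

theorem PChain.mono {P : Sylow p G} {A : Set G} {g : G} (h : PChain P A g) :
    ∀ B : Set G, B ⊆ A → PChain P B g := by
  induction h with
  | one A => exact fun B _ => .one B
  | step hQ ho hA hx _ ih =>
    exact fun B hB => .step hQ ho (hB.trans hA) hx (ih _ (Set.image_mono hB))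

theorem PChain.trans {P : Sylow p G} {A : Set G} {g : G} (h : PChain P A g) :
    ∀ k : G, PChain P ((fun a => g⁻¹ * a * g) '' A) k → PChain P A (g * k) := by
  induction h with
  | one A => intro k hk; simpa using hk
  | @step A Q x h hQ ho hA hx _ ih =>
    intro k hk
    rw [mul_assoc]
    refine .step hQ ho hA hx (ih k ?_)
    rw [Set.image_image]
    simpa [mul_assoc] using hk

theorem image_eq {D : Subgroup G} {z : G} (hz : z ∈ Subgroup.normalizer (D : Set G)) :
    (fun a => z⁻¹ * a * z) '' (D : Set G) = (D : Set G) := by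
  ext a
  constructor
  · rintro ⟨b, hb, rfl⟩
    exact (Subgroup.mem_normalizer_iff''.mp hz b).mp hb
  · intro ha
    exact ⟨z * a * z⁻¹, (Subgroup.mem_normalizer_iff.mp hz a).mp ha, by group⟩

variable [Finite G] [Fact p.Prime]

theorem tame_step (P : Sylow p G) : ∀ k, ∀ D : Subgroup G, IsTame P D →
    Nat.card (P : Subgroup G) - Nat.card D = k →
      ∀ x ∈ Subgroup.normalizer (D : Set G), PChain P (D : Set G) x := by
  intro k
  induction k using Nat.strong_induction_on with
  | _ k IH =>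
  intro D hD hk x hx
  have hDP := hD.le
  obtain ⟨Q, hQ⟩ := hD
  have hDeq := hQ.1
  have hQ' : IsTameWith P Q ((P : Subgroup G) ⊓ (Q : Subgroup G)) := hDeq ▸ hQ
  by_cases hDP' : D = (P : Subgroup G)
  · have hQP : (Q : Subgroup G) = (P : Subgroup G) :=
      P.3 Q.2 ((hDP'.symm.trans hDeq).le.trans inf_le_right)
    simpa using PChain.step (h := 1) hQ' (Or.inl hQP) (hDeq ▸ subset_rfl : (D : Set G) ⊆ _)
      (hDeq ▸ hx) (.one _)
  have hlt : D < (P : Subgroup G) := lt_of_le_of_ne hDP hDP'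
  set N := Subgroup.normalizer (D : Set G) with hNdef
  set S : Subgroup G := (P : Subgroup G) ⊓ N with hS
  have hSp : IsPGroup p (S.subgroupOf N) := (P.2.to_le inf_le_left).comap_subtype
  let S' : Sylow p N := hSp.toSylow hQ.2.1
  let K : Subgroup N := Subgroup.closure {z : N | ∃ j : ℕ, orderOf z = p ^ j}
  haveI hKn : K.Normal := by
    constructor
    intro n hn g
    have : (K.map (MulAut.conj g).toMonoidHom) ≤ K := by
      rw [MonoidHom.map_closure, Subgroup.closure_le]
      rintro _ ⟨z, ⟨j, hj⟩, rfl⟩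
      exact Subgroup.subset_closure ⟨j, by rw [orderOf_injective _ (MulAut.conj g).injective, hj]⟩
    exact this ⟨n, hn, rfl⟩
  have hone : ∀ z : N, (∃ j : ℕ, orderOf z = p ^ j) → PChain P (D : Set G) z := by
    rintro z ⟨j, hj⟩
    simpa using PChain.step (h := 1) hQ' (Or.inr ⟨j, by rw [Subgroup.orderOf_coe, hj]⟩)
      (hDeq ▸ subset_rfl : (D : Set G) ⊆ _) (hDeq ▸ z.2) (.one _)
  have hK : ∀ z ∈ K, PChain P (D : Set G) (z : G) ∧ PChain P (D : Set G) ((z⁻¹ : N) : G) := by
    intro z hz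
    induction hz using Subgroup.closure_induction with
    | mem z hz =>
      exact ⟨hone z hz, hone z⁻¹ (by obtain ⟨j, hj⟩ := hz; exact ⟨j, by rw [orderOf_inv, hj]⟩)⟩
    | one => exact ⟨by simpa using PChain.one (P := P) (D : Set G),
        by simpa using PChain.one (P := P) (D : Set G)⟩
    | mul a b _ _ ha hb =>
      refine ⟨?_, ?_⟩
      · simpa using ha.1.trans _ ((image_eq a.2).symm ▸ hb.1)
      · simpa using hb.2.trans _ ((image_eq (b⁻¹ : N).2).symm ▸ ha.2)
    | inv a _ ha => exact ⟨ha.2, by rw [inv_inv]; exact ha.1⟩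
  have hSK : (S' : Subgroup N) ≤ K := by
    intro z hz
    obtain ⟨j, hj⟩ := IsPGroup.iff_orderOf.mp S'.2 ⟨z, hz⟩
    exact Subgroup.subset_closure ⟨j, by rwa [← Subgroup.orderOf_coe] at hj⟩
  obtain ⟨y, hy, z, hz, hyz⟩ := Subgroup.mem_sup_of_normal_right.mp
    ((Sylow.normalizer_sup_eq_top' S' hSK).symm ▸ Subgroup.mem_top (⟨x, hx⟩ : N))
  have hyD : PChain P (D : Set G) (y : G) := by
    have hlt' := lt_inf_normalizer_of_lt P.2 hlt
    have hcard : Nat.card D < Nat.card S := by
      by_contra hle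
      exact hlt'.ne (Subgroup.eq_of_le_of_card_ge hlt'.le (not_lt.mp hle))
    have hch := (alperin P (S : Set G) (y : G) (fun s hs => hs.1) (fun s hs => by
      have h1 := (Subgroup.mem_normalizer_iff''.mp hy ⟨s, hs.2⟩).mp
        (show (⟨s, hs.2⟩ : N) ∈ (S' : Subgroup N) from hs)
      exact (Subgroup.mem_subgroupOf.mp h1).1)).strengthen (Nat.card S)
        (Nat.card_coe_set_eq (S : Set G)).le
    have : ∀ (A : Set G) (g : G), FusionChain (fun E => IsTame P E ∧ Nat.card S ≤ Nat.card E) A g →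
        PChain P A g := by
      intro A g hh
      induction hh with
      | one A => exact .one A
      | @step A E w h hE hA hw _ ih =>
        refine ((IH _ ?_ E hE.1 rfl w hw).mono A hA).trans h ih
        have h2 := Subgroup.card_le_of_le hE.1.le
        have h3 := hE.2
        omega
    exact (this _ _ hch).mono _ fun d hd => ⟨hDP hd, Subgroup.le_normalizer hd⟩
  have hxyz : (y : G) * (z : G) = x := congrArg Subtype.val hyz
  exact hxyz ▸ hyD.trans _ ((image_eq y.2).symm ▸ (hK z hz).1)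

theorem PChain.exists_list {P : Sylow p G} {A : Set G} {g : G} (h : PChain P A g) :
    ∃ (n : ℕ) (Q : Fin n → Sylow p G) (x : Fin n → G), (List.ofFn x).prod = g ∧
      (∀ i : Fin n, IsTameWith P (Q i) ((P : Subgroup G) ⊓ (Q i : Subgroup G)) ∧
        ((Q i : Subgroup G) = (P : Subgroup G) ∨ ∃ k : ℕ, orderOf (x i) = p ^ k) ∧
        x i ∈ Subgroup.normalizer (((P : Subgroup G) ⊓ (Q i : Subgroup G) : Subgroup G) : Set G)) ∧
      (∀ h : 0 < n, A ⊆ (((P : Subgroup G) ⊓ (Q ⟨0, h⟩ : Subgroup G) : Subgroup G) : Set G)) ∧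
      ∀ i : Fin n, ∀ h : i.val + 1 < n,
        (fun a => (((List.ofFn x).take (i.val + 1)).prod)⁻¹ * a *
            ((List.ofFn x).take (i.val + 1)).prod) '' A ⊆
          (((P : Subgroup G) ⊓ (Q ⟨i.val + 1, h⟩ : Subgroup G) : Subgroup G) : Set G) := by
  induction h with
  | one A => exact ⟨0, Fin.elim0, Fin.elim0, by simp, fun i => i.elim0,
      fun h => absurd h (lt_irrefl 0), fun i => i.elim0⟩
  | @step A Q₀ x h hQ₀ ho hA hx _ ih =>
    obtain ⟨n, Q, xs, hprod, hall, hfirst, hnext⟩ := ih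
    refine ⟨n + 1, Fin.cons Q₀ Q, Fin.cons x xs, by simp [hprod], ?_, fun _ => hA, ?_⟩
    · intro i
      induction i using Fin.cases with
      | zero => exact ⟨hQ₀, ho, hx⟩
      | succ j => simpa using hall j
    · intro i
      induction i using Fin.cases with
      | zero =>
        intro hi
        have hn : 0 < n := by simpa using hi
        intro b hb
        obtain ⟨a, ha, rfl⟩ := hb
        have h2 := hfirst hn ⟨a, ha, rfl⟩
        have e : (Fin.cons Q₀ Q : Fin (n + 1) → Sylow p G) ⟨((0 : Fin (n + 1)) : ℕ) + 1, hi⟩ =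
            Q ⟨0, hn⟩ := rfl
        rw [e]
        simpa using h2
      | succ j =>
        intro hi
        have hj : (j : ℕ) + 1 < n := by simpa using hi
        intro b hb
        obtain ⟨a, ha, rfl⟩ := hb
        have h2 := hnext j hj ⟨x⁻¹ * a * x, ⟨a, ha, rfl⟩, rfl⟩
        have e : (Fin.cons Q₀ Q : Fin (n + 1) → Sylow p G) ⟨(j.succ : ℕ) + 1, hi⟩ =
            Q ⟨(j : ℕ) + 1, hj⟩ := rfl
        rw [e]
        simpa [List.ofFn_succ, mul_assoc] using h2


/-- Alperin's fusion Theorem with the factors taken to be p-elements: let P be a Sylow p-subgroup of a finite group G, A a subset of P and g an element with g⁻¹Ag ⊆ P. Then g = x_1 ⋯ x_n where, for each i, Q_i is a Sylow p-subgroup with P ∩ Q_i a tame intersection (the normalizers in P and in Q_i of P ∩ Q_i are Sylow in N_G(P ∩ Q_i)), x_i normalizes P ∩ Q_i, x_i has p-power order unless Q_i = P, A ⊆ P ∩ Q_1, and (x_1 ⋯ x_i)⁻¹ A (x_1 ⋯ x_i) lies in P ∩ Q_{i+1} for i < n. -/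
theorem result {G : Type*} [Group G] [Finite G] {p : ℕ} [Fact p.Prime] (P : Sylow p G) (A : Set G) (g : G) (hA : A ⊆ (P : Set G)) (hAg : (fun a => g⁻¹ * a * g) '' A ⊆ (P : Set G)) : ∃ (n : ℕ) (Q : Fin n → Sylow p G) (x : Fin n → G), (List.ofFn x).prod = g ∧ (∀ i : Fin n, x i ∈ Subgroup.normalizer ((((P : Subgroup G) ⊓ (Q i : Subgroup G)) : Subgroup G) : Set G) ∧ ¬ p ∣ ((P : Subgroup G) ⊓ Subgroup.normalizer ((((P : Subgroup G) ⊓ (Q i : Subgroup G)) : Subgroup G) : Set G)).relIndex (Subgroup.normalizer ((((P : Subgroup G) ⊓ (Q i : Subgroup G)) : Subgroup G) : Set G)) ∧ ¬ p ∣ ((Q i : Subgroup G) ⊓ Subgroup.normalizer ((((P : Subgroup G) ⊓ (Q i : Subgroup G)) : Subgroup G) : Set G)).relIndex (Subgroup.normalizer ((((P : Subgroup G) ⊓ (Q i : Subgroup G)) : Subgroup G) : Set G)) ∧ ((Q i : Subgroup G) = (P : Subgroup G) ∨ ∃ k : ℕ, orderOf (x i) = p ^ k)) ∧ (∀ h : 0 < n, A ⊆ (((P : Subgroup G) ⊓ (Q ⟨0, h⟩ : Subgroup G) : Subgroup G) : Set G)) ∧ ∀ i : Fin n, ∀ h : i.val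 + 1 < n, (fun a => (((List.ofFn x).take (i.val + 1)).prod)⁻¹ * a * ((List.ofFn x).take (i.val + 1)).prod) '' A ⊆ (((P : Subgroup G) ⊓ (Q ⟨i.val + 1, h⟩ : Subgroup G) : Subgroup G) : Set G) := by
  have hch : PChain P A g := by
    have h := alperin P A g hA fun a ha => hAg ⟨a, ha, rfl⟩
    clear hA hAg
    induction h with
    | one A => exact .one A
    | @step A D w h hD hA hw _ ih => exact ((tame_step P _ D hD rfl w hw).mono A hA).trans h ih
  obtain ⟨n, Q, x, h1, h2, h3, h4⟩ := hch.exists_list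
  exact ⟨n, Q, x, h1, fun i => ⟨(h2 i).2.2, (h2 i).1.2.1, (h2 i).1.2.2, (h2 i).2.1⟩, h3, h4⟩

end Cfsg.Agent.S2012
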