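import Cfsg.Statements.S2014
import Cfsg.Agent.Lib.Transfer.Residual

set_option autoImplicit false
open Cfsg

namespace Cfsg.Agent.S2014

/-- Let P be a Sylow p-subgroup of a finite group G and A, C ≤ P subgroups conjugate in G, with C extremal: N_P(C) is a Sylow p-subgroup of N_G(C). Then there is g with gAg⁻¹ = C and g N_P(A) g⁻¹ ≤ N_P(C); moreover, given any h with hAh⁻¹ = C, g can be chosen so that h g⁻¹ lies in O^p(N_G(C)), the subgroup of N_G(C) generated by its elements of order prime to p. -/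
theorem result {G : Type*} [Group G] [Finite G] (p : ℕ) [Fact p.Prime] (P : Sylow p G) (A C : Subgroup G) (hA : A ≤ P) (hC : C ≤ P) (hext : ¬ p ∣ ((P : Subgroup G) ⊓ Subgroup.normalizer ((C : Subgroup G) : Set G)).relIndex (Subgroup.normalizer ((C : Subgroup G) : Set G))) (h : G) (hh : A.map (MulAut.conj h).toMonoidHom = C) : ∃ g : G, A.map (MulAut.conj g).toMonoidHom = C ∧ ((P : Subgroup G) ⊓ Subgroup.normalizer ((A : Subgroup G) : Set G)).map (MulAut.conj g).toMonoidHom ≤ (P : Subgroup G) ⊓ Subgroup.normalizer ((C : Subgroup G) : Set G) ∧ h * g⁻¹ ∈ (Cfsg.pResidual p ↥(Subgroup.normalizer ((C : Subgroup G) : Set G))).map (Subgroup.normalizer ((C : Subgroup G) : Set G)).subtype := by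
  set N := Subgroup.normalizer ((C : Subgroup G) : Set G) with hN
  set T₁ := (P : Subgroup G) ⊓ N with hT₁
  have hTp : IsPGroup p ↥(T₁.subgroupOf N) :=
    (P.2.to_le inf_le_left).comap_subtype
  let T : Sylow p ↥N := hTp.toSylow hext
  set S := (P : Subgroup G) ⊓ Subgroup.normalizer ((A : Subgroup G) : Set G) with hS
  set B := S.map (MulAut.conj h).toMonoidHom with hB
  have hBN : B ≤ N := by
    rw [hN, ← hh]
    exact (Subgroup.map_mono inf_le_right).trans (Subgroup.le_normalizer_map _)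
  have hBp : IsPGroup p ↥(B.subgroupOf N) :=
    ((P.2.to_le inf_le_left).map _).comap_subtype
  obtain ⟨T', hT'⟩ := hBp.exists_le_sylow
  obtain ⟨n, hn⟩ := MulAction.exists_smul_eq ↥N T' T
  haveI : (Cfsg.pResidual p ↥N).Normal := Transfer.pResidual_normal p
  obtain ⟨t, ht, o, ho, rfl⟩ := (Subgroup.mem_sup_of_normal_right
    (s := (T : Subgroup ↥N)) (t := Cfsg.pResidual p ↥N)).1
    ((Transfer.sylow_sup_pResidual_eq_top T).symm ▸ Subgroup.mem_top n)
  refine ⟨(o : G) * h, ?_, ?_, ?_⟩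
  · have h1 := Subgroup.mem_normalizer_iff_map_conj_eq.1 o.2
    rw [map_mul]
    show A.map ((MulAut.conj (o : G)).toMonoidHom.comp (MulAut.conj h).toMonoidHom) = C
    rw [← Subgroup.map_map, hh]
    exact h1
  · rintro _ ⟨s, hs, rfl⟩
    have hsB : h * s * h⁻¹ ∈ B := ⟨s, hs, rfl⟩
    have h1 : t * o * ⟨h * s * h⁻¹, hBN hsB⟩ * (t * o)⁻¹ ∈ (T : Subgroup ↥N) := by
      rw [← hn]
      exact ⟨⟨h * s * h⁻¹, hBN hsB⟩, hT' hsB, rfl⟩
    have h2 : o * ⟨h * s * h⁻¹, hBN hsB⟩ * o⁻¹ ∈ (T : Subgroup ↥N) := by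
      have h3 := mul_mem (mul_mem (inv_mem ht) h1) ht
      group at h3 ⊢
      exact h3
    have h4 : ((o * ⟨h * s * h⁻¹, hBN hsB⟩ * o⁻¹ : ↥N) : G) ∈ T₁ := h2
    simpa [hT₁, mul_assoc] using h4
  · exact ⟨o⁻¹, inv_mem ho, by simp⟩

end Cfsg.Agent.S2014
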