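import Cfsg.Statements.S2015
import Cfsg.Agent.Lib.ConjFun.KInfControl

set_option autoImplicit false
universe u
open Cfsg

namespace Cfsg.Agent.S2015

/-- For p ≥ 5, every finite p-group P has a characteristic subgroup K containing Z(P), depending only on P, whose normalizer controls transfer wherever P is a Sylow subgroup: for every finite group G and every embedding ι of P onto a Sylow p-subgroup of G, the intersection of ι(P) with the derived subgroup of G equals its intersection with the derived subgroup of N_G(ι(K)). -/
theorem result (p : ℕ) [Fact p.Prime] (hp : 5 ≤ p) (P : Type u) [Group P] [Finite P] (hP : IsPGroup p P) : ∃ K : Subgroup P, K.Characteristic ∧ Subgroup.center P ≤ K ∧ ∀ (G : Type u) [Group G] [Finite G] (ι : P →* G), Function.Injective ι → (∃ T : Sylow p G, (T : Subgroup G) = ι.range) → ι.range ⊓ commutator G = ι.range ⊓ (commutator ↥(Subgroup.normalizer ((K.map ι : Subgroup G) : Set G))).map (Subgroup.normalizer ((K.map ι : Subgroup G) : Set G)).subtype := by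
  refine ⟨Cfsg.kInfLower P, KInf.kInfLower_characteristic, KInf.center_le_kInfLower hP,
    fun G _ _ ι hι ⟨T, hT⟩ => ?_⟩
  have h := ConjFun.transfer_eq_kInf hp (Or.inl rfl) (W := Cfsg.kInfLower.{u}) T
  have h1 : Cfsg.inducedFunctor (G := G) Cfsg.kInfLower (T : Subgroup G) =
      (Cfsg.kInfLower P).map ι := by
    have e1 : (T : Subgroup G) = (⊤ : Subgroup P).map ι := by rw [hT, MonoidHom.range_eq_map]
    rw [e1, ConjFun.inducedFunctor_map (KInf.isCharPFunctor_kInfLower (p := p)) ι ⊤
      (hP.to_subgroup ⊤) hι.injOn]
    congr 1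
    exact KInf.map_kInfLower_equiv Subgroup.topEquiv
  rw [h1] at h
  rw [Subgroup.map_subtype_commutator, ← hT]
  exact h

end Cfsg.Agent.S2015
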