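import Cfsg.Statements.S2029
import Cfsg.Agent.Lib.LocalChar.Basic
import Cfsg.Agent.Lib.Coprime.Generation
import Cfsg.Agent.Lib.Coprime.OmegaOne
import Cfsg.Agent.Lib.PGroup.Critical

/-!
Klinger–Mason: in a group of local characteristic `p` and characteristic 2 type, 2-local `p`-rank ≤ 2.

Let `A` be elementary abelian of largest order `N ≥ p ^ 3` in a 2-local subgroup.
* `bound`: an elementary 2-group of order `2 ^ (k + 1)` centralising `X` gives `|X| p ^ k ≤ N`.
* `no_four`: a subgroup of order `N / p` centralises no four-group (reflection argument).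
* Two hyperplanes of `A` moving the critical subgroup of `O₂(C(z))` give such a four-group.
-/

set_option autoImplicit false
set_option linter.unusedSectionVars false
open Cfsg

namespace Cfsg.Agent.S2029

open Subgroup
open scoped commutatorElement

variable {G : Type*} [Group G]

/-- The standing hypotheses: `N` bounds the elementary abelian `p`-subgroups centralising an involution. -/
structure Hyp (G : Type*) [Group G] (p N : ℕ) : Prop where
  odd : p ≠ 2
  loc : ∀ X : Subgroup G, IsPGroup p ↥X → X ≠ ⊥ → LocalChar.CP p ↥(centralizer (X : Set G))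
  two : ∀ s : G, orderOf s = 2 → LocalChar.CP 2 ↥(centralizer ({s} : Set G))
  bnd : ∀ A : Subgroup G, IsElementaryAbelian p A →
    (∃ s : G, orderOf s = 2 ∧ ∀ a ∈ A, Commute s a) → Nat.card A ≤ N
  big : p ^ 3 ≤ N

theorem conj_mem_map_of_char {Q : Subgroup G} (H : Subgroup ↥Q) [hH : H.Characteristic] {g x : G}
    (hg : g ∈ normalizer (Q : Set G)) (hx : x ∈ H.map Q.subtype) :
    g * x * g⁻¹ ∈ H.map Q.subtype := by
  obtain ⟨k, hk, rfl⟩ := hx
  exact ⟨Subgroup.normalizerMonoidHom Q ⟨g, hg⟩ k,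
    characteristic_iff_map_le.1 hH (Subgroup.normalizerMonoidHom Q ⟨g, hg⟩) (mem_map_of_mem _ hk), rfl⟩

theorem le_normalizer_map_of_char {Q : Subgroup G} (H : Subgroup ↥Q) [H.Characteristic] :
    normalizer (Q : Set G) ≤ normalizer ((H.map Q.subtype : Subgroup G) : Set G) := fun g hg =>
  mem_normalizer_iff.2 fun x => ⟨conj_mem_map_of_char H hg, fun h => by
    simpa [mul_assoc] using conj_mem_map_of_char H (inv_mem hg) h⟩

theorem le_normalizer_pCore_map (p : ℕ) (L : Subgroup G) :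
    L ≤ normalizer (((pCore p ↥L).map L.subtype : Subgroup G) : Set G) := by
  have := LocalChar.pCore_characteristic (G := ↥L) p
  exact le_normalizer.trans (le_normalizer_map_of_char _)

theorem conj_mem {K : Subgroup G} {g x : G} (hg : g ∈ normalizer (K : Set G)) (hx : x ∈ K) :
    g * x * g⁻¹ ∈ K :=
  (mem_normalizer_iff.1 hg x).1 hx

theorem commute_iff_conj {a b : G} : Commute a b ↔ a * b * a⁻¹ = b := by
  constructor
  · intro h
    rw [h.eq]; group
  · intro h
    exact mul_inv_eq_iff_eq_mul.1 h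

theorem commute_conj_iff {g a b : G} : Commute (g * a * g⁻¹) (g * b * g⁻¹) ↔ Commute a b :=
  ⟨fun h => by
    have := h.map (MulAut.conj g⁻¹).toMonoidHom
    simpa [mul_assoc] using this,
  fun h => h.map (MulAut.conj g).toMonoidHom⟩

theorem commute_conj_right {g a b : G} (hga : Commute g a) (h : Commute a b) :
    Commute a (g * b * g⁻¹) := by
  have h1 := (commute_conj_iff (g := g)).2 h
  rwa [(commute_iff_conj).1 hga] at h1

theorem isEA_zpowers {q : ℕ} {x : G} (hx : x ^ q = 1) : IsElementaryAbelian q (zpowers x) :=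
  PGroup.isElementaryAbelian_zpowers hx

theorem card_sup_zpowers_of_commute [Finite G] {q : ℕ} [Fact q.Prime] {H : Subgroup G} {x : G}
    (hc : ∀ h ∈ H, Commute h x) (hx : x ∉ H) (hxq : x ^ q = 1) :
    Nat.card ↥(H ⊔ zpowers x) = Nat.card H * q := by
  set W := H ⊔ zpowers x with hW
  have hHW : H ≤ W := le_sup_left
  have hxW : x ∈ W := mem_sup_right (mem_zpowers x)
  have hn : W ≤ normalizer (H : Set G) := by
    refine sup_le le_normalizer (zpowers_le.2 (mem_normalizer_iff.2 fun h => ⟨fun hh => ?_, fun hh => ?_⟩))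
    · rwa [commute_iff_conj.1 (hc h hh).symm]
    · have h1 := commute_iff_conj.1 (hc _ hh).symm
      have : x * h * x⁻¹ = h := by
        calc x * h * x⁻¹ = x⁻¹ * (x * (x * h * x⁻¹) * x⁻¹) * x := by group
          _ = x⁻¹ * (x * h * x⁻¹) * x := by rw [h1]
          _ = h := by group
      rwa [this] at hh
  have : (H.subgroupOf W).Normal := normal_subgroupOf_of_le_normalizer hn
  have h1 := PGroup.card_sup_zpowers (G := ↥W) (p := q) (H.subgroupOf W) (x := ⟨x, hxW⟩) hx
    (show x ^ q ∈ H by rw [hxq]; exact one_mem H)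
  have htop : H.subgroupOf W ⊔ zpowers (⟨x, hxW⟩ : ↥W) = ⊤ := by
    apply map_injective W.subtype_injective
    rw [Subgroup.map_sup, MonoidHom.map_zpowers, subgroupOf_map_subtype,
      inf_eq_left.2 hHW, ← MonoidHom.range_eq_map, range_subtype]
    rfl
  rw [htop, card_top, Nat.card_congr (subgroupOfEquivOfLe hHW).toEquiv] at h1
  exact h1

theorem isEA_sup_zpowers {q : ℕ} {H : Subgroup G} {x : G} (hH : IsElementaryAbelian q H)
    (hc : ∀ h ∈ H, Commute h x) (hxq : x ^ q = 1) : IsElementaryAbelian q (H ⊔ zpowers x) :=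
  PGroup.isElementaryAbelian_sup hH (isEA_zpowers hxq) fun h hh b hb => by
    obtain ⟨i, rfl⟩ := hb
    exact (hc h hh).zpow_right i

theorem commute_sup {H K : Subgroup G} {g : G} (h1 : ∀ h ∈ H, Commute h g) (h2 : ∀ k ∈ K, Commute k g) :
    ∀ x ∈ H ⊔ K, Commute x g := by
  have : H ⊔ K ≤ centralizer ({g} : Set G) :=
    sup_le (fun x hx => mem_centralizer_singleton_iff.2 (h1 x hx))
      (fun x hx => mem_centralizer_singleton_iff.2 (h2 x hx))
  exact fun x hx => mem_centralizer_singleton_iff.1 (this hx)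

theorem commute_zpowers {x g : G} (h : Commute x g) : ∀ k ∈ zpowers x, Commute k g := by
  rintro _ ⟨i, rfl⟩
  exact h.zpow_left i

theorem commute_sup_zpowers {H : Subgroup G} {x g : G} (h1 : ∀ h ∈ H, Commute h g)
    (h2 : Commute x g) : ∀ y ∈ H ⊔ zpowers x, Commute y g :=
  commute_sup h1 (commute_zpowers h2)

theorem exists_mul_zpow {H : Subgroup G} {y b : G} (hc : ∀ h ∈ H, Commute h y)
    (hb : b ∈ H ⊔ zpowers y) : ∃ x ∈ H, ∃ i : ℤ, b = x * y ^ i := by
  let S : Subgroup G :=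
    { carrier := {b | ∃ x ∈ H, ∃ i : ℤ, b = x * y ^ i}
      one_mem' := ⟨1, one_mem H, 0, by simp⟩
      mul_mem' := by
        rintro _ _ ⟨x, hx, i, rfl⟩ ⟨x', hx', j, rfl⟩
        refine ⟨x * x', mul_mem hx hx', i + j, ?_⟩
        calc x * y ^ i * (x' * y ^ j) = x * (y ^ i * x') * y ^ j := by group
          _ = x * (x' * y ^ i) * y ^ j := by rw [((hc x' hx').zpow_right i).eq]
          _ = x * x' * y ^ (i + j) := by rw [zpow_add]; group
      inv_mem' := by
        rintro _ ⟨x, hx, i, rfl⟩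
        refine ⟨x⁻¹, inv_mem hx, -i, ?_⟩
        rw [mul_inv_rev, zpow_neg]
        exact (((hc x hx).zpow_right i).inv_inv).eq.symm }
  have : H ⊔ zpowers y ≤ S :=
    sup_le (fun x hx => ⟨x, hx, 0, by simp⟩) (zpowers_le.2 ⟨1, one_mem H, 1, by simp⟩)
  exact this hb

theorem eq_or_of_mem_zpowers {x g : G} (hx : x * x = 1) (hg : g ∈ zpowers x) : g = 1 ∨ g = x := by
  obtain ⟨i, rfl⟩ := hg
  rcases Int.even_or_odd i with ⟨j, rfl⟩ | ⟨j, rfl⟩
  · left
    show x ^ (j + j) = 1
    rw [zpow_add, ← (Commute.refl x).mul_zpow, hx, one_zpow]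
  · right
    show x ^ (2 * j + 1) = x
    rw [zpow_add_one, two_mul, zpow_add, ← (Commute.refl x).mul_zpow, hx, one_zpow, one_mul]

theorem mem_of_zpow_mem [Finite G] {p : ℕ} [Fact p.Prime] {y : G} (hy : y ^ p = 1) {j : ℤ}
    (hj : y ^ j ≠ 1) : y ∈ zpowers (y ^ j) := by
  have hy1 : y ≠ 1 := fun h => hj (by rw [h, one_zpow])
  have ho : orderOf y = p := orderOf_eq_prime hy hy1
  have hoj : orderOf (y ^ j) = p := orderOf_eq_prime
    (by rw [← zpow_natCast, ← zpow_mul, mul_comm, zpow_mul, zpow_natCast, hy, one_zpow]) hj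
  have heq : zpowers (y ^ j) = zpowers y :=
    eq_of_le_of_card_ge (zpowers_le.2 (zpow_mem (mem_zpowers y) j))
      (by rw [Nat.card_zpowers, Nat.card_zpowers, ho, hoj])
  rw [heq]; exact mem_zpowers y

theorem card_le_inf_mul [Finite G] {A B X : Subgroup G} {p : ℕ} (hB : B ≤ A) (hX : X ≤ A)
    (hcard : Nat.card A = Nat.card X * p) : Nat.card B ≤ Nat.card ↥(B ⊓ X) * p := by
  have h1 := relIndex_mul_relIndex ⊥ X A bot_le hX
  rw [relIndex_bot_left, relIndex_bot_left, hcard] at h1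
  have h2 : X.relIndex A = p := Nat.eq_of_mul_eq_mul_left Nat.card_pos h1
  have h3 := relIndex_mul_relIndex ⊥ (B ⊓ X) B bot_le inf_le_left
  rw [relIndex_bot_left, relIndex_bot_left, inf_comm B X, inf_relIndex_right] at h3
  rw [inf_comm B X, ← h3, ← h2]
  exact Nat.mul_le_mul_left _ (relIndex_le_of_le_right hB index_ne_zero_of_finite)

theorem coprime_of_pow {p : ℕ} [hp : Fact p.Prime] (hp2 : p ≠ 2) {C : Subgroup G}
    (hC : IsPGroup 2 ↥C) {a c : G} (ha : a ^ p = 1) (hc : c ∈ C) :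
    (orderOf a).Coprime (orderOf c) := by
  obtain ⟨k, hk⟩ := hC ⟨c, hc⟩
  have hk' : c ^ 2 ^ k = 1 := congrArg Subtype.val hk
  refine Nat.Coprime.coprime_dvd_left (orderOf_dvd_of_pow_eq_one ha) ?_
  refine Nat.Coprime.coprime_dvd_right (orderOf_dvd_of_pow_eq_one hk') ?_
  exact ((Nat.coprime_primes hp.out Nat.prime_two).2 hp2).pow_right k

theorem eq_one_of_mem_both [Finite G] {p : ℕ} [hp : Fact p.Prime] (hp2 : p ≠ 2) {P C : Subgroup G}
    (hP : IsPGroup p ↥P) (hC : IsPGroup 2 ↥C) {k : G} (h1 : k ∈ P) (h2 : k ∈ C) : k = 1 := by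
  have : Fact (Nat.Prime 2) := ⟨Nat.prime_two⟩
  refine LocalChar.eq_one_of_isPGroup hC Nat.prime_two h2 fun hd => ?_
  obtain ⟨i, hi⟩ := hP ⟨k, h1⟩
  have hi' : k ^ p ^ i = 1 := congrArg Subtype.val hi
  have := Nat.prime_two.dvd_of_dvd_pow (hd.trans (orderOf_dvd_of_pow_eq_one hi'))
  exact hp2 ((Nat.prime_dvd_prime_iff_eq Nat.prime_two hp.out).1 this).symm

/-- Hyperplane lemma. -/
theorem exists_hyperplane [Finite G] {q : ℕ} [Fact q.Prime] {E K : Subgroup G}
    (hE : IsElementaryAbelian q E) (hn : E ≤ normalizer (K : Set G))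
    (hcop : (Nat.card E).Coprime (Nat.card K)) {y : G} (hy : y ∈ E)
    (hmove : ∃ k ∈ K, ¬ Commute y k) :
    ∃ B ≤ E, y ∉ B ∧ B ⊔ zpowers y = E ∧ Nat.card E = Nat.card B * q ∧
      ∃ x ∈ K, (∀ b ∈ B, Commute b x) ∧ ¬ Commute y x := by
  obtain ⟨B, hB⟩ := (Set.toFinite {B : Subgroup G | B ≤ E ∧
      ∃ x ∈ K, (∀ b ∈ B, Commute b x) ∧ ¬ Commute y x}).exists_maximal
    ⟨⊥, bot_le, by
      obtain ⟨k, hk, hk'⟩ := hmove
      exact ⟨k, hk, fun b hb => by rw [mem_bot.1 hb]; exact Commute.one_left k, hk'⟩⟩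
  obtain ⟨⟨hBE, x, hxK, hxB, hxy⟩, hmax⟩ := hB
  have hyB : y ∉ B := fun h => hxy (hxB y h)
  have hcomm : ∀ a ∈ E, ∀ b ∈ E, Commute a b := fun a ha b hb =>
    PGroup.mul_comm_of_elementaryAbelian hE ha hb
  have hcy : Nat.card ↥(B ⊔ zpowers y) = Nat.card B * q :=
    card_sup_zpowers_of_commute (fun b hb => hcomm b (hBE hb) y hy) hyB (hE.2 y hy)
  have hle : B ⊔ zpowers y ≤ E := sup_le hBE (zpowers_le.2 hy)
  suffices h : B ⊔ zpowers y = E from
    ⟨B, hBE, hyB, h, h ▸ hcy, x, hxK, hxB, hxy⟩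
  by_cases hcyc : ∃ a ∈ E, B ⊔ zpowers a = E
  · obtain ⟨a, ha, haE⟩ := hcyc
    refine eq_of_le_of_card_ge hle ?_
    by_cases haB : a ∈ B
    · refine card_le_of_le ?_
      rw [← haE]
      exact sup_le le_sup_left (zpowers_le.2 (mem_sup_left haB))
    · rw [hcy, ← card_sup_zpowers_of_commute (fun b hb => hcomm b (hBE hb) a ha) haB (hE.2 a ha),
        haE]
  · exfalso
    push Not at hcyc
    have : IsMulCommutative ↥E := hE.1
    set K0 := K ⊓ centralizer (B : Set G) with hK0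
    have hK0n : E ≤ normalizer (K0 : Set G) := by
      refine Coprime.le_normalizer_inf_of_le hn ?_
      refine le_trans ?_ le_normalizer
      exact fun e he => mem_centralizer_iff.2 fun b hb => (hcomm b (hBE hb) e he).eq
    have hBK0 : B ≤ centralizer (K0 : Set G) := fun b hb => mem_centralizer_iff.2 fun k hk =>
      (mem_centralizer_iff.1 hk.2 b hb).symm
    have heq := Coprime.eq_of_forall_centralizer_le' (S := K0 ⊓ centralizer ({y} : Set G)) hBE hBK0
      hcyc hK0n (hcop.coprime_dvd_right (card_dvd_of_le inf_le_left)) inf_le_left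
      (fun a ha haB k hk => by
        refine ⟨hk.1, mem_centralizer_singleton_iff.2 ?_⟩
        by_contra hky
        have hlt : B < B ⊔ zpowers a := left_lt_sup.2 fun h => haB (h (mem_zpowers a))
        refine hlt.not_ge (hmax ⟨sup_le hBE (zpowers_le.2 ha), k, hk.1.1, ?_, fun h => hky h.eq.symm⟩ hlt.le)
        exact commute_sup_zpowers (fun b hb => mem_centralizer_iff.1 hk.1.2 b hb)
          (mem_centralizer_singleton_iff.1 hk.2).symm)
    have hxK0 : x ∈ K0 := ⟨hxK, mem_centralizer_iff.2 fun b hb => hxB b hb⟩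
    rw [← heq] at hxK0
    exact hxy (mem_centralizer_singleton_iff.1 hxK0.2).symm

variable [Finite G] {p N : ℕ} [hp : Fact p.Prime]

theorem Hyp.card_coprime (h : Hyp G p N) {A Q : Subgroup G} (hA : IsElementaryAbelian p A)
    (hQ : IsPGroup 2 ↥Q) : (Nat.card A).Coprime (Nat.card Q) := by
  have : Fact (Nat.Prime 2) := ⟨Nat.prime_two⟩
  obtain ⟨i, hi⟩ := (PGroup.isPGroup_of_elementaryAbelian hA).exists_card_eq
  obtain ⟨j, hj⟩ := hQ.exists_card_eq
  rw [hi, hj]
  exact ((Nat.coprime_primes hp.out Nat.prime_two).2 h.odd).pow _ _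

theorem eq_one_of_commute_inverted (h : Hyp G p N) {y : G} (hy : y ^ p = 1) (hi : y = y⁻¹) :
    y = 1 := by
  have h2 : y ^ 2 = 1 := by rw [pow_two]; nth_rewrite 2 [hi]; group
  have := Nat.eq_one_of_dvd_coprimes ((Nat.coprime_primes hp.out Nat.prime_two).2 h.odd)
    (orderOf_dvd_of_pow_eq_one hy) (orderOf_dvd_of_pow_eq_one h2)
  exact orderOf_eq_one_iff.1 this

theorem grow (h : Hyp G p N) {X E : Subgroup G} (hX : IsElementaryAbelian p X) (hX1 : X ≠ ⊥)
    (hE : IsElementaryAbelian 2 E) (hE1 : E ≠ ⊥) (hc : ∀ x ∈ X, ∀ e ∈ E, Commute x e) :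
    ∃ E0 ≤ E, ∃ t ∈ E, ∃ y : G, Nat.card E = Nat.card E0 * 2 ∧
      y ∈ (pCore p ↥(centralizer (X : Set G))).map (centralizer (X : Set G)).subtype ∧
      y ∉ X ∧ y ≠ 1 ∧ y ^ p = 1 ∧ (∀ x ∈ X, Commute x y) ∧ (∀ e ∈ E0, Commute e y) ∧
      t * y * t⁻¹ = y⁻¹ := by
  have : Fact (Nat.Prime 2) := ⟨Nat.prime_two⟩
  set L := centralizer (X : Set G)
  set R := (pCore p ↥L).map L.subtype with hR
  have hEL : E ≤ L := fun e he => mem_centralizer_iff.2 fun x hx => hc x hx e he
  have hEn : E ≤ normalizer (R : Set G) := hEL.trans (le_normalizer_pCore_map p L)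
  have hRp : IsPGroup p ↥R := (Components.isPGroup_pCore' (G := ↥L) p).map _
  have hRL : R ≤ L := map_subtype_le _
  have hEcop : ∀ e ∈ E, (orderOf e).Coprime p := fun e he => by
    have : e ^ 2 = 1 := hE.2 e he
    exact Nat.Coprime.coprime_dvd_left (orderOf_dvd_of_pow_eq_one this)
      ((Nat.coprime_primes Nat.prime_two hp.out).2 (Ne.symm h.odd))
  have hcop : (Nat.card E).Coprime (Nat.card R) := by
    obtain ⟨i, hi⟩ := (PGroup.isPGroup_of_elementaryAbelian hE).exists_card_eq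
    obtain ⟨j, hj⟩ := hRp.exists_card_eq
    rw [hi, hj]
    exact ((Nat.coprime_primes Nat.prime_two hp.out).2 (Ne.symm h.odd)).pow _ _
  obtain ⟨⟨t, ht⟩, ht1⟩ := ne_bot_iff_exists_ne_one.1 hE1
  have hmove : ∃ k ∈ R, ¬ Commute t k := by
    by_contra hne
    push Not at hne
    have h1 : (⟨t, hEL ht⟩ : ↥L) = 1 := LocalChar.cp_elim
      (h.loc X (PGroup.isPGroup_of_elementaryAbelian hX) hX1)
      (fun q hq => Subtype.ext (hne q ⟨q, hq, rfl⟩).eq) (by
        intro hd
        rw [← Subgroup.orderOf_coe] at hd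
        exact hp.out.ne_one (Nat.eq_one_of_dvd_coprimes (hEcop t ht) hd dvd_rfl))
    exact ht1 (Subtype.ext (congrArg (fun a : ↥L => (a : G)) h1))
  obtain ⟨E0, hE0, -, -, hcard, k, hkR, hkE0, hkt⟩ := exists_hyperplane hE hEn hcop ht hmove
  have htt : t * t = 1 := by rw [← pow_two]; exact hE.2 t ht
  set P := R ⊓ centralizer (E0 : Set G)
  have htP : zpowers t ≤ normalizer (P : Set G) := by
    refine Coprime.le_normalizer_inf_of_le ((zpowers_le.2 ht).trans hEn) (le_trans ?_ le_normalizer)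
    refine zpowers_le.2 (mem_centralizer_iff.2 fun e he => ?_)
    exact PGroup.mul_comm_of_elementaryAbelian hE (hE0 he) ht
  obtain ⟨x, hxP, hxp, hxt⟩ : ∃ x ∈ P, x ^ p = 1 ∧ ¬ Commute t x := by
    by_contra hne
    push Not at hne
    have h1 := Coprime.le_centralizer_of_fix_pow_eq_one h.odd P (zpowers t)
      (hRp.to_le inf_le_left) htP (by rw [Nat.card_zpowers]; exact hEcop t ht)
      fun x hx hxp => zpowers_le.2 (mem_centralizer_singleton_iff.2 (hne x hx hxp).eq)
    exact hkt (mem_centralizer_iff.1 (h1 (mem_zpowers t)) k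
      ⟨hkR, mem_centralizer_iff.2 fun e he => hkE0 e he⟩).symm
  have htinv : t⁻¹ = t := inv_eq_of_mul_eq_one_left htt
  set w := x⁻¹ * (t * x * t⁻¹) with hw
  have hwP : w ∈ P := mul_mem (inv_mem hxP) (conj_mem (htP (mem_zpowers t)) hxP)
  have hw1 : w ≠ 1 := fun h1 => hxt (commute_iff_conj.2 (inv_mul_eq_one.1 h1).symm)
  have hwinv : t * w * t⁻¹ = w⁻¹ := by
    calc t * w * t⁻¹ = (t * x * t⁻¹)⁻¹ * ((t * t) * x * (t * t)⁻¹) := by rw [hw]; group
      _ = (t * x * t⁻¹)⁻¹ * x := by rw [htt]; group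
      _ = w⁻¹ := by rw [hw]; group
  obtain ⟨i, hi⟩ := hRp ⟨w, hwP.1⟩
  have hwi : w ^ p ^ i = 1 := congrArg Subtype.val hi
  obtain ⟨j, -, hj⟩ := (Nat.dvd_prime_pow hp.out).1 (orderOf_dvd_of_pow_eq_one hwi)
  obtain ⟨j, rfl⟩ : ∃ j', j = j' + 1 := by
    rcases j with - | j
    · exact absurd (orderOf_eq_one_iff.1 (by simpa using hj)) hw1
    · exact ⟨j, rfl⟩
  set y := w ^ p ^ j with hy
  have hyp : y ^ p = 1 := by rw [hy, ← pow_mul, ← pow_succ, ← hj, pow_orderOf_eq_one]
  have hy1 : y ≠ 1 := pow_ne_one_of_lt_orderOf (pow_ne_zero _ hp.out.ne_zero)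
    (by rw [hj]; exact Nat.pow_lt_pow_right hp.out.one_lt (Nat.lt_succ_self j))
  have hyP : y ∈ P := pow_mem hwP _
  have hyinv : t * y * t⁻¹ = y⁻¹ := by rw [hy, ← conj_pow, hwinv, inv_pow]
  refine ⟨E0, hE0, t, ht, y, hcard, hyP.1, ?_, hy1, hyp, ?_, ?_, hyinv⟩
  · intro hyX
    refine hy1 (eq_one_of_commute_inverted h hyp ?_)
    rw [← hyinv, commute_iff_conj.1 (hc y hyX t ht).symm]
  · exact fun x hx => mem_centralizer_iff.1 (hRL hyP.1) x hx
  · exact fun e he => mem_centralizer_iff.1 hyP.2 e he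

theorem bound (h : Hyp G p N) : ∀ (k : ℕ) {X E : Subgroup G}, IsElementaryAbelian p X → X ≠ ⊥ →
    IsElementaryAbelian 2 E → 2 ^ (k + 1) ≤ Nat.card E →
    (∀ x ∈ X, ∀ e ∈ E, Commute x e) → Nat.card X * p ^ k ≤ N := by
  intro k
  induction k with
  | zero =>
    intro X E hX _ hE hk hc
    have hE1 : E ≠ ⊥ := fun h1 => by rw [h1, card_bot] at hk; omega
    obtain ⟨⟨t, ht⟩, ht1⟩ := ne_bot_iff_exists_ne_one.1 hE1
    have : Fact (Nat.Prime 2) := ⟨Nat.prime_two⟩
    rw [pow_zero, mul_one]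
    exact h.bnd X hX ⟨t, orderOf_eq_prime (hE.2 t ht) fun h1 => ht1 (Subtype.ext h1),
      fun a ha => (hc a ha t ht).symm⟩
  | succ k ih =>
    intro X E hX hX1 hE hk hc
    have hE1 : E ≠ ⊥ := fun h1 => by
      rw [h1, card_bot] at hk
      exact absurd hk (not_le.2 (Nat.one_lt_two_pow (by omega)))
    obtain ⟨E0, hE0, t, -, y, hcard, -, hyX, -, hyp, hyc, hye, -⟩ := grow h hX hX1 hE hE1 hc
    have h1 := ih (isEA_sup_zpowers hX hyc hyp)
      (fun h1 => hX1 (le_bot_iff.1 (h1 ▸ le_sup_left)))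
      (PGroup.isElementaryAbelian_mono hE hE0) (by rw [hcard, pow_succ] at hk; omega)
      (fun x hx e he => commute_sup_zpowers (fun x hx => hc x hx e (hE0 he)) (hye e he).symm x hx)
    rw [card_sup_zpowers_of_commute hyc hyX hyp] at h1
    rw [pow_succ', ← mul_assoc]
    exact h1

/-- An `A`-invariant class two subgroup `C` of `C(z)` on which `A` acts faithfully. -/
structure Cfg (A : Subgroup G) (z : G) (C : Subgroup G) : Prop where
  isTwo : IsPGroup 2 ↥C
  mem : z ∈ C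
  le : C ≤ centralizer ({z} : Set G)
  norm : centralizer ({z} : Set G) ≤ normalizer (C : Set G)
  faith : ∀ a ∈ A, (∀ c ∈ C, Commute a c) → a = 1
  comm : ∀ u ∈ C, ∀ v ∈ C, ∃ d : G, (d = 1 ∨ d = z) ∧ u * v = d * (v * u)
  sq_central : ∀ u ∈ C, ∀ v ∈ C, Commute (u * u) v
  sq_fixed : ∀ u ∈ C, ∀ a ∈ A, Commute a (u * u)

theorem exists_four {x w : G} (hx : orderOf x = 2) (hw : w * w = 1) (hwx : w ∉ zpowers x)
    (hc : Commute x w) :
    IsElementaryAbelian 2 (zpowers x ⊔ zpowers w) ∧ Nat.card ↥(zpowers x ⊔ zpowers w) = 4 := by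
  have : Fact (Nat.Prime 2) := ⟨Nat.prime_two⟩
  have hx2 : x ^ 2 = 1 := hx ▸ pow_orderOf_eq_one x
  have hw2 : w ^ 2 = 1 := by rw [pow_two, hw]
  refine ⟨isEA_sup_zpowers (isEA_zpowers hx2) (commute_zpowers hc) hw2, ?_⟩
  rw [card_sup_zpowers_of_commute (commute_zpowers hc) hwx hw2, Nat.card_zpowers, hx]

/-- A hyperplane moving an abelian 2-group moves one of its involutions. -/
theorem exists_moved_involution (h : Hyp G p N) {A V : Subgroup G} (hA : IsElementaryAbelian p A)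
    (hAV : A ≤ normalizer (V : Set G)) (hVc : IsMulCommutative ↥V) (hV : IsPGroup 2 ↥V)
    (hmove : ∃ y ∈ A, ∃ v ∈ V, ¬ Commute y v) :
    ∃ B ≤ A, Nat.card A = Nat.card B * p ∧ ∃ a ∈ A, ∃ w ∈ V,
      (∀ b ∈ B, Commute b w) ∧ orderOf w = 2 ∧ ¬ Commute a w := by
  obtain ⟨y, hy, v, hv, hyv⟩ := hmove
  obtain ⟨B, hBA, -, -, hcard, x, hxV, hxB, hxy⟩ :=
    exists_hyperplane hA hAV (h.card_coprime hA hV) hy ⟨v, hv, hyv⟩
  refine ⟨B, hBA, hcard, ?_⟩
  by_contra hne
  push Not at hne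
  set W := V ⊓ centralizer (B : Set G)
  have : IsMulCommutative ↥W := PGroup.isMulCommutative_of_forall fun a ha b hb =>
    PGroup.mul_comm_of_isMulCommutative hVc ha.1 hb.1
  have hAW : A ≤ normalizer (W : Set G) := by
    refine Coprime.le_normalizer_inf_of_le hAV (le_trans ?_ le_normalizer)
    exact fun a ha => mem_centralizer_iff.2 fun b hb =>
      PGroup.mul_comm_of_elementaryAbelian hA (hBA hb) ha
  have h1 := Coprime.le_centralizer_of_prime_order hAW
    ((h.card_coprime hA hV).coprime_dvd_right (card_dvd_of_le inf_le_left))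
    (fun w hw hwo a ha => by
      have h2 : orderOf w = 2 := by
        obtain ⟨k, hk⟩ := hV ⟨w, hw.1⟩
        have hk' : w ^ 2 ^ k = 1 := congrArg Subtype.val hk
        exact (Nat.prime_dvd_prime_iff_eq hwo Nat.prime_two).1
          (hwo.dvd_of_dvd_pow (orderOf_dvd_of_pow_eq_one hk'))
      exact (hne a ha w hw.1 (fun b hb => mem_centralizer_iff.1 hw.2 b hb) h2).eq)
  exact hxy (mem_centralizer_iff.1 (h1 hy) x
    ⟨hxV, mem_centralizer_iff.2 fun b hb => hxB b hb⟩).symm

theorem involution_unique (h : Hyp G p N) {A : Subgroup G} (hA : IsElementaryAbelian p A)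
    (hA1 : A ≠ ⊥) (hAN : N ≤ Nat.card A) {z v : G} (hz : orderOf z = 2)
    (hzA : ∀ a ∈ A, Commute z a) (hv : v * v = 1) (hvz : Commute z v)
    (hvA : ∀ a ∈ A, Commute a v) : v = 1 ∨ v = z := by
  have hzz : z * z = 1 := by rw [← pow_two, ← hz, pow_orderOf_eq_one]
  by_cases hvm : v ∈ zpowers z
  · exact eq_or_of_mem_zpowers hzz hvm
  · obtain ⟨hE, hcard⟩ := exists_four hz hv hvm hvz
    have := bound h 1 hA hA1 hE hcard.ge fun a ha e he =>
      (commute_sup_zpowers (commute_zpowers (hzA a ha)) (hvA a ha).symm e he).symm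
    rw [pow_one] at this
    have hp2 := hp.out.two_le
    have hpos : 0 < Nat.card A := Nat.card_pos
    nlinarith

theorem exists_cfg (h : Hyp G p N) {A : Subgroup G} (hA : IsElementaryAbelian p A)
    (hAN : Nat.card A = N) {z : G} (hz : orderOf z = 2) (hzA : ∀ a ∈ A, Commute z a) :
    ∃ C, Cfg A z C := by
  have : Fact (Nat.Prime 2) := ⟨Nat.prime_two⟩
  have hA3 : p ^ 3 ≤ Nat.card A := hAN ▸ h.big
  have hA1 : A ≠ ⊥ := fun h1 => by
    rw [h1, card_bot] at hA3
    exact absurd hA3 (not_le.2 (Nat.one_lt_pow (by norm_num) hp.out.one_lt))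
  set L := centralizer ({z} : Set G)
  set Q := (pCore 2 ↥L).map L.subtype
  have hQp : IsPGroup 2 ↥Q := (Components.isPGroup_pCore' (G := ↥L) 2).map _
  have hQL : Q ≤ L := map_subtype_le _
  have hAL : A ≤ L := fun a ha => mem_centralizer_singleton_iff.2 (hzA a ha).symm
  have hLQ : L ≤ normalizer (Q : Set G) := le_normalizer_pCore_map 2 L
  have hzQ : z ∈ Q := by
    have hzp : IsPGroup 2 ↥(zpowers z) := IsPGroup.of_card (n := 1) (by
      rw [Nat.card_zpowers, hz, pow_one])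
    have hzn : L ≤ normalizer ((zpowers z : Subgroup G) : Set G) := by
      refine le_trans ?_ (centralizer_le_normalizer _)
      exact fun g hg => mem_centralizer_iff.2 fun x hx =>
        commute_zpowers (mem_centralizer_singleton_iff.1 hg).symm x hx
    exact ⟨⟨z, mem_centralizer_singleton_iff.2 rfl⟩,
      LocalChar.mem_pCore_subgroup hzp hzn _ (mem_zpowers z), rfl⟩
  obtain ⟨H, hH, hΦ, -, hCH⟩ := PGroup.exists_critical (p := 2) hQp
  set C := H.map Q.subtype with hC
  have hCQ : C ≤ Q := map_subtype_le _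
  have hCp : IsPGroup 2 ↥C := hQp.to_le hCQ
  have hLC : L ≤ normalizer (C : Set G) := hLQ.trans (le_normalizer_map_of_char H)
  have hzC : z ∈ C := ⟨⟨z, hzQ⟩, hCH (mem_centralizer_iff.2 fun x _ =>
    Subtype.ext (mem_centralizer_singleton_iff.1 (hQL x.2))), rfl⟩
  have hHp : IsPGroup 2 ↥H := hQp.to_subgroup H
  -- squares and commutators are central in `C`
  have hcent : ∀ f ∈ frattini ↥H, ∀ c ∈ C, Commute ((f : ↥Q) : G) c := by
    rintro f hf _ ⟨c, hc, rfl⟩
    have h1 := mem_centralizer_iff.1 (hΦ (mem_map_of_mem H.subtype hf)) c hc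
    exact (congrArg Subtype.val h1).symm
  have hsq : ∀ u ∈ C, ∀ v ∈ C, Commute (u * u) v := by
    rintro _ ⟨u, hu, rfl⟩ v hv
    have h1 := hcent _ (PGroup.pow_mem_frattini hHp ⟨u, hu⟩) v hv
    rw [pow_two] at h1
    exact h1
  have hcom : ∀ u ∈ C, ∀ v ∈ C, ∀ c ∈ C, Commute (u * v * u⁻¹ * v⁻¹) c := by
    rintro _ ⟨u, hu, rfl⟩ _ ⟨v, hv, rfl⟩ c hc
    have h1 : ⁅(⟨u, hu⟩ : ↥H), (⟨v, hv⟩ : ↥H)⁆ ∈ frattini ↥H :=
      PGroup.commutator_le_frattini hHp (commutator_mem_commutator (mem_top _) (mem_top _))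
    exact hcent _ h1 c hc
  -- `A` fixes the centre of `C`
  have hfix : ∀ a ∈ A, ∀ c ∈ C, (∀ d ∈ C, Commute c d) → Commute a c := by
    intro a ha c hc hcd
    by_contra hne
    set V := C ⊓ centralizer (C : Set G)
    have hVc : IsMulCommutative ↥V := PGroup.isMulCommutative_of_forall fun x hx y hy =>
      mem_centralizer_iff.1 hy.2 x hx.1
    have hAC : A ≤ normalizer (C : Set G) := hAL.trans hLC
    obtain ⟨B, hBA, hcard, a', ha', w, hw, hwB, hwo, hwa⟩ := exists_moved_involution h hA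
      (Coprime.le_normalizer_inf_of_le hAC (Coprime.le_normalizer_centralizer hAC)) hVc
      (hCp.to_le inf_le_left)
      ⟨a, ha, c, ⟨hc, mem_centralizer_iff.2 fun d hd => (hcd d hd).eq.symm⟩, hne⟩
    have hzV : z ∈ V := ⟨hzC, mem_centralizer_iff.2 fun d hd =>
      mem_centralizer_singleton_iff.1 (hQL (hCQ hd))⟩
    have hAV : A ≤ normalizer (V : Set G) :=
      Coprime.le_normalizer_inf_of_le hAC (Coprime.le_normalizer_centralizer hAC)
    have hww : w * w = 1 := by rw [← pow_two, ← hwo, pow_orderOf_eq_one]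
    have hzz : z * z = 1 := by rw [← pow_two, ← hz, pow_orderOf_eq_one]
    have hwz : w ∉ zpowers z := fun hm => by
      rcases eq_or_of_mem_zpowers hzz hm with rfl | rfl
      · exact hwa (Commute.one_right a')
      · exact hwa (hzA a' ha').symm
    set w' := a' * w * a'⁻¹ with hw'
    have hw'V : w' ∈ V := conj_mem (hAV ha') hw
    have hcV : ∀ x ∈ V, ∀ y ∈ V, Commute x y := fun x hx y hy =>
      PGroup.mul_comm_of_isMulCommutative hVc hx hy
    obtain ⟨hE, hEc⟩ := exists_four hz hww hwz (hcV z hzV w hw)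
    have hEV : zpowers z ⊔ zpowers w ≤ V := sup_le (zpowers_le.2 hzV) (zpowers_le.2 hw)
    have hw'E : w' ∉ zpowers z ⊔ zpowers w := by
      intro hm
      obtain ⟨x, hx, i, hxi⟩ := exists_mul_zpow (commute_zpowers (hcV z hzV w hw)) hm
      rcases eq_or_of_mem_zpowers hww (show w ^ i ∈ zpowers w from zpow_mem (mem_zpowers w) i)
        with hi | hi <;> rw [hi] at hxi
      · -- `w'` is fixed by `a'`
        have hfixed : Commute a' w' := by
          rw [hxi, mul_one]
          exact (commute_zpowers (hzA a' ha') x hx).symm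
        exact hwa ((commute_conj_iff (g := a')).1
          (by rwa [mul_inv_cancel_right]))
      · refine hwa (Coprime.commute_of_translate (a := a') (h := w) (z := x) hxi
          (commute_zpowers (hzA a' ha') x hx).symm ?_)
        exact coprime_of_pow h.odd hCp (hA.2 a' ha') ((zpowers_le.2 hzC) hx)
    have hwo' : w' * w' = 1 := by
      calc w' * w' = a' * (w * w) * a'⁻¹ := by rw [hw']; group
        _ = 1 := by rw [hww]; group
    have hc' : ∀ x ∈ zpowers z ⊔ zpowers w, Commute x w' := fun x hx => hcV x (hEV hx) w' hw'V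
    have hw'2 : w' ^ 2 = 1 := by rw [pow_two, hwo']
    have hB1 : B ≠ ⊥ := fun h1 => by
      rw [h1, card_bot, one_mul] at hcard
      rw [hcard] at hA3
      exact absurd hA3 (not_le.2 (lt_self_pow₀ hp.out.one_lt (by norm_num)))
    have := bound h 2 (PGroup.isElementaryAbelian_mono hA hBA) hB1 (isEA_sup_zpowers hE hc' hw'2)
      (by rw [card_sup_zpowers_of_commute hc' hw'E hw'2, hEc]; norm_num)
      (fun b hb e he => by
        refine (commute_sup_zpowers ?_ ?_ e he).symm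
        · exact commute_sup_zpowers (commute_zpowers (hzA b (hBA hb))) (hwB b hb).symm
        · exact (commute_conj_right
            (show Commute a' b from PGroup.mul_comm_of_elementaryAbelian hA ha' (hBA hb))
            (hwB b hb)).symm)
    rw [← hAN, hcard, pow_two] at this
    have hp2 := hp.out.two_le
    have hBpos : 0 < Nat.card B := Nat.card_pos
    have hle := Nat.le_of_mul_le_mul_left this hBpos
    nlinarith
  refine ⟨C, hCp, hzC, hCQ.trans hQL, hLC, ?_, ?_, hsq,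
    fun u hu a ha => hfix a ha _ (mul_mem hu hu) (hsq u hu)⟩
  · intro a ha hac
    have haQ : a ∈ normalizer (Q : Set G) := hLQ (hAL ha)
    set φ := Q.normalizerMonoidHom ⟨a, haQ⟩ with hφ
    have ha2 : (orderOf a).Coprime 2 := Nat.Coprime.coprime_dvd_left
      (orderOf_dvd_of_pow_eq_one (hA.2 a ha)) ((Nat.coprime_primes hp.out Nat.prime_two).2 h.odd)
    have hφo : (orderOf φ).Coprime 2 := by
      refine Nat.Coprime.coprime_dvd_left ((orderOf_map_dvd _ _).trans ?_) ha2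
      rw [← Subgroup.orderOf_coe]
    have := PGroup.aut_eq_one_of_centralizer_le hQp H hCH φ hφo fun x hx =>
      Subtype.ext (commute_iff_conj.1 (hac _ ⟨x, hx, rfl⟩))
    have h1 : (⟨a, hAL ha⟩ : ↥L) = 1 := LocalChar.cp_elim (h.two z hz)
      (fun q hq => Subtype.ext (commute_iff_conj.2 (by
        have := congrArg Subtype.val
          (DFunLike.congr_fun this (⟨(q : G), ⟨q, hq, rfl⟩⟩ : ↥Q))
        exact this)).eq)
      (by
        intro hd
        rw [← Subgroup.orderOf_coe] at hd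
        exact Nat.prime_two.ne_one (Nat.eq_one_of_dvd_coprimes ha2 hd dvd_rfl))
    exact congrArg Subtype.val h1
  · intro u hu v hv
    set d := u * v * u⁻¹ * v⁻¹ with hd
    refine ⟨d, ?_, by rw [hd]; group⟩
    have hdC : d ∈ C := mul_mem (mul_mem (mul_mem hu hv) (inv_mem hu)) (inv_mem hv)
    have hdd : d * d = 1 := by
      have h1 : Commute d u := hcom u hu v hv u hu
      have h2 : Commute d v := hcom u hu v hv v hv
      rw [hd]
      calc u * v * u⁻¹ * v⁻¹ * (u * v * u⁻¹ * v⁻¹)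
          = d * u * v * u⁻¹ * v⁻¹ := by rw [hd]; group
        _ = u * d * v * u⁻¹ * v⁻¹ := by rw [h1.eq]
        _ = (u * u) * v * (u * u)⁻¹ * v⁻¹ := by rw [hd]; group
        _ = 1 := by rw [(hsq u hu v hv).eq]; group
    exact involution_unique h hA hA1 hAN.ge hz hzA hdd
      (mem_centralizer_singleton_iff.1 (hQL (hCQ hdC))).symm
      fun a ha => hfix a ha d hdC (hcom u hu v hv)

namespace Cfg

variable {A C : Subgroup G} {z : G}

theorem fixed_of_or (hC : Cfg A z C) (hzA : ∀ a ∈ A, Commute z a) {d a : G} (hd : d = 1 ∨ d = z)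
    (ha : a ∈ A) : Commute a d := by
  rcases hd with rfl | rfl
  · exact Commute.one_right a
  · exact (hzA a ha).symm

theorem central_of_or (hC : Cfg A z C) {d c : G} (hd : d = 1 ∨ d = z) (hc : c ∈ C) :
    Commute d c := by
  rcases hd with rfl | rfl
  · exact Commute.one_left c
  · exact (mem_centralizer_singleton_iff.1 (hC.le hc)).symm

theorem mem_of_or (hC : Cfg A z C) {d : G} (hd : d = 1 ∨ d = z) : d ∈ C := by
  rcases hd with rfl | rfl
  exacts [one_mem C, hC.mem]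

theorem conj_mem_C (hC : Cfg A z C) (hzA : ∀ a ∈ A, Commute z a) {a c : G} (ha : a ∈ A)
    (hc : c ∈ C) : a * c * a⁻¹ ∈ C :=
  conj_mem (hC.norm (mem_centralizer_singleton_iff.2 (hzA a ha).symm)) hc

theorem commute_tr (hC : Cfg A z C) (hzA : ∀ a ∈ A, Commute z a) {w x b : G} (hw : w ∈ C)
    (hx : x ∈ C) (hb : b ∈ A) (hbw : Commute b w) :
    Commute w (x⁻¹ * (b * x * b⁻¹)) := by
  obtain ⟨d, hd, hwx⟩ := hC.comm w hw x hx
  have hdb : Commute b d := hC.fixed_of_or hzA hd hb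
  have hdx : Commute d x := hC.central_of_or hd hx
  have h1 : w * x⁻¹ = d⁻¹ * (x⁻¹ * w) := by
    calc w * x⁻¹ = x⁻¹ * (x * w) * x⁻¹ := by group
      _ = x⁻¹ * (d⁻¹ * (w * x)) * x⁻¹ := by rw [hwx]; group
      _ = (x⁻¹ * d⁻¹) * w := by group
      _ = (d⁻¹ * x⁻¹) * w := by rw [(hdx.inv_inv).eq]
      _ = _ := by group
  have h2 : w * (b * x * b⁻¹) = d * (b * x * b⁻¹ * w) := by
    calc w * (b * x * b⁻¹) = (b * w * b⁻¹) * (b * x * b⁻¹) := by rw [commute_iff_conj.1 hbw]
      _ = b * (w * x) * b⁻¹ := by group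
      _ = b * d * b⁻¹ * (b * x * b⁻¹) * (b * w * b⁻¹) := by rw [hwx]; group
      _ = _ := by rw [commute_iff_conj.1 hbw, commute_iff_conj.1 hdb]; group
  show w * (x⁻¹ * (b * x * b⁻¹)) = x⁻¹ * (b * x * b⁻¹) * w
  calc w * (x⁻¹ * (b * x * b⁻¹)) = (w * x⁻¹) * (b * x * b⁻¹) := by group
    _ = d⁻¹ * x⁻¹ * (w * (b * x * b⁻¹)) := by rw [h1]; group
    _ = d⁻¹ * (x⁻¹ * d) * (b * x * b⁻¹ * w) := by rw [h2]; group
    _ = d⁻¹ * (d * x⁻¹) * (b * x * b⁻¹ * w) := by rw [(hdx.inv_right).eq]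
    _ = x⁻¹ * (b * x * b⁻¹) * w := by group

theorem moved (hC : Cfg A z C) (h : Hyp G p N) (hA : IsElementaryAbelian p A)
    (hzA : ∀ a ∈ A, Commute z a) {y u0 u v : G} (hy : y ∈ A) (hu0 : u0 ∈ C)
    (hm : ¬ Commute y u0) (hu : u = u0⁻¹ * (y * u0 * y⁻¹)) (hv : v = y * u * y⁻¹) :
    u ∈ C ∧ v ∈ C ∧ ¬ Commute y u ∧ ¬ Commute y v ∧ ¬ Commute y (u * v) ∧
      (u * u = 1 ∨ u * u = z) ∧ v * v = u * u := by
  have hu1 : y * u0 * y⁻¹ ∈ C := hC.conj_mem_C hzA hy hu0
  have huC : u ∈ C := hu ▸ mul_mem (inv_mem hu0) hu1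
  have hvC : v ∈ C := hv ▸ hC.conj_mem_C hzA hy huC
  have hcop : ∀ c ∈ C, (orderOf y).Coprime (orderOf c) := fun c hc =>
    coprime_of_pow h.odd hC.isTwo (hA.2 y hy) hc
  have hnu : ¬ Commute y u := fun hyu => hm (by
    have h1 : y * u0⁻¹ * y⁻¹ = u⁻¹ * u0⁻¹ := by rw [hu]; group
    simpa using (Coprime.commute_of_translate h1 hyu.inv_right (hcop _ (inv_mem huC))).inv_right)
  have huu : u * u = 1 ∨ u * u = z := by
    obtain ⟨d, hd, hd'⟩ := hC.comm (y * u0 * y⁻¹) hu1 u0⁻¹ (inv_mem hu0)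
    have hdu : Commute d u0⁻¹ := hC.central_of_or hd (inv_mem hu0)
    have hys : y * (u0 * u0) * y⁻¹ = u0 * u0 := commute_iff_conj.1 (hC.sq_fixed u0 hu0 y hy)
    have h1 : u * u = d := by
      calc u * u = u0⁻¹ * ((y * u0 * y⁻¹) * u0⁻¹) * (y * u0 * y⁻¹) := by rw [hu]; group
        _ = (u0⁻¹ * d) * u0⁻¹ * (y * (u0 * u0) * y⁻¹) := by rw [hd']; group
        _ = (d * u0⁻¹) * u0⁻¹ * (u0 * u0) := by rw [hys, (hdu.symm).eq]
        _ = d := by group
    rwa [h1]
  refine ⟨huC, hvC, hnu, ?_, ?_, huu, ?_⟩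
  · intro hyv
    rw [hv] at hyv
    exact hnu ((commute_conj_iff (g := y)).1 (by rwa [mul_inv_cancel_right]))
  · intro hyuv
    obtain ⟨d, hd, hd'⟩ := hC.comm u huC v hvC
    have h1 : y * v * y⁻¹ = d * u := by
      have h2 : v * (y * v * y⁻¹) = u * v := by
        conv_rhs => rw [← commute_iff_conj.1 hyuv]
        rw [hv]; group
      calc y * v * y⁻¹ = v⁻¹ * (v * (y * v * y⁻¹)) := by group
        _ = v⁻¹ * (d * (v * u)) := by rw [h2, hd']
        _ = v⁻¹ * (d * v) * u := by group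
        _ = v⁻¹ * (v * d) * u := by rw [(hC.central_of_or hd hvC).eq]
        _ = _ := by group
    have h3 : Commute (y * y) u :=
      Coprime.commute_of_translate (a := y * y) (z := d) (by rw [← h1, hv]; group)
        ((hC.fixed_of_or hzA hd hy).mul_left (hC.fixed_of_or hzA hd hy))
        (coprime_of_pow h.odd hC.isTwo (by rw [← pow_two, ← pow_mul, mul_comm, pow_mul,
          hA.2 y hy, one_pow]) (hC.mem_of_or hd))
    refine hnu ?_
    obtain ⟨m, hm'⟩ := (hp.out.odd_of_ne_two h.odd)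
    have h4 : y = (y * y) ^ (m + 1) := by
      rw [← pow_two, ← pow_mul, show 2 * (m + 1) = p + 1 by omega, pow_succ, hA.2 y hy, one_mul]
    rw [h4]
    exact h3.pow_left _
  · calc v * v = y * (u * u) * y⁻¹ := by rw [hv]; group
      _ = u * u := commute_iff_conj.1 (hC.fixed_of_or hzA huu hy)

end Cfg

theorem sq_mul_eq_one {z u w : G} (hzz : z * z = 1) (hu : u * u = 1 ∨ u * u = z)
    (hw : w * w = u * u) (hc : Commute u w) : (u * w) * (u * w) = 1 := by
  calc u * w * (u * w) = u * (w * u) * w := by group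
    _ = u * (u * w) * w := by rw [hc.eq]
    _ = (u * u) * (w * w) := by group
    _ = 1 := by rcases hu with h | h <;> rw [hw, h] <;> simp [hzz]

theorem commute_prod {u v u' v' d d' : G} (h1 : Commute u' v) (h2 : Commute v' u)
    (hd : u * v = d * (v * u)) (hd' : u' * v' = d' * (v' * u')) (hdd : d * d' = 1)
    (hd'c : Commute d' (v * u)) : Commute (u * u') (v * v') := by
  show u * u' * (v * v') = v * v' * (u * u')
  calc u * u' * (v * v') = u * (u' * v) * v' := by group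
    _ = (u * v) * (u' * v') := by rw [h1.eq]; group
    _ = d * ((v * u) * d') * (v' * u') := by rw [hd, hd']; group
    _ = (d * d') * (v * u) * (v' * u') := by rw [(hd'c.symm).eq]; group
    _ = v * (u * v') * u' := by rw [hdd]; group
    _ = v * v' * (u * u') := by rw [(h2.symm).eq]; group

/-- Three commuting involutions `z, g, h` with `g ∉ ⟨z⟩`, `h ∉ ⟨z⟩`, `gh ∉ ⟨z⟩`. -/
theorem exists_eight {z g k : G} (hz : orderOf z = 2) (hg : g * g = 1) (hk : k * k = 1)
    (hzg : Commute z g) (hzk : Commute z k) (hgk : Commute g k) (h1 : g ∉ zpowers z)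
    (h2 : k ∉ zpowers z) (h3 : g * k ∉ zpowers z) :
    IsElementaryAbelian 2 (zpowers z ⊔ zpowers g ⊔ zpowers k) ∧
      Nat.card ↥(zpowers z ⊔ zpowers g ⊔ zpowers k) = 8 := by
  have : Fact (Nat.Prime 2) := ⟨Nat.prime_two⟩
  obtain ⟨hE, hc⟩ := exists_four hz hg h1 hzg
  have hcomm := commute_sup_zpowers (commute_zpowers hzk) hgk
  have hk2 : k ^ 2 = 1 := by rw [pow_two, hk]
  have hkE : k ∉ zpowers z ⊔ zpowers g := by
    intro hm
    obtain ⟨x, hx, i, hxi⟩ := exists_mul_zpow (commute_zpowers hzg) hm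
    rcases eq_or_of_mem_zpowers hg (show g ^ i ∈ zpowers g from zpow_mem (mem_zpowers g) i)
      with hi | hi <;> rw [hi] at hxi
    · exact h2 (by simpa [hxi] using hx)
    · refine h3 ?_
      rw [hgk.eq, hxi, mul_assoc, hg, mul_one]
      exact hx
  exact ⟨isEA_sup_zpowers hE hcomm hk2, by
    rw [card_sup_zpowers_of_commute hcomm hkE hk2, hc]⟩

/-- No subgroup of order `N / p` centralises a four-group. -/
theorem no_four (h : Hyp G p N) {X E : Subgroup G} (hX : IsElementaryAbelian p X)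
    (hXN : N ≤ Nat.card X * p) (hE : IsElementaryAbelian 2 E) (hE4 : 4 ≤ Nat.card E)
    (hc : ∀ x ∈ X, ∀ e ∈ E, Commute x e) : False := by
  have : Fact (Nat.Prime 2) := ⟨Nat.prime_two⟩
  have hX1 : X ≠ ⊥ := fun h1 => by
    rw [h1, card_bot, one_mul] at hXN
    exact absurd (h.big.trans hXN) (not_le.2 (lt_self_pow₀ hp.out.one_lt (by norm_num)))
  have hE1 : E ≠ ⊥ := fun h1 => by rw [h1, card_bot] at hE4; omega
  obtain ⟨E0, hE0, t, htE, y, hcard, hyR, hyX, hy1, hyp, hyX', hyE0, hinv⟩ :=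
    grow h hX hX1 hE hE1 hc
  obtain ⟨⟨s, hsE0⟩, hs1⟩ := ne_bot_iff_exists_ne_one.1
    (show E0 ≠ ⊥ from fun h1 => by rw [h1, card_bot] at hcard; omega)
  have hs : orderOf s = 2 :=
    orderOf_eq_prime (hE.2 s (hE0 hsE0)) fun h1 => hs1 (Subtype.ext h1)
  have hss : s * s = 1 := by rw [← pow_two, ← hs, pow_orderOf_eq_one]
  have htt : t * t = 1 := by rw [← pow_two]; exact hE.2 t htE
  set A := X ⊔ zpowers y with hAdef
  have hA : IsElementaryAbelian p A := isEA_sup_zpowers hX hyX' hyp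
  have hAc : Nat.card A = Nat.card X * p := card_sup_zpowers_of_commute hyX' hyX hyp
  have hsA : ∀ a ∈ A, Commute s a := fun a ha =>
    (commute_sup_zpowers (fun x hx => hc x hx s (hE0 hsE0)) (hyE0 s hsE0).symm a ha).symm
  have hAN : Nat.card A = N := le_antisymm (h.bnd A hA ⟨s, hs, hsA⟩) (hAc ▸ hXN)
  have hyA : y ∈ A := mem_sup_right (mem_zpowers y)
  obtain ⟨C, hC⟩ := exists_cfg h hA hAN hs hsA
  have hts : Commute t s := PGroup.mul_comm_of_elementaryAbelian hE htE (hE0 hsE0)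
  have htC : t ∈ normalizer (C : Set G) := hC.norm (mem_centralizer_singleton_iff.2 hts.eq)
  -- `y` fixes `C ∩ C(X)`
  have hfixX : ∀ c ∈ C, (∀ x ∈ X, Commute x c) → Commute y c := by
    intro c hc' hcX
    set R := (pCore p ↥(centralizer (X : Set G))).map (centralizer (X : Set G)).subtype
    have hcR : c ∈ normalizer (R : Set G) :=
      le_normalizer_pCore_map p _ (mem_centralizer_iff.2 fun x hx => hcX x hx)
    have hk1 : c * y * c⁻¹ * y⁻¹ ∈ R := mul_mem (conj_mem hcR hyR) (inv_mem hyR)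
    have hk2 : c * y * c⁻¹ * y⁻¹ ∈ C := by
      have h1 := mul_mem hc' (hC.conj_mem_C hsA hyA (inv_mem hc'))
      simpa [mul_assoc] using h1
    have := eq_one_of_mem_both h.odd ((Components.isPGroup_pCore' _).map _) hC.isTwo hk1 hk2
    exact (commute_iff_conj.2 (mul_inv_eq_one.1 this)).symm
  obtain ⟨c0, hc0, hc0y⟩ : ∃ c ∈ C, ¬ Commute y c := by
    by_contra hne
    push Not at hne
    exact hy1 (hC.faith y hyA hne)
  obtain ⟨B, hBA, hyB, hBsup, hBc, u0, hu0, hu0B, hu0y⟩ := exists_hyperplane hA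
    (fun a ha => hC.norm (mem_centralizer_singleton_iff.2 (hsA a ha).symm))
    (h.card_coprime hA hC.isTwo) hyA ⟨c0, hc0, hc0y⟩
  -- a `B`-element not moved into `B` by `t`
  obtain ⟨β, hβ, hβeq⟩ : ∃ β ∈ B, y⁻¹ = β * (t * β * t⁻¹)⁻¹ := by
    by_contra hne
    have hBX : B ≤ X := by
      intro b hb
      obtain ⟨x, hx, i, hxi⟩ := exists_mul_zpow hyX' (hBA hb)
      by_cases hyi : y ^ i = 1
      · rw [hxi, hyi, mul_one]; exact hx
      exfalso
      have htx : t * x * t⁻¹ = x := commute_iff_conj.1 (hc x hx t htE).symm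
      have htb : t * b * t⁻¹ = x * (y ^ i)⁻¹ := by
        calc t * b * t⁻¹ = (t * x * t⁻¹) * (t * y ^ i * t⁻¹) := by rw [hxi]; group
          _ = x * (y ^ i)⁻¹ := by rw [htx, ← conj_zpow, hinv, inv_zpow]
      have hd : b * (t * b * t⁻¹)⁻¹ = y ^ (i + i) := by
        rw [htb, hxi, mul_inv_rev, inv_inv]
        calc x * y ^ i * (y ^ i * x⁻¹) = x * y ^ (i + i) * x⁻¹ := by rw [zpow_add]; group
          _ = y ^ (i + i) := commute_iff_conj.1 ((hyX' x hx).zpow_right (i + i))
      have hd1 : y ^ (i + i) ≠ 1 := by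
        intro h1
        refine hyi (eq_one_of_commute_inverted h ?_ ?_)
        · rw [← zpow_natCast, ← zpow_mul, mul_comm, zpow_mul, zpow_natCast, hyp, one_zpow]
        · rw [zpow_add] at h1
          exact (inv_eq_of_mul_eq_one_left h1).symm
      obtain ⟨m, hm⟩ := inv_mem (mem_of_zpow_mem hyp hd1)
      refine hne ⟨b ^ m, zpow_mem hb m, ?_⟩
      have hm' : (y ^ (i + i)) ^ m = y⁻¹ := hm
      have hcb : Commute b (t * b * t⁻¹) := by
        refine PGroup.mul_comm_of_elementaryAbelian hA (hBA hb) ?_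
        rw [htb]
        exact mul_mem (mem_sup_left hx) (inv_mem (zpow_mem hyA i))
      rw [← hm', ← hd, hcb.inv_right.mul_zpow, inv_zpow, conj_zpow]
    have hBeq : B = X := eq_of_le_of_card_ge hBX
      (Nat.le_of_mul_le_mul_right (by rw [← hBc, hAc]) hp.out.pos)
    exact hu0y (hfixX u0 hu0 (hBeq ▸ hu0B))
  set γ := (t * β * t⁻¹)⁻¹ with hγ
  have hcomb : ∀ w, (∀ b ∈ B, Commute b w) → (∀ b ∈ B, Commute (t * b * t⁻¹) w) → Commute y w := by
    intro w h1 h2
    have := ((h1 β hβ).mul_left (h2 β hβ).inv_left)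
    rw [← hγ, ← hβeq] at this
    simpa using this.inv_left
  set u := u0⁻¹ * (y * u0 * y⁻¹) with hu
  set v := y * u * y⁻¹ with hv
  obtain ⟨huC, hvC, hyu, hyv, hyuv, huu, hvv⟩ := hC.moved h hA hsA hyA hu0 hu0y hu hv
  have hcyB : ∀ b ∈ B, Commute y b := fun b hb =>
    PGroup.mul_comm_of_elementaryAbelian hA hyA (hBA hb)
  have hu1B : ∀ b ∈ B, Commute b (y * u0 * y⁻¹) := fun b hb =>
    commute_conj_right (hcyB b hb) (hu0B b hb)
  have huB : ∀ b ∈ B, Commute b u := fun b hb =>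
    ((hu0B b hb).inv_right).mul_right (hu1B b hb)
  have hvB : ∀ b ∈ B, Commute b v := fun b hb => commute_conj_right (hcyB b hb) (huB b hb)
  have hv' : v = (y * u0 * y⁻¹)⁻¹ * (y * (y * u0 * y⁻¹) * y⁻¹) := by rw [hv, hu]; group
  set u' := t * u * t⁻¹ with hu'
  set v' := t * v * t⁻¹ with hv''
  have hu'C : u' ∈ C := conj_mem htC huC
  have hv'C : v' ∈ C := conj_mem htC hvC
  have hkey : ∀ w ∈ C, (∀ b ∈ B, Commute b w) → ∀ x0 ∈ C, (∀ b ∈ B, Commute b x0) →
      Commute w (t * (x0⁻¹ * (y * x0 * y⁻¹)) * t⁻¹) := by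
    intro w hw hwB x0 hx0 hx0B
    have hγx : γ * (t * x0 * t⁻¹) * γ⁻¹ = t * x0 * t⁻¹ :=
      commute_iff_conj.1 (commute_conj_iff.2 (hx0B β hβ)).inv_left
    have h1 : t * (x0⁻¹ * (y * x0 * y⁻¹)) * t⁻¹ =
        (t * x0 * t⁻¹)⁻¹ * (β * (t * x0 * t⁻¹) * β⁻¹) := by
      calc t * (x0⁻¹ * (y * x0 * y⁻¹)) * t⁻¹
          = (t * x0 * t⁻¹)⁻¹ * ((t * y * t⁻¹) * (t * x0 * t⁻¹) * (t * y * t⁻¹)⁻¹) := by group
        _ = (t * x0 * t⁻¹)⁻¹ * ((β * γ) * (t * x0 * t⁻¹) * (β * γ)⁻¹) := by rw [hinv, hβeq]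
        _ = (t * x0 * t⁻¹)⁻¹ * (β * (γ * (t * x0 * t⁻¹) * γ⁻¹) * β⁻¹) := by group
        _ = _ := by rw [hγx]
    rw [h1]
    exact hC.commute_tr hsA hw (conj_mem htC hx0) (hBA hβ) (hwB β hβ)
  have cuu : Commute u u' := hkey u huC huB u0 hu0 hu0B
  have cvu : Commute v u' := hkey v hvC hvB u0 hu0 hu0B
  have cuv : Commute u v' := by
    rw [hv'', hv']
    exact hkey u huC huB _ (hC.conj_mem_C hsA hyA hu0) hu1B
  have cvv : Commute v v' := by
    have e := hkey v hvC hvB _ (hC.conj_mem_C hsA hyA hu0) hu1B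
    rwa [← hv'] at e
  have htd : ∀ d, d = 1 ∨ d = s → t * d * t⁻¹ = d := by
    rintro d (rfl | rfl)
    · group
    · exact commute_iff_conj.1 hts
  have hu'u' : u' * u' = u * u := by
    calc u' * u' = t * (u * u) * t⁻¹ := by rw [hu']; group
      _ = u * u := htd _ huu
  have hv'v' : v' * v' = v * v := by
    calc v' * v' = t * (v * v) * t⁻¹ := by rw [hv'']; group
      _ = v * v := htd _ (by rw [hvv]; exact huu)
  obtain ⟨d, hd, huv⟩ := hC.comm u huC v hvC
  have hu'v' : u' * v' = d * (v' * u') := by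
    calc u' * v' = t * (u * v) * t⁻¹ := by rw [hu', hv'']; group
      _ = (t * d * t⁻¹) * (v' * u') := by rw [huv, hu', hv'']; group
      _ = _ := by rw [htd d hd]
  set g := u * u' with hg
  set k := v * v' with hk
  have hgg : g * g = 1 := sq_mul_eq_one hss huu hu'u' cuu
  have hkk : k * k = 1 := sq_mul_eq_one hss (by rw [hvv]; exact huu) hv'v' cvv
  have hdd : d * d = 1 := by rcases hd with rfl | rfl <;> simp [hss]
  have hgk : Commute g k := commute_prod cvu.symm cuv.symm huv hu'v' hdd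
    (hC.central_of_or hd (mul_mem hvC huC))
  have hnot : ∀ w w', ¬ Commute y w → (∀ b ∈ B, Commute b w) →
      (∀ b ∈ B, Commute (t * b * t⁻¹) w') → w * w' ∉ zpowers s := by
    intro w w' hyw hwB hw'B hm
    refine hyw (hcomb w hwB fun b hb => ?_)
    have hsb : Commute (t * b * t⁻¹) (w * w') := by
      refine (commute_zpowers ?_ _ hm).symm
      exact (((hts.mul_left (hsA b (hBA hb)).symm).mul_left hts.inv_left)).symm
    simpa using hsb.mul_right (hw'B b hb).inv_right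
  have hu'B : ∀ b ∈ B, Commute (t * b * t⁻¹) u' := fun b hb => commute_conj_iff.2 (huB b hb)
  have hv'B : ∀ b ∈ B, Commute (t * b * t⁻¹) v' := fun b hb => commute_conj_iff.2 (hvB b hb)
  have hgkeq : g * k = (u * v) * (u' * v') := by
    calc g * k = u * (u' * v) * v' := by rw [hg, hk]; group
      _ = _ := by rw [cvu.symm.eq]; group
  obtain ⟨hE8, hE8c⟩ := exists_eight hs hgg hkk
    (hC.central_of_or (Or.inr rfl) (mul_mem huC hu'C))
    (hC.central_of_or (Or.inr rfl) (mul_mem hvC hv'C)) hgk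
    (hnot u u' hyu huB hu'B) (hnot v v' hyv hvB hv'B)
    (by
      rw [hgkeq]
      exact hnot _ _ hyuv (fun b hb => (huB b hb).mul_right (hvB b hb))
        fun b hb => (hu'B b hb).mul_right (hv'B b hb))
  set E8 := zpowers s ⊔ zpowers g ⊔ zpowers k with hE8def
  have hE8C : E8 ≤ C := sup_le (sup_le (zpowers_le.2 hC.mem) (zpowers_le.2 (mul_mem huC hu'C)))
    (zpowers_le.2 (mul_mem hvC hv'C))
  have htu : t * u' * t⁻¹ = u := by
    calc t * u' * t⁻¹ = (t * t) * u * (t * t)⁻¹ := by rw [hu']; group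
      _ = u := by rw [htt]; group
  have htv : t * v' * t⁻¹ = v := by
    calc t * v' * t⁻¹ = (t * t) * v * (t * t)⁻¹ := by rw [hv'']; group
      _ = v := by rw [htt]; group
  have hgt : Commute g t := by
    refine (commute_iff_conj.2 ?_).symm
    calc t * g * t⁻¹ = (t * u * t⁻¹) * (t * u' * t⁻¹) := by rw [hg]; group
      _ = g := by rw [htu, ← hu', ← cuu.eq]
  have hkt : Commute k t := by
    refine (commute_iff_conj.2 ?_).symm
    calc t * k * t⁻¹ = (t * v * t⁻¹) * (t * v' * t⁻¹) := by rw [hk]; group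
      _ = k := by rw [htv, ← hv'', ← cvv.eq]
  have hE8t : ∀ e ∈ E8, Commute e t :=
    commute_sup_zpowers (commute_sup_zpowers (commute_zpowers hts.symm) hgt) hkt
  have ht8 : t ∉ E8 := by
    intro hm
    have h1 : t * (y * t⁻¹ * y⁻¹) ∈ C :=
      mul_mem (hE8C hm) (hC.conj_mem_C hsA hyA (inv_mem (hE8C hm)))
    have h2 : t * (y * t⁻¹ * y⁻¹) ∈ zpowers y := by
      rw [show t * (y * t⁻¹ * y⁻¹) = (t * y * t⁻¹) * y⁻¹ by group, hinv]
      exact mul_mem (inv_mem (mem_zpowers y)) (inv_mem (mem_zpowers y))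
    have h3 := eq_one_of_mem_both h.odd
      (PGroup.isPGroup_of_elementaryAbelian (isEA_zpowers hyp)) hC.isTwo h2 h1
    rw [show t * (y * t⁻¹ * y⁻¹) = (t * y * t⁻¹) * y⁻¹ by group, mul_inv_eq_one] at h3
    exact hy1 (eq_one_of_commute_inverted h hyp (h3.symm.trans hinv))
  have hE16 := card_sup_zpowers_of_commute (q := 2) hE8t ht8 (hE.2 t htE)
  have hX0 := card_le_inf_mul hBA (le_sup_left : X ≤ A) hAc
  have hXpow : N ≤ Nat.card ↥(B ⊓ X) * p ^ 2 := by
    rw [← hAN, hBc, pow_two, ← mul_assoc]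
    exact Nat.mul_le_mul_right p hX0
  have hX01 : B ⊓ X ≠ ⊥ := fun h1 => by
    rw [h1, card_bot, one_mul] at hXpow
    exact absurd (h.big.trans hXpow) (not_le.2 (Nat.pow_lt_pow_right hp.out.one_lt (by norm_num)))
  have hfin := bound h 3 (X := B ⊓ X) (E := E8 ⊔ zpowers t)
    (PGroup.isElementaryAbelian_mono hX inf_le_right) hX01
    (isEA_sup_zpowers hE8 hE8t (hE.2 t htE)) (by rw [hE16, hE8c]; norm_num)
    (fun x hx e he => by
      have hxt : Commute t x := (hc x hx.2 t htE).symm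
      have hxu : ∀ w, (∀ b ∈ B, Commute b w) → Commute (t * w * t⁻¹) x := fun w hw =>
        (commute_conj_right hxt.symm.symm (hw x hx.1)).symm
      refine (commute_sup_zpowers (commute_sup_zpowers
        (commute_sup_zpowers (commute_zpowers (hsA x (mem_sup_left hx.2))) ?_) ?_) hxt e he).symm
      · exact (huB x hx.1).symm.mul_left (hxu u huB)
      · exact (hvB x hx.1).symm.mul_left (hxu v hvB))
  have hpos : 0 < Nat.card ↥(B ⊓ X) := Nat.card_pos
  have := Nat.le_of_mul_le_mul_left (hfin.trans hXpow) hpos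
  exact absurd this (not_le.2 (Nat.pow_lt_pow_right hp.out.one_lt (by norm_num)))

theorem main (h : Hyp G p N) {A : Subgroup G} (hA : IsElementaryAbelian p A)
    (hAN : Nat.card A = N) {z : G} (hz : orderOf z = 2) (hzA : ∀ a ∈ A, Commute z a) : False := by
  have : Fact (Nat.Prime 2) := ⟨Nat.prime_two⟩
  have hzz : z * z = 1 := by rw [← pow_two, ← hz, pow_orderOf_eq_one]
  obtain ⟨C, hC⟩ := exists_cfg h hA hAN hz hzA
  have hAC : A ≤ normalizer (C : Set G) := fun a ha =>
    hC.norm (mem_centralizer_singleton_iff.2 (hzA a ha).symm)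
  have hmove : ∀ a ∈ A, a ≠ 1 → ∃ c ∈ C, ¬ Commute a c := by
    intro a ha ha1
    by_contra hne
    push Not at hne
    exact ha1 (hC.faith a ha hne)
  have hcm : ∀ a ∈ A, ∀ b ∈ A, Commute a b := fun a ha b hb =>
    PGroup.mul_comm_of_elementaryAbelian hA ha hb
  have hbad : ∀ B ≤ A, Nat.card A = Nat.card B * p → ∀ w ∈ C, (∀ b ∈ B, Commute b w) →
      w * w = 1 → w ∈ zpowers z := by
    intro B hBA hBc w hw hwB hww
    by_contra hwz
    obtain ⟨hE, hEc⟩ := exists_four hz hww hwz (hC.central_of_or (Or.inr rfl) hw)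
    exact no_four h (PGroup.isElementaryAbelian_mono hA hBA) (by rw [← hAN, hBc]) hE hEc.ge
      fun b hb e he => (commute_sup_zpowers (commute_zpowers (hzA b (hBA hb))) (hwB b hb).symm e he).symm
  have hA1 : A ≠ ⊥ := fun h1 => by
    rw [h1, card_bot] at hAN
    have := hAN ▸ h.big
    exact absurd this (not_le.2 (Nat.one_lt_pow (by norm_num) hp.out.one_lt))
  obtain ⟨⟨y, hy⟩, hy1⟩ := ne_bot_iff_exists_ne_one.1 hA1
  obtain ⟨B, hBA, -, -, hBc, u0, hu0, hu0B, hu0y⟩ := exists_hyperplane hA hAC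
    (h.card_coprime hA hC.isTwo) hy (hmove y hy fun h1 => hy1 (Subtype.ext h1))
  have hB1 : B ≠ ⊥ := fun h1 => by
    rw [h1, card_bot, one_mul, hAN] at hBc
    exact absurd (h.big.trans hBc.le) (not_le.2 (lt_self_pow₀ hp.out.one_lt (by norm_num)))
  obtain ⟨⟨y', hy'⟩, hy'1⟩ := ne_bot_iff_exists_ne_one.1 hB1
  obtain ⟨B', hB'A, -, hB'sup, hB'c, u0', hu0', hu0B', hu0y'⟩ := exists_hyperplane hA hAC
    (h.card_coprime hA hC.isTwo) (hBA hy') (hmove y' (hBA hy') fun h1 => hy'1 (Subtype.ext h1))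
  set u := u0⁻¹ * (y * u0 * y⁻¹) with hu
  set v := y * u * y⁻¹ with hv
  set u' := u0'⁻¹ * (y' * u0' * y'⁻¹) with hu'
  set v' := y' * u' * y'⁻¹ with hv'
  obtain ⟨huC, hvC, hyu, hyv, hyuv, huu, hvv⟩ := hC.moved h hA hzA hy hu0 hu0y hu hv
  obtain ⟨hu'C, hv'C, hyu', hyv', hyuv', hu'u', hv'v'⟩ :=
    hC.moved h hA hzA (hBA hy') hu0' hu0y' hu' hv'
  have huB : ∀ b ∈ B, Commute b u := fun b hb => (hu0B b hb).inv_right.mul_right
    (commute_conj_right (hcm y hy b (hBA hb)) (hu0B b hb))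
  have hvB : ∀ b ∈ B, Commute b v := fun b hb => commute_conj_right (hcm y hy b (hBA hb)) (huB b hb)
  have hu'B : ∀ b ∈ B', Commute b u' := fun b hb => (hu0B' b hb).inv_right.mul_right
    (commute_conj_right (hcm y' (hBA hy') b (hB'A hb)) (hu0B' b hb))
  have hv'B : ∀ b ∈ B', Commute b v' := fun b hb =>
    commute_conj_right (hcm y' (hBA hy') b (hB'A hb)) (hu'B b hb)
  have hsq : ∀ (B : Subgroup G), B ≤ A → Nat.card A = Nat.card B * p → ∀ a ∈ A, ∀ w ∈ C,
      (∀ b ∈ B, Commute b w) → ¬ Commute a w → (w * w = 1 ∨ w * w = z) → w * w = z := by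
    intro B hBA hBc a ha w hw hwB haw hww
    refine hww.resolve_left fun h1 => haw ?_
    exact hC.fixed_of_or hzA (eq_or_of_mem_zpowers hzz (hbad B hBA hBc w hw hwB h1)) ha
  have huz := hsq B hBA hBc y hy u huC huB hyu huu
  have hu'z := hsq B' hB'A hB'c y' (hBA hy') u' hu'C hu'B hyu' hu'u'
  have hd : ∀ (B : Subgroup G), B ≤ A → Nat.card A = Nat.card B * p → ∀ a ∈ A, ∀ u ∈ C, ∀ v ∈ C,
      (∀ b ∈ B, Commute b u) → (∀ b ∈ B, Commute b v) → ¬ Commute a (u * v) →
      u * u = z → v * v = z → u * v = z * (v * u) := by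
    intro B hBA hBc a ha u hu v hv huB hvB hauv huu hvv
    obtain ⟨d, hd, he⟩ := hC.comm u hu v hv
    rcases hd with rfl | rfl
    · exfalso
      rw [one_mul] at he
      have h1 : (u * v) * (u * v) = 1 := sq_mul_eq_one hzz (Or.inr huu) (hvv.trans huu.symm) he
      exact hauv (hC.fixed_of_or hzA (eq_or_of_mem_zpowers hzz
        (hbad B hBA hBc _ (mul_mem hu hv) (fun b hb => (huB b hb).mul_right (hvB b hb)) h1)) ha)
    · exact he
  have huv := hd B hBA hBc y hy u huC v hvC huB hvB hyuv huz (hvv.trans huz)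
  have hu'v' := hd B' hB'A hB'c y' (hBA hy') u' hu'C v' hv'C hu'B hv'B hyuv' hu'z
    (hv'v'.trans hu'z)
  have hv'eq : v' = (y' * u0' * y'⁻¹)⁻¹ * (y' * (y' * u0' * y'⁻¹) * y'⁻¹) := by
    rw [hv', hu']; group
  have cuu : Commute u u' := hC.commute_tr hzA huC hu0' (hBA hy') (huB y' hy')
  have cvu : Commute v u' := hC.commute_tr hzA hvC hu0' (hBA hy') (hvB y' hy')
  have cuv : Commute u v' := by
    rw [hv'eq]
    exact hC.commute_tr hzA huC (hC.conj_mem_C hzA (hBA hy') hu0') (hBA hy') (huB y' hy')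
  have cvv : Commute v v' := by
    rw [hv'eq]
    exact hC.commute_tr hzA hvC (hC.conj_mem_C hzA (hBA hy') hu0') (hBA hy') (hvB y' hy')
  set g := u * u' with hg
  set k := v * v' with hk
  have hgg : g * g = 1 := sq_mul_eq_one hzz (Or.inr huz) (hu'z.trans huz.symm) cuu
  have hkk : k * k = 1 := sq_mul_eq_one hzz (Or.inr (hvv.trans huz))
    ((hv'v'.trans hu'z).trans (hvv.trans huz).symm) cvv
  have hgk : Commute g k := commute_prod cvu.symm cuv.symm huv hu'v' hzz
    (hC.central_of_or (Or.inr rfl) (mul_mem hvC huC))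
  have hnot : ∀ w w', ¬ Commute y w → (∀ b ∈ B, Commute b w) → (∀ b ∈ B', Commute b w') →
      w * w' ∉ zpowers z := by
    intro w w' hyw hwB hw'B hm
    refine hyw ?_
    refine commute_sup_zpowers (H := B') (x := y') (fun b hb => ?_) (hwB y' hy') y (by
      rw [hB'sup]; exact hy)
    have hzb : Commute b (w * w') := (commute_zpowers (hzA b (hB'A hb)) _ hm).symm
    simpa using hzb.mul_right (hw'B b hb).inv_right
  have hgkeq : g * k = (u * v) * (u' * v') := by
    calc g * k = u * (u' * v) * v' := by rw [hg, hk]; group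
      _ = _ := by rw [cvu.symm.eq]; group
  obtain ⟨hE8, hE8c⟩ := exists_eight hz hgg hkk
    (hC.central_of_or (Or.inr rfl) (mul_mem huC hu'C))
    (hC.central_of_or (Or.inr rfl) (mul_mem hvC hv'C)) hgk
    (hnot u u' hyu huB hu'B) (hnot v v' hyv hvB hv'B)
    (by
      rw [hgkeq]
      exact hnot _ _ hyuv (fun b hb => (huB b hb).mul_right (hvB b hb))
        fun b hb => (hu'B b hb).mul_right (hv'B b hb))
  have hX0 := card_le_inf_mul hBA hB'A hB'c
  have hXpow : N ≤ Nat.card ↥(B ⊓ B') * p ^ 2 := by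
    rw [← hAN, hBc, pow_two, ← mul_assoc]
    exact Nat.mul_le_mul_right p hX0
  have hX01 : B ⊓ B' ≠ ⊥ := fun h1 => by
    rw [h1, card_bot, one_mul] at hXpow
    exact absurd (h.big.trans hXpow) (not_le.2 (Nat.pow_lt_pow_right hp.out.one_lt (by norm_num)))
  have hX0E := PGroup.isElementaryAbelian_mono hA ((inf_le_left : B ⊓ B' ≤ B).trans hBA)
  have hcE : ∀ x ∈ B ⊓ B', ∀ e ∈ zpowers z ⊔ zpowers g ⊔ zpowers k, Commute x e := fun x hx e he =>
    (commute_sup_zpowers (commute_sup_zpowers (commute_zpowers (hzA x (hBA hx.1)))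
      ((huB x hx.1).mul_right (hu'B x hx.2)).symm)
      ((hvB x hx.1).mul_right (hv'B x hx.2)).symm e he).symm
  obtain ⟨E0, hE0, t, -, w, hcard, -, hwX, -, hwp, hwc, hwe, -⟩ :=
    grow h hX0E hX01 hE8 (fun h1 => by rw [h1, card_bot] at hE8c; omega) hcE
  refine no_four h (isEA_sup_zpowers hX0E hwc hwp) ?_ (PGroup.isElementaryAbelian_mono hE8 hE0)
    (by rw [hE8c] at hcard; omega)
    fun x hx e he => commute_sup_zpowers (fun x hx => hcE x hx e (hE0 he)) (hwe e he).symm x hx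
  rw [card_sup_zpowers_of_commute hwc hwX hwp, mul_assoc, ← pow_two]
  exact hXpow

/-- Let p be an odd prime and G a finite group that is both of local characteristic p (p divides its order and every p-local subgroup N satisfies C_N(O_p(N)) ≤ O_p(N)) and of characteristic 2 type (even order and every 2-local subgroup M satisfies C_M(O_2(M)) ≤ O_2(M)). Then every 2-local subgroup of G has p-rank at most 2. -/
theorem result {G : Type*} [Group G] [Finite G] (p : ℕ) [Fact p.Prime] (hp : p ≠ 2) (hGp : Cfsg.IsOfLocalCharacteristic p G) (hG2 : Cfsg.IsCharacteristicTwoType G) : Cfsg.TwoLocalPRankLE p 2 G := by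
  have : Fact (Nat.Prime 2) := ⟨Nat.prime_two⟩
  intro M hM A0 hA0c hA0e
  by_contra hlt
  rw [not_le] at hlt
  let 𝒮 : Set (Subgroup G) :=
    {A | IsElementaryAbelian p A ∧ ∃ M : Subgroup G, IsTwoLocal M ∧ A ≤ M}
  have h0 : A0.map M.subtype ∈ 𝒮 :=
    ⟨PGroup.isElementaryAbelian_map ⟨hA0c, hA0e⟩ _, M, hM, map_subtype_le _⟩
  obtain ⟨A, hAmem, hAmax⟩ := Set.exists_max_image 𝒮 (fun A => Nat.card A) (Set.toFinite _) ⟨_, h0⟩
  obtain ⟨hA, M', ⟨T, hT, hT1, rfl⟩, hAT⟩ := hAmem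
  have hbig : p ^ 3 ≤ Nat.card A := by
    have h1 : Nat.card ↥(A0.map M.subtype) = Nat.card A0 :=
      Nat.card_congr (A0.equivMapOfInjective _ M.subtype_injective).toEquiv.symm
    obtain ⟨n, hn⟩ := (PGroup.isPGroup_of_elementaryAbelian (p := p) ⟨hA0c, hA0e⟩).exists_card_eq
    refine le_trans ?_ (h1 ▸ hAmax _ h0)
    rw [hn] at hlt ⊢
    exact Nat.pow_le_pow_right (Fact.out : p.Prime).pos
      ((Nat.pow_lt_pow_iff_right (Fact.out : p.Prime).one_lt).1 hlt)
  have h : Hyp G p (Nat.card A) := by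
    refine ⟨hp, fun X hX hX1 => ?_, fun s hs => ?_, fun A' hA' hs' => ?_, hbig⟩
    · exact LocalChar.cp_centralizer_of_le (hGp.2 X hX hX1) hX le_normalizer
        (centralizer_le_normalizer _)
    · have hsp : IsPGroup 2 ↥(zpowers s) :=
        IsPGroup.of_card (n := 1) (by rw [Nat.card_zpowers, hs, pow_one])
      have hs1 : zpowers s ≠ ⊥ := by
        rw [Ne, zpowers_eq_bot]; rintro rfl; simp at hs
      have := LocalChar.cp_centralizer_of_le (hG2.2 (zpowers s) hsp hs1) hsp le_normalizer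
        (centralizer_le_normalizer _)
      have heq : centralizer ((zpowers s : Subgroup G) : Set G) = centralizer ({s} : Set G) := by
        refine le_antisymm (centralizer_le (by simp)) fun g hg => mem_centralizer_iff.2 fun x hx => ?_
        exact commute_zpowers (mem_centralizer_singleton_iff.1 hg).symm x hx
      rwa [heq] at this
    · obtain ⟨s, hs, hsA⟩ := hs'
      refine hAmax A' ⟨hA', _, ⟨zpowers s, IsPGroup.of_card (n := 1)
        (by rw [Nat.card_zpowers, hs, pow_one]), ?_, rfl⟩, fun a ha =>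
          centralizer_le_normalizer _ (mem_centralizer_iff.2 fun x hx =>
            commute_zpowers (hsA a ha) x hx)⟩
      rw [Ne, zpowers_eq_bot]; rintro rfl; simp at hs
  set L := normalizer (T : Set G)
  set Q := (pCore 2 ↥L).map L.subtype
  have hQp : IsPGroup 2 ↥Q := (Components.isPGroup_pCore' (G := ↥L) 2).map _
  have hTQ : T ≤ Q := fun x hx =>
    ⟨⟨x, le_normalizer hx⟩, LocalChar.mem_pCore_subgroup hT le_rfl _ hx, rfl⟩
  have hAQ : A ≤ normalizer (Q : Set G) := hAT.trans (le_normalizer_pCore_map 2 L)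
  set V := Q ⊓ centralizer (Q : Set G)
  have hVc : IsMulCommutative ↥V :=
    PGroup.isMulCommutative_of_forall fun a ha b hb => mem_centralizer_iff.1 hb.2 a ha.1
  have : Nontrivial ↥Q := (nontrivial_iff_ne_bot Q).2 fun h1 => hT1 (le_bot_iff.1 (h1 ▸ hTQ))
  obtain ⟨c, hc⟩ := exists_prime_orderOf_dvd_card' (G := ↥(center ↥Q)) 2 (by
    have := hQp.center_nontrivial
    obtain ⟨n, hn⟩ := (hQp.to_subgroup (center ↥Q)).exists_card_eq
    rcases n with - | n
    · exact absurd hn (by simpa using (Finite.one_lt_card (α := ↥(center ↥Q))).ne')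
    · exact hn ▸ dvd_pow_self 2 n.succ_ne_zero)
  set z : G := ((c : ↥Q) : G)
  have hz : orderOf z = 2 := by rw [Subgroup.orderOf_coe, Subgroup.orderOf_coe, hc]
  have hzV : z ∈ V := ⟨(c : ↥Q).2, mem_centralizer_iff.2 fun q hq =>
    congrArg Subtype.val (mem_center_iff.1 c.2 ⟨q, hq⟩)⟩
  by_cases hzA : ∀ a ∈ A, Commute z a
  · exact main h hA rfl hz hzA
  · push Not at hzA
    obtain ⟨a0, ha0, ha0z⟩ := hzA
    have hAV : A ≤ normalizer (V : Set G) :=
      Coprime.le_normalizer_inf_of_le hAQ (Coprime.le_normalizer_centralizer hAQ)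
    obtain ⟨B, hBA, hBc, a, ha, w, hw, hwB, hwo, hwa⟩ := exists_moved_involution h hA hAV hVc
      (hQp.to_le inf_le_left) ⟨a0, ha0, z, hzV, fun h1 => ha0z h1.symm⟩
    have hww : w * w = 1 := by rw [← pow_two, ← hwo, pow_orderOf_eq_one]
    have hw' : a * w * a⁻¹ ∈ V := conj_mem (hAV ha) hw
    have hwne : a * w * a⁻¹ ∉ zpowers w := fun hm => by
      rcases eq_or_of_mem_zpowers hww hm with h1 | h1
      · have : w = 1 := by
          calc w = a⁻¹ * (a * w * a⁻¹) * a := by group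
            _ = 1 := by rw [h1]; group
        rw [this, orderOf_one] at hwo
        exact absurd hwo (by norm_num)
      · exact hwa (commute_iff_conj.2 h1)
    obtain ⟨hE, hEc⟩ := exists_four hwo (w := a * w * a⁻¹)
      (by calc a * w * a⁻¹ * (a * w * a⁻¹) = a * (w * w) * a⁻¹ := by group
            _ = 1 := by rw [hww]; group)
      hwne (PGroup.mul_comm_of_isMulCommutative hVc hw hw')
    refine no_four h (PGroup.isElementaryAbelian_mono hA hBA) (le_of_eq hBc) hE hEc.ge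
      fun b hb e he => (commute_sup_zpowers (commute_zpowers (hwB b hb).symm) ?_ e he).symm
    exact (commute_conj_right
      (show Commute a b from PGroup.mul_comm_of_elementaryAbelian hA ha (hBA hb)) (hwB b hb)).symm

end Cfsg.Agent.S2029
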