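import Cfsg.Statements.S2035
import Cfsg.Agent.S2034
import Cfsg.Agent.S2038
import Cfsg.Agent.Lib.Mathieu.M12Data
import Cfsg.Agent.Lib.Mathieu.CoverCert
import Cfsg.Agent.Lib.Mathieu.OuterAut
import Cfsg.Agent.Lib.Mathieu.Simple

/-!
The Schur multiplier of M₁₂ has order 2.

Upper bound: M₁₁ has trivial multiplier and the two-point stabiliser `M₁₀` has derived subgroup of
index 2, so the kernel of a stem extension is generated by the one discrepancy of a lift.
Cover: a group of permutations of 24 signed points over the dodecad.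
-/

set_option autoImplicit false
set_option maxRecDepth 20000
set_option maxHeartbeats 800000
open Cfsg

namespace Cfsg.Agent.S2035

open Cfsg.Agent.Mathieu Cfsg.Agent.Schur Cfsg.Agent.S2038
open scoped commutatorElement Pointwise

/-- The packed permutation lies in M₁₂. -/
def in12 (l : ℕ) : Bool := permOK 24 l && presCode l && mapsMask l dodMask dodMask

theorem mem12 {l : ℕ} (h : in12 l = true) :
    ∃ g : Spor.M12, Rep ptEnc (g : Equiv.Perm GolayPt) l := by
  simp only [in12, Bool.and_eq_true] at h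
  obtain ⟨σ, hr⟩ := exists_rep (e := ptEnc) h.1.1
  refine ⟨⟨σ, mem_M12_iff.2 ⟨mem_M24_of_rep hr h.1.2, ?_⟩⟩, hr⟩
  rw [squareDodecad_eq, ← mapsMask_iff hr]; exact h.2

theorem mem_dod {i : ℕ} (hi : i < 24) (h : dodMask.testBit i = true) :
    idx ptEnc i ∈ Spor.squareDodecad := by
  rw [squareDodecad_eq, mem_ptsOf, hasPt, idx_val hi]; exact h

/-- The point `0` of the dodecad. -/
def o0 : omega12 := ⟨idx ptEnc 0, mem_dod (by norm_num) (by decide +kernel)⟩

/-- The point `1` of the dodecad. -/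
def o1 : omega12 := ⟨idx ptEnc 1, mem_dod (by norm_num) (by decide +kernel)⟩

theorem o0_val : (o0 : GolayPt) = idx ptEnc 0 := rfl
theorem o1_val : (o1 : GolayPt) = idx ptEnc 1 := rfl

theorem fix_o0 {g : Spor.M12} {l : ℕ} (hr : Rep ptEnc (g : Equiv.Perm GolayPt) l)
    (h : app l 0 = 0) : g • o0 = o0 :=
  Subtype.ext ((hr.apply_idx (show 0 < 24 by norm_num)).trans (by rw [h]; rfl))

theorem fix_o1 {g : Spor.M12} {l : ℕ} (hr : Rep ptEnc (g : Equiv.Perm GolayPt) l)
    (h : app l 1 = 1) : g • o1 = o1 :=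
  Subtype.ext ((hr.apply_idx (show 1 < 24 by norm_num)).trans (by rw [h]; rfl))

theorem to_o1 {g : Spor.M12} {l : ℕ} (hr : Rep ptEnc (g : Equiv.Perm GolayPt) l)
    (h : app l 0 = 1) : g • o0 = o1 :=
  Subtype.ext ((hr.apply_idx (show 0 < 24 by norm_num)).trans (by rw [h]; rfl))

theorem ne_o : o1 ≠ o0 := fun h => by
  have := congrArg (fun q : omega12 => (ptEnc (q : GolayPt)).val) h
  simp only [o0_val, o1_val, idx_val (show 0 < 24 by norm_num),
    idx_val (show 1 < 24 by norm_num)] at this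
  exact one_ne_zero this

theorem stab_transitive : StabTransitive Spor.M12 o0 := by
  refine ⟨fun x y hx hy => ?_, fun x y z hx hy hyx hz hzx => ?_⟩
  · have hx' : (x : GolayPt) ≠ o0 := fun h => hx (Subtype.ext h)
    have hy' : (y : GolayPt) ≠ o0 := fun h => hy (Subtype.ext h)
    obtain ⟨k, hk, hk'⟩ := M12_exists_map (k := 2) (by norm_num)
      (pairEmb hx'.symm) (pairEmb hy'.symm)
      (Fin.forall_fin_two.2 ⟨o0.2, x.2⟩) (Fin.forall_fin_two.2 ⟨o0.2, y.2⟩)
    exact ⟨⟨k, hk⟩, Subtype.ext (hk' 0), Subtype.ext (hk' 1)⟩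
  · have h1 : (x : GolayPt) ≠ o0 := fun h => hx (Subtype.ext h)
    have h2 : (y : GolayPt) ≠ o0 := fun h => hy (Subtype.ext h)
    have h3 : (y : GolayPt) ≠ x := fun h => hyx (Subtype.ext h)
    have h4 : (z : GolayPt) ≠ o0 := fun h => hz (Subtype.ext h)
    have h5 : (z : GolayPt) ≠ x := fun h => hzx (Subtype.ext h)
    obtain ⟨k, hk, hk'⟩ := M12_exists_map (k := 3) (by norm_num)
      ⟨![(o0 : GolayPt), x, y], by
        intro i j; fin_cases i <;> fin_cases j <;> simp [h1, h2, h3, h1.symm, h2.symm, h3.symm]⟩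
      ⟨![(o0 : GolayPt), x, z], by
        intro i j; fin_cases i <;> fin_cases j <;> simp [h1, h4, h5, h1.symm, h4.symm, h5.symm]⟩
      (by intro i; fin_cases i; exacts [o0.2, x.2, y.2])
      (by intro i; fin_cases i; exacts [o0.2, x.2, z.2])
    exact ⟨⟨k, hk⟩, Subtype.ext (hk' 0), Subtype.ext (hk' 1), Subtype.ext (hk' 2)⟩

/-- The stabiliser of `o0` is M₁₁. -/
def stabEquiv : MulAction.stabilizer Spor.M12 o0 ≃* Spor.M11 where
  toFun g := ⟨g.1.1, g.1.2, by
    show g.1.1 (some 0) = some 0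
    rw [← idx_zero]; exact congrArg Subtype.val g.2⟩
  invFun g := ⟨⟨g.1, g.2.1⟩, Subtype.ext (by
    show g.1 (idx ptEnc 0) = idx ptEnc 0
    rw [idx_zero]; exact g.2.2)⟩
  left_inv _ := rfl
  right_inv _ := rfl
  map_mul' _ _ := rfl

theorem mult_stab : Cfsg.HasCyclicSchurMultiplier (MulAction.stabilizer Spor.M12 o0) 1 :=
  mult_of_equiv stabEquiv Cfsg.Agent.S2034.result

theorem perfect_stab : _root_.commutator (MulAction.stabilizer Spor.M12 o0) = ⊤ := by
  have := isSimple_M11
  have := MulEquiv.isSimpleGroup stabEquiv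
  refine commutator_eq_top_of_simple ?_
  rw [Nat.card_congr stabEquiv.toEquiv, card_M11]; norm_num

abbrev L2 : Subgroup Spor.M12 :=
  MulAction.stabilizer Spor.M12 o0 ⊓ MulAction.stabilizer Spor.M12 o1

theorem mem_L2 {g : Spor.M12} {l : ℕ} (hr : Rep ptEnc (g : Equiv.Perm GolayPt) l)
    (h : (app l 0 == 0 && app l 1 == 1) = true) : g ∈ L2 := by
  rw [Bool.and_eq_true, beq_iff_eq, beq_iff_eq] at h
  exact ⟨fix_o0 hr h.1, fix_o1 hr h.2⟩

/-- `L2` is generated by `⁅v₁, w₁⁆`, `⁅v₂, w₂⁆` and `c`, and `c * c = ⁅v₃, w₃⁆`. -/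
theorem L2_data : ∃ v₁ w₁ v₂ w₂ v₃ w₃ c : L2, c * c = ⁅v₃, w₃⁆ ∧
    Subgroup.closure ({⁅v₁, w₁⁆, ⁅v₂, w₂⁆, c} : Set L2) = ⊤ := by
  have get : ∀ l : ℕ, (in12 l && (app l 0 == 0 && app l 1 == 1)) = true →
      ∃ g : L2, Rep ptEnc ((g : Spor.M12) : Equiv.Perm GolayPt) l := by
    intro l h
    rw [Bool.and_eq_true] at h
    obtain ⟨g, hg⟩ := mem12 h.1
    exact ⟨⟨g, mem_L2 hg h.2⟩, hg⟩
  obtain ⟨v₁, r1⟩ := get m12V1 (by decide +kernel)
  obtain ⟨w₁, s1⟩ := get m12W1 (by decide +kernel)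
  obtain ⟨v₂, r2⟩ := get m12V2 (by decide +kernel)
  obtain ⟨w₂, s2⟩ := get m12W2 (by decide +kernel)
  obtain ⟨v₃, r3⟩ := get m12V3 (by decide +kernel)
  obtain ⟨w₃, s3⟩ := get m12W3 (by decide +kernel)
  obtain ⟨c, rc⟩ := get m12C (by decide +kernel)
  refine ⟨v₁, w₁, v₂, w₂, v₃, w₃, c, ?_, ?_⟩
  · rw [commutatorElement_def, eq_mul_inv_iff_mul_eq, eq_mul_inv_iff_mul_eq]
    exact Subtype.ext (Subtype.ext (((rep_packMul (rep_packMul (rep_packMul rc rc) s3) r3).of_same
      (b := packMul 24 m12V3 m12W3) (by decide +kernel)).unique (rep_packMul r3 s3)))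
  set U := Subgroup.closure ({⁅v₁, w₁⁆, ⁅v₂, w₂⁆, c} : Set L2) with hU
  let ι : L2 →* Equiv.Perm GolayPt := (Spor.M12.subtype).comp L2.subtype
  have hwords : ∀ t ∈ (m12Words.map fun p => p.1), ∃ x ∈ U, Rep ptEnc (ι x) t := by
    have hi120 : ∀ v : L2, ∀ a : ℕ, Rep ptEnc (ι v) a → isId 24 (packPow 24 a 120) = true →
        Rep ptEnc (ι v⁻¹) (packPow 24 a 119) := by
      intro v a ha h120
      have h1 : ι v ^ 120 = 1 := (rep_packPow (by norm_num) ha 120).eq_one h120
      rw [map_inv, inv_eq_of_mul_eq_one_right (b := ι v ^ 119) (by rw [← pow_succ']; exact h1)]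
      exact rep_packPow (by norm_num) ha 119
    let g1 := packMul 24 (packMul 24 (packMul 24 m12V1 m12W1) (packPow 24 m12V1 119))
      (packPow 24 m12W1 119)
    let g2 := packMul 24 (packMul 24 (packMul 24 m12V2 m12W2) (packPow 24 m12V2 119))
      (packPow 24 m12W2 119)
    have hg1 : Rep ptEnc (ι ⁅v₁, w₁⁆) g1 := by
      rw [commutatorElement_def, map_mul, map_mul, map_mul]
      exact rep_packMul (rep_packMul (rep_packMul r1 s1) (hi120 v₁ _ r1 (by decide +kernel)))
        (hi120 w₁ _ s1 (by decide +kernel))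
    have hg2 : Rep ptEnc (ι ⁅v₂, w₂⁆) g2 := by
      rw [commutatorElement_def, map_mul, map_mul, map_mul]
      exact rep_packMul (rep_packMul (rep_packMul r2 s2) (hi120 v₂ _ r2 (by decide +kernel)))
        (hi120 w₂ _ s2 (by decide +kernel))
    have hc : (m12Words.all fun p => samePack 24 (p.2.foldr (fun i acc => packMulS 24
        ([g1, g2, m12C].getD i m12C) acc) (packId 24)) p.1) = true := by decide +kernel
    intro t ht
    obtain ⟨p, hp, rfl⟩ := List.mem_map.1 ht
    have hfold : ∀ w : List ℕ, ∃ x ∈ U, Rep ptEnc (ι x)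
        (w.foldr (fun i acc => packMulS 24 ([g1, g2, m12C].getD i m12C) acc) (packId 24)) := by
      intro w
      induction w with
      | nil => exact ⟨1, one_mem U, by rw [map_one]; exact rep_packId (by norm_num)⟩
      | cons i w ihw =>
        obtain ⟨x, hx, hxr⟩ := ihw
        have hy : ∃ y ∈ U, Rep ptEnc (ι y) ([g1, g2, m12C].getD i m12C) := by
          rcases i with _ | _ | _ | i
          · exact ⟨_, Subgroup.subset_closure (by simp), hg1⟩
          · exact ⟨_, Subgroup.subset_closure (by simp), hg2⟩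
          · exact ⟨c, Subgroup.subset_closure (by simp), rc⟩
          · exact ⟨c, Subgroup.subset_closure (by simp), rc⟩
        obtain ⟨y, hy, hyr⟩ := hy
        exact ⟨y * x, mul_mem hy hx, by
          rw [List.foldr_cons, packMulS_eq, map_mul]; exact rep_packMul hyr hxr⟩
    obtain ⟨x, hx, hxr⟩ := hfold p.2
    exact ⟨x, hx, hxr.of_same (List.all_eq_true.1 hc p hp)⟩
  rw [eq_top_iff]
  intro g _
  -- sift `g` below the first two base points
  set H := U.map ι with hH
  have hreps : ∀ t ∈ allReps (levels12.drop 2), ∃ σ ∈ H, Rep ptEnc σ t := by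
    intro t ht
    have hsub : ((allReps (levels12.drop 2)).all fun t => (m12Words.map fun p => p.1).contains t) =
        true := by decide +kernel
    obtain ⟨x, hx, hxr⟩ := hwords t (List.contains_iff_mem.1 (List.all_eq_true.1 hsub t ht))
    exact ⟨ι x, Subgroup.mem_map_of_mem ι hx, hxr⟩
  set K := fixList Spor.M12 [idx ptEnc 0, idx ptEnc 1] with hK
  have hbot0 := stab12.bot
  have hup0 := stab12.upper
  have hsplit : levels12.map (fun p => idx ptEnc p.1) =
      [idx ptEnc 0, idx ptEnc 1] ++ (levels12.drop 2).map (fun p => idx ptEnc p.1) := rfl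
  have hlev : levels12 = levels12.take 2 ++ levels12.drop 2 := (List.take_append_drop _ _).symm
  rw [hlev, upper_append] at hup0
  have hbot : fixList K ((levels12.drop 2).map fun p => idx ptEnc p.1) = ⊥ := by
    rw [eq_bot_iff]
    intro σ hσ
    rw [mem_fixList, hK, mem_fixList] at hσ
    rw [← hbot0, mem_fixList, hsplit]
    refine ⟨hσ.1.1, fun b hb => ?_⟩
    rcases List.mem_append.1 hb with hb | hb
    exacts [hσ.1.2 b hb, hσ.2 b hb]
  have hHK : H ≤ K := by
    rintro _ ⟨x, -, rfl⟩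
    refine mem_fixList.2 ⟨x.1.2, fun b hb => ?_⟩
    simp only [List.mem_cons, List.not_mem_nil, or_false] at hb
    rcases hb with rfl | rfl
    exacts [congrArg Subtype.val x.2.1, congrArg Subtype.val x.2.2]
  have hgK : ι g ∈ K := by
    refine mem_fixList.2 ⟨g.1.2, fun b hb => ?_⟩
    simp only [List.mem_cons, List.not_mem_nil, or_false] at hb
    rcases hb with rfl | rfl
    exacts [congrArg Subtype.val g.2.1, congrArg Subtype.val g.2.2]
  obtain ⟨r, hr, hrr⟩ := exists_mem_prodList_aux (H := K) (e := ptEnc) (by norm_num)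
    (levels12.drop 2) [] K (by simp) (fun σ hσ _ => hσ) (by decide +kernel)
    (fun t ht => let ⟨σ, hσ, h⟩ := hreps t ht; ⟨σ, hHK hσ, h⟩) hup0.2 hbot (ι g) hgK
  have hrH : ∀ (lv : List CertLevel), (∀ t ∈ allReps lv, ∃ σ ∈ H, Rep ptEnc σ t) →
      ∀ r ∈ prodList 24 lv, ∃ σ ∈ H, Rep ptEnc σ r := by
    intro lv
    induction lv with
    | nil =>
      intro _ r hr
      rw [prodList, List.mem_singleton] at hr
      exact ⟨1, one_mem H, hr ▸ rep_packId (by norm_num)⟩
    | cons p rest ih =>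
      intro hreps r hr
      rw [prodList, List.mem_flatMap] at hr
      obtain ⟨t, ht, hr⟩ := hr
      obtain ⟨r', hr', rfl⟩ := List.mem_map.1 hr
      obtain ⟨σ, hσ, hσr⟩ := hreps t (List.mem_flatMap.2 ⟨p, List.mem_cons_self, ht⟩)
      obtain ⟨τ, hτ, hτr⟩ := ih (fun t' ht' => hreps t' (by
        rw [allReps, List.flatMap_cons]; exact List.mem_append_right _ ht')) r' hr'
      exact ⟨σ * τ, mul_mem hσ hτ, rep_packMul hσr hτr⟩
  obtain ⟨σ, hσ, hσr⟩ := hrH _ hreps r hr
  obtain ⟨x, hx, rfl⟩ := hσ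
  have : ι x = ι g := hσr.unique hrr
  rwa [← Subtype.ext (Subtype.ext this) ]

/-- The kernel of a stem extension has order at most 2. -/
theorem upper_bound {Γ : Type} [Group Γ] [Finite Γ] (σ : Γ →* Spor.M12)
    (hσ : Cfsg.IsStemExtension σ) :
    ∃ f : Multiplicative (ZMod 2) →* σ.ker, Function.Surjective f := by
  obtain ⟨hsur, hz, hcm⟩ := hσ
  obtain ⟨t, rt⟩ := mem12 (l := m12T) (by decide +kernel)
  obtain ⟨h, rh⟩ := mem12 (l := m12H) (by decide +kernel)
  obtain ⟨u, ru⟩ := mem12 (l := m12U) (by decide +kernel)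
  obtain ⟨g, rg⟩ := mem12 (l := m12G) (by decide +kernel)
  obtain ⟨lift, hlift⟩ := exists_section o0 mult_stab perfect_stab σ hsur hz
  obtain ⟨T₀, hT₀⟩ := hsur t
  have hto : t • o0 = o1 := to_o1 rt (by decide +kernel)
  have huo : u • o0 = o1 := to_o1 ru (by decide +kernel)
  have hn : (24 : ℕ) ≤ 256 := by norm_num
  have hone : ∀ {k : Spor.M12} {l : ℕ}, Rep ptEnc (k : Equiv.Perm GolayPt) l → isId 24 l = true →
      k = 1 := fun hk he => Subtype.ext (hk.eq_one he)
  have ht3 : t ^ 3 = 1 := hone (rep_packPow hn rt 3) (by decide +kernel)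
  obtain ⟨v₁, w₁, v₂, w₂, v₃, w₃, c, hcc, hgen⟩ := L2_data
  have hL : ∀ (x : Spor.M12), x • o0 = o1 → ∀ (l : L2),
      (l : Spor.M12) ∈ MulAction.stabilizer Spor.M12 o0 ⊓ MulAction.stabilizer Spor.M12 (x • o0) :=
    fun x hx l => by rw [hx]; exact l.2
  -- the discrepancy of `c`
  obtain ⟨δ₀, hδ₀⟩ := exists_delta o0 σ hz lift hlift T₀
  have hc₀ : (c : Spor.M12) ∈
      MulAction.stabilizer Spor.M12 o0 ⊓ MulAction.stabilizer Spor.M12 (σ T₀ • o0) :=
    hL _ (by rw [hT₀]; exact hto) c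
  set d : Γ := (δ₀ ⟨c, hc₀⟩ : Γ) with hd
  have hkill : ∀ {Δ : Type} [Group Δ] (σ' : Δ →* Spor.M12)
      (lift' : MulAction.stabilizer Spor.M12 o0 →* Δ) (T : Δ) (hT : σ' T • o0 = o1)
      (δ : ↥(MulAction.stabilizer Spor.M12 o0 ⊓ MulAction.stabilizer Spor.M12 (σ' T • o0)) →*
        Subgroup.center Δ),
      (δ ⟨c, hL _ hT c⟩ ^ 2 = 1) ∧
        (δ ⟨c, hL _ hT c⟩ = 1 → ∀ l, δ l = 1) := by
    intro Δ _ σ' lift' T hT δ
    let j : L2 →* Subgroup.center Δ :=
      { toFun := fun l => δ ⟨l, hL _ hT l⟩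
        map_one' := map_one δ
        map_mul' := fun a b => map_mul δ ⟨a, hL _ hT a⟩ ⟨b, hL _ hT b⟩ }
    have hjc : ∀ a b : L2, j ⁅a, b⁆ = 1 := fun a b => by
      rw [map_commutatorElement, commutatorElement_eq_one_iff_mul_comm]
      exact Subtype.ext (Subgroup.mem_center_iff.1 (j b).2 (j a : Δ))
    refine ⟨?_, fun h1 l => ?_⟩
    · show j c ^ 2 = 1
      rw [pow_two, ← map_mul, hcc, hjc]
    · have hle : (⊤ : Subgroup L2) ≤ j.ker := by
        rw [← hgen, Subgroup.closure_le]
        rintro x (rfl | rfl | rfl)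
        exacts [hjc _ _, hjc _ _, h1]
      have hmv : ∀ x : Spor.M12, x • (σ' T • o0) = σ' T • o0 → x • o1 = o1 := by
        rw [hT]; exact fun _ h => h
      have hl : (l : Spor.M12) ∈ L2 := ⟨l.2.1, hmv _ l.2.2⟩
      exact hle (Subgroup.mem_top (⟨l, hl⟩ : L2))
  have hdk : d ∈ σ.ker := by
    rw [MonoidHom.mem_ker, hd, hδ₀]
    simp only [map_mul, map_inv, hlift]
    group
  have hd2 : d ^ 2 = 1 :=
    congrArg Subtype.val (hkill σ lift T₀ (by rw [hT₀]; exact hto) δ₀).1
  have hle : σ.ker ≤ Subgroup.zpowers d := by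
    refine ker_le_of_exponent σ ⟨hsur, hz, hcm⟩ _ (Subgroup.zpowers_le.2 hdk)
      fun p hp M _ hM hDM hst hexp => ?_
    obtain ⟨hsur', hz', hcm'⟩ := hst
    set σ' := QuotientGroup.lift M σ hM with hσ'
    let lift' := (QuotientGroup.mk' M).comp lift
    have hlift' : ∀ x, σ' (lift' x) = (x : Spor.M12) := hlift
    refine ker_eq_bot_of_compatible o0 stab_transitive (t := t) (h := h) (t' := u) (g := g)
      (by rw [hto]; exact ne_o) ht3 (fix_o0 rh (by decide +kernel)) ?_
      (by rw [huo]; exact ne_o) (hone (rep_packMul ru ru) (by decide +kernel))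
      (fix_o0 rg (by decide +kernel)) (hone (rep_packMul rg rg) (by decide +kernel))
      (hone (rep_packPow hn (rep_packMul ru rg) 3) (by decide +kernel)) ?_
      hp σ' hsur' hz' hcm' hexp lift' hlift' ?_ ?_
    · rw [mul_inv_eq_iff_eq_mul,
        inv_eq_of_mul_eq_one_right (b := t ^ 2) (by rw [← pow_succ']; exact ht3)]
      exact Subtype.ext (((rep_packMul rh rt).of_same
        (b := packMul 24 (packPow 24 m12T 2) m12H) (by decide +kernel)).unique
          (rep_packMul (rep_packPow hn rt 2) rh))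
    · rw [huo]
      intro he
      have h1 := congrArg (fun q : omega12 => (ptEnc (q : GolayPt)).val) he
      have h2 : (ptEnc ((g • o1 : omega12) : GolayPt)).val = app m12G 1 := by
        have := rg (idx ptEnc 1)
        rw [idx_val (show 1 < 24 by norm_num)] at this
        exact this
      change (ptEnc ((g • o1 : omega12) : GolayPt)).val = (ptEnc (o1 : GolayPt)).val at h1
      rw [h2, o1_val, idx_val (show 1 < 24 by norm_num)] at h1
      revert h1; decide +kernel
    · rintro - T hT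
      obtain ⟨δ, hδ⟩ := exists_delta o0 σ' hz' lift' hlift' T
      have hTo : σ' T • o0 = o1 := by rw [hT]; exact hto
      refine move_of_delta o0 hδ ((hkill σ' lift' T hTo δ).2 ?_)
      -- compare with the discrepancy `d ∈ M`
      have hTT : T⁻¹ * (T₀ : Γ ⧸ M) ∈ Subgroup.center (Γ ⧸ M) := hz' (by
        rw [MonoidHom.mem_ker, map_mul, map_inv, hT]
        show t⁻¹ * σ T₀ = 1
        rw [hT₀, inv_mul_cancel])
      refine Subtype.ext ?_
      rw [hδ, OneMemClass.coe_one]
      have hd1 : ((d : Γ) : Γ ⧸ M) = 1 :=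
        (QuotientGroup.eq_one_iff d).2 (hDM (Subgroup.mem_zpowers d))
      rw [hd, hδ₀] at hd1
      have e1 : lift' ⟨(σ' T)⁻¹ * (c : Spor.M12) * σ' T,
          conj_mem_stabilizer ⟨c.2.1, (hL _ hTo c).2⟩⟩ =
          ((lift ⟨(σ T₀)⁻¹ * (c : Spor.M12) * σ T₀,
            conj_mem_stabilizer ⟨c.2.1, hc₀.2⟩⟩ : Γ) : Γ ⧸ M) := by
        show QuotientGroup.mk' M (lift _) = _
        refine congrArg (QuotientGroup.mk' M) (congrArg lift (Subtype.ext ?_))
        show (σ' T)⁻¹ * (c : Spor.M12) * σ' T = (σ T₀)⁻¹ * (c : Spor.M12) * σ T₀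
        rw [hT, hT₀]
      have e2 : T⁻¹ * lift' ⟨c, c.2.1⟩ * T =
          ((T₀⁻¹ * lift ⟨c, c.2.1⟩ * T₀ : Γ) : Γ ⧸ M) := by
        show T⁻¹ * ((lift ⟨(c : Spor.M12), c.2.1⟩ : Γ) : Γ ⧸ M) * T = _
        rw [QuotientGroup.mk_mul, QuotientGroup.mk_mul, QuotientGroup.mk_inv]
        set L := ((lift ⟨(c : Spor.M12), c.2.1⟩ : Γ) : Γ ⧸ M)
        obtain ⟨z, hzc, hz0⟩ : ∃ z, z ∈ Subgroup.center (Γ ⧸ M) ∧ (T₀ : Γ ⧸ M) = T * z :=
          ⟨_, hTT, by group⟩
        rw [hz0, mul_inv_rev]
        calc T⁻¹ * L * T = z⁻¹ * ((T⁻¹ * L * T) * z) := by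
              rw [Subgroup.mem_center_iff.1 hzc (T⁻¹ * L * T), inv_mul_cancel_left]
          _ = z⁻¹ * T⁻¹ * L * (T * z) := by group
      rw [QuotientGroup.mk_mul, QuotientGroup.mk_inv] at hd1
      show lift' _ * (T⁻¹ * lift' _ * T)⁻¹ = 1
      rw [e1, e2]
      exact hd1
    · intro hodd T hT
      obtain ⟨δ, hδ⟩ := exists_delta o0 σ' hz' lift' hlift' T
      have hTo : σ' T • o0 = o1 := by rw [hT]; exact huo
      refine move_of_delta o0 hδ ((hkill σ' lift' T hTo δ).2 ?_)
      have h2 := (hkill σ' lift' T hTo δ).1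
      have hmem : ((δ ⟨c, hL _ hTo c⟩ : Subgroup.center (Γ ⧸ M)) : Γ ⧸ M) ∈ σ'.ker := by
        rw [MonoidHom.mem_ker, hδ]
        simp only [map_mul, map_inv, hlift']
        group
      have hp' := hexp _ hmem
      obtain ⟨k, rfl⟩ := hodd
      rw [← Subgroup.coe_pow, pow_succ, pow_mul, h2, one_pow, one_mul] at hp'
      exact Subtype.ext hp'
  exact exists_surjective_zmod_of_le_zpowers σ.ker 2 hle hd2

/-- The signed point `k` lies over this point of the dodecad. -/
def ptD (k : Fin 24) : GolayPt := idx ptEnc (m12Dod.getD (k.val % 12) 0)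

/-- The double cover. -/
abbrev Cov : Subgroup (Equiv.Perm (Fin 24)) := genGroup (Equiv.refl (Fin 24)) coverGens

/-- The pairs `(x, g)` with `g` the projection of `x`. -/
def Proj : Subgroup (Equiv.Perm (Fin 24) × Spor.M12) where
  carrier := {p | ∀ k, ptD (p.1 k) = (p.2 : Equiv.Perm GolayPt) (ptD k)}
  one_mem' := fun k => rfl
  mul_mem' := fun {p q} hp hq k => by
    show ptD (p.1 (q.1 k)) = (p.2 : Equiv.Perm GolayPt) ((q.2 : Equiv.Perm GolayPt) (ptD k))
    rw [hp, hq]
  inv_mem' := fun {p} hp k => by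
    show ptD (p.1⁻¹ k) = ((p.2 : Equiv.Perm GolayPt))⁻¹ (ptD k)
    rw [eq_comm, Equiv.Perm.inv_eq_iff_eq, ← hp, Equiv.Perm.inv_def, Equiv.apply_symm_apply]

theorem proj_unique {x : Equiv.Perm (Fin 24)} {g g' : Spor.M12} (h : (x, g) ∈ Proj)
    (h' : (x, g') ∈ Proj) : g = g' := by
  have := omega12_faithful
  refine FaithfulSMul.eq_of_smul_eq_smul (α := omega12) fun p => Subtype.ext ?_
  have hp : (p : GolayPt) ∈ Spor.squareDodecad := p.2
  rw [squareDodecad_eq, mem_ptsOf, hasPt] at hp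
  obtain ⟨k, hk⟩ : ∃ k : Fin 24, ptD k = (p : GolayPt) := by
    have hc : ∀ i < 24, dodMask.testBit i = true → ∃ k : Fin 24, m12Dod.getD (k.val % 12) 0 = i := by
      decide +kernel
    obtain ⟨k, hk⟩ := hc _ (ptEnc (p : GolayPt)).isLt hp
    exact ⟨k, by rw [ptD, hk, idx_self]⟩
  show (g : Equiv.Perm GolayPt) p = (g' : Equiv.Perm GolayPt) p
  rw [← hk]
  exact (h k).symm.trans (h' k)

theorem proj_gen {x : Equiv.Perm (Fin 24)} {g : Spor.M12} {a b : ℕ}
    (hx : Rep (Equiv.refl (Fin 24)) x a) (hg : Rep ptEnc (g : Equiv.Perm GolayPt) b)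
    (h : ((List.range 24).all fun k => decide (m12Dod.getD (k % 12) 0 < 24) &&
      (m12Dod.getD (app a k % 12) 0 == app b (m12Dod.getD (k % 12) 0))) = true) :
    (x, g) ∈ Proj := by
  intro k
  simp only [List.all_eq_true, List.mem_range, Bool.and_eq_true, decide_eq_true_eq,
    beq_iff_eq] at h
  obtain ⟨h1, h2⟩ := h k.val k.isLt
  show idx ptEnc (m12Dod.getD ((x k).val % 12) 0) =
    (g : Equiv.Perm GolayPt) (idx ptEnc (m12Dod.getD (k.val % 12) 0))
  rw [hg.apply_idx h1, ← h2]
  have := hx k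
  simp only [Equiv.refl_apply] at this
  rw [this]

theorem proj_one : ((1 : Equiv.Perm (Fin 24)), (1 : Spor.M12)) ∈ Proj := one_mem Proj

theorem proj_mul {x y : Equiv.Perm (Fin 24)} {g h : Spor.M12} (hx : (x, g) ∈ Proj)
    (hy : (y, h) ∈ Proj) : (x * y, g * h) ∈ Proj := by
  rw [← Prod.mk_mul_mk]; exact mul_mem hx hy

theorem proj_inv {x : Equiv.Perm (Fin 24)} {g : Spor.M12} (hx : (x, g) ∈ Proj) :
    (x⁻¹, g⁻¹) ∈ Proj := by
  rw [← Prod.inv_mk]; exact inv_mem hx

theorem proj_z {zc : Equiv.Perm (Fin 24)} (rz : Rep (Equiv.refl (Fin 24)) zc coverZ) :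
    (zc, (1 : Spor.M12)) ∈ Proj := by
  intro k
  show idx ptEnc (m12Dod.getD ((zc k).val % 12) 0) = idx ptEnc (m12Dod.getD (k.val % 12) 0)
  have hc : ∀ k : Fin 24, app coverZ k.val % 12 = k.val % 12 := by decide +kernel
  have := rz k
  simp only [Equiv.refl_apply] at this
  rw [this, hc]

attribute [local irreducible] Proj

/-- A two-fold extension of a perfect group whose central involution is a square. -/
theorem stem_two {Γ G : Type} [Group Γ] [Finite Γ] [Group G] (σ : Γ →* G)
    (hsur : Function.Surjective σ) (y : Γ) (hzker : σ (y * y) = 1) (hyne : y * y ≠ 1)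
    (hzcent : ∀ x, x * (y * y) = y * y * x) (hperf : _root_.commutator G = ⊤)
    (hcard : Nat.card Γ ≤ 2 * Nat.card G) :
    Cfsg.IsStemExtension σ ∧ Nonempty (σ.ker ≃* Multiplicative (ZMod 2)) := by
  have := Finite.of_surjective σ hsur
  have hker2 : Nat.card σ.ker = 2 := by
    have h1 := Subgroup.index_mul_card σ.ker
    rw [Subgroup.index_ker, MonoidHom.range_eq_top.2 hsur, Subgroup.card_top] at h1
    have h2 : 2 ≤ Nat.card σ.ker := by
      have : Nontrivial σ.ker :=
        ⟨⟨y * y, hzker⟩, 1, fun h => hyne (congrArg Subtype.val h)⟩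
      exact Finite.one_lt_card
    have h3 : 0 < Nat.card G := Nat.card_pos
    nlinarith
  have hker : ∀ x : Γ, σ x = 1 → x = 1 ∨ x = y * y := by
    intro x hx
    obtain ⟨a, b, hab, huniv⟩ := Nat.card_eq_two_iff.1 hker2
    have mem : ∀ z : σ.ker, z = a ∨ z = b := fun z => by
      have : z ∈ ({a, b} : Set σ.ker) := huniv ▸ Set.mem_univ z
      simpa using this
    have hne : (⟨y * y, hzker⟩ : σ.ker) ≠ 1 := fun h => hyne (congrArg Subtype.val h)
    rcases mem ⟨x, hx⟩ with h | h <;> rcases mem 1 with h' | h' <;>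
      rcases mem ⟨y * y, hzker⟩ with h'' | h'' <;>
      first
        | exact absurd (h''.trans h'.symm) hne
        | exact .inl (congrArg Subtype.val (h.trans h'.symm))
        | exact .inr (congrArg Subtype.val (h.trans h''.symm))
  have hzc : σ.ker ≤ Subgroup.center Γ := fun x hx => Subgroup.mem_center_iff.2 fun w => by
    rcases hker x hx with rfl | rfl
    · rw [mul_one, one_mul]
    · exact hzcent w
  refine ⟨⟨hsur, hzc, ?_⟩, ?_⟩
  · intro x hx
    have hmap : (_root_.commutator Γ).map σ = ⊤ := by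
      rw [_root_.commutator_def, Subgroup.map_commutator, Subgroup.map_top_of_surjective σ hsur,
        ← _root_.commutator_def, hperf]
    obtain ⟨k, hk, hky⟩ : σ y ∈ (_root_.commutator Γ).map σ := hmap ▸ Subgroup.mem_top _
    have hzz : y * y * (y * y) = 1 := by
      rcases hker (y * y * (y * y)) (by rw [map_mul, hzker, one_mul]) with h | h
      · exact h
      · exact absurd (mul_eq_left.1 h) hyne
    obtain ⟨z, hz, hyz⟩ : ∃ z, σ z = 1 ∧ y = k * z :=
      ⟨k⁻¹ * y, by rw [map_mul, map_inv, hky, inv_mul_cancel], by group⟩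
    have hsq : y * y = k * k := by
      have hzw : z * z = 1 := by
        rcases hker z hz with rfl | rfl
        · exact one_mul 1
        · exact hzz
      calc y * y = k * (z * k) * z := by rw [hyz]; group
        _ = k * (k * z) * z := by rw [← Subgroup.mem_center_iff.1 (hzc hz) k]
        _ = k * k * (z * z) := by group
        _ = k * k := by rw [hzw, mul_one]
    rcases hker x hx with rfl | rfl
    · exact one_mem _
    · rw [hsq]; exact mul_mem hk hk
  · have : Fact (Nat.Prime 2) := ⟨Nat.prime_two⟩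
    exact ⟨mulEquivOfPrimeCardEq (p := 2) hker2 (by simp [Nat.card_eq_fintype_card])⟩

theorem exists_proj_hom : ∃ σ : Cov →* Spor.M12,
    Function.Surjective σ ∧ ∀ x : Cov, (x.1, σ x) ∈ Proj := by
  have hlen : coverGens.length = gens12.length := rfl
  have hperm : coverGens.all (permOK 24) = true := by decide +kernel
  have hin : gens12.all in12 = true := by decide +kernel
  have hpair : ((List.range coverGens.length).all fun i => (List.range 24).all fun k =>
      decide (m12Dod.getD (k % 12) 0 < 24) &&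
      (m12Dod.getD (app (coverGens.getD i 0) k % 12) 0 ==
        app (gens12.getD i 0) (m12Dod.getD (k % 12) 0))) = true := by decide +kernel
  have hpair' : ∀ i < coverGens.length, ∀ x, Rep (Equiv.refl (Fin 24)) x (coverGens.getD i 0) →
      ∀ g : Spor.M12, Rep ptEnc (g : Equiv.Perm GolayPt) (gens12.getD i 0) → (x, g) ∈ Proj :=
    fun i hi x hx g hg => proj_gen hx hg (List.all_eq_true.1 hpair i (List.mem_range.2 hi))
  have hex : ∀ x : Cov, ∃ g : Spor.M12, (x.1, g) ∈ Proj := by
    rintro ⟨x, hx⟩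
    induction hx using Subgroup.closure_induction with
    | mem y hy =>
      obtain ⟨l, hl, hr⟩ := hy
      obtain ⟨i, hi, rfl⟩ := List.getElem_of_mem hl
      obtain ⟨g, hg⟩ := mem12 (l := gens12.getD i 0) (by
        rw [List.getD_eq_getElem _ _ (hlen ▸ hi)]
        exact List.all_eq_true.1 hin _ (List.getElem_mem _))
      exact ⟨g, hpair' i hi y (by rw [List.getD_eq_getElem _ _ hi]; exact hr) g hg⟩
    | one => exact ⟨1, proj_one⟩
    | mul a b _ _ iha ihb =>
      obtain ⟨g, hg⟩ := iha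
      obtain ⟨g', hg'⟩ := ihb
      exact ⟨g * g', proj_mul hg hg'⟩
    | inv a _ iha =>
      obtain ⟨g, hg⟩ := iha
      exact ⟨g⁻¹, proj_inv hg⟩
  choose f hf using hex
  let σ : Cov →* Spor.M12 := MonoidHom.mk' f fun x y =>
    proj_unique (hf (x * y)) (by rw [Subgroup.coe_mul]; exact proj_mul (hf x) (hf y))
  have hsur : Function.Surjective σ := by
    have hrange : Spor.M12 ≤ σ.range.map Spor.M12.subtype := by
      refine M12_cert.1.symm.le.trans (genGroup_le fun τ l hl hτ => ?_)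
      obtain ⟨i, hi, rfl⟩ := List.getElem_of_mem hl
      obtain ⟨g, hg⟩ := mem12 (List.all_eq_true.1 hin _ (List.getElem_mem hi))
      obtain ⟨x, hx⟩ := exists_rep (e := Equiv.refl (Fin 24))
        (List.all_eq_true.1 hperm _ (List.getElem_mem (hlen.symm ▸ hi)))
      refine ⟨g, ⟨⟨x, Subgroup.subset_closure ⟨_, List.getElem_mem _, hx⟩⟩, ?_⟩, hg.unique hτ⟩
      exact proj_unique (hf _) (hpair' i (hlen.symm ▸ hi) x
        (by rw [List.getD_eq_getElem _ _ (hlen.symm ▸ hi)]; exact hx) g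
        (by rw [List.getD_eq_getElem _ _ hi]; exact hg))
    intro g
    obtain ⟨g', ⟨x, rfl⟩, h⟩ := hrange g.2
    exact ⟨x, Subtype.ext h⟩
  exact ⟨σ, hsur, hf⟩

theorem cover_card : Nat.card Cov ≤ 190080 := by
  refine le_of_le_of_eq (genGroup_card_le (L := coverLevels) (by norm_num) ?_ ?_ ?_ ?_) ?_
  · decide +kernel
  · decide +kernel
  · decide +kernel
  · decide +kernel
  · decide +kernel

theorem exists_square_root : ∃ (y : Cov) (zc : Equiv.Perm (Fin 24)),
    ((y * y : Cov) : Equiv.Perm (Fin 24)) = zc ∧ Rep (Equiv.refl (Fin 24)) zc coverZ ∧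
      zc ≠ 1 ∧ (zc, (1 : Spor.M12)) ∈ Proj := by
  have hperm : coverGens.all (permOK 24) = true := by decide +kernel
  obtain ⟨zc, rz⟩ := exists_rep (e := Equiv.refl (Fin 24)) (l := coverZ) (by decide +kernel)
  have hword : ∀ w : List ℕ, ∃ x : Cov, Rep (Equiv.refl (Fin 24)) (x : Equiv.Perm (Fin 24))
      (w.foldr (fun i acc => packMulS 24 (coverGens.getD (i % 2) 0) acc) (packId 24)) := by
    intro w
    induction w with
    | nil => exact ⟨1, rep_packId (by norm_num)⟩
    | cons i w ih =>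
      obtain ⟨x, hx⟩ := ih
      have hi : i % 2 < coverGens.length := Nat.mod_lt _ (by norm_num)
      obtain ⟨y, hy⟩ := exists_rep (e := Equiv.refl (Fin 24))
        (List.all_eq_true.1 hperm _ (List.getElem_mem hi))
      refine ⟨⟨y, Subgroup.subset_closure ⟨_, List.getElem_mem hi, hy⟩⟩ * x, ?_⟩
      rw [List.foldr_cons, packMulS_eq, List.getD_eq_getElem _ _ hi]
      exact rep_packMul hy hx
  -- the word is read from the left, so fold over the list
  obtain ⟨y₀, hy₀⟩ := hword coverWord.1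
  set y := y₀ ^ coverWord.2 with hy
  have hyy : ((y * y : Cov) : Equiv.Perm (Fin 24)) = zc := by
    rw [hy, ← pow_add, Subgroup.coe_pow]
    exact ((rep_packPow (by norm_num) hy₀ (coverWord.2 + coverWord.2)).of_same
      (b := coverZ) (by decide +kernel)).unique rz
  have hz1 : zc ≠ 1 := fun h => by
    have := rz.isId_of_eq_one h
    revert this; decide +kernel
  have hzproj : (zc, (1 : Spor.M12)) ∈ Proj := proj_z rz
  exact ⟨y, zc, hyy, rz, hz1, hzproj⟩

theorem exists_cover : ∃ (Γ : Type) (_ : Group Γ) (_ : Finite Γ) (σ : Γ →* Spor.M12),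
    Cfsg.IsStemExtension σ ∧ Nonempty (σ.ker ≃* Multiplicative (ZMod 2)) := by
  obtain ⟨σ, hsur, hf⟩ := exists_proj_hom
  obtain ⟨y, zc, hyy, rz, hz1, hzproj⟩ := exists_square_root
  have hzker : σ (y * y) = 1 := proj_unique (hf _) (hyy.symm ▸ hzproj)
  have hyne : y * y ≠ 1 := fun h => hz1 (by rw [← hyy, h]; rfl)
  have hperf : _root_.commutator Spor.M12 = ⊤ := by
    have := isSimple_M12
    exact commutator_eq_top_of_simple (by rw [card_M12]; norm_num)
  have hgc : (coverGens.all fun a => samePack 24 (packMulS 24 a coverZ) (packMulS 24 coverZ a)) =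
      true := by decide +kernel
  refine ⟨Cov, inferInstance, inferInstance, σ, stem_two σ hsur y hzker hyne ?_ hperf ?_⟩
  · intro x
    refine Subtype.ext ?_
    show (x : Equiv.Perm (Fin 24)) * ((y * y : Cov) : Equiv.Perm (Fin 24)) =
      ((y * y : Cov) : Equiv.Perm (Fin 24)) * (x : Equiv.Perm (Fin 24))
    rw [hyy]
    exact (Subgroup.mem_centralizer_singleton_iff.1
      (genGroup_le (e := Equiv.refl (Fin 24)) (gens := coverGens)
        (H := Subgroup.centralizer ({zc} : Set (Equiv.Perm (Fin 24)))) (fun τ l hl hτ => by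
          rw [Subgroup.mem_centralizer_singleton_iff]
          have h := List.all_eq_true.1 hgc l hl
          rw [packMulS_eq, packMulS_eq] at h
          exact ((rep_packMul hτ rz).of_same h).unique (rep_packMul rz hτ)) x.2))
  · rw [card_M12]; exact cover_card

/-- The Schur multiplier of the Mathieu group M₁₂ (the stabiliser of a dodecad in the automorphism group of the length-24 binary code) is cyclic of order 2; here the Schur multiplier is described through stem extensions, as in the definitions: surjective homomorphisms onto the group from a finite group, whose kernel is central in that finite group and contained in that finite group's commutator subgroup. -/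
theorem result : Cfsg.HasCyclicSchurMultiplier ↥Cfsg.Spor.M12 2 :=
  ⟨exists_cover, fun _ _ _ σ hσ => upper_bound σ hσ⟩

end Cfsg.Agent.S2035
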