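import Cfsg.Statements.S2036
import Cfsg.Agent.Lib.Mathieu.M22Covers
import Cfsg.Agent.Lib.Mathieu.M22Multiplier
import Cfsg.Agent.Lib.Schur.FibreProduct

set_option autoImplicit false
open Cfsg

namespace Cfsg.Agent.S2036

/-- The Schur multiplier of the Mathieu group M₂₂ (the permutations in the automorphism group of the length-24 binary code that fix each of two given points) is cyclic of order 12; here the Schur multiplier is described through stem extensions, as in the definitions: surjective homomorphisms onto the group from a finite group, whose kernel is central in that finite group and contained in that finite group's commutator subgroup. -/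
theorem result : Cfsg.HasCyclicSchurMultiplier ↥Cfsg.Spor.M22 12 := by
  have up : ∀ (Γ : Type) [Group Γ] [Finite Γ] (σ : Γ →* ↥Spor.M22), IsStemExtension σ →
      ∃ π : Multiplicative (ZMod 12) →* σ.ker, Function.Surjective π := by
    intro Γ _ _ σ hσ
    obtain ⟨c, hc, hc12⟩ := Agent.Mathieu.Mult22.exists_ker_bound σ hσ
    exact Agent.Schur.exists_surjective_zmod_of_le_zpowers σ.ker 12 hc hc12
  obtain ⟨A, _, _, α, hα, hαc, -⟩ := Agent.Mathieu.M22Cover.exists_four
  obtain ⟨B, _, _, β, hβ, hβc, -⟩ := Agent.Mathieu.M22Cover.exists_three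
  have hA : ∀ a ∈ α.ker, a ^ 4 = 1 := fun a ha => by
    have h : (⟨a, ha⟩ : α.ker) ^ Nat.card α.ker = 1 := pow_card_eq_one'
    rw [hαc] at h
    exact congrArg Subtype.val h
  have hB : ∀ b ∈ β.ker, b ^ 3 = 1 := fun b hb => by
    have h : (⟨b, hb⟩ : β.ker) ^ Nat.card β.ker = 1 := pow_card_eq_one'
    rw [hβc] at h
    exact congrArg Subtype.val h
  obtain ⟨hst, ⟨e⟩⟩ := Agent.Schur.isStemExtension_fibre hα hβ (by norm_num : Nat.Coprime 4 3) hA hB
  refine ⟨⟨_, inferInstance, inferInstance, _, hst, ?_⟩, up⟩
  obtain ⟨π, hπ⟩ := up _ _ hst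
  refine ⟨(MulEquiv.ofBijective π ((Nat.bijective_iff_surjective_and_card π).2 ⟨hπ, ?_⟩)).symm⟩
  rw [Nat.card_congr e.toEquiv, Nat.card_prod, hαc, hβc, Nat.card_congr Multiplicative.toAdd,
    Nat.card_zmod]

end Cfsg.Agent.S2036
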