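import Cfsg.Statements.S2039
import Cfsg.Agent.Lib.Janko.J1Group
import Cfsg.Agent.Lib.Schur.SylowLocal

/-!
The Schur multiplier of J₁ is trivial: the odd Sylow subgroups have prime order and the one for 2 is
elementary of order 8, its three cyclically moved generators forcing abelian preimages.
-/

set_option autoImplicit false
set_option linter.style.haveILetI false
open Cfsg

namespace Cfsg.Agent.S2039

open Cfsg.Agent.Janko.J1 Cfsg.Agent.Schur

/-- The packed product of the two coordinates. -/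
def pt (i a : ℕ) : ℕ := mm (tr i) (st a)

theorem red_pt (i a : ℕ) : red 49 (pt i a) = pt i a := red_mm _ _

theorem exists_pt {i a : ℕ} (hi : i < 1596) (ha : a < 110) :
    ∃ g : Spor.J1, mat g = dec (pt i a) :=
  ⟨el (⟨i, hi⟩, ⟨a, ha⟩), by rw [mat_apply, el_val, pt, dec_mm (wf_tr hi) (wf_st ha)]⟩

theorem sylow_two_data : ∃ A g : Spor.J1,
    let B := g * A * g⁻¹; let D := g * B * g⁻¹
    A * A = 1 ∧ A * B = B * A ∧ A * D = D * A ∧ g * D * g⁻¹ = A * B ∧ A ≠ 1 ∧ B ≠ A ∧
      D ≠ A ∧ D ≠ B ∧ D ≠ A * B := by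
  obtain ⟨A, hA⟩ := exists_pt (i := 130) (a := 32) (by norm_num) (by norm_num)
  obtain ⟨g, hg⟩ := exists_pt (i := 1572) (a := 52) (by norm_num) (by norm_num)
  set PA := pt 130 32
  set PG := pt 1572 52
  have h1 : mat (1 : Spor.J1) = dec (tr 0) := by rw [map_one, dec_tr_zero]
  have hmul : ∀ {x y : Spor.J1} {p q : ℕ}, mat x = dec p → mat y = dec q →
      red 49 p = p → red 49 q = q → mat (x * y) = dec (mm p q) := fun hx hy hp hq => by
    rw [map_mul, hx, hy, dec_mm hp hq]
  have heq : ∀ {x y : Spor.J1} {p q : ℕ}, mat x = dec p → mat y = dec q → p = q → x = y :=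
    fun hx hy h => mat_injective (by rw [hx, hy, h])
  have hne : ∀ {x y : Spor.J1} {p q : ℕ}, mat x = dec p → mat y = dec q →
      red 49 p = p → red 49 q = q → p ≠ q → x ≠ y := fun hx hy hp hq h hxy =>
    h (dec_inj hp hq (by rw [← hx, ← hy, hxy]))
  have hg7 : g ^ 7 = 1 := pow_eq_of_check hg (red_pt _ _) h1 (by decide +kernel)
  have hgi : mat g⁻¹ = dec (mpow PG 6) := by
    rw [inv_eq_of_mul_eq_one_right (show g * g ^ 6 = 1 by rw [← pow_succ']; exact hg7), map_pow, hg,
      dec_mpow (red_pt _ _)]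
  have wA : red 49 PA = PA := red_pt _ _
  have wG : red 49 PG = PG := red_pt _ _
  have hB := hmul (hmul hg hA wG wA) hgi (red_mm _ _) (red_mpow _ _)
  have hD := hmul (hmul hg hB wG (red_mm _ _)) hgi (red_mm _ _) (red_mpow _ _)
  have hE := hmul (hmul hg hD wG (red_mm _ _)) hgi (red_mm _ _) (red_mpow _ _)
  have hAB := hmul hA hB wA (red_mm _ _)
  refine ⟨A, g, heq (hmul hA hA wA wA) h1 (by decide +kernel),
    heq hAB (hmul hB hA (red_mm _ _) wA) (by decide +kernel),
    heq (hmul hA hD wA (red_mm _ _)) (hmul hD hA (red_mm _ _) wA) (by decide +kernel),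
    heq hE hAB (by decide +kernel), ?_, ?_, ?_, ?_, ?_⟩
  · exact hne hA h1 wA (wf_tr (by norm_num)) (by decide +kernel)
  · exact hne hB hA (red_mm _ _) wA (by decide +kernel)
  · exact hne hD hA (red_mm _ _) wA (by decide +kernel)
  · exact hne hD hB (red_mm _ _) (red_mm _ _) (by decide +kernel)
  · exact hne hD hAB (red_mm _ _) (red_mm _ _) (by decide +kernel)

theorem local_two_abstract {G : Type} [Group G] [Finite G] (h16 : ¬ 2 ^ 4 ∣ Nat.card G) {A g : G}
    (hAA : A * A = 1) (hAB : A * (g * A * g⁻¹) = g * A * g⁻¹ * A)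
    (hAD : A * (g * (g * A * g⁻¹) * g⁻¹) = g * (g * A * g⁻¹) * g⁻¹ * A)
    (hgD : g * (g * (g * A * g⁻¹) * g⁻¹) * g⁻¹ = A * (g * A * g⁻¹)) (hA1 : A ≠ 1)
    (hBA : g * A * g⁻¹ ≠ A) (hDA : g * (g * A * g⁻¹) * g⁻¹ ≠ A)
    (hDB : g * (g * A * g⁻¹) * g⁻¹ ≠ g * A * g⁻¹)
    (hDAB : g * (g * A * g⁻¹) * g⁻¹ ≠ A * (g * A * g⁻¹))
    {Γ : Type} [Group Γ] [Finite Γ] (σ : Γ →* G) (hσ : Function.Surjective σ)
    (hz : σ.ker ≤ Subgroup.center Γ) :
    ∃ P : Sylow 2 Γ, ⁅(P : Subgroup Γ), (P : Subgroup Γ)⁆ ⊓ σ.ker = ⊥ := by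
  haveI := Fact.mk Nat.prime_two
  set B := g * A * g⁻¹ with hB
  set D := g * B * g⁻¹ with hD
  have hBD : B * D = D * B := by
    have := congrArg (MulAut.conj g) hAB
    simpa only [map_mul, MulAut.conj_apply, ← hB, ← hD] using this
  have hBB : B * B = 1 := by
    rw [hB]; simpa only [mul_assoc, inv_mul_cancel_left, mul_one, mul_inv_cancel] using
      congrArg (fun q => g * q * g⁻¹) hAA
  have hDD : D * D = 1 := by
    rw [hD]; simpa only [mul_assoc, inv_mul_cancel_left, mul_one, mul_inv_cancel] using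
      congrArg (fun q => g * q * g⁻¹) hBB
  set Q := Subgroup.closure ({A, B, D} : Set G) with hQ
  have hcomm : IsMulCommutative Q := Subgroup.isMulCommutative_closure (by
    rintro x (rfl | rfl | rfl) y (rfl | rfl | rfl) <;>
      first | rfl | assumption | (apply Eq.symm; assumption))
  have hsq : ∀ x : Q, x ^ 2 = 1 := by
    rintro ⟨x, hx⟩
    induction hx using Subgroup.closure_induction with
    | mem y hy =>
      refine Subtype.ext ?_
      rcases hy with rfl | rfl | rfl <;> simpa [pow_two]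
    | one => simp
    | mul y z hy hz ihy ihz =>
      have hc : (⟨y, hy⟩ : Q) * ⟨z, hz⟩ = ⟨z, hz⟩ * ⟨y, hy⟩ := hcomm.is_comm.comm _ _
      have : (⟨y * z, mul_mem hy hz⟩ : Q) = ⟨y, hy⟩ * ⟨z, hz⟩ := rfl
      rw [this, (show Commute (⟨y, hy⟩ : Q) ⟨z, hz⟩ from hc).mul_pow, ihy, ihz, one_mul]
    | inv y hy ihy =>
      have : (⟨y⁻¹, inv_mem hy⟩ : Q) = (⟨y, hy⟩ : Q)⁻¹ := rfl
      rw [this, inv_pow, ihy, inv_one]
  have hQp : IsPGroup 2 Q := fun x => ⟨1, by rw [pow_one]; exact hsq x⟩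
  obtain ⟨P, hQP⟩ := exists_sylow_le_map σ hσ hQp
  have hmem : A ∈ Q ∧ B ∈ Q ∧ D ∈ Q := ⟨Subgroup.subset_closure (by simp),
    Subgroup.subset_closure (by simp), Subgroup.subset_closure (by simp)⟩
  have hcardQ : 8 ≤ Nat.card Q := by
    obtain ⟨hAQ, hBQ, hDQ⟩ := hmem
    let f : Fin 2 × Fin 2 × Fin 2 → Q := fun p =>
      ⟨A, hAQ⟩ ^ p.1.val * ⟨B, hBQ⟩ ^ p.2.1.val * ⟨D, hDQ⟩ ^ p.2.2.val
    have hAi : A⁻¹ = A := inv_eq_of_mul_eq_one_left hAA
    have hBi : B⁻¹ = B := inv_eq_of_mul_eq_one_left hBB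
    have hDi : D⁻¹ = D := inv_eq_of_mul_eq_one_left hDD
    have hB1 : B ≠ 1 := by
      rw [hB]; intro h
      exact hA1 (conj_eq_one_iff.1 h)
    have hD1 : D ≠ 1 := by
      rw [hD]; intro h
      exact hB1 (conj_eq_one_iff.1 h)
    have hker : ∀ p, f p = 1 → p = (0, 0, 0) := by
      rintro ⟨i, j, k⟩ h
      have h' : A ^ i.val * B ^ j.val * D ^ k.val = 1 := congrArg Subtype.val h
      fin_cases i <;> fin_cases j <;> fin_cases k <;>
        simp only [pow_zero, pow_one, one_mul, mul_one, Fin.zero_eta, Fin.mk_one,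
          Fin.val_zero, Fin.val_one] at h' ⊢
      · exact absurd h' hD1
      · exact absurd h' hB1
      · exact absurd ((mul_eq_one_iff_eq_inv.1 h').trans hDi).symm hDB
      · exact absurd h' hA1
      · exact absurd ((mul_eq_one_iff_eq_inv.1 h').trans hDi).symm hDA
      · exact absurd ((mul_eq_one_iff_eq_inv.1 h').trans hBi).symm hBA
      · exact absurd ((mul_eq_one_iff_eq_inv.1 h').trans hDi).symm hDAB
    have hinj : Function.Injective f := by
      rintro ⟨i, j, k⟩ ⟨i', j', k'⟩ h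
      have hadd : f (i, j, k) * f (i', j', k') = f (i + i', j + j', k + k') := by
        have key : ∀ (x : Q), x ^ 2 = 1 → ∀ a b : Fin 2, x ^ a.val * x ^ b.val = x ^ (a + b).val := by
          intro x hx a b
          rw [← pow_add, Fin.val_add]; exact pow_eq_pow_mod _ hx
        let : CommGroup Q := { (inferInstance : Group Q) with mul_comm := hcomm.is_comm.comm }
        simp only [f]
        rw [← key _ (hsq _) i i', ← key _ (hsq _) j j', ← key _ (hsq _) k k']
        ac_rfl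
      have h0 := hker (i + i', j + j', k + k') (by rw [← hadd, ← h, ← pow_two]; exact hsq _)
      have e : ∀ a b : Fin 2, a + b = 0 → a = b := by decide
      simp only [Prod.mk.injEq] at h0 ⊢
      exact ⟨e _ _ h0.1, e _ _ h0.2.1, e _ _ h0.2.2⟩
    simpa using Nat.card_le_card_of_injective f hinj
  have hmap : Q = (P : Subgroup Γ).map σ := by
    refine Subgroup.eq_of_le_of_card_ge hQP ?_
    obtain ⟨k, hk⟩ := (P.isPGroup'.map σ).exists_card_eq
    have hd : 2 ^ k ∣ Nat.card G := hk ▸ Subgroup.card_subgroup_dvd_card _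
    have hk3 : k ≤ 3 := by
      by_contra hc
      exact h16 ((pow_dvd_pow 2 (show 4 ≤ k by omega)).trans hd)
    rw [hk]
    exact (Nat.pow_le_pow_right (by norm_num) hk3).trans hcardQ
  obtain ⟨a, ha⟩ := hσ A
  obtain ⟨g', hg'⟩ := hσ g
  refine ⟨P, ?_⟩
  rw [commutator_eq_bot_of_cubic σ hz P (a := a) (g := g') ?_ ?_ ?_ ?_, bot_inf_eq]
  all_goals simp only [map_mul, map_inv, ha, hg', ← hB, ← hD]
  exacts [hAB, hAD, hgD, hmap.ge]

theorem local_two {Γ : Type} [Group Γ] [Finite Γ] (σ : Γ →* Spor.J1)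
    (hσ : Function.Surjective σ) (hz : σ.ker ≤ Subgroup.center Γ) :
    ∃ P : Sylow 2 Γ, ⁅(P : Subgroup Γ), (P : Subgroup Γ)⁆ ⊓ σ.ker = ⊥ := by
  haveI : Finite Spor.J1 := Finite.of_surjective σ hσ
  obtain ⟨A, g, hAA, hAB, hAD, hgD, hA1, hBA, hDA, hDB, hDAB⟩ := sylow_two_data
  exact local_two_abstract (by rw [card_J1]; norm_num) hAA hAB hAD hgD hA1 hBA hDA hDB hDAB σ hσ hz

/-- The Schur multiplier of the Janko group J₁ (the group generated by two explicit 7 × 7 matrices over the integers modulo 11) is trivial; here the Schur multiplier is described through stem extensions, as in the definitions: surjective homomorphisms onto the group from a finite group, whose kernel is central in that finite group and contained in that finite group's commutator subgroup. -/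
theorem result : Cfsg.HasCyclicSchurMultiplier ↥Cfsg.Spor.J1 1 := by
  haveI : Finite Spor.J1 := Nat.finite_of_card_ne_zero (by rw [card_J1]; norm_num)
  refine hasCyclicSchurMultiplier_one fun Γ _ _ σ hσ => ?_
  refine ker_eq_bot_of_sylow σ hσ.2.1 hσ.2.2 fun p hp => ?_
  by_cases h2 : p = 2
  · subst h2; exact local_two σ hσ.1 hσ.2.1
  refine local_of_not_sq_dvd σ hσ.1 hσ.2.1 hp fun hd => ?_
  rw [card_J1] at hd
  have h8 : p ^ 2 ∣ 2 ^ 3 * 21945 := by norm_num; exact hd
  have hcop : Nat.Coprime (p ^ 2) (2 ^ 3) :=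
    Nat.Coprime.pow _ _ ((Nat.coprime_primes hp Nat.prime_two).2 h2)
  have hsf : p ^ 2 ∣ 21945 := hcop.dvd_of_dvd_mul_left h8
  have hle : p * p ≤ 21945 := by rw [← sq]; exact Nat.le_of_dvd (by norm_num) hsf
  have hp' : p ≤ 148 := by nlinarith
  interval_cases p <;> first | omega | norm_num at hsf hp

end Cfsg.Agent.S2039
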