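import Cfsg.Statements.S2040
import Cfsg.Agent.Lib.HallJanko.Multiplier
import Cfsg.Agent.Lib.HallJanko.StemCover

/-!
The Schur multiplier of J₂ has order 2.
-/

set_option autoImplicit false
open Cfsg

namespace Cfsg.Agent.S2040

open Cfsg.Agent.HJ

theorem upper_bound {Γ : Type} [Group Γ] [Finite Γ] (σ : Γ →* Spor.J2) (hσ : IsStemExtension σ) :
    ∃ π : Multiplicative (ZMod 2) →* σ.ker, Function.Surjective π := by
  have hker : (isoJ2.toMonoidHom.comp σ).ker = σ.ker := by ext x; simp
  obtain ⟨π, hπ⟩ := stem_le_two (isoJ2.toMonoidHom.comp σ)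
    ⟨isoJ2.surjective.comp hσ.1, hker.le.trans hσ.2.1, hker.le.trans hσ.2.2⟩
  exact ⟨(MulEquiv.subgroupCongr hker).toMonoidHom.comp π,
    (MulEquiv.subgroupCongr hker).surjective.comp hπ⟩

/-- The Schur multiplier of the Hall–Janko group J₂ (the icosian reflection group modulo its centre) is cyclic of order 2; here the Schur multiplier is described through stem extensions, as in the definitions: surjective homomorphisms onto the group from a finite group, whose kernel is central in that finite group and contained in that finite group's commutator subgroup. -/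
theorem result : Cfsg.HasCyclicSchurMultiplier Cfsg.Spor.J2 2 := by
  haveI := finite_twoJ2
  refine ⟨⟨Spor.twoJ2, inferInstance, inferInstance, QuotientGroup.mk' _, isStem_twoJ2, ?_⟩,
    fun _ _ _ σ hσ => upper_bound σ hσ⟩
  obtain ⟨π, hπ⟩ := upper_bound (QuotientGroup.mk' (Subgroup.center Spor.twoJ2)) isStem_twoJ2
  refine ⟨(MulEquiv.ofBijective π ((Nat.bijective_iff_surjective_and_card π).2 ⟨hπ, ?_⟩)).symm⟩
  rw [QuotientGroup.ker_mk', card_center, Nat.card_congr Multiplicative.toAdd, Nat.card_zmod]

end Cfsg.Agent.S2040
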