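import Cfsg.Statements.S2043
import Cfsg.Agent.Lib.Schur.Co1Local.Two
import Cfsg.Agent.Lib.Schur.Co1Local.Three
import Cfsg.Agent.Lib.Schur.Co1Local.Five
import Cfsg.Agent.Lib.Schur.Co1Local.Seven
import Cfsg.Agent.Lib.Schur.SylowLocal

/-!
The Schur multiplier of `Co₁`: `Co₀` is a stem extension; above, one odd prime at a time, and at 2
the monomial group leaves a kernel of at most two elements.
-/

set_option autoImplicit false
open Cfsg

namespace Cfsg.Agent.S2043

open scoped commutatorElement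
open Cfsg.Agent.Schur Cfsg.Agent.Schur.Co1Local Cfsg.Agent.Leech

theorem large_prime {p : ℕ} (hp : p.Prime) (h : p ^ 2 ∣ Nat.card Spor.Co1) :
    p = 2 ∨ p = 3 ∨ p = 5 ∨ p = 7 := by
  have h1 : p ^ 2 ∣ 2 ^ 21 * 3 ^ 9 * 5 ^ 4 * 7 ^ 2 * 3289 := by
    rw [card_co1] at h
    exact h
  by_contra hne
  simp only [not_or] at hne
  have cop : ∀ q : ℕ, q.Prime → p ≠ q → ∀ k, Nat.Coprime (p ^ 2) (q ^ k) := fun q hq hne' k =>
    Nat.Coprime.pow 2 k ((Nat.coprime_primes hp hq).2 hne')
  have h2 : p ^ 2 ∣ 3289 :=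
    ((((cop 2 Nat.prime_two hne.1 21).mul_right (cop 3 Nat.prime_three hne.2.1 9)).mul_right
      (cop 5 (by norm_num) hne.2.2.1 4)).mul_right (cop 7 (by norm_num) hne.2.2.2 2)).dvd_of_dvd_mul_left h1
  have hle : p ^ 2 ≤ 3289 := Nat.le_of_dvd (by norm_num) h2
  have hlt : p < 58 := by
    by_contra hge
    have h3 : 58 ^ 2 ≤ p ^ 2 := Nat.pow_le_pow_left (by omega) 2
    omega
  have h4 : ∀ q < 58, q ^ 2 ∣ 3289 → q ≤ 1 := by decide +kernel
  have := h4 p hlt h2
  have := hp.two_le
  omega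

theorem upper_bound {Γ : Type} [Group Γ] [Finite Γ] (σ : Γ →* Spor.Co1) (hσ : IsStemExtension σ) :
    ∃ π : Multiplicative (ZMod 2) →* σ.ker, Function.Surjective π := by
  haveI := finite_co1
  obtain ⟨z0, hz0, hz02, H2, hH2, hH2'⟩ := local_two σ hσ.1 hσ.2.1
  have hle : σ.ker ≤ Subgroup.zpowers z0 := by
    refine ker_le_of_local σ hσ _ fun p hp _ => ?_
    by_cases h : p ^ 2 ∣ Nat.card Spor.Co1
    · rcases large_prime hp h with rfl | rfl | rfl | rfl
      · exact ⟨H2, hH2, hH2'⟩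
      · obtain ⟨H, h1, h2⟩ := local_three σ hσ.1 hσ.2.1
        exact ⟨H, h1, h2.le.trans bot_le⟩
      · obtain ⟨H, h1, h2⟩ := local_five σ hσ.1 hσ.2.1
        exact ⟨H, h1, h2.le.trans bot_le⟩
      · obtain ⟨H, h1, h2⟩ := local_seven σ hσ.1 hσ.2.1
        exact ⟨H, h1, h2.le.trans bot_le⟩
    · haveI := Fact.mk hp
      obtain ⟨P, hP⟩ := local_of_not_sq_dvd σ hσ.1 hσ.2.1 hp h
      exact ⟨(P : Subgroup Γ), P.not_dvd_index, hP.le.trans bot_le⟩
  let a : Additive σ.ker := Additive.ofMul ⟨z0, hz0⟩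
  have ha : (2 : ℕ) • a = 0 :=
    congrArg Additive.ofMul (Subtype.ext (by rw [SubmonoidClass.coe_pow, pow_two]; exact hz02))
  let f : ZMod 2 →+ Additive σ.ker := ZMod.lift 2 ⟨zmultiplesHom (Additive σ.ker) a, by
    rw [zmultiplesHom_apply, natCast_zsmul]; exact ha⟩
  refine ⟨AddMonoidHom.toMultiplicativeLeft f, fun y => ?_⟩
  obtain ⟨k, hk⟩ := Subgroup.mem_zpowers_iff.1 (hle y.2)
  refine ⟨Multiplicative.ofAdd (k : ZMod 2), ?_⟩
  show (f (k : ZMod 2)).toMul = y
  simp only [f, ZMod.lift_coe, zmultiplesHom_apply]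
  exact Subtype.ext (by simpa [a] using hk)

/-- The Schur multiplier of the Conway group Co₁ (the automorphism group of the rank-24 lattice modulo its centre) is cyclic of order 2; here the Schur multiplier is described through stem extensions, as in the definitions: surjective homomorphisms onto the group from a finite group, whose kernel is central in that finite group and contained in that finite group's commutator subgroup. -/
theorem result : Cfsg.HasCyclicSchurMultiplier Cfsg.Spor.Co1 2 := by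
  have hstem : IsStemExtension (QuotientGroup.mk' (Subgroup.center Co0)) := by
    refine ⟨QuotientGroup.mk'_surjective _, (QuotientGroup.ker_mk' _).le, ?_⟩
    rw [commutator_co0]
    exact le_top
  refine ⟨⟨Co0, inferInstance, inferInstance, QuotientGroup.mk' _, hstem, ?_⟩,
    fun _ _ _ σ hσ => upper_bound σ hσ⟩
  obtain ⟨π, hπ⟩ := upper_bound (QuotientGroup.mk' (Subgroup.center Co0)) hstem
  refine ⟨(MulEquiv.ofBijective π ((Nat.bijective_iff_surjective_and_card π).2 ⟨hπ, ?_⟩)).symm⟩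
  rw [QuotientGroup.ker_mk', card_center, Nat.card_congr Multiplicative.toAdd, Nat.card_zmod]

end Cfsg.Agent.S2043
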