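import Cfsg.Statements.S2044
import Cfsg.Agent.Lib.ConwayModTwo.CoTwo

set_option autoImplicit false
open Cfsg

namespace Cfsg.Agent.S2044

/-- The Schur multiplier of the Conway group Co₂ (the stabiliser of a minimal vector of the rank-24 lattice) is trivial; here the Schur multiplier is described through stem extensions, as in the definitions: surjective homomorphisms onto the group from a finite group, whose kernel is central in that finite group and contained in that finite group's commutator subgroup. -/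
theorem result : Cfsg.HasCyclicSchurMultiplier ↥Cfsg.Spor.Co2 1 := by
  let e : Agent.Leech.co2Grp ≃* ↥Cfsg.Spor.Co2 :=
    { toFun := fun g => ⟨((g : Cfsg.Co0) : Equiv.Perm Cfsg.leechLattice), ⟨(g : Cfsg.Co0).2, g.2⟩⟩
      invFun := fun g => ⟨⟨(g : Equiv.Perm Cfsg.leechLattice), g.2.1⟩, g.2.2⟩
      left_inv := fun _ => rfl
      right_inv := fun _ => rfl
      map_mul' := fun _ _ => rfl }
  obtain ⟨⟨Γ, i, f, σ, ⟨h1, h2, h3⟩, ⟨φ⟩⟩, hub⟩ := Agent.ConwayModTwo.co2Grp_multiplier
  refine ⟨?_, fun Δ _ _ τ hτ => ?_⟩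
  · have hk : (e.toMonoidHom.comp σ).ker = σ.ker := MonoidHom.ker_comp_of_injective _ _ e.injective
    exact ⟨Γ, i, f, e.toMonoidHom.comp σ, ⟨e.surjective.comp h1, hk ▸ h2, hk ▸ h3⟩,
      ⟨(MulEquiv.subgroupCongr hk).trans φ⟩⟩
  · obtain ⟨h1, h2, h3⟩ := hτ
    have hk : (e.symm.toMonoidHom.comp τ).ker = τ.ker := MonoidHom.ker_comp_of_injective _ _ e.symm.injective
    obtain ⟨π, hπ⟩ := hub Δ (e.symm.toMonoidHom.comp τ) ⟨e.symm.surjective.comp h1, hk ▸ h2, hk ▸ h3⟩
    exact ⟨(MulEquiv.subgroupCongr hk).toMonoidHom.comp π, (MulEquiv.subgroupCongr hk).surjective.comp hπ⟩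

end Cfsg.Agent.S2044
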