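import Cfsg.Statements.S2046
import Cfsg.Agent.Lib.HSMult.Multiplier
import Cfsg.Agent.Lib.HSMult.Cover

set_option autoImplicit false
open Cfsg

namespace Cfsg.Agent.S2046

/-- The Schur multiplier of the Higman–Sims group (as a two-vector stabiliser in the automorphism group of the rank-24 lattice) is cyclic of order 2; here the Schur multiplier is described through stem extensions, as in the definitions: surjective homomorphisms onto the group from a finite group, whose kernel is central in that finite group and contained in that finite group's commutator subgroup. -/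
theorem result : Cfsg.HasCyclicSchurMultiplier ↥Cfsg.Spor.HS 2 := by
  obtain ⟨e⟩ := Agent.HSOut.isoHS_grp
  refine ⟨?_, fun Γ _ _ σ hσ => ?_⟩
  · obtain ⟨Γ, i, f, σ, ⟨h1, h2, h3⟩, ⟨φ⟩⟩ := Agent.HSMult.exists_cover
    have hk : (e.toMonoidHom.comp σ).ker = σ.ker := MonoidHom.ker_comp_of_injective _ _ e.injective
    exact ⟨Γ, i, f, e.toMonoidHom.comp σ, ⟨e.surjective.comp h1, hk ▸ h2, hk ▸ h3⟩,
      ⟨(MulEquiv.subgroupCongr hk).trans φ⟩⟩
  · obtain ⟨h1, h2, h3⟩ := hσ
    have hk : (e.symm.toMonoidHom.comp σ).ker = σ.ker := MonoidHom.ker_comp_of_injective _ _ e.symm.injective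
    obtain ⟨π, hπ⟩ := Agent.HSMult.stem_le_two (e.symm.toMonoidHom.comp σ)
      ⟨e.symm.surjective.comp h1, hk ▸ h2, hk ▸ h3⟩
    exact ⟨(MulEquiv.subgroupCongr hk).toMonoidHom.comp π, (MulEquiv.subgroupCongr hk).surjective.comp hπ⟩

end Cfsg.Agent.S2046
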