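import Cfsg.Statements.S2051
import Cfsg.Agent.Lib.Presented.RuMultUpper
import Cfsg.Agent.Lib.Presented.RuIsoRu
import Cfsg.Agent.Lib.RuAut.CoverTwo

set_option autoImplicit false
open Cfsg

namespace Cfsg.Agent.S2051

/-- The Schur multiplier of the Rudvalis group (the unitary automorphism group of the rank-28 Gaussian lattice modulo its centre) is cyclic of order 2; here the Schur multiplier is described through stem extensions, as in the definitions: surjective homomorphisms onto the group from a finite group, whose kernel is central in that finite group and contained in that finite group's commutator subgroup. -/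
theorem result : Cfsg.HasCyclicSchurMultiplier Cfsg.Spor.Ru 2 := by
  obtain ⟨iso⟩ := Cfsg.Agent.Presented.RuIso.exists_iso
  -- the bound for stem extensions of Ru
  have upper : ∀ (Γ : Type) [Group Γ] (σ : Γ →* Cfsg.Spor.Ru), Cfsg.IsStemExtension σ →
      ∃ π : Multiplicative (ZMod 2) →* σ.ker, Function.Surjective π := by
    intro Γ _ σ hσ
    obtain ⟨hsurj, hc, hcomm⟩ := hσ
    let σ' := iso.symm.toMonoidHom.comp σ
    have hker : σ'.ker = σ.ker := by
      ext x
      rw [MonoidHom.mem_ker, MonoidHom.mem_ker, MonoidHom.comp_apply, MulEquiv.coe_toMonoidHom,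
        EmbeddingLike.map_eq_one_iff]
    obtain ⟨π, hπ⟩ := Cfsg.Agent.Presented.RuMultUpper.exists_surjection σ'
      ⟨iso.symm.surjective.comp hsurj, hker.symm ▸ hc, hker.symm ▸ hcomm⟩
    exact ⟨(MulEquiv.subgroupCongr hker).toMonoidHom.comp π, (MulEquiv.subgroupCongr hker).surjective.comp hπ⟩
  refine ⟨?_, fun Γ _ _ σ hσ => upper Γ σ hσ⟩
  haveI : Finite Cfsg.Spor.fourRu :=
    Nat.finite_of_card_ne_zero (by rw [Cfsg.Agent.RuAut.card_fourRu]; norm_num)
  obtain ⟨π, hπ⟩ := upper _ _ Cfsg.Agent.RuAut.coverHom_stem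
  refine ⟨_, inferInstance, inferInstance, Cfsg.Agent.RuAut.coverHom, Cfsg.Agent.RuAut.coverHom_stem,
    ⟨(MulEquiv.ofBijective π ⟨?_, hπ⟩).symm⟩⟩
  -- the kernel has at least two elements
  have h1 : 1 < Nat.card Cfsg.Agent.RuAut.coverHom.ker :=
    (Subgroup.one_lt_card_iff_ne_bot _).mpr Cfsg.Agent.RuAut.coverHom_ker_ne_bot
  have h2 : Nat.card (Multiplicative (ZMod 2)) = 2 := by
    rw [Nat.card_congr Multiplicative.toAdd, Nat.card_zmod]
  exact ((Function.Surjective.bijective_of_nat_card_le hπ (by omega))).injective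

end Cfsg.Agent.S2051
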