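import Cfsg.Statements.S2073
import Cfsg.Agent.Lib.McL275.Outer

set_option autoImplicit false
open Cfsg

namespace Cfsg.Agent.S2073

/-- The outer automorphism group of the McLaughlin group (as a two-vector stabiliser in the automorphism group of the rank-24 lattice) has order 2. -/
theorem result : Nat.card (Cfsg.Out ↥Cfsg.Spor.McL) = 2 := by
  obtain ⟨e⟩ := Cfsg.Agent.McL275.mcl_equiv_grp
  have h : (Inn ↥Spor.McL).map (MulAut.congr e).toMonoidHom = Inn ↥Cfsg.Agent.McL275.grp := by
    ext β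
    constructor
    · rintro ⟨_, ⟨a, rfl⟩, rfl⟩
      exact ⟨e a, by ext b; simp [MulAut.congr]⟩
    · rintro ⟨b, rfl⟩
      exact ⟨MulAut.conj (e.symm b), ⟨_, rfl⟩, by ext c; simp [MulAut.congr]⟩
  rw [Nat.card_congr (QuotientGroup.congr _ _ (MulAut.congr e) h).toEquiv]
  exact Cfsg.Agent.McL275.card_out_grp

end Cfsg.Agent.S2073
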