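import Cfsg.Statements.S2087
import Cfsg.Agent.Lib.GL.Basic
import Cfsg.Agent.Lib.Schur.Stem

/-!
The Schur multiplier of `PSL₃(2)` has order 2: `SL₂(7)` is a double cover (an explicit table-free
homomorphism through the Bruhat decomposition), and transfer bounds every stem extension.
-/

set_option autoImplicit false
set_option maxRecDepth 100000
open Cfsg

namespace Cfsg.Agent.S2087

open Subgroup Matrix
open scoped MatrixGroups commutatorElement

abbrev M3 : Type := SpecialLinearGroup (Fin 3) (ZMod 2)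
abbrev K7 : Type := ZMod 7

def mk3 (A : Matrix (Fin 3) (Fin 3) (ZMod 2)) (h : A.det = 1) : M3 := ⟨A, h⟩

def upM : Fin 7 → Matrix (Fin 3) (Fin 3) (ZMod 2) := ![
  !![1, 0, 0; 0, 1, 0; 0, 0, 1], !![0, 1, 1; 1, 1, 0; 1, 0, 0], !![0, 1, 0; 1, 0, 1; 0, 1, 1],
  !![1, 1, 0; 1, 1, 1; 0, 1, 0], !![1, 0, 1; 0, 0, 1; 1, 1, 0], !![1, 1, 1; 1, 0, 0; 1, 0, 1],
  !![0, 0, 1; 0, 1, 1; 1, 1, 1]]

def tpM : Fin 3 → Matrix (Fin 3) (Fin 3) (ZMod 2) := ![
  !![1, 0, 0; 0, 1, 0; 0, 0, 1], !![1, 0, 1; 1, 1, 1; 1, 0, 0], !![0, 0, 1; 1, 1, 0; 1, 0, 1]]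

def wM : Matrix (Fin 3) (Fin 3) (ZMod 2) := !![0, 0, 1; 1, 1, 1; 1, 0, 0]

/-- Inverses in `𝔽₇`. -/
def iv : Fin 7 → K7 := ![0, 1, 4, 5, 2, 3, 6]

/-- Logarithm to base 3 in `𝔽₇`, modulo 3. -/
def lg : Fin 7 → Fin 3 := ![0, 0, 2, 1, 1, 2, 0]

/-- The image of the matrix `!![a, b; c, d]` of determinant 1. -/
def F (a b c d : K7) : Matrix (Fin 3) (Fin 3) (ZMod 2) :=
  if c = 0 then tpM (lg a) * upM (b * iv a)
  else upM (a * iv c) * wM * tpM (lg c) * upM (d * iv c)

theorem F_step : ∀ a b c : K7, ∀ d : K7, a * d - b * c = 1 →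
    F a (a + b) c (c + d) = F a b c d * upM 1 ∧ F b (6 * a) d (6 * c) = F a b c d * wM ∧
    (F a b c d).det = 1 ∧
    (F a b c d = 1 → (a = 1 ∧ b = 0 ∧ c = 0 ∧ d = 1) ∨ (a = 6 ∧ b = 0 ∧ c = 0 ∧ d = 6)) := by
  simp only [Matrix.det_fin_three]
  decide +kernel

theorem F_of (g : SL(2, K7)) :
    g 0 0 * g 1 1 - g 0 1 * g 1 0 = 1 := by
  rw [← Matrix.det_fin_two]; exact g.2

def f (g : SL(2, K7)) : M3 :=
  ⟨F (g 0 0) (g 0 1) (g 1 0) (g 1 1), (F_step _ _ _ _ (F_of g)).2.2.1⟩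

theorem f_val (g : SL(2, K7)) : (f g).1 = F (g 0 0) (g 0 1) (g 1 0) (g 1 1) := rfl

/-- The underlying matrix, as a monoid homomorphism. -/
def mat {n : ℕ} {R : Type*} [CommRing R] :
    SpecialLinearGroup (Fin n) R →* Matrix (Fin n) (Fin n) R where
  toFun g := g.1
  map_one' := rfl
  map_mul' _ _ := rfl

theorem mat_inj {n : ℕ} {R : Type*} [CommRing R] {a b : SpecialLinearGroup (Fin n) R}
    (h : mat a = mat b) : a = b := Subtype.ext h

theorem mat_apply {n : ℕ} {R : Type*} [CommRing R] (g : SpecialLinearGroup (Fin n) R) :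
    mat g = g.1 := rfl

def uu : SL(2, K7) := ⟨!![1, 1; 0, 1], by decide⟩
def ww : SL(2, K7) := ⟨!![0, 6; 1, 0], by decide⟩

theorem mat_f (g : SL(2, K7)) :
    mat (f g) = F (mat g 0 0) (mat g 0 1) (mat g 1 0) (mat g 1 1) := rfl

theorem mat_uu : mat uu = !![1, 1; 0, 1] := rfl
theorem mat_ww : mat ww = !![0, 6; 1, 0] := rfl

theorem F_uu : F (1 : K7) 1 0 1 = upM 1 := by decide +kernel
theorem F_ww : F (0 : K7) 6 1 0 = wM := by decide +kernel

theorem f_uu (g : SL(2, K7)) : f (g * uu) = f g * f uu := by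
  apply mat_inj
  rw [map_mul, mat_f, mat_f, mat_f, map_mul, mat_uu]
  simp only [Matrix.mul_apply, Fin.sum_univ_two, Matrix.of_apply, Matrix.cons_val',
    Matrix.cons_val_zero, Matrix.cons_val_one, Matrix.empty_val', Matrix.cons_val_fin_one, mul_one,
    mul_zero, add_zero]
  rw [F_uu]
  exact (F_step _ _ _ _ (F_of g)).1

theorem f_ww (g : SL(2, K7)) : f (g * ww) = f g * f ww := by
  apply mat_inj
  rw [map_mul, mat_f, mat_f, mat_f, map_mul, mat_ww]
  simp only [Matrix.mul_apply, Fin.sum_univ_two, Matrix.of_apply, Matrix.cons_val',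
    Matrix.cons_val_zero, Matrix.cons_val_one, Matrix.empty_val', Matrix.cons_val_fin_one, mul_one,
    mul_zero, add_zero, zero_add]
  rw [F_ww, mul_comm (mat g 0 0) 6, mul_comm (mat g 1 0) 6]
  exact (F_step _ _ _ _ (F_of g)).2.1

def t3 : SL(2, K7) := uu ^ 4 * ww * uu ^ 2 * ww * uu ^ 4 * ww

/-- Logarithm to base 3 in `𝔽₇`. -/
def lg6 : Fin 7 → ℕ := ![0, 0, 2, 1, 4, 5, 3]

/-- Bruhat decomposition as a word in `uu, ww, t3`. -/
def word (a b c d : K7) : SL(2, K7) :=
  if c = 0 then t3 ^ lg6 a * uu ^ (b * iv a : K7).val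
  else uu ^ (a * iv c : K7).val * ww * t3 ^ lg6 c * uu ^ (d * iv c : K7).val

theorem uu_pow : ∀ x : K7, (uu ^ x.val : SL(2, K7)).1 = !![1, x; 0, 1] := by decide +kernel

theorem t3_pow : ∀ x : K7, (t3 ^ lg6 x : SL(2, K7)).1 = !![3 ^ lg6 x, 0; 0, 5 ^ lg6 x] := by
  decide +kernel

/-- The same word, multiplied out. -/
def wordM (a b c d : K7) : Matrix (Fin 2) (Fin 2) K7 :=
  if c = 0 then !![3 ^ lg6 a, 0; 0, 5 ^ lg6 a] * !![1, b * iv a; 0, 1]
  else !![1, a * iv c; 0, 1] * !![0, 6; 1, 0] * !![3 ^ lg6 c, 0; 0, 5 ^ lg6 c] *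
    !![1, d * iv c; 0, 1]

theorem wordM_spec : ∀ a b c : K7, ∀ d : K7, a * d - b * c = 1 →
    wordM a b c d = !![a, b; c, d] := by
  decide +kernel

theorem word_spec (a b c d : K7) (h : a * d - b * c = 1) :
    mat (word a b c d) = !![a, b; c, d] := by
  rw [← wordM_spec a b c d h]
  unfold word wordM
  split
  · rw [map_mul, mat_apply, mat_apply, t3_pow, uu_pow]
  · rw [map_mul, map_mul, map_mul, mat_apply, mat_apply, mat_apply, mat_apply, t3_pow, uu_pow, uu_pow]
    rfl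

theorem generated (S : Submonoid SL(2, K7)) (hu : uu ∈ S) (hw : ww ∈ S) (g : SL(2, K7)) :
    g ∈ S := by
  have ht : t3 ∈ S :=
    mul_mem (mul_mem (mul_mem (mul_mem (mul_mem (pow_mem hu _) hw) (pow_mem hu _)) hw) (pow_mem hu _)) hw
  have h : word (g 0 0) (g 0 1) (g 1 0) (g 1 1) = g := by
    apply mat_inj
    rw [word_spec _ _ _ _ (F_of g)]
    exact (Matrix.eta_fin_two _).symm
  rw [← h, word]
  split
  · exact mul_mem (pow_mem ht _) (pow_mem hu _)
  · exact mul_mem (mul_mem (mul_mem (pow_mem hu _) hw) (pow_mem ht _)) (pow_mem hu _)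

theorem F_one : F (1 : K7) 0 0 1 = 1 := by decide +kernel

theorem f_one : f 1 = 1 := by
  apply mat_inj
  rw [mat_f, map_one, map_one, Matrix.one_apply_eq, Matrix.one_apply_eq,
    Matrix.one_apply_ne (show (0 : Fin 2) ≠ 1 by decide),
    Matrix.one_apply_ne (show (1 : Fin 2) ≠ 0 by decide), F_one]

theorem f_mul (g h : SL(2, K7)) : f (g * h) = f g * f h := by
  let S : Submonoid SL(2, K7) :=
    { carrier := {h | ∀ g, f (g * h) = f g * f h}
      one_mem' := fun g => by rw [mul_one, f_one, mul_one]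
      mul_mem' := fun {a b} ha hb g => by rw [← mul_assoc, hb, ha, hb a, mul_assoc] }
  exact generated S f_uu f_ww h g

def cover : SL(2, K7) →* M3 := MonoidHom.mk' f f_mul

/-! ### The target group -/

theorem card_M3 : Nat.card M3 = 168 := by
  rw [GL.card_SL_prod, ZMod.card]
  rfl

/-- The upper unitriangular matrices. -/
def Q8 : Subgroup M3 where
  carrier := {g | g 1 0 = 0 ∧ g 2 0 = 0 ∧ g 2 1 = 0}
  one_mem' := by decide
  mul_mem' := by
    rintro a b ⟨a1, a2, a3⟩ ⟨b1, b2, b3⟩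
    simp [Matrix.mul_apply, Fin.sum_univ_three, a1, a2, a3, b1, b2, b3]
  inv_mem' := by
    rintro a ⟨a1, a2, a3⟩
    simp [SpecialLinearGroup.coe_inv, Matrix.adjugate_fin_three, a1, a2, a3]

def rr : M3 := ⟨!![1, 1, 0; 0, 1, 1; 0, 0, 1], by simp [Matrix.det_fin_three]⟩
def ss : M3 := ⟨!![1, 1, 0; 0, 1, 0; 0, 0, 1], by simp [Matrix.det_fin_three]⟩

theorem Q8_entries : ∀ x y z : ZMod 2, ∃ i : Fin 4, ∃ j : Fin 2,
    (!![1, x, y; 0, 1, z; 0, 0, 1] : Matrix (Fin 3) (Fin 3) (ZMod 2)) =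
      rr.1 ^ (i : ℕ) * ss.1 ^ (j : ℕ) := by
  decide +kernel

theorem Q8_diag : ∀ a b c : ZMod 2, a * b * c = 1 → a = 1 ∧ b = 1 ∧ c = 1 := by decide

theorem Q8_word {g : M3} (hg : g ∈ Q8) : ∃ i j : ℕ, g = rr ^ i * ss ^ j := by
  obtain ⟨h1, h2, h3⟩ := hg
  have hd := g.2
  rw [Matrix.det_fin_three] at hd
  simp only [h1, h2, h3, mul_zero, zero_mul, sub_zero, add_zero] at hd
  obtain ⟨d0, d1, d2⟩ := Q8_diag _ _ _ hd
  obtain ⟨i, j, hij⟩ := Q8_entries (g 0 1) (g 0 2) (g 1 2)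
  refine ⟨i, j, mat_inj ?_⟩
  rw [map_mul, map_pow, map_pow, mat_apply rr, mat_apply ss, ← hij, mat_apply]
  ext k l
  fin_cases k <;> fin_cases l <;> simp [h1, h2, h3, d0, d1, d2]

theorem card_Q8 : Nat.card Q8 = 8 := by
  let e : Q8 ≃ ZMod 2 × ZMod 2 × ZMod 2 :=
    { toFun := fun g => (g.1 0 1, g.1 0 2, g.1 1 2)
      invFun := fun t => ⟨⟨!![1, t.1, t.2.1; 0, 1, t.2.2; 0, 0, 1], by simp [Matrix.det_fin_three]⟩,
        ⟨rfl, rfl, rfl⟩⟩
      left_inv := fun g => by
        obtain ⟨g, h1, h2, h3⟩ := g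
        have hd := g.2
        rw [Matrix.det_fin_three] at hd
        simp only [h1, h2, h3, mul_zero, zero_mul, sub_zero, add_zero] at hd
        obtain ⟨d0, d1, d2⟩ := Q8_diag _ _ _ hd
        apply Subtype.ext
        apply Subtype.ext
        ext k l
        fin_cases k <;> fin_cases l <;> simp [h1, h2, h3, d0, d1, d2]
      right_inv := fun t => by simp }
  rw [Nat.card_congr e]
  simp

theorem isPGroup_Q8 : IsPGroup 2 Q8 := IsPGroup.of_card (n := 3) card_Q8

theorem rr_sq : rr ^ 4 = 1 ∧ ss ^ 2 = 1 ∧ ss * rr * ss⁻¹ = rr⁻¹ := by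
  have h2 : ss ^ 2 = 1 := mat_inj (by rw [map_pow, map_one, mat_apply]; decide +kernel)
  have h4 : rr ^ 4 = 1 := mat_inj (by rw [map_pow, map_one, mat_apply]; decide +kernel)
  have hs : ss⁻¹ = ss := inv_eq_of_mul_eq_one_right (by rw [← pow_two, h2])
  have h3 : rr * (ss * rr * ss) = 1 := mat_inj (by
    rw [map_mul, map_mul, map_mul, map_one, mat_apply, mat_apply]
    decide +kernel)
  refine ⟨h4, h2, ?_⟩
  rw [hs]
  exact (inv_eq_of_mul_eq_one_right h3).symm

theorem rr2_ne : rr.1 ^ 2 ≠ 1 := by decide +kernel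

universe u

section Bound

variable {Γ : Type u} [Group Γ] [Finite Γ] (σ : Γ →* M3)

/-- The commutator subgroup of a Sylow 2-subgroup meets the kernel in a group of order at most 2. -/
theorem card_two_part (hσ : Function.Surjective σ) (hz : σ.ker ≤ center Γ) :
    ∃ P : Sylow 2 Γ, Nat.card ↥(⁅(P : Subgroup Γ), (P : Subgroup Γ)⁆ ⊓ σ.ker) ≤ 2 := by
  have : Fact (Nat.Prime 2) := ⟨Nat.prime_two⟩
  obtain ⟨P, hP⟩ := Schur.exists_sylow_le_map σ hσ isPGroup_Q8
  refine ⟨P, ?_⟩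
  have hPQ : (P : Subgroup Γ).map σ = Q8 := by
    symm
    refine eq_of_le_of_card_ge hP ?_
    obtain ⟨n, hn⟩ := (P.2.map σ).exists_card_eq
    have hd : Nat.card ((P : Subgroup Γ).map σ) ∣ 168 := card_M3 ▸ card_subgroup_dvd_card _
    rw [hn] at hd ⊢
    rw [card_Q8]
    by_contra hlt
    rw [not_le] at hlt
    have h4 : 2 ^ 4 ∣ 2 ^ n := Nat.pow_dvd_pow 2 (by
      by_contra h'
      have := Nat.pow_le_pow_right (show 0 < 2 by norm_num) (show n ≤ 3 by omega)
      omega)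
    exact absurd (h4.trans hd) (by decide)
  obtain ⟨hr4, hs2, hsr⟩ := rr_sq
  obtain ⟨r, hr, hrσ⟩ : rr ∈ (P : Subgroup Γ).map σ := by rw [hPQ]; exact ⟨rfl, rfl, rfl⟩
  obtain ⟨s, hs, hsσ⟩ : ss ∈ (P : Subgroup Γ).map σ := by rw [hPQ]; exact ⟨rfl, rfl, rfl⟩
  have central : ∀ {k : Γ}, σ k = 1 → ∀ g, Commute g k := fun hk g => mem_center_iff.1 (hz hk) g
  set c := r * s * r⁻¹ * s⁻¹ with hc
  have hσc : σ c = rr ^ 2 := by
    rw [hc, map_mul, map_mul, map_mul, map_inv, map_inv, hrσ, hsσ]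
    calc rr * ss * rr⁻¹ * ss⁻¹ = rr * (ss * rr * ss⁻¹)⁻¹ := by group
      _ = rr ^ 2 := by rw [hsr, inv_inv, pow_two]
  have hcr : Commute r c := by
    have h1 : σ (c * (r ^ 2)⁻¹) = 1 := by rw [map_mul, map_inv, map_pow, hσc, hrσ, mul_inv_cancel]
    have h2 := (central h1 r).mul_right (Commute.self_pow r 2)
    rwa [inv_mul_cancel_right] at h2
  have hs2k : ∀ g, Commute g (s * s) :=
    central (by rw [map_mul, hsσ, ← pow_two, hs2])
  have hcs : s * c * s⁻¹ = c⁻¹ := by
    calc s * c * s⁻¹ = s * r * s * r⁻¹ * (s * s)⁻¹ := by rw [hc]; group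
      _ = s * r * s * ((s * s)⁻¹ * r⁻¹) := by
        rw [mul_assoc (s * r * s), ((hs2k r⁻¹).inv_right).eq]
      _ = c⁻¹ := by rw [hc]; group
  set N : Subgroup Γ := zpowers c with hN
  -- commutators of `P` lie in `N`
  have hPN : ⁅(P : Subgroup Γ), (P : Subgroup Γ)⁆ ≤ N := by
    set W := normalizer (N : Set Γ) with hW
    have hrW : r ∈ W := centralizer_le_normalizer _ (mem_centralizer_iff.2 fun x hx => by
      obtain ⟨i, rfl⟩ := hx
      exact (hcr.zpow_right i).eq.symm)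
    have hsW : s ∈ W := mem_normalizer_iff.2 fun x => by
      constructor
      · rintro ⟨i, rfl⟩
        refine ⟨-i, ?_⟩
        show c ^ (-i) = s * c ^ i * s⁻¹
        rw [← conj_zpow, hcs, _root_.inv_zpow, _root_.zpow_neg]
      · rintro ⟨i, hi⟩
        refine ⟨-i, ?_⟩
        show c ^ (-i) = x
        have hi' : c ^ i = s * x * s⁻¹ := hi
        have : s * c ^ (-i) * s⁻¹ = s * x * s⁻¹ := by
          rw [← conj_zpow, hcs, _root_.inv_zpow, _root_.zpow_neg, inv_inv, hi']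
        exact mul_left_cancel (mul_right_cancel this)
    have hgen : (P : Subgroup Γ) ≤ closure {r, s} ⊔ σ.ker := by
      intro g hg
      obtain ⟨i, j, hij⟩ := Q8_word (show σ g ∈ Q8 by rw [← hPQ]; exact mem_map_of_mem σ hg)
      have h1 : (r ^ i * s ^ j)⁻¹ * g ∈ σ.ker := by
        rw [MonoidHom.mem_ker, map_mul, map_inv, map_mul, map_pow, map_pow, hrσ, hsσ, ← hij,
          inv_mul_cancel]
      have h2 : r ^ i * s ^ j ∈ closure ({r, s} : Set Γ) :=
        mul_mem (pow_mem (subset_closure (by simp)) _) (pow_mem (subset_closure (by simp)) _)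
      have := mul_mem (mem_sup_left (T := σ.ker) h2) (mem_sup_right (S := closure ({r, s} : Set Γ)) h1)
      rwa [mul_inv_cancel_left] at this
    have hkW : σ.ker ≤ W := fun k hk => centralizer_le_normalizer _ (mem_centralizer_iff.2 fun x _ =>
      (central hk x).eq)
    have hle : closure {r, s} ⊔ σ.ker ≤ W :=
      sup_le ((closure_le _).2 (by rintro x (rfl | rfl); exacts [hrW, hsW])) hkW
    have : (N.subgroupOf W).Normal := normal_subgroupOf_of_le_normalizer le_rfl
    let π := QuotientGroup.mk' (N.subgroupOf W)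
    have hrs : Commute (π ⟨r, hrW⟩) (π ⟨s, hsW⟩) := by
      show π ⟨r, hrW⟩ * π ⟨s, hsW⟩ = π ⟨s, hsW⟩ * π ⟨r, hrW⟩
      rw [← map_mul, ← map_mul]
      refine QuotientGroup.eq.2 ?_
      show (r * s)⁻¹ * (s * r) ∈ N
      have hconj : s⁻¹ * c⁻¹ * s = c := by
        rw [← hcs]; group
      refine ⟨1, ?_⟩
      show c ^ (1 : ℤ) = _
      rw [zpow_one]
      have h1 : r⁻¹ * c⁻¹ * r = c⁻¹ := by
        rw [mul_assoc, (hcr.inv_right).symm.eq, inv_mul_cancel_left]
      calc c = s⁻¹ * c⁻¹ * s := hconj.symm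
        _ = s⁻¹ * (r⁻¹ * c⁻¹ * r) * s := by rw [h1]
        _ = (r * s)⁻¹ * (s * r) := by rw [hc]; group
    let Z : Subgroup (W ⧸ N.subgroupOf W) :=
      closure ({π ⟨r, hrW⟩, π ⟨s, hsW⟩} : Set _) ⊔ (σ.ker.subgroupOf W).map π
    have hZ : ∀ a ∈ Z, ∀ b ∈ Z, a * b = b * a := by
      have hle' : Z ≤ centralizer (Z : Set (W ⧸ N.subgroupOf W)) := by
        have hk : ∀ a ∈ (σ.ker.subgroupOf W).map π, ∀ b, b * a = a * b := by
          rintro _ ⟨k, hk, rfl⟩ b
          obtain ⟨b, rfl⟩ := QuotientGroup.mk'_surjective _ b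
          rw [← map_mul, ← map_mul]
          exact congrArg π (Subtype.ext (central hk (b : Γ)).eq)
        rw [le_centralizer_iff]
        refine sup_le ((closure_le _).2 ?_) fun a ha => mem_centralizer_iff.2 fun b _ => hk a ha b
        intro x hx
        rw [SetLike.mem_coe, mem_centralizer_iff]
        intro b hb
        have : Z ≤ centralizer ({x} : Set (W ⧸ N.subgroupOf W)) := by
          refine sup_le ((closure_le _).2 ?_) fun a ha => mem_centralizer_singleton_iff.2 (hk a ha x).symm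
          intro y hy
          refine mem_centralizer_singleton_iff.2 ?_
          rcases hx with rfl | rfl <;> rcases hy with rfl | rfl
          exacts [rfl, hrs.eq.symm, hrs.eq, rfl]
        exact mem_centralizer_singleton_iff.1 (this hb)
      exact fun a ha b hb => (mem_centralizer_iff.1 (hle' hb) a ha)
    rw [commutator_le]
    intro a ha b hb
    have hmem : ∀ x, x ∈ closure ({r, s} : Set Γ) ⊔ σ.ker → ∃ hx : x ∈ W, π ⟨x, hx⟩ ∈ Z := by
      intro x hx
      refine ⟨hle hx, ?_⟩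
      have h1 : closure {r, s} ⊔ σ.ker ≤ (Z.comap π).map W.subtype := by
        refine sup_le ((closure_le _).2 ?_) fun k hk => ?_
        · rintro y (rfl | rfl)
          · exact ⟨⟨y, hrW⟩, mem_sup_left (subset_closure (by simp)), rfl⟩
          · exact ⟨⟨y, hsW⟩, mem_sup_left (subset_closure (by simp)), rfl⟩
        · exact ⟨⟨k, hkW hk⟩, mem_sup_right (mem_map_of_mem π hk), rfl⟩
      obtain ⟨y, hy, hyx⟩ := h1 hx
      rwa [show (⟨x, hle hx⟩ : W) = y from Subtype.ext hyx.symm]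
    obtain ⟨haW, haZ⟩ := hmem a (hgen ha)
    obtain ⟨hbW, hbZ⟩ := hmem b (hgen hb)
    have h1 : π ⁅(⟨a, haW⟩ : W), ⟨b, hbW⟩⁆ = 1 := by
      rw [map_commutatorElement, commutatorElement_eq_one_iff_mul_comm]
      exact hZ _ haZ _ hbZ
    exact (QuotientGroup.eq_one_iff (N := N.subgroupOf W) ⁅(⟨a, haW⟩ : W), ⟨b, hbW⟩⁆).1 h1
  -- `c ^ 2` is central, so `c ^ 4 = 1`
  have hc2 : σ (c ^ 2) = 1 := by rw [map_pow, hσc, ← pow_mul]; exact hr4
  have hc4 : (c ^ 2) ^ 2 = 1 := by
    have h1 : s * c ^ 2 * s⁻¹ = c ^ 2 := by rw [(central hc2 s).eq, mul_inv_cancel_right]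
    rw [← conj_pow, hcs, inv_pow] at h1
    rw [pow_two]
    nth_rewrite 1 [← h1]
    exact inv_mul_cancel _
  have hle2 : ⁅(P : Subgroup Γ), (P : Subgroup Γ)⁆ ⊓ σ.ker ≤ zpowers (c ^ 2) := by
    intro x hx
    obtain ⟨i, rfl⟩ := hPN hx.1
    rcases Int.even_or_odd i with ⟨j, rfl⟩ | ⟨j, rfl⟩
    · refine ⟨j, ?_⟩
      show (c ^ 2) ^ j = c ^ (j + j)
      rw [← zpow_natCast, ← _root_.zpow_mul]; congr 1; push_cast; ring
    · exfalso
      have h1 : σ (c ^ (2 * j + 1)) = 1 := hx.2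
      rw [_root_.zpow_add_one, map_mul, _root_.zpow_mul, map_zpow, _root_.zpow_two, ← pow_two, hc2, _root_.one_zpow,
        one_mul, hσc] at h1
      have h2 : mat (rr ^ 2) = mat 1 := by rw [h1]
      rw [map_pow, map_one, mat_apply] at h2
      exact rr2_ne h2
  refine (card_le_of_le hle2).trans ?_
  rw [Nat.card_zpowers]
  exact orderOf_le_of_pow_eq_one two_pos hc4

theorem card_ker_le (hσ : Cfsg.IsStemExtension σ) : Nat.card σ.ker ≤ 2 := by
  obtain ⟨hs, hz, hc⟩ := hσ
  -- no element of odd prime order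
  have hodd : ∀ x ∈ σ.ker, ∀ p : ℕ, p.Prime → p ≠ 2 → orderOf x ≠ p := by
    intro x hx p hp hp2 hxp
    have : Fact p.Prime := ⟨hp⟩
    let P : Sylow p Γ := default
    have hcyc : IsCyclic ((P : Subgroup Γ).map σ) := by
      obtain ⟨n, hn⟩ := (P.2.map σ).exists_card_eq
      have hd : p ^ n ∣ 168 := hn ▸ (card_M3 ▸ card_subgroup_dvd_card ((P : Subgroup Γ).map σ))
      match n, hn, hd with
      | 0, hn, _ =>
        rw [pow_zero] at hn
        have := (Nat.card_eq_one_iff_unique.1 hn).1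
        exact isCyclic_of_subsingleton
      | 1, hn, _ => exact isCyclic_of_prime_card (p := p) (by rw [hn, pow_one])
      | n + 2, _, hd =>
        exfalso
        have h1 : p ^ 2 ∣ 168 := (pow_dvd_pow p (by omega)).trans hd
        have h2 : p * p ≤ 168 := by rw [← pow_two]; exact Nat.le_of_dvd (by norm_num) h1
        have h3 : p ≤ 12 := by nlinarith
        interval_cases p <;> first | omega | (revert hp; decide)
    have h1 := Schur.pow_index_mem_commutator (P : Subgroup Γ) (hz hx) (hc hx)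
    rw [Schur.commutator_eq_bot_of_isCyclic σ hz (P : Subgroup Γ), mem_bot] at h1
    have h2 := orderOf_dvd_of_pow_eq_one h1
    rw [hxp] at h2
    exact P.not_dvd_index h2
  obtain ⟨P, hP⟩ := card_two_part σ hs hz
  have : Fact (Nat.Prime 2) := ⟨Nat.prime_two⟩
  let m := (P : Subgroup Γ).index
  let φ : σ.ker → ↥(⁅(P : Subgroup Γ), (P : Subgroup Γ)⁆ ⊓ σ.ker) := fun x =>
    ⟨(x : Γ) ^ m, Schur.pow_index_mem_commutator _ (hz x.2) (hc x.2), pow_mem x.2 _⟩
  refine le_trans (Nat.card_le_card_of_injective φ fun x y hxy => ?_) hP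
  have h1 : (x : Γ) ^ m = (y : Γ) ^ m := congrArg Subtype.val hxy
  apply Subtype.ext
  by_contra hne
  set d := (x : Γ) * (y : Γ)⁻¹ with hd
  have hd1 : d ≠ 1 := fun h => hne (mul_inv_eq_one.1 h)
  have hcomm : Commute (x : Γ) ((y : Γ)⁻¹) := (mem_center_iff.1 (hz (inv_mem y.2)) (x : Γ))
  have hdm : d ^ m = 1 := by rw [hd, hcomm.mul_pow, h1, inv_pow, mul_inv_cancel]
  obtain ⟨q, hq, hqd⟩ := Nat.exists_prime_and_dvd (fun h => hd1 (orderOf_eq_one_iff.1 h))
  have hdk : d ∈ σ.ker := mul_mem x.2 (inv_mem y.2)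
  by_cases hq2 : q = 2
  · subst hq2
    exact P.not_dvd_index (hqd.trans (orderOf_dvd_of_pow_eq_one hdm))
  · exact hodd (d ^ (orderOf d / q)) (pow_mem hdk _) q hq hq2
      (orderOf_pow_orderOf_div (orderOf_pos d).ne' hqd)

end Bound

theorem cover_ker (g : SL(2, K7)) (h : cover g = 1) : g = 1 ∨ g = -1 := by
  have h1 : F (g 0 0) (g 0 1) (g 1 0) (g 1 1) = 1 := congrArg Subtype.val h
  rcases (F_step _ _ _ _ (F_of g)).2.2.2 h1 with ⟨a, b, c, d⟩ | ⟨a, b, c, d⟩
  · left; apply Subtype.ext; ext i j; fin_cases i <;> fin_cases j <;> simp [a, b, c, d]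
  · right; apply Subtype.ext; ext i j; fin_cases i <;> fin_cases j <;>
      simp [a, b, c, d] <;> decide

theorem cover_stem : Function.Surjective cover ∧ cover.ker ≤ center SL(2, K7) ∧
    cover.ker ≤ _root_.commutator SL(2, K7) ∧ Nat.card cover.ker = 2 := by
  have hneg : cover (-1) = 1 := by
    apply mat_inj
    show mat (f (-1)) = mat 1
    rw [mat_f, map_one]
    simp only [mat_apply, SpecialLinearGroup.coe_neg, Matrix.neg_apply,
      Matrix.one_apply_ne (show (0 : Fin 2) ≠ 1 by decide),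
      Matrix.one_apply_ne (show (1 : Fin 2) ≠ 0 by decide), neg_zero]
    decide +kernel
  have hne : (-1 : SL(2, K7)) ≠ 1 := fun h => absurd
    (congrArg (fun g : SL(2, K7) => g 0 0) h) (by simp; decide)
  have hker : Nat.card cover.ker = 2 := by
    refine Nat.card_eq_two_iff.2 ⟨1, ⟨-1, hneg⟩, fun h => hne (congrArg Subtype.val h).symm, ?_⟩
    rw [Set.eq_univ_iff_forall]
    rintro ⟨g, hg⟩
    rcases cover_ker g hg with rfl | rfl
    · exact Or.inl rfl
    · exact Or.inr rfl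
  refine ⟨?_, ?_, ?_, hker⟩
  · have hcard : Nat.card SL(2, K7) = 336 := by
      have : Fact (Nat.Prime 7) := ⟨by norm_num⟩
      rw [GL.card_SL2, ZMod.card]
      norm_num
    have h1 := cover.ker.card_mul_index
    rw [hker, hcard, index_ker] at h1
    rw [← MonoidHom.range_eq_top]
    exact eq_top_of_card_eq _ (by rw [card_M3]; omega)
  · intro g hg
    rcases cover_ker g hg with rfl | rfl
    · exact one_mem _
    · exact mem_center_iff.2 fun x => Subtype.ext (by simp)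
  · intro g hg
    rcases cover_ker g hg with rfl | rfl
    · exact one_mem _
    · let i : SL(2, K7) := ⟨!![0, 6; 1, 0], by decide⟩
      let j : SL(2, K7) := ⟨!![2, 3; 3, 5], by decide⟩
      have : (-1 : SL(2, K7)) = ⁅i, j⁆ := by
        rw [commutatorElement_def]
        apply Subtype.ext
        simp only [SpecialLinearGroup.coe_mul, SpecialLinearGroup.coe_inv, SpecialLinearGroup.coe_neg,
          SpecialLinearGroup.coe_one, i, j, Matrix.adjugate_fin_two_of]
        decide +kernel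
      rw [this]
      exact commutator_mem_commutator (mem_top i) (mem_top j)

/-- Exceptional Schur multiplier: over the field with 2 elements, PSL₃ has Schur multiplier cyclic of order 2 (here the Schur multiplier is described through stem extensions, as in the definitions). -/
theorem result {F : Type*} [Field F] [Fintype F] (hF : Fintype.card F = 2) : Cfsg.HasCyclicSchurMultiplier (Matrix.ProjectiveSpecialLinearGroup (Fin 3) F) 2 := by
  classical
  let ε : ZMod 2 ≃+* F := ZMod.ringEquivOfPrime F Nat.prime_two hF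
  let φ : M3 →* Matrix.ProjectiveSpecialLinearGroup (Fin 3) F :=
    (QuotientGroup.mk' _).comp (SpecialLinearGroup.map (ε : ZMod 2 →+* F))
  have hc : Nat.card (center (SpecialLinearGroup (Fin 3) F)) = 1 := by
    rw [GL.card_center_SL, hF, Fintype.card_fin]; rfl
  have hcb : center (SpecialLinearGroup (Fin 3) F) = ⊥ := Subgroup.eq_bot_of_card_eq _ hc
  have hbij : Function.Bijective φ := by
    constructor
    · intro a b hab
      have h1 := QuotientGroup.eq.1 hab
      rw [hcb, mem_bot, inv_mul_eq_one] at h1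
      apply Subtype.ext
      ext i j
      have := congrArg (fun g : SpecialLinearGroup (Fin 3) F => g i j) h1
      exact ε.injective (by simpa using this)
    · intro y
      obtain ⟨g, rfl⟩ := QuotientGroup.mk'_surjective _ y
      exact ⟨SpecialLinearGroup.map (ε.symm : F →+* ZMod 2) g,
        congrArg (QuotientGroup.mk' _) (Subtype.ext (by ext i j; simp))⟩
  let e : M3 ≃* Matrix.ProjectiveSpecialLinearGroup (Fin 3) F := MulEquiv.ofBijective φ hbij
  obtain ⟨hs, hz, hc', hk⟩ := cover_stem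
  refine ⟨⟨ULift SL(2, K7), inferInstance, inferInstance,
    (e.toMonoidHom.comp cover).comp MulEquiv.ulift.toMonoidHom, ⟨?_, ?_, ?_⟩, ?_⟩, ?_⟩
  · exact (e.surjective.comp hs).comp MulEquiv.ulift.surjective
  · intro x hx
    have h1 : x.down ∈ cover.ker := e.injective ((hx : e (cover x.down) = 1).trans (map_one e).symm)
    exact mem_center_iff.2 fun y => ULift.ext _ _ (mem_center_iff.1 (hz h1) y.down)
  · intro x hx
    have h1 : x.down ∈ cover.ker := e.injective ((hx : e (cover x.down) = 1).trans (map_one e).symm)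
    have h2 := Subgroup.mem_map_of_mem (MulEquiv.ulift (α := SL(2, K7))).symm.toMonoidHom (hc' h1)
    rw [show (_root_.commutator SL(2, K7)) = ⁅(⊤ : Subgroup SL(2, K7)), ⊤⁆ from rfl,
      map_commutator] at h2
    exact Subgroup.commutator_mono le_top le_top h2
  · let e1 : ((e.toMonoidHom.comp cover).comp MulEquiv.ulift.toMonoidHom).ker ≃* cover.ker :=
      { toFun := fun x => ⟨x.1.down, e.injective ((x.2 : e (cover x.1.down) = 1).trans (map_one e).symm)⟩
        invFun := fun x => ⟨ULift.up x.1, by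
          show e (cover x.1) = 1
          rw [x.2, map_one]⟩
        left_inv := fun x => rfl
        right_inv := fun x => rfl
        map_mul' := fun x y => rfl }
    have : Fact (Nat.Prime 2) := ⟨Nat.prime_two⟩
    exact ⟨e1.trans (mulEquivOfPrimeCardEq (p := 2) hk
      (by rw [Nat.card_congr Multiplicative.toAdd, Nat.card_zmod]))⟩
  · intro Γ _ _ σ hσ
    let σ' : Γ →* M3 := e.symm.toMonoidHom.comp σ
    have hker : σ'.ker = σ.ker := MonoidHom.ker_mulEquiv_comp σ e.symm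
    have hσ' : Cfsg.IsStemExtension σ' :=
      ⟨e.symm.surjective.comp hσ.1, hker ▸ hσ.2.1, hker ▸ hσ.2.2⟩
    have hle : Nat.card σ.ker ≤ 2 := hker ▸ card_ker_le σ' hσ'
    have : Fact (Nat.Prime 2) := ⟨Nat.prime_two⟩
    rcases Nat.lt_or_ge (Nat.card σ.ker) 2 with h1 | h1
    · refine ⟨1, fun y => ⟨1, ?_⟩⟩
      have := (Finite.card_le_one_iff_subsingleton.1 (by omega : Nat.card σ.ker ≤ 1))
      exact Subsingleton.elim _ _
    · exact ⟨(mulEquivOfPrimeCardEq (p := 2) (by rw [Nat.card_congr Multiplicative.toAdd, Nat.card_zmod])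
        (le_antisymm hle h1)).toMonoidHom, MulEquiv.surjective _⟩

end Cfsg.Agent.S2087
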