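import Cfsg.Statements.S2100
import Cfsg.Agent.Lib.Chev.Steinberg.TorusMultiplier
import Cfsg.Agent.S2395

set_option autoImplicit false
open Cfsg

namespace Cfsg.Agent.S2100

/-- Schur multipliers of the Chevalley groups of type G₂: over a field with q ≥ 5 elements the Schur multiplier of G₂(q) is trivial (here the Schur multiplier is described through stem extensions, as in the definitions); the cases q = 3 and q = 4 are exceptional and q = 2 gives a non-simple group. -/
theorem result {F : Type*} [Field F] [Fintype F] (hF : 5 ≤ Fintype.card F) : Cfsg.HasCyclicSchurMultiplier ↥(Cfsg.Lie.chevG2.group F) 1 := by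
  classical
  have hD : Lie.chevG2 ∈ [Lie.chevG2, Lie.chevB2, Lie.chevD4, Lie.chevF4, Lie.chevE6, Lie.chevE7, Lie.chevE8] := by
    simp
  obtain ⟨tabs, simps, hf⟩ := Agent.Chev.BNSetup.exists_facts hD
  have hcard : 4 < (Finset.univ : Finset F).card := by rw [Finset.card_univ]; omega
  have hperf : commutator (Lie.chevG2.SteinbergCover F) = ⊤ :=
    Agent.S2395.result _ hD fun _ => by
      obtain ⟨x, -, hx⟩ := Finset.exists_mem_notMem_of_card_lt_card
        (show ({0, 1} : Finset F).card < (Finset.univ : Finset F).card from (Finset.card_le_two).trans_lt (by omega))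
      simp only [Finset.mem_insert, Finset.mem_singleton, not_or] at hx
      exact ⟨x, hx.1, hx.2⟩
  exact Agent.Chev.multiplier_trivial_of_splits (Agent.Chev.good_of_mem hD) hf (Agent.Chev.stData_of_mem _ hD) hperf
    (Agent.Chev.splitsCover_torus hD ⟨_, hcard⟩ hperf) _ Agent.Chev.BNSetup.kerCertG2_valid

end Cfsg.Agent.S2100
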