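import Cfsg.Statements.S2103
import Cfsg.Agent.Lib.Chev.Steinberg.SmallMultiplier
import Cfsg.Agent.S2395

set_option autoImplicit false
open Cfsg

namespace Cfsg.Agent.S2103

/-- Schur multipliers of the Chevalley groups of type F₄: over a finite field with more than 2 elements the Schur multiplier of F₄(q) is trivial (here the Schur multiplier is described through stem extensions, as in the definitions); q = 2 is exceptional. -/
theorem result {F : Type*} [Field F] [Fintype F] (hF : 3 ≤ Fintype.card F) : Cfsg.HasCyclicSchurMultiplier ↥(Cfsg.Lie.chevF4.group F) 1 := by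
  classical
  have hD : Lie.chevF4 ∈ [Lie.chevG2, Lie.chevB2, Lie.chevD4, Lie.chevF4, Lie.chevE6, Lie.chevE7, Lie.chevE8] := by
    simp
  obtain ⟨tabs, simps, hf⟩ := Agent.Chev.BNSetup.exists_facts hD
  have hperf : commutator (Lie.chevF4.SteinbergCover F) = ⊤ :=
    Agent.S2395.result _ hD fun h => by
      simp only [List.mem_cons, List.not_mem_nil, or_false] at h
      exfalso
      rcases h with h | h <;> exact absurd (congrArg Lie.ChevalleyDatum.rank h) (by decide)
  exact Agent.Chev.multiplier_trivial_of_splits (Agent.Chev.good_of_mem hD) hf (Agent.Chev.stData_of_mem _ hD) hperf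
    (Agent.Chev.splitsCover_three_le (by simp) hF hperf) _ Agent.Chev.BNSetup.kerCertF4_valid

end Cfsg.Agent.S2103
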