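import Cfsg.Statements.S2106
import Cfsg.Agent.Lib.Chev.Steinberg.Multiplier
import Cfsg.Agent.Lib.Chev.Steinberg.SimplyCheck
import Cfsg.Agent.Lib.Chev.Seven
import Cfsg.Agent.S2395

set_option autoImplicit false
open Cfsg

namespace Cfsg.Agent.S2106

/-- Schur multipliers of the (adjoint, simple) Chevalley groups of type E₇: over a field with q elements the Schur multiplier is cyclic of order gcd(2, q − 1) (here the Schur multiplier is described through stem extensions, as in the definitions). -/
theorem result {F : Type*} [Field F] [Fintype F] {q : ℕ} (hF : Fintype.card F = q) : Cfsg.HasCyclicSchurMultiplier ↥(Cfsg.Lie.chevE7.group F) (Nat.gcd 2 (q - 1)) := by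
  classical
  have hD : Lie.chevE7 ∈ [Lie.chevG2, Lie.chevB2, Lie.chevD4, Lie.chevF4, Lie.chevE6, Lie.chevE7, Lie.chevE8] := by
    simp
  have hG := Agent.Chev.good_of_mem hD
  obtain ⟨tabs, simps, hf⟩ := Agent.Chev.BNSetup.exists_facts hD
  have hst := Agent.Chev.stData_of_mem _ hD
  obtain ⟨e⟩ := Agent.Chev.rootEmb_E7
  have hperf : commutator (Lie.chevE7.SteinbergCover F) = ⊤ :=
    Agent.S2395.result _ hD fun h => by
      simp only [List.mem_cons, List.not_mem_nil, or_false] at h
      exfalso
      rcases h with h | h <;> exact absurd (congrArg Lie.ChevalleyDatum.rank h) (by decide)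
  refine Agent.Chev.hasCyclicSchurMultiplier_of_splits hG hf hst hperf
    (fun E G₁ _ _ π h1 h2 σ => Agent.Chev.exists_lift hG hf Agent.Chev.simplyData_E7 π h1 h2 σ) fun θ hθ => ?_
  obtain ⟨h1, h2⟩ := Agent.Chev.ker_cover_of_emb hG Agent.Chev.E8.good hf hst e (by decide)
    Agent.Chev.BNSetup.kerCertE7 Agent.Chev.BNSetup.kerCertE7_valid θ hθ
  refine ⟨h1, h2.trans ?_⟩
  rw [pow_one, hF]

end Cfsg.Agent.S2106
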