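import Cfsg.Statements.S2107
import Cfsg.Agent.Lib.Chev.Steinberg.Multiplier
import Cfsg.Agent.Lib.Chev.Steinberg.SimplyCheck
import Cfsg.Agent.Lib.Chev.Seven
import Cfsg.Agent.S2395

set_option autoImplicit false
open Cfsg

namespace Cfsg.Agent.S2107

/-- The identity as a root map. -/
def idEmb (D : Lie.ChevalleyDatum) : Agent.Chev.RootEmb D D :=
  ⟨id, fun _ h => h, fun _ _ _ _ h => h, fun _ _ => rfl, le_rfl, fun _ _ => rfl,
    fun _ _ _ _ => (List.map_id _).symm⟩

/-- Schur multipliers of the Chevalley groups of type E₈: over every finite field the Schur multiplier of E₈(q) is trivial (here the Schur multiplier is described through stem extensions, as in the definitions). -/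
theorem result {F : Type*} [Field F] [Fintype F] : Cfsg.HasCyclicSchurMultiplier ↥(Cfsg.Lie.chevE8.group F) 1 := by
  classical
  have hD : Lie.chevE8 ∈ [Lie.chevG2, Lie.chevB2, Lie.chevD4, Lie.chevF4, Lie.chevE6, Lie.chevE7, Lie.chevE8] := by
    simp
  have hG := Agent.Chev.good_of_mem hD
  obtain ⟨tabs, simps, hf⟩ := Agent.Chev.BNSetup.exists_facts hD
  have hst := Agent.Chev.stData_of_mem _ hD
  have e : Agent.Chev.RootEmb Lie.chevE8 Lie.chevE8 := idEmb _
  have hperf : commutator (Lie.chevE8.SteinbergCover F) = ⊤ :=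
    Agent.S2395.result _ hD fun h => by
      simp only [List.mem_cons, List.not_mem_nil, or_false] at h
      exfalso
      rcases h with h | h <;> exact absurd (congrArg Lie.ChevalleyDatum.rank h) (by decide)
  refine Agent.Chev.hasCyclicSchurMultiplier_of_splits hG hf hst hperf
    (fun E G₁ _ _ π h1 h2 σ => Agent.Chev.exists_lift hG hf Agent.Chev.simplyData_E8 π h1 h2 σ) fun θ hθ => ?_
  obtain ⟨h1, h2⟩ := Agent.Chev.ker_cover_of_emb hG Agent.Chev.E8.good hf hst e (by decide)
    Agent.Chev.BNSetup.kerCertE8 Agent.Chev.BNSetup.kerCertE8_valid θ hθ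
  refine ⟨h1, h2.trans ?_⟩
  rw [pow_zero]

end Cfsg.Agent.S2107
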