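import Cfsg.Statements.S2110
import Cfsg.Agent.Lib.Chev.D4Stem.Main
import Cfsg.Agent.Lib.Schur.Exponent

set_option autoImplicit false
open Cfsg

namespace Cfsg.Agent.S2110

/-- Schur multipliers of the triality-twisted groups ³D₄: for every prime power q, with the group realised over the field with q³ elements, the Schur multiplier of ³D₄(q) is trivial (here the Schur multiplier is described through stem extensions, as in the definitions). -/
theorem result {K : Type*} [Field K] [Fintype K] {q : ℕ} (hq : IsPrimePow q) (hK : Fintype.card K = q ^ 3) : Cfsg.HasCyclicSchurMultiplier ↥(Cfsg.Lie.twistedD4 K q) 1 := by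
  obtain ⟨φ, -, hG, hcube, hcard⟩ := Agent.Chev.BNSetup.exists_frob3 hq hK
  have h : Agent.D4Stem.Hyp φ q := ⟨hcube, hcard, hK, hq.two_le⟩
  obtain ⟨p, n, hp, hn, rfl⟩ := (isPrimePow_nat_iff q).1 hq
  have : Fact p.Prime := ⟨hp⟩
  have : CharP K p := charP_of_card_eq_prime_pow (f := n * 3) (hK.trans (pow_mul p n 3).symm)
  refine Agent.Schur.hasCyclicSchurMultiplier_one fun Γ _ _ σ hσ => ?_
  obtain ⟨hsurj, hz, hc⟩ := hσ
  let f := (Cfsg.Lie.twistedD4 K (p ^ n)).subtype.comp σ
  have hk : f.ker = σ.ker := by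
    ext x
    simp [f, MonoidHom.mem_ker]
  rw [← hk] at hz hc ⊢
  refine Agent.D4Stem.ker_eq_bot h rfl hn (π := f) ?_ hz hc
  rw [MonoidHom.range_comp, MonoidHom.range_eq_top.2 hsurj, ← MonoidHom.range_eq_map,
    Subgroup.range_subtype, hG]

end Cfsg.Agent.S2110
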