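import Cfsg.Statements.S2113
import Cfsg.Agent.Lib.Twisted.Ree.StemThree
import Cfsg.Agent.Lib.Twisted.Ree.StemTwo
import Cfsg.Agent.Lib.Twisted.Ree.StemPrimes
import Cfsg.Agent.Lib.Schur.Stem
import Cfsg.Agent.Lib.Schur.SylowLocal

set_option autoImplicit false
open Cfsg

namespace Cfsg.Agent.S2113

/-- Schur multipliers of the small Ree groups: for q = 3^(2m+1) with m ≥ 1 the Schur multiplier of ²G₂(q) is trivial (here the Schur multiplier is described through stem extensions, as in the definitions). -/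
theorem result {K : Type*} [Field K] [Fintype K] {m : ℕ} (hm : 1 ≤ m) (hK : Fintype.card K = 3 ^ (2 * m + 1)) : Cfsg.HasCyclicSchurMultiplier ↥(Cfsg.Lie.twistedG2 K (3 ^ m)) 1 := by
  haveI := Cfsg.Agent.Twisted.Ree.charP_three hK
  refine Cfsg.Agent.Schur.hasCyclicSchurMultiplier_one fun Γ _ _ σ hσ => ?_
  obtain ⟨hsurj, hz, hc⟩ := hσ
  refine Cfsg.Agent.Schur.ker_eq_bot_of_sylow σ hz hc fun p hp => ?_
  haveI := Fact.mk hp
  rcases eq_or_ne p 2 with rfl | hp2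
  · exact Cfsg.Agent.Twisted.Ree.commutator_local_two hK σ hsurj hz
  rcases eq_or_ne p 3 with rfl | hp3
  · obtain ⟨Q, hQ⟩ := Cfsg.Agent.Twisted.Ree.exists_sylow_upperU (m := m) hK
    obtain ⟨P, hP⟩ := Cfsg.Agent.Schur.exists_sylow_map_eq σ hsurj Q
    exact ⟨P, Cfsg.Agent.Twisted.Ree.commutator_inf_ker_three hK hsurj hz hm P P.2
      fun x hx => hQ ▸ hP ▸ Subgroup.mem_map_of_mem σ hx⟩
  · obtain ⟨Q, hQ⟩ := Cfsg.Agent.Twisted.Ree.exists_isCyclic_sylow hK hm hp2 hp3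
    obtain ⟨P, hP⟩ := Cfsg.Agent.Schur.exists_sylow_map_eq σ hsurj Q
    haveI : IsCyclic ((P : Subgroup Γ).map σ) := hP ▸ hQ
    exact ⟨P, Cfsg.Agent.Schur.commutator_inf_ker_eq_bot_of_isCyclic σ hz _⟩

end Cfsg.Agent.S2113
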