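import Cfsg.Statements.S2114
import Cfsg.Agent.Lib.Twisted.F4.StemMain

set_option autoImplicit false
set_option linter.style.haveILetI false
open Cfsg

namespace Cfsg.Agent.S2114

/-- Schur multipliers of the large Ree groups: for q = 2^(2m+1) with m ≥ 1 the Schur multiplier of ²F₄(q) is trivial (here the Schur multiplier is described through stem extensions, as in the definitions). -/
theorem result {K : Type*} [Field K] [Fintype K] {m : ℕ} (hm : 1 ≤ m) (hK : Fintype.card K = 2 ^ (2 * m + 1)) : Cfsg.HasCyclicSchurMultiplier ↥(Cfsg.Lie.twistedF4 K (2 ^ m)) 1 := by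
  haveI := Agent.Twisted.F4.charP_two hK
  refine Agent.Schur.hasCyclicSchurMultiplier_one fun Γ _ _ σ hσ => ?_
  obtain ⟨hsurj, hz, hc⟩ := hσ
  let e := (Agent.Twisted.F4.equivTwisted hK).symm
  let f := (Agent.Twisted.F4.tw hK).Gt.subtype.comp (e.toMonoidHom.comp σ)
  have hk : f.ker = σ.ker := by
    ext x
    simp [f, MonoidHom.mem_ker]
  rw [← hk] at hz hc ⊢
  refine Agent.Twisted.F4.ker_eq_bot hK hm (π := f) ?_ hz hc
  rw [MonoidHom.range_comp, MonoidHom.range_eq_top.2 (e.surjective.comp hsurj), ← MonoidHom.range_eq_map,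
    Subgroup.range_subtype]

end Cfsg.Agent.S2114
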