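import Cfsg.Statements.S2126
import Cfsg.Agent.Lib.Sz.Aut
import Cfsg.Agent.Lib.Sz.Lie

set_option autoImplicit false
open Cfsg

namespace Cfsg.Agent.S2126

/-- Isomorphic groups have outer automorphism groups of the same order. -/
theorem card_out_congr {G H : Type*} [Group G] [Group H] (e : G ≃* H) :
    Nat.card (MulAut G ⧸ Cfsg.Inn G) = Nat.card (MulAut H ⧸ Cfsg.Inn H) := by
  refine Nat.card_congr (QuotientGroup.congr _ _ (MulAut.congr e) ?_).toEquiv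
  ext φ
  constructor
  · rintro ⟨_, ⟨g, rfl⟩, rfl⟩
    refine ⟨e g, ?_⟩
    ext x
    simp [MulAut.congr]
  · rintro ⟨h, rfl⟩
    refine ⟨MulAut.conj (e.symm h), ⟨_, rfl⟩, ?_⟩
    ext x
    simp [MulAut.congr]

/-- For q = 2^(2m+1) ≥ 8, Out(Sz(q)) has order 2m+1. -/
theorem result {F : Type*} [Field F] [Fintype F] {m : ℕ} (hm : 1 ≤ m) (hF : Fintype.card F = 2 ^ (2 * m + 1)) : Nat.card (Cfsg.Out ↥(Cfsg.Lie.Sz F (2 ^ (m + 1)))) = 2 * m + 1 :=
  ((card_out_congr (SZ.szEquiv hm hF)).symm.trans (SZ.card_out hm hF)).trans (SZ.card_ringAut hF)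

end Cfsg.Agent.S2126
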