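import Cfsg.Statements.S2128
import Cfsg.Agent.Lib.Twisted.F4.Aut
import Cfsg.Agent.Lib.AutPSLOuter.Outer

set_option autoImplicit false
open Cfsg

namespace Cfsg.Agent.S2128

/-- Isomorphic groups have outer automorphism groups of the same order. -/
theorem card_out_congr {G H : Type*} [Group G] [Group H] (e : G ≃* H) :
    Nat.card (MulAut G ⧸ Cfsg.Inn G) = Nat.card (MulAut H ⧸ Cfsg.Inn H) := by
  refine Nat.card_congr (QuotientGroup.congr _ _ (MulAut.congr e) ?_).toEquiv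
  ext φ
  constructor
  · rintro ⟨_, ⟨g, rfl⟩, rfl⟩
    refine ⟨e g, ?_⟩
    ext x
    simp [MulAut.congr]
  · rintro ⟨h, rfl⟩
    refine ⟨MulAut.conj (e.symm h), ⟨_, rfl⟩, ?_⟩
    ext x
    simp [MulAut.congr]

/-- Outer automorphisms of the large Ree groups: for q = 2^(2m+1) with m ≥ 1 the outer automorphism group of ²F₄(q) has order 2m + 1 (field automorphisms only). -/
theorem result {K : Type*} [Field K] [Fintype K] {m : ℕ} (hm : 1 ≤ m) (hK : Fintype.card K = 2 ^ (2 * m + 1)) : Nat.card (Cfsg.Out ↥(Cfsg.Lie.twistedF4 K (2 ^ m))) = 2 * m + 1 := by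
  haveI := Agent.Twisted.F4.charP_two hK
  haveI : Fact (Nat.Prime 2) := ⟨Nat.prime_two⟩
  have h : Nat.card (Cfsg.Out ↥(Cfsg.Lie.twistedF4 K (2 ^ m))) = Nat.card (K ≃+* K) :=
    (card_out_congr (Agent.Twisted.F4.equivTwisted hK)).symm.trans (Agent.Twisted.F4.card_out_Gt hK hm)
  obtain ⟨e⟩ := Agent.AutPSLOuter.exists_fieldAut_iso (F := K) (show 1 ≤ 2 * m + 1 by omega) hK
  rw [h, Nat.card_congr e.toEquiv, Nat.card_congr Multiplicative.toAdd, Nat.card_zmod]

end Cfsg.Agent.S2128
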