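import Cfsg.Statements.S2132
import Cfsg.Agent.Lib.McL275.Eight

set_option autoImplicit false
open Cfsg

namespace Cfsg.Agent.S2132

/-- The McLaughlin group (as a two-vector stabiliser in the automorphism group of the rank-24 lattice) has a single conjugacy class of involutions, and the centraliser of an involution is a non-split double cover of the alternating group of degree 8. -/
theorem result : (∀ x y : ↥Cfsg.Spor.McL, orderOf x = 2 → orderOf y = 2 → IsConj x y) ∧ ∃ t : ↥Cfsg.Spor.McL, orderOf t = 2 ∧ Cfsg.IsNonsplitDoubleCover ↥(Subgroup.centralizer ({t} : Set ↥Cfsg.Spor.McL)) ↥(alternatingGroup (Fin 8)) := by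
  obtain ⟨e⟩ := Cfsg.Agent.McL275.mcl_equiv_grp
  refine ⟨fun x y hx hy => ?_, e.symm Cfsg.Agent.McL275.zEl,
    (e.symm.orderOf_eq _).trans Cfsg.Agent.McL275.orderOf_zEl, ?_⟩
  · have hxy : IsConj (e x) (e y) :=
      (Cfsg.Agent.McL275.isConj_zEl ((e.orderOf_eq x).trans hx)).trans
        (Cfsg.Agent.McL275.isConj_zEl ((e.orderOf_eq y).trans hy)).symm
    simpa using e.symm.toMonoidHom.map_isConj hxy
  · refine Cfsg.Agent.McL275.nonsplit
      { toFun := fun g => ⟨(e g.1 : Equiv.Perm (Fin 275)), Cfsg.Agent.McL275.mem_cent_iff.2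
          ⟨(e g.1).2, ?_⟩⟩
        invFun := fun s => ⟨e.symm ⟨s.1, (Cfsg.Agent.McL275.mem_cent_iff.1 s.2).1⟩, ?_⟩
        left_inv := fun g => Subtype.ext (e.symm_apply_apply g.1)
        right_inv := fun s => by
          refine Subtype.ext ?_
          dsimp only
          rw [e.apply_symm_apply]
        map_mul' := fun g h => Subtype.ext (by simp) }
    · have := congrArg e (Subgroup.mem_centralizer_singleton_iff.1 g.2)
      rw [map_mul, map_mul, e.apply_symm_apply] at this
      exact congrArg Subtype.val this
    · rw [Subgroup.mem_centralizer_singleton_iff]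
      refine e.injective ?_
      rw [map_mul, map_mul, e.apply_symm_apply, e.apply_symm_apply]
      exact Subtype.ext (Cfsg.Agent.McL275.mem_cent_iff.1 s.2).2

end Cfsg.Agent.S2132
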