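import Cfsg.Statements.S2133
import Cfsg.Agent.Lib.Mathieu.Stab.OctadInvolution
import Cfsg.Agent.Lib.Mathieu.Stab.AffineSL5

set_option autoImplicit false
open Cfsg
open Cfsg.Agent.Mathieu
open scoped Pointwise

namespace Cfsg.Agent.S2133

/-- The Mathieu group M₂₄ (the automorphism group of the length-24 binary code) has an involution whose centraliser is isomorphic to the centraliser of a transvection in SL(5, 2) (a group of shape 2^{1+6}:GL(3, 2)). -/
theorem result (s : Matrix.SpecialLinearGroup (Fin 5) (ZMod 2)) (hs : (s : Matrix (Fin 5) (Fin 5) (ZMod 2)) = Matrix.transvection 0 1 1) : ∃ z : ↥Cfsg.M24, orderOf z = 2 ∧ Nonempty (↥(Subgroup.centralizer ({z} : Set ↥Cfsg.M24)) ≃* ↥(Subgroup.centralizer ({s} : Set (Matrix.SpecialLinearGroup (Fin 5) (ZMod 2))))) := by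
  obtain ⟨z, hzF, hz1⟩ : ∃ z ∈ octFix (ptsOf octBase), z ≠ 1 := by
    obtain ⟨q, hq, hne⟩ : ∃ q, q ∉ ptsOf octBase ∧ q ≠ idx ptEnc octOutside := by decide +kernel
    obtain ⟨σ, hσ, he⟩ := octFix_base_map hq
    exact ⟨σ, hσ, fun h => hne (by rw [← he, h]; rfl)⟩
  have ho := octBase_mem
  let z0 : MulAction.stabilizer M24 (ptsOf octBase) :=
    ⟨⟨z, (mem_octFix.1 hzF).1⟩, octFix_le_stab hzF⟩
  have hz0 : z0 ≠ 1 := fun h =>
    hz1 (congrArg (fun x : MulAction.stabilizer M24 (ptsOf octBase) =>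
      ((x : M24) : Equiv.Perm GolayPt)) h)
  have := octU_normal (ptsOf octBase)
  obtain ⟨e⟩ := AffineSL5.centralizer_equiv (octU (ptsOf octBase))
    (octM (ptsOf octBase) (idx ptEnc octOutside)) (octU_elementary ho) (card_octU ho)
    (octU_inf_octM ho octOutside_notMem) (octU_sup_octM ho octOutside_notMem)
    (octM_faithful ho octOutside_notMem) (octM_full ho octOutside_notMem) (z := z0) hzF hz0 s hs
  refine ⟨(z0 : ↥M24), ?_, ⟨((MulEquiv.subgroupCongr (centralizer_eq_map ho z0 hzF hz0)).trans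
    (Subgroup.equivMapOfInjective _ _ (Subgroup.subtype_injective _)).symm).trans e⟩⟩
  exact orderOf_eq_prime (p := 2) (Subtype.ext ((pow_two _).trans (octFix_sq_one ho hzF)))
    fun h => hz0 (Subtype.ext h)

end Cfsg.Agent.S2133
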