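import Cfsg.Statements.S2136
import Cfsg.Agent.Lib.Leech.OctadCent.Kernel

set_option autoImplicit false
open Cfsg

namespace Cfsg.Agent.S2136

open Cfsg.Agent.Leech Cfsg.Agent.Leech.OctadCent

/-- The involution. -/
def tInv : ↥Cfsg.Spor.Co2 :=
  ⟨(zElt : Equiv.Perm leechLattice), zElt.2, zElt_fix_iff.2 supp_leechU⟩

theorem mem_cGrp_of_mem (x : ↥(Subgroup.centralizer ({tInv} : Set ↥Cfsg.Spor.Co2))) :
    (⟨((x : ↥Cfsg.Spor.Co2) : Equiv.Perm leechLattice), (x : ↥Cfsg.Spor.Co2).2.1⟩ : Co0) ∈ cGrp :=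
  mem_cGrp.2 ⟨(x : ↥Cfsg.Spor.Co2).2.2,
    Subtype.ext (congrArg (fun y : ↥Cfsg.Spor.Co2 => (y : Equiv.Perm leechLattice))
      (Subgroup.mem_centralizer_singleton_iff.1 x.2))⟩

/-- The centraliser in `Co2` is the model. -/
def centEquiv : ↥(Subgroup.centralizer ({tInv} : Set ↥Cfsg.Spor.Co2)) ≃* cGrp where
  toFun x := ⟨_, mem_cGrp_of_mem x⟩
  invFun g := ⟨⟨((g : Co0) : Equiv.Perm leechLattice), (g : Co0).2, (mem_cGrp.1 g.2).1⟩,
    Subgroup.mem_centralizer_singleton_iff.2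
      (Subtype.ext (congrArg (fun y : Co0 => (y : Equiv.Perm leechLattice)) (mem_cGrp.1 g.2).2))⟩
  left_inv _ := rfl
  right_inv _ := rfl
  map_mul' _ _ := rfl

theorem tInv_order : orderOf tInv = 2 := by
  have : Fact (Nat.Prime 2) := ⟨Nat.prime_two⟩
  refine orderOf_eq_prime ?_ fun h => ?_
  · refine Subtype.ext (Equiv.ext fun v => Subtype.ext (funext fun p => ?_))
    rw [pow_two]
    show ((zElt • (zElt • v) : leechLattice) : GolayPt → ℤ) p = (v : GolayPt → ℤ) p
    rw [zElt_smul, zElt_smul]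
    cases inO p <;> simp
  · have h0 : inO (Mathieu.idx Mathieu.ptEnc 4) = false := by decide +kernel
    have h1 : ((zElt • eight (Mathieu.idx Mathieu.ptEnc 4) : leechLattice) : GolayPt → ℤ)
        (Mathieu.idx Mathieu.ptEnc 4) = 8 := by
      rw [show zElt • eight (Mathieu.idx Mathieu.ptEnc 4) = eight (Mathieu.idx Mathieu.ptEnc 4) from
        congrArg (fun x : ↥Cfsg.Spor.Co2 => (x : Equiv.Perm leechLattice) (eight (Mathieu.idx Mathieu.ptEnc 4))) h]
      simp [eight_val]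
    rw [zElt_smul, h0, eight_val] at h1
    simp at h1

/-- The Conway group Co₂ (the stabiliser of a minimal vector of the rank-24 lattice) has an involution whose centraliser C has largest normal 2-subgroup extraspecial of order 2^9 with quotient C / O₂(C) isomorphic to the symplectic group Sp(6, 2) (shape 2^{1+8}Sp(6, 2)). -/
theorem result : ∃ t : ↥Cfsg.Spor.Co2, orderOf t = 2 ∧ Cfsg.IsExtraspecial 2 (Cfsg.pCore 2 ↥(Subgroup.centralizer ({t} : Set ↥Cfsg.Spor.Co2))) ∧ Nat.card (Cfsg.pCore 2 ↥(Subgroup.centralizer ({t} : Set ↥Cfsg.Spor.Co2))) = 2 ^ 9 ∧ Nonempty (↥(Subgroup.centralizer ({t} : Set ↥Cfsg.Spor.Co2)) ⧸ Cfsg.pCore 2 ↥(Subgroup.centralizer ({t} : Set ↥Cfsg.Spor.Co2)) ≃* Matrix.symplecticGroup (Fin 3) (ZMod 2)) := by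
  let ψ := phi.comp centEquiv.toMonoidHom
  have hψ : Function.Surjective ψ :=
    (MonoidHom.range_eq_top.1 phi_range).comp centEquiv.surjective
  let e : ψ.ker ≃* phi.ker :=
    { toFun := fun x => ⟨centEquiv x.1, x.2⟩
      invFun := fun y => ⟨centEquiv.symm y.1, by
        show phi (centEquiv (centEquiv.symm y.1)) = 1
        rw [centEquiv.apply_symm_apply]
        exact y.2⟩
      left_inv := fun x => Subtype.ext (centEquiv.symm_apply_apply _)
      right_inv := fun y => Subtype.ext (centEquiv.apply_symm_apply _)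
      map_mul' := fun _ _ => Subtype.ext (map_mul _ _ _) }
  have hcard : Nat.card ψ.ker = 2 ^ 9 := (Nat.card_congr e.toEquiv).trans card_ker
  have hcore := pCore_of_surjective ψ hψ (IsPGroup.of_card hcard)
  refine ⟨tInv, tInv_order, extraspecial_of_equiv ((MulEquiv.subgroupCongr hcore).trans e), ?_, ?_⟩
  · rw [Nat.card_congr (MulEquiv.subgroupCongr hcore).toEquiv, hcard]
  exact ⟨(QuotientGroup.quotientMulEquivOfEq hcore).trans
    (QuotientGroup.quotientKerEquivOfSurjective ψ hψ)⟩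

end Cfsg.Agent.S2136
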