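import Cfsg.Statements.S2140
import Cfsg.Agent.Lib.MinDeg.LinearA
import Cfsg.Agent.Lib.MinDeg.LinearB

set_option autoImplicit false
open Cfsg

namespace Cfsg.Agent.S2140

open Matrix
open scoped MatrixGroups LinearAlgebra.Projectivization
open Cfsg.Agent.MinDeg

/-- A transitive non-trivial permutation representation of `SL_n` has degree above `q (q^(n-1) - 1)/(q - 1)`. -/
theorem degree_bound {F : Type*} [Field F] [Fintype F] {k : ℕ} (hk : 2 ≤ k)
    (hexc : ¬ (k = 3 ∧ Fintype.card F = 2)) {Ω : Type*} [Fintype Ω] [Nontrivial Ω]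
    (ρ : SL(k + 1, F) →* Equiv.Perm Ω) (htr : ∀ a b : Ω, ∃ g, ρ g a = b) :
    Fintype.card F * (Fintype.card F ^ k - 1) < Fintype.card Ω * (Fintype.card F - 1) := by
  by_contra hle
  push Not at hle
  have hρ : ρ ≠ 1 := by
    intro h
    obtain ⟨a, b, hab⟩ := exists_pair_ne Ω
    obtain ⟨g, hg⟩ := htr a b
    rw [h] at hg
    exact hab hg
  have hρ' : ρ.comp invTranspose ≠ 1 := by
    intro h
    apply hρ
    ext g : 1
    obtain ⟨g', rfl⟩ := invTranspose_surjective g
    exact DFunLike.congr_fun h g'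
  obtain ⟨j, rfl⟩ : ∃ j, k = j + 1 := ⟨k - 1, by omega⟩
  rcases dichotomy hk ρ hρ hle with hA | hB <;>
    rcases dichotomy hk (ρ.comp invTranspose) hρ' hle with hA' | hB'
  · exact not_caseA_caseA (k := j) (by omega) (fun h => hexc ⟨by omega, h.2⟩) ρ htr hA hA'
  · exact not_caseA_caseB (by omega) ρ hA hB'
  · -- swap the roles of the two families
    have hsq : ∀ g : SL(j + 1 + 1, F), invTranspose (invTranspose g) = g := by
      intro g
      show ((g⁻¹.transpose)⁻¹).transpose = g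
      have : (g⁻¹.transpose)⁻¹ = g.transpose := by
        apply inv_eq_of_mul_eq_one_right
        apply Subtype.ext
        show ((g⁻¹ : SL(j + 1 + 1, F)) : Matrix (Fin (j + 1 + 1)) (Fin (j + 1 + 1)) F)ᵀ *
          (g : Matrix (Fin (j + 1 + 1)) (Fin (j + 1 + 1)) F)ᵀ = 1
        rw [← transpose_mul, ← coe_mul', mul_inv_cancel]
        exact transpose_one
      rw [this]
      exact Subtype.ext (transpose_transpose _)
    have hcomp : (ρ.comp invTranspose).comp invTranspose = ρ := by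
      ext g : 1
      show ρ (invTranspose (invTranspose g)) = ρ g
      rw [hsq]
    exact not_caseA_caseB (by omega) (ρ.comp invTranspose) hA' (hcomp.symm ▸ hB)
  · exact not_caseB_caseB (by omega) ρ hB hB'

/-- For n ≥ 3, (n,q) ≠ (4,2), the largest proper subgroup of PSL_n(q) has index (q^n − 1)/(q − 1). -/
theorem result {F : Type*} [Field F] [Fintype F] {q : ℕ} (hF : Fintype.card F = q) (n : ℕ) (hn : 3 ≤ n) (hexc : ¬ (n = 4 ∧ q = 2)) : (∀ H : Subgroup (Matrix.ProjectiveSpecialLinearGroup (Fin n) F), H ≠ ⊤ → (q ^ n - 1) / (q - 1) ≤ H.index) ∧ (∃ H : Subgroup (Matrix.ProjectiveSpecialLinearGroup (Fin n) F), H.index = (q ^ n - 1) / (q - 1)) := by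
  classical
  have hq : 1 < q := hF ▸ Fintype.one_lt_card
  constructor
  · intro H hH
    obtain ⟨k, rfl⟩ : ∃ k, n = k + 1 := ⟨n - 1, by omega⟩
    let π := QuotientGroup.mk' (Subgroup.center (SL(k + 1, F)))
    let K := H.comap π
    have hidx : K.index = H.index :=
      Subgroup.index_comap_of_surjective H (QuotientGroup.mk'_surjective _)
    have hK : K ≠ ⊤ := fun h => hH (by
      rw [← Subgroup.index_eq_one, ← hidx, h, Subgroup.index_top])
    haveI : Fintype (SL(k + 1, F) ⧸ K) := Fintype.ofFinite _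
    haveI : Nontrivial (SL(k + 1, F) ⧸ K) := QuotientGroup.nontrivial_iff.2 hK
    have hb := degree_bound (k := k) (by omega) (by rintro ⟨rfl, h2⟩; exact hexc ⟨rfl, hF ▸ h2⟩)
      (MulAction.toPermHom (SL(k + 1, F)) (SL(k + 1, F) ⧸ K))
      (fun a b => MulAction.exists_smul_eq _ a b)
    rw [hF, ← Nat.card_eq_fintype_card, ← Subgroup.index_eq_card, hidx] at hb
    have h1 : 1 ≤ q ^ k := Nat.one_le_pow _ _ (by omega)
    obtain ⟨r, rfl⟩ : ∃ r, q = r + 1 := ⟨q - 1, by omega⟩
    simp only [Nat.add_sub_cancel] at hb ⊢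
    have hsub : (r + 1) ^ (k + 1) - 1 = (r + 1) * ((r + 1) ^ k - 1) + r := by
      obtain ⟨Q, hQ⟩ : ∃ Q, (r + 1) ^ k = Q + 1 := ⟨(r + 1) ^ k - 1, by omega⟩
      rw [pow_succ', hQ, Nat.add_sub_cancel]
      have : (r + 1) * (Q + 1) = (r + 1) * Q + r + 1 := by ring
      omega
    rw [hsub, Nat.div_le_iff_le_mul_add_pred (by omega)]
    rw [mul_comm r H.index]
    omega
  · obtain ⟨i⟩ : Nonempty (Fin n) := ⟨⟨0, by omega⟩⟩
    let p : ℙ F (Fin n → F) :=
      Projectivization.mk F (Pi.single i 1) (Pi.single_ne_zero_iff.2 one_ne_zero)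
    refine ⟨MulAction.stabilizer (Matrix.ProjectiveSpecialLinearGroup (Fin n) F) p, ?_⟩
    rw [MulAction.index_stabilizer_of_transitive, Projectivization.card'', Nat.card_fun,
      Nat.card_fin, Nat.card_eq_fintype_card, hF]

end Cfsg.Agent.S2140
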