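import Cfsg.Statements.S2155
import Cfsg.Agent.Lib.Chev.ParaCerts
import Cfsg.Agent.Lib.Chev.Steinberg
import Cfsg.Agent.Lib.Components.GenFitting
import Cfsg.Agent.Lib.Subnormal.Nilpotent

set_option autoImplicit false
open Cfsg

namespace Cfsg.Agent.S2155

/-- A normal `p`-subgroup whose centraliser is a `p`-group makes `F*` a `p`-group. -/
theorem isPGroup_genFitting {H : Type*} [Group H] [Finite H] {p : ℕ} [hp : Fact p.Prime] {Q : Subgroup H}
    [Q.Normal] (hQ : IsPGroup p Q) (hC : IsPGroup p (Subgroup.centralizer (Q : Set H))) :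
    IsPGroup p (generalizedFittingSubgroup H) := by
  have hQF : Q ≤ fittingSubgroup H := le_sSup ⟨inferInstance, hQ.isNilpotent⟩
  have hlayer : layer H = ⊥ := by
    rw [Cfsg.Agent.Components.layer_eq_bot_iff]
    rintro ⟨K, hK⟩
    have h1 : K ≤ Subgroup.centralizer (Q : Set H) := by
      refine (Subgroup.commutator_eq_bot_iff_le_centralizer.1 ?_).trans (Subgroup.centralizer_le hQF)
      exact Cfsg.Agent.Components.IsComponent.commutator_fittingSubgroup hK
    haveI := (hC.to_le h1).isNilpotent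
    exact Cfsg.Agent.Components.IsComponent.not_isSolvable hK inferInstance
  rw [generalizedFittingSubgroup, hlayer, bot_sup_eq]
  haveI : Group.IsNilpotent (fittingSubgroup H) := Cfsg.Agent.Components.fittingSubgroup_isNilpotent H
  refine IsPGroup.of_card (n := (Nat.card (fittingSubgroup H)).primeFactorsList.length)
    (Nat.eq_prime_pow_of_unique_prime_dvd Nat.card_pos.ne' fun {q} hq hqd => ?_)
  by_contra hne
  haveI := Fact.mk hq
  obtain ⟨⟨x, hxF⟩, hx⟩ := exists_prime_orderOf_dvd_card' q hqd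
  have hxC : x ∈ Subgroup.centralizer (Q : Set H) := by
    intro y hy
    obtain ⟨a, ha⟩ := hQ ⟨y, hy⟩
    have h := Cfsg.Agent.Subnormal.commute_of_coprime (p := p) (k := a)
      (u := (⟨y, hQF hy⟩ : fittingSubgroup H)) (y := ⟨x, hxF⟩)
      (Subtype.ext (congrArg Subtype.val ha :))
      (by rw [hx]; exact (Nat.coprime_primes hq hp.out).2 hne)
    exact (congrArg Subtype.val h.eq).symm
  obtain ⟨a, ha⟩ := IsPGroup.iff_orderOf.1 hC ⟨x, hxC⟩
  rw [Subgroup.orderOf_mk] at ha hx
  rw [hx] at ha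
  have h2 : q ∣ p ^ a := dvd_of_eq ha
  exact hne ((Nat.prime_dvd_prime_iff_eq hq hp.out).1 (hq.dvd_of_dvd_pow h2))

/-- In a Chevalley group of type G₂, B₂, D₄, F₄, E₆, E₇ or E₈ over a finite field of characteristic p (for types G₂ and B₂ the field is assumed to have at least 3 elements, so that the group is simple), the generalized Fitting subgroup of every proper standard parabolic subgroup P_J is a p-group (P_J is p-constrained with trivial largest normal subgroup of order prime to p). -/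
theorem result {F : Type*} [Field F] [Fintype F] (p : ℕ) [Fact p.Prime] [CharP F p] (D : Cfsg.Lie.ChevalleyDatum) (hD : D ∈ [Cfsg.Lie.chevG2, Cfsg.Lie.chevB2, Cfsg.Lie.chevD4, Cfsg.Lie.chevF4, Cfsg.Lie.chevE6, Cfsg.Lie.chevE7, Cfsg.Lie.chevE8]) (hq : (D = Cfsg.Lie.chevG2 ∨ D = Cfsg.Lie.chevB2) → 3 ≤ Fintype.card F) (J : Set ℕ) (hJ : ∃ i, i < D.rank ∧ i ∉ J) : IsPGroup p ↥(Cfsg.generalizedFittingSubgroup ↥(D.parabolicSubgroup F J)) := by
  classical
  have hG := Cfsg.Agent.Chev.good_of_mem hD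
  obtain ⟨tabs, simps, hf⟩ := Cfsg.Agent.Chev.BNSetup.exists_facts hD
  obtain ⟨k, Ms, hk, hM⟩ := Cfsg.Agent.Chev.BNSetup.exists_rootCerts hD
  obtain ⟨d, Bs, hB⟩ := Cfsg.Agent.Chev.BNSetup.exists_paraFact hD
  set P := D.parabolicSubgroup F J with hP
  have hUP : D.posUnipotent F ≤ P := le_trans le_sup_left le_sup_left
  have hPG : P ≤ D.group F := by
    refine sup_le (Cfsg.Agent.Chev.BNSetup.borel_le_group hG hf) ?_
    rw [Subgroup.closure_le]
    rintro g ⟨j, -, hj, hg⟩
    exact Cfsg.Agent.Chev.BNSetup.monomial_le_group hG hf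
      (Subgroup.mem_sup_right (Subgroup.subset_closure ⟨_, hG.simple_lt hj, hg⟩))
  have hrU : D.unipotentRadical F J ≤ D.posUnipotent F := by
    rw [Cfsg.Lie.ChevalleyDatum.unipotentRadical, Subgroup.closure_le]
    rintro g ⟨r, t, hr, -, hg⟩
    exact Subgroup.subset_closure ⟨r, t, hr, hg⟩
  haveI : ((D.unipotentRadical F J).subgroupOf P).Normal := by
    refine Subgroup.normal_subgroupOf_iff_le_normalizer (hrU.trans hUP) |>.2 ?_
    exact Cfsg.Agent.Chev.BNSetup.parabolic_le_normalizer_radical hG hf hM hB J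
  refine isPGroup_genFitting (Q := (D.unipotentRadical F J).subgroupOf P) ?_ ?_
  · exact ((Cfsg.Agent.Chev.ChevSylow.isPGroup_posUnipotent p hG hf).to_le hrU).of_equiv
      (Subgroup.subgroupOfEquivOfLe (hrU.trans hUP)).symm
  · refine ((Cfsg.Agent.Chev.ChevSylow.isPGroup_posUnipotent p hG hf).of_equiv
      (Subgroup.subgroupOfEquivOfLe hUP).symm).to_le fun x hx => ?_
    refine Subgroup.mem_subgroupOf.2 (Cfsg.Agent.Chev.BNSetup.centraliser_radical_le hG hf hM hB hk hJ
      (hPG x.2) fun g hg => ?_)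
    exact congrArg Subtype.val (hx ⟨g, hUP (hrU hg)⟩ hg).symm

end Cfsg.Agent.S2155
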