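import Cfsg.Statements.S2159
import Cfsg.Agent.Lib.Chev.AutOutNodeRange

set_option autoImplicit false
open Cfsg

namespace Cfsg.Agent.S2159

open Cfsg.Agent.Chev Cfsg.Agent.Chev.BNSetup
open scoped commutatorElement

/-- Structure of the outer automorphism group of the Chevalley group `G` of type G₂, B₂, D₄, F₄, E₆, E₇ or E₈ over a finite field. Let `D̄` be the image in `Out(G)` of the subgroup generated by the diagonal automorphisms and `F̄` the image of the subgroup generated by the field automorphisms. Then `D̄` is a normal abelian subgroup of `Out(G)`, `F̄` is cyclic, `D̄F̄` is a normal subgroup, and the quotient of `Out(G)` by `D̄F̄` is trivial, of order 2, or non-abelian of order 6 (so isomorphic to the symmetric group on three letters): its index is 1 or 2, or it is 6 with the commutator subgroup of `Out(G)` not inside `D̄F̄`. -/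
theorem result {F : Type*} [Field F] [Finite F] (D : Cfsg.Lie.ChevalleyDatum) (hD : D ∈ [Cfsg.Lie.chevG2, Cfsg.Lie.chevB2, Cfsg.Lie.chevD4, Cfsg.Lie.chevF4, Cfsg.Lie.chevE6, Cfsg.Lie.chevE7, Cfsg.Lie.chevE8])
    (Dbar Fbar : Subgroup (Cfsg.Out ↥(D.group F)))
    (hDbar : Dbar = (Subgroup.closure {φ : MulAut ↥(D.group F) | D.IsDiagonalAut φ}).map (QuotientGroup.mk' (Cfsg.Inn ↥(D.group F))))
    (hFbar : Fbar = (Subgroup.closure {φ : MulAut ↥(D.group F) | D.IsFieldAut φ}).map (QuotientGroup.mk' (Cfsg.Inn ↥(D.group F)))) :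
    Dbar.Normal ∧ IsMulCommutative ↥Dbar ∧ IsCyclic ↥Fbar ∧ (Dbar ⊔ Fbar).Normal ∧
      ((Dbar ⊔ Fbar).index = 1 ∨ (Dbar ⊔ Fbar).index = 2 ∨
        ((Dbar ⊔ Fbar).index = 6 ∧ ¬ commutator (Cfsg.Out ↥(D.group F)) ≤ Dbar ⊔ Fbar)) := by
  subst hDbar hFbar
  have hG := good_of_mem hD
  set mk := QuotientGroup.mk' (Cfsg.Inn ↥(D.group F)) with hmk
  have hsurj : Function.Surjective mk := QuotientGroup.mk'_surjective _
  set S := {φ : MulAut ↥(D.group F) | D.IsDiagonalAut φ} with hS
  set P := nodePerm (F := F) hG hD with hP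
  have hker : P.ker = Cfsg.Inn ↥(D.group F) ⊔ (Subgroup.closure S ⊔
      Subgroup.closure {φ : MulAut ↥(D.group F) | D.IsFieldAut φ}) :=
    le_antisymm (ker_nodePerm hG hD) (le_ker_nodePerm hG hD)
  have hsup : (Subgroup.closure S).map mk ⊔
      (Subgroup.closure {φ : MulAut ↥(D.group F) | D.IsFieldAut φ}).map mk = P.ker.map mk := by
    rw [hker, Subgroup.map_sup _ (Subgroup.closure S ⊔ _), Subgroup.map_sup,
      (Subgroup.map_eq_bot_iff _).2 (QuotientGroup.ker_mk' _).ge, bot_sup_eq]
  have hInn : mk.ker ≤ P.ker := by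
    rw [hmk, QuotientGroup.ker_mk', hker]
    exact le_sup_left
  refine ⟨?_, ?_, ?_, ?_, ?_⟩
  · refine ⟨fun z hz g => ?_⟩
    obtain ⟨θ, rfl⟩ := hsurj g
    obtain ⟨d, hd, rfl⟩ := hz
    rw [← map_inv, ← map_mul, ← map_mul]
    have key : Subgroup.closure S ≤ ((Subgroup.closure S).map mk).comap
        (mk.comp (MulAut.conj θ).toMonoidHom) := by
      refine (Subgroup.closure_le _).2 fun s hs => ?_
      obtain ⟨y, s', hs', e⟩ := conj_diag hG hD θ hs
      refine ⟨s', Subgroup.subset_closure hs', ?_⟩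
      show mk s' = mk (θ * s * θ⁻¹)
      rw [e, map_mul, show mk (MulAut.conj y) = 1 from (QuotientGroup.eq_one_iff _).2 ⟨y, rfl⟩, one_mul]
    exact key hd
  · have h1 : Subgroup.closure S ≤ Subgroup.centralizer S :=
      (Subgroup.closure_le _).2 fun a ha => Subgroup.mem_centralizer_iff.2 fun b hb =>
        diag_commute hG hD hb ha
    have h2 : Subgroup.closure S ≤ Subgroup.centralizer (Subgroup.closure S : Set (MulAut ↥(D.group F))) := by
      rw [Subgroup.centralizer_closure]
      exact h1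
    refine ⟨⟨?_⟩⟩
    rintro ⟨_, a, ha, rfl⟩ ⟨_, b, hb, rfl⟩
    refine Subtype.ext ?_
    show mk a * mk b = mk b * mk a
    rw [← map_mul, ← map_mul, Subgroup.mem_centralizer_iff.1 (h2 hb) a ha]
  · have hc : IsCyclic (F ≃+* F) := by
      haveI := Fintype.ofFinite F
      obtain ⟨p, hp⟩ := CharP.exists F
      obtain ⟨n, hpp, hn⟩ := FiniteField.card F p
      haveI : Fact p.Prime := ⟨hpp⟩
      obtain ⟨e⟩ := Cfsg.Agent.AutPSLOuter.exists_fieldAut_iso (F := F) n.pos hn
      exact isCyclic_of_surjective e.symm e.symm.surjective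
    have hr : (Subgroup.closure {φ : MulAut ↥(D.group F) | D.IsFieldAut φ}).map mk =
        (mk.comp (fieldHom hG hD)).range := by
      rw [closure_fieldAut hG hD, MonoidHom.map_range]
    rw [hr]
    exact isCyclic_of_surjective _ (mk.comp (fieldHom hG hD)).rangeRestrict_surjective
  · rw [hsup]
    exact (MonoidHom.normal_ker P).map mk hsurj
  · rw [hsup]
    have hidx : (P.ker.map mk).index = Nat.card P.range := by
      rw [Subgroup.index_map_eq _ hsurj hInn, Subgroup.index_ker]
    rw [hidx]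
    rcases range_nodePerm (F := F) hG hD with h | h | ⟨h, a, b, hab⟩
    · exact Or.inl h
    · exact Or.inr (Or.inl h)
    · refine Or.inr (Or.inr ⟨h, fun hle => hab ?_⟩)
      have hm : mk ⁅a, b⁆ ∈ P.ker.map mk := by
        rw [map_commutatorElement]
        exact hle (Subgroup.commutator_mem_commutator (Subgroup.mem_top _) (Subgroup.mem_top _))
      have : ⁅a, b⁆ ∈ P.ker := by
        rw [← Subgroup.comap_map_eq_self hInn]
        exact hm
      rw [MonoidHom.mem_ker, map_commutatorElement, commutatorElement_eq_one_iff_mul_comm] at this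
      exact this

end Cfsg.Agent.S2159
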