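import Cfsg.Statements.S2161
import Cfsg.Agent.Lib.Chev.SimpleGen
import Cfsg.Agent.Lib.Chev.CheckD4
import Cfsg.Agent.Lib.Chev.CheckE6

set_option autoImplicit false
open Cfsg

namespace Cfsg.Agent.S2161

open Cfsg.Lie Cfsg.Agent.Chev

/-- A diagram symmetry acts on the roots compatibly with the fundamental reflections. -/
def Compat (D : ChevalleyDatum) (π : Equiv.Perm (Fin D.rank)) : Prop :=
  (∀ i : Fin D.rank, D.permRoot π (D.simple i) = D.simple (π i)) ∧
    ∀ i : Fin D.rank, ∀ s < D.nroots, D.permRoot π (D.reflectRoot i s) = D.reflectRoot (π i) (D.permRoot π s)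

instance (D : ChevalleyDatum) (π : Equiv.Perm (Fin D.rank)) : Decidable (D.IsDiagramSymmetry π) :=
  inferInstanceAs (Decidable (∀ _ _, _ → _))

instance (D : ChevalleyDatum) (π : Equiv.Perm (Fin D.rank)) : Decidable (Compat D π) :=
  inferInstanceAs (Decidable (_ ∧ _))

theorem compat_D4 : ∀ π : Equiv.Perm (Fin chevD4.rank), chevD4.IsDiagramSymmetry π → Compat chevD4 π := by
  decide +kernel

theorem compat_E6 : ∀ π : Equiv.Perm (Fin chevE6.rank), chevE6.IsDiagramSymmetry π → Compat chevE6 π := by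
  decide +kernel

theorem permRoot_lt {D : ChevalleyDatum} (π : Equiv.Perm (Fin D.rank)) {r : ℕ} (hr : r < D.nroots) :
    D.permRoot π r < D.nroots := by
  unfold ChevalleyDatum.permRoot
  rcases h : (List.range D.nroots).find? _ with _ | s
  · exact hr
  · exact List.mem_range.1 (List.mem_of_find?_eq_some h)

theorem image_root {F : Type*} [Field F] {D : ChevalleyDatum} (hD : Good D)
    {π : Equiv.Perm (Fin D.rank)} (hc : Compat D π) (φ : ↥(D.group F) →* ↥(D.group F))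
    (hpos : ∀ (i : Fin D.rank) (t : F), φ (hD.xgrp (D.simple i) t) = hD.xgrp (D.simple (π i)) t)
    (hneg : ∀ (i : Fin D.rank) (t : F),
      φ (hD.xgrp (D.neg (D.simple i)) t) = hD.xgrp (D.neg (D.simple (π i))) t)
    {r : ℕ} (hr : r < D.nroots) :
    ∃ ε : F, ε * ε = 1 ∧ ∀ t : F, φ (hD.xgrp r t) = hD.xgrp (D.permRoot π r) (ε * t) := by
  refine And.right (hD.root_induction (P := fun r => r < D.nroots ∧ ∃ ε : F, ε * ε = 1 ∧
    ∀ t : F, φ (hD.xgrp r t) = hD.xgrp (D.permRoot π r) (ε * t)) ?_ ?_ hr)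
  · intro i hi
    refine ⟨hD.simple_lt hi, 1, one_mul 1, fun t => ?_⟩
    rw [one_mul, hc.1 ⟨i, hi⟩]
    exact hpos ⟨i, hi⟩ t
  rintro i hi s - ⟨hs, ε, hε, hφ⟩
  obtain ⟨η, hη, hx⟩ := hD.exists_sign_xg (F := F) hi
  obtain ⟨η', hη', hx'⟩ := hD.exists_sign_xg (F := F) (π ⟨i, hi⟩).2
  have hs' := permRoot_lt π hs
  let n : ℕ → ↥(D.group F) := fun p => hD.xgrp p 1 * hD.xgrp (D.neg p) (-(1 : F)⁻¹) * hD.xgrp p 1
  have hn : ∀ p, ((n p : ↥(D.group F)) : GL D.Idx F) = nG D F p 1 := fun p => by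
    rw [nG_eq]; rfl
  have hφn : φ (n (D.simple i)) = n (D.simple (π ⟨i, hi⟩)) := by
    simp only [n, map_mul]
    rw [show D.simple i = D.simple (⟨i, hi⟩ : Fin D.rank) from rfl, hpos, hneg]
  refine ⟨hD.reflectRoot_lt hi hs, η' (D.permRoot π s) * (ε * η s), ?_, fun u => ?_⟩
  · linear_combination (η s * η s * (ε * ε)) * (hη' _ hs').1 + (η s * η s) * hε + (hη s hs).1
  have e1 : hD.xgrp (D.reflectRoot i s) u * n (D.simple i) = n (D.simple i) * hD.xgrp s (η s * u) := by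
    refine Subtype.ext ?_
    simp only [Subgroup.coe_mul, hn]
    have h := hx s hs (η s * u)
    rw [← mul_assoc, (hη s hs).1, one_mul] at h
    exact h.symm
  have e2 : φ (hD.xgrp (D.reflectRoot i s) u) * n (D.simple (π ⟨i, hi⟩)) =
      n (D.simple (π ⟨i, hi⟩)) * hD.xgrp (D.permRoot π s) (ε * (η s * u)) := by
    rw [← hφn, ← map_mul, e1, map_mul, hφ]
  rw [show D.reflectRoot i s = D.reflectRoot (⟨i, hi⟩ : Fin D.rank) s from rfl, hc.2 ⟨i, hi⟩ s hs]
  refine mul_right_cancel (e2.trans (Subtype.ext ?_))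
  simp only [Subgroup.coe_mul, hn]
  rw [mul_assoc (η' _), mul_assoc ε]
  exact hx' _ hs' _

/-- For the Chevalley groups of types D₄ and E₆ (one root length) over any field: if `π` is a symmetry of the Dynkin diagram and `φ` is an automorphism sending `x_{p_i}(t)` to `x_{p_{π i}}(t)` and `x_{-p_i}(t)` to `x_{-p_{π i}}(t)` for every fundamental root `p_i`, then for every root `r` there is a sign `ε = ±1` with `φ(x_r(t)) = x_{π·r}(ε t)` for all `t`, where `π·r` is the root whose coefficients are those of `r` permuted by `π`. -/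
theorem result {F : Type*} [Field F] (D : Cfsg.Lie.ChevalleyDatum) (hD : D ∈ [Cfsg.Lie.chevD4, Cfsg.Lie.chevE6])
    (π : Equiv.Perm (Fin D.rank)) (hπ : D.IsDiagramSymmetry π) (φ : ↥(D.group F) ≃* ↥(D.group F))
    (hφ : ∀ (g : ↥(D.group F)) (i : Fin D.rank) (t : F),
      (((g : GL D.Idx F) : Matrix D.Idx D.Idx F) = D.x F (D.simple i) t →
        ((φ g : GL D.Idx F) : Matrix D.Idx D.Idx F) = D.x F (D.simple (π i)) t) ∧
      (((g : GL D.Idx F) : Matrix D.Idx D.Idx F) = D.x F (D.neg (D.simple i)) t →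
        ((φ g : GL D.Idx F) : Matrix D.Idx D.Idx F) = D.x F (D.neg (D.simple (π i))) t))
    (r : ℕ) (hr : r < D.nroots) :
    ∃ ε : F, (ε = 1 ∨ ε = -1) ∧ ∀ (g : ↥(D.group F)) (t : F),
      ((g : GL D.Idx F) : Matrix D.Idx D.Idx F) = D.x F r t →
        ((φ g : GL D.Idx F) : Matrix D.Idx D.Idx F) = D.x F (D.permRoot π r) (ε * t) := by
  have key : ∀ (hG : Good D), Compat D π → ∃ ε : F, (ε = 1 ∨ ε = -1) ∧ ∀ (g : ↥(D.group F)) (t : F),
      ((g : GL D.Idx F) : Matrix D.Idx D.Idx F) = D.x F r t →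
        ((φ g : GL D.Idx F) : Matrix D.Idx D.Idx F) = D.x F (D.permRoot π r) (ε * t) := by
    intro hG hc
    obtain ⟨ε, hε, h⟩ := image_root hG hc φ.toMonoidHom
      (fun i t => hG.eq_xgrp ((hφ _ i t).1 (hG.coe_xgrp _ t)))
      (fun i t => hG.eq_xgrp ((hφ _ i t).2 (hG.coe_xgrp _ t))) hr
    refine ⟨ε, mul_self_eq_one_iff.1 hε, fun g t hg => ?_⟩
    rw [hG.eq_xgrp hg]
    exact (congrArg (fun y : ↥(D.group F) => ((y : GL D.Idx F) : Matrix D.Idx D.Idx F)) (h t)).trans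
      (hG.coe_xgrp _ _)
  simp only [List.mem_cons, List.not_mem_nil, or_false] at hD
  rcases hD with rfl | rfl
  · exact key Chev.D4.good (compat_D4 π hπ)
  · exact key Chev.E6.good (compat_E6 π hπ)

end Cfsg.Agent.S2161
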