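import Cfsg.Statements.S2162
import Cfsg.Agent.Lib.GL.Action
-- import your own Cfsg.Agent.* helpers here

set_option autoImplicit false
open Cfsg

namespace Cfsg.Agent.S2162

/-- An adapted basis of a square-zero endomorphism. -/
theorem exists_basis {F : Type*} [Field F] {n : ℕ} (f : (Fin n → F) →ₗ[F] (Fin n → F))
    (hf : ∀ x, f (f x) = 0) {l : ℕ} (hl : Module.finrank F (LinearMap.range f) = l) :
    2 * l ≤ n ∧ ∃ b : Module.Basis (Fin l ⊕ (Fin l ⊕ Fin (n - 2 * l))) F (Fin n → F),
      (∀ i, f (b (.inl i)) = b (.inr (.inl i))) ∧ ∀ i, f (b (.inr i)) = 0 := by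
  classical
  set R := LinearMap.range f with hR
  set K := LinearMap.ker f with hK
  have hRK : R ≤ K := by
    rintro _ ⟨x, rfl⟩
    exact hf x
  obtain ⟨Q, hQ⟩ := Submodule.exists_isCompl R
  set S := K ⊓ Q with hS
  have hsup : R ⊔ S = K := by
    rw [hS, inf_comm, ← sup_inf_assoc_of_le Q hRK, hQ.sup_eq_top, top_inf_eq]
  have hinf : R ⊓ S = ⊥ := le_bot_iff.1 ((inf_le_inf_left R inf_le_right).trans hQ.inf_eq_bot.le)
  have hd := Submodule.finrank_sup_add_finrank_inf_eq R S
  rw [hsup, hinf, finrank_bot, add_zero] at hd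
  have hrn := LinearMap.finrank_range_add_finrank_ker f
  rw [← hK, ← hR, Module.finrank_fin_fun, hl, hd, hl] at hrn
  refine ⟨by omega, ?_⟩
  let r := (Module.finBasisOfFinrankEq F R hl)
  let e := (Module.finBasisOfFinrankEq F S (show Module.finrank F S = n - 2 * l by omega))
  have hw : ∀ i, ∃ w, f w = (r i : Fin n → F) := fun i => (r i).2
  choose w hw using hw
  let v : Fin l ⊕ (Fin l ⊕ Fin (n - 2 * l)) → Fin n → F :=
    Sum.elim w (Sum.elim (fun i => (r i : Fin n → F)) (fun i => (e i : Fin n → F)))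
  have hspan : ⊤ ≤ Submodule.span F (Set.range v) := by
    intro x _
    have hR' : R ≤ Submodule.span F (Set.range v) := by
      intro y hy
      rw [show y = ((⟨y, hy⟩ : R) : Fin n → F) from rfl, ← r.sum_repr ⟨y, hy⟩, Submodule.coe_sum]
      exact Submodule.sum_mem _ fun i _ =>
        Submodule.smul_mem _ _ (Submodule.subset_span ⟨.inr (.inl i), rfl⟩)
    have hS' : S ≤ Submodule.span F (Set.range v) := by
      intro y hy
      rw [show y = ((⟨y, hy⟩ : S) : Fin n → F) from rfl, ← e.sum_repr ⟨y, hy⟩, Submodule.coe_sum]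
      exact Submodule.sum_mem _ fun i _ =>
        Submodule.smul_mem _ _ (Submodule.subset_span ⟨.inr (.inr i), rfl⟩)
    let c := r.repr ⟨f x, LinearMap.mem_range_self f x⟩
    have hx : x - ∑ i, c i • w i ∈ R ⊔ S := by
      rw [hsup, hK, LinearMap.mem_ker, map_sub, map_sum, sub_eq_zero]
      have := congrArg Subtype.val (r.sum_repr ⟨f x, LinearMap.mem_range_self f x⟩)
      rw [Submodule.coe_sum] at this
      simpa [hw, c] using this.symm
    rw [← sub_add_cancel x (∑ i, c i • w i)]
    exact Submodule.add_mem _ (sup_le hR' hS' hx) (Submodule.sum_mem _ fun i _ =>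
      Submodule.smul_mem _ _ (Submodule.subset_span ⟨.inl i, rfl⟩))
  have hli : LinearIndependent F v :=
    linearIndependent_of_top_le_span_of_card_eq_finrank hspan (by simp; omega)
  refine ⟨Module.Basis.mk hli hspan, fun i => ?_, fun i => ?_⟩
  · simpa [v] using hw i
  · rcases i with i | i
    · simpa [v] using LinearMap.mem_ker.1 (hRK (r i).2)
    · simpa [v] using LinearMap.mem_ker.1 (Submodule.mem_inf.1 (e i).2).1

/-- Conjugacy of involutions in the special linear group over a finite field of characteristic two, in dimension at least 3: two elements of order 2 of SL_n(F) are conjugate in SL_n(F) exactly when the matrices a − 1 and b − 1 have the same rank (the rank of a − 1 is the dimension of the commutator space [V, a]). -/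
theorem result {F : Type*} [Field F] [Fintype F] [CharP F 2] {n : ℕ} (hn : 3 ≤ n) (a b : Matrix.SpecialLinearGroup (Fin n) F) (ha : orderOf a = 2) (hb : orderOf b = 2) :
    IsConj a b ↔ ((a : Matrix (Fin n) (Fin n) F) - 1).rank = ((b : Matrix (Fin n) (Fin n) F) - 1).rank := by
  classical
  constructor
  · intro h
    obtain ⟨c, hc⟩ := isConj_iff.1 h
    rw [← hc]
    show ((a : Matrix (Fin n) (Fin n) F) - 1).rank = ((((c : Matrix (Fin n) (Fin n) F)) * a) * _ - 1).rank
    set c' := ((c⁻¹ : Matrix.SpecialLinearGroup (Fin n) F) : Matrix (Fin n) (Fin n) F)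
    have h1 : (c : Matrix (Fin n) (Fin n) F) * c' = 1 := congrArg Subtype.val (mul_inv_cancel c)
    rw [show (c : Matrix (Fin n) (Fin n) F) * a * c' - 1 = (c : Matrix (Fin n) (Fin n) F) * ((a : Matrix (Fin n) (Fin n) F) - 1) * c' by
      rw [mul_sub, sub_mul, mul_one, h1]]
    rw [Matrix.rank_mul_eq_left_of_isUnit_det, Matrix.rank_mul_eq_right_of_isUnit_det]
    · rw [Matrix.SpecialLinearGroup.det_coe]; exact isUnit_one
    · rw [Matrix.SpecialLinearGroup.det_coe]; exact isUnit_one
  intro h
  let fa : (Fin n → F) →ₗ[F] (Fin n → F) := Matrix.toLin' ((a : Matrix (Fin n) (Fin n) F) - 1)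
  let fb : (Fin n → F) →ₗ[F] (Fin n → F) := Matrix.toLin' ((b : Matrix (Fin n) (Fin n) F) - 1)
  have hsq : ∀ x : Matrix.SpecialLinearGroup (Fin n) F, orderOf x = 2 →
      ((x : Matrix (Fin n) (Fin n) F) - 1) * ((x : Matrix (Fin n) (Fin n) F) - 1) = 0 := by
    intro x hx
    have h2 : (x : Matrix (Fin n) (Fin n) F) * x = 1 := by
      have := congrArg Subtype.val (orderOf_dvd_iff_pow_eq_one.1 (hx.dvd) : x ^ 2 = 1)
      rw [pow_two] at this
      exact this
    rw [sub_mul, mul_sub, mul_one, one_mul, h2]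
    ext i j
    simp only [Matrix.sub_apply, Matrix.zero_apply]
    rw [CharTwo.sub_eq_add, CharTwo.sub_eq_add, CharTwo.sub_eq_add]
    have := CharTwo.add_self_eq_zero ((1 : Matrix (Fin n) (Fin n) F) i j + (x : Matrix (Fin n) (Fin n) F) i j)
    linear_combination this
  have hzero : ∀ x : Matrix.SpecialLinearGroup (Fin n) F, orderOf x = 2 → ∀ v,
      Matrix.toLin' ((x : Matrix (Fin n) (Fin n) F) - 1) (Matrix.toLin' ((x : Matrix (Fin n) (Fin n) F) - 1) v) = 0 := by
    intro x hx v
    rw [← LinearMap.comp_apply, ← Matrix.toLin'_mul, hsq x hx, map_zero, LinearMap.zero_apply]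
  obtain ⟨l, hl⟩ : ∃ l, ((a : Matrix (Fin n) (Fin n) F) - 1).rank = l := ⟨_, rfl⟩
  obtain ⟨hle, A, hA1, hA2⟩ := exists_basis fa (hzero a ha) (l := l) hl
  obtain ⟨-, B, hB1, hB2⟩ := exists_basis fb (hzero b hb) (l := l) (h.symm.trans hl)
  obtain ⟨i₀⟩ : Nonempty (Fin l) := by
    rw [← Fin.pos_iff_nonempty, Nat.pos_iff_ne_zero]
    intro h0
    have hfa : fa = 0 := LinearMap.range_eq_bot.1 (Submodule.finrank_eq_zero.1 (hl.trans h0))
    have : (a : Matrix (Fin n) (Fin n) F) = 1 := sub_eq_zero.1 (Matrix.toLin'.injective (hfa.trans (map_zero _).symm))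
    rw [show a = 1 from Subtype.ext this, orderOf_one] at ha
    exact absurd ha (by decide)
  let T : (Fin n → F) ≃ₗ[F] (Fin n → F) := A.equiv B (Equiv.refl _)
  obtain ⟨s, hs⟩ := FiniteField.isSquare_of_char_two (ringChar.eq F 2) ((GL.ofLinearEquiv T).1.det)⁻¹
  have hd0 := Matrix.GeneralLinearGroup.det_ne_zero (GL.ofLinearEquiv T)
  have hs0 : s ≠ 0 := fun e => inv_ne_zero hd0 (by rw [hs, e, mul_zero])
  let d : Fin l ⊕ (Fin l ⊕ Fin (n - 2 * l)) → Fˣ :=
    fun i => if i = .inl i₀ ∨ i = .inr (.inl i₀) then Units.mk0 s hs0 else 1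
  let D : (Fin n → F) ≃ₗ[F] (Fin n → F) := B.equiv (B.unitsSMul d) (Equiv.refl _)
  have hDB : ∀ i, D (B i) = (d i : F) • B i := fun i => by
    rw [Module.Basis.equiv_apply, Equiv.refl_apply, Module.Basis.unitsSMul_apply, Units.smul_def]
  set E : (Fin n → F) ≃ₗ[F] (Fin n → F) := T.trans D with hE
  have hEA : ∀ i, E (A i) = (d i : F) • B i := fun i => by
    simp [E, T, hDB]
  have hcomm : ∀ x, fb (E x) = E (fa x) := by
    intro x
    have : fb.comp E.toLinearMap = E.toLinearMap.comp fa := A.ext fun i => by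
      show fb (E (A i)) = E (fa (A i))
      rcases i with i | i
      · rw [hEA, map_smul, hB1, hA1, hEA]
        congr 1
        simp [d]
      · rw [hEA, map_smul, hB2, hA2, smul_zero, map_zero]
    exact LinearMap.congr_fun this x
  have hdet : (GL.ofLinearEquiv E).1.det = 1 := by
    have hEeq : (GL.ofLinearEquiv E).1 = (GL.ofLinearEquiv D).1 * (GL.ofLinearEquiv T).1 :=
      Matrix.toLin'.injective (LinearMap.ext fun x => by simp [E])
    have hDdet : (GL.ofLinearEquiv D).1.det = s * s := by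
      rw [← LinearMap.det_toLin', show Matrix.toLin' (GL.ofLinearEquiv D).1 = D.toLinearMap from
        LinearMap.ext fun x => by simp, ← LinearMap.det_toMatrix B,
        show LinearMap.toMatrix B B D.toLinearMap = Matrix.diagonal (fun i => (d i : F)) from
          Matrix.ext fun i j => by
            rw [LinearMap.toMatrix_apply, LinearEquiv.coe_coe, hDB, map_smul, B.repr_self,
              Finsupp.smul_single, Finsupp.single_apply, Matrix.diagonal_apply]
            split_ifs with h1 h2 <;> simp_all,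
        Matrix.det_diagonal, Fintype.prod_sum_type, Fintype.prod_sum_type]
      simp only [d, Sum.inl.injEq, Sum.inr.injEq, reduceCtorEq, or_false, false_or]
      simp [apply_ite (Units.val : Fˣ → F)]
    rw [hEeq, Matrix.det_mul, hDdet, ← hs, inv_mul_cancel₀ hd0]
  let c : Matrix.SpecialLinearGroup (Fin n) F := ⟨_, hdet⟩
  refine isConj_iff.2 ⟨c, (mul_inv_eq_iff_eq_mul (b := c)).2 ?_⟩
  refine Subtype.ext (Matrix.toLin'.injective (LinearMap.ext fun x => ?_))
  show Matrix.toLin' ((GL.ofLinearEquiv E).1 * (a : Matrix (Fin n) (Fin n) F)) x =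
    Matrix.toLin' ((b : Matrix (Fin n) (Fin n) F) * (GL.ofLinearEquiv E).1) x
  have h2 := hcomm x
  simp [fa, fb, Matrix.sub_mulVec] at h2
  simp [← Matrix.mulVec_mulVec, GL.ofLinearEquiv_mulVec]
  exact h2.symm

end Cfsg.Agent.S2162
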