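import Cfsg.Statements.S2163
import Cfsg.Agent.Lib.GL.Basic
-- import your own Cfsg.Agent.* helpers here

set_option autoImplicit false
open Cfsg

namespace Cfsg.Agent.S2163

/-- Over a finite field of characteristic two and for n ≥ 3: for every ℓ with 1 ≤ ℓ and 2ℓ ≤ n, the matrix j_ℓ that is the identity plus the entries 1 in positions (n − ℓ + i, i) for i < ℓ (an identity block of size ℓ in the lower left corner) lies in SL_n(F), has order 2, and j_ℓ − 1 has rank ℓ. Together with the conjugacy criterion by rank, these matrices represent the conjugacy classes of involutions of SL_n(F). -/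
theorem result {F : Type*} [Field F] [Fintype F] [CharP F 2] {n : ℕ} (hn : 3 ≤ n) (ℓ : ℕ) (h1 : 1 ≤ ℓ) (h2 : 2 * ℓ ≤ n) :
    ∃ a : Matrix.SpecialLinearGroup (Fin n) F, (a : Matrix (Fin n) (Fin n) F) = 1 + Matrix.of (fun i j : Fin n => if j.val < ℓ ∧ i.val = j.val + (n - ℓ) then (1 : F) else 0) ∧ orderOf a = 2 ∧ ((a : Matrix (Fin n) (Fin n) F) - 1).rank = ℓ := by
  classical
  set N : Matrix (Fin n) (Fin n) F :=
    Matrix.of fun i j : Fin n => if j.val < ℓ ∧ i.val = j.val + (n - ℓ) then (1 : F) else 0 with hN
  have hNap : ∀ i j, N i j = if j.val < ℓ ∧ i.val = j.val + (n - ℓ) then (1 : F) else 0 := fun _ _ => rfl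
  have hNN : N * N = 0 := by
    ext i j
    rw [Matrix.mul_apply]
    refine Finset.sum_eq_zero fun k _ => ?_
    rw [hNap, hNap]
    split_ifs with h h' <;> first | omega | simp
  have hlow : ∀ i j : Fin n, i < j → (1 + N) i j = 0 := fun i j h => by
    rw [Fin.lt_def] at h
    rw [Matrix.add_apply, Matrix.one_apply_ne (by omega), hNap, if_neg (by omega), add_zero]
  have hdet : (1 + N).det = 1 := by
    rw [Matrix.det_of_isLowerTriangular _ (fun i j h => hlow i j h)]
    refine Finset.prod_eq_one fun i _ => ?_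
    rw [Matrix.add_apply, Matrix.one_apply_eq, hNap, if_neg (by omega), add_zero]
  refine ⟨⟨1 + N, hdet⟩, rfl, ?_, ?_⟩
  · refine orderOf_eq_prime (Subtype.ext ?_) fun h => ?_
    · show (1 + N) ^ 2 = 1
      rw [pow_two, mul_add, add_mul, add_mul, one_mul, mul_one, one_mul, hNN, add_zero]
      ext i j
      simp only [Matrix.add_apply]
      rw [add_assoc, CharTwo.add_self_eq_zero, add_zero]
    · have := congrFun (congrFun (congrArg Subtype.val h) ⟨n - ℓ, by omega⟩) ⟨0, by omega⟩
      change (1 + N) _ _ = (1 : Matrix (Fin n) (Fin n) F) _ _ at this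
      rw [Matrix.add_apply, hNap, if_pos ⟨h1, (Nat.zero_add _).symm⟩] at this
      simp [Fin.ext_iff] at this
  · show ((1 + N) - 1).rank = ℓ
    rw [add_sub_cancel_left]
    refine le_antisymm ?_ ?_
    · let A : Matrix (Fin n) (Fin ℓ) F := Matrix.of fun i j => if (i : ℕ) = j + (n - ℓ) then 1 else 0
      let B : Matrix (Fin ℓ) (Fin n) F := Matrix.of fun i j => if (i : ℕ) = j then 1 else 0
      have e : N = A * B := by
        ext i j
        rw [Matrix.mul_apply, hNap]
        by_cases hj : (j : ℕ) < ℓ
        · rw [Finset.sum_eq_single ⟨j, hj⟩]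
          · simp [A, B, hj]
          · intro b _ hb
            simp [A, B, Fin.val_ne_of_ne hb]
          · simp
        · rw [if_neg (by omega)]
          exact (Finset.sum_eq_zero fun b _ => by simp [B, show (b : ℕ) ≠ j by omega]).symm
      rw [e]
      exact (Matrix.rank_mul_le_left _ _).trans ((Matrix.rank_le_card_width _).trans (by simp))
    · have h : (1 : Matrix (Fin ℓ) (Fin ℓ) F) =
          N.submatrix (fun i : Fin ℓ => (⟨i + (n - ℓ), by omega⟩ : Fin n))
            (fun j : Fin ℓ => (⟨j, by omega⟩ : Fin n)) := by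
        ext i j
        rw [Matrix.submatrix_apply, hNap, Matrix.one_apply]
        simp only [Fin.ext_iff]
        split_ifs <;> first | rfl | omega
      have := Matrix.rank_submatrix_le N (fun i : Fin ℓ => (⟨i + (n - ℓ), by omega⟩ : Fin n))
        (fun j : Fin ℓ => (⟨j, by omega⟩ : Fin n))
      rw [← h, Matrix.rank_one, Fintype.card_fin] at this
      exact this

end Cfsg.Agent.S2163
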