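import Cfsg.Statements.S2164
import Cfsg.Agent.Lib.Forms.UniTwo

set_option autoImplicit false
open Cfsg

open scoped Matrix

namespace Cfsg.Agent.S2164

/-- Conjugacy of involutions in the special unitary group SU_n(q), q even, n ≥ 3, realised over the field F with q² elements as the matrices of determinant 1 preserving the form Σ u_i v_i^q: for two elements of order 2 of SU_n(q) the following are equivalent — they are conjugate in SU_n(q); they are conjugate in SL_n(F); the matrices a − 1 and b − 1 have the same rank. -/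
theorem result {F : Type*} [Field F] [Fintype F] [CharP F 2] {n q : ℕ} (hF : Fintype.card F = q ^ 2) (hn : 3 ≤ n) (a b : ↥(Cfsg.SU n F q)) (ha : orderOf a = 2) (hb : orderOf b = 2) :
    (IsConj a b ↔ IsConj (a : Matrix.SpecialLinearGroup (Fin n) F) (b : Matrix.SpecialLinearGroup (Fin n) F)) ∧
    (IsConj a b ↔ (((a : Matrix.SpecialLinearGroup (Fin n) F) : Matrix (Fin n) (Fin n) F) - 1).rank = (((b : Matrix.SpecialLinearGroup (Fin n) F) : Matrix (Fin n) (Fin n) F) - 1).rank) := by
  classical
  have rankConj : IsConj (a : Matrix.SpecialLinearGroup (Fin n) F) (b : Matrix.SpecialLinearGroup (Fin n) F) →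
      (a.1.1 - 1).rank = (b.1.1 - 1).rank := by
    intro h
    obtain ⟨c, hc⟩ := (isConj_iff (α := Matrix.SpecialLinearGroup (Fin n) F)).1 h
    have hcb : c.1 * a.1.1 = b.1.1 * c.1 := congrArg Subtype.val ((mul_inv_eq_iff_eq_mul (G := Matrix.SpecialLinearGroup (Fin n) F)).1 hc)
    have hu : IsUnit c.1.det := by rw [c.2]; exact isUnit_one
    rw [← Matrix.rank_mul_eq_right_of_isUnit_det c.1 (a.1.1 - 1) hu,
      ← Matrix.rank_mul_eq_left_of_isUnit_det c.1 (b.1.1 - 1) hu, mul_sub, sub_mul, hcb, mul_one, one_mul]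
  have toSL : IsConj a b →
      IsConj (a : Matrix.SpecialLinearGroup (Fin n) F) (b : Matrix.SpecialLinearGroup (Fin n) F) :=
    fun h => (SU n F q).subtype.map_isConj h
  have fromRank : (a.1.1 - 1).rank = (b.1.1 - 1).rank → IsConj a b := by
    intro hr
    have hsq : ∀ x : ↥(Cfsg.SU n F q), orderOf x = 2 → x.1.1 * x.1.1 = 1 := by
      intro x hx
      have h := pow_orderOf_eq_one x
      rw [hx, sq] at h
      exact congrArg (fun y : ↥(Cfsg.SU n F q) => y.1.1) h
    have hne : a.1.1 ≠ 1 := by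
      intro h
      rw [show a = 1 from Subtype.ext (Subtype.ext h), orderOf_one] at ha
      exact absurd ha (by decide)
    obtain ⟨A, hA1, hAp, hAc⟩ := Forms.UniTwo.exists_conj hF (a := a.1.1) (fun u v => a.2 u v)
      (hsq a ha) (b := b.1.1) (fun u v => b.2 u v) (hsq b hb) hne hr
    exact isConj_iff.2 ⟨⟨⟨A, hA1⟩, fun u v => hAp u v⟩,
      mul_inv_eq_iff_eq_mul.2 (Subtype.ext (Subtype.ext hAc))⟩
  exact ⟨⟨toSL, fun h => fromRank (rankConj h)⟩, ⟨fun h => rankConj (toSL h), fromRank⟩⟩

end Cfsg.Agent.S2164
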