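import Cfsg.Statements.S2165
-- import your own Cfsg.Agent.* helpers here

set_option autoImplicit false
open Cfsg

open scoped Matrix

namespace Cfsg.Agent.S2165

/-- In SU_n(q), q even, n ≥ 3 (matrices of determinant 1 over the field with q² elements preserving Σ u_i v_i^q): for every ℓ with 1 ≤ ℓ and 2ℓ ≤ n, the permutation matrix of the involution of {0, …, n−1} exchanging i and n − ℓ + i for each i < ℓ lies in SU_n(q), has order 2, and differs from the identity by a matrix of rank ℓ. So every rank between 1 and n/2 occurs for involutions of SU_n(q). -/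
theorem result {F : Type*} [Field F] [Fintype F] [CharP F 2] {n q : ℕ} (hF : Fintype.card F = q ^ 2) (hn : 3 ≤ n) (ℓ : ℕ) (h1 : 1 ≤ ℓ) (h2 : 2 * ℓ ≤ n) :
    ∃ a : ↥(Cfsg.SU n F q), (((a : Matrix.SpecialLinearGroup (Fin n) F) : Matrix (Fin n) (Fin n) F) = Matrix.of (fun i j : Fin n => if (j.val < ℓ ∧ i.val = j.val + (n - ℓ)) ∨ (i.val < ℓ ∧ j.val = i.val + (n - ℓ)) ∨ (i = j ∧ ℓ ≤ i.val ∧ i.val < n - ℓ) then (1 : F) else 0)) ∧ orderOf a = 2 ∧ ((((a : Matrix.SpecialLinearGroup (Fin n) F) : Matrix (Fin n) (Fin n) F)) - 1).rank = ℓ := by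
  classical
  let f : Fin n → Fin n := fun i =>
    ⟨if i.val < ℓ then i.val + (n - ℓ) else if n - ℓ ≤ i.val then i.val - (n - ℓ) else i.val,
      by split_ifs <;> omega⟩
  have hf : Function.Involutive f := by
    intro i
    apply Fin.ext
    simp only [f]
    split_ifs <;> omega
  let π : Equiv.Perm (Fin n) := hf.toPerm f
  have hM : π.permMatrix F = Matrix.of (fun i j : Fin n => if (j.val < ℓ ∧ i.val = j.val + (n - ℓ)) ∨ (i.val < ℓ ∧ j.val = i.val + (n - ℓ)) ∨ (i = j ∧ ℓ ≤ i.val ∧ i.val < n - ℓ) then (1 : F) else 0) := by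
    ext i j
    rw [Matrix.of_apply, Equiv.Perm.permMatrix, PEquiv.toMatrix_apply]
    refine if_congr ?_ rfl rfl
    simp only [Equiv.toPEquiv_apply, Option.mem_def, Option.some.injEq, π,
      Function.Involutive.coe_toPerm, f, Fin.ext_iff]
    split_ifs <;> omega
  have hdet : (π.permMatrix F).det = 1 := by
    rw [Matrix.det_permutation]
    rcases Int.units_eq_one_or (Equiv.Perm.sign π) with h | h <;> simp [h, CharTwo.neg_eq]
  let s : Matrix.SpecialLinearGroup (Fin n) F := ⟨π.permMatrix F, hdet⟩
  have hmem : s ∈ Cfsg.SU n F q := by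
    intro u v
    show hermForm n F q (π.permMatrix F *ᵥ u) (π.permMatrix F *ᵥ v) = _
    rw [Matrix.permMatrix_mulVec, Matrix.permMatrix_mulVec]
    exact Equiv.sum_comp π (fun i => u i * v i ^ q)
  refine ⟨⟨s, hmem⟩, hM, ?_, ?_⟩
  · refine orderOf_eq_prime ?_ fun h => ?_
    · apply Subtype.ext; apply Subtype.ext
      show (π.permMatrix F) ^ 2 = 1
      rw [sq, ← Matrix.permMatrix_mul]
      have : π * π = 1 := Equiv.ext fun i => hf i
      rw [this, Matrix.permMatrix_one]
    · have h' : π.permMatrix F = 1 := congrArg (fun x : ↥(Cfsg.SU n F q) => x.1.1) h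
      have e := congrFun (congrFun h' ⟨0, by omega⟩) ⟨0, by omega⟩
      rw [hM, Matrix.one_apply_eq, Matrix.of_apply, if_neg (by simp; omega)] at e
      exact zero_ne_one e
  · show (π.permMatrix F - 1).rank = ℓ
    rw [hM]
    refine le_antisymm ?_ ?_
    · let B : Matrix (Fin n) (Fin ℓ) F :=
        Matrix.of fun i k => if i.val = k.val ∨ i.val = k.val + (n - ℓ) then 1 else 0
      refine le_trans (le_of_eq (congrArg Matrix.rank ?_))
        ((Matrix.rank_mul_le_left B Bᵀ).trans (by simpa using Matrix.rank_le_card_width B))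
      ext i j
      rw [Matrix.mul_apply, Matrix.sub_apply, Matrix.of_apply, Matrix.one_apply]
      simp only [B, Matrix.transpose_apply, Matrix.of_apply]
      by_cases hi : i.val < ℓ
      · rw [Fintype.sum_eq_single (⟨i.val, hi⟩ : Fin ℓ) (fun k hk => by
          rw [if_neg (fun hc => hk (Fin.ext (by simp only; omega))), zero_mul]),
          if_pos (Or.inl rfl), one_mul]
        simp only [Fin.ext_iff]
        split_ifs <;> first | (exfalso; omega) | simp [CharTwo.neg_eq, CharTwo.sub_eq_add]
      · by_cases hi' : n - ℓ ≤ i.val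
        · rw [Fintype.sum_eq_single (⟨i.val - (n - ℓ), by omega⟩ : Fin ℓ) (fun k hk => by
            rw [if_neg (fun hc => hk (Fin.ext (by simp only; omega))), zero_mul]),
            if_pos (Or.inr (Nat.sub_add_cancel hi').symm), one_mul]
          simp only [Fin.ext_iff]
          split_ifs <;> first | (exfalso; omega) | simp [CharTwo.neg_eq, CharTwo.sub_eq_add]
        · rw [Finset.sum_eq_zero (fun k _ => by rw [if_neg (by omega), zero_mul])]
          simp only [Fin.ext_iff]
          split_ifs <;> first | (exfalso; omega) | simp [CharTwo.neg_eq, CharTwo.sub_eq_add]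
    · refine le_trans (le_of_eq ?_) (Matrix.rank_submatrix_le _ (Fin.castLE (by omega : ℓ ≤ n))
        (Fin.castLE (by omega : ℓ ≤ n)))
      have h1 : ∀ M : Matrix (Fin ℓ) (Fin ℓ) F, M = 1 → ℓ = M.rank := fun M h => by
        rw [h, Matrix.rank_one, Fintype.card_fin]
      refine h1 _ ?_
      ext i j
      simp only [Matrix.submatrix_apply, Matrix.sub_apply, Matrix.of_apply, Matrix.one_apply,
        Fin.ext_iff, Fin.coe_castLE]
      split_ifs <;> first | (exfalso; omega) | simp [CharTwo.neg_eq, CharTwo.sub_eq_add]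

end Cfsg.Agent.S2165
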