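import Cfsg.Statements.S2166
import Cfsg.Agent.Lib.Forms.SympTwo

set_option autoImplicit false
open Cfsg

open scoped Matrix

namespace Cfsg.Agent.S2166

/-- Conjugacy of involutions in the symplectic group Sp_{2m}(F), F a finite field of characteristic two, m ≥ 2 (Sp taken as the matrices A with A J Aᵀ = J, acting on column vectors, with the alternating form f(u, v) = u ⬝ (J v)). For an involution t write V(t) for the set of vectors v with f(v, t v) = 0 (a subspace). Two involutions a, b are conjugate in Sp_{2m}(F) exactly when a − 1 and b − 1 have the same rank and, in case that rank is even, V(a) and V(b) have the same number of elements. -/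
theorem result {F : Type*} [Field F] [Fintype F] [CharP F 2] {m : ℕ} (hm : 2 ≤ m) (a b : ↥(Matrix.symplecticGroup (Fin m) F)) (ha : orderOf a = 2) (hb : orderOf b = 2) :
    IsConj a b ↔ ((((a : ↥(Matrix.symplecticGroup (Fin m) F)) : Matrix (Fin m ⊕ Fin m) (Fin m ⊕ Fin m) F) - 1).rank = (((b : ↥(Matrix.symplecticGroup (Fin m) F)) : Matrix (Fin m ⊕ Fin m) (Fin m ⊕ Fin m) F) - 1).rank ∧
      (Even (((a : ↥(Matrix.symplecticGroup (Fin m) F)) : Matrix (Fin m ⊕ Fin m) (Fin m ⊕ Fin m) F) - 1).rank → Nat.card {v : Fin m ⊕ Fin m → F // Cfsg.sympForm m F v (Matrix.mulVec ((a : ↥(Matrix.symplecticGroup (Fin m) F)) : Matrix (Fin m ⊕ Fin m) (Fin m ⊕ Fin m) F) v) = 0} = Nat.card {v : Fin m ⊕ Fin m → F // Cfsg.sympForm m F v (Matrix.mulVec ((b : ↥(Matrix.symplecticGroup (Fin m) F)) : Matrix (Fin m ⊕ Fin m) (Fin m ⊕ Fin m) F) v) = 0})) := by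
  classical
  have sq : ∀ {x : ↥(Matrix.symplecticGroup (Fin m) F)}, orderOf x = 2 →
      (x.1 : Matrix (Fin m ⊕ Fin m) (Fin m ⊕ Fin m) F) * x.1 = 1 := by
    intro x hx
    have h := pow_orderOf_eq_one x
    rw [hx, pow_two] at h
    exact congrArg Subtype.val h
  constructor
  · intro h
    obtain ⟨c, hc⟩ := isConj_iff.1 h
    have hcb : c.1 * a.1 = b.1 * c.1 :=
      congrArg Subtype.val (mul_inv_eq_iff_eq_mul.1 hc)
    have hu : IsUnit c.1.det := SymplecticGroup.symplectic_det c.2
    refine ⟨?_, fun _ => ?_⟩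
    · rw [← Matrix.rank_mul_eq_right_of_isUnit_det c.1 (a.1 - 1) hu,
        ← Matrix.rank_mul_eq_left_of_isUnit_det c.1 (b.1 - 1) hu, mul_sub, sub_mul, hcb, mul_one,
        one_mul]
    · have hf := Forms.mem_symplecticGroup_iff_form.1 c.2
      refine Nat.card_congr (Equiv.subtypeEquiv (Equiv.ofBijective (fun v => c.1 *ᵥ v)
        (Finite.injective_iff_bijective.1 (Matrix.mulVec_injective_of_isUnit ((Matrix.isUnit_iff_isUnit_det _).2 hu)))) fun v => ?_)
      show sympForm m F v (a.1 *ᵥ v) = 0 ↔ sympForm m F (c.1 *ᵥ v) (b.1 *ᵥ (c.1 *ᵥ v)) = 0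
      rw [Matrix.mulVec_mulVec, ← hcb, ← Matrix.mulVec_mulVec, hf]
  · rintro ⟨hr, hcard⟩
    have key : (∀ v, Forms.SympTwo.form a.1 v v = 0) ↔ ∀ v, Forms.SympTwo.form b.1 v v = 0 := by
      have cnt : ∀ (x : ↥(Matrix.symplecticGroup (Fin m) F)), orderOf x = 2 →
          ((∀ v, Forms.SympTwo.form x.1 v v = 0) ↔
            Nat.card {v : Fin m ⊕ Fin m → F // sympForm m F v (x.1 *ᵥ v) = 0} =
              Fintype.card F ^ (2 * m)) := by
        intro x hx
        obtain ⟨h1, h2⟩ := Forms.SympTwo.card_self_zero x.2 (sq hx)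
        simp only [Forms.SympTwo.form_self] at h1 h2 ⊢
        refine ⟨h1, fun h => ?_⟩
        by_contra hne
        have h3 := h2 hne
        rw [h] at h3
        exact (Fintype.one_lt_card (α := F)).ne' (Nat.eq_of_mul_eq_mul_left
          (pow_pos Fintype.card_pos (2 * m)) (h3.trans (mul_one _).symm))
      constructor
      · intro h
        have he := Forms.SympTwo.even_rank a.2 (sq ha) h
        exact (cnt b hb).2 ((hcard he).symm.trans ((cnt a ha).1 h))
      · intro h
        have he := Forms.SympTwo.even_rank b.2 (sq hb) h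
        exact (cnt a ha).2 ((hcard (hr ▸ he)).trans ((cnt b hb).1 h))
    obtain ⟨c, hc⟩ := Forms.SympTwo.exists_conj a.2 (sq ha) b.2 (sq hb) hr key
    exact isConj_iff.2 ⟨c, mul_inv_eq_iff_eq_mul.2 (Subtype.ext hc)⟩

end Cfsg.Agent.S2166
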