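import Cfsg.Statements.S2167
import Cfsg.Agent.Lib.Forms.SympTwo

set_option autoImplicit false
open Cfsg

open scoped Matrix

namespace Cfsg.Agent.S2167

/-- For an involution t of the symplectic group Sp_{2m}(F), m ≥ 2, F a finite field of characteristic two (matrices A with A J Aᵀ = J acting on column vectors, alternating form f(u, v) = u ⬝ (J v)): the set V(t) of vectors v with f(v, t v) = 0 has either q^{2m} or q^{2m−1} elements, q the order of F (it is a subspace of codimension at most 1), and if it is the whole space then t − 1 has even rank. -/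
theorem result {F : Type*} [Field F] [Fintype F] [CharP F 2] {m : ℕ} (hm : 2 ≤ m) (a : ↥(Matrix.symplecticGroup (Fin m) F)) (ha : orderOf a = 2) :
    (Nat.card {v : Fin m ⊕ Fin m → F // Cfsg.sympForm m F v (Matrix.mulVec ((a : ↥(Matrix.symplecticGroup (Fin m) F)) : Matrix (Fin m ⊕ Fin m) (Fin m ⊕ Fin m) F) v) = 0} = Fintype.card F ^ (2 * m) ∨ Nat.card {v : Fin m ⊕ Fin m → F // Cfsg.sympForm m F v (Matrix.mulVec ((a : ↥(Matrix.symplecticGroup (Fin m) F)) : Matrix (Fin m ⊕ Fin m) (Fin m ⊕ Fin m) F) v) = 0} * Fintype.card F = Fintype.card F ^ (2 * m)) ∧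
    ((∀ v : Fin m ⊕ Fin m → F, Cfsg.sympForm m F v (Matrix.mulVec ((a : ↥(Matrix.symplecticGroup (Fin m) F)) : Matrix (Fin m ⊕ Fin m) (Fin m ⊕ Fin m) F) v) = 0) → Even (((a : ↥(Matrix.symplecticGroup (Fin m) F)) : Matrix (Fin m ⊕ Fin m) (Fin m ⊕ Fin m) F) - 1).rank) := by
  classical
  have hsq : (a.1 : Matrix (Fin m ⊕ Fin m) (Fin m ⊕ Fin m) F) * a.1 = 1 := by
    have h := pow_orderOf_eq_one a
    rw [ha, sq] at h
    exact congrArg Subtype.val h
  obtain ⟨h1, h2⟩ := Forms.SympTwo.card_self_zero a.2 hsq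
  simp only [Forms.SympTwo.form_self] at h1 h2
  refine ⟨?_, fun h => Forms.SympTwo.even_rank a.2 hsq fun v => by
    rw [Forms.SympTwo.form_self]; exact h v⟩
  by_cases h : ∀ v, sympForm m F v (Matrix.mulVec a.1 v) = 0
  · exact Or.inl (h1 h)
  · exact Or.inr (h2 h)

end Cfsg.Agent.S2167
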