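import Cfsg.Statements.S2168
import Cfsg.Agent.Lib.Forms.OrthTwo

set_option autoImplicit false
open Cfsg

open scoped Matrix

namespace Cfsg.Agent.S2168

/-- Involutions in the full isometry group O of the hyperbolic quadratic form Σ x_i y_i in dimension 2m over a finite field F of characteristic two, m ≥ 4 (plus type): two elements of order 2 of O are conjugate in O exactly when they are conjugate under the group of all invertible matrices preserving the polar bilinear form (u, v) ↦ Q(u + v) − Q(u) − Q(v) (the symplectic group of that form). -/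
theorem result {F : Type*} [Field F] [Fintype F] [CharP F 2] {m : ℕ} (hm : 4 ≤ m) (t s : ↥(Cfsg.isometryGroup F (Cfsg.quadFormPlus m F))) (ht : orderOf t = 2) (hs : orderOf s = 2) :
    IsConj t s ↔ ∃ g ∈ Cfsg.preserving (Units.coeHom (Matrix (Fin m ⊕ Fin m) (Fin m ⊕ Fin m) F)) (fun u v => Cfsg.quadFormPlus m F (u + v) - Cfsg.quadFormPlus m F u - Cfsg.quadFormPlus m F v), g * ((t : ↥(Cfsg.isometryGroup F (Cfsg.quadFormPlus m F))) : GL (Fin m ⊕ Fin m) F) * g⁻¹ = ((s : ↥(Cfsg.isometryGroup F (Cfsg.quadFormPlus m F))) : GL (Fin m ⊕ Fin m) F) := by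
  classical
  have hQ : ∀ (x : ↥(isometryGroup F (quadFormPlus m F))) (v : Fin m ⊕ Fin m → F),
      Forms.quadPlus m F ((x.1 : Matrix (Fin m ⊕ Fin m) (Fin m ⊕ Fin m) F) *ᵥ v) =
        Forms.quadPlus m F v := fun x v => by
    rw [Forms.quadPlus_apply, Forms.quadPlus_apply]; exact x.2 v 0
  constructor
  · intro h
    obtain ⟨c, hc⟩ := isConj_iff.1 h
    refine ⟨c.1, fun u v => ?_, congrArg Subtype.val hc⟩
    show quadFormPlus m F ((c.1 : Matrix (Fin m ⊕ Fin m) (Fin m ⊕ Fin m) F) *ᵥ u + c.1.1 *ᵥ v) -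
      quadFormPlus m F (c.1.1 *ᵥ u) - quadFormPlus m F (c.1.1 *ᵥ v) = _
    simp only [← Matrix.mulVec_add, ← Forms.quadPlus_apply, hQ c]
  · rintro ⟨g, hg, hgts⟩
    let G : Matrix (Fin m ⊕ Fin m) (Fin m ⊕ Fin m) F := g
    let T : Matrix (Fin m ⊕ Fin m) (Fin m ⊕ Fin m) F := t.1
    let S : Matrix (Fin m ⊕ Fin m) (Fin m ⊕ Fin m) F := s.1
    have hG : G ∈ Matrix.symplecticGroup (Fin m) F := by
      rw [Forms.mem_symplecticGroup_iff_form]
      intro u v
      rw [← Forms.OrthTwo.polar_eq, ← Forms.OrthTwo.polar_eq]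
      show Forms.quadPlus m F (G *ᵥ u + G *ᵥ v) - Forms.quadPlus m F (G *ᵥ u) -
          Forms.quadPlus m F (G *ᵥ v) =
        Forms.quadPlus m F (u + v) - Forms.quadPlus m F u - Forms.quadPlus m F v
      simp only [Forms.quadPlus_apply]
      exact hg u v
    have hsq : ∀ x : ↥(isometryGroup F (quadFormPlus m F)), orderOf x = 2 →
        (x.1 : Matrix (Fin m ⊕ Fin m) (Fin m ⊕ Fin m) F) * x.1 = 1 := by
      intro x hx
      have h := pow_orderOf_eq_one x
      rw [hx, sq] at h
      exact congrArg (fun y : ↥(isometryGroup F (quadFormPlus m F)) => y.1.1) h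
    have hcomm : G * T = S * G :=
      congrArg Units.val (mul_inv_eq_iff_eq_mul.1 hgts)
    have hu : IsUnit G.det := SymplecticGroup.symplectic_det hG
    have hr : (T - 1).rank = (S - 1).rank := by
      rw [← Matrix.rank_mul_eq_right_of_isUnit_det G (T - 1) hu,
        ← Matrix.rank_mul_eq_left_of_isUnit_det G (S - 1) hu, mul_sub, sub_mul, hcomm, mul_one, one_mul]
    have hf : ∀ v, Forms.SympTwo.form S (G *ᵥ v) (G *ᵥ v) = Forms.SympTwo.form T v v := fun v => by
      rw [Forms.SympTwo.form_self, Forms.SympTwo.form_self, Matrix.mulVec_mulVec, ← hcomm,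
        ← Matrix.mulVec_mulVec, Forms.mem_symplecticGroup_iff_form.1 hG]
    have ht' : (∀ v, Forms.SympTwo.form T v v = 0) ↔ ∀ v, Forms.SympTwo.form S v v = 0 := by
      refine ⟨fun h v => ?_, fun h v => by rw [← hf]; exact h _⟩
      obtain ⟨w, rfl⟩ := (Finite.injective_iff_surjective.1
        (Matrix.mulVec_injective_of_isUnit ((Matrix.isUnit_iff_isUnit_det G).2 hu))) v
      rw [hf]; exact h w
    obtain ⟨c, hc⟩ := Forms.OrthTwo.exists_conj_orth (Forms.OrthTwo.mem_symp_of_isom (hQ t))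
      (hsq t ht) (hQ t) (by omega) (Forms.OrthTwo.mem_symp_of_isom (hQ s)) (hsq s hs) (hQ s) hr ht'
    exact isConj_iff.2 ⟨c, mul_inv_eq_iff_eq_mul.2 (Subtype.ext (Units.ext hc))⟩

end Cfsg.Agent.S2168
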