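import Cfsg.Statements.S2170
import Cfsg.Agent.Lib.Forms.MinusTwo

set_option autoImplicit false
open Cfsg

namespace Cfsg.Agent.S2170

/-- Involutions in the full isometry group O of the quadratic form Σ x_i y_i + (z₁² + c z₁ z₂ + d z₂²) in dimension 2m with anisotropic binary part over a finite field F of characteristic two, m ≥ 4 (minus type): two elements of order 2 of O are conjugate in O exactly when they are conjugate under the group of all invertible matrices preserving the polar bilinear form (u, v) ↦ Q(u + v) − Q(u) − Q(v) (the symplectic group of that form). -/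
theorem result {F : Type*} [Field F] [Fintype F] [CharP F 2] {m : ℕ} (hm : 4 ≤ m) (c d : F) (hcd : ∀ z₁ z₂ : F, z₁ ^ 2 + c * z₁ * z₂ + d * z₂ ^ 2 = 0 → z₁ = 0 ∧ z₂ = 0) (t s : ↥(Cfsg.isometryGroup F (Cfsg.quadFormMinus (m - 1) F c d))) (ht : orderOf t = 2) (hs : orderOf s = 2) :
    IsConj t s ↔ ∃ g ∈ Cfsg.preserving (Units.coeHom (Matrix ((Fin (m - 1) ⊕ Fin (m - 1)) ⊕ Fin 2) ((Fin (m - 1) ⊕ Fin (m - 1)) ⊕ Fin 2) F)) (fun u v => Cfsg.quadFormMinus (m - 1) F c d (u + v) - Cfsg.quadFormMinus (m - 1) F c d u - Cfsg.quadFormMinus (m - 1) F c d v), g * ((t : ↥(Cfsg.isometryGroup F (Cfsg.quadFormMinus (m - 1) F c d))) : GL ((Fin (m - 1) ⊕ Fin (m - 1)) ⊕ Fin 2) F) * g⁻¹ = ((s : ↥(Cfsg.isometryGroup F (Cfsg.quadFormMinus (m - 1) F c d))) : GL ((Fin (m - 1) ⊕ Fin (m - 1)) ⊕ Fin 2) F) := by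
  classical
  obtain ⟨C⟩ := Forms.MinusTwo.exists_coords (n := m - 1) hcd
  constructor
  · intro h
    obtain ⟨x, hx⟩ := isConj_iff.1 h
    refine ⟨x.1, fun u v => ?_, congrArg Subtype.val hx⟩
    have hQ : ∀ w, Cfsg.quadFormMinus (m - 1) F c d (Matrix.mulVec (x.1 : Matrix _ _ F) w) =
        Cfsg.quadFormMinus (m - 1) F c d w := fun w => x.2 w 0
    simp only [Units.coeHom_apply, ← Matrix.mulVec_add, hQ]
  · rintro ⟨g, hg, hgts⟩
    let T : Matrix ((Fin (m - 1) ⊕ Fin (m - 1)) ⊕ Fin 2) ((Fin (m - 1) ⊕ Fin (m - 1)) ⊕ Fin 2) F := t.1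
    let S : Matrix ((Fin (m - 1) ⊕ Fin (m - 1)) ⊕ Fin 2) ((Fin (m - 1) ⊕ Fin (m - 1)) ⊕ Fin 2) F := s.1
    let G : Matrix ((Fin (m - 1) ⊕ Fin (m - 1)) ⊕ Fin 2) ((Fin (m - 1) ⊕ Fin (m - 1)) ⊕ Fin 2) F := g
    have hcomm : G * T = S * G := congrArg Units.val (mul_inv_eq_iff_eq_mul.1 hgts)
    have hu : IsUnit G.det := (Matrix.isUnit_iff_isUnit_det G).1 g.isUnit
    have hr : (T - 1).rank = (S - 1).rank := by
      rw [← Matrix.rank_mul_eq_right_of_isUnit_det G (T - 1) hu,
        ← Matrix.rank_mul_eq_left_of_isUnit_det G (S - 1) hu, mul_sub, sub_mul, hcomm, mul_one, one_mul]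
    have hpol : ∀ u v, QuadraticMap.polarBilin (Forms.quadMinus (m - 1) F c d) (Matrix.mulVec G u) (Matrix.mulVec G v) =
        QuadraticMap.polarBilin (Forms.quadMinus (m - 1) F c d) u v := fun u v => by
      simp only [QuadraticMap.polarBilin_apply_apply, QuadraticMap.polar, Forms.quadMinus_apply]
      exact hg u v
    have hform : ∀ (x : ↥(Cfsg.isometryGroup F (Cfsg.quadFormMinus (m - 1) F c d))) v,
        Forms.SympTwo.form (C.toMat x) (C.L v) (C.L v) = QuadraticMap.polarBilin (Forms.quadMinus (m - 1) F c d) v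
          (Matrix.mulVec (x.1 : Matrix _ _ F) v) := fun x v => by
      rw [Forms.SympTwo.form_self, C.toMat_mulVec, LinearEquiv.symm_apply_apply, C.polar]
    have hkey : ∀ v, Forms.SympTwo.form (C.toMat s) (C.L (Matrix.mulVec G v)) (C.L (Matrix.mulVec G v)) =
        Forms.SympTwo.form (C.toMat t) (C.L v) (C.L v) := fun v => by
      rw [hform, hform, Matrix.mulVec_mulVec]
      show QuadraticMap.polarBilin _ _ (Matrix.mulVec (S * G) v) = QuadraticMap.polarBilin _ _ (Matrix.mulVec T v)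
      rw [← hcomm, ← Matrix.mulVec_mulVec, hpol]
    have hsq : ∀ x : ↥(Cfsg.isometryGroup F (Cfsg.quadFormMinus (m - 1) F c d)), orderOf x = 2 →
        C.toMat x * C.toMat x = 1 := fun x hx => by
      have h := pow_orderOf_eq_one x
      rw [hx, sq] at h
      rw [← map_mul, h, map_one]
    refine C.exists_conj hcd t s (hsq t ht) (hsq s hs) (by rw [C.rank_toMat, C.rank_toMat]; exact hr) ?_
    have hsurj : Function.Surjective fun v => C.L (Matrix.mulVec G v) :=
      C.L.surjective.comp (Finite.injective_iff_surjective.1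
        (Matrix.mulVec_injective_of_isUnit ((Matrix.isUnit_iff_isUnit_det G).2 hu)))
    constructor
    · intro h w
      obtain ⟨v, rfl⟩ := hsurj w
      rw [hkey]; exact h _
    · intro h w
      obtain ⟨v, rfl⟩ := C.L.surjective w
      rw [← hkey]; exact h _

end Cfsg.Agent.S2170
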