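import Cfsg.Statements.S2172
import Cfsg.Agent.Lib.Forms.OmegaTwoClasses

set_option autoImplicit false
open Cfsg

namespace Cfsg.Agent.S2172

/-- Splitting of involution classes from O to Ω for the hyperbolic quadratic form Q = Σ x_i y_i in dimension 2m over a finite field F of characteristic two, m ≥ 4. Let t, s be involutions of the commutator subgroup Ω that are conjugate in the full isometry group O. If it is not the case that t − 1 has rank m and Q(v + t v) = 0 for every vector v, then t and s are conjugate by an element of Ω. If t − 1 has rank m and Q(v + t v) = 0 for all v, then t and s are conjugate by an element of Ω exactly when the intersection of the images of t − 1 and s − 1 has even dimension (so the class of t in O meets at most two classes of Ω). -/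
theorem result {F : Type*} [Field F] [Fintype F] [CharP F 2] {m : ℕ} (hm : 4 ≤ m) (t s : ↥(Cfsg.isometryGroup F (Cfsg.quadFormPlus m F))) (ht : orderOf t = 2) (hs : orderOf s = 2) (htO : t ∈ Cfsg.Omega F (Cfsg.quadFormPlus m F)) (hsO : s ∈ Cfsg.Omega F (Cfsg.quadFormPlus m F)) (hconj : IsConj t s) :
    (¬ (((((t : ↥(Cfsg.isometryGroup F (Cfsg.quadFormPlus m F))) : GL (Fin m ⊕ Fin m) F) : Matrix (Fin m ⊕ Fin m) (Fin m ⊕ Fin m) F) - 1).rank = m ∧ ∀ v : Fin m ⊕ Fin m → F, Cfsg.quadFormPlus m F (v + Matrix.mulVec (((t : ↥(Cfsg.isometryGroup F (Cfsg.quadFormPlus m F))) : GL (Fin m ⊕ Fin m) F) : Matrix (Fin m ⊕ Fin m) (Fin m ⊕ Fin m) F) v) = 0) →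
      ∃ g ∈ Cfsg.Omega F (Cfsg.quadFormPlus m F), g * t * g⁻¹ = s) ∧
    ((((((t : ↥(Cfsg.isometryGroup F (Cfsg.quadFormPlus m F))) : GL (Fin m ⊕ Fin m) F) : Matrix (Fin m ⊕ Fin m) (Fin m ⊕ Fin m) F) - 1).rank = m ∧ ∀ v : Fin m ⊕ Fin m → F, Cfsg.quadFormPlus m F (v + Matrix.mulVec (((t : ↥(Cfsg.isometryGroup F (Cfsg.quadFormPlus m F))) : GL (Fin m ⊕ Fin m) F) : Matrix (Fin m ⊕ Fin m) (Fin m ⊕ Fin m) F) v) = 0) →
      ((∃ g ∈ Cfsg.Omega F (Cfsg.quadFormPlus m F), g * t * g⁻¹ = s) ↔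
        Even (Module.finrank F ↥(LinearMap.range (Matrix.toLin' ((((t : ↥(Cfsg.isometryGroup F (Cfsg.quadFormPlus m F))) : GL (Fin m ⊕ Fin m) F) : Matrix (Fin m ⊕ Fin m) (Fin m ⊕ Fin m) F) - 1)) ⊓ LinearMap.range (Matrix.toLin' ((((s : ↥(Cfsg.isometryGroup F (Cfsg.quadFormPlus m F))) : GL (Fin m ⊕ Fin m) F) : Matrix (Fin m ⊕ Fin m) (Fin m ⊕ Fin m) F) - 1)))))) := by
  classical
  have h : Fintype.card F ≠ 2 ∨ m ≠ 2 := Or.inr (by omega)
  have hh : Fintype.card F ≠ 2 ∨ Fintype.card (Fin m ⊕ Fin m) ≠ 4 := Or.inr (by simp; omega)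
  have hf : Cfsg.quadFormPlus m F = ⇑(QForm.plusForm F m) := (QForm.coe_plusForm F m).symm
  have hnd := QForm.plusForm_nondegenerate F m
  obtain ⟨hiff, hpar⟩ := Forms.OmegaTwoClasses.omega_criteria _ _ hf hnd hh
  have hsub : ∀ v : Fin m ⊕ Fin m → F,
      Matrix.mulVec (t.1 : Matrix (Fin m ⊕ Fin m) (Fin m ⊕ Fin m) F) v - v =
        v + Matrix.mulVec (t.1 : Matrix (Fin m ⊕ Fin m) (Fin m ⊕ Fin m) F) v := fun v => funext fun i => by
    simp [CharTwo.sub_eq_add, add_comm]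
  refine ⟨fun hns => ?_, fun hsp => ?_⟩
  · obtain ⟨x, hx, hxt⟩ := Forms.OmegaTwoClasses.exists_odd_commute_plus (by omega) h t ht
      fun h' => hns ⟨h'.1, fun v => by rw [← hsub]; exact h'.2 v⟩
    exact Forms.OmegaTwoClasses.conj_in_of_odd_commute _ hpar hx hxt hconj
  obtain ⟨hr, hq⟩ := hsp
  have hcen : ∀ x, Commute x t → x ∈ Cfsg.Omega F (Cfsg.quadFormPlus m F) := fun x hx =>
    Forms.OmegaTwoClasses.mem_omega_of_commute _ _ hf hnd hh (m := m) (QForm.finrank_plus F m)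
      (fun v => by rw [hsub]; exact hq v) hr hx
  obtain ⟨g, hg⟩ := isConj_iff.1 hconj
  have heq : (∃ x ∈ Cfsg.Omega F (Cfsg.quadFormPlus m F), x * t * x⁻¹ = s) ↔
      g ∈ Cfsg.Omega F (Cfsg.quadFormPlus m F) := by
    refine ⟨?_, fun hgN => ⟨g, hgN, hg⟩⟩
    rintro ⟨x, hxN, hx⟩
    have hc : Commute (x⁻¹ * g) t := by
      show x⁻¹ * g * t = t * (x⁻¹ * g)
      calc x⁻¹ * g * t = x⁻¹ * (g * t * g⁻¹) * g := by group
        _ = t * (x⁻¹ * g) := by rw [hg, ← hx]; group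
    simpa using mul_mem hxN (hcen _ hc)
  have hev : Even m := by
    have := (hiff t).1 htO
    rwa [hr] at this
  rw [heq]
  exact Forms.OmegaTwoClasses.omega_iff_inter (QForm.plusForm F m) _ hf hnd hh (QForm.finrank_plus F m)
    hev (fun v => by rw [hsub]; exact hq v) hr hg

end Cfsg.Agent.S2172
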