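import Cfsg.Statements.S2173
import Cfsg.Agent.Lib.Forms.OmegaTwoClasses

set_option autoImplicit false
open Cfsg

namespace Cfsg.Agent.S2173

/-- For the quadratic form Σ x_i y_i + (z₁² + c z₁ z₂ + d z₂²) in dimension 2m with anisotropic binary part over a finite field F of characteristic two, m ≥ 4 (minus type): two involutions of the commutator subgroup Ω that are conjugate in the full isometry group O are conjugate by an element of Ω (no class of involutions of O inside Ω splits). -/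
theorem result {F : Type*} [Field F] [Fintype F] [CharP F 2] {m : ℕ} (hm : 4 ≤ m) (c d : F) (hcd : ∀ z₁ z₂ : F, z₁ ^ 2 + c * z₁ * z₂ + d * z₂ ^ 2 = 0 → z₁ = 0 ∧ z₂ = 0) (t s : ↥(Cfsg.isometryGroup F (Cfsg.quadFormMinus (m - 1) F c d))) (ht : orderOf t = 2) (hs : orderOf s = 2) (htO : t ∈ Cfsg.Omega F (Cfsg.quadFormMinus (m - 1) F c d)) (hsO : s ∈ Cfsg.Omega F (Cfsg.quadFormMinus (m - 1) F c d)) (hconj : IsConj t s) :
    ∃ g ∈ Cfsg.Omega F (Cfsg.quadFormMinus (m - 1) F c d), g * t * g⁻¹ = s := by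
  have h : Fintype.card F ≠ 2 ∨ m - 1 ≠ 1 := Or.inr (by omega)
  have hh : Fintype.card F ≠ 2 ∨ Fintype.card ((Fin (m - 1) ⊕ Fin (m - 1)) ⊕ Fin 2) ≠ 4 :=
    Or.inr (by simp; omega)
  obtain ⟨-, hpar⟩ := Forms.OmegaTwoClasses.omega_criteria (Forms.quadMinus (m - 1) F c d) _
    (funext fun v => (Forms.quadMinus_apply (F := F) v).symm) (Forms.quadMinus_nondegenerate (m - 1) hcd) hh
  obtain ⟨x, hx, hxt⟩ := Forms.OmegaTwoClasses.exists_odd_commute_minus hcd h t ht
  exact Forms.OmegaTwoClasses.conj_in_of_odd_commute _ hpar hx hxt hconj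

end Cfsg.Agent.S2173
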