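import Cfsg.Statements.S2174
import Cfsg.Agent.Lib.Chev.BNFacts
import Cfsg.Agent.Lib.Chev.Invol.F4.Ranks

set_option autoImplicit false
open Cfsg

namespace Cfsg.Agent.S2174

open Cfsg.Lie Cfsg.Agent.Chev Cfsg.Agent.Chev.Invol

/-- Conjugacy classes of involutions in the Chevalley group of type F₄ over a finite field F of characteristic two (the matrix group generated by the root elements x_r(t)). In this problem's root numbering for type F₄ (the Chevalley data module; fundamental roots p₁, p₂ short and p₃, p₄ long; roots indexed by their coefficient vectors in increasing order) let r = 47 be the highest root (2,4,3,2), s = 44 the highest short root (2,3,2,1), and α = 39 = (1,2,2,1), β = 45 = (2,4,2,1), an orthogonal short/long pair; consider the four elements x_r(1), x_s(1), x_r(1)x_s(1), x_α(1)x_β(1). Then: each invertible matrix equal to one of these four products lies in the group and has order 2; every element of order 2 of the group is conjugate in the group to one of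 them; and no two of them are conjugate in the group (so, the four matrices being distinct, the group has exactly four conjugacy classes of involutions). -/
theorem result {F : Type*} [Field F] [Fintype F] [CharP F 2] :
    (∀ y : GL Cfsg.Lie.chevF4.Idx F, ((y : GL Cfsg.Lie.chevF4.Idx F) : Matrix Cfsg.Lie.chevF4.Idx Cfsg.Lie.chevF4.Idx F) ∈ [Cfsg.Lie.chevF4.x F 47 1, Cfsg.Lie.chevF4.x F 44 1, Cfsg.Lie.chevF4.x F 47 1 * Cfsg.Lie.chevF4.x F 44 1, Cfsg.Lie.chevF4.x F 39 1 * Cfsg.Lie.chevF4.x F 45 1] → y ∈ Cfsg.Lie.chevF4.group F ∧ orderOf y = 2) ∧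
    (∀ g ∈ Cfsg.Lie.chevF4.group F, orderOf g = 2 → ∃ y ∈ Cfsg.Lie.chevF4.group F, ((y : GL Cfsg.Lie.chevF4.Idx F) : Matrix Cfsg.Lie.chevF4.Idx Cfsg.Lie.chevF4.Idx F) ∈ [Cfsg.Lie.chevF4.x F 47 1, Cfsg.Lie.chevF4.x F 44 1, Cfsg.Lie.chevF4.x F 47 1 * Cfsg.Lie.chevF4.x F 44 1, Cfsg.Lie.chevF4.x F 39 1 * Cfsg.Lie.chevF4.x F 45 1] ∧ ∃ h ∈ Cfsg.Lie.chevF4.group F, h * g * h⁻¹ = y) ∧
    (∀ y₁ ∈ Cfsg.Lie.chevF4.group F, ∀ y₂ ∈ Cfsg.Lie.chevF4.group F, ((y₁ : GL Cfsg.Lie.chevF4.Idx F) : Matrix Cfsg.Lie.chevF4.Idx Cfsg.Lie.chevF4.Idx F) ∈ [Cfsg.Lie.chevF4.x F 47 1, Cfsg.Lie.chevF4.x F 44 1, Cfsg.Lie.chevF4.x F 47 1 * Cfsg.Lie.chevF4.x F 44 1, Cfsg.Lie.chevF4.x F 39 1 * Cfsg.Lie.chevF4.x F 45 1] → ((y₂ : GL Cfsg.Lie.chevF4.Idx F) : Matrix Cfsg.Lie.chevF4.Idx Cfsg.Lie.chevF4.Idx F) ∈ [Cfsg.Lie.chevF4.x F 47 1, Cfsg.Lie.chevF4.x F 44 1, Cfsg.Lie.chevF4.x F 47 1 * Cfsg.Lie.chevF4.x F 44 1, Cfsg.Lie.chevF4.x F 39 1 * Cfsg.Lie.chevF4.x F 45 1] →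
      (∃ h ∈ Cfsg.Lie.chevF4.group F, h * y₁ * h⁻¹ = y₂) → ((y₁ : GL Cfsg.Lie.chevF4.Idx F) : Matrix Cfsg.Lie.chevF4.Idx Cfsg.Lie.chevF4.Idx F) = ((y₂ : GL Cfsg.Lie.chevF4.Idx F) : Matrix Cfsg.Lie.chevF4.Idx Cfsg.Lie.chevF4.Idx F)) := by
  have hV := F4.valid
  have hroots : beqL Nat.beq Invol.F4.roots10 (List.range F4.cert.nroots) = true := by decide +kernel
  have hc : Classified chevF4 F Invol.F4.roots10 ([] :: [[47], [44], [47, 44], [39, 45]]) :=
    Invol.F4.classified_final BNSetup.facts_chevF4 BNSetup.negTri_chevF4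
  have e0 := (invDim_eq (F := F) hV (w := [47]) (by decide) Invol.F4.rank0_ok).trans Invol.F4.rank0_len
  have f0 := (invDim_eq (F := F) hV (w := [47]) (by decide) Invol.F4.rankShort0_ok).trans
    Invol.F4.rankShort0_len
  have e1 := (invDim_eq (F := F) hV (w := [44]) (by decide) Invol.F4.rank1_ok).trans Invol.F4.rank1_len
  have f1 := (invDim_eq (F := F) hV (w := [44]) (by decide) Invol.F4.rankShort1_ok).trans
    Invol.F4.rankShort1_len
  have e2 := (invDim_eq (F := F) hV (w := [47, 44]) (by decide) Invol.F4.rank2_ok).trans Invol.F4.rank2_len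
  have f2 := (invDim_eq (F := F) hV (w := [47, 44]) (by decide) Invol.F4.rankShort2_ok).trans
    Invol.F4.rankShort2_len
  have e3 := (invDim_eq (F := F) hV (w := [39, 45]) (by decide) Invol.F4.rank3_ok).trans Invol.F4.rank3_len
  have f3 := (invDim_eq (F := F) hV (w := [39, 45]) (by decide) Invol.F4.rankShort3_ok).trans
    Invol.F4.rankShort3_len
  have h := classes_of_invariant (F := F) hV hroots hc
    (fun g => (invDim chevF4 F (colSpan chevF4 F (List.range 52)) g,
      invDim chevF4 F (colSpan chevF4 F Invol.F4.shortCols) g))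
    (fun a ha b => Prod.ext (invDim_conj_top a b) (invDim_conj_group hV Invol.F4.shortCols_pres ha b))
    (by
      intro w hw
      simp only [List.mem_cons, List.not_mem_nil, or_false] at hw
      rcases hw with rfl | rfl | rfl | rfl
      · exact orderOf_oneWord hV (by decide) (n := 200) (by decide +kernel) e0 (by decide)
      · exact orderOf_oneWord hV (by decide) (n := 200) (by decide +kernel) e1 (by decide)
      · exact orderOf_oneWord hV (by decide) (n := 200) (by decide +kernel) e2 (by decide)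
      · exact orderOf_oneWord hV (by decide) (n := 200) (by decide +kernel) e3 (by decide))
    (by
      intro w hw w' hw'
      simp only [List.mem_cons, List.not_mem_nil, or_false] at hw hw'
      rcases hw with rfl | rfl | rfl | rfl <;> rcases hw' with rfl | rfl | rfl | rfl <;>
        first
          | (intro _; rfl)
          | (simp only [e0, e1, e2, e3, f0, f1, f2, f3]; decide))
  simpa only [prodList, List.map_cons, List.map_nil, List.prod_cons, List.prod_nil, mul_one, mul_assoc] using h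

end Cfsg.Agent.S2174
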