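import Cfsg.Statements.S2177
import Cfsg.Agent.Lib.G2Invol.Classes
-- import your own Cfsg.Agent.* helpers here

set_option autoImplicit false
open Cfsg

namespace Cfsg.Agent.S2177

open scoped Pointwise

/-- Conjugacy classes of involutions in the Chevalley group of type G₂ over a finite field F of characteristic two with at least four elements (the matrix group generated by the root elements x_r(t)). In this problem's root numbering for type G₂ (the Chevalley data module; p₁ = a short, p₂ = b long; roots indexed by coefficient vectors in increasing order) let 11 be the highest root 3a + 2b (long) and 9 the short root 2a + b; consider x_{3a+2b}(1) and x_{2a+b}(1). Then: each invertible matrix equal to one of these two products lies in the group and has order 2; every element of order 2 of the group is conjugate in the group to one of them; and no two of them are conjugate in the group (so, the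 two matrices being distinct, the group has exactly two conjugacy classes of involutions). -/
theorem result {F : Type*} [Field F] [Fintype F] [CharP F 2] (hF : 4 ≤ Fintype.card F) :
    (∀ y : GL Cfsg.Lie.chevG2.Idx F, ((y : GL Cfsg.Lie.chevG2.Idx F) : Matrix Cfsg.Lie.chevG2.Idx Cfsg.Lie.chevG2.Idx F) ∈ [Cfsg.Lie.chevG2.x F 11 1, Cfsg.Lie.chevG2.x F 9 1] → y ∈ Cfsg.Lie.chevG2.group F ∧ orderOf y = 2) ∧
    (∀ g ∈ Cfsg.Lie.chevG2.group F, orderOf g = 2 → ∃ y ∈ Cfsg.Lie.chevG2.group F, ((y : GL Cfsg.Lie.chevG2.Idx F) : Matrix Cfsg.Lie.chevG2.Idx Cfsg.Lie.chevG2.Idx F) ∈ [Cfsg.Lie.chevG2.x F 11 1, Cfsg.Lie.chevG2.x F 9 1] ∧ ∃ h ∈ Cfsg.Lie.chevG2.group F, h * g * h⁻¹ = y) ∧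
    (∀ y₁ ∈ Cfsg.Lie.chevG2.group F, ∀ y₂ ∈ Cfsg.Lie.chevG2.group F, ((y₁ : GL Cfsg.Lie.chevG2.Idx F) : Matrix Cfsg.Lie.chevG2.Idx Cfsg.Lie.chevG2.Idx F) ∈ [Cfsg.Lie.chevG2.x F 11 1, Cfsg.Lie.chevG2.x F 9 1] → ((y₂ : GL Cfsg.Lie.chevG2.Idx F) : Matrix Cfsg.Lie.chevG2.Idx Cfsg.Lie.chevG2.Idx F) ∈ [Cfsg.Lie.chevG2.x F 11 1, Cfsg.Lie.chevG2.x F 9 1] →
      (∃ h ∈ Cfsg.Lie.chevG2.group F, h * y₁ * h⁻¹ = y₂) → ((y₁ : GL Cfsg.Lie.chevG2.Idx F) : Matrix Cfsg.Lie.chevG2.Idx Cfsg.Lie.chevG2.Idx F) = ((y₂ : GL Cfsg.Lie.chevG2.Idx F) : Matrix Cfsg.Lie.chevG2.Idx Cfsg.Lie.chevG2.Idx F)) := by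
  have hG : Cfsg.Agent.Chev.Good Cfsg.Lie.chevG2 := Cfsg.Agent.Chev.G2.good
  have key : ∀ y : GL Cfsg.Lie.chevG2.Idx F, ((y : GL Cfsg.Lie.chevG2.Idx F) : Matrix Cfsg.Lie.chevG2.Idx Cfsg.Lie.chevG2.Idx F) ∈ [Cfsg.Lie.chevG2.x F 11 1, Cfsg.Lie.chevG2.x F 9 1] →
      y = Cfsg.Agent.Chev.xg Cfsg.Lie.chevG2 F 11 1 ∨ y = Cfsg.Agent.Chev.xg Cfsg.Lie.chevG2 F 9 1 := by
    intro y hy
    simp only [List.mem_cons, List.not_mem_nil, or_false] at hy
    exact hy.imp hG.eq_xg hG.eq_xg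
  have hx9 : Cfsg.Agent.Chev.xg Cfsg.Lie.chevG2 F 9 (1 : F) ≠ 1 := fun h => one_ne_zero
    (Cfsg.Agent.Chev.G2Invol.el_eq_one ((Cfsg.Agent.Chev.G2Short.el_eq9 1).trans h)).1
  have hx11 : Cfsg.Agent.Chev.xg Cfsg.Lie.chevG2 F 11 (1 : F) ≠ 1 := fun h => one_ne_zero
    (Cfsg.Agent.Chev.G2Invol.el_eq_one ((Cfsg.Agent.Chev.G2Short.el_eq11 1).trans h)).2.2
  refine ⟨fun y hy => ?_, fun g hg hord => ?_, fun y₁ hy₁ y₂ hy₂ h₁ h₂ hconj => ?_⟩
  · rcases key y hy with rfl | rfl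
    · exact ⟨hG.xg_mem_group _ _, orderOf_eq_prime (by rw [pow_two, Cfsg.Agent.Chev.G2Invol.xsq]) hx11⟩
    · exact ⟨hG.xg_mem_group _ _, orderOf_eq_prime (by rw [pow_two, Cfsg.Agent.Chev.G2Invol.xsq]) hx9⟩
  · haveI : Fact (Nat.Prime 2) := ⟨Nat.prime_two⟩
    obtain ⟨P, hP⟩ := Cfsg.Agent.Chev.ChevSylow.exists_sylow 2 hG Cfsg.Agent.Chev.BNSetup.facts_chevG2 (F := F)
    have hp : IsPGroup 2 (Subgroup.zpowers (⟨g, hg⟩ : Cfsg.Lie.chevG2.group F)) := by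
      refine IsPGroup.of_card (n := 1) ?_
      rw [Nat.card_zpowers, Subgroup.orderOf_mk, hord, pow_one]
    obtain ⟨Q, hQ⟩ := hp.exists_le_sylow
    obtain ⟨k, hk⟩ := MulAction.exists_smul_eq (Cfsg.Lie.chevG2.group F) Q P
    have hu : (k : GL Cfsg.Lie.chevG2.Idx F) * g * (k : GL Cfsg.Lie.chevG2.Idx F)⁻¹ ∈ Cfsg.Lie.chevG2.posUnipotent F := by
      have h1 := Subgroup.smul_mem_pointwise_smul _ (MulAut.conj k) (Q : Subgroup (Cfsg.Lie.chevG2.group F))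
        (hQ (Subgroup.mem_zpowers (⟨g, hg⟩ : Cfsg.Lie.chevG2.group F)))
      rw [← Sylow.coe_subgroup_smul, hk, hP] at h1
      exact h1
    obtain ⟨f, p, q, a, b, c, he⟩ := Cfsg.Agent.Chev.G2Invol.exists_normal_form hu
    have hgg : g * g = 1 := by rw [← pow_two, ← hord, pow_orderOf_eq_one]
    have hne : (k : GL Cfsg.Lie.chevG2.Idx F) * g * (k : GL Cfsg.Lie.chevG2.Idx F)⁻¹ ≠ 1 := by
      intro h
      rw [mul_inv_eq_one, mul_eq_left] at h
      rw [h, orderOf_one] at hord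
      omega
    have hsq : ∀ v : F, ∃ w : F, w ^ 2 = v := fun v => by
      obtain ⟨w, hw⟩ := FiniteField.isSquare_of_char_two (ringChar.eq F 2) v
      exact ⟨w, by rw [hw, pow_two]⟩
    obtain ⟨h, hh, hh'⟩ := (Cfsg.Agent.Chev.G2Invol.rep_unipotent f p q a b c hsq he
      (Cfsg.Agent.Chev.G2Invol.sq_conj _ hgg) hne).of_conj k.2
    refine ⟨h * g * h⁻¹, mul_mem (mul_mem hh hg) (inv_mem hh), ?_, h, hh, rfl⟩
    rcases hh' with h' | h' <;> rw [h', hG.coe_xg] <;> simp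
  · obtain ⟨h, hh, hconj⟩ := hconj
    rcases key y₁ h₁ with rfl | rfl <;> rcases key y₂ h₂ with rfl | rfl
    · rfl
    · exfalso
      refine Cfsg.Agent.Chev.G2Invol.not_conj (inv_mem hh) ?_
      rw [← hconj]
      group
    · exact absurd hconj (Cfsg.Agent.Chev.G2Invol.not_conj hh)
    · rfl

end Cfsg.Agent.S2177
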