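import Cfsg.Statements.S2178
-- import your own Cfsg.Agent.* helpers here

import Cfsg.Agent.Lib.Chev.ChevData
import Cfsg.Agent.Lib.Chev.CheckF4

set_option autoImplicit false
open Cfsg

namespace Cfsg.Agent.S2178

set_option maxRecDepth 100000

open Cfsg.Agent.Chev in
theorem long_ok : F4.cert.rootTwoOK 47 3 = true := by decide +kernel

open Cfsg.Agent.Chev in
theorem short_ok : F4.cert.rootTwoOK 44 0 = true := by decide +kernel

open Cfsg.Agent.Chev in
theorem long_list : ((List.range F4.cert.rank).filter fun i => i != 3).map (fun i => F4.cert.ng (F4.cert.p i)) =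
    [14, 20, 22] := by decide +kernel

open Cfsg.Agent.Chev in
theorem short_list : ((List.range F4.cert.rank).filter fun i => i != 0).map (fun i => F4.cert.ng (F4.cert.p i)) =
    [20, 22, 23] := by decide +kernel


/-- Centralizers of the long and the short root involutions in the Chevalley group G of type F₄ over a finite field F of characteristic two (this problem's root numbering for type F₄, from the Chevalley data module: fundamental roots p₁, p₂ short, p₃, p₄ long, with indices 33, 27, 25, 24, their negatives 14, 20, 22, 23; highest root 47, highest short root 44; U the subgroup generated by the positive root subgroups). For an element t of G with matrix x_47(1): the centralizer of t in G is the subgroup generated by U and the root subgroups X_{−p₁}, X_{−p₂}, X_{−p₃} (the unipotent radical of the maximal parabolic subgroup whose Levi factor has fundamental roots p₁, p₂, p₃, together with that Levi factor's root subgroups; the Levi factor is of type C₃). For an element u of G with matrix x_44(1): the centralizer of u in G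 is generated by U and X_{−p₂}, X_{−p₃}, X_{−p₄} (the same construction for the Levi factor with fundamental roots p₂, p₃, p₄, of type B₃). -/
theorem result {F : Type*} [Field F] [Fintype F] [CharP F 2] (t u : GL Cfsg.Lie.chevF4.Idx F) (ht : (t : Matrix Cfsg.Lie.chevF4.Idx Cfsg.Lie.chevF4.Idx F) = Cfsg.Lie.chevF4.x F 47 1) (hu : (u : Matrix Cfsg.Lie.chevF4.Idx Cfsg.Lie.chevF4.Idx F) = Cfsg.Lie.chevF4.x F 44 1) :
    Cfsg.Lie.chevF4.group F ⊓ Subgroup.centralizer {t} = Cfsg.Lie.chevF4.posUnipotent F ⊔ Cfsg.Lie.chevF4.rootSubgroup F 14 ⊔ Cfsg.Lie.chevF4.rootSubgroup F 20 ⊔ Cfsg.Lie.chevF4.rootSubgroup F 22 ∧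
    Cfsg.Lie.chevF4.group F ⊓ Subgroup.centralizer {u} = Cfsg.Lie.chevF4.posUnipotent F ⊔ Cfsg.Lie.chevF4.rootSubgroup F 20 ⊔ Cfsg.Lie.chevF4.rootSubgroup F 22 ⊔ Cfsg.Lie.chevF4.rootSubgroup F 23 := by
  obtain ⟨tabs, simps, hf⟩ := Cfsg.Agent.Chev.BNSetup.exists_facts (D := Cfsg.Lie.chevF4) (by simp)
  have hG : Cfsg.Agent.Chev.Good Cfsg.Lie.chevF4 := Cfsg.Agent.Chev.F4.good
  have hT := Cfsg.Agent.Chev.isChevData (F := F) hG hf
  have hn : Cfsg.Lie.chevF4.nroots = 48 := by decide +kernel
  have hr : Cfsg.Lie.chevF4.rank = 4 := by decide +kernel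
  rw [hG.eq_xg ht, hG.eq_xg hu]
  constructor
  · rw [hT.centralizer_root Cfsg.Agent.Chev.F4.valid (r := 47) (j₀ := 3) (by omega) (by omega) long_ok,
      Cfsg.Agent.Chev.closure_negSimple_eq Cfsg.Agent.Chev.F4.valid (l := [14, 20, 22]) long_list,
      Cfsg.Agent.Chev.closure_rootList_eq]
    simp [sup_assoc]
  · rw [hT.centralizer_root Cfsg.Agent.Chev.F4.valid (r := 44) (j₀ := 0) (by omega) (by omega) short_ok,
      Cfsg.Agent.Chev.closure_negSimple_eq Cfsg.Agent.Chev.F4.valid (l := [20, 22, 23]) short_list,
      Cfsg.Agent.Chev.closure_rootList_eq]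
    simp [sup_assoc]

end Cfsg.Agent.S2178
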