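import Cfsg.Statements.S2179
import Cfsg.Agent.Lib.Chev.PairInvolution
import Cfsg.Agent.Lib.Chev.CheckF4
import Cfsg.Agent.Lib.Chev.UnipotentInter
import Cfsg.Agent.Lib.Chev.TorusProd

set_option autoImplicit false
open Cfsg

namespace Cfsg.Agent.S2179

open Cfsg.Lie Cfsg.Agent.Chev

set_option maxRecDepth 100000
set_option synthInstance.maxSize 5000

/-- The long roots. -/
def lg : List ℕ := [0, 1, 2, 4, 5, 6, 15, 16, 17, 21, 22, 23, 24, 25, 26, 30, 31, 32, 41, 42, 43, 45, 46, 47]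

/-- Positive roots moved to negative ones by no element of the stabiliser, and the centralizing roots. -/
def q1 : List ℕ := [24, 26, 29, 31, 32, 33, 34, 35, 36, 37, 38, 39, 40, 41, 42, 43, 44, 45, 46, 47]

/-- Roots centralizing `x_47(1)` and `x_44(1)`. -/
def p1 : List ℕ := [24, 25, 26, 27, 28, 29, 30, 31, 32, 33, 34, 35, 36, 37, 38, 39, 40, 41, 42, 43, 44, 45, 46, 47, 20, 22]

/-- Positive roots kept positive by the stabiliser of `(39, 45)`. -/
def q2 : List ℕ := [25, 26, 27, 28, 29, 30, 31, 32, 34, 35, 36, 37, 38, 39, 40, 41, 42, 43, 44, 45, 46, 47]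

/-- Roots centralizing `x_39(1)` and `x_45(1)`. -/
def p2 : List ℕ := [24, 28, 29, 30, 31, 32, 33, 35, 36, 37, 38, 39, 40, 41, 42, 43, 44, 45, 46, 47, 14, 23]

theorem lg_w : ∀ i < F4.cert.rank, ∀ r < F4.cert.nroots, lg.contains (F4.cert.w i r) = lg.contains r := by
  decide +kernel

theorem good_col : ∀ r < F4.cert.nroots, ∀ s < F4.cert.nroots, F4.cert.gdPair lg r s = true →
    F4.cert.col r (F4.cert.rank + s) = [(F4.cert.rank + s, 0, 1)] := by
  decide +kernel

theorem odd_A : ∀ r < F4.cert.nroots, ∃ j < F4.cert.rank, F4.cert.A j r % 2 ≠ 0 := by decide +kernel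

theorem ok1 : F4.cert.PairOK 47 44 [] [1, 2] q1 p1 lg where
  basic := by decide +kernel
  longW := lg_w
  good := good_col
  gamma := by decide +kernel
  into := by decide +kernel
  errComm := by decide +kernel
  uniq := by decide +kernel
  odd := odd_A
  desc := by decide +kernel
  fix := by decide +kernel
  qpos := by decide +kernel
  qclosed := by decide +kernel
  cover := by decide +kernel
  pComm := by decide +kernel

theorem ok2 : F4.cert.PairOK 39 45 [40, 44, 46, 47] [0, 3] q2 p2 lg where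
  basic := by decide +kernel
  longW := lg_w
  good := good_col
  gamma := by decide +kernel
  into := by decide +kernel
  errComm := by decide +kernel
  uniq := by decide +kernel
  odd := odd_A
  desc := by decide +kernel
  fix := by decide +kernel
  qpos := by decide +kernel
  qclosed := by decide +kernel
  cover := by decide +kernel
  pComm := by decide +kernel

theorem hn : chevF4.nroots = 48 := by decide +kernel

theorem hk : chevF4.rank = 4 := by decide +kernel

theorem simple_facts : F4.cert.p 0 = 33 ∧ F4.cert.p 1 = 27 ∧ F4.cert.p 2 = 25 ∧ F4.cert.p 3 = 24 ∧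
    F4.cert.ng 33 = 14 ∧ F4.cert.ng 27 = 20 ∧ F4.cert.ng 25 = 22 ∧ F4.cert.ng 24 = 23 := by decide +kernel

theorem cartan_facts : (List.range 4).map (fun i => F4.cert.A i 47) = [0, 0, 0, 1] ∧
    (List.range 4).map (fun i => F4.cert.A i 44) = [1, 0, 0, 0] ∧
    (List.range 4).map (fun i => F4.cert.A i 39) = [0, -1, 1, 0] ∧
    (List.range 4).map (fun i => F4.cert.A i 45) = [0, 2, -1, 0] := by decide +kernel

theorem comm_facts : F4.cert.comm 34 39 = [(44, 1, 1, 1)] ∧ F4.cert.comm 27 39 = [(40, 1, 1, 1)] ∧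
    F4.cert.comm 26 45 = [(47, 1, 1, 1)] ∧ F4.cert.comm 25 45 = [(46, 1, 1, 1)] := by decide +kernel

/-- The positive roots centralizing `x_39(1)`, `x_45(1)` and `x_44(1)`, without the fundamental root 24. -/
def jl : List ℕ := [28, 29, 30, 31, 32, 33, 35, 36, 37, 38, 39, 40, 41, 42, 43, 44, 45, 46, 47]

theorem commute_facts : (∀ r ∈ jl, ∀ e ∈ [39, 45, 44], F4.cert.commB r e = true) ∧
    (∀ q ∈ [(24, 39), (24, 45), (34, 45), (27, 45), (27, 44), (26, 39), (26, 40), (26, 44), (25, 39), (25, 40),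
      (25, 44), (25, 47), (44, 45), (40, 45)], F4.cert.commB q.1 q.2 = true) := by decide +kernel

variable {F : Type*} [Field F] [CharP F 2]

theorem commute_of {r e : ℕ} (hr : r < 48) (he : e < 48) (h : F4.cert.commB r e = true) (t u : F) :
    Commute (xg chevF4 F r t) (xg chevF4 F e u) := by
  simp only [Cert.commB, Bool.or_eq_true, beq_iff_eq, Bool.and_eq_true, Bool.not_eq_true',
    beq_eq_false_iff_ne] at h
  exact F4.valid.commute_xg (hn ▸ hr) (hn ▸ he) h t u

theorem conj_fix {G : Type*} [Group G] {x y : G} (h : Commute x y) : x * y * x⁻¹ = y := by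
  rw [h.eq, mul_inv_cancel_right]

theorem cast_odd {m : ℤ} (h : m % 2 ≠ 0) : (m : F) ≠ 0 := fun h0 => h (by
  rw [CharP.intCast_eq_zero_iff F 2] at h0
  exact Int.emod_eq_zero_of_dvd (by exact_mod_cast h0))

/-- Conjugation with a single commutator term. -/
theorem conj_single {r s k : ℕ} (hr : r < 48) (hs : s < 48) (h1 : r ≠ s) (h2 : r ≠ F4.cert.ng s)
    (hc : F4.cert.comm s r = [(k, 1, 1, 1)]) (u : F) :
    xg chevF4 F s u * xg chevF4 F r 1 * (xg chevF4 F s u)⁻¹ = xg chevF4 F r 1 * xg chevF4 F k u := by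
  have hD : Good chevF4 := F4.good
  have hs' : s < chevF4.nroots := hn ▸ hs
  have e := hD.xg_comm hs' (hn ▸ hr) h1 (by rw [F4.valid.ng_eq hs']; exact h2) (-u) (1 : F)
  have hw : wordG chevF4 F (chevF4.commWord F s r (-u) 1) = xg chevF4 F k u := by
    rw [ChevalleyDatum.commWord, F4.valid.comm_eq hs' (hn ▸ hr), hc]
    simp [wordG]
  rw [show xg chevF4 F s u = (xg chevF4 F s (-u))⁻¹ by rw [hD.xg_inv, neg_neg], inv_inv, mul_assoc, e, hw]
  group

/-- A torus element moves root elements by its parameters. -/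
theorem torus_mul_xg {c : ℕ → F} (hc : ∀ i < 4, c i ≠ 0) {r : ℕ} (hr : r < 48) (t : F) :
    hG chevF4 F (chevF4.simple 0) (c 0) * hG chevF4 F (chevF4.simple 1) (c 1) *
        hG chevF4 F (chevF4.simple 2) (c 2) * hG chevF4 F (chevF4.simple 3) (c 3) * xg chevF4 F r t =
      xg chevF4 F r (c 0 ^ F4.cert.A 0 r * (c 1 ^ F4.cert.A 1 r * (c 2 ^ F4.cert.A 2 r * (c 3 ^ F4.cert.A 3 r * t)))) *
        (hG chevF4 F (chevF4.simple 0) (c 0) * hG chevF4 F (chevF4.simple 1) (c 1) *
        hG chevF4 F (chevF4.simple 2) (c 2) * hG chevF4 F (chevF4.simple 3) (c 3)) := by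
  have hD : Good chevF4 := F4.good
  have key : ∀ i < 4, ∀ t : F, hG chevF4 F (chevF4.simple i) (c i) * xg chevF4 F r t =
      xg chevF4 F r (c i ^ F4.cert.A i r * t) * hG chevF4 F (chevF4.simple i) (c i) := by
    intro i hi t
    rw [hD.hG_mul_xg (hk ▸ hi) (hn ▸ hr) (hc i hi), F4.valid.A_eq (hk ▸ hi) (hn ▸ hr)]
  simp only [mul_assoc]
  rw [key 3 (by omega), ← mul_assoc (hG chevF4 F (chevF4.simple 2) _), key 2 (by omega), mul_assoc,
    ← mul_assoc (hG chevF4 F (chevF4.simple 1) _), key 1 (by omega), mul_assoc,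
    ← mul_assoc (hG chevF4 F (chevF4.simple 0) _), key 0 (by omega), mul_assoc]

theorem exists_torus {h : GL chevF4.Idx F} (hh : h ∈ chevF4.diagonalSubgroup F) :
    ∃ c : ℕ → F, (∀ i < 4, c i ≠ 0) ∧ h = hG chevF4 F (chevF4.simple 0) (c 0) *
      hG chevF4 F (chevF4.simple 1) (c 1) * hG chevF4 F (chevF4.simple 2) (c 2) *
      hG chevF4 F (chevF4.simple 3) (c 3) := by
  obtain ⟨c, hc, e⟩ := BNSetup.exists_hWord_product F4.good hh
  refine ⟨c, fun i hi => hc i (hk ▸ hi), Units.ext ?_⟩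
  rw [e, BNSetup.wordMat_flatMap]
  show (List.map _ (List.range 4)).prod = _
  simp [List.range_succ, hG, (F4.good : Good chevF4).coe_wordG, mul_assoc]

theorem torus_coeff {c : ℕ → F} (hc : ∀ i < 4, c i ≠ 0) {r : ℕ} (hr : r < 48)
    (h : Commute (hG chevF4 F (chevF4.simple 0) (c 0) * hG chevF4 F (chevF4.simple 1) (c 1) *
      hG chevF4 F (chevF4.simple 2) (c 2) * hG chevF4 F (chevF4.simple 3) (c 3)) (xg chevF4 F r 1)) :
    c 0 ^ F4.cert.A 0 r * (c 1 ^ F4.cert.A 1 r * (c 2 ^ F4.cert.A 2 r * c 3 ^ F4.cert.A 3 r)) = 1 := by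
  have := h.eq
  rw [torus_mul_xg hc hr] at this
  obtain ⟨j, hj, hA⟩ := odd_A r (by rw [F4.valid.nroots_eq, hn]; exact hr)
  have hj' : j < chevF4.rank := by rw [← F4.valid.rank_eq]; exact hj
  have e := F4.valid.xg_injective (j := j) (hn ▸ hr) hj' (by rw [F4.valid.A_eq hj' (hn ▸ hr)]; exact cast_odd hA)
    (mul_right_cancel this)
  simpa using e

theorem hG_one (r : ℕ) (hr : r < 48) : hG chevF4 F r 1 = 1 := by
  have hD : Good chevF4 := F4.good
  have := hD.hG_mul (hn ▸ hr : r < chevF4.nroots) (one_ne_zero (α := F)) (one_ne_zero (α := F))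
  rw [one_mul] at this
  exact mul_left_cancel (this.trans (mul_one _).symm)

theorem hG_mem {K : Subgroup (GL chevF4.Idx F)} {i : ℕ} (hi : i < 4)
    (h1 : ∀ t : F, xg chevF4 F (F4.cert.p i) t ∈ K) (h2 : ∀ t : F, xg chevF4 F (F4.cert.ng (F4.cert.p i)) t ∈ K)
    (a : F) : hG chevF4 F (chevF4.simple i) a ∈ K := by
  rw [Chev.hG_eq, Chev.nG_eq, Chev.nG_eq, F4.valid.p_eq (hk ▸ hi),
    F4.valid.ng_eq (F4.valid.p_lt (hk ▸ hi))]
  exact mul_mem (mul_mem (mul_mem (h1 _) (h2 _)) (h1 _)) (mul_mem (mul_mem (h1 _) (h2 _)) (h1 _))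

/-- The elements of `U` centralizing `x_39(1) x_45(1)`. -/
theorem mem_of_commute_U {K : Subgroup (GL chevF4.Idx F)}
    (hK : ∀ r ∈ 24 :: jl, ∀ t : F, xg chevF4 F r t ∈ K) {u : GL chevF4.Idx F}
    (hu : u ∈ chevF4.posUnipotent F) (huv : Commute u (xg chevF4 F 39 1 * xg chevF4 F 45 1)) : u ∈ K := by
  have hD : Good chevF4 := F4.good
  obtain ⟨tabs, simps, hf⟩ := BNSetup.exists_facts (D := chevF4) (by simp)
  have hx : ∀ r t, BNSetup.xe hD r t = xg chevF4 F r t := fun r t => hD.eq_xg (BNSetup.coe_xe hD r t)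
  rw [← BNSetup.Uge_eq_U hD hf] at hu
  obtain ⟨t, -, rfl⟩ := BNSetup.exists_prodFrom hD hf (k := chevF4.nroots / 2) (m := 24)
    (by rw [hn]) le_rfl u hu
  have hmem : ∀ (K' : Subgroup (GL chevF4.Idx F)) (k m : ℕ),
      (∀ r, k ≤ r → r < k + m → ∀ c : F, xg chevF4 F r c ∈ K') → BNSetup.prodFrom hD F t k m ∈ K' := by
    intro K' k m
    induction m generalizing k with
    | zero => intro _; exact one_mem _
    | succ m ih =>
      intro h
      rw [BNSetup.prodFrom, hx]
      exact mul_mem (h k le_rfl (by omega) _) (ih (k + 1) fun r h1 h2 => h r (by omega) (by omega))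
  have hsplit : ∀ m k m' : ℕ, BNSetup.prodFrom hD F t k (m + m') =
      BNSetup.prodFrom hD F t k m * BNSetup.prodFrom hD F t (k + m) m' := by
    intro m
    induction m with
    | zero => intro k m'; simp [BNSetup.prodFrom]
    | succ m ih =>
      intro k m'
      rw [show m + 1 + m' = (m + m') + 1 by omega, BNSetup.prodFrom, BNSetup.prodFrom, ih, mul_assoc,
        show k + 1 + m = k + (m + 1) by omega]
  set J := Subgroup.closure {x : GL chevF4.Idx F | ∃ r ∈ jl, ∃ c : F, x = xg chevF4 F r c} with hJ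
  have hJc : ∀ e ∈ [39, 45, 44], ∀ z ∈ J, ∀ c : F, Commute z (xg chevF4 F e c) := by
    intro e he z hz c
    have he' : e < 48 := by simp at he; omega
    induction hz using Subgroup.closure_induction with
    | mem x hx =>
      obtain ⟨r, hr, d, rfl⟩ := hx
      have hr' : r < 48 := by simp [jl] at hr; omega
      exact commute_of hr' he' (commute_facts.1 r hr e he) d c
    | one => exact Commute.one_left _
    | mul x y _ _ hx hy => exact hx.mul_left hy
    | inv x _ hx => exact hx.inv_left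
  set R1 := BNSetup.prodFrom hD F t 28 6 with hR1
  set R2 := BNSetup.prodFrom hD F t 35 13 with hR2
  have hR1J : R1 ∈ J := hmem J 28 6 fun r h1 h2 c => Subgroup.subset_closure
    ⟨r, by interval_cases r <;> decide, c, rfl⟩
  have hR2J : R2 ∈ J := hmem J 35 13 fun r h1 h2 c => Subgroup.subset_closure
    ⟨r, by interval_cases r <;> decide, c, rfl⟩
  have heq : BNSetup.prodFrom hD F t (chevF4.nroots / 2) 24 = xg chevF4 F 24 (t 24) * (xg chevF4 F 25 (t 25) *
      (xg chevF4 F 26 (t 26) * (xg chevF4 F 27 (t 27) * (R1 * (xg chevF4 F 34 (t 34) * R2))))) := by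
    show BNSetup.prodFrom hD F t 24 (((((20 + 1) + 1) + 1) + 1)) = _
    rw [BNSetup.prodFrom, BNSetup.prodFrom, BNSetup.prodFrom, BNSetup.prodFrom, hsplit 6 _ 14, hx, hx, hx, hx]
    show _ * (_ * (_ * (_ * (R1 * BNSetup.prodFrom hD F t 34 (13 + 1))))) = _
    rw [BNSetup.prodFrom, hx]
  rw [heq] at huv ⊢
  set v := xg chevF4 F 39 1 * xg chevF4 F 45 1 with hv
  have cf : ∀ q ∈ [(24, 39), (24, 45), (34, 45), (27, 45), (27, 44), (26, 39), (26, 40), (26, 44), (25, 39),
      (25, 40), (25, 44), (25, 47), (44, 45), (40, 45)], ∀ c d : F,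
      Commute (xg chevF4 F q.1 c) (xg chevF4 F q.2 d) := by
    intro q hq c d
    have : q.1 < 48 ∧ q.2 < 48 := by simp at hq; rcases hq with rfl | hq <;> aesop
    exact commute_of this.1 this.2 (commute_facts.2 q hq) c d
  set a := t 27
  set b := t 25
  set cc := t 34
  set d := t 26
  have hJv : ∀ z ∈ J, z * v * z⁻¹ = v := fun z hz =>
    conj_fix ((hJc 39 (by simp) z hz 1).mul_right (hJc 45 (by simp) z hz 1))
  have h24 : Commute (xg chevF4 F 24 (t 24)) v := (cf (24, 39) (by simp) _ _).mul_right (cf (24, 45) (by simp) _ _)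
  have huv' := h24.inv_left.mul_left huv
  rw [inv_mul_cancel_left] at huv'
  have e34 : xg chevF4 F 34 cc * v * (xg chevF4 F 34 cc)⁻¹ = v * xg chevF4 F 44 cc := by
    rw [hv, ← conj_mul, conj_single (by omega) (by omega) (by omega) (by decide +kernel) comm_facts.1,
      conj_fix (cf (34, 45) (by simp) _ _), mul_assoc, (cf (44, 45) (by simp) cc 1).eq, mul_assoc]
  have e27 : xg chevF4 F 27 a * (v * xg chevF4 F 44 cc) * (xg chevF4 F 27 a)⁻¹ =
      v * xg chevF4 F 40 a * xg chevF4 F 44 cc := by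
    rw [hv, ← conj_mul, ← conj_mul, conj_single (by omega) (by omega) (by omega) (by decide +kernel) comm_facts.2.1,
      conj_fix (cf (27, 45) (by simp) _ _), conj_fix (cf (27, 44) (by simp) _ _),
      mul_assoc (xg chevF4 F 39 1) (xg chevF4 F 40 a), (cf (40, 45) (by simp) a 1).eq, ← mul_assoc]
  have e26 : xg chevF4 F 26 d * (v * xg chevF4 F 40 a * xg chevF4 F 44 cc) * (xg chevF4 F 26 d)⁻¹ =
      v * xg chevF4 F 47 d * xg chevF4 F 40 a * xg chevF4 F 44 cc := by
    rw [hv, ← conj_mul, ← conj_mul, ← conj_mul, conj_fix (cf (26, 39) (by simp) _ _),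
      conj_single (by omega) (by omega) (by omega) (by decide +kernel) comm_facts.2.2.1,
      conj_fix (cf (26, 40) (by simp) _ _), conj_fix (cf (26, 44) (by simp) _ _)]
    simp only [mul_assoc]
  have e25 : xg chevF4 F 25 b * (v * xg chevF4 F 47 d * xg chevF4 F 40 a * xg chevF4 F 44 cc) *
      (xg chevF4 F 25 b)⁻¹ =
      v * (xg chevF4 F 46 b * xg chevF4 F 47 d * xg chevF4 F 40 a * xg chevF4 F 44 cc) := by
    rw [hv, ← conj_mul, ← conj_mul, ← conj_mul, ← conj_mul, conj_fix (cf (25, 39) (by simp) _ _),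
      conj_single (by omega) (by omega) (by omega) (by decide +kernel) comm_facts.2.2.2,
      conj_fix (cf (25, 47) (by simp) _ _), conj_fix (cf (25, 40) (by simp) _ _),
      conj_fix (cf (25, 44) (by simp) _ _)]
    simp only [mul_assoc]
  have hR1' : R1 * (v * xg chevF4 F 44 cc) * R1⁻¹ = v * xg chevF4 F 44 cc := by
    rw [← conj_mul, hJv _ hR1J, conj_fix (hJc 44 (by simp) _ hR1J cc)]
  have hone : xg chevF4 F 46 b * xg chevF4 F 47 d * xg chevF4 F 40 a * xg chevF4 F 44 cc = 1 := by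
    refine mul_left_cancel (a := v) ?_
    rw [mul_one, ← e25, ← e26, ← e27, ← hR1', ← e34]
    conv_lhs => rw [← hJv _ hR2J]
    calc _ = xg chevF4 F 25 b * (xg chevF4 F 26 d * (xg chevF4 F 27 a * (R1 * (xg chevF4 F 34 cc * R2)))) * v *
          (xg chevF4 F 25 b * (xg chevF4 F 26 d * (xg chevF4 F 27 a * (R1 * (xg chevF4 F 34 cc * R2)))))⁻¹ := by
            simp only [mul_inv_rev, mul_assoc]
      _ = v := conj_fix huv'
  have hun : ∀ r ∈ [40, 44, 46, 47], ∀ c : F, Unip [40, 44, 46, 47] (chevF4.x F r c) := by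
    intro r hr c
    refine unip_x F4.valid (hn ▸ (by simp at hr; omega)) hr ?_ c
    revert r
    decide +kernel
  have hent : ∀ (s : Fin chevF4.nroots) (j : Fin chevF4.rank),
      (if s.val = 46 then -((chevF4.cartan j.val 46 : ℤ) : F) * b else 0) +
        (if s.val = 47 then -((chevF4.cartan j.val 47 : ℤ) : F) * d else 0) +
        (if s.val = 40 then -((chevF4.cartan j.val 40 : ℤ) : F) * a else 0) +
        (if s.val = 44 then -((chevF4.cartan j.val 44 : ℤ) : F) * cc else 0) = 0 := by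
    intro s j
    have h := congrArg (fun g : GL chevF4.Idx F => entry (g : Matrix chevF4.Idx chevF4.Idx F) s j) hone
    simp only [Units.val_mul, Units.val_one, hD.coe_xg] at h
    rw [(((hun 46 (by simp) b).mul (hun 47 (by simp) d)).mul (hun 40 (by simp) a)).entry_mul (hun 44 (by simp) cc),
      ((hun 46 (by simp) b).mul (hun 47 (by simp) d)).entry_mul (hun 40 (by simp) a),
      (hun 46 (by simp) b).entry_mul (hun 47 (by simp) d), entry_x (by rw [hn]; omega), entry_x (by rw [hn]; omega),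
      entry_x (by rw [hn]; omega), entry_x (by rw [hn]; omega)] at h
    rw [h]
    simp [entry]
  have hzero : b = 0 ∧ d = 0 ∧ a = 0 ∧ cc = 0 := by
    have key : ∀ r, r < 48 → ∃ j : Fin chevF4.rank, ((chevF4.cartan j.val r : ℤ) : F) ≠ 0 := by
      intro r hr
      obtain ⟨j, hj, hA⟩ := odd_A r (by rw [F4.valid.nroots_eq, hn]; exact hr)
      have hj' : j < chevF4.rank := by rw [← F4.valid.rank_eq]; exact hj
      exact ⟨⟨j, hj'⟩, by rw [F4.valid.A_eq hj' (hn ▸ hr)]; exact cast_odd hA⟩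
    obtain ⟨j1, h1⟩ := key 46 (by omega)
    obtain ⟨j2, h2⟩ := key 47 (by omega)
    obtain ⟨j3, h3⟩ := key 40 (by omega)
    obtain ⟨j4, h4⟩ := key 44 (by omega)
    exact ⟨by simpa [h1] using hent ⟨46, by rw [hn]; omega⟩ j1, by simpa [h2] using hent ⟨47, by rw [hn]; omega⟩ j2,
      by simpa [h3] using hent ⟨40, by rw [hn]; omega⟩ j3, by simpa [h4] using hent ⟨44, by rw [hn]; omega⟩ j4⟩
  rw [hzero.1, hzero.2.1, hzero.2.2.1, hzero.2.2.2]
  simp only [hD.xg_zero, one_mul]
  have hJK : J ≤ K := (Subgroup.closure_le _).2 fun x ⟨r, hr, c, hx⟩ => hx ▸ hK r (List.mem_cons_of_mem _ hr) c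
  exact mul_mem (hK 24 List.mem_cons_self _) (mul_mem (hJK hR1J) (hJK hR2J))

/-- Centralizers of the two remaining classes of involutions in the Chevalley group G of type F₄ over a finite field F of characteristic two (this problem's root numbering for type F₄, from the Chevalley data module: p₁, p₂ short, p₃, p₄ long with indices 33, 27, 25, 24 and negatives 14, 20, 22, 23; U generated by the positive root subgroups). For an element of G with matrix x_47(1)x_44(1) (highest root times highest short root): its centralizer in G is generated by U, X_{−p₂} and X_{−p₃}. For an element of G with matrix x_39(1)x_45(1) (roots (1,2,2,1) and (2,4,2,1), an orthogonal short/long pair): its centralizer in G is generated by X_{p₁}, X_{−p₁}, X_{p₄}, X_{−p₄} and the root subgroups of all positive roots other than p₂ (27), p₃ (25), p₁ + p₂ (34) and p₃ + p₄ (26). -/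
theorem result {F : Type*} [Field F] [Fintype F] [CharP F 2] (w v : GL Cfsg.Lie.chevF4.Idx F) (hw : (w : Matrix Cfsg.Lie.chevF4.Idx Cfsg.Lie.chevF4.Idx F) = Cfsg.Lie.chevF4.x F 47 1 * Cfsg.Lie.chevF4.x F 44 1) (hv : (v : Matrix Cfsg.Lie.chevF4.Idx Cfsg.Lie.chevF4.Idx F) = Cfsg.Lie.chevF4.x F 39 1 * Cfsg.Lie.chevF4.x F 45 1) :
    Cfsg.Lie.chevF4.group F ⊓ Subgroup.centralizer {w} = Cfsg.Lie.chevF4.posUnipotent F ⊔ Cfsg.Lie.chevF4.rootSubgroup F 20 ⊔ Cfsg.Lie.chevF4.rootSubgroup F 22 ∧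
    Cfsg.Lie.chevF4.group F ⊓ Subgroup.centralizer {v} = Cfsg.Lie.chevF4.rootSubgroup F 33 ⊔ Cfsg.Lie.chevF4.rootSubgroup F 14 ⊔ Cfsg.Lie.chevF4.rootSubgroup F 24 ⊔ Cfsg.Lie.chevF4.rootSubgroup F 23 ⊔
      Subgroup.closure {g : GL Cfsg.Lie.chevF4.Idx F | ∃ (r : ℕ) (c : F), Cfsg.Lie.chevF4.IsPosRoot r ∧ r ∉ [27, 25, 34, 26] ∧ (g : Matrix Cfsg.Lie.chevF4.Idx Cfsg.Lie.chevF4.Idx F) = Cfsg.Lie.chevF4.x F r c} := by
  obtain ⟨tabs, simps, hf⟩ := Cfsg.Agent.Chev.BNSetup.exists_facts (D := Cfsg.Lie.chevF4) (by simp)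
  have hD : Good chevF4 := F4.good
  have hT := Cfsg.Agent.Chev.isChevData (F := F) hD hf
  have hV := F4.valid
  have hw' : w = xg chevF4 F 47 1 * xg chevF4 F 44 1 := Units.ext (by rw [hw, Units.val_mul, hD.coe_xg, hD.coe_xg])
  have hv' : v = xg chevF4 F 39 1 * xg chevF4 F 45 1 := Units.ext (by rw [hv, Units.val_mul, hD.coe_xg, hD.coe_xg])
  obtain ⟨sp0, sp1, sp2, sp3, sn0, sn1, sn2, sn3⟩ := simple_facts
  obtain ⟨hA47, hA44, hA39, hA45⟩ := cartan_facts
  simp only [List.range_succ, List.range_zero, List.map_cons, List.map_nil, List.nil_append, List.cons_append,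
    List.map_append, List.cons.injEq, and_true] at hA47 hA44 hA39 hA45
  have hs : ∀ i < 4, chevF4.simple i < 48 := fun i hi => hn ▸ hD.simple_lt (hk ▸ hi)
  have hX : ∀ (S : Subgroup (GL chevF4.Idx F)) (r : ℕ), chevF4.rootSubgroup F r ≤ S ↔
      ∀ t : F, xg chevF4 F r t ∈ S := fun S r =>
    ⟨fun h t => h (hD.xg_mem_rootSubgroup r t), fun h x hx => by
      obtain ⟨t, rfl⟩ := hD.mem_rootSubgroup_iff.1 hx
      exact h t⟩
  have hcent : ∀ (P : List ℕ) (a b : ℕ), a < 48 → b < 48 →
      (∀ r ∈ P, r < F4.cert.nroots ∧ F4.cert.commB r a = true ∧ F4.cert.commB r b = true) → ∀ r ∈ P, ∀ t : F,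
      xg chevF4 F r t ∈ chevF4.group F ⊓ Subgroup.centralizer {xg chevF4 F a 1 * xg chevF4 F b 1} := by
    intro P a b ha hb hP r hr t
    obtain ⟨hr', hra, hrb⟩ := hP r hr
    rw [hV.nroots_eq, hn] at hr'
    exact ⟨hD.xg_mem_group r t, Subgroup.mem_centralizer_singleton_iff.2
      ((commute_of hr' ha hra t 1).mul_right (commute_of hr' hb hrb t 1)).eq⟩
  constructor
  · set S := chevF4.posUnipotent F ⊔ chevF4.rootSubgroup F 20 ⊔ chevF4.rootSubgroup F 22 with hS
    have hP : ∀ r ∈ p1, ∀ t : F, xg chevF4 F r t ∈ S := by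
      intro r hr t
      by_cases h : r = 20
      · exact Subgroup.mem_sup_left (Subgroup.mem_sup_right (h ▸ hD.xg_mem_rootSubgroup r t))
      by_cases h' : r = 22
      · exact Subgroup.mem_sup_right (h' ▸ hD.xg_mem_rootSubgroup r t)
      refine Subgroup.mem_sup_left (Subgroup.mem_sup_left (Subgroup.subset_closure ⟨r, t, ?_, hD.coe_xg r t⟩))
      refine hV.isPosRoot_iff.2 ⟨?_, ?_⟩
      · rw [hn]; simp [p1] at hr; omega
      · have : ∀ r ∈ p1, r = 20 ∨ r = 22 ∨ F4.cert.posB r = true := by decide +kernel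
        exact ((this r hr).resolve_left h).resolve_left h'
    refine le_antisymm ?_ ?_
    · rintro g ⟨hg, hgc⟩
      obtain ⟨u, hu, h, hh, m, hm, rfl, -, hha, hhb⟩ := hT.centralizer_pair hV ok1 hg
        (hw' ▸ (Subgroup.mem_centralizer_singleton_iff.1 hgc : _ * w = w * _))
      refine mul_mem (mul_mem (Subgroup.mem_sup_left (Subgroup.mem_sup_left (hT.U_eq hD ▸ hu))) ?_)
        ((Subgroup.closure_le _).2 (by rintro x ⟨r, hr, t, rfl⟩; exact hP r hr t) hm)
      rw [hT.H_eq] at hh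
      obtain ⟨c, hc, rfl⟩ := exists_torus hh
      have e1 := torus_coeff hc (r := 47) (by omega) hha
      have e2 := torus_coeff hc (r := 44) (by omega) hhb
      rw [hA47.1, hA47.2.1, hA47.2.2.1, hA47.2.2.2] at e1
      rw [hA44.1, hA44.2.1, hA44.2.2.1, hA44.2.2.2] at e2
      simp only [zpow_zero, zpow_one, one_mul, mul_one] at e1 e2
      rw [e1, e2, hG_one _ (hs 0 (by omega)), hG_one _ (hs 3 (by omega)), one_mul, mul_one]
      exact mul_mem (hG_mem (by omega) (fun t => hP _ (by rw [sp1]; decide) t)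
          (fun t => hP _ (by rw [sp1, sn1]; decide) t) _)
        (hG_mem (by omega) (fun t => hP _ (by rw [sp2]; decide) t) (fun t => hP _ (by rw [sp2, sn2]; decide) t) _)
    · have hc := hcent p1 47 44 (by omega) (by omega) ok1.pComm
      rw [hw']
      refine sup_le (sup_le ((Subgroup.closure_le _).2 ?_) ((hX _ _).2 fun t => hc 20 (by decide) t))
        ((hX _ _).2 fun t => hc 22 (by decide) t)
      rintro x ⟨r, t, hr, hx⟩
      rw [hD.eq_xg hx]
      obtain ⟨hr, hrp⟩ := hV.isPosRoot_iff.1 hr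
      refine hc r ?_ t
      have : ∀ r < 48, F4.cert.posB r = true → r ∈ p1 := by decide +kernel
      exact this r (hn ▸ hr) hrp
  · set S := chevF4.rootSubgroup F 33 ⊔ chevF4.rootSubgroup F 14 ⊔ chevF4.rootSubgroup F 24 ⊔
      chevF4.rootSubgroup F 23 ⊔ Subgroup.closure {g : GL chevF4.Idx F | ∃ (r : ℕ) (c : F), chevF4.IsPosRoot r ∧
        r ∉ [27, 25, 34, 26] ∧ (g : Matrix chevF4.Idx chevF4.Idx F) = chevF4.x F r c} with hS
    have hP : ∀ r ∈ p2, ∀ t : F, xg chevF4 F r t ∈ S := by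
      intro r hr t
      by_cases h : r = 14
      · exact Subgroup.mem_sup_left (Subgroup.mem_sup_left (Subgroup.mem_sup_left
          (Subgroup.mem_sup_right (h ▸ hD.xg_mem_rootSubgroup r t))))
      by_cases h' : r = 23
      · exact Subgroup.mem_sup_left (Subgroup.mem_sup_right (h' ▸ hD.xg_mem_rootSubgroup r t))
      refine Subgroup.mem_sup_right (Subgroup.subset_closure ⟨r, t, ?_, ?_, hD.coe_xg r t⟩)
      · refine hV.isPosRoot_iff.2 ⟨?_, ?_⟩
        · rw [hn]; simp [p2] at hr; omega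
        · have : ∀ r ∈ p2, r = 14 ∨ r = 23 ∨ F4.cert.posB r = true := by decide +kernel
          exact ((this r hr).resolve_left h).resolve_left h'
      · simp [p2] at hr ⊢; omega
    refine le_antisymm ?_ ?_
    · rintro g ⟨hg, hgc⟩
      obtain ⟨u, hu, h, hh, m, hm, rfl, huv, hha, hhb⟩ := hT.centralizer_pair hV ok2 hg
        (hv' ▸ (Subgroup.mem_centralizer_singleton_iff.1 hgc : _ * v = v * _))
      refine mul_mem (mul_mem (mem_of_commute_U (fun r hr t => hP r ?_ t) (hT.U_eq hD ▸ hu) huv) ?_)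
        ((Subgroup.closure_le _).2 (by rintro x ⟨r, hr, t, rfl⟩; exact hP r hr t) hm)
      · revert r; decide
      rw [hT.H_eq] at hh
      obtain ⟨c, hc, rfl⟩ := exists_torus hh
      have e1 := torus_coeff hc (r := 39) (by omega) hha
      have e2 := torus_coeff hc (r := 45) (by omega) hhb
      rw [hA39.1, hA39.2.1, hA39.2.2.1, hA39.2.2.2] at e1
      rw [hA45.1, hA45.2.1, hA45.2.2.1, hA45.2.2.2] at e2
      simp only [zpow_zero, zpow_one, _root_.zpow_neg, zpow_two, one_mul, mul_one] at e1 e2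
      have hc1 := hc 1 (by omega)
      have hc2 := hc 2 (by omega)
      field_simp at e1 e2
      have e3 : c 1 = 1 := by
        rw [e1] at e2
        rw [pow_two] at e2
        exact mul_left_cancel₀ hc1 (e2.trans (mul_one _).symm)
      have e4 : c 2 = 1 := e1.trans e3
      rw [e3, e4, hG_one _ (hs 1 (by omega)), hG_one _ (hs 2 (by omega)), mul_one, mul_one]
      exact mul_mem (hG_mem (by omega) (fun t => hP _ (by rw [sp0]; decide) t)
          (fun t => hP _ (by rw [sp0, sn0]; decide) t) _)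
        (hG_mem (by omega) (fun t => hP _ (by rw [sp3]; decide) t) (fun t => hP _ (by rw [sp3, sn3]; decide) t) _)
    · have hc := hcent p2 39 45 (by omega) (by omega) ok2.pComm
      rw [hv']
      refine sup_le (sup_le (sup_le (sup_le ((hX _ _).2 fun t => hc 33 (by decide) t)
        ((hX _ _).2 fun t => hc 14 (by decide) t)) ((hX _ _).2 fun t => hc 24 (by decide) t))
        ((hX _ _).2 fun t => hc 23 (by decide) t)) ((Subgroup.closure_le _).2 ?_)
      rintro x ⟨r, t, hr, hout, hx⟩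
      rw [hD.eq_xg hx]
      obtain ⟨hr, hrp⟩ := hV.isPosRoot_iff.1 hr
      refine hc r ?_ t
      have : ∀ r < 48, F4.cert.posB r = true → r ∉ [27, 25, 34, 26] → r ∈ p2 := by decide +kernel
      exact this r (hn ▸ hr) hrp hout

end Cfsg.Agent.S2179
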