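import Cfsg.Statements.S2180
-- import your own Cfsg.Agent.* helpers here

import Cfsg.Agent.Lib.Chev.G2ShortInvolution

set_option autoImplicit false
open Cfsg

namespace Cfsg.Agent.S2180

set_option maxRecDepth 100000

open Cfsg.Agent.Chev in
theorem long_ok : G2.cert.rootTwoOK 11 1 = true := by decide +kernel

open Cfsg.Agent.Chev in
theorem long_list : ((List.range G2.cert.rank).filter fun i => i != 1).map (fun i => G2.cert.ng (G2.cert.p i)) =
    [4] := by decide +kernel


/-- Centralizers of involutions in the Chevalley group G of type G₂ over a finite field F of characteristic two with at least four elements (this problem's root numbering for type G₂, from the Chevalley data module: a = p₁ short with index 7, b = p₂ long with index 6, −a = 4, −b = 5, 2a + b = 9, 3a + b = 10, 3a + 2b = 11; U generated by the positive root subgroups). For an element z of G with matrix x_{3a+2b}(1): the centralizer of z in G is generated by U and X_{−a}. For an element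 t of G with matrix x_{2a+b}(1): the centralizer of t in G is generated by X_{2a+b}, X_{3a+b}, X_{3a+2b}, X_b and X_{−b}. -/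
theorem result {F : Type*} [Field F] [Fintype F] [CharP F 2] (hF : 4 ≤ Fintype.card F) (z t : GL Cfsg.Lie.chevG2.Idx F) (hz : (z : Matrix Cfsg.Lie.chevG2.Idx Cfsg.Lie.chevG2.Idx F) = Cfsg.Lie.chevG2.x F 11 1) (ht : (t : Matrix Cfsg.Lie.chevG2.Idx Cfsg.Lie.chevG2.Idx F) = Cfsg.Lie.chevG2.x F 9 1) :
    Cfsg.Lie.chevG2.group F ⊓ Subgroup.centralizer {z} = Cfsg.Lie.chevG2.posUnipotent F ⊔ Cfsg.Lie.chevG2.rootSubgroup F 4 ∧
    Cfsg.Lie.chevG2.group F ⊓ Subgroup.centralizer {t} = Cfsg.Lie.chevG2.rootSubgroup F 9 ⊔ Cfsg.Lie.chevG2.rootSubgroup F 10 ⊔ Cfsg.Lie.chevG2.rootSubgroup F 11 ⊔ Cfsg.Lie.chevG2.rootSubgroup F 6 ⊔ Cfsg.Lie.chevG2.rootSubgroup F 5 := by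
  have hG : Cfsg.Agent.Chev.Good Cfsg.Lie.chevG2 := Cfsg.Agent.Chev.G2.good
  have hT := Cfsg.Agent.Chev.isChevData (F := F) hG Cfsg.Agent.Chev.BNSetup.facts_chevG2
  have hn := Cfsg.Agent.Chev.G2Short.hn
  have hk := Cfsg.Agent.Chev.G2Short.hk
  rw [hG.eq_xg hz, hG.eq_xg ht]
  constructor
  · rw [hT.centralizer_root Cfsg.Agent.Chev.G2.valid (r := 11) (j₀ := 1) (by omega) (by omega) long_ok,
      Cfsg.Agent.Chev.closure_negSimple_eq Cfsg.Agent.Chev.G2.valid (l := [4]) long_list,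
      Cfsg.Agent.Chev.closure_rootList_eq]
    simp
  · rw [Cfsg.Agent.Chev.G2Short.centralizer_short, Cfsg.Agent.Chev.G2Short.K9]
    have e : ({g | ∃ r ∈ [5, 6, 9, 10, 11], ∃ t : F, g = Cfsg.Agent.Chev.xg Cfsg.Lie.chevG2 F r t} : Set (GL Cfsg.Lie.chevG2.Idx F)) =
        {g : GL Cfsg.Lie.chevG2.Idx F | ∃ r ∈ [9, 10, 11, 6, 5], ∃ t : F,
          (g : Matrix Cfsg.Lie.chevG2.Idx Cfsg.Lie.chevG2.Idx F) = Cfsg.Lie.chevG2.x F r t} := by
      ext g
      constructor
      · rintro ⟨r, hr, t, rfl⟩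
        exact ⟨r, by simp at hr ⊢; omega, t, hG.coe_xg r t⟩
      · rintro ⟨r, hr, t, e⟩
        exact ⟨r, by simp at hr ⊢; omega, t, hG.eq_xg e⟩
    rw [e, Cfsg.Agent.Chev.closure_rootList_eq]
    simp [sup_assoc]

end Cfsg.Agent.S2180
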