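import Cfsg.Statements.S2181
import Cfsg.Agent.Lib.Chev.BNFacts
import Cfsg.Agent.Lib.Chev.Invol.E7.Ranks

set_option autoImplicit false
open Cfsg

namespace Cfsg.Agent.S2181

open Cfsg.Lie Cfsg.Agent.Chev Cfsg.Agent.Chev.Invol

/-- The Chevalley group of type E₇ over a finite field of characteristic two (the matrix group generated by the root elements) has exactly five conjugacy classes of elements of order 2. -/
theorem result {F : Type*} [Field F] [Fintype F] [CharP F 2] :
    (ConjClasses.mk '' {g : ↥(Cfsg.Lie.chevE7.group F) | orderOf g = 2}).ncard = 5 := by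
  have hV := E7.valid
  have hroots : beqL Nat.beq Invol.E7.roots19 (List.range E7.cert.nroots) = true := by decide +kernel
  have hc : Classified chevE7 F Invol.E7.roots19 ([] :: [[125], [92, 125], [63, 92, 125], [87, 92, 125], [78, 87, 92, 125]]) :=
    Invol.E7.classified_final BNSetup.facts_chevE7 BNSetup.negTri_chevE7
  have e0 := (invDim_eq (F := F) hV (w := [125]) (by decide) Invol.E7.rank0_ok).trans Invol.E7.rank0_len
  have e1 := (invDim_eq (F := F) hV (w := [92, 125]) (by decide) Invol.E7.rank1_ok).trans Invol.E7.rank1_len
  have e2 := (invDim_eq (F := F) hV (w := [63, 92, 125]) (by decide) Invol.E7.rank2_ok).trans Invol.E7.rank2_len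
  have e3 := (invDim_eq (F := F) hV (w := [87, 92, 125]) (by decide) Invol.E7.rank3_ok).trans Invol.E7.rank3_len
  have e4 := (invDim_eq (F := F) hV (w := [78, 87, 92, 125]) (by decide) Invol.E7.rank4_ok).trans Invol.E7.rank4_len
  have h := ncard_classes (F := F) hV hroots hc
    (invDim chevE7 F (colSpan chevE7 F (List.range 133)))
    (fun a _ b => invDim_conj_top a b)
    (by
      intro w hw
      simp only [List.mem_cons, List.not_mem_nil, or_false] at hw
      rcases hw with rfl | rfl | rfl | rfl | rfl
      · exact orderOf_oneWord hV (by decide) (n := 200) (by decide +kernel) e0 (by decide)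
      · exact orderOf_oneWord hV (by decide) (n := 200) (by decide +kernel) e1 (by decide)
      · exact orderOf_oneWord hV (by decide) (n := 200) (by decide +kernel) e2 (by decide)
      · exact orderOf_oneWord hV (by decide) (n := 200) (by decide +kernel) e3 (by decide)
      · exact orderOf_oneWord hV (by decide) (n := 200) (by decide +kernel) e4 (by decide))
    (by
      intro w hw w' hw'
      simp only [List.mem_cons, List.not_mem_nil, or_false] at hw hw'
      rcases hw with rfl | rfl | rfl | rfl | rfl <;> rcases hw' with rfl | rfl | rfl | rfl | rfl <;>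
        first
          | (intro _; rfl)
          | (simp only [e0, e1, e2, e3, e4]; decide)) (by decide)
  exact h

end Cfsg.Agent.S2181
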