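-- Proof for statement S2182 (row 2182; the theorem Cfsg.lie2_twisted_e6_char_two_involution_class_count).
import Cfsg.Statements.S2182
import Cfsg.Agent.Lib.Chev.TwistOrderE6
import Cfsg.Agent.Lib.TwistInvol.TreesE6
import Cfsg.Agent.Lib.TwistInvol.RanksE6

set_option autoImplicit false
open Cfsg

namespace Cfsg.Agent.S2182

open Cfsg.Lie Cfsg.Agent.Chev Cfsg.Agent.Chev.BNSetup Cfsg.Agent.ChevInvol Cfsg.Agent.TwistInvol
  Cfsg.Agent.TwistInvol.E6

theorem gam_table : allLt 72 (fun r => Nat.blt (gam r) 72 && Nat.beq (gam (gam r)) r) = true := by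
  decide +kernel

theorem rts4_ok : rtsOK E6c gam rts4 = true := by decide +kernel

theorem posS4 : allLt E6c.nroots (fun r => !(E6c.posB r) || memB r S4) = true := by decide +kernel

theorem repsF_ok : allL (fun L => allL (fun r => memB r rts4) L) repsF = true ∧
    allL (fun L => commL E6c L &&
      ((expand gam ((L.filter fun r => fixB gam r || Nat.blt r (gam r)).map fun r => (r, false))).map
        Prod.fst).isPerm L) repsF = true := by
  decide +kernel

variable {K : Type*} [Field K] [CharP K 2]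

/-- The symmetry of the twist. -/
noncomputable def tws (φ : K ≃+* K) (hinv : ∀ x, φ (φ x) = x) (htr : ∀ w, φ w = w → ∃ t, t + φ t = w) :
    Tws chevE6 K gam where
  φ := φ
  inv := hinv
  trace := htr
  σ := GraphTab.aut orbE6_ok.1 φ
  σ_x r hr t := by
    obtain ⟨e, he, hx⟩ := GraphTab.exists_aut_xe Chev.E6.good facts_chevE6 orbE6_ok.1 graphE6_cols φ hr
    have he1 : e = 1 := CharTwo.sq_injective (by simpa [pow_two] using he)
    rw [← Chev.E6.good.eq_xg (coe_xe Chev.E6.good r t), hx t, he1, one_mul,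
      Chev.E6.good.eq_xg (coe_xe Chev.E6.good _ (φ t))]
  γ_lt r hr := by
    have h := allLt_iff.1 gam_table r hr
    simp only [Bool.and_eq_true] at h
    exact Nat.le_of_ble_eq_true h.1
  γ_inv r hr := by
    have h := allLt_iff.1 gam_table r hr
    simp only [Bool.and_eq_true, Nat.beq_eq] at h
    exact h.2

theorem Tw_le_Gt (φ : K ≃+* K) (hinv : ∀ x, φ (φ x) = x) (htr : ∀ w, φ w = w → ∃ t, t + φ t = w) :
    Tw (tws φ hinv htr) rts4 ≤ (tw2E6 φ).Gt := by
  have hV := Chev.E6.valid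
  have hD := Chev.E6.good
  rw [Tw, Subgroup.closure_le]
  rintro _ ⟨r, hr, τ, hτ, rfl⟩
  obtain ⟨hlt, hγ, hc⟩ := rtsOK_spec hV rts4_ok r hr
  refine RootBN.Twist.X'_le_Gt ((tw2E6 φ).orb ⟨r, hlt⟩) (Subgroup.mem_inf.2 ⟨?_, ?_⟩)
  · have hmem : ∀ (k : Fin chevE6.nroots), (tw2E6 φ).orb k = (tw2E6 φ).orb ⟨r, hlt⟩ → ∀ t : K,
        xg chevE6 K k.val t ∈ (tw2E6 φ).Xorb ((tw2E6 φ).orb ⟨r, hlt⟩) := fun k hk t =>
      (le_iSup₂ (f := fun (r' : Fin chevE6.nroots) (_ : (tw2E6 φ).orb r' = (tw2E6 φ).orb ⟨r, hlt⟩) =>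
        (data hD K).X r') k hk)
        ((mem_rootSubgroup hD k.2).2 ⟨t, (hD.eq_xg (coe_xe hD k.val t)).symm⟩)
    refine Subgroup.list_prod_mem _ fun x hx => ?_
    obtain ⟨e, he, rfl⟩ := List.mem_map.1 hx
    have : e.1 = r ∨ e.1 = gam r := mem_orbR.1 (List.mem_map_of_mem he)
    rcases this with h | h <;> rw [h]
    · exact hmem ⟨r, hlt⟩ rfl _
    · exact hmem ((tw2E6 φ).ρ ⟨r, hlt⟩) ((tw2E6_axioms φ).orb_ρ _) _
  · exact RootBN.Twist.mem_Fix.2 (σ_oel hV (tws φ hinv htr) hlt hc hτ)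

variable [Fintype K]

/-- Every involution is conjugate to one of three. -/
theorem classify (φ : K ≃+* K) (hinv : ∀ x, φ (φ x) = x) (htr : ∀ w, φ w = w → ∃ t, t + φ t = w)
    {g : GL chevE6.Idx K} (hg : g ∈ Hgrp chevE6 K S4) (hσ : GraphTab.aut orbE6_ok.1 φ g = g)
    (hg2 : g * g = 1) (hg1 : g ≠ 1) :
    ∃ h ∈ Tw (tws φ hinv htr) rts4, ∃ R ∈ repsF, h * g * h⁻¹ = elT chevE6 R (1 : K) := by
  have hV := Chev.E6.valid
  set s := tws φ hinv htr
  have h0 : LevelInv s [] [] [[]] := levelInv_base s (by simp)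
  have h4 := levelInv_step hV s facts_chevE6 step4 treesOK4 (levelInv_step hV s facts_chevE6 step3 treesOK3
    (levelInv_step hV s facts_chevE6 step2 treesOK2 (levelInv_step hV s facts_chevE6 step1 treesOK1 h0)))
  obtain ⟨h, hh, R, hR, e⟩ := h4 g hg hσ hg2
  simp only [reps4, List.mem_cons, List.not_mem_nil, or_false] at hR
  rcases hR with rfl | rfl | rfl | rfl | rfl | rfl
  · refine absurd ?_ hg1
    have : h * g * h⁻¹ = 1 := by simpa [elT] using e
    simpa using this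
  · exact ⟨h, hh, _, by simp [repsF], e⟩
  · exact ⟨h, hh, _, by simp [repsF], e⟩
  · obtain ⟨k, hk, R', hR', e'⟩ := reduce hV s facts_chevE6 reduceOK0
    refine ⟨k * h, mul_mem hk hh, R', hR', ?_⟩
    rw [← e', ← e]; group
  · exact ⟨h, hh, _, by simp [repsF], e⟩
  · obtain ⟨k, hk, R', hR', e'⟩ := reduce hV s facts_chevE6 reduceOK1
    refine ⟨k * h, mul_mem hk hh, R', hR', ?_⟩
    rw [← e', ← e]; group

theorem rep_mem_Tw (φ : K ≃+* K) (hinv : ∀ x, φ (φ x) = x) (htr : ∀ w, φ w = w → ∃ t, t + φ t = w)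
    {L : List ℕ} (hL : L ∈ repsF) : elT chevE6 L (1 : K) ∈ Tw (tws φ hinv htr) rts4 := by
  have hV := Chev.E6.valid
  obtain ⟨h1, h2⟩ := repsF_ok
  simp only [allL_iff, Bool.and_eq_true] at h1 h2
  obtain ⟨hc, hp⟩ := h2 L hL
  rw [List.isPerm_iff] at hp
  set m := (L.filter fun r => fixB gam r || Nat.blt r (gam r)).map fun r => (r, false) with hm
  have hlt : ∀ r ∈ L, r < chevE6.nroots := fun r hr => (rtsOK_spec hV rts4_ok r (memB_iff.1 (h1 L hL r hr))).1
  have key : elS chevE6 (tws φ hinv htr).φ (expand gam m) 1 = elT chevE6 L (1 : K) := by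
    have e : elS chevE6 (tws φ hinv htr).φ (expand gam m) 1 = elT chevE6 ((expand gam m).map Prod.fst) (1 : K) := by
      rw [elS, elT, List.map_map]
      refine congrArg List.prod (List.map_congr_left fun x _ => ?_)
      cases hx : x.2 <;> simp [hx]
    rw [e]
    refine (hp.map fun r => xg chevE6 K r (1 : K)).prod_eq' (List.pairwise_of_forall_mem_list fun a ha b hb => ?_)
    obtain ⟨x, hx, rfl⟩ := List.mem_map.1 ha
    obtain ⟨y, hy, rfl⟩ := List.mem_map.1 hb
    exact commute_of_commL hV hlt hc x (hp.mem_iff.1 hx) y (hp.mem_iff.1 hy) 1 1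
  rw [← key]
  refine elS_mem_Tw _ (fun e he => ?_) fun _ => map_one _
  obtain ⟨r, hr, rfl⟩ := List.mem_map.1 he
  exact memB_iff.1 (h1 L hL r (List.mem_filter.1 hr).1)

/-- The twisted group ²E₆(q), q even, realised inside the Chevalley group of type E₆ over the field K with q² elements, has exactly three conjugacy classes of elements of order 2. -/
theorem result {K : Type*} [Field K] [Fintype K] [CharP K 2] (q : ℕ) (hK : Fintype.card K = q ^ 2) :
    (ConjClasses.mk '' {g : ↥(Cfsg.Lie.twistedE6 K q) | orderOf g = 2}).ncard = 3 := by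
  classical
  obtain ⟨k, hk0, rfl⟩ : ∃ k, 0 < k ∧ q = 2 ^ k := by
    obtain ⟨n, -, hn⟩ := FiniteField.card K 2
    have hd : q ∣ 2 ^ (n : ℕ) := ⟨q, by rw [← hn, hK, pow_two]⟩
    obtain ⟨k, -, rfl⟩ := (Nat.dvd_prime_pow Nat.prime_two).1 hd
    refine ⟨k, Nat.pos_of_ne_zero fun h => ?_, rfl⟩
    have := Fintype.one_lt_card (α := K)
    rw [hK, h] at this
    simp at this
  have hq : IsPrimePow (2 ^ k) := ⟨2, k, Nat.prime_iff.1 Nat.prime_two, hk0, rfl⟩
  obtain ⟨φ, hφ, hGt, hinv, hcard⟩ := exists_frob2 hq hK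
  have htr : ∀ w, φ w = w → ∃ t, t + φ t = w := by
    intro w hw
    obtain ⟨a, ha⟩ : ∃ a, φ a ≠ a := by
      by_contra h
      push_neg at h
      rw [Nat.card_congr (Equiv.subtypeUnivEquiv h), Nat.card_eq_fintype_card, hK, pow_two] at hcard
      have : 2 ≤ 2 ^ k := Nat.one_lt_two_pow (by omega)
      nlinarith
    have hs : a + φ a ≠ 0 := fun h => ha (CharTwo.add_eq_zero.1 h).symm
    have hsφ : φ (a + φ a) = a + φ a := by rw [map_add, hinv, add_comm]
    refine ⟨w * a / (a + φ a), ?_⟩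
    rw [map_div₀, map_mul, hw, hsφ, ← add_div, ← mul_add, mul_div_cancel_right₀ _ hs]
  rw [← hGt]
  set G := (tw2E6 φ).Gt with hG
  have hV := Chev.E6.valid
  set s := tws φ hinv htr
  have hTG : Tw s rts4 ≤ G := Tw_le_Gt φ hinv htr
  haveI : Fact (Nat.Prime 2) := ⟨Nat.prime_two⟩
  -- a Sylow subgroup
  set U := chevE6.posUnipotent K
  have hW : Nat.card ↥(U.subgroupOf G) = (2 ^ k) ^ 36 := by
    rw [← Subgroup.inf_subgroupOf_right, Nat.card_congr (Subgroup.subgroupOfEquivOfLe inf_le_right).toEquiv]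
    exact (card_U_inf Chev.E6.good orbE6_ok φ facts_chevE6 negTri_chevE6 graphE6_cols
      (card_X'_E6 hK hinv hcard) 0).trans (congrArg ((2 ^ k) ^ ·) (by decide +kernel))
  have hodd : ¬ 2 ∣ (U.subgroupOf G).index := by
    intro hd
    have h1 := card_twistedE6 hq.pos hK hφ hinv hcard
    rw [mul_assoc ((2 ^ k) ^ 36), poly_twLevelsE6 (2 ^ k) hq.pos, ← (U.subgroupOf G).card_mul_index, hW,
      mul_left_comm, Nat.mul_right_inj (by positivity)] at h1
    have hev : ∀ m, 0 < m → Even ((2 ^ k : ℕ) ^ m) := fun m hm => by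
      rw [Nat.even_pow]; exact ⟨by rw [Nat.even_pow]; exact ⟨even_two, by omega⟩, by omega⟩
    have h1' : ∀ m, 1 ≤ (2 ^ k : ℕ) ^ m := fun m => Nat.one_le_pow _ _ (by positivity)
    have hsub : ∀ m, 0 < m → Odd ((2 ^ k : ℕ) ^ m - 1) := fun m hm =>
      Nat.Even.sub_odd (h1' m) (hev m hm) odd_one
    have hadd : ∀ m, 0 < m → Odd ((2 ^ k : ℕ) ^ m + 1) := fun m hm => (hev m hm).add_one
    have hP := ((((hsub 2 (by norm_num)).mul (hadd 5 (by norm_num))).mul (hsub 6 (by norm_num))).mul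
      (hsub 8 (by norm_num))).mul (hadd 9 (by norm_num)) |>.mul (hsub 12 (by norm_num))
    rw [← h1] at hP
    exact (Nat.not_even_iff_odd.2 hP) ((even_iff_two_dvd.2 hd).mul_left _)
  have hPW : IsPGroup 2 ↥(U.subgroupOf G) := IsPGroup.of_card (n := k * 36) (by rw [hW, pow_mul])
  set P := hPW.toSylow hodd with hP
  -- the representatives
  have hrG : ∀ L ∈ repsF, elT chevE6 L (1 : K) ∈ G := fun L hL => hTG (rep_mem_Tw φ hinv htr hL)
  let r1 : ↥G := ⟨elT chevE6 [39] 1, hrG _ (by simp [repsF])⟩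
  let r2 : ↥G := ⟨elT chevE6 [36, 56] 1, hrG _ (by simp [repsF])⟩
  let r3 : ↥G := ⟨elT chevE6 [36, 39, 56] 1, hrG _ (by simp [repsF])⟩
  have hord : ∀ {L : List ℕ} {B : List (ℕ × ℕ × ℕ)} (h : elT chevE6 L (1 : K) ∈ G),
      commL E6c L = true → rankOK E6c L B = true → B.length ≠ 0 →
      orderOf (⟨elT chevE6 L 1, h⟩ : ↥G) = 2 := by
    intro L B h hc hr hB
    have hlt : ∀ a ∈ L, a < chevE6.nroots := by
      have hr' := hr
      simp only [rankOK, Bool.and_eq_true, allL_iff] at hr'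
      intro a ha
      rw [← hV.nroots_eq]
      simpa using hr'.1.1.1 a ha
    rw [Subgroup.orderOf_mk]
    refine orderOf_eq_prime (by rw [pow_two]; exact elT_sq hV hlt hc 1) fun h => hB ?_
    have := rank_eq_of_rankOK (F := K) hV hr
    rw [h, Units.val_one, sub_self, Matrix.rank_zero] at this
    exact this.symm
  have hne : ∀ {L L' : List ℕ} {B B' : List (ℕ × ℕ × ℕ)} (h : elT chevE6 L (1 : K) ∈ G)
      (h' : elT chevE6 L' (1 : K) ∈ G), rankOK E6c L B = true → rankOK E6c L' B' = true →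
      B.length ≠ B'.length →
      ConjClasses.mk (⟨_, h⟩ : ↥G) ≠ ConjClasses.mk (⟨_, h'⟩ : ↥G) := by
    intro L L' B B' h h' hr hr' hl e
    obtain ⟨c, hc⟩ := isConj_iff.1 (ConjClasses.mk_eq_mk_iff_isConj.1 e)
    have := rank_conj (c : GL chevE6.Idx K) (elT chevE6 L (1 : K))
    rw [show (c : GL chevE6.Idx K) * elT chevE6 L 1 * (c : GL chevE6.Idx K)⁻¹ = elT chevE6 L' 1 from
      congrArg Subtype.val hc, rank_eq_of_rankOK hV hr, rank_eq_of_rankOK hV hr'] at this
    exact hl this.symm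
  have himg : ConjClasses.mk '' {g : ↥G | orderOf g = 2} =
      {ConjClasses.mk r1, ConjClasses.mk r2, ConjClasses.mk r3} := by
    refine Set.Subset.antisymm ?_ ?_
    · rintro _ ⟨g, hg, rfl⟩
      have hg2 : orderOf g = 2 := hg
      have hcy : IsPGroup 2 (Subgroup.zpowers g) :=
        IsPGroup.of_card (n := 1) (by rw [Nat.card_zpowers, hg2, pow_one])
      obtain ⟨Q, hQ⟩ := hcy.exists_le_sylow
      obtain ⟨a, ha⟩ := MulAction.exists_smul_eq ↥G Q P
      have h1 : a * g * a⁻¹ ∈ (P : Subgroup ↥G) := by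
        have hm := Subgroup.smul_mem_pointwise_smul g (MulAut.conj a) (Q : Subgroup ↥G)
          (hQ (Subgroup.mem_zpowers g))
        rw [← ha]
        exact hm
      have h2 : ((a * g * a⁻¹ : ↥G) : GL chevE6.Idx K) ∈ U := h1
      have hle : U ≤ Hgrp chevE6 K S4 := by
        show Subgroup.closure _ ≤ _
        rw [Subgroup.closure_le]
        rintro x ⟨r, t, hr, hx⟩
        obtain ⟨hr1, hr2⟩ := hV.isPosRoot_iff.1 hr
        have hS := posS4
        simp only [allLt_iff, Bool.or_eq_true, Bool.not_eq_true', memB_iff, hV.nroots_eq] at hS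
        rw [(Chev.E6.good).eq_xg hx]
        exact xg_mem_Hgrp ((hS r hr1).resolve_left (by rw [hr2]; simp)) t
      have hord' : orderOf (a * g * a⁻¹) = 2 := by
        rw [← hg2]; exact (MulEquiv.orderOf_eq (MulAut.conj a) g)
      obtain ⟨h, hh, R, hR, e⟩ := classify φ hinv htr (hle h2)
        (RootBN.Twist.mem_Fix.1 (RootBN.Twist.Gt_le_Fix (a * g * a⁻¹).2))
        (by
          rw [← Subgroup.coe_mul, ← pow_two, ← hord', pow_orderOf_eq_one]; rfl)
        (fun h => by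
          have h' : a * g * a⁻¹ = 1 := Subtype.ext h
          rw [h', orderOf_one] at hord'
          exact absurd hord' (by norm_num))
      have hconj : ConjClasses.mk g = ConjClasses.mk (⟨elT chevE6 R 1, hrG R hR⟩ : ↥G) :=
        ConjClasses.mk_eq_mk_iff_isConj.2 (isConj_iff.2 ⟨⟨h, hTG hh⟩ * a, Subtype.ext (by
          refine Eq.trans ?_ e; simp only [Subgroup.coe_mul, Subgroup.coe_inv]; group)⟩)
      simp only [repsF, List.mem_cons, List.not_mem_nil, or_false] at hR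
      rw [hconj]
      rcases hR with rfl | rfl | rfl <;> simp [r1, r2, r3]
    · rintro _ (rfl | rfl | rfl)
      · exact ⟨r1, hord _ (by decide +kernel) E6Ranks.rankOK_39 (by rw [E6Ranks.len_39]; norm_num), rfl⟩
      · exact ⟨r2, hord _ (by decide +kernel) E6Ranks.rankOK_36_56 (by rw [E6Ranks.len_36_56]; norm_num), rfl⟩
      · exact ⟨r3, hord _ (by decide +kernel) E6Ranks.rankOK_36_39_56
          (by rw [E6Ranks.len_36_39_56]; norm_num), rfl⟩
  rw [himg, Set.ncard_eq_three]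
  refine ⟨_, _, _, hne _ _ E6Ranks.rankOK_39 E6Ranks.rankOK_36_56 ?_,
    hne _ _ E6Ranks.rankOK_39 E6Ranks.rankOK_36_39_56 ?_,
    hne _ _ E6Ranks.rankOK_36_56 E6Ranks.rankOK_36_39_56 ?_, rfl⟩ <;>
  simp [E6Ranks.len_39, E6Ranks.len_36_56, E6Ranks.len_36_39_56]

end Cfsg.Agent.S2182
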