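import Cfsg.Statements.S2183
import Cfsg.Agent.Lib.Twisted.D4Invol.Classes

set_option autoImplicit false
open Cfsg

namespace Cfsg.Agent.S2183

/-- The twisted group ³D₄(q), q even, realised inside the Chevalley group of type D₄ over the field K with q³ elements, has exactly two conjugacy classes of elements of order 2. -/
theorem result {K : Type*} [Field K] [Fintype K] [CharP K 2] (q : ℕ) (hK : Fintype.card K = q ^ 3) :
    (ConjClasses.mk '' {g : ↥(Cfsg.Lie.twistedD4 K q) | orderOf g = 2}).ncard = 2 := by
  obtain ⟨n, hn, hcard⟩ := FiniteField.card K 2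
  have hq : IsPrimePow q := by
    have h : IsPrimePow (Fintype.card K) :=
      hcard ▸ hn.isPrimePow.pow n.pos.ne'
    rw [hK] at h
    exact (isPrimePow_pow_iff three_ne_zero).1 h
  obtain ⟨φ, -, hG, hcube, -⟩ := Agent.Chev.BNSetup.exists_frob3 hq hK
  rw [← hG]
  exact Agent.D4Invol.ncard_classes φ hcube

end Cfsg.Agent.S2183
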