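import Cfsg.Statements.S2186
-- import your own Cfsg.Agent.* helpers here

import Cfsg.Agent.Lib.Chev.ChevData
import Cfsg.Agent.Lib.Chev.CheckG2
import Cfsg.Agent.Lib.Chev.CheckD4
import Cfsg.Agent.Lib.Chev.CheckE6
import Cfsg.Agent.Lib.Chev.CheckE7
import Cfsg.Agent.Lib.Chev.CheckE8

set_option autoImplicit false
open Cfsg

namespace Cfsg.Agent.S2186

set_option maxRecDepth 100000

open Cfsg.Agent.Chev in
theorem longG2 : G2.cert.orbitTwoOK 11 (fun s => [0, 1, 5, 6, 10, 11].contains s) = true ∧ G2.cert.ng 11 = 0 := by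
  decide +kernel

open Cfsg.Agent.Chev in
theorem longD4 : D4.cert.orbitTwoOK 23 (fun _ => true) = true ∧ D4.cert.ng 23 = 0 := by decide +kernel

open Cfsg.Agent.Chev in
theorem longE6 : E6.cert.orbitTwoOK 71 (fun _ => true) = true ∧ E6.cert.ng 71 = 0 := by decide +kernel

open Cfsg.Agent.Chev in
theorem longE7 : E7.cert.orbitTwoOK 125 (fun _ => true) = true ∧ E7.cert.ng 125 = 0 := by decide +kernel

open Cfsg.Agent.Chev in
theorem longE8 : E8.cert.orbitTwoOK 239 (fun _ => true) = true ∧ E8.cert.ng 239 = 0 := by decide +kernel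

open Cfsg.Agent.Chev in
theorem pair_of_data {F : Type*} [Field F] [CharP F 2] {D : Cfsg.Lie.ChevalleyDatum} {c : Cert} (hV : Valid D c)
    {tabs simps : List ℕ} (hf : BNSetup.Facts D tabs simps) {r : ℕ} (hr : r = D.nroots - 1) (hn : 0 < D.nroots)
    {L : ℕ → Bool} (hok : c.orbitTwoOK r L = true ∧ c.ng r = 0) {g : GL D.Idx F} (hg : g ∈ D.group F) :
    IsPGroup 2 ↥(D.rootSubgroup F (D.nroots - 1) ⊔ (D.rootSubgroup F (D.nroots - 1)).map (MulAut.conj g).toMonoidHom) ∨
    ∃ h ∈ D.group F, (D.rootSubgroup F (D.nroots - 1) ⊔ (D.rootSubgroup F (D.nroots - 1)).map (MulAut.conj g).toMonoidHom).map (MulAut.conj h).toMonoidHom = D.rootSubgroup F (D.nroots - 1) ⊔ D.rootSubgroup F 0 := by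
  subst hr
  have := (isChevData (F := F) ⟨c, hV⟩ hf).pair_conjugates hV (by omega) L hok.1 hg
  rwa [hok.2] at this


/-- Let G be the Chevalley group of type G₂ (over a field with at least four elements), D₄, E₆, E₇ or E₈ over a finite field F of characteristic two, and let X be the root subgroup of the highest root (the last root index) — a long root subgroup, of order |F|. For every g in G, the subgroup generated by X and its conjugate g X g⁻¹ is either a 2-group or is conjugate by an element of G to the subgroup generated by X and the root subgroup of the lowest root (index 0, the negative of the highest root), which is a copy of SL₂(F). -/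
theorem result {F : Type*} [Field F] [Fintype F] [CharP F 2] (D : Cfsg.Lie.ChevalleyDatum) (hD : D ∈ [Cfsg.Lie.chevG2, Cfsg.Lie.chevD4, Cfsg.Lie.chevE6, Cfsg.Lie.chevE7, Cfsg.Lie.chevE8]) (hF : D = Cfsg.Lie.chevG2 → 4 ≤ Fintype.card F) (g : GL D.Idx F) (hg : g ∈ D.group F) :
    IsPGroup 2 ↥(D.rootSubgroup F (D.nroots - 1) ⊔ (D.rootSubgroup F (D.nroots - 1)).map (MulAut.conj g).toMonoidHom) ∨
    ∃ h ∈ D.group F, (D.rootSubgroup F (D.nroots - 1) ⊔ (D.rootSubgroup F (D.nroots - 1)).map (MulAut.conj g).toMonoidHom).map (MulAut.conj h).toMonoidHom = D.rootSubgroup F (D.nroots - 1) ⊔ D.rootSubgroup F 0 := by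
  simp only [List.mem_cons, List.not_mem_nil, or_false] at hD
  rcases hD with rfl | rfl | rfl | rfl | rfl
  · exact pair_of_data Cfsg.Agent.Chev.G2.valid Cfsg.Agent.Chev.BNSetup.facts_chevG2 (by decide +kernel) (by decide +kernel) longG2 hg
  · exact pair_of_data Cfsg.Agent.Chev.D4.valid Cfsg.Agent.Chev.BNSetup.facts_chevD4 (by decide +kernel) (by decide +kernel) longD4 hg
  · exact pair_of_data Cfsg.Agent.Chev.E6.valid Cfsg.Agent.Chev.BNSetup.facts_chevE6 (by decide +kernel) (by decide +kernel) longE6 hg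
  · exact pair_of_data Cfsg.Agent.Chev.E7.valid Cfsg.Agent.Chev.BNSetup.facts_chevE7 (by decide +kernel) (by decide +kernel) longE7 hg
  · exact pair_of_data Cfsg.Agent.Chev.E8.valid Cfsg.Agent.Chev.BNSetup.facts_chevE8 (by decide +kernel) (by decide +kernel) longE8 hg

end Cfsg.Agent.S2186
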