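import Cfsg.Statements.S2190
import Cfsg.Agent.Lib.Chev.Subfield.Maximal

set_option autoImplicit false
open Cfsg

namespace Cfsg.Agent.S2190

/-- Subfield subgroups of prime degree are maximal. Let K be a finite field with q^r elements, r a prime, q a power of the characteristic, and G the Chevalley group of type G₂, B₂, D₄, F₄, E₆, E₇ or E₈ over K (the matrix group generated by the root elements). Let M be the subgroup of G consisting of the matrices all of whose entries lie in the subfield with q elements (entries c with c^q = c). Then M is a proper subgroup of G and is maximal: every subgroup of G containing M is M or G. -/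
theorem result {K : Type*} [Field K] [Fintype K] (p : ℕ) [Fact p.Prime] [CharP K p] (D : Cfsg.Lie.ChevalleyDatum) (hD : D ∈ [Cfsg.Lie.chevG2, Cfsg.Lie.chevB2, Cfsg.Lie.chevD4, Cfsg.Lie.chevF4, Cfsg.Lie.chevE6, Cfsg.Lie.chevE7, Cfsg.Lie.chevE8]) (a r : ℕ) (ha : 1 ≤ a) (hr : r.Prime) (hK : Fintype.card K = (p ^ a) ^ r) (M : Subgroup (GL D.Idx K))
    (hM : ∀ g : GL D.Idx K, g ∈ M ↔ g ∈ D.group K ∧ ∀ i j : D.Idx, ((g : Matrix D.Idx D.Idx K) i j) ^ (p ^ a) = (g : Matrix D.Idx D.Idx K) i j) :
    M ≠ D.group K ∧ ∀ H : Subgroup (GL D.Idx K), M ≤ H → H ≤ D.group K → H = M ∨ H = D.group K := by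
  classical
  set φ : K ≃+* K := iterateFrobeniusEquiv K p a with hφd
  have happ : ∀ t : K, φ t = t ^ p ^ a := fun t => rfl
  have hp : p.Prime := Fact.out
  have hφ : Agent.Chev.Subfield.Frob K φ (p ^ a) r :=
    ⟨happ, hK, le_trans hp.two_le (Nat.le_self_pow (by omega) p), hr⟩
  have hMf : ∀ g, g ∈ M ↔ g ∈ D.group K ∧ Agent.Chev.BNSetup.entryMap D (φ : K →+* K) g = g := by
    intro g
    rw [hM]
    refine and_congr_right fun _ => ⟨fun h => Units.ext (Matrix.ext fun i j => ?_), fun h i j => ?_⟩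
    · exact (happ _).trans (h i j)
    · have h1 : φ ((g : Matrix D.Idx D.Idx K) i j) = (g : Matrix D.Idx D.Idx K) i j :=
        congrArg (fun x : GL D.Idx K => (x : Matrix D.Idx D.Idx K) i j) h
      exact (happ _).symm.trans h1
  constructor
  · intro hMG
    obtain ⟨E⟩ := Agent.Chev.Subfield.nonempty_env (D := D) hD
    obtain ⟨t, ht⟩ : ∃ t : K, φ t ≠ t := by
      by_contra hall
      push Not at hall
      have h1 : Nat.card K ≤ Nat.card (Agent.Chev.Subfield.fixedField φ) :=
        Nat.card_le_card_of_injective (fun t => (⟨t, hall t⟩ : Agent.Chev.Subfield.fixedField φ))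
          fun x y h => congrArg Subtype.val h
      rw [hφ.card_fixedField, Nat.card_eq_fintype_card, hK] at h1
      have h2 : (p ^ a) ^ 1 < (p ^ a) ^ r := Nat.pow_lt_pow_right hφ.two_le hr.one_lt
      rw [pow_one] at h2
      omega
    have hx := Agent.Chev.BNSetup.xe_mem_group E.good (Agent.Chev.Subfield.Env.top_pos E).1 t
    have hx' := ((hMf _).1 (hMG.symm ▸ hx)).2
    exact ht ((Agent.Chev.Subfield.xe_fixed_iff E.good E.facts (Agent.Chev.Subfield.Env.top_pos E).1).1 hx')
  · intro H hMH hHG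
    rcases Agent.Chev.Subfield.fixed_or_group_le p hD hφ hHG (fun g hg hf => hMH ((hMf g).2 ⟨hg, hf⟩)) with h | h
    · exact Or.inl (le_antisymm (fun g hg => (hMf g).2 ⟨hHG hg, h g hg⟩) hMH)
    · exact Or.inr (le_antisymm hHG h)

end Cfsg.Agent.S2190
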