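import Cfsg.Statements.S2205
import Cfsg.Agent.Lib.DoublyPrimitive.Main
import Mathlib.GroupTheory.Perm.Cycle.Type
-- import your own Cfsg.Agent.* helpers here

set_option autoImplicit false
open Cfsg
open scoped Pointwise

namespace Cfsg.Agent.S2205

/-- A finite group acting faithfully and 2-transitively on a set with p² + 1 points, p a prime, is doubly primitive — a point stabilizer acts primitively on the remaining p² points — unless p = 2 and the group is the Frobenius group of order 20. -/
theorem result {G Ω : Type*} [Group G] [Finite G] [Fintype Ω] [MulAction G Ω] [FaithfulSMul G Ω] (p : ℕ) (hp : p.Prime) (hΩ : Fintype.card Ω = p ^ 2 + 1) (h2 : MulAction.IsMultiplyPretransitive G Ω 2) (a : Ω) :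
    MulAction.IsPreprimitive ↥(MulAction.stabilizer G a) ↥(SubMulAction.ofStabilizer G a) ∨ (p = 2 ∧ Nat.card G = 20) := by
  classical
  by_cases hprim : MulAction.IsPreprimitive ↥(MulAction.stabilizer G a)
      ↥(SubMulAction.ofStabilizer G a)
  · exact Or.inl hprim
  have hΩN : Nat.card Ω = p ^ 2 + 1 := by rw [Nat.card_eq_fintype_card, hΩ]
  set X := SubMulAction.ofStabilizer G a with hXdef
  haveI hX : MulAction.IsPretransitive ↥(MulAction.stabilizer G a) ↥X := ⟨fun x y => by
    obtain ⟨g, hga, hgx⟩ := (MulAction.is_two_pretransitive_iff.1 h2)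
      (show a ≠ (x : Ω) from fun e => x.2 e.symm) (show a ≠ (y : Ω) from fun e => y.2 e.symm)
    exact ⟨⟨g, hga⟩, Subtype.ext hgx⟩⟩
  have hXc : Nat.card ↥X = p ^ 2 := by
    have e : ((X : SubMulAction _ Ω) : Set Ω) = {a}ᶜ := SubMulAction.ofStabilizer_carrier G a
    show ((X : SubMulAction _ Ω) : Set Ω).ncard = p ^ 2
    rw [e, Set.ncard_compl, Set.ncard_singleton, hΩN, Nat.add_sub_cancel]
  have hXne : Nonempty ↥X := (Nat.card_pos_iff.1 (hXc ▸ pow_pos hp.pos 2)).1
  obtain ⟨x₀⟩ := hXne
  obtain ⟨B, hx₀, hB, hBnt⟩ : ∃ B : Set ↥X, x₀ ∈ B ∧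
      MulAction.IsBlock ↥(MulAction.stabilizer G a) B ∧ ¬ MulAction.IsTrivialBlock B := by
    by_contra hall
    push Not at hall
    exact hprim (MulAction.IsPreprimitive.of_isTrivialBlock_base x₀ fun {B} h1 h2 => hall B h1 h2)
  have hBc : B.ncard = p := by
    have hd : B.ncard ∣ p ^ 2 := hXc ▸ hB.ncard_dvd_card ⟨x₀, hx₀⟩
    obtain ⟨j, hj, hje⟩ := (Nat.dvd_prime_pow hp).1 hd
    interval_cases j
    · exfalso
      exact hBnt (Or.inl (Set.ncard_le_one_iff_subsingleton.1 (by rw [hje, pow_zero])))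
    · rw [hje, pow_one]
    · exfalso
      exact hBnt (Or.inr (Set.eq_univ_iff_ncard B |>.2 (by rw [hje, hXc])))
  let Ra : Ω → Ω → Prop := fun y z => ∃ g : MulAction.stabilizer G a, ∃ u v : ↥X,
    u ∈ B ∧ v ∈ B ∧ ((g • u : ↥X) : Ω) = y ∧ ((g • v : ↥X) : Ω) = z
  have hinv : ∀ g : G, g • a = a → ∀ y z, Ra y z → Ra (g • y) (g • z) := by
    rintro g hg y z ⟨k, u, v, hu, hv, rfl, rfl⟩
    refine ⟨⟨g, hg⟩ * k, u, v, hu, hv, ?_, ?_⟩ <;> rw [mul_smul] <;> rfl
  have htrans : ∀ y z w, Ra y z → Ra z w → Ra y w := by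
    rintro y z w ⟨g, u, v, hu, hv, rfl, rfl⟩ ⟨g', u', v', hu', hv', e, rfl⟩
    have e' : g' • u' = g • v := Subtype.ext e
    have hBB : g • B = g' • B := hB.smul_eq_smul_of_nonempty
      ⟨g • v, Set.smul_mem_smul_set hv, e' ▸ Set.smul_mem_smul_set hu'⟩
    obtain ⟨w', hw', hwe⟩ := (hBB.symm ▸ Set.smul_mem_smul_set hv' : g' • v' ∈ g • B)
    exact ⟨g, u, w', hu, hw', rfl, congrArg Subtype.val hwe⟩
  have hrefl : ∀ y, y ≠ a → Ra y y := by
    intro y hy
    obtain ⟨g, hg⟩ := MulAction.exists_smul_eq ↥(MulAction.stabilizer G a) x₀ ⟨y, hy⟩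
    exact ⟨g, x₀, x₀, hx₀, hx₀, congrArg Subtype.val hg, congrArg Subtype.val hg⟩
  have hsymm : ∀ y z, Ra y z → Ra z y := fun y z ⟨g, u, v, hu, hv, h, h'⟩ =>
    ⟨g, v, u, hv, hu, h', h⟩
  have hne : ∀ y z, Ra y z → y ≠ a ∧ z ≠ a := by
    rintro y z ⟨g, u, v, -, -, rfl, rfl⟩
    exact ⟨(g • u).2, (g • v).2⟩
  have hcard : ∀ y, y ≠ a → Set.ncard {z | Ra y z} = p := by
    intro y hy
    obtain ⟨g, hg⟩ := MulAction.exists_smul_eq ↥(MulAction.stabilizer G a) x₀ ⟨y, hy⟩
    have e : {z | Ra y z} = (fun u : ↥X => ((g • u : ↥X) : Ω)) '' B := by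
      ext z
      constructor
      · rintro ⟨g', u, v, hu, hv, hy', rfl⟩
        have e' : g' • u = g • x₀ := Subtype.ext (hy'.trans (congrArg Subtype.val hg).symm)
        have hBB : g • B = g' • B := hB.smul_eq_smul_of_nonempty
          ⟨g • x₀, Set.smul_mem_smul_set hx₀, e' ▸ Set.smul_mem_smul_set hu⟩
        obtain ⟨w', hw', hwe⟩ := (hBB.symm ▸ Set.smul_mem_smul_set hv : g' • v ∈ g • B)
        exact ⟨w', hw', congrArg Subtype.val hwe⟩
      · rintro ⟨u, hu, rfl⟩
        exact ⟨g, x₀, u, hx₀, hu, congrArg Subtype.val hg, rfl⟩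
    have hinj : Function.Injective fun u : ↥X => ((g • u : ↥X) : Ω) :=
      Subtype.val_injective.comp (MulAction.injective g)
    rw [e, Set.ncard_image_of_injective _ hinj, hBc]
  let S : Cfsg.Agent.DoublyPrimitive.Sys G Ω p :=
    Cfsg.Agent.DoublyPrimitive.ofClasses a Ra h2 hne hrefl hsymm htrans hinv hcard
  rcases eq_or_ne p 2 with rfl | hp2
  swap
  · exact (S.false_of_sys ⟨hp, hp2, hΩN, h2, inferInstance⟩ (a := a) (b := (x₀ : Ω)) x₀.2).elim
  refine Or.inr ⟨rfl, ?_⟩
  haveI := h2
  haveI : MulAction.IsPretransitive G Ω := MulAction.isPretransitive_of_is_two_pretransitive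
  have hG : Nat.card G = 5 * Nat.card (MulAction.stabilizer G a) := by
    have h := (MulAction.stabilizer G a).index_mul_card
    rw [MulAction.index_stabilizer_of_transitive G a, hΩN] at h
    exact h.symm
  obtain ⟨u, v, huv, hBuv⟩ := Set.ncard_eq_two.1 hBc
  -- the stabiliser of the block
  let T := MulAction.stabilizer (↥(MulAction.stabilizer G a)) B
  have hT : T.index = 2 := by
    show (MulAction.stabilizer (↥(MulAction.stabilizer G a)) B).index = 2
    rw [MulAction.index_stabilizer]
    have h := hB.ncard_block_mul_ncard_orbit_eq ⟨x₀, hx₀⟩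
    rw [hBc, hXc] at h
    omega
  -- a point stabiliser inside it fixes the block
  have hU : ∀ w : ↥X, (MulAction.stabilizer (↥(MulAction.stabilizer G a)) w).index = 4 := fun w => by
    rw [MulAction.index_stabilizer_of_transitive, hXc]
    rfl
  have hub : u ∈ B := hBuv ▸ Set.mem_insert u _
  let U := MulAction.stabilizer (↥(MulAction.stabilizer G a)) u
  have hUc : Nat.card U ≤ 2 := by
    -- elements fixing `u` are determined by the action on the other block
    obtain ⟨c, hc⟩ : ∃ c : ↥X, c ∉ B := (Set.ne_univ_iff_exists_notMem B).1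
      fun h => hBnt (Or.inr h)
    obtain ⟨g₀, hg₀⟩ := MulAction.exists_smul_eq ↥(MulAction.stabilizer G a) u c
    have hfixB : ∀ g ∈ U, ∀ w ∈ B, g • w = w := by
      intro g hg w hw
      have hgu : g • u = u := hg
      have hgB : g • B = B := MulAction.mem_stabilizer_iff.1
        (MulAction.IsBlock.stabilizer_le hB hub hg)
      have h1 : g • w ∈ B := hgB ▸ Set.smul_mem_smul_set hw
      rw [hBuv] at hw h1
      rcases hw with rfl | rfl
      · exact hgu
      · rcases h1 with h1 | h1
        · exact absurd (MulAction.injective g (hgu.trans h1.symm)) huv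
        · exact h1
    have hcompl : Bᶜ = g₀ • B := by
      refine (Set.eq_of_subset_of_ncard_le ?_ ?_).symm
      · intro w hw hwB
        have h := hB.smul_eq_smul_of_nonempty (g₁ := g₀) (g₂ := (1 : ↥(MulAction.stabilizer G a)))
          ⟨w, hw, by rw [one_smul]; exact hwB⟩
        rw [one_smul] at h
        exact hc (h ▸ hg₀ ▸ Set.smul_mem_smul_set hub)
      · rw [Set.ncard_compl, hXc, hBc, Set.ncard_smul_set, hBc]
        norm_num
    rw [show (2 : ℕ) = Nat.card ↥(g₀ • B) by
      rw [Nat.card_coe_set_eq, Set.ncard_smul_set, hBc]]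
    refine Nat.card_le_card_of_injective (fun g : U => (⟨(g : ↥(MulAction.stabilizer G a)) • c, ?_⟩ : ↥(g₀ • B))) ?_
    · rw [← hcompl]
      intro h
      exact hc (by
        have := hfixB g g.2 _ h
        rw [← MulAction.injective (g : ↥(MulAction.stabilizer G a)) this]; exact h)
    · intro g g' e
      have e' : (g : ↥(MulAction.stabilizer G a)) • c = (g' : ↥(MulAction.stabilizer G a)) • c := congrArg Subtype.val e
      have hall : ∀ w : ↥X, (g'⁻¹ * g : ↥(MulAction.stabilizer G a)) • w = w := by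
        intro w
        have hin : ((g' : ↥(MulAction.stabilizer G a)))⁻¹ * (g : ↥(MulAction.stabilizer G a)) ∈ U := mul_mem (inv_mem g'.2) g.2
        by_cases hw : w ∈ B
        · exact hfixB _ hin w hw
        · have hwc : w ∈ g₀ • B := hcompl ▸ hw
          have hcc : c ∈ g₀ • B := hcompl ▸ hc
          have hgc : ((g' : ↥(MulAction.stabilizer G a)))⁻¹ * (g : ↥(MulAction.stabilizer G a)) ∈ MulAction.stabilizer (↥(MulAction.stabilizer G a)) c := by
            rw [MulAction.mem_stabilizer_iff, mul_smul, e', inv_smul_smul]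
          obtain ⟨w₁, hw₁, rfl⟩ := hwc
          obtain ⟨c₁, hc₁, hc₁e⟩ := hcc
          rcases eq_or_ne w₁ c₁ with rfl | hne'
          · show _ • (g₀ • w₁) = g₀ • w₁
            rw [show g₀ • w₁ = c from hc₁e]; exact hgc
          · set k := ((g' : ↥(MulAction.stabilizer G a)))⁻¹ * (g : ↥(MulAction.stabilizer G a))
            have hkS : k • (g₀ • B) = g₀ • B := MulAction.mem_stabilizer_iff.1
              (MulAction.IsBlock.stabilizer_le (hB.translate g₀) (hc₁e ▸ Set.smul_mem_smul_set hc₁) hgc)
            have h1 : k • g₀ • w₁ ∈ g₀ • B := hkS ▸ Set.smul_mem_smul_set (Set.smul_mem_smul_set hw₁)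
            obtain ⟨w₂, hw₂, hw₂e⟩ := h1
            rcases eq_or_ne w₂ c₁ with rfl | hne2
            · exfalso
              have h2 : k • g₀ • w₁ = k • c := by
                rw [← hw₂e]
                show g₀ • w₂ = k • c
                rw [show g₀ • w₂ = c from hc₁e]; exact hgc.symm
              exact hne' (MulAction.injective g₀
                ((MulAction.injective k h2).trans (show g₀ • w₂ = c from hc₁e).symm))
            · have : w₂ = w₁ := by
                rw [hBuv] at hw₁ hc₁ hw₂
                simp only [Set.mem_insert_iff, Set.mem_singleton_iff] at hw₁ hc₁ hw₂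
                rcases hw₁ with rfl | rfl <;> rcases hc₁ with rfl | rfl <;>
                  rcases hw₂ with rfl | rfl <;> first | rfl | (exfalso; tauto)
              rw [← this]; exact this ▸ hw₂e.symm
      have h1 : ((g' : ↥(MulAction.stabilizer G a)))⁻¹ * (g : ↥(MulAction.stabilizer G a)) = 1 := by
        apply Subtype.ext
        apply FaithfulSMul.eq_of_smul_eq_smul (α := Ω)
        intro w
        rw [OneMemClass.coe_one, one_smul]
        rcases eq_or_ne w a with hwa | hw
        · rw [hwa]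
          exact MulAction.mem_stabilizer_iff.1 (((g' : ↥(MulAction.stabilizer G a)))⁻¹ * (g : ↥(MulAction.stabilizer G a))).2
        · exact congrArg Subtype.val (hall ⟨w, hw⟩)
      exact (Subtype.ext (inv_mul_eq_one.1 h1)).symm
  have hH4 : Nat.card (MulAction.stabilizer G a) = 4 * Nat.card U := by
    rw [← hU u, Subgroup.index_mul_card]
  have hUpos : 0 < Nat.card U := Nat.card_pos
  rcases (show Nat.card U = 1 ∨ Nat.card U = 2 by omega) with hU1 | hU2
  · rw [hG, hH4, hU1]
  -- order 40: a transposition forces the symmetric group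
  exfalso
  obtain ⟨g, hg, hg1⟩ : ∃ g ∈ U, g ≠ 1 := (Subgroup.bot_or_exists_ne_one U).resolve_left
    fun h => by rw [h, Subgroup.card_bot] at hU2; omega
  let φ : G →* Equiv.Perm Ω := MulAction.toPermHom G Ω
  have hφ : Function.Injective φ := MulAction.toPerm_injective
  have hgB : ∀ w ∈ B, g • w = w := by
    intro w hw
    have hgu : g • u = u := hg
    have hgB : g • B = B := MulAction.mem_stabilizer_iff.1
      (MulAction.IsBlock.stabilizer_le hB hub hg)
    have h1 : g • w ∈ B := hgB ▸ Set.smul_mem_smul_set hw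
    rw [hBuv] at hw h1
    rcases hw with rfl | rfl
    · exact hgu
    · rcases h1 with h1 | h1
      · exact absurd (MulAction.injective g (hgu.trans h1.symm)) huv
      · exact h1
  have hswap : (φ (g : G)).IsSwap := by
    rw [← Equiv.Perm.card_support_eq_two]
    have hne' : φ (g : G) ≠ 1 := fun h => hg1 (Subtype.ext (hφ (h.trans (map_one φ).symm)))
    have h2' : 2 ≤ (φ (g : G)).support.card := Equiv.Perm.two_le_card_support_of_ne_one hne'
    have hsub : (φ (g : G)).support ⊆ Finset.univ \ ({a, (u : Ω), (v : Ω)} : Finset Ω) := by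
      intro w hw
      simp only [Finset.mem_sdiff, Finset.mem_univ, true_and, Finset.mem_insert,
        Finset.mem_singleton]
      rw [Equiv.Perm.mem_support] at hw
      rintro (rfl | rfl | rfl)
      · exact hw g.2
      · exact hw (congrArg Subtype.val (hgB u hub))
      · exact hw (congrArg Subtype.val (hgB v (hBuv ▸ Set.mem_insert_of_mem _ rfl)))
    have h3 := Finset.card_le_card hsub
    rw [Finset.card_sdiff_of_subset (Finset.subset_univ _), Finset.card_univ, hΩ] at h3
    have h4 : ({a, (u : Ω), (v : Ω)} : Finset Ω).card = 3 := by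
      rw [Finset.card_insert_of_notMem, Finset.card_pair (fun e => huv (Subtype.ext e))]
      simp only [Finset.mem_insert, Finset.mem_singleton, not_or]
      exact ⟨fun e => u.2 e.symm, fun e => v.2 e.symm⟩
    omega
  have hcardG : Nat.card G = 40 := by rw [hG, hH4, hU2]
  obtain ⟨c, hc⟩ : ∃ c : G, orderOf c = 5 := by
    haveI : Fact (Nat.Prime 5) := ⟨by norm_num⟩
    exact exists_prime_orderOf_dvd_card' 5 (by rw [hcardG]; norm_num)
  have htop : φ.range = ⊤ := Equiv.Perm.subgroup_eq_top_of_swap_mem (by rw [hΩ]; norm_num)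
    (by
      rw [hΩ, ← Nat.card_eq_fintype_card, ← Nat.card_congr (MonoidHom.ofInjective hφ).toEquiv, hcardG]
      norm_num) ⟨g, rfl⟩ hswap
  have hcard' := Nat.card_congr ((MonoidHom.ofInjective hφ).trans (MulEquiv.subgroupCongr htop)
    |>.trans Subgroup.topEquiv).toEquiv
  rw [hcardG, Nat.card_perm, hΩN] at hcard'
  norm_num [Nat.factorial] at hcard'

end Cfsg.Agent.S2205
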