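import Cfsg.Statements.S2209
-- import your own Cfsg.Agent.* helpers here

import Cfsg.Agent.Lib.Chev.ChevData
import Cfsg.Agent.Lib.Chev.CheckE6
import Cfsg.Agent.Lib.Chev.CheckE7
import Cfsg.Agent.Lib.Chev.CheckE8

set_option autoImplicit false
open Cfsg

namespace Cfsg.Agent.S2209

set_option maxRecDepth 100000

open Cfsg.Agent.Chev in
theorem okE6 : E6.cert.rootTwoOK 71 1 = true := by decide +kernel

open Cfsg.Agent.Chev in
theorem listE6 : ((List.range E6.cert.rank).filter fun i => i != 1).map (fun i => E6.cert.ng (E6.cert.p i)) =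
    [15, 29, 32, 34, 35] := by decide +kernel

open Cfsg.Agent.Chev in
theorem okE7 : E7.cert.rootTwoOK 125 0 = true := by decide +kernel

open Cfsg.Agent.Chev in
theorem listE7 : ((List.range E7.cert.rank).filter fun i => i != 0).map (fun i => E7.cert.ng (E7.cert.p i)) =
    [47, 52, 56, 59, 61, 62] := by decide +kernel

open Cfsg.Agent.Chev in
theorem okE8 : E8.cert.rootTwoOK 239 7 = true := by decide +kernel

open Cfsg.Agent.Chev in
theorem listE8 : ((List.range E8.cert.rank).filter fun i => i != 7).map (fun i => E8.cert.ng (E8.cert.p i)) =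
    [77, 98, 104, 109, 113, 116, 118] := by decide +kernel

open Cfsg.Agent.Chev in
theorem centralizer_of_data {F : Type*} [Field F] [CharP F 2] {D : Cfsg.Lie.ChevalleyDatum} {c : Cert}
    (hV : Valid D c) {tabs simps : List ℕ} (hf : BNSetup.Facts D tabs simps) {r j₀ : ℕ} (hr : r = D.nroots - 1)
    (hr' : r < D.nroots) (hj : j₀ < D.rank) (hok : c.rootTwoOK r j₀ = true) {l : List ℕ}
    (hl : ((List.range c.rank).filter fun i => i != j₀).map (fun i => c.ng (c.p i)) = l)
    (t : GL D.Idx F) (ht : (t : Matrix D.Idx D.Idx F) = D.x F (D.nroots - 1) 1) :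
    D.group F ⊓ Subgroup.centralizer {t} = D.posUnipotent F ⊔
      Subgroup.closure {g : GL D.Idx F | ∃ s ∈ l, ∃ c : F, (g : Matrix D.Idx D.Idx F) = D.x F s c} := by
  have hG : Good D := ⟨c, hV⟩
  rw [hG.eq_xg ht, ← hr, (isChevData (F := F) hG hf).centralizer_root hV hr' hj hok, closure_negSimple_eq hV hl]


/-- Centralizer of a long root involution in the Chevalley groups of type E₆, E₇, E₈ over a finite field F of characteristic two. Let G be the group generated by the root elements, U the subgroup generated by the positive root subgroups, r the highest root (the last root index: 71, 125, 239 respectively), and t the element of G with matrix x_r(1). Then the centralizer of t in G is the subgroup generated by U together with the root subgroups X_{−p} for the fundamental roots p orthogonal to r — all fundamental roots except p₂ for E₆, except p₁ for E₇, except p₈ for E₈ (numbering with p₁–p₃–p₄–…–p_l the long chain and p₂ joined to p₄); the indices of these negative fundamental roots are 15, 29, 32, 34, 35 (E₆), 47, 52, 56, 59, 61, 62 (E₇), 77, 98,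 104, 109, 113, 116, 118 (E₈). (This is the unipotent radical of the corresponding maximal parabolic subgroup extended by the root subgroups of its Levi factor, of type A₅, D₆, E₇ respectively.) -/
theorem result {F : Type*} [Field F] [Fintype F] [CharP F 2] (d : Cfsg.Lie.ChevalleyDatum × List ℕ)
    (hd : d ∈ [(Cfsg.Lie.chevE6, [15, 29, 32, 34, 35]), (Cfsg.Lie.chevE7, [47, 52, 56, 59, 61, 62]), (Cfsg.Lie.chevE8, [77, 98, 104, 109, 113, 116, 118])])
    (t : GL d.1.Idx F) (ht : (t : Matrix d.1.Idx d.1.Idx F) = d.1.x F (d.1.nroots - 1) 1) :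
    d.1.group F ⊓ Subgroup.centralizer {t} = d.1.posUnipotent F ⊔ Subgroup.closure {g : GL d.1.Idx F | ∃ s ∈ d.2, ∃ c : F, (g : Matrix d.1.Idx d.1.Idx F) = d.1.x F s c} := by
  simp only [List.mem_cons, List.not_mem_nil, or_false] at hd
  rcases hd with rfl | rfl | rfl
  · exact centralizer_of_data Cfsg.Agent.Chev.E6.valid Cfsg.Agent.Chev.BNSetup.facts_chevE6 (r := 71) (j₀ := 1)
      (by decide +kernel) (by decide +kernel) (by decide +kernel) okE6 listE6 t ht
  · exact centralizer_of_data Cfsg.Agent.Chev.E7.valid Cfsg.Agent.Chev.BNSetup.facts_chevE7 (r := 125) (j₀ := 0)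
      (by decide +kernel) (by decide +kernel) (by decide +kernel) okE7 listE7 t ht
  · exact centralizer_of_data Cfsg.Agent.Chev.E8.valid Cfsg.Agent.Chev.BNSetup.facts_chevE8 (r := 239) (j₀ := 7)
      (by decide +kernel) (by decide +kernel) (by decide +kernel) okE8 listE8 t ht

end Cfsg.Agent.S2209
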