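import Cfsg.Statements.S2214
-- import your own Cfsg.Agent.* helpers here

import Cfsg.Agent.Lib.Chev.FiniteSubfieldGroup
import Cfsg.Agent.Lib.Chev.CheckG2
import Cfsg.Agent.Lib.Chev.CheckB2
import Cfsg.Agent.Lib.Chev.CheckD4
import Cfsg.Agent.Lib.Chev.CheckF4
import Cfsg.Agent.Lib.Chev.CheckE6
import Cfsg.Agent.Lib.Chev.CheckE7
import Cfsg.Agent.Lib.Chev.CheckE8

set_option autoImplicit false
open Cfsg

namespace Cfsg.Agent.S2214

set_option maxRecDepth 100000

open Cfsg.Agent.Chev in
theorem okG2 : G2.cert.descOK = true := by decide +kernel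

open Cfsg.Agent.Chev in
theorem okB2 : B2.cert.descOK = true := by decide +kernel

open Cfsg.Agent.Chev in
theorem okD4 : D4.cert.descOK = true := by decide +kernel

open Cfsg.Agent.Chev in
theorem okF4 : F4.cert.descOK = true := by decide +kernel

open Cfsg.Agent.Chev in
theorem okE6 : E6.cert.descOK = true := by decide +kernel

open Cfsg.Agent.Chev in
theorem okE7 : E7.cert.descOK = true := by decide +kernel

open Cfsg.Agent.Chev in
theorem okE8 : E8.cert.descOK = true := by decide +kernel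


/-- Let k be an algebraically closed field of prime characteristic p, G the adjoint Chevalley group of type G₂, B₂, D₄, F₄, E₆, E₇ or E₈ over k (the matrix group generated by the root elements x_s(t), t ∈ k, acting on the Lie algebra), q = p^a with a ≥ 1, and K a subgroup of G containing every root element x_s(t) with t^q = t and consisting of matrices all of whose entries c satisfy c^q = c. Then the centralizer of K in G is trivial, and the normalizer of K in G is exactly the set of elements of G all of whose entries c satisfy c^q = c. -/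
theorem result {k : Type*} [Field k] [IsAlgClosed k] (p : ℕ) [Fact p.Prime] [CharP k p] (D : Cfsg.Lie.ChevalleyDatum) (hD : D ∈ [Cfsg.Lie.chevG2, Cfsg.Lie.chevB2, Cfsg.Lie.chevD4, Cfsg.Lie.chevF4, Cfsg.Lie.chevE6, Cfsg.Lie.chevE7, Cfsg.Lie.chevE8]) (a : ℕ) (ha : 1 ≤ a) (K : Subgroup (GL D.Idx k)) (hKG : K ≤ D.group k)
    (hLK : Subgroup.closure {g : GL D.Idx k | ∃ (s : ℕ) (t : k), t ^ (p ^ a) = t ∧ (g : Matrix D.Idx D.Idx k) = D.x k s t} ≤ K)
    (hKfix : ∀ g ∈ K, ∀ i j : D.Idx, ((g : Matrix D.Idx D.Idx k) i j) ^ (p ^ a) = (g : Matrix D.Idx D.Idx k) i j) :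
    D.group k ⊓ Subgroup.centralizer (K : Set (GL D.Idx k)) = ⊥ ∧
    ∀ g : GL D.Idx k, g ∈ D.group k → (g ∈ Subgroup.normalizer (K : Set (GL D.Idx k)) ↔ ∀ i j : D.Idx, ((g : Matrix D.Idx D.Idx k) i j) ^ (p ^ a) = (g : Matrix D.Idx D.Idx k) i j) := by
  simp only [List.mem_cons, List.not_mem_nil, or_false] at hD
  rcases hD with rfl | rfl | rfl | rfl | rfl | rfl | rfl
  · exact Cfsg.Agent.Chev.subfield_centralizer_normalizer p Cfsg.Agent.Chev.G2.valid okG2
      Cfsg.Agent.Chev.BNSetup.facts_chevG2 a K hKG hLK hKfix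
  · exact Cfsg.Agent.Chev.subfield_centralizer_normalizer p Cfsg.Agent.Chev.B2.valid okB2
      Cfsg.Agent.Chev.BNSetup.facts_chevB2 a K hKG hLK hKfix
  · exact Cfsg.Agent.Chev.subfield_centralizer_normalizer p Cfsg.Agent.Chev.D4.valid okD4
      Cfsg.Agent.Chev.BNSetup.facts_chevD4 a K hKG hLK hKfix
  · exact Cfsg.Agent.Chev.subfield_centralizer_normalizer p Cfsg.Agent.Chev.F4.valid okF4
      Cfsg.Agent.Chev.BNSetup.facts_chevF4 a K hKG hLK hKfix
  · exact Cfsg.Agent.Chev.subfield_centralizer_normalizer p Cfsg.Agent.Chev.E6.valid okE6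
      Cfsg.Agent.Chev.BNSetup.facts_chevE6 a K hKG hLK hKfix
  · exact Cfsg.Agent.Chev.subfield_centralizer_normalizer p Cfsg.Agent.Chev.E7.valid okE7
      Cfsg.Agent.Chev.BNSetup.facts_chevE7 a K hKG hLK hKfix
  · exact Cfsg.Agent.Chev.subfield_centralizer_normalizer p Cfsg.Agent.Chev.E8.valid okE8
      Cfsg.Agent.Chev.BNSetup.facts_chevE8 a K hKG hLK hKfix

end Cfsg.Agent.S2214
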