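import Cfsg.Statements.S2219
import Cfsg.Agent.Lib.NineTwoQ.Main
import Cfsg.Agent.S1011
import Cfsg.Agent.S1020
import Mathlib.FieldTheory.Finite.GaloisField

set_option autoImplicit false
open Cfsg

namespace Cfsg.Agent.S2219

/-- Let G be a non-abelian finite simple group of order 9·2ᵃ·qᵇ for a prime q other than 2 and 3, having at least three conjugacy classes of nonidentity 3-elements (elements of order 3 or 9). Then G is isomorphic to PSL(2,8) or to PSL(2,17). -/
theorem result {G : Type*} [Group G] [Finite G] [IsSimpleGroup G] (hG : ¬ IsMulCommutative G)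
    (q a b : ℕ) (hq : q.Prime) (hq2 : q ≠ 2) (hq3 : q ≠ 3) (hcard : Nat.card G = 9 * 2 ^ a * q ^ b)
    (h3 : 3 ≤ Nat.card {C : ConjClasses G // ∃ g ∈ C.carrier, g ≠ 1 ∧ orderOf g ∣ 9}) :
    (∃ (F : Type) (_ : Field F) (_ : Fintype F), Fintype.card F = 8 ∧
        Nonempty (G ≃* Matrix.ProjectiveSpecialLinearGroup (Fin 2) F)) ∨
      Nonempty (G ≃* Matrix.ProjectiveSpecialLinearGroup (Fin 2) (ZMod 17)) := by
  rcases NineTwoQ.card_eq hG q a b hq hq2 hq3 hcard h3 with h | h
  · haveI : Fact (Nat.Prime 2) := ⟨Nat.prime_two⟩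
    haveI := Fintype.ofFinite (GaloisField 2 3)
    have hF : Fintype.card (GaloisField 2 3) = 8 := by
      rw [← Nat.card_eq_fintype_card, GaloisField.card 2 3 (by norm_num)]
      norm_num
    exact Or.inl ⟨GaloisField 2 3, inferInstance, inferInstance, hF, S1011.result h hF⟩
  · haveI : Fact (Nat.Prime 17) := ⟨by norm_num⟩
    exact Or.inr (S1020.result h (ZMod.card 17))

end Cfsg.Agent.S2219
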