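import Cfsg.Statements.S2220
import Cfsg.Agent.Lib.SelfNineEight.Reduce
import Cfsg.Agent.Lib.NineTwoQ.Main
import Cfsg.Agent.S3341
import Cfsg.Agent.S1011
import Cfsg.Agent.S1020
import Mathlib.FieldTheory.Finite.GaloisField

set_option autoImplicit false
set_option linter.style.haveILetI false
open Cfsg

namespace Cfsg.Agent.S2220

/-- Let G be a non-abelian finite simple group of order 9·2ᵃ·qᵇ for a prime q other than 2 and 3, and suppose a Sylow 3-subgroup R of G is strongly self-centralizing: C_G(k) = R for every nonidentity k ∈ R. Then G is isomorphic to the alternating group of degree 6, to PSL(2,8) or to PSL(2,17). -/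
theorem result {G : Type*} [Group G] [Finite G] [IsSimpleGroup G] (hG : ¬ IsMulCommutative G)
    (q a b : ℕ) (hq : q.Prime) (hq2 : q ≠ 2) (hq3 : q ≠ 3) (hcard : Nat.card G = 9 * 2 ^ a * q ^ b)
    (R : Sylow 3 G) (hR : ∀ k ∈ (R : Subgroup G), k ≠ 1 → Subgroup.centralizer ({k} : Set G) = R) :
    Nonempty (G ≃* ↥(alternatingGroup (Fin 6))) ∨
      (∃ (F : Type) (_ : Field F) (_ : Fintype F), Fintype.card F = 8 ∧
        Nonempty (G ≃* Matrix.ProjectiveSpecialLinearGroup (Fin 2) F)) ∨
      Nonempty (G ≃* Matrix.ProjectiveSpecialLinearGroup (Fin 2) (ZMod 17)) := by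
  have hR9 := SelfNineEight.card_sylow_nine hq hq3 hcard R
  by_cases h3 : 3 ≤ Nat.card {C : ConjClasses G // ∃ g ∈ C.carrier, g ≠ 1 ∧ orderOf g ∣ 9}
  · rcases NineTwoQ.card_eq hG q a b hq hq2 hq3 hcard h3 with h | h
    · haveI : Fact (Nat.Prime 2) := ⟨Nat.prime_two⟩
      haveI := Fintype.ofFinite (GaloisField 2 3)
      have hF : Fintype.card (GaloisField 2 3) = 8 := by
        rw [← Nat.card_eq_fintype_card, GaloisField.card 2 3 (by norm_num)]
        norm_num
      exact Or.inr (Or.inl ⟨GaloisField 2 3, inferInstance, inferInstance, hF, S1011.result h hF⟩)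
    · haveI : Fact (Nat.Prime 17) := ⟨by norm_num⟩
      exact Or.inr (Or.inr (S1020.result h (ZMod.card 17)))
  have hexp : ∀ s ∈ (R : Subgroup G), s ^ 3 = 1 := by
    intro s hs
    have hd : orderOf s ∣ 3 ^ 2 :=
      (Subgroup.orderOf_dvd_natCard _ hs).trans (dvd_of_eq (hR9.trans (by norm_num)))
    obtain ⟨i, hi, he⟩ := (Nat.dvd_prime_pow Nat.prime_three).1 hd
    have hi1 : i ≠ 2 := fun e =>
      h3 (SelfNineEight.three_classes_of_cyclic hR9 hR hs (by rw [he, e]; norm_num))
    exact orderOf_dvd_iff_pow_eq_one.1 (by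
      rw [he]; interval_cases i <;> first | exact absurd rfl hi1 | norm_num)
  have hS : Exceptional.SelfNine.Setup R := ⟨hR9, hexp, hR⟩
  by_cases hcl : ∃ x y : G, orderOf x = 3 ∧ orderOf y = 3 ∧ ∀ g : G, g * x * g⁻¹ ≠ y
  · exact Or.inl (S3341.result R (R : Subgroup G) rfl
      ⟨⟨fun x y => Subtype.ext (hS.comm x.2 y.2)⟩⟩ hexp hR9 hcl hR)
  push Not at hcl
  haveI := Fintype.ofFinite G
  exact (SelfNineEight.config_of_setup hG hq hq2 hq3 hcard hS
    fun y z hy hz => isConj_iff.2 (hcl y z hy hz)).false.elim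

end Cfsg.Agent.S2220
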