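import Cfsg.Statements.S2221
-- import your own Cfsg.Agent.* helpers here

import Cfsg.Agent.Lib.Perm.BinarySylow

set_option autoImplicit false
open Cfsg

namespace Cfsg.Agent.S2221

open Cfsg.Agent.Perm in
theorem internal_iff {G : Type*} [Group G] (P : Subgroup G) :
    (∃ S₁ S₂ : Subgroup G, S₁ ≠ ⊥ ∧ S₂ ≠ ⊥ ∧ Cfsg.IsInternalDirectProduct S₁ S₂ P) ↔ Decomposable ↥P := by
  constructor
  · rintro ⟨A, B, hA, hB, hAP, hBP, hc, hi, hs⟩
    refine ⟨A.subgroupOf P, B.subgroupOf P, ?_, ?_, fun a ha b hb => Subtype.ext (hc _ ha _ hb), ?_, ?_⟩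
    · rw [Ne, Subgroup.subgroupOf_eq_bot]
      exact fun h => hA (eq_bot_iff.2 fun x hx => h.le_bot ⟨hx, hAP hx⟩)
    · rw [Ne, Subgroup.subgroupOf_eq_bot]
      exact fun h => hB (eq_bot_iff.2 fun x hx => h.le_bot ⟨hx, hBP hx⟩)
    · rw [Subgroup.eq_bot_iff_forall]
      intro x hx
      exact Subtype.ext (Subgroup.mem_bot.1 (hi ▸ Subgroup.mem_inf.2 ⟨hx.1, hx.2⟩))
    · apply Subgroup.map_injective P.subtype_injective
      rw [Subgroup.map_sup, ← MonoidHom.range_eq_map, Subgroup.range_subtype,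
        Subgroup.map_subgroupOf_eq_of_le hAP, Subgroup.map_subgroupOf_eq_of_le hBP, hs]
  · rintro ⟨A, B, hA, hB, hc, hi, hs⟩
    refine ⟨A.map P.subtype, B.map P.subtype, ?_, ?_, Subgroup.map_subtype_le A, Subgroup.map_subtype_le B, ?_, ?_, ?_⟩
    · rwa [Ne, Subgroup.map_eq_bot_iff_of_injective _ P.subtype_injective]
    · rwa [Ne, Subgroup.map_eq_bot_iff_of_injective _ P.subtype_injective]
    · rintro _ ⟨a, ha, rfl⟩ _ ⟨b, hb, rfl⟩
      exact congrArg Subtype.val (hc a ha b hb)
    · rw [← Subgroup.map_inf _ _ _ P.subtype_injective, hi, Subgroup.map_bot]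
    · rw [← Subgroup.map_sup, hs, ← MonoidHom.range_eq_map, Subgroup.range_subtype]

open Cfsg.Agent.Perm in
theorem decomposable_of_klein {G : Type*} [Group G] [Finite G] (h4 : Nat.card G = 4) (h2 : ∀ g : G, g ^ 2 = 1) :
    Decomposable G := by
  have hcomm : ∀ a b : G, a * b = b * a := fun a b => by
    have hinv : ∀ g : G, g⁻¹ = g := fun g => inv_eq_of_mul_eq_one_right (by rw [← pow_two, h2])
    rw [← hinv (a * b), mul_inv_rev, hinv, hinv]
  have hle : ∀ (a b : G), b ∈ Subgroup.zpowers a → b = 1 ∨ b = a := by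
    intro a b hb
    obtain ⟨k, rfl⟩ := Subgroup.mem_zpowers_iff.1 hb
    rcases Int.even_or_odd' k with ⟨m, rfl | rfl⟩
    · left; rw [zpow_mul, zpow_ofNat, h2, one_zpow]
    · right; rw [zpow_add, zpow_mul, zpow_ofNat, h2, one_zpow, one_mul, zpow_one]
  haveI : Nontrivial G := Finite.one_lt_card_iff_nontrivial.1 (by omega)
  obtain ⟨a, ha⟩ := exists_ne (1 : G)
  have hcardA : Nat.card (Subgroup.zpowers a) = 2 := by
    rw [Nat.card_zpowers]
    exact orderOf_eq_prime (h2 a) ha
  obtain ⟨b, hb⟩ : ∃ b, b ∉ Subgroup.zpowers a := by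
    by_contra h
    push Not at h
    rw [(Subgroup.eq_top_iff' _).2 h, Subgroup.card_top, h4] at hcardA
    omega
  refine ⟨Subgroup.zpowers a, Subgroup.zpowers b, Subgroup.zpowers_ne_bot.2 ha,
    Subgroup.zpowers_ne_bot.2 fun h => hb (h ▸ one_mem _), fun x _ y _ => hcomm x y, ?_, ?_⟩
  · rw [Subgroup.eq_bot_iff_forall]
    rintro x ⟨hx, hx'⟩
    rcases hle b x hx' with rfl | rfl
    · rfl
    · exact absurd hx hb
  · have hlt : Subgroup.zpowers a < Subgroup.zpowers a ⊔ Subgroup.zpowers b :=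
      lt_of_le_of_ne le_sup_left fun h =>
        hb (h ▸ Subgroup.mem_sup_right (Subgroup.mem_zpowers b) : b ∈ Subgroup.zpowers a)
    have hdvd := Subgroup.card_subgroup_dvd_card (Subgroup.zpowers a ⊔ Subgroup.zpowers b)
    rw [h4] at hdvd
    have hgt : Nat.card (Subgroup.zpowers a) < Nat.card ↥(Subgroup.zpowers a ⊔ Subgroup.zpowers b) :=
      Set.Finite.card_lt_card (Set.toFinite _) (SetLike.coe_ssubset_coe.2 hlt) |> fun h => by
        simpa using h
    apply Subgroup.eq_top_of_card_eq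
    have := Nat.le_of_dvd (by norm_num) hdvd
    interval_cases hn : Nat.card ↥(Subgroup.zpowers a ⊔ Subgroup.zpowers b) <;> omega

theorem no_four_five :
    ∀ g : alternatingGroup (Fin 5), g ^ 4 = 1 → g ^ 2 = 1 := by decide +kernel

theorem no_four_four :
    ∀ g : alternatingGroup (Fin 4), g ^ 4 = 1 → g ^ 2 = 1 := by decide +kernel

open Cfsg.Agent.Perm in
theorem small {n : ℕ} (P : Sylow 2 (alternatingGroup (Fin n)))
    (hv : padicValNat 2 (Nat.card (alternatingGroup (Fin n))) = 2)
    (h : ∀ g : alternatingGroup (Fin n), g ^ 4 = 1 → g ^ 2 = 1) :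
    Decomposable ↥(P : Subgroup (alternatingGroup (Fin n))) := by
  have h4 : Nat.card ↥(P : Subgroup (alternatingGroup (Fin n))) = 4 := by
    rw [P.card_eq_multiplicity, Nat.factorization_def _ Nat.prime_two, hv]
    norm_num
  refine decomposable_of_klein h4 fun g => Subtype.ext (h g.1 ?_)
  rw [← h4]
  exact congrArg Subtype.val (pow_card_eq_one' (x := g))


/-- Direct decomposability of the Sylow 2-subgroups of the alternating groups. Let n ≥ 4 and let P be a Sylow 2-subgroup of the alternating group of degree n. Then P is the internal direct product of two nontrivial subgroups if and only if n = 4, n = 5, or n ≡ 2, 3 (mod 4) with 4⌊n/4⌋ not a power of 2. In the remaining cases (n ≡ 0, 1 (mod 4) with n ≥ 8, or n ≡ 2, 3 (mod 4) with 4⌊n/4⌋ a power of 2) P is directly indecomposable. -/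
theorem result (n : ℕ) (hn : 4 ≤ n)
    (P : Sylow 2 (alternatingGroup (Fin n))) :
    (∃ S₁ S₂ : Subgroup (alternatingGroup (Fin n)), S₁ ≠ ⊥ ∧ S₂ ≠ ⊥ ∧
        Cfsg.IsInternalDirectProduct S₁ S₂ (P : Subgroup (alternatingGroup (Fin n)))) ↔
      (n = 4 ∨ n = 5 ∨ ((n % 4 = 2 ∨ n % 4 = 3) ∧ ∀ r : ℕ, 4 * (n / 4) ≠ 2 ^ r)) := by
  rw [internal_iff]
  obtain ⟨e⟩ := Cfsg.Agent.Perm.nonempty_equiv_sylow_alternating (by omega) P
  have hiff : Cfsg.Agent.Perm.Decomposable ↥(P : Subgroup (alternatingGroup (Fin n))) ↔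
      Cfsg.Agent.Perm.Decomposable ↥(Cfsg.Agent.Perm.binEven n.bitIndices.toFinset) :=
    ⟨fun h => h.of_equiv e.symm, fun h => h.of_equiv e⟩
  have hbit : ∀ i : ℕ, i ∈ n.bitIndices.toFinset ↔ n.testBit i := fun i => by
    rw [List.mem_toFinset, Nat.mem_bitIndices]
  have hone : n.testBit 1 = true ↔ (n % 4 = 2 ∨ n % 4 = 3) := by
    rw [Nat.testBit_eq_decide_div_mod_eq, decide_eq_true_eq]
    omega
  have hbig : ∀ i, n.testBit (i + 2) = (n / 4).testBit i := fun i => by
    rw [show n / 4 = n / 2 / 2 by omega, Nat.testBit_div_two, Nat.testBit_div_two]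
  -- powers of two
  have hpow : ∀ r, 4 * (n / 4) = 2 ^ r → ∀ i, 2 ≤ i → n.testBit i = true → i = r := by
    intro r hr i hi ht
    obtain ⟨i, rfl⟩ : ∃ j, i = j + 2 := ⟨i - 2, by omega⟩
    rw [hbig] at ht
    match r, hr with
    | 0, hr => omega
    | 1, hr => omega
    | r + 2, hr =>
      have h4 : n / 4 = 2 ^ r := by rw [pow_add] at hr; omega
      rw [h4, Nat.testBit_two_pow, decide_eq_true_eq] at ht
      omega
  by_cases h45 : n = 4 ∨ n = 5
  · refine iff_of_true ?_ (by rcases h45 with h | h <;> simp [h])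
    rcases h45 with rfl | rfl
    · refine small P ?_ no_four_four
      rw [nat_card_alternatingGroup, Nat.card_eq_fintype_card, Fintype.card_fin,
        show (4 : ℕ).factorial / 2 = 2 ^ 2 * 3 from rfl, padicValNat.mul (by norm_num) (by norm_num),
        padicValNat.prime_pow, padicValNat.eq_zero_of_not_dvd (n := 3) (by norm_num)]
    · refine small P ?_ no_four_five
      rw [nat_card_alternatingGroup, Nat.card_eq_fintype_card, Fintype.card_fin,
        show (5 : ℕ).factorial / 2 = 2 ^ 2 * 15 from rfl, padicValNat.mul (by norm_num) (by norm_num),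
        padicValNat.prime_pow, padicValNat.eq_zero_of_not_dvd (n := 15) (by norm_num)]
  push Not at h45
  rw [hiff]
  -- a large part
  obtain ⟨k, hk, hk2⟩ : ∃ k, n.testBit k = true ∧ 2 ≤ k := by
    obtain ⟨i, hi⟩ : ∃ i, (n / 4).testBit i = true := by
      by_contra h
      push Not at h
      have h0 : n / 4 = 0 := Nat.eq_of_testBit_eq fun i => by
        rw [Nat.zero_testBit]
        simpa using h i
      omega
    exact ⟨i + 2, by rw [hbig]; exact hi, by omega⟩
  let k₀ : n.bitIndices.toFinset := ⟨k, (hbit k).2 hk⟩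
  by_cases huniq : ∀ i, 2 ≤ i → n.testBit i = true → i = k
  · refine iff_of_false (Cfsg.Agent.Perm.not_decomposable_single (k := k₀) hk2
      (fun i hi => Subtype.ext (huniq i hi ((hbit i).1 i.2))) ?_) ?_
    · by_cases h1 : n.testBit 1 = true
      · exact Or.inl ⟨⟨1, (hbit 1).2 h1⟩, rfl⟩
      · refine Or.inr (show 3 ≤ k from ?_)
        by_contra hk3
        obtain rfl : k = 2 := by omega
        have hn : n / 4 = 2 ^ 0 := Nat.eq_of_testBit_eq fun i => by
          rw [Nat.testBit_two_pow]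
          rcases Nat.eq_zero_or_pos i with rfl | hi
          · rw [← hbig]; simpa using hk
          · rw [decide_eq_false (by omega : ¬ 0 = i)]
            by_contra hne
            rw [Bool.not_eq_false, ← hbig] at hne
            have := huniq _ (by omega) hne
            omega
        rw [hone] at h1
        rcases h45 with ⟨h4, h5⟩
        omega
    · rintro (h | h | ⟨-, h⟩)
      · exact h45.1 h
      · exact h45.2 h
      · refine h k ?_
        have hn : n / 4 = 2 ^ (k - 2) := Nat.eq_of_testBit_eq fun i => by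
          rw [← hbig, Nat.testBit_two_pow]
          rcases eq_or_ne (k - 2) i with rfl | hi
          · rw [decide_eq_true rfl, show k - 2 + 2 = k by omega, hk]
          · rw [decide_eq_false hi]
            by_contra hne
            rw [Bool.not_eq_false] at hne
            have := huniq _ (by omega) hne
            omega
        rw [hn, show (4 : ℕ) = 2 ^ 2 from rfl, ← pow_add]
        congr 1
        omega
  · push Not at huniq
    obtain ⟨l, hl2, hl, hlk⟩ := huniq
    let k₁ : n.bitIndices.toFinset := ⟨l, (hbit l).2 hl⟩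
    have hne : k₀ ≠ k₁ := fun h => hlk (congrArg Subtype.val h).symm
    by_cases h1 : n.testBit 1 = true
    · refine iff_of_true (Cfsg.Agent.Perm.decomposable_binEven (k₀ := k₀) (k₁ := k₁)
        (one := ⟨1, (hbit 1).2 h1⟩) hk2 hl2 hne rfl) (Or.inr (Or.inr ⟨hone.1 h1, fun r hr => ?_⟩))
      exact hlk ((hpow r hr l hl2 hl).trans (hpow r hr k hk2 hk).symm)
    · refine iff_of_false (Cfsg.Agent.Perm.not_decomposable_many (k₀ := k₀) (k₁ := k₁) hk2 hl2 hne
        fun i hi => h1 (hi ▸ (hbit i).1 i.2)) ?_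
      rintro (h | h | ⟨h, -⟩)
      · exact h45.1 h
      · exact h45.2 h
      · exact h1 (hone.2 h)

end Cfsg.Agent.S2221
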