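import Cfsg.Statements.S2222
import Cfsg.Agent.Lib.Perm.SylowTwo
-- import your own Cfsg.Agent.* helpers here

set_option autoImplicit false
open Cfsg

namespace Cfsg.Agent.S2222

/-- In the alternating group of degree n ≥ 5 every subgroup H of odd index is pronormal: for every element g, the subgroups H and gHg⁻¹ are conjugate by an element of the subgroup they generate. -/
theorem result (n : ℕ) (hn : 5 ≤ n)
    (H : Subgroup (alternatingGroup (Fin n))) (hH : Odd H.index) : Cfsg.IsPronormal H := by
  have : Fact (Nat.Prime 2) := ⟨Nat.prime_two⟩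
  obtain ⟨S, hS⟩ : ∃ S : Sylow 2 (alternatingGroup (Fin n)), (S : Subgroup (alternatingGroup (Fin n))) ≤ H := by
    let T : Sylow 2 H := default
    have hT : IsPGroup 2 ((T : Subgroup H).map H.subtype) := T.isPGroup'.map _
    have hidx : ¬ 2 ∣ ((T : Subgroup H).map H.subtype).index := by
      rw [Subgroup.index_map_subtype]
      exact fun h => (Nat.prime_two.dvd_mul.1 h).elim T.not_dvd_index (fun h' => by
        obtain ⟨k, hk⟩ := hH; omega)
    exact ⟨hT.toSylow hidx, Subgroup.map_subtype_le (T : Subgroup H)⟩
  rcases eq_or_lt_of_le hn with h5 | h6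
  · subst h5
    have hcard : Nat.card (alternatingGroup (Fin 5)) = 60 := by
      rw [nat_card_alternatingGroup]; simp [Nat.factorial]
    have hdvd : H.index ∣ 60 := hcard ▸ H.index_dvd_card
    have hle := Nat.le_of_dvd (by norm_num) hdvd
    have hne : H.index ≠ 0 := Subgroup.index_ne_zero_of_finite
    have hcases : H.index = 1 ∨ H.index = 3 ∨ H.index = 5 ∨ H.index = 15 := by
      obtain ⟨k, hk⟩ := hH
      rw [hk] at hdvd hle ⊢
      have : k < 30 := by omega
      interval_cases k <;> simp_all
    rcases hcases with h | h | h | h
    · rw [Subgroup.index_eq_one.1 h]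
      exact fun g => ⟨g, Subgroup.mem_sup_left (Subgroup.mem_top g), rfl⟩
    · exact Perm.isPronormal_of_isCoatom H (Perm.isCoatom_of_index_prime H (by rw [h]; exact Nat.prime_three))
    · exact Perm.isPronormal_of_isCoatom H (Perm.isCoatom_of_index_prime H (by rw [h]; exact Nat.prime_five))
    · have hHS : (S : Subgroup (alternatingGroup (Fin 5))) = H := by
        refine Subgroup.eq_of_le_of_card_ge hS (le_of_eq ?_)
        rw [Sylow.card_eq_multiplicity, hcard]
        have := H.card_mul_index
        rw [h, hcard] at this
        rw [show Nat.factorization 60 2 = 2 by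
          rw [Nat.factorization_def _ Nat.prime_two]
          rw [show (60 : ℕ) = 2 ^ 2 * 15 by norm_num, padicValNat.mul (by norm_num) (by norm_num),
            padicValNat.prime_pow, padicValNat.eq_zero_of_not_dvd (by norm_num)]]
        omega
      exact Perm.isPronormal_of_normalizer_sylow_le S H hS (by rw [hHS])
  · exact Perm.isPronormal_of_normalizer_sylow_le S H hS
      (by rw [Perm.normalizer_sylow_two_alternating n h6 S]; exact hS.trans Subgroup.le_normalizer)

end Cfsg.Agent.S2222
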