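import Cfsg.Statements.S2225
import Cfsg.Agent.Lib.Pronormal.Linear
import Cfsg.Agent.Lib.Pronormal.PSLTwo

set_option autoImplicit false
open Cfsg

namespace Cfsg.Agent.S2225

/-- Let F be a finite field and d = 2^w ≥ 2 a power of 2 such that PSL_d(F) is simple. Then every subgroup H of PSL_d(F) of odd index is pronormal: for every g, H and gHg⁻¹ are conjugate by an element of the subgroup they generate. -/
theorem result {F : Type*} [Field F] [Fintype F]
    (w : ℕ) (hw : 1 ≤ w) (hs : IsSimpleGroup (Matrix.ProjectiveSpecialLinearGroup (Fin (2 ^ w)) F))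
    (H : Subgroup (Matrix.ProjectiveSpecialLinearGroup (Fin (2 ^ w)) F)) (hH : Odd H.index) : Cfsg.IsPronormal H := by
  by_cases h2 : (2 : F) = 0
  · haveI : CharP F 2 := CharTwo.of_one_ne_zero_of_two_eq_zero one_ne_zero h2
    haveI : Fact (Nat.Prime 2) := ⟨Nat.prime_two⟩
    exact Pronormal.isPronormal_psl_char 2 _ H
      (fun h => Nat.not_even_iff_odd.2 hH (even_iff_two_dvd.2 h))
  · obtain rfl | ⟨j, rfl⟩ : w = 1 ∨ ∃ j, w = j + 2 :=
      (Nat.lt_or_ge w 2).imp (fun h => by omega) fun h => ⟨w - 2, by omega⟩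
    · exact Pronormal.isPronormal_psl_two h2 H hH
    · exact Pronormal.isPronormal_psl_odd h2 j _ rfl H hH

end Cfsg.Agent.S2225
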