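import Cfsg.Statements.S2226
import Cfsg.Agent.Lib.Pronormal.Unitary

set_option autoImplicit false
open Cfsg

namespace Cfsg.Agent.S2226

/-- Let F be a finite field with q² elements and d = 2^w ≥ 4 a power of 2 such that the unitary group PSU_d(q) (realised over F) is simple. Then every subgroup H of PSU_d(q) of odd index is pronormal: for every g, H and gHg⁻¹ are conjugate by an element of the subgroup they generate. -/
theorem result {F : Type*} [Field F] [Fintype F] (q : ℕ)
    (hF : Fintype.card F = q ^ 2) (w : ℕ) (hw : 2 ≤ w) (hs : IsSimpleGroup (Cfsg.PSU (2 ^ w) F q))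
    (H : Subgroup (Cfsg.PSU (2 ^ w) F q)) (hH : Odd H.index) : Cfsg.IsPronormal H := by
  obtain ⟨j, rfl⟩ : ∃ j, w = j + 2 := ⟨w - 2, by omega⟩
  by_cases h2 : (2 : F) = 0
  · haveI : CharP F 2 := CharTwo.of_one_ne_zero_of_two_eq_zero one_ne_zero h2
    exact Pronormal.isPronormal_psu_even hF (2 ^ (j + 1)) _ (by rw [← pow_succ']) H hH
  · exact Pronormal.isPronormal_psu_odd hF h2 j _ rfl H hH

end Cfsg.Agent.S2226
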