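import Cfsg.Statements.S2228
import Cfsg.Agent.Lib.J3Order.Nineteen

set_option autoImplicit false
open Cfsg

namespace Cfsg.Agent.S2228

open Subgroup

theorem quotient_data {G : Type*} [Group G] [Finite G] {P : Subgroup G} {p r : ℕ} [Fact p.Prime]
    (hc : Nat.card ↥(centralizer (P : Set G)) = p) (hP : Nat.card P = p)
    (hr : Nat.card (Subgroup.normalizerMonoidHom P).range = r)
    (hcyc : IsCyclic (Subgroup.normalizerMonoidHom P).range) :
    centralizer (P : Set G) = P ∧
      ∃ h : (P.subgroupOf (normalizer (P : Set G))).Normal,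
        IsCyclic (↥(normalizer (P : Set G)) ⧸ P.subgroupOf _) ∧
        Nat.card (↥(normalizer (P : Set G)) ⧸ P.subgroupOf _) = r := by
  haveI : IsCyclic P := isCyclic_of_prime_card hP
  have hle : P ≤ centralizer (P : Set G) := Subgroup.le_centralizer P
  have hC : centralizer (P : Set G) = P := (eq_of_le_of_card_ge hle (by rw [hc, hP])).symm
  have hker : (Subgroup.normalizerMonoidHom P).ker = P.subgroupOf (normalizer (P : Set G)) := by
    rw [normalizerMonoidHom_ker, hC]
  haveI hn : (P.subgroupOf (normalizer (P : Set G))).Normal := hker ▸ MonoidHom.normal_ker _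
  let e := (QuotientGroup.quotientMulEquivOfEq hker.symm).trans
    (QuotientGroup.quotientKerEquivRange (Subgroup.normalizerMonoidHom P))
  exact ⟨hC, hn, e.isCyclic.mpr hcyc, (Nat.card_congr e.toEquiv).trans hr⟩

/-- Let G be a finite simple group in which all involutions are conjugate and the centralizer of an involution has a normal extraspecial subgroup of order 32 complemented by a subgroup isomorphic to the alternating group of degree 5 (a group of J₃-type). Then a Sylow 19-subgroup of G is self-centralizing with normalizer-quotient cyclic of order 9, and a Sylow 17-subgroup is self-centralizing with normalizer-quotient cyclic of order 8. -/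
theorem result {G : Type*} [Group G] [Finite G] [IsSimpleGroup G]
    (hone : ∀ x y : G, orderOf x = 2 → orderOf y = 2 → IsConj x y)
    (t : G) (ht : orderOf t = 2) (E A : Subgroup ↥(Subgroup.centralizer ({t} : Set G))) [E.Normal]
    (hE : Cfsg.IsExtraspecial 2 ↥E) (hE32 : Nat.card ↥E = 32) (hEA : E.IsComplement' A)
    (eA : ↥A ≃* ↥(alternatingGroup (Fin 5))) :
    (∀ X : Sylow 19 G, Subgroup.centralizer ((X : Subgroup G) : Set G) = X ∧
        ∃ h : ((X : Subgroup G).subgroupOf (Subgroup.normalizer ((X : Subgroup G) : Set G))).Normal,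
          IsCyclic (↥(Subgroup.normalizer ((X : Subgroup G) : Set G)) ⧸ (X : Subgroup G).subgroupOf _) ∧
          Nat.card (↥(Subgroup.normalizer ((X : Subgroup G) : Set G)) ⧸ (X : Subgroup G).subgroupOf _) = 9) ∧
    (∀ Y : Sylow 17 G, Subgroup.centralizer ((Y : Subgroup G) : Set G) = Y ∧
        ∃ h : ((Y : Subgroup G).subgroupOf (Subgroup.normalizer ((Y : Subgroup G) : Set G))).Normal,
          IsCyclic (↥(Subgroup.normalizer ((Y : Subgroup G) : Set G)) ⧸ (Y : Subgroup G).subgroupOf _) ∧
          Nat.card (↥(Subgroup.normalizer ((Y : Subgroup G) : Set G)) ⧸ (Y : Subgroup G).subgroupOf _) = 8) := by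
  haveI : Fintype G := Fintype.ofFinite G
  haveI : Fact (Nat.Prime 19) := ⟨by norm_num⟩
  haveI : Fact (Nat.Prime 17) := ⟨by norm_num⟩
  obtain ⟨S, hS⟩ := J3Order.exists_frame ht E hE32 hE
    (hEA.symm.QuotientMulEquiv.trans eA)
  subst hS
  let O : J3Order.One G := { toFrame := S, one := fun x h2 h1 => hone S.z x ht (orderOf_eq_prime (by rw [pow_two, h2]) h1) }
  obtain ⟨-, -, ξ, hξ⟩ := O.main
  refine ⟨fun X => ?_, fun Y => ?_⟩
  · obtain ⟨hc, hP, hr, hcyc⟩ := O.facts.nineteen_final ξ hξ X
    exact quotient_data hc hP hr hcyc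
  · obtain ⟨hc, hP, hr, hcyc⟩ := O.facts.seventeen Y
    exact quotient_data hc hP hr hcyc

end Cfsg.Agent.S2228
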