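import Cfsg.Statements.S2231
import Cfsg.Agent.Lib.Qd.TISylow
-- import your own Cfsg.Agent.* helpers here

set_option autoImplicit false
open Cfsg

namespace Cfsg.Agent.S2231

/-- Let p be an odd prime and K a finite field of characteristic p. Then Qd(p) (the natural semidirect product of an elementary abelian group of order p² by SL₂(p)) is not involved in the projective special linear group PSL₂(K). -/
theorem result {p : ℕ} [Fact p.Prime] (hp : p ≠ 2) {K : Type*} [Field K] [Fintype K] [CharP K p] : ¬ Cfsg.Involves ↥(Cfsg.qd p) (Matrix.ProjectiveSpecialLinearGroup (Fin 2) K) := by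
  refine fun h => ?_
  refine Qd.not_involves_qd_of_sylow_disjoint hp ?_ (Qd.involves_of_involves_quotient _ h)
  refine Qd.sylow_disjoint_of_fixed_vectors
    ((Units.coeHom (Matrix (Fin 2) (Fin 2) K)).comp Matrix.SpecialLinearGroup.toGL) {u | u ≠ 0} (fun u hu => hu)
    ?_ ?_ ?_ ?_
  · intro g u hu h0
    apply hu
    change (g : Matrix (Fin 2) (Fin 2) K).mulVec u = 0 at h0
    exact Matrix.mulVec_injective_iff_isUnit.2
      ((Matrix.isUnit_iff_isUnit_det _).2 (by simp [g.det_coe])) (h0.trans (Matrix.mulVec_zero _).symm)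
  · rintro g ⟨k, hk⟩
    have h0 : ((g : Matrix (Fin 2) (Fin 2) K) - 1) ^ p ^ k = 0 := by
      rw [sub_pow_char_pow_of_commute (p := p) (n := k) (Commute.one_right _), one_pow,
        ← Matrix.SpecialLinearGroup.coe_pow, hk, Matrix.SpecialLinearGroup.coe_one, sub_self]
    have hd : ((g : Matrix (Fin 2) (Fin 2) K) - 1).det = 0 := by
      have h := congrArg Matrix.det h0
      rw [Matrix.det_pow, Matrix.det_zero] at h
      exact eq_zero_of_pow_eq_zero h
    obtain ⟨u, hu, hgu⟩ := Matrix.exists_mulVec_eq_zero_iff.2 hd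
    rw [Matrix.sub_mulVec, Matrix.one_mulVec, sub_eq_zero] at hgu
    exact ⟨u, hu, hgu⟩
  · intro g hg u hu v _ hgu hgv
    change (g : Matrix (Fin 2) (Fin 2) K).mulVec u = u at hgu
    change (g : Matrix (Fin 2) (Fin 2) K).mulVec v = v at hgv
    by_contra hc
    push Not at hc
    have hli : LinearIndependent K ![u, v] := by
      rw [LinearIndependent.pair_iff' hu]
      exact fun a ha => hc a ha.symm
    have hunit : IsUnit (Matrix.of ![u, v]).transpose := by
      rw [Matrix.isUnit_transpose, ← Matrix.linearIndependent_rows_iff_isUnit]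
      exact hli
    refine hg (Subtype.ext (hunit.mul_right_cancel ?_))
    rw [Matrix.SpecialLinearGroup.coe_one, one_mul]
    ext i j
    fin_cases j
    · exact congrFun hgu i
    · exact congrFun hgv i
  · intro u hu g hgu
    change (g : Matrix (Fin 2) (Fin 2) K).mulVec u = u at hgu
    have hd : ((g : Matrix (Fin 2) (Fin 2) K) - 1).det = 0 :=
      Matrix.exists_mulVec_eq_zero_iff.1 ⟨u, hu, by rw [Matrix.sub_mulVec, Matrix.one_mulVec, hgu, sub_self]⟩
    have hdet := g.det_coe
    have h2 : ((g : Matrix (Fin 2) (Fin 2) K) - 1) ^ 2 = 0 := by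
      rw [Matrix.det_fin_two] at hd hdet
      simp at hd
      have htr : (g : Matrix (Fin 2) (Fin 2) K) 0 0 + (g : Matrix (Fin 2) (Fin 2) K) 1 1 = 2 := by
        linear_combination hdet - hd
      ext i j
      fin_cases i <;> fin_cases j <;> simp [pow_two, Matrix.mul_apply, Fin.sum_univ_two]
      · linear_combination (g : Matrix (Fin 2) (Fin 2) K) 0 0 * htr - hdet
      · linear_combination (g : Matrix (Fin 2) (Fin 2) K) 0 1 * htr
      · linear_combination (g : Matrix (Fin 2) (Fin 2) K) 1 0 * htr
      · linear_combination (g : Matrix (Fin 2) (Fin 2) K) 1 1 * htr - hdet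
    refine ⟨1, Subtype.ext ?_⟩
    have h3 : ((g : Matrix (Fin 2) (Fin 2) K) - 1) ^ p = 0 := pow_eq_zero_of_le (Fact.out : p.Prime).two_le h2
    rw [sub_pow_char_of_commute (p := p) (Commute.one_right _), one_pow, sub_eq_zero] at h3
    rw [pow_one, Matrix.SpecialLinearGroup.coe_pow, h3, Matrix.SpecialLinearGroup.coe_one]

end Cfsg.Agent.S2231
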