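import Cfsg.Statements.S2232
import Cfsg.Agent.Lib.Qd.TISylow
-- import your own Cfsg.Agent.* helpers here

set_option autoImplicit false
open Cfsg

namespace Cfsg.Agent.S2232


variable {p : ℕ} [Fact p.Prime] {K : Type*} [Field K] [Fintype K] [CharP K p] {n : ℕ}

theorem pow_q_add (a b : K) : (a + b) ^ p ^ n = a ^ p ^ n + b ^ p ^ n := add_pow_char_pow a b p n

theorem herm_add_left (u v w : Fin 3 → K) (q : ℕ) :
    Cfsg.hermForm 3 K q (u + v) w = Cfsg.hermForm 3 K q u w + Cfsg.hermForm 3 K q v w := by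
  simp [Cfsg.hermForm, add_mul, Finset.sum_add_distrib]

theorem herm_smul_left (c : K) (u w : Fin 3 → K) (q : ℕ) :
    Cfsg.hermForm 3 K q (c • u) w = c * Cfsg.hermForm 3 K q u w := by
  simp [Cfsg.hermForm, Finset.mul_sum, mul_assoc]

theorem herm_sub_left (u v w : Fin 3 → K) (q : ℕ) :
    Cfsg.hermForm 3 K q (u - v) w = Cfsg.hermForm 3 K q u w - Cfsg.hermForm 3 K q v w := by
  simp [Cfsg.hermForm, sub_mul, Finset.sum_sub_distrib]

theorem herm_conj (hK : Fintype.card K = (p ^ n) ^ 2) (u v : Fin 3 → K) :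
    Cfsg.hermForm 3 K (p ^ n) u v ^ p ^ n = Cfsg.hermForm 3 K (p ^ n) v u := by
  have h : ∀ x : K, (x ^ p ^ n) ^ p ^ n = x := fun x => by
    rw [← pow_mul, ← pow_two, ← hK, FiniteField.pow_card]
  simp [Cfsg.hermForm, Fin.sum_univ_three, pow_q_add, mul_pow, h, mul_comm]

/-- The linear functional `(·, u)`. -/
def hermFun (q : ℕ) (u : Fin 3 → K) : (Fin 3 → K) →ₗ[K] K where
  toFun v := Cfsg.hermForm 3 K q v u
  map_add' v w := herm_add_left v w u q
  map_smul' c v := herm_smul_left c v u q

/-- Two isotropic vectors orthogonal to each other are proportional. -/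
theorem dependent_of_isotropic (hK : Fintype.card K = (p ^ n) ^ 2) (u v : Fin 3 → K) (hu : u ≠ 0)
    (huu : Cfsg.hermForm 3 K (p ^ n) u u = 0) (hvv : Cfsg.hermForm 3 K (p ^ n) v v = 0)
    (huv : Cfsg.hermForm 3 K (p ^ n) u v = 0) : ∃ c : K, v = c • u := by
  by_contra hc
  push Not at hc
  have hvu : Cfsg.hermForm 3 K (p ^ n) v u = 0 := by
    rw [← herm_conj hK, huv, zero_pow (pow_ne_zero _ (Fact.out : p.Prime).ne_zero)]
  let σ : K →+* K := iterateFrobenius K p n
  have hσ : ∀ x, σ x = x ^ p ^ n := fun x => iterateFrobenius_def p n x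
  set A : Matrix (Fin 2) (Fin 3) K := Matrix.of ![σ ∘ u, σ ∘ v] with hA
  have hker : Submodule.span K (Set.range ![u, v]) ≤ LinearMap.ker A.mulVecLin := by
    rw [Submodule.span_le]
    rintro x ⟨i, rfl⟩
    show A.mulVec (![u, v] i) = 0
    have e : ∀ x y : Fin 3 → K, (σ ∘ x) ⬝ᵥ y = Cfsg.hermForm 3 K (p ^ n) y x := fun x y => by
      simp [dotProduct, Cfsg.hermForm, hσ, mul_comm]
    ext j
    show (![σ ∘ u, σ ∘ v] j) ⬝ᵥ (![u, v] i) = 0
    fin_cases i <;> fin_cases j <;> simp [e, huu, hvv, huv, hvu]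
  have hli : LinearIndependent K ![u, v] := by
    rw [LinearIndependent.pair_iff' hu]
    exact fun a ha => hc a ha.symm
  have hli' : LinearIndependent K ![σ ∘ u, σ ∘ v] := by
    refine (LinearIndependent.pair_iff' (K := K) (x := (σ ∘ u : Fin 3 → K)) (fun h => hu (funext fun i => σ.injective
      ((congrFun h i).trans (map_zero σ).symm)))).2 ?_
    intro a ha
    obtain ⟨b, rfl⟩ := (Finite.injective_iff_surjective.1 σ.injective) a
    refine hc b (funext fun i => σ.injective ?_)
    have := congrFun ha i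
    simp only [Pi.smul_apply, smul_eq_mul, Function.comp_apply] at this ⊢
    rw [map_mul]; exact this.symm
  have hrank : A.rank = 2 := LinearIndependent.rank_matrix hli'
  have h1 := LinearMap.finrank_range_add_finrank_ker A.mulVecLin
  rw [show Module.finrank K (LinearMap.range A.mulVecLin) = 2 from hrank, Module.finrank_pi, Fintype.card_fin] at h1
  have h2 := Submodule.finrank_mono hker
  rw [finrank_span_eq_card hli, Fintype.card_fin] at h2
  omega

/-- The matrix of an element of `SU`. -/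
def suMat (q : ℕ) : ↥(Cfsg.SU 3 K q) →* Matrix (Fin 3) (Fin 3) K :=
  (Cfsg.slToMat 3 K).comp (Cfsg.SU 3 K q).subtype

theorem suMat_herm (q : ℕ) (g : ↥(Cfsg.SU 3 K q)) (u v : Fin 3 → K) :
    Cfsg.hermForm 3 K q ((suMat q g).mulVec u) ((suMat q g).mulVec v) = Cfsg.hermForm 3 K q u v := g.2 u v

theorem sub_fixed_orth (q : ℕ) (g : ↥(Cfsg.SU 3 K q)) (u v : Fin 3 → K)
    (hu : (suMat q g).mulVec u = u) :
    Cfsg.hermForm 3 K q ((suMat q g - 1).mulVec v) u = 0 := by
  rw [Matrix.sub_mulVec, Matrix.one_mulVec, herm_sub_left, sub_eq_zero]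
  conv_lhs => rw [← hu]
  exact suMat_herm q g v u

omit [Fact p.Prime] [CharP K p] in
/-- An element of `SU₃` fixing a nonzero isotropic vector is unipotent. -/
theorem sub_one_cube (q : ℕ) (g : ↥(Cfsg.SU 3 K q)) (u : Fin 3 → K) (hu : u ≠ 0)
    (huu : Cfsg.hermForm 3 K q u u = 0) (hgu : (suMat q g).mulVec u = u) (hq : q ≠ 0) :
    (suMat q g - 1) ^ 3 = 0 := by
  set f := hermFun q u with hf
  have hfne : ∃ v, f v = 1 := by
    obtain ⟨i, hi⟩ := Function.ne_iff.1 hu
    refine ⟨Pi.single i ((u i ^ q)⁻¹), ?_⟩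
    show Cfsg.hermForm 3 K q _ u = 1
    simp [Cfsg.hermForm, Pi.single_apply, pow_ne_zero q hi]
  obtain ⟨v, hv⟩ := hfne
  have hker : Module.finrank K (LinearMap.ker f) = 2 := by
    have h1 := LinearMap.finrank_range_add_finrank_ker f
    rw [LinearMap.range_eq_top.2 (fun a => ⟨a • v, by simp [hv]⟩), finrank_top, Module.finrank_self,
      Module.finrank_pi, Fintype.card_fin] at h1
    omega
  obtain ⟨w, hw, hwu⟩ : ∃ w, f w = 0 ∧ w ∉ Submodule.span K {u} := by
    by_contra h
    push Not at h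
    have h2 := Submodule.finrank_mono (show LinearMap.ker f ≤ Submodule.span K {u} from h)
    rw [hker, finrank_span_singleton hu] at h2
    omega
  have hu0 : f u = 0 := huu
  have hli : LinearIndependent K ![u, w, v] := by
    rw [Fintype.linearIndependent_iff]
    intro c hc
    simp [Fin.sum_univ_three] at hc
    have hc2 : c 2 = 0 := by
      have := congrArg f hc
      simpa [hu0, hw, hv] using this
    rw [hc2, zero_smul, add_zero] at hc
    have hc1 : c 1 = 0 := by
      by_contra h1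
      apply hwu
      rw [Submodule.mem_span_singleton]
      refine ⟨-(c 1)⁻¹ * c 0, ?_⟩
      have : c 1 • w = -(c 0 • u) := by rw [eq_neg_iff_add_eq_zero, add_comm]; exact hc
      calc (-(c 1)⁻¹ * c 0) • u = (c 1)⁻¹ • (-(c 0 • u)) := by simp [smul_smul]
        _ = w := by rw [← this, smul_smul, inv_mul_cancel₀ h1, one_smul]
    rw [hc1, zero_smul, add_zero] at hc
    intro i; fin_cases i <;> simp_all
  let b : Module.Basis (Fin 3) K (Fin 3 → K) :=
    basisOfLinearIndependentOfCardEqFinrank hli (by simp)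
  have hb : ⇑b = ![u, w, v] := coe_basisOfLinearIndependentOfCardEqFinrank hli _
  set N := suMat q g - 1 with hN
  have hNf : ∀ x, f (N.mulVec x) = 0 := fun x => sub_fixed_orth q g u x hgu
  have hcoef : ∀ x, f x = 0 → ∃ a c : K, x = a • u + c • w := by
    intro x hx
    have h := b.sum_repr x
    rw [Fin.sum_univ_three, hb] at h
    simp at h
    have := congrArg f h
    simp [hu0, hw, hv, hx] at this
    exact ⟨b.repr x 0, b.repr x 1, by rw [this, zero_smul, add_zero] at h; exact h.symm⟩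
  obtain ⟨a, c, hNw⟩ := hcoef _ (hNf w)
  obtain ⟨a', c', hNv⟩ := hcoef _ (hNf v)
  have hNu : N.mulVec u = 0 := by rw [hN, Matrix.sub_mulVec, Matrix.one_mulVec, hgu, sub_self]
  have hgw : (suMat q g).mulVec w = a • u + (1 + c) • w := by
    rw [hN, Matrix.sub_mulVec, Matrix.one_mulVec, sub_eq_iff_eq_add] at hNw
    rw [hNw, add_smul, one_smul]; abel
  have hgv : (suMat q g).mulVec v = a' • u + c' • w + v := by
    rw [hN, Matrix.sub_mulVec, Matrix.one_mulVec, sub_eq_iff_eq_add] at hNv
    exact hNv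
  set B : Matrix (Fin 3) (Fin 3) K := (Matrix.of ![u, w, v]).transpose with hB
  have hBu : IsUnit B := by
    rw [hB, Matrix.isUnit_transpose, ← Matrix.linearIndependent_rows_iff_isUnit]
    exact hli
  have hcomp : suMat q g * B = B * !![1, a, a'; 0, 1 + c, c'; 0, 0, 1] := by
    ext i j
    fin_cases j
    · have := congrFun hgu i
      simpa [hB, Matrix.mul_apply, Fin.sum_univ_three, Matrix.mulVec, dotProduct] using this
    · have := congrFun hgw i
      simpa [hB, Matrix.mul_apply, Fin.sum_univ_three, Matrix.mulVec, dotProduct, mul_comm] using this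
    · have := congrFun hgv i
      simpa [hB, Matrix.mul_apply, Fin.sum_univ_three, Matrix.mulVec, dotProduct, mul_comm] using this
  have hc0 : c = 0 := by
    have h := congrArg Matrix.det hcomp
    rw [Matrix.det_mul, Matrix.det_mul, show (suMat q g).det = 1 from g.1.det_coe, one_mul] at h
    have hdB : B.det ≠ 0 := ((Matrix.isUnit_iff_isUnit_det B).1 hBu).ne_zero
    have h2 : (!![1, a, a'; 0, 1 + c, c'; 0, 0, 1] : Matrix (Fin 3) (Fin 3) K).det = 1 :=
      (mul_left_cancel₀ hdB ((mul_one B.det).trans h)).symm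
    rw [Matrix.det_fin_three] at h2
    simpa using h2
  rw [hc0, zero_smul, add_zero] at hNw
  have hall : ∀ x : Fin 3 → K, (N ^ 3).mulVec x = 0 := by
    intro x
    rw [pow_succ, pow_two, ← Matrix.mulVec_mulVec, ← Matrix.mulVec_mulVec]
    obtain ⟨s, t, hst⟩ := hcoef _ (hNf x)
    rw [hst, Matrix.mulVec_add, Matrix.mulVec_smul, Matrix.mulVec_smul, hNu, hNw, smul_zero, zero_add,
      Matrix.mulVec_smul, Matrix.mulVec_smul, hNu, smul_zero, smul_zero]
  exact Matrix.ext_iff_mulVec.2 fun x => by rw [hall x, Matrix.zero_mulVec]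

/-- Let p be an odd prime, q a power of p and K a finite field with q² elements. Then Qd(p) (the natural semidirect product of an elementary abelian group of order p² by SL₂(p)) is not involved in the projective special unitary group PSU₃(q) realised over K. -/
theorem result {p : ℕ} [Fact p.Prime] (hp : p ≠ 2) {K : Type*} [Field K] [Fintype K] [CharP K p] (n : ℕ) (hn : 1 ≤ n) (hK : Fintype.card K = (p ^ n) ^ 2) : ¬ Cfsg.Involves ↥(Cfsg.qd p) (Cfsg.PSU 3 K (p ^ n)) := by
  refine fun h => ?_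
  refine Qd.not_involves_qd_of_sylow_disjoint hp ?_ (Qd.involves_of_involves_quotient _ h)
  have hq : p ^ n ≠ 0 := pow_ne_zero _ (Fact.out : p.Prime).ne_zero
  refine Qd.sylow_disjoint_of_fixed_vectors (suMat (p ^ n))
    {u | u ≠ 0 ∧ Cfsg.hermForm 3 K (p ^ n) u u = 0} (fun u hu => hu.1) ?_ ?_ ?_ ?_
  · rintro g u ⟨hu, huu⟩
    refine ⟨fun h0 => hu ?_, (suMat_herm _ g u u).trans huu⟩
    exact Matrix.mulVec_injective_iff_isUnit.2 ((Group.isUnit g).map (suMat (p ^ n)))
      (h0.trans (Matrix.mulVec_zero _).symm)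
  · rintro g ⟨k, hk⟩
    set N := suMat (p ^ n) g - 1 with hN
    have h0 : N ^ p ^ k = 0 := by
      rw [hN, sub_pow_char_pow_of_commute (p := p) (n := k) (Commute.one_right _), one_pow, ← map_pow, hk,
        map_one, sub_self]
    by_cases hN0 : N = 0
    · -- the identity fixes an isotropic vector
      have hg : suMat (p ^ n) g = 1 := sub_eq_zero.1 hN0
      have hcard : IsSquare (-1 : K) := by
        rw [FiniteField.isSquare_neg_one_iff, hK, pow_two, Nat.mul_mod]
        have : (p ^ n) % 4 = 1 ∨ (p ^ n) % 4 = 3 := by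
          have : Odd (p ^ n) := ((Fact.out : p.Prime).odd_of_ne_two hp).pow
          obtain ⟨r, hr⟩ := this
          omega
        rcases this with r | r <;> rw [r] <;> decide
      obtain ⟨u, hu, huu⟩ : ∃ u : Fin 3 → K, u ≠ 0 ∧ Cfsg.hermForm 3 K (p ^ n) u u = 0 := by
        obtain ⟨x, hx⟩ : ∃ x : K, x ^ (p ^ n + 1) = -1 := by
          obtain ⟨z, hz⟩ := IsCyclic.exists_generator (α := Kˣ)
          obtain ⟨i, hi⟩ := (mem_powers_iff_mem_zpowers (x := z)).2 (hz (-1))
          have hord : orderOf z = (p ^ n) ^ 2 - 1 := by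
            rw [orderOf_eq_card_of_forall_mem_zpowers hz, Nat.card_units, Nat.card_eq_fintype_card, hK]
          have h2 : (p ^ n + 1) * (p ^ n - 1) ∣ 2 * i := by
            rw [← Nat.sq_sub_sq, one_pow, ← hord]
            apply orderOf_dvd_of_pow_eq_one
            rw [pow_mul', show z ^ i = -1 from hi, neg_one_sq]
          obtain ⟨r, hr⟩ : 2 ∣ p ^ n - 1 := by
            have : Odd (p ^ n) := ((Fact.out : p.Prime).odd_of_ne_two hp).pow
            obtain ⟨r, hr⟩ := this
            omega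
          have h3 : (p ^ n + 1) ∣ i := by
            rw [hr, ← mul_assoc, mul_comm (p ^ n + 1) 2, mul_assoc] at h2
            exact Dvd.dvd.trans (Dvd.intro _ rfl) (Nat.dvd_of_mul_dvd_mul_left two_pos h2)
          obtain ⟨j, rfl⟩ := h3
          refine ⟨((z ^ j : Kˣ) : K), ?_⟩
          rw [← Units.val_pow_eq_pow_val, ← pow_mul, mul_comm, show z ^ ((p ^ n + 1) * j) = -1 from hi]
          simp
        refine ⟨![1, x, 0], fun h => one_ne_zero (congrFun h 0), ?_⟩
        simp [Cfsg.hermForm, Fin.sum_univ_three, hq, ← pow_succ', hx]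
      exact ⟨u, ⟨hu, huu⟩, by rw [hg, Matrix.one_mulVec]⟩
    · -- the last nonzero power of `g - 1`
      classical
      have hex : ∃ j, N ^ j = 0 := ⟨_, h0⟩
      obtain ⟨j, hj⟩ : ∃ j, Nat.find hex = j + 2 := by
        refine ⟨Nat.find hex - 2, ?_⟩
        have hspec := Nat.find_spec hex
        generalize hm : Nat.find hex = m at hspec ⊢
        match m, hspec with
        | 0, hs => exact absurd hs (by simp)
        | 1, hs => exact absurd (by simpa using hs) hN0
        | m + 2, _ => omega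
      obtain ⟨v, hv⟩ : ∃ v, (N ^ (j + 1)).mulVec v ≠ 0 := by
        by_contra hall
        push Not at hall
        exact Nat.find_min hex (show j + 1 < Nat.find hex by omega)
          (Matrix.ext_iff_mulVec.2 fun x => by rw [hall x, Matrix.zero_mulVec])
      have hz : N.mulVec ((N ^ (j + 1)).mulVec v) = 0 := by
        rw [Matrix.mulVec_mulVec, ← pow_succ', show j + 1 + 1 = Nat.find hex by omega, Nat.find_spec hex,
          Matrix.zero_mulVec]
      rw [hN, Matrix.sub_mulVec, Matrix.one_mulVec, sub_eq_zero, ← hN] at hz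
      refine ⟨_, ⟨hv, ?_⟩, hz⟩
      have := sub_fixed_orth (p ^ n) g ((N ^ (j + 1)).mulVec v) ((N ^ j).mulVec v) hz
      rwa [← hN, Matrix.mulVec_mulVec, ← pow_succ'] at this
  · rintro g hg u ⟨hu, huu⟩ v ⟨hv, hvv⟩ hgu hgv
    refine dependent_of_isotropic hK u v hu huu hvv ?_
    have hN := sub_one_cube (p ^ n) g u hu huu hgu hq
    -- a nonzero vector in the image of `g - 1` and its kernel is proportional to both
    obtain ⟨x, hx0, hxx, hxu, hxv⟩ : ∃ x : Fin 3 → K, x ≠ 0 ∧ Cfsg.hermForm 3 K (p ^ n) x x = 0 ∧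
        Cfsg.hermForm 3 K (p ^ n) x u = 0 ∧ Cfsg.hermForm 3 K (p ^ n) x v = 0 := by
      set N := suMat (p ^ n) g - 1 with hNd
      have hN0 : N ≠ 0 := fun r => hg (Subtype.ext (Subtype.ext (sub_eq_zero.1 r)))
      obtain ⟨y, hy, hy'⟩ : ∃ y, N.mulVec y ≠ 0 ∧ N.mulVec (N.mulVec y) = 0 := by
        obtain ⟨y, hy⟩ : ∃ y, N.mulVec y ≠ 0 := by
          by_contra hall
          push Not at hall
          exact hN0 (Matrix.ext_iff_mulVec.2 fun x => by rw [hall x, Matrix.zero_mulVec])
        by_cases h2 : N.mulVec (N.mulVec y) = 0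
        · exact ⟨y, hy, h2⟩
        · refine ⟨N.mulVec y, h2, ?_⟩
          rw [Matrix.mulVec_mulVec, Matrix.mulVec_mulVec, show N * N * N = N ^ 3 by noncomm_ring, hN,
            Matrix.zero_mulVec]
      refine ⟨_, hy, ?_, sub_fixed_orth _ g u y hgu, sub_fixed_orth _ g v y hgv⟩
      refine sub_fixed_orth _ g _ y ?_
      rwa [hNd, Matrix.sub_mulVec, Matrix.one_mulVec, sub_eq_zero, ← hNd] at hy'
    obtain ⟨a, rfl⟩ := dependent_of_isotropic hK x u hx0 hxx huu hxu
    rw [herm_smul_left, hxv, mul_zero]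
  · rintro u ⟨hu, huu⟩ g hgu
    refine ⟨1, Subtype.ext (Subtype.ext ?_)⟩
    have h := pow_eq_zero_of_le (n := p) (by
      have := (Fact.out : p.Prime).two_le; omega) (sub_one_cube (p ^ n) g u hu huu hgu hq)
    rw [sub_pow_char_of_commute (p := p) (Commute.one_right _), one_pow, sub_eq_zero, ← map_pow] at h
    rw [pow_one]
    exact h

end Cfsg.Agent.S2232
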