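import Cfsg.Statements.S2238
import Cfsg.Agent.Lib.Sz.Centralizers

set_option autoImplicit false
open Cfsg

namespace Cfsg.Agent.S2238

/-- The partition of the Suzuki group: with q = 2^(2m+1), m ≥ 1, r = 2^m and the Suzuki group realised as the stabiliser in SL₄ of the Suzuki–Tits ovoid, every non-identity element lies in exactly one subgroup that is either a Sylow 2-subgroup or a cyclic subgroup of order q − 1, q + 2r + 1 or q − 2r + 1. -/
theorem result {F : Type*} [Field F] [Fintype F] {m : ℕ} (hm : 1 ≤ m) (hF : Fintype.card F = 2 ^ (2 * m + 1)) (g : ↥(Cfsg.Sz F m)) (hg : g ≠ 1) :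
    ∃! U : Subgroup ↥(Cfsg.Sz F m), ((∃ P : Sylow 2 ↥(Cfsg.Sz F m), U = (P : Subgroup ↥(Cfsg.Sz F m))) ∨
      (IsCyclic ↥U ∧ Nat.card ↥U ∈ ({2 ^ (2 * m + 1) - 1, 2 ^ (2 * m + 1) + 2 ^ (m + 1) + 1, 2 ^ (2 * m + 1) - 2 ^ (m + 1) + 1} : Set ℕ))) ∧ g ∈ U := by
  obtain ⟨Up, Um, hpU, hnU, -, hcov⟩ := SZ.partition hm hF
  have hkind : ∀ V : Subgroup (Cfsg.Sz F m),
      ((∃ P : Sylow 2 (Cfsg.Sz F m), V = (P : Subgroup (Cfsg.Sz F m))) ∨ (IsCyclic V ∧ Nat.card V ∈
        ({2 ^ (2 * m + 1) - 1, 2 ^ (2 * m + 1) + 2 ^ (m + 1) + 1, 2 ^ (2 * m + 1) - 2 ^ (m + 1) + 1} : Set ℕ))) ↔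
      ∃ A ∈ ({SZ.uGrp hF, SZ.hGrp hF, Up, Um} : Set (Subgroup (Cfsg.Sz F m))), ∃ x,
        V = A.map (MulAut.conj x).toMonoidHom := by
    intro V
    constructor
    · rintro (⟨P, rfl⟩ | ⟨hV, hcard⟩)
      · obtain ⟨x, hx⟩ := SZ.exists_conj_eq_uGrp hm hF P
        exact ⟨_, Or.inl rfl, x, hx.symm⟩
      · obtain ⟨A, hA, x, hx⟩ := SZ.exists_conj_of_cyclic hm hF hpU hnU hcov hV hcard
        exact ⟨A, Or.inr hA, x, hx⟩
    · rintro ⟨A, hA, x, rfl⟩
      have hmap : ∀ (B : Subgroup (Cfsg.Sz F m)), IsCyclic B →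
          IsCyclic (B.map (MulAut.conj x).toMonoidHom) ∧
            Nat.card (B.map (MulAut.conj x).toMonoidHom) = Nat.card B := fun B hB => by
        haveI := hB
        exact ⟨isCyclic_of_surjective (B.equivMapOfInjective (MulAut.conj x).toMonoidHom
          (MulEquiv.injective _)).toMonoidHom (MulEquiv.surjective _),
          Subgroup.card_map_of_injective (MulEquiv.injective _)⟩
      rcases hA with rfl | rfl | rfl | rfl
      · exact Or.inl ⟨x • SZ.uSylow hm hF, rfl⟩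
      · obtain ⟨h1, h2⟩ := hmap _ (SZ.isCyclic_hGrp hF)
        exact Or.inr ⟨h1, Or.inl (by rw [h2, SZ.card_hGrp, hF])⟩
      · obtain ⟨h1, h2⟩ := hmap _ hpU.cyclic
        exact Or.inr ⟨h1, Or.inr (Or.inl (by rw [h2, hpU.card]))⟩
      · obtain ⟨h1, h2⟩ := hmap _ hnU.cyclic
        exact Or.inr ⟨h1, Or.inr (Or.inr (by rw [h2, hnU.card]; rfl))⟩
  obtain ⟨A, hA, hgA⟩ : ∃ A ∈ ({SZ.uGrp hF, SZ.hGrp hF, Up, Um} : Set (Subgroup (Cfsg.Sz F m))),
      g ∈ SZ.conjSet A := by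
    rcases hcov g hg with h | h | h | h
    exacts [⟨_, Or.inl rfl, h⟩, ⟨_, Or.inr (Or.inl rfl), h⟩, ⟨_, Or.inr (Or.inr (Or.inl rfl)), h⟩,
      ⟨_, Or.inr (Or.inr (Or.inr rfl)), h⟩]
  obtain ⟨-, x, hx⟩ := SZ.mem_conjSet_iff.1 hgA
  refine ⟨A.map (MulAut.conj x).toMonoidHom, ⟨(hkind _).2 ⟨A, hA, x, rfl⟩, hx⟩, ?_⟩
  rintro V ⟨hV, hgV⟩
  obtain ⟨B, hB, y, rfl⟩ := (hkind V).1 hV
  have hgB : g ∈ SZ.conjSet B := SZ.mem_conjSet_iff.2 ⟨hg, y, hgV⟩
  obtain ⟨c1, c2, c3, c4, c5, c6⟩ := SZ.coprime_facts hm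
  have hdisj : A ≠ B → (Nat.card A).Coprime (Nat.card B) := by
    intro hne
    rcases hA with rfl | rfl | rfl | rfl <;> rcases hB with rfl | rfl | rfl | rfl <;>
      first
        | exact absurd rfl hne
        | (simp only [SZ.card_uGrp, SZ.card_hGrp, hpU.card, hnU.card, hF]
           first
            | exact c1
            | exact c1.symm
            | exact c2
            | exact c2.symm
            | exact c3
            | exact c3.symm
            | exact c4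
            | exact c4.symm
            | exact c5
            | exact c5.symm
            | exact c6
            | exact c6.symm)
  obtain rfl : A = B := by
    by_contra hne
    exact Set.disjoint_left.1 (SZ.disjoint_conjSet (hdisj hne)) hgA hgB
  have hTI : SZ.IsTI A := by
    rcases hA with rfl | rfl | rfl | rfl
    exacts [SZ.isTI_uGrp hm hF, SZ.isTI_hGrp hm hF, SZ.isTI_of_centralizer hpU.cent,
      SZ.isTI_of_centralizer hnU.cent]
  exact SZ.eq_of_mem_conj hTI hg hgV hx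

end Cfsg.Agent.S2238
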