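import Cfsg.Statements.S2239
import Cfsg.Agent.Lib.Sz.SubfieldConj
-- import your own Cfsg.Agent.* helpers here

set_option autoImplicit false
open Cfsg

namespace Cfsg.Agent.S2239

/-- Subfield subgroups of the Suzuki group: let q = 2^(2m+1) and s = 2^(2k+1) with m, k ≥ 1 and 2k+1 dividing 2m+1 (so q is a power of s), both groups realised as stabilisers in SL₄ of the Suzuki–Tits ovoid. Then Sz(q) has a subgroup isomorphic to Sz(s), and any two subgroups of Sz(q) isomorphic to Sz(s) are conjugate. -/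
theorem result {F : Type*} [Field F] [Fintype F] {m : ℕ} (hm : 1 ≤ m) (hF : Fintype.card F = 2 ^ (2 * m + 1)) {K : Type*} [Field K] [Fintype K] {k : ℕ} (hk : 1 ≤ k) (hK : Fintype.card K = 2 ^ (2 * k + 1)) (hdiv : 2 * k + 1 ∣ 2 * m + 1) :
    (∃ S : Subgroup ↥(Cfsg.Sz F m), Nonempty (↥S ≃* ↥(Cfsg.Sz K k))) ∧
    ∀ S₁ S₂ : Subgroup ↥(Cfsg.Sz F m), Nonempty (↥S₁ ≃* ↥(Cfsg.Sz K k)) → Nonempty (↥S₂ ≃* ↥(Cfsg.Sz K k)) →
      ∃ g : ↥(Cfsg.Sz F m), S₂ = S₁.map (MulAut.conj g).toMonoidHom := by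
  obtain ⟨ι⟩ := SZ.exists_ringHom (by omega) hK hF hdiv
  obtain ⟨φ, hφinj, hφT, hφH, hφW⟩ := SZ.exists_subfieldHom hm hF hk hK hdiv ι
  refine ⟨⟨φ.range, ⟨(MonoidHom.ofInjective hφinj).symm⟩⟩, ?_⟩
  have key : ∀ S : Subgroup (Cfsg.Sz F m), Nonempty (S ≃* Cfsg.Sz K k) →
      ∃ g : Cfsg.Sz F m, S.map (MulAut.conj g).toMonoidHom = φ.range := by
    rintro S ⟨e⟩
    let ψ : Cfsg.Sz K k →* Cfsg.Sz F m := S.subtype.comp e.symm.toMonoidHom
    have hψ : Function.Injective ψ := S.subtype_injective.comp e.symm.injective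
    have hS : ψ.range = S := by
      ext z
      constructor
      · rintro ⟨x, rfl⟩
        exact (e.symm x).2
      · intro hz
        exact ⟨e ⟨z, hz⟩, congrArg Subtype.val (e.symm_apply_apply ⟨z, hz⟩)⟩
    obtain ⟨g, hU, hH, hW⟩ := SZ.exists_normalised hm hF hk hK hψ
    refine ⟨g, ?_⟩
    rw [← hS, MonoidHom.map_range]
    exact SZ.range_eq_of_normalised hm hF hk hK hdiv ι hφT hφH hφW
      (ψ := (MulAut.conj g).toMonoidHom.comp ψ) ((MulAut.conj g).injective.comp hψ) hU hH hW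
  intro S₁ S₂ h₁ h₂
  obtain ⟨g₁, hg₁⟩ := key S₁ h₁
  obtain ⟨g₂, hg₂⟩ := key S₂ h₂
  refine ⟨g₂⁻¹ * g₁, ?_⟩
  ext z
  rw [Subgroup.mem_map_equiv]
  have h : ∀ y, y ∈ S₂.map (MulAut.conj g₂).toMonoidHom ↔ y ∈ S₁.map (MulAut.conj g₁).toMonoidHom :=
    fun y => by rw [hg₁, hg₂]
  have h' := h (g₂ * z * g₂⁻¹)
  rw [Subgroup.mem_map_equiv, Subgroup.mem_map_equiv] at h'
  simp only [MulAut.conj_symm_apply] at h' ⊢
  simpa [mul_assoc] using h'

end Cfsg.Agent.S2239
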