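import Cfsg.Statements.S2240
import Cfsg.Agent.Lib.Sz.Subfield
-- import your own Cfsg.Agent.* helpers here

set_option autoImplicit false
open Cfsg

namespace Cfsg.Agent.S2240

/-- Elementary abelian TI-subgroups of the Suzuki group: let q = 2^(2m+1) with m ≥ 1, the group realised as the stabiliser in SL₄ of the Suzuki–Tits ovoid, and n ≥ 2. There is an elementary abelian 2-subgroup E of order 2^n that is a TI-subgroup (every conjugate of E meeting E nontrivially is E itself) if and only if n divides 2m + 1. -/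
theorem result {F : Type*} [Field F] [Fintype F] {m : ℕ} (hm : 1 ≤ m) (hF : Fintype.card F = 2 ^ (2 * m + 1)) (n : ℕ) (hn : 2 ≤ n) :
    (∃ E : Subgroup ↥(Cfsg.Sz F m), Cfsg.IsElementaryAbelian 2 E ∧ Nat.card ↥E = 2 ^ n ∧
      ∀ x : ↥(Cfsg.Sz F m), E ⊓ E.map (MulAut.conj x).toMonoidHom ≠ ⊥ → x ∈ Subgroup.normalizer (E : Set ↥(Cfsg.Sz F m))) ↔ n ∣ 2 * m + 1 := by
  haveI : Fact (Nat.Prime 2) := ⟨Nat.prime_two⟩
  constructor
  · rintro ⟨E, hE, hcard, hTI⟩
    -- move `E` into the standard Sylow subgroup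
    obtain ⟨P, hP⟩ := (IsPGroup.of_card (n := n) hcard).exists_le_sylow
    obtain ⟨g, hg⟩ := SZ.exists_conj_eq_uGrp hm hF P
    have hU : ∀ e ∈ E, ∃ a, g⁻¹ * e * g = SZ.tS hF 0 a := by
      intro e he
      obtain ⟨y, hy, hye⟩ : e ∈ (SZ.uGrp hF).map (MulAut.conj g).toMonoidHom := hg ▸ hP he
      obtain ⟨a, b, rfl⟩ := (SZ.mem_uGrp hF).1 hy
      change g * SZ.tS hF a b * g⁻¹ = e at hye
      have hy2 : SZ.tS hF a b * SZ.tS hF a b = 1 := by
        have h2 := hE.2 e he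
        rw [← hye, sq] at h2
        calc _ = g⁻¹ * ((g * SZ.tS hF a b * g⁻¹) * (g * SZ.tS hF a b * g⁻¹)) * g := by group
          _ = 1 := by rw [h2]; group
      rw [SZ.tS_sq] at hy2
      obtain ⟨-, h0⟩ := SZ.T_inj ((congrArg Subtype.val hy2).trans (SZ.T_zero (m := m)).symm)
      obtain rfl : a = 0 := (mul_eq_zero.1 h0).elim (fun h => SZ.th_eq_zero.1 h) id
      exact ⟨b, by rw [← hye]; group⟩
    set A : Set F := {a | g * SZ.tS hF 0 a * g⁻¹ ∈ E} with hA
    have h1 : SZ.tS hF (0 : F) 0 = 1 := Subtype.ext SZ.T_zero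
    have hinj : Function.Injective fun a : F => g * SZ.tS hF 0 a * g⁻¹ := fun a b h =>
      (SZ.T_inj (congrArg Subtype.val (mul_left_cancel (mul_right_cancel h)))).2
    have hAcard : Nat.card A = 2 ^ n := by
      rw [← hcard]
      refine Nat.card_eq_of_bijective (fun a => ⟨g * SZ.tS hF 0 a.1 * g⁻¹, a.2⟩)
        ⟨fun a b h => Subtype.ext (hinj (congrArg Subtype.val h)), fun e => ?_⟩
      obtain ⟨a, ha⟩ := hU e.1 e.2
      have : g * SZ.tS hF 0 a * g⁻¹ = e.1 := by rw [← ha]; group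
      exact ⟨⟨a, by show _ ∈ E; rw [this]; exact e.2⟩, Subtype.ext this⟩
    -- ratios of non-zero parameters preserve `A`
    have hscale : ∀ a0 ∈ A, a0 ≠ 0 → ∀ a ∈ A, a ≠ 0 → ∀ b ∈ A, a / a0 * b ∈ A := by
      intro a0 ha0 ha0' a ha ha' b hb
      obtain ⟨y, hy⟩ := SZ.exists_th_eq hF (a / a0)
      have hy0 : y ≠ 0 := fun e => by
        rw [e, SZ.th_zero, eq_comm, div_eq_zero_iff] at hy
        exact hy.elim ha' ha0'
      set u := Units.mk0 y hy0
      set x := g * SZ.hS hF u * g⁻¹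
      have hx : ∀ c : F, x * (g * SZ.tS hF 0 c * g⁻¹) * x⁻¹ = g * SZ.tS hF 0 (a / a0 * c) * g⁻¹ := by
        intro c
        have e : SZ.hS hF u * SZ.tS hF 0 c * (SZ.hS hF u)⁻¹ = SZ.tS hF 0 (a / a0 * c) := by
          rw [SZ.hS_conj_tS, mul_zero]
          congr 2
        rw [← e]
        simp only [x]
        group
      have hxn : x ∈ Subgroup.normalizer (E : Set (Cfsg.Sz F m)) := by
        refine hTI x fun hbot => ?_
        have hmem : g * SZ.tS hF 0 a * g⁻¹ ∈ E ⊓ E.map (MulAut.conj x).toMonoidHom := by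
          refine ⟨ha, g * SZ.tS hF 0 a0 * g⁻¹, ha0, ?_⟩
          show x * _ * x⁻¹ = _
          rw [hx, div_mul_cancel₀ _ ha0']
        rw [hbot, Subgroup.mem_bot] at hmem
        exact ha' (hinj (hmem.trans (by show 1 = g * SZ.tS hF 0 0 * g⁻¹; rw [h1]; group)))
      show g * SZ.tS hF 0 (a / a0 * b) * g⁻¹ ∈ E
      rw [← hx]
      exact (Subgroup.mem_normalizer_iff.1 hxn _).1 hb
    -- the stabiliser of `A` in the multiplicative group is regular on `A \ {0}`
    let L : Subgroup Fˣ :=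
      { carrier := {l | ∀ b, b ∈ A ↔ (l : F) * b ∈ A}
        mul_mem' := fun {l l'} hl hl' b => by rw [Units.val_mul, mul_assoc]; exact (hl' b).trans (hl _)
        one_mem' := fun b => by rw [Units.val_one, one_mul]
        inv_mem' := fun {l} hl b => by
          rw [hl ((l⁻¹ : Fˣ) * b), ← mul_assoc, ← Units.val_mul, mul_inv_cancel, Units.val_one, one_mul] }
    have hA0 : (0 : F) ∈ A := by show _ ∈ E; rw [h1, mul_one, mul_inv_cancel]; exact one_mem _
    obtain ⟨a0, ha0, ha0'⟩ : ∃ a ∈ A, a ≠ (0 : F) := by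
      by_contra hne
      push Not at hne
      have : A = {0} := Set.eq_singleton_iff_unique_mem.2 ⟨hA0, hne⟩
      rw [this] at hAcard
      simp at hAcard
      have : 2 ^ 2 ≤ 2 ^ n := Nat.pow_le_pow_right (by norm_num) hn
      omega
    have hL : Nat.card L = 2 ^ n - 1 := by
      have hs : Nat.card ↥(A \ {0}) = 2 ^ n - 1 := by
        rw [Nat.card_coe_set_eq, Set.ncard_diff (by simpa using hA0) (Set.toFinite _),
          Set.ncard_singleton, ← Nat.card_coe_set_eq, hAcard]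
      rw [← hs]
      refine Nat.card_eq_of_bijective (fun l => ⟨(l.1 : F) * a0, (l.2 a0).1 ha0, by simp [ha0']⟩)
        ⟨fun l l' h => Subtype.ext (Units.ext (mul_right_cancel₀ ha0' (congrArg Subtype.val h))), ?_⟩
      rintro ⟨a, ha, ha'⟩
      have ha' : a ≠ 0 := by simpa using ha'
      have hmem : ∀ b, b ∈ A ↔ a / a0 * b ∈ A := fun b =>
        ⟨hscale a0 ha0 ha0' a ha ha' b, fun h => by
          have := hscale a ha ha' a0 ha0 ha0' _ h
          rwa [show a0 / a * (a / a0 * b) = b by field_simp] at this⟩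
      exact ⟨⟨Units.mk0 (a / a0) (div_ne_zero ha' ha0'), hmem⟩, Subtype.ext (div_mul_cancel₀ _ ha0')⟩
    have hdvd : 2 ^ n - 1 ∣ 2 ^ (2 * m + 1) - 1 := by
      rw [← hL, ← hF, ← Nat.card_eq_fintype_card, ← Nat.card_units]
      exact L.card_subgroup_dvd_card
    have hgcd := Nat.pow_sub_one_gcd_pow_sub_one 2 n (2 * m + 1)
    rw [Nat.gcd_eq_left hdvd] at hgcd
    have hp : ∀ j, 1 ≤ 2 ^ j := fun j => Nat.one_le_two_pow
    have h3 : 2 ^ n = 2 ^ n.gcd (2 * m + 1) := by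
      have := hp n; have := hp (n.gcd (2 * m + 1)); omega
    rw [Nat.pow_right_injective le_rfl h3]
    exact Nat.gcd_dvd_right _ _
  · intro hdiv
    haveI : Fintype (GaloisField 2 n) := Fintype.ofFinite _
    have hK : Fintype.card (GaloisField 2 n) = 2 ^ n := by
      rw [← Nat.card_eq_fintype_card, GaloisField.card 2 n (by omega)]
    obtain ⟨ι⟩ := SZ.exists_ringHom (by omega) hK hF hdiv
    let φ : Multiplicative (GaloisField 2 n) →* Cfsg.Sz F m :=
      (SZ.uGrp hF).subtype.comp ((SZ.zHom hF).comp (AddMonoidHom.toMultiplicative ι.toAddMonoidHom))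
    have hφ : ∀ c, φ c = SZ.tS hF 0 (ι c.toAdd) := fun c => rfl
    have hφinj : Function.Injective φ := fun c d h => by
      rw [hφ, hφ] at h
      exact Multiplicative.toAdd.injective (ι.injective (SZ.T_inj (congrArg Subtype.val h)).2)
    refine ⟨φ.range, ⟨inferInstance, ?_⟩, ?_, ?_⟩
    · rintro _ ⟨c, rfl⟩
      rw [sq, hφ, SZ.tS_sq, mul_zero]
      exact Subtype.ext SZ.T_zero
    · rw [Nat.card_congr (MonoidHom.ofInjective hφinj).toEquiv.symm, Nat.card_eq_fintype_card,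
        Fintype.card_multiplicative, hK]
    · intro x hx
      obtain ⟨⟨e, ⟨c, hc⟩, ⟨_, ⟨d, rfl⟩, hd⟩⟩, he'⟩ := Subgroup.ne_bot_iff_exists_ne_one.1 hx
      have he : e ≠ 1 := fun h => he' (Subtype.ext h)
      change x * φ d * x⁻¹ = _ at hd
      have hd1 : φ d ≠ 1 := fun e' => he (by rw [← hd, e', mul_one, mul_inv_cancel])
      have hdU : φ d ∈ SZ.uGrp hF := (SZ.mem_uGrp hF).2 ⟨0, _, (hφ d).symm⟩
      have hxU := SZ.isTI_uGrp hm hF x _ hdU hd1 (by
        rw [hd, ← hc, hφ]; exact (SZ.mem_uGrp hF).2 ⟨_, _, rfl⟩)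
      rw [SZ.normalizer_uGrp hm hF] at hxU
      obtain ⟨a, b, u, rfl⟩ := SZ.stab_eq hm hF hxU
      have hconj : ∀ r : F, (SZ.tS hF a b * SZ.hS hF u) * SZ.tS hF 0 r * (SZ.tS hF a b * SZ.hS hF u)⁻¹ =
          SZ.tS hF 0 (SZ.th m (u : F) * r) := by
        intro r
        have e1 : SZ.tS hF a b * SZ.tS hF 0 (SZ.th m (u : F) * r) =
            SZ.tS hF 0 (SZ.th m (u : F) * r) * SZ.tS hF a b := (SZ.tS_comm_iff hF _ _ _ _).2 (by simp)
        calc _ = SZ.tS hF a b * (SZ.hS hF u * SZ.tS hF 0 r * (SZ.hS hF u)⁻¹) * (SZ.tS hF a b)⁻¹ := by group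
          _ = _ := by rw [SZ.hS_conj_tS, mul_zero, e1, mul_inv_cancel_right]
      rw [hφ, hconj, ← hc, hφ] at hd
      have hth : SZ.th m (u : F) * ι d.toAdd = ι c.toAdd := (SZ.T_inj (congrArg Subtype.val hd)).2
      have hd0 : d.toAdd ≠ 0 := fun e' => hd1 (by rw [hφ, e', map_zero]; exact Subtype.ext SZ.T_zero)
      have hk : SZ.th m (u : F) = ι (c.toAdd / d.toAdd) := by
        rw [map_div₀, eq_div_iff ((map_ne_zero ι).2 hd0), hth]
      have hk0 : c.toAdd / d.toAdd ≠ 0 := fun e' => by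
        rw [e', map_zero, SZ.th_eq_zero] at hk
        exact u.ne_zero hk
      rw [Subgroup.mem_normalizer_iff]
      intro z
      constructor
      · rintro ⟨r, rfl⟩
        exact ⟨Multiplicative.ofAdd (c.toAdd / d.toAdd * r.toAdd), by
          rw [hφ, hφ, hconj, toAdd_ofAdd, map_mul, ← hk]⟩
      · rintro ⟨r, hr⟩
        refine ⟨Multiplicative.ofAdd (r.toAdd / (c.toAdd / d.toAdd)), ?_⟩
        apply mul_left_cancel (a := SZ.tS hF a b * SZ.hS hF u)
        apply mul_right_cancel (b := (SZ.tS hF a b * SZ.hS hF u)⁻¹)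
        rw [← hr, hφ, hφ, hconj, toAdd_ofAdd, hk, ← map_mul, mul_div_cancel₀ _ hk0]


end Cfsg.Agent.S2240
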