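import Cfsg.Statements.S2241
import Cfsg.Agent.Lib.Sz.Sylow

set_option autoImplicit false
open Cfsg

namespace Cfsg.Agent.S2241

/-- Real 2-elements of the Suzuki group: with q = 2^(2m+1), m ≥ 1, and the group realised as the stabiliser in SL₄ of the Suzuki–Tits ovoid, a non-identity element of a Sylow 2-subgroup is conjugate to its inverse if and only if it is an involution; in particular no element of order 4 is conjugate to its inverse. -/
theorem result {F : Type*} [Field F] [Fintype F] {m : ℕ} (hm : 1 ≤ m) (hF : Fintype.card F = 2 ^ (2 * m + 1)) (P : Sylow 2 ↥(Cfsg.Sz F m)) (g : ↥(Cfsg.Sz F m)) (hg : g ∈ (P : Subgroup ↥(Cfsg.Sz F m))) (h1 : g ≠ 1) :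
    IsConj g g⁻¹ ↔ orderOf g = 2 := by
  constructor
  · intro hc
    obtain ⟨y, hy⟩ := SZ.exists_conj_eq_uGrp hm hF P
    rw [← hy] at hg
    obtain ⟨g0, hg0, rfl⟩ := hg
    obtain ⟨a, b, rfl⟩ := (SZ.mem_uGrp hF).1 hg0
    change IsConj (y * SZ.tS hF a b * y⁻¹) (y * SZ.tS hF a b * y⁻¹)⁻¹ at hc
    rw [orderOf_injective (MulAut.conj y).toMonoidHom (MulAut.conj y).injective]
    have hne : SZ.tS hF a b ≠ 1 := fun e => h1 (by simp [e])
    by_cases ha : a = 0
    · refine orderOf_eq_prime ?_ hne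
      rw [pow_two, SZ.tS_sq, ha, mul_zero]
      exact Subtype.ext SZ.T_zero
    · exfalso
      obtain ⟨c, hc⟩ := isConj_iff.1 hc
      set x := y⁻¹ * c * y with hx
      have hxc : x * SZ.tS hF a b = SZ.tS hF a (b + SZ.th m a * a) * x := by
        have e : (SZ.tS hF a b)⁻¹ = SZ.tS hF a (b + SZ.th m a * a) := Subtype.ext (SZ.T_inv hF a b)
        rw [← e, hx]
        rw [← mul_inv_eq_iff_eq_mul]
        calc y⁻¹ * c * y * SZ.tS hF a b * (y⁻¹ * c * y)⁻¹
            = y⁻¹ * (c * (y * SZ.tS hF a b * y⁻¹) * c⁻¹) * y := by group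
          _ = (SZ.tS hF a b)⁻¹ := by rw [hc]; group
      have hxinf : x.1 • suzukiPointInfinity F = suzukiPointInfinity F := by
        by_contra hne'
        obtain ⟨p, q, hpq⟩ := (SZ.mem_ovoid_iff.1 (SZ.smul_mem x.2 SZ.inf_mem)).resolve_left hne'
        have := congrArg (fun g : ↥(Cfsg.Sz F m) => g.1 • suzukiPointInfinity F) hxc
        simp only [Subgroup.coe_mul, mul_smul] at this
        change x.1 • SZ.T m a b • _ = SZ.T m a _ • x.1 • _ at this
        rw [SZ.T_smul_inf, hpq, SZ.T_smul_aff hF] at this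
        exact ha (by linear_combination -(SZ.aff_inj this).1)
      obtain ⟨r, s, u, hu⟩ := SZ.stab_eq hm hF (g := x) hxinf
      rw [hu, mul_assoc, ← mul_inv_eq_iff_eq_mul] at hxc
      have hxc' : SZ.tS hF r s * (SZ.hS hF u * SZ.tS hF a b * (SZ.hS hF u)⁻¹) * (SZ.tS hF r s)⁻¹ =
          SZ.tS hF a (b + SZ.th m a * a) := by
        rw [← hxc]; group
      rw [SZ.hS_conj_tS, mul_inv_eq_iff_eq_mul] at hxc'
      obtain ⟨e1, e2⟩ := SZ.T_inj (((SZ.T_mul hF _ _ _ _).symm.trans
        (congrArg Subtype.val hxc')).trans (SZ.T_mul hF _ _ _ _))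
      have hk : (u : F) ^ 2 / SZ.th m (u : F) = 1 := by
        refine mul_right_cancel₀ ha (?_ : _ * a = 1 * a)
        linear_combination e1
      obtain rfl : u = 1 := by
        rw [div_eq_one_iff_eq (fun e => u.ne_zero (SZ.th_eq_zero.1 e))] at hk
        exact Units.ext (SZ.th_eq_sq hF hk.symm u.ne_zero)
      simp at e2
      have hr : SZ.th m (r / a) + r / a = 1 := by
        have hta : SZ.th m a ≠ 0 := fun e => ha (SZ.th_eq_zero.1 e)
        rw [SZ.th_div]
        field_simp
        linear_combination e2 + (SZ.th m a * r) * SZ.two_zero hF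
      set t := r / a
      have h2 := congrArg (SZ.th m) hr
      rw [SZ.th_add hF, SZ.th_th hF, SZ.th_one] at h2
      have h3 : t * (t + 1) = 0 := by linear_combination h2 - hr + t * SZ.two_zero hF
      rcases mul_eq_zero.1 h3 with h | h
      · rw [h] at hr; simp at hr
      · have ht : t = 1 := by linear_combination h - SZ.two_zero hF
        rw [ht, SZ.th_one] at hr
        exact zero_ne_one (α := F) (by linear_combination hr - SZ.two_zero hF)
  · intro h
    have : g⁻¹ = g := inv_eq_of_mul_eq_one_right (by rw [← pow_two, ← h, pow_orderOf_eq_one])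
    rw [this]

end Cfsg.Agent.S2241
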