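import Cfsg.Statements.S2244
import Cfsg.Agent.Lib.Chev.WeaklyClosedCerts
import Cfsg.Agent.Lib.Chev.Seven

set_option autoImplicit false
open Cfsg

namespace Cfsg.Agent.S2244

/-- Weakly closed unipotent subgroups of Chevalley groups: let G be the Chevalley group of type G₂, B₂, D₄, F₄, E₆, E₇ or E₈ over a finite field F (the matrix group generated by the root elements), with |F| ≠ 2, and |F| ≠ 3 as well for the types G₂, B₂, D₄, F₄. Let U be the subgroup generated by the positive root subgroups. If X ≤ U is weakly closed in U with respect to G (every G-conjugate of X lying in U equals X), then X is the unipotent radical U_J of a standard parabolic subgroup for some set J of fundamental roots. -/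
theorem result {F : Type*} [Field F] [Fintype F] (D : Cfsg.Lie.ChevalleyDatum) (hD : D ∈ [Cfsg.Lie.chevG2, Cfsg.Lie.chevB2, Cfsg.Lie.chevD4, Cfsg.Lie.chevF4, Cfsg.Lie.chevE6, Cfsg.Lie.chevE7, Cfsg.Lie.chevE8])
    (h2 : Fintype.card F ≠ 2) (h3 : D ∈ [Cfsg.Lie.chevG2, Cfsg.Lie.chevB2, Cfsg.Lie.chevD4, Cfsg.Lie.chevF4] → Fintype.card F ≠ 3)
    (X : Subgroup (GL D.Idx F)) (hXU : X ≤ D.posUnipotent F)
    (hwc : ∀ g ∈ D.group F, X.map (MulAut.conj g).toMonoidHom ≤ D.posUnipotent F → X.map (MulAut.conj g).toMonoidHom = X) :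
    ∃ J : Set ℕ, (∀ j ∈ J, j < D.rank) ∧ X = D.unipotentRadical F J := by
  classical
  have hG := Cfsg.Agent.Chev.good_of_mem hD
  obtain ⟨tabs, simps, hf⟩ := Cfsg.Agent.Chev.BNSetup.exists_facts hD
  obtain ⟨k, M, hk, hM⟩ := Cfsg.Agent.Chev.BNSetup.exists_rootCerts hD
  obtain ⟨d, B, hB⟩ := Cfsg.Agent.Chev.BNSetup.exists_paraFact hD
  have hn := Cfsg.Agent.Chev.BNSetup.negTri_of_mem hD
  have hq1 : 1 < Fintype.card F := Fintype.one_lt_card
  rw [← Cfsg.Agent.Chev.BNSetup.data_U hG hf] at hXU hwc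
  by_cases hG2 : D = Cfsg.Lie.chevG2
  · subst hG2
    have := h3 (by simp)
    have hq : 2 < Fintype.card F - 1 := by omega
    obtain ⟨g, hg⟩ := Cfsg.Agent.Chev.BNSetup.exists_zpow_ne_one (F := F) hq
    have hμ : (g : F) ^ 2 ≠ 1 := fun h => hg 2 (by omega) (by omega)
      (by rw [zpow_ofNat]; exact Units.ext (by rw [Units.val_pow_eq_pow_val, h, Units.val_one]))
    exact Cfsg.Agent.Chev.BNSetup.weaklyClosed_eq hG hf hn hM hB hk Cfsg.Agent.Chev.BNSetup.pairTwo_chevG2
      (fun Y hY hBY i hi => Cfsg.Agent.Chev.BNSetup.g2_hasRoot_simple hG hf hn hq hY hBY i hi)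
      (fun Y hBY J hs => Cfsg.Agent.Chev.BNSetup.g2_hasRoot_gen hG hf g.ne_zero hμ hBY J hs) hXU hwc
  · obtain ⟨e, he, hsep, hword, hpair⟩ := Cfsg.Agent.Chev.BNSetup.exists_wcFacts
      ((List.mem_cons.1 hD).resolve_left hG2)
    have hq : e < Fintype.card F - 1 := by
      rcases he with rfl | ⟨rfl, hmem⟩
      · omega
      · have := h3 hmem
        omega
    obtain ⟨g, hg⟩ := Cfsg.Agent.Chev.BNSetup.exists_zpow_ne_one (F := F) hq
    have hμ : (g : F) ≠ 1 := fun h => hg 1 one_ne_zero (by rcases he with rfl | ⟨rfl, -⟩ <;> simp)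
      (by rw [zpow_one]; exact Units.ext h)
    exact Cfsg.Agent.Chev.BNSetup.weaklyClosed_eq hG hf hn hM hB hk hpair
      (fun Y hY hBY i hi => Cfsg.Agent.Chev.BNSetup.hasRoot_simple hG hf hn hY hBY i hi hq
        fun s h1 h2 h3' => hsep i.val i.2 s h2 h1 h3')
      (fun Y hBY J hs => Cfsg.Agent.Chev.BNSetup.hasRoot_of_wordFact hG hf hk hword hBY g.ne_zero hμ hs) hXU hwc

end Cfsg.Agent.S2244
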