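import Cfsg.Statements.S2245
import Cfsg.Agent.Lib.SylowMax.Forward
import Cfsg.Agent.Lib.SylowMax.Converse

set_option autoImplicit false
open Cfsg

namespace Cfsg.Agent.S2245

open Cfsg.Agent.SylowMax in
theorem main {n : ℕ} (G : Subgroup (Equiv.Perm (Fin n))) (hA : alternatingGroup (Fin n) ≤ G)
    (hn : 5 ≤ n) (h6 : n ≠ 6) (R : Sylow 2 G) :
    (∃! M : Subgroup G, IsCoatom M ∧ (R : Subgroup G) ≤ M) ↔ ∃ k : ℕ, 2 ≤ k ∧ n = 2 ^ k + 1 := by
  refine ⟨fun hu => ?_, fun ⟨k, hk, hnk⟩ => unique_of_two_pow_add_one G hA hk hnk R⟩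
  by_contra hne
  exact not_unique G hA hn h6 (fun k hk hnk => hne ⟨k, hk, hnk⟩) R hu

/-- For n ≥ 5 with n ≠ 6, a Sylow 2-subgroup of the alternating group A_n lies in exactly one maximal subgroup of A_n if and only if n = 2^k + 1 for some k ≥ 2; the same holds for the symmetric group S_n. -/
theorem result (n : ℕ) (hn : 5 ≤ n) (h6 : n ≠ 6) :
    ((∀ R : Sylow 2 ↥(alternatingGroup (Fin n)), (∃! M : Subgroup ↥(alternatingGroup (Fin n)), IsCoatom M ∧ (R : Subgroup ↥(alternatingGroup (Fin n))) ≤ M) ↔ ∃ k : ℕ, 2 ≤ k ∧ n = 2 ^ k + 1) ∧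
    (∀ R : Sylow 2 (Equiv.Perm (Fin n)), (∃! M : Subgroup (Equiv.Perm (Fin n)), IsCoatom M ∧ (R : Subgroup (Equiv.Perm (Fin n))) ≤ M) ↔ ∃ k : ℕ, 2 ≤ k ∧ n = 2 ^ k + 1)) := by
  refine ⟨fun R => main _ le_rfl hn h6 R, fun R => ?_⟩
  let e : (⊤ : Subgroup (Equiv.Perm (Fin n))) ≃* Equiv.Perm (Fin n) := Subgroup.topEquiv
  let R' : Sylow 2 (⊤ : Subgroup (Equiv.Perm (Fin n))) :=
    Sylow.ofCard ((R : Subgroup (Equiv.Perm (Fin n))).map e.symm.toMonoidHom) (by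
      rw [Nat.card_congr ((R : Subgroup (Equiv.Perm (Fin n))).equivMapOfInjective e.symm.toMonoidHom
        e.symm.injective).toEquiv.symm, R.card_eq_multiplicity, Nat.card_congr e.toEquiv])
  have h : (R : Subgroup (Equiv.Perm (Fin n))) = (R' : Subgroup _).map e.toMonoidHom := by
    ext x
    simp [R']
  rw [h, Cfsg.Agent.SylowMax.unique_iff_of_equiv e]
  exact main ⊤ le_top hn h6 R'

end Cfsg.Agent.S2245
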