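import Cfsg.Statements.S2247
import Cfsg.Agent.Lib.Sz.Sylow

set_option autoImplicit false
open Cfsg

namespace Cfsg.Agent.S2247

/-- In the Suzuki group with q = 2^(2m+1), m ≥ 1 (realised as the stabiliser in SL₄ of the Suzuki–Tits ovoid), the normalizer of a Sylow 2-subgroup P is a maximal subgroup and is the only maximal subgroup containing P. -/
theorem result {F : Type*} [Field F] [Fintype F] {m : ℕ} (hm : 1 ≤ m) (hF : Fintype.card F = 2 ^ (2 * m + 1)) (P : Sylow 2 ↥(Cfsg.Sz F m)) :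
    IsCoatom (Subgroup.normalizer ((P : Subgroup ↥(Cfsg.Sz F m)) : Set ↥(Cfsg.Sz F m))) ∧
    ∀ M : Subgroup ↥(Cfsg.Sz F m), IsCoatom M → (P : Subgroup ↥(Cfsg.Sz F m)) ≤ M → M = Subgroup.normalizer ((P : Subgroup ↥(Cfsg.Sz F m)) : Set ↥(Cfsg.Sz F m)) := by
  obtain ⟨y, hy⟩ := SZ.exists_conj_eq_uGrp hm hF P
  haveI := SZ.isSimple hm hF
  set B := MulAction.stabilizer (Cfsg.Sz F m) (suzukiPointInfinity F) with hB
  have hBN : Subgroup.normalizer (SZ.uGrp hF : Set (Cfsg.Sz F m)) = B := SZ.normalizer_uGrp hm hF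
  have key : ∀ M : Subgroup (Cfsg.Sz F m), SZ.uGrp hF ≤ M → M ≤ B ∨ M = ⊤ := by
    intro M hM
    by_cases h : M ≤ B
    · exact Or.inl h
    right
    obtain ⟨k, hk, hkB⟩ := SetLike.not_le_iff_exists.1 h
    have hk' : k.1 • suzukiPointInfinity F ≠ suzukiPointInfinity F := hkB
    have htr : ∀ g : Cfsg.Sz F m, ∃ z ∈ M, z.1 • suzukiPointInfinity F = g.1 • suzukiPointInfinity F := by
      intro g
      by_cases hg : g.1 • suzukiPointInfinity F = suzukiPointInfinity F
      · exact ⟨1, M.one_mem, by rw [hg, OneMemClass.coe_one, one_smul]⟩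
      · obtain ⟨s, hs, -⟩ := SZ.uGrp_regular hF (SZ.smul_mem k.2 SZ.inf_mem)
          (SZ.smul_mem g.2 SZ.inf_mem) hk' hg
        exact ⟨s.1 * k, M.mul_mem (hM s.2) hk, by rw [Subgroup.coe_mul, mul_smul]; exact hs⟩
    have hle : Subgroup.normalClosure (SZ.uGrp hF : Set (Cfsg.Sz F m)) ≤ M := by
      rw [Subgroup.normalClosure]
      refine (Subgroup.closure_le M).2 ?_
      intro x hx
      obtain ⟨u, hu, hc⟩ := Group.mem_conjugatesOfSet_iff.1 hx
      obtain ⟨c, rfl⟩ := isConj_iff.1 hc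
      obtain ⟨z, hz, hze⟩ := htr c
      have hzc : z⁻¹ * c ∈ B := by
        show (z⁻¹ * c).1 • suzukiPointInfinity F = suzukiPointInfinity F
        rw [Subgroup.coe_mul, InvMemClass.coe_inv, mul_smul, ← hze, inv_smul_smul]
      rw [← hBN] at hzc
      have h1 := M.mul_mem (M.mul_mem hz (hM ((Subgroup.mem_normalizer_iff.1 hzc u).1 hu))) (M.inv_mem hz)
      simpa [mul_assoc] using h1
    rcases (Subgroup.normalClosure_normal (s := (SZ.uGrp hF : Set (Cfsg.Sz F m)))).eq_bot_or_eq_top with h' | h'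
    · exfalso
      have hmem : SZ.tS hF 0 1 ∈ Subgroup.normalClosure (SZ.uGrp hF : Set (Cfsg.Sz F m)) :=
        Subgroup.subset_normalClosure ((SZ.mem_uGrp hF).2 ⟨0, 1, rfl⟩)
      rw [h', Subgroup.mem_bot] at hmem
      exact one_ne_zero (α := F) (SZ.T_inj ((congrArg Subtype.val hmem).trans SZ.T_zero.symm)).2
    · exact top_le_iff.1 (h' ▸ hle)
  have hcoB : IsCoatom B := by
    refine ⟨fun h => ?_, fun M hM => ?_⟩
    · have := h ▸ Subgroup.mem_top (SZ.wS hF)
      change (SZ.W : Matrix.SpecialLinearGroup (Fin 4) F) • suzukiPointInfinity F = suzukiPointInfinity F at this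
      rw [SZ.W_smul_inf, SZ.zero_eq_aff (m := m)] at this
      exact SZ.aff_ne_inf 0 0 this
    · rcases key M ((SZ.uGrp_le_stab hF).trans hM.le) with h | h
      · exact absurd h (not_le_of_gt hM)
      · exact h
  set c := MulAut.conj y with hc
  have hmapN : Subgroup.normalizer ((P : Subgroup (Cfsg.Sz F m)) : Set (Cfsg.Sz F m)) = B.map c.toMonoidHom := by
    rw [← hy, ← hBN]
    exact (Subgroup.map_normalizer_eq_of_bijective (SZ.uGrp hF) (f := c.toMonoidHom) c.bijective).symm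
  rw [hmapN]
  refine ⟨?_, fun M hM hPM => ?_⟩
  · exact (c.mapSubgroup.isCoatom_iff B).2 hcoB
  · have h1 : IsCoatom (c.mapSubgroup.symm M) := (c.mapSubgroup.symm.isCoatom_iff M).2 hM
    have hMe : M = (c.mapSubgroup.symm M).map c.toMonoidHom := (c.mapSubgroup.apply_symm_apply M).symm
    have h2 : SZ.uGrp hF ≤ c.mapSubgroup.symm M := by
      rw [← c.mapSubgroup.le_iff_le, OrderIso.apply_symm_apply]
      exact hy.trans_le hPM
    rcases key _ h2 with h | h
    · rw [hMe]
      congr 1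
      exact (h1.le_iff_eq hcoB.1).1 h |>.symm
    · exact absurd h h1.1

end Cfsg.Agent.S2247
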