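import Cfsg.Statements.S2254
import Cfsg.Agent.Lib.NilpPerm.Extremal

set_option autoImplicit false
open Cfsg

namespace Cfsg.Agent.S2254

/-- Let n ≡ 3 (mod 4). Then every nilpotent subgroup of the symmetric group on n letters has order at most 3 times the order of a Sylow 2-subgroup of the symmetric group on n − 3 letters; the bound is attained by a nilpotent subgroup isomorphic to the direct product of such a Sylow 2-subgroup with a cyclic group of order 3; and any two nilpotent subgroups attaining the bound are conjugate. -/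
theorem result  (n : ℕ) (hn : n % 4 = 3)
    (P : Sylow 2 (Equiv.Perm (Fin (n - 3)))) :
    (∀ N : Subgroup (Equiv.Perm (Fin n)), Group.IsNilpotent N → Nat.card N ≤ 3 * Nat.card P) ∧
    (∃ M : Subgroup (Equiv.Perm (Fin n)), Group.IsNilpotent M ∧ Nat.card M = 3 * Nat.card P ∧
      Nonempty (M ≃* (↥(P : Subgroup (Equiv.Perm (Fin (n - 3)))) × Multiplicative (ZMod 3)))) ∧
    (∀ N₁ N₂ : Subgroup (Equiv.Perm (Fin n)), Group.IsNilpotent N₁ → Group.IsNilpotent N₂ →
      Nat.card N₁ = 3 * Nat.card P → Nat.card N₂ = 3 * Nat.card P →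
      ∃ g : Equiv.Perm (Fin n), N₂ = N₁.map (MulAut.conj g).toMonoidHom) := by
  classical
  haveI := Fact.mk Nat.prime_two
  have hP : Nat.card P = NilpPerm.T (n - 3) := by
    rw [NilpPerm.card_sylow_perm P, Nat.card_fin]
  refine ⟨fun N hN => ?_, ?_, fun N₁ N₂ h₁ h₂ hc₁ hc₂ => ?_⟩
  · have h := NilpPerm.card_le_g (Fin n) N hN
    rw [Nat.card_fin, NilpPerm.g, if_pos hn] at h
    omega
  · obtain ⟨f, hf, -⟩ := NilpPerm.exists_embedding (n := n) (by omega)
    let φ := f.comp ((P : Subgroup (Equiv.Perm (Fin (n - 3)))).subtype.prodMap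
      (MonoidHom.id (Multiplicative (ZMod 3))))
    have hφ : Function.Injective φ :=
      hf.comp (Function.Injective.prodMap (Subgroup.subtype_injective _) Function.injective_id)
    exact ⟨φ.range, NilpPerm.range_spec P.isPGroup' φ hφ⟩
  · obtain ⟨x, hx⟩ : ∃ x, Nat.card P = 2 ^ x := P.isPGroup'.exists_card_eq
    rw [hx] at hc₁ hc₂
    have hT : NilpPerm.T (Nat.card (Fin n) - 3) ≤ 2 * 2 ^ x := by
      rw [Nat.card_fin]; omega
    obtain ⟨c₁, hm₁, ht₁, hz₁⟩ :=
      NilpPerm.exists_central_three_cycle (by rw [Nat.card_fin]; exact hn) N₁ hc₁ hT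
    obtain ⟨c₂, hm₂, ht₂, hz₂⟩ :=
      NilpPerm.exists_central_three_cycle (by rw [Nat.card_fin]; exact hn) N₂ hc₂ hT
    refine NilpPerm.conj_of_central (Equiv.Perm.isConj_iff_cycleType_eq.2 (ht₁.trans ht₂.symm))
      ht₂.orderOf ?_ N₁ N₂ hm₁ hm₂ hz₁ hz₂ hc₁ hc₂
    rw [NilpPerm.factorization_centralizer ht₂, Nat.card_fin]
    exact Nat.pow_right_injective le_rfl (hP.symm.trans hx)

end Cfsg.Agent.S2254
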