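import Cfsg.Statements.S2255
import Cfsg.Agent.Lib.NilpPerm.Sylow

set_option autoImplicit false
open Cfsg

namespace Cfsg.Agent.S2255

/-- Let n be a natural number not congruent to 3 modulo 4, with n ∉ {5, 6, 9}. Then every nilpotent subgroup of the alternating group on n letters has order at most the order of a Sylow 2-subgroup of the alternating group (so the nilpotent subgroups of largest order are exactly the Sylow 2-subgroups). -/
theorem result  (n : ℕ) (hn : n % 4 ≠ 3)
    (h5 : n ≠ 5) (h6 : n ≠ 6) (h9 : n ≠ 9)
    (N : Subgroup (alternatingGroup (Fin n))) (hN : Group.IsNilpotent N)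
    (P : Sylow 2 (alternatingGroup (Fin n))) :
    Nat.card N ≤ Nat.card P := by
  classical
  rcases Nat.lt_or_ge n 2 with h1 | h2
  · haveI : Subsingleton (Fin n) := Fin.subsingleton_iff_le_one.2 (by omega)
    haveI : Subsingleton N := ⟨fun a b => Subtype.ext (Subtype.ext (Subsingleton.elim _ _))⟩
    rw [Nat.card_of_subsingleton (1 : N)]
    exact Nat.card_pos
  haveI := NilpPerm.isNilpotent_map_alt N
  have h := NilpPerm.two_mul_card_le_g (N.map (alternatingGroup (Fin n)).subtype)
    (Subgroup.map_subtype_le N)
  rw [Subgroup.card_map_of_injective (alternatingGroup (Fin n)).subtype_injective, Nat.card_fin,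
    NilpPerm.g_of_ne hn] at h
  have hP := NilpPerm.two_mul_card_sylow_alt (α := Fin n) (by rw [Nat.card_fin]; omega) P
  rw [Nat.card_fin] at hP
  have := h h2 (by omega) h5 h6 h9
  omega

end Cfsg.Agent.S2255
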