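import Cfsg.Statements.S2256
import Cfsg.Agent.Lib.NilpPerm.Extremal

set_option autoImplicit false
open Cfsg

namespace Cfsg.Agent.S2256

/-- Let n ≡ 3 (mod 4) with n ≥ 7. Then every nilpotent subgroup of the alternating group on n letters has order at most 3 times the order of a Sylow 2-subgroup of the alternating group on n − 3 letters; the bound is attained by a nilpotent subgroup isomorphic to the direct product of such a Sylow 2-subgroup with a cyclic group of order 3; and any two nilpotent subgroups of the alternating group attaining the bound are conjugate in it. -/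
theorem result  (n : ℕ) (hn : n % 4 = 3) (h7 : 7 ≤ n)
    (P : Sylow 2 (alternatingGroup (Fin (n - 3)))) :
    (∀ N : Subgroup (alternatingGroup (Fin n)), Group.IsNilpotent N → Nat.card N ≤ 3 * Nat.card P) ∧
    (∃ M : Subgroup (alternatingGroup (Fin n)), Group.IsNilpotent M ∧ Nat.card M = 3 * Nat.card P ∧
      Nonempty (M ≃* (↥(P : Subgroup (alternatingGroup (Fin (n - 3)))) × Multiplicative (ZMod 3)))) ∧
    (∀ N₁ N₂ : Subgroup (alternatingGroup (Fin n)), Group.IsNilpotent N₁ → Group.IsNilpotent N₂ →
      Nat.card N₁ = 3 * Nat.card P → Nat.card N₂ = 3 * Nat.card P →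
      ∃ g : alternatingGroup (Fin n), N₂ = N₁.map (MulAut.conj g).toMonoidHom) := by
  classical
  haveI := Fact.mk Nat.prime_two
  have hP : 2 * Nat.card P = NilpPerm.T (n - 3) := by
    have h := NilpPerm.two_mul_card_sylow_alt (by rw [Nat.card_fin]; omega) P
    rwa [Nat.card_fin] at h
  refine ⟨fun N hN => ?_, ?_, fun N₁ N₂ h₁ h₂ hc₁ hc₂ => ?_⟩
  · haveI := NilpPerm.isNilpotent_map_alt N
    have h := NilpPerm.two_mul_card_le_g (N.map (alternatingGroup (Fin n)).subtype)
      (Subgroup.map_subtype_le N)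
    rw [Subgroup.card_map_of_injective (alternatingGroup (Fin n)).subtype_injective, Nat.card_fin,
      NilpPerm.g, if_pos hn] at h
    have := h (by omega) (by omega) (by omega) (by omega) (by omega)
    omega
  · obtain ⟨f, hf, hsign⟩ := NilpPerm.exists_embedding (n := n) (by omega)
    let φ₀ := f.comp (((alternatingGroup (Fin (n - 3))).subtype.comp
      (P : Subgroup (alternatingGroup (Fin (n - 3)))).subtype).prodMap
      (MonoidHom.id (Multiplicative (ZMod 3))))
    have hφ₀ : Function.Injective φ₀ :=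
      hf.comp (Function.Injective.prodMap
        (Subtype.val_injective.comp Subtype.val_injective) Function.injective_id)
    have hmem : ∀ u, φ₀ u ∈ alternatingGroup (Fin n) := fun u => by
      rw [Equiv.Perm.mem_alternatingGroup]
      exact (hsign _ _).trans (Equiv.Perm.mem_alternatingGroup.1 u.1.1.2)
    let φ := φ₀.codRestrict (alternatingGroup (Fin n)) hmem
    have hφ : Function.Injective φ := fun a b h => hφ₀ (congrArg Subtype.val h)
    exact ⟨φ.range, NilpPerm.range_spec P.isPGroup' φ hφ⟩
  · obtain ⟨x, hx⟩ : ∃ x, Nat.card P = 2 ^ x := P.isPGroup'.exists_card_eq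
    rw [hx] at hc₁ hc₂
    have hT : NilpPerm.T (Nat.card (Fin n) - 3) ≤ 2 * 2 ^ x := by
      rw [Nat.card_fin]; omega
    have key : ∀ N : Subgroup (alternatingGroup (Fin n)), Group.IsNilpotent N →
        Nat.card N = 3 * 2 ^ x → ∃ c ∈ N, (c : Equiv.Perm (Fin n)).IsThreeCycle ∧
          ∀ a ∈ N, a * c = c * a := by
      intro N hN hc
      haveI := NilpPerm.isNilpotent_map_alt N
      obtain ⟨-, ⟨c, hm, rfl⟩, ht, hz⟩ := NilpPerm.exists_central_three_cycle
        (by rw [Nat.card_fin]; exact hn) (N.map (alternatingGroup (Fin n)).subtype)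
        (by rw [Subgroup.card_map_of_injective (alternatingGroup (Fin n)).subtype_injective, hc]) hT
      exact ⟨c, hm, ht, fun a ha => Subtype.ext (hz _ ⟨a, ha, rfl⟩)⟩
    obtain ⟨c₁, hm₁, ht₁, hz₁⟩ := key N₁ h₁ hc₁
    obtain ⟨c₂, hm₂, ht₂, hz₂⟩ := key N₂ h₂ hc₂
    refine NilpPerm.conj_of_central
      (alternatingGroup.isThreeCycle_isConj (by rw [Nat.card_fin]; omega) ht₁ ht₂)
      (by rw [← Subgroup.orderOf_coe]; exact ht₂.orderOf) ?_ N₁ N₂ hm₁ hm₂ hz₁ hz₂ hc₁ hc₂
    have h := NilpPerm.factorization_centralizer_alt (by rw [Nat.card_fin]; omega) ht₂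
    rw [Nat.card_fin] at h
    have h2 : 2 ^ (x + 1) = NilpPerm.T (n - 3) := by rw [pow_succ, mul_comm, ← hx, hP]
    have h3 := Nat.pow_right_injective le_rfl h2
    omega

end Cfsg.Agent.S2256
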