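import Cfsg.Statements.S2257
import Cfsg.Agent.Lib.Solubilizer.PSL2
import Cfsg.Agent.Lib.PSL2.MaximalClassify

set_option autoImplicit false
open Cfsg
open scoped MatrixGroups

namespace Cfsg.Agent.S2257

/-- Let G = PSL_2(F) with F a field of order q = 2^p, p prime, and for x ∈ G call the solubilizer of x the set of y ∈ G such that x and y generate a solvable subgroup. Then the solubilizer of an involution has 3q(q − 1) elements; that of a non-identity element of order dividing q − 1 has 2q(q − 1) elements; and that of a non-identity element of order dividing q + 1 has 2(q + 1) elements. -/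
theorem result (p : ℕ) (hp : p.Prime) {F : Type*} [Field F] [Fintype F]
    (hF : Fintype.card F = 2 ^ p) (x : Matrix.ProjectiveSpecialLinearGroup (Fin 2) F) :
    (orderOf x = 2 → Nat.card {y : Matrix.ProjectiveSpecialLinearGroup (Fin 2) F // Group.IsSolvable ↥(Subgroup.closure ({x, y} : Set (Matrix.ProjectiveSpecialLinearGroup (Fin 2) F)))} = 3 * 2 ^ p * (2 ^ p - 1)) ∧
    (x ≠ 1 → orderOf x ∣ 2 ^ p - 1 → Nat.card {y : Matrix.ProjectiveSpecialLinearGroup (Fin 2) F // Group.IsSolvable ↥(Subgroup.closure ({x, y} : Set (Matrix.ProjectiveSpecialLinearGroup (Fin 2) F)))} = 2 * 2 ^ p * (2 ^ p - 1)) ∧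
    (x ≠ 1 → orderOf x ∣ 2 ^ p + 1 → Nat.card {y : Matrix.ProjectiveSpecialLinearGroup (Fin 2) F // Group.IsSolvable ↥(Subgroup.closure ({x, y} : Set (Matrix.ProjectiveSpecialLinearGroup (Fin 2) F)))} = 2 * (2 ^ p + 1)) := by
  open PSL2 Solubilizer in
  classical
  have : Fact (Nat.Prime 2) := ⟨Nat.prime_two⟩
  have : CharP F 2 := Maximal.charP_of_card_pow 2 hF
  have hev : Even (Fintype.card F) := hF ▸ (even_two.pow_of_ne_zero hp.ne_zero)
  have h2 : (2 : F) = 0 := even_card_iff.1 hev
  obtain ⟨j, hj⟩ := hev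
  have hq := one_lt_q (F := F)
  have hgcd : Nat.gcd 2 (Fintype.card F - 1) = 1 :=
    Nat.Coprime.gcd_eq_one ((Nat.prime_two.coprime_iff_not_dvd).2 (by omega))
  rw [← hF]
  refine ⟨fun h => ?_, fun hx h => ?_, fun hx h => ?_⟩
  · have hx : x ≠ 1 := fun e => by rw [e, orderOf_one] at h; omega
    rcases psl_cases hx with ⟨g, rfl, h4⟩ | ⟨k, s, hs, rfl⟩
    · exfalso
      have hd := Subgroup.orderOf_dvd_natCard _
        (Subgroup.mem_map_of_mem mk (mem_cent.2 (Commute.refl g)))
      rw [h] at hd
      rcases Maximal.card_torus_psl h4 with e | e <;> rw [hgcd, Nat.div_one] at e <;>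
        rw [e] at hd <;> omega
    · refine Eq.trans ?_ (sol_uu_even h2 hs)
      rw [← card_rel_map (MulAut.conj (mk k)) (mk (uu s)), MulAut.conj_apply, ← map_inv, ← map_mul,
        ← map_mul]
      rfl
  · have h1 : orderOf x ≠ 1 := fun e => hx (orderOf_eq_one_iff.1 e)
    have h0 := orderOf_pos x
    have h3 : 3 ≤ orderOf x := by
      by_contra hc
      rw [show orderOf x = 2 by omega] at h
      omega
    have := (sol_semisimple 2 h3 (Or.inl h2)).1 h
    rw [hgcd, one_mul] at this
    exact this
  · have h1 : orderOf x ≠ 1 := fun e => hx (orderOf_eq_one_iff.1 e)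
    have h0 := orderOf_pos x
    have h3 : 3 ≤ orderOf x := by
      by_contra hc
      rw [show orderOf x = 2 by omega] at h
      omega
    have := (sol_semisimple 2 h3 (Or.inl h2)).2 h
    rw [hgcd, one_mul] at this
    exact this

end Cfsg.Agent.S2257
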