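import Cfsg.Statements.S2258
import Cfsg.Agent.Lib.Solubilizer.PSL2
import Cfsg.Agent.Lib.PSL2.MaximalClassify

set_option autoImplicit false
open Cfsg
open scoped MatrixGroups

namespace Cfsg.Agent.S2258

/-- Let G = PSL_2(F) with F a field of order q = 3^p, p an odd prime, and for x ∈ G call the solubilizer of x the set of y ∈ G such that x and y generate a solvable subgroup. Then the solubilizer of an involution has q(q + 1) elements; that of an element of order 3 has q(q + 5)/2 elements; that of an element of order neither 1 nor 2 dividing q − 1 has q(q − 1) elements; and that of an element of order neither 1 nor 2 dividing q + 1 has q + 1 elements. -/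
theorem result (p : ℕ) (hp : p.Prime) (hodd : Odd p) {F : Type*} [Field F] [Fintype F]
    (hF : Fintype.card F = 3 ^ p) (x : Matrix.ProjectiveSpecialLinearGroup (Fin 2) F) :
    (orderOf x = 2 → Nat.card {y : Matrix.ProjectiveSpecialLinearGroup (Fin 2) F // Group.IsSolvable ↥(Subgroup.closure ({x, y} : Set (Matrix.ProjectiveSpecialLinearGroup (Fin 2) F)))} = 3 ^ p * (3 ^ p + 1)) ∧
    (orderOf x = 3 → 2 * Nat.card {y : Matrix.ProjectiveSpecialLinearGroup (Fin 2) F // Group.IsSolvable ↥(Subgroup.closure ({x, y} : Set (Matrix.ProjectiveSpecialLinearGroup (Fin 2) F)))} = 3 ^ p * (3 ^ p + 5)) ∧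
    (x ≠ 1 → orderOf x ≠ 2 → orderOf x ∣ 3 ^ p - 1 → Nat.card {y : Matrix.ProjectiveSpecialLinearGroup (Fin 2) F // Group.IsSolvable ↥(Subgroup.closure ({x, y} : Set (Matrix.ProjectiveSpecialLinearGroup (Fin 2) F)))} = 3 ^ p * (3 ^ p - 1)) ∧
    (x ≠ 1 → orderOf x ≠ 2 → orderOf x ∣ 3 ^ p + 1 → Nat.card {y : Matrix.ProjectiveSpecialLinearGroup (Fin 2) F // Group.IsSolvable ↥(Subgroup.closure ({x, y} : Set (Matrix.ProjectiveSpecialLinearGroup (Fin 2) F)))} = 3 ^ p + 1) := by
  open PSL2 Solubilizer in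
  classical
  have : Fact (Nat.Prime 3) := ⟨Nat.prime_three⟩
  have : CharP F 3 := Maximal.charP_of_card_pow 3 hF
  obtain ⟨j, hj⟩ := hodd
  have h8 : Fintype.card F % 8 = 3 := by
    rw [hF, hj, pow_succ, pow_mul, Nat.mul_mod, Nat.pow_mod]
    norm_num
  have h3 : 3 ∣ Fintype.card F := hF ▸ dvd_pow_self 3 hp.ne_zero
  have hq := one_lt_q (F := F)
  have hgcd : Nat.gcd 2 (Fintype.card F - 1) = 2 := Nat.gcd_eq_left (by omega)
  rw [← hF]
  refine ⟨fun h => ?_, fun h => ?_, fun hx hx2 h => ?_, fun hx hx2 h => ?_⟩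
  · have hw : orderOf (mk (ww : SL(2, F))) = 2 := by
      refine orderOf_mk_eq_two (by simp [tr_def]) (fun hc => ?_)
      have := (mem_center_iff_entries.1 hc).2.1
      simp at this
    obtain ⟨c, hc⟩ := isConj_iff.1 (psl_involutions_isConj hw h)
    refine Eq.trans ?_ (sol_ww_three h8 h3)
    rw [← card_rel_map (MulAut.conj c) (mk (ww : SL(2, F))), MulAut.conj_apply, hc]
    rfl
  · have hx : x ≠ 1 := fun e => by rw [e, orderOf_one] at h; omega
    rcases psl_cases hx with ⟨g, rfl, h4⟩ | ⟨k, s, hs, rfl⟩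
    · exfalso
      have hd := Subgroup.orderOf_dvd_natCard _
        (Subgroup.mem_map_of_mem mk (mem_cent.2 (Commute.refl g)))
      rw [h] at hd
      rcases Maximal.card_torus_psl h4 with e | e <;> rw [hgcd] at e <;>
        rw [e] at hd <;> omega
    · refine Eq.trans ?_ (sol_uu_three h8 h3 hs)
      rw [← card_rel_map (MulAut.conj (mk k)) (mk (uu s)), MulAut.conj_apply, ← map_inv, ← map_mul,
        ← map_mul]
      rfl
  all_goals
    have h1 : orderOf x ≠ 1 := fun e => hx (orderOf_eq_one_iff.1 e)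
    have h0 := orderOf_pos x
    have h24 : ¬ orderOf x ∣ 24 := by
      intro hd
      have ho := psl_orderOf_dvd 3 x
      rw [hgcd] at ho
      have hmem : orderOf x ∈ Nat.divisors 24 := Nat.mem_divisors.2 ⟨hd, by norm_num⟩
      rw [show Nat.divisors 24 = {1, 2, 3, 4, 6, 8, 12, 24} by decide] at hmem
      simp only [Finset.mem_insert, Finset.mem_singleton] at hmem
      rcases hmem with e | e | e | e | e | e | e | e <;> rw [e] at ho h h1 hx2 <;> omega
  · have := (sol_semisimple 3 (by omega) (Or.inr h24)).1 h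
    rw [hgcd, mul_assoc] at this
    exact mul_left_cancel₀ two_ne_zero this
  · have := (sol_semisimple 3 (by omega) (Or.inr h24)).2 h
    rw [hgcd] at this
    exact mul_left_cancel₀ two_ne_zero this

end Cfsg.Agent.S2258
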