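import Cfsg.Statements.S2259
import Cfsg.Agent.Lib.Sz.SolubilizerEven
import Cfsg.Agent.Lib.Sz.Lie
-- import your own Cfsg.Agent.* helpers here

set_option autoImplicit false
open Cfsg

namespace Cfsg.Agent.S2259

/-- Let G be the Suzuki group Sz(q), q = 2^(2m+1) with 2m + 1 prime and m ≥ 1, realised inside Sp_4(F) for F the field of order q, write r = 2^(m+1) (so r² = 2q), and for x ∈ G call the solubilizer of x the set of y ∈ G such that x and y generate a solvable subgroup. Then the solubilizer of an involution has q²(4q − 3) elements; that of an element of order 4 has q²(q + 3) elements; that of a non-identity element of order dividing q − 1 has 2q²(q − 1) elements; that of a non-identity element of order dividing q + r + 1 has 4(q + r + 1) elements; and that of a non-identity element of order dividing q − r + 1 has 4(q − r + 1) elements. -/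
theorem result {F : Type*} [Field F] [Fintype F] {m : ℕ} (hm : 1 ≤ m)
    (hp : (2 * m + 1).Prime) (hF : Fintype.card F = 2 ^ (2 * m + 1)) (x : ↥(Cfsg.Lie.Sz F (2 ^ (m + 1)))) :
    (orderOf x = 2 → Nat.card {y : ↥(Cfsg.Lie.Sz F (2 ^ (m + 1))) // Group.IsSolvable ↥(Subgroup.closure ({x, y} : Set (↥(Cfsg.Lie.Sz F (2 ^ (m + 1))))))} = (2 ^ (2 * m + 1)) ^ 2 * (4 * 2 ^ (2 * m + 1) - 3)) ∧
    (orderOf x = 4 → Nat.card {y : ↥(Cfsg.Lie.Sz F (2 ^ (m + 1))) // Group.IsSolvable ↥(Subgroup.closure ({x, y} : Set (↥(Cfsg.Lie.Sz F (2 ^ (m + 1))))))} = (2 ^ (2 * m + 1)) ^ 2 * (2 ^ (2 * m + 1) + 3)) ∧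
    (x ≠ 1 → orderOf x ∣ 2 ^ (2 * m + 1) - 1 →
      Nat.card {y : ↥(Cfsg.Lie.Sz F (2 ^ (m + 1))) // Group.IsSolvable ↥(Subgroup.closure ({x, y} : Set (↥(Cfsg.Lie.Sz F (2 ^ (m + 1))))))} = 2 * (2 ^ (2 * m + 1)) ^ 2 * (2 ^ (2 * m + 1) - 1)) ∧
    (x ≠ 1 → orderOf x ∣ 2 ^ (2 * m + 1) + 2 ^ (m + 1) + 1 → Nat.card {y : ↥(Cfsg.Lie.Sz F (2 ^ (m + 1))) // Group.IsSolvable ↥(Subgroup.closure ({x, y} : Set (↥(Cfsg.Lie.Sz F (2 ^ (m + 1))))))} = 4 * (2 ^ (2 * m + 1) + 2 ^ (m + 1) + 1)) ∧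
    (x ≠ 1 → orderOf x ∣ 2 ^ (2 * m + 1) - 2 ^ (m + 1) + 1 → Nat.card {y : ↥(Cfsg.Lie.Sz F (2 ^ (m + 1))) // Group.IsSolvable ↥(Subgroup.closure ({x, y} : Set (↥(Cfsg.Lie.Sz F (2 ^ (m + 1))))))} = 4 * (2 ^ (2 * m + 1) - 2 ^ (m + 1) + 1)) := by
  let e := SZ.szEquiv hm hF
  obtain ⟨y, rfl⟩ := e.surjective x
  have hcount : Nat.card {z : ↥(Cfsg.Lie.Sz F (2 ^ (m + 1))) //
      Group.IsSolvable ↥(Subgroup.closure ({e y, z} : Set (↥(Cfsg.Lie.Sz F (2 ^ (m + 1))))))} =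
      (SZ.solSet y).ncard := by
    rw [← SZ.ncard_solSet_map e y, ← Nat.card_coe_set_eq]
    rfl
  rw [hcount]
  simp only [ne_eq, EmbeddingLike.map_eq_one_iff, MulEquiv.orderOf_eq]
  refine ⟨SZ.ncard_solSet_two hm hp hF, SZ.ncard_solSet_four hm hp hF, fun hy hd => ?_,
    fun hy hd => SZ.ncard_solSet_anisotropic hm hp hF hy (Or.inl rfl) hd,
    fun hy hd => SZ.ncard_solSet_anisotropic hm hp hF hy (Or.inr rfl) hd⟩
  obtain ⟨Up, Um, hU, hV, -, hcov⟩ := SZ.partition hm hF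
  obtain ⟨c1, c2, c3, c4, c5, c6⟩ := SZ.coprime_facts hm
  have hA : y ∈ SZ.conjSet (SZ.hGrp hF) := by
    have hne : ∀ A : Subgroup (Cfsg.Sz F m), y ∈ SZ.conjSet A →
        ¬ (2 ^ (2 * m + 1) - 1).Coprime (Nat.card A) := by
      intro A hA hc
      obtain ⟨-, g, hg⟩ := SZ.mem_conjSet_iff.1 hA
      exact hy (orderOf_eq_one_iff.1 (Nat.eq_one_of_dvd_coprimes hc hd (SZ.orderOf_dvd_of_mem_conj hg)))
    rcases hcov y hy with h | h | h | h
    · exact absurd (by rw [SZ.card_uGrp, hF]; exact c1.symm) (hne _ h)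
    · exact h
    · exact absurd (by rw [hU.card]; exact c4) (hne _ h)
    · exact absurd (by rw [hV.card]; exact c5) (hne _ h)
  obtain ⟨-, g, ⟨u, hu⟩⟩ := hA
  have hy' : y = g * SZ.hS hF u * g⁻¹ := by
    have hu' : SZ.hS hF u = g⁻¹ * y * g := hu
    rw [hu']; group
  rw [hy', SZ.ncard_solSet_conj]
  exact SZ.ncard_solSet_hS hm hp hF (fun h => hy (by rw [hy', h, mul_one, mul_inv_cancel]))

end Cfsg.Agent.S2259
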