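import Cfsg.Statements.S2260
-- import your own Cfsg.Agent.* helpers here

set_option autoImplicit false
open Cfsg

namespace Cfsg.Agent.S2260

theorem sub_one_pow_eq_zero {F : Type*} [Field F] (d : ℕ) (u : Matrix (Fin d) (Fin d) F)
    (h : IsNilpotent u) : u ^ d = 0 := by
  have h1 : IsNilpotent (Matrix.toLin' u) := h.map (Matrix.toLinAlgEquiv' (R := F))
  have h2 := LinearMap.aeval_self_charpoly (Matrix.toLin' u)
  rw [h1.charpoly_eq_X_pow_finrank, map_pow, Polynomial.aeval_X, Module.finrank_fin_fun] at h2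
  rw [← Matrix.toLin'_pow] at h2
  exact Matrix.toLin'.map_eq_zero_iff.mp h2


/-- Let F be a finite field of prime characteristic p and u an invertible d × d matrix over F with u − 1 nilpotent (a unipotent element). Then the order of u is at most p^⌈log_p d⌉; and if moreover (u − 1)^(d−1) ≠ 0 (u is a single Jordan block) then the order of u is exactly p^⌈log_p d⌉. -/
theorem result {F : Type*} [Field F] [Finite F] (p : ℕ) [Fact p.Prime] [CharP F p] (d : ℕ)
    (u : GL (Fin d) F) (hu : IsNilpotent ((u : Matrix (Fin d) (Fin d) F) - 1)) :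
    orderOf u ≤ p ^ Nat.clog p d ∧
    (((u : Matrix (Fin d) (Fin d) F) - 1) ^ (d - 1) ≠ 0 → orderOf u = p ^ Nat.clog p d) := by
  set M : Matrix (Fin d) (Fin d) F := (u : Matrix (Fin d) (Fin d) F) with hM
  have hd0 : (M - 1) ^ d = 0 := sub_one_pow_eq_zero d _ hu
  by_cases hd : d = 0
  · subst hd
    have : u = 1 := Units.ext (Subsingleton.elim _ _)
    simp [this]
  have : NeZero d := ⟨hd⟩
  have hcomm : Commute M (1 : Matrix (Fin d) (Fin d) F) := Commute.one_right _
  have hpw : ∀ k : ℕ, (M - 1) ^ p ^ k = M ^ p ^ k - 1 := fun k => by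
    rw [sub_pow_char_pow_of_commute p k hcomm, one_pow]
  have hk : u ^ p ^ Nat.clog p d = 1 := by
    apply Units.ext
    rw [Units.val_pow_eq_pow_val, Units.val_one, ← sub_eq_zero, ← hM, ← hpw]
    exact pow_eq_zero_of_le (Nat.le_pow_clog (Fact.out : p.Prime).one_lt d) hd0
  have hdvd := orderOf_dvd_of_pow_eq_one hk
  refine ⟨Nat.le_of_dvd (pow_pos (Fact.out : p.Prime).pos _) hdvd, fun hne => ?_⟩
  obtain ⟨j, hj, hj'⟩ := (Nat.dvd_prime_pow (Fact.out : p.Prime)).mp hdvd
  rw [hj']
  refine congrArg (p ^ ·) (le_antisymm hj ?_)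
  rw [Nat.clog_le_iff_le_pow (Fact.out : p.Prime).one_lt]
  by_contra hlt
  apply hne
  refine pow_eq_zero_of_le (show p ^ j ≤ d - 1 by omega) ?_
  rw [hpw, hM, ← Units.val_pow_eq_pow_val, ← hj', pow_orderOf_eq_one, Units.val_one, sub_self]

end Cfsg.Agent.S2260
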