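import Cfsg.Statements.S2261
-- import your own Cfsg.Agent.* helpers here

set_option autoImplicit false
open Cfsg

namespace Cfsg.Agent.S2261

open Polynomial in
/-- The scalar multiples of powers of `g` lie in a space of dimension at most `d`. -/
theorem card_le {F : Type*} [Field F] [Fintype F] (d : ℕ) (hd : 1 ≤ d)
    (g : GL (Fin d) F) :
    (Fintype.card F - 1) * orderOf (QuotientGroup.mk g : GL (Fin d) F ⧸ Subgroup.center (GL (Fin d) F))
      ≤ Fintype.card F ^ d - 1 := by
  classical
  have : Nonempty (Fin d) := ⟨⟨0, hd⟩⟩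
  set o := orderOf (QuotientGroup.mk g : GL (Fin d) F ⧸ Subgroup.center (GL (Fin d) F)) with ho
  let M : Matrix (Fin d) (Fin d) F := (g : Matrix (Fin d) (Fin d) F)
  let ev : (Fin d → F) → Matrix (Fin d) (Fin d) F := fun v => ∑ i, v i • M ^ (i : ℕ)
  have hrange : ∀ (k : ℕ) (c : F), ∃ v, ev v = c • M ^ k := by
    intro k c
    refine ⟨fun i => c * (X ^ k %ₘ M.charpoly).coeff i, ?_⟩
    rw [Matrix.pow_eq_aeval_mod_charpoly, Polynomial.aeval_eq_sum_range' (n := d) ?_, Finset.smul_sum]
    · simp only [ev, mul_smul]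
      rw [Fin.sum_univ_eq_sum_range (fun i => c • (X ^ k %ₘ M.charpoly).coeff i • M ^ i) d]
    · by_cases h0 : X ^ k %ₘ M.charpoly = 0
      · simp [h0]; omega
      · rw [Polynomial.natDegree_lt_iff_degree_lt h0]
        refine (Polynomial.degree_modByMonic_lt _ M.charpoly_monic).trans_eq ?_
        rw [Matrix.charpoly_degree_eq_dim, Fintype.card_fin]
  choose v hv using hrange
  let ψ : Fin o × {c : F // c ≠ 0} → {w : Fin d → F // w ≠ 0} := fun x =>
    ⟨v x.1 x.2.1, fun h => by
      have hh := hv x.1 x.2.1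
      rw [h] at hh
      simp only [ev, Pi.zero_apply, zero_smul, Finset.sum_const_zero] at hh
      have hu : IsUnit (M ^ (x.1 : ℕ)) := ⟨g ^ (x.1 : ℕ), by simp [M]⟩
      exact hu.ne_zero ((smul_eq_zero.mp hh.symm).resolve_left x.2.2)⟩
  have key : ∀ (k l : ℕ) (c c' : F), k ≤ l → l < o → c ≠ 0 → c' ≠ 0 → c • M ^ k = c' • M ^ l →
      k = l ∧ c = c' := by
    intro k l c c' hkl hl hc hc' h
    obtain ⟨m, rfl⟩ := Nat.exists_eq_add_of_le hkl
    have hu : IsUnit (M ^ k) := ⟨g ^ k, by simp [M]⟩
    have h2 : c • (1 : Matrix (Fin d) (Fin d) F) = c' • M ^ m := by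
      apply hu.mul_left_cancel
      rw [mul_smul_comm, mul_one, mul_smul_comm, ← pow_add]
      exact h
    have hM : M ^ m = (c'⁻¹ * c) • (1 : Matrix (Fin d) (Fin d) F) := by
      rw [mul_smul, h2, inv_smul_smul₀ hc']
    have hcen : g ^ m ∈ Subgroup.center (GL (Fin d) F) := by
      rw [Subgroup.mem_center_iff]
      intro x
      apply Units.ext
      rw [Units.val_mul, Units.val_mul, Units.val_pow_eq_pow_val]
      change _ * M ^ m = M ^ m * _
      rw [hM]
      simp
    have hm : o ∣ m := by
      apply orderOf_dvd_of_pow_eq_one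
      rw [← QuotientGroup.mk_pow, QuotientGroup.eq_one_iff]
      exact hcen
    have hm0 : m = 0 := Nat.eq_zero_of_dvd_of_lt hm (by omega)
    subst hm0
    refine ⟨rfl, ?_⟩
    rw [pow_zero] at h2
    simpa using congrFun (congrFun h2 ⟨0, hd⟩) ⟨0, hd⟩
  have hinj : Function.Injective ψ := by
    rintro ⟨k, c⟩ ⟨l, c'⟩ h
    have h' : c.1 • M ^ (k : ℕ) = c'.1 • M ^ (l : ℕ) := by
      rw [← hv, ← hv]; exact congrArg ev (congrArg Subtype.val h)
    rcases le_total (k : ℕ) (l : ℕ) with hkl | hkl
    · obtain ⟨e1, e2⟩ := key _ _ _ _ hkl l.2 c.2 c'.2 h'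
      exact Prod.ext (Fin.ext e1) (Subtype.ext e2)
    · obtain ⟨e1, e2⟩ := key _ _ _ _ hkl k.2 c'.2 c.2 h'.symm
      exact Prod.ext (Fin.ext e1.symm) (Subtype.ext e2.symm)
  have := Fintype.card_le_of_injective ψ hinj
  rw [Fintype.card_prod, Fintype.card_fin] at this
  simp only [Fintype.card_subtype_compl, Fintype.card_subtype_eq, Fintype.card_fun,
    Fintype.card_fin] at this
  rwa [mul_comm]

/-- Let F be a finite field with q elements and d ≥ 1. Then every element of PGL_d(F) = GL_d(F)/Z has order at most (q^d − 1)/(q − 1), and some element (the image of a Singer cycle) has exactly this order. -/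
theorem result {F : Type*} [Field F] [Fintype F] (d : ℕ) (hd : 1 ≤ d) :
    (∀ g : (GL (Fin d) F ⧸ Subgroup.center (GL (Fin d) F)), (Fintype.card F - 1) * orderOf g ≤ Fintype.card F ^ d - 1) ∧
    (∃ g : (GL (Fin d) F ⧸ Subgroup.center (GL (Fin d) F)), (Fintype.card F - 1) * orderOf g = Fintype.card F ^ d - 1) := by
  refine ⟨fun g => ?_, ?_⟩
  · induction g using QuotientGroup.induction_on with
    | H g => exact card_le d hd g
  classical
  obtain ⟨p, hp⟩ := CharP.exists F
  have : Fact p.Prime := ⟨CharP.char_is_prime F p⟩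
  have : NeZero d := ⟨by omega⟩
  let K := FiniteField.Extension F p d
  have : Fintype K := Fintype.ofFinite K
  let b : Module.Basis (Fin d) F K :=
    Module.finBasisOfFinrankEq F K (FiniteField.finrank_extension F p d)
  have hcard : Fintype.card K = Fintype.card F ^ d := by
    have := FiniteField.natCard_extension F p d
    rwa [Nat.card_eq_fintype_card, Nat.card_eq_fintype_card] at this
  obtain ⟨x, hx⟩ := IsCyclic.exists_generator (α := Kˣ)
  let φ := Algebra.leftMulMatrix b
  have hφ : Function.Injective φ := Algebra.leftMulMatrix_injective b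
  let g : GL (Fin d) F := Units.map φ.toRingHom.toMonoidHom x
  refine ⟨QuotientGroup.mk g, le_antisymm (card_le d hd g) ?_⟩
  set o := orderOf (QuotientGroup.mk g : GL (Fin d) F ⧸ Subgroup.center (GL (Fin d) F)) with ho
  have hopos : 0 < o := orderOf_pos _
  have hcen : g ^ o ∈ Subgroup.center (GL (Fin d) F) := by
    rw [← QuotientGroup.eq_one_iff, QuotientGroup.mk_pow]
    exact pow_orderOf_eq_one _
  rw [Matrix.GeneralLinearGroup.center_eq_range_scalar] at hcen
  obtain ⟨c, hc⟩ := hcen
  have hxc : ((x : K) ^ o) = algebraMap F K (c : F) := by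
    apply hφ
    have h := congrArg Units.val hc.symm
    rw [Units.val_pow_eq_pow_val] at h
    rw [map_pow, AlgHom.commutes]
    refine h.trans ?_
    simp [Matrix.GeneralLinearGroup.scalar, Matrix.algebraMap_eq_diagonal, Pi.algebraMap_def]
  have h1 : x ^ (o * (Fintype.card F - 1)) = 1 := by
    apply Units.ext
    rw [Units.val_pow_eq_pow_val, pow_mul, hxc, ← map_pow,
      FiniteField.pow_card_sub_one_eq_one (c : F) c.ne_zero, map_one, Units.val_one]
  have h2 := orderOf_dvd_of_pow_eq_one h1
  rw [orderOf_eq_card_of_forall_mem_zpowers hx, Nat.card_eq_fintype_card, Fintype.card_units, hcard,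
    mul_comm] at h2
  exact Nat.le_of_dvd (Nat.mul_pos (by have := Fintype.one_lt_card (α := F); omega) hopos) h2

end Cfsg.Agent.S2261
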