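import Cfsg.Statements.S2263
import Cfsg.Agent.Lib.GL.UnitaryMaxMain
-- import your own Cfsg.Agent.* helpers here

set_option autoImplicit false
open Cfsg

namespace Cfsg.Agent.S2263

/-- Let q = p^f with p prime and f ≥ 1, F a field with q² elements, d ≥ 3 with (d, q) ≠ (3, 2), and PGU_d(q) the general unitary group of the standard Hermitian form modulo its centre. Then the largest order of an element of PGU_d(q) is: q^(d−1) − 1 if d is odd and f ≥ 2; (p^(d−2) + 1)p if d is odd and f = 1; q^(d−1) + 1 if d is even and q > 2; 4(2^(d−3) + 1) if d is even and q = 2. -/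
theorem result {F : Type*} [Field F] [Fintype F] (p f d : ℕ) (hp : p.Prime) (hf : 1 ≤ f) (q : ℕ) (hq : q = p ^ f)
    (hF : Fintype.card F = q ^ 2) (hd : 3 ≤ d) (h32 : ¬ (d = 3 ∧ q = 2)) :
    (Odd d → 2 ≤ f → (∀ g : (↥(Cfsg.GU d F q) ⧸ Subgroup.center ↥(Cfsg.GU d F q)), orderOf g ≤ q ^ (d - 1) - 1) ∧ ∃ g : (↥(Cfsg.GU d F q) ⧸ Subgroup.center ↥(Cfsg.GU d F q)), orderOf g = q ^ (d - 1) - 1) ∧
    (Odd d → f = 1 → (∀ g : (↥(Cfsg.GU d F q) ⧸ Subgroup.center ↥(Cfsg.GU d F q)), orderOf g ≤ (p ^ (d - 2) + 1) * p) ∧ ∃ g : (↥(Cfsg.GU d F q) ⧸ Subgroup.center ↥(Cfsg.GU d F q)), orderOf g = (p ^ (d - 2) + 1) * p) ∧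
    (Even d → 2 < q → (∀ g : (↥(Cfsg.GU d F q) ⧸ Subgroup.center ↥(Cfsg.GU d F q)), orderOf g ≤ q ^ (d - 1) + 1) ∧ ∃ g : (↥(Cfsg.GU d F q) ⧸ Subgroup.center ↥(Cfsg.GU d F q)), orderOf g = q ^ (d - 1) + 1) ∧
    (Even d → q = 2 → (∀ g : (↥(Cfsg.GU d F q) ⧸ Subgroup.center ↥(Cfsg.GU d F q)), orderOf g ≤ 4 * (2 ^ (d - 3) + 1)) ∧ ∃ g : (↥(Cfsg.GU d F q) ⧸ Subgroup.center ↥(Cfsg.GU d F q)), orderOf g = 4 * (2 ^ (d - 3) + 1)) := by
  classical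
  haveI : Fact p.Prime := ⟨hp⟩
  obtain ⟨p', a, hp', hchar, hq'⟩ := Cfsg.Agent.Forms.exists_prime_pow_q hF
  have hpp : p' = p := by
    have h1 : p' ∣ p ^ f := by
      rw [← hq, hq']
      refine dvd_pow_self _ fun ha => ?_
      rw [ha, pow_zero] at hq'
      have := Cfsg.Agent.Forms.one_lt_q hF
      omega
    exact (Nat.prime_dvd_prime_iff_eq hp' hp).1 (hp'.dvd_of_dvd_pow h1)
  subst hpp
  open Cfsg.Agent.GL.UnitaryMax in
  have hb : ∀ g : (↥(Cfsg.GU d F q) ⧸ Subgroup.center ↥(Cfsg.GU d F q)),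
      (Odd d → 2 ≤ f → orderOf g ≤ q ^ (d - 1) - 1) ∧
      (Odd d → f = 1 → orderOf g ≤ (p' ^ (d - 2) + 1) * p') ∧
      (Even d → 2 < q → orderOf g ≤ q ^ (d - 1) + 1) ∧
      (Even d → q = 2 → orderOf g ≤ 4 * (2 ^ (d - 3) + 1)) := by
    intro g
    obtain ⟨ν, L, h1, h2, h3, h4⟩ := exists_bound hF (by omega) (p := p') g
    obtain ⟨b1, b2, b3, b4⟩ := final_bound hp hf hq hd h32 h1 h2 h3
    exact ⟨fun x y => h4.trans (b1 x y), fun x y => h4.trans (b2 x y), fun x y => h4.trans (b3 x y),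
      fun x y => h4.trans (b4 x y)⟩
  have hq2 := Cfsg.Agent.Forms.one_lt_q hF
  have hcop : ∀ n, 0 < n → Odd n → (Cfsg.Agent.GL.UnitaryMax.umax q n).Coprime p' := by
    intro n hn ho
    rw [Cfsg.Agent.GL.UnitaryMax.umax_odd ho, Nat.coprime_comm, hp.coprime_iff_not_dvd]
    intro h
    have : p' ∣ q ^ n := dvd_pow (hq ▸ dvd_pow_self p' (by omega)) hn.ne'
    exact hp.not_dvd_one ((Nat.dvd_add_right this).1 h)
  refine ⟨fun ho hf2 => ⟨fun g => (hb g).1 ho hf2, ?_⟩, fun ho hf1 => ⟨fun g => (hb g).2.1 ho hf1, ?_⟩,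
    fun he h2 => ⟨fun g => (hb g).2.2.1 he h2, ?_⟩, fun he h2 => ⟨fun g => (hb g).2.2.2 he h2, ?_⟩⟩
  · obtain ⟨g, hg⟩ := Cfsg.Agent.GL.UnitaryMax.exists_le_orderOf_umax hF (d := d) (by omega)
    obtain ⟨k, hk⟩ := ho
    rw [Cfsg.Agent.GL.UnitaryMax.umax_even ⟨k, by omega⟩] at hg
    exact ⟨g, le_antisymm ((hb g).1 ⟨k, hk⟩ hf2) hg⟩
  · obtain ⟨k, hk⟩ := ho
    obtain ⟨g, hg⟩ := Cfsg.Agent.GL.UnitaryMax.exists_le_orderOf_umax_mul hF (d := d) (p := p') (s := 2)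
      (by omega) (by omega) (hcop _ (by omega) ⟨k - 1, by omega⟩)
    have hqp : q = p' := by rw [hq, hf1, pow_one]
    rw [Cfsg.Agent.GL.UnitaryMax.umax_odd ⟨k - 1, by omega⟩,
      show Nat.clog p' 2 = 1 from le_antisymm ((Nat.clog_le_iff_le_pow hp.one_lt).2 (by simpa using hp.two_le))
        (Nat.clog_pos hp.one_lt (by norm_num)), pow_one] at hg
    refine ⟨g, le_antisymm ((hb g).2.1 ⟨k, hk⟩ hf1) ?_⟩
    simpa [hqp] using hg
  · obtain ⟨g, hg⟩ := Cfsg.Agent.GL.UnitaryMax.exists_le_orderOf_umax hF (d := d) (by omega)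
    obtain ⟨k, hk⟩ := he
    rw [Cfsg.Agent.GL.UnitaryMax.umax_odd ⟨k - 1, by omega⟩] at hg
    exact ⟨g, le_antisymm ((hb g).2.2.1 ⟨k, hk⟩ h2) hg⟩
  · obtain ⟨k, hk⟩ := he
    have hp2 : p' = 2 := by
      have : p' ∣ 2 := by rw [← h2, hq]; exact dvd_pow_self p' (by omega)
      exact (Nat.prime_dvd_prime_iff_eq hp Nat.prime_two).1 this
    obtain ⟨g, hg⟩ := Cfsg.Agent.GL.UnitaryMax.exists_le_orderOf_umax_mul hF (d := d) (p := p') (s := 3)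
      (by omega) (by omega) (hcop _ (by omega) ⟨k - 2, by omega⟩)
    rw [Cfsg.Agent.GL.UnitaryMax.umax_odd ⟨k - 2, by omega⟩] at hg
    refine ⟨g, le_antisymm ((hb g).2.2.2 ⟨k, hk⟩ h2) (le_trans (le_of_eq ?_) hg)⟩
    rw [hp2, h2, show Nat.clog 2 3 = 2 by decide, mul_comm]
    norm_num

end Cfsg.Agent.S2263
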