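import Cfsg.Statements.S2264
import Cfsg.Agent.Lib.GL.IsometryBound
import Cfsg.Agent.Lib.GL.SympOrders

set_option autoImplicit false
open Cfsg

namespace Cfsg.Agent.S2264

/-- Let F be a finite field with q elements and m ≥ 2. Then every element g of PSp_2m(F) satisfies (q − 1)·|g| ≤ q^(m+1), i.e. has order at most q^(m+1)/(q − 1). -/
theorem result {F : Type*} [Field F] [Fintype F] (m : ℕ) (hm : 2 ≤ m) (g : Cfsg.PSp m F) :
    (Fintype.card F - 1) * orderOf g ≤ Fintype.card F ^ (m + 1) := by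
  obtain ⟨p, _⟩ := CharP.exists F
  haveI : Fact p.Prime := ⟨CharP.char_is_prime F p⟩
  let τ : Matrix.symplecticGroup (Fin m) F →* Matrix (Fin m ⊕ Fin m) (Fin m ⊕ Fin m) F :=
    (Matrix.symplecticGroup (Fin m) F).subtype
  refine GL.orderOf_mk_le τ Subtype.val_injective (GL.isReflexiveSesq_sympForm m) (fun x u v => ?_) hm
    (p := p) (by simp; omega) (fun _ => by simp; omega)
    (fun h2 => ⟨by simp [h2], fun x => SymplecticGroup.det_eq_one x.2⟩) g
  have h := Cfsg.Agent.ClassicalSimple.mem_symplecticGroup_iff_form.1 x.2 u v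
  rwa [Cfsg.Agent.ClassicalSimple.sympBilin_apply, Cfsg.Agent.ClassicalSimple.sympBilin_apply] at h

end Cfsg.Agent.S2264
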