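import Cfsg.Statements.S2265
import Cfsg.Agent.Lib.GL.IsometryBound
import Cfsg.Agent.Lib.QForm.Std

set_option autoImplicit false
open Cfsg

namespace Cfsg.Agent.S2265

open Matrix

section

variable {F : Type*} [Field F] [Fintype F] {ι : Type} [Fintype ι] [DecidableEq ι]

theorem bound (Q : QuadraticForm F (ι → F)) (f : (ι → F) → F) (hQ : ∀ v, Q v = f v)
    (hnd : ∀ v, (∀ u, QuadraticMap.polar f u v = 0) → v = 0) {p : ℕ} [Fact p.Prime] [CharP F p]
    {m : ℕ} (hm : 3 ≤ m) (hN : Fintype.card ι ≤ 2 * m + 1) (hN2 : p = 2 → Fintype.card ι ≤ 2 * m)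
    (g : Cfsg.POmega F f) : (Fintype.card F - 1) * orderOf g ≤ Fintype.card F ^ (m + 1) := by
  obtain rfl : ⇑Q = f := funext hQ
  let τ : Cfsg.Omega F ⇑Q →* Matrix ι ι F :=
    (Units.coeHom (Matrix ι ι F)).comp
      ((Cfsg.isometryGroup F ⇑Q).subtype.comp (Cfsg.Omega F ⇑Q).subtype)
  have hτ : Function.Injective τ :=
    Units.val_injective.comp (Subtype.val_injective.comp Subtype.val_injective)
  refine Cfsg.Agent.GL.orderOf_mk_le τ hτ (h := fun u v => QuadraticMap.polar Q u v)
    ⟨fun _ => rfl, fun u u' v => QuadraticMap.polar_add_left Q u u' v, fun c u v => ?_,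
      fun u v v' => QuadraticMap.polar_add_right Q u v v', fun c u v => ?_,
      fun u v huv => by rwa [QuadraticMap.polar_comm], hnd⟩
    (fun x u v => ?_) (by omega) hN hN2 (fun h => absurd h (by omega)) g
  · rw [QuadraticMap.polar_smul_left, smul_eq_mul]
  · rw [QuadraticMap.polar_smul_right, smul_eq_mul]; rfl
  · have hx : ∀ w, Q (τ x *ᵥ w) = Q w := fun w => (x : Cfsg.isometryGroup F ⇑Q).2 w w
    show QuadraticMap.polar Q (τ x *ᵥ u) (τ x *ᵥ v) = _
    rw [QuadraticMap.polar, ← Matrix.mulVec_add, hx, hx, hx]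
    rfl

end

/-- Let F be a finite field with q elements. Every element g of PΩ_(2m+1)(F) (m ≥ 3, q odd), of PΩ⁺_2m(F) (m ≥ 4), or of PΩ⁻_2m(F) (m ≥ 4, the form having an anisotropic binary part) satisfies (q − 1)·|g| ≤ q^(m+1), i.e. has order at most q^(m+1)/(q − 1). -/
theorem result {F : Type*} [Field F] [Fintype F] (m : ℕ) :
    (3 ≤ m → Odd (Fintype.card F) → ∀ g : Cfsg.POmega F (Cfsg.quadFormOdd m F),
      (Fintype.card F - 1) * orderOf g ≤ Fintype.card F ^ (m + 1)) ∧
    (4 ≤ m → ∀ g : Cfsg.POmega F (Cfsg.quadFormPlus m F),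
      (Fintype.card F - 1) * orderOf g ≤ Fintype.card F ^ (m + 1)) ∧
    (4 ≤ m → ∀ a b : F, (∀ z₁ z₂ : F, z₁ ^ 2 + a * z₁ * z₂ + b * z₂ ^ 2 = 0 → z₁ = 0 ∧ z₂ = 0) →
      ∀ g : Cfsg.POmega F (Cfsg.quadFormMinus (m - 1) F a b),
      (Fintype.card F - 1) * orderOf g ≤ Fintype.card F ^ (m + 1)) := by
  classical
  obtain ⟨p, _⟩ := CharP.exists F
  haveI : Fact p.Prime := ⟨CharP.char_is_prime F p⟩
  refine ⟨fun hm hodd g => ?_, fun hm g => ?_, fun hm a b hab g => ?_⟩
  · have h2 : (2 : F) ≠ 0 := QForm.two_ne_zero_of_odd rfl hodd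
    let Q : QuadraticForm F (Unit ⊕ (Fin m ⊕ Fin m) → F) :=
      QuadraticMap.proj (.inl ()) (.inl ()) +
        ∑ i : Fin m, QuadraticMap.proj (.inr (.inl i)) (.inr (.inr i))
    refine bound Q _ (fun v => by simp [Q, quadFormOdd, sq]) (fun v hv => ?_) (p := p) hm
      (by simp; omega) (fun hp => ?_) g
    · funext k
      rcases k with u | i | i
      · cases u
        have h := hv (Pi.single (.inl ()) 1)
        rw [QForm.polar_odd] at h
        simpa [h2] using h
      · have h := hv (Pi.single (.inr (.inr i)) 1)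
        rw [QForm.polar_odd] at h
        simpa [Pi.single_apply, Finset.sum_add_distrib] using h
      · have h := hv (Pi.single (.inr (.inl i)) 1)
        rw [QForm.polar_odd] at h
        simpa [Pi.single_apply, Finset.sum_add_distrib] using h
    · subst hp
      exact absurd (CharP.cast_eq_zero F 2) (by exact_mod_cast h2)
  · refine bound (QForm.plusForm F m) _ (QForm.plusForm_apply F m) (fun v hv => ?_) (p := p)
      (by omega) (by simp; omega) (fun _ => by simp; omega) g
    funext k
    rcases k with i | i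
    · have h := hv (Pi.single (.inr i) 1)
      rw [QForm.polar_plus] at h
      simpa [Pi.single_apply, Finset.sum_add_distrib] using h
    · have h := hv (Pi.single (.inl i) 1)
      rw [QForm.polar_plus] at h
      simpa [Pi.single_apply, Finset.sum_add_distrib] using h
  · refine bound (QForm.minusForm F (m - 1) a b) _ (QForm.minusForm_apply F (m - 1) a b) (fun v hv => ?_)
      (p := p) (m := m) (by omega) (by simp; omega) (fun _ => by simp; omega) g
    have e0 : 2 * v (.inr 0) + a * v (.inr 1) = 0 := by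
      have h := hv (Pi.single (.inr 0) 1)
      rw [QForm.polar_minus] at h
      simpa using h
    have e1 : a * v (.inr 0) + 2 * b * v (.inr 1) = 0 := by
      have h := hv (Pi.single (.inr 1) 1)
      rw [QForm.polar_minus] at h
      simpa using h
    have hd : a ^ 2 - 4 * b ≠ 0 := by
      intro h0
      by_cases h2 : (2 : F) = 0
      · have ha : a = 0 := by
          have : a ^ 2 = 0 := by linear_combination h0 + 2 * b * h2
          exact pow_eq_zero_iff (two_ne_zero) |>.1 this
        haveI : CharP F 2 := CharTwo.of_one_ne_zero_of_two_eq_zero one_ne_zero h2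
        obtain ⟨s, hs⟩ := FiniteField.isSquare_of_char_two (ringChar.eq F 2) b
        exact one_ne_zero (hab s 1 (by rw [ha, hs]; linear_combination (s * s) * h2)).2
      · exact one_ne_zero (hab (-a / 2) 1 (by field_simp; linear_combination -h0)).2
    funext k
    rcases k with (i | i) | k
    · have h := hv (Pi.single (.inl (.inr i)) 1)
      rw [QForm.polar_minus] at h
      simpa [Pi.single_apply, Finset.sum_add_distrib] using h
    · have h := hv (Pi.single (.inl (.inl i)) 1)
      rw [QForm.polar_minus] at h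
      simpa [Pi.single_apply, Finset.sum_add_distrib] using h
    · have h0' : (a ^ 2 - 4 * b) * v (.inr 0) = 0 := by linear_combination a * e1 - 2 * b * e0
      have h1' : (a ^ 2 - 4 * b) * v (.inr 1) = 0 := by linear_combination a * e0 - 2 * e1
      fin_cases k
      · exact (mul_eq_zero.1 h0').resolve_left hd
      · exact (mul_eq_zero.1 h1').resolve_left hd

end Cfsg.Agent.S2265
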