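import Cfsg.Statements.S2269
import Cfsg.Agent.Lib.Automizer.Burnside

set_option autoImplicit false
open Cfsg

namespace Cfsg.Agent.S2269

open Equiv Equiv.Perm

variable {n : ℕ} {p : ℕ} [Fact p.Prime]

/-- A conjugate of every element of prime-power order lies in a given Sylow subgroup. -/
theorem exists_conj_mem (P : Sylow p (alternatingGroup (Fin n))) (K : Subgroup (alternatingGroup (Fin n)))
    (hK : IsPGroup p K) : ∃ g : alternatingGroup (Fin n), ∀ x ∈ K,
      g * x * g⁻¹ ∈ (P : Subgroup (alternatingGroup (Fin n))) := by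
  obtain ⟨Q, hQ⟩ := hK.exists_le_sylow
  obtain ⟨g, hg⟩ := MulAction.exists_smul_eq (alternatingGroup (Fin n)) Q P
  refine ⟨g, fun x hx => ?_⟩
  rw [← hg, Sylow.coe_subgroup_smul]
  exact ⟨x, hQ hx, by simp⟩

theorem two_dvd_of_two_mul_le (hp : p ≠ 2) (hpn : 2 * p ≤ n) (P : Sylow p (alternatingGroup (Fin n)))
    (hP : IsMulCommutative (P : Subgroup (alternatingGroup (Fin n)))) :
    2 ∣ ((Subgroup.centralizer ((P : Subgroup (alternatingGroup (Fin n))) : Set (alternatingGroup (Fin n)))).subgroupOf (Subgroup.normalizer ((P : Subgroup (alternatingGroup (Fin n))) : Set (alternatingGroup (Fin n))))).index := by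
  have hpp : p.Prime := Fact.out
  obtain ⟨c0, hc0⟩ := (exists_with_cycleType_iff (Fin n) (m := {p, p})).mpr
    ⟨by simp; omega, by simp [hpp.two_le]⟩
  have hsgn : c0 ∈ alternatingGroup (Fin n) := by
    rw [mem_alternatingGroup, sign_of_cycleType, hc0]
    simp only [Multiset.insert_eq_cons, Multiset.sum_cons, Multiset.sum_singleton,
      Multiset.card_cons, Multiset.card_singleton]
    exact Even.neg_one_pow ⟨p + 1, by ring⟩
  let c : alternatingGroup (Fin n) := ⟨c0, hsgn⟩
  have ho : orderOf c = p := by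
    rw [← Subgroup.orderOf_coe]
    change orderOf c0 = p
    rw [← lcm_cycleType, hc0]
    simp
  obtain ⟨g, hg⟩ := exists_conj_mem P (Subgroup.zpowers c)
    (IsPGroup.of_card (n := 1) (by rw [Nat.card_zpowers, ho, pow_one]))
  set d := g * c * g⁻¹ with hd
  have hod : orderOf d = p := by rw [hd, ← ho]; exact orderOf_injective (MulAut.conj g).toMonoidHom (MulAut.conj g).injective c
  have hne : d ≠ d⁻¹ := fun h => by
    have h2 : d ^ 2 = 1 := by rw [pow_two]; nth_rewrite 2 [h]; exact mul_inv_cancel d
    have := orderOf_dvd_of_pow_eq_one h2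
    rw [hod] at this
    exact hp ((Nat.prime_dvd_prime_iff_eq hpp Nat.prime_two).mp this)
  have hdt : (d : Perm (Fin n)).cycleType = {p, p} := by simp [hd, c, hc0]
  obtain ⟨π, hπ⟩ := isConj_iff.mp (isConj_iff_cycleType_eq.mpr (cycleType_inv (d : Perm (Fin n))).symm)
  have hnle : ¬ Subgroup.centralizer {(d : Perm (Fin n))} ≤ alternatingGroup (Fin n) := by
    rw [centralizer_le_alternating_iff]
    rintro ⟨-, -, h⟩
    have := h p
    rw [hdt] at this
    simp at this
  obtain ⟨z, hzc, hz⟩ := SetLike.not_le_iff_exists.mp hnle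
  rw [Subgroup.mem_centralizer_singleton_iff] at hzc
  have key : ∃ t : alternatingGroup (Fin n), t * d * t⁻¹ = d⁻¹ := by
    rcases Int.units_eq_one_or (Perm.sign π) with h | h
    · exact ⟨⟨π, h⟩, Subtype.ext (by simpa using hπ)⟩
    · refine ⟨⟨π * z, ?_⟩, Subtype.ext ?_⟩
      · rw [mem_alternatingGroup] at hz ⊢
        rw [map_mul, h, (Int.units_eq_one_or (Perm.sign z)).resolve_left hz, Int.units_mul_self]
      · calc π * z * (d : Perm (Fin n)) * (π * z)⁻¹
            = π * (z * (d : Perm (Fin n)) * z⁻¹) * π⁻¹ := by group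
          _ = π * (d : Perm (Fin n)) * π⁻¹ := by rw [hzc]; group
          _ = _ := by simpa using hπ
  obtain ⟨t, ht⟩ := key
  exact (Cfsg.Agent.Automizer.two_dvd_automizer_of_inverted d t hne ht).trans
    (Cfsg.Agent.Automizer.automizer_index_dvd P hP _
      (Subgroup.zpowers_le.mpr (hg c (Subgroup.mem_zpowers c))))

theorem cyclic_of_lt_two_mul (hp : p ≠ 2) (hpn : n < 2 * p) (P : Sylow p (alternatingGroup (Fin n))) :
    IsCyclic (P : Subgroup (alternatingGroup (Fin n))) := by
  have hpp : p.Prime := Fact.out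
  obtain ⟨k, hk⟩ := P.2.exists_card_eq
  have h1 : p ^ k ∣ n.factorial := by
    rw [← hk]
    refine dvd_trans (Subgroup.card_subgroup_dvd_card _) ?_
    have := Subgroup.card_subgroup_dvd_card (alternatingGroup (Fin n))
    rwa [Nat.card_perm, Nat.card_fin] at this
  have h2 : k ≤ 1 := by
    have h3 := (hpp.pow_dvd_factorial_iff (b := n + 1) (Nat.lt_succ_of_le (Nat.log_le_self p n))).mp h1
    refine h3.trans ?_
    calc ∑ i ∈ Finset.Ico 1 (n + 1), n / p ^ i ≤ ∑ i ∈ Finset.Ico 1 (n + 1), (if i = 1 then 1 else 0) :=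
          Finset.sum_le_sum fun i hi => by
            have hp2 := hpp.two_le
            split_ifs with h
            · subst h
              rw [pow_one]
              exact Nat.lt_succ_iff.mp ((Nat.div_lt_iff_lt_mul hpp.pos).mpr (by omega))
            · have : 2 ≤ i := by simp at hi; omega
              have : p ^ 2 ≤ p ^ i := Nat.pow_le_pow_right hpp.pos this
              exact le_of_eq (Nat.div_eq_of_lt (by nlinarith))
      _ ≤ 1 := by simp [Finset.sum_ite_eq']; split_ifs <;> simp
  interval_cases k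
  · have := Nat.card_eq_one_iff_unique.mp (hk.trans (pow_zero p))
    have := this.1
    infer_instance
  · exact isCyclic_of_prime_card (hk.trans (pow_one p))

theorem six_not_comm (hn : 6 ≤ n) (P : Sylow 2 (alternatingGroup (Fin n))) :
    ¬ IsMulCommutative (P : Subgroup (alternatingGroup (Fin n))) := by
  intro hP
  let e : Fin 6 ↪ Fin n := Fin.castLEEmb hn
  let f : Perm (Fin 6) →* Perm (Fin n) := Perm.viaEmbeddingHom e
  have hf : Function.Injective f := Perm.viaEmbeddingHom_injective e
  have hsgn : ∀ x : Perm (Fin 6), Perm.sign (f x) = Perm.sign x := fun x => by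
    simp [f, Perm.viaEmbeddingHom, Perm.extendDomainHom, Perm.sign_extendDomain]
  let a0 : Perm (Fin 6) := swap 0 1 * swap 4 5
  let b0 : Perm (Fin 6) := swap 0 1 * swap 1 2 * swap 2 3 * swap 4 5
  let a : alternatingGroup (Fin n) := ⟨f a0, by rw [mem_alternatingGroup, hsgn]; decide⟩
  let b : alternatingGroup (Fin n) := ⟨f b0, by rw [mem_alternatingGroup, hsgn]; decide⟩
  have hb : b ^ 4 = 1 := Subtype.ext (by
    change f b0 ^ 4 = 1
    rw [← map_pow, show b0 ^ 4 = 1 by decide, map_one])
  have hc0 : (swap (0 : Fin 6) 2 * swap 4 5) ^ 2 = 1 := by decide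
  let c : alternatingGroup (Fin n) := ⟨f (swap 0 2 * swap 4 5), by rw [mem_alternatingGroup, hsgn]; decide⟩
  have hc : c ^ 2 = 1 := Subtype.ext (by
    change f _ ^ 2 = 1
    rw [← map_pow, hc0, map_one])
  have hcb : c * b * c⁻¹ = b⁻¹ := Subtype.ext (by
    change f _ * f b0 * (f _)⁻¹ = (f b0)⁻¹
    rw [← map_inv, ← map_inv, ← map_mul, ← map_mul,
      show (swap (0 : Fin 6) 2 * swap 4 5) * b0 * (swap (0 : Fin 6) 2 * swap 4 5)⁻¹ = b0⁻¹ by decide])
  have hle : Subgroup.zpowers c ≤ Subgroup.normalizer ((Subgroup.zpowers b : Subgroup _) : Set _) := by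
    rw [Subgroup.zpowers_le]
    have hconj : ∀ k : ℤ, c * b ^ k * c⁻¹ = b ^ (-k) := fun k => by
      rw [← conj_zpow, hcb, inv_zpow, zpow_neg]
    have hcinv : c⁻¹ = c := by
      rw [inv_eq_iff_mul_eq_one, ← pow_two, hc]
    rw [Subgroup.mem_normalizer_iff]
    intro x
    constructor
    · rintro ⟨k, rfl⟩; exact ⟨-k, (hconj k).symm⟩
    · rintro ⟨k, hk⟩
      refine ⟨-k, ?_⟩
      have h := hconj k
      rw [show x = c * (c * x * c⁻¹) * c⁻¹ by rw [hcinv]; simp [← mul_assoc, ← pow_two, hc]; rw [mul_assoc, ← pow_two, hc, mul_one]]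
      rw [← hk]
      exact h.symm
  have hK : IsPGroup 2 (Subgroup.zpowers c ⊔ Subgroup.zpowers b : Subgroup _) := by
    refine IsPGroup.to_sup_of_normal_right' ?_ ?_ hle
    · obtain ⟨i, -, hi⟩ := (Nat.dvd_prime_pow Nat.prime_two).mp
        (orderOf_dvd_of_pow_eq_one (show c ^ 2 ^ 1 = 1 by simpa using hc))
      exact IsPGroup.of_card (n := i) (by rw [Nat.card_zpowers, hi])
    · obtain ⟨i, -, hi⟩ := (Nat.dvd_prime_pow Nat.prime_two).mp
        (orderOf_dvd_of_pow_eq_one (show b ^ 2 ^ 2 = 1 by simpa using hb))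
      exact IsPGroup.of_card (n := i) (by rw [Nat.card_zpowers, hi])
  obtain ⟨g, hg⟩ := exists_conj_mem P _ hK
  have h := hP.is_comm.comm ⟨_, hg c (Subgroup.mem_sup_left (Subgroup.mem_zpowers c))⟩
    ⟨_, hg b (Subgroup.mem_sup_right (Subgroup.mem_zpowers b))⟩
  have h' : g * (c * b) * g⁻¹ = g * (b * c) * g⁻¹ := by
    have := congrArg Subtype.val h
    calc g * (c * b) * g⁻¹ = g * c * g⁻¹ * (g * b * g⁻¹) := by group
      _ = g * b * g⁻¹ * (g * c * g⁻¹) := this
      _ = _ := by group
  have h'' : c * b = b * c := mul_left_cancel (mul_right_cancel h')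
  have := congrArg Subtype.val h''
  change f _ * f b0 = f b0 * f _ at this
  rw [← map_mul, ← map_mul] at this
  exact absurd (hf this) (by decide)

theorem five_two (P : Sylow 2 (alternatingGroup (Fin 5)))
    (hP : IsMulCommutative (P : Subgroup (alternatingGroup (Fin 5)))) :
    ((Subgroup.centralizer ((P : Subgroup (alternatingGroup (Fin 5))) : Set (alternatingGroup (Fin 5)))).subgroupOf (Subgroup.normalizer ((P : Subgroup (alternatingGroup (Fin 5))) : Set (alternatingGroup (Fin 5))))).index = 3 ∧ IsKleinFour (P : Subgroup (alternatingGroup (Fin 5))) := by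
  have h60 : Nat.card (alternatingGroup (Fin 5)) = 60 := by
    rw [nat_card_alternatingGroup, Nat.card_fin]; rfl
  have hmul := (P : Subgroup (alternatingGroup (Fin 5))).card_mul_index
  obtain ⟨k, hk⟩ := P.2.exists_card_eq
  rw [h60, hk] at hmul
  have hodd := P.not_dvd_index
  have hk5 : k ≤ 5 := by
    have h1 : 2 ^ k ≤ 60 := Nat.le_of_dvd (by norm_num) ⟨_, hmul.symm⟩
    by_contra h
    have := Nat.pow_le_pow_right two_pos (show 6 ≤ k by omega)
    omega
  have hk2 : k = 2 := by
    interval_cases k <;> omega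
  subst hk2
  have hidx : (P : Subgroup (alternatingGroup (Fin 5))).index = 15 := by omega
  have hexp : ∀ x : alternatingGroup (Fin 5), x ^ 4 = 1 → x ^ 2 = 1 := by decide +kernel
  have hcard : Nat.card (P : Subgroup (alternatingGroup (Fin 5))) = 4 := by rw [hk]; rfl
  have hkl : IsKleinFour (P : Subgroup (alternatingGroup (Fin 5))) := by
    refine ⟨hcard, ?_⟩
    have hdvd : Monoid.exponent (P : Subgroup (alternatingGroup (Fin 5))) ∣ 2 := by
      refine Monoid.exponent_dvd_of_forall_pow_eq_one fun x => Subtype.ext (hexp _ ?_)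
      have h4 : x ^ 4 = 1 := by rw [← hcard]; exact pow_card_eq_one'
      exact congrArg Subtype.val h4
    rcases (Nat.dvd_prime Nat.prime_two).mp hdvd with h | h
    · have := (Monoid.exp_eq_one_iff.mp h)
      have := Finite.card_le_one_iff_subsingleton.mpr this
      omega
    · exact h
  refine ⟨?_, hkl⟩
  change Subgroup.relIndex (Subgroup.centralizer ((P : Subgroup (alternatingGroup (Fin 5))) : Set (alternatingGroup (Fin 5))))
    (Subgroup.normalizer ((P : Subgroup (alternatingGroup (Fin 5))) : Set (alternatingGroup (Fin 5)))) = 3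
  set r := Subgroup.relIndex (Subgroup.centralizer ((P : Subgroup (alternatingGroup (Fin 5))) : Set (alternatingGroup (Fin 5))))
    (Subgroup.normalizer ((P : Subgroup (alternatingGroup (Fin 5))) : Set (alternatingGroup (Fin 5)))) with hr
  have hPC : (P : Subgroup (alternatingGroup (Fin 5))) ≤
      Subgroup.centralizer ((P : Subgroup (alternatingGroup (Fin 5))) : Set (alternatingGroup (Fin 5))) :=
    Cfsg.Agent.Automizer.le_centralizer_of_comm hP le_rfl
  have h15 : r ∣ 15 := by
    rw [hr]
    refine (Subgroup.relIndex_dvd_of_le_left _ hPC).trans ?_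
    rw [← hidx]
    exact Subgroup.relIndex_dvd_index_of_le Subgroup.le_normalizer
  have h24 : r ∣ 24 := by
    have key := Subgroup.card_dvd_of_injective _
      (QuotientGroup.kerLift_injective (P : Subgroup (alternatingGroup (Fin 5))).normalizerMonoidHom)
    rw [Subgroup.normalizerMonoidHom_ker, ← Subgroup.index] at key
    refine key.trans ?_
    have h := Subgroup.card_dvd_of_injective (MulAut.toPerm (P : Subgroup (alternatingGroup (Fin 5))))
      (fun a b hab => MulEquiv.ext fun x => Equiv.congr_fun hab x)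
    rwa [Nat.card_perm, hcard] at h
  have h1 : r ≠ 1 := by
    intro h
    rw [hr, Subgroup.relIndex_eq_one] at h
    have hc := MonoidHom.ker_transferSylow_isComplement' P h
    have : IsSimpleGroup (alternatingGroup (Fin 5)) := alternatingGroup.isSimpleGroup (by simp)
    rcases IsSimpleGroup.eq_bot_or_eq_top_of_normal (MonoidHom.transferSylow P h).ker inferInstance with h' | h'
    · have := hc.card_mul
      rw [h', Subgroup.card_bot, hcard, h60] at this
      omega
    · have := hc.card_mul
      rw [h', Subgroup.card_top, hcard, h60] at this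
      omega
  have h3 : r ∣ 3 := Nat.dvd_gcd h15 h24
  exact ((Nat.dvd_prime Nat.prime_three).mp h3).resolve_left h1

/-- Let n ≥ 5 and let P be an abelian Sylow p-subgroup of the alternating group A_n. Then N(P)/C(P) (taken in A_n) has even order, or P is cyclic, except when n = 5 and p = 2, where P is a four-group and N(P)/C(P) has order 3. -/
theorem result (n : ℕ) (hn : 5 ≤ n) {p : ℕ} [Fact p.Prime]
    (P : Sylow p (alternatingGroup (Fin n))) (hP : IsMulCommutative (P : Subgroup (alternatingGroup (Fin n)))) :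
    (¬ (n = 5 ∧ p = 2) → 2 ∣ ((Subgroup.centralizer ((P : Subgroup (alternatingGroup (Fin n))) : Set (alternatingGroup (Fin n)))).subgroupOf (Subgroup.normalizer ((P : Subgroup (alternatingGroup (Fin n))) : Set (alternatingGroup (Fin n))))).index ∨ IsCyclic (P : Subgroup (alternatingGroup (Fin n)))) ∧
    ((n = 5 ∧ p = 2) → ((Subgroup.centralizer ((P : Subgroup (alternatingGroup (Fin n))) : Set (alternatingGroup (Fin n)))).subgroupOf (Subgroup.normalizer ((P : Subgroup (alternatingGroup (Fin n))) : Set (alternatingGroup (Fin n))))).index = 3 ∧ IsKleinFour (P : Subgroup (alternatingGroup (Fin n)))) := by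
  have hpp : p.Prime := Fact.out
  refine ⟨fun h52 => ?_, ?_⟩
  · by_cases hp : p = 2
    · subst hp
      exact absurd hP (six_not_comm (by omega) P)
    · by_cases hpn : 2 * p ≤ n
      · exact Or.inl (two_dvd_of_two_mul_le hp hpn P hP)
      · exact Or.inr (cyclic_of_lt_two_mul hp (by omega) P)
  · rintro ⟨rfl, rfl⟩
    exact five_two P hP

end Cfsg.Agent.S2269
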