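import Cfsg.Statements.S2270
import Cfsg.Agent.Lib.Automizer.Burnside

set_option autoImplicit false
open Cfsg

namespace Cfsg.Agent.S2270

open Equiv Equiv.Perm in
/-- Some element of `P` is a `p`-cycle. -/
theorem exists_cycle_mem (n : ℕ) {p : ℕ} [Fact p.Prime] (hpn : p ≤ n)
    (P : Sylow p (Equiv.Perm (Fin n))) :
    ∃ c ∈ (P : Subgroup (Equiv.Perm (Fin n))), c.cycleType = {p} := by
  obtain ⟨c, hc⟩ := (exists_with_cycleType_iff (Fin n) (m := {p})).mpr
    ⟨by simpa using hpn, by simpa using (Fact.out : p.Prime).two_le⟩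
  have ho : orderOf c = p := by rw [← lcm_cycleType, hc, Multiset.lcm_singleton, normalize_eq]
  obtain ⟨Q, hQ⟩ := (IsPGroup.of_card (n := 1) (G := Subgroup.zpowers c)
    (by rw [Nat.card_zpowers, ho, pow_one])).exists_le_sylow
  obtain ⟨g, hg⟩ := MulAction.exists_smul_eq (Equiv.Perm (Fin n)) Q P
  refine ⟨g * c * g⁻¹, ?_, by rw [cycleType_conj, hc]⟩
  rw [← hg, Sylow.coe_subgroup_smul]
  exact ⟨c, hQ (Subgroup.mem_zpowers c), by simp⟩

/-- Let n ≥ 3, p an odd prime, and P an abelian Sylow p-subgroup of the symmetric group S_n (with p dividing n!, so that P ≠ 1). Then N(P)/C(P) has even order. -/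
theorem result (n : ℕ) (hn : 3 ≤ n) {p : ℕ} [Fact p.Prime] (hp : p ≠ 2) (hpn : p ≤ n)
    (P : Sylow p (Equiv.Perm (Fin n))) (hP : IsMulCommutative (P : Subgroup (Equiv.Perm (Fin n)))) :
    2 ∣ ((Subgroup.centralizer ((P : Subgroup (Equiv.Perm (Fin n))) : Set (Equiv.Perm (Fin n)))).subgroupOf (Subgroup.normalizer ((P : Subgroup (Equiv.Perm (Fin n))) : Set (Equiv.Perm (Fin n))))).index := by
  obtain ⟨c, hcP, hct⟩ := exists_cycle_mem n hpn P
  have ho : orderOf c = p := by
    rw [← Equiv.Perm.lcm_cycleType, hct, Multiset.lcm_singleton, normalize_eq]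
  have hne : c ≠ c⁻¹ := fun h => by
    have h2 : c ^ 2 = 1 := by rw [pow_two]; nth_rewrite 2 [h]; exact mul_inv_cancel c
    have := orderOf_dvd_of_pow_eq_one h2
    rw [ho] at this
    exact hp ((Nat.prime_dvd_prime_iff_eq Fact.out Nat.prime_two).mp this)
  obtain ⟨t, ht⟩ := isConj_iff.mp (Equiv.Perm.isConj_iff_cycleType_eq.mpr
    (Equiv.Perm.cycleType_inv c).symm)
  exact (Cfsg.Agent.Automizer.two_dvd_automizer_of_inverted c t hne ht).trans
    (Cfsg.Agent.Automizer.automizer_index_dvd P hP _ (by simpa using hcP))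

end Cfsg.Agent.S2270
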