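import Cfsg.Statements.S2271
import Mathlib.GroupTheory.SpecificGroups.Alternating
import Mathlib.Logic.Equiv.Fintype

set_option autoImplicit false
open Cfsg

namespace Cfsg.Agent.S2271

open Equiv Finset

section

variable {α : Type*} [Fintype α] [DecidableEq α]

/-- The number of fixed points. -/
def F (σ : Perm α) : ℕ := #{x | σ x = x}

theorem natCard_fixed (σ : Perm α) : Nat.card (Function.fixedPoints ⇑σ) = F σ := by
  rw [Nat.card_eq_fintype_card, F, ← Fintype.card_subtype]
  exact Fintype.card_congr (Equiv.refl _)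

theorem F_inv (σ : Perm α) : F σ⁻¹ = F σ := by
  unfold F
  congr 1
  ext x
  simp only [mem_filter, mem_univ, true_and]
  rw [Perm.inv_eq_iff_eq]
  exact eq_comm

theorem F_conj (g σ : Perm α) : F (g * σ * g⁻¹) = F σ := by
  refine (Finset.card_equiv g fun x => ?_).symm
  rw [mem_filter, mem_filter]
  simp only [mem_univ, true_and]
  simp only [Perm.mul_apply, Perm.coe_inv, Equiv.symm_apply_apply]
  exact g.injective.eq_iff.symm

theorem F_mul_comm (x y : Perm α) : F (x * y) = F (y * x) := by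
  have h := F_conj y (x * y)
  rwa [mul_assoc, mul_assoc, mul_inv_cancel, mul_one, eq_comm] at h

theorem F_add_le {σ : Perm α} (h : σ ≠ 1) : F σ + 2 ≤ Fintype.card α := by
  have h1 := Perm.two_le_card_support_of_ne_one h
  have h2 := Finset.card_add_card_compl σ.support
  have h3 : F σ = #σ.supportᶜ := by
    unfold F; congr 1; ext x; simp
  omega

theorem exists_even {ι : Type*} [Fintype ι] (f g : ι → α) (hf : Function.Injective f)
    (hg : Function.Injective g) (h : Fintype.card ι + 2 ≤ Fintype.card α) :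
    ∃ σ ∈ alternatingGroup α, ∀ i, σ (f i) = g i := by
  obtain ⟨σ, hσ⟩ := Perm.exists_extending_pair f g hf hg
  rcases Int.units_eq_one_or (Perm.sign σ) with h1 | h1
  · exact ⟨σ, Perm.mem_alternatingGroup.2 h1, hσ⟩
  obtain ⟨u, hu, v, hv, huv⟩ : ∃ u ∈ (univ.image g)ᶜ, ∃ v ∈ (univ.image g)ᶜ, u ≠ v := by
    refine Finset.one_lt_card.1 ?_
    rw [card_compl, card_image_of_injective _ hg, card_univ]
    omega
  refine ⟨swap u v * σ, Perm.mem_alternatingGroup.2 ?_, fun i => ?_⟩
  · rw [map_mul, Perm.sign_swap huv, h1, neg_mul_neg, one_mul]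
  · rw [Perm.mul_apply, hσ]
    simp only [mem_compl, mem_image, mem_univ, true_and, not_exists] at hu hv
    exact swap_apply_of_ne_of_ne (hu i) (hv i)

theorem exists_many_common (h5 : 5 ≤ Fintype.card α) (c d : Perm α) (hc : c ≠ 1)
    (hle : F c ≤ F d) :
    ∃ h ∈ alternatingGroup α, F c ≤ #{x | d (h x) = h (c x)} := by
  obtain ⟨e⟩ : Nonempty ({x // c x = x} ↪ {x // d x = x}) :=
    Function.Embedding.nonempty_of_card_le (by rwa [Fintype.card_subtype, Fintype.card_subtype])
  obtain ⟨h, hA, hh⟩ := exists_even (fun x : {x // c x = x} => x.1) (fun x => (e x).1)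
    Subtype.val_injective (Subtype.val_injective.comp e.injective)
    (by rw [Fintype.card_subtype]; exact F_add_le hc)
  refine ⟨h, hA, card_le_card fun x hx => ?_⟩
  simp only [mem_filter, mem_univ, true_and] at hx ⊢
  rw [hx, hh ⟨x, hx⟩]
  exact (e ⟨x, hx⟩).2

theorem two_le_of_fixed (h5 : 5 ≤ Fintype.card α) (c d : Perm α) (hc : c ≠ 1) (hd : d ≠ 1)
    {o z : α} (ho : c o = o) (hz : d z = z) :
    ∃ h ∈ alternatingGroup α, 2 ≤ #{x | d (h x) = h (c x)} := by
  obtain ⟨x, hx⟩ := not_forall.1 fun h : ∀ x, c x = x => hc (Equiv.ext h)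
  obtain ⟨u, hu⟩ := not_forall.1 fun h : ∀ x, d x = x => hd (Equiv.ext h)
  have hcx : x ≠ o := fun h => hx (h ▸ ho)
  have hcx' : c x ≠ o := fun h => hcx (c.injective (h.trans ho.symm))
  have hdu : u ≠ z := fun h => hu (h ▸ hz)
  have hdu' : d u ≠ z := fun h => hdu (d.injective (h.trans hz.symm))
  obtain ⟨h, hA, hh⟩ := exists_even ![x, c x, o] ![u, d u, z]
    (by intro i j; fin_cases i <;> fin_cases j <;>
      simp [hx, Ne.symm hx, hcx, hcx', hcx.symm, hcx'.symm])
    (by intro i j; fin_cases i <;> fin_cases j <;>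
      simp [hu, Ne.symm hu, hdu, hdu', hdu.symm, hdu'.symm])
    (by rw [Fintype.card_fin]; omega)
  refine ⟨h, hA, Finset.one_lt_card.2 ⟨x, ?_, o, ?_, hcx⟩⟩
  · simpa using (congrArg d (hh 0)).trans (hh 1).symm
  · have h2 : h o = z := hh 2
    simp [ho, h2, hz]

theorem exists_two_arcs (c : Perm α) (h : F c + 4 ≤ Fintype.card α) :
    ∃ x y : α, c x ≠ x ∧ c y ≠ y ∧ x ≠ y ∧ c x ≠ y ∧ c y ≠ x := by
  have hs : 4 ≤ #c.support := by
    have h2 := Finset.card_add_card_compl c.support
    have h3 : F c = #c.supportᶜ := by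
      unfold F; congr 1; ext x; simp
    omega
  obtain ⟨x, hx⟩ : ∃ x, x ∈ c.support := Finset.card_pos.1 (by omega)
  obtain ⟨y, hy, hy'⟩ : ∃ y ∈ c.support, y ∉ ({x, c x, c⁻¹ x} : Finset α) :=
    Finset.exists_mem_notMem_of_card_lt_card
      (lt_of_le_of_lt (Finset.card_le_three (a := x) (b := c x) (c := c⁻¹ x)) (by omega))
  simp only [mem_insert, mem_singleton, not_or] at hy'
  exact ⟨x, y, Perm.mem_support.1 hx, Perm.mem_support.1 hy, Ne.symm hy'.1, Ne.symm hy'.2.1,
    fun h => hy'.2.2 (Perm.eq_inv_iff_eq.2 h)⟩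

theorem two_le_of_arcs (h5 : 5 ≤ Fintype.card α) (c d : Perm α)
    (hc : F c + 4 ≤ Fintype.card α) (hd : F d + 4 ≤ Fintype.card α) :
    ∃ h ∈ alternatingGroup α, 2 ≤ #{x | d (h x) = h (c x)} := by
  by_cases hpath : (∃ x, c x ≠ x ∧ c (c x) ≠ x) ∧ ∃ u, d u ≠ u ∧ d (d u) ≠ u
  · obtain ⟨⟨x, hx, hx'⟩, u, hu, hu'⟩ := hpath
    have hx2 : c (c x) ≠ c x := fun h => hx (c.injective h)
    have hu2 : d (d u) ≠ d u := fun h => hu (d.injective h)
    obtain ⟨h, hA, hh⟩ := exists_even ![x, c x, c (c x)] ![u, d u, d (d u)]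
      (by intro i j; fin_cases i <;> fin_cases j <;>
        simp [hx, hx', hx2, Ne.symm hx, Ne.symm hx', Ne.symm hx2])
      (by intro i j; fin_cases i <;> fin_cases j <;>
        simp [hu, hu', hu2, Ne.symm hu, Ne.symm hu', Ne.symm hu2])
      (by rw [Fintype.card_fin]; omega)
    exact ⟨h, hA, Finset.one_lt_card.2 ⟨x, by simpa using (congrArg d (hh 0)).trans (hh 1).symm,
      c x, by simpa using (congrArg d (hh 1)).trans (hh 2).symm, Ne.symm hx⟩⟩
  obtain ⟨x, y, hx, hy, hxy, hcxy, hcyx⟩ := exists_two_arcs c hc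
  obtain ⟨u, v, hu, hv, huv, hduv, hdvu⟩ := exists_two_arcs d hd
  have hxy' : c x ≠ c y := fun h => hxy (c.injective h)
  have huv' : d u ≠ d v := fun h => huv (d.injective h)
  obtain ⟨h, hh⟩ := Perm.exists_extending_pair ![x, c x, y, c y] ![u, d u, v, d v]
    (by intro i j; fin_cases i <;> fin_cases j <;>
      simp [hx, hy, hxy, hcxy, hcyx, hxy', Ne.symm hx, Ne.symm hy, Ne.symm hxy, Ne.symm hcxy,
        Ne.symm hcyx, Ne.symm hxy'])
    (by intro i j; fin_cases i <;> fin_cases j <;>
      simp [hu, hv, huv, hduv, hdvu, huv', Ne.symm hu, Ne.symm hv, Ne.symm huv, Ne.symm hduv,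
        Ne.symm hdvu, Ne.symm huv'])
  have h0 : h x = u := hh 0
  have h1 : h (c x) = d u := hh 1
  have h2 : h y = v := hh 2
  have h3 : h (c y) = d v := hh 3
  rcases Int.units_eq_one_or (Perm.sign h) with hs | hs
  · exact ⟨h, Perm.mem_alternatingGroup.2 hs, Finset.one_lt_card.2
      ⟨x, by simp [h0, h1], y, by simp [h2, h3], hxy⟩⟩
  refine ⟨swap u (d u) * h, Perm.mem_alternatingGroup.2 ?_, ?_⟩
  · rw [map_mul, Perm.sign_swap (Ne.symm hu), hs, neg_mul_neg, one_mul]
  have e0 : (swap u (d u) * h) x = d u := by rw [Perm.mul_apply, h0, swap_apply_left]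
  have e1 : (swap u (d u) * h) (c x) = u := by rw [Perm.mul_apply, h1, swap_apply_right]
  have e2 : (swap u (d u) * h) y = v := by
    rw [Perm.mul_apply, h2, swap_apply_of_ne_of_ne (Ne.symm huv) (Ne.symm hduv)]
  have e3 : (swap u (d u) * h) (c y) = d v := by
    rw [Perm.mul_apply, h3, swap_apply_of_ne_of_ne hdvu (Ne.symm huv')]
  rcases not_and_or.1 hpath with hn | hn
  · -- `c` is an involution
    push Not at hn
    refine Finset.one_lt_card.2 ⟨c x, ?_, y, by simp only [mem_filter, mem_univ, true_and]; rw [e2, e3], hcxy⟩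
    simp only [mem_filter, mem_univ, true_and]
    rw [hn x hx, e1, e0]
  · -- `d` is an involution
    push Not at hn
    refine Finset.one_lt_card.2 ⟨x, ?_, y, by simp only [mem_filter, mem_univ, true_and]; rw [e2, e3], hxy⟩
    simp only [mem_filter, mem_univ, true_and]
    rw [e0, e1, hn u hu]

/-- Averaging over the alternating group. -/
theorem average (h5 : 5 ≤ Fintype.card α) (c d : Perm α) :
    Fintype.card α * (Fintype.card α - 1) *
        ∑ h : alternatingGroup α, #{x | d ((h : Perm α) x) = (h : Perm α) (c x)} =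
      Fintype.card (alternatingGroup α) *
        (F c * ((Fintype.card α - 1) * F d) + (Fintype.card α - F c) * (Fintype.card α - F d)) := by
  set n := Fintype.card α with hn
  -- averages of functions of one point and of two distinct points
  have pt : ∀ (Φ : α → ℕ) (x : α), n * ∑ h : alternatingGroup α, Φ ((h : Perm α) x) =
      Fintype.card (alternatingGroup α) * ∑ z, Φ z := by
    intro Φ x
    have hc : ∀ y, ∑ h : alternatingGroup α, Φ ((h : Perm α) y) =
        ∑ h : alternatingGroup α, Φ ((h : Perm α) x) := by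
      intro y
      obtain ⟨g, hg, hg'⟩ := exists_even ![x] ![y] (Function.injective_of_subsingleton _)
        (Function.injective_of_subsingleton _) (by rw [Fintype.card_fin]; omega)
      refine Fintype.sum_equiv (Equiv.mulRight ⟨g, hg⟩) _ _ fun h => ?_
      exact congrArg (fun z => Φ ((h : Perm α) z)) (hg' 0).symm
    calc n * _ = ∑ y, ∑ h : alternatingGroup α, Φ ((h : Perm α) y) := by
          rw [Finset.sum_congr rfl fun y _ => hc y, sum_const, card_univ, smul_eq_mul]
      _ = ∑ h : alternatingGroup α, ∑ z, Φ z := by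
          rw [Finset.sum_comm]
          exact Finset.sum_congr rfl fun h _ => Equiv.sum_comp (h : Perm α) Φ
      _ = _ := by rw [sum_const, card_univ, smul_eq_mul]
  have pr : ∀ (Φ : α × α → ℕ) (x y : α), x ≠ y →
      n * (n - 1) * ∑ h : alternatingGroup α, Φ ((h : Perm α) x, (h : Perm α) y) =
        Fintype.card (alternatingGroup α) * ∑ p ∈ (univ : Finset α).offDiag, Φ p := by
    intro Φ x y hxy
    have hc : ∀ p ∈ (univ : Finset α).offDiag,
        ∑ h : alternatingGroup α, Φ ((h : Perm α) p.1, (h : Perm α) p.2) =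
          ∑ h : alternatingGroup α, Φ ((h : Perm α) x, (h : Perm α) y) := by
      intro p hp
      obtain ⟨g, hg, hg'⟩ := exists_even ![x, y] ![p.1, p.2]
        (by intro i j; fin_cases i <;> fin_cases j <;> simp [hxy, Ne.symm hxy])
        (by
          have := (mem_offDiag.1 hp).2.2
          intro i j; fin_cases i <;> fin_cases j <;> simp [this, Ne.symm this])
        (by rw [Fintype.card_fin]; omega)
      refine Fintype.sum_equiv (Equiv.mulRight ⟨g, hg⟩) _ _ fun h => ?_
      have e0 : g x = p.1 := hg' 0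
      have e1 : g y = p.2 := hg' 1
      simp [e0, e1]
    calc n * (n - 1) * _
        = ∑ p ∈ (univ : Finset α).offDiag,
            ∑ h : alternatingGroup α, Φ ((h : Perm α) p.1, (h : Perm α) p.2) := by
          rw [Finset.sum_congr rfl hc, sum_const, offDiag_card, card_univ, smul_eq_mul, ← hn,
            Nat.mul_sub_one]
      _ = ∑ h : alternatingGroup α, ∑ p ∈ (univ : Finset α).offDiag, Φ p := by
          rw [Finset.sum_comm]
          refine Finset.sum_congr rfl fun h _ => ?_
          exact Finset.sum_equiv ((h : Perm α).prodCongr (h : Perm α))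
            (fun p => by simp [mem_offDiag]) fun p _ => rfl
      _ = _ := by rw [sum_const, card_univ, smul_eq_mul]
  have hmoved : ∀ σ : Perm α, #{z | ¬ σ z = z} = n - F σ := by
    intro σ
    have := Finset.card_filter_add_card_filter_not (s := (univ : Finset α)) (fun z => σ z = z)
    rw [card_univ] at this
    unfold F; omega
  have key : ∀ x, n * (n - 1) *
      ∑ h : alternatingGroup α, (if d ((h : Perm α) x) = (h : Perm α) (c x) then 1 else 0) =
      if c x = x then Fintype.card (alternatingGroup α) * ((n - 1) * F d)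
        else Fintype.card (alternatingGroup α) * (n - F d) := by
    intro x
    split
    next hx =>
      rw [hx, mul_comm n, mul_assoc,
        pt (fun z => if d z = z then 1 else 0) x, ← mul_assoc, mul_comm (n - 1), mul_assoc]
      congr 2
      rw [sum_boole, Nat.cast_id]; rfl
    next hx =>
      rw [pr (fun p => if d p.1 = p.2 then 1 else 0) x (c x) (Ne.symm hx), sum_boole, Nat.cast_id,
        ← hmoved d]
      congr 1
      refine (Finset.card_bij' (fun z _ => (z, d z)) (fun p _ => p.1) ?_ ?_ ?_ ?_).symm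
      · intro z hz; simpa [mem_offDiag, eq_comm] using hz
      · intro p hp
        simp only [mem_filter, mem_offDiag, mem_univ, true_and] at hp ⊢
        exact fun h => hp.1 (h.symm.trans hp.2)
      · intro z hz; rfl
      · intro p hp
        simp only [mem_filter] at hp
        rw [hp.2]
  simp_rw [Finset.card_filter]
  rw [Finset.sum_comm, mul_sum, Finset.sum_congr rfl fun x _ => key x, sum_ite, sum_const,
    sum_const, smul_eq_mul, smul_eq_mul, hmoved c, mul_add]
  unfold F
  ring

theorem not_const (h5 : 5 ≤ Fintype.card α) (a b : Perm α) (ha : a ≠ 1) (hb : b ≠ 1)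
    (hab : F a ≤ F b) (K : ℕ)
    (hK : ∀ h ∈ alternatingGroup α, F (a * (h⁻¹ * b * h)) = K) : False := by
  have hcount : ∀ h ∈ alternatingGroup α, #{x | b (h x) = h (a⁻¹ x)} = K := by
    intro h hh
    rw [← hK h hh]
    unfold F
    congr 1
    ext x
    rw [mem_filter, mem_filter]
    simp only [mem_univ, true_and]
    simp only [Perm.mul_apply]
    constructor <;> intro e
    · rw [e, Perm.coe_inv, Equiv.symm_apply_apply, Perm.coe_inv, Equiv.apply_symm_apply]
    · apply h⁻¹.injective
      rw [Perm.coe_inv, Equiv.symm_apply_apply]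
      apply a.injective
      rw [Perm.coe_inv, Equiv.apply_symm_apply]
      exact e
  have hav := average h5 a⁻¹ b
  rw [Finset.sum_congr rfl fun (h : alternatingGroup α) _ => hcount h h.2, sum_const, card_univ,
    smul_eq_mul, F_inv] at hav
  have hA : 0 < Fintype.card (alternatingGroup α) := Fintype.card_pos
  have heq : Fintype.card α * (Fintype.card α - 1) * K =
      F a * ((Fintype.card α - 1) * F b) + (Fintype.card α - F a) * (Fintype.card α - F b) :=
    Nat.eq_of_mul_eq_mul_left hA (by rw [← hav]; ring)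
  have hai : a⁻¹ ≠ 1 := inv_ne_one.2 ha
  have h2a := F_add_le ha
  have h2b := F_add_le hb
  have hlow : (2 ≤ F a → F a ≤ K) ∧ (F a = 1 → 2 ≤ K) ∧ (F a = 0 → F b = 1 → 2 ≤ K) := by
    refine ⟨fun _ => ?_, fun h1 => ?_, fun h0 h1 => ?_⟩
    · obtain ⟨h, hh, hle⟩ := exists_many_common h5 a⁻¹ b hai (by rwa [F_inv])
      rwa [hcount h hh, F_inv] at hle
    · obtain ⟨o, ho⟩ : ∃ o, o ∈ ({x | a⁻¹ x = x} : Finset α) :=
        Finset.card_pos.1 (show 0 < F a⁻¹ by rw [F_inv]; omega)
      obtain ⟨z, hz⟩ : ∃ z, z ∈ ({x | b x = x} : Finset α) :=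
        Finset.card_pos.1 (show 0 < F b by omega)
      obtain ⟨h, hh, hle⟩ := two_le_of_fixed h5 a⁻¹ b hai hb
        (Finset.mem_filter.1 ho).2 (Finset.mem_filter.1 hz).2
      rwa [hcount h hh] at hle
    · obtain ⟨h, hh, hle⟩ := two_le_of_arcs h5 a⁻¹ b (by rw [F_inv]; omega) (by omega)
      rwa [hcount h hh] at hle
  obtain ⟨m, hm⟩ : ∃ m, Fintype.card α = m + 1 := ⟨Fintype.card α - 1, by omega⟩
  rw [hm] at heq h2a h2b h5
  obtain ⟨l1, l2, l3⟩ := hlow
  have heq' : (m : ℤ) * ((K : ℤ) - 1) = ((F a : ℤ) - 1) * ((F b : ℤ) - 1) := by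
    have h := congrArg (fun k : ℕ => (k : ℤ)) heq
    simp only [Nat.add_sub_cancel, Nat.cast_mul, Nat.cast_add, Nat.cast_sub (show F a ≤ m + 1 by omega),
      Nat.cast_sub (show F b ≤ m + 1 by omega), Nat.cast_one] at h
    have h' : ((m : ℤ) + 1) * ((m : ℤ) * ((K : ℤ) - 1)) =
        ((m : ℤ) + 1) * (((F a : ℤ) - 1) * ((F b : ℤ) - 1)) := by linear_combination h
    exact mul_left_cancel₀ (by positivity) h'
  rcases lt_trichotomy (F a) 1 with h | h | h
  · have h0 : F a = 0 := by omega
    rw [h0] at heq'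
    rcases Nat.lt_or_ge K 2 with hk | hk
    · interval_cases K
      · simp only [Nat.cast_zero] at heq'
        omega
      · exact absurd (l3 h0 (by simp only [Nat.cast_zero, Nat.cast_one] at heq'; omega)) (by norm_num)
    · push_cast at heq'
      nlinarith [mul_le_mul_of_nonneg_left (show (1 : ℤ) ≤ (K : ℤ) - 1 by omega) (Int.natCast_nonneg m)]
  · have := l2 h
    rw [h] at heq'
    push_cast at heq'
    nlinarith [mul_le_mul_of_nonneg_left (show (1 : ℤ) ≤ (K : ℤ) - 1 by omega) (Int.natCast_nonneg m)]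
  · have := l1 h
    nlinarith [mul_le_mul_of_nonneg_left (show (F a : ℤ) - 1 ≤ (K : ℤ) - 1 by omega) (Int.natCast_nonneg m),
      mul_lt_mul_of_pos_left (show (F b : ℤ) - 1 < (m : ℤ) by omega) (show (0 : ℤ) < (F a : ℤ) - 1 by omega)]

end

/-- Let n ≥ 5 and let a, b be non-identity permutations in the symmetric group S_n. Then the number of fixed points is not constant on the set of products a′b′ with a′ conjugate to a and b′ conjugate to b under the alternating group: there are even permutations g₁, h₁, g₂, h₂ such that (g₁ a g₁⁻¹)(h₁ b h₁⁻¹) and (g₂ a g₂⁻¹)(h₂ b h₂⁻¹) have different numbers of fixed points. -/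
theorem result (n : ℕ) (hn : 5 ≤ n) (a b : Equiv.Perm (Fin n)) (ha : a ≠ 1) (hb : b ≠ 1) :
    ∃ g₁ h₁ g₂ h₂ : Equiv.Perm (Fin n), g₁ ∈ alternatingGroup (Fin n) ∧ h₁ ∈ alternatingGroup (Fin n) ∧ g₂ ∈ alternatingGroup (Fin n) ∧ h₂ ∈ alternatingGroup (Fin n) ∧
      Nat.card (Function.fixedPoints ⇑(g₁ * a * g₁⁻¹ * (h₁ * b * h₁⁻¹))) ≠
        Nat.card (Function.fixedPoints ⇑(g₂ * a * g₂⁻¹ * (h₂ * b * h₂⁻¹))) := by
  by_contra! hcon
  obtain ⟨hK, -⟩ : (∀ h ∈ alternatingGroup (Fin n), F (a * (h⁻¹ * b * h)) = F (a * b)) ∧ True := by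
    refine ⟨fun h hh => ?_, trivial⟩
    have := hcon 1 h⁻¹ 1 1 (one_mem _) (inv_mem hh) (one_mem _) (one_mem _)
    simpa only [natCard_fixed, one_mul, inv_one, mul_one, inv_inv] using this
  have h5 : 5 ≤ Fintype.card (Fin n) := by rwa [Fintype.card_fin]
  rcases le_total (F a) (F b) with hab | hab
  · exact not_const h5 a b ha hb hab _ hK
  · refine not_const h5 b a hb ha hab (F (a * b)) fun h hh => ?_
    rw [← hK h⁻¹ (inv_mem hh), inv_inv, F_mul_comm b, ← F_conj h (h⁻¹ * a * h * b)]
    congr 1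
    group

end Cfsg.Agent.S2271
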