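import Cfsg.Statements.S2272
import Mathlib

set_option autoImplicit false
open Cfsg

namespace Cfsg.Agent.S2272

open Matrix Module

section

variable {F : Type*} [Field F] {d : ℕ}

theorem exists_basis {k : ℕ} {v : Fin k → (Fin d → F)} (hv : LinearIndependent F v) :
    ∃ b : Basis (Fin k ⊕ Fin (d - k)) F (Fin d → F), ∀ i, b (Sum.inl i) = v i := by
  classical
  let B := Basis.sumExtend hv
  haveI : Fintype (Fin k ⊕ Basis.sumExtendIndex hv) := FiniteDimensional.fintypeBasisIndex B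
  haveI : Fintype (Basis.sumExtendIndex hv) := Fintype.sumRight (α := Fin k)
  have hc : Fintype.card (Basis.sumExtendIndex hv) = d - k := by
    have h := finrank_eq_card_basis B
    rw [finrank_fintype_fun_eq_card, Fintype.card_fin, ← Nat.card_eq_fintype_card, Nat.card_sum,
      Nat.card_fin, Nat.card_eq_fintype_card] at h
    omega
  refine ⟨B.reindex (Equiv.sumCongr (Equiv.refl _) (Fintype.equivFinOfCardEq hc)), fun i => ?_⟩
  simp only [Basis.reindex_apply, Equiv.sumCongr_symm, Equiv.sumCongr_apply, Sum.map_inl]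
  simp [B, Basis.sumExtend]
  rfl

/-- A special linear map moving one independent pair to another. -/
theorem exists_sl_map (hd : 3 ≤ d) {w w' u v : Fin d → F} (h₁ : LinearIndependent F ![w, w'])
    (h₂ : LinearIndependent F ![u, v]) :
    ∃ g : Matrix.SpecialLinearGroup (Fin d) F, g.1 *ᵥ w = u ∧ g.1 *ᵥ w' = v := by
  classical
  obtain ⟨b₁, hb₁⟩ := exists_basis h₁
  obtain ⟨b₂, hb₂⟩ := exists_basis h₂
  let L : (Fin d → F) ≃ₗ[F] (Fin d → F) := b₁.equiv b₂ (Equiv.refl _)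
  have hc0 : LinearMap.det (L : (Fin d → F) →ₗ[F] (Fin d → F)) ≠ 0 := (LinearEquiv.isUnit_det' L).ne_zero
  set c := LinearMap.det (L : (Fin d → F) →ₗ[F] (Fin d → F)) with hc
  let j : Fin 2 ⊕ Fin (d - 2) := Sum.inr ⟨0, by omega⟩
  let s : Fin 2 ⊕ Fin (d - 2) → F := Function.update 1 j c⁻¹
  let D : (Fin d → F) →ₗ[F] (Fin d → F) := Matrix.toLin b₂ b₂ (Matrix.diagonal s)
  have hD : ∀ i, D (b₂ i) = s i • b₂ i := fun i => by
    simp [D, Matrix.toLin_self, Matrix.diagonal_apply, Finset.sum_ite_eq']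
  have hdetD : LinearMap.det D = c⁻¹ := by
    rw [LinearMap.det_toLin, Matrix.det_diagonal, Finset.prod_update_of_mem (Finset.mem_univ _)]
    simp
  let M : (Fin d → F) →ₗ[F] (Fin d → F) := D.comp (L : (Fin d → F) →ₗ[F] (Fin d → F))
  refine ⟨⟨LinearMap.toMatrix' M, ?_⟩, ?_, ?_⟩
  · rw [LinearMap.det_toMatrix']
    show LinearMap.det (D.comp _) = 1
    rw [LinearMap.det_comp, hdetD, ← hc, inv_mul_cancel₀ hc0]
  all_goals
    show LinearMap.toMatrix' M *ᵥ _ = _
    rw [LinearMap.toMatrix'_mulVec]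
  · have h := hb₁ 0
    simp only [Matrix.cons_val_zero] at h
    rw [← h]
    show D (L (b₁ _)) = _
    rw [Basis.equiv_apply, Equiv.refl_apply, hD, hb₂]
    simp [s, j]
  · have h := hb₁ 1
    simp only [Matrix.cons_val_one, Matrix.cons_val_zero] at h
    rw [← h]
    show D (L (b₁ _)) = _
    rw [Basis.equiv_apply, Equiv.refl_apply, hD, hb₂]
    simp [s, j]

/-- A matrix that is not scalar moves some line. -/
theorem exists_not_eigen (hd : 2 ≤ d) (A : Matrix.SpecialLinearGroup (Fin d) F)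
    (hA : A ∉ Subgroup.center (Matrix.SpecialLinearGroup (Fin d) F)) :
    ∃ w : Fin d → F, LinearIndependent F ![w, A.1 *ᵥ w] := by
  classical
  by_contra! hno
  have heig : ∀ w : Fin d → F, ∃ c : F, A.1 *ᵥ w = c • w := by
    intro w
    rcases eq_or_ne w 0 with rfl | hw
    · exact ⟨0, by simp⟩
    have h := hno w
    rw [LinearIndependent.pair_iff' hw] at h
    push Not at h
    obtain ⟨c, hc⟩ := h
    exact ⟨c, hc.symm⟩
  choose c hc using fun i : Fin d => heig (Pi.single i 1)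
  have hconst : ∀ i j, c i = c j := by
    intro i j
    rcases eq_or_ne i j with rfl | hij
    · rfl
    obtain ⟨e, he⟩ := heig (Pi.single i 1 + Pi.single j 1)
    rw [Matrix.mulVec_add, hc, hc] at he
    have hi := congrFun he i
    have hj := congrFun he j
    simp [hij, Ne.symm hij] at hi hj
    rw [hi, hj]
  have hscal : A.1 = Matrix.scalar (Fin d) (c ⟨0, by omega⟩) := by
    ext i j
    have h := congrFun (hc j) i
    rw [Matrix.mulVec_single_one] at h
    rw [Matrix.scalar_apply]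
    rcases eq_or_ne i j with rfl | hij
    · simpa [hconst i ⟨0, by omega⟩] using h
    · simpa [hij] using h
  refine hA (Matrix.SpecialLinearGroup.mem_center_iff.2 ⟨c ⟨0, by omega⟩, ?_, hscal.symm⟩)
  have h := A.2
  rw [hscal, Matrix.scalar_apply, Matrix.det_diagonal] at h
  simpa using h

theorem trace_mul_vecMulVec (M : Matrix (Fin d) (Fin d) F) (u φ : Fin d → F) :
    (M * vecMulVec u φ).trace = φ ⬝ᵥ (M *ᵥ u) := by
  rw [Matrix.mul_vecMulVec, Matrix.trace_vecMulVec, dotProduct_comm]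

end

/-- Let F be a finite field and d ≥ 3, and let a, b be non-identity elements of PSL_d(F). Then the product of the conjugacy classes of a and b is not a single conjugacy class: there are conjugates a′ of a and b′ of b such that a′b′ is not conjugate to ab. -/
theorem result {F : Type*} [Field F] [Fintype F] (d : ℕ) (hd : 3 ≤ d)
    (a b : Matrix.ProjectiveSpecialLinearGroup (Fin d) F) (ha : a ≠ 1) (hb : b ≠ 1) :
    ∃ g h : Matrix.ProjectiveSpecialLinearGroup (Fin d) F, ¬ IsConj (a * b) (g * a * g⁻¹ * (h * b * h⁻¹)) := by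
  classical
  obtain ⟨A, rfl⟩ := QuotientGroup.mk'_surjective _ a
  obtain ⟨B, rfl⟩ := QuotientGroup.mk'_surjective _ b
  by_contra! hcon
  obtain ⟨u, hu⟩ := exists_not_eigen (by omega) A fun h => ha ((QuotientGroup.eq_one_iff A).2 h)
  obtain ⟨w, hw⟩ := exists_not_eigen (by omega) B fun h => hb ((QuotientGroup.eq_one_iff B).2 h)
  obtain ⟨bA, hbA⟩ := exists_basis hu
  have hbA0 : bA (Sum.inl 0) = u := hbA 0
  have hbA1 : bA (Sum.inl 1) = A.1 *ᵥ u := hbA 1
  set v : Fin d → F := bA (Sum.inr ⟨0, by omega⟩) with hv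
  have huv : LinearIndependent F ![u, v] := by
    have h := bA.linearIndependent.comp ![Sum.inl 0, Sum.inr ⟨0, by omega⟩]
      (by intro i j; fin_cases i <;> fin_cases j <;> simp)
    convert h using 1
    funext i
    fin_cases i <;> simp [hv, hbA0]
  obtain ⟨g, hgw, hgw'⟩ := exists_sl_map hd hw huv
  set B' := g * B * g⁻¹ with hB'
  have hB'u : B'.1 *ᵥ u = v := by
    rw [← hgw, Matrix.mulVec_mulVec, ← Matrix.SpecialLinearGroup.coe_mul, hB', inv_mul_cancel_right,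
      Matrix.SpecialLinearGroup.coe_mul, ← Matrix.mulVec_mulVec, hgw']
  -- two functionals killing `u`
  let vec : ((Fin d → F) →ₗ[F] F) → (Fin d → F) := fun f i => f (Pi.single i 1)
  have hvec : ∀ (f : (Fin d → F) →ₗ[F] F) (x : Fin d → F), vec f ⬝ᵥ x = f x := by
    intro f x
    conv_rhs => rw [pi_eq_sum_univ' x, map_sum]
    exact Finset.sum_congr rfl fun i _ => by
      rw [map_smul, smul_eq_mul, mul_comm]
  set φ₁ := vec (bA.coord (Sum.inl 1))
  set φ₂ := vec (bA.coord (Sum.inr ⟨0, by omega⟩))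
  have e1 : φ₁ ⬝ᵥ u = 0 ∧ φ₁ ⬝ᵥ (A.1 *ᵥ u) = 1 ∧ φ₁ ⬝ᵥ v = 0 := by
    refine ⟨?_, ?_, ?_⟩ <;> simp only [φ₁, hvec]
    · rw [← hbA0]; simp
    · rw [← hbA1]; simp
    · rw [hv]; simp
  have e2 : φ₂ ⬝ᵥ u = 0 ∧ φ₂ ⬝ᵥ (A.1 *ᵥ u) = 0 ∧ φ₂ ⬝ᵥ v = 1 := by
    refine ⟨?_, ?_, ?_⟩ <;> simp only [φ₂, hvec]
    · rw [← hbA0]; simp
    · rw [← hbA1]; simp
    · rw [hv]; simp
  -- the traces take every value
  set l₁ := φ₁ ⬝ᵥ (B'.1 *ᵥ (A.1 *ᵥ u)) - φ₁ ⬝ᵥ (A.1 *ᵥ (B'.1 *ᵥ u)) with hl₁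
  set l₂ := φ₂ ⬝ᵥ (B'.1 *ᵥ (A.1 *ᵥ u)) - φ₂ ⬝ᵥ (A.1 *ᵥ (B'.1 *ᵥ u)) with hl₂
  have hval : ∀ z : F, ∃ C : Matrix.SpecialLinearGroup (Fin d) F,
      IsConj (QuotientGroup.mk' (Subgroup.center (Matrix.SpecialLinearGroup (Fin d) F)) A *
        QuotientGroup.mk' (Subgroup.center (Matrix.SpecialLinearGroup (Fin d) F)) B)
        (QuotientGroup.mk' (Subgroup.center (Matrix.SpecialLinearGroup (Fin d) F)) C) ∧
      C.1.trace = z := by
    intro z
    set y := l₁ - 1 with hy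
    set x := z - (A.1 * B'.1).trace - y * l₂ with hx
    set φ := x • φ₁ + y • φ₂ with hφ
    have hφu : φ ⬝ᵥ u = 0 := by simp [hφ, add_dotProduct, e1.1, e2.1]
    set E := vecMulVec u φ with hE
    have hEE : E * E = 0 := by
      rw [hE, vecMulVec_mul_vecMulVec, hφu, zero_smul]
      ext i j
      simp [vecMulVec_apply]
    have hdet : (1 + E).det = 1 := by
      rw [hE, vecMulVec_eq Unit, det_one_add_replicateCol_mul_replicateRow, hφu, add_zero]
    let T : Matrix.SpecialLinearGroup (Fin d) F := ⟨1 + E, hdet⟩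
    have hTinv : (T⁻¹).1 = 1 - E := by
      have h1 : (T⁻¹).1 * T.1 = 1 := by
        rw [← Matrix.SpecialLinearGroup.coe_mul, inv_mul_cancel, Matrix.SpecialLinearGroup.coe_one]
      calc (T⁻¹).1 = (T⁻¹).1 * ((1 + E) * (1 - E)) := by
            rw [mul_sub, mul_one, add_mul, one_mul, hEE, add_zero, add_sub_cancel_right, mul_one]
        _ = 1 - E := by rw [← mul_assoc, show (T⁻¹).1 * (1 + E) = 1 from h1, one_mul]
    refine ⟨A * (T * B' * T⁻¹), ?_, ?_⟩
    · have h := hcon 1 (QuotientGroup.mk' _ (T * g))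
      simp only [one_mul, inv_one, mul_one, ← map_inv, ← map_mul] at h
      rw [← map_mul]
      convert h using 3
      rw [hB']
      group
    · rw [Matrix.SpecialLinearGroup.coe_mul, Matrix.SpecialLinearGroup.coe_mul,
        Matrix.SpecialLinearGroup.coe_mul, hTinv]
      show (A.1 * ((1 + E) * B'.1 * (1 - E))).trace = z
      have hexp : A.1 * ((1 + E) * B'.1 * (1 - E)) =
          A.1 * B'.1 + A.1 * E * B'.1 - A.1 * B'.1 * E - A.1 * (E * B'.1 * E) := by
        noncomm_ring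
      have t1 : (A.1 * E * B'.1).trace = φ ⬝ᵥ (B'.1 *ᵥ (A.1 *ᵥ u)) := by
        rw [Matrix.trace_mul_comm, ← mul_assoc, hE, trace_mul_vecMulVec, Matrix.mulVec_mulVec]
      have t2 : (A.1 * B'.1 * E).trace = φ ⬝ᵥ (A.1 *ᵥ (B'.1 *ᵥ u)) := by
        rw [hE, trace_mul_vecMulVec, Matrix.mulVec_mulVec]
      have t3 : (A.1 * (E * B'.1 * E)).trace = (φ ⬝ᵥ (A.1 *ᵥ u)) * (φ ⬝ᵥ (B'.1 *ᵥ u)) := by
        rw [hE, mul_assoc (vecMulVec u φ), Matrix.mul_vecMulVec, vecMulVec_mul_vecMulVec,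
          trace_mul_vecMulVec, smul_dotProduct, smul_eq_mul, mul_comm]
      rw [hexp, Matrix.trace_sub, Matrix.trace_sub, Matrix.trace_add, t1, t2, t3, hB'u]
      rw [hB'u] at hl₁ hl₂
      simp only [hφ, add_dotProduct, smul_dotProduct, smul_eq_mul, e1.2.1, e1.2.2, e2.2.1, e2.2.2]
      linear_combination (-x) * hl₁ + (-y) * hl₂ + hx - x * hy
  have hscal : ∀ C₁ C₂ : Matrix.SpecialLinearGroup (Fin d) F,
      IsConj (QuotientGroup.mk' (Subgroup.center (Matrix.SpecialLinearGroup (Fin d) F)) C₁)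
        (QuotientGroup.mk' (Subgroup.center (Matrix.SpecialLinearGroup (Fin d) F)) C₂) →
      ∃ r : F, C₂.1.trace = r * C₁.1.trace ∧ r ≠ 0 := by
    intro C₁ C₂ h
    obtain ⟨k, hk⟩ := isConj_iff.1 h
    obtain ⟨K, rfl⟩ := QuotientGroup.mk'_surjective _ k
    rw [← map_inv, ← map_mul, ← map_mul] at hk
    obtain ⟨r, hr1, hr⟩ := Matrix.SpecialLinearGroup.mem_center_iff.1 (QuotientGroup.eq.1 hk)
    refine ⟨r, ?_, fun h0 => by
      rw [h0, zero_pow (by rw [Fintype.card_fin]; omega)] at hr1; exact zero_ne_one hr1⟩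
    have hC : C₂ = (K * C₁ * K⁻¹) * ((K * C₁ * K⁻¹)⁻¹ * C₂) := (mul_inv_cancel_left _ _).symm
    rw [hC, Matrix.SpecialLinearGroup.coe_mul, ← hr, Matrix.scalar_apply, ← Matrix.smul_one_eq_diagonal,
      mul_smul_comm, mul_one, Matrix.trace_smul, smul_eq_mul, Matrix.SpecialLinearGroup.coe_mul,
      Matrix.trace_mul_comm, ← Matrix.SpecialLinearGroup.coe_mul, inv_mul_cancel_left]
  obtain ⟨C₀, hC₀, h0⟩ := hval 0
  obtain ⟨C₁, hC₁, h1⟩ := hval 1
  obtain ⟨r, hr, -⟩ := hscal C₀ C₁ (hC₀.symm.trans hC₁)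
  rw [h0, h1, mul_zero] at hr
  exact one_ne_zero hr

end Cfsg.Agent.S2272
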