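import Cfsg.Statements.S2276
import Cfsg.Agent.Lib.Perm.SolvableCycle
import Cfsg.Agent.Lib.SpinCover.PairDecomp

set_option autoImplicit false
open Cfsg

namespace Cfsg.Agent.S2276

open Equiv Subgroup
open scoped commutatorElement
open Cfsg.Agent.SpinCover.PairDecomp (carry carry_apply cycleType_carry formPerm_type)

variable {p : ℕ}

/-- The pair of properties asked for. -/
def Good (p : ℕ) {α : Type*} (u w : Perm α) : Prop :=
  (∀ k : ℕ, (u * w) ^ p ^ k ≠ 1) ∧ ¬ Group.IsSolvable ↥(closure ({u, w} : Set (Perm α)))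

/-- Some even conjugate of `w` is good with `u`. -/
def Places (p : ℕ) {n : ℕ} (u w : Perm (Fin n)) : Prop :=
  ∃ σ : Perm (Fin n), Perm.sign σ = 1 ∧ Good p u (σ * w * σ⁻¹)

theorem places_symm {n : ℕ} {u w : Perm (Fin n)} (h : Places p w u) : Places p u w := by
  obtain ⟨σ, hσ, hpow, hsol⟩ := h
  refine ⟨σ⁻¹, by rw [map_inv, hσ, inv_one], fun k hk => hpow k ?_, fun hs => hsol ?_⟩
  · have h1 : w * (σ * u * σ⁻¹) = (w * σ) * (u * (σ⁻¹ * w * σ⁻¹⁻¹)) * (w * σ)⁻¹ := by group
    rw [h1, conj_pow, hk, mul_one, mul_inv_cancel]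
  · have h1 : (closure ({u, σ⁻¹ * w * σ⁻¹⁻¹} : Set (Perm (Fin n)))).map (MulAut.conj σ).toMonoidHom
        = closure {w, σ * u * σ⁻¹} := by
      rw [MonoidHom.map_closure, Set.image_pair, Set.pair_comm]
      congr 2
      · simp [MulAut.conj_apply, mul_assoc]
    rw [← h1]
    exact Group.isSolvable_of_surjective
      ((MulAut.conj σ).toMonoidHom.subgroupMap_surjective _)

/-- Transfer along an injection intertwining the pairs. -/
theorem good_of_intertwine {a n : ℕ} (f : Fin a → Fin n) (hf : Function.Injective f)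
    {u w : Perm (Fin n)} {u0 w0 : Perm (Fin a)} (hu : ∀ i, u (f i) = f (u0 i))
    (hw : ∀ i, w (f i) = f (w0 i)) (h : Good p u0 w0) : Good p u w := by
  obtain ⟨hpow, hsol⟩ := h
  let R : Subgroup (Perm (Fin n) × Perm (Fin a)) :=
    { carrier := {x | ∀ i, x.1 (f i) = f (x.2 i)}
      one_mem' := fun i => rfl
      mul_mem' := fun {x y} hx hy i => by
        show x.1 (y.1 (f i)) = _
        rw [hy, hx]; rfl
      inv_mem' := fun {x} hx i => by
        show x.1⁻¹ (f i) = f (x.2⁻¹ i)
        rw [Perm.inv_eq_iff_eq, hx]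
        simp }
  constructor
  · intro k hk
    have hR : ((u * w) ^ p ^ k, (u0 * w0) ^ p ^ k) ∈ R := by
      have : ((u, u0) * (w, w0)) ^ p ^ k ∈ R :=
        pow_mem (mul_mem (show (u, u0) ∈ R from hu) (show (w, w0) ∈ R from hw)) _
      exact this
    refine hpow k (Equiv.ext fun i => hf ?_)
    have := hR i
    rw [hk] at this
    exact this.symm
  · intro hs
    set C := closure ({(u, u0), (w, w0)} : Set (Perm (Fin n) × Perm (Fin a)))
    have hCR : C ≤ R := (closure_le R).2 (by
      rintro x (rfl | rfl)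
      · exact hu
      · exact hw)
    have h1 : C.map (MonoidHom.fst _ _) = closure {u, w} := by
      rw [MonoidHom.map_closure, Set.image_pair]; rfl
    have h2 : C.map (MonoidHom.snd _ _) = closure {u0, w0} := by
      rw [MonoidHom.map_closure, Set.image_pair]; rfl
    let φ : C →* ↥(closure ({u, w} : Set (Perm (Fin n)))) :=
      ((MonoidHom.fst _ _).comp C.subtype).codRestrict _
        (fun x => h1 ▸ mem_map_of_mem _ x.2)
    have hφ : Function.Injective φ := fun x y hxy => by
      have e : (x : Perm (Fin n) × Perm (Fin a)).1 = (y : Perm (Fin n) × Perm (Fin a)).1 :=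
        congrArg Subtype.val hxy
      refine Subtype.ext (Prod.ext e (Equiv.ext fun i => hf ?_))
      rw [← hCR x.2 i, ← hCR y.2 i, e]
    haveI : Group.IsSolvable C := Group.isSolvable_of_isSolvable_injective hφ
    exact hsol (h2 ▸ Group.isSolvable_of_surjective ((MonoidHom.snd _ _).subgroupMap_surjective C))

theorem exists_extension {a n : ℕ} (g f : Fin a → Fin n) (hg : Function.Injective g)
    (hf : Function.Injective f) : ∃ σ : Perm (Fin n), ∀ i, σ (g i) = f i := by
  classical
  refine ⟨Equiv.extendSubtype (p := fun x => x ∈ Set.range g) (q := fun x => x ∈ Set.range f)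
    ((Equiv.ofInjective g hg).symm.trans (Equiv.ofInjective f hf)), fun i => ?_⟩
  rw [Equiv.extendSubtype_apply_of_mem _ _ ⟨i, rfl⟩]
  simp

/-- Placing a model. -/
theorem places_of_model {a n : ℕ} (g f : Fin a → Fin n) (hg : Function.Injective g)
    (hf : Function.Injective f) {u w : Perm (Fin n)} {u0 w1 : Perm (Fin a)}
    (hu : ∀ i, u (f i) = f (u0 i)) (hw : ∀ i, w (g i) = g (w1 i))
    (h : ∀ ε : ℤˣ, ∃ ρ : Perm (Fin a), Perm.sign ρ = ε ∧ Good p u0 (ρ * w1 * ρ⁻¹)) :
    Places p u w := by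
  classical
  obtain ⟨σ₀, hσ₀⟩ := exists_extension g f hg hf
  obtain ⟨ρ, hρ, hgood⟩ := h (Perm.sign σ₀)
  refine ⟨σ₀ * carry g hg ρ, ?_, good_of_intertwine f hf hu ?_ hgood⟩
  · have : Perm.sign (carry g hg ρ) = Perm.sign ρ := by
      rw [Perm.sign_of_cycleType, cycleType_carry, ← Perm.sign_of_cycleType]
    rw [map_mul, this, hρ, Int.units_mul_self]
  · intro j
    have hj : ∀ i, (σ₀ * carry g hg ρ) (g i) = f (ρ i) := fun i => by
      rw [Perm.mul_apply, carry_apply, hσ₀]
    obtain ⟨i, rfl⟩ := ρ.surjective j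
    rw [show (ρ * w1 * ρ⁻¹) (ρ i) = ρ (w1 i) by simp, ← hj (w1 i), ← hw, ← hj i]
    simp [mul_assoc]

/-- The restriction to an invariant set. -/
theorem exists_restrict {n : ℕ} (w : Perm (Fin n)) (S : Finset (Fin n))
    (hS : ∀ x ∈ S, w x ∈ S) {a : ℕ} (ha : S.card = a) :
    ∃ (g : Fin a → Fin n) (w1 : Perm (Fin a)), Function.Injective g ∧ (∀ i, g i ∈ S) ∧
      (∀ i, w (g i) = g (w1 i)) ∧ (∀ k : ℕ, w ^ k = 1 → w1 ^ k = 1) ∧
      w1.support.card = (S.filter fun x => w x ≠ x).card := by
  classical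
  set g : Fin a → Fin n := fun i => S.orderEmbOfFin ha i
  have hg : Function.Injective g := (S.orderEmbOfFin ha).injective
  have hmem : ∀ i, g i ∈ S := fun i => S.orderEmbOfFin_mem ha i
  have hsurj : ∀ x ∈ S, ∃ i, g i = x := fun x hx => by
    have : x ∈ Set.range (S.orderEmbOfFin ha) := by rw [Finset.range_orderEmbOfFin]; exact hx
    exact this
  choose r hr using hsurj
  have hinj : Function.Injective fun i => r (w (g i)) (hS _ (hmem i)) := fun i j hij => by
    have := congrArg g hij
    simp only at this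
    rw [hr, hr] at this
    exact hg (w.injective this)
  set w1 := Equiv.ofBijective _ ⟨hinj, Finite.injective_iff_surjective.1 hinj⟩
  have hw1 : ∀ i, w (g i) = g (w1 i) := fun i => (hr _ (hS _ (hmem i))).symm
  have hpow : ∀ (k : ℕ) (i : Fin a), (w ^ k) (g i) = g ((w1 ^ k) i) := by
    intro k
    induction k with
    | zero => intro i; simp
    | succ k ih => intro i; rw [pow_succ', Perm.mul_apply, ih, hw1, ← Perm.mul_apply, ← pow_succ']
  refine ⟨g, w1, hg, hmem, hw1, fun k hk => Equiv.ext fun i => hg ?_, ?_⟩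
  · rw [← hpow, hk]; rfl
  · rw [← Finset.card_image_of_injective _ hg]
    congr 1
    ext x
    simp only [Finset.mem_image, Perm.mem_support, Finset.mem_filter]
    constructor
    · rintro ⟨i, hi, rfl⟩
      exact ⟨hmem i, by rw [hw1]; exact fun e => hi (hg e)⟩
    · rintro ⟨hx, hwx⟩
      exact ⟨r x hx, fun e => hwx (by rw [← hr x hx, hw1, e]), hr x hx⟩

/-- An element of odd `p`-power order fixing `x` in its square fixes `x`. -/
theorem ne_one_of_two_cycle {α : Type*} (hp : Odd p) {π : Perm α} {x : α} (h2 : π (π x) = x)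
    (h1 : π x ≠ x) (k : ℕ) : π ^ p ^ k ≠ 1 := by
  intro hk
  obtain ⟨m, hm⟩ := hp.pow (n := k)
  have hfix : ∀ j : ℕ, (π ^ (2 * j)) x = x := by
    intro j
    induction j with
    | zero => simp
    | succ j ih =>
      rw [show 2 * (j + 1) = 2 + 2 * j by ring, pow_add, Perm.mul_apply, ih, sq, Perm.mul_apply, h2]
  refine h1 ?_
  rw [hm, pow_succ', ] at hk
  have := Equiv.congr_fun hk x
  rw [Perm.mul_apply, hfix] at this
  exact this

/-- Elements of orders two, three and five with product one obstruct solvability. -/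
theorem not_solvable_235 {G : Type*} [Group G] {H : Subgroup G} {a b : G} (ha : a ∈ H) (hb : b ∈ H)
    (ha2 : a * a = 1) (hb3 : b * b * b = 1)
    (hab : (a * b) * (a * b) * (a * b) * (a * b) * (a * b) = 1) (hne : b ≠ 1) :
    ¬ Group.IsSolvable H := by
  intro hs
  set A : H := ⟨a, ha⟩
  set B : H := ⟨b, hb⟩
  have hmem : ∀ k, A ∈ derivedSeries H k ∧ B ∈ derivedSeries H k := by
    intro k
    induction k with
    | zero => simp
    | succ k ih =>
      set D := derivedSeries H k
      haveI : (⁅D, D⁆ : Subgroup H).Normal := derivedSeries_normal H (k + 1)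
      set q := QuotientGroup.mk' (⁅D, D⁆ : Subgroup H)
      have hc : q A * q B = q B * q A := by
        rw [← map_mul, ← map_mul]
        apply (QuotientGroup.eq).2
        have : (A * B)⁻¹ * (B * A) = ⁅B⁻¹, A⁻¹⁆ := by rw [commutatorElement_def]; group
        rw [this]
        exact Subgroup.commutator_mem_commutator (inv_mem ih.2) (inv_mem ih.1)
      have h2 : q A * q A = 1 := by
        rw [← map_mul, show A * A = 1 from Subtype.ext ha2, map_one]
      have h3 : q B * q B * q B = 1 := by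
        rw [← map_mul, ← map_mul, show B * B * B = 1 from Subtype.ext hb3, map_one]
      have h5 : (q A * q B) ^ 5 = 1 := by
        rw [← map_mul, ← map_pow, show (A * B) ^ 5 = 1 from Subtype.ext (by
          rw [Subgroup.coe_pow, pow_succ, pow_succ, pow_succ, pow_succ, pow_one]; exact hab),
          map_one]
      have hcom : Commute (q A) (q B) := hc
      have hAB : q A * (q B * q B) = 1 := by
        rw [hcom.mul_pow, show q A ^ 5 = q A * q A * (q A * q A) * q A by
          simp [pow_succ, mul_assoc], show q B ^ 5 = q B * q B * q B * (q B * q B) by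
          simp [pow_succ, mul_assoc], h2, h3, one_mul, one_mul, one_mul] at h5
        exact h5
      have hB : q A = q B := by
        have : q A * (q B * q B * q B) = q B := by rw [← mul_assoc, hAB, one_mul]
        rwa [h3, mul_one] at this
      have hA1 : q A = 1 := by
        have h3' := h3
        rw [← hB, h2, one_mul] at h3'
        exact h3'
      rw [derivedSeries_succ]
      exact ⟨(QuotientGroup.eq_one_iff A).1 hA1, (QuotientGroup.eq_one_iff B).1 (show q B = 1 by rw [← hB]; exact hA1)⟩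
  obtain ⟨k, hk⟩ := (Group.isSolvable_def H).1 hs
  have := (hmem k).2
  rw [hk, Subgroup.mem_bot] at this
  exact hne (congrArg Subtype.val this)

theorem ne_one_of_coprime {α : Type*} {π : Perm α} {o : ℕ} (hp : p.Prime) (ho : ¬ p ∣ o)
    (h1 : π ^ o = 1) (hne : π ≠ 1) (k : ℕ) : π ^ p ^ k ≠ 1 := by
  intro hk
  have hc : Nat.Coprime o (p ^ k) :=
    Nat.Coprime.pow_right _ ((hp.coprime_iff_not_dvd.2 ho).symm)
  exact hne (orderOf_eq_one_iff.1 (Nat.eq_one_of_dvd_coprimes hc (orderOf_dvd_of_pow_eq_one h1)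
    (orderOf_dvd_of_pow_eq_one hk)))

/-- Two models differing by an odd permutation give both parities. -/
theorem both_parities {a : ℕ} {u0 w1 w0 w0' π : Perm (Fin a)} (hπ : Perm.sign π = -1)
    (hconj : π * w0 * π⁻¹ = w0') (hT : w1.cycleType = w0.cycleType) (h : Good p u0 w0)
    (h' : Good p u0 w0') (ε : ℤˣ) :
    ∃ ρ : Perm (Fin a), Perm.sign ρ = ε ∧ Good p u0 (ρ * w1 * ρ⁻¹) := by
  obtain ⟨r, hr⟩ := isConj_iff.1 (Perm.isConj_iff_cycleType_eq.2 hT)
  by_cases hs : Perm.sign r = ε
  · exact ⟨r, hs, hr ▸ h⟩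
  · refine ⟨π * r, ?_, ?_⟩
    · rw [map_mul, hπ]
      rcases Int.units_eq_one_or (Perm.sign r) with e | e <;>
        rcases Int.units_eq_one_or ε with e' | e' <;> simp_all
    · rw [show π * r * w1 * (π * r)⁻¹ = π * (r * w1 * r⁻¹) * π⁻¹ by group, hr, hconj]
      exact h'

def u5 : Perm (Fin 5) := finRotate 5
def x5 : Perm (Fin 5) := [0, 2, 1, 4, 3].formPerm
def y5 : Perm (Fin 5) := [0, 1, 2, 4, 3].formPerm
def u3 : Perm (Fin 5) := [0, 1, 2].formPerm
def w3 : Perm (Fin 5) := [0, 3, 4].formPerm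
def u6 : Perm (Fin 6) := [0, 1, 2].formPerm * [3, 4, 5].formPerm
def w6 : Perm (Fin 6) := [0, 1, 3].formPerm
def v6 : Perm (Fin 6) := [0, 1, 3].formPerm * [2, 5, 4].formPerm

theorem mem_pair {α : Type*} (u w : Perm α) :
    u ∈ closure ({u, w} : Set (Perm α)) ∧ w ∈ closure ({u, w} : Set (Perm α)) :=
  ⟨subset_closure (Set.mem_insert _ _), subset_closure (Set.mem_insert_of_mem _ rfl)⟩

theorem good_x5 : Good 5 u5 x5 :=
  ⟨ne_one_of_coprime (o := 3) (by norm_num) (by norm_num) (by decide +kernel) (by decide +kernel),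
    not_solvable_235 (a := u5 * u5 * x5) (b := u5 * x5)
      (mul_mem (mul_mem (mem_pair u5 x5).1 (mem_pair u5 x5).1) (mem_pair u5 x5).2)
      (mul_mem (mem_pair u5 x5).1 (mem_pair u5 x5).2)
      (by decide +kernel) (by decide +kernel) (by decide +kernel) (by decide +kernel)⟩

theorem good_y5 : Good 5 u5 y5 :=
  ⟨ne_one_of_coprime (o := 2) (by norm_num) (by norm_num) (by decide +kernel) (by decide +kernel),
    not_solvable_235 (a := u5 * y5) (b := u5 * u5 * u5 * y5)
      (mul_mem (mem_pair u5 y5).1 (mem_pair u5 y5).2)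
      (mul_mem (mul_mem (mul_mem (mem_pair u5 y5).1 (mem_pair u5 y5).1) (mem_pair u5 y5).1)
        (mem_pair u5 y5).2)
      (by decide +kernel) (by decide +kernel) (by decide +kernel) (by decide +kernel)⟩

theorem good_w3 : Good 3 u3 w3 :=
  ⟨ne_one_of_coprime (o := 5) (by norm_num) (by norm_num) (by decide +kernel) (by decide +kernel),
    not_solvable_235 (a := u3 * u3 * w3 * u3 * w3) (b := u3)
      (mul_mem (mul_mem (mul_mem (mul_mem (mem_pair u3 w3).1 (mem_pair u3 w3).1) (mem_pair u3 w3).2)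
        (mem_pair u3 w3).1) (mem_pair u3 w3).2)
      (mem_pair u3 w3).1
      (by decide +kernel) (by decide +kernel) (by decide +kernel) (by decide +kernel)⟩

theorem good_w6 : Good 3 u6 w6 :=
  ⟨ne_one_of_coprime (o := 4) (by norm_num) (by norm_num) (by decide +kernel) (by decide +kernel),
    not_solvable_235 (a := u6 * w6 * u6 * w6) (b := u6)
      (mul_mem (mul_mem (mul_mem (mem_pair u6 w6).1 (mem_pair u6 w6).2) (mem_pair u6 w6).1)
        (mem_pair u6 w6).2)
      (mem_pair u6 w6).1
      (by decide +kernel) (by decide +kernel) (by decide +kernel) (by decide +kernel)⟩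

theorem good_v6 : Good 3 u6 v6 :=
  ⟨ne_one_of_coprime (o := 5) (by norm_num) (by norm_num) (by decide +kernel) (by decide +kernel),
    not_solvable_235 (a := u6 * u6 * v6 * u6 * v6) (b := u6)
      (mul_mem (mul_mem (mul_mem (mul_mem (mem_pair u6 v6).1 (mem_pair u6 v6).1) (mem_pair u6 v6).2)
        (mem_pair u6 v6).1) (mem_pair u6 v6).2)
      (mem_pair u6 v6).1
      (by decide +kernel) (by decide +kernel) (by decide +kernel) (by decide +kernel)⟩

/-- The model of a long cycle. -/
theorem big_model [hp : Fact p.Prime] (hp2 : p ≠ 2) {a i : ℕ} (hi : 1 ≤ i) (ha : a = p ^ i)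
    (h7 : 7 ≤ a) {u1 w1 : Perm (Fin a)} (hu : u1.cycleType = {a}) (hne : w1 ≠ 1)
    (hw : ∃ k : ℕ, w1 ^ p ^ k = 1) (ε : ℤˣ) :
    ∃ ρ : Perm (Fin a), Perm.sign ρ = ε ∧ Good p u1 (ρ * w1 * ρ⁻¹) := by
  classical
  have hodd : Odd p := hp.out.odd_of_ne_two hp2
  have hcyc : u1.IsCycle := by rw [← Perm.card_cycleType_eq_one, hu, Multiset.card_singleton]
  have hsupp : u1.support = Finset.univ := Finset.eq_univ_of_card _ (by
    rw [← Perm.sum_cycleType, hu, Multiset.sum_singleton, Fintype.card_fin])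
  have hmv : ∀ x, u1 x ≠ x := fun x => Perm.mem_support.1 (hsupp ▸ Finset.mem_univ x)
  set x0 : Fin a := ⟨0, by omega⟩
  have hord : orderOf u1 = a := by rw [hcyc.orderOf, hsupp, Finset.card_univ, Fintype.card_fin]
  have hreach : ∀ x, ∃ k : ℕ, (u1 ^ k) x0 = x := fun x =>
    (hcyc.sameCycle (hmv x0) (hmv x)).exists_nat_pow_eq
  let t : ℕ → Fin a := fun k => (u1 ^ k) x0
  have htinj : ∀ k l, k < a → l < a → t k = t l → k = l := by
    intro k l hk hl hkl
    have h : u1 ^ k = u1 ^ l := hcyc.pow_eq_pow_iff.2 ⟨x0, hmv x0, hkl⟩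
    rw [pow_eq_pow_iff_modEq, hord] at h
    exact h.eq_of_lt_of_lt hk hl
  have htu : ∀ k, u1 (t k) = t (k + 1) := fun k => by
    show u1 ((u1 ^ k) x0) = (u1 ^ (k + 1)) x0
    rw [pow_succ', Perm.mul_apply]
  -- what the pattern gives
  have hgood : ∀ w0 : Perm (Fin a), (∃ k : ℕ, w0 ^ p ^ k = 1) →
      (w0 (t 1) = t 2 ∧ w0 (t 3) = t 0 ∨ w0 (t 1) = t 1 ∧ w0 (t 2) = t 0) → Good p u1 w0 := by
    intro w0 hw0 hpat
    constructor
    · rcases hpat with ⟨h1, h2⟩ | ⟨h1, h2⟩
      · refine ne_one_of_two_cycle hodd (x := t 1) ?_ ?_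
        · simp only [Perm.mul_apply, h1, htu, h2]
        · rw [Perm.mul_apply, h1, htu]
          exact fun e => absurd (htinj 3 1 (by omega) (by omega) e) (by omega)
      · refine ne_one_of_two_cycle hodd (x := t 2) ?_ ?_
        · simp only [Perm.mul_apply, h1, htu, h2]
        · rw [Perm.mul_apply, h2, htu]
          exact fun e => absurd (htinj 1 2 (by omega) (by omega) e) (by omega)
    · intro hs
      set K := closure ({u1, w0} : Set (Perm (Fin a)))
      obtain ⟨k, hk⟩ := hw0
      obtain ⟨β, hβ⟩ := Cfsg.Agent.Perm.SolvableCycle.residue (p := p) hp2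
        (⟨u1, (mem_pair u1 w0).1⟩ : K) (⟨w0, (mem_pair u1 w0).2⟩ : K)
        ⟨k, Subtype.ext (by rw [Subgroup.coe_pow]; exact hk)⟩ i (Ω := Fin a) hi
        (by rw [Nat.card_fin, ha]) x0 (fun x => by
          obtain ⟨j, hj⟩ := hreach x
          exact ⟨j, hj⟩)
      rcases hpat with ⟨h1, h2⟩ | ⟨h1, h2⟩
      · have e1 := hβ 1 2 h1.symm
        have e2 := hβ 3 0 h2.symm
        push_cast at e1 e2
        have h4 : ((4 : ℕ) : ZMod p) = 0 := by push_cast; linear_combination e1 - e2
        rw [ZMod.natCast_eq_zero_iff] at h4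
        have : p ∣ 2 ^ 2 := h4
        exact hp2 ((Nat.prime_dvd_prime_iff_eq hp.out Nat.prime_two).1 (hp.out.dvd_of_dvd_pow this))
      · have e1 := hβ 1 1 h1.symm
        have e2 := hβ 2 0 h2.symm
        push_cast at e1 e2
        have h4 : ((2 : ℕ) : ZMod p) = 0 := by push_cast; linear_combination e1 - e2
        rw [ZMod.natCast_eq_zero_iff] at h4
        exact hp2 ((Nat.prime_dvd_prime_iff_eq hp.out Nat.prime_two).1 h4)
  -- points to be moved into the pattern
  obtain ⟨k, hk⟩ := hw
  obtain ⟨x, hx⟩ : ∃ x, w1 x ≠ x := by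
    by_contra! h; exact hne (Equiv.ext h)
  have hx2 : w1 (w1 x) ≠ x := fun e =>
    ne_one_of_two_cycle hodd e hx k hk
  obtain ⟨P, T, hP, hT, hpat⟩ : ∃ P T : Fin 4 → Fin a, Function.Injective P ∧
      Function.Injective T ∧ (∀ σ : Perm (Fin a), (∀ j, σ (P j) = T j) →
        ((σ * w1 * σ⁻¹) (t 1) = t 2 ∧ (σ * w1 * σ⁻¹) (t 3) = t 0 ∨
          (σ * w1 * σ⁻¹) (t 1) = t 1 ∧ (σ * w1 * σ⁻¹) (t 2) = t 0)) := by
    have hTinj : Function.Injective ![t 1, t 2, t 3, t 0] := by
      intro i j hij
      fin_cases i <;> fin_cases j <;> first | rfl | (exfalso; simp at hij; exact absurd (htinj _ _ (by omega) (by omega) hij) (by omega))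
    have hmain : ∀ y z : Fin a, z = w1 y → y ≠ x → y ≠ w1 x → z ≠ x → z ≠ w1 x → z ≠ y →
        ∃ P T : Fin 4 → Fin a, Function.Injective P ∧
      Function.Injective T ∧ (∀ σ : Perm (Fin a), (∀ j, σ (P j) = T j) →
        ((σ * w1 * σ⁻¹) (t 1) = t 2 ∧ (σ * w1 * σ⁻¹) (t 3) = t 0 ∨
          (σ * w1 * σ⁻¹) (t 1) = t 1 ∧ (σ * w1 * σ⁻¹) (t 2) = t 0)) := by
      intro y z hz h1 h2 h3 h4 h5
      refine ⟨![x, w1 x, y, z], ![t 1, t 2, t 3, t 0], ?_, hTinj, fun σ hσ => Or.inl ⟨?_, ?_⟩⟩
      · intro i j hij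
        fin_cases i <;> fin_cases j <;> first | rfl | (exfalso; simp at hij; first | exact hx hij | exact hx hij.symm | exact h1 hij | exact h1 hij.symm | exact h2 hij | exact h2 hij.symm | exact h3 hij | exact h3 hij.symm | exact h4 hij | exact h4 hij.symm | exact h5 hij | exact h5 hij.symm)
      · rw [← show σ x = t 1 from hσ 0, ← show σ (w1 x) = t 2 from hσ 1]; simp
      · rw [← show σ y = t 3 from hσ 2, ← show σ z = t 0 from hσ 3, hz]; simp
    by_cases h3 : w1 (w1 (w1 x)) = x
    · obtain ⟨y, hy⟩ : ∃ y, y ∉ ({x, w1 x, w1 (w1 x)} : Finset (Fin a)) := by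
        by_contra! h
        have h' := Finset.card_le_card (fun y _ => h y : (Finset.univ : Finset (Fin a)) ⊆ _)
        rw [Finset.card_univ, Fintype.card_fin] at h'
        have := h'.trans Finset.card_le_three
        omega
      simp only [Finset.mem_insert, Finset.mem_singleton, not_or] at hy
      obtain ⟨hy1, hy2, hy3⟩ := hy
      by_cases hwy : w1 y = y
      · refine ⟨![y, x, w1 x, w1 (w1 x)], ![t 1, t 2, t 0, t 3], ?_, ?_,
          fun σ hσ => Or.inr ⟨?_, ?_⟩⟩
        · intro i j hij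
          fin_cases i <;> fin_cases j <;> first | rfl | (exfalso; simp at hij; first | exact hx hij | exact hx hij.symm | exact hy1 hij | exact hy1 hij.symm | exact hy2 hij | exact hy2 hij.symm | exact hy3 hij | exact hy3 hij.symm | exact hx2 hij | exact hx2 hij.symm)
        · intro i j hij
          fin_cases i <;> fin_cases j <;> first | rfl | (exfalso; simp at hij; exact absurd (htinj _ _ (by omega) (by omega) hij) (by omega))
        · rw [← show σ y = t 1 from hσ 0]; simp [hwy]
        · rw [← show σ x = t 2 from hσ 1, ← show σ (w1 x) = t 0 from hσ 2]; simp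
      · exact hmain y (w1 y) rfl hy1 hy2 (fun e => hy3 (w1.injective (e.trans h3.symm)))
          (fun e => hy1 (w1.injective e)) hwy
    · exact hmain (w1 (w1 x)) (w1 (w1 (w1 x))) rfl hx2 (fun e => hx (w1.injective e)) h3
        (fun e => hx2 (w1.injective e)) (fun e => hx (w1.injective (w1.injective e)))
  obtain ⟨σ, hσ⟩ := exists_extension P T hP hT
  obtain ⟨r, s, hrs, hr, hs⟩ : ∃ r s, r ≠ s ∧ (∀ j, T j ≠ r) ∧ ∀ j, T j ≠ s := by
    have h : 1 < ((Finset.univ.image T)ᶜ : Finset (Fin a)).card := by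
      rw [Finset.card_compl, Finset.card_image_of_injective _ hT, Finset.card_univ,
        Fintype.card_fin, Fintype.card_fin]
      omega
    obtain ⟨r, hr, s, hs, hrs⟩ := Finset.one_lt_card.1 h
    simp at hr hs
    exact ⟨r, s, hrs, hr, hs⟩
  have hpe : ∀ τ : Perm (Fin a), (τ * w1 * τ⁻¹) ^ p ^ k = 1 := fun τ => by
    rw [conj_pow, hk, mul_one, mul_inv_cancel]
  by_cases hsgn : Perm.sign σ = ε
  · exact ⟨σ, hsgn, hgood _ ⟨k, hpe σ⟩ (hpat σ hσ)⟩
  · refine ⟨swap r s * σ, ?_, hgood _ ⟨k, hpe _⟩ (hpat _ fun j => ?_)⟩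
    · rw [map_mul, Perm.sign_swap hrs]
      rcases Int.units_eq_one_or (Perm.sign σ) with e | e <;>
        rcases Int.units_eq_one_or ε with e' | e' <;> simp_all
    · rw [Perm.mul_apply, hσ, swap_apply_of_ne_of_ne (hr j) (hs j)]

/-- Parts that are powers of `p` fill up a bigger power. -/
theorem packing (hp : 0 < p) {ι : Type*} [DecidableEq ι] (c : ι → ℕ) :
    ∀ j, ∀ C : Finset ι, (∀ x ∈ C, ∃ l, l ≤ j ∧ c x = p ^ l) → p ^ j ≤ ∑ x ∈ C, c x →
      ∃ D ⊆ C, ∑ x ∈ D, c x = p ^ j := by
  intro j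
  induction j with
  | zero =>
    intro C hC hsum
    obtain ⟨x, hx⟩ : C.Nonempty := Finset.nonempty_of_sum_ne_zero (f := c) (by
      rw [pow_zero] at hsum; omega)
    obtain ⟨l, hl, hcx⟩ := hC x hx
    exact ⟨{x}, Finset.singleton_subset_iff.2 hx, by
      rw [Finset.sum_singleton, hcx, Nat.le_zero.1 hl]⟩
  | succ j ih =>
    intro C hC hsum
    by_cases hbig : ∃ x ∈ C, c x = p ^ (j + 1)
    · obtain ⟨x, hx, hcx⟩ := hbig
      exact ⟨{x}, Finset.singleton_subset_iff.2 hx, by rw [Finset.sum_singleton, hcx]⟩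
    push Not at hbig
    have hC' : ∀ x ∈ C, ∃ l, l ≤ j ∧ c x = p ^ l := fun x hx => by
      obtain ⟨l, hl, hcx⟩ := hC x hx
      refine ⟨l, ?_, hcx⟩
      by_contra h
      exact hbig x hx (by rw [hcx, show l = j + 1 by omega])
    have hstep : ∀ r, r ≤ p → ∃ D ⊆ C, ∑ x ∈ D, c x = r * p ^ j := by
      intro r
      induction r with
      | zero => exact fun _ => ⟨∅, Finset.empty_subset _, by simp⟩
      | succ r ihr =>
        intro hr
        obtain ⟨D, hD, hDs⟩ := ihr (by omega)
        have h1 := Finset.sum_sdiff (f := c) hD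
        obtain ⟨E, hE, hEs⟩ := ih (C \ D) (fun x hx => hC' x (Finset.mem_sdiff.1 hx).1) (by
          have : (r + 1) * p ^ j ≤ p ^ (j + 1) := by
            rw [pow_succ', ]; exact Nat.mul_le_mul_right _ hr
          rw [add_mul, one_mul] at this
          omega)
        refine ⟨D ∪ E, Finset.union_subset hD (hE.trans Finset.sdiff_subset), ?_⟩
        rw [Finset.sum_union (Finset.disjoint_of_subset_right hE Finset.disjoint_sdiff), hDs, hEs,
          add_mul, one_mul]
    obtain ⟨D, hD, hDs⟩ := hstep p le_rfl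
    exact ⟨D, hD, by rw [hDs, pow_succ']⟩

theorem union_cycles_invariant {n : ℕ} (w : Perm (Fin n)) (D : Finset (Perm (Fin n)))
    (hD : D ⊆ w.cycleFactorsFinset) :
    (∀ x ∈ D.biUnion Perm.support, w x ∈ D.biUnion Perm.support) ∧
      (D.biUnion Perm.support).card = ∑ c ∈ D, c.support.card ∧
      D.biUnion Perm.support ⊆ w.support := by
  classical
  refine ⟨fun x hx => ?_, Finset.card_biUnion fun c hc d hd hcd => ?_, ?_⟩
  · obtain ⟨c, hc, hxc⟩ := Finset.mem_biUnion.1 hx
    refine Finset.mem_biUnion.2 ⟨c, hc, ?_⟩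
    rw [← (Perm.mem_cycleFactorsFinset_iff.1 (hD hc)).2 x hxc]
    exact Perm.apply_mem_support.2 hxc
  · exact (Perm.cycleFactorsFinset_pairwise_disjoint w (hD hc) (hD hd) hcd).disjoint_support
  · intro x hx
    obtain ⟨c, hc, hxc⟩ := Finset.mem_biUnion.1 hx
    exact Perm.mem_cycleFactorsFinset_support_le (hD hc) hxc

/-- Adjoining fixed points. -/
theorem exists_pad {n : ℕ} (w : Perm (Fin n)) {a : ℕ} (h1 : w.support.card ≤ a) (h2 : a ≤ n) :
    ∃ S : Finset (Fin n), S.card = a ∧ (∀ x ∈ S, w x ∈ S) ∧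
      (S.filter fun x => w x ≠ x).card = w.support.card := by
  classical
  obtain ⟨S, hS1, -, hS2⟩ := Finset.exists_subsuperset_card_eq (Finset.subset_univ w.support) h1
    (by rw [Finset.card_univ, Fintype.card_fin]; exact h2)
  refine ⟨S, hS2, fun x hx => ?_, ?_⟩
  · by_cases hwx : w x = x
    · rwa [hwx]
    · exact hS1 (Perm.apply_mem_support.2 (Perm.mem_support.2 hwx))
  · congr 1
    ext x
    simp only [Finset.mem_filter, Perm.mem_support]
    exact ⟨fun h => h.2, fun h => ⟨hS1 (Perm.mem_support.2 h), h⟩⟩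

theorem cycleType_prime {a m : ℕ} [hp : Fact p.Prime] {w1 : Perm (Fin a)} (h : w1 ^ p = 1)
    (hm : w1.support.card = m * p) : w1.cycleType = Multiset.replicate m p := by
  have hall : ∀ c ∈ w1.cycleType, c = p := fun c hc => by
    have h1 := (Perm.dvd_of_mem_cycleType hc).trans (orderOf_dvd_of_pow_eq_one h)
    rcases (Nat.dvd_prime hp.out).1 h1 with e | e
    · exact absurd e (by have := Perm.two_le_of_mem_cycleType hc; omega)
    · exact e
  refine Multiset.eq_replicate.2 ⟨?_, hall⟩
  have := w1.sum_cycleType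
  rw [Multiset.eq_replicate.2 ⟨rfl, hall⟩, Multiset.sum_replicate, hm, smul_eq_mul] at this
  exact Nat.eq_of_mul_eq_mul_right hp.out.pos this

/-- Some cycle has length at least five. -/
theorem places_long [hp : Fact p.Prime] (hp2 : p ≠ 2) {n : ℕ} {u w : Perm (Fin n)}
    (hw : w ≠ 1) {ku kw : ℕ} (hku : u ^ p ^ ku = 1) (hkw : w ^ p ^ kw = 1) {a : ℕ}
    (ha : a ∈ u.cycleType) (h5 : 5 ≤ a) (hmax : ∀ b ∈ w.cycleType, b ≤ a) : Places p u w := by
  classical
  obtain ⟨i, -, hai⟩ := (Nat.dvd_prime_pow hp.out).1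
    ((Perm.dvd_of_mem_cycleType ha).trans (orderOf_dvd_of_pow_eq_one hku))
  have hi : 1 ≤ i := Nat.pos_of_ne_zero fun e => by rw [e, pow_zero] at hai; omega
  obtain ⟨c, τ, hcτ, hd, hc, hca⟩ := Perm.mem_cycleType_iff.1 ha
  -- the cycle of `u`
  have hagree : ∀ x ∈ c.support, u x = c x := fun x hx => by
    rw [hcτ, Perm.mul_apply, (hd x).resolve_left (Perm.mem_support.1 hx)]
  obtain ⟨f, u1, hf, hfmem, hu, -, hu1⟩ := exists_restrict u c.support
    (fun x hx => by rw [hagree x hx]; exact Perm.apply_mem_support.2 hx) hca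
  have hu1T : u1.cycleType = {a} := by
    have heq : carry f hf u1 = c := by
      ext x
      by_cases hx : x ∈ Set.range f
      · obtain ⟨j, rfl⟩ := hx
        rw [carry_apply, ← hu, hagree _ (hfmem j)]
      · rw [Cfsg.Agent.SpinCover.PairDecomp.carry_fix f hf _ hx]
        have hcs : x ∉ c.support := fun hxc => hx (by
          have : Finset.univ.image f = c.support := Finset.eq_of_subset_of_card_le
            (fun y hy => by obtain ⟨j, -, rfl⟩ := Finset.mem_image.1 hy; exact hfmem j)
            (by rw [Finset.card_image_of_injective _ hf, Finset.card_univ, Fintype.card_fin, hca])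
          obtain ⟨j, -, hj⟩ := Finset.mem_image.1 (this.ge hxc)
          exact ⟨j, hj⟩)
        rw [Perm.notMem_support.1 hcs]
    rw [← cycleType_carry f hf u1, heq, hc.cycleType, hca]
  -- the chunk of `w`
  have han : a ≤ n := by
    have := c.support.card_le_univ
    rw [hca, Fintype.card_fin] at this; exact this
  obtain ⟨S, hScard, hSinv, hSne⟩ : ∃ S : Finset (Fin n), S.card = a ∧ (∀ x ∈ S, w x ∈ S) ∧
      (S.filter fun x => w x ≠ x).card ≠ 0 := by
    by_cases hle : w.support.card ≤ a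
    · obtain ⟨S, h1, h2, h3⟩ := exists_pad w hle han
      exact ⟨S, h1, h2, by rw [h3, Ne, Perm.card_support_eq_zero]; exact hw⟩
    · obtain ⟨D, hD, hDs⟩ := packing hp.out.pos (fun d : Perm (Fin n) => d.support.card) i
        w.cycleFactorsFinset (fun d hdw => by
          have hmem : d.support.card ∈ w.cycleType := by
            rw [Perm.cycleType_def]; exact Multiset.mem_map_of_mem _ hdw
          obtain ⟨l, -, hl⟩ := (Nat.dvd_prime_pow hp.out).1
            ((Perm.dvd_of_mem_cycleType hmem).trans (orderOf_dvd_of_pow_eq_one hkw))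
          refine ⟨l, (Nat.pow_le_pow_iff_right hp.out.one_lt).1 ?_, hl⟩
          rw [← hl, ← hai]; exact hmax _ hmem)
        (by
          rw [← hai]
          have := w.sum_cycleType
          rw [Perm.cycleType_def] at this
          exact le_of_not_ge fun h => hle (this ▸ h))
      obtain ⟨h1, h2, h3⟩ := union_cycles_invariant w D hD
      refine ⟨D.biUnion Perm.support, by rw [h2, hDs, hai], h1, ?_⟩
      rw [Finset.filter_true_of_mem fun x hx => Perm.mem_support.1 (h3 hx), h2, hDs]
      exact (pow_pos hp.out.pos i).ne'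
  obtain ⟨g, w1, hg, -, hw1, hpow, hwsupp⟩ := exists_restrict w S hSinv hScard
  have hw1ne : w1 ≠ 1 := fun e => hSne (by rw [← hwsupp, e]; simp)
  have hw1k := hpow _ hkw
  rcases Nat.lt_or_ge a 7 with h7 | h7
  · -- five points
    have hp5 : p = 5 ∧ a = 5 := by
      have hdvd : p ∣ a := hai ▸ dvd_pow_self p (by omega)
      interval_cases a
      · exact ⟨(Nat.prime_dvd_prime_iff_eq hp.out (by norm_num)).1 hdvd, rfl⟩
      · exfalso
        have h2 : (2 : ℕ) ∣ p ^ i := hai ▸ by norm_num
        exact hp2 ((Nat.prime_dvd_prime_iff_eq Nat.prime_two hp.out).1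
          (Nat.prime_two.dvd_of_dvd_pow h2)).symm
    obtain ⟨rfl, rfl⟩ := hp5
    have hT5 : u5.cycleType = {5} := cycleType_finRotate
    obtain ⟨r, hr⟩ := isConj_iff.1 (Perm.isConj_iff_cycleType_eq.2 (hT5.trans hu1T.symm))
    have h15 : w1 ^ 5 = 1 := by
      have hdvd := orderOf_dvd_of_pow_eq_one hw1k
      have hall : ∀ d ∈ w1.cycleType, d = 5 := fun d hd => by
        obtain ⟨l, -, hl⟩ := (Nat.dvd_prime_pow hp.out).1 ((Perm.dvd_of_mem_cycleType hd).trans hdvd)
        have hle : d ≤ 5 := (Perm.le_card_support_of_mem_cycleType hd).trans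
          (w1.support.card_le_univ.trans (by rw [Fintype.card_fin]))
        have h2 := Perm.two_le_of_mem_cycleType hd
        rcases l with - | - | l
        · simp at hl; omega
        · simpa using hl
        · exfalso
          have : 5 ^ 2 ≤ d := hl ▸ Nat.pow_le_pow_right (by norm_num) (by omega)
          omega
      rw [← orderOf_dvd_iff_pow_eq_one, ← Perm.lcm_cycleType]
      exact Multiset.lcm_dvd.2 fun d hd => (hall d hd) ▸ dvd_rfl
    have hT : w1.cycleType = x5.cycleType := by
      have hsum := w1.sum_cycleType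
      have hall : ∀ d ∈ w1.cycleType, d = 5 := fun d hd => by
        rcases (Nat.dvd_prime hp.out).1 ((Perm.dvd_of_mem_cycleType hd).trans
          (orderOf_dvd_of_pow_eq_one h15)) with e | e
        · have := Perm.two_le_of_mem_cycleType hd; omega
        · exact e
      rw [Multiset.eq_replicate.2 ⟨rfl, hall⟩, Multiset.sum_replicate, smul_eq_mul] at hsum
      have hle : w1.support.card ≤ 5 := w1.support.card_le_univ.trans (by rw [Fintype.card_fin])
      have hpos : w1.support.card ≠ 0 := by rw [Ne, Perm.card_support_eq_zero]; exact hw1ne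
      rw [show x5.cycleType = {5} from formPerm_type _ (by decide) (by decide),
        cycleType_prime h15 (m := 1) (by omega)]
      rfl
    refine places_of_model g (f ∘ r) hg (hf.comp r.injective) (u0 := u5) ?_ hw1
      (both_parities (π := swap 1 2) (by decide) (by decide : swap 1 2 * x5 * (swap 1 2)⁻¹ = y5) hT
        good_x5 good_y5)
    intro j
    show u (f (r j)) = f (r (u5 j))
    rw [hu, ← hr]
    simp
  · exact places_of_model g f hg hf hu hw1 (big_model hp2 hi hai h7 hu1T hw1ne ⟨kw, hw1k⟩)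

theorem pow_three_of_small {n : ℕ} {w : Perm (Fin n)} (hall : ∀ b ∈ w.cycleType, b = 3) :
    w ^ 3 = 1 := by
  rw [← orderOf_dvd_iff_pow_eq_one, ← Perm.lcm_cycleType]
  exact Multiset.lcm_dvd.2 fun d hd => (hall d hd) ▸ dvd_rfl

/-- A chunk of a permutation of order three. -/
theorem exists_chunk [Fact (Nat.Prime 3)] {n : ℕ} {w : Perm (Fin n)} (hw3 : w ^ 3 = 1)
    {m a : ℕ} (hm : m = 1 ∨ m = 2) (hmw : w.support.card = 3 ∧ m = 1 ∨
      6 ≤ w.support.card ∧ m = 2) (hma : 3 * m ≤ a) (han : a ≤ n) (h6 : m = 2 → a = 6) :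
    ∃ (g : Fin a → Fin n) (w1 : Perm (Fin a)), Function.Injective g ∧
      (∀ i, w (g i) = g (w1 i)) ∧ w1.cycleType = Multiset.replicate m 3 := by
  classical
  obtain ⟨S, hS, hSinv, hSf⟩ : ∃ S : Finset (Fin n), S.card = a ∧ (∀ x ∈ S, w x ∈ S) ∧
      (S.filter fun x => w x ≠ x).card = m * 3 := by
    rcases hmw with ⟨h3, rfl⟩ | ⟨h6', rfl⟩
    · obtain ⟨S, h1, h2, h3'⟩ := exists_pad w (by omega) han
      exact ⟨S, h1, h2, by omega⟩
    · have hcard : ∀ d ∈ w.cycleFactorsFinset, d.support.card = 3 := fun d hdw => by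
        have hmem : d.support.card ∈ w.cycleType := by
          rw [Perm.cycleType_def]; exact Multiset.mem_map_of_mem _ hdw
        rcases (Nat.dvd_prime (Fact.out : Nat.Prime 3)).1
          ((Perm.dvd_of_mem_cycleType hmem).trans (orderOf_dvd_of_pow_eq_one hw3)) with e | e
        · have := Perm.two_le_of_mem_cycleType hmem; omega
        · exact e
      have hsum : w.cycleFactorsFinset.card * 3 = w.support.card := by
        rw [← Perm.sum_cycleType, Perm.cycleType_def, ← smul_eq_mul]
        exact (Finset.sum_const_nat (m := 3) hcard).symm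
      obtain ⟨D, hD, hD2⟩ := Finset.exists_subset_card_eq (s := w.cycleFactorsFinset) (n := 2)
        (by omega)
      obtain ⟨h1, h2, h3⟩ := union_cycles_invariant w D hD
      have hc6 : (D.biUnion Perm.support).card = 6 := by
        rw [h2, Finset.sum_const_nat (m := 3) (fun d hd => hcard d (hD hd)), hD2]
      refine ⟨D.biUnion Perm.support, by rw [hc6, h6 rfl], h1, ?_⟩
      rw [Finset.filter_true_of_mem fun x hx => Perm.mem_support.1 (h3 hx), hc6]
  obtain ⟨g, w1, hg, -, hw1, hpow, hsupp⟩ := exists_restrict w S hSinv hS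
  exact ⟨g, w1, hg, hw1, cycleType_prime (hpow 3 hw3) (hsupp.trans hSf)⟩

/-- All cycles have length three. -/
theorem places_three {n : ℕ} (hn : 5 ≤ n) {u w : Perm (Fin n)} (hu1 : u ≠ 1) (hw1 : w ≠ 1)
    (hu : u ^ 3 = 1) (hw : w ^ 3 = 1) : Places 3 u w := by
  classical
  haveI : Fact (Nat.Prime 3) := ⟨by norm_num⟩
  have hcard : ∀ v : Perm (Fin n), v ≠ 1 → v ^ 3 = 1 →
      v.support.card = 3 ∨ 6 ≤ v.support.card := fun v hv hv3 => by
    have h3 : 3 ∣ v.support.card := by
      rw [← Perm.sum_cycleType]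
      refine Multiset.dvd_sum fun d hd => ?_
      rcases (Nat.dvd_prime (Fact.out : Nat.Prime 3)).1 ((Perm.dvd_of_mem_cycleType hd).trans
        (orderOf_dvd_of_pow_eq_one hv3)) with e | e
      · have := Perm.two_le_of_mem_cycleType hd; omega
      · exact e ▸ dvd_rfl
    have h0 : v.support.card ≠ 0 := by rw [Ne, Perm.card_support_eq_zero]; exact hv
    omega
  have hle : ∀ v : Perm (Fin n), v.support.card ≤ n := fun v => by
    have := v.support.card_le_univ
    rwa [Fintype.card_fin] at this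
  -- one `u`-cycle
  have hu3 : u3.cycleType = Multiset.replicate 1 3 := formPerm_type _ (by decide) (by decide)
  have hw3 : w3.cycleType = Multiset.replicate 1 3 := formPerm_type _ (by decide) (by decide)
  have hw6 : w6.cycleType = Multiset.replicate 1 3 := formPerm_type _ (by decide) (by decide)
  have hu6 : u6.cycleType = Multiset.replicate 2 3 := by
    rw [u6, Perm.Disjoint.cycleType_mul (by unfold Perm.Disjoint; decide),
      formPerm_type _ (by decide) (by decide), formPerm_type _ (by decide) (by decide)]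
    rfl
  have hv6 : v6.cycleType = Multiset.replicate 2 3 := by
    rw [v6, Perm.Disjoint.cycleType_mul (by unfold Perm.Disjoint; decide),
      formPerm_type _ (by decide) (by decide), formPerm_type _ (by decide) (by decide)]
    rfl
  have six : ∀ u w : Perm (Fin n), w ≠ 1 → u ^ 3 = 1 → w ^ 3 = 1 → 6 ≤ u.support.card →
      Places 3 u w := by
    intro u w hw1 hu hw h6
    have h6n : 6 ≤ n := h6.trans (hle u)
    obtain ⟨f, u1, hf, hfu, hT⟩ := exists_chunk hu (m := 2) (a := 6) (Or.inr rfl)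
      (Or.inr ⟨h6, rfl⟩) (by omega) h6n (fun _ => rfl)
    obtain ⟨r, hr⟩ := isConj_iff.1 (Perm.isConj_iff_cycleType_eq.2 (hu6.trans hT.symm))
    have hint : ∀ j, u ((f ∘ r) j) = (f ∘ r) (u6 j) := fun j => by
      show u (f (r j)) = f (r (u6 j))
      rw [hfu, ← hr]
      simp
    rcases hcard w hw1 hw with h | h
    · obtain ⟨g, w1, hg, hgw, hT'⟩ := exists_chunk hw (m := 1) (a := 6) (Or.inl rfl)
        (Or.inl ⟨h, rfl⟩) (by omega) h6n (fun _ => rfl)
      exact places_of_model g (f ∘ r) hg (hf.comp r.injective) hint hgw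
        (both_parities (π := swap 4 5) (by decide) (by decide : swap 4 5 * w6 * (swap 4 5)⁻¹ = w6)
          (hT'.trans hw6.symm) good_w6 good_w6)
    · obtain ⟨g, w1, hg, hgw, hT'⟩ := exists_chunk hw (m := 2) (a := 6) (Or.inr rfl)
        (Or.inr ⟨h, rfl⟩) (by omega) h6n (fun _ => rfl)
      exact places_of_model g (f ∘ r) hg (hf.comp r.injective) hint hgw
        (both_parities (π := swap 0 2 * swap 1 5 * swap 3 4) (by decide)
          (by decide : swap 0 2 * swap 1 5 * swap 3 4 * v6 * (swap 0 2 * swap 1 5 * swap 3 4)⁻¹ = v6)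
          (hT'.trans hv6.symm) good_v6 good_v6)
  rcases hcard u hu1 hu with h | h
  · rcases hcard w hw1 hw with h' | h'
    · obtain ⟨f, u1, hf, hfu, hT⟩ := exists_chunk hu (m := 1) (a := 5) (Or.inl rfl)
        (Or.inl ⟨h, rfl⟩) (by omega) hn (fun e => absurd e (by omega))
      obtain ⟨g, w1, hg, hgw, hT'⟩ := exists_chunk hw (m := 1) (a := 5) (Or.inl rfl)
        (Or.inl ⟨h', rfl⟩) (by omega) hn (fun e => absurd e (by omega))
      obtain ⟨r, hr⟩ := isConj_iff.1 (Perm.isConj_iff_cycleType_eq.2 (hu3.trans hT.symm))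
      refine places_of_model g (f ∘ r) hg (hf.comp r.injective) (u0 := u3) ?_ hgw
        (both_parities (π := swap 1 2) (by decide) (by decide : swap 1 2 * w3 * (swap 1 2)⁻¹ = w3)
          (hT'.trans hw3.symm) good_w3 good_w3)
      intro j
      show u (f (r j)) = f (r (u3 j))
      rw [hfu, ← hr]
      simp
    · exact places_symm (six w u hu1 hw hu h')
  · exact six u w hw1 hu hw h

/-- Let n ≥ 5, p ≥ 3 a prime, and u, w non-identity elements of p-power order in the alternating group A_n. Then there is g ∈ A_n such that u·(g w g⁻¹) does not have p-power order and ⟨u, g w g⁻¹⟩ is not solvable. -/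
theorem result (n : ℕ) (hn : 5 ≤ n) (p : ℕ) (hp : p.Prime) (hp3 : 3 ≤ p) (u w : alternatingGroup (Fin n)) (hu : u ≠ 1) (hw : w ≠ 1)
    (hu' : ∃ k : ℕ, orderOf u = p ^ k) (hw' : ∃ k : ℕ, orderOf w = p ^ k) :
    ∃ g : alternatingGroup (Fin n), (¬ ∃ k : ℕ, orderOf (u * (g * w * g⁻¹)) = p ^ k) ∧
      ¬ Group.IsSolvable ↥(Subgroup.closure ({u, g * w * g⁻¹} : Set (alternatingGroup (Fin n)))) := by
  classical
  haveI := Fact.mk hp
  obtain ⟨ku, hku⟩ := hu'
  obtain ⟨kw, hkw⟩ := hw'
  set U : Perm (Fin n) := (u : Perm (Fin n))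
  set W : Perm (Fin n) := (w : Perm (Fin n))
  have hU : U ^ p ^ ku = 1 := by
    rw [← hku, ← Subgroup.coe_pow, pow_orderOf_eq_one, Subgroup.coe_one]
  have hW : W ^ p ^ kw = 1 := by
    rw [← hkw, ← Subgroup.coe_pow, pow_orderOf_eq_one, Subgroup.coe_one]
  have hU1 : U ≠ 1 := fun e => hu (Subtype.ext e)
  have hW1 : W ≠ 1 := fun e => hw (Subtype.ext e)
  have hP : Places p U W := by
    by_cases hlong : ∃ b ∈ U.cycleType + W.cycleType, 5 ≤ b
    · obtain ⟨b, hb, hb5⟩ := hlong
      obtain ⟨a, haT, hmax⟩ := Finset.exists_max_image (U.cycleType + W.cycleType).toFinset id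
        ⟨b, Multiset.mem_toFinset.2 hb⟩
      rw [Multiset.mem_toFinset] at haT
      have hmax' : ∀ c ∈ U.cycleType + W.cycleType, c ≤ a := fun c hc =>
        hmax c (Multiset.mem_toFinset.2 hc)
      have h5 : 5 ≤ a := hb5.trans (hmax' b hb)
      rcases Multiset.mem_add.1 haT with h | h
      · exact places_long (by omega) hW1 hU hW h h5 fun c hc =>
          hmax' c (Multiset.mem_add.2 (Or.inr hc))
      · exact places_symm (places_long (by omega) hU1 hW hU h h5 fun c hc =>
          hmax' c (Multiset.mem_add.2 (Or.inl hc)))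
    · push Not at hlong
      have hval : ∀ v : Perm (Fin n), ∀ k, v ^ p ^ k = 1 → ∀ b ∈ v.cycleType, b < 5 →
          p = 3 ∧ b = 3 := by
        intro v k hv b hb hb5
        obtain ⟨l, -, hl⟩ := (Nat.dvd_prime_pow hp).1
          ((Perm.dvd_of_mem_cycleType hb).trans (orderOf_dvd_of_pow_eq_one hv))
        have h2 := Perm.two_le_of_mem_cycleType hb
        rcases l with - | - | l
        · simp at hl; omega
        · simp at hl
          subst hl
          have h4 : b ≠ 4 := fun e => by subst e; norm_num at hp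
          omega
        · exfalso
          have : 3 ^ 2 ≤ b := hl ▸ (Nat.pow_le_pow_left hp3 2).trans
            (Nat.pow_le_pow_right hp.pos (by omega))
          omega
      obtain ⟨b, hb⟩ := Multiset.exists_mem_of_ne_zero
        (show U.cycleType ≠ 0 by rwa [Ne, Perm.cycleType_eq_zero])
      obtain ⟨rfl, -⟩ := hval U ku hU b hb (hlong b (Multiset.mem_add.2 (Or.inl hb)))
      exact places_three hn hU1 hW1
        (pow_three_of_small fun c hc =>
          (hval U ku hU c hc (hlong c (Multiset.mem_add.2 (Or.inl hc)))).2)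
        (pow_three_of_small fun c hc =>
          (hval W kw hW c hc (hlong c (Multiset.mem_add.2 (Or.inr hc)))).2)
  obtain ⟨σ, hσ, hpow, hsol⟩ := hP
  set gg : alternatingGroup (Fin n) := ⟨σ, Perm.mem_alternatingGroup.2 hσ⟩ with hgg
  refine ⟨gg, ?_, fun hs => hsol ?_⟩
  · rintro ⟨k, hk⟩
    refine hpow k ?_
    have h2 : (u * (gg * w * gg⁻¹)) ^ p ^ k = 1 := by rw [← hk]; exact pow_orderOf_eq_one _
    have := congrArg Subtype.val h2
    simpa using this
  · have h1 : (closure ({u, gg * w * gg⁻¹} : Set (alternatingGroup (Fin n)))).map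
        (alternatingGroup (Fin n)).subtype = closure {U, σ * W * σ⁻¹} := by
      rw [MonoidHom.map_closure, Set.image_pair]; rfl
    rw [← h1]
    exact Group.isSolvable_of_surjective
      ((alternatingGroup (Fin n)).subtype.subgroupMap_surjective _)

end Cfsg.Agent.S2276
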