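import Cfsg.Statements.S2277
import Cfsg.Agent.S0126
import Cfsg.Agent.Lib.Coprime.Sylow
import Cfsg.Agent.Lib.Coprime.Commutator
import Cfsg.Agent.Lib.PGroup.Frattini

set_option autoImplicit false
open Cfsg

namespace Cfsg.Agent.S2277

set_option linter.style.haveILetI false

open Finset
open scoped commutatorElement

universe u v

/-- `P` acts by `φ`, and each vector is a sum of fixed vectors of any `c ∈ C` and `d ∈ D`. -/
def Split {P : Type v} [Group P] {V : Type u} [AddCommGroup V] (φ : P →* AddMonoid.End V) (C D : Set P) :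
    Prop :=
  ∀ c ∈ C, ∀ d ∈ D, ∀ x : V, ∃ a b, φ c a = a ∧ φ d b = b ∧ x = a + b

section

variable {V : Type u} [AddCommGroup V] [Finite V] {p : ℕ} [Fact p.Prime]
variable {H : Type v} [Group H] [Finite H]

theorem smul_injective (hV : (Nat.card V).Coprime p) {x : V} (h : p • x = 0) : x = 0 := by
  have h1 : addOrderOf x ∣ Nat.card V := addOrderOf_dvd_natCard x
  have h2 : addOrderOf x ∣ p := addOrderOf_dvd_iff_nsmul_eq_zero.2 h
  have h3 := Nat.dvd_gcd h1 h2
  rw [hV.gcd_eq_one, Nat.dvd_one, AddMonoid.addOrderOf_eq_one_iff] at h3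
  exact h3

variable (φ : H →* AddMonoid.End V)

theorem phi_mul (g h : H) (x : V) : φ (g * h) x = φ g (φ h x) := by
  rw [map_mul]; rfl

theorem phi_one (x : V) : φ 1 x = x := by
  rw [map_one]; rfl

theorem phi_inv_self (g : H) (x : V) : φ g⁻¹ (φ g x) = x := by
  rw [← phi_mul, inv_mul_cancel, phi_one]

theorem phi_injective (g : H) : Function.Injective (φ g) := fun x y h => by
  rw [← phi_inv_self φ g x, h, phi_inv_self]

theorem phi_pow_fix {g : H} {x : V} (h : φ g x = x) : ∀ n : ℕ, φ (g ^ n) x = x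
  | 0 => by rw [pow_zero, phi_one]
  | n + 1 => by rw [pow_succ, phi_mul, h, phi_pow_fix h n]

/-- The sum over the powers of `g`. -/
def avg (p : ℕ) (g : H) : V →+ V := ∑ i ∈ range p, (φ (g ^ i) : V →+ V)

theorem avg_apply (g : H) (x : V) : avg φ p g x = ∑ i ∈ range p, φ (g ^ i) x := by
  exact AddMonoidHom.finsetSum_apply (M := V) (N := V) (fun i => φ (g ^ i)) (range p) x

theorem phi_avg {g : H} (hg : g ^ p = 1) (x : V) : φ g (avg φ p g x) = avg φ p g x := by
  simp only [avg_apply, map_sum, ← phi_mul, ← pow_succ']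
  have h := Finset.sum_range_succ' (fun i => φ (g ^ i) x) p
  rw [Finset.sum_range_succ, hg, pow_zero, phi_one] at h
  exact (add_right_cancel h).symm

theorem avg_of_fix {g : H} {x : V} (h : φ g x = x) : avg φ p g x = p • x := by
  rw [avg_apply, Finset.sum_congr rfl fun i _ => phi_pow_fix φ h i, sum_const, card_range]

theorem phi_avg_conj (h g : H) (x : V) :
    φ h (avg φ p g x) = avg φ p (h * g * h⁻¹) (φ h x) := by
  rw [avg_apply, avg_apply, map_sum]
  refine Finset.sum_congr rfl fun i _ => ?_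
  rw [conj_pow, ← phi_mul, ← phi_mul, inv_mul_cancel_right]

theorem avg_eq_zero_of_fix_free {z : H} (hz : z ^ p = 1) (h : ∀ x, φ z x = x → x = 0) (x : V) :
    avg φ p z x = 0 :=
  h _ (phi_avg φ hz x)

/-- The averages over the lines `⟨e z ^ i⟩` add up to `p`, if `z` fixes nothing but `0`. -/
theorem sum_avg {e z : H} (hc : Commute e z) (hz : z ^ p = 1) (hfree : ∀ x, φ z x = x → x = 0)
    (x : V) : ∑ i ∈ range p, avg φ p (e * z ^ i) x = p • x := by
  simp only [avg_apply]
  rw [sum_comm, Finset.sum_eq_single_of_mem 0 (mem_range.2 (Fact.out : p.Prime).pos)]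
  · simp [phi_one]
  intro j hj hj0
  have hcop : j.Coprime p := by
    rw [Nat.coprime_comm, (Fact.out : p.Prime).coprime_iff_not_dvd]
    exact Nat.not_dvd_of_pos_of_lt (Nat.pos_of_ne_zero hj0) (mem_range.1 hj)
  have hzj : (z ^ j) ^ p = 1 := by rw [← pow_mul, mul_comm, pow_mul, hz, one_pow]
  have hfree' : ∀ y, φ (z ^ j) y = y → y = 0 := by
    intro y hy
    obtain ⟨k, hk⟩ := exists_pow_eq_self_of_coprime (x := z) (n := j)
      (hcop.coprime_dvd_right (orderOf_dvd_of_pow_eq_one hz))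
    exact hfree y (by rw [← hk]; exact phi_pow_fix φ hy k)
  have h0 := avg_eq_zero_of_fix_free φ hzj hfree' x
  rw [avg_apply] at h0
  calc ∑ i ∈ range p, φ ((e * z ^ i) ^ j) x = ∑ i ∈ range p, φ (e ^ j) (φ ((z ^ j) ^ i) x) := by
        refine sum_congr rfl fun i _ => ?_
        rw [(hc.pow_right i).mul_pow, phi_mul, ← pow_mul, ← pow_mul, mul_comm i j]
    _ = 0 := by rw [← map_sum, h0, map_zero]

/-- The fixed points of `g`. -/
abbrev Fix (g : H) : Type u := {x : V // φ g x = x}

theorem avg_eq_zero_of_line {e z : H} (hc : Commute e z) (he : e ^ p = 1) (hz : z ^ p = 1)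
    (hfree : ∀ x, φ z x = x → x = 0) {i : ℕ} (hi : ¬ p ∣ i) {y : V}
    (hy : φ (e * z ^ i) y = y) : avg φ p e y = 0 := by
  have h1 : φ (e * z ^ i) (avg φ p e y) = avg φ p e y := by
    rw [phi_avg_conj, hy, show e * z ^ i * e * (e * z ^ i)⁻¹ = e by
      rw [mul_inv_eq_iff_eq_mul, mul_assoc, ← (hc.pow_right i).eq]]
  have h2 : φ (z ^ i) (avg φ p e y) = avg φ p e y := by
    have h3 := phi_avg φ he y
    rw [(hc.pow_right i).eq, phi_mul, h3] at h1
    exact h1
  obtain ⟨k, hk⟩ := exists_pow_eq_self_of_coprime (x := z) (n := i)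
    ((((Fact.out : p.Prime).coprime_iff_not_dvd.2 hi).symm).coprime_dvd_right
      (orderOf_dvd_of_pow_eq_one hz))
  exact hfree _ (by rw [← hk]; exact phi_pow_fix φ h2 k)

/-- The heart: `e` is moved by `c` along the lines through the fixed-point-free central `z`. -/
theorem card_fix_bound (hp3 : 3 ≤ p) (hV : (Nat.card V).Coprime p) {e z c : H}
    (hzc : ∀ g, z * g = g * z) (he : e ^ p = 1) (hz : z ^ p = 1)
    (hfree : ∀ x, φ z x = x → x = 0) {k : ℕ} (hk : ¬ p ∣ k) (hconj : c * e * c⁻¹ = e * z ^ k) :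
    Nat.card (Fix φ c) ≤ Nat.card (Fix φ e) ∧ Nat.card (Fix φ e) ^ 3 ≤ Nat.card V := by
  have hp : p.Prime := Fact.out
  have hce : Commute e z := (hzc e).symm
  have hpow : ∀ m : ℕ, c ^ m * e * (c ^ m)⁻¹ = e * z ^ (k * m) := by
    intro m
    induction m with
    | zero => simp
    | succ m ih =>
      have hcz : c * z ^ (k * m) * c⁻¹ = z ^ (k * m) := by
        rw [((show Commute z c from hzc c).pow_left _).symm.eq, mul_inv_cancel_right]
      calc c ^ (m + 1) * e * (c ^ (m + 1))⁻¹ = c * (c ^ m * e * (c ^ m)⁻¹) * c⁻¹ := by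
            rw [pow_succ']; group
        _ = (c * e * c⁻¹) * (c * z ^ (k * m) * c⁻¹) := by rw [ih]; group
        _ = e * z ^ (k * (m + 1)) := by
            rw [hconj, hcz, mul_assoc, ← pow_add, show k + k * m = k * (m + 1) by ring]
  constructor
  · refine Nat.card_le_card_of_injective
      (fun x : Fix φ c => (⟨avg φ p e x.1, phi_avg φ he x.1⟩ : Fix φ e)) ?_
    rintro ⟨x, hx⟩ ⟨y, hy⟩ h
    have h' : avg φ p e (x - y) = 0 := by rw [map_sub, sub_eq_zero]; exact congrArg Subtype.val h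
    have hxy : φ c (x - y) = x - y := by rw [map_sub, hx, hy]
    have hzero : ∀ i ∈ range p, avg φ p (e * z ^ i) (x - y) = 0 := by
      intro i _
      obtain ⟨m, hm⟩ : ∃ m, k * m ≡ i [MOD p] := by
        have hu : IsUnit (k : ZMod p) := by
          rw [isUnit_iff_ne_zero, Ne, ZMod.natCast_eq_zero_iff]
          exact hk
        refine ⟨((hu.unit⁻¹ : (ZMod p)ˣ) * (i : ZMod p)).val, ?_⟩
        rw [← ZMod.natCast_eq_natCast_iff, Nat.cast_mul, ZMod.natCast_zmod_val, ← mul_assoc,
          IsUnit.mul_val_inv, one_mul]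
      have hzi : z ^ i = z ^ (k * m) :=
        (pow_eq_pow_iff_modEq.2 (hm.of_dvd (orderOf_dvd_of_pow_eq_one hz))).symm
      rw [hzi, ← hpow m]
      conv_lhs => rw [← phi_pow_fix φ hxy m]
      rw [← phi_avg_conj, h', map_zero]
    have h0 := sum_avg φ hce hz hfree (x - y)
    rw [sum_eq_zero hzero] at h0
    exact Subtype.ext (sub_eq_zero.1 (smul_injective hV h0.symm))
  · rw [show Nat.card (Fix φ e) ^ 3 = Nat.card (Fix φ e × Fix φ e × Fix φ e) by
      rw [Nat.card_prod, Nat.card_prod]; ring]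
    refine Nat.card_le_card_of_injective
      (fun x : Fix φ e × Fix φ e × Fix φ e => x.1.1 + φ c x.2.1.1 + φ (c ^ 2) x.2.2.1) ?_
    have hkill : ∀ m : ℕ, ¬ p ∣ m → ∀ y : Fix φ e, avg φ p e (φ (c ^ m) y.1) = 0 := by
      intro m hm y
      refine avg_eq_zero_of_line φ hce he hz hfree (i := k * m)
        (fun h => (hp.dvd_mul.1 h).elim hk hm) ?_
      rw [← hpow m, ← phi_mul, inv_mul_cancel_right, phi_mul, y.2]
    rintro ⟨a, b, d⟩ ⟨a', b', d'⟩ h
    simp only at h
    have key : ∀ {u v : V}, φ e u = u → φ e v = v → ∀ {r : V}, avg φ p e r = 0 →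
        u + r = v → u = v := by
      intro u v hu hv r hr huv
      have h' := congrArg (avg φ p e) huv
      rw [map_add, hr, add_zero, avg_of_fix φ hu, avg_of_fix φ hv] at h'
      exact sub_eq_zero.1 (smul_injective hV (by rw [nsmul_sub, h', sub_self]))
    have ha : a = a' := by
      refine Subtype.ext (key a.2 a'.2
        (r := φ c b.1 + φ (c ^ 2) d.1 - (φ c b'.1 + φ (c ^ 2) d'.1)) ?_ ?_)
      · have h1 := hkill 1 (by rw [Nat.dvd_one]; exact hp.ne_one)
        rw [pow_one] at h1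
        have h2 := hkill 2 (fun h => by have := Nat.le_of_dvd two_pos h; omega)
        simp only [map_sub, map_add, h1, h2, add_zero, sub_zero]
      · rw [← add_sub_assoc, sub_eq_iff_eq_add, ← add_assoc, ← add_assoc]
        exact h
    subst ha
    rw [add_assoc, add_assoc, add_right_inj, pow_two, phi_mul, phi_mul, ← map_add, ← map_add] at h
    have h1 := phi_injective φ c h
    have hb : b = b' := by
      refine Subtype.ext (key b.2 b'.2 (r := φ c d.1 - φ c d'.1) ?_ ?_)
      · have h2 := hkill 1 (by rw [Nat.dvd_one]; exact hp.ne_one)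
        rw [pow_one] at h2
        simp only [map_sub, h2, sub_zero]
      · rw [← add_sub_assoc, sub_eq_iff_eq_add]
        exact h1
    subst hb
    rw [add_right_inj] at h1
    have hd : d = d' := Subtype.ext (phi_injective φ c h1)
    subst hd
    rfl

/-- A faithful split action of a nontrivial group is impossible, given the result in smaller degree. -/
theorem faithful_step (hp3 : 3 ≤ p) (hV : (Nat.card V).Coprime p) (hH : IsPGroup p H)
    (C D : Set H) (hC : Subgroup.closure C = ⊤) (hD : Subgroup.closure D = ⊤)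
    (hS : Split φ C D) (hinj : Function.Injective φ)
    (ih : ∀ W : AddSubgroup V, W ≠ ⊤ → ∀ ψ : H →* AddMonoid.End W, Split ψ C D → ∀ g x, ψ g x = x) :
    ∀ g : H, g = 1 := by
  by_contra! hne
  obtain ⟨g₀, hg₀⟩ := hne
  have hp : p.Prime := Fact.out
  haveI : Nontrivial H := ⟨⟨g₀, 1, hg₀⟩⟩
  -- central elements of order `p` fix nothing
  have hfree : ∀ z : H, z ∈ Subgroup.center H → z ≠ 1 → z ^ p = 1 → ∀ x, φ z x = x → x = 0 := by
    intro z hzc hz1 hz x hx
    by_contra hx0
    have hequiv : ∀ g y, φ g (avg φ p z y) = avg φ p z (φ g y) := by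
      intro g y
      rw [phi_avg_conj, (Subgroup.mem_center_iff.1 hzc g), mul_inv_cancel_right]
    -- the restriction to the range of an equivariant endomorphism
    have hres : ∀ f : V →+ V, (∀ g y, φ g (f y) = f (φ g y)) → f.range ≠ ⊤ →
        ∀ g y, φ g (f y) = f y := by
      intro f hf htop
      have hmem : ∀ g, ∀ w ∈ f.range, φ g w ∈ f.range := by
        rintro g _ ⟨y, rfl⟩
        exact ⟨φ g y, (hf g y).symm⟩
      let ψ : H →* AddMonoid.End f.range :=
        { toFun := fun g =>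
            { toFun := fun w => ⟨φ g w, hmem g _ w.2⟩
              map_zero' := Subtype.ext (map_zero (φ g))
              map_add' := fun a b => Subtype.ext (map_add (φ g) (a : V) (b : V)) }
          map_one' := by
            refine AddMonoidHom.ext fun w => Subtype.ext ?_
            exact phi_one φ (w : V)
          map_mul' := fun a b => by
            refine AddMonoidHom.ext fun w => Subtype.ext ?_
            exact phi_mul φ a b (w : V) }
      have hψ := ih f.range htop ψ (by
        rintro c hc d hd ⟨_, y, rfl⟩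
        obtain ⟨a, b, ha, hb, rfl⟩ := hS c hc d hd y
        refine ⟨⟨f a, a, rfl⟩, ⟨f b, b, rfl⟩, Subtype.ext ?_, Subtype.ext ?_, Subtype.ext ?_⟩
        · exact (hf c a).trans (congrArg f ha)
        · exact (hf d b).trans (congrArg f hb)
        · exact map_add f a b)
      exact fun g y => congrArg Subtype.val (hψ g ⟨f y, y, rfl⟩)
    have h1 : (avg φ p z).range ≠ ⊤ := by
      intro htop
      apply hz1
      apply hinj
      refine (DFunLike.ext _ _ fun y => ?_).trans (map_one φ).symm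
      obtain ⟨w, hw⟩ : y ∈ (avg φ p z).range := by rw [htop]; trivial
      subst hw
      exact phi_avg φ hz w
    let q : V →+ V := p • AddMonoidHom.id V - avg φ p z
    have hq : ∀ y, q y = p • y - avg φ p z y := fun y => rfl
    have h2 : q.range ≠ ⊤ := by
      intro htop
      obtain ⟨w, hw⟩ : x ∈ q.range := by rw [htop]; trivial
      have h3 : avg φ p z x = 0 := by
        rw [← hw, hq, map_sub, map_nsmul, avg_of_fix φ (phi_avg φ hz w), sub_self]
      rw [avg_of_fix φ hx] at h3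
      exact hx0 (smul_injective hV h3)
    have hfix : ∀ g y, φ g y = y := by
      intro g y
      have e1 := hres _ hequiv h1 g y
      have e2 := hres q (fun g y => by rw [hq, hq, map_sub, map_nsmul, hequiv]) h2 g y
      rw [hq, map_sub, map_nsmul, e1, sub_left_inj] at e2
      exact sub_eq_zero.1 (smul_injective hV (by rw [nsmul_sub, e2, sub_self]))
    exact hg₀ (hinj ((DFunLike.ext _ _ fun y => hfix g₀ y).trans (map_one φ).symm))
  -- `V` is nonzero
  have hVne : ∀ z : H, z ≠ 1 → ∃ x, φ z x ≠ x := fun z hz => by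
    by_contra! h
    exact hz (hinj ((DFunLike.ext _ _ fun y => h y).trans (map_one φ).symm))
  obtain ⟨z₀, -, hz₀c, hz₀o⟩ := PGroup.exists_orderOf_eq_mem_center hH ⊤ (fun h => hg₀ (by
    have := Subgroup.mem_top g₀
    rwa [h, Subgroup.mem_bot] at this))
  have hz₀1 : z₀ ≠ 1 := fun h => by rw [h, orderOf_one] at hz₀o; exact hp.ne_one hz₀o.symm
  have hz₀p : z₀ ^ p = 1 := hz₀o ▸ pow_orderOf_eq_one z₀
  by_cases hcyc : IsCyclic H
  · obtain ⟨n, hn⟩ := hH.exists_card_eq
    obtain ⟨m, rfl⟩ : ∃ m, n = m + 1 := by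
      rcases n with _ | m
      · rw [pow_zero, Nat.card_eq_one_iff_unique] at hn
        exact absurd hn.1 (not_subsingleton H)
      · exact ⟨m, rfl⟩
    obtain ⟨r, hr⟩ := hcyc.exists_generator
    obtain ⟨c, hc, hcm⟩ : ∃ c ∈ C, c ^ p ^ m ≠ 1 := by
      by_contra! hall
      letI := hcyc.commGroup
      have hle : Subgroup.closure C ≤ (powMonoidHom (p ^ m) : H →* H).ker :=
        (Subgroup.closure_le _).2 fun c hc => hall c hc
      have h1 : r ^ p ^ m = 1 := hle (hC ▸ Subgroup.mem_top r)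
      have h2 := Nat.le_of_dvd (pow_pos hp.pos _) (orderOf_dvd_of_pow_eq_one h1)
      rw [orderOf_eq_card_of_forall_mem_zpowers hr, hn, pow_succ] at h2
      nlinarith [hp.two_le, pow_pos hp.pos m]
    have hord : orderOf c = Nat.card H := by
      obtain ⟨j, hj, hje⟩ := (Nat.dvd_prime_pow hp).1 (hn ▸ orderOf_dvd_natCard c)
      rcases Nat.lt_or_ge j (m + 1) with hjm | hjm
      · exact absurd (orderOf_dvd_iff_pow_eq_one.1 (hje ▸ pow_dvd_pow p (by omega : j ≤ m))) hcm
      · rw [hje, hn]; congr 1; omega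
    have htop : Subgroup.zpowers c = ⊤ :=
      Subgroup.eq_top_of_card_eq _ (by rw [Nat.card_zpowers, hord])
    have hcfree : ∀ a, φ c a = a → a = 0 := by
      intro a ha
      obtain ⟨i, hi⟩ := (mem_powers_iff_mem_zpowers (x := c) (y := z₀)).2 (htop ▸ Subgroup.mem_top z₀)
      exact hfree z₀ hz₀c hz₀1 hz₀p a (by rw [← hi]; exact phi_pow_fix φ ha i)
    have hDfix : ∀ d ∈ D, d = 1 := by
      intro d hd
      refine hinj ((DFunLike.ext _ _ fun y => ?_).trans (map_one φ).symm)
      obtain ⟨a, b, ha, hb, rfl⟩ := hS c hc d hd y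
      rw [hcfree a ha, zero_add]
      exact hb
    have : Subgroup.closure D ≤ ⊥ :=
      (Subgroup.closure_le _).2 fun d hd => Subgroup.mem_bot.2 (hDfix d hd)
    rw [hD, top_le_iff] at this
    exact bot_ne_top this
  obtain ⟨E, hEn, hE, hEc⟩ := S0126.result (by omega : p ≠ 2) hH hcyc
  have hEne : E ≠ ⊥ := fun h => by
    rw [h, Subgroup.card_bot] at hEc
    nlinarith [hp.two_le]
  obtain ⟨z, hzE, hzc, hzo, hKz⟩ : ∃ z ∈ E, z ∈ Subgroup.center H ∧ orderOf z = p ∧
      ⁅E, (⊤ : Subgroup H)⁆ ≤ Subgroup.zpowers z := by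
    have hlt := PGroup.commutator_top_lt hH E hEne
    by_cases hK : ⁅E, (⊤ : Subgroup H)⁆ = ⊥
    · obtain ⟨z, h1, h2, h3⟩ := PGroup.exists_orderOf_eq_mem_center hH E hEne
      exact ⟨z, h1, h2, h3, by rw [hK]; exact bot_le⟩
    · obtain ⟨z, h1, h2, h3⟩ := PGroup.exists_orderOf_eq_mem_center hH ⁅E, (⊤ : Subgroup H)⁆ hK
      refine ⟨z, hlt.le h1, h2, h3, (Subgroup.eq_of_le_of_card_ge (Subgroup.zpowers_le.2 h1) ?_).ge⟩
      rw [Nat.card_zpowers, h3]
      obtain ⟨j, hj⟩ := PGroup.card_eq_pow hH ⁅E, (⊤ : Subgroup H)⁆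
      have hlt' : Nat.card (⁅E, (⊤ : Subgroup H)⁆ : Subgroup H) < p ^ 2 := by
        rw [← hEc]
        exact lt_of_le_of_ne (Subgroup.card_le_of_le hlt.le)
          fun h => hlt.ne (Subgroup.eq_of_le_of_card_ge hlt.le h.ge)
      rw [hj] at hlt' ⊢
      have := (Nat.pow_lt_pow_iff_right hp.one_lt).1 hlt'
      calc p ^ j ≤ p ^ 1 := Nat.pow_le_pow_right hp.pos (by omega)
        _ = p := pow_one p
  obtain ⟨e, heE, hez⟩ : ∃ e ∈ E, e ∉ Subgroup.zpowers z := by
    by_contra! h
    have h1 := Subgroup.card_le_of_le (show E ≤ Subgroup.zpowers z from h)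
    rw [hEc, Nat.card_zpowers, hzo] at h1
    nlinarith [hp.two_le]
  have hz : z ^ p = 1 := hzo ▸ pow_orderOf_eq_one z
  have hz1 : z ≠ 1 := fun h => by rw [h, orderOf_one] at hzo; exact hp.ne_one hzo.symm
  have hzfree := hfree z hzc hz1 hz
  have hzg : ∀ g, z * g = g * z := fun g => (Subgroup.mem_center_iff.1 hzc g).symm
  have he : e ^ p = 1 := hE.2 e heE
  have hconj : ∀ g : H, g * e ≠ e * g → ∃ k : ℕ, ¬ p ∣ k ∧ g * e * g⁻¹ = e * z ^ k := by
    intro g hg
    have hmem := hKz (Subgroup.commutator_mem_commutator (inv_mem heE) (Subgroup.mem_top g))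
    rw [commutatorElement_def, inv_inv, ← mem_powers_iff_mem_zpowers] at hmem
    obtain ⟨k, hk⟩ := hmem
    simp only at hk
    refine ⟨k, fun hd => hg ?_, ?_⟩
    · have h1 : z ^ k = 1 := orderOf_dvd_iff_pow_eq_one.1 (hzo ▸ hd)
      rw [h1] at hk
      calc g * e = e * (e⁻¹ * g * e * g⁻¹) * g := by group
        _ = e * g := by rw [← hk, mul_one]
    · rw [hk]; group
  by_cases hcC : ∀ c ∈ C, c * e = e * c
  · -- `e` is central
    have hec : e ∈ Subgroup.center H := by
      refine Subgroup.mem_center_iff.2 fun g => ?_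
      have hle : Subgroup.closure C ≤ Subgroup.centralizer ({e} : Set H) :=
        (Subgroup.closure_le _).2 fun c hc => Subgroup.mem_centralizer_singleton_iff.2 (hcC c hc)
      exact Subgroup.mem_centralizer_singleton_iff.1 (hle (hC ▸ Subgroup.mem_top g))
    obtain ⟨x, hx⟩ := hVne z hz1
    refine hx ?_
    have h0 : p • x = 0 := by
      rw [← sum_avg φ (hzg e).symm hz hzfree x]
      refine Finset.sum_eq_zero fun i _ => ?_
      have hmc : e * z ^ i ∈ Subgroup.center H := mul_mem hec (pow_mem hzc i)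
      have hpow : (e * z ^ i) ^ p = 1 := by
        rw [((show Commute e z from (hzg e).symm).pow_right i).mul_pow, he, one_mul, ← pow_mul,
          mul_comm, pow_mul, hz, one_pow]
      refine avg_eq_zero_of_fix_free φ hpow (hfree _ hmc (fun h1 => hez ?_) hpow) x
      rw [eq_inv_of_mul_eq_one_left h1]
      exact inv_mem (pow_mem (Subgroup.mem_zpowers z) i)
    rw [smul_injective hV h0, map_zero]
  push Not at hcC
  obtain ⟨c, hc, hce⟩ := hcC
  obtain ⟨d, hd, hde⟩ : ∃ d ∈ D, d * e ≠ e * d := by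
    by_contra! h
    have hle : Subgroup.closure D ≤ Subgroup.centralizer ({e} : Set H) :=
      (Subgroup.closure_le _).2 fun d hd => Subgroup.mem_centralizer_singleton_iff.2 (h d hd)
    exact hce (Subgroup.mem_centralizer_singleton_iff.1 (hle (hD ▸ Subgroup.mem_top c)))
  obtain ⟨k, hk, hck⟩ := hconj c hce
  obtain ⟨l, hl, hdl⟩ := hconj d hde
  obtain ⟨hc1, hc3⟩ := card_fix_bound φ hp3 hV hzg he hz hzfree hk hck
  obtain ⟨hd1, -⟩ := card_fix_bound φ hp3 hV hzg he hz hzfree hl hdl
  have hle : Nat.card V ≤ Nat.card (Fix φ c) * Nat.card (Fix φ d) := by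
    rw [← Nat.card_prod]
    refine Nat.card_le_card_of_surjective (fun x : Fix φ c × Fix φ d => x.1.1 + x.2.1) fun y => ?_
    obtain ⟨a, b, ha, hb, rfl⟩ := hS c hc d hd y
    exact ⟨(⟨a, ha⟩, ⟨b, hb⟩), rfl⟩
  have hm : Nat.card (Fix φ c) * Nat.card (Fix φ d) ≤ Nat.card (Fix φ e) * Nat.card (Fix φ e) :=
    Nat.mul_le_mul hc1 hd1
  obtain ⟨x, hx⟩ := hVne z hz1
  haveI : Nontrivial V := ⟨⟨φ z x, x, hx⟩⟩
  have h2 : 1 < Nat.card V := Finite.one_lt_card
  rcases Nat.lt_or_ge 1 (Nat.card (Fix φ e)) with h | h <;>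
    nlinarith [hle, hm, hc3, h]

end

/-- A coprime action of a `p`-group (`p ≥ 3`) generated by `C` and by `D`, with every vector a sum
of a fixed vector of `c` and one of `d`, is trivial. -/
theorem trivial_of_split {p : ℕ} [Fact p.Prime] (hp3 : 3 ≤ p) {P : Type v} [Group P] [Finite P]
    (hP : IsPGroup p P) (C D : Set P) (hC : Subgroup.closure C = ⊤) (hD : Subgroup.closure D = ⊤)
    (n : ℕ) : ∀ (V : Type u) [AddCommGroup V] [Finite V], Nat.card V = n → (Nat.card V).Coprime p →
      ∀ φ : P →* AddMonoid.End V, Split φ C D → ∀ g x, φ g x = x := by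
  induction n using Nat.strong_induction_on with
  | _ n ih =>
  intro V _ _ hn hV φ hS
  let π : P →* P ⧸ φ.ker := QuotientGroup.mk' φ.ker
  have hπ : Function.Surjective π := QuotientGroup.mk'_surjective φ.ker
  have himg : ∀ S : Set P, Subgroup.closure S = ⊤ → Subgroup.closure (π '' S) = ⊤ := fun S hS' => by
    rw [← MonoidHom.map_closure, hS', Subgroup.map_top_of_surjective _ hπ]
  have h1 := faithful_step (QuotientGroup.lift φ.ker φ le_rfl) hp3 hV
    (hP.of_surjective π hπ)
    (π '' C) (π '' D) (himg C hC) (himg D hD)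
    (by
      rintro _ ⟨c, hc, rfl⟩ _ ⟨d, hd, rfl⟩ x
      exact hS c hc d hd x)
    (fun a b hab => by
      obtain ⟨a, rfl⟩ := hπ a
      obtain ⟨b, rfl⟩ := hπ b
      have hab' : φ a = φ b := hab
      exact QuotientGroup.eq.2 (MonoidHom.mem_ker.2 (by
        rw [map_mul, ← hab', ← map_mul, inv_mul_cancel, map_one])))
    (by
      intro W hW ψ hψ g x
      obtain ⟨g', rfl⟩ := hπ g
      have hlt : Nat.card W < n := by
        rw [← hn]
        exact lt_of_le_of_ne (Nat.le_of_dvd Nat.card_pos (AddSubgroup.card_addSubgroup_dvd_card W))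
          fun h => hW (AddSubgroup.eq_top_of_card_eq W h)
      exact ih _ hlt W rfl (hV.coprime_dvd_left (AddSubgroup.card_addSubgroup_dvd_card W))
        (ψ.comp π)
        (fun c hc d hd x => hψ _ ⟨c, hc, rfl⟩ _ ⟨d, hd, rfl⟩ x) g' x)
  intro g x
  have h2 : φ g = 1 := (congrArg (QuotientGroup.lift φ.ker φ le_rfl) (h1 (π g))).trans (map_one _)
  rw [h2]
  rfl

section

variable {G : Type u} [Group G] [Finite G] {p : ℕ} [Fact p.Prime]

/-- The splitting in an invariant subgroup of the complement. -/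
theorem exists_split (P Q : Subgroup G) (hP : IsPGroup p P) (hPQ : P ≤ Subgroup.normalizer (Q : Set G))
    (hcop : (Nat.card Q).Coprime p) {c d x : G} (hc : c ∈ P) (hd : d ∈ P) (hx : x ∈ Q)
    (h : IsPGroup p (Subgroup.closure ({x * c * x⁻¹, d} : Set G))) :
    ∃ a ∈ Q, ∃ b ∈ Q, a * c = c * a ∧ b * d = d * b ∧ x = b * a := by
  have hcop' : ∀ {B : Subgroup G}, IsPGroup p B → (Nat.card B).Coprime (Nat.card Q) := by
    intro B hB
    obtain ⟨j, hj⟩ := hB.exists_card_eq
    rw [hj]
    exact (hcop.pow_right j).symm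
  have hdisj := Coprime.disjoint_of_coprime_card (hcop' hP)
  have hle : Subgroup.closure ({x * c * x⁻¹, d} : Set G) ≤ P ⊔ Q := by
    refine (Subgroup.closure_le _).2 ?_
    rintro y (rfl | rfl)
    · exact mul_mem (mul_mem (Subgroup.mem_sup_right hx) (Subgroup.mem_sup_left hc))
        (inv_mem (Subgroup.mem_sup_right hx))
    · exact Subgroup.mem_sup_left hd
  haveI : Group.IsNilpotent P := hP.isNilpotent
  obtain ⟨y, hy, hB⟩ := Coprime.exists_le_conj_of_le_sup hPQ hle (hcop' hP) (hcop' h)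
    (Or.inl inferInstance)
  have h1 := Coprime.mem_conj_smul_iff.1 (hB (Subgroup.subset_closure (Set.mem_insert _ _)))
  have h2 := Coprime.mem_conj_smul_iff.1
    (hB (Subgroup.subset_closure (Set.mem_insert_of_mem _ (Set.mem_singleton _))))
  have hone : ∀ {u w : G}, u ∈ Q → w ∈ P → u * w * u⁻¹ ∈ P → u * w = w * u := by
    intro u w hu hw huw
    have hQ : u * w * u⁻¹ * w⁻¹ ∈ Q := by
      rw [show u * w * u⁻¹ * w⁻¹ = u * (w * u⁻¹ * w⁻¹) by group]
      exact mul_mem hu ((Subgroup.mem_normalizer_iff.1 (hPQ hw) _).1 (inv_mem hu))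
    have hbot := (Subgroup.disjoint_def.1 (disjoint_iff.2 hdisj)) (mul_mem huw (inv_mem hw)) hQ
    rwa [mul_inv_eq_one, mul_inv_eq_iff_eq_mul] at hbot
  refine ⟨y⁻¹ * x, mul_mem (inv_mem hy) hx, y, hy, hone (mul_mem (inv_mem hy) hx) hc ?_, ?_,
    (mul_inv_cancel_left y x).symm⟩
  · rw [show y⁻¹ * x * c * (y⁻¹ * x)⁻¹ = y⁻¹ * (x * c * x⁻¹) * y by group]
    exact h1
  · have h3 : y⁻¹ * d = d * y⁻¹ :=
      hone (inv_mem hy) hd (by rw [inv_inv]; exact h2)
    calc y * d = y * (d * y⁻¹) * y := by group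
      _ = y * (y⁻¹ * d) * y := by rw [h3]
      _ = d * y := by group

/-- The action of `P` on `Q` by conjugation. -/
def conjOn (P Q : Subgroup G) (h : P ≤ Subgroup.normalizer (Q : Set G)) : P →* MulAut Q where
  toFun g :=
    { toFun := fun x => ⟨(g : G) * x * (g : G)⁻¹, (Subgroup.mem_normalizer_iff.1 (h g.2) _).1 x.2⟩
      invFun := fun x => ⟨(g : G)⁻¹ * x * (g : G),
        (Subgroup.mem_normalizer_iff.1 (h g.2) _).2 (by simp [mul_assoc])⟩
      left_inv := fun x => Subtype.ext (by simp [mul_assoc])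
      right_inv := fun x => Subtype.ext (by simp [mul_assoc])
      map_mul' := fun a b => Subtype.ext (by simp [mul_assoc]) }
  map_one' := MulEquiv.ext fun x => Subtype.ext (by simp)
  map_mul' a b := MulEquiv.ext fun x => Subtype.ext (by simp [mul_assoc])

theorem centralizes_qgroup (hp3 : 3 ≤ p) {P Q : Subgroup G} (hP : IsPGroup p P) {q : ℕ}
    [Fact q.Prime] (hQ : IsPGroup q Q) (hPQ : P ≤ Subgroup.normalizer (Q : Set G))
    (hcop : (Nat.card Q).Coprime p)
    (C D : Set P) (hC : Subgroup.closure C = ⊤) (hD : Subgroup.closure D = ⊤)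
    (h : ∀ c ∈ C, ∀ d ∈ D, ∀ x ∈ Q,
      IsPGroup p (Subgroup.closure ({x * c * x⁻¹, (d : G)} : Set G))) :
    P ≤ Subgroup.centralizer (Q : Set G) := by
  have hcopP : (Nat.card P).Coprime (Nat.card Q) := by
    obtain ⟨j, hj⟩ := hP.exists_card_eq
    rw [hj]
    exact (hcop.pow_right j).symm
  refine Coprime.le_centralizer_of_frattini hPQ
    (hcopP.coprime_dvd_right (Subgroup.card_subgroup_dvd_card _)) fun g hg x hx => ?_
  let Φ := frattini Q
  letI instW : CommGroup (Q ⧸ Φ) :=
    { (inferInstance : Group (Q ⧸ Φ)) with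
      mul_comm := fun a b => by
        obtain ⟨a, rfl⟩ := QuotientGroup.mk'_surjective Φ a
        obtain ⟨b, rfl⟩ := QuotientGroup.mk'_surjective Φ b
        rw [← map_mul, ← map_mul]
        refine QuotientGroup.eq.2 (PGroup.commutator_le_frattini hQ ?_)
        rw [show (a * b)⁻¹ * (b * a) = ⁅b⁻¹, a⁻¹⁆ by rw [commutatorElement_def]; group]
        exact Subgroup.commutator_mem_commutator (Subgroup.mem_top _) (Subgroup.mem_top _) }
  let f : P → (Q ⧸ Φ) ≃* (Q ⧸ Φ) := fun g => QuotientGroup.congr Φ Φ (conjOn P Q hPQ g)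
    (Subgroup.characteristic_iff_map_eq.1 frattini_characteristic _)
  have hf : ∀ (g : P) (u : Q), f g (QuotientGroup.mk' Φ u) = QuotientGroup.mk' Φ (conjOn P Q hPQ g u) :=
    fun g u => rfl
  let act : P →* AddMonoid.End (Additive (Q ⧸ Φ)) :=
    { toFun := fun g => (MulEquiv.toAdditive (f g)).toAddMonoidHom
      map_one' := by
        refine AddMonoidHom.ext fun w => ?_
        obtain ⟨u, hu⟩ := QuotientGroup.mk'_surjective Φ (Additive.toMul w)
        refine congrArg Additive.ofMul (?_ : f 1 (Additive.toMul w) = Additive.toMul w)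
        rw [← hu, hf, map_one]
        rfl
      map_mul' := fun a b => by
        refine AddMonoidHom.ext fun w => ?_
        obtain ⟨u, hu⟩ := QuotientGroup.mk'_surjective Φ (Additive.toMul w)
        refine congrArg Additive.ofMul
          (?_ : f (a * b) (Additive.toMul w) = f a (f b (Additive.toMul w)))
        rw [← hu, hf, hf, hf, map_mul]
        rfl }
  have hcopW : (Nat.card (Additive (Q ⧸ Φ))).Coprime p :=
    hcop.coprime_dvd_left (Subgroup.card_quotient_dvd_card Φ)
  have hsplit : Split act C D := by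
    intro c hc d hd w
    obtain ⟨⟨w', hw'Q⟩, hw'⟩ := QuotientGroup.mk'_surjective Φ (Additive.toMul w)
    obtain ⟨a, ha, b, hb, hac, hbd, hab⟩ :=
      exists_split P Q hP hPQ hcop c.2 d.2 hw'Q (h c hc d hd _ hw'Q)
    refine ⟨Additive.ofMul (QuotientGroup.mk' Φ ⟨a, ha⟩), Additive.ofMul (QuotientGroup.mk' Φ ⟨b, hb⟩),
      ?_, ?_, ?_⟩
    · refine congrArg (fun u : Q => Additive.ofMul (QuotientGroup.mk' Φ u)) (Subtype.ext ?_)
      show (c : G) * a * (c : G)⁻¹ = a
      rw [← hac, mul_inv_cancel_right]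
    · refine congrArg (fun u : Q => Additive.ofMul (QuotientGroup.mk' Φ u)) (Subtype.ext ?_)
      show (d : G) * b * (d : G)⁻¹ = b
      rw [← hbd, mul_inv_cancel_right]
    · rw [← ofMul_mul, ← map_mul]
      refine Additive.toMul.injective (hw'.symm.trans ?_)
      show _ = QuotientGroup.mk' Φ (⟨a, ha⟩ * ⟨b, hb⟩)
      rw [map_mul, mul_comm, ← map_mul]
      exact congrArg (QuotientGroup.mk' Φ) (Subtype.ext hab)
  have htriv := trivial_of_split hp3 hP C D hC hD _ (Additive (Q ⧸ Φ)) rfl hcopW act hsplit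
    ⟨g, hg⟩ (Additive.ofMul (QuotientGroup.mk' Φ ⟨x, hx⟩))
  have h4 : QuotientGroup.mk' Φ (conjOn P Q hPQ ⟨g, hg⟩ ⟨x, hx⟩) = QuotientGroup.mk' Φ ⟨x, hx⟩ :=
    congrArg Additive.toMul htriv
  refine ⟨conjOn P Q hPQ ⟨g, hg⟩ ⟨x, hx⟩ * (⟨x, hx⟩ : Q)⁻¹, ?_, rfl⟩
  exact (QuotientGroup.eq_one_iff _).1 (by
    show QuotientGroup.mk' Φ (conjOn P Q hPQ ⟨g, hg⟩ ⟨x, hx⟩ * (⟨x, hx⟩ : Q)⁻¹) = 1
    rw [map_mul, map_inv, h4, mul_inv_cancel])

end

/-- Let p ≥ 3 be prime and G a finite group with a Sylow p-subgroup P and a normal p-complement N (N normal, of order prime to p, with NP = G). Suppose P is generated by a subset C and also by a subset D, and that ⟨x c x⁻¹, d⟩ is a p-group for all x ∈ N, c ∈ C, d ∈ D. Then P centralizes N, so that G = N × P. -/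
theorem result {G : Type*} [Group G] [Finite G] (p : ℕ) [Fact p.Prime] (hp3 : 3 ≤ p) (P : Sylow p G)
    (N : Subgroup G) [N.Normal] (hN : (Nat.card N).Coprime p) (hNP : N ⊔ (P : Subgroup G) = ⊤)
    (C D : Set G) (hC : Subgroup.closure C = (P : Subgroup G)) (hD : Subgroup.closure D = (P : Subgroup G))
    (h : ∀ x ∈ N, ∀ c ∈ C, ∀ d ∈ D, IsPGroup p ↥(Subgroup.closure ({x * c * x⁻¹, d} : Set G))) :
    ⁅(P : Subgroup G), N⁆ = ⊥ := by
  have hPG : IsPGroup p (P : Subgroup G) := P.isPGroup'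
  rw [← Coprime.le_centralizer_iff_commutator_eq_bot]
  haveI : Group.IsNilpotent (P : Subgroup G) := hPG.isNilpotent
  have hnorm : (P : Subgroup G) ≤ Subgroup.normalizer (N : Set G) := by
    rw [Subgroup.normalizer_eq_top]; exact le_top
  obtain ⟨j, hj⟩ := hPG.exists_card_eq
  have hcop : (Nat.card (P : Subgroup G)).Coprime (Nat.card N) := by
    rw [hj]; exact (hN.pow_right j).symm
  have hS : N ⊓ Subgroup.centralizer ((P : Subgroup G) : Set G) = N := by
    refine Coprime.eq_of_forall_invariant_pgroup_le hnorm hcop (Or.inl inferInstance) inf_le_left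
      fun q Q hq hQ hQN hPQ => ?_
    haveI := Fact.mk hq
    refine le_inf hQN (Subgroup.le_centralizer_iff.1 ?_)
    have hgen : ∀ S : Set G, Subgroup.closure S = (P : Subgroup G) →
        Subgroup.closure ((P : Subgroup G).subtype ⁻¹' S) = ⊤ := by
      intro S hS'
      refine Subgroup.map_injective (P : Subgroup G).subtype_injective ?_
      rw [MonoidHom.map_closure, ← MonoidHom.range_eq_map, Subgroup.range_subtype,
        Subgroup.coe_subtype, Set.image_preimage_eq_of_subset ?_, hS']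
      intro s hs
      rw [Subtype.range_coe]
      exact hS'.le (Subgroup.subset_closure hs)
    exact centralizes_qgroup hp3 hPG hQ hPQ (hN.coprime_dvd_left (Subgroup.card_dvd_of_le hQN))
      _ _ (hgen C hC) (hgen D hD) fun c hc d hd x hx => h x (hQN hx) c hc d hd
  exact inf_eq_left.1 hS

end Cfsg.Agent.S2277
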