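import Cfsg.Statements.S2279
import Cfsg.Agent.Lib.TwoRegular.SLnTop

set_option autoImplicit false
open Cfsg

namespace Cfsg.Agent.S2279

/-- Let F be a finite field with q elements and n ≥ 4. Then SL_n(F) is generated by two regular unipotent elements (elements u with u − 1 nilpotent and (u − 1)^(n−1) ≠ 0); if q is prime, the two can be taken conjugate in SL_n(F). -/
theorem result {F : Type*} [Field F] [Fintype F] (n : ℕ) (hn : 4 ≤ n) :
    (∃ u v : Matrix.SpecialLinearGroup (Fin n) F, (IsNilpotent ((u : Matrix (Fin n) (Fin n) F) - 1) ∧ ((u : Matrix (Fin n) (Fin n) F) - 1) ^ (n - 1) ≠ 0) ∧ (IsNilpotent ((v : Matrix (Fin n) (Fin n) F) - 1) ∧ ((v : Matrix (Fin n) (Fin n) F) - 1) ^ (n - 1) ≠ 0) ∧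
      Subgroup.closure ({u, v} : Set (Matrix.SpecialLinearGroup (Fin n) F)) = ⊤) ∧
    ((Fintype.card F).Prime → ∃ u g : Matrix.SpecialLinearGroup (Fin n) F, (IsNilpotent ((u : Matrix (Fin n) (Fin n) F) - 1) ∧ ((u : Matrix (Fin n) (Fin n) F) - 1) ^ (n - 1) ≠ 0) ∧
      Subgroup.closure ({u, g * u * g⁻¹} : Set (Matrix.SpecialLinearGroup (Fin n) F)) = ⊤) := by
  classical
  haveI : NeZero n := ⟨by omega⟩
  obtain ⟨g, hg⟩ := IsCyclic.exists_generator (α := Fˣ)
  have htop := Agent.TwoRegular.SLn.H_eq_top (hn := hn) g hg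
  obtain ⟨hnil, hne⟩ := Agent.TwoRegular.SLn.J_regular (F := F) (n := n)
  set J := Agent.TwoRegular.SLn.J F n
  set t := Agent.TwoRegular.SLn.tr hn (g : F)
  refine ⟨⟨J, t * J * t⁻¹, ⟨hnil, hne⟩, ?_, htop⟩, fun _ => ⟨J, t, ⟨hnil, hne⟩, htop⟩⟩
  set M : Matrix.SpecialLinearGroup (Fin n) F →* Matrix (Fin n) (Fin n) F := Agent.TwoRegular.SLn.mat F n
  have e : ∀ k : ℕ, (M (t * J * t⁻¹) - 1) ^ k = M t * (M J - 1) ^ k * M t⁻¹ := by
    intro k
    induction k with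
    | zero => rw [pow_zero, pow_zero, mul_one, ← map_mul, mul_inv_cancel, map_one]
    | succ k ih =>
      have h1 : M t⁻¹ * M t = 1 := by rw [← map_mul, inv_mul_cancel, map_one]
      have h2 : M t * M t⁻¹ = 1 := by rw [← map_mul, mul_inv_cancel, map_one]
      rw [pow_succ, ih, map_mul, map_mul, pow_succ]
      calc M t * (M J - 1) ^ k * M t⁻¹ * (M t * M J * M t⁻¹ - 1)
          = M t * (M J - 1) ^ k * (M t⁻¹ * M t) * M J * M t⁻¹ - M t * (M J - 1) ^ k * M t⁻¹ := by noncomm_ring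
        _ = M t * ((M J - 1) ^ k * (M J - 1)) * M t⁻¹ := by rw [h1]; noncomm_ring
  show IsNilpotent (M (t * J * t⁻¹) - 1) ∧ (M (t * J * t⁻¹) - 1) ^ (n - 1) ≠ 0
  refine ⟨?_, fun h => hne ?_⟩
  · obtain ⟨k, hk⟩ := hnil
    refine ⟨k, ?_⟩
    rw [e, show (M J - 1) ^ k = 0 from hk, mul_zero, zero_mul]
  · have := congrArg (fun x => M t⁻¹ * x * M t) h
    simp only [e, mul_zero, zero_mul, ← mul_assoc, ← map_mul, inv_mul_cancel, map_one, one_mul] at this
    rwa [mul_assoc, ← map_mul, inv_mul_cancel, map_one, mul_one] at this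

end Cfsg.Agent.S2279
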