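import Cfsg.Statements.S2280
import Cfsg.Agent.Lib.GL.Simple
import Cfsg.Agent.Lib.GL.Sylow
-- import your own Cfsg.Agent.* helpers here

set_option autoImplicit false
open Cfsg
open scoped commutatorElement

namespace Cfsg.Agent.S2280

section
variable {F : Type*} [Field F] {n : ℕ}

local notation "T" => Matrix.SpecialLinearGroup.transvection
local notation "SLn" => Matrix.SpecialLinearGroup (Fin n) F

theorem conj_transvection (g : SLn) {i j : Fin n} (hij : i ≠ j) (a : F) (r s : Fin n) :
    ((g * T hij a * g⁻¹ : SLn) : Matrix (Fin n) (Fin n) F) r s =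
      (1 : Matrix (Fin n) (Fin n) F) r s +
        (g : Matrix (Fin n) (Fin n) F) r i * a * ((g⁻¹ : SLn) : Matrix (Fin n) (Fin n) F) j s := by
  have h : ((g * T hij a * g⁻¹ : SLn) : Matrix (Fin n) (Fin n) F) =
      1 + (g : Matrix (Fin n) (Fin n) F) * Matrix.single i j a *
        ((g⁻¹ : SLn) : Matrix (Fin n) (Fin n) F) := by
    have h1 : (g : Matrix (Fin n) (Fin n) F) * ((g⁻¹ : SLn) : Matrix (Fin n) (Fin n) F) = 1 :=
      congrArg Subtype.val (mul_inv_cancel g)
    show (g : Matrix (Fin n) (Fin n) F) * (1 + Matrix.single i j a) * _ = _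
    rw [mul_add, add_mul, mul_one, h1]
  rw [h, Matrix.add_apply]
  simp [Matrix.mul_apply, Matrix.single_apply, ite_and, Finset.sum_mul]

theorem transvection_apply {i j : Fin n} (hij : i ≠ j) (a : F) (r s : Fin n) :
    ((T hij a : SLn) : Matrix (Fin n) (Fin n) F) r s =
      (1 : Matrix (Fin n) (Fin n) F) r s + if i = r ∧ j = s then a else 0 := by
  rw [Matrix.SpecialLinearGroup.transvection_coe, Matrix.add_apply, Matrix.single_apply]

theorem transvection_mul_transvection {i j k : Fin n} (hij : i ≠ j) (hik : i ≠ k) (a b : F)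
    (r s : Fin n) :
    ((T hij a * T hik b : SLn) : Matrix (Fin n) (Fin n) F) r s =
      (1 : Matrix (Fin n) (Fin n) F) r s + (if i = r ∧ j = s then a else 0) +
        (if i = r ∧ k = s then b else 0) := by
  show ((1 + Matrix.single i j a) * (1 + Matrix.single i k b) : Matrix (Fin n) (Fin n) F) r s = _
  simp only [mul_add, add_mul, one_mul, mul_one]
  rw [Matrix.single_mul_single_of_ne _ _ _ _ hij.symm, add_zero,
    Matrix.add_apply, Matrix.add_apply, Matrix.single_apply, Matrix.single_apply]

theorem transvection_mul_transvection_col {i j k : Fin n} (hik : i ≠ k) (hjk : j ≠ k) (a b : F)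
    (r s : Fin n) :
    ((T hik a * T hjk b : SLn) : Matrix (Fin n) (Fin n) F) r s =
      (1 : Matrix (Fin n) (Fin n) F) r s + (if i = r ∧ k = s then a else 0) +
        (if j = r ∧ k = s then b else 0) := by
  show ((1 + Matrix.single i k a) * (1 + Matrix.single j k b) : Matrix (Fin n) (Fin n) F) r s = _
  simp only [mul_add, add_mul, one_mul, mul_one]
  rw [Matrix.single_mul_single_of_ne _ _ _ _ hjk.symm, add_zero,
    Matrix.add_apply, Matrix.add_apply, Matrix.single_apply, Matrix.single_apply]

/-- A subgroup with a cycle-shaped element `w`, one upper unitriangular `u` with superdiagonal entry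
`u 0 1 = 1` and a root element `x_{0,n-1}(a₀)` with `a₀ μ` generating the units is all of `SL_n`. -/
theorem eq_top_of_mem (Z O L : Fin n) (hZ : (Z : ℕ) = 0) (hO : (O : ℕ) = 1) (hL : (L : ℕ) + 1 = n)
    (hn : 3 ≤ n) (H : Subgroup SLn) (w u : SLn) (hw : w ∈ H) (hu : u ∈ H)
    (c : Fin n → F) (ρ : F)
    (hwc : ∀ i j : Fin n, (j : ℕ) = i + 1 → ∀ r,
      (w : Matrix (Fin n) (Fin n) F) r i = if r = j then c i else 0)
    (hc : ∀ i : Fin n, i ≠ L → c i ≠ 0)
    (hwL : ∀ s, ((w⁻¹ : SLn) : Matrix (Fin n) (Fin n) F) L s = if s = Z then ρ else 0)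
    (hρ : ρ ≠ 0)
    (hu1 : ∀ r, (u : Matrix (Fin n) (Fin n) F) r O = if r = Z then 1 else if r = O then 1 else 0)
    (huL : ∀ s, ((u⁻¹ : SLn) : Matrix (Fin n) (Fin n) F) L s = if s = L then 1 else 0)
    (θ : Fˣ) (hθ : ∀ x : Fˣ, x ∈ Submonoid.powers θ) (hZL : Z ≠ L)
    (ht : T hZL ((θ : F) / (c Z * ρ)) ∈ H) : H = ⊤ := by
  have hZO : Z ≠ O := by intro h; rw [h] at hZ; omega
  have hOL : O ≠ L := by intro h; rw [h] at hO; omega
  have comm : ∀ {i j k : Fin n} (hij : i ≠ j) (hjk : j ≠ k) (hik : i ≠ k) (a b : F),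
      T hij a ∈ H → T hjk b ∈ H → T hik (a * b) ∈ H := by
    intro i j k hij hjk hik a b ha hb
    rw [← GL.commutator_transvection hij hjk hik, commutatorElement_def]
    exact H.mul_mem (H.mul_mem (H.mul_mem ha hb) (H.inv_mem ha)) (H.inv_mem hb)
  have step : ∀ (i j : Fin n) (_ : (j : ℕ) = i + 1) (hiL : i ≠ L) (hjZ : j ≠ Z) (a : F),
      T hiL a ∈ H → T hjZ (c i * a * ρ) ∈ H := by
    intro i j hij hiL hjZ a ha
    convert H.mul_mem (H.mul_mem hw ha) (H.inv_mem hw) using 1
    ext r s
    rw [conj_transvection, transvection_apply, hwc i j hij, hwL]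
    grind
  -- the set of parameters of the highest root group is the whole field
  have hA : ∀ a : F, T hZL a ∈ H := by
    set μ := c Z * ρ with hμdef
    have hμ : μ ≠ 0 := mul_ne_zero (hc Z hZL) hρ
    have hclosed : ∀ a b : F, T hZL a ∈ H → T hZL b ∈ H → T hZL (μ * a * b) ∈ H := by
      intro a b ha hb
      have h1 := comm hZO.symm hZL hOL _ _ (step Z O (by omega) hZL hZO.symm a ha) hb
      rw [show c Z * a * ρ * b = μ * a * b by rw [hμdef]; ring] at h1
      have h2 := H.mul_mem (H.mul_mem hu h1) (H.inv_mem hu)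
      have h3 : u * T hOL (μ * a * b) * u⁻¹ = T hZL (μ * a * b) * T hOL (μ * a * b) := by
        ext r s
        rw [conj_transvection, transvection_mul_transvection_col, hu1, huL]
        grind
      rw [h3] at h2
      exact (H.mul_mem_cancel_right h1).1 h2
    have hpow : ∀ m : ℕ, T hZL (((θ : F) ^ (m + 1)) / μ) ∈ H := by
      intro m
      induction m with
      | zero => rwa [zero_add, pow_one]
      | succ m ih =>
        have := hclosed _ _ ih ht
        rwa [show μ * ((θ : F) ^ (m + 1) / μ) * ((θ : F) / μ) = (θ : F) ^ (m + 1 + 1) / μ by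
          rw [pow_succ _ (m + 1)]; field_simp] at this
    intro a
    rcases eq_or_ne a 0 with rfl | ha
    · rw [Matrix.SpecialLinearGroup.transvection_coeff_zero]; exact H.one_mem
    obtain ⟨k, hk : θ ^ k = _⟩ := hθ (Units.mk0 (a * μ) (mul_ne_zero ha hμ) * θ⁻¹)
    have h' : θ ^ (k + 1) = Units.mk0 (a * μ) (mul_ne_zero ha hμ) := by
      rw [pow_succ, hk, inv_mul_cancel_right]
    have h'' := congrArg Units.val h'
    rw [Units.val_pow_eq_pow_val, Units.val_mk0] at h''
    have := hpow k
    rwa [h'', mul_div_cancel_right₀ a hμ] at this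
  -- last column and first column
  have hcol : ∀ m : ℕ, ∀ i : Fin n, (i : ℕ) = m → ∀ (h : i ≠ L) (a : F), T h a ∈ H := by
    intro m
    induction m with
    | zero =>
      intro i hi h a
      obtain rfl : i = Z := Fin.ext (by omega)
      exact hA a
    | succ m ih =>
      intro i hi h a
      let i' : Fin n := ⟨m, by omega⟩
      have hi'L : i' ≠ L := by
        intro e
        have : m = (L : ℕ) := congrArg Fin.val e
        omega
      have hiZ : i ≠ Z := by intro e; rw [e] at hi; omega
      have hci : c i' ≠ 0 := hc _ hi'L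
      have h1 := step i' i hi hi'L hiZ (a / (c i' * ρ)) (ih i' rfl hi'L _)
      rw [show c i' * (a / (c i' * ρ)) * ρ = a by field_simp] at h1
      have h2 := comm hiZ hZL h a 1 h1 (hA 1)
      rwa [mul_one] at h2
  have hcol0 : ∀ (i : Fin n) (h : i ≠ Z) (a : F), T h a ∈ H := by
    intro i h a
    have hi0 : (i : ℕ) ≠ 0 := fun e => h (Fin.ext (by omega))
    let i' : Fin n := ⟨i - 1, by omega⟩
    have hi'L : i' ≠ L := by
      intro e
      have : (i : ℕ) - 1 = (L : ℕ) := congrArg Fin.val e
      omega
    have hci : c i' ≠ 0 := hc _ hi'L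
    have h1 := step i' i (by show (i : ℕ) = i - 1 + 1; omega) hi'L h (a / (c i' * ρ))
      (hcol _ i' rfl hi'L _)
    rwa [show c i' * (a / (c i' * ρ)) * ρ = a by field_simp] at h1
  have hall : ∀ m : ℕ, ∀ i j : Fin n, (j : ℕ) = m → ∀ (h : i ≠ j) (a : F), T h a ∈ H := by
    intro m
    induction m with
    | zero =>
      intro i j hj h a
      obtain rfl : j = Z := Fin.ext (by omega)
      exact hcol0 i h a
    | succ m ih =>
      intro i j hj h a
      by_cases hjL : j = L
      · subst hjL
        exact hcol _ i rfl h a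
      let j' : Fin n := ⟨m, by omega⟩
      have hjlt : (j : ℕ) + 1 < n := by
        by_contra hc'
        exact hjL (Fin.ext (by omega))
      have hj'L : j' ≠ L := by
        intro e
        have : m = (L : ℕ) := congrArg Fin.val e
        omega
      have hj'row : ((w⁻¹ : SLn) : Matrix (Fin n) (Fin n) F) * (w : Matrix (Fin n) (Fin n) F) = 1 :=
        congrArg Subtype.val (inv_mul_cancel w)
      set R := fun s => ((w⁻¹ : SLn) : Matrix (Fin n) (Fin n) F) j' s with hR
      have hRs : ∀ s, s ≠ Z → R s = if s = j then (c j')⁻¹ else 0 := by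
        intro s hs
        have hs0 : (s : ℕ) ≠ 0 := fun e => hs (Fin.ext (by omega))
        let s' : Fin n := ⟨s - 1, by omega⟩
        have he := congrFun (congrFun hj'row j') s'
        rw [Matrix.mul_apply, Matrix.one_apply] at he
        simp only [hwc s' s (by show (s : ℕ) = s - 1 + 1; omega), mul_ite, mul_zero,
          Finset.sum_ite_eq', Finset.mem_univ, if_true] at he
        have hs'L : s' ≠ L := by
          intro e
          have : (s : ℕ) - 1 = (L : ℕ) := congrArg Fin.val e
          omega
        by_cases hsj : s = j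
        · subst hsj
          have hs'j : s' = j' := Fin.ext (by show (s : ℕ) - 1 = m; omega)
          rw [hs'j, if_pos rfl] at he
          simpa [hR] using eq_inv_of_mul_eq_one_left he
        · have hne : j' ≠ s' := by
            intro e
            have : m = (s : ℕ) - 1 := congrArg Fin.val e
            exact hsj (Fin.ext (by omega))
          rw [if_neg hne] at he
          rw [if_neg hsj]
          simpa [hR, hc _ hs'L] using he
      have hjZ : j ≠ Z := by intro e; rw [e] at hj; omega
      -- the rows other than the first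
      have key : ∀ (k : Fin n) (hk : k ≠ j) (_ : k ≠ Z) (a : F), T hk a ∈ H := by
        intro k hk hkZ a
        have hk0 : (k : ℕ) ≠ 0 := fun e => hkZ (Fin.ext (by omega))
        let k' : Fin n := ⟨k - 1, by omega⟩
        have hk'j : k' ≠ j' := by
          intro e
          have : (k : ℕ) - 1 = m := congrArg Fin.val e
          exact hk (Fin.ext (by omega))
        have hk'L : k' ≠ L := by
          intro e
          have : (k : ℕ) - 1 = (L : ℕ) := congrArg Fin.val e
          omega
        have hc1 : c k' ≠ 0 := hc _ hk'L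
        have hc2 : c j' ≠ 0 := hc _ hj'L
        have hb := H.mul_mem (H.mul_mem hw (ih k' j' rfl hk'j (a * c j' / c k'))) (H.inv_mem hw)
        have e : w * T hk'j (a * c j' / c k') * w⁻¹ = T hk a * T hkZ (a * c j' * R Z) := by
          ext r s
          rw [conj_transvection, transvection_mul_transvection,
            hwc k' k (by show (k : ℕ) = k - 1 + 1; omega)]
          by_cases hsZ : s = Z
          · subst hsZ
            show _ + _ * _ * R s = _
            grind
          · show _ + _ * _ * R s = _
            rw [hRs s hsZ]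
            grind
        rw [e] at hb
        exact (H.mul_mem_cancel_right (hcol0 k hkZ _)).1 hb
      by_cases hiZ : i = Z
      · subst hiZ
        have := comm hZL (Ne.symm hjL) h a 1 (hA a) (key L (Ne.symm hjL) hZL.symm 1)
        rwa [mul_one] at this
      · exact key i h hiZ a
  exact GL.SL_eq_top_of_transvection_mem fun i j hij a => hall _ i j rfl hij a

end

/-- Let F be a finite field and n ≥ 3. Then SL_n(F) is generated by three conjugate regular unipotent elements: there are u with u − 1 nilpotent and (u − 1)^(n−1) ≠ 0, and g, h, such that u, g u g⁻¹ and h u h⁻¹ generate SL_n(F). -/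
theorem result {F : Type*} [Field F] [Fintype F] (n : ℕ) (hn : 3 ≤ n) :
    ∃ u g h : Matrix.SpecialLinearGroup (Fin n) F, (IsNilpotent ((u : Matrix (Fin n) (Fin n) F) - 1) ∧ ((u : Matrix (Fin n) (Fin n) F) - 1) ^ (n - 1) ≠ 0) ∧
      Subgroup.closure ({u, g * u * g⁻¹, h * u * h⁻¹} : Set (Matrix.SpecialLinearGroup (Fin n) F)) = ⊤ := by
  classical
  let N : Matrix (Fin n) (Fin n) F := Matrix.of fun i j => if (j : ℕ) = i + 1 then 1 else 0
  have hN : ∀ i j, N i j = if (j : ℕ) = i + 1 then 1 else 0 := fun _ _ => rfl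
  have hNlow : ∀ i j : Fin n, j ≤ i → N i j = 0 := fun i j h => by
    rw [hN, if_neg (by rw [Fin.le_def] at h; omega)]
  have hUtri : ∀ i j : Fin n, j < i → (1 + N) i j = 0 := fun i j h => by
    rw [Matrix.add_apply, Matrix.one_apply_ne h.ne', hNlow i j h.le, add_zero]
  have hUdiag : ∀ i : Fin n, (1 + N) i i = 1 := fun i => by
    rw [Matrix.add_apply, Matrix.one_apply_eq, hNlow i i le_rfl, add_zero]
  let u : Matrix.SpecialLinearGroup (Fin n) F := ⟨1 + N, by
    rw [Matrix.det_of_isUpperTriangular (fun i j => hUtri i j)]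
    simp [hUdiag]⟩
  have huU : u ∈ GL.unitriangularSL n F := GL.mem_unitriangular.2 ⟨hUtri, hUdiag⟩
  have hNpow : ∀ k : ℕ, ∀ i j : Fin n, (N ^ k) i j = if (j : ℕ) = i + k then 1 else 0 := by
    intro k
    induction k with
    | zero => intro i j; simp [Matrix.one_apply, Fin.ext_iff, eq_comm]
    | succ k ih =>
      intro i j
      rw [pow_succ, Matrix.mul_apply]
      simp only [ih, hN, ite_mul, one_mul, zero_mul]
      by_cases h : (i : ℕ) + k < n
      · rw [Finset.sum_eq_single ⟨(i : ℕ) + k, h⟩]
        · simp [add_assoc]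
        · intro b _ hb
          rw [if_neg (fun e => hb (Fin.ext e))]
        · simp
      · rw [Finset.sum_eq_zero (fun b _ => if_neg (by omega)), if_neg (by omega)]
  have hnil : IsNilpotent ((u : Matrix (Fin n) (Fin n) F) - 1) := by
    refine ⟨n, ?_⟩
    rw [show (u : Matrix (Fin n) (Fin n) F) - 1 = N from add_sub_cancel_left 1 N]
    ext i j
    rw [hNpow, if_neg (by omega)]
    rfl
  have hreg : ((u : Matrix (Fin n) (Fin n) F) - 1) ^ (n - 1) ≠ 0 := by
    rw [show (u : Matrix (Fin n) (Fin n) F) - 1 = N from add_sub_cancel_left 1 N]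
    intro h
    have := congrFun (congrFun h ⟨0, by omega⟩) ⟨n - 1, by omega⟩
    rw [hNpow, if_pos (by simp)] at this
    exact one_ne_zero this
  let Z : Fin n := ⟨0, by omega⟩
  let O : Fin n := ⟨1, by omega⟩
  let L : Fin n := ⟨n - 1, by omega⟩
  have hZ : (Z : ℕ) = 0 := rfl
  have hO : (O : ℕ) = 1 := rfl
  have hL : (L : ℕ) + 1 = n := by show n - 1 + 1 = n; omega
  have hZL : Z ≠ L := fun e => by have := congrArg Fin.val e; omega
  have hOL : O ≠ L := fun e => by have := congrArg Fin.val e; omega
  -- the cyclic basis of `u`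
  let U : Matrix (Fin n) (Fin n) F := 1 + N
  let P : Matrix (Fin n) (Fin n) F := Matrix.of fun r k => (U ^ (k : ℕ)) r L
  have hPdet : P.det ≠ 0 := by
    have hspan : ∀ k : ℕ, k < n → ∀ m : ℕ, m + k < n →
        (U ^ m * N ^ k).col L ∈ Submodule.span F (Set.range P.col) := by
      intro k
      induction k with
      | zero =>
        intro _ m hm
        rw [pow_zero, mul_one]
        exact Submodule.subset_span ⟨⟨m, by omega⟩, rfl⟩
      | succ k ih =>
        intro hk m hm
        rw [show U ^ m * N ^ (k + 1) = U ^ (m + 1) * N ^ k - U ^ m * N ^ k by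
          rw [pow_succ U m, mul_assoc, ← mul_sub, add_mul, one_mul, add_sub_cancel_left, pow_succ']]
        exact Submodule.sub_mem _ (ih (by omega) (m + 1) (by omega)) (ih (by omega) m (by omega))
    have htop : Submodule.span F (Set.range P.col) = ⊤ := by
      rw [eq_top_iff, ← (Pi.basisFun F (Fin n)).span_eq, Submodule.span_le]
      rintro _ ⟨r, rfl⟩
      have := hspan (n - 1 - r) (by omega) 0 (by omega)
      rw [pow_zero, one_mul] at this
      suffices e : Pi.basisFun F (Fin n) r = (N ^ (n - 1 - (r : ℕ))).col L by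
        rw [SetLike.mem_coe, e]
        exact this
      ext s
      rw [Pi.basisFun_apply, Pi.single_apply, Matrix.col_apply, hNpow]
      congr 1
      refine propext ⟨fun e => ?_, fun e => Fin.ext ?_⟩
      · subst e
        show n - 1 = _
        omega
      · have : n - 1 = (s : ℕ) + (n - 1 - r) := e
        omega
    rw [← isUnit_iff_ne_zero, ← Matrix.isUnit_iff_isUnit_det,
      ← Matrix.linearIndependent_cols_iff_isUnit]
    exact linearIndependent_of_top_le_span_of_card_eq_finrank htop.ge (by simp)
  -- normalise the determinant by scaling the last basis vector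
  let Q : Matrix (Fin n) (Fin n) F := Matrix.of fun r k => if k = L then P r k / P.det else P r k
  have hQdet : Q.det = 1 := by
    have : Q = P * Matrix.diagonal (fun k => if k = L then (P.det)⁻¹ else 1) := by
      ext r k
      rw [Matrix.mul_diagonal]
      by_cases h : k = L <;> simp [Q, h, div_eq_mul_inv]
    rw [this, Matrix.det_mul, Matrix.det_diagonal, Finset.prod_ite_eq' Finset.univ L]
    simp [hPdet]
  let g : Matrix.SpecialLinearGroup (Fin n) F := ⟨Q, hQdet⟩
  let c : Fin n → F := fun i => if (i : ℕ) + 2 = n then P.det else 1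
  have hcne : ∀ i, c i ≠ 0 := fun i => by simp only [c]; split_ifs <;> simp [hPdet]
  set w := g⁻¹ * u * g with hwdef
  have hwc : ∀ i j : Fin n, (j : ℕ) = i + 1 → ∀ r,
      (w : Matrix (Fin n) (Fin n) F) r i = if r = j then c i else 0 := by
    intro i j hij r
    have hiL : i ≠ L := by
      intro e
      rw [e] at hij
      omega
    have hcol : ∀ s, (U * Q) s i = c i * Q s j := by
      intro s
      have h1 : (U * Q) s i = (U ^ (j : ℕ)) s L := by
        rw [hij, pow_succ', Matrix.mul_apply, Matrix.mul_apply]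
        exact Finset.sum_congr rfl fun t _ => by simp [Q, P, hiL]
      rw [h1]
      by_cases hjL : j = L
      · have hcd : c i = P.det := by
          simp only [c]
          rw [if_pos]
          rw [hjL] at hij
          omega
        rw [hcd, show Q s j = P s j / P.det by simp [Q, hjL], mul_div_cancel₀ _ hPdet]
        rfl
      · have hcd : c i = 1 := by
          simp only [c]
          rw [if_neg]
          intro e
          exact hjL (Fin.ext (by omega))
        rw [hcd, one_mul, show Q s j = P s j by simp [Q, hjL]]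
        rfl
    have hQ1 : ((g⁻¹ : Matrix.SpecialLinearGroup (Fin n) F) : Matrix (Fin n) (Fin n) F) * Q = 1 :=
      congrArg Subtype.val (inv_mul_cancel g)
    have hj' := congrFun (congrFun hQ1 r) j
    rw [Matrix.mul_apply, Matrix.one_apply] at hj'
    show ((((g⁻¹ : Matrix.SpecialLinearGroup (Fin n) F) : Matrix (Fin n) (Fin n) F) * U) * Q) r i = _
    rw [mul_assoc, Matrix.mul_apply]
    simp only [hcol, mul_left_comm _ (c i), ← Finset.mul_sum, hj']
    simp
  have hwinv : ((w⁻¹ : Matrix.SpecialLinearGroup (Fin n) F) : Matrix (Fin n) (Fin n) F) *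
      (w : Matrix (Fin n) (Fin n) F) = 1 := congrArg Subtype.val (inv_mul_cancel w)
  have hwL : ∀ s, s ≠ Z →
      ((w⁻¹ : Matrix.SpecialLinearGroup (Fin n) F) : Matrix (Fin n) (Fin n) F) L s = 0 := by
    intro s hs
    have hs0 : (s : ℕ) ≠ 0 := fun e => hs (Fin.ext e)
    let s' : Fin n := ⟨s - 1, by omega⟩
    have he := congrFun (congrFun hwinv L) s'
    rw [Matrix.mul_apply, Matrix.one_apply, if_neg] at he
    · simp only [hwc s' s (by show (s : ℕ) = s - 1 + 1; omega), mul_ite, mul_zero,
        Finset.sum_ite_eq', Finset.mem_univ, if_true] at he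
      simpa [hcne] using he
    · intro e
      have : n - 1 = (s : ℕ) - 1 := congrArg Fin.val e
      omega
  set ρ := ((w⁻¹ : Matrix.SpecialLinearGroup (Fin n) F) : Matrix (Fin n) (Fin n) F) L Z with hρdef
  have hwL' : ∀ s, ((w⁻¹ : Matrix.SpecialLinearGroup (Fin n) F) : Matrix (Fin n) (Fin n) F) L s =
      if s = Z then ρ else 0 := by
    intro s
    split_ifs with h
    · rw [h]
    · exact hwL s h
  have hρ : ρ ≠ 0 := by
    intro h0
    refine Matrix.SpecialLinearGroup.row_ne_zero w⁻¹ L (funext fun s => ?_)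
    show ((w⁻¹ : Matrix.SpecialLinearGroup (Fin n) F) : Matrix (Fin n) (Fin n) F) L s = 0
    rw [hwL' s, h0, ite_self]
  obtain ⟨θ, hθ⟩ : ∃ θ : Fˣ, ∀ x : Fˣ, x ∈ Submonoid.powers θ := by
    obtain ⟨θ, hθ⟩ := IsCyclic.exists_generator (α := Fˣ)
    exact ⟨θ, fun x => (mem_powers_iff_mem_zpowers).2 (hθ x)⟩
  set a₀ : F := (θ : F) / (c Z * ρ) with ha₀
  let h₁ : Matrix.SpecialLinearGroup (Fin n) F :=
    Matrix.SpecialLinearGroup.transvection hOL (-a₀)
  have hv : h₁ * u * h₁⁻¹ = u * Matrix.SpecialLinearGroup.transvection hZL a₀ := by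
    rw [mul_inv_eq_iff_eq_mul]
    apply Matrix.SpecialLinearGroup.coeMonoidHom_injective
    simp only [map_mul, Matrix.SpecialLinearGroup.coeMonoidHom_apply, h₁,
      Matrix.SpecialLinearGroup.transvection_coe]
    show (1 + Matrix.single O L (-a₀)) * (1 + N) =
      (1 + N) * (1 + Matrix.single Z L a₀) * (1 + Matrix.single O L (-a₀))
    have e1 : Matrix.single O L (-a₀) * N = 0 := by
      ext r s
      rw [Matrix.mul_apply]
      exact Finset.sum_eq_zero fun t _ => by
        rw [Matrix.single_apply]
        split_ifs with h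
        · rw [← h.2, hN, if_neg (by omega), mul_zero]
        · rw [zero_mul]
    have e2 : N * Matrix.single Z L a₀ = 0 := by
      ext r s
      rw [Matrix.mul_apply]
      exact Finset.sum_eq_zero fun t _ => by
        rw [Matrix.single_apply]
        split_ifs with h
        · rw [← h.1, hN, if_neg (by omega), zero_mul]
        · rw [mul_zero]
    have e3 : N * Matrix.single O L (-a₀) = Matrix.single Z L (-a₀) := by
      ext r s
      rw [Matrix.mul_apply]
      simp only [Matrix.single_apply, hN, ite_mul, one_mul, zero_mul, mul_ite, mul_one, mul_zero]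
      rw [Finset.sum_eq_single O]
      · simp [Fin.ext_iff, hZ, hO]
        grind
      · intro b _ hb
        simp [Ne.symm hb]
      · simp
    have e4 : Matrix.single Z L a₀ * Matrix.single O L (-a₀) = (0 : Matrix (Fin n) (Fin n) F) :=
      Matrix.single_mul_single_of_ne _ _ _ _ hOL.symm _
    have e5 : (Matrix.single Z L a₀ : Matrix (Fin n) (Fin n) F) = -Matrix.single Z L (-a₀) := by
      rw [eq_neg_iff_add_eq_zero, ← Matrix.single_add, add_neg_cancel, Matrix.single_zero]
    simp only [mul_add, add_mul, one_mul, mul_one, e1, e2, e3, e4, zero_mul, add_zero]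
    rw [e5]
    abel
  refine ⟨u, h₁, g⁻¹, ⟨hnil, hreg⟩, ?_⟩
  rw [inv_inv, hv, ← hwdef]
  set H := Subgroup.closure ({u, u * Matrix.SpecialLinearGroup.transvection hZL a₀, w} :
    Set (Matrix.SpecialLinearGroup (Fin n) F))
  have hu : u ∈ H := Subgroup.subset_closure (by simp)
  have ht : Matrix.SpecialLinearGroup.transvection hZL a₀ ∈ H :=
    (H.mul_mem_cancel_left hu).1 (Subgroup.subset_closure (by simp))
  refine eq_top_of_mem Z O L hZ hO hL hn H w u (Subgroup.subset_closure (by simp)) hu c ρ hwc
    (fun i _ => hcne i) hwL' hρ ?_ ?_ θ hθ hZL ht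
  · intro r
    show (1 + N) r O = _
    rw [Matrix.add_apply, hN, Matrix.one_apply]
    simp only [Fin.ext_iff, hO, hZ]
    grind
  · intro s
    have hinv := (GL.unitriangularSL n F).inv_mem huU
    obtain ⟨hlow, hdiag⟩ := GL.mem_unitriangular.1 hinv
    by_cases hs : s = L
    · rw [if_pos hs, hs]
      exact hdiag L
    · rw [if_neg hs]
      exact hlow L s (Fin.lt_def.2 (by
        have : (s : ℕ) ≠ (L : ℕ) := fun e => hs (Fin.ext e)
        omega))

end Cfsg.Agent.S2280
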