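import Cfsg.Statements.S2284
import Cfsg.Agent.Lib.BoundedPres.Short.Main
-- import your own Cfsg.Agent.* helpers here

set_option autoImplicit false
open Cfsg

namespace Cfsg.Agent.S2284

/-- For every n, the symmetric group S_n and the alternating group A_n each have a presentation with 2 generators and at most 8 relations. -/
theorem result (n : ℕ) : (∃ rels : Finset (FreeGroup (Fin 2)), rels.card ≤ 8 ∧ Nonempty (PresentedGroup (↑rels : Set (FreeGroup (Fin 2))) ≃* Equiv.Perm (Fin n))) ∧ (∃ rels : Finset (FreeGroup (Fin 2)), rels.card ≤ 8 ∧ Nonempty (PresentedGroup (↑rels : Set (FreeGroup (Fin 2))) ≃* ↥(alternatingGroup (Fin n)))) := by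
  open Cfsg.Agent.BoundedPres in
  by_cases hn : 5 ≤ n
  · obtain ⟨g, hg, hg2⟩ := Short.sym_big n hn
    obtain ⟨g', hg', hg2'⟩ := Short.alt_big n hn
    obtain ⟨r, hr, he⟩ := (hg.restrict Fin.succ (Fin.succ_injective _) hg2).presented
    obtain ⟨r', hr', he'⟩ := (hg'.restrict Fin.succ (Fin.succ_injective _) hg2').presented
    exact ⟨⟨r, hr.trans (by omega), he⟩, ⟨r', hr'.trans (by omega), he'⟩⟩
  · obtain ⟨u, v, huv⟩ := Short.exists_two_gen_sym n
    obtain ⟨u', v', huv'⟩ := exists_two_gen_alt n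
    obtain ⟨r, hr, e, -⟩ := (Short.sym_small_pres n (by omega)).twoGen huv
    obtain ⟨r', hr', e', -⟩ := (Short.alt_small_pres n (by omega)).twoGen huv'
    exact ⟨⟨r, hr.trans (by omega), ⟨e⟩⟩, ⟨r', hr'.trans (by omega), ⟨e'⟩⟩⟩

end Cfsg.Agent.S2284
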