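import Cfsg.Statements.S2288
import Cfsg.Agent.Lib.SLnPresentation.Four
import Cfsg.Agent.Lib.SLnPresentation.Five
import Cfsg.Agent.Lib.BoundedPres.Short.Main

set_option autoImplicit false
open Cfsg
open Cfsg.Agent.SLnPresentation

namespace Cfsg.Agent.S2288

/-- For every finite field F and n ≥ 4: SL_n(F) has a presentation with 7 generators and at most 25 relations, and PSL_n(F) one with 7 generators and at most 26 relations; moreover SL_4(F) has one with 6 generators and at most 21 relations and SL_5(F) one with 6 generators and at most 22 relations. -/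
theorem result {F : Type*} [Field F] [Fintype F] (n : ℕ) (hn : 4 ≤ n) :
    (∃ rels : Finset (FreeGroup (Fin 7)), rels.card ≤ 25 ∧ Nonempty (PresentedGroup (↑rels : Set (FreeGroup (Fin 7))) ≃* Matrix.SpecialLinearGroup (Fin n) F)) ∧ (∃ rels : Finset (FreeGroup (Fin 7)), rels.card ≤ 26 ∧ Nonempty (PresentedGroup (↑rels : Set (FreeGroup (Fin 7))) ≃* Matrix.ProjectiveSpecialLinearGroup (Fin n) F)) ∧
    (∃ rels : Finset (FreeGroup (Fin 6)), rels.card ≤ 21 ∧ Nonempty (PresentedGroup (↑rels : Set (FreeGroup (Fin 6))) ≃* Matrix.SpecialLinearGroup (Fin 4) F)) ∧ (∃ rels : Finset (FreeGroup (Fin 6)), rels.card ≤ 22 ∧ Nonempty (PresentedGroup (↑rels : Set (FreeGroup (Fin 6))) ≃* Matrix.SpecialLinearGroup (Fin 5) F)) := by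
  have hz : ∃ z : Matrix.SpecialLinearGroup (Fin n) F,
      Subgroup.center (Matrix.SpecialLinearGroup (Fin n) F) = Subgroup.normalClosure {z} := by
    have : NeZero (max (Fintype.card (Fin n)) 1) := ⟨by omega⟩
    have hc : IsCyclic (Subgroup.center (Matrix.SpecialLinearGroup (Fin n) F)) :=
      isCyclic_of_surjective (Matrix.SpecialLinearGroup.center_equiv_rootsOfUnity (n := Fin n) (R := F)).symm
        (MulEquiv.surjective _)
    obtain ⟨z, hz⟩ := hc.exists_generator
    refine ⟨(z : Matrix.SpecialLinearGroup (Fin n) F), le_antisymm (fun x hx => ?_)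
      (Subgroup.normalClosure_le_normal (Set.singleton_subset_iff.2 z.2))⟩
    obtain ⟨k, hk⟩ := Subgroup.mem_zpowers_iff.1 (hz ⟨x, hx⟩)
    rw [show x = (z : Matrix.SpecialLinearGroup (Fin n) F) ^ k from (congrArg Subtype.val hk).symm]
    exact Subgroup.zpow_mem _ (Subgroup.subset_normalClosure (Set.mem_singleton _)) k
  have hsl : ∃ rels : Finset (FreeGroup (Fin 7)), rels.card ≤ 25 ∧
      Nonempty (PresentedGroup (↑rels : Set (FreeGroup (Fin 7))) ≃* Matrix.SpecialLinearGroup (Fin n) F) := by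
    rcases Nat.lt_or_ge n 5 with h | h
    · obtain rfl : n = 4 := by omega
      obtain ⟨r, hr, ⟨e⟩⟩ := Four.exists_presentation (F := F)
      obtain ⟨r', hr', he⟩ := exists_pad (d := 2) hr e
      exact ⟨r', hr'.trans (by norm_num), he⟩
    · obtain ⟨g, hg, -⟩ := Cfsg.Agent.BoundedPres.Short.alt_big n h
      obtain ⟨RA, hc, ⟨eA⟩⟩ := hg.presented
      obtain ⟨r, hr, ⟨e⟩⟩ := exists_presentation (F := F) h hc eA
      exact exists_pad (d := 2) hr e
  refine ⟨hsl, ?_, ?_, ?_⟩
  · obtain ⟨r, hr, ⟨e⟩⟩ := hsl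
    obtain ⟨z, hz⟩ := hz
    exact Cfsg.Agent.SLnPresentation.exists_quot hr e _ z hz
  · obtain ⟨r, hr, ⟨e⟩⟩ := Cfsg.Agent.SLnPresentation.Four.exists_presentation (F := F)
    exact Cfsg.Agent.SLnPresentation.exists_pad (d := 1) hr e
  · obtain ⟨r, hr, ⟨e⟩⟩ := Cfsg.Agent.SLnPresentation.exists_presentation_five (F := F)
    obtain ⟨r', hr', he⟩ := Cfsg.Agent.SLnPresentation.exists_pad (d := 2) hr e
    exact ⟨r', hr'.trans (by norm_num), he⟩

end Cfsg.Agent.S2288
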