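import Cfsg.Statements.S2289
import Cfsg.Agent.Lib.BoundedPres.U3.Main
import Cfsg.Agent.Lib.BoundedPres.Sp4Pres
import Cfsg.Agent.Lib.BoundedPres.PSL

set_option autoImplicit false
open Cfsg

namespace Cfsg.Agent.S2289

/-- Let F be a field with q² elements, q ∉ {2, 3, 5}, and SU_3(q), PSU_3(q) the special unitary group of the standard Hermitian form and its central quotient. Then SU_3(q) has a presentation with 3 generators and at most 23 relations, and PSU_3(q) one with 3 generators and at most 24 relations. -/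
theorem result {F : Type*} [Field F] [Fintype F] (q : ℕ) (hF : Fintype.card F = q ^ 2) (h2 : q ≠ 2) (h3 : q ≠ 3) (h5 : q ≠ 5) :
    (∃ rels : Finset (FreeGroup (Fin 3)), rels.card ≤ 23 ∧ Nonempty (PresentedGroup (↑rels : Set (FreeGroup (Fin 3))) ≃* ↥(Cfsg.SU 3 F q))) ∧ (∃ rels : Finset (FreeGroup (Fin 3)), rels.card ≤ 24 ∧ Nonempty (PresentedGroup (↑rels : Set (FreeGroup (Fin 3))) ≃* Cfsg.PSU 3 F q)) := by
  have hq : 4 ≤ q := by
    have := Cfsg.Agent.Forms.one_lt_q hF
    omega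
  obtain ⟨g, hg⟩ := Cfsg.Agent.BoundedPres.U3.su_tup hF hq
  obtain ⟨R, hR, ⟨e⟩⟩ := hg.presented
  have hc : IsCyclic (Subgroup.center ↥(Cfsg.SU 3 F q)) := by
    have h := Cfsg.Agent.Forms.card_center_SU hF (n := 3) (by norm_num)
    rcases (Nat.dvd_prime Nat.prime_three).1 (Nat.gcd_dvd_left 3 (q + 1)) with h1 | h1
    · have : Subsingleton (Subgroup.center ↥(Cfsg.SU 3 F q)) :=
        (Nat.card_eq_one_iff_unique.1 (h.trans h1)).1
      exact isCyclic_of_subsingleton
    · have := Fact.mk Nat.prime_three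
      exact isCyclic_of_prime_card (p := 3) (h.trans h1)
  obtain ⟨z, hz⟩ := Cfsg.Agent.BoundedPres.exists_normalClosure_center hc
  obtain ⟨R', hR', e'⟩ := Cfsg.Agent.BoundedPres.presented_quotient e _ z hz
  exact ⟨⟨R, by omega, ⟨e⟩⟩, ⟨R', by omega, e'⟩⟩

end Cfsg.Agent.S2289
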