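import Cfsg.Statements.S2291
import Cfsg.Agent.Lib.SUnPresentation.Main
import Cfsg.Agent.Lib.BoundedPres.U3.Psu
-- import your own Cfsg.Agent.* helpers here

set_option autoImplicit false
open Cfsg

namespace Cfsg.Agent.S2291

/-- Let F be a field with q² elements and n ≥ 3 with (n, q) ≠ (3, 2). Then the simple group PSU_n(q) (for the standard Hermitian form) has a presentation with 2 generators and at most 80 relations. -/
theorem result {F : Type*} [Field F] [Fintype F] (q n : ℕ) (hF : Fintype.card F = q ^ 2) (hn : 3 ≤ n) (h32 : ¬ (n = 3 ∧ q = 2)) :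
    ∃ rels : Finset (FreeGroup (Fin 2)), rels.card ≤ 80 ∧ Nonempty (PresentedGroup (↑rels : Set (FreeGroup (Fin 2))) ≃* Cfsg.PSU n F q) := by
  rcases eq_or_lt_of_le hn with rfl | h4
  · obtain ⟨R, hR, he⟩ := Cfsg.Agent.BoundedPres.U3.psu_three hF fun h => h32 ⟨rfl, h⟩
    exact ⟨R, hR.trans (by norm_num), he⟩
  have hsu : Cfsg.Agent.BoundedPres.Pres ↥(Cfsg.SU n F q) 60 := by
    rcases eq_or_lt_of_le (show 4 ≤ n by omega) with rfl | h5
    · obtain ⟨g, hg⟩ := Cfsg.Agent.SU4Presentation.su4_presentation hF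
      exact hg.pres.mono (by split <;> norm_num)
    · obtain ⟨g, hg⟩ := Cfsg.Agent.SUnPresentation.su_tup hF h5
      exact hg.pres.mono (by split <;> norm_num)
  obtain ⟨z, hz⟩ := Cfsg.Agent.BoundedPres.exists_normalClosure_center
    (Cfsg.Agent.SUnPresentation.center_cyclic hF hn)
  obtain ⟨R, hR, he⟩ := Cfsg.Agent.BoundedPres.U3.psu_two_gen hF hn (fun h => absurd h (by omega))
    (hsu.quotient _ z hz)
  exact ⟨R, hR.trans (by norm_num), he⟩

end Cfsg.Agent.S2291
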