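import Cfsg.Statements.S2292
import Cfsg.Agent.Lib.BoundedPres.SpPres
import Cfsg.Agent.Lib.TwoGen.SympGen
-- import your own Cfsg.Agent.* helpers here

set_option autoImplicit false
open Cfsg

namespace Cfsg.Agent.S2292

/-- Let F be a finite field with q elements and m ≥ 2 with (m, q) ≠ (2, 2). Then the simple group PSp_2m(F) has a presentation with 2 generators and at most 80 relations. -/
theorem result {F : Type*} [Field F] [Fintype F] (m : ℕ) (hm : 2 ≤ m) (h22 : ¬ (m = 2 ∧ Fintype.card F = 2)) :
    ∃ rels : Finset (FreeGroup (Fin 2)), rels.card ≤ 80 ∧ Nonempty (PresentedGroup (↑rels : Set (FreeGroup (Fin 2))) ≃* Cfsg.PSp m F) := by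
  have hpres : BoundedPres.Pres (Cfsg.PSp m F) 55 := by
    rcases Nat.lt_or_ge m 3 with h | h
    · obtain rfl : m = 2 := by omega
      obtain ⟨rels, hr, ⟨e⟩⟩ := BoundedPres.Sp4.sp_four_presentation (F := F)
      obtain ⟨z, hz⟩ := BoundedPres.exists_normalClosure_center (BoundedPres.Slim.center_cyclic (F := F) (n := 2) le_rfl)
      exact ((BoundedPres.Pres.of_presented hr e).quotient _ z hz).mono (by norm_num)
    · obtain ⟨-, rels, hr, ⟨e⟩⟩ := BoundedPres.Slim.sp_presentations (F := F) (n := m) h
      exact (BoundedPres.Pres.of_presented hr e).mono (by split_ifs <;> omega)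
  have hF : m = 2 → 2 < Fintype.card F := fun h => by
    have h1 := Fintype.one_lt_card (α := F)
    rcases Nat.lt_or_ge 2 (Fintype.card F) with h2 | h2
    · exact h2
    · exact absurd ⟨h, by omega⟩ h22
  obtain ⟨a, b, hab⟩ := TwoGen.exists_two_gen (F := F) m hm hF
  obtain ⟨rels, hcard, e, -, -⟩ := hpres.twoGen
    (BoundedPres.closure_pair_image (QuotientGroup.mk' (Subgroup.center _)) (QuotientGroup.mk'_surjective _) hab)
  exact ⟨rels, hcard.trans (by norm_num), ⟨e⟩⟩

end Cfsg.Agent.S2292
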