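import Cfsg.Statements.S2293
import Cfsg.Agent.Lib.BoundedPres.Sp4Pres
import Cfsg.Agent.Lib.AutPSp.Card
import Cfsg.Agent.Lib.BoundedPres.PSL
-- import your own Cfsg.Agent.* helpers here

set_option autoImplicit false
open Cfsg

namespace Cfsg.Agent.S2293

/-- For every finite field F, Sp_4(F) has a presentation with 6 generators and at most 35 relations, and PSp_4(F) one with 6 generators and at most 36 relations. -/
theorem result {F : Type*} [Field F] [Fintype F] : (∃ rels : Finset (FreeGroup (Fin 6)), rels.card ≤ 35 ∧ Nonempty (PresentedGroup (↑rels : Set (FreeGroup (Fin 6))) ≃* Matrix.symplecticGroup (Fin 2) F)) ∧ (∃ rels : Finset (FreeGroup (Fin 6)), rels.card ≤ 36 ∧ Nonempty (PresentedGroup (↑rels : Set (FreeGroup (Fin 6))) ≃* Cfsg.PSp 2 F)) := by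
  obtain ⟨rels, hcard, ⟨e⟩⟩ := Cfsg.Agent.BoundedPres.Sp4.sp_four_presentation (F := F)
  refine ⟨⟨rels, hcard, ⟨e⟩⟩, ?_⟩
  have hc : IsCyclic (Subgroup.center (Matrix.symplecticGroup (Fin 2) F)) := by
    have h := Cfsg.Agent.AutPSp.card_center (F := F) (m := 2) le_rfl
    rcases (Nat.dvd_prime Nat.prime_two).1 (Nat.gcd_dvd_left 2 (Fintype.card F - 1)) with h1 | h2
    · rw [h1] at h
      have := (Nat.card_eq_one_iff_unique.1 h).1
      infer_instance
    · rw [h2] at h
      have : Fact (Nat.Prime 2) := ⟨Nat.prime_two⟩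
      exact isCyclic_of_prime_card h
  obtain ⟨z, hz⟩ := Cfsg.Agent.BoundedPres.exists_normalClosure_center hc
  obtain ⟨rels', hcard', ⟨e'⟩⟩ := Cfsg.Agent.BoundedPres.presented_quotient e _ z hz
  exact ⟨rels', by omega, ⟨e'⟩⟩

end Cfsg.Agent.S2293
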