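import Cfsg.Statements.S2294
import Cfsg.Agent.Lib.SUnPresentation.Main
-- import your own Cfsg.Agent.* helpers here

set_option autoImplicit false
open Cfsg

namespace Cfsg.Agent.S2294

/-- Let F be a field with q² elements and n ≥ 4, and SU_n(q), PSU_n(q) the special unitary group of the standard Hermitian form and its central quotient. Then SU_n(q) has a presentation with 6 generators and at most 39 relations and PSU_n(q) one with 6 generators and at most 40 relations; moreover SU_4(q) and SU_5(q) have presentations with 6 generators and at most 35 relations, and PSU_4(q) one with 6 generators and at most 36 relations. -/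
theorem result {F : Type*} [Field F] [Fintype F] (q : ℕ) (hF : Fintype.card F = q ^ 2) (n : ℕ) (hn : 4 ≤ n) :
    (∃ rels : Finset (FreeGroup (Fin 6)), rels.card ≤ 39 ∧ Nonempty (PresentedGroup (↑rels : Set (FreeGroup (Fin 6))) ≃* ↥(Cfsg.SU n F q))) ∧ (∃ rels : Finset (FreeGroup (Fin 6)), rels.card ≤ 40 ∧ Nonempty (PresentedGroup (↑rels : Set (FreeGroup (Fin 6))) ≃* Cfsg.PSU n F q)) ∧
    (∃ rels : Finset (FreeGroup (Fin 6)), rels.card ≤ 35 ∧ Nonempty (PresentedGroup (↑rels : Set (FreeGroup (Fin 6))) ≃* ↥(Cfsg.SU 4 F q))) ∧ (∃ rels : Finset (FreeGroup (Fin 6)), rels.card ≤ 35 ∧ Nonempty (PresentedGroup (↑rels : Set (FreeGroup (Fin 6))) ≃* ↥(Cfsg.SU 5 F q))) ∧ (∃ rels : Finset (FreeGroup (Fin 6)), rels.card ≤ 36 ∧ Nonempty (PresentedGroup (↑rels : Set (FreeGroup (Fin 6))) ≃* Cfsg.PSU 4 F q)) := by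
  have big : ∀ m, 5 ≤ m → ∃ rels : Finset (FreeGroup (Fin 6)), rels.card ≤ (if m = 5 then 35 else 39) ∧
      Nonempty (PresentedGroup (↑rels : Set (FreeGroup (Fin 6))) ≃* ↥(Cfsg.SU m F q)) := fun m hm =>
    let ⟨_, hg⟩ := SUnPresentation.su_tup hF hm
    hg.presented
  obtain ⟨R4, h4, ⟨e4⟩⟩ := SUnPresentation.su_four_six hF
  have hSU : ∃ rels : Finset (FreeGroup (Fin 6)), rels.card ≤ 39 ∧
      Nonempty (PresentedGroup (↑rels : Set (FreeGroup (Fin 6))) ≃* ↥(Cfsg.SU n F q)) := by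
    rcases eq_or_lt_of_le hn with rfl | h5
    · exact ⟨R4, h4.trans (by norm_num), ⟨e4⟩⟩
    · obtain ⟨R, hR, he⟩ := big n h5
      exact ⟨R, hR.trans (by split <;> norm_num), he⟩
  obtain ⟨R, hR, ⟨e⟩⟩ := hSU
  obtain ⟨R5, hR5, he5⟩ := big 5 le_rfl
  obtain ⟨P4, hP4, he4⟩ := SUnPresentation.psu_presentation hF (by norm_num) h4 e4
  exact ⟨⟨R, hR, ⟨e⟩⟩, SUnPresentation.psu_presentation hF (by omega) hR e, ⟨R4, h4.trans (by norm_num), ⟨e4⟩⟩,
    ⟨R5, hR5.trans (by norm_num), he5⟩, ⟨P4, hP4.trans (by norm_num), he4⟩⟩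

end Cfsg.Agent.S2294
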