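import Cfsg.Statements.S2295
import Cfsg.Agent.Lib.OmegaPres.Pair
import Cfsg.Agent.Lib.OmegaPres.Presentation
import Cfsg.Agent.Lib.SLnPresentation.Four
import Cfsg.Agent.Lib.SLnPresentation.Five
import Cfsg.Agent.Lib.BoundedPres.Short.Main

set_option autoImplicit false
open Cfsg

namespace Cfsg.Agent.S2295

open Cfsg.Agent.OmegaPres Cfsg.Agent.SLnPresentation

theorem omega_pres {F : Type*} [Field F] [Fintype F] (n : ℕ) (hn : 4 ≤ n) :
    ∃ rels : Finset (FreeGroup (Fin 8)), rels.card ≤ (if n ≤ 5 then 29 else 31) ∧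
      Nonempty (PresentedGroup (↑rels : Set (FreeGroup (Fin 8))) ≃* ↥(Cfsg.Omega F (Cfsg.quadFormPlus n F))) := by
  classical
  obtain rfl | rfl | ⟨j, rfl⟩ : n = 4 ∨ n = 5 ∨ ∃ j, n = j + 6 :=
    (by rcases Nat.lt_or_ge n 6 with h | h
        · omega
        · exact Or.inr (Or.inr ⟨n - 6, by omega⟩))
  · obtain ⟨r, hr, ⟨e⟩⟩ := Four.exists_presentation (F := F)
    obtain ⟨a, b, c, hgen⟩ := prod_three_sl2 (F := F)
    obtain ⟨r', hr', ⟨e'⟩⟩ := OmegaPres.exists_presentation (m := 0) hr e {a, b, c} Finset.card_le_three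
      (by rwa [Finset.coe_insert, Finset.coe_insert, Finset.coe_singleton])
    obtain ⟨r'', hr'', he⟩ := exists_pad (d := 2) hr' e'
    exact ⟨r'', hr''.trans (by norm_num), he⟩
  · obtain ⟨r, hr, ⟨e⟩⟩ := exists_presentation_five (F := F)
    obtain ⟨a, b, c, hgen⟩ := prod_three_sl3 (F := F)
    obtain ⟨r', hr', ⟨e'⟩⟩ := OmegaPres.exists_presentation (m := 1) hr e {a, b, c} Finset.card_le_three
      (by rwa [Finset.coe_insert, Finset.coe_insert, Finset.coe_singleton])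
    obtain ⟨r'', hr'', he⟩ := exists_pad (d := 3) hr' e'
    exact ⟨r'', hr''.trans (by norm_num), he⟩
  · obtain ⟨g, hg, -⟩ := Cfsg.Agent.BoundedPres.Short.alt_big (j + 6) (by omega)
    obtain ⟨RA, hc, ⟨eA⟩⟩ := hg.presented
    obtain ⟨r, hr, ⟨e⟩⟩ := SLnPresentation.exists_presentation (F := F) (n := j + 6) (by omega) hc eA
    obtain ⟨a, b, hgen⟩ := prod_two (F := F) j
    obtain ⟨r', hr', ⟨e'⟩⟩ := OmegaPres.exists_presentation (m := j + 2) hr e {a, b} Finset.card_le_two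
      (by rw [Finset.coe_insert, Finset.coe_singleton]; exact hgen)
    obtain ⟨r'', hr'', he⟩ := exists_pad (d := 2) hr' e'
    refine ⟨r'', hr''.trans ?_, he⟩
    rw [if_neg (by omega)]

/-- Let F be a finite field and n ≥ 4, and let Ω⁺_2n(F) be the commutator subgroup of the orthogonal group of the hyperbolic quadratic form Σ x_i y_i, with PΩ⁺_2n(F) its central quotient. Then Ω⁺_2n(F) has a presentation with 8 generators and at most 31 relations (at most 29 if n = 4 or 5), and PΩ⁺_2n(F) one with 8 generators and at most 32 relations (at most 30 if n = 4 or 5). -/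
theorem result {F : Type*} [Field F] [Fintype F] (n : ℕ) (hn : 4 ≤ n) :
    (∃ rels : Finset (FreeGroup (Fin 8)), rels.card ≤ 31 ∧ Nonempty (PresentedGroup (↑rels : Set (FreeGroup (Fin 8))) ≃* ↥(Cfsg.Omega F (Cfsg.quadFormPlus n F)))) ∧ (∃ rels : Finset (FreeGroup (Fin 8)), rels.card ≤ 32 ∧ Nonempty (PresentedGroup (↑rels : Set (FreeGroup (Fin 8))) ≃* Cfsg.POmega F (Cfsg.quadFormPlus n F))) ∧
    (n ≤ 5 → (∃ rels : Finset (FreeGroup (Fin 8)), rels.card ≤ 29 ∧ Nonempty (PresentedGroup (↑rels : Set (FreeGroup (Fin 8))) ≃* ↥(Cfsg.Omega F (Cfsg.quadFormPlus n F)))) ∧ (∃ rels : Finset (FreeGroup (Fin 8)), rels.card ≤ 30 ∧ Nonempty (PresentedGroup (↑rels : Set (FreeGroup (Fin 8))) ≃* Cfsg.POmega F (Cfsg.quadFormPlus n F)))) := by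
  classical
  have hq : ∀ {b : ℕ}, (∃ rels : Finset (FreeGroup (Fin 8)), rels.card ≤ b ∧
      Nonempty (PresentedGroup (↑rels : Set (FreeGroup (Fin 8))) ≃* ↥(Cfsg.Omega F (Cfsg.quadFormPlus n F)))) →
      ∃ rels : Finset (FreeGroup (Fin 8)), rels.card ≤ b + 1 ∧
        Nonempty (PresentedGroup (↑rels : Set (FreeGroup (Fin 8))) ≃* Cfsg.POmega F (Cfsg.quadFormPlus n F)) := by
    rintro b ⟨r, hr, ⟨e⟩⟩
    obtain ⟨z, hz⟩ := OmegaPres.center_eq_normalClosure (F := F) (n := n) (by omega)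
    exact exists_quot hr e _ z hz
  obtain ⟨r, hr, he⟩ := omega_pres (F := F) n hn
  have h31 : r.card ≤ 31 := hr.trans (by split_ifs <;> omega)
  exact ⟨⟨r, h31, he⟩, hq ⟨r, h31, he⟩, fun h5 => by
    rw [if_pos h5] at hr
    exact ⟨⟨r, hr, he⟩, hq ⟨r, hr, he⟩⟩⟩

end Cfsg.Agent.S2295
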