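import Cfsg.Statements.S2296
import Cfsg.Agent.Lib.BoundedPres.SpPres
-- import your own Cfsg.Agent.* helpers here

set_option autoImplicit false
open Cfsg

namespace Cfsg.Agent.S2296

/-- Let F be a finite field. Sp_2n(F) has a presentation with 10 generators and at most 58 relations for n ≥ 4, with 9 generators and at most 57 relations for n = 4 or 5, and with 8 generators and at most 52 relations for n = 3; in each case PSp_2n(F) has a presentation with the same number of generators and at most one more relation. -/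
theorem result {F : Type*} [Field F] [Fintype F] (n : ℕ) :
    (4 ≤ n → (∃ rels : Finset (FreeGroup (Fin 10)), rels.card ≤ 58 ∧ Nonempty (PresentedGroup (↑rels : Set (FreeGroup (Fin 10))) ≃* Matrix.symplecticGroup (Fin n) F)) ∧ (∃ rels : Finset (FreeGroup (Fin 10)), rels.card ≤ 59 ∧ Nonempty (PresentedGroup (↑rels : Set (FreeGroup (Fin 10))) ≃* Cfsg.PSp n F))) ∧
    ((n = 4 ∨ n = 5) → (∃ rels : Finset (FreeGroup (Fin 9)), rels.card ≤ 57 ∧ Nonempty (PresentedGroup (↑rels : Set (FreeGroup (Fin 9))) ≃* Matrix.symplecticGroup (Fin n) F)) ∧ (∃ rels : Finset (FreeGroup (Fin 9)), rels.card ≤ 58 ∧ Nonempty (PresentedGroup (↑rels : Set (FreeGroup (Fin 9))) ≃* Cfsg.PSp n F))) ∧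
    (n = 3 → (∃ rels : Finset (FreeGroup (Fin 8)), rels.card ≤ 52 ∧ Nonempty (PresentedGroup (↑rels : Set (FreeGroup (Fin 8))) ≃* Matrix.symplecticGroup (Fin n) F)) ∧ (∃ rels : Finset (FreeGroup (Fin 8)), rels.card ≤ 53 ∧ Nonempty (PresentedGroup (↑rels : Set (FreeGroup (Fin 8))) ≃* Cfsg.PSp n F))) := by
  have mono : ∀ {k r r' : ℕ} {G : Type _} [Group G], r ≤ r' →
      (∃ rels : Finset (FreeGroup (Fin k)), rels.card ≤ r ∧
        Nonempty (PresentedGroup (↑rels : Set (FreeGroup (Fin k))) ≃* G)) →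
      ∃ rels : Finset (FreeGroup (Fin k)), rels.card ≤ r' ∧
        Nonempty (PresentedGroup (↑rels : Set (FreeGroup (Fin k))) ≃* G) :=
    fun hr ⟨rels, h, e⟩ => ⟨rels, h.trans hr, e⟩
  refine ⟨fun hn => ?_, fun hn => ?_, fun hn => ?_⟩ <;>
    obtain ⟨h1, h2⟩ := BoundedPres.Slim.sp_presentations (F := F) (n := n) (by omega) <;>
    refine ⟨?_, ?_⟩
  · rw [if_neg (show n ≠ 3 by omega)] at h1
    exact mono (by omega) (BoundedPres.Slim.pad (BoundedPres.Slim.pad (BoundedPres.Slim.pad (BoundedPres.Slim.pad h1))))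
  · rw [if_neg (show n ≠ 3 by omega)] at h2
    exact mono (by omega) (BoundedPres.Slim.pad (BoundedPres.Slim.pad (BoundedPres.Slim.pad (BoundedPres.Slim.pad h2))))
  · rw [if_neg (show n ≠ 3 by omega)] at h1
    exact mono (by omega) (BoundedPres.Slim.pad (BoundedPres.Slim.pad (BoundedPres.Slim.pad h1)))
  · rw [if_neg (show n ≠ 3 by omega)] at h2
    exact mono (by omega) (BoundedPres.Slim.pad (BoundedPres.Slim.pad (BoundedPres.Slim.pad h2)))
  · rw [if_pos hn] at h1
    exact mono (by omega) (BoundedPres.Slim.pad (BoundedPres.Slim.pad h1))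
  · rw [if_pos hn] at h2
    exact mono (by omega) (BoundedPres.Slim.pad (BoundedPres.Slim.pad h2))

end Cfsg.Agent.S2296
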