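import Cfsg.Statements.S2301
import Cfsg.Agent.Lib.SL2Unipotent.Basic

set_option autoImplicit false
open Cfsg

namespace Cfsg.Agent.S2301

/-- Over a finite field with q elements of odd characteristic p, the elements of order p of SL₂ (the non-identity unipotent elements) fall into exactly two conjugacy classes, each of size (q² − 1)/2; two upper unitriangular matrices with non-zero off-diagonal entries b and b′ are conjugate exactly when bb′ is a square. -/
theorem result {F : Type*} [Field F] [Fintype F] (p : ℕ) [Fact p.Prime] [CharP F p] (hp : p ≠ 2) :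
    Nat.card {C : ConjClasses (Matrix.SpecialLinearGroup (Fin 2) F) // ∃ g : Matrix.SpecialLinearGroup (Fin 2) F, orderOf g = p ∧ ConjClasses.mk g = C} = 2 ∧
    (∀ g : Matrix.SpecialLinearGroup (Fin 2) F, orderOf g = p → Nat.card (ConjClasses.mk g).carrier = (Fintype.card F ^ 2 - 1) / 2) ∧
    ∀ g h : Matrix.SpecialLinearGroup (Fin 2) F, (g : Matrix (Fin 2) (Fin 2) F) 0 0 = 1 → (g : Matrix (Fin 2) (Fin 2) F) 1 1 = 1 → (g : Matrix (Fin 2) (Fin 2) F) 1 0 = 0 → (g : Matrix (Fin 2) (Fin 2) F) 0 1 ≠ 0 →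
      (h : Matrix (Fin 2) (Fin 2) F) 0 0 = 1 → (h : Matrix (Fin 2) (Fin 2) F) 1 1 = 1 → (h : Matrix (Fin 2) (Fin 2) F) 1 0 = 0 → (h : Matrix (Fin 2) (Fin 2) F) 0 1 ≠ 0 →
      (IsConj g h ↔ IsSquare ((g : Matrix (Fin 2) (Fin 2) F) 0 1 * (h : Matrix (Fin 2) (Fin 2) F) 0 1)) := by
  have h2 : (2 : F) ≠ 0 := Ring.two_ne_zero ((ringChar.eq F p).symm ▸ hp)
  open Cfsg.Agent.SL2Unipotent in
  refine ⟨?_, fun g hg => ?_, fun g h g00 g11 g10 g01 h00 h11 h10 h01 => ?_⟩
  · obtain ⟨ε, hε⟩ := FiniteField.exists_nonsquare ((ringChar.eq F p).symm ▸ hp : ringChar F ≠ 2)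
    have hε0 : ε ≠ 0 := fun h => hε (h ▸ IsSquare.zero)
    rw [Nat.card_eq_two_iff]
    refine ⟨⟨ConjClasses.mk (uv (1 : F) 1 0), _, orderOf_uv p one_ne_zero, rfl⟩,
      ⟨ConjClasses.mk (uv ε 1 0), _, orderOf_uv p hε0, rfl⟩, ?_, ?_⟩
    · intro h
      rw [Subtype.mk.injEq, ConjClasses.mk_eq_mk_iff_isConj, isConj_uv_iff one_ne_zero hε0, one_mul] at h
      exact hε h
    · refine Set.eq_univ_of_forall ?_
      rintro ⟨C, g, hg, rfl⟩
      obtain ⟨b, hb, hgb⟩ := exists_isConj p g hg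
      simp only [Set.mem_insert_iff, Set.mem_singleton_iff, Subtype.mk.injEq,
        ← ConjClasses.mk_eq_mk_iff_isConj.mpr hgb, ConjClasses.mk_eq_mk_iff_isConj,
        isConj_uv_iff hb one_ne_zero, isConj_uv_iff hb hε0, mul_one]
      by_contra hcon
      rw [not_or] at hcon
      classical
      have h1 := (quadraticChar_neg_one_iff_not_isSquare (F := F)).mpr hcon.1
      have h3 := (quadraticChar_neg_one_iff_not_isSquare (F := F)).mpr hε
      apply hcon.2
      rw [← quadraticChar_one_iff_isSquare (mul_ne_zero hb hε0), map_mul, h1, h3]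
      rfl
  · obtain ⟨b, hb, hgb⟩ := exists_isConj p g hg
    rw [← ConjClasses.mk_eq_mk_iff_isConj.mpr hgb]
    have := (card_carrier hb).2 h2
    omega
  · have key : ∀ k : Matrix.SpecialLinearGroup (Fin 2) F, (k : Matrix (Fin 2) (Fin 2) F) 0 0 = 1 →
        (k : Matrix (Fin 2) (Fin 2) F) 1 1 = 1 → (k : Matrix (Fin 2) (Fin 2) F) 1 0 = 0 →
        k = uv ((k : Matrix (Fin 2) (Fin 2) F) 0 1) 1 0 := fun k a b c => Subtype.ext (by
      ext i j; fin_cases i <;> fin_cases j <;> simp [uv, a, b, c])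
    conv_lhs => rw [key g g00 g11 g10, key h h00 h11 h10]
    exact isConj_uv_iff g01 h01

end Cfsg.Agent.S2301
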