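import Cfsg.Statements.S2302
import Cfsg.Agent.Lib.SL2Unipotent.Basic

set_option autoImplicit false
open Cfsg

namespace Cfsg.Agent.S2302

/-- Over a finite field with q elements of characteristic 2, the involutions of SL₂ (the non-identity unipotent elements) form a single conjugacy class, of size q² − 1. -/
theorem result {F : Type*} [Field F] [Fintype F] [CharP F 2] (g h : Matrix.SpecialLinearGroup (Fin 2) F) (hg : orderOf g = 2) (hh : orderOf h = 2) :
    IsConj g h ∧ Nat.card (ConjClasses.mk g).carrier = Fintype.card F ^ 2 - 1 := by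
  have hF2 : (2 : F) = 0 := CharP.cast_eq_zero F 2
  obtain ⟨b, hb, hgb⟩ := Cfsg.Agent.SL2Unipotent.exists_isConj 2 g hg
  obtain ⟨b', hb', hhb⟩ := Cfsg.Agent.SL2Unipotent.exists_isConj 2 h hh
  have hbb : IsConj (Cfsg.Agent.SL2Unipotent.uv b 1 0) (Cfsg.Agent.SL2Unipotent.uv b' 1 0) :=
    (Cfsg.Agent.SL2Unipotent.isConj_uv_iff hb hb').mpr
      (FiniteField.isSquare_of_char_two (ringChar.eq F 2) _)
  refine ⟨hgb.symm.trans (hbb.trans hhb), ?_⟩
  rw [← ConjClasses.mk_eq_mk_iff_isConj.mpr hgb]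
  exact (Cfsg.Agent.SL2Unipotent.card_carrier hb).1 hF2

end Cfsg.Agent.S2302
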