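import Cfsg.Statements.S2303
-- import your own Cfsg.Agent.* helpers here

set_option autoImplicit false
open Cfsg

namespace Cfsg.Agent.S2303

open Matrix

variable {F : Type*} [Field F]

theorem mem_iff (g k : GL (Fin 2) F) :
    k ∈ Subgroup.centralizer ({g} : Set (GL (Fin 2) F)) ↔
      (k : Matrix (Fin 2) (Fin 2) F) * g = (g : Matrix (Fin 2) (Fin 2) F) * k := by
  rw [Subgroup.mem_centralizer_singleton_iff]
  exact ⟨fun h => congrArg Units.val h, fun h => Units.ext h⟩

theorem diag_card [Fintype F] (g : GL (Fin 2) F) (h01 : (g : Matrix (Fin 2) (Fin 2) F) 0 1 = 0)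
    (h10 : (g : Matrix (Fin 2) (Fin 2) F) 1 0 = 0)
    (hne : (g : Matrix (Fin 2) (Fin 2) F) 0 0 ≠ (g : Matrix (Fin 2) (Fin 2) F) 1 1) :
    Nat.card (Subgroup.centralizer ({g} : Set (GL (Fin 2) F))) = (Fintype.card F - 1) ^ 2 := by
  classical
  let f : {v : F × F // v.1 * v.2 ≠ 0} → Subgroup.centralizer ({g} : Set (GL (Fin 2) F)) := fun v =>
    ⟨GeneralLinearGroup.mkOfDetNeZero !![v.1.1, 0; 0, v.1.2] (by simpa [det_fin_two] using v.2), by
      rw [mem_iff]
      ext i j
      fin_cases i <;> fin_cases j <;>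
        simp [GeneralLinearGroup.mkOfDetNeZero, GeneralLinearGroup.mk', GeneralLinearGroup.mk'', unitOfDetInvertible, Matrix.mul_apply, Fin.sum_univ_two, h01, h10] <;> ring⟩
  have hval : ∀ v, (((f v : GL (Fin 2) F)) : Matrix (Fin 2) (Fin 2) F) = !![v.1.1, 0; 0, v.1.2] :=
    fun v => rfl
  have hbij : Function.Bijective f := by
    constructor
    · intro v w h
      have h' : !![v.1.1, 0; 0, v.1.2] = !![w.1.1, 0; 0, w.1.2] := by rw [← hval, ← hval, h]
      exact Subtype.ext (Prod.ext (congrFun (congrFun h' 0) 0) (congrFun (congrFun h' 1) 1))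
    · intro k
      have h := (mem_iff g k).mp k.2
      have hk := (GeneralLinearGroup.det (k : GL (Fin 2) F)).ne_zero
      rw [GeneralLinearGroup.val_det_apply, det_fin_two] at hk
      set K : Matrix (Fin 2) (Fin 2) F := ((k : GL (Fin 2) F) : Matrix (Fin 2) (Fin 2) F) with hK
      have e01 : K 0 1 = 0 := by
        have := congrFun (congrFun h 0) 1
        simp [Matrix.mul_apply, Fin.sum_univ_two, h01] at this
        exact (mul_eq_zero.mp (show K 0 1 * ((g : Matrix (Fin 2) (Fin 2) F) 1 1 -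
          (g : Matrix (Fin 2) (Fin 2) F) 0 0) = 0 by linear_combination this)).resolve_right (sub_ne_zero.mpr hne.symm)
      have e10 : K 1 0 = 0 := by
        have := congrFun (congrFun h 1) 0
        simp [Matrix.mul_apply, Fin.sum_univ_two, h10] at this
        exact (mul_eq_zero.mp (show K 1 0 * ((g : Matrix (Fin 2) (Fin 2) F) 0 0 -
          (g : Matrix (Fin 2) (Fin 2) F) 1 1) = 0 by linear_combination this)).resolve_right (sub_ne_zero.mpr hne)
      refine ⟨⟨(K 0 0, K 1 1), by simpa [e01] using hk⟩, Subtype.ext (Units.ext ?_)⟩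
      rw [hval]
      ext i j
      fin_cases i <;> fin_cases j <;> simp [← hK, e01, e10]
  rw [← Nat.card_eq_of_bijective f hbij]
  have e : {v : F × F // v.1 * v.2 ≠ 0} ≃ {a : F // a ≠ 0} × {a : F // a ≠ 0} :=
    { toFun := fun v => (⟨v.1.1, left_ne_zero_of_mul v.2⟩, ⟨v.1.2, right_ne_zero_of_mul v.2⟩)
      invFun := fun v => ⟨(v.1.1, v.2.1), mul_ne_zero v.1.2 v.2.2⟩
      left_inv := fun v => rfl
      right_inv := fun v => rfl }
  rw [Nat.card_congr e, Nat.card_prod, Nat.card_eq_fintype_card, Fintype.card_subtype_compl,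
    Fintype.card_subtype_eq, sq]

theorem elliptic_card [Fintype F] (g : GL (Fin 2) F)
    (h : ∀ (c : F) (v : Fin 2 → F), v ≠ 0 → (g : Matrix (Fin 2) (Fin 2) F).mulVec v ≠ c • v) :
    Nat.card (Subgroup.centralizer ({g} : Set (GL (Fin 2) F))) = Fintype.card F ^ 2 - 1 := by
  classical
  set G : Matrix (Fin 2) (Fin 2) F := (g : Matrix (Fin 2) (Fin 2) F) with hG
  have hg10 : G 1 0 ≠ 0 := fun h0 => h (G 0 0) ![1, 0] (by simp) (by
    ext i; fin_cases i <;> simp [Matrix.mulVec, dotProduct, Fin.sum_univ_two, h0])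
  have hdet : ∀ v : F × F, v ≠ 0 → (v.1 • (1 : Matrix (Fin 2) (Fin 2) F) + v.2 • G).det ≠ 0 := by
    intro v hv h0
    obtain ⟨w, hw, hw'⟩ := exists_mulVec_eq_zero_iff.mpr h0
    rw [add_mulVec, smul_mulVec, one_mulVec, smul_mulVec] at hw'
    rcases eq_or_ne v.2 0 with h2 | h2
    · rw [h2, zero_smul, add_zero] at hw'
      exact hv (Prod.ext ((smul_eq_zero.mp hw').resolve_right hw) h2)
    · apply h (-v.1 / v.2) w hw
      have h4 : v.2 • G *ᵥ w = -(v.1 • w) := eq_neg_of_add_eq_zero_right hw'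
      rw [← inv_smul_smul₀ h2 (G *ᵥ w), h4, smul_neg, smul_smul, ← neg_smul]
      congr 1; ring
  let f : {v : F × F // v ≠ 0} → Subgroup.centralizer ({g} : Set (GL (Fin 2) F)) := fun v =>
    ⟨GeneralLinearGroup.mkOfDetNeZero _ (hdet v.1 v.2), by
      rw [mem_iff]
      change (v.1.1 • (1 : Matrix (Fin 2) (Fin 2) F) + v.1.2 • G) * G = G * _
      rw [show ((GeneralLinearGroup.mkOfDetNeZero _ (hdet v.1 v.2) : GL (Fin 2) F) :
        Matrix (Fin 2) (Fin 2) F) = v.1.1 • 1 + v.1.2 • G from rfl]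
      simp [add_mul, mul_add]⟩
  have hval : ∀ v, (((f v : GL (Fin 2) F)) : Matrix (Fin 2) (Fin 2) F) = v.1.1 • 1 + v.1.2 • G :=
    fun v => rfl
  have hbij : Function.Bijective f := by
    constructor
    · intro v w h'
      have h'' : v.1.1 • (1 : Matrix (Fin 2) (Fin 2) F) + v.1.2 • G = w.1.1 • 1 + w.1.2 • G := by
        rw [← hval, ← hval, h']
      have a := congrFun (congrFun h'' 0) 0
      have b := congrFun (congrFun h'' 1) 0
      simp at a b
      rcases b with b | b
      · rw [b] at a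
        exact Subtype.ext (Prod.ext (add_right_cancel a) b)
      · exact absurd b hg10
    · intro k
      have hk := (mem_iff g k).mp k.2
      set K : Matrix (Fin 2) (Fin 2) F := ((k : GL (Fin 2) F) : Matrix (Fin 2) (Fin 2) F) with hK
      have a00 := congrFun (congrFun hk 0) 0
      have a10 := congrFun (congrFun hk 1) 0
      simp [Matrix.mul_apply, Fin.sum_univ_two, ← hG] at a00 a10
      have e1 : K 0 1 = K 1 0 / G 1 0 * G 0 1 := by field_simp; linear_combination a00
      have e2 : K 1 1 = K 0 0 - K 1 0 / G 1 0 * G 0 0 + K 1 0 / G 1 0 * G 1 1 := by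
        field_simp; linear_combination a10
      refine ⟨⟨(K 0 0 - K 1 0 / G 1 0 * G 0 0, K 1 0 / G 1 0), fun h0 => ?_⟩, Subtype.ext (Units.ext ?_)⟩
      · simp only [Prod.mk_eq_zero] at h0
        have hk' := (GeneralLinearGroup.det (k : GL (Fin 2) F)).ne_zero
        rw [GeneralLinearGroup.val_det_apply, det_fin_two, ← hK] at hk'
        apply hk'
        rw [h0.1, h0.2, zero_mul, zero_add] at e2
        rw [h0.2, zero_mul] at e1
        rw [e1, e2]; ring
      · rw [hval]
        change _ = K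
        ext i j
        fin_cases i <;> fin_cases j <;> simp [e1, e2] <;> field_simp <;> ring
  rw [← Nat.card_eq_of_bijective f hbij, Nat.card_eq_fintype_card, Fintype.card_subtype_compl,
    Fintype.card_subtype_eq, Fintype.card_prod, sq]

/-- Over a finite field with q elements: a diagonal element of GL₂ with two distinct diagonal entries has centralizer of order (q − 1)² (so q(q + 1) conjugates), and an element of GL₂ with no eigenvector in F² has centralizer of order q² − 1 (so q(q − 1) conjugates). -/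
theorem result {F : Type*} [Field F] [Fintype F] (g : Matrix.GeneralLinearGroup (Fin 2) F) :
    ((g : Matrix (Fin 2) (Fin 2) F) 0 1 = 0 → (g : Matrix (Fin 2) (Fin 2) F) 1 0 = 0 → (g : Matrix (Fin 2) (Fin 2) F) 0 0 ≠ (g : Matrix (Fin 2) (Fin 2) F) 1 1 →
      Nat.card (Subgroup.centralizer ({g} : Set (Matrix.GeneralLinearGroup (Fin 2) F))) = (Fintype.card F - 1) ^ 2) ∧
    ((∀ (c : F) (v : Fin 2 → F), v ≠ 0 → (g : Matrix (Fin 2) (Fin 2) F).mulVec v ≠ c • v) →
      Nat.card (Subgroup.centralizer ({g} : Set (Matrix.GeneralLinearGroup (Fin 2) F))) = Fintype.card F ^ 2 - 1) := by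
  exact ⟨diag_card g, elliptic_card g⟩

end Cfsg.Agent.S2303
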