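import Cfsg.Statements.S2308
-- import your own Cfsg.Agent.* helpers here

set_option autoImplicit false
open Cfsg

namespace Cfsg.Agent.S2308

open Matrix

variable {F : Type*} [Field F]

/-- Representatives of the left cosets of the Borel subgroup. -/
def rep : Option F → GL (Fin 2) F
  | none => 1
  | some t => ⟨!![t, 1; 1, 0], !![0, 1; 1, -t],
      by ext i j; fin_cases i <;> fin_cases j <;> simp [Matrix.mul_apply, Fin.sum_univ_two],
      by ext i j; fin_cases i <;> fin_cases j <;> simp [Matrix.mul_apply, Fin.sum_univ_two]⟩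

theorem mem_upper (k : GL (Fin 2) F) :
    k ∈ Cfsg.upperTriangularGL 2 F ↔ (k : Matrix (Fin 2) (Fin 2) F) 1 0 = 0 := by
  constructor
  · intro h; exact h (by decide : id (0 : Fin 2) < id 1)
  · intro h i j hij
    fin_cases i <;> fin_cases j <;> simp_all

theorem rep_bijective :
    Function.Bijective (fun o : Option F => (QuotientGroup.mk (rep o) : GL (Fin 2) F ⧸ Cfsg.upperTriangularGL 2 F)) := by
  constructor
  · rintro (_ | s) (_ | t) h <;> simp only [QuotientGroup.eq, mem_upper] at h
    · rfl
    · simp [rep] at h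
    · simp [rep, Matrix.mul_apply, Fin.sum_univ_two] at h
    · simp [rep, Matrix.mul_apply, Fin.sum_univ_two] at h
      rw [show s = t by linear_combination -h]
  · intro x
    obtain ⟨k, rfl⟩ := QuotientGroup.mk_surjective x
    by_cases h : (k : Matrix (Fin 2) (Fin 2) F) 1 0 = 0
    · exact ⟨none, QuotientGroup.eq.mpr ((mem_upper _).mpr (by simpa [rep] using h))⟩
    · refine ⟨some ((k : Matrix (Fin 2) (Fin 2) F) 0 0 / (k : Matrix (Fin 2) (Fin 2) F) 1 0),
        QuotientGroup.eq.mpr ((mem_upper _).mpr ?_)⟩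
      simp [rep, Matrix.mul_apply, Fin.sum_univ_two]
      field_simp
      ring

/-- Whether a coset is fixed. -/
def Fix (G : Matrix (Fin 2) (Fin 2) F) : Option F → Prop
  | none => G 1 0 = 0
  | some t => G 0 0 * t + G 0 1 = t * (G 1 0 * t + G 1 1)

theorem fix_count (g : GL (Fin 2) F) :
    Cfsg.fixedPointCharacter (Cfsg.upperTriangularGL 2 F) g =
      (Nat.card {o : Option F // Fix (g : Matrix (Fin 2) (Fin 2) F) o} : ℂ) := by
  rw [Cfsg.fixedPointCharacter]
  congr 1
  refine (Nat.card_congr (Equiv.subtypeEquiv (Equiv.ofBijective _ rep_bijective) ?_)).symm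
  intro o
  rw [MulAction.mem_fixedBy, Equiv.ofBijective_apply, MulAction.Quotient.smul_mk, QuotientGroup.eq,
    ← inv_mem_iff, mem_upper]
  have : ((g * rep o)⁻¹ * rep o)⁻¹ = (rep o)⁻¹ * g * rep o := by group
  rw [smul_eq_mul, this]
  cases o with
  | none => simp [rep, Fix]
  | some t =>
    simp only [Fix, rep, Units.val_mul]
    simp [Matrix.mul_apply, Matrix.vecMul, dotProduct, Fin.sum_univ_two]
    constructor <;> intro h <;> linear_combination h

/-- Values of the permutation character of GL₂ over a finite field F with q elements on the cosets of its upper triangular subgroup (equivalently, the number of lines of F² that an element maps to themselves): q + 1 at a scalar matrix, 2 at a diagonal matrix with two different diagonal entries, 0 at an element with no eigenvector in F², and 1 at an upper triangular matrix with equal diagonal entries and non-zero upper right entry. -/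
theorem result {F : Type*} [Field F] [Fintype F] (g : Matrix.GeneralLinearGroup (Fin 2) F) :
    ((∃ a : F, (g : Matrix (Fin 2) (Fin 2) F) = a • (1 : Matrix (Fin 2) (Fin 2) F)) → Cfsg.fixedPointCharacter (Cfsg.upperTriangularGL 2 F) g = Fintype.card F + 1) ∧
    ((g : Matrix (Fin 2) (Fin 2) F) 0 1 = 0 → (g : Matrix (Fin 2) (Fin 2) F) 1 0 = 0 → (g : Matrix (Fin 2) (Fin 2) F) 0 0 ≠ (g : Matrix (Fin 2) (Fin 2) F) 1 1 →
      Cfsg.fixedPointCharacter (Cfsg.upperTriangularGL 2 F) g = 2) ∧
    ((∀ (c : F) (v : Fin 2 → F), v ≠ 0 → (g : Matrix (Fin 2) (Fin 2) F).mulVec v ≠ c • v) → Cfsg.fixedPointCharacter (Cfsg.upperTriangularGL 2 F) g = 0) ∧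
    ((g : Matrix (Fin 2) (Fin 2) F) 1 0 = 0 → (g : Matrix (Fin 2) (Fin 2) F) 0 0 = (g : Matrix (Fin 2) (Fin 2) F) 1 1 → (g : Matrix (Fin 2) (Fin 2) F) 0 1 ≠ 0 →
      Cfsg.fixedPointCharacter (Cfsg.upperTriangularGL 2 F) g = 1) := by
  simp only [fix_count]
  refine ⟨fun ⟨a, ha⟩ => ?_, fun h01 h10 hne => ?_, fun h => ?_, fun h10 heq h01 => ?_⟩
  · have hall : ∀ o, Fix (g : Matrix (Fin 2) (Fin 2) F) o := by
      rintro (_ | t) <;> simp [Fix, ha, mul_comm]
    rw [Nat.card_congr (Equiv.subtypeUnivEquiv hall), Nat.card_eq_fintype_card, Fintype.card_option]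
    push_cast; rfl
  · have e : Nat.card {o : Option F // Fix (g : Matrix (Fin 2) (Fin 2) F) o} = 2 := by
      rw [Nat.card_eq_two_iff]
      refine ⟨⟨none, h10⟩, ⟨some 0, by simp [Fix, h01]⟩, fun h => Option.some_ne_none _ (congrArg Subtype.val h).symm, Set.eq_univ_of_forall ?_⟩
      rintro ⟨(_ | t), ht⟩
      · exact Or.inl rfl
      · refine Or.inr (Subtype.ext (congrArg some ?_))
        simp only [Fix, h01, h10, add_zero, zero_mul, zero_add] at ht
        exact (mul_eq_zero.mp (show t * ((g : Matrix (Fin 2) (Fin 2) F) 0 0 - (g : Matrix (Fin 2) (Fin 2) F) 1 1) = 0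
          by linear_combination ht)).resolve_right (sub_ne_zero.mpr hne)
    rw [e]; norm_num
  · have : IsEmpty {o : Option F // Fix (g : Matrix (Fin 2) (Fin 2) F) o} := by
      constructor
      rintro ⟨(_ | t), ht⟩
      · refine h ((g : Matrix (Fin 2) (Fin 2) F) 0 0) ![1, 0] (by simp) ?_
        simp only [Fix] at ht
        ext i; fin_cases i <;> simp [Matrix.mulVec, dotProduct, Fin.sum_univ_two, ht]
      · refine h ((g : Matrix (Fin 2) (Fin 2) F) 1 0 * t + (g : Matrix (Fin 2) (Fin 2) F) 1 1) ![t, 1]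
          (by simp) ?_
        simp only [Fix] at ht
        ext i; fin_cases i <;> simp [Matrix.mulVec, dotProduct, Fin.sum_univ_two]
        linear_combination ht
    simp
  · have e : Nat.card {o : Option F // Fix (g : Matrix (Fin 2) (Fin 2) F) o} = 1 := by
      rw [Nat.card_eq_one_iff_exists]
      refine ⟨⟨none, h10⟩, ?_⟩
      rintro ⟨(_ | t), ht⟩
      · rfl
      · simp only [Fix, h10, heq, zero_mul, zero_add] at ht
        exact absurd (by linear_combination ht) h01
    rw [e]; norm_num

end Cfsg.Agent.S2308
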