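import Cfsg.Statements.S2309
import Cfsg.Agent.Lib.GL2Char.Counts

set_option autoImplicit false
open Cfsg

namespace Cfsg.Agent.S2309

/-- Over a finite field F with q elements: every irreducible complex character of GL₂ of degree q − 1 vanishes at every diagonal matrix with two distinct entries, and every irreducible complex character of degree q + 1 vanishes at every element with no eigenvector in F². -/
theorem result {F : Type*} [Field F] [Fintype F] (χ : Matrix.GeneralLinearGroup (Fin 2) F → ℂ) (hχ : Cfsg.IsIrrCharacter (Matrix.GeneralLinearGroup (Fin 2) F) χ) (g : Matrix.GeneralLinearGroup (Fin 2) F) :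
    (χ 1 = (Fintype.card F : ℂ) - 1 → (g : Matrix (Fin 2) (Fin 2) F) 0 1 = 0 → (g : Matrix (Fin 2) (Fin 2) F) 1 0 = 0 → (g : Matrix (Fin 2) (Fin 2) F) 0 0 ≠ (g : Matrix (Fin 2) (Fin 2) F) 1 1 → χ g = 0) ∧
    (χ 1 = (Fintype.card F : ℂ) + 1 → (∀ (c : F) (v : Fin 2 → F), v ≠ 0 → (g : Matrix (Fin 2) (Fin 2) F).mulVec v ≠ c • v) → χ g = 0) := by
  classical
  refine ⟨fun h1 h01 h10 hne => ?_, fun h1 hg => ?_⟩
  · have hq : 3 ≤ Fintype.card F := by
      by_contra hc
      have hd := GL2Char.det_ne g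
      rw [h10, mul_zero, sub_zero, mul_ne_zero_iff] at hd
      have h2 : Fintype.card Fˣ ≤ 1 := by rw [Fintype.card_units]; omega
      have := Fintype.card_le_one_iff.1 h2 (Units.mk0 _ hd.1) (Units.mk0 _ hd.2)
      exact hne (congrArg Units.val this)
    exact (GL2Char.isCusp_of_degree hq (χ := ⟨χ, hχ⟩) h1).torus g h01 h10 hne
  · rcases GL2Char.classify ⟨χ, hχ⟩ with ⟨γ, e⟩ | ⟨γ, e⟩ | ⟨α, β, -, e⟩ | e
    · rw [← Subtype.coe_mk (p := IsIrrCharacter _) χ hχ, e, GL2Char.linI_apply_one] at h1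
      simp at h1
    · rw [← Subtype.coe_mk (p := IsIrrCharacter _) χ hχ, e, GL2Char.stI_apply_one] at h1
      simp at h1
    · rw [show χ = GL2Char.PS α β from e]
      exact GL2Char.PS_eq_zero α β g hg
    · rw [show χ 1 = _ from e.apply_one] at h1
      exact absurd (show (2 : ℂ) = 0 by linear_combination -h1) two_ne_zero

end Cfsg.Agent.S2309
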