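import Cfsg.Statements.S2310
import Cfsg.Agent.Lib.GL2Char.Counts

set_option autoImplicit false
open Cfsg

namespace Cfsg.Agent.S2310

/-- Over a finite field F with q ≥ 3 elements, let u be the upper unitriangular matrix of GL₂ with off-diagonal entry 1. An irreducible complex character χ of GL₂ takes at u the value 1 if χ has degree 1 or q + 1, the value −1 if χ has degree q − 1, and the value 0 if χ has degree q. -/
theorem result {F : Type*} [Field F] [Fintype F] (hq : 3 ≤ Fintype.card F) (χ : Matrix.GeneralLinearGroup (Fin 2) F → ℂ) (hχ : Cfsg.IsIrrCharacter (Matrix.GeneralLinearGroup (Fin 2) F) χ)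
    (u : Matrix.GeneralLinearGroup (Fin 2) F) (hu : (u : Matrix (Fin 2) (Fin 2) F) = !![1, 1; 0, 1]) :
    (χ 1 = 1 → χ u = 1) ∧ (χ 1 = (Fintype.card F : ℂ) + 1 → χ u = 1) ∧
    (χ 1 = (Fintype.card F : ℂ) - 1 → χ u = -1) ∧ (χ 1 = (Fintype.card F : ℂ) → χ u = 0) := by
  classical
  refine ⟨fun h => ?_, fun h => ?_, fun h => ?_, fun h => ?_⟩
  · obtain ⟨γ, e⟩ := GL2Char.eq_linI_of_degree hq (χ := ⟨χ, hχ⟩) h
    rw [show χ = _ from congrArg Subtype.val e, GL2Char.linI_apply, hu]
    simp [Matrix.det_fin_two]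
  · obtain ⟨α, β, -, e⟩ := GL2Char.eq_PS_of_degree hq (χ := ⟨χ, hχ⟩) h
    rw [show χ = _ from e]
    exact GL2Char.PS_transvection α β u one_ne_zero hu
  · exact (GL2Char.isCusp_of_degree hq (χ := ⟨χ, hχ⟩) h).apply_transvection u hu
  · obtain ⟨γ, e⟩ := GL2Char.eq_stI_of_degree hq (χ := ⟨χ, hχ⟩) h
    rw [show χ = _ from congrArg Subtype.val e, GL2Char.stI_apply,
      GL2Char.PS_transvection γ γ u one_ne_zero hu, hu]
    simp [Matrix.det_fin_two]

end Cfsg.Agent.S2310
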