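import Cfsg.Statements.S2315
import Cfsg.Agent.Lib.NilpCount.Basic

set_option autoImplicit false
open Cfsg

namespace Cfsg.Agent.S2315

/-- Steinberg's count of unipotent elements for the general linear group: over a finite field with q elements of characteristic p, the number of elements of GL_n of p-power order (the unipotent matrices) is q^(n(n−1)). -/
theorem result {F : Type*} [Field F] [Fintype F] (p : ℕ) [Fact p.Prime] [CharP F p] (n : ℕ) :
    Nat.card {g : Matrix.GeneralLinearGroup (Fin n) F // ∃ k : ℕ, orderOf g = p ^ k} = Fintype.card F ^ (n * (n - 1)) := by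
  classical
  have hp := (Fact.out : p.Prime)
  have key : ∀ M : Matrix (Fin n) (Fin n) F, (∃ k, M ^ p ^ k = 1) ↔ IsNilpotent (M - 1) := by
    intro M
    rcases Nat.eq_zero_or_pos n with rfl | hn
    · exact ⟨fun _ => ⟨1, Subsingleton.elim _ _⟩, fun _ => ⟨0, Subsingleton.elim _ _⟩⟩
    haveI : Nonempty (Fin n) := ⟨⟨0, hn⟩⟩
    constructor
    · rintro ⟨k, hk⟩
      exact ⟨p ^ k, by rw [sub_pow_char_pow_of_commute (p := p) (n := k) (Commute.one_right M), hk, one_pow, sub_self]⟩
    · rintro ⟨m, hm⟩
      refine ⟨m, ?_⟩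
      have h : (M - 1) ^ p ^ m = 0 := pow_eq_zero_of_le (Nat.lt_pow_self hp.one_lt).le hm
      rwa [sub_pow_char_pow_of_commute (p := p) (n := m) (Commute.one_right M), one_pow, sub_eq_zero] at h
  rw [← NilpCount.nilCount_eq (F := F) n]
  exact Nat.card_congr
    { toFun := fun g => ⟨(g.1 : Matrix (Fin n) (Fin n) F) - 1, (key _).1 (by
        obtain ⟨k, hk⟩ := g.2
        exact ⟨k, by rw [← Units.val_pow_eq_pow_val, ← hk, pow_orderOf_eq_one, Units.val_one]⟩)⟩
      invFun := fun N => ⟨(show IsUnit (1 + N.1) from N.2.isUnit_one_add).unit, by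
        obtain ⟨k, hk⟩ := (key (1 + N.1)).2 (by rw [add_sub_cancel_left]; exact N.2)
        have h1 : (show IsUnit (1 + N.1) from N.2.isUnit_one_add).unit ^ p ^ k = 1 :=
          Units.ext (by rw [Units.val_pow_eq_pow_val, IsUnit.unit_spec, hk, Units.val_one])
        obtain ⟨j, -, hj⟩ := (Nat.dvd_prime_pow hp).1 (orderOf_dvd_of_pow_eq_one h1)
        exact ⟨j, hj⟩⟩
      left_inv := fun g => Subtype.ext (Units.ext (by simp))
      right_inv := fun N => Subtype.ext (by simp) }

end Cfsg.Agent.S2315
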