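-- Statement S2316: Steinberg's count of unipotent elements in Sp_{2m}.
import Cfsg.Statements.S2316
import Cfsg.Agent.Lib.UnipCount.Symp

set_option autoImplicit false
open Cfsg

namespace Cfsg.Agent.S2316

open Matrix in
/-- Steinberg's count of unipotent elements for the symplectic group: over a finite field with q elements of characteristic p, the number of elements of Sp_{2m} of p-power order is q^(2m²). -/
theorem result {F : Type*} [Field F] [Fintype F] (p : ℕ) [Fact p.Prime] [CharP F p] (m : ℕ) :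
    Nat.card {g : ↥(Matrix.symplecticGroup (Fin m) F) // ∃ k : ℕ, orderOf g = p ^ k} = Fintype.card F ^ (2 * m ^ 2) := by
  classical
  have hp := (Fact.out : p.Prime)
  rcases Nat.eq_zero_or_pos m with rfl | hm
  · haveI : Subsingleton ↥(Matrix.symplecticGroup (Fin 0) F) := ⟨fun a b => Subtype.ext (Subsingleton.elim _ _)⟩
    haveI : Unique {g : ↥(Matrix.symplecticGroup (Fin 0) F) // ∃ k : ℕ, orderOf g = p ^ k} :=
      { default := ⟨1, 0, by simp⟩, uniq := fun a => Subtype.ext (Subsingleton.elim _ _) }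
    simp
  haveI : Nonempty (Fin m ⊕ Fin m) := ⟨Sum.inl ⟨0, hm⟩⟩
  rw [← UnipCount.nUnip_eq (F := F) m]
  refine Nat.card_congr (Equiv.subtypeEquiv (Forms.spEquiv m F).toEquiv fun g => ?_)
  have hlin : ((Forms.spEquiv m F g).1.toLinearMap : Module.End F (Fin m ⊕ Fin m → F)) - 1
      = Matrix.toLinAlgEquiv' ((g.1 : Matrix (Fin m ⊕ Fin m) (Fin m ⊕ Fin m) F) - 1) := by
    rw [map_sub, map_one]
    congr 1
  show _ ↔ IsNilpotent (((Forms.spEquiv m F g).1.toLinearMap : Module.End F (Fin m ⊕ Fin m → F)) - 1)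
  rw [hlin, IsNilpotent.map_iff (Matrix.toLinAlgEquiv' (R := F) (n := Fin m ⊕ Fin m)).injective]
  constructor
  · rintro ⟨k, hk⟩
    have h1 : (g.1 : Matrix (Fin m ⊕ Fin m) (Fin m ⊕ Fin m) F) ^ p ^ k = 1 := by
      rw [← SubmonoidClass.coe_pow, ← hk, pow_orderOf_eq_one]; rfl
    exact ⟨p ^ k, by rw [sub_pow_char_pow_of_commute (p := p) (n := k) (Commute.one_right _), h1, one_pow, sub_self]⟩
  · rintro ⟨n, hn⟩
    have h := pow_eq_zero_of_le (Nat.lt_pow_self hp.one_lt (n := n)).le hn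
    rw [sub_pow_char_pow_of_commute (p := p) (n := n) (Commute.one_right _), one_pow, sub_eq_zero] at h
    have h1 : g ^ p ^ n = 1 := Subtype.ext (by rw [SubmonoidClass.coe_pow, h]; rfl)
    obtain ⟨j, -, hj⟩ := (Nat.dvd_prime_pow hp).1 (orderOf_dvd_of_pow_eq_one h1)
    exact ⟨j, hj⟩

end Cfsg.Agent.S2316
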