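import Cfsg.Statements.S2317
import Cfsg.Agent.Lib.UnipClasses.Basic

set_option autoImplicit false
open Cfsg

namespace Cfsg.Agent.S2317

open LinRep.JordanType UnipClasses Polynomial

section

variable {F : Type*} [Field F] {n : ℕ}

/-- The endomorphism `g - 1`. -/
noncomputable def nilPart (g : Matrix.GeneralLinearGroup (Fin n) F) : Module.End F (Fin n → F) :=
  Matrix.toLinAlgEquiv' ((g : Matrix (Fin n) (Fin n) F) - 1)

theorem isNilpotent_iff (p : ℕ) [Fact p.Prime] [CharP F p] (g : Matrix.GeneralLinearGroup (Fin n) F) :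
    (∃ k : ℕ, orderOf g = p ^ k) ↔ IsNilpotent (nilPart g) := by
  have hp : p.Prime := Fact.out
  have hpow : ∀ k : ℕ, ((g : Matrix (Fin n) (Fin n) F) - 1) ^ p ^ k =
      (g : Matrix (Fin n) (Fin n) F) ^ p ^ k - 1 := by
    intro k
    have h := congrArg (aeval (g : Matrix (Fin n) (Fin n) F))
      (sub_pow_char_pow (X : F[X]) 1 (n := k) (p := p))
    simpa using h
  constructor
  · rintro ⟨k, hk⟩
    refine ⟨p ^ k, ?_⟩
    rw [nilPart, ← map_pow, hpow, ← Units.val_pow_eq_pow_val, ← hk, pow_orderOf_eq_one,
      Units.val_one, sub_self, map_zero]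
  · rintro ⟨m, hm⟩
    rw [nilPart, ← map_pow, map_eq_zero_iff _ Matrix.toLinAlgEquiv'.injective] at hm
    have h := pow_eq_zero_of_le (Nat.lt_pow_self hp.one_lt).le hm
    rw [hpow, sub_eq_zero, ← Units.val_pow_eq_pow_val] at h
    obtain ⟨k, -, hk⟩ := (Nat.dvd_prime_pow hp).1 (orderOf_dvd_of_pow_eq_one (Units.ext h))
    exact ⟨k, hk⟩

theorem isConj_iff_similar (g h : Matrix.GeneralLinearGroup (Fin n) F) :
    IsConj g h ↔ ∃ L : (Fin n → F) ≃ₗ[F] (Fin n → F), ∀ v, L (nilPart g v) = nilPart h (L v) := by
  constructor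
  · intro hc
    obtain ⟨c, hc⟩ := isConj_iff.1 hc
    refine ⟨LinearMap.GeneralLinearGroup.generalLinearEquiv F _
      (Units.map (Matrix.toLinAlgEquiv' (R := F) (n := Fin n)).toRingEquiv.toMonoidHom c), fun v => ?_⟩
    show (Matrix.toLinAlgEquiv' (c : Matrix (Fin n) (Fin n) F) * nilPart g) v =
      (nilPart h * Matrix.toLinAlgEquiv' (c : Matrix (Fin n) (Fin n) F)) v
    rw [nilPart, nilPart, ← map_mul, ← map_mul, mul_sub, sub_mul, mul_one, one_mul, ← hc,
      ← Units.val_mul, ← Units.val_mul, inv_mul_cancel_right]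
  · rintro ⟨L, hL⟩
    let c : Matrix.GeneralLinearGroup (Fin n) F :=
      ⟨Matrix.toLinAlgEquiv'.symm (L : Module.End F (Fin n → F)),
        Matrix.toLinAlgEquiv'.symm (L.symm : Module.End F (Fin n → F)),
        by rw [← map_mul, ← map_one (Matrix.toLinAlgEquiv' (R := F) (n := Fin n)).symm]
           exact congrArg _ (LinearMap.ext fun v => L.apply_symm_apply v),
        by rw [← map_mul, ← map_one (Matrix.toLinAlgEquiv' (R := F) (n := Fin n)).symm]
           exact congrArg _ (LinearMap.ext fun v => L.symm_apply_apply v)⟩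
    refine isConj_iff.2 ⟨c, ?_⟩
    rw [mul_inv_eq_iff_eq_mul]
    refine Units.ext (Matrix.toLinAlgEquiv'.injective (LinearMap.ext fun v => ?_))
    rw [Units.val_mul, Units.val_mul, map_mul, map_mul, Module.End.mul_apply, Module.End.mul_apply]
    have hv := hL v
    simp only [nilPart, map_sub, map_one, LinearMap.sub_apply, Module.End.one_apply] at hv
    simp only [c, AlgEquiv.apply_symm_apply, LinearEquiv.coe_coe]
    exact sub_left_inj.1 hv

theorem exists_type {N : Module.End F (Fin n → F)} (hN : IsNilpotent N) :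
    ∃ μ : Nat.Partition n, HasType N μ.parts := by
  obtain ⟨d, k, L, hL⟩ := exists_shift N hN
  have hsum : n = ∑ i, k i := by
    have h := L.finrank_eq
    rw [Module.finrank_fintype_fun_eq_card, Module.finrank_fintype_fun_eq_card, Fintype.card_fin,
      Fintype.card_sigma] at h
    simpa using h
  refine ⟨⟨(Finset.univ.val.map k).filter (0 < ·), fun h => (Multiset.mem_filter.1 h).2, ?_⟩,
    fun j => ?_⟩
  · have : ∀ m : Multiset ℕ, (m.filter (0 < ·)).sum = m.sum := fun m => by
      induction m using Multiset.induction with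
      | empty => simp
      | cons e m ih => rcases e with _ | e <;> simp [ih]
    rw [this]
    exact hsum.symm
  · have : ∀ m : Multiset ℕ, ((m.filter (0 < ·)).map (· - j)).sum = (m.map (· - j)).sum := fun m => by
      induction m using Multiset.induction with
      | empty => simp
      | cons e m ih => rcases e with _ | e <;> simp [ih]
    rw [hasType_of_shift k L hL j]
    exact (this _).symm

theorem exists_model (μ : Nat.Partition n) :
    ∃ g : Matrix.GeneralLinearGroup (Fin n) F, IsNilpotent (nilPart g) ∧ HasType (nilPart g) μ.parts := by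
  let l := μ.parts.toList
  let k : Fin l.length → ℕ := l.get
  have hk : Finset.univ.val.map k = μ.parts := by
    rw [Fin.univ_val_map, List.ofFn_get, Multiset.coe_toList]
  have hcard : Fintype.card (Σ i, Fin (k i)) = Fintype.card (Fin n) := by
    rw [Fintype.card_sigma, Fintype.card_fin]
    simp only [Fintype.card_fin]
    rw [Finset.sum_eq_multiset_sum, hk, μ.parts_sum]
  let E : (Fin n → F) ≃ₗ[F] ((Σ i, Fin (k i)) → F) :=
    LinearEquiv.funCongrLeft F F (Fintype.equivOfCardEq hcard)
  let N : Module.End F (Fin n → F) :=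
    (E.symm.toLinearMap.comp (shiftFun k)).comp E.toLinearMap
  have hN : ∀ v, E (N v) = shiftFun k (E v) := fun v => E.apply_symm_apply _
  have hnil : IsNilpotent N := by
    refine ⟨n, LinearMap.ext fun v => E.injective ?_⟩
    rw [UnipClasses.pow_conj E hN, LinearMap.zero_apply, map_zero]
    funext q
    rw [shiftFun_pow_apply, dif_neg]
    · rfl
    have h1 : k q.1 ≤ n := by
      rw [← Fintype.card_fin n, ← hcard, Fintype.card_sigma]
      simp only [Fintype.card_fin]
      exact Finset.single_le_sum (fun i _ => Nat.zero_le (k i)) (Finset.mem_univ q.1)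
    have := q.2.isLt
    omega
  have hu : IsUnit (Matrix.toLinAlgEquiv'.symm (N + 1)) :=
    (IsNilpotent.isUnit_add_one hnil).map _
  have he : nilPart hu.unit = N := by
    rw [nilPart, IsUnit.unit_spec, map_sub, AlgEquiv.apply_symm_apply, map_one, add_sub_cancel_right]
  refine ⟨hu.unit, he.symm ▸ hnil, ?_⟩
  rw [he, ← hk]
  exact hasType_of_shift k E hN

end

/-- Over a finite field of characteristic p, the conjugacy classes of GL_n consisting of elements of p-power order (the unipotent classes) are as many as the partitions of n. -/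
theorem result {F : Type*} [Field F] [Fintype F] (p : ℕ) [Fact p.Prime] [CharP F p] (n : ℕ) :
    Nat.card {C : ConjClasses (Matrix.GeneralLinearGroup (Fin n) F) //
      ∃ g : Matrix.GeneralLinearGroup (Fin n) F, (∃ k : ℕ, orderOf g = p ^ k) ∧ ConjClasses.mk g = C} =
      Fintype.card (Nat.Partition n) := by
  classical
  choose g hnil htype using fun μ : Nat.Partition n => exists_model (F := F) μ
  rw [← Nat.card_eq_fintype_card]
  refine (Nat.card_eq_of_bijective (fun μ : Nat.Partition n =>
    (⟨ConjClasses.mk (g μ), g μ, (isNilpotent_iff p _).2 (hnil μ), rfl⟩ :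
      {C : ConjClasses (Matrix.GeneralLinearGroup (Fin n) F) //
        ∃ g : Matrix.GeneralLinearGroup (Fin n) F,
          (∃ k : ℕ, orderOf g = p ^ k) ∧ ConjClasses.mk g = C})) ⟨?_, ?_⟩).symm
  · intro μ ν h
    obtain ⟨L, hL⟩ := (isConj_iff_similar _ _).1
      (ConjClasses.mk_eq_mk_iff_isConj.1 (congrArg Subtype.val h))
    refine Nat.Partition.ext (Multiset.ext.2 fun e => ?_)
    rcases eq_or_ne e 0 with rfl | he
    · rw [Multiset.count_eq_zero_of_notMem fun h0 => (μ.parts_pos h0).false,
        Multiset.count_eq_zero_of_notMem fun h0 => (ν.parts_pos h0).false]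
    · exact UnipClasses.count_eq_of_hasType (htype μ) (htype ν) (UnipClasses.rankDim_conj L hL) he
  · rintro ⟨C, u, hu, rfl⟩
    obtain ⟨μ, hμ⟩ := exists_type ((isNilpotent_iff p u).1 hu)
    refine ⟨μ, Subtype.ext (ConjClasses.mk_eq_mk_iff_isConj.2 ((isConj_iff_similar _ _).2
      (UnipClasses.similar_of_rankDim (hnil μ) ((isNilpotent_iff p u).1 hu) fun j =>
        (htype μ j).trans (hμ j).symm)))⟩

end Cfsg.Agent.S2317
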