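import Cfsg.Statements.S2320
import Cfsg.Agent.Lib.GL2Char.SLAbove

set_option autoImplicit false
open Cfsg

namespace Cfsg.Agent.S2320

/-- Over a finite field F with q elements, every irreducible complex character of GL₂ of degree q takes a value of absolute value 1 at every diagonal matrix with two different diagonal entries and at every element with no eigenvector in F². -/
theorem result {F : Type*} [Field F] [Fintype F] (χ : Matrix.GeneralLinearGroup (Fin 2) F → ℂ) (hχ : Cfsg.IsIrrCharacter (Matrix.GeneralLinearGroup (Fin 2) F) χ) (hdeg : χ 1 = (Fintype.card F : ℂ)) (g : Matrix.GeneralLinearGroup (Fin 2) F) :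
    ((g : Matrix (Fin 2) (Fin 2) F) 0 1 = 0 → (g : Matrix (Fin 2) (Fin 2) F) 1 0 = 0 → (g : Matrix (Fin 2) (Fin 2) F) 0 0 ≠ (g : Matrix (Fin 2) (Fin 2) F) 1 1 → ‖χ g‖ = 1) ∧
    ((∀ (c : F) (v : Fin 2 → F), v ≠ 0 → (g : Matrix (Fin 2) (Fin 2) F).mulVec v ≠ c • v) → ‖χ g‖ = 1) := by
  classical
  have hq := GL2Char.one_lt_q (F := F)
  obtain ⟨γ, e⟩ : ∃ γ, (⟨χ, hχ⟩ : IrrCharacter _) = GL2Char.stI γ := by
    rcases GL2Char.classify ⟨χ, hχ⟩ with ⟨γ, e⟩ | h | ⟨α, β, -, e⟩ | e
    · rw [show χ = _ from congrArg Subtype.val e, GL2Char.linI_apply_one] at hdeg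
      exact absurd hdeg hq
    · exact h
    · rw [show χ = _ from e, GL2Char.PS_one] at hdeg
      simp at hdeg
    · rw [show χ 1 = _ from e.apply_one] at hdeg
      simp at hdeg
  have hd : (g : Matrix (Fin 2) (Fin 2) F).det ≠ 0 := Matrix.GeneralLinearGroup.det_ne_zero g
  rw [show χ g = _ from congrFun (congrArg Subtype.val e) g, GL2Char.stI_apply]
  refine ⟨fun h01 h10 hne => ?_, fun hg => ?_⟩
  · rw [GL2Char.PS_torus γ γ g h01 h10 hne, ← map_mul, ← map_mul, Matrix.det_fin_two, h01, zero_mul,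
      sub_zero, mul_comm ((g : Matrix (Fin 2) (Fin 2) F) 1 1), add_sub_cancel_right]
    refine GL2Char.norm_mulChar γ ?_
    rwa [Matrix.det_fin_two, h01, zero_mul, sub_zero] at hd
  · rw [GL2Char.PS_eq_zero γ γ g hg, zero_sub, norm_neg]
    exact GL2Char.norm_mulChar γ hd

end Cfsg.Agent.S2320
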