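import Cfsg.Statements.S2322
import Cfsg.Agent.Lib.GL2Char.SLHalves

set_option autoImplicit false
open Cfsg

namespace Cfsg.Agent.S2322

/-- Over a finite field F with q elements, q odd: every irreducible complex character of SL₂ of degree q − 1 or (q − 1)/2 vanishes at every diagonal matrix whose diagonal entry a has a² ≠ 1, and every irreducible complex character of degree q + 1 or (q + 1)/2 vanishes at every element with no eigenvector in F². -/
theorem result {F : Type*} [Field F] [Fintype F] (hodd : Odd (Fintype.card F)) (χ : Matrix.SpecialLinearGroup (Fin 2) F → ℂ) (hχ : Cfsg.IsIrrCharacter (Matrix.SpecialLinearGroup (Fin 2) F) χ) (g : Matrix.SpecialLinearGroup (Fin 2) F) :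
    ((χ 1 = (Fintype.card F : ℂ) - 1 ∨ χ 1 = (((Fintype.card F - 1) / 2 : ℕ) : ℂ)) →
      (g : Matrix (Fin 2) (Fin 2) F) 0 1 = 0 → (g : Matrix (Fin 2) (Fin 2) F) 1 0 = 0 → (g : Matrix (Fin 2) (Fin 2) F) 0 0 ^ 2 ≠ 1 → χ g = 0) ∧
    ((χ 1 = (Fintype.card F : ℂ) + 1 ∨ χ 1 = (((Fintype.card F + 1) / 2 : ℕ) : ℂ)) →
      (∀ (c : F) (v : Fin 2 → F), v ≠ 0 → (g : Matrix (Fin 2) (Fin 2) F).mulVec v ≠ c • v) → χ g = 0) := by
  classical
  refine ⟨fun h h01 h10 ha => ?_, fun h hg => GL2Char.elliptic_zero hodd ⟨χ, hχ⟩ h g hg⟩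
  have h5 : 5 ≤ Fintype.card F := by
    by_contra hc
    have h3 : Fintype.card F = 3 := by
      have := Fintype.one_lt_card (α := F)
      obtain ⟨m, hm⟩ := hodd
      omega
    have hd := g.2
    rw [Matrix.det_fin_two, h10, mul_zero, sub_zero] at hd
    have := FiniteField.pow_card_sub_one_eq_one _ (left_ne_zero_of_mul_eq_one hd)
    rw [h3] at this
    exact ha this
  exact (GL2Char.isCuspS_of_degree hodd h5 ⟨χ, hχ⟩ h).torus g h01 h10 ha

end Cfsg.Agent.S2322
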