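import Cfsg.Statements.S2328
import Cfsg.Agent.Lib.Chev.Steinberg
import Cfsg.Agent.Lib.Blocks.PrimePowerDegree

set_option autoImplicit false
open Cfsg

namespace Cfsg.Agent.S2328

/-- In a Chevalley group of type G₂, B₂, D₄, F₄, E₆, E₇ or E₈ over a finite field of characteristic p, the Steinberg character vanishes at every element whose order is divisible by p (every element that is not semisimple). -/
theorem result {F : Type*} [Field F] [Fintype F] (p : ℕ) [Fact p.Prime] [CharP F p] (D : Cfsg.Lie.ChevalleyDatum) (hD : D ∈ [Cfsg.Lie.chevG2, Cfsg.Lie.chevB2, Cfsg.Lie.chevD4, Cfsg.Lie.chevF4, Cfsg.Lie.chevE6, Cfsg.Lie.chevE7, Cfsg.Lie.chevE8]) (g : ↥(D.group F)) (hg : p ∣ orderOf g) :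
    D.steinbergCharacter F g = 0 := by
  classical
  obtain ⟨hirr, -, hdeg⟩ := Cfsg.Agent.Chev.BNSetup.steinberg_facts (F := F) hD
  have hG := Cfsg.Agent.Chev.good_of_mem hD
  obtain ⟨tabs, simps, w, hf, -⟩ := Cfsg.Agent.Chev.BNSetup.exists_facts_longest hD
  obtain ⟨P, hP⟩ := Cfsg.Agent.Chev.ChevSylow.exists_sylow p hG hf (F := F)
  have hUG : D.posUnipotent F ≤ D.group F := Cfsg.Agent.Chev.ChevSylow.posUnipotent_le_group hG hf
  have h1 : Fintype.card F ^ (D.nroots / 2) = p ^ (Nat.card (D.group F)).factorization p := by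
    rw [← Sylow.card_eq_multiplicity P, ← Cfsg.Agent.Chev.BNSetup.card_U hf hG]
    rw [hP]
    exact (Nat.card_congr (Subgroup.subgroupOfEquivOfLe hUG).toEquiv).symm
  obtain ⟨M, hM⟩ := Cfsg.Agent.CharInt.exists_isPModular_of_prime (Fact.out : p.Prime)
  haveI : M.IsMaximal := hM.2.1
  have hd : Cfsg.Agent.Char.degree (⟨_, hirr⟩ : IrrCharacter ↥(D.group F)) =
      Fintype.card F ^ (D.nroots / 2) := by
    have := Cfsg.Agent.Char.apply_one_eq_degree (⟨_, hirr⟩ : IrrCharacter ↥(D.group F))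
    exact_mod_cast (this.symm.trans hdeg)
  refine Cfsg.Agent.Blocks.apply_eq_zero_of_defect_zero hM.2.2 ⟨_, hirr⟩ ?_ (g := g) (fun h => h hg)
  rw [hd, h1, (Fact.out : p.Prime).factorization_pow, Finsupp.single_eq_same]

end Cfsg.Agent.S2328
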