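import Cfsg.Statements.S2332
import Cfsg.Agent.Lib.MinDegree.SLTop
import Cfsg.Agent.Lib.MinDegree.SLExist

set_option autoImplicit false
open Cfsg

namespace Cfsg.Agent.S2332

/-- Smallest degree of a non-linear irreducible complex representation of SL_n over a finite field with q elements, for n ≥ 3 and (n, q) not one of (3, 2), (3, 4), (4, 2), (4, 3): every irreducible complex representation of SL_n(F) of degree at least 2 has degree at least (q^n − q)/(q − 1), and there is an irreducible complex representation of exactly that degree. -/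
theorem result {F : Type*} [Field F] [Fintype F] [DecidableEq F] (n : ℕ) (hn : 3 ≤ n)
    (hex : (n, Fintype.card F) ≠ (3, 2) ∧ (n, Fintype.card F) ≠ (3, 4) ∧ (n, Fintype.card F) ≠ (4, 2) ∧ (n, Fintype.card F) ≠ (4, 3)) :
    (∀ (k : ℕ) (ρ : Representation ℂ (Matrix.SpecialLinearGroup (Fin n) F) (Fin k → ℂ)), ρ.IsIrreducible → 2 ≤ k → (Fintype.card F ^ n - Fintype.card F) / (Fintype.card F - 1) ≤ k) ∧
    (∃ ρ : Representation ℂ (Matrix.SpecialLinearGroup (Fin n) F) (Fin ((Fintype.card F ^ n - Fintype.card F) / (Fintype.card F - 1)) → ℂ), ρ.IsIrreducible) := by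
  refine ⟨fun k ρ hρ hk => ?_, MinDegree.sl_exists_irreducible hn⟩
  obtain ⟨j, rfl⟩ : ∃ j, n = j + 3 := ⟨n - 3, by omega⟩
  obtain ⟨h32, h34, h42, h43⟩ := hex
  have hq : 2 ≤ Fintype.card F := Fintype.one_lt_card
  have h := MinDegree.sl_min_degree ρ (MinDegree.irred_of_isIrreducible hρ)
    (by rw [Module.finrank_fin_fun]; exact hk) (by
      rcases Nat.lt_or_ge j 2 with hj | hj
      · rcases (show j = 0 ∨ j = 1 by omega) with rfl | rfl
        · exact Or.inr (Or.inr ⟨rfl, fun e => h32 (by rw [e]), fun e => h34 (by rw [e])⟩)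
        · refine Or.inr (Or.inl ⟨rfl, ?_⟩)
          have a : Fintype.card F ≠ 2 := fun e => h42 (by rw [e])
          have b : Fintype.card F ≠ 3 := fun e => h43 (by rw [e])
          omega
      · exact Or.inl hj)
  rw [Module.finrank_fin_fun] at h
  rw [Nat.div_le_iff_le_mul_add_pred (by omega : 0 < Fintype.card F - 1)]
  omega

end Cfsg.Agent.S2332
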