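import Cfsg.Statements.S2334
import Cfsg.Agent.Lib.MinDegree.UnitaryMatrix

set_option autoImplicit false
open Cfsg

namespace Cfsg.Agent.S2334

/-- For odd n ≥ 3 and a finite field F with q² elements, (n, q) ≠ (3, 2), every irreducible complex representation of the special unitary group SU_n(q) (the determinant-one isometries of the standard Hermitian form over F) of degree at least 2 has degree at least (q^n − q)/(q + 1). -/
theorem result {F : Type*} [Field F] [Fintype F] [DecidableEq F] (n q : ℕ) (hn : 3 ≤ n) (hodd : Odd n) (hF : Fintype.card F = q ^ 2) (hex : (n, q) ≠ (3, 2)) :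
    (∀ (k : ℕ) (ρ : Representation ℂ (Cfsg.SU n F q) (Fin k → ℂ)), ρ.IsIrreducible → 2 ≤ k → (q ^ n - q) / (q + 1) ≤ k) := by
  intro k ρ hρ hk
  have h := MinDegree.su_degree_ge hF hn (fun e => hex (Prod.ext e.1 e.2)) ρ hρ hk
  have hq := Agent.Forms.one_lt_q hF
  obtain ⟨c, rfl⟩ := hodd
  have hs := MinDegree.sum_closed q (2 * c + 1) (by omega) c (by omega)
  rw [show (2 * c + 1) / 2 = c by omega] at h
  rw [show 2 * c + 1 - 2 * c = 1 by omega, pow_one] at hs
  refine (Nat.div_le_div_right (show q ^ (2 * c + 1) - q ≤ (q + 1) * k from ?_)).trans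
    (le_of_eq (Nat.mul_div_cancel_left k (by omega)))
  have := Nat.mul_le_mul_left (q + 1) h
  omega

end Cfsg.Agent.S2334
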