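import Cfsg.Statements.S2336
import Cfsg.Agent.Lib.Char.PermChar
import Cfsg.Agent.Lib.Char.Linear
import Cfsg.Agent.Lib.GL.Action

set_option autoImplicit false
open Cfsg

namespace Cfsg.Agent.S2336

open Cfsg.Agent.Char
open scoped ComplexConjugate

/-- A sum of `k` characters of non-zero degree with norm `k` consists of distinct irreducible characters. -/
theorem irr_of_norm_eq_card {G : Type*} [Group G] [Fintype G] {ι : Type*} [Fintype ι] [DecidableEq ι]
    (χ : ι → G → ℂ) (hχ : ∀ i, IsCharacter G (χ i)) (h1 : ∀ i, χ i 1 ≠ 0)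
    (hn : classInner (∑ i, χ i) (∑ i, χ i) = Fintype.card ι) :
    (∀ i, IsIrrCharacter G (χ i)) ∧ Function.Injective χ := by
  choose m hm using fun i j => IsCharacter.exists_nat_classInner (hχ i) (hχ j)
  have hd : ∀ i, 1 ≤ m i i := fun i => Nat.one_le_iff_ne_zero.2 fun h => h1 i (by
    have := classInner_self_eq_zero (φ := χ i) (by rw [hm, h, Nat.cast_zero])
    rw [this]; rfl)
  have hs : ∑ i, ∑ j, m i j = Fintype.card ι := by
    have : ((∑ i, ∑ j, m i j : ℕ) : ℂ) = Fintype.card ι := by
      rw [← hn, classInner_sum_left]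
      push_cast
      exact Finset.sum_congr rfl fun i _ => by rw [classInner_sum_right]; simp [hm]
    exact_mod_cast this
  have hsplit : ∀ i, ∑ j, m i j = m i i + ∑ j ∈ Finset.univ.erase i, m i j :=
    fun i => (Finset.add_sum_erase _ _ (Finset.mem_univ i)).symm
  have key : ∀ i, ∑ j, m i j = 1 := by
    intro i
    have hle : ∀ i, 1 ≤ ∑ j, m i j := fun i => (hd i).trans (by rw [hsplit]; omega)
    by_contra hne
    have : ∑ _i : ι, 1 < ∑ i, ∑ j, m i j :=
      Finset.sum_lt_sum (fun i _ => hle i) ⟨i, Finset.mem_univ i, lt_of_le_of_ne (hle i) (Ne.symm hne)⟩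
    simp [hs] at this
  have hoff : ∀ i j, j ≠ i → m i j = 0 := fun i j hj => by
    have h0 : ∑ j ∈ Finset.univ.erase i, m i j = 0 := by have := key i; rw [hsplit] at this; have := hd i; omega
    exact Finset.sum_eq_zero_iff.1 h0 j (Finset.mem_erase.2 ⟨hj, Finset.mem_univ j⟩)
  refine ⟨fun i => isIrrCharacter_iff.2 ⟨hχ i, ?_⟩, fun i j hij => ?_⟩
  · have := key i; rw [hsplit] at this
    have h2 := hd i
    rw [hm, show m i i = 1 by omega, Nat.cast_one]
  · by_contra hne
    have h3 : (m i i : ℂ) = (m i j : ℂ) := by rw [← hm, ← hm, hij]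
    rw [hoff i j (Ne.symm hne)] at h3
    have := hd i
    have : m i i = 0 := by exact_mod_cast h3
    omega

variable {F : Type*} [Field F] [Fintype F] [DecidableEq F] {n : ℕ}

local notation "SLn" => Matrix.SpecialLinearGroup (Fin n) F

/-- The non-zero vectors. -/
abbrev X (F : Type*) [Field F] (n : ℕ) := {v : Fin n → F // v ≠ 0}

theorem smul_ne (a : Fˣ) (g : SLn) {v : Fin n → F} (hv : v ≠ 0) :
    (a : F) • Matrix.mulVec (g : Matrix (Fin n) (Fin n) F) v ≠ 0 := by
  intro h
  rw [smul_eq_zero] at h
  refine hv ?_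
  have h1 := congrArg (Matrix.mulVec ((g⁻¹ : SLn) : Matrix (Fin n) (Fin n) F)) (h.resolve_left a.ne_zero)
  rwa [Matrix.mulVec_mulVec, ← Matrix.SpecialLinearGroup.coe_mul, inv_mul_cancel,
    Matrix.SpecialLinearGroup.coe_one, Matrix.one_mulVec, Matrix.mulVec_zero] at h1

@[reducible] def actionProd : MulAction (SLn × Fˣ) (X F n) where
  smul g v := ⟨(g.2 : F) • Matrix.mulVec (g.1 : Matrix (Fin n) (Fin n) F) v.1, smul_ne g.2 g.1 v.2⟩
  one_smul v := Subtype.ext (show ((1 : Fˣ) : F) • Matrix.mulVec ((1 : SLn) : Matrix (Fin n) (Fin n) F) v.1 = v.1 by simp)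
  mul_smul g h v := Subtype.ext (show ((g.2 * h.2 : Fˣ) : F) • Matrix.mulVec ((g.1 * h.1 : SLn) : Matrix (Fin n) (Fin n) F) v.1 =
      (g.2 : F) • Matrix.mulVec (g.1 : Matrix (Fin n) (Fin n) F) ((h.2 : F) • Matrix.mulVec (h.1 : Matrix (Fin n) (Fin n) F) v.1) by
    simp [Matrix.mulVec_smul, Matrix.mulVec_mulVec, smul_smul])

@[reducible] def actionSL : MulAction SLn (X F n) :=
  letI : MulAction (SLn × Fˣ) (X F n) := actionProd
  MulAction.compHom (X F n) (MonoidHom.inl SLn Fˣ)

attribute [local instance] actionProd actionSL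

theorem coe_smul_SL (g : SLn) (v : X F n) : (g • v).1 = Matrix.mulVec (g : Matrix (Fin n) (Fin n) F) v.1 :=
  show ((1 : Fˣ) : F) • _ = _ by simp

/-- The coefficient of dependence of a pair. -/
noncomputable def ratio (p : X F n × X F n) : Option Fˣ :=
  open Classical in
  if h : ∃ a : Fˣ, p.2.1 = (a : F) • p.1.1 then some h.choose else none

theorem ratio_eq_some {p : X F n × X F n} {a : Fˣ} : ratio p = some a ↔ p.2.1 = (a : F) • p.1.1 := by
  classical
  constructor
  · intro h
    unfold ratio at h
    split_ifs at h with h'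
    exact Option.some.inj h ▸ h'.choose_spec
  · intro h
    have h' : ∃ a : Fˣ, p.2.1 = (a : F) • p.1.1 := ⟨a, h⟩
    rw [ratio, dif_pos h']
    exact congrArg some (Units.ext (smul_left_injective F p.1.2 (h'.choose_spec.symm.trans h)))

theorem ratio_eq_none {p : X F n × X F n} :
    ratio p = none ↔ LinearIndependent F ![p.1.1, p.2.1] := by
  rw [linearIndependent_fin2]
  simp only [Matrix.cons_val_one, Matrix.cons_val_zero]
  constructor
  · intro h
    refine ⟨p.2.2, fun a ha => ?_⟩
    have ha0 : a ≠ 0 := by rintro rfl; exact p.1.2 (by simpa using ha.symm)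
    have := (ratio_eq_some (p := p) (a := (Units.mk0 a ha0)⁻¹)).2 (by
      rw [← ha, smul_smul]; simp [inv_mul_cancel₀ ha0])
    simp [h] at this
  · intro h
    by_contra hne
    obtain ⟨a, ha⟩ := Option.ne_none_iff_exists'.1 hne
    exact h.2 ((a⁻¹ : Fˣ) : F) (by rw [ratio_eq_some.1 ha, smul_smul]; simp)

theorem card_orbits_pairs (hn : 3 ≤ n) :
    Nat.card (Quotient (MulAction.orbitRel SLn (X F n × X F n))) = Fintype.card F := by
  classical
  have hinv : ∀ (g : SLn) (p : X F n × X F n), ratio (g • p) = ratio p := by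
    intro g p
    have key : ∀ a : Fˣ, ratio p = some a → ratio (g • p) = some a := fun a ha => by
      rw [ratio_eq_some] at ha ⊢
      rw [show (g • p).2.1 = _ from coe_smul_SL g p.2, show (g • p).1.1 = _ from coe_smul_SL g p.1, ha,
        Matrix.mulVec_smul]
    cases hp : ratio p with
    | some a => exact key a hp
    | none =>
      by_contra hne
      obtain ⟨a, ha⟩ := Option.ne_none_iff_exists'.1 hne
      rw [ratio_eq_some, show (g • p).2.1 = _ from coe_smul_SL g p.2, show (g • p).1.1 = _ from coe_smul_SL g p.1,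
        ← Matrix.mulVec_smul] at ha
      have hinj : Function.Injective (fun v => Matrix.mulVec (g : Matrix (Fin n) (Fin n) F) v) :=
        Matrix.mulVec_injective_iff_isUnit.2 (Matrix.SpecialLinearGroup.toGL g).isUnit
      have := (ratio_eq_some (p := p) (a := a)).2 (hinj ha)
      simp [hp] at this
  let f : Quotient (MulAction.orbitRel SLn (X F n × X F n)) → Option Fˣ :=
    Quotient.lift ratio (fun p q hpq => by
      obtain ⟨g, rfl⟩ := hpq
      exact hinv g q)
  have hf : Function.Bijective f := by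
    refine ⟨?_, ?_⟩
    · rintro ⟨p⟩ ⟨q⟩ h
      change ratio p = ratio q at h
      refine Quotient.sound ?_
      cases hp : ratio p with
      | none =>
        obtain ⟨g, hg⟩ := GL.exists_SL_of_linearIndependent (ratio_eq_none.1 (h.symm.trans hp)) (ratio_eq_none.1 hp) (by simp; omega)
        exact ⟨g, Prod.ext (Subtype.ext ((coe_smul_SL g q.1).trans (hg 0))) (Subtype.ext ((coe_smul_SL g q.2).trans (hg 1)))⟩
      | some a =>
        obtain ⟨g, hg⟩ := GL.exists_SL_mulVec_eq (F := F) (by simp; omega) q.1.2 p.1.2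
        refine ⟨g, Prod.ext (Subtype.ext ((coe_smul_SL g q.1).trans hg)) (Subtype.ext ?_)⟩
        refine (coe_smul_SL g q.2).trans ?_
        rw [ratio_eq_some.1 (h.symm.trans hp), Matrix.mulVec_smul, hg, ← ratio_eq_some.1 hp]
    · intro o
      have he : ∀ i : Fin n, (Pi.single i 1 : Fin n → F) ≠ 0 := fun i => by simp
      cases o with
      | some a =>
        exact ⟨Quotient.mk'' (⟨_, he ⟨0, by omega⟩⟩, ⟨(a : F) • Pi.single (⟨0, by omega⟩ : Fin n) (1 : F),
          smul_ne_zero a.ne_zero (he _)⟩), ratio_eq_some.2 rfl⟩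
      | none =>
        refine ⟨Quotient.mk'' (⟨_, he ⟨0, by omega⟩⟩, ⟨_, he ⟨1, by omega⟩⟩), ratio_eq_none.2 ?_⟩
        rw [linearIndependent_fin2]
        refine ⟨he _, fun a ha => ?_⟩
        have := congrFun ha (⟨0, by omega⟩ : Fin n)
        simp [Pi.single_apply, Fin.ext_iff] at this
  rw [Nat.card_eq_of_bijective f hf, Nat.card_eq_fintype_card, Fintype.card_option, Fintype.card_units,
    Nat.sub_add_cancel Fintype.card_pos]

/-- Let F be a finite field with q elements and n ≥ 3. The permutation character of SL_n(F) on the non-zero vectors of F^n (the function sending a matrix to the number of non-zero vectors it fixes) is the sum of the principal character and q − 1 pairwise distinct irreducible complex characters. -/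
theorem result {F : Type*} [Field F] [Fintype F] [DecidableEq F] (n : ℕ) (hn : 3 ≤ n) :
    ∃ χ : Fin (Fintype.card F - 1) → (Matrix.SpecialLinearGroup (Fin n) F → ℂ),
      (∀ i, Cfsg.IsIrrCharacter (Matrix.SpecialLinearGroup (Fin n) F) (χ i)) ∧ Function.Injective χ ∧
      ∀ g : Matrix.SpecialLinearGroup (Fin n) F,
        (Nat.card {v : Fin n → F // v ≠ 0 ∧ (g : Matrix (Fin n) (Fin n) F).mulVec v = v} : ℂ) = 1 + ∑ i, χ i g := by
  classical
  let G := Matrix.SpecialLinearGroup (Fin n) F
  let π : G × Fˣ → ℂ := fun x => (Nat.card (MulAction.fixedBy (X F n) x) : ℂ)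
  let π₁ : G → ℂ := fun g => (Nat.card (MulAction.fixedBy (X F n) g) : ℂ)
  have hπ : IsCharacter (G × Fˣ) π := isCharacter_fixedBy _
  have hq : (Fintype.card Fˣ : ℂ) ≠ 0 := Nat.cast_ne_zero.2 Fintype.card_ne_zero
  haveI : Nonempty (X F n) := ⟨⟨Pi.single ⟨0, by omega⟩ 1, by simp⟩⟩
  let piece : IrrCharacter Fˣ → G → ℂ := fun l g => (Fintype.card Fˣ : ℂ)⁻¹ * ∑ a : Fˣ, π (g, a) * conj (l.1 a)
  have hrecip : ∀ (l : IrrCharacter Fˣ) (ψ : G → ℂ),
      classInner (piece l) ψ = classInner π (fun x : G × Fˣ => ψ x.1 * l.1 x.2) := by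
    intro l ψ
    simp only [piece, classInner, Fintype.sum_prod_type, map_mul,
      Finset.mul_sum, Finset.sum_mul, Nat.card_eq_fintype_card, Fintype.card_prod, Nat.cast_mul, mul_inv]
    refine Finset.sum_congr rfl fun g _ => Finset.sum_congr rfl fun a _ => ?_
    ring
  have hchar : ∀ (l : IrrCharacter Fˣ) (ψ : G → ℂ), IsCharacter G ψ →
      IsCharacter (G × Fˣ) (fun x : G × Fˣ => ψ x.1 * l.1 x.2) := fun l ψ hψ =>
    IsCharacter.mul (IsCharacter.comp hψ (MonoidHom.fst G Fˣ)) (IsCharacter.comp (irr_isCharacter l) (MonoidHom.snd G Fˣ))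
  have hpiece : ∀ l, IsCharacter G (piece l) := by
    intro l
    refine isCharacter_iff.2 ⟨fun g h => ?_, fun ψ => ?_⟩
    · simp only [piece]
      congr 1
      refine Finset.sum_congr rfl fun a _ => ?_
      congr 1
      have h1 := IsCharacter.isClassFunction hπ (g, a) (h, 1)
      simpa using h1
    · rw [hrecip]
      exact IsCharacter.exists_nat_classInner hπ (hchar l ψ.1 (irr_isCharacter ψ))
  -- the trivial character occurs once, in the piece of the trivial character
  let l₀ : IrrCharacter Fˣ := ⟨fun _ => 1, isIrrCharacter_one⟩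
  have hH : MulAction.IsPretransitive G (X F n) := ⟨fun v w => by
    obtain ⟨g, hg⟩ := GL.exists_SL_mulVec_eq (F := F) (by simp; omega) v.2 w.2
    exact ⟨g, Subtype.ext ((coe_smul_SL g v).trans hg)⟩⟩
  have hone : classInner (piece l₀) (fun _ => 1) = 1 := by
    rw [hrecip]
    simp only [l₀, mul_one]
    rw [classInner_fixedBy_one]
    have hsub : Subsingleton (Quotient (MulAction.orbitRel (G × Fˣ) (X F n))) := ⟨fun a b => by
      induction a using Quotient.ind with | _ v => induction b using Quotient.ind with | _ w =>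
      obtain ⟨g, hg⟩ := hH.exists_smul_eq w v
      exact Quotient.sound ⟨((g, 1) : G × Fˣ), hg⟩⟩
    rw [Nat.card_of_subsingleton (Quotient.mk'' (Classical.arbitrary (X F n))), Nat.cast_one]
  have hdeg : ∀ l, piece l 1 = (Fintype.card Fˣ : ℂ)⁻¹ * (Fintype.card (X F n)) := by
    intro l
    have hl1 : l.1 1 = 1 := apply_one_of_comm (fun a b : Fˣ => mul_comm a b) l
    simp only [piece]
    rw [Finset.sum_eq_single (1 : Fˣ)]
    · have : MulAction.fixedBy (X F n) ((1 : G), (1 : Fˣ)) = Set.univ :=
        Set.eq_univ_of_forall fun v => one_smul (G × Fˣ) v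
      simp only [π, this, hl1, map_one, mul_one, Nat.card_eq_fintype_card, Fintype.card_setUniv]
    · intro a _ ha
      have : MulAction.fixedBy (X F n) ((1 : G), a) = ∅ := by
        refine Set.eq_empty_of_forall_notMem fun v hv => ha (Units.ext ?_)
        have h1 : (a : F) • Matrix.mulVec ((1 : G) : Matrix (Fin n) (Fin n) F) v.1 = (1 : F) • v.1 := by
          rw [one_smul]; exact congrArg Subtype.val hv
        rw [Matrix.SpecialLinearGroup.coe_one, Matrix.one_mulVec] at h1
        exact smul_left_injective F v.2 h1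
      simp only [π, this]
      simp
    · simp
  have hXne : (Fintype.card (X F n) : ℂ) ≠ 0 := Nat.cast_ne_zero.2 Fintype.card_ne_zero
  -- the constituents
  let χ : Option (IrrCharacter Fˣ) → G → ℂ := fun o => o.elim (fun _ => 1) (fun l => if l = l₀ then piece l - (fun _ => 1) else piece l)
  have hχc : ∀ o, IsCharacter G (χ o) := by
    intro o
    cases o with
    | none => exact isCharacter_one
    | some l =>
      simp only [χ, Option.elim]
      split_ifs with h
      · subst h
        refine isCharacter_iff.2 ⟨fun g h => ?_, fun ψ => ?_⟩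
        · simp only [Pi.sub_apply, IsCharacter.isClassFunction (hpiece l₀) g h]
        · obtain ⟨k, hk⟩ := IsCharacter.exists_nat_classInner (hpiece l₀) (irr_isCharacter ψ)
          rw [classInner_sub_left]
          by_cases hψ : ψ = ⟨fun _ => 1, isIrrCharacter_one⟩
          · subst hψ
            exact ⟨0, by rw [hone, classInner_irr_self isIrrCharacter_one, sub_self, Nat.cast_zero]⟩
          · exact ⟨k, by rw [hk, classInner_irr_of_ne isIrrCharacter_one ψ.2 (fun h => hψ (Subtype.ext h.symm)), sub_zero]⟩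
      · exact hpiece l
  have hsum : ∀ g, ∑ o, χ o g = π₁ g := by
    intro g
    rw [Fintype.sum_option]
    have hs : ∑ l, χ (some l) g = ∑ l, piece l g - 1 := by
      simp only [χ, Option.elim]
      rw [Finset.sum_eq_add_sum_sdiff_singleton_of_mem (Finset.mem_univ l₀),
        Finset.sum_eq_add_sum_sdiff_singleton_of_mem (Finset.mem_univ l₀) (fun l => piece l g)]
      rw [if_pos rfl, Pi.sub_apply, Finset.sum_congr rfl fun l hl => by rw [if_neg (by simpa using hl)]]
      ring
    rw [hs]
    simp only [χ, Option.elim, add_sub_cancel]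
    simp only [piece]
    rw [← Finset.mul_sum, Finset.sum_comm]
    have hcol : ∀ a : Fˣ, ∑ l : IrrCharacter Fˣ, conj (l.1 a) = if a = 1 then (Fintype.card Fˣ : ℂ) else 0 := by
      intro a
      have h1 : ∀ l : IrrCharacter Fˣ, l.1 1 = 1 := fun l => apply_one_of_comm (fun a b : Fˣ => mul_comm a b) l
      have h2 := sum_irr_degree_mul (G := Fˣ) a
      simp only [h1, one_mul] at h2
      rw [← map_sum, h2]
      split_ifs <;> simp [Nat.card_eq_fintype_card]
    simp only [← Finset.mul_sum, hcol]
    simp only [mul_ite, mul_zero, Finset.sum_ite_eq', Finset.mem_univ, if_true]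
    rw [mul_left_comm, inv_mul_cancel₀ hq, mul_one]
    rfl
  have hcardirr : Fintype.card (IrrCharacter Fˣ) = Fintype.card F - 1 := by
    rw [← Fintype.card_units, ← Nat.card_eq_fintype_card, card_irr, ← Nat.card_eq_fintype_card]
    exact Nat.card_congr (ConjClasses.mkEquiv (α := Fˣ)).symm
  have hnorm : classInner (∑ o, χ o) (∑ o, χ o) = Fintype.card (Option (IrrCharacter Fˣ)) := by
    rw [show (∑ o, χ o) = π₁ from funext fun g => by rw [Finset.sum_apply]; exact hsum g,
      classInner_fixedBy_self, card_orbits_pairs hn, Fintype.card_option, hcardirr,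
      Nat.sub_add_cancel Fintype.card_pos]
  have hne : ∀ o, χ o 1 ≠ 0 := by
    intro o
    cases o with
    | none => simp [χ]
    | some l =>
      simp only [χ, Option.elim]
      split_ifs with h
      · simp only [Pi.sub_apply, hdeg]
        intro h0
        have h1 : (Fintype.card (X F n) : ℂ) = Fintype.card Fˣ := by
          rw [sub_eq_zero, inv_mul_eq_one₀ hq] at h0
          exact h0.symm
        have h2 : Fintype.card (X F n) = Fintype.card Fˣ := Nat.cast_injective h1
        rw [Fintype.card_units, Fintype.card_subtype_compl, Fintype.card_fun, Fintype.card_fin] at h2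
        simp only [Fintype.card_unique] at h2
        have hq2 : 1 < Fintype.card F := Fintype.one_lt_card
        have : Fintype.card F ^ 1 < Fintype.card F ^ n := Nat.pow_lt_pow_right hq2 (by omega)
        rw [pow_one] at this
        omega
      · rw [hdeg]
        exact mul_ne_zero (inv_ne_zero hq) hXne
  obtain ⟨hirr, hinj⟩ := irr_of_norm_eq_card χ hχc hne hnorm
  let e : Fin (Fintype.card F - 1) ≃ IrrCharacter Fˣ := (Fintype.equivFinOfCardEq hcardirr).symm
  refine ⟨fun i => χ (some (e i)), fun i => hirr _, fun i j h => e.injective (Option.some.inj (hinj h)), fun g => ?_⟩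
  rw [Equiv.sum_comp e (fun l => χ (some l) g)]
  have h1 := hsum g
  rw [Fintype.sum_option] at h1
  change 1 + ∑ l, χ (some l) g = π₁ g at h1
  rw [h1]
  simp only [π₁]
  congr 1
  exact Nat.card_congr
    { toFun := fun v => ⟨⟨v.1, v.2.1⟩, Subtype.ext ((coe_smul_SL g _).trans v.2.2)⟩
      invFun := fun v => ⟨v.1.1, v.1.2, (coe_smul_SL g v.1).symm.trans (congrArg Subtype.val v.2)⟩
      left_inv := fun _ => rfl
      right_inv := fun _ => rfl }

end Cfsg.Agent.S2336
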