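import Cfsg.Statements.S2337
import Cfsg.Agent.Lib.Sz.MinDegree
import Cfsg.Agent.Lib.Sz.Lie

set_option autoImplicit false
open Cfsg

namespace Cfsg.Agent.S2337

/-- For the Suzuki group Sz(q), q = 2^(2m+1) with m ≥ 1 (realised inside Sp₄ over the field with q elements), every irreducible complex representation of degree at least 2 has degree at least 2^m·(q − 1). -/
theorem result {F : Type*} [Field F] [Fintype F] (m : ℕ) (hm : 1 ≤ m) (hF : Fintype.card F = 2 ^ (2 * m + 1)) :
    (∀ (k : ℕ) (ρ : Representation ℂ (Cfsg.Lie.Sz F (2 ^ (m + 1))) (Fin k → ℂ)), ρ.IsIrreducible → 2 ≤ k → 2 ^ m * (2 ^ (2 * m + 1) - 1) ≤ k) := by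
  intro k ρ hirr hk
  let e := SZ.szEquiv hm hF
  have hfin : Module.finrank ℂ (Fin k → ℂ) = k := Module.finrank_fin_fun ℂ
  rw [← hfin]
  refine SZ.finrank_ge hm hF (ρ.comp e.toMonoidHom) ?_
  by_contra hall
  push Not at hall
  have htriv : ∀ g, ρ g = 1 := fun g => by
    simpa [e] using hall (e.symm g)
  let i : Fin k := ⟨0, by omega⟩
  let j : Fin k := ⟨1, by omega⟩
  let S : Subrepresentation ρ :=
    ⟨Submodule.span ℂ {Pi.single i (1 : ℂ)}, fun g v hv => by simpa [htriv g] using hv⟩
  haveI := hirr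
  rcases IsSimpleOrder.eq_bot_or_eq_top S with h | h
  · have hmem : Pi.single i (1 : ℂ) ∈ S.toSubmodule := Submodule.subset_span rfl
    rw [h] at hmem
    have : (Pi.single i (1 : ℂ) : Fin k → ℂ) = 0 := hmem
    simpa using congrFun this i
  · have hmem : Pi.single j (1 : ℂ) ∈ S.toSubmodule := by
      rw [h]; trivial
    obtain ⟨a, ha⟩ := Submodule.mem_span_singleton.1 hmem
    have := congrFun ha j
    simp [i, j, Pi.single_apply] at this

end Cfsg.Agent.S2337
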