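import Cfsg.Statements.S2338
import Cfsg.Agent.Lib.MinDegree.G2MinDegree
import Cfsg.Agent.Lib.MinDegree.SLPoint

set_option autoImplicit false
open Cfsg

namespace Cfsg.Agent.S2338

/-- Lower bounds for the degrees of non-linear irreducible complex representations of the Chevalley group of type G₂ over a finite field with q elements: the degree is at least q³ + 1 when q ≡ 1 (mod 3) and q > 4, at least q³ − 1 when q ≡ 2 (mod 3) and q > 2, and at least q⁴ + q² + 1 when q ≡ 0 (mod 3) and q > 3. -/
theorem result {F : Type*} [Field F] [Fintype F] (k : ℕ) (ρ : Representation ℂ (Cfsg.Lie.chevG2.group F) (Fin k → ℂ)) (hρ : ρ.IsIrreducible) (hk : 2 ≤ k) :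
    (Fintype.card F % 3 = 1 → 4 < Fintype.card F → Fintype.card F ^ 3 + 1 ≤ k) ∧
    (Fintype.card F % 3 = 2 → 2 < Fintype.card F → Fintype.card F ^ 3 - 1 ≤ k) ∧
    (Fintype.card F % 3 = 0 → 3 < Fintype.card F → Fintype.card F ^ 4 + Fintype.card F ^ 2 + 1 ≤ k) := by
  have hne : ∃ g, ρ g ≠ 1 := by
    by_contra hall
    push Not at hall
    have hI := Cfsg.Agent.MinDegree.irred_of_isIrreducible hρ
    let v : Fin k → ℂ := Pi.single ⟨0, by omega⟩ 1
    have hv : v ≠ 0 := fun h => one_ne_zero (α := ℂ) (by simpa [v] using congrFun h ⟨0, by omega⟩)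
    rcases hI (ℂ ∙ v) (fun g y hy => by rw [hall g]; exact hy) with e | e
    · exact hv (Submodule.span_singleton_eq_bot.1 e)
    · have := finrank_span_singleton (K := ℂ) hv
      rw [e, finrank_top, Module.finrank_fin_fun] at this
      omega
  have h := Cfsg.Agent.MinDegree.G2.min_degree ρ hρ hne
  rwa [Module.finrank_fin_fun] at h

end Cfsg.Agent.S2338
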