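import Cfsg.Statements.S2340
import Cfsg.Agent.Lib.MinDegree.ExcE6Degree

set_option autoImplicit false
open Cfsg

namespace Cfsg.Agent.S2340

/-- For the Chevalley group of type E₆ over a finite field with q elements (the group generated by the root elements), every irreducible complex representation of degree at least 2 has degree at least q(q⁶ + q³ + 1)(q⁴ + 1). -/
theorem result {F : Type*} [Field F] [Fintype F] :
    (∀ (k : ℕ) (ρ : Representation ℂ (Cfsg.Lie.chevE6.group F) (Fin k → ℂ)), ρ.IsIrreducible → 2 ≤ k → Fintype.card F * (Fintype.card F ^ 6 + Fintype.card F ^ 3 + 1) * (Fintype.card F ^ 4 + 1) ≤ k) := by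
  intro k ρ hρ hk
  have hne : ∃ g, ρ g ≠ 1 := by
    by_contra hall
    push Not at hall
    let v : Fin k → ℂ := Pi.single ⟨0, by omega⟩ 1
    have hv : v ≠ 0 := fun h => one_ne_zero (α := ℂ) (by simpa [v] using congrFun h ⟨0, by omega⟩)
    let S : Subrepresentation ρ := ⟨ℂ ∙ v, fun g y hy => by rw [hall g]; exact hy⟩
    rcases eq_bot_or_eq_top S with e | e
    · refine hv ?_
      have hm : v ∈ S := Submodule.mem_span_singleton_self v
      rw [e] at hm
      exact (Submodule.mem_bot ℂ).1 hm
    · have h1 : (ℂ ∙ v) = ⊤ := congrArg Subrepresentation.toSubmodule e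
      have := finrank_span_singleton (K := ℂ) hv
      rw [h1, finrank_top, Module.finrank_fin_fun] at this
      omega
  have h := Cfsg.Agent.MinDegree.Exc.E6.degree_bound ρ hne
  rwa [Module.finrank_fin_fun] at h

end Cfsg.Agent.S2340
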