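import Cfsg.Statements.S2341
import Cfsg.Agent.Lib.MinDegree.TwoE6.Main
import Cfsg.Agent.Lib.MinDegree.TwoE6.Arith
import Cfsg.Agent.Lib.Chev.TwistSimpleE6
import Cfsg.Agent.Lib.Chev.TwistOrderE6
import Cfsg.Agent.Lib.CharInt.Central

set_option autoImplicit false
open Cfsg

namespace Cfsg.Agent.S2341

open Cfsg.Lie Cfsg.Agent.Chev Cfsg.Agent.Chev.BNSetup Cfsg.Agent.MinDegree Cfsg.Agent.MinDegree.TwoE6 Module

theorem degree_of_twist {K : Type*} [Field K] [Fintype K] {q : ℕ} (hq : IsPrimePow q)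
    (hK : Fintype.card K = q ^ 2) {φ : K ≃+* K} (hφ : ∀ x, φ x = x ^ q) (hinv : ∀ x, φ (φ x) = x)
    (hcard : Nat.card {x : K // φ x = x} = q) {H : Subgroup (GL chevE6.Idx K)} (hH : H = GT φ)
    {k : ℕ} (ρ : Representation ℂ ↥H (Fin k → ℂ)) (hirr : ρ.IsIrreducible) (hk : 2 ≤ k) :
    q * (q ^ 6 - q ^ 3 + 1) * (q ^ 4 + 1) ≤ k := by
  classical
  subst hH
  have hq2 := hq.two_le
  have hkc : Nat.card (kfix φ) = q := by
    rw [← hcard]
    exact Nat.card_congr (Equiv.subtypeEquivRight fun x => mem_kfix φ)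
  have hmove : ∃ x, φ x ≠ x := by
    by_contra hc
    push Not at hc
    rw [Nat.card_congr (Equiv.subtypeUnivEquiv hc), Nat.card_eq_fintype_card, hK] at hcard
    have : q ^ 1 < q ^ 2 := Nat.pow_lt_pow_right (by omega) (by omega)
    rw [pow_one] at this
    omega
  have hI := irred_of_isIrreducible hirr
  have hker : ρ ⟨X 71 1, z_mem_iff.2 (map_one φ)⟩ ≠ 1 := by
    intro h1
    have hs := (isSimpleGroup_twistedE6 hq hK hinv).1
    rcases hs.eq_bot_or_eq_top_of_normal (MonoidHom.ker ρ) inferInstance with h | h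
    · have hm : (⟨X 71 1, z_mem_iff.2 (map_one φ)⟩ : ↥(GT φ)) ∈ MonoidHom.ker ρ := h1
      rw [h, Subgroup.mem_bot] at hm
      have h2 : X (K := K) 71 1 = X 71 0 :=
        (congrArg Subtype.val hm).trans (X_zero (show 71 < 72 by norm_num)).symm
      exact one_ne_zero (X_inj (show 71 < 72 by norm_num) h2)
    · have hone : ∀ g, ρ g = 1 := fun g =>
        MonoidHom.mem_ker.1 (show g ∈ MonoidHom.ker ρ by rw [h]; exact Subgroup.mem_top g)
      let v : Fin k → ℂ := Pi.single ⟨0, by omega⟩ 1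
      rcases hI (Submodule.span ℂ {v}) (fun g y hy => by rw [hone, Module.End.one_apply]; exact hy) with e | e
      · have := congrFun (Submodule.span_singleton_eq_bot.1 e) ⟨0, by omega⟩
        simp [v] at this
      · have h3 := congrArg (fun U : Submodule ℂ (Fin k → ℂ) => finrank ℂ U) e
        simp only [finrank_top, finrank_fin_fun] at h3
        have h4 := finrank_span_le_card (R := ℂ) ({v} : Set (Fin k → ℂ))
        simp at h4
        omega
  have hd := degree_ge hinv hmove ρ hkc hK hI hker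
  rw [finrank_fin_fun] at hd
  refine degree_step hq2 hd ?_
  have hdvd := CharInt.finrank_dvd_natCard (ρ := ρ)
  rw [finrank_fin_fun] at hdvd
  refine hdvd.trans ?_
  have hc := card_twistedE6 (by omega) hK hφ hinv hcard
  rw [mul_assoc, poly_twLevelsE6 q (by omega)] at hc
  exact Dvd.intro_left _ hc


/-- For the twisted group ²E₆(q), realised over the field with q² elements (q a prime power), every irreducible complex representation of degree at least 2 has degree at least q(q⁶ − q³ + 1)(q⁴ + 1). -/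
theorem result {K : Type*} [Field K] [Fintype K] (q : ℕ) (hq : IsPrimePow q) (hK : Fintype.card K = q ^ 2) :
    (∀ (k : ℕ) (ρ : Representation ℂ (Cfsg.Lie.twistedE6 K q) (Fin k → ℂ)), ρ.IsIrreducible → 2 ≤ k → q * (q ^ 6 - q ^ 3 + 1) * (q ^ 4 + 1) ≤ k) := by
  intro k ρ hρ hk
  obtain ⟨φ, hφ, hG, hinv, hcard⟩ := Chev.BNSetup.exists_frob2 hq hK
  exact degree_of_twist hq hK hφ hinv hcard hG.symm ρ hρ hk

end Cfsg.Agent.S2341
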