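import Cfsg.Statements.S2342
import Cfsg.Agent.Lib.MinDegree.ThreeD4MinDegree
import Cfsg.Agent.Lib.MinDegree.SLPoint

set_option autoImplicit false
open Cfsg

namespace Cfsg.Agent.S2342

/-- For the twisted group ³D₄(q), realised over the field with q³ elements (q a prime power), every irreducible complex representation of degree at least 2 has degree at least q(q⁴ − q² + 1). -/
theorem result {K : Type*} [Field K] [Fintype K] (q : ℕ) (hq : IsPrimePow q) (hK : Fintype.card K = q ^ 3) :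
    (∀ (k : ℕ) (ρ : Representation ℂ (Cfsg.Lie.twistedD4 K q) (Fin k → ℂ)), ρ.IsIrreducible → 2 ≤ k → q * (q ^ 4 - q ^ 2 + 1) ≤ k) := by
  obtain ⟨φ, -, hGt, hcube, hcard⟩ := Cfsg.Agent.Chev.BNSetup.exists_frob3 hq hK
  rw [← hGt]
  intro k ρ hρ hk
  have hne : ∃ g, ρ g ≠ 1 := by
    by_contra hall
    push Not at hall
    have hI := Cfsg.Agent.MinDegree.irred_of_isIrreducible hρ
    let v : Fin k → ℂ := Pi.single ⟨0, by omega⟩ 1
    have hv : v ≠ 0 := fun h => one_ne_zero (α := ℂ) (by simpa [v] using congrFun h ⟨0, by omega⟩)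
    rcases hI (ℂ ∙ v) (fun g y hy => by rw [hall g]; exact hy) with e | e
    · exact hv (Submodule.span_singleton_eq_bot.1 e)
    · have := finrank_span_singleton (K := ℂ) hv
      rw [e, finrank_top, Module.finrank_fin_fun] at this
      omega
  have hb := Cfsg.Agent.MinDegree.ThreeD4.degree_bound hq hK hcube hcard ρ hne
  have : Finite ↥(Cfsg.Agent.Chev.BNSetup.tw3D4 φ).Gt := inferInstance
  have hdvd := Cfsg.Agent.CharInt.finrank_dvd_natCard (ρ := ρ)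
  rw [Module.finrank_fin_fun] at hb hdvd
  by_contra hlt
  push Not at hlt
  have hq2 := hq.two_le
  obtain ⟨r, rfl⟩ : ∃ r, q = r + 2 := ⟨q - 2, by omega⟩
  set n := r + 2 with hn
  have hsub : n ^ 4 - n ^ 2 + 1 = n ^ 4 + 1 - n ^ 2 := by
    have : n ^ 2 ≤ n ^ 4 := Nat.pow_le_pow_right (by omega) (by norm_num)
    omega
  have hkeq : k = (n - 1) * (n ^ 4 + n ^ 3 + 1) := by
    have h1 : n ^ 2 ≤ n ^ 4 + 1 := (Nat.pow_le_pow_right (by omega) (by norm_num)).trans (Nat.le_succ _)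
    rw [hsub] at hlt
    zify [show 1 ≤ n by omega, h1] at hb hlt ⊢
    nlinarith
  rw [Cfsg.Agent.Chev.BNSetup.card_twistedD4 hK hcube hcard,
    Cfsg.Agent.Chev.BNSetup.poly_twLevelsD4, hkeq] at hdvd
  rw [show n ^ 12 * ((n - 1) * (n ^ 3 - 1)) * ((n + 1) * ((n ^ 3 + 1) * (n ^ 8 + n ^ 4 + 1))) =
    (n - 1) * (n ^ 12 * ((n ^ 3 - 1) * (n ^ 3 + 1) * ((n + 1) * (n ^ 8 + n ^ 4 + 1)))) by ring] at hdvd
  have h2 := Nat.dvd_of_mul_dvd_mul_left (show 0 < n - 1 by omega) hdvd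
  have hcop : Nat.Coprime (n ^ 4 + n ^ 3 + 1) (n ^ 12) := by
    refine Nat.Coprime.pow_right 12 ?_
    rw [show n ^ 4 + n ^ 3 + 1 = 1 + n * (n ^ 3 + n ^ 2) by ring, Nat.coprime_add_mul_left_left]
    exact Nat.coprime_one_left n
  have h3 := hcop.dvd_of_dvd_mul_left h2
  have e : ((n : ℤ) ^ 3 - 1) * ((n : ℤ) ^ 3 + 1) * (((n : ℤ) + 1) * ((n : ℤ) ^ 8 + (n : ℤ) ^ 4 + 1)) =
      ((n : ℤ) ^ 4 + (n : ℤ) ^ 3 + 1) * ((n : ℤ) ^ 11 + (n : ℤ) ^ 6 - 2 * (n : ℤ) ^ 5 + (n : ℤ) ^ 4 + n - 3) +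
        (3 * (n : ℤ) ^ 3 - 2 * n + 2) := by ring
  have h4 := Int.natCast_dvd_natCast.2 h3
  have h5 : 1 ≤ n ^ 3 := Nat.one_le_pow 3 n (by omega)
  push_cast [h5] at h4
  rw [e, Int.dvd_add_right (dvd_mul_right _ _)] at h4
  have hnz : (2 : ℤ) ≤ n := by exact_mod_cast (show 2 ≤ n by omega)
  have m2 : (4 : ℤ) ≤ (n : ℤ) ^ 2 := by nlinarith
  have m3 : 4 * (n : ℤ) ≤ (n : ℤ) ^ 3 := by nlinarith
  have m4 : 2 * (n : ℤ) ^ 3 ≤ (n : ℤ) ^ 4 := by nlinarith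
  have hpos : 0 < 3 * (n : ℤ) ^ 3 - 2 * n + 2 := by linarith
  have hle := Int.le_of_dvd hpos h4
  linarith

end Cfsg.Agent.S2342
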