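import Cfsg.Statements.S2343
import Cfsg.Agent.Lib.Twisted.Ree.Mult
import Cfsg.Agent.Lib.MinDegree.AbelianEigen
-- import your own Cfsg.Agent.* helpers here

set_option autoImplicit false
open Cfsg

namespace Cfsg.Agent.S2343


section Linear

open Module LinearMap

/-- An involution of determinant one and trace zero lives in dimension divisible by four. -/
theorem four_dvd_finrank {V : Type*} [AddCommGroup V] [Module ℂ V] [FiniteDimensional ℂ V]
    (E : Module.End ℂ V) (h2 : E * E = 1) (ht : LinearMap.trace ℂ V E = 0)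
    (hd : LinearMap.det E = 1) : 4 ∣ finrank ℂ V := by
  set P : Module.End ℂ V := (2 : ℂ)⁻¹ • (1 + E) with hP
  have hPP : P * P = P := by
    rw [hP, smul_mul_smul_comm, mul_add, add_mul, add_mul, one_mul, mul_one, one_mul, h2]
    module
  have hproj : IsProj (LinearMap.range P) P :=
    ⟨fun x => LinearMap.mem_range_self P x, fun x ⟨y, hy⟩ => by
      rw [← hy, ← Module.End.mul_apply, hPP]⟩
  set e := (LinearMap.range P).prodEquivOfIsCompl (LinearMap.ker P) hproj.isCompl with he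
  have hsum : finrank ℂ (LinearMap.range P) + finrank ℂ (LinearMap.ker P) = finrank ℂ V :=
    LinearMap.finrank_range_add_finrank_ker P
  have htr : (finrank ℂ (LinearMap.range P) : ℂ) = (finrank ℂ V : ℂ) / 2 := by
    rw [← hproj.trace, hP, map_smul, map_add, ht, LinearMap.trace_one, add_zero, smul_eq_mul]
    ring
  have hE : E = e.conj (prodMap LinearMap.id (-LinearMap.id)) := by
    have h1 : E = (2 : ℂ) • P - 1 := by rw [hP]; module
    have h3 : e.conj (1 : Module.End ℂ (LinearMap.range P × LinearMap.ker P)) = 1 := e.conj_id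
    have h4 : P = e.conj (prodMap LinearMap.id 0) := hproj.eq_conj_prodMap
    rw [h1]
    conv_lhs => rw [h4, ← h3, ← map_smul, ← map_sub]
    congr 1
    apply LinearMap.ext
    rintro ⟨x, y⟩
    refine Prod.ext ?_ ?_ <;> simp [prodMap_apply, two_smul]
  have hdet : ((-1 : ℂ)) ^ finrank ℂ (LinearMap.ker P) = 1 := by
    have hd2 : LinearMap.det (-LinearMap.id : LinearMap.ker P →ₗ[ℂ] LinearMap.ker P) =
        (-1 : ℂ) ^ finrank ℂ (LinearMap.ker P) := by
      rw [← neg_one_smul ℂ (LinearMap.id : LinearMap.ker P →ₗ[ℂ] LinearMap.ker P),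
        LinearMap.det_smul, LinearMap.det_id, mul_one]
    refine Eq.trans ?_ hd
    rw [hE, LinearEquiv.conj_apply, LinearMap.comp_assoc, LinearMap.det_conj,
      LinearMap.det_prodMap, LinearMap.det_id, one_mul, hd2]
  have hev := (neg_one_pow_eq_one_iff_even (by norm_num : (-1 : ℂ) ≠ 1)).1 hdet
  have hr : 2 * finrank ℂ (LinearMap.range P) = finrank ℂ V := by
    have : ((2 * finrank ℂ (LinearMap.range P) : ℕ) : ℂ) = (finrank ℂ V : ℂ) := by
      push_cast
      rw [htr]
      ring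
    exact_mod_cast this
  obtain ⟨j, hj⟩ := hev
  exact ⟨j, by omega⟩

variable {A : Type*} [AddCommGroup A] [Fintype A] {W : Type*} [AddCommGroup W] [Module ℂ W]

open MinDegree (IsOp eigen proj mem_eigen proj_mem_eigen sum_proj)

theorem proj_proj {op : A → W →ₗ[ℂ] W} (h : IsOp op) (χ ψ : AddChar A ℂ) :
    proj op ψ * proj op χ = (∑ a, ψ (-a) * χ a) • proj op χ := by
  apply LinearMap.ext
  intro x
  rw [Module.End.mul_apply, MinDegree.proj_apply]
  simp only [mem_eigen.1 (proj_mem_eigen h χ x), smul_smul, Finset.sum_smul, LinearMap.sum_apply,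
    LinearMap.smul_apply]

theorem proj_proj_self {op : A → W →ₗ[ℂ] W} (h : IsOp op) (χ : AddChar A ℂ) :
    proj op χ * proj op χ = (Fintype.card A : ℂ) • proj op χ := by
  rw [proj_proj h]
  congr 1
  simp [← AddChar.map_add_eq_mul]

theorem proj_proj_ne {op : A → W →ₗ[ℂ] W} (h : IsOp op) {χ ψ : AddChar A ℂ} (hne : χ ≠ ψ) :
    proj op ψ * proj op χ = 0 := by
  rw [proj_proj h]
  have hd : χ * ψ⁻¹ ≠ 1 := fun e => hne (mul_inv_eq_one.1 e)
  rw [Finset.sum_congr rfl fun a _ => show ψ (-a) * χ a = (χ * ψ⁻¹) a by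
    rw [AddChar.mul_apply, AddChar.inv_apply]; ring, AddChar.sum_eq_zero_of_ne_one hd, zero_smul]

/-- An operator permuting the eigenspaces without fixing any non-zero one has trace zero. -/
theorem trace_eq_zero [FiniteDimensional ℂ W] {op : A → W →ₗ[ℂ] W} (h : IsOp op)
    (H : Module.End ℂ W) (π : AddChar A ℂ → AddChar A ℂ)
    (hH : ∀ χ, H * proj op χ = proj op (π χ) * H)
    (hfix : ∀ χ, π χ = χ → proj op χ = 0) : LinearMap.trace ℂ W H = 0 := by
  have hq : (Fintype.card A : ℂ) ≠ 0 := Nat.cast_ne_zero.2 Fintype.card_ne_zero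
  have hz : ∀ χ, LinearMap.trace ℂ W (H * proj op χ) = 0 := by
    intro χ
    by_cases e : π χ = χ
    · rw [hfix χ e, mul_zero, map_zero]
    have h1 : LinearMap.trace ℂ W (H * proj op χ * proj op χ) = 0 := by
      rw [LinearMap.trace_mul_comm, hH χ, ← mul_assoc, proj_proj_ne h e, zero_mul, map_zero]
    rw [mul_assoc, proj_proj_self h, mul_smul_comm, map_smul, smul_eq_mul] at h1
    exact (mul_eq_zero.1 h1).resolve_left hq
  have hs : ∑ χ : AddChar A ℂ, proj op χ = (Fintype.card A : ℂ) • (1 : Module.End ℂ W) :=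
    LinearMap.ext fun x => by
      rw [LinearMap.sum_apply, sum_proj h x, LinearMap.smul_apply, Module.End.one_apply]
  have := congrArg (fun T => LinearMap.trace ℂ W (H * T)) hs
  simp only [Finset.mul_sum, map_sum, hz, Finset.sum_const_zero, mul_smul_comm, mul_one,
    map_smul, smul_eq_mul] at this
  exact (mul_eq_zero.1 this.symm).resolve_left hq

theorem proj_eq_zero {op : A → W →ₗ[ℂ] W} (h : IsOp op) {χ : AddChar A ℂ}
    (hb : eigen op χ = ⊥) : proj op χ = 0 :=
  LinearMap.ext fun x => by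
    have := proj_mem_eigen h χ x
    rw [hb, Submodule.mem_bot] at this
    simpa using this

end Linear

section Ree

open Twisted.Ree MinDegree Module

variable {F : Type*} [Field F] [Fintype F] [CharP F 3] {m : ℕ}

/-- The central root elements. -/
def zE (m : ℕ) (v : F) : ↥(G1 F m) := ⟨uW m 0 0 v, uW_mem_G1 _ _ _ _⟩

/-- The middle root elements. -/
def yE (m : ℕ) (u : F) : ↥(G1 F m) := ⟨uW m 0 u 0, uW_mem_G1 _ _ _ _⟩

/-- The outer root elements. -/
def xE (m : ℕ) (t : F) : ↥(G1 F m) := ⟨uW m t 0 0, uW_mem_G1 _ _ _ _⟩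

omit [Fintype F] in
theorem uW_mul_tail (t u v u' v' : F) :
    uW m t u v * uW m 0 u' v' = uW m t (u + u') (v + v') := by
  have he : (3 ^ m : ℕ) ≠ 0 := by positivity
  have : Fact (Nat.Prime 3) := ⟨Nat.prime_three⟩
  rw [uW, uW, uW, uOf_mul]
  congr 1 <;> simp [zero_pow he, add_pow_char_pow, pow_succ] <;> ring

omit [Fintype F] in
theorem tail_mul_uW (t u v u' v' : F) :
    uW m 0 u' v' * uW m t u v = uW m t (u + u') (v + v' - t * u') := by
  have he : (3 ^ m : ℕ) ≠ 0 := by positivity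
  have : Fact (Nat.Prime 3) := ⟨Nat.prime_three⟩
  have h3 : (3 : F) = 0 := by exact_mod_cast CharP.cast_eq_zero F 3
  rw [uW, uW, uW, uOf_mul]
  congr 1 <;>
    simp [zero_pow he, add_pow_char_pow, sub_pow_char_pow, mul_pow, pow_succ] <;>
    first
      | linear_combination (t ^ 3 ^ m * u' ^ 3 ^ m) * h3
      | ring

omit [Fintype F] in
theorem zE_mul (v v' : F) : zE m v * zE m v' = zE m (v + v') :=
  Subtype.ext (by simpa [zE] using uW_mul_tail (m := m) (0 : F) 0 v 0 v')

omit [Fintype F] [CharP F 3] in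
theorem zE_zero : zE m (0 : F) = 1 := Subtype.ext (uW_zero m)

omit [Fintype F] in
theorem yE_mul (u u' : F) : yE m u * yE m u' = yE m (u + u') :=
  Subtype.ext (by simpa [yE] using uW_mul_tail (m := m) (0 : F) u 0 u' 0)

omit [Fintype F] [CharP F 3] in
theorem yE_zero : yE m (0 : F) = 1 := Subtype.ext (uW_zero m)

omit [Fintype F] in
theorem zE_yE (v u : F) : zE m v * yE m u = yE m u * zE m v :=
  Subtype.ext (by
    simp only [zE, yE, Subgroup.coe_mul]
    rw [uW_mul_tail, uW_mul_tail]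
    simp)

omit [Fintype F] in
theorem zE_xE (v t : F) : zE m v * xE m t = xE m t * zE m v :=
  Subtype.ext (by
    simp only [zE, xE, Subgroup.coe_mul]
    rw [tail_mul_uW, uW_mul_tail]
    simp)

omit [Fintype F] in
theorem yE_xE (u t : F) : yE m u * xE m t = xE m t * yE m u * zE m (-(t * u)) :=
  Subtype.ext (by
    simp only [zE, yE, xE, Subgroup.coe_mul]
    rw [tail_mul_uW, uW_mul_tail, uW_mul_tail]
    simp)

omit [Fintype F] in
theorem zE_ne_one : zE m (1 : F) ≠ 1 := fun h => by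
  rw [← zE_zero] at h
  exact one_ne_zero (uW_inj (congrArg Subtype.val h)).2.2

variable (hK : Fintype.card F = 3 ^ (2 * m + 1))
include hK

theorem torus_zE {k : GL Cfsg.Lie.chevG2.Idx F} (hk : k ∈ H1 F m) (v : F) :
    (⟨k, hk.2⟩ : ↥(G1 F m)) * zE m v =
      zE m (wt k ^ (3 ^ (m + 1) + 2) * v) * (⟨k, hk.2⟩ : ↥(G1 F m)) :=
  Subtype.ext (by
    simp only [zE, Subgroup.coe_mul]
    have := torus_conj_uW hK hk (0 : F) 0 v
    simp only [mul_zero] at this
    rw [← this]
    group)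

variable {k : ℕ} (ρ : Representation ℂ ↥(G1 F m) (Fin k → ℂ))

/-- The central root group acting. -/
def opZ (v : F) : Module.End ℂ (Fin k → ℂ) := ρ (zE m v)

/-- The middle root group acting. -/
def opY (u : F) : Module.End ℂ (Fin k → ℂ) := ρ (yE m u)

omit hK [Fintype F] in
theorem isOp_opZ : IsOp (opZ ρ) :=
  ⟨by rw [opZ, zE_zero, map_one], fun a b => by rw [opZ, opZ, opZ, ← map_mul, zE_mul]⟩

omit hK [Fintype F] in
theorem isOp_opY : IsOp (opY ρ) :=
  ⟨by rw [opY, yE_zero, map_one], fun a b => by rw [opY, opY, opY, ← map_mul, yE_mul]⟩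

omit hK [Fintype F] [CharP F 3] in
theorem ρ_apply_ne {g : ↥(G1 F m)} {x : Fin k → ℂ} (hx : x ≠ 0) : ρ g x ≠ 0 := fun h => hx (by
  have := congrArg (ρ g⁻¹) h
  rwa [← Module.End.mul_apply, ← map_mul, inv_mul_cancel, map_one, Module.End.one_apply,
    map_zero] at this)

omit hK in
/-- Every non-trivial eigenspace of the centre of a Sylow subgroup has dimension at least `q`. -/
theorem q_le_finrank_eigen {χ : AddChar F ℂ} (hχ : χ ≠ 1) {x : Fin k → ℂ} (hx : x ≠ 0)
    (hxm : x ∈ eigen (opZ ρ) χ) :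
    Fintype.card F ≤ finrank ℂ (eigen (opZ ρ) χ) := by
  classical
  have hcomm : ∀ (g : ↥(G1 F m)), (∀ v, zE m v * g = g * zE m v) → ∀ y ∈ eigen (opZ ρ) χ,
      ρ g y ∈ eigen (opZ ρ) χ := by
    intro g hg y hy
    rw [mem_eigen]
    intro v
    rw [opZ, ← Module.End.mul_apply, ← map_mul, hg, map_mul, Module.End.mul_apply]
    show ρ g (opZ ρ v y) = _
    rw [mem_eigen.1 hy v, map_smul]
  obtain ⟨ψ₀, y, hy, hy0, hyψ⟩ := exists_eigen (isOp_opY ρ) (M := eigen (opZ ρ) χ)
    (fun u z hz => hcomm _ (fun v => zE_yE v u) z hz) hxm hx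
  let ψ : F → AddChar F ℂ := fun t => ψ₀ * χ.mulShift (-t)
  have hψinj : Function.Injective ψ := fun a b e =>
    neg_injective (AddChar.to_mulShift_inj_of_isPrimitive (AddChar.IsPrimitive.of_ne_one hχ)
      (mul_left_cancel e))
  have hmem : ∀ t, ρ (xE m t) y ∈ eigen (opZ ρ) χ ⊓ eigen (opY ρ) (ψ t) := by
    intro t
    refine ⟨hcomm _ (fun v => zE_xE v t) y hy, mem_eigen.2 fun u => ?_⟩
    have h1 : ρ (zE m (-(t * u))) y = χ (-(t * u)) • y := mem_eigen.1 hy _
    have h2 : ρ (yE m u) y = ψ₀ u • y := mem_eigen.1 hyψ _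
    show ρ (yE m u) (ρ (xE m t) y) = _
    rw [← Module.End.mul_apply, ← map_mul, yE_xE, map_mul, map_mul, Module.End.mul_apply,
      Module.End.mul_apply, h1, map_smul, h2, map_smul, map_smul, smul_smul]
    congr 1
    simp [ψ, AddChar.mul_apply, AddChar.mulShift_apply, mul_comm]
  calc Fintype.card F = (Finset.univ.image ψ).card := by
        rw [Finset.card_image_of_injective _ hψinj, Finset.card_univ]
    _ = ∑ φ ∈ Finset.univ.image ψ, 1 := by simp
    _ ≤ ∑ φ ∈ Finset.univ.image ψ,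
        finrank ℂ (eigen (opZ ρ) χ ⊓ eigen (opY ρ) φ : Submodule ℂ (Fin k → ℂ)) := by
        refine Finset.sum_le_sum fun φ hφ => ?_
        obtain ⟨t, -, rfl⟩ := Finset.mem_image.1 hφ
        refine Submodule.one_le_finrank_iff.2 fun e => ?_
        have := hmem t
        rw [e, Submodule.mem_bot] at this
        exact ρ_apply_ne ρ hy0 this
    _ ≤ ∑ φ, finrank ℂ (eigen (opZ ρ) χ ⊓ eigen (opY ρ) φ : Submodule ℂ (Fin k → ℂ)) :=
        Finset.sum_le_sum_of_subset (Finset.subset_univ _)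
    _ ≤ _ := sum_finrank_le _

theorem finrank_eigen_ge (hnt : ρ (zE m 1) ≠ 1) {χ : AddChar F ℂ} (hχ : χ ≠ 1) :
    Fintype.card F ≤ finrank ℂ (eigen (opZ ρ) χ) := by
  classical
  obtain ⟨x, hx⟩ : ∃ x, ρ (zE m 1) x ≠ x := by
    by_contra hc
    push Not at hc
    exact hnt (LinearMap.ext fun x => by rw [hc, Module.End.one_apply])
  obtain ⟨χ₀, hχ₀, y, -, hy0, hy⟩ := exists_eigen_ne_one (isOp_opZ ρ) (M := ⊤) (a := (1 : F))
    (fun _ _ _ => Submodule.mem_top) (Submodule.mem_top : x ∈ _) hx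
  have hbij : Function.Bijective fun a : F => χ₀.mulShift a :=
    (Fintype.bijective_iff_injective_and_card _).2
      ⟨AddChar.to_mulShift_inj_of_isPrimitive (AddChar.IsPrimitive.of_ne_one hχ₀),
        AddChar.card_eq.symm⟩
  obtain ⟨a, rfl⟩ := hbij.2 χ
  have ha : a ≠ 0 := by
    rintro rfl
    exact hχ (AddChar.mulShift_zero χ₀)
  obtain ⟨c, hc⟩ : ∃ c : Fˣ, (c : F) ^ (3 ^ (m + 1) + 2) = a⁻¹ := by
    have hinj : Function.Injective (powMonoidHom (3 ^ (m + 1) + 2) : Fˣ →* Fˣ) := by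
      refine (injective_iff_map_eq_one _).2 fun c hc => Units.ext ?_
      exact eq_one_of_pow hK c.ne_zero (by simpa using congrArg Units.val hc)
    obtain ⟨c, hc⟩ := Finite.injective_iff_surjective.1 hinj (Units.mk0 a⁻¹ (inv_ne_zero ha))
    exact ⟨c, by simpa using congrArg Units.val hc⟩
  obtain ⟨g, hgd, hgG, hgc⟩ := exists_torus hK c.ne_zero
  have hg : g ∈ H1 F m := ⟨hgd, hgG⟩
  refine q_le_finrank_eigen ρ hχ (ρ_apply_ne ρ (g := ⟨g, hg.2⟩) hy0) (mem_eigen.2 fun v => ?_)
  have h1 : ρ (zE m (a * v)) y = χ₀ (a * v) • y := mem_eigen.1 hy _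
  have h2 := torus_zE hK hg (a * v)
  rw [hgc, hc, ← mul_assoc, inv_mul_cancel₀ ha, one_mul] at h2
  show ρ (zE m v) (ρ _ y) = _
  rw [← Module.End.mul_apply, ← map_mul, ← h2, map_mul, Module.End.mul_apply, h1, map_smul,
    AddChar.mulShift_apply]

theorem dim_ge (hm : 1 ≤ m) (hρ : ρ.IsIrreducible) (hk : 2 ≤ k) :
    Fintype.card F ^ 2 - Fintype.card F + 1 ≤ k := by
  classical
  have hker : ρ.ker = ⊥ := by
    have : IsSimpleGroup ↥(G1 F m) := isSimpleGroup_G1 hK hm
    refine (IsSimpleGroup.eq_bot_or_eq_top_of_normal _ inferInstance).resolve_right fun h => ?_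
    have htriv : ∀ g, ρ g = 1 := fun g => MonoidHom.mem_ker.1 (h ▸ Subgroup.mem_top g)
    let v : Fin k → ℂ := Pi.single ⟨0, by omega⟩ 1
    let U : Subrepresentation ρ := ⟨ℂ ∙ v, fun g w hw => by rw [htriv]; exact hw⟩
    have := hρ
    rcases IsSimpleOrder.eq_bot_or_eq_top U with hU | hU
    · have : (ℂ ∙ v) = ⊥ := congrArg Subrepresentation.toSubmodule hU
      rw [Submodule.span_singleton_eq_bot] at this
      simpa [v] using congrFun this ⟨0, by omega⟩
    · have e : (ℂ ∙ v) = ⊤ := congrArg Subrepresentation.toSubmodule hU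
      have hf := finrank_span_singleton (K := ℂ) (v := v) (by simp [v])
      rw [e, finrank_top, Module.finrank_fin_fun] at hf
      omega
  have hnt : ρ (zE m 1) ≠ 1 := fun h =>
    zE_ne_one (F := F) (Subgroup.mem_bot.1 (hker ▸ MonoidHom.mem_ker.2 h))
  set q := Fintype.card F with hq
  have hsum := sum_finrank_le (op := opZ ρ) ⊤
  rw [finrank_top, Module.finrank_fin_fun,
    ← Finset.add_sum_erase _ _ (Finset.mem_univ (1 : AddChar F ℂ))] at hsum
  have hrest : (q - 1) * q ≤ ∑ χ ∈ Finset.univ.erase (1 : AddChar F ℂ),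
      finrank ℂ (⊤ ⊓ eigen (opZ ρ) χ : Submodule ℂ (Fin k → ℂ)) := by
    calc (q - 1) * q = ∑ _χ ∈ Finset.univ.erase (1 : AddChar F ℂ), q := by
          rw [Finset.sum_const, Finset.card_erase_of_mem (Finset.mem_univ _), Finset.card_univ,
            AddChar.card_eq, smul_eq_mul]
      _ ≤ _ := Finset.sum_le_sum fun χ hχ => by
          rw [top_inf_eq]
          exact finrank_eigen_ge hK ρ hnt (Finset.ne_of_mem_erase hχ)
  rw [top_inf_eq] at hsum
  have hq2 : q ^ 2 - q = (q - 1) * q := by rw [sq, Nat.sub_mul, one_mul]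
  rw [hq2]
  by_contra hlt
  have hk' : k = (q - 1) * q := by omega
  have hbot : eigen (opZ ρ) (1 : AddChar F ℂ) = ⊥ := Submodule.finrank_eq_zero.1 (by omega)
  obtain ⟨g, hgd, hgG, hgc⟩ := exists_torus hK (c := (-1 : F)) (by simp)
  have hg : g ∈ H1 F m := ⟨hgd, hgG⟩
  have hodd : Odd (3 ^ (m + 1) + 2) := (Odd.pow (by decide)).add_even (by decide)
  have hconj : ∀ v : F, (⟨g, hg.2⟩ : ↥(G1 F m)) * zE m v = zE m (-v) * ⟨g, hg.2⟩ := fun v => by
    rw [torus_zE hK hg, hgc, hodd.neg_one_pow, neg_one_mul]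
  have hg2 : (⟨g, hg.2⟩ : ↥(G1 F m)) * ⟨g, hg.2⟩ = 1 := Subtype.ext (by
    refine torus_eq_of_wt (Subgroup.mul_mem _ hg.1 hg.1)
      (maps_of_mem_G1 (pow_q hK) (Subgroup.mul_mem _ hg.2 hg.2)) (Subgroup.one_mem _) Maps.one ?_
    show wt (g * g) = wt 1
    rw [wt_mul hg.1 hg.1, hgc]
    simp [wt])
  set E : Module.End ℂ (Fin k → ℂ) := ρ ⟨g, hg.2⟩ with hE
  have htr : LinearMap.trace ℂ _ E = 0 := by
    refine trace_eq_zero (isOp_opZ ρ) E (fun χ => χ⁻¹) (fun χ => ?_) (fun χ hχ => ?_)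
    · rw [proj, proj, Finset.mul_sum, Finset.sum_mul]
      refine Fintype.sum_equiv (Equiv.neg F) _ _ fun v => ?_
      rw [mul_smul_comm, smul_mul_assoc, Equiv.neg_apply, AddChar.inv_apply, neg_neg]
      congr 1
      rw [hE, opZ, opZ, ← map_mul, ← map_mul, hconj]
    · obtain rfl : χ = 1 := by
        have : Fact (Nat.Prime 3) := ⟨Nat.prime_three⟩
        have h22 : (2 : F) * 2 = 1 := by
          have h3 : (3 : F) = 0 := by exact_mod_cast CharP.cast_eq_zero F 3
          linear_combination h3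
        ext v
        have h := DFunLike.congr_fun hχ (2 * v)
        rw [AddChar.inv_apply] at h
        have e : χ (2 * v) * χ (2 * v) = 1 := by
          nth_rewrite 1 [← h]
          rw [← AddChar.map_add_eq_mul, neg_add_cancel, AddChar.map_zero_eq_one]
        rw [AddChar.one_apply, ← e, ← AddChar.map_add_eq_mul, ← add_mul,
          show (2 : F) + 2 = 1 by linear_combination h22]
        simp
      exact proj_eq_zero (isOp_opZ ρ) hbot
  have hdet : LinearMap.det E = 1 := by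
    let d : ↥(G1 F m) →* ℂ := (LinearMap.det : Module.End ℂ (Fin k → ℂ) →* ℂ).comp ρ
    have hle : commutator ↥(G1 F m) ≤ d.ker := by
      rw [commutator_def, Subgroup.commutator_le]
      intro a _ b _
      rw [MonoidHom.mem_ker, commutatorElement_def, map_mul, map_mul, map_mul]
      calc d a * d b * d a⁻¹ * d b⁻¹ = (d a * d a⁻¹) * (d b * d b⁻¹) := by ring
        _ = 1 := by rw [← map_mul, ← map_mul, mul_inv_cancel, mul_inv_cancel, map_one, one_mul]
    exact MonoidHom.mem_ker.1 (hle (commutator_eq_top hK hm ▸ Subgroup.mem_top _))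
  have h4 := four_dvd_finrank E (by rw [hE, ← map_mul, hg2, map_one]) htr hdet
  rw [Module.finrank_fin_fun, hk'] at h4
  have hq4 : q % 4 = 3 := by
    rw [hK, pow_succ, pow_mul, Nat.mul_mod, Nat.pow_mod]
    norm_num
  rw [Nat.dvd_iff_mod_eq_zero, Nat.mul_mod] at h4
  have : (q - 1) % 4 = 2 := by omega
  rw [this, hq4] at h4
  norm_num at h4

end Ree

/-- For the Ree group ²G₂(q), q = 3^(2m+1) with m ≥ 1 (realised over the field with q elements), every irreducible complex representation of degree at least 2 has degree at least q² − q + 1. -/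
theorem result {K : Type*} [Field K] [Fintype K] (m : ℕ) (hm : 1 ≤ m) (hK : Fintype.card K = 3 ^ (2 * m + 1)) :
    (∀ (k : ℕ) (ρ : Representation ℂ (Cfsg.Lie.twistedG2 K (3 ^ m)) (Fin k → ℂ)), ρ.IsIrreducible → 2 ≤ k → (3 ^ (2 * m + 1)) ^ 2 - 3 ^ (2 * m + 1) + 1 ≤ k) := by
  have := Twisted.Ree.charP_three hK
  intro k ρ hρ hk
  have := dim_ge hK ρ hm hρ hk
  rwa [hK] at this

end Cfsg.Agent.S2343
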