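import Cfsg.Statements.S2347
import Cfsg.Agent.Lib.Weil.Representation
import Cfsg.Agent.Lib.Weil.LowerBound

set_option autoImplicit false
open Cfsg

namespace Cfsg.Agent.S2347

/-- Smallest degree of a non-linear irreducible complex representation of the symplectic group Sp_{2n} over a finite field of odd order q, n ≥ 2: every irreducible complex representation of degree at least 2 has degree at least (q^n − 1)/2, and there is an irreducible complex representation of exactly that degree (a Weil representation). -/
theorem result {F : Type*} [Field F] [Fintype F] [DecidableEq F] (n : ℕ) (hn : 2 ≤ n) (hodd : Odd (Fintype.card F)) :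
    (∀ (k : ℕ) (ρ : Representation ℂ (Matrix.symplecticGroup (Fin n) F) (Fin k → ℂ)), ρ.IsIrreducible → 2 ≤ k → (Fintype.card F ^ n - 1) / 2 ≤ k) ∧
    (∃ ρ : Representation ℂ (Matrix.symplecticGroup (Fin n) F) (Fin ((Fintype.card F ^ n - 1) / 2) → ℂ), ρ.IsIrreducible) := by
  have h2 : (2 : F) ≠ 0 := fun h => by
    have h1 : (Fintype.card F : F) = 0 := FiniteField.cast_card_eq_zero F
    obtain ⟨c, hc⟩ := hodd
    rw [hc, Nat.cast_add, Nat.cast_mul, Nat.cast_one, Nat.cast_ofNat, h, zero_mul, zero_add] at h1
    exact one_ne_zero h1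
  exact ⟨fun k ρ hρ hk => Weil.degree_ge hn h2 k ρ hρ hk, Weil.exists_odd_rep (by omega) h2⟩

end Cfsg.Agent.S2347
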