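import Cfsg.Statements.S2355
import Cfsg.Agent.Lib.WordLaw.Unitary

set_option autoImplicit false
open Cfsg

namespace Cfsg.Agent.S2355

open Matrix WordLaw

theorem card_le_of_matrix {F : Type*} [Field F] [Fintype F] {ι : Type*} [Fintype ι] {α : Type*} (f : α → Matrix ι ι F)
    (hf : Function.Injective f) {M d : ℕ} (hM : Fintype.card F ≤ M) (hd : Fintype.card ι ≤ d) (hM1 : 1 ≤ M) :
    Nat.card α ≤ M ^ (d * d) := by
  refine (Nat.card_le_card_of_injective f hf).trans ?_
  rw [show Nat.card (Matrix ι ι F) = Fintype.card F ^ (Fintype.card ι * Fintype.card ι) by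
    show Nat.card (ι → ι → F) = _
    classical
    rw [Nat.card_fun, Nat.card_fun, Nat.card_eq_fintype_card, Nat.card_eq_fintype_card, ← pow_mul]]
  exact (Nat.pow_le_pow_left hM _).trans (Nat.pow_le_pow_right hM1 (Nat.mul_le_mul hd hd))

theorem card_le_of_quotient {G K : Type*} [Group G] [Group K] [Finite K] (e : G ≃* K ⧸ Subgroup.center K) :
    Nat.card G ≤ Nat.card K := by
  rw [Nat.card_congr e.toEquiv]
  exact Nat.card_le_card_of_surjective _ QuotientGroup.mk_surjective

/-- A non-trivial law is satisfied by only finitely many finite simple groups that are alternating or classical, up to isomorphism: for every non-trivial element w of the free group on countably many generators there is a bound N such that every alternating group of degree ≥ 5 and every simple classical group (linear, symplectic, unitary or orthogonal, in this problem's sense) in which w is a law has order at most N. -/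
theorem result (w : FreeGroup ℕ) (hw : w ≠ 1) :
    ∃ N : ℕ, ∀ (G : Type*) [Group G] [Finite G],
      (Cfsg.IsAlternating G ∨ Cfsg.IsPSL G ∨ Cfsg.IsPSp G ∨ Cfsg.IsPSU G ∨ Cfsg.IsPOmegaOdd G ∨
          Cfsg.IsPOmegaPlus G ∨ Cfsg.IsPOmegaMinus G) →
      (∀ f : ℕ → G, FreeGroup.lift f w = 1) → Nat.card G ≤ N := by
  classical
  set B := wordBound w with hB
  set M := (2 * B + 3) ^ 2 with hM
  set d := 3 * B + 15 with hd
  have hM1 : 1 ≤ M := Nat.one_le_pow _ _ (by omega)
  have hqM : ∀ x, x < 2 * B + 2 → x ≤ M := fun x hx => by nlinarith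
  refine ⟨M ^ (d * d) + (B + 4).factorial, fun G _ _ hG hlaw => ?_⟩
  refine le_trans ?_ (le_refl (M ^ (d * d) + (B + 4).factorial))
  rcases hG with ⟨n, hn, ⟨e⟩⟩ | ⟨F, _, _, n, hn, -, ⟨e⟩⟩ | ⟨F, _, _, m, hm, -, ⟨e⟩⟩ |
    ⟨F, _, _, n, q, hF, hn, -, ⟨e⟩⟩ | ⟨F, _, _, m, hm, -, ⟨e⟩⟩ | ⟨F, _, _, m, hm, ⟨e⟩⟩ | ⟨F, _, _, m, a, b, hm, -, ⟨e⟩⟩
  · -- alternating
    have hlt : n < B + 4 := by
      by_contra h
      obtain ⟨f, hf⟩ := exists_alt_lift_ne_one w hw n (by omega)
      apply hf
      have h1 := map_lift_apply e.toMonoidHom (fun i => e.symm (f i)) w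
      rw [hlaw] at h1
      simpa using h1.symm
    refine le_trans ?_ (Nat.le_add_left _ _)
    rw [Nat.card_congr e.toEquiv]
    refine (Nat.card_le_card_of_injective _ Subtype.val_injective).trans ?_
    rw [Nat.card_perm, Nat.card_fin]
    exact Nat.factorial_le hlt.le
  all_goals refine le_trans ((card_le_of_quotient e).trans ?_) (Nat.le_add_right _ _)
  all_goals have hK := centralLaw_of_equiv e hlaw
  · obtain ⟨h1, h2⟩ := hK.bounds_of_SL F hw hn (MonoidHom.id _) Function.injective_id
    exact card_le_of_matrix (fun g : Matrix.SpecialLinearGroup (Fin n) F => (g : Matrix (Fin n) (Fin n) F))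
      Subtype.val_injective (hqM _ h1) (by simp; omega) hM1
  · obtain ⟨φ, hφ⟩ := exists_SL_Sp F m
    obtain ⟨h1, h2⟩ := hK.bounds_of_SL F hw hm φ hφ
    exact card_le_of_matrix (fun g : Matrix.symplecticGroup (Fin m) F => (g : Matrix (Fin m ⊕ Fin m) (Fin m ⊕ Fin m) F))
      Subtype.val_injective (hqM _ h1) (by simp; omega) hM1
  · obtain ⟨h1, h2⟩ := CentralLaw.bounds_of_SU hF hK hw (by omega)
    exact card_le_of_matrix (fun g : Cfsg.SU n F q => ((g : Matrix.SpecialLinearGroup (Fin n) F) : Matrix (Fin n) (Fin n) F))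
      (fun x y h => Subtype.ext (Subtype.ext h)) (by rw [hF]; exact Nat.pow_le_pow_left h1 2) (by simp; omega) hM1
  · obtain ⟨φ, hφ⟩ := exists_SL_Omega_odd F m hm
    obtain ⟨h1, h2⟩ := hK.bounds_of_SL F hw (by omega) φ hφ
    exact card_le_of_matrix (fun g : Cfsg.Omega F (Cfsg.quadFormOdd m F) => Units.val g.1.1)
      (fun x y h => Subtype.ext (Subtype.ext (Units.ext h))) (hqM _ h1) (by simp; omega) hM1
  · obtain ⟨φ, hφ⟩ := exists_SL_Omega_plus F m (by omega)
    obtain ⟨h1, h2⟩ := hK.bounds_of_SL F hw (by omega) φ hφ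
    exact card_le_of_matrix (fun g : Cfsg.Omega F (Cfsg.quadFormPlus m F) => Units.val g.1.1)
      (fun x y h => Subtype.ext (Subtype.ext (Units.ext h))) (hqM _ h1) (by simp; omega) hM1
  · obtain ⟨φ, hφ⟩ := exists_SL_Omega_minus F (m - 1) (by omega) a b
    obtain ⟨h1, h2⟩ := hK.bounds_of_SL F hw (by omega) φ hφ
    exact card_le_of_matrix (fun g : Cfsg.Omega F (Cfsg.quadFormMinus (m - 1) F a b) => Units.val g.1.1)
      (fun x y h => Subtype.ext (Subtype.ext (Units.ext h))) (hqM _ h1) (by simp; omega) hM1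

end Cfsg.Agent.S2355
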