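import Cfsg.Statements.S2362
import Cfsg.Agent.Lib.Spectrum.OddOrthMixed
import Cfsg.Agent.Lib.GL.PSpPrimes

set_option autoImplicit false
open Cfsg

namespace Cfsg.Agent.S2362

/-- Let F be a finite field of odd order and n ≥ 3. The simple orthogonal group PΩ(2n+1, F) (type B_n) and the projective symplectic group PSp(2n, F) (type C_n), which have the same order, do not have the same set of element orders. -/
theorem result {F : Type*} [Field F] [Fintype F] (hodd : Odd (Fintype.card F)) (n : ℕ) (hn : 3 ≤ n) :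
    Set.range (orderOf : Cfsg.POmega F (Cfsg.quadFormOdd n F) → ℕ) ≠ Set.range (orderOf : Cfsg.PSp n F → ℕ) := by
  obtain ⟨p, hp⟩ := CharP.exists F
  have : Fact p.Prime := ⟨CharP.char_is_prime F p⟩
  have h2 := Agent.Forms.two_ne_zero_of_odd_card hodd
  have hp2 : p ≠ 2 := by rintro rfl; exact h2 (by exact_mod_cast CharP.cast_eq_zero F 2)
  set e := n - 1 with he
  set N := Fintype.card F ^ e + 1 with hN
  intro heq
  -- an element of order `p N` in `PSp`
  obtain ⟨J, hJ, hJpow⟩ := GL.exists_symp_jordan (F := F) p hp2 (s := 1) one_pos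
  obtain ⟨Z, hZ, hZpow, -⟩ := GL.exists_nonsplit_torus_symp (F := F) hodd (e := e) (by omega)
  let y : Cfsg.PSp n F := QuotientGroup.mk' _
    (GL.spOfPreserves (GL.sympBlock (show 1 + e = n by omega) (J, Z)) (GL.preserves_sympBlock _ hJ hZ))
  have hy : p * N ∣ orderOf y := by
    obtain ⟨c, hc⟩ := (GL.psp_mk_pow_eq_one_iff _ _).1 (pow_orderOf_eq_one y)
    have hc' : GL.sympBlock (show 1 + e = n by omega) (J, Z) ^ orderOf y = c • 1 := hc
    rw [← map_pow, Prod.pow_mk, GL.sympBlock_eq_smul_one] at hc'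
    obtain ⟨e1, e2⟩ := hc'
    obtain ⟨rfl, hJd⟩ := hJpow _ c e1
    rw [one_smul] at e2
    have hclog : Nat.clog p (2 * 1) = 1 := le_antisymm
      (Nat.clog_le_of_le_pow (by have := (Fact.out : p.Prime).two_le; simpa using this))
      (Nat.clog_pos (Fact.out : p.Prime).one_lt (by norm_num))
    rw [hclog, pow_one] at hJd
    refine Nat.Coprime.mul_dvd_of_dvd_of_dvd ?_ hJd ((hZpow _).1 e2)
    rw [(Fact.out : p.Prime).coprime_iff_not_dvd]
    intro h
    have hpq : p ∣ Fintype.card F := (CharP.cast_eq_zero_iff F p _).1 (Nat.cast_card_eq_zero F)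
    exact (Fact.out : p.Prime).ne_one (Nat.dvd_one.1 ((Nat.dvd_add_right (dvd_pow hpq (by omega))).1 h))
  have hmem : p * N ∈ Set.range (orderOf : Cfsg.PSp n F → ℕ) :=
    ⟨y ^ (orderOf y / (p * N)), orderOf_pow_orderOf_div (orderOf_pos y).ne' hy⟩
  rw [← heq] at hmem
  obtain ⟨z, hz⟩ := hmem
  obtain ⟨x, rfl⟩ := QuotientGroup.mk'_surjective _ z
  have key : ∀ (f : (Unit ⊕ (Fin n ⊕ Fin n) → F) → F), f = ⇑(Agent.Forms.quadOdd n F) →
      ∀ x : Omega F f, p * N ∣ orderOf x → False := by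
    rintro f rfl x hx
    have hfin : IsOfFinOrder x := isOfFinOrder_of_finite x
    refine Spectrum.OddOrth.no_mixed_order p hodd hn rfl _ (x ^ (orderOf x / (p * N))).2 ?_
    rw [Subgroup.orderOf_coe, orderOf_pow_orderOf_div (orderOf_pos x).ne' hx]
  exact key _ (funext Agent.Forms.quadOdd_apply).symm x (hz ▸ orderOf_map_dvd _ x)

end Cfsg.Agent.S2362
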