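import Cfsg.Statements.S2364
import Cfsg.Agent.Lib.GL.Basic
import Cfsg.Agent.Lib.GL.ElementOrders
import Cfsg.Agent.Lib.GL.CentralizerFactors

set_option autoImplicit false
open Cfsg

namespace Cfsg.Agent.S2364

/-- Let F be a finite field of characteristic p, n ≥ 4, and let a, b be commuting elements of PSL(n, F) with a of order p. Then every prime divisor of the order of b divides the order of SL(n − 2, F). -/
theorem result {F : Type*} [Field F] [Fintype F] (p : ℕ) [Fact p.Prime] [CharP F p] (n : ℕ) (hn : 4 ≤ n)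
    (a b : Matrix.ProjectiveSpecialLinearGroup (Fin n) F) (ha : orderOf a = p) (hab : Commute a b) :
    (orderOf b).primeFactors ⊆ (Nat.card (Matrix.SpecialLinearGroup (Fin (n - 2)) F)).primeFactors := by
  classical
  have hp := (Fact.out : p.Prime)
  haveI : Nonempty (Fin n) := ⟨⟨0, by omega⟩⟩
  obtain ⟨A, rfl⟩ := QuotientGroup.mk'_surjective _ a
  obtain ⟨B, rfl⟩ := QuotientGroup.mk'_surjective _ b
  set Z := Subgroup.center (Matrix.SpecialLinearGroup (Fin n) F) with hZ
  set MA : Matrix (Fin n) (Fin n) F := (A : Matrix (Fin n) (Fin n) F) with hMA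
  set MB : Matrix (Fin n) (Fin n) F := (B : Matrix (Fin n) (Fin n) F) with hMB
  -- `A ^ p` is scalar
  obtain ⟨z, -, hz⟩ := Matrix.SpecialLinearGroup.mem_center_iff.1 (show A ^ p ∈ Z by
    rw [← QuotientGroup.eq_one_iff]
    exact (map_pow (QuotientGroup.mk' Z) A p).trans (ha ▸ pow_orderOf_eq_one _))
  rw [Matrix.SpecialLinearGroup.coe_pow] at hz
  obtain ⟨c, hc⟩ := (frobeniusEquiv F p).surjective z
  rw [frobeniusEquiv_apply] at hc
  set N := MA - Matrix.scalar (Fin n) c with hN
  have hNp : N ^ p = 0 := by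
    rw [hN, sub_pow_char_of_commute (p := p) (Matrix.scalar_commute c (fun r => Commute.all _ r) MA).symm, ← map_pow, show c ^ p = z from hc]
    exact sub_eq_zero.2 hz.symm
  have hA1 : A ∉ Z := by
    intro hmem
    have h1 : QuotientGroup.mk' Z A = 1 := (QuotientGroup.eq_one_iff A).2 hmem
    rw [h1, orderOf_one] at ha
    exact hp.ne_one ha.symm
  have hN0 : N ≠ 0 := by
    intro h
    rw [hN, sub_eq_zero] at h
    refine hA1 (Matrix.SpecialLinearGroup.mem_center_iff.2 ⟨c, ?_, h.symm⟩)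
    have h1 : MA.det = 1 := A.2
    rw [h, Matrix.scalar_apply, Matrix.det_diagonal, Finset.prod_const] at h1
    simpa using h1
  -- `A` and `B` commute
  obtain ⟨μ, -, hμ⟩ := Matrix.SpecialLinearGroup.mem_center_iff.1 (show (A * B) * (B * A)⁻¹ ∈ Z by
    rw [← QuotientGroup.eq_one_iff]
    show QuotientGroup.mk' Z (A * B * (B * A)⁻¹) = 1
    rw [map_mul, map_inv, map_mul, map_mul, mul_inv_eq_one]
    exact hab)
  have hAB : MA * MB = Matrix.scalar (Fin n) μ * (MB * MA) := by
    rw [hμ, hMA, hMB, ← Matrix.SpecialLinearGroup.coe_mul, ← Matrix.SpecialLinearGroup.coe_mul,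
      ← Matrix.SpecialLinearGroup.coe_mul, inv_mul_cancel_right]
  have hsc : ∀ (r : F) (M : Matrix (Fin n) (Fin n) F), Commute (Matrix.scalar (Fin n) r) M :=
    fun r M => Matrix.scalar_commute r (fun r' => Commute.all _ r') M
  have hμp : μ ^ p = 1 := by
    have h1 : ∀ k : ℕ, MA ^ k * MB = Matrix.scalar (Fin n) (μ ^ k) * (MB * MA ^ k) := by
      intro k
      induction k with
      | zero => simp
      | succ k ih =>
        rw [pow_succ, mul_assoc, hAB, ← mul_assoc, ← (hsc μ _).eq, mul_assoc, ← mul_assoc (MA ^ k), ih,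
          ← mul_assoc, ← mul_assoc, ← map_mul, ← pow_succ', mul_assoc, mul_assoc]
    have h2 := h1 p
    rw [← hz, (hsc z _).eq, ← mul_assoc] at h2
    have hB : IsUnit MB := (Matrix.SpecialLinearGroup.toGL B).isUnit
    have h3 : MB * Matrix.scalar (Fin n) z = MB * Matrix.scalar (Fin n) (μ ^ p * z) := by
      rw [h2, map_mul, ← mul_assoc, (hsc (μ ^ p) MB).eq]
    have h4 := congrFun (congrFun (hB.mul_left_cancel h3) (Classical.arbitrary _)) (Classical.arbitrary _)
    simp [Matrix.scalar_apply] at h4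
    have hz0 : z ≠ 0 := by
      intro h0
      have h5 := congrArg Matrix.det hz
      rw [Matrix.det_pow, Matrix.SpecialLinearGroup.det_coe, h0, map_zero, Matrix.det_zero, one_pow] at h5
      exact zero_ne_one h5
    exact mul_right_cancel₀ hz0 (by rw [one_mul]; exact h4.symm)
  have hμ1 : μ = 1 := by
    have h1 : (μ - 1) ^ p = 0 := by rw [sub_pow_char, one_pow, hμp, sub_self]
    exact sub_eq_zero.1 (eq_zero_of_pow_eq_zero h1)
  rw [hμ1, map_one, one_mul] at hAB
  have hcomm : Commute MB N := Commute.sub_right hAB.symm (hsc c MB).symm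
  -- the exponent
  set L := ∏ d ∈ Finset.Icc 1 (n - 2), (Fintype.card F ^ d - 1) with hL
  have hne : minpoly F MB ≠ 0 := minpoly.ne_zero (Algebra.IsIntegral.isIntegral MB)
  have hfac : ∀ g, Irreducible g → g ∣ minpoly F MB → g ∣ Polynomial.X ^ L - 1 := by
    intro g hg hgd
    refine GL.irreducible_dvd_X_pow_sub_one hg
      (GL.not_dvd_X_of_dvd_charpoly (Matrix.SpecialLinearGroup.toGL B) hg (hgd.trans (Matrix.minpoly_dvd_charpoly MB))) ?_
    refine Finset.dvd_prod_of_mem _ (Finset.mem_Icc.2 ⟨hg.natDegree_pos, ?_⟩)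
    have h1 := GL.natDegree_le_of_commute_nilpotent (Matrix.toLinAlgEquiv' MB) (Matrix.toLinAlgEquiv' N)
      (by simp; omega) ⟨p, by rw [← map_pow, hNp, map_zero]⟩
      (fun h => hN0 (by simpa using h)) (hcomm.map Matrix.toLinAlgEquiv') hg
      (by rwa [minpoly.algEquiv_eq])
    simp at h1
    omega
  have h1 := GL.dvd_pow_natDegree_of_irreducible_factors _ hne _ hfac
  set e := Nat.clog p n
  have hdeg : (minpoly F MB).natDegree ≤ p ^ e := by
    refine le_trans ((Polynomial.natDegree_le_of_dvd (Matrix.minpoly_dvd_charpoly MB) (Matrix.charpoly_monic MB).ne_zero).trans ?_) (Nat.le_pow_clog hp.one_lt n)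
    rw [Matrix.charpoly_natDegree_eq_dim, Fintype.card_fin]
  obtain ⟨r, hr⟩ := h1.trans (pow_dvd_pow _ hdeg)
  have h2 := congrArg (Polynomial.aeval MB) hr
  rw [sub_pow_char_pow, one_pow, ← pow_mul, map_mul, minpoly.aeval, zero_mul] at h2
  simp only [map_sub, map_pow, Polynomial.aeval_X, map_one, sub_eq_zero] at h2
  have hB1 : B ^ (L * p ^ e) = 1 := by
    apply Subtype.ext
    rw [Matrix.SpecialLinearGroup.coe_pow, Matrix.SpecialLinearGroup.coe_one]
    exact h2
  intro r hr'
  rw [Nat.mem_primeFactors] at hr' ⊢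
  obtain ⟨hr1, hr2, -⟩ := hr'
  refine ⟨hr1, ?_, Nat.card_pos.ne'⟩
  have h3 : r ∣ L * p ^ e := hr2.trans (orderOf_dvd_of_pow_eq_one (by rw [← map_pow, hB1, map_one]))
  rw [GL.card_SL_prod]
  obtain ⟨pn, hpn⟩ : ∃ k, p ∣ Fintype.card F ^ (k + 1) := ⟨0, by
    obtain ⟨j, -, hj⟩ := FiniteField.card F p
    rw [pow_one, hj]; exact dvd_pow_self p j.pos.ne'⟩
  rcases (Nat.Prime.dvd_mul hr1).1 h3 with h | h
  · rw [hL] at h
    obtain ⟨d, hd, hdr⟩ := (hr1.prime.dvd_finsetProd_iff _).1 h
    rw [Finset.mem_Icc] at hd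
    refine Dvd.dvd.mul_left ?_ _
    by_cases hd1 : d = 1
    · subst hd1
      exact (hdr.trans (by rw [pow_one]; simpa using Nat.sub_dvd_pow_sub_pow (Fintype.card F) 1 2)).trans
        (Finset.dvd_prod_of_mem _ (Finset.mem_Ico.2 ⟨le_refl 2, by omega⟩))
    · exact hdr.trans (Finset.dvd_prod_of_mem (fun i => Fintype.card F ^ i - 1) (Finset.mem_Ico.2 ⟨by omega, by omega⟩))
  · have hrp : r = p := (Nat.prime_dvd_prime_iff_eq hr1 hp).1 (hr1.dvd_of_dvd_pow h)
    subst hrp
    refine Dvd.dvd.mul_right (dvd_pow ?_ ?_) _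
    · obtain ⟨j, -, hj⟩ := FiniteField.card F r
      rw [hj]; exact dvd_pow_self r j.pos.ne'
    · have : 2 ≤ (n - 2) * (n - 2 - 1) := Nat.mul_le_mul (show 2 ≤ n - 2 by omega) (show 1 ≤ n - 2 - 1 by omega)
      omega

end Cfsg.Agent.S2364
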