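import Cfsg.Statements.S2365
import Cfsg.Agent.Lib.GL.CentralizerFactorsPair
import Cfsg.Agent.Lib.Forms.HermCenter

set_option autoImplicit false
open Cfsg

namespace Cfsg.Agent.S2365

open Polynomial
open scoped Matrix

/-- The factors of the order of `SU_n(q)`. -/
def fac (q j : ℕ) : ℕ := if Even j then q ^ j - 1 else q ^ j + 1

theorem prime_dvd_card_SU {F : Type*} [Field F] [Fintype F] {q n r : ℕ} (hF : Fintype.card F = q ^ 2)
    (hn : 2 ≤ n) (h : r ∣ q ∨ ∃ j, 2 ≤ j ∧ j ≤ n ∧ r ∣ fac q j) :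
    r ∣ Nat.card ↥(Cfsg.SU n F q) := by
  have h1 := Forms.card_SU_mul (F := F) (q := q) hF (n := n) (by omega)
  rw [Forms.card_GU hF] at h1
  obtain ⟨k, rfl⟩ : ∃ k, n = k + 1 := ⟨n - 1, by omega⟩
  rw [Finset.prod_range_succ'] at h1
  simp only [Nat.zero_add, pow_one, Even.zero, if_true] at h1
  rw [← mul_assoc, mul_comm _ (q + 1)] at h1
  have h2 := Nat.eq_of_mul_eq_mul_left (show 0 < q + 1 by omega) h1
  rw [h2]
  rcases h with h | ⟨j, hj2, hjn, hjr⟩
  · refine (h.trans (dvd_pow_self q ?_)).mul_right _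
    have h3 : 2 ≤ (k + 1) * (k + 1 - 1) := Nat.mul_le_mul hn (show 1 ≤ k + 1 - 1 by omega)
    omega
  · refine (hjr.trans ?_).mul_left _
    obtain ⟨i, rfl⟩ : ∃ i, j = i + 1 + 1 := ⟨j - 2, by omega⟩
    have h4 := Finset.dvd_prod_of_mem
      (fun x => if Even (x + 1) then q ^ (x + 1 + 1) + 1 else q ^ (x + 1 + 1) - 1)
      (Finset.mem_range.2 (show i < k by omega))
    have h5 : fac q (i + 1 + 1) = if Even (i + 1) then q ^ (i + 1 + 1) + 1 else q ^ (i + 1 + 1) - 1 := by
      rw [fac]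
      by_cases he : Even (i + 1)
      · rw [if_pos he, if_neg (Nat.even_add_one.not.2 (not_not.2 he))]
      · rw [if_neg he, if_pos (Nat.even_add_one.2 he)]
    rw [h5]
    exact h4

theorem dvd_two_mul_of_dvd {q o d s : ℕ} (hs : Odd s) (hs' : o ∣ q ^ s + 1) (hd : o ∣ q ^ (2 * d) - 1)
    (hq : 1 ≤ q) : o ∣ 2 * (q ^ d.gcd s + 1) := by
  have hg2 : o ∣ q ^ (2 * s) - 1 := by
    rw [mul_comm, pow_mul]
    have := hs'.trans (show q ^ s + 1 ∣ (q ^ s) ^ 2 - 1 ^ 2 from ⟨q ^ s - 1, by rw [Nat.sq_sub_sq]⟩)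
    simpa using this
  have hgcd := Nat.dvd_gcd hd hg2
  rw [Nat.pow_sub_one_gcd_pow_sub_one, Nat.gcd_mul_left, mul_comm 2, pow_mul] at hgcd
  set g := d.gcd s with hg
  have hfac : (q ^ g) ^ 2 - 1 = (q ^ g - 1) * (q ^ g + 1) := by
    have := Nat.sq_sub_sq (q ^ g) 1
    rw [one_pow] at this
    rw [this, mul_comm]
  rw [hfac] at hgcd
  have h1 : o ∣ o.gcd (q ^ g - 1) * o.gcd (q ^ g + 1) :=
    (Nat.dvd_gcd dvd_rfl hgcd).trans (Nat.gcd_mul_right_dvd_mul_gcd _ _ _)
  refine h1.trans (mul_dvd_mul ?_ (Nat.gcd_dvd_right _ _))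
  have ha : o.gcd (q ^ g - 1) ∣ q ^ s - 1 :=
    (Nat.gcd_dvd_right _ _).trans (Nat.pow_sub_one_dvd_pow_sub_one _ (Nat.gcd_dvd_right d s))
  have hb : o.gcd (q ^ g - 1) ∣ q ^ s + 1 := (Nat.gcd_dvd_left _ _).trans hs'
  have := Nat.dvd_sub hb ha
  have h1q : 1 ≤ q ^ s := Nat.one_le_pow _ _ hq
  rwa [show q ^ s + 1 - (q ^ s - 1) = 2 by omega] at this

theorem aeval_mulVec {F E ι : Type*} [Field F] [Field E] [Algebra F E] [Fintype ι] [DecidableEq ι]
    (A : Matrix ι ι E) (v : ι → E) (μ : E) (hv : A *ᵥ v = μ • v) (P : F[X]) :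
    aeval A P *ᵥ v = aeval μ P • v := by
  induction P using Polynomial.induction_on' with
  | add p q hp hq => rw [map_add, map_add, Matrix.add_mulVec, hp, hq, add_smul]
  | monomial k c =>
    have hp : ∀ j : ℕ, A ^ j *ᵥ v = μ ^ j • v := fun j => by
      induction j with
      | zero => simp
      | succ j ih => rw [pow_succ', ← Matrix.mulVec_mulVec, ih, Matrix.mulVec_smul, hv, smul_smul, pow_succ]
    rw [aeval_monomial, aeval_monomial, ← Matrix.mulVec_mulVec, hp, ← smul_smul, algebraMap_smul,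
      Algebra.algebraMap_eq_smul_one, Matrix.smul_mulVec, Matrix.one_mulVec]

/-- The eigenvalues of a unitary matrix are permuted by `λ ↦ λ ^ (-q)`. -/
theorem exists_conj_root {F E : Type*} [Field F] [Field E] [Algebra F E] {m q : ℕ} (ψ : E →+* E)
    (hψ : ∀ x, ψ x = x ^ q) (MB σMB : Matrix (Fin m) (Fin m) F) (hσ : ∀ i j, σMB i j = MB i j ^ q)
    (hM : MBᵀ * σMB = 1) {lam : E} (hl : lam ≠ 0) (hroot : aeval lam MB.charpoly = 0) :
    aeval ((lam ^ q)⁻¹) (minpoly F MB) = 0 := by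
  classical
  set φ : Matrix (Fin m) (Fin m) F →ₐ[F] Matrix (Fin m) (Fin m) E := (Algebra.ofId F E).mapMatrix with hφ
  set A := φ MB with hA
  have hdet : (Matrix.scalar (Fin m) lam - A).det = 0 := by
    rw [← Matrix.eval_charpoly, show A = MB.map (algebraMap F E) from rfl, Matrix.charpoly_map, eval_map,
      ← aeval_def]
    exact hroot
  have hdet' : (Matrix.scalar (Fin m) (lam ^ q) - φ σMB).det = 0 := by
    have h2 := congrArg ψ hdet
    rw [map_zero, RingHom.map_det] at h2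
    convert h2 using 2
    ext i j
    rw [RingHom.mapMatrix_apply, Matrix.map_apply, Matrix.sub_apply, Matrix.sub_apply, map_sub,
      show (φ σMB) i j = algebraMap F E (σMB i j) from rfl, show A i j = algebraMap F E (MB i j) from rfl,
      hψ, hψ, hσ, map_pow (algebraMap F E)]
    by_cases hij : i = j
    · subst hij; simp only [Matrix.scalar_apply, Matrix.diagonal_apply_eq]
    · rcases eq_or_ne q 0 with hq | hq
      · exfalso
        have := congrArg ψ (show (0 : E) = 0 from rfl)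
        rw [hψ, hq, pow_zero] at this
        have h00 := map_zero ψ
        rw [hψ, hq, pow_zero] at h00
        exact one_ne_zero h00
      · simp only [Matrix.scalar_apply, Matrix.diagonal_apply_ne _ hij, zero_pow hq]
  obtain ⟨w, hw0, hw⟩ := Matrix.exists_mulVec_eq_zero_iff.2 hdet'
  rw [Matrix.sub_mulVec, sub_eq_zero, Matrix.scalar_apply] at hw
  have hw' : φ σMB *ᵥ w = lam ^ q • w := by
    rw [← hw]
    ext i
    simp [Matrix.mulVec_diagonal]
  have hAT : Aᵀ *ᵥ (lam ^ q • w) = w := by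
    rw [← hw', Matrix.mulVec_mulVec, show Aᵀ = φ MBᵀ from rfl, ← map_mul, hM, map_one, Matrix.one_mulVec]
  have hAT' : Aᵀ *ᵥ w = (lam ^ q)⁻¹ • w := by
    rw [Matrix.mulVec_smul] at hAT
    conv_rhs => rw [← hAT]
    rw [inv_smul_smul₀ (pow_ne_zero q hl)]
  have hdetT : (Matrix.scalar (Fin m) (lam ^ q)⁻¹ - A).det = 0 := by
    rw [← Matrix.det_transpose, Matrix.transpose_sub, Matrix.scalar_apply, Matrix.diagonal_transpose]
    refine Matrix.exists_mulVec_eq_zero_iff.1 ⟨w, hw0, ?_⟩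
    rw [Matrix.sub_mulVec, hAT', sub_eq_zero]
    ext i
    simp [Matrix.mulVec_diagonal]
  obtain ⟨v, hv0, hv⟩ := Matrix.exists_mulVec_eq_zero_iff.2 hdetT
  rw [Matrix.sub_mulVec, sub_eq_zero, Matrix.scalar_apply] at hv
  have hv' : A *ᵥ v = (lam ^ q)⁻¹ • v := by
    rw [← hv]
    ext i
    simp [Matrix.mulVec_diagonal]
  have h3 := aeval_mulVec A v _ hv' (minpoly F MB)
  rw [hA, aeval_algHom_apply, minpoly.aeval, map_zero, Matrix.zero_mulVec, eq_comm, smul_eq_zero] at h3
  exact h3.resolve_right hv0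

/-- The exponent attached to an irreducible factor. -/
theorem factor_dvd {F : Type*} [Field F] [Fintype F] (p : ℕ) [Fact p.Prime] [CharP F p] {m q : ℕ}
    (hm : 4 ≤ m) (hF : Fintype.card F = q ^ 2) (MB σMB N : Matrix (Fin m) (Fin m) F)
    (hσ : ∀ i j, σMB i j = MB i j ^ q) (hM : MBᵀ * σMB = 1) (hN : IsNilpotent N) (hN0 : N ≠ 0)
    (hc : Commute MB N) {g : F[X]} (hg : Irreducible g) (hgd : g ∣ minpoly F MB) (hX : ¬ g ∣ X) :
    g ∣ X ^ (2 * (q ^ 2 - 1) * ∏ j ∈ Finset.Icc 2 (m - 2), fac q j) - 1 := by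
  classical
  set L := 2 * (q ^ 2 - 1) * ∏ j ∈ Finset.Icc 2 (m - 2), fac q j with hL
  set d := g.natDegree with hd
  have hdpos := hg.natDegree_pos
  haveI : Fact (Irreducible g) := ⟨hg⟩
  set lam := AdjoinRoot.root g with hlam
  haveI : CharP (AdjoinRoot g) p := charP_of_injective_algebraMap (algebraMap F (AdjoinRoot g)).injective p
  haveI : FiniteDimensional F (AdjoinRoot g) := (AdjoinRoot.powerBasis hg.ne_zero).finite
  haveI : Finite (AdjoinRoot g) := Module.finite_of_finite F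
  have hrankE : Module.finrank F (AdjoinRoot g) = d := by
    rw [(AdjoinRoot.powerBasis hg.ne_zero).finrank, AdjoinRoot.powerBasis_dim]
  obtain ⟨k, hk⟩ : ∃ k, q = p ^ k := by
    obtain ⟨k, -, hk⟩ := FiniteField.card F p
    obtain ⟨i, -, hi⟩ := (Nat.dvd_prime_pow (Fact.out : p.Prime)).1
      (show q ∣ p ^ (k : ℕ) by rw [← hk, hF]; exact dvd_pow_self q two_ne_zero)
    exact ⟨i, hi⟩
  have hq2 : 2 ≤ q := Forms.one_lt_q hF
  let ψ : AdjoinRoot g →+* AdjoinRoot g := iterateFrobenius (AdjoinRoot g) p k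
  have hψ : ∀ x, ψ x = x ^ q := fun x => by rw [hk]; exact iterateFrobenius_def (p := p) (n := k) x
  have hmk : ∀ P : F[X], aeval lam P = AdjoinRoot.mk g P := fun P => AdjoinRoot.aeval_eq P
  have hl0 : lam ≠ 0 := fun h0 => hX (AdjoinRoot.mk_eq_zero.1 (by rw [AdjoinRoot.mk_X]; exact h0))
  have hroot : aeval lam MB.charpoly = 0 := by
    rw [hmk, AdjoinRoot.mk_eq_zero]
    exact hgd.trans (Matrix.minpoly_dvd_charpoly MB)
  suffices hlL : lam ^ L = 1 by
    rw [← AdjoinRoot.mk_eq_zero, map_sub, map_pow, map_one, AdjoinRoot.mk_X, sub_eq_zero]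
    exact hlL
  have hfin : Nat.card (AdjoinRoot g) = q ^ (2 * d) := by
    rw [Module.natCard_eq_pow_finrank (K := F), hrankE, Nat.card_eq_fintype_card, hF, ← pow_mul]
  have hord : orderOf lam ∣ q ^ (2 * d) - 1 := by
    haveI := Fintype.ofFinite (AdjoinRoot g)
    refine orderOf_dvd_of_pow_eq_one ?_
    rw [← hfin, Nat.card_eq_fintype_card]
    exact FiniteField.pow_card_sub_one_eq_one lam hl0
  set mu := (lam ^ q)⁻¹ with hmu
  have hmu0 : aeval mu (minpoly F MB) = 0 := exists_conj_root ψ hψ MB σMB hσ hM hl0 hroot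
  have hint : IsIntegral F mu := Algebra.IsIntegral.isIntegral mu
  set g₂ := minpoly F mu with hg₂
  have hg₂i : Irreducible g₂ := minpoly.irreducible hint
  have hg₂d : g₂ ∣ minpoly F MB := minpoly.dvd F mu hmu0
  have hQ : ∀ x : AdjoinRoot g, x ^ (q ^ (2 * d)) = x := fun x => by
    haveI := Fintype.ofFinite (AdjoinRoot g)
    rw [← hfin, Nat.card_eq_fintype_card]
    exact FiniteField.pow_card x
  have h2fac : ∀ j, 2 ≤ j → j ≤ m - 2 → fac q j ∣ ∏ j ∈ Finset.Icc 2 (m - 2), fac q j :=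
    fun j h1 h2 => Finset.dvd_prod_of_mem _ (Finset.mem_Icc.2 ⟨h1, h2⟩)
  by_cases hsame : g ∣ g₂
  · -- `mu` is a conjugate of `lam`
    have hgmu : aeval mu g = 0 := by
      obtain ⟨u, hu⟩ := (hg.associated_of_dvd hg₂i hsame).symm.dvd
      rw [congrArg (aeval mu) hu, map_mul, minpoly.aeval, zero_mul]
    let τ : AdjoinRoot g →ₐ[F] AdjoinRoot g :=
      AdjoinRoot.liftAlgHom g (Algebra.ofId F (AdjoinRoot g)) mu hgmu
    obtain ⟨⟨j, hj⟩, hjτ⟩ := (FiniteField.bijective_frobeniusAlgHom_pow F (AdjoinRoot g)).2 τ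
    rw [hrankE] at hj
    have hmuj : mu = lam ^ (q ^ (2 * j)) := by
      have h1 : τ lam = mu := AdjoinRoot.liftAlgHom_root _ _ _ _
      rw [← h1, ← hjτ, AlgHom.coe_pow, FiniteField.coe_frobeniusAlgHom, pow_iterate, hF, ← pow_mul]
    have h1 : lam ^ (q ^ (2 * j) + q) = 1 := by
      rw [pow_add, ← hmuj, hmu, inv_mul_cancel₀ (pow_ne_zero q hl0)]
    obtain ⟨s, hs, hls⟩ : ∃ s, Odd s ∧ lam ^ (q ^ s + 1) = 1 := by
      rcases Nat.eq_zero_or_pos j with rfl | hj0
      · refine ⟨1, odd_one, ?_⟩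
        rw [mul_zero, pow_zero, add_comm] at h1
        rwa [pow_one]
      · refine ⟨2 * j - 1, ⟨j - 1, by omega⟩, ψ.injective ?_⟩
        rw [hψ, map_one, ← pow_mul, add_mul, one_mul, ← pow_succ, show 2 * j - 1 + 1 = 2 * j by omega, h1]
    have h2 := dvd_two_mul_of_dvd hs (orderOf_dvd_of_pow_eq_one hls) hord (by omega)
    apply orderOf_dvd_iff_pow_eq_one.1
    refine h2.trans ?_
    have hle : d.gcd s ≤ d := Nat.gcd_le_left _ hdpos
    have hodd : Odd (d.gcd s) := hs.of_dvd_nat (Nat.gcd_dvd_right d s)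
    have hb : d + 2 ≤ m := by
      have h3 := GL.natDegree_le_of_commute_nilpotent (Matrix.toLinAlgEquiv' MB) (Matrix.toLinAlgEquiv' N)
        (by simp; omega) (hN.map Matrix.toLinAlgEquiv') (fun h => hN0 (by simpa using h))
        (hc.map Matrix.toLinAlgEquiv') hg (by rwa [minpoly.algEquiv_eq])
      simpa using h3
    rcases eq_or_ne (d.gcd s) 1 with h1' | h1'
    · rw [h1', pow_one]
      refine (mul_dvd_mul_left 2 (⟨q - 1, ?_⟩ : q + 1 ∣ q ^ 2 - 1)).trans (dvd_mul_right _ _)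
      have := Nat.sq_sub_sq q 1
      rwa [one_pow] at this
    · have h3 : fac q (d.gcd s) = q ^ d.gcd s + 1 := if_neg (Nat.not_even_iff_odd.2 hodd)
      rw [← h3]
      refine mul_dvd_mul (dvd_mul_right _ _) (h2fac _ ?_ ?_)
      · have : d.gcd s ≠ 0 := by rintro h0; rw [h0] at hodd; simp at hodd
        omega
      · omega
  · have hcop : IsCoprime g g₂ := hg.coprime_iff_not_dvd.2 hsame
    have hle : d ≤ g₂.natDegree := by
      set e := g₂.natDegree with he
      have hmuQ : mu ^ (q ^ (2 * e)) = mu := by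
        have h3 := hg₂i.natDegree_dvd_iff_dvd_X_pow_card_pow_sub_X.1 (dvd_refl g₂.natDegree)
        rw [← Fintype.card_eq_nat_card, hF, ← pow_mul] at h3
        obtain ⟨c, hc⟩ := h3
        have := congrArg (aeval mu) hc
        rw [map_mul, minpoly.aeval, zero_mul, map_sub, map_pow, aeval_X, sub_eq_zero] at this
        exact this
      have hlamQ : lam ^ (q ^ (2 * e)) = lam := by
        apply ψ.injective
        rw [hmu, inv_pow, inv_inj, ← pow_mul, mul_comm, pow_mul] at hmuQ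
        rw [hψ, hψ]
        exact hmuQ
      apply Nat.le_of_dvd (by have := hg₂i.natDegree_pos; omega)
      refine hg.natDegree_dvd_of_dvd_X_pow_card_pow_sub_X ?_
      rw [← Fintype.card_eq_nat_card, hF, ← pow_mul, ← AdjoinRoot.mk_eq_zero, map_sub, map_pow,
        AdjoinRoot.mk_X, sub_eq_zero]
      exact hlamQ
    have hb := GL.two_mul_natDegree_add_two_le (Matrix.toLinAlgEquiv' MB) (Matrix.toLinAlgEquiv' N)
      (by simp; omega) (hN.map Matrix.toLinAlgEquiv') (fun h => hN0 (by simpa using h))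
      (hc.map Matrix.toLinAlgEquiv') hg hg₂i (by rwa [minpoly.algEquiv_eq]) (by rwa [minpoly.algEquiv_eq])
      hcop hle
    simp only [Module.finrank_fintype_fun_eq_card, Fintype.card_fin] at hb
    apply orderOf_dvd_iff_pow_eq_one.1
    refine hord.trans (Dvd.dvd.mul_left ?_ _)
    rw [show q ^ (2 * d) - 1 = fac q (2 * d) from (if_pos (even_two_mul d)).symm]
    exact h2fac _ (by omega) (by omega)

/-- Let q be a power of the prime p, F the field with q² elements, m ≥ 4, and let a, b be commuting elements of PSU(m, q) with a of order p. Then every prime divisor of the order of b divides the order of SU(m − 2, q). -/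
theorem result {F : Type*} [Field F] [Fintype F] (p : ℕ) [Fact p.Prime] [CharP F p] (m q : ℕ) (hm : 4 ≤ m) (hF : Fintype.card F = q ^ 2)
    (a b : Cfsg.PSU m F q) (ha : orderOf a = p) (hab : Commute a b) :
    (orderOf b).primeFactors ⊆ (Nat.card ↥(Cfsg.SU (m - 2) F q)).primeFactors := by
  classical
  have hp := (Fact.out : p.Prime)
  haveI : Nonempty (Fin m) := ⟨⟨0, by omega⟩⟩
  obtain ⟨A, rfl⟩ := QuotientGroup.mk'_surjective _ a
  obtain ⟨B, rfl⟩ := QuotientGroup.mk'_surjective _ b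
  set Z := Subgroup.center ↥(Cfsg.SU m F q) with hZ
  set MA : Matrix (Fin m) (Fin m) F := (A.1 : Matrix (Fin m) (Fin m) F) with hMA
  set MB : Matrix (Fin m) (Fin m) F := (B.1 : Matrix (Fin m) (Fin m) F) with hMB
  have hscal : ∀ w : Cfsg.SU m F q, w ∈ Z → (w.1 : Matrix (Fin m) (Fin m) F) =
      Matrix.scalar (Fin m) ((w.1 : Matrix (Fin m) (Fin m) F) ⟨0, by omega⟩ ⟨0, by omega⟩) := by
    intro w hw
    ext r s
    rw [Matrix.scalar_apply]
    by_cases h : r = s
    · subst h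
      rw [Matrix.diagonal_apply_eq]
      by_cases h0 : r = ⟨0, by omega⟩
      · rw [h0]
      · exact (Forms.center_SU_diagonal hF w hw r ⟨0, by omega⟩ h0).2
    · rw [Matrix.diagonal_apply_ne _ h]
      exact (Forms.center_SU_diagonal hF w hw r s h).1
  -- `A ^ p` is scalar
  have hApZ : A ^ p ∈ Z := by
    rw [← QuotientGroup.eq_one_iff]
    exact (map_pow (QuotientGroup.mk' Z) A p).trans (ha ▸ pow_orderOf_eq_one _)
  obtain ⟨z, hz⟩ : ∃ z, Matrix.scalar (Fin m) z = MA ^ p := by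
    refine ⟨((A ^ p : Cfsg.SU m F q).1 : Matrix (Fin m) (Fin m) F) ⟨0, by omega⟩ ⟨0, by omega⟩, ?_⟩
    rw [← hscal _ hApZ, hMA, SubgroupClass.coe_pow, Matrix.SpecialLinearGroup.coe_pow]
  obtain ⟨c, hc⟩ := (frobeniusEquiv F p).surjective z
  rw [frobeniusEquiv_apply] at hc
  set N := MA - Matrix.scalar (Fin m) c with hN
  have hNp : N ^ p = 0 := by
    rw [hN, sub_pow_char_of_commute (p := p) (Matrix.scalar_commute c (fun r => Commute.all _ r) MA).symm,
      ← map_pow, show c ^ p = z from hc]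
    exact sub_eq_zero.2 hz.symm
  have hsc : ∀ (r : F) (M : Matrix (Fin m) (Fin m) F), Commute (Matrix.scalar (Fin m) r) M :=
    fun r M => Matrix.scalar_commute r (fun r' => Commute.all _ r') M
  have hN0 : N ≠ 0 := by
    intro h
    rw [hN, sub_eq_zero] at h
    have hmem : A ∈ Z := Subgroup.mem_center_iff.2 fun w => by
      apply Subtype.ext
      apply Subtype.ext
      show (w.1 : Matrix (Fin m) (Fin m) F) * MA = MA * (w.1 : Matrix (Fin m) (Fin m) F)
      rw [h, (hsc c _).eq]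
    have h1 : QuotientGroup.mk' Z A = 1 := (QuotientGroup.eq_one_iff A).2 hmem
    rw [h1, orderOf_one] at ha
    exact hp.ne_one ha.symm
  -- `A` and `B` commute
  have hcomZ : (A * B) * (B * A)⁻¹ ∈ Z := by
    rw [← QuotientGroup.eq_one_iff]
    show QuotientGroup.mk' Z (A * B * (B * A)⁻¹) = 1
    rw [map_mul, map_inv, map_mul, map_mul, mul_inv_eq_one]
    exact hab
  set μ := ((A * B * (B * A)⁻¹ : Cfsg.SU m F q).1 : Matrix (Fin m) (Fin m) F) ⟨0, by omega⟩ ⟨0, by omega⟩
    with hμdef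
  have hμ : Matrix.scalar (Fin m) μ = ((A * B * (B * A)⁻¹ : Cfsg.SU m F q).1 : Matrix (Fin m) (Fin m) F) :=
    (hscal _ hcomZ).symm
  have hAB : MA * MB = Matrix.scalar (Fin m) μ * (MB * MA) := by
    rw [hμ, hMA, hMB, ← Matrix.SpecialLinearGroup.coe_mul, ← Matrix.SpecialLinearGroup.coe_mul,
      ← Matrix.SpecialLinearGroup.coe_mul, ← Subgroup.coe_mul, ← Subgroup.coe_mul, ← Subgroup.coe_mul,
      inv_mul_cancel_right]
  have hμp : μ ^ p = 1 := by
    have h1 : ∀ k : ℕ, MA ^ k * MB = Matrix.scalar (Fin m) (μ ^ k) * (MB * MA ^ k) := by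
      intro k
      induction k with
      | zero => simp
      | succ k ih =>
        rw [pow_succ, mul_assoc, hAB, ← mul_assoc, ← (hsc μ _).eq, mul_assoc, ← mul_assoc (MA ^ k), ih,
          ← mul_assoc, ← mul_assoc, ← map_mul, ← pow_succ', mul_assoc, mul_assoc]
    have h2 := h1 p
    rw [← hz, (hsc z _).eq, ← mul_assoc] at h2
    have hB : IsUnit MB := (Matrix.SpecialLinearGroup.toGL B.1).isUnit
    have h3 : MB * Matrix.scalar (Fin m) z = MB * Matrix.scalar (Fin m) (μ ^ p * z) := by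
      rw [h2, map_mul, ← mul_assoc, (hsc (μ ^ p) MB).eq]
    have h4 := congrFun (congrFun (hB.mul_left_cancel h3) (Classical.arbitrary _)) (Classical.arbitrary _)
    simp [Matrix.scalar_apply] at h4
    have hz0 : z ≠ 0 := by
      intro h0
      have h5 := congrArg Matrix.det hz
      rw [Matrix.det_pow, Matrix.SpecialLinearGroup.det_coe, h0, map_zero, Matrix.det_zero, one_pow] at h5
      exact zero_ne_one h5
    exact mul_right_cancel₀ hz0 (by rw [one_mul]; exact h4.symm)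
  have hμ1 : μ = 1 := by
    have h1 : (μ - 1) ^ p = 0 := by rw [sub_pow_char, one_pow, hμp, sub_self]
    exact sub_eq_zero.1 (eq_zero_of_pow_eq_zero h1)
  rw [hμ1, map_one, one_mul] at hAB
  have hcomm : Commute MB N := Commute.sub_right hAB.symm (hsc c MB).symm
  have hq2 : 2 ≤ q := Forms.one_lt_q hF
  set σMB : Matrix (Fin m) (Fin m) F := MB.map (fun x => x ^ q) with hσdef
  have hM : MBᵀ * σMB = 1 := by
    ext i j
    have h : hermForm m F q (MB *ᵥ Pi.single i 1) (MB *ᵥ Pi.single j 1) =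
        hermForm m F q (Pi.single i 1) (Pi.single j 1) := B.2 _ _
    rw [Matrix.mulVec_single_one, Matrix.mulVec_single_one] at h
    have h2 : hermForm m F q (Pi.single i (1 : F)) (Pi.single j 1) = (1 : Matrix (Fin m) (Fin m) F) i j := by
      simp [hermForm, Pi.single_apply, Matrix.one_apply, zero_pow (show q ≠ 0 by omega), eq_comm]
    rw [h2] at h
    rw [← h, Matrix.mul_apply]
    rfl
  set L := 2 * (q ^ 2 - 1) * ∏ j ∈ Finset.Icc 2 (m - 2), fac q j with hL
  have hne : minpoly F MB ≠ 0 := minpoly.ne_zero (Algebra.IsIntegral.isIntegral MB)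
  have hfac : ∀ g, Irreducible g → g ∣ minpoly F MB → g ∣ X ^ L - 1 := fun g hg hgd =>
    factor_dvd p hm hF MB σMB N (fun _ _ => rfl) hM ⟨p, hNp⟩ hN0 hcomm hg hgd
      (GL.not_dvd_X_of_dvd_charpoly (Matrix.SpecialLinearGroup.toGL B.1) hg
        (hgd.trans (Matrix.minpoly_dvd_charpoly MB)))
  have h1 := GL.dvd_pow_natDegree_of_irreducible_factors _ hne _ hfac
  set e := Nat.clog p m
  have hdeg : (minpoly F MB).natDegree ≤ p ^ e := by
    refine le_trans ((Polynomial.natDegree_le_of_dvd (Matrix.minpoly_dvd_charpoly MB)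
      (Matrix.charpoly_monic MB).ne_zero).trans ?_) (Nat.le_pow_clog hp.one_lt m)
    rw [Matrix.charpoly_natDegree_eq_dim, Fintype.card_fin]
  obtain ⟨r, hr⟩ := h1.trans (pow_dvd_pow _ hdeg)
  have h2 := congrArg (aeval MB) hr
  rw [sub_pow_char_pow, one_pow, ← pow_mul, map_mul, minpoly.aeval, zero_mul] at h2
  simp only [map_sub, map_pow, aeval_X, map_one, sub_eq_zero] at h2
  have hB1 : B ^ (L * p ^ e) = 1 := by
    apply Subtype.ext
    apply Subtype.ext
    rw [SubgroupClass.coe_pow, Matrix.SpecialLinearGroup.coe_pow, OneMemClass.coe_one,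
      Matrix.SpecialLinearGroup.coe_one]
    exact h2
  intro r hr'
  rw [Nat.mem_primeFactors] at hr' ⊢
  obtain ⟨hr1, hr2, -⟩ := hr'
  refine ⟨hr1, prime_dvd_card_SU hF (by omega) ?_, Nat.card_pos.ne'⟩
  have h3 : r ∣ L * p ^ e := hr2.trans (orderOf_dvd_of_pow_eq_one (by rw [← map_pow, hB1, map_one]))
  obtain ⟨k, -, hk⟩ := FiniteField.card F p
  have hpq : p ∣ q := hp.dvd_of_dvd_pow (n := 2) (by rw [← hF, hk]; exact dvd_pow_self p k.pos.ne')
  have hf2 : fac q 2 = q ^ 2 - 1 := if_pos even_two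
  rcases hr1.dvd_mul.1 h3 with h | h
  · rw [hL] at h
    rcases hr1.dvd_mul.1 h with h' | h'
    · rcases hr1.dvd_mul.1 h' with h'' | h''
      · obtain rfl := (Nat.prime_dvd_prime_iff_eq hr1 Nat.prime_two).1 h''
        rcases Nat.even_or_odd q with he | ho
        · exact Or.inl (even_iff_two_dvd.1 he)
        · refine Or.inr ⟨2, le_rfl, by omega, ?_⟩
          rw [hf2]
          obtain ⟨t, rfl⟩ := ho
          exact ⟨2 * t * t + 2 * t, by rw [show (2 * t + 1) ^ 2 = 2 * (2 * t * t + 2 * t) + 1 by ring]; omega⟩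
      · exact Or.inr ⟨2, le_rfl, by omega, by rwa [hf2]⟩
    · obtain ⟨j, hj, hjr⟩ := (hr1.prime.dvd_finsetProd_iff _).1 h'
      rw [Finset.mem_Icc] at hj
      exact Or.inr ⟨j, hj.1, hj.2, hjr⟩
  · exact Or.inl (((Nat.prime_dvd_prime_iff_eq hr1 hp).1 (hr1.dvd_of_dvd_pow h)) ▸ hpq)

end Cfsg.Agent.S2365
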