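import Cfsg.Statements.S2367
-- import your own Cfsg.Agent.* helpers here

set_option autoImplicit false
open Cfsg

namespace Cfsg.Agent.S2367

theorem sporadic_bound (N p v : ℕ) (L : List ℕ) (hp : p.Prime) (hp2 : p ≠ 2) (h3 : N.factorization p = 3)
    (hv : 2 ^ v ∣ N) (hN : N ∣ L.prod ^ 46) (hL : ∀ r ∈ L, r = 2 ∨ N % r ^ 3 ≠ 0 ∨ N % r ^ 4 = 0 ∨ r ^ 3 < 2 ^ v)
    (hpr : ∀ r ∈ L, r.Prime) : p ^ 3 < 2 ^ N.factorization 2 := by
  have hN0 : N ≠ 0 := by rintro rfl; simp at h3
  have hpN : p ∣ N := Nat.dvd_of_factorization_pos (by rw [h3]; norm_num)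
  obtain ⟨r, hr, hpr'⟩ := (hp.prime.dvd_prod_iff (L := L)).1 (hp.dvd_of_dvd_pow (hpN.trans hN))
  obtain rfl : p = r := (Nat.prime_dvd_prime_iff_eq hp (hpr r hr)).1 hpr'
  have h3' : p ^ 3 ∣ N := (hp.pow_dvd_iff_le_factorization hN0).2 h3.ge
  have h4 : ¬ p ^ 4 ∣ N := fun h => by have := (hp.pow_dvd_iff_le_factorization hN0).1 h; omega
  rcases hL p hr with h | h | h | h
  · exact absurd h hp2
  · exact absurd (Nat.mod_eq_zero_of_dvd h3') h
  · exact absurd (Nat.dvd_of_mod_eq_zero h) h4
  · exact h.trans_le (Nat.pow_le_pow_right two_pos ((Nat.prime_two.pow_dvd_iff_le_factorization hN0).1 hv))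

theorem cube_lt_two_pow (p : ℕ) (hp : 3 ≤ p) : p ^ 3 < 2 ^ (2 * p - 1) := by
  induction p, hp using Nat.le_induction with
  | base => norm_num
  | succ p hp ih =>
    rw [show 2 * (p + 1) - 1 = (2 * p - 1) + 2 by omega, pow_add]
    nlinarith [Nat.mul_le_mul hp hp]

theorem alternating_bound (n p : ℕ) (hp : p.Prime) (hp2 : p ≠ 2) (hn : 2 ≤ n)
    (h3 : (Nat.card (alternatingGroup (Fin n))).factorization p = 3) :
    p ^ 3 < 2 ^ (Nat.card (alternatingGroup (Fin n))).factorization 2 := by
  have : Nontrivial (Fin n) := Fin.nontrivial_iff_two_le.2 hn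
  have hA : 2 * Nat.card (alternatingGroup (Fin n)) = n.factorial := by
    rw [two_mul_nat_card_alternatingGroup, Nat.card_perm, Nat.card_fin]
  set a := Nat.card (alternatingGroup (Fin n))
  have ha : a ≠ 0 := by rintro h; rw [h, mul_zero] at hA; exact n.factorial_ne_zero hA.symm
  have hf : ∀ r, n.factorial.factorization r = (2 : ℕ).factorization r + a.factorization r := fun r => by
    rw [← hA, Nat.factorization_mul two_ne_zero ha]; rfl
  have hp3 : 3 ≤ p := by have := hp.two_le; omega
  have hn3 : 3 * p ≤ n := by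
    by_contra h
    push Not at h
    have h1 := hf p
    rw [h3, Nat.Prime.factorization Nat.prime_two, Finsupp.single_eq_of_ne hp2] at h1
    rw [Nat.factorization_factorial hp (n := n) (b := 2)
      (Nat.log_lt_of_lt_pow (by omega) (by nlinarith))] at h1
    simp at h1
    have h2 : n / p < 3 := (Nat.div_lt_iff_lt_mul hp.pos).2 (by omega)
    omega
  have h2 := hf 2
  rw [Nat.Prime.factorization Nat.prime_two, Finsupp.single_eq_same,
    Nat.factorization_factorial Nat.prime_two (n := n) (b := Nat.log 2 n + 3) (by omega)] at h2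
  have h4 : n / 2 + n / 4 ≤ ∑ i ∈ Finset.Ico 1 (Nat.log 2 n + 3), n / 2 ^ i := by
    refine le_trans (le_of_eq ?_) (Finset.sum_le_sum_of_subset (s := {1, 2}) (by intro i hi; simp at hi ⊢; omega))
    rw [Finset.sum_pair (by norm_num)]; norm_num
  refine (cube_lt_two_pow p hp3).trans_le (Nat.pow_le_pow_right two_pos ?_)
  obtain ⟨k, rfl⟩ := hp.odd_of_ne_two hp2
  omega

/-- Let G be an alternating group of degree at least 5 or a simple group with the order of one of the 26 sporadic groups, and let p be an odd prime such that p³ is the exact power of p dividing the order of G. Then p³ is less than the 2-part of the order of G. -/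
theorem result {G : Type*} [Group G] [Finite G] (hG : Cfsg.IsAlternating G ∨ Cfsg.IsSporadic G)
    (p : ℕ) (hp : p.Prime) (hodd : p ≠ 2) (h3 : (Nat.card G).factorization p = 3) :
    p ^ 3 < 2 ^ (Nat.card G).factorization 2 := by
  rcases hG with ⟨n, hn, ⟨e⟩⟩ | hS
  · rw [Nat.card_congr e.toEquiv] at h3 ⊢
    exact alternating_bound n p hp hodd (by omega) h3
  · rcases hS with h | h | h | h | h | h | h | h | h | h | h | h | h | h | h | h | h | h | h | h | h | h | h | h | h | h
    · exact sporadic_bound 7920 p 4 [2, 3, 5, 11] hp hodd (h.2 ▸ h3) (by decide) (by decide) (by decide) (by norm_num) |> fun this => h.2.symm ▸ this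
    · exact sporadic_bound 95040 p 6 [2, 3, 5, 11] hp hodd (h.2 ▸ h3) (by decide) (by decide) (by decide) (by norm_num) |> fun this => h.2.symm ▸ this
    · exact sporadic_bound 443520 p 7 [2, 3, 5, 7, 11] hp hodd (h.2 ▸ h3) (by decide) (by decide) (by decide) (by norm_num) |> fun this => h.2.symm ▸ this
    · exact sporadic_bound 10200960 p 7 [2, 3, 5, 7, 11, 23] hp hodd (h.2 ▸ h3) (by decide) (by decide) (by decide) (by norm_num) |> fun this => h.2.symm ▸ this
    · exact sporadic_bound 244823040 p 10 [2, 3, 5, 7, 11, 23] hp hodd (h.2 ▸ h3) (by decide) (by decide) (by decide) (by norm_num) |> fun this => h.2.symm ▸ this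
    · exact sporadic_bound 175560 p 3 [2, 3, 5, 7, 11, 19] hp hodd (h.2 ▸ h3) (by decide) (by decide) (by decide) (by norm_num) |> fun this => h.2.symm ▸ this
    · exact sporadic_bound 604800 p 7 [2, 3, 5, 7] hp hodd (h.2 ▸ h3) (by decide) (by decide) (by decide) (by norm_num) |> fun this => h.2.symm ▸ this
    · exact sporadic_bound 50232960 p 7 [2, 3, 5, 17, 19] hp hodd (h.2 ▸ h3) (by decide) (by decide) (by decide) (by norm_num) |> fun this => h.2.symm ▸ this
    · exact sporadic_bound 86775571046077562880 p 21 [2, 3, 5, 7, 11, 23, 29, 31, 37, 43] hp hodd (h.2 ▸ h3) (by decide) (by decide) (by decide) (by norm_num) |> fun this => h.2.symm ▸ this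
    · exact sporadic_bound 4157776806543360000 p 21 [2, 3, 5, 7, 11, 13, 23] hp hodd (h.2 ▸ h3) (by decide) (by decide) (by decide) (by norm_num) |> fun this => h.2.symm ▸ this
    · exact sporadic_bound 42305421312000 p 18 [2, 3, 5, 7, 11, 23] hp hodd (h.2 ▸ h3) (by decide) (by decide) (by decide) (by norm_num) |> fun this => h.2.symm ▸ this
    · exact sporadic_bound 495766656000 p 10 [2, 3, 5, 7, 11, 23] hp hodd (h.2 ▸ h3) (by decide) (by decide) (by decide) (by norm_num) |> fun this => h.2.symm ▸ this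
    · exact sporadic_bound 64561751654400 p 17 [2, 3, 5, 7, 11, 13] hp hodd (h.2 ▸ h3) (by decide) (by decide) (by decide) (by norm_num) |> fun this => h.2.symm ▸ this
    · exact sporadic_bound 4089470473293004800 p 18 [2, 3, 5, 7, 11, 13, 17, 23] hp hodd (h.2 ▸ h3) (by decide) (by decide) (by decide) (by norm_num) |> fun this => h.2.symm ▸ this
    · exact sporadic_bound 1255205709190661721292800 p 21 [2, 3, 5, 7, 11, 13, 17, 23, 29] hp hodd (h.2 ▸ h3) (by decide) (by decide) (by decide) (by norm_num) |> fun this => h.2.symm ▸ this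
    · exact sporadic_bound 44352000 p 9 [2, 3, 5, 7, 11] hp hodd (h.2 ▸ h3) (by decide) (by decide) (by decide) (by norm_num) |> fun this => h.2.symm ▸ this
    · exact sporadic_bound 898128000 p 7 [2, 3, 5, 7, 11] hp hodd (h.2 ▸ h3) (by decide) (by decide) (by decide) (by norm_num) |> fun this => h.2.symm ▸ this
    · exact sporadic_bound 4030387200 p 10 [2, 3, 5, 7, 17] hp hodd (h.2 ▸ h3) (by decide) (by decide) (by decide) (by norm_num) |> fun this => h.2.symm ▸ this
    · exact sporadic_bound 145926144000 p 14 [2, 3, 5, 7, 13, 29] hp hodd (h.2 ▸ h3) (by decide) (by decide) (by decide) (by norm_num) |> fun this => h.2.symm ▸ this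
    · exact sporadic_bound 448345497600 p 13 [2, 3, 5, 7, 11, 13] hp hodd (h.2 ▸ h3) (by decide) (by decide) (by decide) (by norm_num) |> fun this => h.2.symm ▸ this
    · exact sporadic_bound 460815505920 p 9 [2, 3, 5, 7, 11, 19, 31] hp hodd (h.2 ▸ h3) (by decide) (by decide) (by decide) (by norm_num) |> fun this => h.2.symm ▸ this
    · exact sporadic_bound 273030912000000 p 14 [2, 3, 5, 7, 11, 19] hp hodd (h.2 ▸ h3) (by decide) (by decide) (by decide) (by norm_num) |> fun this => h.2.symm ▸ this
    · exact sporadic_bound 51765179004000000 p 8 [2, 3, 5, 7, 11, 31, 37, 67] hp hodd (h.2 ▸ h3) (by decide) (by decide) (by decide) (by norm_num) |> fun this => h.2.symm ▸ this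
    · exact sporadic_bound 90745943887872000 p 15 [2, 3, 5, 7, 13, 19, 31] hp hodd (h.2 ▸ h3) (by decide) (by decide) (by decide) (by norm_num) |> fun this => h.2.symm ▸ this
    · exact sporadic_bound 4154781481226426191177580544000000 p 41 [2, 3, 5, 7, 11, 13, 17, 19, 23, 31, 47] hp hodd (h.2 ▸ h3) (by decide) (by decide) (by decide) (by norm_num) |> fun this => h.2.symm ▸ this
    · exact sporadic_bound 808017424794512875886459904961710757005754368000000000 p 46 [2, 3, 5, 7, 11, 13, 17, 19, 23, 29, 31, 41, 47, 59, 71] hp hodd (h.2 ▸ h3) (by decide) (by decide) (by decide) (by norm_num) |> fun this => h.2.symm ▸ this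

end Cfsg.Agent.S2367
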