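import Cfsg.Statements.S2368
import Cfsg.Agent.Lib.GL.ElementOrders

set_option autoImplicit false
open Cfsg

namespace Cfsg.Agent.S2368

/-- Let F be a finite field of characteristic p and m ≥ 1. Every element of GL(m, F) of p-power order has order less than p·m, and GL(m, F) has an element of p-power order at least m; so the largest order of a p-element of GL(m, F) is the least power of p that is at least m. -/
theorem result {F : Type*} [Field F] [Fintype F] (p : ℕ) [Fact p.Prime] [CharP F p] (m : ℕ) (hm : 1 ≤ m) :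
    (∀ g : Matrix.GeneralLinearGroup (Fin m) F, (∃ j : ℕ, orderOf g = p ^ j) → orderOf g < p * m) ∧
      ∃ g : Matrix.GeneralLinearGroup (Fin m) F, (∃ j : ℕ, orderOf g = p ^ j) ∧ m ≤ orderOf g := by
  have hp := (Fact.out : p.Prime)
  refine ⟨fun g hg => ?_, ?_⟩
  · obtain ⟨j, hj⟩ := hg
    set e := Nat.clog p m with he
    obtain ⟨L, hL, hcop⟩ : ∃ L, (∀ d, 1 ≤ d → d ≤ Fintype.card (Fin m) → Fintype.card F ^ d - 1 ∣ L) ∧ p.Coprime L := by
      refine ⟨∏ d ∈ Finset.Icc 1 m, (Fintype.card F ^ d - 1), fun d h1 h2 =>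
        Finset.dvd_prod_of_mem _ (Finset.mem_Icc.2 ⟨h1, by simpa using h2⟩), ?_⟩
      refine Nat.Coprime.prod_right fun d hd => ?_
      obtain ⟨n, -, hn⟩ := FiniteField.card F p
      have h1 : 1 ≤ Fintype.card F ^ d := Nat.one_le_pow _ _ Fintype.card_pos
      rw [hp.coprime_iff_not_dvd]
      intro hdvd
      have h2 : p ∣ Fintype.card F ^ d := by
        have hd1 := (Finset.mem_Icc.1 hd).1
        exact dvd_pow (by rw [hn]; exact dvd_pow_self p n.pos.ne') (by omega)
      have h3 := Nat.dvd_sub h2 hdvd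
      rw [Nat.sub_sub_self h1] at h3
      exact hp.ne_one (Nat.dvd_one.1 h3)
    have h1 : g ^ (L * p ^ e) = 1 :=
      GL.pow_eq_one_of_exponent p (by simpa using Nat.le_pow_clog hp.one_lt m) hL g
    have h2 : p ^ j ∣ L * p ^ e := hj ▸ orderOf_dvd_of_pow_eq_one h1
    have h3 : p ^ j ∣ p ^ e := (Nat.Coprime.pow_left j hcop).dvd_of_dvd_mul_left h2
    have h4 := Nat.le_of_dvd (pow_pos hp.pos _) h3
    rw [hj]
    refine lt_of_le_of_lt h4 ?_
    rcases Nat.lt_or_ge 1 m with hm1 | hm1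
    · have h5 : p ^ (e - 1) < m := Nat.pow_pred_clog_lt_self hp.one_lt hm1
      have h6 : 0 < e := Nat.clog_pos hp.one_lt hm1
      calc p ^ e = p * p ^ (e - 1) := by rw [← pow_succ', Nat.sub_add_cancel h6]
        _ < p * m := Nat.mul_lt_mul_of_pos_left h5 hp.pos
    · obtain rfl : m = 1 := by omega
      simp [he, hp.one_lt]
  · obtain ⟨A, hA⟩ := GL.exists_orderOf_unipotent (F := F) p m
    exact ⟨A, ⟨_, hA⟩, hA ▸ Nat.le_pow_clog hp.one_lt m⟩

end Cfsg.Agent.S2368
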