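import Cfsg.Statements.S2369
import Cfsg.Agent.Lib.Twisted.F4.InvolutionPrimes

set_option autoImplicit false
open Cfsg

namespace Cfsg.Agent.S2369

/-- Let q = 2^(2m+1) with m ≥ 1 and let a, b be commuting elements of the large Ree group ²F₄(q) with a an involution. Then every prime divisor of the order of b divides q(q⁴ − 1). -/
theorem result {K : Type*} [Field K] [Fintype K] (m : ℕ) (hm : 1 ≤ m) (hK : Fintype.card K = 2 ^ (2 * m + 1))
    (a b : ↥(Cfsg.Lie.twistedF4 K (2 ^ m))) (ha : orderOf a = 2) (hab : Commute a b) :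
    (orderOf b).primeFactors ⊆ (2 ^ (2 * m + 1) * ((2 ^ (2 * m + 1)) ^ 4 - 1)).primeFactors := by
  haveI := Cfsg.Agent.Twisted.F4.charP_two hK
  intro r hr
  obtain ⟨hrp, hrd, -⟩ := Nat.mem_primeFactors.1 hr
  obtain ⟨k, hk⟩ := hrd
  have hk0 : k ≠ 0 := fun h => (orderOf_pos b).ne' (by rw [hk, h, mul_zero])
  have hbo : orderOf (b ^ k) = r := by
    rw [orderOf_pow' b hk0, Nat.gcd_eq_right ⟨r, by rw [hk, mul_comm]⟩, hk,
      Nat.mul_div_cancel _ (Nat.pos_of_ne_zero hk0)]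
  have h := Cfsg.Agent.Twisted.F4.dvd_of_commute_involution hK hrp ha hbo (hab.pow_right k)
  rw [hK] at h
  refine Nat.mem_primeFactors.2 ⟨hrp, h, ?_⟩
  refine mul_ne_zero (pow_ne_zero _ two_ne_zero) (Nat.sub_ne_zero_of_lt ?_)
  exact Nat.one_lt_pow (by norm_num) (Nat.one_lt_pow (by omega) (by norm_num))

end Cfsg.Agent.S2369
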