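import Cfsg.Statements.S2370
import Cfsg.Agent.Lib.Chev.Sylow
import Cfsg.Agent.Lib.Chev.CheckF4

set_option autoImplicit false
open Cfsg

namespace Cfsg.Agent.S2370

/-- Height of each root of F4, shifted by 11. -/
def heights : List ℕ := [0, 1, 2, 3, 4, 5, 6, 4, 5, 6, 7, 7, 8, 9, 10, 6, 7, 8, 8, 9, 10, 9, 10, 10, 12, 12, 13, 12, 13, 14, 14, 15, 16, 12, 13, 14, 15, 15, 16, 17, 18, 16, 17, 18, 19, 20, 21, 22]

theorem heights_ok : Chev.ChevSylow.LevelChecked Lie.chevF4 heights 11 := by decide +kernel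

theorem heights_lt : ∀ s < 48, heights.getD s 0 < 32 := by decide +kernel

/-- Let q = 2^(2m+1) with m ≥ 1. Every element of 2-power order of the large Ree group ²F₄(q) has order at most 32. -/
theorem result {K : Type*} [Field K] [Fintype K] (m : ℕ) (hm : 1 ≤ m) (hK : Fintype.card K = 2 ^ (2 * m + 1))
    (x : ↥(Cfsg.Lie.twistedF4 K (2 ^ m))) (hx : ∃ j : ℕ, orderOf x = 2 ^ j) : orderOf x ≤ 32 := by
  obtain ⟨j, hj⟩ := hx
  haveI : Fact (Nat.Prime 2) := ⟨Nat.prime_two⟩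
  haveI : CharP K 2 := by
    obtain ⟨p, hp⟩ := CharP.exists K
    obtain ⟨n, hpr, hn⟩ := FiniteField.card K p
    have hd : p ∣ 2 ^ (2 * m + 1) := by rw [← hK, hn]; exact dvd_pow_self p n.pos.ne'
    rwa [(Nat.prime_dvd_prime_iff_eq hpr Nat.prime_two).1 (hpr.dvd_of_dvd_pow hd)] at hp
  have hG := Chev.F4.good
  have hx : (x : GL Lie.chevF4.Idx K) ∈ Lie.chevF4.group K :=
    Chev.ChevSylow.genSubgroup_le_group hG _ x.2
  rw [← Subgroup.orderOf_coe] at hj ⊢
  obtain ⟨g, hg⟩ := Chev.ChevSylow.exists_conj_mem_U 2 hG Chev.BNSetup.facts_chevF4 hx hj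
  have hy := Chev.ChevSylow.posUnipotent_le_unitri_lev heights_ok hg
  have h0 := Chev.pow_sub_one_eq_zero hy (n := 32) (fun i => by
    rcases i with i | s
    · exact (by norm_num : 11 < 32)
    · exact heights_lt s.val s.2)
  haveI : CharP (Matrix Lie.chevF4.Idx Lie.chevF4.Idx K) 2 :=
    charP_of_injective_ringHom (f := Matrix.scalar Lie.chevF4.Idx) (by
      intro a b h
      have hne : Nonempty Lie.chevF4.Idx := ⟨Sum.inl ⟨0, by decide⟩⟩
      exact Matrix.scalar_inj.1 h) 2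
  rw [show (32 : ℕ) = 2 ^ 5 from rfl, sub_pow_char_pow_of_commute (p := 2) (n := 5) (Commute.one_right _), one_pow,
    sub_eq_zero, ← Units.val_pow_eq_pow_val] at h0
  have h1 : (g * (x : GL Lie.chevF4.Idx K) * g⁻¹) ^ (32 : ℕ) = 1 := Units.ext h0
  rw [conj_pow, conj_eq_one_iff] at h1
  exact orderOf_le_of_pow_eq_one (by norm_num) h1

end Cfsg.Agent.S2370
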