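import Cfsg.Statements.S2372
import Cfsg.Agent.Lib.LangSteinberg.TorusF4
-- import your own Cfsg.Agent.* helpers here

set_option autoImplicit false
open Cfsg

namespace Cfsg.Agent.S2372

/-- The group F₄(q) contains a cyclic subgroup of order q⁴ + 1 which is its own centralizer. -/
theorem result {F : Type*} [Field F] [Fintype F] (q : ℕ) (hF : Fintype.card F = q) :
    ∃ H : Subgroup ↥(Cfsg.Lie.chevF4.group F), IsCyclic ↥H ∧ Nat.card ↥H = q ^ 4 + 1 ∧
      Subgroup.centralizer (H : Set ↥(Cfsg.Lie.chevF4.group F)) = H := by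
  refine Agent.LangSteinberg.exists_torusF4 hF (hF ▸ Fintype.one_lt_card) ?_ fun _ => ?_
  · simp [Agent.LangSteinberg.TorusData.size, Agent.LangSteinberg.torusF4, Lie.chevF4, List.range_succ]
  · simp [Agent.LangSteinberg.TorusData.size, Agent.LangSteinberg.torusF4, Lie.chevF4, List.range_succ]

end Cfsg.Agent.S2372
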