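import Cfsg.Statements.S2373
import Cfsg.Agent.Lib.TorusE6E7.TorusE6
-- import your own Cfsg.Agent.* helpers here

set_option autoImplicit false
open Cfsg

namespace Cfsg.Agent.S2373

/-- The group E₆(q) (the simple Chevalley group of type E₆) contains a cyclic subgroup of order (q⁴ − q² + 1)(q² + q + 1)/gcd(3, q − 1) which is its own centralizer. -/
theorem result {F : Type*} [Field F] [Fintype F] (q : ℕ) (hF : Fintype.card F = q) :
    ∃ H : Subgroup ↥(Cfsg.Lie.chevE6.group F), IsCyclic ↥H ∧ Nat.card ↥H = (q ^ 4 - q ^ 2 + 1) * (q ^ 2 + q + 1) / Nat.gcd 3 (q - 1) ∧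
      Subgroup.centralizer (H : Set ↥(Cfsg.Lie.chevE6.group F)) = H := by
  have hq2 : 2 ≤ q := hF ▸ Fintype.one_lt_card
  obtain ⟨p, rfl⟩ : ∃ p, q = p + 1 := ⟨q - 1, by omega⟩
  have hs : (p + 1) ^ 4 - (p + 1) ^ 2 + 1 = (p + 1) ^ 2 * (p ^ 2 + 2 * p) + 1 := by
    rw [show (p + 1) ^ 4 = (p + 1) ^ 2 * (p ^ 2 + 2 * p) + (p + 1) ^ 2 by ring, Nat.add_sub_cancel]
  rw [hs]
  set m := ((p + 1) ^ 2 * (p ^ 2 + 2 * p) + 1) * ((p + 1) ^ 2 + (p + 1) + 1) with hmdef
  have hmod : m % 3 = 0 ↔ p % 3 = 0 := by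
    have hlt : p % 3 < 3 := Nat.mod_lt _ (by norm_num)
    rw [hmdef]
    simp [Nat.mul_mod, Nat.add_mod, Nat.pow_mod]
    generalize p % 3 = r at hlt ⊢
    interval_cases r <;> simp
  have hgcd : Nat.gcd 3 m = Nat.gcd 3 (p + 1 - 1) := by
    rw [Nat.gcd_rec 3 m, Nat.gcd_rec 3 (p + 1 - 1), Nat.add_sub_cancel]
    have hlt : p % 3 < 3 := Nat.mod_lt _ (by norm_num)
    have hlt' : m % 3 < 3 := Nat.mod_lt _ (by norm_num)
    generalize p % 3 = r at hlt hmod ⊢
    generalize m % 3 = u at hlt' hmod ⊢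
    interval_cases r <;> interval_cases u <;> first | rfl | omega
  rw [← hgcd]
  have hsize : Agent.LangSteinberg.TorusData.size Agent.TorusE6E7.torusE6 Lie.chevE6 (p + 1) = (m : ℤ) := by
    rw [Agent.LangSteinberg.TorusData.size, show Lie.chevE6.rank = 6 by rfl, hmdef]
    simp [Agent.TorusE6E7.torusE6, List.range_succ]
    ring
  refine Agent.TorusE6E7.exists_torusE6 hF hq2 hsize.symm (fun hl => ?_) (fun hd => ?_)
  · rw [hsize, show Lie.chevE6.rank = 6 by rfl, hmdef]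
    push_cast
    have : (12 : ℤ) ≤ (p : ℤ) := by omega
    nlinarith [pow_pos (show (0 : ℤ) < p + 1 by omega) 6, pow_pos (show (0 : ℤ) < p + 1 by omega) 5,
      pow_pos (show (0 : ℤ) < p + 1 by omega) 3]
  · have := Int.natCast_dvd_natCast.2 (Nat.dvd_of_mod_eq_zero (hmod.1 (Nat.mod_eq_zero_of_dvd hd)))
    push_cast at this ⊢
    simpa using this

end Cfsg.Agent.S2373
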