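import Cfsg.Statements.S2375
import Cfsg.Agent.Lib.LangSteinberg.TorusE8
-- import your own Cfsg.Agent.* helpers here

set_option autoImplicit false
open Cfsg

namespace Cfsg.Agent.S2375

/-- The group E₈(q) contains a cyclic subgroup of order q⁸ + q⁷ − q⁵ − q⁴ − q³ + q + 1 which is its own centralizer. -/
theorem result {F : Type*} [Field F] [Fintype F] (q : ℕ) (hF : Fintype.card F = q) :
    ∃ H : Subgroup ↥(Cfsg.Lie.chevE8.group F), IsCyclic ↥H ∧ Nat.card ↥H = q ^ 8 + q ^ 7 - q ^ 5 - q ^ 4 - q ^ 3 + q + 1 ∧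
      Subgroup.centralizer (H : Set ↥(Cfsg.Lie.chevE8.group F)) = H := by
  have hq : 2 ≤ q := hF ▸ Fintype.one_lt_card
  have h7 : q ^ 5 + q ^ 4 + q ^ 3 ≤ q ^ 7 := by
    have h1 : q ^ 5 = q ^ 3 * q ^ 2 := by ring
    have h2 : q ^ 4 = q ^ 3 * q := by ring
    have h3 : q ^ 7 = q ^ 3 * q ^ 4 := by ring
    have h4 : q ^ 2 + q + 1 ≤ q ^ 4 := by
      have : 4 ≤ q ^ 2 := by nlinarith
      have : q ^ 4 = q ^ 2 * q ^ 2 := by ring
      nlinarith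
    calc q ^ 5 + q ^ 4 + q ^ 3 = q ^ 3 * (q ^ 2 + q + 1) := by ring
      _ ≤ q ^ 3 * q ^ 4 := Nat.mul_le_mul_left _ h4
      _ = q ^ 7 := h3.symm
  have e : ((q ^ 8 + q ^ 7 - q ^ 5 - q ^ 4 - q ^ 3 + q + 1 : ℕ) : ℤ) =
      (q : ℤ) ^ 8 + (q : ℤ) ^ 7 - (q : ℤ) ^ 5 - (q : ℤ) ^ 4 - (q : ℤ) ^ 3 + q + 1 := by
    rw [Nat.cast_add, Nat.cast_add, Nat.cast_sub (by omega), Nat.cast_sub (by omega), Nat.cast_sub (by omega)]
    push_cast
    ring
  refine Agent.LangSteinberg.exists_torusE8 hF hq ?_ fun _ => ?_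
  · rw [e]
    simp [Agent.LangSteinberg.TorusData.size, Agent.LangSteinberg.torusE8, Lie.chevE8, List.range_succ]
    ring
  · have h7' : (q : ℤ) ^ 5 + (q : ℤ) ^ 4 + (q : ℤ) ^ 3 ≤ (q : ℤ) ^ 7 := by exact_mod_cast h7
    simp [Agent.LangSteinberg.TorusData.size, Agent.LangSteinberg.torusE8, Lie.chevE8, List.range_succ]
    linarith [Int.natCast_nonneg q]

end Cfsg.Agent.S2375
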