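import Cfsg.Statements.S2378
import Cfsg.Agent.Lib.LangSteinberg.SylowG2
import Cfsg.Agent.Lib.LangSteinberg.SylowB2
import Cfsg.Agent.Lib.LangSteinberg.SylowD4
import Cfsg.Agent.Lib.LangSteinberg.SylowF4
import Cfsg.Agent.Lib.LangSteinberg.SylowE6
import Cfsg.Agent.Lib.LangSteinberg.SylowE7
import Cfsg.Agent.Lib.LangSteinberg.SylowE8
import Cfsg.Agent.Lib.Chev.Order
import Cfsg.Agent.Lib.Chev.Poincare
import Cfsg.Agent.Lib.Chev.WeylCheckE8
-- import your own Cfsg.Agent.* helpers here

set_option autoImplicit false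
open Cfsg

namespace Cfsg.Agent.S2378

set_option maxRecDepth 100000
open Cfsg.Agent.LangSteinberg Cfsg.Agent.Chev.BNSetup

/-- Sylow subgroups for primes away from the characteristic and the Weyl group. Let `G` be the Chevalley group of type G₂, B₂, D₄, F₄, E₆, E₇ or E₈ over a field with `q` elements, with the degrees of its Weyl group listed beside the type (their product is the order of the Weyl group), and let `r` be a prime dividing the order of `G`, not dividing `q` and not dividing the order of the Weyl group. Let `d` be the multiplicative order of `q` modulo `r`, `a` the number of degrees divisible by `d`, and `m` the `r`-part of the value at `q` of the `d`-th cyclotomic polynomial. Then every Sylow `r`-subgroup of `G` is homocyclic: a direct product of `a` cyclic groups of order `m` (in particular abelian). -/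
theorem result {F : Type*} [Field F] [Fintype F] {q : ℕ} (hq : Fintype.card F = q)
    (c : Cfsg.Lie.ChevalleyDatum × List ℕ)
    (hc : c ∈ [(Cfsg.Lie.chevG2, [2, 6]), (Cfsg.Lie.chevB2, [2, 4]), (Cfsg.Lie.chevD4, [2, 4, 4, 6]), (Cfsg.Lie.chevF4, [2, 6, 8, 12]),
      (Cfsg.Lie.chevE6, [2, 5, 6, 8, 9, 12]), (Cfsg.Lie.chevE7, [2, 6, 8, 10, 12, 14, 18]), (Cfsg.Lie.chevE8, [2, 8, 12, 14, 18, 20, 24, 30])])
    (r : ℕ) [Fact r.Prime] (hrq : ¬ r ∣ q) (hrW : ¬ r ∣ c.2.prod) (hrG : r ∣ Nat.card ↥(c.1.group F)) (P : Sylow r ↥(c.1.group F)) :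
    Nonempty (↥(P : Subgroup ↥(c.1.group F)) ≃*
      (Fin (c.2.filter (fun e => orderOf (q : ZMod r) ∣ e)).length →
        Multiplicative (ZMod (r ^ padicValNat r ((Polynomial.cyclotomic (orderOf (q : ZMod r)) ℤ).eval (q : ℤ)).natAbs)))) := by
  simp only [List.mem_cons, List.not_mem_nil, or_false] at hc
  rcases hc with rfl | rfl | rfl | rfl | rfl | rfl | rfl
  · refine sylowG2 hq hrq hrW (g := Nat.gcd 1 (q - 1) ^ 0) (N := 6) ?_ ?_ P
    · exact fun h => hrW ((Fact.out : r.Prime).dvd_of_dvd_pow h |>.trans ((Nat.gcd_dvd_left _ _).trans (by decide)))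
    · have h := card_group (F := F) Cfsg.Agent.Chev.G2.good facts_chevG2 kerCertG2 kerCertG2_valid
        Cfsg.Agent.Chev.WeylTab.levelsG2 rfl Cfsg.Agent.Chev.WeylTab.levelsOK_G2
      simp only [show Cfsg.Lie.chevG2.rank = 2 from rfl, show Cfsg.Lie.chevG2.nroots / 2 = 6 from rfl,
        mul_assoc (Fintype.card F ^ 6), Cfsg.Agent.Chev.WeylTab.poincare_G2 (Fintype.card F) Fintype.card_pos] at h
      rw [← hq, h]
      simp only [List.map_cons, List.map_nil, List.prod_cons, List.prod_nil]
      ring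
  · refine sylowB2 hq hrq hrW (g := Nat.gcd 2 (q - 1) ^ 1) (N := 4) ?_ ?_ P
    · exact fun h => hrW ((Fact.out : r.Prime).dvd_of_dvd_pow h |>.trans ((Nat.gcd_dvd_left _ _).trans (by decide)))
    · have h := card_group (F := F) Cfsg.Agent.Chev.B2.good facts_chevB2 kerCertB2 kerCertB2_valid
        Cfsg.Agent.Chev.WeylTab.levelsB2 rfl Cfsg.Agent.Chev.WeylTab.levelsOK_B2
      simp only [show Cfsg.Lie.chevB2.rank = 2 from rfl, show Cfsg.Lie.chevB2.nroots / 2 = 4 from rfl,
        mul_assoc (Fintype.card F ^ 4), Cfsg.Agent.Chev.WeylTab.poincare_B2 (Fintype.card F) Fintype.card_pos] at h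
      rw [← hq, h]
      simp only [List.map_cons, List.map_nil, List.prod_cons, List.prod_nil]
      ring
  · refine sylowD4 hq hrq hrW (g := Nat.gcd 2 (q - 1) ^ 2) (N := 12) ?_ ?_ P
    · exact fun h => hrW ((Fact.out : r.Prime).dvd_of_dvd_pow h |>.trans ((Nat.gcd_dvd_left _ _).trans (by decide)))
    · have h := card_group (F := F) Cfsg.Agent.Chev.D4.good facts_chevD4 kerCertD4 kerCertD4_valid
        Cfsg.Agent.Chev.WeylTab.levelsD4 rfl Cfsg.Agent.Chev.WeylTab.levelsOK_D4
      simp only [show Cfsg.Lie.chevD4.rank = 4 from rfl, show Cfsg.Lie.chevD4.nroots / 2 = 12 from rfl,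
        mul_assoc (Fintype.card F ^ 12), Cfsg.Agent.Chev.WeylTab.poincare_D4 (Fintype.card F) Fintype.card_pos] at h
      rw [← hq, h]
      simp only [List.map_cons, List.map_nil, List.prod_cons, List.prod_nil]
      ring
  · refine sylowF4 hq hrq hrW (g := Nat.gcd 1 (q - 1) ^ 0) (N := 24) ?_ ?_ P
    · exact fun h => hrW ((Fact.out : r.Prime).dvd_of_dvd_pow h |>.trans ((Nat.gcd_dvd_left _ _).trans (by decide)))
    · have h := card_group (F := F) Cfsg.Agent.Chev.F4.good facts_chevF4 kerCertF4 kerCertF4_valid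
        Cfsg.Agent.Chev.WeylTab.levelsF4 rfl Cfsg.Agent.Chev.WeylTab.levelsOK_F4
      simp only [show Cfsg.Lie.chevF4.rank = 4 from rfl, show Cfsg.Lie.chevF4.nroots / 2 = 24 from rfl,
        mul_assoc (Fintype.card F ^ 24), Cfsg.Agent.Chev.WeylTab.poincare_F4 (Fintype.card F) Fintype.card_pos] at h
      rw [← hq, h]
      simp only [List.map_cons, List.map_nil, List.prod_cons, List.prod_nil]
      ring
  · refine sylowE6 hq hrq hrW (g := Nat.gcd 3 (q - 1) ^ 1) (N := 36) ?_ ?_ P
    · exact fun h => hrW ((Fact.out : r.Prime).dvd_of_dvd_pow h |>.trans ((Nat.gcd_dvd_left _ _).trans (by decide)))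
    · have h := card_group (F := F) Cfsg.Agent.Chev.E6.good facts_chevE6 kerCertE6 kerCertE6_valid
        Cfsg.Agent.Chev.WeylTab.levelsE6 rfl Cfsg.Agent.Chev.WeylTab.levelsOK_E6
      simp only [show Cfsg.Lie.chevE6.rank = 6 from rfl, show Cfsg.Lie.chevE6.nroots / 2 = 36 from rfl,
        mul_assoc (Fintype.card F ^ 36), Cfsg.Agent.Chev.WeylTab.poincare_E6 (Fintype.card F) Fintype.card_pos] at h
      rw [← hq, h]
      simp only [List.map_cons, List.map_nil, List.prod_cons, List.prod_nil]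
      ring
  · refine sylowE7 hq hrq hrW (g := Nat.gcd 2 (q - 1) ^ 1) (N := 63) ?_ ?_ P
    · exact fun h => hrW ((Fact.out : r.Prime).dvd_of_dvd_pow h |>.trans ((Nat.gcd_dvd_left _ _).trans (by decide)))
    · have h := card_group (F := F) Cfsg.Agent.Chev.E7.good facts_chevE7 kerCertE7 kerCertE7_valid
        Cfsg.Agent.Chev.WeylTab.levelsE7 rfl Cfsg.Agent.Chev.WeylTab.levelsOK_E7
      simp only [show Cfsg.Lie.chevE7.rank = 7 from rfl, show Cfsg.Lie.chevE7.nroots / 2 = 63 from rfl,
        mul_assoc (Fintype.card F ^ 63), Cfsg.Agent.Chev.WeylTab.poincare_E7 (Fintype.card F) Fintype.card_pos] at h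
      rw [← hq, h]
      simp only [List.map_cons, List.map_nil, List.prod_cons, List.prod_nil]
      ring
  · refine sylowE8 hq hrq hrW (g := Nat.gcd 1 (q - 1) ^ 0) (N := 120) ?_ ?_ P
    · exact fun h => hrW ((Fact.out : r.Prime).dvd_of_dvd_pow h |>.trans ((Nat.gcd_dvd_left _ _).trans (by decide)))
    · have h := card_group (F := F) Cfsg.Agent.Chev.E8.good facts_chevE8 kerCertE8 kerCertE8_valid
        Cfsg.Agent.Chev.WeylTab.levelsE8 rfl Cfsg.Agent.Chev.WeylTab.levelsOK_E8
      simp only [show Cfsg.Lie.chevE8.rank = 8 from rfl, show Cfsg.Lie.chevE8.nroots / 2 = 120 from rfl,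
        mul_assoc (Fintype.card F ^ 120), Cfsg.Agent.Chev.WeylTab.poincare_E8 (Fintype.card F) Fintype.card_pos] at h
      rw [← hq, h]
      simp only [List.map_cons, List.map_nil, List.prod_cons, List.prod_nil]
      ring

end Cfsg.Agent.S2378
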