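import Cfsg.Statements.S2383
import Cfsg.Agent.Lib.CurtisRichen.Chev
import Cfsg.Agent.Lib.Chev.Seven
import Cfsg.Agent.Lib.Chev.TorusCert

set_option autoImplicit false
open Cfsg

namespace Cfsg.Agent.S2383

/-- Steinberg's count of semisimple classes in characteristic 2 for the types B₂, D₄, E₇, where the finite simply connected group has trivial centre and so coincides with the Chevalley group: for the Chevalley group of type B₂, D₄ or E₇ over a field with `q` elements of characteristic 2, the conjugacy classes of elements of odd order number exactly `q^l`, `l` the rank. -/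
theorem result {F : Type*} [Field F] [Fintype F] {q : ℕ} (hq : Fintype.card F = q) [CharP F 2]
    (D : Cfsg.Lie.ChevalleyDatum) (hD : D ∈ [Cfsg.Lie.chevB2, Cfsg.Lie.chevD4, Cfsg.Lie.chevE7]) :
    Nat.card {c : ConjClasses ↥(D.group F) // ∃ g : ↥(D.group F), ConjClasses.mk g = c ∧ Odd (orderOf g)} = q ^ D.rank := by
  open Cfsg.Agent Cfsg.Agent.Chev Cfsg.Agent.Chev.BNSetup in
  classical
  subst hq
  have hd : Nat.gcd 2 (Fintype.card F - 1) = 1 := by
    obtain ⟨n, -, hn⟩ := FiniteField.card F 2
    have h2 : ¬ 2 ∣ Fintype.card F - 1 := by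
      have h3 : 2 ∣ Fintype.card F := hn ▸ dvd_pow_self 2 n.pos.ne'
      have := Fintype.card_pos (α := F)
      omega
    exact (Nat.Prime.coprime_iff_not_dvd Nat.prime_two).2 h2
  have key : ∀ (E : Cfsg.Lie.ChevalleyDatum) (tabs simps w0 : List ℕ), Good E → Facts E tabs simps →
      IsLongest E tabs w0 → ∀ {k : ℕ} (C : KerCert E 2 k), C.Valid →
      Nat.card {c : ConjClasses ↥(E.group F) // ∃ g : ↥(E.group F), ConjClasses.mk g = c ∧ Odd (orderOf g)} =
        Fintype.card F ^ E.rank := by
    intro E tabs simps w0 hG hf hw k C hC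
    rw [← CurtisRichen.card_semisimple_classes hG hf 2 (CurtisRichen.torusHom_injective hG hf C hC hd) hw]
    exact Nat.card_congr (Equiv.subtypeEquivRight fun c => exists_congr fun g => and_congr_right fun _ =>
      Nat.coprime_two_right.symm)
  simp only [List.mem_cons, List.not_mem_nil, or_false] at hD
  rcases hD with rfl | rfl | rfl
  · exact key _ _ _ _ (good_of_mem (by simp)) facts_chevB2 isLongest_chevB2 _ kerCertB2_valid
  · exact key _ _ _ _ (good_of_mem (by simp)) facts_chevD4 isLongest_chevD4 _ kerCertD4_valid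
  · exact key _ _ _ _ (good_of_mem (by simp)) facts_chevE7 isLongest_chevE7 _ kerCertE7_valid

end Cfsg.Agent.S2383
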