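import Cfsg.Statements.S2384
import Cfsg.Agent.Lib.Semisimple.Classes

set_option autoImplicit false
open Cfsg

namespace Cfsg.Agent.S2384

/-- In `SL_n(q)`, `q` a power of the prime `p`, the number of conjugacy classes of elements of order prime to `p` (the semisimple classes) is `q^(n-1)`. -/
theorem result {F : Type*} [Field F] [Fintype F] {q : ℕ} (hq : Fintype.card F = q) (p : ℕ) [Fact p.Prime] [CharP F p] (n : ℕ) (hn : 1 ≤ n) :
    Nat.card {c : ConjClasses (Matrix.SpecialLinearGroup (Fin n) F) //
      ∃ g : Matrix.SpecialLinearGroup (Fin n) F, ConjClasses.mk g = c ∧ (orderOf g).Coprime p} = q ^ (n - 1) := by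
  subst hq
  classical
  have h1 := Semisimple.card_classes (G := Matrix.SpecialLinearGroup (Fin n) F) (fun g => (orderOf g).Coprime p)
    (fun P : Polynomial F => (P.Monic ∧ P.natDegree = n) ∧ P.coeff 0 ∈ ({(-1) ^ n} : Set F))
    (fun g => (g : Matrix (Fin n) (Fin n) F).charpoly)
    (fun g h hc => Semisimple.charpoly_eq_of_isConj Semisimple.slVal g h hc)
    (fun g _ => ⟨⟨Matrix.charpoly_monic _, by simp [Matrix.charpoly_natDegree_eq_dim]⟩, by
      have := Matrix.det_eq_sign_charpoly_coeff (g : Matrix (Fin n) (Fin n) F)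
      rw [g.2, Fintype.card_fin] at this
      rw [Set.mem_singleton_iff]
      rcases neg_one_pow_eq_or F n with h2 | h2 <;> rw [h2] at this ⊢ <;>
        first | linear_combination -this | linear_combination this⟩)
    (fun g h hg hh hc => Semisimple.isConj_sl g h (Semisimple.ss_of_coprime p Semisimple.slVal hg)
      (Semisimple.ss_of_coprime p Semisimple.slVal hh) hc)
    (fun P ⟨⟨hm, hd⟩, h0⟩ => by
      obtain ⟨A, hA, hs⟩ := Semisimple.exists_ss_charpoly n P hm hd
      have hdet : A.det = 1 := by
        rw [Matrix.det_eq_sign_charpoly_coeff, hA, Set.mem_singleton_iff.1 h0, Fintype.card_fin, ← mul_pow]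
        simp
      refine ⟨⟨A, hdet⟩, ?_, hA⟩
      have := Semisimple.coprime_of_ss p (Matrix.SpecialLinearGroup.toGL ⟨A, hdet⟩) hs
      exact (orderOf_injective (Matrix.SpecialLinearGroup.toGL (n := Fin n) (R := F))
        Matrix.SpecialLinearGroup.toGL_injective ⟨A, hdet⟩) ▸ this)
  rw [h1, Semisimple.card_monic _ n hn, Nat.card_eq_fintype_card]
  simp

end Cfsg.Agent.S2384
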