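import Cfsg.Statements.S2389
import Cfsg.Agent.Lib.Semisimple.Isometry
import Cfsg.Agent.Lib.Forms.Symp

set_option linter.unusedSectionVars false

set_option autoImplicit false
open Cfsg

namespace Cfsg.Agent.S2389

/-- In the symplectic group `Sp_{2n}(q)`, `q` a power of the prime `p`, two elements of order prime to `p` with the same characteristic polynomial are conjugate in `Sp_{2n}(q)`. -/
theorem result {F : Type*} [Field F] [Fintype F] (p : ℕ) [Fact p.Prime] [CharP F p] (n : ℕ)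
    (g h : ↥(Matrix.symplecticGroup (Fin n) F)) (hg : (orderOf g).Coprime p) (hh : (orderOf h).Coprime p)
    (hc : (g : Matrix (Fin n ⊕ Fin n) (Fin n ⊕ Fin n) F).charpoly = (h : Matrix (Fin n ⊕ Fin n) (Fin n ⊕ Fin n) F).charpoly) :
    IsConj g h := by
  classical
  let B := Forms.sympB n F
  have hB : Semisimple.IsHerm (RingHom.id F) (-1 : F) B :=
    ⟨(Forms.sympB_polar n).swap, (Forms.sympB_polar n).invol, (Forms.sympB_polar n).sep⟩
  let φ : ↥(Matrix.symplecticGroup (Fin n) F) →* Module.End F (Fin n ⊕ Fin n → F) :=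
    (Matrix.toLinAlgEquiv' : Matrix (Fin n ⊕ Fin n) (Fin n ⊕ Fin n) F ≃ₐ[F] _).toAlgHom.toRingHom.toMonoidHom.comp
      (Matrix.symplecticGroup (Fin n) F).subtype
  have hφ : ∀ (x : ↥(Matrix.symplecticGroup (Fin n) F)) v, φ x v = (x : Matrix _ _ F).mulVec v :=
    fun x v => Matrix.toLin'_apply _ _
  set N := orderOf g * orderOf h with hN
  have hN0 : (N : F) ≠ 0 := by
    rw [Ne, CharP.cast_eq_zero_iff F p, hN, (Fact.out : p.Prime).dvd_mul, not_or]
    exact ⟨fun hd => (Fact.out : p.Prime).not_dvd_one (hg ▸ Nat.dvd_gcd hd dvd_rfl),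
      fun hd => (Fact.out : p.Prime).not_dvd_one (hh ▸ Nat.dvd_gcd hd dvd_rfl)⟩
  have hiso : ∀ x : ↥(Matrix.symplecticGroup (Fin n) F), x ^ N = 1 → Semisimple.IsSSIsom B (φ x) N := by
    intro x hx
    refine ⟨fun u v => ?_, by rw [← map_pow, hx, map_one], hN0⟩
    rw [hφ, hφ, Forms.sympB_apply, Forms.sympB_apply]
    exact Forms.mem_symplecticGroup_iff_form.1 x.2 u v
  have hgN : g ^ N = 1 := by rw [hN, pow_mul, pow_orderOf_eq_one, one_pow]
  have hhN : h ^ N = 1 := by rw [hN, mul_comm, pow_mul, pow_orderOf_eq_one, one_pow]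
  have halt : (RingHom.id F = RingHom.id F) → ∀ (x : ↥(Matrix.symplecticGroup (Fin n) F)) v,
      φ x (φ x v) = v → B v v = 0 := fun _ _ v _ => Forms.sympB_isAlt n v
  obtain ⟨e, he, hef⟩ := Semisimple.exists_isometric_conj (N := N) _ _ _ B B (φ g) (φ h) rfl hB hB (hiso g hgN)
    (hiso h hhN) (fun h1 => halt h1 g) (fun h1 => halt h1 h)
    (by
      show (Matrix.toLin' (g : Matrix (Fin n ⊕ Fin n) (Fin n ⊕ Fin n) F)).charpoly =
        (Matrix.toLin' (h : Matrix (Fin n ⊕ Fin n) (Fin n ⊕ Fin n) F)).charpoly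
      rw [Matrix.charpoly_toLin', Matrix.charpoly_toLin', hc])
  have hmem : (e : (Fin n ⊕ Fin n → F) ≃ₗ[F] _) ∈ Forms.isom F (sympForm n F) := by
    intro u v
    rw [← Forms.sympB_apply, ← Forms.sympB_apply]
    exact hef u v
  refine isConj_iff.2 ⟨(Forms.spEquiv n F).symm ⟨e, hmem⟩, ?_⟩
  rw [mul_inv_eq_iff_eq_mul]
  refine (Forms.spEquiv n F).injective (Subtype.ext (LinearEquiv.ext fun v => ?_))
  rw [map_mul, map_mul, MulEquiv.apply_symm_apply]
  show e (Forms.spEquiv n F g |>.1 v) = (Forms.spEquiv n F h).1 (e v)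
  rw [Forms.spEquiv_apply, Forms.spEquiv_apply, ← hφ, ← hφ]
  exact he v

end Cfsg.Agent.S2389
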