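import Cfsg.Statements.S2385
import Cfsg.Agent.Lib.Semisimple.SympClasses
import Cfsg.Agent.S2389

set_option autoImplicit false
open Cfsg Polynomial

namespace Cfsg.Agent.S2385

/-- In the symplectic group `Sp_{2n}(q)`, `q` a power of the prime `p`, the number of conjugacy classes of elements of order prime to `p` is `q^n`. -/
theorem result {F : Type*} [Field F] [Fintype F] {q : ℕ} (hq : Fintype.card F = q) (p : ℕ) [Fact p.Prime] [CharP F p] (n : ℕ) :
    Nat.card {c : ConjClasses ↥(Matrix.symplecticGroup (Fin n) F) //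
      ∃ g : ↥(Matrix.symplecticGroup (Fin n) F), ConjClasses.mk g = c ∧ (orderOf g).Coprime p} = q ^ n := by
  classical
  subst hq
  let val : ↥(Matrix.symplecticGroup (Fin n) F) →* Matrix (Fin n ⊕ Fin n) (Fin n ⊕ Fin n) F :=
    (Matrix.symplecticGroup (Fin n) F).subtype
  rw [← (Agent.Semisimple.card_selfRecip (F := F) n).1]
  refine Agent.Semisimple.card_classes (fun g => (orderOf g).Coprime p) (Agent.Semisimple.SelfRecip n)
    (fun g => (val g).charpoly) ?_ (fun g _ => Agent.Semisimple.charpoly_selfRecip g)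
    (fun g h hg hh hc => S2389.result p n g h hg hh hc) ?_
  · intro g h hgh
    obtain ⟨c, hc⟩ := val.map_isConj hgh
    rw [← Matrix.charpoly_units_conj c (val g), hc.eq, mul_assoc, ← Matrix.coe_units_inv, Units.mul_inv, mul_one]
  · intro P hP
    obtain ⟨H, hH, rfl⟩ := (Agent.Semisimple.card_selfRecip (F := F) n).2 P hP
    obtain ⟨V, _, _, _, B, g, N, hA, hS, hg, hN, hgN, hgP⟩ :=
      Agent.Semisimple.realised_recip p n H hH.1 hH.2
    obtain ⟨m, k, e, he⟩ := Agent.Forms.exists_alt_coords B hA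
    have hk : k = 0 := by
      by_contra hk
      let i : Fin k := ⟨0, Nat.pos_of_ne_zero hk⟩
      have h1 := hS (e.symm (Pi.single (Sum.inr i) 1)) fun y => by
        rw [he, show (fun j => e (e.symm (Pi.single (Sum.inr i) (1 : F))) (Sum.inl j)) = 0 by
          funext j; simp, sympForm, Matrix.mulVec_zero, dotProduct_zero]
      simpa using congrFun ((LinearEquiv.map_eq_zero_iff _).1 h1) (Sum.inr i)
    subst hk
    let e' : V ≃ₗ[F] (Fin m ⊕ Fin m → F) :=
      e.trans (LinearEquiv.funCongrLeft F F (Equiv.sumEmpty (Fin m ⊕ Fin m) (Fin 0)).symm)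
    obtain rfl : m = n := by
      have h1 := congrArg natDegree hgP
      rw [g.charpoly_natDegree, e'.finrank_eq, (Agent.Semisimple.recip_selfRecip hH.1 hH.2).1.2] at h1
      simp at h1
      omega
    let T : Matrix (Fin m ⊕ Fin m) (Fin m ⊕ Fin m) F := LinearMap.toMatrix' (e'.conj g)
    have hmem : T ∈ Matrix.symplecticGroup (Fin m) F := Agent.Forms.mem_symplecticGroup_iff_form.2 fun u v => by
      obtain ⟨x, rfl⟩ := e'.surjective u
      obtain ⟨y, rfl⟩ := e'.surjective v
      rw [← Matrix.toLin'_apply, ← Matrix.toLin'_apply, Matrix.toLin'_toMatrix', LinearEquiv.conj_apply_apply,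
        LinearEquiv.conj_apply_apply, LinearEquiv.symm_apply_apply, LinearEquiv.symm_apply_apply]
      exact ((he (g y) (g x)).symm.trans ((hg y x).trans (he y x)) :)
    refine ⟨⟨T, hmem⟩, ?_, ?_⟩
    · refine Nat.Coprime.coprime_dvd_left (orderOf_dvd_of_pow_eq_one (n := N) (Subtype.ext ?_))
        (Nat.Coprime.symm (((Fact.out : p.Prime).coprime_iff_not_dvd).2 fun h =>
          hN ((CharP.cast_eq_zero_iff F p N).2 h)))
      show (Matrix.toLinAlgEquiv' : Matrix (Fin m ⊕ Fin m) (Fin m ⊕ Fin m) F ≃ₐ[F] _).symm (e'.conjRingEquiv g) ^ N = 1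
      rw [← map_pow, ← map_pow, hgN, map_one, map_one]
    · show T.charpoly = _
      rw [← Matrix.charpoly_toLin', Matrix.toLin'_toMatrix', LinearEquiv.charpoly_conj, hgP]

end Cfsg.Agent.S2385
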