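import Cfsg.Statements.S2390
import Cfsg.Agent.Lib.Semisimple.UnitaryDet
import Cfsg.Agent.Lib.Semisimple.Classes

set_option autoImplicit false
open Cfsg

namespace Cfsg.Agent.S2390

/-- In the special unitary group `SU_n(q)` (inside `SL_n` over the field with `q²` elements), `q` a power of the prime `p`, two elements of order prime to `p` with the same characteristic polynomial are conjugate in `SU_n(q)`. -/
theorem result {F : Type*} [Field F] [Fintype F] {q : ℕ} (hF : Fintype.card F = q ^ 2) (p : ℕ) [Fact p.Prime] [CharP F p] (n : ℕ)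
    (g h : ↥(Cfsg.SU n F q)) (hg : (orderOf g).Coprime p) (hh : (orderOf h).Coprime p)
    (hc : ((g : Matrix.SpecialLinearGroup (Fin n) F) : Matrix (Fin n) (Fin n) F).charpoly =
      ((h : Matrix.SpecialLinearGroup (Fin n) F) : Matrix (Fin n) (Fin n) F).charpoly) : IsConj g h := by
  classical
  rcases Nat.eq_zero_or_pos n with rfl | hn
  · exact isConj_iff.2 ⟨1, Subtype.ext (Subtype.ext (Matrix.ext fun i => i.elim0))⟩
  let B := Forms.hermB hF n
  have hB : Semisimple.IsHerm (Forms.qEnd hF) (1 : F) B :=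
    ⟨(Forms.hermB_polar hF n).swap, (Forms.hermB_polar hF n).invol, (Forms.hermB_polar hF n).sep⟩
  let φ : ↥(Cfsg.SU n F q) →* Module.End F (Fin n → F) :=
    ((Matrix.toLinAlgEquiv' : Matrix (Fin n) (Fin n) F ≃ₐ[F] _).toAlgHom.toRingHom.toMonoidHom.comp
      (Semisimple.slVal)).comp (Cfsg.SU n F q).subtype
  have hφ : ∀ (x : ↥(Cfsg.SU n F q)) v,
      φ x v = ((x : Matrix.SpecialLinearGroup (Fin n) F) : Matrix (Fin n) (Fin n) F).mulVec v :=
    fun x v => Matrix.toLin'_apply _ _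
  set N := orderOf g * orderOf h with hN
  have hN0 : (N : F) ≠ 0 := by
    rw [Ne, CharP.cast_eq_zero_iff F p, hN, (Fact.out : p.Prime).dvd_mul, not_or]
    exact ⟨fun hd => (Fact.out : p.Prime).not_dvd_one (hg ▸ Nat.dvd_gcd hd dvd_rfl),
      fun hd => (Fact.out : p.Prime).not_dvd_one (hh ▸ Nat.dvd_gcd hd dvd_rfl)⟩
  have hiso : ∀ x : ↥(Cfsg.SU n F q), x ^ N = 1 → Semisimple.IsSSIsom B (φ x) N := by
    intro x hx
    refine ⟨fun u v => ?_, by rw [← map_pow, hx, map_one], hN0⟩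
    rw [hφ, hφ, Forms.hermB_apply, Forms.hermB_apply]
    exact x.2 v u
  have hgN : g ^ N = 1 := by rw [hN, pow_mul, pow_orderOf_eq_one, one_pow]
  have hhN : h ^ N = 1 := by rw [hN, mul_comm, pow_mul, pow_orderOf_eq_one, one_pow]
  obtain ⟨e, he, hef⟩ := Semisimple.exists_isometric_conj (N := N) _ _ _ B B (φ g) (φ h) rfl hB hB (hiso g hgN)
    (hiso h hhN) (fun h1 => absurd h1 (Forms.qEnd_ne_id hF)) (fun h1 => absurd h1 (Forms.qEnd_ne_id hF))
    (by
      show (Matrix.toLin' ((g : Matrix.SpecialLinearGroup (Fin n) F) : Matrix (Fin n) (Fin n) F)).charpoly =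
        (Matrix.toLin' ((h : Matrix.SpecialLinearGroup (Fin n) F) : Matrix (Fin n) (Fin n) F)).charpoly
      rw [Matrix.charpoly_toLin', Matrix.charpoly_toLin', hc])
  -- correct the determinant
  let P : GL (Fin n) F := (Forms.glEquiv (Fin n) F).symm e
  have hP : ∀ v, (P : Matrix (Fin n) (Fin n) F).mulVec v = e v := fun v => by
    rw [← Forms.glEquiv_apply, MulEquiv.apply_symm_apply]
  have hdetP : (P : Matrix (Fin n) (Fin n) F).det ^ (q + 1) = 1 :=
    Forms.det_pow_of_mem_GU hF (g := P) fun u v => by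
      show Cfsg.hermForm n F q ((P : Matrix (Fin n) (Fin n) F).mulVec u) ((P : Matrix (Fin n) (Fin n) F).mulVec v) =
        Cfsg.hermForm n F q u v
      rw [hP, hP]
      exact hef v u
  have hP0 : (P : Matrix (Fin n) (Fin n) F).det ≠ 0 := fun h0 => by simp [h0] at hdetP
  obtain ⟨c, hc0, hcq⟩ := Semisimple.exists_div_pow_eq hF (δ := (P : Matrix (Fin n) (Fin n) F).det⁻¹)
    (by rw [inv_pow, hdetP, inv_one])
  obtain ⟨R, hR1, hR2, hR3⟩ := Semisimple.exists_commute_det_unitary hF (Forms.qEnd_apply hF) hB (hiso h hhN)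
    (by simpa using hn) hc0
  rw [Forms.qEnd_apply, hcq] at hR3
  let M : Matrix (Fin n) (Fin n) F := LinearMap.toMatrix' (e.trans R : (Fin n → F) →ₗ[F] (Fin n → F))
  have hM : ∀ v, M.mulVec v = R (e v) := fun v => LinearMap.toMatrix'_mulVec _ _
  have hPM : (P : Matrix (Fin n) (Fin n) F) = LinearMap.toMatrix' (e : (Fin n → F) →ₗ[F] (Fin n → F)) :=
    Matrix.ext_iff_mulVec.2 fun v => by rw [hP, LinearMap.toMatrix'_mulVec]; rfl
  have hdet : M.det = 1 := by
    rw [show M = LinearMap.toMatrix' (R : (Fin n → F) →ₗ[F] (Fin n → F)) * (P : Matrix (Fin n) (Fin n) F) from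
      Matrix.ext_iff_mulVec.2 fun v => by rw [hM, ← Matrix.mulVec_mulVec, hP, LinearMap.toMatrix'_mulVec]; rfl,
      Matrix.det_mul, LinearMap.det_toMatrix', hR3, inv_mul_cancel₀ hP0]
  let X : ↥(Cfsg.SU n F q) := ⟨⟨M, hdet⟩, fun u v => by
    show Cfsg.hermForm n F q (M.mulVec u) (M.mulVec v) = Cfsg.hermForm n F q u v
    rw [hM, hM]
    exact (hR2 (e v) (e u)).trans (hef v u)⟩
  refine isConj_iff.2 ⟨X, ?_⟩
  rw [mul_inv_eq_iff_eq_mul]
  refine Subtype.ext (Subtype.ext ?_)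
  show M * _ = _ * M
  refine Matrix.ext_iff_mulVec.2 fun v => ?_
  rw [← Matrix.mulVec_mulVec, ← Matrix.mulVec_mulVec, hM, hM, ← hφ, ← hφ, he, hR1]

end Cfsg.Agent.S2390
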