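import Cfsg.Statements.S2386
import Cfsg.Agent.Lib.Semisimple.UnitaryPoly
import Cfsg.Agent.Lib.Semisimple.Classes
import Cfsg.Agent.S2390

set_option autoImplicit false
open Cfsg

namespace Cfsg.Agent.S2386

/-- In the special unitary group `SU_n(q)` (matrices of determinant one over the field with `q²` elements preserving the standard Hermitian form), `q` a power of the prime `p`, the number of conjugacy classes of elements of order prime to `p` is `q^(n-1)`. -/
theorem result {F : Type*} [Field F] [Fintype F] {q : ℕ} (hF : Fintype.card F = q ^ 2) (p : ℕ) [Fact p.Prime] [CharP F p] (n : ℕ) (hn : 1 ≤ n) :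
    Nat.card {c : ConjClasses ↥(Cfsg.SU n F q) // ∃ g : ↥(Cfsg.SU n F q), ConjClasses.mk g = c ∧ (orderOf g).Coprime p} = q ^ (n - 1) := by
  classical
  obtain ⟨m, rfl⟩ : ∃ m, n = m + 1 := ⟨n - 1, by omega⟩
  rw [Nat.add_sub_cancel, ← Agent.Semisimple.card_uPoly hF m]
  let val : ↥(Cfsg.SU (m + 1) F q) →* Matrix (Fin (m + 1)) (Fin (m + 1)) F :=
    Agent.Semisimple.slVal.comp (Cfsg.SU (m + 1) F q).subtype
  refine Agent.Semisimple.card_classes (fun g => (orderOf g).Coprime p) (Agent.Semisimple.UPoly hF (m + 1))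
    (fun g => (val g).charpoly) ?_ (fun g _ => ?_)
    (fun g h hg hh hc => S2390.result hF p (m + 1) g h hg hh hc) ?_
  · intro g h hgh
    obtain ⟨c, hc⟩ := val.map_isConj hgh
    rw [← Matrix.charpoly_units_conj c (val g), hc.eq, mul_assoc, ← Matrix.coe_units_inv, Units.mul_inv, mul_one]
  · have huni : ((val g).map (Agent.Forms.qEnd hF)).transpose * val g = 1 := by
      ext b a
      have h := g.2 (Pi.single a 1) (Pi.single b 1)
      change Cfsg.hermForm (m + 1) F q ((val g).mulVec (Pi.single a 1)) ((val g).mulVec (Pi.single b 1)) = _ at h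
      simp only [hermForm, Matrix.mulVec_single_one, Matrix.col_apply] at h
      rw [Matrix.mul_apply, Matrix.one_apply]
      simp only [Matrix.transpose_apply, Matrix.map_apply, Agent.Forms.qEnd_apply]
      rw [Finset.sum_congr rfl fun i _ => mul_comm _ _, h]
      have hq : q ≠ 0 := by have := Agent.Forms.one_lt_q hF; omega
      simp [Pi.single_apply, zero_pow hq, eq_comm]
    refine ⟨⟨Matrix.charpoly_monic _, by rw [Matrix.charpoly_natDegree_eq_dim, Fintype.card_fin]⟩, ?_, ?_⟩
    · rw [Polynomial.coeff_zero_eq_eval_zero, Matrix.eval_charpoly, map_zero, zero_sub, Matrix.det_neg,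
        Fintype.card_fin, show (val g).det = 1 from g.1.2, mul_one]
    · rw [Agent.Semisimple.udual_charpoly hF huni]
      congr 1
      ext i j
      simp [Matrix.map_apply, Matrix.transpose_apply, Agent.Forms.qEnd_qEnd]
  · intro P ⟨⟨hPm, hPn⟩, hP0, hPd⟩
    obtain ⟨V, _, _, _, B, f, N, hS, hB, hf, hN, hfN, hfP⟩ :=
      Agent.Semisimple.realisedU_of_dual hF p _ P hPm hPn (by rw [hP0]; simp) hPd
    obtain ⟨e, he⟩ := Agent.Forms.exists_herm_coords hF hS hB
    have hV : Module.finrank F V = m + 1 := by rw [← f.charpoly_natDegree, hfP, hPn]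
    let e' : V ≃ₗ[F] (Fin (m + 1) → F) := e.trans (LinearEquiv.funCongrLeft F F (finCongr hV.symm))
    have he' : ∀ x y, B x y = hermForm (m + 1) F q (e' y) (e' x) := fun x y => by
      rw [he]
      simp only [hermForm]
      exact ((finCongr hV.symm).sum_comp fun i => e y i * e x i ^ q).symm
    let T : Matrix (Fin (m + 1)) (Fin (m + 1)) F := LinearMap.toMatrix' (e'.conj f)
    have hTc : T.charpoly = P := by
      rw [← Matrix.charpoly_toLin', Matrix.toLin'_toMatrix', LinearEquiv.charpoly_conj, hfP]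
    have hdet : T.det = 1 := by
      rw [Matrix.det_eq_sign_charpoly_coeff, hTc, hP0, Fintype.card_fin, ← pow_add, ← two_mul, pow_mul,
        neg_one_sq, one_pow]
    refine ⟨⟨⟨T, hdet⟩, fun u v => ?_⟩, ?_, hTc⟩
    · show hermForm (m + 1) F q (T.mulVec u) (T.mulVec v) = hermForm (m + 1) F q u v
      obtain ⟨x, rfl⟩ := e'.surjective u
      obtain ⟨y, rfl⟩ := e'.surjective v
      rw [← Matrix.toLin'_apply, ← Matrix.toLin'_apply, Matrix.toLin'_toMatrix', LinearEquiv.conj_apply_apply,
        LinearEquiv.conj_apply_apply, LinearEquiv.symm_apply_apply, LinearEquiv.symm_apply_apply, ← he', ← he', hf]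
    · refine Nat.Coprime.coprime_dvd_left (orderOf_dvd_of_pow_eq_one (n := N) (Subtype.ext (Subtype.ext ?_)))
        (Nat.Coprime.symm (((Fact.out : p.Prime).coprime_iff_not_dvd).2 fun h =>
          hN ((CharP.cast_eq_zero_iff F p N).2 h)))
      show (Matrix.toLinAlgEquiv' : Matrix (Fin (m + 1)) (Fin (m + 1)) F ≃ₐ[F] _).symm (e'.conjRingEquiv f) ^ N = 1
      rw [← map_pow, ← map_pow, hfN, map_one, map_one]

end Cfsg.Agent.S2386
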