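import Cfsg.Statements.S2387
import Cfsg.Agent.Lib.Semisimple.Classes

set_option autoImplicit false
open scoped MatrixGroups
open Cfsg

namespace Cfsg.Agent.S2387

/-- In `GL_n(q)` with `n ≥ 1`, `q` a power of the prime `p`, the number of conjugacy classes of elements of order prime to `p` (diagonalisable over the algebraic closure; determined by the characteristic polynomial) is `(q - 1) q^(n-1)`. -/
theorem result {F : Type*} [Field F] [Fintype F] {q : ℕ} (hq : Fintype.card F = q) (p : ℕ) [Fact p.Prime] [CharP F p] (n : ℕ) (hn : 1 ≤ n) :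
    Nat.card {c : ConjClasses (GL (Fin n) F) // ∃ g : GL (Fin n) F, ConjClasses.mk g = c ∧ (orderOf g).Coprime p} = (q - 1) * q ^ (n - 1) := by
  subst hq
  classical
  have h1 := Semisimple.card_classes (G := GL (Fin n) F) (fun g => (orderOf g).Coprime p)
    (fun P : Polynomial F => (P.Monic ∧ P.natDegree = n) ∧ P.coeff 0 ∈ ({0}ᶜ : Set F))
    (fun g => (g : Matrix (Fin n) (Fin n) F).charpoly)
    (fun g h hc => Semisimple.charpoly_eq_of_isConj (Units.coeHom (Matrix (Fin n) (Fin n) F)) g h hc)
    (fun g _ => ⟨⟨Matrix.charpoly_monic _, by simp [Matrix.charpoly_natDegree_eq_dim]⟩, fun h0 => by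
      have := ((Matrix.isUnit_iff_isUnit_det _).1 g.isUnit).ne_zero
      rw [Matrix.det_eq_sign_charpoly_coeff, Set.mem_singleton_iff.1 h0, mul_zero] at this
      exact this rfl⟩)
    (fun g h hg hh hc => Semisimple.isConj_gl g h (Semisimple.ss_of_coprime p (Units.coeHom (Matrix (Fin n) (Fin n) F)) hg)
      (Semisimple.ss_of_coprime p (Units.coeHom (Matrix (Fin n) (Fin n) F)) hh) hc)
    (fun P ⟨⟨hm, hd⟩, h0⟩ => by
      obtain ⟨A, hA, hs⟩ := Semisimple.exists_ss_charpoly n P hm hd
      have hdet : A.det ≠ 0 := by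
        rw [Matrix.det_eq_sign_charpoly_coeff, hA]
        exact mul_ne_zero (pow_ne_zero _ (by simp)) h0
      exact ⟨Matrix.GeneralLinearGroup.mkOfDetNeZero A hdet, Semisimple.coprime_of_ss p _ hs, hA⟩)
  rw [h1, Semisimple.card_monic _ n hn, Nat.card_coe_set_eq, Set.ncard_compl, Set.ncard_singleton, Nat.card_eq_fintype_card]

end Cfsg.Agent.S2387
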