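import Cfsg.Statements.S2391
-- import your own Cfsg.Agent.* helpers here

set_option autoImplicit false
open Cfsg

namespace Cfsg.Agent.S2391

variable {F : Type*} [Field F] {n : ℕ}

/-- The fixed-point series of a matrix group. -/
def W (U : Subgroup (Matrix.SpecialLinearGroup (Fin n) F)) : ℕ → Submodule F (Fin n → F)
  | 0 => ⊥
  | i + 1 => ⨅ u ∈ U, (W U i).comap
      (Matrix.mulVecLin (u : Matrix (Fin n) (Fin n) F) - LinearMap.id)

theorem mem_succ (U : Subgroup (Matrix.SpecialLinearGroup (Fin n) F)) (i : ℕ) (v : Fin n → F) :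
    v ∈ W U (i + 1) ↔ ∀ u ∈ U, (u : Matrix (Fin n) (Fin n) F).mulVec v - v ∈ W U i := by
  simp [W]

theorem stable (U : Subgroup (Matrix.SpecialLinearGroup (Fin n) F)) (i : ℕ) :
    ∀ g ∈ Subgroup.normalizer (U : Set (Matrix.SpecialLinearGroup (Fin n) F)), ∀ v ∈ W U i,
      (g : Matrix (Fin n) (Fin n) F).mulVec v ∈ W U i := by
  induction i with
  | zero =>
    intro g _ v hv
    have : v = 0 := (Submodule.mem_bot F).1 hv
    simp [this]
  | succ i ih =>
    intro g hg v hv
    rw [mem_succ] at hv ⊢
    intro u hu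
    have hu' : g⁻¹ * u * g ∈ U := by
      have h := (Subgroup.mem_normalizer_iff.1 hg (g⁻¹ * u * g)).2
      refine h ?_
      rwa [show g * (g⁻¹ * u * g) * g⁻¹ = u by group]
    have := ih g hg _ (hv _ hu')
    rw [Matrix.mulVec_sub, Matrix.mulVec_mulVec, ← Matrix.SpecialLinearGroup.coe_mul,
      show g * (g⁻¹ * u * g) = u * g by group, Matrix.SpecialLinearGroup.coe_mul,
      ← Matrix.mulVec_mulVec] at this
    exact this

theorem le_succ (U : Subgroup (Matrix.SpecialLinearGroup (Fin n) F)) (i : ℕ) :
    W U i ≤ W U (i + 1) := by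
  intro v hv
  rw [mem_succ]
  exact fun u hu => sub_mem (stable U i u (Subgroup.le_normalizer hu) v hv) hv

theorem lt_succ [Finite F] (p : ℕ) [Fact p.Prime] [CharP F p]
    (U : Subgroup (Matrix.SpecialLinearGroup (Fin n) F)) (hU : IsPGroup p U) (i : ℕ)
    (h : W U i ≠ ⊤) : W U i < W U (i + 1) := by
  refine lt_of_le_of_ne (le_succ U i) fun heq => ?_
  set N := W U i with hN
  let Q := (Fin n → F) ⧸ N
  let T : U → Q →ₗ[F] Q := fun u => Submodule.mapQ N N
    (Matrix.mulVecLin ((u : Matrix.SpecialLinearGroup (Fin n) F) : Matrix (Fin n) (Fin n) F))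
    (fun v hv => stable U i u (Subgroup.le_normalizer u.2) v hv)
  let act : MulAction U Q :=
    { smul := fun u x => T u x
      one_smul := fun x => Submodule.Quotient.induction_on _ x fun v => by
        show T 1 (Submodule.Quotient.mk v) = _
        simp [T]
      mul_smul := fun a b x => Submodule.Quotient.induction_on _ x fun v => by
        show T (a * b) (Submodule.Quotient.mk v) = T a (T b (Submodule.Quotient.mk v))
        show Submodule.Quotient.mk ((((a * b : U) : Matrix.SpecialLinearGroup (Fin n) F) : Matrix (Fin n) (Fin n) F).mulVec v) =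
          Submodule.Quotient.mk (((a : Matrix.SpecialLinearGroup (Fin n) F) : Matrix (Fin n) (Fin n) F).mulVec
            (((b : Matrix.SpecialLinearGroup (Fin n) F) : Matrix (Fin n) (Fin n) F).mulVec v))
        rw [Matrix.mulVec_mulVec]
        rfl }
  have hfix : ∀ x : Q, x ∈ MulAction.fixedPoints U Q → x = 0 := by
    intro x
    refine Submodule.Quotient.induction_on _ x fun v hv => ?_
    apply (Submodule.Quotient.mk_eq_zero N).2
    show v ∈ N
    rw [heq, mem_succ]
    intro u hu
    have : T ⟨u, hu⟩ (Submodule.Quotient.mk v) = Submodule.Quotient.mk v := hv ⟨u, hu⟩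
    simp only [T, Submodule.mapQ_apply, Matrix.mulVecLin_apply] at this
    exact (Submodule.Quotient.eq N).1 this
  haveI : Nontrivial Q := Submodule.Quotient.nontrivial_iff.2 h
  haveI : Finite Q := Finite.of_surjective _ (Submodule.Quotient.mk_surjective N)
  have hpQ : p ∣ Nat.card Q := by
    have hQ : Nat.card Q = Nat.card F ^ Module.finrank F Q := Module.natCard_eq_pow_finrank
    rw [hQ]
    refine dvd_trans ?_ (dvd_pow_self _ (Module.finrank_pos (R := F) (M := Q)).ne')
    haveI := Fintype.ofFinite F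
    rw [Nat.card_eq_fintype_card]
    exact (CharP.cast_eq_zero_iff F p _).1 (FiniteField.cast_card_eq_zero F)
  have h0 : (0 : Q) ∈ MulAction.fixedPoints U Q := fun u => by
    show T u 0 = 0
    exact map_zero _
  have hsingle : MulAction.fixedPoints U Q = {0} := Set.eq_singleton_iff_unique_mem.2 ⟨h0, hfix⟩
  have hmod := hU.card_modEq_card_fixedPoints Q
  rw [hsingle] at hmod
  have : Nat.card ({0} : Set Q) = 1 := by simp
  rw [this] at hmod
  have := (Nat.ModEq.symm hmod).trans ((Nat.modEq_zero_iff_dvd).2 hpQ)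
  have := (Nat.modEq_zero_iff_dvd).1 this
  exact (Fact.out : p.Prime).one_lt.ne' (Nat.dvd_one.1 this)


/-- The Borel–Tits property of `SL_n(q)` in flag form: for a field `F` of characteristic `p` with finitely many elements and a non-trivial `p`-subgroup `U` of `SL_n(F)`, there is a flag `0 = V₀ < V₁ < ⋯ < V_{k+1} = F^n` with at least one proper non-zero member such that every element of the normaliser of `U` maps each `V_i` onto itself and every element of `U` acts trivially on each quotient `V_{i+1}/V_i` (so the normaliser lies in the parabolic subgroup of the flag and `U` in its unipotent radical). -/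
theorem result {F : Type*} [Field F] [Fintype F] (p : ℕ) [Fact p.Prime] [CharP F p] (n : ℕ)
    (U : Subgroup (Matrix.SpecialLinearGroup (Fin n) F)) (hU : IsPGroup p ↥U) (hne : U ≠ ⊥) :
    ∃ (k : ℕ) (V : Fin (k + 2) → Submodule F (Fin n → F)), 1 ≤ k ∧ StrictMono V ∧ V 0 = ⊥ ∧ V (Fin.last (k + 1)) = ⊤ ∧
      (∀ g ∈ Subgroup.normalizer (U : Set (Matrix.SpecialLinearGroup (Fin n) F)), ∀ i, (V i).map (Matrix.mulVecLin (g : Matrix (Fin n) (Fin n) F)) = V i) ∧
      (∀ u ∈ U, ∀ i : Fin (k + 1), ∀ v ∈ V i.succ, (u : Matrix (Fin n) (Fin n) F).mulVec v - v ∈ V (Fin.castSucc i)) := by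
  classical
  have hne1 : W U 1 ≠ ⊤ := by
    intro h
    apply hne
    rw [Subgroup.eq_bot_iff_forall]
    intro u hu
    apply Matrix.SpecialLinearGroup.ext
    intro a b
    have hm : Pi.single b (1 : F) ∈ W U 1 := h ▸ Submodule.mem_top
    have h2 := (Submodule.mem_bot F).1 ((mem_succ U 0 _).1 hm u hu)
    have := congrFun (sub_eq_zero.1 h2) a
    simpa [Matrix.one_apply, Pi.single_apply] using this
  have htop : ∃ m, W U m = ⊤ := by
    by_contra H
    push Not at H
    have hs : StrictMono (W U) := strictMono_nat_of_lt_succ fun i => lt_succ p U hU i (H i)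
    have hf : StrictMono fun i => Module.finrank F (W U i) :=
      fun a b hab => Submodule.finrank_lt_finrank_of_lt (hs hab)
    have := (hf.id_le (Module.finrank F (Fin n → F) + 1)).trans (Submodule.finrank_le _)
    exact Nat.not_succ_le_self _ this
  obtain ⟨m, hm, hmin⟩ : ∃ m, W U m = ⊤ ∧ ∀ i, i < m → W U i ≠ ⊤ :=
    ⟨Nat.find htop, Nat.find_spec htop, fun i hi => Nat.find_min htop hi⟩
  have hm2 : 2 ≤ m := by
    rcases m with _ | _ | m
    · exfalso; apply hne1; rw [eq_top_iff, ← hm]; exact le_succ U 0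
    · exact absurd hm hne1
    · omega
  refine ⟨m - 1, fun i => W U i.val, by omega, ?_, rfl, ?_, ?_, ?_⟩
  · refine Fin.strictMono_iff_lt_succ.2 fun i => ?_
    simpa using lt_succ p U hU i.val (hmin _ (by have := i.isLt; omega))
  · show W U (m - 1 + 1) = ⊤
    rw [show m - 1 + 1 = m by omega]; exact hm
  · intro g hg i
    apply le_antisymm
    · rintro _ ⟨v, hv, rfl⟩
      exact stable U _ g hg v hv
    · intro v hv
      refine ⟨_, stable U _ g⁻¹ (inv_mem hg) v hv, ?_⟩
      rw [Matrix.mulVecLin_apply, Matrix.mulVec_mulVec, ← Matrix.SpecialLinearGroup.coe_mul,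
        mul_inv_cancel]
      simp
  · intro u hu i v hv
    exact (mem_succ U i.val v).1 hv u hu

end Cfsg.Agent.S2391
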