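import Cfsg.Statements.S2392
import Cfsg.Agent.Lib.LinRep.CharOrbit
import Cfsg.Agent.Lib.GL.Action
-- import your own Cfsg.Agent.* helpers here

set_option autoImplicit false
open scoped MatrixGroups
open Cfsg

namespace Cfsg.Agent.S2392

open Matrix

variable {F : Type*} [Field F] {m : ℕ}

/-- The matrix with first row `(1, v)` and lower right block `B`. -/
def blk (v : Fin m → F) (B : Matrix (Fin m) (Fin m) F) : Matrix (Fin (m + 1)) (Fin (m + 1)) F :=
  Matrix.of (Fin.cons (Fin.cons 1 v) (fun i => Fin.cons 0 (B i)))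

theorem det_blk (v : Fin m → F) (B : Matrix (Fin m) (Fin m) F) : (blk v B).det = B.det := by
  rw [Matrix.det_succ_column_zero, Fin.sum_univ_succ]
  simp [blk, Matrix.submatrix, Fin.succAbove]
  congr 1

theorem blk_mul (v w : Fin m → F) (B C : Matrix (Fin m) (Fin m) F) :
    blk v B * blk w C = blk (w + v ᵥ* C) (B * C) := by
  ext i j
  refine Fin.cases ?_ (fun i => ?_) i <;> refine Fin.cases ?_ (fun j => ?_) j <;>
    simp [blk, Matrix.mul_apply, Fin.sum_univ_succ, Matrix.vecMul, dotProduct]

theorem blk_one : blk (0 : Fin m → F) 1 = 1 := by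
  ext i j
  refine Fin.cases ?_ (fun i => ?_) i <;> refine Fin.cases ?_ (fun j => ?_) j <;>
    simp [blk, Matrix.one_apply, Fin.succ_inj, (Fin.succ_ne_zero _).symm]

/-- Elements of the parabolic subgroup of `SL`. -/
def el (v : Fin m → F) (B : SpecialLinearGroup (Fin m) F) : SpecialLinearGroup (Fin (m + 1)) F :=
  ⟨blk v (B : Matrix (Fin m) (Fin m) F), by rw [det_blk]; exact B.2⟩

theorem el_mul (v w : Fin m → F) (B C : SpecialLinearGroup (Fin m) F) :
    el v B * el w C = el (w + v ᵥ* (C : Matrix (Fin m) (Fin m) F)) (B * C) :=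
  Subtype.ext (blk_mul v w _ _)

theorem el_zero_one : el (0 : Fin m → F) 1 = 1 := Subtype.ext blk_one

theorem addChar_card_le {A L : Type*} [AddCommGroup A] [Fintype A] [Field L] (s : Finset (AddChar A L)) :
    s.card ≤ Fintype.card A := by
  have hind := (linearIndependent_monoidHom (Multiplicative A) L).comp
    (fun χ : s => (χ : AddChar A L).toMonoidHom) (fun a b e => Subtype.ext
      (AddChar.toMonoidHomEquiv.injective e))
  have := hind.fintype_card_le_finrank
  simpa using this


/-- A lower bound for representations in cross characteristic: for `n ≥ 3` and a field `F` with `q` elements, every homomorphism from `SL_n(F)` to `GL_d(K)`, `K` a field of characteristic different from that of `F`, whose kernel is central has `d ≥ q^(n-1) - 1`. -/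
theorem result {F : Type*} [Field F] [Fintype F] {q : ℕ} (hq : Fintype.card F = q) (n : ℕ) (hn : 3 ≤ n)
    {K : Type*} [Field K] (hK : ringChar K ≠ ringChar F) {d : ℕ}
    (ρ : Matrix.SpecialLinearGroup (Fin n) F →* GL (Fin d) K) (hker : ρ.ker ≤ Subgroup.center (Matrix.SpecialLinearGroup (Fin n) F)) :
    q ^ (n - 1) - 1 ≤ d := by
  classical
  obtain ⟨m, rfl⟩ : ∃ m, n = m + 1 := ⟨n - 1, by omega⟩
  rw [Nat.add_sub_cancel]
  let L := AlgebraicClosure K
  let ι : GL (Fin d) K →* GL (Fin d) L := Matrix.GeneralLinearGroup.map (algebraMap K L)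
  let R : SpecialLinearGroup (Fin (m + 1)) F →* Module.End L (Fin d → L) :=
    ((Matrix.toLinAlgEquiv' : Matrix (Fin d) (Fin d) L ≃ₐ[L] _) : Matrix (Fin d) (Fin d) L →* _).comp
      ((Units.coeHom _).comp (ι.comp ρ))
  let T : AddChar (Fin m → F) (Module.End L (Fin d → L)) :=
    { toFun := fun v => R (el v 1)
      map_zero_eq_one' := by rw [el_zero_one, map_one]
      map_add_eq_mul' := fun v w => by
        rw [← map_mul, el_mul]
        congr 2
        · simp [add_comm]
        · simp }
  -- the characteristic of `F`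
  obtain ⟨p, _⟩ := CharP.exists F
  haveI : Fact p.Prime := ⟨CharP.char_is_prime F p⟩
  have hpL : (p : L) ≠ 0 := by
    intro h
    apply hK
    have hK0 : (p : K) = 0 := (algebraMap K L).injective (by rw [map_natCast, h, map_zero])
    rw [ringChar.eq F p]
    rcases (Nat.dvd_prime Fact.out).1 (ringChar.dvd hK0) with h1 | h1
    · exact absurd h1 (CharP.ringChar_ne_one (R := K))
    · exact h1
  let a₀ : Fin m → F := Pi.single ⟨0, by omega⟩ 1
  have ha₀ : T a₀ ≠ 1 := by
    intro h
    have hR : R (el a₀ 1) = 1 := h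
    have h1 : (Units.coeHom _) ((ι.comp ρ) (el a₀ 1)) = (1 : Matrix (Fin d) (Fin d) L) := by
      apply (Matrix.toLinAlgEquiv' : Matrix (Fin d) (Fin d) L ≃ₐ[L] _).injective
      rw [map_one]
      exact hR
    have h2 : el a₀ 1 ∈ ρ.ker := by
      apply MonoidHom.mem_ker.2
      apply Units.ext
      apply Matrix.map_injective (algebraMap K L).injective
      simpa [ι] using h1
    obtain ⟨r, -, hr⟩ := Matrix.SpecialLinearGroup.mem_center_iff.1 (hker h2)
    have h3 := congrFun₂ hr 0 (Fin.succ (⟨0, by omega⟩ : Fin m))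
    rw [Matrix.scalar_apply, Matrix.diagonal_apply_ne _ (Fin.succ_ne_zero _).symm] at h3
    simp only [el, blk, Matrix.of_apply, Fin.cons_zero, Fin.cons_succ, a₀, Pi.single_eq_same] at h3
    exact zero_ne_one h3
  obtain ⟨χ, x, hx0, hx, hχ⟩ := Cfsg.Agent.LinRep.CharOrbit.exists_nontrivial_char p hpL T
    (fun a => by ext i; simp) ha₀
  -- all characters are twists of one
  obtain ⟨e, he⟩ : ∃ e : Fin m → F, χ e ≠ 1 := ⟨a₀, hχ⟩
  let ψ : AddChar F L := χ.compAddMonoidHom (LinearMap.toSpanSingleton F (Fin m → F) e).toAddMonoidHom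
  let Φ : (Fin m → F) → AddChar (Fin m → F) L := fun a =>
    ψ.compAddMonoidHom (∑ i, a i • (LinearMap.proj i : (Fin m → F) →ₗ[F] F)).toAddMonoidHom
  have hΦapply : ∀ a v, Φ a v = χ ((a ⬝ᵥ v) • e) := by
    intro a v
    simp [Φ, ψ, dotProduct, LinearMap.toSpanSingleton_apply, Finset.sum_smul]
  have hinj : Function.Injective Φ := by
    intro a b hab
    by_contra hne
    obtain ⟨i, hi⟩ : ∃ i, a i ≠ b i := Function.ne_iff.1 hne
    apply he
    have h := congrArg (fun f : AddChar (Fin m → F) L => f (Pi.single i (a i - b i)⁻¹)) hab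
    simp only [hΦapply, dotProduct_single] at h
    have h2 : χ (((a i - b i) * (a i - b i)⁻¹) • e) = 1 := by
      rw [sub_mul, sub_smul, AddChar.map_sub_eq_div, h, div_self]
      intro h0
      have := AddChar.val_isUnit χ ((b i * (a i - b i)⁻¹) • e)
      rw [h0] at this
      exact not_isUnit_zero this
    rwa [mul_inv_cancel₀ (sub_ne_zero.2 hi), one_smul] at h2
  have hsurj : ∀ f : AddChar (Fin m → F) L, ∃ a, Φ a = f := by
    intro f
    by_contra H
    push Not at H
    have := addChar_card_le (insert f (Finset.univ.image Φ))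
    rw [Finset.card_insert_of_notMem (by simpa using H), Finset.card_image_of_injective _ hinj,
      Finset.card_univ] at this
    omega
  obtain ⟨a, haΦ⟩ := hsurj χ
  have haχ : ∀ v, χ v = Φ a v := fun v => by rw [haΦ]
  have ha : a ≠ 0 := by
    rintro rfl
    apply hχ
    rw [haχ, hΦapply]
    simp
  let s : Finset (AddChar (Fin m → F) L) := (Finset.univ.filter fun b : Fin m → F => b ≠ 0).image Φ
  have hs : s.card = q ^ m - 1 := by
    rw [Finset.card_image_of_injective _ hinj, Finset.filter_ne', Finset.card_erase_of_mem (Finset.mem_univ _),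
      Finset.card_univ, Fintype.card_fun, Fintype.card_fin, hq]
  have hbound := Cfsg.Agent.LinRep.CharOrbit.card_le_finrank (fun v => T v) s (by
    intro f hf
    obtain ⟨b, hb, rfl⟩ := Finset.mem_image.1 hf
    have hb0 : b ≠ 0 := (Finset.mem_filter.1 hb).2
    obtain ⟨B, hB⟩ := Cfsg.Agent.GL.exists_SL_mulVec_eq (by simp; omega) ha hb0
    refine ⟨R (el 0 B⁻¹)⁻¹ x, ?_, fun v => ?_⟩
    · intro h
      apply hx0
      have := congrArg (R (el 0 B⁻¹)) h
      rwa [← Module.End.mul_apply, ← map_mul, mul_inv_cancel, map_one, map_zero] at this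
    · have hinv : (el (0 : Fin m → F) B⁻¹)⁻¹ = el 0 B := by
        refine inv_eq_of_mul_eq_one_right ?_
        rw [el_mul, inv_mul_cancel, zero_vecMul, add_zero, el_zero_one]
      rw [hinv]
      show R (el v 1) (R (el 0 B) x) = _
      rw [← Module.End.mul_apply, ← map_mul, el_mul, one_mul, zero_add,
        show el (v ᵥ* (B : Matrix (Fin m) (Fin m) F)) B =
          el 0 B * el (v ᵥ* (B : Matrix (Fin m) (Fin m) F)) 1 by rw [el_mul]; simp,
        map_mul, Module.End.mul_apply,
        show R (el (v ᵥ* (B : Matrix (Fin m) (Fin m) F)) 1) x = _ from hx _, map_smul]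
      congr 1
      refine (haχ _).trans ?_
      rw [hΦapply, hΦapply, ← hB]
      congr 2
      rw [dotProduct_comm, ← dotProduct_mulVec, dotProduct_comm])
  rw [hs] at hbound
  simpa using hbound

end Cfsg.Agent.S2392
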