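import Cfsg.Statements.S2393
import Cfsg.Agent.Lib.LinRep.CharOrbit
import Cfsg.Agent.Lib.Fusion.SympBlocks
import Cfsg.Agent.Lib.GL.Action

set_option autoImplicit false
open scoped MatrixGroups
open Cfsg

namespace Cfsg.Agent.S2393

open Matrix Agent.Fusion.SympBlocks

/-- Symmetric matrices. -/
def symMat (m : ℕ) (F : Type*) [Field F] : Submodule F (Matrix (Fin m) (Fin m) F) where
  carrier := {S | Sᵀ = S}
  add_mem' {a b} ha hb := by simp_all
  zero_mem' := by simp
  smul_mem' c a ha := by simp_all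

/-- A lower bound for representations in cross characteristic: for `n ≥ 2` and a field `F` with `q` elements, `q` odd, every homomorphism from the symplectic group `Sp_{2n}(F)` to `GL_d(K)`, `K` a field of characteristic different from that of `F`, whose kernel is central has `d ≥ q^(n-1)(q-1)/2`. -/
theorem result {F : Type*} [Field F] [Fintype F] {q : ℕ} (hq : Fintype.card F = q) (hodd : Odd q) (n : ℕ) (hn : 2 ≤ n)
    {K : Type*} [Field K] (hK : ringChar K ≠ ringChar F) {d : ℕ}
    (ρ : ↥(Matrix.symplecticGroup (Fin n) F) →* GL (Fin d) K) (hker : ρ.ker ≤ Subgroup.center ↥(Matrix.symplecticGroup (Fin n) F)) :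
    q ^ (n - 1) * (q - 1) / 2 ≤ d := by
  classical
  obtain ⟨m, rfl⟩ : ∃ m, n = m + 1 := ⟨n - 1, by omega⟩
  rw [Nat.add_sub_cancel]
  let L := AlgebraicClosure K
  let ι : GL (Fin d) K →* GL (Fin d) L := Matrix.GeneralLinearGroup.map (algebraMap K L)
  let R : ↥(Matrix.symplecticGroup (Fin (m + 1)) F) →* Module.End L (Fin d → L) :=
    ((Matrix.toLinAlgEquiv' : Matrix (Fin d) (Fin d) L ≃ₐ[L] _) : Matrix (Fin d) (Fin d) L →* _).comp
      ((Units.coeHom _).comp (ι.comp ρ))
  let T : AddChar (symMat (m + 1) F) (Module.End L (Fin d → L)) :=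
    { toFun := fun S => R (sh S.1 S.2)
      map_zero_eq_one' := (congrArg R sh_zero).trans (map_one R)
      map_add_eq_mul' := fun a b => (congrArg R (sh_mul a.2 b.2)).symm.trans (map_mul R _ _) }
  obtain ⟨p, _⟩ := CharP.exists F
  have : Fact p.Prime := ⟨CharP.char_is_prime F p⟩
  have hpL : (p : L) ≠ 0 := by
    intro h
    apply hK
    have hK0 : (p : K) = 0 := (algebraMap K L).injective (by rw [map_natCast, h, map_zero])
    rw [ringChar.eq F p]
    rcases (Nat.dvd_prime Fact.out).1 (ringChar.dvd hK0) with h1 | h1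
    · exact absurd h1 (CharP.ringChar_ne_one (R := K))
    · exact h1
  have h2F : (2 : F) ≠ 0 := by
    refine Ring.two_ne_zero fun h => ?_
    have := FiniteField.even_card_of_char_two h
    rw [Nat.odd_iff, ← hq] at hodd
    omega
  -- rank one symmetric matrices
  let rk : F → (Fin (m + 1) → F) → symMat (m + 1) F := fun c v =>
    ⟨c • Matrix.vecMulVec v v, by show (c • _)ᵀ = _; rw [transpose_smul, transpose_vecMulVec]⟩
  have hconj : ∀ (A : GL (Fin (m + 1)) F) (S : symMat (m + 1) F),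
      R (sh S.1 S.2) * R (lev A)⁻¹ =
        R (lev A)⁻¹ * T ⟨(A : Matrix (Fin (m + 1)) (Fin (m + 1)) F) * S.1 * (A : Matrix (Fin (m + 1)) (Fin (m + 1)) F)ᵀ,
          congr_symm S.2 _⟩ := by
    intro A S
    show _ = R (lev A)⁻¹ * R (sh _ _)
    rw [← lev_conj_sh A S.2, ← map_mul, ← map_mul]
    congr 1
    group
  let a₀ : symMat (m + 1) F := rk 1 (Pi.single 0 1)
  have ha₀ : T a₀ ≠ 1 := by
    intro h
    have hR : R (sh a₀.1 a₀.2) = 1 := h
    have h1 : (Units.coeHom _) ((ι.comp ρ) (sh a₀.1 a₀.2)) = (1 : Matrix (Fin d) (Fin d) L) := by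
      apply (Matrix.toLinAlgEquiv' : Matrix (Fin d) (Fin d) L ≃ₐ[L] _).injective
      rw [map_one]
      exact hR
    have h2 : sh a₀.1 a₀.2 ∈ ρ.ker := by
      apply MonoidHom.mem_ker.2
      apply Units.ext
      apply Matrix.map_injective (algebraMap K L).injective
      simpa [ι] using h1
    let B : GL (Fin (m + 1)) F := Matrix.GeneralLinearGroup.mkOfDetNeZero
      (Matrix.transvection (Fin.last m) 0 1) (by
        rw [Matrix.det_transvection_of_ne _ _ (by simp [Fin.ext_iff]; omega)]; exact one_ne_zero)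
    have h3 : lev B * sh a₀.1 a₀.2 * (lev B)⁻¹ = sh a₀.1 a₀.2 := by
      rw [Subgroup.mem_center_iff.1 (hker h2) (lev B), mul_inv_cancel_right]
    rw [lev_conj_sh B a₀.2] at h3
    have h4 := congrArg (fun X => bB X (Fin.last m) (Fin.last m)) h3
    have hl : (Fin.last m : Fin (m + 1)) ≠ 0 := by simp [Fin.ext_iff]; omega
    simp only [sh, bB_ofBlocks, a₀, rk, one_smul] at h4
    simp [B, Matrix.transvection, Matrix.vecMulVec, Matrix.mul_apply, Pi.single_apply, Matrix.single, hl, hl.symm] at h4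
  obtain ⟨χ₀, x₀, hx₀0, hx₀, hχ₀⟩ := Cfsg.Agent.LinRep.CharOrbit.exists_nontrivial_char p hpL T
    (fun a => by ext i j; simp) ha₀
  have hne : ∀ (χ : AddChar (symMat (m + 1) F) L) a, χ a ≠ 0 := fun χ a => (AddChar.val_isUnit χ a).ne_zero
  -- a rank one matrix where it is non-trivial
  obtain ⟨c₀, v, hv⟩ : ∃ c v, χ₀ (rk c v) ≠ 1 := by
    by_contra! H
    apply hχ₀
    exact H 1 (Pi.single 0 1)
  have hv0 : v ≠ 0 := by
    rintro rfl
    apply hv
    rw [show rk c₀ 0 = 0 from Subtype.ext (by simp [rk])]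
    exact AddChar.map_zero_eq_one χ₀
  obtain ⟨A₀, hA₀⟩ := Cfsg.Agent.GL.exists_SL_mulVec_eq (v := (Pi.single 0 1 : Fin (m + 1) → F)) (w := v)
    (by simp; omega) (by simp) hv0
  -- all twisted characters occur
  let tw : GL (Fin (m + 1)) F → AddChar (symMat (m + 1) F) L := fun A =>
    { toFun := fun S => χ₀ ⟨(A : Matrix (Fin (m + 1)) (Fin (m + 1)) F) * S.1 * (A : Matrix (Fin (m + 1)) (Fin (m + 1)) F)ᵀ,
        congr_symm S.2 _⟩
      map_zero_eq_one' := by
        convert AddChar.map_zero_eq_one χ₀ using 2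
        exact Subtype.ext (by simp)
      map_add_eq_mul' := fun a b => by
        rw [← AddChar.map_add_eq_mul]
        congr 1
        exact Subtype.ext (by simp [mul_add, add_mul]) }
  have htw : ∀ A, ∃ x : Fin d → L, x ≠ 0 ∧ ∀ S, T S x = tw A S • x := by
    intro A
    refine ⟨R (lev A)⁻¹ x₀, fun h => hx₀0 ?_, fun S => ?_⟩
    · have := congrArg (R (lev A)) h
      rwa [← Module.End.mul_apply, ← map_mul, mul_inv_cancel, map_one, map_zero] at this
    · show R (sh S.1 S.2) (R (lev A)⁻¹ x₀) = _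
      rw [← Module.End.mul_apply, hconj A S, Module.End.mul_apply, hx₀, map_smul]
      rfl
  let χ : AddChar (symMat (m + 1) F) L := tw (Matrix.SpecialLinearGroup.toGL A₀)
  have htw' : ∀ A S, tw (Matrix.SpecialLinearGroup.toGL A₀ * A) S =
      χ ⟨(A : Matrix (Fin (m + 1)) (Fin (m + 1)) F) * S.1 * (A : Matrix (Fin (m + 1)) (Fin (m + 1)) F)ᵀ,
        congr_symm S.2 _⟩ := by
    intro A S
    show χ₀ _ = χ₀ _
    congr 1
    exact Subtype.ext (by simp [mul_assoc, transpose_mul])
  have hcv : ∀ (M : Matrix (Fin (m + 1)) (Fin (m + 1)) F) (u w : Fin (m + 1) → F),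
      M * Matrix.vecMulVec u w * Mᵀ = Matrix.vecMulVec (M *ᵥ u) (M *ᵥ w) := by
    intro M u w
    rw [Matrix.mul_vecMulVec, Matrix.vecMulVec_mul, Matrix.vecMul_transpose]
  have hψ : χ (rk c₀ (Pi.single 0 1)) ≠ 1 := by
    intro h
    apply hv
    refine Eq.trans ?_ h
    show χ₀ _ = χ₀ _
    congr 1
    refine Subtype.ext ?_
    simp only [rk, Matrix.mul_smul, Matrix.smul_mul, hcv]
    rw [show ((Matrix.SpecialLinearGroup.toGL A₀ : GL (Fin (m + 1)) F) : Matrix (Fin (m + 1)) (Fin (m + 1)) F) *ᵥ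
      Pi.single 0 1 = v from hA₀]
  -- an injective family of twists
  let Q : Finset F := (Finset.univ.filter fun a : F => a ≠ 0).image fun a => a ^ 2
  have hQ : ∀ b ∈ Q, ∃ a : F, a ≠ 0 ∧ a ^ 2 = b := fun b hb => by
    obtain ⟨a, ha, rfl⟩ := Finset.mem_image.1 hb
    exact ⟨a, (Finset.mem_filter.1 ha).2, rfl⟩
  choose! r hr0 hr using hQ
  let M : F → (Fin m → F) → Matrix (Fin (m + 1)) (Fin (m + 1)) F := fun a w =>
    Matrix.of (Fin.cons (Fin.cons a w) fun i => Fin.cons 0 fun j => if i = j then 1 else 0)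
  have hM0 : ∀ a w, M a w *ᵥ Pi.single 0 1 = a • Pi.single 0 1 := by
    intro a w
    ext i
    refine Fin.cases ?_ (fun i => ?_) i <;> simp [M]
  have hMs : ∀ a w j, M a w *ᵥ Pi.single (Fin.succ j) 1 = w j • Pi.single 0 1 + Pi.single (Fin.succ j) 1 := by
    intro a w j
    ext i
    refine Fin.cases ?_ (fun i => ?_) i <;> simp [M, Pi.single_apply, Fin.succ_ne_zero, (Fin.succ_ne_zero _).symm]
  have hMdet : ∀ b ∈ Q, ∀ w, (M (r b) w).det ≠ 0 := by
    intro b hb w
    have : (M (r b) w).det = r b := by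
      rw [Matrix.det_succ_column_zero, Fin.sum_univ_succ]
      simp [M, Matrix.submatrix, Fin.succAbove]
      rw [show (Matrix.of fun i j => if i = j then (1 : F) else 0 : Matrix (Fin m) (Fin m) F) = 1 from rfl,
        Matrix.det_one, mul_one]
    rw [this]
    exact hr0 b hb
  let Φ : (Q × (Fin m → F)) → AddChar (symMat (m + 1) F) L := fun x =>
    tw (Matrix.SpecialLinearGroup.toGL A₀ * Matrix.GeneralLinearGroup.mkOfDetNeZero _ (hMdet x.1.1 x.1.2 x.2))
  have hprim : ∀ t : F, (∀ c, χ (rk (c * t) (Pi.single 0 1)) = 1) → t = 0 := by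
    intro t ht
    by_contra h0
    apply hψ
    simpa [div_mul_cancel₀ c₀ h0] using ht (c₀ / t)
  have hinj : Function.Injective Φ := by
    rintro ⟨⟨b, hb⟩, w⟩ ⟨⟨b', hb'⟩, w'⟩ h
    have hΦ : ∀ (x : Q × (Fin m → F)) S, Φ x S =
        χ ⟨M (r x.1.1) x.2 * S.1 * (M (r x.1.1) x.2)ᵀ, congr_symm S.2 _⟩ := fun x S => htw' _ _
    have key : ∀ (x : Q × (Fin m → F)) c, Φ x (rk c (Pi.single 0 1)) = χ (rk (c * x.1.1) (Pi.single 0 1)) := by
      intro x c
      rw [hΦ]
      congr 1
      refine Subtype.ext ?_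
      simp only [rk, Matrix.mul_smul, Matrix.smul_mul, hcv, hM0]
      rw [Matrix.smul_vecMulVec, Matrix.vecMulVec_smul, smul_smul, smul_smul, mul_assoc, ← pow_two, hr _ x.1.2]
    have e1 : b = b' := by
      refine sub_eq_zero.1 (hprim _ fun c => ?_)
      have hk := congrArg (fun f : AddChar (symMat (m + 1) F) L => f (rk c (Pi.single 0 1))) h
      simp only [key] at hk
      rw [show rk (c * (b - b')) (Pi.single 0 1) = rk (c * b) (Pi.single 0 1) - rk (c * b') (Pi.single 0 1) from
        Subtype.ext (by simp [rk, mul_sub, sub_smul]), AddChar.map_sub_eq_div, hk, div_self (hne _ _)]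
    subst e1
    refine Prod.ext rfl (funext fun j => ?_)
    have hab : 2 * r b * (w j - w' j) = 0 := by
      refine hprim _ fun c => ?_
      let P : symMat (m + 1) F := ⟨c • (Matrix.vecMulVec (Pi.single 0 1) (Pi.single (Fin.succ j) 1) +
        Matrix.vecMulVec (Pi.single (Fin.succ j) 1) (Pi.single 0 1)), by
          show (c • _)ᵀ = _
          rw [transpose_smul, transpose_add, transpose_vecMulVec, transpose_vecMulVec]; exact congrArg _ (add_comm _ _)⟩
      have key2 : ∀ u : Fin m → F, Φ (⟨b, hb⟩, u) P =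
          χ (rk (c * (2 * r b * u j)) (Pi.single 0 1) + r b • P) := by
        intro u
        rw [hΦ]
        congr 1
        refine Subtype.ext ?_
        simp only [rk, P, Matrix.mul_smul, Matrix.smul_mul, mul_add, add_mul, hcv, hM0, hMs,
          Submodule.coe_add, Submodule.coe_smul]
        simp only [Matrix.smul_vecMulVec, Matrix.vecMulVec_smul, Matrix.add_vecMulVec, Matrix.vecMulVec_add]
        module
      have hk : Φ (⟨b, hb⟩, w) P = Φ (⟨b, hb⟩, w') P := congrArg (fun f : AddChar (symMat (m + 1) F) L => f P) h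
      rw [key2, key2, AddChar.map_add_eq_mul, AddChar.map_add_eq_mul] at hk
      rw [show rk (c * (2 * r b * (w j - w' j))) (Pi.single 0 1) =
          rk (c * (2 * r b * w j)) (Pi.single 0 1) - rk (c * (2 * r b * w' j)) (Pi.single 0 1) from
        Subtype.ext (by simp [rk, mul_sub, sub_smul]), AddChar.map_sub_eq_div,
        mul_right_cancel₀ (hne _ _) hk, div_self (hne _ _)]
    exact sub_eq_zero.1 ((mul_eq_zero.1 hab).resolve_left (mul_ne_zero h2F (hr0 b hb)))
  have hcardQ : q - 1 ≤ 2 * Q.card := by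
    have h1 : (Finset.univ.filter fun a : F => a ≠ 0).card ≤ 2 * Q.card := by
      refine Finset.card_le_mul_card_image _ 2 fun b hb => ?_
      obtain ⟨a, -, rfl⟩ := Finset.mem_image.1 hb
      calc _ ≤ ({a, -a} : Finset F).card := Finset.card_le_card fun x hx => by
            have := (Finset.mem_filter.1 hx).2
            rcases sq_eq_sq_iff_eq_or_eq_neg.1 this with h | h <;> simp [h]
        _ ≤ 2 := Finset.card_le_two
    rwa [Finset.filter_ne', Finset.card_erase_of_mem (Finset.mem_univ _), Finset.card_univ, hq] at h1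
  have hbound := Cfsg.Agent.LinRep.CharOrbit.card_le_finrank (fun S => T S) (Finset.univ.image Φ) (by
    intro f hf
    obtain ⟨x, -, rfl⟩ := Finset.mem_image.1 hf
    exact htw _)
  rw [Finset.card_image_of_injective _ hinj, Finset.card_univ, Fintype.card_prod, Fintype.card_coe, Fintype.card_fun,
    Fintype.card_fin, hq, Module.finrank_fin_fun] at hbound
  calc q ^ m * (q - 1) / 2 ≤ q ^ m * (2 * Q.card) / 2 := Nat.div_le_div_right (Nat.mul_le_mul_left _ hcardQ)
    _ = Q.card * q ^ m := by rw [← mul_assoc, mul_comm (q ^ m) 2, mul_assoc, Nat.mul_div_cancel_left _ two_pos, mul_comm]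
    _ ≤ d := hbound

end Cfsg.Agent.S2393
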