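import Cfsg.Statements.S2394
import Cfsg.Agent.Lib.LinRep.CharOrbit
-- import your own Cfsg.Agent.* helpers here

set_option autoImplicit false
open scoped MatrixGroups
open Cfsg

namespace Cfsg.Agent.S2394

open Matrix

variable {F : Type*} [Field F] {n : ℕ}

/-- The block-diagonal embedding of `SL₂ⁿ` in `Sp_{2n}`. -/
def embed : (Fin n → SpecialLinearGroup (Fin 2) F) →* ↥(Matrix.symplecticGroup (Fin n) F) where
  toFun g := ⟨fromBlocks (diagonal fun i => (g i).1 0 0) (diagonal fun i => (g i).1 0 1)
      (diagonal fun i => (g i).1 1 0) (diagonal fun i => (g i).1 1 1), by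
    rw [SymplecticGroup.mem_iff, Matrix.J, fromBlocks_transpose, fromBlocks_multiply, fromBlocks_multiply]
    simp only [diagonal_transpose, mul_zero, mul_one, mul_neg, zero_add, add_zero, neg_mul, diagonal_mul_diagonal,
      diagonal_add, diagonal_neg]
    have hd : ∀ i, (g i).1 0 0 * (g i).1 1 1 - (g i).1 0 1 * (g i).1 1 0 = 1 := fun i => by
      have := (g i).2; rwa [det_fin_two] at this
    congr 1 <;> ext i j <;> by_cases h : i = j <;>
      first
        | (subst h; simp; grind)
        | simp [h]⟩
  map_one' := Subtype.ext (by simp [fromBlocks_one])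
  map_mul' g h := Subtype.ext (by
    show fromBlocks _ _ _ _ = fromBlocks _ _ _ _ * fromBlocks _ _ _ _
    rw [fromBlocks_multiply]
    simp [diagonal_mul_diagonal, Matrix.mul_apply, Fin.sum_univ_two])

theorem embed_injective : Function.Injective (embed : (Fin n → SpecialLinearGroup (Fin 2) F) → _) := by
  intro g h e
  have e' := congrArg Subtype.val e
  obtain ⟨h00, h01, h10, h11⟩ := fromBlocks_inj.1 e'
  funext i
  refine Matrix.SpecialLinearGroup.ext _ _ fun a b => ?_
  fin_cases a <;> fin_cases b
  · exact congrFun (diagonal_injective h00) i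
  · exact congrFun (diagonal_injective h01) i
  · exact congrFun (diagonal_injective h10) i
  · exact congrFun (diagonal_injective h11) i

/-- Flip-invariant sets of characters have at least `2n` members. -/
theorem count_chars {k n : ℕ} {L : Type*} [Field L]
    (S : Finset (AddChar (Fin n → ZMod k) L))
    (hflip : ∀ χ ∈ S, ∀ J : Finset (Fin n), ∃ χ' ∈ S, ∀ i, χ' (Pi.single i 1) =
      if i ∈ J then χ (-Pi.single i 1) else χ (Pi.single i 1))
    (hsupp : ∀ i, ∃ χ ∈ S, χ (Pi.single i 1) ≠ χ (-Pi.single i 1)) : 2 * n ≤ S.card := by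
  classical
  rcases Nat.eq_zero_or_pos n with rfl | hn
  · simp
  let supp : AddChar (Fin n → ZMod k) L → Finset (Fin n) :=
    fun χ => Finset.univ.filter fun i => χ (Pi.single i 1) ≠ χ (-Pi.single i 1)
  let w : AddChar (Fin n → ZMod k) L → ℕ := fun χ => 2 ^ (n - (supp χ).card)
  have hle : ∀ χ, (supp χ).card ≤ n := fun χ => (Finset.card_le_univ _).trans (by simp)
  have upper : ∑ χ ∈ S, (supp χ).card * w χ ≤ S.card * 2 ^ (n - 1) := by
    rw [← smul_eq_mul, ← Finset.sum_const]
    refine Finset.sum_le_sum fun χ _ => ?_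
    show (supp χ).card * 2 ^ (n - (supp χ).card) ≤ 2 ^ (n - 1)
    generalize hm : (supp χ).card = m
    rcases m with _ | m
    · simp
    · have := hle χ
      rw [show n - 1 = m + (n - (m + 1)) by omega, pow_add]
      exact Nat.mul_le_mul_right _ m.lt_two_pow_self
  have lower : n * 2 ^ n ≤ ∑ χ ∈ S, (supp χ).card * w χ := by
    have e : ∑ χ ∈ S, (supp χ).card * w χ = ∑ i : Fin n, ∑ χ ∈ S.filter (fun χ => i ∈ supp χ), w χ := by
      calc ∑ χ ∈ S, (supp χ).card * w χ = ∑ χ ∈ S, ∑ i : Fin n, if i ∈ supp χ then w χ else 0 := by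
            refine Finset.sum_congr rfl fun χ _ => ?_
            rw [Finset.sum_ite_mem, Finset.univ_inter, Finset.sum_const, smul_eq_mul]
        _ = _ := by rw [Finset.sum_comm]; simp only [Finset.sum_filter]
    rw [e, show n * 2 ^ n = ∑ _i : Fin n, 2 ^ n by simp]
    refine Finset.sum_le_sum fun i _ => ?_
    obtain ⟨χ, hχ, hi⟩ := hsupp i
    have hi' : i ∈ supp χ := by simp [supp, hi]
    choose f hfS hf using hflip χ hχ
    have hfsupp : ∀ J, supp (f J) = supp χ := by
      intro J
      ext l
      simp only [supp, Finset.mem_filter, Finset.mem_univ, true_and]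
      have hneg : ∀ ψ : AddChar (Fin n → ZMod k) L, ψ (-Pi.single l 1) = (ψ (Pi.single l 1))⁻¹ :=
        fun ψ => ψ.map_neg_eq_inv _
      rw [hneg, hneg, hf]
      split_ifs
      · rw [hneg, inv_inv]; exact ne_comm
      · exact Iff.rfl
    have hinj : Set.InjOn f ((supp χ).powerset : Set (Finset (Fin n))) := by
      intro J hJ J' hJ' e
      ext l
      by_cases hl : l ∈ supp χ
      · have h1 := hf J l
        rw [e, hf J' l] at h1
        have hl' : χ (Pi.single l 1) ≠ χ (-Pi.single l 1) := (Finset.mem_filter.1 hl).2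
        by_cases a : l ∈ J <;> by_cases b : l ∈ J' <;> simp [a, b] at h1 ⊢
        · exact hl' h1
        · exact hl' h1.symm
      · exact iff_of_false (fun h => hl (Finset.mem_powerset.1 hJ h))
          (fun h => hl (Finset.mem_powerset.1 hJ' h))
    calc 2 ^ n = ∑ χ' ∈ (supp χ).powerset.image f, w χ' := by
          rw [Finset.sum_image hinj]
          simp only [w, hfsupp, Finset.sum_const, Finset.card_powerset, smul_eq_mul, ← pow_add]
          rw [Nat.add_sub_of_le (hle χ)]
      _ ≤ _ := Finset.sum_le_sum_of_subset (by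
          intro χ' h'
          obtain ⟨J, _, rfl⟩ := Finset.mem_image.1 h'
          exact Finset.mem_filter.2 ⟨hfS J, by rw [hfsupp]; exact hi'⟩)
  have h := lower.trans upper
  rw [show 2 ^ n = 2 * 2 ^ (n - 1) by rw [← pow_succ', Nat.sub_add_cancel hn]] at h
  exact Nat.le_of_mul_le_mul_right (by linarith) (pow_pos two_pos (n - 1))

/-- The core bound. -/
theorem bound {d k : ℕ} [NeZero k] (hk : (k : F) ≠ 0) (u w : SpecialLinearGroup (Fin 2) F)
    (hu : u ^ k = 1) (hw : w * u = u⁻¹ * w) (hu2 : u ^ 2 ≠ 1)
    (ρ : ↥(Matrix.symplecticGroup (Fin n) F) →* GL (Fin d) F) (hρ : Function.Injective ρ) : 2 * n ≤ d := by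
  classical
  let L := AlgebraicClosure F
  let R : (Fin n → SpecialLinearGroup (Fin 2) F) →* Module.End L (Fin d → L) :=
    ((Matrix.toLinAlgEquiv' : Matrix (Fin d) (Fin d) L ≃ₐ[L] _) : Matrix (Fin d) (Fin d) L →* _).comp
      ((Units.coeHom _).comp ((Matrix.GeneralLinearGroup.map (algebraMap F L)).comp (ρ.comp embed)))
  have hR : Function.Injective R :=
    (Matrix.toLinAlgEquiv' : Matrix (Fin d) (Fin d) L ≃ₐ[L] _).injective.comp
      (Units.val_injective.comp ((Units.map_injective
        (f := ((algebraMap F L).mapMatrix : Matrix (Fin d) (Fin d) F →+* _).toMonoidHom)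
        (Matrix.map_injective (algebraMap F L).injective)).comp (hρ.comp embed_injective)))
  let T : AddChar (Fin n → ZMod k) (Module.End L (Fin d → L)) :=
    { toFun := fun a => R (fun i => u ^ (a i).val)
      map_zero_eq_one' := by simp; exact map_one R
      map_add_eq_mul' := fun a b => by
        rw [← map_mul]
        congr 1
        funext i
        rw [Pi.mul_apply, ← pow_add, Pi.add_apply, ZMod.val_add, ← pow_eq_pow_mod _ hu] }
  have hw' : ∀ a : ZMod k, u ^ a.val * w = w * u ^ (-a).val := by
    intro a
    have h1 : u ^ (-a).val = (u ^ a.val)⁻¹ := by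
      apply eq_inv_of_mul_eq_one_left
      rw [← pow_add, pow_eq_pow_mod _ hu, ← ZMod.val_add, neg_add_cancel, ZMod.val_zero, pow_zero]
    rw [h1]
    have h2 : ∀ j : ℕ, u ^ j * w = w * (u ^ j)⁻¹ := by
      intro j
      induction j with
      | zero => simp
      | succ j ih =>
        have : u * w = w * u⁻¹ := by
          rw [eq_mul_inv_iff_mul_eq, mul_assoc, hw, mul_inv_cancel_left]
        rw [pow_succ', mul_assoc, ih, ← mul_assoc, this, _root_.mul_inv_rev, mul_assoc, ← _root_.mul_inv_rev,
          ← _root_.mul_inv_rev, ← pow_succ, ← pow_succ']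
    exact h2 a.val
  let E : AddChar (Fin n → ZMod k) L → Prop := fun χ => ∃ x : Fin d → L, x ≠ 0 ∧ ∀ a, T a x = χ a • x
  haveI hfin : Finite (AddChar (Fin n → ZMod k) L) := by
    have := (linearIndependent_monoidHom (Multiplicative (Fin n → ZMod k)) L).finite
    exact Finite.of_injective _ AddChar.toMonoidHomEquiv.injective
  haveI := Fintype.ofFinite (AddChar (Fin n → ZMod k) L)
  let S := (Finset.univ : Finset (AddChar (Fin n → ZMod k) L)).filter E
  have hcard : S.card ≤ d := by
    have := Cfsg.Agent.LinRep.CharOrbit.card_le_finrank (fun a => T a) S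
      (fun χ hχ => (Finset.mem_filter.1 hχ).2)
    simpa using this
  refine le_trans (count_chars S ?_ ?_) hcard
  · intro χ hχ J
    obtain ⟨x, hx0, hx⟩ := (Finset.mem_filter.1 hχ).2
    let φ : (Fin n → ZMod k) →+ (Fin n → ZMod k) :=
      { toFun := fun a i => if i ∈ J then -a i else a i
        map_zero' := by funext i; simp
        map_add' := fun a b => by funext i; dsimp only [Pi.add_apply]; split_ifs; exacts [neg_add _ _, rfl] }
    refine ⟨χ.compAddMonoidHom φ, Finset.mem_filter.2 ⟨Finset.mem_univ _,
      R (fun i => if i ∈ J then w else 1) x, ?_, fun a => ?_⟩, fun i => ?_⟩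
    · intro h
      apply hx0
      have := congrArg (R (fun i => if i ∈ J then w else 1)⁻¹) h
      rwa [← Module.End.mul_apply, ← map_mul, inv_mul_cancel, map_one, map_zero] at this
    · show R (fun i => u ^ (a i).val) _ = _
      have hc : ((fun i => u ^ (a i).val) : Fin n → SpecialLinearGroup (Fin 2) F) * (fun i => if i ∈ J then w else 1) =
          (fun i => if i ∈ J then w else 1) * (fun i => u ^ (φ a i).val) := by
        funext i
        show u ^ (a i).val * (if i ∈ J then w else 1) =
          (if i ∈ J then w else 1) * u ^ (if i ∈ J then -a i else a i).val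
        split_ifs
        · exact hw' _
        · simp
      rw [← Module.End.mul_apply, ← map_mul, hc, map_mul, Module.End.mul_apply,
        show R (fun i => u ^ (φ a i).val) x = _ from hx (φ a), map_smul]
      rfl
    · show χ (φ (Pi.single i 1)) = _
      split_ifs with hi
      · congr 1
        funext l
        by_cases hl : l = i
        · subst hl; simp [φ, hi]
        · simp [φ, hl]
      · congr 1
        funext l
        by_cases hl : l = i
        · subst hl; simp [φ, hi]
        · simp [φ, hl]
  · intro i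
    have ha0 : T (Pi.single i 1 + Pi.single i 1) ≠ 1 := by
      intro h
      have h' := hR (h.trans (map_one R).symm)
      have h2 := congrFun h' i
      simp only [Pi.add_apply, Pi.single_eq_same, Pi.one_apply] at h2
      rw [ZMod.val_add, ← pow_eq_pow_mod _ hu, ← two_mul, pow_mul'] at h2
      rcases Nat.lt_or_ge 1 k with h1 | h1
      · haveI : Fact (1 < k) := ⟨h1⟩
        rw [ZMod.val_one, pow_one] at h2
        exact hu2 h2
      · have : k = 1 := by have := NeZero.pos k; omega
        subst this
        rw [pow_one] at hu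
        exact hu2 (by rw [hu, one_pow])
    obtain ⟨χ, x, hx0, hx, hne⟩ := Cfsg.Agent.LinRep.CharOrbit.exists_nontrivial_char k
      (by rw [← map_natCast (algebraMap F L)]; exact fun h => hk ((algebraMap F L).injective (by rw [h, map_zero])))
      T (fun a => by funext l; simp) ha0
    refine ⟨χ, Finset.mem_filter.2 ⟨Finset.mem_univ _, x, hx0, hx⟩, fun e => hne ?_⟩
    rw [χ.map_add_eq_mul]
    conv_lhs => arg 2; rw [e]
    rw [← χ.map_add_eq_mul, add_neg_cancel, χ.map_zero_eq_one]


/-- The smallest degree of a faithful representation of the symplectic group `Sp_{2n}(q)` over its own field `F_q` is `2n`: every injective homomorphism from `Sp_{2n}(F)` to `GL_d(F)`, `F` the field with `q` elements, has `d ≥ 2n`. -/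
theorem result {F : Type*} [Field F] [Fintype F] (n : ℕ) {d : ℕ}
    (ρ : ↥(Matrix.symplecticGroup (Fin n) F) →* GL (Fin d) F) (hρ : Function.Injective ρ) : 2 * n ≤ d := by
  by_cases h2 : ringChar F = 2
  · haveI : CharP F 2 := ringChar.of_eq h2
    have h20 : (2 : F) = 0 := CharTwo.two_eq_zero
    let u : SpecialLinearGroup (Fin 2) F := ⟨!![0, 1; 1, 1], by simp [det_fin_two_of, CharTwo.neg_eq]⟩
    let w : SpecialLinearGroup (Fin 2) F := ⟨!![0, 1; 1, 0], by simp [det_fin_two_of, CharTwo.neg_eq]⟩
    refine bound (k := 3) ?_ u w ?_ ?_ ?_ ρ hρ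
    · intro h
      push_cast at h
      exact one_ne_zero (show (1 : F) = 0 by linear_combination h - h20)
    · apply Subtype.ext
      rw [Matrix.SpecialLinearGroup.coe_pow, Matrix.SpecialLinearGroup.coe_one]
      ext i j
      fin_cases i <;> fin_cases j <;> simp [u, pow_succ, mul_apply, Fin.sum_univ_two] <;> grind
    · apply Subtype.ext
      rw [Matrix.SpecialLinearGroup.coe_mul, Matrix.SpecialLinearGroup.coe_mul, Matrix.SpecialLinearGroup.coe_inv,
        adjugate_fin_two]
      ext i j
      fin_cases i <;> fin_cases j <;> simp [u, w, mul_apply, Fin.sum_univ_two, CharTwo.neg_eq]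
    · intro h
      have := congrArg (fun g : SpecialLinearGroup (Fin 2) F => (g : Matrix (Fin 2) (Fin 2) F) 0 1) h
      simp only [Matrix.SpecialLinearGroup.coe_pow, Matrix.SpecialLinearGroup.coe_one] at this
      simp [u, pow_succ, mul_apply, Fin.sum_univ_two] at this
  · have h20 : (2 : F) ≠ 0 := Ring.two_ne_zero h2
    obtain ⟨a, b, hab⟩ := FiniteField.exists_root_sum_quadratic (f := (Polynomial.X ^ 2 : Polynomial F))
      (g := (Polynomial.X ^ 2 - Polynomial.C (-1) : Polynomial F))
      (Polynomial.degree_X_pow 2) (Polynomial.degree_X_pow_sub_C (by norm_num) _)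
      (FiniteField.odd_card_of_char_ne_two h2)
    simp at hab
    let u : SpecialLinearGroup (Fin 2) F := ⟨!![0, -1; 1, 0], by simp [det_fin_two_of]⟩
    let w : SpecialLinearGroup (Fin 2) F := ⟨!![a, b; b, -a], by rw [det_fin_two_of]; linear_combination -hab⟩
    refine bound (k := 4) ?_ u w ?_ ?_ ?_ ρ hρ
    · intro h
      push_cast at h
      exact mul_ne_zero h20 h20 (by linear_combination h)
    · apply Subtype.ext
      rw [Matrix.SpecialLinearGroup.coe_pow, Matrix.SpecialLinearGroup.coe_one]
      ext i j
      fin_cases i <;> fin_cases j <;> simp [u, pow_succ, mul_apply, Fin.sum_univ_two]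
    · apply Subtype.ext
      rw [Matrix.SpecialLinearGroup.coe_mul, Matrix.SpecialLinearGroup.coe_mul, Matrix.SpecialLinearGroup.coe_inv,
        adjugate_fin_two]
      ext i j
      fin_cases i <;> fin_cases j <;> simp [u, w, mul_apply, Fin.sum_univ_two]
    · intro h
      have := congrArg (fun g : SpecialLinearGroup (Fin 2) F => (g : Matrix (Fin 2) (Fin 2) F) 0 0) h
      simp only [Matrix.SpecialLinearGroup.coe_pow, Matrix.SpecialLinearGroup.coe_one] at this
      simp [u, pow_succ, mul_apply, Fin.sum_univ_two] at this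
      exact h20 (by linear_combination -this)

end Cfsg.Agent.S2394
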