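import Cfsg.Statements.S2397
import Cfsg.Agent.Lib.Chev.Steinberg.Presented
import Cfsg.Agent.Lib.Chev.Steinberg.FiniteSymbol
import Cfsg.Agent.Lib.Chev.Seven

set_option autoImplicit false
open Cfsg

namespace Cfsg.Agent.S2397

/-- Over a finite field the relators (R3) h̄_r(t₁) h̄_r(t₂) = h̄_r(t₁ t₂) are consequences of (R1) and (R2): for each of the types G₂, B₂, D₄, F₄, E₆, E₇, E₈ (for types B₂ and G₂ the field must have more than two elements — the cases where the Chevalley group is not simple are set aside) the group presented by (R1), (R2) is canonically isomorphic to the one presented by (R1)–(R3), by an isomorphism matching the generators x̄_r(t). -/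
theorem result {K : Type*} [Field K] [Finite K] (D : Cfsg.Lie.ChevalleyDatum) (hD : D ∈ [Cfsg.Lie.chevG2, Cfsg.Lie.chevB2, Cfsg.Lie.chevD4, Cfsg.Lie.chevF4, Cfsg.Lie.chevE6, Cfsg.Lie.chevE7, Cfsg.Lie.chevE8]) (hK : D ∈ [Cfsg.Lie.chevB2, Cfsg.Lie.chevG2] → ∃ x : K, x ≠ 0 ∧ x ≠ 1) :
    ∃ e : D.SteinbergCover K ≃* D.SteinbergGroup K, ∀ (r : ℕ) (t : K), e (D.scGen K r t) = D.stGen K r t := by
  classical
  have hG := Agent.Chev.good_of_mem hD
  obtain ⟨tabs, simps, hf⟩ := Agent.Chev.BNSetup.exists_facts hD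
  have hst := Agent.Chev.stData_of_mem D hD
  obtain ⟨θ, -, hθ⟩ := hG.exists_cover_hom (F := K)
  let S := Agent.Chev.coverModel ((D.group K).subtype.comp θ) hθ
  have hm := S.mulRel_of_finite hG hf hst (S.ker_le_center hG hf hst (Agent.Chev.closure_scGen D K))
  have hH : ∀ (r : ℕ) (t : K), PresentedGroup.mk (D.steinbergRelsAB K) (D.stH r t) = S.h r t := by
    intro r t
    simp [S, Lie.ChevalleyDatum.stH, Lie.ChevalleyDatum.stWord, Lie.ChevalleyDatum.hWord,
      Lie.ChevalleyDatum.nWord, Agent.Chev.StModel.h, Agent.Chev.StModel.n, Agent.Chev.coverModel,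
      Lie.ChevalleyDatum.scGen, map_mul, mul_assoc]
  have hrel : ∀ g ∈ D.steinbergRels K,
      FreeGroup.lift (fun p => PresentedGroup.of (rels := D.steinbergRelsAB K) p) g = 1 := by
    intro g hg
    have e : FreeGroup.lift (fun p => PresentedGroup.of (rels := D.steinbergRelsAB K) p) =
        PresentedGroup.mk (D.steinbergRelsAB K) :=
      FreeGroup.ext_hom _ _ fun a => by rw [FreeGroup.lift_apply_of]; rfl
    rw [e]
    rcases hg with hg | ⟨r, t₁, t₂, hr, h1, h2, rfl⟩
    · exact PresentedGroup.one_of_mem hg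
    · rw [map_mul, map_mul, map_inv, mul_inv_eq_one, hH, hH, hH, S.h_mul_all hG hf hst hm hr t₁ t₂ h1 h2]
  let f := PresentedGroup.toGroup hrel
  have hf' : ∀ (r : ℕ) (t : K), f (D.stGen K r t) = D.scGen K r t := by
    intro r t
    by_cases hr : r < D.nroots
    · simp [f, Lie.ChevalleyDatum.scGen, Lie.ChevalleyDatum.stGen, Lie.ChevalleyDatum.stX, hr]
      rfl
    · simp [Lie.ChevalleyDatum.scGen, Lie.ChevalleyDatum.stGen, Lie.ChevalleyDatum.stX, hr]
  refine ⟨MonoidHom.toMulEquiv (Agent.Chev.coverToGroup D K) f ?_ ?_,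
    fun r t => Agent.Chev.coverToGroup_scGen D K r t⟩
  · refine MonoidHom.eq_of_eqOn_dense (Agent.Chev.closure_scGen D K) ?_
    rintro g ⟨r, -, t, rfl⟩
    rw [MonoidHom.comp_apply, Agent.Chev.coverToGroup_scGen, hf', MonoidHom.id_apply]
  · refine MonoidHom.eq_of_eqOn_dense (Agent.Chev.closure_stGen D K) ?_
    rintro g ⟨r, -, t, rfl⟩
    rw [MonoidHom.comp_apply, hf', Agent.Chev.coverToGroup_scGen, MonoidHom.id_apply]

end Cfsg.Agent.S2397
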