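import Cfsg.Statements.S2399
import Cfsg.Agent.Lib.Chev.Steinberg.CharPLift
import Cfsg.Agent.Lib.Chev.Steinberg.TorusSplitCheck
import Cfsg.Agent.S2395

set_option autoImplicit false
open scoped MatrixGroups
open Cfsg

namespace Cfsg.Agent.S2399

/-- Projective representations in the natural characteristic lift: for each of the types G₂, B₂, D₄, F₄, E₆, E₇, E₈ over any field `K` (for types B₂ and G₂ the field must have more than two elements — the cases where the Chevalley group is not simple are set aside), every homomorphism from the Chevalley group to `PGL_n(L) = GL_n(L)/Z`, `L` a field of the same characteristic as `K`, lifts uniquely to a homomorphism from the group Δ presented by (R1), (R2) to `GL_n(L)`, compatibly with the projection Δ → Chevalley group sending x̄_r(t) to x_r(t). -/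
theorem result {K : Type*} [Field K] (D : Cfsg.Lie.ChevalleyDatum) (hD : D ∈ [Cfsg.Lie.chevG2, Cfsg.Lie.chevB2, Cfsg.Lie.chevD4, Cfsg.Lie.chevF4, Cfsg.Lie.chevE6, Cfsg.Lie.chevE7, Cfsg.Lie.chevE8]) (hK : D ∈ [Cfsg.Lie.chevB2, Cfsg.Lie.chevG2] → ∃ x : K, x ≠ 0 ∧ x ≠ 1)
    (θ : D.SteinbergCover K →* ↥(D.group K))
    (hθ : ∀ (r : ℕ) (t : K), r < D.nroots → ((θ (D.scGen K r t) : GL D.Idx K) : Matrix D.Idx D.Idx K) = D.x K r t)
    {L : Type*} [Field L] (hL : ringChar L = ringChar K) {n : ℕ}
    (φ : ↥(D.group K) →* GL (Fin n) L ⧸ Subgroup.center (GL (Fin n) L)) :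
    ∃! ψ : D.SteinbergCover K →* GL (Fin n) L, (QuotientGroup.mk' (Subgroup.center (GL (Fin n) L))).comp ψ = φ.comp θ := by
  have hG := Agent.Chev.good_of_mem hD
  obtain ⟨tabs, simps, hf⟩ := Agent.Chev.BNSetup.exists_facts hD
  have hperf : commutator (D.SteinbergCover K) = ⊤ := Agent.S2395.result D hD hK
  have hS := Agent.Chev.torusSplitData_of_mem hD
  have hker : (QuotientGroup.mk' (Subgroup.center (GL (Fin n) L))).ker ≤ Subgroup.center (GL (Fin n) L) :=
    (QuotientGroup.ker_mk' _).le
  suffices h : ∃ ψ : D.SteinbergCover K →* GL (Fin n) L,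
      (QuotientGroup.mk' (Subgroup.center (GL (Fin n) L))).comp ψ = φ.comp θ by
    obtain ⟨ψ, hψ⟩ := h
    exact ⟨ψ, hψ, fun ψ' hψ' => Agent.Chev.lift_unique hperf hker (hψ'.trans hψ.symm)⟩
  rcases CharP.char_is_prime_or_zero K (ringChar K) with hp | hp
  · have : CharP L (ringChar K) := ringChar.of_eq hL
    exact Agent.Chev.exists_lift_projective hG hS hp hperf (φ.comp θ)
  · have : CharP K 0 := ringChar.of_eq hp
    have : CharZero K := CharP.charP_to_charZero K
    refine Agent.Chev.exists_lift_torus hG hf (Agent.Chev.stData_of_mem D hD) hS ?_ hperf _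
      (QuotientGroup.mk'_surjective _) hker (φ.comp θ)
    exact Infinite.exists_superset_card_eq ∅ 5 (by simp) |>.elim fun s hs => ⟨s, by omega⟩

end Cfsg.Agent.S2399
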