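import Cfsg.Statements.S2400
import Cfsg.Agent.Lib.Chev.Steinberg.SmallMultiplier
import Cfsg.Agent.Lib.Chev.Steinberg.SimplyCheck
import Cfsg.Agent.S2395
import Cfsg.Agent.S2397

set_option autoImplicit false
open Cfsg

namespace Cfsg.Agent.S2400

/-- Over a finite field `K`, the group presented by Steinberg's relators (R1)–(R3) (the universal Chevalley group) of type E₆ or E₇, or of type B₂ or D₄ with `K` of more than two elements, has trivial Schur multiplier: every finite stem extension of it is an isomorphism (Schur multiplier described through stem extensions as in the definitions). Types G₂, F₄ and E₈ are not covered here. -/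
theorem result {K : Type*} [Field K] [Fintype K] (e : Cfsg.Lie.ChevalleyDatum × ℕ)
    (he : e ∈ [(Cfsg.Lie.chevE6, 0), (Cfsg.Lie.chevE7, 0), (Cfsg.Lie.chevB2, 2), (Cfsg.Lie.chevD4, 2)]) (hK : Fintype.card K ≠ e.2) :
    Cfsg.HasCyclicSchurMultiplier (e.1.SteinbergGroup K) 1 := by
  classical
  have h1lt : 1 < Fintype.card K := Fintype.one_lt_card
  obtain ⟨hD, hcase⟩ : e.1 ∈ [Lie.chevG2, Lie.chevB2, Lie.chevD4, Lie.chevF4, Lie.chevE6, Lie.chevE7, Lie.chevE8] ∧
      (Agent.Chev.SimplyData e.1 ∧ e.1.rank ≠ 2 ∨ e.1 ∈ [Lie.chevB2, Lie.chevD4, Lie.chevF4] ∧ 3 ≤ Fintype.card K) := by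
    simp only [List.mem_cons, List.not_mem_nil, or_false] at he
    rcases he with rfl | rfl | rfl | rfl
    · exact ⟨by simp, Or.inl ⟨Agent.Chev.simplyData_E6, by decide⟩⟩
    · exact ⟨by simp, Or.inl ⟨Agent.Chev.simplyData_E7, by decide⟩⟩
    · refine ⟨by simp, Or.inr ⟨by simp, ?_⟩⟩; dsimp only at hK; omega
    · refine ⟨by simp, Or.inr ⟨by simp, ?_⟩⟩; dsimp only at hK; omega
  have hG := Agent.Chev.good_of_mem hD
  obtain ⟨tabs, simps, hf⟩ := Agent.Chev.BNSetup.exists_facts hD
  have hst := Agent.Chev.stData_of_mem _ hD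
  have hone : e.1 ∈ [Lie.chevB2, Lie.chevG2] → ∃ x : K, x ≠ 0 ∧ x ≠ 1 := by
    intro h
    have h3 : 3 ≤ Fintype.card K := by
      rcases hcase with ⟨-, hr⟩ | ⟨-, h3⟩
      · simp only [List.mem_cons, List.not_mem_nil, or_false] at h
        rcases h with h | h <;> exact absurd (by rw [h]; decide) hr
      · exact h3
    obtain ⟨x, -, hx⟩ := Finset.exists_mem_notMem_of_card_lt_card
      (show ({0, 1} : Finset K).card < (Finset.univ : Finset K).card from
        Finset.card_le_two.trans_lt (by rw [Finset.card_univ]; omega))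
    simp only [Finset.mem_insert, Finset.mem_singleton, not_or] at hx
    exact ⟨x, hx.1, hx.2⟩
  have hperf : commutator (e.1.SteinbergCover K) = ⊤ := Agent.S2395.result _ hD hone
  have hsplit : Agent.Chev.SplitsCover e.1 K := by
    rcases hcase with ⟨hS, -⟩ | ⟨h1, h3⟩
    · exact fun E G₁ _ _ π h1 h2 σ => Agent.Chev.exists_lift hG hf hS π h1 h2 σ
    · exact Agent.Chev.splitsCover_three_le h1 h3 hperf
  obtain ⟨f, -⟩ := Agent.S2397.result (K := K) _ hD hone
  exact Agent.Chev.multiplier_trivial_of_iso (Agent.Chev.finite_cover hG hf hst) hsplit f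

end Cfsg.Agent.S2400
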