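import Cfsg.Statements.S2401
import Cfsg.Agent.Lib.SL2Presentation.SteinbergNCard
import Cfsg.Agent.Lib.GL.Basic

set_option autoImplicit false
open Cfsg

namespace Cfsg.Agent.S2401

/-- The Steinberg presentation of `SL_n` over a finite field for `n ≥ 3`: the group generated by symbols `x_ij(t)` (`i ≠ j`, `t` in the field) subject to `x_ij(t) x_ij(u) = x_ij(t + u)` and, for `i ≠ l`, `x_ij(t) x_kl(u) x_ij(t)⁻¹ x_kl(u)⁻¹ = x_il(tu)` if `j = k` and `= 1` if `j ≠ k`, is isomorphic to `SL_n` by an isomorphism sending `x_ij(t)` to the elementary matrix `1 + t E_ij`. -/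
theorem result {K : Type*} [Field K] [Finite K] (n : ℕ) (hn : 3 ≤ n) :
    ∃ e : PresentedGroup
        ({g : FreeGroup ({ij : Fin n × Fin n // ij.1 ≠ ij.2} × K) | ∃ (a : {ij : Fin n × Fin n // ij.1 ≠ ij.2}) (t u : K),
            g = FreeGroup.of (a, t) * FreeGroup.of (a, u) * (FreeGroup.of (a, t + u))⁻¹} ∪
          {g | ∃ (a b : {ij : Fin n × Fin n // ij.1 ≠ ij.2}) (t u : K), a.1.1 ≠ b.1.2 ∧ a.1.2 ≠ b.1.1 ∧
            g = FreeGroup.of (a, t) * FreeGroup.of (b, u) * (FreeGroup.of (a, t))⁻¹ * (FreeGroup.of (b, u))⁻¹} ∪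
          {g | ∃ (a b : {ij : Fin n × Fin n // ij.1 ≠ ij.2}) (h : a.1.1 ≠ b.1.2) (t u : K), a.1.2 = b.1.1 ∧
            g = FreeGroup.of (a, t) * FreeGroup.of (b, u) * (FreeGroup.of (a, t))⁻¹ * (FreeGroup.of (b, u))⁻¹ *
              (FreeGroup.of (⟨(a.1.1, b.1.2), h⟩, t * u))⁻¹}) ≃* Matrix.SpecialLinearGroup (Fin n) K,
      ∀ (a : {ij : Fin n × Fin n // ij.1 ≠ ij.2}) (t : K), ((e (PresentedGroup.of (a, t)) : Matrix (Fin n) (Fin n) K)) = Matrix.transvection a.1.1 a.1.2 t := by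
  classical
  haveI := Fintype.ofFinite K
  set I := {ij : Fin n × Fin n // ij.1 ≠ ij.2}
  set R : Set (FreeGroup (I × K)) := _ ∪ _ ∪ _ with hR
  set f : I × K → Matrix.SpecialLinearGroup (Fin n) K := fun a => Matrix.SpecialLinearGroup.transvection a.1.2 a.2
    with hf
  have hval : ∀ a : I × K, (f a : Matrix (Fin n) (Fin n) K) = 1 + Matrix.single a.1.1.1 a.1.1.2 a.2 := fun a => rfl
  have hz : ∀ (i j k l : Fin n) (c d : K), j ≠ k → Matrix.single i j c * Matrix.single k l d = 0 :=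
    fun i j k l c d h => Matrix.single_mul_single_of_ne c i j k h d
  have hrel : ∀ r ∈ R, FreeGroup.lift f r = 1 := by
    rintro r ((⟨a, t, u, rfl⟩ | ⟨a, b, t, u, h1, h2, rfl⟩) | ⟨a, b, h, t, u, h2, rfl⟩)
    · simp only [map_mul, map_inv, FreeGroup.lift_apply_of]
      rw [mul_inv_eq_one]
      refine Subtype.ext ?_
      rw [Matrix.SpecialLinearGroup.coe_mul, hval, hval, hval, Matrix.single_add]
      simp only [mul_add, add_mul, one_mul, mul_one, hz a.1.1 a.1.2 a.1.1 a.1.2 _ _ a.2.symm]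
      abel
    · simp only [map_mul, map_inv, FreeGroup.lift_apply_of]
      rw [mul_inv_eq_one, mul_inv_eq_iff_eq_mul]
      refine Subtype.ext ?_
      rw [Matrix.SpecialLinearGroup.coe_mul, Matrix.SpecialLinearGroup.coe_mul, hval, hval]
      simp only [mul_add, add_mul, one_mul, mul_one, hz a.1.1 a.1.2 b.1.1 b.1.2 _ _ h2,
        hz b.1.1 b.1.2 a.1.1 a.1.2 _ _ h1.symm]
      abel
    · simp only [map_mul, map_inv, FreeGroup.lift_apply_of]
      rw [mul_inv_eq_one, mul_inv_eq_iff_eq_mul, mul_inv_eq_iff_eq_mul]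
      obtain ⟨⟨i, j⟩, hij⟩ := a
      obtain ⟨⟨j', l⟩, hjl⟩ := b
      obtain rfl : j = j' := h2
      refine Subtype.ext ?_
      rw [Matrix.SpecialLinearGroup.coe_mul, Matrix.SpecialLinearGroup.coe_mul, Matrix.SpecialLinearGroup.coe_mul,
        hval, hval, hval]
      simp only [mul_add, add_mul, one_mul, mul_one, Matrix.single_mul_single_same,
        hz j l i j _ _ (Ne.symm h), hz i l j l _ _ hjl.symm, hz i l i j _ _ (Ne.symm h)]
      simp only [zero_mul, add_zero]
      abel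
  set φ := PresentedGroup.toGroup (f := f) hrel
  have hφ : ∀ a, φ (PresentedGroup.of a) = f a := fun a => PresentedGroup.toGroup.of hrel
  have hone : ∀ r ∈ R, PresentedGroup.mk R r = 1 := fun r hr => PresentedGroup.one_of_mem hr
  let T0 : SL2Presentation.Rels K n (PresentedGroup R) :=
    { x := fun i j t => if h : i ≠ j then PresentedGroup.of (⟨(i, j), h⟩, t) else 1
      add := fun i j h t u => by
        simp only [dif_pos h]
        exact (mul_inv_eq_one.1 (hone _ (Or.inl (Or.inl ⟨⟨(i, j), h⟩, t, u, rfl⟩)))).symm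
      comm := fun i j k l h1 h2 h3 h4 t u => by
        simp only [dif_pos h1, dif_pos h2]
        exact mul_inv_eq_iff_eq_mul.1
          (mul_inv_eq_one.1 (hone _ (Or.inl (Or.inr ⟨⟨(i, j), h1⟩, ⟨(k, l), h2⟩, t, u, h3, h4, rfl⟩))))
      chain := fun i j l h1 h2 h3 t u => by
        simp only [dif_pos h1, dif_pos h2, dif_pos h3]
        exact mul_inv_eq_iff_eq_mul.1 (mul_inv_eq_iff_eq_mul.1
          (mul_inv_eq_one.1 (hone _ (Or.inr ⟨⟨(i, j), h1⟩, ⟨(j, l), h2⟩, h3, t, u, rfl, rfl⟩)))) }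
  let T : SL2Presentation.StN K n (PresentedGroup R) :=
    { T0 with
      rel := fun i j hij t u ht => by
        obtain ⟨k, hki, hkj⟩ : ∃ k : Fin n, k ≠ i ∧ k ≠ j := by
          have : ({i, j} : Finset (Fin n))ᶜ.Nonempty := by
            rw [← Finset.card_pos, Finset.card_compl, Fintype.card_fin, Finset.card_pair hij]
            omega
          obtain ⟨k, hk⟩ := this
          exact ⟨k, by simp at hk; exact hk.1, by simp at hk; exact hk.2⟩
        exact T0.rel_of_third hij hki hkj t u ht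
      gen := by
        rw [eq_top_iff, ← PresentedGroup.closure_range_of R, Subgroup.closure_le]
        rintro _ ⟨⟨⟨⟨i, j⟩, h⟩, t⟩, rfl⟩
        exact Subgroup.subset_closure ⟨i, j, h, t, by simp [T0, show i ≠ j from h]⟩ }
  have hsurj : Function.Surjective φ := by
    rw [← MonoidHom.range_eq_top]
    refine GL.SL_eq_top_of_transvection_mem fun i j hij c => ?_
    exact ⟨PresentedGroup.of (⟨(i, j), hij⟩, c), hφ _⟩
  obtain ⟨m, rfl⟩ : ∃ m, n = m + 1 := ⟨n - 1, by omega⟩
  obtain ⟨hfin, hle⟩ := SL2Presentation.StN.card_bound m T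
  haveI := hfin
  have hbij : Function.Bijective φ := by
    refine hsurj.bijective_of_nat_card_le (hle.trans (le_of_eq ?_))
    rw [GL.card_SL_prod]
    simp
  refine ⟨MulEquiv.ofBijective φ hbij, fun a t => ?_⟩
  rw [MulEquiv.ofBijective_apply, hφ]
  rfl

end Cfsg.Agent.S2401
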