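import Cfsg.Statements.S2402
import Cfsg.Agent.Lib.GL.CycleGen
-- import your own Cfsg.Agent.* helpers here

set_option autoImplicit false
open Cfsg

namespace Cfsg.Agent.S2402

/-- Every element of a finite field is a sum of two squares. -/
theorem two_squares {K : Type*} [Field K] [Fintype K] (e : K) : ∃ a b : K, a ^ 2 + b ^ 2 = e := by
  by_cases h2 : ringChar K = 2
  · obtain ⟨r, hr⟩ := FiniteField.isSquare_of_char_two h2 e
    exact ⟨r, 0, by rw [hr]; ring⟩
  · obtain ⟨a, b, hab⟩ := FiniteField.exists_root_sum_quadratic (f := (Polynomial.X ^ 2 : Polynomial K))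
      (g := (Polynomial.X ^ 2 - Polynomial.C e : Polynomial K))
      (Polynomial.degree_X_pow 2) (Polynomial.degree_X_pow_sub_C (by norm_num) e)
      (FiniteField.odd_card_of_char_ne_two h2)
    simp at hab
    exact ⟨a, b, by linear_combination hab⟩

open Matrix in
/-- A diagonal matrix conjugates a transvection to a transvection. -/
theorem diag_conj {K : Type*} [Field K] {m : ℕ} (d : Matrix.SpecialLinearGroup (Fin m) K) (f : Fin m → K)
    (hd : (d : Matrix (Fin m) (Fin m) K) = diagonal f) {i j : Fin m} (hij : i ≠ j) (s t : K)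
    (h : s * f j = f i * t) :
    d * Matrix.SpecialLinearGroup.transvection hij t = Matrix.SpecialLinearGroup.transvection hij s * d := by
  apply Matrix.SpecialLinearGroup.coeMonoidHom_injective
  simp only [map_mul, Matrix.SpecialLinearGroup.coeMonoidHom_apply,
    Matrix.SpecialLinearGroup.transvection_coe, hd, mul_add, add_mul, mul_one, one_mul]
  congr 1
  ext r q
  simp [Matrix.single_apply, diagonal_mul, mul_diagonal]
  split_ifs with e
  · obtain ⟨rfl, rfl⟩ := e; rw [h]
  · rfl


/-- Explicit two-element generation of `PSL_{n+1}(K)` for a finite field `K` with more than three elements: let `k` generate the multiplicative group of `K`, `h = diag(k, k⁻¹, 1, …, 1)`, `x = 1 + E₁₂` (the elementary transvection) and `w` the monomial matrix with entries `1` in positions `(i, i+1)` and `(−1)^n` in position `(n+1, 1)`. Then `h` and `x·w` generate `SL_{n+1}(K)` modulo its centre: the subgroup they generate together with the centre is everything. -/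
theorem result {K : Type*} [Field K] [Fintype K] (hK : 3 < Fintype.card K) (n : ℕ) (hn : 1 ≤ n)
    (k : Kˣ) (hk : ∀ u : Kˣ, u ∈ Subgroup.zpowers k)
    (h x w : Matrix.SpecialLinearGroup (Fin (n + 1)) K)
    (hh : (h : Matrix (Fin (n + 1)) (Fin (n + 1)) K) =
      Matrix.diagonal (fun i => if i.val = 0 then (k : K) else if i.val = 1 then ((k⁻¹ : Kˣ) : K) else 1))
    (hx : (x : Matrix (Fin (n + 1)) (Fin (n + 1)) K) = Matrix.transvection (0 : Fin (n + 1)) (1 : Fin (n + 1)) 1)
    (hw : (w : Matrix (Fin (n + 1)) (Fin (n + 1)) K) =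
      Matrix.of (fun i j => if j.val = i.val + 1 then 1 else if i.val = n ∧ j.val = 0 then (-1) ^ n else 0)) :
    Subgroup.closure ({h, x * w} : Set (Matrix.SpecialLinearGroup (Fin (n + 1)) K)) ⊔
      Subgroup.center (Matrix.SpecialLinearGroup (Fin (n + 1)) K) = ⊤ := by
  classical
  set H := Subgroup.closure ({h, x * w} : Set (Matrix.SpecialLinearGroup (Fin (n + 1)) K))
  have hone : ((1 : Fin (n + 1)) : ℕ) = 1 := by simp; omega
  have h01 : (0 : Fin (n + 1)) ≠ 1 := by
    intro e
    have := congrArg Fin.val e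
    simp at this
    omega
  have hH : h ∈ H := Subgroup.subset_closure (by simp)
  have hg : x * w ∈ H := Subgroup.subset_closure (by simp)
  have hx' : x = Matrix.SpecialLinearGroup.transvection h01 (1 : K) := Subtype.ext hx
  set f : Fin (n + 1) → K :=
    fun i => if i.val = 0 then (k : K) else if i.val = 1 then ((k⁻¹ : Kˣ) : K) else 1 with hf
  obtain ⟨D, hD⟩ : ∃ D : Matrix.SpecialLinearGroup (Fin (n + 1)) K, D = w * h * w⁻¹ := ⟨_, rfl⟩
  let nxt : Fin (n + 1) → Fin (n + 1) := fun i =>
    if hi : i.val = n then 0 else ⟨i.val + 1, by have := i.isLt; omega⟩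
  set f' : Fin (n + 1) → K := fun i => f (nxt i) with hf'
  -- conjugating h by w permutes the diagonal cyclically
  have hw0 : ∀ i j, (w : Matrix (Fin (n + 1)) (Fin (n + 1)) K) i j ≠ 0 → j = nxt i := by
    intro i j hne
    rw [hw, Matrix.of_apply] at hne
    have := i.isLt
    have := j.isLt
    apply Fin.ext
    simp only [nxt]
    split_ifs at hne with a b
    · rw [dif_neg (by omega)]; exact a
    · rw [dif_pos b.1]; simpa using b.2
    · exact absurd rfl hne
  have hfac : (w : Matrix (Fin (n + 1)) (Fin (n + 1)) K) * Matrix.diagonal f =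
      Matrix.diagonal f' * (w : Matrix (Fin (n + 1)) (Fin (n + 1)) K) := by
    ext i j
    rw [Matrix.mul_diagonal, Matrix.diagonal_mul]
    by_cases hz : (w : Matrix (Fin (n + 1)) (Fin (n + 1)) K) i j = 0
    · rw [hz]; ring
    · rw [hf', hw0 i j hz]; ring
  have hD' : (D : Matrix (Fin (n + 1)) (Fin (n + 1)) K) = Matrix.diagonal f' := by
    rw [hD, Matrix.SpecialLinearGroup.coe_mul, Matrix.SpecialLinearGroup.coe_mul, hh, hfac,
      Matrix.mul_assoc, ← Matrix.SpecialLinearGroup.coe_mul w w⁻¹, mul_inv_cancel,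
      Matrix.SpecialLinearGroup.coe_one, mul_one]
  have hcomm : h * D = D * h := by
    apply Subtype.ext
    rw [Matrix.SpecialLinearGroup.coe_mul, Matrix.SpecialLinearGroup.coe_mul, hD', hh,
      Matrix.diagonal_mul_diagonal, Matrix.diagonal_mul_diagonal]
    congr 1
    funext i
    exact mul_comm _ _
  have hk0 : (k : K) ≠ 0 := k.ne_zero
  have hord : orderOf k = Fintype.card K - 1 := by
    rw [orderOf_eq_card_of_forall_mem_zpowers hk, Nat.card_eq_fintype_card, Fintype.card_units]
  have hk2 : (k : K) ^ 2 - 1 ≠ 0 := by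
    intro e
    have e' : k ^ 2 = 1 := Units.ext (by simpa [sub_eq_zero] using e)
    have := Nat.le_of_dvd (by norm_num) (orderOf_dvd_of_pow_eq_one e')
    omega
  have hk1 : (k : K) - 1 ≠ 0 := fun e => hk2 (by linear_combination ((k : K) + 1) * e)
  -- the diagonal entries used
  have f0 : f 0 = (k : K) := by simp [hf]
  have f1 : f 1 = (k : K)⁻¹ := by simp [hf, show n ≠ 0 by omega, show 0 < n by omega]
  have g0 : f' 0 = (k : K)⁻¹ := by
    simp only [hf', nxt]
    rw [dif_neg (by simp; omega)]
    simp [hf, show n ≠ 0 by omega, show 0 < n by omega]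
  have g1 : f' 1 ≠ f' 0 := by
    rw [g0]
    simp only [hf', nxt, hone]
    intro e
    by_cases hn1 : 1 = n
    · rw [dif_pos hn1, f0] at e
      apply hk2
      field_simp at e
      linear_combination e
    · rw [dif_neg hn1] at e
      simp [hf] at e
      exact hk1 (by simp [e])
  have hg0' : f' 0 ≠ 0 := by rw [g0]; simp [hk0]
  set a : K := f' 1 / f' 0 - 1 with ha
  have ha0 : a ≠ 0 := by
    rw [ha, sub_ne_zero, ne_eq, div_eq_one_iff_eq hg0']
    exact g1
  -- T a ∈ D⁻¹ H
  have hDT : D * Matrix.SpecialLinearGroup.transvection h01 a ∈ H := by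
    have key : (x * w) * h * (x * w)⁻¹ = D * Matrix.SpecialLinearGroup.transvection h01 a := by
      have e := diag_conj D f' hD' h01 1 (f' 1 / f' 0) (by field_simp)
      calc (x * w) * h * (x * w)⁻¹ = x * D * x⁻¹ := by rw [hD]; group
        _ = D * Matrix.SpecialLinearGroup.transvection h01 (f' 1 / f' 0) * x⁻¹ := by rw [hx', ← e]
        _ = D * Matrix.SpecialLinearGroup.transvection h01 a := by
          rw [hx', Matrix.SpecialLinearGroup.transvection_inv, mul_assoc,
            ← Matrix.SpecialLinearGroup.transvection_add, ha, sub_eq_add_neg]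
    rw [← key]
    exact mul_mem (mul_mem hg hH) (inv_mem hg)
  have conjT : ∀ t : K, h * Matrix.SpecialLinearGroup.transvection h01 t * h⁻¹ =
      Matrix.SpecialLinearGroup.transvection h01 ((k : K) ^ 2 * t) := fun t => by
    rw [mul_inv_eq_iff_eq_mul]
    refine diag_conj h f (hh.trans rfl) h01 _ _ ?_
    rw [f0, f1]
    field_simp
  let c : K := ((k : K) ^ 2 - 1) * a
  have hcT : Matrix.SpecialLinearGroup.transvection h01 c ∈ H := by
    have h1 : (D * Matrix.SpecialLinearGroup.transvection h01 a)⁻¹ *
        (h * (D * Matrix.SpecialLinearGroup.transvection h01 a) * h⁻¹) ∈ H :=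
      mul_mem (inv_mem hDT) (mul_mem (mul_mem hH hDT) (inv_mem hH))
    rw [show h * (D * Matrix.SpecialLinearGroup.transvection h01 a) * h⁻¹ =
        (h * D * h⁻¹) * (h * Matrix.SpecialLinearGroup.transvection h01 a * h⁻¹) by group,
      conjT, hcomm, show (D * h * h⁻¹) = D by group, mul_inv_rev, mul_assoc, inv_mul_cancel_left,
      Matrix.SpecialLinearGroup.transvection_inv, ← Matrix.SpecialLinearGroup.transvection_add] at h1
    rwa [show -a + (k : K) ^ 2 * a = c by simp only [c]; ring] at h1
  have hpow : ∀ m : ℕ, Matrix.SpecialLinearGroup.transvection h01 ((k : K) ^ (2 * m) * c) ∈ H := by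
    intro m
    induction m with
    | zero => simpa using hcT
    | succ m ih =>
      rw [show (k : K) ^ (2 * (m + 1)) * c = (k : K) ^ 2 * ((k : K) ^ (2 * m) * c) by ring, ← conjT]
      exact mul_mem (mul_mem hH ih) (inv_mem hH)
  have hsq : ∀ r : K, Matrix.SpecialLinearGroup.transvection h01 (r ^ 2 * c) ∈ H := by
    intro r
    by_cases hr : r = 0
    · simp [hr]
    · obtain ⟨m, hm⟩ := (mem_zpowers_iff_mem_range_orderOf.1 (hk (Units.mk0 r hr))) |> Finset.mem_image.1
      have hrk : r = (k : K) ^ m := by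
        rw [← Units.val_pow_eq_pow_val, hm.2, Units.val_mk0]
      rw [hrk, ← pow_mul, mul_comm m 2]
      exact hpow m
  have hc0 : c ≠ 0 := mul_ne_zero hk2 ha0
  have hall : ∀ t : K, Matrix.SpecialLinearGroup.transvection h01 t ∈ H := by
    intro t
    obtain ⟨p, q, hpq⟩ := two_squares (t / c)
    rw [show t = p ^ 2 * c + q ^ 2 * c by rw [← add_mul, hpq, div_mul_cancel₀ _ hc0],
      Matrix.SpecialLinearGroup.transvection_add]
    exact mul_mem (hsq p) (hsq q)
  have hwH : w ∈ H := by
    have : x⁻¹ * (x * w) ∈ H := mul_mem (inv_mem (hx' ▸ hall 1)) hg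
    rwa [inv_mul_cancel_left] at this
  rw [Cfsg.Agent.GL.CycleGen.eq_top hn w hw hwH h01 hall, top_sup_eq]

end Cfsg.Agent.S2402
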