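import Cfsg.Statements.S2403
import Cfsg.Agent.Lib.GL.CycleGen
-- import your own Cfsg.Agent.* helpers here

set_option autoImplicit false
open Cfsg

namespace Cfsg.Agent.S2403


/-- Explicit two-element generation of `PSL_{n+1}(K)` over the fields with two or three elements: with `x = 1 + E₁₂` and `w` the monomial matrix with entries `1` in positions `(i, i+1)` and `(−1)^n` in position `(n+1, 1)`, the elements `x` and `w` generate `SL_{n+1}(K)` modulo its centre. -/
theorem result {K : Type*} [Field K] [Fintype K] (hK : Fintype.card K ≤ 3) (n : ℕ) (hn : 1 ≤ n)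
    (x w : Matrix.SpecialLinearGroup (Fin (n + 1)) K)
    (hx : (x : Matrix (Fin (n + 1)) (Fin (n + 1)) K) = Matrix.transvection (0 : Fin (n + 1)) (1 : Fin (n + 1)) 1)
    (hw : (w : Matrix (Fin (n + 1)) (Fin (n + 1)) K) =
      Matrix.of (fun i j => if j.val = i.val + 1 then 1 else if i.val = n ∧ j.val = 0 then (-1) ^ n else 0)) :
    Subgroup.closure ({x, w} : Set (Matrix.SpecialLinearGroup (Fin (n + 1)) K)) ⊔
      Subgroup.center (Matrix.SpecialLinearGroup (Fin (n + 1)) K) = ⊤ := by
  have h01 : (0 : Fin (n + 1)) ≠ 1 := by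
    intro e
    have := congrArg Fin.val e
    simp at this
    omega
  suffices hH : Subgroup.closure ({x, w} : Set (Matrix.SpecialLinearGroup (Fin (n + 1)) K)) = ⊤ by
    rw [hH, top_sup_eq]
  refine Cfsg.Agent.GL.CycleGen.eq_top hn w hw (Subgroup.subset_closure (by simp)) h01 fun t => ?_
  have hx' : Matrix.SpecialLinearGroup.transvection h01 (1 : K) = x := Subtype.ext hx.symm
  let S : AddSubgroup K :=
    { carrier := {t | Matrix.SpecialLinearGroup.transvection h01 t ∈
        Subgroup.closure ({x, w} : Set (Matrix.SpecialLinearGroup (Fin (n + 1)) K))}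
      add_mem' := fun {a b} ha hb => by
        simp only [Set.mem_setOf_eq, Matrix.SpecialLinearGroup.transvection_add]
        exact mul_mem ha hb
      zero_mem' := by simp
      neg_mem' := fun {a} ha => by
        simp only [Set.mem_setOf_eq, ← Matrix.SpecialLinearGroup.transvection_inv]
        exact inv_mem ha }
  have h1 : (1 : K) ∈ S := by
    show Matrix.SpecialLinearGroup.transvection h01 (1 : K) ∈
      Subgroup.closure ({x, w} : Set (Matrix.SpecialLinearGroup (Fin (n + 1)) K))
    rw [hx']; exact Subgroup.subset_closure (by simp)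
  have hp : (Nat.card K).Prime := by
    rw [Nat.card_eq_fintype_card]
    have := Fintype.one_lt_card (α := K)
    have h23 : Fintype.card K = 2 ∨ Fintype.card K = 3 := by omega
    rcases h23 with h | h <;> rw [h] <;> decide
  haveI := Fact.mk hp
  have htop : S = ⊤ := by
    rw [eq_top_iff, ← zmultiples_eq_top_of_prime_card (g := (1 : K)) rfl one_ne_zero]
    exact AddSubgroup.zmultiples_le_of_mem h1
  show t ∈ S
  rw [htop]
  exact AddSubgroup.mem_top t

end Cfsg.Agent.S2403
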