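import Cfsg.Statements.S2405
import Cfsg.Agent.Lib.TwoGen.ChevKinds
import Cfsg.Agent.Lib.Chev.Seven
-- import your own Cfsg.Agent.* helpers here

set_option autoImplicit false
open Cfsg

namespace Cfsg.Agent.S2405

open Cfsg.Agent.TwoGen Cfsg.Lie

theorem scales_one (F : Type*) [Field F] : Scales F 1 := fun P h t => by simpa using h t

theorem scales_two (F : Type*) [Field F] [Finite F] : Scales F 2 := by
  intro P h t
  by_cases h2 : (2 : F) = 0
  · haveI : CharP F 2 := CharTwo.of_one_ne_zero_of_two_eq_zero one_ne_zero h2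
    obtain ⟨a, ha⟩ := FiniteField.isSquare_of_char_two (ringChar.eq F 2 ▸ rfl) t
    rw [ha, ← sq]
    exact h a
  · have : t = ((t + 1) / 2) ^ 2 + -(((t - 1) / 2) ^ 2) := by field_simp; ring
    rw [this]
    exact P.add_mem (h _) (P.neg_mem (h _))

theorem scales_three (F : Type*) [Field F] [Finite F] (h3 : (3 : F) = 0) : Scales F 3 := by
  intro P h t
  have hinj : Function.Injective fun a : F => a ^ 3 := by
    intro a b hab
    have : (a - b) ^ 3 = 0 := by
      simp only at hab
      linear_combination hab + (a * b ^ 2 - a ^ 2 * b) * h3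
    exact sub_eq_zero.1 ((pow_eq_zero_iff three_ne_zero).1 this)
  obtain ⟨a, rfl⟩ := Finite.injective_iff_surjective.1 hinj t
  exact h a

theorem certG2 : CertOne chevG2 [0, 1] 7 [0] 1 6 1 [1, 3] [(7, 3), (8, 4)] := by
  unfold CertOne; decide +kernel

theorem certB2 : CertOne chevB2 [0, 1] 5 [1] 1 4 2 [1, 2] [(5, 1), (6, 2)] := by
  unfold CertOne; decide +kernel

theorem certF4 : CertOne chevF4 [0, 1, 2, 3] 27 [0] 2 12 1 [1, 2] [(27, 19), (35, 11), (28, 20), (36, 12)] := by
  unfold CertOne; decide +kernel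

theorem certE6 : CertOne chevE6 [0, 1, 2, 3, 4, 5] 36 [0] 1 12 1 [1]
    [(36, 59), (8, 52), (8, 60), (28, 42), (28, 39), (23, 47), (11, 59), (47, 32)] := by
  unfold CertOne; decide +kernel

theorem certE7 : CertOne chevE7 [0, 1, 2, 3, 4, 5, 6] 63 [0] 1 18 1 [1]
    [(63, 97), (23, 86), (23, 98), (51, 69), (28, 62), (39, 102), (56, 74), (102, 27)] := by
  unfold CertOne; decide +kernel

theorem certE8 : CertOne chevE8 [0, 1, 2, 3, 4, 5, 6, 7] 120 [2] 4 30 1 [1]
    [(120, 167), (66, 151), (66, 168), (103, 130), (72, 119), (88, 173), (109, 136), (173, 71)] := by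
  unfold CertOne; decide +kernel

theorem certG2' : CertTwo chevG2 [0, 1] 0 2 [5, 10] 1 6 6 3 [1, 2] [] [] := by
  unfold CertTwo; decide +kernel

theorem certB2' : CertTwo chevB2 [0, 1] 0 1 [3] 1 4 4 2 [1] [] [] := by
  unfold CertTwo; decide +kernel

theorem certF4' : CertTwo chevF4 [0, 1, 2, 3] 0 3 [41] 1 12 12 1 [1]
    [(0, 46), (0, 32), (15, 47), (15, 26), (21, 32), (21, 6), (41, 26), (41, 2), (45, 6), (45, 1), (46, 2), (47, 1)]
    [(3, 40), (7, 44), (7, 39), (8, 40)] := by
  unfold CertTwo; decide +kernel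

theorem certD4' : CertTwo chevD4 [0, 1, 2, 3] 1 2 [19] 2 6 6 1 [1]
    [(1, 18), (1, 9), (18, 14), (14, 22), (22, 5), (5, 9)] [(1, 21), (22, 2)] := by
  unfold CertTwo; decide +kernel

theorem certF4'' : CertThree chevF4 [0, 1, 2, 3] 0 9 7 12 12 [(18, 13)]
    [(7, 44), (7, 39), (8, 40), (40, 3), (0, 46), (45, 1), (46, 2), (47, 1)] := by
  refine ⟨by decide +kernel, by decide +kernel, by decide +kernel, by decide +kernel, by decide +kernel,
    by decide +kernel, by decide +kernel, by decide +kernel, by decide +kernel, by decide +kernel, ?_,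
    by decide +kernel, by decide +kernel⟩
  rw [show chevF4.commTerms 9 (wordRoot chevF4 [0, 1, 2, 3] 9) = [(7, -1, 1, 1)] by decide +kernel]
  exact ⟨rfl, rfl, rfl, rfl⟩

theorem certD4'' : CertFour chevD4 [0, 1, 2, 3] 1 7 14 10 6 6
    [(1, 18), (1, 9), (18, 14), (14, 22), (22, 5), (5, 9)] [(1, 21), (22, 2)] := by
  refine ⟨by decide +kernel, by decide +kernel, by decide +kernel, by decide +kernel, by decide +kernel,
    by decide +kernel, by decide +kernel, by decide +kernel, by decide +kernel, ?_, by decide +kernel⟩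
  rw [show chevD4.commTerms 7 14 = [(10, -1, 1, 1)] by decide +kernel]
  exact ⟨rfl, rfl, rfl, rfl⟩

/-- Each Chevalley group of type G₂, B₂, D₄, F₄, E₆, E₇ or E₈ over a finite field is generated by two of its elements (types B₂ and G₂ over the field with two elements, where the group is not simple, excepted). -/
theorem result {F : Type*} [Field F] [Finite F] (D : Cfsg.Lie.ChevalleyDatum) (hD : D ∈ [Cfsg.Lie.chevG2, Cfsg.Lie.chevB2, Cfsg.Lie.chevD4, Cfsg.Lie.chevF4, Cfsg.Lie.chevE6, Cfsg.Lie.chevE7, Cfsg.Lie.chevE8])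
    (hF : D ∈ [Cfsg.Lie.chevB2, Cfsg.Lie.chevG2] → ∃ x : F, x ≠ 0 ∧ x ≠ 1) :
    ∃ a b : ↥(D.group F), Subgroup.closure ({a, b} : Set ↥(D.group F)) = ⊤ := by
  classical
  haveI := Fintype.ofFinite F
  have hG := Cfsg.Agent.Chev.good_of_mem hD
  have h1F := Fintype.one_lt_card (α := F)
  have hbig : (∃ x : F, x ≠ 0 ∧ x ≠ 1) → 2 < Fintype.card F := by
    rintro ⟨x, hx0, hx1⟩
    by_contra h
    exact hx1 (eq_one_of_card_two (by omega) hx0)
  have hne1 : ∀ c ∈ [1], ((c : ℕ) : F) ≠ 0 := by simp
  have h12 : (2 : F) ≠ 0 → ∀ c ∈ [1, 2], ((c : ℕ) : F) ≠ 0 := fun h2 c hc => by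
    rcases List.mem_cons.1 hc with rfl | hc
    · simp
    · rw [List.mem_singleton.1 hc]; exact_mod_cast h2
  simp only [List.mem_cons, List.not_mem_nil, or_false] at hD
  rcases hD with rfl | rfl | rfl | rfl | rfl | rfl | rfl
  · have hq := hbig (hF (by simp))
    by_cases h3 : (3 : F) = 0
    · exact two_gen_two hG certG2' (h12 fun h2 => one_ne_zero (α := F) (by linear_combination h3 - h2))
        (scales_three F h3) (scales_one F) hq
    · refine two_gen_one hG certG2 (fun c hc => ?_) (scales_one F)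
      rcases List.mem_cons.1 hc with rfl | hc
      · simp
      · rw [List.mem_singleton.1 hc]; exact_mod_cast h3
  · have hq := hbig (hF (by simp))
    by_cases h2 : (2 : F) = 0
    · exact two_gen_two hG certB2' hne1 (scales_two F) (scales_one F) hq
    · exact two_gen_one hG certB2 (h12 h2) (scales_two F)
  · by_cases hq : 2 < Fintype.card F
    · exact two_gen_two hG certD4' hne1 (scales_one F) (scales_one F) hq
    · exact two_gen_four hG certD4'' (by omega)
  · by_cases h2 : (2 : F) = 0
    · by_cases hq : 2 < Fintype.card F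
      · exact two_gen_two hG certF4' hne1 (scales_one F) (scales_one F) hq
      · exact two_gen_three hG certF4'' (by omega)
    · exact two_gen_one hG certF4 (h12 h2) (scales_one F)
  · exact two_gen_one hG certE6 hne1 (scales_one F)
  · exact two_gen_one hG certE7 hne1 (scales_one F)
  · exact two_gen_one hG certE8 hne1 (scales_one F)

end Cfsg.Agent.S2405
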