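import Cfsg.Statements.S2406
import Cfsg.Agent.Lib.TwoGen.TwistGen
import Cfsg.Agent.Lib.Chev.TwistTorusE6
-- import your own Cfsg.Agent.* helpers here

set_option autoImplicit false
open Cfsg

namespace Cfsg.Agent.S2406

open Cfsg.Lie Cfsg.Agent.Chev Cfsg.Agent.Chev.BNSetup Cfsg.Agent.TwoGen

/-- The twisted group ²E₆(q) (realised inside E₆ over the field with `q²` elements) is generated by two of its elements. -/
theorem result {K : Type*} [Field K] [Fintype K] {q : ℕ} (hq : IsPrimePow q) (hK : Fintype.card K = q ^ 2) :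
    ∃ a b : ↥(Cfsg.Lie.twistedE6 K q), Subgroup.closure ({a, b} : Set ↥(Cfsg.Lie.twistedE6 K q)) = ⊤ := by
  classical
  obtain ⟨φ, hφ, hGt, hit, -⟩ := exists_frob2 hq hK
  have hq2 : 2 ≤ q := hq.two_le
  have hF : 4 ≤ Fintype.card K := by
    rw [hK]; calc 4 ≤ 2 ^ 2 := by norm_num
      _ ≤ q ^ 2 := Nat.pow_le_pow_left hq2 2
  obtain ⟨g, hg⟩ := IsCyclic.exists_generator (α := Kˣ)
  set S : ℕ := 1 + q with hSdef
  have hS : S * (q - 1) = Fintype.card K - 1 := by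
    obtain ⟨r, rfl⟩ : ∃ r, q = r + 1 := ⟨q - 1, by omega⟩
    rw [hK, hSdef, Nat.add_sub_cancel]
    have : (r + 1) ^ 2 = (1 + (r + 1)) * r + 1 := by ring
    omega
  set a := ext' φ (orbE6.Jl 4 2) (g : K) with hadef
  have a2 : a 2 = g := rfl
  have a4 : a 4 = ((g ^ (q : ℤ) : Kˣ) : K) := by
    rw [zpow_natCast, Units.val_pow_eq_pow_val, ← hφ]; rfl
  have hmu : ∀ s, mu chevE6 (orbE6.Jl 4 2) a s =
      ((g ^ (chevE6.cartan 2 s + (q : ℤ) * chevE6.cartan 4 s) : Kˣ) : K) := by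
    intro s
    rw [show orbE6.Jl 4 2 = [2, 4] from rfl, mu]
    simp only [List.map_cons, List.map_nil, List.prod_cons, List.prod_nil, mul_one, a2, a4,
      ← Units.val_zpow_eq_zpow_val, ← zpow_mul, ← Units.val_mul, ← zpow_add]
  obtain ⟨c2, c4, d2, d4⟩ : chevE6.cartan 2 (wordRoot chevE6 (orbE6.flatN 4 [0, 1, 2, 3]) (chevE6.simple 2)) = -1 ∧
      chevE6.cartan 4 (wordRoot chevE6 (orbE6.flatN 4 [0, 1, 2, 3]) (chevE6.simple 2)) = 0 ∧
      chevE6.cartan 2 (wordRoot chevE6 (orbE6.flatN 4 [0, 1, 2, 3]) (chevE6.simple 3)) = 1 ∧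
      chevE6.cartan 4 (wordRoot chevE6 (orbE6.flatN 4 [0, 1, 2, 3]) (chevE6.simple 3)) = 1 := by decide +kernel
  have hμ0 : ∀ t : K, t ≠ 0 →
      ∃ m : ℕ, t = mu chevE6 (orbE6.Jl 4 2) a (wordRoot chevE6 (orbE6.flatN 4 [0, 1, 2, 3]) (chevE6.simple 2)) ^ m := by
    intro t ht
    rw [hmu, c2, c4, mul_zero, add_zero]
    exact pow_of_coprime hg isCoprime_one_left.neg_left ht
  have hfixφ : ∀ x : K, φ^[2] x = x := fun x => hit x
  obtain ⟨x, y, hxy⟩ := two_gen_twist E6.good orbE6_ok φ facts_chevE6 negTri_chevE6 graphE6_cols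
    (w := ([0, 1, 2, 3] : List (Fin 4))) (j := 2) (j2 := 1) (k := 3) (h := 12) (g : K) g.ne_zero (hfixφ _)
    (μ := mu chevE6 (orbE6.Jl 4 2) a) (fun _ => rfl) (by decide +kernel) (unit_sq_ne_one hg hF)
    (ne_one_of_powers hg hF hμ0) (fun t ht _ => hμ0 t ht)
    (fun t ht hfix => by
      show ∃ m : ℕ, t = mu chevE6 (orbE6.Jl 4 2) a (wordRoot chevE6 (orbE6.flatN 4 [0, 1, 2, 3]) (chevE6.simple 3)) ^ m
      have hfix' : t ^ q = t := by rw [← hφ]; exact hfix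
      obtain ⟨m, hm⟩ := pow_of_fixed hg hq2 hS ht hfix' (Or.inl rfl)
      refine ⟨m, hm.trans ?_⟩
      rw [hmu, d2, d4, hSdef]
      congr 3
      push_cast
      ring)
    (by decide +kernel) (by decide +kernel)
  have hGt' : (twist E6.good orbE6_ok φ).Gt = twistedE6 K q := hGt
  rw [← hGt']
  exact ⟨x, y, hxy⟩

end Cfsg.Agent.S2406
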