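import Cfsg.Statements.S2407
import Cfsg.Agent.Lib.TwoGen.TwistGen
import Cfsg.Agent.Lib.Chev.TwistTorusD4
-- import your own Cfsg.Agent.* helpers here

set_option autoImplicit false
open Cfsg

namespace Cfsg.Agent.S2407

open Cfsg.Lie Cfsg.Agent.Chev Cfsg.Agent.Chev.BNSetup Cfsg.Agent.TwoGen

/-- The twisted group ³D₄(q) (realised inside D₄ over the field with `q³` elements) is generated by two of its elements. -/
theorem result {K : Type*} [Field K] [Fintype K] {q : ℕ} (hq : IsPrimePow q) (hK : Fintype.card K = q ^ 3) :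
    ∃ a b : ↥(Cfsg.Lie.twistedD4 K q), Subgroup.closure ({a, b} : Set ↥(Cfsg.Lie.twistedD4 K q)) = ⊤ := by
  classical
  obtain ⟨φ, hφ, hGt, hit, -⟩ := exists_frob3 hq hK
  have hq2 : 2 ≤ q := hq.two_le
  have hF : 4 ≤ Fintype.card K := by
    rw [hK]; calc 4 ≤ 2 ^ 3 := by norm_num
      _ ≤ q ^ 3 := Nat.pow_le_pow_left hq2 3
  obtain ⟨g, hg⟩ := IsCyclic.exists_generator (α := Kˣ)
  set e : ℤ := -1 + (q : ℤ) + (q : ℤ) ^ 2 with hedef
  have hcop : IsCoprime e ((Fintype.card K - 1 : ℕ) : ℤ) := by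
    have hN : ((Fintype.card K - 1 : ℕ) : ℤ) = (q : ℤ) ^ 3 - 1 := by
      rw [hK, Nat.cast_sub (Nat.one_le_pow _ _ (by omega))]; push_cast; ring
    rw [hN, Int.isCoprime_iff_nat_coprime]
    refine Nat.coprime_of_dvd fun p hp h1 h2 => ?_
    rw [← Int.natCast_dvd] at h1 h2
    haveI : Fact p.Prime := ⟨hp⟩
    have a1 : ((e : ℤ) : ZMod p) = 0 := (ZMod.intCast_zmod_eq_zero_iff_dvd _ _).2 h1
    have a2 : (((q : ℤ) ^ 3 - 1 : ℤ) : ZMod p) = 0 := (ZMod.intCast_zmod_eq_zero_iff_dvd _ _).2 h2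
    rw [hedef] at a1
    push_cast at a1 a2
    have h2q : (2 : ZMod p) * ((q : ZMod p) - 1) = 0 := by linear_combination a2 - ((q : ZMod p) - 1) * a1
    rcases mul_eq_zero.1 h2q with h | h
    · obtain rfl : p = 2 := by
        have : ((2 : ℕ) : ZMod p) = 0 := by exact_mod_cast h
        rw [ZMod.natCast_eq_zero_iff] at this
        exact (Nat.prime_dvd_prime_iff_eq hp Nat.prime_two).1 this
      have hsq : (q : ZMod 2) ^ 2 = (q : ZMod 2) := ZMod.pow_card _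
      rw [hsq, add_assoc, ← two_mul, h, zero_mul, add_zero, neg_eq_zero] at a1
      exact one_ne_zero a1
    · rw [sub_eq_zero] at h
      rw [h] at a1
      norm_num at a1
  set S : ℕ := 1 + q + q ^ 2 with hSdef
  have hS : S * (q - 1) = Fintype.card K - 1 := by
    obtain ⟨r, rfl⟩ : ∃ r, q = r + 1 := ⟨q - 1, by omega⟩
    rw [hK, hSdef, Nat.add_sub_cancel]
    have : (r + 1) ^ 3 = (1 + (r + 1) + (r + 1) ^ 2) * r + 1 := by ring
    omega
  set a := ext' φ (orbD4.Jl 2 1) (g : K) with hadef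
  have a0 : a 0 = g := rfl
  have a2 : a 2 = ((g ^ (q : ℤ) : Kˣ) : K) := by
    rw [zpow_natCast, Units.val_pow_eq_pow_val, ← hφ]; rfl
  have a3 : a 3 = ((g ^ ((q : ℤ) ^ 2) : Kˣ) : K) := by
    rw [show (q : ℤ) ^ 2 = ((q ^ 2 : ℕ) : ℤ) by push_cast; ring, zpow_natCast, Units.val_pow_eq_pow_val,
      show (g : K) ^ q ^ 2 = φ (φ g) by rw [hφ, hφ, ← pow_mul, sq]]
    rfl
  have hmu : ∀ s, mu chevD4 (orbD4.Jl 2 1) a s =
      ((g ^ (chevD4.cartan 0 s + (q : ℤ) * chevD4.cartan 2 s + (q : ℤ) ^ 2 * chevD4.cartan 3 s) : Kˣ) : K) := by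
    intro s
    rw [show orbD4.Jl 2 1 = [0, 2, 3] from rfl, mu]
    simp only [List.map_cons, List.map_nil, List.prod_cons, List.prod_nil, mul_one, a0, a2, a3,
      ← Units.val_zpow_eq_zpow_val, ← zpow_mul, ← Units.val_mul, ← zpow_add, add_assoc]
  obtain ⟨c0, c2, c3, d0, d2, d3⟩ : chevD4.cartan 0 (wordRoot chevD4 (orbD4.flatN 2 [1, 0]) (chevD4.simple 0)) = -1 ∧
      chevD4.cartan 2 (wordRoot chevD4 (orbD4.flatN 2 [1, 0]) (chevD4.simple 0)) = 1 ∧
      chevD4.cartan 3 (wordRoot chevD4 (orbD4.flatN 2 [1, 0]) (chevD4.simple 0)) = 1 ∧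
      chevD4.cartan 0 (wordRoot chevD4 (orbD4.flatN 2 [1, 0]) (chevD4.simple 1)) = -1 ∧
      chevD4.cartan 2 (wordRoot chevD4 (orbD4.flatN 2 [1, 0]) (chevD4.simple 1)) = -1 ∧
      chevD4.cartan 3 (wordRoot chevD4 (orbD4.flatN 2 [1, 0]) (chevD4.simple 1)) = -1 := by decide +kernel
  have hμ0 : ∀ t : K, t ≠ 0 →
      ∃ m : ℕ, t = mu chevD4 (orbD4.Jl 2 1) a (wordRoot chevD4 (orbD4.flatN 2 [1, 0]) (chevD4.simple 0)) ^ m := by
    intro t ht
    rw [hmu, c0, c2, c3, show (-1 : ℤ) + (q : ℤ) * 1 + (q : ℤ) ^ 2 * 1 = e by rw [hedef]; ring]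
    exact pow_of_coprime hg hcop ht
  have hfixφ : ∀ x : K, φ^[3] x = x := fun x => hit x
  obtain ⟨x, y, hxy⟩ := two_gen_twist D4.good orbD4_ok φ facts_chevD4 negTri_chevD4 graphD4_cols
    (w := ([1, 0] : List (Fin 2))) (j := 1) (j2 := 0) (k := 1) (h := 6) (g : K) g.ne_zero (hfixφ _)
    (μ := mu chevD4 (orbD4.Jl 2 1) a) (fun _ => rfl) (by decide +kernel) (unit_sq_ne_one hg hF)
    (ne_one_of_powers hg hF hμ0) (fun t ht _ => hμ0 t ht)
    (fun t ht hfix => by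
      show ∃ m : ℕ, t = mu chevD4 (orbD4.Jl 2 1) a (wordRoot chevD4 (orbD4.flatN 2 [1, 0]) (chevD4.simple 1)) ^ m
      have hfix' : t ^ q = t := by rw [← hφ]; exact hfix
      obtain ⟨m, hm⟩ := pow_of_fixed hg hq2 hS ht hfix' (Or.inr rfl)
      refine ⟨m, hm.trans ?_⟩
      rw [hmu, d0, d2, d3, hSdef]
      congr 3
      push_cast
      ring)
    (by decide +kernel) (by decide +kernel)
  have hGt' : (twist D4.good orbD4_ok φ).Gt = twistedD4 K q := hGt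
  rw [← hGt']
  exact ⟨x, y, hxy⟩

end Cfsg.Agent.S2407
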