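import Cfsg.Statements.S2410
import Cfsg.Agent.Lib.Sz.Sylow

set_option autoImplicit false
open Cfsg

namespace Cfsg.Agent.S2410

/-- The Suzuki group over the field with `2^(2m+1)` elements, `m ≥ 1` (realised as the stabiliser in `SL₄` of the Suzuki–Tits ovoid), is generated by two of its elements. -/
theorem result {F : Type*} [Field F] [Fintype F] {m : ℕ} (hm : 1 ≤ m) (hF : Fintype.card F = 2 ^ (2 * m + 1)) :
    ∃ a b : ↥(Cfsg.Sz F m), Subgroup.closure ({a, b} : Set ↥(Cfsg.Sz F m)) = ⊤ := by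
  obtain ⟨ζ, hζ⟩ := IsCyclic.exists_generator (α := Fˣ)
  set b := SZ.tS hF (1 : F) 0 * SZ.wS hF with hb
  refine ⟨SZ.hS hF ζ, b, ?_⟩
  set M := Subgroup.closure ({SZ.hS hF ζ, b} : Set (Cfsg.Sz F m)) with hM
  have hbM : b ∈ M := Subgroup.subset_closure (by simp)
  let φ : Fˣ →* Cfsg.Sz F m :=
    { toFun := SZ.hS hF
      map_one' := Subtype.ext SZ.H_one
      map_mul' := fun u v => Subtype.ext (SZ.H_mul u v) }
  have hH : ∀ u, SZ.hS hF u ∈ M := by
    intro u
    obtain ⟨k, rfl⟩ := Subgroup.mem_zpowers_iff.1 (hζ u)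
    show φ (ζ ^ k) ∈ M
    rw [map_zpow]
    exact M.zpow_mem (Subgroup.subset_closure (Set.mem_insert _ _)) k
  have hW : ∀ u, SZ.wS hF * SZ.hS hF u * (SZ.wS hF)⁻¹ = SZ.hS hF u⁻¹ := by
    intro u
    apply Subtype.ext
    show SZ.W * SZ.H m u * SZ.W⁻¹ = SZ.H m u⁻¹
    rw [SZ.W_conj_H, mul_inv_cancel_right]
  -- an element of `U` outside the centre
  obtain ⟨u, hu⟩ := SZ.exists_unit_ne_one hm hF
  set k := (u : F) ^ 2 / SZ.th m (u : F) with hk
  have hk1 : k ≠ 1 := by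
    intro e
    rw [hk, div_eq_one_iff_eq (fun e => u.ne_zero (SZ.th_eq_zero.1 e))] at e
    exact hu (Units.ext (SZ.th_eq_sq hF e.symm u.ne_zero))
  obtain ⟨a0, b0, ha0, hab⟩ : ∃ a0 b0 : F, a0 ≠ 0 ∧ SZ.tS hF a0 b0 ∈ M := by
    have h1 : b * SZ.hS hF u⁻¹ * b⁻¹ * (SZ.hS hF u)⁻¹ ∈ M :=
      M.mul_mem (M.mul_mem (M.mul_mem hbM (hH _)) (M.inv_mem hbM)) (M.inv_mem (hH _))
    have e : b * SZ.hS hF u⁻¹ * b⁻¹ * (SZ.hS hF u)⁻¹ =
        SZ.tS hF 1 0 * (SZ.hS hF u * SZ.tS hF 1 0 * (SZ.hS hF u)⁻¹)⁻¹ := by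
      have := hW u⁻¹
      rw [inv_inv] at this
      rw [hb]
      calc SZ.tS hF 1 0 * SZ.wS hF * SZ.hS hF u⁻¹ * (SZ.tS hF 1 0 * SZ.wS hF)⁻¹ * (SZ.hS hF u)⁻¹
          = SZ.tS hF 1 0 * (SZ.wS hF * SZ.hS hF u⁻¹ * (SZ.wS hF)⁻¹) * (SZ.tS hF 1 0)⁻¹ *
              (SZ.hS hF u)⁻¹ := by group
        _ = _ := by rw [this]; group
    rw [e, SZ.hS_conj_tS, ← hk] at h1
    refine ⟨1 + k, 0 + (SZ.th m (u : F) * 0 + SZ.th m k * k) + SZ.th m 1 * k, fun e => hk1 (by linear_combination e - SZ.two_zero hF), ?_⟩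
    convert h1 using 1
    refine Eq.symm (Subtype.ext ?_)
    show SZ.T m 1 0 * (SZ.T m (k * 1) (SZ.th m (u : F) * 0))⁻¹ = SZ.T m (1 + k) _
    rw [SZ.T_inv hF, SZ.T_mul hF, mul_one]
  have hall : ∀ a : F, ∃ b', SZ.tS hF a b' ∈ M := by
    intro a
    by_cases ha : a = 0
    · exact ⟨0, by rw [ha, show SZ.tS hF (0 : F) 0 = 1 from Subtype.ext SZ.T_zero]; exact M.one_mem⟩
    · have hinj : Function.Injective fun v : Fˣ => v ^ 2 / Units.mk0 (SZ.th m (v : F))
          (fun e => v.ne_zero (SZ.th_eq_zero.1 e)) := by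
        intro v w h
        have h' := congrArg Units.val h
        simp [Units.val_div_eq_div_val] at h'
        have hr : SZ.th m ((v : F) / w) = ((v : F) / w) ^ 2 := by
          have := fun e => v.ne_zero (SZ.th_eq_zero (m := m).1 e)
          have := fun e => w.ne_zero (SZ.th_eq_zero (m := m).1 e)
          rw [SZ.th_div]
          field_simp at h' ⊢
          linear_combination -h'
        exact Units.ext ((div_eq_one_iff_eq w.ne_zero).1
          (SZ.th_eq_sq hF hr (div_ne_zero v.ne_zero w.ne_zero)))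
      obtain ⟨v, hv⟩ := Finite.injective_iff_surjective.1 hinj (Units.mk0 (a / a0) (div_ne_zero ha ha0))
      refine ⟨SZ.th m (v : F) * b0, ?_⟩
      have := M.mul_mem (M.mul_mem (hH v) hab) (M.inv_mem (hH v))
      rw [SZ.hS_conj_tS] at this
      have hv' := congrArg Units.val hv
      simp [Units.val_div_eq_div_val] at hv'
      rwa [hv', div_mul_cancel₀ _ ha0] at this
  have hcent : ∀ t : F, SZ.tS hF 0 t ∈ M := by
    have hinj : Function.Injective fun s : F => SZ.th m s * s := by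
      intro s w (h : SZ.th m s * s = SZ.th m w * w)
      by_cases hw : w = 0
      · subst hw
        simp at h
        rcases h with h | h
        exacts [SZ.th_eq_zero.1 h, h]
      · have hr1 : SZ.th m (s / w) * (s / w) = 1 := by
          have hth : SZ.th m w ≠ 0 := fun e => hw (SZ.th_eq_zero.1 e)
          rw [SZ.th_div]
          field_simp
          exact h
        have h2 := congrArg (SZ.th m) hr1
        rw [SZ.th_mul, SZ.th_th hF, SZ.th_one] at h2
        exact (div_eq_one_iff_eq hw).1 (by linear_combination h2 - (s / w) * hr1)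
    intro t
    obtain ⟨s, rfl⟩ := Finite.injective_iff_surjective.1 hinj t
    obtain ⟨b', hb'⟩ := hall s
    have := M.mul_mem hb' hb'
    rwa [SZ.tS_sq] at this
  have hT : ∀ a c : F, SZ.tS hF a c ∈ M := by
    intro a c
    obtain ⟨b', hb'⟩ := hall a
    convert M.mul_mem (hcent (c + b')) hb' using 1
    refine Subtype.ext ?_
    show SZ.T m a c = SZ.T m 0 (c + b') * SZ.T m a b'
    rw [SZ.T_mul hF, zero_add, SZ.th_zero, zero_mul, add_zero]
    congr 1
    linear_combination -b' * SZ.two_zero hF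
  have hWM : SZ.wS hF ∈ M := by
    have := M.mul_mem (M.inv_mem (hT 1 0)) hbM
    rwa [hb, inv_mul_cancel_left] at this
  rw [eq_top_iff]
  rintro g -
  rcases SZ.bruhat hm hF g.2 with ⟨x, y, v, hg⟩ | ⟨x, y, z, w, v, hg⟩
  · rw [show g = SZ.tS hF x y * SZ.hS hF v from Subtype.ext hg]
    exact M.mul_mem (hT x y) (hH v)
  · rw [show g = SZ.tS hF x y * SZ.wS hF * (SZ.tS hF z w * SZ.hS hF v) from Subtype.ext hg]
    exact M.mul_mem (M.mul_mem (hT x y) hWM) (M.mul_mem (hT z w) (hH v))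

end Cfsg.Agent.S2410
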