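import Cfsg.Statements.S2413
import Cfsg.Agent.Lib.TwoGen.OrthKinds
import Cfsg.Agent.S2405
import Cfsg.Agent.S1083
-- import your own Cfsg.Agent.* helpers here

set_option autoImplicit false
open Cfsg

namespace Cfsg.Agent.S2413

/-- The simple orthogonal group `PΩ_{2m+1}(q)` (commutator subgroup of the orthogonal group of `x₀² + Σ x_i y_i` modulo its centre) with `m ≥ 2` and `q` odd is generated by two of its elements. -/
theorem result {F : Type*} [Field F] [Fintype F] (hodd : Odd (Fintype.card F)) (m : ℕ) (hm : 2 ≤ m) :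
    ∃ a b : Cfsg.POmega F (Cfsg.quadFormOdd m F), Subgroup.closure ({a, b} : Set (Cfsg.POmega F (Cfsg.quadFormOdd m F))) = ⊤ := by
  rcases eq_or_lt_of_le hm with rfl | h3
  · have h3 := Cfsg.Agent.TwoGen.three_le_card_of_odd (F := F) hodd
    have hex : ∃ x : F, x ≠ 0 ∧ x ≠ 1 := by
      classical
      rw [Nat.card_eq_fintype_card] at h3
      obtain ⟨x, hx⟩ : ∃ x, x ∈ (Finset.univ : Finset F) \ {0, 1} := by
        refine Finset.card_pos.1 ?_
        rw [Finset.card_sdiff, Finset.inter_univ, Finset.card_univ]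
        have := Finset.card_le_two (a := (0 : F)) (b := 1)
        omega
      exact ⟨x, by simpa using hx⟩
    obtain ⟨e⟩ := Cfsg.Agent.S1083.result hex
    obtain ⟨a, b, h⟩ := Cfsg.Agent.S2405.result (F := F) Cfsg.Lie.chevB2 (by simp) (fun _ => hex)
    refine ⟨e a, e b, ?_⟩
    have := congrArg (Subgroup.map e.toMonoidHom) h
    rw [MonoidHom.map_closure, Set.image_pair, Subgroup.map_top_of_surjective _ e.surjective] at this
    exact this
  · exact Cfsg.Agent.TwoGen.odd_two_gen hodd m h3

end Cfsg.Agent.S2413
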