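import Cfsg.Statements.S2416
import Cfsg.Agent.Lib.Chev.Seven
import Cfsg.Agent.Lib.Chev.ShortRootGen

set_option autoImplicit false
open scoped MatrixGroups
open Cfsg

namespace Cfsg.Agent.S2416

open Cfsg.Lie Cfsg.Agent.Chev

/-- A Chevalley group of type G₂, B₂, D₄, F₄, E₆, E₇ or E₈ over a finite field lies in (indeed equals) the subgroup generated by its monomial subgroup `N` and a single fundamental root subgroup `X_p`, where `p` is a short fundamental root if there are two root lengths (any fundamental root otherwise), provided the characteristic is not 2 for types B₂, F₄ and not 3 for type G₂ (and the field has more than two elements for B₂, G₂). -/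
theorem result {K : Type*} [Field K] [Finite K] (D : Cfsg.Lie.ChevalleyDatum) (hD : D ∈ [Cfsg.Lie.chevG2, Cfsg.Lie.chevB2, Cfsg.Lie.chevD4, Cfsg.Lie.chevF4, Cfsg.Lie.chevE6, Cfsg.Lie.chevE7, Cfsg.Lie.chevE8])
    (hK : D ∈ [Cfsg.Lie.chevB2, Cfsg.Lie.chevG2] → ∃ x : K, x ≠ 0 ∧ x ≠ 1)
    (h2 : D ∈ [Cfsg.Lie.chevB2, Cfsg.Lie.chevF4] → ringChar K ≠ 2) (h3 : D = Cfsg.Lie.chevG2 → ringChar K ≠ 3)
    (i : ℕ) (hi : i < D.rank) (hshort : D.isLong (D.simple i) = false) :
    D.group K ≤ D.monomialSubgroup K ⊔ D.rootSubgroup K (D.simple i) := by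
  have hG := good_of_mem hD
  suffices h : ∃ (c : ℕ) (L : List (ℕ × List ℕ × List ℕ × List ℕ)), ShortGenCert D c L ∧ (c : K) ≠ 0 by
    obtain ⟨c, L, hc, hcK⟩ := h
    exact hG.group_le_of_shortGenCert hc hcK hi hshort
  have hchar : ∀ c : ℕ, c.Prime → ringChar K ≠ c → (c : K) ≠ 0 := fun c hc h h0 => by
    rcases hc.eq_one_or_self_of_dvd _ ((ringChar.spec K c).1 h0) with h1 | h1
    · exact CharP.ringChar_ne_one h1
    · exact h h1
  simp only [List.mem_cons, List.not_mem_nil, or_false] at hD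
  rcases hD with rfl | rfl | rfl | rfl | rfl | rfl | rfl
  · exact ⟨3, [(0, [], [], []), (0, [0], [1], [])], by decide +kernel, hchar 3 (by decide) (h3 rfl)⟩
  · exact ⟨2, [(0, [], [], []), (0, [], [1], [0])], by decide +kernel, hchar 2 (by decide) (h2 (by simp))⟩
  · exact ⟨1, [], by decide +kernel, by simp⟩
  · exact ⟨2, [(0, [], [], []), (0, [], [], []), (1, [], [2], [1]), (1, [], [2], [3, 1, 2])], by decide +kernel,
      hchar 2 (by decide) (h2 (by simp))⟩
  · exact ⟨1, [], by decide +kernel, by simp⟩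
  · exact ⟨1, [], by decide +kernel, by simp⟩
  · exact ⟨1, [], by decide +kernel, by simp⟩

end Cfsg.Agent.S2416
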