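import Cfsg.Statements.S2417
import Cfsg.Agent.Lib.Chev.BN
import Cfsg.Agent.Lib.Chev.CheckB2
import Cfsg.Agent.Lib.Chev.CheckF4
import Cfsg.Agent.Lib.Chev.CheckG2

set_option autoImplicit false
open scoped MatrixGroups
open Cfsg

namespace Cfsg.Agent.S2417

open Cfsg.Agent.Chev Cfsg.Agent.Chev.BNSetup
set_option synthInstance.maxSize 4000
set_option synthInstance.maxHeartbeats 200000

theorem group_le_of_simples {K : Type*} [Field K] {D : Lie.ChevalleyDatum} (hG : Good D) (i j : ℕ)
    (hi : i < D.rank) (hj : j < D.rank)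
    (h : ∀ k < D.rank, k = i ∨ k = j ∨ D.reflectRoot i (D.reflectRoot k (D.simple i)) = D.simple k ∨
      D.reflectRoot j (D.reflectRoot k (D.simple j)) = D.simple k) :
    D.group K ≤ D.monomialSubgroup K ⊔ D.rootSubgroup K (D.simple i) ⊔ D.rootSubgroup K (D.simple j) := by
  set S := D.monomialSubgroup K ⊔ D.rootSubgroup K (D.simple i) ⊔ D.rootSubgroup K (D.simple j) with hS
  have hn : ∀ k < D.rank, ne' hG (D.simple k) (1 : K) ∈ S := fun k hk =>
    Subgroup.mem_sup_left (Subgroup.mem_sup_left (Subgroup.mem_sup_right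
      (Subgroup.subset_closure ⟨_, hG.simple_lt hk, coe_ne' hG _ _⟩)))
  have step : ∀ k < D.rank, ∀ r < D.nroots, (∀ t : K, xe hG r t ∈ S) →
      ∀ t : K, xe hG (D.reflectRoot k r) t ∈ S := by
    intro k hk r hr hmem t
    obtain ⟨e, he, hx, -⟩ := exists_conj hG (F := K) hk hr
    have h1 := hx (e * t)
    rw [← mul_assoc, he, one_mul] at h1
    rw [← h1]
    exact mul_mem (mul_mem (hn k hk) (hmem _)) (inv_mem (hn k hk))
  have hbase : ∀ a, a = i ∨ a = j → ∀ t : K, xe hG (D.simple a) t ∈ S := by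
    rintro a (rfl | rfl) t
    · exact Subgroup.mem_sup_left (Subgroup.mem_sup_right ((mem_rootSubgroup hG (hG.simple_lt hi)).2 ⟨t, rfl⟩))
    · exact Subgroup.mem_sup_right ((mem_rootSubgroup hG (hG.simple_lt hj)).2 ⟨t, rfl⟩)
  have hall : ∀ r < D.nroots, ∀ t : K, xe hG r t ∈ S := by
    intro r hr
    refine hG.root_induction (P := fun r => ∀ t : K, xe hG r t ∈ S) ?_ ?_ hr
    · intro k hk t
      rcases h k hk with h | h | h | h
      · exact hbase k (Or.inl h) t
      · exact hbase k (Or.inr h) t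
      · rw [← h]
        exact step i hi _ (hG.reflectRoot_lt hk (hG.simple_lt hi))
          (step k hk _ (hG.simple_lt hi) (hbase i (Or.inl rfl))) t
      · rw [← h]
        exact step j hj _ (hG.reflectRoot_lt hk (hG.simple_lt hj))
          (step k hk _ (hG.simple_lt hj) (hbase j (Or.inr rfl))) t
    · exact fun k hk r hr hmem => step k hk r hr hmem
  unfold Lie.ChevalleyDatum.group
  rw [Subgroup.closure_le]
  rintro g ⟨r, t, hg⟩
  rw [show g = xe hG r.val t from Units.ext (by rw [hg, coe_xe, Lie.ChevalleyDatum.x, dif_pos r.2])]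
  exact hall r r.2 t

/-- In the characteristics with an exceptional graph symmetry — type B₂ or F₄ in characteristic 2 (field of more than two elements for B₂) and type G₂ in characteristic 3 — the Chevalley group lies in the subgroup generated by its monomial subgroup `N` and the two fundamental root subgroups `X_a`, `X_b` of a short root `a` and a long root `b` joined in the Dynkin diagram. -/
theorem result {K : Type*} [Field K] [Finite K] (e : Cfsg.Lie.ChevalleyDatum × ℕ)
    (he : e ∈ [(Cfsg.Lie.chevB2, 2), (Cfsg.Lie.chevF4, 2), (Cfsg.Lie.chevG2, 3)]) [CharP K e.2]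
    (hK : e.1 = Cfsg.Lie.chevB2 → ∃ x : K, x ≠ 0 ∧ x ≠ 1)
    (i j : ℕ) (hi : i < e.1.rank) (hj : j < e.1.rank) (hshort : e.1.isLong (e.1.simple i) = false)
    (hlong : e.1.isLong (e.1.simple j) = true) (hbond : e.1.bonds i j ≠ 0) :
    e.1.group K ≤ e.1.monomialSubgroup K ⊔ e.1.rootSubgroup K (e.1.simple i) ⊔ e.1.rootSubgroup K (e.1.simple j) := by
  refine group_le_of_simples ?_ i j hi hj ?_
  · simp only [List.mem_cons, List.not_mem_nil, or_false] at he
    rcases he with rfl | rfl | rfl
    exacts [Agent.Chev.B2.good, Agent.Chev.F4.good, Agent.Chev.G2.good]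
  · simp only [List.mem_cons, List.not_mem_nil, or_false] at he
    rcases he with rfl | rfl | rfl
    · exact (show ∀ i < Lie.chevB2.rank, ∀ j < Lie.chevB2.rank,
        Lie.chevB2.isLong (Lie.chevB2.simple i) = false → Lie.chevB2.isLong (Lie.chevB2.simple j) = true →
        Lie.chevB2.bonds i j ≠ 0 → ∀ k < Lie.chevB2.rank, k = i ∨ k = j ∨
          Lie.chevB2.reflectRoot i (Lie.chevB2.reflectRoot k (Lie.chevB2.simple i)) = Lie.chevB2.simple k ∨
          Lie.chevB2.reflectRoot j (Lie.chevB2.reflectRoot k (Lie.chevB2.simple j)) = Lie.chevB2.simple k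
        by decide +kernel) i hi j hj hshort hlong hbond
    · exact (show ∀ i < Lie.chevF4.rank, ∀ j < Lie.chevF4.rank,
        Lie.chevF4.isLong (Lie.chevF4.simple i) = false → Lie.chevF4.isLong (Lie.chevF4.simple j) = true →
        Lie.chevF4.bonds i j ≠ 0 → ∀ k < Lie.chevF4.rank, k = i ∨ k = j ∨
          Lie.chevF4.reflectRoot i (Lie.chevF4.reflectRoot k (Lie.chevF4.simple i)) = Lie.chevF4.simple k ∨
          Lie.chevF4.reflectRoot j (Lie.chevF4.reflectRoot k (Lie.chevF4.simple j)) = Lie.chevF4.simple k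
        by decide +kernel) i hi j hj hshort hlong hbond
    · exact (show ∀ i < Lie.chevG2.rank, ∀ j < Lie.chevG2.rank,
        Lie.chevG2.isLong (Lie.chevG2.simple i) = false → Lie.chevG2.isLong (Lie.chevG2.simple j) = true →
        Lie.chevG2.bonds i j ≠ 0 → ∀ k < Lie.chevG2.rank, k = i ∨ k = j ∨
          Lie.chevG2.reflectRoot i (Lie.chevG2.reflectRoot k (Lie.chevG2.simple i)) = Lie.chevG2.simple k ∨
          Lie.chevG2.reflectRoot j (Lie.chevG2.reflectRoot k (Lie.chevG2.simple j)) = Lie.chevG2.simple k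
        by decide +kernel) i hi j hj hshort hlong hbond

end Cfsg.Agent.S2417
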