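import Cfsg.Statements.S2419
-- import your own Cfsg.Agent.* helpers here

set_option autoImplicit false
open Cfsg

namespace Cfsg.Agent.S2419

variable {n : ℕ} (M : CoxeterMatrix (Fin n))

/-- Alternating word of length `k`. -/
def altW : ℕ → Fin n → Fin n → List (Fin n)
  | 0, _, _ => []
  | k + 1, i, j => i :: altW k j i

/-- `i` and `j` repeated. -/
def repW : ℕ → Fin n → Fin n → List (Fin n)
  | 0, _, _ => []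
  | k + 1, i, j => i :: j :: repW k i j

/-- The word removed by a move. -/
def lhsW (i j : Fin n) : List (Fin n) := if i = j then [i, i] else altW (M.M i j) i j

/-- The word inserted by a move. -/
def rhsW (i j : Fin n) : List (Fin n) := if i = j then [] else altW (M.M i j) j i

/-- One braid or deletion move. -/
def move (w : List (Fin n)) (e : ℕ × Fin n × Fin n) : Option (List (Fin n)) :=
  if lhsW M e.2.1 e.2.2 ++ (rhsW M e.2.1 e.2.2).reverse = repW (M.M e.2.1 e.2.2) e.2.1 e.2.2 ∧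
      w = w.take e.1 ++ lhsW M e.2.1 e.2.2 ++ w.drop (e.1 + (lhsW M e.2.1 e.2.2).length) then
    some (w.take e.1 ++ rhsW M e.2.1 e.2.2 ++ w.drop (e.1 + (lhsW M e.2.1 e.2.2).length))
  else none

/-- A list of moves. -/
def run (w : List (Fin n)) : List (ℕ × Fin n × Fin n) → Option (List (Fin n))
  | [] => some w
  | e :: L => match move M w e with
    | none => none
    | some w' => run w' L

/-- The group element of a word. -/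
def pw (w : List (Fin n)) : M.Group := (w.map M.simple).prod

theorem pw_append (a b : List (Fin n)) : pw M (a ++ b) = pw M a * pw M b := by
  simp [pw]

theorem sq_one (i : Fin n) : M.simple i * M.simple i = 1 := M.toCoxeterSystem.simple_mul_simple_self i

theorem pw_reverse (w : List (Fin n)) : pw M w.reverse = (pw M w)⁻¹ := by
  induction w with
  | nil => simp [pw]
  | cons i w ih =>
    rw [List.reverse_cons, pw_append, ih]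
    rw [show pw M [i] = M.simple i by simp [pw], show pw M (i :: w) = M.simple i * pw M w by simp [pw],
      mul_inv_rev, inv_eq_of_mul_eq_one_left (sq_one M i)]

theorem pw_rep (k : ℕ) (i j : Fin n) : pw M (repW k i j) = (M.simple i * M.simple j) ^ k := by
  induction k with
  | zero => simp [repW, pw]
  | succ k ih =>
    show pw M ([i, j] ++ repW k i j) = _
    rw [pw_append, ih, pow_succ']
    simp [pw]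

theorem move_spec {w w' : List (Fin n)} {e : ℕ × Fin n × Fin n} (h : move M w e = some w') :
    pw M w' = pw M w := by
  obtain ⟨p, i, j⟩ := e
  unfold move at h
  split at h
  · next hc =>
    obtain ⟨h1, h2⟩ := hc
    cases h
    conv_rhs => rw [h2]
    simp only [pw_append]
    congr 2
    have := congrArg (pw M) h1
    rw [pw_append, pw_reverse, pw_rep,
      show (M.simple i * M.simple j) ^ M.M i j = 1 from M.toCoxeterSystem.simple_mul_simple_pow i j,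
      mul_inv_eq_one] at this
    exact this.symm
  · simp at h

theorem run_spec (L : List (ℕ × Fin n × Fin n)) : ∀ {w w' : List (Fin n)},
    run M w L = some w' → pw M w' = pw M w := by
  induction L with
  | nil => intro w w' h; cases h; rfl
  | cons e L ih =>
    intro w w' h
    simp only [run] at h
    split at h
    · simp at h
    · next v hv => rw [ih h, move_spec M hv]

/-- Expansion of a token: the Coxeter element, its inverse, or a chosen reflection. -/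
def tok (T : List (Fin n)) : ℕ → List (Fin n)
  | 0 => List.finRange n
  | 1 => (List.finRange n).reverse
  | k + 2 => (T[k]?).toList

/-- All simple reflections are certified words. -/
def check (T : List (Fin n)) (C : List (List ℕ × List (ℕ × Fin n × Fin n))) : Bool :=
  (List.finRange n).all fun i => C.any fun e => decide (run M (e.1.flatMap (tok T)) e.2 = some [i])

theorem gen_of_check (T : List (Fin n)) (C : List (List ℕ × List (ℕ × Fin n × Fin n)))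
    (S : Finset M.Group) (hS : ∀ t ∈ T, M.simple t ∈ S) (h : check M T C = true) :
    Subgroup.closure (({((List.finRange n).map M.simple).prod} : Set M.Group) ∪ ↑S) = ⊤ := by
  set H := Subgroup.closure (({((List.finRange n).map M.simple).prod} : Set M.Group) ∪ ↑S)
  have hc : pw M (List.finRange n) ∈ H := Subgroup.subset_closure (Or.inl rfl)
  have htok : ∀ k, pw M (tok T k) ∈ H := by
    intro k
    match k with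
    | 0 => exact hc
    | 1 => exact (pw_reverse M (List.finRange n)).symm ▸ inv_mem hc
    | k + 2 =>
      simp only [tok]
      cases hk : T[k]? with
      | none => simp [pw]
      | some t =>
        simp only [pw, Option.toList, List.map_cons, List.map_nil, List.prod_cons, List.prod_nil, mul_one]
        exact Subgroup.subset_closure (Or.inr (hS t (List.mem_of_getElem? hk)))
  rw [eq_top_iff, ← M.toCoxeterSystem.subgroup_closure_range_simple, Subgroup.closure_le]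
  rintro _ ⟨i, rfl⟩
  have := List.all_eq_true.1 h i (List.mem_finRange i)
  obtain ⟨e, -, he⟩ := List.any_eq_true.1 this
  have := run_spec M e.2 (of_decide_eq_true he)
  have key : ∀ l : List ℕ, pw M (l.flatMap (tok T)) ∈ H := by
    intro l
    induction l with
    | nil => simp [pw]
    | cons a l ih => rw [List.flatMap_cons, pw_append]; exact mul_mem (htok a) ih
  rw [SetLike.mem_coe]
  have hi : M.toCoxeterSystem.simple i = pw M [i] := by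
    simp [pw]
  rw [hi, this]
  exact key _

theorem one_refl (t : Fin n) (C : List (List ℕ × List (ℕ × Fin n × Fin n))) (h : check M [t] C = true) :
    ∃ T : Finset M.Group, T.card = 1 ∧ (∀ x ∈ T, ∃ (g : M.Group) (i : Fin n), x = g * M.simple i * g⁻¹) ∧
      Subgroup.closure (({((List.finRange n).map M.simple).prod} : Set M.Group) ∪ ↑T) = ⊤ := by
  refine ⟨{M.simple t}, Finset.card_singleton _, ?_, gen_of_check M [t] C _ (by simp) h⟩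
  intro x hx
  exact ⟨1, t, by simpa using hx⟩

open scoped Classical in
theorem two_refl (t u : Fin n) (C : List (List ℕ × List (ℕ × Fin n × Fin n))) (h : check M [t, u] C = true)
    {G : Type} [Monoid G] (f : Fin n → G) (hf : M.IsLiftable f) (htu : f t ≠ f u) :
    ∃ T : Finset M.Group, T.card = 2 ∧ (∀ x ∈ T, ∃ (g : M.Group) (i : Fin n), x = g * M.simple i * g⁻¹) ∧
      Subgroup.closure (({((List.finRange n).map M.simple).prod} : Set M.Group) ∪ ↑T) = ⊤ := by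
  have hne : M.simple t ≠ M.simple u := by
    intro e
    apply htu
    have h' := congrArg (M.toCoxeterSystem.lift ⟨f, hf⟩) e
    rwa [← M.toCoxeterSystem_simple, CoxeterSystem.lift_apply_simple, CoxeterSystem.lift_apply_simple] at h'
  refine ⟨{M.simple t, M.simple u}, Finset.card_pair hne, ?_, gen_of_check M [t, u] C _ (by simp) h⟩
  intro x hx
  rcases Finset.mem_insert.1 hx with hx | hx
  · exact ⟨1, t, by simpa using hx⟩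
  · exact ⟨1, u, by simpa using hx⟩

def TB2 : List (Fin 2) := [0]
def certB2 : List (List ℕ × List (ℕ × Fin 2 × Fin 2)) :=
  [(([2] : List ℕ), ([] : List (ℕ × Fin 2 × Fin 2))),
    (([2, 0] : List ℕ), ([(0, 0, 0)] : List (ℕ × Fin 2 × Fin 2)))]
def TG2 : List (Fin 2) := [0]
def certG2 : List (List ℕ × List (ℕ × Fin 2 × Fin 2)) :=
  [(([2] : List ℕ), ([] : List (ℕ × Fin 2 × Fin 2))),
    (([2, 0] : List ℕ), ([(0, 0, 0)] : List (ℕ × Fin 2 × Fin 2)))]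
def TD4 : List (Fin 4) := [0, 3]
def certD4 : List (List ℕ × List (ℕ × Fin 4 × Fin 4)) :=
  [(([2] : List ℕ), ([] : List (ℕ × Fin 4 × Fin 4))),
    (([0, 2, 1] : List ℕ), ([(3, 3, 0), (4, 3, 3), (2, 2, 0), (3, 2, 2), (0, 0, 1), (2, 1, 1), (1, 0, 0)] : List (ℕ × Fin 4 × Fin 4))),
    (([0, 3, 0, 2, 1, 3, 1] : List ℕ), ([(3, 3, 3), (2, 2, 0), (0, 0, 1), (2, 1, 2), (4, 2, 2), (4, 3, 0), (5, 3, 3), (1, 0, 2), (2, 0, 1), (0, 1, 2), (2, 2, 0), (3, 2, 1), (5, 1, 1), (1, 1, 0), (3, 0, 2), (4, 0, 0), (4, 3, 3), (3, 2, 2), (2, 1, 1), (1, 0, 0)] : List (ℕ × Fin 4 × Fin 4))),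
    (([3] : List ℕ), ([] : List (ℕ × Fin 4 × Fin 4)))]
def TF4 : List (Fin 4) := [0, 2]
def certF4 : List (List ℕ × List (ℕ × Fin 4 × Fin 4)) :=
  [(([2] : List ℕ), ([] : List (ℕ × Fin 4 × Fin 4))),
    (([0, 2, 1] : List ℕ), ([(3, 3, 0), (4, 3, 3), (2, 2, 0), (3, 2, 2), (0, 0, 1), (2, 1, 1), (1, 0, 0)] : List (ℕ × Fin 4 × Fin 4))),
    (([3] : List ℕ), ([] : List (ℕ × Fin 4 × Fin 4))),
    (([0, 3, 1] : List ℕ), ([(2, 2, 3), (4, 3, 3), (3, 2, 2), (1, 1, 3), (2, 1, 1), (0, 0, 3), (1, 0, 0)] : List (ℕ × Fin 4 × Fin 4)))]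
def TE6 : List (Fin 6) := [0]
def certE6 : List (List ℕ × List (ℕ × Fin 6 × Fin 6)) :=
  [(([2] : List ℕ), ([] : List (ℕ × Fin 6 × Fin 6))),
    (([1, 2, 1, 1, 1, 2, 0, 0, 0, 2, 0] : List ℕ), ([(5, 0, 0), (22, 0, 0), (21, 1, 0), (22, 1, 1), (16, 0, 5), (17, 0, 4), (18, 0, 3), (19, 0, 2), (21, 2, 2), (14, 2, 1), (15, 2, 5), (16, 2, 4), (17, 2, 3), (19, 3, 0), (20, 3, 3), (9, 1, 0), (10, 1, 5), (11, 1, 4), (12, 1, 3), (14, 3, 5), (15, 3, 4), (17, 4, 2), (18, 4, 0), (19, 4, 4), (3, 2, 1), (4, 2, 5), (5, 2, 4), (6, 2, 3), (8, 3, 0), (9, 3, 5), (10, 3, 4), (12, 4, 1), (13, 4, 5), (15, 5, 3), (16, 5, 2), (17, 5, 0), (18, 5, 5), (17, 0, 0), (12, 1, 5), (13, 1, 4), (11, 3, 5), (9, 5, 4), (11, 4, 3), (13, 3, 1), (15, 1, 2), (16, 1, 1), (15, 2, 2), (14, 3, 3), (12, 4, 1), (13, 4, 4), (10, 5, 3), (11, 5, 1), (12,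 5, 5), (8, 0, 4), (9, 0, 3), (10, 0, 1), (11, 0, 0), (10, 1, 1), (7, 2, 4), (5, 4, 3), (7, 3, 2), (9, 2, 2), (8, 3, 3), (6, 4, 2), (7, 4, 4), (4, 5, 3), (5, 5, 2), (6, 5, 5), (6, 0, 0), (2, 3, 1), (4, 1, 2), (5, 1, 1), (4, 2, 2), (3, 3, 3), (1, 4, 1), (2, 4, 4), (0, 5, 1), (1, 5, 5)] : List (ℕ × Fin 6 × Fin 6))),
    (([0, 2, 1] : List ℕ), ([(5, 5, 0), (6, 5, 5), (4, 4, 0), (5, 4, 4), (3, 3, 0), (4, 3, 3), (0, 0, 1), (1, 0, 2), (3, 2, 2), (0, 1, 2), (1, 1, 0), (2, 1, 1), (1, 0, 0)] : List (ℕ × Fin 6 × Fin 6))),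
    (([0, 0, 0, 0, 0, 2, 1, 1, 1, 1, 1] : List ℕ), ([(23, 5, 0), (24, 5, 1), (25, 5, 2), (26, 5, 3), (22, 4, 0), (23, 4, 1), (24, 4, 2), (21, 3, 0), (19, 1, 2), (20, 1, 0), (21, 1, 3), (18, 0, 2), (5, 5, 0), (6, 5, 1), (7, 5, 2), (8, 5, 3), (9, 5, 4), (11, 4, 0), (12, 4, 1), (13, 4, 2), (14, 4, 3), (16, 3, 5), (4, 4, 0), (5, 4, 1), (6, 4, 2), (7, 4, 3), (9, 3, 5), (10, 3, 0), (5, 1, 2), (3, 3, 0), (0, 0, 1), (1, 0, 2), (3, 2, 3), (5, 3, 1), (7, 1, 4), (8, 1, 5), (9, 1, 0), (10, 1, 3), (12, 3, 2), (14, 2, 4), (15, 2, 5), (16, 2, 3), (18, 3, 0), (19, 3, 2), (21, 2, 1), (22, 2, 3), (24, 3, 4), (26, 4, 5), (28, 5, 5), (27, 4, 0), (26, 5, 0), (27, 5, 4), (29, 4, 4), (25, 3, 0), (24, 4, 0), (25, 4, 3), (27, 3, 5), (28, 3, 3), (17, 2, 0), (19, 0, 3), (20, 0, 1), (21, 0, 3), (22, 0, 2), (16, 3, 0), (17, 3, 2),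 (19, 2, 1), (20, 2, 3), (22, 3, 0), (23, 3, 2), (25, 2, 4), (26, 2, 5), (27, 2, 2), (18, 3, 1), (20, 1, 2), (21, 1, 0), (22, 1, 2), (17, 2, 1), (18, 2, 3), (20, 3, 0), (16, 0, 1), (17, 0, 3), (18, 0, 2), (20, 2, 3), (22, 3, 1), (24, 1, 4), (25, 1, 5), (26, 1, 1), (19, 0, 3), (17, 3, 2), (19, 2, 0), (21, 0, 1), (22, 0, 3), (23, 0, 4), (24, 0, 5), (25, 0, 0), (24, 5, 5), (23, 4, 4), (22, 3, 3), (20, 2, 1), (21, 2, 2), (20, 1, 1), (19, 0, 0), (15, 5, 1), (16, 5, 2), (17, 5, 3), (18, 5, 5), (14, 4, 1), (15, 4, 2), (11, 1, 2), (12, 1, 3), (10, 3, 2), (12, 2, 1), (13, 2, 3), (15, 3, 4), (17, 4, 4), (16, 3, 3), (14, 2, 4), (15, 2, 2), (11, 3, 1), (13, 1, 4), (14, 1, 1), (4, 2, 1), (0, 1, 2), (1, 1, 0), (2, 1, 3), (4, 3, 2), (6, 2, 4), (7, 2, 5), (8, 2, 0), (10, 0, 1), (11, 0, 3), (12, 0, 4), (13, 0, 0), (7, 5,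 0), (8, 5, 2), (9, 5, 1), (10, 5, 3), (6, 4, 0), (7, 4, 2), (8, 4, 1), (5, 3, 0), (1, 0, 3), (2, 0, 1), (3, 0, 2), (5, 2, 3), (2, 1, 2), (3, 1, 0), (0, 2, 3), (2, 3, 0), (3, 3, 1), (5, 1, 2), (6, 1, 3), (8, 3, 4), (10, 4, 5), (12, 5, 5), (11, 4, 4), (9, 3, 5), (10, 3, 3), (4, 3, 2), (6, 2, 1), (7, 2, 4), (8, 2, 5), (9, 2, 2), (6, 1, 4), (7, 1, 5), (8, 1, 1), (2, 0, 1), (1, 2, 1), (2, 2, 0), (4, 0, 3), (5, 0, 4), (6, 0, 5), (7, 0, 0), (6, 5, 5), (5, 4, 4), (4, 3, 3), (3, 2, 2), (1, 1, 0), (2, 1, 1), (1, 0, 0)] : List (ℕ × Fin 6 × Fin 6))),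
    (([0, 0, 0, 0, 0, 0, 2, 1, 1, 1, 1, 1, 1] : List ℕ), ([(23, 5, 0), (24, 5, 1), (25, 5, 2), (26, 5, 3), (22, 4, 0), (23, 4, 1), (24, 4, 2), (21, 3, 0), (19, 1, 2), (20, 1, 0), (21, 1, 3), (18, 0, 2), (5, 5, 0), (6, 5, 1), (7, 5, 2), (8, 5, 3), (9, 5, 4), (11, 4, 0), (12, 4, 1), (13, 4, 2), (14, 4, 3), (16, 3, 5), (4, 4, 0), (5, 4, 1), (6, 4, 2), (7, 4, 3), (9, 3, 5), (10, 3, 0), (5, 1, 2), (3, 3, 0), (0, 0, 1), (1, 0, 2), (3, 2, 3), (5, 3, 1), (7, 1, 4), (8, 1, 5), (9, 1, 0), (10, 1, 3), (12, 3, 2), (14, 2, 4), (15, 2, 5), (16, 2, 3), (18, 3, 0), (19, 3, 2), (21, 2, 1), (22, 2, 3), (24, 3, 4), (26, 4, 5), (28, 5, 5), (27, 4, 0), (28, 4, 1), (29, 4, 2), (25, 3, 5), (26, 3, 0), (20, 3, 1), (22, 1, 2), (23, 1, 4), (24, 1, 5), (25, 1, 0), (26, 1, 3), (22, 2, 4), (23, 2, 5), (17, 2, 0), (19, 0, 1), (20,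 0, 3), (21, 0, 4), (22, 0, 5), (23, 0, 2), (8, 5, 0), (9, 5, 3), (10, 5, 1), (11, 5, 2), (12, 5, 3), (13, 5, 4), (7, 4, 0), (6, 3, 0), (7, 3, 4), (9, 4, 1), (10, 4, 2), (11, 4, 3), (13, 3, 5), (14, 3, 4), (16, 4, 0), (17, 4, 2), (18, 4, 1), (19, 4, 3), (21, 3, 5), (17, 2, 1), (15, 3, 0), (9, 1, 2), (4, 2, 1), (2, 0, 3), (3, 0, 1), (4, 0, 2), (6, 2, 4), (7, 2, 3), (9, 3, 1), (11, 1, 4), (12, 1, 5), (13, 1, 4), (14, 1, 0), (15, 1, 3), (17, 3, 2), (19, 2, 4), (20, 2, 5), (21, 2, 3), (23, 3, 0), (24, 3, 2), (26, 2, 1), (27, 2, 3), (29, 3, 4), (31, 4, 4), (20, 5, 3), (21, 5, 2), (22, 5, 0), (23, 5, 2), (24, 5, 3), (25, 5, 1), (26, 5, 3), (27, 5, 2), (18, 3, 4), (20, 4, 2), (21, 4, 0), (22, 4, 2), (17, 2, 4), (18, 2, 3), (20, 3, 0), (14, 0, 3), (15, 0, 1), (16, 0, 4), (17, 0, 3), (18, 0, 2), (20, 2, 3), (22,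 3, 4), (24, 4, 1), (15, 1, 4), (13, 4, 3), (15, 3, 1), (17, 1, 2), (18, 1, 0), (8, 2, 1), (3, 1, 2), (4, 1, 0), (5, 1, 4), (6, 1, 3), (8, 3, 2), (10, 2, 4), (11, 2, 5), (1, 2, 3), (3, 3, 0), (4, 3, 4), (6, 4, 1), (7, 4, 2), (8, 4, 3), (10, 3, 5), (11, 3, 2), (13, 2, 4), (14, 2, 1), (15, 2, 3), (17, 3, 0), (18, 3, 1), (20, 1, 2), (21, 1, 4), (22, 1, 3), (24, 3, 4), (26, 4, 2), (27, 4, 5), (29, 5, 3), (30, 5, 5), (29, 3, 0), (30, 3, 5), (28, 4, 0), (27, 5, 0), (28, 5, 4), (30, 4, 3), (32, 3, 3), (17, 0, 1), (18, 0, 3), (16, 2, 1), (14, 1, 3), (16, 3, 2), (18, 2, 0), (20, 0, 4), (21, 0, 3), (22, 0, 1), (23, 0, 4), (24, 0, 3), (25, 0, 2), (27, 2, 4), (28, 2, 5), (19, 2, 4), (17, 3, 0), (12, 3, 4), (14, 4, 1), (15, 4, 2), (16, 4, 0), (17, 4, 3), (19, 3, 2), (21, 2, 1), (22, 2, 4), (23, 2, 3), (25, 3, 0), (14,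 1, 2), (15, 1, 0), (11, 2, 4), (12, 2, 3), (14, 3, 0), (15, 3, 1), (17, 1, 4), (18, 1, 2), (19, 1, 3), (21, 3, 4), (23, 4, 2), (24, 4, 0), (25, 4, 3), (27, 3, 5), (28, 3, 2), (30, 2, 4), (31, 2, 2), (20, 1, 4), (17, 4, 2), (18, 4, 3), (20, 3, 1), (22, 1, 2), (23, 1, 0), (16, 3, 2), (18, 2, 4), (19, 2, 1), (20, 2, 3), (22, 3, 0), (23, 3, 1), (25, 1, 4), (26, 1, 5), (27, 1, 2), (18, 4, 1), (15, 1, 2), (16, 1, 3), (18, 3, 4), (20, 4, 2), (21, 4, 0), (22, 4, 1), (23, 4, 3), (25, 3, 5), (13, 2, 0), (15, 0, 3), (16, 0, 1), (17, 0, 4), (18, 0, 3), (19, 0, 2), (21, 2, 1), (12, 3, 0), (13, 3, 2), (15, 2, 1), (16, 2, 4), (17, 2, 3), (19, 3, 0), (15, 1, 4), (11, 4, 0), (12, 4, 2), (13, 4, 3), (15, 3, 1), (17, 1, 2), (18, 1, 0), (19, 1, 3), (21, 3, 2), (23, 2, 4), (24, 2, 5), (25, 2, 3), (27, 3, 1), (29, 1, 4), (30,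 1, 1), (18, 0, 3), (19, 0, 1), (16, 3, 2), (18, 2, 1), (19, 2, 0), (21, 0, 3), (22, 0, 4), (23, 0, 5), (24, 0, 3), (15, 1, 2), (16, 1, 3), (18, 3, 0), (19, 3, 2), (21, 2, 4), (22, 2, 5), (14, 4, 2), (12, 2, 3), (14, 3, 4), (16, 4, 1), (17, 4, 0), (18, 4, 2), (19, 4, 3), (21, 3, 5), (22, 3, 2), (24, 2, 0), (26, 0, 1), (27, 0, 3), (28, 0, 4), (29, 0, 0), (21, 5, 2), (22, 5, 3), (23, 5, 0), (24, 5, 2), (25, 5, 1), (26, 5, 3), (27, 5, 4), (29, 4, 4), (20, 4, 2), (18, 2, 3), (20, 3, 4), (22, 4, 0), (23, 4, 2), (24, 4, 1), (25, 4, 3), (27, 3, 5), (28, 3, 3), (23, 2, 1), (21, 3, 0), (16, 1, 0), (15, 3, 0), (16, 3, 1), (18, 1, 2), (19, 1, 4), (20, 1, 0), (21, 1, 3), (23, 3, 2), (25, 2, 4), (26, 2, 5), (27, 2, 2), (22, 1, 2), (18, 2, 4), (15, 0, 1), (16, 0, 3), (17, 0, 4), (18, 0, 2), (20, 2, 3), (22, 3, 1), (24,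 1, 4), (25, 1, 5), (26, 1, 1), (19, 0, 3), (14, 4, 1), (15, 4, 3), (17, 3, 2), (19, 2, 0), (21, 0, 1), (22, 0, 3), (23, 0, 4), (24, 0, 5), (25, 0, 0), (24, 5, 5), (23, 4, 4), (22, 3, 3), (20, 2, 1), (21, 2, 2), (20, 1, 1), (19, 0, 0), (10, 5, 0), (11, 5, 3), (12, 5, 2), (13, 5, 1), (14, 5, 3), (9, 4, 0), (8, 3, 0), (9, 3, 4), (11, 4, 2), (12, 4, 1), (3, 0, 4), (4, 0, 3), (5, 0, 1), (6, 0, 2), (8, 2, 4), (9, 2, 3), (5, 1, 2), (6, 1, 0), (7, 1, 4), (2, 2, 4), (3, 2, 3), (5, 3, 0), (1, 3, 4), (3, 4, 2), (4, 4, 0), (5, 4, 3), (7, 3, 1), (9, 1, 2), (10, 1, 3), (12, 3, 4), (14, 4, 5), (16, 5, 2), (17, 5, 3), (18, 5, 5), (15, 4, 2), (13, 3, 5), (8, 3, 2), (10, 2, 1), (11, 2, 4), (12, 2, 5), (13, 2, 3), (15, 3, 4), (17, 4, 4), (16, 3, 3), (14, 2, 4), (15, 2, 2), (10, 1, 4), (11, 1, 5), (6, 4, 1), (7, 4, 2), (8,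 4, 3), (10, 3, 5), (11, 3, 1), (13, 1, 4), (14, 1, 1), (4, 0, 3), (5, 0, 1), (2, 3, 2), (4, 2, 1), (5, 2, 0), (7, 0, 3), (8, 0, 4), (9, 0, 5), (10, 0, 1), (11, 0, 3), (12, 0, 4), (13, 0, 0), (9, 5, 1), (10, 5, 3), (8, 4, 1), (4, 1, 0), (5, 1, 2), (6, 1, 3), (8, 3, 4), (10, 4, 5), (12, 5, 5), (11, 4, 4), (9, 3, 5), (10, 3, 3), (3, 3, 0), (4, 3, 2), (6, 2, 1), (7, 2, 4), (8, 2, 5), (9, 2, 2), (6, 1, 4), (7, 1, 5), (8, 1, 1), (2, 2, 0), (4, 0, 3), (5, 0, 4), (6, 0, 5), (7, 0, 0), (6, 5, 5), (5, 4, 4), (4, 3, 3), (3, 2, 2), (0, 1, 4), (1, 1, 0), (2, 1, 1), (1, 0, 0)] : List (ℕ × Fin 6 × Fin 6))),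
    (([1, 1, 1, 1, 1, 2, 0, 0, 0, 0, 0] : List ℕ), ([(23, 0, 5), (24, 0, 4), (25, 0, 3), (21, 2, 1), (22, 2, 5), (23, 2, 4), (16, 1, 0), (17, 1, 5), (18, 1, 4), (19, 1, 3), (21, 3, 5), (9, 2, 1), (5, 0, 5), (6, 0, 4), (7, 0, 3), (8, 0, 1), (9, 0, 2), (11, 2, 5), (12, 2, 4), (13, 2, 3), (15, 3, 0), (16, 3, 5), (17, 3, 4), (19, 4, 1), (4, 1, 5), (5, 1, 4), (6, 1, 3), (3, 2, 5), (4, 2, 4), (2, 3, 5), (0, 5, 4), (2, 4, 3), (4, 3, 2), (6, 2, 1), (7, 2, 3), (9, 3, 0), (10, 3, 5), (11, 3, 4), (13, 4, 2), (14, 4, 0), (15, 4, 5), (17, 5, 3), (18, 5, 1), (19, 5, 4), (21, 4, 3), (23, 3, 2), (25, 2, 0), (27, 0, 1), (28, 0, 0), (28, 0, 0), (27, 1, 1), (26, 2, 2), (24, 3, 0), (25, 3, 3), (22, 4, 2), (23, 4, 0), (24, 4, 4), (20, 5, 3), (21, 5, 2), (22, 5, 0), (23, 5, 5), (22, 0, 0), (18, 1, 4), (16, 4, 3), (18, 3, 1),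 (20, 1, 2), (21, 1, 1), (20, 2, 2), (19, 3, 3), (17, 4, 1), (18, 4, 4), (15, 5, 3), (16, 5, 1), (17, 5, 5), (14, 0, 3), (15, 0, 1), (16, 0, 0), (15, 1, 1), (12, 3, 2), (14, 2, 2), (13, 3, 3), (11, 4, 2), (12, 4, 4), (10, 5, 2), (11, 5, 5), (8, 2, 0), (10, 0, 0), (5, 3, 1), (7, 1, 0), (8, 1, 2), (9, 1, 1), (8, 2, 2), (6, 3, 0), (7, 3, 3), (3, 4, 2), (4, 4, 1), (5, 4, 0), (6, 4, 4), (1, 5, 3), (2, 5, 2), (3, 5, 1), (4, 5, 0), (5, 5, 5), (4, 0, 0), (3, 1, 1), (2, 2, 2), (1, 3, 3), (0, 4, 4)] : List (ℕ × Fin 6 × Fin 6)))]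
def TE7 : List (Fin 7) := [1]
def certE7 : List (List ℕ × List (ℕ × Fin 7 × Fin 7)) :=
  [(([0, 0, 0, 2, 0, 0, 2, 1, 1, 2, 1, 1, 1] : List ℕ), ([(21, 1, 0), (22, 1, 1), (20, 6, 0), (21, 6, 2), (22, 6, 3), (23, 6, 4), (19, 5, 0), (20, 5, 2), (21, 5, 3), (18, 4, 0), (19, 4, 2), (17, 3, 0), (14, 0, 1), (15, 0, 2), (17, 2, 3), (19, 3, 4), (21, 4, 5), (23, 5, 6), (25, 6, 6), (26, 1, 2), (20, 3, 5), (6, 6, 0), (7, 6, 1), (8, 6, 2), (9, 6, 3), (10, 6, 4), (11, 6, 5), (13, 5, 1), (14, 5, 2), (15, 5, 0), (16, 5, 3), (17, 5, 2), (18, 5, 4), (20, 4, 3), (22, 3, 6), (23, 3, 5), (24, 3, 0), (17, 2, 4), (18, 2, 5), (5, 5, 0), (6, 5, 1), (7, 5, 2), (8, 5, 3), (9, 5, 4), (11, 4, 6), (12, 4, 1), (13, 4, 2), (14, 4, 0), (15, 4, 3), (17, 3, 5), (18, 3, 2), (20, 2, 4), (21, 2, 6), (22, 2, 5), (14, 0, 3), (15, 0, 4), (16,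 0, 5), (4, 4, 0), (5, 4, 1), (6, 4, 2), (7, 4, 3), (9, 3, 5), (10, 3, 6), (5, 1, 2), (3, 3, 0), (0, 0, 1), (1, 0, 2), (3, 2, 3), (5, 3, 1), (7, 1, 4), (8, 1, 5), (9, 1, 6), (10, 1, 3), (12, 3, 2), (14, 2, 4), (15, 2, 5), (16, 2, 0), (18, 0, 3), (19, 0, 4), (20, 0, 6), (21, 0, 5), (22, 0, 2), (24, 2, 3), (26, 3, 1), (28, 1, 4), (29, 1, 5), (30, 1, 6), (31, 1, 1), (30, 6, 6), (29, 5, 5), (28, 4, 4), (27, 3, 3), (25, 2, 1), (26, 2, 2), (25, 1, 1), (23, 0, 3), (24, 0, 0), (21, 5, 2), (22, 5, 3), (20, 6, 2), (21, 6, 3), (22, 6, 5), (24, 5, 5), (19, 4, 2), (17, 2, 3), (19, 3, 4), (15, 5, 0), (16, 5, 3), (17, 5, 2), (14, 4, 0), (13, 3, 0), (14, 3, 4), (16, 4, 2), (17, 4, 5), (19, 5, 3), (20, 5, 4), (22, 4, 6), (23, 4, 4), (18, 4, 3), (20, 3, 5), (21, 3, 6), (22, 3, 3), (16, 2, 5), (15, 3, 5), (16, 3, 2), (18,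 2, 4), (19, 2, 5), (20, 2, 6), (21, 2, 2), (13, 0, 4), (14, 0, 5), (12, 2, 4), (13, 2, 5), (14, 2, 0), (16, 0, 3), (17, 0, 4), (18, 0, 5), (19, 0, 6), (20, 0, 1), (21, 0, 0), (20, 1, 1), (19, 6, 6), (18, 5, 5), (17, 4, 4), (16, 3, 3), (15, 2, 2), (11, 1, 4), (12, 1, 5), (13, 1, 0), (14, 1, 1), (13, 0, 0), (9, 6, 3), (10, 6, 4), (8, 5, 3), (6, 3, 4), (8, 4, 5), (10, 5, 6), (12, 6, 6), (11, 5, 5), (9, 4, 6), (10, 4, 4), (7, 3, 5), (8, 3, 6), (9, 3, 3), (4, 2, 1), (5, 2, 4), (6, 2, 5), (7, 2, 6), (8, 2, 2), (4, 1, 4), (5, 1, 5), (6, 1, 6), (7, 1, 1), (2, 0, 3), (3, 0, 4), (4, 0, 5), (5, 0, 6), (6, 0, 0), (5, 6, 6), (4, 5, 5), (3, 4, 4), (2, 3, 3), (1, 2, 2), (0, 1, 1)] : List (ℕ × Fin 7 × Fin 7))),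
    (([2] : List ℕ), ([] : List (ℕ × Fin 7 × Fin 7))),
    (([1, 1, 1, 2, 1, 1, 2, 0, 0, 2, 0, 0, 0] : List ℕ), ([(19, 1, 0), (20, 1, 1), (19, 0, 6), (20, 0, 5), (21, 0, 4), (22, 0, 3), (18, 2, 6), (19, 2, 5), (20, 2, 4), (17, 3, 6), (18, 3, 5), (16, 4, 6), (14, 6, 5), (16, 5, 4), (18, 4, 3), (20, 3, 2), (22, 2, 0), (24, 0, 1), (25, 0, 0), (30, 1, 0), (31, 1, 1), (30, 0, 0), (29, 2, 1), (30, 2, 2), (24, 1, 6), (25, 1, 5), (26, 1, 4), (27, 1, 3), (29, 3, 3), (21, 3, 0), (13, 0, 5), (14, 0, 6), (15, 0, 4), (16, 0, 5), (17, 0, 3), (18, 0, 4), (19, 0, 2), (21, 2, 3), (23, 3, 6), (24, 3, 5), (25, 3, 4), (27, 4, 1), (28, 4, 4), (18, 4, 2), (19, 4, 0), (11, 2, 1), (12, 2, 5), (13, 2, 6), (14, 2, 4), (15, 2, 5), (16, 2, 3), (18, 3, 0), (19, 3, 4), (21, 4, 2), (22, 4, 6), (23, 4, 5), (25, 5, 3), (26, 5, 1), (27,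 5, 5), (15, 5, 3), (16, 5, 2), (17, 5, 0), (5, 1, 0), (6, 1, 6), (7, 1, 5), (8, 1, 4), (9, 1, 3), (11, 3, 5), (12, 3, 6), (13, 3, 4), (15, 4, 2), (16, 4, 0), (17, 4, 5), (19, 5, 3), (20, 5, 2), (21, 5, 6), (23, 6, 4), (24, 6, 3), (25, 6, 1), (26, 6, 6), (25, 1, 0), (26, 1, 1), (20, 2, 6), (21, 2, 5), (22, 2, 4), (19, 3, 6), (20, 3, 5), (18, 4, 6), (12, 6, 4), (13, 6, 3), (14, 6, 2), (15, 6, 0), (16, 6, 5), (18, 5, 4), (20, 4, 3), (22, 3, 2), (15, 0, 5), (16, 0, 6), (17, 0, 4), (18, 0, 5), (19, 0, 3), (20, 0, 4), (14, 2, 5), (15, 2, 6), (16, 2, 4), (17, 2, 5), (13, 3, 5), (14, 3, 6), (11, 5, 4), (13, 4, 6), (14, 4, 3), (16, 3, 5), (17, 3, 2), (19, 2, 4), (20, 2, 0), (22, 0, 3), (23, 0, 2), (25, 2, 2), (21, 2, 3), (23, 3, 0), (24, 3, 3), (19, 4, 0), (18, 3, 0), (19, 3, 4), (21, 4, 2), (22, 4, 0), (23, 4,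 4), (16, 5, 2), (17, 5, 0), (15, 4, 2), (16, 4, 0), (17, 4, 5), (19, 5, 3), (20, 5, 2), (21, 5, 0), (22, 5, 5), (13, 6, 3), (14, 6, 2), (15, 6, 0), (12, 5, 3), (13, 5, 2), (14, 5, 0), (15, 5, 6), (17, 6, 4), (18, 6, 3), (19, 6, 2), (20, 6, 0), (21, 6, 6), (20, 0, 1), (21, 0, 0), (20, 1, 1), (19, 2, 2), (18, 3, 3), (17, 4, 4), (16, 5, 5), (15, 6, 6), (14, 0, 0), (10, 1, 4), (8, 4, 3), (10, 3, 1), (12, 1, 2), (13, 1, 1), (12, 2, 2), (11, 3, 3), (9, 4, 1), (10, 4, 4), (7, 5, 3), (8, 5, 1), (9, 5, 5), (6, 6, 3), (7, 6, 1), (8, 6, 6), (5, 0, 3), (6, 0, 1), (7, 0, 0), (6, 1, 1), (3, 3, 2), (5, 2, 2), (4, 3, 3), (2, 4, 2), (3, 4, 4), (1, 5, 2), (2, 5, 5), (0, 6, 2), (1, 6, 6)] : List (ℕ × Fin 7 × Fin 7))),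
    (([2, 1, 1, 2, 1, 1, 2, 0, 0, 2, 0, 0, 2] : List ℕ), ([(13, 1, 0), (14, 1, 1), (13, 0, 6), (14, 0, 5), (15, 0, 4), (16, 0, 3), (12, 2, 6), (13, 2, 5), (14, 2, 4), (11, 3, 6), (12, 3, 5), (10, 4, 6), (8, 6, 5), (10, 5, 4), (12, 4, 3), (14, 3, 2), (16, 2, 0), (18, 0, 1), (19, 0, 0), (24, 1, 0), (25, 1, 1), (24, 0, 0), (23, 2, 1), (24, 2, 2), (18, 1, 6), (19, 1, 5), (20, 1, 4), (21, 1, 3), (23, 3, 3), (15, 3, 0), (7, 0, 5), (8, 0, 6), (9, 0, 4), (10, 0, 5), (11, 0, 3), (12, 0, 4), (13, 0, 2), (15, 2, 3), (17, 3, 6), (18, 3, 5), (19, 3, 4), (21, 4, 1), (22, 4, 4), (12, 4, 2), (13, 4, 0), (5, 2, 1), (6, 2, 5), (7, 2, 6), (8, 2, 4), (9, 2, 5), (10, 2, 3), (12, 3, 0), (13, 3, 4), (15, 4, 2), (16, 4, 6), (17, 4, 5), (19, 5, 3), (20, 5, 1), (21, 5, 5), (9, 5, 3), (10, 5, 2), (11, 5, 0), (0, 1, 6), (1, 1, 5),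 (2, 1, 4), (3, 1, 3), (5, 3, 5), (6, 3, 6), (7, 3, 4), (9, 4, 2), (10, 4, 0), (11, 4, 5), (13, 5, 3), (14, 5, 2), (15, 5, 6), (17, 6, 4), (18, 6, 3), (19, 6, 1), (20, 6, 6), (19, 1, 0), (20, 1, 1), (14, 2, 6), (15, 2, 5), (16, 2, 4), (13, 3, 6), (14, 3, 5), (12, 4, 6), (6, 6, 4), (7, 6, 3), (8, 6, 2), (9, 6, 0), (10, 6, 5), (12, 5, 4), (14, 4, 3), (16, 3, 2), (9, 0, 5), (10, 0, 6), (11, 0, 4), (12, 0, 5), (13, 0, 3), (14, 0, 4), (8, 2, 5), (9, 2, 6), (10, 2, 4), (11, 2, 5), (7, 3, 5), (8, 3, 6), (5, 5, 4), (7, 4, 6), (8, 4, 3), (10, 3, 5), (11, 3, 2), (13, 2, 4), (14, 2, 0), (16, 0, 3), (17, 0, 2), (19, 2, 2), (15, 2, 3), (17, 3, 0), (18, 3, 3), (13, 4, 0), (12, 3, 0), (13, 3, 4), (15, 4, 2), (16, 4, 0), (17, 4, 4), (10, 5, 2), (11, 5, 0), (9, 4, 2), (10, 4, 0), (11, 4, 5), (13, 5, 3), (14, 5, 2), (15,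 5, 0), (16, 5, 5), (7, 6, 3), (8, 6, 2), (9, 6, 0), (6, 5, 3), (7, 5, 2), (8, 5, 0), (9, 5, 6), (11, 6, 4), (12, 6, 3), (13, 6, 2), (14, 6, 0), (15, 6, 6), (14, 0, 1), (15, 0, 0), (14, 1, 1), (13, 2, 2), (12, 3, 3), (11, 4, 4), (10, 5, 5), (9, 6, 6), (8, 0, 0), (4, 1, 4), (2, 4, 3), (4, 3, 1), (6, 1, 2), (7, 1, 1), (6, 2, 2), (5, 3, 3), (3, 4, 1), (4, 4, 4), (1, 5, 3), (2, 5, 1), (3, 5, 5), (0, 6, 3), (1, 6, 1), (2, 6, 6), (1, 1, 1)] : List (ℕ × Fin 7 × Fin 7))),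
    (([0, 2, 1, 1, 2, 1, 1, 2, 0, 0, 2, 0, 0, 2, 1] : List ℕ), ([(6, 6, 1), (7, 6, 6), (5, 5, 1), (6, 5, 5), (4, 4, 1), (5, 4, 4), (1, 1, 2), (2, 1, 3), (4, 3, 3), (3, 1, 2), (4, 1, 1), (10, 1, 0), (11, 1, 1), (10, 0, 6), (11, 0, 5), (12, 0, 4), (13, 0, 3), (9, 2, 6), (10, 2, 5), (11, 2, 4), (8, 3, 6), (9, 3, 5), (7, 4, 6), (5, 6, 5), (7, 5, 4), (9, 4, 3), (11, 3, 2), (13, 2, 0), (15, 0, 1), (16, 0, 0), (21, 1, 0), (22, 1, 1), (21, 0, 0), (20, 2, 1), (21, 2, 2), (15, 1, 6), (16, 1, 5), (17, 1, 4), (18, 1, 3), (20, 3, 3), (12, 3, 0), (4, 0, 5), (5, 0, 6), (6, 0, 4), (7, 0, 5), (8, 0, 3), (9, 0, 4), (10, 0, 2), (12, 2, 3), (14, 3, 6), (15, 3, 5), (16, 3, 4), (18, 4, 1), (19, 4, 4), (9, 4, 2), (10, 4, 0), (3, 2, 5), (4, 2, 6), (5, 2, 4), (6, 2, 5), (7, 2, 3), (9, 3, 0), (10, 3, 4), (12, 4, 2), (13, 4, 6),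 (14, 4, 5), (16, 5, 3), (17, 5, 1), (18, 5, 5), (6, 5, 3), (7, 5, 2), (8, 5, 0), (2, 3, 5), (3, 3, 6), (4, 3, 4), (6, 4, 2), (7, 4, 0), (8, 4, 5), (10, 5, 3), (11, 5, 2), (12, 5, 6), (14, 6, 4), (15, 6, 3), (16, 6, 1), (17, 6, 6), (16, 1, 0), (17, 1, 1), (11, 2, 6), (12, 2, 5), (13, 2, 4), (10, 3, 6), (11, 3, 5), (9, 4, 6), (3, 6, 4), (4, 6, 3), (5, 6, 2), (6, 6, 0), (7, 6, 5), (9, 5, 4), (11, 4, 3), (13, 3, 2), (6, 0, 5), (7, 0, 6), (8, 0, 4), (9, 0, 5), (10, 0, 3), (11, 0, 4), (5, 2, 5), (6, 2, 6), (7, 2, 4), (8, 2, 5), (4, 3, 5), (5, 3, 6), (2, 5, 4), (4, 4, 6), (5, 4, 3), (7, 3, 5), (8, 3, 2), (10, 2, 4), (11, 2, 0), (13, 0, 3), (14, 0, 2), (16, 2, 2), (12, 2, 3), (14, 3, 0), (15, 3, 3), (10, 4, 0), (9, 3, 0), (10, 3, 4), (12, 4, 2), (13, 4, 0), (14, 4, 4), (7, 5, 2), (8, 5, 0), (6, 4, 2), (7, 4, 0),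 (8, 4, 5), (10, 5, 3), (11, 5, 2), (12, 5, 0), (13, 5, 5), (4, 6, 3), (5, 6, 2), (6, 6, 0), (3, 5, 3), (4, 5, 2), (5, 5, 0), (6, 5, 6), (8, 6, 4), (9, 6, 3), (10, 6, 2), (11, 6, 0), (12, 6, 6), (11, 0, 1), (12, 0, 0), (11, 1, 1), (10, 2, 2), (9, 3, 3), (8, 4, 4), (7, 5, 5), (6, 6, 6), (5, 0, 0), (4, 2, 1), (5, 2, 2), (3, 3, 1), (5, 1, 4), (6, 1, 5), (7, 1, 6), (8, 1, 1), (7, 6, 6), (6, 5, 5), (5, 4, 4), (4, 3, 3), (1, 2, 4), (2, 2, 1), (3, 2, 2), (2, 1, 1), (0, 0, 4), (1, 0, 0)] : List (ℕ × Fin 7 × Fin 7))),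
    (([1, 1, 2, 0, 0, 2, 0, 0, 2, 1, 1, 2, 1, 1, 2, 0, 0] : List ℕ), ([(12, 1, 0), (13, 1, 1), (12, 0, 0), (11, 2, 1), (12, 2, 2), (5, 1, 0), (6, 1, 6), (7, 1, 5), (8, 1, 4), (9, 1, 3), (11, 3, 3), (5, 0, 6), (6, 0, 5), (7, 0, 4), (8, 0, 3), (9, 0, 1), (10, 0, 4), (11, 0, 5), (12, 0, 6), (13, 0, 0), (9, 1, 4), (10, 1, 5), (11, 1, 6), (12, 1, 1), (4, 2, 6), (5, 2, 5), (6, 2, 4), (3, 3, 6), (4, 3, 5), (2, 4, 6), (0, 6, 5), (2, 5, 4), (4, 4, 3), (6, 3, 2), (8, 2, 4), (9, 2, 5), (10, 2, 6), (11, 2, 2), (5, 4, 2), (6, 4, 3), (8, 3, 5), (9, 3, 6), (10, 3, 3), (3, 5, 3), (4, 5, 2), (5, 5, 3), (6, 5, 4), (8, 4, 6), (9, 4, 4), (1, 6, 4), (2, 6, 3), (3, 6, 2), (4, 6, 3), (5, 6, 4), (6, 6, 5), (8, 5, 5), (7, 6, 6), (7, 1, 0), (8, 1, 1), (2, 3, 2), (4, 2, 4), (5, 2, 5), (6, 2, 0), (8, 0, 3), (9, 0, 4), (10, 0, 5),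 (11, 0, 6), (12, 0, 0), (1, 4, 2), (2, 4, 3), (4, 3, 5), (5, 3, 0), (6, 3, 2), (8, 2, 4), (9, 2, 5), (10, 2, 6), (11, 2, 1), (12, 2, 2), (0, 5, 2), (1, 5, 3), (2, 5, 4), (4, 4, 0), (5, 4, 2), (6, 4, 3), (8, 3, 5), (9, 3, 6), (10, 3, 1), (12, 1, 4), (13, 1, 5), (14, 1, 6), (15, 1, 1), (14, 6, 6), (13, 5, 5), (12, 4, 4), (11, 3, 3), (10, 1, 2), (11, 1, 1), (9, 6, 2), (10, 6, 0), (11, 6, 6), (8, 5, 2), (9, 5, 0), (10, 5, 5), (7, 4, 2), (8, 4, 0), (9, 4, 4), (5, 2, 3), (7, 3, 0), (8, 3, 3), (4, 0, 3), (5, 0, 2), (7, 2, 2), (6, 0, 1), (7, 0, 0), (6, 1, 1), (3, 5, 3), (4, 5, 2), (5, 5, 6), (7, 6, 4), (8, 6, 3), (9, 6, 2), (10, 6, 1), (11, 6, 0), (12, 6, 6), (1, 3, 4), (3, 4, 2), (4, 4, 6), (5, 4, 5), (7, 5, 3), (8, 5, 2), (9, 5, 1), (10, 5, 0), (11, 5, 5), (0, 2, 4), (1, 2, 3), (3, 3, 6), (4, 3, 5), (5, 3, 4),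 (7, 4, 2), (8, 4, 1), (9, 4, 0), (10, 4, 4), (8, 1, 0), (2, 2, 6), (3, 2, 5), (4, 2, 4), (5, 2, 3), (7, 3, 0), (8, 3, 1), (10, 1, 2), (11, 1, 1), (11, 0, 1), (12, 0, 0), (11, 1, 1), (10, 2, 2), (9, 3, 3), (1, 3, 6), (2, 3, 5), (3, 3, 4), (5, 4, 2), (6, 4, 0), (7, 4, 1), (8, 4, 4), (0, 4, 6), (1, 4, 5), (3, 5, 3), (4, 5, 2), (5, 5, 0), (6, 5, 1), (7, 5, 5), (5, 0, 1), (6, 0, 6), (7, 0, 0), (5, 1, 6), (6, 1, 1), (4, 2, 6), (5, 2, 2), (3, 3, 6), (4, 3, 3), (2, 4, 6), (3, 4, 4), (0, 6, 5), (2, 5, 5), (1, 6, 6)] : List (ℕ × Fin 7 × Fin 7))),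
    (([1, 2, 0, 0, 2, 0, 0, 2, 1, 1, 2, 1, 1, 2, 0] : List ℕ), ([(5, 1, 0), (6, 1, 1), (5, 0, 0), (4, 2, 1), (5, 2, 2), (3, 3, 1), (5, 1, 4), (6, 1, 5), (7, 1, 6), (8, 1, 0), (9, 1, 1), (14, 1, 0), (15, 1, 1), (13, 6, 0), (14, 6, 2), (15, 6, 3), (16, 6, 4), (12, 5, 0), (13, 5, 2), (14, 5, 3), (11, 4, 0), (12, 4, 2), (10, 3, 0), (8, 0, 2), (10, 2, 3), (12, 3, 4), (14, 4, 5), (16, 5, 6), (18, 6, 6), (9, 0, 3), (2, 4, 1), (3, 4, 3), (5, 3, 5), (6, 3, 6), (7, 3, 2), (9, 2, 0), (11, 0, 4), (12, 0, 3), (13, 0, 5), (14, 0, 4), (15, 0, 6), (16, 0, 5), (17, 0, 0), (10, 2, 4), (8, 3, 0), (1, 5, 1), (2, 5, 3), (3, 5, 4), (5, 4, 6), (6, 4, 2), (7, 4, 0), (8, 4, 3), (10, 3, 2), (12, 2, 5), (13, 2, 4), (14, 2, 6), (15, 2, 5), (16, 2, 1), (17, 2, 2), (11, 3, 5), (9, 4, 2), (0, 6, 1), (1, 6, 3), (2, 6, 4), (3, 6, 5),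 (5, 5, 2), (6, 5, 0), (7, 5, 3), (8, 5, 2), (9, 5, 4), (11, 4, 3), (13, 3, 6), (14, 3, 5), (15, 3, 1), (17, 1, 4), (18, 1, 5), (19, 1, 6), (20, 1, 1), (19, 6, 6), (18, 5, 5), (17, 4, 4), (16, 3, 3), (15, 1, 2), (16, 1, 1), (14, 5, 2), (15, 5, 0), (13, 6, 2), (14, 6, 0), (15, 6, 5), (17, 5, 5), (12, 4, 2), (13, 4, 0), (10, 5, 3), (11, 5, 2), (12, 5, 0), (13, 5, 4), (15, 4, 6), (16, 4, 4), (8, 2, 4), (9, 2, 3), (11, 3, 0), (7, 3, 4), (9, 4, 2), (10, 4, 0), (11, 4, 3), (13, 3, 5), (14, 3, 6), (15, 3, 3), (6, 0, 4), (7, 0, 3), (8, 0, 2), (5, 2, 4), (6, 2, 3), (8, 3, 0), (9, 3, 2), (11, 2, 4), (12, 2, 5), (13, 2, 6), (14, 2, 2), (7, 2, 0), (9, 0, 3), (10, 0, 4), (11, 0, 5), (12, 0, 6), (13, 0, 1), (14, 0, 0), (13, 1, 1), (12, 6, 6), (11, 5, 5), (10, 4, 4), (9, 3, 3), (8, 2, 2), (7, 0, 1), (8, 0, 0), (4, 6,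 4), (5, 6, 3), (6, 6, 1), (7, 6, 6), (2, 4, 5), (4, 5, 3), (5, 5, 1), (6, 5, 5), (1, 3, 5), (2, 3, 4), (4, 4, 1), (5, 4, 4), (0, 1, 5), (1, 1, 4), (2, 1, 3), (4, 3, 3), (3, 1, 2), (4, 1, 1), (4, 0, 1), (5, 0, 0), (4, 1, 1), (3, 2, 2), (2, 3, 3), (1, 4, 4), (0, 5, 5)] : List (ℕ × Fin 7 × Fin 7)))]
def TE8 : List (Fin 8) := [0]
def certE8 : List (List ℕ × List (ℕ × Fin 8 × Fin 8)) :=
  [(([2] : List ℕ), ([] : List (ℕ × Fin 8 × Fin 8))),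
    (([1, 2, 1, 1, 2, 1, 1, 1, 2, 0, 0, 0, 2, 0, 0, 2, 0] : List ℕ), ([(7, 0, 0), (22, 0, 0), (45, 0, 0), (44, 1, 0), (45, 1, 1), (37, 0, 7), (38, 0, 6), (39, 0, 5), (40, 0, 4), (41, 0, 3), (42, 0, 2), (44, 2, 2), (35, 2, 1), (36, 2, 7), (37, 2, 6), (38, 2, 5), (39, 2, 4), (40, 2, 3), (42, 3, 0), (43, 3, 3), (28, 1, 0), (29, 1, 7), (30, 1, 6), (31, 1, 5), (32, 1, 4), (33, 1, 3), (35, 3, 7), (36, 3, 6), (37, 3, 5), (38, 3, 4), (40, 4, 2), (41, 4, 0), (42, 4, 4), (20, 2, 1), (21, 2, 7), (22, 2, 6), (23, 2, 5), (24, 2, 4), (25, 2, 3), (27, 3, 0), (28, 3, 7), (29, 3, 6), (30, 3, 5), (31, 3, 4), (33, 4, 1), (34, 4, 7), (35, 4, 6), (36, 4, 5), (38, 5, 3), (39, 5, 2), (40, 5, 0), (41, 5, 5), (13, 1, 0), (14, 1, 7), (15, 1, 6), (16, 1, 5), (17, 1, 4), (18, 1, 3), (20, 3, 7), (21, 3, 6), (22, 3, 5), (23, 3, 4),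 (25, 4, 2), (26, 4, 0), (27, 4, 7), (28, 4, 6), (29, 4, 5), (31, 5, 3), (32, 5, 1), (33, 5, 7), (34, 5, 6), (36, 6, 4), (37, 6, 3), (38, 6, 2), (39, 6, 0), (40, 6, 6), (5, 2, 1), (6, 2, 7), (7, 2, 6), (8, 2, 5), (9, 2, 4), (10, 2, 3), (12, 3, 0), (13, 3, 7), (14, 3, 6), (15, 3, 5), (16, 3, 4), (18, 4, 1), (19, 4, 7), (20, 4, 6), (21, 4, 5), (23, 5, 3), (24, 5, 2), (25, 5, 0), (26, 5, 7), (27, 5, 6), (29, 6, 4), (30, 6, 3), (31, 6, 1), (32, 6, 7), (34, 7, 5), (35, 7, 4), (36, 7, 3), (37, 7, 2), (38, 7, 0), (39, 7, 7), (38, 0, 0), (31, 1, 7), (32, 1, 6), (33, 1, 5), (34, 1, 4), (30, 3, 7), (31, 3, 6), (32, 3, 5), (29, 4, 7), (30, 4, 6), (28, 5, 7), (26, 7, 6), (28, 6, 5), (30, 5, 4), (32, 4, 3), (34, 3, 1), (36, 1, 2), (37, 1, 1), (36, 2, 2), (35, 3, 3), (33, 4, 1), (34, 4, 4), (31, 5, 3), (32, 5, 1), (33,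 5, 5), (29, 6, 4), (30, 6, 3), (31, 6, 1), (32, 6, 6), (27, 7, 5), (28, 7, 4), (29, 7, 3), (30, 7, 1), (31, 7, 7), (25, 0, 6), (26, 0, 5), (27, 0, 4), (28, 0, 3), (29, 0, 1), (30, 0, 0), (29, 1, 1), (24, 2, 6), (25, 2, 5), (26, 2, 4), (23, 3, 6), (24, 3, 5), (22, 4, 6), (20, 6, 5), (22, 5, 4), (24, 4, 3), (26, 3, 2), (28, 2, 2), (27, 3, 3), (25, 4, 2), (26, 4, 4), (23, 5, 3), (24, 5, 2), (25, 5, 5), (21, 6, 4), (22, 6, 3), (23, 6, 2), (24, 6, 6), (19, 7, 5), (20, 7, 4), (21, 7, 3), (22, 7, 2), (23, 7, 7), (23, 0, 0), (18, 1, 5), (19, 1, 4), (17, 3, 5), (15, 5, 4), (17, 4, 3), (19, 3, 1), (21, 1, 2), (22, 1, 1), (21, 2, 2), (20, 3, 3), (18, 4, 1), (19, 4, 4), (16, 5, 3), (17, 5, 1), (18, 5, 5), (14, 6, 4), (15, 6, 3), (16, 6, 1), (17, 6, 6), (13, 7, 4), (14, 7, 3), (15, 7, 1), (16, 7, 7), (12, 0, 4), (13,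 0, 3), (14, 0, 1), (15, 0, 0), (14, 1, 1), (11, 2, 4), (9, 4, 3), (11, 3, 2), (13, 2, 2), (12, 3, 3), (10, 4, 2), (11, 4, 4), (8, 5, 3), (9, 5, 2), (10, 5, 5), (7, 6, 3), (8, 6, 2), (9, 6, 6), (6, 7, 3), (7, 7, 2), (8, 7, 7), (8, 0, 0), (4, 3, 1), (6, 1, 2), (7, 1, 1), (6, 2, 2), (5, 3, 3), (3, 4, 1), (4, 4, 4), (2, 5, 1), (3, 5, 5), (1, 6, 1), (2, 6, 6), (0, 7, 1), (1, 7, 7)] : List (ℕ × Fin 8 × Fin 8))),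
    (([0, 2, 1] : List ℕ), ([(7, 7, 0), (8, 7, 7), (6, 6, 0), (7, 6, 6), (5, 5, 0), (6, 5, 5), (4, 4, 0), (5, 4, 4), (3, 3, 0), (4, 3, 3), (0, 0, 1), (1, 0, 2), (3, 2, 2), (0, 1, 2), (1, 1, 0), (2, 1, 1), (1, 0, 0)] : List (ℕ × Fin 8 × Fin 8))),
    (([0, 0, 0, 0, 2, 0, 0, 0, 2, 1, 1, 1, 2, 1, 1, 1, 1] : List ℕ), ([(32, 0, 0), (54, 7, 0), (55, 7, 7), (53, 6, 0), (54, 6, 6), (52, 5, 0), (53, 5, 5), (51, 4, 0), (52, 4, 4), (50, 3, 0), (51, 3, 3), (47, 0, 1), (48, 0, 2), (50, 2, 2), (47, 1, 2), (48, 1, 0), (49, 1, 1), (48, 0, 0), (46, 7, 2), (47, 7, 7), (45, 6, 2), (46, 6, 6), (44, 5, 2), (45, 5, 5), (43, 4, 2), (44, 4, 4), (41, 2, 3), (43, 3, 3), (42, 2, 2), (7, 7, 0), (8, 7, 1), (9, 7, 2), (10, 7, 3), (11, 7, 4), (12, 7, 5), (13, 7, 6), (15, 6, 0), (16, 6, 1), (17, 6, 2), (18, 6, 3), (19, 6, 4), (20, 6,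 5), (22, 5, 7), (23, 5, 0), (24, 5, 1), (25, 5, 2), (26, 5, 3), (27, 5, 4), (29, 4, 6), (30, 4, 7), (31, 4, 1), (32, 4, 2), (33, 4, 3), (35, 3, 5), (36, 3, 6), (37, 3, 7), (38, 3, 0), (39, 3, 1), (41, 1, 1), (38, 0, 1), (39, 0, 3), (40, 0, 0), (37, 7, 1), (38, 7, 3), (39, 7, 7), (36, 6, 1), (37, 6, 3), (38, 6, 6), (35, 5, 1), (36, 5, 3), (37, 5, 5), (34, 4, 1), (31, 1, 2), (32, 1, 3), (34, 3, 4), (36, 4, 4), (35, 3, 3), (6, 6, 0), (7, 6, 1), (8, 6, 2), (9, 6, 3), (10, 6, 4), (11, 6, 5), (13, 5, 7), (14, 5, 0), (15, 5, 1), (16, 5, 2), (17, 5, 3), (18, 5, 4), (20, 4, 6), (21, 4, 7), (22, 4, 0), (23, 4, 1), (24, 4, 2), (25, 4, 3), (27, 3, 5), (28, 3, 6), (29, 3, 7), (30, 3, 2), (32, 2, 1), (33, 2, 4), (34, 2, 2), (32, 1, 4), (33, 1, 1), (33, 0, 0), (29, 7, 2), (30, 7, 3), (31, 7, 4), (32, 7, 7), (28, 6, 2),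 (29, 6, 3), (30, 6, 4), (31, 6, 6), (27, 5, 2), (28, 5, 3), (26, 4, 2), (24, 2, 3), (26, 3, 4), (28, 4, 5), (30, 5, 5), (29, 4, 4), (27, 3, 5), (28, 3, 3), (25, 2, 4), (26, 2, 5), (27, 2, 2), (5, 5, 0), (6, 5, 1), (7, 5, 2), (8, 5, 3), (9, 5, 4), (11, 4, 6), (12, 4, 7), (13, 4, 0), (14, 4, 1), (15, 4, 2), (16, 4, 3), (18, 3, 5), (19, 3, 6), (20, 3, 7), (21, 3, 0), (22, 3, 1), (24, 1, 4), (25, 1, 5), (26, 1, 1), (21, 0, 1), (22, 0, 3), (23, 0, 4), (24, 0, 5), (25, 0, 0), (20, 7, 1), (21, 7, 3), (22, 7, 4), (23, 7, 5), (24, 7, 7), (19, 6, 1), (20, 6, 3), (21, 6, 4), (18, 5, 1), (19, 5, 3), (17, 4, 1), (14, 1, 2), (15, 1, 3), (17, 3, 4), (19, 4, 5), (21, 5, 6), (23, 6, 6), (22, 5, 5), (20, 4, 6), (21, 4, 4), (18, 3, 5), (19, 3, 6), (20, 3, 3), (4, 4, 0), (5, 4, 1), (6, 4, 2), (7, 4, 3), (9, 3, 5), (10, 3,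 6), (11, 3, 7), (12, 3, 0), (13, 3, 2), (15, 2, 1), (16, 2, 4), (17, 2, 5), (18, 2, 6), (19, 2, 2), (15, 1, 4), (16, 1, 5), (17, 1, 6), (18, 1, 1), (3, 3, 0), (1, 1, 2), (2, 1, 0), (3, 1, 3), (5, 3, 2), (7, 2, 4), (8, 2, 5), (9, 2, 6), (10, 2, 7), (11, 2, 0), (13, 0, 3), (14, 0, 4), (15, 0, 5), (16, 0, 6), (17, 0, 0), (10, 7, 0), (11, 7, 2), (12, 7, 3), (13, 7, 4), (14, 7, 5), (9, 6, 0), (10, 6, 2), (11, 6, 3), (12, 6, 4), (8, 5, 0), (9, 5, 2), (10, 5, 3), (7, 4, 0), (8, 4, 2), (6, 3, 0), (2, 0, 3), (3, 0, 1), (4, 0, 2), (6, 2, 3), (8, 3, 4), (10, 4, 5), (12, 5, 6), (14, 6, 7), (16, 7, 7), (15, 6, 6), (13, 5, 7), (14, 5, 5), (11, 4, 6), (12, 4, 7), (13, 4, 4), (9, 3, 5), (10, 3, 6), (11, 3, 7), (12, 3, 3), (7, 2, 4), (8, 2, 5), (9, 2, 6), (10, 2, 7), (11, 2, 2), (3, 1, 2), (4, 1, 0), (1, 2, 3), (3, 3,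 0), (4, 3, 1), (6, 1, 4), (7, 1, 5), (8, 1, 6), (9, 1, 7), (10, 1, 1), (3, 0, 1), (4, 0, 3), (5, 0, 4), (6, 0, 5), (7, 0, 6), (8, 0, 7), (9, 0, 0), (8, 7, 7), (7, 6, 6), (6, 5, 5), (5, 4, 4), (4, 3, 3), (2, 2, 1), (3, 2, 2), (2, 1, 1), (0, 0, 3), (1, 0, 0)] : List (ℕ × Fin 8 × Fin 8))),
    (([0, 0, 0, 0, 0, 2, 0, 0, 0, 2, 1, 1, 1, 2, 1, 1, 1, 1, 1] : List ℕ), ([(40, 0, 0), (62, 7, 0), (63, 7, 7), (61, 6, 0), (62, 6, 6), (60, 5, 0), (61, 5, 5), (59, 4, 0), (60, 4, 4), (58, 3, 0), (59, 3, 3), (55, 0, 1), (56, 0, 2), (58, 2, 2), (55, 1, 2), (56, 1, 0), (57, 1, 1), (56, 0, 0), (54, 7, 2), (55, 7, 7), (53, 6, 2), (54, 6, 6), (52, 5, 2), (53, 5, 5), (51, 4, 2), (52, 4, 4), (49, 2, 3), (51, 3, 3), (50, 2, 2), (15, 7, 0), (16, 7, 1), (17, 7, 2), (18, 7, 3), (19, 7, 4), (20, 7, 5), (21, 7, 6), (23, 6, 0), (24,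 6, 1), (25, 6, 2), (26, 6, 3), (27, 6, 4), (28, 6, 5), (30, 5, 7), (31, 5, 0), (32, 5, 1), (33, 5, 2), (34, 5, 3), (35, 5, 4), (37, 4, 6), (38, 4, 7), (39, 4, 1), (40, 4, 2), (41, 4, 3), (43, 3, 5), (44, 3, 6), (45, 3, 7), (46, 3, 0), (47, 3, 1), (49, 1, 1), (46, 0, 1), (47, 0, 3), (48, 0, 0), (45, 7, 1), (46, 7, 3), (47, 7, 7), (44, 6, 1), (45, 6, 3), (46, 6, 6), (43, 5, 1), (44, 5, 3), (45, 5, 5), (42, 4, 1), (39, 1, 2), (40, 1, 3), (42, 3, 4), (44, 4, 4), (43, 3, 3), (14, 6, 0), (15, 6, 1), (16, 6, 2), (17, 6, 3), (18, 6, 4), (19, 6, 5), (21, 5, 7), (22, 5, 0), (23, 5, 1), (24, 5, 2), (25, 5, 3), (26, 5, 4), (28, 4, 6), (29, 4, 7), (30, 4, 0), (31, 4, 1), (32, 4, 2), (33, 4, 3), (35, 3, 5), (36, 3, 6), (37, 3, 7), (38, 3, 2), (40, 2, 1), (41, 2, 4), (42, 2, 2), (40, 1, 4), (41, 1, 1), (41, 0, 0), (37,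 7, 2), (38, 7, 3), (39, 7, 4), (40, 7, 7), (36, 6, 2), (37, 6, 3), (38, 6, 4), (39, 6, 6), (35, 5, 2), (36, 5, 3), (34, 4, 2), (32, 2, 3), (34, 3, 4), (36, 4, 5), (38, 5, 5), (37, 4, 4), (35, 3, 5), (36, 3, 3), (33, 2, 4), (34, 2, 5), (35, 2, 2), (13, 5, 0), (14, 5, 1), (15, 5, 2), (16, 5, 3), (17, 5, 4), (19, 4, 6), (20, 4, 7), (21, 4, 0), (22, 4, 1), (23, 4, 2), (24, 4, 3), (26, 3, 5), (27, 3, 6), (28, 3, 7), (29, 3, 0), (30, 3, 1), (32, 1, 4), (33, 1, 5), (34, 1, 1), (29, 0, 1), (30, 0, 3), (31, 0, 4), (32, 0, 5), (33, 0, 0), (28, 7, 1), (29, 7, 3), (30, 7, 4), (31, 7, 5), (32, 7, 7), (27, 6, 1), (28, 6, 3), (29, 6, 4), (26, 5, 1), (27, 5, 3), (25, 4, 1), (22, 1, 2), (23, 1, 3), (25, 3, 4), (27, 4, 5), (29, 5, 6), (31, 6, 6), (30, 5, 5), (28, 4, 6), (29, 4, 4), (26, 3, 5), (27, 3, 6), (28, 3, 3), (12,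 4, 0), (13, 4, 1), (14, 4, 2), (15, 4, 3), (17, 3, 5), (18, 3, 6), (19, 3, 7), (20, 3, 0), (21, 3, 2), (23, 2, 1), (24, 2, 4), (25, 2, 5), (26, 2, 6), (27, 2, 2), (23, 1, 4), (24, 1, 5), (25, 1, 6), (26, 1, 1), (11, 3, 0), (9, 1, 2), (10, 1, 0), (11, 1, 3), (13, 3, 2), (15, 2, 4), (16, 2, 5), (17, 2, 6), (18, 2, 7), (19, 2, 0), (21, 0, 3), (22, 0, 4), (23, 0, 5), (24, 0, 6), (25, 0, 0), (18, 7, 0), (19, 7, 2), (20, 7, 3), (21, 7, 4), (22, 7, 5), (17, 6, 0), (18, 6, 2), (19, 6, 3), (20, 6, 4), (16, 5, 0), (17, 5, 2), (18, 5, 3), (15, 4, 0), (16, 4, 2), (14, 3, 0), (10, 0, 3), (11, 0, 1), (12, 0, 2), (14, 2, 3), (16, 3, 4), (18, 4, 5), (20, 5, 6), (22, 6, 7), (24, 7, 7), (23, 6, 6), (21, 5, 7), (22, 5, 5), (19, 4, 6), (20, 4, 7), (21, 4, 4), (17, 3, 5), (18, 3, 6), (19, 3, 7), (20, 3, 3), (15, 2, 4), (16,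 2, 5), (17, 2, 6), (18, 2, 7), (19, 2, 2), (11, 1, 2), (12, 1, 0), (9, 2, 3), (11, 3, 0), (12, 3, 1), (14, 1, 4), (15, 1, 5), (16, 1, 6), (17, 1, 7), (18, 1, 1), (11, 0, 1), (12, 0, 3), (13, 0, 4), (14, 0, 5), (15, 0, 6), (16, 0, 7), (17, 0, 0), (16, 7, 7), (15, 6, 6), (14, 5, 5), (13, 4, 4), (12, 3, 3), (10, 2, 1), (11, 2, 2), (10, 1, 1), (8, 0, 3), (9, 0, 0), (7, 7, 3), (8, 7, 7), (6, 6, 3), (7, 6, 6), (5, 5, 3), (6, 5, 5), (3, 3, 4), (5, 4, 4), (4, 3, 3), (2, 2, 4), (3, 2, 2), (1, 1, 4), (2, 1, 1), (0, 0, 4), (1, 0, 0)] : List (ℕ × Fin 8 × Fin 8))),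
    (([0, 0, 0, 0, 0, 0, 2, 0, 0, 0, 2, 1, 1, 1, 2, 1, 1, 1, 1, 1, 1] : List ℕ), ([(48, 0, 0), (47, 7, 1), (48, 7, 2), (49, 7, 3), (50, 7, 4), (51, 7, 5), (46, 6, 1), (47, 6, 2), (48, 6, 3), (49, 6, 4), (45, 5, 1), (46, 5, 2), (47, 5, 3), (44, 4, 1), (45, 4, 2), (41, 1, 2), (42, 1, 3), (7, 7, 0), (8, 7, 1), (9, 7, 2), (10, 7, 3), (11, 7, 4), (12, 7, 5), (13, 7, 6), (15, 6, 0), (16, 6, 1), (17, 6, 2), (18, 6, 3), (19, 6, 4), (20, 6, 5), (22, 5, 7), (23, 5, 0), (24, 5, 1), (25, 5, 2), (26, 5, 3), (27, 5, 4), (29, 4, 6), (30, 4, 7), (31, 4, 0), (32, 4, 1), (33, 4, 2), (34, 4, 3), (36, 3, 5), (37, 3, 6), (38, 3, 7), (39, 3, 0), (40, 3, 2), (42, 2, 1), (43, 2, 3), (45, 3, 4), (47, 4, 5), (49, 5, 6), (51, 6, 7), (53, 7, 7), (68, 7, 0), (69, 7, 7), (67, 6, 0), (68, 6, 6), (66, 5, 0), (67, 5, 5), (65, 4, 0), (66,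 4, 4), (64, 3, 0), (65, 3, 3), (61, 0, 1), (62, 0, 2), (64, 2, 2), (61, 1, 2), (62, 1, 0), (63, 1, 1), (62, 0, 0), (60, 7, 2), (61, 7, 7), (59, 6, 2), (60, 6, 6), (58, 5, 2), (59, 5, 5), (57, 4, 2), (58, 4, 4), (55, 2, 3), (57, 3, 3), (56, 2, 2), (46, 3, 5), (22, 7, 0), (23, 7, 1), (24, 7, 2), (25, 7, 3), (26, 7, 4), (27, 7, 5), (28, 7, 6), (30, 6, 0), (31, 6, 1), (32, 6, 2), (33, 6, 3), (34, 6, 4), (35, 6, 5), (37, 5, 7), (38, 5, 0), (39, 5, 2), (40, 5, 3), (41, 5, 1), (42, 5, 3), (43, 5, 2), (44, 5, 4), (46, 4, 3), (48, 3, 6), (49, 3, 5), (50, 3, 7), (51, 3, 6), (52, 3, 0), (53, 3, 1), (55, 1, 1), (52, 0, 1), (53, 0, 3), (54, 0, 0), (51, 6, 1), (52, 6, 3), (50, 7, 1), (51, 7, 3), (52, 7, 6), (54, 6, 6), (49, 5, 1), (50, 5, 3), (48, 6, 1), (49, 6, 3), (50, 6, 5), (52, 5, 7), (53, 5, 5), (47, 4, 1), (40,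 3, 1), (42, 1, 2), (43, 1, 4), (44, 1, 5), (45, 1, 3), (47, 3, 4), (44, 5, 3), (45, 5, 1), (39, 2, 1), (40, 2, 3), (42, 3, 4), (44, 4, 1), (45, 4, 5), (47, 5, 3), (48, 5, 4), (50, 4, 6), (51, 4, 7), (52, 4, 4), (46, 4, 3), (48, 3, 5), (49, 3, 6), (50, 3, 7), (51, 3, 3), (41, 2, 4), (21, 6, 0), (22, 6, 1), (23, 6, 2), (24, 6, 3), (25, 6, 4), (26, 6, 5), (28, 5, 7), (29, 5, 0), (30, 5, 1), (31, 5, 2), (32, 5, 3), (33, 5, 4), (35, 4, 6), (36, 4, 7), (37, 4, 0), (38, 4, 1), (39, 4, 3), (41, 3, 2), (43, 2, 1), (44, 2, 5), (20, 5, 0), (21, 5, 1), (22, 5, 2), (23, 5, 3), (24, 5, 4), (26, 4, 6), (27, 4, 7), (28, 4, 0), (29, 4, 1), (30, 4, 2), (31, 4, 3), (33, 3, 5), (34, 3, 6), (35, 3, 7), (36, 3, 0), (37, 3, 1), (39, 1, 4), (40, 1, 2), (41, 1, 3), (43, 3, 5), (44, 3, 2), (46, 2, 4), (47, 2, 5), (48, 2, 6), (49,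 2, 7), (50, 2, 2), (42, 1, 5), (43, 1, 2), (41, 3, 5), (40, 2, 5), (41, 2, 3), (43, 3, 1), (45, 1, 4), (46, 1, 5), (47, 1, 6), (48, 1, 7), (49, 1, 1), (49, 0, 0), (48, 7, 7), (47, 6, 6), (46, 5, 5), (45, 4, 4), (44, 3, 3), (42, 2, 1), (43, 2, 2), (42, 1, 1), (36, 0, 1), (37, 0, 3), (38, 0, 4), (39, 0, 5), (40, 0, 3), (41, 0, 0), (35, 7, 1), (36, 7, 3), (37, 7, 4), (38, 7, 5), (39, 7, 3), (40, 7, 7), (34, 6, 1), (35, 6, 3), (36, 6, 4), (33, 5, 1), (34, 5, 3), (32, 4, 1), (29, 1, 2), (30, 1, 3), (32, 3, 4), (34, 4, 5), (36, 5, 6), (38, 6, 3), (39, 6, 6), (37, 5, 3), (38, 5, 5), (35, 4, 6), (33, 3, 5), (34, 3, 6), (35, 3, 4), (37, 4, 4), (36, 3, 3), (19, 4, 0), (20, 4, 1), (21, 4, 2), (22, 4, 3), (24, 3, 5), (25, 3, 6), (26, 3, 7), (27, 3, 0), (28, 3, 2), (30, 2, 1), (31, 2, 4), (32, 2, 5), (33, 2, 6), (34,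 2, 4), (35, 2, 2), (30, 1, 4), (31, 1, 5), (32, 1, 6), (33, 1, 4), (34, 1, 1), (18, 3, 0), (16, 1, 2), (17, 1, 0), (18, 1, 3), (20, 3, 2), (22, 2, 4), (23, 2, 5), (24, 2, 6), (25, 2, 7), (26, 2, 0), (28, 0, 3), (29, 0, 4), (30, 0, 5), (31, 0, 6), (32, 0, 4), (33, 0, 0), (25, 7, 0), (26, 7, 2), (27, 7, 3), (28, 7, 4), (29, 7, 5), (24, 6, 0), (25, 6, 2), (26, 6, 3), (27, 6, 4), (23, 5, 0), (24, 5, 2), (25, 5, 3), (22, 4, 0), (23, 4, 2), (21, 3, 0), (17, 0, 3), (18, 0, 1), (19, 0, 2), (21, 2, 3), (23, 3, 4), (25, 4, 5), (27, 5, 6), (29, 6, 7), (31, 7, 4), (32, 7, 7), (30, 6, 4), (31, 6, 6), (28, 5, 7), (26, 4, 6), (27, 4, 7), (28, 4, 5), (30, 5, 5), (29, 4, 4), (24, 3, 5), (25, 3, 6), (26, 3, 7), (27, 3, 5), (28, 3, 3), (22, 2, 4), (23, 2, 5), (24, 2, 6), (25, 2, 7), (26, 2, 5), (27, 2, 2), (18, 1, 2), (19,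 1, 0), (16, 2, 3), (18, 3, 0), (19, 3, 1), (21, 1, 4), (22, 1, 5), (23, 1, 6), (24, 1, 7), (25, 1, 5), (26, 1, 1), (18, 0, 1), (19, 0, 3), (20, 0, 4), (21, 0, 5), (22, 0, 6), (23, 0, 7), (24, 0, 5), (25, 0, 0), (23, 7, 5), (24, 7, 7), (21, 5, 6), (23, 6, 6), (22, 5, 5), (20, 4, 6), (21, 4, 4), (19, 3, 6), (20, 3, 3), (17, 2, 1), (18, 2, 6), (19, 2, 2), (17, 1, 6), (18, 1, 1), (15, 0, 3), (16, 0, 6), (17, 0, 0), (14, 7, 3), (13, 6, 3), (14, 6, 7), (16, 7, 7), (15, 6, 6), (12, 5, 3), (13, 5, 7), (14, 5, 5), (10, 3, 4), (12, 4, 7), (13, 4, 4), (11, 3, 7), (12, 3, 3), (9, 2, 4), (10, 2, 7), (11, 2, 2), (8, 1, 4), (9, 1, 7), (10, 1, 1), (7, 0, 4), (8, 0, 7), (9, 0, 0), (8, 7, 7), (6, 6, 4), (7, 6, 6), (4, 4, 5), (6, 5, 5), (5, 4, 4), (3, 3, 5), (4, 3, 3), (2, 2, 5), (3, 2, 2), (1, 1, 5), (2, 1, 1), (0, 0, 5),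 (1, 0, 0)] : List (ℕ × Fin 8 × Fin 8))),
    (([1, 1, 1, 1, 1, 2, 1, 1, 1, 2, 0, 0, 0, 2, 0, 0, 0, 0, 0] : List ℕ), ([(39, 0, 0), (54, 0, 7), (55, 0, 6), (56, 0, 5), (57, 0, 4), (58, 0, 3), (52, 2, 1), (53, 2, 7), (54, 2, 6), (55, 2, 5), (56, 2, 4), (45, 1, 0), (46, 1, 7), (47, 1, 6), (48, 1, 5), (49, 1, 4), (50, 1, 3), (52, 3, 7), (53, 3, 6), (54, 3, 5), (37, 2, 1), (38, 2, 7), (39, 2, 6), (40, 2, 5), (41, 2, 4), (42, 2, 3), (44, 3, 0), (45, 3, 7), (46, 3, 6), (47, 3, 5), (48, 3, 4), (50, 4, 1), (51, 4, 7), (52, 4, 6), (30, 1, 0), (31, 1, 7), (32, 1, 6), (33, 1, 5), (34, 1, 4), (35, 1, 3), (37, 3, 7), (38, 3, 6), (39, 3, 5), (40, 3, 4), (42, 4, 2), (43, 4, 0), (44, 4, 7), (45, 4, 6), (46, 4, 5), (48, 5, 3), (49, 5, 1), (50, 5, 7), (21, 2, 1), (15, 0, 7), (16, 0, 6), (17, 0, 5), (18, 0, 4), (19, 0, 3),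 (20, 0, 1), (21, 0, 2), (23, 2, 7), (24, 2, 6), (25, 2, 5), (26, 2, 4), (27, 2, 3), (29, 3, 0), (30, 3, 7), (31, 3, 6), (32, 3, 5), (33, 3, 4), (35, 4, 1), (36, 4, 7), (37, 4, 6), (38, 4, 5), (40, 5, 3), (41, 5, 2), (42, 5, 0), (43, 5, 7), (44, 5, 6), (46, 6, 4), (47, 6, 3), (48, 6, 1), (14, 1, 7), (15, 1, 6), (16, 1, 5), (17, 1, 4), (18, 1, 3), (13, 2, 7), (14, 2, 6), (15, 2, 5), (16, 2, 4), (12, 3, 7), (13, 3, 6), (14, 3, 5), (11, 4, 7), (12, 4, 6), (10, 5, 7), (8, 7, 6), (10, 6, 5), (12, 5, 4), (14, 4, 3), (16, 3, 2), (18, 2, 1), (19, 2, 3), (21, 3, 0), (22, 3, 7), (23, 3, 6), (24, 3, 5), (25, 3, 4), (27, 4, 2), (28, 4, 0), (29, 4, 7), (30, 4, 6), (31, 4, 5), (33, 5, 3), (34, 5, 1), (35, 5, 7), (36, 5, 6), (38, 6, 4), (39, 6, 3), (40, 6, 2), (41, 6, 0), (42, 6, 7), (44, 7, 5), (45, 7, 4), (46, 7, 3),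 (47, 7, 1), (48, 7, 6), (50, 6, 5), (52, 5, 4), (54, 4, 3), (56, 3, 2), (58, 2, 0), (60, 0, 1), (61, 0, 0), (61, 0, 0), (60, 1, 1), (59, 2, 2), (57, 3, 0), (58, 3, 3), (55, 4, 2), (56, 4, 0), (57, 4, 4), (53, 5, 3), (54, 5, 2), (55, 5, 0), (56, 5, 5), (51, 6, 4), (52, 6, 3), (53, 6, 2), (54, 6, 0), (55, 6, 6), (49, 7, 5), (50, 7, 4), (51, 7, 3), (52, 7, 2), (53, 7, 0), (54, 7, 7), (53, 0, 0), (47, 1, 6), (48, 1, 5), (49, 1, 4), (46, 3, 6), (47, 3, 5), (45, 4, 6), (43, 6, 5), (45, 5, 4), (47, 4, 3), (49, 3, 1), (51, 1, 2), (52, 1, 1), (51, 2, 2), (50, 3, 3), (48, 4, 1), (49, 4, 4), (46, 5, 3), (47, 5, 1), (48, 5, 5), (44, 6, 4), (45, 6, 3), (46, 6, 1), (47, 6, 6), (42, 7, 5), (43, 7, 4), (44, 7, 3), (45, 7, 1), (46, 7, 7), (41, 0, 5), (42, 0, 4), (43, 0, 3), (44, 0, 1), (45, 0, 0), (44, 1, 1), (40, 2, 5),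 (41, 2, 4), (39, 3, 5), (37, 5, 4), (39, 4, 3), (41, 3, 2), (43, 2, 2), (42, 3, 3), (40, 4, 2), (41, 4, 4), (38, 5, 3), (39, 5, 2), (40, 5, 5), (36, 6, 4), (37, 6, 3), (38, 6, 2), (39, 6, 6), (35, 7, 4), (36, 7, 3), (37, 7, 2), (38, 7, 7), (38, 0, 0), (34, 1, 4), (32, 4, 3), (34, 3, 1), (36, 1, 2), (37, 1, 1), (36, 2, 2), (35, 3, 3), (33, 4, 1), (34, 4, 4), (31, 5, 3), (32, 5, 1), (33, 5, 5), (30, 6, 3), (31, 6, 1), (32, 6, 6), (29, 7, 3), (30, 7, 1), (31, 7, 7), (28, 0, 3), (29, 0, 1), (30, 0, 0), (29, 1, 1), (26, 3, 2), (28, 2, 2), (27, 3, 3), (25, 4, 2), (26, 4, 4), (24, 5, 2), (25, 5, 5), (23, 6, 2), (24, 6, 6), (22, 7, 2), (23, 7, 7), (20, 2, 0), (22, 0, 0), (17, 3, 1), (19, 1, 0), (20, 1, 2), (21, 1, 1), (20, 2, 2), (18, 3, 0), (19, 3, 3), (15, 4, 2), (16, 4, 1), (17, 4, 0), (18, 4, 4), (13, 5, 3),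 (14, 5, 2), (15, 5, 1), (16, 5, 0), (17, 5, 5), (11, 6, 4), (12, 6, 3), (13, 6, 2), (14, 6, 1), (15, 6, 0), (16, 6, 6), (9, 7, 5), (10, 7, 4), (11, 7, 3), (12, 7, 2), (13, 7, 1), (14, 7, 0), (15, 7, 7), (14, 0, 0), (13, 1, 1), (12, 2, 2), (11, 3, 3), (10, 4, 4), (9, 5, 5), (8, 6, 6), (7, 0, 7), (8, 0, 0), (6, 1, 7), (7, 1, 1), (5, 2, 7), (6, 2, 2), (4, 3, 7), (5, 3, 3), (3, 4, 7), (4, 4, 4), (2, 5, 7), (3, 5, 5), (0, 7, 6), (2, 6, 6), (1, 7, 7)] : List (ℕ × Fin 8 × Fin 8))),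
    (([1, 1, 1, 1, 2, 1, 1, 1, 2, 0, 0, 0, 2, 0, 0, 0, 0] : List ℕ), ([(31, 0, 0), (46, 0, 7), (47, 0, 6), (48, 0, 5), (49, 0, 4), (50, 0, 3), (44, 2, 1), (45, 2, 7), (46, 2, 6), (47, 2, 5), (48, 2, 4), (37, 1, 0), (38, 1, 7), (39, 1, 6), (40, 1, 5), (41, 1, 4), (42, 1, 3), (44, 3, 7), (45, 3, 6), (46, 3, 5), (29, 2, 1), (30, 2, 7), (31, 2, 6), (32, 2, 5), (33, 2, 4), (34, 2, 3), (36, 3, 0), (37, 3, 7), (38, 3, 6), (39, 3, 5), (40, 3, 4), (42, 4, 1), (43, 4, 7), (44, 4, 6), (22, 1, 0), (23, 1, 7), (24, 1, 6), (25, 1, 5), (26, 1, 4), (27, 1, 3), (29, 3, 7), (30, 3, 6), (31, 3, 5), (32, 3, 4), (34, 4, 2), (35, 4, 0), (36, 4, 7), (37, 4, 6), (38, 4, 5), (40, 5, 3), (41, 5, 1), (42, 5, 7), (13, 2, 1), (7, 0, 7), (8, 0, 6), (9, 0, 5), (10, 0, 4), (11, 0, 3), (12, 0, 1), (13, 0, 2), (15, 2, 7), (16, 2, 6), (17,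 2, 5), (18, 2, 4), (19, 2, 3), (21, 3, 0), (22, 3, 7), (23, 3, 6), (24, 3, 5), (25, 3, 4), (27, 4, 1), (28, 4, 7), (29, 4, 6), (30, 4, 5), (32, 5, 3), (33, 5, 2), (34, 5, 0), (35, 5, 7), (36, 5, 6), (38, 6, 4), (39, 6, 3), (40, 6, 1), (6, 1, 7), (7, 1, 6), (8, 1, 5), (9, 1, 4), (10, 1, 3), (5, 2, 7), (6, 2, 6), (7, 2, 5), (8, 2, 4), (4, 3, 7), (5, 3, 6), (6, 3, 5), (3, 4, 7), (4, 4, 6), (2, 5, 7), (0, 7, 6), (2, 6, 5), (4, 5, 4), (6, 4, 3), (8, 3, 2), (10, 2, 1), (11, 2, 3), (13, 3, 0), (14, 3, 7), (15, 3, 6), (16, 3, 5), (17, 3, 4), (19, 4, 2), (20, 4, 0), (21, 4, 7), (22, 4, 6), (23, 4, 5), (25, 5, 3), (26, 5, 1), (27, 5, 7), (28, 5, 6), (30, 6, 4), (31, 6, 3), (32, 6, 2), (33, 6, 0), (34, 6, 7), (36, 7, 5), (37, 7, 4), (38, 7, 3), (39, 7, 1), (40, 7, 6), (42, 6, 5), (44, 5, 4), (46, 4, 3), (48, 3, 2),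 (50, 2, 0), (52, 0, 1), (53, 0, 0), (53, 0, 0), (52, 1, 1), (51, 2, 2), (49, 3, 0), (50, 3, 3), (47, 4, 2), (48, 4, 0), (49, 4, 4), (45, 5, 3), (46, 5, 2), (47, 5, 0), (48, 5, 5), (43, 6, 4), (44, 6, 3), (45, 6, 2), (46, 6, 0), (47, 6, 6), (41, 7, 5), (42, 7, 4), (43, 7, 3), (44, 7, 2), (45, 7, 0), (46, 7, 7), (45, 0, 0), (39, 1, 6), (40, 1, 5), (41, 1, 4), (38, 3, 6), (39, 3, 5), (37, 4, 6), (35, 6, 5), (37, 5, 4), (39, 4, 3), (41, 3, 1), (43, 1, 2), (44, 1, 1), (43, 2, 2), (42, 3, 3), (40, 4, 1), (41, 4, 4), (38, 5, 3), (39, 5, 1), (40, 5, 5), (36, 6, 4), (37, 6, 3), (38, 6, 1), (39, 6, 6), (34, 7, 5), (35, 7, 4), (36, 7, 3), (37, 7, 1), (38, 7, 7), (33, 0, 5), (34, 0, 4), (35, 0, 3), (36, 0, 1), (37, 0, 0), (36, 1, 1), (32, 2, 5), (33, 2, 4), (31, 3, 5), (29, 5, 4), (31, 4, 3), (33, 3, 2), (35, 2, 2),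 (34, 3, 3), (32, 4, 2), (33, 4, 4), (30, 5, 3), (31, 5, 2), (32, 5, 5), (28, 6, 4), (29, 6, 3), (30, 6, 2), (31, 6, 6), (27, 7, 4), (28, 7, 3), (29, 7, 2), (30, 7, 7), (30, 0, 0), (26, 1, 4), (24, 4, 3), (26, 3, 1), (28, 1, 2), (29, 1, 1), (28, 2, 2), (27, 3, 3), (25, 4, 1), (26, 4, 4), (23, 5, 3), (24, 5, 1), (25, 5, 5), (22, 6, 3), (23, 6, 1), (24, 6, 6), (21, 7, 3), (22, 7, 1), (23, 7, 7), (20, 0, 3), (21, 0, 1), (22, 0, 0), (21, 1, 1), (18, 3, 2), (20, 2, 2), (19, 3, 3), (17, 4, 2), (18, 4, 4), (16, 5, 2), (17, 5, 5), (15, 6, 2), (16, 6, 6), (14, 7, 2), (15, 7, 7), (12, 2, 0), (14, 0, 0), (9, 3, 1), (11, 1, 0), (12, 1, 2), (13, 1, 1), (12, 2, 2), (10, 3, 0), (11, 3, 3), (7, 4, 2), (8, 4, 1), (9, 4, 0), (10, 4, 4), (5, 5, 3), (6, 5, 2), (7, 5, 1), (8, 5, 0), (9, 5, 5), (3, 6, 4), (4, 6, 3), (5, 6, 2),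 (6, 6, 1), (7, 6, 0), (8, 6, 6), (1, 7, 5), (2, 7, 4), (3, 7, 3), (4, 7, 2), (5, 7, 1), (6, 7, 0), (7, 7, 7), (6, 0, 0), (5, 1, 1), (4, 2, 2), (3, 3, 3), (2, 4, 4), (1, 5, 5), (0, 6, 6)] : List (ℕ × Fin 8 × Fin 8)))]


theorem okE8 : check CoxeterMatrix.E₈ [0] certE8 = true := by decide +kernel

/-- The Coxeter groups of types B₂, G₂, E₆, E₇, E₈ are generated by the Coxeter element `s₁ s₂ ⋯ s_l` together with one suitable reflection (a conjugate of a simple reflection); for types D₄ and F₄ the Coxeter element together with two suitable reflections suffices. -/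
theorem result (c : (Σ n : ℕ, CoxeterMatrix (Fin n)) × ℕ)
    (hc : c ∈ [(⟨2, CoxeterMatrix.B 2⟩, 1), (⟨2, CoxeterMatrix.G₂⟩, 1), (⟨4, Cfsg.Lie.coxeterD4⟩, 2), (⟨4, CoxeterMatrix.F₄⟩, 2),
      (⟨6, CoxeterMatrix.E₆⟩, 1), (⟨7, CoxeterMatrix.E₇⟩, 1), (⟨8, CoxeterMatrix.E₈⟩, 1)]) :
    ∃ T : Finset c.1.2.Group, T.card = c.2 ∧ (∀ t ∈ T, ∃ (g : c.1.2.Group) (i : Fin c.1.1), t = g * c.1.2.simple i * g⁻¹) ∧
      Subgroup.closure (({((List.finRange c.1.1).map c.1.2.simple).prod} : Set c.1.2.Group) ∪ ↑T) = ⊤ := by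
  simp only [List.mem_cons, List.not_mem_nil, or_false] at hc
  rcases hc with rfl | rfl | rfl | rfl | rfl | rfl | rfl
  · exact one_refl _ 0 certB2 (by decide +kernel)
  · exact one_refl _ 0 certG2 (by decide +kernel)
  · exact two_refl _ 0 3 certD4 (by decide +kernel)
      ![Equiv.swap (0 : Fin 4) 1, Equiv.swap 1 2, Equiv.swap 0 1, Equiv.swap 2 3]
      (by unfold CoxeterMatrix.IsLiftable; decide +kernel) (by decide +kernel)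
  · exact two_refl _ 0 2 certF4 (by decide +kernel)
      ![Equiv.swap (0 : Fin 2) 1, Equiv.swap 0 1, 1, 1]
      (by unfold CoxeterMatrix.IsLiftable; decide +kernel) (by decide +kernel)
  · exact one_refl _ 0 certE6 (by decide +kernel)
  · exact one_refl _ 1 certE7 (by decide +kernel)
  · exact one_refl _ 0 certE8 okE8

end Cfsg.Agent.S2419
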