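import Cfsg.Statements.S2425
import Cfsg.Agent.Lib.FlagChar.Steinberg
import Cfsg.Agent.Lib.Semisimple.Basic

set_option autoImplicit false
open scoped MatrixGroups
open Cfsg

namespace Cfsg.Agent.S2425

/-- Values of the Steinberg character of `GL_n(q)` (the partition-indexed character for `ν = (1,…,1)`, of degree `q^(n(n−1)/2)`) at elements of order prime to the characteristic: if the characteristic polynomial of such an element is `∏ f^(m_f)` over distinct monic irreducible `f`, the value is `∏_f (−1)^((deg f − 1) m_f) q^(deg f · m_f (m_f − 1)/2)`. (At elements of order divisible by the characteristic the value is 0; that is not part of this statement.) -/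
theorem result {F : Type*} [Field F] [Fintype F] [DecidableEq F] {q : ℕ} (hq : Fintype.card F = q) (p : ℕ) [Fact p.Prime] [CharP F p]
    {n : ℕ} (x : GL (Fin n) F) (hx : (orderOf x).Coprime p) :
    Cfsg.unipotentCharacterGL n F (fun _ => 1) x =
      ∏ f ∈ (UniqueFactorizationMonoid.normalizedFactors (x : Matrix (Fin n) (Fin n) F).charpoly).toFinset,
        (-1 : ℂ) ^ ((f.natDegree - 1) * (UniqueFactorizationMonoid.normalizedFactors (x : Matrix (Fin n) (Fin n) F).charpoly).count f) *
          (q : ℂ) ^ (f.natDegree * (UniqueFactorizationMonoid.normalizedFactors (x : Matrix (Fin n) (Fin n) F).charpoly).count f *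
            ((UniqueFactorizationMonoid.normalizedFactors (x : Matrix (Fin n) (Fin n) F).charpoly).count f - 1) / 2) := by
  classical
  open Polynomial UniqueFactorizationMonoid in
  subst hq
  rcases n with - | m
  · have h1 : (x : Matrix (Fin 0) (Fin 0) F).charpoly = 1 := Matrix.charpoly_isEmpty ..
    rw [h1, normalizedFactors_one, Cfsg.unipotentCharacterGL, Fintype.sum_subsingleton _ 1, if_pos fun i => i.elim0,
      Cfsg.fixedPointCharacter]
    have : Subsingleton (GL (Fin 0) F) := ⟨fun a b => Units.ext (Subsingleton.elim _ _)⟩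
    have h2 : Nat.card (MulAction.fixedBy (GL (Fin 0) F ⧸ parabolicGL 0 F fun i => 1 + i.val - ((1 : Equiv.Perm (Fin 0)) i).val) x) = 1 := by
      rw [Nat.card_eq_one_iff_unique]
      exact ⟨⟨fun a b => Subtype.ext (Subsingleton.elim _ _)⟩, ⟨⟨(1 : GL (Fin 0) F), Subsingleton.elim _ _⟩⟩⟩
    rw [h2]
    simp
  · rw [Agent.FlagChar.Steinberg.value_eq m x]
    set M := (x : Matrix (Fin (m + 1)) (Fin (m + 1)) F)
    set f := Matrix.toLin' M
    have hss : Agent.Semisimple.SS (K := F) f :=
      (Agent.Semisimple.ss_of_coprime p (Units.coeHom (Matrix (Fin (m + 1)) (Fin (m + 1)) F)) hx).map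
        (Matrix.toLinAlgEquiv' : Matrix (Fin (m + 1)) (Fin (m + 1)) F ≃ₐ[F] _).toAlgHom
    rw [Agent.Semisimple.mu_eq f hss ⊤ fun v _ => trivial]
    have hch : (f.restrict (p := ⊤) (q := ⊤) fun v _ => trivial).charpoly = M.charpoly := by
      rw [← Matrix.charpoly_toLin', ← LinearEquiv.charpoly_conj
        (Submodule.topEquiv : (⊤ : Submodule F (Fin (m + 1) → F)) ≃ₗ[F] _)]
      congr 1
    rw [hch, Agent.Semisimple.muVal]
    set s := normalizedFactors M.charpoly with hs
    have hirr : ∀ g ∈ s, Irreducible g := fun g hg => irreducible_of_normalized_factor g hg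
    have hmon : ∀ g ∈ s, g.Monic := fun g hg => by
      rw [← normalize_normalized_factor g hg]
      exact Polynomial.monic_normalize (hirr g hg).ne_zero
    have hdeg : ∑ g ∈ s.toFinset, s.count g * g.natDegree = m + 1 := by
      have h0 := M.charpoly_monic.ne_zero
      have hprod : s.prod = M.charpoly :=
        Polynomial.eq_of_monic_of_associated (by simpa using monic_multiset_prod_of_monic s (fun g => g) hmon) M.charpoly_monic (prod_normalizedFactors h0)
      have h1 := congrArg Polynomial.natDegree hprod
      rw [Matrix.charpoly_natDegree_eq_dim, Fintype.card_fin, natDegree_multiset_prod_of_monic _ hmon,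
        Finset.sum_multiset_map_count] at h1
      simpa using h1
    rw [← hdeg, ← Finset.prod_pow_eq_pow_sum]
    push_cast
    rw [← Finset.prod_mul_distrib]
    refine Finset.prod_congr rfl fun g hg => ?_
    have hd := (hirr g (Multiset.mem_toFinset.1 hg)).natDegree_pos
    rw [← mul_assoc, ← pow_add, Nat.choose_two_right, ← Nat.mul_div_assoc g.natDegree (Nat.even_mul_pred_self _).two_dvd, ← mul_assoc g.natDegree]
    congr 1
    obtain ⟨d, hd'⟩ : ∃ d, g.natDegree = d + 1 := ⟨g.natDegree - 1, by omega⟩
    rw [hd', Nat.add_sub_cancel, show s.count g * (d + 1) + s.count g = d * s.count g + 2 * s.count g by ring,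
      pow_add, pow_mul (-1 : ℂ) 2, neg_one_sq, one_pow, mul_one]

end Cfsg.Agent.S2425
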