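import Cfsg.Statements.S2426
import Cfsg.Agent.Lib.SL2Presentation.Steinberg
import Cfsg.Agent.Lib.PSL2.Basic

set_option autoImplicit false
open Cfsg

namespace Cfsg.Agent.S2426

/-- The rank-one Steinberg presentation of `SL₂` over a finite field `K`: generators `x(t)`, `y(t)` (`t ∈ K`; the two opposite root subgroups) subject to additivity `x(t)x(u) = x(t+u)`, `y(t)y(u) = y(t+u)` and, with `w(t) = x(t) y(−t⁻¹) x(t)` and `w'(t) = y(t) x(−t⁻¹) y(t)` for `t ≠ 0`, the relations `w(t) x(u) w(t)⁻¹ = y(−t⁻² u)` and `w'(t) y(u) w'(t)⁻¹ = x(−t⁻² u)`, present `SL₂(K)`, with `x(t) ↦ (1 t; 0 1)` and `y(t) ↦ (1 0; t 1)`. -/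
theorem result {K : Type*} [Field K] [Finite K] :
    ∃ e : PresentedGroup
        ({g : FreeGroup (Bool × K) | ∃ (b : Bool) (t u : K), g = FreeGroup.of (b, t) * FreeGroup.of (b, u) * (FreeGroup.of (b, t + u))⁻¹} ∪
          {g | ∃ (b : Bool) (t u : K), t ≠ 0 ∧
            g = (FreeGroup.of (b, t) * FreeGroup.of (!b, -t⁻¹) * FreeGroup.of (b, t)) * FreeGroup.of (b, u) *
                  (FreeGroup.of (b, t) * FreeGroup.of (!b, -t⁻¹) * FreeGroup.of (b, t))⁻¹ * (FreeGroup.of (!b, -(t⁻¹ ^ 2 * u)))⁻¹})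
        ≃* Matrix.SpecialLinearGroup (Fin 2) K,
      (∀ t : K, ((e (PresentedGroup.of (true, t)) : Matrix (Fin 2) (Fin 2) K)) = !![1, t; 0, 1]) ∧
      (∀ t : K, ((e (PresentedGroup.of (false, t)) : Matrix (Fin 2) (Fin 2) K)) = !![1, 0; t, 1]) := by
  classical
  haveI := Fintype.ofFinite K
  set R : Set (FreeGroup (Bool × K)) := _ ∪ _ with hR
  set f : Bool × K → Matrix.SpecialLinearGroup (Fin 2) K := fun bt => if bt.1 then PSL2.uu bt.2 else PSL2.ll bt.2
    with hf
  have hrel : ∀ r ∈ R, FreeGroup.lift f r = 1 := by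
    rintro r (⟨b, t, u, rfl⟩ | ⟨b, t, u, ht, rfl⟩)
    · rw [map_mul, map_mul, map_inv, FreeGroup.lift_apply_of, FreeGroup.lift_apply_of, FreeGroup.lift_apply_of,
        mul_inv_eq_one]
      cases b
      · simpa [hf] using PSL2.ll_mul_ll t u
      · simpa [hf] using PSL2.uu_mul_uu t u
    · simp only [map_mul, map_inv, FreeGroup.lift_apply_of]
      rw [mul_inv_eq_one, mul_inv_eq_iff_eq_mul]
      cases b <;>
      · simp only [hf, Bool.not_false, Bool.not_true, if_true, Bool.false_eq_true, if_false]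
        apply PSL2.ext2 <;> simp only [PSL2.mul00, PSL2.mul01, PSL2.mul10, PSL2.mul11] <;> simp <;> field_simp <;> first | ring1 | simp [ht] | (ring_nf; simp [ht])
  set φ := PresentedGroup.toGroup (f := f) hrel
  have hφ : ∀ b t, φ (PresentedGroup.of (b, t)) = f (b, t) := fun b t => PresentedGroup.toGroup.of hrel
  have hone : ∀ r ∈ R, PresentedGroup.mk R r = 1 := fun r hr => PresentedGroup.one_of_mem hr
  let S : SL2Presentation.Stein K (PresentedGroup R) :=
    { x := fun t => PresentedGroup.of (true, t)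
      y := fun t => PresentedGroup.of (false, t)
      x_add := fun a b => (mul_inv_eq_one.1 (hone _ (Or.inl ⟨true, a, b, rfl⟩))).symm
      y_add := fun a b => (mul_inv_eq_one.1 (hone _ (Or.inl ⟨false, a, b, rfl⟩))).symm
      rel := fun t u ht => mul_inv_eq_one.1 (hone _ (Or.inr ⟨true, t, u, ht, rfl⟩))
      gen := by
        rw [eq_top_iff, ← PresentedGroup.closure_range_of R, Subgroup.closure_le]
        rintro _ ⟨⟨b, t⟩, rfl⟩
        refine Subgroup.subset_closure ?_
        cases b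
        · exact Or.inr ⟨t, rfl⟩
        · exact Or.inl ⟨t, rfl⟩ }
  have hsurj : Function.Surjective φ := by
    rw [← MonoidHom.range_eq_top, eq_top_iff, ← PSL2.closure_uu_ll, Subgroup.closure_le]
    rintro _ (⟨t, rfl⟩ | ⟨t, rfl⟩)
    · exact ⟨PresentedGroup.of (true, t), hφ true t⟩
    · exact ⟨PresentedGroup.of (false, t), hφ false t⟩
  obtain ⟨hfin, hle⟩ := S.card_le
  haveI := hfin
  have hbij : Function.Bijective φ := by
    refine hsurj.bijective_of_nat_card_le (hle.trans (le_of_eq ?_))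
    rw [PSL2.card_SL']
    ring
  refine ⟨MulEquiv.ofBijective φ hbij, fun t => ?_, fun t => ?_⟩
  · rw [MulEquiv.ofBijective_apply, hφ]
    rfl
  · rw [MulEquiv.ofBijective_apply, hφ]
    rfl

end Cfsg.Agent.S2426
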