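import Mathlib
import Cfsg.Statements.S2427
-- import your own Cfsg.Agent.* helpers here

set_option autoImplicit false
open Cfsg

namespace Cfsg.Agent.S2427

local notation "SL" => Matrix.SpecialLinearGroup (Fin 2) (ZMod 3)

def qA : SL := ⟨!![0, -1; 1, 0], by decide⟩
def qX : SL := ⟨!![1, 1; 1, -1], by decide⟩

def qf : QuaternionGroup 2 → SL
  | .a i => qA ^ i.val
  | .xa i => qX * qA ^ i.val

theorem qf_mul : ∀ x y : QuaternionGroup 2, qf (x * y) = qf x * qf y := by decide +kernel

def qhom : QuaternionGroup 2 →* SL :=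
  MonoidHom.mk' qf qf_mul

theorem qhom_inj : Function.Injective qhom := by
  have : ∀ x y, qf x = qf y → x = y := by decide +kernel
  exact fun x y h => this x y h

theorem qhom_normal : (qhom.range).Normal := by
  have : ∀ g : SL, ∀ x, ∃ y, qf y = g * qf x * g⁻¹ := by decide +kernel
  refine ⟨?_⟩
  rintro _ ⟨x, rfl⟩ g
  obtain ⟨y, hy⟩ := this g x
  exact ⟨y, hy⟩

theorem card_SL : Nat.card SL = 24 := by
  rw [Nat.card_eq_fintype_card]; decide +kernel

theorem card_range : Nat.card qhom.range = 8 := by
  rw [← Nat.card_congr (MonoidHom.ofInjective qhom_inj).toEquiv, Nat.card_eq_fintype_card,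
    QuaternionGroup.card]

theorem range_le_normal (N : Subgroup SL) (hN : N.Normal) {g : SL} (hg : g ∈ N)
    (hnc : ∃ u, u * g ≠ g * u) : qhom.range ≤ N := by
  have key : ∀ y : QuaternionGroup 2, (∃ u, u * qf y ≠ qf y * u) → ∀ z, ∃ u v : SL,
      qf z = (u * qf y * u⁻¹) * (v * qf y * v⁻¹) := by decide +kernel
  have key2 : ∀ g : SL, (∃ u, u * g ≠ g * u) → ∃ u : SL, ∃ y, qf y = g * (u * g⁻¹ * u⁻¹) ∧
      ∃ v, v * qf y ≠ qf y * v := by decide +kernel
  obtain ⟨u, y, hy, hync⟩ := key2 g hnc
  have hyN : qf y ∈ N := by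
    rw [hy]; exact mul_mem hg (hN.conj_mem _ (inv_mem hg) u)
  rintro _ ⟨z, rfl⟩
  obtain ⟨u, v, huv⟩ := key y hync z
  show qf z ∈ N
  rw [huv]
  exact mul_mem (hN.conj_mem _ hyN u) (hN.conj_mem _ hyN v)

theorem commutator_eq : commutator SL = qhom.range := by
  apply le_antisymm
  · have := qhom_normal
    have : Fact (Nat.Prime 3) := ⟨Nat.prime_three⟩
    have h3 : Nat.card (SL ⧸ qhom.range) = 3 := by
      have := Subgroup.card_eq_card_quotient_mul_card_subgroup qhom.range
      rw [card_SL, card_range] at this; omega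
    have : IsCyclic (SL ⧸ qhom.range) := isCyclic_of_prime_card h3
    refine Subgroup.Normal.quotient_commutative_iff_commutator_le.1 ⟨⟨fun a b => ?_⟩⟩
    have := IsCyclic.isMulCommutative (α := SL ⧸ qhom.range); exact mul_comm' a b
  · have key : ∀ z, ∃ u v : SL, qf z = u * v * u⁻¹ * v⁻¹ := by decide +kernel
    rintro _ ⟨z, rfl⟩
    obtain ⟨u, v, h⟩ := key z
    show qf z ∈ commutator SL
    rw [h]
    exact Subgroup.commutator_mem_commutator (Subgroup.mem_top u) (Subgroup.mem_top v)

/-- The group SL₂ over the field with 3 elements has order 24 and centre of order 2; its commutator subgroup has order 8, is isomorphic to the quaternion group of order 8 and is complemented by every Sylow 3-subgroup (so the group is a semidirect product of a quaternion group of order 8 by a cyclic group of order 3); and its only normal subgroups besides the trivial subgroup and the whole group are the centre and the commutator subgroup. -/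
theorem result :
    Nat.card (Matrix.SpecialLinearGroup (Fin 2) (ZMod 3)) = 24 ∧
    Nat.card (Subgroup.center (Matrix.SpecialLinearGroup (Fin 2) (ZMod 3))) = 2 ∧
    Nat.card (commutator (Matrix.SpecialLinearGroup (Fin 2) (ZMod 3))) = 8 ∧
    Nonempty (commutator (Matrix.SpecialLinearGroup (Fin 2) (ZMod 3)) ≃* QuaternionGroup 2) ∧
    (∀ P : Sylow 3 (Matrix.SpecialLinearGroup (Fin 2) (ZMod 3)),
      Subgroup.IsComplement' (commutator (Matrix.SpecialLinearGroup (Fin 2) (ZMod 3)))
        (P : Subgroup (Matrix.SpecialLinearGroup (Fin 2) (ZMod 3)))) ∧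
    ∀ N : Subgroup (Matrix.SpecialLinearGroup (Fin 2) (ZMod 3)), N.Normal →
      N = ⊥ ∨ N = ⊤ ∨ N = Subgroup.center (Matrix.SpecialLinearGroup (Fin 2) (ZMod 3)) ∨
        N = commutator (Matrix.SpecialLinearGroup (Fin 2) (ZMod 3)) := by
  have hZ : Nat.card (Subgroup.center (Matrix.SpecialLinearGroup (Fin 2) (ZMod 3))) = 2 := by
    have h1 : ∀ g : Matrix.SpecialLinearGroup (Fin 2) (ZMod 3),
        (∀ u, u * g = g * u) ↔ (g = 1 ∨ g = qA * qA) := by decide +kernel
    have h2 : ((Subgroup.center (Matrix.SpecialLinearGroup (Fin 2) (ZMod 3)) : Subgroup _) :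
        Set (Matrix.SpecialLinearGroup (Fin 2) (ZMod 3))) = {1, qA * qA} := by
      ext g; simp [Subgroup.mem_center_iff, h1]
    have : (1 : Matrix.SpecialLinearGroup (Fin 2) (ZMod 3)) ≠ qA * qA := by decide +kernel
    rw [← SetLike.coe_sort_coe, h2, Nat.card_coe_set_eq, Set.ncard_pair this]
  have hK : Nat.card (commutator (Matrix.SpecialLinearGroup (Fin 2) (ZMod 3))) = 8 := by
    rw [commutator_eq]; exact card_range
  refine ⟨card_SL, hZ, hK, ?_, fun P => ?_, fun N hN => ?_⟩
  · rw [commutator_eq]; exact ⟨(MonoidHom.ofInjective qhom_inj).symm⟩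
  · have hP : Nat.card (P : Subgroup (Matrix.SpecialLinearGroup (Fin 2) (ZMod 3))) = 3 := by
      rw [P.card_eq_multiplicity, card_SL, show (24 : ℕ) = 3 ^ 1 * 8 by norm_num,
        Nat.factorization_mul (by norm_num) (by norm_num), Finsupp.add_apply,
        Nat.Prime.factorization_pow Nat.prime_three, Finsupp.single_eq_same,
        Nat.factorization_eq_zero_of_not_dvd (by norm_num : ¬ 3 ∣ 8)]
      norm_num
    exact Subgroup.isComplement'_of_coprime (by rw [hK, hP, card_SL]) (by rw [hK, hP]; norm_num)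
  · by_cases hc : N ≤ Subgroup.center _
    · have := Subgroup.card_dvd_of_le hc
      rw [hZ, Nat.dvd_prime Nat.prime_two] at this
      rcases this with h | h
      · exact Or.inl (Subgroup.card_eq_one.1 h)
      · exact Or.inr (Or.inr (Or.inl (Subgroup.eq_of_le_of_card_ge hc (by rw [h, hZ]))))
    · obtain ⟨g, hg, hgc⟩ := SetLike.not_le_iff_exists.1 hc
      rw [Subgroup.mem_center_iff, not_forall] at hgc
      have hle := range_le_normal N hN hg hgc
      have h1 := Subgroup.card_dvd_of_le hle
      have h2 := Subgroup.card_subgroup_dvd_card N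
      rw [card_range] at h1
      rw [card_SL] at h2
      obtain ⟨k, hk⟩ := h1
      rw [hk] at h2
      have h3 : k ∣ 3 := Nat.dvd_of_mul_dvd_mul_left (by norm_num : 0 < 8) h2
      rw [Nat.dvd_prime Nat.prime_three] at h3
      rcases h3 with rfl | rfl
      · refine Or.inr (Or.inr (Or.inr ?_))
        rw [commutator_eq]
        exact (Subgroup.eq_of_le_of_card_ge hle (by rw [card_range, hk])).symm
      · exact Or.inr (Or.inl ((Subgroup.card_eq_iff_eq_top N).1 (by rw [card_SL, hk])))

end Cfsg.Agent.S2427
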