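import Cfsg.Statements.S2428
import Cfsg.Agent.Lib.PSL2.TorusClasses

set_option autoImplicit false
open Cfsg Matrix
open scoped MatrixGroups

namespace Cfsg.Agent.S2428

/-- Let F be a finite field with q elements, q odd, and let d be a diagonal element of SL₂ over F whose diagonal entry a has a² ≠ 1 (such d exist exactly when q > 3). Then the centraliser of d is precisely the diagonal subgroup T; the normaliser of T has order 2(q − 1) and exactly (q + 5)/2 conjugacy classes; and every element of that normaliser outside T has square equal to −1. -/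
theorem result {F : Type*} [Field F] [Fintype F] (hodd : Odd (Fintype.card F))
    (d : Matrix.SpecialLinearGroup (Fin 2) F) (hd01 : (d : Matrix (Fin 2) (Fin 2) F) 0 1 = 0) (hd10 : (d : Matrix (Fin 2) (Fin 2) F) 1 0 = 0) (hda : (d : Matrix (Fin 2) (Fin 2) F) 0 0 ^ 2 ≠ 1) :
    (∀ g : Matrix.SpecialLinearGroup (Fin 2) F, g ∈ Subgroup.centralizer ({d} : Set (Matrix.SpecialLinearGroup (Fin 2) F)) ↔ ((g : Matrix (Fin 2) (Fin 2) F) 0 1 = 0 ∧ (g : Matrix (Fin 2) (Fin 2) F) 1 0 = 0)) ∧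
    Nat.card (Subgroup.normalizer ((Subgroup.centralizer ({d} : Set (Matrix.SpecialLinearGroup (Fin 2) F))) : Set (Matrix.SpecialLinearGroup (Fin 2) F))) = 2 * (Fintype.card F - 1) ∧
    Nat.card (ConjClasses (Subgroup.normalizer ((Subgroup.centralizer ({d} : Set (Matrix.SpecialLinearGroup (Fin 2) F))) : Set (Matrix.SpecialLinearGroup (Fin 2) F)))) = (Fintype.card F + 5) / 2 ∧
    ∀ g : Matrix.SpecialLinearGroup (Fin 2) F, g ∈ Subgroup.normalizer ((Subgroup.centralizer ({d} : Set (Matrix.SpecialLinearGroup (Fin 2) F))) : Set (Matrix.SpecialLinearGroup (Fin 2) F)) →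
      g ∉ Subgroup.centralizer ({d} : Set (Matrix.SpecialLinearGroup (Fin 2) F)) → ((g * g) : Matrix (Fin 2) (Fin 2) F) = -1 := by
  have h2 := Cfsg.Agent.PSL2.odd_card_iff.1 hodd
  obtain ⟨a, rfl⟩ := Cfsg.Agent.PSL2.mem_torus.1
    (Cfsg.Agent.PSL2.mem_torus_iff_entries.2 ⟨hd01, hd10⟩)
  have h4 := Cfsg.Agent.PSL2.tr_dd_sq_ne_four (show (a : F) ^ 2 ≠ 1 from hda)
  have hc : Cfsg.Agent.PSL2.cent (Cfsg.Agent.PSL2.dd a) = Cfsg.Agent.PSL2.torus F :=
    Cfsg.Agent.PSL2.cent_dd (show (a : F) ^ 2 ≠ 1 from hda)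
  have hcard : Nat.card (Cfsg.Agent.PSL2.cent (Cfsg.Agent.PSL2.dd a)) = Fintype.card F - 1 := by
    rw [hc, Cfsg.Agent.PSL2.card_torus']
  refine ⟨fun g => ?_, ?_, ?_, fun g hg hg' => ?_⟩
  · show g ∈ Cfsg.Agent.PSL2.cent (Cfsg.Agent.PSL2.dd a) ↔ _
    rw [hc]
    exact Cfsg.Agent.PSL2.mem_torus_iff_entries
  · rw [← hcard]
    exact Cfsg.Agent.PSL2.card_normalizer_cent h4
  · have h := Cfsg.Agent.PSL2.card_conjClasses_normalizer_cent h2 h4
    rw [hcard] at h
    have hq := Cfsg.Agent.PSL2.one_lt_q (F := F)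
    change Nat.card (ConjClasses (Subgroup.normalizer
      (Cfsg.Agent.PSL2.cent (Cfsg.Agent.PSL2.dd a) : Set SL(2, F)))) = _
    omega
  · have h := Cfsg.Agent.PSL2.sq_eq_neg_one_of_inverting h4
      (Cfsg.Agent.PSL2.inverting_of_mem_normalizer h4 hg hg' _
        (Cfsg.Agent.PSL2.mem_cent.2 (Commute.refl _)))
    simpa using congrArg (fun m : SL(2, F) => (m : Matrix (Fin 2) (Fin 2) F)) h

end Cfsg.Agent.S2428
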