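import Cfsg.Statements.S2429
import Cfsg.Agent.Lib.PSL2.TorusClasses

set_option autoImplicit false
open Cfsg Matrix
open scoped MatrixGroups

namespace Cfsg.Agent.S2429

/-- Let F be a finite field with q elements, q odd. Then SL₂ over F contains a cyclic subgroup T′ of order q + 1 (a non-split torus) with the following properties: T′ is its own centraliser, and indeed the centraliser of each element of T′ other than 1 and −1 is exactly T′; every element of SL₂ having no eigenvector in F² is conjugate to an element of T′; the normaliser of T′ has order 2(q + 1) and exactly (q + 7)/2 conjugacy classes; and every element of that normaliser outside T′ has square −1. -/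
theorem result {F : Type*} [Field F] [Fintype F] (hodd : Odd (Fintype.card F)) :
    ∃ T' : Subgroup (Matrix.SpecialLinearGroup (Fin 2) F), IsCyclic T' ∧ Nat.card T' = Fintype.card F + 1 ∧
      Subgroup.centralizer ((T' : Set (Matrix.SpecialLinearGroup (Fin 2) F))) = T' ∧
      (∀ g : Matrix.SpecialLinearGroup (Fin 2) F, g ∈ T' → (g : Matrix (Fin 2) (Fin 2) F) ≠ 1 → (g : Matrix (Fin 2) (Fin 2) F) ≠ -1 → Subgroup.centralizer ({g} : Set (Matrix.SpecialLinearGroup (Fin 2) F)) = T') ∧
      (∀ g : Matrix.SpecialLinearGroup (Fin 2) F, (∀ (c : F) (v : Fin 2 → F), v ≠ 0 → (g : Matrix (Fin 2) (Fin 2) F).mulVec v ≠ c • v) → ∃ h : Matrix.SpecialLinearGroup (Fin 2) F, h * g * h⁻¹ ∈ T') ∧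
      Nat.card (Subgroup.normalizer (T' : Set (Matrix.SpecialLinearGroup (Fin 2) F))) = 2 * (Fintype.card F + 1) ∧
      Nat.card (ConjClasses (Subgroup.normalizer (T' : Set (Matrix.SpecialLinearGroup (Fin 2) F)))) = (Fintype.card F + 7) / 2 ∧
      ∀ g : Matrix.SpecialLinearGroup (Fin 2) F, g ∈ Subgroup.normalizer (T' : Set (Matrix.SpecialLinearGroup (Fin 2) F)) → g ∉ T' → ((g * g) : Matrix (Fin 2) (Fin 2) F) = -1 := by
  have h2 := Cfsg.Agent.PSL2.odd_card_iff.1 hodd
  obtain ⟨g₀, hg₀⟩ := Cfsg.Agent.PSL2.exists_elliptic F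
  have h4 := hg₀.sq_ne_four
  have hnc := hg₀.not_mem_center
  refine ⟨Cfsg.Agent.PSL2.cent g₀, hg₀.isCyclic_cent, hg₀.card_cent, ?_, ?_, ?_, ?_, ?_,
    fun g hg hg' => ?_⟩
  · refine le_antisymm (fun x hx => Cfsg.Agent.PSL2.mem_cent.2
      (Subgroup.mem_centralizer_iff.1 hx g₀ (Cfsg.Agent.PSL2.mem_cent.2 (Commute.refl g₀))).symm)
      fun x hx => Subgroup.mem_centralizer_iff.2 fun y hy => ?_
    exact (Cfsg.Agent.PSL2.cent_comm hnc (Cfsg.Agent.PSL2.mem_cent.1 hy)
      (Cfsg.Agent.PSL2.mem_cent.1 hx)).eq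
  · intro g hg h1 hneg
    refine Cfsg.Agent.PSL2.cent_eq_cent hnc (fun hz => ?_) (Cfsg.Agent.PSL2.mem_cent.1 hg)
    rcases Cfsg.Agent.PSL2.mem_center_iff_pm.1 hz with rfl | rfl
    · exact h1 (by simp)
    · exact hneg (by simp)
  · intro g hg
    have hell : Cfsg.Agent.PSL2.IsEll (Cfsg.Agent.PSL2.tr g) := by
      by_contra h
      obtain ⟨k, b, hb, rfl⟩ := Cfsg.Agent.PSL2.exists_conj_borel h
      have e : (k * b * k⁻¹) * k = k * b := by group
      refine hg (b 0 0) ![k 0 0, k 1 0] ?_ ?_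
      · intro hv
        have h0 := congrFun hv 0
        have h1 := congrFun hv 1
        simp at h0 h1
        have := Cfsg.Agent.PSL2.det_eq k
        rw [h0, h1] at this
        simp at this
      · have e0 := congrArg (fun m : SL(2, F) => m 0 0) e
        have e1 := congrArg (fun m : SL(2, F) => m 1 0) e
        simp only [Cfsg.Agent.PSL2.mul00 (k * b * k⁻¹) k, Cfsg.Agent.PSL2.mul00 k b,
          Cfsg.Agent.PSL2.mul10 (k * b * k⁻¹) k, Cfsg.Agent.PSL2.mul10 k b,
          Cfsg.Agent.PSL2.mem_borel.1 hb] at e0 e1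
        ext i
        fin_cases i
        · simp [Matrix.mulVec, dotProduct, Fin.sum_univ_two, -Matrix.SpecialLinearGroup.coe_mul,
            -Matrix.SpecialLinearGroup.coe_inv]
          linear_combination e0
        · simp [Matrix.mulVec, dotProduct, Fin.sum_univ_two, -Matrix.SpecialLinearGroup.coe_mul,
            -Matrix.SpecialLinearGroup.coe_inv]
          linear_combination e1
    obtain ⟨k, hk⟩ := hell.exists_conj hg₀
    refine ⟨k, ?_⟩
    rw [hk]
    exact Subgroup.mem_map_of_mem _ (Cfsg.Agent.PSL2.mem_cent.2 (Commute.refl g))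
  · rw [← hg₀.card_cent]
    exact Cfsg.Agent.PSL2.card_normalizer_cent h4
  · have h := Cfsg.Agent.PSL2.card_conjClasses_normalizer_cent h2 h4
    rw [hg₀.card_cent] at h
    omega
  · have h := Cfsg.Agent.PSL2.sq_eq_neg_one_of_inverting h4
      (Cfsg.Agent.PSL2.inverting_of_mem_normalizer h4 hg hg' _
        (Cfsg.Agent.PSL2.mem_cent.2 (Commute.refl _)))
    simpa using congrArg (fun m : SL(2, F) => (m : Matrix (Fin 2) (Fin 2) F)) h

end Cfsg.Agent.S2429
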