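import Cfsg.Statements.S2430
import Cfsg.Agent.Lib.PSL2.TorusClasses

set_option autoImplicit false
open Cfsg Matrix
open scoped MatrixGroups

namespace Cfsg.Agent.S2430

/-- Let F be a finite field with q elements, q odd, ℓ an odd prime, and P a Sylow ℓ-subgroup of SL₂ over F. If ℓ divides q − 1, the centraliser of P is cyclic of order q − 1 (a split torus) and the normaliser of P has order 2(q − 1); if ℓ divides q + 1, the centraliser of P is cyclic of order q + 1 (a non-split torus) and the normaliser of P has order 2(q + 1). -/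
theorem result {F : Type*} [Field F] [Fintype F] (hodd : Odd (Fintype.card F)) (ℓ : ℕ) [Fact ℓ.Prime] (hℓ : ℓ ≠ 2)
    (P : Sylow ℓ (Matrix.SpecialLinearGroup (Fin 2) F)) :
    (ℓ ∣ Fintype.card F - 1 →
      Nat.card (Subgroup.centralizer ((P : Subgroup (Matrix.SpecialLinearGroup (Fin 2) F)) : Set (Matrix.SpecialLinearGroup (Fin 2) F))) = Fintype.card F - 1 ∧
      IsCyclic (Subgroup.centralizer ((P : Subgroup (Matrix.SpecialLinearGroup (Fin 2) F)) : Set (Matrix.SpecialLinearGroup (Fin 2) F))) ∧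
      Nat.card (Subgroup.normalizer ((P : Subgroup (Matrix.SpecialLinearGroup (Fin 2) F)) : Set (Matrix.SpecialLinearGroup (Fin 2) F))) = 2 * (Fintype.card F - 1)) ∧
    (ℓ ∣ Fintype.card F + 1 →
      Nat.card (Subgroup.centralizer ((P : Subgroup (Matrix.SpecialLinearGroup (Fin 2) F)) : Set (Matrix.SpecialLinearGroup (Fin 2) F))) = Fintype.card F + 1 ∧
      IsCyclic (Subgroup.centralizer ((P : Subgroup (Matrix.SpecialLinearGroup (Fin 2) F)) : Set (Matrix.SpecialLinearGroup (Fin 2) F))) ∧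
      Nat.card (Subgroup.normalizer ((P : Subgroup (Matrix.SpecialLinearGroup (Fin 2) F)) : Set (Matrix.SpecialLinearGroup (Fin 2) F))) = 2 * (Fintype.card F + 1)) := by
  have h2 := Cfsg.Agent.PSL2.odd_card_iff.1 hodd
  obtain ⟨p, hc⟩ := CharP.exists F
  have := Fact.mk (CharP.char_is_prime F p)
  have hlp := Fact.out (p := ℓ.Prime)
  have hq := Cfsg.Agent.PSL2.one_lt_q (F := F)
  suffices key : (ℓ ∣ Fintype.card F - 1 ∨ ℓ ∣ Fintype.card F + 1) →
      ∃ g, Cfsg.Agent.PSL2.tr g ^ 2 ≠ 4 ∧ ℓ ∣ Nat.card (Cfsg.Agent.PSL2.cent g) ∧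
        Subgroup.centralizer ((P : Subgroup SL(2, F)) : Set SL(2, F)) = Cfsg.Agent.PSL2.cent g ∧
        Subgroup.normalizer ((P : Subgroup SL(2, F)) : Set SL(2, F)) =
          Subgroup.normalizer (Cfsg.Agent.PSL2.cent g : Set SL(2, F)) by
    have not_both : ℓ ∣ Fintype.card F - 1 → ℓ ∣ Fintype.card F + 1 → False := fun a b => by
      have := Nat.dvd_sub b a
      rw [show Fintype.card F + 1 - (Fintype.card F - 1) = 2 by omega] at this
      exact hℓ ((Nat.prime_dvd_prime_iff_eq hlp Nat.prime_two).1 this)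
    constructor <;> intro hd
    · obtain ⟨g, h4, hdvd, hC, hN⟩ := key (Or.inl hd)
      have hcard : Nat.card (Cfsg.Agent.PSL2.cent g) = Fintype.card F - 1 := by
        rcases Cfsg.Agent.PSL2.card_cent_of_tr h4 with e | e
        · exact e
        · exact absurd (e ▸ hdvd) (not_both hd)
      rw [hC, hN, Cfsg.Agent.PSL2.card_normalizer_cent h4, hcard]
      exact ⟨rfl, Cfsg.Agent.PSL2.isCyclic_cent h4, rfl⟩
    · obtain ⟨g, h4, hdvd, hC, hN⟩ := key (Or.inr hd)
      have hcard : Nat.card (Cfsg.Agent.PSL2.cent g) = Fintype.card F + 1 := by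
        rcases Cfsg.Agent.PSL2.card_cent_of_tr h4 with e | e
        · exact absurd hd (not_both (e ▸ hdvd))
        · exact e
      rw [hC, hN, Cfsg.Agent.PSL2.card_normalizer_cent h4, hcard]
      exact ⟨rfl, Cfsg.Agent.PSL2.isCyclic_cent h4, rfl⟩
  intro hd
  have hlp' : ℓ ≠ p := by
    rintro rfl
    have hdq := Cfsg.Agent.PSL2.p_dvd_q (F := F) ℓ
    rcases hd with hd | hd
    · have := Nat.dvd_sub hdq hd
      rw [show Fintype.card F - (Fintype.card F - 1) = 1 by omega] at this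
      exact hlp.not_dvd_one this
    · exact hlp.not_dvd_one ((Nat.dvd_add_right hdq).1 hd)
  have hdG : ℓ ∣ Nat.card SL(2, F) := by
    rw [Cfsg.Agent.PSL2.card_SL']
    rcases hd with hd | hd
    · exact Dvd.dvd.mul_right (Dvd.dvd.mul_left hd _) _
    · exact Dvd.dvd.mul_left hd _
  have hPne : (P : Subgroup SL(2, F)) ≠ ⊥ := P.ne_bot_of_dvd_card hdG
  have hcyc : IsCyclic (P : Subgroup SL(2, F)) :=
    Cfsg.Agent.PSL2.isCyclic_sylow_odd p ℓ hℓ hlp' P
  obtain ⟨⟨z, hzP⟩, hgen⟩ := hcyc.exists_generator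
  obtain ⟨n, hn⟩ := IsPGroup.iff_orderOf.1 P.isPGroup' ⟨z, hzP⟩
  rw [Subgroup.orderOf_mk] at hn
  have hgen' : ∀ x ∈ (P : Subgroup SL(2, F)), x ∈ Subgroup.zpowers z := fun x hx => by
    obtain ⟨i, hi⟩ := Subgroup.mem_zpowers_iff.1 (hgen ⟨x, hx⟩)
    exact ⟨i, congrArg Subtype.val hi⟩
  have hz1 : z ≠ 1 := fun h => hPne ((Subgroup.eq_bot_iff_forall _).2 fun x hx => by
    simpa [h] using hgen' x hx)
  have hn0 : n ≠ 0 := by rintro rfl; exact hz1 (orderOf_eq_one_iff.1 (by rw [hn, pow_zero]))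
  have hznc : z ∉ Subgroup.center SL(2, F) := fun h => by
    rcases Cfsg.Agent.PSL2.mem_center_iff_pm.1 h with rfl | rfl
    · exact hz1 rfl
    · rw [Cfsg.Agent.PSL2.orderOf_neg_one h2] at hn
      exact hℓ ((Nat.prime_dvd_prime_iff_eq hlp Nat.prime_two).1 (hn.symm ▸ dvd_pow_self ℓ hn0))
  have h4 : Cfsg.Agent.PSL2.tr z ^ 2 ≠ 4 := by
    intro h4
    obtain ⟨k, hk⟩ := Cfsg.Agent.PSL2.parabolic_of_tr hznc h4
    have hz : z ∈ (Cfsg.Agent.PSL2.pmUnip F).map (MulAut.conj k).toMonoidHom :=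
      hk ▸ Cfsg.Agent.PSL2.mem_cent.2 (Commute.refl z)
    have hd' := orderOf_dvd_natCard (⟨z, hz⟩ : (Cfsg.Agent.PSL2.pmUnip F).map _)
    rw [Subgroup.orderOf_mk, hn, Cfsg.Agent.PSL2.Part.Partition.card_map_conj,
      Cfsg.Agent.PSL2.card_pmUnip] at hd'
    have hℓd := (dvd_pow_self ℓ hn0).trans hd'
    rcases hlp.dvd_mul.1 hℓd with h | h
    · exact hℓ ((Nat.prime_dvd_prime_iff_eq hlp Nat.prime_two).1 (h.trans (Nat.gcd_dvd_left _ _)))
    · obtain ⟨m, hp, hm⟩ := FiniteField.card F p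
      rw [hm] at h
      exact hlp' ((Nat.prime_dvd_prime_iff_eq hlp hp).1 (hlp.dvd_of_dvd_pow h))
  have hzc : z ∈ Cfsg.Agent.PSL2.cent z := Cfsg.Agent.PSL2.mem_cent.2 (Commute.refl z)
  have hPle : (P : Subgroup SL(2, F)) ≤ Cfsg.Agent.PSL2.cent z := fun x hx =>
    Subgroup.zpowers_le.2 hzc (hgen' x hx)
  refine ⟨z, h4, ?_, ?_, ?_⟩
  · refine (dvd_pow_self ℓ hn0).trans ?_
    rw [← hn]
    simpa using orderOf_dvd_natCard (⟨z, hzc⟩ : Cfsg.Agent.PSL2.cent z)
  · refine le_antisymm (fun x hx => Cfsg.Agent.PSL2.mem_cent.2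
      (Subgroup.mem_centralizer_iff.1 hx z hzP).symm) fun x hx => Subgroup.mem_centralizer_iff.2
        fun y hy => ?_
    exact (Cfsg.Agent.PSL2.cent_comm hznc (Cfsg.Agent.PSL2.mem_cent.1 (hPle hy))
      (Cfsg.Agent.PSL2.mem_cent.1 hx)).eq
  · refine le_antisymm (fun k hk => ?_) (fun k hk => ?_)
    · refine (Cfsg.Agent.PSL2.mem_normalizer_cent h4).2 ?_
      exact Cfsg.Agent.PSL2.eq_or_eq_inv_of_tr_eq h4
        (Cfsg.Agent.PSL2.mem_cent.1 (hPle ((Subgroup.mem_normalizer_iff.1 hk z).1 hzP)))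
        (Cfsg.Agent.PSL2.tr_conj k z)
    · have hle : ∀ k ∈ Subgroup.normalizer (Cfsg.Agent.PSL2.cent z : Set SL(2, F)),
          ∀ x ∈ (P : Subgroup SL(2, F)), k * x * k⁻¹ ∈ (P : Subgroup SL(2, F)) := by
        intro k hk x hx
        obtain ⟨i, rfl⟩ := Subgroup.mem_zpowers_iff.1 (hgen' x hx)
        rw [← conj_zpow]
        rcases (Cfsg.Agent.PSL2.mem_normalizer_cent h4).1 hk with e | e <;> rw [e]
        · exact Subgroup.zpow_mem _ hzP _
        · exact Subgroup.zpow_mem _ (Subgroup.inv_mem _ hzP) _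
      rw [Subgroup.mem_normalizer_iff]
      refine fun x => ⟨hle k hk x, fun h => ?_⟩
      have := hle k⁻¹ (Subgroup.inv_mem _ hk) _ h
      simpa [mul_assoc] using this

end Cfsg.Agent.S2430
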