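import Cfsg.Statements.S2433
import Cfsg.Agent.Lib.GL2Char.SLPrincipal

set_option autoImplicit false
open Cfsg

namespace Cfsg.Agent.S2433

/-- Let F be a finite field with q elements, q odd, α a multiplicative character of F, and R(α) the function on SL₂ induced from the linear character b ↦ α(b₁₁) of the upper triangular subgroup. Then R(α) takes the value α(a) + α(a⁻¹) at a diagonal element with entries a, a⁻¹, a² ≠ 1; the value 0 at every element with no eigenvector in F²; the value α(ε) at an upper triangular element with both diagonal entries ε and non-zero upper right entry; and the value (q + 1)α(ε) at the scalar element ε (ε = ±1). -/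
theorem result {F : Type*} [Field F] [Fintype F] [DecidableEq F] (hodd : Odd (Fintype.card F)) (α : MulChar F ℂ) (g : Matrix.SpecialLinearGroup (Fin 2) F) :
    ((g : Matrix (Fin 2) (Fin 2) F) 0 1 = 0 → (g : Matrix (Fin 2) (Fin 2) F) 1 0 = 0 → (g : Matrix (Fin 2) (Fin 2) F) 0 0 ^ 2 ≠ 1 →
      (Cfsg.indFun ((Cfsg.upperTriangularGL 2 F).comap Matrix.SpecialLinearGroup.toGL) (fun b => α (((b : Matrix.SpecialLinearGroup (Fin 2) F) : Matrix (Fin 2) (Fin 2) F) 0 0))) g = α ((g : Matrix (Fin 2) (Fin 2) F) 0 0) + α ((g : Matrix (Fin 2) (Fin 2) F) 1 1)) ∧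
    ((∀ (c : F) (v : Fin 2 → F), v ≠ 0 → (g : Matrix (Fin 2) (Fin 2) F).mulVec v ≠ c • v) → (Cfsg.indFun ((Cfsg.upperTriangularGL 2 F).comap Matrix.SpecialLinearGroup.toGL) (fun b => α (((b : Matrix.SpecialLinearGroup (Fin 2) F) : Matrix (Fin 2) (Fin 2) F) 0 0))) g = 0) ∧
    ((g : Matrix (Fin 2) (Fin 2) F) 1 0 = 0 → (g : Matrix (Fin 2) (Fin 2) F) 0 0 = (g : Matrix (Fin 2) (Fin 2) F) 1 1 → (g : Matrix (Fin 2) (Fin 2) F) 0 1 ≠ 0 →
      (Cfsg.indFun ((Cfsg.upperTriangularGL 2 F).comap Matrix.SpecialLinearGroup.toGL) (fun b => α (((b : Matrix.SpecialLinearGroup (Fin 2) F) : Matrix (Fin 2) (Fin 2) F) 0 0))) g = α ((g : Matrix (Fin 2) (Fin 2) F) 0 0)) ∧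
    ((g : Matrix (Fin 2) (Fin 2) F) 0 1 = 0 → (g : Matrix (Fin 2) (Fin 2) F) 1 0 = 0 → (g : Matrix (Fin 2) (Fin 2) F) 0 0 = (g : Matrix (Fin 2) (Fin 2) F) 1 1 →
      (Cfsg.indFun ((Cfsg.upperTriangularGL 2 F).comap Matrix.SpecialLinearGroup.toGL) (fun b => α (((b : Matrix.SpecialLinearGroup (Fin 2) F) : Matrix (Fin 2) (Fin 2) F) 0 0))) g = ((Fintype.card F : ℂ) + 1) * α ((g : Matrix (Fin 2) (Fin 2) F) 0 0)) := by
  classical
  have hval : g.1 1 0 = 0 → g.1 0 0 ≠ 0 ∧ g.1 1 1 ≠ 0 := fun h0 => by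
    have h := g.2
    rw [Matrix.det_fin_two, h0, mul_zero, sub_zero] at h
    refine mul_ne_zero_iff.1 ?_
    rw [h]
    exact one_ne_zero
  have hP : g.1 1 0 = 0 → GL2Char.PSS α g = α (g.1 0 0) +
      ∑ x : F, if g.1 0 1 = x * g.1 1 1 - g.1 0 0 * x then α (g.1 1 1) else 0 := fun h0 => by
    obtain ⟨ha, hd⟩ := hval h0
    rw [GL2Char.PSS_eq, GL2Char.PS_borel α 1 _ h0]
    simp [MulChar.one_apply (IsUnit.mk0 _ ha), MulChar.one_apply (IsUnit.mk0 _ hd)]
  refine ⟨fun h01 h10 hne => ?_, fun h => ?_, fun h10 he h01 => ?_, fun h01 h10 he => ?_⟩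
  · refine (hP h10).trans ?_
    rw [Finset.sum_eq_single (0 : F), if_pos (by simp [h01])]
    · intro x _ hx
      rw [if_neg]
      intro hx'
      rw [h01] at hx'
      have hd := g.2
      rw [Matrix.det_fin_two, h10, mul_zero, sub_zero] at hd
      have hda : g.1 1 1 - g.1 0 0 = 0 :=
        (mul_eq_zero.1 (show x * (g.1 1 1 - g.1 0 0) = 0 by linear_combination -hx')).resolve_left hx
      exact hne (by linear_combination hd - g.1 0 0 * hda)
    · exact fun hx => absurd (Finset.mem_univ _) hx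
  · exact (GL2Char.PSS_eq α g).trans (GL2Char.PS_eq_zero α 1 _ h)
  · refine (hP h10).trans ?_
    rw [Finset.sum_eq_zero fun x _ => if_neg (by rw [← he, mul_comm, sub_self]; exact h01), add_zero]
  · refine (hP h10).trans ?_
    rw [Finset.sum_eq_card_nsmul (b := α (g.1 1 1)) fun x _ => if_pos (by rw [h01, ← he]; ring)]
    rw [← he, Finset.card_univ, nsmul_eq_mul]
    ring

end Cfsg.Agent.S2433
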