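import Cfsg.Statements.S2434
import Cfsg.Agent.Lib.GL2Char.SLCuspidal

set_option autoImplicit false
open Cfsg

namespace Cfsg.Agent.S2434

open Cfsg.Agent.GL2Char Cfsg.Agent.Char in
theorem deg_sub_one {F : Type*} [Field F] [Fintype F] [DecidableEq F] {C : Subgroup (Matrix.SpecialLinearGroup (Fin 2) F)}
    [Fintype C] (hodd : Odd (Fintype.card F)) (hT : Torus C) (χ : IrrCharacter (Matrix.SpecialLinearGroup (Fin 2) F))
    (h1 : χ.1 1 = (Fintype.card F : ℂ) - 1) :
    ∃ θ : C →* ℂˣ, (∃ c : C, θ c ^ 2 ≠ 1) ∧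
      ∀ c : C, (c : Matrix.SpecialLinearGroup (Fin 2) F) ∉ Subgroup.center (Matrix.SpecialLinearGroup (Fin 2) F) →
        χ.1 c = -((θ c).val + (θ c)⁻¹.val) := by
  classical
  obtain ⟨c0, hell, -, hgen⟩ := hT.exists_gen
  have hord : orderOf c0 = Fintype.card F + 1 := by rw [orderOf_eq_card_of_forall_mem_zpowers hgen, hT.card]
  have hq := Fintype.one_lt_card (α := F)
  by_cases hc : IsCuspS χ
  · obtain ⟨φ₀, hφ₀, hiff, hquad⟩ := hT.exists_quadratic
    by_cases hex : ∃ φ α, hT.Compat α φ ∧ (¬ ∀ c, φ c ^ 2 = 1) ∧ classInner χ.1 (XC C α φ) ≠ 0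
    · obtain ⟨φ, α, hα, h2, hne⟩ := hex
      refine ⟨φ, by simpa using h2, fun c hc => ?_⟩
      rw [show χ.1 = XC C α φ from by
        by_contra e
        exact hne (classInner_irr_of_ne χ.2 (hT.isIrr_XC α φ hα h2) e)]
      exact hT.XC_noncentral α φ c hc
    · exfalso
      push Not at hex
      have h0 : φ₀ ≠ 1 := fun e => by
        have h := (hiff c0).1 (by rw [e, MonoidHom.one_apply])
        rw [← Subgroup.coe_pow, OneMemClass.coe_eq_one, ← orderOf_dvd_iff_pow_eq_one, hord] at h
        have := Nat.le_of_dvd (by omega) h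
        omega
      obtain ⟨α₀, hα₀⟩ := hT.exists_compat φ₀
      have hI := (hT.cusp_values χ hc φ₀ h0 hquad fun φ α hα h2 => by
        refine hex φ α hα ?_
        simpa using h2
        ).2 α₀ hα₀
      rw [h1, mul_div_assoc, div_self (q_sub_one_ne_zero (F := F)), mul_one] at hI
      have hX := hT.classInner_XC_self α₀ φ₀ hα₀
      rw [if_pos hφ₀] at hX
      have hI' : classInner (XC C α₀ φ₀) χ.1 = 2 := by
        rw [← conj_classInner, hI]
        exact Complex.conj_ofNat 2
      have hg : IsGeneralizedCharacter _ (XC C α₀ φ₀ - ((2 : ℤ) : ℂ) • χ.1) :=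
        IsGeneralizedCharacter.sub (isGeneralized_XC α₀ φ₀) (IsGeneralizedCharacter.intCast_smul (irr_isGeneralized χ) 2)
      obtain ⟨m, hm, -⟩ := IsGeneralizedCharacter.exists_decomp hg
      have hs := IsGeneralizedCharacter.classInner_self_eq_sum hm
      rw [classInner_sub_left, classInner_sub_right, classInner_sub_right, classInner_smul_left,
        classInner_smul_left, classInner_smul_right, classInner_smul_right, hX, hI, hI',
        classInner_irr_self χ.2] at hs
      have : (∑ ψ, m ψ ^ 2) = -2 := by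
        have e : ((∑ ψ, m ψ ^ 2 : ℤ) : ℂ) = ((-2 : ℤ) : ℂ) := by
          rw [← hs]
          simp [Complex.conj_ofNat]
          norm_num
        exact_mod_cast e
      have := Finset.sum_nonneg (fun ψ (_ : ψ ∈ Finset.univ) => sq_nonneg (m ψ))
      omega
  · have hd := noncusp_degree hodd χ hc
    have h3 : Fintype.card F = 3 := by
      obtain ⟨k, hk⟩ := hodd
      rw [h1, hk] at hd
      rcases hd with hd | hd | hd | hd
      · exfalso
        have : ((2 * k : ℕ) : ℂ) = ((2 * k + 2 : ℕ) : ℂ) := by push_cast at hd ⊢; linear_combination hd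
        have := Nat.cast_injective this
        omega
      · have : ((2 * k : ℕ) : ℂ) = ((1 : ℕ) : ℂ) := by push_cast at hd ⊢; linear_combination hd
        have := Nat.cast_injective this
        omega
      · exfalso
        have : ((2 * k : ℕ) : ℂ) = ((2 * k + 1 : ℕ) : ℂ) := by push_cast at hd ⊢; linear_combination hd
        have := Nat.cast_injective this
        omega
      · rw [show (2 * k + 1 + 1) / 2 = k + 1 by omega] at hd
        have : ((2 * k : ℕ) : ℂ) = ((k + 1 : ℕ) : ℂ) := by push_cast at hd ⊢; linear_combination hd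
        have := Nat.cast_injective this
        omega
    have hI : (Units.mk0 Complex.I Complex.I_ne_zero) ^ 4 = 1 := Units.ext (by simp [pow_succ, pow_zero])
    have hdvd : orderOf (Units.mk0 Complex.I Complex.I_ne_zero) ∣ orderOf c0 := by
      rw [hord, h3]
      exact orderOf_dvd_of_pow_eq_one hI
    let φ : C →* ℂˣ := monoidHomOfForallMemZpowers hgen hdvd
    have hφ : φ c0 = Units.mk0 Complex.I Complex.I_ne_zero := monoidHomOfForallMemZpowers_apply_gen hgen hdvd
    have hφm : φ ⟨-1, hT.neg_one_mem⟩ = -1 := by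
      have hsq : c0 ^ 2 = ⟨-1, hT.neg_one_mem⟩ := by
        have h4 : c0 ^ 2 * c0 ^ 2 = 1 := by
          rw [← pow_add]
          exact orderOf_dvd_iff_pow_eq_one.1 (by rw [hord, h3])
        have h2 : c0 ^ 2 ≠ 1 := fun e => by
          have := Nat.le_of_dvd two_pos (orderOf_dvd_of_pow_eq_one e)
          omega
        rcases PSL2.eq_pm_of_mul_self_eq_one hT.two_ne (congrArg Subtype.val h4) with h | h
        · exact absurd (Subtype.ext h) h2
        · exact Subtype.ext h
      rw [← hsq, map_pow, hφ]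
      exact Units.ext (by simp [sq])
    refine ⟨φ, ⟨c0, ?_⟩, fun c hc' => ?_⟩
    · rw [hφ]
      intro e
      have := congrArg Units.val e
      norm_num at this
    · have h4 : c * c = ⟨-1, hT.neg_one_mem⟩ := by
        have h4 : (c * c) * (c * c) = 1 := by
          have := pow_card_eq_one' (G := C) (x := c)
          rw [hT.card, h3] at this
          rw [show c * c * (c * c) = c ^ (3 + 1) by simp [pow_succ, mul_assoc]]
          exact this
        rcases PSL2.eq_pm_of_mul_self_eq_one hT.two_ne (congrArg Subtype.val h4) with h | h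
        · rcases PSL2.eq_pm_of_mul_self_eq_one hT.two_ne h with h' | h'
          · exact absurd (h' ▸ Subgroup.one_mem _) hc'
          · exact absurd (h' ▸ PSL2.neg_one_mem_center) hc'
        · exact Subtype.ext h
      have e : (φ c).val + (φ c)⁻¹.val = 0 := by
        have h : φ c * φ c = -1 := by rw [← map_mul, h4, hφm]
        rw [inv_eq_of_mul_eq_one_right (show φ c * -φ c = 1 by rw [mul_neg, h, neg_neg]), Units.val_neg]
        ring
      rw [e, neg_zero]
      have hell' := (hT.isEll c.2 hc').1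
      rcases noncusp_cases hodd χ hc with ⟨γ, -, e'⟩ | e' | e' | ⟨σ, fa, fb, -, -, hsum, -, -, e', x, hx⟩
      · rw [e', PSS_eq, PS_eq_zero γ 1 _ (noEigen_of_isEll hell')]
      · exfalso
        rw [e', trivialChar_apply, h3] at h1
        norm_num at h1
      · exfalso
        rw [e', stS_apply_one] at h1
        exact one_ne_zero (show (1 : ℂ) = 0 by linear_combination h1)
      · have hcf := IsCharacter.isClassFunction (irr_isCharacter χ)
        have hP := IsCharacter.isClassFunction (isCharacter_PSS (F := F) σ)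
        have hb : IsClassFunction _ fb := by
          rcases e' with e' | e'
          · intro g k
            have := hP g k
            rw [hsum, Pi.add_apply, Pi.add_apply] at this
            have h' := hcf g k
            rw [e'] at h'
            linear_combination this - h'
          · exact e' ▸ hcf
        have hs := congrFun hsum (c : Matrix.SpecialLinearGroup (Fin 2) F)
        rw [PSS_eq, PS_eq_zero σ 1 _ (noEigen_of_isEll hell'), Pi.add_apply,
          half_eq_of_tr hx hb _ hell'.sq_ne_four] at hs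
        rcases e' with e' | e' <;> rw [e']
        · linear_combination (-1 / 2 : ℂ) * hs
        · rw [half_eq_of_tr hx hb _ hell'.sq_ne_four]
          linear_combination (-1 / 2 : ℂ) * hs


/-- Let F be a finite field with q elements, q odd, and C a cyclic subgroup of order q + 1 of SL₂ over F (a non-split torus; it contains the centre). For every homomorphism θ from C to the non-zero complex numbers with θ² ≠ 1 there is an irreducible complex character χ of degree q − 1 such that χ(c) = −θ(c) − θ(c)⁻¹ for every non-central c in C, χ(zg) = θ(z)χ(g) for central z in C, χ vanishes at diagonal elements with entry a, a² ≠ 1, and χ takes the value −1 at every upper unitriangular element other than 1. Conversely every irreducible character of degree q − 1 has, for some such θ, the values −θ(c) − θ(c)⁻¹ at the non-central elements c of C (for q ≥ 5 these are exactly the cuspidal characters of degree q − 1). -/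
theorem result {F : Type*} [Field F] [Fintype F] (hodd : Odd (Fintype.card F))
    (C : Subgroup (Matrix.SpecialLinearGroup (Fin 2) F)) (hC : IsCyclic C) (hcard : Nat.card C = Fintype.card F + 1) :
    (∀ θ : C →* ℂˣ, (∃ c : C, θ c ^ 2 ≠ 1) →
      ∃ χ : Matrix.SpecialLinearGroup (Fin 2) F → ℂ, Cfsg.IsIrrCharacter (Matrix.SpecialLinearGroup (Fin 2) F) χ ∧ χ 1 = (Fintype.card F : ℂ) - 1 ∧
        (∀ c : C, (c : Matrix.SpecialLinearGroup (Fin 2) F) ∉ Subgroup.center (Matrix.SpecialLinearGroup (Fin 2) F) → χ c = -((θ c).val + (θ c)⁻¹.val)) ∧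
        (∀ c : C, (c : Matrix.SpecialLinearGroup (Fin 2) F) ∈ Subgroup.center (Matrix.SpecialLinearGroup (Fin 2) F) → ∀ g : Matrix.SpecialLinearGroup (Fin 2) F, χ ((c : Matrix.SpecialLinearGroup (Fin 2) F) * g) = (θ c).val * χ g) ∧
        (∀ g : Matrix.SpecialLinearGroup (Fin 2) F, (g : Matrix (Fin 2) (Fin 2) F) 0 1 = 0 → (g : Matrix (Fin 2) (Fin 2) F) 1 0 = 0 → (g : Matrix (Fin 2) (Fin 2) F) 0 0 ^ 2 ≠ 1 → χ g = 0) ∧
        (∀ g : Matrix.SpecialLinearGroup (Fin 2) F, (g : Matrix (Fin 2) (Fin 2) F) 1 0 = 0 → (g : Matrix (Fin 2) (Fin 2) F) 0 0 = 1 → (g : Matrix (Fin 2) (Fin 2) F) 1 1 = 1 → (g : Matrix (Fin 2) (Fin 2) F) 0 1 ≠ 0 → χ g = -1)) ∧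
    (∀ χ : Matrix.SpecialLinearGroup (Fin 2) F → ℂ, Cfsg.IsIrrCharacter (Matrix.SpecialLinearGroup (Fin 2) F) χ → χ 1 = (Fintype.card F : ℂ) - 1 →
      ∃ θ : C →* ℂˣ, (∃ c : C, θ c ^ 2 ≠ 1) ∧
        ∀ c : C, (c : Matrix.SpecialLinearGroup (Fin 2) F) ∉ Subgroup.center (Matrix.SpecialLinearGroup (Fin 2) F) → χ c = -((θ c).val + (θ c)⁻¹.val)) := by
  classical
  haveI := Fintype.ofFinite C
  have hT : GL2Char.Torus C := ⟨GL2Char.two_ne_zero_of_odd_card hodd, hcard, hC⟩
  refine ⟨fun θ hθ => ?_, fun χ hχ h1 => deg_sub_one hodd hT ⟨χ, hχ⟩ h1⟩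
  obtain ⟨α, hα⟩ := hT.exists_compat θ
  have h2 : ¬ ∀ c, θ c ^ 2 = 1 := by simpa using hθ
  refine ⟨GL2Char.XC C α θ, hT.isIrr_XC α θ hα h2, hT.XC_one α θ, fun c hc => hT.XC_noncentral α θ c hc,
    fun c hc g => ?_, fun g h01 h10 hne => ?_, fun g h10 h00 h11 h01 => ?_⟩
  · have h := GL2Char.center_mul_apply ⟨_, hT.isIrr_XC α θ hα h2⟩ hc g
    simp only at h
    refine mul_left_cancel₀ (GL2Char.q_sub_one_ne_zero (F := F)) ?_
    rw [hT.XC_one] at h
    rw [h]
    rcases PSL2.mem_center_iff_pm.1 hc with h' | h'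
    · rw [h', hT.XC_one, show c = 1 from Subtype.ext h', map_one, Units.val_one]
      ring
    · rw [h', hT.XC_neg_one α θ hα, hα, show c = ⟨-1, hT.neg_one_mem⟩ from Subtype.ext h']
      ring
  · have hd := g.2
    rw [Matrix.det_fin_two, h10, mul_zero, sub_zero] at hd
    have ha : g.1 0 0 ≠ 0 := left_ne_zero_of_mul_eq_one hd
    have e : g = (GL2Char.bmkS (Units.mk0 _ ha, 0) : Matrix.SpecialLinearGroup (Fin 2) F) :=
      PSL2.ext2 rfl h01 h10 (eq_inv_of_mul_eq_one_right hd)
    rw [e, hT.XC_borel α θ _ _ (Or.inl hne), if_pos (by simpa using hne)]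
  · have e : g = (GL2Char.bmkS (1, g.1 0 1) : Matrix.SpecialLinearGroup (Fin 2) F) :=
      PSL2.ext2 h00 rfl h10 (by rw [h11]; simp [GL2Char.bmkS])
    rw [e, hT.XC_borel α θ _ _ (Or.inr h01), if_neg (by simp), Units.val_one, map_one]

end Cfsg.Agent.S2434
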