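import Cfsg.Statements.S2435
import Cfsg.Agent.Lib.GL2Char.SLCuspidal

set_option autoImplicit false
open Cfsg

namespace Cfsg.Agent.S2435

theorem sigma_nonsquare {F : Type*} [Field F] (h2 : (2 : F) ≠ 0) [Fintype F] (σ : MulChar F ℂ) (hσ : σ ^ 2 = 1) (hσ1 : σ ≠ 1)
    {a : F} (ha0 : a ≠ 0) : (IsSquare a → σ a = 1) ∧ (¬ IsSquare a → σ a = -1) := by
  have hsq : ∀ r : F, r ≠ 0 → σ r * σ r = 1 := fun r hr => by
    have := congrArg (fun f : MulChar F ℂ => f r) hσ
    simpa [sq, MulChar.one_apply (IsUnit.mk0 r hr)] using this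
  refine ⟨fun ⟨r, hr⟩ => ?_, fun ha => ?_⟩
  · rw [hr, map_mul, hsq r fun h => ha0 (by rw [hr, h, zero_mul])]
  · refine (mul_self_eq_one_iff.1 (hsq a ha0)).resolve_left fun h1 => hσ1 (MulChar.ext fun b => ?_)
    rw [MulChar.one_apply_coe]
    by_cases hb : IsSquare (b : F)
    · obtain ⟨r, hr⟩ := hb
      rw [hr, map_mul, hsq r fun h => b.ne_zero (by rw [hr, h, zero_mul])]
    · obtain ⟨r, hr⟩ := GL2Char.isSquare_mul_of_not h2 ha hb
      have := congrArg σ hr
      rw [map_mul, map_mul, h1, one_mul, hsq r fun h => mul_ne_zero ha0 b.ne_zero (by rw [hr, h, zero_mul])] at this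
      exact this


/-- Let F be a finite field with q elements, q odd and q ≥ 5, and χ an irreducible complex character of SL₂ over F. If χ has degree (q + 1)/2, then at a diagonal element with entry a, a² ≠ 1, χ takes the value 1 when a is a square in F and −1 otherwise. If χ has degree (q − 1)/2, then at an element g with no eigenvector in F² (so g has order dividing q + 1), χ takes the value −1 when g raised to the power (q + 1)/2 is the identity and the value 1 otherwise. -/
theorem result {F : Type*} [Field F] [Fintype F] (hodd : Odd (Fintype.card F)) (hq : 5 ≤ Fintype.card F)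
    (χ : Matrix.SpecialLinearGroup (Fin 2) F → ℂ) (hχ : Cfsg.IsIrrCharacter (Matrix.SpecialLinearGroup (Fin 2) F) χ) (g : Matrix.SpecialLinearGroup (Fin 2) F) :
    (χ 1 = (((Fintype.card F + 1) / 2 : ℕ) : ℂ) → (g : Matrix (Fin 2) (Fin 2) F) 0 1 = 0 → (g : Matrix (Fin 2) (Fin 2) F) 1 0 = 0 → (g : Matrix (Fin 2) (Fin 2) F) 0 0 ^ 2 ≠ 1 →
      (IsSquare ((g : Matrix (Fin 2) (Fin 2) F) 0 0) → χ g = 1) ∧ (¬ IsSquare ((g : Matrix (Fin 2) (Fin 2) F) 0 0) → χ g = -1)) ∧
    (χ 1 = (((Fintype.card F - 1) / 2 : ℕ) : ℂ) → (∀ (c : F) (v : Fin 2 → F), v ≠ 0 → (g : Matrix (Fin 2) (Fin 2) F).mulVec v ≠ c • v) →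
      (((g ^ ((Fintype.card F + 1) / 2)) : Matrix (Fin 2) (Fin 2) F) = 1 → χ g = -1) ∧ (((g ^ ((Fintype.card F + 1) / 2)) : Matrix (Fin 2) (Fin 2) F) ≠ 1 → χ g = 1)) := by
  classical
  have h2 : (2 : F) ≠ 0 := GL2Char.two_ne_zero_of_odd_card hodd
  refine ⟨fun h1 h01 h10 hne => ?_, fun h1 hnoeig => ?_⟩
  · have hd := g.2
    rw [Matrix.det_fin_two, h10, mul_zero, sub_zero] at hd
    have ha : g.1 0 0 ≠ 0 := left_ne_zero_of_mul_eq_one hd
    have hncusp : ¬ GL2Char.IsCuspS (F := F) ⟨χ, hχ⟩ := fun hc => by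
      obtain ⟨k, hk⟩ := hodd
      rcases GL2Char.cusp_degree ⟨k, hk⟩ _ hc with h | h <;> simp only [h1, hk] at h
      · rw [show (2 * k + 1 + 1) / 2 = k + 1 by omega] at h
        have : ((2 * k : ℕ) : ℂ) = ((k + 1 : ℕ) : ℂ) := by push_cast at h ⊢; linear_combination -h
        have := Nat.cast_injective this
        omega
      · have := Nat.cast_injective h
        omega
    rcases GL2Char.noncusp_cases hodd _ hncusp with ⟨γ, -, e⟩ | e | e | ⟨σ, fa, fb, hσ, hσ1, hsum, -, -, e, x, hx⟩
    · exfalso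
      simp only at e
      rw [e, GL2Char.PSS_one'] at h1
      have : ((Fintype.card F + 1 : ℕ) : ℂ) = (((Fintype.card F + 1) / 2 : ℕ) : ℂ) := by push_cast; exact h1
      have := Nat.cast_injective this
      omega
    · exfalso
      have e' : χ = (Char.trivialChar (Matrix.SpecialLinearGroup (Fin 2) F)).1 := congrArg Subtype.val e
      rw [e', Char.trivialChar_apply] at h1
      have := Nat.cast_injective ((Nat.cast_one (R := ℂ)).trans h1)
      omega
    · exfalso
      have e' : χ = (GL2Char.stS (F := F)).1 := congrArg Subtype.val e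
      rw [e', GL2Char.stS_apply_one] at h1
      have := Nat.cast_injective h1
      omega
    · simp only at e
      have hcf := Char.IsCharacter.isClassFunction (Char.IsIrrCharacter.isCharacter hχ)
      have hP := Char.IsCharacter.isClassFunction (GL2Char.isCharacter_PSS (F := F) σ)
      have hb : IsClassFunction _ fb := by
        rcases e with e | e
        · intro y k
          have := hP y k
          rw [hsum, Pi.add_apply, Pi.add_apply] at this
          have h' := hcf y k
          rw [e] at h'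
          linear_combination this - h'
        · exact e ▸ hcf
      have htr : PSL2.tr g ^ 2 ≠ 4 := fun h4 => hne (by
        rw [PSL2.tr_def] at h4
        have h0 : (g.1 0 0 - g.1 1 1) ^ 2 = 0 := by linear_combination h4 - 4 * hd
        have h5 := sub_eq_zero.1 (pow_eq_zero_iff two_ne_zero |>.1 h0)
        rw [sq]; nth_rw 2 [h5]; exact hd)
      have heq := GL2Char.half_eq_of_tr hx hb g htr
      have hval : GL2Char.PSS σ g = σ (g.1 0 0) + σ (g.1 0 0) := by
        have hb' : g = (GL2Char.bmkS (Units.mk0 _ ha, 0) : Matrix.SpecialLinearGroup (Fin 2) F) :=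
          PSL2.ext2 rfl h01 h10 (eq_inv_of_mul_eq_one_right hd)
        conv_lhs => rw [hb', GL2Char.PSS_bmkS_cases]
        rw [if_pos (by simpa using hne), inv_eq_of_mul_eq_one_right (a := σ) (by rw [← sq, hσ])]
        simp
      have hχg : χ g = σ (g.1 0 0) := by
        rw [hsum, Pi.add_apply, heq] at hval
        rcases e with e | e <;> rw [e]
        · linear_combination (1 / 2 : ℂ) * hval
        · rw [heq]; linear_combination (1 / 2 : ℂ) * hval
      rw [hχg]
      exact sigma_nonsquare h2 σ hσ hσ1 ha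
  · have hell : PSL2.IsEll (PSL2.tr g) := fun r hr => by
      obtain ⟨v, hv, hv0⟩ := (Matrix.exists_mulVec_eq_zero_iff (M := g.1 - r • (1 : Matrix (Fin 2) (Fin 2) F))).2 (by
        rw [PSL2.tr_def] at hr
        simp [Matrix.det_fin_two]
        linear_combination hr + PSL2.det_eq g)
      exact hnoeig r v hv (by rwa [Matrix.sub_mulVec, Matrix.smul_mulVec, Matrix.one_mulVec, sub_eq_zero] at hv0)
    have hT : GL2Char.Torus (PSL2.cent g) := ⟨h2, hell.card_cent, hell.isCyclic_cent⟩
    haveI := Fintype.ofFinite (PSL2.cent g)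
    let θ : IrrCharacter (Matrix.SpecialLinearGroup (Fin 2) F) := ⟨χ, hχ⟩
    have hcusp : GL2Char.IsCuspS θ := by
      by_contra hc
      obtain ⟨k, hk⟩ := hodd
      rcases GL2Char.noncusp_degree ⟨k, hk⟩ θ hc with h | h | h | h <;> simp only [θ, h1, hk] at h
      · have : (((2 * k + 1 - 1) / 2 : ℕ) : ℂ) = ((2 * k + 1 + 1 : ℕ) : ℂ) := by push_cast at h ⊢; exact h
        have := Nat.cast_injective this
        omega
      · have := Nat.cast_injective (h.trans (Nat.cast_one (R := ℂ)).symm)
        omega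
      · have := Nat.cast_injective h
        omega
      · have := Nat.cast_injective h
        omega
    obtain ⟨φ₀, hφ₀, hiff, hquad⟩ := hT.exists_quadratic
    have h0 : φ₀ ≠ 1 := fun e => by
      obtain ⟨c0, -, -, hgen⟩ := hT.exists_gen
      have hord : orderOf c0 = Fintype.card F + 1 := by rw [orderOf_eq_card_of_forall_mem_zpowers hgen, hT.card]
      have h := (hiff c0).1 (by rw [e, MonoidHom.one_apply])
      rw [← Subgroup.coe_pow, OneMemClass.coe_eq_one, ← orderOf_dvd_iff_pow_eq_one, hord] at h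
      have := Nat.le_of_dvd (by omega) h
      omega
    have hd : 2 * χ 1 = (Fintype.card F : ℂ) - 1 := by
      obtain ⟨k, hk⟩ := hodd
      rw [h1, hk, show (2 * k + 1 - 1) / 2 = k by omega]
      push_cast
      ring
    have horth : ∀ φ : PSL2.cent g →* ℂˣ, ∀ α, hT.Compat α φ → ¬ (∀ c, φ c ^ 2 = 1) →
        classInner θ.1 (GL2Char.XC (PSL2.cent g) α φ) = 0 := fun φ α hα hn => by
      refine Char.classInner_irr_of_ne hχ (hT.isIrr_XC α φ hα hn) fun e => ?_
      have e1 := congrFun e 1
      simp only [θ] at e1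
      rw [hT.XC_one, ← hd] at e1
      exact Char.IsIrrCharacter.apply_one_ne_zero hχ (by linear_combination -e1)
    have hval := (hT.cusp_values θ hcusp φ₀ h0 hquad horth).1 ⟨g, PSL2.mem_cent.2 (Commute.refl g)⟩ hell.not_mem_center
    have hθ : -2 * θ.1 1 / ((Fintype.card F : ℂ) - 1) = -1 := by
      rw [div_eq_iff (GL2Char.q_sub_one_ne_zero (F := F))]
      linear_combination -hd
    rw [hθ] at hval
    have hk : ∀ k : ℕ, ((g ^ k : Matrix.SpecialLinearGroup (Fin 2) F) = 1) ↔ ((g : Matrix (Fin 2) (Fin 2) F) ^ k = 1) := by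
      intro k
      rw [← Matrix.SpecialLinearGroup.coe_pow]
      exact ⟨fun h => by rw [h, Matrix.SpecialLinearGroup.coe_one], fun h => Subtype.ext h⟩
    have hi := (hiff ⟨g, PSL2.mem_cent.2 (Commute.refl g)⟩).trans (hk _)
    refine ⟨fun hp => ?_, fun hp => ?_⟩
    · refine hval.trans ?_
      rw [hi.2 hp]
      simp
    · refine hval.trans ?_
      have hsq : (φ₀ ⟨g, PSL2.mem_cent.2 (Commute.refl g)⟩ : ℂ) = -1 := by
        have h' := hφ₀ ⟨g, PSL2.mem_cent.2 (Commute.refl g)⟩
        rw [sq] at h'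
        exact (mul_self_eq_one_iff.1 (by rw [← Units.val_mul, h', Units.val_one])).resolve_left fun h'' => hp (hi.1 (Units.ext h''))
      rw [hsq]
      ring

end Cfsg.Agent.S2435
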