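import Cfsg.Statements.S2436
import Cfsg.Agent.Lib.GL2Char.McKay
import Cfsg.Agent.S2430

set_option autoImplicit false
open Cfsg

namespace Cfsg.Agent.S2436

open Cfsg.Agent.McKaySL2
open scoped MatrixGroups

/-- Let F be a finite field with q elements, q odd, ℓ any prime and S a Sylow ℓ-subgroup of SL₂ over F with normaliser N. Then SL₂ and N have the same number of irreducible complex characters of degree not divisible by ℓ (the McKay equality holds for SL₂ over F at every prime). -/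
theorem result {F : Type*} [Field F] [Fintype F] (hodd : Odd (Fintype.card F)) (ℓ : ℕ) [Fact ℓ.Prime] (S : Sylow ℓ (Matrix.SpecialLinearGroup (Fin 2) F)) :
    Nat.card {χ : Cfsg.IrrCharacter (Matrix.SpecialLinearGroup (Fin 2) F) // ¬ ℓ ∣ Cfsg.charDegree (χ : Matrix.SpecialLinearGroup (Fin 2) F → ℂ)} =
      Nat.card {ψ : Cfsg.IrrCharacter (Subgroup.normalizer ((S : Subgroup (Matrix.SpecialLinearGroup (Fin 2) F)) : Set (Matrix.SpecialLinearGroup (Fin 2) F))) //
        ¬ ℓ ∣ Cfsg.charDegree (ψ : Subgroup.normalizer ((S : Subgroup (Matrix.SpecialLinearGroup (Fin 2) F)) : Set (Matrix.SpecialLinearGroup (Fin 2) F)) → ℂ)} := by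
  classical
  show kPrime ℓ SL(2, F) = kPrime ℓ (Subgroup.normalizer ((S : Subgroup SL(2, F)) : Set SL(2, F)))
  have h2 := PSL2.odd_card_iff.1 hodd
  obtain ⟨m, hm⟩ := id hodd
  have hm1 : 1 ≤ m := by
    have := Fintype.one_lt_card (α := F)
    omega
  have hlp := Fact.out (p := ℓ.Prime)
  have hl1 : ¬ ℓ ∣ 1 := hlp.not_dvd_one
  rcases eq_or_ne ℓ 2 with rfl | hl2
  · rw [kPrime_two_normalizer hodd S, kPrime_SL hm]
    rcases Nat.mod_two_eq_zero_or_one m with h | h <;>
      simp [Nat.dvd_iff_mod_eq_zero, Nat.add_mod, Nat.mul_mod, h]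
  by_cases hdG : ℓ ∣ Nat.card SL(2, F)
  swap
  · have hS : (S : Subgroup SL(2, F)) = ⊥ := by
      obtain ⟨i, hi⟩ := IsPGroup.iff_card.1 S.isPGroup'
      rcases Nat.eq_zero_or_pos i with rfl | h0
      · exact Subgroup.card_eq_one.1 (by simpa using hi)
      · exact absurd ((hi ▸ dvd_pow_self ℓ h0.ne').trans (Subgroup.card_subgroup_dvd_card _)) hdG
    have hN : Subgroup.normalizer ((S : Subgroup SL(2, F)) : Set SL(2, F)) = ⊤ := by
      rw [hS]; exact Subgroup.normalizer_eq_top_iff.2 inferInstance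
    rw [hN]
    exact kPrime_congr ℓ Subgroup.topEquiv.symm
  obtain ⟨p, hp⟩ := CharP.exists F
  haveI := Fact.mk (CharP.char_is_prime F p)
  by_cases hpl : p = ℓ
  · subst hpl
    obtain ⟨g, hg⟩ := MulAction.exists_smul_eq SL(2, F) (PSL2.unipSylow F p) S
    have hS : (S : Subgroup SL(2, F)) = (PSL2.unip F).map (MulAut.conj g).toMonoidHom := by
      rw [← hg]; rfl
    have hN : Subgroup.normalizer ((S : Subgroup SL(2, F)) : Set SL(2, F)) =
        (PSL2.borel F).map (MulAut.conj g).toMonoidHom := by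
      rw [hS, ← PSL2.normalizer_unip]
      exact (Subgroup.map_equiv_normalizer_eq (PSL2.unip F) (MulAut.conj g)).symm
    rw [hN, ← kPrime_congr p ((PSL2.borel F).equivMapOfInjective (MulAut.conj g).toMonoidHom
      (MulAut.conj g).injective), kPrime_borel hodd p, kPrime_SL hm, hm]
    have hq : p ∣ 2 * m + 1 := hm ▸ PSL2.p_dvd_q (F := F) p
    have a1 : ¬ p ∣ 2 * m := fun h => hl1 ((Nat.dvd_add_right h).1 hq)
    have a2 : ¬ p ∣ 2 * m + 2 := fun h => hl1 ((Nat.dvd_add_right hq).1 h)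
    have a3 : ¬ p ∣ m := fun h => a1 (h.mul_left 2)
    have a4 : ¬ p ∣ m + 1 := fun h => a2 (by
      have := h.mul_left 2
      rwa [mul_add, mul_one] at this)
    rw [if_neg hl1, if_pos hq, if_neg a1, if_neg a2, if_neg a3, if_neg a4]
    omega
  have hnq : ¬ ℓ ∣ 2 * m + 1 := by
    obtain ⟨k, hk, hq⟩ := FiniteField.card F p
    rw [← hm, hq]
    exact fun h => hpl ((Nat.prime_dvd_prime_iff_eq hlp hk).1 (hlp.dvd_of_dvd_pow h)).symm
  have hd : ℓ ∣ Fintype.card F - 1 ∨ ℓ ∣ Fintype.card F + 1 := by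
    rw [PSL2.card_SL', hm] at hdG
    rw [hm]
    rcases hlp.dvd_mul.1 hdG with h | h
    · rcases hlp.dvd_mul.1 h with h | h
      · exact absurd h hnq
      · exact Or.inl h
    · exact Or.inr h
  have h2l := hlp.two_le
  -- the centraliser of `S` is a torus
  set C := Subgroup.centralizer ((S : Subgroup SL(2, F)) : Set SL(2, F)) with hC
  obtain ⟨c, hc, hcyc, hN⟩ : ∃ c, (c = 2 * m ∧ ℓ ∣ 2 * m ∨ c = 2 * m + 2 ∧ ℓ ∣ 2 * m + 2) ∧
      (Nat.card C = c ∧ IsCyclic C) ∧
        Nat.card (Subgroup.normalizer ((S : Subgroup SL(2, F)) : Set SL(2, F))) = 2 * c := by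
    rcases hd with h | h
    · obtain ⟨a, b, d⟩ := (S2430.result hodd ℓ hl2 S).1 h
      rw [hm, show 2 * m + 1 - 1 = 2 * m by omega] at a d h
      exact ⟨_, Or.inl ⟨rfl, h⟩, ⟨a, b⟩, d⟩
    · obtain ⟨a, b, d⟩ := (S2430.result hodd ℓ hl2 S).2 h
      rw [hm] at a d h
      exact ⟨_, Or.inr ⟨rfl, h⟩, ⟨a, b⟩, d⟩
  obtain ⟨hcC, hcyc⟩ := hcyc
  obtain ⟨g, hg⟩ := (Subgroup.isCyclic_iff_exists_zpowers_eq_top C).1 hcyc
  have hgo : orderOf g = c := by rw [← hcC, ← hg, Nat.card_zpowers]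
  have hc3 : 3 ≤ c ∧ Nat.Coprime c (2 * m + 1) := by
    refine ⟨?_, ?_⟩
    · rcases hc with ⟨rfl, h⟩ | ⟨rfl, h⟩
      · by_contra h3
        have : 2 * m = 2 := by omega
        exact hl2 ((Nat.prime_dvd_prime_iff_eq hlp Nat.prime_two).1 (this ▸ h))
      · omega
    · rcases hc with ⟨rfl, h⟩ | ⟨rfl, h⟩
      · simp
      · rw [show 2 * m + 2 = 2 * m + 1 + 1 by ring]; simp
  have hgc : g ∉ Subgroup.center SL(2, F) := fun h => by
    have hle : orderOf g ≤ 2 := by
      rcases PSL2.mem_center_iff_pm.1 h with e | e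
      · rw [e, orderOf_one]; omega
      · rw [e, PSL2.orderOf_neg_one h2]
    omega
  have h4 : PSL2.tr g ^ 2 ≠ 4 := by
    intro h4
    obtain ⟨k, hk⟩ := PSL2.parabolic_of_tr hgc h4
    have hz : g ∈ (PSL2.pmUnip F).map (MulAut.conj k).toMonoidHom :=
      hk ▸ PSL2.mem_cent.2 (Commute.refl g)
    have hd' := Subgroup.orderOf_dvd_natCard _ hz
    rw [hgo, PSL2.Part.Partition.card_map_conj, PSL2.card_pmUnip, hm] at hd'
    have := Nat.le_of_dvd two_pos ((hc3.2.dvd_of_dvd_mul_right hd').trans (Nat.gcd_dvd_left _ _))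
    omega
  have hCeq : C = PSL2.cent g := by
    have hle : C ≤ PSL2.cent g := hg ▸ Subgroup.zpowers_le.2 (PSL2.mem_cent.2 (Commute.refl g))
    refine Subgroup.eq_of_le_of_card_ge hle ?_
    have hd' := Subgroup.card_dvd_of_le hle
    rw [hcC] at hd' ⊢
    rcases PSL2.card_cent_of_tr h4 with e | e <;> rw [e, hm] at hd' <;> rw [e, hm]
    · rw [show 2 * m + 1 - 1 = 2 * m by omega] at hd' ⊢
      rcases hc with ⟨rfl, -⟩ | ⟨rfl, -⟩
      · omega
      · exact absurd (Nat.le_of_dvd (by omega) hd') (by omega)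
    · rcases hc with ⟨rfl, -⟩ | ⟨rfl, -⟩
      · exfalso
        have := Nat.le_of_dvd two_pos ((Nat.dvd_add_right (dvd_refl (2 * m))).1 hd')
        omega
      · omega
  have hNeq : Subgroup.normalizer ((S : Subgroup SL(2, F)) : Set SL(2, F)) =
      Subgroup.normalizer (PSL2.cent g : Set SL(2, F)) := by
    refine Subgroup.eq_of_le_of_card_ge ?_ ?_
    · rw [← hCeq, hC]
      intro x hx
      rw [Subgroup.mem_normalizer_iff]
      intro y
      constructor
      · intro hy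
        rw [Subgroup.mem_centralizer_iff] at hy ⊢
        intro s hs
        have := hy (x⁻¹ * s * x) (by
          have := (Subgroup.mem_normalizer_iff.1 (inv_mem hx) s).1 hs
          rw [inv_inv] at this; exact this)
        calc s * (x * y * x⁻¹) = x * ((x⁻¹ * s * x) * y) * x⁻¹ := by group
          _ = _ := by rw [this]; group
      · intro hy
        rw [Subgroup.mem_centralizer_iff] at hy ⊢
        intro s hs
        have := hy (x * s * x⁻¹) ((Subgroup.mem_normalizer_iff.1 hx s).1 hs)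
        calc s * y = x⁻¹ * ((x * s * x⁻¹) * (x * y * x⁻¹)) * x := by group
          _ = _ := by rw [this]; group
    · rw [hN, PSL2.card_normalizer_cent h4, ← hCeq, hcC]
  have hk := kPrime_torus (l := ℓ) hl2 hodd h4
  rw [← hNeq, ← hCeq, hcC] at hk
  rw [kPrime_SL hm]
  have hodd2 : ∀ x, ℓ ∣ 2 * x → ℓ ∣ x := fun x h =>
    (hlp.dvd_mul.1 h).resolve_left fun h' => hl2 ((Nat.prime_dvd_prime_iff_eq hlp Nat.prime_two).1 h')
  rcases hc with ⟨rfl, h⟩ | ⟨rfl, h⟩
  · have a2 : ¬ ℓ ∣ 2 * m + 2 := fun h' => hl2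
      ((Nat.prime_dvd_prime_iff_eq hlp Nat.prime_two).1 ((Nat.dvd_add_right h).1 h'))
    have a4 : ¬ ℓ ∣ m + 1 := fun h' => a2 (by
      have := h'.mul_left 2
      rwa [mul_add, mul_one] at this)
    rw [if_neg hl1, if_neg hnq, if_neg a4, if_neg a2, if_pos (hodd2 m h), if_pos h]
    omega
  · have a1 : ¬ ℓ ∣ 2 * m := fun h' => hl2
      ((Nat.prime_dvd_prime_iff_eq hlp Nat.prime_two).1 ((Nat.dvd_add_right h').1 h))
    have a3 : ¬ ℓ ∣ m := fun h' => a1 (h'.mul_left 2)
    rw [if_neg hl1, if_neg hnq, if_pos (hodd2 (m + 1) (by rwa [mul_add, mul_one])), if_pos h,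
      if_neg a3, if_neg a1]
    omega

end Cfsg.Agent.S2436
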