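import Cfsg.Statements.S2437
import Cfsg.Agent.Lib.PSL2.TorusClasses

set_option autoImplicit false
open Cfsg Matrix
open scoped MatrixGroups

namespace Cfsg.Agent.S2437

/-- Over a finite field F with q elements, q odd, the upper triangular subgroup of SL₂ (a Borel subgroup, of order q(q − 1)) has exactly q + 3 conjugacy classes. -/
theorem result {F : Type*} [Field F] [Fintype F] (hodd : Odd (Fintype.card F)) :
    Nat.card (ConjClasses ((Cfsg.upperTriangularGL 2 F).comap Matrix.SpecialLinearGroup.toGL)) = Fintype.card F + 3 := by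
  have h2 := Cfsg.Agent.PSL2.odd_card_iff.1 hodd
  rw [show (Cfsg.upperTriangularGL 2 F).comap Matrix.SpecialLinearGroup.toGL =
    Cfsg.Agent.PSL2.borel F from ?_]
  · exact Cfsg.Agent.PSL2.card_conjClasses_borel h2
  ext g
  rw [Cfsg.Agent.PSL2.mem_borel]
  constructor
  · intro h
    exact h (show id (0 : Fin 2) < id 1 by decide)
  · intro h i j hij
    fin_cases i <;> fin_cases j <;> simp at hij ⊢
    exact h

end Cfsg.Agent.S2437
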