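import Cfsg.Statements.S2438
import Cfsg.Agent.Lib.GL2Char.SLCuspidal

set_option autoImplicit false
open Cfsg

namespace Cfsg.Agent.S2438

open Cfsg.Agent.GL2Char in
theorem sum_eq {F : Type*} [Field F] [Fintype F] [DecidableEq F] (f : Matrix.SpecialLinearGroup (Fin 2) F → ℂ) :
    (∑ g : Matrix.SpecialLinearGroup (Fin 2) F, if (g : Matrix (Fin 2) (Fin 2) F) 1 0 = 0 ∧
      (g : Matrix (Fin 2) (Fin 2) F) 0 0 = 1 ∧ (g : Matrix (Fin 2) (Fin 2) F) 1 1 = 1 then f g else 0) = ∑ b, f (uni b) := by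
  rw [← Finset.sum_filter]
  refine (Finset.sum_bij' (fun b _ => uni b) (fun g _ => g.1 0 1) ?_ ?_ ?_ ?_ ?_).symm
  · intro b _
    exact Finset.mem_filter.2 ⟨Finset.mem_univ _, rfl, rfl, rfl⟩
  · exact fun g _ => Finset.mem_univ _
  · exact fun b _ => rfl
  · intro g hg
    obtain ⟨-, h10, h00, h11⟩ := Finset.mem_filter.1 hg
    exact PSL2.ext2 h00.symm rfl h10.symm h11.symm
  · exact fun b _ => rfl


/-- Let F be a finite field with q elements, q odd, q ≥ 5, U the upper unitriangular subgroup of SL₂ over F, and χ an irreducible complex character. The sum of the values of χ over U equals 2q, q, 0, q, 0 according as the degree of χ is q + 1, q, q − 1, (q + 1)/2, (q − 1)/2; so among these five degrees the sum vanishes exactly for the degrees q − 1 and (q − 1)/2, i.e. the irreducible characters of those two degrees are the ones whose restriction to U does not contain the trivial character (the cuspidal characters), while those of degree q + 1, q and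 (q + 1)/2 are not cuspidal. -/
theorem result {F : Type*} [Field F] [Fintype F] [DecidableEq F] (hodd : Odd (Fintype.card F)) (hq : 5 ≤ Fintype.card F)
    (χ : Matrix.SpecialLinearGroup (Fin 2) F → ℂ) (hχ : Cfsg.IsIrrCharacter (Matrix.SpecialLinearGroup (Fin 2) F) χ) :
    (χ 1 = (Fintype.card F : ℂ) + 1 →
      (∑ g : Matrix.SpecialLinearGroup (Fin 2) F, if (g : Matrix (Fin 2) (Fin 2) F) 1 0 = 0 ∧ (g : Matrix (Fin 2) (Fin 2) F) 0 0 = 1 ∧ (g : Matrix (Fin 2) (Fin 2) F) 1 1 = 1 then χ g else 0) = 2 * (Fintype.card F : ℂ)) ∧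
    (χ 1 = (Fintype.card F : ℂ) →
      (∑ g : Matrix.SpecialLinearGroup (Fin 2) F, if (g : Matrix (Fin 2) (Fin 2) F) 1 0 = 0 ∧ (g : Matrix (Fin 2) (Fin 2) F) 0 0 = 1 ∧ (g : Matrix (Fin 2) (Fin 2) F) 1 1 = 1 then χ g else 0) = (Fintype.card F : ℂ)) ∧
    (χ 1 = (Fintype.card F : ℂ) - 1 →
      (∑ g : Matrix.SpecialLinearGroup (Fin 2) F, if (g : Matrix (Fin 2) (Fin 2) F) 1 0 = 0 ∧ (g : Matrix (Fin 2) (Fin 2) F) 0 0 = 1 ∧ (g : Matrix (Fin 2) (Fin 2) F) 1 1 = 1 then χ g else 0) = 0) ∧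
    (χ 1 = (((Fintype.card F + 1) / 2 : ℕ) : ℂ) →
      (∑ g : Matrix.SpecialLinearGroup (Fin 2) F, if (g : Matrix (Fin 2) (Fin 2) F) 1 0 = 0 ∧ (g : Matrix (Fin 2) (Fin 2) F) 0 0 = 1 ∧ (g : Matrix (Fin 2) (Fin 2) F) 1 1 = 1 then χ g else 0) = (Fintype.card F : ℂ)) ∧
    (χ 1 = (((Fintype.card F - 1) / 2 : ℕ) : ℂ) →
      (∑ g : Matrix.SpecialLinearGroup (Fin 2) F, if (g : Matrix (Fin 2) (Fin 2) F) 1 0 = 0 ∧ (g : Matrix (Fin 2) (Fin 2) F) 0 0 = 1 ∧ (g : Matrix (Fin 2) (Fin 2) F) 1 1 = 1 then χ g else 0) = 0) := by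
  simp only [sum_eq]
  set θ : IrrCharacter (Matrix.SpecialLinearGroup (Fin 2) F) := ⟨χ, hχ⟩
  obtain ⟨k, hk⟩ := hodd
  have h4 : ∀ a b : ℕ, χ 1 = (a : ℂ) → χ 1 = (b : ℂ) → a = b := fun a b ha hb => Nat.cast_injective (ha.symm.trans hb)
  have e1 : (Fintype.card F : ℂ) + 1 = ((2 * k + 2 : ℕ) : ℂ) := by rw [hk]; push_cast; ring
  have e2 : (Fintype.card F : ℂ) - 1 = ((2 * k : ℕ) : ℂ) := by rw [hk]; push_cast; ring
  have e3 : (Fintype.card F + 1) / 2 = k + 1 := by omega
  have e4 : (Fintype.card F - 1) / 2 = k := by omega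
  rw [e1, e2, e3, e4, hk]
  by_cases hc : GL2Char.IsCuspS θ
  · have hz : ∑ b, χ (GL2Char.uni b) = 0 := by
      simp only [GL2Char.uni_eq_bmkS]
      exact hc.sum_unipotent
    have hd : χ 1 = ((2 * k : ℕ) : ℂ) ∨ χ 1 = ((k : ℕ) : ℂ) := by
      have := GL2Char.cusp_degree ⟨k, hk⟩ θ hc
      rwa [e2, e4] at this
    refine ⟨fun h => ?_, fun h => ?_, fun _ => hz, fun h => ?_, fun _ => hz⟩ <;>
      (exfalso; rcases hd with hd | hd <;> have := h4 _ _ h hd <;> omega)
  · rcases GL2Char.noncusp_cases ⟨k, hk⟩ θ hc with ⟨γ, -, e⟩ | e | e | ⟨σ, fa, fb, -, -, hsum, ha, hb, e, x, hx⟩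
    · simp only [θ] at e
      have hd : χ 1 = ((2 * k + 2 : ℕ) : ℂ) := by rw [e, GL2Char.PSS_one', e1]
      refine ⟨fun _ => by rw [e, GL2Char.PSS_sum_uni, hk], fun h => ?_, fun h => ?_, fun h => ?_, fun h => ?_⟩ <;>
        (exfalso; have := h4 _ _ h hd; omega)
    · have hd : χ 1 = ((1 : ℕ) : ℂ) := by
        rw [show χ = (Char.trivialChar _).1 from congrArg Subtype.val e, Char.trivialChar_apply, Nat.cast_one]
      refine ⟨fun h => ?_, fun h => ?_, fun h => ?_, fun h => ?_, fun h => ?_⟩ <;>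
        (exfalso; have := h4 _ _ h hd; omega)
    · have e' : χ = (GL2Char.stS (F := F)).1 := congrArg Subtype.val e
      have hd : χ 1 = ((2 * k + 1 : ℕ) : ℂ) := by rw [e', GL2Char.stS_apply_one, hk]
      refine ⟨fun h => ?_, fun _ => by rw [e', GL2Char.stS_sum_uni, hk], fun h => ?_, fun h => ?_, fun h => ?_⟩ <;>
        (exfalso; have := h4 _ _ h hd; omega)
    · simp only [θ] at e
      have hd : χ 1 = ((k + 1 : ℕ) : ℂ) := by rcases e with e | e <;> rw [e] <;> simp [ha, hb, e3]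
      have hcf := Char.IsCharacter.isClassFunction (Char.IsIrrCharacter.isCharacter hχ)
      have hP := Char.IsCharacter.isClassFunction (GL2Char.isCharacter_PSS (F := F) σ)
      have hb' : IsClassFunction _ fb := by
        rcases e with e | e
        · intro y z
          have := hP y z
          rw [hsum, Pi.add_apply, Pi.add_apply] at this
          have h' := hcf y z
          rw [e] at h'
          linear_combination this - h'
        · exact e ▸ hcf
      have hh := GL2Char.half_sum_uni hx hb'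
      have ht := GL2Char.PSS_sum_uni (F := F) σ
      simp only [hsum, Pi.add_apply, Finset.sum_add_distrib, hh, hk] at ht
      refine ⟨fun h => ?_, fun h => ?_, fun h => ?_, fun _ => ?_, fun h => ?_⟩
      · exfalso; have := h4 _ _ h hd; omega
      · exfalso; have := h4 _ _ h hd; omega
      · exfalso; have := h4 _ _ h hd; omega
      · rcases e with e | e <;> rw [e]
        · linear_combination (1 / 2 : ℂ) * ht
        · rw [hh]; linear_combination (1 / 2 : ℂ) * ht
      · exfalso; have := h4 _ _ h hd; omega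

end Cfsg.Agent.S2438
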