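import Cfsg.Statements.S2439
import Cfsg.Agent.Lib.DefChar.Count
import Cfsg.Agent.Lib.Blocks.CountSylow

set_option autoImplicit false
open Cfsg

namespace Cfsg.Agent.S2439

open Cfsg.Agent Cfsg.Agent.Blocks

variable {F : Type*} [Field F] [Fintype F] {p : ℕ} [hp : Fact p.Prime] [CharP F p]

local notation "G₂" => Matrix.SpecialLinearGroup (Fin 2) F

omit [Fintype F] hp [CharP F p] in
theorem center_cases {z : G₂} (hz : z ∈ Subgroup.center G₂) : z = 1 ∨ z = -1 := by
  obtain ⟨r, hr, hrz⟩ := Matrix.SpecialLinearGroup.mem_center_iff.1 hz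
  rw [Fintype.card_fin, sq, mul_self_eq_one_iff] at hr
  rcases hr with rfl | rfl
  · left; ext i j; rw [← hrz]; simp
  · right; ext i j; rw [← hrz]; fin_cases i <;> fin_cases j <;> simp

omit [Fintype F] hp [CharP F p] in
theorem neg_one_mem_center : (-1 : G₂) ∈ Subgroup.center G₂ :=
  Subgroup.mem_center_iff.2 fun g => by ext : 1; simp

/-- The value at `-1` is `±` the degree. -/
theorem sign_cases (χ : IrrCharacter G₂) : χ.1 (-1) = χ.1 1 ∨ χ.1 (-1) = -χ.1 1 := by
  obtain ⟨d, ρ, hρ, hρχ⟩ := χ.2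
  haveI := hρ
  obtain ⟨c, hc⟩ := CharInt.exists_smul_one_of_mem_center (ρ := ρ) neg_one_mem_center
  haveI := CharInt.nontrivial_of_irreducible (ρ := ρ)
  have h1 : c * c = 1 := by
    have h : ρ (-1) * ρ (-1) = 1 := by rw [← map_mul]; simp
    rw [hc, smul_mul_smul_comm, one_mul] at h
    have := congrArg (LinearMap.trace ℂ (Fin d → ℂ)) h
    rw [map_smul, LinearMap.trace_one, smul_eq_mul] at this
    have hd : (Module.finrank ℂ (Fin d → ℂ) : ℂ) ≠ 0 := Nat.cast_ne_zero.2 Module.finrank_pos.ne'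
    exact mul_right_cancel₀ hd (by rw [this, one_mul])
  have hv : χ.1 (-1) = c * χ.1 1 := by
    rw [← hρχ]
    show LinearMap.trace ℂ _ (ρ (-1)) = c * LinearMap.trace ℂ _ (ρ 1)
    rw [hc, map_one, map_smul, smul_eq_mul]
  rcases mul_self_eq_one_iff.1 h1 with rfl | rfl
  · exact Or.inl (by rw [hv, one_mul])
  · exact Or.inr (by rw [hv, neg_one_mul])

theorem neg_one_ne_one (hp2 : p ≠ 2) : (-1 : G₂) ≠ 1 := fun h => by
  have h2 : (-1 : F) = 1 := by
    simpa using congrArg (fun g : G₂ => (g : Matrix (Fin 2) (Fin 2) F) 0 0) h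
  haveI : Fact (2 < p) := ⟨lt_of_le_of_ne hp.out.two_le (Ne.symm hp2)⟩
  exact CharP.neg_one_ne_one F p h2

variable {M : Ideal AlgInt} [M.IsMaximal]

/-- Characters in one block have the same sign. -/
theorem sign_of_sameBlock (hpM : (p : AlgInt) ∈ M) (hp2 : p ≠ 2) {χ ψ : IrrCharacter G₂}
    (h : SameBlock M χ.1 ψ.1) (hχ : χ.1 (-1) = χ.1 1) : ψ.1 (-1) = ψ.1 1 := by
  refine (sign_cases ψ).resolve_right fun hψ => ?_
  have hc : Subgroup.centralizer ({-1} : Set G₂) = ⊤ :=
    Subgroup.centralizer_eq_top_iff_subset.2 (Set.singleton_subset_iff.2 neg_one_mem_center)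
  have h2 := h (-1)
  rw [centralChar, centralChar, hc, Subgroup.index_top, Nat.cast_one, one_mul, one_mul, hχ, hψ,
    div_self (irr_one_ne_zero χ), neg_div, div_self (irr_one_ne_zero ψ), sub_neg_eq_add,
    show (1 : ℂ) + 1 = ((2 : ℕ) : ℂ) by norm_num, memLocalIdeal_natCast_iff hpM] at h2
  exact hp2 ((Nat.prime_dvd_prime_iff_eq hp.out Nat.prime_two).1 h2)

omit hp in
/-- Some character is negative at `-1`. -/
theorem exists_negative (hne : (-1 : G₂) ≠ 1) : ∃ χ : IrrCharacter G₂, χ.1 (-1) = -χ.1 1 := by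
  by_contra hno
  push Not at hno
  haveI := Fintype.ofFinite G₂
  obtain ⟨c, hc⟩ := isConj_iff.1 ((Char.isConj_iff_forall_irr (1 : G₂) (-1)).2
    fun χ => ((sign_cases χ).resolve_right (hno χ)).symm)
  exact hne (by rw [← hc]; group)

/-- The principal block has full defect. -/
theorem principal_ne_zero (hpM : (p : AlgInt) ∈ M) :
    blockDefect p (blockOf M (Char.trivialChar G₂).1) ≠ 0 := by
  intro h0
  obtain ⟨χ, hχ, hf⟩ := DefChar.defect_zero_singleton hpM (isPBlock_blockOf _) h0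
  have ht : Char.trivialChar G₂ ∈ ({χ} : Set (IrrCharacter G₂)) := hχ ▸ mem_blockOf_self _
  rw [Set.mem_singleton_iff] at ht
  subst ht
  have hd : Char.degree (Char.trivialChar G₂) = 1 := by
    have := Char.apply_one_eq_degree (Char.trivialChar G₂)
    rw [Char.trivialChar_apply] at this
    exact_mod_cast this.symm
  rw [hd] at hf
  have hq := DefChar.pPow_factorization_SL (F := F) (n := 2) (p := p)
  rw [← hf] at hq
  simp at hq
  exact (Fintype.one_lt_card (α := F)).ne hq

/-- At most two blocks of full defect. -/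
theorem card_full_le (hpM : (p : AlgInt) ∈ M) (P : Sylow p G₂) :
    Nat.card {B : Set (IrrCharacter G₂) // IsPBlock M B ∧ IsDefectGroup p M B (P : Subgroup G₂)} ≤ 2 := by
  classical
  have hrad := Cfsg.Agent.S0955.result p M ⟨hp.out, inferInstance, hpM⟩ _ (isPBlock_blockOf _) _
    (DefChar.isDefectGroup_sylow hpM (isPBlock_blockOf _) (principal_ne_zero hpM) P)
  have hPne : (P : Subgroup G₂) ≠ ⊥ := by
    intro h
    have hc := DefChar.pPow_factorization_SL (F := F) (n := 2) (p := p)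
    rw [← P.card_eq_multiplicity, h, Subgroup.card_bot] at hc
    simp at hc
    exact (Fintype.one_lt_card (α := F)).ne hc
  rw [card_blocks_sylow hpM P]
  refine le_trans (Nat.card_le_card_of_injective
    (fun C => (((C.1).out : Subgroup.normalizer ((P : Subgroup G₂) : Set G₂)) : G₂) = 1) ?_) ?_
  · have hcases : ∀ C : {C : ConjClasses (Subgroup.normalizer ((P : Subgroup G₂) : Set G₂)) //
        ∀ m : Subgroup.normalizer ((P : Subgroup G₂) : Set G₂), ConjClasses.mk m = C →
          ¬ p ∣ orderOf m ∧ (m : G₂) ∈ Subgroup.centralizer ((P : Subgroup G₂) : Set G₂)},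
        ((C.1.out : _) : G₂) = 1 ∨ ((C.1.out : _) : G₂) = -1 := by
      intro C
      obtain ⟨h1, h2⟩ := C.2 C.1.out (Quotient.out_eq _)
      refine center_cases ((DefChar.radical_trivial (P : Subgroup G₂) P.isPGroup' hrad _
        (by rwa [Subgroup.orderOf_coe]) fun d hd => ?_).resolve_left hPne)
      exact (Subgroup.mem_centralizer_iff.1 h2 d hd).symm
    intro C C' h
    have h' : ((C.1.out : _) : G₂) = 1 ↔ ((C'.1.out : _) : G₂) = 1 := Iff.of_eq h
    refine Subtype.ext ((Quotient.out_eq C.1).symm.trans ((congrArg _ (Subtype.ext ?_)).trans (Quotient.out_eq C'.1)))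
    rcases hcases C with hC | hC <;> rcases hcases C' with hC' | hC'
    · rw [hC, hC']
    · rw [hC, h'.1 hC]
    · rw [hC', h'.2 hC']
    · rw [hC, hC']
  · rw [Nat.card_eq_fintype_card, Fintype.card_prop]

/-- Let F be a finite field with q elements of odd characteristic p, and M a maximal ideal of the algebraic integers containing p. Then SL₂ over F has exactly three p-blocks relative to M: the irreducible character of degree q (the Steinberg character) alone; the other irreducible characters taking the same value at −1 as at 1 (the principal block); and the irreducible characters χ with χ(−1) = −χ(1). Every Sylow p-subgroup is a defect group of each of the last two blocks. -/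
theorem result {F : Type*} [Field F] [Fintype F] (p : ℕ) [Fact p.Prime] [CharP F p] (hp : p ≠ 2)
    (M : Ideal Cfsg.AlgInt) (hM : Cfsg.IsPModular p M) :
    (∀ B : Set (Cfsg.IrrCharacter (Matrix.SpecialLinearGroup (Fin 2) F)), Cfsg.IsPBlock M B ↔
      (B = {χ : Cfsg.IrrCharacter (Matrix.SpecialLinearGroup (Fin 2) F) | (χ : Matrix.SpecialLinearGroup (Fin 2) F → ℂ) 1 = (Fintype.card F : ℂ)} ∨
       B = {χ : Cfsg.IrrCharacter (Matrix.SpecialLinearGroup (Fin 2) F) | (χ : Matrix.SpecialLinearGroup (Fin 2) F → ℂ) (-1) = (χ : Matrix.SpecialLinearGroup (Fin 2) F → ℂ) 1 ∧ (χ : Matrix.SpecialLinearGroup (Fin 2) F → ℂ) 1 ≠ (Fintype.card F : ℂ)} ∨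
       B = {χ : Cfsg.IrrCharacter (Matrix.SpecialLinearGroup (Fin 2) F) | (χ : Matrix.SpecialLinearGroup (Fin 2) F → ℂ) (-1) = -(χ : Matrix.SpecialLinearGroup (Fin 2) F → ℂ) 1})) ∧
    Nat.card {B : Set (Cfsg.IrrCharacter (Matrix.SpecialLinearGroup (Fin 2) F)) // Cfsg.IsPBlock M B} = 3 ∧
    ∀ P : Sylow p (Matrix.SpecialLinearGroup (Fin 2) F),
      Cfsg.IsDefectGroup p M {χ : Cfsg.IrrCharacter (Matrix.SpecialLinearGroup (Fin 2) F) | (χ : Matrix.SpecialLinearGroup (Fin 2) F → ℂ) (-1) = (χ : Matrix.SpecialLinearGroup (Fin 2) F → ℂ) 1 ∧ (χ : Matrix.SpecialLinearGroup (Fin 2) F → ℂ) 1 ≠ (Fintype.card F : ℂ)} (P : Subgroup (Matrix.SpecialLinearGroup (Fin 2) F)) ∧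
      Cfsg.IsDefectGroup p M {χ : Cfsg.IrrCharacter (Matrix.SpecialLinearGroup (Fin 2) F) | (χ : Matrix.SpecialLinearGroup (Fin 2) F → ℂ) (-1) = -(χ : Matrix.SpecialLinearGroup (Fin 2) F → ℂ) 1} (P : Subgroup (Matrix.SpecialLinearGroup (Fin 2) F)) := by
  haveI := hM.2.1
  have hpM := hM.2.2
  obtain ⟨St, hdeg, hcen, hStB, hSt0, huniq⟩ := DefChar.exists_unique_defect_zero (F := F) (n := 2) (by omega) hpM
  have hdeg' : Char.degree St = Fintype.card F := by rw [hdeg]; simp
  set q := Fintype.card F with hq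
  have hdegc : (St.1 1 : ℂ) = q := by rw [Char.apply_one_eq_degree, hdeg']
  have hSt_iff : ∀ χ : IrrCharacter (Matrix.SpecialLinearGroup (Fin 2) F), χ.1 1 = (q : ℂ) ↔ χ = St := by
    refine fun χ => ⟨fun h => ?_, fun h => h ▸ hdegc⟩
    rw [Char.apply_one_eq_degree, Nat.cast_inj, ← hdeg'] at h
    exact DefChar.eq_of_defect_zero (M := M) (by omega) hpM χ St
      (DefChar.factorization_of_degree_eq (h.trans hdeg)) (DefChar.factorization_of_degree_eq hdeg)
  have hneg : (-1 : Matrix.SpecialLinearGroup (Fin 2) F) ≠ 1 := neg_one_ne_one hp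
  have hStsign : St.1 (-1) = St.1 1 := hcen _ neg_one_mem_center
  have hnotboth : ∀ χ : IrrCharacter (Matrix.SpecialLinearGroup (Fin 2) F),
      χ.1 (-1) = χ.1 1 → ¬ χ.1 (-1) = -χ.1 1 := fun χ h h' => irr_one_ne_zero χ (by
    rw [h] at h'; exact self_eq_neg.1 h')
  obtain ⟨χm, hχm⟩ := exists_negative (F := F) hneg
  set χp := Char.trivialChar (Matrix.SpecialLinearGroup (Fin 2) F) with hχpdef
  have hp1 : χp.1 (-1) = χp.1 1 := by rw [hχpdef, Char.trivialChar_apply, Char.trivialChar_apply]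
  have hfull : ∀ χ, χ ≠ St → blockDefect p (blockOf M χ.1) ≠ 0 := fun χ hne h0 => hne (by
    have h := mem_blockOf_self (M := M) χ
    rw [huniq _ (isPBlock_blockOf χ) h0] at h
    exact h)
  have hm_ne : χm ≠ St := fun h => hnotboth St hStsign (h ▸ hχm)
  have hp_ne : χp ≠ St := fun h => by
    have h1 : χp.1 1 = (q : ℂ) := by rw [h, hdegc]
    rw [hχpdef, Char.trivialChar_apply] at h1
    exact (Fintype.one_lt_card (α := F)).ne (by exact_mod_cast h1)
  have hsame : ∀ χ ψ : IrrCharacter (Matrix.SpecialLinearGroup (Fin 2) F), χ ∈ blockOf M ψ.1 →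
      (χ.1 (-1) = χ.1 1 ↔ ψ.1 (-1) = ψ.1 1) := fun χ ψ h =>
    ⟨sign_of_sameBlock hpM hp (SameBlock.symm h), sign_of_sameBlock hpM hp h⟩
  -- each non-Steinberg block is one of two
  have htwo : ∀ χ, χ ≠ St → blockOf M χ.1 = blockOf M χp.1 ∨ blockOf M χ.1 = blockOf M χm.1 := by
    intro χ hne
    by_contra hno
    push Not at hno
    let P : Sylow p (Matrix.SpecialLinearGroup (Fin 2) F) := default
    have h2 := card_full_le hpM P
    let f : Fin 3 → {B : Set (IrrCharacter (Matrix.SpecialLinearGroup (Fin 2) F)) //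
        IsPBlock M B ∧ IsDefectGroup p M B (P : Subgroup _)} :=
      ![⟨_, isPBlock_blockOf χ, DefChar.isDefectGroup_sylow hpM (isPBlock_blockOf χ) (hfull χ hne) P⟩,
        ⟨_, isPBlock_blockOf χp, DefChar.isDefectGroup_sylow hpM (isPBlock_blockOf χp) (hfull χp hp_ne) P⟩,
        ⟨_, isPBlock_blockOf χm, DefChar.isDefectGroup_sylow hpM (isPBlock_blockOf χm) (hfull χm hm_ne) P⟩]
    have hpm : blockOf M χp.1 ≠ blockOf M χm.1 := fun h => by
      have h3 : χp ∈ blockOf M χm.1 := h ▸ mem_blockOf_self χp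
      exact hnotboth χm ((hsame χp χm h3).1 hp1) hχm
    have hf : Function.Injective f := by
      intro i j hij
      have := congrArg Subtype.val hij
      fin_cases i <;> fin_cases j <;> first | rfl | (simp [f, hno.1, hno.2, hpm, Ne.symm hno.1, Ne.symm hno.2, Ne.symm hpm] at this)
    have := Nat.card_le_card_of_injective f hf
    rw [Nat.card_fin] at this
    omega
  have hStblock : blockOf M St.1 = {St} :=
    (blockOf_eq_singleton_iff hpM St).2 (DefChar.factorization_of_degree_eq hdeg)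
  have hnotSt : ∀ χ ψ : IrrCharacter (Matrix.SpecialLinearGroup (Fin 2) F), ψ ≠ St → χ ∈ blockOf M ψ.1 → χ ≠ St := by
    rintro χ ψ hψ h rfl
    have h2 : ψ ∈ blockOf M χ.1 := SameBlock.symm h
    rw [hStblock] at h2
    exact hψ h2
  have hP : blockOf M χp.1 = {χ : IrrCharacter (Matrix.SpecialLinearGroup (Fin 2) F) |
      χ.1 (-1) = χ.1 1 ∧ χ.1 1 ≠ (q : ℂ)} := by
    ext χ
    refine ⟨fun h => ⟨(hsame χ χp h).2 hp1, fun he => hnotSt χ χp hp_ne h ((hSt_iff χ).1 he)⟩, fun ⟨hs, hd⟩ => ?_⟩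
    rcases htwo χ (fun h => hd ((hSt_iff χ).2 h)) with h | h
    · exact h ▸ mem_blockOf_self χ
    · exact absurd hχm (hnotboth χm ((hsame χ χm (h ▸ mem_blockOf_self χ)).1 hs))
  have hQ : blockOf M χm.1 = {χ : IrrCharacter (Matrix.SpecialLinearGroup (Fin 2) F) |
      χ.1 (-1) = -χ.1 1} := by
    ext χ
    refine ⟨fun h => (sign_cases χ).resolve_left fun hs => hnotboth χm ((hsame χ χm h).1 hs) hχm, fun hs => ?_⟩
    have hne : χ ≠ St := fun h => hnotboth St hStsign (h ▸ hs)
    rcases htwo χ hne with h | h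
    · exact absurd hs (hnotboth χ ((hsame χ χp (h ▸ mem_blockOf_self χ)).2 hp1))
    · exact h ▸ mem_blockOf_self χ
  have hS : ({St} : Set (IrrCharacter (Matrix.SpecialLinearGroup (Fin 2) F))) =
      {χ : IrrCharacter (Matrix.SpecialLinearGroup (Fin 2) F) | χ.1 1 = (q : ℂ)} := by
    ext χ; simp [hSt_iff]
  have hiff : ∀ B, IsPBlock M B ↔ (B = blockOf M St.1 ∨ B = blockOf M χp.1 ∨ B = blockOf M χm.1) := by
    intro B
    refine ⟨fun hB => ?_, ?_⟩
    · obtain ⟨χ, hχ⟩ := block_nonempty hB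
      rw [block_eq hB hχ]
      by_cases h : χ = St
      · exact Or.inl (by rw [h])
      · exact Or.inr (htwo χ h)
    · rintro (rfl | rfl | rfl) <;> exact isPBlock_blockOf _
  refine ⟨fun B => by rw [hiff, hStblock, hS, hP, hQ], ?_, fun P => ?_⟩
  · have hpm : blockOf M χp.1 ≠ blockOf M χm.1 := fun h => by
      have h3 : χp ∈ blockOf M χm.1 := h ▸ mem_blockOf_self χp
      exact hnotboth χm ((hsame χp χm h3).1 hp1) hχm
    have hsp : blockOf M St.1 ≠ blockOf M χp.1 := fun h =>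
      hnotSt St χp hp_ne (h ▸ mem_blockOf_self St) rfl
    have hsm : blockOf M St.1 ≠ blockOf M χm.1 := fun h =>
      hnotSt St χm hm_ne (h ▸ mem_blockOf_self St) rfl
    refine (Nat.card_congr (Equiv.subtypeEquivRight fun B => (hiff B).trans
      (by simp : _ ↔ B ∈ ({blockOf M St.1, blockOf M χp.1, blockOf M χm.1} : Set _)))).trans ?_
    exact (Nat.card_coe_set_eq _).trans (Set.ncard_eq_three.2 ⟨_, _, _, hsp, hsm, hpm, rfl⟩)
  · rw [← hP, ← hQ]
    exact ⟨DefChar.isDefectGroup_sylow hpM (isPBlock_blockOf _) (hfull χp hp_ne) P,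
      DefChar.isDefectGroup_sylow hpM (isPBlock_blockOf _) (hfull χm hm_ne) P⟩

end Cfsg.Agent.S2439
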