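import Cfsg.Statements.S2440
import Cfsg.Agent.Lib.DefChar.Count
import Cfsg.Agent.Lib.Blocks.CountSylow

set_option autoImplicit false
open Cfsg

namespace Cfsg.Agent.S2440

/-- For a prime p and n ≥ 2, the group SL_n over the field with p elements has exactly gcd(n, p − 1) + 1 p-blocks relative to any maximal ideal of the algebraic integers containing p, that is, one more than the order of its centre (only this total is asserted; it arises as the defect-zero block of the Steinberg character plus as many blocks of maximal defect as the order of the centre). -/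
theorem result (p : ℕ) [Fact p.Prime] (n : ℕ) (hn : 2 ≤ n) (M : Ideal Cfsg.AlgInt) (hM : Cfsg.IsPModular p M) :
    Nat.card {B : Set (Cfsg.IrrCharacter (Matrix.SpecialLinearGroup (Fin n) (ZMod p))) // Cfsg.IsPBlock M B} =
      Nat.gcd n (p - 1) + 1 := by
  classical
  haveI := hM.2.1
  have hpM := hM.2.2
  have : Nonempty (Fin n) := Fin.pos_iff_nonempty.1 (by omega)
  set G := Matrix.SpecialLinearGroup (Fin n) (ZMod p)
  let P : Sylow p G := GL.sylowSL (F := ZMod p) p n
  have hcardZ : Nat.card (Subgroup.center G) = Nat.gcd n (p - 1) := by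
    rw [GL.card_center_SL, Fintype.card_fin, ZMod.card]
  have hp2 := (Fact.out : p.Prime).two_le
  have hreg : ∀ z ∈ Subgroup.center G, ¬ p ∣ orderOf z := fun z hz h => by
    have h1 : orderOf (⟨z, hz⟩ : Subgroup.center G) ∣ Nat.card (Subgroup.center G) := orderOf_dvd_natCard _
    rw [Subgroup.orderOf_mk, hcardZ] at h1
    have := Nat.le_of_dvd (by omega) (h.trans (h1.trans (Nat.gcd_dvd_right _ _)))
    omega
  have hN : (P : Subgroup G) ≤ Subgroup.normalizer ((P : Subgroup G) : Set G) := Subgroup.le_normalizer
  have hrad : (Cfsg.pCore p (Subgroup.normalizer ((P : Subgroup G) : Set G))).map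
      (Subgroup.normalizer ((P : Subgroup G) : Set G)).subtype = P := by
    have hle : (P : Subgroup G) ≤ (Cfsg.pCore p (Subgroup.normalizer ((P : Subgroup G) : Set G))).map
        (Subgroup.normalizer ((P : Subgroup G) : Set G)).subtype := by
      haveI := Blocks.normal_subgroupOf_of_le_normalizer (le_refl (Subgroup.normalizer ((P : Subgroup G) : Set G)))
      have h := Subgroup.map_mono (f := (Subgroup.normalizer ((P : Subgroup G) : Set G)).subtype)
        (PCore.le_pCore (N := (P : Subgroup G).subgroupOf (Subgroup.normalizer ((P : Subgroup G) : Set G)))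
          (P.isPGroup'.of_equiv (Subgroup.subgroupOfEquivOfLe hN).symm))
      rwa [Subgroup.map_subgroupOf_eq_of_le hN] at h
    exact P.is_maximal' (PCore.isPGroup_pCore.map _) hle
  have hPne : (P : Subgroup G) ≠ ⊥ := by
    intro h
    have h1 := GL.card_sylow_SL_eq p P
    rw [h, Subgroup.card_bot, ZMod.card] at h1
    have h2 : 1 ≤ n * (n - 1) / 2 := by
      rw [Nat.le_div_iff_mul_le two_pos]
      exact le_trans (by norm_num) (Nat.mul_le_mul hn (show 1 ≤ n - 1 by omega))
    have := (Nat.le_self_pow (show n * (n - 1) / 2 ≠ 0 by omega) p)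
    omega
  have hcls : Nat.card {B : Set (Cfsg.IrrCharacter G) // Cfsg.IsPBlock M B ∧
      Cfsg.IsDefectGroup p M B (P : Subgroup G)} = Nat.card (Subgroup.center G) := by
    rw [Blocks.card_blocks_sylow hpM P]
    refine (Nat.card_congr (Equiv.ofBijective (fun z : Subgroup.center G =>
      (⟨ConjClasses.mk ⟨z.1, (Subgroup.center_le_centralizer _).trans (Subgroup.centralizer_le_normalizer _) z.2⟩, ?_⟩ :
        {C : ConjClasses (Subgroup.normalizer ((P : Subgroup G) : Set G)) //
          ∀ m : Subgroup.normalizer ((P : Subgroup G) : Set G), ConjClasses.mk m = C →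
            ¬ p ∣ orderOf m ∧ (m : G) ∈ Subgroup.centralizer ((P : Subgroup G) : Set G)})) ⟨?_, ?_⟩)).symm
    · intro m hm
      have hmz : m.1 = z.1 := by
        obtain ⟨c, hc⟩ := isConj_iff.1 (ConjClasses.mk_eq_mk_iff_isConj.1 hm).symm
        rw [← hc]
        show c.1 * z.1 * c.1⁻¹ = z.1
        rw [Subgroup.mem_center_iff.1 z.2 c.1, mul_inv_cancel_right]
      refine ⟨by rw [← Subgroup.orderOf_coe, hmz]; exact hreg _ z.2, ?_⟩
      rw [hmz]
      exact Subgroup.center_le_centralizer _ z.2
    · intro z z' h
      obtain ⟨c, hc⟩ := isConj_iff.1 (ConjClasses.mk_eq_mk_iff_isConj.1 (congrArg Subtype.val h))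
      refine Subtype.ext ?_
      have hc' : c.1 * z.1 * c.1⁻¹ = z'.1 := congrArg Subtype.val hc
      rwa [Subgroup.mem_center_iff.1 z.2 c.1, mul_inv_cancel_right] at hc'
    · rintro ⟨C, hC⟩
      obtain ⟨m, rfl⟩ := ConjClasses.exists_rep C
      obtain ⟨h1, h2⟩ := hC m rfl
      rw [← Subgroup.orderOf_coe] at h1
      have hz := (DefChar.radical_trivial (P : Subgroup G) P.2 hrad m.1 h1
        (fun d hd => (Subgroup.mem_centralizer_iff.1 h2 d hd).symm)).resolve_left hPne
      exact ⟨⟨m.1, hz⟩, Subtype.ext rfl⟩
  obtain ⟨St, -, -, hblock, h0, huniq⟩ := DefChar.exists_unique_defect_zero (F := ZMod p) (n := n) (p := p)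
    (by omega) hpM
  have key : ∀ B : Set (Cfsg.IrrCharacter G), Cfsg.IsPBlock M B →
      (Cfsg.IsDefectGroup p M B (P : Subgroup G) ↔ B ≠ {St}) := by
    intro B hB
    refine ⟨fun h e => ?_, fun h => DefChar.isDefectGroup_sylow hpM hB (fun e => h (huniq B hB e)) P⟩
    have hc := Blocks.card_defectGroup hpM hB h
    rw [e, h0, pow_zero, Subgroup.card_eq_one] at hc
    exact hPne hc
  have : Finite {B : Set (Cfsg.IrrCharacter G) // Cfsg.IsPBlock M B} := Subtype.finite
  rw [← hcardZ, ← hcls, ← Finite.card_option]
  refine Nat.card_congr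
    { toFun := fun B => if h : B.1 = {St} then none else some ⟨B.1, B.2, (key B.1 B.2).2 h⟩
      invFun := fun o => o.elim ⟨{St}, hblock⟩ (fun B => ⟨B.1, B.2.1⟩)
      left_inv := fun B => by
        by_cases h : B.1 = {St}
        · simp only [h, dite_true]; exact Subtype.ext h.symm
        · simp only [h, dite_false]; rfl
      right_inv := fun o => by
        rcases o with _ | B
        · simp
        · exact dif_neg ((key B.1 B.2.1).1 B.2.2)
          }

end Cfsg.Agent.S2440
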