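import Cfsg.Statements.S2441
import Cfsg.Agent.Lib.Chev.TwoBlocks

set_option autoImplicit false
open Cfsg

namespace Cfsg.Agent.S2441

open Cfsg.Agent.Chev.BNSetup

theorem posForm_G2 : PosForm Cfsg.Lie.chevG2 [6, 10] := by decide +kernel
theorem posForm_F4 : PosForm Cfsg.Lie.chevF4 [16, 30, 42, 22] := by decide +kernel
theorem posForm_E8 : PosForm Cfsg.Lie.chevE8 [92, 136, 182, 270, 220, 168, 114, 58] := by
  decide +kernel
theorem linked_G2 : Linked Cfsg.Lie.chevG2 := by decide +kernel
theorem linked_F4 : Linked Cfsg.Lie.chevF4 := by decide +kernel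
theorem linked_E8 : Linked Cfsg.Lie.chevE8 := by decide +kernel

/-- For a prime p, the Chevalley groups of types G₂, F₄ and E₈ over the field with p elements (types for which the simply connected and adjoint groups coincide, so the group has trivial centre) each have exactly two p-blocks relative to any maximal ideal of the algebraic integers containing p (only the count is asserted; it arises as the defect-zero block of the Steinberg character plus a single block of maximal defect). -/
theorem result (p : ℕ) [Fact p.Prime] (M : Ideal Cfsg.AlgInt) (hM : Cfsg.IsPModular p M) :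
    Nat.card {B : Set (Cfsg.IrrCharacter (Cfsg.Lie.chevG2.group (ZMod p))) // Cfsg.IsPBlock M B} = 2 ∧
    Nat.card {B : Set (Cfsg.IrrCharacter (Cfsg.Lie.chevF4.group (ZMod p))) // Cfsg.IsPBlock M B} = 2 ∧
    Nat.card {B : Set (Cfsg.IrrCharacter (Cfsg.Lie.chevE8.group (ZMod p))) // Cfsg.IsPBlock M B} = 2 := by
  exact ⟨card_blocks_eq_two p (by simp) posForm_G2 linked_G2 hM,
    card_blocks_eq_two p (by simp) posForm_F4 linked_F4 hM,
    card_blocks_eq_two p (by simp) posForm_E8 linked_E8 hM⟩

end Cfsg.Agent.S2441
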