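import Cfsg.Statements.S2444
import Cfsg.Agent.Lib.Commutator.Main
import Cfsg.Agent.Lib.Commutator.Scalar

set_option autoImplicit false
open Cfsg

namespace Cfsg.Agent.S2444

/-- In the special linear group SL(n,F) over a finite field F, with n ≥ 2 and (n, |F|) not (2,2) or (2,3), every element is a commutator a·b·a⁻¹·b⁻¹ of two elements of SL(n,F). -/
theorem result {F : Type*} [Field F] [Fintype F] (n : ℕ) (hn : 2 ≤ n) (hex : n = 2 → 4 ≤ Fintype.card F) :
    ∀ g : Matrix.SpecialLinearGroup (Fin n) F, ∃ a b : Matrix.SpecialLinearGroup (Fin n) F, g = a * b * a⁻¹ * b⁻¹ := by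
  intro g
  classical
  by_cases hs : ∃ a : F, Matrix.toLin' (g : Matrix (Fin n) (Fin n) F) = a • LinearMap.id
  · obtain ⟨a, ha⟩ := hs
    refine Commutator.scalar_commutator n g a ?_
    rw [← LinearMap.toMatrix'_toLin' (g : Matrix (Fin n) (Fin n) F), ha, map_smul, LinearMap.toMatrix'_id]
  · push Not at hs
    refine Commutator.Comm.exists_sl (Pi.basisFun F (Fin n)) g ?_
    rw [Matrix.toLin_eq_toLin']
    refine Commutator.comm_of_nonscalar _ (by rw [LinearMap.det_toLin']; exact g.2) hs ?_ ?_
    · rwa [Module.finrank_fin_fun]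
    · rw [Module.finrank_fin_fun]; exact hex

end Cfsg.Agent.S2444
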