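import Cfsg.Statements.S2450
import Cfsg.Agent.Lib.PSL2.TraceClasses
-- import your own Cfsg.Agent.* helpers here

set_option autoImplicit false
open Cfsg

namespace Cfsg.Agent.S2450

open Matrix in
theorem quad_roots {F : Type*} [Field F] [Fintype F] [DecidableEq F] (a b e : F) (ha : a ≠ 0) :
    (Finset.univ.filter fun s : F => a * s ^ 2 + b * s + e = 0).card ≤ 2 := by
  by_contra H
  push Not at H
  obtain ⟨s₁, s₂, s₃, h1, h2, h3, h12, h13, h23⟩ := Finset.two_lt_card_iff.1 H
  simp only [Finset.mem_filter, Finset.mem_univ, true_and] at h1 h2 h3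
  have e2 : a * (s₁ + s₂) + b = 0 := by
    apply mul_left_cancel₀ (sub_ne_zero.2 h12)
    linear_combination h1 - h2
  have e3 : a * (s₁ + s₃) + b = 0 := by
    apply mul_left_cancel₀ (sub_ne_zero.2 h13)
    linear_combination h1 - h3
  exact h23 (mul_left_cancel₀ ha (by linear_combination e2 - e3))

open Cfsg.Agent.PSL2.TraceClasses

/-- The Arad–Herzog conjecture for PSL(2,q): let F be a finite field with q ≥ 4 elements. For any two non-identity elements a, b of PSL(2,F), the set of products of a conjugate of a with a conjugate of b is not a single conjugacy class. -/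
theorem result {F : Type*} [Field F] [Fintype F] (h4 : 4 ≤ Fintype.card F)
    (a b : Matrix.ProjectiveSpecialLinearGroup (Fin 2) F) (ha : a ≠ 1) (hb : b ≠ 1) (c : Matrix.ProjectiveSpecialLinearGroup (Fin 2) F) :
    {g : Matrix.ProjectiveSpecialLinearGroup (Fin 2) F | ∃ u v : Matrix.ProjectiveSpecialLinearGroup (Fin 2) F, g = (u * a * u⁻¹) * (v * b * v⁻¹)} ≠ {g | IsConj c g} := by
  classical
  intro hset
  obtain ⟨A, rfl⟩ := QuotientGroup.mk'_surjective _ a
  obtain ⟨B, rfl⟩ := QuotientGroup.mk'_surjective _ b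
  obtain ⟨C, rfl⟩ := QuotientGroup.mk'_surjective _ c
  set π := QuotientGroup.mk' (Subgroup.center (Matrix.SpecialLinearGroup (Fin 2) F))
  have hA : ¬ IsScalar' (A : Matrix (Fin 2) (Fin 2) F) := fun h =>
    ha ((QuotientGroup.eq_one_iff A).2 (mem_center_of_isScalar' h))
  have hB : ¬ IsScalar' (B : Matrix (Fin 2) (Fin 2) F) := fun h =>
    hb ((QuotientGroup.eq_one_iff B).2 (mem_center_of_isScalar' h))
  obtain ⟨τ, hτ⟩ : ∃ τ, τ = Matrix.trace (C : Matrix (Fin 2) (Fin 2) F) := ⟨_, rfl⟩
  have key : ∀ u v : Matrix.SpecialLinearGroup (Fin 2) F,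
      Matrix.trace ((u * A * u⁻¹ * (v * B * v⁻¹) : Matrix.SpecialLinearGroup (Fin 2) F) :
        Matrix (Fin 2) (Fin 2) F) ^ 2 = τ ^ 2 := by
    intro u v
    have hmem : π (u * A * u⁻¹ * (v * B * v⁻¹)) ∈ {g | IsConj (π C) g} := by
      rw [← hset]
      exact ⟨π u, π v, by simp only [map_mul, map_inv]⟩
    obtain ⟨w, hw⟩ := isConj_iff.1 hmem
    obtain ⟨W, rfl⟩ := QuotientGroup.mk'_surjective _ w
    rw [← map_inv, ← map_mul, ← map_mul] at hw
    obtain ⟨z, hz, hzeq⟩ := (QuotientGroup.mk'_eq_mk' _).1 hw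
    obtain ⟨z01, z10, z11⟩ := isScalar'_of_mem_center hz
    have hd := det_eq z
    rw [z01, ← z11] at hd
    have hzm : (z : Matrix (Fin 2) (Fin 2) F) = (z : Matrix (Fin 2) (Fin 2) F) 0 0 • 1 := by
      ext i j; fin_cases i <;> fin_cases j <;> simp [z01, z10, ← z11]
    rw [← hzeq, Matrix.SpecialLinearGroup.coe_mul, hzm, Matrix.mul_smul, mul_one, Matrix.trace_smul,
      Matrix.SpecialLinearGroup.coe_mul, Matrix.SpecialLinearGroup.coe_mul,
      Matrix.trace_mul_comm, ← Matrix.mul_assoc, ← Matrix.SpecialLinearGroup.coe_mul W⁻¹ W,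
      inv_mul_cancel, Matrix.SpecialLinearGroup.coe_one, one_mul, smul_eq_mul, hτ]
    linear_combination (Matrix.trace (C : Matrix (Fin 2) (Fin 2) F)) ^ 2 * hd
  obtain ⟨c', hc', u, hu⟩ := exists_conj_comp A hA
  obtain ⟨d, hd, v, hv⟩ := exists_conj_comp B hB
  set α := (A : Matrix (Fin 2) (Fin 2) F) 0 0 + (A : Matrix (Fin 2) (Fin 2) F) 1 1
  set β := (B : Matrix (Fin 2) (Fin 2) F) 0 0 + (B : Matrix (Fin 2) (Fin 2) F) 1 1
  have hf : ∀ s : F, (-(c' * d) * s ^ 2 + (c' * β - α * d) * s + (α * β - d / c' - c' / d)) ^ 2 = τ ^ 2 := by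
    intro s
    let U : Matrix.SpecialLinearGroup (Fin 2) F := ⟨!![1, s; 0, 1], by simp [Matrix.det_fin_two_of]⟩
    have := key u⁻¹ (U * v⁻¹)
    have e : u⁻¹ * A * u⁻¹⁻¹ * (U * v⁻¹ * B * (U * v⁻¹)⁻¹) = comp c' α hc' * (U * comp d β hd * U⁻¹) := by
      rw [hu, hv]; group
    rw [e] at this
    rw [← this]
    congr 1
    rw [Matrix.SpecialLinearGroup.coe_mul, Matrix.SpecialLinearGroup.coe_mul,
      Matrix.SpecialLinearGroup.coe_mul, Matrix.SpecialLinearGroup.coe_inv]
    simp [U, Matrix.SpecialLinearGroup.coe_inv, coe_comp,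
      Matrix.trace_fin_two, Matrix.mul_apply, Fin.sum_univ_two, Matrix.adjugate_fin_two]
    field_simp
    ring
  have hk : -(c' * d) ≠ 0 := neg_ne_zero.2 (mul_ne_zero hc' hd)
  have hsub : (Finset.univ : Finset F) ⊆
      (Finset.univ.filter fun s : F =>
          -(c' * d) * s ^ 2 + (c' * β - α * d) * s + (α * β - d / c' - c' / d - τ) = 0) ∪
      (Finset.univ.filter fun s : F =>
          -(c' * d) * s ^ 2 + (c' * β - α * d) * s + (α * β - d / c' - c' / d + τ) = 0) := by
    intro s _
    simp only [Finset.mem_union, Finset.mem_filter, Finset.mem_univ, true_and]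
    rcases sq_eq_sq_iff_eq_or_eq_neg.1 (hf s) with h | h
    · left; linear_combination h
    · right; linear_combination h
  have h1 := quad_roots (-(c' * d)) (c' * β - α * d) (α * β - d / c' - c' / d - τ) hk
  have h2 := quad_roots (-(c' * d)) (c' * β - α * d) (α * β - d / c' - c' / d + τ) hk
  have hle := (Finset.card_le_card hsub).trans (Finset.card_union_le _ _)
  rw [Finset.card_univ] at hle
  have h4' : Fintype.card F = 4 := by omega
  have h20 : (2 : F) = 0 := by
    have h := FiniteField.cast_card_eq_zero F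
    rw [h4'] at h
    have : (2 : F) * 2 = 0 := by rw [← h]; norm_num
    simpa using this
  have hττ : τ = -τ := by linear_combination τ * h20
  have : α * β - d / c' - c' / d + τ = α * β - d / c' - c' / d - τ := by linear_combination τ * h20
  rw [this] at hsub h2
  have hle' := Finset.card_le_card hsub
  rw [Finset.union_self, Finset.card_univ] at hle'
  omega

end Cfsg.Agent.S2450
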