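import Cfsg.Statements.S2455
import Cfsg.Agent.Lib.PSL2.TraceClasses
-- import your own Cfsg.Agent.* helpers here

set_option autoImplicit false
open Cfsg

namespace Cfsg.Agent.S2455

open Cfsg.Agent.PSL2.TraceClasses

theorem trace_sq_ne_four {F : Type*} [Field F] (p : ℕ) [Fact p.Prime] [CharP F p]
    (X : Matrix.SpecialLinearGroup (Fin 2) F)
    (hX : ¬ p ∣ orderOf (QuotientGroup.mk' (Subgroup.center (Matrix.SpecialLinearGroup (Fin 2) F)) X))
    (hX1 : QuotientGroup.mk' (Subgroup.center (Matrix.SpecialLinearGroup (Fin 2) F)) X ≠ 1) :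
    Matrix.trace (X : Matrix (Fin 2) (Fin 2) F) ^ 2 ≠ 4 := by
  intro h
  have hd := det_eq X
  rw [Matrix.trace_fin_two] at h
  obtain ⟨e, he2, he⟩ : ∃ e : F, e ^ 2 = 1 ∧
      (X : Matrix (Fin 2) (Fin 2) F) 0 0 + (X : Matrix (Fin 2) (Fin 2) F) 1 1 = 2 * e := by
    rcases sq_eq_sq_iff_eq_or_eq_neg.1
      (show ((X : Matrix (Fin 2) (Fin 2) F) 0 0 + (X : Matrix (Fin 2) (Fin 2) F) 1 1) ^ 2 = (2:F) ^ 2 by
        rw [h]; norm_num) with h' | h'
    · exact ⟨1, by norm_num, by rw [h', mul_one]⟩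
    · exact ⟨-1, by norm_num, by rw [h']; ring⟩
  have hN : ((X : Matrix (Fin 2) (Fin 2) F) - e • 1) ^ 2 = 0 := by
    ext i j
    fin_cases i <;> fin_cases j <;>
      simp [pow_two, Matrix.mul_apply, Fin.sum_univ_two] <;> grind
  have hp2 : 2 ≤ p := (Fact.out : p.Prime).two_le
  have hNp : ((X : Matrix (Fin 2) (Fin 2) F) - e • 1) ^ p = 0 := pow_eq_zero_of_le hp2 hN
  rw [sub_pow_char_of_commute p ((Commute.one_right _).smul_right e), sub_eq_zero, smul_pow, one_pow] at hNp
  have hmem : X ^ p ∈ Subgroup.center (Matrix.SpecialLinearGroup (Fin 2) F) := by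
    apply mem_center_of_isScalar'
    rw [Matrix.SpecialLinearGroup.coe_pow, hNp]
    simp [IsScalar']
  have h1 := (QuotientGroup.eq_one_iff (X ^ p)).2 hmem
  rw [show ((X ^ p : Matrix.SpecialLinearGroup (Fin 2) F) :
    Matrix.SpecialLinearGroup (Fin 2) F ⧸ Subgroup.center (Matrix.SpecialLinearGroup (Fin 2) F)) =
      QuotientGroup.mk' _ X ^ p from rfl] at h1
  rcases (Nat.dvd_prime Fact.out).1 (orderOf_dvd_of_pow_eq_one h1) with h' | h'
  · exact hX1 (orderOf_eq_one_iff.1 h')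
  · exact hX (by rw [h'])

/-- A strong covering result in the direction of Thompson's conjecture (non-identity elements) for PSL(2,q), q odd: let F be a finite field of odd characteristic p with at least 5 elements and let x ∈ PSL(2,F) have order greater than 2 and not divisible by p (so x is not unipotent). Then every non-identity element of PSL(2,F) is a product of two conjugates of x. -/
theorem result {F : Type*} [Field F] [Fintype F] (p : ℕ) [Fact p.Prime] [CharP F p] (hp : p ≠ 2) (h5 : 5 ≤ Fintype.card F)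
    (x : Matrix.ProjectiveSpecialLinearGroup (Fin 2) F) (hx2 : 2 < orderOf x) (hxp : ¬ p ∣ orderOf x) : ∀ g : Matrix.ProjectiveSpecialLinearGroup (Fin 2) F, g ≠ 1 → ∃ u v : Matrix.ProjectiveSpecialLinearGroup (Fin 2) F, g = (u * x * u⁻¹) * (v * x * v⁻¹) := by
  classical
  intro g hg
  obtain ⟨X, rfl⟩ := QuotientGroup.mk'_surjective _ x
  obtain ⟨G, rfl⟩ := QuotientGroup.mk'_surjective _ g
  set π := QuotientGroup.mk' (Subgroup.center (Matrix.SpecialLinearGroup (Fin 2) F))
  have hX1 : π X ≠ 1 := fun h => by rw [h, orderOf_one] at hx2; omega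
  obtain ⟨α, hαdef⟩ : ∃ α, α = Matrix.trace (X : Matrix (Fin 2) (Fin 2) F) := ⟨_, rfl⟩
  have hα : α ^ 2 ≠ 4 := hαdef ▸ trace_sq_ne_four p X hxp hX1
  have hα0 : α ≠ 0 := by
    intro h0
    rw [h0, Matrix.trace_fin_two] at hαdef
    have hd := det_eq X
    have hmem : X ^ 2 ∈ Subgroup.center (Matrix.SpecialLinearGroup (Fin 2) F) := by
      apply mem_center_of_isScalar'
      rw [Matrix.SpecialLinearGroup.coe_pow, pow_two]
      simp [IsScalar', Matrix.mul_apply, Fin.sum_univ_two]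
      grind
    have h1 : π X ^ 2 = 1 := (QuotientGroup.eq_one_iff (X ^ 2)).2 hmem
    have := Nat.le_of_dvd (by norm_num) (orderOf_dvd_of_pow_eq_one h1)
    omega
  have h20 : (2 : F) ≠ 0 := Ring.two_ne_zero (by rw [ringChar.eq F p]; exact hp)
  have hG : ¬ IsScalar' (G : Matrix (Fin 2) (Fin 2) F) := fun h =>
    hg ((QuotientGroup.eq_one_iff G).2 (mem_center_of_isScalar' h))
  suffices ∃ G' : Matrix.SpecialLinearGroup (Fin 2) F, π G' = π G ∧
      ∃ u v, G' = (u * X * u⁻¹) * (v * X * v⁻¹) by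
    obtain ⟨G', hG', u, v, huv⟩ := this
    exact ⟨π u, π v, by rw [← hG', huv]; simp only [map_mul, map_inv]⟩
  by_cases hτ : Matrix.trace (G : Matrix (Fin 2) (Fin 2) F) ^ 2 = 4
  · -- unipotent classes, up to sign
    obtain ⟨G', hG', hGs, hGt⟩ : ∃ G' : Matrix.SpecialLinearGroup (Fin 2) F, π G' = π G ∧
        ¬ IsScalar' (G' : Matrix (Fin 2) (Fin 2) F) ∧
        Matrix.trace (G' : Matrix (Fin 2) (Fin 2) F) = -2 := by
      rcases sq_eq_sq_iff_eq_or_eq_neg.1
        (show Matrix.trace (G : Matrix (Fin 2) (Fin 2) F) ^ 2 = (2:F) ^ 2 by rw [hτ]; norm_num) with h | h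
      · refine ⟨-G, ?_, ?_, ?_⟩
        · apply (QuotientGroup.mk'_eq_mk' _).2
          refine ⟨-1, mem_center_of_isScalar' (by simp [IsScalar']), ?_⟩
          apply Subtype.ext
          simp
        · intro hs
          apply hG
          simpa [IsScalar'] using hs
        · simp [Matrix.trace_neg, h]
      · exact ⟨G, rfl, hG, h⟩
    let Y₁ : Matrix.SpecialLinearGroup (Fin 2) F :=
      ⟨!![0, -(2 * α)⁻¹; 2 * α, α], by rw [Matrix.det_fin_two_of]; field_simp; ring⟩
    let P : Matrix.SpecialLinearGroup (Fin 2) F := ⟨!![-1, -1; 0, -1], by simp [Matrix.det_fin_two_of]⟩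
    refine ⟨G', hG', product_of_conj X G' Y₁ (Y₁⁻¹ * P) (hαdef ▸ hα) ?_ ?_ hGs ?_ ?_⟩
    · rw [← hαdef]; simp [Y₁, Matrix.trace_fin_two]
    · rw [← hαdef]
      rw [Matrix.SpecialLinearGroup.coe_mul, Matrix.SpecialLinearGroup.coe_inv]
      simp [Y₁, P,
        Matrix.trace_fin_two, Matrix.mul_apply, Fin.sum_univ_two, Matrix.adjugate_fin_two]
      ring
    · rw [mul_inv_cancel_left]; simp [P, IsScalar']
    · rw [mul_inv_cancel_left, hGt]; simp [P, Matrix.trace_fin_two]; norm_num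
  · obtain ⟨τ, hτdef⟩ : ∃ τ, τ = Matrix.trace (G : Matrix (Fin 2) (Fin 2) F) := ⟨_, rfl⟩
    have hodd : Fintype.card F % 2 = 1 :=
      FiniteField.odd_card_of_char_ne_two (by rw [ringChar.eq F p]; exact hp)
    have h40 : (4 : F) ≠ 0 := by
      have := mul_ne_zero h20 h20; norm_num at this; exact this
    have hk : α ^ 2 / 4 - 1 ≠ 0 := by
      intro h; apply hα; field_simp at h; linear_combination h
    obtain ⟨z, c, hzc⟩ := FiniteField.exists_root_sum_quadratic (f := (-Polynomial.X ^ 2 : Polynomial F))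
      (g := (Polynomial.C (α ^ 2 / 4 - 1) * Polynomial.X ^ 2 +
        Polynomial.C (-(α ^ 2 / 2) - (τ - α ^ 2)) * Polynomial.X + Polynomial.C (α ^ 2 / 4 - 1) : Polynomial F))
      (by rw [Polynomial.degree_neg, Polynomial.degree_X_pow]; norm_num) (Polynomial.degree_quadratic hk) hodd
    simp at hzc
    set a := z + α * (1 - c) / 2 with ha
    let Y₁ : Matrix.SpecialLinearGroup (Fin 2) F :=
      ⟨!![0, -1; 1, α], by simp [Matrix.det_fin_two_of]⟩
    let Y₂ : Matrix.SpecialLinearGroup (Fin 2) F :=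
      ⟨!![a, τ + c - α * (α - a); c, α - a], by
        rw [Matrix.det_fin_two_of, ha]
        field_simp at hzc ⊢
        apply mul_left_cancel₀ h20
        linear_combination hzc⟩
    have htr : Matrix.trace ((Y₁ * Y₂ : Matrix.SpecialLinearGroup (Fin 2) F) : Matrix (Fin 2) (Fin 2) F) = τ := by
      rw [Matrix.SpecialLinearGroup.coe_mul]
      simp [Y₁, Y₂, Matrix.trace_fin_two, Matrix.mul_apply, Fin.sum_univ_two]
    refine ⟨G, rfl, product_of_conj X G Y₁ Y₂ (hαdef ▸ hα) ?_ ?_ hG ?_ ?_⟩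
    · rw [← hαdef]; simp [Y₁, Matrix.trace_fin_two]
    · rw [← hαdef]; simp [Y₂, Matrix.trace_fin_two]
    · apply not_isScalar'_of_trace; rw [htr, hτdef]; exact hτ
    · rw [htr, hτdef]

end Cfsg.Agent.S2455
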