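import Cfsg.Statements.S2456
import Cfsg.Agent.Lib.PSL2.TraceClasses
-- import your own Cfsg.Agent.* helpers here

set_option autoImplicit false
open Cfsg

namespace Cfsg.Agent.S2456

open Cfsg.Agent.PSL2.TraceClasses

theorem trace_sq_ne_four {F : Type*} [Field F] (p : ℕ) [Fact p.Prime] [CharP F p]
    (X : Matrix.SpecialLinearGroup (Fin 2) F)
    (hX : ¬ p ∣ orderOf (QuotientGroup.mk' (Subgroup.center (Matrix.SpecialLinearGroup (Fin 2) F)) X))
    (hX1 : QuotientGroup.mk' (Subgroup.center (Matrix.SpecialLinearGroup (Fin 2) F)) X ≠ 1) :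
    Matrix.trace (X : Matrix (Fin 2) (Fin 2) F) ^ 2 ≠ 4 := by
  intro h
  have hd := det_eq X
  rw [Matrix.trace_fin_two] at h
  obtain ⟨e, he2, he⟩ : ∃ e : F, e ^ 2 = 1 ∧
      (X : Matrix (Fin 2) (Fin 2) F) 0 0 + (X : Matrix (Fin 2) (Fin 2) F) 1 1 = 2 * e := by
    rcases sq_eq_sq_iff_eq_or_eq_neg.1
      (show ((X : Matrix (Fin 2) (Fin 2) F) 0 0 + (X : Matrix (Fin 2) (Fin 2) F) 1 1) ^ 2 = (2:F) ^ 2 by
        rw [h]; norm_num) with h' | h'
    · exact ⟨1, by norm_num, by rw [h', mul_one]⟩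
    · exact ⟨-1, by norm_num, by rw [h']; ring⟩
  have hN : ((X : Matrix (Fin 2) (Fin 2) F) - e • 1) ^ 2 = 0 := by
    ext i j
    fin_cases i <;> fin_cases j <;>
      simp [pow_two, Matrix.mul_apply, Fin.sum_univ_two] <;> grind
  have hp2 : 2 ≤ p := (Fact.out : p.Prime).two_le
  have hNp : ((X : Matrix (Fin 2) (Fin 2) F) - e • 1) ^ p = 0 := pow_eq_zero_of_le hp2 hN
  rw [sub_pow_char_of_commute p ((Commute.one_right _).smul_right e), sub_eq_zero, smul_pow, one_pow] at hNp
  have hmem : X ^ p ∈ Subgroup.center (Matrix.SpecialLinearGroup (Fin 2) F) := by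
    apply mem_center_of_isScalar'
    rw [Matrix.SpecialLinearGroup.coe_pow, hNp]
    simp [IsScalar']
  have h1 := (QuotientGroup.eq_one_iff (X ^ p)).2 hmem
  rw [show ((X ^ p : Matrix.SpecialLinearGroup (Fin 2) F) :
    Matrix.SpecialLinearGroup (Fin 2) F ⧸ Subgroup.center (Matrix.SpecialLinearGroup (Fin 2) F)) =
      QuotientGroup.mk' _ X ^ p from rfl] at h1
  rcases (Nat.dvd_prime Fact.out).1 (orderOf_dvd_of_pow_eq_one h1) with h' | h'
  · exact hX1 (orderOf_eq_one_iff.1 h')
  · exact hX (by rw [h'])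

open Polynomial in
theorem split_of_order {F : Type*} [Field F] [Fintype F] [CharP F 2]
    (X' : Matrix.SpecialLinearGroup (Fin 2) F)
    (h : (X' : Matrix (Fin 2) (Fin 2) F) ^ (Fintype.card F + 1) ≠ 1) :
    ∃ l : F, l ^ 2 - Matrix.trace (X' : Matrix (Fin 2) (Fin 2) F) * l + 1 = 0 := by
  by_contra H
  push Not at H
  apply h
  set M := (X' : Matrix (Fin 2) (Fin 2) F)
  set f : F[X] := M.charpoly with hf
  have hf2 : f = X ^ 2 - C M.trace * X + 1 := by
    rw [hf, Matrix.charpoly_fin_two, show M.det = 1 from X'.2, C_1]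
  have hdeg : f.natDegree = 2 := by rw [hf, Matrix.charpoly_natDegree_eq_dim, Fintype.card_fin]
  have hirr : Irreducible f := by
    refine (Polynomial.Monic.irreducible_iff_roots_eq_zero_of_degree_le_three
      (Matrix.charpoly_monic M) (by rw [← hf]; omega) (by rw [← hf]; omega)).2 ?_
    apply Multiset.eq_zero_of_forall_notMem
    intro l hl
    rw [mem_roots (Matrix.charpoly_monic M).ne_zero, ← hf, hf2] at hl
    simp at hl
    exact H l hl
  haveI : Fact (Irreducible f) := ⟨hirr⟩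
  set r := AdjoinRoot.root f
  let ι := algebraMap F (AdjoinRoot f)
  have hr : r ^ 2 - ι M.trace * r + 1 = 0 := by
    have := AdjoinRoot.aeval_eq (f := f) f
    rw [AdjoinRoot.mk_self] at this
    simp only [hf2, map_add, map_sub, map_mul, map_pow, aeval_X, aeval_C, map_one] at this
    exact this
  set q := Fintype.card F
  haveI : CharP (AdjoinRoot f) 2 := charP_of_injective_algebraMap ι.injective 2
  haveI : ExpChar (AdjoinRoot f) 2 := ExpChar.prime Nat.prime_two
  obtain ⟨k, -, hk⟩ := FiniteField.card F 2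
  have hq : (r ^ q) ^ 2 - ι M.trace * r ^ q + 1 = 0 := by
    have := congrArg (fun z => z ^ q) hr
    simp only [q, hk] at this ⊢
    rw [add_pow_char_pow, sub_pow_char_pow, mul_pow, one_pow, ← map_pow, ← hk,
      FiniteField.pow_card, zero_pow Fintype.card_pos.ne'] at this
    rw [← hk, ← this, ← pow_mul, ← pow_mul, mul_comm]
  have hfac : (r ^ q - r) * (r ^ q + r - ι M.trace) = 0 := by linear_combination hq - hr
  rcases mul_eq_zero.1 hfac with hcase | hcase
  · exfalso
    obtain ⟨l, hl⟩ : ∃ l : F, ι l = r := by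
      have hs : (X ^ q - X : F[X]).roots = Finset.univ.val := FiniteField.roots_X_pow_card_sub_X F
      have hsp : ((X ^ q - X : F[X]).map ι).roots = (X ^ q - X : F[X]).roots.map ι := by
        refine ((Polynomial.roots_map_of_injective_of_card_eq_natDegree ι.injective) ?_).symm
        rw [hs, FiniteField.X_pow_card_sub_X_natDegree_eq F Fintype.one_lt_card]
        rfl
      have hmem : r ∈ ((X ^ q - X : F[X]).map ι).roots := by
        rw [mem_roots ((Polynomial.map_ne_zero_iff ι.injective).2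
          (FiniteField.X_pow_card_sub_X_ne_zero F Fintype.one_lt_card))]
        simp only [Polynomial.IsRoot.def, eval_map, eval₂_sub, eval₂_pow, eval₂_X]
        exact hcase
      rw [hsp] at hmem
      obtain ⟨l, -, hl⟩ := Multiset.mem_map.1 hmem
      exact ⟨l, hl⟩
    apply H l
    apply ι.injective
    rw [map_add, map_sub, map_mul, map_pow, map_one, map_zero, hl]
    exact hr
  · have h1 : r ^ (q + 1) = 1 := by rw [pow_succ]; linear_combination r * hcase - hr
    have hdvd : f ∣ X ^ (q + 1) - 1 := by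
      rw [← AdjoinRoot.mk_eq_zero]
      simp only [map_sub, map_pow, AdjoinRoot.mk_X, map_one]
      rw [h1, sub_self]
    obtain ⟨g, hg⟩ := hdvd
    have := congrArg (aeval M) hg
    rw [map_mul, hf, Matrix.aeval_self_charpoly, zero_mul] at this
    simpa [sub_eq_zero] using this

/-- A strong covering result in the direction of Thompson's conjecture (non-identity elements) for PSL(2,q), q even: let F be a finite field of characteristic 2 with q ≥ 4 elements and let x ∈ PSL(2,F) have order greater than 2 and not dividing q + 1. Then every non-identity element of PSL(2,F) is a product of two conjugates of x. -/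
theorem result {F : Type*} [Field F] [Fintype F] [CharP F 2] (h4 : 4 ≤ Fintype.card F)
    (x : Matrix.ProjectiveSpecialLinearGroup (Fin 2) F) (hx2 : 2 < orderOf x) (hxq : ¬ orderOf x ∣ Fintype.card F + 1) : ∀ g : Matrix.ProjectiveSpecialLinearGroup (Fin 2) F, g ≠ 1 → ∃ u v : Matrix.ProjectiveSpecialLinearGroup (Fin 2) F, g = (u * x * u⁻¹) * (v * x * v⁻¹) := by
  classical
  intro g hg
  obtain ⟨X, rfl⟩ := QuotientGroup.mk'_surjective _ x
  obtain ⟨G, rfl⟩ := QuotientGroup.mk'_surjective _ g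
  set π := QuotientGroup.mk' (Subgroup.center (Matrix.SpecialLinearGroup (Fin 2) F))
  have hX1 : π X ≠ 1 := fun h => by rw [h, orderOf_one] at hx2; omega
  obtain ⟨l, hl⟩ := split_of_order X (fun h => hxq (orderOf_dvd_of_pow_eq_one (by
    rw [← map_pow, show X ^ (Fintype.card F + 1) = 1 from
      Subtype.ext (by rw [Matrix.SpecialLinearGroup.coe_pow, h]; rfl), map_one])))
  obtain ⟨α, hαdef⟩ : ∃ α, α = Matrix.trace (X : Matrix (Fin 2) (Fin 2) F) := ⟨_, rfl⟩
  have h20 : (2 : F) = 0 := CharTwo.two_eq_zero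
  haveI : Fact (Nat.Prime 2) := ⟨Nat.prime_two⟩
  have hα : α ^ 2 ≠ 4 := by
    intro hh
    rw [hαdef, Matrix.trace_fin_two] at hh
    have hd := det_eq X
    have hmem : X ^ 2 ∈ Subgroup.center (Matrix.SpecialLinearGroup (Fin 2) F) := by
      apply mem_center_of_isScalar'
      rw [Matrix.SpecialLinearGroup.coe_pow, pow_two]
      simp [IsScalar', Matrix.mul_apply, Fin.sum_univ_two]
      have h0 : (X : Matrix (Fin 2) (Fin 2) F) 0 0 + (X : Matrix (Fin 2) (Fin 2) F) 1 1 = 0 := by
        have : ((X : Matrix (Fin 2) (Fin 2) F) 0 0 + (X : Matrix (Fin 2) (Fin 2) F) 1 1) ^ 2 = 0 := by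
          rw [hh]; linear_combination 2 * h20
        exact pow_eq_zero_iff two_ne_zero |>.1 this
      grind
    have h1 : π X ^ 2 = 1 := (QuotientGroup.eq_one_iff (X ^ 2)).2 hmem
    have := Nat.le_of_dvd (by norm_num) (orderOf_dvd_of_pow_eq_one h1)
    omega
  rw [← hαdef] at hl
  have hl0 : l ≠ 0 := fun h => by rw [h] at hl; simp at hl
  have hlα : l + l⁻¹ = α := by field_simp; linear_combination hl
  have hdiff : l - l⁻¹ ≠ 0 := by
    intro h
    apply hα
    rw [← hlα]
    have : l⁻¹ = l := by linear_combination -h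
    rw [this]
    linear_combination (2 * l ^ 2 - 2) * h20
  have hG : ¬ IsScalar' (G : Matrix (Fin 2) (Fin 2) F) := fun h =>
    hg ((QuotientGroup.eq_one_iff G).2 (mem_center_of_isScalar' h))
  suffices ∃ u v, G = (u * X * u⁻¹) * (v * X * v⁻¹) by
    obtain ⟨u, v, huv⟩ := this
    exact ⟨π u, π v, by rw [huv]; simp only [map_mul, map_inv]⟩
  obtain ⟨τ, hτdef⟩ : ∃ τ, τ = Matrix.trace (G : Matrix (Fin 2) (Fin 2) F) := ⟨_, rfl⟩
  set a := (τ - α * l⁻¹) / (l - l⁻¹) with ha
  let Y₁ : Matrix.SpecialLinearGroup (Fin 2) F :=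
    ⟨!![l, 0; 0, l⁻¹], by simp [Matrix.det_fin_two_of, hl0]⟩
  let Y₂ : Matrix.SpecialLinearGroup (Fin 2) F :=
    ⟨!![a, 1; a * (α - a) - 1, α - a], by rw [Matrix.det_fin_two_of]; ring⟩
  refine product_of_conj X G Y₁ Y₂ (hαdef ▸ hα) ?_ ?_ hG ?_ ?_
  · rw [← hαdef]; simp [Y₁, Matrix.trace_fin_two, hlα]
  · rw [← hαdef]; simp [Y₂, Matrix.trace_fin_two]
  · rw [Matrix.SpecialLinearGroup.coe_mul]
    simp [Y₁, Y₂, IsScalar', Matrix.mul_apply, Fin.sum_univ_two, hl0]
  · rw [← hτdef, Matrix.SpecialLinearGroup.coe_mul]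
    simp [Y₁, Y₂, Matrix.trace_fin_two, Matrix.mul_apply, Fin.sum_univ_two]
    have : a * (l - l⁻¹) = τ - α * l⁻¹ := div_mul_cancel₀ _ hdiff
    linear_combination -this

end Cfsg.Agent.S2456
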