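import Cfsg.Statements.S2459
import Cfsg.Agent.Lib.GL.Sourour

set_option autoImplicit false
open Cfsg

namespace Cfsg.Agent.S2459

open Matrix

/-- A vector over three elements, as numerals. -/
abbrev V3 : Type := ℕ × ℕ × ℕ

/-- A matrix over three elements, as rows of numerals. -/
abbrev M3 : Type := V3 × V3 × V3

/-- Read off a vector. -/
def toV (v : V3) : Fin 3 → ZMod 3 := ![v.1, v.2.1, v.2.2]

/-- Read off a matrix. -/
def toM (m : M3) : Matrix (Fin 3) (Fin 3) (ZMod 3) :=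
  !![(m.1.1 : ZMod 3), m.1.2.1, m.1.2.2; m.2.1.1, m.2.1.2.1, m.2.1.2.2; m.2.2.1, m.2.2.2.1, m.2.2.2.2]

/-- Dot product of numerals mod 3. -/
def dot (v w : V3) : ℕ := (v.1 * w.1 + v.2.1 * w.2.1 + v.2.2 * w.2.2) % 3

/-- Matrix times vector. -/
def mulV (m : M3) (v : V3) : V3 := (dot m.1 v, dot m.2.1 v, dot m.2.2 v)

/-- Matrix product. -/
def mulM (m n : M3) : M3 :=
  let c1 := mulV m (n.1.1, n.2.1.1, n.2.2.1)
  let c2 := mulV m (n.1.2.1, n.2.1.2.1, n.2.2.2.1)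
  let c3 := mulV m (n.1.2.2, n.2.1.2.2, n.2.2.2.2)
  ((c1.1, c2.1, c3.1), (c1.2.1, c2.2.1, c3.2.1), (c1.2.2, c2.2.2, c3.2.2))

/-- Determinant mod 3. -/
def detM (m : M3) : ℕ :=
  (m.1.1 * (m.2.1.2.1 * m.2.2.2.2 + 2 * (m.2.1.2.2 * m.2.2.2.1)) +
    2 * (m.1.2.1 * (m.2.1.1 * m.2.2.2.2 + 2 * (m.2.1.2.2 * m.2.2.1))) +
    m.1.2.2 * (m.2.1.1 * m.2.2.2.1 + 2 * (m.2.1.2.1 * m.2.2.1))) % 3

theorem toM_mulM (m n : M3) : toM (mulM m n) = toM m * toM n := by
  ext i j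
  fin_cases i <;> fin_cases j <;>
    simp [toM, mulM, mulV, dot, Matrix.mul_apply, Fin.sum_univ_three, ZMod.natCast_mod]

theorem toV_mulV (m : M3) (v : V3) : toV (mulV m v) = toM m *ᵥ toV v := by
  ext i
  fin_cases i <;> simp [toM, toV, mulV, dot, Matrix.mulVec, dotProduct, Fin.sum_univ_three, ZMod.natCast_mod]

theorem cast_detM (m : M3) : (detM m : ZMod 3) = (toM m).det := by
  have h2 : (2 : ZMod 3) = -1 := by decide
  simp only [detM, ZMod.natCast_mod, Nat.cast_add, Nat.cast_mul, Nat.cast_ofNat, h2]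
  simp [toM, Matrix.det_fin_three]
  ring

/-- A list of conjugators `P`, their inverses, and the inverses of `P * comp * P⁻¹`. -/
def witnesses : List (M3 × M3 × M3) :=
  [(((0, 0, 1), (0, 1, 0), (2, 0, 0)), ((0, 0, 2), (0, 1, 0), (1, 0, 0)), ((0, 0, 2), (1, 0, 0), (0, 2, 2))),
   (((0, 0, 1), (0, 1, 2), (2, 1, 1)), ((2, 1, 2), (1, 1, 0), (1, 0, 0)), ((2, 1, 2), (2, 2, 1), (1, 1, 1))),
   (((0, 0, 1), (1, 2, 1), (2, 2, 1)), ((0, 2, 1), (1, 1, 1), (1, 0, 0)), ((0, 2, 1), (0, 1, 1), (1, 0, 1))),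
   (((0, 0, 1), (1, 1, 0), (1, 2, 2)), ((2, 2, 2), (1, 2, 1), (1, 0, 0)), ((2, 2, 2), (0, 0, 2), (2, 1, 0))),
   (((0, 0, 1), (1, 0, 2), (0, 1, 1)), ((1, 1, 0), (2, 0, 1), (1, 0, 0)), ((1, 1, 0), (0, 1, 1), (2, 1, 0))),
   (((0, 0, 1), (1, 0, 2), (1, 1, 1)), ((1, 1, 0), (1, 2, 1), (1, 0, 0)), ((1, 1, 0), (2, 0, 1), (2, 2, 1))),
   (((0, 0, 2), (2, 1, 1), (1, 0, 2)), ((2, 0, 1), (0, 1, 1), (2, 0, 0)), ((1, 0, 2), (0, 2, 1), (2, 1, 2))),
   (((0, 0, 1), (2, 2, 2), (2, 1, 2)), ((2, 1, 1), (0, 1, 2), (1, 0, 0)), ((2, 1, 1), (2, 2, 1), (1, 2, 1))),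
   (((0, 0, 1), (2, 1, 0), (1, 1, 2)), ((2, 1, 2), (2, 2, 2), (1, 0, 0)), ((2, 1, 2), (1, 2, 0), (2, 0, 1))),
   (((0, 0, 1), (0, 2, 0), (1, 0, 2)), ((1, 0, 1), (0, 2, 0), (1, 0, 0)), ((1, 0, 1), (2, 0, 0), (1, 2, 1))),
   (((0, 0, 2), (0, 1, 1), (1, 1, 1)), ((0, 2, 1), (1, 1, 0), (2, 0, 0)), ((0, 1, 2), (2, 2, 1), (0, 1, 0))),
   (((0, 0, 1), (0, 2, 2), (1, 2, 1)), ((1, 2, 1), (2, 2, 0), (1, 0, 0)), ((1, 2, 1), (1, 1, 2), (1, 2, 0))),
   (((0, 0, 2), (0, 2, 0), (2, 0, 2)), ((1, 0, 2), (0, 2, 0), (2, 0, 0)), ((2, 0, 1), (1, 0, 0), (0, 1, 0))),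
   (((0, 0, 2), (2, 0, 0), (2, 1, 1)), ((0, 2, 0), (1, 2, 1), (2, 0, 0)), ((0, 1, 0), (2, 0, 2), (1, 2, 2))),
   (((0, 0, 1), (1, 0, 0), (2, 1, 1)), ((0, 1, 0), (2, 1, 1), (1, 0, 0)), ((0, 1, 0), (2, 0, 1), (2, 1, 2))),
   (((0, 0, 1), (1, 0, 1), (2, 1, 1)), ((2, 1, 0), (1, 1, 1), (1, 0, 0)), ((2, 1, 0), (1, 1, 1), (1, 1, 2))),
   (((0, 0, 1), (1, 1, 2), (0, 1, 1)), ((2, 1, 2), (2, 0, 1), (1, 0, 0)), ((2, 1, 2), (2, 1, 0), (0, 1, 2))),
   (((0, 0, 1), (0, 2, 2), (1, 1, 2)), ((2, 1, 1), (2, 2, 0), (1, 0, 0)), ((2, 1, 1), (0, 2, 2), (2, 0, 1))),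
   (((0, 0, 1), (1, 1, 0), (2, 0, 2)), ((2, 0, 2), (1, 1, 1), (1, 0, 0)), ((2, 0, 2), (0, 1, 2), (2, 2, 2))),
   (((0, 0, 1), (1, 1, 1), (1, 2, 1)), ((2, 2, 2), (0, 2, 1), (1, 0, 0)), ((2, 2, 2), (1, 2, 1), (2, 2, 1))),
   (((0, 0, 1), (0, 2, 2), (1, 1, 1)), ((0, 1, 1), (2, 2, 0), (1, 0, 0)), ((0, 1, 1), (2, 2, 2), (0, 2, 0))),
   (((0, 0, 1), (2, 0, 0), (1, 2, 1)), ((0, 2, 0), (1, 2, 2), (1, 0, 0)), ((0, 2, 0), (2, 0, 1), (0, 2, 2))),
   (((0, 0, 1), (0, 1, 1), (2, 1, 1)), ((0, 1, 2), (2, 1, 0), (1, 0, 0)), ((0, 1, 2), (1, 1, 2), (2, 1, 1))),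
   (((0, 0, 1), (0, 1, 2), (2, 0, 0)), ((0, 0, 2), (1, 1, 0), (1, 0, 0)), ((0, 0, 2), (1, 0, 1), (2, 2, 2)))]

/-- Companion matrix of `X³ - X - 1`. -/
def comp3 : Matrix (Fin 3) (Fin 3) (ZMod 3) := !![0, 0, 1; 1, 0, 1; 0, 1, 0]

/-- The check on one witness `B` and one matrix `A`: `e₀` is cyclic for `M = B A` and `M³ e₀ = M e₀ + e₀`. -/
def test (B A : M3) : Bool :=
  let M := mulM B A
  let v1 := mulV M (1, 0, 0)
  let v2 := mulV M v1
  let v3 := mulV M v2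
  detM ((1, v1.1, v2.1), (0, v1.2.1, v2.2.1), (0, v1.2.2, v2.2.2)) != 0 &&
    v3 == ((v1.1 + 1) % 3, v1.2.1, v1.2.2)

theorem witnesses_ok : witnesses.all (fun w =>
    mulM w.1 w.2.1 == ((1, 0, 0), (0, 1, 0), (0, 0, 1)) &&
      mulM (mulM (mulM w.1 ((0, 0, 1), (1, 0, 1), (0, 1, 0))) w.2.1) w.2.2 ==
        ((1, 0, 0), (0, 1, 0), (0, 0, 1))) = true := by decide +kernel

theorem cover : (List.range 3).all (fun a => (List.range 3).all fun b => (List.range 3).all fun c =>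
    (List.range 3).all fun d => (List.range 3).all fun e => (List.range 3).all fun f =>
      detM ((0, a, b), (1, c, d), (0, e, f)) != 1 ||
        witnesses.any fun w => test w.2.2 ((0, a, b), (1, c, d), (0, e, f))) = true := by decide +kernel

/-- The matrix statement for three elements. -/
theorem exists_zmod3 (A : Matrix (Fin 3) (Fin 3) (ZMod 3)) (hdet : A.det = 1) (hA : ¬ ∃ c : ZMod 3, A = c • 1) :
    ∃ P Q : Matrix (Fin 3) (Fin 3) (ZMod 3), IsUnit P ∧ IsUnit Q ∧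
      A = (P * comp3 * P⁻¹) * (Q * comp3 * Q⁻¹) := by
  obtain ⟨R, A', hR, hRA, h00, h10, hi0⟩ := Cfsg.Agent.GL.exists_similar_first_col A hA 0
  have hRdet := (Matrix.isUnit_iff_isUnit_det _).1 hR
  let m : M3 := ((0, (A' 0 1).val, (A' 0 2).val), (1, (A' 1 1).val, (A' 1 2).val), (0, (A' 2 1).val, (A' 2 2).val))
  have hA' : toM m = A' := by
    ext i j
    fin_cases i <;> fin_cases j <;> simp [toM, m, h00, h10, hi0 2 (by decide)]
  have hdet' : A'.det = 1 := by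
    have := congrArg Matrix.det hRA
    rw [det_mul, det_mul, hdet, one_mul] at this
    exact (mul_eq_left₀ hRdet.ne_zero).1 this.symm
  have hdm : detM m = 1 := by
    have h1 : ((detM m : ℕ) : ZMod 3) = ((1 : ℕ) : ZMod 3) := by rw [cast_detM, hA', hdet', Nat.cast_one]
    rw [ZMod.natCast_eq_natCast_iff'] at h1
    simpa [detM] using h1
  have hcov := cover
  simp only [List.all_eq_true, List.mem_range] at hcov
  have hc := hcov _ (A' 0 1).val_lt _ (A' 0 2).val_lt _ (A' 1 1).val_lt _ (A' 1 2).val_lt _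
    (A' 2 1).val_lt _ (A' 2 2).val_lt
  rw [show ((0, (A' 0 1).val, (A' 0 2).val), (1, (A' 1 1).val, (A' 1 2).val),
    (0, (A' 2 1).val, (A' 2 2).val)) = m from rfl, hdm] at hc
  simp only [bne_self_eq_false, Bool.false_or, List.any_eq_true] at hc
  obtain ⟨⟨p, p', b⟩, hw, htest⟩ := hc
  have hok := witnesses_ok
  rw [List.all_eq_true] at hok
  have hok' := hok _ hw
  simp only [Bool.and_eq_true, beq_iff_eq] at hok'
  have hone : toM ((1, 0, 0), (0, 1, 0), (0, 0, 1)) = 1 := by decide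
  have hcomp : toM ((0, 0, 1), (1, 0, 1), (0, 1, 0)) = comp3 := by decide
  set P := toM p
  set P' := toM p'
  set B := toM b
  have hPP : P * P' = 1 := by rw [← toM_mulM, hok'.1, hone]
  have hB : P * comp3 * P' * B = 1 := by rw [← hcomp, ← toM_mulM, ← toM_mulM, ← toM_mulM, hok'.2, hone]
  simp only [test, Bool.and_eq_true, bne_iff_ne, ne_eq, beq_iff_eq] at htest
  obtain ⟨hK, hv3⟩ := htest
  set M := mulM b m with hM
  set v1 := mulV M (1, 0, 0) with hv1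
  set v2 := mulV M v1 with hv2
  let K := toM ((1, v1.1, v2.1), (0, v1.2.1, v2.2.1), (0, v1.2.2, v2.2.2))
  have hKdet : IsUnit K.det := by
    rw [← cast_detM, isUnit_iff_ne_zero, Ne, ZMod.natCast_eq_zero_iff]
    intro hd
    apply hK
    simp only [detM] at hd ⊢
    omega
  have hMK : B * A' * K = K * comp3 := by
    rw [← hA', ← toM_mulM, ← hM]
    have e1 := toV_mulV M (1, 0, 0)
    have e2 := toV_mulV M v1
    have e3 := toV_mulV M v2
    rw [← hv1] at e1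
    rw [← hv2] at e2
    rw [hv3] at e3
    ext i j
    fin_cases j
    · have := congrFun e1 i
      fin_cases i <;> simp [K, toM, toV, comp3, Matrix.mul_apply, Matrix.mulVec, dotProduct, Fin.sum_univ_three] at this ⊢ <;> rw [this]
    · have := congrFun e2 i
      fin_cases i <;> simp [K, toM, toV, comp3, Matrix.mul_apply, Matrix.mulVec, dotProduct, Fin.sum_univ_three] at this ⊢ <;> rw [this]
    · have := congrFun e3 i
      fin_cases i <;> simp [K, toM, toV, comp3, Matrix.mul_apply, Matrix.mulVec, dotProduct, Fin.sum_univ_three, ZMod.natCast_mod] at this ⊢ <;> rw [← this] <;> ring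
  have hP : IsUnit P := IsUnit.of_mul_eq_one _ hPP
  refine ⟨R * P, R * K, hR.mul hP, hR.mul ((Matrix.isUnit_iff_isUnit_det _).2 hKdet), ?_⟩
  have e1 : K * comp3 * K⁻¹ = B * A' := by
    rw [← hMK, Matrix.mul_assoc, Matrix.mul_nonsing_inv _ hKdet, Matrix.mul_one]
  have e2 : P⁻¹ = P' := Matrix.inv_eq_right_inv hPP
  calc A = R * A' * R⁻¹ := by rw [← hRA, Matrix.mul_assoc, Matrix.mul_nonsing_inv _ hRdet, Matrix.mul_one]
    _ = R * (P * comp3 * P⁻¹) * (K * comp3 * K⁻¹) * R⁻¹ := by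
        rw [e1, e2, Matrix.mul_assoc R (P * comp3 * P') (B * A'), ← Matrix.mul_assoc _ B A', hB,
          Matrix.one_mul]
    _ = R * P * comp3 * (R * P)⁻¹ * (R * K * comp3 * (R * K)⁻¹) := by
        simp only [Matrix.mul_inv_rev, Matrix.mul_assoc, Matrix.nonsing_inv_mul_cancel_left _ _ hRdet]

/-- `L = u X u⁻¹` with `u ∈ SL`, given similarity and centraliser elements of every determinant. -/
theorem exists_SL_conj {F : Type*} [Field F] {n : ℕ} (X : Matrix.SpecialLinearGroup (Fin n) F)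
    (hX : ∀ δ : F, δ ≠ 0 → ∃ Z : Matrix (Fin n) (Fin n) F, Z.det = δ ∧
      Z * (X : Matrix (Fin n) (Fin n) F) = (X : Matrix (Fin n) (Fin n) F) * Z)
    (P : Matrix (Fin n) (Fin n) F) (hP : IsUnit P) :
    ∃ u : Matrix.SpecialLinearGroup (Fin n) F,
      ((u * X * u⁻¹ : Matrix.SpecialLinearGroup (Fin n) F) : Matrix (Fin n) (Fin n) F) =
        P * (X : Matrix (Fin n) (Fin n) F) * P⁻¹ := by
  have hPd := (Matrix.isUnit_iff_isUnit_det _).1 hP
  obtain ⟨Z, hZ, hZX⟩ := hX P.det⁻¹ (inv_ne_zero hPd.ne_zero)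
  have hd : (P * Z).det = 1 := by rw [det_mul, hZ, mul_inv_cancel₀ hPd.ne_zero]
  let u : Matrix.SpecialLinearGroup (Fin n) F := ⟨P * Z, hd⟩
  refine ⟨u, ?_⟩
  have hZd : IsUnit Z.det := by rw [hZ]; exact isUnit_iff_ne_zero.2 (inv_ne_zero hPd.ne_zero)
  have hu : (u : Matrix (Fin n) (Fin n) F) = P * Z := rfl
  rw [Matrix.SpecialLinearGroup.coe_mul, Matrix.SpecialLinearGroup.coe_mul, Matrix.SpecialLinearGroup.coe_inv,
    hu, show Matrix.adjugate (P * Z) = (P * Z)⁻¹ by rw [Matrix.inv_def, hd, Ring.inverse_one, one_smul],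
    Matrix.mul_inv_rev, Matrix.mul_assoc P Z, hZX]
  simp only [Matrix.mul_assoc, Matrix.mul_nonsing_inv_cancel_left _ _ hZd]

/-- Over a field with a unit `a ≠ ±1`: factor through `diag(1, a, a⁻¹)`. -/
theorem exists_split {F : Type*} [Field F] (a : F) (ha0 : a ≠ 0) (ha : a * a ≠ 1)
    (A : Matrix (Fin 3) (Fin 3) F) (hdet : A.det = 1) (hA : ¬ ∃ c : F, A = c • 1) :
    ∃ P Q : Matrix (Fin 3) (Fin 3) F, IsUnit P ∧ IsUnit Q ∧
      A = (P * diagonal ![1, a, a⁻¹] * P⁻¹) * (Q * diagonal ![1, a, a⁻¹] * Q⁻¹) := by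
  set β : Fin 3 → F := ![1, a, a⁻¹] with hβdef
  have ha1 : a ≠ 1 := by rintro rfl; exact ha (one_mul 1)
  have hai : a⁻¹ ≠ 1 := fun h => ha1 (inv_eq_one.1 h)
  have haa : a ≠ a⁻¹ := fun h => ha (by nth_rewrite 2 [h]; exact mul_inv_cancel₀ ha0)
  have hβ : ∀ i, β i ≠ 0 := by intro i; fin_cases i <;> simp [β, ha0]
  have hinj : Function.Injective β := by
    intro i j h
    fin_cases i <;> fin_cases j <;>
      simp_all [β, eq_comm (a := (1 : F)), eq_comm (a := a⁻¹) (b := a)]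
  obtain ⟨R, L, U, hR, hRA, hLd, hUd, hL, hU⟩ := Cfsg.Agent.GL.exists_similar_lower_mul_upper A (Or.inr hA)
    β β hβ hβ (by rw [hdet, Fin.prod_univ_three]; simp [β]; field_simp)
  have hLc : L.charpoly = ∏ i, (Polynomial.X - Polynomial.C (β i)) := by
    rw [← Matrix.charpoly_transpose, Matrix.charpoly_of_isUpperTriangular Lᵀ (fun i j hij => hL j i hij)]
    simp [hLd]
  have hUc : U.charpoly = ∏ i, (Polynomial.X - Polynomial.C (β i)) := by
    rw [Matrix.charpoly_of_isUpperTriangular _ (fun i j hij => hU i j hij)]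
    simp [hUd]
  obtain ⟨P, hP, hPL⟩ := Cfsg.Agent.GL.exists_similar_diagonal L β hinj hLc
  obtain ⟨Q, hQ, hQU⟩ := Cfsg.Agent.GL.exists_similar_diagonal U β hinj hUc
  have hRdet := (Matrix.isUnit_iff_isUnit_det _).1 hR
  have hPdet := (Matrix.isUnit_iff_isUnit_det _).1 hP
  have hQdet := (Matrix.isUnit_iff_isUnit_det _).1 hQ
  refine ⟨R * P, R * Q, hR.mul hP, hR.mul hQ, ?_⟩
  have eL : P * diagonal β * P⁻¹ = L := by
    rw [← hPL, Matrix.mul_assoc, Matrix.mul_nonsing_inv _ hPdet, Matrix.mul_one]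
  have eU : Q * diagonal β * Q⁻¹ = U := by
    rw [← hQU, Matrix.mul_assoc, Matrix.mul_nonsing_inv _ hQdet, Matrix.mul_one]
  calc A = R * (L * U) * R⁻¹ := by rw [← hRA, Matrix.mul_assoc, Matrix.mul_nonsing_inv _ hRdet, Matrix.mul_one]
    _ = _ := by
        rw [← eL, ← eU]
        simp only [Matrix.mul_inv_rev, Matrix.mul_assoc, Matrix.nonsing_inv_mul_cancel_left _ _ hRdet]

/-- Assemble the projective statement from the matrix one. -/
theorem assemble {F : Type*} [Field F] (p : ℕ) [Fact p.Prime] (N : ℕ) (hN : ¬ p ∣ N)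
    (X : Matrix.SpecialLinearGroup (Fin 3) F) (hXN : X ^ N = 1)
    (hX : ∀ δ : F, δ ≠ 0 → ∃ Z : Matrix (Fin 3) (Fin 3) F, Z.det = δ ∧
      Z * (X : Matrix (Fin 3) (Fin 3) F) = (X : Matrix (Fin 3) (Fin 3) F) * Z)
    (h : ∀ A : Matrix (Fin 3) (Fin 3) F, A.det = 1 → (¬ ∃ c : F, A = c • 1) →
      ∃ P Q : Matrix (Fin 3) (Fin 3) F, IsUnit P ∧ IsUnit Q ∧ A = (P * (X : Matrix (Fin 3) (Fin 3) F) * P⁻¹) * (Q * (X : Matrix (Fin 3) (Fin 3) F) * Q⁻¹)) :
    ∃ x : Matrix.ProjectiveSpecialLinearGroup (Fin 3) F, ¬ p ∣ orderOf x ∧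
      ∀ g : Matrix.ProjectiveSpecialLinearGroup (Fin 3) F, g ≠ 1 →
        ∃ u v : Matrix.ProjectiveSpecialLinearGroup (Fin 3) F, g = (u * x * u⁻¹) * (v * x * v⁻¹) := by
  let π : Matrix.SpecialLinearGroup (Fin 3) F →* Matrix.ProjectiveSpecialLinearGroup (Fin 3) F :=
    QuotientGroup.mk' _
  refine ⟨π X, fun hp => hN (hp.trans (orderOf_dvd_of_pow_eq_one (by rw [← map_pow, hXN, map_one]))),
    fun g hg => ?_⟩
  obtain ⟨A, rfl⟩ := QuotientGroup.mk'_surjective _ g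
  have hA : ¬ ∃ c : F, (A : Matrix (Fin 3) (Fin 3) F) = c • 1 := by
    rintro ⟨c, hc⟩
    apply hg
    refine (QuotientGroup.eq_one_iff A).2 (Matrix.SpecialLinearGroup.mem_center_iff.2 ⟨c, ?_, ?_⟩)
    · simpa [hc, det_smul] using A.2
    · simp [hc, Matrix.scalar_apply, ← Matrix.smul_one_eq_diagonal]
  obtain ⟨P, Q, hP, hQ, hPQ⟩ := h A A.2 hA
  obtain ⟨u, hu⟩ := exists_SL_conj X hX P hP
  obtain ⟨v, hv⟩ := exists_SL_conj X hX Q hQ
  have hAuv : A = u * X * u⁻¹ * (v * X * v⁻¹) := by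
    apply Subtype.ext
    rw [hPQ, Matrix.SpecialLinearGroup.coe_mul, hu, hv]
  refine ⟨π u, π v, ?_⟩
  rw [show QuotientGroup.mk' _ A = π A from rfl, hAuv]
  simp only [map_mul, map_inv]

/-- A form of Thompson's conjecture for PSL(3,q), q > 2 (covering the non-identity elements), with a semisimple class: for F a finite field of characteristic p with more than 2 elements there is an element x of PSL(3,F) of order prime to p such that every non-identity element of PSL(3,F) is a product of two conjugates of x. -/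
theorem result {F : Type*} [Field F] [Fintype F] (p : ℕ) [Fact p.Prime] [CharP F p] (h3 : 3 ≤ Fintype.card F) :
    ∃ x : Matrix.ProjectiveSpecialLinearGroup (Fin 3) F, ¬ p ∣ orderOf x ∧ ∀ g : Matrix.ProjectiveSpecialLinearGroup (Fin 3) F, g ≠ 1 → ∃ u v : Matrix.ProjectiveSpecialLinearGroup (Fin 3) F, g = (u * x * u⁻¹) * (v * x * v⁻¹) := by
  classical
  rcases (show Fintype.card F = 3 ∨ 4 ≤ Fintype.card F by omega) with h | h
  · have hp : p = 3 := by
      have : Fact (Nat.Prime 3) := ⟨Nat.prime_three⟩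
      have : CharP F 3 := charP_of_card_eq_prime (R := F) h
      exact CharP.eq F ‹CharP F p› this
    let e := ZMod.ringEquivOfPrime F Nat.prime_three h
    let X₀ : Matrix.SpecialLinearGroup (Fin 3) (ZMod 3) := ⟨comp3, by decide⟩
    let X : Matrix.SpecialLinearGroup (Fin 3) F := Matrix.SpecialLinearGroup.map e.toRingHom X₀
    have hX₀ : X₀ ^ 13 = 1 := by
      apply Subtype.ext
      change comp3 ^ 13 = 1
      decide +kernel
    refine assemble p 13 (by rw [hp]; decide) X ?_ ?_ ?_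
    · show (Matrix.SpecialLinearGroup.map e.toRingHom X₀) ^ 13 = 1
      rw [← map_pow, hX₀, map_one]
    · intro δ hδ
      refine ⟨δ • 1, ?_, by simp⟩
      have h3 := FiniteField.pow_card δ
      rw [h] at h3
      simp [det_smul, h3]
    · intro A hdet hA
      let φ : Matrix (Fin 3) (Fin 3) (ZMod 3) →+* Matrix (Fin 3) (Fin 3) F := e.toRingHom.mapMatrix
      have hinj : Function.Injective φ := fun M N hMN => Matrix.map_injective e.injective hMN
      obtain ⟨B, rfl⟩ : ∃ B, φ B = A := ⟨A.map e.symm, by ext; simp [φ]⟩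
      have hBdet : B.det = 1 := by
        apply e.injective
        rw [map_one, ← hdet]
        exact RingHom.map_det e.toRingHom B
      obtain ⟨P, Q, hP, hQ, hPQ⟩ := exists_zmod3 B hBdet fun ⟨c, hc⟩ => hA ⟨e c, by
        rw [hc]; ext i j; simp [φ, Matrix.one_apply, apply_ite e]⟩
      refine ⟨φ P, φ Q, hP.map φ, hQ.map φ, ?_⟩
      have hinv : ∀ M, IsUnit M → φ M⁻¹ = (φ M)⁻¹ := fun M hM =>
        (Matrix.inv_eq_right_inv (by rw [← map_mul,
          Matrix.mul_nonsing_inv _ ((Matrix.isUnit_iff_isUnit_det _).1 hM), map_one])).symm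
      rw [show (X : Matrix (Fin 3) (Fin 3) F) = φ comp3 from rfl, ← hinv P hP, ← hinv Q hQ]
      simp only [← map_mul, ← hPQ]
  · obtain ⟨a, ha0, ha⟩ : ∃ a : F, a ≠ 0 ∧ a * a ≠ 1 := by
      by_contra hne
      push Not at hne
      have hsub : (Finset.univ : Finset F) ⊆ {0, 1, -1} := fun x _ => by
        by_cases hx : x = 0
        · simp [hx]
        · rcases mul_self_eq_one_iff.1 (hne x hx) with hx1 | hx1 <;> simp [hx1]
      have := (Finset.card_le_card hsub).trans Finset.card_le_three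
      rw [Finset.card_univ] at this
      omega
    have hp : ¬ p ∣ Fintype.card F - 1 := by
      intro hd
      have h2 : p ∣ Fintype.card F := by
        rw [← CharP.cast_eq_zero_iff F p]
        exact Nat.cast_card_eq_zero F
      have := Nat.dvd_sub h2 hd
      rw [Nat.sub_sub_self (by omega), Nat.dvd_one] at this
      exact (Fact.out : p.Prime).ne_one this
    refine assemble p _ hp ⟨diagonal ![1, a, a⁻¹], by simp [Fin.prod_univ_three, mul_inv_cancel₀ ha0]⟩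
      ?_ ?_ (fun A hdet hA => exists_split a ha0 ha A hdet hA)
    · apply Subtype.ext
      change (diagonal ![1, a, a⁻¹]) ^ (Fintype.card F - 1) = 1
      rw [Matrix.diagonal_pow, ← Matrix.diagonal_one]
      congr 1
      funext i
      fin_cases i <;> simp [FiniteField.pow_card_sub_one_eq_one, ha0, inv_pow]
    · intro δ _
      exact ⟨diagonal ![δ, 1, 1], by simp [Fin.prod_univ_three], by
        simp [Matrix.diagonal_mul_diagonal, mul_comm]⟩

end Cfsg.Agent.S2459
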