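import Cfsg.Statements.S2466

import Cfsg.Agent.Lib.Spectrum.AlternatingOrders

set_option autoImplicit false
set_option linter.style.haveILetI false
open Cfsg

namespace Cfsg.Agent.S2466

/-- Adjacency of odd primes in the prime graph of the alternating groups: let r ≠ s be odd primes at most n. The alternating group of degree n has an element of order r·s if and only if r + s ≤ n. -/
theorem result (n r s : ℕ) (hr : r.Prime) (hs : s.Prime) (hr2 : r ≠ 2) (hs2 : s ≠ 2) (hrs : r ≠ s) (hrn : r ≤ n) (hsn : s ≤ n) :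
    (r * s ∈ Set.range (orderOf : alternatingGroup (Fin n) → ℕ)) ↔ r + s ≤ n := by
  constructor
  · rintro ⟨σ, hσ⟩
    obtain ⟨hsum, -, hlcm⟩ := Spectrum.cycleType_of_mem σ
    rw [hσ] at hlcm
    obtain ⟨a, ha, hra⟩ := Spectrum.exists_mem_dvd_of_prime_dvd_lcm hr _ (hlcm.symm ▸ dvd_mul_right r s)
    obtain ⟨b, hb, hsb⟩ := Spectrum.exists_mem_dvd_of_prime_dvd_lcm hs _ (hlcm.symm ▸ dvd_mul_left s r)
    have hapos : 0 < a := by have := Equiv.Perm.two_le_of_mem_cycleType ha; omega
    have hbpos : 0 < b := by have := Equiv.Perm.two_le_of_mem_cycleType hb; omega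
    refine le_trans ?_ hsum
    by_cases hab : a = b
    · have h1 : r * s ∣ a :=
        ((Nat.coprime_primes hr hs).mpr hrs).mul_dvd_of_dvd_of_dvd hra (hab ▸ hsb)
      have h2 := Multiset.le_sum_of_mem ha
      have h3 := Nat.le_of_dvd hapos h1
      have := hr.two_le
      have := hs.two_le
      nlinarith
    · exact le_trans (Nat.add_le_add (Nat.le_of_dvd hapos hra) (Nat.le_of_dvd hbpos hsb))
        (Spectrum.add_le_sum ha ((Multiset.mem_erase_of_ne (Ne.symm hab)).mpr hb))
  · intro h
    obtain ⟨σ, hσ⟩ := Spectrum.exists_orderOf_alternating (n := n) {r, s}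
      (by simp [hr.two_le, hs.two_le]) (by simpa using h) (by
        have h1 := hr.eq_two_or_odd.resolve_left hr2
        have h2 := hs.eq_two_or_odd.resolve_left hs2
        simp [Nat.even_iff]; omega)
    refine ⟨σ, hσ.trans ?_⟩
    simp only [Multiset.insert_eq_cons, Multiset.lcm_cons, Multiset.lcm_singleton, normalize_eq]
    exact ((Nat.coprime_primes hr hs).mpr hrs).lcm_eq_mul

end Cfsg.Agent.S2466
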