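import Cfsg.Statements.S2467

import Cfsg.Agent.Lib.Spectrum.AlternatingOrders

set_option autoImplicit false
set_option linter.style.haveILetI false
open Cfsg

namespace Cfsg.Agent.S2467

/-- Adjacency of 2 and an odd prime in the prime graph of the alternating groups: let r be an odd prime at most n, with n ≥ 4. The alternating group of degree n has an element of order 2r if and only if r + 4 ≤ n. -/
theorem result (n r : ℕ) (hn : 4 ≤ n) (hr : r.Prime) (hr2 : r ≠ 2) (hrn : r ≤ n) :
    (2 * r ∈ Set.range (orderOf : alternatingGroup (Fin n) → ℕ)) ↔ r + 4 ≤ n := by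
  constructor
  · rintro ⟨σ, hσ⟩
    obtain ⟨hsum, heven, hlcm⟩ := Spectrum.cycleType_of_mem σ
    rw [hσ] at hlcm
    obtain ⟨a, ha, hra⟩ := Spectrum.exists_mem_dvd_of_prime_dvd_lcm hr _ (hlcm.symm ▸ dvd_mul_left r 2)
    have hapos : 0 < a := by have := Equiv.Perm.two_le_of_mem_cycleType ha; omega
    have hr3 : 3 ≤ r := by have := hr.two_le; omega
    refine le_trans ?_ hsum
    by_cases ha2 : Even a
    · obtain ⟨b, hb, -⟩ := Spectrum.exists_mem_even_erase _ heven ha ha2
      have h1 := Equiv.Perm.two_le_of_mem_cycleType (Multiset.mem_of_mem_erase hb)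
      have h2 := Spectrum.add_le_sum ha hb
      have h3 : 2 * r ≤ a := Nat.le_of_dvd hapos
        (((Nat.coprime_primes Nat.prime_two hr).mpr (Ne.symm hr2)).mul_dvd_of_dvd_of_dvd
          (even_iff_two_dvd.mp ha2) hra)
      omega
    · obtain ⟨b, hb, h2b⟩ := Spectrum.exists_mem_dvd_of_prime_dvd_lcm Nat.prime_two _
        (hlcm.symm ▸ dvd_mul_right 2 r)
      obtain ⟨c, hc, hc2⟩ := Spectrum.exists_mem_even_erase _ heven hb (even_iff_two_dvd.mpr h2b)
      have hba : a ≠ b := fun h => ha2 (h ▸ even_iff_two_dvd.mpr h2b)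
      have hca : a ≠ c := fun h => ha2 (h ▸ hc2)
      have ha' := (Multiset.mem_erase_of_ne hca).mpr ((Multiset.mem_erase_of_ne hba).mpr ha)
      have h3 : c + a ≤ ((σ : Equiv.Perm (Fin n)).cycleType.erase b).sum :=
        Spectrum.add_le_sum hc ha'
      have h4 : b + ((σ : Equiv.Perm (Fin n)).cycleType.erase b).sum =
          (σ : Equiv.Perm (Fin n)).cycleType.sum := by
        rw [← Multiset.sum_cons, Multiset.cons_erase hb]
      have h5 := Equiv.Perm.two_le_of_mem_cycleType hb
      have h6 := Equiv.Perm.two_le_of_mem_cycleType (Multiset.mem_of_mem_erase hc)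
      have h7 := Nat.le_of_dvd hapos hra
      omega
  · intro h
    have h1 := hr.eq_two_or_odd.resolve_left hr2
    obtain ⟨σ, hσ⟩ := Spectrum.exists_orderOf_alternating (n := n) {r, 2, 2}
      (by simp [hr.two_le]) (by simpa [← add_assoc] using h) (by simp [Nat.even_iff]; omega)
    refine ⟨σ, hσ.trans ?_⟩
    simp only [Multiset.insert_eq_cons, Multiset.lcm_cons, Multiset.lcm_singleton, normalize_eq, lcm_same]
    show Nat.lcm r 2 = 2 * r
    rw [((Nat.coprime_primes hr Nat.prime_two).mpr hr2).lcm_eq_mul, mul_comm]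

end Cfsg.Agent.S2467
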