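import Cfsg.Statements.S2468

import Cfsg.Agent.Lib.GL.PrimePairs

set_option autoImplicit false
open Cfsg Matrix Polynomial
open Cfsg.Agent Cfsg.Agent.GL.PrimePairs

namespace Cfsg.Agent.S2468

/-- Adjacency of two odd primes in the prime graph of PSL(n,q): let F be a finite field of characteristic p with q elements, n ≥ 2 with PSL(n,F) simple, and let r ≠ s be odd primes different from p dividing the order of PSL(n,F). Let k and l be the multiplicative orders of q modulo r and modulo s, and suppose 2 ≤ k ≤ l. Then PSL(n,F) has NO element of order r·s if and only if k + l > n and k does not divide l. -/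
theorem result {F : Type*} [Field F] [Fintype F] (p : ℕ) [Fact p.Prime] [CharP F p] (n : ℕ) (hn : 2 ≤ n) (hsmall : n = 2 → 4 ≤ Fintype.card F)
    (r s : ℕ) (hr : r.Prime) (hs : s.Prime) (hr2 : r ≠ 2) (hs2 : s ≠ 2) (hrp : r ≠ p) (hsp : s ≠ p) (hrs : r ≠ s)
    (hrG : r ∣ Nat.card (Matrix.ProjectiveSpecialLinearGroup (Fin n) F)) (hsG : s ∣ Nat.card (Matrix.ProjectiveSpecialLinearGroup (Fin n) F))
    (k l : ℕ) (hk : k = orderOf ((Fintype.card F : ℕ) : ZMod r)) (hl : l = orderOf ((Fintype.card F : ℕ) : ZMod s))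
    (h2k : 2 ≤ k) (hkl : k ≤ l) :
    (r * s ∉ Set.range (orderOf : Matrix.ProjectiveSpecialLinearGroup (Fin n) F → ℕ)) ↔ (n < k + l ∧ ¬ k ∣ l) := by
  classical
  have : NeZero n := ⟨by omega⟩
  have hrq := not_dvd_sub_one hk h2k
  have hsq := not_dvd_sub_one hl (h2k.trans hkl)
  obtain ⟨hkn, hk0⟩ := order_le p hn hr hrp hrG
  obtain ⟨hln, hl0⟩ := order_le p hn hs hsp hsG
  rw [← hk] at hkn hk0
  rw [← hl] at hln hl0
  have hcrs : r.Coprime s := (Nat.coprime_primes hr hs).2 hrs
  constructor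
  · intro hno
    constructor
    · by_contra hle
      refine hno ?_
      obtain ⟨Z, hZ, -, hZc⟩ := GL.exists_norm_one_matrix (F := F) k hk0
      obtain ⟨W, hW, -, hWc⟩ := GL.exists_norm_one_matrix (F := F) l hl0
      refine exists_orderOf (GL.twoBlock (show k + (n - k) = n by omega)
        (Z, GL.twoBlock (show l + (n - k - l) = n - k by omega) (W, 1)))
        (by rw [GL.det_twoBlock, GL.det_twoBlock, hZ, hW, det_one, one_mul, one_mul])
        (Nat.mul_ne_zero hr.ne_zero hs.ne_zero) fun N c hc => ?_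
      obtain ⟨e1, e2⟩ := (GL.twoBlock_eq_smul_one _ _ c).1 ((map_pow _ _ N).trans hc)
      obtain ⟨e3, -⟩ := (GL.twoBlock_eq_smul_one _ _ c).1 ((map_pow _ _ N).trans e2)
      refine hcrs.mul_dvd_of_dvd_of_dvd ?_ ?_
      · exact ((hr.coprime_iff_not_dvd).2 hrq).dvd_of_dvd_mul_right
          ((dvd_normIndex hr hk hrq dvd_rfl).trans (hZc N c e1))
      · exact ((hs.coprime_iff_not_dvd).2 hsq).dvd_of_dvd_mul_right
          ((dvd_normIndex hs hl hsq dvd_rfl).trans (hWc N c e3))
    · intro hkdl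
      refine hno ?_
      obtain ⟨W, hW, -, hWc⟩ := GL.exists_norm_one_matrix (F := F) l hl0
      refine exists_orderOf (GL.twoBlock (show l + (n - l) = n by omega) (W, 1))
        (by rw [GL.det_twoBlock, hW, det_one, one_mul]) (Nat.mul_ne_zero hr.ne_zero hs.ne_zero) fun N c hc => ?_
      obtain ⟨e1, -⟩ := (GL.twoBlock_eq_smul_one _ _ c).1 ((map_pow _ _ N).trans hc)
      have h := hcrs.mul_dvd_of_dvd_of_dvd (dvd_normIndex hr hk hrq hkdl) (dvd_normIndex hs hl hsq dvd_rfl)
      exact (((hr.coprime_iff_not_dvd).2 hrq).mul_left ((hs.coprime_iff_not_dvd).2 hsq)).dvd_of_dvd_mul_right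
        (h.trans (hWc N c e1))
  · rintro ⟨hlt, hkl'⟩ ⟨y, hy⟩
    obtain ⟨g, hg1, hg2⟩ := exists_lift y (hy ▸ ((hr.coprime_iff_not_dvd).2 hrq).mul_left ((hs.coprime_iff_not_dvd).2 hsq))
    rw [hy] at hg1 hg2
    set A : Matrix (Fin n) (Fin n) F := (g : Matrix (Fin n) (Fin n) F)
    have hA : A ^ (r * s) = 1 := by
      rw [← Matrix.SpecialLinearGroup.coe_pow, hg1]; rfl
    have hne : ∀ a : ℕ, ¬ r * s ∣ a → A ^ a ≠ 1 := fun a ha h => ha (hg2 a (Subtype.ext (by
      rw [Matrix.SpecialLinearGroup.coe_pow]; exact h)))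
    have hpm : ¬ p ∣ r * s := fun h => by
      rcases (Fact.out : p.Prime).dvd_mul.1 h with h | h
      · exact hrp ((Nat.prime_dvd_prime_iff_eq Fact.out hr).1 h).symm
      · exact hsp ((Nat.prime_dvd_prime_iff_eq Fact.out hs).1 h).symm
    obtain ⟨f₁, hf₁m, hf₁, hd₁, h1₁, h2₁⟩ := exists_factor p A hpm hA (hne s fun h => by
      have := Nat.le_of_dvd hs.pos h
      have := hr.two_le
      have := hs.two_le
      nlinarith)
    obtain ⟨f₂, hf₂m, hf₂, hd₂, h1₂, h2₂⟩ := exists_factor p A hpm hA (hne r fun h => by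
      have := Nat.le_of_dvd hr.pos h
      have := hr.two_le
      have := hs.two_le
      nlinarith)
    have hk₁ : k ∣ f₁.natDegree := hk ▸ order_dvd_natDegree hf₁m hf₁ hr dvd_rfl h1₁ h2₁
    have hl₂ : l ∣ f₂.natDegree := hl ▸ order_dvd_natDegree hf₂m hf₂ hs (by rw [mul_comm]) h1₂ h2₂
    have hμ0 : minpoly F A ≠ 0 := minpoly.ne_zero (Algebra.IsIntegral.isIntegral A)
    have hμn : (minpoly F A).natDegree ≤ n :=
      (natDegree_le_of_dvd (Matrix.minpoly_dvd_charpoly A) (Matrix.charpoly_monic A).ne_zero).trans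
        (le_of_eq (by rw [Matrix.charpoly_natDegree_eq_dim, Fintype.card_fin]))
    by_cases he : f₁ = f₂
    · subst he
      have h3 := natDegree_le_of_dvd hd₁ hμ0
      obtain ⟨j, hj⟩ := hl₂
      have hpos := hf₁.natDegree_pos
      rcases Nat.lt_or_ge j 2 with hj2 | hj2
      · obtain rfl : j = 1 := by
          rcases j with _ | _ | j
          · simp [hj] at hpos
          · rfl
          · omega
        exact hkl' (by rwa [hj, mul_one] at hk₁)
      · have := Nat.mul_le_mul_left l hj2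
        omega
    · have hco : IsCoprime f₁ f₂ := (hf₁.coprime_iff_not_dvd).2 fun h =>
        he (eq_of_monic_of_associated hf₁m hf₂m (hf₁.associated_of_dvd hf₂ h))
      have h3 := natDegree_le_of_dvd (hco.mul_dvd hd₁ hd₂) hμ0
      rw [natDegree_mul hf₁.ne_zero hf₂.ne_zero] at h3
      have := Nat.le_of_dvd hf₁.natDegree_pos hk₁
      have := Nat.le_of_dvd hf₂.natDegree_pos hl₂
      omega

end Cfsg.Agent.S2468
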