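import Cfsg.Statements.S2469
import Cfsg.Agent.Lib.GL.TorusArith
-- import your own Cfsg.Agent.* helpers here

set_option autoImplicit false
open Cfsg

namespace Cfsg.Agent.S2469

/-- Adjacency of two odd primes in the prime graph of PSp(2n,q): let F be a finite field of characteristic p with q elements, n ≥ 2 with PSp(2n,F) simple, and let r ≠ s be odd primes different from p dividing the order of PSp(2n,F). Let k, l be the multiplicative orders of q modulo r and s, put η(m) = m for odd m and η(m) = m/2 for even m, and suppose η(k) ≤ η(l). Then PSp(2n,F) has NO element of order r·s if and only if η(k) + η(l) > n and l/k is not an odd integer. -/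
theorem result {F : Type*} [Field F] [Fintype F] (p : ℕ) [Fact p.Prime] [CharP F p] (n : ℕ) (hn : 2 ≤ n) (hsmall : n = 2 → 3 ≤ Fintype.card F)
    (r s : ℕ) (hr : r.Prime) (hs : s.Prime) (hr2 : r ≠ 2) (hs2 : s ≠ 2) (hrp : r ≠ p) (hsp : s ≠ p) (hrs : r ≠ s)
    (hrG : r ∣ Nat.card (Cfsg.PSp n F)) (hsG : s ∣ Nat.card (Cfsg.PSp n F))
    (k l ηk ηl : ℕ) (hk : k = orderOf ((Fintype.card F : ℕ) : ZMod r)) (hl : l = orderOf ((Fintype.card F : ℕ) : ZMod s))
    (hηk : (Odd k ∧ ηk = k) ∨ (Even k ∧ 2 * ηk = k)) (hηl : (Odd l ∧ ηl = l) ∨ (Even l ∧ 2 * ηl = l)) (hkl : ηk ≤ ηl) :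
    (r * s ∉ Set.range (orderOf : Cfsg.PSp n F → ℕ)) ↔ (n < ηk + ηl ∧ ¬ ∃ t : ℕ, Odd t ∧ l = k * t) := by
  subst hk hl
  have hrq := GL.prime_not_dvd_card (F := F) p hr hrp
  have hsq := GL.prime_not_dvd_card (F := F) p hs hsp
  have hη : GL.IsEta _ ηk := ⟨hηk⟩
  have hθ : GL.IsEta _ ηl := ⟨hηl⟩
  have hq : 0 < Fintype.card F := Fintype.card_pos
  have hη0 := hη.pos (GL.order_pos hr hrq)
  have hθ0 := hθ.pos (GL.order_pos hs hsq)
  have hln := GL.eta_le_of_dvd_card hs hsq hθ hsG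
  set q := Fintype.card F with hqdef
  set k := orderOf ((q : ℕ) : ZMod r) with hkdef
  set l := orderOf ((q : ℕ) : ZMod s) with hldef
  have hco := (Nat.coprime_primes hr hs).2 hrs
  have hnum : ∀ d b, 0 < d → (r * s ∣ GL.torusExp q d b ↔
      (if b then (k ∣ 2 * d ∧ ¬ k ∣ d) ∧ (l ∣ 2 * d ∧ ¬ l ∣ d) else k ∣ d ∧ l ∣ d)) := by
    intro d b hd
    rw [show (r * s ∣ GL.torusExp q d b) ↔ r ∣ GL.torusExp q d b ∧ s ∣ GL.torusExp q d b from
      ⟨fun h => ⟨(dvd_mul_right r s).trans h, (dvd_mul_left s r).trans h⟩,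
        fun h => hco.mul_dvd_of_dvd_of_dvd h.1 h.2⟩,
      GL.dvd_torusExp_iff_num hr hr2 hq hd, GL.dvd_torusExp_iff_num hs hs2 hq hd]
    cases b
    · simp only [Bool.false_eq_true, if_false, GL.dvd_pow_sub_one_iff_order hr hq,
        GL.dvd_pow_sub_one_iff_order hs hq]
      rfl
    · simp only [if_true, GL.dvd_pow_add_one_iff_order hr hr2 hq, GL.dvd_pow_add_one_iff_order hs hs2 hq]
      rfl
  constructor
  · intro h
    constructor
    · by_contra hle
      obtain ⟨b₁, hb₁⟩ := (GL.exists_torus_iff hr hr2 hq hη hη0).2 dvd_rfl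
      obtain ⟨b₂, hb₂⟩ := (GL.exists_torus_iff hs hs2 hq hθ hθ0).2 dvd_rfl
      exact h (GL.psp_of_crit (F := F) p hr hs hrs
        (Or.inr (Or.inl ⟨ηk, b₁, ηl, b₂, hη0, hθ0, by omega, hb₁, hb₂⟩)))
    · rintro ⟨t, ht, hlt⟩
      refine h (GL.psp_of_crit (F := F) p hr hs hrs (Or.inl ⟨ηl, !decide (Odd l), hθ0, hln, ?_⟩))
      rw [hnum ηl _ hθ0]
      rcases Nat.even_or_odd l with hle | hlo
      · rw [decide_eq_false (Nat.not_odd_iff_even.2 hle), Bool.not_false, if_pos rfl]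
        have h2l : 2 * ηl = l := hθ.cases.elim (fun h' => absurd h'.1 (Nat.not_odd_iff_even.2 hle)) (fun h' => h'.2)
        refine ⟨⟨?_, fun hd => ?_⟩, (hθ.dvd_iff _).2 dvd_rfl,
          fun hd => Nat.not_odd_iff_even.2 hle ((hθ.dvd_self_iff hθ0).1 hd)⟩
        · exact h2l ▸ hlt ▸ dvd_mul_right k t
        · obtain ⟨c, hc⟩ := hd
          have h' : k * t = k * (2 * c) := by rw [← hlt, ← h2l, hc]; ring
          have hk0 : 0 < k := GL.order_pos hr hrq
          have := Nat.eq_of_mul_eq_mul_left hk0 h'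
          rw [this, Nat.odd_iff] at ht
          omega
      · rw [decide_eq_true hlo, Bool.not_true, if_neg (by simp)]
        have h2 := (hθ.dvd_self_iff hθ0).2 hlo
        exact ⟨(hlt ▸ dvd_mul_right k t).trans h2, h2⟩
  · rintro ⟨hgt, hno⟩ h
    rcases GL.crit_of_psp (F := F) p hn hr hs hrs h with
      ⟨d, b, hd, hdn, hdv⟩ | ⟨d₁, b₁, d₂, b₂, h1, h2, h3, h4, h5⟩ | ⟨d, b, hd, hdn, h' | h'⟩
    · obtain ⟨h4, h5⟩ : r ∣ GL.torusExp q d b ∧ s ∣ GL.torusExp q d b :=
        ⟨(dvd_mul_right r s).trans hdv, (dvd_mul_left s r).trans hdv⟩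
      have e1 : ηk ∣ d := (GL.exists_torus_iff hr hr2 hq hη hd).1 ⟨b, h4⟩
      have e2 : ηl ∣ d := (GL.exists_torus_iff hs hs2 hq hθ hd).1 ⟨b, h5⟩
      have hde : d = ηl := by
        obtain ⟨c, rfl⟩ := e2
        rcases Nat.lt_or_ge c 2 with hc | hc
        · interval_cases c
          · omega
          · rw [mul_one]
        · have := Nat.mul_le_mul_left ηl hc
          omega
      rw [hde] at hdv e1
      refine hno ?_
      replace hdv := (hnum ηl b hθ0).1 hdv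
      obtain ⟨c, hc⟩ := e1
      cases b
      · obtain ⟨hk', hl'⟩ : k ∣ ηk * c ∧ l ∣ ηk * c := by simpa [hc] using hdv
        have hlo : Odd l := (hθ.dvd_self_iff hθ0).1 (hc ▸ hl')
        rcases hθ.cases with ⟨-, he⟩ | ⟨he, -⟩
        · obtain ⟨t, ht⟩ := he ▸ hc ▸ hk'
          refine ⟨t, ?_, ht⟩
          rw [ht, Nat.odd_mul] at hlo
          exact hlo.2
        · exact absurd hlo (Nat.not_odd_iff_even.2 he)
      · simp only [if_true] at hdv
        obtain ⟨⟨-, hk'⟩, -, hl'⟩ := hdv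
        have hle : ¬ Odd l := fun ho => hl' ((hθ.dvd_self_iff hθ0).2 ho)
        have h2l : 2 * ηl = l := hθ.cases.elim (fun h' => absurd h'.1 hle) (fun h' => h'.2)
        rcases hη.cases with ⟨hko, he⟩ | ⟨-, h2k⟩
        · exact absurd (hc ▸ he ▸ dvd_mul_right ηk c) hk'
        · refine ⟨c, ?_, by rw [← h2l, ← h2k, hc]; ring⟩
          refine Nat.not_even_iff_odd.1 fun hce => hk' ?_
          obtain ⟨c', hc'⟩ := hce
          exact ⟨c', by rw [hc, hc', ← h2k]; ring⟩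
    · have := Nat.le_of_dvd h1 ((GL.exists_torus_iff hr hr2 hq hη h1).1 ⟨b₁, h4⟩)
      have := Nat.le_of_dvd h2 ((GL.exists_torus_iff hs hs2 hq hθ h2).1 ⟨b₂, h5⟩)
      omega
    · exact hsp h'.1
    · exact hrp h'.1

end Cfsg.Agent.S2469
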