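import Cfsg.Statements.S2470

import Cfsg.Agent.Lib.GL.PrimePairs
import Cfsg.Agent.Lib.GL.CentralizerFactors
import Cfsg.Agent.Lib.PSL2.Classes

set_option autoImplicit false
set_option linter.unusedSectionVars false
open Cfsg Matrix Polynomial
open Cfsg.Agent Cfsg.Agent.GL.PrimePairs

namespace Cfsg.Agent.S2470

section
variable {F : Type*} [Field F]

/-- An endomorphism commuting with a non-zero nilpotent one has no large irreducible factor. -/
theorem no_large_factor {V : Type*} [AddCommGroup V] [Module F V] [FiniteDimensional F V] (f N : Module.End F V)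
    (hN : IsNilpotent N) (hN0 : N ≠ 0) (hc : Commute f N) {g : F[X]} (hg : Irreducible g)
    (hgd : g ∣ minpoly F f) (hd1 : Module.finrank F V ≤ g.natDegree + 1)
    (hd2 : Module.finrank F V < 2 * g.natDegree) : False := by
  obtain ⟨m, hm⟩ := hN
  -- a nilpotent map kills a nonzero vector of every invariant nonzero subspace
  have hfixed : ∀ W : Submodule F V, W ≠ ⊥ → (∀ w ∈ W, N w ∈ W) → W ⊓ LinearMap.ker N ≠ ⊥ := by
    intro W hW hinv hbot
    obtain ⟨w, hw, hw0⟩ := W.exists_mem_ne_zero_of_ne_bot hW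
    have key : ∀ j : ℕ, (N ^ j) w ≠ 0 ∧ (N ^ j) w ∈ W := by
      intro j
      induction j with
      | zero => exact ⟨by simpa using hw0, by simpa using hw⟩
      | succ j ih =>
        rw [pow_succ', Module.End.mul_apply]
        refine ⟨fun h => ih.1 ?_, hinv _ ih.2⟩
        have h2 : (N ^ j) w ∈ W ⊓ LinearMap.ker N := ⟨ih.2, h⟩
        rw [hbot] at h2
        simpa using h2
    exact (key m).1 (by rw [hm]; rfl)
  set U := LinearMap.ker (aeval f g)
  have hU0 : U ≠ ⊥ := by
    intro h
    obtain ⟨e, he⟩ := hgd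
    have hint := Algebra.IsIntegral.isIntegral (R := F) f
    have he0 : e ≠ 0 := fun h0 => minpoly.ne_zero hint (by rw [he, h0, mul_zero])
    have h0 : aeval f e = 0 := LinearMap.ext fun v => by
      have h1 : aeval f e v ∈ U := by
        rw [LinearMap.mem_ker, ← Module.End.mul_apply, ← map_mul, ← he, minpoly.aeval, LinearMap.zero_apply]
      rw [h] at h1
      simpa using h1
    have h2 := natDegree_le_of_dvd (minpoly.dvd F f h0) he0
    rw [he, natDegree_mul hg.ne_zero he0] at h2
    have := hg.natDegree_pos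
    omega
  have hsmall : ∀ W : Submodule F V, W ≠ ⊥ → (∀ w ∈ W, f w ∈ W) → W ≤ U → g.natDegree ≤ Module.finrank F W :=
    fun W h0 hinv hle => GL.natDegree_le_finrank_of_invariant f hg W h0 hinv fun u hu => hle hu
  have hUinv : ∀ u ∈ U, f u ∈ U := fun u hu => by
    rw [LinearMap.mem_ker] at hu ⊢
    rw [← Module.End.mul_apply, (GL.commute_aeval_of_commute (Commute.refl f) g).eq, Module.End.mul_apply, hu, map_zero]
  have hUN : ∀ u ∈ U, N u ∈ U := fun u hu => by
    rw [LinearMap.mem_ker] at hu ⊢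
    rw [← Module.End.mul_apply, (GL.commute_aeval_of_commute hc g).eq, Module.End.mul_apply, hu, map_zero]
  have hNinv : ∀ v : V, N v = 0 → N (f v) = 0 := fun v hv => by
    rw [← Module.End.mul_apply, ← hc.eq, Module.End.mul_apply, hv, map_zero]
  have hUK : U ≤ LinearMap.ker N := by
    by_contra hnle
    have h1 := hsmall _ (hfixed U hU0 hUN) (fun w hw => ⟨hUinv w hw.1, hNinv w hw.2⟩) inf_le_left
    have hI0 : U.map N ≠ ⊥ := fun h => hnle fun u hu => by
      have : N u ∈ U.map N := Submodule.mem_map_of_mem hu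
      rw [h] at this
      simpa using this
    have h2 := hsmall _ hI0 (fun w ⟨u, hu, hw⟩ => ⟨f u, hUinv u hu, by
        rw [← hw, ← Module.End.mul_apply, ← hc.eq, Module.End.mul_apply]⟩)
      (fun w ⟨u, hu, hw⟩ => hw ▸ hUN u hu)
    have h3 := LinearMap.finrank_range_add_finrank_ker (N.domRestrict U)
    rw [LinearMap.range_domRestrict, LinearMap.ker_domRestrict] at h3
    have h4 : Module.finrank F ((LinearMap.ker N).comap U.subtype) =
        Module.finrank F (U ⊓ LinearMap.ker N : Submodule F V) := by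
      rw [← Submodule.finrank_map_subtype_eq, Submodule.map_comap_subtype]
    have h5 := Submodule.finrank_le U
    omega
  have hd := hsmall U hU0 hUinv le_rfl
  have hKlt : Module.finrank F (LinearMap.ker N) < Module.finrank F V :=
    Submodule.finrank_lt fun h => hN0 (LinearMap.ker_eq_top.1 h)
  have hK : U = LinearMap.ker N := Submodule.eq_of_le_of_finrank_le hUK (by omega)
  have h1 := hsmall (LinearMap.range N ⊓ LinearMap.ker N)
    (hfixed _ (fun h => hN0 (LinearMap.range_eq_bot.1 h)) fun w _ => LinearMap.mem_range_self N _)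
    (fun w hw => ⟨by
      obtain ⟨x, rfl⟩ := hw.1
      exact ⟨f x, by rw [← Module.End.mul_apply, ← hc.eq, Module.End.mul_apply]⟩, hNinv w hw.2⟩)
    (inf_le_right.trans hK.ge)
  have h2 := Submodule.finrank_mono (inf_le_left : LinearMap.range N ⊓ LinearMap.ker N ≤ LinearMap.range N)
  have h3 := LinearMap.finrank_range_add_finrank_ker N
  rw [← hK] at h3
  omega

/-- In dimension three, a non-scalar determinant one map of cube one centralises no non-zero nilpotent. -/
theorem no_nilpotent_three {V : Type*} [AddCommGroup V] [Module F V] [FiniteDimensional F V]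
    (hV : Module.finrank F V = 3) (f N : Module.End F V) {ω : F} (hω : ω ^ 3 = 1) (hω1 : ω ≠ 1)
    (hf3 : f ^ 3 = 1) (hdet : LinearMap.det f = 1) (hns : ∀ z : F, f ≠ z • 1)
    (hN : IsNilpotent N) (hc : Commute f N) : N = 0 := by
  have hω0 : ω ≠ 0 := fun h => by rw [h] at hω; simp at hω
  have hsum : 1 + ω + ω ^ 2 = 0 := mul_left_cancel₀ (sub_ne_zero.2 hω1) (by linear_combination hω)
  set E : F → Submodule F V := fun z => LinearMap.ker (f - z • (1 : Module.End F V)) with hE
  have hmem : ∀ z v, v ∈ E z ↔ f v = z • v := fun z v => by simp [hE, sub_eq_zero]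
  have hdisj : ∀ a b, a ≠ b → E a ⊓ E b = ⊥ := fun a b hab => (Submodule.eq_bot_iff _).2 fun v ⟨h1, h2⟩ => by
    rw [SetLike.mem_coe, hmem] at h1 h2
    by_contra hv
    exact hab (smul_left_injective F hv (h1.symm.trans h2))
  have hcube : ∀ v, f (f (f v)) = v := fun v => LinearMap.congr_fun hf3 v
  -- if one eigenvalue is missing, the determinant is wrong
  have htwo : ∀ a b c : F, a ^ 3 = 1 → b ^ 3 = 1 → a ≠ b → a + b + c = 0 → a * b + b * c + c * a = 0 →
      a * b * c = 1 → E c ≠ ⊥ := by
    intro a b c ha hb hab h1 h2 h3 hbot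
    have hzero : ∀ v, f (f v) - (a + b) • f v + (a * b) • v = 0 := fun v => by
      have hw : f (f v) - (a + b) • f v + (a * b) • v ∈ E c := by
        rw [hmem, map_add, map_sub, map_smul, map_smul, hcube]
        have e1 : a + b = -c := by linear_combination h1
        have e2 : a * b = c * c := by linear_combination h2 - c * h1
        rw [smul_add, smul_sub, smul_smul, smul_smul, mul_comm c (a + b), mul_comm c (a * b), h3, e1, neg_smul,
          sub_neg_eq_add, one_smul, e2]
        module
      rw [hbot] at hw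
      exact (Submodule.mem_bot F).1 hw
    have hsub : (a - b) ≠ 0 := sub_ne_zero.2 hab
    have hC : IsCompl (E a) (E b) := by
      refine ⟨disjoint_iff.2 (hdisj a b hab), codisjoint_iff.2 (eq_top_iff.2 fun v _ => ?_)⟩
      have hv : v = (a - b)⁻¹ • (f v - b • v) + (-(a - b)⁻¹) • (f v - a • v) := by
        rw [neg_smul, ← sub_eq_add_neg, ← smul_sub, show f v - b • v - (f v - a • v) = (a - b) • v by module,
          smul_smul, inv_mul_cancel₀ hsub, one_smul]
      rw [hv]
      refine Submodule.add_mem_sup (Submodule.smul_mem _ _ ((hmem _ _).2 ?_))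
        (Submodule.smul_mem _ _ ((hmem _ _).2 ?_))
      · rw [map_sub, map_smul, ← sub_eq_zero]
        exact (show f (f v) - b • f v - a • (f v - b • v) = f (f v) - (a + b) • f v + (a * b) • v by module).trans (hzero v)
      · rw [map_sub, map_smul, ← sub_eq_zero]
        exact (show f (f v) - a • f v - b • (f v - a • v) = f (f v) - (a + b) • f v + (a * b) • v by module).trans (hzero v)
    set e := Submodule.prodEquivOfIsCompl (E a) (E b) hC
    have hfe : f = e.toLinearMap ∘ₗ LinearMap.prodMap (a • LinearMap.id) (b • LinearMap.id) ∘ₗ e.symm.toLinearMap := by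
      refine LinearMap.ext fun v => ?_
      obtain ⟨⟨x, y⟩, rfl⟩ := e.surjective v
      simp only [LinearMap.comp_apply, LinearEquiv.coe_coe, LinearEquiv.symm_apply_apply]
      show f ((x : V) + y) = (a • (x : V)) + b • (y : V)
      rw [map_add, (hmem a x).1 x.2, (hmem b y).1 y.2]
    have hrk : Module.finrank F (E a) + Module.finrank F (E b) = 3 := by
      rw [← Module.finrank_prod, e.finrank_eq, hV]
    have hpos : ∀ a' b' : F, IsCompl (E a') (E b') → 0 < Module.finrank F (E a') := fun a' b' h =>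
      Nat.pos_of_ne_zero fun h0 => hns b' (LinearMap.ext fun v => (hmem b' v).1 (by
        have := h.sup_eq_top
        rw [Submodule.finrank_eq_zero.1 h0, bot_sup_eq] at this
        rw [this]
        exact Submodule.mem_top))
    have ha' := hpos a b hC
    have hb' := hpos b a hC.symm
    rw [hfe, LinearMap.det_conj _ e, LinearMap.det_prodMap, LinearMap.det_smul, LinearMap.det_id, mul_one,
      LinearMap.det_smul, LinearMap.det_id, mul_one] at hdet
    rcases (by omega : Module.finrank F (E a) = 1 ∧ Module.finrank F (E b) = 2 ∨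
        Module.finrank F (E a) = 2 ∧ Module.finrank F (E b) = 1) with ⟨e1, e2⟩ | ⟨e1, e2⟩ <;>
      rw [e1, e2] at hdet
    · exact hab (by linear_combination b * hdet - a * hb)
    · exact hab (by linear_combination b * ha - a * hdet)
  have hω2 : ω ≠ ω ^ 2 := fun h => hω1 (mul_left_cancel₀ hω0 (by linear_combination -h))
  have h21 : (ω ^ 2 : F) ≠ 1 := fun h => hω1 (by linear_combination hω - ω * h)
  have hω6 : (ω ^ 2) ^ 3 = 1 := by linear_combination (ω ^ 3 + 1) * hω
  have hp1 : 0 < Module.finrank F (E 1) := Nat.pos_of_ne_zero fun h =>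
    htwo ω (ω ^ 2) 1 hω hω6 hω2 (by linear_combination hsum) (by linear_combination hω + hsum)
      (by linear_combination hω) (Submodule.finrank_eq_zero.1 h)
  have hp2 : 0 < Module.finrank F (E ω) := Nat.pos_of_ne_zero fun h =>
    htwo 1 (ω ^ 2) ω (one_pow 3) hω6 h21.symm (by linear_combination hsum) (by linear_combination hω + hsum)
      (by linear_combination hω) (Submodule.finrank_eq_zero.1 h)
  have hp3 : 0 < Module.finrank F (E (ω ^ 2)) := Nat.pos_of_ne_zero fun h =>
    htwo 1 ω (ω ^ 2) (one_pow 3) hω hω1.symm (by linear_combination hsum) (by linear_combination hω + hsum)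
      (by linear_combination hω) (Submodule.finrank_eq_zero.1 h)
  have hthree : E 1 ⊓ (E ω ⊔ E (ω ^ 2)) = ⊥ := (Submodule.eq_bot_iff _).2 fun v ⟨h1, h2⟩ => by
    rw [SetLike.mem_coe, hmem, one_smul] at h1
    obtain ⟨y, hy, z, hz, rfl⟩ := Submodule.mem_sup.1 h2
    rw [hmem] at hy hz
    rw [map_add, hy, hz] at h1
    have key : (ω - 1) • y + (ω ^ 2 - 1) • z = 0 := by
      rw [sub_smul, sub_smul, one_smul, one_smul,
        show ω • y - y + (ω ^ 2 • z - z) = ω • y + ω ^ 2 • z - (y + z) by abel, h1, sub_self]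
    have hw : y ∈ E ω ⊓ E (ω ^ 2) := ⟨(hmem ω y).2 hy, by
      have hy' : y = (-((ω - 1)⁻¹ * (ω ^ 2 - 1))) • z := by
        have := congrArg ((ω - 1)⁻¹ • ·) key
        simp only [smul_add, smul_smul, smul_zero, inv_mul_cancel₀ (sub_ne_zero.2 hω1), one_smul] at this
        rw [neg_smul, eq_neg_of_add_eq_zero_left this]
      rw [hy']
      exact Submodule.smul_mem _ _ ((hmem (ω ^ 2) z).2 hz)⟩
    rw [hdisj ω (ω ^ 2) hω2, Submodule.mem_bot] at hw
    rw [hw, smul_zero, zero_add, smul_eq_zero] at key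
    rw [hw, key.resolve_left (sub_ne_zero.2 h21), add_zero]
  have hs1 := Submodule.finrank_sup_add_finrank_inf_eq (E ω) (E (ω ^ 2))
  rw [hdisj ω (ω ^ 2) hω2, finrank_bot, add_zero] at hs1
  have hs2 := Submodule.finrank_sup_add_finrank_inf_eq (E 1) (E ω ⊔ E (ω ^ 2))
  rw [hthree, finrank_bot, add_zero] at hs2
  have hle := Submodule.finrank_le (E 1 ⊔ (E ω ⊔ E (ω ^ 2)))
  obtain ⟨m, hm⟩ := hN
  have hkill : ∀ z, Module.finrank F (E z) = 1 → E z ≤ LinearMap.ker N := by
    intro z hz v hv
    rw [LinearMap.mem_ker]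
    by_contra hne
    have hNv : N v ∈ E z := (hmem _ _).2 (by
      rw [← Module.End.mul_apply, hc.eq, Module.End.mul_apply, (hmem z v).1 hv, map_smul])
    obtain ⟨t, ht⟩ := exists_smul_eq_of_finrank_eq_one hz (x := (⟨v, hv⟩ : E z))
      (fun h => hne (by rw [show v = 0 from congrArg Subtype.val h, map_zero])) ⟨N v, hNv⟩
    have ht' : t • v = N v := congrArg Subtype.val ht
    have hpow : ∀ j : ℕ, (N ^ j) v = t ^ j • v := fun j => by
      induction j with
      | zero => simp
      | succ j ih => rw [pow_succ', Module.End.mul_apply, ih, map_smul, ← ht', smul_smul, pow_succ]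
    have h0 := hpow m
    rw [hm, LinearMap.zero_apply] at h0
    rcases smul_eq_zero.1 h0.symm with h' | h'
    · exact hne (by rw [← ht', eq_zero_of_pow_eq_zero h', zero_smul])
    · exact hne (by rw [h', map_zero])
  apply LinearMap.ker_eq_top.1
  refine top_le_iff.1 (le_trans (le_of_eq (Submodule.eq_top_of_finrank_eq
    (K := F) (S := E 1 ⊔ (E ω ⊔ E (ω ^ 2))) (by omega)).symm) ?_)
  exact sup_le (hkill _ (by omega)) (sup_le (hkill _ (by omega)) (hkill _ (by omega)))

/-- A full Jordan block of determinant one, whose scalar powers are trivial. -/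
theorem exists_jordan (p : ℕ) [Fact p.Prime] [CharP F p] {s : ℕ} (hs : 2 ≤ s) :
    ∃ J : Matrix (Fin s) (Fin s) F, J.det = 1 ∧ ∀ N (c : F), J ^ N = c • 1 → c = 1 ∧ p ∣ N := by
  obtain ⟨A, hA⟩ := GL.exists_orderOf_unipotent (F := F) p s
  set e := Nat.clog p s
  have hone : (A : Matrix (Fin s) (Fin s) F) ^ p ^ e = 1 := by
    rw [← Units.val_pow_eq_pow_val, ← hA, pow_orderOf_eq_one, Units.val_one]
  refine ⟨A, GL.eq_one_of_pow_char_pow p e (by rw [← det_pow, hone, det_one]), fun N c hN => ?_⟩
  have hc : c = 1 := by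
    apply GL.eq_one_of_pow_char_pow p e
    have h1 : (c • (1 : Matrix (Fin s) (Fin s) F)) ^ p ^ e = 1 := by
      rw [← hN, pow_right_comm, hone, one_pow]
    rw [_root_.smul_pow, one_pow] at h1
    simpa using congrFun (congrFun h1 ⟨0, by omega⟩) ⟨0, by omega⟩
  refine ⟨hc, (dvd_pow_self p (Nat.clog_pos (Fact.out : p.Prime).one_lt hs).ne').trans ?_⟩
  rw [← hA, orderOf_dvd_iff_pow_eq_one, Units.ext_iff, Units.val_pow_eq_pow_val, hN, hc, one_smul,
    Units.val_one]

variable [Fintype F]

theorem exists_element (p : ℕ) [Fact p.Prime] [CharP F p] (n r k : ℕ) [NeZero n]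
    (hr : r.Prime) (hrp : r ≠ p) (hk : k = orderOf ((Fintype.card F : ℕ) : ZMod r)) (hk0 : 0 < k)
    (hkn : k + 2 ≤ n) (hex : ¬ (n = 3 ∧ r = 3 ∧ 3 ∣ Fintype.card F - 1 ∧ ¬ 9 ∣ Fintype.card F - 1)) :
    r * p ∈ Set.range (orderOf : Matrix.ProjectiveSpecialLinearGroup (Fin n) F → ℕ) := by
  classical
  have hcop : r.Coprime p := (Nat.coprime_primes hr Fact.out).2 hrp
  have hne : r * p ≠ 0 := Nat.mul_ne_zero hr.ne_zero (Fact.out : p.Prime).ne_zero
  obtain ⟨J, hJ, hJc⟩ := exists_jordan (F := F) p (s := n - k) (by omega)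
  rcases Nat.lt_or_ge k 2 with hk1 | hk2
  swap
  · have hrq := not_dvd_sub_one hk hk2
    obtain ⟨Z, hZ, -, hZc⟩ := GL.exists_norm_one_matrix (F := F) k hk0
    refine exists_orderOf (GL.twoBlock (show k + (n - k) = n by omega) (Z, J))
      (by rw [GL.det_twoBlock, hZ, hJ, one_mul]) hne fun N c hc => ?_
    obtain ⟨e1, e2⟩ := (GL.twoBlock_eq_smul_one _ _ c).1 ((map_pow _ _ N).trans hc)
    exact hcop.mul_dvd_of_dvd_of_dvd ((hr.coprime_iff_not_dvd.2 hrq).dvd_of_dvd_mul_right
      ((dvd_normIndex hr hk hrq dvd_rfl).trans (hZc N c e1))) (hJc N c e2).2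
  obtain rfl : k = 1 := by omega
  have hrq : r ∣ Fintype.card F - 1 := by
    have := (dvd_pow_sub_one_iff (r := r) (Fintype.card_pos (α := F)) 1).2 (hk ▸ dvd_rfl)
    rwa [pow_one] at this
  obtain ⟨a, ha⟩ := IsCyclic.exists_ofOrder_eq_natCard (α := Fˣ)
  rw [Nat.card_units, ← Fintype.card_eq_nat_card] at ha
  by_cases hn3 : n = 3
  · subst hn3
    obtain ⟨J, hJ, hJc⟩ := exists_jordan (F := F) p (s := 2) le_rfl
    refine exists_orderOf (GL.twoBlock (show 2 + 1 = 3 from rfl) ((a : F) • J, ((a⁻¹ : Fˣ) : F) ^ 2 • 1))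
      ?_ hne fun N c hc => ?_
    · rw [GL.det_twoBlock, det_smul, det_smul, hJ, det_one, mul_one, mul_one, Fintype.card_fin, Fintype.card_fin,
        pow_one, ← mul_pow, Units.mul_inv, one_pow]
    obtain ⟨e1, e2⟩ := (GL.twoBlock_eq_smul_one _ _ c).1 ((map_pow _ _ N).trans hc)
    simp only [Prod.pow_fst, Prod.pow_snd, _root_.smul_pow, one_pow] at e1 e2
    have hc2 : ((a⁻¹ : Fˣ) : F) ^ (2 * N) = c := by
      have := congrFun (congrFun e2 0) 0
      simpa [pow_mul] using this
    have hJN : J ^ N = (((a⁻¹ : Fˣ) : F) ^ N * c) • 1 := by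
      rw [← smul_smul, ← e1, smul_smul, ← mul_pow, Units.inv_mul, one_pow, one_smul]
    obtain ⟨h1, h2⟩ := hJc N _ hJN
    have h3 : (a⁻¹ : Fˣ) ^ (3 * N) = 1 := by
      refine Units.ext ?_
      rw [Units.val_pow_eq_pow_val, Units.val_one, ← h1, ← hc2]
      ring
    rw [inv_pow, inv_eq_one, ← orderOf_dvd_iff_pow_eq_one, ha] at h3
    refine hcop.mul_dvd_of_dvd_of_dvd ?_ h2
    by_cases hr3 : r = 3
    · subst hr3
      have h9 : 9 ∣ Fintype.card F - 1 := by
        by_contra h9
        exact hex ⟨rfl, rfl, hrq, h9⟩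
      exact Nat.dvd_of_mul_dvd_mul_left (by norm_num) (h9.trans h3 : 3 * 3 ∣ 3 * N)
    · exact ((Nat.coprime_primes hr Nat.prime_three).2 hr3).dvd_of_dvd_mul_left (hrq.trans h3)
  · obtain ⟨J, hJ, hJc⟩ := exists_jordan (F := F) p (s := n - 2) (by omega)
    refine exists_orderOf (GL.twoBlock (show 2 + (n - 2) = n by omega)
      (Matrix.diagonal ![(a : F), ((a⁻¹ : Fˣ) : F)], J)) (by simp [GL.det_twoBlock, hJ]) hne fun N c hc => ?_
    obtain ⟨e1, e2⟩ := (GL.twoBlock_eq_smul_one _ _ c).1 ((map_pow _ _ N).trans hc)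
    obtain ⟨rfl, h2⟩ := hJc N c e2
    refine hcop.mul_dvd_of_dvd_of_dvd (hrq.trans ?_) h2
    rw [← ha, orderOf_dvd_iff_pow_eq_one]
    refine Units.ext ?_
    simp only [Prod.pow_fst, Matrix.diagonal_pow, one_smul] at e1
    have := congrFun (congrFun e1 0) 0
    simpa using this

theorem no_element (p : ℕ) [Fact p.Prime] [CharP F p] (n r k : ℕ) [NeZero n] (hn : 2 ≤ n)
    (hr : r.Prime) (hrp : r ≠ p) (hk : k = orderOf ((Fintype.card F : ℕ) : ZMod r))
    (h : n - 2 < k ∨ (n = 3 ∧ r = 3 ∧ 3 ∣ Fintype.card F - 1 ∧ ¬ 9 ∣ Fintype.card F - 1)) :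
    r * p ∉ Set.range (orderOf : Matrix.ProjectiveSpecialLinearGroup (Fin n) F → ℕ) := by
  classical
  have hp : p.Prime := Fact.out
  rintro ⟨y, hy⟩
  by_cases hn2 : n = 2
  · subst hn2
    have hpq : p ∣ Fintype.card F := by rw [← CharP.cast_eq_zero_iff F p]; exact Nat.cast_card_eq_zero F
    have hq := Fintype.one_lt_card (α := F)
    rcases PSL2.psl_orderOf_dvd p y with h' | h' | h'
    · rw [hy] at h'
      have := Nat.le_of_dvd hp.pos h'
      have := hr.two_le
      nlinarith [hp.pos]
    · rw [hy] at h'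
      have h1 : p ∣ Fintype.card F - 1 := ((dvd_mul_left p r).trans h').trans (Nat.div_dvd_of_dvd (Nat.gcd_dvd_right _ _))
      have := Nat.dvd_sub hpq h1
      rw [Nat.sub_sub_self hq.le] at this
      exact hp.not_dvd_one this
    · rw [hy] at h'
      have hd : Nat.gcd 2 (Fintype.card F - 1) ∣ Fintype.card F + 1 := by
        rw [show Fintype.card F + 1 = (Fintype.card F - 1) + 2 by omega]
        exact dvd_add (Nat.gcd_dvd_right _ _) (Nat.gcd_dvd_left _ _)
      exact hp.not_dvd_one ((Nat.dvd_add_right hpq).1 (((dvd_mul_left p r).trans h').trans (Nat.div_dvd_of_dvd hd)))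
  obtain ⟨g, rfl⟩ := QuotientGroup.mk'_surjective _ y
  set π := QuotientGroup.mk' (Subgroup.center (SpecialLinearGroup (Fin n) F))
  set A : Matrix (Fin n) (Fin n) F := (g : Matrix (Fin n) (Fin n) F)
  have hscal : ∀ j : ℕ, (∃ z : F, A ^ j = z • 1) → r * p ∣ j := fun j hj =>
    hy ▸ orderOf_dvd_of_pow_eq_one ((GL.psl_pow_eq_one_iff g j).2 hj)
  obtain ⟨c, hc⟩ := (GL.psl_pow_eq_one_iff g _).1 (pow_orderOf_eq_one (π g))
  rw [hy] at hc
  -- the unipotent part
  obtain ⟨d, hd⟩ := (Finite.injective_iff_surjective.1 (frobenius_inj F p)) c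
  set M : Matrix (Fin n) (Fin n) F := A ^ r - d • 1 with hM
  have hM0 : M ≠ 0 := fun h0 => by
    have := hscal r ⟨d, sub_eq_zero.1 h0⟩
    have := Nat.le_of_dvd hr.pos this
    have := hp.two_le
    nlinarith [hr.pos]
  have hMnil : M ^ p = 0 := by
    rw [hM, sub_pow_char_of_commute p ((Commute.one_right _).smul_right d), ← pow_mul,
      _root_.smul_pow, one_pow, show (d : F) ^ p = c from hd]
    exact sub_eq_zero.2 hc
  set L : Matrix (Fin n) (Fin n) F →ₐ[F] Module.End F (Fin n → F) := Matrix.toLinAlgEquiv'.toAlgHom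
  have hLinj : Function.Injective L := Matrix.toLinAlgEquiv'.injective
  have hN0 : L M ≠ 0 := fun h0 => hM0 (hLinj (h0.trans (map_zero L).symm))
  have hNnil : IsNilpotent (L M) := ⟨p, by rw [← map_pow, hMnil, map_zero]⟩
  have hcomm : ∀ j : ℕ, Commute (L (A ^ j)) (L M) := fun j =>
    ((Commute.pow_pow (Commute.refl A) j r).sub_right ((Commute.one_right _).smul_right d)).map L
  have hfr : Module.finrank F (Fin n → F) = n := Module.finrank_fin_fun F
  rcases h with hkn | ⟨rfl, rfl, h3, h9⟩
  · -- the `r`-part has a large irreducible factor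
    have hk2 : 2 ≤ k := by omega
    have hrq := not_dvd_sub_one hk hk2
    set B : Matrix (Fin n) (Fin n) F := A ^ (p * (Fintype.card F - 1)) with hB
    have hBr : B ^ r = 1 := by
      rw [hB, ← pow_mul, show p * (Fintype.card F - 1) * r = r * p * (Fintype.card F - 1) by ring, pow_mul, hc,
        _root_.smul_pow, one_pow, FiniteField.pow_card_sub_one_eq_one, one_smul]
      rintro rfl
      have hdet := congrArg Matrix.det hc
      rw [zero_smul, Matrix.det_pow, g.2, one_pow, Matrix.det_zero] at hdet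
      exact one_ne_zero hdet
    have hB1 : B ^ 1 ≠ 1 := fun h0 => by
      rw [pow_one] at h0
      have h1 := hscal _ ⟨1, by rw [← hB, h0, one_smul]⟩
      rw [mul_comm r p] at h1
      exact hrq (Nat.dvd_of_mul_dvd_mul_left hp.pos h1)
    obtain ⟨f, hfm, hf, hfd, h1, h2⟩ := exists_factor p B
      (fun hpr => hrp ((Nat.prime_dvd_prime_iff_eq hp hr).1 hpr).symm) hBr hB1
    have hkd : k ≤ f.natDegree := Nat.le_of_dvd hf.natDegree_pos
      (hk ▸ order_dvd_natDegree hfm hf hr (by rw [mul_one]) h1 h2)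
    refine no_large_factor (L B) (L M) hNnil hN0 (hcomm _) hf (by rwa [minpoly.algHom_eq L hLinj]) ?_ ?_ <;>
      rw [hfr] <;> omega
  · -- the exceptional case
    set B : Matrix (Fin 3) (Fin 3) F := A ^ p with hB
    have hB3 : B ^ 3 = c • 1 := by rw [hB, ← pow_mul, mul_comm, hc]
    have hc3 : c ^ 3 = 1 := by
      have := congrArg Matrix.det hc
      rw [Matrix.det_pow, g.2, one_pow, det_smul, det_one, mul_one, Fintype.card_fin] at this
      exact this.symm
    have hc0 : c ≠ 0 := fun h0 => by rw [h0] at hc3; simp at hc3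
    have hBns : ∀ z : F, B ≠ z • 1 := fun z hz => by
      have := Nat.le_of_dvd hp.pos (hscal p ⟨z, hz⟩)
      nlinarith [hp.pos]
    obtain ⟨ω', hω'⟩ := exists_prime_orderOf_dvd_card' (G := Fˣ) 3
      (by rwa [Nat.card_units, ← Fintype.card_eq_nat_card])
    by_cases hc1 : c = 1
    · subst hc1
      rw [one_smul] at hB3
      refine hN0 (no_nilpotent_three hfr (L B) (L M) (ω := (ω' : F)) ?_ ?_ ?_ ?_ ?_ hNnil (hcomm p))
      · rw [← Units.val_pow_eq_pow_val, ← hω', pow_orderOf_eq_one, Units.val_one]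
      · intro h1
        rw [Units.val_eq_one] at h1
        rw [h1, orderOf_one] at hω'
        omega
      · rw [← map_pow, hB3, map_one]
      · show LinearMap.det (Matrix.toLinAlgEquiv' B) = 1
        rw [show Matrix.toLinAlgEquiv' B = Matrix.toLin' B from rfl, LinearMap.det_toLin', hB, Matrix.det_pow, g.2,
          one_pow]
      · intro z hz
        exact hBns z (hLinj (by rw [hz, map_smul, map_one]))
    · have hirr : Irreducible (X ^ 3 - C c : F[X]) := by
        refine (Polynomial.irreducible_iff_roots_eq_zero_of_degree_le_three (by rw [natDegree_X_pow_sub_C]; norm_num)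
          (by rw [natDegree_X_pow_sub_C])).2 (Multiset.eq_zero_of_forall_notMem fun z hz => h9 ?_)
        rw [mem_roots (X_pow_sub_C_ne_zero (by norm_num) c), IsRoot.def, eval_sub, eval_pow, eval_X, eval_C,
          sub_eq_zero] at hz
        have hz0 : z ≠ 0 := fun h0 => hc0 (by rw [← hz, h0]; simp)
        have hord : orderOf (Units.mk0 z hz0) = 9 := by
          haveI := Fact.mk Nat.prime_three
          refine orderOf_eq_prime_pow (p := 3) (n := 1) (fun h1 => hc1 ?_) (Units.ext ?_)
          · rw [← hz]; simpa using congrArg Units.val h1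
          · rw [Units.val_pow_eq_pow_val, Units.val_mk0, Units.val_one,
              show (3 : ℕ) ^ (1 + 1) = 3 * 3 from rfl, pow_mul, hz, hc3]
        rw [← hord, Fintype.card_eq_nat_card, ← Nat.card_units]
        exact orderOf_dvd_natCard _
      have hdvd : minpoly F (L B) ∣ X ^ 3 - C c := minpoly.dvd F _ (by
        rw [map_sub, map_pow, aeval_X, aeval_C, ← map_pow, hB3, map_smul, map_one,
          Algebra.algebraMap_eq_smul_one, sub_self])
      have hg : X ^ 3 - C c ∣ minpoly F (L B) :=
        (hirr.dvd_iff.1 hdvd).resolve_left (minpoly.not_isUnit F _) |>.dvd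
      refine no_large_factor (L B) (L M) hNnil hN0 (hcomm p) hirr hg ?_ ?_ <;>
        rw [hfr, natDegree_X_pow_sub_C] <;> omega

end


/-- Adjacency of an odd prime and the characteristic in the prime graph of PSL(n,q): let F be a finite field of characteristic p with q elements, n ≥ 2 with PSL(n,F) simple, and let r ≠ p be an odd prime dividing the order of PSL(n,F), with k the multiplicative order of q modulo r. Then PSL(n,F) has NO element of order r·p if and only if either k > n − 2, or n = 3, r = 3 and 3 divides q − 1 exactly once. -/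
theorem result {F : Type*} [Field F] [Fintype F] (p : ℕ) [Fact p.Prime] [CharP F p] (n : ℕ) (hn : 2 ≤ n) (hsmall : n = 2 → 4 ≤ Fintype.card F)
    (r : ℕ) (hr : r.Prime) (hr2 : r ≠ 2) (hrp : r ≠ p) (hrG : r ∣ Nat.card (Matrix.ProjectiveSpecialLinearGroup (Fin n) F))
    (k : ℕ) (hk : k = orderOf ((Fintype.card F : ℕ) : ZMod r)) :
    (r * p ∉ Set.range (orderOf : Matrix.ProjectiveSpecialLinearGroup (Fin n) F → ℕ)) ↔
      (n - 2 < k ∨ (n = 3 ∧ r = 3 ∧ 3 ∣ Fintype.card F - 1 ∧ ¬ 9 ∣ Fintype.card F - 1)) := by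
  classical
  have : NeZero n := ⟨by omega⟩
  obtain ⟨-, hk0⟩ := order_le p hn hr hrp hrG
  rw [← hk] at hk0
  refine ⟨fun hno => ?_, fun h => no_element p n r k hn hr hrp hk h⟩
  by_contra hcon
  rw [not_or, not_lt] at hcon
  exact hno (exists_element p n r k hr hrp hk hk0 (by omega) hcon.2)

end Cfsg.Agent.S2470
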