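import Cfsg.Statements.S2471
import Cfsg.Agent.Lib.PSL2.Classes

set_option autoImplicit false
open Cfsg

namespace Cfsg.Agent.S2471

/-- In PSL(2,q) with q odd, the characteristic p is isolated from 2 in the prime graph: for F a finite field of odd characteristic p with at least 5 elements, PSL(2,F) has no element of order 2p. -/
theorem result {F : Type*} [Field F] [Fintype F] (p : ℕ) [Fact p.Prime] [CharP F p] (hp : p ≠ 2) (h5 : 5 ≤ Fintype.card F) (g : Matrix.ProjectiveSpecialLinearGroup (Fin 2) F) :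
    orderOf g ≠ 2 * p := by
  intro hg
  have hp2 : 2 ≤ p := (Fact.out (p := p.Prime)).two_le
  have hdvd : p ∣ Fintype.card F := by
    obtain ⟨n, -, hn⟩ := FiniteField.card F p
    rw [hn]; exact dvd_pow_self p n.ne_zero
  rcases Cfsg.Agent.PSL2.psl_orderOf_dvd p g with h | h | h
  · rw [hg] at h
    have := Nat.le_of_dvd (by omega) h
    omega
  · rw [hg] at h
    have hd : p ∣ Fintype.card F - 1 :=
      ((dvd_mul_left p 2).trans h).trans (Nat.div_dvd_of_dvd (Nat.gcd_dvd_right _ _))
    have := Nat.le_of_dvd Nat.one_pos ((Nat.dvd_sub hdvd hd).trans (by rw [Nat.sub_sub_self (by omega)]))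
    omega
  · rw [hg] at h
    have hodd : Odd p := (Fact.out (p := p.Prime)).odd_of_ne_two hp
    obtain ⟨k, hk⟩ : Odd (Fintype.card F) := by
      rw [Cfsg.Agent.PSL2.odd_card_iff]
      exact Ring.two_ne_zero (by rwa [ringChar.eq F p])
    have hd : p ∣ Fintype.card F + 1 :=
      ((dvd_mul_left p 2).trans h).trans (Nat.div_dvd_of_dvd ((Nat.gcd_dvd_left _ _).trans ⟨k + 1, by omega⟩))
    have := Nat.le_of_dvd Nat.one_pos ((Nat.dvd_add_right hdvd).1 hd)
    omega

end Cfsg.Agent.S2471
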