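import Cfsg.Statements.S2472
import Cfsg.Agent.Lib.GL.TorusArith
-- import your own Cfsg.Agent.* helpers here

set_option autoImplicit false
open Cfsg

namespace Cfsg.Agent.S2472

/-- Adjacency of a prime and the characteristic in the prime graph of PSp(2n,q): let F be a finite field of characteristic p with q elements, n ≥ 2 with PSp(2n,F) simple, and let r ≠ p be an odd prime dividing the order of PSp(2n,F), with k the multiplicative order of q modulo r and η(k) = k for odd k, k/2 for even k. Then PSp(2n,F) has NO element of order r·p if and only if η(k) > n − 1. -/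
theorem result {F : Type*} [Field F] [Fintype F] (p : ℕ) [Fact p.Prime] [CharP F p] (n : ℕ) (hn : 2 ≤ n) (hsmall : n = 2 → 3 ≤ Fintype.card F)
    (r : ℕ) (hr : r.Prime) (hr2 : r ≠ 2) (hrp : r ≠ p) (hrG : r ∣ Nat.card (Cfsg.PSp n F))
    (k ηk : ℕ) (hk : k = orderOf ((Fintype.card F : ℕ) : ZMod r)) (hηk : (Odd k ∧ ηk = k) ∨ (Even k ∧ 2 * ηk = k)) :
    (r * p ∉ Set.range (orderOf : Cfsg.PSp n F → ℕ)) ↔ n - 1 < ηk := by
  subst hk
  have hrq := GL.prime_not_dvd_card (F := F) p hr hrp
  have hη : GL.IsEta _ ηk := ⟨hηk⟩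
  have hq : 0 < Fintype.card F := Fintype.card_pos
  have hη0 := hη.pos (GL.order_pos hr hrq)
  constructor
  · intro h
    by_contra hle
    obtain ⟨b, hb⟩ := (GL.exists_torus_iff hr hr2 hq hη hη0).2 dvd_rfl
    exact h (GL.psp_of_crit (F := F) p hr Fact.out hrp (Or.inr (Or.inr ⟨ηk, b, hη0, by omega, Or.inl ⟨rfl, hb⟩⟩)))
  · intro hlt h
    have hp := (Fact.out : p.Prime)
    have hpT : ∀ d b, 0 < d → ¬ p ∣ GL.torusExp (Fintype.card F) d b := by
      intro d b hd hdv
      have hpq : p ∣ Fintype.card F := (CharP.cast_eq_zero_iff F p _).1 (Nat.cast_card_eq_zero F)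
      have h0 : ∀ m, 0 < m → p ∣ Fintype.card F ^ m := fun m hm => hpq.trans (dvd_pow_self _ hm.ne')
      have h1 := hdv.trans (dvd_mul_left _ (Nat.gcd 2 (Fintype.card F - 1)))
      have he : Nat.gcd 2 (Fintype.card F - 1) * GL.torusExp (Fintype.card F) d b =
          (if b then Fintype.card F ^ d + 1 else Fintype.card F ^ d - 1) := by
        unfold GL.torusExp
        refine Nat.mul_div_cancel' ?_
        rcases Nat.even_or_odd (Fintype.card F) with hq' | hq'
        · rw [(Nat.coprime_two_left.2 (Nat.Even.sub_odd hq hq' odd_one) :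
            Nat.Coprime 2 (Fintype.card F - 1)).gcd_eq_one]
          exact one_dvd _
        · refine (Nat.gcd_dvd_left 2 _).trans ?_
          cases b
          · exact (Nat.Odd.sub_odd hq'.pow odd_one).two_dvd
          · exact (hq'.pow.add_one).two_dvd
      rw [he] at h1
      cases b
      · have := Nat.dvd_sub (h0 d hd) h1
        rw [if_neg (by simp), Nat.sub_sub_self (Nat.one_le_pow _ _ hq), Nat.dvd_one] at this
        exact hp.ne_one this
      · exact hp.ne_one (Nat.dvd_one.1 ((Nat.dvd_add_right (h0 d hd)).1 h1))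
    rcases GL.crit_of_psp (F := F) p hn hr hp hrp h with
      ⟨d, b, hd, -, hdv⟩ | ⟨d₁, b₁, d₂, b₂, -, h2, -, -, h5⟩ | ⟨d, b, hd, hdn, h' | h'⟩
    · exact hpT d b hd ((dvd_mul_left p r).trans hdv)
    · exact hpT d₂ b₂ h2 h5
    · have := Nat.le_of_dvd hd ((GL.exists_torus_iff hr hr2 hq hη hd).1 ⟨b, h'.2⟩)
      omega
    · exact hrp h'.1

end Cfsg.Agent.S2472
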