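import Cfsg.Statements.S2474
import Cfsg.Agent.Lib.GL.PSpPrimes
import Cfsg.Agent.Lib.GL.OrthResidual
import Cfsg.Agent.Lib.GL.OrthTori
import Cfsg.Agent.Lib.Forms.OmegaOrder
import Cfsg.Agent.Lib.QForm.OmegaQuot
-- import your own Cfsg.Agent.* helpers here

set_option autoImplicit false
open Cfsg

namespace Cfsg.Agent.S2474

open Matrix Polynomial
open Cfsg.Agent.GL

/-- The polar form is reflexive and nondegenerate. -/
theorem isReflexiveSesq_polar {F : Type*} [Field F] {ι : Type*} [Fintype ι] [DecidableEq ι]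
    {Q : QuadraticForm F (ι → F)} (hQ : (QuadraticMap.polarBilin Q).Nondegenerate) :
    IsReflexiveSesq (RingHom.id F) (fun u v => QuadraticMap.polarBilin Q u v) where
  invol _ := rfl
  add_left u u' v := by rw [map_add, LinearMap.add_apply]
  smul_left c u v := by rw [map_smul, LinearMap.smul_apply, smul_eq_mul]
  add_right u v v' := by rw [map_add]
  smul_right c u v := by rw [map_smul, smul_eq_mul, RingHom.id_apply]
  refl u v h := by rw [Forms.polarBilin_swap]; exact h
  nondeg v hv := hQ.2 v hv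

/-- Isometries preserve the polar form. -/
theorem preserves_polar {F : Type*} [Field F] {ι : Type} [Fintype ι] [DecidableEq ι]
    {Q : QuadraticForm F (ι → F)} (x : ↥(isometryGroup F ⇑Q)) :
    Preserves (fun u v => QuadraticMap.polarBilin Q u v) ((x : GL ι F) : Matrix ι ι F) :=
  fun u v => QForm.act_polar Q x u v

/-- Necessity in `Omega`. -/
theorem crit_of_omega {F : Type*} [Field F] [Fintype F] (p : ℕ) [Fact p.Prime] [CharP F p]
    (hodd : Odd (Fintype.card F)) {n : ℕ} (hn : 2 ≤ n) {Q : QuadraticForm F (Unit ⊕ (Fin n ⊕ Fin n) → F)}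
    (hQdef : Q = Forms.quadOdd n F) {r s : ℕ} (hr : r.Prime) (hs : s.Prime) (hrs : r ≠ s)
    (x : ↥(isometryGroup F ⇑Q)) (hx : x ∈ Omega F ⇑Q) (hord : orderOf x = r * s) :
    PrimeCrit (Fintype.card F) n p r s := by
  have h2 := Forms.two_ne_zero_of_odd_card hodd
  have hN : (QuadraticMap.polarBilin Q).Nondegenerate := hQdef ▸ Forms.quadOdd_nondegenerate h2 n
  have hh := isReflexiveSesq_polar hN
  set A := ((x : GL (Unit ⊕ (Fin n ⊕ Fin n)) F) : Matrix (Unit ⊕ (Fin n ⊕ Fin n)) (Unit ⊕ (Fin n ⊕ Fin n)) F)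
    with hA
  have hiff : ∀ k, A ^ k = 1 ↔ x ^ k = 1 := fun k => by
    rw [hA, ← Units.val_pow_eq_pow_val, ← SubgroupClass.coe_pow]
    exact ⟨fun h => Subtype.ext (Units.ext h), fun h => by rw [h]; rfl⟩
  have hcard : Fintype.card (Unit ⊕ (Fin n ⊕ Fin n)) ≤ 2 * n + 1 := by simp; omega
  have hgcd : (2 : ℕ) = Nat.gcd 2 (Fintype.card F - 1) :=
    (Nat.gcd_eq_left (Nat.Odd.sub_odd hodd odd_one).two_dvd).symm
  have hpow : A ^ (2 * (r * s)) = 1 := by
    rw [hiff, mul_comm, pow_mul, ← hord, pow_orderOf_eq_one, one_pow]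
  -- the residual case
  have hres : ∀ r s : ℕ, r.Prime → s.Prime → r ≠ s → orderOf x = r * s → A ^ (2 * r) = 1 →
      PrimeCrit (Fintype.card F) n p r s := by
    intro r s hr hs hrs hord h
    have hdv : r * s ∣ r * 2 := hord ▸ mul_comm 2 r ▸ orderOf_dvd_of_pow_eq_one ((hiff _).1 h)
    obtain rfl : s = 2 := (Nat.prime_dvd_prime_iff_eq hs Nat.prime_two).1 ((Nat.mul_dvd_mul_iff_left hr.pos).1 hdv)
    have hnk : ∀ k, 0 < k → k < r * 2 → x ^ k ≠ 1 := fun k hk hlt h' => by
      have := Nat.le_of_dvd hk (hord ▸ orderOf_dvd_of_pow_eq_one h')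
      omega
    rcases crit_two_or_orbit p hh (preserves_polar x) hn hcard hodd hr hrs h
        (fun h' => hnk 2 two_pos (by have := hr.two_le; omega) ((hiff 2).1 h')) with
      h' | ⟨P, b, c, hc, hPμ, hPd, hP2, hlin, hPc, hT, hrT⟩
    · exact h'
    · exact (no_residual p hodd hn hr hrs hQdef x hx ((hiff _).1 h)
        (hnk r hr.pos (by have := hr.pos; omega)) hc hPμ hPd hP2 hlin hPc hT hrT).elim
  rcases crit_or_pow_eq_one p hh (preserves_polar x) hn hcard hr hs hrs hgcd hpow with h | h | h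
  · exact h
  · exact hres r s hr hs hrs hord h
  · exact (hres s r hs hr hrs.symm (by rw [hord, mul_comm]) h).symm

/-- For q odd and n ≥ 3 the simple groups PΩ(2n+1,q) and PSp(2n,q) (which have the same order but different sets of element orders) have the same prime graph: for all distinct primes r, s, one of them has an element of order r·s if and only if the other does. -/
theorem result {F : Type*} [Field F] [Fintype F] (hodd : Odd (Fintype.card F)) (n : ℕ) (hn : 3 ≤ n) (r s : ℕ) (hr : r.Prime) (hs : s.Prime) (hrs : r ≠ s) :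
    (r * s ∈ Set.range (orderOf : Cfsg.POmega F (Cfsg.quadFormOdd n F) → ℕ)) ↔ (r * s ∈ Set.range (orderOf : Cfsg.PSp n F → ℕ)) := by
  obtain ⟨p, hp⟩ := CharP.exists F
  have : Fact p.Prime := ⟨CharP.char_is_prime F p⟩
  have h2 := Forms.two_ne_zero_of_odd_card hodd
  have hN := Forms.quadOdd_nondegenerate (F := F) h2 n
  have hfun : ⇑(Forms.quadOdd n F) = quadFormOdd n F := funext Forms.quadOdd_apply
  -- the centre of `Omega` is trivial
  have hinj : Function.Injective (QuotientGroup.mk' (Subgroup.center (Omega F (quadFormOdd n F)))) := by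
    rw [← MonoidHom.ker_eq_bot_iff, QuotientGroup.ker_mk', ← hfun, ← Subgroup.card_eq_one]
    refine Forms.omega_center_card_one _ hN (by simp; omega) fun g hg hval => ?_
    exfalso
    have hd := congrArg Units.val (QForm.omega_le_ker (Forms.quadOdd n F)
      ((Matrix.GeneralLinearGroup.det (n := Unit ⊕ (Fin n ⊕ Fin n)) (R := F)).comp
        (isometryGroup F ⇑(Forms.quadOdd n F)).subtype) hg)
    change ((g : GL (Unit ⊕ (Fin n ⊕ Fin n)) F) : Matrix (Unit ⊕ (Fin n ⊕ Fin n)) (Unit ⊕ (Fin n ⊕ Fin n)) F).det = 1 at hd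
    rw [hval, Matrix.det_neg, Matrix.det_one, mul_one, Fintype.card_sum, Fintype.card_unit, Fintype.card_sum,
      Fintype.card_fin, Odd.neg_one_pow ⟨n, by ring⟩] at hd
    exact h2 (by linear_combination -hd)
  constructor
  · rintro ⟨y, hy⟩
    obtain ⟨x, rfl⟩ := QuotientGroup.mk'_surjective _ y
    rw [orderOf_injective _ hinj, ← Subgroup.orderOf_coe] at hy
    refine psp_of_crit p hr hs hrs ?_
    have key : ∀ (f : (Unit ⊕ (Fin n ⊕ Fin n) → F) → F), f = ⇑(Forms.quadOdd n F) →
        ∀ x : ↥(isometryGroup F f), x ∈ Omega F f → orderOf x = r * s → PrimeCrit (Fintype.card F) n p r s := by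
      rintro f rfl x hx hxy
      exact crit_of_omega p hodd (by omega) rfl hr hs hrs x hx hxy
    exact key _ hfun.symm x.1 x.2 hy
  · intro h
    obtain ⟨y, hy⟩ := omega_of_crit p hodd hr hs hrs (crit_of_psp p (by omega) hr hs hrs h)
    refine ⟨QuotientGroup.mk' _ (y ^ (orderOf y / (r * s))), ?_⟩
    rw [orderOf_injective _ hinj]
    exact orderOf_pow_orderOf_div (fun h0 => (orderOf_pos y).ne' h0) hy

end Cfsg.Agent.S2474
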