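import Cfsg.Statements.S2475
import Cfsg.Agent.Lib.PSL2.Classes

set_option autoImplicit false
open Cfsg

namespace Cfsg.Agent.S2475

/-- The set of element orders of PSL(2,q): let F be a finite field of characteristic p with q ≥ 4 elements and d = gcd(2, q − 1). The orders of elements of PSL(2,F) are exactly the divisors of p, of (q − 1)/d and of (q + 1)/d. -/
theorem result {F : Type*} [Field F] [Fintype F] (p : ℕ) [Fact p.Prime] [CharP F p] (h4 : 4 ≤ Fintype.card F) :
    Set.range (orderOf : Matrix.ProjectiveSpecialLinearGroup (Fin 2) F → ℕ) =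
      {m : ℕ | m ∣ p ∨ m ∣ (Fintype.card F - 1) / Nat.gcd 2 (Fintype.card F - 1) ∨ m ∣ (Fintype.card F + 1) / Nat.gcd 2 (Fintype.card F - 1)} := by
  have h2 := Fact.out (p := p.Prime)
  ext m
  constructor
  · rintro ⟨x, rfl⟩
    exact Cfsg.Agent.PSL2.psl_orderOf_dvd p x
  · rintro (h | h | h)
    · rcases (Nat.dvd_prime h2).1 h with rfl | rfl
      · exact ⟨1, orderOf_one⟩
      · exact ⟨_, Cfsg.Agent.PSL2.orderOf_mk_uu m one_ne_zero⟩
    · obtain ⟨g, hg, hc⟩ := Cfsg.Agent.PSL2.exists_torus_card_sub_one (F := F) h4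
      exact Cfsg.Agent.PSL2.exists_orderOf_of_dvd_torus hg (hc.symm ▸ h)
    · obtain ⟨g, hg, hc⟩ := Cfsg.Agent.PSL2.exists_torus_card_add_one F
      exact Cfsg.Agent.PSL2.exists_orderOf_of_dvd_torus hg (hc.symm ▸ h)

end Cfsg.Agent.S2475
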