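import Cfsg.Statements.S2510
import Cfsg.Agent.Lib.GL.PSLOrders

set_option autoImplicit false
open Cfsg

namespace Cfsg.Agent.S2510

open Matrix Polynomial
open Cfsg.Agent.GL

variable {F : Type*} [Field F] [Fintype F] {n r : ℕ} [NeZero n]

local notation "π" => QuotientGroup.mk' (Subgroup.center (Matrix.SpecialLinearGroup (Fin n) F))

/-- `N` divides the order of an element whose order is a multiple of `r`. -/
def Good (F : Type*) [Field F] (n r N : ℕ) : Prop :=
  ∃ y : Matrix.ProjectiveSpecialLinearGroup (Fin n) F, N ∣ orderOf y ∧ r ∣ orderOf y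

omit [Fintype F] [NeZero n] in
theorem Good.mono {N N' : ℕ} (h : Good F n r N') (hd : N ∣ N') : Good F n r N :=
  let ⟨y, h1, h2⟩ := h
  ⟨y, hd.trans h1, h2⟩

omit [Fintype F] in
theorem good_of_commute (hr : r.Prime) (g R : Matrix.SpecialLinearGroup (Fin n) F) (hc : Commute g R)
    (hR : R ^ r = 1) (hns : ∀ c : F, (R : Matrix (Fin n) (Fin n) F) ≠ c • 1) :
    Good F n r (orderOf (π g)) := by
  have := Fact.mk hr
  by_cases hd : r ∣ orderOf (π g)
  · exact ⟨π g, dvd_rfl, hd⟩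
  have hoR : orderOf (π R) = r := by
    refine orderOf_eq_prime (by rw [← map_pow, hR, map_one]) fun h => ?_
    obtain ⟨c, hc'⟩ := (psl_pow_eq_one_iff R 1).1 (by rw [pow_one, h])
    exact hns c (by rwa [pow_one] at hc')
  refine ⟨π g * π R, ?_, ?_⟩ <;>
    rw [(hc.map (π)).orderOf_mul_eq_mul_orderOf_of_coprime
      (by rw [hoR]; exact (hr.coprime_iff_not_dvd.2 hd).symm), hoR]
  · exact dvd_mul_right _ _
  · exact dvd_mul_left _ _

omit [NeZero n] in
/-- The two eigenvalues of the commuting element. -/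
theorem exists_pair (hr : r.Prime) (hrq : r ∣ Fintype.card F - 1) (hrn : ¬ r ∣ n) {d₁ d₂ : ℕ}
    (h : d₁ + d₂ = n) : ∃ a b : F, a ^ r = 1 ∧ b ^ r = 1 ∧ a ^ d₁ * b ^ d₂ = 1 ∧ a ≠ b := by
  have := Fact.mk hr
  obtain ⟨z, hz⟩ := exists_prime_orderOf_dvd_card' (G := Fˣ) r
    (by rwa [Nat.card_units, Nat.card_eq_fintype_card])
  have hzr : z ^ r = 1 := hz ▸ pow_orderOf_eq_one z
  refine ⟨((z ^ d₂ : Fˣ) : F), (((z ^ d₁)⁻¹ : Fˣ) : F), ?_, ?_, ?_, ?_⟩
  · rw [← Units.val_pow_eq_pow_val, pow_right_comm, hzr, one_pow, Units.val_one]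
  · rw [← Units.val_pow_eq_pow_val, inv_pow, pow_right_comm, hzr, one_pow, inv_one, Units.val_one]
  · rw [← Units.val_pow_eq_pow_val, ← Units.val_pow_eq_pow_val, ← Units.val_mul, inv_pow, ← pow_mul,
      ← pow_mul, mul_comm d₁, mul_inv_cancel, Units.val_one]
  · intro he
    rw [Units.val_inj, eq_inv_iff_mul_eq_one, ← pow_add, add_comm, h, ← orderOf_dvd_iff_pow_eq_one, hz] at he
    exact hrn he

theorem good_twoBlock (hr : r.Prime) (hrq : r ∣ Fintype.card F - 1) (hrn : ¬ r ∣ n) {d₁ d₂ : ℕ}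
    (h : d₁ + d₂ = n) (h₁ : 0 < d₁) (h₂ : 0 < d₂) (A₁ : Matrix (Fin d₁) (Fin d₁) F)
    (A₂ : Matrix (Fin d₂) (Fin d₂) F) (hdet : A₁.det * A₂.det = 1) (k : ℕ)
    (hk : ∀ N (c : F), A₁ ^ N = c • 1 → A₂ ^ N = c • 1 → k ∣ N) : Good F n r k := by
  obtain ⟨a, b, ha, hb, hab, hne⟩ := exists_pair hr hrq hrn h
  let g : Matrix.SpecialLinearGroup (Fin n) F := ⟨twoBlock h (A₁, A₂), by rw [det_twoBlock]; exact hdet⟩
  let R : Matrix.SpecialLinearGroup (Fin n) F := ⟨twoBlock h (a • 1, b • 1), by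
    rw [det_twoBlock, det_smul, det_smul, det_one, det_one, mul_one, mul_one, Fintype.card_fin,
      Fintype.card_fin, hab]⟩
  refine (good_of_commute hr g R ?_ ?_ ?_).mono ?_
  · apply Subtype.ext
    change twoBlock h (A₁, A₂) * twoBlock h (a • 1, b • 1) = twoBlock h (a • 1, b • 1) * twoBlock h (A₁, A₂)
    rw [← map_mul, ← map_mul]
    simp
  · apply Subtype.ext
    change twoBlock h (a • 1, b • 1) ^ r = 1
    rw [← map_pow, Prod.pow_mk, _root_.smul_pow, _root_.smul_pow, one_pow, one_pow, ha, hb, one_smul, one_smul]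
    exact map_one _
  · intro c hc
    obtain ⟨e1, e2⟩ := (twoBlock_eq_smul_one h _ c).1 hc
    have e1' := congrFun (congrFun e1 ⟨0, h₁⟩) ⟨0, h₁⟩
    have e2' := congrFun (congrFun e2 ⟨0, h₂⟩) ⟨0, h₂⟩
    simp at e1' e2'
    exact hne (e1'.trans e2'.symm)
  · obtain ⟨c, hc⟩ := (psl_pow_eq_one_iff g _).1 (pow_orderOf_eq_one (π g))
    have hc' : twoBlock h (A₁, A₂) ^ orderOf (π g) = c • 1 := hc
    rw [← map_pow] at hc'
    obtain ⟨e1, e2⟩ := (twoBlock_eq_smul_one h _ c).1 hc'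
    exact hk _ c e1 e2

omit [NeZero n] in
/-- A full Jordan block in determinant one, whose scalar powers are trivial. -/
theorem exists_jordan (p : ℕ) [Fact p.Prime] [CharP F p] {s : ℕ} (hs : 0 < s) :
    ∃ J : Matrix (Fin s) (Fin s) F, J.det = 1 ∧
      ∀ N (c : F), J ^ N = c • 1 → c = 1 ∧ p ^ Nat.clog p s ∣ N := by
  obtain ⟨A, hA⟩ := exists_orderOf_unipotent (F := F) p s
  set e := Nat.clog p s
  have hone : (A : Matrix (Fin s) (Fin s) F) ^ p ^ e = 1 := by
    rw [← Units.val_pow_eq_pow_val, ← hA, pow_orderOf_eq_one, Units.val_one]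
  refine ⟨A, eq_one_of_pow_char_pow p e (by rw [← det_pow, hone, det_one]), fun N c hN => ?_⟩
  have hc : c = 1 := by
    apply eq_one_of_pow_char_pow p e
    have h1 : (c • (1 : Matrix (Fin s) (Fin s) F)) ^ p ^ e = 1 := by
      rw [← hN, pow_right_comm, hone, one_pow]
    rw [_root_.smul_pow, one_pow] at h1
    simpa using congrFun (congrFun h1 ⟨0, hs⟩) ⟨0, hs⟩
  refine ⟨hc, ?_⟩
  rw [← hA, orderOf_dvd_iff_pow_eq_one, Units.ext_iff, Units.val_pow_eq_pow_val, hN, hc, one_smul,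
    Units.val_one]

/-- The exponent of the cyclic torus of `PSL n q`. -/
def torusOrder (q n : ℕ) : ℕ := normIndex q n / Nat.gcd (normIndex q n) (q - 1)

theorem torusOrder_dvd_iff (q n k : ℕ) (hq : 1 < q) :
    torusOrder q n ∣ k ↔ normIndex q n ∣ k * (q - 1) := by
  obtain ⟨g, a, b, hg, hab, ha, hb⟩ := Nat.exists_coprime' (m := normIndex q n) (n := q - 1)
    (Nat.gcd_pos_of_pos_right _ (by omega))
  have hgcd : Nat.gcd (normIndex q n) (q - 1) = g := by
    rw [ha, hb, Nat.gcd_mul_right, hab.gcd_eq_one, one_mul]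
  rw [torusOrder, hgcd, ha, hb, Nat.mul_div_cancel _ hg, ← mul_assoc, Nat.mul_dvd_mul_iff_right hg]
  exact ⟨fun h => h.mul_right b, hab.dvd_of_dvd_mul_right⟩

variable (p : ℕ) [Fact p.Prime] [CharP F p]

theorem classify (hr : r.Prime) (hrq : r ∣ Fintype.card F - 1) (hrn : ¬ r ∣ n)
    (g : Matrix.SpecialLinearGroup (Fin n) F) :
    Good F n r (orderOf (π g)) ∨ orderOf (π g) ∣ p ^ Nat.clog p n ∨
      orderOf (π g) ∣ torusOrder (Fintype.card F) n := by
  classical
  set A : Matrix (Fin n) (Fin n) F := (g : Matrix (Fin n) (Fin n) F) with hA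
  have hint : IsIntegral F A := Algebra.IsIntegral.isIntegral A
  have hμ0 : minpoly F A ≠ 0 := minpoly.ne_zero hint
  have hμn : (minpoly F A).natDegree ≤ n :=
    (natDegree_le_of_dvd (Matrix.minpoly_dvd_charpoly A) (Matrix.charpoly_monic A).ne_zero).trans
      (le_of_eq (by rw [Matrix.charpoly_natDegree_eq_dim, Fintype.card_fin]))
  obtain ⟨f, hfm, hf, hfμ⟩ := Polynomial.exists_monic_irreducible_factor (minpoly F A) (minpoly.not_isUnit F A)
  obtain ⟨b, hb, hfb⟩ := (FiniteMultiplicity.of_prime_left hf.prime hμ0).exists_eq_pow_mul_and_not_dvd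
  set m := multiplicity f (minpoly F A) with hm
  have hm0 : m ≠ 0 := by
    intro h
    rw [h, pow_zero, one_mul] at hb
    exact hfb (hb ▸ hfμ)
  by_cases hbu : IsUnit b
  swap
  · left
    obtain ⟨d₁, d₂, h₁, h₂, h, hR⟩ := exists_commute_of_coprime A
      (IsCoprime.pow_left ((hf.coprime_iff_not_dvd).2 hfb)) hb
      (fun h => hf.not_isUnit ((isUnit_pow_iff hm0).1 h)) hbu
    obtain ⟨a, c, ha, hc, hac, hne⟩ := exists_pair hr hrq hrn h
    obtain ⟨R, hRA, hRdet, hRns, hRpow⟩ := hR a c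
    let R' : Matrix.SpecialLinearGroup (Fin n) F := ⟨R, hRdet.trans hac⟩
    exact good_of_commute hr g R' (Subtype.ext hRA.symm) (Subtype.ext (hRpow r ha hc))
      fun s hs => hne ((hRns s hs).1.trans (hRns s hs).2.symm)
  have hμ : minpoly F A ∣ f ^ m := hb ▸ (IsUnit.mul_right_dvd hbu).2 dvd_rfl
  have hdm : f.natDegree * m ≤ n := by
    refine le_trans ?_ hμn
    rw [mul_comm, ← natDegree_pow]
    exact natDegree_le_of_dvd (hb ▸ dvd_mul_right _ _) hμ0
  have hd0 := hf.natDegree_pos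
  have hfA : f ∣ A.charpoly := hfμ.trans (Matrix.minpoly_dvd_charpoly A)
  have hroot : AdjoinRoot.root f ≠ 0 :=
    root_ne_zero_of_dvd_charpoly (Matrix.SpecialLinearGroup.toGL g) hf hfA
  have hq : 1 < Fintype.card F := Fintype.one_lt_card
  have hp := (Fact.out : p.Prime).one_lt
  have hord : ∀ k, (∃ c : F, A ^ k = c • 1) → orderOf (π g) ∣ k := fun k hk =>
    orderOf_dvd_of_pow_eq_one ((psl_pow_eq_one_iff g k).2 hk)
  rcases Nat.lt_or_ge 1 f.natDegree with hd1 | hd1
  swap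
  · right; left
    refine hord _ ?_
    have := exists_pow_eq_scalar p A hf (L := 1) (e := Nat.clog p n) (m := m) ?_ hμ ?_
    · rwa [one_mul] at this
    · have h1 : m ≤ f.natDegree * m := Nat.le_mul_of_pos_left m hd0
      exact le_trans (by omega) (Nat.le_pow_clog hp n)
    · have := root_pow_normIndex_mul hfm hf hroot
      rwa [show f.natDegree = 1 by omega, normIndex, pow_one, Nat.div_self (by omega)] at this
  rcases Nat.lt_or_ge f.natDegree n with hdn | hdn
  · left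
    have hs : 0 < n - f.natDegree := by omega
    have hms : m ≤ n - f.natDegree := by
      rcases Nat.lt_or_ge m 2 with h | h
      · omega
      · have : f.natDegree + m ≤ f.natDegree * m := Nat.add_le_mul hd1 h
        omega
    obtain ⟨Z, hZdet, hZpow, -⟩ := exists_norm_one_matrix (F := F) f.natDegree hd0
    obtain ⟨J, hJdet, hJ⟩ := exists_jordan (F := F) p hs
    refine (good_twoBlock hr hrq hrn (show f.natDegree + (n - f.natDegree) = n by omega) hd0 hs Z J
      (by rw [hZdet, hJdet, one_mul])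
      (normIndex (Fintype.card F) f.natDegree * p ^ Nat.clog p (n - f.natDegree)) ?_).mono ?_
    · intro N c h1 h2
      obtain ⟨rfl, h3⟩ := hJ N c h2
      rw [one_smul] at h1
      exact ((normIndex_coprime p hd0).pow_right _).mul_dvd_of_dvd_of_dvd ((hZpow N).1 h1) h3
    · exact hord _ (exists_pow_eq_scalar p A hf (hms.trans (Nat.le_pow_clog hp _)) hμ
        (root_pow_normIndex_mul hfm hf hroot))
  · right; right
    have hdn' : f.natDegree = n := le_antisymm ((Nat.le_mul_of_pos_right _ (Nat.pos_of_ne_zero hm0)).trans hdm) hdn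
    have hm1 : m = 1 := by
      rw [hdn'] at hdm
      by_contra h
      have := Nat.mul_le_mul_left n (show 2 ≤ m by omega)
      omega
    refine hord _ ?_
    have := exists_pow_eq_scalar p A hf (L := torusOrder (Fintype.card F) n) (e := 0) (m := m)
      (by rw [hm1, pow_zero]) hμ ?_
    · rwa [pow_zero, mul_one] at this
    · obtain ⟨u, hu⟩ := (torusOrder_dvd_iff _ _ _ hq).1 (dvd_refl (torusOrder (Fintype.card F) n))
      rw [hu, pow_mul, root_pow_normIndex_of_det A g.2 hfm hf hdn' hfA, one_pow]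

theorem exists_torus (hn : 0 < n) : ∃ y : Matrix.ProjectiveSpecialLinearGroup (Fin n) F,
    torusOrder (Fintype.card F) n ∣ orderOf y := by
  obtain ⟨Z, hdet, -, hZ⟩ := exists_norm_one_matrix (F := F) n hn
  let g : Matrix.SpecialLinearGroup (Fin n) F := ⟨Z, hdet⟩
  refine ⟨π g, ?_⟩
  obtain ⟨c, hc⟩ := (psl_pow_eq_one_iff g _).1 (pow_orderOf_eq_one (π g))
  exact (torusOrder_dvd_iff _ _ _ Fintype.one_lt_card).2 (hZ _ c hc)

theorem exists_unipotent (hn : 0 < n) : ∃ y : Matrix.ProjectiveSpecialLinearGroup (Fin n) F,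
    p ^ Nat.clog p n ∣ orderOf y := by
  obtain ⟨J, hdet, hJ⟩ := exists_jordan (F := F) p hn
  let g : Matrix.SpecialLinearGroup (Fin n) F := ⟨J, hdet⟩
  refine ⟨π g, ?_⟩
  obtain ⟨c, hc⟩ := (psl_pow_eq_one_iff g _).1 (pow_orderOf_eq_one (π g))
  exact (hJ _ c hc).2

theorem good_unipotent (hr : r.Prime) (hrq : r ∣ Fintype.card F - 1) (hrn : ¬ r ∣ n) (hn : 2 ≤ n)
    (h : ¬ ∃ j : ℕ, n - 1 = p ^ j) : Good F n r (p ^ Nat.clog p n) := by
  obtain ⟨J, hJdet, hJ⟩ := exists_jordan (F := F) p (show 0 < n - 1 by omega)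
  have hp := (Fact.out : p.Prime).one_lt
  have hle : Nat.clog p n ≤ Nat.clog p (n - 1) := by
    have h1 := Nat.le_pow_clog hp (n - 1)
    refine Nat.clog_le_of_le_pow ?_
    by_contra h2
    exact h ⟨Nat.clog p (n - 1), by omega⟩
  exact good_twoBlock hr hrq hrn (show 1 + (n - 1) = n by omega) one_pos (by omega) 1 J
    (by rw [det_one, hJdet, one_mul]) _ fun N c _ h2 => (pow_dvd_pow p hle).trans (hJ N c h2).2

theorem good_one (hr : r.Prime) (hrq : r ∣ Fintype.card F - 1) (hrn : ¬ r ∣ n) (hn : 2 ≤ n) :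
    Good F n r 1 :=
  good_twoBlock hr hrq hrn (show 1 + (n - 1) = n by omega) one_pos (by omega) 1 1
    (by rw [det_one, det_one, one_mul]) 1 fun _ _ _ _ => one_dvd _

/-- Adding a direct factor of exponent `r` does not change the orders. -/
theorem range_eq {G H : Type*} [Group G] [Finite G] [Group H]
    (f : G → H) (hf : ∀ x, orderOf (f x) = orderOf x)
    (h : ∀ z : H, ∃ y : G, orderOf z ∣ orderOf y) :
    Set.range (orderOf : H → ℕ) = Set.range (orderOf : G → ℕ) := by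
  refine Set.Subset.antisymm ?_ ?_
  · rintro _ ⟨z, rfl⟩
    obtain ⟨y, hy⟩ := h z
    exact ⟨y ^ (orderOf y / orderOf z), orderOf_pow_orderOf_div (orderOf_pos y).ne' hy⟩
  · rintro _ ⟨x, rfl⟩
    exact ⟨f x, hf x⟩

theorem orderOf_dvd_prime {m : ℕ} (e : Multiplicative (Fin m → ZMod r)) : orderOf e ∣ r := by
  refine orderOf_dvd_of_pow_eq_one ?_
  apply Multiplicative.toAdd.injective
  rw [toAdd_pow, toAdd_one]
  funext i
  simp

/-- Let F be a finite field with q = p^a elements, n ≥ 2 (with q ≥ 4 when n = 2), L = PSL(n, F), and let r be a prime dividing q − 1 and not dividing n. Then for every m the direct product L × L × L × (ℤ/r)^m has the same set of element orders as L × L × L; and if n − 1 ≠ p^j for every j ≥ 0 (so never when n = 2, since 1 = p^0), then already L × L × (ℤ/r)^m has the same set of element orders as L × L. -/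
theorem result {F : Type*} [Field F] [Fintype F] (p a n r m : ℕ) (hp : p.Prime) (ha : 1 ≤ a) (hF : Fintype.card F = p ^ a)
    (hn : 2 ≤ n) (hn2 : n = 2 → 4 ≤ Fintype.card F) (hr : r.Prime) (hrq : r ∣ Fintype.card F - 1) (hrn : ¬ r ∣ n) :
    Set.range (orderOf : Matrix.ProjectiveSpecialLinearGroup (Fin n) F × Matrix.ProjectiveSpecialLinearGroup (Fin n) F × Matrix.ProjectiveSpecialLinearGroup (Fin n) F × Multiplicative (Fin m → ZMod r) → ℕ) =
      Set.range (orderOf : Matrix.ProjectiveSpecialLinearGroup (Fin n) F × Matrix.ProjectiveSpecialLinearGroup (Fin n) F × Matrix.ProjectiveSpecialLinearGroup (Fin n) F → ℕ) ∧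
    ((¬ ∃ j : ℕ, n - 1 = p ^ j) →
      Set.range (orderOf : Matrix.ProjectiveSpecialLinearGroup (Fin n) F × Matrix.ProjectiveSpecialLinearGroup (Fin n) F × Multiplicative (Fin m → ZMod r) → ℕ) =
        Set.range (orderOf : Matrix.ProjectiveSpecialLinearGroup (Fin n) F × Matrix.ProjectiveSpecialLinearGroup (Fin n) F → ℕ)) := by
  classical
  have : NeZero n := ⟨by omega⟩
  have : Fact p.Prime := ⟨hp⟩
  have : CharP F p := charP_of_card_eq_prime_pow hF
  obtain ⟨zM, hzM⟩ := exists_torus (F := F) (n := n) (by omega)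
  obtain ⟨zP, hzP⟩ := exists_unipotent (F := F) (n := n) p (by omega)
  obtain ⟨y₁, -, hy₁⟩ := good_one (F := F) hr hrq hrn hn
  have cl : ∀ x : Matrix.ProjectiveSpecialLinearGroup (Fin n) F, Good F n r (orderOf x) ∨
      orderOf x ∣ p ^ Nat.clog p n ∨ orderOf x ∣ torusOrder (Fintype.card F) n := by
    intro x
    obtain ⟨g, rfl⟩ := QuotientGroup.mk'_surjective _ x
    exact classify p hr hrq hrn g
  constructor
  · refine range_eq (fun x => (x.1, x.2.1, x.2.2, 1)) (fun x => by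
      simp [Prod.orderOf, orderOf_one, Nat.lcm_one_right]) ?_
    rintro ⟨a, b, c, e⟩
    suffices h : ∃ u v w : Matrix.ProjectiveSpecialLinearGroup (Fin n) F,
        ∀ N, orderOf u ∣ N → orderOf v ∣ N → orderOf w ∣ N →
          orderOf a ∣ N ∧ orderOf b ∣ N ∧ orderOf c ∣ N ∧ r ∣ N by
      obtain ⟨u, v, w, h⟩ := h
      obtain ⟨h1, h2, h3, h4⟩ := h (orderOf (u, v, w))
        (by rw [Prod.orderOf]; exact Nat.dvd_lcm_left _ _)
        (by rw [Prod.orderOf, Prod.orderOf]; exact (Nat.dvd_lcm_left _ _).trans (Nat.dvd_lcm_right _ _))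
        (by rw [Prod.orderOf, Prod.orderOf]; exact (Nat.dvd_lcm_right _ _).trans (Nat.dvd_lcm_right _ _))
      refine ⟨(u, v, w), ?_⟩
      rw [Prod.orderOf, Prod.orderOf (x := (b, c, e)), Prod.orderOf (x := (c, e))]
      exact Nat.lcm_dvd h1 (Nat.lcm_dvd h2 (Nat.lcm_dvd h3 ((orderOf_dvd_prime e).trans h4)))
    rcases cl a with ⟨y, hy1, hy2⟩ | ha
    · exact ⟨y, b, c, fun N h1 h2 h3 => ⟨hy1.trans h1, h2, h3, hy2.trans h1⟩⟩
    rcases cl b with ⟨y, hy1, hy2⟩ | hb
    · exact ⟨a, y, c, fun N h1 h2 h3 => ⟨h1, hy1.trans h2, h3, hy2.trans h2⟩⟩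
    rcases cl c with ⟨y, hy1, hy2⟩ | hc
    · exact ⟨a, b, y, fun N h1 h2 h3 => ⟨h1, h2, hy1.trans h3, hy2.trans h3⟩⟩
    refine ⟨zM, zP, y₁, fun N h1 h2 h3 => ?_⟩
    have key : ∀ {k : ℕ}, k ∣ p ^ Nat.clog p n ∨ k ∣ torusOrder (Fintype.card F) n → k ∣ N := by
      rintro k (h | h)
      · exact h.trans (hzP.trans h2)
      · exact h.trans (hzM.trans h1)
    exact ⟨key ha, key hb, key hc, hy₁.trans h3⟩
  · intro hnp
    have cl2 : ∀ x : Matrix.ProjectiveSpecialLinearGroup (Fin n) F, Good F n r (orderOf x) ∨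
        orderOf x ∣ torusOrder (Fintype.card F) n := by
      intro x
      rcases cl x with h | h | h
      · exact Or.inl h
      · exact Or.inl ((good_unipotent p hr hrq hrn hn hnp).mono h)
      · exact Or.inr h
    refine range_eq (fun x => (x.1, x.2, 1)) (fun x => by
      simp [Prod.orderOf, orderOf_one, Nat.lcm_one_right]) ?_
    rintro ⟨a, b, e⟩
    suffices h : ∃ u v : Matrix.ProjectiveSpecialLinearGroup (Fin n) F,
        ∀ N, orderOf u ∣ N → orderOf v ∣ N → orderOf a ∣ N ∧ orderOf b ∣ N ∧ r ∣ N by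
      obtain ⟨u, v, h⟩ := h
      obtain ⟨h1, h2, h4⟩ := h (orderOf (u, v))
        (by rw [Prod.orderOf]; exact Nat.dvd_lcm_left _ _)
        (by rw [Prod.orderOf]; exact Nat.dvd_lcm_right _ _)
      refine ⟨(u, v), ?_⟩
      rw [Prod.orderOf, Prod.orderOf (x := (b, e))]
      exact Nat.lcm_dvd h1 (Nat.lcm_dvd h2 ((orderOf_dvd_prime e).trans h4))
    rcases cl2 a with ⟨y, hy1, hy2⟩ | ha
    · exact ⟨y, b, fun N h1 h2 => ⟨hy1.trans h1, h2, hy2.trans h1⟩⟩
    rcases cl2 b with ⟨y, hy1, hy2⟩ | hb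
    · exact ⟨a, y, fun N h1 h2 => ⟨h1, hy1.trans h2, hy2.trans h2⟩⟩
    exact ⟨zM, y₁, fun N h1 h2 => ⟨ha.trans (hzM.trans h1), hb.trans (hzM.trans h1), hy₁.trans h2⟩⟩

end Cfsg.Agent.S2510
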