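import Cfsg.Statements.S2476
import Cfsg.Agent.S2510

set_option autoImplicit false
open Cfsg

namespace Cfsg.Agent.S2476

open Matrix Polynomial
open Cfsg.Agent.GL

variable {F : Type*} [Field F] [Fintype F]

local notation "M₃" => Matrix (Fin 3) (Fin 3) F

local notation "PSL₃" => Matrix.ProjectiveSpecialLinearGroup (Fin 3) F

omit [Fintype F] in
/-- `A ^ k` is scalar if `μ` divides `X ^ k - c`. -/
theorem scalar_of_dvd {A : M₃} {k : ℕ} {c : F} (h : minpoly F A ∣ X ^ k - C c) : ∃ c : F, A ^ k = c • 1 := by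
  refine ⟨c, ?_⟩
  rw [minpoly.dvd_iff, map_sub, map_pow, aeval_X, aeval_C, sub_eq_zero, Algebra.algebraMap_eq_smul_one] at h
  exact h

omit [Fintype F] in
theorem coprime_X_sub {a b : F} (h : a ≠ b) : IsCoprime (X - C a) (X - C b) :=
  Polynomial.isCoprime_X_sub_C_of_isUnit_sub (sub_ne_zero.2 h).isUnit

omit [Fintype F] in
theorem linear_dvd {a c : F} {k : ℕ} (h : a ^ k = c) : X - C a ∣ X ^ k - C c := by
  rw [dvd_iff_isRoot, IsRoot.def, eval_sub, eval_pow, eval_X, eval_C, h, sub_self]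

omit [Fintype F] in
theorem pow_linear_dvd (p : ℕ) [Fact p.Prime] [CharP F p] {a c : F} {k j : ℕ} (hp : p ^ j ∣ k)
    (h : a ^ k = c) : (X - C a) ^ p ^ j ∣ X ^ k - C c := by
  obtain ⟨t, ht⟩ := hp
  rw [sub_pow_char_pow, ← map_pow, ht, pow_mul]
  have h1 := sub_dvd_pow_sub_pow ((X : F[X]) ^ p ^ j) (C (a ^ p ^ j)) t
  rwa [← map_pow C, ← pow_mul a, ← ht, h] at h1

theorem gcd_facts : Nat.gcd (normIndex (Fintype.card F) 3) (Fintype.card F - 1) = Nat.gcd 3 (Fintype.card F - 1) ∧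
    normIndex (Fintype.card F) 3 = Fintype.card F ^ 2 + Fintype.card F + 1 := by
  have hq : 1 < Fintype.card F := Fintype.one_lt_card
  have hI : normIndex (Fintype.card F) 3 = Fintype.card F ^ 2 + Fintype.card F + 1 := by
    rw [normIndex, ← Nat.geomSum_eq hq]
    simp [Finset.sum_range_succ]
    ring
  refine ⟨?_, hI⟩
  rw [hI]
  obtain ⟨r, hr⟩ : ∃ r, Fintype.card F = r + 1 := ⟨Fintype.card F - 1, by omega⟩
  rw [hr, Nat.add_sub_cancel, show (r + 1) ^ 2 + (r + 1) + 1 = 3 + r * (r + 3) by ring,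
    Nat.gcd_add_mul_left_left]

/-- The index for the factor `q - 1`. -/
theorem exp_mul_three {d : ℕ} (hd : d ∣ 3) {N : ℕ} (hN : d ∣ N) : N ∣ N / d * 3 := by
  obtain ⟨t, ht⟩ := hd
  refine ⟨t, ?_⟩
  conv_lhs => rw [ht, ← mul_assoc, Nat.div_mul_cancel hN]

variable (p : ℕ) [Fact p.Prime] [CharP F p]

include p in
theorem classify (A : Matrix.SpecialLinearGroup (Fin 3) F) :
    ∃ k, (∃ c : F, (A : M₃) ^ k = c • 1) ∧
      (k = (Fintype.card F ^ 2 + Fintype.card F + 1) / Nat.gcd 3 (Fintype.card F - 1) ∨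
      k = (Fintype.card F ^ 2 - 1) / Nat.gcd 3 (Fintype.card F - 1) ∨ k = Fintype.card F - 1 ∨
      k = p * (Fintype.card F - 1) / Nat.gcd 3 (Fintype.card F - 1) ∨ (p = 2 ∧ k = 4)) := by
  classical
  set q := Fintype.card F with hq
  set d := Nat.gcd 3 (q - 1) with hd
  have hq1 : 1 < q := Fintype.one_lt_card
  set M : M₃ := (A : M₃) with hM
  have hdet : M.det = 1 := A.2
  have hχd : M.charpoly.natDegree = 3 := by rw [Matrix.charpoly_natDegree_eq_dim, Fintype.card_fin]
  have hμ := Matrix.minpoly_dvd_charpoly M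
  by_cases hirr : Irreducible M.charpoly
  · refine ⟨_, ?_, Or.inl rfl⟩
    have hroot := root_pow_normIndex_of_det M hdet (Matrix.charpoly_monic M) hirr hχd dvd_rfl
    have hT : (q ^ 2 + q + 1) / d = S2510.torusOrder q 3 := by
      rw [S2510.torusOrder, gcd_facts.1, gcd_facts.2]
    rw [hT]
    obtain ⟨c, hc⟩ := exists_pow_eq_scalar p M hirr (m := 1) (e := 0) (L := S2510.torusOrder q 3) (by simp)
      (by rwa [pow_one]) (by
        obtain ⟨t, ht⟩ := (S2510.torusOrder_dvd_iff q 3 _ hq1).1 (dvd_refl _)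
        rw [ht, pow_mul, hroot, one_pow])
    exact ⟨c, by rwa [pow_zero, mul_one] at hc⟩
  obtain ⟨a, ha⟩ : ∃ a, M.charpoly.IsRoot a := by
    by_contra hno
    push Not at hno
    refine hirr (Polynomial.irreducible_of_degree_le_three_of_not_isRoot (Finset.mem_Icc.2 ⟨by omega, by omega⟩) hno)
  obtain ⟨g, hg⟩ := dvd_iff_isRoot.2 ha
  have hgm : g.Monic := (monic_X_sub_C a).of_mul_monic_left (hg ▸ Matrix.charpoly_monic M)
  have hgd : g.natDegree = 2 := by
    have := hχd
    rw [hg, natDegree_mul (X_sub_C_ne_zero a) hgm.ne_zero, natDegree_X_sub_C] at this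
    omega
  have hag : a * g.coeff 0 = 1 := by
    have := Matrix.det_eq_sign_charpoly_coeff M
    rw [hdet, hg, mul_coeff_zero, Fintype.card_fin, coeff_sub, coeff_X_zero, coeff_C_zero] at this
    linear_combination -this
  have ha0 : a ≠ 0 := left_ne_zero_of_mul_eq_one hag
  have hd3 : d ∣ 3 := Nat.gcd_dvd_left _ _
  have hdq : d ∣ q - 1 := Nat.gcd_dvd_right _ _
  have hdq2 : d ∣ q ^ 2 - 1 := hdq.trans (by simpa using Nat.sub_one_dvd_pow_sub_one q 2)
  have hone : ∀ x : F, x ≠ 0 → x ^ (q - 1) = 1 := fun x hx => FiniteField.pow_card_sub_one_eq_one x hx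
  by_cases hgi : Irreducible g
  · refine ⟨_, ?_, Or.inr (Or.inl rfl)⟩
    set k := (q ^ 2 - 1) / d with hk
    have := Fact.mk hgi
    have hnorm : AdjoinRoot.root g ^ (q + 1) = AdjoinRoot.of g (g.coeff 0) := by
      have h1 := Algebra.PowerBasis.norm_gen_eq_coeff_zero_minpoly (AdjoinRoot.powerBasis hgi.ne_zero)
      rw [AdjoinRoot.powerBasis_gen, AdjoinRoot.powerBasis_dim, AdjoinRoot.minpoly_root hgi.ne_zero,
        hgm.leadingCoeff, inv_one, map_one, mul_one, hgd, neg_one_sq, one_mul] at h1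
      have : Finite (AdjoinRoot g) :=
        Nat.finite_of_card_ne_zero (by rw [natCard_adjoinRoot hgm]; exact pow_ne_zero _ Fintype.card_ne_zero)
      have h2 := FiniteField.algebraMap_norm_eq_pow (K := F) (x := AdjoinRoot.root g)
      rw [h1, natCard_adjoinRoot hgm, ← Fintype.card_eq_nat_card, hgd] at h2
      rw [show (q ^ 2 - 1) / (q - 1) = q + 1 by
        rw [show q ^ 2 - 1 = (q + 1) * (q - 1) by rw [← Nat.sq_sub_sq, one_pow], Nat.mul_div_cancel _ (by omega)]] at h2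
      exact h2.symm
    have hroot0 : AdjoinRoot.root g ≠ 0 := by
      intro h0
      rw [h0, zero_pow (by omega)] at hnorm
      exact right_ne_zero_of_mul_eq_one hag ((AdjoinRoot.of g).injective (hnorm.symm.trans (map_zero _).symm))
    -- `β ^ (k * (q + 2)) = 1`
    have hkq : q ^ 2 - 1 ∣ k * (q + 2) := by
      obtain ⟨s, hs⟩ : d ∣ q + 2 := by
        rw [show q + 2 = (q - 1) + 3 by omega]
        exact Nat.dvd_add hdq hd3
      refine ⟨s, ?_⟩
      rw [hs, ← mul_assoc, Nat.div_mul_cancel hdq2]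
    have hb : AdjoinRoot.root g ^ k = AdjoinRoot.of g (a ^ k) := by
      have h3 : AdjoinRoot.root g ^ (k * (q + 2)) = 1 := by
        obtain ⟨t, ht⟩ := hkq
        rw [ht, pow_mul]
        have := root_pow_normIndex_mul hgm hgi hroot0
        rw [normIndex_mul, hgd] at this
        rw [this, one_pow]
      have h4 : AdjoinRoot.of g (a ^ k) * AdjoinRoot.root g ^ (k * (q + 1)) = 1 := by
        rw [mul_comm k, pow_mul, hnorm, ← map_pow, ← map_mul, ← mul_pow, hag, one_pow, map_one]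
      calc AdjoinRoot.root g ^ k = AdjoinRoot.root g ^ k * (AdjoinRoot.of g (a ^ k) *
            AdjoinRoot.root g ^ (k * (q + 1))) := by rw [h4, mul_one]
        _ = AdjoinRoot.of g (a ^ k) * AdjoinRoot.root g ^ (k * (q + 2)) := by
            rw [mul_left_comm, ← pow_add, show k + k * (q + 1) = k * (q + 2) by ring]
        _ = _ := by rw [h3, mul_one]
    have hgd' : g ∣ X ^ k - C (a ^ k) := by
      rw [← AdjoinRoot.mk_eq_zero, map_sub, map_pow, AdjoinRoot.mk_X, AdjoinRoot.mk_C, hb, sub_self]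
    refine scalar_of_dvd (hμ.trans (hg ▸ IsCoprime.mul_dvd ?_ (linear_dvd rfl) hgd'))
    refine (hgi.coprime_iff_not_dvd.2 fun h => ?_).symm
    have := natDegree_le_of_dvd h (X_sub_C_ne_zero a)
    rw [natDegree_X_sub_C, hgd] at this
    omega
  obtain ⟨b, hb⟩ : ∃ b, g.IsRoot b := by
    by_contra hno
    push Not at hno
    exact hgi (Polynomial.irreducible_of_degree_le_three_of_not_isRoot (Finset.mem_Icc.2 ⟨by omega, by omega⟩) hno)
  obtain ⟨w, hw⟩ := dvd_iff_isRoot.2 hb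
  have hwm : w.Monic := (monic_X_sub_C b).of_mul_monic_left (hw ▸ hgm)
  have hwd : w.natDegree = 1 := by
    have := hgd
    rw [hw, natDegree_mul (X_sub_C_ne_zero b) hwm.ne_zero, natDegree_X_sub_C] at this
    omega
  obtain ⟨e, he⟩ : ∃ e, w = X - C e := ⟨-w.coeff 0, by rw [map_neg, sub_neg_eq_add]; exact hwm.eq_X_add_C hwd⟩
  have hμ' : minpoly F M ∣ (X - C a) * ((X - C b) * (X - C e)) := by rw [← he, ← hw, ← hg]; exact hμ
  have habe : a * b * e = 1 := by
    rw [hw, he, mul_coeff_zero, coeff_sub, coeff_sub, coeff_X_zero, coeff_C_zero, coeff_C_zero] at hag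
    linear_combination hag
  have hb0 : b ≠ 0 := fun h => by simp [h] at habe
  have he0 : e ≠ 0 := fun h => by simp [h] at habe
  -- two equal roots
  have two : ∀ u v : F, u * u * v = 1 → u ≠ v → minpoly F M ∣ (X - C u) ^ 2 * (X - C v) →
      ∃ c : F, M ^ (p * (q - 1) / d) = c • 1 := by
    intro u v huv hne hdvd
    set k := p * (q - 1) / d with hk
    have hk' : k = p * ((q - 1) / d) := Nat.mul_div_assoc p hdq
    have hu0 : u ≠ 0 := fun h => by simp [h] at huv
    have h3 : u ^ k = v ^ k := by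
      have h1 : u ^ (k * 3) = 1 := by
        obtain ⟨t, ht⟩ := exp_mul_three hd3 hdq
        rw [hk', mul_assoc, ht, mul_comm p, mul_assoc, pow_mul, hone u hu0, one_pow]
      have h2 : u ^ (k * 2) * v ^ k = 1 := by rw [mul_comm k 2, pow_mul, ← mul_pow, sq, huv, one_pow]
      have h4 : u ^ (k * 2) * u ^ k = u ^ (k * 2) * v ^ k := by
        rw [h2, ← pow_add, show k * 2 + k = k * 3 by ring, h1]
      exact mul_left_cancel₀ (pow_ne_zero _ hu0) h4
    refine scalar_of_dvd (hdvd.trans (IsCoprime.mul_dvd (coprime_X_sub hne).pow_left ?_ (linear_dvd h3.symm)))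
    refine (pow_dvd_pow _ (Fact.out : p.Prime).two_le).trans ?_
    have := pow_linear_dvd p (j := 1) (a := u) (c := u ^ k) (k := k) (by rw [pow_one, hk']; exact dvd_mul_right _ _) rfl
    rwa [pow_one] at this
  by_cases hab : a = b
  · subst hab
    by_cases hae : a = e
    · subst hae
      have h3 : a ^ 3 = 1 := by linear_combination habe
      have hμ3 : minpoly F M ∣ (X - C a) ^ 3 := by
        rw [show (X - C a) ^ 3 = (X - C a) * ((X - C a) * (X - C a)) by ring]; exact hμ'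
      rcases (Fact.out : p.Prime).eq_two_or_odd' with hp2 | hpo
      · refine ⟨4, ?_, Or.inr (Or.inr (Or.inr (Or.inr ⟨hp2, rfl⟩)))⟩
        refine scalar_of_dvd (hμ3.trans ((pow_dvd_pow _ (show 3 ≤ p ^ 2 by rw [hp2]; norm_num)).trans
          (pow_linear_dvd p (j := 2) (by rw [hp2]; norm_num) rfl)))
      · refine ⟨_, ?_, Or.inr (Or.inr (Or.inr (Or.inl rfl)))⟩
        refine scalar_of_dvd (hμ3.trans ((pow_dvd_pow _ (show 3 ≤ p ^ 1 by
          rw [pow_one]
          rw [Nat.odd_iff] at hpo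
          have := (Fact.out : p.Prime).two_le
          omega)).trans (pow_linear_dvd p (j := 1) (by
            rw [pow_one, Nat.mul_div_assoc p hdq]; exact dvd_mul_right _ _) rfl)))
    · exact ⟨_, two a e habe hae (by rwa [sq, mul_assoc]), Or.inr (Or.inr (Or.inr (Or.inl rfl)))⟩
  by_cases hae : a = e
  · subst hae
    exact ⟨_, two a b (by linear_combination habe) hab (by
      rwa [show (X - C a) ^ 2 * (X - C b) = (X - C a) * ((X - C b) * (X - C a)) by ring]),
      Or.inr (Or.inr (Or.inr (Or.inl rfl)))⟩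
  by_cases hbe : b = e
  · subst hbe
    exact ⟨_, two b a (by linear_combination habe) (Ne.symm hab) (by
      rwa [show (X - C b) ^ 2 * (X - C a) = (X - C a) * ((X - C b) * (X - C b)) by ring]),
      Or.inr (Or.inr (Or.inr (Or.inl rfl)))⟩
  refine ⟨_, scalar_of_dvd (c := 1) (hμ'.trans (IsCoprime.mul_dvd ((coprime_X_sub hab).mul_right (coprime_X_sub hae))
    (linear_dvd (hone a ha0)) (IsCoprime.mul_dvd (coprime_X_sub hbe) (linear_dvd (hone b hb0))
      (linear_dvd (hone e he0))))), Or.inr (Or.inr (Or.inl rfl))⟩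

/-- An element from a determinant one matrix whose scalar powers are controlled. -/
theorem exists_element {k : ℕ} (Z : M₃) (hdet : Z.det = 1)
    (h : ∀ N (c : F), c ^ 3 = 1 → Z ^ N = c • 1 → k ∣ N) : ∃ y : PSL₃, k ∣ orderOf y := by
  let g : Matrix.SpecialLinearGroup (Fin 3) F := ⟨Z, hdet⟩
  refine ⟨QuotientGroup.mk' (Subgroup.center _) g, ?_⟩
  obtain ⟨c, hc⟩ := (psl_pow_eq_one_iff g _).1
    (pow_orderOf_eq_one (QuotientGroup.mk' (Subgroup.center _) g : PSL₃))
  refine h _ c ?_ hc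
  have h1 := (g ^ orderOf (QuotientGroup.mk' (Subgroup.center _) g : PSL₃)).2
  rw [Matrix.SpecialLinearGroup.coe_pow, hc, det_smul, det_one, mul_one, Fintype.card_fin] at h1
  exact h1

theorem scalar_one_of_coprime {c : F} (h : c ^ 3 = 1) (hd : Nat.gcd 3 (Fintype.card F - 1) = 1) : c = 1 := by
  have hc0 : c ≠ 0 := fun h0 => by simp [h0] at h
  have := pow_gcd_eq_one.2 ⟨h, FiniteField.pow_card_sub_one_eq_one c hc0⟩
  rwa [hd, pow_one] at this

/-- `N / d ∣ k` from `x ^ k = c`, `x` of order `N`. -/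
theorem div_dvd_of_pow {G : Type*} [Monoid G] {x : G} {N k : ℕ} (hx : orderOf x = N)
    (hd : Nat.gcd 3 (Fintype.card F - 1) ∣ N) (h3 : x ^ (k * 3) = 1)
    (h1 : Nat.gcd 3 (Fintype.card F - 1) = 1 → x ^ k = 1) : N / Nat.gcd 3 (Fintype.card F - 1) ∣ k := by
  rcases Nat.prime_three.eq_one_or_self_of_dvd _ (Nat.gcd_dvd_left 3 (Fintype.card F - 1)) with hd' | hd'
  · rw [hd', Nat.div_one, ← hx]
    exact orderOf_dvd_of_pow_eq_one (h1 hd')
  · rw [hd'] at hd ⊢
    obtain ⟨t, rfl⟩ := hd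
    rw [Nat.mul_div_cancel_left _ three_pos]
    have := orderOf_dvd_of_pow_eq_one h3
    rw [hx, mul_comm k] at this
    exact (Nat.mul_dvd_mul_iff_left three_pos).1 this

include p in
theorem realise {k : ℕ} (h : k = (Fintype.card F ^ 2 + Fintype.card F + 1) / Nat.gcd 3 (Fintype.card F - 1) ∨
      k = (Fintype.card F ^ 2 - 1) / Nat.gcd 3 (Fintype.card F - 1) ∨ k = Fintype.card F - 1 ∨
      k = p * (Fintype.card F - 1) / Nat.gcd 3 (Fintype.card F - 1) ∨ (p = 2 ∧ k = 4)) :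
    ∃ y : PSL₃, k ∣ orderOf y := by
  classical
  set q := Fintype.card F with hq
  have hq1 : 1 < q := Fintype.one_lt_card
  have hdq : Nat.gcd 3 (q - 1) ∣ q - 1 := Nat.gcd_dvd_right _ _
  rcases h with rfl | rfl | rfl | rfl | ⟨rfl, rfl⟩
  · obtain ⟨Z, hdet, -, hZ⟩ := exists_norm_one_matrix (F := F) 3 three_pos
    refine exists_element Z hdet fun N c _ hN => ?_
    have := (S2510.torusOrder_dvd_iff q 3 N hq1).2 (hZ N c hN)
    rwa [S2510.torusOrder, gcd_facts.1, gcd_facts.2] at this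
  · obtain ⟨B, hB⟩ := exists_orderOf_card_pow_sub_one (F := F) (d := 2) (n := 2) two_pos le_rfl
    set b : F := ((B : Matrix (Fin 2) (Fin 2) F)).det with hb
    have hb0 : b ≠ 0 := ((Matrix.isUnit_iff_isUnit_det _).1 B.isUnit).ne_zero
    refine exists_element (twoBlock (show 2 + 1 = 3 from rfl) ((B : Matrix (Fin 2) (Fin 2) F), b⁻¹ • 1)) (by
      rw [det_twoBlock, det_smul, det_one, mul_one, Fintype.card_fin, pow_one, ← hb, mul_inv_cancel₀ hb0])
      fun N c hc hN => ?_
    rw [← map_pow, twoBlock_eq_smul_one] at hN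
    have e1 : (B : Matrix (Fin 2) (Fin 2) F) ^ N = c • 1 := hN.1
    refine div_dvd_of_pow hB (hdq.trans (by simpa using Nat.sub_one_dvd_pow_sub_one q 2))
      (Units.ext ?_) fun hd => Units.ext ?_
    · rw [Units.val_pow_eq_pow_val, pow_mul, e1, _root_.smul_pow, one_pow, hc, one_smul, Units.val_one]
    · rw [Units.val_pow_eq_pow_val, e1, scalar_one_of_coprime hc hd, one_smul, Units.val_one]
  · obtain ⟨w, hw⟩ := IsCyclic.exists_ofOrder_eq_natCard (α := Fˣ)
    rw [Nat.card_units, Nat.card_eq_fintype_card, ← hq] at hw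
    refine exists_element (Matrix.diagonal ![(w : F), ((w⁻¹ : Fˣ) : F), 1]) (by
      simp [Matrix.det_diagonal, Fin.prod_univ_three]) fun N c _ hN => ?_
    rw [Matrix.diagonal_pow, Matrix.smul_one_eq_diagonal, Matrix.diagonal_eq_diagonal_iff] at hN
    have h0 := hN 0
    have h2 := hN 2
    simp at h0 h2
    rw [← hw, orderOf_dvd_iff_pow_eq_one]
    exact Units.ext (by rw [Units.val_pow_eq_pow_val, h0, ← h2, Units.val_one])
  · obtain ⟨J, hJdet, hJ⟩ := S2510.exists_jordan (F := F) p (s := 2) two_pos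
    obtain ⟨w, hw⟩ := IsCyclic.exists_ofOrder_eq_natCard (α := Fˣ)
    rw [Nat.card_units, Nat.card_eq_fintype_card, ← hq] at hw
    refine exists_element (twoBlock (show 2 + 1 = 3 from rfl) ((w : F) • J, (((w ^ 2)⁻¹ : Fˣ) : F) • 1)) (by
      rw [det_twoBlock, det_smul, det_smul, hJdet, det_one, mul_one, mul_one, Fintype.card_fin, Fintype.card_fin,
        pow_one, ← Units.val_pow_eq_pow_val, ← Units.val_mul, mul_inv_cancel, Units.val_one])
      fun N c hc hN => ?_
    rw [← map_pow, twoBlock_eq_smul_one] at hN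
    have hw0 : ((w : F)) ^ N ≠ 0 := pow_ne_zero _ w.ne_zero
    have e1 : J ^ N = (((w : F) ^ N)⁻¹ * c) • 1 := by
      have := hN.1
      rw [Prod.pow_fst, _root_.smul_pow] at this
      rw [mul_smul, ← this, smul_smul, inv_mul_cancel₀ hw0, one_smul]
    obtain ⟨hwc, hpN⟩ := hJ N _ e1
    have hwN : (w : F) ^ N = c := (inv_mul_eq_one₀ hw0).1 hwc
    rw [Nat.mul_div_assoc p hdq]
    refine Nat.Coprime.mul_dvd_of_dvd_of_dvd ?_ ((dvd_pow_self p (Nat.clog_pos
      (Fact.out : p.Prime).one_lt one_lt_two).ne').trans hpN) (div_dvd_of_pow hw hdq (Units.ext ?_) fun hd => Units.ext ?_)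
    · refine Nat.Coprime.coprime_dvd_right (Nat.div_dvd_of_dvd hdq)
        ((Fact.out : p.Prime).coprime_iff_not_dvd.2 fun h => ?_)
      have hp : p ∣ q := (CharP.cast_eq_zero_iff F p _).1 (Nat.cast_card_eq_zero F)
      have h1 := Nat.dvd_sub hp h
      rw [Nat.sub_sub_self hq1.le] at h1
      exact (Fact.out : p.Prime).ne_one (Nat.dvd_one.1 h1)
    · rw [Units.val_pow_eq_pow_val, pow_mul, hwN, hc, Units.val_one]
    · rw [Units.val_pow_eq_pow_val, hwN, scalar_one_of_coprime hc hd, Units.val_one]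
  · obtain ⟨J, hJdet, hJ⟩ := S2510.exists_jordan (F := F) 2 (s := 3) three_pos
    exact exists_element J hJdet fun N c _ hN =>
      (show 4 ∣ 2 ^ Nat.clog 2 3 by decide).trans (hJ N c hN).2


/-- The set of element orders of PSL(3,q): let F be a finite field of characteristic p with q elements and d = gcd(3, q − 1). The orders of elements of PSL(3,F) are exactly the divisors of (q² + q + 1)/d, of (q² − 1)/d, of q − 1, of p(q − 1)/d, and, when p = 2, of 4. -/
theorem result {F : Type*} [Field F] [Fintype F] (p : ℕ) [Fact p.Prime] [CharP F p] :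
    Set.range (orderOf : Matrix.ProjectiveSpecialLinearGroup (Fin 3) F → ℕ) =
      {m : ℕ | m ∣ (Fintype.card F ^ 2 + Fintype.card F + 1) / Nat.gcd 3 (Fintype.card F - 1) ∨
        m ∣ (Fintype.card F ^ 2 - 1) / Nat.gcd 3 (Fintype.card F - 1) ∨ m ∣ Fintype.card F - 1 ∨
        m ∣ p * (Fintype.card F - 1) / Nat.gcd 3 (Fintype.card F - 1) ∨ (p = 2 ∧ m ∣ 4)} := by
  ext m
  constructor
  · rintro ⟨x, rfl⟩
    obtain ⟨A, rfl⟩ := QuotientGroup.mk'_surjective _ x
    obtain ⟨k, hk, h⟩ := classify p A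
    have hdv := orderOf_dvd_of_pow_eq_one ((GL.psl_pow_eq_one_iff A k).2 hk)
    rcases h with rfl | rfl | rfl | rfl | ⟨hp, rfl⟩
    · exact Or.inl hdv
    · exact Or.inr (Or.inl hdv)
    · exact Or.inr (Or.inr (Or.inl hdv))
    · exact Or.inr (Or.inr (Or.inr (Or.inl hdv)))
    · exact Or.inr (Or.inr (Or.inr (Or.inr ⟨hp, hdv⟩)))
  · intro h
    obtain ⟨k, hk, hmk⟩ : ∃ k, (k = (Fintype.card F ^ 2 + Fintype.card F + 1) / Nat.gcd 3 (Fintype.card F - 1) ∨
        k = (Fintype.card F ^ 2 - 1) / Nat.gcd 3 (Fintype.card F - 1) ∨ k = Fintype.card F - 1 ∨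
        k = p * (Fintype.card F - 1) / Nat.gcd 3 (Fintype.card F - 1) ∨ (p = 2 ∧ k = 4)) ∧ m ∣ k := by
      rcases h with h | h | h | h | ⟨hp, h⟩
      · exact ⟨_, Or.inl rfl, h⟩
      · exact ⟨_, Or.inr (Or.inl rfl), h⟩
      · exact ⟨_, Or.inr (Or.inr (Or.inl rfl)), h⟩
      · exact ⟨_, Or.inr (Or.inr (Or.inr (Or.inl rfl))), h⟩
      · exact ⟨_, Or.inr (Or.inr (Or.inr (Or.inr ⟨hp, rfl⟩))), h⟩
    obtain ⟨y, hy⟩ := realise p hk
    exact ⟨_, orderOf_pow_orderOf_div (orderOf_pos y).ne' (hmk.trans hy)⟩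

end Cfsg.Agent.S2476
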