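import Cfsg.Statements.S2483
import Cfsg.Agent.Lib.LevCover.Lower

set_option autoImplicit false
open Cfsg

namespace Cfsg.Agent.S2483

open Matrix Module Cfsg.Agent.LevCover

universe u

variable {F : Type u} [Field F] {n : ℕ}

/-- A special linear matrix as an endomorphism. -/
def endo : SpecialLinearGroup (Fin n) F →* End F (Fin n → F) where
  toFun X := Matrix.toLin' (X : Matrix (Fin n) (Fin n) F)
  map_one' := by simp [Matrix.toLin'_one, Module.End.one_eq_id]
  map_mul' X Y := by simp [Matrix.toLin'_mul, Module.End.mul_eq_comp]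

theorem det_endo (X : SpecialLinearGroup (Fin n) F) : LinearMap.det (endo X) = 1 := by
  change LinearMap.det (Matrix.toLin' (X : Matrix (Fin n) (Fin n) F)) = 1
  rw [LinearMap.det_toLin', X.det_coe]

theorem exists_endo {f : End F (Fin n → F)} (hf : LinearMap.det f = 1) :
    ∃ X : SpecialLinearGroup (Fin n) F, endo X = f :=
  ⟨⟨LinearMap.toMatrix' f, by rw [LinearMap.det_toMatrix', hf]⟩, Matrix.toLin'_toMatrix' f⟩

theorem mem_center_of_endo {X : SpecialLinearGroup (Fin n) F} {c : F} (h : endo X = c • 1) :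
    X ∈ Subgroup.center (SpecialLinearGroup (Fin n) F) := by
  rw [Matrix.SpecialLinearGroup.mem_center_iff]
  have hX : (X : Matrix (Fin n) (Fin n) F) = Matrix.scalar (Fin n) c := by
    apply Matrix.toLin'.injective
    change endo X = _
    rw [h, Matrix.scalar_apply, ← Matrix.smul_one_eq_diagonal c, map_smul, Matrix.toLin'_one]
    rfl
  refine ⟨c, ?_, hX.symm⟩
  have h1 := X.det_coe
  rw [hX, Matrix.scalar_apply, Matrix.det_diagonal, Finset.prod_const, Finset.card_univ] at h1
  exact h1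

theorem endo_of_mem_center {X : SpecialLinearGroup (Fin n) F}
    (h : X ∈ Subgroup.center (SpecialLinearGroup (Fin n) F)) : ∃ c : F, endo X = c • 1 := by
  obtain ⟨c, -, hc⟩ := Matrix.SpecialLinearGroup.mem_center_iff.1 h
  refine ⟨c, ?_⟩
  change Matrix.toLin' (X : Matrix (Fin n) (Fin n) F) = _
  rw [← hc, Matrix.scalar_apply, ← Matrix.smul_one_eq_diagonal c, map_smul, Matrix.toLin'_one]
  rfl

theorem endo_conj {X M : SpecialLinearGroup (Fin n) F} {e : (Fin n → F) ≃ₗ[F] (Fin n → F)}
    (hM : endo M = (e : (Fin n → F) →ₗ[F] Fin n → F)) : endo (M * X * M⁻¹) = e.conj (endo X) := by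
  refine LinearMap.ext fun z => ?_
  obtain ⟨y, rfl⟩ := e.surjective z
  rw [LinearEquiv.conj_apply_apply, e.symm_apply_apply, map_mul, map_mul, Module.End.mul_apply, Module.End.mul_apply]
  have h1 : endo M⁻¹ (e y) = y := by
    rw [← LinearEquiv.coe_coe, ← hM, ← Module.End.mul_apply, ← map_mul, inv_mul_cancel, map_one, Module.End.one_apply]
  rw [h1, ← LinearEquiv.coe_coe, ← hM]

theorem covers [Fintype F] (h4 : 4 ≤ Fintype.card F) (hn : 3 ≤ n) (x : ProjectiveSpecialLinearGroup (Fin n) F)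
    (hx : x ≠ 1) (g : ProjectiveSpecialLinearGroup (Fin n) F) :
    ∃ f : Fin n → ProjectiveSpecialLinearGroup (Fin n) F, g = (List.ofFn fun i => f i * x * (f i)⁻¹).prod := by
  obtain ⟨X, rfl⟩ := QuotientGroup.mk_surjective x
  obtain ⟨G, rfl⟩ := QuotientGroup.mk_surjective g
  have hNS : NS (endo X) := fun c hc => hx ((QuotientGroup.eq_one_iff X).2 (mem_center_of_endo hc))
  obtain ⟨L, ζ, hL, hLc, hLp⟩ := cover h4 (by simp) hn hNS (det_endo X) (endo G) (det_endo G)
  have key : ∀ i : Fin n, ∃ M : SpecialLinearGroup (Fin n) F, endo (M * X * M⁻¹) = L[(i : ℕ)]'(by rw [hL]; exact i.2) := by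
    intro i
    obtain ⟨e, he, heq⟩ := hLc _ (List.getElem_mem (show (i : ℕ) < L.length by rw [hL]; exact i.2))
    obtain ⟨M, hM⟩ := exists_endo he
    exact ⟨M, by rw [endo_conj hM, heq]⟩
  choose M hM using key
  refine ⟨fun i => (M i : ProjectiveSpecialLinearGroup (Fin n) F), ?_⟩
  have hprod : (List.ofFn fun i => (M i : ProjectiveSpecialLinearGroup (Fin n) F) * (X : ProjectiveSpecialLinearGroup (Fin n) F) *
      (M i : ProjectiveSpecialLinearGroup (Fin n) F)⁻¹).prod =
      (((List.ofFn fun i => M i * X * (M i)⁻¹).prod : SpecialLinearGroup (Fin n) F) : ProjectiveSpecialLinearGroup (Fin n) F) := by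
    refine Eq.trans ?_ (map_list_prod (QuotientGroup.mk' _) _).symm
    rw [List.map_ofFn]
    rfl
  rw [hprod, QuotientGroup.eq]
  refine mem_center_of_endo (c := ζ) ?_
  have hP : endo (List.ofFn fun i => M i * X * (M i)⁻¹).prod = ζ • endo G := by
    rw [map_list_prod, List.map_ofFn, ← hLp]
    congr 1
    refine List.ext_getElem (by simp [hL]) fun i h1 h2 => ?_
    simp [hM]
  rw [map_mul, hP, mul_smul_comm, ← map_mul, inv_mul_cancel, map_one]

theorem lower [Fintype F] (hn : 3 ≤ n) :
    ∃ x : ProjectiveSpecialLinearGroup (Fin n) F, x ≠ 1 ∧ ∃ g : ProjectiveSpecialLinearGroup (Fin n) F,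
      ∀ f : Fin (n - 1) → ProjectiveSpecialLinearGroup (Fin n) F,
        g ≠ (List.ofFn fun i => f i * x * (f i)⁻¹).prod := by
  classical
  obtain ⟨φ, hφdef⟩ : ∃ φ : Dual F (Fin n → F), φ = LinearMap.proj ⟨0, by omega⟩ := ⟨_, rfl⟩
  obtain ⟨u, hudef⟩ : ∃ u : Fin n → F, u = Pi.single ⟨1, by omega⟩ 1 := ⟨_, rfl⟩
  have hφu : φ u = 0 := by simp [hφdef, hudef]
  obtain ⟨X, hX⟩ := exists_endo (f := LinearMap.transvection φ u) (by
    rw [LinearMap.transvection.det, hφu, add_zero])
  obtain ⟨Gend, hdG, hfree⟩ := exists_free_det_one (K := F) (n := n) (by omega)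
  obtain ⟨G, hG⟩ := exists_endo hdG
  refine ⟨(X : ProjectiveSpecialLinearGroup (Fin n) F), fun h => ?_, (G : ProjectiveSpecialLinearGroup (Fin n) F),
    fun f hf => ?_⟩
  · obtain ⟨c, hc⟩ := endo_of_mem_center ((QuotientGroup.eq_one_iff X).1 h)
    have h1 := LinearMap.congr_fun (hX ▸ hc : LinearMap.transvection φ u = c • 1) (Pi.single ⟨0, by omega⟩ 1)
    have h2 := congrFun h1 ⟨1, by omega⟩
    simp [LinearMap.transvection.apply, hφdef, hudef, Fin.ext_iff] at h2
  choose M hM using fun i => QuotientGroup.mk_surjective (f i)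
  have hprod : (List.ofFn fun i => f i * (X : ProjectiveSpecialLinearGroup (Fin n) F) * (f i)⁻¹).prod =
      (((List.ofFn fun i => M i * X * (M i)⁻¹).prod : SpecialLinearGroup (Fin n) F) : ProjectiveSpecialLinearGroup (Fin n) F) := by
    refine Eq.trans ?_ (map_list_prod (QuotientGroup.mk' _) _).symm
    rw [List.map_ofFn]
    simp only [← hM]
    rfl
  rw [hprod, QuotientGroup.eq] at hf
  obtain ⟨c, hc⟩ := endo_of_mem_center hf
  have key : ∀ i, ∃ e : (Fin n → F) ≃ₗ[F] (Fin n → F), endo (M i * X * (M i)⁻¹) = e.conj (LinearMap.transvection φ u) := by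
    intro i
    obtain ⟨e, he⟩ := exists_equiv_of_det (A := endo (M i)) (by rw [det_endo]; exact one_ne_zero)
    exact ⟨e, by rw [endo_conj he.symm, hX]⟩
  choose e he using key
  obtain ⟨z, hz0, hz⟩ := exists_common_fixed (k := n - 1) (by simp; omega) φ u e
  have hPz : endo (List.ofFn fun i => M i * X * (M i)⁻¹).prod z = z := by
    rw [map_list_prod, List.map_ofFn]
    have h := prod_common (1 : F) (List.ofFn (endo ∘ fun i => M i * X * (M i)⁻¹)) z fun y hy => by
      obtain ⟨i, rfl⟩ := (List.mem_ofFn ..).1 hy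
      rw [one_smul, Function.comp_apply, he i]
      exact hz i
    rwa [one_pow, one_smul] at h
  have h1 : c • Gend z = z := by
    have h2 := congrArg (fun f => endo G * f) hc
    simp only [← map_mul, mul_inv_cancel_left, mul_smul_comm, mul_one] at h2
    rw [← hG]
    conv_rhs => rw [← hPz, h2]
    rfl
  have hc0 : c ≠ 0 := fun h0 => hz0 (by rw [← h1, h0, zero_smul])
  exact hz0 (hfree z c⁻¹ (by
    conv_rhs => rw [← h1, smul_smul, inv_mul_cancel₀ hc0, one_smul]))

/-- The covering number of PSL(n,q) is n: let F be a finite field with q ≥ 4 elements and n ≥ 3. For every non-identity element x of PSL(n,F), every element of PSL(n,F) is a product of n conjugates of x; and for some non-identity x, some element is not a product of n − 1 conjugates of x. -/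
theorem result {F : Type*} [Field F] [Fintype F] (h4 : 4 ≤ Fintype.card F) (n : ℕ) (hn : 3 ≤ n) :
    (∀ x : Matrix.ProjectiveSpecialLinearGroup (Fin n) F, x ≠ 1 → ∀ g : Matrix.ProjectiveSpecialLinearGroup (Fin n) F, ∃ f : Fin n → Matrix.ProjectiveSpecialLinearGroup (Fin n) F, g = (List.ofFn fun i => f i * x * (f i)⁻¹).prod) ∧
    (∃ x : Matrix.ProjectiveSpecialLinearGroup (Fin n) F, x ≠ 1 ∧ ∃ g : Matrix.ProjectiveSpecialLinearGroup (Fin n) F, ∀ f : Fin (n - 1) → Matrix.ProjectiveSpecialLinearGroup (Fin n) F, g ≠ (List.ofFn fun i => f i * x * (f i)⁻¹).prod) :=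
  ⟨fun x hx g => covers h4 hn x hx g, lower hn⟩

end Cfsg.Agent.S2483
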