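import Cfsg.Statements.S2485
import Cfsg.Agent.Lib.PGroup.Basic
import Mathlib.Tactic
import Mathlib.LinearAlgebra.Matrix.GeneralLinearGroup.Card
import Mathlib.LinearAlgebra.Matrix.GeneralLinearGroup.Basic
import Mathlib.LinearAlgebra.Matrix.GeneralLinearGroup.Projective
import Mathlib.NumberTheory.LegendreSymbol.Basic

set_option autoImplicit false
open scoped Pointwise
open Cfsg

namespace Cfsg.Agent.S2485

open Matrix

variable {F : Type*} [Field F] [Fintype F]

local notation "M₂" => Matrix (Fin 2) (Fin 2) F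

local notation "PGL₂" => GL (Fin 2) F ⧸ Subgroup.center (GL (Fin 2) F)

omit [Fintype F] in
theorem mem_center_iff_scalar (g : GL (Fin 2) F) :
    g ∈ Subgroup.center (GL (Fin 2) F) ↔ ∃ c : F, (g : M₂) = c • 1 := by
  constructor
  · intro h
    rw [Matrix.GeneralLinearGroup.center_eq_range_scalar] at h
    obtain ⟨u, rfl⟩ := h
    exact ⟨u, by simp [Matrix.smul_one_eq_diagonal]⟩
  · rintro ⟨c, hc⟩
    refine Subgroup.mem_center_iff.2 fun x => Units.ext ?_
    simp [hc]

/-- An involution of `PGL₂` lifts to a traceless matrix. -/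
theorem exists_lift (hF : (2 : F) ≠ 0) {z : PGL₂} (hz : z ^ 2 = 1) (hz1 : z ≠ 1) :
    ∃ (g : GL (Fin 2) F) (c : F), QuotientGroup.mk' _ g = z ∧ (g : M₂) * (g : M₂) = c • 1 ∧ c ≠ 0 ∧
      (∀ d : F, (g : M₂) ≠ d • 1) ∧ (g : M₂).det = -c := by
  obtain ⟨g, rfl⟩ := QuotientGroup.mk'_surjective _ z
  rw [← map_pow, QuotientGroup.mk'_apply, QuotientGroup.eq_one_iff, mem_center_iff_scalar] at hz
  obtain ⟨c, hc⟩ := hz
  rw [Units.val_pow_eq_pow_val, sq] at hc
  have hns : ∀ d : F, (g : M₂) ≠ d • 1 := fun d hd =>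
    hz1 ((QuotientGroup.eq_one_iff _).2 ((mem_center_iff_scalar g).2 ⟨d, hd⟩))
  have hc0 : c ≠ 0 := fun h => by
    have h1 : ((g * g : GL (Fin 2) F) : M₂) = 0 := by rw [Units.val_mul, hc, h, zero_smul]
    exact (g * g).ne_zero h1
  refine ⟨g, c, rfl, hc, hc0, hns, ?_⟩
  have e : ∀ i j, ((g : M₂) * (g : M₂)) i j = (c • (1 : M₂)) i j := fun i j => by rw [hc]
  have e00 := e 0 0; have e01 := e 0 1; have e10 := e 1 0; have e11 := e 1 1
  simp [Matrix.mul_apply, Fin.sum_univ_two] at e00 e01 e10 e11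
  rw [Matrix.det_fin_two]
  by_cases ht : (g : M₂) 0 0 + (g : M₂) 1 1 = 0
  · linear_combination (g : M₂) 0 0 * ht - e00
  · exfalso
    have h01 : (g : M₂) 0 1 = 0 :=
      (mul_eq_zero.1 (by linear_combination e01 : ((g : M₂) 0 0 + (g : M₂) 1 1) * (g : M₂) 0 1 = 0)).resolve_left ht
    have h10 : (g : M₂) 1 0 = 0 :=
      (mul_eq_zero.1 (by linear_combination e10 : ((g : M₂) 0 0 + (g : M₂) 1 1) * (g : M₂) 1 0 = 0)).resolve_left ht
    rw [h01, h10] at e00 e11
    have hd : (g : M₂) 0 0 = (g : M₂) 1 1 := by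
      refine sub_eq_zero.1 ((mul_eq_zero.1 (?_ : ((g : M₂) 0 0 + (g : M₂) 1 1) *
        ((g : M₂) 0 0 - (g : M₂) 1 1) = 0)).resolve_left ht)
      linear_combination e00 - e11
    refine hns ((g : M₂) 0 0) ?_
    ext i j
    fin_cases i <;> fin_cases j <;> simp [h01, h10, ← hd]

omit [Fintype F] in
/-- The preimage of the centraliser. -/
theorem commute_iff (g h : GL (Fin 2) F) :
    Commute (QuotientGroup.mk' (Subgroup.center (GL (Fin 2) F)) h) (QuotientGroup.mk' _ g) ↔
      ∃ l : F, (g : M₂) * (h : M₂) = l • ((h : M₂) * (g : M₂)) := by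
  rw [Commute, SemiconjBy, ← map_mul, ← map_mul, QuotientGroup.mk'_apply, QuotientGroup.mk'_apply,
    QuotientGroup.eq, mem_center_iff_scalar]
  constructor
  · rintro ⟨l, hl⟩
    refine ⟨l, ?_⟩
    have := congrArg (((h * g : GL (Fin 2) F) : M₂) * ·) hl
    simpa [← mul_assoc] using this
  · rintro ⟨l, hl⟩
    refine ⟨l, ?_⟩
    have hh : ((g * h : GL (Fin 2) F) : M₂) = l • ((h * g : GL (Fin 2) F) : M₂) := by simpa using hl
    rw [Units.val_mul, hh, mul_smul_comm, ← Units.val_mul, inv_mul_cancel, Units.val_one]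

/-- The centraliser of an involution with nonsquare `c` has order at most `2 (q + 1)`. -/
theorem card_centralizer_le {g : GL (Fin 2) F} {c : F} (hc : (g : M₂) * (g : M₂) = c • 1) (hsq : ¬ IsSquare c) :
    Nat.card {z : PGL₂ // Commute z (QuotientGroup.mk' _ g)} ≤ 2 * (Fintype.card F + 1) := by
  classical
  set A : M₂ := (g : M₂) with hA
  set q := Fintype.card F with hq
  have hc0 : c ≠ 0 := fun h => hsq (h ▸ IsSquare.zero)
  -- units commuting with `A` are determined by the first column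
  have hA10 : A 1 0 ≠ 0 := by
    intro h
    have := congrFun (congrFun hc 0) 0
    simp [Matrix.mul_apply, Fin.sum_univ_two, h] at this
    exact hsq ⟨A 0 0, this.symm⟩
  have hdet : ∀ B : M₂, A * B = B * A → B 0 0 = 0 → B 1 0 = 0 → B = 0 := by
    intro B hB h0 h1
    have e0 := congrFun (congrFun hB 0) 0
    have e1 := congrFun (congrFun hB 1) 0
    simp [Matrix.mul_apply, Fin.sum_univ_two, h0, h1] at e0 e1
    ext i j
    fin_cases i <;> fin_cases j
    · exact h0
    · exact e0.resolve_right hA10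
    · exact h1
    · exact e1.resolve_right hA10
  have hU : Nat.card {h : GL (Fin 2) F // A * (h : M₂) = (h : M₂) * A} ≤ q ^ 2 - 1 := by
    let f : {h : GL (Fin 2) F // A * (h : M₂) = (h : M₂) * A} → {v : F × F // v ≠ 0} := fun h =>
      ⟨((h.1 : M₂) 0 0, (h.1 : M₂) 1 0), fun h0 => by
        obtain ⟨h1, h2⟩ := Prod.ext_iff.1 h0
        exact h.1.ne_zero (hdet _ h.2 h1 h2)⟩
    have hf : Function.Injective f := fun a b hab => by
      obtain ⟨h1, h2⟩ := Prod.ext_iff.1 (congrArg Subtype.val hab)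
      refine Subtype.ext (Units.ext (sub_eq_zero.1 (hdet _ ?_ ?_ ?_)))
      · rw [mul_sub, sub_mul, a.2, b.2]
      · rw [Matrix.sub_apply, sub_eq_zero]; exact h1
      · rw [Matrix.sub_apply, sub_eq_zero]; exact h2
    refine (Nat.card_le_card_of_injective f hf).trans (le_of_eq ?_)
    rw [Nat.card_eq_fintype_card, Fintype.card_subtype_compl, Fintype.card_subtype_eq, Fintype.card_prod, sq]
  -- the whole preimage
  let S : Subgroup (GL (Fin 2) F) :=
    (Subgroup.centralizer {QuotientGroup.mk' (Subgroup.center (GL (Fin 2) F)) g}).comap (QuotientGroup.mk' _)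
  have hS : ∀ h : S, A * (h.1 : M₂) = (h.1 : M₂) * A ∨ A * (h.1 : M₂) = -((h.1 : M₂) * A) := by
    intro h
    obtain ⟨l, hl⟩ := (commute_iff g h.1).1 (Subgroup.mem_centralizer_singleton_iff.1 h.2)
    have h2 : (h.1 : M₂) * (A * A) = (l * l) • ((h.1 : M₂) * (A * A)) := by
      conv_lhs => rw [hc, mul_smul_comm, mul_one, ← one_mul (h.1 : M₂), ← smul_mul_assoc, ← hc, mul_assoc, hl,
        mul_smul_comm, ← mul_assoc, hl, smul_mul_assoc, smul_smul, mul_assoc]
    have hne : (h.1 : M₂) * (A * A) ≠ 0 := by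
      intro h0
      exact (h.1 * (g * g) : GL (Fin 2) F).ne_zero (by rw [Units.val_mul, Units.val_mul]; exact h0)
    have hll : l * l = 1 := (smul_left_injective F hne (by simpa using h2.symm))
    rcases mul_self_eq_one_iff.1 hll with rfl | rfl
    · exact Or.inl (by rw [hl, one_smul])
    · exact Or.inr (by rw [hl, neg_one_smul])
  have hScard : Nat.card S ≤ 2 * (q ^ 2 - 1) := by
    have hle : Nat.card S ≤ Nat.card ({h : GL (Fin 2) F // A * (h : M₂) = (h : M₂) * A} × Bool) := by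
      by_cases hex : ∃ w : S, ¬ A * (w.1 : M₂) = (w.1 : M₂) * A
      · obtain ⟨w, hw⟩ := hex
        have hw' := (hS w).resolve_left hw
        let f : S → {h : GL (Fin 2) F // A * (h : M₂) = (h : M₂) * A} × Bool := fun h =>
          if hh : A * (h.1 : M₂) = (h.1 : M₂) * A then (⟨h.1, hh⟩, false) else
            (⟨h.1 * w.1, by
              have := (hS h).resolve_left hh
              rw [Units.val_mul, ← mul_assoc, this, neg_mul, mul_assoc, hw', mul_neg, neg_neg, mul_assoc]⟩, true)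
        refine Nat.card_le_card_of_injective f fun a b hab => ?_
        simp only [f] at hab
        split_ifs at hab with ha hb hb
        · exact Subtype.ext (congrArg (fun x => x.1.1) hab)
        · simp at hab
        · simp at hab
        · exact Subtype.ext (mul_right_cancel (congrArg (fun x => x.1.1) hab))
      · push Not at hex
        exact Nat.card_le_card_of_injective (fun h => (⟨h.1, hex h⟩, false))
          fun a b hab => Subtype.ext (congrArg (fun x => x.1.1) hab)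
    rw [Nat.card_prod, Nat.card_eq_fintype_card (α := Bool), Fintype.card_bool] at hle
    omega
  -- divide by the scalars
  let C := Subgroup.centralizer {QuotientGroup.mk' (Subgroup.center (GL (Fin 2) F)) g}
  have hZ : q - 1 ≤ Nat.card (Subgroup.center (GL (Fin 2) F)) := by
    rw [hq, ← Fintype.card_units, ← Nat.card_eq_fintype_card]
    refine Nat.card_le_card_of_injective (fun u => ⟨Matrix.GeneralLinearGroup.scalar (Fin 2) u, by
      rw [Matrix.GeneralLinearGroup.center_eq_range_scalar]; exact ⟨u, rfl⟩⟩) fun a b hab => ?_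
    have h := congrArg (fun x : Subgroup.center (GL (Fin 2) F) => (x.1 : M₂) 0 0) hab
    exact Units.ext (by simpa using h)
  have hmul : Nat.card S = Nat.card C * Nat.card (Subgroup.center (GL (Fin 2) F)) := by
    have e : Nat.card S = Nat.card ((QuotientGroup.mk' (Subgroup.center (GL (Fin 2) F))) ⁻¹' (C : Set PGL₂)) := rfl
    rw [e, QuotientGroup.coe_mk', Nat.card_congr (QuotientGroup.preimageMkEquivSubgroupProdSet _ _), Nat.card_prod,
      mul_comm]
    rfl
  have hC : Nat.card {z : PGL₂ // Commute z (QuotientGroup.mk' _ g)} = Nat.card C :=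
    Nat.card_congr (Equiv.subtypeEquivRight fun z => by rw [Subgroup.mem_centralizer_singleton_iff]; rfl)
  rw [hC]
  have h1 : Nat.card C * (q - 1) ≤ 2 * (q + 1) * (q - 1) := by
    refine (Nat.mul_le_mul_left _ hZ).trans (hmul ▸ hScard.trans (le_of_eq ?_))
    rw [mul_assoc, ← Nat.sq_sub_sq, one_pow]
  exact Nat.le_of_mul_le_mul_right h1 (by have := Fintype.one_lt_card (α := F); omega)


/-- Let q = 2^k − 1 ≥ 7 be a prime and let G = PGL(2,q), the general linear group of degree 2 over the field with q elements modulo its centre. Then any two Sylow 2-subgroups of G have a non-trivial intersection: for a Sylow 2-subgroup H and every x ∈ G, H ∩ H^x ≠ 1. -/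
theorem result {q k : ℕ} [Fact q.Prime] (hk : q + 1 = 2 ^ k) (hq : 7 ≤ q)
    (H : Sylow 2 (GL (Fin 2) (ZMod q) ⧸ Subgroup.center (GL (Fin 2) (ZMod q))))
    (x : GL (Fin 2) (ZMod q) ⧸ Subgroup.center (GL (Fin 2) (ZMod q))) :
    (H : Subgroup (GL (Fin 2) (ZMod q) ⧸ Subgroup.center (GL (Fin 2) (ZMod q)))) ⊓ MulAut.conj x • (H : Subgroup _) ≠ ⊥ := by
  classical
  have hq2 : (2 : ZMod q) ≠ 0 := fun h => by
    have := Nat.le_of_dvd two_pos ((ZMod.natCast_eq_zero_iff 2 q).1 (by exact_mod_cast h))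
    omega
  have hcq : Fintype.card (ZMod q) = q := ZMod.card q
  have hk3 : 3 ≤ k := by
    by_contra h
    have : 2 ^ k ≤ 2 ^ 2 := Nat.pow_le_pow_right two_pos (by omega)
    omega
  -- the quotient has order divisible by `2 ^ (k + 1)`
  have hcardG : 2 * (q + 1) ≤ Nat.card (H : Subgroup (GL (Fin 2) (ZMod q) ⧸ Subgroup.center (GL (Fin 2) (ZMod q)))) := by
    have hGL : Nat.card (GL (Fin 2) (ZMod q)) = (q ^ 2 - 1) * (q ^ 2 - q) := by
      rw [Matrix.card_GL_field, hcq, Fin.prod_univ_two]; simp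
    have hZ : Nat.card (Subgroup.center (GL (Fin 2) (ZMod q))) ∣ q - 1 := by
      rw [Matrix.GeneralLinearGroup.center_eq_range_scalar]
      refine (Subgroup.card_range_dvd _).trans ?_
      rw [Nat.card_eq_fintype_card, ZMod.card_units]
    have hd : (q + 1) * q * (q - 1) ∣ Nat.card (GL (Fin 2) (ZMod q) ⧸ Subgroup.center (GL (Fin 2) (ZMod q))) := by
      obtain ⟨t, ht⟩ := hZ
      have h := Subgroup.card_eq_card_quotient_mul_card_subgroup (Subgroup.center (GL (Fin 2) (ZMod q)))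
      rw [hGL, show q ^ 2 - 1 = (q + 1) * (q - 1) by rw [← Nat.sq_sub_sq, one_pow],
        show q ^ 2 - q = q * (q - 1) by rw [Nat.mul_sub, mul_one, sq]] at h
      refine ⟨1 * 1, ?_⟩
      have hz0 : 0 < Nat.card (Subgroup.center (GL (Fin 2) (ZMod q))) := Nat.card_pos
      refine Nat.eq_of_mul_eq_mul_right hz0 ?_
      rw [← h]
      have : Nat.card (Subgroup.center (GL (Fin 2) (ZMod q))) = q - 1 := by
        refine le_antisymm (Nat.le_of_dvd (by omega) ⟨t, ht⟩) ?_
        rw [← ZMod.card_units q, ← Nat.card_eq_fintype_card]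
        refine Nat.card_le_card_of_injective (fun u => ⟨Matrix.GeneralLinearGroup.scalar (Fin 2) u, by
          rw [Matrix.GeneralLinearGroup.center_eq_range_scalar]; exact ⟨u, rfl⟩⟩) fun a b hab => ?_
        have h := congrArg (fun x : Subgroup.center (GL (Fin 2) (ZMod q)) => (x.1 : Matrix (Fin 2) (Fin 2) (ZMod q)) 0 0) hab
        exact Units.ext (by simpa using h)
      rw [this]
      ring
    obtain ⟨j, hj⟩ : Odd q := by
      rw [Nat.odd_iff]
      have : 2 ∣ 2 ^ k := dvd_pow_self 2 (by omega)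
      omega
    have h2 : 2 ^ (k + 1) ∣ Nat.card (GL (Fin 2) (ZMod q) ⧸ Subgroup.center (GL (Fin 2) (ZMod q))) := by
      refine dvd_trans ⟨q * j, ?_⟩ hd
      rw [pow_succ, ← hk, show q - 1 = j * 2 by omega]
      ring
    have := Nat.le_of_dvd Nat.card_pos (H.pow_dvd_card_of_pow_dvd_card h2)
    rw [pow_succ, ← hk] at this
    omega
  have hH : IsPGroup 2 (H : Subgroup (GL (Fin 2) (ZMod q) ⧸ Subgroup.center (GL (Fin 2) (ZMod q)))) := H.isPGroup'
  -- the sign of the determinant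
  let χ : (GL (Fin 2) (ZMod q) ⧸ Subgroup.center (GL (Fin 2) (ZMod q))) →* ℤ := QuotientGroup.lift _
      (((quadraticChar (ZMod q)).toMonoidHom).comp ((Units.coeHom (ZMod q)).comp Matrix.GeneralLinearGroup.det)) (by
    intro g hg
    obtain ⟨c, hc⟩ := (mem_center_iff_scalar g).1 hg
    have hdet : (g : Matrix (Fin 2) (Fin 2) (ZMod q)).det = c * c := by
      rw [hc, Matrix.det_smul, Matrix.det_one, mul_one, Fintype.card_fin, sq]
    have hc0 : c ≠ 0 := fun h => g.ne_zero (by rw [hc, h, zero_smul])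
    show quadraticChar (ZMod q) ((Matrix.GeneralLinearGroup.det g : (ZMod q)ˣ) : ZMod q) = 1
    rw [Matrix.GeneralLinearGroup.val_det_apply, hdet, map_mul, ← sq]
    exact quadraticChar_sq_one hc0)
  let N : Subgroup (H : Subgroup (GL (Fin 2) (ZMod q) ⧸ Subgroup.center (GL (Fin 2) (ZMod q)))) := (χ.comp (H : Subgroup (GL (Fin 2) (ZMod q) ⧸ Subgroup.center (GL (Fin 2) (ZMod q)))).subtype).toHomUnits.ker
  have hN : N ≠ ⊥ := by
    intro hbot
    have hinj := (MonoidHom.ker_eq_bot_iff _).1 hbot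
    have := Nat.card_le_card_of_injective _ hinj
    rw [show Nat.card ℤˣ = 2 by rw [Nat.card_eq_fintype_card]; rfl] at this
    omega
  obtain ⟨z, hzN, hzc, hzo⟩ := PGroup.exists_orderOf_eq_mem_center hH N hN
  have hz2 : (z : (GL (Fin 2) (ZMod q) ⧸ Subgroup.center (GL (Fin 2) (ZMod q)))) ^ 2 = 1 := by
    have : orderOf (z : (GL (Fin 2) (ZMod q) ⧸ Subgroup.center (GL (Fin 2) (ZMod q)))) = 2 := by rw [Subgroup.orderOf_coe, hzo]
    exact orderOf_dvd_iff_pow_eq_one.1 this.dvd
  have hz1 : (z : (GL (Fin 2) (ZMod q) ⧸ Subgroup.center (GL (Fin 2) (ZMod q)))) ≠ 1 := fun h => by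
    have : orderOf (z : (GL (Fin 2) (ZMod q) ⧸ Subgroup.center (GL (Fin 2) (ZMod q)))) = 2 := by rw [Subgroup.orderOf_coe, hzo]
    rw [h, orderOf_one] at this
    omega
  obtain ⟨g, c, hg, hgc, hc0, hns, hdet⟩ := exists_lift hq2 hz2 hz1
  have hsq : ¬ IsSquare c := by
    intro hsq
    have h1 : χ (z : (GL (Fin 2) (ZMod q) ⧸ Subgroup.center (GL (Fin 2) (ZMod q)))) = 1 := congrArg Units.val (MonoidHom.mem_ker.1 hzN)
    rw [← hg] at h1
    have h2 : quadraticChar (ZMod q) ((g : Matrix (Fin 2) (Fin 2) (ZMod q)).det) = 1 := h1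
    rw [hdet, neg_eq_neg_one_mul, map_mul, (quadraticChar_one_iff_isSquare hc0).2 hsq, mul_one,
      quadraticChar_one_iff_isSquare (neg_ne_zero.2 one_ne_zero), ZMod.exists_sq_eq_neg_one_iff] at h2
    obtain ⟨k', rfl⟩ := Nat.exists_eq_add_of_le hk3
    rw [pow_add] at hk
    omega
  -- hence the Sylow subgroup is the centraliser of `z`
  have hle : ∀ y ∈ (H : Subgroup (GL (Fin 2) (ZMod q) ⧸ Subgroup.center (GL (Fin 2) (ZMod q)))), Commute y (z : (GL (Fin 2) (ZMod q) ⧸ Subgroup.center (GL (Fin 2) (ZMod q)))) := fun y hy =>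
    congrArg Subtype.val (Subgroup.mem_center_iff.1 hzc ⟨y, hy⟩)
  have hcent : ∀ y : (GL (Fin 2) (ZMod q) ⧸ Subgroup.center (GL (Fin 2) (ZMod q))), Commute y (z : (GL (Fin 2) (ZMod q) ⧸ Subgroup.center (GL (Fin 2) (ZMod q)))) → y ∈ (H : Subgroup (GL (Fin 2) (ZMod q) ⧸ Subgroup.center (GL (Fin 2) (ZMod q)))) := by
    intro y hy
    let f : ↥(H : Subgroup (GL (Fin 2) (ZMod q) ⧸ Subgroup.center (GL (Fin 2) (ZMod q)))) → {w : (GL (Fin 2) (ZMod q) ⧸ Subgroup.center (GL (Fin 2) (ZMod q))) // Commute w (QuotientGroup.mk' _ g)} := fun w => ⟨w.1, hg ▸ hle w.1 w.2⟩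
    have hf : Function.Injective f := fun a b h => Subtype.ext (congrArg (fun t => t.1) h)
    have hb := card_centralizer_le hgc hsq
    rw [hcq] at hb
    obtain ⟨w, hw⟩ := (hf.bijective_of_nat_card_le (hb.trans hcardG)).2 ⟨y, hg ▸ hy⟩
    have e : w.1 = y := congrArg (fun t => t.1) hw
    exact e ▸ w.2
  -- the commutator of two lifts
  obtain ⟨u, hu⟩ := QuotientGroup.mk'_surjective _ x
  set A : Matrix (Fin 2) (Fin 2) (ZMod q) := (g : Matrix (Fin 2) (Fin 2) (ZMod q)) with hA
  set B : Matrix (Fin 2) (Fin 2) (ZMod q) := ((u * g * u⁻¹ : GL (Fin 2) (ZMod q)) : Matrix (Fin 2) (Fin 2) (ZMod q)) with hB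
  have hBc : B * B = c • 1 := by
    rw [hB, ← Units.val_mul, show u * g * u⁻¹ * (u * g * u⁻¹) = u * (g * g) * u⁻¹ by group, Units.val_mul,
      Units.val_mul, Units.val_mul, hgc, mul_smul_comm, mul_one, smul_mul_assoc, Units.mul_inv]
  intro hbot
  have hmem : ∀ t : (GL (Fin 2) (ZMod q) ⧸ Subgroup.center (GL (Fin 2) (ZMod q))), Commute t (z : (GL (Fin 2) (ZMod q) ⧸ Subgroup.center (GL (Fin 2) (ZMod q)))) → Commute t (x * z * x⁻¹) → t = 1 := by
    intro t h1 h2
    have h3 : t ∈ (H : Subgroup (GL (Fin 2) (ZMod q) ⧸ Subgroup.center (GL (Fin 2) (ZMod q)))) ⊓ MulAut.conj x • (H : Subgroup (GL (Fin 2) (ZMod q) ⧸ Subgroup.center (GL (Fin 2) (ZMod q)))) := by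
      refine ⟨hcent t h1, (Subgroup.mem_pointwise_smul_iff_inv_smul_mem.2 (hcent _ ?_))⟩
      rw [← map_inv, MulAut.smul_def, MulAut.conj_apply, inv_inv]
      calc x⁻¹ * t * x * (z : (GL (Fin 2) (ZMod q) ⧸ Subgroup.center (GL (Fin 2) (ZMod q)))) = x⁻¹ * (t * (x * z * x⁻¹)) * x := by group
        _ = x⁻¹ * ((x * z * x⁻¹) * t) * x := by rw [h2.eq]
        _ = (z : (GL (Fin 2) (ZMod q) ⧸ Subgroup.center (GL (Fin 2) (ZMod q)))) * (x⁻¹ * t * x) := by group
    rw [hbot] at h3
    exact Subgroup.mem_bot.1 h3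
  have hxz : QuotientGroup.mk' _ (u * g * u⁻¹) = x * (z : (GL (Fin 2) (ZMod q) ⧸ Subgroup.center (GL (Fin 2) (ZMod q)))) * x⁻¹ := by
    rw [map_mul, map_mul, map_inv, hg, hu]
  by_cases hAB : A * B = B * A
  · -- commuting lifts: `z` itself works
    refine hz1 (hmem _ (Commute.refl _) ?_)
    rw [← hxz, ← hg, commute_iff]
    exact ⟨1, by rw [one_smul]; exact hAB.symm⟩
  set T := A * B - B * A with hT
  have hAT : A * T = (-1 : ZMod q) • (T * A) := by
    rw [hT, mul_sub, sub_mul, ← mul_assoc, hgc, mul_assoc B A A, hgc, neg_one_smul]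
    simp [mul_assoc]
  have hBT : B * T = (-1 : ZMod q) • (T * B) := by
    rw [hT, mul_sub, sub_mul, ← mul_assoc B B A, hBc, mul_assoc A B B, hBc, neg_one_smul]
    simp [mul_assoc]
  have hT0 : T ≠ 0 := sub_ne_zero.2 hAB
  have hTdet : IsUnit T.det := by
    rw [isUnit_iff_ne_zero]
    intro h0
    obtain ⟨v, hv0, hv⟩ := Matrix.exists_mulVec_eq_zero_iff.2 h0
    -- the kernel of `T` would be an eigenline of `A`
    have hAv : T *ᵥ (A *ᵥ v) = 0 := by
      have h := congrArg (· *ᵥ v) hAT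
      simp only [neg_one_smul, Matrix.neg_mulVec, ← Matrix.mulVec_mulVec, hv, Matrix.mulVec_zero] at h
      exact neg_eq_zero.1 h.symm
    have hli : ¬ LinearIndependent (ZMod q) ![v, A *ᵥ v] := by
      intro hli
      refine hT0 ((Matrix.toLin' (R := ZMod q)).injective ((basisOfLinearIndependentOfCardEqFinrank hli
        (by simp)).ext fun i => ?_))
      fin_cases i <;> simp [hv, hAv]
    rw [LinearIndependent.pair_iff] at hli
    push Not at hli
    obtain ⟨a, b, hab, hne⟩ := hli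
    have hb : b ≠ 0 := fun hb => by
      rw [hb, zero_smul, add_zero, smul_eq_zero] at hab
      exact hne (hab.resolve_right hv0) hb
    refine hsq ⟨-a / b, ?_⟩
    have e : A *ᵥ v = (-a / b) • v := by
      rw [div_eq_inv_mul, mul_smul, eq_inv_smul_iff₀ hb, neg_smul, eq_neg_iff_add_eq_zero, add_comm]
      exact hab
    have h := congrArg (· *ᵥ v) hgc
    simp only [← Matrix.mulVec_mulVec, ← hA, e, Matrix.mulVec_smul, smul_smul, Matrix.smul_mulVec,
      Matrix.one_mulVec] at h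
    exact (smul_left_injective _ hv0 h).symm
  let τ : GL (Fin 2) (ZMod q) := ((Matrix.isUnit_iff_isUnit_det T).2 hTdet).unit
  have hτ : (τ : Matrix (Fin 2) (Fin 2) (ZMod q)) = T := IsUnit.unit_spec _
  have ht1 : QuotientGroup.mk' _ τ = (1 : (GL (Fin 2) (ZMod q) ⧸ Subgroup.center (GL (Fin 2) (ZMod q)))) := by
    refine hmem _ ?_ ?_
    · rw [← hg, commute_iff]; exact ⟨-1, by rw [hτ]; exact hAT⟩
    · rw [← hxz, commute_iff]; exact ⟨-1, by rw [hτ]; exact hBT⟩
  obtain ⟨d, hd⟩ := (mem_center_iff_scalar τ).1 ((QuotientGroup.eq_one_iff _).1 ht1)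
  rw [hτ] at hd
  rw [hd, mul_smul_comm, mul_one, smul_mul_assoc, one_mul, neg_one_smul, eq_neg_iff_add_eq_zero,
    ← add_smul, ← two_mul, smul_eq_zero] at hAT
  rcases hAT with h | h
  · exact hT0 (by rw [hd, (mul_eq_zero.1 h).resolve_left hq2, zero_smul])
  · exact g.ne_zero h

end Cfsg.Agent.S2485
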