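import Cfsg.Statements.S2486
import Cfsg.Agent.Lib.Fusion.UniTri
import Cfsg.Agent.Lib.PGroup.Basic

set_option autoImplicit false
open scoped Pointwise
open Cfsg

namespace Cfsg.Agent.S2486

open Matrix
open Cfsg.Agent.Fusion.UniTri

variable {n : ℕ}

local notation "S₂" => Matrix.SpecialLinearGroup (Fin n) (ZMod 2)

local notation "M₂" => Matrix (Fin n) (Fin n) (ZMod 2)

theorem eq_one_of_ne_zero {x : ZMod 2} (h : x ≠ 0) : x = 1 := by revert h; revert x; decide

theorem tri_le_uni : (tri : Subgroup S₂) ≤ uni := fun M hM => ⟨hM, fun i => eq_one_of_ne_zero fun h => by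
  have := det_eq_prod hM
  rw [Finset.prod_eq_zero (f := fun j => (M : M₂) j j) (Finset.mem_univ i) h] at this
  exact zero_ne_one this⟩

/-- A transvection inside the unitriangular group. -/
theorem exists_uni_transvection {z f : Fin n → ZMod 2} {a : Fin n} (hz : ∀ j, a < j → z j = 0)
    (hf : ∀ j, j ≤ a → f j = 0) : ∃ t ∈ (uni : Subgroup S₂), (t : M₂) = 1 + vecMulVec z f := by
  have htri : ∀ i j : Fin n, j < i → (1 + vecMulVec z f : M₂) i j = 0 := by
    intro i j hji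
    rw [Matrix.add_apply, Matrix.one_apply_ne hji.ne', zero_add, vecMulVec_apply]
    rcases le_or_gt j a with h | h
    · rw [hf j h, mul_zero]
    · rw [hz i (h.trans hji), zero_mul]
  have hdiag : ∀ i : Fin n, (1 + vecMulVec z f : M₂) i i = 1 := by
    intro i
    rw [Matrix.add_apply, Matrix.one_apply_eq, vecMulVec_apply]
    rcases le_or_gt i a with h | h
    · rw [hf i h, mul_zero, add_zero]
    · rw [hz i h, zero_mul, add_zero]
  refine ⟨⟨1 + vecMulVec z f, ?_⟩, ⟨htri, hdiag⟩, rfl⟩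
  rw [Matrix.det_of_isUpperTriangular (fun i j h => htri i j h)]
  exact Finset.prod_eq_one fun i _ => hdiag i

/-- Two unitriangular conjugates meeting trivially come from opposite flags. -/
theorem opposite (h : S₂) (hinf : ∀ t ∈ (uni : Subgroup S₂), h⁻¹ * t * h ∈ uni → t = 1) (i : ℕ)
    (z : Fin n → ZMod 2) (hz : ∀ j : Fin n, i ≤ j → z j = 0)
    (hw : ∀ j : Fin n, n - i ≤ j → (((h⁻¹ : S₂) : M₂) *ᵥ z) j = 0) : z = 0 := by
  classical
  by_contra hz0
  set H : M₂ := (h : M₂) with hH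
  set K : M₂ := ((h⁻¹ : S₂) : M₂) with hK
  have hHK : H * K = 1 := congrArg Subtype.val (mul_inv_cancel h)
  have hKH : K * H = 1 := congrArg Subtype.val (inv_mul_cancel h)
  set w := K *ᵥ z with hwdef
  have hw0 : w ≠ 0 := fun h0 => hz0 (by rw [← Matrix.one_mulVec z, ← hHK, ← Matrix.mulVec_mulVec, ← hwdef, h0,
    Matrix.mulVec_zero])
  obtain ⟨a, ha, hamax⟩ : ∃ a, z a ≠ 0 ∧ ∀ j, a < j → z j = 0 := by
    obtain ⟨j₀, hj₀⟩ := Function.ne_iff.1 hz0
    obtain ⟨a, ha, hmax⟩ := (Finset.univ.filter fun j => z j ≠ 0).exists_max_image id ⟨j₀, by simpa using hj₀⟩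
    exact ⟨a, (Finset.mem_filter.1 ha).2, fun j hj => by_contra fun hne =>
      absurd (hmax j (by simpa using hne)) (not_le.2 hj)⟩
  obtain ⟨b, hb, hbmax⟩ : ∃ b, w b ≠ 0 ∧ ∀ j, b < j → w j = 0 := by
    obtain ⟨j₀, hj₀⟩ := Function.ne_iff.1 hw0
    obtain ⟨a, ha, hmax⟩ := (Finset.univ.filter fun j => w j ≠ 0).exists_max_image id ⟨j₀, by simpa using hj₀⟩
    exact ⟨a, (Finset.mem_filter.1 ha).2, fun j hj => by_contra fun hne =>
      absurd (hmax j (by simpa using hne)) (not_le.2 hj)⟩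
  have hai : (a : ℕ) < i := by by_contra hh; exact ha (hz a (by omega))
  have hbi : (b : ℕ) < n - i := by by_contra hh; exact hb (hw b (by omega))
  -- the functional
  obtain ⟨f, hf0, hfa, hfb⟩ : ∃ f : Fin n → ZMod 2, f ≠ 0 ∧ (∀ j, j ≤ a → f j = 0) ∧
      ∀ j, j ≤ b → (f ᵥ* H) j = 0 := by
    let L : (Fin n → ZMod 2) →ₗ[ZMod 2] ({j : Fin n // j ≤ a} ⊕ {j : Fin n // j ≤ b} → ZMod 2) :=
      { toFun := fun f => Sum.elim (fun j => f j.1) (fun j => (f ᵥ* H) j.1)
        map_add' := fun x y => by ext (j | j) <;> simp [Matrix.add_vecMul]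
        map_smul' := fun c x => by ext (j | j) <;> simp [Matrix.smul_vecMul] }
    by_contra hno
    have hinj : Function.Injective L := (injective_iff_map_eq_zero L).2 fun f hf => by
      by_contra hf0
      exact hno ⟨f, hf0, fun j hj => congrFun hf (Sum.inl ⟨j, hj⟩), fun j hj => congrFun hf (Sum.inr ⟨j, hj⟩)⟩
    have hcard : Fintype.card ({j : Fin n // j ≤ a} ⊕ {j : Fin n // j ≤ b}) ≤ n := by
      rw [Fintype.card_sum, Fintype.card_subtype, Fintype.card_subtype,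
        show (Finset.univ.filter fun j : Fin n => j ≤ a) = Finset.Iic a by ext; simp,
        show (Finset.univ.filter fun j : Fin n => j ≤ b) = Finset.Iic b by ext; simp, Fin.card_Iic, Fin.card_Iic]
      omega
    have hsurj : Function.Surjective L := by
      refine (LinearMap.injective_iff_surjective_of_finrank_eq_finrank ?_).1 hinj
      have h1 := LinearMap.finrank_le_finrank_of_injective hinj
      rw [Module.finrank_fintype_fun_eq_card, Module.finrank_fintype_fun_eq_card, Fintype.card_fin] at h1 ⊢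
      omega
    obtain ⟨f, hf⟩ := hsurj (Sum.elim (fun j => if j.1 = a then 1 else 0) 0)
    have hfa : ∀ j, j ≤ a → f j = if j = a then 1 else 0 := fun j hj => congrFun hf (Sum.inl ⟨j, hj⟩)
    have hfb : ∀ j, j ≤ b → (f ᵥ* H) j = 0 := fun j hj => congrFun hf (Sum.inr ⟨j, hj⟩)
    have e1 : f ⬝ᵥ z = z a := by
      rw [dotProduct, Finset.sum_eq_single a (fun j _ hj => ?_) (by simp), hfa a le_rfl, if_pos rfl, one_mul]
      rcases le_or_gt j a with h | h
      · rw [hfa j h, if_neg hj, zero_mul]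
      · rw [hamax j h, mul_zero]
    have e2 : (f ᵥ* H) ⬝ᵥ w = 0 := Finset.sum_eq_zero fun j _ => by
      rcases le_or_gt j b with h | h
      · rw [hfb j h, zero_mul]
      · rw [hbmax j h, mul_zero]
    rw [← Matrix.dotProduct_mulVec, hwdef, Matrix.mulVec_mulVec, hHK, Matrix.one_mulVec, e1] at e2
    exact ha e2
  obtain ⟨t, htu, ht⟩ := exists_uni_transvection hamax hfa
  obtain ⟨t', htu', ht'⟩ := exists_uni_transvection hbmax hfb
  have hconj : h⁻¹ * t * h = t' := by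
    refine Subtype.ext ?_
    show (K * (t : M₂) * H : M₂) = (t' : M₂)
    rw [ht, ht', mul_add, mul_one, add_mul, mul_vecMulVec, vecMulVec_mul, ← hwdef, hKH]
  have hone := hinf t htu (hconj ▸ htu')
  rw [hone] at ht
  change (1 : M₂) = 1 + _ at ht
  rw [left_eq_add] at ht
  obtain ⟨j, hj⟩ := Function.ne_iff.1 hf0
  have := congrFun (congrFun ht a) j
  rw [vecMulVec_apply] at this
  exact mul_ne_zero ha hj this

/-- The antidiagonal element. -/
def antidiag (n : ℕ) : Matrix.SpecialLinearGroup (Fin n) (ZMod 2) :=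
  ⟨(Fin.revPerm : Equiv.Perm (Fin n)).permMatrix (ZMod 2), by
    rw [Matrix.det_permutation]
    rcases Int.units_eq_one_or (Equiv.Perm.sign (Fin.revPerm : Equiv.Perm (Fin n))) with h | h <;> rw [h] <;> decide⟩

/-- Opposite position in the Bruhat decomposition. -/
theorem exists_decomp (h : S₂) (hinf : ∀ t ∈ (uni : Subgroup S₂), h⁻¹ * t * h ∈ uni → t = 1) :
    ∃ u₁ ∈ (uni : Subgroup S₂), ∃ u₂ ∈ (uni : Subgroup S₂), h = u₁ * antidiag n * u₂ := by
  classical
  set K : M₂ := ((h⁻¹ : S₂) : M₂) with hK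
  have hex : ∀ i : Fin n, ∃ x : Fin n → ZMod 2, (∀ j, i < j → x j = 0) ∧
      (∀ j : Fin n, n - i ≤ (j : ℕ) → (K *ᵥ x) j = 0) ∧ x i = 1 := by
    intro i
    let ext : ({j : Fin n // j ≤ i} → ZMod 2) →ₗ[ZMod 2] (Fin n → ZMod 2) :=
      { toFun := fun x j => if hj : j ≤ i then x ⟨j, hj⟩ else 0
        map_add' := fun x y => by ext j; by_cases hj : j ≤ i <;> simp [hj]
        map_smul' := fun c x => by ext j; by_cases hj : j ≤ i <;> simp [hj] }
    let L : ({j : Fin n // j ≤ i} → ZMod 2) →ₗ[ZMod 2] ({j : Fin n // n - i ≤ (j : ℕ)} → ZMod 2) :=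
      (LinearMap.funLeft (ZMod 2) (ZMod 2) Subtype.val).comp ((Matrix.mulVecLin K).comp ext)
    have hL : ¬ Function.Injective L := by
      intro hinj
      have h1 := LinearMap.finrank_le_finrank_of_injective hinj
      rw [Module.finrank_fintype_fun_eq_card, Module.finrank_fintype_fun_eq_card, Fintype.card_subtype,
        Fintype.card_subtype, show (Finset.univ.filter fun j : Fin n => j ≤ i) = Finset.Iic i by ext; simp,
        Fin.card_Iic] at h1
      have h2 : (Finset.univ.filter fun j : Fin n => n - i ≤ (j : ℕ)).card ≤ (Finset.range n \ Finset.range (n - i)).card :=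
        Finset.card_le_card_of_injOn Fin.val (fun j hj => by
          simp only [Finset.coe_filter, Set.mem_setOf_eq] at hj
          simp [hj.2, j.2]) Fin.val_injective.injOn
      rw [Finset.card_sdiff_of_subset (Finset.range_subset_range.2 (Nat.sub_le _ _)), Finset.card_range,
        Finset.card_range] at h2
      have := i.2
      omega
    obtain ⟨y, hy, hy0⟩ : ∃ y, L y = 0 ∧ y ≠ 0 := by
      by_contra hno
      refine hL ((injective_iff_map_eq_zero L).2 fun y hy => ?_)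
      by_contra hy0
      exact hno ⟨y, hy, hy0⟩
    have hsupp : ∀ j, i < j → ext y j = 0 := fun j hj => dif_neg (not_le.2 hj)
    have hk : ∀ j : Fin n, n - i ≤ (j : ℕ) → (K *ᵥ ext y) j = 0 := fun j hj => congrFun hy ⟨j, hj⟩
    refine ⟨ext y, hsupp, hk, eq_one_of_ne_zero fun h0 => hy0 ?_⟩
    have hz := opposite h hinf (i : ℕ) (ext y) (fun j hj => by
      rcases eq_or_lt_of_le (show i ≤ j from hj) with rfl | hlt
      · exact h0
      · exact hsupp j hlt) hk
    ext ⟨j, hj⟩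
    have := congrFun hz j
    simpa [ext, hj] using this
  choose c hc hcK hc1 using hex
  let C : M₂ := Matrix.of fun j i => c i j
  have hCdet : C.det = 1 := by
    rw [Matrix.det_of_isUpperTriangular (M := C) (fun a b hab => hc b a hab)]
    exact Finset.prod_eq_one fun i _ => hc1 i
  let u₁ : S₂ := ⟨C, hCdet⟩
  have hu₁ : u₁ ∈ (uni : Subgroup S₂) := ⟨fun a b hab => hc b a hab, hc1⟩
  set R : S₂ := h⁻¹ * u₁ * antidiag n with hR
  have hRtri : R ∈ (tri : Subgroup S₂) := by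
    intro a b hab
    show (K * C * (Fin.revPerm : Equiv.Perm (Fin n)).permMatrix (ZMod 2) : M₂) a b = 0
    rw [Matrix.mul_apply, Finset.sum_eq_single b.rev (fun j _ hj => ?_) (by simp)]
    · refine mul_eq_zero_of_left ?_ _
      refine hcK b.rev a ?_
      rw [Fin.lt_def] at hab
      rw [Fin.val_rev]
      have := b.2
      omega
    · refine mul_eq_zero_of_right _ ?_
      have : j.rev ≠ b := fun h' => hj (by rw [← h', Fin.rev_rev])
      simp [Equiv.Perm.permMatrix, PEquiv.toMatrix_apply, this]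
  have hinv : antidiag n * antidiag n = 1 := by
    refine Subtype.ext ?_
    show (Fin.revPerm : Equiv.Perm (Fin n)).permMatrix (ZMod 2) * (Fin.revPerm : Equiv.Perm (Fin n)).permMatrix (ZMod 2) = 1
    rw [← Matrix.permMatrix_mul, show (Fin.revPerm : Equiv.Perm (Fin n)) * Fin.revPerm = 1 from
      Equiv.ext fun j => Fin.rev_rev j, Matrix.permMatrix_one]
  refine ⟨u₁, hu₁, R⁻¹, inv_mem (tri_le_uni hRtri), ?_⟩
  rw [hR, _root_.mul_inv_rev, _root_.mul_inv_rev, inv_inv, ← mul_assoc, ← mul_assoc, mul_inv_cancel_right, mul_inv_cancel,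
    one_mul]


/-- Let n ≥ 4 and let G be a finite group with a normal subgroup N of index 2 isomorphic to SL(n,2) and with trivial centralizer in G (so G is the extension of the simple group L_n(2) by its inverse-transpose automorphism, its full automorphism group). Then any two Sylow 2-subgroups of G have a non-trivial intersection: for a Sylow 2-subgroup H and every x ∈ G, H ∩ H^x ≠ 1. -/
theorem result {G : Type*} [Group G] [Finite G] {n : ℕ} (hn : 4 ≤ n) (N : Subgroup G) [N.Normal]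
    (e : N ≃* Matrix.SpecialLinearGroup (Fin n) (ZMod 2)) (hidx : N.index = 2)
    (hC : Subgroup.centralizer (N : Set G) = ⊥)
    (H : Sylow 2 G) (x : G) :
    (H : Subgroup G) ⊓ MulAut.conj x • (H : Subgroup G) ≠ ⊥ := by
  classical
  let φ : Matrix.SpecialLinearGroup (Fin n) (ZMod 2) →* G := N.subtype.comp e.symm.toMonoidHom
  have hφ : Function.Injective φ := Subtype.val_injective.comp e.symm.injective
  have hrange : ∀ g : G, g ∈ N ↔ ∃ h, φ h = g := fun g =>
    ⟨fun hg => ⟨e ⟨g, hg⟩, by simp [φ]⟩, fun ⟨h, hh⟩ => hh ▸ (e.symm h).2⟩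
  set U : Subgroup (Matrix.SpecialLinearGroup (Fin n) (ZMod 2)) := uni with hU
  have : Fact (Nat.Prime 2) := ⟨Nat.prime_two⟩
  have hUp : IsPGroup 2 U := isPGroup_uni 2
  -- the unitriangular group is self-normalising
  have hself : ∀ g, (∀ u ∈ U, g * u * g⁻¹ ∈ U) → g ∈ U := fun g hg => tri_le_uni (mem_tri_of_conj hg)
  -- a Sylow subgroup containing it
  obtain ⟨P, hP⟩ := (hUp.map φ).exists_le_sylow
  have hPN : ∀ h, φ h ∈ (P : Subgroup G) ↔ h ∈ U := by
    intro h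
    refine ⟨fun hh => ?_, fun hh => hP (Subgroup.mem_map_of_mem φ hh)⟩
    set K : Subgroup (Matrix.SpecialLinearGroup (Fin n) (ZMod 2)) := (P : Subgroup G).comap φ with hKdef
    have hKp : IsPGroup 2 K := P.isPGroup'.comap_of_injective φ hφ
    have hUK : U ≤ K := fun u hu => hP (Subgroup.mem_map_of_mem φ hu)
    by_contra hne
    have hlt : U.subgroupOf K ≠ ⊤ := fun htop => by
      rw [Subgroup.subgroupOf_eq_top] at htop
      exact hne (htop hh)
    have hn' := PGroup.lt_normalizer hKp hlt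
    obtain ⟨g, hg, hgU⟩ := SetLike.exists_of_lt hn'
    refine hgU (hself g.1 fun u hu => ?_)
    exact (Subgroup.mem_normalizer_iff.1 hg ⟨u, hUK hu⟩).1 hu
  obtain ⟨τ, hτP, hτN⟩ : ∃ τ ∈ (P : Subgroup G), τ ∉ N := by
    by_contra hno
    push Not at hno
    have h2 : 2 ∣ (P : Subgroup G).index := by
      have := Subgroup.index_dvd_of_le (H := (P : Subgroup G)) (K := N) (fun g hg => hno g hg)
      rwa [hidx] at this
    exact P.not_dvd_index h2
  -- every element is in `N * P`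
  have hsplit : ∀ g : G, ∃ h, ∃ p ∈ (P : Subgroup G), g = φ h * p := by
    intro g
    by_cases hg : g ∈ N
    · obtain ⟨h, hh⟩ := (hrange g).1 hg
      exact ⟨h, 1, one_mem _, by rw [mul_one, hh]⟩
    · have hmem : g * τ⁻¹ ∈ N := by
        rw [Subgroup.mul_mem_iff_of_index_two hidx]
        exact iff_of_false hg fun h' => hτN (inv_mem_iff.1 h')
      obtain ⟨h, hh⟩ := (hrange _).1 hmem
      exact ⟨h, τ, hτP, by rw [hh, inv_mul_cancel_right]⟩
  have hPnorm : ∀ p ∈ (P : Subgroup G), ∀ u ∈ U, ∃ u' ∈ U, p * φ u * p⁻¹ = φ u' := by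
    intro p hp u hu
    obtain ⟨u', hu'⟩ := (hrange _).1 (Subgroup.Normal.conj_mem ‹N.Normal› _ ((hrange (φ u)).2 ⟨u, rfl⟩) p)
    exact ⟨u', (hPN u').1 (hu' ▸ mul_mem (mul_mem hp ((hPN u).2 hu)) (inv_mem hp)), hu'.symm⟩
  -- the normaliser of `φ U` is `P`
  have hnorm : ∀ y : G, (∀ u ∈ U, ∃ u' ∈ U, y * φ u * y⁻¹ = φ u') → y ∈ (P : Subgroup G) := by
    intro y hy
    obtain ⟨h, p, hp, rfl⟩ := hsplit y
    refine mul_mem ((hPN h).2 (hself h fun u hu => ?_)) hp
    obtain ⟨v, hv, hpv⟩ := hPnorm _ (inv_mem hp) u hu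
    rw [inv_inv] at hpv
    obtain ⟨u', hu', he⟩ := hy v hv
    rw [← hpv, show φ h * p * (p⁻¹ * φ u * p) * (φ h * p)⁻¹ = φ h * φ u * (φ h)⁻¹ by group, ← map_inv, ← map_mul,
      ← map_mul] at he
    have := hφ he
    rw [this]; exact hu'
  set w := antidiag n with hw
  -- the opposite pair
  have hopp : ∃ σ : G, σ ≠ 1 ∧ σ ∈ (P : Subgroup G) ∧ (φ w)⁻¹ * σ * φ w ∈ (P : Subgroup G) := by
    by_cases hmeet : ∃ u ∈ U, u ≠ 1 ∧ w⁻¹ * u * w ∈ U
    · obtain ⟨u, hu, hu1, hwu⟩ := hmeet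
      refine ⟨φ u, fun h1 => hu1 (hφ (h1.trans (map_one φ).symm)), (hPN u).2 hu, ?_⟩
      rw [← map_inv, ← map_mul, ← map_mul]
      exact (hPN _).2 hwu
    push Not at hmeet
    obtain ⟨k, hk⟩ := (hrange _).1 (Subgroup.Normal.conj_mem ‹N.Normal› _ ((hrange (φ w)).2 ⟨w, rfl⟩) τ)
    obtain ⟨u₁, hu₁, u₂, hu₂, hkd⟩ := exists_decomp k (fun t ht htk => by
      obtain ⟨t', ht', hte⟩ := hPnorm _ (inv_mem hτP) t ht
      rw [inv_inv] at hte
      obtain ⟨s', hs', hse⟩ := hPnorm _ (inv_mem hτP) _ htk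
      rw [inv_inv, map_mul, map_mul, map_inv, hk] at hse
      have hws : φ (w⁻¹ * t' * w) = φ s' := by
        rw [map_mul, map_mul, map_inv, ← hte, ← hse]
        group
      by_contra ht1
      refine hmeet t' ht' (fun h1 => ht1 (hφ ?_)) (hφ hws ▸ hs')
      rw [h1, map_one] at hte
      rw [map_one, show φ t = τ * (τ⁻¹ * φ t * τ) * τ⁻¹ by group, hte]
      group)
    refine ⟨(φ u₁)⁻¹ * τ, fun h1 => hτN ?_, mul_mem (inv_mem ((hPN u₁).2 hu₁)) hτP, ?_⟩
    · rw [inv_mul_eq_one] at h1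
      exact (hrange τ).2 ⟨u₁, h1⟩
    · refine hnorm _ fun u hu => ?_
      obtain ⟨v, hv, hτv⟩ := hPnorm τ hτP u hu
      refine ⟨u₂ * v * u₂⁻¹, mul_mem (mul_mem hu₂ hv) (inv_mem hu₂), ?_⟩
      have e1 : φ k = φ u₁ * φ w * φ u₂ := by rw [hkd, map_mul, map_mul]
      rw [hk] at e1
      calc (φ w)⁻¹ * ((φ u₁)⁻¹ * τ) * φ w * φ u * ((φ w)⁻¹ * ((φ u₁)⁻¹ * τ) * φ w)⁻¹
          = (φ w)⁻¹ * (φ u₁)⁻¹ * (τ * φ w * τ⁻¹) * (τ * φ u * τ⁻¹) * (τ * φ w * τ⁻¹)⁻¹ * φ u₁ * φ w := by group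
        _ = (φ w)⁻¹ * (φ u₁)⁻¹ * (φ u₁ * φ w * φ u₂) * φ v * (φ u₁ * φ w * φ u₂)⁻¹ * φ u₁ * φ w := by
            rw [e1, hτv]
        _ = φ (u₂ * v * u₂⁻¹) := by simp only [map_mul, map_inv]; group
  -- move `H` to `P`
  obtain ⟨a, rfl⟩ := MulAction.exists_smul_eq G P H
  intro hbot
  obtain ⟨h, p, hp, hc⟩ := hsplit (a⁻¹ * x * a)
  suffices hcom : ∃ y : G, y ≠ 1 ∧ y ∈ (P : Subgroup G) ∧ (φ h)⁻¹ * y * φ h ∈ (P : Subgroup G) by
    obtain ⟨y, hy1, hyP, hyh⟩ := hcom
    refine hy1 ?_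
    have hmem : a * y * a⁻¹ ∈ ((a • P : Sylow 2 G) : Subgroup G) ⊓ MulAut.conj x • ((a • P : Sylow 2 G) : Subgroup G) := by
      have hmemP : ∀ g : G, g ∈ ((a • P : Sylow 2 G) : Subgroup G) ↔ a⁻¹ * g * a ∈ (P : Subgroup G) := fun g => by
        rw [Sylow.coe_subgroup_smul, Subgroup.mem_pointwise_smul_iff_inv_smul_mem, ← map_inv, MulAut.smul_def,
          MulAut.conj_apply, inv_inv]
      refine ⟨(hmemP _).2 (by simpa [mul_assoc] using hyP), Subgroup.mem_pointwise_smul_iff_inv_smul_mem.2 ?_⟩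
      rw [← map_inv, MulAut.smul_def, MulAut.conj_apply, inv_inv,
        hmemP, show a⁻¹ * (x⁻¹ * (a * y * a⁻¹) * x) * a = (a⁻¹ * x * a)⁻¹ * y * (a⁻¹ * x * a) by group, hc,
        show (φ h * p)⁻¹ * y * (φ h * p) = p⁻¹ * ((φ h)⁻¹ * y * φ h) * p by group]
      exact mul_mem (mul_mem (inv_mem hp) hyh) hp
    rw [hbot, Subgroup.mem_bot, conj_eq_one_iff] at hmem
    exact hmem
  by_cases hmeet : ∃ u ∈ U, u ≠ 1 ∧ h⁻¹ * u * h ∈ U
  · obtain ⟨u, hu, hu1, hhu⟩ := hmeet
    refine ⟨φ u, fun h1 => hu1 (hφ (h1.trans (map_one φ).symm)), (hPN u).2 hu, ?_⟩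
    rw [← map_inv, ← map_mul, ← map_mul]
    exact (hPN _).2 hhu
  push Not at hmeet
  obtain ⟨u₁, hu₁, u₂, hu₂, rfl⟩ := exists_decomp h (fun t ht hth => by
    by_contra ht1
    exact hmeet t ht ht1 hth)
  obtain ⟨σ, hσ1, hσP, hσw⟩ := hopp
  refine ⟨φ u₁ * σ * (φ u₁)⁻¹, by rwa [Ne, conj_eq_one_iff],
    mul_mem (mul_mem ((hPN u₁).2 hu₁) hσP) (inv_mem ((hPN u₁).2 hu₁)), ?_⟩
  rw [show (φ (u₁ * w * u₂))⁻¹ * (φ u₁ * σ * (φ u₁)⁻¹) * φ (u₁ * w * u₂) =
    (φ u₂)⁻¹ * ((φ w)⁻¹ * σ * φ w) * φ u₂ by simp only [map_mul]; group]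
  exact mul_mem (mul_mem (inv_mem ((hPN u₂).2 hu₂)) hσw) ((hPN u₂).2 hu₂)

end Cfsg.Agent.S2486
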