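import Cfsg.Statements.S2487
-- import your own Cfsg.Agent.* helpers here

set_option autoImplicit false
open scoped Pointwise
open Cfsg

namespace Cfsg.Agent.S2487

open Matrix

variable {F : Type*} [Field F] {m : ℕ}

local notation "V" => (Fin m ⊕ Fin m → F)

local notation "OO" => Cfsg.isometryGroup F (Cfsg.quadFormPlus m F)

/-- The polar form of the hyperbolic form. -/
def bil (x y : V) : F := ∑ i : Fin m, (x (.inl i) * y (.inr i) + x (.inr i) * y (.inl i))

theorem quad_add (x y : V) :
    quadFormPlus m F (x + y) = quadFormPlus m F x + quadFormPlus m F y + bil x y := by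
  simp only [quadFormPlus, bil, Pi.add_apply, ← Finset.sum_add_distrib]
  exact Finset.sum_congr rfl fun i _ => by ring

theorem quad_smul (c : F) (x : V) : quadFormPlus m F (c • x) = c ^ 2 * quadFormPlus m F x := by
  simp only [quadFormPlus, Pi.smul_apply, smul_eq_mul, Finset.mul_sum]
  exact Finset.sum_congr rfl fun i _ => by ring

theorem bil_comm (x y : V) : bil x y = bil y x := Finset.sum_congr rfl fun i _ => by ring

theorem bil_add_left (x y z : V) : bil (x + y) z = bil x z + bil y z := by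
  simp only [bil, Pi.add_apply, ← Finset.sum_add_distrib]
  exact Finset.sum_congr rfl fun i _ => by ring

theorem bil_smul_left (c : F) (x z : V) : bil (c • x) z = c * bil x z := by
  simp only [bil, Pi.smul_apply, smul_eq_mul, Finset.mul_sum]
  exact Finset.sum_congr rfl fun i _ => by ring

theorem bil_inl (x : V) (i : Fin m) : bil x (Pi.single (.inl i) 1) = x (.inr i) := by
  simp [bil, Pi.single_apply]

theorem bil_inr (x : V) (i : Fin m) : bil x (Pi.single (.inr i) 1) = x (.inl i) := by
  simp [bil, Pi.single_apply]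

theorem eq_zero_of_bil (v : V) (h : ∀ x, bil x v = 0) : v = 0 := by
  funext j
  rcases j with i | i
  · rw [← bil_inr v i, bil_comm]; exact h _
  · rw [← bil_inl v i, bil_comm]; exact h _

theorem quad_iso (g : OO) (x : V) :
    quadFormPlus m F (((g : GL (Fin m ⊕ Fin m) F) : Matrix (Fin m ⊕ Fin m) (Fin m ⊕ Fin m) F) *ᵥ x) =
      quadFormPlus m F x := g.2 x x

theorem bil_iso (g : OO) (x y : V) :
    bil (((g : GL (Fin m ⊕ Fin m) F) : Matrix (Fin m ⊕ Fin m) (Fin m ⊕ Fin m) F) *ᵥ x)
      (((g : GL (Fin m ⊕ Fin m) F) : Matrix (Fin m ⊕ Fin m) (Fin m ⊕ Fin m) F) *ᵥ y) = bil x y := by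
  have h := quad_iso g (x + y)
  rw [mulVec_add, quad_add, quad_add, quad_iso, quad_iso] at h
  exact add_left_cancel h

/-- The isometries fixing `e i` for `i ≠ l`. -/
def fixer (l : Fin m) : Subgroup OO where
  carrier := {g | ∀ i, i ≠ l →
    ((g : GL (Fin m ⊕ Fin m) F) : Matrix (Fin m ⊕ Fin m) (Fin m ⊕ Fin m) F) *ᵥ Pi.single (.inl i) 1 = Pi.single (.inl i) 1}
  one_mem' := fun i _ => one_mulVec _
  mul_mem' := fun {a b} ha hb i hi => by
    rw [Subgroup.coe_mul, Units.val_mul, ← mulVec_mulVec, hb i hi, ha i hi]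
  inv_mem' := fun {a} ha i hi => by
    conv_lhs => rw [← ha i hi, mulVec_mulVec, ← Units.val_mul, ← Subgroup.coe_mul, inv_mul_cancel,
      Subgroup.coe_one, Units.val_one, one_mulVec]

theorem two_cases {a b c d : ZMod 2} (h1 : a * b = 0) (h2 : c * d = 0) (h3 : a * d + b * c = 1) (α β : ZMod 2) :
    (α * a + β * c) * a + (α * b + β * d) * c = α ∧ (α * a + β * c) * b + (α * b + β * d) * d = β := by
  revert h1 h2 h3; revert a b c d α β; decide

variable [Fintype F]

theorem charTwo (hF : Fintype.card F = 2) : CharP F 2 :=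
  (CharP.charP_iff_prime_eq_zero Nat.prime_two).2 (hF ▸ FiniteField.cast_card_eq_zero F)

theorem pair_sq (hF : Fintype.card F = 2) {a b c d : F} (h1 : a * b = 0) (h2 : c * d = 0) (h3 : a * d + b * c = 1)
    (α β : F) : (α * a + β * c) * a + (α * b + β * d) * c = α ∧ (α * a + β * c) * b + (α * b + β * d) * d = β := by
  let e : ZMod 2 ≃+* F := ZMod.ringEquivOfPrime F Nat.prime_two hF
  obtain ⟨a, rfl⟩ := e.surjective a; obtain ⟨b, rfl⟩ := e.surjective b
  obtain ⟨c, rfl⟩ := e.surjective c; obtain ⟨d, rfl⟩ := e.surjective d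
  obtain ⟨α, rfl⟩ := e.surjective α; obtain ⟨β, rfl⟩ := e.surjective β
  simp only [← map_mul, ← map_add, map_eq_zero_iff e e.injective, map_eq_one_iff e e.injective] at h1 h2 h3
  simp only [← map_mul, ← map_add, EmbeddingLike.apply_eq_iff_eq]
  exact two_cases h1 h2 h3 α β

theorem isPGroup_fixer (hF : Fintype.card F = 2) (l : Fin m) : IsPGroup 2 (fixer (F := F) l) := by
  have : CharP F 2 := charTwo hF
  have : Fact (Nat.Prime 2) := ⟨Nat.prime_two⟩
  have : Nonempty (Fin m) := ⟨l⟩
  rintro ⟨g, hg⟩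
  refine ⟨3, ?_⟩
  set M : Matrix (Fin m ⊕ Fin m) (Fin m ⊕ Fin m) F := ((g : GL (Fin m ⊕ Fin m) F) : Matrix (Fin m ⊕ Fin m) (Fin m ⊕ Fin m) F) with hM
  have hr : ∀ x i, i ≠ l → (M *ᵥ x) (.inr i) = x (.inr i) := fun x i hi => by
    rw [← bil_inl (M *ᵥ x) i, ← hg i hi, ← hM, hM, bil_iso, bil_inl]
  set el : V := Pi.single (.inl l) 1 with hel
  set fl : V := Pi.single (.inr l) 1 with hfl
  have hQ : ∀ y : V, (∀ i, i ≠ l → y (.inr i) = 0) → quadFormPlus m F y = y (.inl l) * y (.inr l) := fun y hy =>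
    Finset.sum_eq_single l (fun i _ hi => by rw [hy i hi, mul_zero]) (by simp)
  have hBl : ∀ y z : V, (∀ i, i ≠ l → y (.inr i) = 0) → (∀ i, i ≠ l → z (.inr i) = 0) →
      bil y z = y (.inl l) * z (.inr l) + y (.inr l) * z (.inl l) := fun y z hy hz =>
    Finset.sum_eq_single l (fun i _ hi => by rw [hy i hi, hz i hi, mul_zero, zero_mul, add_zero]) (by simp)
  have hel' : ∀ i, i ≠ l → (M *ᵥ el) (.inr i) = 0 := fun i hi => by rw [hr _ i hi, hel]; simp
  have hfl' : ∀ i, i ≠ l → (M *ᵥ fl) (.inr i) = 0 := fun i hi => by rw [hr _ i hi, hfl]; simp [Pi.single_apply, hi]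
  -- the induced map on the middle plane
  have hlin : ∀ y : V, (∀ i, i ≠ l → y (.inr i) = 0) → ∀ j : Fin m ⊕ Fin m, (j = .inl l ∨ j = .inr l) →
      (M *ᵥ y) j = y (.inl l) * (M *ᵥ el) j + y (.inr l) * (M *ᵥ fl) j := by
    intro y hy j hj
    have hy' : y = (∑ i ∈ Finset.univ.erase l, y (.inl i) • (Pi.single (.inl i) 1 : V)) + y (.inl l) • el + y (.inr l) • fl := by
      funext k
      rcases k with i | i
      · by_cases hi : i = l <;> simp [hel, hfl, Finset.sum_apply, Pi.single_apply, hi]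
      · by_cases hi : i = l <;> simp [hel, hfl, Finset.sum_apply, Pi.single_apply, hi, hy]
    conv_lhs => rw [hy', mulVec_add, mulVec_add, mulVec_sum, mulVec_smul, mulVec_smul]
    rw [Finset.sum_congr rfl fun i hi => by rw [mulVec_smul, hM, hg i (Finset.ne_of_mem_erase hi)]]
    rcases hj with rfl | rfl <;> simp [Finset.sum_apply, Pi.single_apply]
  have hpair : ∀ y : V, (∀ i, i ≠ l → y (.inr i) = 0) →
      (M *ᵥ (M *ᵥ y)) (.inl l) = y (.inl l) ∧ (M *ᵥ (M *ᵥ y)) (.inr l) = y (.inr l) := by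
    intro y hy
    have hy1 : ∀ i, i ≠ l → (M *ᵥ y) (.inr i) = 0 := fun i hi => (hr y i hi).trans (hy i hi)
    rw [hlin _ hy1 _ (Or.inl rfl), hlin _ hy1 _ (Or.inr rfl), hlin y hy _ (Or.inl rfl), hlin y hy _ (Or.inr rfl)]
    refine pair_sq hF ?_ ?_ ?_ _ _
    · rw [← hQ _ hel', hM, quad_iso, hQ el fun i _ => by simp [hel]]; simp [hel]
    · rw [← hQ _ hfl', hM, quad_iso, hQ fl fun i hi => by simp [hfl, Pi.single_apply, hi]]; simp [hfl]
    · rw [← hBl _ _ hel' hfl', hM, bil_iso, hfl, bil_inr, hel]; simp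
  set D : Matrix (Fin m ⊕ Fin m) (Fin m ⊕ Fin m) F := M * M - 1 with hD
  have hDx : ∀ x, D *ᵥ x = M *ᵥ (M *ᵥ x) - x := fun x => by rw [hD, sub_mulVec, one_mulVec, mulVec_mulVec]
  have h3 : ∀ x, D *ᵥ (D *ᵥ (D *ᵥ x)) = 0 := by
    intro x
    have d1 : ∀ i, i ≠ l → (D *ᵥ x) (.inr i) = 0 := fun i hi => by
      rw [hDx, Pi.sub_apply, hr _ i hi, hr _ i hi, sub_self]
    set y := D *ᵥ x with hy
    set z := D *ᵥ y with hz
    have d2 : ∀ i, z (.inr i) = 0 := fun i => by
      rcases eq_or_ne i l with rfl | hi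
      · rw [hz, hDx, Pi.sub_apply, (hpair y d1).2, sub_self]
      · rw [hz, hDx, Pi.sub_apply, hr _ i hi, hr _ i hi, sub_self]
    have d3 : z (.inl l) = 0 := by rw [hz, hDx, Pi.sub_apply, (hpair y d1).1, sub_self]
    have hz' : z = ∑ i ∈ Finset.univ.erase l, z (.inl i) • (Pi.single (.inl i) 1 : V) := by
      funext k
      rcases k with i | i
      · by_cases hi : i = l <;> simp [Finset.sum_apply, Pi.single_apply, hi, d3]
      · simp [Finset.sum_apply, d2]
    have hMz : M *ᵥ z = z := by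
      conv_lhs => rw [hz', mulVec_sum]
      conv_rhs => rw [hz']
      exact Finset.sum_congr rfl fun i hi => by rw [mulVec_smul, hM, hg i (Finset.ne_of_mem_erase hi)]
    rw [hDx, hMz, hMz, sub_self]
  have h4 : (M * M) ^ 4 = 1 := by
    have hD4 : D ^ 4 = 0 := Matrix.ext_of_mulVec_single fun j => by
      rw [show D ^ 4 = D * (D * (D * D)) by noncomm_ring, ← mulVec_mulVec, ← mulVec_mulVec, ← mulVec_mulVec, h3,
        zero_mulVec]
    have := sub_pow_char_pow_of_commute (p := 2) (n := 2) (Commute.one_right (M * M))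
    rw [← hD, show (2 : ℕ) ^ 2 = 4 from rfl, hD4, one_pow] at this
    exact sub_eq_zero.1 this.symm
  refine Subtype.ext (Subtype.ext (Units.ext ?_))
  show M ^ (2 ^ 3) = 1
  rw [show (2 : ℕ) ^ 3 = 2 * 4 from rfl, pow_mul, sq, h4]

/-- An involutive linear isometry as a group element. -/
theorem exists_iso (f : V →ₗ[F] V) (hf : ∀ x, f (f x) = x) (hq : ∀ x, quadFormPlus m F (f x) = quadFormPlus m F x) :
    ∃ t : OO, ∀ x, ((t : GL (Fin m ⊕ Fin m) F) : Matrix (Fin m ⊕ Fin m) (Fin m ⊕ Fin m) F) *ᵥ x = f x := by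
  have h1 : LinearMap.toMatrix' f * LinearMap.toMatrix' f = 1 := by
    rw [← LinearMap.toMatrix'_comp, show f ∘ₗ f = LinearMap.id from LinearMap.ext hf, LinearMap.toMatrix'_id]
  refine ⟨⟨⟨_, _, h1, h1⟩, fun u v => ?_⟩, fun x => LinearMap.toMatrix'_mulVec f x⟩
  show quadFormPlus m F (LinearMap.toMatrix' f *ᵥ u) = _
  rw [LinearMap.toMatrix'_mulVec, hq]

/-- A non-trivial isometry fixing everything orthogonal to two given vectors in the span. -/
theorem exists_fixing (hF : Fintype.card F = 2) (K : Submodule F V) (hK : 2 ≤ Module.finrank F K) :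
    ∃ t : OO, t ≠ 1 ∧ ∀ x : V, (∀ k ∈ K, bil x k = 0) →
      ((t : GL (Fin m ⊕ Fin m) F) : Matrix (Fin m ⊕ Fin m) (Fin m ⊕ Fin m) F) *ᵥ x = x := by
  have : CharP F 2 := charTwo hF
  by_cases hns : ∃ v ∈ K, quadFormPlus m F v ≠ 0
  · obtain ⟨v, hvK, hv⟩ := hns
    have hv1 : quadFormPlus m F v = 1 := by
      have h := FiniteField.pow_card_sub_one_eq_one _ hv
      rwa [hF, pow_one] at h
    have hvv : bil v v = 0 := by
      have h := quad_add v v
      rw [show v + v = 0 from funext fun j => CharTwo.add_self_eq_zero (v j), CharTwo.add_self_eq_zero, zero_add] at h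
      rw [← h]; simp [quadFormPlus]
    let f : V →ₗ[F] V :=
      { toFun := fun x => x + bil x v • v
        map_add' := fun x y => by rw [bil_add_left, add_smul]; abel
        map_smul' := fun c x => by simp [bil_smul_left, smul_add, smul_smul] }
    obtain ⟨t, ht⟩ := exists_iso f (fun x => by
        show x + bil x v • v + bil (x + bil x v • v) v • v = x
        rw [bil_add_left, bil_smul_left, hvv, mul_zero, add_zero, add_assoc, ← add_smul,
          CharTwo.add_self_eq_zero, zero_smul, add_zero])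
      (fun x => by
        show quadFormPlus m F (x + bil x v • v) = _
        rw [quad_add, quad_smul, hv1, bil_comm x (bil x v • v), bil_smul_left, bil_comm v x, mul_one, ← sq,
          add_assoc, CharTwo.add_self_eq_zero, add_zero])
    refine ⟨t, fun h1 => hv ?_, fun x hx => by rw [ht]; show x + _ = x; rw [hx v hvK, zero_smul, add_zero]⟩
    have h0 : ∀ x, bil x v = 0 := fun x => by
      by_contra hne
      have := ht x
      rw [h1] at this
      simp only [Subgroup.coe_one, Units.val_one, one_mulVec] at this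
      have h2 : bil x v • v = 0 := left_eq_add.1 (this : x = x + bil x v • v)
      exact hv (by rw [(smul_eq_zero.1 h2).resolve_left hne]; simp [quadFormPlus])
    rw [eq_zero_of_bil v h0]; simp [quadFormPlus]
  push Not at hns
  obtain ⟨b, hb⟩ := exists_linearIndependent_of_le_finrank hK
  set u : V := (b 0 : V) with hu
  set w : V := (b 1 : V) with hw
  have hbz : ∀ y ∈ K, ∀ z ∈ K, bil y z = 0 := fun y hy z hz => by
    have := quad_add y z
    rw [hns _ (add_mem hy hz), hns _ hy, hns _ hz, zero_add, zero_add] at this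
    exact this.symm
  have huu : bil u u = 0 := hbz _ (b 0).2 _ (b 0).2
  have hww : bil w w = 0 := hbz _ (b 1).2 _ (b 1).2
  have huw : bil u w = 0 := hbz _ (b 0).2 _ (b 1).2
  have hwu : bil w u = 0 := hbz _ (b 1).2 _ (b 0).2
  let f : V →ₗ[F] V :=
    { toFun := fun x => x + bil x u • w + bil x w • u
      map_add' := fun x y => by rw [bil_add_left, bil_add_left, add_smul, add_smul]; abel
      map_smul' := fun c x => by simp [bil_smul_left, smul_add, smul_smul] }
  obtain ⟨t, ht⟩ := exists_iso f (fun x => by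
      show x + bil x u • w + bil x w • u + bil (x + bil x u • w + bil x w • u) u • w +
        bil (x + bil x u • w + bil x w • u) w • u = x
      simp only [bil_add_left, bil_smul_left, huu, hww, huw, hwu, mul_zero, add_zero]
      rw [show x + bil x u • w + bil x w • u + bil x u • w + bil x w • u =
        x + (bil x u + bil x u) • w + (bil x w + bil x w) • u by rw [add_smul, add_smul]; abel,
        CharTwo.add_self_eq_zero, CharTwo.add_self_eq_zero, zero_smul, zero_smul, add_zero, add_zero])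
    (fun x => by
      show quadFormPlus m F (x + bil x u • w + bil x w • u) = _
      rw [quad_add, quad_add, quad_smul, quad_smul, bil_add_left, bil_comm x (_ • w), bil_comm x (_ • u),
        bil_comm (_ • w) (_ • u)]
      simp only [bil_smul_left]
      rw [hns u (b 0).2, hns w (b 1).2, bil_comm u (_ • w), bil_smul_left, hwu, bil_comm w x, bil_comm u x]
      rw [mul_zero, mul_zero, mul_zero, mul_zero, add_zero, add_zero, add_zero, mul_comm (bil x w), add_assoc,
        CharTwo.add_self_eq_zero, add_zero])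
  refine ⟨t, fun h1 => ?_, fun x hx => by
    rw [ht]; show x + _ + _ = x; rw [hx u (b 0).2, hx w (b 1).2, zero_smul, zero_smul, add_zero, add_zero]⟩
  have h0 : ∀ x, bil x u = 0 := fun x => by
    have := ht x
    rw [h1] at this
    simp only [Subgroup.coe_one, Units.val_one, one_mulVec] at this
    have h2 : bil x u • w + bil x w • u = 0 := left_eq_add.1 ((this : x = x + bil x u • w + bil x w • u).trans (add_assoc _ _ _))
    have hli := Fintype.linearIndependent_iff.1 hb ![bil x w, bil x u] (by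
      refine Subtype.ext ?_
      rw [Fin.sum_univ_two]
      show bil x w • u + bil x u • w = 0
      rw [add_comm, h2])
    exact hli 1
  exact hb.ne_zero 0 (Subtype.ext (eq_zero_of_bil u h0))

end Cfsg.Agent.S2487

namespace Cfsg.Agent.S2487

open Matrix

/-- Let m ≥ 4 and let G be the full isometry group of the hyperbolic quadratic form x₁y₁ + ⋯ + x_m y_m on the 2m-dimensional space over the field with 2 elements (the orthogonal group O⁺(2m,2), which contains Ω⁺(2m,2) with index 2). Then any two Sylow 2-subgroups of G have a non-trivial intersection: for a Sylow 2-subgroup H and every x ∈ G, H ∩ H^x ≠ 1. -/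
theorem result {F : Type*} [Field F] [Fintype F] (hF : Fintype.card F = 2) {m : ℕ} (hm : 4 ≤ m)
    (H : Sylow 2 (Cfsg.isometryGroup F (Cfsg.quadFormPlus m F)))
    (x : Cfsg.isometryGroup F (Cfsg.quadFormPlus m F)) :
    (H : Subgroup (Cfsg.isometryGroup F (Cfsg.quadFormPlus m F))) ⊓ MulAut.conj x • (H : Subgroup _) ≠ ⊥ := by
  classical
  have : Fact (Nat.Prime 2) := ⟨Nat.prime_two⟩
  have l : Fin m := ⟨0, by omega⟩
  obtain ⟨P, hP⟩ := (isPGroup_fixer (F := F) hF l).exists_le_sylow
  obtain ⟨a, rfl⟩ := MulAction.exists_smul_eq (Cfsg.isometryGroup F (Cfsg.quadFormPlus m F)) P H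
  let A : (Cfsg.isometryGroup F (Cfsg.quadFormPlus m F)) → Fin m → (Fin m ⊕ Fin m → F) := fun g i =>
    ((g : GL (Fin m ⊕ Fin m) F) : Matrix (Fin m ⊕ Fin m) (Fin m ⊕ Fin m) F) *ᵥ Pi.single (.inl i) 1
  let L : (Fin m ⊕ Fin m → F) →ₗ[F] ({i : Fin m // i ≠ l} ⊕ {i : Fin m // i ≠ l} → F) :=
    { toFun := fun v => Sum.elim (fun i => bil v (A a i.1)) (fun i => bil v (A (x * a) i.1))
      map_add' := fun v w => by ext (i | i) <;> simp [bil_add_left]
      map_smul' := fun c v => by ext (i | i) <;> simp [bil_smul_left] }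
  have hK : 2 ≤ Module.finrank F (LinearMap.ker L) := by
    have h1 := LinearMap.finrank_range_add_finrank_ker L
    have h2 := Submodule.finrank_le (LinearMap.range L)
    rw [Module.finrank_fintype_fun_eq_card, Fintype.card_sum, Fintype.card_fin] at h1
    rw [Module.finrank_fintype_fun_eq_card, Fintype.card_sum, Fintype.card_subtype_compl,
      Fintype.card_subtype_eq, Fintype.card_fin] at h2
    omega
  obtain ⟨t, ht1, ht⟩ := exists_fixing hF (LinearMap.ker L) hK
  have hfix : ∀ g, (∀ i, i ≠ l →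
      ((t : GL (Fin m ⊕ Fin m) F) : Matrix (Fin m ⊕ Fin m) (Fin m ⊕ Fin m) F) *ᵥ A g i = A g i) →
      t ∈ MulAut.conj g • (P : Subgroup _) := by
    intro g hg
    refine Subgroup.mem_pointwise_smul_iff_inv_smul_mem.2 (hP fun i hi => ?_)
    rw [← map_inv, MulAut.smul_def, MulAut.conj_apply, inv_inv, Subgroup.coe_mul, Subgroup.coe_mul, Units.val_mul,
      Units.val_mul, ← mulVec_mulVec, ← mulVec_mulVec]
    show _ *ᵥ (_ *ᵥ A g i) = _
    rw [hg i hi]
    show _ *ᵥ (_ *ᵥ (Pi.single (Sum.inl i) 1 : Fin m ⊕ Fin m → F)) = _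
    rw [mulVec_mulVec, ← Units.val_mul, ← Subgroup.coe_mul, inv_mul_cancel, Subgroup.coe_one, Units.val_one,
      one_mulVec]
  intro hbot
  refine ht1 (Subgroup.mem_bot.1 (hbot ▸ Subgroup.mem_inf.2 ⟨?_, ?_⟩))
  · rw [Sylow.coe_subgroup_smul]
    exact hfix a fun i hi => ht _ fun k hk => by
      have := congrFun (LinearMap.mem_ker.1 hk) (Sum.inl ⟨i, hi⟩)
      rw [bil_comm]; exact this
  · rw [Sylow.coe_subgroup_smul, smul_smul, ← map_mul]
    exact hfix (x * a) fun i hi => ht _ fun k hk => by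
      have := congrFun (LinearMap.mem_ker.1 hk) (Sum.inr ⟨i, hi⟩)
      rw [bil_comm]; exact this

end Cfsg.Agent.S2487
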