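import Cfsg.Statements.S2488

set_option autoImplicit false
open scoped Pointwise
open Cfsg

namespace Cfsg.Agent.S2488

open Equiv

/-- A double transposition. -/
def z0 : Perm (Fin 6) := swap 0 1 * swap 2 3

/-- The involutions of the alternating group of degree six. -/
def invs : Finset (Perm (Fin 6)) := Finset.univ.filter fun t => t * t = 1 ∧ t ≠ 1 ∧ Perm.sign t = 1

theorem invs_card : invs.card = 45 := by decide +kernel

theorem z0_mem : z0 ∈ invs := by decide +kernel

theorem invs_conj : (Finset.univ.filter fun g : Perm (Fin 6) => Perm.sign g = 1).image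
    (fun g => g * z0 * g⁻¹) = invs := by decide +kernel

theorem invs_products : (invs.filter fun t => (z0 * t) ^ 3 = 1).card < 32 ∧
    (invs.filter fun t => (z0 * t) ^ 5 = 1).card < 32 ∧ (invs.filter fun t => (z0 * t) ^ 4 = 1).card < 32 ∧
    ∀ t ∈ invs, (z0 * t) ^ 3 = 1 ∨ (z0 * t) ^ 4 = 1 ∨ (z0 * t) ^ 5 = 1 := by decide +kernel

/-- Let G be a finite group with a normal subgroup N of index 4 isomorphic to the alternating group of degree 6 and with trivial centralizer in G (so G is the full automorphism group of A₆). Then any two Sylow 2-subgroups of G have a non-trivial intersection: for a Sylow 2-subgroup H and every x ∈ G, H ∩ H^x ≠ 1. -/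
theorem result {G : Type*} [Group G] [Finite G] (N : Subgroup G) [N.Normal]
    (e : N ≃* alternatingGroup (Fin 6)) (hidx : N.index = 4)
    (hC : Subgroup.centralizer (N : Set G) = ⊥)
    (H : Sylow 2 G) (x : G) :
    (H : Subgroup G) ⊓ MulAut.conj x • (H : Subgroup G) ≠ ⊥ := by
  classical
  let z1 : G := (e.symm ⟨z0, Perm.mem_alternatingGroup.2 (Finset.mem_filter.1 z0_mem).2.2.2⟩ : N)
  -- the conjugates of `z1` correspond to `invs`
  let π : N →* Perm (Fin 6) := (alternatingGroup (Fin 6)).subtype.comp e.toMonoidHom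
  have hπ : Function.Injective π := Subtype.coe_injective.comp e.injective
  have hz1N : z1 ∈ N := SetLike.coe_mem _
  have hπz : π ⟨z1, hz1N⟩ = z0 := congrArg Subtype.val (e.apply_symm_apply _)
  have hconjN : ∀ g : G, g * z1 * g⁻¹ ∈ N := fun g => Subgroup.Normal.conj_mem inferInstance _ hz1N g
  let ρ : G → Perm (Fin 6) := fun g => π ⟨g * z1 * g⁻¹, hconjN g⟩
  have hmem : ∀ g, ρ g ∈ invs := by
    intro g
    have hz := (Finset.mem_filter.1 z0_mem).2
    refine Finset.mem_filter.2 ⟨Finset.mem_univ _, ?_, ?_, Perm.mem_alternatingGroup.1 (e ⟨_, _⟩).2⟩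
    · show π _ * π _ = 1
      rw [← map_mul, map_eq_one_iff π hπ]
      refine Subtype.ext ?_
      have : (⟨z1, hz1N⟩ * ⟨z1, hz1N⟩ : N) = 1 := hπ (by rw [map_mul, hπz, map_one]; exact hz.1)
      show g * z1 * g⁻¹ * (g * z1 * g⁻¹) = 1
      have h1 : z1 * z1 = 1 := congrArg Subtype.val this
      calc g * z1 * g⁻¹ * (g * z1 * g⁻¹) = g * (z1 * z1) * g⁻¹ := by group
        _ = 1 := by rw [h1]; group
    · intro h
      have h1 : g * z1 * g⁻¹ = 1 := congrArg Subtype.val ((map_eq_one_iff π hπ).1 h)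
      have h2 : z1 = 1 := conj_eq_one_iff.1 h1
      exact hz.2.1 (by rw [← hπz, map_eq_one_iff π hπ]; exact Subtype.ext h2)
  -- the centralizer of `z1` has order 32
  let C : Subgroup G := Subgroup.centralizer {z1}
  have hG : Nat.card G = 1440 := by
    rw [← N.card_mul_index, hidx, Nat.card_congr e.toEquiv, nat_card_alternatingGroup, Nat.card_eq_fintype_card,
      Fintype.card_fin]
    rfl
  have hCcard : Nat.card C = 32 := by
    have hrange : Set.range ρ = (invs : Set (Perm (Fin 6))) := by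
      refine Set.Subset.antisymm (Set.range_subset_iff.2 hmem) fun t ht => ?_
      rw [Finset.mem_coe, ← invs_conj, Finset.mem_image] at ht
      obtain ⟨g, hg, rfl⟩ := ht
      let n : N := e.symm ⟨g, Perm.mem_alternatingGroup.2 (Finset.mem_filter.1 hg).2⟩
      refine ⟨n, ?_⟩
      show π (n * ⟨z1, hz1N⟩ * n⁻¹) = _
      rw [map_mul, map_mul, map_inv, hπz]
      simp [π, n]
    have horb : (MulAction.orbit (ConjAct G) z1).ncard = 45 := by
      have hr : MulAction.orbit (ConjAct G) z1 = Set.range (fun g : G => g * z1 * g⁻¹) := by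
        ext t
        rw [ConjAct.mem_orbit_conjAct, isConj_comm, isConj_iff]
        rfl
      rw [hr, ← invs_card, ← Set.ncard_coe_finset, ← hrange]
      let j : Set.range (fun g : G => g * z1 * g⁻¹) → Set.range ρ := fun t =>
        ⟨π ⟨t.1, by obtain ⟨g, hg⟩ := t.2; exact hg ▸ hconjN g⟩, t.2.choose, by
          show π _ = π _
          exact congrArg π (Subtype.ext t.2.choose_spec)⟩
      refine Nat.card_congr (Equiv.ofBijective j ⟨fun a b h => ?_, fun t => ?_⟩)
      · have h1 := congrArg Subtype.val h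
        have h2 := hπ h1
        exact Subtype.ext (congrArg (fun m : N => (m : G)) h2)
      · obtain ⟨g, hg⟩ := t.2
        exact ⟨⟨g * z1 * g⁻¹, g, rfl⟩, Subtype.ext hg⟩
    have h := (MulAction.stabilizer (ConjAct G) z1).card_mul_index
    rw [MulAction.index_stabilizer, horb, ConjAct.stabilizer_eq_centralizer,
      show Nat.card (ConjAct G) = 1440 from hG] at h
    show Nat.card (Subgroup.centralizer {z1}) = 32
    have : Nat.card (Subgroup.centralizer {z1}) * 45 = 1440 := h
    omega
  -- so the Sylow subgroup is conjugate to it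
  obtain ⟨P, hCP⟩ := (IsPGroup.of_card (p := 2) (n := 5) (by rw [hCcard]; rfl) : IsPGroup 2 C).exists_le_sylow
  have hPC : (P : Subgroup G) = C := by
    refine (Subgroup.eq_of_le_of_card_ge hCP ?_).symm
    obtain ⟨k, hk⟩ := IsPGroup.iff_card.1 P.2
    have hd : Nat.card (P : Subgroup G) ∣ 1440 := hG ▸ Subgroup.card_subgroup_dvd_card _
    rw [hk] at hd ⊢
    rw [hCcard]
    have : k ≤ 5 := by
      by_contra hk5
      have := (pow_dvd_pow 2 (show 6 ≤ k by omega)).trans hd
      omega
    calc 2 ^ k ≤ 2 ^ 5 := Nat.pow_le_pow_right (by norm_num) this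
      _ = 32 := rfl
  obtain ⟨g, rfl⟩ := MulAction.exists_smul_eq G P H
  intro hbot
  have : Fintype C := Fintype.ofFinite _
  have hfix : ∀ h ∈ C, (g⁻¹ * x * g)⁻¹ * h * (g⁻¹ * x * g) ∈ C → h = 1 := by
    intro h hh hh'
    have hm : g * h * g⁻¹ ∈ ((g • P : Sylow 2 G) : Subgroup G) ⊓
        MulAut.conj x • ((g • P : Sylow 2 G) : Subgroup G) := by
      rw [Sylow.coe_subgroup_smul, hPC]
      refine Subgroup.mem_inf.2 ⟨?_, ?_⟩
      · simpa [Subgroup.mem_pointwise_smul_iff_inv_smul_mem, mul_assoc] using hh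
      · simpa [Subgroup.mem_pointwise_smul_iff_inv_smul_mem, mul_assoc] using hh'
    rw [hbot, Subgroup.mem_bot] at hm
    exact conj_eq_one_iff.1 hm
  set y := g⁻¹ * x * g
  have hC : ∀ c ∈ C, c * z1 = z1 * c := fun c hc => by
    simpa using (Subgroup.mem_centralizer_singleton_iff.1 hc)
  -- the orbit of `y z1 y⁻¹` under `C` has 32 elements with products of a constant order
  have hinj : Function.Injective (fun c : C => ρ ((c : G) * y)) := by
    intro a b hab
    have h1 : (a : G) * y * z1 * ((a : G) * y)⁻¹ = b * y * z1 * ((b : G) * y)⁻¹ := congrArg Subtype.val (hπ hab)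
    have h2 := hfix _ (C.mul_mem (C.inv_mem b.2) a.2) (Subgroup.mem_centralizer_singleton_iff.2 (by
      calc y⁻¹ * ((b : G)⁻¹ * a) * y * z1 = y⁻¹ * (b : G)⁻¹ * ((a : G) * y * z1 * ((a : G) * y)⁻¹) * (a * y) := by group
        _ = z1 * (y⁻¹ * ((b : G)⁻¹ * a) * y) := by rw [h1]; group))
    exact Subtype.ext (inv_mul_eq_one.1 h2).symm
  have hsub : ∀ k : ℕ, (z0 * ρ y) ^ k = 1 → 32 ≤ (invs.filter fun t => (z0 * t) ^ k = 1).card := by
    intro k hk
    rw [← hCcard, Nat.card_eq_fintype_card, ← Finset.card_univ]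
    refine Finset.card_le_card_of_injOn (fun c : C => ρ ((c : G) * y)) ?_ hinj.injOn
    intro c _
    refine Finset.mem_filter.2 ⟨hmem _, ?_⟩
    have hk' : (z1 * (y * z1 * y⁻¹)) ^ k = 1 := by
      have h : ((⟨z1, hz1N⟩ : N) * ⟨y * z1 * y⁻¹, hconjN y⟩) ^ k = 1 := hπ (by
        rw [map_pow, map_mul, hπz, map_one]; exact hk)
      exact congrArg Subtype.val h
    rw [← hπz]
    show (π _ * π _) ^ k = 1
    rw [← map_mul, ← map_pow, map_eq_one_iff π hπ]
    refine Subtype.ext ?_
    show (z1 * ((c : G) * y * z1 * ((c : G) * y)⁻¹)) ^ k = 1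
    have e1 : z1 * ((c : G) * y * z1 * ((c : G) * y)⁻¹) = (c : G) * (z1 * (y * z1 * y⁻¹)) * (c : G)⁻¹ :=
      calc z1 * ((c : G) * y * z1 * ((c : G) * y)⁻¹) = z1 * (c : G) * (y * z1 * y⁻¹) * (c : G)⁻¹ := by group
        _ = _ := by rw [← hC _ c.2]; group
    rw [e1, conj_pow, hk', mul_one, mul_inv_cancel]
  obtain ⟨h3, h5, h4, hall⟩ := invs_products
  rcases hall _ (hmem y) with h | h | h
  · have := hsub 3 h; omega
  · have := hsub 4 h; omega
  · have := hsub 5 h; omega

end Cfsg.Agent.S2488
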