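import Cfsg.Statements.S2493
import Cfsg.Agent.Lib.SpinCover.Multiplier
import Cfsg.Agent.Lib.SpinCover.PairDecomp

set_option autoImplicit false
open Cfsg

namespace Cfsg.Agent.S2493

open Equiv Subgroup
open scoped commutatorElement

variable {G : Type*} [Group G] {n : ℕ}

/-- A perfect double cover of the alternating group. -/
structure Setup (π : G →* Perm (Fin n)) (z : G) : Prop where
  ne : z ≠ 1
  sq : z * z = 1
  ker : ∀ g, π g = 1 → g = 1 ∨ g = z
  zker : π z = 1
  comm : ∀ g, g * z = z * g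
  surj : ∀ σ : Perm (Fin n), Perm.sign σ = 1 → ∃ g, π g = σ
  even : ∀ g, Perm.sign (π g) = 1

variable {π : G →* Perm (Fin n)} {z : G}

theorem Setup.lift (H : Setup π z) {g h : G} (e : π g = π h) : h = g ∨ h = g * z := by
  rcases H.ker (g⁻¹ * h) (by rw [map_mul, map_inv, e, inv_mul_cancel]) with h1 | h1
  · exact Or.inl (inv_mul_eq_one.1 h1).symm
  · exact Or.inr (by rw [← h1, mul_inv_cancel_left])

theorem Setup.sq_eq (H : Setup π z) {g h : G} (e : π g = π h) : h * h = g * g := by
  rcases H.lift e with rfl | rfl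
  · rfl
  · calc g * z * (g * z) = g * (z * g) * z := by simp [mul_assoc]
      _ = g * (g * z) * z := by rw [H.comm g]
      _ = g * g * (z * z) := by simp [mul_assoc]
      _ = g * g := by rw [H.sq, mul_one]

/-- Two lifts of commuting permutations either commute or differ by the central involution. -/
theorem Setup.comm_or (H : Setup π z) {A C : G} (e : Commute (π A) (π C)) :
    A * C = C * A ∨ A * C = C * A * z :=
  H.lift (by rw [map_mul, map_mul, e.eq])

theorem sign_pair {a b c d : Fin n} (hab : a ≠ b) (hcd : c ≠ d) :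
    Perm.sign (swap a b * swap c d) = 1 := by
  rw [map_mul, Perm.sign_swap hab, Perm.sign_swap hcd]; rfl

theorem disjoint_swaps {a b c d : Fin n} (hac : a ≠ c) (had : a ≠ d) (hbc : b ≠ c) (hbd : b ≠ d) :
    Perm.Disjoint (swap a b) (swap c d) := fun x => by
  rcases eq_or_ne x a with rfl | h1
  · exact Or.inr (swap_apply_of_ne_of_ne hac had)
  rcases eq_or_ne x b with rfl | h2
  · exact Or.inr (swap_apply_of_ne_of_ne hbc hbd)
  exact Or.inl (swap_apply_of_ne_of_ne h1 h2)

theorem exists_point (l : List (Fin n)) (hl : l.length < n) : ∃ x, x ∉ l := by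
  classical
  by_contra! h
  have h1 : Finset.univ ⊆ l.toFinset := fun x _ => List.mem_toFinset.2 (h x)
  have h2 := (Finset.card_le_card h1).trans l.toFinset_card_le
  rw [Finset.card_univ, Fintype.card_fin] at h2
  omega

/-- All double transpositions are conjugate by even permutations. -/
theorem conj_pair {a b c d a' b' c' d' : Fin n} (hac : a ≠ c) (had : a ≠ d) (hbc : b ≠ c)
    (hbd : b ≠ d) (hab : a ≠ b) (hcd : c ≠ d) (hac' : a' ≠ c') (had' : a' ≠ d') (hbc' : b' ≠ c')
    (hbd' : b' ≠ d') (hab' : a' ≠ b') (hcd' : c' ≠ d') :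
    ∃ σ : Perm (Fin n), Perm.sign σ = 1 ∧
      σ * (swap a b * swap c d) * σ⁻¹ = swap a' b' * swap c' d' := by
  classical
  have ht : ∀ {p q r s : Fin n}, p ≠ r → p ≠ s → q ≠ r → q ≠ s → p ≠ q → r ≠ s →
      (swap p q * swap r s).cycleType = {2} + {2} := fun h1 h2 h3 h4 h5 h6 => by
    rw [(disjoint_swaps h1 h2 h3 h4).cycleType_mul,
      SpinCover.PairDecomp.cycleType_swap' h5, SpinCover.PairDecomp.cycleType_swap' h6]
  obtain ⟨σ, hσ⟩ := isConj_iff.1 (Perm.isConj_iff_cycleType_eq.2
    ((ht hac had hbc hbd hab hcd).trans (ht hac' had' hbc' hbd' hab' hcd').symm))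
  rcases Int.units_eq_one_or (Perm.sign σ) with h | h
  · exact ⟨σ, h, hσ⟩
  · refine ⟨σ * swap a b, by rw [map_mul, Perm.sign_swap hab, h]; rfl, ?_⟩
    have hc : swap a b * swap c d = swap c d * swap a b :=
      (disjoint_swaps hac had hbc hbd).commute.eq
    calc σ * swap a b * (swap a b * swap c d) * (σ * swap a b)⁻¹ =
        σ * (swap a b * (swap a b * swap c d) * swap a b) * σ⁻¹ := by
          rw [mul_inv_rev, swap_inv]; simp [mul_assoc]
      _ = σ * (swap a b * swap c d) * σ⁻¹ := by
          rw [hc, ← mul_assoc (swap a b) (swap c d), hc, mul_assoc (swap c d * swap a b),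
            swap_mul_self, mul_one]
      _ = _ := hσ

/-- If one pair of lifts in a four-group commutes then all double transpositions lift to
involutions. -/
theorem Setup.involutions (H : Setup π z) {i j k l : Fin n} (hij : i ≠ j) (hik : i ≠ k)
    (hil : i ≠ l) (hjk : j ≠ k) (hjl : j ≠ l) (hkl : k ≠ l) {A C : G}
    (hA : π A = swap i j * swap k l) (hC : π C = swap i k * swap j l) (hAC : A * C = C * A)
    {a b c d : Fin n} (hab : a ≠ b) (hcd : c ≠ d) (hac : a ≠ c) (had : a ≠ d) (hbc : b ≠ c)
    (hbd : b ≠ d) {D : G} (hD : π D = swap a b * swap c d) : D * D = 1 := by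
  classical
  have hsqA : ∀ {p q r s : Fin n} {E : G}, p ≠ q → r ≠ s → p ≠ r → p ≠ s → q ≠ r → q ≠ s →
      π E = swap p q * swap r s → E * E = A * A := by
    intro p q r s E h5 h6 h1 h2 h3 h4 hE
    obtain ⟨σ, hs, hσ⟩ := conj_pair hik hil hjk hjl hij hkl h1 h2 h3 h4 h5 h6
    obtain ⟨S, hS⟩ := H.surj σ hs
    have e1 : π (S * A * S⁻¹) = π E := by rw [map_mul, map_mul, map_inv, hS, hA, hσ, hE]
    rw [H.sq_eq e1]
    have hz : A * A = 1 ∨ A * A = z := H.ker _ (by
      rw [map_mul, hA]
      have hc := (disjoint_swaps hik hil hjk hjl).commute.eq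
      calc swap i j * swap k l * (swap i j * swap k l) =
          swap i j * swap k l * (swap k l * swap i j) := by rw [hc]
        _ = 1 := by rw [mul_assoc, swap_mul_self_mul, swap_mul_self])
    calc S * A * S⁻¹ * (S * A * S⁻¹) = S * (A * A) * S⁻¹ := by group
      _ = A * A := by
        rcases hz with h | h <;> rw [h]
        · group
        · rw [H.comm S, mul_inv_cancel_right]
  rw [hsqA hab hcd hac had hbc hbd hD]
  have hCC : C * C = A * A := hsqA hik hjl hij hil hjk.symm hkl hC
  have hpA : π (A * C) = swap i l * swap j k := by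
    rw [map_mul, hA, hC]
    ext x
    rcases eq_or_ne x i with rfl | h1
    · simp [swap_apply_of_ne_of_ne, *, Ne.symm]
    rcases eq_or_ne x j with rfl | h2
    · simp [swap_apply_of_ne_of_ne, *, Ne.symm]
    rcases eq_or_ne x k with rfl | h3
    · simp [swap_apply_of_ne_of_ne, *, Ne.symm]
    rcases eq_or_ne x l with rfl | h4
    · simp [swap_apply_of_ne_of_ne, *, Ne.symm]
    simp [swap_apply_of_ne_of_ne, *]
  have hB : A * C * (A * C) = A * A := hsqA hil hjk hij hik hjl.symm hkl.symm hpA
  have : A * A * (C * C) = A * A := by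
    calc A * A * (C * C) = A * (A * C) * C := by simp [mul_assoc]
      _ = A * (C * A) * C := by rw [hAC]
      _ = A * C * (A * C) := by simp [mul_assoc]
      _ = A * A := hB
  rw [← hCC]
  exact mul_left_cancel (this.trans (mul_one _).symm)

/-- In a perfect double cover, lifts of two double transpositions on the same four points
anticommute. -/
theorem Setup.anti [Finite G] (H : Setup π z) (hperf : commutator G = ⊤) (hn : 5 ≤ n)
    (hcard : Nat.card G = n.factorial) {i j k l : Fin n} (hij : i ≠ j) (hik : i ≠ k)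
    (hil : i ≠ l) (hjk : j ≠ k) (hjl : j ≠ l) (hkl : k ≠ l) {A C : G}
    (hA : π A = swap i j * swap k l) (hC : π C = swap i k * swap j l) :
    A * C = C * A * z := by
  classical
  have hcomm : Commute (π A) (π C) := by
    rw [hA, hC]
    ext x
    rcases eq_or_ne x i with rfl | h1
    · simp [swap_apply_of_ne_of_ne, *, Ne.symm]
    rcases eq_or_ne x j with rfl | h2
    · simp [swap_apply_of_ne_of_ne, *, Ne.symm]
    rcases eq_or_ne x k with rfl | h3
    · simp [swap_apply_of_ne_of_ne, *, Ne.symm]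
    rcases eq_or_ne x l with rfl | h4
    · simp [swap_apply_of_ne_of_ne, *, Ne.symm]
    simp [swap_apply_of_ne_of_ne, *]
  refine (H.comm_or hcomm).resolve_left fun hAC => ?_
  set a : Fin n := ⟨0, by omega⟩
  set b : Fin n := ⟨1, by omega⟩
  have hab : a ≠ b := by simp [a, b]
  have hord : ∀ x, x ≠ a → x ≠ b → ∃ X : G, X * X * X = 1 ∧
      π X = SpinCover.Multiplier.tri a b x := by
    intro x hxa hxb
    have ht : (SpinCover.Multiplier.tri a b x).IsThreeCycle :=
      Perm.isThreeCycle_swap_mul_swap_same hab hxa.symm hxb.symm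
    obtain ⟨X, hX⟩ := H.surj _ ht.sign
    have h3 : π (X * X * X) = 1 := by
      rw [map_mul, map_mul, hX, ← pow_three', ← ht.orderOf]
      exact pow_orderOf_eq_one _
    rcases H.ker _ h3 with h | h
    · exact ⟨X, h, hX⟩
    · refine ⟨X * z, ?_, by rw [map_mul, H.zker, mul_one, hX]⟩
      have hz : Commute X z := H.comm X
      calc X * z * (X * z) * (X * z) = X * X * X * (z * z * z) := by
            simp only [← pow_two, ← pow_succ]
            exact hz.mul_pow 3
        _ = 1 := by rw [h, H.sq, one_mul, H.sq]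
  choose! X hX3 hXπ using hord
  set s : Finset (Fin n) := Finset.univ.filter fun x => x ≠ a ∧ x ≠ b with hs
  have hmem : ∀ x, x ∈ s ↔ x ≠ a ∧ x ≠ b := fun x => by simp [s]
  have hscard : s.card + 2 = n := by
    have h1 : s = ({a, b} : Finset (Fin n))ᶜ := by ext x; simp [s]
    rw [h1, Finset.card_compl, Finset.card_pair hab, Fintype.card_fin]
    omega
  have hbound := SpinCover.carmichael_bound X s
    (fun x hx => hX3 x ((hmem x).1 hx).1 ((hmem x).1 hx).2) (fun x hx y hy hxy => by
      obtain ⟨hxa, hxb⟩ := (hmem x).1 hx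
      obtain ⟨hya, hyb⟩ := (hmem y).1 hy
      refine H.involutions hij hik hil hjk hjl hkl hA hC hAC (a := a) (b := y) (c := b) (d := x)
        hya.symm hxb.symm hab hxa.symm hyb hxy.symm ?_
      rw [map_mul, hXπ x hxa hxb, hXπ y hya hyb, SpinCover.Multiplier.tri,
        SpinCover.Multiplier.tri]
      ext u
      rcases eq_or_ne u a with rfl | h1
      · simp [swap_apply_of_ne_of_ne, *, Ne.symm]
      rcases eq_or_ne u b with rfl | h2
      · simp [swap_apply_of_ne_of_ne, *, Ne.symm]
      rcases eq_or_ne u x with rfl | h3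
      · simp [swap_apply_of_ne_of_ne, *, Ne.symm]
      rcases eq_or_ne u y with rfl | h4
      · simp [swap_apply_of_ne_of_ne, *, Ne.symm]
      simp [swap_apply_of_ne_of_ne, *])
  rw [hscard] at hbound
  set K := closure (X '' (s : Set (Fin n))) with hK
  have hsurj : ∀ g, π g ∈ K.map π := by
    intro g
    refine (Subgroup.closure_le _).2 ?_
      (SpinCover.Multiplier.closure_tri a b hab (Perm.mem_alternatingGroup.2 (H.even g)))
    rintro _ ⟨x, hx, rfl⟩
    exact ⟨X x, subset_closure ⟨x, (hmem x).2 hx, rfl⟩, hXπ x hx.1 hx.2⟩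
  have hdec : ∀ g, g ∈ K ∨ g * z ∈ K := by
    intro g
    obtain ⟨h, hh, e⟩ := hsurj g
    rcases H.lift e with rfl | rfl
    · exact Or.inl hh
    · exact Or.inr (by rw [mul_assoc, H.sq, mul_one]; exact hh)
  have hnorm : K.Normal := ⟨fun x hx g => by
    rcases hdec g with hg | hg
    · exact mul_mem (mul_mem hg hx) (inv_mem hg)
    · have : g * x * g⁻¹ = g * z * x * (g * z)⁻¹ := by
        have hc : z * x = x * z := (H.comm x).symm
        calc g * x * g⁻¹ = g * (x * z) * (z⁻¹ * g⁻¹) := by group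
          _ = _ := by rw [← hc]; group
      rw [this]
      exact mul_mem (mul_mem hg hx) (inv_mem hg)⟩
  have hle : commutator G ≤ K := by
    rw [_root_.commutator_def, Subgroup.commutator_le]
    intro x _ y _
    have hfix : ∀ u v : G, ⁅u * z, v⁆ = ⁅u, v⁆ ∧ ⁅u, v * z⁆ = ⁅u, v⁆ := fun u v => by
      have hu : ∀ w, z * w = w * z := fun w => (H.comm w).symm
      have hzi : z⁻¹ = z := inv_eq_of_mul_eq_one_right H.sq
      constructor <;> rw [commutatorElement_def, commutatorElement_def, mul_inv_rev, hzi]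
      · calc u * z * v * (z * u⁻¹) * v⁻¹ = u * (z * v) * z * u⁻¹ * v⁻¹ := by simp [mul_assoc]
          _ = u * v * (z * z) * u⁻¹ * v⁻¹ := by rw [hu v]; simp [mul_assoc]
          _ = _ := by rw [H.sq, mul_one]
      · calc u * (v * z) * u⁻¹ * (z * v⁻¹) = u * v * (z * u⁻¹) * z * v⁻¹ := by simp [mul_assoc]
          _ = u * v * u⁻¹ * (z * z) * v⁻¹ := by rw [hu u⁻¹]; simp [mul_assoc]
          _ = _ := by rw [H.sq, mul_one]
    have hKc : ∀ u ∈ K, ∀ v ∈ K, ⁅u, v⁆ ∈ K := fun u hu v hv => by
      rw [commutatorElement_def]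
      exact mul_mem (mul_mem (mul_mem hu hv) (inv_mem hu)) (inv_mem hv)
    rcases hdec x with hx | hx <;> rcases hdec y with hy | hy
    · exact hKc x hx y hy
    · exact (hfix x y).2 ▸ hKc x hx _ hy
    · exact (hfix x y).1 ▸ hKc _ hx y hy
    · rw [← (hfix x y).1, ← (hfix (x * z) y).2]; exact hKc _ hx _ hy
  rw [hperf, top_le_iff] at hle
  rw [hle, Subgroup.card_top, hcard] at hbound
  have := Nat.factorial_pos n
  omega

/-- Every element of a perfect double cover of an alternating group is a commutator. -/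
theorem main [Finite G] (H : Setup π z) (hperf : commutator G = ⊤) (hn : 5 ≤ n)
    (hcard : Nat.card G = n.factorial) (g : G) : ∃ a b : G, a * b * a⁻¹ * b⁻¹ = g := by
  classical
  -- lifts of even permutations with disjoint supports commute
  have hdisj : ∀ {i j k l : Fin n}, i ≠ j → k ≠ l → ∀ {C : G}, π C = swap i k * swap j l →
      ∀ τ : Perm (Fin n), Perm.sign τ = 1 → (∀ x, τ x ≠ x → x ≠ i ∧ x ≠ j ∧ x ≠ k ∧ x ≠ l) →
      ∀ B : G, π B = τ → B * C = C * B := by
    intro i j k l _ _ C hC τ hτ hsupp B hB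
    let p : Fin n → Prop := fun x => x ≠ i ∧ x ≠ j ∧ x ≠ k ∧ x ≠ l
    have h1 : ∀ x, p (τ x) ↔ p x := fun x => by
      by_cases hx : τ x = x
      · rw [hx]
      · exact ⟨fun _ => hsupp x hx, fun _ => hsupp _ fun e => hx (τ.injective e)⟩
    let K : Subgroup (Perm {x // p x}) :=
      { carrier := {ρ | Perm.sign ρ = 1 ∧ ∀ B : G, π B = Perm.ofSubtype ρ → B * C = C * B}
        one_mem' := ⟨map_one _, fun B hB => by
          rcases H.ker B (by rw [hB, map_one]) with rfl | rfl
          · simp
          · exact (H.comm C).symm⟩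
        mul_mem' := fun {ρ ρ'} hρ hρ' => ⟨by rw [map_mul, hρ.1, hρ'.1, one_mul], fun B hB => by
          obtain ⟨R, hR⟩ := H.surj (Perm.ofSubtype ρ) (by rw [Perm.sign_ofSubtype]; exact hρ.1)
          have hR' : π (R⁻¹ * B) = Perm.ofSubtype ρ' := by
            rw [map_mul, map_inv, hR, hB, map_mul, inv_mul_cancel_left]
          calc B * C = R * ((R⁻¹ * B) * C) := by group
            _ = R * (C * (R⁻¹ * B)) := by rw [hρ'.2 _ hR']
            _ = R * C * (R⁻¹ * B) := by group
            _ = C * R * (R⁻¹ * B) := by rw [hρ.2 _ hR]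
            _ = C * B := by group⟩
        inv_mem' := fun {ρ} hρ => ⟨by rw [map_inv, hρ.1, inv_one], fun B hB => by
          have h := hρ.2 B⁻¹ (by rw [map_inv, hB, map_inv, inv_inv])
          calc B * C = B * (C * B⁻¹) * B := by group
            _ = B * (B⁻¹ * C) * B := by rw [h]
            _ = C * B := by group⟩ }
    have hτp : ∀ x, τ x ≠ x → p x := fun x hx => hsupp x hx
    have hmemK : Perm.subtypePerm τ h1 ∈ K := by
      have hA : Perm.subtypePerm τ h1 ∈ alternatingGroup {x // p x} := by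
        rw [Perm.mem_alternatingGroup, Perm.sign_subtypePerm τ h1 hτp]; exact hτ
      rw [← Perm.closure_three_cycles_eq_alternating] at hA
      refine (Subgroup.closure_le K).2 ?_ hA
      intro ρ hρ
      refine ⟨Perm.IsThreeCycle.sign hρ, fun X hX => ?_⟩
      have hcom : Commute (π X) (π C) := by
        rw [hX, hC]
        refine (Perm.Disjoint.commute fun x => ?_)
        by_cases hx : p x
        · exact Or.inr (by
            rw [Perm.mul_apply, swap_apply_of_ne_of_ne hx.2.1 hx.2.2.2,
              swap_apply_of_ne_of_ne hx.1 hx.2.2.1])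
        · exact Or.inl (Perm.ofSubtype_apply_of_not_mem ρ hx)
      refine (H.comm_or hcom).resolve_right fun hne => H.ne ?_
      have h3 : π (X * X * X) = 1 := by
        rw [map_mul, map_mul, hX, ← map_mul, ← map_mul, ← sq, ← pow_succ,
          show ρ ^ (2 + 1) = 1 by
            rw [show (2 + 1 : ℕ) = 3 from rfl, ← (show ρ.IsThreeCycle from hρ).orderOf]
            exact pow_orderOf_eq_one _, map_one]
      have hX3 : X * X * X * C = C * (X * X * X) := by
        rcases H.ker _ h3 with h | h <;> rw [h]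
        · simp
        · exact (H.comm C).symm
      have hz : ∀ w : G, z * w = w * z := fun w => (H.comm w).symm
      have e1 : X * C * X⁻¹ = C * z := by rw [hne, mul_assoc, mul_assoc, hz X⁻¹]; group
      have e2 : X * (C * z) * X⁻¹ = C := by
        calc X * (C * z) * X⁻¹ = X * C * (z * X⁻¹) := by group
          _ = X * C * X⁻¹ * z := by rw [hz X⁻¹]; group
          _ = C := by rw [e1, mul_assoc, H.sq, mul_one]
      have e3 : C = C * z := by
        calc C = X * X * X * C * (X * X * X)⁻¹ := by rw [hX3, mul_inv_cancel_right]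
          _ = X * (X * (X * C * X⁻¹) * X⁻¹) * X⁻¹ := by group
          _ = C * z := by rw [e1, e2, e1]
      exact mul_left_cancel (e3.symm.trans (mul_one C).symm)
    exact hmemK.2 B (by rw [Perm.ofSubtype_subtypePerm h1 hτp]; exact hB)
  -- the commutator of an anticommuting pair
  have hanti : ∀ {A C : G}, A * C = C * A * z → A * C * A⁻¹ * C⁻¹ = z := fun {A C} h => by
    rw [h]
    calc C * A * z * A⁻¹ * C⁻¹ = C * A * (z * A⁻¹) * C⁻¹ := by group
      _ = C * (z * C⁻¹) := by rw [← H.comm A⁻¹]; group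
      _ = z := by rw [← H.comm C⁻¹]; group
  by_cases hg : π g = 1
  · rcases H.ker g hg with rfl | rfl
    · exact ⟨1, 1, by simp⟩
    · set a : Fin n := ⟨0, by omega⟩
      set b : Fin n := ⟨1, by omega⟩
      set c : Fin n := ⟨2, by omega⟩
      set d : Fin n := ⟨3, by omega⟩
      have hab : a ≠ b := by simp [a, b]
      have hac : a ≠ c := by simp [a, c]
      have had : a ≠ d := by simp [a, d]
      have hbc : b ≠ c := by simp [b, c]
      have hbd : b ≠ d := by simp [b, d]
      have hcd : c ≠ d := by simp [c, d]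
      obtain ⟨A, hA⟩ := H.surj _ (sign_pair hab hcd)
      obtain ⟨C, hC⟩ := H.surj _ (sign_pair hac hbd)
      exact ⟨A, C, hanti (H.anti hperf hn hcard hab hac had hbc hbd hcd hA hC)⟩
  set σ := π g with hσdef
  have hev := H.even g
  rw [← hσdef, Perm.sign_of_cycleType, neg_one_pow_eq_one_iff_even (by decide)] at hev
  obtain ⟨T, ⟨u₀, v₀, hprod, hu₀, hv₀⟩, hTev, hT2⟩ := SpinCover.PairDecomp.exists_pairType n hn
    σ.cycleType (fun d hd => Perm.two_le_of_mem_cycleType hd)
    (by rw [Perm.sum_cycleType]; simpa using σ.support.card_le_univ)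
    (by rwa [Ne, Perm.cycleType_eq_zero]) hev
  obtain ⟨r, hr⟩ := isConj_iff.1 (Perm.isConj_iff_cycleType_eq.2 hprod)
  set u := r * u₀ * r⁻¹
  set v := r * v₀ * r⁻¹
  have huv : u * v = σ := by
    rw [← hr]; show r * u₀ * r⁻¹ * (r * v₀ * r⁻¹) = _; group
  have huT : u.cycleType = T := by rw [Perm.cycleType_conj, hu₀]
  have hvT : v.cycleType = T := by rw [Perm.cycleType_conj, hv₀]
  have husign : Perm.sign u = 1 := by
    rw [Perm.sign_of_cycleType, huT, neg_one_pow_eq_one_iff_even (by decide)]; exact hTev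
  -- two transpositions of u
  obtain ⟨c, τ, hcτ, hd, hc, hc2⟩ := Perm.mem_cycleType_iff.1
    (show 2 ∈ u.cycleType by rw [huT]; exact Multiset.count_pos.1 (by omega))
  have hτ2 : 2 ∈ τ.cycleType := by
    refine Multiset.count_pos.1 ?_
    rw [← huT, hcτ, hd.cycleType_mul, hc.cycleType, hc2, Multiset.count_add] at hT2
    simp at hT2 ⊢
    omega
  obtain ⟨c', τ', hcτ', hd', hc', hc2'⟩ := Perm.mem_cycleType_iff.1 hτ2
  obtain ⟨i, j, hij, rfl⟩ := Perm.card_support_eq_two.1 hc2
  obtain ⟨k, l, hkl, rfl⟩ := Perm.card_support_eq_two.1 hc2'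
  have hτij : τ i = i ∧ τ j = j :=
    ⟨(hd i).resolve_left (by simp [hij.symm]), (hd j).resolve_left (by simp [hij])⟩
  have hτ'kl : τ' k = k ∧ τ' l = l :=
    ⟨(hd' k).resolve_left (by simp [hkl.symm]), (hd' l).resolve_left (by simp [hkl])⟩
  have hτmove : τ k ≠ k ∧ τ l ≠ l := by
    constructor <;> rw [hcτ', Perm.mul_apply]
    · rw [hτ'kl.1, swap_apply_left]; exact hkl.symm
    · rw [hτ'kl.2, swap_apply_right]; exact hkl
  have hik : i ≠ k := fun e => hτmove.1 (e ▸ hτij.1)
  have hjk : j ≠ k := fun e => hτmove.1 (e ▸ hτij.2)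
  have hil : i ≠ l := fun e => hτmove.2 (e ▸ hτij.1)
  have hjl : j ≠ l := fun e => hτmove.2 (e ▸ hτij.2)
  have hτ'ij : τ' i = i ∧ τ' j = j := by
    constructor
    · rcases hd' i with h | h
      · have := hτij.1
        rw [hcτ', Perm.mul_apply] at this
        exact (swap k l).injective (this.trans h.symm)
      · exact h
    · rcases hd' j with h | h
      · have := hτij.2
        rw [hcτ', Perm.mul_apply] at this
        exact (swap k l).injective (this.trans h.symm)
      · exact h
  obtain ⟨A₀, hA₀⟩ := H.surj _ (sign_pair hij hkl)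
  obtain ⟨C, hC⟩ := H.surj _ (sign_pair hik hjl)
  have hu' : u = swap i j * swap k l * τ' := by rw [hcτ, hcτ', mul_assoc]
  have hτ'sign : Perm.sign τ' = 1 := by
    rw [hu', map_mul, sign_pair hij hkl, one_mul] at husign; exact husign
  obtain ⟨B, hB⟩ := H.surj τ' hτ'sign
  have hBC : B * C = C * B := hdisj hij hkl hC τ' hτ'sign (fun x hx =>
    ⟨fun e => hx (e ▸ hτ'ij.1), fun e => hx (e ▸ hτ'ij.2), fun e => hx (e ▸ hτ'kl.1),
      fun e => hx (e ▸ hτ'kl.2)⟩) B hB
  set A := A₀ * B
  have hA : π A = u := by rw [map_mul, hA₀, hB, hu']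
  have hAC : A * C = C * A * z := by
    have h0 := H.anti hperf hn hcard hij hik hil hjk hjl hkl hA₀ hC
    show A₀ * B * C = C * (A₀ * B) * z
    calc A₀ * B * C = A₀ * C * B := by rw [mul_assoc, hBC, ← mul_assoc]
      _ = C * A₀ * (z * B) := by rw [h0]; simp [mul_assoc]
      _ = _ := by rw [← H.comm B]; simp [mul_assoc]
  -- the second factor
  obtain ⟨ρ₀, hρ₀⟩ := isConj_iff.1 (Perm.isConj_iff_cycleType_eq.2
    (show u⁻¹.cycleType = v.cycleType by rw [Perm.cycleType_inv, huT, hvT]))
  obtain ⟨ρ, hρs, hρ⟩ : ∃ ρ : Perm (Fin n), Perm.sign ρ = 1 ∧ ρ * u⁻¹ * ρ⁻¹ = v := by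
    rcases Int.units_eq_one_or (Perm.sign ρ₀) with h | h
    · exact ⟨ρ₀, h, hρ₀⟩
    · refine ⟨ρ₀ * swap i j, by rw [map_mul, Perm.sign_swap hij, h]; rfl, ?_⟩
      have hc : Commute (swap i j) u⁻¹ := by
        rw [hcτ]
        exact (Commute.mul_right (Commute.refl _) hd.commute).inv_right
      calc ρ₀ * swap i j * u⁻¹ * (ρ₀ * swap i j)⁻¹ =
          ρ₀ * (swap i j * u⁻¹) * (swap i j)⁻¹ * ρ₀⁻¹ := by group
        _ = ρ₀ * u⁻¹ * ρ₀⁻¹ := by rw [hc.eq]; group
        _ = v := hρ₀
  obtain ⟨R, hR⟩ := H.surj ρ hρs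
  have hmap : π (A * R * A⁻¹ * R⁻¹) = π g := by
    rw [map_mul, map_mul, map_mul, map_inv, map_inv, hA, hR, ← hσdef, ← huv, ← hρ]
    simp [mul_assoc]
  rcases H.lift hmap with h | h
  · exact ⟨A, R, h.symm⟩
  · refine ⟨A, R * C, ?_⟩
    rw [h]
    calc A * (R * C) * A⁻¹ * (R * C)⁻¹ = A * R * A⁻¹ * ((A * C * A⁻¹ * C⁻¹) * R⁻¹) := by group
      _ = A * R * A⁻¹ * R⁻¹ * z := by rw [hanti hAC, ← H.comm R⁻¹]; group

/-- Let n ≥ 5 and let G be a finite perfect group whose centre has order 2 with G/Z(G) isomorphic to the alternating group of degree n (the double cover of the alternating group). Then every element of G is a commutator. -/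
theorem result {G : Type*} [Group G] [Finite G] (hperf : commutator G = ⊤) {n : ℕ} (hn : 5 ≤ n)
    (hZ : Nat.card (Subgroup.center G) = 2) (e : G ⧸ Subgroup.center G ≃* alternatingGroup (Fin n))
    (g : G) :
    ∃ a b : G, a * b * a⁻¹ * b⁻¹ = g := by
  classical
  set π : G →* Perm (Fin n) := (alternatingGroup (Fin n)).subtype.comp
    (e.toMonoidHom.comp (QuotientGroup.mk' (Subgroup.center G))) with hπ
  obtain ⟨⟨z, hzmem⟩, hzne, hzall⟩ := (Nat.card_eq_two_iff' (1 : Subgroup.center G)).1 hZ
  have hker : ∀ x, π x = 1 ↔ x ∈ Subgroup.center G := fun x => by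
    show ((e (QuotientGroup.mk' (Subgroup.center G) x) : alternatingGroup (Fin n)) : Perm (Fin n))
      = 1 ↔ _
    rw [OneMemClass.coe_eq_one, MulEquiv.map_eq_one_iff, QuotientGroup.mk'_apply,
      QuotientGroup.eq_one_iff]
  have hne : z ≠ 1 := fun h => hzne (Subtype.ext h)
  have H : Setup π z :=
    { ne := hne
      sq := by
        have hsq : (⟨z, hzmem⟩ * ⟨z, hzmem⟩ : Subgroup.center G) = 1 := by
          by_contra h
          have h1 := congrArg Subtype.val (hzall _ h)
          exact hne (mul_eq_left.1 h1)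
        exact congrArg Subtype.val hsq
      ker := fun x hx => by
        by_cases h : x = 1
        · exact Or.inl h
        · exact Or.inr (congrArg Subtype.val (hzall ⟨x, (hker x).1 hx⟩ fun e => h
            (congrArg Subtype.val e)))
      zker := (hker z).2 hzmem
      comm := fun x => Subgroup.mem_center_iff.1 hzmem x
      surj := fun σ hσ => by
        obtain ⟨x, hx⟩ := QuotientGroup.mk_surjective (e.symm ⟨σ, Perm.mem_alternatingGroup.2 hσ⟩)
        refine ⟨x, ?_⟩
        show ((e (x : G ⧸ Subgroup.center G) : alternatingGroup (Fin n)) : Perm (Fin n)) = σ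
        rw [hx, MulEquiv.apply_symm_apply]
      even := fun x => Perm.mem_alternatingGroup.1
        (e (QuotientGroup.mk' (Subgroup.center G) x)).2 }
  refine main H hperf hn ?_ g
  haveI : Nontrivial (Fin n) := Fintype.one_lt_card_iff_nontrivial.1 (by simp; omega)
  rw [Subgroup.card_eq_card_quotient_mul_card_subgroup (Subgroup.center G), hZ,
    Nat.card_congr e.toEquiv, mul_comm, Nat.card_eq_fintype_card, two_mul_card_alternatingGroup,
    Fintype.card_perm, Fintype.card_fin]

end Cfsg.Agent.S2493
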