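import Cfsg.Statements.S2495
import Cfsg.Agent.S2510
import Cfsg.Agent.Lib.GL.HalfTorus
import Cfsg.Agent.Lib.Zsigmondy.Basic
-- import your own Cfsg.Agent.* helpers here

set_option autoImplicit false
open Cfsg

namespace Cfsg.Agent.S2495

/-- Let q be an odd prime power, n ≥ 4 even, and L = PSL(n,q). Then L has an element of order q^(n/2) + 1 if and only if the 2-part of n exceeds the 2-part of q − 1. -/
theorem result {F : Type*} [Field F] [Fintype F] {q : ℕ} (hF : Fintype.card F = q) (hodd : Odd q)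
    {n : ℕ} (hn : 4 ≤ n) (heven : Even n) :
    (∃ g : Matrix.ProjectiveSpecialLinearGroup (Fin n) F, orderOf g = q ^ (n / 2) + 1) ↔
      padicValNat 2 (q - 1) < padicValNat 2 n := by
  classical
  subst hF
  set q := Fintype.card F with hq
  obtain ⟨m, rfl⟩ := heven.two_dvd
  rw [Nat.mul_div_cancel_left m two_pos]
  have : NeZero (2 * m) := ⟨by omega⟩
  obtain ⟨p, hp⟩ := CharP.exists F
  have : Fact p.Prime := ⟨CharP.char_is_prime F p⟩
  have hq1 : 1 < q := Fintype.one_lt_card
  have hq3 : 3 ≤ q := by rw [Nat.odd_iff] at hodd; omega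
  have hI : GL.normIndex q (2 * m) = (q ^ m + 1) * GL.normIndex q m := by
    refine Nat.eq_of_mul_eq_mul_right (show 0 < q - 1 by omega) ?_
    rw [GL.normIndex_mul, mul_assoc, GL.normIndex_mul, ← Nat.sq_sub_sq, one_pow, ← pow_mul, mul_comm]
  have hcast : ((q : ℕ) : ZMod (q - 1)) = 1 := by
    have h : (((q - 1 : ℕ)) : ZMod (q - 1)) = (q : ZMod (q - 1)) - ((1 : ℕ) : ZMod (q - 1)) := Nat.cast_sub hq1.le
    rw [ZMod.natCast_self, Nat.cast_one] at h
    linear_combination -h
  have hJ : ((GL.normIndex q m : ℕ) : ZMod (q - 1)) = (m : ZMod (q - 1)) := by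
    rw [GL.normIndex, ← Nat.geomSum_eq hq1, Nat.cast_sum]
    simp [hcast]
  have hiff : q ^ m + 1 ∣ S2510.torusOrder q (2 * m) ↔ padicValNat 2 (q - 1) < padicValNat 2 (2 * m) := by
    rw [S2510.torusOrder, hI]
    exact GL.dvd_div_gcd_iff (Nat.succ_pos _) (by omega) (by omega)
      (Or.inl (by push_cast [hJ, hcast]; ring)) (Or.inl hJ)
  rw [← hiff]
  constructor
  · rintro ⟨x, hx⟩
    obtain ⟨g, rfl⟩ := QuotientGroup.mk'_surjective _ x
    obtain ⟨r, hr, hrd, hrp⟩ := Zsigmondy.exists_primitive_prime_divisor q (2 * m) hq1 (by omega)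
      (fun h => by omega) (fun h => by omega)
    have hrN : r ∣ q ^ m + 1 := by
      rw [show q ^ (2 * m) - 1 = (q ^ m + 1) * (q ^ m - 1) by rw [← Nat.sq_sub_sq, one_pow, ← pow_mul, mul_comm],
        hr.dvd_mul] at hrd
      exact hrd.resolve_right (hrp m (by omega) (by omega))
    set A : Matrix (Fin (2 * m)) (Fin (2 * m)) F := (g : Matrix (Fin (2 * m)) (Fin (2 * m)) F) with hA
    have hdeg : A.charpoly.natDegree = 2 * m := by rw [Matrix.charpoly_natDegree_eq_dim, Fintype.card_fin]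
    -- the characteristic polynomial is irreducible
    obtain ⟨f, hfm, hf, hfd, hfA⟩ : ∃ f : Polynomial F, f.Monic ∧ Irreducible f ∧ f.natDegree = 2 * m ∧
        f ∣ minpoly F A := by
      by_contra hno
      push Not at hno
      set L := ∏ d ∈ Finset.Icc 1 (2 * m - 1), (q ^ d - 1) with hL
      obtain ⟨e, he⟩ := GL.pow_eq_one_of_factors_dvd p A (L := L) (fun f hf hfμ => by
        have hfχ : f ∣ A.charpoly := hfμ.trans (Matrix.minpoly_dvd_charpoly A)
        refine GL.irreducible_dvd_X_pow_sub_one hf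
          (GL.not_dvd_X_of_dvd_charpoly (Matrix.SpecialLinearGroup.toGL g) hf hfχ) ?_
        refine Finset.dvd_prod_of_mem (fun d => q ^ d - 1) (Finset.mem_Icc.2 ⟨hf.natDegree_pos, ?_⟩)
        have h1 := Polynomial.natDegree_le_of_dvd hfχ (Matrix.charpoly_monic A).ne_zero
        have h2 : (normalize f).natDegree ≠ 2 * m := fun h =>
          hno (normalize f) (Polynomial.monic_normalize hf.ne_zero) ((normalize_associated f).symm.irreducible hf) h
            (normalize_dvd_iff.2 hfμ)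
        rw [Polynomial.natDegree_eq_of_degree_eq Polynomial.degree_normalize] at h2
        omega)
      have h1 : q ^ m + 1 ∣ L * p ^ e := hx ▸ orderOf_dvd_of_pow_eq_one
        ((GL.psl_pow_eq_one_iff g _).2 ⟨1, by rw [one_smul]; exact he⟩)
      rcases hr.dvd_mul.1 (hrN.trans h1) with h2 | h2
      · obtain ⟨d, hd, hdv⟩ := hr.prime.dvd_finsetProd_iff (fun d => q ^ d - 1) |>.1 h2
        rw [Finset.mem_Icc] at hd
        exact hrp d (by omega) (by omega) hdv
      · have hpr := (Nat.prime_dvd_prime_iff_eq hr Fact.out).1 (hr.dvd_of_dvd_pow h2)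
        subst hpr
        have hrq : r ∣ q := (CharP.cast_eq_zero_iff F r _).1 (Nat.cast_card_eq_zero F)
        exact hr.ne_one (Nat.dvd_one.1 ((Nat.dvd_add_right (dvd_pow hrq (by omega))).1 hrN))
    obtain ⟨u, hu⟩ := hfA
    have hu1 : u.natDegree = 0 := by
      have h1 := Polynomial.natDegree_le_of_dvd (Matrix.minpoly_dvd_charpoly A) (Matrix.charpoly_monic A).ne_zero
      have hμ0 : minpoly F A ≠ 0 := minpoly.ne_zero (Algebra.IsIntegral.isIntegral A)
      rw [hu, Polynomial.natDegree_mul hf.ne_zero (fun h => hμ0 (by rw [hu, h, mul_zero])), hfd, hdeg] at h1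
      omega
    have hμf : minpoly F A ∣ f ^ 1 := by
      rw [pow_one, hu]
      refine (IsUnit.mul_right_dvd ?_).2 dvd_rfl
      refine Polynomial.isUnit_iff_degree_eq_zero.2 ?_
      have hu0 : u ≠ 0 := fun h => minpoly.ne_zero (Algebra.IsIntegral.isIntegral A) (by rw [hu, h, mul_zero])
      rw [Polynomial.degree_eq_natDegree hu0, hu1]; rfl
    have hroot : AdjoinRoot.root f ^ GL.normIndex q (2 * m) = 1 := GL.root_pow_normIndex_of_det A g.2 hfm hf hfd
      ((Dvd.intro u hu.symm).trans (Matrix.minpoly_dvd_charpoly A))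
    obtain ⟨c, hc⟩ := GL.exists_pow_eq_scalar p A hf (m := 1) (e := 0) (L := S2510.torusOrder q (2 * m))
      (by simp) hμf (by
        obtain ⟨t, ht⟩ := (S2510.torusOrder_dvd_iff q (2 * m) _ hq1).1 (dvd_refl _)
        rw [ht, pow_mul, hroot, one_pow])
    rw [pow_zero, mul_one] at hc
    exact hx ▸ orderOf_dvd_of_pow_eq_one ((GL.psl_pow_eq_one_iff g _).2 ⟨c, hc⟩)
  · intro h
    obtain ⟨Z, hdet, -, hZ⟩ := GL.exists_norm_one_matrix (F := F) (2 * m) (by omega)
    let g : Matrix.SpecialLinearGroup (Fin (2 * m)) F := ⟨Z, hdet⟩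
    obtain ⟨c, hc⟩ := (GL.psl_pow_eq_one_iff g _).1
      (pow_orderOf_eq_one (QuotientGroup.mk' (Subgroup.center _) g : Matrix.ProjectiveSpecialLinearGroup (Fin (2 * m)) F))
    have hd : q ^ m + 1 ∣ orderOf (QuotientGroup.mk' (Subgroup.center _) g :
        Matrix.ProjectiveSpecialLinearGroup (Fin (2 * m)) F) :=
      h.trans ((S2510.torusOrder_dvd_iff q _ _ hq1).2 (hZ _ c hc))
    exact ⟨_, orderOf_pow_orderOf_div (orderOf_pos _).ne' hd⟩

end Cfsg.Agent.S2495
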