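import Cfsg.Statements.S2496
import Cfsg.Agent.S2511
import Cfsg.Agent.Lib.GL.HalfTorus
import Cfsg.Agent.Lib.Zsigmondy.Basic
-- import your own Cfsg.Agent.* helpers here

set_option autoImplicit false
open Cfsg

namespace Cfsg.Agent.S2496

/-- `(q ^ m - (-1) ^ m) / (q + 1)` and its residue. -/
theorem exists_cofactor {q m : ℕ} (hq : 1 < q) :
    ∃ J : ℕ, GL.evenIndex q m = (if Even m then q ^ m + 1 else q ^ m - 1) * J ∧
      (((J : ZMod (q + 1)) = (m : ZMod (q + 1))) ∨ ((J : ZMod (q + 1)) = -(m : ZMod (q + 1)))) := by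
  obtain ⟨J, hJ⟩ : ∃ J : ℕ, (J * (q + 1) : ℤ) = (q : ℤ) ^ m - (-1) ^ m := by
    rcases Nat.even_or_odd m with ⟨t, rfl⟩ | ho
    · refine ⟨GL.evenIndex q t, ?_⟩
      rw [Even.neg_one_pow ⟨t, rfl⟩]
      have h := GL.evenIndex_mul q t
      rw [← two_mul]
      have h1 : 1 ≤ q ^ (2 * t) := Nat.one_le_pow _ _ (by omega)
      have h' := congrArg (Nat.cast : ℕ → ℤ) h
      push_cast [Nat.cast_sub h1] at h'
      exact h'
    · refine ⟨GL.oddIndex q m, ?_⟩
      rw [ho.neg_one_pow, sub_neg_eq_add]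
      exact_mod_cast GL.oddIndex_mul q ho
  refine ⟨J, ?_, ?_⟩
  · refine Nat.eq_of_mul_eq_mul_right (Nat.succ_pos q) ?_
    rw [Nat.succ_eq_add_one, GL.evenIndex_mul, mul_assoc]
    have h1 : 1 ≤ q ^ (2 * m) := Nat.one_le_pow _ _ (by omega)
    have h2 : 1 ≤ q ^ m := Nat.one_le_pow _ _ (by omega)
    rcases Nat.even_or_odd m with he | ho
    · rw [if_pos he]
      rw [he.neg_one_pow] at hJ
      have : ((q ^ (2 * m) - 1 : ℕ) : ℤ) = (((q ^ m + 1) * (J * (q + 1)) : ℕ) : ℤ) := by
        push_cast [Nat.cast_sub h1]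
        rw [hJ, two_mul, pow_add]
        ring
      exact_mod_cast this
    · rw [if_neg (Nat.not_even_iff_odd.2 ho)]
      rw [ho.neg_one_pow] at hJ
      have : ((q ^ (2 * m) - 1 : ℕ) : ℤ) = (((q ^ m - 1) * (J * (q + 1)) : ℕ) : ℤ) := by
        push_cast [Nat.cast_sub h1, Nat.cast_sub h2]
        rw [hJ, two_mul, pow_add]
        ring
      exact_mod_cast this
  · have hK : (1 + (q : ℤ)) * ∑ i ∈ Finset.range m, (-(q : ℤ)) ^ i = 1 - (-(q : ℤ)) ^ m := by
      rw [← mul_neg_geom_sum (-(q : ℤ)) m]; ring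
    have hJK : (J : ℤ) = -(-1) ^ m * ∑ i ∈ Finset.range m, (-(q : ℤ)) ^ i := by
      refine mul_right_cancel₀ (show ((q : ℤ) + 1) ≠ 0 by positivity) ?_
      rw [hJ, show -(-1 : ℤ) ^ m * (∑ i ∈ Finset.range m, (-(q : ℤ)) ^ i) * ((q : ℤ) + 1) =
        -(-1) ^ m * ((1 + (q : ℤ)) * ∑ i ∈ Finset.range m, (-(q : ℤ)) ^ i) by ring, hK, neg_pow (q : ℤ) m]
      have : (-1 : ℤ) ^ m * (-1) ^ m = 1 := by rw [← mul_pow]; norm_num
      linear_combination (-(q : ℤ) ^ m) * this
    have h := congrArg (Int.cast : ℤ → ZMod (q + 1)) hJK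
    have hq0 : (q : ZMod (q + 1)) = -1 := by
      have := ZMod.natCast_self (q + 1)
      push_cast at this
      linear_combination this
    push_cast [hq0] at h
    simp at h
    rcases neg_one_pow_eq_or (ZMod (q + 1)) m with h' | h' <;> simp [h'] at h <;> simp [h]


/-- Let q be an odd prime power, n ≥ 4 even, and U = PSU(n,q) (realised over the field with q² elements). Then U has an element of order q^(n/2) + (−1)^(n/2) — that is, q^(n/2) + 1 when n/2 is even and q^(n/2) − 1 when n/2 is odd — if and only if the 2-part of n exceeds the 2-part of q + 1. -/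
theorem result {F : Type*} [Field F] [Fintype F] {q : ℕ} (hF : Fintype.card F = q ^ 2) (hodd : Odd q)
    {n : ℕ} (hn : 4 ≤ n) (heven : Even n) :
    (∃ g : Cfsg.PSU n F q, orderOf g = if Even (n / 2) then q ^ (n / 2) + 1 else q ^ (n / 2) - 1) ↔
      padicValNat 2 (q + 1) < padicValNat 2 n := by
  classical
  obtain ⟨m, rfl⟩ := heven.two_dvd
  simp only [Nat.mul_div_cancel_left m two_pos]
  have hq1 := Forms.one_lt_q hF
  have hq3 : 3 ≤ q := by rw [Nat.odd_iff] at hodd; omega
  obtain ⟨p, hp⟩ := CharP.exists F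
  have : Fact p.Prime := ⟨CharP.char_is_prime F p⟩
  set N := if Even m then q ^ m + 1 else q ^ m - 1 with hN
  have hN0 : 0 < N := by
    have := Nat.one_lt_pow (show m ≠ 0 by omega) hq1
    rw [hN]; split_ifs <;> omega
  obtain ⟨J, hIJ, hJ⟩ := exists_cofactor (m := m) hq1
  have hNcast : ((N : ℕ) : ZMod (q + 1)) = 2 ∨ ((N : ℕ) : ZMod (q + 1)) = -2 := by
    have hq0 : (q : ZMod (q + 1)) = -1 := by
      have := ZMod.natCast_self (q + 1)
      push_cast at this
      linear_combination this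
    have h2 : 1 ≤ q ^ m := Nat.one_le_pow _ _ (by omega)
    rw [hN]
    rcases Nat.even_or_odd m with he | ho
    · left; rw [if_pos he]; push_cast [hq0, he.neg_one_pow]; norm_num
    · right; rw [if_neg (Nat.not_even_iff_odd.2 ho)]; push_cast [Nat.cast_sub h2, hq0, ho.neg_one_pow]; norm_num
  have hiff : N ∣ S2511.torusOrder q (2 * m) ↔ padicValNat 2 (q + 1) < padicValNat 2 (2 * m) := by
    rw [S2511.torusOrder, S2511.torusIndex, if_pos (even_two_mul m), Nat.mul_div_cancel_left m two_pos, hIJ]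
    refine GL.dvd_div_gcd_iff hN0 (Nat.succ_pos q) (by omega) ?_ hJ
    rcases hNcast with h | h <;> rcases hJ with h' | h' <;> [left; right; right; left] <;>
      (push_cast [h, h']; ring)
  rw [← hiff]
  constructor
  · rintro ⟨x, hx⟩
    obtain ⟨g, rfl⟩ := QuotientGroup.mk'_surjective _ x
    -- the primitive prime
    obtain ⟨r, hr, hrN, hr2, hord⟩ : ∃ r : ℕ, r.Prime ∧ r ∣ N ∧ r ≠ 2 ∧
        ∀ d, r ∣ q ^ (2 * d) - 1 → m ∣ d := by
      have hgcd : ∀ r a b, r ∣ q ^ a - 1 → r ∣ q ^ b - 1 → r ∣ q ^ Nat.gcd a b - 1 := fun r a b h1 h2 => by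
        rw [← Nat.pow_sub_one_gcd_pow_sub_one]; exact Nat.dvd_gcd h1 h2
      rcases Nat.even_or_odd m with he | ho
      · obtain ⟨r, hr, hrd, hrp⟩ := Zsigmondy.exists_primitive_prime_divisor q (2 * m) hq1 (by omega)
          (fun h => by omega) (fun h => by omega)
        have hrN : r ∣ q ^ m + 1 := by
          rw [show q ^ (2 * m) - 1 = (q ^ m + 1) * (q ^ m - 1) by
            rw [← Nat.sq_sub_sq, one_pow, ← pow_mul, mul_comm], hr.dvd_mul] at hrd
          exact hrd.resolve_right (hrp m (by omega) (by omega))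
        refine ⟨r, hr, by rw [hN, if_pos he]; exact hrN, ?_, fun d hd => ?_⟩
        · rintro rfl
          refine hrp 1 one_pos (by omega) ?_
          rw [pow_one]
          exact (Nat.Odd.sub_odd hodd odd_one).two_dvd
        · have h := hgcd r _ _ hrd hd
          by_contra hmd
          have hlt : Nat.gcd (2 * m) (2 * d) < 2 * m := by
            refine lt_of_le_of_ne (Nat.le_of_dvd (by omega) (Nat.gcd_dvd_left _ _)) fun h' => hmd ?_
            have := h' ▸ Nat.gcd_dvd_right (2 * m) (2 * d)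
            exact (Nat.mul_dvd_mul_iff_left two_pos).1 this
          exact hrp _ (Nat.gcd_pos_of_pos_left _ (by omega)) hlt h
      · have hm3 : 3 ≤ m := by rw [Nat.odd_iff] at ho; omega
        obtain ⟨r, hr, hrd, hrp⟩ := Zsigmondy.exists_primitive_prime_divisor q m hq1 (by omega)
          (fun h => by omega) (fun h => by omega)
        refine ⟨r, hr, by rw [hN, if_neg (Nat.not_even_iff_odd.2 ho)]; exact hrd, ?_, fun d hd => ?_⟩
        · rintro rfl
          refine hrp 1 one_pos (by omega) ?_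
          rw [pow_one]
          exact (Nat.Odd.sub_odd hodd odd_one).two_dvd
        · have h := hgcd r _ _ hrd hd
          rw [Nat.Coprime.gcd_mul_left_cancel_right d (Nat.coprime_two_left.2 ho)] at h
          by_contra hmd
          have hlt : Nat.gcd m d < m := lt_of_le_of_ne (Nat.le_of_dvd (by omega) (Nat.gcd_dvd_left _ _))
            fun h' => hmd (h' ▸ Nat.gcd_dvd_right m d)
          exact hrp _ (Nat.gcd_pos_of_pos_left _ (by omega)) hlt h
    have hh := GL.isReflexiveSesq_hermForm hF (2 * m)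
    set A : Matrix (Fin (2 * m)) (Fin (2 * m)) F :=
      ((g : Matrix.SpecialLinearGroup (Fin (2 * m)) F) : Matrix (Fin (2 * m)) (Fin (2 * m)) F) with hA
    have hdet : A.det = 1 := (g : Matrix.SpecialLinearGroup (Fin (2 * m)) F).2
    have hμ0 : minpoly F A ≠ 0 := minpoly.ne_zero (Algebra.IsIntegral.isIntegral A)
    have hchi0 : A.charpoly.coeff 0 ≠ 0 := fun h => by
      have := Matrix.det_eq_sign_charpoly_coeff A
      rw [hdet, h, mul_zero] at this
      exact one_ne_zero this
    have hμc : ∀ P : Polynomial F, P ∣ minpoly F A → P.coeff 0 ≠ 0 := fun P hP h0 => hchi0 (by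
      obtain ⟨u, hu⟩ := hP.trans (Matrix.minpoly_dvd_charpoly A)
      rw [hu, Polynomial.mul_coeff_zero, h0, zero_mul])
    have hdeg : (minpoly F A).natDegree ≤ 2 * m :=
      (Polynomial.natDegree_le_of_dvd (Matrix.minpoly_dvd_charpoly A) (Matrix.charpoly_monic A).ne_zero).trans
        (le_of_eq (by rw [Matrix.charpoly_natDegree_eq_dim, Fintype.card_fin]))
    have hconj : ∀ P : Polynomial F, P ∣ minpoly F A → GL.conjRev (Forms.qEnd hF) P ∣ minpoly F A := fun P hP => by
      refine (GL.conjRev_dvd _ hP).trans ?_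
      have := GL.conjRev_dvd (Forms.qEnd hF) (GL.minpoly_dvd_conjRev hh (S2511.pres_of_mem g))
      rwa [GL.conjRev_conjRev hh.invol (hμc _ dvd_rfl)] at this
    -- a pair of conjugate factors of degree `m`
    obtain ⟨f, hfm, hf, hfd, hfμ, hns⟩ : ∃ f : Polynomial F, f.Monic ∧ Irreducible f ∧ m ≤ f.natDegree ∧
        f ∣ minpoly F A ∧ ¬ f ∣ GL.conjRev (Forms.qEnd hF) f := by
      by_contra hno
      push Not at hno
      set L := (∏ d ∈ (Finset.Icc 1 (2 * m)).filter Odd, (q ^ d + 1)) *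
        ∏ d ∈ Finset.Icc 1 (m - 1), (q ^ (2 * d) - 1) with hL
      obtain ⟨e, he⟩ := GL.pow_eq_one_of_factors_dvd p A (L := L) (fun f₀ hf₀ hf₀μ => by
        refine dvd_trans (dvd_normalize_iff.2 dvd_rfl) (?_ : normalize f₀ ∣ _)
        have hf := (normalize_associated f₀).symm.irreducible hf₀
        have hfμ : normalize f₀ ∣ minpoly F A := normalize_dvd_iff.2 hf₀μ
        have hfm := Polynomial.monic_normalize (p := f₀) hf₀.ne_zero
        have hle := (Polynomial.natDegree_le_of_dvd hfμ hμ0).trans hdeg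
        generalize normalize f₀ = f at hf hfμ hfm hle ⊢
        have := Fact.mk hf
        rw [← AdjoinRoot.mk_eq_zero, map_sub, map_pow, AdjoinRoot.mk_X, map_one, sub_eq_zero]
        by_cases hs : f ∣ GL.conjRev (Forms.qEnd hF) f
        · obtain ⟨hdo, hpow⟩ := GL.root_pow_of_self_conj hF hfm hf (hμc _ hfμ) hs
          have hmem : f.natDegree ∈ (Finset.Icc 1 (2 * m)).filter Odd :=
            Finset.mem_filter.2 ⟨Finset.mem_Icc.2 ⟨hf.natDegree_pos, hle⟩, hdo⟩
          obtain ⟨c, hc⟩ := (Finset.dvd_prod_of_mem (fun d => q ^ d + 1) hmem).trans (Dvd.intro _ hL.symm)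
          rw [hc, pow_mul, hpow, one_pow]
        · have hlt : f.natDegree < m := by
            by_contra hge
            exact hs (hno f hfm hf (by omega) hfμ)
          have hmem : f.natDegree ∈ Finset.Icc 1 (m - 1) := Finset.mem_Icc.2 ⟨hf.natDegree_pos, by omega⟩
          obtain ⟨c, hc⟩ := (Finset.dvd_prod_of_mem (fun d => q ^ (2 * d) - 1) hmem).trans (Dvd.intro_left _ hL.symm)
          have hr0 : AdjoinRoot.root f ≠ 0 := fun h0 => hμc _ hfμ (by
            have hX : f ∣ Polynomial.X := AdjoinRoot.mk_eq_zero.1 (by rw [AdjoinRoot.mk_X, h0])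
            have := (hf.associated_of_dvd Polynomial.irreducible_X hX).symm.dvd
            rwa [Polynomial.X_dvd_iff] at this)
          have := GL.root_pow_evenIndex_mul hF hfm hf hr0
          rw [GL.evenIndex_mul] at this
          rw [hc, pow_mul, this, one_pow])
      have h1 : N ∣ L * p ^ e := hx ▸ orderOf_dvd_of_pow_eq_one
        ((S2511.psu_pow_eq_one_iff hF (by omega) g _).2 ⟨1, by rw [one_smul]; exact he⟩)
      rcases hr.dvd_mul.1 (hrN.trans h1) with h2 | h2
      · rcases hr.dvd_mul.1 h2 with h3 | h3 <;> obtain ⟨d, hd, hdv⟩ := (hr.prime.dvd_finsetProd_iff _).1 h3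
        · rw [Finset.mem_filter] at hd
          have h4 : r ∣ q ^ (2 * d) - 1 := hdv.trans ⟨q ^ d - 1, by
            rw [← Nat.sq_sub_sq, one_pow, ← pow_mul, mul_comm]⟩
          have hmo : Odd m := hd.2.of_dvd_nat (hord d h4)
          rw [hN, if_neg (Nat.not_even_iff_odd.2 hmo)] at hrN
          have h5 : r ∣ q ^ d - 1 := hrN.trans (Nat.pow_sub_one_dvd_pow_sub_one q (hord d h4))
          have h6 := Nat.dvd_sub hdv h5
          rw [show q ^ d + 1 - (q ^ d - 1) = 2 by have := Nat.one_le_pow d q (by omega); omega] at h6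
          exact hr2 ((Nat.prime_dvd_prime_iff_eq hr Nat.prime_two).1 h6)
        · rw [Finset.mem_Icc] at hd
          have := Nat.le_of_dvd (by omega) (hord d hdv)
          omega
      · have hpr := (Nat.prime_dvd_prime_iff_eq hr Fact.out).1 (hr.dvd_of_dvd_pow h2)
        subst hpr
        have hrq := S2511.p_dvd_q hF r
        rw [hN] at hrN
        split_ifs at hrN
        · exact hr.ne_one (Nat.dvd_one.1 ((Nat.dvd_add_right (dvd_pow hrq (by omega))).1 hrN))
        · have := Nat.dvd_sub (dvd_pow hrq (show m ≠ 0 by omega)) hrN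
          rw [Nat.sub_sub_self (Nat.one_le_pow _ _ (by omega)), Nat.dvd_one] at this
          exact hr.ne_one this
    set f' := GL.conjRev (Forms.qEnd hF) f with hf'
    have hco : IsCoprime f f' := hf.coprime_iff_not_dvd.2 hns
    have hf'd : f'.natDegree = f.natDegree := GL.natDegree_conjRev _ (hμc _ hfμ)
    have hf'i := GL.irreducible_conjRev hh.invol hf (hμc _ hfμ)
    have hdvd : f * f' ∣ minpoly F A := hco.mul_dvd hfμ (hconj _ hfμ)
    obtain ⟨u, hu⟩ := hdvd
    have hu0 : u ≠ 0 := fun h => hμ0 (by rw [hu, h, mul_zero])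
    have hd' := hdeg
    rw [hu, Polynomial.natDegree_mul (mul_ne_zero hf.ne_zero hf'i.ne_zero) hu0,
      Polynomial.natDegree_mul hf.ne_zero hf'i.ne_zero, hf'd] at hd'
    have hdm : f.natDegree = m := by omega
    have hμff : minpoly F A ∣ (f * f') ^ 1 := by
      rw [pow_one, hu]
      refine (IsUnit.mul_right_dvd (Polynomial.isUnit_iff_degree_eq_zero.2 ?_)).2 dvd_rfl
      rw [Polynomial.degree_eq_natDegree hu0, show u.natDegree = 0 by omega]; rfl
    have hroot := S2511.root_evenIndex hF A hdet hfm hf (hμc _ hfμ) (by omega)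
      ((Dvd.intro u hu.symm).trans (Matrix.minpoly_dvd_charpoly A))
    obtain ⟨c, hc⟩ := GL.unitary_pow_eq_scalar hF hh hf (L := S2511.torusOrder q (2 * m)) (e := 0) (m := 1) (p := p)
      (S2511.torusOrder_pos hF (by omega)) (by simp) (Or.inr ⟨hco, hμff⟩) (by
        obtain ⟨t, ht⟩ := (S2511.torusOrder_dvd_iff q (2 * m) _).1 (dvd_refl _)
        rw [ht, S2511.torusIndex, if_pos (even_two_mul m), Nat.mul_div_cancel_left m two_pos, pow_mul, ← hdm, hroot,
          one_pow])
    rw [pow_zero, mul_one] at hc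
    exact hx ▸ orderOf_dvd_of_pow_eq_one ((S2511.psu_pow_eq_one_iff hF (by omega) g _).2 ⟨c, hc⟩)
  · intro h
    obtain ⟨y, hy⟩ := S2511.exists_torus hF (n := 2 * m) (by omega)
    exact ⟨_, orderOf_pow_orderOf_div (orderOf_pos _).ne' (h.trans hy)⟩

end Cfsg.Agent.S2496
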