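import Cfsg.Statements.S2500
import Cfsg.Agent.Lib.NormalCover.Linear
import Cfsg.Agent.Lib.NormalCover.SympEven
import Cfsg.Agent.Lib.NormalCover.GTwo
import Cfsg.Agent.Lib.NormalCover.UnitaryFourCover
import Cfsg.Agent.Lib.NormalCover.UnitaryThreeCover
import Cfsg.Agent.Lib.NormalCover.SympSixCover

set_option autoImplicit false
open Cfsg

namespace Cfsg.Agent.S2500

/-- The infinite families of simple groups with normal covering number 2. For a finite field F: each of PSL_2(F) (|F| ≥ 4), PSL_3(F), PSL_4(F), PSU_4 over F (|F| = q²), PSU_3 over F when |F| = q² with q a power of 3, PSp_{2m}(F) for |F| even, m ≥ 2 and (m, |F|) ≠ (2, 2), PSp_6(F) for |F| a power of 3, and G_2(F) (automorphisms of the split octonions) for |F| = 2^a ≥ 4 is the union of the conjugates of two proper subgroups: there are proper subgroups H, K such that every element is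 conjugate into H or into K. -/
theorem result {F : Type} [Field F] [Fintype F] :
    (4 ≤ Fintype.card F → (∃ H K : Subgroup (Matrix.ProjectiveSpecialLinearGroup (Fin 2) F), H ≠ ⊤ ∧ K ≠ ⊤ ∧ ∀ g : (Matrix.ProjectiveSpecialLinearGroup (Fin 2) F), ∃ x : (Matrix.ProjectiveSpecialLinearGroup (Fin 2) F), x * g * x⁻¹ ∈ H ∨ x * g * x⁻¹ ∈ K)) ∧
    (∃ H K : Subgroup (Matrix.ProjectiveSpecialLinearGroup (Fin 3) F), H ≠ ⊤ ∧ K ≠ ⊤ ∧ ∀ g : (Matrix.ProjectiveSpecialLinearGroup (Fin 3) F), ∃ x : (Matrix.ProjectiveSpecialLinearGroup (Fin 3) F), x * g * x⁻¹ ∈ H ∨ x * g * x⁻¹ ∈ K) ∧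
    (∃ H K : Subgroup (Matrix.ProjectiveSpecialLinearGroup (Fin 4) F), H ≠ ⊤ ∧ K ≠ ⊤ ∧ ∀ g : (Matrix.ProjectiveSpecialLinearGroup (Fin 4) F), ∃ x : (Matrix.ProjectiveSpecialLinearGroup (Fin 4) F), x * g * x⁻¹ ∈ H ∨ x * g * x⁻¹ ∈ K) ∧
    (∀ q : ℕ, Fintype.card F = q ^ 2 → (∃ H K : Subgroup (Cfsg.PSU 4 F q), H ≠ ⊤ ∧ K ≠ ⊤ ∧ ∀ g : (Cfsg.PSU 4 F q), ∃ x : (Cfsg.PSU 4 F q), x * g * x⁻¹ ∈ H ∨ x * g * x⁻¹ ∈ K)) ∧
    (∀ q a : ℕ, Fintype.card F = q ^ 2 → 1 ≤ a → q = 3 ^ a → (∃ H K : Subgroup (Cfsg.PSU 3 F q), H ≠ ⊤ ∧ K ≠ ⊤ ∧ ∀ g : (Cfsg.PSU 3 F q), ∃ x : (Cfsg.PSU 3 F q), x * g * x⁻¹ ∈ H ∨ x * g * x⁻¹ ∈ K)) ∧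
    (∀ m : ℕ, 2 ≤ m → ¬ Odd (Fintype.card F) → ¬ (m = 2 ∧ Fintype.card F = 2) → (∃ H K : Subgroup (Cfsg.PSp m F), H ≠ ⊤ ∧ K ≠ ⊤ ∧ ∀ g : (Cfsg.PSp m F), ∃ x : (Cfsg.PSp m F), x * g * x⁻¹ ∈ H ∨ x * g * x⁻¹ ∈ K)) ∧
    (∀ a : ℕ, 1 ≤ a → Fintype.card F = 3 ^ a → (∃ H K : Subgroup (Cfsg.PSp 3 F), H ≠ ⊤ ∧ K ≠ ⊤ ∧ ∀ g : (Cfsg.PSp 3 F), ∃ x : (Cfsg.PSp 3 F), x * g * x⁻¹ ∈ H ∨ x * g * x⁻¹ ∈ K)) ∧
    (∀ a : ℕ, 2 ≤ a → Fintype.card F = 2 ^ a → (∃ H K : Subgroup (Cfsg.Lie.G2 F), H ≠ ⊤ ∧ K ≠ ⊤ ∧ ∀ g : (Cfsg.Lie.G2 F), ∃ x : (Cfsg.Lie.G2 F), x * g * x⁻¹ ∈ H ∨ x * g * x⁻¹ ∈ K)) := by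
  have hchar : ∀ p a : ℕ, p.Prime → Fintype.card F = p ^ a → CharP F p := fun p a hp hcard => by
    have : Fact p.Prime := ⟨hp⟩
    exact charP_of_card_eq_prime_pow hcard
  have hthree : ∀ a : ℕ, Fintype.card F = 3 ^ a → (3 : F) = 0 := fun a hcard => by
    have := hchar 3 a Nat.prime_three hcard
    exact_mod_cast CharP.cast_eq_zero F 3
  refine ⟨fun _ => NormalCover.psl_cover (r := 2) le_rfl le_rfl dvd_rfl fun d h1 h2 _ => ?_,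
    NormalCover.psl_cover (r := 3) (by norm_num) (by norm_num) dvd_rfl fun d h1 h2 h3 => ?_,
    NormalCover.psl_cover (r := 2) le_rfl (by norm_num) (by norm_num) fun d h1 h2 h3 => ?_,
    fun q hF => NormalCover.psu4_cover hF,
    fun q a hF ha hq => NormalCover.psu3_cover hF ha hq,
    fun m hm hodd _ => ?_,
    fun a _ hcard => NormalCover.SympSix.psp6_cover (hthree a hcard),
    fun a _ hcard => ?_⟩
  · omega
  · omega
  · omega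
  · have h2 : CharP F 2 := by
      have h := (FiniteField.even_card_iff_char_two (F := F)).2 (Nat.even_iff.1 (Nat.not_odd_iff_even.1 hodd))
      exact ringChar.of_eq h
    exact NormalCover.psp_even_cover hm
  · have := hchar 2 a Nat.prime_two hcard
    exact NormalCover.GTwo.cover

end Cfsg.Agent.S2500
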