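import Cfsg.Statements.S2503
import Cfsg.Agent.Lib.PSL2.CentralizerSizes

set_option autoImplicit false
open Cfsg Matrix
open scoped MatrixGroups

namespace Cfsg.Agent.S2503

/-- Let F be a finite field with q = 2^t ≥ 4 elements and L = PSL(2,F). Then L has a cyclic subgroup A of order q + 1 and an elementary abelian 2-subgroup B of order q such that L = ABA: every element of L is a product a·b·a' with a, a' ∈ A and b ∈ B. -/
theorem result {F : Type*} [Field F] [Fintype F]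
    (h2 : 2 ∣ Fintype.card F) (h4 : 4 ≤ Fintype.card F) :
    ∃ A B : Subgroup (Matrix.ProjectiveSpecialLinearGroup (Fin 2) F),
      IsCyclic A ∧ Nat.card A = Fintype.card F + 1 ∧ IsMulCommutative B ∧ (∀ b ∈ B, b * b = 1) ∧
        Nat.card B = Fintype.card F ∧
        ∀ g : Matrix.ProjectiveSpecialLinearGroup (Fin 2) F, ∃ a ∈ A, ∃ b ∈ B, ∃ c ∈ A, g = a * b * c := by
  have h2' : (2 : F) = 0 := Cfsg.Agent.PSL2.even_card_iff.1 (even_iff_two_dvd.2 h2)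
  obtain ⟨t, ht⟩ := Cfsg.Agent.PSL2.exists_isEll F
  have ht' : Cfsg.Agent.PSL2.IsEll (Cfsg.Agent.PSL2.tr (Cfsg.Agent.PSL2.ell t)) := by
    rwa [Cfsg.Agent.PSL2.tr_ell]
  have hd : Nat.gcd 2 (Fintype.card F - 1) = 1 := by
    obtain ⟨k, hk⟩ := h2
    rw [Nat.gcd_rec, show (Fintype.card F - 1) % 2 = 1 by omega]; rfl
  refine ⟨(Cfsg.Agent.PSL2.cent (Cfsg.Agent.PSL2.ell t)).map Cfsg.Agent.PSL2.mk,
    (Cfsg.Agent.PSL2.unip F).map Cfsg.Agent.PSL2.mk,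
    Cfsg.Agent.PSL2.isCyclic_map_cent ht'.sq_ne_four, ?_, inferInstance, ?_,
    Cfsg.Agent.PSL2.card_map_unip, ?_⟩
  · have h := Cfsg.Agent.PSL2.card_map_cent (Cfsg.Agent.PSL2.ell t)
    rwa [hd, one_mul, ht'.card_cent] at h
  · rintro _ ⟨u, hu, rfl⟩
    obtain ⟨s, rfl⟩ := Cfsg.Agent.PSL2.mem_unip.1 hu
    rw [← map_mul, Cfsg.Agent.PSL2.uu_mul_uu, show s + s = 2 * s by ring, h2', zero_mul,
      Cfsg.Agent.PSL2.uu_zero, map_one]
  · intro g
    obtain ⟨g, rfl⟩ := Cfsg.Agent.PSL2.mk_surjective g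
    obtain ⟨a, ha, s, c, hc, rfl⟩ := Cfsg.Agent.PSL2.exists_aba h2' ht g
    exact ⟨_, Subgroup.mem_map_of_mem _ ha, _,
      Subgroup.mem_map_of_mem _ (Cfsg.Agent.PSL2.uu_mem_unip s), _, Subgroup.mem_map_of_mem _ hc,
      by rw [map_mul, map_mul]⟩

end Cfsg.Agent.S2503
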