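import Cfsg.Statements.S2504

import Cfsg.Agent.Lib.Perm.AbelianBound

set_option autoImplicit false
open Cfsg
open Cfsg.Agent.Perm.AbelianBound

namespace Cfsg.Agent.S2504

/-- The largest order of an abelian subgroup of the alternating group of degree n is 3^k when n = 3k, 4·3^(k−1) when n = 3k + 1, and 16·3^(k−2) when n = 3k + 2, for every k ≥ 2 (so for all degrees n ≥ 6). -/
theorem result (k : ℕ) (hk : 2 ≤ k) :
    IsGreatest {c : ℕ | ∃ A : Subgroup (alternatingGroup (Fin (3 * k))), IsMulCommutative A ∧ Nat.card A = c} (3 ^ k) ∧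
    IsGreatest {c : ℕ | ∃ A : Subgroup (alternatingGroup (Fin (3 * k + 1))), IsMulCommutative A ∧ Nat.card A = c}
      (4 * 3 ^ (k - 1)) ∧
    IsGreatest {c : ℕ | ∃ A : Subgroup (alternatingGroup (Fin (3 * k + 2))), IsMulCommutative A ∧ Nat.card A = c}
      (16 * 3 ^ (k - 2)) := by
  obtain ⟨j, rfl⟩ := Nat.exists_eq_add_of_le' hk
  have hmem : ∀ n c, Attained true n c →
      ∃ A : Subgroup (alternatingGroup (Fin n)), IsMulCommutative A ∧ Nat.card A = c := by
    rintro n c ⟨A, hA, rfl, hs⟩
    have hle : A ≤ alternatingGroup (Fin n) := fun a ha => Equiv.Perm.mem_alternatingGroup.mpr (hs rfl a ha)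
    exact ⟨A.subgroupOf _, ⟨⟨fun x y => by
        apply Subtype.ext; apply Subtype.ext
        have h := congrArg Subtype.val (mul_comm'
          (⟨((x : alternatingGroup (Fin n)) : Equiv.Perm (Fin n)), x.2⟩ : A)
          ⟨((y : alternatingGroup (Fin n)) : Equiv.Perm (Fin n)), y.2⟩)
        simpa using h⟩⟩,
      Nat.card_congr (Subgroup.subgroupOfEquivOfLe hle).toEquiv⟩
  have hub : ∀ n c, (∃ A : Subgroup (alternatingGroup (Fin n)), IsMulCommutative A ∧ Nat.card A = c) →
      c ≤ maxProd n ∧ c ≤ max (maxProdNoTwo n) (maxProd (n - 2)) := by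
    rintro n c ⟨A, hA, rfl⟩
    rw [← Subgroup.card_map_of_injective (f := (alternatingGroup (Fin n)).subtype) Subtype.val_injective]
    refine ⟨by simpa using card_le_maxProd (A.map (alternatingGroup (Fin n)).subtype), ?_⟩
    simpa using card_le_of_sign (A.map (alternatingGroup (Fin n)).subtype) (by
      rintro _ ⟨x, -, rfl⟩
      exact Equiv.Perm.mem_alternatingGroup.mp x.2)
  refine ⟨⟨hmem _ _ (attained_threes _), fun c hc => ?_⟩, ⟨hmem _ _ ?_, fun c hc => ?_⟩,
    ⟨hmem _ _ ?_, fun c hc => ?_⟩⟩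
  · exact (hub _ c hc).1.trans_eq (maxProd_values (j + 2)).1
  · rw [show 3 * (j + 2) + 1 = 4 + 3 * (j + 1) by ring, show j + 2 - 1 = j + 1 by omega]
    exact attained_add attained_four (attained_threes _)
  · rw [show j + 2 - 1 = j + 1 by omega]
    exact (hub _ c hc).1.trans_eq (maxProd_values (j + 1)).2.1
  · rw [show 3 * (j + 2) + 2 = 4 + 4 + 3 * j by ring, Nat.add_sub_cancel]
    exact attained_add (attained_add attained_four attained_four) (attained_threes j)
  · rw [Nat.add_sub_cancel]
    refine (hub _ c hc).2.trans (max_le (le_of_eq ?_) ?_)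
    · rw [show 3 * (j + 2) + 2 = 3 * j + 8 by ring, maxProdNoTwo_value]
    · rw [Nat.add_sub_cancel, (maxProd_values (j + 2)).1, pow_add]
      omega

end Cfsg.Agent.S2504
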