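import Cfsg.Statements.S2505

import Cfsg.Agent.Lib.Perm.AbelianBound

set_option autoImplicit false
open Cfsg
open Cfsg.Agent.Perm.AbelianBound

namespace Cfsg.Agent.S2505

/-- The largest order of an abelian subgroup of the symmetric group of degree n is 3^k when n = 3k, 4·3^(k−1) when n = 3k + 1, and 2·3^k when n = 3k + 2, for every k ≥ 1. -/
theorem result (k : ℕ) (hk : 1 ≤ k) :
    IsGreatest {c : ℕ | ∃ A : Subgroup (Equiv.Perm (Fin (3 * k))), IsMulCommutative A ∧ Nat.card A = c} (3 ^ k) ∧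
    IsGreatest {c : ℕ | ∃ A : Subgroup (Equiv.Perm (Fin (3 * k + 1))), IsMulCommutative A ∧ Nat.card A = c}
      (4 * 3 ^ (k - 1)) ∧
    IsGreatest {c : ℕ | ∃ A : Subgroup (Equiv.Perm (Fin (3 * k + 2))), IsMulCommutative A ∧ Nat.card A = c}
      (2 * 3 ^ k) := by
  obtain ⟨j, rfl⟩ := Nat.exists_eq_add_of_le' hk
  have hub : ∀ n c, (∃ A : Subgroup (Equiv.Perm (Fin n)), IsMulCommutative A ∧ Nat.card A = c) → c ≤ maxProd n := by
    rintro n c ⟨A, hA, rfl⟩
    simpa using card_le_maxProd A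
  have hmem : ∀ n c, Attained false n c → ∃ A : Subgroup (Equiv.Perm (Fin n)), IsMulCommutative A ∧ Nat.card A = c :=
    fun n c ⟨A, hA, hc, _⟩ => ⟨A, hA, hc⟩
  refine ⟨⟨hmem _ _ (attained_mono (attained_threes _)), fun c hc => ?_⟩, ⟨hmem _ _ ?_, fun c hc => ?_⟩,
    ⟨hmem _ _ ?_, fun c hc => ?_⟩⟩
  · exact (hub _ c hc).trans_eq (maxProd_values (j + 1)).1
  · rw [show 3 * (j + 1) + 1 = 4 + 3 * j by ring, Nat.add_sub_cancel]
    exact attained_mono (attained_add attained_four (attained_threes j))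
  · rw [Nat.add_sub_cancel]
    exact (hub _ c hc).trans_eq (maxProd_values j).2.1
  · rw [show 3 * (j + 1) + 2 = 2 + 3 * (j + 1) by ring]
    exact attained_add attained_two (attained_mono (attained_threes _))
  · exact (hub _ c hc).trans_eq (maxProd_values (j + 1)).2.2

end Cfsg.Agent.S2505
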