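import Cfsg.Statements.S2506
import Cfsg.Agent.Lib.Perm.AbelianBound
-- import your own Cfsg.Agent.* helpers here

set_option autoImplicit false
open scoped Pointwise
open Cfsg

namespace Cfsg.Agent.S2506

open MulAction
open Cfsg.Agent.Perm.AbelianBound

theorem maxProd_lt : ∀ n : ℕ, 3 ≤ n → maxProd n < 2 * maxProdNoTwo n := by
  intro n
  induction n using Nat.strong_induction_on with
  | _ n ih =>
    intro h
    by_cases h9 : 9 ≤ n
    · obtain ⟨j, rfl⟩ := Nat.exists_eq_add_of_le' h9
      show 3 * maxProd (j + 6) < 2 * (3 * maxProdNoTwo (j + 6))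
      have := ih (j + 6) (by omega) (by omega)
      omega
    · interval_cases n <;> decide

theorem noTwo_mono : ∀ n : ℕ, 3 ≤ n → maxProdNoTwo (n - 1) < maxProdNoTwo n := by
  intro n
  induction n using Nat.strong_induction_on with
  | _ n ih =>
    intro h
    by_cases h9 : 10 ≤ n
    · obtain ⟨j, rfl⟩ := Nat.exists_eq_add_of_le' h9
      show 3 * maxProdNoTwo (j + 6) < 3 * maxProdNoTwo (j + 7)
      have := ih (j + 7) (by omega) (by omega)
      simp only [show j + 7 - 1 = j + 6 from rfl] at this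
      omega
    · interval_cases n <;> decide

theorem noTwo_five : ∀ m : ℕ, 1 ≤ m → 5 * maxProdNoTwo m < maxProdNoTwo (m + 5) := by
  intro m
  induction m using Nat.strong_induction_on with
  | _ m ih =>
    intro h
    by_cases h9 : 9 ≤ m
    · obtain ⟨j, rfl⟩ := Nat.exists_eq_add_of_le' h9
      show 5 * (3 * maxProdNoTwo (j + 6)) < maxProdNoTwo (j + 5 + 9)
      show 5 * (3 * maxProdNoTwo (j + 6)) < 3 * maxProdNoTwo (j + 5 + 6)
      have := ih (j + 6) (by omega) (by omega)
      rw [show j + 5 + 6 = j + 6 + 5 by omega]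
      omega
    · interval_cases m <;> decide

theorem lt_noTwo : ∀ a : ℕ, 6 ≤ a → a < maxProdNoTwo a := by
  intro a
  induction a using Nat.strong_induction_on with
  | _ a ih =>
    intro h
    by_cases h9 : 9 ≤ a
    · obtain ⟨j, rfl⟩ := Nat.exists_eq_add_of_le' h9
      show j + 9 < 3 * maxProdNoTwo (j + 6)
      have := ih (j + 6) (by omega) (by omega)
      omega
    · interval_cases a <;> decide

theorem noTwo_pos : ∀ n : ℕ, 0 < maxProdNoTwo n := by
  intro n
  induction n using Nat.strong_induction_on with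
  | _ n ih =>
    by_cases h9 : 9 ≤ n
    · obtain ⟨j, rfl⟩ := Nat.exists_eq_add_of_le' h9
      show 0 < 3 * maxProdNoTwo (j + 6)
      have := ih (j + 6) (by omega)
      omega
    · interval_cases n <;> decide

/-- In an optimal decomposition every part is 3 or 4. -/
theorem part_eq {n a : ℕ} (hn : 3 ≤ n) (hn5 : n ≠ 5) (ha : 0 < a) (han : a ≤ n) (ha2 : a ≠ 2)
    (h : maxProdNoTwo n ≤ a * maxProdNoTwo (n - a)) : a = 3 ∨ a = 4 := by
  by_contra hne
  have h1 : a ≠ 1 := by
    rintro rfl
    have := noTwo_mono n hn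
    omega
  rcases eq_or_ne a 5 with rfl | ha5
  · have := noTwo_five (n - 5) (by omega)
    rw [Nat.sub_add_cancel han] at this
    omega
  · have h6 := lt_noTwo a (by omega)
    have hm := maxProdNoTwo_mul a (n - a)
    rw [Nat.add_sub_cancel' han] at hm
    have := Nat.mul_lt_mul_of_pos_right h6 (noTwo_pos (n - a))
    omega

theorem attained_noTwo : ∀ n : ℕ, Attained true n (maxProdNoTwo n) := by
  have h1 : Attained true 1 1 := ⟨⊥, inferInstance, Subgroup.card_bot, fun _ a ha => by
    rw [Subgroup.mem_bot] at ha; simp [ha]⟩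
  have : Fact (Nat.Prime 5) := ⟨Nat.prime_five⟩
  have h5 : Attained true 5 5 := by
    have h := attained_of_zpowers (finRotate 5) (by decide)
    rwa [orderOf_eq_prime (p := 5) (by decide) (by decide)] at h
  intro n
  induction n using Nat.strong_induction_on with
  | _ n ih =>
    by_cases h9 : 9 ≤ n
    · obtain ⟨j, rfl⟩ := Nat.exists_eq_add_of_le' h9
      show Attained true (j + 9) (3 * maxProdNoTwo (j + 6))
      rw [show j + 9 = 3 + (j + 6) by omega]
      exact attained_add attained_three (ih (j + 6) (by omega))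
    · interval_cases n
      · exact attained_zero
      · exact h1
      · exact attained_add h1 h1
      · exact attained_three
      · exact attained_four
      · exact h5
      · exact attained_add attained_three attained_three
      · exact attained_add attained_four attained_three
      · exact attained_add attained_four attained_four

/-- The allowed restrictions to a block of size 3 or 4. -/
def Good (k : ℕ) {α : Type*} [Fintype α] [DecidableEq α] (τ : Equiv.Perm α) : Prop :=
  Equiv.Perm.sign τ = 1 ∧ (k = 4 → τ * τ = 1)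

theorem card_good_le {α : Type*} [Fintype α] [DecidableEq α] (O : Set α) (k : ℕ) (hk : k = 3 ∨ k = 4)
    (hO : Nat.card O = k) :
    Nat.card {τ : Equiv.Perm α // (∀ x, x ∉ O → τ x = x) ∧ Good k τ} ≤ k := by
  classical
  have : Fintype O := Fintype.ofFinite O
  let e : O ≃ Fin k := Finite.equivFinOfCardEq hO
  let down : {τ : Equiv.Perm α // ∀ x, ¬ (x ∈ O) → τ x = x} → Equiv.Perm (Fin k) := fun τ =>
    e.permCongr ((Equiv.Perm.subtypeEquivSubtypePerm (· ∈ O)).symm τ)
  have hdown : Function.Injective down :=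
    e.permCongr.injective.comp (Equiv.Perm.subtypeEquivSubtypePerm (· ∈ O)).symm.injective
  have hgood : ∀ τ : {τ : Equiv.Perm α // (∀ x, x ∉ O → τ x = x) ∧ Good k τ},
      Equiv.Perm.sign (down ⟨τ.1, τ.2.1⟩) = 1 ∧ (k = 4 → down ⟨τ.1, τ.2.1⟩ * down ⟨τ.1, τ.2.1⟩ = 1) := by
    rintro ⟨τ, hτ, hs, h4⟩
    obtain ⟨u, hu⟩ := (Equiv.Perm.subtypeEquivSubtypePerm (· ∈ O)).surjective ⟨τ, hτ⟩
    have hu' : Equiv.Perm.ofSubtype u = τ := congrArg Subtype.val hu
    have hd : down ⟨τ, hτ⟩ = e.permCongr u := by simp only [down, ← hu, Equiv.symm_apply_apply]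
    rw [hd]
    refine ⟨by rw [Equiv.Perm.sign_permCongr, ← Equiv.Perm.sign_ofSubtype u, hu', hs], fun hk4 => ?_⟩
    have huu : u * u = 1 := Equiv.Perm.ofSubtype_injective (by rw [map_mul, hu', h4 hk4, map_one])
    rw [← e.permCongrHom_coe, ← map_mul, huu, map_one]
  have hle := Nat.card_le_card_of_injective
    (fun τ => (⟨down ⟨τ.1, τ.2.1⟩, hgood τ⟩ :
      {σ : Equiv.Perm (Fin k) // Equiv.Perm.sign σ = 1 ∧ (k = 4 → σ * σ = 1)}))
    (fun a b h => Subtype.ext (congrArg (fun t : {τ : Equiv.Perm α // ∀ x, ¬ (x ∈ O) → τ x = x} => t.1)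
      (hdown (congrArg Subtype.val h))))
  refine hle.trans ?_
  rw [Nat.card_eq_fintype_card]
  rcases hk with rfl | rfl <;> decide +kernel

theorem fin_four_even : ∀ τ : Equiv.Perm (Fin 4), Equiv.Perm.sign τ = 1 → (τ = 1 ∨ ∀ x, τ x ≠ x) → τ * τ = 1 := by
  decide +kernel

variable {n : ℕ}

/-- An abelian group of even permutations of maximal order, its orbits and its description. -/
theorem structure_of_max (hn : 3 ≤ n) (hn5 : n ≠ 5) (A : Subgroup (Equiv.Perm (Fin n))) [hAc : IsMulCommutative A]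
    (hev : ∀ a ∈ A, Equiv.Perm.sign a = 1) (hcard : maxProdNoTwo n ≤ Nat.card A) :
    ∃ _ : Fintype (Quotient (orbitRel A (Fin n))), (∀ q, orbitSize A q = 3 ∨ orbitSize A q = 4) ∧
      ∏ q, orbitSize A q = Nat.card A ∧ Nat.card A = maxProdNoTwo n ∧
      ∀ σ : Equiv.Perm (Fin n), σ ∈ A ↔ (∀ x, σ x ∈ orbit A x) ∧
        ∀ (q : Quotient (orbitRel A (Fin n))) (τ : Equiv.Perm (Fin n)), (∀ x, x ∈ orbit A q.out → τ x = σ x) →
          (∀ x, x ∉ orbit A q.out → τ x = x) → Good (orbitSize A q) τ := by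
  classical
  letI : Fintype (Quotient (orbitRel A (Fin n))) := Fintype.ofFinite _
  refine ⟨inferInstance, ?_⟩
  -- restrictions of elements to orbits stay inside
  have hres : ∀ a ∈ A, ∀ (y : Fin n) (r : Equiv.Perm (Fin n)), (∀ x, x ∈ orbit A y → r x = a x) →
      (∀ x, x ∉ orbit A y → r x = x) → r ∈ A := by
    intro a ha y r hr1 hr2
    by_contra hr
    have hcomm : ∀ b ∈ A, b * r = r * b := by
      intro b hb
      refine Equiv.ext fun x => ?_
      rw [Equiv.Perm.mul_apply, Equiv.Perm.mul_apply]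
      have hbx : b x ∈ orbit A y ↔ x ∈ orbit A y := by
        constructor <;> intro h
        · have h' : (⟨b, hb⟩ : A)⁻¹ • b x ∈ orbit A y := MulAction.mapsTo_smul_orbit ((⟨b, hb⟩ : A)⁻¹) y h
          rwa [show (⟨b, hb⟩ : A)⁻¹ • b x = x from inv_smul_smul (⟨b, hb⟩ : A) x] at h'
        · exact MulAction.mapsTo_smul_orbit (⟨b, hb⟩ : A) y h
      by_cases hx : x ∈ orbit A y
      · rw [hr1 x hx, hr1 _ (hbx.2 hx)]
        have := congrArg (fun f : A => (f : Equiv.Perm (Fin n)) x) (mul_comm' (⟨a, ha⟩ : A) ⟨b, hb⟩)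
        exact this.symm
      · rw [hr2 x hx, hr2 _ (fun h => hx (hbx.1 h))]
    let A₂ : Subgroup (Equiv.Perm (Fin n)) := A ⊔ Subgroup.zpowers r
    have hA₂ : A₂ ≤ Subgroup.centralizer (A₂ : Set (Equiv.Perm (Fin n))) := by
      have hAA : A ≤ Subgroup.centralizer (A : Set (Equiv.Perm (Fin n))) := fun b hb =>
        Subgroup.mem_centralizer_iff.2 fun c hc => congrArg Subtype.val (mul_comm' (⟨c, hc⟩ : A) ⟨b, hb⟩)
      refine sup_le ?_ (Subgroup.zpowers_le.2 ?_)
      · refine Subgroup.le_centralizer_iff.1 (sup_le hAA (Subgroup.zpowers_le.2 ?_))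
        exact Subgroup.mem_centralizer_iff.2 fun c hc => hcomm c hc
      · refine Subgroup.mem_centralizer_iff.2 fun c hc => ?_
        have : A₂ ≤ Subgroup.centralizer {r} := sup_le (fun b hb => Subgroup.mem_centralizer_singleton_iff.2
          (hcomm b hb)) (Subgroup.zpowers_le.2 (Subgroup.mem_centralizer_singleton_iff.2 rfl))
        exact Subgroup.mem_centralizer_singleton_iff.1 (this hc)
    have : IsMulCommutative A₂ := ⟨⟨fun u v => Subtype.ext (Subgroup.mem_centralizer_iff.1 (hA₂ v.2) u u.2)⟩⟩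
    obtain ⟨c, hc⟩ := Subgroup.card_dvd_of_le (show A ≤ A₂ from le_sup_left)
    have hne : c ≠ 1 := fun h1 => hr (by
      have heq := Subgroup.eq_of_le_of_card_ge (show A ≤ A₂ from le_sup_left) (by rw [hc, h1, mul_one])
      exact heq.symm ▸ (le_sup_right : Subgroup.zpowers r ≤ A₂) (Subgroup.mem_zpowers r))
    have hle := card_le_maxProd A₂
    rw [Fintype.card_fin, hc] at hle
    have h2 : 2 ≤ c := by
      have : 0 < Nat.card A₂ := Nat.card_pos
      rw [hc] at this
      have := Nat.pos_of_mul_pos_left this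
      omega
    have := maxProd_lt n hn
    have := Nat.mul_le_mul_left (Nat.card A) h2
    omega
  have restr : ∀ a ∈ A, ∀ y : Fin n, ∃ r ∈ A, (∀ x, x ∈ orbit A y → r x = a x) ∧
      (∀ x, x ∉ orbit A y → r x = x) := by
    intro a ha y
    have hpres : ∀ x, a x ∈ orbit A y ↔ x ∈ orbit A y := fun x => by
      constructor <;> intro h
      · have h' : (⟨a, ha⟩ : A)⁻¹ • a x ∈ orbit A y := MulAction.mapsTo_smul_orbit ((⟨a, ha⟩ : A)⁻¹) y h
        rwa [show (⟨a, ha⟩ : A)⁻¹ • a x = x from inv_smul_smul (⟨a, ha⟩ : A) x] at h'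
      · exact MulAction.mapsTo_smul_orbit (⟨a, ha⟩ : A) y h
    refine ⟨Equiv.Perm.ofSubtype (a.subtypePerm (p := (· ∈ orbit A y)) hpres), ?_, ?_, ?_⟩
    · exact hres a ha y _ (fun x hx => Equiv.Perm.ofSubtype_apply_of_mem _ hx)
        (fun x hx => Equiv.Perm.ofSubtype_apply_of_not_mem _ hx)
    · exact fun x hx => Equiv.Perm.ofSubtype_apply_of_mem _ hx
    · exact fun x hx => Equiv.Perm.ofSubtype_apply_of_not_mem _ hx
  have hsemi : ∀ a ∈ A, ∀ (y x x' : Fin n), x ∈ orbit A y → x' ∈ orbit A y → a x = x → a x' = x' := by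
    intro a ha y x x' hx hx' hax
    obtain ⟨c, hc⟩ := MulAction.mem_orbit_iff.1 (by rw [MulAction.orbit_eq_iff.2 hx]; exact hx' : x' ∈ orbit A x)
    rw [← hc]
    show (⟨a, ha⟩ : A) • c • x = c • x
    rw [← mul_smul, mul_comm', mul_smul]
    exact congrArg (c • ·) hax
  have h2 : ∀ q, orbitSize A q ≠ 2 := by
    intro q hq
    obtain ⟨u, v, huv, hset⟩ := (Set.ncard_eq_two).1 ((Nat.card_coe_set_eq _).symm.trans hq)
    obtain ⟨c, hc⟩ := MulAction.mem_orbit_iff.1
      (by rw [MulAction.orbit_eq_iff.2 (hset ▸ Set.mem_insert u {v} : u ∈ orbit A q.out), hset]; simp :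
        v ∈ orbit A u)
    obtain ⟨r, hrA, hr1, hr2⟩ := restr c c.2 q.out
    have hne : r ≠ 1 := fun h => huv (by
      have := hr1 u (hset ▸ Set.mem_insert u {v})
      rw [h, Equiv.Perm.one_apply] at this
      exact this.trans hc)
    have hsupp : r.support ⊆ {u, v} := fun x hx => by
      by_contra hxn
      exact Equiv.Perm.mem_support.1 hx (hr2 x (by rw [hset]; simpa using hxn))
    have hswap : r.IsSwap := Equiv.Perm.card_support_eq_two.1 (le_antisymm
      ((Finset.card_le_card hsupp).trans Finset.card_le_two) (Equiv.Perm.two_le_card_support_of_ne_one hne))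
    have := hev r hrA
    rw [hswap.sign_eq] at this
    exact absurd this (by decide)
  let F : A → ∀ q : Quotient (orbitRel A (Fin n)), orbit A q.out := fun a q => ⟨a • q.out, mem_orbit _ _⟩
  have hF : Function.Injective F := fun a b h => eq_of_smul_out A fun q => congrArg Subtype.val (congrFun h q)
  have hle : Nat.card A ≤ ∏ q, orbitSize A q :=
    (Nat.card_le_card_of_injective F hF).trans (le_of_eq Nat.card_pi)
  have hprod : ∏ q, orbitSize A q ≤ maxProdNoTwo n := by
    have := prod_le_noTwo Finset.univ (orbitSize A) fun q _ => h2 q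
    rwa [sum_orbitSize, Fintype.card_fin] at this
  have heq : ∏ q, orbitSize A q = Nat.card A := le_antisymm (hprod.trans hcard) hle
  have hval : Nat.card A = maxProdNoTwo n := le_antisymm (hle.trans hprod) hcard
  have h34 : ∀ q, orbitSize A q = 3 ∨ orbitSize A q = 4 := by
    intro q
    have hs := Finset.add_sum_erase Finset.univ (orbitSize A) (Finset.mem_univ q)
    have hp := Finset.mul_prod_erase Finset.univ (orbitSize A) (Finset.mem_univ q)
    rw [sum_orbitSize, Fintype.card_fin] at hs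
    rw [heq, hval] at hp
    refine part_eq hn hn5 ?_ (by omega) (h2 q) ?_
    · have : Nonempty (orbit A q.out) := ⟨⟨_, mem_orbit_self _⟩⟩
      exact Nat.card_pos
    · have := prod_le_noTwo (Finset.univ.erase q) (orbitSize A) fun i _ => h2 i
      rw [show ∑ i ∈ Finset.univ.erase q, orbitSize A i = n - orbitSize A q by omega] at this
      exact hp ▸ Nat.mul_le_mul_left _ this
  have hbij : Function.Bijective F := (Nat.bijective_iff_injective_and_card F).2 ⟨hF, by
    rw [Nat.card_pi]; exact heq.symm⟩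
  have hgood : ∀ a ∈ A, ∀ (q : Quotient (orbitRel A (Fin n))) (τ : Equiv.Perm (Fin n)),
      (∀ x, x ∈ orbit A q.out → τ x = a x) → (∀ x, x ∉ orbit A q.out → τ x = x) → Good (orbitSize A q) τ := by
    intro a ha q τ h1 h2'
    have hτA := hres a ha q.out τ h1 h2'
    refine ⟨hev τ hτA, fun h4 => ?_⟩
    let e : orbit A q.out ≃ Fin 4 := Finite.equivFinOfCardEq h4
    obtain ⟨u, hu⟩ := (Equiv.Perm.subtypeEquivSubtypePerm (· ∈ orbit A q.out)).surjective ⟨τ, h2'⟩
    have hu' : Equiv.Perm.ofSubtype u = τ := congrArg Subtype.val hu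
    have := fin_four_even (e.permCongr u)
      (by rw [Equiv.Perm.sign_permCongr, ← Equiv.Perm.sign_ofSubtype u, hu', hev τ hτA]) ?_
    · rw [← e.permCongrHom_coe, ← map_mul, ← map_one e.permCongrHom] at this
      rw [← hu', ← map_mul, e.permCongrHom.injective this, map_one]
    · by_cases hfix : ∃ i, e.permCongr u i = i
      · obtain ⟨i, hi⟩ := hfix
        left
        have hx : τ (e.symm i : Fin n) = e.symm i := by
          rw [← hu', Equiv.Perm.ofSubtype_apply_coe]
          rw [Equiv.permCongr_apply] at hi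
          exact congrArg Subtype.val (e.injective (hi.trans (e.apply_symm_apply i).symm))
        have hall : ∀ x : orbit A q.out, u x = x := fun x => Subtype.ext (by
          rw [← Equiv.Perm.ofSubtype_apply_coe u x, hu']
          exact hsemi τ hτA q.out _ x.1 (e.symm i).2 x.2 hx)
        rw [show u = 1 from Equiv.ext hall]
        exact Equiv.ext fun j => by simp
      · exact Or.inr fun i hi => hfix ⟨i, hi⟩
  refine ⟨h34, heq, hval, fun σ => ⟨fun hσ => ⟨fun x => ⟨⟨σ, hσ⟩, rfl⟩, hgood σ hσ⟩, fun ⟨hpres, hg⟩ => ?_⟩⟩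
  obtain ⟨a, ha⟩ := hbij.2 fun q => ⟨σ q.out, hpres q.out⟩
  suffices hkey : (a : Equiv.Perm (Fin n)) = σ from hkey ▸ a.2
  refine Equiv.ext fun x => ?_
  set q : Quotient (orbitRel A (Fin n)) := Quotient.mk'' x with hq
  have hmem : ∀ z, σ z ∈ orbit A q.out ↔ z ∈ orbit A q.out := fun z => by
    rw [← MulAction.orbit_eq_iff, MulAction.orbit_eq_iff.2 (hpres z), MulAction.orbit_eq_iff]
  let τ : Equiv.Perm (Fin n) := Equiv.Perm.ofSubtype (σ.subtypePerm (p := (· ∈ orbit A q.out)) hmem)
  have hτ1 : ∀ z, z ∈ orbit A q.out → τ z = σ z := fun z hz => Equiv.Perm.ofSubtype_apply_of_mem _ hz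
  have hτ2 : ∀ z, z ∉ orbit A q.out → τ z = z := fun z hz => Equiv.Perm.ofSubtype_apply_of_not_mem _ hz
  -- the restrictions of `A` exhaust the allowed ones
  choose g hg' using fun z : orbit A q.out => MulAction.mem_orbit_iff.1 z.2
  choose r hrA hr1 hr2 using fun z : orbit A q.out => restr (g z) (g z).2 q.out
  let R : orbit A q.out → {t : Equiv.Perm (Fin n) // (∀ x, x ∉ orbit A q.out → t x = x) ∧ Good (orbitSize A q) t} :=
    fun z => ⟨r z, hr2 z, hgood _ (g z).2 q _ (hr1 z) (hr2 z)⟩
  have hRinj : Function.Injective R := fun z z' h => by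
    have h' : r z q.out = r z' q.out := congrArg (fun t => t.1 q.out) h
    rw [hr1 z _ (mem_orbit_self _), hr1 z' _ (mem_orbit_self _)] at h'
    exact Subtype.ext ((hg' z).symm.trans (h'.trans (hg' z')))
  have hRbij : Function.Bijective R := (Nat.bijective_iff_injective_and_card R).2 ⟨hRinj, le_antisymm
    (Nat.card_le_card_of_injective R hRinj) (card_good_le _ _ (h34 q) rfl)⟩
  obtain ⟨z, hz⟩ := hRbij.2 ⟨τ, hτ2, hg q τ hτ1 hτ2⟩
  have hz' : r z = τ := congrArg Subtype.val hz
  have hout : (a : Equiv.Perm (Fin n)) q.out = r z q.out := by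
    rw [hz', hτ1 _ (mem_orbit_self _)]
    exact congrArg Subtype.val (congrFun ha q)
  have hx : x ∈ orbit A q.out := mem_orbit_out A x
  have := hsemi ((r z)⁻¹ * a) (mul_mem (inv_mem (hrA z)) a.2) q.out q.out x (mem_orbit_self _) hx
    (by rw [Equiv.Perm.mul_apply, hout]; exact (r z).symm_apply_apply _)
  rw [Equiv.Perm.mul_apply, Equiv.Perm.inv_eq_iff_eq] at this
  rw [this, hz', hτ1 x hx]

end Cfsg.Agent.S2506

namespace Cfsg.Agent.S2506

open MulAction
open Cfsg.Agent.Perm.AbelianBound
open scoped Pointwise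

/-- In the alternating group of any degree, any two abelian subgroups of the largest possible order (among abelian subgroups) are conjugate. -/
theorem result (n : ℕ)
    (A B : Subgroup (alternatingGroup (Fin n))) (hA : IsMulCommutative A) (hB : IsMulCommutative B)
    (hAmax : ∀ C : Subgroup (alternatingGroup (Fin n)), IsMulCommutative C → Nat.card C ≤ Nat.card A)
    (hBmax : ∀ C : Subgroup (alternatingGroup (Fin n)), IsMulCommutative C → Nat.card C ≤ Nat.card B) :
    ∃ g : alternatingGroup (Fin n), B = MulAut.conj g • A := by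
  classical
  rcases Nat.lt_or_ge n 3 with hn | hn
  · have : Subsingleton (alternatingGroup (Fin n)) := by
      refine Finite.card_le_one_iff_subsingleton.1 ?_
      rcases Nat.lt_or_ge n 2 with h | h
      · have h1 : Subsingleton (Fin n) := Fin.subsingleton_iff_le_one.2 (by omega)
        exact le_of_eq (Nat.card_eq_one_iff_unique.2 ⟨inferInstance, ⟨1⟩⟩)
      · obtain rfl : n = 2 := by omega
        rw [nat_card_alternatingGroup]; simp
    exact ⟨1, Subsingleton.elim _ _⟩
  -- to permutations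
  let ι := (alternatingGroup (Fin n)).subtype
  have hlow : ∀ C : Subgroup (alternatingGroup (Fin n)), (∀ D : Subgroup (alternatingGroup (Fin n)), IsMulCommutative D → Nat.card D ≤ Nat.card C) →
      maxProdNoTwo n ≤ Nat.card C := by
    intro C hC
    obtain ⟨D, hD, hDc, hDs⟩ := attained_noTwo n
    have hle : D ≤ alternatingGroup (Fin n) := fun a ha => Equiv.Perm.mem_alternatingGroup.mpr (hDs rfl a ha)
    have := hC (D.subgroupOf _) ⟨⟨fun x y => by
      apply Subtype.ext; apply Subtype.ext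
      have h := congrArg Subtype.val (mul_comm'
        (⟨((x : alternatingGroup (Fin n)) : Equiv.Perm (Fin n)), x.2⟩ : D)
        ⟨((y : alternatingGroup (Fin n)) : Equiv.Perm (Fin n)), y.2⟩)
      simpa using h⟩⟩
    rwa [Nat.card_congr (Subgroup.subgroupOfEquivOfLe hle).toEquiv, hDc] at this
  have hev : ∀ C : Subgroup (alternatingGroup (Fin n)), ∀ a ∈ C.map ι, Equiv.Perm.sign a = 1 := by
    rintro C _ ⟨x, -, rfl⟩
    exact Equiv.Perm.mem_alternatingGroup.mp x.2
  have hcA := hlow A hAmax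
  have hcB := hlow B hBmax
  rcases eq_or_ne n 5 with rfl | hn5
  · have hS : ∀ C : Subgroup (alternatingGroup (Fin 5)), IsMulCommutative C →
        maxProdNoTwo 5 ≤ Nat.card C → Nat.card C = 5 := by
      intro C hC h
      have hle := card_le_of_sign (C.map (alternatingGroup (Fin 5)).subtype) (hev C)
      rw [Subgroup.card_map_of_injective Subtype.val_injective, Fintype.card_fin] at hle
      have : max (maxProdNoTwo 5) (maxProd (5 - 2)) = 5 := by decide
      have : maxProdNoTwo 5 = 5 := by decide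
      omega
    have : Fact (Nat.Prime 5) := ⟨Nat.prime_five⟩
    have hf : (Nat.card (alternatingGroup (Fin 5))).factorization 5 = 1 := by
      rw [nat_card_alternatingGroup, Nat.card_fin, show Nat.factorial 5 / 2 = 5 ^ 1 * 12 from rfl,
        Nat.factorization_mul (by norm_num) (by norm_num), Finsupp.add_apply, Nat.Prime.factorization_pow Nat.prime_five,
        Finsupp.single_eq_same, Nat.factorization_eq_zero_of_not_dvd (by norm_num)]
    obtain ⟨g, hg⟩ := MulAction.exists_smul_eq (alternatingGroup (Fin 5))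
      (Sylow.ofCard A (by rw [hS A hA hcA, hf, pow_one])) (Sylow.ofCard B (by rw [hS B hB hcB, hf, pow_one]))
    refine ⟨g, ?_⟩
    have h := congrArg (fun P : Sylow 5 (alternatingGroup (Fin 5)) => (P : Subgroup (alternatingGroup (Fin 5)))) hg
    rw [Sylow.coe_subgroup_smul] at h
    exact h.symm
  rw [← Subgroup.card_map_of_injective (f := ι) Subtype.val_injective] at hcA hcB
  obtain ⟨fA, h34A, hpA, hvA, hmA⟩ := structure_of_max hn hn5 (A.map ι) (hev A) hcA
  obtain ⟨fB, h34B, hpB, hvB, hmB⟩ := structure_of_max hn hn5 (B.map ι) (hev B) hcB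
  -- equally many orbits of each size
  have hpow : ∀ {κ : Type} [Fintype κ] (f : κ → ℕ), (∀ q, f q = 3 ∨ f q = 4) →
      ∏ q, f q = 3 ^ Fintype.card {q // f q = 3} * 4 ^ Fintype.card {q // f q = 4} := by
    intro κ _ f hf
    rw [← Finset.prod_filter_mul_prod_filter_not Finset.univ (fun q => f q = 3) f,
      Finset.prod_congr rfl (fun q hq => (Finset.mem_filter.1 hq).2), Finset.prod_const, Fintype.card_subtype,
      Fintype.card_subtype, Finset.prod_congr rfl (fun q hq => show f q = 4 from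
        (hf q).resolve_left (Finset.mem_filter.1 hq).2), Finset.prod_const]
    congr 3
    ext q
    rcases hf q with h | h <;> simp [h]
  have hcnt : ∀ a b c d : ℕ, 3 ^ a * 4 ^ b = 3 ^ c * 4 ^ d → a = c ∧ b = d := by
    intro a b c d h
    have h3 := congrArg (fun m => m.factorization 3) h
    have h2 := congrArg (fun m => m.factorization 2) h
    simp only [show (4 : ℕ) = 2 ^ 2 from rfl, ← pow_mul] at h3 h2
    simp [Nat.factorization_mul, Nat.Prime.factorization_pow Nat.prime_two,
      Nat.Prime.factorization_pow Nat.prime_three] at h3 h2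
    omega
  have hAB : ∏ q, orbitSize (A.map ι) q = ∏ q, orbitSize (B.map ι) q := by rw [hpA, hpB, hvA, hvB]
  rw [hpow _ h34A, hpow _ h34B] at hAB
  obtain ⟨c3, c4⟩ := hcnt _ _ _ _ hAB
  obtain ⟨eq, heq⟩ : ∃ e : Quotient (orbitRel (A.map ι) (Fin n)) ≃ Quotient (orbitRel (B.map ι) (Fin n)),
      ∀ q, orbitSize (B.map ι) (e q) = orbitSize (A.map ι) q := by
    have hfib : ∀ k, Fintype.card {q // orbitSize (A.map ι) q = k} = Fintype.card {q // orbitSize (B.map ι) q = k} := by
      intro k
      rcases eq_or_ne k 3 with rfl | h3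
      · exact c3
      rcases eq_or_ne k 4 with rfl | h4
      · exact c4
      have eA : IsEmpty {q // orbitSize (A.map ι) q = k} := ⟨fun q => by rcases h34A q.1 with h | h <;> omega⟩
      have eB : IsEmpty {q // orbitSize (B.map ι) q = k} := ⟨fun q => by rcases h34B q.1 with h | h <;> omega⟩
      rw [Fintype.card_eq_zero, Fintype.card_eq_zero]
    exact ⟨Equiv.ofFiberEquiv fun k => Fintype.equivOfCardEq (hfib k), fun q => Equiv.ofFiberEquiv_map _ q⟩
  -- a permutation carrying orbits to orbits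
  let π₀ : Equiv.Perm (Fin n) := (selfEquivSigmaOrbits (A.map ι) (Fin n)).trans
    ((Equiv.sigmaCongr eq fun q => (Finite.card_eq.1 (heq q).symm).some).trans
      (selfEquivSigmaOrbits (B.map ι) (Fin n)).symm)
  have hπ₀ : ∀ q x, x ∈ orbit (A.map ι) q.out → π₀ x ∈ orbit (B.map ι) (eq q).out := by
    intro q x hx
    have hxq : selfEquivSigmaOrbits (A.map ι) (Fin n) x = ⟨q, ⟨x, hx⟩⟩ := by
      apply (selfEquivSigmaOrbits (A.map ι) (Fin n)).symm.injective
      rw [Equiv.symm_apply_apply]
      rfl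
    show (selfEquivSigmaOrbits (B.map ι) (Fin n)).symm _ ∈ _
    erw [hxq]
    exact (((Finite.card_eq.1 (heq q).symm).some) ⟨x, hx⟩).2
  obtain ⟨π, hπs, hπ⟩ : ∃ π : Equiv.Perm (Fin n), Equiv.Perm.sign π = 1 ∧
      ∀ q x, x ∈ orbit (A.map ι) q.out → π x ∈ orbit (B.map ι) (eq q).out := by
    rcases Int.units_eq_one_or (Equiv.Perm.sign π₀) with h | h
    · exact ⟨π₀, h, hπ₀⟩
    · obtain ⟨q₀⟩ : Nonempty (Quotient (orbitRel (A.map ι) (Fin n))) := ⟨Quotient.mk'' ⟨0, by omega⟩⟩
      have h2 : 1 < Nat.card (orbit (A.map ι) q₀.out) := by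
        rcases h34A q₀ with h' | h' <;> (rw [show Nat.card (orbit (A.map ι) q₀.out) = _ from h']; norm_num)
      obtain ⟨⟨u, hu⟩, ⟨v, hv⟩, huv⟩ := Finite.one_lt_card_iff_nontrivial.1 h2
      refine ⟨π₀ * Equiv.swap u v, ?_, fun q x hx => ?_⟩
      · rw [map_mul, h, Equiv.Perm.sign_swap (fun e => huv (Subtype.ext e))]; decide
      · rw [Equiv.Perm.mul_apply]
        refine hπ₀ q _ ?_
        rcases eq_or_ne x u with rfl | hxu
        · rw [Equiv.swap_apply_left, ← orbit_eq_iff.2 hx, orbit_eq_iff.2 hu]; exact hv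
        rcases eq_or_ne x v with rfl | hxv
        · rw [Equiv.swap_apply_right, ← orbit_eq_iff.2 hx, orbit_eq_iff.2 hv]; exact hu
        rwa [Equiv.swap_apply_of_ne_of_ne hxu hxv]
  have hπinv : ∀ q z, z ∈ orbit (B.map ι) (eq q).out → π.symm z ∈ orbit (A.map ι) q.out := by
    intro q z hz
    have hx := mem_orbit_out (A.map ι) (π.symm z)
    set q' : Quotient (orbitRel (A.map ι) (Fin n)) := Quotient.mk'' (π.symm z)
    have h1 := hπ q' _ hx
    rw [Equiv.apply_symm_apply] at h1
    have h2 : (eq q').out ∈ orbit (B.map ι) (eq q).out := by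
      rw [← orbit_eq_iff.2 hz, orbit_eq_iff.2 h1]; exact mem_orbit_self _
    have h3 : eq q' = eq q := by
      rw [← Quotient.out_eq (eq q'), ← Quotient.out_eq (eq q)]
      exact Quotient.sound (orbitRel_apply.2 h2)
    rwa [eq.injective h3] at hx
  have hconj : (A.map ι).map (MulAut.conj π).toMonoidHom ≤ B.map ι := by
    rintro _ ⟨a, ha, rfl⟩
    obtain ⟨hap, hag⟩ := (hmA a).1 ha
    refine (hmB _).2 ⟨fun z => ?_, fun q τ hτ1 hτ2 => ?_⟩
    · show π (a (π.symm z)) ∈ orbit (B.map ι) z
      have hz := mem_orbit_out (B.map ι) z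
      obtain ⟨q, hq⟩ := eq.surjective (Quotient.mk'' z)
      rw [← hq] at hz
      have hx := hπinv q z hz
      rw [orbit_eq_iff.2 hz]
      exact hπ q _ (orbit_eq_iff.2 hx ▸ hap (π.symm z))
    · obtain ⟨q, rfl⟩ := eq.surjective q
      have hiff : ∀ x, π x ∈ orbit (B.map ι) (eq q).out ↔ x ∈ orbit (A.map ι) q.out := fun x =>
        ⟨fun h => by simpa using hπinv q _ h, hπ q x⟩
      have hA1 : ∀ x, x ∈ orbit (A.map ι) q.out → (π⁻¹ * τ * π) x = a x := by
        intro x hx
        show π.symm (τ (π x)) = a x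
        rw [hτ1 _ ((hiff x).2 hx)]
        simp
      have hA2 : ∀ x, x ∉ orbit (A.map ι) q.out → (π⁻¹ * τ * π) x = x := by
        intro x hx
        show π.symm (τ (π x)) = x
        rw [hτ2 _ (fun h => hx ((hiff x).1 h))]
        simp
      obtain ⟨hs, h4⟩ := hag q _ hA1 hA2
      refine ⟨?_, fun hk => ?_⟩
      · rwa [map_mul, map_mul, Equiv.Perm.sign_inv, hπs, one_mul, mul_one] at hs
      · have := h4 ((heq q).symm.trans hk)
        calc τ * τ = π * (π⁻¹ * τ * π * (π⁻¹ * τ * π)) * π⁻¹ := by group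
          _ = 1 := by rw [this, mul_one, mul_inv_cancel]
  have heq' : (A.map ι).map (MulAut.conj π).toMonoidHom = B.map ι := Subgroup.eq_of_le_of_card_ge hconj (by
    rw [Subgroup.card_map_of_injective (f := (MulAut.conj π).toMonoidHom) (MulAut.conj π).injective, hvA, hvB])
  refine ⟨⟨π, Equiv.Perm.mem_alternatingGroup.mpr hπs⟩, Subgroup.map_injective (f := ι) Subtype.val_injective ?_⟩
  rw [← heq']
  ext x
  constructor
  · rintro ⟨_, ⟨c, hc, rfl⟩, rfl⟩
    exact ⟨_, ⟨c, hc, rfl⟩, rfl⟩
  · rintro ⟨_, ⟨c, hc, rfl⟩, rfl⟩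
    exact ⟨_, ⟨c, hc, rfl⟩, rfl⟩

end Cfsg.Agent.S2506
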