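import Cfsg.Statements.S2508
import Cfsg.Agent.Lib.PSL2.CentralizerSizes

set_option autoImplicit false
open Cfsg Matrix
open scoped MatrixGroups

namespace Cfsg.Agent.S2508

/-- Let F be a finite field with q elements, q odd and q ≥ 7. If q ≡ 1 (mod 4) the conjugacy class sizes of PSL(2,F) are exactly 1, (q² − 1)/2, q(q + 1)/2, q(q − 1) and q(q + 1); if q ≡ 3 (mod 4) they are exactly 1, (q² − 1)/2, q(q − 1)/2, q(q + 1) and q(q − 1). -/
theorem result {F : Type*} [Field F] [Fintype F]
    (hodd : ¬ 2 ∣ Fintype.card F) (h7 : 7 ≤ Fintype.card F) :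
    (Fintype.card F % 4 = 1 →
      Set.range (fun g : (Matrix.ProjectiveSpecialLinearGroup (Fin 2) F) => (Subgroup.centralizer ({g} : Set (Matrix.ProjectiveSpecialLinearGroup (Fin 2) F))).index) =
        {1, (Fintype.card F ^ 2 - 1) / 2, Fintype.card F * (Fintype.card F + 1) / 2,
          Fintype.card F * (Fintype.card F - 1), Fintype.card F * (Fintype.card F + 1)}) ∧
    (Fintype.card F % 4 = 3 →
      Set.range (fun g : (Matrix.ProjectiveSpecialLinearGroup (Fin 2) F) => (Subgroup.centralizer ({g} : Set (Matrix.ProjectiveSpecialLinearGroup (Fin 2) F))).index) =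
        {1, (Fintype.card F ^ 2 - 1) / 2, Fintype.card F * (Fintype.card F - 1) / 2,
          Fintype.card F * (Fintype.card F + 1), Fintype.card F * (Fintype.card F - 1)}) := by
  have ho : Odd (Fintype.card F) := Nat.odd_iff.2 (by omega)
  have h2 := Cfsg.Agent.PSL2.odd_card_iff.1 ho
  have hsq := Cfsg.Agent.PSL2.q_sq_sub_one (F := F)
  constructor <;> intro hm
  · have hc : ∀ x : PSL(2, F), orderOf x = 2 →
        Nat.card (Subgroup.centralizer ({x} : Set PSL(2, F))) = Fintype.card F - 1 := fun x hx =>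
      (Cfsg.Agent.PSL2.card_centralizer_involution h2 hx).1 hm
    obtain ⟨m, hm'⟩ : 2 ∣ Fintype.card F * (Fintype.card F + 1) :=
      Dvd.dvd.mul_left ⟨(Fintype.card F + 1) / 2, by omega⟩ _
    refine Cfsg.Agent.PSL2.class_sizes_odd h2 h7 hc (by omega) ?_
    rw [hm', Nat.mul_div_cancel_left _ two_pos, hsq, ← mul_assoc, ← hm']
    ring
  · have hc : ∀ x : PSL(2, F), orderOf x = 2 →
        Nat.card (Subgroup.centralizer ({x} : Set PSL(2, F))) = Fintype.card F + 1 := fun x hx =>
      (Cfsg.Agent.PSL2.card_centralizer_involution h2 hx).2 hm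
    obtain ⟨m, hm'⟩ : 2 ∣ Fintype.card F * (Fintype.card F - 1) :=
      Dvd.dvd.mul_left ⟨(Fintype.card F - 1) / 2, by omega⟩ _
    rw [Cfsg.Agent.PSL2.class_sizes_odd h2 h7 hc (by omega)
      (N := Fintype.card F * (Fintype.card F - 1) / 2)]
    · ext n
      simp only [Set.mem_insert_iff, Set.mem_singleton_iff]
      tauto
    · rw [hm', Nat.mul_div_cancel_left _ two_pos, hsq, ← mul_assoc, ← hm']
      ring

end Cfsg.Agent.S2508
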