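import Cfsg.Statements.S2512
import Cfsg.Agent.Lib.GL.SympOrders

set_option autoImplicit false
open Cfsg

namespace Cfsg.Agent.S2512

open Matrix Polynomial
open Cfsg.Agent.GL

variable {F : Type*} [Field F] [Fintype F] {n : ℕ}

local notation "π" => QuotientGroup.mk' (Subgroup.center (Matrix.symplecticGroup (Fin n) F))

omit [Fintype F] in
theorem pres_of_mem (g : Matrix.symplecticGroup (Fin n) F) :
    Preserves (sympForm n F) (g : Matrix (Fin n ⊕ Fin n) (Fin n ⊕ Fin n) F) :=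
  mem_symplectic_iff_preserves.1 g.2

/-- An element of the symplectic group from a matrix. -/
def mkSp (A : Matrix (Fin n ⊕ Fin n) (Fin n ⊕ Fin n) F) (h : Preserves (sympForm n F) A) :
    Matrix.symplecticGroup (Fin n) F :=
  ⟨A, mem_symplectic_iff_preserves.2 h⟩

omit [Fintype F] in
theorem coe_pow_Sp (g : Matrix.symplecticGroup (Fin n) F) (k : ℕ) :
    ((g ^ k : Matrix.symplecticGroup (Fin n) F) : Matrix (Fin n ⊕ Fin n) (Fin n ⊕ Fin n) F) =
      (g : Matrix (Fin n ⊕ Fin n) (Fin n ⊕ Fin n) F) ^ k := by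
  rw [SubmonoidClass.coe_pow]

omit [Fintype F] in
theorem psp_pow_eq_one_iff (g : Matrix.symplecticGroup (Fin n) F) (k : ℕ) :
    (π g : Cfsg.PSp n F) ^ k = 1 ↔ ∃ c : F, (g : Matrix (Fin n ⊕ Fin n) (Fin n ⊕ Fin n) F) ^ k = c • 1 := by
  rw [← map_pow, QuotientGroup.mk'_apply, QuotientGroup.eq_one_iff, ← coe_pow_Sp]
  constructor
  · exact symp_center_scalar _
  · rintro ⟨c, hc⟩
    refine Subgroup.mem_center_iff.2 fun x => Subtype.ext ?_
    simp only [Submonoid.coe_mul, Subgroup.coe_mul]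
    rw [hc]
    simp

/-- `N` divides the order of an element of even order. -/
def Good (F : Type*) [Field F] (n N : ℕ) : Prop :=
  ∃ y : Cfsg.PSp n F, N ∣ orderOf y ∧ 2 ∣ orderOf y

omit [Fintype F] in
theorem Good.mono {N N' : ℕ} (h : Good F n N') (hd : N ∣ N') : Good F n N :=
  let ⟨y, h1, h2⟩ := h
  ⟨y, hd.trans h1, h2⟩

omit [Fintype F] in
theorem good_of_commute (g R : Matrix.symplecticGroup (Fin n) F) (hc : Commute g R) (hR : R ^ 2 = 1)
    (hns : ∀ c : F, (R : Matrix (Fin n ⊕ Fin n) (Fin n ⊕ Fin n) F) ≠ c • 1) :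
    Good F n (orderOf (π g)) := by
  by_cases hd : 2 ∣ orderOf (π g)
  · exact ⟨π g, dvd_rfl, hd⟩
  have hoR : orderOf (π R) = 2 := by
    refine orderOf_eq_prime (by rw [← map_pow, hR, map_one]) fun h => ?_
    obtain ⟨c, hc'⟩ := (psp_pow_eq_one_iff R 1).1 (by rw [pow_one, h])
    exact hns c (by rwa [pow_one] at hc')
  refine ⟨π g * π R, ?_, ?_⟩ <;>
    rw [(hc.map (π)).orderOf_mul_eq_mul_orderOf_of_coprime
      (by rw [hoR]; exact (Nat.prime_two.coprime_iff_not_dvd.2 hd).symm), hoR]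
  · exact dvd_mul_right _ _
  · exact dvd_mul_left _ _

variable (p : ℕ) [Fact p.Prime] [CharP F p]

omit [Fintype F] in
include p in
theorem neg_one_ne_one' (hp2 : p ≠ 2) : (1 : F) ≠ -1 := by
  intro h
  have h2 : ((2 : ℕ) : F) = 0 := by push_cast; linear_combination h
  rw [CharP.cast_eq_zero_iff F p] at h2
  exact hp2 ((Nat.prime_dvd_prime_iff_eq Fact.out Nat.prime_two).1 h2)

omit [Fintype F] in
include p in
theorem good_block (hp2 : p ≠ 2) {d₁ d₂ : ℕ} (h : d₁ + d₂ = n) (h₁ : 0 < d₁) (h₂ : 0 < d₂)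
    (A₁ : Matrix (Fin d₁ ⊕ Fin d₁) (Fin d₁ ⊕ Fin d₁) F) (A₂ : Matrix (Fin d₂ ⊕ Fin d₂) (Fin d₂ ⊕ Fin d₂) F)
    (hp₁ : Preserves (sympForm d₁ F) A₁) (hp₂ : Preserves (sympForm d₂ F) A₂) (k : ℕ)
    (hk : ∀ N (c : F), A₁ ^ N = c • 1 → A₂ ^ N = c • 1 → k ∣ N) : Good F n k := by
  have hsm : ∀ (d : ℕ) (s : F), s * s = 1 →
      Preserves (sympForm d F) (s • (1 : Matrix (Fin d ⊕ Fin d) (Fin d ⊕ Fin d) F)) := fun d s hs u v => by
    have hh := isReflexiveSesq_sympForm (F := F) d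
    rw [Matrix.smul_mulVec, Matrix.smul_mulVec, Matrix.one_mulVec, Matrix.one_mulVec, hh.smul_left,
      hh.smul_right, RingHom.id_apply, ← mul_assoc, hs, one_mul]
  let g := mkSp (sympBlock h (A₁, A₂)) (preserves_sympBlock h hp₁ hp₂)
  let R := mkSp (sympBlock h ((1 : F) • 1, (-1 : F) • 1))
    (preserves_sympBlock h (hsm _ 1 (one_mul 1)) (hsm _ (-1) (by ring)))
  refine (good_of_commute g R ?_ ?_ ?_).mono ?_
  · refine Subtype.ext ?_
    change sympBlock h (A₁, A₂) * sympBlock h ((1 : F) • 1, (-1 : F) • 1) =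
      sympBlock h ((1 : F) • 1, (-1 : F) • 1) * sympBlock h (A₁, A₂)
    rw [← map_mul, ← map_mul]
    simp
  · refine Subtype.ext ?_
    rw [coe_pow_Sp]
    change sympBlock h ((1 : F) • 1, (-1 : F) • 1) ^ 2 = 1
    rw [← map_pow, Prod.pow_mk, _root_.smul_pow, _root_.smul_pow, one_pow, one_pow, one_pow, neg_one_sq,
      one_smul, one_smul]
    exact map_one _
  · intro c hc
    obtain ⟨e1, e2⟩ := (sympBlock_eq_smul_one h _ c).1 hc
    have e1' := congrFun (congrFun e1 (Sum.inl ⟨0, h₁⟩)) (Sum.inl ⟨0, h₁⟩)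
    have e2' := congrFun (congrFun e2 (Sum.inl ⟨0, h₂⟩)) (Sum.inl ⟨0, h₂⟩)
    simp at e1' e2'
    exact neg_one_ne_one' p hp2 (e1'.trans e2'.symm)
  · obtain ⟨c, hc⟩ := (psp_pow_eq_one_iff g _).1 (pow_orderOf_eq_one (π g))
    have hc' : sympBlock h (A₁, A₂) ^ orderOf (π g) = c • 1 := hc
    rw [← map_pow] at hc'
    obtain ⟨e1, e2⟩ := (sympBlock_eq_smul_one h _ c).1 hc'
    exact hk _ c e1 e2

/-- The two torus exponents of `PSp n q`; `oddTorus` is the odd one. -/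
def oddTorus (q n : ℕ) : ℕ := if q ^ n % 4 = 1 then (q ^ n + 1) / 2 else (q ^ n - 1) / 2

include p in
theorem p_dvd_card : p ∣ Fintype.card F :=
  (CharP.cast_eq_zero_iff F p _).1 (Nat.cast_card_eq_zero F)

include p in
theorem odd_card (hp2 : p ≠ 2) : Odd (Fintype.card F) := by
  obtain ⟨a, hp, ha⟩ := FiniteField.card F p
  rw [ha]
  exact (hp.odd_of_ne_two hp2).pow

/-- `A ^ (L * p ^ e)` is scalar if the root has `α ^ (2 * L) = 1`. -/
theorem symp_pow_eq_scalar {f : F[X]} (hf : Irreducible f) {A : Matrix (Fin n ⊕ Fin n) (Fin n ⊕ Fin n) F}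
    {m e L : ℕ} (hL : 0 < L) (hm : m ≤ p ^ e)
    (horb : minpoly F A ∣ f ^ m ∨
      (IsCoprime f (conjRev (RingHom.id F) f) ∧ minpoly F A ∣ (f * conjRev (RingHom.id F) f) ^ m))
    (h : AdjoinRoot.root f ^ (2 * L) = 1) : ∃ c : F, A ^ (L * p ^ e) = c • 1 := by
  have := Fact.mk hf
  obtain ⟨c, hc, hfc⟩ : ∃ c : F, c * c = 1 ∧ f ∣ X ^ L - C c := by
    rcases sq_eq_one_iff.1 (show (AdjoinRoot.root f ^ L) ^ 2 = 1 by rw [← pow_mul, mul_comm]; exact h) with h1 | h1
    · exact ⟨1, one_mul 1, by rw [← AdjoinRoot.mk_eq_zero]; simp [h1]⟩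
    · exact ⟨-1, by ring, by rw [← AdjoinRoot.mk_eq_zero]; simp [h1]⟩
  exact isometry_pow_eq_scalar (isReflexiveSesq_sympForm n) hL hm horb (by simpa using hc) hfc

theorem classify (hp2 : p ≠ 2) (hn : 0 < n) (g : Matrix.symplecticGroup (Fin n) F) :
    Good F n (orderOf (π g)) ∨ orderOf (π g) ∣ p ^ Nat.clog p (2 * n) ∨
      orderOf (π g) ∣ (Fintype.card F ^ n + 1) / 2 ∨ orderOf (π g) ∣ (Fintype.card F ^ n - 1) / 2 := by
  have : Nonempty (Fin n ⊕ Fin n) := ⟨Sum.inl ⟨0, hn⟩⟩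
  have hh := isReflexiveSesq_sympForm (F := F) n
  set A : Matrix (Fin n ⊕ Fin n) (Fin n ⊕ Fin n) F := (g : Matrix (Fin n ⊕ Fin n) (Fin n ⊕ Fin n) F) with hA
  have hdet : IsUnit A.det := SymplecticGroup.symplectic_det g.2
  have hp := (Fact.out : p.Prime).one_lt
  have hqodd := odd_card (F := F) p hp2
  set q := Fintype.card F with hq
  have hq1 : 1 < q := Fintype.one_lt_card
  have hord : ∀ k, (∃ c : F, A ^ k = c • 1) → orderOf (π g) ∣ k := fun k hk =>
    orderOf_dvd_of_pow_eq_one ((psp_pow_eq_one_iff g k).2 hk)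
  have hpow1 : ∀ e, 2 * ((q ^ e + 1) / 2) = q ^ e + 1 := fun e =>
    Nat.two_mul_div_two_of_even ((hqodd.pow).add_one)
  have hpow2 : ∀ e, 2 * ((q ^ e - 1) / 2) = q ^ e - 1 := fun e =>
    Nat.two_mul_div_two_of_even (Nat.Odd.sub_odd hqodd.pow odd_one)
  have hcop1 : ∀ e, 0 < e → Nat.Coprime (q ^ e + 1) p := fun e he => by
    rw [Nat.coprime_comm, (Fact.out : p.Prime).coprime_iff_not_dvd]
    intro h
    exact (Fact.out : p.Prime).ne_one (Nat.dvd_one.1 ((Nat.dvd_add_right (dvd_pow (p_dvd_card p) he.ne')).1 h))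
  have hcop2 : ∀ e, 0 < e → Nat.Coprime (q ^ e - 1) p := fun e he => by
    rw [Nat.coprime_comm, (Fact.out : p.Prime).coprime_iff_not_dvd]
    intro h
    have := Nat.dvd_sub (dvd_pow (p_dvd_card (F := F) p) he.ne') h
    rw [Nat.sub_sub_self (Nat.one_le_pow _ _ (by omega)), Nat.dvd_one] at this
    exact (Fact.out : p.Prime).ne_one this
  rcases isometry_cases hh (pres_of_mem g) hdet.ne_zero with
    ⟨d₁, d₂, h₁, h₂, h, hR⟩ | ⟨f, m, hfm, hf, hf0, hm, hfA, hcase⟩
  · left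
    obtain ⟨R, hRA, hRp, -, hRns, hRpow⟩ := hR 1 (-1) (by simp) (by simp)
    exact good_of_commute g (mkSp R hRp) (Subtype.ext hRA.symm)
      (Subtype.ext (by rw [coe_pow_Sp]; exact hRpow 2 (one_pow 2) (by ring))) fun c hc =>
        neg_one_ne_one' p hp2 (hRns c hc)
  have hd0 := hf.natDegree_pos
  have hcard : Fintype.card (Fin n ⊕ Fin n) = 2 * n := by simp [two_mul]
  rw [hcard] at hcase
  have key : ∀ e, 0 < e → e < n → 2 * e * m ≤ 2 * n → m ≤ 2 * (n - e) := fun e he hen hem => by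
    rcases Nat.lt_or_ge m 2 with h | h
    · omega
    · have : 2 * e + m ≤ 2 * e * m := Nat.add_le_mul (by omega) h
      omega
  rcases hcase with ⟨hself, hμ, hdm⟩ | ⟨hco, hμ, -, hdm⟩
  · rcases root_pow_of_self_rev hfm hf hf0 hself with ⟨hd1, hsq⟩ | ⟨e, he, hde, hpow⟩
    · right; left
      refine hord _ ?_
      have := symp_pow_eq_scalar p hf (A := A) (L := 1) (e := Nat.clog p (2 * n)) (m := m) one_pos
        (((Nat.le_mul_of_pos_left m hd0).trans hdm).trans (Nat.le_pow_clog hp _)) (Or.inl hμ) (by simpa using hsq)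
      rwa [one_mul] at this
    rw [hde] at hdm
    rw [← hq] at hpow
    have hen : e ≤ n := by have := Nat.le_mul_of_pos_right (2 * e) hm; omega
    rcases Nat.lt_or_ge e n with hlt | hge
    · left
      obtain ⟨Z, hZp, hZpow, -⟩ := exists_nonsplit_torus_symp (F := F) hqodd he
      obtain ⟨J, hJp, hJ⟩ := exists_symp_jordan (F := F) p hp2 (show 0 < n - e by omega)
      refine (good_block p hp2 (show e + (n - e) = n by omega) he (by omega) Z J hZp hJp
        ((q ^ e + 1) * p ^ Nat.clog p (2 * (n - e))) ?_).mono ?_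
      · intro N c h1 h2
        obtain ⟨rfl, h3⟩ := hJ N c h2
        rw [one_smul] at h1
        exact ((hcop1 e he).pow_right _).mul_dvd_of_dvd_of_dvd ((hZpow N).1 h1) h3
      · refine (hord _ (symp_pow_eq_scalar p hf (L := (q ^ e + 1) / 2) ?_ ((key e he hlt hdm).trans
          (Nat.le_pow_clog hp _)) (Or.inl hμ) ?_)).trans (mul_dvd_mul_right ⟨2, by rw [mul_comm, hpow1]⟩ _)
        · have := hpow1 e; omega
        · rw [hpow1]; exact hpow
    · right; right; left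
      have hen' : e = n := le_antisymm hen hge
      subst hen'
      have hm1 : m = 1 := by
        by_contra h
        have := Nat.mul_le_mul_left (2 * e) (show 2 ≤ m by omega)
        omega
      refine hord _ ?_
      have := symp_pow_eq_scalar p hf (A := A) (L := (q ^ e + 1) / 2) (e := 0) (m := m) (by have := hpow1 e; omega)
        (by rw [hm1, pow_zero]) (Or.inl hμ) (by rw [hpow1]; exact hpow)
      rwa [pow_zero, mul_one] at this
  · have hroot0 : AdjoinRoot.root f ≠ 0 := fun h0 => hf0 (by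
      have hX : f ∣ X := AdjoinRoot.mk_eq_zero.1 (by rw [AdjoinRoot.mk_X, h0])
      have := (hf.associated_of_dvd Polynomial.irreducible_X hX).symm.dvd
      rwa [X_dvd_iff] at this)
    have hpow := root_pow_normIndex_mul hfm hf hroot0
    rw [normIndex_mul, ← hq] at hpow
    set d := f.natDegree with hd
    have hdn : d ≤ n := by have := Nat.le_mul_of_pos_right (2 * d) hm; omega
    rcases Nat.lt_or_ge d n with hlt | hge
    · left
      obtain ⟨Z, hZp, hZpow, -⟩ := exists_split_torus_symp (F := F) hd0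
      obtain ⟨J, hJp, hJ⟩ := exists_symp_jordan (F := F) p hp2 (show 0 < n - d by omega)
      refine (good_block p hp2 (show d + (n - d) = n by omega) hd0 (by omega) Z J hZp hJp
        ((q ^ d - 1) * p ^ Nat.clog p (2 * (n - d))) ?_).mono ?_
      · intro N c h1 h2
        obtain ⟨rfl, h3⟩ := hJ N c h2
        rw [one_smul] at h1
        exact ((hcop2 d hd0).pow_right _).mul_dvd_of_dvd_of_dvd ((hZpow N).1 h1) h3
      · refine (hord _ (symp_pow_eq_scalar p hf (L := (q ^ d - 1) / 2) ?_ ((key d hd0 hlt hdm).trans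
          (Nat.le_pow_clog hp _)) (Or.inr ⟨hco, hμ⟩) ?_)).trans (mul_dvd_mul_right ⟨2, by rw [mul_comm, hpow2]⟩ _)
        · have := hpow2 d; have := Nat.one_lt_pow hd0.ne' hq1; omega
        · rw [hpow2]; exact hpow
    · right; right; right
      have hdn' : d = n := le_antisymm hdn hge
      have hm1 : m = 1 := by
        rw [hdn'] at hdm
        by_contra h
        have := Nat.mul_le_mul_left (2 * n) (show 2 ≤ m by omega)
        omega
      refine hord _ ?_
      rw [hdn'] at hpow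
      have := symp_pow_eq_scalar p hf (A := A) (L := (q ^ n - 1) / 2) (e := 0) (m := m)
        (by have := hpow2 n; have := Nat.one_lt_pow hn.ne' hq1; omega)
        (by rw [hm1, pow_zero]) (Or.inr ⟨hco, hμ⟩) (by rw [hpow2]; exact hpow)
      rwa [pow_zero, mul_one] at this

omit [Fact p.Prime] [CharP F p] in
theorem exists_tori (hodd : Odd (Fintype.card F)) (hn : 0 < n) :
    (∃ y : Cfsg.PSp n F, (Fintype.card F ^ n + 1) / 2 ∣ orderOf y) ∧
      ∃ y : Cfsg.PSp n F, (Fintype.card F ^ n - 1) / 2 ∣ orderOf y := by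
  constructor
  · obtain ⟨Z, hp, -, hZ⟩ := exists_nonsplit_torus_symp (F := F) hodd hn
    refine ⟨π (mkSp Z hp), ?_⟩
    obtain ⟨c, hc⟩ := (psp_pow_eq_one_iff (mkSp Z hp) _).1 (pow_orderOf_eq_one (π (mkSp Z hp)))
    have hc' : Z ^ orderOf (π (mkSp Z hp)) = c • 1 := hc
    have := hZ _ c hc' (symp_scalar_sq hn (hc' ▸ hp.pow _))
    rw [← Nat.two_mul_div_two_of_even ((hodd.pow (n := n)).add_one), mul_comm _ 2] at this
    exact (Nat.mul_dvd_mul_iff_left two_pos).1 this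
  · obtain ⟨Z, hp, -, hZ⟩ := exists_split_torus_symp (F := F) hn
    refine ⟨π (mkSp Z hp), ?_⟩
    obtain ⟨c, hc⟩ := (psp_pow_eq_one_iff (mkSp Z hp) _).1 (pow_orderOf_eq_one (π (mkSp Z hp)))
    have hc' : Z ^ orderOf (π (mkSp Z hp)) = c • 1 := hc
    have := hZ _ c hc' (symp_scalar_sq hn (hc' ▸ hp.pow _))
    rw [← Nat.two_mul_div_two_of_even (Nat.Odd.sub_odd (hodd.pow (n := n)) odd_one), mul_comm _ 2] at this
    exact (Nat.mul_dvd_mul_iff_left two_pos).1 this

theorem exists_unipotent (hp2 : p ≠ 2) (hn : 0 < n) :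
    ∃ y : Cfsg.PSp n F, p ^ Nat.clog p (2 * n) ∣ orderOf y := by
  obtain ⟨J, hp, hJ⟩ := exists_symp_jordan (F := F) p hp2 hn
  refine ⟨π (mkSp J hp), ?_⟩
  obtain ⟨c, hc⟩ := (psp_pow_eq_one_iff (mkSp J hp) _).1 (pow_orderOf_eq_one (π (mkSp J hp)))
  exact (hJ _ c hc).2

theorem good_unipotent (hp2 : p ≠ 2) (hn : 2 ≤ n) (h : ¬ ∃ j : ℕ, 2 * n - 1 = p ^ j) :
    Good F n (p ^ Nat.clog p (2 * n)) := by
  obtain ⟨J, hJp, hJ⟩ := exists_symp_jordan (F := F) p hp2 (show 0 < n - 1 by omega)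
  have hp := (Fact.out : p.Prime).one_lt
  have hle : Nat.clog p (2 * n) ≤ Nat.clog p (2 * (n - 1)) := by
    have h1 := Nat.le_pow_clog hp (2 * (n - 1))
    refine Nat.clog_le_of_le_pow ?_
    have h3 : Odd (p ^ Nat.clog p (2 * (n - 1))) := ((Fact.out : p.Prime).odd_of_ne_two hp2).pow
    rw [Nat.odd_iff] at h3
    by_contra h2
    exact h ⟨Nat.clog p (2 * (n - 1)), by omega⟩
  exact good_block p hp2 (show 1 + (n - 1) = n by omega) one_pos (by omega) 1 J
    (fun u v => by rw [Matrix.one_mulVec, Matrix.one_mulVec]) hJp _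
    fun N c _ h2 => (pow_dvd_pow p hle).trans (hJ N c h2).2

omit [Fintype F] in
include p in
theorem good_one (hp2 : p ≠ 2) (hn : 2 ≤ n) : Good F n 1 :=
  good_block p hp2 (show 1 + (n - 1) = n by omega) one_pos (by omega) 1 1
    (fun u v => by rw [Matrix.one_mulVec, Matrix.one_mulVec])
    (fun u v => by rw [Matrix.one_mulVec, Matrix.one_mulVec]) 1 fun _ _ _ _ => one_dvd _

/-- Adding a direct factor does not change the orders. -/
theorem range_eq {G H : Type*} [Group G] [Finite G] [Group H]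
    (f : G → H) (hf : ∀ x, orderOf (f x) = orderOf x)
    (h : ∀ z : H, ∃ y : G, orderOf z ∣ orderOf y) :
    Set.range (orderOf : H → ℕ) = Set.range (orderOf : G → ℕ) := by
  refine Set.Subset.antisymm ?_ ?_
  · rintro _ ⟨z, rfl⟩
    obtain ⟨y, hy⟩ := h z
    exact ⟨y ^ (orderOf y / orderOf z), orderOf_pow_orderOf_div (orderOf_pos y).ne' hy⟩
  · rintro _ ⟨x, rfl⟩
    exact ⟨f x, hf x⟩

theorem orderOf_dvd_prime {m : ℕ} (e : Multiplicative (Fin m → ZMod 2)) : orderOf e ∣ 2 := by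
  refine orderOf_dvd_of_pow_eq_one ?_
  apply Multiplicative.toAdd.injective
  rw [toAdd_pow, toAdd_one]
  funext i
  rw [Pi.smul_apply, nsmul_eq_mul, ZMod.natCast_self, zero_mul, Pi.zero_apply]

/-- Let F be a finite field of odd order q = p^a, n ≥ 2 (with q ≥ 3 automatic), and L = PSp(2n, F). Then for every m the direct product L × L × L × (ℤ/2)^m has the same set of element orders as L × L × L; and if 2n − 1 is not a power of p, then already L × L × (ℤ/2)^m has the same set of element orders as L × L. -/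
theorem result {F : Type*} [Field F] [Fintype F] (p a n m : ℕ) (hp : p.Prime) (ha : 1 ≤ a) (hF : Fintype.card F = p ^ a) (hodd : Odd (Fintype.card F))
    (hn : 2 ≤ n) :
    Set.range (orderOf : Cfsg.PSp n F × Cfsg.PSp n F × Cfsg.PSp n F × Multiplicative (Fin m → ZMod 2) → ℕ) = Set.range (orderOf : Cfsg.PSp n F × Cfsg.PSp n F × Cfsg.PSp n F → ℕ) ∧
    ((¬ ∃ j : ℕ, 2 * n - 1 = p ^ j) →
      Set.range (orderOf : Cfsg.PSp n F × Cfsg.PSp n F × Multiplicative (Fin m → ZMod 2) → ℕ) = Set.range (orderOf : Cfsg.PSp n F × Cfsg.PSp n F → ℕ)) := by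
  classical
  have : Fact p.Prime := ⟨hp⟩
  have : CharP F p := charP_of_card_eq_prime_pow hF
  have hp2 : p ≠ 2 := by
    rintro rfl
    exact (Nat.not_even_iff_odd.2 hodd) (hF ▸ even_two.pow_of_ne_zero (by omega))
  obtain ⟨⟨yP, hyP⟩, yM, hyM⟩ := exists_tori (F := F) (n := n) hodd (by omega)
  obtain ⟨zP, hzP⟩ := exists_unipotent (F := F) (n := n) p hp2 (by omega)
  obtain ⟨y₁, -, hy₁⟩ := good_one (F := F) (n := n) p hp2 hn
  -- the torus of even order is harmless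
  obtain ⟨zM, hzM⟩ : ∃ z : Cfsg.PSp n F, oddTorus (Fintype.card F) n ∣ orderOf z := by
    unfold oddTorus
    split_ifs
    · exact ⟨yP, hyP⟩
    · exact ⟨yM, hyM⟩
  have cl : ∀ x : Cfsg.PSp n F, Good F n (orderOf x) ∨
      orderOf x ∣ p ^ Nat.clog p (2 * n) ∨ orderOf x ∣ oddTorus (Fintype.card F) n := by
    intro x
    obtain ⟨g, rfl⟩ := QuotientGroup.mk'_surjective _ x
    have hq2 := Nat.odd_iff.1 (hodd.pow (n := n))
    rcases classify p hp2 (by omega) g with h | h | h | h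
    · exact Or.inl h
    · exact Or.inr (Or.inl h)
    · unfold oddTorus
      split_ifs with h4
      · exact Or.inr (Or.inr h)
      · exact Or.inl ⟨yP, h.trans hyP, (Nat.dvd_of_mod_eq_zero (by omega)).trans hyP⟩
    · unfold oddTorus
      split_ifs with h4
      · exact Or.inl ⟨yM, h.trans hyM, (Nat.dvd_of_mod_eq_zero (by omega)).trans hyM⟩
      · exact Or.inr (Or.inr h)
  constructor
  · refine range_eq (fun x => (x.1, x.2.1, x.2.2, 1)) (fun x => by
      simp [Prod.orderOf, orderOf_one, Nat.lcm_one_right]) ?_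
    rintro ⟨a, b, c, e⟩
    suffices h : ∃ u v w : Cfsg.PSp n F,
        ∀ N, orderOf u ∣ N → orderOf v ∣ N → orderOf w ∣ N →
          orderOf a ∣ N ∧ orderOf b ∣ N ∧ orderOf c ∣ N ∧ 2 ∣ N by
      obtain ⟨u, v, w, h⟩ := h
      obtain ⟨h1, h2, h3, h4⟩ := h (orderOf (u, v, w))
        (by rw [Prod.orderOf]; exact Nat.dvd_lcm_left _ _)
        (by rw [Prod.orderOf, Prod.orderOf]; exact (Nat.dvd_lcm_left _ _).trans (Nat.dvd_lcm_right _ _))
        (by rw [Prod.orderOf, Prod.orderOf]; exact (Nat.dvd_lcm_right _ _).trans (Nat.dvd_lcm_right _ _))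
      refine ⟨(u, v, w), ?_⟩
      rw [Prod.orderOf, Prod.orderOf (x := (b, c, e)), Prod.orderOf (x := (c, e))]
      exact Nat.lcm_dvd h1 (Nat.lcm_dvd h2 (Nat.lcm_dvd h3 ((orderOf_dvd_prime e).trans h4)))
    rcases cl a with ⟨y, hy1, hy2⟩ | ha
    · exact ⟨y, b, c, fun N h1 h2 h3 => ⟨hy1.trans h1, h2, h3, hy2.trans h1⟩⟩
    rcases cl b with ⟨y, hy1, hy2⟩ | hb
    · exact ⟨a, y, c, fun N h1 h2 h3 => ⟨h1, hy1.trans h2, h3, hy2.trans h2⟩⟩
    rcases cl c with ⟨y, hy1, hy2⟩ | hc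
    · exact ⟨a, b, y, fun N h1 h2 h3 => ⟨h1, h2, hy1.trans h3, hy2.trans h3⟩⟩
    refine ⟨zM, zP, y₁, fun N h1 h2 h3 => ?_⟩
    have key : ∀ {k : ℕ}, k ∣ p ^ Nat.clog p (2 * n) ∨ k ∣ oddTorus (Fintype.card F) n → k ∣ N := by
      rintro k (h | h)
      · exact h.trans (hzP.trans h2)
      · exact h.trans (hzM.trans h1)
    exact ⟨key ha, key hb, key hc, hy₁.trans h3⟩
  · intro hnp
    have cl2 : ∀ x : Cfsg.PSp n F, Good F n (orderOf x) ∨
        orderOf x ∣ oddTorus (Fintype.card F) n := by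
      intro x
      rcases cl x with h | h | h
      · exact Or.inl h
      · exact Or.inl ((good_unipotent p hp2 hn hnp).mono h)
      · exact Or.inr h
    refine range_eq (fun x => (x.1, x.2, 1)) (fun x => by
      simp [Prod.orderOf, orderOf_one, Nat.lcm_one_right]) ?_
    rintro ⟨a, b, e⟩
    suffices h : ∃ u v : Cfsg.PSp n F,
        ∀ N, orderOf u ∣ N → orderOf v ∣ N → orderOf a ∣ N ∧ orderOf b ∣ N ∧ 2 ∣ N by
      obtain ⟨u, v, h⟩ := h
      obtain ⟨h1, h2, h4⟩ := h (orderOf (u, v))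
        (by rw [Prod.orderOf]; exact Nat.dvd_lcm_left _ _)
        (by rw [Prod.orderOf]; exact Nat.dvd_lcm_right _ _)
      refine ⟨(u, v), ?_⟩
      rw [Prod.orderOf, Prod.orderOf (x := (b, e))]
      exact Nat.lcm_dvd h1 (Nat.lcm_dvd h2 ((orderOf_dvd_prime e).trans h4))
    rcases cl2 a with ⟨y, hy1, hy2⟩ | ha
    · exact ⟨y, b, fun N h1 h2 => ⟨hy1.trans h1, h2, hy2.trans h1⟩⟩
    rcases cl2 b with ⟨y, hy1, hy2⟩ | hb
    · exact ⟨a, y, fun N h1 h2 => ⟨h1, hy1.trans h2, hy2.trans h2⟩⟩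
    exact ⟨zM, y₁, fun N h1 h2 => ⟨ha.trans (hzM.trans h1), hb.trans (hzM.trans h1), hy₁.trans h2⟩⟩

end Cfsg.Agent.S2512
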