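import Cfsg.Statements.S2513
import Cfsg.Agent.Lib.GL.ElementOrders

set_option autoImplicit false
open Cfsg

namespace Cfsg.Agent.S2513

open Polynomial in
theorem exists_mul_two_pow_mem (n : ℕ) : ∀ d, 1 ≤ d → d ≤ n → ∃ D ∈ Finset.Ioc (n / 2) n, d ∣ D := by
  intro d h1 h2
  refine ⟨n / d * d, Finset.mem_Ioc.2 ⟨?_, Nat.div_mul_le_self n d⟩, dvd_mul_left d _⟩
  have hdm := Nat.div_add_mod n d
  have hmod := Nat.mod_lt n (by omega : d > 0)
  have h3 : 1 ≤ n / d := Nat.div_pos h2 (by omega)
  have h4 : d ≤ n / d * d := Nat.le_mul_of_pos_left d h3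
  rw [mul_comm] at hdm
  omega

theorem coprime_lcm_pow (n e : ℕ) :
    Nat.Coprime ((Finset.Ioc (n / 2) n).lcm fun d => 2 ^ d - 1) (2 ^ e) := by
  refine Nat.Coprime.pow_right e (Nat.Coprime.coprime_dvd_left (Finset.lcm_dvd_prod _ _) ?_)
  refine Nat.Coprime.prod_left fun d hd => ?_
  rw [Nat.coprime_two_right, Nat.odd_iff]
  have hd' : 0 < d := lt_of_le_of_lt (Nat.zero_le _) (Finset.mem_Ioc.1 hd).1
  obtain ⟨c, rfl⟩ := Nat.exists_eq_add_one_of_ne_zero hd'.ne'
  have := Nat.one_le_two_pow (n := c)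
  rw [pow_succ]
  omega

/-- Let F be the field with two elements, n ≥ 2, L = PSL(n, F) and k₀ = ⌊(n + 3)/2⌋. Then for every k ≥ k₀ the direct product of k copies of L has the same set of element orders as the direct product of k₀ copies of L. -/
theorem result {F : Type*} [Field F] [Fintype F] (hF : Fintype.card F = 2) (n k : ℕ) (hn : 2 ≤ n) (hk : (n + 3) / 2 ≤ k) :
    Set.range (orderOf : (Fin k → Matrix.ProjectiveSpecialLinearGroup (Fin n) F) → ℕ) = Set.range (orderOf : (Fin ((n + 3) / 2) → Matrix.ProjectiveSpecialLinearGroup (Fin n) F) → ℕ) := by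
  classical
  have hp : Fact (Nat.Prime 2) := ⟨Nat.prime_two⟩
  have : CharP F 2 := charP_of_card_eq_prime (R := F) hF
  have : NeZero n := ⟨by omega⟩
  have hsub : Subsingleton Fˣ := Fintype.card_le_one_iff_subsingleton.1 (by rw [Fintype.card_units, hF])
  let π : Matrix.SpecialLinearGroup (Fin n) F →* Matrix.ProjectiveSpecialLinearGroup (Fin n) F :=
    QuotientGroup.mk' _
  have hπ : Function.Injective π := by
    rw [injective_iff_map_eq_one]
    intro A hA
    obtain ⟨r, hr, hrA⟩ := Matrix.SpecialLinearGroup.mem_center_iff.1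
      ((QuotientGroup.eq_one_iff A).1 hA)
    have hr0 : r ≠ 0 := by
      rintro rfl
      rw [zero_pow (by simpa using (by omega : n ≠ 0))] at hr
      exact zero_ne_one hr
    have hr1 : r = 1 := congrArg Units.val (Subsingleton.elim (Units.mk0 r hr0) 1)
    apply Subtype.ext
    rw [← hrA, hr1, map_one, Matrix.SpecialLinearGroup.coe_one]
  have hdet : ∀ A : GL (Fin n) F, (A : Matrix (Fin n) (Fin n) F).det = 1 := fun A =>
    congrArg Units.val (Subsingleton.elim (Matrix.GeneralLinearGroup.det A) 1)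
  -- every element order of `GL` occurs in `PSL`
  have hlift : ∀ A : GL (Fin n) F, ∃ x : Matrix.ProjectiveSpecialLinearGroup (Fin n) F,
      orderOf x = orderOf A := fun A => by
    let B : Matrix.SpecialLinearGroup (Fin n) F := ⟨(A : Matrix (Fin n) (Fin n) F), hdet A⟩
    refine ⟨π B, ?_⟩
    rw [orderOf_injective π hπ B, ← orderOf_injective _ Matrix.SpecialLinearGroup.toGL_injective B]
    exact congrArg orderOf (Units.ext rfl)
  set e := Nat.clog 2 n
  set T := ((Finset.Ioc (n / 2) n).lcm fun d => 2 ^ d - 1) * 2 ^ e with hT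
  have hbound : ∀ x : Matrix.ProjectiveSpecialLinearGroup (Fin n) F, orderOf x ∣ T := by
    intro x
    obtain ⟨A, rfl⟩ := QuotientGroup.mk'_surjective _ x
    refine orderOf_dvd_of_pow_eq_one ?_
    rw [← map_pow]
    suffices h : A ^ T = 1 by rw [h, map_one]
    apply Matrix.SpecialLinearGroup.toGL_injective
    rw [map_pow, map_one]
    refine Cfsg.Agent.GL.pow_eq_one_of_exponent 2 ?_ ?_ _
    · simpa using Nat.le_pow_clog one_lt_two n
    · intro d h1 h2
      rw [hF]
      obtain ⟨D, hD, ⟨c, rfl⟩⟩ := exists_mul_two_pow_mem n d h1 (by simpa using h2)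
      refine dvd_trans ?_ (Finset.dvd_lcm hD)
      exact Nat.pow_sub_one_dvd_pow_sub_one 2 (dvd_mul_right d c)
  have key : ∀ j, (n + 3) / 2 ≤ j →
      Set.range (orderOf : (Fin j → Matrix.ProjectiveSpecialLinearGroup (Fin n) F) → ℕ) = {m | m ∣ T} := by
    intro j hj
    refine Set.Subset.antisymm ?_ ?_
    · rintro _ ⟨x, rfl⟩
      show orderOf x ∣ T
      rw [Pi.orderOf]
      exact Finset.lcm_dvd fun i _ => hbound _
    · have hx : ∀ i : Fin j, ∃ y : Matrix.ProjectiveSpecialLinearGroup (Fin n) F,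
          ((i : ℕ) < n - n / 2 → orderOf y = 2 ^ (n - i) - 1) ∧
          ((i : ℕ) = n - n / 2 → orderOf y = 2 ^ e) := by
        intro i
        by_cases hi : (i : ℕ) < n - n / 2
        · obtain ⟨A, hA⟩ := Cfsg.Agent.GL.exists_orderOf_card_pow_sub_one (F := F) (d := n - i) (n := n)
            (by omega) (by omega)
          obtain ⟨y, hy⟩ := hlift A
          exact ⟨y, fun _ => by rw [hy, hA, hF], fun h => absurd h (by omega)⟩
        · obtain ⟨A, hA⟩ := Cfsg.Agent.GL.exists_orderOf_unipotent (F := F) 2 n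
          obtain ⟨y, hy⟩ := hlift A
          exact ⟨y, fun h => absurd h hi, fun _ => hy.trans hA⟩
      choose x h1 h2 using hx
      have hTx : orderOf x = T := by
        refine Nat.dvd_antisymm (by rw [Pi.orderOf]; exact Finset.lcm_dvd fun i _ => hbound _) ?_
        refine (coprime_lcm_pow n e).mul_dvd_of_dvd_of_dvd (Finset.lcm_dvd fun d hd => ?_) ?_
        · obtain ⟨hd1, hd2⟩ := Finset.mem_Ioc.1 hd
          have h := h1 ⟨n - d, by omega⟩ (by simp only; omega)
          simp only [Nat.sub_sub_self hd2] at h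
          exact h ▸ orderOf_apply_dvd_orderOf _
        · exact h2 ⟨n - n / 2, by omega⟩ rfl ▸ orderOf_apply_dvd_orderOf _
      intro m hm
      exact ⟨x ^ (orderOf x / m), orderOf_pow_orderOf_div (orderOf_ne_zero_iff.2
        (isOfFinOrder_of_finite x)) (hTx ▸ hm)⟩
  rw [key k hk, key _ le_rfl]

end Cfsg.Agent.S2513
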