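import Cfsg.Statements.S2514
import Mathlib

set_option autoImplicit false
open Cfsg

namespace Cfsg.Agent.S2514

theorem exists_maximal_order {G : Type*} [Group G] [Finite G] (g : G) :
    ∃ m, (m ∈ Set.range (orderOf : G → ℕ) ∧ ∀ b ∈ Set.range (orderOf : G → ℕ), m ∣ b → b = m) ∧
      orderOf g ∣ m := by
  obtain ⟨x, hx1, hx2⟩ := Set.exists_max_image {x : G | orderOf g ∣ orderOf x} orderOf
    (Set.toFinite _) ⟨g, dvd_refl (orderOf g)⟩
  refine ⟨orderOf x, ⟨⟨x, rfl⟩, ?_⟩, hx1⟩
  rintro _ ⟨y, rfl⟩ hy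
  exact Nat.le_antisymm (hx2 y (dvd_trans hx1 hy)) (Nat.le_of_dvd (orderOf_pos y) hy)

theorem exists_orderOf_eq_of_dvd {G : Type*} [Group G] [Finite G] {m : ℕ} (x : G) (h : m ∣ orderOf x) :
    ∃ y : G, orderOf y = m :=
  ⟨x ^ (orderOf x / m), orderOf_pow_orderOf_div (orderOf_pos x).ne' h⟩

/-- For a finite group X write μ(X) for the set of element orders of X that are maximal under divisibility. Let G and H be finite groups and k ≥ 1 such that μ(H) ⊆ μ(G) and μ(G) has fewer than k elements outside μ(H). Then the direct product of k copies of G has the same set of element orders as the direct product of k − 1 copies of G with H. -/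
theorem result {G H : Type*} [Group G] [Finite G] [Group H] [Finite H] (k : ℕ) (hk : 1 ≤ k)
    (hsub : {n : ℕ | n ∈ Set.range (orderOf : H → ℕ) ∧ ∀ m ∈ Set.range (orderOf : H → ℕ), n ∣ m → m = n} ⊆ {n : ℕ | n ∈ Set.range (orderOf : G → ℕ) ∧ ∀ m ∈ Set.range (orderOf : G → ℕ), n ∣ m → m = n})
    (hfew : ({n : ℕ | n ∈ Set.range (orderOf : G → ℕ) ∧ ∀ m ∈ Set.range (orderOf : G → ℕ), n ∣ m → m = n} \ {n : ℕ | n ∈ Set.range (orderOf : H → ℕ) ∧ ∀ m ∈ Set.range (orderOf : H → ℕ), n ∣ m → m = n}).ncard < k) :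
    Set.range (orderOf : (Fin k → G) → ℕ) = Set.range (orderOf : (Fin (k - 1) → G) × H → ℕ) := by
  classical
  obtain ⟨k', rfl⟩ : ∃ k', k = k' + 1 := ⟨k - 1, by omega⟩
  change Set.range (orderOf : (Fin (k' + 1) → G) → ℕ) = Set.range (orderOf : (Fin k' → G) × H → ℕ)
  refine Set.Subset.antisymm ?_ ?_
  · rintro _ ⟨f, rfl⟩
    choose m hm hdvd using fun i => exists_maximal_order (f i)
    -- `j` is the dropped coordinate, `b` the element of `H`
    obtain ⟨j, b, hb⟩ : ∃ (j : Fin (k' + 1)) (b : H),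
        m j ∣ orderOf b ∨ ∃ i, i ≠ j ∧ m i = m j := by
      by_cases h : ∃ j, m j ∈ {n : ℕ | n ∈ Set.range (orderOf : H → ℕ) ∧
          ∀ m ∈ Set.range (orderOf : H → ℕ), n ∣ m → m = n}
      · obtain ⟨j, ⟨b, hb⟩, -⟩ := h
        exact ⟨j, b, Or.inl (dvd_of_eq hb.symm)⟩
      · push Not at h
        by_contra hne
        push Not at hne
        have hinj : Function.Injective m := fun a c hac => by
          by_contra hne'
          exact (hne c 1).2 a hne' hac
        have hfin : ({n : ℕ | n ∈ Set.range (orderOf : G → ℕ) ∧ ∀ m ∈ Set.range (orderOf : G → ℕ), n ∣ m → m = n} \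
            {n : ℕ | n ∈ Set.range (orderOf : H → ℕ) ∧ ∀ m ∈ Set.range (orderOf : H → ℕ), n ∣ m → m = n}).Finite :=
          (Set.finite_range _).subset fun x hx => hx.1.1
        have hle := Set.ncard_le_ncard (s := Set.range m)
          (by rintro _ ⟨i, rfl⟩; exact ⟨hm i, fun hh => h i hh⟩) hfin
        rw [Set.ncard_range_of_injective hinj, Nat.card_fin] at hle
        omega
    choose y hy using fun i => exists_orderOf_eq_of_dvd (hm i).1.choose
      (dvd_of_eq (hm i).1.choose_spec.symm : m i ∣ orderOf (hm i).1.choose)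
    let x : (Fin k' → G) × H := (fun i => y (j.succAbove i), b)
    refine exists_orderOf_eq_of_dvd x ?_
    have hi : ∀ i, i ≠ j → m i ∣ orderOf x := by
      intro i hi
      obtain ⟨i', rfl⟩ := Fin.exists_succAbove_eq hi
      rw [Prod.orderOf, ← hy (j.succAbove i')]
      exact (orderOf_apply_dvd_orderOf (x := x.1) i').trans (Nat.dvd_lcm_left _ _)
    rw [Pi.orderOf]
    refine Finset.lcm_dvd fun i _ => (hdvd i).trans ?_
    by_cases hij : i = j
    · subst hij
      rcases hb with hb | ⟨i', hne, heq⟩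
      · rw [Prod.orderOf]
        exact hb.trans (Nat.dvd_lcm_right _ _)
      · exact heq ▸ hi i' hne
    · exact hi i hij
  · rintro _ ⟨⟨f, b⟩, rfl⟩
    obtain ⟨m, hm, hmb⟩ := exists_maximal_order b
    obtain ⟨⟨a, ha⟩, -⟩ := hsub hm
    obtain ⟨a', ha'⟩ := exists_orderOf_eq_of_dvd a (ha ▸ hmb)
    refine exists_orderOf_eq_of_dvd (Fin.cons a' f : Fin (k' + 1) → G) ?_
    rw [Prod.orderOf]
    refine Nat.lcm_dvd ?_ ?_
    · rw [Pi.orderOf]
      exact Finset.lcm_dvd fun i _ =>
        orderOf_apply_dvd_orderOf (x := (Fin.cons a' f : Fin (k' + 1) → G)) i.succ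
    · exact ha' ▸ orderOf_apply_dvd_orderOf (x := (Fin.cons a' f : Fin (k' + 1) → G)) 0

end Cfsg.Agent.S2514
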