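import Cfsg.Statements.S2515
import Cfsg.Agent.Lib.PSL2.Classes
-- import your own Cfsg.Agent.* helpers here

set_option autoImplicit false
open Cfsg

namespace Cfsg.Agent.S2515

open Matrix Cfsg.Agent.PSL2
open scoped MatrixGroups

variable {F : Type*} [Field F] [CharP F 3]

local notation "σ" => frobenius F 3

/-- `X ↦ A X (A^σ)ᵀ` on `2 × 2` matrices. -/
def tw (A : SL(2, F)) (X : Matrix (Fin 2) (Fin 2) F) : Matrix (Fin 2) (Fin 2) F :=
  (A : Matrix (Fin 2) (Fin 2) F) * X * ((A : Matrix (Fin 2) (Fin 2) F).map σ)ᵀ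

theorem tw_one (X : Matrix (Fin 2) (Fin 2) F) : tw 1 X = X := by
  show (1 : Matrix (Fin 2) (Fin 2) F) * X * ((1 : Matrix (Fin 2) (Fin 2) F).map σ)ᵀ = X
  rw [one_mul, Matrix.map_one _ (map_zero _) (map_one _), transpose_one, mul_one]

theorem tw_mul (A B : SL(2, F)) (X : Matrix (Fin 2) (Fin 2) F) : tw (A * B) X = tw A (tw B X) := by
  show (A.1 * B.1) * X * ((A.1 * B.1).map σ)ᵀ = A.1 * (B.1 * X * (B.1.map σ)ᵀ) * (A.1.map σ)ᵀ
  rw [Matrix.map_mul, transpose_mul]
  simp only [mul_assoc]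

theorem tw_neg (A : SL(2, F)) (X : Matrix (Fin 2) (Fin 2) F) : tw (-A) X = tw A X := by
  simp [tw, SpecialLinearGroup.coe_neg, Matrix.map_neg _ (map_neg σ)]

/-- The action of `SL(2, F)` on the module. -/
def actSL : SL(2, F) →* MulAut (Multiplicative (Matrix (Fin 2) (Fin 2) F)) where
  toFun A :=
    { toFun := fun x => Multiplicative.ofAdd (tw A x.toAdd)
      invFun := fun x => Multiplicative.ofAdd (tw A⁻¹ x.toAdd)
      left_inv := fun x => by simp [← tw_mul, tw_one]
      right_inv := fun x => by simp [← tw_mul, tw_one]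
      map_mul' := fun x y => by simp [tw, mul_add, add_mul] }
  map_one' := MulEquiv.ext fun x => by simp [tw_one]
  map_mul' A B := MulEquiv.ext fun x => congrArg Multiplicative.ofAdd (tw_mul A B x.toAdd)

theorem actSL_center (A : SL(2, F)) (hA : A ∈ Subgroup.center SL(2, F)) : A ∈ (actSL (F := F)).ker := by
  have : mk A = 1 := (QuotientGroup.eq_one_iff A).2 hA
  rcases mk_eq_one.1 this with rfl | rfl <;> refine MulEquiv.ext fun x => ?_
  · simp
  · simp [actSL, tw_neg, tw_one]

/-- The signs. -/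
def actSign : ℤˣ →* MulAut (Multiplicative (Matrix (Fin 2) (Fin 2) F)) where
  toFun e :=
    { toFun := fun x => x ^ (e : ℤ)
      invFun := fun x => x ^ (e : ℤ)
      left_inv := fun x => by show (x ^ (e : ℤ)) ^ (e : ℤ) = x; rw [← _root_.zpow_mul, ← Units.val_mul, Int.units_mul_self, Units.val_one, zpow_one]
      right_inv := fun x => by show (x ^ (e : ℤ)) ^ (e : ℤ) = x; rw [← _root_.zpow_mul, ← Units.val_mul, Int.units_mul_self, Units.val_one, zpow_one]
      map_mul' := fun x y => mul_zpow x y _ }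
  map_one' := MulEquiv.ext fun x => by simp
  map_mul' e f := MulEquiv.ext fun x => by
    show x ^ ((e * f : ℤˣ) : ℤ) = (x ^ (f : ℤ)) ^ (e : ℤ)
    rw [← _root_.zpow_mul, Units.val_mul, mul_comm]

/-- The action of `{±1} × PSL(2, F)`. -/
noncomputable def act : ℤˣ × PSL(2, F) →* MulAut (Multiplicative (Matrix (Fin 2) (Fin 2) F)) :=
  MonoidHom.noncommCoprod actSign (QuotientGroup.lift _ actSL fun A hA => actSL_center A hA) fun e q =>
    MulEquiv.ext fun x => (map_zpow ((QuotientGroup.lift _ actSL fun A hA => actSL_center A hA) q) x (e : ℤ)).symm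

theorem act_mk (e : ℤˣ) (A : SL(2, F)) (x : Multiplicative (Matrix (Fin 2) (Fin 2) F)) :
    act (e, mk A) x = Multiplicative.ofAdd ((e : ℤ) • tw A x.toAdd) := rfl

theorem sq_eq_trace_smul (B : Matrix (Fin 2) (Fin 2) F) : B * B = B.trace • B - B.det • 1 := by
  ext i j
  fin_cases i <;> fin_cases j <;>
    simp [Matrix.mul_apply, Fin.sum_univ_two, Matrix.trace_fin_two, Matrix.det_fin_two] <;> ring

theorem tw_uu (X : Matrix (Fin 2) (Fin 2) F) :
    tw (uu 1) X = !![X 0 0 + X 0 1 + X 1 0 + X 1 1, X 0 1 + X 1 1; X 1 0 + X 1 1, X 1 1] := by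
  have h : ((uu (1 : F)).1.map σ)ᵀ = !![1, 0; 1, 1] := by
    ext i j; fin_cases i <;> fin_cases j <;> simp [uu]
  rw [tw, h]
  ext i j
  fin_cases i <;> fin_cases j <;> simp [uu, Matrix.mul_apply, Matrix.vecMul, dotProduct, Fin.sum_univ_two] <;> ring

/-- Trace condition for a nonzero fixed vector. -/
theorem trace_of_fixed (e : ℤˣ) (A : SL(2, F)) (X : Matrix (Fin 2) (Fin 2) F) (hX : X ≠ 0)
    (h : (e : ℤ) • tw A X = X) : tr A ^ 3 = ((e : ℤ) : F) * tr A := by
  set M : Matrix (Fin 2) (Fin 2) F := A.1 with hM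
  set B : Matrix (Fin 2) (Fin 2) F := (A⁻¹.1.map σ)ᵀ with hB
  have hMd : M.det = 1 := A.2
  have hBd : B.det = 1 := by
    rw [hB, det_transpose]
    exact (RingHom.map_det σ _).symm.trans (by rw [A⁻¹.2, map_one])
  have hBt : B.trace = tr A ^ 3 := by
    rw [hB, trace_transpose, ← tr_inv A, tr_eq_trace, Matrix.trace, Matrix.trace, ← frobenius_def, map_sum]
    rfl
  have hAB : (M.map σ)ᵀ * B = 1 := by
    rw [hB, ← transpose_mul, ← Matrix.map_mul,
      show A⁻¹.1 * M = (1 : Matrix (Fin 2) (Fin 2) F) from congrArg Subtype.val (inv_mul_cancel A),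
      Matrix.map_one _ (map_zero _) (map_one _), transpose_one]
  rw [← Int.cast_smul_eq_zsmul F] at h
  have h1 : ((e : ℤ) : F) • (M * X) = X * B := by
    conv_rhs => rw [← h, tw, smul_mul_assoc, mul_assoc, mul_assoc, hAB, mul_one]
  have he : ((e : ℤ) : F) * ((e : ℤ) : F) = 1 := by
    rw [← Int.cast_mul, ← Units.val_mul, Int.units_mul_self, Units.val_one, Int.cast_one]
  have h2 : M * X = ((e : ℤ) : F) • (X * B) := by rw [← h1, smul_smul, he, one_smul]
  have hM2 : M * (M * X) = X * (B * B) := by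
    rw [h2, mul_smul_comm, ← mul_assoc, h2, smul_mul_assoc, smul_smul, he, one_smul, mul_assoc]
  rw [← mul_assoc, sq_eq_trace_smul M, sq_eq_trace_smul B, hMd, hBd, one_smul, sub_mul, mul_sub, smul_mul_assoc,
    mul_smul_comm, one_mul, mul_one, sub_left_inj, h2, smul_smul, hBt, ← tr_eq_trace] at hM2
  by_contra hne
  have hXB : X * B = 0 := by
    have : (tr A ^ 3 - tr A * ((e : ℤ) : F)) • (X * B) = 0 := by rw [sub_smul, hM2, sub_self]
    exact (smul_eq_zero.1 this).resolve_left fun h0 => hne (by linear_combination h0)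
  refine hX ?_
  have hu : IsUnit B := (Matrix.isUnit_iff_isUnit_det B).2 (by rw [hBd]; exact isUnit_one)
  exact hu.mul_left_eq_zero.1 hXB

variable [Fintype F]

theorem pow_three_eq_one (y : Multiplicative (Matrix (Fin 2) (Fin 2) F)) : y ^ 3 = 1 := by
  apply Multiplicative.toAdd.injective
  ext i j
  simp [CharP.ofNat_eq_zero F 3]

theorem orderOf_facts (x : Multiplicative (Matrix (Fin 2) (Fin 2) F) ⋊[act] (ℤˣ × PSL(2, F))) :
    orderOf x ∣ 3 * orderOf x.right ∧
      ((∀ y, act x.right y = y → y = 1) → orderOf x ∣ orderOf x.right) := by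
  set y := (x ^ orderOf x.right).left with hy
  have hr : (x ^ orderOf x.right).right = 1 := by
    rw [← SemidirectProduct.rightHom_eq_right, map_pow, SemidirectProduct.rightHom_eq_right, pow_orderOf_eq_one]
  have hxy : x ^ orderOf x.right = SemidirectProduct.inl y := SemidirectProduct.ext (by simp [hy]) (by simp [hr])
  refine ⟨?_, fun hfree => ?_⟩
  · rw [orderOf_dvd_iff_pow_eq_one, mul_comm, pow_mul, hxy, ← map_pow, pow_three_eq_one, map_one]
  · have hc : x * SemidirectProduct.inl y = SemidirectProduct.inl y * x := by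
      rw [← hxy, ← pow_succ', ← pow_succ]
    have := congrArg SemidirectProduct.left hc
    simp only [SemidirectProduct.mul_left, SemidirectProduct.left_inl, SemidirectProduct.right_inl, map_one,
      MulAut.one_apply] at this
    rw [mul_comm, mul_right_cancel_iff] at this
    rw [orderOf_dvd_iff_pow_eq_one, hxy, hfree y this, map_one]

theorem orderOf_cases (hneg : ¬ IsSquare (-1 : F)) (hq : Nat.gcd 2 (Fintype.card F - 1) = 2)
    (hqm : Fintype.card F % 4 = 3)
    (x : Multiplicative (Matrix (Fin 2) (Fin 2) F) ⋊[act] (ℤˣ × PSL(2, F))) :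
    orderOf x ∣ 6 ∨ orderOf x ∣ 9 ∨ orderOf x ∣ Fintype.card F - 1 ∨ orderOf x ∣ (Fintype.card F + 1) / 2 := by
  have : Fact (Nat.Prime 3) := ⟨Nat.prime_three⟩
  obtain ⟨h3, hfree⟩ := orderOf_facts x
  obtain ⟨A, hA⟩ := mk_surjective x.right.2
  have hr : x.right = (x.right.1, mk A) := by rw [hA]
  set e := x.right.1 with he
  have hord : orderOf x.right = Nat.lcm (orderOf e) (orderOf (mk A)) := by rw [hr]; exact Prod.orderOf _
  have he2 : orderOf e ∣ 2 := orderOf_dvd_of_pow_eq_one (by rw [sq, Int.units_mul_self])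
  by_cases ht0 : tr A = 0
  · left
    have : orderOf (mk A) ∣ 2 := orderOf_dvd_of_pow_eq_one (by
      rw [sq, ← map_mul, sq_eq_neg_one_of_tr_eq_zero ht0, mk_neg_one])
    exact h3.trans (Nat.mul_dvd_mul_left 3 (hord ▸ Nat.lcm_dvd he2 this))
  have hfix : ∀ y, act x.right y = y → y ≠ 1 → e = 1 ∧ tr A ^ 2 = 4 := by
    intro y hy hy1
    rw [hr, act_mk] at hy
    have := trace_of_fixed e A y.toAdd (fun h0 => hy1 (Multiplicative.toAdd.injective h0))
      (Multiplicative.ofAdd.injective (hy.trans (ofAdd_toAdd y).symm))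
    have ht2 : tr A ^ 2 = ((e : ℤ) : F) := mul_right_cancel₀ ht0 (by rw [← this]; ring)
    rcases Int.units_eq_one_or e with h | h
    · refine ⟨h, ?_⟩
      rw [ht2, h, Units.val_one, Int.cast_one]
      linear_combination -(CharP.ofNat_eq_zero F 3 : (3 : F) = 0)
    · refine absurd ⟨tr A, ?_⟩ hneg
      rw [← sq, ht2, h]; simp
  rcases psl_orderOf_dvd 3 (mk A) with hp | hp | hp
  · by_cases hfr : ∀ y, act x.right y = y → y = 1
    · exact Or.inl ((hfree hfr).trans (hord ▸ Nat.lcm_dvd (he2.trans (by norm_num)) (hp.trans (by norm_num))))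
    · push Not at hfr
      obtain ⟨y, hy, hy1⟩ := hfr
      refine Or.inr (Or.inl (h3.trans ?_))
      rw [hord, (hfix y hy hy1).1, orderOf_one, Nat.lcm_one_left]
      exact Nat.mul_dvd_mul_left 3 hp
  all_goals
    by_cases hfr : ∀ y, act x.right y = y → y = 1
    · rw [hq] at hp
      have h2 : 2 ∣ Fintype.card F - 1 := by omega
      have h4 : 2 ∣ (Fintype.card F + 1) / 2 := by omega
      first
      | exact Or.inr (Or.inr (Or.inl ((hfree hfr).trans
          (hord ▸ Nat.lcm_dvd (he2.trans h2) (hp.trans (Nat.div_dvd_of_dvd h2))))))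
      | exact Or.inr (Or.inr (Or.inr ((hfree hfr).trans (hord ▸ Nat.lcm_dvd (he2.trans h4) hp))))
    · push Not at hfr
      obtain ⟨y, hy, hy1⟩ := hfr
      have hord3 : orderOf (mk A) ∣ 3 := by
        obtain ⟨-, h4⟩ := hfix y hy hy1
        by_cases hone : mk A = 1
        · simp [hone]
        rcases psl_cases hone with ⟨g, hg, hg4⟩ | ⟨k, s, hs, hk⟩
        · refine absurd ?_ hg4
          rcases mk_eq_mk.1 hg with rfl | rfl
          · exact h4
          · rw [tr_neg, neg_sq, h4]
        · rw [hk, orderOf_mk_conj, orderOf_mk_uu 3 hs]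
      refine Or.inr (Or.inl (h3.trans ?_))
      rw [hord, (hfix y hy hy1).1, orderOf_one, Nat.lcm_one_left]
      exact Nat.mul_dvd_mul_left 3 hord3

end Cfsg.Agent.S2515

namespace Cfsg.Agent.S2515

open Matrix Cfsg.Agent.PSL2
open scoped MatrixGroups

/-- Let q = 3^α with α ≥ 3 odd. There is a finite group H having a non-trivial normal 3-subgroup and whose element orders maximal under divisibility are exactly 6, 9, q − 1 and (q + 1)/2. -/
theorem result (α : ℕ) (hα : 3 ≤ α) (hodd : Odd α) :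
    ∃ (H : Type) (_ : Group H) (_ : Fintype H), (∃ P : Subgroup H, P.Normal ∧ P ≠ ⊥ ∧ IsPGroup 3 ↥P) ∧
      {n : ℕ | n ∈ Set.range (orderOf : H → ℕ) ∧ ∀ m ∈ Set.range (orderOf : H → ℕ), n ∣ m → m = n} = ({6, 9, 3 ^ α - 1, (3 ^ α + 1) / 2} : Set ℕ) := by
  have : Fact (Nat.Prime 3) := ⟨Nat.prime_three⟩
  let F := GaloisField 3 α
  have : Fintype F := Fintype.ofFinite F
  have hcard : Fintype.card F = 3 ^ α := by
    rw [← Nat.card_eq_fintype_card]; exact GaloisField.card 3 α (by omega)
  have hq4 : Fintype.card F % 4 = 3 := by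
    obtain ⟨k, rfl⟩ := hodd
    rw [hcard, pow_succ, pow_mul, Nat.mul_mod, Nat.pow_mod]
    norm_num
  have hneg : ¬ IsSquare (-1 : F) := fun h => FiniteField.isSquare_neg_one_iff.1 h hq4
  have hgcd : Nat.gcd 2 (Fintype.card F - 1) = 2 := Nat.gcd_eq_left (by omega)
  have h27 : 27 ≤ Fintype.card F := hcard ▸ (show 3 ^ 3 ≤ 3 ^ α from Nat.pow_le_pow_right (by norm_num) hα)
  have h9 : 9 ∣ Fintype.card F := hcard ▸ (show 3 ^ 2 ∣ 3 ^ α from Nat.pow_dvd_pow 3 (by omega))
  let H := Multiplicative (Matrix (Fin 2) (Fin 2) F) ⋊[act] (ℤˣ × PSL(2, F))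
  have : Finite H := Finite.of_injective _ SemidirectProduct.equivProd.injective
  have hneg1 : orderOf (-1 : ℤˣ) = 2 := orderOf_eq_prime (by rw [sq, Int.units_mul_self]) (by decide)
  have hinr : ∀ (e : ℤˣ) (q : PSL(2, F)),
      orderOf (SemidirectProduct.inr (e, q) : H) = Nat.lcm (orderOf e) (orderOf q) := fun e q =>
    (orderOf_injective SemidirectProduct.inr SemidirectProduct.inr_injective _).trans (Prod.orderOf _)
  -- elements of all four orders
  have e6 : 6 ∈ Set.range (orderOf : H → ℕ) :=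
    ⟨SemidirectProduct.inr (-1, mk (uu 1)), by rw [hinr, hneg1, orderOf_mk_uu 3 one_ne_zero]; rfl⟩
  have eSplit : Fintype.card F - 1 ∈ Set.range (orderOf : H → ℕ) := by
    obtain ⟨a, ha⟩ := IsCyclic.exists_generator (α := Fˣ)
    have hoa : orderOf a = Fintype.card F - 1 := by
      rw [orderOf_eq_card_of_forall_mem_zpowers ha, GL.card_units_field]
    have ha2 : (a : F) ^ 2 ≠ 1 := fun h => by
      have : orderOf a ∣ 2 := orderOf_dvd_of_pow_eq_one (Units.ext (by simpa using h))
      have := Nat.le_of_dvd two_pos this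
      omega
    obtain ⟨q, hq⟩ := exists_orderOf_of_dvd_torus (tr_dd_sq_ne_four ha2) (dvd_refl _)
    refine ⟨SemidirectProduct.inr (-1, q), ?_⟩
    rw [hinr, hneg1, hq, cent_dd ha2, card_torus', hgcd, Nat.Coprime.lcm_eq_mul]
    · omega
    · rw [Nat.coprime_two_left, Nat.odd_iff]; omega
  have eEll : (Fintype.card F + 1) / 2 ∈ Set.range (orderOf : H → ℕ) := by
    obtain ⟨t, ht⟩ := exists_isEll F
    let g : SL(2, F) := ⟨!![t, -1; 1, 0], by simp [Matrix.det_fin_two]⟩
    have hg : IsEll (tr g) := by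
      have : tr g = t := add_zero t
      rwa [this]
    obtain ⟨q, hq⟩ := exists_orderOf_of_dvd_torus hg.sq_ne_four (dvd_refl _)
    refine ⟨SemidirectProduct.inr (1, q), ?_⟩
    rw [hinr, orderOf_one, Nat.lcm_one_left, hq, hg.card_cent, hgcd]
  have e9 : 9 ∈ Set.range (orderOf : H → ℕ) := by
    set x : H := ⟨Multiplicative.ofAdd !![0, 0; 0, 1], (1, mk (uu 1))⟩ with hx
    have hor : orderOf x.right = 3 := by
      rw [hx, Prod.orderOf, orderOf_one, Nat.lcm_one_left, orderOf_mk_uu 3 one_ne_zero]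
    have hd : orderOf x ∣ 3 ^ 2 := by
      have := (orderOf_facts x).1
      rwa [hor] at this
    have hn : ¬ orderOf x ∣ 3 ^ 1 := fun hdv => by
      have hl := congrArg SemidirectProduct.left (orderOf_dvd_iff_pow_eq_one.1 hdv)
      rw [pow_one, pow_succ, sq, SemidirectProduct.mul_left, SemidirectProduct.mul_left,
        SemidirectProduct.mul_right, SemidirectProduct.one_left, map_mul, MulAut.mul_apply] at hl
      have h00 := congrArg (fun v : Multiplicative (Matrix (Fin 2) (Fin 2) F) => v.toAdd 0 0) hl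
      simp only [hx, act_mk, Units.val_one, one_smul, toAdd_mul, toAdd_ofAdd, toAdd_one] at h00
      simp [tw_uu] at h00
      exact one_ne_zero (α := F) (by linear_combination (-1 : F) * h00 + 2 * (CharP.ofNat_eq_zero F 3 : (3 : F) = 0))
    exact ⟨x, Nat.eq_prime_pow_of_dvd_least_prime_pow Nat.prime_three hn hd⟩
  have hfour : ∀ x : H, orderOf x ∣ 6 ∨ orderOf x ∣ 9 ∨ orderOf x ∣ Fintype.card F - 1 ∨
      orderOf x ∣ (Fintype.card F + 1) / 2 := orderOf_cases hneg hgcd hq4
  -- the four numbers form an antichain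
  have hanti : ∀ a ∈ ({6, 9, Fintype.card F - 1, (Fintype.card F + 1) / 2} : Set ℕ),
      ∀ b ∈ ({6, 9, Fintype.card F - 1, (Fintype.card F + 1) / 2} : Set ℕ), a ∣ b → a = b := by
    obtain ⟨k, hk⟩ := h9
    rintro a (rfl | rfl | rfl | rfl) b (rfl | rfl | rfl | rfl) hab <;>
      first
      | rfl
      | omega
      | (have := Nat.le_of_dvd (by omega) hab; omega)
      | (obtain ⟨c, hc⟩ := hab
         rcases Nat.lt_or_ge c 2 with h | h
         · interval_cases c <;> omega
         · nlinarith [Nat.div_mul_cancel (show 2 ∣ Fintype.card F + 1 by omega),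
             Nat.sub_add_cancel (show 1 ≤ Fintype.card F by omega)])
  refine ⟨H, inferInstance, Fintype.ofFinite H, ?_, ?_⟩
  · refine ⟨(SemidirectProduct.inl : _ →* H).range, ?_, ?_, ?_⟩
    · rw [SemidirectProduct.range_inl_eq_ker_rightHom]; infer_instance
    · intro hbot
      have := MonoidHom.range_eq_bot_iff.1 hbot
      have h0 := SemidirectProduct.inl_injective
        ((DFunLike.congr_fun this (Multiplicative.ofAdd !![(0 : F), 0; 0, 1])).trans (map_one _).symm)
      have h11 := congrArg (fun v : Multiplicative (Matrix (Fin 2) (Fin 2) F) => v.toAdd 1 1) h0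
      simp at h11
    · rintro ⟨_, y, rfl⟩
      exact ⟨1, Subtype.ext (by rw [SubgroupClass.coe_pow, pow_one, ← map_pow, pow_three_eq_one, map_one]; rfl)⟩
  · rw [← hcard]
    ext n
    simp only [Set.mem_ofPred_eq]
    have hD : ∀ d ∈ ({6, 9, Fintype.card F - 1, (Fintype.card F + 1) / 2} : Set ℕ),
        d ∈ Set.range (orderOf : H → ℕ) := by
      rintro d (rfl | rfl | rfl | rfl)
      exacts [e6, e9, eSplit, eEll]
    have hcover : ∀ m ∈ Set.range (orderOf : H → ℕ),
        ∃ d ∈ ({6, 9, Fintype.card F - 1, (Fintype.card F + 1) / 2} : Set ℕ), m ∣ d := by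
      rintro _ ⟨x, rfl⟩
      rcases hfour x with h | h | h | h <;> exact ⟨_, by simp, h⟩
    constructor
    · rintro ⟨hn, hmax⟩
      obtain ⟨d, hd, hdvd⟩ := hcover n hn
      exact hmax d (hD d hd) hdvd ▸ hd
    · intro hn
      refine ⟨hD n hn, fun m hm hnm => ?_⟩
      obtain ⟨d, hd, hmd⟩ := hcover m hm
      obtain rfl := hanti n hn d hd (hnm.trans hmd)
      exact Nat.dvd_antisymm hmd hnm

end Cfsg.Agent.S2515
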