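import Cfsg.Statements.S2516
import Mathlib

set_option autoImplicit false
open Cfsg

namespace Cfsg.Agent.S2516

/-- Let F be a field of characteristic p > 0, V a non-zero finite-dimensional F-vector space, G a finite group and ρ a representation of G on V; form the semidirect product V ⋊ G. For g ∈ G of order k, the coset Vg contains an element of order pk if and only if the minimal polynomial of ρ(g) does not divide 1 + X + ⋯ + X^(k−1). -/
theorem result {F : Type*} [Field F] (p : ℕ) [Fact p.Prime] [CharP F p] {V : Type*} [AddCommGroup V] [Module F V] [FiniteDimensional F V] [Nontrivial V]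
    {G : Type*} [Group G] [Finite G] (ρ : Representation F G V) (g : G) :
    (∃ x : Multiplicative V ⋊[(MulAutMultiplicative V).symm.toMonoidHom.comp
        ((DistribMulAction.toAddAut ((V →ₗ[F] V)ˣ) V).comp ρ.asGroupHom)] G,
        x.right = g ∧ orderOf x = p * orderOf g) ↔
      ¬ (minpoly F (ρ g) ∣ ∑ i ∈ Finset.range (orderOf g), (Polynomial.X : Polynomial F) ^ i) := by
  set φ := (MulAutMultiplicative V).symm.toMonoidHom.comp
    ((DistribMulAction.toAddAut ((V →ₗ[F] V)ˣ) V).comp ρ.asGroupHom) with hφ
  have hφa : ∀ (a : G) (v : V), φ a (Multiplicative.ofAdd v) = Multiplicative.ofAdd (ρ a v) :=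
    fun _ _ => rfl
  set k := orderOf g with hk
  have hpow : ∀ (v : V) (m : ℕ), (⟨Multiplicative.ofAdd v, g⟩ : Multiplicative V ⋊[φ] G) ^ m =
      ⟨Multiplicative.ofAdd ((∑ i ∈ Finset.range m, (ρ g) ^ i) v), g ^ m⟩ := by
    intro v m
    induction m with
    | zero => simp [SemidirectProduct.ext_iff]
    | succ m ih =>
      rw [pow_succ', ih]
      ext
      · simp only [SemidirectProduct.mul_left, hφa, ← ofAdd_add, Finset.sum_range_succ', pow_zero,
          LinearMap.add_apply, Module.End.one_apply]
        congr 1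
        rw [add_comm, LinearMap.sum_apply, LinearMap.sum_apply, map_sum]
        simp [pow_succ']
      · exact (pow_succ' g m).symm
  have key : ∀ v : V, orderOf (⟨Multiplicative.ofAdd v, g⟩ : Multiplicative V ⋊[φ] G) = p * k ↔
      (∑ i ∈ Finset.range k, (ρ g) ^ i) v ≠ 0 := by
    intro v
    set x : Multiplicative V ⋊[φ] G := ⟨Multiplicative.ofAdd v, g⟩ with hx
    set w := (∑ i ∈ Finset.range k, (ρ g) ^ i) v with hw
    have hxk : x ^ k = SemidirectProduct.inl (Multiplicative.ofAdd w) := by
      rw [hx, hpow, pow_orderOf_eq_one]; rfl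
    have hkpos : 0 < k := orderOf_pos g
    have hdvd : k ∣ orderOf x := orderOf_map_dvd (SemidirectProduct.rightHom (φ := φ)) x
    have hp : (p : F) = 0 := CharP.cast_eq_zero F p
    have hle : orderOf x ∣ p * k := by
      apply orderOf_dvd_of_pow_eq_one
      rw [mul_comm, pow_mul, hxk, ← map_pow, ← ofAdd_nsmul, ← Nat.cast_smul_eq_nsmul F, hp, zero_smul,
        ofAdd_zero, map_one]
    constructor
    · intro ho hw0
      have : orderOf x ∣ k := orderOf_dvd_of_pow_eq_one (by rw [hxk, hw0, ofAdd_zero, map_one])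
      rw [ho] at this
      have := Nat.le_of_dvd hkpos this
      have hp2 := (Fact.out : p.Prime).two_le
      have : 2 * k ≤ p * k := Nat.mul_le_mul_right k hp2
      omega
    · intro hw0
      obtain ⟨c, hc⟩ := hdvd
      rw [hc, mul_comm p k] at hle
      rcases (Fact.out : p.Prime).eq_one_or_self_of_dvd c ((Nat.mul_dvd_mul_iff_left hkpos).1 hle) with rfl | rfl
      · exfalso
        apply hw0
        have h1 : x ^ k = 1 := by rw [show k = orderOf x by rw [hc, mul_one]]; exact pow_orderOf_eq_one x
        rw [hxk] at h1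
        exact Multiplicative.ofAdd.injective
          ((map_eq_one_iff _ SemidirectProduct.inl_injective).1 h1)
      · rw [hc, mul_comm]
  have haeval : Polynomial.aeval (ρ g) (∑ i ∈ Finset.range k, (Polynomial.X : Polynomial F) ^ i) =
      ∑ i ∈ Finset.range k, (ρ g) ^ i := by simp
  rw [minpoly.dvd_iff, haeval]
  constructor
  · rintro ⟨⟨v, g'⟩, hg', hox⟩ h0
    obtain rfl : g' = g := hg'
    exact (key v.toAdd).1 hox (by rw [h0]; rfl)
  · intro h0
    obtain ⟨v, hv⟩ : ∃ v, (∑ i ∈ Finset.range k, (ρ g) ^ i) v ≠ 0 := by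
      by_contra h
      push Not at h
      exact h0 (LinearMap.ext fun v => by simpa using h v)
    exact ⟨⟨Multiplicative.ofAdd v, g⟩, rfl, (key v).2 hv⟩

end Cfsg.Agent.S2516
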