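import Cfsg.Statements.S2517
import Cfsg.Agent.Lib.Spectrum.OrthWitness
import Cfsg.Agent.Lib.QForm.OmegaOddInvolution
-- import your own Cfsg.Agent.* helpers here

set_option autoImplicit false
open Cfsg

namespace Cfsg.Agent.S2517

open Cfsg.Agent Cfsg.Agent.Spectrum Cfsg.Agent.Spectrum.OrthNine Cfsg.Agent.Spectrum.OrthWitness
open Polynomial

universe u

variable {F : Type u} [Field F] [Fintype F]

omit [Fintype F] in
theorem aeval_fromBlocks {m n : Type} [Fintype m] [DecidableEq m] [Fintype n] [DecidableEq n]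
    (A : Matrix m m F) (B : Matrix n n F) (P : F[X]) :
    aeval (Matrix.fromBlocks A 0 0 B) P = Matrix.fromBlocks (aeval A P) 0 0 (aeval B P) := by
  induction P using Polynomial.induction_on with
  | C c => simp [Matrix.algebraMap_eq_diagonal, Matrix.fromBlocks_diagonal, Pi.algebraMap_def]
  | add P Q hP hQ => simp [hP, hQ, Matrix.fromBlocks_add]
  | monomial k c ih =>
    rw [pow_succ, ← mul_assoc, map_mul (aeval (Matrix.fromBlocks A 0 0 B)), map_mul (aeval A), map_mul (aeval B),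
      ih, aeval_X, aeval_X, aeval_X,
      Matrix.fromBlocks_multiply]
    simp

/-- Every element of `Ω₉` has order dividing a maximal one. -/
theorem odd_bound {p : ℕ} [Fact p.Prime] [CharP F p] (hodd : Odd (Fintype.card F)) {ι : Type} [Fintype ι]
    [DecidableEq ι] {f : (ι → F) → F} (Q : QuadraticForm F (ι → F)) (hf : f = ⇑Q)
    (hQ : (QuadraticMap.polarBilin Q).Nondegenerate) (hι : Fintype.card ι = 9) (g : ↥(Cfsg.Omega F f)) :
    ∃ k, IsMax (Fintype.card F) p k ∧ orderOf g ∣ k := by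
  subst hf
  obtain ⟨g, hg⟩ := g
  obtain ⟨k, hk, hP⟩ := exists_bound (p := p) hodd hQ hι g hg
  refine ⟨k, hk, ?_⟩
  obtain ⟨u, hu⟩ := hP _ (dvd_mul_right _ _) (Matrix.minpoly_dvd_charpoly _)
  have h3 := congrArg (aeval ((g : Matrix.GeneralLinearGroup ι F) : Matrix ι ι F)) hu
  rw [map_mul, minpoly.aeval, zero_mul, map_sub, map_pow, aeval_X, map_one, sub_eq_zero] at h3
  refine orderOf_dvd_of_pow_eq_one (Subtype.ext (Subtype.ext (Units.ext ?_)))
  simpa using h3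

/-- Every element of `V ⋊ Ω₈⁻` has order dividing a maximal one. -/
theorem aff_bound {p : ℕ} [Fact p.Prime] [CharP F p] (hodd : Odd (Fintype.card F)) {ι : Type} [Fintype ι]
    [DecidableEq ι] {f : (ι → F) → F} (Q : QuadraticForm F (ι → F)) (hf : f = ⇑Q)
    (hQ : (QuadraticMap.polarBilin Q).Nondegenerate) (hι : Fintype.card ι = 8)
    (h : ↥(Cfsg.isometryGroup F f)) (hh : h ∈ Cfsg.Omega F f) :
    ∃ k, IsMax (Fintype.card F) p k ∧ h ^ k = 1 ∧ ∀ v, ∑ i ∈ Finset.range k,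
      (((h ^ i : ↥(Cfsg.isometryGroup F f)) : Matrix.GeneralLinearGroup ι F) : Matrix ι ι F).mulVec v = 0 := by
  classical
  subst hf
  have h2 := Forms.two_ne_zero_of_odd_card hodd
  obtain ⟨k, hk, hP⟩ := exists_bound (p := p) hodd
    (QForm.sumForm_nondegenerate Q _ hQ (Forms.quadOdd_nondegenerate (F := F) h2 0))
    (by simp [hι]) (OrthTorus.sumMap Q (OrthTorus.lineForm F) (h, 1))
    (OrthTorus.sumMap_mem_omega hh (one_mem _))
  set A := ((h : Matrix.GeneralLinearGroup ι F) : Matrix ι ι F) with hA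
  have hg : ((OrthTorus.sumMap Q (OrthTorus.lineForm F) (h, 1) :
      Matrix.GeneralLinearGroup (ι ⊕ (Unit ⊕ (Fin 0 ⊕ Fin 0))) F) :
        Matrix (ι ⊕ (Unit ⊕ (Fin 0 ⊕ Fin 0))) (ι ⊕ (Unit ⊕ (Fin 0 ⊕ Fin 0))) F) =
      Matrix.fromBlocks A 0 0 1 := (QForm.sumHom_val (⇑Q) (⇑(OrthTorus.lineForm F)) (h, 1)).trans rfl
  rw [hg] at hP
  have hμ : minpoly F A ∣ minpoly F (Matrix.fromBlocks A 0 0 (1 : Matrix (Unit ⊕ (Fin 0 ⊕ Fin 0)) (Unit ⊕ (Fin 0 ⊕ Fin 0)) F)) := by
    refine minpoly.dvd F A ?_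
    have h0 := minpoly.aeval F (Matrix.fromBlocks A 0 0 (1 : Matrix (Unit ⊕ (Fin 0 ⊕ Fin 0)) (Unit ⊕ (Fin 0 ⊕ Fin 0)) F))
    rw [aeval_fromBlocks] at h0
    exact (congrArg Matrix.toBlocks₁₁ h0).trans (by ext i j; simp [Matrix.toBlocks₁₁])
  have hdvd : minpoly F A * (X - C 1) ∣ X ^ k - 1 := by
    refine hP _ (mul_dvd_mul hμ dvd_rfl) ?_
    rw [Matrix.charpoly_fromBlocks_zero₂₁, Matrix.charpoly_one]
    simpa using mul_dvd_mul (Matrix.minpoly_dvd_charpoly A) (dvd_refl (X - 1 : F[X]))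
  rw [← geom_sum_mul, map_one] at hdvd
  obtain ⟨u, hu⟩ := (mul_dvd_mul_iff_right (by simpa using X_sub_C_ne_zero (1 : F))).1 hdvd
  have hs : ∑ i ∈ Finset.range k, A ^ i = 0 := by
    have h3 := congrArg (aeval A) hu
    rw [map_mul, minpoly.aeval, zero_mul] at h3
    simpa using h3
  refine ⟨k, hk, Subtype.ext (Units.ext ?_), fun v => ?_⟩
  · have h4 := geom_sum_mul A k
    rw [hs, zero_mul] at h4
    simpa using sub_eq_zero.1 h4.symm
  · simp [← Matrix.sum_mulVec, ← hA, hs]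

section Semidirect

variable {ι : Type} [Fintype ι] [DecidableEq ι] {H : Type u} [Group H]

omit [Fintype F] [DecidableEq ι] in
/-- Powers in a semidirect product by a linear action. -/
theorem pow_eq (φ : H →* MulAut (Multiplicative (ι → F))) (M : H → Matrix ι ι F)
    (hφ : ∀ h v, φ h (Multiplicative.ofAdd v) = Multiplicative.ofAdd ((M h).mulVec v))
    (v : ι → F) (h : H) (n : ℕ) :
    (⟨Multiplicative.ofAdd v, h⟩ : Multiplicative (ι → F) ⋊[φ] H) ^ n =
      ⟨Multiplicative.ofAdd (∑ i ∈ Finset.range n, (M (h ^ i)).mulVec v), h ^ n⟩ := by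
  induction n with
  | zero => rw [pow_zero, pow_zero, Finset.sum_range_zero]; rfl
  | succ n ih =>
    rw [pow_succ, ih]
    refine SemidirectProduct.ext ?_ ?_
    · rw [SemidirectProduct.mul_left]
      show Multiplicative.ofAdd _ * φ (h ^ n) (Multiplicative.ofAdd v) = Multiplicative.ofAdd _
      rw [hφ, Finset.sum_range_succ, ofAdd_add]
    · exact (pow_succ h n).symm

end Semidirect

omit [Fintype F] in
theorem action_apply {ι : Type} [Fintype ι] [DecidableEq ι] {G : Subgroup (Matrix.GeneralLinearGroup ι F)}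
    (Γ : Subgroup G) (x : Γ) (w : ι → F) :
    (MulAutMultiplicative (ι → F)).symm.toMonoidHom.comp
      ((DistribMulAction.toAddAut (LinearMap.GeneralLinearGroup F (ι → F)) (ι → F)).comp
        (Matrix.GeneralLinearGroup.toLin.toMonoidHom.comp (G.subtype.comp Γ.subtype))) x
      (Multiplicative.ofAdd w) =
      Multiplicative.ofAdd ((((x : G) : Matrix.GeneralLinearGroup ι F) : Matrix ι ι F).mulVec w) := by
  simp [Matrix.GeneralLinearGroup.toLin]
  rfl

set_option maxHeartbeats 1000000 in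
/-- Let F be a finite field of odd order q, let Ω₉ be the simple orthogonal group PΩ(9, F), and let Ω₈⁻ be the commutator subgroup of the isometry group of a minus-type non-singular quadratic form on V = F⁸ (the simple group PΩ⁻(8, F), acting on its natural module V). Then Ω₉ and the semidirect product V ⋊ Ω₈⁻ have exactly the same set of element orders. -/
theorem result {F : Type*} [Field F] [Fintype F] (hF : Odd (Fintype.card F)) (a b : F)
    (hab : ∀ z₁ z₂ : F, z₁ ^ 2 + a * z₁ * z₂ + b * z₂ ^ 2 = 0 → z₁ = 0 ∧ z₂ = 0) :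
    Set.range (orderOf : Cfsg.POmega F (Cfsg.quadFormOdd 4 F) → ℕ) =
      Set.range (orderOf :
        (Multiplicative (((Fin 3 ⊕ Fin 3) ⊕ Fin 2) → F)) ⋊[
          (MulAutMultiplicative (((Fin 3 ⊕ Fin 3) ⊕ Fin 2) → F)).symm.toMonoidHom.comp
           ((DistribMulAction.toAddAut (LinearMap.GeneralLinearGroup F (((Fin 3 ⊕ Fin 3) ⊕ Fin 2) → F))
              (((Fin 3 ⊕ Fin 3) ⊕ Fin 2) → F)).comp
            (Matrix.GeneralLinearGroup.toLin.toMonoidHom.comp
              ((Cfsg.isometryGroup F (Cfsg.quadFormMinus 3 F a b)).subtype.comp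
                (Cfsg.Omega F (Cfsg.quadFormMinus 3 F a b)).subtype)))]
          ↥(Cfsg.Omega F (Cfsg.quadFormMinus 3 F a b)) → ℕ) := by
  classical
  obtain ⟨p, hcp⟩ := CharP.exists F
  have : Fact p.Prime := ⟨CharP.char_is_prime F p⟩
  have h2 := Forms.two_ne_zero_of_odd_card hF
  have hodd9 : Cfsg.quadFormOdd 4 F = ⇑(Forms.quadOdd 4 F) := funext fun v => (Forms.quadOdd_apply v).symm
  have hminus : Cfsg.quadFormMinus 3 F a b = ⇑(QForm.minusForm F 3 a b) :=
    funext fun v => (QForm.minusForm_apply F 3 a b v).symm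
  have hinj : Function.Injective (QuotientGroup.mk' (Subgroup.center (Cfsg.Omega F (Cfsg.quadFormOdd 4 F)))) :=
    (MonoidHom.ker_eq_bot_iff _).1 (by rw [QuotientGroup.ker_mk', QForm.OddInv.center_eq_bot h2 (by omega)])
  set φ : ↥(Cfsg.Omega F (Cfsg.quadFormMinus 3 F a b)) →*
      MulAut (Multiplicative (((Fin 3 ⊕ Fin 3) ⊕ Fin 2) → F)) :=
    (MulAutMultiplicative (((Fin 3 ⊕ Fin 3) ⊕ Fin 2) → F)).symm.toMonoidHom.comp
      ((DistribMulAction.toAddAut (LinearMap.GeneralLinearGroup F (((Fin 3 ⊕ Fin 3) ⊕ Fin 2) → F))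
        (((Fin 3 ⊕ Fin 3) ⊕ Fin 2) → F)).comp
      (Matrix.GeneralLinearGroup.toLin.toMonoidHom.comp
        ((Cfsg.isometryGroup F (Cfsg.quadFormMinus 3 F a b)).subtype.comp
          (Cfsg.Omega F (Cfsg.quadFormMinus 3 F a b)).subtype)))
  have : Finite (Multiplicative (((Fin 3 ⊕ Fin 3) ⊕ Fin 2) → F) ⋊[φ] ↥(Cfsg.Omega F (Cfsg.quadFormMinus 3 F a b))) :=
    Finite.of_equiv _ SemidirectProduct.equivProd.symm
  have hφ : ∀ (x : ↥(Cfsg.Omega F (Cfsg.quadFormMinus 3 F a b))) (w : ((Fin 3 ⊕ Fin 3) ⊕ Fin 2) → F),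
      φ x (Multiplicative.ofAdd w) = Multiplicative.ofAdd
        ((((x : ↥(Cfsg.isometryGroup F (Cfsg.quadFormMinus 3 F a b))) :
          Matrix.GeneralLinearGroup ((Fin 3 ⊕ Fin 3) ⊕ Fin 2) F) :
          Matrix ((Fin 3 ⊕ Fin 3) ⊕ Fin 2) ((Fin 3 ⊕ Fin 3) ⊕ Fin 2) F).mulVec w) :=
    fun x w => action_apply _ x w
  ext n
  constructor
  · rintro ⟨y, rfl⟩
    obtain ⟨y, rfl⟩ := QuotientGroup.mk'_surjective _ y
    rw [orderOf_injective _ hinj]
    obtain ⟨k, hk, hyk⟩ := odd_bound (p := p) hF _ hodd9 (Forms.quadOdd_nondegenerate h2 4) (by simp) y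
    obtain ⟨j, hkj, h, hh, v, hv⟩ := affOrd_of_isMax (p := p) hF hab hk
    refine ⟨⟨Multiplicative.ofAdd v, ⟨h, hh⟩⟩ ^ _, orderOf_pow_orderOf_div ?_ ?_⟩
    · exact (orderOf_pos _).ne'
    · refine hyk.trans (hkj.trans ?_)
      have h0 := pow_orderOf_eq_one
        (⟨Multiplicative.ofAdd v, ⟨h, hh⟩⟩ : _ ⋊[φ] ↥(Cfsg.Omega F (Cfsg.quadFormMinus 3 F a b)))
      rw [pow_eq φ _ hφ] at h0
      exact hv _ (congrArg Subtype.val (congrArg SemidirectProduct.right h0))
        (congrArg Multiplicative.toAdd (congrArg SemidirectProduct.left h0))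
  · rintro ⟨⟨v, h, hh⟩, rfl⟩
    obtain ⟨k, hk, hhk, hsum⟩ := aff_bound (p := p) hF _ hminus (QForm.UnipFix.minusForm_sep h2 3 hab) (by simp) h hh
    obtain ⟨j, hkj, y, hy, hyj⟩ := oddOrd_of_isMax (p := p) hF hk
    have hx : (⟨v, ⟨h, hh⟩⟩ : _ ⋊[φ] ↥(Cfsg.Omega F (Cfsg.quadFormMinus 3 F a b))) ^ k = 1 := by
      obtain ⟨w, rfl⟩ := Multiplicative.ofAdd.surjective v
      rw [pow_eq φ _ hφ]
      exact SemidirectProduct.ext (congrArg Multiplicative.ofAdd (hsum w)) (Subtype.ext hhk)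
    have hy' : orderOf y = orderOf (⟨y, hy⟩ : ↥(Cfsg.Omega F (Cfsg.quadFormOdd 4 F))) :=
      (orderOf_injective (Cfsg.Omega F (Cfsg.quadFormOdd 4 F)).subtype (Subgroup.subtype_injective _) ⟨y, hy⟩)
    have hd := (orderOf_dvd_of_pow_eq_one hx).trans (hkj.trans (hyj.trans (dvd_of_eq hy')))
    generalize orderOf (⟨v, ⟨h, hh⟩⟩ : _ ⋊[φ] ↥(Cfsg.Omega F (Cfsg.quadFormMinus 3 F a b))) = n at hd ⊢
    generalize (⟨y, hy⟩ : ↥(Cfsg.Omega F (Cfsg.quadFormOdd 4 F))) = z at hd ⊢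
    refine ⟨QuotientGroup.mk' _ (z ^ (orderOf z / n)), ?_⟩
    rw [orderOf_injective _ hinj]
    exact orderOf_pow_orderOf_div (orderOf_pos z).ne' hd

end Cfsg.Agent.S2517
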