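import Cfsg.Statements.S2519
import Cfsg.Agent.Lib.G2Spectrum.Main

set_option autoImplicit false
open Cfsg

namespace Cfsg.Agent.S2519

/-- Let F be a finite field of odd order q = p^a ≥ 5. The element orders of the Chevalley group G₂(F) that are maximal under divisibility are exactly p(q + 1), p(q − 1), q² − 1, q² + q + 1, q² − q + 1, together with p² when p is 3 or 5. -/
theorem result {F : Type*} [Field F] [Fintype F] (p a : ℕ) (hp : p.Prime) (hp2 : p ≠ 2) (ha : 1 ≤ a) (hF : Fintype.card F = p ^ a) (hq5 : 5 ≤ Fintype.card F) :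
    {n : ℕ | n ∈ Set.range (orderOf : ↥(Cfsg.Lie.chevG2.group F) → ℕ) ∧ ∀ m ∈ Set.range (orderOf : ↥(Cfsg.Lie.chevG2.group F) → ℕ), n ∣ m → m = n} =
      ({p * (p ^ a + 1), p * (p ^ a - 1), p ^ (2 * a) - 1, p ^ (2 * a) + p ^ a + 1, p ^ (2 * a) - p ^ a + 1} : Set ℕ) ∪
        (if p = 3 ∨ p = 5 then ({p ^ 2} : Set ℕ) else ∅) := by
  have : Fact p.Prime := ⟨hp⟩
  have : CharP F p := G2Spectrum.charP_of_card hp hF
  have hp3 : 3 ≤ p := by have := hp.two_le; omega
  have e2 : p ^ (2 * a) = (p ^ a) ^ 2 := by rw [← pow_mul, Nat.mul_comm]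
  rw [e2]
  set q := p ^ a with hq
  have hpq : p ∣ q := dvd_pow_self p (by omega)
  have hq5' : 5 ≤ q := hF ▸ hq5
  apply G2Spectrum.maximal_eq
  · intro n hn
    rcases hn with hn | hn
    · simp only [Set.mem_insert_iff, Set.mem_singleton_iff] at hn
      rcases hn with rfl | rfl | rfl | rfl | rfl
      · exact hF ▸ G2Spectrum.exists_order_mul_add_one (F := F) p
      · exact hF ▸ G2Spectrum.exists_order_mul_sub_one (F := F) p (by omega)
      · exact hF ▸ G2Spectrum.exists_order_sq_sub_one (F := F)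
      · exact hF ▸ G2Spectrum.exists_order_plus (F := F)
      · exact hF ▸ G2Spectrum.exists_order_minus (F := F)
    · split_ifs at hn with h
      · rw [Set.mem_singleton_iff] at hn
        subst hn
        exact G2Spectrum.exists_order_sq (F := F) p h
      · exact hn.elim
  · rintro _ ⟨g, rfl⟩
    have hc := G2Spectrum.orderOf_subtype_cases (F := F) p g
    rw [hF, G2Spectrum.OrderCase] at hc
    rcases hc with h | h | h | h | h | ⟨h', h⟩ | ⟨h', -⟩
    · exact ⟨_, Or.inl (by simp), h⟩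
    · exact ⟨_, Or.inl (by simp), h⟩
    · exact ⟨_, Or.inl (by simp), h⟩
    · exact ⟨_, Or.inl (by simp), h⟩
    · exact ⟨_, Or.inl (by simp), h⟩
    · exact ⟨p ^ 2, Or.inr (by rw [if_pos h']; exact rfl), h⟩
    · exact absurd h' hp2
  · have key : ∀ x, x ∈ ({p * (q + 1), p * (q - 1), q ^ 2 - 1, q ^ 2 + q + 1, q ^ 2 - q + 1} : Set ℕ) ∪
        (if p = 3 ∨ p = 5 then ({p ^ 2} : Set ℕ) else ∅) →
        x ∈ ({p * (q + 1), p * (q - 1), q ^ 2 - 1, q ^ 2 + q + 1, q ^ 2 - q + 1, p ^ 2} : Set ℕ) := by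
      intro x hx
      split_ifs at hx <;>
        simp only [Set.mem_union, Set.mem_insert_iff, Set.mem_singleton_iff, Set.mem_empty_iff_false, or_false]
          at hx ⊢ <;> tauto
    exact fun x hx y hy h => G2Spectrum.antichain hp hpq hq5' (key x hx) (key y hy) h

end Cfsg.Agent.S2519
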