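import Cfsg.Statements.S2520
import Cfsg.Agent.Lib.G2Spectrum.Main

set_option autoImplicit false
open Cfsg

namespace Cfsg.Agent.S2520

/-- Let F be a finite field with q = 2^a ≥ 4 elements and G₂(F) the Chevalley group of type G₂ over it. Every element order of G₂(F) maximal under divisibility lies in the set {8, 12, 2(q + 1), 2(q − 1), q² − 1, q² + q + 1, q² − q + 1}, and every member of that set is an element order of G₂(F). -/
theorem result {F : Type*} [Field F] [Fintype F] (a : ℕ) (ha : 2 ≤ a) (hF : Fintype.card F = 2 ^ a) :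
    {n : ℕ | n ∈ Set.range (orderOf : ↥(Cfsg.Lie.chevG2.group F) → ℕ) ∧ ∀ m ∈ Set.range (orderOf : ↥(Cfsg.Lie.chevG2.group F) → ℕ), n ∣ m → m = n} ⊆ ({8, 12, 2 * (2 ^ a + 1), 2 * (2 ^ a - 1), 2 ^ (2 * a) - 1, 2 ^ (2 * a) + 2 ^ a + 1, 2 ^ (2 * a) - 2 ^ a + 1} : Set ℕ) ∧
    ({8, 12, 2 * (2 ^ a + 1), 2 * (2 ^ a - 1), 2 ^ (2 * a) - 1, 2 ^ (2 * a) + 2 ^ a + 1, 2 ^ (2 * a) - 2 ^ a + 1} : Set ℕ) ⊆ Set.range (orderOf : ↥(Cfsg.Lie.chevG2.group F) → ℕ) := by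
  have : Fact (Nat.Prime 2) := ⟨Nat.prime_two⟩
  have : CharP F 2 := G2Spectrum.charP_of_card Nat.prime_two hF
  have e2 : 2 ^ (2 * a) = (2 ^ a) ^ 2 := by rw [← pow_mul, Nat.mul_comm]
  rw [e2]
  set q := 2 ^ a with hq
  have hq4 : 4 ≤ q := by
    calc 4 = 2 ^ 2 := rfl
      _ ≤ q := Nat.pow_le_pow_right two_pos ha
  have hmem : ({8, 12, 2 * (q + 1), 2 * (q - 1), q ^ 2 - 1, q ^ 2 + q + 1, q ^ 2 - q + 1} : Set ℕ) ⊆
      Set.range (orderOf : ↥(Cfsg.Lie.chevG2.group F) → ℕ) := by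
    intro n hn
    simp only [Set.mem_insert_iff, Set.mem_singleton_iff] at hn
    rcases hn with rfl | rfl | rfl | rfl | rfl | rfl | rfl
    · exact G2Spectrum.exists_order_eight (F := F)
    · exact G2Spectrum.exists_order_twelve (F := F)
    · exact hF ▸ G2Spectrum.exists_order_mul_add_one (F := F) 2
    · exact hF ▸ G2Spectrum.exists_order_mul_sub_one (F := F) 2 (by omega)
    · exact hF ▸ G2Spectrum.exists_order_sq_sub_one (F := F)
    · exact hF ▸ G2Spectrum.exists_order_plus (F := F)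
    · exact hF ▸ G2Spectrum.exists_order_minus (F := F)
  refine ⟨?_, hmem⟩
  rintro _ ⟨⟨g, rfl⟩, hmax⟩
  have hc := G2Spectrum.orderOf_subtype_cases (F := F) 2 g
  rw [hF, G2Spectrum.OrderCase] at hc
  obtain ⟨m, hm, hd⟩ : ∃ m ∈ ({8, 12, 2 * (q + 1), 2 * (q - 1), q ^ 2 - 1, q ^ 2 + q + 1, q ^ 2 - q + 1} : Set ℕ),
      orderOf g ∣ m := by
    rcases hc with h | h | h | h | h | ⟨h', -⟩ | ⟨-, h | h⟩
    · exact ⟨_, by simp, h⟩
    · exact ⟨_, by simp, h⟩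
    · exact ⟨_, by simp, h⟩
    · exact ⟨_, by simp, h⟩
    · exact ⟨_, by simp, h⟩
    · omega
    · exact ⟨_, by simp, h⟩
    · exact ⟨_, by simp, h⟩
  exact hmax m (hmem hm) hd ▸ hm

end Cfsg.Agent.S2520
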