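import Cfsg.Statements.S2521
-- import your own Cfsg.Agent.* helpers here

set_option autoImplicit false
open Cfsg

namespace Cfsg.Agent.S2521

/-- Let B be a finite group that is the semidirect product of a nilpotent normal subgroup U by an abelian subgroup T (U ∩ T = 1, UT = B), and let t ∈ T have centralizer exactly T. Then every element of the coset tU is conjugate to t in B: for each u ∈ U there is b ∈ B with b t b⁻¹ = t u. -/
theorem result {B : Type*} [Group B] [Finite B] (U T : Subgroup B) [U.Normal] (hU : Group.IsNilpotent ↥U) (hT : IsMulCommutative ↥T)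
    (hcompl : Subgroup.IsComplement' U T) (t : B) (ht : t ∈ T) (hreg : Subgroup.centralizer ({t} : Set B) = T) (u : B) (hu : u ∈ U) :
    ∃ b : B, b * t * b⁻¹ = t * u := by
  let f : U → U := fun b => ⟨t⁻¹ * (b : B) * t * (b : B)⁻¹,
    U.mul_mem (by simpa using (inferInstance : U.Normal).conj_mem b b.2 t⁻¹) (U.inv_mem b.2)⟩
  have hf : Function.Injective f := by
    intro a b hab
    have h : t⁻¹ * (a : B) * t * (a : B)⁻¹ = t⁻¹ * (b : B) * t * (b : B)⁻¹ := congrArg Subtype.val hab
    have hmem : (b : B)⁻¹ * a ∈ Subgroup.centralizer ({t} : Set B) := by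
      rw [Subgroup.mem_centralizer_singleton_iff]
      have h' : (a : B) * t * (a : B)⁻¹ = b * t * (b : B)⁻¹ := by
        simpa [mul_assoc] using h
      have e1 : (b : B)⁻¹ * a * t = (b : B)⁻¹ * ((a : B) * t * (a : B)⁻¹) * a := by group
      rw [e1, h']
      group
    rw [hreg] at hmem
    have h1 : (b : B)⁻¹ * a = 1 :=
      Subgroup.disjoint_def.1 hcompl.disjoint (U.mul_mem (U.inv_mem b.2) a.2) hmem
    exact Subtype.ext (inv_mul_eq_one.1 h1).symm
  obtain ⟨b, hb⟩ := Finite.surjective_of_injective hf ⟨u, hu⟩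
  refine ⟨b, ?_⟩
  have h : t⁻¹ * (b : B) * t * (b : B)⁻¹ = u := congrArg Subtype.val hb
  rw [← h]; group

end Cfsg.Agent.S2521
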