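import Cfsg.Statements.S2522
import Cfsg.Agent.Lib.GL.TwoRegularUnipotent

set_option autoImplicit false
open Cfsg

namespace Cfsg.Agent.S2522

open Matrix

/-- A unipotent matrix whose nilpotent part has full height is conjugate to the regular unipotent `J`. -/
theorem conj_regular {K : Type*} [Field K] {n : ℕ} (J : GL (Fin n) K)
    (hJ : ∀ i j : Fin n, (J : Matrix (Fin n) (Fin n) K) i j = if i = j then 1 else if j.val = i.val + 1 then 1 else 0)
    (X : Matrix (Fin n) (Fin n) K) (h0 : (X - 1) ^ n = 0) (v : Fin n → K) (hv : ((X - 1) ^ (n - 1)) *ᵥ v ≠ 0) :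
    ∃ x : GL (Fin n) K, ((x * J * x⁻¹ : GL (Fin n) K) : Matrix (Fin n) (Fin n) K) = X := by
  classical
  set N := X - 1 with hN
  let col : Fin n → (Fin n → K) := fun j => (N ^ (n - 1 - j.val)) *ᵥ v
  let P : Matrix (Fin n) (Fin n) K := Matrix.of fun i j => col j i
  have hP : IsUnit P := by
    rw [← Matrix.linearIndependent_cols_iff_isUnit]
    show LinearIndependent K col
    rw [Fintype.linearIndependent_iff]
    intro c hc
    by_contra hne
    push Not at hne
    obtain ⟨j₀, hj₀⟩ := hne
    obtain ⟨j, hj, hmax⟩ := (Finset.univ.filter fun j => c j ≠ 0).exists_max_image id ⟨j₀, by simp [hj₀]⟩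
    have h1 := congrArg (fun w => (N ^ j.val) *ᵥ w) hc
    simp only [Matrix.mulVec_sum, Matrix.mulVec_smul, Matrix.mulVec_zero, col, Matrix.mulVec_mulVec, ← pow_add] at h1
    rw [Finset.sum_eq_single j] at h1
    · rw [show j.val + (n - 1 - j.val) = n - 1 by omega] at h1
      exact (smul_eq_zero.1 h1).elim (Finset.mem_filter.1 hj).2 hv
    · intro i _ hij
      rcases lt_or_gt_of_ne hij with hlt | hlt
      · have hlt' : i.val < j.val := hlt
        rw [show j.val + (n - 1 - i.val) = n + (j.val - i.val - 1) by omega, pow_add, h0, zero_mul,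
          Matrix.zero_mulVec, smul_zero]
      · have : c i = 0 := by
          by_contra hci
          exact absurd (hmax i (by simp [hci])) (not_le.2 hlt)
        rw [this, zero_smul]
    · simp
  have hXP : X * P = P * (J : Matrix (Fin n) (Fin n) K) := by
    ext i j
    have hX : X = 1 + N := by rw [hN]; abel
    rw [hX, add_mul, one_mul, Matrix.add_apply, Matrix.mul_apply, Matrix.mul_apply]
    have hN' : ∑ k, N i k * P k j = (N *ᵥ col j) i := rfl
    rw [hN', Finset.sum_congr rfl fun k _ => show P i k * (J : Matrix (Fin n) (Fin n) K) k j =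
      (if k = j then P i k else 0) + (if j.val = k.val + 1 then P i k else 0) by
        rw [hJ]
        by_cases h : k = j
        · subst h; simp
        · simp [h], Finset.sum_add_distrib, Finset.sum_ite_eq' Finset.univ j, if_pos (Finset.mem_univ j)]
    congr 1
    simp only [col, Matrix.mulVec_mulVec, ← pow_succ']
    by_cases hj : j.val = 0
    · rw [show n - 1 - j.val + 1 = n by omega, h0, Matrix.zero_mulVec, Pi.zero_apply]
      exact (Finset.sum_eq_zero fun k _ => if_neg (by omega)).symm
    · rw [Finset.sum_eq_single ⟨j.val - 1, by omega⟩ (fun k _ hk => if_neg fun h => hk (Fin.ext (by simp; omega)))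
        (by simp), if_pos (show j.val = j.val - 1 + 1 by omega)]
      show _ = col _ i
      simp only [col]
      rw [show n - 1 - (j.val - 1) = n - 1 - j.val + 1 by omega]
  obtain ⟨x, hx⟩ := hP
  refine ⟨x, ?_⟩
  rw [Units.val_mul, Units.val_mul, hx, ← hXP, ← hx, Units.mul_inv_cancel_right]

/-- Let K be a field with at least four elements (finite or infinite), n ≥ 3, and J ∈ GL(n, K) the regular unipotent matrix (ones on the diagonal and the superdiagonal, zeros elsewhere). Then every non-scalar g ∈ GL(n, K) with det g = 1 is a product of two GL(n, K)-conjugates of J. -/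
theorem result {K : Type*} [Field K] (hK : 4 ≤ Cardinal.mk K) (n : ℕ) (hn : 3 ≤ n) (J g : GL (Fin n) K)
    (hJ : ∀ i j : Fin n, (J : Matrix (Fin n) (Fin n) K) i j = if i = j then 1 else if j.val = i.val + 1 then 1 else 0)
    (hg : ¬ ∃ c : K, (g : Matrix (Fin n) (Fin n) K) = c • (1 : Matrix (Fin n) (Fin n) K))
    (hdet : (g : Matrix (Fin n) (Fin n) K).det = 1) :
    ∃ x y : GL (Fin n) K, g = (x * J * x⁻¹) * (y * J * y⁻¹) := by
  classical
  obtain ⟨F, hF⟩ : ∃ F : Finset K, F.card = 4 := by
    obtain h | h := finite_or_infinite K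
    · have : Fintype K := Fintype.ofFinite K
      have h4 : 4 ≤ (Finset.univ : Finset K).card := by
        rw [Cardinal.mk_fintype] at hK
        simpa using (by exact_mod_cast hK : 4 ≤ Fintype.card K)
      obtain ⟨F, -, hF⟩ := Finset.exists_subset_card_eq h4
      exact ⟨F, hF⟩
    · exact Infinite.exists_subset_card_eq K 4
  set A : Module.End K (Fin n → K) := Matrix.toLinAlgEquiv' (g : Matrix (Fin n) (Fin n) K) with hA
  have hd : Module.finrank K (Fin n → K) = n := by simp
  have hdetA : LinearMap.det A = 1 := (LinearMap.det_toLin' _).trans hdet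
  have hns : ∀ c : K, A ≠ c • 1 := fun c h => hg ⟨c, Matrix.toLinAlgEquiv'.injective
    (by rw [map_smul, map_one]; exact h)⟩
  obtain ⟨u, ω, X, Y, hXY, hX, hY, hXu, hYω⟩ :=
    Cfsg.Agent.GL.TwoReg.exists_twoRegAt hF n hd (by omega) A hdetA (Or.inl hns)
  rw [hd] at hX hY hXu hYω
  obtain ⟨w, hw⟩ : ∃ w, ((Y - 1) ^ (n - 1)) w ≠ 0 := by
    by_contra h
    push Not at h
    exact hYω (LinearMap.ext fun z => by simp [h z])
  set T := (Matrix.toLinAlgEquiv' : Matrix (Fin n) (Fin n) K ≃ₐ[K] Module.End K (Fin n → K)) with hT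
  obtain ⟨x, hx⟩ := conj_regular J hJ (T.symm X) (T.injective (by simp [hX])) u (fun h => hXu (by
    have : ((X - 1) ^ (n - 1)) = T ((T.symm X - 1) ^ (n - 1)) := by simp
    rw [this, hT, Matrix.toLinAlgEquiv'_apply]
    exact h))
  obtain ⟨y, hy⟩ := conj_regular J hJ (T.symm Y) (T.injective (by simp [hY])) w (fun h => hw (by
    have : ((Y - 1) ^ (n - 1)) = T ((T.symm Y - 1) ^ (n - 1)) := by simp
    rw [this, hT, Matrix.toLinAlgEquiv'_apply]
    exact h))
  refine ⟨x, y, Units.ext ?_⟩
  rw [Units.val_mul, hx, hy, ← map_mul, ← hXY, hA, AlgEquiv.symm_apply_apply]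

end Cfsg.Agent.S2522
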