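import Cfsg.Statements.S2524
import Cfsg.Agent.Lib.WeilUniq.Final

set_option autoImplicit false
open Cfsg

namespace Cfsg.Agent.S2524

/-- Let F be a finite field of odd order q and G = Sp(2n, F) with n ≥ 2. Then G has exactly four irreducible complex characters of degree (q^n + 1)/2 or (q^n − 1)/2 (two of each), and every other non-principal irreducible character has degree at least (q^n − 1)(q^n − q)/(2(q + 1)). -/
theorem result {F : Type*} [Field F] [Fintype F] (hodd : Odd (Fintype.card F)) (n : ℕ) (hn : 2 ≤ n) :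
    Nat.card {χ : Cfsg.IrrCharacter ↥(Matrix.symplecticGroup (Fin n) F) // (χ : ↥(Matrix.symplecticGroup (Fin n) F) → ℂ) 1 = (((Fintype.card F) ^ n + 1 : ℕ) : ℂ) / 2} = 2 ∧
    Nat.card {χ : Cfsg.IrrCharacter ↥(Matrix.symplecticGroup (Fin n) F) // (χ : ↥(Matrix.symplecticGroup (Fin n) F) → ℂ) 1 = (((Fintype.card F) ^ n - 1 : ℕ) : ℂ) / 2} = 2 ∧
    ∀ χ : Cfsg.IrrCharacter ↥(Matrix.symplecticGroup (Fin n) F),
      (χ : ↥(Matrix.symplecticGroup (Fin n) F) → ℂ) 1 ≠ 1 →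
      (χ : ↥(Matrix.symplecticGroup (Fin n) F) → ℂ) 1 ≠ (((Fintype.card F) ^ n + 1 : ℕ) : ℂ) / 2 →
      (χ : ↥(Matrix.symplecticGroup (Fin n) F) → ℂ) 1 ≠ (((Fintype.card F) ^ n - 1 : ℕ) : ℂ) / 2 →
      (((Fintype.card F) ^ n - 1 : ℕ) : ℝ) * (((Fintype.card F) ^ n - Fintype.card F : ℕ) : ℝ) / (2 * ((Fintype.card F : ℕ) + 1 : ℝ)) ≤ ‖(χ : ↥(Matrix.symplecticGroup (Fin n) F) → ℂ) 1‖ := by
  obtain ⟨h1, h2, h3⟩ := WeilUniq.weil_characters (F := F) hodd n hn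
  have hQ : Odd (Fintype.card F ^ n) := hodd.pow
  obtain ⟨m, hm⟩ := hQ
  have hd : (Fintype.card F ^ n - 1) / 2 = m := by omega
  have e1 : (((Fintype.card F) ^ n + 1 : ℕ) : ℂ) / 2 = (((Fintype.card F ^ n - 1) / 2 + 1 : ℕ) : ℂ) := by
    rw [hd, hm]; push_cast; ring
  have e2 : (((Fintype.card F) ^ n - 1 : ℕ) : ℂ) / 2 = (((Fintype.card F ^ n - 1) / 2 : ℕ) : ℂ) := by
    rw [hd, hm, Nat.add_sub_cancel]; push_cast; ring
  rw [e1, e2]
  refine ⟨h1, h2, fun χ hone hp hm' => ?_⟩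
  obtain ⟨k, hk, hk'⟩ := h3 χ
  rcases hk' with rfl | rfl | rfl | hk'
  · exact absurd (by rw [hk, Nat.cast_one]) hone
  · exact absurd hk hp
  · exact absurd hk hm'
  rw [hk, Complex.norm_natCast, div_le_iff₀ (by positivity)]
  have : (((Fintype.card F ^ n - 1) * (Fintype.card F ^ n - Fintype.card F) : ℕ) : ℝ) ≤
      ((2 * (Fintype.card F + 1) * k : ℕ) : ℝ) := Nat.cast_le.2 hk'
  push_cast at this
  linarith

end Cfsg.Agent.S2524
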