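import Cfsg.Statements.S2525
import Cfsg.Agent.Lib.LangSteinberg.PrimeGraphF4
import Cfsg.Agent.Lib.LangSteinberg.PrimeGraphF4Exist
-- import your own Cfsg.Agent.* helpers here

set_option autoImplicit false
open Cfsg

namespace Cfsg.Agent.S2525

open Cfsg.Lie Cfsg.Agent.LangSteinberg Cfsg.Agent.Chev.BNSetup Cfsg.Agent.PrimeGraphF4

set_option maxRecDepth 100000

/-- The exponents of non-adjacent odd primes. -/
def Far (k l : ℕ) : Prop :=
  (k < l ∧ (l ∈ ({8, 12} : Finset ℕ) ∨ (l = 6 ∧ k ∈ ({3, 4} : Finset ℕ)) ∨ (l = 4 ∧ k = 3))) ∨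
  (l < k ∧ (k ∈ ({8, 12} : Finset ℕ) ∨ (k = 6 ∧ l ∈ ({3, 4} : Finset ℕ)) ∨ (k = 4 ∧ l = 3)))

instance (k l : ℕ) : Decidable (Far k l) := inferInstanceAs (Decidable (_ ∨ _))

instance (k l : ℕ) : Decidable (Compat k l) := inferInstanceAs (Decidable (_ ∨ _))

theorem far_iff : ∀ k ∈ ({1, 2, 3, 4, 6, 8, 12} : Finset ℕ), ∀ l ∈ ({1, 2, 3, 4, 6, 8, 12} : Finset ℕ),
    (Far k l ↔ ¬ Compat k l) ∧ (Compat k l ↔ Compat l k) ∧
    (¬ Compat k l → k ∈ ({1, 2} : Finset ℕ) → l ∈ ({8, 12} : Finset ℕ)) ∧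
    (Compat k l → k = l ∨ ∃ T ∈ pairTori, ∃ T' ∈ pairTori, T.word = T'.word ∧ T.cyc.d = k ∧ T'.cyc.d = l) := by
  decide +kernel

theorem two_small : ∀ e ∈ ({1, 2, 3, 4, 6, 8, 12} : Finset ℕ), e ∉ ({8, 12} : Finset ℕ) →
    ∃ Tα ∈ fixTori, Tα.1.cyc.d = e := by decide +kernel

variable {F : Type*} [Field F] [Fintype F]

/-- The two parts of an element of order `r * s`. -/
theorem parts {r s : ℕ} (hr : r.Prime) (hs : s.Prime) {x : ↥(chevF4.group F)} (hx : orderOf x = r * s) :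
    ∃ a b : ↥(chevF4.group F), orderOf a = r ∧ orderOf b = s ∧ a * b = b * a := by
  refine ⟨x ^ s, x ^ r, ?_, ?_, (Commute.pow_pow (Commute.refl x) s r).eq⟩
  · rw [orderOf_pow_of_dvd hs.ne_zero (hx ▸ dvd_mul_left s r), hx, Nat.mul_div_cancel _ hs.pos]
  · rw [orderOf_pow_of_dvd hr.ne_zero (hx ▸ dvd_mul_right r s), hx, Nat.mul_div_cancel_left _ hr.pos]

theorem five_le {s : ℕ} [Fact s.Prime] (q : ℕ) (h : orderOf (q : ZMod s) ∈ ({8, 12} : Finset ℕ)) : 5 ≤ s := by
  by_contra hlt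
  have hs : s.Prime := Fact.out
  have h1 : orderOf (q : ZMod s) ≤ s := by
    have := (orderOf_le_card_univ (x := (q : ZMod s))).trans (le_of_eq (ZMod.card s))
    exact this
  simp only [Finset.mem_insert, Finset.mem_singleton] at h
  omega

theorem two_case {n : ℕ} (hn : 1 ≤ n) (hF : Fintype.card F = 2 ^ n) {s : ℕ} (hs : s.Prime) (hs2 : s ≠ 2)
    (hsG : s ∣ Nat.card ↥(chevF4.group F)) :
    (¬ ∃ x : ↥(chevF4.group F), orderOf x = 2 * s) ↔
      orderOf ((Fintype.card F : ℕ) : ZMod s) ∈ ({8, 12} : Finset ℕ) := by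
  have := Fact.mk hs
  constructor
  · intro h
    by_contra he
    obtain ⟨Tα, hTα, hd⟩ := two_small _ (exponent_cases hn hF hs hs2 hsG) he
    exact h (exists_order hn hF Nat.prime_two hs (Ne.symm hs2) hs2 (Or.inl ⟨rfl, Tα, hTα, hd⟩))
  · rintro he ⟨x, hx⟩
    obtain ⟨a, b, ha, hb, hab⟩ := parts Nat.prime_two hs hx
    exact (compat_of_commute hn hF Nat.prime_two hs (Ne.symm hs2) (five_le _ he) (Or.inr he) ha hb hab).1 rfl

theorem odd_case {n : ℕ} (hn : 1 ≤ n) (hF : Fintype.card F = 2 ^ n) {r s : ℕ} (hr : r.Prime) (hs : s.Prime)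
    (hrs : r ≠ s) (hr2 : r ≠ 2) (hs2 : s ≠ 2) (hrG : r ∣ Nat.card ↥(chevF4.group F))
    (hsG : s ∣ Nat.card ↥(chevF4.group F)) :
    (∃ x : ↥(chevF4.group F), orderOf x = r * s) ↔
      Compat (orderOf ((Fintype.card F : ℕ) : ZMod r)) (orderOf ((Fintype.card F : ℕ) : ZMod s)) := by
  have := Fact.mk hr
  have := Fact.mk hs
  have hk := exponent_cases hn hF hr hr2 hrG
  have hl := exponent_cases hn hF hs hs2 hsG
  constructor
  · rintro ⟨x, hx⟩
    obtain ⟨a, b, ha, hb, hab⟩ := parts hr hs hx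
    by_contra hC
    have hsmall : ∀ {m : ℕ} [Fact m.Prime], m ≠ 2 → ¬ 5 ≤ m →
        orderOf ((Fintype.card F : ℕ) : ZMod m) ∈ ({1, 2} : Finset ℕ) := by
      intro m hm hm2 hlt
      have hmp : m.Prime := Fact.out
      have h3 : m = 3 := by
        have := hmp.two_le
        have h4 : m ≠ 4 := fun h => absurd (h ▸ hmp : Nat.Prime 4) (by norm_num)
        omega
      subst h3
      have hne : ((Fintype.card F : ℕ) : ZMod 3) ≠ 0 := by
        rw [Ne, ZMod.natCast_eq_zero_iff, hF]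
        exact fun h => absurd (Nat.prime_three.dvd_of_dvd_pow h) (by norm_num)
      have := Nat.mem_divisors.2 ⟨ZMod.orderOf_dvd_card_sub_one hne, (by norm_num : (3 - 1 : ℕ) ≠ 0)⟩
      rwa [show Nat.divisors (3 - 1) = {1, 2} by decide] at this
    by_cases hs5 : 5 ≤ s
    · refine hC (compat_of_commute hn hF hr hs hrs hs5 ?_ ha hb hab).2
      by_cases hr5 : 5 ≤ r
      · exact Or.inl hr5
      · exact Or.inr ((far_iff _ hk _ hl).2.2.1 hC (hsmall hr2 hr5))
    · have hr5 : 5 ≤ r := by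
        by_contra hr5
        have := hr.two_le
        have := hs.two_le
        have h4 : r ≠ 4 := fun h => absurd (h ▸ hr : Nat.Prime 4) (by norm_num)
        have h4' : s ≠ 4 := fun h => absurd (h ▸ hs : Nat.Prime 4) (by norm_num)
        omega
      have hC' : ¬ Compat (orderOf ((Fintype.card F : ℕ) : ZMod s)) (orderOf ((Fintype.card F : ℕ) : ZMod r)) :=
        fun h => hC ((far_iff _ hl _ hk).2.1.1 h)
      exact hC' (compat_of_commute hn hF hs hr (Ne.symm hrs) hr5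
        (Or.inr ((far_iff _ hl _ hk).2.2.1 hC' (hsmall hs2 hs5))) hb ha hab.symm).2
  · intro hC
    rcases (far_iff _ hk _ hl).2.2.2 hC with heq | hpair
    · -- one homocyclic torus
      obtain ⟨T, hT, hTd, -⟩ := coverF4 (orderOf ((Fintype.card F : ℕ) : ZMod r))
        (by revert hk; generalize orderOf ((Fintype.card F : ℕ) : ZMod r) = e; revert e; decide)
        (by revert hk; generalize orderOf ((Fintype.card F : ℕ) : ZMod r) = e; revert e; decide)
      have hTc := toriF4_checked T hT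
      have : NeZero (r * s) := ⟨Nat.mul_ne_zero hr.ne_zero hs.ne_zero⟩
      have hne : ∀ {m : ℕ}, m.Prime → m ≠ 2 → (m : F) ≠ 0 := by
        intro m hm hm2 h0
        obtain ⟨p, hp⟩ := CharP.exists F
        have h1 := (CharP.cast_eq_zero_iff F p _).1 (FiniteField.cast_card_eq_zero F)
        obtain ⟨⟨a, ha⟩, hpp, -⟩ := FiniteField.card F p
        rw [hF] at h1
        have hp2 := (Nat.prime_dvd_prime_iff_eq hpp Nat.prime_two).1 (hpp.dvd_of_dvd_pow h1)
        subst hp2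
        exact hm2 ((Nat.prime_dvd_prime_iff_eq Nat.prime_two hm).1 ((CharP.cast_eq_zero_iff F 2 m).1 h0)).symm
      obtain ⟨f, hf⟩ := exists_homocyclic (F := F) Cfsg.Agent.Chev.F4.good facts_chevF4 coordsF4 1 one_pos denF4
        (fun i hi j hj => (TorusData.list_range_sum_eq _ _).symm.trans (denF4_right i hi j hj))
        (fun i hi j hj => (TorusData.list_range_sum_eq _ _).symm.trans (denF4_left i hi j hj))
        hTc rfl (m := r * s) (by rw [Nat.cast_mul]; exact mul_ne_zero (hne hr hr2) (hne hs hs2))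
        (Nat.coprime_one_left _) (by
          rw [Nat.cast_mul]
          exact IsCoprime.mul_dvd (Nat.isCoprime_iff_coprime.2 ((Nat.coprime_primes hr hs).2 hrs))
            (dvd_peval hTc.cyc_valid Fintype.card_pos hTd.symm)
            (dvd_peval hTc.cyc_valid Fintype.card_pos (heq ▸ hTd.symm)))
      have hJ : 0 < T.J.length := (by decide : ∀ T ∈ [torF4d1, torF4d2, torF4d3, torF4d4, torF4d6, torF4d8, torF4d12],
        0 < (DTorus.J T).length) T hT
      refine ⟨f (Pi.mulSingle (⟨0, hJ⟩ : Fin T.J.length) (Multiplicative.ofAdd 1)), ?_⟩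
      rw [orderOf_injective f hf, ← MonoidHom.mulSingle_apply,
        orderOf_injective _ (Pi.mulSingle_injective (M := fun _ : Fin T.J.length => Multiplicative (ZMod (r * s))) (⟨0, hJ⟩ : Fin T.J.length)),
        orderOf_ofAdd_eq_addOrderOf, ZMod.addOrderOf_one]
    · exact exists_order hn hF hr hs hrs hs2 (Or.inr ⟨hr2, hpair⟩)

/-- Let F be a finite field with q = 2^n elements and G = F₄(F). For an odd prime r let e(r, q) be the multiplicative order of q modulo r. Two distinct primes r, s dividing the order of G are non-adjacent in the prime graph of G (no element of order rs) if and only if, up to swapping r and s, either r = 2 and e(s, q) ∈ {8, 12}, or r, s are both odd with k = e(r, q) < l = e(s, q) and one of: l ∈ {8, 12}; l = 6 and k ∈ {3, 4}; l = 4 and k = 3. -/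
theorem result {F : Type*} [Field F] [Fintype F] (n : ℕ) (hn : 1 ≤ n) (hF : Fintype.card F = 2 ^ n)
    (r s : ℕ) (hr : r.Prime) (hs : s.Prime) (hrs : r ≠ s) (hrG : r ∣ Nat.card ↥(Cfsg.Lie.chevF4.group F)) (hsG : s ∣ Nat.card ↥(Cfsg.Lie.chevF4.group F)) :
    (¬ ∃ x : ↥(Cfsg.Lie.chevF4.group F), orderOf x = r * s) ↔
      ((r = 2 ∧ orderOf ((Fintype.card F : ℕ) : ZMod s) ∈ ({8, 12} : Finset ℕ)) ∨ (s = 2 ∧ orderOf ((Fintype.card F : ℕ) : ZMod r) ∈ ({8, 12} : Finset ℕ)) ∨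
       (r ≠ 2 ∧ s ≠ 2 ∧
         ((orderOf ((Fintype.card F : ℕ) : ZMod r) < orderOf ((Fintype.card F : ℕ) : ZMod s) ∧ (orderOf ((Fintype.card F : ℕ) : ZMod s) ∈ ({8, 12} : Finset ℕ) ∨ (orderOf ((Fintype.card F : ℕ) : ZMod s) = 6 ∧ orderOf ((Fintype.card F : ℕ) : ZMod r) ∈ ({3, 4} : Finset ℕ)) ∨ (orderOf ((Fintype.card F : ℕ) : ZMod s) = 4 ∧ orderOf ((Fintype.card F : ℕ) : ZMod r) = 3))) ∨
          (orderOf ((Fintype.card F : ℕ) : ZMod s) < orderOf ((Fintype.card F : ℕ) : ZMod r) ∧ (orderOf ((Fintype.card F : ℕ) : ZMod r) ∈ ({8, 12} : Finset ℕ) ∨ (orderOf ((Fintype.card F : ℕ) : ZMod r) = 6 ∧ orderOf ((Fintype.card F : ℕ) : ZMod s) ∈ ({3, 4} : Finset ℕ)) ∨ (orderOf ((Fintype.card F : ℕ) : ZMod r) = 4 ∧ orderOf ((Fintype.card F : ℕ) : ZMod s) = 3)))))) := by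
  have := Fact.mk hr
  have := Fact.mk hs
  by_cases hr2 : r = 2
  · subst hr2
    rw [two_case hn hF hs (Ne.symm hrs) hsG]
    constructor
    · exact fun h => Or.inl ⟨rfl, h⟩
    · rintro (⟨-, h⟩ | ⟨h, -⟩ | ⟨h, -⟩)
      · exact h
      · exact absurd h.symm hrs
      · exact absurd rfl h
  by_cases hs2 : s = 2
  · subst hs2
    rw [mul_comm, two_case hn hF hr hr2 hrG]
    constructor
    · exact fun h => Or.inr (Or.inl ⟨rfl, h⟩)
    · rintro (⟨h, -⟩ | ⟨-, h⟩ | ⟨-, h, -⟩)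
      · exact absurd h hr2
      · exact h
      · exact absurd rfl h
  rw [odd_case hn hF hr hs hrs hr2 hs2 hrG hsG,
    ← (far_iff _ (exponent_cases hn hF hr hr2 hrG) _ (exponent_cases hn hF hs hs2 hsG)).1]
  exact ⟨fun h => Or.inr (Or.inr ⟨hr2, hs2, h⟩), fun h => by
    rcases h with ⟨h, -⟩ | ⟨h, -⟩ | ⟨-, -, h⟩
    · exact absurd h hr2
    · exact absurd h hs2
    · exact h⟩

end Cfsg.Agent.S2525
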