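import Cfsg.Statements.S2530

import Cfsg.Agent.Lib.Perm.CoxeterPresentation

set_option autoImplicit false
set_option linter.style.haveILetI false
open Cfsg

namespace Cfsg.Agent.S2530

theorem three {G : Type*} [Group G] {a b : G} (ha : a * a = 1) (hb : b * b = 1)
    (h : a * b * a = b * a * b) : (a * b) ^ 3 = 1 := by
  rw [pow_three, show a * b * (a * b * (a * b)) = (a * b * a) * (b * a * b) by simp only [mul_assoc], h]
  simp only [mul_assoc]
  rw [← mul_assoc b b, hb, one_mul, ← mul_assoc a a, ha, one_mul, hb]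

theorem two {G : Type*} [Group G] {a b : G} (ha : a * a = 1) (hb : b * b = 1)
    (h : a * b = b * a) : (a * b) ^ 2 = 1 := by
  rw [(show Commute a b from h).mul_pow, pow_two, pow_two, ha, hb, mul_one]

theorem comm_of_two {G : Type*} [Group G] {a b : G} (ha : a * a = 1) (hb : b * b = 1)
    (h : (a * b) ^ 2 = 1) : a * b = b * a := by
  rw [pow_two] at h
  rw [eq_inv_of_mul_eq_one_left h, mul_inv_rev, inv_eq_of_mul_eq_one_right ha, inv_eq_of_mul_eq_one_right hb]

theorem braid_of_three {G : Type*} [Group G] {a b : G} (ha : a * a = 1) (hb : b * b = 1)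
    (h : (a * b) ^ 3 = 1) : a * b * a = b * a * b := by
  rw [pow_three, show a * b * (a * b * (a * b)) = (a * b * a) * (b * a * b) by simp only [mul_assoc]] at h
  rw [eq_inv_of_mul_eq_one_left h, mul_inv_rev, mul_inv_rev, inv_eq_of_mul_eq_one_right ha,
    inv_eq_of_mul_eq_one_right hb, mul_assoc]


/-- The Coxeter presentation of the symmetric group: for every n, the symmetric group on n+1 letters is the Coxeter group of type A_n with the adjacent transpositions (i, i+1) as simple reflections; that is, it is presented by generators r_1, …, r_n subject to r_i² = 1, (r_i r_j)² = 1 for |i − j| > 1 and (r_i r_{i+1})³ = 1, with r_i mapping to (i, i+1). -/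
theorem result (n : ℕ) :
    ∃ cs : CoxeterSystem (CoxeterMatrix.A n) (Equiv.Perm (Fin (n + 1))), ∀ i : Fin n, cs.simple i = Equiv.swap i.castSucc i.succ := by
  classical
  let M := CoxeterMatrix.A n
  have hlift : M.IsLiftable fun i : Fin n => Perm.adjSwap n i := by
    intro i j
    beta_reduce
    have hr := Perm.adjSwap_rels n
    have hsq := fun k (hk : k < n) => hr.sq k hk
    show _ ^ (if i = j then 1 else if (j : ℕ) + 1 = i ∨ (i : ℕ) + 1 = j then 3 else 2) = 1
    split_ifs with h h'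
    · subst h
      rw [pow_one, hsq _ i.2]
    · rcases h' with h' | h'
      · rw [← h']
        exact three (hr.sq _ (h' ▸ i.2)) (hr.sq _ j.2) (hr.braid _ (h' ▸ i.2)).symm
      · rw [← h']
        exact three (hr.sq _ i.2) (hr.sq _ (h' ▸ j.2)) (hr.braid _ (h' ▸ j.2))
    · rw [not_or] at h'
      have hne : (i : ℕ) ≠ j := fun e => h (Fin.ext e)
      rcases lt_or_gt_of_ne hne with hij | hij
      · exact two (hsq _ i.2) (hsq _ j.2) (hr.comm _ _ (by omega) j.2)
      · exact two (hsq _ i.2) (hsq _ j.2) (hr.comm _ _ (by omega) i.2).symm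
  let cs₀ := M.toCoxeterSystem
  let ψ : M.Group →* Equiv.Perm (Fin (n + 1)) := cs₀.lift ⟨fun i => Perm.adjSwap n i, hlift⟩
  let s : ℕ → M.Group := fun k => if hk : k < n then M.simple ⟨k, hk⟩ else 1
  have hs : ∀ i : Fin n, s i = M.simple i := fun i => dif_pos i.2
  have hrel : ∀ i j : Fin n, (M.simple i * M.simple j) ^ M i j = 1 := fun i j => cs₀.simple_mul_simple_pow i j
  have hsq : ∀ i < n, s i * s i = 1 := fun i hi => by
    rw [hs ⟨i, hi⟩]; exact cs₀.simple_mul_simple_self _
  have hM3 : ∀ i (hi : i + 1 < n), M ⟨i, by omega⟩ ⟨i + 1, hi⟩ = 3 := fun i hi => by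
    show (if _ then _ else _) = 3
    rw [if_neg (by simp), if_pos (by simp)]
  have hbr : Perm.BraidRels s n := by
    refine ⟨hsq, fun i hi => ?_, fun i j hij hj => ?_⟩
    · have h := hrel ⟨i, by omega⟩ ⟨i + 1, hi⟩
      rw [hM3 i hi, ← hs ⟨i, by omega⟩, ← hs ⟨i + 1, hi⟩] at h
      exact braid_of_three (hsq i (by omega)) (hsq _ hi) h
    · have h := hrel ⟨i, by omega⟩ ⟨j, hj⟩
      have hM : M ⟨i, by omega⟩ ⟨j, hj⟩ = 2 := by
        show (if _ then _ else _) = 2
        rw [if_neg (by simp; omega), if_neg (by simp; omega)]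
      rw [hM, ← hs ⟨i, by omega⟩, ← hs ⟨j, hj⟩] at h
      exact comm_of_two (hsq i (by omega)) (hsq _ hj) h
  obtain ⟨φ, hφ⟩ := Perm.exists_hom_of_braidRels hbr
  have h1 : φ.comp ψ = MonoidHom.id _ := by
    refine cs₀.ext_simple fun i => ?_
    show φ (ψ (cs₀.simple i)) = cs₀.simple i
    simp only [ψ]
    rw [CoxeterSystem.lift_apply_simple, hφ i i.2, hs, CoxeterMatrix.toCoxeterSystem_simple]
  have h2 : ψ.comp φ = MonoidHom.id _ := by
    refine MonoidHom.eq_of_eqOn_dense (Perm.closure_adjSwap n) ?_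
    rintro _ ⟨k, hk, rfl⟩
    show ψ (φ (Perm.adjSwap n k)) = Perm.adjSwap n k
    rw [hφ k hk, hs ⟨k, hk⟩, ← congrFun (CoxeterMatrix.toCoxeterSystem_simple M) ⟨k, hk⟩]
    exact cs₀.lift_apply_simple hlift ⟨k, hk⟩
  refine ⟨⟨MonoidHom.toMulEquiv φ ψ h2 h1⟩, fun i => ?_⟩
  show ψ (M.simple i) = _
  rw [← congrFun (CoxeterMatrix.toCoxeterSystem_simple M) i, cs₀.lift_apply_simple hlift i]
  show Perm.adjSwap n i = _
  rw [Perm.adjSwap, dif_pos i.2]
  rfl

end Cfsg.Agent.S2530
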