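import Cfsg.Statements.S2531
-- import your own Cfsg.Agent.* helpers here

set_option autoImplicit false
open Cfsg

namespace Cfsg.Agent.S2531

variable {F : Type*} [Field F] [Finite F] {n : ℕ}


omit [Finite F] in
theorem rep_mk_mem_iff (U : Submodule F (Fin n → F)) (v : Fin n → F) (hv : v ≠ 0) :
    (Projectivization.mk F v hv).rep ∈ U ↔ v ∈ U := by
  obtain ⟨u, hu⟩ := Projectivization.exists_smul_eq_mk_rep F v hv
  rw [← hu]
  exact U.smul_mem_iff' u

theorem card_pts (W : Submodule F (Fin n → F)) (hW : W ≠ ⊥) :
    ((Nat.card {x : (Projectivization F (Fin n → F)) // x.rep ∈ W} : ℕ) : ZMod (Nat.card F)) = 1 := by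
  have e : Nat.card {x : (Projectivization F (Fin n → F)) // x.rep ∈ W} = Nat.card (Projectivization F W) := by
    symm
    refine Nat.card_congr (Equiv.ofBijective
      (fun y => ⟨Projectivization.map W.subtype W.subtype_injective y, ?_⟩) ⟨?_, ?_⟩)
    · induction y using Projectivization.ind with
      | h v hv =>
        rw [Projectivization.map_mk, rep_mk_mem_iff]
        exact v.2
    · intro y z h
      exact Projectivization.map_injective _ W.subtype_injective (congrArg Subtype.val h)
    · rintro ⟨x, hx⟩
      refine ⟨Projectivization.mk F (⟨x.rep, hx⟩ : W) (fun h => x.rep_nonzero (congrArg Subtype.val h)), ?_⟩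
      ext1
      simp only [Projectivization.map_mk, Submodule.subtype_apply, Projectivization.mk_rep]
  have h := Projectivization.card' F W
  rw [Module.natCard_eq_pow_finrank (K := F) (V := W)] at h
  have hd : Module.finrank F W ≠ 0 := by
    rwa [ne_eq, Submodule.finrank_eq_zero]
  have hq : 1 ≤ Nat.card F := Nat.card_pos
  have h' := congrArg (Nat.cast : ℕ → ZMod (Nat.card F)) h
  push_cast [Nat.cast_sub hq] at h'
  rw [ZMod.natCast_self, zero_pow hd] at h'
  rw [e]
  linear_combination h'

/-- Let `F` be a finite field and `n ≥ 3`. No set of permutations of the points of the projective space of `Fⁿ`, each induced by an invertible semilinear transformation of `Fⁿ` (so a subset of the full projective semilinear group), is sharply 2-transitive on the points: it is impossible that for all pairs of distinct points `(a, b)` and `(c, d)` exactly one member of the set sends `a` to `c` and `b` to `d`. -/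
theorem result {F : Type*} [Field F] [Finite F]
    (n : ℕ) (hn : 3 ≤ n) (S : Set (Equiv.Perm (Projectivization F (Fin n → F))))
    (hS : ∀ s ∈ S, ∃ (σ : F ≃+* F) (f : (Fin n → F) →ₛₗ[(σ : F →+* F)] (Fin n → F)) (hf : Function.Injective f),
      ∀ x, s x = Projectivization.map f hf x) :
    ¬ (∀ a b c d : Projectivization F (Fin n → F), a ≠ b → c ≠ d →
        ∃! s, s ∈ S ∧ s a = c ∧ s b = d) := by
  classical
  intro H
  have : Finite (Projectivization F (Fin n → F)) := inferInstance
  cases nonempty_fintype (Projectivization F (Fin n → F))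
  cases nonempty_fintype (Equiv.Perm (Projectivization F (Fin n → F)))
  let i0 : Fin n := ⟨0, by omega⟩
  let i1 : Fin n := ⟨1, by omega⟩
  let i2 : Fin n := ⟨2, by omega⟩
  let U : Submodule F (Fin n → F) := LinearMap.ker (LinearMap.proj (R := F) (φ := fun _ : Fin n => F) i0)
  let W : Submodule F (Fin n → F) := LinearMap.ker (LinearMap.proj (R := F) (φ := fun _ : Fin n => F) i2)
  let e : Fin n → (Fin n → F) := fun i => Pi.single i 1
  have he : ∀ i, e i ≠ 0 := fun i => by simp [e]
  let a : (Projectivization F (Fin n → F)) := Projectivization.mk F (e i2) (he i2)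
  let c : (Projectivization F (Fin n → F)) := Projectivization.mk F (e i0) (he i0)
  have i01 : i0 ≠ i1 := by simp [i0, i1]
  have i02 : i0 ≠ i2 := by simp [i0, i2]
  have i12 : i1 ≠ i2 := by simp [i1, i2]
  have ha : a.rep ∉ W := by
    rw [rep_mk_mem_iff]
    simp [W, e]
  have hc : c.rep ∉ U := by
    rw [rep_mk_mem_iff]
    simp [U, e]
  have hq : 1 < Nat.card F := Finite.one_lt_card
  have : Fact (1 < Nat.card F) := ⟨hq⟩
  let Sac := Finset.univ.filter (fun s : Equiv.Perm (Projectivization F (Fin n → F)) => s ∈ S ∧ s a = c)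
  let PW := Finset.univ.filter (fun x : (Projectivization F (Fin n → F)) => x.rep ∈ W)
  let PU := Finset.univ.filter (fun x : (Projectivization F (Fin n → F)) => x.rep ∈ U)
  have cardP : ∀ Z : Submodule F (Fin n → F), Z ≠ ⊥ →
      (((Finset.univ.filter (fun x : (Projectivization F (Fin n → F)) => x.rep ∈ Z)).card : ℕ) : ZMod (Nat.card F)) = 1 := by
    intro Z hZ
    rw [← Fintype.card_subtype, ← Nat.card_eq_fintype_card]
    exact card_pts Z hZ
  -- each member of `S` fixing the pair of `a, c` meets the two subspaces in `1` mod `q` points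
  have h1 : ∀ s ∈ Sac, (((PW.filter (fun b => s b ∈ PU)).card : ℕ) : ZMod (Nat.card F)) = 1 := by
    intro s hs
    obtain ⟨σ, f, hf, hsf⟩ := hS s (Finset.mem_filter.1 hs).2.1
    have hset : PW.filter (fun b => s b ∈ PU) =
        Finset.univ.filter (fun x : (Projectivization F (Fin n → F)) => x.rep ∈ W ⊓ U.comap f) := by
      ext x
      have : s x = Projectivization.mk F (f x.rep) (by simpa using hf.ne x.rep_nonzero) := by
        rw [hsf x]
        conv_lhs => rw [← x.mk_rep]
        rw [Projectivization.map_mk]
      simp [PW, PU, this, rep_mk_mem_iff]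
    rw [hset]
    refine cardP _ ?_
    rw [Submodule.ne_bot_iff]
    by_cases hu : f (e i0) i0 = 0
    · exact ⟨e i0, ⟨by simp [W, e, i02.symm], by simpa [U] using hu⟩, he i0⟩
    · refine ⟨σ.symm (f (e i1) i0) • e i0 - σ.symm (f (e i0) i0) • e i1,
        ⟨by simp [W, e, i02.symm, i12.symm], ?_⟩, ?_⟩
      · simp [U, map_sub, map_smulₛₗ]
        ring
      · intro hz
        have := congrFun hz i1
        simp [e, i01.symm, sub_eq_zero] at this
        exact hu (by simpa using this)
  -- double count
  have h2 : ∑ s ∈ Sac, (PW.filter (fun b => s b ∈ PU)).card = PW.card * PU.card := by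
    have h3 : ∀ b ∈ PW, ∀ d ∈ PU, (Sac.filter (fun s : Equiv.Perm (Projectivization F (Fin n → F)) => s b = d)).card = 1 := by
      intro b hb d hd
      have hab : a ≠ b := fun h => ha (h ▸ (Finset.mem_filter.1 hb).2)
      have hcd : c ≠ d := fun h => hc (h ▸ (Finset.mem_filter.1 hd).2)
      obtain ⟨s, ⟨h1, h2, h3⟩, huniq⟩ := H a b c d hab hcd
      rw [Finset.card_eq_one]
      refine ⟨s, Finset.eq_singleton_iff_unique_mem.2 ⟨by simp [Sac, h1, h2, h3], ?_⟩⟩
      intro t ht
      simp only [Finset.mem_filter, Finset.mem_univ, true_and, Sac] at ht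
      exact huniq t ⟨ht.1.1, ht.1.2, ht.2⟩
    calc ∑ s ∈ Sac, (PW.filter (fun b => s b ∈ PU)).card
        = ∑ b ∈ PW, (Sac.filter (fun s : Equiv.Perm (Projectivization F (Fin n → F)) => s b ∈ PU)).card := by
          simp only [Finset.card_filter]
          rw [Finset.sum_comm]
      _ = ∑ b ∈ PW, PU.card := by
          refine Finset.sum_congr rfl fun b hb => ?_
          rw [Finset.card_eq_sum_card_fiberwise (f := fun s : Equiv.Perm (Projectivization F (Fin n → F)) => s b) (t := PU)]
          · rw [Finset.card_eq_sum_ones PU]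
            refine Finset.sum_congr rfl fun d hd => ?_
            rw [← h3 b hb d hd, Finset.filter_filter]
            congr 1
            refine Finset.filter_congr fun s _ => ⟨fun h => h.2, fun h => ⟨h ▸ hd, h⟩⟩
          · intro s hs
            exact (Finset.mem_filter.1 hs).2
      _ = PW.card * PU.card := by simp
  have h4 : ((Sac.card : ℕ) : ZMod (Nat.card F)) = 0 := by
    let b0 : (Projectivization F (Fin n → F)) := c
    have hab : a ≠ b0 := fun h => ha (by rw [h, rep_mk_mem_iff]; simp [W, e, i02.symm])
    have : Sac.card = (Finset.univ.erase c).card := by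
      refine Finset.card_bij (fun s _ => s b0) ?_ ?_ ?_
      · intro s hs
        simp only [Finset.mem_filter, Finset.mem_univ, true_and, Sac] at hs
        simp only [Finset.mem_erase, Finset.mem_univ, and_true]
        exact fun h => hab (s.injective (hs.2.trans h.symm))
      · intro s hs t ht hst
        simp only [Finset.mem_filter, Finset.mem_univ, true_and, Sac] at hs ht
        have hne : c ≠ s b0 := fun h => hab (s.injective (hs.2.trans h))
        exact (H a b0 c (s b0) hab hne).unique ⟨hs.1, hs.2, rfl⟩ ⟨ht.1, ht.2, hst.symm⟩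
      · intro d hd
        obtain ⟨s, ⟨h1, h2, h3⟩, -⟩ := H a b0 c d hab (Finset.ne_of_mem_erase hd).symm
        exact ⟨s, by simp [Sac, h1, h2], h3⟩
    rw [this, Finset.card_erase_of_mem (Finset.mem_univ c),
      Nat.cast_sub (Finset.card_pos.2 ⟨c, Finset.mem_univ c⟩)]
    have := cardP ⊤ (by rw [Submodule.ne_bot_iff]; exact ⟨e i0, trivial, he i0⟩)
    simp only [Submodule.mem_top, Finset.filter_true] at this
    rw [this]; simp
  have h5 := congrArg (Nat.cast : ℕ → ZMod (Nat.card F)) h2
  push_cast at h5
  rw [Finset.sum_congr rfl h1, Finset.sum_const, nsmul_one, h4,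
    cardP W (by rw [Submodule.ne_bot_iff]; exact ⟨e i0, by simp [W, e, i02.symm], he i0⟩),
    cardP U (by rw [Submodule.ne_bot_iff]; exact ⟨e i1, by simp [U, e, i01], he i1⟩)] at h5
  simp at h5

end Cfsg.Agent.S2531
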