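import Cfsg.Statements.S2532
-- import your own Cfsg.Agent.* helpers here

set_option autoImplicit false
open Cfsg

namespace Cfsg.Agent.S2532

theorem hom_alternating_sign {r m : ℕ} (φ : Equiv.Perm (Fin r) →* Equiv.Perm (Fin m)) :
    ∀ σ ∈ alternatingGroup (Fin r), φ σ ∈ alternatingGroup (Fin m) := by
  suffices alternatingGroup (Fin r) ≤ (alternatingGroup (Fin m)).comap φ from fun σ hσ => this hσ
  rw [← Equiv.Perm.closure_three_cycles_eq_alternating, Subgroup.closure_le]
  intro σ hσ
  have h3 : σ ^ 3 = 1 := by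
    rw [← (hσ : σ.IsThreeCycle).orderOf, pow_orderOf_eq_one]
  simp only [SetLike.mem_coe, Subgroup.mem_comap, Equiv.Perm.mem_alternatingGroup]
  have := congrArg (fun x => Equiv.Perm.sign (φ x)) h3
  simp only [map_pow, map_one] at this
  rcases Int.units_eq_one_or (Equiv.Perm.sign (φ σ)) with h | h
  · exact h
  · rw [h] at this; exact absurd this (by decide)

/-- There is a function `f` of two natural-number arguments such that, whenever `m ≥ f(n, r)`, every subgroup of order `n` of the alternating group of degree `m` centralizes some subgroup of that alternating group isomorphic to the alternating group of degree `r`. -/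
theorem result :
    ∃ f : ℕ → ℕ → ℕ, ∀ (m r : ℕ) (H : Subgroup ↥(alternatingGroup (Fin m))), f (Nat.card H) r ≤ m →
      ∃ K : Subgroup ↥(alternatingGroup (Fin m)), Nonempty (↥K ≃* ↥(alternatingGroup (Fin r))) ∧
        K ≤ Subgroup.centralizer (H : Set ↥(alternatingGroup (Fin m))) := by
  classical
  refine ⟨fun n r => 2 ^ n * (n * r) + 1, fun m r H hm => ?_⟩
  have : Fintype H := Fintype.ofFinite H
  set n := Nat.card H with hn
  have hn' : n = Fintype.card H := Nat.card_eq_fintype_card
  let key : Fin m → Finset H := fun x => Finset.univ.filter (fun h => h • x = x)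
  obtain ⟨k, -, hk⟩ := Finset.exists_lt_card_fiber_of_mul_lt_card_of_maps_to
    (s := (Finset.univ : Finset (Fin m))) (t := (Finset.univ : Finset (Finset H))) (f := key) (n := n * r)
    (fun _ _ => Finset.mem_univ _) (by
      simp only [Finset.card_univ, Fintype.card_finset, Fintype.card_fin, ← hn']
      exact Nat.lt_of_succ_le hm)
  set T := Finset.univ.filter (fun x => key x = k) with hT
  let orb : Fin m → Finset (Fin m) := fun x => Finset.univ.image (fun h : H => h • x)
  have hr : r ≤ (T.image orb).card := by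
    have h1 : T.card ≤ n * (T.image orb).card := by
      refine Finset.card_le_mul_card_image T n fun b hb => ?_
      obtain ⟨x, -, rfl⟩ := Finset.mem_image.1 hb
      refine le_trans (Finset.card_le_card (t := orb x) ?_) ?_
      · intro y hy
        rw [Finset.mem_filter] at hy
        rw [← hy.2]
        exact Finset.mem_image.2 ⟨1, Finset.mem_univ _, one_smul _ _⟩
      · rw [hn', ← Finset.card_univ]
        exact Finset.card_image_le
    exact (Nat.lt_of_mul_lt_mul_left (lt_of_lt_of_le hk h1)).le
  obtain ⟨x0, hx0⟩ : T.Nonempty := Finset.card_pos.1 (by omega)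
  have hx0k : key x0 = k := (Finset.mem_filter.1 hx0).2
  obtain ⟨O, hOsub, hOcard⟩ := Finset.exists_subset_card_eq hr
  let eO : Fin r ≃ O := (Finset.equivFinOfCardEq hOcard).symm
  have hrep : ∀ i, ∃ x, x ∈ T ∧ orb x = eO i := fun i => Finset.mem_image.1 (hOsub (eO i).2)
  choose x hxT hxo using hrep
  have hstab : ∀ i (g h : H), g • x0 = h • x0 ↔ g • x i = h • x i := by
    intro i g h
    have := congrArg (fun t => h⁻¹ * g ∈ t) ((Finset.mem_filter.1 (hxT i)).2.trans hx0k.symm)
    simp only [key, Finset.mem_filter, Finset.mem_univ, true_and, mul_smul, inv_smul_eq_iff, eq_iff_iff] at this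
    exact this.symm
  have horb : ∀ i j (g h : H), g • x i = h • x j → i = j := by
    intro i j g h hij
    refine eO.injective (Subtype.ext ?_)
    rw [← hxo, ← hxo]
    have hxi : x i = (g⁻¹ * h) • x j := by rw [mul_smul, ← hij, inv_smul_smul]
    ext y
    simp only [orb, Finset.mem_image, Finset.mem_univ, true_and]
    constructor
    · rintro ⟨a, rfl⟩
      exact ⟨a * (g⁻¹ * h), by rw [mul_smul, ← hxi]⟩
    · rintro ⟨a, rfl⟩
      exact ⟨a * (g⁻¹ * h)⁻¹, by rw [hxi, mul_smul, inv_smul_smul]⟩
  let Y := {y : Fin m // ∃ h : H, h • x0 = y}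
  let hY : Y → H := fun y => y.2.choose
  have hhY : ∀ y : Y, hY y • x0 = y.1 := fun y => y.2.choose_spec
  let emb : Fin r × Y ↪ Fin m := ⟨fun p => hY p.2 • x p.1, by
    rintro ⟨i, y⟩ ⟨j, z⟩ h
    simp only at h
    obtain rfl := horb _ _ _ _ h
    refine Prod.ext rfl (Subtype.ext ?_)
    rw [← hhY y, ← hhY z]
    exact (hstab _ _ _).2 h⟩
  let φ : Equiv.Perm (Fin r) →* Equiv.Perm (Fin m) :=
    (Equiv.Perm.viaEmbeddingHom emb).comp
      { toFun := fun σ => Equiv.prodCongr σ (Equiv.refl Y)
        map_one' := by ext <;> rfl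
        map_mul' := fun a b => by ext <;> rfl }
  have hφ : Function.Injective φ := by
    intro a b hab
    have h := Equiv.Perm.viaEmbeddingHom_injective emb hab
    ext i
    have := congrArg (fun e : Equiv.Perm (Fin r × Y) => (e (i, ⟨x0, 1, one_smul _ _⟩)).1) h
    exact congrArg Fin.val this
  have hequiv : ∀ (g : H) i (y : Y),
      g • emb (i, y) = emb (i, ⟨g • y.1, g * hY y, by rw [mul_smul, hhY]⟩) := by
    intro g i y
    show g • hY y • x i = hY _ • x i
    rw [← mul_smul]
    apply (hstab i _ _).1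
    exact ((mul_smul g (hY y) x0).trans (congrArg (g • ·) (hhY y))).trans (hhY ⟨g • y.1, g * hY y, by rw [mul_smul, hhY]⟩).symm
  have hcomm : ∀ (σ : Equiv.Perm (Fin r)) (g : H) (z : Fin m), g • φ σ z = φ σ (g • z) := by
    intro σ g z
    by_cases hz : z ∈ Set.range emb
    · obtain ⟨⟨i, y⟩, rfl⟩ := hz
      simp only [φ, MonoidHom.comp_apply, Equiv.Perm.viaEmbeddingHom_apply, hequiv,
        Equiv.Perm.viaEmbedding_apply, MonoidHom.coe_mk, OneHom.coe_mk, Equiv.prodCongr_apply,
        Prod.map_apply, Equiv.refl_apply]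
    · have hz' : g • z ∉ Set.range emb := by
        rintro ⟨⟨i, y⟩, h⟩
        exact hz ⟨_, (hequiv g⁻¹ i y).symm.trans (by rw [h, inv_smul_smul])⟩
      simp only [φ, MonoidHom.comp_apply, Equiv.Perm.viaEmbeddingHom_apply,
        Equiv.Perm.viaEmbedding_apply_of_notMem _ _ _ hz, Equiv.Perm.viaEmbedding_apply_of_notMem _ _ _ hz']
  let ψ : alternatingGroup (Fin r) →* alternatingGroup (Fin m) :=
    (φ.comp (alternatingGroup (Fin r)).subtype).codRestrict _ (fun σ => hom_alternating_sign φ σ.1 σ.2)
  have hψ : Function.Injective ψ := fun a b h => Subtype.ext (hφ (congrArg Subtype.val h))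
  refine ⟨ψ.range, ⟨(MonoidHom.ofInjective hψ).symm⟩, ?_⟩
  rintro _ ⟨σ, rfl⟩
  rw [Subgroup.mem_centralizer_iff]
  intro g hg
  refine Subtype.ext (Equiv.ext fun z => ?_)
  exact hcomm σ.1 ⟨g, hg⟩ z

end Cfsg.Agent.S2532
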