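import Cfsg.Statements.S2533
-- import your own Cfsg.Agent.* helpers here

set_option autoImplicit false
open Cfsg

namespace Cfsg.Agent.S2533

open Matrix

/-- The generalized dihedral group on `(ℤ/p)³`. -/
structure GDih (p : ℕ) where
  x : Fin 3 → ZMod p
  e : ℤˣ

theorem GDih.ext' {p : ℕ} {g h : GDih p} (h1 : g.x = h.x) (h2 : g.e = h.e) : g = h := by
  cases g; cases h; simp_all

/-- Group structure. -/
@[reducible] def groupGDih (p : ℕ) : Group (GDih p) :=
  letI : Mul (GDih p) := ⟨fun g h => ⟨g.x + ((g.e : ℤ) : ZMod p) • h.x, g.e * h.e⟩⟩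
  letI : One (GDih p) := ⟨⟨0, 1⟩⟩
  letI : Inv (GDih p) := ⟨fun g => ⟨-(((g.e : ℤ) : ZMod p) • g.x), g.e⟩⟩
  Group.ofLeftAxioms
    (fun a b c => GDih.ext'
      (show (a.x + ((a.e : ℤ) : ZMod p) • b.x) + (((a.e * b.e : ℤˣ) : ℤ) : ZMod p) • c.x =
        a.x + ((a.e : ℤ) : ZMod p) • (b.x + ((b.e : ℤ) : ZMod p) • c.x) by
        rw [Units.val_mul, Int.cast_mul, smul_add, smul_smul, add_assoc])
      (show a.e * b.e * c.e = a.e * (b.e * c.e) from mul_assoc _ _ _))
    (fun a => GDih.ext' (show (0 : Fin 3 → ZMod p) + (((1 : ℤˣ) : ℤ) : ZMod p) • a.x = a.x by simp)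
      (show 1 * a.e = a.e from one_mul _))
    (fun a => GDih.ext' (show -(((a.e : ℤ) : ZMod p) • a.x) + ((a.e : ℤ) : ZMod p) • a.x = 0 by simp)
      (show a.e * a.e = 1 from Int.units_mul_self _))

instance instGroupGDih (p : ℕ) : Group (GDih p) := groupGDih p

/-- As a product. -/
def equivProd (p : ℕ) : GDih p ≃ (Fin 3 → ZMod p) × ℤˣ :=
  ⟨fun g => (g.x, g.e), fun g => ⟨g.1, g.2⟩, fun _ => rfl, fun _ => rfl⟩

variable (p : ℕ) [Fact p.Prime]

instance instFiniteGDih : Finite (GDih p) := Finite.of_equiv _ (equivProd p).symm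

theorem card_GDih (_hp : p ≠ 2) : Nat.card (GDih p) = 2 * p ^ 3 := by
  rw [Nat.card_congr (equivProd p), Nat.card_prod, Nat.card_fun]
  simp [mul_comm]

/-- The three arrows. -/
def arrow (a : ℕ) (k : Fin 3) : Matrix (Fin (a + 1)) (Fin a) (ZMod p) :=
  Matrix.of fun i j => if (i : ℕ) = (j : ℕ) + (k : ℕ) then 1 else 0

/-- The block matrix of an element. -/
def blockMat (a : ℕ) (g : GDih p) : Matrix (Fin a ⊕ Fin (a + 1)) (Fin a ⊕ Fin (a + 1)) (ZMod p) :=
  Matrix.fromBlocks 1 0 (∑ k, g.x k • arrow p a k) (((g.e : ℤ) : ZMod p) • 1)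

theorem blockMat_mul (a : ℕ) (g h : GDih p) : blockMat p a (g * h) = blockMat p a g * blockMat p a h := by
  rw [blockMat, blockMat, blockMat, Matrix.fromBlocks_multiply]
  congr 1
  · simp
  · simp
  · show (∑ k, (g.x + ((g.e : ℤ) : ZMod p) • h.x) k • arrow p a k) = _
    simp only [Pi.add_apply, Pi.smul_apply, smul_eq_mul, add_smul, Finset.sum_add_distrib, Matrix.mul_one]
    rw [Matrix.smul_mul, Matrix.one_mul, Finset.smul_sum]
    simp only [smul_smul]
  · show (((g.e * h.e : ℤˣ) : ℤ) : ZMod p) • (1 : Matrix (Fin (a + 1)) (Fin (a + 1)) (ZMod p)) = _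
    rw [Matrix.mul_zero, zero_add, smul_mul_assoc, one_mul, smul_smul, Units.val_mul, Int.cast_mul]

/-- The representation in `SL`. -/
def slHom (a : ℕ) (ha : Even (a + 1)) : GDih p →* SpecialLinearGroup (Fin (a + (a + 1))) (ZMod p) :=
  MonoidHom.mk' (fun g => ⟨Matrix.reindexAlgEquiv (ZMod p) (ZMod p) finSumFinEquiv (blockMat p a g), by
      rw [Matrix.coe_reindexAlgEquiv, Matrix.det_reindex_self, blockMat, Matrix.det_fromBlocks_zero₁₂,
        Matrix.det_one, one_mul, Matrix.det_smul, Matrix.det_one, mul_one, Fintype.card_fin]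
      obtain ⟨t, ht⟩ := ha
      rw [ht, ← two_mul, pow_mul, ← Int.cast_pow, ← Units.val_pow_eq_pow_val, sq, Int.units_mul_self]
      simp⟩)
    (fun g h => Subtype.ext (by
      show Matrix.reindexAlgEquiv (ZMod p) (ZMod p) finSumFinEquiv (blockMat p a (g * h)) = _ * _
      rw [blockMat_mul, map_mul]))

/-- The representation in `PSL`. -/
def embed (a : ℕ) (ha : Even (a + 1)) :
    GDih p →* ProjectiveSpecialLinearGroup (Fin (a + (a + 1))) (ZMod p) :=
  (QuotientGroup.mk' _).comp (slHom p a ha)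

theorem reindex_slHom (a : ℕ) (ha : Even (a + 1)) (g : GDih p) :
    Matrix.reindexAlgEquiv (ZMod p) (ZMod p) finSumFinEquiv.symm
      (slHom p a ha g : Matrix (Fin (a + (a + 1))) (Fin (a + (a + 1))) (ZMod p)) = blockMat p a g := by
  show Matrix.reindexAlgEquiv (ZMod p) (ZMod p) finSumFinEquiv.symm
    (Matrix.reindexAlgEquiv (ZMod p) (ZMod p) finSumFinEquiv (blockMat p a g)) = _
  ext i j
  simp

theorem mem_center_iff_block (a : ℕ) (A : SpecialLinearGroup (Fin (a + (a + 1))) (ZMod p))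
    (hA : A ∈ Subgroup.center (SpecialLinearGroup (Fin (a + (a + 1))) (ZMod p))) :
    ∃ r : ZMod p, Matrix.reindexAlgEquiv (ZMod p) (ZMod p) finSumFinEquiv.symm
      (A : Matrix (Fin (a + (a + 1))) (Fin (a + (a + 1))) (ZMod p)) = r • 1 := by
  obtain ⟨r, -, hr⟩ := Matrix.SpecialLinearGroup.mem_center_iff.1 hA
  refine ⟨r, ?_⟩
  rw [← hr, Matrix.scalar_apply, ← Matrix.smul_one_eq_diagonal, map_smul, map_one]

theorem arrow_apply_zero (a : ℕ) (ha : 2 ≤ a) (x : Fin 3 → ZMod p) (k : Fin 3) :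
    (∑ l, x l • arrow p a l) ⟨k, by omega⟩ ⟨0, by omega⟩ = x k := by
  rw [Matrix.sum_apply, Finset.sum_eq_single k]
  · simp [arrow]
  · intro l _ hl
    have : (k : ℕ) ≠ (l : ℕ) := fun h => hl (Fin.ext h.symm)
    simp [arrow, this]
  · simp

theorem embed_injective (hp : p ≠ 2) (a : ℕ) (ha2 : 2 ≤ a) (ha : Even (a + 1)) : Function.Injective (embed p a ha) := by
  rw [injective_iff_map_eq_one]
  intro g hg
  have hc : slHom p a ha g ∈ Subgroup.center _ := (QuotientGroup.eq_one_iff _).1 hg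
  obtain ⟨r, hr⟩ := mem_center_iff_block p a _ hc
  have hb : blockMat p a g = r • 1 := by
    rw [← hr, reindex_slHom]
  rw [blockMat, ← Matrix.fromBlocks_one, Matrix.fromBlocks_smul, Matrix.fromBlocks_inj] at hb
  obtain ⟨h1, -, h3, h4⟩ := hb
  have hr1 : r = 1 := by
    have := congrFun (congrFun h1 ⟨0, by omega⟩) ⟨0, by omega⟩
    simpa using this.symm
  rw [smul_zero] at h3
  refine GDih.ext' (funext fun k => ?_) ?_
  · rw [← arrow_apply_zero p a ha2 g.x k, h3]; rfl
  · have h := congrFun (congrFun h4 ⟨0, by omega⟩) ⟨0, by omega⟩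
    simp only [hr1, Matrix.smul_apply, Matrix.one_apply_eq, smul_eq_mul, mul_one] at h
    rcases Int.units_eq_one_or g.e with he | he
    · exact he
    · rw [he, Units.val_neg, Units.val_one, Int.cast_neg, Int.cast_one] at h
      exfalso
      have : Fact (2 < p) := ⟨lt_of_le_of_ne (Fact.out : p.Prime).two_le (Ne.symm hp)⟩
      exact ZMod.neg_one_ne_one h

theorem arrow_zero_mul (a : ℕ) (P : Matrix (Fin a) (Fin a) (ZMod p)) (i : Fin a) (j : Fin a) :
    (arrow p a 0 * P) i.castSucc j = P i j ∧ (arrow p a 1 * P) i.succ j = P i j := by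
  constructor <;>
  · rw [Matrix.mul_apply, Finset.sum_eq_single i]
    · simp [arrow]
    · intro b _ hb
      have : (i : ℕ) ≠ (b : ℕ) := fun h => hb (Fin.ext h.symm)
      simp [arrow, this]
    · simp

theorem mul_arrow (a : ℕ) (W : Matrix (Fin (a + 1)) (Fin (a + 1)) (ZMod p)) (i : Fin (a + 1)) (j : Fin a) :
    (W * arrow p a 0) i j = W i j.castSucc ∧ (W * arrow p a 1) i j = W i j.succ := by
  constructor
  · rw [Matrix.mul_apply, Finset.sum_eq_single j.castSucc]
    · simp [arrow]
    · intro b _ hb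
      have : (b : ℕ) ≠ (j : ℕ) := fun h => hb (Fin.ext h)
      simp [arrow, this]
    · simp
  · rw [Matrix.mul_apply, Finset.sum_eq_single j.succ]
    · simp [arrow]
    · intro b _ hb
      have : (b : ℕ) ≠ (j : ℕ) + 1 := fun h => hb (Fin.ext h)
      simp [arrow, this]
    · simp

theorem brick (a : ℕ) (ha1 : 1 ≤ a) (P : Matrix (Fin a) (Fin a) (ZMod p))
    (W : Matrix (Fin (a + 1)) (Fin (a + 1)) (ZMod p))
    (h0 : arrow p a 0 * P = W * arrow p a 0) (h1 : arrow p a 1 * P = W * arrow p a 1) :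
    ∃ c : ZMod p, P = c • 1 ∧ W = c • 1 := by
  have hW0 : ∀ i j : Fin a, W i.castSucc j.castSucc = P i j := fun i j => by
    rw [← (mul_arrow p a W _ j).1, ← h0, (arrow_zero_mul p a P i j).1]
  have hW1 : ∀ i j : Fin a, W i.succ j.succ = P i j := fun i j => by
    rw [← (mul_arrow p a W _ j).2, ← h1, (arrow_zero_mul p a P i j).2]
  have hlast : ∀ j : Fin a, W (Fin.last a) j.castSucc = 0 := fun j => by
    rw [← (mul_arrow p a W _ j).1, ← h0, Matrix.mul_apply]
    refine Finset.sum_eq_zero fun b _ => ?_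
    have hb : a ≠ (b : ℕ) := Nat.ne_of_gt b.2
    simp [arrow, hb]
  have hfirst : ∀ j : Fin a, W 0 j.succ = 0 := fun j => by
    rw [← (mul_arrow p a W _ j).2, ← h1, Matrix.mul_apply]
    refine Finset.sum_eq_zero fun b _ => ?_
    simp [arrow]
  let w : ℕ → ℕ → ZMod p := fun i j => if h : i < a + 1 ∧ j < a + 1 then W ⟨i, h.1⟩ ⟨j, h.2⟩ else 0
  have shift : ∀ i j, i < a → j < a → w i j = w (i + 1) (j + 1) := by
    intro i j hi hj
    simp only [w]
    rw [dif_pos ⟨by omega, by omega⟩, dif_pos ⟨by omega, by omega⟩]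
    exact (hW0 ⟨i, hi⟩ ⟨j, hj⟩).trans (hW1 ⟨i, hi⟩ ⟨j, hj⟩).symm
  have slide : ∀ k i j, i + k ≤ a → j + k ≤ a → w i j = w (i + k) (j + k) := by
    intro k
    induction k with
    | zero => intros; rfl
    | succ k ih =>
      intro i j hi hj
      rw [ih i j (by omega) (by omega), shift _ _ (by omega) (by omega)]
      rfl
  have key : ∀ i j, i ≤ a → j ≤ a → w i j = if i = j then w 0 0 else 0 := by
    intro i j hi hj
    rcases lt_trichotomy i j with h | h | h
    · rw [if_neg h.ne]
      have := slide i 0 (j - i) (by omega) (by omega)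
      rw [zero_add, Nat.sub_add_cancel h.le] at this
      rw [← this]
      have h2 := hfirst ⟨j - i - 1, by omega⟩
      simp only [w]
      rw [dif_pos ⟨by omega, by omega⟩, ← h2]
      congr 1
      exact Fin.ext (by simp; omega)
    · subst h
      rw [if_pos rfl]
      have := slide i 0 0 (by omega) (by omega)
      rw [zero_add] at this
      exact this.symm
    · rw [if_neg h.ne']
      rw [slide (a - i) i j (by omega) (by omega), show i + (a - i) = a by omega]
      have h2 := hlast ⟨j + (a - i), by omega⟩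
      simp only [w]
      rw [dif_pos ⟨by omega, by omega⟩, ← h2]
      rfl
  refine ⟨w 0 0, ?_, ?_⟩
  · ext i j
    have := key i j (by omega) (by omega)
    simp only [w] at this
    rw [dif_pos ⟨by omega, by omega⟩] at this
    rw [← hW0]
    simp only [Matrix.smul_apply, Matrix.one_apply, Fin.ext_iff, smul_eq_mul, mul_ite, mul_one, mul_zero]
    exact this
  · ext i j
    have := key i j (by omega) (by omega)
    simp only [w] at this
    rw [dif_pos ⟨i.2, j.2⟩] at this
    simp only [Matrix.smul_apply, Matrix.one_apply, Fin.ext_iff, smul_eq_mul, mul_ite, mul_one, mul_zero]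
    exact this

theorem centralizer_embed (hp : p ≠ 2) (a : ℕ) (ha2 : 2 ≤ a) (ha : Even (a + 1)) :
    Subgroup.centralizer ((embed p a ha).range : Set (ProjectiveSpecialLinearGroup (Fin (a + (a + 1))) (ZMod p))) = ⊥ := by
  rw [Subgroup.eq_bot_iff_forall]
  intro q hq
  obtain ⟨g, rfl⟩ := QuotientGroup.mk'_surjective _ q
  let G := Matrix.reindexAlgEquiv (ZMod p) (ZMod p) finSumFinEquiv.symm
    (g : Matrix (Fin (a + (a + 1))) (Fin (a + (a + 1))) (ZMod p))
  have hcomm : ∀ h, ∃ r : ZMod p, blockMat p a h * G = r • (G * blockMat p a h) := by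
    intro h
    have := Subgroup.mem_centralizer_iff.1 hq _ ⟨h, rfl⟩
    simp only [embed, MonoidHom.comp_apply, ← map_mul] at this
    have hz := (QuotientGroup.eq).1 this.symm
    obtain ⟨r, hr⟩ := mem_center_iff_block p a _ hz
    refine ⟨r, ?_⟩
    have hr' := congrArg (fun X => Matrix.reindexAlgEquiv (ZMod p) (ZMod p) finSumFinEquiv.symm
      (X : Matrix (Fin (a + (a + 1))) (Fin (a + (a + 1))) (ZMod p)))
      (show ((g * slHom p a ha h : SpecialLinearGroup (Fin (a + (a + 1))) (ZMod p)) :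
          Matrix (Fin (a + (a + 1))) (Fin (a + (a + 1))) (ZMod p)) *
          (((g * slHom p a ha h)⁻¹ * (slHom p a ha h * g) : SpecialLinearGroup (Fin (a + (a + 1))) (ZMod p)) :
          Matrix (Fin (a + (a + 1))) (Fin (a + (a + 1))) (ZMod p)) =
          ((slHom p a ha h * g : SpecialLinearGroup (Fin (a + (a + 1))) (ZMod p)) :
          Matrix (Fin (a + (a + 1))) (Fin (a + (a + 1))) (ZMod p)) by
        rw [← Matrix.SpecialLinearGroup.coe_mul, mul_inv_cancel_left])
    simp only [Matrix.SpecialLinearGroup.coe_mul, map_mul] at hr'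
    simp only [Matrix.SpecialLinearGroup.coe_mul, map_mul] at hr
    rw [hr, mul_smul_comm, mul_one] at hr'
    rw [reindex_slHom] at hr'
    exact hr'.symm
  have h20 : (2 : ZMod p) ≠ 0 := by
    intro h
    exact hp ((Nat.prime_dvd_prime_iff_eq Fact.out Nat.prime_two).1
      ((ZMod.natCast_eq_zero_iff 2 p).1 (by exact_mod_cast h)))
  obtain ⟨P, Q, R, W, hG⟩ : ∃ P Q R W, G = Matrix.fromBlocks P Q R W :=
    ⟨_, _, _, _, (Matrix.fromBlocks_toBlocks G).symm⟩
  have hGu : G.det ≠ 0 := by
    simp only [G, Matrix.coe_reindexAlgEquiv, Matrix.det_reindex_self, g.2]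
    exact one_ne_zero
  obtain ⟨r, hr⟩ := hcomm ⟨0, -1⟩
  simp only [blockMat, hG, Pi.zero_apply, zero_smul, Finset.sum_const_zero, Matrix.fromBlocks_multiply,
    Matrix.fromBlocks_smul, Units.val_neg, Units.val_one, Int.cast_neg, Int.cast_one, Matrix.fromBlocks_inj,
    one_mul, mul_one, Matrix.one_mul, Matrix.mul_one, Matrix.zero_mul, Matrix.mul_zero, add_zero, zero_add,
    neg_smul, one_smul, Matrix.neg_mul, Matrix.mul_neg] at hr
  obtain ⟨hP, hQ, hR, hW⟩ := hr
  have hr1 : r = 1 := by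
    by_contra hr1
    have hP0 : P = 0 := by
      have : (r - 1) • P = 0 := by rw [sub_smul, one_smul, ← hP, sub_self]
      exact (smul_eq_zero.1 this).resolve_left (sub_ne_zero.2 hr1)
    have hW0 : W = 0 := by
      have : (r - 1) • W = 0 := by
        rw [sub_smul, one_smul]
        have := hW
        rw [smul_neg, neg_inj] at this
        rw [← this, sub_self]
      exact (smul_eq_zero.1 this).resolve_left (sub_ne_zero.2 hr1)
    -- `G` would interchange blocks of different sizes
    have hu : IsUnit G := (Matrix.isUnit_iff_isUnit_det G).2 (isUnit_iff_ne_zero.2 hGu)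
    obtain ⟨u, hu⟩ := hu
    obtain ⟨V, hV⟩ : ∃ V, (u : Matrix (Fin a ⊕ Fin (a + 1)) (Fin a ⊕ Fin (a + 1)) (ZMod p)) * V = 1 := ⟨_, u.mul_inv⟩
    have h1 := hV
    rw [hu, hG, hP0, hW0, ← Matrix.fromBlocks_toBlocks V, Matrix.fromBlocks_multiply,
      ← Matrix.fromBlocks_one, Matrix.fromBlocks_inj] at h1
    have h22 := h1.2.2.2
    rw [Matrix.zero_mul, add_zero] at h22
    have hrk := (congrArg Matrix.rank h22).symm.le.trans (Matrix.rank_mul_le_left _ _)
    rw [Matrix.rank_one, Fintype.card_fin] at hrk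
    have := hrk.trans (Matrix.rank_le_card_width R)
    rw [Fintype.card_fin] at this
    omega
  rw [hr1, one_smul] at hQ hR
  have hQ0 : Q = 0 := by
    have : (2 : ZMod p) • Q = 0 := by rw [two_smul]; nth_rewrite 1 [hQ]; exact neg_add_cancel Q
    exact (smul_eq_zero.1 this).resolve_left h20
  have hR0 : R = 0 := by
    have : (2 : ZMod p) • R = 0 := by rw [two_smul]; nth_rewrite 1 [← hR]; exact neg_add_cancel R
    exact (smul_eq_zero.1 this).resolve_left h20
  have hPW : P.det ≠ 0 := by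
    rw [hG, hQ0, Matrix.det_fromBlocks_zero₁₂] at hGu
    exact left_ne_zero_of_mul hGu
  have harr : ∀ k : Fin 3, arrow p a k * P = W * arrow p a k := by
    intro k
    obtain ⟨s, hs⟩ := hcomm ⟨Pi.single k 1, 1⟩
    simp only [blockMat, hG, hQ0, hR0, Pi.single_apply, ite_smul, one_smul, zero_smul, Finset.sum_ite_eq',
      Finset.mem_univ, if_true, Matrix.fromBlocks_multiply, Matrix.fromBlocks_smul, Units.val_one, Int.cast_one,
      Matrix.fromBlocks_inj, Matrix.one_mul, Matrix.mul_one, Matrix.zero_mul, Matrix.mul_zero, add_zero,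
      zero_add, smul_zero] at hs
    obtain ⟨h1, -, h3, -⟩ := hs
    have hs1 : s = 1 := by
      by_contra hs1
      have : (s - 1) • P = 0 := by rw [sub_smul, one_smul, ← h1, sub_self]
      have hP0 := (smul_eq_zero.1 this).resolve_left (sub_ne_zero.2 hs1)
      have : Nonempty (Fin a) := ⟨⟨0, by omega⟩⟩
      exact hPW (by rw [hP0, Matrix.det_zero])
    rw [h3, hs1, one_smul]
  obtain ⟨c, hPc, hWc⟩ := brick p a (by omega) P W (harr 0) (harr 1)
  refine (QuotientGroup.eq_one_iff g).2 (Matrix.SpecialLinearGroup.mem_center_iff.2 ⟨c, ?_, ?_⟩)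
  all_goals
    have hGc : G = c • 1 := by
      rw [hG, hPc, hWc, hQ0, hR0, ← Matrix.fromBlocks_one, Matrix.fromBlocks_smul, smul_zero, smul_zero]
    have hg : (g : Matrix (Fin (a + (a + 1))) (Fin (a + (a + 1))) (ZMod p)) = c • 1 := by
      have := congrArg (Matrix.reindexAlgEquiv (ZMod p) (ZMod p) finSumFinEquiv) hGc
      simpa [G, map_smul] using this
  · have := g.2
    rw [hg, Matrix.det_smul, Matrix.det_one, mul_one] at this
    exact this
  · rw [hg, Matrix.scalar_apply, ← Matrix.smul_one_eq_diagonal]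

/-- For every odd prime `p` there is a finite group `H` of order `2p³` which, for infinitely many `n`, embeds in the projective special linear group `PSL(n, p)` as a subgroup with trivial centralizer. -/
theorem result
    (p : ℕ) [Fact p.Prime] (hp : p ≠ 2) :
    ∃ (H : Type) (_ : Group H) (_ : Finite H), Nat.card H = 2 * p ^ 3 ∧
      ∀ N : ℕ, ∃ n, N ≤ n ∧ ∃ φ : H →* Matrix.ProjectiveSpecialLinearGroup (Fin n) (ZMod p),
        Function.Injective φ ∧ Subgroup.centralizer (φ.range : Set (Matrix.ProjectiveSpecialLinearGroup (Fin n) (ZMod p))) = ⊥ := by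
  refine ⟨GDih p, instGroupGDih p, instFiniteGDih p, card_GDih p hp, fun N => ?_⟩
  refine ⟨(2 * N + 3) + (2 * N + 3 + 1), by omega, embed p (2 * N + 3) ⟨N + 2, by ring⟩, ?_, ?_⟩
  · exact embed_injective p hp _ (by omega) _
  · exact centralizer_embed p hp _ (by omega) _

end Cfsg.Agent.S2533
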