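import Cfsg.Statements.S2534
import Cfsg.Agent.Lib.Perm.HallSymApply

set_option autoImplicit false
open Cfsg

namespace Cfsg.Agent.S2534

open Equiv Finset

/-- An even element preserving a set and moving a given point. -/
theorem exists_moving {n : ℕ} {B : Finset (Fin n)} (h1 : 2 ≤ B.card) (h2 : 2 ≤ Bᶜ.card)
    (w : Fin n) : ∃ g : Equiv.Perm (Fin n),
      g ∈ Perm.HallSym.bip B ⊓ alternatingGroup (Fin n) ∧ g w ≠ w := by
  obtain ⟨S, hS, hwS⟩ : ∃ S : Finset (Fin n), (S = B ∨ S = Bᶜ) ∧ w ∈ S := by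
    by_cases h : w ∈ B
    · exact ⟨B, Or.inl rfl, h⟩
    · exact ⟨Bᶜ, Or.inr rfl, mem_compl.2 h⟩
  obtain ⟨hS2, hSc2⟩ : 2 ≤ S.card ∧ 2 ≤ Sᶜ.card := by
    rcases hS with rfl | rfl
    · exact ⟨h1, h2⟩
    · exact ⟨h2, by rw [compl_compl]; exact h1⟩
  obtain ⟨b, hb, hbw⟩ := exists_mem_ne hS2 w
  obtain ⟨c, hc, d, hd, hcd⟩ := one_lt_card.1 hSc2
  rw [mem_compl] at hc hd
  have key : ∀ x, (swap w b * swap c d) x ∈ S ↔ x ∈ S := by
    intro x
    simp only [Equiv.Perm.mul_apply, swap_apply_def]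
    split_ifs <;> simp_all
  have key' : ∀ x, (swap w b * swap c d) x ∈ B ↔ x ∈ B := by
    intro x
    rcases hS with rfl | rfl
    · exact key x
    · exact not_iff_not.1 (by simpa using key x)
  refine ⟨swap w b * swap c d, ⟨fun x y => ?_, ?_⟩, ?_⟩
  · show ((swap w b * swap c d) x ∈ B ↔ (swap w b * swap c d) y ∈ B) ↔ _
    rw [key', key']
  · show swap w b * swap c d ∈ alternatingGroup (Fin n)
    rw [Equiv.Perm.mem_alternatingGroup, map_mul,
      Equiv.Perm.sign_swap (Ne.symm hbw), Equiv.Perm.sign_swap hcd]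
    decide
  · rw [Equiv.Perm.mul_apply, swap_apply_of_ne_of_ne (fun e : w = c => hc (e ▸ hwS))
      (fun e : w = d => hd (e ▸ hwS)), swap_apply_left]
    exact hbw

/-- A stabiliser of a set missing one point fixes that point. -/
theorem fix_of_mem_bip {n : ℕ} {B : Finset (Fin n)} {w : Fin n} (hw : Bᶜ = {w})
    (h2 : 2 ≤ B.card) {k : Equiv.Perm (Fin n)} (hk : k ∈ Perm.HallSym.bip B) : k w = w := by
  have hmem : ∀ x, x ∈ B ↔ x ≠ w := fun x => by
    have h := Finset.ext_iff.1 hw x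
    simp only [mem_compl, mem_singleton] at h
    tauto
  obtain ⟨x, hx, y, hy, hxy⟩ := one_lt_card.1 h2
  by_contra hkw
  have h1 := (Perm.HallSym.mem_bip.1 hk x y).2 ⟨fun _ => hy, fun _ => hx⟩
  have h2 := Perm.HallSym.mem_bip.1 hk x w
  simp only [hmem] at hx hy h1 h2
  have hxk : k x ≠ w ∨ k y ≠ w := by
    by_contra hboth
    simp only [not_or, not_not] at hboth
    exact hxy (k.injective (hboth.1.trans hboth.2.symm))
  tauto

/-- The colouring `3 + 3 + rest`. -/
def colour {n : ℕ} (x : Fin n) : Fin 3 := if x.val < 3 then 0 else if x.val < 6 then 1 else 2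

/-- The permutations preserving the colouring up to exchanging the first two colours. -/
def six (n : ℕ) : Subgroup (Equiv.Perm (Fin n)) :=
  Perm.HallSym.presFun (fun x : Fin n => decide (x.val < 6)) ⊓
    Perm.HallSym.pres (fun x y : Fin n => colour x = colour y) ⊓ alternatingGroup (Fin n)

theorem mem_six {n : ℕ} {g : Equiv.Perm (Fin n)}
    (h : (∀ x : Fin n, decide ((g x).val < 6) = decide (x.val < 6)) ∧
      (∀ x y : Fin n, colour (g x) = colour (g y) ↔ colour x = colour y) ∧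
        Equiv.Perm.sign g = 1) : g ∈ six n :=
  ⟨⟨h.1, h.2.1⟩, Equiv.Perm.mem_alternatingGroup.2 h.2.2⟩

theorem prime_le_three {n : ℕ} (hn : n = 7 ∨ n = 8) {P : ℕ} (hP : P.Prime)
    (h : P ∣ Nat.card (six n)) : P = 2 ∨ P = 3 := by
  by_cases hP2 : P = 2
  · exact Or.inl hP2
  right
  have : Fact P.Prime := ⟨hP⟩
  obtain ⟨g, hg⟩ := exists_prime_orderOf_dvd_card' (G := six n) P h
  have h6 : ∀ x : Fin n, ((g : Equiv.Perm (Fin n)) x).val < 6 ↔ x.val < 6 := fun x =>
    decide_eq_decide.1 (g.2.1.1 x)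
  have hsq : (g : Equiv.Perm (Fin n)) * g ∈ Perm.HallSym.presFun (colour (n := n)) := fun x => by
    have h1 := g.2.1.2 x ((g : Equiv.Perm (Fin n)) x)
    have a1 := h6 x
    have a2 := h6 ((g : Equiv.Perm (Fin n)) x)
    have key : ∀ A B C : Fin 3, (B = C ↔ A = B) → (B = 2 ↔ A = 2) → (C = 2 ↔ B = 2) → C = A := by
      decide
    have hc2 : ∀ t : Fin n, colour t = 2 ↔ ¬ t.val < 6 := fun t => by
      simp only [colour]
      split_ifs <;> simp_all <;> omega
    rw [Equiv.Perm.mul_apply]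
    exact key _ _ _ h1 (by rw [hc2, hc2, a1]) (by rw [hc2, hc2, a2])
  have hgm : (g : Equiv.Perm (Fin n)) ∈ Perm.HallSym.presFun (colour (n := n)) := by
    obtain ⟨j, hj⟩ := hP.odd_of_ne_two hP2
    have : ((g : Equiv.Perm (Fin n)) * g) ^ (j + 1) = g := by
      rw [← pow_two, ← pow_mul, show 2 * (j + 1) = P + 1 by omega, pow_succ,
        show (g : Equiv.Perm (Fin n)) ^ P = 1 by
          rw [← hg, ← Subgroup.coe_pow, pow_orderOf_eq_one]; rfl, one_mul]
    rw [← this]
    exact pow_mem hsq _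
  have hd : P ∣ ∏ i : Fin 3, ((univ.filter fun x : Fin n => colour x = i).card).factorial := by
    refine Dvd.dvd.trans ?_ (Perm.HallSym.card_presFun (colour (n := n))).dvd
    rw [← hg, ← Subgroup.orderOf_coe]
    exact Subgroup.orderOf_dvd_natCard _ hgm
  have h3 : P ≤ 3 := by
    rw [Fin.prod_univ_three] at hd
    have hb : ∀ i : Fin 3, (univ.filter fun x : Fin n => colour x = i).card ≤ 3 := by
      rcases hn with rfl | rfl <;> decide
    rcases hP.dvd_mul.1 hd with hd | hd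
    · rcases hP.dvd_mul.1 hd with hd | hd <;> exact (hP.dvd_factorial.1 hd).trans (hb _)
    · exact (hP.dvd_factorial.1 hd).trans (hb _)
  have := hP.two_le
  omega

/-- A transitive group on six points is not inside a stabiliser `4 + 3` or `4 + 4`. -/
theorem not_le_bip {n : ℕ} (hn : n = 7 ∨ n = 8) (B : Finset (Fin n)) (hB : B.card = 4) :
    ¬ six n ≤ Perm.HallSym.bip B := by
  intro hle
  rcases hn with rfl | rfl
  · have key : ∀ B ∈ (univ : Finset (Fin 7)).powersetCard 4,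
        ¬ ((∀ x y : Fin 7, ((swap 0 1 * swap 1 2 * (swap 3 4 * swap 4 5) : Equiv.Perm (Fin 7)) x ∈ B ↔
            (swap 0 1 * swap 1 2 * (swap 3 4 * swap 4 5) : Equiv.Perm (Fin 7)) y ∈ B) ↔ (x ∈ B ↔ y ∈ B)) ∧
          ∀ x y : Fin 7, ((swap 0 1 * swap 0 3 * (swap 1 4 * swap 2 5) : Equiv.Perm (Fin 7)) x ∈ B ↔
            (swap 0 1 * swap 0 3 * (swap 1 4 * swap 2 5) : Equiv.Perm (Fin 7)) y ∈ B) ↔ (x ∈ B ↔ y ∈ B)) := by
      decide +kernel
    exact key B (mem_powersetCard.2 ⟨subset_univ _, hB⟩)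
      ⟨hle (mem_six (by decide +kernel)), hle (mem_six (by decide +kernel))⟩
  · have key : ∀ B ∈ (univ : Finset (Fin 8)).powersetCard 4,
        ¬ ((∀ x y : Fin 8, ((swap 0 1 * swap 1 2 * (swap 3 4 * swap 4 5) : Equiv.Perm (Fin 8)) x ∈ B ↔
            (swap 0 1 * swap 1 2 * (swap 3 4 * swap 4 5) : Equiv.Perm (Fin 8)) y ∈ B) ↔ (x ∈ B ↔ y ∈ B)) ∧
          ∀ x y : Fin 8, ((swap 0 1 * swap 0 3 * (swap 1 4 * swap 2 5) : Equiv.Perm (Fin 8)) x ∈ B ↔
            (swap 0 1 * swap 0 3 * (swap 1 4 * swap 2 5) : Equiv.Perm (Fin 8)) y ∈ B) ↔ (x ∈ B ↔ y ∈ B)) := by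
      decide +kernel
    exact key B (mem_powersetCard.2 ⟨subset_univ _, hB⟩)
      ⟨hle (mem_six (by decide +kernel)), hle (mem_six (by decide +kernel))⟩

/-- For `n ≥ 5` and a set of primes `π`, the alternating group of degree `n` satisfies the full Sylow analogue for `π` (its maximal `π`-subgroups are pairwise conjugate; for a finite group this says Hall `π`-subgroups exist, are all conjugate, and contain every `π`-subgroup up to conjugacy) if and only if either at most one prime of `π` divides its order or every prime dividing its order lies in `π`. -/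
theorem result (n : ℕ) (hn : 5 ≤ n) (π : Set ℕ) :
    Cfsg.IsDPiGroup π ↥(alternatingGroup (Fin n)) ↔
      ((∀ r s : ℕ, r.Prime → s.Prime → r ∈ π → s ∈ π → r ∣ Nat.card ↥(alternatingGroup (Fin n)) → s ∣ Nat.card ↥(alternatingGroup (Fin n)) → r = s) ∨
        ∀ r : ℕ, r.Prime → r ∣ Nat.card ↥(alternatingGroup (Fin n)) → r ∈ π) := by
  classical
  refine ⟨fun hD => ?_, Perm.HallSym.isDPiGroup_of_trivial⟩
  by_contra hcon
  simp only [not_or, not_forall] at hcon
  obtain ⟨⟨r, s, hr, hs, hrπ, hsπ, hrd, hsd, hrs⟩, t, ht, htd, htπ⟩ := hcon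
  have hA : Nat.card (alternatingGroup (Fin n)) ∣ n.factorial :=
    (Subgroup.card_subgroup_dvd_card _).trans (by rw [Nat.card_perm, Nat.card_fin])
  have hle : ∀ p : ℕ, p.Prime → p ∣ Nat.card (alternatingGroup (Fin n)) →
      p ≤ Fintype.card (Fin n) := fun p hp hpd => by
    simpa using hp.dvd_factorial.1 (hpd.trans hA)
  have h2 : ∃ p q : ℕ, p.Prime ∧ q.Prime ∧ p ≠ q ∧ p ∈ π ∧ q ∈ π ∧ p ≤ Fintype.card (Fin n) ∧
      q ≤ Fintype.card (Fin n) :=
    ⟨r, s, hr, hs, hrs, hrπ, hsπ, hle r hr hrd, hle s hs hsd⟩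
  obtain ⟨M, hM⟩ := Perm.HallSym.isEPiGroup_of_isDPiGroup hD
  obtain ⟨B, hB, -, rfl⟩ :=
    Perm.HallSym.eq_subgroupOf_bip hM h2 ⟨t, ht, hle t ht htd, htπ⟩
  -- every `π`-subgroup lies in a conjugate
  have hconj : ∀ K : Subgroup (Equiv.Perm (Fin n)), K ≤ alternatingGroup (Fin n) →
      (∀ p : ℕ, p.Prime → p ∣ Nat.card K → p ∈ π) →
      ∃ B' : Finset (Fin n), B'.card = B.card ∧ K ≤ Perm.HallSym.bip B' := by
    intro K hKA hK
    obtain ⟨g, hg⟩ := Perm.HallSym.exists_conj_of_isDPiGroup hD hM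
      (K := K.subgroupOf (alternatingGroup (Fin n))) (fun p hp hpd => hK p hp (by
        rwa [Nat.card_congr (Subgroup.subgroupOfEquivOfLe hKA).toEquiv] at hpd))
    refine ⟨B.map (g : Equiv.Perm (Fin n)).toEmbedding, card_map _, fun k hk => ?_⟩
    obtain ⟨l, hl, hlk⟩ := hg (show (⟨k, hKA hk⟩ : alternatingGroup (Fin n)) ∈ _ from hk)
    have e : k = (g : Equiv.Perm (Fin n)) * l * (g : Equiv.Perm (Fin n))⁻¹ :=
      (congrArg Subtype.val hlk).symm
    rw [e, Perm.HallSym.mem_bip_conj (B := B) (fun x => mem_map' _)]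
    exact hl
  rcases hB with ⟨hnp, hBc, hπ⟩ | ⟨h78, hBc, hπ⟩
  · simp only [Fintype.card_fin] at hnp hBc hπ
    obtain ⟨B2, -, hB2⟩ := exists_subset_card_eq (s := (univ : Finset (Fin n))) (n := 2)
      (by simp; omega)
    obtain ⟨B', hB', hsub⟩ := hconj (Perm.HallSym.bip B2 ⊓ alternatingGroup (Fin n))
      inf_le_right fun p hp hpd => by
        have hd' := hpd.trans (Subgroup.card_dvd_of_le inf_le_left)
        by_cases hp2 : p = 2
        · exact (hπ p hp (by omega)).2 (by omega)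
        · rcases Perm.HallSym.prime_dvd_card_bip hp hp2 hd' with e | e <;>
            simp only [Fintype.card_fin, hB2] at e <;> exact (hπ p hp (by omega)).2 (by omega)
    obtain ⟨w, hw⟩ := card_eq_one.1 (show (B'ᶜ).card = 1 by
      rw [card_compl, Fintype.card_fin, hB', hBc]; omega)
    obtain ⟨g, hg, hgw⟩ := exists_moving (B := B2) (by omega)
      (by rw [card_compl, Fintype.card_fin, hB2]; omega) w
    exact hgw (fix_of_mem_bip hw (by omega) (hsub hg))
  · simp only [Fintype.card_fin] at h78 hπ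
    obtain ⟨B', hB', hsub⟩ := hconj (six n) inf_le_right fun p hp hpd => by
      rcases prime_le_three h78 hp hpd with e | e
      · exact (hπ p hp (by omega)).2 (Or.inl e)
      · exact (hπ p hp (by omega)).2 (Or.inr e)
    exact not_le_bip h78 B' (hB'.trans hBc) hsub

end Cfsg.Agent.S2534
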