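import Cfsg.Statements.S2535
import Cfsg.Agent.Lib.Perm.HallSymApply

set_option autoImplicit false
open Cfsg

namespace Cfsg.Agent.S2535

/-- For every `n` and every set of primes `π`, the following are equivalent for the symmetric group `S` of degree `n` and its alternating subgroup `A`: `S` has a Hall `π`-subgroup; `S` has a Hall `π`-subgroup and all of them are conjugate; `A` has a Hall `π`-subgroup; `A` has a Hall `π`-subgroup and all of them are conjugate. -/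
theorem result (n : ℕ) (π : Set ℕ) :
    (Cfsg.IsEPiGroup π (Equiv.Perm (Fin n)) ↔ Cfsg.IsCPiGroup π (Equiv.Perm (Fin n))) ∧
    (Cfsg.IsEPiGroup π (Equiv.Perm (Fin n)) ↔ Cfsg.IsEPiGroup π ↥(alternatingGroup (Fin n))) ∧
    (Cfsg.IsEPiGroup π ↥(alternatingGroup (Fin n)) ↔ Cfsg.IsCPiGroup π ↥(alternatingGroup (Fin n))) := by
  classical
  have hS : Nat.card (Equiv.Perm (Fin n)) ∣ n.factorial := by
    rw [Nat.card_perm, Nat.card_fin]
  have hA : Nat.card (alternatingGroup (Fin n)) ∣ n.factorial :=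
    (Subgroup.card_subgroup_dvd_card _).trans hS
  by_cases h : (∃ p q : ℕ, p.Prime ∧ q.Prime ∧ p ≠ q ∧ p ∈ π ∧ q ∈ π ∧ p ≤ n ∧ q ≤ n) ∧
      ∃ r : ℕ, r.Prime ∧ r ≤ n ∧ r ∉ π
  swap
  · have dS := Perm.HallSym.isDPiGroup_of_not (π := π) hS h
    have dA := Perm.HallSym.isDPiGroup_of_not (π := π) hA h
    have cS := Perm.HallSym.isCPiGroup_of_isDPiGroup dS
    have cA := Perm.HallSym.isCPiGroup_of_isDPiGroup dA
    exact ⟨⟨fun _ => cS, fun c => c.1⟩, ⟨fun _ => cA.1, fun _ => cS.1⟩,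
      ⟨fun _ => cA, fun c => c.1⟩⟩
  obtain ⟨h2, hns⟩ := h
  have h2' : ∃ p q : ℕ, p.Prime ∧ q.Prime ∧ p ≠ q ∧ p ∈ π ∧ q ∈ π ∧ p ≤ Fintype.card (Fin n) ∧
      q ≤ Fintype.card (Fin n) := by
    simpa using h2
  have hns' : ∃ r : ℕ, r.Prime ∧ r ≤ Fintype.card (Fin n) ∧ r ∉ π := by simpa using hns
  refine ⟨⟨fun hE => ⟨hE, fun H K hH hK => ?_⟩, fun c => c.1⟩, ⟨?_, ?_⟩,
    ⟨fun hE => ⟨hE, fun H K hH hK => ?_⟩, fun c => c.1⟩⟩
  · obtain ⟨B, hB, rfl⟩ := Perm.HallSym.eq_bip hH h2' hns'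
    obtain ⟨B', hB', rfl⟩ := Perm.HallSym.eq_bip hK h2' hns'
    obtain ⟨g, hg⟩ := Perm.HallSym.exists_perm_mem_iff (hB.card_eq hB')
    exact ⟨g, (Perm.HallSym.map_conj_bip hg).symm⟩
  · rintro ⟨H, hH⟩
    exact ⟨_, Perm.HallSym.isPiHall_subgroupOf hH⟩
  · rintro ⟨M, hM⟩
    obtain ⟨B, -, hB, -⟩ := Perm.HallSym.eq_subgroupOf_bip hM h2' hns'
    exact ⟨_, hB⟩
  · obtain ⟨B, hB, -, rfl⟩ := Perm.HallSym.eq_subgroupOf_bip hH h2' hns'
    obtain ⟨B', hB', -, rfl⟩ := Perm.HallSym.eq_subgroupOf_bip hK h2' hns'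
    obtain ⟨g, hgA, hg⟩ := Perm.HallSym.exists_even_perm_mem_iff (hB.card_eq hB')
      (hB.two_le_card (Perm.HallSym.three_le_card h2'))
    refine ⟨⟨g, hgA⟩, ?_⟩
    rw [← Perm.HallSym.map_conj_bip hg]
    ext k
    constructor
    · rintro ⟨l, hl, hlk⟩
      have hlA : l ∈ alternatingGroup (Fin n) := by
        have hk : g * l * g⁻¹ ∈ alternatingGroup (Fin n) := by
          rw [show g * l * g⁻¹ = (k : Equiv.Perm (Fin n)) from hlk]; exact k.2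
        have := mul_mem (mul_mem (inv_mem hgA) hk) hgA
        rwa [show g⁻¹ * (g * l * g⁻¹) * g = l by group] at this
      exact ⟨⟨l, hlA⟩, hl, Subtype.ext hlk⟩
    · rintro ⟨l, hl, rfl⟩
      exact ⟨l, hl, rfl⟩

end Cfsg.Agent.S2535
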