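import Cfsg.Statements.S2536
import Cfsg.Agent.Lib.Perm.HallSymApply

set_option autoImplicit false
open Cfsg

namespace Cfsg.Agent.S2536

/-- Let `π` be a set of primes and `n` a natural number such that at least two primes of `π` divide `n!` but not every prime dividing `n!` lies in `π`. Then the symmetric group of degree `n` has a Hall `π`-subgroup if and only if either `n` is prime and the primes of `π` dividing `n!` are exactly the primes smaller than `n` (a point stabilizer is then such a subgroup), or `n ∈ {7, 8}` and the primes of `π` dividing `n!` are exactly 2 and 3. -/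
theorem result (n : ℕ) (π : Set ℕ)
    (h2 : ∃ r s : ℕ, r.Prime ∧ s.Prime ∧ r ≠ s ∧ r ∈ π ∧ s ∈ π ∧ r ≤ n ∧ s ≤ n)
    (hns : ∃ r : ℕ, r.Prime ∧ r ≤ n ∧ r ∉ π) :
    Cfsg.IsEPiGroup π (Equiv.Perm (Fin n)) ↔
      ((n.Prime ∧ ∀ r : ℕ, r.Prime → r ≤ n → (r ∈ π ↔ r < n)) ∨
       ((n = 7 ∨ n = 8) ∧ ∀ r : ℕ, r.Prime → r ≤ n → (r ∈ π ↔ (r = 2 ∨ r = 3)))) := by
  classical
  have h2' : ∃ p q : ℕ, p.Prime ∧ q.Prime ∧ p ≠ q ∧ p ∈ π ∧ q ∈ π ∧ p ≤ Fintype.card (Fin n) ∧
      q ≤ Fintype.card (Fin n) := by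
    simpa using h2
  have h3 := Perm.HallSym.three_le_card h2'
  constructor
  · rintro ⟨H, hH⟩
    obtain ⟨B, hB, -⟩ := Perm.HallSym.eq_bip hH h2' (by simpa using hns)
    rcases hB with ⟨hn, -, hπ⟩ | ⟨h78, -, hπ⟩
    · exact Or.inl ⟨by simpa using hn, by simpa using hπ⟩
    · exact Or.inr ⟨by simpa using h78, by simpa using hπ⟩
  · intro h
    rcases h with ⟨hn, hπ⟩ | ⟨h78, hπ⟩
    · obtain ⟨B, -, hB⟩ := Finset.exists_subset_card_eq (s := (Finset.univ : Finset (Fin n)))
        (n := n - 1) (by simp)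
      exact ⟨_, Perm.HallSym.Shape.isPiHall (B := B)
        (Or.inl ⟨by simpa using hn, by simpa using hB, by simpa using hπ⟩) h3⟩
    · obtain ⟨B, -, hB⟩ := Finset.exists_subset_card_eq (s := (Finset.univ : Finset (Fin n)))
        (n := 4) (by simp; omega)
      exact ⟨_, Perm.HallSym.Shape.isPiHall (B := B)
        (Or.inr ⟨by simpa using h78, hB, by simpa using hπ⟩) h3⟩

end Cfsg.Agent.S2536
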