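import Cfsg.Statements.S2537
import Cfsg.Agent.Lib.PSL2.MinimalSimple
import Cfsg.Agent.Lib.PSL2.DicksonOrders
import Cfsg.Agent.Lib.PSL2.MaximalExist
import Cfsg.Agent.Lib.PSL2.MaximalClassify
import Cfsg.Agent.Lib.Solvable.Hall
import Cfsg.Agent.S0799
-- import your own Cfsg.Agent.* helpers here

set_option autoImplicit false
open Cfsg

namespace Cfsg.Agent.S2537

open Matrix
open scoped MatrixGroups
open PSL2

/-- The `{2, 3}`-part. -/
def part (m : ℕ) : ℕ := 2 ^ m.factorization 2 * 3 ^ m.factorization 3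

theorem part_dvd (m : ℕ) : part m ∣ m :=
  Nat.Coprime.mul_dvd_of_dvd_of_dvd (Nat.Coprime.pow _ _ (by norm_num)) (Nat.ordProj_dvd m 2)
    (Nat.ordProj_dvd m 3)

theorem factorization_part (m : ℕ) {r : ℕ} (hr : r.Prime) :
    (part m).factorization r = if r = 2 ∨ r = 3 then m.factorization r else 0 := by
  rw [part, Nat.factorization_mul (by positivity) (by positivity), Nat.Prime.factorization_pow Nat.prime_two,
    Nat.Prime.factorization_pow Nat.prime_three, Finsupp.add_apply, Finsupp.single_apply, Finsupp.single_apply]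
  by_cases h2 : r = 2
  · subst h2; simp
  by_cases h3 : r = 3
  · subst h3; simp
  rw [if_neg (fun e => h2 e.symm), if_neg (fun e => h3 e.symm), if_neg (not_or.2 ⟨h2, h3⟩), add_zero]

variable {G : Type*} [Group G] [Finite G]

theorem card_of_hall {H : Subgroup G} (h : IsPiHall ({2, 3} : Set ℕ) H) :
    Nat.card H = part (Nat.card G) := by
  refine Nat.eq_of_factorization_eq Nat.card_pos.ne' (by unfold part; positivity) fun r => ?_
  by_cases hr : r.Prime
  swap
  · rw [Nat.factorization_eq_zero_of_not_prime _ hr, Nat.factorization_eq_zero_of_not_prime _ hr]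
  rw [factorization_part _ hr]
  by_cases h23 : r = 2 ∨ r = 3
  · rw [if_pos h23, ← H.index_mul_card, Nat.factorization_mul Subgroup.index_ne_zero_of_finite
      Nat.card_pos.ne', Finsupp.add_apply,
      Nat.factorization_eq_zero_of_not_dvd (h.2 r hr (by simpa using h23)), zero_add]
  · rw [if_neg h23]
    exact Nat.factorization_eq_zero_of_not_dvd fun hd => h23 (by simpa using h.1 r hr hd)

theorem hall_of_card {H : Subgroup G} (h : Nat.card H = part (Nat.card G)) :
    IsPiHall ({2, 3} : Set ℕ) H := by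
  refine ⟨fun r hr hd => ?_, fun r hr hmem hd => ?_⟩
  · rw [h, part] at hd
    rcases (Nat.Prime.dvd_mul hr).1 hd with h' | h'
    · exact Or.inl ((Nat.prime_dvd_prime_iff_eq hr Nat.prime_two).1 (hr.dvd_of_dvd_pow h'))
    · exact Or.inr ((Nat.prime_dvd_prime_iff_eq hr Nat.prime_three).1 (hr.dvd_of_dvd_pow h'))
  · have e : (H.index * Nat.card H).factorization r = (Nat.card G).factorization r := by
      rw [H.index_mul_card]
    rw [Nat.factorization_mul Subgroup.index_ne_zero_of_finite Nat.card_pos.ne', Finsupp.add_apply, h,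
      factorization_part _ hr, if_pos (by simpa using hmem)] at e
    have := (hr.dvd_iff_one_le_factorization Subgroup.index_ne_zero_of_finite).1 hd
    omega

variable {F : Type*} [Field F] [Fintype F]

theorem two_mul_part_card (hodd : Odd (Fintype.card F)) (h3 : ¬ 3 ∣ Fintype.card F) :
    2 * part (Nat.card PSL(2, F)) = part (Fintype.card F ^ 2 - 1) ∧
      8 ∣ Fintype.card F ^ 2 - 1 ∧ 3 ∣ Fintype.card F ^ 2 - 1 := by
  obtain ⟨j, hj⟩ := hodd
  have h1 := Maximal.two_mul_card_PSL' (F := F) ⟨j, hj⟩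
  have hq := one_lt_q (F := F)
  have hsq : 0 < Fintype.card F ^ 2 - 1 := by
    have := Nat.one_lt_pow (show 2 ≠ 0 by omega) hq; omega
  have hf : ∀ r : ℕ, r.Prime → ¬ r ∣ Fintype.card F →
      (if r = 2 then 1 else 0) + (Nat.card PSL(2, F)).factorization r =
        (Fintype.card F ^ 2 - 1).factorization r := by
    intro r hr hrq
    have e := congrArg (fun n => Nat.factorization n r) h1
    simp only [Nat.factorization_mul two_ne_zero Nat.card_pos.ne',
      Nat.factorization_mul (show Fintype.card F ≠ 0 by omega) hsq.ne', Finsupp.add_apply,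
      Nat.factorization_eq_zero_of_not_dvd hrq, zero_add] at e
    rw [← e, Nat.prime_two.factorization, Finsupp.single_apply]
    congr 1
    by_cases h : r = 2
    · rw [if_pos h, if_pos h.symm]
    · rw [if_neg h, if_neg fun e => h e.symm]
  refine ⟨?_, ?_, ?_⟩
  · rw [part, part, ← hf 2 Nat.prime_two (by omega), ← hf 3 Nat.prime_three h3]
    simp [pow_add, mul_assoc]
  · rw [hj, show (2 * j + 1) ^ 2 = 4 * (j * (j + 1)) + 1 by ring]
    obtain ⟨i, hi⟩ := Nat.even_mul_succ_self j
    omega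
  · have : Fintype.card F ^ 2 % 3 = 1 := by
      rw [Nat.pow_mod]
      rcases (show Fintype.card F % 3 = 1 ∨ Fintype.card F % 3 = 2 by omega) with e | e <;> rw [e]
    omega

theorem exists_hall_of_torus {g : SL(2, F)} (h4 : tr g ^ 2 ≠ 4)
    (hd : part (Nat.card PSL(2, F)) ∣ 2 * Nat.card ((cent g).map mk)) :
    ∃ H : Subgroup PSL(2, F), IsPiHall ({2, 3} : Set ℕ) H := by
  set W := (Subgroup.normalizer (cent g : Set SL(2, F))).map mk
  obtain ⟨e⟩ := dihedral_normalizer h4 rfl
  haveI : NeZero (Nat.card ((cent g).map mk)) := ⟨Nat.card_pos.ne'⟩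
  haveI := isSolvable_dihedral (Nat.card ((cent g).map mk))
  haveI : Group.IsSolvable W := solvable_of_solvable_injective (f := e.toMonoidHom) e.injective
  obtain ⟨n, hn⟩ := hd
  have hW : Nat.card W = part (Nat.card PSL(2, F)) * n := by
    rw [← hn]; exact Maximal.card_normalizer_torus_psl h4
  have hco : (part (Nat.card PSL(2, F))).Coprime n := by
    refine Nat.coprime_of_dvd fun r hr hrp hrn => ?_
    have h23 : r = 2 ∨ r = 3 := by
      rcases (Nat.Prime.dvd_mul hr).1 hrp with h' | h'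
      · exact Or.inl ((Nat.prime_dvd_prime_iff_eq hr Nat.prime_two).1 (hr.dvd_of_dvd_pow h'))
      · exact Or.inr ((Nat.prime_dvd_prime_iff_eq hr Nat.prime_three).1 (hr.dvd_of_dvd_pow h'))
    have hdd : part (Nat.card PSL(2, F)) * r ∣ Nat.card PSL(2, F) :=
      (Nat.mul_dvd_mul_left _ hrn).trans (hW ▸ W.card_subgroup_dvd_card)
    have := ((Nat.factorization_le_iff_dvd (mul_ne_zero (by unfold part; positivity) hr.ne_zero)
      Nat.card_pos.ne').2 hdd) r
    rw [Nat.factorization_mul (by unfold part; positivity) hr.ne_zero, Finsupp.add_apply,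
      factorization_part _ hr, if_pos h23, hr.factorization_self] at this
    omega
  obtain ⟨H, hH⟩ := Solvable.exists_hall hW hco
  exact ⟨H.map W.subtype, hall_of_card (by
    rw [Subgroup.card_map_of_injective W.subtype_injective, hH])⟩

theorem part_dvd_of_mod {q : ℕ} {a b : ℕ} (hq : q ^ 2 - 1 = a * b) (ha : 0 < a) (hb : 0 < b)
    (h2 : b.factorization 2 = 1) (h3 : ¬ 3 ∣ b) : part (q ^ 2 - 1) ∣ 2 * a := by
  rw [part, hq, Nat.factorization_mul ha.ne' hb.ne', Finsupp.add_apply, Finsupp.add_apply, h2,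
    Nat.factorization_eq_zero_of_not_dvd h3, add_zero, pow_succ]
  calc 2 ^ a.factorization 2 * 2 * 3 ^ a.factorization 3 = 2 * part a := by rw [part]; ring
    _ ∣ 2 * a := Nat.mul_dvd_mul_left 2 (part_dvd a)

theorem factorization_two_eq_one {b : ℕ} (h : b % 4 = 2) : b.factorization 2 = 1 := by
  obtain ⟨c, rfl⟩ : 2 ∣ b := by omega
  rw [Nat.factorization_mul two_ne_zero (by omega), Finsupp.add_apply,
    Nat.prime_two.factorization_self, Nat.factorization_eq_zero_of_not_dvd (by omega)]

theorem forward (p : ℕ) [Fact p.Prime] [CharP F p] (hp : 5 ≤ p)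
    {H : Subgroup PSL(2, F)} (hH : IsPiHall ({2, 3} : Set ℕ) H) :
    (3 ∣ Fintype.card F - 1 ∧ Fintype.card F % 4 = 1) ∨
      (3 ∣ Fintype.card F + 1 ∧ Fintype.card F % 4 = 3) ∨
      part (Fintype.card F ^ 2 - 1) = 24 ∨ part (Fintype.card F ^ 2 - 1) = 48 := by
  have hpp : p.Prime := Fact.out
  obtain ⟨n, hn0, hn⟩ := Maximal.card_eq_pow (F := F) p
  have hodd : Odd (Fintype.card F) := hn ▸ (hpp.odd_of_ne_two (by omega)).pow
  have h3q : ¬ 3 ∣ Fintype.card F := fun h => by
    rw [hn] at h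
    have := (Nat.prime_dvd_prime_iff_eq Nat.prime_three hpp).1 (Nat.prime_three.dvd_of_dvd_pow h)
    omega
  obtain ⟨hpart, h8, h3⟩ := two_mul_part_card hodd h3q
  have hc := card_of_hall hH
  have hpos : 0 < Fintype.card F ^ 2 - 1 := by
    have := Nat.one_lt_pow (show 2 ≠ 0 by omega) (one_lt_q (F := F)); omega
  have h24 : 24 ∣ 2 * Nat.card H := by
    rw [hc, hpart]
    exact Nat.Coprime.mul_dvd_of_dvd_of_dvd (by norm_num : Nat.Coprime 8 3)
      (((pow_dvd_pow 2 ((Nat.Prime.pow_dvd_iff_le_factorization Nat.prime_two hpos.ne').1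
        (show 2 ^ 3 ∣ _ from h8)))).trans (dvd_mul_right _ _))
      ((pow_dvd_pow 3 ((Nat.Prime.pow_dvd_iff_le_factorization Nat.prime_three hpos.ne').1
        (show 3 ^ 1 ∣ _ by rwa [pow_one]))).trans (dvd_mul_left _ _))
  have h12 : 12 ∣ Nat.card H := by omega
  have hgcd : Nat.gcd 2 (Fintype.card F - 1) = 2 := Nat.gcd_eq_left (by
    obtain ⟨j, hj⟩ := hodd; omega)
  have done : (Nat.card H ∣ Fintype.card F - 1 ∨ Nat.card H ∣ Fintype.card F + 1) →
      (3 ∣ Fintype.card F - 1 ∧ Fintype.card F % 4 = 1) ∨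
      (3 ∣ Fintype.card F + 1 ∧ Fintype.card F % 4 = 3) := by
    intro h
    have := one_lt_q (F := F)
    rcases h with h | h
    · have := h12.trans h; left; omega
    · have := h12.trans h; right; omega
  rcases S0799.result rfl p H with ⟨k, hk, hcd⟩ | ⟨P, K, hK, ⟨e⟩⟩ | ⟨⟨e⟩⟩ | ⟨⟨e⟩⟩ | ⟨⟨e⟩⟩ |
    ⟨L, _, _, m, hm, hiso⟩
  · have hd : Nat.card H ∣ 2 * k := by
      rcases hcd with ⟨-, h⟩ | ⟨⟨e⟩⟩
      · rw [h]; exact dvd_mul_left _ _
      · rw [Nat.card_congr e.toEquiv, DihedralGroup.nat_card]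
    rw [hgcd] at hk
    have he : 2 ∣ Fintype.card F - 1 ∧ 2 ∣ Fintype.card F + 1 := by
      obtain ⟨j, hj⟩ := hodd; omega
    rcases hk with hk | hk <;> have h := hd.trans (Nat.mul_dvd_mul_left 2 hk)
    · rw [Nat.mul_div_cancel' he.2] at h
      rcases done (Or.inr h) with h | h
      exacts [Or.inl h, Or.inr (Or.inl h)]
    · rw [Nat.mul_div_cancel' he.1] at h
      rcases done (Or.inl h) with h | h
      exacts [Or.inl h, Or.inr (Or.inl h)]
  · have hd : Nat.card H ∣ (Fintype.card F - 1) * Fintype.card F := by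
      rw [← card_normalizer_sylow p P, Nat.card_congr e.toEquiv]
      exact (Subgroup.card_dvd_of_le hK).mul_left _
    have hco : (Nat.card H).Coprime (Fintype.card F) := by
      rw [hn]
      refine Nat.Coprime.pow_right n ((hpp.coprime_iff_not_dvd.2 fun hd => ?_).symm)
      have := hH.1 p hpp hd
      simp at this; omega
    rcases done (Or.inl (hco.dvd_of_dvd_mul_right hd)) with h | h
    exacts [Or.inl h, Or.inr (Or.inl h)]
  · rw [Nat.card_congr e.toEquiv, nat_card_alternatingGroup, Nat.card_fin] at hc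
    norm_num [Nat.factorial] at hc
    exact Or.inr (Or.inr (Or.inl (by omega)))
  · rw [Nat.card_congr e.toEquiv, Nat.card_perm, Nat.card_fin] at hc
    norm_num [Nat.factorial] at hc
    exact Or.inr (Or.inr (Or.inr (by omega)))
  · have := hH.1 5 (by norm_num) (by
      rw [Nat.card_congr e.toEquiv, nat_card_alternatingGroup, Nat.card_fin]; decide)
    simp at this
  · exfalso
    have hm0 : m ≠ 0 := by
      rintro rfl
      have := one_lt_q (F := F)
      rw [pow_zero] at hm; omega
    obtain ⟨a, ha, -⟩ := Maximal.pow_eq_of_pow_eq_prime (p := p) hpp (hm.trans hn) hm0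
    haveI := Maximal.charP_of_card_pow p ha
    have hd : p ∣ Nat.card H := by
      have h1 : p ∣ Nat.card PSL(2, L) := by
        rw [← orderOf_mk_uu (F := L) p one_ne_zero]; exact orderOf_dvd_natCard _
      rcases hiso with ⟨⟨e⟩⟩ | ⟨⟨e⟩⟩ <;> rw [Nat.card_congr e.toEquiv]
      · exact h1
      · exact h1.trans (Subgroup.card_dvd_of_injective
          (Matrix.ProjectiveSpecialLinearGroup.toPGL (n := Fin 2) (R := L))
          Matrix.ProjectiveSpecialLinearGroup.toPGL_injective)
    have := hH.1 p hpp hd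
    simp at this; omega

theorem backward (p : ℕ) [Fact p.Prime] [CharP F p] (hp : 5 ≤ p)
    (h : (3 ∣ Fintype.card F - 1 ∧ Fintype.card F % 4 = 1) ∨
      (3 ∣ Fintype.card F + 1 ∧ Fintype.card F % 4 = 3) ∨
      part (Fintype.card F ^ 2 - 1) = 24 ∨ part (Fintype.card F ^ 2 - 1) = 48) :
    ∃ H : Subgroup PSL(2, F), IsPiHall ({2, 3} : Set ℕ) H := by
  have hpp : p.Prime := Fact.out
  obtain ⟨n, hn0, hn⟩ := Maximal.card_eq_pow (F := F) p
  have hodd : Odd (Fintype.card F) := hn ▸ (hpp.odd_of_ne_two (by omega)).pow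
  have h3q : ¬ 3 ∣ Fintype.card F := fun h => by
    rw [hn] at h
    have := (Nat.prime_dvd_prime_iff_eq Nat.prime_three hpp).1 (Nat.prime_three.dvd_of_dvd_pow h)
    omega
  obtain ⟨hpart, -, -⟩ := two_mul_part_card hodd h3q
  have h5 : 5 ≤ Fintype.card F := hn ▸ hp.trans (Nat.le_self_pow hn0.ne' p)
  have hgcd : Nat.gcd 2 (Fintype.card F - 1) = 2 := Nat.gcd_eq_left (by
    obtain ⟨j, hj⟩ := hodd; omega)
  have hsplit : Fintype.card F ^ 2 - 1 = (Fintype.card F + 1) * (Fintype.card F - 1) := by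
    simpa using Nat.sq_sub_sq (Fintype.card F) 1
  rcases h with ⟨h3, h4⟩ | ⟨h3, h4⟩ | h | h
  · obtain ⟨g, hg, hc⟩ := exists_torus_card_sub_one (F := F) (by omega)
    refine exists_hall_of_torus hg ?_
    have h1 := card_map_cent g
    rw [hgcd, hc] at h1
    have h2 := part_dvd_of_mod (q := Fintype.card F) (a := Fintype.card F - 1)
      (b := Fintype.card F + 1) (by rw [hsplit, mul_comm]) (by omega) (by omega)
      (factorization_two_eq_one (by omega)) (by omega)
    rw [← hpart] at h2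
    rw [h1]
    exact Nat.dvd_of_mul_dvd_mul_left two_pos h2
  · obtain ⟨g, hg, hc⟩ := exists_torus_card_add_one F
    refine exists_hall_of_torus hg ?_
    have h1 := card_map_cent g
    rw [hgcd, hc] at h1
    have h2 := part_dvd_of_mod (q := Fintype.card F) (a := Fintype.card F + 1)
      (b := Fintype.card F - 1) hsplit (by omega) (by omega)
      (factorization_two_eq_one (by omega)) (by omega)
    rw [← hpart] at h2
    rw [h1]
    exact Nat.dvd_of_mul_dvd_mul_left two_pos h2
  · obtain ⟨g, w, hL⟩ := exists_lift_exists (F := F) (odd_card_iff.1 hodd)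
    obtain ⟨A, -, ⟨e⟩⟩ := exists_alternatingFour hL
    refine ⟨A, hall_of_card ?_⟩
    rw [Nat.card_congr e.toEquiv, nat_card_alternatingGroup, Nat.card_fin]
    norm_num [Nat.factorial]
    omega
  · have h8 : Fintype.card F % 8 ≠ 3 ∧ Fintype.card F % 8 ≠ 5 := by
      have h16 : 16 ∣ Fintype.card F ^ 2 - 1 :=
        ((show 16 ∣ 48 by norm_num).trans h.symm.dvd).trans (part_dvd _)
      have hmod : Fintype.card F ^ 2 % 16 = 1 := by
        have : 0 < Fintype.card F ^ 2 := Nat.pow_pos Fintype.card_pos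
        omega
      rw [Nat.pow_mod] at hmod
      have := Nat.mod_lt (Fintype.card F) (show 16 > 0 by norm_num)
      generalize hr : Fintype.card F % 16 = r at hmod this
      interval_cases r <;> omega
    obtain ⟨s, hs⟩ := FiniteField.isSquare_two_iff.2 h8
    obtain ⟨φ, hφ⟩ := exists_permFour_of_sq_two (odd_card_iff.1 hodd) (s := s)
      (by rw [pow_two]; exact hs.symm)
    refine ⟨φ.range, hall_of_card ?_⟩
    rw [← Nat.card_congr (MonoidHom.ofInjective hφ).toEquiv, Nat.card_perm, Nat.card_fin]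
    norm_num [Nat.factorial]
    omega

/-- Let `F` be a finite field with `q` elements of characteristic `p ≥ 5`, and `ε = 1` if `q ≡ 1 (mod 4)`, `ε = -1` otherwise. Then `PSL(2, F)` has a Hall `{2, 3}`-subgroup if and only if `3` divides `q − ε`, or the `{2,3}`-part of `q² − 1` is 24, or the `{2,3}`-part of `q² − 1` is 48 (the `{2,3}`-part of `m` being the largest divisor of `m` with no prime factor other than 2 and 3). -/
theorem result {F : Type*} [Field F] [Fintype F] {p : ℕ} [Fact p.Prime] [CharP F p]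
    (hp : 5 ≤ p) (q : ℕ) (hq : Fintype.card F = q) :
    (∃ H : Subgroup (Matrix.ProjectiveSpecialLinearGroup (Fin 2) F), Cfsg.IsPiHall ({2, 3} : Set ℕ) H) ↔
      (3 ∣ q - 1 ∧ q % 4 = 1) ∨ (3 ∣ q + 1 ∧ q % 4 = 3) ∨
        2 ^ (q ^ 2 - 1).factorization 2 * 3 ^ (q ^ 2 - 1).factorization 3 = 24 ∨
        2 ^ (q ^ 2 - 1).factorization 2 * 3 ^ (q ^ 2 - 1).factorization 3 = 48 := by
  subst hq
  exact ⟨fun ⟨H, hH⟩ => forward p hp hH, backward p hp⟩

end Cfsg.Agent.S2537
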