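import Cfsg.Statements.S2538
import Cfsg.Agent.Lib.Perm.HallSymApply

set_option autoImplicit false
open Cfsg

namespace Cfsg.Agent.S2538

/-- For every `n` and every set of primes `π`, a subgroup of the alternating group of degree `n` is a Hall `π`-subgroup of it if and only if it is the intersection with the alternating group of some Hall `π`-subgroup of the symmetric group of degree `n`. -/
theorem result (n : ℕ) (π : Set ℕ)
    (M : Subgroup ↥(alternatingGroup (Fin n))) :
    Cfsg.IsPiHall π M ↔ ∃ M₀ : Subgroup (Equiv.Perm (Fin n)), Cfsg.IsPiHall π M₀ ∧ M = M₀.subgroupOf (alternatingGroup (Fin n)) := by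
  classical
  constructor
  · intro hM
    have hS : Nat.card (Equiv.Perm (Fin n)) ∣ n.factorial := by
      rw [Nat.card_perm, Nat.card_fin]
    by_cases h : (∃ p q : ℕ, p.Prime ∧ q.Prime ∧ p ≠ q ∧ p ∈ π ∧ q ∈ π ∧ p ≤ n ∧ q ≤ n) ∧
        ∃ r : ℕ, r.Prime ∧ r ≤ n ∧ r ∉ π
    · obtain ⟨B, -, hB, rfl⟩ := Perm.HallSym.eq_subgroupOf_bip hM (by simpa using h.1)
        (by simpa using h.2)
      exact ⟨_, hB, rfl⟩
    · have hD := Perm.HallSym.isDPiGroup_of_not (π := π) hS h
      obtain ⟨H, hH⟩ := Perm.HallSym.isEPiGroup_of_isDPiGroup hD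
      obtain ⟨g, hg⟩ := Perm.HallSym.exists_conj_of_isDPiGroup hD hH
        (Perm.HallSym.altHall_map hM).pi
      refine ⟨_, Perm.HallSym.isPiHall_map_conj hH g, ?_⟩
      have hle : M ≤ (H.map (MulAut.conj g).toMonoidHom).subgroupOf (alternatingGroup (Fin n)) :=
        fun m hm => hg ⟨m, hm, rfl⟩
      exact le_antisymm hle ((Perm.HallSym.maximal_of_isPiHall hM).2
        (Perm.HallSym.isPiHall_subgroupOf (Perm.HallSym.isPiHall_map_conj hH g)).1 hle)
  · rintro ⟨M₀, hM₀, rfl⟩
    exact Perm.HallSym.isPiHall_subgroupOf hM₀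

end Cfsg.Agent.S2538
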