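import Cfsg.Statements.S2540
import Cfsg.Agent.Lib.GL.Simple

set_option autoImplicit false
open Cfsg
open scoped commutatorElement

namespace Cfsg.Agent.S2540

theorem commute_of_commutator_central {S G : Type*} [Group S] [Group G] (f : S →* G) (hf : Function.Injective f)
    (hperf : commutator S = ⊤) (g : G)
    (h : ∀ s, ∃ z ∈ Subgroup.center S, f z = f s * g * (f s)⁻¹ * g⁻¹) : ∀ s, Commute (f s) g := by
  choose z hz using h
  let φ : S →* Subgroup.center S := MonoidHom.mk' (fun s => ⟨z s, (hz s).1⟩) (fun a b => by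
    refine Subtype.ext (hf ?_)
    show f (z (a * b)) = f (z a * z b)
    have hc : f a * f (z b) = f (z b) * f a := by
      rw [← map_mul, ← map_mul, Subgroup.mem_center_iff.1 (hz b).1 a]
    calc f (z (a * b)) = f (a * b) * g * (f (a * b))⁻¹ * g⁻¹ := (hz _).2
      _ = f a * (f b * g * (f b)⁻¹ * g⁻¹) * g * (f a)⁻¹ * g⁻¹ := by rw [map_mul]; group
      _ = f a * f (z b) * g * (f a)⁻¹ * g⁻¹ := by rw [(hz b).2]
      _ = f (z b) * (f a * g * (f a)⁻¹ * g⁻¹) := by rw [hc]; group
      _ = f (z a * z b) := by rw [← (hz a).2, ← map_mul, Subgroup.mem_center_iff.1 (hz b).1 (z a)])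
  intro s
  have hs : φ s = 1 := by
    have hle : commutator S ≤ φ.ker := by
      rw [commutator_def, Subgroup.commutator_le]
      intro a _ b _
      rw [MonoidHom.mem_ker, map_commutatorElement, commutatorElement_eq_one_iff_mul_comm]
      exact Subtype.ext (Subgroup.mem_center_iff.1 (φ b).2 _)
    have : s ∈ φ.ker := hle (hperf ▸ Subgroup.mem_top s)
    exact this
  have h1 := (hz s).2
  rw [show z s = 1 from congrArg Subtype.val hs, map_one, eq_comm, mul_inv_eq_one, mul_inv_eq_iff_eq_mul] at h1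
  exact h1

/-- Let F be a finite field and n ≥ 1, excluding the case n = 2 with #F ≤ 3. A subgroup of GL_n(F) that is normalized by every element of SL_n(F) either consists of scalar matrices or contains SL_n(F). -/
theorem result {F : Type*} [Field F] [Fintype F] (n : ℕ) (hn : 1 ≤ n) (hex : ¬ (n = 2 ∧ Fintype.card F ≤ 3)) (G : Subgroup (Matrix.GeneralLinearGroup (Fin n) F)) (hG : ∀ s : Matrix.SpecialLinearGroup (Fin n) F, ∀ g ∈ G, (Matrix.SpecialLinearGroup.toGL s) * g * (Matrix.SpecialLinearGroup.toGL s)⁻¹ ∈ G) : (∀ g ∈ G, ∃ c : F, (g : Matrix (Fin n) (Fin n) F) = c • (1 : Matrix (Fin n) (Fin n) F)) ∨ (Matrix.SpecialLinearGroup.toGL : Matrix.SpecialLinearGroup (Fin n) F →* _).range ≤ G := by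
  classical
  rcases eq_or_lt_of_le hn with h1 | hn2
  · subst h1
    left
    intro g _
    refine ⟨(g : Matrix (Fin 1) (Fin 1) F) 0 0, ?_⟩
    ext i j
    fin_cases i <;> fin_cases j
    simp
  have hF : n = 2 → 4 ≤ Nat.card F := fun h2 => by
    have := fun h => hex ⟨h2, h⟩
    rw [Nat.card_eq_fintype_card]
    omega
  let H : Subgroup (Matrix.SpecialLinearGroup (Fin n) F) := G.comap Matrix.SpecialLinearGroup.toGL
  have hH : H.Normal := ⟨fun x hx s => by
    show Matrix.SpecialLinearGroup.toGL (s * x * s⁻¹) ∈ G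
    rw [map_mul, map_mul, map_inv]
    exact hG s _ hx⟩
  have := GL.PSL_isSimpleGroup (F := F) n (by omega) hF
  have hperf := GL.SL_commutator_eq_top (F := F) n (by omega)
    (fun h => GL.exists_sq_ne_one_of_four_le_card (hF h))
  rcases (Subgroup.Normal.map hH (QuotientGroup.mk' (Subgroup.center (Matrix.SpecialLinearGroup (Fin n) F)))
    (QuotientGroup.mk'_surjective _)).eq_bot_or_eq_top with hbot | htop
  · left
    have hHZ : H ≤ Subgroup.center (Matrix.SpecialLinearGroup (Fin n) F) := by
      rw [Subgroup.map_eq_bot_iff, QuotientGroup.ker_mk'] at hbot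
      exact hbot
    intro g hg
    have hcomm := commute_of_commutator_central (Matrix.SpecialLinearGroup.toGL (n := Fin n) (R := F))
      Matrix.SpecialLinearGroup.toGL_injective hperf g (fun s => by
        have hm : Matrix.SpecialLinearGroup.toGL s * g * (Matrix.SpecialLinearGroup.toGL s)⁻¹ * g⁻¹ ∈
            (Matrix.GeneralLinearGroup.det : GL (Fin n) F →* Fˣ).ker := by
          rw [MonoidHom.mem_ker, map_mul, map_mul, map_mul, map_inv, map_inv, mul_right_comm
            (Matrix.GeneralLinearGroup.det (Matrix.SpecialLinearGroup.toGL s)) _ _, mul_inv_cancel, one_mul, mul_inv_cancel]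
        rw [GL.det_ker_eq_range_toGL] at hm
        obtain ⟨z, hz⟩ := hm
        exact ⟨z, hHZ (show Matrix.SpecialLinearGroup.toGL z ∈ G by
          rw [hz]; exact G.mul_mem (hG s g hg) (G.inv_mem hg)), hz⟩)
    have hr := (Matrix.mem_range_scalar_of_commute_transvectionStruct (M := (g : Matrix (Fin n) (Fin n) F))
      (fun t => congrArg Units.val (hcomm ⟨t.toMatrix, t.det⟩)))
    obtain ⟨c, hc⟩ := hr
    exact ⟨c, by rw [← hc, Matrix.scalar_apply, Matrix.smul_one_eq_diagonal]⟩
  · right
    rintro _ ⟨s, rfl⟩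
    have hK : H ⊔ Subgroup.center (Matrix.SpecialLinearGroup (Fin n) F) = ⊤ := by
      have := congrArg (Subgroup.comap (QuotientGroup.mk' (Subgroup.center (Matrix.SpecialLinearGroup (Fin n) F)))) htop
      rwa [Subgroup.comap_map_eq, QuotientGroup.ker_mk', Subgroup.comap_top] at this
    have hle : commutator (Matrix.SpecialLinearGroup (Fin n) F) ≤ H := by
      rw [commutator_def, Subgroup.commutator_le]
      intro a _ b _
      have ha : a ∈ H ⊔ Subgroup.center _ := hK ▸ Subgroup.mem_top a
      have hb : b ∈ H ⊔ Subgroup.center _ := hK ▸ Subgroup.mem_top b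
      rw [Subgroup.mem_sup_of_normal_right] at ha hb
      obtain ⟨x, hx, u, hu, rfl⟩ := ha
      obtain ⟨y, hy, v, hv, rfl⟩ := hb
      have e : ⁅x * u, y * v⁆ = ⁅x, y⁆ := by
        have hu' := fun t => Subgroup.mem_center_iff.1 hu t
        have hv' := fun t => Subgroup.mem_center_iff.1 hv t
        calc ⁅x * u, y * v⁆ = x * (u * (y * v)) * u⁻¹ * x⁻¹ * v⁻¹ * y⁻¹ := by rw [commutatorElement_def]; group
          _ = x * ((y * v) * u) * u⁻¹ * x⁻¹ * v⁻¹ * y⁻¹ := by rw [← hu' (y * v)]
          _ = x * y * (v * x⁻¹) * v⁻¹ * y⁻¹ := by group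
          _ = x * y * (x⁻¹ * v) * v⁻¹ * y⁻¹ := by rw [← hv' x⁻¹]
          _ = ⁅x, y⁆ := by rw [commutatorElement_def]; group
      rw [e, commutatorElement_def]
      exact H.mul_mem (H.mul_mem (H.mul_mem hx hy) (H.inv_mem hx)) (H.inv_mem hy)
    rw [hperf] at hle
    exact hle (Subgroup.mem_top s)

end Cfsg.Agent.S2540
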