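import Cfsg.Statements.S2541
import Cfsg.Agent.Lib.GL.Basic

set_option autoImplicit false
open Cfsg

namespace Cfsg.Agent.S2541

/-- Let F be a field with 9 elements. The symmetric group S_6 is not isomorphic to PGL_2(F) (although both have index-2 subgroups isomorphic to A_6). -/
theorem result {F : Type*} [Field F] [Fintype F] (hF : Fintype.card F = 9) : ¬ Nonempty (Equiv.Perm (Fin 6) ≃* Matrix.ProjGenLinGroup (Fin 2) F) := by
  rintro ⟨e⟩
  obtain ⟨u, hu⟩ := IsCyclic.exists_generator (α := Fˣ)
  have hord : orderOf u = 8 := by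
    rw [orderOf_eq_card_of_forall_mem_zpowers hu, Nat.card_units, Nat.card_eq_fintype_card, hF]
  let g : GL (Fin 2) F := GL.diagHom ![u, 1]
  have hg : orderOf (QuotientGroup.mk g : Matrix.ProjGenLinGroup (Fin 2) F) = 8 := by
    refine (orderOf_eq_iff (by norm_num)).2 ⟨?_, fun m hm hm0 h => ?_⟩
    · rw [← QuotientGroup.mk_pow, QuotientGroup.eq_one_iff, ← map_pow]
      have : (![u, 1] : Fin 2 → Fˣ) ^ 8 = 1 := by
        funext i; fin_cases i
        · simpa [← hord] using pow_orderOf_eq_one u
        · simp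
      rw [this, map_one]
      exact Subgroup.one_mem _
    · rw [← QuotientGroup.mk_pow, QuotientGroup.eq_one_iff] at h
      obtain ⟨r, hr⟩ := Matrix.GeneralLinearGroup.mem_center_iff_val_eq_scalar.1 h
      rw [← map_pow] at hr
      have h0 := congrFun (congrFun hr 0) 0
      have h1 := congrFun (congrFun hr 1) 1
      simp [GL.coe_diagHom, Matrix.diagonal_pow] at h0 h1
      have hu1 : u ^ m = 1 := Units.ext (by push_cast; rw [← h0, ← h1] <;> rfl)
      have := Nat.le_of_dvd hm0 (orderOf_dvd_of_pow_eq_one hu1)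
      omega
  have hx := (orderOf_injective e.symm.toMonoidHom e.symm.injective (QuotientGroup.mk g)).trans hg
  generalize e.symm.toMonoidHom (QuotientGroup.mk g) = σ at hx
  have hno : ∀ τ : Equiv.Perm (Fin 6), τ ^ 8 = 1 → τ ^ 4 = 1 := by decide +kernel
  have h8 : σ ^ 8 = 1 := hx ▸ pow_orderOf_eq_one σ
  have := Nat.le_of_dvd (by norm_num) (orderOf_dvd_of_pow_eq_one (hno σ h8))
  omega

end Cfsg.Agent.S2541
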