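import Cfsg.Statements.S2542
import Cfsg.Agent.Lib.PSL2Eleven.Basic
import Cfsg.Agent.Lib.Perm.PrimeDegree
import Cfsg.Agent.Lib.SmallSimple.Low

set_option autoImplicit false
open Cfsg

namespace Cfsg.Agent.S2542

/-- Let F be a field with 11 elements. PSL_2(F) has a subgroup H of index 11 isomorphic to the alternating group A_5, and the action of PSL_2(F) on the cosets of H is 2-transitive (of degree 11). -/
theorem result {F : Type*} [Field F] [Fintype F] (hF : Fintype.card F = 11) : ∃ H : Subgroup (Matrix.ProjectiveSpecialLinearGroup (Fin 2) F), H.index = 11 ∧ Nonempty (H ≃* alternatingGroup (Fin 5)) ∧ MulAction.IsMultiplyPretransitive (Matrix.ProjectiveSpecialLinearGroup (Fin 2) F) ((Matrix.ProjectiveSpecialLinearGroup (Fin 2) F) ⧸ H) 2 := by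
  classical
  have h11 : (11 : F) = 0 := by
    have h := FiniteField.cast_card_eq_zero F
    rw [hF] at h
    exact_mod_cast h
  obtain ⟨e⟩ := PSL2Eleven.iso_M0 h11
  set H := PSL2Eleven.M0 h11
  have hidx : H.index = 11 := PSL2Eleven.index_eleven hF ⟨e⟩
  refine ⟨H, hidx, ⟨e⟩, ?_⟩
  haveI : Fact (Nat.Prime 11) := ⟨by norm_num⟩
  haveI : IsSimpleGroup (Matrix.ProjectiveSpecialLinearGroup (Fin 2) F) :=
    PSL2.psl_isSimpleGroup (by omega)
  haveI : Fintype (Matrix.ProjectiveSpecialLinearGroup (Fin 2) F ⧸ H) := Fintype.ofFinite _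
  set ψ := MulAction.toPermHom (Matrix.ProjectiveSpecialLinearGroup (Fin 2) F)
    (Matrix.ProjectiveSpecialLinearGroup (Fin 2) F ⧸ H)
  have hne : H ≠ ⊤ := fun h => by rw [h, Subgroup.index_top] at hidx; omega
  have hψ : Function.Injective ψ := Cfsg.Agent.SmallSimple.toPermHom_injective hne
  haveI : MulAction.IsPretransitive ψ.range (Matrix.ProjectiveSpecialLinearGroup (Fin 2) F ⧸ H) :=
    ⟨fun x y => by
      obtain ⟨g, hg⟩ := MulAction.exists_smul_eq (Matrix.ProjectiveSpecialLinearGroup (Fin 2) F) x y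
      exact ⟨⟨ψ g, g, rfl⟩, hg⟩⟩
  have hns : ¬ Group.IsSolvable ψ.range := fun hs => by
    haveI := hs
    have hsol : Group.IsSolvable (Matrix.ProjectiveSpecialLinearGroup (Fin 2) F) :=
      Group.isSolvable_of_isSolvable_injective (f := ψ.rangeRestrict)
        (fun a b h => hψ (congrArg Subtype.val h))
    haveI := hsol
    haveI : Group.IsSolvable H := Group.isSolvable_of_isSolvable_injective H.subtype_injective
    haveI : Group.IsSolvable (alternatingGroup (Fin 5)) :=
      Group.isSolvable_of_surjective (f := e.toMonoidHom) e.surjective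
    haveI : IsSimpleGroup (alternatingGroup (Fin 5)) := alternatingGroup.isSimpleGroup (by simp)
    have hcomm := IsSimpleGroup.comm_iff_isSolvable.2 (inferInstance : Group.IsSolvable (alternatingGroup (Fin 5)))
    have hnc : ¬ ∀ a b : alternatingGroup (Fin 5), a * b = b * a := by decide +kernel
    exact hnc hcomm
  have h2t := Perm.PrimeDegree.twoTransitive_of_not_isSolvable (p := 11) (G := ψ.range)
    (by rw [← Nat.card_eq_fintype_card]; exact hidx) hns
  rw [MulAction.is_two_pretransitive_iff] at h2t ⊢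
  intro a b c d hab hcd
  obtain ⟨⟨_, g, rfl⟩, h1, h2⟩ := h2t hab hcd
  exact ⟨g, h1, h2⟩

end Cfsg.Agent.S2542
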