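import Cfsg.Statements.S2543
import Cfsg.Agent.Lib.PSL2Eleven.Basic

set_option autoImplicit false
open scoped Pointwise
open Cfsg

namespace Cfsg.Agent.S2543

open scoped Pointwise

/-- A conjugacy class of maximal self-normalising icosahedral subgroups has eleven members. -/
theorem ncard_conjugates {F : Type*} [Field F] [Fintype F] (hF : Fintype.card F = 11)
    (M : Subgroup (Matrix.ProjectiveSpecialLinearGroup (Fin 2) F))
    (hM : Nonempty (M ≃* alternatingGroup (Fin 5))) :
    {L : Subgroup (Matrix.ProjectiveSpecialLinearGroup (Fin 2) F) |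
      ∃ g : Matrix.ProjectiveSpecialLinearGroup (Fin 2) F, MulAut.conj g • M = L}.ncard = 11 := by
  classical
  letI : MulAction (Matrix.ProjectiveSpecialLinearGroup (Fin 2) F)
      (Subgroup (Matrix.ProjectiveSpecialLinearGroup (Fin 2) F)) :=
    MulAction.compHom _ (MulAut.conj : Matrix.ProjectiveSpecialLinearGroup (Fin 2) F →* _)
  have hset : {L : Subgroup (Matrix.ProjectiveSpecialLinearGroup (Fin 2) F) |
      ∃ g : Matrix.ProjectiveSpecialLinearGroup (Fin 2) F, MulAut.conj g • M = L} =
      MulAction.orbit (Matrix.ProjectiveSpecialLinearGroup (Fin 2) F) M := rfl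
  rw [hset, ← MulAction.index_stabilizer]
  have hidx := PSL2Eleven.index_eleven hF hM
  have hle : M ≤ MulAction.stabilizer (Matrix.ProjectiveSpecialLinearGroup (Fin 2) F) M :=
    fun g hg => Subgroup.conj_smul_eq_self_of_mem hg
  set St := MulAction.stabilizer (Matrix.ProjectiveSpecialLinearGroup (Fin 2) F) M with hSt
  have hd := Subgroup.index_dvd_of_le hle
  rw [hidx] at hd
  rcases (Nat.dvd_prime (show Nat.Prime 11 by norm_num)).1 hd with h | h
  · exfalso
    haveI : IsSimpleGroup (Matrix.ProjectiveSpecialLinearGroup (Fin 2) F) :=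
      PSL2.psl_isSimpleGroup (by omega)
    have htop : St = ⊤ := Subgroup.index_eq_one.1 h
    haveI : M.Normal := ⟨fun x hx g => by
      have hg : g ∈ St := htop ▸ Subgroup.mem_top g
      have hg' : MulAut.conj g • M = M := hg
      rw [← hg']
      exact Subgroup.smul_mem_pointwise_smul x (MulAut.conj g) M hx⟩
    rcases IsSimpleGroup.eq_bot_or_eq_top_of_normal M inferInstance with hb | ht
    · rw [hb, Subgroup.index_bot, PSL2Eleven.card_PSL_eleven hF] at hidx
      omega
    · rw [ht, Subgroup.index_top] at hidx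
      omega
  · exact h


/-- Let F be a field with 11 elements. PSL_2(F) has exactly 22 subgroups isomorphic to the alternating group A_5, and they form two conjugacy classes: there are two such subgroups that are not conjugate, and every such subgroup is conjugate to one of these two. -/
theorem result {F : Type*} [Field F] [Fintype F] (hF : Fintype.card F = 11) : Nat.card {H : Subgroup (Matrix.ProjectiveSpecialLinearGroup (Fin 2) F) // Nonempty (H ≃* alternatingGroup (Fin 5))} = 22 ∧ ∃ H K : Subgroup (Matrix.ProjectiveSpecialLinearGroup (Fin 2) F), Nonempty (H ≃* alternatingGroup (Fin 5)) ∧ Nonempty (K ≃* alternatingGroup (Fin 5)) ∧ (∀ g : Matrix.ProjectiveSpecialLinearGroup (Fin 2) F, MulAut.conj g • H ≠ K) ∧ ∀ L : Subgroup (Matrix.ProjectiveSpecialLinearGroup (Fin 2) F), Nonempty (L ≃* alternatingGroup (Fin 5)) → ∃ g : Matrix.ProjectiveSpecialLinearGroup (Fin 2) F, MulAut.conj g • L = H ∨ MulAut.conj g • L = K := by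
  classical
  have h11 : (11 : F) = 0 := by
    have h := FiniteField.cast_card_eq_zero F
    rw [hF] at h
    exact_mod_cast h
  set H := PSL2Eleven.M0 h11
  set K := PSL2Eleven.M1 h11
  have hH := PSL2Eleven.iso_M0 h11
  have hK := PSL2Eleven.iso_M1 h11
  have hcl := PSL2Eleven.classify h11 hF
  refine ⟨?_, H, K, hH, hK, PSL2Eleven.not_conj h11 hF, fun L hL => ?_⟩
  · have hiso : ∀ (M : Subgroup (Matrix.ProjectiveSpecialLinearGroup (Fin 2) F))
        (g : Matrix.ProjectiveSpecialLinearGroup (Fin 2) F),
        Nonempty (M ≃* alternatingGroup (Fin 5)) →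
        Nonempty ((MulAut.conj g • M : Subgroup _) ≃* alternatingGroup (Fin 5)) := fun M g ⟨e⟩ =>
      ⟨(Subgroup.equivSMul (MulAut.conj g) M).symm.trans e⟩
    have hset : {L : Subgroup (Matrix.ProjectiveSpecialLinearGroup (Fin 2) F) |
        Nonempty (L ≃* alternatingGroup (Fin 5))} =
        {L | ∃ g : Matrix.ProjectiveSpecialLinearGroup (Fin 2) F, MulAut.conj g • H = L} ∪
        {L | ∃ g : Matrix.ProjectiveSpecialLinearGroup (Fin 2) F, MulAut.conj g • K = L} := by
      ext L
      constructor
      · intro hL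
        obtain ⟨g, h | h⟩ := hcl L hL
        · exact Or.inl ⟨g, h⟩
        · exact Or.inr ⟨g, h⟩
      · rintro (⟨g, rfl⟩ | ⟨g, rfl⟩)
        · exact hiso H g hH
        · exact hiso K g hK
    have hdisj : Disjoint
        {L | ∃ g : Matrix.ProjectiveSpecialLinearGroup (Fin 2) F, MulAut.conj g • H = L}
        {L | ∃ g : Matrix.ProjectiveSpecialLinearGroup (Fin 2) F, MulAut.conj g • K = L} := by
      rw [Set.disjoint_left]
      rintro L ⟨g, hg⟩ ⟨g', hg'⟩
      refine PSL2Eleven.not_conj h11 hF (g'⁻¹ * g) ?_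
      rw [map_mul, mul_smul, hg, ← hg', map_inv, inv_smul_smul]
    show Nat.card {L : Subgroup (Matrix.ProjectiveSpecialLinearGroup (Fin 2) F) |
      Nonempty (L ≃* alternatingGroup (Fin 5))} = 22
    rw [Nat.card_coe_set_eq, hset, Set.ncard_union_eq hdisj (Set.toFinite _) (Set.toFinite _),
      ncard_conjugates hF H hH, ncard_conjugates hF K hK]
  · obtain ⟨g, h | h⟩ := hcl L hL
    · exact ⟨g⁻¹, Or.inl (by rw [← h, map_inv, inv_smul_smul])⟩
    · exact ⟨g⁻¹, Or.inr (by rw [← h, map_inv, inv_smul_smul])⟩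

end Cfsg.Agent.S2543
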