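import Cfsg.Statements.S2544
import Cfsg.Agent.Lib.DefChar.Count

set_option autoImplicit false
open Cfsg

namespace Cfsg.Agent.S2544

/-- Let F be a finite field of characteristic p and consider the projective special linear group PSL_n(F) with n ≥ 2. This group has an irreducible complex character χ whose degree equals the order of a Sylow p-subgroup (namely q^(n(n−1)/2) when #F = q) and whose restriction to any Sylow p-subgroup P is the regular character of P: χ vanishes on the non-identity elements of P. (This is the Steinberg character.) -/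
theorem result {F : Type*} [Field F] [Fintype F] (p : ℕ) [Fact p.Prime] [CharP F p] (n : ℕ) (hn : 2 ≤ n) : ∃ χ : Matrix.ProjectiveSpecialLinearGroup (Fin n) F → ℂ, Cfsg.IsIrrCharacter (Matrix.ProjectiveSpecialLinearGroup (Fin n) F) χ ∧ ∀ P : Sylow p (Matrix.ProjectiveSpecialLinearGroup (Fin n) F), χ 1 = Nat.card P ∧ ∀ x : Matrix.ProjectiveSpecialLinearGroup (Fin n) F, x ∈ P → x ≠ 1 → χ x = 0 := by
  haveI : Nonempty (Fin n) := ⟨⟨0, by omega⟩⟩
  obtain ⟨M, hM⟩ := Cfsg.Agent.CharInt.exists_isPModular_of_prime (q := p) (Fact.out : p.Prime)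
  haveI := hM.2.1
  obtain ⟨St, hdeg, hcen⟩ := Cfsg.Agent.DefChar.exists_steinberg (F := F) (n := n) (by omega)
  obtain ⟨χ, hχ⟩ := Cfsg.Agent.Char.exists_descend
    (Subgroup.center (Matrix.SpecialLinearGroup (Fin n) F)) St hcen
  refine ⟨χ.1, χ.2, fun P => ⟨?_, fun x hx hx1 => ?_⟩⟩
  · have h1 := hχ 1
    rw [QuotientGroup.mk_one] at h1
    refine h1.trans ?_
    rw [Cfsg.Agent.Char.apply_one_eq_degree, hdeg]
    congr 1
    have hcop : ¬ p ∣ Nat.card (Subgroup.center (Matrix.SpecialLinearGroup (Fin n) F)) := by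
      rw [Cfsg.Agent.GL.card_center_SL]
      intro hdvd
      have h2 := Cfsg.Agent.GL.not_dvd_prod_pow_sub_one (F := F) p {1} (by simp)
      rw [Finset.prod_singleton, pow_one] at h2
      exact h2 (hdvd.trans (Nat.gcd_dvd_right _ _))
    rw [Sylow.card_eq_multiplicity, ← Cfsg.Agent.DefChar.pPow_factorization_SL (F := F) (n := n) (p := p),
      ← Cfsg.Agent.GL.card_center_SL_mul_card_PSL,
      Nat.factorization_mul Nat.card_pos.ne' Nat.card_pos.ne', Finsupp.add_apply,
      Nat.factorization_eq_zero_of_not_dvd hcop, zero_add]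
  · obtain ⟨g, rfl⟩ := QuotientGroup.mk_surjective x
    refine (hχ g).trans (Cfsg.Agent.Blocks.apply_eq_zero_of_defect_zero hM.2.2 St
      (Cfsg.Agent.DefChar.factorization_of_degree_eq hdeg) fun hreg => hreg ?_)
    obtain ⟨j, hj⟩ := P.2 ⟨_, hx⟩
    obtain ⟨i, -, hi⟩ := (Nat.dvd_prime_pow (Fact.out : p.Prime)).1
      (orderOf_dvd_of_pow_eq_one (congrArg Subtype.val hj))
    rcases Nat.eq_zero_or_pos i with rfl | hi0
    · exact absurd (orderOf_eq_one_iff.1 (by simpa using hi)) hx1
    · exact (hi ▸ dvd_pow_self p hi0.ne').trans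
        (orderOf_map_dvd (QuotientGroup.mk' (Subgroup.center (Matrix.SpecialLinearGroup (Fin n) F))) g)

end Cfsg.Agent.S2544
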