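import Cfsg.Statements.S2545
import Cfsg.Agent.Lib.PolarSteinberg.Instances
import Cfsg.Agent.Lib.Forms.Symp

set_option autoImplicit false
open Cfsg

namespace Cfsg.Agent.S2545

/-- Let F be a finite field of characteristic p and consider the projective symplectic group PSp_{2m}(F) with m ≥ 1. This group has an irreducible complex character χ whose degree equals the order of a Sylow p-subgroup (namely q^(m²) when #F = q) and whose restriction to any Sylow p-subgroup P is the regular character of P: χ vanishes on the non-identity elements of P. (This is the Steinberg character.) -/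
theorem result {F : Type*} [Field F] [Fintype F] (p : ℕ) [Fact p.Prime] [CharP F p] (m : ℕ) (hm : 1 ≤ m) : ∃ χ : Cfsg.PSp m F → ℂ, Cfsg.IsIrrCharacter (Cfsg.PSp m F) χ ∧ ∀ P : Sylow p (Cfsg.PSp m F), χ 1 = Nat.card P ∧ ∀ x : Cfsg.PSp m F, x ∈ P → x ≠ 1 → χ x = 0 := by
  classical
  have _ := hm
  let hB := Forms.sympB_polar (F := F) m
  let P := PolarSteinberg.hermPolar hB
  let e := Forms.spEquiv m F
  let j : Matrix.symplecticGroup (Fin m) F →* ((Fin m ⊕ Fin m → F) ≃ₗ[F] (Fin m ⊕ Fin m → F)) :=
    (Forms.isom F (sympForm m F)).subtype.comp e.toMonoidHom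
  have hj : Function.Injective j := Subtype.val_injective.comp e.injective
  have hG : P.G = Forms.isom F (sympForm m F) := by
    show Forms.isom F (Forms.form2 (Forms.sympB m F)) = _
    rw [Forms.form2_sympB]
  have hr : j.range = P.G := by
    rw [hG, MonoidHom.range_comp, MonoidHom.range_eq_top_of_surjective _ e.surjective, ← MonoidHom.range_eq_map,
      Subgroup.range_subtype]
  have htop : j.range.subgroupOf P.G = ⊤ := by rw [hr, Subgroup.subgroupOf_self]
  have hmemG : ∀ z, j z ∈ P.G := fun z => hr.le ⟨z, rfl⟩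
  have hsing : ∀ z, orderOf z = p → ∃ v, v ≠ 0 ∧ j z v = v ∧ P.Sing v ∧ ∀ x, j z x = x → P.B x v = 0 := by
    intro z hz
    obtain ⟨v, hv0, hzv, hperp, -⟩ := P.exists_radical (p := p) (hmemG z) (by rw [orderOf_injective j hj, hz])
    exact ⟨v, hv0, hzv, hperp v hzv, hperp⟩
  refine P.exists_quotient_character j hj hr.le (by rw [htop]; infer_instance) hsing
    (P.natAbs_euler_eq j hj hr.le hsing (by rw [htop, Subgroup.index_top, Nat.dvd_one]; exact (Fact.out : p.Prime).ne_one))
    fun z hz v _ => ?_
  by_cases hv0 : v = 0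
  · exact ⟨1, by rw [hv0, map_zero, smul_zero]⟩
  obtain ⟨x, hx⟩ : ∃ x, Forms.sympB m F v x = 1 := by
    obtain ⟨y, hy⟩ : ∃ y, Forms.sympB m F v y ≠ 0 := by
      by_contra hcon
      push Not at hcon
      exact hv0 ((Forms.sympB_nondegenerate m).1 v hcon)
    exact ⟨(Forms.sympB m F v y)⁻¹ • y, by rw [map_smul, smul_eq_mul, inv_mul_cancel₀ hy]⟩
  obtain ⟨t, ht, htx⟩ := hB.exists_isom (LinearMap.id + (Forms.sympB m F v).smulRight v) (fun a b => by
    have halt := Forms.sympB_isAlt (F := F) m
    simp only [LinearMap.add_apply, LinearMap.id_apply, LinearMap.smulRight_apply, map_add, map_smul,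
      LinearMap.smul_apply, smul_eq_mul, halt v, ← LinearMap.BilinForm.IsAlt.neg_eq halt v a]
    ring)
  obtain ⟨T, hT⟩ := hr.ge ht
  have hc := congrArg (fun g => g x) (congrArg j (Subgroup.mem_center_iff.1 hz T))
  simp only [map_mul, LinearEquiv.mul_apply, hT, htx, LinearMap.add_apply, LinearMap.id_apply,
    LinearMap.smulRight_apply, hx, one_smul, map_add, add_right_inj] at hc
  exact ⟨_, hc.symm⟩

end Cfsg.Agent.S2545
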