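import Cfsg.Statements.S2546
import Cfsg.Agent.Lib.PolarSteinberg.Instances
import Cfsg.Agent.Lib.Forms.HermCenter

set_option autoImplicit false
open Cfsg

namespace Cfsg.Agent.S2546

/-- Let F be a finite field of characteristic p and consider the projective special unitary group PSU_n(q), n ≥ 2, realised over the field F with q² elements. This group has an irreducible complex character χ whose degree equals the order of a Sylow p-subgroup (namely q^(n(n−1)/2)) and whose restriction to any Sylow p-subgroup P is the regular character of P: χ vanishes on the non-identity elements of P. (This is the Steinberg character.) -/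
theorem result {F : Type*} [Field F] [Fintype F] (p : ℕ) [Fact p.Prime] [CharP F p] (n q : ℕ) (hn : 2 ≤ n) (hF : Fintype.card F = q ^ 2) : ∃ χ : Cfsg.PSU n F q → ℂ, Cfsg.IsIrrCharacter (Cfsg.PSU n F q) χ ∧ ∀ P : Sylow p (Cfsg.PSU n F q), χ 1 = Nat.card P ∧ ∀ x : Cfsg.PSU n F q, x ∈ P → x ≠ 1 → χ x = 0 := by
  classical
  let P := PolarSteinberg.hermPolar (Forms.hermB_polar hF n)
  let e := Forms.guEquiv n F q
  let E : GU n F q →* ((Fin n → F) ≃ₗ[F] (Fin n → F)) := (Forms.isom F (hermForm n F q)).subtype.comp e.toMonoidHom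
  have hE : Function.Injective E := Subtype.val_injective.comp e.injective
  have hEr : E.range = P.G := by
    show E.range = Forms.isom F (Forms.form2 (Forms.hermB hF n))
    rw [← Forms.isom_hermForm hF, MonoidHom.range_comp, MonoidHom.range_eq_top_of_surjective _ e.surjective,
      ← MonoidHom.range_eq_map, Subgroup.range_subtype]
  let j : SU n F q →* ((Fin n → F) ≃ₗ[F] (Fin n → F)) :=
    E.comp ((Forms.guDet n F q).ker.subtype.comp (Forms.suEquivKer n F q).toMonoidHom)
  have hj : Function.Injective j :=
    hE.comp (Subtype.val_injective.comp (Forms.suEquivKer n F q).injective)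
  have hjr : j.range = (Forms.guDet n F q).ker.map E := by
    rw [MonoidHom.range_comp, MonoidHom.range_comp,
      MonoidHom.range_eq_top_of_surjective _ (Forms.suEquivKer n F q).surjective, ← MonoidHom.range_eq_map,
      Subgroup.range_subtype]
  have hle : j.range ≤ P.G := hjr ▸ hEr ▸ Subgroup.map_le_range _ _
  let eG : GU n F q ≃* P.G := (MonoidHom.ofInjective hE).trans (MulEquiv.subgroupCongr hEr)
  have hsub : j.range.subgroupOf P.G = (Forms.guDet n F q).ker.map eG.toMonoidHom := by
    ext x
    obtain ⟨g, rfl⟩ := eG.surjective x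
    rw [Subgroup.mem_subgroupOf, hjr, show ((eG g : P.G) : (Fin n → F) ≃ₗ[F] (Fin n → F)) = E g from rfl,
      Subgroup.mem_map_iff_mem hE]
    exact (Subgroup.mem_map_iff_mem eG.injective).symm
  have hsing : ∀ z, orderOf z = p → ∃ v, v ≠ 0 ∧ j z v = v ∧ P.Sing v ∧ ∀ x, j z x = x → P.B x v = 0 := by
    intro z hz
    obtain ⟨v, hv0, hzv, hperp, -⟩ := P.exists_radical (p := p) (hle ⟨z, rfl⟩) (by rw [orderOf_injective j hj, hz])
    exact ⟨v, hv0, hzv, hperp v hzv, hperp⟩
  have hidx : ¬ p ∣ (j.range.subgroupOf P.G).index := by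
    rw [hsub, show ((Forms.guDet n F q).ker.map eG.toMonoidHom).index = (Forms.guDet n F q).ker.index from
      Subgroup.index_map_equiv _ eG, Subgroup.index_ker, Forms.range_guDet hF (by omega), Forms.card_norm_kernel hF]
    obtain ⟨p', k, hp', hchar, hq⟩ := Forms.exists_prime_pow_q hF
    obtain rfl := CharP.eq F hchar ‹CharP F p›
    have hk : k ≠ 0 := fun h0 => by
      have := Forms.one_lt_q hF
      rw [hq, h0] at this
      simp at this
    exact fun hd => hp'.not_dvd_one ((Nat.dvd_add_right (hq ▸ dvd_pow_self p' hk)).1 hd)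
  refine P.exists_quotient_character j hj hle
    (by rw [hsub]; exact Subgroup.Normal.map inferInstance _ eG.surjective) hsing
    (P.natAbs_euler_eq j hj hle hsing hidx) fun z hz v _ => ?_
  refine ⟨(z.1 : Matrix (Fin n) (Fin n) F) ⟨0, by omega⟩ ⟨0, by omega⟩, ?_⟩
  funext i
  show ((z.1 : Matrix (Fin n) (Fin n) F).mulVec v) i = _
  rw [Matrix.mulVec, dotProduct, Finset.sum_eq_single i (fun k _ hk => by
    rw [(Forms.center_SU_diagonal hF z hz i k (Ne.symm hk)).1, zero_mul]) (by simp), Pi.smul_apply, smul_eq_mul]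
  by_cases h0 : i = ⟨0, by omega⟩
  · rw [h0]
  · rw [(Forms.center_SU_diagonal hF z hz i _ h0).2]

end Cfsg.Agent.S2546
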