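import Cfsg.Statements.S2548
import Cfsg.Agent.Lib.PolarSteinberg.Omega
import Cfsg.Agent.Lib.PolarSteinberg.PlusFour
import Cfsg.Agent.Lib.PolarSteinberg.Dihedral
import Cfsg.Agent.Lib.Forms.BinDihedral
import Cfsg.Agent.S0299
import Cfsg.Agent.S2544

set_option autoImplicit false
set_option linter.style.haveILetI false
open Cfsg

namespace Cfsg.Agent.S2548

/-- Let F be a finite field of characteristic p and consider the group PΩ⁺_{2m}(F) of the hyperbolic quadratic form Σ x_i y_i with m ≥ 1, where Ω denotes the commutator subgroup of the full isometry group. This group has an irreducible complex character χ whose degree equals the order of a Sylow p-subgroup (equal to q^(m(m−1)) when #F = q, except in the degenerate case m = 2, q = 2, where this commutator subgroup has order 18 and its Sylow 2-subgroups have order 2) and whose restriction to any Sylow p-subgroup P is the regular character of P: χ vanishes on the non-identity elements of P. (This is the Steinberg character.) -/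
theorem result {F : Type*} [Field F] [Fintype F] (p : ℕ) [Fact p.Prime] [CharP F p] (m : ℕ) (hm : 1 ≤ m) : ∃ χ : Cfsg.POmega F (Cfsg.quadFormPlus m F) → ℂ, Cfsg.IsIrrCharacter (Cfsg.POmega F (Cfsg.quadFormPlus m F)) χ ∧ ∀ P : Sylow p (Cfsg.POmega F (Cfsg.quadFormPlus m F)), χ 1 = Nat.card P ∧ ∀ x : Cfsg.POmega F (Cfsg.quadFormPlus m F), x ∈ P → x ≠ 1 → χ x = 0 := by
  classical
  obtain rfl | rfl | h3 : m = 1 ∨ m = 2 ∨ 3 ≤ m := by omega
  · obtain ⟨e⟩ := Forms.isomQ_quadPlus_one_dihedral (F := F)
    exact PolarSteinberg.hasSt_of_comm (PolarSteinberg.commutator_comm_of_dihedral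
      ((Forms.isometryGroupEquivQ (Forms.quadPlus 1 F) Forms.quadPlus_apply).trans e))
  · by_cases hF : Fintype.card F = 2
    · obtain rfl : p = 2 := by
        obtain ⟨f, hfp, hf⟩ := FiniteField.card F p
        exact (Nat.prime_dvd_prime_iff_eq hfp Nat.prime_two).1 (by rw [← hF, hf]; exact dvd_pow_self p f.2.ne')
      exact PolarSteinberg.hasSt_plus_four hF
    · obtain ⟨e⟩ := S0299.result (F := F) (by have := Fintype.one_lt_card (α := F); omega)
      exact PolarSteinberg.HasSt.of_equiv
        (PolarSteinberg.HasSt.prod (S2544.result (F := F) p 2 le_rfl) (S2544.result (F := F) p 2 le_rfl)) e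
  rw [show quadFormPlus m F = ⇑(Forms.quadPlus m F) from (funext Forms.quadPlus_apply).symm]
  have hQ := Forms.quadPlus_nondegenerate (F := F) m
  by_cases h2 : (2 : F) = 0
  swap
  · exact PolarSteinberg.hasSt_pomega_odd _ hQ p (by simp; omega) h2
  let W : Submodule F (Fin m ⊕ Fin m → F) := LinearMap.ker (LinearMap.funLeft F F (Sum.inr : Fin m → Fin m ⊕ Fin m))
  have hmem : ∀ v, v ∈ W ↔ ∀ i, v (.inr i) = 0 := fun v => by
    simp [W, LinearMap.funLeft, funext_iff]
  have hd : Module.finrank F W = m := by
    have h := LinearMap.finrank_range_add_finrank_ker (LinearMap.funLeft F F (Sum.inr : Fin m → Fin m ⊕ Fin m))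
    rw [LinearMap.range_eq_top.2 (LinearMap.funLeft_surjective_of_injective F F _ Sum.inr_injective), finrank_top,
      Module.finrank_fintype_fun_eq_card, Module.finrank_fintype_fun_eq_card, Fintype.card_sum, Fintype.card_fin] at h
    simp only [W]
    omega
  refine PolarSteinberg.hasSt_pomega_two _ hQ p (by simp; omega) h2 W (fun v hv => ?_) (fun v _ hperp => ?_)
    ((Fintype.card F ^ (m - 1 + 1) - 1) * ∏ i ∈ Finset.range (m - 1), (Fintype.card F ^ (2 * (i + 1)) - 1))
    (PolarSteinberg.not_dvd_order_tail p (m - 1)).1 ?_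
  · rw [Forms.quadPlus_apply]
    simp [quadFormPlus, (hmem v).1 hv]
  · refine (hmem v).2 fun i => ?_
    have h := hperp (Pi.single (Sum.inl i) 1) ((hmem _).2 fun k => by simp)
    rw [QuadraticMap.polarBilin_apply_apply, QuadraticMap.polar, Forms.quadPlus_apply, Forms.quadPlus_apply,
      Forms.quadPlus_apply] at h
    simpa [quadFormPlus, Pi.single_apply, add_mul, Finset.sum_add_distrib] using h
  · obtain ⟨k, rfl⟩ : ∃ k, m = k + 1 := ⟨m - 1, by omega⟩
    rw [hd, Fintype.card_sum, Fintype.card_fin, Forms.card_isomQ_quadPlus,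
      show k + 1 + (k + 1) - (k + 1) - 1 = k by omega, show k + 1 - 1 = k by omega]
    ring

end Cfsg.Agent.S2548
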