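import Cfsg.Statements.S2549
import Cfsg.Agent.Lib.PolarSteinberg.Omega
import Cfsg.Agent.Lib.PolarSteinberg.Dihedral
import Cfsg.Agent.Lib.Forms.BinDihedral
import Cfsg.Agent.S0300
import Cfsg.Agent.S2544

set_option autoImplicit false
set_option linter.style.haveILetI false
open Cfsg

namespace Cfsg.Agent.S2549

/-- Let F be a finite field of characteristic p and consider the group PΩ⁻_{2m+2}(F) of the quadratic form Σ_{i<m} x_i y_i + (z₁² + a z₁ z₂ + b z₂²) with anisotropic binary part, m ≥ 0. This group has an irreducible complex character χ whose degree equals the order of a Sylow p-subgroup (namely q^(m(m+1)) when #F = q) and whose restriction to any Sylow p-subgroup P is the regular character of P: χ vanishes on the non-identity elements of P. (This is the Steinberg character.) -/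
theorem result {F : Type*} [Field F] [Fintype F] (p : ℕ) [Fact p.Prime] [CharP F p] (m : ℕ) (a b : F) (hab : ∀ z₁ z₂ : F, z₁ ^ 2 + a * z₁ * z₂ + b * z₂ ^ 2 = 0 → z₁ = 0 ∧ z₂ = 0) : ∃ χ : Cfsg.POmega F (Cfsg.quadFormMinus m F a b) → ℂ, Cfsg.IsIrrCharacter (Cfsg.POmega F (Cfsg.quadFormMinus m F a b)) χ ∧ ∀ P : Sylow p (Cfsg.POmega F (Cfsg.quadFormMinus m F a b)), χ 1 = Nat.card P ∧ ∀ x : Cfsg.POmega F (Cfsg.quadFormMinus m F a b), x ∈ P → x ≠ 1 → χ x = 0 := by
  classical
  obtain rfl | rfl | h3 : m = 0 ∨ m = 1 ∨ 2 ≤ m := by omega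
  · obtain ⟨e⟩ := Forms.isomQ_binQ_dihedral hab
    exact PolarSteinberg.hasSt_of_comm (PolarSteinberg.commutator_comm_of_dihedral
      (((Forms.isometryGroupEquivQ (Forms.quadMinus 0 F a b) Forms.quadMinus_apply).trans
        (Forms.isomCongr (f' := fun (w _ : F × F) => Forms.binQ a b w) (Forms.binCoord F)
          fun u _ => Forms.binQ_binCoord a b u)).trans e))
  · obtain ⟨f, hfp, hf⟩ := FiniteField.card F p
    let K := GaloisField p (2 * f)
    haveI : Fintype K := Fintype.ofFinite K
    haveI : CharP K p := inferInstance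
    obtain ⟨e⟩ := S0300.result (K := K) hf (by
      rw [Fintype.card_eq_nat_card, GaloisField.card p (2 * (f : ℕ)) (Nat.mul_ne_zero two_ne_zero f.2.ne'), ← pow_mul, mul_comm 2]) a b hab
    exact PolarSteinberg.HasSt.of_equiv (S2544.result (F := K) p 2 le_rfl) e
  rw [show quadFormMinus m F a b = ⇑(Forms.quadMinus m F a b) from (funext Forms.quadMinus_apply).symm]
  have hQ := Forms.quadMinus_nondegenerate (F := F) m hab
  by_cases h2 : (2 : F) = 0
  swap
  · exact PolarSteinberg.hasSt_pomega_odd _ hQ p (by simp; omega) h2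
  let ρ : Fin m ⊕ Fin 2 → (Fin m ⊕ Fin m) ⊕ Fin 2 := Sum.map Sum.inr id
  let W : Submodule F ((Fin m ⊕ Fin m) ⊕ Fin 2 → F) := LinearMap.ker (LinearMap.funLeft F F ρ)
  have hmem : ∀ v, v ∈ W ↔ (∀ i, v (.inl (.inr i)) = 0) ∧ ∀ j, v (.inr j) = 0 := fun v => by
    simp [W, ρ, LinearMap.funLeft, funext_iff]
  have hd : Module.finrank F W = m := by
    have h := LinearMap.finrank_range_add_finrank_ker (LinearMap.funLeft F F ρ)
    rw [LinearMap.range_eq_top.2 (LinearMap.funLeft_surjective_of_injective F F _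
      (Sum.map_injective.2 ⟨Sum.inr_injective, Function.injective_id⟩)), finrank_top,
      Module.finrank_fintype_fun_eq_card, Module.finrank_fintype_fun_eq_card] at h
    simp only [Fintype.card_sum, Fintype.card_fin] at h
    simp only [W]
    omega
  refine PolarSteinberg.hasSt_pomega_two _ hQ p (by simp; omega) h2 W (fun v hv => ?_) (fun v hv hperp => ?_)
    ((Fintype.card F ^ (m + 1) + 1) * ∏ i ∈ Finset.range m, (Fintype.card F ^ (2 * (i + 1)) - 1))
    (PolarSteinberg.not_dvd_order_tail p m).2 ?_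
  · rw [Forms.quadMinus_apply]
    obtain ⟨h1, h4⟩ := (hmem v).1 hv
    simp [quadFormMinus, h1, h4]
  · have hy : ∀ i, v (.inl (.inr i)) = 0 := fun i => by
      have h := hperp (Pi.single (Sum.inl (Sum.inl i)) 1) ((hmem _).2 ⟨fun k => by simp, fun k => by simp⟩)
      rw [QuadraticMap.polarBilin_apply_apply, QuadraticMap.polar, Forms.quadMinus_apply, Forms.quadMinus_apply,
        Forms.quadMinus_apply] at h
      simpa [quadFormMinus, Pi.single_apply, add_mul, Finset.sum_add_distrib] using h
    rw [Forms.quadMinus_apply] at hv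
    obtain ⟨hz1, hz2⟩ := hab (v (.inr 0)) (v (.inr 1)) (by simpa [quadFormMinus, hy] using hv)
    exact (hmem v).2 ⟨hy, fun j => by fin_cases j <;> assumption⟩
  · rw [hd, Forms.card_isomQ_quadMinus m hab, Fintype.card_sum, Fintype.card_sum, Fintype.card_fin, Fintype.card_fin,
      show m + m + 2 - m - 1 = m + 1 by omega]
    ring

end Cfsg.Agent.S2549
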