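import Cfsg.Statements.S2550
import Cfsg.Agent.S0243
import Cfsg.Agent.S0256
import Cfsg.Agent.S0820

set_option autoImplicit false
open Cfsg

namespace Cfsg.Agent.S2550

open Matrix

/-- An element of order three commuting with an involution does not exist in `PSL(3,4)`. -/
theorem eq_one_of_commute_involution {K : Type*} [Field K] [Fintype K] (hK : Fintype.card K = 4)
    {x y : Matrix.ProjectiveSpecialLinearGroup (Fin 3) K} (hx : orderOf x = 2) (hy : y ^ 3 = 1)
    (hxy : Commute x y) : y = 1 := by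
  classical
  have h2 : (2 : K) = 0 := by
    have h4 : ((4 : ℕ) : K) = 0 := by rw [← hK]; exact Nat.cast_card_eq_zero K
    have : (2 : K) * 2 = 0 := by rw [← h4]; norm_num
    exact mul_self_eq_zero.1 this
  have hadd : ∀ r : K, r + r = 0 := fun r => by rw [← two_mul, h2, zero_mul]
  have h02 : (0 : Fin 3) ≠ 2 := by decide
  set T := Matrix.SpecialLinearGroup.transvection h02 (1 : K) with hT
  have hTv : (T : Matrix (Fin 3) (Fin 3) K) = !![1, 0, 1; 0, 1, 0; 0, 0, 1] := by
    refine (Matrix.SpecialLinearGroup.transvection_coe h02 (1 : K)).trans ?_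
    ext i j
    fin_cases i <;> fin_cases j <;> simp
  have hTT : T * T = 1 := by
    apply Subtype.ext
    rw [Matrix.SpecialLinearGroup.coe_mul, hTv, Matrix.SpecialLinearGroup.coe_one, Matrix.mul_fin_three,
      Matrix.one_fin_three]
    simp [hadd]
  have hTord : orderOf (QuotientGroup.mk T : Matrix.ProjectiveSpecialLinearGroup (Fin 3) K) = 2 := by
    haveI : Fact (Nat.Prime 2) := ⟨Nat.prime_two⟩
    refine orderOf_eq_prime (by rw [← QuotientGroup.mk_pow, sq, hTT, QuotientGroup.mk_one]) fun h => ?_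
    obtain ⟨r, -, hr⟩ := Matrix.SpecialLinearGroup.mem_center_iff.1 ((QuotientGroup.eq_one_iff _).1 h)
    rw [hTv] at hr
    simpa using congrFun (congrFun hr 0) 2
  obtain ⟨c, hc⟩ := isConj_iff.1 (S0820.result hK x _ hx hTord)
  suffices h : c * y * c⁻¹ = 1 by
    rwa [conj_eq_one_iff] at h
  have hy' : (c * y * c⁻¹) ^ 3 = 1 := by rw [conj_pow, hy, mul_one, mul_inv_cancel]
  have hcomm : Commute (c * x * c⁻¹) (c * y * c⁻¹) := (Commute.conj_iff c).2 hxy
  rw [hc] at hcomm
  generalize c * y * c⁻¹ = w at hy' hcomm ⊢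
  obtain ⟨h, rfl⟩ := QuotientGroup.mk_surjective w
  set z := (T * h)⁻¹ * (h * T) with hz
  have hzc : z ∈ Subgroup.center (Matrix.SpecialLinearGroup (Fin 3) K) := by
    rw [hz, ← QuotientGroup.eq, QuotientGroup.mk_mul, QuotientGroup.mk_mul]
    exact hcomm.eq
  have hht : h * T = T * h * z := by rw [hz, mul_inv_cancel_left]
  have hz2 : z * z = 1 := by
    have hzT : z * T = T * z := (Subgroup.mem_center_iff.1 hzc T).symm
    have e : h = h * (z * z) :=
      calc h = h * (T * T) := by rw [hTT, mul_one]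
        _ = h * T * T := (mul_assoc h T T).symm
        _ = T * h * (z * T) := by rw [hht]; simp only [mul_assoc]
        _ = T * (h * T) * z := by rw [hzT]; simp only [mul_assoc]
        _ = T * (T * h * z) * z := by rw [hht]
        _ = T * T * (h * (z * z)) := by simp only [mul_assoc]
        _ = h * (z * z) := by rw [hTT, one_mul]
    exact mul_left_cancel (e.symm.trans (mul_one h).symm)
  obtain ⟨r, hr3, hr⟩ := Matrix.SpecialLinearGroup.mem_center_iff.1 hzc
  rw [Fintype.card_fin] at hr3
  have hr1 : r = 1 := by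
    have e := congrArg (fun m : Matrix.SpecialLinearGroup (Fin 3) K => (m : Matrix (Fin 3) (Fin 3) K) 0 0) hz2
    simp only [Matrix.SpecialLinearGroup.coe_mul, ← hr, ← map_mul, Matrix.SpecialLinearGroup.coe_one] at e
    simp at e
    linear_combination hr3 - r * e
  have hht' : h * T = T * h := by
    rw [hht, mul_eq_left]
    apply Subtype.ext
    rw [← hr, hr1, map_one]
    rfl
  set M := (h : Matrix (Fin 3) (Fin 3) K) with hM
  have key : M * !![1, 0, 1; 0, 1, 0; 0, 0, 1] = !![1, 0, 1; 0, 1, 0; 0, 0, 1] * M := by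
    rw [← hTv, hM, ← Matrix.SpecialLinearGroup.coe_mul, hht', Matrix.SpecialLinearGroup.coe_mul]
  have hdet : M.det = 1 := h.2
  have e := fun i j => congrFun (congrFun key i) j
  have e10 := e 1 2
  have e20 := e 0 0
  have e21 := e 0 1
  have e00 := e 0 2
  simp [Matrix.mul_apply, Fin.sum_univ_three] at e10 e20 e21 e00
  obtain ⟨a, b, p, q, s, hMe⟩ : ∃ a b p q s, M = !![a, p, q; 0, b, s; 0, 0, a] :=
    ⟨M 0 0, M 1 1, M 0 1, M 0 2, M 1 2, by
      ext i j; fin_cases i <;> fin_cases j <;> simp <;> grind⟩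
  rw [hMe, Matrix.det_fin_three] at hdet
  simp at hdet
  have ha : a ≠ 0 := fun h0 => by rw [h0] at hdet; simp at hdet
  have ha3 : a ^ 3 = 1 := by simpa [hK] using FiniteField.pow_card_sub_one_eq_one a ha
  have hb : b = a := by linear_combination a * hdet - b * ha3
  subst hb
  have h4 : M ^ 4 = Matrix.scalar (Fin 3) b := by
    rw [hMe, show (4 : ℕ) = 2 * 2 from rfl, pow_mul, sq, sq, Matrix.mul_fin_three, Matrix.mul_fin_three]
    ext i j
    fin_cases i <;> fin_cases j <;> simp <;> grind
  have h4c : h ^ 4 ∈ Subgroup.center (Matrix.SpecialLinearGroup (Fin 3) K) := by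
    refine Matrix.SpecialLinearGroup.mem_center_iff.2 ⟨b, by rw [Fintype.card_fin]; exact ha3, ?_⟩
    rw [Matrix.SpecialLinearGroup.coe_pow]
    exact h4.symm
  have := (QuotientGroup.eq_one_iff _).2 h4c
  rw [QuotientGroup.mk_pow, pow_succ, hy', one_mul] at this
  exact this

/-- Let F be a field with 2 elements and K a field with 4 elements. PSL_4(F) and PSL_3(K) have the same order (20160) but are not isomorphic. -/
theorem result {F K : Type*} [Field F] [Fintype F] [Field K] [Fintype K] (hF : Fintype.card F = 2) (hK : Fintype.card K = 4) : Nat.card (Matrix.ProjectiveSpecialLinearGroup (Fin 4) F) = Nat.card (Matrix.ProjectiveSpecialLinearGroup (Fin 3) K) ∧ ¬ Nonempty (Matrix.ProjectiveSpecialLinearGroup (Fin 4) F ≃* Matrix.ProjectiveSpecialLinearGroup (Fin 3) K) := by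
  constructor
  · have h1 := S0243.result (F := F) hF 4 (by norm_num)
    have h2 := S0243.result (F := K) hK 3 (by norm_num)
    simp only [Fin.prod_univ_four, Fin.prod_univ_three] at h1 h2
    norm_num at h1 h2
    omega
  · rintro ⟨e⟩
    obtain ⟨e'⟩ := S0256.result hF
    let f := (e'.symm.trans e)
    obtain ⟨u, hu6, hu2, hu3⟩ : ∃ u : alternatingGroup (Fin 8), u ^ 6 = 1 ∧ u ^ 2 ≠ 1 ∧ u ^ 3 ≠ 1 :=
      ⟨⟨Equiv.swap 0 1 * Equiv.swap 1 2 * Equiv.swap 3 4 * Equiv.swap 5 6,
        by rw [Equiv.Perm.mem_alternatingGroup]; decide +kernel⟩,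
        by decide +kernel, by decide +kernel, by decide +kernel⟩
    have hx : orderOf (f u ^ 3) = 2 := by
      haveI : Fact (Nat.Prime 2) := ⟨Nat.prime_two⟩
      refine orderOf_eq_prime (by rw [← pow_mul, ← map_pow, hu6, map_one]) fun h => hu3 ?_
      exact f.injective (by rw [map_pow, h, map_one])
    refine hu2 (f.injective ?_)
    rw [map_pow, map_one]
    exact eq_one_of_commute_involution hK hx (by rw [← pow_mul, ← map_pow, hu6, map_one])
      ((Commute.refl (f u)).pow_pow 3 2)

end Cfsg.Agent.S2550
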