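import Cfsg.Statements.S2551
import Cfsg.Agent.Lib.A8Sub.Seventh

set_option autoImplicit false
open Cfsg

namespace Cfsg.Agent.S2551

/-- Let F be the field with 2 elements. GL_4(F) (≅ A_8) has a subgroup isomorphic to the alternating group A_7, and every such subgroup acts 2-transitively on the 15 non-zero vectors of F⁴: any ordered pair of distinct non-zero vectors is carried to any other by some element of the subgroup. -/
theorem result {F : Type*} [Field F] [Fintype F] (hF : Fintype.card F = 2) : (∃ H : Subgroup (Matrix.GeneralLinearGroup (Fin 4) F), Nonempty (H ≃* alternatingGroup (Fin 7))) ∧ ∀ H : Subgroup (Matrix.GeneralLinearGroup (Fin 4) F), Nonempty (H ≃* alternatingGroup (Fin 7)) → ∀ v w v' w' : Fin 4 → F, v ≠ 0 → w ≠ 0 → v ≠ w → v' ≠ 0 → w' ≠ 0 → v' ≠ w' → ∃ g ∈ H, (g : Matrix (Fin 4) (Fin 4) F).mulVec v = v' ∧ (g : Matrix (Fin 4) (Fin 4) F).mulVec w = w' := by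
  haveI : Fact (Nat.Prime 2) := ⟨Nat.prime_two⟩
  haveI : CharP F 2 := charP_of_card_eq_prime (by rw [hF])
  let e : ZMod 2 ≃+* F := ZMod.ringEquiv F (by rw [hF])
  let E : GL (Fin 4) (ZMod 2) ≃* GL (Fin 4) F := Units.mapEquiv e.mapMatrix.toMulEquiv
  have hA7 : IsSimpleGroup (alternatingGroup (Fin 7)) := alternatingGroup.isSimpleGroup (by simp)
  have hA7c : Nat.card (alternatingGroup (Fin 7)) = 2520 := by
    rw [nat_card_alternatingGroup, Nat.card_fin]; rfl
  refine ⟨?_, ?_⟩
  · obtain ⟨f, hf⟩ := A8Sub.exists_seven_in_eight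
    obtain ⟨e8⟩ := A8Sub.exists_GL_four_equiv
    let j := (E.toMonoidHom.comp e8.symm.toMonoidHom).comp f
    have hj : Function.Injective j := (E.injective.comp e8.symm.injective).comp hf
    exact ⟨j.range, ⟨(MonoidHom.ofInjective hj).symm⟩⟩
  · rintro H ⟨i⟩ v w v' w' hv hw hvw hv' hw' hvw'
    haveI := hA7
    haveI : IsSimpleGroup H := MulEquiv.isSimpleGroup i
    have hHc : Nat.card H = 2520 := (Nat.card_congr i.toEquiv).trans hA7c
    let ρ : H →* GL (Fin 4) (ZMod 2) := E.symm.toMonoidHom.comp H.subtype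
    have hρ : Function.Injective ρ := E.symm.injective.comp H.subtype_injective
    let c : (Fin 4 → F) → (Fin 4 → ZMod 2) := fun x => e.symm ∘ x
    have hc : Function.Injective c := e.symm.injective.comp_left
    have hc0 : c 0 = 0 := funext fun _ => map_zero e.symm
    have hne : ∀ x, x ≠ 0 → c x ≠ 0 := fun x hx h => hx (hc (h.trans hc0.symm))
    obtain ⟨g, hg1, hg2⟩ := A8Sub.two_transitive_2520 hHc ρ hρ (c v) (c w) (c v') (c w')
      (hne v hv) (hne w hw) (hc.ne hvw) (hne v' hv') (hne w' hw') (hc.ne hvw')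
    refine ⟨g, g.2, ?_, ?_⟩
    · refine hc (Eq.trans ?_ hg1)
      funext k
      exact RingHom.map_mulVec e.symm.toRingHom _ v k
    · refine hc (Eq.trans ?_ hg2)
      funext k
      exact RingHom.map_mulVec e.symm.toRingHom _ w k

end Cfsg.Agent.S2551
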