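import Cfsg.Statements.S2553
import Cfsg.Agent.Lib.A8Sub.Seven
import Cfsg.Agent.Lib.A8Sub.Five

set_option autoImplicit false
open Cfsg

namespace Cfsg.Agent.S2553

/-- Let H be a nontrivial subgroup of GL(4,2) (a group isomorphic to the alternating group of degree 8) whose largest normal 2-subgroup and largest normal subgroup of odd order are both trivial. Then H is isomorphic to an alternating group of degree n for some 5 ≤ n ≤ 8, to the symmetric group of degree 5 or 6, or to GL(3,2). -/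
theorem result (H : Subgroup (GL (Fin 4) (ZMod 2))) (hH : H ≠ ⊥) (hO : Cfsg.pPrimeCore 2 ↥H = ⊥) (hO2 : Cfsg.pCore 2 ↥H = ⊥) :
    (∃ n : ℕ, 5 ≤ n ∧ n ≤ 8 ∧ Nonempty (↥H ≃* alternatingGroup (Fin n))) ∨
    Nonempty (↥H ≃* Equiv.Perm (Fin 5)) ∨ Nonempty (↥H ≃* Equiv.Perm (Fin 6)) ∨ Nonempty (↥H ≃* GL (Fin 3) (ZMod 2)) := by
  haveI : Nontrivial H := H.bot_or_nontrivial.resolve_left hH
  have hg := A8Sub.good_of_cores (G := H) hO hO2
  obtain ⟨e⟩ := A8Sub.exists_GL_four_equiv
  set f : H →* alternatingGroup (Fin 8) := e.toMonoidHom.comp H.subtype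
  have hf : Function.Injective f := e.injective.comp H.subtype_injective
  by_cases h7 : 7 ∣ Nat.card H
  · rcases A8Sub.seven_case hf hg H.subtype H.subtype_injective h7 with h | h | h
    · exact Or.inl ⟨8, by norm_num, le_rfl, h⟩
    · exact Or.inl ⟨7, by norm_num, by norm_num, h⟩
    · exact Or.inr (Or.inr (Or.inr h))
  · have h5 : 5 ∣ Nat.card H := by
      by_contra h5
      refine A8Sub.not_isSolvable_of_good hg ?_
      have hd := A8Sub.card_dvd f hf
      have hcop : Nat.Coprime (Nat.card H) 35 :=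
        Nat.Coprime.mul_right ((Nat.Prime.coprime_iff_not_dvd (by norm_num)).2 h5).symm
          ((Nat.Prime.coprime_iff_not_dvd (by norm_num)).2 h7).symm
      have h576 : Nat.card H ∣ 2 ^ 6 * 3 ^ 2 := hcop.dvd_of_dvd_mul_right (by norm_num; exact hd)
      obtain ⟨a, b, ha, hb, hab⟩ := Nat.dvd_mul.1 h576
      obtain ⟨i, -, rfl⟩ := (Nat.dvd_prime_pow Nat.prime_two).1 ha
      obtain ⟨j, -, rfl⟩ := (Nat.dvd_prime_pow Nat.prime_three).1 hb
      exact CharInt.isSolvable_of_card_eq Nat.prime_two Nat.prime_three hab.symm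
    rcases A8Sub.five_case hg f hf h5 h7 with h | h | h | h
    · exact Or.inl ⟨5, le_rfl, by norm_num, h⟩
    · exact Or.inr (Or.inl h)
    · exact Or.inl ⟨6, by norm_num, by norm_num, h⟩
    · exact Or.inr (Or.inr (Or.inl h))

end Cfsg.Agent.S2553
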