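import Cfsg.Statements.S2556
import Cfsg.Agent.Lib.SuzukiTwo.AutTypeA
import Cfsg.Agent.Lib.Sz.Lie
-- import your own Cfsg.Agent.* helpers here

set_option autoImplicit false
open Cfsg

namespace Cfsg.Agent.S2556

/-- Let S be a Sylow 2-subgroup of the Suzuki group Sz(q), q = 2ⁿ with n = 2m + 1 ≥ 3 (realised as 4 × 4 matrices over the field with q elements). Then the largest normal 2-subgroup of the automorphism group of S is elementary abelian of order 2^(n²), and the automorphism group of S has order 2^(n²) · n · (q − 1). -/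
theorem result {S : Type*} [Group S] [Finite S] (m : ℕ) (hm : 1 ≤ m)
    {F : Type*} [Field F] [Fintype F] (hF : Fintype.card F = 2 ^ (2 * m + 1))
    (P : Sylow 2 ↥(Cfsg.Lie.Sz F (2 ^ (m + 1)))) (hS : Nonempty (S ≃* ↥(P : Subgroup ↥(Cfsg.Lie.Sz F (2 ^ (m + 1)))))) :
    Cfsg.IsElementaryAbelian 2 (Cfsg.pCore 2 (MulAut S)) ∧ Nat.card ↥(Cfsg.pCore 2 (MulAut S)) = 2 ^ ((2 * m + 1) ^ 2) ∧
      Nat.card (MulAut S) = 2 ^ ((2 * m + 1) ^ 2) * ((2 * m + 1) * (2 ^ (2 * m + 1) - 1)) := by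
  obtain ⟨f⟩ := hS
  have : Fact (Nat.Prime 2) := ⟨Nat.prime_two⟩
  let E := Cfsg.Agent.SZ.szEquiv hm hF
  let P' : Sylow 2 (Cfsg.Sz F m) :=
    P.comapOfInjective E.toMonoidHom E.injective (by simp)
  have e1 : ↥(P' : Subgroup (Cfsg.Sz F m)) ≃*
      ↥(P : Subgroup ↥(Cfsg.Lie.Sz F (2 ^ (m + 1)))) :=
    { toFun := fun x => ⟨E x, x.2⟩
      invFun := fun y => ⟨E.symm y, show E (E.symm y) ∈ (P : Subgroup _) by
        rw [E.apply_symm_apply]; exact y.2⟩
      left_inv := fun x => Subtype.ext (E.symm_apply_apply x)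
      right_inv := fun y => Subtype.ext (E.apply_symm_apply y)
      map_mul' := fun x y => Subtype.ext (map_mul E (x : Cfsg.Sz F m) y) }
  obtain ⟨g⟩ := Cfsg.Agent.SZ.sylowEquiv hm hF P'
  let ι : ↥(Cfsg.Agent.SZ.uGrp hF) ≃* S := g.trans (e1.trans f.symm)
  refine Cfsg.Agent.SuzukiTwo.AutA.aut_structure ((Cfsg.Agent.SZ.uParam hF).trans ι.toEquiv)
    (fun p q => ?_) hm hF
  simp only [Equiv.trans_apply, MulEquiv.toEquiv_eq_coe, EquivLike.coe_coe]
  rw [← map_mul]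
  exact congrArg ι (Subtype.ext (Subtype.ext (Cfsg.Agent.SZ.T_mul hF _ _ _ _)))

end Cfsg.Agent.S2556
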