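import Cfsg.Statements.S2558
import Cfsg.Agent.Lib.GL.OrthCount
import Cfsg.Agent.Lib.GL.OrthGroup

set_option autoImplicit false
open Cfsg

namespace Cfsg.Agent.S2558

open Cfsg.Agent in
theorem bounds {F : Type*} [Field F] [Fintype F] (hodd : Odd (Fintype.card F)) {ι : Type} [Fintype ι] [DecidableEq ι]
    (Q : QuadraticForm F (ι → F)) (f : (ι → F) → F) (hf : ⇑Q = f)
    (hd : (QForm.gram ⇑Q ⇑(Pi.basisFun F ι)).det ≠ 0) {n : ℕ} (hn : 2 ≤ n) (hc : Fintype.card ι = 2 * n) :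
    Fintype.card F ^ n ≤ 2 * Nat.card (ConjClasses ↥(Cfsg.isometryGroup F f)) ∧
      2 * Nat.card (ConjClasses ↥(Cfsg.isometryGroup F f)) ≤ 19 * Fintype.card F ^ n := by
  classical
  have h2 : (2 : F) ≠ 0 := QForm.two_ne_zero_of_odd rfl hodd
  obtain ⟨p, hp⟩ := CharP.exists F
  haveI := hp
  obtain ⟨k, hpp, -⟩ := FiniteField.card F p
  haveI := Fact.mk hpp
  have hp2 : p ≠ 2 := by
    rintro rfl
    exact h2 (by exact_mod_cast CharP.cast_eq_zero F 2)
  have hq : 3 ≤ Fintype.card F := by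
    have := Fintype.one_lt_card (α := F)
    obtain ⟨j, hj⟩ := hodd
    omega
  rw [GL.OrthGroup.isometryGroup_eq Q h2 f hf]
  refine ⟨GL.OrthGroup.le_two_mul_classes h2 (GL.OrthGroup.gram_transpose Q) hd hn hc, ?_⟩
  have := GL.OrthCount.class_le_even h2 hq p hp2 (GL.OrthGroup.gram_transpose Q) hd hc
  omega

/-- The number of conjugacy classes of the full orthogonal groups O⁺(2n,q) and O⁻(2n,q), q odd, 2n ≥ 4: for F a finite field of odd order q and n ≥ 2, the number k of conjugacy classes of the isometry group of the hyperbolic quadratic form Σ xᵢyᵢ on F^{2n}, and likewise of the elliptic form Σ xᵢyᵢ + (z₁² + a z₁z₂ + b z₂²) with anisotropic binary part, satisfies q^n/2 ≤ k ≤ 9.5·q^n. -/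
theorem result {F : Type*} [Field F] [Fintype F] (hodd : Odd (Fintype.card F)) (n : ℕ) (hn : 2 ≤ n) (a b : F) (hab : ∀ z₁ z₂ : F, z₁ ^ 2 + a * z₁ * z₂ + b * z₂ ^ 2 = 0 → z₁ = 0 ∧ z₂ = 0) :
    (Fintype.card F ^ n ≤ 2 * Nat.card (ConjClasses ↥(Cfsg.isometryGroup F (Cfsg.quadFormPlus n F))) ∧
      2 * Nat.card (ConjClasses ↥(Cfsg.isometryGroup F (Cfsg.quadFormPlus n F))) ≤ 19 * Fintype.card F ^ n) ∧
    (Fintype.card F ^ n ≤ 2 * Nat.card (ConjClasses ↥(Cfsg.isometryGroup F (Cfsg.quadFormMinus (n - 1) F a b))) ∧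
      2 * Nat.card (ConjClasses ↥(Cfsg.isometryGroup F (Cfsg.quadFormMinus (n - 1) F a b))) ≤ 19 * Fintype.card F ^ n) := by
  have h2 : (2 : F) ≠ 0 := Cfsg.Agent.QForm.two_ne_zero_of_odd rfl hodd
  refine ⟨bounds hodd (Cfsg.Agent.QForm.plusForm F n) _ (Cfsg.Agent.QForm.coe_plusForm F n) ?_ hn (by simp [two_mul]),
    bounds hodd (Cfsg.Agent.QForm.minusForm F (n - 1) a b) _ (Cfsg.Agent.QForm.coe_minusForm F (n - 1) a b) ?_ hn
      (by simp only [Fintype.card_sum, Fintype.card_fin]; omega)⟩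
  · rw [Cfsg.Agent.QForm.det_gram_plus]
    exact pow_ne_zero _ (neg_ne_zero.2 one_ne_zero)
  · rw [Cfsg.Agent.QForm.det_gram_minus]
    exact mul_ne_zero (pow_ne_zero _ (neg_ne_zero.2 one_ne_zero))
      fun h => Cfsg.Agent.QForm.not_isSquare_disc h2 hab (h ▸ IsSquare.zero)

end Cfsg.Agent.S2558
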