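import Cfsg.Statements.S2560
import Cfsg.Agent.Lib.GL.OrthOddCount
import Cfsg.Agent.Lib.GL.OrthOddLower
import Cfsg.Agent.Lib.GL.OrthOuter
import Cfsg.Agent.Lib.Comm.IndexTwoClasses
import Cfsg.Agent.Lib.Forms.OmegaOrder
import Cfsg.Agent.Lib.QForm.Gram

set_option autoImplicit false
open scoped Matrix
open Cfsg

namespace Cfsg.Agent.S2560

open Cfsg.Agent Cfsg.Agent.GL.OrthData Cfsg.Agent.GL.OrthClassBound Cfsg.Agent.GL.OrthCount Cfsg.Agent.GL.OrthOddCount in
theorem bounds {F : Type*} [Field F] [Fintype F] (hodd : Odd (Fintype.card F)) {ι : Type} [Fintype ι] [DecidableEq ι]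
    (Q : QuadraticForm F (ι → F)) (hQ : (QuadraticMap.polarBilin Q).Nondegenerate) (f : (ι → F) → F) (hf : ⇑Q = f)
    {n : ℕ} (hn : 2 ≤ n) (hc : Fintype.card ι = 2 * n + 1) :
    Fintype.card F ^ n ≤ 2 * Nat.card (ConjClasses ↥(Cfsg.Omega F f)) ∧
      10 * Nat.card (ConjClasses ↥(Cfsg.Omega F f)) ≤ 73 * Fintype.card F ^ n := by
  classical
  subst hf
  have h2 : (2 : F) ≠ 0 := QForm.two_ne_zero_of_odd rfl hodd
  obtain ⟨p, hp⟩ := CharP.exists F
  haveI := hp
  obtain ⟨k, hpp, hpk⟩ := FiniteField.card F p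
  haveI := Fact.mk hpp
  have hp2 : p ≠ 2 := by
    rintro rfl
    exact h2 (by exact_mod_cast CharP.cast_eq_zero F 2)
  set S := QForm.gram ⇑Q ⇑(Pi.basisFun F ι) with hS
  have hSd : S.det ≠ 0 := QForm.det_gram_ne_zero hQ _
  have hSt : Sᵀ = S := GL.OrthGroup.gram_transpose Q
  have hO : isometryGroup F ⇑Q = orthMat S := GL.OrthGroup.isometryGroup_eq Q h2 _ rfl
  let e : ↥(isometryGroup F ⇑Q) ≃* ↥(orthMat S) := MulEquiv.subgroupCongr hO
  have hmap : Function.Bijective (ConjClasses.map (e : ↥(isometryGroup F ⇑Q) →* ↥(orthMat S))) := by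
    constructor
    · intro x y hxy
      obtain ⟨x, rfl⟩ := ConjClasses.exists_rep x
      obtain ⟨y, rfl⟩ := ConjClasses.exists_rep y
      have := MonoidHom.map_isConj (e.symm : ↥(orthMat S) →* ↥(isometryGroup F ⇑Q))
        (ConjClasses.mk_eq_mk_iff_isConj.1 hxy)
      exact ConjClasses.mk_eq_mk_iff_isConj.2 (by simpa using this)
    · intro y
      obtain ⟨y, rfl⟩ := ConjClasses.exists_rep y
      exact ⟨ConjClasses.mk (e.symm y), congrArg ConjClasses.mk (e.apply_symm_apply y)⟩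
  have hkO : Nat.card (ConjClasses ↥(isometryGroup F ⇑Q)) = Nat.card (ConjClasses (orthMat S)) :=
    Nat.card_eq_of_bijective _ hmap
  have hN : Odd (Fintype.card ι) := ⟨n, hc⟩
  let zu : GL ι F := -1
  have hzu : zu ∈ isometryGroup F ⇑Q := by
    rw [hO]
    show (-1 : Matrix ι ι F)ᵀ * S * (-1) = S
    simp
  let z : ↥(isometryGroup F ⇑Q) := ⟨zu, hzu⟩
  have hz : z ∈ Subgroup.center ↥(isometryGroup F ⇑Q) :=
    Subgroup.mem_center_iff.2 fun g => Subtype.ext (by simp [z, zu])
  have hz2 : z * z = 1 := Subtype.ext (by simp [z, zu])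
  let det' : ↥(isometryGroup F ⇑Q) →* Fˣ := Matrix.GeneralLinearGroup.det.comp (isometryGroup F ⇑Q).subtype
  have hzdet : ((det' z : Fˣ) : F) = -1 := by
    show (-1 : Matrix ι ι F).det = -1
    rw [Matrix.det_neg, Matrix.det_one, hN.neg_one_pow, mul_one]
  have h11 : (-1 : F) ≠ 1 := fun h => h2 (by linear_combination -h)
  have hzΩ : z ∉ Omega F ⇑Q := fun h => h11 (by
    rw [← hzdet, QForm.omega_le_ker Q det' h, Units.val_one])
  set H := Comm.IndexTwo.adjoin (Omega F ⇑Q) z hz hz2 with hH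
  have hidx : H.index = 2 := by
    have h4 : (Omega F ⇑Q).index = 4 := Forms.omega_index_odd Q h2 hQ (by omega)
    have e1 := H.card_mul_index
    have e2 := (Omega F ⇑Q).card_mul_index
    rw [hH, Comm.IndexTwo.card_adjoin _ _ hz hz2 hzΩ] at e1
    rw [h4] at e2
    rw [← hH] at e1
    have hpos : 0 < Nat.card (Omega F ⇑Q) := Nat.card_pos
    refine Nat.eq_of_mul_eq_mul_left hpos ?_
    linarith
  have hk := Comm.IndexTwo.two_mul_card_classes H hidx
  rw [Comm.IndexTwo.card_classes_adjoin _ _ hz hz2 hzΩ, hkO] at hk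
  set s := Nat.card {C // Comm.IndexTwo.SplitClass H C} with hs
  have hlow := GL.OrthOddLower.two_mul_pow_le_classes h2 hSt hSd (by omega) hc
  haveI hfinW := wd_finite (GoodO (F := F)) finite_goodO (Fintype.card ι) (Fintype.card ι)
  haveI := wd_finite (Good0 (F := F)) finite_good0 (Fintype.card ι) (Fintype.card ι)
  have hW := two_mul_card_classes_le p hp2 hSt hSd
  rw [card_good0_odd hN, add_zero] at hW
  refine ⟨by omega, ?_⟩
  have hsle : s ≤ Nat.card (ConjClasses (orthMat S)) := hkO ▸ Finite.card_subtype_le _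
  by_cases hq : Fintype.card F = 3
  · haveI := wd_finite (GoodT (F := F)) finite_goodT (Fintype.card ι) (Fintype.card ι)
    let T : ConjClasses (orthMat S) → Prop := fun C => Comm.IndexTwo.SplitClass H
      (ConjClasses.map (e.symm : ↥(orthMat S) →* ↥(isometryGroup F ⇑Q)) C)
    have hsub := two_mul_card_subclasses_le p hp2 h2 hSt hSd T Thin thin_flipWD (by
      intro g hg D e'
      refine ⟨D.good h2 (e' : ℕ), fun he => ?_⟩
      show (D.poly e').rootMultiplicity 1 ≤ 1 ∧ (D.poly e').rootMultiplicity (-1) ≤ 1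
      rw [(D.rootMultiplicity h2 e').1, (D.rootMultiplicity h2 e').2]
      have hodd' : Odd ((e' : ℕ) + 1) := by
        rcases he with h | h <;> rw [h] <;> decide
      by_contra hrep
      rw [not_and_or, not_le, not_le] at hrep
      obtain ⟨c, hcg, hcd, hcs⟩ := GL.OrthOuter.exists_outer p hp2 h2 hN D hodd' (hrep.imp id id)
      have hcomm : Commute c (e.symm g) := Subtype.ext (Units.ext hcg)
      rcases (hg (e.symm g) rfl).2 c hcomm with h | h
      · rw [QForm.omega_le_ker Q (QForm.sphereSign Q) h] at hcs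
        simp at hcs
      · have hd1 : ((det' (z * c) : Fˣ) : F) = 1 := by rw [QForm.omega_le_ker Q det' h, Units.val_one]
        rw [map_mul, Units.val_mul, hzdet, show ((det' c : Fˣ) : F) = 1 from hcd, mul_one] at hd1
        exact h11 hd1)
    rw [card_good0_odd hN, add_zero] at hsub
    have hsT : s ≤ Nat.card {C // T C} := by
      have hinv : ∀ C : ConjClasses ↥(isometryGroup F ⇑Q), ConjClasses.map (e.symm : ↥(orthMat S) →* _)
          (ConjClasses.map (e : ↥(isometryGroup F ⇑Q) →* ↥(orthMat S)) C) = C := fun C => by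
        obtain ⟨x, rfl⟩ := ConjClasses.exists_rep C
        exact congrArg ConjClasses.mk (e.symm_apply_apply x)
      refine Nat.card_le_card_of_injective (fun C => (⟨_, (hinv C.1).symm ▸ C.2⟩ : {C // T C})) fun x y h => ?_
      exact Subtype.ext (hmap.1 (congrArg Subtype.val h))
    have hT := card_thin_le (F := F) (M := Fintype.card ι) (n := Fintype.card ι)
    have hs2 : ((2 * s : ℕ) : ℝ) ≤ 98 / 10 * (Fintype.card F : ℝ) ^ n := by
      have h := card_goodT_three h2 hq hn
      rw [← hc] at h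
      exact le_trans (Nat.cast_le.2 (by omega)) h
    have hO2 : ((2 * Nat.card (ConjClasses (orthMat S)) : ℕ) : ℝ) ≤
        166 / 10 * (173206 / 100000) * (Fintype.card F : ℝ) ^ n := by
      refine (Nat.cast_le.2 hW).trans ((card_goodO_wd h2 (by omega) _).trans ?_)
      obtain ⟨hs0, hs3, -, hs4⟩ := sqrt_three
      rw [hc, hq, show ((3 : ℕ) : ℝ) = 3 by norm_num, pow_succ, pow_mul, hs3]
      have : (0 : ℝ) ≤ 3 ^ n := by positivity
      nlinarith
    have hk' : (2 : ℝ) * (2 * Nat.card (ConjClasses ↥(Omega F ⇑Q))) =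
        Nat.card (ConjClasses (orthMat S)) + 3 * s := by exact_mod_cast hk
    push_cast at hs2 hO2
    have hq0 : (0 : ℝ) ≤ (Fintype.card F : ℝ) ^ n := by positivity
    have : (10 * Nat.card (ConjClasses ↥(Omega F ⇑Q)) : ℝ) ≤ 73 * (Fintype.card F : ℝ) ^ n := by linarith
    exact_mod_cast this
  · have hq5 : 5 ≤ Fintype.card F := by
      obtain ⟨j, hj⟩ := hodd
      have := Fintype.one_lt_card (α := F)
      omega
    have h := card_goodO_five h2 hq5 hn
    rw [← hc] at h
    have hO2 : ((2 * Nat.card (ConjClasses (orthMat S)) : ℕ) : ℝ) ≤ 146 / 10 * (Fintype.card F : ℝ) ^ n :=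
      (Nat.cast_le.2 hW).trans h
    have h4 : ((2 * (2 * Nat.card (ConjClasses ↥(Omega F ⇑Q))) : ℕ) : ℝ) ≤
        ((4 * Nat.card (ConjClasses (orthMat S)) : ℕ) : ℝ) := Nat.cast_le.2 (by omega)
    push_cast at hO2 h4
    have : (10 * Nat.card (ConjClasses ↥(Omega F ⇑Q)) : ℝ) ≤ 73 * (Fintype.card F : ℝ) ^ n := by linarith
    exact_mod_cast this

/-- The number of conjugacy classes of Ω(2n+1,q), q odd, n ≥ 2: for F a finite field of odd order q, the number k of conjugacy classes of the commutator subgroup of the isometry group of the quadratic form x₀² + Σ xᵢyᵢ on F^{2n+1} satisfies q^n/2 ≤ k ≤ 7.3·q^n. -/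
theorem result {F : Type*} [Field F] [Fintype F] (hodd : Odd (Fintype.card F)) (n : ℕ) (hn : 2 ≤ n) :
    Fintype.card F ^ n ≤ 2 * Nat.card (ConjClasses ↥(Cfsg.Omega F (Cfsg.quadFormOdd n F))) ∧
      10 * Nat.card (ConjClasses ↥(Cfsg.Omega F (Cfsg.quadFormOdd n F))) ≤ 73 * Fintype.card F ^ n := by
  exact bounds hodd (Cfsg.Agent.Forms.quadOdd n F)
    (Cfsg.Agent.Forms.quadOdd_nondegenerate (Cfsg.Agent.QForm.two_ne_zero_of_odd rfl hodd) n) _
    (funext Cfsg.Agent.Forms.quadOdd_apply) hn (by simp only [Fintype.card_sum, Fintype.card_unit, Fintype.card_fin]; omega)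

end Cfsg.Agent.S2560
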