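import Cfsg.Statements.S2561
import Cfsg.Agent.Lib.QFormF2.Gauss

set_option autoImplicit false
open Cfsg

namespace Cfsg.Agent.S2561

/-- Fix the non-singular alternating form on the 2m-dimensional space over the field of two elements obtained by polarizing the plus-type form Σ xᵢyᵢ (m ≥ 1). The functions q on the space with q(u + v) = q(u) + q(v) + f(u, v) (the quadratic forms polarizing to f) number 2^(2m); each is equivalent under an invertible linear map either to the plus-type form or to the minus-type form Σ xᵢyᵢ + (z₁² + z₁z₂ + z₂²); and those of plus type number 2^(2m−1) + 2^(m−1), those of minus type 2^(2m−1) − 2^(m−1). -/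
theorem result (m : ℕ) (hm : 1 ≤ m) :
    Nat.card {q : (Fin m ⊕ Fin m → ZMod 2) → ZMod 2 // (∀ u v : (Fin m ⊕ Fin m → ZMod 2), q (u + v) = q u + q v + (Cfsg.quadFormPlus m (ZMod 2) (u + v) - Cfsg.quadFormPlus m (ZMod 2) u - Cfsg.quadFormPlus m (ZMod 2) v))} = 2 ^ (2 * m) ∧
    (∀ q : (Fin m ⊕ Fin m → ZMod 2) → ZMod 2, (∀ u v : (Fin m ⊕ Fin m → ZMod 2), q (u + v) = q u + q v + (Cfsg.quadFormPlus m (ZMod 2) (u + v) - Cfsg.quadFormPlus m (ZMod 2) u - Cfsg.quadFormPlus m (ZMod 2) v)) →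
      (∃ g : (Fin m ⊕ Fin m → ZMod 2) ≃ₗ[ZMod 2] (Fin m ⊕ Fin m → ZMod 2), ∀ v, q v = Cfsg.quadFormPlus m (ZMod 2) (g v)) ∨
      (∃ g : (Fin m ⊕ Fin m → ZMod 2) ≃ₗ[ZMod 2] ((Fin (m - 1) ⊕ Fin (m - 1)) ⊕ Fin 2 → ZMod 2), ∀ v, q v = Cfsg.quadFormMinus (m - 1) (ZMod 2) 1 1 (g v))) ∧
    Nat.card {q : (Fin m ⊕ Fin m → ZMod 2) → ZMod 2 // (∀ u v : (Fin m ⊕ Fin m → ZMod 2), q (u + v) = q u + q v + (Cfsg.quadFormPlus m (ZMod 2) (u + v) - Cfsg.quadFormPlus m (ZMod 2) u - Cfsg.quadFormPlus m (ZMod 2) v)) ∧ ∃ g : (Fin m ⊕ Fin m → ZMod 2) ≃ₗ[ZMod 2] (Fin m ⊕ Fin m → ZMod 2), ∀ v, q v = Cfsg.quadFormPlus m (ZMod 2) (g v)} = 2 ^ (2 * m - 1) + 2 ^ (m - 1) ∧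
    Nat.card {q : (Fin m ⊕ Fin m → ZMod 2) → ZMod 2 // (∀ u v : (Fin m ⊕ Fin m → ZMod 2), q (u + v) = q u + q v + (Cfsg.quadFormPlus m (ZMod 2) (u + v) - Cfsg.quadFormPlus m (ZMod 2) u - Cfsg.quadFormPlus m (ZMod 2) v)) ∧ ∃ g : (Fin m ⊕ Fin m → ZMod 2) ≃ₗ[ZMod 2] ((Fin (m - 1) ⊕ Fin (m - 1)) ⊕ Fin 2 → ZMod 2), ∀ v, q v = Cfsg.quadFormMinus (m - 1) (ZMod 2) 1 1 (g v)} = 2 ^ (2 * m - 1) - 2 ^ (m - 1) := by
  obtain ⟨k, rfl⟩ : ∃ k, m = k + 1 := ⟨m - 1, by omega⟩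
  have hplus : ∀ w, (∃ g : (Fin (k + 1) ⊕ Fin (k + 1) → ZMod 2) ≃ₗ[ZMod 2] (Fin (k + 1) ⊕ Fin (k + 1) → ZMod 2),
      ∀ v, QFormF2.formOf w v = Cfsg.quadFormPlus (k + 1) (ZMod 2) (g v)) ↔
      Cfsg.quadFormPlus (k + 1) (ZMod 2) w = 0 := by
    intro w
    have h : ∀ v, QFormF2.formOf 0 v = Cfsg.quadFormPlus (k + 1) (ZMod 2) v := fun v => by
      simp [QFormF2.formOf, QFormF2.alt_eq]
    simp only [← h]
    rw [QFormF2.exists_equiv_formOf_iff, QFormF2.quadFormPlus_zero]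
    simp [QFormF2.formOf, QFormF2.alt_eq]
  have hminus : ∀ w, (∃ g : (Fin (k + 1) ⊕ Fin (k + 1) → ZMod 2) ≃ₗ[ZMod 2] ((Fin k ⊕ Fin k) ⊕ Fin 2 → ZMod 2),
      ∀ v, QFormF2.formOf w v = Cfsg.quadFormMinus k (ZMod 2) 1 1 (g v)) ↔
      Cfsg.quadFormPlus (k + 1) (ZMod 2) w = 1 := by
    intro w
    refine Iff.trans ?_ ((QFormF2.exists_equiv_formOf_iff w (QFormF2.lastPair k)).trans
      (by rw [QFormF2.quadFormPlus_lastPair]))
    constructor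
    · rintro ⟨g, hg⟩
      refine ⟨g.trans (QFormF2.splitLast k).symm, fun v => ?_⟩
      rw [hg v, ← QFormF2.minus_splitLast]
      simp
    · rintro ⟨g, hg⟩
      exact ⟨g.trans (QFormF2.splitLast k), fun v => by rw [hg v, ← QFormF2.minus_splitLast]; rfl⟩
  have hcard : ∀ P : ((Fin (k + 1) ⊕ Fin (k + 1) → ZMod 2) → ZMod 2) → Prop,
      Nat.card {q : (Fin (k + 1) ⊕ Fin (k + 1) → ZMod 2) → ZMod 2 // QFormF2.Polarizes q ∧ P q} =
        Nat.card {w : Fin (k + 1) ⊕ Fin (k + 1) → ZMod 2 // P (QFormF2.formOf w)} := by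
    intro P
    refine (Nat.card_congr (Equiv.ofBijective
      (fun w => ⟨QFormF2.formOf w.1, QFormF2.polarizes_formOf w.1, w.2⟩) ⟨?_, ?_⟩)).symm
    · intro a b h
      exact Subtype.ext (QFormF2.formOf_injective (congrArg Subtype.val h))
    · rintro ⟨q, hq, hP⟩
      obtain ⟨w, rfl⟩ := QFormF2.exists_formOf hq
      exact ⟨⟨w, hP⟩, rfl⟩
  refine ⟨?_, ?_, ?_, ?_⟩
  · show Nat.card {q // QFormF2.Polarizes q} = _
    have := hcard (fun _ => True)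
    rw [Nat.card_congr (Equiv.subtypeEquivRight (q := QFormF2.Polarizes) fun q => and_iff_left trivial),
      Nat.card_congr (Equiv.subtypeUnivEquiv fun _ => trivial)] at this
    rw [this]
    simp [two_mul]
  · intro q hq
    obtain ⟨w, rfl⟩ := QFormF2.exists_formOf hq
    rcases QFormF2.eq_zero_or_one (Cfsg.quadFormPlus (k + 1) (ZMod 2) w) with h | h
    · exact Or.inl ((hplus w).2 h)
    · exact Or.inr ((hminus w).2 h)
  · refine (hcard _).trans ((Nat.card_congr (Equiv.subtypeEquivRight hplus)).trans ?_)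
    have h := QFormF2.card_plus_zero (k + 1)
    rw [show 2 * (k + 1) = 2 * (k + 1) - 1 + 1 from by omega, pow_succ, pow_succ (2 : ℤ) k] at h
    have : (Nat.card {w : Fin (k + 1) ⊕ Fin (k + 1) → ZMod 2 // Cfsg.quadFormPlus (k + 1) (ZMod 2) w = 0} : ℤ) =
        2 ^ (2 * (k + 1) - 1) + 2 ^ k := by linarith
    show _ = 2 ^ (2 * (k + 1) - 1) + 2 ^ k
    exact_mod_cast this
  · refine (hcard _).trans ((Nat.card_congr (Equiv.subtypeEquivRight hminus)).trans ?_)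
    have h := QFormF2.card_plus_one (k + 1)
    rw [show 2 * (k + 1) = 2 * (k + 1) - 1 + 1 from by omega, pow_succ, pow_succ (2 : ℤ) k] at h
    have h' : (Nat.card {w : Fin (k + 1) ⊕ Fin (k + 1) → ZMod 2 // Cfsg.quadFormPlus (k + 1) (ZMod 2) w = 1} : ℤ) +
        2 ^ k = 2 ^ (2 * (k + 1) - 1) := by linarith
    have h'' : Nat.card {w : Fin (k + 1) ⊕ Fin (k + 1) → ZMod 2 // Cfsg.quadFormPlus (k + 1) (ZMod 2) w = 1} +
        2 ^ k = 2 ^ (2 * (k + 1) - 1) := by exact_mod_cast h'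
    show _ = 2 ^ (2 * (k + 1) - 1) - 2 ^ k
    omega

end Cfsg.Agent.S2561
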