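import Cfsg.Statements.S2562
import Cfsg.Agent.Lib.QFormF2.Gauss

set_option autoImplicit false
open Cfsg

namespace Cfsg.Agent.S2562

/-- Witt indices over the field of two elements, m ≥ 1: for the plus-type form Σ xᵢyᵢ in dimension 2m some m-dimensional subspace is totally singular and no totally singular subspace has larger dimension; for the minus-type form Σ xᵢyᵢ + (z₁² + z₁z₂ + z₂²) in dimension 2m the maximal dimension of a totally singular subspace is m − 1. -/
theorem result (m : ℕ) (hm : 1 ≤ m) :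
    (∃ U : Submodule (ZMod 2) (Fin m ⊕ Fin m → ZMod 2), (∀ u ∈ U, Cfsg.quadFormPlus m (ZMod 2) u = 0) ∧ Module.finrank (ZMod 2) ↥U = m) ∧
    (∀ U : Submodule (ZMod 2) (Fin m ⊕ Fin m → ZMod 2), (∀ u ∈ U, Cfsg.quadFormPlus m (ZMod 2) u = 0) → Module.finrank (ZMod 2) ↥U ≤ m) ∧
    (∃ U : Submodule (ZMod 2) ((Fin (m - 1) ⊕ Fin (m - 1)) ⊕ Fin 2 → ZMod 2), (∀ u ∈ U, Cfsg.quadFormMinus (m - 1) (ZMod 2) 1 1 u = 0) ∧ Module.finrank (ZMod 2) ↥U = m - 1) ∧
    (∀ U : Submodule (ZMod 2) ((Fin (m - 1) ⊕ Fin (m - 1)) ⊕ Fin 2 → ZMod 2), (∀ u ∈ U, Cfsg.quadFormMinus (m - 1) (ZMod 2) 1 1 u = 0) → Module.finrank (ZMod 2) ↥U ≤ m - 1) := by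
  obtain ⟨k, rfl⟩ : ∃ k, m = k + 1 := ⟨m - 1, by omega⟩
  have h0 : ∀ v, QFormF2.formOf (0 : Fin (k + 1) ⊕ Fin (k + 1) → ZMod 2) v =
      Cfsg.quadFormPlus (k + 1) (ZMod 2) v := fun v => by simp [QFormF2.formOf, QFormF2.alt_eq]
  refine ⟨?_, fun U hU => (QFormF2.singular_bounds 0 U fun u hu => (h0 u).trans (hU u hu)).1, ?_, ?_⟩
  · refine ⟨LinearMap.range (LinearMap.funLeft (ZMod 2) (ZMod 2) (Sum.elim (fun i => some i) (fun _ => none) :
      Fin (k + 1) ⊕ Fin (k + 1) → Option (Fin (k + 1))) ∘ₗ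
      LinearMap.pi (fun o : Option (Fin (k + 1)) => o.elim 0 (fun i => LinearMap.proj i))), ?_, ?_⟩
    · rintro _ ⟨x, rfl⟩
      simp [Cfsg.quadFormPlus, LinearMap.funLeft_apply]
    · rw [LinearMap.finrank_range_of_inj]
      · simp
      · intro x y h
        funext i
        simpa [LinearMap.funLeft_apply] using congrFun h (.inl i)
  · refine ⟨LinearMap.range (LinearMap.funLeft (ZMod 2) (ZMod 2) (Sum.elim (Sum.elim (fun i => some i) (fun _ => none))
      (fun _ => none) : (Fin k ⊕ Fin k) ⊕ Fin 2 → Option (Fin k)) ∘ₗ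
      LinearMap.pi (fun o : Option (Fin k) => o.elim 0 (fun i => LinearMap.proj i))), ?_, ?_⟩
    · rintro _ ⟨x, rfl⟩
      show Cfsg.quadFormMinus k (ZMod 2) 1 1 _ = 0
      simp [Cfsg.quadFormMinus, LinearMap.funLeft_apply]
    · show Module.finrank (ZMod 2) _ = k
      rw [LinearMap.finrank_range_of_inj]
      · simp
      · intro x y h
        funext i
        simpa [LinearMap.funLeft_apply] using congrFun h (.inl (.inl i))
  · intro U hU
    change Submodule (ZMod 2) ((Fin k ⊕ Fin k) ⊕ Fin 2 → ZMod 2) at U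
    show Module.finrank (ZMod 2) U ≤ k
    obtain ⟨hle, heq⟩ := QFormF2.singular_bounds (QFormF2.lastPair k)
      (U.map (QFormF2.splitLast k).symm.toLinearMap) (by
        rintro _ ⟨u, hu, rfl⟩
        rw [← QFormF2.minus_splitLast]
        simpa using hU u hu)
    rw [LinearEquiv.finrank_map_eq] at hle heq
    rcases lt_or_eq_of_le hle with h | h
    · omega
    · have := heq h
      rw [QFormF2.quadFormPlus_lastPair] at this
      exact absurd this (by decide)

end Cfsg.Agent.S2562
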