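import Cfsg.Statements.S2563
import Cfsg.Agent.Lib.QFormF2.EvenSubsets

set_option autoImplicit false
open Cfsg

namespace Cfsg.Agent.S2563

theorem exists_embedding_plus (k : ℕ) (hk : 1 ≤ k) (h : Odd k) :
    ∃ φ : Equiv.Perm (Fin (4 * k + 4)) →* ↥(Cfsg.isometryGroup (ZMod 2) (Cfsg.quadFormPlus (2 * k + 1) (ZMod 2))),
      Function.Injective φ := by
  have : Finite (QFormF2.EvenQuot k) := Module.finite_of_finite (ZMod 2)
  have := Fintype.ofFinite (QFormF2.EvenQuot k)
  obtain ⟨e, he⟩ := QFormF2.equiv_plus_of_gauss (QFormF2.qbar k) (QFormF2.bbar k) (QFormF2.qbar_add k)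
    (QFormF2.bbar_nondegenerate k) (QFormF2.finrank_evenQuot k)
    (by rw [QFormF2.gauss_qbar, (Odd.add_odd h odd_one).neg_one_pow, one_mul])
  refine ⟨((Forms.isometryGroupEquiv _).symm.toMonoidHom.comp (Forms.isomCongr e (fun u _ => (he u).symm)).toMonoidHom).comp
    (QFormF2.permIsom k), ?_⟩
  exact ((Forms.isometryGroupEquiv _).symm.injective.comp (Forms.isomCongr e _).injective).comp
    (QFormF2.permIsom_injective k hk)

theorem exists_embedding_minus (k : ℕ) (hk : 1 ≤ k) (h : Even k) :
    ∃ φ : Equiv.Perm (Fin (4 * k + 4)) →* ↥(Cfsg.isometryGroup (ZMod 2) (Cfsg.quadFormMinus (2 * k) (ZMod 2) 1 1)),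
      Function.Injective φ := by
  have : Finite (QFormF2.EvenQuot k) := Module.finite_of_finite (ZMod 2)
  have := Fintype.ofFinite (QFormF2.EvenQuot k)
  obtain ⟨e, he⟩ := QFormF2.equiv_minus_of_gauss (k := 2 * k) (QFormF2.qbar k) (QFormF2.bbar k) (QFormF2.qbar_add k)
    (QFormF2.bbar_nondegenerate k) (QFormF2.finrank_evenQuot k)
    (by rw [QFormF2.gauss_qbar, (Even.add_one h).neg_one_pow, neg_one_mul])
  refine ⟨((Forms.isometryGroupEquiv _).symm.toMonoidHom.comp (Forms.isomCongr e (fun u _ => (he u).symm)).toMonoidHom).comp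
    (QFormF2.permIsom k), ?_⟩
  exact ((Forms.isometryGroupEquiv _).symm.injective.comp (Forms.isomCongr e _).injective).comp
    (QFormF2.permIsom_injective k hk)

/-- For k ≥ 1 the symmetric group of degree 4k + 4 embeds in a full orthogonal group in dimension 4k + 2 over the field of two elements: in the isometry group of the plus-type form Σ xᵢyᵢ when k is odd, and in that of the minus-type form Σ xᵢyᵢ + (z₁² + z₁z₂ + z₂²) when k is even (through its action on even partitions of a (4k+4)-set, with the form 'half the size of a part, modulo 2'). -/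
theorem result (k : ℕ) (hk : 1 ≤ k) :
    (Odd k → ∃ φ : Equiv.Perm (Fin (4 * k + 4)) →* ↥(Cfsg.isometryGroup (ZMod 2) (Cfsg.quadFormPlus (2 * k + 1) (ZMod 2))), Function.Injective φ) ∧
    (Even k → ∃ φ : Equiv.Perm (Fin (4 * k + 4)) →* ↥(Cfsg.isometryGroup (ZMod 2) (Cfsg.quadFormMinus (2 * k) (ZMod 2) 1 1)), Function.Injective φ) := by
  exact ⟨fun h => exists_embedding_plus k hk h, fun h => exists_embedding_minus k hk h⟩

end Cfsg.Agent.S2563
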