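import Cfsg.Statements.S2565
import Cfsg.Agent.S2563
import Cfsg.Agent.Lib.Forms.QuadOrder

set_option autoImplicit false
open Cfsg

namespace Cfsg.Agent.S2565

/-- The commutator subgroup of the full orthogonal group of the plus-type form Σ xᵢyᵢ in dimension 6 over the field of two elements (the group Ω⁺₆(2), of index 2) is isomorphic to the alternating group of degree 8. -/
theorem result :
    (Cfsg.Omega (ZMod 2) (Cfsg.quadFormPlus 3 (ZMod 2))).index = 2 ∧
    Nonempty (↥(Cfsg.Omega (ZMod 2) (Cfsg.quadFormPlus 3 (ZMod 2))) ≃* alternatingGroup (Fin 8)) := by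
  obtain ⟨φ, hφ⟩ := (S2563.result 1 le_rfl).1 odd_one
  have hcard : Nat.card ↥(Cfsg.isometryGroup (ZMod 2) (Cfsg.quadFormPlus (2 * 1 + 1) (ZMod 2))) = 40320 := by
    rw [Forms.card_isometryGroup (Forms.quadPlus 3 (ZMod 2)) Forms.quadPlus_apply, Forms.card_isomQ_quadPlus]
    simp [Finset.prod_range_succ]
  have hbij : Function.Bijective φ := by
    rw [Nat.bijective_iff_injective_and_card]
    refine ⟨hφ, ?_⟩
    rw [hcard, Nat.card_perm, Nat.card_fin]
    rfl
  let e : Equiv.Perm (Fin 8) ≃* ↥(Cfsg.isometryGroup (ZMod 2) (Cfsg.quadFormPlus 3 (ZMod 2))) :=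
    MulEquiv.ofBijective φ hbij
  have hOm : Cfsg.Omega (ZMod 2) (Cfsg.quadFormPlus 3 (ZMod 2)) =
      (alternatingGroup (Fin 8)).map e.toMonoidHom := by
    rw [← alternatingGroup.commutator_perm_eq (α := Fin 8) (by simp), commutator_def, Subgroup.map_commutator,
      Subgroup.map_top_of_surjective e.toMonoidHom e.surjective]
    rfl
  constructor
  · rw [hOm, Subgroup.index_map_of_bijective (f := e.toMonoidHom) e.bijective, alternatingGroup.index_eq_two]
  · exact ⟨(MulEquiv.subgroupCongr hOm).trans (e.subgroupMap (alternatingGroup (Fin 8))).symm⟩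

end Cfsg.Agent.S2565
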