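import Cfsg.Statements.S2567
import Cfsg.Agent.Lib.GL.Basic

set_option autoImplicit false
open Cfsg

namespace Cfsg.Agent.S2567

/-- Lifting elements of prime order from PGL to GL: let F be a finite field with q elements, r a prime not dividing q − 1, and x an element of order r in GL_n(F) modulo its centre (the scalar matrices). Then x has exactly one preimage in GL_n(F) of order r. -/
theorem result {F : Type*} [Field F] [Fintype F] {q n r : ℕ} (hF : Fintype.card F = q) (hr : r.Prime) (hdiv : ¬ r ∣ q - 1) (x : GL (Fin n) F ⧸ Subgroup.center (GL (Fin n) F)) (hx : orderOf x = r) : ∃! g : GL (Fin n) F, (QuotientGroup.mk g : GL (Fin n) F ⧸ Subgroup.center (GL (Fin n) F)) = x ∧ orderOf g = r := by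
  classical
  subst hF
  rcases Nat.eq_zero_or_pos n with rfl | hn
  · exfalso
    have : Subsingleton (GL (Fin 0) F ⧸ Subgroup.center (GL (Fin 0) F)) :=
      Function.Surjective.subsingleton (QuotientGroup.mk'_surjective (Subgroup.center (GL (Fin 0) F)))
    rw [Subsingleton.elim x 1, orderOf_one] at hx
    exact hr.ne_one hx.symm
  have : Nonempty (Fin n) := ⟨⟨0, hn⟩⟩
  have hZ : Nat.card (Subgroup.center (GL (Fin n) F)) = Fintype.card F - 1 := by
    rw [GL.card_center_GL, Nat.card_units, Nat.card_eq_fintype_card]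
  have hcop : (Nat.card (Subgroup.center (GL (Fin n) F))).Coprime r := by
    rw [hZ]; exact ((hr.coprime_iff_not_dvd).2 hdiv).symm
  obtain ⟨g₀, rfl⟩ := QuotientGroup.mk'_surjective (Subgroup.center (GL (Fin n) F)) x
  have hgr : g₀ ^ r ∈ (Subgroup.center (GL (Fin n) F)) := by
    rw [← QuotientGroup.eq_one_iff, QuotientGroup.mk_pow, ← hx]
    exact pow_orderOf_eq_one _
  obtain ⟨w, hw⟩ := (powCoprime hcop).surjective ⟨_, hgr⟩
  have hw' : (w : GL (Fin n) F) ^ r = g₀ ^ r := congrArg Subtype.val hw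
  have hx1 : (QuotientGroup.mk g₀ : GL (Fin n) F ⧸ (Subgroup.center (GL (Fin n) F))) ≠ 1 := fun h => by
    have : orderOf (QuotientGroup.mk' (Subgroup.center (GL (Fin n) F)) g₀) = 1 := by rw [orderOf_eq_one_iff]; exact h
    exact hr.ne_one (hx.symm.trans this)
  have hfact : Fact r.Prime := ⟨hr⟩
  have hmk : (QuotientGroup.mk (g₀ * (w : GL (Fin n) F)⁻¹) : GL (Fin n) F ⧸ (Subgroup.center (GL (Fin n) F))) = QuotientGroup.mk' (Subgroup.center (GL (Fin n) F)) g₀ := by
    rw [QuotientGroup.mk'_apply, QuotientGroup.eq]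
    simp
  refine ⟨g₀ * (w : GL (Fin n) F)⁻¹, ⟨hmk, orderOf_eq_prime ?_ ?_⟩, ?_⟩
  · have hc : Commute g₀ ((w : GL (Fin n) F)⁻¹) := (Subgroup.mem_center_iff.1 ((Subgroup.center (GL (Fin n) F)).inv_mem w.2) g₀)
    rw [hc.mul_pow, inv_pow, hw', mul_inv_cancel]
  · intro h
    exact hx1 (by rw [← QuotientGroup.mk'_apply, ← hmk, h]; rfl)
  · rintro g' ⟨h1, h2⟩
    have hmem : (g₀ * (w : GL (Fin n) F)⁻¹)⁻¹ * g' ∈ (Subgroup.center (GL (Fin n) F)) := (QuotientGroup.eq).1 (hmk.trans h1.symm)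
    generalize hc : (g₀ * (w : GL (Fin n) F)⁻¹)⁻¹ * g' = c at hmem
    have hpow : (⟨c, hmem⟩ : (Subgroup.center (GL (Fin n) F))) ^ r = 1 := by
      refine Subtype.ext ?_
      show c ^ r = 1
      have hcomm : Commute (g₀ * (w : GL (Fin n) F)⁻¹) c := Subgroup.mem_center_iff.1 hmem _
      have hg : g' = g₀ * (w : GL (Fin n) F)⁻¹ * c := by rw [← hc, mul_inv_cancel_left]
      have := pow_orderOf_eq_one g'
      rw [h2, hg, hcomm.mul_pow, (show Commute g₀ ((w : GL (Fin n) F)⁻¹) from Subgroup.mem_center_iff.1 ((Subgroup.center (GL (Fin n) F)).inv_mem w.2) g₀).mul_pow,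
        inv_pow, hw', mul_inv_cancel, one_mul] at this
      exact this
    have : (⟨c, hmem⟩ : (Subgroup.center (GL (Fin n) F))) = 1 := (powCoprime hcop).injective (hpow.trans (one_pow r).symm)
    have hc1 : c = 1 := congrArg Subtype.val this
    rw [hc1, inv_mul_eq_one] at hc
    exact hc.symm

end Cfsg.Agent.S2567
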