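import Cfsg.Statements.S2568
import Cfsg.Agent.Lib.Semisimple.PrimeOrder

set_option autoImplicit false
open Cfsg

namespace Cfsg.Agent.S2568

/-- Number of conjugacy classes of elements of a given prime order r, coprime to the characteristic, in GL_n(q): if i is the multiplicative order of q modulo r and t = (r − 1)/i, the classes correspond to the non-zero t-tuples of natural numbers (a_1, …, a_t) with i(a_1 + ⋯ + a_t) ≤ n (a_j is the multiplicity of the j-th Frobenius orbit of nontrivial r-th roots of unity among the eigenvalues), so there are exactly C(⌊n/i⌋ + t, t) − 1 of them. -/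
theorem result {F : Type*} [Field F] [Fintype F] {p q : ℕ} [Fact p.Prime] [CharP F p] (hF : Fintype.card F = q) (n r i t : ℕ) (hr : r.Prime) (hrp : r ≠ p) (hi : i = orderOf (q : ZMod r)) (ht : t * i = r - 1) : Nat.card {C : ConjClasses (GL (Fin n) F) // ∃ g : GL (Fin n) F, ConjClasses.mk g = C ∧ orderOf g = r} = Nat.choose (n / i + t) t - 1 := by
  classical
  subst hF hi
  have : Fact r.Prime := ⟨hr⟩
  obtain ⟨K, _, _, _, ζ, hK⟩ := Semisimple.exists_rootField (F := F) (r := r) p hrp
  set i := orderOf (Fintype.card F : ZMod r)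
  let ψ := (Matrix.toLinAlgEquiv' : Matrix (Fin n) (Fin n) F ≃ₐ[F] _)
  let φ : GL (Fin n) F →* Module.End F (Fin n → F) :=
    ψ.toAlgHom.toRingHom.toMonoidHom.comp (Units.coeHom (Matrix (Fin n) (Fin n) F))
  have hφ : Function.Injective φ := fun a b h => Units.ext (ψ.injective h)
  have hi0 : 0 < i := by
    show 0 < orderOf (Fintype.card F : ZMod r)
    rw [← hK.deg]
    exact Module.finrank_pos
  have hle : ∀ a : Semisimple.Orb F r → ℕ, i * ∑ c, a c ≤ n ↔ ∑ c, a c ≤ n / i := fun a => by
    rw [Nat.le_div_iff_mul_le hi0, mul_comm]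
  have h1 := hK.card_prime_order_classes φ hφ (fun a => ∑ c, a c ≤ n / i)
    (fun g hg => (hle _).1 ((hK.orbMult_le _ (by rw [← map_pow, hg, map_one])).trans_eq
      (Module.finrank_fin_fun F)))
    (fun g h hg hh hc => by
      have hcop : ∀ x : GL (Fin n) F, x ^ r = 1 → (orderOf x).Coprime p := fun x hx =>
        Nat.Coprime.coprime_dvd_left (orderOf_dvd_of_pow_eq_one hx)
          ((Nat.coprime_primes hr Fact.out).2 hrp)
      refine Semisimple.isConj_gl g h
        (Semisimple.ss_of_coprime p (Units.coeHom (Matrix (Fin n) (Fin n) F)) (hcop g hg))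
        (Semisimple.ss_of_coprime p (Units.coeHom (Matrix (Fin n) (Fin n) F)) (hcop h hh)) ?_
      rw [← Matrix.charpoly_toLin', ← Matrix.charpoly_toLin']
      exact hc)
    (fun a ha _ => by
      obtain ⟨f, hf, hfa, -⟩ := hK.exists_realisation a
      have hn : i * ∑ c, a c ≤ n := (hle a).2 ha
      let e : ((Fin (i * ∑ c, a c) → F) × (Fin (n - i * ∑ c, a c) → F)) ≃ₗ[F] (Fin n → F) :=
        LinearEquiv.ofFinrankEq _ _ (by
          rw [Module.finrank_prod, Module.finrank_fin_fun, Module.finrank_fin_fun, Module.finrank_fin_fun]; omega)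
      let M : Matrix (Fin n) (Fin n) F := ψ.symm (e.conjRingEquiv (f.prodMap 1))
      have hfp : ∀ k, (f.prodMap (1 : Module.End F (Fin (n - i * ∑ c, a c) → F))) ^ k = (f ^ k).prodMap 1 := by
        intro k
        induction k with
        | zero => exact LinearMap.ext fun x => rfl
        | succ k ih =>
          rw [pow_succ, ih, pow_succ f]
          exact LinearMap.ext fun x => rfl
      have hM : M ^ r = 1 := by
        show ψ.symm (e.conjRingEquiv (f.prodMap 1)) ^ r = 1
        rw [← map_pow, ← map_pow, hfp, hf,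
          show LinearMap.prodMap (1 : Module.End F (Fin (i * ∑ c, a c) → F))
            (1 : Module.End F (Fin (n - i * ∑ c, a c) → F)) = 1 from LinearMap.ext fun x => rfl,
          map_one, map_one]
      refine ⟨Units.ofPowEqOne M r hM hr.ne_zero, Units.ext hM, ?_⟩
      show Semisimple.orbMult ζ (ψ M) = a
      rw [AlgEquiv.apply_symm_apply]
      show Semisimple.orbMult ζ (e.conj (f.prodMap 1)) = a
      rw [Semisimple.RootField.orbMult_conj, hK.orbMult_prodMap, hK.orbMult_one, add_zero, hfa])
  have : Finite {a : Semisimple.Orb F r → ℕ // ∑ c, a c ≤ n / i} := Semisimple.finite_sum_le _ _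
  rw [h1, Semisimple.card_nonzero _ _ (by simp), Semisimple.card_sum_le, hK.card_orb ht]

end Cfsg.Agent.S2568
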