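import Cfsg.Statements.S2569
import Cfsg.Agent.Lib.Semisimple.Basic

set_option autoImplicit false
open Cfsg

namespace Cfsg.Agent.S2569

/-- In GL_n over a finite field of characteristic p, the conjugacy class of a semisimple element (an element of order prime to p) under the special linear group is its whole GL-conjugacy class: for every such x and every invertible g there is h of determinant one with h x h⁻¹ = g x g⁻¹. -/
theorem result {F : Type*} [Field F] [Fintype F] {p : ℕ} [Fact p.Prime] [CharP F p] {n : ℕ} (x g : GL (Fin n) F) (hx : (orderOf x).Coprime p) : ∃ h : GL (Fin n) F, (h : Matrix (Fin n) (Fin n) F).det = 1 ∧ h * x * h⁻¹ = g * x * g⁻¹ := by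
  rcases Nat.eq_zero_or_pos n with rfl | hn
  · exact ⟨g, Matrix.det_isEmpty, rfl⟩
  have hd : (g : Matrix (Fin n) (Fin n) F).det ≠ 0 := (Matrix.GeneralLinearGroup.det g).ne_zero
  obtain ⟨C, hC, hdet⟩ := Semisimple.exists_commute_det (K := F) hn (x : Matrix (Fin n) (Fin n) F)
    (Semisimple.ss_of_coprime p (Units.coeHom (Matrix (Fin n) (Fin n) F)) hx) (inv_ne_zero hd)
  refine ⟨g * C, ?_, ?_⟩
  · rw [Units.val_mul, Matrix.det_mul, hdet, mul_inv_cancel₀ hd]
  · have h : C * x = x * C := Units.ext hC.eq
    rw [mul_inv_rev, mul_assoc g C x, h]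
    group

end Cfsg.Agent.S2569
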