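import Cfsg.Statements.S2570
import Cfsg.Agent.S2317

set_option autoImplicit false
open Cfsg

namespace Cfsg.Agent.S2570

open LinRep.JordanType UnipClasses

variable {F : Type*} [Field F] {n : ℕ}

theorem pow_eq_zero_iff_parts {N : Module.End F (Fin n → F)} {μ : Nat.Partition n}
    (h : HasType N μ.parts) (j : ℕ) : N ^ j = 0 ↔ ∀ a ∈ μ.parts, a ≤ j := by
  have hd := h j
  rw [rankDim, Submodule.map_top] at hd
  rw [← LinearMap.range_eq_bot, ← Submodule.finrank_eq_zero, hd, Multiset.sum_eq_zero_iff]
  constructor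
  · intro h0 a ha
    have := h0 _ (Multiset.mem_map_of_mem _ ha)
    omega
  · intro h0 x hx
    obtain ⟨a, ha, rfl⟩ := Multiset.mem_map.1 hx
    have := h0 a ha
    omega

theorem orderOf_eq_iff_nil {p : ℕ} [Fact p.Prime] [CharP F p] (g : GL (Fin n) F) :
    orderOf g = p ↔ S2317.nilPart g ^ p = 0 ∧ S2317.nilPart g ≠ 0 := by
  have hpow : ((g : Matrix (Fin n) (Fin n) F) - 1) ^ p = (g : Matrix (Fin n) (Fin n) F) ^ p - 1 := by
    have h := congrArg (Polynomial.aeval (g : Matrix (Fin n) (Fin n) F))
      (sub_pow_char (p := p) (Polynomial.X : Polynomial F) 1)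
    simpa using h
  rw [S2317.nilPart, ← map_pow, hpow, map_eq_zero_iff _ Matrix.toLinAlgEquiv'.injective,
    ne_eq, map_eq_zero_iff _ Matrix.toLinAlgEquiv'.injective, sub_eq_zero, sub_eq_zero,
    ← Units.val_pow_eq_pow_val, ← Units.val_one, Units.val_inj, Units.val_inj]
  constructor
  · intro h
    refine ⟨h ▸ pow_orderOf_eq_one g, fun h1 => ?_⟩
    rw [h1, orderOf_one] at h
    exact (Fact.out : p.Prime).ne_one h.symm
  · rintro ⟨h1, h2⟩
    exact orderOf_eq_prime h1 h2


/-- Number of conjugacy classes of elements of order p in GL_n over a finite field of characteristic p: they correspond to the Jordan types, that is, to the partitions of n with all parts at most p other than the partition into ones, so there are (number of partitions of n with parts ≤ p) − 1 of them. -/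
theorem result {F : Type*} [Field F] [Fintype F] {p : ℕ} [Fact p.Prime] [CharP F p] (n : ℕ) : Nat.card {C : ConjClasses (GL (Fin n) F) // ∃ g : GL (Fin n) F, ConjClasses.mk g = C ∧ orderOf g = p} = (Finset.univ.filter (fun μ : Nat.Partition n => ∀ a ∈ μ.parts, a ≤ p)).card - 1 := by
  classical
  choose g hnil htype using fun μ : Nat.Partition n => S2317.exists_model (F := F) μ
  have hp : 2 ≤ p := (Fact.out : p.Prime).two_le
  set good : Finset (Nat.Partition n) :=
    Finset.univ.filter (fun μ : Nat.Partition n => ∀ a ∈ μ.parts, a ≤ p)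
  let ones : Nat.Partition n :=
    ⟨Multiset.replicate n 1, fun h => by rw [Multiset.eq_of_mem_replicate h]; exact one_pos,
      by rw [Multiset.sum_replicate, smul_eq_mul, mul_one]⟩
  have hones : ∀ μ : Nat.Partition n, (∀ a ∈ μ.parts, a ≤ 1) ↔ μ = ones := by
    intro μ
    constructor
    · intro h
      have hall : ∀ a ∈ μ.parts, a = 1 := fun a ha => le_antisymm (h a ha) (μ.parts_pos ha)
      refine Nat.Partition.ext ?_
      have hrep := Multiset.eq_replicate_card.2 hall
      have hs := μ.parts_sum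
      rw [hrep, Multiset.sum_replicate, smul_eq_mul, mul_one] at hs
      rw [hrep, hs]
    · rintro rfl a ha
      exact (Multiset.eq_of_mem_replicate ha).le
  have hmem : ones ∈ good := Finset.mem_filter.2 ⟨Finset.mem_univ _,
    fun a ha => by rw [Multiset.eq_of_mem_replicate ha]; omega⟩
  have hord : ∀ μ : Nat.Partition n, orderOf (g μ) = p ↔ μ ∈ good.erase ones := fun μ => by
    rw [orderOf_eq_iff_nil, pow_eq_zero_iff_parts (htype μ), Finset.mem_erase, Finset.mem_filter,
      ne_eq, ← pow_one (S2317.nilPart (g μ)), pow_eq_zero_iff_parts (htype μ), hones]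
    simp only [Finset.mem_univ, true_and, ne_eq]
    exact and_comm
  rw [← Finset.card_erase_of_mem hmem, ← Nat.card_eq_finsetCard]
  refine (Nat.card_eq_of_bijective (fun μ : good.erase ones =>
    (⟨ConjClasses.mk (g μ.1), g μ.1, rfl, (hord μ.1).2 μ.2⟩ :
      {C : ConjClasses (GL (Fin n) F) // ∃ g : GL (Fin n) F, ConjClasses.mk g = C ∧ orderOf g = p}))
    ⟨?_, ?_⟩).symm
  · intro μ ν h
    obtain ⟨L, hL⟩ := (S2317.isConj_iff_similar _ _).1
      (ConjClasses.mk_eq_mk_iff_isConj.1 (congrArg Subtype.val h))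
    refine Subtype.ext (Nat.Partition.ext (Multiset.ext.2 fun e => ?_))
    rcases eq_or_ne e 0 with rfl | he
    · rw [Multiset.count_eq_zero_of_notMem fun h0 => (μ.1.parts_pos h0).false,
        Multiset.count_eq_zero_of_notMem fun h0 => (ν.1.parts_pos h0).false]
    · exact UnipClasses.count_eq_of_hasType (htype μ.1) (htype ν.1) (UnipClasses.rankDim_conj L hL) he
  · rintro ⟨C, u, rfl, hu⟩
    have hnu : IsNilpotent (S2317.nilPart u) :=
      (S2317.isNilpotent_iff p u).1 ⟨1, by rw [hu, pow_one]⟩
    obtain ⟨μ, hμ⟩ := S2317.exists_type hnu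
    have hconj : IsConj (g μ) u := (S2317.isConj_iff_similar _ _).2
      (UnipClasses.similar_of_rankDim (hnil μ) hnu fun j => (htype μ j).trans (hμ j).symm)
    have ho : orderOf (g μ) = p := by
      obtain ⟨c, hc⟩ := isConj_iff.1 hconj
      rw [← hu, ← hc]
      exact (MulEquiv.orderOf_eq (MulAut.conj c) (g μ)).symm
    exact ⟨⟨μ, (hord μ).1 ho⟩, Subtype.ext (ConjClasses.mk_eq_mk_iff_isConj.2 hconj)⟩

end Cfsg.Agent.S2570
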