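import Cfsg.Statements.S2572
import Cfsg.Agent.S2579
import Cfsg.Agent.Lib.GL.Action

set_option autoImplicit false
open Cfsg

namespace Cfsg.Agent.S2572

open Matrix

variable {F : Type*} [Field F] {n : ℕ}

theorem exists_conj_to_std (hn : 2 ≤ n) {a φ : Fin n → F} (ha : a ≠ 0) (hφ : φ ≠ 0)
    (hφa : φ ⬝ᵥ a = 0) :
    ∃ P : GL (Fin n) F, Matrix.vecMulVec a φ * (P : Matrix (Fin n) (Fin n) F) =
      (P : Matrix (Fin n) (Fin n) F) *
        Matrix.vecMulVec (Pi.single ⟨0, by omega⟩ 1) (Pi.single ⟨1, by omega⟩ 1) := by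
  classical
  obtain ⟨j, hj⟩ := Function.ne_iff.1 hφ
  let z : Fin n → F := Pi.single j (φ j)⁻¹
  have hz : φ ⬝ᵥ z = 1 := by rw [dotProduct_single]; exact mul_inv_cancel₀ hj
  let i0 : Fin n := ⟨0, by omega⟩
  let i1 : Fin n := ⟨1, by omega⟩
  have i01 : i0 ≠ i1 := by simp [i0, i1]
  have hli : LinearIndependent F ![a, z] := by
    rw [LinearIndependent.pair_iff]
    intro c d hcd
    have h := congrArg (φ ⬝ᵥ ·) hcd
    simp only [dotProduct_add, dotProduct_smul, hφa, hz, smul_eq_mul, mul_zero, mul_one, zero_add,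
      dotProduct_zero] at h
    subst h
    rw [zero_smul, add_zero] at hcd
    exact ⟨(smul_eq_zero.1 hcd).resolve_right ha, rfl⟩
  have hli' : LinearIndependent F ![(Pi.single i0 1 : Fin n → F), Pi.single i1 1] := by
    rw [LinearIndependent.pair_iff]
    intro c d hcd
    exact ⟨by simpa [i01] using congrFun hcd i0, by simpa [i01.symm] using congrFun hcd i1⟩
  obtain ⟨g, hg⟩ := GL.exists_GL_of_linearIndependent hli' hli
  have hg0 : (g : Matrix (Fin n) (Fin n) F) *ᵥ Pi.single i0 1 = a := hg 0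
  have hg1 : (g : Matrix (Fin n) (Fin n) F) *ᵥ Pi.single i1 1 = z := hg 1
  let e1 : Fin n → F := Pi.single i1 1
  let φ' : Fin n → F := φ ᵥ* (g : Matrix (Fin n) (Fin n) F)
  have h1 : φ' ⬝ᵥ e1 = 1 := by rw [← Matrix.dotProduct_mulVec, hg1, hz]
  have h0 : φ' ⬝ᵥ Pi.single i0 1 = 0 := by rw [← Matrix.dotProduct_mulVec, hg0, hφa]
  have hn1 : (φ' - e1) ⬝ᵥ e1 = 0 := by rw [sub_dotProduct, h1]; simp [e1]
  have hsq : Matrix.vecMulVec e1 (φ' - e1) * Matrix.vecMulVec e1 (φ' - e1) = 0 := by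
    rw [Matrix.vecMulVec_mul_vecMulVec, hn1, zero_smul, Matrix.vecMulVec_zero]
  let h : GL (Fin n) F :=
    ⟨1 - Matrix.vecMulVec e1 (φ' - e1), 1 + Matrix.vecMulVec e1 (φ' - e1),
      by rw [sub_mul, mul_add, mul_add, one_mul, one_mul, mul_one, hsq]; abel,
      by rw [add_mul, mul_sub, mul_sub, one_mul, one_mul, mul_one, hsq]; abel⟩
  refine ⟨g * h, ?_⟩
  rw [Matrix.vecMulVec_mul, Matrix.mul_vecMulVec]
  simp only [Units.val_mul, h, ← Matrix.vecMul_vecMul, ← Matrix.mulVec_mulVec]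
  have hv : φ' ᵥ* (1 - Matrix.vecMulVec e1 (φ' - e1)) = e1 := by
    rw [Matrix.vecMul_sub, Matrix.vecMul_one, Matrix.vecMul_vecMulVec, h1, one_smul, sub_sub_cancel]
  have hw : (1 - Matrix.vecMulVec e1 (φ' - e1)) *ᵥ Pi.single i0 1 = Pi.single i0 1 := by
    rw [Matrix.sub_mulVec, Matrix.one_mulVec, Matrix.vecMulVec_mulVec, sub_dotProduct, h0]
    simp [e1, i01]
  rw [hv, hw, hg0]

/-- `|{(a, φ) : a, φ ≠ 0, φ a = 0}| = (q^n - 1)(q^(n-1) - 1)`. -/
theorem card_pairs [Fintype F] (hn : 1 ≤ n) :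
    Nat.card {x : (Fin n → F) × (Fin n → F) // x.1 ≠ 0 ∧ x.2 ≠ 0 ∧ x.2 ⬝ᵥ x.1 = 0} =
      (Fintype.card F ^ n - 1) * (Fintype.card F ^ (n - 1) - 1) := by
  classical
  set q := Fintype.card F with hq
  have hfib : ∀ a : Fin n → F, a ≠ 0 →
      Nat.card {φ : Fin n → F // φ ≠ 0 ∧ φ ⬝ᵥ a = 0} = q ^ (n - 1) - 1 := by
    intro a ha
    let L : (Fin n → F) →+ F :=
      { toFun := fun φ => φ ⬝ᵥ a
        map_zero' := zero_dotProduct a
        map_add' := fun x y => add_dotProduct x y a }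
    have hsurj : Function.Surjective L := fun c => by
      obtain ⟨j, hj⟩ := Function.ne_iff.1 ha
      refine ⟨Pi.single j (c / a j), ?_⟩
      show Pi.single j (c / a j) ⬝ᵥ a = c
      rw [single_dotProduct]
      exact div_mul_cancel₀ c hj
    have hk : Nat.card L.ker * q = q ^ n := by
      have h := L.ker.card_mul_index
      rw [AddSubgroup.index_ker, AddMonoidHom.range_eq_top.2 hsurj, AddSubgroup.card_top,
        Nat.card_eq_fintype_card (α := F), Nat.card_eq_fintype_card (α := Fin n → F)] at h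
      simpa [hq] using h
    have hk' : Nat.card L.ker = q ^ (n - 1) := by
      have hpos : 0 < q := Fintype.card_pos
      apply Nat.eq_of_mul_eq_mul_right hpos
      rw [hk, ← pow_succ]
      congr 1
      omega
    have e : {φ : Fin n → F // φ ≠ 0 ∧ φ ⬝ᵥ a = 0} ≃ {x : L.ker // x ≠ 0} :=
      { toFun := fun φ => ⟨⟨φ.1, φ.2.2⟩, fun h => φ.2.1 (congrArg Subtype.val h)⟩
        invFun := fun x => ⟨x.1.1, fun h => x.2 (Subtype.ext h), x.1.2⟩ }
    rw [Nat.card_congr e, Nat.card_eq_fintype_card, Fintype.card_subtype_compl,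
      Fintype.card_subtype_eq, ← Nat.card_eq_fintype_card, hk']
  have e : {x : (Fin n → F) × (Fin n → F) // x.1 ≠ 0 ∧ x.2 ≠ 0 ∧ x.2 ⬝ᵥ x.1 = 0} ≃
      Σ a : {a : Fin n → F // a ≠ 0}, {φ : Fin n → F // φ ≠ 0 ∧ φ ⬝ᵥ a.1 = 0} :=
    { toFun := fun x => ⟨⟨x.1.1, x.2.1⟩, ⟨x.1.2, x.2.2⟩⟩
      invFun := fun s => ⟨(s.1.1, s.2.1), s.1.2, s.2.2⟩ }
  rw [Nat.card_congr e, Nat.card_sigma, Finset.sum_congr rfl (fun a _ => hfib a.1 a.2),
    Finset.sum_const, smul_eq_mul, Finset.card_univ, Fintype.card_subtype_compl,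
    Fintype.card_subtype_eq]
  simp [hq]

theorem card_conjugates [Fintype F] (hn : 2 ≤ n) (t : GL (Fin n) F)
    (ht : Cfsg.IsTransvection (t : Matrix (Fin n) (Fin n) F)) :
    (Subgroup.centralizer ({t} : Set (GL (Fin n) F))).index * (Fintype.card F - 1) =
      (Fintype.card F ^ n - 1) * (Fintype.card F ^ (n - 1) - 1) := by
  classical
  have std : ∀ s : GL (Fin n) F, Cfsg.IsTransvection (s : Matrix (Fin n) (Fin n) F) →
      ∃ P : GL (Fin n) F, ((s : Matrix (Fin n) (Fin n) F) - 1) * (P : Matrix (Fin n) (Fin n) F) =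
        (P : Matrix (Fin n) (Fin n) F) *
          Matrix.vecMulVec (Pi.single ⟨0, by omega⟩ 1) (Pi.single ⟨1, by omega⟩ 1) := by
    intro s hs
    obtain ⟨a, φ, ha, hφ, hM⟩ := S2579.exists_vecMulVec _ hs.1
    rw [hM]
    refine exists_conj_to_std hn ha hφ ?_
    have h := hs.2
    rw [hM, Matrix.vecMulVec_mul_vecMulVec, Matrix.vecMulVec_eq_zero] at h
    rcases h with h | h
    · exact absurd h ha
    · exact (smul_eq_zero.1 h).resolve_right hφ
  let X := {x : (Fin n → F) × (Fin n → F) // x.1 ≠ 0 ∧ x.2 ≠ 0 ∧ x.2 ⬝ᵥ x.1 = 0}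
  let O := MulAction.orbit (ConjAct (GL (Fin n) F)) t
  let mkT : X → GL (Fin n) F := fun x =>
    ⟨1 + Matrix.vecMulVec x.1.1 x.1.2, 1 - Matrix.vecMulVec x.1.1 x.1.2,
      by rw [add_mul, mul_sub, mul_sub, one_mul, one_mul, mul_one,
        Matrix.vecMulVec_mul_vecMulVec, x.2.2.2, zero_smul, Matrix.vecMulVec_zero]; abel,
      by rw [sub_mul, mul_add, mul_add, one_mul, one_mul, mul_one,
        Matrix.vecMulVec_mul_vecMulVec, x.2.2.2, zero_smul, Matrix.vecMulVec_zero]; abel⟩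
  have hmem : ∀ x : X, mkT x ∈ O := by
    intro x
    obtain ⟨P, hP⟩ := std t ht
    obtain ⟨Q, hQ⟩ := exists_conj_to_std hn x.2.1 x.2.2.1 x.2.2.2
    refine ⟨ConjAct.toConjAct (Q * P⁻¹), ?_⟩
    show ConjAct.toConjAct (Q * P⁻¹) • t = mkT x
    rw [ConjAct.toConjAct_smul]
    have h1 : t * P = P * mkT ⟨(Pi.single ⟨0, by omega⟩ 1, Pi.single ⟨1, by omega⟩ 1),
        by simp, by simp, by simp⟩ := Units.ext (by
      rw [Units.val_mul, Units.val_mul]
      show (t : Matrix (Fin n) (Fin n) F) * P = (P : Matrix (Fin n) (Fin n) F) * (1 + _)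
      rw [mul_add, mul_one, ← hP, sub_mul, one_mul, add_sub_cancel])
    have h2 : mkT x * Q = Q * mkT ⟨(Pi.single ⟨0, by omega⟩ 1, Pi.single ⟨1, by omega⟩ 1),
        by simp, by simp, by simp⟩ := Units.ext (by
      rw [Units.val_mul, Units.val_mul]
      show (1 + _) * (Q : Matrix (Fin n) (Fin n) F) = (Q : Matrix (Fin n) (Fin n) F) * (1 + _)
      rw [mul_add, mul_one, add_mul, one_mul, hQ])
    calc Q * P⁻¹ * t * (Q * P⁻¹)⁻¹ = Q * P⁻¹ * (t * P) * Q⁻¹ := by group
      _ = mkT x * Q * Q⁻¹ := by rw [h1, h2]; group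
      _ = mkT x := by group
  have hpts : ∀ s : O, ∃ a φ : Fin n → F, ∃ h : a ≠ 0 ∧ φ ≠ 0 ∧ φ ⬝ᵥ a = 0,
      mkT ⟨(a, φ), h⟩ = s.1 := by
    intro s
    obtain ⟨a, φ, ha, hφ, hM⟩ := S2579.exists_vecMulVec _ ht.1
    obtain ⟨g, hg⟩ := s.2
    set g' : GL (Fin n) F := ConjAct.ofConjAct g
    refine ⟨(g' : Matrix (Fin n) (Fin n) F) *ᵥ a, φ ᵥ* (g'⁻¹ : GL (Fin n) F).val,
      ⟨fun h => ha ?_, fun h => hφ ?_, ?_⟩, ?_⟩
    · have := congrArg ((g'⁻¹ : GL (Fin n) F).val *ᵥ ·) h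
      simpa [Matrix.mulVec_mulVec, ← Units.val_mul] using this
    · have := congrArg (· ᵥ* (g' : Matrix (Fin n) (Fin n) F)) h
      simpa [Matrix.vecMul_vecMul, ← Units.val_mul] using this
    · rw [Matrix.dotProduct_mulVec, Matrix.vecMul_vecMul, ← Units.val_mul, inv_mul_cancel,
        Units.val_one, Matrix.vecMul_one]
      have h := ht.2
      rw [hM, Matrix.vecMulVec_mul_vecMulVec, Matrix.vecMulVec_eq_zero] at h
      rcases h with h | h
      · exact absurd h ha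
      · exact (smul_eq_zero.1 h).resolve_right hφ
    · refine Units.ext ?_
      rw [← hg]
      show 1 + Matrix.vecMulVec ((g' : Matrix (Fin n) (Fin n) F) *ᵥ a) (φ ᵥ* (g'⁻¹ : GL (Fin n) F).val) =
        ((g' * t * g'⁻¹ : GL (Fin n) F) : Matrix (Fin n) (Fin n) F)
      rw [Units.val_mul, Units.val_mul, ← Matrix.mul_vecMulVec, ← Matrix.vecMulVec_mul, ← hM,
        sub_mul, mul_sub, one_mul, ← Units.val_mul g' g'⁻¹, mul_inv_cancel, Units.val_one,
        Matrix.mul_assoc, add_sub_cancel]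
  choose a φ hh hpt using hpts
  have e : O × Fˣ ≃ X := by
    refine Equiv.ofBijective
      (fun p => ⟨((p.2 : F) • a p.1, ((p.2⁻¹ : Fˣ) : F) • φ p.1),
        smul_ne_zero p.2.ne_zero (hh p.1).1, smul_ne_zero (Units.ne_zero _) (hh p.1).2.1,
        by simp [(hh p.1).2.2]⟩) ⟨?_, ?_⟩
    · rintro ⟨s, c⟩ ⟨s', c'⟩ h
      have h' := congrArg (fun x : X => mkT x) h
      have hv : ∀ (s : O) (c : Fˣ), Matrix.vecMulVec ((c : F) • a s) (((c⁻¹ : Fˣ) : F) • φ s) =
          Matrix.vecMulVec (a s) (φ s) := fun s c => by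
        rw [Matrix.smul_vecMulVec, Matrix.vecMulVec_smul, smul_smul, Units.mul_inv, one_smul]
      have hss : s.1 = s'.1 := by
        rw [← hpt s, ← hpt s']
        refine Units.ext ?_
        have h2 := congrArg Units.val h'
        simp only [mkT] at h2 ⊢
        rwa [hv, hv] at h2
      obtain rfl := Subtype.ext hss
      have h1 : (c : F) • a s = (c' : F) • a s := congrArg (fun x : X => x.1.1) h
      exact Prod.ext rfl (Units.ext (smul_left_injective F (hh s).1 h1))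
    · rintro ⟨⟨b, ψ⟩, hb, hψ, hψb⟩
      set s : O := ⟨mkT ⟨(b, ψ), hb, hψ, hψb⟩, hmem _⟩ with hs
      have heq : Matrix.vecMulVec (a s) (φ s) = Matrix.vecMulVec b ψ :=
        add_right_injective 1 (congrArg Units.val (hpt s))
      obtain ⟨j, hj⟩ := Function.ne_iff.1 hψ
      obtain ⟨i, hi⟩ := Function.ne_iff.1 hb
      simp only [Pi.zero_apply] at hi hj
      have hc : ∀ k l, a s k * φ s l = b k * ψ l := fun k l => congrFun (congrFun heq k) l
      have hφj : φ s j ≠ 0 := fun h => by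
        have := hc i j
        rw [h, mul_zero] at this
        exact mul_ne_zero hi hj this.symm
      have hai : a s i ≠ 0 := fun h => by
        have := hc i j
        rw [h, zero_mul] at this
        exact mul_ne_zero hi hj this.symm
      refine ⟨(s, Units.mk0 (φ s j / ψ j) (div_ne_zero hφj hj)), Subtype.ext (Prod.ext ?_ ?_)⟩
      · funext k
        simp only [Pi.smul_apply, smul_eq_mul, Units.val_mk0]
        field_simp
        linear_combination hc k j
      · funext l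
        simp only [Pi.smul_apply, smul_eq_mul, Units.val_inv_eq_inv_val, Units.val_mk0]
        field_simp
        apply mul_left_cancel₀ (mul_ne_zero hi hai)
        linear_combination (b i * ψ j) * hc i l - (b i * ψ l) * hc i j
  rw [← card_pairs (F := F) (by omega : 1 ≤ n), ← Nat.card_congr e, Nat.card_prod,
    Nat.card_units, Nat.card_eq_fintype_card (α := F)]
  congr 1
  rw [Nat.card_coe_set_eq, ← MulAction.index_stabilizer, ConjAct.stabilizer_eq_centralizer]
  rfl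


/-- Centraliser of a transvection in GL_n(q), n ≥ 2: if t − 1 has rank one and square zero, the centraliser of t in GL_n(q) has order q^(2n−3) (q − 1) |GL_(n−2)(q)| (a group of order q^(2n−3) extended by GL_1(q) × GL_(n−2)(q)). -/
theorem result {F : Type*} [Field F] [Fintype F] {q n : ℕ} (hF : Fintype.card F = q) (hn : 2 ≤ n) (t : GL (Fin n) F) (ht : Cfsg.IsTransvection (t : Matrix (Fin n) (Fin n) F)) : Nat.card ↥(Subgroup.centralizer ({t} : Set (GL (Fin n) F))) = q ^ (2 * n - 3) * (q - 1) * ∏ i : Fin (n - 2), (q ^ (n - 2) - q ^ (i : ℕ)) := by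
  obtain ⟨m, rfl⟩ : ∃ m, n = m + 2 := ⟨n - 2, by omega⟩
  have h := card_conjugates hn t ht
  have hmul := (Subgroup.centralizer ({t} : Set (GL (Fin (m + 2)) F))).card_mul_index
  rw [GL.card_GL (m + 2) (Fintype.card_fin _), hF] at hmul
  rw [hF] at h
  have hq : 1 < q := hF ▸ Fintype.one_lt_card
  set C := Nat.card (Subgroup.centralizer ({t} : Set (GL (Fin (m + 2)) F)))
  have hP : ∏ i : Fin (m + 2), (q ^ (m + 2) - q ^ (i : ℕ)) =
      (q ^ (m + 2) - 1) * ((q ^ (m + 2) - q) * (q ^ (2 * m) * ∏ i : Fin m, (q ^ m - q ^ (i : ℕ)))) := by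
    rw [Fin.prod_univ_succ, Fin.prod_univ_succ]
    have hterm : ∀ i : Fin m, q ^ (m + 2) - q ^ ((i.succ.succ : Fin (m + 2)) : ℕ) =
        q ^ 2 * (q ^ m - q ^ (i : ℕ)) := fun i => by
      rw [Nat.mul_sub, ← pow_add, ← pow_add, Fin.val_succ, Fin.val_succ]
      ring_nf
    simp only [hterm, Finset.prod_mul_distrib, Finset.prod_const, Finset.card_univ, Fintype.card_fin,
      ← pow_mul]
    simp
  have hb : q ^ (m + 2) - q = q * (q ^ (m + 1) - 1) := by
    rw [Nat.mul_sub, mul_one, ← pow_succ']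
  rw [hP, hb] at hmul
  rw [show m + 2 - 1 = m + 1 by omega] at h
  rw [show m + 2 - 2 = m by omega, show 2 * (m + 2) - 3 = 2 * m + 1 by omega]
  have hpos : 0 < (q ^ (m + 2) - 1) * (q ^ (m + 1) - 1) := by
    apply Nat.mul_pos <;> apply Nat.sub_pos_of_lt <;> exact Nat.one_lt_pow (by omega) hq
  apply Nat.eq_of_mul_eq_mul_right hpos
  calc C * ((q ^ (m + 2) - 1) * (q ^ (m + 1) - 1)) =
      C * (Subgroup.centralizer ({t} : Set (GL (Fin (m + 2)) F))).index * (q - 1) := by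
        rw [← h]; ring
    _ = _ := by rw [hmul]; ring

end Cfsg.Agent.S2572
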