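import Cfsg.Statements.S2574
import Cfsg.Agent.Lib.RegNilp.Matrix

set_option autoImplicit false
open Cfsg

namespace Cfsg.Agent.S2574

/-- A regular unipotent element of the symplectic group has totally isotropic small invariant subspaces: over a finite field, if u ∈ Sp_2m(F) satisfies (u − 1)^(2m) = 0 and rank(u − 1) = 2m − 1, and W is a u-invariant subspace with 2 dim W ≤ 2m, then the alternating form vanishes identically on W. -/
theorem result {F : Type*} [Field F] [Finite F] {m : ℕ} (u : Matrix.symplecticGroup (Fin m) F) (hnil : ((u : Matrix (Fin m ⊕ Fin m) (Fin m ⊕ Fin m) F) - 1) ^ (2 * m) = 0) (hreg : ((u : Matrix (Fin m ⊕ Fin m) (Fin m ⊕ Fin m) F) - 1).rank = 2 * m - 1) (W : Submodule F (Fin m ⊕ Fin m → F)) (hW : ∀ v ∈ W, (u : Matrix (Fin m ⊕ Fin m) (Fin m ⊕ Fin m) F).mulVec v ∈ W) (hdim : 2 * Module.finrank F W ≤ 2 * m) : ∀ v ∈ W, ∀ w ∈ W, Cfsg.sympForm m F v w = 0 := by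
  classical
  let U : Matrix (Fin m ⊕ Fin m) (Fin m ⊕ Fin m) F := u
  let U' : Matrix (Fin m ⊕ Fin m) (Fin m ⊕ Fin m) F := (u⁻¹ : Matrix.symplecticGroup (Fin m) F)
  have hU'U : U' * U = 1 := congrArg Subtype.val (inv_mul_cancel u)
  have hUU' : U * U' = 1 := congrArg Subtype.val (mul_inv_cancel u)
  set d := Module.finrank F W with hd
  set M := U - 1 with hM
  have hn : 2 * m = Fintype.card (Fin m ⊕ Fin m) := by simp [two_mul]
  have hinv : ∀ v ∈ W, Matrix.toLinAlgEquiv' M v ∈ W := by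
    intro v hv
    show (U - 1).mulVec v ∈ W
    rw [Matrix.sub_mulVec, Matrix.one_mulVec]
    exact W.sub_mem (hW v hv) hv
  have h0 := RegNilp.toLin_pow_eq_zero hn hnil
  have h1 := RegNilp.finrank_range_toLin hn hreg
  have hker := RegNilp.invariant_eq_ker h0 h1 W hinv
  have hfr : Module.finrank F (Fin m ⊕ Fin m → F) = 2 * m := by
    rw [Module.finrank_fintype_fun_eq_card, hn]
  have hrange := RegNilp.range_pow_eq_ker_pow h0 h1 (j := 2 * m - d) (by omega)
  rw [hfr, show 2 * m - (2 * m - d) = d by omega, ← hker] at hrange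
  have hadj : ∀ v w, Cfsg.sympForm m F (U.mulVec v) w = Cfsg.sympForm m F v (U'.mulVec w) := by
    intro v w
    have hp : U.transpose * Matrix.J (Fin m) F * U = Matrix.J (Fin m) F := SymplecticGroup.mem_iff'.1 u.2
    rw [Cfsg.sympForm, Cfsg.sympForm, ← Matrix.vecMul_transpose, ← Matrix.dotProduct_mulVec,
      Matrix.mulVec_mulVec, Matrix.mulVec_mulVec]
    congr 2
    conv_rhs => rw [← hp, Matrix.mul_assoc _ U, hUU', Matrix.mul_one]
  have hpow : ∀ (a : ℕ) v w, Cfsg.sympForm m F ((M ^ a).mulVec v) w =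
      Cfsg.sympForm m F v (((U' - 1) ^ a).mulVec w) := by
    intro a
    induction a with
    | zero => intro v w; simp
    | succ a ih =>
      intro v w
      rw [pow_succ, ← Matrix.mulVec_mulVec, ih, pow_succ', ← Matrix.mulVec_mulVec]
      simp only [hM, Matrix.sub_mulVec, Matrix.one_mulVec]
      conv_lhs => rw [Cfsg.sympForm, sub_dotProduct]
      conv_rhs => rw [Cfsg.sympForm, Matrix.mulVec_sub, dotProduct_sub]
      exact congrArg (· - _) (hadj _ _)
  intro v hv w hw
  rw [← hrange] at hv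
  obtain ⟨x, rfl⟩ := hv
  rw [RegNilp.toLin_pow_apply, hpow]
  have hw' : (M ^ (2 * m - d)).mulVec w = 0 := by
    rw [hker, LinearMap.mem_ker, RegNilp.toLin_pow_apply] at hw
    rw [show 2 * m - d = (2 * m - d - d) + d by omega, pow_add, ← Matrix.mulVec_mulVec, hw, Matrix.mulVec_zero]
  have hcomm : Commute (-U') M := by
    show -U' * (U - 1) = (U - 1) * -U'
    rw [neg_mul, mul_neg, mul_sub, sub_mul, hU'U, hUU', mul_one, one_mul]
  have heq : U' - 1 = -U' * M := by
    rw [hM, neg_mul, mul_sub, hU'U, mul_one, neg_sub]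
  rw [heq, hcomm.mul_pow, ← Matrix.mulVec_mulVec, hw', Matrix.mulVec_zero]
  simp [Cfsg.sympForm]

end Cfsg.Agent.S2574
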