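import Cfsg.Statements.S2575
import Cfsg.Agent.Lib.GL.Basic

set_option autoImplicit false
open Cfsg

namespace Cfsg.Agent.S2575

/-- In a finite cyclic group the `k`-th powers are the solutions of `x^(N/gcd(N,k)) = 1`. -/
theorem exists_pow_eq_iff {G : Type*} [CommGroup G] [Finite G] [IsCyclic G] (k : ℕ) (a : G) :
    (∃ c, c ^ k = a) ↔ a ^ (Nat.card G / Nat.gcd (Nat.card G) k) = 1 := by
  set N := Nat.card G with hN
  have hg : Nat.gcd N k ∣ N := Nat.gcd_dvd_left _ _
  have hgpos : 0 < Nat.gcd N k := Nat.gcd_pos_of_pos_left _ Nat.card_pos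
  have h : (powMonoidHom k : G →* G).range = (powMonoidHom (N / Nat.gcd N k) : G →* G).ker := by
    apply Subgroup.eq_of_le_of_card_ge
    · rintro _ ⟨c, rfl⟩
      rw [MonoidHom.mem_ker, powMonoidHom_apply, powMonoidHom_apply, ← pow_mul]
      obtain ⟨t, ht⟩ := Nat.gcd_dvd_right N k
      have e : k * (N / Nat.gcd N k) = t * N := by
        nth_rewrite 1 [ht]
        rw [mul_comm (Nat.gcd N k) t, mul_assoc, Nat.mul_div_cancel' hg]
      rw [e, mul_comm, pow_mul, hN, pow_card_eq_one', one_pow]
    · rw [IsCyclic.card_powMonoidHom_range, IsCyclic.card_powMonoidHom_ker, Nat.gcd_eq_right (Nat.div_dvd_of_dvd hg)]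
  exact (SetLike.ext_iff.1 h a).trans MonoidHom.mem_ker

/-- A power of an element of order `2^s`. -/
theorem two_pow_dvd_iff {s t : ℕ} (ht : t ≠ 0) : 2 ^ s ∣ t ↔ s ≤ padicValNat 2 t :=
  padicValNat_dvd_iff_le ht

theorem val_div_gcd {N k : ℕ} (hN : N ≠ 0) (hk : k ≠ 0) :
    padicValNat 2 (N / Nat.gcd N k) = padicValNat 2 N - min (padicValNat 2 N) (padicValNat 2 k) := by
  rw [padicValNat.div_of_dvd (Nat.gcd_dvd_left _ _), ← Nat.factorization_def _ Nat.prime_two,
    ← Nat.factorization_def _ Nat.prime_two, ← Nat.factorization_def _ Nat.prime_two, Nat.factorization_gcd hN hk,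
    Finsupp.inf_apply]

/-- Which diagonal involutions of PGL_n(q) lie in PSL_n(q), q odd: for the diagonal matrix t with i entries −1 and n − i entries 1, some non-zero scalar multiple of t has determinant one if and only if i is even or the 2-part of q − 1 exceeds the 2-part of n (that is, −1 is an n-th power in the field exactly in the latter case). -/
theorem result {F : Type*} [Field F] [Fintype F] {q : ℕ} (hF : Fintype.card F = q) (hq : Odd q) {n : ℕ} (hn : 1 ≤ n) (i : ℕ) (hi : i ≤ n) : (∃ c : F, c ≠ 0 ∧ (c • Matrix.diagonal (fun j : Fin n => if (j : ℕ) < i then (-1 : F) else 1)).det = 1) ↔ (Even i ∨ padicValNat 2 n < padicValNat 2 (q - 1)) := by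
  subst hF
  have h2 : (-1 : F) ≠ 1 := fun h => by
    have h' : (2 : F) = 0 := by linear_combination -h
    have hc : ringChar F = 2 := CharP.ringChar_of_prime_eq_zero Nat.prime_two (by exact_mod_cast h')
    have := FiniteField.even_card_of_char_two hc
    obtain ⟨k, hk⟩ := hq
    omega
  have hdet : ∀ c : F, (c • Matrix.diagonal (fun j : Fin n => if (j : ℕ) < i then (-1 : F) else 1)).det =
      c ^ n * (-1) ^ i := by
    intro c
    rw [Matrix.det_smul, Fintype.card_fin, Matrix.det_diagonal, Finset.prod_ite, Finset.prod_const, Finset.prod_const_one,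
      mul_one]
    congr 2
    rw [← Fintype.card_subtype, Fintype.card_fin_lt_of_le hi]
  simp only [hdet]
  by_cases hev : Even i
  · simp only [hev, true_or, iff_true]
    exact ⟨1, one_ne_zero, by rw [one_pow, one_mul, hev.neg_one_pow]⟩
  · have hodd : Odd i := Nat.not_even_iff_odd.1 hev
    simp only [hev, false_or, hodd.neg_one_pow]
    have hN : Nat.card Fˣ = Fintype.card F - 1 := by rw [Nat.card_units, Nat.card_eq_fintype_card]
    have hpos : 0 < Nat.card Fˣ := Nat.card_pos
    rw [← hN]
    have e : (∃ c : F, c ≠ 0 ∧ c ^ n * (-1) = 1) ↔ ∃ c : Fˣ, c ^ n = -1 := by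
      constructor
      · rintro ⟨c, hc, h⟩
        exact ⟨Units.mk0 c hc, Units.ext (by simp; linear_combination -h)⟩
      · rintro ⟨c, h⟩
        refine ⟨c, c.ne_zero, ?_⟩
        have := congrArg Units.val h
        simp at this
        rw [this]; ring
    rw [e, exists_pow_eq_iff n (-1 : Fˣ)]
    have hne : (-1 : Fˣ) ≠ 1 := fun h => h2 (by simpa using congrArg Units.val h)
    have ho : orderOf (-1 : Fˣ) = 2 ^ 1 := by
      rw [pow_one]; exact orderOf_eq_prime (by simp) hne
    rw [← orderOf_dvd_iff_pow_eq_one, ho, two_pow_dvd_iff, val_div_gcd hpos.ne' (by omega)]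
    · omega
    · exact (Nat.div_pos (Nat.gcd_le_left _ hpos) (Nat.gcd_pos_of_pos_left _ hpos)).ne'

end Cfsg.Agent.S2575
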