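import Cfsg.Statements.S2576
import Cfsg.Agent.Lib.GL.Basic

set_option autoImplicit false
open Cfsg

namespace Cfsg.Agent.S2576

/-- In a finite cyclic group the `k`-th powers are the solutions of `x^(N/gcd(N,k)) = 1`. -/
theorem exists_pow_eq_iff {G : Type*} [CommGroup G] [Finite G] [IsCyclic G] (k : ℕ) (a : G) :
    (∃ c, c ^ k = a) ↔ a ^ (Nat.card G / Nat.gcd (Nat.card G) k) = 1 := by
  set N := Nat.card G with hN
  have hg : Nat.gcd N k ∣ N := Nat.gcd_dvd_left _ _
  have hgpos : 0 < Nat.gcd N k := Nat.gcd_pos_of_pos_left _ Nat.card_pos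
  have h : (powMonoidHom k : G →* G).range = (powMonoidHom (N / Nat.gcd N k) : G →* G).ker := by
    apply Subgroup.eq_of_le_of_card_ge
    · rintro _ ⟨c, rfl⟩
      rw [MonoidHom.mem_ker, powMonoidHom_apply, powMonoidHom_apply, ← pow_mul]
      obtain ⟨t, ht⟩ := Nat.gcd_dvd_right N k
      have e : k * (N / Nat.gcd N k) = t * N := by
        nth_rewrite 1 [ht]
        rw [mul_comm (Nat.gcd N k) t, mul_assoc, Nat.mul_div_cancel' hg]
      rw [e, mul_comm, pow_mul, hN, pow_card_eq_one', one_pow]
    · rw [IsCyclic.card_powMonoidHom_range, IsCyclic.card_powMonoidHom_ker, Nat.gcd_eq_right (Nat.div_dvd_of_dvd hg)]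
  exact (SetLike.ext_iff.1 h a).trans MonoidHom.mem_ker

/-- A power of an element of order `2^s`. -/
theorem two_pow_dvd_iff {s t : ℕ} (ht : t ≠ 0) : 2 ^ s ∣ t ↔ s ≤ padicValNat 2 t :=
  padicValNat_dvd_iff_le ht

theorem val_div_gcd {N k : ℕ} (hN : N ≠ 0) (hk : k ≠ 0) :
    padicValNat 2 (N / Nat.gcd N k) = padicValNat 2 N - min (padicValNat 2 N) (padicValNat 2 k) := by
  rw [padicValNat.div_of_dvd (Nat.gcd_dvd_left _ _), ← Nat.factorization_def _ Nat.prime_two,
    ← Nat.factorization_def _ Nat.prime_two, ← Nat.factorization_def _ Nat.prime_two, Nat.factorization_gcd hN hk,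
    Finsupp.inf_apply]

/-- Which involutions of PGL_2m(q) coming from a scalar of the quadratic extension field lie in PSL_2m(q), q odd: let μ generate the Sylow 2-subgroup of the multiplicative group of the field with q elements (μ has order the 2-part of q − 1) and let t be the block-diagonal matrix with m diagonal blocks [[0, 1], [μ, 0]] (so t² is the scalar μ and t is an involution modulo scalars). Then some non-zero scalar multiple of t has determinant one if and only if q ≡ 3 (mod 4) or the 2-part of q − 1 is less than the 2-part of 2m. -/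
theorem result {F : Type*} [Field F] [Fintype F] {q : ℕ} (hF : Fintype.card F = q) (hq : Odd q) {m : ℕ} (hm : 1 ≤ m) (μ : F) (hμ : orderOf μ = 2 ^ padicValNat 2 (q - 1)) : (∃ c : F, c ≠ 0 ∧ (c • Matrix.blockDiagonal (fun _ : Fin m => !![(0 : F), 1; μ, 0])).det = 1) ↔ (q % 4 = 3 ∨ padicValNat 2 (q - 1) < padicValNat 2 (2 * m)) := by
  subst hF
  have hdet : ∀ c : F, (c • Matrix.blockDiagonal (fun _ : Fin m => !![(0 : F), 1; μ, 0])).det =
      c ^ (2 * m) * (-μ) ^ m := by
    intro c
    rw [Matrix.det_smul, Matrix.det_blockDiagonal, Fintype.card_prod, Fintype.card_fin, Fintype.card_fin,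
      Finset.prod_const, Finset.card_univ, Fintype.card_fin, Matrix.det_fin_two_of]
    ring
  simp only [hdet]
  have h2 : (2 : F) ≠ 0 := fun h' => by
    have hc : ringChar F = 2 := CharP.ringChar_of_prime_eq_zero Nat.prime_two (by exact_mod_cast h')
    have := FiniteField.even_card_of_char_two hc
    obtain ⟨k, hk⟩ := hq
    omega
  have hN : Nat.card Fˣ = Fintype.card F - 1 := by rw [Nat.card_units, Nat.card_eq_fintype_card]
  have hq3 : 3 ≤ Fintype.card F := by
    obtain ⟨k, hk⟩ := hq
    have := Fintype.one_lt_card (α := F)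
    omega
  have hv1 : 1 ≤ padicValNat 2 (Fintype.card F - 1) := one_le_padicValNat_of_dvd (by omega)
    (by obtain ⟨k, hk⟩ := hq; omega)
  by_cases h4 : Fintype.card F % 4 = 3
  · simp only [h4, true_or, iff_true]
    have hv : padicValNat 2 (Fintype.card F - 1) = 1 := by
      refine le_antisymm ?_ hv1
      by_contra hcon
      have h := (two_pow_dvd_iff (s := 2) (t := Fintype.card F - 1) (by omega)).2 (by omega)
      omega
    rw [hv, pow_one] at hμ
    have hμ1 : μ = -1 := by
      have hsq : μ ^ 2 = 1 := hμ ▸ pow_orderOf_eq_one μ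
      rcases sq_eq_one_iff.1 hsq with h | h
      · rw [h, orderOf_one] at hμ; omega
      · exact h
    exact ⟨1, one_ne_zero, by rw [hμ1]; simp⟩
  · simp only [h4, false_or]
    have hs2 : 2 ≤ padicValNat 2 (Fintype.card F - 1) :=
      (two_pow_dvd_iff (s := 2) (by omega)).1 (by obtain ⟨k, hk⟩ := hq; omega)
    set s := padicValNat 2 (Fintype.card F - 1) with hs
    have hμ0 : μ ≠ 0 := by
      intro h
      have := pow_orderOf_eq_one μ
      rw [h, zero_pow] at this
      · exact zero_ne_one this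
      · rw [← h, hμ]; positivity
    let M : Fˣ := Units.mk0 μ hμ0
    have hM : orderOf M = 2 ^ s := by rw [← hμ, ← orderOf_units]; rfl
    have hoN : orderOf (-M) = 2 ^ s := by
      obtain ⟨k, hk⟩ : ∃ k, s = k + 1 := ⟨s - 1, by omega⟩
      have h1 : (-M) ^ 2 ^ k ≠ 1 := by
        rw [Even.neg_pow (Nat.even_pow.2 ⟨even_two, by omega⟩)]
        intro h
        have := orderOf_dvd_of_pow_eq_one h
        rw [hM, hk] at this
        exact absurd (Nat.le_of_dvd (by positivity) this) (by rw [not_le]; exact Nat.pow_lt_pow_right one_lt_two (by omega))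
      rw [hk]
      refine orderOf_eq_prime_pow h1 ?_
      rw [Even.neg_pow (Nat.even_pow.2 ⟨even_two, by omega⟩), ← hk, ← hM, pow_orderOf_eq_one]
    have e : (∃ c : F, c ≠ 0 ∧ c ^ (2 * m) * (-μ) ^ m = 1) ↔ ∃ c : Fˣ, c ^ (2 * m) = ((-M) ^ m)⁻¹ := by
      constructor
      · rintro ⟨c, hc, h⟩
        exact ⟨Units.mk0 c hc, eq_inv_of_mul_eq_one_left (Units.ext (by simpa [M] using h))⟩
      · rintro ⟨c, h⟩
        refine ⟨c, c.ne_zero, ?_⟩
        have := congrArg Units.val (mul_eq_one_iff_eq_inv.2 h)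
        simpa [M] using this
    have hpos : 0 < Nat.card Fˣ := Nat.card_pos
    have hd := (Nat.div_pos (Nat.gcd_le_left (2 * m) hpos) (Nat.gcd_pos_of_pos_left _ hpos)).ne'
    rw [e, exists_pow_eq_iff, inv_pow, inv_eq_one, ← pow_mul, ← orderOf_dvd_iff_pow_eq_one, hoN,
      two_pow_dvd_iff (mul_ne_zero (by omega) hd), padicValNat.mul (by omega) hd, val_div_gcd hpos.ne' (by omega),
      padicValNat.mul two_ne_zero (by omega), padicValNat_self, hN, ← hs]
    omega

end Cfsg.Agent.S2576
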