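import Cfsg.Statements.S2577
import Cfsg.Agent.Lib.PGLInvol.Basic

set_option autoImplicit false
set_option linter.style.haveILetI false
open Cfsg

namespace Cfsg.Agent.S2577

/-- Number of conjugacy classes of involutions in PGL_n(q) for q odd and n ≥ 2: there are ⌊n/2⌋ classes represented by diagonal matrices with i entries −1 (1 ≤ i ≤ n/2) and, when n is even, one more class represented by a block-diagonal matrix of 2 × 2 blocks [[0, 1], [μ, 0]] with μ a non-square (a matrix squaring to a scalar but having no eigenvalue in the field); in all ⌊n/2⌋ + 1 classes if n is even and ⌊n/2⌋ if n is odd. -/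
theorem result {F : Type*} [Field F] [Fintype F] {q : ℕ} (hF : Fintype.card F = q) (hq : Odd q) {n : ℕ} (hn : 2 ≤ n) : Nat.card {C : ConjClasses (GL (Fin n) F ⧸ Subgroup.center (GL (Fin n) F)) // ∃ g : GL (Fin n) F ⧸ Subgroup.center (GL (Fin n) F), ConjClasses.mk g = C ∧ orderOf g = 2} = n / 2 + (if Even n then 1 else 0) := by
  classical
  open Cfsg.Agent.PGLInvol in
  have h2 : (2 : F) ≠ 0 := by
    intro h
    haveI : CharP F 2 := CharTwo.of_one_ne_zero_of_two_eq_zero one_ne_zero h
    have h1 := FiniteField.even_card_of_char_two (F := F) (ringChar.eq F 2)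
    rw [hF, Nat.odd_iff] at *
    omega
  obtain ⟨μ, hμ⟩ := FiniteField.exists_nonsquare (F := F) (fun h => h2 (by
    haveI : CharP F 2 := ringChar.of_eq h
    exact CharTwo.two_eq_zero))
  have hμ0 : μ ≠ 0 := fun e => hμ (e ▸ IsSquare.zero)
  haveI : Nonempty (Fin n) := ⟨⟨0, by omega⟩⟩
  set Z := Subgroup.center (GL (Fin n) F)
  have hd : Module.finrank F (Fin n → F) = n := by simp
  -- a scalar endomorphism determines its scalar
  have hscal : ∀ {c e : F}, (∀ v : Fin n → F, c • v = e • v) → c = e := fun {c e} h => by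
    have h1 := congrFun (h fun _ => 1) (Classical.arbitrary (Fin n))
    simpa using h1
  -- the representatives
  have hdiag : ∀ i : Fin (n / 2), ∃ g : GL (Fin n) F, PGLInvol.op g * PGLInvol.op g = 1 ∧
      Module.finrank F (LinearMap.ker (PGLInvol.op g + 1)) = i.val + 1 := by
    intro i
    let w : Fin n → F := fun k => if k.val < i.val + 1 then -1 else 1
    have hw : ∀ k, w k * w k = 1 := fun k => by simp only [w]; split_ifs <;> simp
    let g : GL (Fin n) F := ⟨Matrix.diagonal w, Matrix.diagonal w,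
      by rw [Matrix.diagonal_mul_diagonal]; simp [hw],
      by rw [Matrix.diagonal_mul_diagonal]; simp [hw]⟩
    refine ⟨g, ?_, ?_⟩
    · rw [← PGLInvol.op_mul, ← PGLInvol.op_one]
      exact congrArg PGLInvol.op (Units.ext (by simp [g, hw]))
    · have h1 : PGLInvol.op g + 1 = Matrix.toLinAlgEquiv' (Matrix.diagonal fun k => w k + 1) := by
        rw [PGLInvol.op, ← map_one (Matrix.toLinAlgEquiv' (R := F) (n := Fin n)), ← map_add,
          ← Matrix.diagonal_one, Matrix.diagonal_add]
      have hr : Module.finrank F (LinearMap.range (Matrix.toLinAlgEquiv' (Matrix.diagonal fun k => w k + 1) :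
          (Fin n → F) →ₗ[F] Fin n → F)) = (Matrix.diagonal fun k => w k + 1).rank := rfl
      rw [Matrix.rank_diagonal, Fintype.card_subtype] at hr
      have h3 := (Matrix.toLinAlgEquiv' (Matrix.diagonal fun k => w k + 1) :
        (Fin n → F) →ₗ[F] Fin n → F).finrank_range_add_finrank_ker
      rw [hr, hd, ← h1] at h3
      have hc : (Finset.univ.filter fun k : Fin n => w k + 1 ≠ 0).card = n - (i.val + 1) := by
        have e : (Finset.univ.filter fun k : Fin n => w k + 1 ≠ 0) =
            (Finset.univ.filter fun k : Fin n => k.val < i.val + 1)ᶜ := by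
          ext k
          simp only [w, Finset.mem_filter, Finset.mem_univ, true_and, Finset.mem_compl]
          split_ifs with hk
          · simp [hk]
          · simpa [hk, one_add_one_eq_two] using h2
        rw [e, Finset.card_compl, Fintype.card_fin, Fin.card_filter_val_lt]
        have := i.isLt
        omega
      rw [hc] at h3
      have := i.isLt
      omega
  have hblock : Even n → ∃ g : GL (Fin n) F, ∀ v, PGLInvol.op g (PGLInvol.op g v) = μ • v := by
    rintro ⟨m, rfl⟩
    let M : Matrix (Fin m ⊕ Fin m) (Fin m ⊕ Fin m) F := Matrix.fromBlocks 0 1 (μ • 1) 0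
    let M' : Matrix (Fin (m + m)) (Fin (m + m)) F := Matrix.reindexAlgEquiv F F finSumFinEquiv M
    have hM : M' * M' = μ • (1 : Matrix (Fin (m + m)) (Fin (m + m)) F) := by
      have : M * M = μ • 1 := by
        simp [M, Matrix.fromBlocks_multiply, ← Matrix.fromBlocks_one, Matrix.fromBlocks_smul]
      show Matrix.reindexAlgEquiv F F finSumFinEquiv M * Matrix.reindexAlgEquiv F F finSumFinEquiv M = _
      rw [← map_mul, this, map_smul, map_one]
    refine ⟨⟨M', μ⁻¹ • M', by rw [mul_smul_comm, hM, smul_smul, inv_mul_cancel₀ hμ0, one_smul],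
      by rw [smul_mul_assoc, hM, smul_smul, inv_mul_cancel₀ hμ0, one_smul]⟩, fun v => ?_⟩
    show Matrix.toLinAlgEquiv' M' (Matrix.toLinAlgEquiv' M' v) = μ • v
    rw [← Module.End.mul_apply, ← map_mul, hM, map_smul, map_one]
    rfl
  choose gd hgd1 hgd2 using hdiag
  choose gb hgb using hblock
  -- the invariants
  have hsq : ∀ {g : GL (Fin n) F}, PGLInvol.op g * PGLInvol.op g = 1 →
      ∀ v, PGLInvol.op g (PGLInvol.op g v) = (1 : F) • v := fun h v => by
    rw [← Module.End.mul_apply, h, Module.End.one_apply, one_smul]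
  have hrel : ∀ {g h : GL (Fin n) F} {a b : F}, IsConj (g : GL (Fin n) F ⧸ Z) (h : GL (Fin n) F ⧸ Z) →
      (∀ v, PGLInvol.op g (PGLInvol.op g v) = a • v) → (∀ v, PGLInvol.op h (PGLInvol.op h v) = b • v) →
      ∃ (L : (Fin n → F) ≃ₗ[F] (Fin n → F)) (c : Fˣ), a = (c : F) * (c : F) * b ∧
        ∀ v, L (PGLInvol.op g v) = (c : F) • PGLInvol.op h (L v) := by
    intro g h a b hc hg hh
    obtain ⟨L, c, hL⟩ := PGLInvol.isConj_mk_iff.1 hc
    refine ⟨L, c, hscal fun v => ?_, hL⟩
    obtain ⟨w, rfl⟩ := L.surjective v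
    rw [← map_smul, ← hg w, hL, hL, map_smul, smul_smul, hh, smul_smul]
  have hinv_sq : ∀ {g h : GL (Fin n) F}, PGLInvol.op g * PGLInvol.op g = 1 →
      PGLInvol.op h * PGLInvol.op h = 1 → IsConj (g : GL (Fin n) F ⧸ Z) (h : GL (Fin n) F ⧸ Z) →
      Module.finrank F (LinearMap.ker (PGLInvol.op g + 1)) = Module.finrank F (LinearMap.ker (PGLInvol.op h + 1)) ∨
      Module.finrank F (LinearMap.ker (PGLInvol.op g + 1)) + Module.finrank F (LinearMap.ker (PGLInvol.op h + 1)) = n := by
    intro g h hg hh hc
    obtain ⟨L, c, hc2, hL⟩ := hrel hc (hsq hg) (hsq hh)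
    rw [mul_one, eq_comm, mul_self_eq_one_iff] at hc2
    have key : ∀ b : Module.End F (Fin n → F), (∀ v, L (PGLInvol.op g v) = b (L v)) →
        Module.finrank F (LinearMap.ker (PGLInvol.op g + 1)) = Module.finrank F (LinearMap.ker (b + 1)) := by
      intro b hb
      refine LinearEquiv.finrank_eq ((L.submoduleMap _).trans (LinearEquiv.ofEq _ _ ?_))
      ext w
      constructor
      · rintro ⟨v, hv, rfl⟩
        simp only [SetLike.mem_coe, LinearMap.mem_ker, LinearMap.add_apply, Module.End.one_apply] at hv ⊢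
        simp only [LinearEquiv.coe_coe]
        rw [← hb, ← map_add, hv, map_zero]
      · intro hw
        refine ⟨L.symm w, ?_, L.apply_symm_apply w⟩
        simp only [SetLike.mem_coe, LinearMap.mem_ker, LinearMap.add_apply, Module.End.one_apply] at hw ⊢
        apply L.injective
        rw [map_add, hb, L.apply_symm_apply, hw, map_zero]
    rcases hc2 with e | e
    · exact Or.inl (key _ fun v => by rw [hL, e, one_smul])
    · refine Or.inr ?_
      rw [key (-PGLInvol.op h) fun v => by rw [hL, e, neg_one_smul, LinearMap.neg_apply],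
        PGLInvol.finrank_neg h2 hh, hd]
  have hord : ∀ (g : GL (Fin n) F) (a : F), (∀ v, PGLInvol.op g (PGLInvol.op g v) = a • v) → a ≠ 0 →
      (∀ c : F, ¬ ∀ v, PGLInvol.op g v = c • v) → orderOf (g : GL (Fin n) F ⧸ Z) = 2 := by
    intro g a hg ha hns
    haveI : Fact (Nat.Prime 2) := ⟨Nat.prime_two⟩
    refine orderOf_eq_prime ?_ fun h1 => ?_
    · rw [← QuotientGroup.mk_pow, eq_comm, ← QuotientGroup.mk_one, PGLInvol.mk_eq_iff]
      exact ⟨Units.mk0 a ha, fun v => by
        rw [pow_two, PGLInvol.op_mul, Module.End.mul_apply, hg, PGLInvol.op_one]; rfl⟩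
    · rw [eq_comm, ← QuotientGroup.mk_one, PGLInvol.mk_eq_iff] at h1
      obtain ⟨c, hc⟩ := h1
      exact hns c fun v => by rw [hc, PGLInvol.op_one]; rfl
  have hord_d : ∀ i, orderOf (gd i : GL (Fin n) F ⧸ Z) = 2 := fun i => by
    refine hord _ 1 (hsq (hgd1 i)) one_ne_zero fun c hc => ?_
    have h3 := hgd2 i
    have := i.isLt
    by_cases hc1 : c + 1 = 0
    · rw [show PGLInvol.op (gd i) + 1 = 0 from LinearMap.ext fun v => by
        simp only [LinearMap.add_apply, Module.End.one_apply, hc, LinearMap.zero_apply]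
        conv_lhs => rw [← one_smul F v, smul_smul, mul_one, ← add_smul, hc1, zero_smul],
        LinearMap.ker_zero, finrank_top, hd] at h3
      omega
    · rw [show LinearMap.ker (PGLInvol.op (gd i) + 1) = ⊥ from (Submodule.eq_bot_iff _).2 fun v hv => by
        simp only [LinearMap.mem_ker, LinearMap.add_apply, Module.End.one_apply, hc] at hv
        have : (c + 1) • v = 0 := by rw [add_smul, one_smul, hv]
        exact (smul_eq_zero.1 this).resolve_left hc1, finrank_bot] at h3
      omega
  have hord_b : ∀ he, orderOf (gb he : GL (Fin n) F ⧸ Z) = 2 := fun he => by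
    refine hord _ μ (hgb he) hμ0 fun c hc => hμ ⟨c, hscal fun v => ?_⟩
    rw [← hgb he v, hc, hc, smul_smul]
  let f : (Fin (n / 2) ⊕ {_u : Unit // Even n}) → {C : ConjClasses (GL (Fin n) F ⧸ Z) //
      ∃ g : GL (Fin n) F ⧸ Z, ConjClasses.mk g = C ∧ orderOf g = 2} :=
    Sum.elim (fun i => ⟨ConjClasses.mk (gd i : GL (Fin n) F ⧸ Z), _, rfl, hord_d i⟩)
      fun u => ⟨ConjClasses.mk (gb u.2 : GL (Fin n) F ⧸ Z), _, rfl, hord_b u.2⟩
  have hf : Function.Bijective f := by
    constructor
    · rintro (i | u) (j | u') h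
      · have hc := ConjClasses.mk_eq_mk_iff_isConj.1 (congrArg Subtype.val h)
        have hij := hinv_sq (hgd1 i) (hgd1 j) hc
        rw [hgd2, hgd2] at hij
        have := i.isLt
        have := j.isLt
        exact congrArg Sum.inl (Fin.ext (by omega))
      · have hc := ConjClasses.mk_eq_mk_iff_isConj.1 (congrArg Subtype.val h)
        obtain ⟨L, c, hc2, -⟩ := hrel hc (hsq (hgd1 i)) (hgb u'.2)
        refine absurd ⟨(c : F)⁻¹, ?_⟩ hμ
        field_simp
        linear_combination -hc2
      · have hc := ConjClasses.mk_eq_mk_iff_isConj.1 (congrArg Subtype.val h)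
        obtain ⟨L, c, hc2, -⟩ := hrel hc (hgb u.2) (hsq (hgd1 j))
        exact absurd ⟨(c : F), by rw [hc2, mul_one]⟩ hμ
      · exact congrArg Sum.inr (Subtype.ext rfl)
    · rintro ⟨C, x, rfl, hx⟩
      obtain ⟨g, rfl⟩ := QuotientGroup.mk_surjective x
      have hne : (g : GL (Fin n) F ⧸ Z) ≠ 1 := fun e => by rw [e, orderOf_one] at hx; omega
      have hsq2 : (g : GL (Fin n) F ⧸ Z) ^ 2 = 1 := hx ▸ pow_orderOf_eq_one _
      rw [← QuotientGroup.mk_pow, eq_comm, ← QuotientGroup.mk_one, PGLInvol.mk_eq_iff] at hsq2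
      obtain ⟨a, ha⟩ := hsq2
      have ha' : ∀ v, PGLInvol.op g (PGLInvol.op g v) = (a : F) • v := fun v => by
        have h3 := ha v
        rwa [pow_two, PGLInvol.op_mul, Module.End.mul_apply, PGLInvol.op_one] at h3
      by_cases hsa : IsSquare (a : F)
      · obtain ⟨s, hs⟩ := hsa
        have hs0 : s ≠ 0 := fun e => a.ne_zero (by rw [hs, e, mul_zero])
        have norm : ∀ e : F, e * e = 1 → ∃ g' : GL (Fin n) F,
            PGLInvol.op g' * PGLInvol.op g' = 1 ∧ (g' : GL (Fin n) F ⧸ Z) = g ∧
              PGLInvol.op g' = (e * s⁻¹) • PGLInvol.op g := by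
          intro e he
          have he0 : e * s⁻¹ ≠ 0 := mul_ne_zero (left_ne_zero_of_mul_eq_one he) (inv_ne_zero hs0)
          refine ⟨g * Matrix.GeneralLinearGroup.scalar (Fin n) (Units.mk0 _ he0), ?_, ?_, ?_⟩
          · refine LinearMap.ext fun v => ?_
            simp only [PGLInvol.op_mul, Module.End.mul_apply, PGLInvol.op_scalar, map_smul, Units.val_mk0,
              smul_smul, ha', Module.End.one_apply]
            rw [hs, show e * s⁻¹ * (e * s⁻¹ * (s * s)) = (e * e) * (s⁻¹ * s) * (s⁻¹ * s) by ring,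
              he, inv_mul_cancel₀ hs0, one_mul, one_mul, one_smul]
          · refine QuotientGroup.mk_mul_of_mem g ?_
            show _ ∈ Subgroup.center (GL (Fin n) F)
            rw [Matrix.GeneralLinearGroup.center_eq_range_scalar]
            exact ⟨_, rfl⟩
          · refine LinearMap.ext fun v => ?_
            simp only [PGLInvol.op_mul, Module.End.mul_apply, PGLInvol.op_scalar, map_smul, Units.val_mk0,
              LinearMap.smul_apply]
        obtain ⟨g1, h11, h12, h13⟩ := norm 1 (one_mul 1)
        obtain ⟨g2, h21, h22, h23⟩ := norm (-1) (by ring)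
        have hsum : Module.finrank F (LinearMap.ker (PGLInvol.op g2 + 1)) +
            Module.finrank F (LinearMap.ker (PGLInvol.op g1 + 1)) = n := by
          rw [show PGLInvol.op g2 = -PGLInvol.op g1 from LinearMap.ext fun v => by simp [h13, h23],
            PGLInvol.finrank_neg h2 h11, hd]
        have hpos : ∀ {g' : GL (Fin n) F}, PGLInvol.op g' * PGLInvol.op g' = 1 →
            (g' : GL (Fin n) F ⧸ Z) = g → 1 ≤ Module.finrank F (LinearMap.ker (PGLInvol.op g' + 1)) := by
          intro g' h1 h3
          by_contra hlt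
          refine hne ?_
          rw [← h3, PGLInvol.op_injective ((PGLInvol.eq_one_of_ker_eq_bot h1 (by omega)).trans
            PGLInvol.op_one.symm)]
          rfl
        obtain ⟨g', h1, h3, hle⟩ : ∃ g' : GL (Fin n) F, PGLInvol.op g' * PGLInvol.op g' = 1 ∧
            (g' : GL (Fin n) F ⧸ Z) = g ∧
              Module.finrank F (LinearMap.ker (PGLInvol.op g' + 1)) ≤ n / 2 := by
          by_cases hle : Module.finrank F (LinearMap.ker (PGLInvol.op g1 + 1)) ≤ n / 2
          · exact ⟨g1, h11, h12, hle⟩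
          · exact ⟨g2, h21, h22, by omega⟩
        have hp := hpos h1 h3
        refine ⟨Sum.inl ⟨Module.finrank F (LinearMap.ker (PGLInvol.op g' + 1)) - 1, by omega⟩,
          Subtype.ext (ConjClasses.mk_eq_mk_iff_isConj.2 ?_)⟩
        rw [← h3]
        obtain ⟨L, hL⟩ := PGLInvol.exists_equiv_invol h2 (hgd1 _) h1
          ((hgd2 ⟨Module.finrank F (LinearMap.ker (PGLInvol.op g' + 1)) - 1, by omega⟩).trans (by simp only; omega))
        exact PGLInvol.isConj_mk_iff.2 ⟨L, 1, fun v => by rw [hL, Units.val_one, one_smul]⟩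
      · obtain ⟨s, hs⟩ : IsSquare ((a : F) / μ) := by
          have hq : ringChar F ≠ 2 := fun h => h2 (by
            haveI : CharP F 2 := ringChar.of_eq h
            exact CharTwo.two_eq_zero)
          rw [FiniteField.isSquare_iff hq (div_ne_zero a.ne_zero hμ0), div_pow,
            (FiniteField.pow_dichotomy hq a.ne_zero).resolve_left
              (fun h => hsa ((FiniteField.isSquare_iff hq a.ne_zero).2 h)),
            (FiniteField.pow_dichotomy hq hμ0).resolve_left
              (fun h => hμ ((FiniteField.isSquare_iff hq hμ0).2 h))]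
          simp
        have he : Even n := hd ▸ PGLInvol.even_finrank_nonsquare hsa ha'
        have hs0 : s ≠ 0 := fun e => div_ne_zero a.ne_zero hμ0 (by rw [hs, e, mul_zero])
        refine ⟨Sum.inr ⟨(), he⟩, Subtype.ext (ConjClasses.mk_eq_mk_iff_isConj.2 ?_)⟩
        refine (IsConj.symm (PGLInvol.isConj_mk_iff.2 ?_))
        obtain ⟨L, hL⟩ := PGLInvol.exists_equiv_nonsquare hμ (a := s⁻¹ • PGLInvol.op g)
          (b := PGLInvol.op (gb he)) (fun v => by
            simp only [LinearMap.smul_apply, map_smul, ha', smul_smul]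
            congr 1
            rw [← div_mul_cancel₀ (a : F) hμ0, hs]
            field_simp) (hgb he)
        refine ⟨L, Units.mk0 s hs0, fun v => ?_⟩
        rw [Units.val_mk0, ← hL, LinearMap.smul_apply, map_smul, smul_smul, mul_inv_cancel₀ hs0, one_smul]
  rw [← Nat.card_congr (Equiv.ofBijective f hf), Nat.card_sum, Nat.card_fin]
  congr 1
  split_ifs with he
  · haveI : Unique {_u : Unit // Even n} := ⟨⟨⟨(), he⟩⟩, fun u => Subtype.ext rfl⟩
    exact Nat.card_unique
  · haveI : IsEmpty {_u : Unit // Even n} := ⟨fun u => he u.2⟩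
    exact Nat.card_of_isEmpty

end Cfsg.Agent.S2577
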