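import Cfsg.Statements.S2578
import Cfsg.Agent.Lib.GL.Basic
import Cfsg.Agent.Lib.RegNilp.Matrix

set_option autoImplicit false
open Cfsg

namespace Cfsg.Agent.S2578

open scoped Matrix

variable {F : Type*} [Field F] {k : ℕ}

/-- A regular unipotent element of `SL`. -/
def IsRegUni (u : Matrix.SpecialLinearGroup (Fin (k + 1)) F) : Prop :=
  ((u : Matrix (Fin (k + 1)) (Fin (k + 1)) F) - 1) ^ (k + 1) = 0 ∧
    ((u : Matrix (Fin (k + 1)) (Fin (k + 1)) F) - 1).rank = k + 1 - 1

theorem exists_regular (k : ℕ) : ∃ u : Matrix.SpecialLinearGroup (Fin (k + 1)) F, IsRegUni u := by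
  let N : Matrix (Fin (k + 1)) (Fin (k + 1)) F := Matrix.of fun i j => if (i : ℕ) = (j : ℕ) + 1 then 1 else 0
  have h0 : ∀ (v : Fin (k + 1) → F), (N *ᵥ v) 0 = 0 := fun v => by simp [N, Matrix.mulVec, dotProduct]
  have hs : ∀ (v : Fin (k + 1) → F) (i : Fin k), (N *ᵥ v) i.succ = v i.castSucc := fun v i => by
    simp only [N, Matrix.mulVec, dotProduct, Matrix.of_apply, ite_mul, one_mul, zero_mul]
    rw [Finset.sum_eq_single i.castSucc]
    · simp
    · intro b _ hb; rw [if_neg]; simp [Fin.ext_iff] at hb ⊢; omega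
    · simp
  have hpow : ∀ (j : ℕ) (v : Fin (k + 1) → F) (i : Fin (k + 1)), (i : ℕ) < j → ((N ^ j) *ᵥ v) i = 0 := by
    intro j
    induction j with
    | zero => intro v i h; omega
    | succ j ih =>
      intro v i hi
      rw [pow_succ', ← Matrix.mulVec_mulVec]
      induction i using Fin.cases with
      | zero => exact h0 _
      | succ i => rw [hs]; exact ih v _ (by simpa using hi)
  have hN : N ^ (k + 1) = 0 := by
    refine Matrix.ext_iff_mulVec.2 fun v => funext fun i => ?_
    simp [hpow (k + 1) v i i.2]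
  have hdet : (1 + N).det = 1 := by
    have h := RegNilp.det_algebraMap_add (f := Matrix.toLinAlgEquiv' N) ⟨k + 1, by rw [← map_pow, hN, map_zero]⟩ 1
    rw [map_one, one_pow] at h
    rw [← LinearMap.det_toLin', ← h]
    congr 1
    simp [map_add]
    rfl
  refine ⟨⟨1 + N, hdet⟩, ?_⟩
  simp only [IsRegUni, add_sub_cancel_left, Nat.add_sub_cancel]
  refine ⟨hN, ?_⟩
  let L : (Fin k → F) →ₗ[F] (Fin (k + 1) → F) :=
    { toFun := fun v => Fin.cons 0 v
      map_add' := fun u v => by funext i; induction i using Fin.cases <;> simp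
      map_smul' := fun c v => by funext i; induction i using Fin.cases <;> simp }
  have hr : LinearMap.range N.mulVecLin = LinearMap.range L := by
    ext y
    constructor
    · rintro ⟨v, rfl⟩
      refine ⟨fun i => v i.castSucc, funext fun i => ?_⟩
      induction i using Fin.cases with
      | zero => simp [L, h0]
      | succ i => simp [L, hs]
    · rintro ⟨v, rfl⟩
      refine ⟨Fin.snoc v 0, funext fun i => ?_⟩
      induction i using Fin.cases with
      | zero => simp [L, h0]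
      | succ i => simp [L, hs]
  rw [Matrix.rank, hr, LinearMap.finrank_range_of_inj (fun u v h => funext fun i => ?_),
    Module.finrank_fintype_fun_eq_card, Fintype.card_fin]
  simpa [L] using congrFun h i.succ

/-- A diagonal matrix of determinant `c`. -/
noncomputable def dg (c : Fˣ) : GL (Fin (k + 1)) F := GL.diagHom (Pi.mulSingle 0 c)

theorem det_dg (c : Fˣ) : Matrix.GeneralLinearGroup.det (dg (k := k) c) = c := by
  rw [dg, GL.det_diagHom, Finset.prod_pi_mulSingle', if_pos (Finset.mem_univ _)]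

/-- Conjugate of `u` by a diagonal matrix. -/
noncomputable def twist (c : Fˣ) (u : Matrix.SpecialLinearGroup (Fin (k + 1)) F) :
    Matrix.SpecialLinearGroup (Fin (k + 1)) F :=
  ⟨(dg c : GL (Fin (k + 1)) F) * (u : Matrix (Fin (k + 1)) (Fin (k + 1)) F) * ((dg c)⁻¹ : GL (Fin (k + 1)) F), by
    rw [Matrix.det_units_conj, u.2]⟩

theorem toGL_twist (c : Fˣ) (u : Matrix.SpecialLinearGroup (Fin (k + 1)) F) :
    Matrix.SpecialLinearGroup.toGL (twist c u) = dg c * Matrix.SpecialLinearGroup.toGL u * (dg c)⁻¹ :=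
  Units.ext rfl

theorem twist_regular (c : Fˣ) {u : Matrix.SpecialLinearGroup (Fin (k + 1)) F} (hu : IsRegUni u) :
    IsRegUni (twist c u) := by
  have h : ((twist c u : Matrix.SpecialLinearGroup (Fin (k + 1)) F) : Matrix (Fin (k + 1)) (Fin (k + 1)) F) - 1 =
      (dg c : GL (Fin (k + 1)) F) * ((u : Matrix (Fin (k + 1)) (Fin (k + 1)) F) - 1) *
        ((dg c)⁻¹ : GL (Fin (k + 1)) F) := by
    rw [mul_sub, sub_mul, mul_one, Units.mul_inv]; rfl
  refine ⟨?_, ?_⟩
  · rw [h, Units.conj_pow, hu.1, mul_zero, zero_mul]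
  · rw [h, Matrix.rank_mul_eq_left_of_isUnit_det _ _ (Matrix.isUnits_det_units _),
      Matrix.rank_mul_eq_right_of_isUnit_det _ _ (Matrix.isUnits_det_units _), hu.2]

theorem isConj_twist {u u₀ : Matrix.SpecialLinearGroup (Fin (k + 1)) F} (g : GL (Fin (k + 1)) F)
    (hg : (g : Matrix (Fin (k + 1)) (Fin (k + 1)) F) * (u₀ : Matrix (Fin (k + 1)) (Fin (k + 1)) F) =
      (u : Matrix (Fin (k + 1)) (Fin (k + 1)) F) * (g : Matrix (Fin (k + 1)) (Fin (k + 1)) F)) :
    IsConj (twist (Matrix.GeneralLinearGroup.det g) u₀) u := by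
  have hm : g * (dg (Matrix.GeneralLinearGroup.det g))⁻¹ ∈
      (Matrix.GeneralLinearGroup.det : GL (Fin (k + 1)) F →* Fˣ).ker := by
    rw [MonoidHom.mem_ker, map_mul, map_inv, det_dg, mul_inv_cancel]
  rw [GL.det_ker_eq_range_toGL] at hm
  obtain ⟨a, ha⟩ := hm
  refine isConj_iff.2 ⟨a, Matrix.SpecialLinearGroup.toGL_injective ?_⟩
  have hg' : g * Matrix.SpecialLinearGroup.toGL u₀ = Matrix.SpecialLinearGroup.toGL u * g := Units.ext hg
  rw [map_mul, map_mul, map_inv, toGL_twist, ha, mul_inv_rev, inv_inv]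
  generalize dg (Matrix.GeneralLinearGroup.det g) = D
  calc g * D⁻¹ * (D * Matrix.SpecialLinearGroup.toGL u₀ * D⁻¹) * (D * g⁻¹)
      = g * Matrix.SpecialLinearGroup.toGL u₀ * g⁻¹ := by group
    _ = Matrix.SpecialLinearGroup.toGL u := by rw [hg', mul_assoc, mul_inv_cancel, mul_one]

theorem det_mem_powers {u : Matrix.SpecialLinearGroup (Fin (k + 1)) F} (hu : IsRegUni u)
    (g : GL (Fin (k + 1)) F) (hg : Commute g (Matrix.SpecialLinearGroup.toGL u)) :
    Matrix.GeneralLinearGroup.det g ∈ (powMonoidHom (k + 1) : Fˣ →* Fˣ).range := by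
  have hn : k + 1 = Fintype.card (Fin (k + 1)) := (Fintype.card_fin _).symm
  have hd : Module.finrank F (Fin (k + 1) → F) = k + 1 := by simp
  have h0 := RegNilp.toLin_pow_eq_zero hn hu.1
  obtain ⟨v, hv⟩ := RegNilp.exists_cyclic h0 (RegNilp.finrank_range_toLin hn hu.2) (by omega)
  have hc : Commute (g : Matrix (Fin (k + 1)) (Fin (k + 1)) F) ((u : Matrix (Fin (k + 1)) (Fin (k + 1)) F) - 1) :=
    RegNilp.commute_sub_one_iff.2 (congrArg Units.val hg)
  obtain ⟨P, hP⟩ := RegNilp.eq_aeval_of_commute (by omega) ⟨_, h0⟩ hv (hc.map Matrix.toLinAlgEquiv')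
  have h := RegNilp.det_aeval ⟨_, h0⟩ P
  rw [← hP, hd] at h
  have hdet : (Matrix.GeneralLinearGroup.det g : F) = P.eval 0 ^ (k + 1) := by
    rw [← h, Matrix.GeneralLinearGroup.val_det_apply, ← LinearMap.det_toLin']
    rfl
  have hne : P.eval 0 ≠ 0 := fun h => (Matrix.GeneralLinearGroup.det g).ne_zero (by rw [hdet, h, zero_pow (Nat.succ_ne_zero k)])
  exact ⟨Units.mk0 _ hne, Units.ext hdet.symm⟩

theorem isConj_twist_iff {u : Matrix.SpecialLinearGroup (Fin (k + 1)) F} (hu : IsRegUni u) (a b : Fˣ) :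
    IsConj (twist a u) (twist b u) ↔ a⁻¹ * b ∈ (powMonoidHom (k + 1) : Fˣ →* Fˣ).range := by
  constructor
  · intro h
    obtain ⟨s, hs⟩ := isConj_iff.1 h
    have hs' := congrArg Matrix.SpecialLinearGroup.toGL hs
    rw [map_mul, map_mul, map_inv, toGL_twist, toGL_twist] at hs'
    have hcomm : Commute ((dg b)⁻¹ * Matrix.SpecialLinearGroup.toGL s * dg a) (Matrix.SpecialLinearGroup.toGL u) := by
      set U := Matrix.SpecialLinearGroup.toGL u
      set S := Matrix.SpecialLinearGroup.toGL s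
      calc (dg b)⁻¹ * S * dg a * U = (dg b)⁻¹ * (S * (dg a * U * (dg a)⁻¹) * S⁻¹) * (S * dg a) := by group
        _ = (dg b)⁻¹ * (dg b * U * (dg b)⁻¹) * (S * dg a) := by rw [hs']
        _ = U * ((dg b)⁻¹ * S * dg a) := by group
    have := det_mem_powers hu _ hcomm
    rw [map_mul, map_mul, map_inv, det_dg, det_dg,
      show Matrix.GeneralLinearGroup.det (Matrix.SpecialLinearGroup.toGL s) = 1 from Units.ext s.2, mul_one] at this
    have := inv_mem this
    rwa [mul_inv_rev, inv_inv] at this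
  · rintro ⟨c, hc⟩
    rw [powMonoidHom_apply] at hc
    let Z : GL (Fin (k + 1)) F := GL.diagHom fun _ => c
    have hZ : ∀ x : GL (Fin (k + 1)) F, Z * x = x * Z := fun x => Units.ext (by
      show Matrix.diagonal (fun _ => (c : F)) * x.val = x.val * Matrix.diagonal (fun _ => (c : F))
      rw [← Matrix.smul_one_eq_diagonal, smul_mul_assoc, mul_smul_comm, one_mul, mul_one])
    have hdet : Matrix.GeneralLinearGroup.det (dg a * Z) = b := by
      rw [map_mul, det_dg, GL.det_diagHom]; simp [hc]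
    have h := isConj_twist (u := twist a u) (u₀ := u) (dg a * Z) (congrArg Units.val (show
      dg a * Z * Matrix.SpecialLinearGroup.toGL u = Matrix.SpecialLinearGroup.toGL (twist a u) * (dg a * Z) by
        rw [toGL_twist, mul_assoc, hZ]; group))
    rw [hdet] at h
    exact h.symm

/-- Regular unipotent classes of SL_n(q): for n ≥ 2 over the field with q elements, the matrices u of determinant one with (u − 1)^n = 0 and rank(u − 1) = n − 1 form a single GL_n(q)-class which splits into exactly gcd(n, q − 1) conjugacy classes of SL_n(q). -/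
theorem result {F : Type*} [Field F] [Fintype F] {q : ℕ} (hF : Fintype.card F = q) {n : ℕ} (hn : 2 ≤ n) : Nat.card {C : ConjClasses (Matrix.SpecialLinearGroup (Fin n) F) // ∃ u : Matrix.SpecialLinearGroup (Fin n) F, ConjClasses.mk u = C ∧ ((u : Matrix (Fin n) (Fin n) F) - 1) ^ n = 0 ∧ ((u : Matrix (Fin n) (Fin n) F) - 1).rank = n - 1} = Nat.gcd n (q - 1) := by
  classical
  obtain ⟨k, rfl⟩ : ∃ k, n = k + 1 := ⟨n - 1, by omega⟩
  obtain ⟨u₀, hu₀⟩ := exists_regular (F := F) k
  let C := {C : ConjClasses (Matrix.SpecialLinearGroup (Fin (k + 1)) F) //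
    ∃ u : Matrix.SpecialLinearGroup (Fin (k + 1)) F, ConjClasses.mk u = C ∧
      ((u : Matrix (Fin (k + 1)) (Fin (k + 1)) F) - 1) ^ (k + 1) = 0 ∧
      ((u : Matrix (Fin (k + 1)) (Fin (k + 1)) F) - 1).rank = k + 1 - 1}
  let H : Subgroup Fˣ := (powMonoidHom (k + 1)).range
  let f : Fˣ → C := fun c => ⟨ConjClasses.mk (twist c u₀), twist c u₀, rfl, twist_regular c hu₀⟩
  have hf : Function.Surjective f := by
    rintro ⟨_, u, rfl, h1, h2⟩
    obtain ⟨g, hg⟩ := RegNilp.exists_conj (Fintype.card_fin (k + 1)).symm (by omega) hu₀.1 hu₀.2 h1 h2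
    refine ⟨Matrix.GeneralLinearGroup.det g, Subtype.ext (ConjClasses.mk_eq_mk_iff_isConj.2 ?_)⟩
    rw [mul_sub, sub_mul, mul_one, one_mul, sub_left_inj] at hg
    exact isConj_twist g hg
  have hfib : ∀ a b, f a = f b ↔ a⁻¹ * b ∈ H := by
    intro a b
    rw [Subtype.ext_iff]
    exact ConjClasses.mk_eq_mk_iff_isConj.trans (isConj_twist_iff hu₀ a b)
  let F' : Fˣ ⧸ H → C := Quotient.lift f fun a b h => (hfib a b).2 (QuotientGroup.leftRel_apply.1 h)
  have hF' : Function.Bijective F' := by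
    constructor
    · rintro ⟨a⟩ ⟨b⟩ h
      exact Quotient.sound (QuotientGroup.leftRel_apply.2 ((hfib a b).1 h))
    · intro x
      obtain ⟨c, hc⟩ := hf x
      exact ⟨Quotient.mk _ c, hc⟩
  show Nat.card C = _
  rw [← Nat.card_congr (Equiv.ofBijective F' hF'), ← Subgroup.index_eq_card, IsCyclic.index_powMonoidHom_range,
    Nat.card_units, Nat.card_eq_fintype_card, hF, Nat.gcd_comm]

end Cfsg.Agent.S2578
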