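import Cfsg.Statements.S2582
import Cfsg.Agent.Lib.UnipForms.Realize
import Cfsg.Agent.Lib.Forms.Symp

set_option autoImplicit false
open Cfsg

namespace Cfsg.Agent.S2582

/-- Which unipotent Jordan types occur in the finite symplectic group: over a finite field, a unipotent matrix with Jordan block sizes d_1, …, d_t (sum 2m, all at least 1) is similar to an element of Sp_2m(F) if and only if every odd block size occurs an even number of times. -/
theorem result {F : Type*} [Field F] [Fintype F] {m t : ℕ} (d : Fin t → ℕ) (hd : ∀ k, 1 ≤ d k) (hsum : ∑ k, d k = 2 * m) : (∃ e : ((k : Fin t) × Fin (d k)) ≃ (Fin m ⊕ Fin m), ∃ A : Matrix.symplecticGroup (Fin m) F, IsConj (Matrix.reindex e e (Cfsg.jordanTypeMatrix d F)) (A : Matrix (Fin m ⊕ Fin m) (Fin m ⊕ Fin m) F)) ↔ ∀ j : ℕ, Odd j → Even (Finset.univ.filter (fun k : Fin t => d k = j)).card := by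
  open UnipForms LinRep.JordanType Forms in
  constructor
  · rintro ⟨e, ⟨A, hA⟩, hc⟩ j hj
    obtain ⟨-, hty⟩ := (isConj_jordan_iff d e A).1 hc
    rw [← count_map_fin]
    refine even_count_of_odd hty (fun i => ?_) hj
    rw [map_sub, map_one]
    exact even_rankDim_isAlt (sympB_isAlt m) (fun y hy => (sympB_nondegenerate m).2 y hy)
      (fun x y => by rw [sympB_apply, sympB_apply]; exact mem_symplecticGroup_iff_form.1 hA x y) i
  · intro h
    obtain ⟨n, B, N, hB, hs, hi, hnil, hty⟩ := altReal_of_parity (F := F) _ (pos_of_mem_map hd)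
      fun j hj => by rw [count_map_fin]; exact h j hj
    obtain ⟨m', L, hm', hL⟩ := SympTwo.exists_alt_equiv hB hs
    have hmm : m' = m := by
      have := finrank_of_hasType hty
      omega
    subst hmm
    let M : Module.End F (Fin m' ⊕ Fin m' → F) := L.toLinearMap ∘ₗ N ∘ₗ L.symm.toLinearMap
    have hM : ∀ v, L (N v) = M (L v) := fun v => by simp [M]
    let A : Matrix (Fin m' ⊕ Fin m') (Fin m' ⊕ Fin m') F := 1 + Matrix.toLinAlgEquiv'.symm M
    have hA1 : Matrix.toLinAlgEquiv' (A - 1) = M := by simp [A]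
    have hmem : A ∈ Matrix.symplecticGroup (Fin m') F := by
      refine mem_symplecticGroup_iff_form.2 fun u v => ?_
      have e : ∀ w, A.mulVec w = L (L.symm w + N (L.symm w)) := fun w => by
        show Matrix.toLinAlgEquiv' A w = _
        simp [A, M]
      rw [e, e, ← hL, hi, hL, L.apply_symm_apply, L.apply_symm_apply]
    exact ⟨Fintype.equivOfCardEq (by simp [hsum, two_mul]), ⟨A, hmem⟩, (isConj_jordan_iff d _ _).2
      ⟨hA1.symm ▸ isNilpotent_conj L hM hnil, hA1.symm ▸ hasType_conj L hM hty⟩⟩

end Cfsg.Agent.S2582
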