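import Cfsg.Statements.S2583
import Cfsg.Agent.Lib.UnipForms.Realize

set_option autoImplicit false
open Cfsg

namespace Cfsg.Agent.S2583

/-- Which unipotent Jordan types occur in a finite orthogonal group in odd characteristic: over a finite field of odd order, a unipotent matrix with Jordan block sizes d_1, …, d_t (sum n, all at least 1) is similar to an isometry of some quadratic form on F^n with non-degenerate polar form if and only if every even block size occurs an even number of times. -/
theorem result {F : Type*} [Field F] [Fintype F] (h2 : (2 : F) ≠ 0) {n t : ℕ} (d : Fin t → ℕ) (hd : ∀ k, 1 ≤ d k) (hsum : ∑ k, d k = n) : (∃ Q : QuadraticForm F (Fin n → F), (QuadraticMap.polarBilin Q).Nondegenerate ∧ ∃ e : ((k : Fin t) × Fin (d k)) ≃ Fin n, ∃ A : ↥(Cfsg.isometryGroup F ⇑Q), IsConj (Matrix.reindex e e (Cfsg.jordanTypeMatrix d F)) ((A : Matrix.GeneralLinearGroup (Fin n) F) : Matrix (Fin n) (Fin n) F)) ↔ ∀ j : ℕ, Even j → 0 < j → Even (Finset.univ.filter (fun k : Fin t => d k = j)).card := by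
  open UnipForms LinRep.JordanType in
  constructor
  · rintro ⟨Q, hQ, e, ⟨g, hg⟩, hc⟩ j hj hpos
    obtain ⟨hnil, hty⟩ := (isConj_jordan_iff d e _).1 hc
    rw [map_sub, map_one] at hnil hty
    rw [← count_map_fin]
    refine even_count_of_even hty (fun i => ?_) hj hpos
    refine even_rankDim_isSymm (B := QuadraticMap.polarBilin Q) h2
      (fun x y => QuadraticMap.polar_comm Q x y) (fun x hx => hQ.1 x hx) (fun x y => ?_) hnil i
    have hq : ∀ u, Q (Matrix.toLinAlgEquiv' (g : Matrix (Fin n) (Fin n) F) u) = Q u := fun u => hg u 0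
    simp only [QuadraticMap.polarBilin_apply_apply, QuadraticMap.polar, ← map_add, hq]
  · intro h
    exact exists_matrix_isometry hsum (quadReal_of_parity_odd h2 _ (pos_of_mem_map hd)
      fun j hj hpos => by rw [count_map_fin]; exact h j hj hpos)

end Cfsg.Agent.S2583
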