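import Cfsg.Statements.S2585
-- import your own Cfsg.Agent.* helpers here

set_option autoImplicit false
open Cfsg

namespace Cfsg.Agent.S2585

open scoped Matrix

theorem sympForm_eq {F : Type*} [Field F] [CharP F 2] {m : ℕ} (u v : Fin m ⊕ Fin m → F) :
    Cfsg.sympForm m F u v = ∑ i, (u (.inl i) * v (.inr i) + u (.inr i) * v (.inl i)) := by
  simp [Cfsg.sympForm, Matrix.J, Matrix.fromBlocks_mulVec, dotProduct, Fintype.sum_sum_type,
    Finset.sum_add_distrib, CharTwo.neg_eq, Matrix.neg_mulVec]

theorem polar_sum_proj {F : Type*} [Field F] {m : ℕ} (u v : Fin m ⊕ Fin m → F) :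
    QuadraticMap.polar ⇑(∑ i : Fin m, QuadraticMap.proj (R := F) (Sum.inl i : Fin m ⊕ Fin m) (Sum.inr i)) u v =
      ∑ i, (u (.inl i) * v (.inr i) + u (.inr i) * v (.inl i)) := by
  simp only [QuadraticMap.polar, QuadraticMap.sum_apply, QuadraticMap.proj_apply, Pi.add_apply,
    ← Finset.sum_sub_distrib]
  exact Finset.sum_congr rfl fun i _ => by ring

/-- Over a finite field of characteristic two every element of the symplectic group is orthogonal for a suitable quadratic form: for each A in Sp_2m(F) there is a quadratic form Q on F^(2m) whose polar form is the alternating form defining Sp_2m(F) (so Q is non-degenerate) and which A preserves. Equivalently, for m ≥ 1, Sp_2m(F) is the union of the conjugates of its two orthogonal subgroups O⁺_2m(F) and O⁻_2m(F). -/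
theorem result {F : Type*} [Field F] [Fintype F] [CharP F 2] {m : ℕ} (A : Matrix.symplecticGroup (Fin m) F) : ∃ Q : QuadraticForm F (Fin m ⊕ Fin m → F), (∀ u v : Fin m ⊕ Fin m → F, QuadraticMap.polar ⇑Q u v = Cfsg.sympForm m F u v) ∧ ∀ v : Fin m ⊕ Fin m → F, Q ((A : Matrix (Fin m ⊕ Fin m) (Fin m ⊕ Fin m) F).mulVec v) = Q v := by
  classical
  let M : Matrix (Fin m ⊕ Fin m) (Fin m ⊕ Fin m) F := A
  let Q₀ : QuadraticForm F (Fin m ⊕ Fin m → F) :=
    ∑ i : Fin m, QuadraticMap.proj (R := F) (Sum.inl i : Fin m ⊕ Fin m) (Sum.inr i)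
  have hpol : ∀ u v, QuadraticMap.polar ⇑Q₀ u v = Cfsg.sympForm m F u v := fun u v => by
    rw [polar_sum_proj, sympForm_eq]
  have hinv : ∀ u v, Cfsg.sympForm m F (M *ᵥ u) (M *ᵥ v) = Cfsg.sympForm m F u v := fun u v => by
    rw [Cfsg.sympForm, Cfsg.sympForm, ← Matrix.vecMul_transpose, ← Matrix.dotProduct_mulVec,
      Matrix.mulVec_mulVec, Matrix.mulVec_mulVec, SymplecticGroup.mem_iff'.1 A.2]
  have hadd : ∀ u v, Q₀ (u + v) = Q₀ u + Q₀ v + Cfsg.sympForm m F u v := fun u v => by
    rw [← hpol, QuadraticMap.polar]; ring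
  let D : (Fin m ⊕ Fin m → F) → F := fun v => Q₀ (M *ᵥ v) + Q₀ v
  let φ : (Fin m ⊕ Fin m → F) →ₗ[F] F :=
    { toFun := fun v => (frobeniusEquiv F 2).symm (D v)
      map_add' := fun u v => by
        rw [← map_add]
        congr 1
        simp only [D, Matrix.mulVec_add, hadd, hinv]
        linear_combination CharTwo.add_self_eq_zero (Cfsg.sympForm m F u v)
      map_smul' := fun c v => by
        apply (frobeniusEquiv F 2).injective
        simp only [RingEquiv.apply_symm_apply, RingHom.id_apply, smul_eq_mul, map_mul, D,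
          Matrix.mulVec_smul, QuadraticMap.map_smul, frobeniusEquiv_apply, frobenius_def,
          frobeniusEquiv_symm_pow_p]
        ring }
  have hφ : ∀ v, φ v ^ 2 = D v := fun v => frobeniusEquiv_symm_pow_p F 2 (D v)
  let T := Matrix.mulVecLin (M - 1)
  have hmem : φ ∈ LinearMap.range T.dualMap := by
    rw [LinearMap.range_dualMap_eq_dualAnnihilator_ker, Submodule.mem_dualAnnihilator]
    intro w hw
    rw [LinearMap.mem_ker, Matrix.mulVecLin_apply, Matrix.sub_mulVec, Matrix.one_mulVec, sub_eq_zero] at hw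
    have h := hφ w
    simp only [D, hw, CharTwo.add_self_eq_zero] at h
    exact pow_eq_zero_iff two_ne_zero |>.1 h
  obtain ⟨l, hl⟩ := hmem
  refine ⟨Q₀ + QuadraticMap.linMulLin l l, fun u v => ?_, fun v => ?_⟩
  · rw [← hpol]
    simp only [QuadraticMap.polar, QuadraticMap.add_apply, QuadraticMap.linMulLin_apply, map_add]
    linear_combination CharTwo.add_self_eq_zero (l u * l v)
  · have h1 : l (M *ᵥ v) = l v + φ v := by
      rw [← hl]
      simp [T, Matrix.sub_mulVec, map_sub]
    show (Q₀ + QuadraticMap.linMulLin l l) (M *ᵥ v) = _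
    simp only [QuadraticMap.add_apply, QuadraticMap.linMulLin_apply, h1]
    have h2 := hφ v
    simp only [D] at h2
    linear_combination h2 + CharTwo.add_self_eq_zero (l v * φ v) + CharTwo.add_self_eq_zero (Q₀ (M *ᵥ v))

end Cfsg.Agent.S2585
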