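import Cfsg.Statements.S2586
import Cfsg.Agent.Lib.SimTranspose.Basic

set_option autoImplicit false
open Cfsg

namespace Cfsg.Agent.S2586

/-- Over a finite field, every element of the symplectic group Sp_2m(F) is conjugate by an invertible matrix to its inverse. -/
theorem result {F : Type*} [Field F] [Finite F] {m : ℕ} (A : Matrix.symplecticGroup (Fin m) F) : IsConj (A : Matrix (Fin m ⊕ Fin m) (Fin m ⊕ Fin m) F) ((A⁻¹ : Matrix.symplecticGroup (Fin m) F) : Matrix (Fin m ⊕ Fin m) (Fin m ⊕ Fin m) F) := by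
  let J := Matrix.J (Fin m) F
  have hJ : J * J = -1 := Matrix.J_squared (Fin m) F
  let u : (Matrix (Fin m ⊕ Fin m) (Fin m ⊕ Fin m) F)ˣ :=
    ⟨-J, J, by rw [neg_mul, hJ, neg_neg], by rw [mul_neg, hJ, neg_neg]⟩
  refine (SimTranspose.isConj_transpose _).trans ⟨u, ?_⟩
  show -J * (A : Matrix (Fin m ⊕ Fin m) (Fin m ⊕ Fin m) F).transpose =
    ((A⁻¹ : Matrix.symplecticGroup (Fin m) F) : Matrix (Fin m ⊕ Fin m) (Fin m ⊕ Fin m) F) * -J
  rw [SymplecticGroup.coe_inv, Matrix.mul_assoc _ (Matrix.J (Fin m) F), mul_neg, hJ, neg_neg, mul_one]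

end Cfsg.Agent.S2586
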