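import Cfsg.Statements.S2587
import Cfsg.Agent.Lib.UnitaryConj.Norm
import Cfsg.Agent.Lib.Forms.Herm

set_option autoImplicit false
open Cfsg

namespace Cfsg.Agent.S2587

open Matrix Polynomial

variable {K : Type*} [Field K] {n : ℕ} (σ : K →+* K)

/-- Conjugate transpose for `σ`. -/
def dag (M : Matrix (Fin n) (Fin n) K) : Matrix (Fin n) (Fin n) K := Mᵀ.map σ

theorem dag_mul (M N : Matrix (Fin n) (Fin n) K) : dag σ (M * N) = dag σ N * dag σ M := by
  rw [dag, dag, dag, Matrix.transpose_mul, Matrix.map_mul]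

theorem dag_one : dag σ (1 : Matrix (Fin n) (Fin n) K) = 1 := by
  rw [dag, Matrix.transpose_one, Matrix.map_one σ (map_zero σ) (map_one σ)]

theorem dag_add (M N : Matrix (Fin n) (Fin n) K) : dag σ (M + N) = dag σ M + dag σ N := by
  ext i j; simp [dag]

theorem dag_smul (c : K) (M : Matrix (Fin n) (Fin n) K) : dag σ (c • M) = σ c • dag σ M := by
  ext i j; simp [dag]

theorem dag_dag (hσ : ∀ x, σ (σ x) = x) (M : Matrix (Fin n) (Fin n) K) : dag σ (dag σ M) = M := by
  ext i j; simp [dag, hσ]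

theorem dag_aeval {h : Matrix (Fin n) (Fin n) K} (hh : dag σ h = h) (p : K[X]) :
    dag σ (aeval h p) = aeval h (p.map σ) := by
  have hpow : ∀ k : ℕ, dag σ (h ^ k) = h ^ k := fun k => by
    induction k with
    | zero => simp [dag_one]
    | succ k ih => rw [pow_succ, dag_mul, ih, hh, (Commute.self_pow h k).eq]
  induction p using Polynomial.induction_on' with
  | add p q hp hq => rw [map_add, dag_add, hp, hq, Polynomial.map_add, map_add]
  | monomial k c =>
    rw [Polynomial.map_monomial, aeval_monomial, aeval_monomial, Algebra.algebraMap_eq_smul_one,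
      Algebra.algebraMap_eq_smul_one, smul_mul_assoc, smul_mul_assoc, one_mul, dag_smul, hpow]

/-- An invertible self-adjoint `h` is `x† x` for some invertible `x` commuting with whatever
commutes with `h`. -/
theorem exists_root [Finite K] (hσ : ∀ x, σ (σ x) = x) {ω : K} (hω : σ ω ≠ ω)
    (h : GL (Fin n) K) (hh : dag σ (h : Matrix (Fin n) (Fin n) K) = (h : Matrix (Fin n) (Fin n) K))
    (A : Matrix (Fin n) (Fin n) K) (hA : Commute A (h : Matrix (Fin n) (Fin n) K)) :
    ∃ x : GL (Fin n) K, dag σ (x : Matrix (Fin n) (Fin n) K) * (x : Matrix (Fin n) (Fin n) K) =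
      (h : Matrix (Fin n) (Fin n) K) ∧ Commute A (x : Matrix (Fin n) (Fin n) K) := by
  set R : Subalgebra K (Matrix (Fin n) (Fin n) K) :=
    (aeval (h : Matrix (Fin n) (Fin n) K)).range with hR
  letI : CommRing R :=
    { (inferInstance : Ring R) with
      mul_comm := by
        rintro ⟨_, p, rfl⟩ ⟨_, r, rfl⟩
        refine Subtype.ext ?_
        show aeval _ p * aeval _ r = aeval _ r * aeval _ p
        rw [← map_mul, mul_comm, map_mul] }
  have hmem : ∀ M ∈ R, dag σ M ∈ R := by
    rintro _ ⟨p, rfl⟩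
    exact ⟨p.map σ, (dag_aeval σ hh p).symm⟩
  let ι : R ≃+* R :=
    { toFun := fun M => ⟨dag σ M.1, hmem _ M.2⟩
      invFun := fun M => ⟨dag σ M.1, hmem _ M.2⟩
      left_inv := fun M => Subtype.ext (dag_dag σ hσ _)
      right_inv := fun M => Subtype.ext (dag_dag σ hσ _)
      map_mul' := fun M N => by
        refine Subtype.ext ?_
        show dag σ (M * N : R).1 = dag σ M.1 * dag σ N.1
        rw [show M * N = N * M from mul_comm M N]
        exact dag_mul σ N.1 M.1
      map_add' := fun M N => Subtype.ext (dag_add σ _ _) }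
  let wR : R := algebraMap K R ω
  have hwι : ι wR = algebraMap K R (σ ω) := by
    refine Subtype.ext ?_
    show dag σ (algebraMap K (Matrix (Fin n) (Fin n) K) ω) = algebraMap K (Matrix (Fin n) (Fin n) K) (σ ω)
    rw [Algebra.algebraMap_eq_smul_one, Algebra.algebraMap_eq_smul_one, dag_smul, dag_one]
  have hunit : IsUnit (ι wR - wR) := by
    rw [hwι, ← map_sub]
    exact (isUnit_iff_ne_zero.2 (sub_ne_zero.2 hω)).map _
  let hR' : R := ⟨(h : Matrix (Fin n) (Fin n) K), X, aeval_X _⟩
  have hu : IsUnit hR' := by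
    have hinj : Function.Injective (fun r : R => r * hR') := fun a b hab => by
      refine Subtype.ext ?_
      have := congrArg (fun r : R => r.1 * ((h⁻¹ : GL (Fin n) K) : Matrix (Fin n) (Fin n) K)) hab
      simpa [hR', mul_assoc, ← Units.val_mul] using this
    obtain ⟨b, hb⟩ := (Finite.injective_iff_surjective.1 hinj) 1
    exact IsUnit.of_mul_eq_one b (by rw [mul_comm]; exact hb)
  obtain ⟨x, hx⟩ := UnitaryConj.exists_norm_eq ι (fun M => Subtype.ext (dag_dag σ hσ _)) hunit
    hu.unit (Subtype.ext hh)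
  refine ⟨Units.map R.val.toRingHom.toMonoidHom x, congrArg Subtype.val hx, ?_⟩
  obtain ⟨p, hp⟩ := (x : R).2
  show Commute A (x : R).1
  rw [← hp]
  have hle : (aeval (h : Matrix (Fin n) (Fin n) K)).range ≤ Subalgebra.centralizer K {A} := by
    rw [← Algebra.adjoin_singleton_eq_range_aeval]
    exact Algebra.adjoin_le (by
      intro y hy
      rw [Set.mem_singleton_iff] at hy
      subst hy
      rw [SetLike.mem_coe, Subalgebra.mem_centralizer_iff]
      intro z hz
      rw [Set.mem_singleton_iff] at hz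
      subst hz
      exact hA.eq)
  exact Subalgebra.mem_centralizer_iff K |>.1 (hle ⟨p, rfl⟩) A rfl

variable [Fintype K] {q : ℕ}

theorem mem_GU_iff (hK : Fintype.card K = q ^ 2) (g : GL (Fin n) K) :
    g ∈ Cfsg.GU n K q ↔
      dag (Forms.qEnd hK) (g : Matrix (Fin n) (Fin n) K) * (g : Matrix (Fin n) (Fin n) K) = 1 := by
  set σ := Forms.qEnd hK
  have hform : ∀ u v, Cfsg.hermForm n K q u v = u ⬝ᵥ (σ ∘ v) := fun u v => rfl
  have hiff : g ∈ Cfsg.GU n K q ↔
      ((g : Matrix (Fin n) (Fin n) K))ᵀ * (g : Matrix (Fin n) (Fin n) K).map σ = 1 := by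
    constructor
    · intro hg
      ext i j
      have h := hg (Pi.single i 1) (Pi.single j 1)
      rw [hform, hform] at h
      have hl : ((Units.coeHom (Matrix (Fin n) (Fin n) K)) g *ᵥ Pi.single i 1) ⬝ᵥ
          (σ ∘ ((Units.coeHom (Matrix (Fin n) (Fin n) K)) g *ᵥ Pi.single j 1)) =
          (((g : Matrix (Fin n) (Fin n) K))ᵀ * (g : Matrix (Fin n) (Fin n) K).map σ) i j := by
        simp [dotProduct, Matrix.mul_apply]
      rw [hl] at h
      rw [h, single_dotProduct, one_mul, Function.comp_apply, Pi.single_apply, Matrix.one_apply]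
      split_ifs <;> simp
    · intro h u v
      rw [hform, hform]
      show ((g : Matrix (Fin n) (Fin n) K) *ᵥ u) ⬝ᵥ (σ ∘ ((g : Matrix (Fin n) (Fin n) K) *ᵥ v)) = _
      rw [show σ ∘ ((g : Matrix (Fin n) (Fin n) K) *ᵥ v) =
          (g : Matrix (Fin n) (Fin n) K).map σ *ᵥ (σ ∘ v) from funext fun i => σ.map_mulVec _ _ i,
        ← Matrix.vecMul_transpose, ← Matrix.dotProduct_mulVec, Matrix.mulVec_mulVec, h, Matrix.one_mulVec]
  rw [hiff]
  have hmap : dag σ (g : Matrix (Fin n) (Fin n) K) * (g : Matrix (Fin n) (Fin n) K) =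
      (((g : Matrix (Fin n) (Fin n) K))ᵀ * (g : Matrix (Fin n) (Fin n) K).map σ).map σ := by
    rw [Matrix.map_mul, dag, Matrix.map_map]
    congr 1
    ext i j
    simp [σ, Forms.qEnd_qEnd]
  rw [hmap]
  constructor
  · intro h
    rw [h, Matrix.map_one σ (map_zero σ) (map_one σ)]
  · intro h
    exact Matrix.map_injective σ.injective (h.trans (Matrix.map_one σ (map_zero σ) (map_one σ)).symm)

theorem exists_ne (hK : Fintype.card K = q ^ 2) : ∃ ω : K, Forms.qEnd hK ω ≠ ω := by
  by_contra hcon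
  push Not at hcon
  exact Forms.qEnd_ne_id hK (RingHom.ext hcon)


/-- Conjugacy in the finite general unitary group is controlled by the general linear group: two elements of GU_n(q) (the invertible matrices over the field with q² elements preserving the Hermitian form Σ u_i v_i^q) are conjugate in GU_n(q) if and only if they are conjugate in GL_n(q²). -/
theorem result {K : Type*} [Field K] [Fintype K] {q n : ℕ} (hK : Fintype.card K = q ^ 2) (A B : ↥(Cfsg.GU n K q)) : IsConj A B ↔ IsConj (A : GL (Fin n) K) (B : GL (Fin n) K) := by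
  refine ⟨fun h => (Cfsg.GU n K q).subtype.map_isConj h, fun hc => ?_⟩
  obtain ⟨g, hg⟩ := isConj_iff.1 hc
  set σ := Forms.qEnd hK
  have hσ : ∀ x, σ (σ x) = x := Forms.qEnd_qEnd hK
  obtain ⟨ω, hω⟩ := exists_ne hK
  have hgA : g * (A : GL (Fin n) K) = (B : GL (Fin n) K) * g := mul_inv_eq_iff_eq_mul.1 hg
  let dg : GL (Fin n) K :=
    ⟨dag σ (g : Matrix (Fin n) (Fin n) K), dag σ ((g⁻¹ : GL (Fin n) K) : Matrix (Fin n) (Fin n) K),
      by rw [← dag_mul, ← Units.val_mul, inv_mul_cancel, Units.val_one, dag_one],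
      by rw [← dag_mul, ← Units.val_mul, mul_inv_cancel, Units.val_one, dag_one]⟩
  set h : GL (Fin n) K := dg * g with hhd
  have hhh : dag σ (h : Matrix (Fin n) (Fin n) K) = (h : Matrix (Fin n) (Fin n) K) := by
    show dag σ (dag σ (g : Matrix (Fin n) (Fin n) K) * (g : Matrix (Fin n) (Fin n) K)) = _
    rw [dag_mul, dag_dag σ hσ]
    rfl
  have hA := (mem_GU_iff hK _).1 A.2
  have hB := (mem_GU_iff hK _).1 B.2
  have hdag : dag σ ((A : GL (Fin n) K) : Matrix (Fin n) (Fin n) K) * dag σ (g : Matrix (Fin n) (Fin n) K) =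
      dag σ (g : Matrix (Fin n) (Fin n) K) * dag σ ((B : GL (Fin n) K) : Matrix (Fin n) (Fin n) K) := by
    rw [← dag_mul, ← dag_mul, ← Units.val_mul, ← Units.val_mul, hgA]
  have hcomm : Commute ((A : GL (Fin n) K) : Matrix (Fin n) (Fin n) K) (h : Matrix (Fin n) (Fin n) K) := by
    set a := ((A : GL (Fin n) K) : Matrix (Fin n) (Fin n) K)
    set b := ((B : GL (Fin n) K) : Matrix (Fin n) (Fin n) K)
    have hga : (g : Matrix (Fin n) (Fin n) K) * a = b * (g : Matrix (Fin n) (Fin n) K) :=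
      congrArg Units.val hgA
    have hA' : a * dag σ a = 1 := mul_eq_one_comm.1 hA
    show a * (dag σ (g : Matrix (Fin n) (Fin n) K) * (g : Matrix (Fin n) (Fin n) K)) =
      dag σ (g : Matrix (Fin n) (Fin n) K) * (g : Matrix (Fin n) (Fin n) K) * a
    calc a * (dag σ (g : Matrix (Fin n) (Fin n) K) * (g : Matrix (Fin n) (Fin n) K))
        = a * (dag σ (g : Matrix (Fin n) (Fin n) K) * (dag σ b * b)) * (g : Matrix (Fin n) (Fin n) K) := by
          rw [hB, mul_one, mul_assoc]
      _ = a * ((dag σ (g : Matrix (Fin n) (Fin n) K) * dag σ b) * b) * (g : Matrix (Fin n) (Fin n) K) := by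
          rw [mul_assoc (dag σ (g : Matrix (Fin n) (Fin n) K))]
      _ = (a * dag σ a) * (dag σ (g : Matrix (Fin n) (Fin n) K) * (b * (g : Matrix (Fin n) (Fin n) K))) := by
          rw [← hdag]; simp only [mul_assoc]
      _ = _ := by rw [hA', one_mul, ← hga, mul_assoc]
  obtain ⟨x, hx, hxA⟩ := exists_root σ hσ hω h hhh _ hcomm
  have hdx : dag σ ((x⁻¹ : GL (Fin n) K) : Matrix (Fin n) (Fin n) K) * dag σ (x : Matrix (Fin n) (Fin n) K) = 1 := by
    rw [← dag_mul, ← Units.val_mul, mul_inv_cancel, Units.val_one, dag_one]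
  have hu : g * x⁻¹ ∈ Cfsg.GU n K q := by
    rw [mem_GU_iff hK, Units.val_mul, dag_mul]
    calc dag σ ((x⁻¹ : GL (Fin n) K) : Matrix (Fin n) (Fin n) K) * dag σ (g : Matrix (Fin n) (Fin n) K) *
          ((g : Matrix (Fin n) (Fin n) K) * ((x⁻¹ : GL (Fin n) K) : Matrix (Fin n) (Fin n) K))
        = dag σ ((x⁻¹ : GL (Fin n) K) : Matrix (Fin n) (Fin n) K) *
            (dag σ (x : Matrix (Fin n) (Fin n) K) * (x : Matrix (Fin n) (Fin n) K)) *
              ((x⁻¹ : GL (Fin n) K) : Matrix (Fin n) (Fin n) K) := by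
          rw [hx, show (h : Matrix (Fin n) (Fin n) K) = dag σ (g : Matrix (Fin n) (Fin n) K) * (g : Matrix (Fin n) (Fin n) K) from rfl]
          simp only [mul_assoc]
      _ = 1 := by
          rw [← mul_assoc, hdx, one_mul, ← Units.val_mul, mul_inv_cancel, Units.val_one]
  refine isConj_iff.2 ⟨⟨g * x⁻¹, hu⟩, Subtype.ext ?_⟩
  show g * x⁻¹ * (A : GL (Fin n) K) * (g * x⁻¹)⁻¹ = (B : GL (Fin n) K)
  have hxA' : x * (A : GL (Fin n) K) = (A : GL (Fin n) K) * x := Units.ext hxA.eq.symm
  rw [mul_inv_eq_iff_eq_mul, mul_assoc, show x⁻¹ * (A : GL (Fin n) K) = (A : GL (Fin n) K) * x⁻¹ from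
    (Commute.inv_left hxA').eq, ← mul_assoc, hgA, mul_assoc]

end Cfsg.Agent.S2587
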