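import Cfsg.Statements.S2588
import Cfsg.Agent.Lib.Forms.InvolH90
import Cfsg.Agent.Lib.Forms.Classify
-- import your own Cfsg.Agent.* helpers here

set_option autoImplicit false
set_option maxHeartbeats 800000
open Cfsg

open scoped Matrix

namespace Cfsg.Agent.S2588

/-- An invertible matrix A over the field with q² elements is conjugate in GL_n(q²) to an element of the general unitary group GU_n(q) (isometries of the Hermitian form Σ u_i v_i^q) if and only if A is similar to the inverse transpose of its entrywise q-th power (A ~ A^(−qT), the image of A under the map sending a matrix to the inverse transpose of its entrywise q-th power — inverse transpose composed with the field automorphism — whose fixed points form GU_n(q)). -/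
theorem result {K : Type*} [Field K] [Fintype K] {q n : ℕ} (hK : Fintype.card K = q ^ 2) (A : GL (Fin n) K) : (∃ B : ↥(Cfsg.GU n K q), IsConj A (B : GL (Fin n) K)) ↔ IsConj (A : Matrix (Fin n) (Fin n) K) (((A : Matrix (Fin n) (Fin n) K).map (fun x : K => x ^ q)).transpose)⁻¹ := by
  classical
  let σ : K →+* K := Forms.qEnd hK
  have hσσ : ∀ x, σ (σ x) = x := Forms.qEnd_qEnd hK
  let sT : Matrix (Fin n) (Fin n) K → Matrix (Fin n) (Fin n) K := fun X => (X.map σ)ᵀ
  have hsT : ∀ X : Matrix (Fin n) (Fin n) K, (X.map (fun x : K => x ^ q)).transpose = sT X := fun X => rfl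
  have smul_ : ∀ X Y, sT (X * Y) = sT Y * sT X := fun X Y => by
    simp [sT, Matrix.map_mul, Matrix.transpose_mul]
  have sinv : ∀ X, sT (sT X) = X := fun X => by ext i j; simp [sT, hσσ]
  have sone : sT 1 = 1 := by simp [sT, Matrix.map_one]
  have sscal : ∀ c : K, sT (Matrix.scalar (Fin n) c) = Matrix.scalar (Fin n) (σ c) := fun c => by
    simp [sT, Matrix.scalar_apply, Matrix.diagonal_map, Matrix.diagonal_transpose, Function.comp_def]
  have sunit : ∀ X : (Matrix (Fin n) (Fin n) K)ˣ,
      sT X.val * sT (X⁻¹).val = 1 ∧ sT (X⁻¹).val * sT X.val = 1 := fun X => by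
    rw [← smul_, ← smul_, Units.inv_mul, Units.mul_inv, sone]; exact ⟨rfl, rfl⟩
  have hgram : ∀ (X N : Matrix (Fin n) (Fin n) K),
      (∀ x y, (fun i => σ ((X *ᵥ x) i)) ⬝ᵥ (X *ᵥ y) = (fun i => σ (x i)) ⬝ᵥ (N *ᵥ y)) ↔ sT X * X = N := by
    intro X N
    have h : ∀ x y, (fun i => σ ((X *ᵥ x) i)) ⬝ᵥ (X *ᵥ y) = (fun i => σ (x i)) ⬝ᵥ ((sT X * X) *ᵥ y) := by
      intro x y
      rw [← Matrix.mulVec_mulVec, Matrix.dotProduct_mulVec (fun i => σ (x i)), show sT X = (X.map σ)ᵀ from rfl,
        Matrix.vecMul_transpose]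
      congr 1
      funext i
      exact RingHom.map_mulVec σ X x i
    refine ⟨fun hh => ?_, fun hh x y => by rw [h, hh]⟩
    ext i j
    have := hh (Pi.single i 1) (Pi.single j 1)
    rw [h] at this
    have hsing : (fun k => σ ((Pi.single i 1 : Fin n → K) k)) = Pi.single i 1 := by
      funext k; rcases eq_or_ne k i with rfl | hk <;> simp [*]
    simpa [hsing] using this
  have hGU : ∀ B : GL (Fin n) K, B ∈ Cfsg.GU n K q ↔ sT (B : Matrix (Fin n) (Fin n) K) * (B : Matrix (Fin n) (Fin n) K) = 1 := by
    intro B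
    rw [← hgram]
    have e : ∀ u v : Fin n → K, hermForm n K q u v = (fun i => σ (v i)) ⬝ᵥ u := fun u v =>
      Finset.sum_congr rfl fun i _ => mul_comm _ _
    simp only [Matrix.one_mulVec]
    constructor
    · intro h x y
      have := h y x
      rw [e, e] at this
      exact this
    · intro h u v
      rw [e, e]
      exact h v u
  rw [hsT]
  constructor
  · rintro ⟨⟨B, hB⟩, hAB⟩
    obtain ⟨c, hc⟩ := isConj_iff.1 hAB
    have hB' := (hGU B).1 hB
    have hsc := sunit c
    let d : (Matrix (Fin n) (Fin n) K)ˣ := ⟨sT (c : Matrix (Fin n) (Fin n) K), sT (c⁻¹).val, hsc.1, hsc.2⟩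
    refine ⟨d * c, ?_⟩
    rw [SemiconjBy, eq_comm]
    have hA : sT (A : Matrix (Fin n) (Fin n) K) * sT (A⁻¹).val = 1 := (sunit A).1
    rw [Matrix.inv_eq_right_inv hA]
    have hc' : (B : Matrix (Fin n) (Fin n) K) * c = c * A := by
      have h := congrArg (fun g : GL (Fin n) K => ((g * c : GL (Fin n) K) : Matrix (Fin n) (Fin n) K)) hc
      simp [mul_assoc] at h
      exact h.symm
    have h1 : sT A.val * sT c.val = sT c.val * sT B.val := by rw [← smul_, ← smul_, hc']
    have h2 : sT A.val * (sT c.val * c.val * A.val) = sT c.val * c.val := by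
      calc sT A.val * (sT c.val * c.val * A.val) = (sT A.val * sT c.val) * (c.val * A.val) := by simp only [mul_assoc]
        _ = sT c.val * (sT B.val * B.val) * c.val := by rw [h1, ← hc']; simp only [mul_assoc]
        _ = _ := by rw [hB', mul_one]
    show sT (A⁻¹).val * (d * c).val = (d * c).val * A.val
    rw [Units.val_mul]
    show sT (A⁻¹).val * (sT c.val * c.val) = sT c.val * c.val * A.val
    conv_lhs => rw [← h2]
    rw [← mul_assoc, (sunit A).2, one_mul]
  · rintro ⟨X, hX⟩
    rw [SemiconjBy, Matrix.inv_eq_right_inv (sunit A).1] at hX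
    have hS : sT A.val * X.val * A.val = (X : Matrix (Fin n) (Fin n) K) := by
      rw [mul_assoc, hX, ← mul_assoc, (sunit A).1, one_mul]
    have hS' : sT A.val * sT X.val * A.val = sT X.val := by
      conv_rhs => rw [← hS]
      rw [smul_, smul_, sinv, mul_assoc]
    let u : Matrix (Fin n) (Fin n) K := (X⁻¹).val * sT X.val
    let v : Matrix (Fin n) (Fin n) K := sT (X⁻¹).val * X.val
    have huv : u * v = 1 := by
      simp only [u, v]; rw [mul_assoc, ← mul_assoc (sT X.val), (sunit X).1, one_mul, Units.inv_mul]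
    have hvu : v * u = 1 := by
      simp only [u, v]; rw [mul_assoc, ← mul_assoc (X : Matrix (Fin n) (Fin n) K), Units.mul_inv, one_mul, (sunit X).2]
    have hXA : (X : Matrix (Fin n) (Fin n) K) * A = sT (A⁻¹).val * X := hX
    have huA : u * A = A * u := by
      have h1 : sT X.val * A.val = sT (A⁻¹).val * sT X.val := by
        conv_rhs => rw [← hS']
        rw [← mul_assoc, ← mul_assoc, (sunit A).2, one_mul]
      have h2 : ((X⁻¹).val : Matrix (Fin n) (Fin n) K) * sT (A⁻¹).val = A * (X⁻¹).val := by
        have := congrArg (fun Y => ((X⁻¹).val : Matrix (Fin n) (Fin n) K) * Y * (X⁻¹).val) hXA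
        simp only [mul_assoc, Units.mul_inv, mul_one] at this
        rw [← this, Units.inv_mul_cancel_left]
      simp only [u]
      rw [mul_assoc, h1, ← mul_assoc, h2, mul_assoc]
    let τ : Matrix (Fin n) (Fin n) K → Matrix (Fin n) (Fin n) K := fun y => (X⁻¹).val * sT y * X.val
    have τmul : ∀ x y, τ (x * y) = τ y * τ x := fun x y => by
      simp only [τ, smul_, mul_assoc, Units.mul_inv_cancel_left]
    have τone : τ 1 = 1 := by simp [τ, sone]
    have ττ : ∀ y, τ (τ y) = u * y * v := fun y => by
      simp only [τ, u, v, smul_, sinv, mul_assoc]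
    have τu : τ u = v := by
      simp only [τ, u, v, smul_, sinv, mul_assoc, Units.inv_mul_cancel_left]
    let Z : Set (Matrix (Fin n) (Fin n) K) := Set.centralizer {u}
    let R : Subring (Matrix (Fin n) (Fin n) K) := Subring.centralizer Z
    have hmem : ∀ r, r ∈ R ↔ ∀ z, u * z = z * u → z * r = r * z := fun r => by
      simp [R, Z, Subring.mem_centralizer_iff, Set.mem_centralizer_iff]
    have hRu : ∀ r ∈ R, u * r = r * u := fun r hr => (hmem r).1 hr u rfl
    have hRA : ∀ r ∈ R, (A : Matrix (Fin n) (Fin n) K) * r = r * A := fun r hr => (hmem r).1 hr _ huA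
    letI : CommRing R :=
      { (inferInstance : Ring R) with
        mul_comm := fun a b => Subtype.ext ((hmem b.1).1 b.2 a.1 (hRu a.1 a.2)) }
    have hfix : ∀ y, u * y = y * u → τ (τ y) = y := fun y hy => by
      rw [ττ, hy, mul_assoc, huv, mul_one]
    have τcomm : ∀ y, u * y = y * u → u * τ y = τ y * u := fun y hy => by
      have h := congrArg τ hy
      rw [τmul u y, τmul y u, τu] at h
      calc u * τ y = u * τ y * (v * u) := by rw [hvu, mul_one]
        _ = u * (τ y * v) * u := by simp only [mul_assoc]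
        _ = u * (v * τ y) * u := by rw [h]
        _ = (u * v) * τ y * u := by simp only [mul_assoc]
        _ = τ y * u := by rw [huv, one_mul]
    have hτR : ∀ r ∈ R, τ r ∈ R := fun r hr => (hmem _).2 fun z hz => by
      conv_lhs => rw [← hfix z hz]
      conv_rhs => rw [← hfix z hz]
      rw [← τmul, ← τmul, (hmem r).1 hr (τ z) (τcomm z hz)]
    let ι : R →+* R :=
      { toFun := fun r => ⟨τ r.1, hτR r.1 r.2⟩
        map_one' := Subtype.ext τone
        map_zero' := Subtype.ext (by simp [τ, sT, Matrix.map_zero])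
        map_add' := fun a b => Subtype.ext (by
          simp [τ, sT, Matrix.map_add, Matrix.transpose_add, mul_add, add_mul])
        map_mul' := fun a b => Subtype.ext (by
          show τ (a.1 * b.1) = τ a.1 * τ b.1
          rw [τmul]
          exact (hmem (τ a.1)).1 (hτR a.1 a.2) _ (hRu _ (hτR b.1 b.2))) }
    have huR : u ∈ R := (hmem u).2 fun z hz => hz.symm
    have hscal : ∀ c : K, Matrix.scalar (Fin n) c ∈ R := fun c => (hmem _).2 fun z _ =>
      (Matrix.scalar_commute c (fun r => mul_comm c r) z).symm.eq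
    obtain ⟨l, hl⟩ : ∃ l : K, σ l ≠ l := by
      by_contra! h
      exact Forms.qEnd_ne_id hK (RingHom.ext h)
    obtain ⟨c, hc, hcu⟩ := Forms.exists_unit_invol_h90 ι (fun r => Subtype.ext (hfix r.1 (hRu r.1 r.2)))
      (t := ⟨_, hscal l⟩) (u := ⟨u, huR⟩)
      (IsUnit.of_mul_eq_one ⟨_, hscal (σ l - l)⁻¹⟩ (Subtype.ext (by
        have e : τ (Matrix.scalar (Fin n) l) = Matrix.scalar (Fin n) (σ l) := by
          simp only [τ, sscal]
          rw [mul_assoc, (Matrix.scalar_commute (σ l) (fun r => mul_comm _ r) _).eq, Units.inv_mul_cancel_left]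
        show (τ (Matrix.scalar (Fin n) l) - Matrix.scalar (Fin n) l) * Matrix.scalar (Fin n) (σ l - l)⁻¹ = 1
        rw [e, ← map_sub, ← map_mul, mul_inv_cancel₀ (sub_ne_zero.2 hl), map_one])))
      (Subtype.ext (by show u * τ u = 1; rw [τu, huv]))
    let H : Matrix (Fin n) (Fin n) K := X.val * c.1
    have hcu' : τ c.1 * u = c.1 := congrArg Subtype.val hcu
    have hH : sT H = H := by
      simp only [H, smul_]
      conv_rhs => rw [← hcu']
      simp only [τ, u, mul_assoc, Units.mul_inv_cancel_left]
    have hAH : sT A.val * H * A.val = H := by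
      simp only [H]
      rw [← mul_assoc, mul_assoc _ c.1, ← hRA c.1 c.2, ← mul_assoc, hS]
    obtain ⟨cM, hcM⟩ : IsUnit H := X.isUnit.mul (hc.map R.subtype)
    let B : (Fin n → K) →ₛₗ[Forms.qEnd hK] (Fin n → K) →ₗ[K] K :=
      LinearMap.mk₂'ₛₗ (Forms.qEnd hK) (RingHom.id K) (fun x y => (fun i => σ (x i)) ⬝ᵥ (H *ᵥ y))
        (fun x x' y => by rw [← add_dotProduct]; congr 1; funext i; simp)
        (fun k x y => by rw [← smul_dotProduct]; congr 1; funext i; simp [σ])
        (fun x y y' => by rw [Matrix.mulVec_add, dotProduct_add])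
        (fun k x y => by rw [Matrix.mulVec_smul, dotProduct_smul]; simp)
    obtain ⟨e, he⟩ := Forms.exists_herm_coords hK (B := B)
      (fun x y => by
        show σ ((fun i => σ (x i)) ⬝ᵥ (H *ᵥ y)) = (fun i => σ (y i)) ⬝ᵥ (H *ᵥ x)
        rw [RingHom.map_dotProduct, show ⇑σ ∘ (fun i => σ (x i)) = x from funext fun i => hσσ (x i),
          show ⇑σ ∘ (H *ᵥ y) = H.map σ *ᵥ (fun i => σ (y i)) from funext fun i => RingHom.map_mulVec σ H y i,
          dotProduct_comm, ← Matrix.vecMul_transpose, ← Matrix.dotProduct_mulVec]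
        conv_rhs => rw [← hH])
      (fun x hx => by
        have h : (fun i => σ (x i)) = 0 := by
          funext j
          have h1 : (fun i => σ (x i)) ⬝ᵥ (H *ᵥ (((cM⁻¹).val : Matrix (Fin n) (Fin n) K) *ᵥ Pi.single j 1)) = 0 := hx _
          rw [Matrix.mulVec_mulVec, ← hcM, Units.mul_inv, Matrix.one_mulVec] at h1
          simpa using h1
        funext i
        exact σ.injective (by simpa using congrFun h i))
    have hfr : Module.finrank K (Fin n → K) = n := Module.finrank_fin_fun K
    let e' : (Fin n → K) ≃ₗ[K] (Fin n → K) :=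
      e.trans (LinearEquiv.funCongrLeft K K (finCongr hfr.symm))
    let P : GL (Fin n) K := Matrix.GeneralLinearGroup.toLin.symm
      (LinearMap.GeneralLinearGroup.ofLinearEquiv e')
    have hP : ∀ x, (P : Matrix (Fin n) (Fin n) K) *ᵥ x = e' x := fun x => by
      rw [← Matrix.toLin'_apply]
      show (Matrix.GeneralLinearGroup.toLin P).val x = _
      rw [show Matrix.GeneralLinearGroup.toLin P = LinearMap.GeneralLinearGroup.ofLinearEquiv e' from
        MulEquiv.apply_symm_apply _ _]
      rfl
    have hPH : sT P.val * P.val = H := by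
      refine (hgram _ _).1 fun x y => ?_
      refine Eq.trans ?_ (he x y).symm
      rw [hP, hP]
      show ∑ i, σ (e' x i) * e' y i = ∑ i, e y i * (e x i) ^ q
      rw [← (finCongr hfr.symm).sum_comp (fun i => e y i * (e x i) ^ q)]
      exact Finset.sum_congr rfl fun i _ => mul_comm _ _
    refine ⟨⟨P * A * P⁻¹, (hGU _).2 ?_⟩, isConj_iff.2 ⟨P, rfl⟩⟩
    rw [Units.val_mul, Units.val_mul, smul_, smul_]
    calc sT (P⁻¹).val * (sT A.val * sT P.val) * (P.val * A.val * (P⁻¹).val)
        = sT (P⁻¹).val * (sT A.val * (sT P.val * P.val) * A.val) * (P⁻¹).val := by simp only [mul_assoc]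
      _ = sT (P⁻¹).val * sT P.val * (P.val * (P⁻¹).val) := by rw [hPH, hAH, ← hPH]; simp only [mul_assoc]
      _ = 1 := by rw [(sunit P).2, Units.mul_inv, one_mul]

end Cfsg.Agent.S2588
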