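import Cfsg.Statements.S2589
import Cfsg.Agent.S2389

set_option autoImplicit false
open Cfsg

namespace Cfsg.Agent.S2589

/-- Two semisimple elements of the finite symplectic group Sp_2m(F) (elements of order prime to the characteristic) are conjugate in Sp_2m(F) if and only if they are conjugate in GL_2m(F). -/
theorem result {F : Type*} [Field F] [Fintype F] {p : ℕ} [Fact p.Prime] [CharP F p] {m : ℕ} (A B : Matrix.symplecticGroup (Fin m) F) (hA : (orderOf A).Coprime p) : IsConj A B ↔ IsConj (A : Matrix (Fin m ⊕ Fin m) (Fin m ⊕ Fin m) F) (B : Matrix (Fin m ⊕ Fin m) (Fin m ⊕ Fin m) F) := by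
  refine ⟨fun h => (Matrix.symplecticGroup (Fin m) F).subtype.map_isConj h, fun h => ?_⟩
  obtain ⟨c, hc⟩ := h
  have hB : (orderOf B).Coprime p := by
    have : orderOf B = orderOf A := by
      rw [← orderOf_submonoid B, ← orderOf_submonoid A]
      refine (orderOf_eq_orderOf_iff.2 fun n => ?_)
      have h1 := hc.pow_right n
      constructor
      · intro h0
        change (B : Matrix (Fin m ⊕ Fin m) (Fin m ⊕ Fin m) F) ^ n = 1 at h0
        rw [h0] at h1
        exact c.isUnit.mul_left_cancel (by rw [h1.eq, one_mul, mul_one])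
      · intro h0
        change (A : Matrix (Fin m ⊕ Fin m) (Fin m ⊕ Fin m) F) ^ n = 1 at h0
        rw [h0] at h1
        exact c.isUnit.mul_right_cancel (by rw [← h1.eq, one_mul, mul_one])
    rwa [this]
  refine S2389.result p m A B hA hB ?_
  rw [← Matrix.charpoly_units_conj c (A : Matrix (Fin m ⊕ Fin m) (Fin m ⊕ Fin m) F), hc.eq, mul_assoc,
    ← Matrix.coe_units_inv, Units.mul_inv, mul_one]

end Cfsg.Agent.S2589
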