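import Cfsg.Statements.S2590
import Cfsg.Agent.Lib.Semisimple.Isometry
import Cfsg.Agent.Lib.Forms.Witt

set_option autoImplicit false
open Cfsg

namespace Cfsg.Agent.S2590

open Polynomial

/-- Similar semisimple isometries of odd order of a quadratic form are conjugate by an isometry. -/
theorem exists_isometry_conj {F : Type*} [Field F] [Fintype F] {V : Type*} [AddCommGroup V] [Module F V]
    [FiniteDimensional F V] {Q : QuadraticForm F V} (hQ : (QuadraticMap.polarBilin Q).Nondegenerate)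
    (a b : Module.End F V) (haQ : ∀ v, Q (a v) = Q v) (hbQ : ∀ v, Q (b v) = Q v) {N : ℕ}
    (hodd : Odd N) (hN : (N : F) ≠ 0) (ha : a ^ N = 1) (hb : b ^ N = 1)
    (C : V ≃ₗ[F] V) (hC : ∀ v, C (a v) = b (C v)) :
    ∃ g ∈ Forms.isomQ Q, ∀ v, g (a v) = b (g v) := by
  classical
  set P : LinearMap.BilinForm F V := QuadraticMap.polarBilin Q with hPdef
  have hP : ∀ (f : Module.End F V), (∀ v, Q (f v) = Q v) → ∀ x y, P (f x) (f y) = P x y := by
    intro f hf x y
    simp only [hPdef, QuadraticMap.polarBilin_apply_apply, QuadraticMap.polar, ← map_add, hf]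
  have hswap : ∀ x y, P y x = P x y := fun x y => QuadraticMap.polar_comm Q y x
  have facts : ∀ f : Module.End F V, (∀ v, Q (f v) = Q v) → f ^ N = 1 →
      Semisimple.IsSSIsom P f N ∧
      (∀ v, ∃ k r, f k = k ∧ r ∈ LinearMap.range (f - 1) ∧ v = k + r) ∧
      (∀ r ∈ LinearMap.range (f - 1), f r = r → r = 0) ∧
      (∀ k, f k = k → ∀ r ∈ LinearMap.range (f - 1), P r k = 0) ∧
      (∀ r ∈ LinearMap.range (f - 1), (∀ s ∈ LinearMap.range (f - 1), P r s = 0) → r = 0) ∧
      (∀ r ∈ LinearMap.range (f - 1), f r ∈ LinearMap.range (f - 1)) := by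
    intro f hf hfN
    have hss : Semisimple.IsSSIsom P f N := ⟨hP f hf, hfN, hN⟩
    have hae : aeval f (X - 1 : F[X]) = f - 1 := by simp
    have hdec : ∀ v, ∃ k r, f k = k ∧ r ∈ LinearMap.range (f - 1) ∧ v = k + r := by
      intro v
      obtain ⟨k, w, hk, hv⟩ := hss.exists_decomp (X - 1) v
      rw [hae] at hk hv
      exact ⟨k, _, sub_eq_zero.1 hk, ⟨w, rfl⟩, hv⟩
    have hdisj : ∀ r ∈ LinearMap.range (f - 1), f r = r → r = 0 := by
      rintro _ ⟨x, rfl⟩ hx
      have h := hss.aeval_sq_eq_zero (X - 1) (v := x) (by rw [hae]; exact sub_eq_zero.2 hx)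
      rwa [hae] at h
    have horth : ∀ k, f k = k → ∀ r ∈ LinearMap.range (f - 1), P r k = 0 := by
      rintro k hk _ ⟨x, rfl⟩
      rw [LinearMap.sub_apply, Module.End.one_apply, map_sub, LinearMap.sub_apply, sub_eq_zero]
      conv_lhs => rw [← hk]
      exact hP f hf x k
    refine ⟨hss, hdec, hdisj, horth, fun r hr h => hQ.1 r fun v => ?_, ?_⟩
    · obtain ⟨k, s, hk, hs, rfl⟩ := hdec v
      rw [map_add, horth k hk r hr, h s hs, add_zero]
    · rintro _ ⟨x, rfl⟩
      exact ⟨f x, by simp⟩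
  obtain ⟨hass, hadec, hadisj, haorth, hand, hast⟩ := facts a haQ ha
  obtain ⟨hbss, hbdec, hbdisj, hborth, hbnd, hbst⟩ := facts b hbQ hb
  set Ra := LinearMap.range (a - 1) with hRa
  set Rb := LinearMap.range (b - 1) with hRb
  have hpow : ∀ {f : Module.End F V} {R : Submodule F V} (hR : ∀ x ∈ R, f x ∈ R), f ^ N = 1 →
      (f.restrict hR) ^ N = 1 := fun {f R} hR hf => by
    refine LinearMap.ext fun x => Subtype.ext ?_
    rw [Module.End.pow_restrict, LinearMap.restrict_coe_apply, hf]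
    rfl
  have hfix : ∀ {f : Module.End F V}, f ^ N = 1 → ∀ v, f (f v) = v → f v = v := by
    intro f hf v hv
    obtain ⟨i, hi⟩ := hodd
    have h2 : ∀ i : ℕ, (f ^ (2 * i)) v = v := fun i => by
      induction i with
      | zero => simp
      | succ i ih =>
        rw [show 2 * (i + 1) = 2 * i + 1 + 1 by ring, pow_succ, pow_succ, Module.End.mul_apply,
          Module.End.mul_apply, hv, ih]
    have h := LinearMap.congr_fun hf v
    rwa [hi, pow_succ', Module.End.mul_apply, h2, Module.End.one_apply] at h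
  have hmap : Ra.map (C : V →ₗ[F] V) = Rb := by
    refine le_antisymm ?_ ?_
    · rintro _ ⟨_, ⟨x, rfl⟩, rfl⟩
      exact ⟨C x, by simp [hC]⟩
    · rintro _ ⟨y, rfl⟩
      obtain ⟨x, rfl⟩ := C.surjective y
      exact ⟨(a - 1) x, ⟨x, rfl⟩, by simp [hC]⟩
  let c : Ra ≃ₗ[F] Rb := (C.submoduleMap Ra).trans (LinearEquiv.ofEq _ _ hmap)
  have hchar : (a.restrict hast).charpoly = (b.restrict hbst).charpoly := by
    rw [← LinearEquiv.charpoly_conj c]
    congr 1
    refine LinearMap.ext fun y => ?_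
    obtain ⟨x, rfl⟩ := c.surjective y
    rw [LinearEquiv.conj_apply_apply, LinearEquiv.symm_apply_apply]
    exact Subtype.ext (hC x)
  obtain ⟨e, he, heP⟩ := Semisimple.exists_isometric_conj (N := N) (σ := RingHom.id F) (ε := (1 : F))
    _ Ra Rb (LinearMap.BilinForm.restrict P Ra) (LinearMap.BilinForm.restrict P Rb)
    (a.restrict hast) (b.restrict hbst) rfl
    ⟨fun x y => by rw [one_mul]; exact hswap (x : V) y, fun _ => rfl,
      fun x hx => Subtype.ext (hand x x.2 fun s hs => hx ⟨s, hs⟩)⟩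
    ⟨fun x y => by rw [one_mul]; exact hswap (x : V) y, fun _ => rfl,
      fun x hx => Subtype.ext (hbnd x x.2 fun s hs => hx ⟨s, hs⟩)⟩
    ⟨fun x y => hP a haQ _ _, hpow hast ha, hN⟩ ⟨fun x y => hP b hbQ _ _, hpow hbst hb, hN⟩
    (fun _ v hv => by
      rw [show v = 0 from Subtype.ext (hadisj v v.2 (hfix ha v (congrArg Subtype.val hv)))]
      simp)
    (fun _ v hv => by
      rw [show v = 0 from Subtype.ext (hbdisj v v.2 (hfix hb v (congrArg Subtype.val hv)))]
      simp) hchar
  -- the polar isometry respects the form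
  have hea : ∀ r : Ra, (e (a.restrict hast r) : V) = b (e r : V) := fun r => congrArg Subtype.val (he r)
  have hadd : ∀ r s : Ra, Q (e (r + s) : V) - Q ((r + s : Ra) : V) =
      (Q (e r : V) - Q (r : V)) + (Q (e s : V) - Q (s : V)) := by
    intro r s
    have h : P (e r : V) (e s : V) = P (r : V) (s : V) := heP r s
    rw [map_add, Submodule.coe_add, Submodule.coe_add, Forms.quadratic_map_add,
      Forms.quadratic_map_add, ← hPdef, h]
    abel
  have heQ : ∀ r : Ra, Q (e r : V) = Q (r : V) := by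
    intro r
    obtain ⟨x, hx⟩ := r.2
    obtain ⟨k, s, hk, hs, rfl⟩ := hadec x
    have hr : r + ⟨s, hs⟩ = a.restrict hast ⟨s, hs⟩ := by
      refine Subtype.ext ?_
      rw [Submodule.coe_add, LinearMap.restrict_coe_apply, ← hx]
      simp [hk]
    have h := hadd r ⟨s, hs⟩
    rw [hr, hea, hbQ, LinearMap.restrict_coe_apply, haQ] at h
    exact sub_eq_zero.1 (left_eq_add.1 (h.trans (add_comm _ _)))
  obtain ⟨g, hg, hge⟩ := Forms.witt_quadratic hQ Ra (Rb.subtype ∘ₗ (e : Ra →ₗ[F] Rb))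
    (Subtype.val_injective.comp e.injective) heQ
  have hgP : ∀ x y, P (g x) (g y) = P x y := fun x y => Forms.polar_map_of_mem_isomQ hg x y
  refine ⟨g, hg, fun v => ?_⟩
  obtain ⟨k, r, hk, hr, rfl⟩ := hadec v
  have hgk : b (g k) = g k := by
    obtain ⟨k', r', hk', hr', hgk⟩ := hbdec (g k)
    have : r' = 0 := hbnd r' hr' fun s hs => by
      obtain ⟨u, hu⟩ := e.surjective ⟨s, hs⟩
      have hs' : g (u : V) = s := (hge u).trans (congrArg Subtype.val hu)
      have h1 : P (g (u : V)) (g k) = 0 := by rw [hgP]; exact haorth k hk u u.2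
      rw [hgk, hs', map_add, hborth k' hk' s hs, zero_add] at h1
      rw [hswap]
      exact h1
    rw [hgk, this, add_zero, hk']
  have hgr : b (g r) = g (a r) := by
    have h1 := hge ⟨r, hr⟩
    have h2 := hge (a.restrict hast ⟨r, hr⟩)
    simp only [LinearMap.comp_apply, Submodule.subtype_apply, LinearEquiv.coe_coe] at h1 h2
    rw [LinearMap.restrict_coe_apply] at h2
    rw [h1, h2, hea]
  simp only [map_add, hk, hgk, hgr]

/-- Two semisimple elements of odd order of a finite orthogonal group (isometry group of a quadratic form on F^n with non-degenerate polar form, F finite of characteristic p; the elements have odd order prime to p) are conjugate in the orthogonal group if and only if they are conjugate in GL_n(F). -/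
theorem result {F : Type*} [Field F] [Fintype F] {p : ℕ} [Fact p.Prime] [CharP F p] {n : ℕ} (Q : QuadraticForm F (Fin n → F)) (hQ : (QuadraticMap.polarBilin Q).Nondegenerate) (A B : ↥(Cfsg.isometryGroup F ⇑Q)) (hodd : Odd (orderOf A)) (hA : (orderOf A).Coprime p) : IsConj A B ↔ IsConj ((A : Matrix.GeneralLinearGroup (Fin n) F) : Matrix (Fin n) (Fin n) F) ((B : Matrix.GeneralLinearGroup (Fin n) F) : Matrix (Fin n) (Fin n) F) := by
  refine ⟨fun h =>
    ((Units.coeHom (Matrix (Fin n) (Fin n) F)).comp (Cfsg.isometryGroup F ⇑Q).subtype).map_isConj h,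
    fun h => ?_⟩
  obtain ⟨c, hc⟩ := h
  let φ : ↥(Cfsg.isometryGroup F ⇑Q) →* Module.End F (Fin n → F) :=
    ((Matrix.toLinAlgEquiv' : Matrix (Fin n) (Fin n) F ≃ₐ[F] _).toAlgHom.toRingHom.toMonoidHom.comp
      (Units.coeHom (Matrix (Fin n) (Fin n) F))).comp (Cfsg.isometryGroup F ⇑Q).subtype
  let C : (Fin n → F) ≃ₗ[F] (Fin n → F) := LinearMap.GeneralLinearGroup.generalLinearEquiv F _
    (Units.map (Matrix.toLinAlgEquiv' (R := F) (n := Fin n)).toRingEquiv.toMonoidHom c)
  have hC : ∀ v, C (φ A v) = φ B (C v) := fun v => by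
    show Matrix.toLinAlgEquiv' (c : Matrix (Fin n) (Fin n) F) (φ A v) =
      φ B (Matrix.toLinAlgEquiv' (c : Matrix (Fin n) (Fin n) F) v)
    simp only [φ]
    show Matrix.toLinAlgEquiv' (c : Matrix (Fin n) (Fin n) F) (Matrix.toLinAlgEquiv' _ v) =
      Matrix.toLinAlgEquiv' _ (Matrix.toLinAlgEquiv' (c : Matrix (Fin n) (Fin n) F) v)
    rw [← Module.End.mul_apply, ← map_mul, ← Module.End.mul_apply, ← map_mul]
    exact congrArg (fun M => Matrix.toLinAlgEquiv' M v) hc.eq
  have hQφ : ∀ (X : ↥(Cfsg.isometryGroup F ⇑Q)) v, Q (φ X v) = Q v := fun X v => X.2 v 0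
  have hAN : φ A ^ orderOf A = 1 := by rw [← map_pow, pow_orderOf_eq_one, map_one]
  have hpow : ∀ (k : ℕ) v, C ((φ A ^ k) v) = (φ B ^ k) (C v) := fun k => by
    induction k with
    | zero => intro v; simp
    | succ k ih =>
      intro v
      rw [pow_succ', pow_succ', Module.End.mul_apply, Module.End.mul_apply, hC, ih]
  have hBN : φ B ^ orderOf A = 1 := LinearMap.ext fun w => by
    obtain ⟨v, rfl⟩ := C.surjective w
    rw [← hpow, hAN]
    rfl
  have hN : ((orderOf A : ℕ) : F) ≠ 0 := by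
    rw [Ne, CharP.cast_eq_zero_iff F p]
    exact fun hd => (Fact.out : p.Prime).not_dvd_one (hA ▸ Nat.dvd_gcd hd dvd_rfl)
  obtain ⟨g, hg, hgc⟩ := exists_isometry_conj hQ (φ A) (φ B) (hQφ A) (hQφ B) hodd hN hAN hBN C hC
  refine isConj_iff.2 ⟨(Forms.isometryGroupEquiv ⇑Q).symm ⟨g, hg⟩, ?_⟩
  rw [mul_inv_eq_iff_eq_mul]
  refine (Forms.isometryGroupEquiv ⇑Q).injective (Subtype.ext (LinearEquiv.ext fun v => ?_))
  rw [map_mul, map_mul, MulEquiv.apply_symm_apply]
  exact hgc v

end Cfsg.Agent.S2590
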