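import Cfsg.Statements.S2591
import Cfsg.Agent.Lib.RegSymp.Model

set_option autoImplicit false
open Cfsg

namespace Cfsg.Agent.S2591

open RegSymp

variable {m : ℕ} {F : Type*} [Field F]

theorem adj_pow_self {A : Mat m F} (h : adj A = A) (k : ℕ) : adj (A ^ k) = A ^ k := by
  induction k with
  | zero => rw [pow_zero, adj_one]
  | succ k ih => rw [pow_succ, adj_mul, ih, h, ← pow_succ', pow_succ]

/-- A fixed element of residue one is a square of a fixed element. -/
theorem exists_sqrt {t : Mat m F} (ht : Reg t) {p : ℕ} [Fact p.Prime] [CharP F p] (hp : Odd p)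
    {H : Mat m F} (hH : Res t H 1) (hfix : adj H = H) :
    ∃ s, Res t s 1 ∧ adj s = s ∧ s * s = H := by
  haveI : Nonempty (Fin m ⊕ Fin m) := ⟨Sum.inl ⟨0, ht.pos⟩⟩
  obtain ⟨r, hr, hH'⟩ := hH
  rw [one_smul] at hH'
  obtain ⟨k, hk⟩ := hp.pow (n := 2 * m)
  refine ⟨H ^ (k + 1), ?_, adj_pow_self hfix _, ?_⟩
  · have h := res_pow (⟨r, hr, by rw [one_smul]; exact hH'⟩ : Res t H 1) (k + 1)
    rwa [one_pow] at h
  · rw [← pow_add, show k + 1 + (k + 1) = p ^ (2 * m) + 1 by omega, pow_succ]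
    have hone : H ^ p ^ (2 * m) = 1 := by
      rw [hH', add_pow_char_pow_of_commute (p := p) (n := 2 * m) (h := Commute.one_left (t * r)), one_pow,
        hr.symm.mul_pow]
      have hle : 2 * m ≤ p ^ (2 * m) :=
        (Nat.lt_pow_self (Fact.out : p.Prime).one_lt).le
      rw [pow_eq_zero_of_le hle ht.pow_top, zero_mul, add_zero]
    rw [hone, one_mul]

variable (m F) in
/-- The two representatives: standard element and its twist by the similitude of multiplier `c`. -/
def gMat (c : F) : Mat m F := Matrix.fromBlocks (c • 1) 0 0 1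

theorem adj_gMat (c : F) : adj (gMat m F c) = Matrix.fromBlocks 1 0 0 (c • 1) := by
  rw [gMat, adj_fromBlocks]; simp

theorem gMat_mul (c : F) : gMat m F c * adj (gMat m F c) = c • 1 ∧
    adj (gMat m F c) * gMat m F c = c • 1 := by
  rw [adj_gMat, gMat]
  constructor <;> rw [Matrix.fromBlocks_multiply] <;>
    rw [← Matrix.fromBlocks_one, Matrix.fromBlocks_smul] <;> simp

variable (m F) in
/-- `gMat` as a unit. -/
noncomputable def gUnit {c : F} (hc : c ≠ 0) : (Mat m F)ˣ :=
  ⟨gMat m F c, c⁻¹ • adj (gMat m F c),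
    by rw [Matrix.mul_smul, (gMat_mul c).1, smul_smul, inv_mul_cancel₀ hc, one_smul],
    by rw [Matrix.smul_mul, (gMat_mul c).2, smul_smul, inv_mul_cancel₀ hc, one_smul]⟩

theorem adj_gUnit_inv {c : F} (hc : c ≠ 0) :
    adj ((gUnit m F hc)⁻¹ : (Mat m F)ˣ).val = c⁻¹ • gMat m F c := by
  show adj (c⁻¹ • adj (gMat m F c)) = _
  rw [adj_smul, adj_adj]

theorem conj_mem (ht : 1 ≤ m) {c : F} (hc : c ≠ 0) {u : Mat m F} (hu : u * adj u = 1) :
    (gUnit m F hc : Mat m F) * u * ((gUnit m F hc)⁻¹ : (Mat m F)ˣ).val *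
      adj ((gUnit m F hc : Mat m F) * u * ((gUnit m F hc)⁻¹ : (Mat m F)ˣ).val) = 1 := by
  have _ := ht
  set G := gUnit m F hc
  have h1 : (G⁻¹ : (Mat m F)ˣ).val * adj (G⁻¹ : (Mat m F)ˣ).val = c⁻¹ • 1 := by
    rw [adj_gUnit_inv hc]
    show (c⁻¹ • adj (gMat m F c)) * (c⁻¹ • gMat m F c) = _
    rw [Matrix.smul_mul, Matrix.mul_smul, (gMat_mul c).2, smul_smul, smul_smul, mul_assoc,
      inv_mul_cancel₀ hc, mul_one]
  rw [adj_mul, adj_mul]
  calc (G : Mat m F) * u * (G⁻¹ : (Mat m F)ˣ).val *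
        (adj (G⁻¹ : (Mat m F)ˣ).val * (adj u * adj (G : Mat m F)))
      = (G : Mat m F) * u * ((G⁻¹ : (Mat m F)ˣ).val * adj (G⁻¹ : (Mat m F)ˣ).val) *
          (adj u * adj (G : Mat m F)) := by simp only [mul_assoc]
    _ = c⁻¹ • ((G : Mat m F) * (u * adj u) * adj (G : Mat m F)) := by
        rw [h1, Matrix.mul_smul, Matrix.smul_mul, mul_one]; simp only [mul_assoc]
    _ = 1 := by
        rw [hu, mul_one]
        show c⁻¹ • (gMat m F c * adj (gMat m F c)) = 1
        rw [(gMat_mul c).1, smul_smul, inv_mul_cancel₀ hc, one_smul]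

theorem conj_pow_eq (G : (Mat m F)ˣ) (M : Mat m F) (k : ℕ) :
    ((G : Mat m F) * M * (G⁻¹ : (Mat m F)ˣ).val) ^ k = (G : Mat m F) * M ^ k * (G⁻¹ : (Mat m F)ˣ).val :=
  Units.conj_pow G M k

theorem cay_facts {t : Mat m F} (ht : Reg t) (h2 : (2 : F) ≠ 0) :
    (cay t - 1) ^ (2 * m) = 0 ∧ (cay t - 1) ^ (2 * m - 1) ≠ 0 ∧ cay t * adj (cay t) = 1 ∧
      ∀ g, Commute g (cay t) ↔ Commute g t := by
  haveI : Nonempty (Fin m ⊕ Fin m) := ⟨Sum.inl ⟨0, ht.pos⟩⟩
  have hn := ht.nilpotent
  have hu := hn.isUnit_one_sub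
  have hmul := cay_mul hn
  have hc : Commute (Ring.inverse (1 - t)) t := by
    rw [← hu.unit_spec, Ring.inverse_unit]
    exact Commute.units_inv_left (by rw [hu.unit_spec]; exact (Commute.one_left t).sub_left (Commute.refl t))
  have hN : cay t - 1 = ((2 : F) • t) * Ring.inverse (1 - t) := by
    refine hu.mul_right_cancel ?_
    rw [sub_mul, hmul, one_mul, mul_assoc, Ring.inverse_mul_cancel _ hu, mul_one, two_smul]
    abel
  have hpow : ∀ k, (cay t - 1) ^ k = ((2 : F) ^ k • t ^ k) * Ring.inverse (1 - t) ^ k := fun k => by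
    rw [hN, (hc.symm.smul_left (2 : F)).mul_pow, smul_pow]
  refine ⟨by rw [hpow, ht.pow_top, smul_zero, zero_mul], fun h => ?_,
    isometry_of_skew ht.skew hn.isUnit_one_add hu hmul (commute_cay hn (Commute.refl t)), fun g =>
      ⟨fun hg => ?_, fun hg => (commute_cay hn hg.symm).symm⟩⟩
  · rw [hpow] at h
    have hiu : IsUnit (Ring.inverse (1 - t) ^ (2 * m - 1)) := by
      rw [← hu.unit_spec, Ring.inverse_unit]; exact (Units.isUnit _).pow _
    exact ht.pow_pred ((smul_eq_zero.1 (hiu.mul_left_eq_zero.1 h)).resolve_left (pow_ne_zero _ h2))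
  · have h1 : (cay t + 1) * (1 - t) = (2 : F) • 1 := by
      rw [add_mul, hmul, one_mul, two_smul]; abel
    have hu1 : IsUnit (cay t + 1) := by
      refine res_isUnit ht (res_add (res_cay ht ?_) res_one) (by rw [show (1 : F) + 1 = 2 by norm_num]; exact h2)
      simpa using res_mul_t (t := t) (r := 1) (Commute.one_left t)
    have h3 : Commute g (1 - t) := by
      refine hu1.mul_left_cancel ?_
      rw [← mul_assoc, ← (hg.add_right (Commute.one_right g)).eq, mul_assoc, h1, ← mul_assoc, h1,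
        Matrix.mul_smul, mul_one, Matrix.smul_mul, one_mul]
    simpa using (Commute.one_right g).sub_right h3


/-- Over a finite field of odd order and for m ≥ 1, the regular unipotent elements of Sp_2m(F) (u − 1 nilpotent of rank 2m − 1, a single Jordan block) form exactly two conjugacy classes of Sp_2m(F) (one class under the similarity group, which splits in two). -/
theorem result {F : Type*} [Field F] [Fintype F] {q : ℕ} (hF : Fintype.card F = q) (hq : Odd q) {m : ℕ} (hm : 1 ≤ m) : Nat.card {C : ConjClasses ↥(Matrix.symplecticGroup (Fin m) F) // ∃ u : Matrix.symplecticGroup (Fin m) F, ConjClasses.mk u = C ∧ ((u : Matrix (Fin m ⊕ Fin m) (Fin m ⊕ Fin m) F) - 1) ^ (2 * m) = 0 ∧ ((u : Matrix (Fin m ⊕ Fin m) (Fin m ⊕ Fin m) F) - 1).rank = 2 * m - 1} = 2 := by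
  classical
  obtain ⟨p, hp⟩ := CharP.exists F
  obtain ⟨e, hpp, he⟩ := FiniteField.card F p
  haveI := Fact.mk hpp
  have hpodd : Odd p := by
    rw [hF] at he
    rw [he] at hq
    exact (Nat.odd_pow_iff e.ne_zero).1 hq
  have hring : ringChar F ≠ 2 := by
    rw [ringChar.eq F p]
    rintro rfl
    exact absurd hpodd (by decide)
  have h2 : (2 : F) ≠ 0 := Ring.two_ne_zero hring
  obtain ⟨c, hcsq⟩ := FiniteField.exists_nonsquare hring
  have hc : c ≠ 0 := fun h => hcsq (h ▸ ⟨0, (mul_zero 0).symm⟩)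
  set t := stdT m F
  have ht : Reg t := reg_stdT hm
  obtain ⟨hnil, hpred, hiso, hcom⟩ := cay_facts ht h2
  set u0 := cay t
  set G := gUnit m F hc
  let U0 : Matrix.symplecticGroup (Fin m) F := ⟨u0, mem_sp_iff.2 hiso⟩
  let U2 : Matrix.symplecticGroup (Fin m) F :=
    ⟨(G : Mat m F) * u0 * (G⁻¹ : (Mat m F)ˣ).val, mem_sp_iff.2 (conj_mem hm hc hiso)⟩
  have hsub : (U2 : Mat m F) - 1 = (G : Mat m F) * (u0 - 1) * (G⁻¹ : (Mat m F)ˣ).val := by
    rw [mul_sub, sub_mul, mul_one, Units.mul_inv]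
  have hnil2 : ((U2 : Mat m F) - 1) ^ (2 * m) = 0 := by
    rw [hsub, conj_pow_eq, hnil, mul_zero, zero_mul]
  have hpred2 : ((U2 : Mat m F) - 1) ^ (2 * m - 1) ≠ 0 := by
    rw [hsub, conj_pow_eq]
    intro h
    rw [Units.mul_left_eq_zero, Units.mul_right_eq_zero] at h
    exact hpred h
  rw [Nat.card_eq_two_iff]
  refine ⟨⟨ConjClasses.mk U0, U0, rfl, hnil, rank_eq_pred hm hnil hpred⟩,
    ⟨ConjClasses.mk U2, U2, rfl, hnil2, rank_eq_pred hm hnil2 hpred2⟩, fun h => ?_, ?_⟩
  · -- the two classes differ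
    obtain ⟨w, hw⟩ := isConj_iff.1 (ConjClasses.mk_eq_mk_iff_isConj.1 (congrArg Subtype.val h))
    rw [mul_inv_eq_iff_eq_mul] at hw
    have hw' : (w : Mat m F) * u0 = (G : Mat m F) * u0 * (G⁻¹ : (Mat m F)ˣ).val * (w : Mat m F) :=
      congrArg Subtype.val hw
    set y := (G⁻¹ : (Mat m F)ˣ).val * (w : Mat m F) with hy
    have hyu : Commute y u0 := by
      show y * u0 = u0 * y
      rw [hy, mul_assoc, hw']
      simp only [← mul_assoc, Units.inv_mul, one_mul]
    obtain ⟨a, ha⟩ := exists_res ht ((hcom y).1 hyu)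
    have hyy : y * adj y = c⁻¹ • 1 := by
      rw [hy, adj_mul]
      calc (G⁻¹ : (Mat m F)ˣ).val * (w : Mat m F) * (adj (w : Mat m F) * adj (G⁻¹ : (Mat m F)ˣ).val)
          = (G⁻¹ : (Mat m F)ˣ).val * ((w : Mat m F) * adj (w : Mat m F)) * adj (G⁻¹ : (Mat m F)ˣ).val := by
            simp only [mul_assoc]
        _ = c⁻¹ • 1 := by
            rw [mem_sp_iff.1 w.2, mul_one, adj_gUnit_inv hc, Matrix.mul_smul]
            exact congrArg (c⁻¹ • ·) G.inv_mul
    have haa := res_mul ha (res_adj ht ha)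
    rw [hyy] at haa
    have hac := res_unique ht haa (res_scalar c⁻¹)
    refine hcsq ⟨a⁻¹, ?_⟩
    rw [← mul_inv, hac, inv_inv]
  · -- every class is one of them
    rw [Set.eq_univ_iff_forall]
    rintro ⟨C, u, rfl, hun, hur⟩
    set u' := (u : Mat m F) with hu'
    have hcard : 2 * m = Fintype.card (Fin m ⊕ Fin m) := by
      rw [Fintype.card_sum, Fintype.card_fin]; omega
    obtain ⟨g, hg⟩ := RegNilp.exists_conj hcard (by omega) hnil (rank_eq_pred hm hnil hpred) hun hur
    have hgu : (g : Mat m F) * u0 = u' * (g : Mat m F) := by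
      rw [mul_sub, sub_mul, mul_one, one_mul, sub_left_inj] at hg
      exact hg
    have hu1 : u' * adj u' = 1 := mem_sp_iff.1 u.2
    have hadj : adj (g : Mat m F) * u' = u0 * adj (g : Mat m F) := by
      have h := congrArg adj hgu
      rw [adj_mul, adj_mul] at h
      have h' := congrArg (fun x => u0 * x * u') h
      simp only [← mul_assoc, hiso, one_mul] at h'
      rw [mul_assoc (u0 * adj (g : Mat m F)), mul_eq_one_comm.1 hu1, mul_one] at h'
      exact h'
    set H := adj (g : Mat m F) * (g : Mat m F) with hH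
    have hHu : Commute H u0 := by
      show H * u0 = u0 * H
      rw [hH, mul_assoc, hgu, ← mul_assoc, hadj, mul_assoc]
    have hHfix : adj H = H := by rw [hH, adj_mul, adj_adj]
    obtain ⟨a, ha⟩ := exists_res ht ((hcom H).1 hHu)
    have ha0 : a ≠ 0 := by
      rintro rfl
      haveI : Nonempty (Fin m ⊕ Fin m) := ⟨Sum.inl ⟨0, ht.pos⟩⟩
      refine (res_nilpotent ht ha).not_isUnit (IsUnit.mul ?_ g.isUnit)
      refine IsUnit.of_mul_eq_one (adj (g⁻¹ : GL (Fin m ⊕ Fin m) F).val) ?_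
      rw [← adj_mul, Units.inv_mul, adj_one]
    have hH1 : Res t (a⁻¹ • H) 1 := inv_mul_cancel₀ ha0 ▸ res_smul a⁻¹ ha
    obtain ⟨s, hs, hsfix, hss⟩ := exists_sqrt ht hpodd hH1 (by rw [adj_smul, hHfix])
    have finish : ∀ (V : Matrix.symplecticGroup (Fin m) F) (W : Mat m F),
        adj W * W = 1 → W * (V : Mat m F) = u' * W → ConjClasses.mk u = ConjClasses.mk V := by
      intro V W hW hWV
      rw [ConjClasses.mk_eq_mk_iff_isConj]
      refine (isConj_iff.2 ⟨⟨W, mem_sp_iff.2 (mul_eq_one_comm.1 hW)⟩, ?_⟩).symm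
      rw [mul_inv_eq_iff_eq_mul]
      exact Subtype.ext hWV
    have hroot : ∀ b : F, b ≠ 0 → ∃ xi : Mat m F, Commute xi u0 ∧
        adj xi * H * xi = (a * (b * b)⁻¹) • 1 := by
      intro b hb
      have hx := res_smul b hs
      rw [mul_one] at hx
      have hxu := res_isUnit ht hx hb
      have hcu : Commute (b • s) u0 := (hcom _).2 (commute_of_res hx)
      refine ⟨(hxu.unit⁻¹ : (Mat m F)ˣ).val, Commute.units_inv_left (by rw [hxu.unit_spec]; exact hcu), ?_⟩
      have hxfix : adj (b • s) = b • s := by rw [adj_smul, hsfix]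
      have hHx : H = (a * (b * b)⁻¹) • (adj (b • s) * (b • s)) := by
        rw [hxfix, Matrix.smul_mul, Matrix.mul_smul, smul_smul, smul_smul, hss, smul_smul]
        rw [show a * (b * b)⁻¹ * b * b * a⁻¹ = 1 by field_simp, one_smul]
      rw [hHx, Matrix.mul_smul, Matrix.smul_mul, ← mul_assoc, ← adj_mul, mul_assoc]
      have h1 : (b • s) * (hxu.unit⁻¹ : (Mat m F)ˣ).val = 1 := hxu.mul_val_inv
      rw [h1, adj_one, one_mul]
    simp only [Set.mem_insert_iff, Set.mem_singleton_iff, Subtype.mk.injEq]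
    by_cases hsq : IsSquare a
    · left
      obtain ⟨b, hb⟩ := hsq
      have hb0 : b ≠ 0 := fun h => ha0 (by rw [hb, h, mul_zero])
      obtain ⟨xi, hxc, hxh⟩ := hroot b hb0
      refine finish U0 ((g : Mat m F) * xi) ?_ ?_
      · rw [adj_mul, mul_assoc, ← mul_assoc (adj (g : Mat m F)), ← hH, ← mul_assoc, hxh, ← hb,
          mul_inv_cancel₀ ha0, one_smul]
      · show (g : Mat m F) * xi * u0 = u' * ((g : Mat m F) * xi)
        rw [mul_assoc, hxc.eq, ← mul_assoc, hgu, mul_assoc]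
    · right
      obtain ⟨d, hd⟩ : IsSquare (a * c) := by
        rw [← quadraticChar_one_iff_isSquare (mul_ne_zero ha0 hc), map_mul,
          quadraticChar_neg_one_iff_not_isSquare.2 hsq, quadraticChar_neg_one_iff_not_isSquare.2 hcsq]
        norm_num
      have hd0 : d ≠ 0 := fun h => mul_ne_zero ha0 hc (by rw [hd, h, mul_zero])
      obtain ⟨xi, hxc, hxh⟩ := hroot (d / c) (div_ne_zero hd0 hc)
      have hcoef : a * (d / c * (d / c))⁻¹ = c := by
        field_simp
        linear_combination hd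
      rw [hcoef] at hxh
      refine finish U2 ((g : Mat m F) * xi * (G⁻¹ : (Mat m F)ˣ).val) ?_ ?_
      · rw [adj_mul, adj_mul]
        calc adj (G⁻¹ : (Mat m F)ˣ).val * (adj xi * adj (g : Mat m F)) *
              ((g : Mat m F) * xi * (G⁻¹ : (Mat m F)ˣ).val)
            = adj (G⁻¹ : (Mat m F)ˣ).val * (adj xi * H * xi) * (G⁻¹ : (Mat m F)ˣ).val := by
              rw [hH]; simp only [mul_assoc]
          _ = 1 := by
              rw [hxh, Matrix.mul_smul, Matrix.smul_mul, mul_one, adj_gUnit_inv hc, Matrix.smul_mul,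
                smul_smul, mul_inv_cancel₀ hc, one_smul]
              exact G.mul_inv
      · show (g : Mat m F) * xi * (G⁻¹ : (Mat m F)ˣ).val * ((G : Mat m F) * u0 * (G⁻¹ : (Mat m F)ˣ).val) =
          u' * ((g : Mat m F) * xi * (G⁻¹ : (Mat m F)ˣ).val)
        calc (g : Mat m F) * xi * (G⁻¹ : (Mat m F)ˣ).val * ((G : Mat m F) * u0 * (G⁻¹ : (Mat m F)ˣ).val)
            = (g : Mat m F) * xi * ((G⁻¹ : (Mat m F)ˣ).val * (G : Mat m F)) * u0 * (G⁻¹ : (Mat m F)ˣ).val := by
              simp only [mul_assoc]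
          _ = (g : Mat m F) * (xi * u0) * (G⁻¹ : (Mat m F)ˣ).val := by
              rw [Units.inv_mul, mul_one]; simp only [mul_assoc]
          _ = _ := by
              rw [hxc.eq, ← mul_assoc, hgu]; simp only [mul_assoc]

end Cfsg.Agent.S2591
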