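import Cfsg.Statements.S2593
import Cfsg.Agent.Lib.Forms.InvolTwoCount

set_option autoImplicit false
open Cfsg

namespace Cfsg.Agent.S2593

/-- Number of conjugacy classes of involutions in the symplectic group Sp_2m(F) over a finite field of characteristic two (m ≥ 1): for each s with 1 ≤ s ≤ m there is one class with rank(t − 1) = s if s is odd and two if s is even (according as v ↦ f(v, tv), f the symplectic form, vanishes identically or not), so m + ⌊m/2⌋ classes in all. -/
theorem result {F : Type*} [Field F] [Fintype F] [CharP F 2] {m : ℕ} (hm : 1 ≤ m) : Nat.card {C : ConjClasses ↥(Matrix.symplecticGroup (Fin m) F) // ∃ g : Matrix.symplecticGroup (Fin m) F, ConjClasses.mk g = C ∧ orderOf g = 2} = m + m / 2 := by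
  open Cfsg.Agent.Forms in
  refine InvolTwoCount.card_classes hm (Matrix.symplecticGroup (Fin m) F).subtype
    Subtype.val_injective (fun g => g.2) (fun a b ha hb hr ht => ?_)
    (fun k => ⟨⟨_, OrthTwo.mem_symp_of_isom (InvolTwoCount.quad_swapXY k)⟩, rfl⟩)
    (fun k hk => ⟨⟨_, OrthTwo.mem_symp_of_isom (InvolTwoCount.quad_swapPairs hk)⟩, rfl⟩)
  obtain ⟨c, hc⟩ := SympTwo.exists_conj a.2 ha b.2 hb hr ht
  exact isConj_iff.2 ⟨c, mul_inv_eq_iff_eq_mul.2 (Subtype.ext hc)⟩

end Cfsg.Agent.S2593
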