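import Cfsg.Statements.S2594
import Cfsg.Agent.Lib.ClassicalSimple.RankOne
import Cfsg.Agent.Lib.Forms.Symp

set_option autoImplicit false
open Cfsg

namespace Cfsg.Agent.S2594

/-- Over a finite field with q elements, q even, an element t of Sp_2m(F) with rank(t − 1) = 1 (a symplectic transvection) has centraliser in Sp_2m(F) of order q^(2m−1) · |Sp_(2m−2)(q)| = q^(2m−1) · q^((m−1)²) · Π_(i=1)^(m−1) (q^(2i) − 1). -/
theorem result {F : Type*} [Field F] [Fintype F] [CharP F 2] {q : ℕ} (hF : Fintype.card F = q) {m : ℕ} (hm : 1 ≤ m) (t : Matrix.symplecticGroup (Fin m) F) (ht : ((t : Matrix (Fin m ⊕ Fin m) (Fin m ⊕ Fin m) F) - 1).rank = 1) : Nat.card ↥(Subgroup.centralizer ({t} : Set ↥(Matrix.symplecticGroup (Fin m) F))) = q ^ (2 * m - 1) * (q ^ ((m - 1) ^ 2) * ∏ i : Fin (m - 1), (q ^ (2 * ((i : ℕ) + 1)) - 1)) := by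
  classical
  haveI : Nontrivial (Fin m ⊕ Fin m → F) := ClassicalSimple.nontrivial_symplectic_space hm
  let e := ClassicalSimple.symplecticEquiv (m := m) (F := F)
  obtain ⟨p, φ, hp, hφ, hx⟩ := ClassicalSimple.exists_eq_add_smul_of_rank_sub_one ht
  have hA := ClassicalSimple.sympBilin_isAlt (m := m) (F := F)
  have hN := ClassicalSimple.sympBilin_nondegenerate (m := m) (F := F)
  obtain ⟨c, hc, het⟩ := ClassicalSimple.spTransv_of_rank_one hA hN (e t) hp hφ fun x => by
    rw [ClassicalSimple.symplecticEquiv_smul]; exact hx x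
  -- the centraliser is the stabiliser of `p`
  have hiff : ∀ g, g ∈ Subgroup.centralizer ({t} : Set ↥(Matrix.symplecticGroup (Fin m) F)) ↔
      e g ∈ MulAction.stabilizer (ClassicalSimple.SpB (ClassicalSimple.sympBilin m F)) p := by
    intro g
    rw [Subgroup.mem_centralizer_singleton_iff, MulAction.mem_stabilizer_iff, ← e.injective.eq_iff,
      map_mul, map_mul, het, ← mul_inv_eq_iff_eq_mul, ClassicalSimple.spTransv_conj]
    constructor
    · intro h'
      obtain ⟨y, hy⟩ := ClassicalSimple.exists_B_ne_zero hN hp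
      have hy' : ClassicalSimple.sympBilin m F y p ≠ 0 := fun k => hy (hA.isRefl _ _ k)
      have key := congrArg (fun k : ClassicalSimple.SpB (ClassicalSimple.sympBilin m F) => k • y) h'
      simp only [ClassicalSimple.spTransv_smul, add_right_inj] at key
      obtain ⟨a, ha⟩ : ∃ a : F, e g • p = a • p := by
        have : c * ClassicalSimple.sympBilin m F y (e g • p) ≠ 0 := by
          intro k
          rw [k, zero_smul] at key
          exact hp ((smul_eq_zero.1 key.symm).resolve_left (mul_ne_zero hc hy'))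
        exact ⟨(c * ClassicalSimple.sympBilin m F y (e g • p))⁻¹ *
          (c * ClassicalSimple.sympBilin m F y p), by rw [mul_smul, ← key, inv_smul_smul₀ this]⟩
      rw [ha, map_smul, smul_smul, smul_eq_mul] at key
      have h1 : a * a = 1 := by
        refine mul_left_cancel₀ (mul_ne_zero hc hy') ?_
        linear_combination smul_left_injective F hp key
      have h2 : a = 1 := CharTwo.sq_injective (by rw [sq, h1, one_pow] : a ^ 2 = 1 ^ 2)
      rw [ha, h2, one_smul]
    · intro h
      rw [h]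
  rw [Nat.card_congr (Equiv.subtypeEquiv e.toEquiv hiff)]
  have horb : MulAction.orbit (ClassicalSimple.SpB (ClassicalSimple.sympBilin m F)) p =
      {v : Fin m ⊕ Fin m → F | v ≠ 0} := by
    ext v
    constructor
    · rintro ⟨g, rfl⟩ h
      exact hp ((smul_eq_zero_iff_eq g).1 h)
    · intro hv
      obtain ⟨g, -, hg⟩ := ClassicalSimple.transvGroup_trans_vec hA hN hp hv
      exact ⟨g, hg⟩
  have hprod : Nat.card (MulAction.orbit (ClassicalSimple.SpB (ClassicalSimple.sympBilin m F)) p) *
      Nat.card (MulAction.stabilizer (ClassicalSimple.SpB (ClassicalSimple.sympBilin m F)) p) =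
      Nat.card (Matrix.symplecticGroup (Fin m) F) := by
    rw [← Nat.card_prod, Nat.card_congr (MulAction.orbitProdStabilizerEquivGroup _ p),
      Nat.card_congr e.toEquiv]
  rw [horb, Forms.card_symplecticGroup, hF] at hprod
  obtain ⟨k, rfl⟩ : ∃ k, m = k + 1 := ⟨m - 1, by omega⟩
  have hne : Nat.card {v : Fin (k + 1) ⊕ Fin (k + 1) → F | v ≠ 0} = q ^ (2 * (k + 1)) - 1 := by
    rw [show Nat.card {v : Fin (k + 1) ⊕ Fin (k + 1) → F | v ≠ 0} =
      Fintype.card {v : Fin (k + 1) ⊕ Fin (k + 1) → F // ¬ v = 0} from Nat.card_eq_fintype_card,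
      Fintype.card_subtype_compl, Fintype.card_subtype_eq,
      Fintype.card_fun, Fintype.card_sum, Fintype.card_fin, hF, two_mul]
  rw [hne, Finset.prod_range_succ] at hprod
  have hq : 2 ≤ q := hF ▸ Fintype.one_lt_card
  have hpos : 0 < q ^ (2 * (k + 1)) - 1 :=
    Nat.sub_pos_of_lt (Nat.one_lt_pow (by omega) (by omega))
  refine Nat.eq_of_mul_eq_mul_left hpos (hprod.trans ?_)
  rw [Nat.add_sub_cancel, Fin.prod_univ_eq_prod_range (fun i => q ^ (2 * (i + 1)) - 1) k,
    show 2 * (k + 1) - 1 = 2 * k + 1 by omega, show (k + 1) ^ 2 = 2 * k + 1 + k ^ 2 by ring, pow_add]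
  ring

end Cfsg.Agent.S2594
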