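import Cfsg.Statements.S2595
import Cfsg.Agent.Lib.Forms.InvolTwoCount

set_option autoImplicit false
open Cfsg

namespace Cfsg.Agent.S2595

/-- Number of conjugacy classes of involutions in the full orthogonal group O⁺_2m(F) of the hyperbolic quadratic form Σ x_i y_i over a finite field of characteristic two (m ≥ 1): one class for each odd s ≤ m and two for each even s with 2 ≤ s ≤ m, where s = rank(t − 1); in all m + ⌊m/2⌋. -/
theorem result {F : Type*} [Field F] [Fintype F] [CharP F 2] {m : ℕ} (hm : 1 ≤ m) : Nat.card {C : ConjClasses ↥(Cfsg.isometryGroup F (Cfsg.quadFormPlus m F)) // ∃ g : ↥(Cfsg.isometryGroup F (Cfsg.quadFormPlus m F)), ConjClasses.mk g = C ∧ orderOf g = 2} = m + m / 2 := by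
  classical
  open Cfsg.Agent.Forms in
  have hQ : ∀ (x : ↥(Cfsg.isometryGroup F (Cfsg.quadFormPlus m F))) (v : Fin m ⊕ Fin m → F),
      Forms.quadPlus m F ((x.1 : Matrix (Fin m ⊕ Fin m) (Fin m ⊕ Fin m) F).mulVec v) =
        Forms.quadPlus m F v := fun x v => by
    rw [Forms.quadPlus_apply, Forms.quadPlus_apply]; exact x.2 v 0
  have hmk : ∀ (π : Fin m ⊕ Fin m → Fin m ⊕ Fin m), Function.Involutive π →
      (∀ v, Forms.quadPlus m F ((Forms.InvolTwoCount.permMat π : Matrix _ _ F).mulVec v) = Forms.quadPlus m F v) →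
      ∃ g : ↥(Cfsg.isometryGroup F (Cfsg.quadFormPlus m F)),
        (g.1 : Matrix (Fin m ⊕ Fin m) (Fin m ⊕ Fin m) F) = Forms.InvolTwoCount.permMat π :=
    fun π hπ hq => ⟨⟨⟨_, _, Forms.InvolTwoCount.permMat_mul_self hπ, Forms.InvolTwoCount.permMat_mul_self hπ⟩,
      fun u _ => by
        have := hq u
        rwa [Forms.quadPlus_apply, Forms.quadPlus_apply] at this⟩, rfl⟩
  refine Forms.InvolTwoCount.card_classes hm
    ((Units.coeHom (Matrix (Fin m ⊕ Fin m) (Fin m ⊕ Fin m) F)).comp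
      (Cfsg.isometryGroup F (Cfsg.quadFormPlus m F)).subtype)
    (fun _ _ h => Subtype.ext (Units.ext h)) (fun g => Forms.OrthTwo.mem_symp_of_isom (hQ g))
    (fun a b ha hb hr ht => ?_)
    (fun k => hmk _ (Forms.InvolTwoCount.swapXY_involutive k) (Forms.InvolTwoCount.quad_swapXY k))
    (fun k hk => hmk _ (Forms.InvolTwoCount.swapPairs_involutive hk) (Forms.InvolTwoCount.quad_swapPairs hk))
  obtain ⟨c, hc⟩ := Forms.OrthTwo.exists_conj_orth (Forms.OrthTwo.mem_symp_of_isom (hQ a)) ha (hQ a) hm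
    (Forms.OrthTwo.mem_symp_of_isom (hQ b)) hb (hQ b) hr ht
  exact isConj_iff.2 ⟨c, mul_inv_eq_iff_eq_mul.2 (Subtype.ext (Units.ext hc))⟩

end Cfsg.Agent.S2595
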