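import Cfsg.Statements.S2598
import Cfsg.Agent.Lib.Forms.OmegaTwoClasses
import Cfsg.Agent.S0824

set_option autoImplicit false
open Cfsg

namespace Cfsg.Agent.S2598

theorem five_table : ∀ g : Equiv.Perm (Fin 5), Equiv.Perm.sign g = 1 → g * g = 1 → g ≠ 1 →
    ∃ c : Equiv.Perm (Fin 5), Equiv.Perm.sign c = 1 ∧
      c * (Equiv.swap 0 1 * Equiv.swap 2 3) = g * c := by
  decide +kernel

/-- A group isomorphic to `S₅` has a commutator subgroup with one class of involutions. -/
theorem one_class {G : Type*} [Group G] (φ : G ≃* Equiv.Perm (Fin 5)) :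
    Nat.card {C : ConjClasses ↥(commutator G) // ∃ g : ↥(commutator G), ConjClasses.mk g = C ∧ orderOf g = 2} = 1 := by
  classical
  have hmap : ∀ x : G, x ∈ commutator G ↔ Equiv.Perm.sign (φ x) = 1 := fun x => by
    refine ⟨fun hx => ?_, fun hx => ?_⟩
    · exact Abelianization.commutator_subset_ker (Equiv.Perm.sign.comp φ.toMonoidHom) hx
    · have h1 : φ x ∈ commutator (Equiv.Perm (Fin 5)) := by
        rw [alternatingGroup.commutator_perm_eq (by simp)]
        exact Equiv.Perm.mem_alternatingGroup.2 hx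
      have h2 : commutator (Equiv.Perm (Fin 5)) ≤ (commutator G).map φ.toMonoidHom := by
        rw [commutator_def, commutator_def, Subgroup.map_commutator, ← MonoidHom.range_eq_map,
          MonoidHom.range_eq_top.2 φ.surjective]
      obtain ⟨y, hy, hxy⟩ := h2 h1
      rwa [φ.injective hxy] at hy
  set t : Equiv.Perm (Fin 5) := Equiv.swap 0 1 * Equiv.swap 2 3 with ht
  have ht1 : Equiv.Perm.sign t = 1 ∧ t * t = 1 ∧ t ≠ 1 := by rw [ht]; decide +kernel
  let r : ↥(commutator G) := ⟨φ.symm t, (hmap _).2 (by rw [φ.apply_symm_apply]; exact ht1.1)⟩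
  haveI : Fact (Nat.Prime 2) := ⟨Nat.prime_two⟩
  have hr : orderOf r = 2 := by
    rw [← Subgroup.orderOf_coe, ← φ.orderOf_eq, φ.apply_symm_apply]
    exact orderOf_eq_prime (by rw [pow_two]; exact ht1.2.1) ht1.2.2
  rw [Nat.card_eq_one_iff_unique]
  refine ⟨⟨?_⟩, ⟨⟨_, r, rfl, hr⟩⟩⟩
  suffices h : ∀ g : ↥(commutator G), orderOf g = 2 → IsConj r g by
    rintro ⟨_, g, rfl, hg⟩ ⟨_, g', rfl, hg'⟩
    exact Subtype.ext (ConjClasses.mk_eq_mk_iff_isConj.2 ((h g hg).symm.trans (h g' hg')))
  intro g hg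
  have hg' : orderOf (φ (g : G)) = 2 := by rw [φ.orderOf_eq, Subgroup.orderOf_coe, hg]
  obtain ⟨c, hc, hcg⟩ := five_table (φ (g : G)) ((hmap _).1 g.2)
    (by rw [← pow_two, ← hg', pow_orderOf_eq_one]) (fun e => by rw [e, orderOf_one] at hg'; omega)
  refine isConj_iff.2 ⟨⟨φ.symm c, (hmap _).2 (by rw [φ.apply_symm_apply]; exact hc)⟩,
    Subtype.ext (φ.injective ?_)⟩
  show φ (φ.symm c * φ.symm t * (φ.symm c)⁻¹) = φ g
  rw [map_mul, map_mul, map_inv, φ.apply_symm_apply, φ.apply_symm_apply, mul_inv_eq_iff_eq_mul, ht, hcg]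

/-- Number of conjugacy classes of involutions in Ω⁻_2m(F) (the commutator subgroup of the orthogonal group of an elliptic quadratic form, Σ_(i<m−1) x_i y_i plus an anisotropic binary form) over a finite field F of characteristic two, m ≥ 1: the involutions of Ω are those with s = rank(t − 1) even, one O-class for each even s with 2 ≤ s ≤ m on which v ↦ f(v, tv) is not identically zero and one for each even s with 2 ≤ s < m on which it is zero (f the polar form; in characteristic 2, f(v, tv) = Q(v + tv)), none of which splits in Ω; in all ⌊m/2⌋ + ⌊(m − 1)/2⌋. -/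
theorem result {F : Type*} [Field F] [Fintype F] [CharP F 2] {m : ℕ} (hm : 1 ≤ m) (a b : F) (hab : ∀ z₁ z₂ : F, z₁ ^ 2 + a * z₁ * z₂ + b * z₂ ^ 2 = 0 → z₁ = 0 ∧ z₂ = 0) : Nat.card {C : ConjClasses ↥(Cfsg.Omega F (Cfsg.quadFormMinus (m - 1) F a b)) // ∃ g : ↥(Cfsg.Omega F (Cfsg.quadFormMinus (m - 1) F a b)), ConjClasses.mk g = C ∧ orderOf g = 2} = m / 2 + (m - 1) / 2 := by
  by_cases h : Fintype.card F ≠ 2 ∨ m - 1 ≠ 1
  · rw [Forms.OmegaTwoClasses.card_omega_minus (n := m - 1) hab h, Nat.sub_add_cancel hm]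
  · rw [not_or, not_not, not_not] at h
    obtain ⟨hF, hm1⟩ := h
    have h01 : ∀ x : F, x = 0 ∨ x = 1 := fun x => by
      classical
      by_contra hx
      rw [not_or] at hx
      have hle := Finset.card_le_univ ({0, 1, x} : Finset F)
      rw [hF, Finset.card_insert_of_notMem (by simp [eq_comm, hx.1]),
        Finset.card_pair (Ne.symm hx.2)] at hle
      omega
    have ha : a = 1 := (h01 a).resolve_left fun ha => by
      rcases h01 b with hb | hb
      · exact one_ne_zero (hab 0 1 (by simp [ha, hb])).2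
      · refine one_ne_zero (hab 1 1 ?_).2
        simp [ha, hb, CharTwo.add_self_eq_zero]
    have hb : b = 1 := (h01 b).resolve_left fun hb => one_ne_zero (hab 0 1 (by simp [hb])).2
    rw [ha, hb, hm1, show m = 2 by omega]
    obtain ⟨φ⟩ := S0824.result (F := F) hF
    exact one_class φ

end Cfsg.Agent.S2598
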