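import Cfsg.Statements.S2599
-- import your own Cfsg.Agent.* helpers here

set_option autoImplicit false
open Cfsg

namespace Cfsg.Agent.S2599

/-- An irreducible invariant subspace of a semisimple isometry is non-degenerate or totally singular: let Q be a quadratic form on F^n (F finite of characteristic p) with non-degenerate polar form f, x an isometry of Q of order prime to p, and U a non-zero x-invariant subspace containing no x-invariant subspace other than 0 and U. Then U meets its f-orthogonal trivially, or Q vanishes on U, or p = 2, U is a line spanned by a non-singular vector and x fixes U pointwise. -/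
theorem result {F : Type*} [Field F] [Fintype F] {p : ℕ} [Fact p.Prime] [CharP F p] {n : ℕ} (Q : QuadraticForm F (Fin n → F)) (hQ : (QuadraticMap.polarBilin Q).Nondegenerate) (x : ↥(Cfsg.isometryGroup F ⇑Q)) (hx : (orderOf x).Coprime p) (U : Submodule F (Fin n → F)) (hU0 : U ≠ ⊥) (hUx : ∀ u ∈ U, ((x : Matrix.GeneralLinearGroup (Fin n) F) : Matrix (Fin n) (Fin n) F).mulVec u ∈ U) (hirr : ∀ W : Submodule F (Fin n → F), W ≤ U → (∀ w ∈ W, ((x : Matrix.GeneralLinearGroup (Fin n) F) : Matrix (Fin n) (Fin n) F).mulVec w ∈ W) → W = ⊥ ∨ W = U) : U ⊓ LinearMap.BilinForm.orthogonal (QuadraticMap.polarBilin Q) U = ⊥ ∨ (∀ u ∈ U, Q u = 0) ∨ (p = 2 ∧ Module.finrank F U = 1 ∧ (∃ u ∈ U, Q u ≠ 0) ∧ ∀ u ∈ U, ((x : Matrix.GeneralLinearGroup (Fin n) F) : Matrix (Fin n) (Fin n) F).mulVec u = u) := by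
  classical
  let M : Matrix (Fin n) (Fin n) F := ((x : Matrix.GeneralLinearGroup (Fin n) F) : Matrix (Fin n) (Fin n) F)
  let f := QuadraticMap.polarBilin Q
  have hQx : ∀ v, Q (M.mulVec v) = Q v := fun v => x.2 v v
  have hfx : ∀ u v, f (M.mulVec u) (M.mulVec v) = f u v := fun u v => by
    simp only [f, QuadraticMap.polarBilin_apply_apply, QuadraticMap.polar, ← Matrix.mulVec_add, hQx]
  have hinj : Function.Injective M.mulVec := Matrix.mulVec_injective_iff_isUnit.2 (Units.isUnit _)
  have hsurj : ∀ u ∈ U, ∃ u' ∈ U, M.mulVec u' = u := by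
    intro u hu
    have hmap : U.map M.mulVecLin = U := by
      apply Submodule.eq_of_le_of_finrank_le
      · rintro _ ⟨y, hy, rfl⟩; exact hUx y hy
      · rw [LinearEquiv.finrank_eq (Submodule.equivMapOfInjective _ hinj U).symm]
    rw [← hmap] at hu
    obtain ⟨y, hy, rfl⟩ := hu
    exact ⟨y, hy, rfl⟩
  rcases hirr (U ⊓ LinearMap.BilinForm.orthogonal f U) inf_le_left (by
      rintro w ⟨hwU, hwo⟩
      refine ⟨hUx w hwU, LinearMap.BilinForm.mem_orthogonal_iff.2 fun u hu => ?_⟩
      obtain ⟨u', hu', rfl⟩ := hsurj u hu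
      show f (M.mulVec u') (M.mulVec w) = 0
      rw [hfx]
      exact LinearMap.BilinForm.mem_orthogonal_iff.1 hwo u' hu') with h | h
  · exact Or.inl h
  right
  have horth : ∀ u ∈ U, ∀ v ∈ U, f u v = 0 := by
    intro u hu v hv
    rw [← h] at hv
    exact LinearMap.BilinForm.mem_orthogonal_iff.1 hv.2 u hu
  have hadd : ∀ u ∈ U, ∀ v ∈ U, Q (u + v) = Q u + Q v := by
    intro u hu v hv
    have := horth u hu v hv
    simp only [f, QuadraticMap.polarBilin_apply_apply, QuadraticMap.polar] at this
    linear_combination this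
  by_cases hp2 : p = 2
  swap
  · left
    intro u hu
    have := horth u hu u hu
    rw [QuadraticMap.polarBilin_apply_apply, QuadraticMap.polar_self, two_nsmul, ← two_mul] at this
    refine (mul_eq_zero.1 this).resolve_left (fun h2 => hp2 ?_)
    exact (Nat.prime_dvd_prime_iff_eq Fact.out Nat.prime_two).1
      ((CharP.cast_eq_zero_iff F p 2).1 (by exact_mod_cast h2))
  subst hp2
  let W : Submodule F (Fin n → F) :=
    { carrier := {u | u ∈ U ∧ Q u = 0}
      zero_mem' := ⟨U.zero_mem, map_zero _⟩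
      add_mem' := fun {u v} hu hv => ⟨U.add_mem hu.1 hv.1, by rw [hadd u hu.1 v hv.1, hu.2, hv.2, add_zero]⟩
      smul_mem' := fun c u hu => ⟨U.smul_mem c hu.1, by rw [QuadraticMap.map_smul, hu.2, smul_zero]⟩ }
  rcases hirr W (fun u hu => hu.1) (fun w hw => ⟨hUx w hw.1, (hQx w).trans hw.2⟩) with hW | hW
  swap
  · left
    intro u hu
    rw [← hW] at hu
    exact hu.2
  right
  have haniso : ∀ u ∈ U, Q u = 0 → u = 0 := fun u hu h0 => by
    have : u ∈ W := ⟨hu, h0⟩
    rwa [hW] at this
  obtain ⟨u, huU, hu0⟩ := Submodule.exists_mem_ne_zero_of_ne_bot hU0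
  have hQu : Q u ≠ 0 := fun h0 => hu0 (haniso u huU h0)
  have hspan : U = F ∙ u := by
    refine le_antisymm (fun v hv => ?_) ((Submodule.span_singleton_le_iff_mem _ _).2 huU)
    let c := (frobeniusEquiv F 2).symm (Q v / Q u)
    have hc : c * c = Q v / Q u := by rw [← sq]; exact frobeniusEquiv_symm_pow_p F 2 _
    have h0 : Q (v + c • u) = 0 := by
      rw [hadd v hv _ (U.smul_mem c huU), QuadraticMap.map_smul, smul_eq_mul, hc, div_mul_cancel₀ _ hQu]
      exact CharTwo.add_self_eq_zero _
    have := haniso _ (U.add_mem hv (U.smul_mem c huU)) h0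
    rw [Submodule.mem_span_singleton]
    exact ⟨c, by
      have h2 : v + c • u = 0 := this
      funext i
      have := congrFun h2 i
      simp only [Pi.add_apply, Pi.smul_apply, smul_eq_mul, Pi.zero_apply] at this ⊢
      linear_combination this + (-1 : F) * CharTwo.add_self_eq_zero (v i)⟩
  refine ⟨rfl, by rw [hspan, finrank_span_singleton hu0], ⟨u, huU, hQu⟩, fun v hv => ?_⟩
  have hxv := hUx v hv
  by_contra hne
  have h0 : Q (M.mulVec v + v) = 0 := by
    rw [hadd _ hxv _ hv, hQx]; exact CharTwo.add_self_eq_zero _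
  refine hne (funext fun i => ?_)
  have := congrFun (haniso _ (U.add_mem hxv hv) h0) i
  simp only [Pi.add_apply, Pi.zero_apply] at this
  linear_combination this + (-1 : F) * CharTwo.add_self_eq_zero (v i)

end Cfsg.Agent.S2599
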