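import Cfsg.Statements.S2600
import Cfsg.Agent.Lib.AutPSp.Card

set_option autoImplicit false
open Cfsg

namespace Cfsg.Agent.S2600

open Cfsg.Agent

theorem frob_generates {F : Type*} [Field F] [Fintype F] [CharP F 2] {f : ℕ} (hf : 1 ≤ f) (hF : Fintype.card F = 2 ^ f)
    (σ : F ≃+* F) : σ ∈ Subgroup.zpowers (frobeniusEquiv F 2) := by
  haveI := FieldExt.finite_ringAut (F := F)
  have hpow : ∀ (k : ℕ) (x : F), ((frobeniusEquiv F 2) ^ k : F ≃+* F) x = x ^ 2 ^ k := by
    intro k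
    induction k with
    | zero => intro x; simp [RingAut.one_apply]
    | succ k ih =>
      intro x
      rw [pow_succ', RingAut.mul_apply, ih]
      show (x ^ 2 ^ k) ^ 2 = _
      rw [← pow_mul, ← pow_succ]
  have hle : f ≤ orderOf (frobeniusEquiv F 2) := by
    set k := orderOf (frobeniusEquiv F 2)
    have hk : 0 < k := orderOf_pos _
    obtain ⟨u, hu⟩ := IsCyclic.exists_ofOrder_eq_natCard (α := Fˣ)
    have h1 : u ^ (2 ^ k - 1) = 1 := by
      have e : u ^ 2 ^ k = u := Units.ext (by rw [Units.val_pow_eq_pow_val, ← hpow, pow_orderOf_eq_one]; rfl)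
      have hp : 2 ^ k - 1 + 1 = 2 ^ k := Nat.sub_add_cancel Nat.one_le_two_pow
      rw [← hp, pow_succ] at e
      exact mul_eq_right.1 e
    have h2 : Fintype.card F - 1 ≤ 2 ^ k - 1 := by
      refine Nat.le_of_dvd (Nat.sub_pos_of_lt (Nat.one_lt_two_pow hk.ne')) ?_
      rw [← Nat.card_eq_fintype_card (α := F), ← Nat.card_units, ← hu]
      exact orderOf_dvd_of_pow_eq_one h1
    refine (Nat.pow_le_pow_iff_right (show 1 < 2 by omega)).1 ?_
    have h3 := Nat.one_le_two_pow (n := k)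
    have h4 := Nat.one_le_two_pow (n := f)
    omega
  have htop : Subgroup.zpowers (frobeniusEquiv F 2) = ⊤ :=
    Subgroup.eq_top_of_le_card _ (by rw [Nat.card_zpowers, AutPSp.card_fieldAut hf hF]; exact hle)
  rw [htop]; trivial

/-- Outer automorphism group of PSp_4(q) for q = 2^f even: it is cyclic of order 2f, generated by the class of the exceptional (graph-field) automorphism whose square is the Frobenius field automorphism. -/
theorem result {F : Type*} [Field F] [Fintype F] {f : ℕ} (hf : 1 ≤ f) (hF : Fintype.card F = 2 ^ f) : IsCyclic (Cfsg.Out (Cfsg.PSp 2 F)) ∧ Nat.card (Cfsg.Out (Cfsg.PSp 2 F)) = 2 * f := by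
  classical
  haveI : CharP F 2 := charP_of_card_eq_prime_pow hF
  haveI : Finite (Cfsg.PSp 2 F) := inferInstance
  set π := QuotientGroup.mk' (Cfsg.Inn (Cfsg.PSp 2 F))
  set gQ : MulAut (Cfsg.PSp 2 F) := AutPSp.graphQ
  have hinn : ∀ g : Cfsg.GSp 2 F, (AutPSp.conjQ g : MulAut (Cfsg.PSp 2 F)) ∈ Cfsg.Inn (Cfsg.PSp 2 F) := by
    intro g
    refine (AutPSp.conjQ_mem_inn_iff le_rfl g).2 ?_
    obtain ⟨r, hr⟩ := FiniteField.isSquare_of_char_two (ringChar.eq F 2) (AutPSp.mult le_rfl g : F)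
    have hr0 : r ≠ 0 := fun e => (AutPSp.mult le_rfl g).ne_zero (by rw [hr, e, mul_zero])
    exact ⟨Units.mk0 r hr0, Units.ext (by rw [powMonoidHom_apply, pow_two, Units.val_mul, Units.val_mk0]; exact hr.symm)⟩
  have hfield : ∀ σ : F ≃+* F, π (AutPSp.fieldQ σ) ∈ Subgroup.zpowers (π gQ) := by
    intro σ
    obtain ⟨k, rfl⟩ := frob_generates hf hF σ
    rw [map_zpow, map_zpow, ← AutPSp.graphQ_sq, map_mul]
    exact Subgroup.zpow_mem _ (Subgroup.mul_mem _ (Subgroup.mem_zpowers _) (Subgroup.mem_zpowers _)) k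
  have hdec : ∀ β : MulAut (Cfsg.PSp 2 F), AutPSp.MapsRoots β ∧ AutPSp.MapsRoots β⁻¹ → π β ∈ Subgroup.zpowers (π gQ) := by
    intro β hβ
    obtain ⟨g, σ, rfl⟩ := AutPSp.exists_decomposition_of le_rfl hβ.1 hβ.2
    rw [map_mul, show π (AutPSp.conjQ g) = 1 from (QuotientGroup.eq_one_iff _).2 (hinn g), one_mul]
    exact hfield σ
  have hgen : ∀ x : Cfsg.Out (Cfsg.PSp 2 F), x ∈ Subgroup.zpowers (π gQ) := by
    intro x
    obtain ⟨β, rfl⟩ := QuotientGroup.mk'_surjective _ x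
    rcases AutPSp.mapsRoots_or_graph β with h | h
    · exact hdec β h
    · have := Subgroup.mul_mem _ (Subgroup.mem_zpowers (π gQ)) (hdec _ h)
      rwa [← map_mul, mul_inv_cancel_left] at this
  refine ⟨⟨⟨π gQ, hgen⟩⟩, ?_⟩
  have hconj : Function.Injective (MulAut.conj : Cfsg.PSp 2 F → MulAut (Cfsg.PSp 2 F)) := by
    refine (injective_iff_map_eq_one _).2 fun x hx => ?_
    obtain ⟨s, rfl⟩ := QuotientGroup.mk_surjective x
    refine (QuotientGroup.eq_one_iff s).2 (Subgroup.mem_center_iff.2 fun t => AutPSp.mk_injective_char_two le_rfl ?_)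
    have e := DFunLike.congr_fun hx (QuotientGroup.mk t)
    rw [MulAut.conj_apply, mul_inv_eq_iff_eq_mul] at e
    rw [QuotientGroup.mk_mul, QuotientGroup.mk_mul]
    exact e.symm
  have h1 := Subgroup.card_eq_card_quotient_mul_card_subgroup (Cfsg.Inn (Cfsg.PSp 2 F))
  have hodd : Nat.gcd 2 (2 ^ f - 1) = 1 := by
    have h2f : 2 ∣ 2 ^ f := dvd_pow_self 2 (by omega)
    have h4 := Nat.one_le_two_pow (n := f)
    rw [Nat.gcd_rec, show (2 ^ f - 1) % 2 = 1 by omega]; rfl
  rw [AutPSp.card_aut_graph, AutPSp.card_inndiag le_rfl, AutPSp.card_fieldAut hf hF, hF,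
    hodd, one_mul,
    ← Nat.card_congr (MonoidHom.ofInjective hconj).toEquiv] at h1
  exact (Nat.eq_of_mul_eq_mul_right Nat.card_pos (h1.symm.trans (by ring)))

end Cfsg.Agent.S2600
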