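import Cfsg.Statements.S2601
import Cfsg.Agent.Lib.AutPSLOuter.Outer

set_option autoImplicit false
open Cfsg

namespace Cfsg.Agent.S2601

/-- Structure of the outer automorphism group of PSL_n(q), n ≥ 3, q = p^f: it has a normal cyclic subgroup of order gcd(n, q − 1) (the diagonal automorphisms) whose quotient is the direct product of a cyclic group of order f (field automorphisms) and a group of order 2 (the inverse-transpose graph automorphism). -/
theorem result {F : Type*} [Field F] [Fintype F] {p f n : ℕ} [Fact p.Prime] (hf : 1 ≤ f) (hF : Fintype.card F = p ^ f) (hn : 3 ≤ n) : ∃ φ : Cfsg.Out (Matrix.ProjectiveSpecialLinearGroup (Fin n) F) →* Multiplicative (ZMod f × ZMod 2), Function.Surjective φ ∧ IsCyclic φ.ker ∧ Nat.card φ.ker = Nat.gcd n (p ^ f - 1) := by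
  obtain ⟨m, rfl⟩ : ∃ m, n = m + 1 := ⟨n - 1, by omega⟩
  have hm : 2 ≤ m := by omega
  let I : MulAut (Matrix.ProjectiveSpecialLinearGroup (Fin (m + 1)) F) := AutPSL.invP
  let sgn : Multiplicative (ZMod 2) →* MulAut (Matrix.ProjectiveSpecialLinearGroup (Fin (m + 1)) F) :=
    MonoidHom.mk' (fun e => if e = 1 then 1 else I) (fun a b => by
      have hz : ∀ x : Multiplicative (ZMod 2), x = 1 ∨ x = Multiplicative.ofAdd 1 := by decide
      have h11 : Multiplicative.ofAdd (1 : ZMod 2) * Multiplicative.ofAdd 1 = 1 := by decide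
      have hne : (Multiplicative.ofAdd (1 : ZMod 2) : Multiplicative (ZMod 2)) ≠ 1 := by decide
      rcases hz a with rfl | rfl <;> rcases hz b with rfl | rfl <;> simp only [one_mul, mul_one, h11, if_true, if_neg hne]
      exact AutPSL.invP_mul_self.symm)
  let Ψ : (F ≃+* F) × Multiplicative (ZMod 2) →* MulAut (Matrix.ProjectiveSpecialLinearGroup (Fin (m + 1)) F) :=
    MonoidHom.noncommCoprod AutPSLOuter.fieldHom sgn (fun σ e => by
      show Commute (AutPSL.fieldP σ) (if e = 1 then 1 else I)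
      split_ifs
      · exact Commute.one_right _
      · exact (AutPSLOuter.invP_mul_fieldP σ).symm)
  obtain ⟨φ, hφ, hker⟩ := AutPSLOuter.exists_out_hom (F := F) (by omega : 1 ≤ m) Ψ
    (fun k g h => by
      obtain ⟨σ, e⟩ := k
      have h1 : AutPSL.conjP g⁻¹ * AutPSL.fieldP σ * (if e = 1 then 1 else I) = 1 := by
        rw [mul_assoc, show AutPSL.fieldP σ * (if e = 1 then 1 else I) = Ψ (σ, e) from rfl, h, ← map_mul,
          inv_mul_cancel, map_one]
      obtain ⟨h2, h3⟩ := AutPSLOuter.eq_one_of_decomposition hm g⁻¹ σ e _ rfl h1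
      exact Prod.ext h2 h3)
    (fun β => by
      obtain ⟨g, σ, γ, hγ, rfl⟩ := AutPSL.exists_decomposition (by omega : 1 ≤ m) β
      rcases hγ with rfl | rfl
      · exact ⟨g, (σ, 1), mul_assoc _ _ _⟩
      · exact ⟨g, (σ, Multiplicative.ofAdd 1), mul_assoc _ _ _⟩)
  obtain ⟨e⟩ := AutPSLOuter.exists_fieldAut_iso hf hF
  let E : (F ≃+* F) × Multiplicative (ZMod 2) ≃* Multiplicative (ZMod f × ZMod 2) :=
    (MulEquiv.prodCongr e (MulEquiv.refl _)).trans (MulEquiv.prodMultiplicative (G := ZMod f) (H := ZMod 2)).symm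
  refine ⟨E.toMonoidHom.comp φ, E.surjective.comp hφ, ?_⟩
  have hk : (E.toMonoidHom.comp φ).ker = φ.ker := MonoidHom.ker_mulEquiv_comp φ E
  rw [hk, hker]
  obtain ⟨hc, hcard⟩ := AutPSLOuter.diag_card_cyclic (F := F) (by omega : 1 ≤ m)
  exact ⟨hc, by rw [hcard, Nat.card_eq_fintype_card, hF]⟩

end Cfsg.Agent.S2601
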