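import Cfsg.Statements.S2612
import Cfsg.Agent.Lib.QForm.Levi

set_option autoImplicit false
open Cfsg

namespace Cfsg.Agent.S2612

/-- For the hyperbolic quadratic form Σ x_i y_i on F^(2m) (F finite, m ≥ 1, excluding m = 2 over the field of two elements), Ω⁺_2m(F) (the commutator subgroup of the orthogonal group) contains an element interchanging the two complementary maximal totally singular subspaces {y = 0} and {x = 0} if and only if m is even (dimension divisible by 4). -/
theorem result {F : Type*} [Field F] [Fintype F] {m : ℕ} (hm : 1 ≤ m) (h : Fintype.card F ≠ 2 ∨ m ≠ 2) : (∃ g : ↥(Cfsg.isometryGroup F (Cfsg.quadFormPlus m F)), g ∈ Cfsg.Omega F (Cfsg.quadFormPlus m F) ∧ (∀ v : Fin m ⊕ Fin m → F, (∀ i, v (Sum.inr i) = 0) → ∀ i, (((g : Matrix.GeneralLinearGroup (Fin m ⊕ Fin m) F) : Matrix (Fin m ⊕ Fin m) (Fin m ⊕ Fin m) F).mulVec v) (Sum.inl i) = 0) ∧ (∀ v : Fin m ⊕ Fin m → F, (∀ i, v (Sum.inl i) = 0) → ∀ i, (((g : Matrix.GeneralLinearGroup (Fin m ⊕ Fin m) F) : Matrix (Fin m ⊕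 Fin m) (Fin m ⊕ Fin m) F).mulVec v) (Sum.inr i) = 0)) ↔ Even m := by
  classical
  rw [← QForm.coe_plusForm]
  have hQ := QForm.plusForm_nondegenerate F m
  have hV := QForm.finrank_plus F m
  have h0 := QForm.totallySingular_yZero (F := F) (m := m)
  have h0m := QForm.finrank_yZero (F := F) (m := m)
  constructor
  · rintro ⟨g, hg, h1, -⟩
    have hinf : QForm.yZero F m ⊓ QForm.image g (QForm.yZero F m) = ⊥ := by
      rw [eq_bot_iff]
      rintro x ⟨hx, hx'⟩
      obtain ⟨u, hu, rfl⟩ := (QForm.mem_image g).1 hx'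
      rw [Submodule.mem_bot]
      funext j
      rcases j with j | j
      · exact h1 u (QForm.mem_yZero.1 hu) j
      · exact QForm.mem_yZero.1 hx j
    have key : Even (m - Module.finrank F ↥(QForm.yZero F m ⊓ QForm.image g (QForm.yZero F m))) := by
      by_cases h2 : (2 : F) = 0
      · have : CharP F 2 := CharTwo.of_one_ne_zero_of_two_eq_zero one_ne_zero h2
        exact (QForm.family_iff_omega hQ hV (h.imp_right fun hne => by simp; omega) h0 h0m g).2 hg
      · exact (QForm.family_iff_det hQ hV h2 h0 h0m g).2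
          ((QForm.mem_omega_iff_invariants h2 hQ g).1 hg).2
    rwa [hinf, finrank_bot, Nat.sub_zero] at key
  · intro he
    let P : Matrix (Fin m ⊕ Fin m) (Fin m ⊕ Fin m) F := Matrix.fromBlocks 0 1 1 0
    have hP : P * P = 1 := by simp [P, Matrix.fromBlocks_multiply]
    have hact : ∀ u : Fin m ⊕ Fin m → F, P.mulVec u = Sum.elim (u ∘ Sum.inr) (u ∘ Sum.inl) := fun u => by
      simp [P, Matrix.fromBlocks_mulVec]
    let w : ↥(Cfsg.isometryGroup F ⇑(QForm.plusForm F m)) := ⟨⟨P, P, hP, hP⟩, fun u _ => by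
      show QForm.plusForm F m (P.mulVec u) = QForm.plusForm F m u
      rw [hact, QForm.plusForm_apply, QForm.plusForm_apply]
      exact Finset.sum_congr rfl fun i _ => mul_comm _ _⟩
    have hw : ∀ u, QForm.act (QForm.plusForm F m) w u = Sum.elim (u ∘ Sum.inr) (u ∘ Sum.inl) := hact
    have hinf : QForm.yZero F m ⊓ QForm.image (w * 1) (QForm.yZero F m) = ⊥ := by
      rw [eq_bot_iff, mul_one]
      rintro x ⟨hx, hx'⟩
      obtain ⟨u, hu, rfl⟩ := (QForm.mem_image w).1 hx'
      rw [Submodule.mem_bot]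
      funext j
      rcases j with j | j
      · rw [hw]; exact QForm.mem_yZero.1 hu j
      · exact QForm.mem_yZero.1 hx j
    obtain ⟨A, hA⟩ := QForm.exists_levi_adjust hm h h0 h0m w 1 (by rwa [hinf, finrank_bot, Nat.sub_zero])
    refine ⟨_, hA, fun v hv i => ?_, fun v hv i => ?_⟩
    · show QForm.act (QForm.plusForm F m) (w * QForm.levi A * 1) v (.inl i) = 0
      rw [mul_one, QForm.act_mul, hw, Sum.elim_inl, Function.comp_apply, QForm.act_levi_inr,
        show v ∘ Sum.inr = 0 from funext hv, Matrix.mulVec_zero]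
      rfl
    · show QForm.act (QForm.plusForm F m) (w * QForm.levi A * 1) v (.inr i) = 0
      rw [mul_one, QForm.act_mul, hw, Sum.elim_inr, Function.comp_apply, QForm.act_levi_inl,
        show v ∘ Sum.inl = 0 from funext hv, Matrix.mulVec_zero]
      rfl

end Cfsg.Agent.S2612
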