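import Cfsg.Statements.S2613
import Cfsg.Agent.Lib.QForm.SpinorApps

set_option autoImplicit false
open Cfsg
open scoped Matrix

namespace Cfsg.Agent.S2613

/-- For the hyperbolic form Σ x_j y_j on F^(2m), F finite with q elements, q odd, and 1 ≤ i ≤ m: the involution negating the first i hyperbolic pairs (x_j, y_j ↦ −x_j, −y_j for j < i) and fixing the rest lies in Ω⁺_2m(q) (commutator subgroup of the orthogonal group) if and only if q^i ≡ 1 (mod 4); its (−1)-eigenspace is a hyperbolic 2i-space. -/
theorem result {F : Type*} [Field F] [Fintype F] {q : ℕ} (hF : Fintype.card F = q) (hq : Odd q) {m : ℕ} (i : ℕ) (hi : 1 ≤ i) (him : i ≤ m) : (∃ g : ↥(Cfsg.isometryGroup F (Cfsg.quadFormPlus m F)), g ∈ Cfsg.Omega F (Cfsg.quadFormPlus m F) ∧ ((g : Matrix.GeneralLinearGroup (Fin m ⊕ Fin m) F) : Matrix (Fin m ⊕ Fin m) (Fin m ⊕ Fin m) F) = Matrix.diagonal (fun k : Fin m ⊕ Fin m => if (Sum.elim (fun j : Fin m => (j : ℕ)) (fun j : Fin m => (j : ℕ)) k) < i then (-1 : F) else 1)) ↔ q ^ i % 4 = 1 := by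
  classical
  have h2 := QForm.two_ne_zero_of_odd hF hq
  let e : Fin i → (Fin m ⊕ Fin m → F) := fun j => Pi.single (Sum.inl (Fin.castLE him j)) 1
  let f : Fin i → (Fin m ⊕ Fin m → F) := fun j => Pi.single (Sum.inr (Fin.castLE him j)) 1
  have hQ : (QuadraticMap.polarBilin (Forms.quadPlus m F)).Nondegenerate := Forms.quadPlus_nondegenerate m
  have hc : ⇑(Forms.quadPlus m F) = Cfsg.quadFormPlus m F := funext Forms.quadPlus_apply
  have h := QForm.neg_pairs_mem_omega_iff h2 hQ e f
    (fun j => by simp [hc, Cfsg.quadFormPlus, e]) (fun j => by simp [hc, Cfsg.quadFormPlus, f])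
    (fun j l => by simp [hc, QForm.polar_plus, e, f, Pi.single_apply, Fin.castLE_inj, eq_comm])
    (fun j l => by simp [hc, QForm.polar_plus, e, Pi.single_apply])
    (fun j l => by simp [hc, QForm.polar_plus, f, Pi.single_apply])
    (Matrix.diagonal (fun k : Fin m ⊕ Fin m => if (Sum.elim (fun j : Fin m => (j : ℕ)) (fun j : Fin m => (j : ℕ)) k) < i then (-1 : F) else 1))
    (fun x => by
      funext k
      have he : ∀ j, QuadraticMap.polar (Cfsg.quadFormPlus m F) (e j) x = x (Sum.inr (Fin.castLE him j)) :=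
        fun j => by simp [QForm.polar_plus, e, Pi.single_apply]
      have hf : ∀ j, QuadraticMap.polar (Cfsg.quadFormPlus m F) (f j) x = x (Sum.inl (Fin.castLE him j)) :=
        fun j => by simp [QForm.polar_plus, f, Pi.single_apply]
      rcases k with k | k <;>
      · simp only [hc, he, hf, Matrix.mulVec_diagonal, Sum.elim_inl, Sum.elim_inr, Pi.sub_apply, Pi.smul_apply,
          Finset.sum_apply, Pi.add_apply, e, f, smul_eq_mul]
        by_cases hk : (k : ℕ) < i
        · simp only [hk, if_true]
          rw [Finset.sum_eq_single ⟨k, hk⟩ (fun b _ hb => by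
            have : k ≠ Fin.castLE him b := fun h => hb (Fin.ext (by simp [h]))
            simp [this]) (by simp)]
          simp [show Fin.castLE him ⟨k, hk⟩ = k from Fin.ext rfl]
          ring
        · simp only [hk, if_false]
          rw [Finset.sum_eq_zero (fun b _ => by
            have : k ≠ Fin.castLE him b := fun h => hk (by rw [h]; exact b.2)
            simp [this])]
          simp)
  rw [hc] at h
  rw [h, QForm.isSquare_neg_one_pow_iff hF hq, QForm.pow_mod_four_eq_one_iff hq]

end Cfsg.Agent.S2613
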