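import Cfsg.Statements.S2615
import Cfsg.Agent.Lib.QForm.SpinorApps

set_option autoImplicit false
open Cfsg
open scoped Matrix

namespace Cfsg.Agent.S2615

/-- For an elliptic form Σ_(j<m−1) x_j y_j + (z₁² + a z₁z₂ + b z₂²) (anisotropic binary part) on F^(2m), F finite with q elements, q odd, and 1 ≤ i ≤ m − 1: the involution negating the first i hyperbolic pairs and fixing the rest lies in Ω⁻_2m(q) (commutator subgroup of the orthogonal group) if and only if q^i ≡ 1 (mod 4). -/
theorem result {F : Type*} [Field F] [Fintype F] {q : ℕ} (hF : Fintype.card F = q) (hq : Odd q) {m : ℕ} (a b : F) (hab : ∀ z₁ z₂ : F, z₁ ^ 2 + a * z₁ * z₂ + b * z₂ ^ 2 = 0 → z₁ = 0 ∧ z₂ = 0) (i : ℕ) (hi : 1 ≤ i) (him : i + 1 ≤ m) : (∃ g : ↥(Cfsg.isometryGroup F (Cfsg.quadFormMinus (m - 1) F a b)), g ∈ Cfsg.Omega F (Cfsg.quadFormMinus (m - 1) F a b) ∧ ((g : Matrix.GeneralLinearGroup ((Fin (m - 1) ⊕ Fin (m - 1)) ⊕ Fin 2) F) : Matrix ((Fin (m - 1) ⊕ Fin (m - 1)) ⊕ Fin 2) ((Fin (m - 1) ⊕ Fin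 (m - 1)) ⊕ Fin 2) F) = Matrix.diagonal (fun k : (Fin (m - 1) ⊕ Fin (m - 1)) ⊕ Fin 2 => if (Sum.elim (Sum.elim (fun j : Fin (m - 1) => (j : ℕ)) (fun j : Fin (m - 1) => (j : ℕ))) (fun _ : Fin 2 => i) k) < i then (-1 : F) else 1)) ↔ q ^ i % 4 = 1 := by
  classical
  have h2 := QForm.two_ne_zero_of_odd hF hq
  have him' : i ≤ m - 1 := by omega
  let e : Fin i → ((Fin (m - 1) ⊕ Fin (m - 1)) ⊕ Fin 2 → F) := fun j => Pi.single (Sum.inl (Sum.inl (Fin.castLE him' j))) 1
  let f : Fin i → ((Fin (m - 1) ⊕ Fin (m - 1)) ⊕ Fin 2 → F) := fun j => Pi.single (Sum.inl (Sum.inr (Fin.castLE him' j))) 1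
  have hQ := Forms.quadMinus_nondegenerate (F := F) (m - 1) hab
  have hc : ⇑(Forms.quadMinus (m - 1) F a b) = Cfsg.quadFormMinus (m - 1) F a b := funext Forms.quadMinus_apply
  have h := QForm.neg_pairs_mem_omega_iff h2 hQ e f
    (fun j => by simp [hc, Cfsg.quadFormMinus, e]) (fun j => by simp [hc, Cfsg.quadFormMinus, f])
    (fun j l => by simp [hc, QForm.polar_minus, e, f, Pi.single_apply, Fin.castLE_inj, eq_comm])
    (fun j l => by simp [hc, QForm.polar_minus, e, Pi.single_apply])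
    (fun j l => by simp [hc, QForm.polar_minus, f, Pi.single_apply])
    (Matrix.diagonal (fun k : (Fin (m - 1) ⊕ Fin (m - 1)) ⊕ Fin 2 => if (Sum.elim (Sum.elim (fun j : Fin (m - 1) => (j : ℕ)) (fun j : Fin (m - 1) => (j : ℕ))) (fun _ : Fin 2 => i) k) < i then (-1 : F) else 1))
    (fun x => by
      funext k
      have he : ∀ j, QuadraticMap.polar (Cfsg.quadFormMinus (m - 1) F a b) (e j) x = x (Sum.inl (Sum.inr (Fin.castLE him' j))) :=
        fun j => by simp [QForm.polar_minus, e, Pi.single_apply]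
      have hf : ∀ j, QuadraticMap.polar (Cfsg.quadFormMinus (m - 1) F a b) (f j) x = x (Sum.inl (Sum.inl (Fin.castLE him' j))) :=
        fun j => by simp [QForm.polar_minus, f, Pi.single_apply]
      rcases k with (k | k) | k
      iterate 2
        simp only [hc, he, hf, Matrix.mulVec_diagonal, Sum.elim_inl, Sum.elim_inr, Pi.sub_apply, Pi.smul_apply,
          Finset.sum_apply, Pi.add_apply, e, f, smul_eq_mul]
        by_cases hk : (k : ℕ) < i
        · simp only [hk, if_true]
          rw [Finset.sum_eq_single ⟨k, hk⟩ (fun b _ hb => by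
            have : k ≠ Fin.castLE him' b := fun h => hb (Fin.ext (by simp [h]))
            simp [this]) (by simp)]
          simp [show Fin.castLE him' ⟨k, hk⟩ = k from Fin.ext rfl]
          ring
        · simp only [hk, if_false]
          rw [Finset.sum_eq_zero (fun b _ => by
            have : k ≠ Fin.castLE him' b := fun h => hk (by rw [h]; exact b.2)
            simp [this])]
          simp
      simp only [hc, he, hf, Matrix.mulVec_diagonal, Sum.elim_inl, Sum.elim_inr, Pi.sub_apply, Pi.smul_apply,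
          Finset.sum_apply, Pi.add_apply, e, f, smul_eq_mul, lt_irrefl, if_false]
      simp)
  rw [hc] at h
  rw [h, QForm.isSquare_neg_one_pow_iff hF hq, QForm.pow_mod_four_eq_one_iff hq]

end Cfsg.Agent.S2615
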