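import Cfsg.Statements.S2616
import Cfsg.Agent.Lib.QForm.Basis

set_option autoImplicit false
open Cfsg

namespace Cfsg.Agent.S2616

/-- Standard bases of a non-degenerate quadratic space of even dimension 2m over a finite field: either there is a hyperbolic basis e_i, f_i (Q(e_i) = Q(f_i) = 0, B(e_i, f_j) = δ_ij, the e's pairwise orthogonal and the f's pairwise orthogonal, B the polar form), or there is an elliptic basis: hyperbolic pairs e_i, f_i for i < m − 1 together with x, y orthogonal to them with Q(x) = 1, B(x, y) = 1, Q(y) = ζ where t² + t + ζ has no root in the field. -/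
theorem result {F V : Type*} [Field F] [Finite F] [AddCommGroup V] [Module F V] [FiniteDimensional F V] {m : ℕ} (hm : 1 ≤ m) (hV : Module.finrank F V = 2 * m) (Q : QuadraticForm F V) (hQ : (QuadraticMap.polarBilin Q).Nondegenerate) : (∃ b : Module.Basis (Fin m ⊕ Fin m) F V, (∀ i, Q (b (Sum.inl i)) = 0 ∧ Q (b (Sum.inr i)) = 0) ∧ (∀ i j, QuadraticMap.polar ⇑Q (b (Sum.inl i)) (b (Sum.inr j)) = if i = j then 1 else 0) ∧ (∀ i j, QuadraticMap.polar ⇑Q (b (Sum.inl i)) (b (Sum.inl j)) = 0 ∧ QuadraticMap.polar ⇑Q (b (Sum.inr i)) (b (Sum.inr j)) = 0)) ∨ (∃ (b : Module.Basis ((Fin (m - 1) ⊕ Fin (m - 1)) ⊕ Fin 2) F V) (ζ : F), (∀ t : F, t ^ 2 + t + ζ ≠ 0) ∧ (∀ i, Q (b (Sum.inl (Sum.inl i))) = 0 ∧ Q (b (Sum.inl (Sum.inr i))) = 0) ∧ (∀ i j, QuadraticMap.polar ⇑Q (b (Sum.inl (Sum.inl i))) (b (Sum.inl (Sum.inr j))) = if i = j then 1 else 0) ∧ (∀ i j, QuadraticMap.polar ⇑Q (b (Sum.inl (Sum.inl i))) (b (Sum.inl (Sum.inl j))) = 0 ∧ QuadraticMap.polar ⇑Q (b (Sum.inl (Sum.inr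 i))) (b (Sum.inl (Sum.inr j))) = 0) ∧ (∀ i (k : Fin 2), QuadraticMap.polar ⇑Q (b (Sum.inl (Sum.inl i))) (b (Sum.inr k)) = 0 ∧ QuadraticMap.polar ⇑Q (b (Sum.inl (Sum.inr i))) (b (Sum.inr k)) = 0) ∧ Q (b (Sum.inr 0)) = 1 ∧ QuadraticMap.polar ⇑Q (b (Sum.inr 0)) (b (Sum.inr 1)) = 1 ∧ Q (b (Sum.inr 1)) = ζ) := by
  classical
  obtain ⟨k, rfl⟩ : ∃ k, m = k + 1 := ⟨m - 1, by omega⟩
  obtain ⟨e, f, h⟩ : ∃ e f : Fin k → V, QForm.IsPairs Q e f := QForm.exists_pairs hQ k (Or.inr (by omega))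
  have hfr := h.finrank_perp
  set C := QForm.perp Q e f with hC
  have hN : (QuadraticMap.polarBilin (Q.comp C.subtype)).Nondegenerate := h.perp_nondegenerate hQ
  by_cases hsing : ∃ x : C, x ≠ 0 ∧ Q (x : V) = 0
  · left
    obtain ⟨x, hx0, hQx⟩ := hsing
    obtain ⟨y, hQy, hxy⟩ := QForm.exists_partner hN hx0 hQx
    have h' := h.cons x.2 y.2 hQx hQy hxy
    set e' : Fin (k + 1) → V := Fin.cons (x : V) e
    set f' : Fin (k + 1) → V := Fin.cons (y : V) f
    have hfr' := h'.finrank_perp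
    have hbot : QForm.perp Q e' f' ≤ Submodule.span F (∅ : Set V) := by
      rw [Submodule.finrank_eq_zero.1 (show Module.finrank F (QForm.perp Q e' f') = 0 by omega)]
      exact bot_le
    have hspan : ⊤ ≤ Submodule.span F (Set.range (Sum.elim e' f')) := by
      refine (h'.top_le_span _ hbot).trans (Submodule.span_mono ?_)
      rw [Set.union_empty, Set.Sum.elim_range]
    refine ⟨basisOfTopLeSpanOfCardEqFinrank _ hspan (by simp; omega), ?_⟩
    rw [coe_basisOfTopLeSpanOfCardEqFinrank]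
    exact ⟨fun i => ⟨h'.he i, h'.hf i⟩, h'.hef, fun i j => ⟨h'.hee i j, h'.hff i j⟩⟩
  · right
    push Not at hsing
    have : Nontrivial C := Module.nontrivial_of_finrank_pos (R := F) (by omega)
    obtain ⟨x, hQx⟩ : ∃ x : C, Q (x : V) = 1 := by
      by_cases h2 : (2 : F) = 0
      · have : Fintype F := Fintype.ofFinite F
        have : CharP F 2 := CharTwo.of_one_ne_zero_of_two_eq_zero one_ne_zero h2
        obtain ⟨a, ha⟩ := exists_ne (0 : C)
        obtain ⟨s, hs⟩ := FiniteField.isSquare_of_char_two (CharP.eq F (ringChar.charP F) inferInstance) (Q (a : V))⁻¹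
        refine ⟨s • a, ?_⟩
        rw [Submodule.coe_smul, QuadraticMap.map_smul, smul_eq_mul, ← hs, inv_mul_cancel₀ (hsing a ha)]
      · obtain ⟨w, g, hw, hg⟩ := QForm.exists_diagonalise h2 hN
        let i₀ : Fin (Module.finrank F C) := ⟨0, by omega⟩
        let i₁ : Fin (Module.finrank F C) := ⟨1, by omega⟩
        obtain ⟨s, t, hst⟩ := QForm.exists_two_squares_eq_one h2 (hw i₀) (hw i₁)
        refine ⟨g.symm (Pi.single i₀ s + Pi.single i₁ t), ?_⟩
        show (Q.comp C.subtype) _ = 1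
        rw [← hg, LinearEquiv.apply_symm_apply, QForm.diagFn, Fintype.sum_eq_add i₀ i₁ (by simp [i₀, i₁])
          (fun j hj => by simp [hj.1, hj.2])]
        simpa [i₀, i₁] using hst
    have hx0 : x ≠ 0 := fun h0 => by
      rw [h0] at hQx
      simp at hQx
    -- a partner of `x` off the line through `x`
    obtain ⟨y, hxy, hy⟩ : ∃ y : C, QuadraticMap.polar ⇑Q (x : V) (y : V) = 1 ∧ y ∉ F ∙ x := by
      set φ := QuadraticMap.polarBilin (Q.comp C.subtype) x with hφ
      obtain ⟨u, hu⟩ : ∃ u, φ u ≠ 0 := by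
        by_contra! hno
        exact hx0 (hN.1 x hno)
      set y₀ := (φ u)⁻¹ • u
      have hy₀ : φ y₀ = 1 := by rw [map_smul, smul_eq_mul, inv_mul_cancel₀ hu]
      by_cases hy : y₀ ∈ F ∙ x
      · obtain ⟨z, hz, hz0⟩ : ∃ z ∈ LinearMap.ker φ, z ≠ 0 := by
          refine Submodule.exists_mem_ne_zero_of_ne_bot fun hb => ?_
          have h3 := LinearMap.finrank_range_add_finrank_ker φ
          have h4 := Submodule.finrank_le (LinearMap.range φ)
          rw [hb, finrank_bot] at h3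
          rw [Module.finrank_self] at h4
          omega
        refine ⟨y₀ + z, ?_, fun hmem => hz0 ?_⟩
        · show φ (y₀ + z) = 1
          rw [map_add, hy₀, LinearMap.mem_ker.1 hz, add_zero]
        · obtain ⟨c, hc⟩ := Submodule.mem_span_singleton.1 ((Submodule.add_mem_iff_right _ hy).1 hmem)
          obtain ⟨d, hd⟩ := Submodule.mem_span_singleton.1 hy
          have h5 : φ z = 0 := hz
          rw [← hc, map_smul, smul_eq_mul] at h5
          rcases mul_eq_zero.1 h5 with hc0 | hφx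
          · rw [← hc, hc0, zero_smul]
          · rw [← hd, map_smul, smul_eq_mul, hφx, mul_zero] at hy₀
            exact absurd hy₀ zero_ne_one
      · exact ⟨y₀, hy₀, hy⟩
    have hsp : Submodule.span F {x, y} = ⊤ := by
      have hli : LinearIndependent F ![x, y] := by
        rw [LinearIndependent.pair_iff' hx0]
        exact fun c hc => hy (Submodule.mem_span_singleton.2 ⟨c, hc⟩)
      have := hli.span_eq_top_of_card_eq_finrank (by simp; omega)
      rwa [Matrix.range_cons, Matrix.range_cons, Matrix.range_empty, Set.union_empty, Set.singleton_union] at this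
    have hle : C ≤ Submodule.span F {(x : V), (y : V)} := fun z hz => by
      have : (⟨z, hz⟩ : C) ∈ Submodule.span F {x, y} := by rw [hsp]; trivial
      obtain ⟨a, b, hab⟩ := Submodule.mem_span_pair.1 this
      exact Submodule.mem_span_pair.2 ⟨a, b, congrArg Subtype.val hab⟩
    let v : (Fin (k + 1 - 1) ⊕ Fin (k + 1 - 1)) ⊕ Fin 2 → V := Sum.elim (Sum.elim e f) ![(x : V), (y : V)]
    have hspan : ⊤ ≤ Submodule.span F (Set.range v) := by
      refine (h.top_le_span _ hle).trans (Submodule.span_mono ?_)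
      rw [Set.union_subset_iff, Set.union_subset_iff]
      exact ⟨⟨fun _ ⟨i, hi⟩ => ⟨Sum.inl (Sum.inl i), hi⟩, fun _ ⟨i, hi⟩ => ⟨Sum.inl (Sum.inr i), hi⟩⟩,
        fun z hz => hz.elim (fun hz => ⟨Sum.inr 0, hz.symm⟩) fun hz => ⟨Sum.inr 1, hz.symm⟩⟩
    refine ⟨basisOfTopLeSpanOfCardEqFinrank v hspan (by simp; omega), Q (y : V), fun t ht => ?_, ?_⟩
    · have hne : t • x + y ≠ 0 := fun h0 => hy (by
        rw [eq_neg_of_add_eq_zero_right h0]
        exact Submodule.neg_mem _ (Submodule.smul_mem _ t (Submodule.mem_span_singleton_self x)))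
      refine hsing _ hne ?_
      rw [Submodule.coe_add, Submodule.coe_smul, Forms.quadratic_map_add, QuadraticMap.map_smul, map_smul,
        LinearMap.smul_apply, QuadraticMap.polarBilin_apply_apply, hxy, hQx]
      simp only [smul_eq_mul]
      linear_combination ht
    · rw [coe_basisOfTopLeSpanOfCardEqFinrank]
      obtain ⟨hx1, hx2⟩ := QForm.mem_perp.1 x.2
      obtain ⟨hy1, hy2⟩ := QForm.mem_perp.1 y.2
      refine ⟨fun i => ⟨h.he i, h.hf i⟩, h.hef, fun i j => ⟨h.hee i j, h.hff i j⟩, fun i c => ?_, hQx, hxy, rfl⟩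
      fin_cases c
      · exact ⟨hx2 i, hx1 i⟩
      · exact ⟨hy2 i, hy1 i⟩

end Cfsg.Agent.S2616
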