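import Cfsg.Statements.S2617
import Cfsg.Agent.Lib.QForm.Std

set_option autoImplicit false
open Cfsg

namespace Cfsg.Agent.S2617

/-- The two standard quadratic forms of even dimension 2m over a finite field are not isometric: there is no linear isomorphism carrying the elliptic form Σ_(i<m−1) x_i y_i + z₁² + z₁z₂ + ζ z₂² (t² + t + ζ without roots) to the hyperbolic form Σ_(i<m) x_i y_i (they have different Witt index). -/
theorem result {F : Type*} [Field F] [Finite F] {m : ℕ} (hm : 1 ≤ m) (ζ : F) (hζ : ∀ t : F, t ^ 2 + t + ζ ≠ 0) (g : (Fin m ⊕ Fin m → F) ≃ₗ[F] ((Fin (m - 1) ⊕ Fin (m - 1)) ⊕ Fin 2 → F)) : ¬ (∀ v : Fin m ⊕ Fin m → F, Cfsg.quadFormMinus (m - 1) F 1 ζ (g v) = Cfsg.quadFormPlus m F v) := by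
  classical
  intro hg
  have hQ : ∀ w, Cfsg.quadFormMinus (m - 1) F 1 ζ w = Cfsg.quadFormPlus m F (g.symm w) := fun w => by
    rw [← hg, g.apply_symm_apply]
  -- the image of the singular subspace `y = 0`
  let j : (Fin m → F) →ₗ[F] (Fin m ⊕ Fin m → F) :=
    { toFun := fun u => Sum.elim u 0
      map_add' := fun u v => by ext (i | i) <;> simp
      map_smul' := fun c u => by ext (i | i) <;> simp }
  let W : (Fin m → F) →ₗ[F] ((Fin (m - 1) ⊕ Fin (m - 1)) ⊕ Fin 2 → F) := g.toLinearMap ∘ₗ j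
  have hW : ∀ u, Cfsg.quadFormMinus (m - 1) F 1 ζ (W u) = 0 := fun u => by
    show Cfsg.quadFormMinus (m - 1) F 1 ζ (g (j u)) = 0
    rw [hg]
    simp [j, Cfsg.quadFormPlus]
  have hWinj : Function.Injective W := by
    intro u v h
    funext i
    have := congrFun (g.injective h) (Sum.inl i)
    simpa [j] using this
  have hpol : ∀ u v, QuadraticMap.polar (Cfsg.quadFormMinus (m - 1) F 1 ζ) (W u) (W v) = 0 := fun u v => by
    rw [QuadraticMap.polar, ← map_add, hW, hW, hW]
    simp
  let X : (Fin m → F) →ₗ[F] (Fin (m - 1) → F) := LinearMap.funLeft F F (fun i => Sum.inl (Sum.inl i)) ∘ₗ W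
  let Y : (Fin m → F) →ₗ[F] (Fin (m - 1) → F) := LinearMap.funLeft F F (fun i => Sum.inl (Sum.inr i)) ∘ₗ W
  have hker : ∀ u ∈ LinearMap.ker X, (∀ i, W u (Sum.inl (Sum.inl i)) = 0) ∧ W u (Sum.inr 0) = 0 ∧
      W u (Sum.inr 1) = 0 := by
    intro u hu
    have hx : ∀ i, W u (Sum.inl (Sum.inl i)) = 0 := fun i => congrFun (LinearMap.mem_ker.1 hu) i
    have h := hW u
    simp only [Cfsg.quadFormMinus, hx, zero_mul, Finset.sum_const_zero, zero_add] at h
    have h1 : W u (Sum.inr 1) = 0 := by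
      by_contra hne
      refine hζ (W u (Sum.inr 0) / W u (Sum.inr 1)) ?_
      field_simp
      linear_combination h
    rw [h1] at h
    exact ⟨hx, by simpa using h, h1⟩
  let Φ : LinearMap.ker X →ₗ[F] Module.Dual F (Fin (m - 1) → F) :=
    (dotProductEquiv F (Fin (m - 1))).toLinearMap ∘ₗ Y ∘ₗ (LinearMap.ker X).subtype
  have hΦ : Function.Injective Φ := by
    rw [← LinearMap.ker_eq_bot, LinearMap.ker_eq_bot']
    rintro ⟨u, hu⟩ h
    have hy : Y u = 0 := (dotProductEquiv F (Fin (m - 1))).map_eq_zero_iff.1 h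
    obtain ⟨hx, h0, h1⟩ := hker u hu
    refine Subtype.ext (hWinj ?_)
    rw [ZeroMemClass.coe_zero, map_zero]
    funext k
    rcases k with (i | i) | k
    · exact hx i
    · exact congrFun hy i
    · fin_cases k
      · exact h0
      · exact h1
  have hle : LinearMap.range Φ ≤ (LinearMap.range X).dualAnnihilator := by
    rintro _ ⟨⟨u, hu⟩, rfl⟩
    rw [Submodule.mem_dualAnnihilator]
    rintro _ ⟨v, rfl⟩
    obtain ⟨hx, h0, h1⟩ := hker u hu
    have h := hpol u v
    rw [QForm.polar_minus, h0, h1] at h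
    simp only [hx, zero_mul, zero_add, mul_zero, add_zero] at h
    exact h
  have h1 := Submodule.finrank_mono hle
  rw [LinearMap.finrank_range_of_inj hΦ] at h1
  have h2 := LinearMap.finrank_range_add_finrank_ker X
  have h3 := Subspace.finrank_add_finrank_dualAnnihilator_eq (LinearMap.range X)
  rw [Module.finrank_fin_fun] at h2 h3
  omega

end Cfsg.Agent.S2617
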