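import Cfsg.Statements.S2618
import Cfsg.Agent.Lib.QForm.Basis

set_option autoImplicit false
open Cfsg

namespace Cfsg.Agent.S2618

/-- Standard (parabolic) basis of a non-degenerate quadratic space of odd dimension 2m + 1 over a finite field (the non-degeneracy of the polar form forces the characteristic to be odd): there is a basis e_i, f_i (i < m), x with Q(e_i) = Q(f_i) = 0, B(e_i, f_j) = δ_ij (B the polar form), the e's pairwise orthogonal and the f's pairwise orthogonal, x orthogonal to all of them and Q(x) ≠ 0. -/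
theorem result {F V : Type*} [Field F] [Finite F] [AddCommGroup V] [Module F V] [FiniteDimensional F V] {m : ℕ} (hV : Module.finrank F V = 2 * m + 1) (Q : QuadraticForm F V) (hQ : (QuadraticMap.polarBilin Q).Nondegenerate) : ∃ b : Module.Basis (Unit ⊕ (Fin m ⊕ Fin m)) F V, Q (b (Sum.inl ())) ≠ 0 ∧ (∀ i, QuadraticMap.polar ⇑Q (b (Sum.inl ())) (b (Sum.inr (Sum.inl i))) = 0 ∧ QuadraticMap.polar ⇑Q (b (Sum.inl ())) (b (Sum.inr (Sum.inr i))) = 0) ∧ (∀ i, Q (b (Sum.inr (Sum.inl i))) = 0 ∧ Q (b (Sum.inr (Sum.inr i))) = 0) ∧ (∀ i j, QuadraticMap.polar ⇑Q (b (Sum.inr (Sum.inl i))) (b (Sum.inr (Sum.inr j))) = if i = j then 1 else 0) ∧ (∀ i j, QuadraticMap.polar ⇑Q (b (Sum.inr (Sum.inl i))) (b (Sum.inr (Sum.inl j))) = 0 ∧ QuadraticMap.polar ⇑Q (b (Sum.inr (Sum.inr i))) (b (Sum.inr (Sum.inr j))) = 0) := by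
  classical
  obtain ⟨e, f, h⟩ := QForm.exists_pairs hQ m (Or.inr (by omega))
  have hfr := h.finrank_perp
  obtain ⟨x, hx⟩ := finrank_eq_one_iff'.1 (show Module.finrank F (QForm.perp Q e f) = 1 by omega)
  obtain ⟨hx0, hxs⟩ := hx
  have hS : QForm.perp Q e f ≤ Submodule.span F {(x : V)} := fun z hz => by
    obtain ⟨c, hc⟩ := hxs ⟨z, hz⟩
    exact Submodule.mem_span_singleton.2 ⟨c, congrArg Subtype.val hc⟩
  let v : Unit ⊕ (Fin m ⊕ Fin m) → V := Sum.elim (fun _ => (x : V)) (Sum.elim e f)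
  have hspan : ⊤ ≤ Submodule.span F (Set.range v) := by
    refine (h.top_le_span _ hS).trans (Submodule.span_mono ?_)
    rw [Set.union_subset_iff, Set.union_subset_iff]
    exact ⟨⟨fun _ ⟨i, hi⟩ => ⟨Sum.inr (Sum.inl i), hi⟩, fun _ ⟨i, hi⟩ => ⟨Sum.inr (Sum.inr i), hi⟩⟩,
      fun z hz => ⟨Sum.inl (), hz.symm⟩⟩
  have hcard : Fintype.card (Unit ⊕ (Fin m ⊕ Fin m)) = Module.finrank F V := by simp; omega
  refine ⟨basisOfTopLeSpanOfCardEqFinrank v hspan hcard, ?_⟩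
  rw [coe_basisOfTopLeSpanOfCardEqFinrank]
  obtain ⟨hx1, hx2⟩ := QForm.mem_perp.1 x.2
  refine ⟨fun hQx => hx0 ?_, fun i => ⟨?_, ?_⟩, fun i => ⟨h.he i, h.hf i⟩, h.hef, fun i j => ⟨h.hee i j, h.hff i j⟩⟩
  · refine (h.perp_nondegenerate hQ).1 x fun y => ?_
    obtain ⟨c, rfl⟩ := hxs y
    show QuadraticMap.polar ⇑Q (x : V) (c • (x : V)) = 0
    have hQx' : Q (x : V) = 0 := hQx
    rw [QuadraticMap.polar_smul_right, QuadraticMap.polar_self, hQx']
    simp
  · rw [QuadraticMap.polar_comm]; exact hx2 i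
  · rw [QuadraticMap.polar_comm]; exact hx1 i

end Cfsg.Agent.S2618
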