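import Cfsg.Statements.S2619
-- import your own Cfsg.Agent.* helpers here

set_option autoImplicit false
open Cfsg

namespace Cfsg.Agent.S2619

/-- Over a finite field of characteristic two, given an alternating bilinear form B on a finite-dimensional space, a basis (v_i) and scalars (λ_i), there is exactly one quadratic form whose polar form is B and whose value at each v_i is λ_i. -/
theorem result {F V ι : Type*} [Field F] [Finite F] [CharP F 2] [AddCommGroup V] [Module F V] [Fintype ι] (b : Module.Basis ι F V) (B : LinearMap.BilinForm F V) (hB : B.IsAlt) (c : ι → F) : ∃! Q : QuadraticForm F V, QuadraticMap.polarBilin Q = B ∧ ∀ i, Q (b i) = c i := by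
  classical
  let : LinearOrder ι := LinearOrder.lift' (Fintype.equivFin ι) (Fintype.equivFin ι).injective
  let T : LinearMap.BilinForm F V := Matrix.toBilin b
    (Matrix.of fun i j => if i < j then B (b i) (b j) else if i = j then c i else 0)
  have hT : ∀ i j, T (b i) (b j) = if i < j then B (b i) (b j) else if i = j then c i else 0 := by
    intro i j
    rw [← LinearMap.BilinForm.toMatrix_apply b T i j, LinearMap.BilinForm.toMatrix_toBilin]
    rfl
  have hsym : ∀ x y : V, B y x = B x y := fun x y => by
    have h := hB (x + y)
    simp only [map_add, LinearMap.add_apply, hB x, hB y, zero_add, add_zero] at h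
    rw [eq_neg_of_add_eq_zero_left h, CharTwo.neg_eq]
  have hTB : QuadraticMap.polarBilin (LinearMap.BilinMap.toQuadraticMap T) = B := by
    rw [LinearMap.BilinMap.polarBilin_toQuadraticMap]
    refine b.ext fun i => b.ext fun j => ?_
    rw [LinearMap.add_apply, LinearMap.add_apply, LinearMap.flip_apply, hT, hT]
    rcases lt_trichotomy i j with h | h | h
    · rw [if_pos h, if_neg h.not_gt, if_neg h.ne', add_zero]
    · subst h
      rw [if_neg (lt_irrefl i), if_pos rfl, CharTwo.add_self_eq_zero, hB]
    · rw [if_neg h.not_gt, if_neg h.ne', if_pos h, zero_add, hsym]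
  refine ⟨LinearMap.BilinMap.toQuadraticMap T, ⟨hTB, fun i => ?_⟩, ?_⟩
  · rw [LinearMap.BilinMap.toQuadraticMap_apply, hT, if_neg (lt_irrefl i), if_pos rfl]
  · rintro Q ⟨hQ, hQc⟩
    refine QuadraticMap.ext fun v => ?_
    have key : ∀ x y : V, Q (x + y) = Q x + Q y + B x y := fun x y => by
      rw [← hQ, QuadraticMap.polarBilin_apply_apply, QuadraticMap.polar]; ring
    have key' : ∀ x y : V, T (x + y) (x + y) = T x x + T y y + B x y := fun x y => by
      rw [← hTB, LinearMap.BilinMap.polarBilin_toQuadraticMap]
      simp only [map_add, LinearMap.add_apply, LinearMap.flip_apply]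
      ring
    rw [LinearMap.BilinMap.toQuadraticMap_apply]
    have hv : v ∈ Submodule.span F (Set.range b) := by rw [b.span_eq]; trivial
    induction hv using Submodule.span_induction with
    | mem x hx =>
      obtain ⟨i, rfl⟩ := hx
      rw [hQc, hT, if_neg (lt_irrefl i), if_pos rfl]
    | zero => simp
    | add x y _ _ hx hy => rw [key, key', hx, hy]
    | smul a x _ hx =>
      rw [QuadraticMap.map_smul, hx, map_smul, map_smul, LinearMap.smul_apply]
      simp only [smul_eq_mul]
      ring

end Cfsg.Agent.S2619
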