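import Cfsg.Statements.S2622
-- import your own Cfsg.Agent.* helpers here

set_option autoImplicit false
open Cfsg

namespace Cfsg.Agent.S2622

/-- An orthonormal family as large as the dimension. -/
theorem exists_orthonormal {F : Type*} [Field F] [Finite F] [CharP F 2] (n : ℕ) :
    ∀ {V : Type*} [AddCommGroup V] [Module F V] [FiniteDimensional F V], Module.finrank F V = n →
      ∀ B : LinearMap.BilinForm F V, B.IsSymm → B.Nondegenerate → (n = 0 ∨ ∃ v, B v v ≠ 0) →
        ∃ b : Fin n → V, ∀ i j, B (b i) (b j) = if i = j then 1 else 0 := by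
  classical
  have : Fintype F := Fintype.ofFinite F
  induction n with
  | zero => exact fun _ _ _ _ _ => ⟨finZeroElim, fun i => i.elim0⟩
  | succ n ih =>
    intro V _ _ _ hV B hS hB hna
    obtain ⟨w, hw⟩ := hna.resolve_left (Nat.succ_ne_zero n)
    have hsym : ∀ x y, B x y = B y x := fun x y => hS.eq x y
    obtain ⟨s, hs⟩ := FiniteField.isSquare_of_char_two (CharP.eq F (ringChar.charP F) inferInstance) (B w w)⁻¹
    have h1 : B (s • w) (s • w) = 1 := by
      rw [map_smul, map_smul, LinearMap.smul_apply, smul_eq_mul, smul_eq_mul, ← mul_assoc, ← hs,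
        inv_mul_cancel₀ hw]
    obtain ⟨v, hv, hC⟩ : ∃ v, B v v = 1 ∧ (n = 0 ∨ ∃ z, B v z = 0 ∧ B z z ≠ 0) := by
      set v := s • w
      by_cases hC : n = 0 ∨ ∃ z, B v z = 0 ∧ B z z ≠ 0
      · exact ⟨v, h1, hC⟩
      simp only [not_or, not_exists, not_and, not_not] at hC
      obtain ⟨hn, halt⟩ := hC
      -- a hyperbolic pair in the complement
      obtain ⟨x, hx, hx0⟩ : ∃ x ∈ LinearMap.ker (B v), x ≠ 0 := by
        refine Submodule.exists_mem_ne_zero_of_ne_bot fun hb => ?_
        have h3 := LinearMap.finrank_range_add_finrank_ker (B v)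
        have h4 := Submodule.finrank_le (LinearMap.range (B v))
        rw [hb, finrank_bot] at h3
        rw [Module.finrank_self] at h4
        omega
      have hx' : B v x = 0 := hx
      obtain ⟨y₁, hy₁⟩ : ∃ y, B x y ≠ 0 := by
        by_contra! hno
        exact hx0 (hB.1 x hno)
      set y₂ := y₁ - B v y₁ • v
      have hy₂ : B x y₂ = B x y₁ := by simp [y₂, hsym x v, hx']
      have hy₂' : B v y₂ = 0 := by simp [y₂, h1]
      set y := (B x y₂)⁻¹ • y₂
      have hxy : B x y = 1 := by
        rw [map_smul, smul_eq_mul, inv_mul_cancel₀]; rwa [hy₂]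
      have hvy : B v y = 0 := by rw [map_smul, hy₂', smul_zero]
      refine ⟨v + x, ?_, Or.inr ⟨v + y, ?_, ?_⟩⟩
      · simp [h1, hx', hsym x v, halt x hx']
      · simp [h1, hvy, hsym x v, hx', hxy, CharTwo.add_self_eq_zero]
      · simp [h1, hvy, hsym y v, halt y hvy]
    set C := LinearMap.ker (B v) with hCdef
    have hfr : Module.finrank F C = n := by
      have h3 := LinearMap.finrank_range_add_finrank_ker (B v)
      have hsurj : LinearMap.range (B v) = ⊤ := LinearMap.range_eq_top.2 fun c => ⟨c • v, by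
        rw [map_smul, hv, smul_eq_mul, mul_one]⟩
      rw [hsurj, finrank_top, Module.finrank_self, hV, ← hCdef] at h3
      omega
    set B' : LinearMap.BilinForm F C := B.domRestrict₁₂ C C with hB'
    have hS' : B'.IsSymm := ⟨fun x y => hsym x y⟩
    have hl : ∀ x : C, (∀ y : C, B' x y = 0) → x = 0 := by
      intro x hx
      refine Subtype.ext (hB.1 (x : V) fun z => ?_)
      have hx2 : B v x = 0 := x.2
      have hz : z - B v z • v ∈ C := by
        show B v (z - B v z • v) = 0
        simp [hv]
      have h4 : B (x : V) (z - B v z • v) = 0 := hx ⟨_, hz⟩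
      simpa [hsym x.1 v, hx2] using h4
    have hB'n : B'.Nondegenerate := ⟨hl, fun y hy => hl y fun x => (hS'.eq y x).trans (hy x)⟩
    obtain ⟨b, hb⟩ := ih hfr B' hS' hB'n (hC.imp_right fun ⟨z, hz, hzz⟩ => ⟨⟨z, hz⟩, hzz⟩)
    refine ⟨Fin.cons v fun i => (b i : V), fun i j => ?_⟩
    have hbv : ∀ i, B v (b i : V) = 0 := fun i => (b i).2
    refine Fin.cases ?_ ?_ i <;> refine Fin.cases ?_ ?_ j
    · simpa using hv
    · intro j; simp [hbv j, (Fin.succ_ne_zero j).symm]
    · intro i; simp [hsym _ v, hbv i]
    · intro j i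
      rw [Fin.cons_succ, Fin.cons_succ]
      exact (hb i j).trans (by simp)

/-- Over a finite field of characteristic two, a non-degenerate symmetric bilinear form that is not alternating (some vector v has B(v, v) ≠ 0) admits an orthonormal basis. -/
theorem result {F V : Type*} [Field F] [Finite F] [CharP F 2] [AddCommGroup V] [Module F V] [FiniteDimensional F V] {n : ℕ} (hV : Module.finrank F V = n) (B : LinearMap.BilinForm F V) (hS : B.IsSymm) (hB : B.Nondegenerate) (hna : ∃ v : V, B v v ≠ 0) : ∃ b : Module.Basis (Fin n) F V, ∀ i j, B (b i) (b j) = if i = j then 1 else 0 := by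
  classical
  obtain ⟨b, hb⟩ := exists_orthonormal n hV B hS hB (Or.inr hna)
  have hli : LinearIndependent F b := by
    rw [Fintype.linearIndependent_iff]
    intro g hg i
    have := congrArg (B (b i)) hg
    simpa [map_sum, hb] using this
  have : Nonempty (Fin n) := by
    obtain ⟨v, hv⟩ := hna
    refine ⟨⟨0, Nat.pos_of_ne_zero fun h0 => hv ?_⟩⟩
    have : Subsingleton V := Module.finrank_zero_iff.1 (hV.trans h0)
    simp [Subsingleton.elim v 0]
  refine ⟨basisOfLinearIndependentOfCardEqFinrank hli (by simp [hV]), fun i j => ?_⟩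
  rw [coe_basisOfLinearIndependentOfCardEqFinrank]
  exact hb i j

end Cfsg.Agent.S2622
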