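import Cfsg.Statements.S2624
import Cfsg.Agent.Lib.QForm.Diag

set_option autoImplicit false
open Cfsg

namespace Cfsg.Agent.S2624

theorem ringChar_eq_two_of {F : Type*} [Field F] (h2 : (2 : F) = 0) : ringChar F = 2 :=
  CharP.ringChar_of_prime_eq_zero Nat.prime_two (by exact_mod_cast h2)

/-- For a quadratic form Q on F^n with non-degenerate polar form, F finite and n ≥ 2 even, every non-zero scalar c is the multiplier of some similarity: there is an invertible linear map g with Q(g v) = c·Q(v) for all v. -/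
theorem result {F : Type*} [Field F] [Fintype F] {n : ℕ} (hn : 2 ≤ n) (he : Even n) (Q : QuadraticForm F (Fin n → F)) (hQ : (QuadraticMap.polarBilin Q).Nondegenerate) (c : F) (hc : c ≠ 0) : ∃ g : (Fin n → F) ≃ₗ[F] (Fin n → F), ∀ v, Q (g v) = c * Q v := by
  classical
  by_cases h2 : (2 : F) = 0
  · obtain ⟨s, rfl⟩ := (FiniteField.isSquare_of_char_two (ringChar_eq_two_of h2) c)
    refine ⟨LinearEquiv.smulOfUnit (Units.mk0 s (left_ne_zero_of_mul hc)), fun v => ?_⟩
    show Q (s • v) = _
    rw [QuadraticMap.map_smul, smul_eq_mul]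
  · have hQc : (QuadraticMap.polarBilin (c • Q)).Nondegenerate := by
      have hp : ∀ x y, QuadraticMap.polarBilin (c • Q) x y = c * QuadraticMap.polarBilin Q x y := by
        intro x y
        simp only [QuadraticMap.polarBilin_apply_apply, QuadraticMap.polar, QuadraticMap.smul_apply, smul_eq_mul]
        ring
      exact ⟨fun x hx => hQ.1 x fun y => (mul_eq_zero.1 ((hp x y).symm.trans (hx y))).resolve_left hc,
        fun y hy => hQ.2 y fun x => (mul_eq_zero.1 ((hp x y).symm.trans (hy x))).resolve_left hc⟩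
    have h := QForm.det_gram_similarity (c • Q) Q (LinearEquiv.refl F _) c (fun v => rfl) (Pi.basisFun F (Fin n))
    rw [Fintype.card_fin] at h
    obtain ⟨g, hg⟩ := (QForm.isometric_iff h2 (c • Q) Q hQc hQ ((Pi.basisFun F (Fin n)).map (LinearEquiv.refl F _))
      (Pi.basisFun F (Fin n))).2 (by
        obtain ⟨k, rfl⟩ := he
        exact ⟨c ^ k * (QForm.gram ⇑Q ⇑(Pi.basisFun F (Fin (k + k)))).det, by rw [h]; ring⟩)
    exact ⟨g, fun v => by rw [hg]; rfl⟩

end Cfsg.Agent.S2624
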