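import Cfsg.Statements.S2625
import Cfsg.Agent.Lib.QForm.Gram

set_option autoImplicit false
open Cfsg

namespace Cfsg.Agent.S2625

/-- For a quadratic form Q on F^n with non-degenerate polar form, F finite and n odd (so |F| is odd), the multiplier of any similarity is a square: if g is an invertible linear map with Q(g v) = c·Q(v) for all v then c is a square. -/
theorem result {F : Type*} [Field F] [Fintype F] {n : ℕ} (hn : Odd n) (Q : QuadraticForm F (Fin n → F)) (hQ : (QuadraticMap.polarBilin Q).Nondegenerate) (g : (Fin n → F) ≃ₗ[F] (Fin n → F)) (c : F) (hg : ∀ v, Q (g v) = c * Q v) : IsSquare c := by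
  classical
  obtain ⟨u, hu, h⟩ := QForm.det_gram_change Q (Pi.basisFun F (Fin n))
    ((Pi.basisFun F (Fin n)).map g)
  have h' := QForm.det_gram_similarity Q Q g c hg (Pi.basisFun F (Fin n))
  rw [h', Fintype.card_fin] at h
  have hc : c ^ n = u ^ 2 := mul_right_cancel₀ (QForm.det_gram_ne_zero hQ _) h
  obtain ⟨k, rfl⟩ := hn
  have hc0 : c ≠ 0 := by
    rintro rfl
    rw [zero_pow (by omega)] at hc
    exact hu (pow_eq_zero_iff two_ne_zero |>.1 hc.symm)
  refine ⟨u / c ^ k, ?_⟩
  rw [pow_succ, pow_mul'] at hc
  field_simp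
  linear_combination hc

end Cfsg.Agent.S2625
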