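import Cfsg.Statements.S2627
import Cfsg.Agent.Lib.QForm.OmegaQuot
import Cfsg.Agent.Lib.QForm.OrthSumForm

set_option autoImplicit false
open Cfsg

namespace Cfsg.Agent.S2627

/-- For an orthogonal direct sum Q = Q₁ ⊕ Q₂ of quadratic forms with non-degenerate polar forms over a finite field, an isometry g₁ of Q₁ extended by the identity on the second summand lies in Ω(Q) (the commutator subgroup of the orthogonal group of Q) if and only if g₁ lies in Ω(Q₁). (Excluded: the field of two elements when the first summand or the whole space has dimension 4, where the commutator subgroup of O⁺₄(2) is smaller than the group usually called Ω.) -/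
theorem result {F : Type*} [Field F] [Fintype F] {k l : ℕ} (h : Fintype.card F ≠ 2 ∨ (k ≠ 4 ∧ k + l ≠ 4)) (Q₁ : QuadraticForm F (Fin k → F)) (Q₂ : QuadraticForm F (Fin l → F)) (h₁ : (QuadraticMap.polarBilin Q₁).Nondegenerate) (h₂ : (QuadraticMap.polarBilin Q₂).Nondegenerate) (g₁ : ↥(Cfsg.isometryGroup F ⇑Q₁)) : (∃ g : ↥(Cfsg.isometryGroup F (fun v : Fin k ⊕ Fin l → F => Q₁ (v ∘ Sum.inl) + Q₂ (v ∘ Sum.inr))), g ∈ Cfsg.Omega F (fun v : Fin k ⊕ Fin l → F => Q₁ (v ∘ Sum.inl) + Q₂ (v ∘ Sum.inr)) ∧ ((g : Matrix.GeneralLinearGroup (Fin k ⊕ Fin l) F) : Matrix (Fin k ⊕ Fin l) (Fin k ⊕ Fin l) F) = Matrix.fromBlocks ((g₁ : Matrix.GeneralLinearGroup (Fin k) F) : Matrix (Fin k) (Fin k) F) 0 0 1) ↔ g₁ ∈ Cfsg.Omega F ⇑Q₁ := by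
  classical
  constructor
  · rintro ⟨g, hg, hgv⟩
    have hN := QForm.sumForm_nondegenerate Q₁ Q₂ h₁ h₂
    have hk : Fintype.card F ≠ 2 ∨ Fintype.card (Fin k) ≠ 4 := h.imp_right fun hkl => by simpa using hkl.1
    obtain ⟨vs, hvs, hg₁⟩ := QForm.exists_list h₁ hk g₁
    let ws := vs.map fun v => Sum.elim v (0 : Fin l → F)
    have hws : ∀ w ∈ ws, QForm.sumForm Q₁ Q₂ w ≠ 0 := by
      intro w hw
      obtain ⟨v, hv, rfl⟩ := List.mem_map.1 hw
      rw [QForm.sumForm_inl]; exact hvs v hv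
    let g' : ↥(Cfsg.isometryGroup F ⇑(QForm.sumForm Q₁ Q₂)) := g
    have hg' : g' ∈ Cfsg.Omega F ⇑(QForm.sumForm Q₁ Q₂) := hg
    have hmat : ((g' : Matrix.GeneralLinearGroup (Fin k ⊕ Fin l) F) : Matrix (Fin k ⊕ Fin l) (Fin k ⊕ Fin l) F) =
        (ws.map fun w => Cfsg.reflectionMatrix ⇑(QForm.sumForm Q₁ Q₂) w).prod := by
      rw [QForm.prod_reflectionMatrix_inl, ← hg₁]; exact hgv
    by_cases h2 : (2 : F) = 0
    · have : CharP F 2 := CharTwo.of_one_ne_zero_of_two_eq_zero one_ne_zero h2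
      have hkl : Fintype.card F ≠ 2 ∨ Fintype.card (Fin k ⊕ Fin l) ≠ 4 := h.imp_right fun hkl => by simpa using hkl.2
      refine QForm.mem_omega_of_even h₁ g₁ vs hvs hg₁ ?_
      have := (QForm.mem_omega_iff_even hN hkl g' ws hws hmat).1 hg'
      simpa [ws] using this
    · obtain ⟨he, hs⟩ := (QForm.mem_omega_iff_of_prod hN h2 g' ws hws hmat).1 hg'
      refine (QForm.mem_omega_iff_of_prod h₁ h2 g₁ vs hvs hg₁).2 ⟨by simpa [ws] using he, ?_⟩
      have hcomp : (ws.map fun w => QForm.sumForm Q₁ Q₂ w) = vs.map fun v => Q₁ v := by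
        rw [List.map_map]
        exact List.map_congr_left fun v _ => QForm.sumForm_inl Q₁ Q₂ v
      rwa [hcomp] at hs
  · intro hg
    exact ⟨QForm.sumHom ⇑Q₁ ⇑Q₂ (g₁, 1), QForm.sumHom_mem_omega _ _ hg (one_mem _), rfl⟩

end Cfsg.Agent.S2627
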