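import Cfsg.Statements.S2628
import Cfsg.Agent.Lib.QForm.OmegaQuot
import Cfsg.Agent.Lib.QForm.OrthSumForm

set_option autoImplicit false
open Cfsg

namespace Cfsg.Agent.S2628

/-- For the orthogonal direct sum Q ⊕ Q of two copies of a quadratic form Q with non-degenerate polar form on F^k (F finite), every isometry g of Q acting diagonally, diag(g, g), lies in Ω(Q ⊕ Q), the commutator subgroup of the orthogonal group of Q ⊕ Q. (Excluded: k = 2 over the field of two elements, where Q ⊕ Q is the hyperbolic 4-space whose orthogonal group's commutator subgroup is smaller than the group usually called Ω.) -/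
theorem result {F : Type*} [Field F] [Fintype F] {k : ℕ} (h : Fintype.card F ≠ 2 ∨ k ≠ 2) (Q : QuadraticForm F (Fin k → F)) (hQ : (QuadraticMap.polarBilin Q).Nondegenerate) (g : ↥(Cfsg.isometryGroup F ⇑Q)) : ∃ x : ↥(Cfsg.isometryGroup F (fun v : Fin k ⊕ Fin k → F => Q (v ∘ Sum.inl) + Q (v ∘ Sum.inr))), x ∈ Cfsg.Omega F (fun v : Fin k ⊕ Fin k → F => Q (v ∘ Sum.inl) + Q (v ∘ Sum.inr)) ∧ ((x : Matrix.GeneralLinearGroup (Fin k ⊕ Fin k) F) : Matrix (Fin k ⊕ Fin k) (Fin k ⊕ Fin k) F) = Matrix.fromBlocks ((g : Matrix.GeneralLinearGroup (Fin k) F) : Matrix (Fin k) (Fin k) F) 0 0 ((g : Matrix.GeneralLinearGroup (Fin k) F) : Matrix (Fin k) (Fin k) F) := by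
  classical
  have hN := QForm.sumForm_nondegenerate Q Q hQ hQ
  have hh : Fintype.card F ≠ 2 ∨ Fintype.card (Fin k ⊕ Fin k) ≠ 4 :=
    h.imp_right fun hk => by simp only [Fintype.card_sum, Fintype.card_fin]; omega
  let L := QForm.sumHom ⇑Q ⇑Q
  refine ⟨L (g, g), ?_, rfl⟩
  let S : Matrix (Fin k ⊕ Fin k) (Fin k ⊕ Fin k) F := Matrix.fromBlocks 0 1 1 0
  have hS : S * S = 1 := by simp [S, Matrix.fromBlocks_multiply]
  let s : ↥(Cfsg.isometryGroup F ⇑(QForm.sumForm Q Q)) := ⟨⟨S, S, hS, hS⟩, fun v _ => by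
    show Q ((S.mulVec v) ∘ Sum.inl) + Q ((S.mulVec v) ∘ Sum.inr) = Q (v ∘ Sum.inl) + Q (v ∘ Sum.inr)
    rw [Matrix.fromBlocks_mulVec, Sum.elim_comp_inl, Sum.elim_comp_inr, Matrix.zero_mulVec,
      Matrix.one_mulVec, Matrix.zero_mulVec, Matrix.one_mulVec, zero_add, add_zero, add_comm]⟩
  let a : ↥(Cfsg.isometryGroup F ⇑(QForm.sumForm Q Q)) := L (g, 1)
  let b : ↥(Cfsg.isometryGroup F ⇑(QForm.sumForm Q Q)) := L (1, g)
  have hba : b = s * a * s⁻¹ := by
    refine Subtype.ext (Units.ext ?_)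
    show Matrix.fromBlocks 1 0 0 _ = S * Matrix.fromBlocks _ 0 0 1 * S
    simp [S, Matrix.fromBlocks_multiply]
  have hab : L (g, g) = a * b := by
    show L (g, g) = L (g, 1) * L (1, g)
    rw [← map_mul, Prod.mk_mul_mk, mul_one, one_mul]
  rw [hab]
  show a * b ∈ Cfsg.Omega F ⇑(QForm.sumForm Q Q)
  rw [QForm.mem_omega_iff_abelianization, map_mul, hba, map_mul, map_mul, map_inv, mul_inv_cancel_comm]
  exact QForm.of_mul_self hN hh a

end Cfsg.Agent.S2628
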