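import Cfsg.Statements.S2631
import Cfsg.Agent.Lib.QForm.Levi

set_option autoImplicit false
open Cfsg

namespace Cfsg.Agent.S2631

/-- For the hyperbolic form Σ x_i y_i on F^(2m) over a finite field (m ≥ 1, excluding m = 2 over the field of two elements), Ω (the commutator subgroup of the orthogonal group) acts transitively on each of the two classes of maximal totally singular subspaces: if U and W are m-dimensional totally singular subspaces with m − dim(U ∩ W) even, some element of Ω carries U to W. -/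
theorem result {F : Type*} [Field F] [Fintype F] {m : ℕ} (hm : 1 ≤ m) (h : Fintype.card F ≠ 2 ∨ m ≠ 2) (U W : Submodule F (Fin m ⊕ Fin m → F)) (hU : Module.finrank F U = m) (hW : Module.finrank F W = m) (hU0 : ∀ u ∈ U, Cfsg.quadFormPlus m F u = 0) (hW0 : ∀ w ∈ W, Cfsg.quadFormPlus m F w = 0) (he : Even (m - Module.finrank F ↥(U ⊓ W))) : ∃ g : ↥(Cfsg.isometryGroup F (Cfsg.quadFormPlus m F)), g ∈ Cfsg.Omega F (Cfsg.quadFormPlus m F) ∧ U.map (Matrix.mulVecLin ((g : Matrix.GeneralLinearGroup (Fin m ⊕ Fin m) F) : Matrix (Fin m ⊕ Fin m) (Fin m ⊕ Fin m) F)) = W := by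
  classical
  rw [← QForm.coe_plusForm] at hU0 hW0 ⊢
  have hQ := QForm.plusForm_nondegenerate F m
  have hwitt : ∀ X : Submodule F (Fin m ⊕ Fin m → F), Module.finrank F X = m →
      QForm.TotallySingular (QForm.plusForm F m) X →
      ∃ g : ↥(Cfsg.isometryGroup F ⇑(QForm.plusForm F m)), QForm.image g (QForm.yZero F m) = X := by
    intro X hX hX0
    let e : QForm.yZero F m ≃ₗ[F] X := LinearEquiv.ofFinrankEq _ _ (QForm.finrank_yZero.trans hX.symm)
    obtain ⟨g, hg⟩ := QForm.exists_act_extend hQ (QForm.yZero F m) (X.subtype ∘ₗ e.toLinearMap)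
      (X.subtype_injective.comp e.injective)
      (fun x => by rw [QForm.totallySingular_yZero _ x.2]; exact hX0 _ (e x).2)
    exact ⟨g, QForm.map_eq_of_act_mem g (fun u hu => by rw [hg ⟨u, hu⟩]; exact (e ⟨u, hu⟩).2)
      (QForm.finrank_yZero.trans hX.symm)⟩
  obtain ⟨g₁, hg₁⟩ := hwitt U hU hU0
  obtain ⟨g₂, hg₂⟩ := hwitt W hW hW0
  have hback : QForm.image g₁⁻¹ U = QForm.yZero F m := by
    rw [← hg₁, ← QForm.image_mul, inv_mul_cancel, QForm.image_one]
  obtain ⟨A, hA⟩ := QForm.exists_levi_adjust hm h hU0 hU g₂ g₁⁻¹ (by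
    rwa [QForm.image_mul, hback, hg₂])
  refine ⟨_, hA, ?_⟩
  show QForm.image _ U = W
  rw [QForm.image_mul, hback, QForm.image_mul]
  have hfix : QForm.image (QForm.levi A) (QForm.yZero F m) = QForm.yZero F m :=
    QForm.map_eq_of_act_mem _ (fun u hu => QForm.act_levi_mem_yZero A hu) rfl
  rw [hfix, hg₂]

end Cfsg.Agent.S2631
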