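import Cfsg.Statements.S2632
import Cfsg.Agent.Lib.QForm.Transitive

set_option autoImplicit false
open Cfsg

namespace Cfsg.Agent.S2632

/-- Ω is transitive on non-degenerate subspaces of each isometry type: for a quadratic form Q on F^n, n ≥ 3, with non-degenerate polar form (F finite; excluding dimension 4 over the field of two elements), if U and W are subspaces on which the polar form is non-degenerate and there is a Q-preserving linear isomorphism U → W, then some element of Ω (the commutator subgroup of the orthogonal group) carries U to W. (In dimension 2 this fails: Ω can be {±1}, which fixes every line.) -/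
theorem result {F : Type*} [Field F] [Fintype F] {n : ℕ} (hn : 3 ≤ n) (h : Fintype.card F ≠ 2 ∨ n ≠ 4) (Q : QuadraticForm F (Fin n → F)) (hQ : (QuadraticMap.polarBilin Q).Nondegenerate) (U W : Submodule F (Fin n → F)) (hU : U ⊓ LinearMap.BilinForm.orthogonal (QuadraticMap.polarBilin Q) U = ⊥) (hW : W ⊓ LinearMap.BilinForm.orthogonal (QuadraticMap.polarBilin Q) W = ⊥) (e : U ≃ₗ[F] W) (he : ∀ u : U, Q (e u : Fin n → F) = Q (u : Fin n → F)) : ∃ g : ↥(Cfsg.isometryGroup F ⇑Q), g ∈ Cfsg.Omega F ⇑Q ∧ U.map (Matrix.mulVecLin ((g : Matrix.GeneralLinearGroup (Fin n) F) : Matrix (Fin n) (Fin n) F)) = W := by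
  classical
  have hh : Fintype.card F ≠ 2 ∨ Fintype.card (Fin n) ≠ 4 := by simpa using h
  set B := QuadraticMap.polarBilin Q
  have hd : Module.finrank F U = Module.finrank F W := e.finrank_eq
  obtain ⟨g, hg⟩ := QForm.exists_act_extend hQ U (W.subtype ∘ₗ e.toLinearMap)
    (W.subtype_injective.comp e.injective) he
  refine QForm.exists_omega_map hQ hh hd g (fun u hu => by rw [hg ⟨u, hu⟩]; exact (e ⟨u, hu⟩).2) fun v hv => ?_
  set P := LinearMap.BilinForm.orthogonal B U with hP
  have hPperp : ∀ w ∈ P, ∀ u ∈ U, QuadraticMap.polar ⇑Q w u = 0 := fun w hw u hu => by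
    rw [QuadraticMap.polar_comm]; exact hw u hu
  suffices H : ∃ w, (w ∈ U ∨ w ∈ P) ∧ Q w ≠ 0 ∧ IsSquare (Q w * Q v) by
    obtain ⟨w, hw, hw0, hsq⟩ := H
    exact ⟨QForm.refl Q w hw0, fun u hu => QForm.act_refl_mem hw0 (hw.imp_right (hPperp w)) hu,
      QForm.of_refl_eq hQ hw0 hv hsq⟩
  have hrefl : B.IsRefl := fun x y hxy => by
    show QuadraticMap.polar ⇑Q y x = 0
    rw [QuadraticMap.polar_comm]; exact hxy
  have hcompl : IsCompl U P :=
    (LinearMap.BilinForm.restrict_nondegenerate_iff_isCompl_orthogonal hrefl).1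
      (QForm.nondegenerate_restrict hU)
  by_cases h2 : (2 : F) = 0
  · have : CharP F 2 := CharTwo.of_one_ne_zero_of_two_eq_zero one_ne_zero h2
    have hsq : ∀ c : F, IsSquare c := fun c =>
      FiniteField.isSquare_of_char_two (CharP.eq F (ringChar.charP F) inferInstance) c
    by_contra! hno
    obtain ⟨x, hx⟩ := QForm.exists_ne_zero hQ (by simp; omega)
    have hU0 : ∀ w, w ∈ U ∨ w ∈ P → Q w = 0 := fun w hw => by
      by_contra hw0; exact hno w hw hw0 (hsq _)
    have hxtop : x ∈ U ⊔ P := by rw [hcompl.sup_eq_top]; trivial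
    obtain ⟨a, ha, b, hb, rfl⟩ := Submodule.mem_sup.1 hxtop
    apply hx
    rw [Forms.quadratic_map_add, hU0 a (Or.inl ha), hU0 b (Or.inr hb), QuadraticMap.polarBilin_apply_apply]
    have : QuadraticMap.polar ⇑Q a b = 0 := hb a ha
    rw [this]; simp
  · have hdim : Module.finrank F U + Module.finrank F P = n := by
      rw [Submodule.finrank_add_eq_of_isCompl hcompl, Module.finrank_fin_fun]
    have hP' : (QuadraticMap.polarBilin (Q.comp P.subtype)).Nondegenerate := by
      refine QForm.nondegenerate_restrict ?_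
      rw [hP, LinearMap.BilinForm.orthogonal_orthogonal hQ hrefl]
      exact (inf_comm _ _).trans hU
    rcases Nat.lt_or_ge (Module.finrank F U) 2 with hu | hu
    · obtain ⟨w, hw⟩ := QForm.exists_apply_eq_of_module h2 hP' (by omega) (Q v) hv
      have hw' : Q (w : Fin n → F) = Q v := hw
      exact ⟨w, Or.inr w.2, hw'.trans_ne hv, Q v, by rw [hw']⟩
    · obtain ⟨w, hw⟩ := QForm.exists_apply_eq_of_module h2 (QForm.nondegenerate_restrict hU) hu (Q v) hv
      have hw' : Q (w : Fin n → F) = Q v := hw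
      exact ⟨w, Or.inl w.2, hw'.trans_ne hv, Q v, by rw [hw']⟩

end Cfsg.Agent.S2632
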