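import Cfsg.Statements.S2633
import Cfsg.Agent.Lib.QForm.Transitive

set_option autoImplicit false
open Cfsg

namespace Cfsg.Agent.S2633

/-- Ω is transitive on totally singular subspaces of each dimension less than half the dimension: for a quadratic form Q on F^n with non-degenerate polar form (F finite; excluding dimension 4 over the field of two elements), if U and W are subspaces of the same dimension k with 2k < n on which Q vanishes, then some element of Ω (the commutator subgroup of the orthogonal group) carries U to W. -/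
theorem result {F : Type*} [Field F] [Fintype F] {n : ℕ} (h : Fintype.card F ≠ 2 ∨ n ≠ 4) (Q : QuadraticForm F (Fin n → F)) (hQ : (QuadraticMap.polarBilin Q).Nondegenerate) (U W : Submodule F (Fin n → F)) {k : ℕ} (hk : 2 * k < n) (hU : Module.finrank F U = k) (hW : Module.finrank F W = k) (hU0 : ∀ u ∈ U, Q u = 0) (hW0 : ∀ w ∈ W, Q w = 0) : ∃ g : ↥(Cfsg.isometryGroup F ⇑Q), g ∈ Cfsg.Omega F ⇑Q ∧ U.map (Matrix.mulVecLin ((g : Matrix.GeneralLinearGroup (Fin n) F) : Matrix (Fin n) (Fin n) F)) = W := by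
  classical
  have hh : Fintype.card F ≠ 2 ∨ Fintype.card (Fin n) ≠ 4 := by simpa using h
  let e : U ≃ₗ[F] W := LinearEquiv.ofFinrankEq U W (hU.trans hW.symm)
  obtain ⟨g, hg⟩ := QForm.exists_act_extend hQ U (W.subtype ∘ₗ e.toLinearMap)
    (W.subtype_injective.comp e.injective) (fun x => by rw [hU0 _ x.2]; exact hW0 _ (e x).2)
  rcases Nat.eq_zero_or_pos k with hk0 | hk0
  · subst hk0
    refine ⟨1, one_mem _, ?_⟩
    rw [Submodule.finrank_eq_zero.1 hU, Submodule.finrank_eq_zero.1 hW, Submodule.map_bot]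
  refine QForm.exists_omega_map hQ hh (hU.trans hW.symm) g
    (fun u hu => by rw [hg ⟨u, hu⟩]; exact (e ⟨u, hu⟩).2) fun v hv => ?_
  -- a reflection fixing `U`
  set P := LinearMap.BilinForm.orthogonal (QuadraticMap.polarBilin Q) U with hP
  obtain ⟨a, haP, ha⟩ : ∃ a ∈ P, Q a ≠ 0 := by
    by_contra! hno
    have hrefl : (QuadraticMap.polarBilin Q).IsRefl := fun x y hxy => by
      show QuadraticMap.polar ⇑Q y x = 0
      rw [QuadraticMap.polar_comm]; exact hxy
    have hPP : P ≤ LinearMap.BilinForm.orthogonal (QuadraticMap.polarBilin Q) P := by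
      intro x hx y hy
      show QuadraticMap.polar ⇑Q y x = 0
      rw [QuadraticMap.polar, hno _ (P.add_mem hy hx), hno _ hy, hno _ hx]; simp
    have h1 := Submodule.finrank_mono hPP
    rw [hP, LinearMap.BilinForm.orthogonal_orthogonal hQ hrefl, hU,
      LinearMap.BilinForm.finrank_orthogonal hQ, hU, Module.finrank_fin_fun] at h1
    omega
  -- a hyperbolic partner of a vector of `U`
  obtain ⟨⟨e₀, he₀⟩, hne⟩ : ∃ x : U, x ≠ 0 := by
    have : Nontrivial U := Module.nontrivial_of_finrank_pos (by omega : 0 < Module.finrank F U)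
    exact exists_ne 0
  have he0 : e₀ ≠ 0 := fun h0 => hne (Subtype.ext h0)
  have he₀Q : Q e₀ = 0 := hU0 _ he₀
  obtain ⟨C, hC⟩ := Submodule.exists_isCompl (F ∙ e₀)
  obtain ⟨f₀, hf₀, hf₀e⟩ := Forms.quadratic_exists_perp hQ (S := U ⊓ C) (v := e₀) (fun hmem => he0 (by
    have h' : e₀ ∈ (F ∙ e₀) ⊓ C := ⟨Submodule.mem_span_singleton_self e₀, hmem.2⟩
    rw [hC.inf_eq_bot] at h'
    exact h'))
  rw [QuadraticMap.polarBilin_apply_apply] at hf₀e
  set f := f₀ - Q f₀ • e₀ with hf
  have hUperp : ∀ x ∈ U, ∀ y ∈ U, QuadraticMap.polar ⇑Q x y = 0 := fun x hx y hy => by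
    rw [QuadraticMap.polar, hU0 _ (U.add_mem hx hy), hU0 _ hx, hU0 _ hy]; simp
  have hfQ : Q f = 0 := by
    rw [hf, QForm.apply_sub_smul, he₀Q, QuadraticMap.polar_comm, hf₀e]; ring
  have hfe : QuadraticMap.polar ⇑Q f e₀ = 1 := by
    rw [hf, QuadraticMap.polar_sub_left, QuadraticMap.polar_smul_left, hUperp _ he₀ _ he₀, hf₀e]; simp
  have hfC : ∀ u ∈ U ⊓ C, QuadraticMap.polar ⇑Q f u = 0 := by
    intro u hu
    have := hf₀ u hu
    rw [QuadraticMap.polarBilin_apply_apply] at this
    rw [hf, QuadraticMap.polar_sub_left, QuadraticMap.polar_smul_left, this, hUperp _ he₀ _ hu.1]; simp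
  have hsum : ∀ u ∈ U, ∃ (t : F) (u' : Fin n → F), u' ∈ U ⊓ C ∧ u = t • e₀ + u' := by
    intro u hu
    have : u ∈ (F ∙ e₀) ⊔ C := by rw [hC.sup_eq_top]; trivial
    obtain ⟨y, hy, z, hz, rfl⟩ := Submodule.mem_sup.1 this
    obtain ⟨t, rfl⟩ := Submodule.mem_span_singleton.1 hy
    exact ⟨t, z, ⟨by simpa using U.sub_mem hu (U.smul_mem t he₀), hz⟩, rfl⟩
  have hnorm : ∀ c : F, Q (e₀ + c • f) = c := fun c => by
    rw [Forms.quadratic_map_add, QuadraticMap.map_smul, map_smul, QuadraticMap.polarBilin_apply_apply,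
      QuadraticMap.polar_comm, hfe, he₀Q, hfQ]; simp
  let R : ∀ c : F, c ≠ 0 → ↥(Cfsg.isometryGroup F ⇑Q) := fun c hc => QForm.refl Q (e₀ + c • f) (by rwa [hnorm])
  have hL : ∀ (c : F) (hc : c ≠ 0), ∀ u ∈ U, QForm.act Q (R 1 one_ne_zero * R c hc) u ∈ U := by
    intro c hc u hu
    obtain ⟨t, u', hu', rfl⟩ := hsum u hu
    have e1 : ∀ d : F, QuadraticMap.polar ⇑Q (e₀ + d • f) u' = 0 := fun d => by
      rw [QuadraticMap.polar_add_left, QuadraticMap.polar_smul_left, hUperp _ he₀ _ hu'.1, hfC u' hu']; simp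
    have e2 : ∀ d : F, QuadraticMap.polar ⇑Q (e₀ + d • f) e₀ = d := fun d => by
      rw [QuadraticMap.polar_add_left, QuadraticMap.polar_smul_left, hUperp _ he₀ _ he₀, hfe]; simp
    have e3 : QuadraticMap.polar ⇑Q (e₀ + (1 : F) • f) f = 1 := by
      rw [QuadraticMap.polar_add_left, QuadraticMap.polar_smul_left, QuadraticMap.polar_self, hfQ,
        QuadraticMap.polar_comm, hfe]; simp
    have e4 : QForm.act Q (R 1 one_ne_zero * R c hc) (t • e₀ + u') = (t * c) • e₀ + u' := by
      rw [QForm.act_mul, QForm.act_refl, QForm.act_refl, hnorm, hnorm]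
      simp only [← QuadraticMap.polarBilin_apply_apply]
      simp only [map_sub, map_smul, map_add, LinearMap.add_apply, LinearMap.smul_apply, smul_eq_mul]
      simp only [QuadraticMap.polarBilin_apply_apply]
      simp only [QuadraticMap.polar_add_left, QuadraticMap.polar_smul_left, hUperp _ he₀ _ he₀, hfe,
        hUperp _ he₀ _ hu'.1, hfC u' hu', QuadraticMap.polar_self, hfQ, smul_eq_mul,
        show QuadraticMap.polar ⇑Q e₀ f = 1 from by rw [QuadraticMap.polar_comm]; exact hfe,
        LinearMap.add_apply, LinearMap.smul_apply, QuadraticMap.polarBilin_apply_apply]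
      match_scalars <;> field_simp <;> ring
    rw [e4]
    exact U.add_mem (U.smul_mem _ he₀) hu'.1
  refine ⟨QForm.refl Q a ha * (R 1 one_ne_zero * R (Q a) ha) * (R 1 one_ne_zero * R (Q v) hv),
    fun u hu => ?_, ?_⟩
  · rw [QForm.act_mul, QForm.act_mul]
    exact QForm.act_refl_mem ha (Or.inr fun z hz => by rw [QuadraticMap.polar_comm]; exact haP z hz)
      (hL _ ha _ (hL _ hv _ hu))
  · have hRa : Abelianization.of (R (Q a) ha) = Abelianization.of (QForm.refl Q a ha) :=
      QForm.of_refl_eq hQ _ ha ⟨Q a, by rw [hnorm]⟩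
    have hRv : Abelianization.of (R (Q v) hv) = Abelianization.of (QForm.refl Q v hv) :=
      QForm.of_refl_eq hQ _ hv ⟨Q v, by rw [hnorm]⟩
    rw [map_mul, map_mul, map_mul, map_mul, hRa, hRv]
    have h1 := QForm.of_mul_self hQ hh (R 1 one_ne_zero)
    have h2 := QForm.of_mul_self hQ hh (QForm.refl Q a ha)
    generalize Abelianization.of (R 1 one_ne_zero) = x at h1 ⊢
    generalize Abelianization.of (QForm.refl Q a ha) = y at h2 ⊢
    generalize Abelianization.of (QForm.refl Q v hv) = z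
    calc y * (x * y) * (x * z) = (y * y) * (x * x) * z := by ac_rfl
      _ = _ := by rw [h1, h2, one_mul, one_mul]

end Cfsg.Agent.S2633
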