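import Cfsg.Statements.S2634
import Cfsg.Agent.Lib.QForm.Transitive

set_option autoImplicit false
open Cfsg

namespace Cfsg.Agent.S2634

/-- Over a finite field of characteristic two, Ω (the commutator subgroup of the orthogonal group of a quadratic form Q on F^n with non-degenerate polar form; excluding dimension 4 over the field of two elements) acts transitively on the non-singular 1-spaces: for u, v with Q(u) ≠ 0 and Q(v) ≠ 0 some element of Ω carries the line through u to the line through v. -/
theorem result {F : Type*} [Field F] [Fintype F] [CharP F 2] {n : ℕ} (h : Fintype.card F ≠ 2 ∨ n ≠ 4) (Q : QuadraticForm F (Fin n → F)) (hQ : (QuadraticMap.polarBilin Q).Nondegenerate) (u v : Fin n → F) (hu : Q u ≠ 0) (hv : Q v ≠ 0) : ∃ g : ↥(Cfsg.isometryGroup F ⇑Q), g ∈ Cfsg.Omega F ⇑Q ∧ (F ∙ ((g : Matrix.GeneralLinearGroup (Fin n) F) : Matrix (Fin n) (Fin n) F).mulVec u) = F ∙ v := by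
  classical
  have hh : Fintype.card F ≠ 2 ∨ Fintype.card (Fin n) ≠ 4 := by simpa using h
  have hsq : ∀ c : F, IsSquare c := fun c =>
    FiniteField.isSquare_of_char_two (CharP.eq F (ringChar.charP F) inferInstance) c
  obtain ⟨r, hr⟩ := hsq (Q u / Q v)
  have hu0 : u ≠ 0 := by rintro rfl; simp at hu
  have hv0 : v ≠ 0 := by rintro rfl; simp at hv
  have hr0 : r ≠ 0 := by rintro rfl; simp [hu, hv] at hr
  obtain ⟨g, hg⟩ := QForm.exists_act_eq hQ hu0 (smul_ne_zero hr0 hv0) (by
    rw [QuadraticMap.map_smul, smul_eq_mul, ← hr, div_mul_cancel₀ _ hv])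
  obtain ⟨x, hx, hxU⟩ := QForm.exists_omega_map hQ hh (U := F ∙ u) (W := F ∙ v)
    (by rw [finrank_span_singleton hu0, finrank_span_singleton hv0]) g (fun z hz => by
      obtain ⟨c, rfl⟩ := Submodule.mem_span_singleton.1 hz
      rw [QForm.act, Matrix.mulVec_smul]
      refine Submodule.smul_mem _ c ?_
      rw [show Matrix.mulVec _ u = r • v from hg]
      exact Submodule.smul_mem _ r (Submodule.mem_span_singleton_self v))
    (fun w hw => ⟨QForm.refl Q u hu,
      fun z hz => QForm.act_refl_mem hu (Or.inl (Submodule.mem_span_singleton_self u)) hz,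
      QForm.of_refl_eq hQ hu hw (hsq _)⟩)
  refine ⟨x, hx, ?_⟩
  rw [← hxU, Submodule.map_span, Set.image_singleton, Matrix.mulVecLin_apply]

end Cfsg.Agent.S2634
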