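import Cfsg.Statements.S2635
import Cfsg.Agent.Lib.QForm.OmegaQuot

set_option autoImplicit false
open Cfsg

namespace Cfsg.Agent.S2635

/-- Over a finite field of characteristic two, for a quadratic form Q on F^n with non-degenerate polar form, n ≥ 2, other than dimension 4 over the field of two elements, Ω (the commutator subgroup of the orthogonal group) is exactly the subgroup generated by the products of two reflections (orthogonal transvections) x ↦ x − Q(v)⁻¹ f(x, v) v, Q(v) ≠ 0: the products of an even number of reflections. -/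
theorem result {F : Type*} [Field F] [Fintype F] [CharP F 2] {n : ℕ} (hn : 2 ≤ n) (h : Fintype.card F ≠ 2 ∨ n ≠ 4) (Q : QuadraticForm F (Fin n → F)) (hQ : (QuadraticMap.polarBilin Q).Nondegenerate) : Cfsg.Omega F ⇑Q = Subgroup.closure {g : ↥(Cfsg.isometryGroup F ⇑Q) | ∃ u v : Fin n → F, Q u ≠ 0 ∧ Q v ≠ 0 ∧ ((g : Matrix.GeneralLinearGroup (Fin n) F) : Matrix (Fin n) (Fin n) F) = Cfsg.reflectionMatrix ⇑Q u * Cfsg.reflectionMatrix ⇑Q v} := by
  classical
  have hh : Fintype.card F ≠ 2 ∨ Fintype.card (Fin n) ≠ 4 := by simpa using h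
  apply le_antisymm
  · intro g hg
    obtain ⟨vs, hvs, hgv⟩ := QForm.exists_list hQ hh g
    obtain ⟨k, hk⟩ := (QForm.mem_omega_iff_even hQ hh g vs hvs hgv).1 hg
    clear hg
    induction k generalizing g vs with
    | zero =>
      obtain rfl : vs = [] := List.eq_nil_of_length_eq_zero (by simpa using hk)
      obtain rfl : g = 1 := Subtype.ext (Units.ext hgv)
      exact one_mem _
    | succ k ih =>
      match vs, hk with
      | [], hk => simp at hk
      | [v], hk => simp at hk; omega
      | u :: v :: vs, hk =>
        have hu := hvs u List.mem_cons_self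
        have hv := hvs v (List.mem_cons_of_mem _ List.mem_cons_self)
        have hvs' : ∀ w ∈ vs, Q w ≠ 0 := fun w hw => hvs w (List.mem_cons_of_mem _ (List.mem_cons_of_mem _ hw))
        obtain ⟨g', hg'⟩ := QForm.exists_prod_refl Q vs hvs'
        obtain rfl : g = QForm.refl Q u hu * QForm.refl Q v hv * g' := Subtype.ext (Units.ext (by
          rw [hgv, List.map_cons, List.prod_cons, List.map_cons, List.prod_cons, ← hg', ← mul_assoc]; rfl))
        exact mul_mem (Subgroup.subset_closure ⟨u, v, hu, hv, rfl⟩) (ih vs hvs' hg' (by simp at hk; omega))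
  · rw [Subgroup.closure_le]
    rintro g ⟨u, v, hu, hv, hg⟩
    exact QForm.mem_omega_of_even hQ g [u, v] (by simp [hu, hv]) (by simpa using hg) ⟨1, rfl⟩

end Cfsg.Agent.S2635
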