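import Cfsg.Statements.S2636
-- import your own Cfsg.Agent.* helpers here

set_option autoImplicit false
open Cfsg

namespace Cfsg.Agent.S2636

/-- Centraliser of a field automorphism in PGL_n: let F be the field with q = q₀^r elements, σ a field automorphism of F of prime order r (so its fixed field has q₀ elements) and n ≥ 1. The invertible matrices g whose entrywise image under σ is a scalar multiple of g — those whose coset modulo scalars is fixed by σ — number (q − 1)/(q₀ − 1) · |GL_n(q₀)|; equivalently the centraliser in PGL_n(q) of the induced automorphism has the order of PGL_n(q₀). -/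
theorem result {F : Type*} [Field F] [Fintype F] {q₀ r n : ℕ} (hr : r.Prime) (hn : 1 ≤ n) (hF : Fintype.card F = q₀ ^ r) (σ : F ≃+* F) (hσ : orderOf σ = r) : Nat.card {g : GL (Fin n) F // ∃ c : F, c ≠ 0 ∧ (g : Matrix (Fin n) (Fin n) F).map σ = c • (g : Matrix (Fin n) (Fin n) F)} = (q₀ ^ r - 1) / (q₀ - 1) * ∏ i : Fin n, (q₀ ^ n - q₀ ^ (i : ℕ)) := by
  classical
  let F₀ : Subfield F := FixedPoints.subfield (Subgroup.zpowers σ) F
  have hmem : ∀ z, z ∈ F₀ ↔ σ z = z := by
    intro z
    constructor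
    · intro h; exact h ⟨σ, Subgroup.mem_zpowers σ⟩
    · intro h
      rintro ⟨τ, hτ⟩
      have hσz : σ ∈ MulAction.stabilizer (F ≃+* F) z := h
      exact Subgroup.zpowers_le.2 hσz hτ
  let _ : Fintype (F ≃+* F) := Fintype.ofInjective (fun τ => (τ : F → F)) DFunLike.coe_injective
  have hfin : Module.finrank F₀ F = r := by
    show Module.finrank (FixedPoints.subfield (Subgroup.zpowers σ) F) F = r
    rw [FixedPoints.finrank_eq_card, ← Nat.card_eq_fintype_card, Nat.card_zpowers, hσ]
  have hq₀ : Fintype.card F₀ = q₀ := by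
    have h := Module.card_eq_pow_finrank (K := F₀) (V := F)
    rw [hfin, hF] at h
    exact (Nat.pow_left_injective hr.ne_zero h).symm
  let S := {g : GL (Fin n) F // ∃ c : F, c ≠ 0 ∧ (g : Matrix (Fin n) (Fin n) F).map σ = c • (g : Matrix (Fin n) (Fin n) F)}
  -- a nonzero entry of each matrix
  have hentry : ∀ g : GL (Fin n) F, ∃ ij : Fin n × Fin n, (g : Matrix (Fin n) (Fin n) F) ij.1 ij.2 ≠ 0 := by
    intro g
    by_contra! h
    have : Nonempty (Fin n) := ⟨⟨0, hn⟩⟩
    exact g.ne_zero (Matrix.ext fun i j => h (i, j))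
  choose ij hij using hentry
  let μ : GL (Fin n) F → Fˣ := fun g => Units.mk0 _ (hij g)
  let scal : Fˣ →* GL (Fin n) F := Units.map (Matrix.scalar (Fin n) : F →+* Matrix (Fin n) (Fin n) F).toMonoidHom
  have hscal : ∀ (a : Fˣ) (g : GL (Fin n) F),
      ((scal a * g : GL (Fin n) F) : Matrix (Fin n) (Fin n) F) = (a : F) • (g : Matrix (Fin n) (Fin n) F) := by
    intro a g
    simp [scal, ← Matrix.smul_eq_diagonal_mul]
  let incl : GL (Fin n) F₀ →* GL (Fin n) F := Matrix.GeneralLinearGroup.map F₀.subtype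
  have hincl : ∀ g i j, (incl g : Matrix (Fin n) (Fin n) F) i j = ((g : Matrix (Fin n) (Fin n) F₀) i j : F) :=
    fun g i j => rfl
  have hincl_inj : Function.Injective incl := fun g h hgh => Units.ext (Matrix.ext fun i j =>
    Subtype.ext (by rw [← hincl, ← hincl, hgh]))
  -- a matrix with entries in the fixed field comes from the fixed field
  have hdesc : ∀ g : GL (Fin n) F, (∀ i j, σ ((g : Matrix (Fin n) (Fin n) F) i j) = (g : Matrix (Fin n) (Fin n) F) i j) →
      ∃ h, incl h = g := by
    intro g hg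
    let M : Matrix (Fin n) (Fin n) F₀ := Matrix.of fun i j => ⟨_, (hmem _).2 (hg i j)⟩
    have hM : IsUnit M := by
      rw [Matrix.isUnit_iff_isUnit_det, isUnit_iff_ne_zero]
      intro h0
      apply Matrix.GeneralLinearGroup.det_ne_zero g
      have := congrArg F₀.subtype h0
      rw [RingHom.map_det, map_zero] at this
      exact this
    exact ⟨hM.unit, Units.ext (Matrix.ext fun i j => rfl)⟩
  have hratio : ∀ (s : S) (a : Fˣ), (∃ h, scal a * incl h = s.1) → σ ((a : F) / μ s.1) = (a : F) / μ s.1 := by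
    rintro ⟨g, c, hc, hgc⟩ a ⟨h, hh⟩
    have e1 : ∀ i j, (g : Matrix (Fin n) (Fin n) F) i j = (a : F) * ((h : Matrix (Fin n) (Fin n) F₀) i j : F) := by
      intro i j
      show _ = _
      rw [show g = scal a * incl h from hh.symm, hscal]
      rfl
    set h₀ : F₀ := (h : Matrix (Fin n) (Fin n) F₀) (ij g).1 (ij g).2
    have e2 : (μ g : F) = (a : F) * (h₀ : F) := e1 _ _
    show σ ((a : F) / μ g) = (a : F) / μ g
    have h0 : σ (h₀ : F) = h₀ := (hmem _).1 h₀.2
    rw [e2, div_mul_cancel_left₀ a.ne_zero, map_inv₀, h0]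
  have hfixed : ∀ (s : S) (u : F₀ˣ) i j, σ (((scal (μ s.1 * Units.map F₀.subtype.toMonoidHom u))⁻¹ * s.1 : GL (Fin n) F).1 i j) =
      ((scal (μ s.1 * Units.map F₀.subtype.toMonoidHom u))⁻¹ * s.1 : GL (Fin n) F).1 i j := by
    rintro ⟨g, c, hc, hgc⟩ u i j
    have hg : ∀ i j, σ ((g : Matrix (Fin n) (Fin n) F) i j) = c * (g : Matrix (Fin n) (Fin n) F) i j :=
      fun i j => congrFun (congrFun hgc i) j
    rw [← map_inv scal, hscal]
    have hu : σ ((u : F₀) : F) = ((u : F₀) : F) := (hmem _).1 (u : F₀).2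
    have hμ : σ (μ g : F) = c * μ g := hg _ _
    simp only [Matrix.smul_apply, smul_eq_mul, mul_inv_rev, Units.val_mul, Units.val_inv_eq_inv_val,
      Units.coe_map, map_mul, map_inv₀, hg, hμ]
    rw [show F₀.subtype.toMonoidHom (u : F₀) = ((u : F₀) : F) from rfl, hu]
    field_simp
  choose dh hdh using hdesc
  let E : S × F₀ˣ ≃ Fˣ × GL (Fin n) F₀ :=
    { toFun := fun su => (μ su.1.1 * Units.map F₀.subtype.toMonoidHom su.2, dh _ (hfixed su.1 su.2))
      invFun := fun ah =>
        let s : S := ⟨scal ah.1 * incl ah.2, σ (ah.1 : F) / (ah.1 : F),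
          div_ne_zero (by simp) ah.1.ne_zero, by
            rw [hscal]
            ext i j
            simp only [Matrix.map_apply, Matrix.smul_apply, smul_eq_mul, hincl, map_mul]
            have hh : σ (((ah.2 : Matrix (Fin n) (Fin n) F₀) i j : F₀) : F) = _ :=
              (hmem _).1 ((ah.2 : Matrix (Fin n) (Fin n) F₀) i j).2
            rw [hh]
            field_simp⟩
        (s, Units.mk0 ⟨(ah.1 : F) / μ s.1, (hmem _).2 (hratio s ah.1 ⟨ah.2, rfl⟩)⟩
          (fun h => div_ne_zero ah.1.ne_zero (μ s.1).ne_zero (congrArg Subtype.val h)))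
      left_inv := fun su => by
        refine Prod.ext (Subtype.ext ?_) (Units.ext (Subtype.ext ?_))
        · simp only [hdh, mul_inv_cancel_left]
        · simp only [hdh, mul_inv_cancel_left, Units.val_mk0, Units.val_mul, Units.coe_map]
          exact mul_div_cancel_left₀ _ (μ su.1.1).ne_zero
      right_inv := fun ah => by
        have h1 : ∀ (s : GL (Fin n) F) (u : F₀ˣ), ((u : F₀) : F) = (ah.1 : F) / μ s →
            μ s * Units.map F₀.subtype.toMonoidHom u = ah.1 := fun s u hu => Units.ext (by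
          simp only [Units.val_mul, Units.coe_map]
          show (μ s : F) * ((u : F₀) : F) = ah.1
          rw [hu]
          exact mul_div_cancel₀ _ (μ s).ne_zero)
        refine Prod.ext (h1 _ _ rfl) (hincl_inj ?_)
        simp only [hdh]
        rw [h1 _ _ rfl]
        exact inv_mul_cancel_left _ _ }
  have hcard := Nat.card_congr E
  have hGL : Nat.card (GL (Fin n) F₀) = ∏ i : Fin n, (q₀ ^ n - q₀ ^ (i : ℕ)) := by
    rw [Matrix.card_GL_field, hq₀]
  rw [Nat.card_prod, Nat.card_prod, Nat.card_units, Nat.card_units, hGL, Nat.card_eq_fintype_card (α := F₀),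
    Nat.card_eq_fintype_card (α := F), hq₀, hF] at hcard
  have h2 : 2 ≤ q₀ := hq₀ ▸ Fintype.one_lt_card
  have hd : q₀ - 1 ∣ q₀ ^ r - 1 := by simpa only [one_pow] using Nat.sub_dvd_pow_sub_pow q₀ 1 r
  rw [Nat.div_mul_right_comm hd]
  exact (Nat.div_eq_of_eq_mul_left (by omega) hcard.symm).symm

end Cfsg.Agent.S2636
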