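import Cfsg.Statements.S2637
import Cfsg.Agent.Lib.Semisimple.Isometry
import Cfsg.Agent.Lib.Semisimple.Duality
import Cfsg.Agent.Lib.Forms.Herm

set_option autoImplicit false
open Cfsg

namespace Cfsg.Agent.S2637

theorem two_sq_zmod : (2 : ZMod 3) ^ 2 = 1 := by decide

theorem three_zmod : (2 : ZMod 3) ≠ 1 := by decide

open Module in
/-- A fixed-point-free element of order `r`: its orbits fill the space. -/
theorem full_of_fpf.{u} {F : Type u} [Field F] [Fintype F] {r : ℕ} [Fact r.Prime] {K : Type} [Field K] [Algebra F K]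
    [Finite K] {ζ : K} (hK : Semisimple.RootField F r K ζ) {V : Type u} [AddCommGroup V] [Module F V]
    [FiniteDimensional F V] (f : End F V) (hf : f ^ r = 1) (hfix : ∀ v, f v = v → v = 0) :
    orderOf (Fintype.card F : ZMod r) * ∑ c, (Semisimple.orbMult ζ f : Semisimple.Orb F r → ℕ) c = finrank F V := by
  set a : Semisimple.Orb F r → ℕ := Semisimple.orbMult ζ f
  have hle : orderOf (Fintype.card F : ZMod r) * ∑ c, a c ≤ finrank F V := hK.orbMult_le f hf
  refine le_antisymm hle ?_
  by_contra hlt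
  obtain ⟨f₀, hf₀, hf₀a, -⟩ := hK.exists_realisation a
  set d := finrank F V - orderOf (Fintype.card F : ZMod r) * ∑ c, a c with hd
  let W := (Fin (orderOf (Fintype.card F : ZMod r) * ∑ c, a c) → F) × (Fin d → F)
  let g : End F W := f₀.prodMap 1
  have hdim : finrank F V = finrank F W := by
    rw [Module.finrank_prod, Module.finrank_fin_fun, Module.finrank_fin_fun]; omega
  have hgp : ∀ k, g ^ k = (f₀ ^ k).prodMap 1 := by
    intro k
    induction k with
    | zero => exact LinearMap.ext fun y => rfl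
    | succ k ih =>
      rw [pow_succ, ih, pow_succ f₀]
      exact LinearMap.ext fun y => rfl
  have hg : g ^ r = 1 := by rw [hgp, hf₀]; exact LinearMap.ext fun y => rfl
  obtain ⟨T, hT⟩ := Semisimple.exists_intertwine (finrank F V) V W f g rfl (hK.ss_of_pow f hf) (hK.ss_of_pow g hg)
    (hK.charpoly_eq_of_orbMult f g hf hg hdim (by rw [hK.orbMult_prodMap, hK.orbMult_one, add_zero, hf₀a]))
  let w : W := (0, fun _ => 1)
  have hw : g w = w := Prod.ext (map_zero f₀) rfl
  have h0 := hfix (T.symm w) (T.injective (by rw [hT, T.apply_symm_apply, hw]))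
  have h1 : w = 0 := by rw [← T.apply_symm_apply w, h0, map_zero]
  exact one_ne_zero (congrFun (congrArg Prod.snd h1) ⟨0, by omega⟩ : (1 : F) = 0)

/-- Centraliser of a fixed-point-free element of order three in Sp_2m(q) when q ≡ 2 (mod 3): if x ∈ Sp_2m(F) (|F| = q, m ≥ 1) satisfies x³ = 1 and x − 1 is invertible, then its centraliser in Sp_2m(F) has the order of the unitary group GU_m(q), namely q^(m(m−1)/2) Π_(i=1)^m (q^i − (−1)^i) (x lies in the centre of a subgroup GU_m(q) of Sp_2m(q)). -/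
theorem result {F : Type*} [Field F] [Fintype F] {q : ℕ} (hF : Fintype.card F = q) (hq : q % 3 = 2) {m : ℕ} (hm : 1 ≤ m) (x : Matrix.symplecticGroup (Fin m) F) (hx3 : x ^ 3 = 1) (hfpf : IsUnit ((x : Matrix (Fin m ⊕ Fin m) (Fin m ⊕ Fin m) F) - 1)) : (Nat.card ↥(Subgroup.centralizer ({x} : Set ↥(Matrix.symplecticGroup (Fin m) F))) : ℤ) = (q : ℤ) ^ (m * (m - 1) / 2) * ∏ i : Fin m, ((q : ℤ) ^ ((i : ℕ) + 1) - (-1) ^ ((i : ℕ) + 1)) := by
  classical
  subst hF
  haveI : Fact (Nat.Prime 3) := ⟨Nat.prime_three⟩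
  obtain ⟨p, hp⟩ := CharP.exists F
  obtain ⟨nn, hpp, hnn⟩ := FiniteField.card F p
  haveI := Fact.mk hpp
  have hrp : (3 : ℕ) ≠ p := by
    rintro rfl
    have h3 : 3 ∣ Fintype.card F := hnn ▸ dvd_pow_self 3 nn.ne_zero
    omega
  obtain ⟨K, _, _, _, ζ, hK⟩ := Semisimple.exists_rootField (F := F) (r := 3) p hrp
  haveI := Fintype.ofFinite K
  set q := Fintype.card F with hqdef
  have hord : orderOf (q : ZMod 3) = 2 := by
    rw [show (q : ZMod 3) = 2 by rw [← ZMod.natCast_mod, hq]; rfl]
    exact orderOf_eq_prime (p := 2) two_sq_zmod three_zmod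
  have hdeg : Module.finrank F K = 2 := by rw [hK.deg, hord]
  have hcK : Fintype.card K = q ^ 2 := by rw [Module.card_eq_pow_finrank (K := F) (V := K), hdeg]
  let J : K ≃ₐ[F] K := AlgEquiv.ofBijective (FiniteField.frobeniusAlgHom F K)
    (Finite.injective_iff_bijective.1 (RingHom.injective (FiniteField.frobeniusAlgHom F K).toRingHom))
  have hJ : ∀ y, J y = y ^ q := fun y => rfl
  have hζ3 : ζ ^ 3 = 1 := hK.prim.pow_eq_one
  have hζ1 : ζ ≠ 1 := hK.prim.ne_one (by norm_num)
  have hJζ : J ζ = ζ ^ 2 := by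
    rw [hJ]
    conv_lhs => rw [← Nat.div_add_mod q 3, hq, pow_add, pow_mul, hζ3, one_pow, one_mul]
  set θ := ζ - J ζ with hθ
  have hθ0 : θ ≠ 0 := by
    rw [hθ, hJζ]
    intro h
    have hz : ζ ≠ 0 := fun h0 => by rw [h0] at hζ3; simp at hζ3
    exact hζ1 (mul_left_cancel₀ hz (by linear_combination -h))
  let h := Forms.hermB hcK m
  have hJh : ∀ u v : Fin m → K, J (h u v) = h v u := fun u v => by
    rw [hJ, ← Forms.qEnd_apply hcK, Forms.hermB_apply, Forms.hermForm_swap hcK]
    rfl
  have hsm : ∀ (a : F) (u v : Fin m → K), h (a • u) v = a • h u v ∧ h u (a • v) = a • h u v := by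
    intro a u v
    rw [← algebraMap_smul K a u, ← algebraMap_smul K a v]
    simp only [map_smulₛₗ, LinearMap.smul_apply, RingHom.id_apply, smul_eq_mul, Forms.qEnd_apply]
    rw [← map_pow, FiniteField.pow_card, Algebra.smul_def]
    exact ⟨rfl, rfl⟩
  let B₀ : LinearMap.BilinForm F (Fin m → K) :=
    LinearMap.mk₂ F (fun u v => Algebra.trace F K (θ * h u v))
      (fun a b c => by simp [mul_add]) (fun a u v => by rw [(hsm a u v).1, mul_smul_comm, map_smul])
      (fun a b c => by simp [mul_add]) (fun a u v => by rw [(hsm a u v).2, mul_smul_comm, map_smul])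
  have hB₀ : ∀ u v, B₀ u v = Algebra.trace F K (θ * h u v) := fun u v => rfl
  have hsep : ∀ u, (∀ v, B₀ u v = 0) → u = 0 := by
    intro u hu
    refine (Forms.hermB_polar hcK m).sep u fun v => (mul_eq_zero.1 ?_).resolve_left hθ0
    refine (traceForm_nondegenerate F K).1 _ fun c => ?_
    rw [Algebra.traceForm_apply, mul_assoc, mul_comm _ c, ← smul_eq_mul (a := c), ← map_smul]
    exact hu (c • v)
  have halt : ∀ u, B₀ u u = 0 := by
    intro u
    rw [hB₀, hθ, sub_mul, map_sub]
    conv_lhs => arg 2; rw [← hJh u u, ← map_mul]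
    rw [Algebra.trace_eq_of_algEquiv, sub_self]
  let f₀ : Module.End F (Fin m → K) := (LinearMap.lsmul K (Fin m → K) ζ).restrictScalars F
  have hf₀ : ∀ v, f₀ v = ζ • v := fun v => rfl
  have hf₀3 : f₀ ^ 3 = 1 := LinearMap.ext fun v => by
    rw [pow_three, Module.End.mul_apply, Module.End.mul_apply, hf₀, hf₀, hf₀, smul_smul, smul_smul]
    rw [show ζ * ζ * ζ = ζ ^ 3 by ring, hζ3, one_smul, Module.End.one_apply]
  have hpres₀ : ∀ u v, B₀ (f₀ u) (f₀ v) = B₀ u v := fun u v => by
    rw [hB₀, hB₀, hf₀, hf₀]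
    simp only [map_smulₛₗ, LinearMap.smul_apply, RingHom.id_apply, smul_eq_mul]
    rw [Forms.qEnd_apply, ← hJ, hJζ]
    congr 1
    linear_combination (θ * h u v) * hζ3
  have hfix₀ : ∀ v, f₀ v = v → v = 0 := fun v hv => by
    rw [hf₀] at hv
    exact (smul_eq_zero.1 (show (ζ - 1) • v = 0 by rw [sub_smul, one_smul, hv, sub_self])).resolve_left
      (sub_ne_zero.2 hζ1)
  -- transport to `F^(2m)`
  let e₀ : (Fin m → K) ≃ₗ[F] (Fin m ⊕ Fin m → F) := LinearEquiv.ofFinrankEq _ _ (by
    rw [Module.finrank_pi_fintype]; simp [hdeg]; ring)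
  let B' : LinearMap.BilinForm F (Fin m ⊕ Fin m → F) := B₀.comp e₀.symm.toLinearMap e₀.symm.toLinearMap
  have hB' : ∀ u v, B' u v = B₀ (e₀.symm u) (e₀.symm v) := fun u v => rfl
  let X : Module.End F (Fin m ⊕ Fin m → F) :=
    Matrix.toLinAlgEquiv' (x : Matrix (Fin m ⊕ Fin m) (Fin m ⊕ Fin m) F)
  have hX : ∀ v, X v = (Forms.spEquiv m F x : _ ≃ₗ[F] _) v := fun v => by
    rw [Forms.spEquiv_apply]
    exact Matrix.toLin'_apply _ _
  have hX3 : X ^ 3 = 1 := by
    rw [← map_pow, show (x : Matrix (Fin m ⊕ Fin m) (Fin m ⊕ Fin m) F) ^ 3 = 1 from congrArg Subtype.val hx3,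
      map_one]
  have hXfix : ∀ v, X v = v → v = 0 := fun v hv => by
    have h1 : ((x : Matrix (Fin m ⊕ Fin m) (Fin m ⊕ Fin m) F) - 1).mulVec v = 0 := by
      rw [Matrix.sub_mulVec, Matrix.one_mulVec, show (x : Matrix (Fin m ⊕ Fin m) (Fin m ⊕ Fin m) F).mulVec v = v from
        (Matrix.toLin'_apply _ _).symm.trans hv, sub_self]
    exact Matrix.mulVec_injective_iff_isUnit.2 hfpf (h1.trans (Matrix.mulVec_zero _).symm)
  have hherm : Semisimple.IsHerm (RingHom.id F) (-1 : F) (Forms.sympB m F) :=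
    ⟨(Forms.sympB_polar m).swap, (Forms.sympB_polar m).invol, (Forms.sympB_polar m).sep⟩
  have hherm' : Semisimple.IsHerm (RingHom.id F) (-1 : F) B' :=
    ⟨fun u v => by
      have h2 := halt (e₀.symm u + e₀.symm v)
      simp only [map_add, LinearMap.add_apply, halt] at h2
      rw [hB', hB', RingHom.id_apply]
      linear_combination h2, fun _ => rfl,
      fun u hu => e₀.symm.injective ((hsep _ fun v => by
        rw [← e₀.symm_apply_apply v]; exact hu (e₀ v)).trans (map_zero _).symm)⟩
  have hf'3 : (e₀.conj f₀) ^ 3 = 1 := by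
    show (e₀.conjRingEquiv f₀) ^ 3 = 1
    rw [← map_pow, hf₀3, map_one]
  have hchar : X.charpoly = (e₀.conj f₀).charpoly := by
    refine hK.charpoly_eq_of_orbMult _ _ hX3 hf'3 rfl (funext fun c => ?_)
    have ht : Fintype.card (Semisimple.Orb F 3) = 1 := hK.card_orb (by rw [hord])
    obtain ⟨o, ho⟩ := Fintype.card_eq_one_iff.1 ht
    have hsum : ∀ a : Semisimple.Orb F 3 → ℕ, ∑ d, a d = a c := fun a =>
      Fintype.sum_eq_single c fun d hd => absurd ((ho d).trans (ho c).symm) hd
    have h1 := full_of_fpf hK X hX3 hXfix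
    have h2 := full_of_fpf hK (e₀.conj f₀) hf'3 fun v hv => by
      obtain ⟨w, rfl⟩ := e₀.surjective v
      rw [LinearEquiv.conj_apply_apply, LinearEquiv.symm_apply_apply] at hv
      rw [hfix₀ w (e₀.injective hv), map_zero]
    rw [← h1, hsum, hsum, hord] at h2
    omega
  obtain ⟨E, hE, hEB⟩ := Semisimple.exists_isometric_conj (N := 3) (σ := RingHom.id F) (ε := (-1 : F)) _ _ _
    (Forms.sympB m F) B' X (e₀.conj f₀) rfl hherm hherm'
    ⟨fun u v => by
      rw [Forms.sympB_apply, Forms.sympB_apply, hX, hX]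
      exact (Forms.spEquiv m F x).2 u v, hX3, hK.unit⟩
    ⟨fun u v => by
      rw [hB', hB']
      simp only [LinearEquiv.conj_apply_apply, LinearEquiv.symm_apply_apply, hpres₀], hf'3, hK.unit⟩
    (fun _ v _ => Forms.sympB_isAlt m v) (fun _ v _ => halt _) hchar
  let T : (Fin m ⊕ Fin m → F) ≃ₗ[F] (Fin m → K) := E.trans e₀.symm
  have hT : ∀ v, T ((Forms.spEquiv m F x : _ ≃ₗ[F] _) v) = ζ • T v := fun v => by
    rw [← hX, LinearEquiv.trans_apply, hE, LinearEquiv.conj_apply_apply, LinearEquiv.symm_apply_apply]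
    rfl
  have hTB : ∀ u v, B₀ (T u) (T v) = sympForm m F u v := fun u v => by
    rw [← Forms.sympB_apply, ← hEB]
    rfl
  have hTsymm : ∀ w, T.symm (ζ • w) = (Forms.spEquiv m F x : _ ≃ₗ[F] _) (T.symm w) := fun w =>
    T.injective (by rw [T.apply_symm_apply, hT, T.apply_symm_apply])
  -- `1, ζ` span `K` over `F`
  have hspan : ∀ c : K, ∃ a b : F, a • (1 : K) + b • ζ = c := by
    intro c
    have hind : LinearIndependent F ![(1 : K), ζ] := by
      rw [LinearIndependent.pair_iff' one_ne_zero]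
      intro a ha
      have h1 : J ζ = ζ := by rw [← ha, map_smul, map_one]
      exact hθ0 (by rw [hθ, h1, sub_self])
    have htop : (⊤ : Submodule F K) = Submodule.span F (Set.range ![(1 : K), ζ]) :=
      (hind.span_eq_top_of_card_eq_finrank (by simp [hdeg])).symm
    have hc : c ∈ Submodule.span F (Set.range ![(1 : K), ζ]) := htop ▸ Submodule.mem_top
    rw [Submodule.mem_span_range_iff_exists_fun] at hc
    obtain ⟨w, hw⟩ := hc
    exact ⟨w 0, w 1, by rw [← hw, Fin.sum_univ_two]; rfl⟩
  let Φ : {g : Forms.isom F (sympForm m F) // g * Forms.spEquiv m F x = Forms.spEquiv m F x * g} ≃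
      Forms.isom K (hermForm m K q) :=
    { toFun := fun g =>
        let L : (Fin m → K) ≃ₗ[F] (Fin m → K) := T.symm.trans (g.1.1.trans T)
        have hcomm : ∀ w, L (ζ • w) = ζ • L w := fun w => by
          show T (g.1.1 (T.symm (ζ • w))) = ζ • T (g.1.1 (T.symm w))
          rw [hTsymm, ← hT]
          exact congrArg (fun z : Forms.isom F (sympForm m F) => T (z.1 (T.symm w))) g.2
        have hlin : ∀ (c : K) w, L (c • w) = c • L w := fun c w => by
          obtain ⟨a, b, rfl⟩ := hspan c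
          simp only [add_smul, smul_assoc, one_smul, map_add, map_smul, hcomm]
        ⟨{ L with map_smul' := hlin }, fun u v => by
          show hermForm m K q (L u) (L v) = hermForm m K q u v
          refine sub_eq_zero.1 ((mul_eq_zero.1 ?_).resolve_left hθ0)
          refine (traceForm_nondegenerate F K).1 _ fun c => ?_
          have hp : B₀ (L v) (L (c • u)) = B₀ v (c • u) := by
            show B₀ (T (g.1.1 (T.symm v))) (T (g.1.1 (T.symm (c • u)))) = _
            rw [hTB, g.1.2, ← hTB, T.apply_symm_apply, T.apply_symm_apply]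
          rw [hlin, hB₀, hB₀, map_smul, map_smul, smul_eq_mul, smul_eq_mul, Forms.hermB_apply,
            Forms.hermB_apply] at hp
          rw [Algebra.traceForm_apply, show θ * (hermForm m K q (L u) (L v) - hermForm m K q u v) * c =
            θ * (c * hermForm m K q (L u) (L v)) - θ * (c * hermForm m K q u v) by ring, map_sub, hp, sub_self]⟩
      invFun := fun M => ⟨⟨T.trans ((M.1.restrictScalars F).trans T.symm), fun u v => by
          rw [← hTB, ← hTB]
          simp only [LinearEquiv.trans_apply, LinearEquiv.apply_symm_apply, LinearEquiv.restrictScalars_apply, hB₀,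
            Forms.hermB_apply]
          show Algebra.trace F K (θ * hermForm m K q (M.1 (T v)) (M.1 (T u))) = _
          rw [M.2]
          rfl⟩, Subtype.ext (LinearEquiv.ext fun v => by
          show T.symm (M.1 (T ((Forms.spEquiv m F x : _ ≃ₗ[F] _) v))) =
            (Forms.spEquiv m F x : _ ≃ₗ[F] _) (T.symm (M.1 (T v)))
          rw [hT, map_smul, hTsymm])⟩
      left_inv := fun g => Subtype.ext (Subtype.ext (LinearEquiv.ext fun v => by
        show T.symm (T (g.1.1 (T.symm (T v)))) = g.1.1 v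
        rw [T.symm_apply_apply, T.symm_apply_apply]))
      right_inv := fun M => Subtype.ext (LinearEquiv.ext fun w => by
        show T (T.symm (M.1 (T (T.symm w)))) = M.1 w
        rw [T.apply_symm_apply, T.apply_symm_apply]) }
  have hcent : Nat.card ↥(Subgroup.centralizer ({x} : Set ↥(Matrix.symplecticGroup (Fin m) F))) =
      Nat.card (GU m K q) := by
    rw [Nat.card_congr (Forms.guEquiv m K q).toEquiv, ← Nat.card_congr Φ]
    refine Nat.card_congr ((Forms.spEquiv m F).toEquiv.subtypeEquiv fun g => ?_)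
    rw [Subgroup.mem_centralizer_singleton_iff, MulEquiv.toEquiv_eq_coe, EquivLike.coe_coe, ← map_mul, ← map_mul,
      (Forms.spEquiv m F).injective.eq_iff]
  rw [hcent, Forms.card_GU hcK, Nat.cast_mul, Nat.cast_pow, Nat.cast_prod, Finset.prod_range]
  congr 1
  refine Finset.prod_congr rfl fun j _ => ?_
  split_ifs with hev
  · rw [(Even.add_one hev).neg_one_pow]
    push_cast
    ring
  · rw [(Nat.not_even_iff_odd.1 hev).add_one.neg_one_pow,
      Nat.cast_sub (Nat.one_le_pow _ _ Fintype.card_pos)]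
    push_cast
    ring

end Cfsg.Agent.S2637
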