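import Cfsg.Statements.S2638
-- import your own Cfsg.Agent.* helpers here

set_option autoImplicit false
open Cfsg
open scoped Matrix

namespace Cfsg.Agent.S2638

/-- If an element x of GL_n(q), n ≥ 1, has prime order r and the multiplicative order of q modulo r is n (r is a primitive prime divisor of q^n − 1, so x acts irreducibly), then the centraliser of x in GL_n(q) is cyclic of order q^n − 1 (the multiplicative group of the field with q^n elements, a Singer cycle). -/
theorem result {F : Type*} [Field F] [Fintype F] {p q : ℕ} [Fact p.Prime] [CharP F p] (hF : Fintype.card F = q) {n r : ℕ} (hn : 1 ≤ n) (hr : r.Prime) (hrp : r ≠ p) (hi : orderOf (q : ZMod r) = n) (x : GL (Fin n) F) (hx : orderOf x = r) : IsCyclic ↥(Subgroup.centralizer ({x} : Set (GL (Fin n) F))) ∧ Nat.card ↥(Subgroup.centralizer ({x} : Set (GL (Fin n) F))) = q ^ n - 1 := by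
  classical
  have : Fact r.Prime := ⟨hr⟩
  set M : Matrix (Fin n) (Fin n) F := (x : Matrix (Fin n) (Fin n) F) with hM
  have hxr : M ^ r = 1 := by rw [hM, ← Units.val_pow_eq_pow_val, ← hx, pow_orderOf_eq_one, Units.val_one]
  have hM1 : M ≠ 1 := fun h => hr.ne_one (by rw [← hx, orderOf_eq_one_iff]; exact Units.ext h)
  have hrF : (r : F) ≠ 0 := by
    rw [Ne, CharP.cast_eq_zero_iff F p]
    exact fun h => hrp ((Nat.prime_dvd_prime_iff_eq Fact.out hr).1 h).symm
  have hdvd : minpoly F M ∣ Polynomial.X ^ r - 1 := minpoly.dvd F M (by simp [hxr])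
  have hsep : (Polynomial.X ^ r - 1 : Polynomial F).Separable := by
    rw [Polynomial.X_pow_sub_one_separable_iff]; exact hrF
  have hMi : IsIntegral F M := Matrix.isIntegral M
  have : Nonempty (Fin n) := ⟨⟨0, hn⟩⟩
  -- an irreducible factor other than `X - 1`
  obtain ⟨h, hh, hhdvd, hh1⟩ : ∃ h : Polynomial F, Irreducible h ∧ h ∣ minpoly F M ∧
      ¬ h ∣ Polynomial.X - Polynomial.C 1 := by
    by_contra! hno
    apply hM1
    obtain ⟨h, hh, hhdvd⟩ := WfDvdMonoid.exists_irreducible_factor (minpoly.not_isUnit F M) (minpoly.ne_zero hMi)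
    obtain ⟨c, hc⟩ := hhdvd
    have hsq : Squarefree (minpoly F M) := (hsep.of_dvd hdvd).squarefree
    have hX : Associated h (Polynomial.X - Polynomial.C 1) :=
      hh.associated_of_dvd (Polynomial.irreducible_X_sub_C 1) (hno h hh ⟨c, hc⟩)
    have hcu : IsUnit c := by
      by_contra hcu
      obtain ⟨h', hh', hh'dvd⟩ := WfDvdMonoid.exists_irreducible_factor hcu (fun h0 => minpoly.ne_zero hMi (by rw [hc, h0, mul_zero]))
      have hX' : Associated h' (Polynomial.X - Polynomial.C 1) :=
        hh'.associated_of_dvd (Polynomial.irreducible_X_sub_C 1) (hno h' hh' (hh'dvd.trans (Dvd.intro_left _ hc.symm)))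
      refine (Polynomial.irreducible_X_sub_C (1 : F)).not_isUnit (hsq _ ?_)
      rw [hc]
      exact mul_dvd_mul hX.symm.dvd (hX'.symm.dvd.trans hh'dvd)
    have hdiv : minpoly F M ∣ Polynomial.X - Polynomial.C 1 := by
      rw [hc]
      exact hcu.mul_right_dvd.2 hX.dvd
    have := Polynomial.aeval_eq_zero_of_dvd_aeval_eq_zero hdiv (minpoly.aeval F M)
    simpa [sub_eq_zero] using this
  have hdeg : n ≤ h.natDegree := by
    have : Fact (Irreducible h) := ⟨hh⟩
    set α := AdjoinRoot.root h
    have hαr : α ^ r = 1 := by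
      obtain ⟨c, hc⟩ := hhdvd.trans hdvd
      have := congrArg (AdjoinRoot.mk h) hc
      rw [map_mul, AdjoinRoot.mk_self, zero_mul, map_sub, map_pow, AdjoinRoot.mk_X, map_one, sub_eq_zero] at this
      exact this
    have hα1 : α ≠ 1 := fun h1 => hh1 (AdjoinRoot.mk_eq_zero.1 (by
      rw [map_sub, AdjoinRoot.mk_X, map_one, map_one, sub_eq_zero]; exact h1))
    let pb := AdjoinRoot.powerBasis hh.ne_zero
    have : Module.Finite F (AdjoinRoot h) := pb.finite
    have : Finite (AdjoinRoot h) := Module.finite_of_finite F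
    let _ : Fintype (AdjoinRoot h) := Fintype.ofFinite _
    have hcard : Fintype.card (AdjoinRoot h) = q ^ h.natDegree := by
      rw [Module.card_eq_pow_finrank (K := F), hF, pb.finrank, AdjoinRoot.powerBasis_dim]
    have hord : orderOf α = r := orderOf_eq_prime hαr hα1
    have hα0 : α ≠ 0 := fun h0 => by simp [h0, zero_pow hr.ne_zero] at hαr
    have hdvd' : r ∣ q ^ h.natDegree - 1 := by
      rw [← hord, ← hcard]
      exact orderOf_dvd_of_pow_eq_one (FiniteField.pow_card_sub_one_eq_one α hα0)
    have hq : ((q : ZMod r)) ^ h.natDegree = 1 := by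
      have hle : 1 ≤ q ^ h.natDegree := Nat.one_le_pow _ _ (hF ▸ Fintype.card_pos)
      have h0 := (ZMod.natCast_eq_zero_iff _ _).2 hdvd'
      rwa [Nat.cast_sub hle, Nat.cast_one, Nat.cast_pow, sub_eq_zero] at h0
    rw [← hi]
    exact Nat.le_of_dvd hh.natDegree_pos (orderOf_dvd_of_pow_eq_one hq)
  have hple : (minpoly F M).natDegree ≤ n := by
    have := Polynomial.natDegree_le_of_dvd (Matrix.minpoly_dvd_charpoly M) M.charpoly_monic.ne_zero
    rwa [Matrix.charpoly_natDegree_eq_dim, Fintype.card_fin] at this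
  have hassoc : Associated h (minpoly F M) :=
    Polynomial.associated_of_dvd_of_natDegree_le hhdvd (minpoly.ne_zero hMi) (hple.trans hdeg)
  have hirr : Irreducible (minpoly F M) := hassoc.irreducible hh
  have hpn : (minpoly F M).natDegree = n :=
    le_antisymm hple (hdeg.trans (Polynomial.natDegree_le_of_dvd hhdvd (minpoly.ne_zero hMi)))
  have : Fact (Irreducible (minpoly F M)) := ⟨hirr⟩
  let K := AdjoinRoot (minpoly F M)
  let φr : K →+* Matrix (Fin n) (Fin n) F :=
    Ideal.Quotient.lift (Ideal.span {minpoly F M}) (Polynomial.aeval M).toRingHom (fun a ha => by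
      obtain ⟨c, rfl⟩ := Ideal.mem_span_singleton.1 ha
      show Polynomial.aeval M (minpoly F M * c) = 0
      rw [map_mul, minpoly.aeval, zero_mul])
  let φ : K →ₐ[F] Matrix (Fin n) (Fin n) F :=
    { φr with commutes' := fun a => (Polynomial.aeval_C M a) }
  have hφinj : Function.Injective φ := φ.toRingHom.injective
  have hφM : φ (AdjoinRoot.root _) = M := Polynomial.aeval_X M
  let pb := AdjoinRoot.powerBasis hirr.ne_zero
  have hKfin : Module.finrank F K = n := by rw [pb.finrank, AdjoinRoot.powerBasis_dim, hpn]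
  have : Module.Finite F K := pb.finite
  have : Finite K := Module.finite_of_finite F
  let v₀ : Fin n → F := Pi.single ⟨0, hn⟩ 1
  let L : K →ₗ[F] (Fin n → F) :=
    { toFun := fun k => φ k *ᵥ v₀
      map_add' := fun a b => by rw [map_add, Matrix.add_mulVec]
      map_smul' := fun c a => by rw [map_smul, Matrix.smul_mulVec, RingHom.id_apply] }
  have hLinj : Function.Injective L := by
    rw [injective_iff_map_eq_zero]
    intro k hk
    by_contra hk0
    have : v₀ = 0 := by
      have h' := congrArg (fun w => φ k⁻¹ *ᵥ w) hk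
      simpa [L, Matrix.mulVec_mulVec, ← map_mul, inv_mul_cancel₀ hk0] using h'
    simpa [v₀] using congrFun this ⟨0, hn⟩
  have hLsurj : Function.Surjective L :=
    (LinearMap.injective_iff_surjective_of_finrank_eq_finrank (by rw [hKfin, Module.finrank_fin_fun])).1 hLinj
  let ψ : Kˣ →* GL (Fin n) F := Units.map φ.toMonoidHom
  have hψinj : Function.Injective ψ := Units.map_injective hφinj
  have hrange : ψ.range = Subgroup.centralizer ({x} : Set (GL (Fin n) F)) := by
    ext g
    rw [Subgroup.mem_centralizer_singleton_iff]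
    constructor
    · rintro ⟨k, rfl⟩
      refine Units.ext ?_
      show φ k * M = M * φ k
      refine ((congrArg (φ k * ·) hφM.symm).trans ?_).trans (congrArg (· * φ k) hφM)
      rw [← map_mul, ← map_mul, mul_comm]
    · intro hg
      obtain ⟨k, hk⟩ := hLsurj ((g : Matrix (Fin n) (Fin n) F) *ᵥ v₀)
      have hcomm : ∀ k' : K, (g : Matrix (Fin n) (Fin n) F) * φ k' = φ k' * g := by
        intro k'
        obtain ⟨f, rfl⟩ := AdjoinRoot.mk_surjective k'
        induction f using Polynomial.induction_on' with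
        | add a b ha hb => rw [map_add, map_add, mul_add, add_mul, ha, hb]
        | monomial i a =>
          rw [← Polynomial.C_mul_X_pow_eq_monomial, map_mul, map_pow, AdjoinRoot.mk_X, AdjoinRoot.mk_C,
            ← AdjoinRoot.algebraMap_eq, map_mul, map_pow, hφM, AlgHom.commutes, ← mul_assoc,
            ← Algebra.commutes, mul_assoc, (Commute.pow_right (show Commute (g : Matrix (Fin n) (Fin n) F) M from congrArg Units.val hg) i).eq, ← mul_assoc]
      have hgk : (g : Matrix (Fin n) (Fin n) F) = φ k := Matrix.ext_iff_mulVec.2 fun w => by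
        obtain ⟨k', rfl⟩ := hLsurj w
        show (g : Matrix (Fin n) (Fin n) F) *ᵥ (φ k' *ᵥ v₀) = φ k *ᵥ (φ k' *ᵥ v₀)
        rw [Matrix.mulVec_mulVec, hcomm, ← Matrix.mulVec_mulVec, ← hk]
        show φ k' *ᵥ (φ k *ᵥ v₀) = _
        rw [Matrix.mulVec_mulVec, Matrix.mulVec_mulVec, ← map_mul, ← map_mul, mul_comm]
      have hk0 : k ≠ 0 := fun h0 => g.ne_zero (by rw [hgk, h0, map_zero])
      exact ⟨Units.mk0 k hk0, Units.ext hgk.symm⟩
  let e : Kˣ ≃* ↥(Subgroup.centralizer ({x} : Set (GL (Fin n) F))) :=
    (MonoidHom.ofInjective hψinj).trans (MulEquiv.subgroupCongr hrange)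
  refine ⟨isCyclic_of_surjective e e.surjective, ?_⟩
  rw [← Nat.card_congr e.toEquiv, Nat.card_units, Module.natCard_eq_pow_finrank (K := F), hKfin,
    Nat.card_eq_fintype_card, hF]

end Cfsg.Agent.S2638
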