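import Cfsg.Statements.S2642
import Cfsg.Agent.S2317
import Cfsg.Agent.Lib.Semisimple.UnitaryUnipotent

set_option autoImplicit false
open Cfsg

namespace Cfsg.Agent.S2642

open LinRep.JordanType UnipClasses

/-- The all-ones partition. -/
def ones (n : ℕ) : Nat.Partition n :=
  ⟨Multiset.replicate n 1, fun h => by rw [Multiset.eq_of_mem_replicate h]; exact one_pos, by simp⟩

theorem eq_ones_iff {n : ℕ} (μ : Nat.Partition n) : μ = ones n ↔ ∀ a ∈ μ.parts, a ≤ 1 := by
  constructor
  · rintro rfl a ha; exact (Multiset.eq_of_mem_replicate ha).le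
  · intro h
    have h1 : μ.parts = Multiset.replicate μ.parts.card 1 :=
      Multiset.eq_replicate_card.2 fun a ha => le_antisymm (h a ha) (μ.parts_pos ha)
    have h2 : μ.parts.card = n := by
      conv_rhs => rw [← μ.parts_sum, h1]
      simp
    exact Nat.Partition.ext (by rw [h1, h2]; rfl)

theorem pow_eq_zero_iff_parts {K : Type*} [Field K] {n : ℕ} {N : Module.End K (Fin n → K)} {μ : Multiset ℕ}
    (h : HasType N μ) (j : ℕ) : N ^ j = 0 ↔ ∀ a ∈ μ, a ≤ j := by
  have hs : (μ.map (· - j)).sum = 0 ↔ ∀ a ∈ μ, a ≤ j := by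
    rw [Multiset.sum_eq_zero_iff]
    constructor
    · intro hh a ha
      have := hh _ (Multiset.mem_map_of_mem _ ha)
      omega
    · intro hh x hx
      obtain ⟨a, ha, rfl⟩ := Multiset.mem_map.1 hx
      have := hh a ha
      omega
  rw [← hs, ← h j, UnipForms.rankDim_eq_range, Submodule.finrank_eq_zero, LinearMap.range_eq_bot]

/-- Number of conjugacy classes of elements of order p in the general unitary group GU_n(q), q a power of p: every unipotent Jordan type occurs and the classes correspond to the partitions of n with all parts at most p other than the all-ones partition, exactly as in GL_n; so there are (number of partitions of n with parts ≤ p) − 1 classes. -/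
theorem result {K : Type*} [Field K] [Fintype K] {p q n : ℕ} [Fact p.Prime] [CharP K p] (hK : Fintype.card K = q ^ 2) : Nat.card {C : ConjClasses ↥(Cfsg.GU n K q) // ∃ g : ↥(Cfsg.GU n K q), ConjClasses.mk g = C ∧ orderOf g = p} = (Finset.univ.filter (fun μ : Nat.Partition n => ∀ a ∈ μ.parts, a ≤ p)).card - 1 := by
  classical
  have hp : p.Prime := Fact.out
  have hpow : ∀ g : GL (Fin n) K, ((g : Matrix (Fin n) (Fin n) K) - 1) ^ p = (g : Matrix (Fin n) (Fin n) K) ^ p - 1 := by
    intro g
    have h := congrArg (Polynomial.aeval (g : Matrix (Fin n) (Fin n) K))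
      (sub_pow_char_pow (Polynomial.X : Polynomial K) 1 (n := 1) (p := p))
    simpa using h
  -- orders and types
  have hord : ∀ (g : GL (Fin n) K) (μ : Nat.Partition n), HasType (S2317.nilPart g) μ.parts →
      (orderOf g = p ↔ (∀ a ∈ μ.parts, a ≤ p) ∧ μ ≠ ones n) := by
    intro g μ hμ
    rw [orderOf_eq_prime_iff, ne_eq μ (ones n), eq_ones_iff, ← pow_eq_zero_iff_parts hμ, ← pow_eq_zero_iff_parts hμ, pow_one,
      Units.ext_iff, Units.val_pow_eq_pow_val, Units.val_one, ← sub_eq_zero, ← hpow, S2317.nilPart, ← map_pow,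
      map_eq_zero_iff _ Matrix.toLinAlgEquiv'.injective, map_eq_zero_iff _ Matrix.toLinAlgEquiv'.injective,
      sub_eq_zero (a := (g : Matrix (Fin n) (Fin n) K)), Units.val_eq_one]
  -- realisations
  have hreal : ∀ μ : Nat.Partition n, ∃ g : GU n K q, IsNilpotent (S2317.nilPart (g : GL (Fin n) K)) ∧
      HasType (S2317.nilPart (g : GL (Fin n) K)) μ.parts := by
    intro μ
    obtain ⟨A, hA, hAn, hAt⟩ := UnitaryConj.exists_unitary_type hK μ.parts (fun a ha => μ.parts_pos ha) n μ.parts_sum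
    have hu : IsUnit A := IsUnit.of_mul_eq_one_right _ ((UnitaryConj.adj_mul_self_eq_one_iff hK A).2 hA)
    exact ⟨⟨hu.unit, hA⟩, hAn, hAt⟩
  choose g hgn hgt using hreal
  let T : Finset (Nat.Partition n) :=
    (Finset.univ.filter (fun μ : Nat.Partition n => ∀ a ∈ μ.parts, a ≤ p)).erase (ones n)
  have hT : ∀ μ, μ ∈ T ↔ (∀ a ∈ μ.parts, a ≤ p) ∧ μ ≠ ones n := fun μ => by
    simp [T, and_comm]
  have hcard : T.card = (Finset.univ.filter (fun μ : Nat.Partition n => ∀ a ∈ μ.parts, a ≤ p)).card - 1 := by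
    refine Finset.card_erase_of_mem ?_
    simp only [Finset.mem_filter, Finset.mem_univ, true_and]
    exact fun a ha => (Multiset.eq_of_mem_replicate ha).le.trans hp.one_lt.le
  rw [← hcard, ← Nat.card_eq_finsetCard]
  refine (Nat.card_eq_of_bijective (fun μ : T => (⟨ConjClasses.mk (g μ.1), g μ.1, rfl,
    (Subgroup.orderOf_coe (g μ.1)).symm.trans ((hord _ _ (hgt μ.1)).2 ((hT μ.1).1 μ.2))⟩ :
      {C : ConjClasses ↥(Cfsg.GU n K q) //
        ∃ g : ↥(Cfsg.GU n K q), ConjClasses.mk g = C ∧ orderOf g = p})) ⟨?_, ?_⟩).symm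
  · intro μ ν h
    have hc := ConjClasses.mk_eq_mk_iff_isConj.1 (congrArg Subtype.val h)
    obtain ⟨L, hL⟩ := (S2317.isConj_iff_similar _ _).1 ((GU n K q).subtype.map_isConj hc)
    refine Subtype.ext (Nat.Partition.ext (Multiset.ext.2 fun e => ?_))
    rcases eq_or_ne e 0 with rfl | he
    · rw [Multiset.count_eq_zero_of_notMem fun h0 => (μ.1.parts_pos h0).false,
        Multiset.count_eq_zero_of_notMem fun h0 => (ν.1.parts_pos h0).false]
    · exact UnipClasses.count_eq_of_hasType (hgt μ.1) (hgt ν.1) (UnipClasses.rankDim_conj L hL) he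
  · rintro ⟨C, u, rfl, hu⟩
    rw [← Subgroup.orderOf_coe] at hu
    have hnil := (S2317.isNilpotent_iff p (u : GL (Fin n) K)).1 ⟨1, by rw [hu, pow_one]⟩
    obtain ⟨μ, hμ⟩ := S2317.exists_type hnil
    refine ⟨⟨μ, (hT μ).2 ((hord _ _ hμ).1 hu)⟩, Subtype.ext (ConjClasses.mk_eq_mk_iff_isConj.2
      (UnitaryConj.isConj_of_isConj_GL hK ((S2317.isConj_iff_similar _ _).2
        (UnipClasses.similar_of_rankDim (hgn μ) hnil fun j => (hgt μ j).trans (hμ j).symm))))⟩

end Cfsg.Agent.S2642
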