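import Cfsg.Statements.S2643
import Cfsg.Agent.Lib.GL.Basic
import Cfsg.Agent.Lib.RegNilp.Matrix
import Cfsg.Agent.Lib.Semisimple.UnitaryUnipotent

set_option autoImplicit false
open Cfsg

namespace Cfsg.Agent.S2643

open scoped Matrix
open UnitaryConj

variable {K : Type*} [Field K] [Fintype K] {q k : ℕ} (hK : Fintype.card K = q ^ 2)

/-- A regular unipotent matrix. -/
def IsReg (u : Matrix (Fin (k + 1)) (Fin (k + 1)) K) : Prop :=
  (u - 1) ^ (k + 1) = 0 ∧ (u - 1).rank = k + 1 - 1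

theorem det_eq_one {u : Matrix (Fin (k + 1)) (Fin (k + 1)) K} (hu : IsReg u) : u.det = 1 := by
  have hnil : IsNilpotent (Matrix.toLinAlgEquiv' (u - 1)) := ⟨k + 1, by rw [← map_pow, hu.1, map_zero]⟩
  have h := RegNilp.det_algebraMap_add hnil 1
  rw [map_one, one_pow, ← map_one Matrix.toLinAlgEquiv', ← map_add, add_sub_cancel] at h
  rwa [← LinearMap.det_toLin']

theorem isReg_conj {u : Matrix (Fin (k + 1)) (Fin (k + 1)) K} (hu : IsReg u) (g : GL (Fin (k + 1)) K) :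
    IsReg ((g : Matrix (Fin (k + 1)) (Fin (k + 1)) K) * u * ((g⁻¹ : GL (Fin (k + 1)) K) : Matrix (Fin (k + 1)) (Fin (k + 1)) K)) := by
  have h : (g : Matrix (Fin (k + 1)) (Fin (k + 1)) K) * u * ((g⁻¹ : GL (Fin (k + 1)) K) : Matrix (Fin (k + 1)) (Fin (k + 1)) K) - 1 =
      (g : Matrix (Fin (k + 1)) (Fin (k + 1)) K) * (u - 1) * ((g⁻¹ : GL (Fin (k + 1)) K) : Matrix (Fin (k + 1)) (Fin (k + 1)) K) := by
    rw [mul_sub, sub_mul, mul_one, Units.mul_inv]
  refine ⟨?_, ?_⟩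
  · rw [h, Units.conj_pow, hu.1, mul_zero, zero_mul]
  · rw [h, Matrix.rank_mul_eq_left_of_isUnit_det _ _ (Matrix.isUnits_det_units _),
      Matrix.rank_mul_eq_right_of_isUnit_det _ _ (Matrix.isUnits_det_units _), hu.2]

include hK in
theorem exists_regular : ∃ u : GU (k + 1) K q, IsReg ((u : GL (Fin (k + 1)) K) : Matrix (Fin (k + 1)) (Fin (k + 1)) K) := by
  obtain ⟨A, hA, hAn, hAt⟩ := exists_unitary_block hK (Nat.succ_pos k)
  have hu : IsUnit A := IsUnit.of_mul_eq_one_right _ ((adj_mul_self_eq_one_iff hK A).2 hA)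
  refine ⟨⟨hu.unit, hA⟩, ?_, ?_⟩
  · have h := hAt (k + 1)
    simp only [Multiset.map_singleton, Nat.sub_self, Multiset.sum_singleton, UnipForms.rankDim_eq_range,
      Submodule.finrank_eq_zero, LinearMap.range_eq_bot, ← map_pow] at h
    exact (map_eq_zero_iff _ Matrix.toLinAlgEquiv'.injective).1 h
  · have h := hAt 1
    simp only [Multiset.map_singleton, Multiset.sum_singleton, UnipForms.rankDim_eq_range, pow_one] at h
    exact h

include hK in
theorem isConj_regular {g h : GU (k + 1) K q} (hg : IsReg ((g : GL (Fin (k + 1)) K) : Matrix (Fin (k + 1)) (Fin (k + 1)) K))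
    (hh : IsReg ((h : GL (Fin (k + 1)) K) : Matrix (Fin (k + 1)) (Fin (k + 1)) K)) : IsConj g h := by
  refine isConj_of_isConj_GL hK ?_
  obtain ⟨c, hc⟩ := RegNilp.exists_conj (Fintype.card_fin (k + 1)).symm (by omega) hg.1 hg.2 hh.1 hh.2
  rw [mul_sub, sub_mul, mul_one, one_mul, sub_left_inj] at hc
  exact isConj_iff.2 ⟨c, mul_inv_eq_iff_eq_mul.2 (Units.ext hc)⟩

include hK in
theorem diag_mem {c : Kˣ} (hc : c ^ (q + 1) = 1) (v : Fin (k + 1) → Kˣ) (hv : ∀ i, v i = 1 ∨ v i = c) :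
    GL.diagHom v ∈ GU (k + 1) K q := by
  intro x y
  simp only [hermForm, Units.coeHom_apply]
  refine Finset.sum_congr rfl fun i _ => ?_
  have hvi : (v i : K) * (v i : K) ^ q = 1 := by
    rw [← pow_succ']
    rcases hv i with h | h
    · simp [h]
    · rw [h, ← Units.val_pow_eq_pow_val, hc, Units.val_one]
  show (Matrix.diagonal (fun i => (v i : K)) *ᵥ x) i * ((Matrix.diagonal (fun i => (v i : K)) *ᵥ y) i) ^ q = _
  rw [Matrix.mulVec_diagonal, Matrix.mulVec_diagonal, mul_pow, mul_mul_mul_comm, hvi, one_mul]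

include hK in
theorem det_pow_eq_one (g : GU (k + 1) K q) : (Matrix.GeneralLinearGroup.det (g : GL (Fin (k + 1)) K)) ^ (q + 1) = 1 := by
  have h := congrArg Matrix.det ((mem_GU_iff hK _).1 g.2)
  rw [Matrix.det_mul, Matrix.det_one, adj, Matrix.det_transpose, ← RingHom.mapMatrix_apply, ← RingHom.map_det, Forms.qEnd_apply, ← pow_succ] at h
  exact Units.ext h

include hK in
theorem det_of_commute {u g : GU (k + 1) K q} (hu : IsReg ((u : GL (Fin (k + 1)) K) : Matrix (Fin (k + 1)) (Fin (k + 1)) K))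
    (hc : Commute g u) :
    ∃ c : Kˣ, c ^ (q + 1) = 1 ∧ c ^ (k + 1) = Matrix.GeneralLinearGroup.det (g : GL (Fin (k + 1)) K) := by
  classical
  set U := ((u : GL (Fin (k + 1)) K) : Matrix (Fin (k + 1)) (Fin (k + 1)) K)
  set G := ((g : GL (Fin (k + 1)) K) : Matrix (Fin (k + 1)) (Fin (k + 1)) K) with hG
  have hn : k + 1 = Fintype.card (Fin (k + 1)) := (Fintype.card_fin _).symm
  have hd : Module.finrank K (Fin (k + 1) → K) = k + 1 := by simp
  have h0 := RegNilp.toLin_pow_eq_zero hn hu.1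
  obtain ⟨v, hv⟩ := RegNilp.exists_cyclic h0 (RegNilp.finrank_range_toLin hn hu.2) (by omega)
  have hcG : Commute G (U - 1) := RegNilp.commute_sub_one_iff.2 (congrArg (fun x : GU (k + 1) K q => ((x : GL (Fin (k + 1)) K) : Matrix (Fin (k + 1)) (Fin (k + 1)) K)) hc.eq)
  obtain ⟨P, hP⟩ := RegNilp.eq_aeval_of_commute (by omega) ⟨_, h0⟩ hv (hcG.map Matrix.toLinAlgEquiv')
  have h := RegNilp.det_aeval ⟨_, h0⟩ P
  rw [← hP, hd] at h
  have hdet : G.det = P.eval 0 ^ (k + 1) := by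
    rw [← h, ← LinearMap.det_toLin']
    rfl
  set c₀ := P.eval 0
  -- `g - c₀` is nilpotent, so a power of `g` is scalar
  have hG' : G = Polynomial.aeval (U - 1) P := by
    apply Matrix.toLinAlgEquiv'.injective
    rw [← AlgEquiv.coe_algHom, ← Polynomial.aeval_algHom_apply]
    exact hP
  have hnil : IsNilpotent (G - algebraMap K _ c₀) := by
    obtain ⟨Q, hQ⟩ : (Polynomial.X : Polynomial K) ∣ P - Polynomial.C c₀ := by
      rw [Polynomial.X_dvd_iff, Polynomial.coeff_sub, Polynomial.coeff_C_zero, Polynomial.coeff_zero_eq_eval_zero,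
        sub_self]
    have he : G - algebraMap K _ c₀ = (U - 1) * Polynomial.aeval (U - 1) Q := by
      rw [hG', ← Polynomial.aeval_C (R := K) (U - 1) c₀, ← map_sub, hQ, map_mul, Polynomial.aeval_X]
    rw [he]
    have hcm := (Commute.all (Polynomial.X : Polynomial K) Q).map (Polynomial.aeval (U - 1))
    rw [Polynomial.aeval_X] at hcm
    exact hcm.isNilpotent_mul_right ⟨k + 1, hu.1⟩
  obtain ⟨p, _⟩ := CharP.exists K
  haveI : Fact p.Prime := ⟨CharP.char_is_prime K p⟩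
  obtain ⟨j, hj⟩ := hnil
  have hjp : (G - algebraMap K _ c₀) ^ p ^ j = 0 :=
    pow_eq_zero_of_le (Nat.lt_pow_self (Fact.out : p.Prime).one_lt).le hj
  rw [sub_pow_char_pow_of_commute (p := p) (h := (Algebra.commutes c₀ G).symm), ← map_pow, sub_eq_zero] at hjp
  have hpow : adj hK (G ^ p ^ j) * G ^ p ^ j = 1 := by
    have h := (mem_GU_iff hK _).1 ((g ^ p ^ j : GU (k + 1) K q)).2
    simpa [hG] using h
  rw [hjp, Algebra.algebraMap_eq_smul_one, adj_smul, adj_one, smul_mul_assoc, one_mul, smul_smul,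
    Forms.qEnd_apply, ← pow_succ, ← pow_mul] at hpow
  have hcq : c₀ ^ (q + 1) = 1 := by
    have := congrFun (congrFun hpow 0) 0
    simp at this
    exact this
  have hne : c₀ ≠ 0 := fun h => by rw [h, zero_pow (Nat.succ_ne_zero q)] at hcq; exact zero_ne_one hcq
  exact ⟨Units.mk0 c₀ hne, Units.ext hcq, Units.ext hdet.symm⟩

/-- Regular unipotent classes of SU_n(q), n ≥ 2: the elements u of the special unitary group (isometries of Σ u_i v_i^q of determinant one over the field with q² elements) with (u − 1)^n = 0 and rank(u − 1) = n − 1 form exactly gcd(n, q + 1) conjugacy classes of SU_n(q). -/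
theorem result {K : Type*} [Field K] [Fintype K] {q n : ℕ} (hK : Fintype.card K = q ^ 2) (hn : 2 ≤ n) : Nat.card {C : ConjClasses ↥(Cfsg.SU n K q) // ∃ u : ↥(Cfsg.SU n K q), ConjClasses.mk u = C ∧ (((u : GL (Fin n) K) : Matrix (Fin n) (Fin n) K) - 1) ^ n = 0 ∧ (((u : GL (Fin n) K) : Matrix (Fin n) (Fin n) K) - 1).rank = n - 1} = Nat.gcd n (q + 1) := by
  classical
  obtain ⟨k, rfl⟩ : ∃ k, n = k + 1 := ⟨n - 1, by omega⟩
  obtain ⟨u₀, hu₀⟩ := exists_regular (k := k) hK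
  -- the group of norm-one scalars
  let W : Subgroup Kˣ := (powMonoidHom (α := Kˣ) (q + 1)).ker
  have hW : Nat.card W = q + 1 := Forms.card_norm_kernel hK
  let H : Subgroup W := (powMonoidHom (k + 1)).range
  let dv : Kˣ → Fin (k + 1) → Kˣ := fun c => Pi.mulSingle 0 c
  have hdv : ∀ c i, dv c i = 1 ∨ dv c i = c := fun c i => by
    by_cases hi : i = 0 <;> simp [dv, hi]
  let D : W → GU (k + 1) K q := fun c => ⟨GL.diagHom (dv c), diag_mem hK c.2 _ (hdv c)⟩
  let dt : GU (k + 1) K q →* Kˣ := Matrix.GeneralLinearGroup.det.comp (GU (k + 1) K q).subtype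
  have hD : ∀ c, dt (D c) = c := fun c => by
    show Matrix.GeneralLinearGroup.det (GL.diagHom (dv c)) = c
    rw [GL.det_diagHom, Finset.prod_pi_mulSingle', if_pos (Finset.mem_univ _)]
  let SUu : GU (k + 1) K q → Prop := fun g => dt g = 1
  let toSU : ∀ g : GU (k + 1) K q, SUu g → SU (k + 1) K q := fun g hg =>
    ⟨⟨((g : GL (Fin (k + 1)) K) : Matrix (Fin (k + 1)) (Fin (k + 1)) K), congrArg Units.val hg⟩, g.2⟩
  let ofSU : SU (k + 1) K q → GU (k + 1) K q := fun s =>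
    ⟨Matrix.SpecialLinearGroup.toGL s.1, s.2⟩
  have hofSU : ∀ s, SUu (ofSU s) := fun s => Units.ext s.1.2
  have hconj : ∀ g h (hg : SUu g) (hh : SUu h), IsConj (toSU g hg) (toSU h hh) ↔
      ∃ s : GU (k + 1) K q, SUu s ∧ s * g = h * s := by
    intro g h hg hh
    rw [isConj_iff]
    constructor
    · rintro ⟨s, hs⟩
      have h2 := congrArg (fun x : SU (k + 1) K q => x.1.1) (mul_inv_eq_iff_eq_mul.1 hs)
      exact ⟨ofSU s, hofSU s, Subtype.ext (Units.ext h2)⟩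
    · rintro ⟨s, hs, hsg⟩
      exact ⟨toSU s hs, mul_inv_eq_iff_eq_mul.2 (Subtype.ext (Subtype.ext (congrArg
        (fun x : GU (k + 1) K q => ((x : GL (Fin (k + 1)) K) : Matrix (Fin (k + 1)) (Fin (k + 1)) K)) hsg)))⟩
  have htwist : ∀ c, SUu (D c * u₀ * (D c)⁻¹) := fun c => by
    show dt (D c * u₀ * (D c)⁻¹) = 1
    rw [map_mul, map_mul, map_inv, mul_inv_cancel_comm]
    exact Units.ext (det_eq_one hu₀)
  let C := {C : ConjClasses ↥(Cfsg.SU (k + 1) K q) // ∃ u : ↥(Cfsg.SU (k + 1) K q), ConjClasses.mk u = C ∧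
    (((u : GL (Fin (k + 1)) K) : Matrix (Fin (k + 1)) (Fin (k + 1)) K) - 1) ^ (k + 1) = 0 ∧
    (((u : GL (Fin (k + 1)) K) : Matrix (Fin (k + 1)) (Fin (k + 1)) K) - 1).rank = k + 1 - 1}
  let f : W → C := fun c => ⟨ConjClasses.mk (toSU _ (htwist c)), toSU _ (htwist c), rfl,
    isReg_conj hu₀ (D c : GL (Fin (k + 1)) K)⟩
  have hfib : ∀ a b, f a = f b ↔ a⁻¹ * b ∈ H := by
    intro a b
    rw [Subtype.ext_iff]
    refine (ConjClasses.mk_eq_mk_iff_isConj.trans (hconj _ _ (htwist a) (htwist b))).trans ⟨?_, ?_⟩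
    · rintro ⟨s, hs, hsab⟩
      have hcomm : Commute ((D b)⁻¹ * s * D a) u₀ := by
        calc (D b)⁻¹ * s * D a * u₀ = (D b)⁻¹ * (s * (D a * u₀ * (D a)⁻¹)) * D a := by group
          _ = (D b)⁻¹ * (D b * u₀ * (D b)⁻¹ * s) * D a := by rw [hsab]
          _ = u₀ * ((D b)⁻¹ * s * D a) := by group
      obtain ⟨c, hc, hcd⟩ := det_of_commute hK hu₀ hcomm
      change c ^ (k + 1) = dt ((D b)⁻¹ * s * D a) at hcd
      rw [map_mul, map_mul, map_inv, hD, hD, show dt s = 1 from hs, mul_one] at hcd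
      have h1 : (⟨c, hc⟩ : W)⁻¹ ^ (k + 1) = a⁻¹ * b := Subtype.ext (by
        show (c⁻¹) ^ (k + 1) = (a : Kˣ)⁻¹ * b
        rw [inv_pow, hcd, mul_inv_rev, inv_inv])
      exact ⟨_, h1⟩
    · rintro ⟨c, hc⟩
      let Z : GU (k + 1) K q := ⟨GL.diagHom fun _ => (c : Kˣ), diag_mem hK c.2 _ fun _ => Or.inr rfl⟩
      have hZ : ∀ x : GU (k + 1) K q, Z * x = x * Z := fun x => Subtype.ext (Units.ext (by
        show Matrix.diagonal (fun _ => ((c : Kˣ) : K)) * _ = _ * Matrix.diagonal (fun _ => ((c : Kˣ) : K))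
        rw [← Matrix.smul_one_eq_diagonal, smul_mul_assoc, mul_smul_comm, one_mul, mul_one]))
      refine ⟨D b * Z⁻¹ * (D a)⁻¹, ?_, ?_⟩
      · show dt (D b * Z⁻¹ * (D a)⁻¹) = 1
        have hZd : dt Z = (c : Kˣ) ^ (k + 1) := by
          show Matrix.GeneralLinearGroup.det (GL.diagHom fun _ => (c : Kˣ)) = _
          rw [GL.det_diagHom]; simp
        have hc' : (c : Kˣ) ^ (k + 1) = (a : Kˣ)⁻¹ * b := congrArg Subtype.val hc
        rw [map_mul, map_mul, map_inv, map_inv, hD, hD, hZd, hc']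
        group
      · calc D b * Z⁻¹ * (D a)⁻¹ * (D a * u₀ * (D a)⁻¹) = D b * (Z⁻¹ * u₀) * (D a)⁻¹ := by group
          _ = D b * (u₀ * Z⁻¹) * (D a)⁻¹ := by rw [((show Commute Z u₀ from hZ u₀).inv_left).eq]
          _ = D b * u₀ * (D b)⁻¹ * (D b * Z⁻¹ * (D a)⁻¹) := by group
  have hsurj : Function.Surjective f := by
    rintro ⟨_, u, rfl, h1, h2⟩
    obtain ⟨g, hg⟩ := isConj_iff.1 (isConj_regular hK hu₀ (h := ofSU u) ⟨h1, h2⟩)
    have hdW : dt g ∈ W := by
      rw [MonoidHom.mem_ker, powMonoidHom_apply]; exact det_pow_eq_one hK g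
    refine ⟨⟨dt g, hdW⟩, Subtype.ext (ConjClasses.mk_eq_mk_iff_isConj.2 ?_)⟩
    have h := (hconj _ (ofSU u) (htwist ⟨dt g, hdW⟩) (hofSU u)).2 ⟨g * (D ⟨dt g, hdW⟩)⁻¹, by
      show dt (g * (D ⟨dt g, hdW⟩)⁻¹) = 1
      rw [map_mul, map_inv, hD]; exact mul_inv_cancel _, by
      rw [← hg]; group⟩
    exact h
  let F' : W ⧸ H → C := Quotient.lift f fun a b h => (hfib a b).2 (QuotientGroup.leftRel_apply.1 h)
  have hF' : Function.Bijective F' := by
    constructor
    · rintro ⟨a⟩ ⟨b⟩ h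
      exact Quotient.sound (QuotientGroup.leftRel_apply.2 ((hfib a b).1 h))
    · intro x
      obtain ⟨c, hc⟩ := hsurj x
      exact ⟨Quotient.mk _ c, hc⟩
  rw [← Nat.card_eq_of_bijective F' hF']
  show H.index = _
  rw [IsCyclic.index_powMonoidHom_range, hW, Nat.gcd_comm]

end Cfsg.Agent.S2643
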