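import Cfsg.Statements.S2645
import Cfsg.Agent.Lib.Semisimple.SympBlocks
import Cfsg.Agent.Lib.Semisimple.Isometry

set_option autoImplicit false
open Cfsg

namespace Cfsg.Agent.S2645

/-- Number of conjugacy classes of elements of odd prime order r, r different from the characteristic, in the symplectic group Sp_2m(q): let i be the multiplicative order of q modulo r and t = (r − 1)/i. If i is odd the eigenvalue orbits pair off (Λ ≠ Λ⁻¹) and the classes correspond to the non-zero (t/2)-tuples (a_j) with 2i Σ a_j ≤ 2m, giving C(⌊m/i⌋ + t/2, t/2) − 1 classes; if i is even (Λ = Λ⁻¹) they correspond to the non-zero t-tuples with i Σ a_j ≤ 2m, giving C(⌊2m/i⌋ + t, t) − 1 classes. -/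
theorem result {F : Type*} [Field F] [Fintype F] {p q : ℕ} [Fact p.Prime] [CharP F p] (hF : Fintype.card F = q) (m r i t : ℕ) (hr : r.Prime) (hr2 : r ≠ 2) (hrp : r ≠ p) (hi : i = orderOf (q : ZMod r)) (ht : t * i = r - 1) : Nat.card {C : ConjClasses ↥(Matrix.symplecticGroup (Fin m) F) // ∃ g : Matrix.symplecticGroup (Fin m) F, ConjClasses.mk g = C ∧ orderOf g = r} = if Odd i then Nat.choose (m / i + t / 2) (t / 2) - 1 else Nat.choose (2 * m / i + t) t - 1 := by
  classical
  subst hF hi
  have : Fact r.Prime := ⟨hr⟩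
  obtain ⟨K, _, _, _, ζ, hK⟩ := Semisimple.exists_rootField (F := F) (r := r) p hrp
  set i := orderOf (Fintype.card F : ZMod r) with hi
  let ψ := (Matrix.toLinAlgEquiv' : Matrix (Fin m ⊕ Fin m) (Fin m ⊕ Fin m) F ≃ₐ[F] _)
  let φ : ↥(Matrix.symplecticGroup (Fin m) F) →* Module.End F (Fin m ⊕ Fin m → F) :=
    ψ.toAlgHom.toRingHom.toMonoidHom.comp (Matrix.symplecticGroup (Fin m) F).subtype
  have hφ : Function.Injective φ := fun a b h => Subtype.ext (ψ.injective h)
  have hφv : ∀ (x : ↥(Matrix.symplecticGroup (Fin m) F)) v, φ x v = (x : Matrix _ _ F).mulVec v :=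
    fun x v => Matrix.toLin'_apply _ _
  let B := Forms.sympB m F
  have hB : Semisimple.IsHerm (RingHom.id F) (-1 : F) B :=
    ⟨(Forms.sympB_polar m).swap, (Forms.sympB_polar m).invol, (Forms.sympB_polar m).sep⟩
  have hpres : ∀ (x : ↥(Matrix.symplecticGroup (Fin m) F)) u v, B (φ x u) (φ x v) = B u v := fun x u v => by
    rw [hφv, hφv, Forms.sympB_apply, Forms.sympB_apply]
    exact Forms.mem_symplecticGroup_iff_form.1 x.2 u v
  have hi0 : 0 < i := by
    show 0 < orderOf (Fintype.card F : ZMod r)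
    rw [← hK.deg]
    exact Module.finrank_pos
  have hdim : Module.finrank F (Fin m ⊕ Fin m → F) = 2 * m := by simp [two_mul]
  have hiso : ∀ x : ↥(Matrix.symplecticGroup (Fin m) F), x ^ r = 1 → Semisimple.IsSSIsom B (φ x) r :=
    fun x hx => ⟨hpres x, by rw [← map_pow, hx, map_one], hK.unit⟩
  -- realisation
  have hsurj : ∀ a : Semisimple.Orb F r → ℕ, (∀ c, a (c * Semisimple.negOrb F r) = a c) →
      i * ∑ c, a c ≤ 2 * m → ∃ g : ↥(Matrix.symplecticGroup (Fin m) F), g ^ r = 1 ∧
        (Semisimple.orbMult ζ (φ g) : Semisimple.Orb F r → ℕ) = a := by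
    intro a ha hle
    rcases Nat.even_or_odd i with hev | hodd
    · obtain ⟨B₀, f, hA, hS, hf, hfr, hfa⟩ := hK.exists_symp_realisation hr2 hev a
      obtain ⟨k, e, hk, he⟩ := Forms.SympTwo.exists_alt_equiv hA hS
      rw [Module.finrank_fin_fun] at hk
      replace hk : i * ∑ c, a c = 2 * k := hk
      let d := m - k
      have hkd : k + d = m := by omega
      let E : ((Fin k ⊕ Fin k → F) × (Fin d ⊕ Fin d → F)) ≃ₗ[F] (Fin m ⊕ Fin m → F) :=
        (LinearEquiv.sumArrowLequivProdArrow _ _ F F).symm.trans (LinearEquiv.funCongrLeft F F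
          (((finSumFinEquiv.trans (finCongr hkd)).symm.sumCongr
            (finSumFinEquiv.trans (finCongr hkd)).symm).trans (Equiv.sumSumSumComm _ _ _ _)))
      have hE : ∀ p p', Cfsg.sympForm m F (E p) (E p') =
          Cfsg.sympForm k F p.1 p'.1 + Cfsg.sympForm d F p.2 p'.2 := by
        rintro ⟨p₁, p₂⟩ ⟨q₁, q₂⟩
        rw [Forms.sympForm_eq_sum, Forms.sympForm_eq_sum, Forms.sympForm_eq_sum,
          ← (finSumFinEquiv.trans (finCongr hkd)).sum_comp, Fintype.sum_sum_type]
        simp [E, LinearEquiv.funCongrLeft_apply, LinearMap.funLeft_apply, Equiv.sumSumSumComm_apply,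
          LinearEquiv.sumArrowLequivProdArrow_symm_apply_inl, LinearEquiv.sumArrowLequivProdArrow_symm_apply_inr]
      let G : Module.End F (Fin m ⊕ Fin m → F) := E.conjRingEquiv ((e.conjRingEquiv f).prodMap 1)
      have hGp : ∀ u v, Cfsg.sympForm m F (G u) (G v) = Cfsg.sympForm m F u v := by
        intro u v
        obtain ⟨p, rfl⟩ := E.surjective u
        obtain ⟨p', rfl⟩ := E.surjective v
        show Cfsg.sympForm m F (E.conj _ (E p)) (E.conj _ (E p')) = _
        simp only [LinearEquiv.conj_apply_apply, LinearEquiv.symm_apply_apply, LinearMap.prodMap_apply]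
        rw [hE, hE]
        congr 1
        obtain ⟨x, hx⟩ := e.surjective p.1
        obtain ⟨y, hy⟩ := e.surjective p'.1
        show Cfsg.sympForm k F (e.conj f p.1) (e.conj f p'.1) = _
        rw [← hx, ← hy, LinearEquiv.conj_apply_apply, LinearEquiv.conj_apply_apply, LinearEquiv.symm_apply_apply,
          LinearEquiv.symm_apply_apply, ← he, ← he, hf]
      let M : Matrix (Fin m ⊕ Fin m) (Fin m ⊕ Fin m) F := ψ.symm G
      have hM : ∀ v, M.mulVec v = G v := fun v => by
        have h0 := congrArg (fun T => T v) (ψ.apply_symm_apply G)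
        exact (Matrix.toLin'_apply M v).symm.trans h0
      refine ⟨⟨M, Forms.mem_symplecticGroup_iff_form.2 fun u v => by rw [hM, hM, hGp]⟩, ?_, ?_⟩
      · refine hφ ?_
        rw [map_pow, map_one]
        show (ψ (ψ.symm G)) ^ r = 1
        rw [AlgEquiv.apply_symm_apply]
        have hp : ∀ n : ℕ, ((e.conjRingEquiv f).prodMap (1 : Module.End F (Fin d ⊕ Fin d → F))) ^ n =
            ((e.conjRingEquiv f) ^ n).prodMap 1 := by
          intro n
          induction n with
          | zero => exact LinearMap.ext fun x => rfl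
          | succ n ih =>
            rw [pow_succ, ih, pow_succ (e.conjRingEquiv f)]
            exact LinearMap.ext fun x => rfl
        rw [← map_pow, hp, ← map_pow, hfr, map_one,
          show LinearMap.prodMap (1 : Module.End F (Fin k ⊕ Fin k → F))
            (1 : Module.End F (Fin d ⊕ Fin d → F)) = 1 from LinearMap.ext fun x => rfl, map_one]
      · show Semisimple.orbMult ζ (ψ (ψ.symm G)) = a
        rw [AlgEquiv.apply_symm_apply]
        show Semisimple.orbMult ζ (E.conj ((e.conj f).prodMap 1)) = a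
        rw [Semisimple.RootField.orbMult_conj, hK.orbMult_prodMap, hK.orbMult_one, add_zero,
          Semisimple.RootField.orbMult_conj, hfa]
    · have hne : Semisimple.negOrb F r ≠ 1 := fun h =>
        (Nat.not_even_iff_odd.2 hodd) ((hK.negOrb_eq_one_iff hr2).1 h)
      obtain ⟨b, hb, hbs⟩ := Semisimple.exists_half _ (Semisimple.negOrb_mul_self F r) hne a ha
      have hbm : i * ∑ c, b c ≤ m := by rw [← hbs, ← mul_assoc, mul_comm i 2, mul_assoc] at hle; omega
      obtain ⟨A, hAi, hA, hr', hAa⟩ := hK.exists_split_element m a b hb hbm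
      refine ⟨⟨Matrix.fromBlocks A 0 0 (A ^ (r - 1)).transpose,
        Forms.mem_symplecticGroup_iff_form.2 fun u v => ?_⟩, Subtype.ext hr', hAa⟩
      rw [Forms.sympForm_eq_sum, Forms.sympForm_eq_sum, Finset.sum_sub_distrib, Finset.sum_sub_distrib]
      have key : ∀ x y : Fin m → F, ∑ i, (A ^ (r - 1)).transpose.mulVec x i * A.mulVec y i = ∑ i, x i * y i := by
        intro x y
        show (A ^ (r - 1)).transpose.mulVec x ⬝ᵥ A.mulVec y = x ⬝ᵥ y
        rw [Matrix.mulVec_transpose, ← Matrix.dotProduct_mulVec, Matrix.mulVec_mulVec, mul_eq_one_comm.1 hAi,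
          Matrix.one_mulVec]
      rw [Matrix.fromBlocks_mulVec, Matrix.fromBlocks_mulVec]
      simp only [Sum.elim_inl, Sum.elim_inr, Matrix.zero_mulVec, Pi.add_apply,
        Pi.zero_apply, add_zero, zero_add]
      congr 1
      · exact key _ _
      · rw [Finset.sum_congr rfl fun i _ => mul_comm _ _, key]
        exact Finset.sum_congr rfl fun i _ => mul_comm _ _
  have h1 := hK.card_prime_order_classes φ hφ
    (fun a => (∀ c, a (c * Semisimple.negOrb F r) = a c) ∧ ∑ c, a c ≤ 2 * m / i)
    (fun g hg => by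
      have hg' : φ g ^ r = 1 := by rw [← map_pow, hg, map_one]
      refine ⟨fun c => hK.orbMult_symm B hB.sep _ hg' (hpres g) c, ?_⟩
      rw [Nat.le_div_iff_mul_le hi0, mul_comm, ← hdim]
      exact hK.orbMult_le _ hg')
    (fun g h hg hh hc => by
      obtain ⟨e, he, hef⟩ := Semisimple.exists_isometric_conj (N := r) _ _ _ B B (φ g) (φ h) rfl hB hB (hiso g hg)
        (hiso h hh) (fun _ v _ => Forms.sympB_isAlt m v) (fun _ v _ => Forms.sympB_isAlt m v) hc
      have hmem : e ∈ Forms.isom F (Cfsg.sympForm m F) := by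
        intro u v
        rw [← Forms.sympB_apply, ← Forms.sympB_apply]
        exact hef u v
      refine isConj_iff.2 ⟨(Forms.spEquiv m F).symm ⟨e, hmem⟩, ?_⟩
      rw [mul_inv_eq_iff_eq_mul]
      refine (Forms.spEquiv m F).injective (Subtype.ext (LinearEquiv.ext fun v => ?_))
      rw [map_mul, map_mul, MulEquiv.apply_symm_apply]
      show e ((Forms.spEquiv m F g).1 v) = (Forms.spEquiv m F h).1 (e v)
      rw [Forms.spEquiv_apply, Forms.spEquiv_apply, ← hφv, ← hφv]
      exact he v)
    (fun a ⟨ha, hle⟩ _ => hsurj a ha (by rwa [Nat.le_div_iff_mul_le hi0, mul_comm] at hle))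
  rw [h1]
  have hfin : Finite {a : Semisimple.Orb F r → ℕ //
      (∀ c, a (c * Semisimple.negOrb F r) = a c) ∧ ∑ c, a c ≤ 2 * m / i} := by
    have := Semisimple.finite_sum_le (Semisimple.Orb F r) (2 * m / i)
    exact Finite.of_injective (fun a => (⟨a.1, a.2.2⟩ : {a : Semisimple.Orb F r → ℕ // ∑ c, a c ≤ 2 * m / i}))
      fun a b h => Subtype.ext (congrArg (fun z => z.1) h)
  rw [Semisimple.card_nonzero _ (fun a => (∀ c, a (c * Semisimple.negOrb F r) = a c) ∧ ∑ c, a c ≤ 2 * m / i)
    (by simp)]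
  split_ifs with hodd
  · have hne : Semisimple.negOrb F r ≠ 1 := fun h =>
      (Nat.not_even_iff_odd.2 hodd) ((hK.negOrb_eq_one_iff hr2).1 h)
    rw [Semisimple.card_symm_le _ (Semisimple.negOrb_mul_self F r) hne, hK.card_orb ht,
      Nat.div_div_eq_div_mul, mul_comm i 2, Nat.mul_div_mul_left _ _ two_pos]
  · have he : Semisimple.negOrb F r = 1 := (hK.negOrb_eq_one_iff hr2).2 (Nat.not_odd_iff_even.1 hodd)
    simp only [he, mul_one, implies_true, true_and]
    rw [Semisimple.card_sum_le, hK.card_orb ht]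

end Cfsg.Agent.S2645
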