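import Cfsg.Statements.S2646
import Cfsg.Agent.Lib.UnipCentralizer.UnitaryModel

set_option autoImplicit false
open Cfsg

namespace Cfsg.Agent.S2646

/-- Order of the centraliser in the general unitary group GU_n(q) of a unipotent element of given Jordan type: if u ∈ GU_n(q) (isometries of Σ u_i v_i^q over the field with q² elements) is similar to the unipotent matrix with a_i Jordan blocks of size i (all sizes at least 1), then its centraliser in GU_n(q) has order q^γ · Π_i |GU_(a_i)(q)| with γ = 2 Σ_(i<j) i a_i a_j + Σ_i (i − 1) a_i², the same exponent as in GL_n(q), where |GU_a(q)| = q^(a(a−1)/2) Π_(k=1)^a (q^k − (−1)^k). -/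
theorem result {K : Type*} [Field K] [Fintype K] {q n t : ℕ} (hK : Fintype.card K = q ^ 2) (d : Fin t → ℕ) (hd : ∀ k, 1 ≤ d k) (e : ((k : Fin t) × Fin (d k)) ≃ Fin n) (u : ↥(Cfsg.GU n K q)) (hu : IsConj (Matrix.reindex e e (Cfsg.jordanTypeMatrix d K)) ((u : GL (Fin n) K) : Matrix (Fin n) (Fin n) K)) : (Nat.card ↥(Subgroup.centralizer ({u} : Set ↥(Cfsg.GU n K q))) : ℤ) = (q : ℤ) ^ (2 * (∑ i ∈ Finset.range (Finset.univ.sup d + 1), ∑ j ∈ Finset.range (Finset.univ.sup d + 1), if i < j then i * (Finset.univ.filter (fun k : Fin t => d k = i)).card * (Finset.univ.filter (fun k : Fin t => d k = j)).card else 0) + ∑ i ∈ Finset.range (Finset.univ.sup d + 1), (i - 1) * (Finset.univ.filter (fun k : Fin t => d k = i)).card ^ 2) * ∏ i ∈ Finset.range (Finset.univ.sup d + 1), ((q : ℤ) ^ ((Finset.univ.filter (fun k : Fin t => d k = i)).card * ((Finset.univ.filter (fun k : Fin t => d k = i)).card - 1) / 2) * ∏ j : Fin (Finset.univ.filter (fun k : Fin t => d k = i)).card, ((q : ℤ) ^ ((j : ℕ) + 1) - (-1) ^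 ((j : ℕ) + 1))) := by
  classical
  have hg : Agent.UnitaryConj.adj hK ((u : GL (Fin n) K) : Matrix (Fin n) (Fin n) K) * _ = 1 :=
    (Agent.UnitaryConj.mem_GU_iff hK _).1 u.2
  set G := ((u : GL (Fin n) K) : Matrix (Fin n) (Fin n) K) with hG
  obtain ⟨c, hc⟩ := hu
  -- the commutant in GL
  have hGL : Nat.card {x : GL (Fin n) K // Commute x (u : GL (Fin n) K)} =
      Nat.card {x : GL ((k : Fin t) × Fin (d k)) K //
        (x : Matrix ((k : Fin t) × Fin (d k)) ((k : Fin t) × Fin (d k)) K) * jordanTypeMatrix d K =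
          jordanTypeMatrix d K * (x : Matrix ((k : Fin t) × Fin (d k)) ((k : Fin t) × Fin (d k)) K)} := by
    let R : GL ((k : Fin t) × Fin (d k)) K ≃* GL (Fin n) K :=
      (Units.mapEquiv (Matrix.reindexAlgEquiv K K e).toMulEquiv).trans (MulAut.conj c)
    refine (Nat.card_congr (R.toEquiv.subtypeEquiv fun x => ?_)).symm
    have hJ : Matrix.reindexAlgEquiv K K e (jordanTypeMatrix d K) = (↑c⁻¹ : Matrix (Fin n) (Fin n) K) * G * (c : Matrix (Fin n) (Fin n) K) := by
      rw [mul_assoc, ← hc.eq, ← mul_assoc, Units.inv_mul, one_mul]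
      rfl
    rw [← (Matrix.reindexAlgEquiv K K e).injective.eq_iff, map_mul, map_mul, hJ]
    show _ ↔ Commute (R x) (u : GL (Fin n) K)
    rw [commute_iff_eq, Units.ext_iff, Units.val_mul, Units.val_mul, ← hG,
      show (R x : Matrix (Fin n) (Fin n) K) = (c : Matrix (Fin n) (Fin n) K) * Matrix.reindexAlgEquiv K K e x * (↑c⁻¹ : Matrix (Fin n) (Fin n) K) from rfl]
    constructor
    · intro h
      have := congrArg (fun X => (c : Matrix (Fin n) (Fin n) K) * X * (↑c⁻¹ : Matrix (Fin n) (Fin n) K)) h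
      simpa [mul_assoc] using this
    · intro h
      have := congrArg (fun X => (↑c⁻¹ : Matrix (Fin n) (Fin n) K) * X * (c : Matrix (Fin n) (Fin n) K)) h
      simpa [mul_assoc] using this
  have hmain := Agent.UnipCentralizer.Unitary.card_commutant hK u
  rw [hGL, Agent.UnipCentralizer.card_centralizer d hK hd,
    Agent.UnipCentralizer.Unitary.card_hermUnit hK d e hd hg ⟨c, hc⟩,
    Agent.UnipCentralizer.Unitary.card_symUnit hK d hd,
    Finset.prod_congr rfl (fun i _ => Agent.UnipCentralizer.Unitary.card_gl_eq hK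
      (Finset.univ.filter fun k : Fin t => d k = i).card), Finset.prod_mul_distrib,
    Agent.UnipCentralizer.exponent_eq d hd] at hmain
  generalize hγ : (2 * (∑ i ∈ Finset.range (Finset.univ.sup d + 1), ∑ j ∈ Finset.range (Finset.univ.sup d + 1), if i < j then i * (Finset.univ.filter (fun k : Fin t => d k = i)).card * (Finset.univ.filter (fun k : Fin t => d k = j)).card else 0) + ∑ i ∈ Finset.range (Finset.univ.sup d + 1), (i - 1) * (Finset.univ.filter (fun k : Fin t => d k = i)).card ^ 2) = γ at hmain ⊢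
  have hq : 1 < q := Agent.Forms.one_lt_q hK
  have hH : 0 < ∏ i ∈ Finset.range (Finset.univ.sup d + 1), Nat.card (Agent.UnipCentralizer.Unitary.HermInv hK
      (Fin (Finset.univ.filter fun k : Fin t => d k = i).card)) := by
    refine Finset.prod_pos fun i _ => ?_
    haveI : Nonempty (Agent.UnipCentralizer.Unitary.HermInv hK
        (Fin (Finset.univ.filter fun k : Fin t => d k = i).card)) :=
      ⟨⟨1, by simp, fun a b => by simp [Matrix.one_apply, eq_comm]⟩⟩
    exact Nat.card_pos
  have hcard : Nat.card ↥(Subgroup.centralizer ({u} : Set ↥(Cfsg.GU n K q))) =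
      q ^ γ * ∏ i ∈ Finset.range (Finset.univ.sup d + 1),
        Nat.card (GU (Finset.univ.filter fun k : Fin t => d k = i).card K q) := by
    refine Nat.eq_of_mul_eq_mul_right (Nat.mul_pos (pow_pos (show 0 < q by omega) γ) hH) ?_
    rw [← hmain, ← pow_mul, show 2 * γ = γ + γ by ring, pow_add]
    ring
  rw [hcard, Nat.cast_mul, Nat.cast_pow, Nat.cast_prod]
  congr 1
  refine Finset.prod_congr rfl fun i _ => ?_
  rw [Agent.Forms.card_GU hK, Nat.cast_mul, Nat.cast_pow, Nat.cast_prod, Finset.prod_range]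
  congr 1
  refine Finset.prod_congr rfl fun j _ => ?_
  rcases Nat.even_or_odd (j : ℕ) with hj | hj
  · rw [if_pos hj, hj.add_one.neg_one_pow]
    push_cast
    ring
  · rw [if_neg (Nat.not_even_iff_odd.2 hj), hj.add_one.neg_one_pow,
      Nat.cast_sub (Nat.one_le_pow _ _ (by omega))]
    push_cast
    ring

end Cfsg.Agent.S2646
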