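import Cfsg.Statements.S2647
import Cfsg.Agent.Lib.OmegaSevenSylow.Sylow
import Cfsg.Agent.Lib.Fusion.Group
import Cfsg.Agent.Lib.Fusion.SimpleCriterion
import Cfsg.Agent.Lib.Forms.QuadOrder
import Cfsg.Agent.Lib.Forms.OmegaOrder
import Cfsg.Agent.Lib.QForm.Classify
import Cfsg.Agent.Lib.ClassicalSimple.OrthMatrix

set_option autoImplicit false
open Cfsg

namespace Cfsg.Agent.S2647

/-- Let q be an odd prime power with q ≡ ±3 (mod 8), F a field with q elements and S a Sylow 2-subgroup of the commutator subgroup Ω₇(q) of the orthogonal group of the form x₀² + x₁y₁ + x₂y₂ + x₃y₃ over F. Then every automorphism of S induced by N(S) is inner, S has no strongly closed subgroup other than 1 and S with respect to this group, and the 2-fusion system of Ω₇(q) on S is simple. -/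
theorem result {F : Type*} [Field F] [Fintype F] [DecidableEq F] (q : ℕ) (hF : Fintype.card F = q) (hq : q % 8 = 3 ∨ q % 8 = 5) (S : Sylow 2 ↥(Cfsg.Omega F (Cfsg.quadFormOdd 3 F))) : (Cfsg.groupFusionSystem (S : Subgroup ↥(Cfsg.Omega F (Cfsg.quadFormOdd 3 F)))).autGroup (S : Subgroup ↥(Cfsg.Omega F (Cfsg.quadFormOdd 3 F))) = Cfsg.Inn ↥(S : Subgroup ↥(Cfsg.Omega F (Cfsg.quadFormOdd 3 F))) ∧ (∀ T : Subgroup ↥(Cfsg.Omega F (Cfsg.quadFormOdd 3 F)), (Cfsg.groupFusionSystem (S : Subgroup ↥(Cfsg.Omega F (Cfsg.quadFormOdd 3 F)))).StronglyClosed T → T = ⊥ ∨ T = (S : Subgroup ↥(Cfsg.Omega F (Cfsg.quadFormOdd 3 F)))) ∧ (Cfsg.groupFusionSystem (S : Subgroup ↥(Cfsg.Omega F (Cfsg.quadFormOdd 3 F)))).IsSimple 2 := by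
  classical
  have : Fact (Nat.Prime 2) := ⟨Nat.prime_two⟩
  have hodd : Odd (Fintype.card F) := by rw [hF, Nat.odd_iff]; omega
  have h2 : (2 : F) ≠ 0 := Forms.two_ne_zero_of_odd_card hodd
  have hns : ¬IsSquare (2 : F) := by rw [FiniteField.isSquare_two_iff, hF]; omega
  -- the model
  obtain ⟨c, hc, e, he⟩ := QForm.exists_iso_odd h2 3 (OmegaSevenSylow.sevenForm F)
    (OmegaSevenSylow.sevenForm_nondegenerate h2) (by simp)
  let φ : ↥(isometryGroup F (quadFormOdd 3 F)) ≃* OmegaSevenSylow.O7 F :=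
    ((Forms.isometryGroupEquiv (quadFormOdd 3 F)).trans (MulEquiv.subgroupCongr
      (Forms.isom_eq_of_iff (f' := fun u _ => c * quadFormOdd 3 F u) fun g =>
        ⟨fun h u v => by rw [h u v], fun h u v => mul_left_cancel₀ hc (h u v)⟩))).trans
      ((Forms.isomCongr (f' := fun u _ => c * quadFormOdd 3 F u)
        (f := fun u _ => OmegaSevenSylow.sevenForm F u) e (fun u _ => he u)).symm.trans
        (Forms.isometryGroupEquiv ⇑(OmegaSevenSylow.sevenForm F)).symm)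
  let φΩ : ↥(Omega F (quadFormOdd 3 F)) ≃* ↥(Omega F ⇑(OmegaSevenSylow.sevenForm F)) :=
    (φ.subgroupMap _).trans (MulEquiv.subgroupCongr (ClassicalSimple.map_commutator_top φ))
  -- its Sylow subgroup
  let P : Subgroup ↥(Omega F ⇑(OmegaSevenSylow.sevenForm F)) :=
    (OmegaSevenSylow.sylSeven F).subgroupOf _
  have hPle := OmegaSevenSylow.sylSeven_le_omega (F := F) h2 hns
  have hPcard : Nat.card P = 512 := by
    rw [Nat.card_congr (Subgroup.subgroupOfEquivOfLe hPle).toEquiv, OmegaSevenSylow.card_sylSeven h2]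
  obtain ⟨k, hk, hΩcard⟩ : ∃ k, Odd k ∧ Nat.card ↥(Omega F ⇑(OmegaSevenSylow.sevenForm F)) = 512 * k := by
    have hidx := Forms.omega_index_odd (OmegaSevenSylow.sevenForm F) h2
      (OmegaSevenSylow.sevenForm_nondegenerate h2) (by simp)
    have hO : Nat.card (OmegaSevenSylow.O7 F) =
        2 * q ^ 9 * ((q ^ 2 - 1) * (q ^ 4 - 1) * (q ^ 6 - 1)) := by
      rw [← Nat.card_congr φ.toEquiv, Forms.card_isometryGroup (f := quadFormOdd 3 F) (Forms.quadOdd 3 F) (fun v => Forms.quadOdd_apply v),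
        Forms.card_isomQ_quadOdd h2, Finset.prod_range_succ, Finset.prod_range_succ, Finset.prod_range_one, hF]
      norm_num
    rw [← Subgroup.card_mul_index (Omega F ⇑(OmegaSevenSylow.sevenForm F)), hidx] at hO
    obtain ⟨a, ha, hqa⟩ : ∃ a, Odd a ∧ q ^ 2 = 8 * a + 1 := by
      rcases hq with h | h
      · obtain ⟨t, rfl⟩ : ∃ t, q = 8 * t + 3 := ⟨q / 8, by omega⟩
        exact ⟨2 * (4 * t ^ 2 + 3 * t) + 1, odd_two_mul_add_one _, by ring⟩
      · obtain ⟨t, rfl⟩ : ∃ t, q = 8 * t + 5 := ⟨q / 8, by omega⟩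
        exact ⟨2 * (4 * t ^ 2 + 5 * t + 1) + 1, odd_two_mul_add_one _, by ring⟩
    have hq1 : q ^ 2 - 1 = 8 * a := by omega
    have hq2 : q ^ 4 - 1 = 16 * (a * (4 * a + 1)) := by
      have : q ^ 4 = 16 * (a * (4 * a + 1)) + 1 := by rw [show q ^ 4 = (q ^ 2) ^ 2 by ring, hqa]; ring
      omega
    have hq3 : q ^ 6 - 1 = 8 * (a * (64 * a ^ 2 + 24 * a + 3)) := by
      have : q ^ 6 = 8 * (a * (64 * a ^ 2 + 24 * a + 3)) + 1 := by
        rw [show q ^ 6 = (q ^ 2) ^ 3 by ring, hqa]; ring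
      omega
    rw [hq1, hq2, hq3] at hO
    refine ⟨q ^ 9 * (a * (a * (4 * a + 1)) * (a * (64 * a ^ 2 + 24 * a + 3))), ?_, ?_⟩
    · exact ((hF ▸ hodd).pow).mul ((ha.mul (ha.mul (by simp [parity_simps]))).mul (ha.mul
        (by simp [parity_simps])))
    · refine Nat.eq_of_mul_eq_mul_right (by norm_num : 0 < 4) ?_
      rw [hO]; ring
  have hPp : IsPGroup 2 P := IsPGroup.of_card (n := 9) (by rw [hPcard]; norm_num)
  let P₀ : Sylow 2 ↥(Omega F ⇑(OmegaSevenSylow.sevenForm F)) := hPp.toSylow (by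
    have h := P.card_mul_index
    rw [hPcard, hΩcard] at h
    rw [Nat.eq_of_mul_eq_mul_left (by norm_num) h]
    exact fun h2k => (Nat.not_even_iff_odd.2 hk) (even_iff_two_dvd.2 h2k))
  -- move `S` onto it
  obtain ⟨ψ, hψ⟩ : ∃ ψ : ↥(Omega F (quadFormOdd 3 F)) ≃* ↥(Omega F ⇑(OmegaSevenSylow.sevenForm F)),
      ∀ x, x ∈ (S : Subgroup ↥(Omega F (quadFormOdd 3 F))) ↔ ψ x ∈ P := by
    obtain ⟨w, hw⟩ := Fusion.exists_conj_le P₀ (S.2.map φΩ.toMonoidHom)
    let ψ := φΩ.trans (MulAut.conj w)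
    have hle : (S : Subgroup ↥(Omega F (quadFormOdd 3 F))).map ψ.toMonoidHom ≤ P := by
      rintro _ ⟨x, hx, rfl⟩
      exact hw ⟨φΩ x, ⟨x, hx, rfl⟩, rfl⟩
    have heq : (S : Subgroup ↥(Omega F (quadFormOdd 3 F))).map ψ.toMonoidHom = P := by
      refine Subgroup.eq_of_le_of_card_ge hle ?_
      rw [Subgroup.card_map_of_injective ψ.injective, S.card_eq_multiplicity, Nat.card_congr ψ.toEquiv,
        ← P₀.card_eq_multiplicity]
      rfl
    exact ⟨ψ, fun x => by rw [← heq]; exact (Subgroup.mem_map_equiv.trans (by simp)).symm⟩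
  -- self-normalising
  have hN : ∀ n ∈ Subgroup.normalizer ((S : Subgroup ↥(Omega F (quadFormOdd 3 F))) : Set _),
      n ∈ (S : Subgroup ↥(Omega F (quadFormOdd 3 F))) := by
    intro n hn
    rw [hψ]
    show ((ψ n : ↥(Omega F ⇑(OmegaSevenSylow.sevenForm F))) : OmegaSevenSylow.O7 F) ∈ OmegaSevenSylow.sylSeven F
    refine OmegaSevenSylow.mem_of_normalizes h2 hns (ψ n).2 ?_
    refine Subgroup.eq_of_le_of_card_ge ?_ (Subgroup.card_map_of_injective (MulEquiv.injective _)).ge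
    rintro _ ⟨y, hy, rfl⟩
    obtain ⟨x, hx⟩ := ψ.surjective ⟨y, hPle hy⟩
    have hxS : x ∈ (S : Subgroup ↥(Omega F (quadFormOdd 3 F))) := (hψ x).2 (by rw [hx]; exact hy)
    have h := (hψ _).1 ((Subgroup.mem_normalizer_iff.1 hn x).1 hxS)
    rw [map_mul, map_mul, map_inv, hx] at h
    exact h
  have h1 : (groupFusionSystem (S : Subgroup ↥(Omega F (quadFormOdd 3 F)))).autGroup
      (S : Subgroup ↥(Omega F (quadFormOdd 3 F))) = Inn ↥(S : Subgroup ↥(Omega F (quadFormOdd 3 F))) := by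
    rw [Fusion.group_autGroup le_rfl]
    ext α
    rw [Fusion.mem_autInducedBy_iff]
    constructor
    · rintro ⟨g, -, hg⟩
      exact ⟨⟨g, hN g (Fusion.mem_normalizer_of_aut hg)⟩, MulEquiv.ext fun x => Subtype.ext (by simp [hg])⟩
    · rintro ⟨g, rfl⟩
      exact ⟨g, Subgroup.mem_top _, fun x => by simp⟩
  have h3 : ∀ T : Subgroup ↥(Omega F (quadFormOdd 3 F)),
      (groupFusionSystem (S : Subgroup ↥(Omega F (quadFormOdd 3 F)))).StronglyClosed T →
        T = ⊥ ∨ T = (S : Subgroup ↥(Omega F (quadFormOdd 3 F))) := by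
    intro T hT
    obtain ⟨hTS, hcl⟩ := Fusion.stronglyClosed_iff.1 hT
    let ι : ↥(Omega F (quadFormOdd 3 F)) →* OmegaSevenSylow.O7 F :=
      (Omega F ⇑(OmegaSevenSylow.sevenForm F)).subtype.comp ψ.toMonoidHom
    have hι : Function.Injective ι := Subtype.val_injective.comp ψ.injective
    have hclosed : ∀ y ∈ T.map ι, ∀ g ∈ Omega F ⇑(OmegaSevenSylow.sevenForm F),
        g * y * g⁻¹ ∈ OmegaSevenSylow.sylSeven F → g * y * g⁻¹ ∈ T.map ι := by
      rintro _ ⟨x, hx, rfl⟩ g hg h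
      obtain ⟨g₀, hg₀⟩ := ψ.surjective ⟨g, hg⟩
      have he : ι (g₀ * x * g₀⁻¹) = g * ι x * g⁻¹ := by
        rw [map_mul, map_mul, map_inv, show ι g₀ = g from congrArg Subtype.val hg₀]
      have hS : g₀ * x * g₀⁻¹ ∈ (S : Subgroup ↥(Omega F (quadFormOdd 3 F))) :=
        (hψ _).2 (Subgroup.mem_subgroupOf.2 (show ι (g₀ * x * g₀⁻¹) ∈ _ by rw [he]; exact h))
      have hz : (Subgroup.zpowers x).map (MulAut.conj g₀).toMonoidHom ≤
          (S : Subgroup ↥(Omega F (quadFormOdd 3 F))) := by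
        rw [MonoidHom.map_zpowers, Subgroup.zpowers_le]
        exact hS
      refine ⟨g₀ * x * g₀⁻¹, ?_, he⟩
      exact hcl (Subgroup.zpowers x) _
        (Fusion.conjHom_mem_groupHom (Subgroup.zpowers_le.2 (hTS hx)) hz) ⟨x, Subgroup.mem_zpowers x⟩ hx
    have hle : T.map ι ≤ OmegaSevenSylow.sylSeven F := by
      rintro _ ⟨x, hx, rfl⟩
      exact (hψ x).1 (hTS hx)
    rcases OmegaSevenSylow.eq_bot_or_eq_sylSeven h2 hns hle hclosed with h | h
    · exact Or.inl ((Subgroup.map_eq_bot_iff_of_injective T hι).1 h)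
    · refine Or.inr (le_antisymm hTS fun x hx => ?_)
      have hm : ι x ∈ T.map ι := by rw [h]; exact (hψ x).1 hx
      obtain ⟨y, hy, hxy⟩ := hm
      exact hι hxy ▸ hy
  refine ⟨h1, h3, Fusion.isSimple_of_autGroup_eq_inn (Fusion.groupFusionSystem_saturated S) ?_ h1 h3⟩
  intro hbot
  have : OmegaSevenSylow.sylSeven F ≤ ⊥ := by
    intro y hy
    obtain ⟨x, hx⟩ := ψ.surjective ⟨y, hPle hy⟩
    have hxS : x ∈ (S : Subgroup ↥(Omega F (quadFormOdd 3 F))) := (hψ x).2 (by rw [hx]; exact hy)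
    rw [hbot, Subgroup.mem_bot] at hxS
    rw [hxS, map_one] at hx
    exact (congrArg Subtype.val hx).symm
  have hc := OmegaSevenSylow.card_sylSeven (F := F) h2
  rw [le_bot_iff.1 this, Subgroup.card_bot] at hc
  omega

end Cfsg.Agent.S2647
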