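import Cfsg.Statements.S2653
import Cfsg.Agent.Lib.AltDegree.Main
import Mathlib.FieldTheory.Finite.GaloisField

set_option autoImplicit false
open scoped MatrixGroups
open Cfsg

namespace Cfsg.Agent.S2653

/-- Alternating sections of finite linear groups. Let `F` be a finite field of characteristic `p` and `n` a natural number, and suppose some subgroup `H` of GL_n(F) has a normal subgroup `K` with `H ⧸ K` isomorphic to the alternating group of degree `r ≥ 9`. Then `n ≥ r - 2` when `p` divides `r`, and `n ≥ r - 1` otherwise (the smallest degree of a nontrivial projective representation of that alternating group in characteristic `p`). The same bound follows for every classical group with natural module of dimension `n` over `F`, since each is a section of a subgroup of GL_n(F). -/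
theorem result {F : Type*} [Field F] [Fintype F] (p : ℕ) [Fact p.Prime] [CharP F p]
    (n : ℕ) (r : ℕ) (H : Subgroup (GL (Fin n) F)) (K : Subgroup ↥H) [K.Normal]
    (h : Nonempty (↥H ⧸ K ≃* ↥(alternatingGroup (Fin r)))) (hr : 9 ≤ r) :
    r - 1 - (if p ∣ r then 1 else 0) ≤ n := by
  classical
  obtain ⟨e⟩ := h
  obtain ⟨m, hp, hm⟩ := FiniteField.card F p
  haveI : Fintype (GaloisField p m) := Fintype.ofFinite _
  have hc : Fintype.card F = Fintype.card (GaloisField p m) := by
    rw [hm, ← Nat.card_eq_fintype_card, GaloisField.card p m m.ne_zero]
  let ι : F ≃+* GaloisField p m := FiniteField.ringEquivOfCardEq hc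
  let φ : GL (Fin n) F →* GL (Fin n) (GaloisField p m) := Matrix.GeneralLinearGroup.map ι.toRingHom
  have hφ : Function.Injective φ := fun a b hab => Units.ext
    (Matrix.map_injective ι.injective (congrArg Units.val hab))
  let eG := H.equivMapOfInjective φ hφ
  let π : H.map φ →* Equiv.Perm (Fin r) := (alternatingGroup (Fin r)).subtype.comp
    ((e.toMonoidHom.comp (QuotientGroup.mk' K)).comp eG.symm.toMonoidHom)
  have hπ : π.range = alternatingGroup (Fin r) := by
    rw [MonoidHom.range_comp, MonoidHom.range_eq_top.2
      ((e.surjective.comp (QuotientGroup.mk'_surjective K)).comp eG.symm.surjective),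
      ← MonoidHom.range_eq_map, Subgroup.range_subtype]
  let k := AlgebraicClosure (GaloisField p m)
  let ρ : H.map φ →* Module.End k (Fin n → k) :=
    (Matrix.toLinAlgEquiv' (R := k) (n := Fin n)).toRingEquiv.toMonoidHom.comp
      ((algebraMap (GaloisField p m) k).mapMatrix.toMonoidHom.comp
        ((Units.coeHom _).comp (H.map φ).subtype))
  have hρ : Function.Injective ρ :=
    (Matrix.toLinAlgEquiv' (R := k) (n := Fin n)).injective.comp
      ((Matrix.map_injective (algebraMap (GaloisField p m) k).injective).comp
        (Units.val_injective.comp Subtype.val_injective))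
  have hb := AltDegree.bound_all n k (Fin n → k) (H.map φ) r π ρ hr hπ
    (fun g hg => by rw [hρ (hg.trans (map_one ρ).symm), map_one]) (Module.finrank_fin_fun k)
  haveI : CharP k p := charP_of_injective_algebraMap (algebraMap (GaloisField p m) k).injective p
  simpa only [CharP.cast_eq_zero_iff k p r] using hb

end Cfsg.Agent.S2653
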