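import Cfsg.Statements.S2657
import Cfsg.Agent.Lib.AltSection.Chev
import Cfsg.Agent.Lib.AltSection.Joint
import Cfsg.Agent.Lib.AltSection.RootValues
import Cfsg.Agent.Lib.RootBN.WeylPow
import Cfsg.Agent.Lib.AltSection.F4Cand
import Cfsg.Agent.Lib.Chev.CheckF4
import Cfsg.Agent.Lib.Chev.Poincare
-- import your own Cfsg.Agent.* helpers here

set_option autoImplicit false
open scoped MatrixGroups
open Cfsg

namespace Cfsg.Agent.S2657

open Cfsg.Lie Cfsg.Agent.Chev Cfsg.Agent.Chev.BNSetup Cfsg.Agent.AltSection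
open Cfsg.Agent.RootBN (Data)
open Cfsg.Agent.AltSection.F4

/-- Elements of `A₁₁`: an eleven-cycle and multiplication by three. -/
def cyc11 : Equiv.Perm (Fin 11) := finRotate 11

/-- Multiplication by three modulo eleven. -/
def tri11 : Equiv.Perm (Fin 11) where
  toFun i := 3 * i
  invFun i := 4 * i
  left_inv := by decide
  right_inv := by decide

theorem eleven_data : Equiv.Perm.sign cyc11 = 1 ∧ Equiv.Perm.sign tri11 = 1 ∧
    tri11 * cyc11 * tri11⁻¹ = cyc11 ^ 3 ∧ cyc11 ^ 11 = 1 ∧ cyc11 ≠ 1 := by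
  decide +kernel

theorem eleven_pair : ∃ x y : alternatingGroup (Fin 11), x ≠ 1 ∧ x ^ 11 = 1 ∧ y * x * y⁻¹ = x ^ 3 :=
  ⟨⟨cyc11, Equiv.Perm.mem_alternatingGroup.2 eleven_data.1⟩,
    ⟨tri11, Equiv.Perm.mem_alternatingGroup.2 eleven_data.2.1⟩,
    fun h => eleven_data.2.2.2.2 (congrArg Subtype.val h), Subtype.ext eleven_data.2.2.2.1,
    Subtype.ext eleven_data.2.2.1⟩

/-- A five-cycle on the first five points. -/
def x12 : Equiv.Perm (Fin 12) := Equiv.swap 0 1 * Equiv.swap 1 2 * Equiv.swap 2 3 * Equiv.swap 3 4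

/-- A seven-cycle on the other points. -/
def y12 : Equiv.Perm (Fin 12) :=
  Equiv.swap 5 6 * Equiv.swap 6 7 * Equiv.swap 7 8 * Equiv.swap 8 9 * Equiv.swap 9 10 * Equiv.swap 10 11

/-- Doubles the first block and triples the second. -/
def g12 : Equiv.Perm (Fin 12) :=
  Equiv.swap 1 2 * Equiv.swap 2 4 * Equiv.swap 4 3 *
    (Equiv.swap 6 8 * Equiv.swap 8 7 * Equiv.swap 7 11 * Equiv.swap 11 9 * Equiv.swap 9 10)

theorem twelve_data : Equiv.Perm.sign x12 = 1 ∧ Equiv.Perm.sign y12 = 1 ∧ Equiv.Perm.sign g12 = 1 ∧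
    x12 ≠ 1 ∧ x12 ^ 5 = 1 ∧ y12 ≠ 1 ∧ y12 ^ 7 = 1 ∧ x12 * y12 = y12 * x12 ∧
    g12 * x12 * g12⁻¹ = x12 ^ 2 ∧ g12 * y12 * g12⁻¹ = y12 ^ 3 := by
  decide +kernel

theorem twelve_triple : ∃ x y g : alternatingGroup (Fin 12), x ≠ 1 ∧ x ^ 5 = 1 ∧ y ≠ 1 ∧ y ^ 7 = 1 ∧
    Commute x y ∧ g * x * g⁻¹ = x ^ 2 ∧ g * y * g⁻¹ = y ^ 3 := by
  obtain ⟨h1, h2, h3, h4, h5, h6, h7, h8, h9, h10⟩ := twelve_data
  exact ⟨⟨x12, Equiv.Perm.mem_alternatingGroup.2 h1⟩, ⟨y12, Equiv.Perm.mem_alternatingGroup.2 h2⟩,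
    ⟨g12, Equiv.Perm.mem_alternatingGroup.2 h3⟩, fun h => h4 (congrArg Subtype.val h), Subtype.ext h5,
    fun h => h6 (congrArg Subtype.val h), Subtype.ext h7, Subtype.ext h8, Subtype.ext h9, Subtype.ext h10⟩

theorem levelsPoly_mod (ℓ : ℕ) {q : ℕ} (hq : (q : ZMod ℓ) = 1) :
    ∀ Ls : List RootBN.Level, ((RootBN.levelsPoly q Ls : ℕ) : ZMod ℓ) = (RootBN.levelsPoly 1 Ls : ℕ)
  | [] => rfl
  | L :: Ls => by
    simp only [RootBN.levelsPoly, Nat.cast_mul, levelsPoly_mod ℓ hq Ls]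
    congr 1
    induction L.reps with
    | nil => simp
    | cons d l ih => simp [Nat.cast_pow, hq, ih]

theorem weyl_order : RootBN.levelsPoly 1 WeylTab.levelsF4 = 1152 := by decide +kernel

theorem cast_facts : ((11 : ℕ) : ZMod 5) = 1 ∧ ((11 ^ 3 : ℕ) : ZMod 7) = 1 ∧ ((1152 : ℕ) : ZMod 5) ≠ 0 ∧
    ((1152 : ℕ) : ZMod 7) ≠ 0 ∧ ((1152 : ℕ) : ZMod 11) ≠ 0 := by decide

theorem not_dvd_index {ℓ : ℕ} [Fact ℓ.Prime] {q : ℕ} (hq : (q : ZMod ℓ) = 1) (h1152 : ((1152 : ℕ) : ZMod ℓ) ≠ 0) :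
    ¬ ℓ ∣ q ^ (chevF4.nroots / 2) * RootBN.levelsPoly q WeylTab.levelsF4 := by
  intro hd
  have h0 := (ZMod.natCast_eq_zero_iff _ ℓ).2 hd
  rw [Nat.cast_mul, Nat.cast_pow, hq, one_pow, one_mul, levelsPoly_mod ℓ hq, weyl_order] at h0
  exact h1152 h0

theorem exists_encode (ℓ : ℕ) (f : Fin chevF4.rank → ℕ) (hl : ∀ k, f k < ℓ) :
    ∃ a < ℓ ^ 4, ∀ k : Fin 4, a / ℓ ^ k.val % ℓ = f k := by
  obtain ⟨f0, f1, f2, f3, h0, h1, h2, h3⟩ : ∃ f0 f1 f2 f3, f (0 : Fin 4) = f0 ∧ f (1 : Fin 4) = f1 ∧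
      f (2 : Fin 4) = f2 ∧ f (3 : Fin 4) = f3 := ⟨_, _, _, _, rfl, rfl, rfl, rfl⟩
  have b0 : f0 < ℓ := h0 ▸ hl _
  have b1 : f1 < ℓ := h1 ▸ hl _
  have b2 : f2 < ℓ := h2 ▸ hl _
  have b3 : f3 < ℓ := h3 ▸ hl _
  have hp : 0 < ℓ := by omega
  refine ⟨f0 + ℓ * (f1 + ℓ * (f2 + ℓ * f3)), ?_, fun k => ?_⟩
  · have e2 : f2 + ℓ * f3 < ℓ * ℓ := by nlinarith
    have e1 : f1 + ℓ * (f2 + ℓ * f3) < ℓ * (ℓ * ℓ) := by nlinarith
    calc f0 + ℓ * (f1 + ℓ * (f2 + ℓ * f3)) < ℓ * (ℓ * (ℓ * ℓ)) := by nlinarith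
      _ = ℓ ^ 4 := by ring
  · have d : ∀ a b, a < ℓ → (a + ℓ * b) / ℓ = b := fun a b h => by
      rw [Nat.add_mul_div_left _ _ hp, Nat.div_eq_of_lt h, zero_add]
    have md : ∀ a b, a < ℓ → (a + ℓ * b) % ℓ = a := fun a b h => by
      rw [Nat.add_mul_mod_self_left, Nat.mod_eq_of_lt h]
    fin_cases k
    · show _ / ℓ ^ 0 % ℓ = f (0 : Fin 4)
      rw [pow_zero, Nat.div_one, md _ _ b0, h0]
    · show _ / ℓ ^ 1 % ℓ = f (1 : Fin 4)
      rw [pow_one, d _ _ b0, md _ _ b1, h1]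
    · show _ / ℓ ^ 2 % ℓ = f (2 : Fin 4)
      rw [sq, ← Nat.div_div_eq_div_mul, d _ _ b0, d _ _ b1, md _ _ b2, h2]
    · show _ / ℓ ^ 3 % ℓ = f (3 : Fin 4)
      rw [show ℓ ^ 3 = ℓ * ℓ * ℓ by ring, ← Nat.div_div_eq_div_mul, ← Nat.div_div_eq_div_mul, d _ _ b0, d _ _ b1,
        d _ _ b2, Nat.mod_eq_of_lt b3, h3]

theorem lin_eq {ℓ : ℕ} (h35 : ℓ ∣ 35) {a : ℕ} {f : Fin chevF4.rank → ℕ}
    (ha : ∀ k : Fin 4, a / ℓ ^ k.val % ℓ = f k) {r : ℕ} (hr : r < 48) :
    expo chevF4 coef ℓ f r = lin ℓ a r := by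
  have h := fun k => coefCode_spec ⟨r, hr⟩ k
  have h0 := h 0
  have h1 := h 1
  have h2 := h 2
  have h3 := h 3
  have a0 : a % ℓ = f (0 : Fin 4) := by simpa using ha 0
  have a1 : a / ℓ % ℓ = f (1 : Fin 4) := by simpa using ha 1
  have a2 : a / ℓ ^ 2 % ℓ = f (2 : Fin 4) := ha 2
  have a3 : a / ℓ ^ 3 % ℓ = f (3 : Fin 4) := ha 3
  simp only [Fin.val_zero, Fin.val_one, Fin.val_two, show ((3 : Fin 4) : ℕ) = 3 from rfl, Nat.add_zero] at h0 h1 h2 h3
  rw [lin, h0, h1, h2, h3, a0, a1, a2, a3, expo]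
  apply Int.ofNat_inj.1
  rw [Int.toNat_of_nonneg (Int.emod_nonneg _ (by
    rintro h
    rw [Int.natCast_eq_zero] at h
    simp [h] at h35))]
  push_cast
  simp only [Int.toNat_of_nonneg (Int.emod_nonneg _ (show (35 : ℤ) ≠ 0 by norm_num))]
  have hsum : (∑ k : Fin chevF4.rank, coef r k * (f k : ℤ)) = coef r 0 * (f (0 : Fin 4) : ℤ) +
      coef r 1 * (f (1 : Fin 4) : ℤ) + coef r 2 * (f (2 : Fin 4) : ℤ) + coef r 3 * (f (3 : Fin 4) : ℤ) :=
    Fin.sum_univ_four _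
  rw [hsum]
  have e : ∀ c : ℤ, c % 35 ≡ c [ZMOD ℓ] := fun c => (Int.mod_modEq c 35).of_dvd (Int.natCast_dvd_natCast.2 h35)
  exact ((((e _).mul_right _).add ((e _).mul_right _)).add ((e _).mul_right _)).add ((e _).mul_right _) |>.symm

theorem bound {F : Type*} [Field F] [Fintype F] (p : ℕ) [Fact p.Prime] [CharP F p]
    (r : ℕ) (H : Subgroup ↥(chevF4.group F)) (K : Subgroup ↥H) [K.Normal]
    (h : Nonempty (↥H ⧸ K ≃* ↥(alternatingGroup (Fin r)))) :
    r ≤ 10 + (if p = 11 then 1 else 0) := by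
  classical
  obtain ⟨n, -, hn⟩ := FiniteField.card F p
  by_cases hp : p = 11
  · subst hp
    rw [if_pos rfl]
    by_contra hr
    obtain ⟨E, _, _, _, H', ψ, hE, hψ⟩ :=
      exists_extension_section F4.good 11 (n := 3) (by norm_num) (k := 12) (r := r) (by omega) H K h
    haveI : Fact (Nat.Prime 5) := ⟨by norm_num⟩
    haveI : Fact (Nat.Prime 7) := ⟨by norm_num⟩
    have ax := axioms (F := E) F4.good facts_chevF4
    obtain ⟨hc, hw⟩ := card_grp_levels F4.good facts_chevF4 (F := E) WeylTab.levelsF4 rfl WeylTab.levelsOK_F4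
    rw [weyl_order] at hw
    obtain ⟨h1, -, -⟩ := Data.index_eq ax hc
    have hq5 : (Fintype.card E : ZMod 5) = 1 := by
      rw [hE, hn, Nat.cast_pow, Nat.cast_pow]
      rw [cast_facts.1, one_pow, one_pow]
    have hq7 : (Fintype.card E : ZMod 7) = 1 := by
      rw [hE, hn, ← pow_mul, mul_comm, pow_mul, Nat.cast_pow]
      rw [cast_facts.2.1, one_pow]
    set T := (data F4.good E).H.subgroupOf (data F4.good E).grp with hT
    obtain ⟨x, y, g, hx, hx5, hy, hy7, hxy, hgx, hgy⟩ := twelve_triple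
    obtain ⟨h, v, z, hvT, hzT, hv1, hz1, hv5, hz7, hhv, hhz⟩ :=
      exists_joint (ℓ := 5) (ℓ' := 7) (by norm_num) (T := T)
        (by rw [h1]; exact not_dvd_index hq5 cast_facts.2.2.1) (by rw [h1]; exact not_dvd_index hq7 cast_facts.2.2.2.1)
        (fun a ha b hb => Subtype.ext (H_comm F4.good _ ha _ hb)) (e := 1152) (by norm_num) (by norm_num)
        (fun g P hP hg => Data.pow_centralises ax (AltSection.coprime_U_H F4.good facts_chevF4 11)
          (H_comm F4.good) (fun l => hw ▸ Data.wl_pow_card ax l) hP hg)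
        ψ (hψ x) (hψ y) (hψ g) hx hx5 hy hy7 hxy (c := 2) (d := 4) (c' := 3) (d' := 6) (by norm_num) (by norm_num)
        (by decide) (by norm_num) (by norm_num) (by decide) hgx hgy
    obtain ⟨N, hN, hconj⟩ := Data.exists_monomial_conj ax (AltSection.coprime_U_H F4.good facts_chevF4 11) h.2
    have hconj' : ∀ (w : ↥(data F4.good E).grp) (m : ℕ), w ∈ T → h * w * h⁻¹ = w ^ m →
        N * (w : GL chevF4.Idx E) * N⁻¹ = (w : GL chevF4.Idx E) ^ m := by
      intro w m hw' e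
      have e' : (h : GL chevF4.Idx E) * w * (h : GL chevF4.Idx E)⁻¹ = (w : GL chevF4.Idx E) ^ m := by
        simpa using congrArg Subtype.val e
      have hwH : (w : GL chevF4.Idx E) ∈ (data F4.good E).H := hw'
      exact (hconj (w : GL chevF4.Idx E) hwH (by rw [e']; exact Subgroup.pow_mem _ hwH m)).symm.trans e'
    obtain ⟨σ, hσ, hval⟩ := monomial_values F4.good facts_chevF4 hN
    obtain ⟨ω5, hω5⟩ : ∃ ω : Eˣ, IsPrimitiveRoot ω 5 := by
      have hdvd : 5 ∣ Fintype.card Eˣ := by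
        rw [← ZMod.natCast_eq_zero_iff, Fintype.card_units, Nat.cast_sub Fintype.card_pos, hq5, Nat.cast_one, sub_self]
      obtain ⟨ω, hω⟩ := exists_prime_orderOf_dvd_card 5 hdvd
      exact ⟨ω, hω ▸ IsPrimitiveRoot.orderOf ω⟩
    obtain ⟨ω7, hω7⟩ : ∃ ω : Eˣ, IsPrimitiveRoot ω 7 := by
      have hdvd : 7 ∣ Fintype.card Eˣ := by
        rw [← ZMod.natCast_eq_zero_iff, Fintype.card_units, Nat.cast_sub Fintype.card_pos, hq7, Nat.cast_one, sub_self]
      obtain ⟨ω, hω⟩ := exists_prime_orderOf_dvd_card 7 hdvd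
      exact ⟨ω, hω ▸ IsPrimitiveRoot.orderOf ω⟩
    obtain ⟨fv, hfv, hfv0, hfv'⟩ := exists_values F4.good facts_chevF4 coef coef_spec hω5
      (show (v : GL chevF4.Idx E) ∈ chevF4.diagonalSubgroup E from hvT)
      (by simpa using congrArg Subtype.val hv5) (fun h0 => hv1 (Subtype.ext h0))
    obtain ⟨fz, hfz, hfz0, hfz'⟩ := exists_values F4.good facts_chevF4 coef coef_spec hω7
      (show (z : GL chevF4.Idx E) ∈ chevF4.diagonalSubgroup E from hzT)
      (by simpa using congrArg Subtype.val hz7) (fun h0 => hz1 (Subtype.ext h0))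
    obtain ⟨a, ha, ha'⟩ := exists_encode 5 fv hfv
    obtain ⟨b, hb, hb'⟩ := exists_encode 7 fz hfz
    -- the relations
    have rel : ∀ {ℓ m : ℕ} {ω : Eˣ}, [Fact ℓ.Prime] → IsPrimitiveRoot ω ℓ → ℓ ∣ 35 → ∀ {c : ℕ}
        {w : ↥(data F4.good E).grp} {f : Fin chevF4.rank → ℕ}, w ∈ T → h * w * h⁻¹ = w ^ m →
        (∀ r < chevF4.nroots, ∀ u, (w : GL chevF4.Idx E) * xe F4.good r u * (w : GL chevF4.Idx E)⁻¹ =
          xe F4.good r ((((ω ^ expo chevF4 coef ℓ f r : Eˣ) : E)) * u)) →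
        (∀ k : Fin 4, c / ℓ ^ k.val % ℓ = f k) →
        ∀ r : Fin chevF4.nroots, lin ℓ c r.val = m * lin ℓ c (σ r).val % ℓ := by
      intro ℓ m ω _ hω h35 c w f hwT hw' hv' hc r
      have h48 : chevF4.nroots = 48 := rfl
      have e := hval _ hwT m (hconj' w m hwT hw') r _ _ (hv' r.val r.2) (hv' (σ r).val (σ r).2)
      rw [← Units.val_pow_eq_pow_val, Units.val_inj, ← pow_mul, lin_eq h35 hc (h48 ▸ (σ r).2),
        lin_eq h35 hc (h48 ▸ r.2), pow_eq_pow_iff_modEq, ← hω.eq_orderOf] at e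
      rw [mul_comm m, e, Nat.mod_eq_of_lt]
      exact Nat.mod_lt _ (Fact.out : ℓ.Prime).pos
    have r5 := rel hω5 (by norm_num) hvT hhv hfv' ha'
    have r7 := rel hω7 (by norm_num) hzT hhz hfz' hb'
    have hlen : ∀ s, lenMask.testBit (σ s).val = lenMask.testBit s.val := by
      obtain ⟨l, hl⟩ := Data.mem_weyl.1 hσ
      intro s
      rw [← hl]
      clear hl
      induction l with
      | nil => rfl
      | cons i l ih => rw [Data.wl_cons, Equiv.Perm.mul_apply, data_refl, len_invariant, ih]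
    -- multisets of values
    have key : ∀ {ℓ m c : ℕ} (P : ℕ → Bool), (∀ s : Fin chevF4.nroots, lin ℓ c s.val = m * lin ℓ c (σ s).val % ℓ) →
        (∀ s : Fin chevF4.nroots, P (σ s).val = P s.val) →
        invVals ℓ m ((List.range 48).filter P) c = true := by
      intro ℓ m c P hlin hP
      rw [invVals, beq_iff_eq]
      have hsum : ∀ φ : ℕ → ℕ, (((List.range 48).filter P).map φ).sum =
          ∑ s : Fin chevF4.nroots, if P s.val then φ s.val else 0 := by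
        intro φ
        rw [← List.sum_toFinset φ ((List.nodup_range).filter _), List.toFinset_filter, List.toFinset_range,
          Finset.sum_filter, Finset.sum_range (f := fun s => if P s then φ s else 0)]
        rfl
      rw [hsum, hsum, ← Equiv.sum_comp σ (fun s : Fin chevF4.nroots => if P s.val then 32 ^ (m * lin ℓ c s.val % ℓ) else 0)]
      exact Finset.sum_congr rfl fun s _ => by rw [hP, hlin s]
    have ha0 : a ≠ 0 := by
      rintro rfl
      obtain ⟨k, hk⟩ := hfv0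
      exact hk (by rw [← ha' k]; simp)
    have hb0 : b ≠ 0 := by
      rintro rfl
      obtain ⟨k, hk⟩ := hfz0
      exact hk (by rw [← hb' k]; simp)
    refine no_joint ha ha0 hb hb0 (key _ r5 hlen) (key _ r7 hlen) ?_
    rw [lenRoots, List.filter_filter]
    exact key _ r7 (fun s => by
      show ((lin 5 a (σ s).val == 0) && lenMask.testBit (σ s).val) = ((lin 5 a s.val == 0) && lenMask.testBit s.val)
      rw [hlen, r5 s]
      have hlt : lin 5 a (σ s).val < 5 := Nat.mod_lt _ (by norm_num)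
      generalize lin 5 a (σ s).val = t at hlt ⊢
      generalize lenMask.testBit s.val = u
      interval_cases t <;> cases u <;> rfl)
  · rw [if_neg hp]
    by_contra hr
    obtain ⟨E, _, _, _, H', ψ, hE, hψ⟩ :=
      exists_extension_section F4.good p (n := 10) (by norm_num) (k := 11) (r := r) (by omega) H K h
    haveI : Fact (Nat.Prime 11) := ⟨by norm_num⟩
    have ax := axioms (F := E) F4.good facts_chevF4
    obtain ⟨hc, hw⟩ := card_grp_levels F4.good facts_chevF4 (F := E) WeylTab.levelsF4 rfl WeylTab.levelsOK_F4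
    rw [weyl_order] at hw
    obtain ⟨h1, -, -⟩ := Data.index_eq ax hc
    have hq : (Fintype.card E : ZMod 11) = 1 := by
      rw [hE, Nat.cast_pow]
      refine ZMod.pow_card_sub_one_eq_one (p := 11) fun h0 => hp ?_
      rw [ZMod.natCast_eq_zero_iff, hn] at h0
      exact ((Nat.prime_dvd_prime_iff_eq (by norm_num) Fact.out).1
        ((show Nat.Prime 11 by norm_num).dvd_of_dvd_pow h0)).symm
    obtain ⟨x, y, hx, h11, hxy⟩ := eleven_pair
    exact no_conj_pair (ℓ := 11) (c₀ := 3) (e₀ := 1152) (by decide +kernel)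
      (T := (data F4.good E).H.subgroupOf (data F4.good E).grp) (by rw [h1]; exact not_dvd_index hq cast_facts.2.2.2.2)
      (fun g P hP hg => Data.pow_centralises ax (AltSection.coprime_U_H F4.good facts_chevF4 p)
        (H_comm F4.good) (fun l => hw ▸ Data.wl_pow_card ax l) hP hg) ψ hψ hx h11 hxy


/-- Alternating sections of the groups of type F₄. Let `F` be a finite field of characteristic `p` and let `G` be the Chevalley group of type F₄ over `F`. If some subgroup of `G` has a quotient isomorphic to the alternating group of degree `r`, then `r` is at most 10, or 11 in characteristic 11. (Only an upper bound is asserted.) -/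
theorem result {F : Type*} [Field F] [Fintype F] (p : ℕ) [Fact p.Prime] [CharP F p]
    (r : ℕ) (H : Subgroup ↥(Cfsg.Lie.chevF4.group F)) (K : Subgroup ↥H) [K.Normal]
    (h : Nonempty (↥H ⧸ K ≃* ↥(alternatingGroup (Fin r)))) :
    r ≤ 10 + (if p = 11 then 1 else 0) := by
  exact bound p r H K h

end Cfsg.Agent.S2657
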