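import Cfsg.Statements.S2658
import Cfsg.Agent.Lib.AltSection.TwoGroup
import Cfsg.Agent.Lib.AltSection.Chev
import Cfsg.Agent.Lib.Chev.Poincare
import Cfsg.Agent.Lib.Chev.CheckG2
import Cfsg.Agent.Lib.Chev.TorusCert
-- import your own Cfsg.Agent.* helpers here

set_option autoImplicit false
open scoped MatrixGroups
open Cfsg

namespace Cfsg.Agent.S2658

open Cfsg.Lie Cfsg.Agent.Chev Cfsg.Agent.Chev.BNSetup Cfsg.Agent.AltSection
open Cfsg.Agent.RootBN (Data)

/-- The elements of the dihedral group as alternating words. -/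
def reps : List (List (Fin 2)) :=
  [[], [0], [1], [0, 1], [1, 0], [0, 1, 0], [1, 0, 1], [0, 1, 0, 1], [1, 0, 1, 0], [0, 1, 0, 1, 0],
    [1, 0, 1, 0, 1], [0, 1, 0, 1, 0, 1]]

/-- The reflections by tables. -/
def rT (i : Fin 2) (o : Fin 12) : Fin 12 := Fin.ofNat 12 (chevG2.reflectRoot i.val o.val)

theorem reps_nil : [] ∈ reps := by decide

theorem reps_closed : ∀ i, ∀ d ∈ reps, ∃ d' ∈ reps, ∀ o,
    Data.tabAct rT (i :: d) o = Data.tabAct rT d' o := by decide +kernel

theorem reps_pow : ∀ d ∈ reps, ∀ o, (Data.tabAct rT d)^[6] o = o := by decide +kernel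

theorem levelsPoly_eq (q : ℕ) :
    RootBN.levelsPoly q WeylTab.levelsG2 = (q + 1) * (q ^ 5 + q ^ 4 + q ^ 3 + q ^ 2 + q + 1) := by
  have h1 : (WeylTab.levelG21.reps.map fun d => q ^ d.length).sum = q + 1 := by
    rw [show (WeylTab.levelG21.reps.map fun d => q ^ d.length) =
      (WeylTab.levelG21.reps.map List.length).map (q ^ ·) by rw [List.map_map]; rfl,
      show WeylTab.levelG21.reps.map List.length = [0, 1] by decide +kernel]
    simp; ring
  have h2 : (WeylTab.levelG22.reps.map fun d => q ^ d.length).sum = q ^ 5 + q ^ 4 + q ^ 3 + q ^ 2 + q + 1 := by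
    rw [show (WeylTab.levelG22.reps.map fun d => q ^ d.length) =
      (WeylTab.levelG22.reps.map List.length).map (q ^ ·) by rw [List.map_map]; rfl,
      show WeylTab.levelG22.reps.map List.length = [0, 1, 2, 3, 4, 5] by decide +kernel]
    simp; ring
  simp only [RootBN.levelsPoly, WeylTab.levelsG2, h1, h2]
  ring

theorem poly_mod (ℓ : ℕ) {q : ℕ} (hq : (q : ZMod ℓ) = 1) :
    ((q ^ 6 * ((q + 1) * (q ^ 5 + q ^ 4 + q ^ 3 + q ^ 2 + q + 1)) : ℕ) : ZMod ℓ) = 12 := by
  push_cast
  rw [hq]
  norm_num

theorem five_pair : ∃ x y : alternatingGroup (Fin 7), x ≠ 1 ∧ x ^ 5 = 1 ∧ y * x * y⁻¹ = x ^ 2 :=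
  ⟨⟨Equiv.swap 0 1 * Equiv.swap 1 2 * Equiv.swap 2 3 * Equiv.swap 3 4, Equiv.Perm.mem_alternatingGroup.2 (by decide +kernel)⟩,
    ⟨Equiv.swap 1 2 * Equiv.swap 2 4 * Equiv.swap 4 3 * Equiv.swap 5 6, Equiv.Perm.mem_alternatingGroup.2 (by decide +kernel)⟩,
    by decide +kernel⟩

theorem bound {F : Type*} [Field F] [Fintype F] (p : ℕ) [Fact p.Prime] [CharP F p]
    (r : ℕ) (H : Subgroup ↥(chevG2.group F)) (K : Subgroup ↥H) [K.Normal]
    (h : Nonempty (↥H ⧸ K ≃* ↥(alternatingGroup (Fin r)))) :
    r ≤ 6 + (if p = 5 then 1 else 0) := by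
  classical
  obtain ⟨n, -, hn⟩ := FiniteField.card F p
  by_cases hp : p = 5
  · subst hp
    rw [if_pos rfl]
    by_contra hr
    obtain ⟨E, _, _, _, H', ψ, hE, hψ⟩ :=
      exists_extension_section G2.good 5 (n := 1) one_ne_zero (k := 8) (r := r) (by omega) H K h
    rw [pow_one, hn] at hE
    have ax := axioms (F := E) G2.good facts_chevG2
    obtain ⟨hc, hw⟩ := card_grp_levels G2.good facts_chevG2 (F := E) WeylTab.levelsG2 rfl WeylTab.levelsOK_G2
    obtain ⟨h1, h2, h3⟩ := Data.index_eq ax hc
    rw [hw, show RootBN.levelsPoly 1 WeylTab.levelsG2 = 12 by rw [levelsPoly_eq]; norm_num] at h2 h3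
    have hq8 : (Fintype.card E : ZMod 8) = 5 ∨ (Fintype.card E : ZMod 8) = 1 := by
      rw [hE]
      induction (n : ℕ) with
      | zero => right; simp
      | succ e ih => rw [pow_succ, Nat.cast_mul]; rcases ih with h | h <;> rw [h] <;> decide
    refine no_eight_section (A := (data G2.good E).H.subgroupOf (data G2.good E).grp)
      (Nn := (data G2.good E).N.subgroupOf (data G2.good E).grp) (fun _ hx => Data.H_le_N hx)
      (fun _ hn' _ ha => Data.N_conj_H ax hn' ha)
      (fun a ha b hb => Subtype.ext (H_comm G2.good _ ha _ hb)) ?_ (fun hd => ?_) (by rw [h3]; norm_num) ψ hψ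
    · have hker : Nat.card (torusHom E chevG2).ker = 1 := by
        rw [card_ker_torusHom G2.good kerCertG2 kerCertG2_valid]
        simp
      have hinj : Function.Injective (torusHom E chevG2) :=
        (MonoidHom.ker_eq_bot_iff _).1 (Subgroup.eq_bot_of_card_eq _ hker)
      have hroot : Nat.card {u : Eˣ // u * u = 1} ≤ 2 := by
        refine (Nat.card_le_card_of_injective (fun u => if (u.1 : E) = 1 then (0 : Fin 2) else 1) ?_).trans
          (Nat.card_fin 2).le
        intro u v huv
        have hs : ∀ w : {u : Eˣ // u * u = 1}, (w.1 : E) = 1 ∨ (w.1 : E) = -1 := fun w =>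
          mul_self_eq_one_iff.1 (by rw [← Units.val_mul, w.2, Units.val_one])
        apply Subtype.ext
        apply Units.ext
        rcases hs u with hu | hu <;> rcases hs v with hv | hv <;> rw [hu, hv] <;> simp [hu, hv] at huv ⊢
        all_goals first | exact huv | exact huv.symm
      have hex : ∀ a : {a : ↥((data G2.good E).H.subgroupOf (data G2.good E).grp) // a ^ 2 = 1},
          ∃ c : Fin 2 → {u : Eˣ // u * u = 1},
            torusHom E chevG2 (fun i : Fin 2 => (c i).1) = ((a.1.1 : (data G2.good E).grp) : GL chevG2.Idx E) := by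
        intro a
        have h0 : ((a.1.1 : (data G2.good E).grp) : GL chevG2.Idx E) ∈ chevG2.diagonalSubgroup E := a.1.2
        rw [diagonal_eq_range G2.good] at h0
        obtain ⟨c, hc'⟩ := h0
        have hc2 : c * c = 1 := by
          refine hinj ?_
          rw [map_mul, map_one, hc', ← sq]
          exact congrArg (fun z : ↥((data G2.good E).H.subgroupOf (data G2.good E).grp) =>
            ((z.1 : (data G2.good E).grp) : GL chevG2.Idx E)) a.2
        exact ⟨fun i => ⟨c i, congrFun hc2 i⟩, hc'⟩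
      choose f hf using hex
      refine (Nat.card_le_card_of_injective f fun a b e => ?_).trans ?_
      · refine Subtype.ext (Subtype.ext (Subtype.ext ?_))
        rw [← hf a, ← hf b, e]
      · rw [Nat.card_fun, Nat.card_fin]
        calc Nat.card {u : Eˣ // u * u = 1} ^ 2 ≤ 2 ^ 2 := Nat.pow_le_pow_left hroot 2
          _ = 4 := by norm_num
    · obtain ⟨e, he⟩ := hd
      rw [he, levelsPoly_eq] at h2
      have h8 := congrArg (fun x : ℕ => (x : ZMod 8)) h2
      push_cast at h8
      rcases hq8 with h | h <;> rw [h] at h8 <;> generalize (e : ZMod 8) = z at h8 <;> revert h8 <;>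
        revert z <;> decide
  · rw [if_neg hp]
    by_contra hr
    obtain ⟨E, _, _, _, H', ψ, hE, hψ⟩ :=
      exists_extension_section G2.good p (n := 4) (by norm_num) (k := 7) (r := r) (by omega) H K h
    have ax := axioms (F := E) G2.good facts_chevG2
    obtain ⟨hc, hw⟩ := card_grp_levels G2.good facts_chevG2 (F := E) WeylTab.levelsG2 rfl WeylTab.levelsOK_G2
    obtain ⟨h1, -, -⟩ := Data.index_eq ax hc
    haveI : Fact (Nat.Prime 5) := ⟨by norm_num⟩
    have hq : (Fintype.card E : ZMod 5) = 1 := by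
      rw [hE, Nat.cast_pow]
      refine ZMod.pow_card_sub_one_eq_one (p := 5) fun h0 => hp ?_
      rw [ZMod.natCast_eq_zero_iff, hn] at h0
      exact ((Nat.prime_dvd_prime_iff_eq (by norm_num) Fact.out).1
        ((show Nat.Prime 5 by norm_num).dvd_of_dvd_pow h0)).symm
    obtain ⟨x, y, hx, h5, hxy⟩ := five_pair
    refine no_conj_pair (ℓ := 5) (c₀ := 2) (e₀ := 6) (by decide)
      (T := (data G2.good E).H.subgroupOf (data G2.good E).grp) (fun hd => ?_)
      (fun g P hP hg => Data.pow_centralises ax (AltSection.coprime_U_H G2.good facts_chevG2 p)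
        (H_comm G2.good) (Data.wl_pow_eq_one rT (fun i o => Fin.ext ?_) reps reps_nil reps_closed reps_pow)
        hP hg) ψ hψ hx h5 hxy
    · rw [h1, levelsPoly_eq] at hd
      have h12 := poly_mod 5 hq
      rw [show chevG2.nroots / 2 = 6 by rfl, (ZMod.natCast_eq_zero_iff _ _).2 hd] at *
      exact absurd h12.symm (by decide)
    · rw [rT, Fin.val_ofNat]
      exact (Nat.mod_eq_of_lt ((G2.good).reflectRoot_lt i.2 o.2)).symm


/-- Alternating sections of the groups of type G₂. Let `F` be a finite field of characteristic `p` and let `G` be the Chevalley group of type G₂ over `F`. If some subgroup of `G` has a quotient isomorphic to the alternating group of degree `r`, then `r` is at most 6, or 7 in characteristic 5. (Only an upper bound is asserted.) -/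
theorem result {F : Type*} [Field F] [Fintype F] (p : ℕ) [Fact p.Prime] [CharP F p]
    (r : ℕ) (H : Subgroup ↥(Cfsg.Lie.chevG2.group F)) (K : Subgroup ↥H) [K.Normal]
    (h : Nonempty (↥H ⧸ K ≃* ↥(alternatingGroup (Fin r)))) :
    r ≤ 6 + (if p = 5 then 1 else 0) := by
  exact bound p r H K h

end Cfsg.Agent.S2658
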