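import Cfsg.Statements.S2660
import Cfsg.Agent.Lib.AltSection.TwoGroup
import Cfsg.Agent.Lib.AltSection.Chev
import Cfsg.Agent.Lib.Chev.TwistOrderD4
-- import your own Cfsg.Agent.* helpers here

set_option autoImplicit false
open scoped MatrixGroups
open Cfsg

namespace Cfsg.Agent.S2660

open Cfsg.Lie Cfsg.Agent.Chev Cfsg.Agent.Chev.BNSetup Cfsg.Agent.AltSection
open Cfsg.Agent.RootBN (Data)

/-- The elements of the dihedral group as alternating words. -/
def reps : List (List (Fin 2)) :=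
  [[], [0], [1], [0, 1], [1, 0], [0, 1, 0], [1, 0, 1], [0, 1, 0, 1], [1, 0, 1, 0], [0, 1, 0, 1, 0],
    [1, 0, 1, 0, 1], [0, 1, 0, 1, 0, 1]]

theorem reps_nil : [] ∈ reps := by decide

theorem reps_closed : ∀ i, ∀ d ∈ reps, ∃ d' ∈ reps, ∀ o,
    Data.tabAct (orbD4.reflF 12 2) (i :: d) o = Data.tabAct (orbD4.reflF 12 2) d' o := by decide +kernel

theorem reps_pow : ∀ d ∈ reps, ∀ o, (Data.tabAct (orbD4.reflF 12 2) d)^[6] o = o := by decide +kernel

theorem five_pair : ∃ x y : alternatingGroup (Fin 7), x ≠ 1 ∧ x ^ 5 = 1 ∧ y * x * y⁻¹ = x ^ 2 :=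
  ⟨⟨Equiv.swap 0 1 * Equiv.swap 1 2 * Equiv.swap 2 3 * Equiv.swap 3 4, Equiv.Perm.mem_alternatingGroup.2 (by decide +kernel)⟩,
    ⟨Equiv.swap 1 2 * Equiv.swap 2 4 * Equiv.swap 4 3 * Equiv.swap 5 6, Equiv.Perm.mem_alternatingGroup.2 (by decide +kernel)⟩,
    by decide +kernel⟩

theorem pow_reduce {K : Type*} [Field K] [Fintype K] {q : ℕ} (hK : Fintype.card K = q ^ 3) (t : K) (i j : ℕ) :
    t ^ q ^ (3 * i + j) = t ^ q ^ j := by
  induction i with
  | zero => simp
  | succ i ih =>
    rw [show 3 * (i + 1) + j = (3 * i + j) + 3 by ring, pow_add, pow_mul, ← hK, FiniteField.pow_card, ih]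

theorem map_words {K E : Type*} [Field K] [Fintype K] [Field E] (f : K →+* E) {q : ℕ}
    (hK : Fintype.card K = q ^ 3) :
    (twistedD4 K q).map (entryMap chevD4 f) ≤ twistedD4 E (q ^ 4) := by
  unfold twistedD4 ChevalleyDatum.genSubgroup
  rw [MonoidHom.map_closure, Subgroup.closure_le]
  rintro _ ⟨g, ⟨w, hw, hg⟩, rfl⟩
  refine Subgroup.subset_closure ⟨w.map fun a => (a.1, f a.2), ?_, ?_⟩
  · rcases hw with ⟨t, ht, r, hr, rfl⟩ | ⟨t, rs, hrs, rfl⟩
    · refine Or.inl ⟨f t, ?_, r, hr, rfl⟩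
      rw [← map_pow, show q ^ 4 = q ^ (3 * 1 + 1) from rfl, pow_reduce hK, pow_one, ht]
    · refine Or.inr ⟨f t, rs, hrs, ?_⟩
      simp only [List.map_cons, List.map_nil, ← map_pow]
      rw [show (q ^ 4) ^ 2 = q ^ (3 * 2 + 2) by ring, pow_reduce hK,
        show q ^ 4 = q ^ (3 * 1 + 1) from rfl, pow_reduce hK, pow_one]
  · show ((entryMap chevD4 f g : GL chevD4.Idx E) : Matrix chevD4.Idx chevD4.Idx E) = _
    have key : ∀ w : List (ℕ × K), (chevD4.wordMat K w).map f =
        chevD4.wordMat E (w.map fun a => (a.1, f a.2)) := by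
      intro w
      induction w with
      | nil =>
        simp only [ChevalleyDatum.wordMat, List.map_nil, List.prod_nil]
        exact Matrix.map_one _ (map_zero f) (map_one f)
      | cons a w ih =>
        simp only [ChevalleyDatum.wordMat, List.map_cons, List.prod_cons] at ih ⊢
        rw [Matrix.map_mul, x_map, ih]
    rw [← key, ← hg]
    rfl

theorem twelve_ne : ((1 : ZMod 5) ^ 12 * ((1 + 1) * ((1 ^ 3 + 1) * (1 ^ 8 + 1 ^ 4 + 1)))) ≠ 0 := by decide

theorem bound {K : Type*} [Field K] [Fintype K] (p a : ℕ) [Fact p.Prime] [CharP K p]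
    (ha : 1 ≤ a) (hK : Fintype.card K = (p ^ a) ^ 3) (r : ℕ) (H : Subgroup ↥(twistedD4 K (p ^ a)))
    (N : Subgroup ↥H) [N.Normal] (h : Nonempty (↥H ⧸ N ≃* ↥(alternatingGroup (Fin r)))) :
    r ≤ 6 + (if p = 5 then 1 else 0) := by
  classical
  haveI : Algebra (ZMod p) K := ZMod.algebra K p
  let E := FiniteField.Extension K p 4
  haveI : Fintype E := Fintype.ofFinite E
  haveI : CharP E p := charP_of_injective_algebraMap (algebraMap K E).injective p
  set q := (p ^ a) ^ 4 with hq
  have hE : Fintype.card E = q ^ 3 := by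
    rw [← Nat.card_eq_fintype_card, FiniteField.natCard_extension, Nat.card_eq_fintype_card, hK, hq]
    ring
  have hqpp : IsPrimePow q :=
    ⟨p, a * 4, (Fact.out : p.Prime).prime, by omega, by rw [hq, ← pow_mul]⟩
  obtain ⟨φ, hφ, hGt, hcube, hfix⟩ := exists_frob3 (K := E) hqpp hE
  have hT := tw3D4_axioms φ
  haveI : Finite (GL chevD4.Idx E) := inferInstance
  have ax := RootBN.Twist.data_axioms hT
  have hgrp : (tw3D4 φ).data.grp = twistedD4 E q := hGt
  let ψ₀ : ↥(twistedD4 K (p ^ a)) →* ↥((tw3D4 φ).data.grp) :=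
    ((entryMap chevD4 (algebraMap K E)).comp (twistedD4 K (p ^ a)).subtype).codRestrict _ fun x => by
      rw [hgrp]; exact map_words _ hK (Subgroup.mem_map_of_mem _ x.2)
  have hψ₀ : Function.Injective ψ₀ := fun x y e =>
    Subtype.ext (AltSection.entryMap_injective D4.good _ (congrArg Subtype.val e))
  have hHle : (tw3D4 φ).data.H ≤ (data D4.good E).H := fun _ h => h.1
  have hcop : (Nat.card (tw3D4 φ).data.U).Coprime (Nat.card (tw3D4 φ).data.H) := by
    have h0 := AltSection.coprime_U_H D4.good facts_chevD4 (F := E) p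
    exact (h0.coprime_dvd_left (Subgroup.card_dvd_of_le (RootBN.Twist.U'_le_U hT))).coprime_dvd_right
      (Subgroup.card_dvd_of_le hHle)
  have hcomm : ∀ x ∈ (tw3D4 φ).data.H, ∀ y ∈ (tw3D4 φ).data.H, x * y = y * x :=
    fun x hx y hy => AltSection.H_comm D4.good x (hHle hx) y (hHle hy)
  have hHcard : Nat.card (tw3D4 φ).data.H = (q - 1) * (q ^ 3 - 1) := card_diagonal_inf_D4 hE hcube hfix
  have hpoly := poly_twLevelsD4 q
  have hcard : Nat.card (tw3D4 φ).data.grp = q ^ 12 * Nat.card (tw3D4 φ).data.H *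
      ((q + 1) * ((q ^ 3 + 1) * (q ^ 8 + q ^ 4 + 1))) := by
    rw [hHcard, ← hpoly]
    exact card_twistedD4 hE hcube hfix
  obtain ⟨h1, h2, h3⟩ := Data.index_eq ax hcard
  by_cases hp : p = 5
  · subst hp
    rw [if_pos rfl]
    by_contra hr
    obtain ⟨H', ψ, hψ⟩ := exists_section_of_hom ψ₀ hψ₀ (k := 8) (r := r) (by omega) H N h
    have hw : (tw3D4 φ).data.weyl.card = 12 := by
      have hs := RootBN.Data.sum_weyl_of_wlevels ax (RootBN.Twist.isWeight hT)
        (refl := orbD4.reflF 12 2) (simp := orbD4.simpF 12 2)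
        (opp := fun o => orbD4.orbF 12 (chevD4.nroots - 1 - orbD4.repF 12 o))
        (pos := fun o => decide (chevD4.nroots / 2 ≤ orbD4.repF 12 o))
        (fun i r => rfl) (fun i => rfl)
        (fun o => by
          show orbD4.orbF 12 (chevD4.neg (orbD4.repF 12 o)) = _
          rw [neg_eq facts_chevD4 (orbD4_ok.2.1.1 o).1])
        (fun o => by rw [decide_eq_true_eq]; rfl) twLevelsD4 rfl twLevelsD4_ok 1
      simp only [one_pow, Finset.sum_const, smul_eq_mul, mul_one] at hs
      rw [hs]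
      have hlen : ∀ j, ((tw3D4 φ).J j).length = (orbD4.Jl 2 j).length := fun j => by
        rw [← J_val D4.good orbD4_ok φ j, List.length_map]
        rfl
      simp only [hlen]
      rw [poly_twLevelsD4]
      norm_num
    rw [hw] at h2 h3
    have hq8 : (q : ZMod 8) = 1 := by
      rw [hq, ← pow_mul, mul_comm, pow_mul, Nat.cast_pow]
      rw [show ((5 ^ 4 : ℕ) : ZMod 8) = 1 by decide, one_pow]
    refine no_eight_section (A := (tw3D4 φ).data.H.subgroupOf (tw3D4 φ).data.grp)
      (Nn := (tw3D4 φ).data.N.subgroupOf (tw3D4 φ).data.grp) (fun _ hx => Data.H_le_N hx)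
      (fun _ hn' _ hx => Data.N_conj_H ax hn' hx)
      (fun x hx y hy => Subtype.ext (hcomm _ hx _ hy)) ?_ (fun hd => ?_) (by rw [h3]; norm_num) ψ hψ
    · have hroot : Nat.card {u : Eˣ // u * u = 1} ≤ 2 := by
        refine (Nat.card_le_card_of_injective (fun u => if (u.1 : E) = 1 then (0 : Fin 2) else 1) ?_).trans
          (Nat.card_fin 2).le
        intro u v huv
        have hs : ∀ w : {u : Eˣ // u * u = 1}, (w.1 : E) = 1 ∨ (w.1 : E) = -1 := fun w =>
          mul_self_eq_one_iff.1 (by rw [← Units.val_mul, w.2, Units.val_one])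
        apply Subtype.ext
        apply Units.ext
        rcases hs u with hu | hu <;> rcases hs v with hv | hv <;> rw [hu, hv] <;> simp [hu, hv] at huv ⊢
        all_goals first | exact huv | exact huv.symm
      have hex : ∀ x : {x : ↥((tw3D4 φ).data.H.subgroupOf (tw3D4 φ).data.grp) // x ^ 2 = 1},
          ∃ c : {u : Eˣ // u * u = 1} × {u : Eˣ // u * u = 1}, ∃ τ ∈ fixedTorus orbD4_ok φ,
            (show Fin 4 → Eˣ from τ) 0 = c.1.1 ∧ (show Fin 4 → Eˣ from τ) 1 = c.2.1 ∧
            torusHom E chevD4 τ = ((x.1.1 : ↥((tw3D4 φ).data.grp)) : GL chevD4.Idx E) := by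
        intro x
        have h0 : ((x.1.1 : ↥((tw3D4 φ).data.grp)) : GL chevD4.Idx E) ∈ (tw3D4 φ).data.H := x.1.2
        obtain ⟨τ, hτ, hτx⟩ := fixed_diagonal_le D4.good orbD4_ok φ facts_chevD4 graphD4_cols (m := 3) (d := 2)
          (by norm_num) (by show ∀ i : Fin 4, _; intro i; fin_cases i <;> rfl) hcube invCartanD4
          (by decide +kernel) h0.1 (RootBN.Twist.mem_Fix.1 (RootBN.Twist.Gt_le_Fix h0.2))
        have h2 : τ * τ = 1 := by
          rw [← Subgroup.mem_bot, ← ker_inf_fixedTorusD4 φ]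
          refine ⟨?_, Subgroup.mul_mem _ hτ hτ⟩
          show torusHom E chevD4 (τ * τ) = 1
          rw [map_mul, hτx, ← sq]
          exact congrArg (fun z : ↥((tw3D4 φ).data.H.subgroupOf (tw3D4 φ).data.grp) =>
            ((z.1 : ↥((tw3D4 φ).data.grp)) : GL chevD4.Idx E)) x.2
        exact ⟨(⟨_, congrFun h2 ⟨0, by decide⟩⟩, ⟨_, congrFun h2 ⟨1, by decide⟩⟩), τ, hτ, rfl, rfl, hτx⟩
      choose f τ hτ hf0 hf1 hfx using hex
      refine (Nat.card_le_card_of_injective f fun x y e => ?_).trans ?_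
      · refine Subtype.ext (Subtype.ext (Subtype.ext ?_))
        rw [← hfx x, ← hfx y]
        refine congrArg _ ?_
        have h0 : (show Fin 4 → Eˣ from τ x) 0 = (show Fin 4 → Eˣ from τ y) 0 := by rw [hf0, hf0, e]
        have h1 : (show Fin 4 → Eˣ from τ x) 1 = (show Fin 4 → Eˣ from τ y) 1 := by rw [hf1, hf1, e]
        have key : (⟨τ x, hτ x⟩ : fixedTorus orbD4_ok φ) = ⟨τ y, hτ y⟩ :=
          (fixedTorusD4Equiv φ hcube).injective (Prod.ext (Subtype.ext h1) h0)
        exact congrArg Subtype.val key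
      · rw [Nat.card_prod]
        calc _ ≤ 2 * 2 := Nat.mul_le_mul hroot hroot
          _ = 4 := by norm_num
    · obtain ⟨e, he⟩ := hd
      rw [he] at h2
      have h8 := congrArg (fun x : ℕ => (x : ZMod 8)) h2
      push_cast at h8
      rw [hq8] at h8
      generalize (e : ZMod 8) = z at h8
      revert h8; revert z
      decide
  · rw [if_neg hp]
    by_contra hr
    obtain ⟨H', ψ, hψ⟩ := exists_section_of_hom ψ₀ hψ₀ (k := 7) (r := r) (by omega) H N h
    haveI : Fact (Nat.Prime 5) := ⟨by norm_num⟩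
    have hq5 : (q : ZMod 5) = 1 := by
      rw [hq, Nat.cast_pow, Nat.cast_pow]
      refine ZMod.pow_card_sub_one_eq_one (p := 5) (pow_ne_zero _ fun h0 => hp ?_)
      rw [ZMod.natCast_eq_zero_iff] at h0
      exact ((Nat.prime_dvd_prime_iff_eq (by norm_num) Fact.out).1 h0).symm
    obtain ⟨x, y, hx, h5, hxy⟩ := five_pair
    refine no_conj_pair (ℓ := 5) (c₀ := 2) (e₀ := 6) (by decide)
      (T := (tw3D4 φ).data.H.subgroupOf (tw3D4 φ).data.grp) (fun hd => ?_)
      (fun g P hP hg => Data.pow_centralises ax hcop hcomm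
        (Data.wl_pow_eq_one (orbD4.reflF 12 2) (fun i o => rfl) reps reps_nil reps_closed reps_pow)
        hP hg) ψ hψ hx h5 hxy
    rw [h1] at hd
    have h0 := (ZMod.natCast_eq_zero_iff _ 5).2 hd
    push_cast at h0
    rw [hq5] at h0
    exact twelve_ne h0


/-- Alternating sections of the triality-twisted groups ³D₄. Let `q = p^a` be a prime power and `K` a field with `q³` elements, and let `G` be the twisted group ³D₄(q) realised over `K`. If some subgroup of `G` has a quotient isomorphic to the alternating group of degree `r`, then `r` is at most 6, or 7 in characteristic 5. (Only an upper bound is asserted.) -/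
theorem result {K : Type*} [Field K] [Fintype K] (p a : ℕ) [Fact p.Prime] [CharP K p]
    (ha : 1 ≤ a) (hK : Fintype.card K = (p ^ a) ^ 3) (r : ℕ) (H : Subgroup ↥(Cfsg.Lie.twistedD4 K (p ^ a))) (N : Subgroup ↥H) [N.Normal]
    (h : Nonempty (↥H ⧸ N ≃* ↥(alternatingGroup (Fin r)))) :
    r ≤ 6 + (if p = 5 then 1 else 0) := by
  exact bound p a ha hK r H N h

end Cfsg.Agent.S2660
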