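import Cfsg.Statements.S2661
import Cfsg.Agent.Lib.Twisted.F4.Structure
import Cfsg.Agent.Lib.Twisted.F4.Weyl
import Cfsg.Agent.Lib.RootBN.TorusFusion
import Cfsg.Agent.Lib.AltSection.Seven
-- import your own Cfsg.Agent.* helpers here

set_option autoImplicit false
open scoped MatrixGroups
open Cfsg

namespace Cfsg.Agent.S2661

section

open Cfsg.Lie Cfsg.Agent.Chev Cfsg.Agent.Chev.BNSetup Cfsg.Agent.Twisted.F4
open Cfsg.Agent.RootBN (Data)

variable {F : Type*} [Field F] [Fintype F] [CharP F 2] {m : ℕ} (hK : Fintype.card F = 2 ^ (2 * m + 1))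
include hK

omit hK in
theorem act_pow : ∀ d ∈ reps, ∀ o, (act d)^[16] o = o := by decide +kernel

theorem pow16_mem_H {n : G F} (hn : n ∈ (tw hK).data.N) : n ^ 16 ∈ (tw hK).data.H := by
  classical
  obtain ⟨l, hl⟩ := Data.exists_acts (dax hK) hn
  have hσ : ((tw hK).data.wl l) ^ 16 = 1 := by
    have hm : (tw hK).data.wl l ∈ (tw hK).data.weyl := Data.mem_weyl.2 ⟨l, rfl⟩
    rw [weyl_eq hK, List.mem_toFinset, List.mem_map] at hm
    obtain ⟨d, hd, e⟩ := hm
    rw [← e]
    refine Equiv.ext fun o => ?_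
    rw [Equiv.Perm.coe_pow, show ((tw hK).data.wl d : Fin 16 → Fin 16) = act d from funext (wl_act hK d)]
    exact act_pow d hd o
  have hp : ∀ e : ℕ, (tw hK).data.Acts (n ^ e) ((tw hK).data.wl l ^ e) := by
    intro e
    induction e with
    | zero => simpa using Data.acts_one
    | succ e ih => rw [pow_succ, pow_succ]; exact ih.mul hl
  refine Data.mem_H_of_pos_preserving (dax hK) ((tw hK).data.N.pow_mem hn _) (hp 16) fun r hr => ?_
  rw [hσ]
  exact hr

theorem H_comm {s t : G F} (hs : s ∈ (tw hK).data.H) (ht : t ∈ (tw hK).data.H) : s * t = t * s := by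
  obtain ⟨p, rfl⟩ := (mem_H'_iff hK).1 hs
  obtain ⟨p', rfl⟩ := (mem_H'_iff hK).1 ht
  exact ((Commute.all p p').map ((tG F).comp (cvec F m))).eq

theorem coprime_U_H : (Nat.card (tw hK).data.U).Coprime (Nat.card (tw hK).data.H) := by
  rw [Twisted.F4.card_U hK, card_H hK, hK]
  refine Nat.Coprime.pow_left _ (Nat.Coprime.pow_left _ (Nat.Coprime.pow_right _ ?_))
  rw [Nat.coprime_two_left, pow_succ]
  have : 1 ≤ 2 ^ (2 * m) := Nat.one_le_two_pow
  exact ⟨2 ^ (2 * m) - 1, by omega⟩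

omit hK in
theorem seven_not_dvd (e : ℕ) : let q := 2 ^ e
    ¬ 7 ∣ q ^ 12 * (q + 1) * (q ^ 2 + 1) * (q ^ 3 + 1) * (q ^ 6 + 1) := by
  intro q h
  have h7 : ((q ^ 12 * (q + 1) * (q ^ 2 + 1) * (q ^ 3 + 1) * (q ^ 6 + 1) : ℕ) : ZMod 7) = 0 :=
    (ZMod.natCast_eq_zero_iff _ _).2 h
  have hq : (q : ZMod 7) = 1 ∨ (q : ZMod 7) = 2 ∨ (q : ZMod 7) = 4 := by
    clear h h7
    show ((2 ^ e : ℕ) : ZMod 7) = 1 ∨ ((2 ^ e : ℕ) : ZMod 7) = 2 ∨ ((2 ^ e : ℕ) : ZMod 7) = 4
    induction e with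
    | zero => left; simp
    | succ e ih => rw [pow_succ, Nat.cast_mul]; rcases ih with h | h | h <;> rw [h] <;> decide
  push_cast at h7
  rcases hq with h | h | h <;> rw [h] at h7 <;> exact absurd h7 (by decide)

theorem bound (r : ℕ) (S : Subgroup ↥(twistedF4 F (2 ^ m))) (N : Subgroup ↥S) [N.Normal]
    (h : Nonempty (↥S ⧸ N ≃* ↥(alternatingGroup (Fin r)))) : r ≤ 6 := by
  classical
  set e := equivTwisted hK with he
  set φ : ↥(twistedF4 F (2 ^ m)) →* G F := (tw hK).Gt.subtype.comp e.symm.toMonoidHom with hφ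
  have hφinj : Function.Injective φ := (Subgroup.subtype_injective _).comp e.symm.injective
  set T : Subgroup ↥(twistedF4 F (2 ^ m)) := (tw hK).data.H.comap φ with hT
  have hcardT : Nat.card T = (Fintype.card F - 1) ^ 2 := by
    rw [← card_H hK, ← Subgroup.card_map_of_injective (K := T) hφinj, hT, Subgroup.map_comap_eq_self]
    intro t ht
    obtain ⟨p, rfl⟩ := (mem_H'_iff hK).1 ht
    exact ⟨e ⟨_, tG_cvec_mem hK p⟩, by simp [hφ]⟩
  refine AltSection.degree_le_six (T := T) (k := 4) (fun h7 => ?_) (fun g P hP hg z hz => ?_) S N h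
  · have hidx : (Fintype.card F - 1) ^ 2 * T.index = (Fintype.card F - 1) ^ 2 *
        (Fintype.card F ^ 12 * (Fintype.card F + 1) * (Fintype.card F ^ 2 + 1) *
          (Fintype.card F ^ 3 + 1) * (Fintype.card F ^ 6 + 1)) := by
      rw [← hcardT, Subgroup.card_mul_index, card_twisted' hK, hcardT]
      obtain ⟨c, hc⟩ : ∃ c, Fintype.card F = c + 1 :=
        ⟨Fintype.card F - 1, (Nat.succ_pred_eq_of_pos Fintype.card_pos).symm⟩
      rw [hc, Nat.add_sub_cancel]
      have : (c + 1) ^ 4 - 1 = c * ((c + 2) * ((c + 1) ^ 2 + 1)) := by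
        have : (c + 1) ^ 4 = c * ((c + 2) * ((c + 1) ^ 2 + 1)) + 1 := by ring
        omega
      rw [this]; ring
    have hpos : 0 < (Fintype.card F - 1) ^ 2 := pow_pos (by have := Fintype.one_lt_card (α := F); omega) _
    rw [Nat.eq_of_mul_eq_mul_left hpos hidx, hK] at h7
    exact seven_not_dvd _ h7
  · obtain ⟨n, hn, hconj⟩ := Data.exists_monomial_conj (dax hK) (coprime_U_H hK) (g := φ g)
      (by rw [grp_eq hK]; exact (e.symm g).2)
    have hiter : ∀ j : ℕ, ∀ w ∈ P, g ^ j * w * (g ^ j)⁻¹ ∈ P ∧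
        φ (g ^ j * w * (g ^ j)⁻¹) = n ^ j * φ w * (n ^ j)⁻¹ := by
      intro j
      induction j with
      | zero => intro w hw; simp [hw]
      | succ j ih =>
        intro w hw
        obtain ⟨h1, h2⟩ := ih w hw
        have h3 := hg _ h1
        have e1 : g ^ (j + 1) * w * (g ^ (j + 1))⁻¹ = g * (g ^ j * w * (g ^ j)⁻¹) * g⁻¹ := by
          rw [pow_succ']; group
        have e2 : n ^ (j + 1) * φ w * (n ^ (j + 1))⁻¹ = n * (n ^ j * φ w * (n ^ j)⁻¹) * n⁻¹ := by
          rw [pow_succ']; group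
        refine ⟨e1 ▸ h3, ?_⟩
        rw [e1, e2, ← h2, map_mul, map_mul, map_inv]
        refine hconj _ (hP h1) ?_
        rw [← map_inv, ← map_mul, ← map_mul]
        exact hP h3
    obtain ⟨-, h2⟩ := hiter (2 ^ 4) z hz
    refine hφinj (h2.trans ?_)
    rw [show (2 : ℕ) ^ 4 = 16 from rfl, H_comm hK (pow16_mem_H hK hn) (hP hz), mul_inv_cancel_right]

end

/-- Alternating sections of the large Ree groups ²F₄. Let `m ≥ 1`, let `K` be a field with `2^(2m+1)` elements and let `G` be the large Ree group ²F₄(2^(2m+1)) realised over `K`. If some subgroup of `G` has a quotient isomorphic to the alternating group of degree `r`, then `r ≤ 6`. (Only an upper bound is asserted.) -/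
theorem result {K : Type*} [Field K] [Fintype K] {m : ℕ} (hm : 1 ≤ m)
    (hK : Fintype.card K = 2 ^ (2 * m + 1)) (r : ℕ) (H : Subgroup ↥(Cfsg.Lie.twistedF4 K (2 ^ m))) (N : Subgroup ↥H) [N.Normal]
    (h : Nonempty (↥H ⧸ N ≃* ↥(alternatingGroup (Fin r)))) :
    r ≤ 6 := by
  haveI : CharP K 2 := Cfsg.Agent.Twisted.F4.charP_two hK
  exact bound hK r H N h

end Cfsg.Agent.S2661
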