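import Cfsg.Statements.S2665
-- import your own Cfsg.Agent.* helpers here

set_option autoImplicit false
open scoped MatrixGroups
open Cfsg

namespace Cfsg.Agent.S2665

open Polynomial in
/-- A `q`-semilinear injective map of a nonzero finite-dimensional space over an algebraically closed
field of characteristic `p` has a nonzero fixed vector. -/
theorem exists_fixed {K V : Type*} [Field K] [IsAlgClosed K] [AddCommGroup V] [Module K V]
    [FiniteDimensional K V] [Nontrivial V] (p f : ℕ) [Fact p.Prime] [CharP K p] (hf : 1 ≤ f)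
    (φ : V →+ V) (hsl : ∀ (c : K) (v : V), φ (c • v) = c ^ (p ^ f) • φ v) (hinj : Function.Injective φ) :
    ∃ w : V, w ≠ 0 ∧ φ w = w := by
  classical
  set q := p ^ f with hq
  have hq2 : 2 ≤ q := (Fact.out : p.Prime).two_le.trans (Nat.le_self_pow (by omega) p)
  obtain ⟨v, hv⟩ := exists_ne (0 : V)
  let S : ℕ → Submodule K V := fun k => Submodule.span K ((fun i => φ^[i] v) '' Set.Iio k)
  have hmono : Monotone S := fun a b hab =>
    Submodule.span_mono (Set.image_mono (Set.Iio_subset_Iio hab))
  have hex : ∃ k, φ^[k] v ∈ S k := by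
    by_contra hcon
    push Not at hcon
    have hlt : ∀ k, k ≤ Module.finrank K (S k) := by
      intro k
      induction k with
      | zero => exact Nat.zero_le _
      | succ k ih =>
        refine Nat.succ_le_of_lt (lt_of_le_of_lt ih (Submodule.finrank_lt_finrank_of_lt ?_))
        refine lt_of_le_of_ne (hmono (Nat.le_succ k)) (fun h => hcon k ?_)
        rw [h]
        exact Submodule.subset_span ⟨k, Nat.lt_succ_self k, rfl⟩
    have h1 := hlt (Module.finrank K V + 1)
    have h2 := Submodule.finrank_le (S (Module.finrank K V + 1))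
    omega
  obtain ⟨m, hm⟩ : ∃ m, Nat.find hex = m + 1 := by
    refine Nat.exists_eq_succ_of_ne_zero (fun h0 => hv ?_)
    simpa [h0, S] using Nat.find_spec hex
  have hmin : ∀ i ≤ m, φ^[i] v ∉ S i := fun i hi => Nat.find_min hex (by omega)
  have hdep : φ^[m + 1] v ∈ S (m + 1) := by
    have := Nat.find_spec hex
    rwa [hm] at this
  obtain ⟨a, ha⟩ : ∃ a : ℕ → K, ∑ i ∈ Finset.range (m + 1), a i • φ^[i] v = φ^[m + 1] v := by
    have : φ^[m + 1] v ∈ Submodule.span K
        (Set.range fun i : Fin (m + 1) => φ^[(i : ℕ)] v) := by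
      refine Submodule.span_mono ?_ hdep
      rintro _ ⟨i, hi, rfl⟩
      exact ⟨⟨i, hi⟩, rfl⟩
    obtain ⟨c, hc⟩ := (Submodule.mem_span_range_iff_exists_fun K).1 this
    refine ⟨fun i => if h : i < m + 1 then c ⟨i, h⟩ else 0, ?_⟩
    rw [Finset.sum_range, ← hc]
    exact Finset.sum_congr rfl fun i _ => by simp only [dif_pos i.is_lt]
  have hpow : ∀ (i : ℕ) (c : K), ∀ u : V, φ^[i] (c • u) = c ^ q ^ i • φ^[i] u := by
    intro i
    induction i with
    | zero => simp
    | succ i ih =>
      intro c u
      rw [Function.iterate_succ_apply', ih, hsl, ← pow_mul, pow_succ, Function.iterate_succ_apply']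
  have ha0 : a 0 ≠ 0 := by
    intro h0
    have hroot : ∀ i, ∃ b : K, b ^ q = a i := fun i =>
      IsAlgClosed.exists_pow_nat_eq (a i) (by omega)
    choose b hb using hroot
    have : φ (φ^[m] v) = φ (∑ i ∈ Finset.range m, b (i + 1) • φ^[i] v) := by
      rw [← Function.iterate_succ_apply' φ m v, ← ha, Finset.sum_range_succ', h0, zero_smul,
        add_zero, map_sum]
      exact Finset.sum_congr rfl fun i _ => by
        rw [hsl, hb, Function.iterate_succ_apply']
    refine hmin m le_rfl ?_
    rw [hinj this]
    exact Submodule.sum_mem _ fun i hi => Submodule.smul_mem _ _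
      (Submodule.subset_span ⟨i, Finset.mem_range.1 hi, rfl⟩)
  -- coefficients as polynomials in the top coefficient
  let P : ℕ → K[X] := fun i =>
    Nat.rec (C (a 0) * X ^ q) (fun i Pi => Pi ^ q + C (a (i + 1)) * X ^ q) i
  have P0 : P 0 = C (a 0) * X ^ q := rfl
  have Ps : ∀ i, P (i + 1) = P i ^ q + C (a (i + 1)) * X ^ q := fun i => rfl
  have hdeg : ∀ i, (P i).natDegree = q ^ (i + 1) := by
    intro i
    induction i with
    | zero => rw [P0, natDegree_C_mul_X_pow q (a 0) ha0, zero_add, pow_one]
    | succ i ih =>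
      have h1 : (P i ^ q).natDegree = q ^ (i + 2) := by
        rw [natDegree_pow, ih]; ring
      rw [Ps, natDegree_add_eq_left_of_natDegree_lt, h1]
      rw [h1]
      refine (natDegree_C_mul_X_pow_le _ _).trans_lt ?_
      calc q = q ^ 1 := (pow_one q).symm
        _ < q ^ (i + 2) := Nat.pow_lt_pow_right (by omega) (by omega)
  have hq0 : (q : K) = 0 := by
    rw [hq, Nat.cast_pow, CharP.cast_eq_zero, zero_pow (by omega)]
  have hder : derivative (P m) = 0 := by
    have hd : ∀ Q : K[X], derivative (Q ^ q) = 0 := fun Q => by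
      rw [derivative_pow, hq0, map_zero, zero_mul, zero_mul]
    cases m with
    | zero => rw [P0, derivative_C_mul, hd, mul_zero]
    | succ i => rw [Ps, map_add, derivative_C_mul, hd, hd, mul_zero, add_zero]
  set Q : K[X] := P m - X with hQ
  have hQdeg : 1 < Q.natDegree := by
    have h1 : 1 < (P m).natDegree := by rw [hdeg]; exact Nat.one_lt_pow (by omega) (by omega)
    rw [hQ, natDegree_sub_eq_left_of_natDegree_lt (by rw [natDegree_X]; exact h1)]
    exact h1
  have hsep : Q.Separable := by
    rw [separable_def, hQ, map_sub, hder, derivative_X, zero_sub]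
    exact isCoprime_one_right.neg_right
  obtain ⟨z, hz0, hz⟩ : ∃ z : K, z ≠ 0 ∧ Q.IsRoot z := by
    have hnd := nodup_roots hsep
    have hcard : Q.roots.card = Q.natDegree := (IsAlgClosed.splits Q).natDegree_eq_card_roots.symm
    by_contra hno
    push Not at hno
    have hle : Q.roots.toFinset ⊆ {0} := fun z hz => by
      rw [Finset.mem_singleton]
      by_contra h
      exact hno z h (isRoot_of_mem_roots (Multiset.mem_toFinset.1 hz))
    have := Finset.card_le_card hle
    rw [Multiset.toFinset_card_of_nodup hnd, hcard, Finset.card_singleton] at this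
    omega
  let x : ℕ → K := fun i => (P i).eval z
  have x0 : x 0 = a 0 * z ^ q := by simp [x, P0]
  have xs : ∀ i, x (i + 1) = x i ^ q + a (i + 1) * z ^ q := fun i => by simp [x, Ps]
  have xm : x m = z := by
    have : Q.eval z = 0 := hz
    rw [hQ, eval_sub, eval_X, sub_eq_zero] at this
    exact this
  refine ⟨∑ i ∈ Finset.range (m + 1), x i • φ^[i] v, ?_, ?_⟩
  · intro h0
    refine hmin m le_rfl ?_
    rw [Finset.sum_range_succ, xm, add_eq_zero_iff_neg_eq, ← Finset.sum_neg_distrib] at h0
    have : φ^[m] v = z⁻¹ • ∑ i ∈ Finset.range m, -(x i • φ^[i] v) := by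
      rw [h0, smul_smul, inv_mul_cancel₀ hz0, one_smul]
    rw [this]
    exact Submodule.smul_mem _ _ (Submodule.sum_mem _ fun i hi => Submodule.neg_mem _
      (Submodule.smul_mem _ _ (Submodule.subset_span ⟨i, Finset.mem_range.1 hi, rfl⟩)))
  · rw [map_sum]
    simp_rw [hsl, ← Function.iterate_succ_apply' φ]
    rw [Finset.sum_range_succ, xm, ← ha, Finset.smul_sum, Finset.sum_range_succ' _ m,
      Finset.sum_range_succ' (fun i => x i • φ^[i] v) m, x0, ← add_assoc, ← Finset.sum_add_distrib]
    congr 1
    · refine Finset.sum_congr rfl fun i _ => ?_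
      rw [smul_smul, ← add_smul, xs, mul_comm (z ^ q)]
    · rw [smul_smul, mul_comm (z ^ q)]

/-- Fixed vectors of an injective semilinear map span. -/
theorem span_fixed {K V : Type*} [Field K] [IsAlgClosed K] [AddCommGroup V] [Module K V]
    [FiniteDimensional K V] (p f : ℕ) [Fact p.Prime] [CharP K p] (hf : 1 ≤ f)
    (φ : V →+ V) (hsl : ∀ (c : K) (v : V), φ (c • v) = c ^ (p ^ f) • φ v) (hinj : Function.Injective φ) :
    Submodule.span K {v : V | φ v = v} = ⊤ := by
  classical
  set q := p ^ f with hq
  have hq2 : 2 ≤ q := (Fact.out : p.Prime).two_le.trans (Nat.le_self_pow (by omega) p)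
  set W := Submodule.span K {v : V | φ v = v} with hW
  by_contra hne
  -- `φ` maps `W` onto itself and has `φ u - u` surjective on `W`
  have hWmap : ∀ w ∈ W, φ w ∈ W := by
    intro w hw
    induction hw using Submodule.span_induction with
    | mem v hv => rw [show φ v = v from hv]; exact Submodule.subset_span hv
    | zero => simp
    | add v u _ _ hv hu => rw [map_add]; exact add_mem hv hu
    | smul c v _ hv => rw [hsl]; exact Submodule.smul_mem _ _ hv
  have hWsur : ∀ w ∈ W, ∃ u ∈ W, φ u = w := by
    intro w hw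
    induction hw using Submodule.span_induction with
    | mem v hv => exact ⟨v, Submodule.subset_span hv, hv⟩
    | zero => exact ⟨0, zero_mem _, map_zero _⟩
    | add v u _ _ hv hu =>
      obtain ⟨v', hv', rfl⟩ := hv
      obtain ⟨u', hu', rfl⟩ := hu
      exact ⟨v' + u', add_mem hv' hu', map_add _ _ _⟩
    | smul c v _ hv =>
      obtain ⟨v', hv', rfl⟩ := hv
      obtain ⟨b, hb⟩ := IsAlgClosed.exists_pow_nat_eq c (show 0 < q by omega)
      exact ⟨b • v', Submodule.smul_mem _ _ hv', by rw [hsl, hb]⟩
  have hWsub : ∀ w ∈ W, ∃ u ∈ W, φ u - u = w := by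
    intro w hw
    suffices H : ∀ c : K, ∃ u ∈ W, φ u - u = c • w by simpa using H 1
    induction hw using Submodule.span_induction with
    | mem v hv =>
      intro c
      have hv' : φ v = v := hv
      obtain ⟨y, hy⟩ := IsAlgClosed.exists_root (Polynomial.X ^ q - Polynomial.X - Polynomial.C c) (by
        rw [sub_sub, Polynomial.degree_sub_eq_left_of_degree_lt]
        · rw [Polynomial.degree_X_pow]; exact_mod_cast (by omega : q ≠ 0)
        · rw [Polynomial.degree_X_pow, Polynomial.degree_X_add_C]; exact_mod_cast (by omega : 1 < q))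
      refine ⟨y • v, Submodule.smul_mem _ _ (Submodule.subset_span hv), ?_⟩
      have : y ^ q - y = c := by simpa [sub_eq_zero] using hy
      rw [hsl, hv', ← sub_smul, this]
    | zero => intro c; exact ⟨0, zero_mem _, by simp⟩
    | add v u _ _ hv hu =>
      intro c
      obtain ⟨v', hv', hv''⟩ := hv c
      obtain ⟨u', hu', hu''⟩ := hu c
      exact ⟨v' + u', add_mem hv' hu', by rw [map_add, smul_add, ← hv'', ← hu'']; abel⟩
    | smul d v _ hv =>
      intro c
      rw [smul_smul]
      exact hv _
  let ψ : V ⧸ W →+ V ⧸ W :=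
    QuotientAddGroup.lift W.toAddSubgroup ((Submodule.mkQ W).toAddMonoidHom.comp φ) (fun w hw => by
      simpa using hWmap w hw)
  have ψmk : ∀ v : V, ψ (Submodule.mkQ W v) = Submodule.mkQ W (φ v) := fun v => rfl
  have : Nontrivial (V ⧸ W) := Submodule.Quotient.nontrivial_iff.2 hne
  obtain ⟨wb, hwb0, hwb⟩ := exists_fixed (K := K) p f hf ψ (by
      intro c vb
      obtain ⟨v, rfl⟩ := Submodule.mkQ_surjective W vb
      rw [← map_smul, ψmk, ψmk, hsl, map_smul]) (by
      rw [injective_iff_map_eq_zero]
      intro vb h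
      obtain ⟨v, rfl⟩ := Submodule.mkQ_surjective W vb
      rw [ψmk] at h
      obtain ⟨u, hu, hue⟩ := hWsur (φ v) (by simpa using h)
      simpa [hinj hue] using hu)
  obtain ⟨v, rfl⟩ := Submodule.mkQ_surjective W wb
  rw [ψmk] at hwb
  obtain ⟨u, hu, hue⟩ := hWsub (φ v - v) (by simpa [Submodule.Quotient.eq] using hwb)
  refine hwb0 ?_
  have hfix : v - u ∈ W := Submodule.subset_span (show φ (v - u) = v - u by
    rw [map_sub, sub_eq_sub_iff_sub_eq_sub, hue])
  simpa using add_mem hfix hu

/-- The Lang–Steinberg Theorem for the general linear group. Let `K` be an algebraically closed field of prime characteristic `p`, let `q = p^f` with `f ≥ 1`, and let `σ` be the endomorphism of GL_n(K) raising every matrix entry to the `q`-th power. Then every element `g` of GL_n(K) can be written `g = x · σ(x)⁻¹` for some `x` in GL_n(K): the map `x ↦ x σ(x)⁻¹` is surjective. -/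
theorem result {K : Type*} [Field K] [IsAlgClosed K] (p : ℕ) [Fact p.Prime] [CharP K p]
    (f : ℕ) (hf : 1 ≤ f) (n : ℕ) (g : GL (Fin n) K) :
    ∃ x : GL (Fin n) K, g = x * (Matrix.GeneralLinearGroup.map (iterateFrobenius K p f) x)⁻¹ := by
  classical
  let φ : (Fin n → K) →+ (Fin n → K) :=
    { toFun := fun v => (g : Matrix (Fin n) (Fin n) K).mulVec (fun i => iterateFrobenius K p f (v i))
      map_zero' := by simp only [Pi.zero_apply, map_zero]; exact Matrix.mulVec_zero _
      map_add' := fun v w => by
        simp only [Pi.add_apply, map_add]; exact Matrix.mulVec_add _ _ _ }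
  have hspan := span_fixed (K := K) p f hf φ (fun c v => by
      show (g : Matrix (Fin n) (Fin n) K).mulVec _ = c ^ p ^ f • (g : Matrix (Fin n) (Fin n) K).mulVec _
      rw [← Matrix.mulVec_smul]
      congr 1
      funext i
      simp [iterateFrobenius_def, mul_pow]) (fun v w h => by
      have h' := congrArg ((↑g⁻¹ : Matrix (Fin n) (Fin n) K).mulVec) h
      simp only [φ, AddMonoidHom.coe_mk, ZeroHom.coe_mk, Matrix.mulVec_mulVec, Units.inv_mul,
        Matrix.one_mulVec] at h'
      funext i
      exact (iterateFrobenius K p f).injective (congrFun h' i))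
  obtain ⟨s, hsF, hss, hli⟩ := exists_linearIndependent K {v : Fin n → K | φ v = v}
  let B := Module.Basis.mk hli (by rw [Subtype.range_coe, hss, hspan])
  let B' := B.reindex (B.indexEquiv (Pi.basisFun K (Fin n)))
  have hB : ∀ j, φ (B' j) = B' j := fun j => by
    have : B' j ∈ s := by simp [B', B]
    exact hsF this
  have := (Pi.basisFun K (Fin n)).invertibleToMatrix B'
  refine ⟨unitOfInvertible ((Pi.basisFun K (Fin n)).toMatrix B'), ?_⟩
  rw [eq_mul_inv_iff_mul_eq]
  refine Units.ext (Matrix.ext fun i j => ?_)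
  rw [Units.val_mul, val_unitOfInvertible, Matrix.mul_apply]
  refine Eq.trans ?_ ((congrFun (hB j) i).trans (by simp [Module.Basis.toMatrix_apply]))
  simp [φ, Matrix.mulVec, dotProduct, Module.Basis.toMatrix_apply, Matrix.GeneralLinearGroup.map_apply]

end Cfsg.Agent.S2665
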