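import Cfsg.Statements.S2669
import Cfsg.Agent.Lib.Shintani.Basic

set_option autoImplicit false
open Cfsg

namespace Cfsg.Agent.S2669

/-- Shintani descent preserves numbers of fixed points on coset spaces (abstract form). Let `σ` be an automorphism of a group `X` and `e ≥ 1`; write `G` for the fixed points of `σᵉ` and `H` for the fixed points of `σ`, and assume `G` is finite. Let `Y` be a `σ`-stable subgroup of `X` on which the maps `a ↦ a σ(a)⁻¹` and `a ↦ a σᵉ(a)⁻¹` are surjective (as for a closed connected `σ`-stable subgroup of an algebraic group). Let `g ∈ G`, let `a ∈ X` satisfy `g = a σ(a)⁻¹` and put `x = σᵉ(a)⁻¹ a` (the Shintani image, an element of `H`). The element `g σ` of the semidirect product acts on the cosets of `Y ∩ G` in `G` by `k (Y ∩ G) ↦ g σ(k) (Y ∩ G)`, fixing that coset exactly when `k⁻¹ g σ(k) ∈ Y`; and `x` fixes the coset `h (Y ∩ H)` of `H` exactly when `h⁻¹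 x h ∈ Y`. Then the two numbers of fixed cosets agree; in cross-multiplied form, `#{k ∈ G : k⁻¹ g σ(k) ∈ Y} · |Y ∩ H| = #{h ∈ H : h⁻¹ x h ∈ Y} · |Y ∩ G|`. -/
theorem result {X : Type*} [Group X] (σ : MulAut X) (e : ℕ) (he : 1 ≤ e)
    [Finite ↥((MulEquiv.toMonoidHom (σ ^ e)).eqLocus (MonoidHom.id X))]
    (Y : Subgroup X) (hY : ∀ y : X, y ∈ Y ↔ σ y ∈ Y)
    (hYL : ∀ y ∈ Y, ∃ a ∈ Y, y = a * (σ a)⁻¹) (hYLe : ∀ y ∈ Y, ∃ a ∈ Y, y = a * ((σ ^ e) a)⁻¹)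
    (g : X) (hg : g ∈ (MulEquiv.toMonoidHom (σ ^ e)).eqLocus (MonoidHom.id X)) (a : X) (ha : g = a * (σ a)⁻¹) :
    Nat.card {k : ↥((MulEquiv.toMonoidHom (σ ^ e)).eqLocus (MonoidHom.id X)) // (k : X)⁻¹ * g * σ k ∈ Y} *
        Nat.card ↥(Y ⊓ (MulEquiv.toMonoidHom σ).eqLocus (MonoidHom.id X)) =
      Nat.card {h : ↥((MulEquiv.toMonoidHom σ).eqLocus (MonoidHom.id X)) // (h : X)⁻¹ * (((σ ^ e) a)⁻¹ * a) * h ∈ Y} *
        Nat.card ↥(Y ⊓ (MulEquiv.toMonoidHom (σ ^ e)).eqLocus (MonoidHom.id X)) := by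
  set G := (MulEquiv.toMonoidHom (σ ^ e)).eqLocus (MonoidHom.id X)
  set H := (MulEquiv.toMonoidHom σ).eqLocus (MonoidHom.id X)
  have mG : ∀ z, z ∈ G ↔ (σ ^ e) z = z := fun z => Iff.rfl
  have mH : ∀ z, z ∈ H ↔ σ z = z := fun z => Iff.rfl
  set x := ((σ ^ e) a)⁻¹ * a with hxdef
  have hYpow : ∀ (n : ℕ) (z : X), z ∈ Y → (σ ^ n) z ∈ Y := by
    intro n
    induction n with
    | zero => intro z hz; simpa using hz
    | succ n ih => intro z hz; rw [pow_succ, MulAut.mul_apply]; exact ih _ ((hY z).1 hz)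
  have hσea : (σ ^ e) a = a * x⁻¹ := by rw [hxdef]; group
  let P := {p : X × X // p.1 ∈ G ∧ p.2 ∈ Y ∧ a⁻¹ * p.1 * p.2 ∈ H}
  -- the fibres over `k`
  have hk : ∀ k : {k : G // (k : X)⁻¹ * g * σ k ∈ Y}, ∃ b ∈ Y, a⁻¹ * (k.1 : X) * b ∈ H := by
    rintro ⟨k, hk⟩
    obtain ⟨b, hb, hbe⟩ := hYL _ hk
    refine ⟨b, hb, ?_⟩
    rw [mH, map_mul, map_mul, map_inv]
    calc (σ a)⁻¹ * σ k * σ b = a⁻¹ * k * ((k : X)⁻¹ * (a * (σ a)⁻¹) * σ k) * σ b := by group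
      _ = a⁻¹ * k * ((k : X)⁻¹ * g * σ k) * σ b := by rw [ha]
      _ = a⁻¹ * k * b := by rw [hbe]; group
  choose bk hbkY hbkH using hk
  have hkp : ∀ p : P, (p.1.1)⁻¹ * g * σ p.1.1 ∈ Y := by
    rintro ⟨⟨k, b⟩, -, hbY, hh⟩
    rw [mH, map_mul, map_mul, map_inv] at hh
    have : k⁻¹ * g * σ k = b * (σ b)⁻¹ := by
      rw [ha]
      calc k⁻¹ * (a * (σ a)⁻¹) * σ k = k⁻¹ * a * ((σ a)⁻¹ * σ k * σ b) * (σ b)⁻¹ := by group
        _ = b * (σ b)⁻¹ := by rw [hh]; group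
    show k⁻¹ * g * σ k ∈ Y
    rw [this]
    exact mul_mem hbY (inv_mem ((hY b).1 hbY))
  let kp : P → {k : G // (k : X)⁻¹ * g * σ k ∈ Y} := fun p => ⟨⟨p.1.1, p.2.1⟩, hkp p⟩
  let E1 : P ≃ {k : G // (k : X)⁻¹ * g * σ k ∈ Y} × ↥(Y ⊓ H) :=
    { toFun := fun p => (kp p, ⟨(bk (kp p))⁻¹ * p.1.2, Subgroup.mem_inf.2
        ⟨mul_mem (inv_mem (hbkY _)) p.2.2.1, by
          have h1 := hbkH (kp p)
          have := mul_mem (inv_mem h1) p.2.2.2
          simpa [kp, mul_assoc] using this⟩⟩)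
      invFun := fun q => ⟨((q.1.1 : X), bk q.1 * q.2.1), q.1.1.2, mul_mem (hbkY _) q.2.2.1, by
        have := mul_mem (hbkH q.1) q.2.2.2
        simpa [mul_assoc] using this⟩
      left_inv := fun p => Subtype.ext (Prod.ext rfl (by simp [kp]))
      right_inv := fun q => Prod.ext rfl (Subtype.ext (by simp [kp])) }
  -- the fibres over `h`
  have hh : ∀ h : {h : H // (h : X)⁻¹ * x * h ∈ Y}, ∃ b ∈ Y, a * (h.1 : X) * b⁻¹ ∈ G := by
    rintro ⟨h, hy⟩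
    obtain ⟨c, hc, hce⟩ := hYLe _ (inv_mem hy)
    refine ⟨c⁻¹, inv_mem hc, ?_⟩
    rw [mG, inv_inv, map_mul, map_mul, Shintani.pow_apply_fixed σ h.2 e, hσea]
    calc a * x⁻¹ * h * (σ ^ e) c = a * h * (((h : X)⁻¹ * x * h)⁻¹) * (σ ^ e) c := by group
      _ = a * h * c := by rw [hce]; group
  choose bh hbhY hbhG using hh
  have hhp : ∀ p : P, (a⁻¹ * p.1.1 * p.1.2)⁻¹ * x * (a⁻¹ * p.1.1 * p.1.2) ∈ Y := by
    rintro ⟨⟨k, b⟩, hkG, hbY, hh⟩
    set h := a⁻¹ * k * b with hdef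
    have e1 : (σ ^ e) h = h := Shintani.pow_apply_fixed σ hh e
    have e2 : k = a * h * b⁻¹ := by rw [hdef]; group
    have e3 : a * x⁻¹ * h * ((σ ^ e) b)⁻¹ = a * h * b⁻¹ := by
      have := (mG k).1 hkG
      rwa [e2, map_mul, map_mul, map_inv, hσea, e1] at this
    have e4 : h⁻¹ * x * h = ((σ ^ e) b)⁻¹ * b := by
      calc h⁻¹ * x * h = h⁻¹ * x * a⁻¹ * (a * h * b⁻¹) * b := by group
        _ = _ := by rw [← e3]; group
    show h⁻¹ * x * h ∈ Y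
    rw [e4]
    exact mul_mem (inv_mem (hYpow e b hbY)) hbY
  let hp : P → {h : H // (h : X)⁻¹ * x * h ∈ Y} := fun p => ⟨⟨_, p.2.2.2⟩, hhp p⟩
  let E2 : P ≃ {h : H // (h : X)⁻¹ * x * h ∈ Y} × ↥(Y ⊓ G) :=
    { toFun := fun p => (hp p, ⟨p.1.2 * (bh (hp p))⁻¹, Subgroup.mem_inf.2
        ⟨mul_mem p.2.2.1 (inv_mem (hbhY _)), by
          have h1 := hbhG (hp p)
          have := mul_mem (inv_mem p.2.1) h1
          simpa [hp, mul_assoc] using this⟩⟩)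
      invFun := fun q => ⟨(a * (q.1.1 : X) * (q.2.1 * bh q.1)⁻¹, q.2.1 * bh q.1),
        by
          have := mul_mem (hbhG q.1) (inv_mem q.2.2.2)
          simpa [mul_assoc] using this,
        mul_mem q.2.2.1 (hbhY _), by
          simp [mul_assoc]⟩
      left_inv := fun p => Subtype.ext (Prod.ext (by simp [hp, mul_assoc]) (by simp [hp]))
      right_inv := fun q => by
        have : ∀ hq, hp ⟨(a * (q.1.1 : X) * (q.2.1 * bh q.1)⁻¹, q.2.1 * bh q.1), hq⟩ = q.1 :=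
          fun _ => Subtype.ext (Subtype.ext (by simp [hp, mul_assoc]))
        exact Prod.ext (this _) (Subtype.ext (by simp only [this]; group)) }
  rw [← Nat.card_prod, ← Nat.card_prod]
  exact Nat.card_congr (E1.symm.trans E2)

end Cfsg.Agent.S2669
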