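import Cfsg.Statements.S2670
import Cfsg.Agent.Lib.Semisimple.ProjClasses

set_option autoImplicit false
open Cfsg

namespace Cfsg.Agent.S2670

/-- Number of conjugacy classes of elements of prime order r in PGL_n(q) = GL_n(q)/scalars when r divides q − 1 (n ≥ 2): the classes of elements with a diagonalisable lift correspond to the orbits of the cyclic rotation on the r-tuples of eigenvalue multiplicities (a_0, …, a_(r−1)) summing to n with every a_j < n, and when r divides n there are r − 1 further classes (lifts acting irreducibly on blocks of size r); in all (C(n+r−1, r−1) − r − [r ∣ n])/r + r·[r ∣ n] classes. -/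
theorem result {F : Type*} [Field F] [Fintype F] {q : ℕ} (hF : Fintype.card F = q) {n r : ℕ} (hn : 2 ≤ n) (hr : r.Prime) (hrq : r ∣ q - 1) : Nat.card {C : ConjClasses (GL (Fin n) F ⧸ Subgroup.center (GL (Fin n) F)) // ∃ g : GL (Fin n) F ⧸ Subgroup.center (GL (Fin n) F), ConjClasses.mk g = C ∧ orderOf g = r} = (Nat.choose (n + r - 1) (r - 1) - r - (if r ∣ n then 1 else 0)) / r + r * (if r ∣ n then 1 else 0) := by
  classical
  subst hF
  have : Fact r.Prime := ⟨hr⟩
  have hcard : Nat.card Fˣ = Fintype.card F - 1 := by rw [Nat.card_units, Nat.card_eq_fintype_card]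
  obtain ⟨ζ, hζ⟩ := exists_prime_orderOf_dvd_card' (G := Fˣ) r (hcard ▸ hrq)
  rw [← ProjClasses.card_classes (r := r) (by omega : 0 < n) (⊤ : Subgroup (GL (Fin n) F)) ⊤ hζ (Subgroup.mem_top ζ)
    (by rw [Subgroup.card_top, hcard]; exact hrq) (fun _ _ => Subgroup.mem_top _) (fun _ _ _ => Subgroup.mem_top _)
    (fun _ _ => Subgroup.mem_top _)
    (fun g h hc => by obtain ⟨c, hc⟩ := isConj_iff.1 hc; exact isConj_iff.2 ⟨⟨c, Subgroup.mem_top c⟩, Subtype.ext hc⟩)]
  let e : ↥(⊤ : Subgroup (GL (Fin n) F)) ≃* GL (Fin n) F := Subgroup.topEquiv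
  have hmap : Subgroup.center (GL (Fin n) F) =
      (Subgroup.center ↥(⊤ : Subgroup (GL (Fin n) F))).map e.toMonoidHom := by
    ext x
    simp only [Subgroup.mem_map, Subgroup.mem_center_iff]
    constructor
    · intro hx
      exact ⟨e.symm x, fun g => e.injective (by simp [hx]), e.apply_symm_apply x⟩
    · rintro ⟨y, hy, rfl⟩ g
      have := congrArg e (hy (e.symm g))
      simpa using this
  let E : (↥(⊤ : Subgroup (GL (Fin n) F)) ⧸ Subgroup.center _) ≃* (GL (Fin n) F ⧸ Subgroup.center (GL (Fin n) F)) :=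
    QuotientGroup.congr _ _ e hmap.symm
  let M := ConjClasses.map E.toMonoidHom
  have hM : Function.Bijective M := by
    constructor
    · intro a b
      induction a using Quotient.ind with | _ x =>
      induction b using Quotient.ind with | _ y =>
      intro h
      have h' := E.symm.toMonoidHom.map_isConj (ConjClasses.mk_eq_mk_iff_isConj.1 h)
      simp only [MulEquiv.coe_toMonoidHom, MulEquiv.symm_apply_apply] at h'
      exact ConjClasses.mk_eq_mk_iff_isConj.2 h'
    · exact ConjClasses.map_surjective E.surjective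
  refine Nat.card_congr (Equiv.subtypeEquiv (Equiv.ofBijective M hM) fun C => ?_).symm
  constructor
  · rintro ⟨g, rfl, hg⟩
    exact ⟨E g, rfl, by rw [MulEquiv.orderOf_eq, hg]⟩
  · rintro ⟨g, hg, hg'⟩
    refine ⟨E.symm g, hM.1 ?_, by rw [MulEquiv.orderOf_eq, hg']⟩
    rw [show M C = ConjClasses.mk g from hg.symm]
    show ConjClasses.mk (E (E.symm g)) = _
    rw [E.apply_symm_apply]

end Cfsg.Agent.S2670
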