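import Cfsg.Statements.S2671
import Cfsg.Agent.Lib.Semisimple.UnitaryClasses

set_option autoImplicit false
open Cfsg

namespace Cfsg.Agent.S2671

/-- Number of conjugacy classes of elements of odd prime order r in the general unitary group GU_n(q), for r not dividing q(q + 1): let i be the multiplicative order of q modulo r, b = i if i is odd and b = i/2 if i is even, and s = (r − 1)/b. If i ≢ 2 (mod 4) the eigenvalue orbits pair off into dual pairs of totally isotropic blocks and there are C(⌊n/(2b)⌋ + s/2, s/2) − 1 classes; if i ≡ 2 (mod 4) each orbit gives a non-degenerate block of dimension i/2 and there are C(⌊2n/i⌋ + s, s) − 1 classes. -/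
theorem result {K : Type*} [Field K] [Fintype K] {p q n r i b s : ℕ} [Fact p.Prime] [CharP K p] (hK : Fintype.card K = q ^ 2) (hr : r.Prime) (hr2 : r ≠ 2) (hrp : r ≠ p) (hi : i = orderOf (q : ZMod r)) (hi2 : i ≠ 2) (hb : b = if Odd i then i else i / 2) (hs : s * b = r - 1) : Nat.card {C : ConjClasses ↥(Cfsg.GU n K q) // ∃ g : ↥(Cfsg.GU n K q), ConjClasses.mk g = C ∧ orderOf g = r} = if i % 4 = 2 then Nat.choose (2 * n / i + s) s - 1 else Nat.choose (n / (2 * b) + s / 2) (s / 2) - 1 := by
  classical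
  subst hi
  have : Fact r.Prime := ⟨hr⟩
  obtain ⟨L, _, _, _, ζ, hL⟩ := Semisimple.exists_rootField (F := K) (r := r) p hrp
  obtain ⟨x, hx⟩ : ∃ x : ZMod r, x = (q : ZMod r) := ⟨_, rfl⟩
  rw [← hx] at hi2 hb ⊢
  have hx0 : x ≠ 0 := hx ▸ hL.q_ne_zero hK
  have hpos : 0 < orderOf x := orderOf_pos_iff.2 (IsUnit.isOfFinOrder (Ne.isUnit hx0))
  have hdeg : Module.finrank K L = b := by
    rw [hL.finrank_eq_b hK, ← hx, orderOf_pow' _ two_ne_zero, hb]
    split_ifs with hodd
    · rw [Nat.Coprime.gcd_eq_one (Nat.coprime_two_right.2 hodd), Nat.div_one]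
    · rw [Nat.gcd_eq_right (even_iff_two_dvd.1 (Nat.not_odd_iff_even.1 hodd))]
  have hdb : orderOf (Fintype.card K : ZMod r) = b := by rw [← hL.deg, hdeg]
  have hb0 : 0 < b := hdeg ▸ Module.finrank_pos
  set w := Semisimple.twistOrb K q r with hw
  have hww : w * w = 1 := hL.twist_mul_self hK
  have hcard : Fintype.card (Semisimple.Orb K r) = s := hL.card_orb (by rw [hdb]; exact hs)
  rw [hL.card_gu_classes hK (fun a => (∀ c, a (c * w) = a c) ∧ ∑ c, a c ≤ n / b)
    (fun f hf hfm => ⟨hL.orbMult_herm_symm hK f hf hfm, by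
      rw [Nat.le_div_iff_mul_le hb0, mul_comm, ← hdb]
      simpa using hL.orbMult_le f hf⟩) ?_]
  · have hfin : Finite {a : Semisimple.Orb K r → ℕ // (∀ c, a (c * w) = a c) ∧ ∑ c, a c ≤ n / b} := by
      have := Semisimple.finite_sum_le (Semisimple.Orb K r) (n / b)
      exact Finite.of_injective (fun a => (⟨a.1, a.2.2⟩ : {a : Semisimple.Orb K r → ℕ // ∑ c, a c ≤ n / b}))
        fun a b h => Subtype.ext (congrArg (fun z => z.1) h)
    rw [Semisimple.card_nonzero _ (fun a => (∀ c, a (c * w) = a c) ∧ ∑ c, a c ≤ n / b) (by simp)]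
    split_ifs with h4
    · have hw1 : w = 1 := (hL.twist_eq_one_iff hK hr2).2 (hx ▸ h4)
      simp only [hw1, mul_one, implies_true, true_and]
      rw [Semisimple.card_sum_le, hcard]
      congr 2
      rw [hb, if_neg (Nat.not_odd_iff_even.2 (Nat.even_iff.2 (by omega)))]
      obtain ⟨k, hk⟩ : Even (orderOf x) := Nat.even_iff.2 (by omega)
      rw [hk, show (k + k) / 2 = k by omega, ← two_mul, Nat.mul_div_mul_left _ _ two_pos]
    · have hw1 : w ≠ 1 := fun h => h4 (hx ▸ (hL.twist_eq_one_iff hK hr2).1 h)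
      rw [Semisimple.card_symm_le w hww hw1, hcard, Nat.div_div_eq_div_mul, mul_comm b 2]
  · rintro a ⟨ha, hle⟩ -
    rw [Nat.le_div_iff_mul_le hb0, mul_comm] at hle
    by_cases hw1 : w = 1
    · have h4 : orderOf (q : ZMod r) % 4 = 2 := (hL.twist_eq_one_iff hK hr2).1 hw1
      have := hL.realU_sum hK (fun c => Pi.single c 1) (fun c => hL.realU_self_dual hK h4 c) a
      refine hL.realU_mono hK ?_ hle
      rw [hdeg] at this
      convert this using 2
      funext d
      simp [Finset.sum_apply, Pi.single_apply]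
    · obtain ⟨h, hh, hhs⟩ := Semisimple.exists_half w hww hw1 a ha
      have := hL.realU_sum hK (fun c => Pi.single c 1 + Pi.single (c * w) 1) (fun c => hL.realU_pair hK c) h
      rw [hdeg] at this
      refine hL.realU_mono hK (n := 2 * b * ∑ c, h c) ?_ (by rw [mul_comm 2 b, mul_assoc, hhs]; exact hle)
      convert this using 2
      funext d
      rw [← hh d]
      have hd : ∀ c, (d = c * w ↔ c = d * w) := fun c => by
        constructor <;> intro e <;> rw [e, mul_assoc, hww, mul_one]
      simp [Finset.sum_apply, Pi.single_apply, mul_add, Finset.sum_add_distrib, hd]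

end Cfsg.Agent.S2671
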