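import Cfsg.Statements.S2672
import Cfsg.Agent.Lib.Semisimple.ProjClasses
import Cfsg.Agent.Lib.Semisimple.UnitaryConj

set_option autoImplicit false
open Cfsg

namespace Cfsg.Agent.S2672

/-- Number of conjugacy classes of elements of odd prime order r in PGU_n(q) = GU_n(q)/scalars (n ≥ 3) when r divides q + 1: as in the linear case with q − 1 replaced by q + 1, the classes correspond to the rotation orbits on r-tuples of eigenvalue multiplicities summing to n with every entry < n, plus r − 1 further classes when r divides n; in all (C(n+r−1, r−1) − r − [r ∣ n])/r + r·[r ∣ n]. -/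
theorem result {K : Type*} [Field K] [Fintype K] {q n r : ℕ} (hK : Fintype.card K = q ^ 2) (hn : 3 ≤ n) (hr : r.Prime) (hr2 : r ≠ 2) (hrq : r ∣ q + 1) : Nat.card {C : ConjClasses (↥(Cfsg.GU n K q) ⧸ Subgroup.center ↥(Cfsg.GU n K q)) // ∃ g : ↥(Cfsg.GU n K q) ⧸ Subgroup.center ↥(Cfsg.GU n K q), ConjClasses.mk g = C ∧ orderOf g = r} = (Nat.choose (n + r - 1) (r - 1) - r - (if r ∣ n then 1 else 0)) / r + r * (if r ∣ n then 1 else 0) := by
  classical
  have : Fact r.Prime := ⟨hr⟩
  let W : Subgroup Kˣ := (powMonoidHom (α := Kˣ) (q + 1)).ker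
  have hW : Nat.card W = q + 1 := Forms.card_norm_kernel hK
  obtain ⟨ζ, hζ⟩ := exists_prime_orderOf_dvd_card' (G := W) r (hW ▸ hrq)
  have hnorm : ∀ c : Kˣ, c ∈ W → (c : K) * (c : K) ^ q = 1 := fun c hc => by
    rw [← pow_succ', ← Units.val_pow_eq_pow_val, show c ^ (q + 1) = 1 from hc, Units.val_one]
  refine ProjClasses.card_classes (r := r) (by omega : 0 < n) (GU n K q) W
    (ζ := (ζ : Kˣ)) (by rw [orderOf_submonoid]; exact hζ) ζ.2 (hW ▸ hrq) ?_ ?_ ?_
    fun g h hc => UnitaryConj.isConj_of_isConj_GL hK hc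
  · intro c hc
    show c ^ (q + 1) = 1
    have h1 : (c ^ (q + 1)) ^ r = 1 := by rw [← pow_mul, mul_comm, pow_mul]; exact hc
    have h2 : (c ^ (q + 1)) ^ (q - 1) = 1 := by
      rw [← pow_mul, ← Forms.units_card hK]; exact pow_card_eq_one'
    have hco : Nat.Coprime r (q - 1) := by
      refine (Nat.Prime.coprime_iff_not_dvd hr).2 fun hd => ?_
      have h3 : r ∣ 2 := by
        rcases Nat.eq_zero_or_pos q with rfl | hq
        · simp at hrq; exact absurd hrq hr.ne_one
        · have := Nat.dvd_sub hrq hd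
          rwa [show q + 1 - (q - 1) = 2 by omega] at this
      exact hr2 ((Nat.prime_dvd_prime_iff_eq hr Nat.prime_two).1 h3)
    have h4 : (c ^ (q + 1)) ^ Nat.gcd r (q - 1) = 1 := pow_gcd_eq_one.2 ⟨h1, h2⟩
    rwa [hco.gcd_eq_one, pow_one] at h4
  · intro σ v hv x y
    simp only [hermForm, Units.coeHom_apply, ProjClasses.val_mono, ProjClasses.monoMat_mulVec]
    refine (Finset.sum_congr rfl fun i _ => ?_).trans (Equiv.sum_comp σ fun i => x i * y i ^ q)
    rw [mul_pow, mul_mul_mul_comm, hnorm _ (hv i), one_mul]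
  · intro c hc
    have := hc (Pi.single ⟨0, by omega⟩ 1) (Pi.single ⟨0, by omega⟩ 1)
    show c ^ (q + 1) = 1
    refine Units.ext ?_
    simp only [Units.coeHom_apply, ProjClasses.val_scal, Matrix.smul_mulVec, Matrix.one_mulVec, hermForm,
      Pi.smul_apply, smul_eq_mul, mul_pow, mul_mul_mul_comm] at this
    rw [← Finset.mul_sum] at this
    have hq : q ≠ 0 := by rintro rfl; simp at hK
    have hs : (∑ i : Fin n, (Pi.single (⟨0, by omega⟩ : Fin n) (1 : K) : Fin n → K) i *
        ((Pi.single (⟨0, by omega⟩ : Fin n) (1 : K) : Fin n → K) i) ^ q) = 1 := by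
      rw [Finset.sum_eq_single (⟨0, by omega⟩ : Fin n)] <;> simp +contextual [zero_pow hq]
    rw [hs, mul_one] at this
    rw [Units.val_pow_eq_pow_val, pow_succ', this, Units.val_one]

end Cfsg.Agent.S2672
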