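import Cfsg.Statements.S2673
import Cfsg.Agent.Lib.Semisimple.OrthClasses

set_option autoImplicit false
open Cfsg

namespace Cfsg.Agent.S2673

/-- Number of conjugacy classes of elements of odd prime order r ≠ p in the orthogonal group O_(2m+1)(q) of x_0² + Σ x_j y_j, q odd: with i the multiplicative order of q mod r and t = (r − 1)/i, there are C(⌊m/i⌋ + t/2, t/2) − 1 classes if i is odd (dual pairs of totally singular i-blocks) and C(⌊(2m+1)/i⌋ + t, t) − 1 if i is even (elliptic i-blocks). -/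
theorem result {F : Type*} [Field F] [Fintype F] {p q : ℕ} [Fact p.Prime] [CharP F p] (hF : Fintype.card F = q) (hq : Odd q) (m r i t : ℕ) (hr : r.Prime) (hr2 : r ≠ 2) (hrp : r ≠ p) (hi : i = orderOf (q : ZMod r)) (ht : t * i = r - 1) : Nat.card {C : ConjClasses ↥(Cfsg.isometryGroup F (Cfsg.quadFormOdd m F)) // ∃ g : ↥(Cfsg.isometryGroup F (Cfsg.quadFormOdd m F)), ConjClasses.mk g = C ∧ orderOf g = r} = if Odd i then Nat.choose (m / i + t / 2) (t / 2) - 1 else Nat.choose ((2 * m + 1) / i + t) t - 1 := by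
  classical
  subst hF hi
  have : Fact r.Prime := ⟨hr⟩
  obtain ⟨K, _, _, _, ζ, hK⟩ := Semisimple.exists_rootField (F := F) (r := r) p hrp
  have hi0 : 0 < (orderOf (Fintype.card F : ZMod r)) := by
    rw [← hK.deg]
    exact Module.finrank_pos
  have h2 : (2 : F) ≠ 0 := Ring.two_ne_zero fun h => by
    have := FiniteField.even_card_of_char_two (F := F) h
    rw [Nat.odd_iff] at hq
    omega
  have hdim : Module.finrank F (Unit ⊕ (Fin m ⊕ Fin m) → F) = 2 * m + 1 := by simp; ring
  have hQ := Forms.quadOdd_nondegenerate (F := F) h2 m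
  rw [hK.card_orth_classes (Forms.quadOdd m F) Forms.quadOdd_apply hQ hr2
    (fun a => (∀ c, a (c * Semisimple.negOrb F r) = a c) ∧ ∑ c, a c ≤ (2 * m + 1) / (orderOf (Fintype.card F : ZMod r)))
    (fun f hf hQf => ⟨fun c => hK.orbMult_symm _ hQ.1 f hf (fun x y => Semisimple.polar_map f hQf x y) c, by
      rw [Nat.le_div_iff_mul_le hi0, mul_comm, ← hdim]
      exact hK.orbMult_le f hf⟩) ?_]
  · split_ifs with hodd
    · rw [hK.card_symm_nonzero hr2 hodd ht, Nat.div_div_eq_div_mul, mul_comm (orderOf (Fintype.card F : ZMod r)) 2, ← Nat.div_div_eq_div_mul,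
        show (2 * m + 1) / 2 = m by omega]
    · have he : Semisimple.negOrb F r = 1 := (hK.negOrb_eq_one_iff hr2).2 (Nat.not_odd_iff_even.1 hodd)
      simp only [he, mul_one, implies_true, true_and]
      rw [hK.card_le_nonzero ht]
  · rintro a ⟨ha, hle⟩ -
    rw [Nat.le_div_iff_mul_le hi0, mul_comm] at hle
    rcases Nat.even_or_odd (orderOf (Fintype.card F : ZMod r)) with hev | hodd
    · obtain ⟨k, hk⟩ := hev
      obtain ⟨Q, f, hQn, hQf, hf, -, hfa⟩ := hK.exists_orth_realisation hr2 ⟨k, hk⟩ a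
      refine hK.realises_odd h2 hQn (j := k * ∑ c, a c) ?_ ?_ ⟨f, hf, hQf, hfa⟩
      · rw [Module.finrank_fin_fun, hk]; ring
      · rw [show (orderOf (Fintype.card F : ZMod r)) * ∑ c, a c = 2 * (k * ∑ c, a c) by rw [hk]; ring] at hle
        omega
    · have hne : Semisimple.negOrb F r ≠ 1 := fun h =>
        (Nat.not_even_iff_odd.2 hodd) ((hK.negOrb_eq_one_iff hr2).1 h)
      obtain ⟨b, hb, hbs⟩ := Semisimple.exists_half _ (Semisimple.negOrb_mul_self F r) hne a ha
      refine hK.realises_odd h2 (Forms.quadPlus_nondegenerate m) (j := m) (by simp [two_mul]) le_rfl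
        (hK.realises_plus_split m a b hb ?_)
      rw [← hbs, mul_left_comm] at hle
      omega

end Cfsg.Agent.S2673
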