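import Cfsg.Statements.S2674
import Cfsg.Agent.Lib.Semisimple.OrthClasses

set_option autoImplicit false
open Cfsg

namespace Cfsg.Agent.S2674

/-- Number of conjugacy classes of elements of odd prime order r ≠ p in the orthogonal group O⁺_2m(q) of Σ x_j y_j (m ≥ 1): with i the multiplicative order of q mod r and t = (r − 1)/i — if i is odd, C(⌊m/i⌋ + t/2, t/2) − 1; if i is even, C(⌊2m/i⌋ + t, t) − 1 minus, when i divides 2m with odd quotient, the C(2m/i + t − 1, t − 1) tuples using the whole space (an odd number of elliptic i-blocks fills an elliptic, not a hyperbolic, space). -/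
theorem result {F : Type*} [Field F] [Fintype F] {p q : ℕ} [Fact p.Prime] [CharP F p] (hF : Fintype.card F = q) (m r i t : ℕ) (hm : 1 ≤ m) (hr : r.Prime) (hr2 : r ≠ 2) (hrp : r ≠ p) (hi : i = orderOf (q : ZMod r)) (ht : t * i = r - 1) : Nat.card {C : ConjClasses ↥(Cfsg.isometryGroup F (Cfsg.quadFormPlus m F)) // ∃ g : ↥(Cfsg.isometryGroup F (Cfsg.quadFormPlus m F)), ConjClasses.mk g = C ∧ orderOf g = r} = if Odd i then Nat.choose (m / i + t / 2) (t / 2) - 1 else Nat.choose (2 * m / i + t) t - 1 - (if i ∣ 2 * m ∧ Odd (2 * m / i) then Nat.choose (2 * m / i + t - 1) (t - 1) else 0) := by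
  classical
  subst hF hi
  have : Fact r.Prime := ⟨hr⟩
  obtain ⟨K, _, _, _, ζ, hK⟩ := Semisimple.exists_rootField (F := F) (r := r) p hrp
  have hi0 : 0 < (orderOf (Fintype.card F : ZMod r)) := by
    rw [← hK.deg]
    exact Module.finrank_pos
  have ht0 : 0 < t := by
    rcases Nat.eq_zero_or_pos t with h | h
    · have := hr.two_le
      rw [h, zero_mul] at ht
      omega
    · exact h
  have hdim : Module.finrank F (Fin m ⊕ Fin m → F) = 2 * m := by simp [two_mul]
  have hQ := Forms.quadPlus_nondegenerate (F := F) m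
  -- the effective bound
  set M := if ¬ Odd (orderOf (Fintype.card F : ZMod r)) ∧ (orderOf (Fintype.card F : ZMod r)) ∣ 2 * m ∧ Odd (2 * m / (orderOf (Fintype.card F : ZMod r))) then 2 * m / (orderOf (Fintype.card F : ZMod r)) - 1 else 2 * m / (orderOf (Fintype.card F : ZMod r)) with hM
  rw [hK.card_orth_classes (Forms.quadPlus m F) Forms.quadPlus_apply hQ hr2
    (fun a => (∀ c, a (c * Semisimple.negOrb F r) = a c) ∧ ∑ c, a c ≤ M)
    (fun f hf hQf => ⟨fun c => hK.orbMult_symm _ hQ.1 f hf (fun x y => Semisimple.polar_map f hQf x y) c, ?_⟩) ?_]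
  · rw [hM]
    by_cases hodd : Odd (orderOf (Fintype.card F : ZMod r))
    · rw [if_pos hodd, hK.card_symm_nonzero hr2 hodd ht, if_neg (fun h => h.1 hodd), Nat.div_div_eq_div_mul,
        mul_comm (orderOf (Fintype.card F : ZMod r)) 2, Nat.mul_div_mul_left _ _ two_pos]
    · have he : Semisimple.negOrb F r = 1 := (hK.negOrb_eq_one_iff hr2).2 (Nat.not_odd_iff_even.1 hodd)
      simp only [he, mul_one, implies_true, true_and]
      rw [if_neg hodd, hK.card_le_nonzero ht]
      by_cases hd : (orderOf (Fintype.card F : ZMod r)) ∣ 2 * m ∧ Odd (2 * m / (orderOf (Fintype.card F : ZMod r)))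
      · rw [if_pos ⟨hodd, hd⟩, if_pos hd, Semisimple.choose_pred_add _ _ hd.2.pos ht0]
      · rw [if_neg (fun h => hd h.2), if_neg hd, Nat.sub_zero]
  · rintro a ⟨ha, hle⟩ -
    have hle2 : (orderOf (Fintype.card F : ZMod r)) * ∑ c, a c ≤ 2 * m := by
      have h1 : ∑ c, a c ≤ 2 * m / (orderOf (Fintype.card F : ZMod r)) := hle.trans (by rw [hM]; split_ifs; exacts [Nat.sub_le _ _, le_rfl])
      rwa [Nat.le_div_iff_mul_le hi0, mul_comm] at h1
    rcases Nat.even_or_odd (orderOf (Fintype.card F : ZMod r)) with hev | hodd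
    · obtain ⟨k, hk⟩ := hev
      rw [hk] at hle2
      refine hK.realises_plus_even hr2 hk a hle2 fun hSodd => ?_
      rw [show (k + k) * ∑ c, a c = 2 * (k * ∑ c, a c) by ring] at hle2
      refine lt_of_le_of_ne (by omega) fun h => ?_
      have hfull : 2 * m / (orderOf (Fintype.card F : ZMod r)) = ∑ c, a c := Nat.div_eq_of_eq_mul_right hi0 (by rw [hk, ← h]; ring)
      have hA : ¬ Odd (orderOf (Fintype.card F : ZMod r)) ∧ (orderOf (Fintype.card F : ZMod r)) ∣ 2 * m ∧ Odd (2 * m / (orderOf (Fintype.card F : ZMod r))) :=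
        ⟨Nat.not_odd_iff_even.2 ⟨k, hk⟩, ⟨∑ c, a c, by rw [hk, ← h]; ring⟩, by rwa [hfull]⟩
      rw [hM, if_pos hA, hfull] at hle
      have := hSodd.pos
      omega
    · have hne : Semisimple.negOrb F r ≠ 1 := fun h =>
        (Nat.not_even_iff_odd.2 hodd) ((hK.negOrb_eq_one_iff hr2).1 h)
      obtain ⟨b, hb, hbs⟩ := Semisimple.exists_half _ (Semisimple.negOrb_mul_self F r) hne a ha
      refine hK.realises_plus_split m a b hb ?_
      rw [← hbs, mul_left_comm] at hle2
      omega
  · have hle : (orderOf (Fintype.card F : ZMod r)) * ∑ c, (Semisimple.orbMult ζ f : Semisimple.Orb F r → ℕ) c ≤ 2 * m := hdim ▸ hK.orbMult_le f hf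
    have hle' : ∑ c, (Semisimple.orbMult ζ f : Semisimple.Orb F r → ℕ) c ≤ 2 * m / (orderOf (Fintype.card F : ZMod r)) :=
      (Nat.le_div_iff_mul_le hi0).2 (by rw [mul_comm]; exact hle)
    rw [hM]
    split_ifs with hA
    · obtain ⟨hno, hdvd, hSodd⟩ := hA
      refine Nat.le_sub_one_of_lt (lt_of_le_of_ne hle' fun hS => ?_)
      obtain ⟨k, hk⟩ := Nat.not_odd_iff_even.1 hno
      have hfull : (orderOf (Fintype.card F : ZMod r)) * ∑ c, (Semisimple.orbMult ζ f : Semisimple.Orb F r → ℕ) c = 2 * m := by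
        rw [hS, Nat.mul_div_cancel' hdvd]
      have hz := (hK.zeros_of_full (Forms.quadPlus m F) f hf hQf (by rw [hdim, hfull])).2
      have hq1 := hK.card_ne_one_of_even ⟨k, hk⟩
      have hn1 := hK.neg_one_ne_one hr2
      have hpow : (Fintype.card F : ZMod r) ^ m = -1 := by
        have hmk : m = k * (2 * m / (orderOf (Fintype.card F : ZMod r))) := by
          have h3 := Nat.mul_div_cancel' hdvd
          rw [hk] at h3 ⊢
          rw [show (k + k) * (2 * m / (k + k)) = 2 * (k * (2 * m / (k + k))) by ring] at h3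
          omega
        rw [hmk, hK.pow_half_mul hr2 hk, hSodd.neg_one_pow]
      refine Semisimple.RootField.plus_zeros_ne (r := r) (by rw [hpow]; exact hn1) (fun h => hq1 ?_) hz
      have h1 : (Fintype.card F : ZMod r) ^ (m - 1 + 1) = -1 := by rw [Nat.sub_add_cancel hm, hpow]
      rwa [pow_succ, h, neg_one_mul, neg_inj] at h1
    · exact hle'

end Cfsg.Agent.S2674
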