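import Cfsg.Statements.S2675
import Cfsg.Agent.Lib.Semisimple.OrthClasses

set_option autoImplicit false
open Cfsg

namespace Cfsg.Agent.S2675

/-- Number of conjugacy classes of elements of odd prime order r ≠ p in the orthogonal group O⁻_2m(q) of an elliptic form Σ_(j<m−1) x_j y_j + z₁² + a z₁z₂ + c z₂² (binary part anisotropic, m ≥ 1): with i the multiplicative order of q mod r and t = (r − 1)/i — if i is odd, C(⌊m/i⌋ + t/2, t/2) − 1 minus, when i divides m, the C(m/i + t/2 − 1, t/2 − 1) tuples filling the whole space (dual pairs of totally singular blocks fill a hyperbolic space); if i is even, C(⌊2m/i⌋ + t, t) − 1 minus, when i divides 2m with even quotient, the C(2m/i + t − 1, t − 1) tuples filling the whole space with an even number of elliptic blocks. -/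
theorem result {F : Type*} [Field F] [Fintype F] {p q : ℕ} [Fact p.Prime] [CharP F p] (hF : Fintype.card F = q) (m r i t : ℕ) (hm : 1 ≤ m) (a c : F) (hac : ∀ z₁ z₂ : F, z₁ ^ 2 + a * z₁ * z₂ + c * z₂ ^ 2 = 0 → z₁ = 0 ∧ z₂ = 0) (hr : r.Prime) (hr2 : r ≠ 2) (hrp : r ≠ p) (hi : i = orderOf (q : ZMod r)) (ht : t * i = r - 1) : Nat.card {C : ConjClasses ↥(Cfsg.isometryGroup F (Cfsg.quadFormMinus (m - 1) F a c)) // ∃ g : ↥(Cfsg.isometryGroup F (Cfsg.quadFormMinus (m - 1) F a c)), ConjClasses.mk g = C ∧ orderOf g = r} = if Odd i then Nat.choose (m / i + t / 2) (t / 2) - 1 - (if i ∣ m then Nat.choose (m / i + t / 2 - 1) (t / 2 - 1) else 0) else Nat.choose (2 * m / i + t) t - 1 - (if i ∣ 2 * m ∧ Even (2 * m / i) then Nat.choose (2 * m / i + t - 1) (t - 1) else 0) := by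
  classical
  subst hF hi
  have : Fact r.Prime := ⟨hr⟩
  obtain ⟨K, _, _, _, ζ, hK⟩ := Semisimple.exists_rootField (F := F) (r := r) p hrp
  have hi0 : 0 < (orderOf (Fintype.card F : ZMod r)) := by
    rw [← hK.deg]
    exact Module.finrank_pos
  have ht0 : 0 < t := by
    rcases Nat.eq_zero_or_pos t with h | h
    · have := hr.two_le
      rw [h, zero_mul] at ht
      omega
    · exact h
  have hdim : Module.finrank F ((Fin (m - 1) ⊕ Fin (m - 1)) ⊕ Fin 2 → F) = 2 * m := by simp; omega
  have hQ := Forms.quadMinus_nondegenerate (F := F) (m - 1) hac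
  -- the effective bound
  set M := if (Odd (orderOf (Fintype.card F : ZMod r)) ∧ (orderOf (Fintype.card F : ZMod r)) ∣ m) ∨ (¬ Odd (orderOf (Fintype.card F : ZMod r)) ∧ (orderOf (Fintype.card F : ZMod r)) ∣ 2 * m ∧ Even (2 * m / (orderOf (Fintype.card F : ZMod r)))) then 2 * m / (orderOf (Fintype.card F : ZMod r)) - 1 else 2 * m / (orderOf (Fintype.card F : ZMod r)) with hM
  rw [hK.card_orth_classes (Forms.quadMinus (m - 1) F a c) Forms.quadMinus_apply hQ hr2
    (fun x => (∀ o, x (o * Semisimple.negOrb F r) = x o) ∧ ∑ o, x o ≤ M)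
    (fun f hf hQf => ⟨fun o => hK.orbMult_symm _ hQ.1 f hf (fun x y => Semisimple.polar_map f hQf x y) o, ?_⟩) ?_]
  · rw [hM]
    by_cases hodd : Odd (orderOf (Fintype.card F : ZMod r))
    · have hh : 2 * m / (orderOf (Fintype.card F : ZMod r)) / 2 = m / (orderOf (Fintype.card F : ZMod r)) := by
        rw [Nat.div_div_eq_div_mul, mul_comm (orderOf (Fintype.card F : ZMod r)) 2, Nat.mul_div_mul_left _ _ two_pos]
      have ht2 : 1 ≤ t / 2 := by
        have he : Even (t * (orderOf (Fintype.card F : ZMod r))) := by rw [ht]; exact Nat.Odd.sub_odd (hr.odd_of_ne_two hr2) odd_one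
        rw [Nat.even_mul] at he
        obtain ⟨u, hu⟩ := he.resolve_right (Nat.not_even_iff_odd.2 hodd)
        omega
      rw [if_pos hodd, hK.card_symm_nonzero hr2 hodd ht]
      by_cases hdvd : (orderOf (Fintype.card F : ZMod r)) ∣ m
      · rw [if_pos (Or.inl ⟨hodd, hdvd⟩), if_pos hdvd]
        have h2 : 2 * m / (orderOf (Fintype.card F : ZMod r)) = 2 * (m / (orderOf (Fintype.card F : ZMod r))) := Nat.mul_div_assoc 2 hdvd
        have hpos : 1 ≤ m / (orderOf (Fintype.card F : ZMod r)) := Nat.div_pos (Nat.le_of_dvd (by omega) hdvd) hi0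
        rw [show (2 * m / (orderOf (Fintype.card F : ZMod r)) - 1) / 2 = m / (orderOf (Fintype.card F : ZMod r)) - 1 by omega, Semisimple.choose_pred_add _ _ hpos ht2]
      · rw [if_neg (by rintro (h | h); exacts [hdvd h.2, h.1 hodd]), if_neg hdvd, hh, Nat.sub_zero]
    · have he : Semisimple.negOrb F r = 1 := (hK.negOrb_eq_one_iff hr2).2 (Nat.not_odd_iff_even.1 hodd)
      simp only [he, mul_one, implies_true, true_and]
      rw [if_neg hodd, hK.card_le_nonzero ht]
      by_cases hd : (orderOf (Fintype.card F : ZMod r)) ∣ 2 * m ∧ Even (2 * m / (orderOf (Fintype.card F : ZMod r)))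
      · rw [if_pos (Or.inr ⟨hodd, hd⟩), if_pos hd,
          Semisimple.choose_pred_add _ _ (Nat.div_pos (Nat.le_of_dvd (by omega) hd.1) hi0) ht0]
      · rw [if_neg (by rintro (h | h); exacts [hodd h.1, hd h.2]), if_neg hd, Nat.sub_zero]
  · rintro x ⟨hx, hle⟩ -
    have hle2 : (orderOf (Fintype.card F : ZMod r)) * ∑ o, x o ≤ 2 * m := by
      have h1 : ∑ o, x o ≤ 2 * m / (orderOf (Fintype.card F : ZMod r)) := hle.trans (by rw [hM]; split_ifs; exacts [Nat.sub_le _ _, le_rfl])
      rwa [Nat.le_div_iff_mul_le hi0, mul_comm] at h1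
    have hstrict : (Odd (orderOf (Fintype.card F : ZMod r)) ∨ Even (∑ o, x o)) → (orderOf (Fintype.card F : ZMod r)) * ∑ o, x o ≠ 2 * m := by
      intro hor h
      have hfull : 2 * m / (orderOf (Fintype.card F : ZMod r)) = ∑ o, x o := Nat.div_eq_of_eq_mul_right hi0 h.symm
      have hA : (Odd (orderOf (Fintype.card F : ZMod r)) ∧ (orderOf (Fintype.card F : ZMod r)) ∣ m) ∨ (¬ Odd (orderOf (Fintype.card F : ZMod r)) ∧ (orderOf (Fintype.card F : ZMod r)) ∣ 2 * m ∧ Even (2 * m / (orderOf (Fintype.card F : ZMod r)))) := by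
        by_cases hodd : Odd (orderOf (Fintype.card F : ZMod r))
        · exact Or.inl ⟨hodd, (Nat.coprime_two_right.2 hodd).dvd_of_dvd_mul_left ⟨_, h.symm⟩⟩
        · exact Or.inr ⟨hodd, ⟨_, h.symm⟩, by rw [hfull]; exact hor.resolve_left hodd⟩
      rw [hM, if_pos hA, hfull] at hle
      have : 0 < ∑ o, x o := Nat.pos_of_ne_zero fun h0 => by rw [h0, mul_zero] at h; omega
      omega
    rcases Nat.even_or_odd (orderOf (Fintype.card F : ZMod r)) with hev | hodd
    · obtain ⟨k, hk⟩ := hev
      refine hK.realises_minus_even hr2 hk hac x (by rwa [hk] at hle2) fun hSev => ?_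
      have := hstrict (Or.inr hSev)
      rw [hk, show (k + k) * ∑ o, x o = 2 * (k * ∑ o, x o) by ring] at hle2 this
      omega
    · have hne : Semisimple.negOrb F r ≠ 1 := fun h =>
        (Nat.not_even_iff_odd.2 hodd) ((hK.negOrb_eq_one_iff hr2).1 h)
      obtain ⟨b, hb, hbs⟩ := Semisimple.exists_half _ (Semisimple.negOrb_mul_self F r) hne x hx
      have := hstrict (Or.inl hodd)
      rw [← hbs, mul_left_comm] at hle2 this
      exact hK.realises_minus_of_plus a c (hK.realises_plus_split (m - 1) x b hb (by omega))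
  · have hle : (orderOf (Fintype.card F : ZMod r)) * ∑ o, (Semisimple.orbMult ζ f : Semisimple.Orb F r → ℕ) o ≤ 2 * m := hdim ▸ hK.orbMult_le f hf
    have hle' : ∑ o, (Semisimple.orbMult ζ f : Semisimple.Orb F r → ℕ) o ≤ 2 * m / (orderOf (Fintype.card F : ZMod r)) :=
      (Nat.le_div_iff_mul_le hi0).2 (by rw [mul_comm]; exact hle)
    rw [hM]
    split_ifs with hA
    · refine Nat.le_sub_one_of_lt (lt_of_le_of_ne hle' fun hS => ?_)
      have hdvd2 : (orderOf (Fintype.card F : ZMod r)) ∣ 2 * m := hA.elim (fun h => Dvd.dvd.mul_left h.2 2) fun h => h.2.1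
      have hfull : (orderOf (Fintype.card F : ZMod r)) * ∑ o, (Semisimple.orbMult ζ f : Semisimple.Orb F r → ℕ) o = 2 * m := by
        rw [hS, Nat.mul_div_cancel' hdvd2]
      rcases hA with ⟨hodd, -⟩ | ⟨hno, -, hSev⟩
      · exact hK.no_full_minus hr2 hodd hac hm f hf hQf hfull
      obtain ⟨k, hk⟩ := Nat.not_odd_iff_even.1 hno
      have hz := (hK.zeros_of_full (Forms.quadMinus (m - 1) F a c) f hf hQf (by rw [hdim, hfull])).2
      have hq1 := hK.card_ne_one_of_even ⟨k, hk⟩
      have hn1 := hK.neg_one_ne_one hr2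
      have hpow : (Fintype.card F : ZMod r) ^ m = 1 := by
        have hmk : m = k * (2 * m / (orderOf (Fintype.card F : ZMod r))) := by
          have h3 := Nat.mul_div_cancel' hdvd2
          rw [hk] at h3 ⊢
          rw [show (k + k) * (2 * m / (k + k)) = 2 * (k * (2 * m / (k + k))) by ring] at h3
          omega
        rw [hmk, hK.pow_half_mul hr2 hk, hSev.neg_one_pow]
      refine Semisimple.RootField.minus_zeros_ne (r := r) hac hm (by rw [hpow]; exact hn1.symm)
        (fun h => hq1 ?_) hz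
      have h1 : (Fintype.card F : ZMod r) ^ (m - 1 + 1) = 1 := by rw [Nat.sub_add_cancel hm, hpow]
      rwa [pow_succ, h, one_mul] at h1
    · exact hle'

end Cfsg.Agent.S2675
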