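import Cfsg.Statements.S2676
import Cfsg.Agent.Lib.UnipForms.SympUnipotent

set_option autoImplicit false
open Classical
open Cfsg

namespace Cfsg.Agent.S2676

open UnipForms.SympUnipotent UnipCentralizer UnipCentralizer.Leading LinRep.JordanType Matrix

variable {F : Type*} [Field F]

theorem pow_eq_zero_iff_parts {V : Type*} [AddCommGroup V] [Module F V] [FiniteDimensional F V]
    {N : Module.End F V} {μ : Multiset ℕ} (h : HasType N μ) (j : ℕ) : N ^ j = 0 ↔ ∀ a ∈ μ, a ≤ j := by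
  have hs : (μ.map (· - j)).sum = 0 ↔ ∀ a ∈ μ, a ≤ j := by
    rw [Multiset.sum_eq_zero_iff]
    constructor
    · intro hh a ha
      have := hh _ (Multiset.mem_map_of_mem _ ha)
      omega
    · intro hh x hx
      obtain ⟨a, ha, rfl⟩ := Multiset.mem_map.1 hx
      have := hh a ha
      omega
  rw [← hs, ← h j, UnipForms.rankDim_eq_range, Submodule.finrank_eq_zero, LinearMap.range_eq_bot]

variable {m : ℕ}

/-- The type of an element with Cayley coordinates. -/
theorem type_of_coords (h2 : (2 : F) ≠ 0) {t : ℕ} {d : Fin t → ℕ} {g : Matrix.symplecticGroup (Fin m) F}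
    (C : Coords g (cay (F := F) d)) :
    IsNilpotent (Matrix.toLinAlgEquiv' ((g : Matrix (Fin m ⊕ Fin m) (Fin m ⊕ Fin m) F) - 1)) ∧
      HasType (Matrix.toLinAlgEquiv' ((g : Matrix (Fin m ⊕ Fin m) (Fin m ⊕ Fin m) F) - 1))
        (Finset.univ.val.map d) := by
  obtain ⟨hn, ht⟩ := (UnipForms.isConj_jordan_iff d (Equiv.refl (Pos d)) (cay (F := F) d)).1 (isConj_cay d h2)
  let L : (Pos d → F) ≃ₗ[F] (Fin m ⊕ Fin m → F) := Matrix.toLin'OfInv C.hT'T C.hTT'
  have hL : ∀ v, L (Matrix.toLinAlgEquiv' (cay (F := F) d - 1) v) =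
      Matrix.toLinAlgEquiv' ((g : Matrix (Fin m ⊕ Fin m) (Fin m ⊕ Fin m) F) - 1) (L v) := fun v => by
    show C.T *ᵥ ((cay (F := F) d - 1) *ᵥ v) =
      ((g : Matrix (Fin m ⊕ Fin m) (Fin m ⊕ Fin m) F) - 1) *ᵥ (C.T *ᵥ v)
    rw [Matrix.mulVec_mulVec, Matrix.mulVec_mulVec, Matrix.mul_sub, Matrix.sub_mul, C.hG, Matrix.mul_one,
      Matrix.one_mul]
  exact ⟨UnipForms.isNilpotent_conj L hL hn, UnipForms.hasType_conj L hL ht⟩

theorem orderOf_eq_iff {p : ℕ} [Fact p.Prime] [CharP F p] {g : Matrix.symplecticGroup (Fin m) F}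
    {μ : Multiset ℕ}
    (hμ : HasType (Matrix.toLinAlgEquiv' ((g : Matrix (Fin m ⊕ Fin m) (Fin m ⊕ Fin m) F) - 1)) μ) :
    orderOf g = p ↔ (∀ a ∈ μ, a ≤ p) ∧ ¬ ∀ a ∈ μ, a ≤ 1 := by
  have hpow : ((g : Matrix (Fin m ⊕ Fin m) (Fin m ⊕ Fin m) F) - 1) ^ p =
      (g : Matrix (Fin m ⊕ Fin m) (Fin m ⊕ Fin m) F) ^ p - 1 := by
    have h := congrArg (Polynomial.aeval (g : Matrix (Fin m ⊕ Fin m) (Fin m ⊕ Fin m) F))
      (sub_pow_char_pow (Polynomial.X : Polynomial F) 1 (n := 1) (p := p))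
    simpa using h
  rw [← orderOf_submonoid g, orderOf_eq_prime_iff, ← pow_eq_zero_iff_parts hμ, ← pow_eq_zero_iff_parts hμ, pow_one,
    ← map_pow, map_eq_zero_iff _ Matrix.toLinAlgEquiv'.injective, map_eq_zero_iff _ Matrix.toLinAlgEquiv'.injective,
    hpow, sub_eq_zero, sub_eq_zero]

/-- The even part sizes. -/
def evens (μ : Multiset ℕ) : Finset ℕ := μ.toFinset.filter (fun j : ℕ => Even j)

/-- Number of conjugacy classes of elements of order p in Sp_2m(q), q a power of the odd prime p: the classes correspond to the signed partitions of 2m — partitions with all parts at most p in which every odd part has even multiplicity, each even part size that occurs carrying a sign — other than the all-ones partition; so the count is the sum over such partitions of 2^(number of distinct even parts), minus one. -/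
theorem result {F : Type*} [Field F] [Fintype F] {p : ℕ} [Fact p.Prime] [CharP F p] (hp : p ≠ 2) (m : ℕ) : Nat.card {C : ConjClasses ↥(Matrix.symplecticGroup (Fin m) F) // ∃ g : Matrix.symplecticGroup (Fin m) F, ConjClasses.mk g = C ∧ orderOf g = p} = (∑ μ ∈ Finset.univ.filter (fun μ : Nat.Partition (2 * m) => (∀ a ∈ μ.parts, a ≤ p) ∧ ∀ j : ℕ, Odd j → Even (μ.parts.count j)), 2 ^ ((μ.parts.toFinset.filter (fun j : ℕ => Even j)).card)) - 1 := by
  classical
  have h2 : (2 : F) ≠ 0 := fun h => hp ((Nat.prime_dvd_prime_iff_eq (Fact.out : p.Prime) Nat.prime_two).1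
    ((CharP.cast_eq_zero_iff F p 2).1 (by exact_mod_cast h)))
  set S := Finset.univ.filter (fun μ : Nat.Partition (2 * m) => (∀ a ∈ μ.parts, a ≤ p) ∧
    ∀ j : ℕ, Odd j → Even (μ.parts.count j)) with hS
  have hones : ∀ μ : Nat.Partition (2 * m), μ.parts = Multiset.replicate (2 * m) 1 ↔ ∀ a ∈ μ.parts, a ≤ 1 := by
    intro μ
    constructor
    · intro h a ha; rw [h] at ha; exact (Multiset.eq_of_mem_replicate ha).le
    · intro h
      have h1 : μ.parts = Multiset.replicate μ.parts.card 1 :=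
        Multiset.eq_replicate_card.2 fun a ha => le_antisymm (h a ha) (μ.parts_pos ha)
      have h3 : μ.parts.card = 2 * m := by
        conv_rhs => rw [← μ.parts_sum, h1]
        simp
      rw [h3] at h1; exact h1
  let one : Nat.Partition (2 * m) :=
    ⟨Multiset.replicate (2 * m) 1, fun h => by rw [Multiset.eq_of_mem_replicate h]; exact one_pos, by simp⟩
  have honeS : one ∈ S := by
    simp only [hS, Finset.mem_filter, Finset.mem_univ, true_and]
    refine ⟨fun a ha => (Multiset.eq_of_mem_replicate ha).le.trans (Fact.out : p.Prime).one_lt.le, fun j _ => ?_⟩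
    show Even ((Multiset.replicate (2 * m) 1).count j)
    rw [Multiset.count_replicate]
    split_ifs
    · exact even_two_mul m
    · exact Even.zero
  set T := S.erase one with hT
  have hsum : (∑ μ ∈ S, 2 ^ (evens μ.parts).card) - 1 = ∑ μ ∈ T, 2 ^ (evens μ.parts).card := by
    rw [← Finset.add_sum_erase S _ honeS]
    have h0 : evens one.parts = ∅ := Finset.filter_eq_empty_iff.2 fun j hj => by
      rw [Multiset.mem_toFinset] at hj
      rw [Multiset.eq_of_mem_replicate hj]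
      exact Nat.not_even_one
    rw [h0, Finset.card_empty, pow_zero, Nat.add_sub_cancel_left]
  show _ = (∑ μ ∈ S, 2 ^ (evens μ.parts).card) - 1
  rw [hsum]
  -- realisations
  have hd : ∀ μ : Nat.Partition (2 * m), ∀ k, 1 ≤ blocks μ.parts k := fun μ =>
    one_le_blocks fun a ha => μ.parts_pos ha
  have hmemT : ∀ μ, μ ∈ T ↔ ((∀ a ∈ μ.parts, a ≤ p) ∧ ∀ j : ℕ, Odd j → Even (μ.parts.count j)) ∧
      ¬ ∀ a ∈ μ.parts, a ≤ 1 := by
    intro μ
    rw [hT, hS, Finset.mem_erase, Finset.mem_filter, ← hones μ]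
    simp only [Finset.mem_univ, true_and, ne_eq, Nat.Partition.ext_iff, one]
    exact and_comm
  have hblk : ∀ (μ : Nat.Partition (2 * m)) a, a ∈ evens μ.parts →
      Even a ∧ Nonempty (Blk (blocks μ.parts) a) := by
    intro μ a ha
    simp only [evens, Finset.mem_filter, Multiset.mem_toFinset] at ha
    refine ⟨ha.2, Fintype.card_pos_iff.1 ?_⟩
    rw [card_blk_blocks]
    exact Multiset.count_pos.2 ha.1
  have hreal : ∀ x : Σ μ : T, (↥(evens μ.1.parts) → Bool),
      ∃ (g : Matrix.symplecticGroup (Fin m) F) (C : Coords g (cay (F := F) (blocks x.1.1.parts))),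
        ∀ a : ↥(evens x.1.1.parts),
          (IsSquare (leadForm _ (hd x.1.1) C.form a.1).det ↔ x.2 a = true) := by
    rintro ⟨⟨μ, hμ⟩, s⟩
    obtain ⟨Y, hY, hYs⟩ := exists_form_sq (blocks μ.parts) (hd μ) h2 (fun a ha => by
      rw [card_blk_blocks]; exact ((hmemT μ).1 hμ).1.2 a ha)
      (fun a => if h : a ∈ evens μ.parts then s ⟨a, h⟩ else true)
    obtain ⟨g, C, hC⟩ := exists_coords_of_form (m := m) (G := cay (F := F) (blocks μ.parts)) h2
      (by simp [sum_blocks, μ.parts_sum]) hY.1 hY.2.1 ((cay_invariant_iff _ h2 _).2 hY.2.2)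
    refine ⟨g, C, fun a => ?_⟩
    rw [hC, hYs a.1 (hblk μ a.1 a.2).1 (hblk μ a.1 a.2).2, dif_pos a.2]
  choose g C hg using hreal
  have hord : ∀ x, orderOf (g x) = p := by
    intro x
    rw [orderOf_eq_iff (type_of_coords h2 (C x)).2]
    have h := (hmemT _).1 x.1.2
    simp only [map_blocks]
    exact ⟨h.1.1, h.2⟩
  rw [← Finset.sum_coe_sort T (fun μ => 2 ^ (evens μ.parts).card)]
  have hcard : Nat.card (Σ μ : T, (↥(evens μ.1.parts) → Bool)) = ∑ μ : T, 2 ^ (evens μ.1.parts).card := by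
    rw [Nat.card_sigma]
    exact Finset.sum_congr rfl fun μ _ => by simp
  rw [← hcard]
  refine (Nat.card_eq_of_bijective (fun x => (⟨ConjClasses.mk (g x), g x, rfl, hord x⟩ :
    {C : ConjClasses ↥(Matrix.symplecticGroup (Fin m) F) //
      ∃ g : Matrix.symplecticGroup (Fin m) F, ConjClasses.mk g = C ∧ orderOf g = p})) ⟨?_, ?_⟩).symm
  · intro x y h
    have hc := ConjClasses.mk_eq_mk_iff_isConj.1 (congrArg Subtype.val h)
    obtain ⟨hnx, htx⟩ := type_of_coords h2 (C x)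
    obtain ⟨hny, hty⟩ := type_of_coords h2 (C y)
    rw [map_blocks] at htx hty
    obtain ⟨z, hz⟩ := isConj_iff.1 hc
    rw [mul_inv_eq_iff_eq_mul] at hz
    let L : (Fin m ⊕ Fin m → F) ≃ₗ[F] (Fin m ⊕ Fin m → F) := Matrix.toLin'OfInv
      (M := (↑(z⁻¹) : Matrix (Fin m ⊕ Fin m) (Fin m ⊕ Fin m) F))
      (M' := (z : Matrix (Fin m ⊕ Fin m) (Fin m ⊕ Fin m) F))
      (congrArg Subtype.val (inv_mul_cancel z)) (congrArg Subtype.val (mul_inv_cancel z))
    have hLv : ∀ v, L (Matrix.toLinAlgEquiv' ((g x : Matrix (Fin m ⊕ Fin m) (Fin m ⊕ Fin m) F) - 1) v) =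
        Matrix.toLinAlgEquiv' ((g y : Matrix (Fin m ⊕ Fin m) (Fin m ⊕ Fin m) F) - 1) (L v) := fun v => by
      show (z : Matrix (Fin m ⊕ Fin m) (Fin m ⊕ Fin m) F) *ᵥ
          (((g x : Matrix (Fin m ⊕ Fin m) (Fin m ⊕ Fin m) F) - 1) *ᵥ v) =
        ((g y : Matrix (Fin m ⊕ Fin m) (Fin m ⊕ Fin m) F) - 1) *ᵥ
          ((z : Matrix (Fin m ⊕ Fin m) (Fin m ⊕ Fin m) F) *ᵥ v)
      have hz' : (z : Matrix (Fin m ⊕ Fin m) (Fin m ⊕ Fin m) F) * (g x : Matrix (Fin m ⊕ Fin m) (Fin m ⊕ Fin m) F) =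
          (g y : Matrix (Fin m ⊕ Fin m) (Fin m ⊕ Fin m) F) * (z : Matrix (Fin m ⊕ Fin m) (Fin m ⊕ Fin m) F) :=
        congrArg Subtype.val hz
      rw [Matrix.mulVec_mulVec, Matrix.mulVec_mulVec, Matrix.mul_sub, Matrix.sub_mul, hz', Matrix.mul_one,
        Matrix.one_mul]
    obtain ⟨⟨μ, hμ⟩, s⟩ := x
    obtain ⟨⟨ν, hν⟩, s'⟩ := y
    obtain rfl : μ = ν := by
      refine Nat.Partition.ext (Multiset.ext.2 fun e => ?_)
      rcases eq_or_ne e 0 with rfl | he
      · rw [Multiset.count_eq_zero_of_notMem fun h0 => (μ.parts_pos h0).false,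
          Multiset.count_eq_zero_of_notMem fun h0 => (ν.parts_pos h0).false]
      · exact UnipClasses.count_eq_of_hasType htx hty (UnipClasses.rankDim_conj L hLv) he
    obtain ⟨c, hcG, hcong⟩ := exists_congr_of_isConj (C ⟨⟨μ, hμ⟩, s⟩) (C ⟨⟨μ, hν⟩, s'⟩) hc
    have hY := isForm_of_coords _ h2 (C ⟨⟨μ, hμ⟩, s⟩)
    have hcI := (commute_cay_iff _ h2 c).1 hcG
    have hcd : c.det ≠ 0 := fun h0 => (C ⟨⟨μ, hν⟩, s'⟩).form_det (by rw [← hcong, det_mul, h0, mul_zero])
    have hs : s = s' := funext fun a => by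
      have e := isSquare_det_congr (blocks μ.parts) (hd μ) (a := a.1) hY hcI hcd
      rw [hcong] at e
      exact Bool.eq_iff_iff.2 ((hg ⟨⟨μ, hμ⟩, s⟩ a).symm.trans (e.symm.trans (hg ⟨⟨μ, hν⟩, s'⟩ a)))
    subst hs
    rfl
  · rintro ⟨K, u, rfl, hu⟩
    have hfin : Module.finrank F (Fin m ⊕ Fin m → F) = 2 * m := by simp [two_mul]
    have hnil : IsNilpotent (Matrix.toLinAlgEquiv' ((u : Matrix (Fin m ⊕ Fin m) (Fin m ⊕ Fin m) F) - 1)) := by
      refine IsNilpotent.map ⟨p, ?_⟩ _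
      have h := congrArg (Polynomial.aeval (u : Matrix (Fin m ⊕ Fin m) (Fin m ⊕ Fin m) F))
        (sub_pow_char_pow (Polynomial.X : Polynomial F) 1 (n := 1) (p := p))
      have h1 : (u : Matrix (Fin m ⊕ Fin m) (Fin m ⊕ Fin m) F) ^ p = 1 := by
        have := congrArg Subtype.val (pow_orderOf_eq_one u)
        rwa [hu] at this
      simpa [h1] using h
    obtain ⟨μ, hμ⟩ := exists_type hnil hfin
    obtain ⟨Cu⟩ := exists_coords_cay (blocks μ.parts) h2 hnil (by rw [map_blocks]; exact hμ)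
      (by rw [sum_blocks, μ.parts_sum])
    have hYu := isForm_of_coords _ h2 Cu
    have hodd : ∀ j : ℕ, Odd j → Even (μ.parts.count j) := fun j hj => by
      rw [← card_blk_blocks]; exact even_card_blk _ (hd μ) h2 hYu hj
    obtain ⟨h1, h3⟩ := (orderOf_eq_iff hμ).1 hu
    have hμT : μ ∈ T := (hmemT μ).2 ⟨⟨h1, hodd⟩, h3⟩
    let x : Σ μ : T, (↥(evens μ.1.parts) → Bool) :=
      ⟨⟨μ, hμT⟩, fun a => decide (IsSquare (leadForm _ (hd μ) Cu.form a.1).det)⟩
    refine ⟨x, Subtype.ext (ConjClasses.mk_eq_mk_iff_isConj.2 ?_)⟩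
    obtain ⟨c, hc1, -, hc3⟩ := exists_congr_forms (blocks μ.parts) (hd μ) p hp h2 (isForm_of_coords _ h2 (C x)) hYu
      (fun a ha => by
        by_cases hmem : a ∈ evens μ.parts
        · rw [hg x ⟨a, hmem⟩]
          exact decide_eq_true_iff
        · haveI : IsEmpty (Blk (blocks μ.parts) a) := Fintype.card_eq_zero_iff.1 (by
            rw [card_blk_blocks, Multiset.count_eq_zero]
            exact fun h => hmem (Finset.mem_filter.2 ⟨Multiset.mem_toFinset.2 h, ha⟩))
          rw [Matrix.det_isEmpty, Matrix.det_isEmpty])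
    exact isConj_of_congr (C x) Cu c ((commute_cay_iff _ h2 c).2 hc1) hc3

end Cfsg.Agent.S2676
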