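import Cfsg.Statements.S2677
import Cfsg.Agent.Lib.AutPSL.FieldAut
import Cfsg.Agent.Lib.AutPSL.GraphField
import Cfsg.Agent.Lib.Forms.Herm

set_option autoImplicit false
open Cfsg

namespace Cfsg.Agent.S2677

open Cfsg.Agent

theorem fixed_rep_count {K : Type*} [Field K] [Fintype K] {q₀ q r m : ℕ} (hr : r.Prime) (hr2 : r ≠ 2)
    (hq : q = q₀ ^ r) (hK : Fintype.card K = q ^ 2) (σ : K ≃+* K) (hσ : orderOf σ = r) :
    ∃ N : ℕ, Nat.card {g : ↥(Cfsg.GU (m + 1) K q) // ∃ c : K, c ≠ 0 ∧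
        ((g : GL (Fin (m + 1)) K) : Matrix (Fin (m + 1)) (Fin (m + 1)) K).map σ =
          c • ((g : GL (Fin (m + 1)) K) : Matrix (Fin (m + 1)) (Fin (m + 1)) K)} * (q₀ + 1) = N * (q + 1) ∧
      N = q₀ ^ ((m + 1) * (m + 1 - 1) / 2) *
        ∏ i ∈ Finset.range (m + 1), (if Even i then q₀ ^ (i + 1) + 1 else q₀ ^ (i + 1) - 1) := by
  classical
  letI : Fintype (FieldExt.fixedField σ) := Fintype.ofFinite _
  have hF₀ : Fintype.card (FieldExt.fixedField σ) = q₀ ^ 2 := by
    have h := FieldExt.card_fixedField_pow σ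
    rw [hσ, hK, hq, ← pow_mul, mul_comm r 2, pow_mul, Nat.card_eq_fintype_card] at h
    exact Nat.pow_left_injective hr.ne_zero h
  let τ : K ≃+* K := RingEquiv.ofRingHom (Forms.qEnd hK) (Forms.qEnd hK)
    (RingHom.ext (Forms.qEnd_qEnd hK)) (RingHom.ext (Forms.qEnd_qEnd hK))
  let τ₀ : FieldExt.fixedField σ ≃+* FieldExt.fixedField σ := RingEquiv.ofRingHom (Forms.qEnd hF₀)
    (Forms.qEnd hF₀) (RingHom.ext (Forms.qEnd_qEnd hF₀)) (RingHom.ext (Forms.qEnd_qEnd hF₀))
  have hτ : ∀ a, τ a = a ^ q := fun a => rfl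
  have hτ₀ : ∀ a, τ₀ a = a ^ q₀ := fun a => rfl
  obtain ⟨k, hk⟩ := hr.odd_of_ne_two hr2
  have hcompat : ∀ x : FieldExt.fixedField σ, (x : K) ^ q = (x : K) ^ q₀ := by
    intro x
    have h1 : x ^ q = x ^ q₀ := by
      rw [hq, hk, pow_succ, pow_mul x, pow_mul q₀ 2 k, ← hF₀, FiniteField.pow_card_pow]
    simpa using congrArg Subtype.val h1
  let ι : FieldExt.fixedField σ →+* K := (FieldExt.fixedField σ).subtype
  let J : GL (Fin (m + 1)) (FieldExt.fixedField σ) →* GL (Fin (m + 1)) K := Matrix.GeneralLinearGroup.map ι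
  have hJval : ∀ g, (J g).val = g.val.map ι := fun g => rfl
  have hJσ : ∀ g, FieldExt.glMap σ (J g) = J g := fun g =>
    Units.ext (Matrix.ext fun a b => FieldExt.mem_fixedField.1 (g.val a b).2)
  have hJ : ∀ g, J g ∈ Cfsg.GU (m + 1) K q ↔ g ∈ Cfsg.GU (m + 1) (FieldExt.fixedField σ) q₀ := by
    intro g
    rw [AutPSL.mem_GU_iff hK τ hτ, AutPSL.mem_GU_iff hF₀ τ₀ hτ₀, hJval]
    have hm : (g.val.map ι).map τ = (g.val.map τ₀).map ι := by
      ext a b
      simp only [Matrix.map_apply, hτ, hτ₀, map_pow]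
      exact hcompat _
    rw [hm, ← Matrix.transpose_map, ← Matrix.map_mul]
    constructor
    · intro h
      exact Matrix.map_injective ι.injective (by beta_reduce; rw [h, Matrix.map_one ι (map_zero ι) (map_one ι)])
    · intro h
      rw [h, Matrix.map_one ι (map_zero ι) (map_one ι)]
  let U : Subgroup Kˣ := (powMonoidHom (q + 1) : Kˣ →* Kˣ).ker
  have hsc : ∀ u : Kˣ, (Matrix.GeneralLinearGroup.scalar (Fin (m + 1)) u ∈ Cfsg.GU (m + 1) K q ↔ u ∈ U) := by
    intro u
    rw [AutPSL.mem_GU_iff hK τ hτ]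
    simp only [U, MonoidHom.mem_ker, powMonoidHom_apply, Matrix.GeneralLinearGroup.coe_scalar, Matrix.scalar_apply]
    rw [Matrix.diagonal_map (map_zero τ), Matrix.diagonal_transpose, Matrix.diagonal_mul_diagonal,
      ← Matrix.diagonal_one, Matrix.diagonal_injective.eq_iff, Units.ext_iff, Units.val_pow_eq_pow_val,
      Units.val_one, pow_succ']
    exact ⟨fun h => by simpa [hτ] using congrFun h 0, fun h => funext fun _ => by simpa [hτ] using h⟩
  let φ : ↥(Cfsg.GU (m + 1) (FieldExt.fixedField σ) q₀) × U →* GL (Fin (m + 1)) K :=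
    MonoidHom.noncommCoprod (J.comp (Subgroup.subtype _))
      ((Matrix.GeneralLinearGroup.scalar (Fin (m + 1))).comp U.subtype)
      (fun a b => (Matrix.GeneralLinearGroup.scalar_commute (b : Kˣ) _).symm)
  have hφ : ∀ a b, φ (a, b) = J a * Matrix.GeneralLinearGroup.scalar (Fin (m + 1)) (b : Kˣ) := fun a b => rfl
  have hrange : ∀ g : GL (Fin (m + 1)) K, g ∈ φ.range ↔ g ∈ Cfsg.GU (m + 1) K q ∧
      ∃ c : K, c ≠ 0 ∧ g.val.map σ = c • g.val := by
    intro g
    constructor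
    · rintro ⟨⟨a, b⟩, rfl⟩
      rw [hφ]
      refine ⟨mul_mem ((hJ _).2 a.2) ((hsc _).2 b.2), σ ((b : Kˣ) : K) / ((b : Kˣ) : K), by simp, ?_⟩
      ext i j
      have := FieldExt.mem_fixedField.1 ((a : GL _ (FieldExt.fixedField σ)).val i j).2
      simp [hJval, Matrix.GeneralLinearGroup.coe_scalar, Matrix.mul_diagonal, ι, this]
      field_simp
    · rintro ⟨hg, c, hc0, hc⟩
      have hc' : FieldExt.glMap σ g = g * Matrix.GeneralLinearGroup.scalar (Fin (m + 1)) (Units.mk0 c hc0) := by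
        refine Units.ext ?_
        rw [FieldExt.glMap_val, hc]
        ext i j
        simp [Matrix.GeneralLinearGroup.coe_scalar, Matrix.mul_diagonal, mul_comm]
      obtain ⟨g₀, y, hg₀, rfl⟩ := AutPSL.exists_fixed_rep σ g _ hc'
      have hfix : ∀ i j, σ (g₀.val i j) = g₀.val i j := fun i j =>
        congrArg (fun A : GL (Fin (m + 1)) K => A.val i j) hg₀
      have hmul := (AutPSL.mem_GU_iff hK τ hτ _).1 hg
      have hval : (g₀ * Matrix.GeneralLinearGroup.scalar (Fin (m + 1)) y).val = (y : K) • g₀.val := by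
        ext i j
        simp [Matrix.GeneralLinearGroup.coe_scalar, Matrix.mul_diagonal, mul_comm]
      rw [hval, Matrix.map_smul' τ _ _ (fun a b => map_mul τ a b), Matrix.transpose_smul, Matrix.smul_mul,
        Matrix.mul_smul, smul_smul, hτ, ← pow_succ'] at hmul
      have ha := congrFun (congrFun hmul 0) 0
      rw [Matrix.smul_apply, Matrix.one_apply_eq, smul_eq_mul] at ha
      set a := (y : K) ^ (q + 1) with ha'
      have ha0 : a ≠ 0 := pow_ne_zero _ y.ne_zero
      have hainv : a = ((g₀.val * (g₀.val.map τ).transpose) 0 0)⁻¹ := eq_inv_of_mul_eq_one_left ha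
      have hσa : σ a = a := by
        rw [hainv, map_inv₀, inv_inj, Matrix.mul_apply, map_sum]
        refine Finset.sum_congr rfl fun i _ => ?_
        simp [hτ, hfix]
      have hqa : (⟨a, FieldExt.mem_fixedField.2 hσa⟩ : FieldExt.fixedField σ) ^ q₀ =
          ⟨a, FieldExt.mem_fixedField.2 hσa⟩ := by
        refine Subtype.ext ?_
        rw [SubmonoidClass.coe_pow, ← hcompat ⟨a, FieldExt.mem_fixedField.2 hσa⟩]
        show a ^ q = a
        rw [ha', ← pow_mul, mul_comm, pow_mul, pow_succ, Forms.pow_q_q hK, ← pow_succ']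
      obtain ⟨x, hx0, hx⟩ := Forms.exists_norm_eq hF₀ (fun h => ha0 (congrArg Subtype.val h)) hqa
      have hxK : (x : K) ^ (q + 1) = a := by
        rw [pow_succ, hcompat, ← pow_succ]
        exact congrArg Subtype.val hx
      have hx0' : (x : K) ≠ 0 := fun h => hx0 (Subtype.ext h)
      let g₁ : Matrix (Fin (m + 1)) (Fin (m + 1)) (FieldExt.fixedField σ) :=
        Matrix.of fun i j => x * ⟨g₀.val i j, FieldExt.mem_fixedField.2 (hfix i j)⟩
      have hg₁ : g₁.map ι = (x : K) • g₀.val := Matrix.ext fun i j => rfl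
      have hdet : g₁.det ≠ 0 := by
        intro h0
        have h1 : ι g₁.det = (g₁.map ι).det := RingHom.map_det ι g₁
        rw [h0, map_zero, hg₁, Matrix.det_smul] at h1
        exact mul_ne_zero (pow_ne_zero _ hx0')
          ((Matrix.isUnit_iff_isUnit_det _).1 g₀.isUnit).ne_zero h1.symm
      let G₁ := Matrix.GeneralLinearGroup.mkOfDetNeZero g₁ hdet
      let z : Kˣ := y * Units.mk0 (x : K)⁻¹ (inv_ne_zero hx0')
      have hz : z ∈ U := by
        show z ^ (q + 1) = 1
        refine Units.ext ?_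
        simp [z, mul_pow, hxK, ← ha', ha0]
      have heq : J G₁ * Matrix.GeneralLinearGroup.scalar (Fin (m + 1)) z =
          g₀ * Matrix.GeneralLinearGroup.scalar (Fin (m + 1)) y := by
        refine Units.ext ?_
        rw [Units.val_mul, hJval, show G₁.val = g₁ from rfl, hg₁]
        ext i j
        simp [Matrix.GeneralLinearGroup.coe_scalar, Matrix.mul_diagonal, z]
        field_simp
      have hG₁ : G₁ ∈ Cfsg.GU (m + 1) (FieldExt.fixedField σ) q₀ := by
        rw [← hJ]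
        have : J G₁ = (g₀ * Matrix.GeneralLinearGroup.scalar (Fin (m + 1)) y) *
            (Matrix.GeneralLinearGroup.scalar (Fin (m + 1)) z)⁻¹ := by rw [← heq, mul_inv_cancel_right]
        rw [this]
        exact mul_mem hg (inv_mem ((hsc _).2 hz))
      exact ⟨(⟨G₁, hG₁⟩, ⟨z, hz⟩), heq⟩
  have hker : Nat.card φ.ker = q₀ + 1 := by
    let U₀ : Subgroup (FieldExt.fixedField σ)ˣ := (powMonoidHom (q₀ + 1)).ker
    have hU : ∀ v : (FieldExt.fixedField σ)ˣ, v ∈ U₀ ↔ Units.map ι.toMonoidHom v ∈ U := by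
      intro v
      show v ^ (q₀ + 1) = 1 ↔ (Units.map ι.toMonoidHom v) ^ (q + 1) = 1
      rw [← map_pow, ← map_one (Units.map ι.toMonoidHom), (Units.map_injective ι.injective).eq_iff]
      have : v ^ q = v ^ q₀ := Units.ext (Subtype.ext (by simpa using hcompat v))
      rw [pow_succ v q, this, ← pow_succ]
    have hJs : ∀ v : (FieldExt.fixedField σ)ˣ, J (Matrix.GeneralLinearGroup.scalar (Fin (m + 1)) v) =
        Matrix.GeneralLinearGroup.scalar (Fin (m + 1)) (Units.map ι.toMonoidHom v) := fun v => Units.ext (by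
      simp [hJval, Matrix.GeneralLinearGroup.coe_scalar, Matrix.diagonal_map])
    let ψ : U₀ → φ.ker := fun v =>
      ⟨(⟨Matrix.GeneralLinearGroup.scalar (Fin (m + 1)) (v : (FieldExt.fixedField σ)ˣ),
          (hJ _).1 (by rw [hJs]; exact (hsc _).2 ((hU _).1 v.2))⟩,
        ⟨(Units.map ι.toMonoidHom (v : (FieldExt.fixedField σ)ˣ))⁻¹, inv_mem ((hU _).1 v.2)⟩), by
        rw [MonoidHom.mem_ker, hφ, hJs, ← map_mul, mul_inv_cancel, map_one]⟩
    have hψ : Function.Bijective ψ := by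
      refine ⟨fun v w h => ?_, fun ⟨⟨a, b⟩, h⟩ => ?_⟩
      · have := congrArg (fun x => (x.1.2 : Kˣ)) h
        exact Subtype.ext (Units.map_injective ι.injective (inv_inj.1 this))
      · rw [MonoidHom.mem_ker, hφ, mul_eq_one_iff_eq_inv, ← map_inv] at h
        obtain ⟨w, hw⟩ : ∃ w : Kˣ, ((b : Kˣ))⁻¹ = w := ⟨_, rfl⟩
        rw [hw] at h
        have hv := congrArg (fun A : GL (Fin (m + 1)) K => A.val 0 0) h
        simp [hJval, Matrix.GeneralLinearGroup.coe_scalar] at hv
        have hne : (a : GL (Fin (m + 1)) (FieldExt.fixedField σ)).val 0 0 ≠ 0 := by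
          intro h0
          rw [h0, map_zero] at hv
          exact w.ne_zero hv.symm
        have hb : Units.map ι.toMonoidHom (Units.mk0 _ hne) = (b : Kˣ)⁻¹ := hw ▸ Units.ext hv
        refine ⟨⟨Units.mk0 _ hne, (hU _).2 (by rw [hb]; exact inv_mem b.2)⟩, ?_⟩
        refine Subtype.ext (Prod.ext (Subtype.ext (Matrix.GeneralLinearGroup.ext fun i j => ?_)) (Subtype.ext ?_))
        · refine ι.injective ?_
          have h2 : J (a : GL (Fin (m + 1)) (FieldExt.fixedField σ)) =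
              J (Matrix.GeneralLinearGroup.scalar (Fin (m + 1)) (Units.mk0 _ hne)) := by
            rw [hJs, hb, hw]; exact h
          exact (congrArg (fun A : GL (Fin (m + 1)) K => A.val i j) h2).symm
        · show (Units.map ι.toMonoidHom (Units.mk0 _ hne))⁻¹ = (b : Kˣ)
          rw [hb, inv_inv]
    rw [← Nat.card_congr (Equiv.ofBijective ψ hψ)]
    exact Forms.card_norm_kernel hF₀
  refine ⟨_, ?_, Forms.card_GU hF₀ (m + 1)⟩
  have hcardS : Nat.card {g : ↥(Cfsg.GU (m + 1) K q) // ∃ c : K, c ≠ 0 ∧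
      ((g : GL (Fin (m + 1)) K) : Matrix (Fin (m + 1)) (Fin (m + 1)) K).map σ =
        c • ((g : GL (Fin (m + 1)) K) : Matrix (Fin (m + 1)) (Fin (m + 1)) K)} = Nat.card φ.range :=
    Nat.card_congr ((Equiv.subtypeSubtypeEquivSubtypeInter (· ∈ Cfsg.GU (m + 1) K q)
      (fun g : GL (Fin (m + 1)) K => ∃ c : K, c ≠ 0 ∧ g.val.map σ = c • g.val)).trans
      (Equiv.subtypeEquivRight fun g => (hrange g).symm))
  have h := Subgroup.card_mul_index φ.ker
  rw [Subgroup.index_ker, Nat.card_prod, hker, Forms.card_norm_kernel hK] at h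
  rw [hcardS, mul_comm]
  exact h

theorem int_prod (q₀ n : ℕ) (h : 1 ≤ q₀) :
    ((∏ i ∈ Finset.range n, (if Even i then q₀ ^ (i + 1) + 1 else q₀ ^ (i + 1) - 1) : ℕ) : ℤ) =
      ∏ i : Fin n, ((q₀ : ℤ) ^ ((i : ℕ) + 1) - (-1) ^ ((i : ℕ) + 1)) := by
  rw [Fin.prod_univ_eq_prod_range (fun i => (q₀ : ℤ) ^ (i + 1) - (-1) ^ (i + 1)), Nat.cast_prod]
  refine Finset.prod_congr rfl fun i _ => ?_
  by_cases hi : Even i
  · rw [if_pos hi, (Even.add_one hi).neg_one_pow]
    push_cast
    ring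
  · rw [if_neg hi, Nat.cast_sub (Nat.one_le_pow _ _ h), (Nat.not_even_iff_odd.1 hi).add_one.neg_one_pow]
    push_cast
    ring

/-- Centraliser of a field automorphism of odd prime order in PGU_n(q): let q = q₀^r with r an odd prime, K the field with q² elements and σ a field automorphism of K of order r (fixed field of order q₀²). The elements g of GU_n(q) whose entrywise image under σ is a scalar multiple of g — those whose coset modulo the q + 1 unitary scalars is fixed by σ — number (q + 1)/(q₀ + 1) · |GU_n(q₀)|; equivalently the centraliser in PGU_n(q) of the induced automorphism has the order of PGU_n(q₀). -/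
theorem result {K : Type*} [Field K] [Fintype K] {q₀ q r n : ℕ} (hr : r.Prime) (hr2 : r ≠ 2) (hn : 1 ≤ n) (hq : q = q₀ ^ r) (hK : Fintype.card K = q ^ 2) (σ : K ≃+* K) (hσ : orderOf σ = r) : (Nat.card {g : ↥(Cfsg.GU n K q) // ∃ c : K, c ≠ 0 ∧ ((g : GL (Fin n) K) : Matrix (Fin n) (Fin n) K).map σ = c • ((g : GL (Fin n) K) : Matrix (Fin n) (Fin n) K)} : ℤ) = ((q + 1) / (q₀ + 1) : ℕ) * ((q₀ : ℤ) ^ (n * (n - 1) / 2) * ∏ i : Fin n, ((q₀ : ℤ) ^ ((i : ℕ) + 1) - (-1) ^ ((i : ℕ) + 1))) := by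
  obtain ⟨m, rfl⟩ : ∃ m, n = m + 1 := ⟨n - 1, by omega⟩
  obtain ⟨N, h, hN⟩ := fixed_rep_count (m := m) hr hr2 hq hK σ hσ
  have hq₀ : 1 ≤ q₀ := by
    rcases Nat.eq_zero_or_pos q₀ with rfl | h0
    · rw [zero_pow hr.ne_zero] at hq
      have := Forms.one_lt_q hK
      omega
    · exact h0
  have hdvd : q₀ + 1 ∣ q + 1 := by
    simpa [hq] using (hr.odd_of_ne_two hr2).nat_add_dvd_pow_add_pow q₀ 1
  rw [← int_prod q₀ _ hq₀]
  have h' : N * (q + 1) = (q + 1) / (q₀ + 1) * N * (q₀ + 1) := by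
    rw [mul_comm _ N, mul_assoc, Nat.div_mul_cancel hdvd]
  rw [Nat.eq_of_mul_eq_mul_right (Nat.succ_pos q₀) (h.trans h'), hN]
  push_cast
  ring

end Cfsg.Agent.S2677
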