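import Cfsg.Statements.S2678
import Cfsg.Agent.Lib.Field.QuadraticExt
import Cfsg.Agent.Lib.ClassicalSimple.SympMatrix

set_option autoImplicit false
open Cfsg

namespace Cfsg.Agent.S2678

open scoped Matrix

theorem sympForm_eq {R : Type*} [CommRing R] (n : ℕ) (u v : Fin n ⊕ Fin n → R) :
    Cfsg.sympForm n R u v = ∑ i, (u (.inr i) * v (.inl i) - u (.inl i) * v (.inr i)) := by
  rw [Cfsg.sympForm, Matrix.J, Matrix.fromBlocks_mulVec]
  simp [dotProduct, Fintype.sum_sum_type, Matrix.neg_mulVec, Finset.sum_sub_distrib]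
  ring

variable {F K : Type*} [Field F] [Field K] [Algebra F K]

/-- Coordinates over `F`: the basis coordinates on the left half, their dual coordinates on the right half. -/
noncomputable def coords (a : ℕ) (b : Module.Basis (Fin 2) F K) (l : K →ₗ[F] F) :
    (Fin a ⊕ Fin a → K) →ₗ[F] (Fin (2 * a) ⊕ Fin (2 * a) → F) where
  toFun v := Sum.elim
    (fun k => b.repr (v (.inl ((finProdFinEquiv.symm k).2))) (finProdFinEquiv.symm k).1)
    (fun k => l (b (finProdFinEquiv.symm k).1 * v (.inr ((finProdFinEquiv.symm k).2))))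
  map_add' v w := by
    ext (k | k) <;> simp [mul_add]
  map_smul' r v := by
    ext (k | k) <;> simp [mul_smul_comm]

theorem sum_pair (b : Module.Basis (Fin 2) F K) (l : K →ₗ[F] F) (x y : K) :
    ∑ j, b.repr x j * l (b j * y) = l (x * y) := by
  conv_rhs => rw [← b.sum_repr x, Finset.sum_mul, map_sum]
  exact Finset.sum_congr rfl fun j _ => by rw [smul_mul_assoc, map_smul, smul_eq_mul]

theorem sympForm_coords (a : ℕ) (b : Module.Basis (Fin 2) F K) (l : K →ₗ[F] F)
    (u v : Fin a ⊕ Fin a → K) :
    Cfsg.sympForm (2 * a) F (coords a b l u) (coords a b l v) = l (Cfsg.sympForm a K u v) := by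
  rw [sympForm_eq, sympForm_eq, map_sum, ← finProdFinEquiv.sum_comp, Fintype.sum_prod_type_right]
  refine Finset.sum_congr rfl fun i _ => ?_
  simp only [coords, LinearMap.coe_mk, AddHom.coe_mk, Sum.elim_inl, Sum.elim_inr,
    Equiv.symm_apply_apply, map_sub, Finset.sum_sub_distrib]
  rw [sum_pair, mul_comm (u (.inr i)), ← sum_pair b l (v (.inl i))]
  exact congrArg₂ (· - ·) (Finset.sum_congr rfl fun j _ => mul_comm _ _) rfl

theorem coords_injective (a : ℕ) (b : Module.Basis (Fin 2) F K) (l : K →ₗ[F] F) (hl : l ≠ 0) :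
    Function.Injective (coords a b l) := by
  refine (injective_iff_map_eq_zero _).2 fun v hv => ?_
  funext x
  rcases x with i | i
  · refine b.repr.injective (Finsupp.ext fun j => ?_)
    have := congrFun hv (.inl (finProdFinEquiv (j, i)))
    simp only [coords, LinearMap.coe_mk, AddHom.coe_mk, Sum.elim_inl, Equiv.symm_apply_apply] at this
    rw [this, Pi.zero_apply, Pi.zero_apply, map_zero, Finsupp.zero_apply]
  · by_contra h
    refine hl (LinearMap.ext fun z => ?_)
    have hz : ∀ j, l (b j * v (.inr i)) = 0 := fun j => by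
      have := congrFun hv (.inr (finProdFinEquiv (j, i)))
      simp only [coords, LinearMap.coe_mk, AddHom.coe_mk, Sum.elim_inr, Equiv.symm_apply_apply] at this
      rw [this, Pi.zero_apply]
    calc l z = l (z * (v (.inr i))⁻¹ * v (.inr i)) := by
          rw [inv_mul_cancel_right₀ (by simpa using h)]
      _ = 0 := by
          rw [← sum_pair b l (z * (v (.inr i))⁻¹)]
          simp [hz]
      _ = (0 : K →ₗ[F] F) z := rfl

/-- Field-extension embedding of symplectic groups: for a field K with q² elements and a field F with q elements there is an injective homomorphism Sp_2a(K) → Sp_4a(F). -/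
theorem result {K F : Type*} [Field K] [Fintype K] [Field F] [Fintype F] {q : ℕ} (hK : Fintype.card K = q ^ 2) (hF : Fintype.card F = q) (a : ℕ) : ∃ φ : ↥(Matrix.symplecticGroup (Fin a) K) →* ↥(Matrix.symplecticGroup (Fin (2 * a)) F), Function.Injective φ := by
  subst hF
  obtain ⟨ι⟩ := FieldExt.exists_ringHom_of_card_pow (F := F) (K := K) two_ne_zero hK
  letI := ι.toAlgebra
  have h2 := FieldExt.finrank_eq_two (F := F) (K := K) hK
  haveI : Module.Finite F K := Module.finite_of_finrank_eq_succ h2
  let b : Module.Basis (Fin 2) F K := Module.finBasisOfFinrankEq F K h2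
  let l : K →ₗ[F] F := b.coord 0
  have hl : l ≠ 0 := fun h => by
    have := LinearMap.congr_fun h (b 0)
    simp [l] at this
  have hdim : Module.finrank F (Fin a ⊕ Fin a → K) = Module.finrank F (Fin (2 * a) ⊕ Fin (2 * a) → F) := by
    rw [Module.finrank_pi_fintype]
    simp [h2]
    ring
  let Φ := LinearMap.linearEquivOfInjective (coords a b l) (coords_injective a b l hl) hdim
  let T : ↥(Matrix.symplecticGroup (Fin a) K) →* Matrix (Fin (2 * a) ⊕ Fin (2 * a)) (Fin (2 * a) ⊕ Fin (2 * a)) F :=
    { toFun := fun g => LinearMap.toMatrix'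
        (Φ.toLinearMap ∘ₗ (Matrix.toLin' (g : Matrix _ _ K)).restrictScalars F ∘ₗ Φ.symm.toLinearMap)
      map_one' := by
        rw [← LinearMap.toMatrix'_id]
        congr 1
        ext x
        simp
      map_mul' := fun g h => by
        rw [← LinearMap.toMatrix'_comp]
        congr 1
        ext x
        simp }
  have happ : ∀ (g : ↥(Matrix.symplecticGroup (Fin a) K)) (x : Fin a ⊕ Fin a → K),
      T g *ᵥ Φ x = Φ ((g : Matrix _ _ K) *ᵥ x) := by
    intro g x
    simp [T, LinearMap.toMatrix'_mulVec]
  have hmem : ∀ g, T g ∈ Matrix.symplecticGroup (Fin (2 * a)) F := by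
    intro g
    rw [ClassicalSimple.mem_symplecticGroup_iff_form]
    intro u v
    obtain ⟨u, rfl⟩ := Φ.surjective u
    obtain ⟨v, rfl⟩ := Φ.surjective v
    have hg := (ClassicalSimple.mem_symplecticGroup_iff_form (m := a)).1 g.2 u v
    simp only [ClassicalSimple.sympBilin_apply] at hg ⊢
    rw [happ, happ]
    simp only [Φ, LinearMap.linearEquivOfInjective_apply, sympForm_coords, hg]
  refine ⟨T.codRestrict _ hmem, fun g h e => Subtype.ext (Matrix.toLin'.injective (LinearMap.ext fun x => ?_))⟩
  have e' : T g = T h := congrArg Subtype.val e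
  have := congrArg (fun M => M *ᵥ Φ x) e'
  simp only [happ] at this
  rw [Matrix.toLin'_apply, Matrix.toLin'_apply]
  exact Φ.injective this

end Cfsg.Agent.S2678
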