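import Cfsg.Statements.S2679
import Cfsg.Agent.Lib.Field.QuadraticExt
import Cfsg.Agent.Lib.Forms.Isom

set_option autoImplicit false
open Cfsg

namespace Cfsg.Agent.S2679

open scoped Matrix

/-- Two quadratic forms on `ι → R` that agree on all `eᵢ` and `eᵢ + eⱼ` agree. -/
theorem quad_ext {ι R : Type*} [Fintype ι] [DecidableEq ι] [CommRing R]
    (Q₁ Q₂ : QuadraticMap R (ι → R) R)
    (h1 : ∀ i, Q₁ (Pi.single i 1) = Q₂ (Pi.single i 1))
    (h2 : ∀ i j, Q₁ (Pi.single i 1 + Pi.single j 1) = Q₂ (Pi.single i 1 + Pi.single j 1)) :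
    Q₁ = Q₂ := by
  have hpol : ∀ i j, QuadraticMap.polar Q₁ (Pi.single i 1) (Pi.single j 1) =
      QuadraticMap.polar Q₂ (Pi.single i 1) (Pi.single j 1) := by
    intro i j
    simp only [QuadraticMap.polar, h1, h2]
  have hb : Q₁.polarBilin = Q₂.polarBilin :=
    LinearMap.ext_basis (Pi.basisFun R ι) (Pi.basisFun R ι) fun i j => by
      simpa using hpol i j
  ext v
  have key : ∀ (s : Finset ι), Q₁ (∑ i ∈ s, Pi.single i (v i)) = Q₂ (∑ i ∈ s, Pi.single i (v i)) := by
    intro s
    induction s using Finset.induction_on with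
    | empty => simp
    | insert a s ha ih =>
      rw [Finset.sum_insert ha]
      have e : ∀ (Q : QuadraticMap R (ι → R) R) (x y : ι → R),
          Q (x + y) = Q x + Q y + Q.polarBilin x y := by
        intro Q x y
        rw [QuadraticMap.polarBilin_apply_apply, QuadraticMap.polar]
        ring
      have esingle : ∀ (Q : QuadraticMap R (ι → R) R), Q (Pi.single a (v a)) = v a * v a * Q (Pi.single a 1) := by
        intro Q
        rw [← smul_eq_mul (v a * v a), ← QuadraticMap.map_smul Q (v a)]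
        congr 1
        ext k
        by_cases hk : k = a <;> simp [hk]
      rw [e, e, ih, hb, esingle, esingle, h1]
  have := key Finset.univ
  rwa [Finset.univ_sum_single] at this

/-- `quadFormMinus` as a quadratic map. -/
noncomputable def qMinus (k : ℕ) (R : Type*) [Field R] (a c : R) :
    QuadraticMap R ((Fin k ⊕ Fin k) ⊕ Fin 2 → R) R :=
  let pr : (Fin k ⊕ Fin k) ⊕ Fin 2 → ((Fin k ⊕ Fin k) ⊕ Fin 2 → R) →ₗ[R] R := LinearMap.proj
  (∑ i : Fin k, QuadraticMap.linMulLin (pr (.inl (.inl i))) (pr (.inl (.inr i)))) +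
    (QuadraticMap.linMulLin (pr (.inr 0)) (pr (.inr 0)) +
      a • QuadraticMap.linMulLin (pr (.inr 0)) (pr (.inr 1)) +
      c • QuadraticMap.linMulLin (pr (.inr 1)) (pr (.inr 1)))

theorem qMinus_apply (k : ℕ) (R : Type*) [Field R] (a c : R) (v : (Fin k ⊕ Fin k) ⊕ Fin 2 → R) :
    qMinus k R a c v = Cfsg.quadFormMinus k R a c v := by
  simp [qMinus, Cfsg.quadFormMinus]
  ring

variable {F K : Type*} [Field F] [Field K]

theorem map_quadFormMinus (φ : F →+* K) (k : ℕ) (a c : F) (v : (Fin k ⊕ Fin k) ⊕ Fin 2 → F) :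
    Cfsg.quadFormMinus k K (φ a) (φ c) (φ ∘ v) = φ (Cfsg.quadFormMinus k F a c v) := by
  simp [Cfsg.quadFormMinus]

/-- Extension of scalars of an isometry. -/
theorem map_mem (φ : F →+* K) (k : ℕ) (a c : F)
    (g : ↥(Cfsg.isometryGroup F (Cfsg.quadFormMinus k F a c))) :
    Matrix.GeneralLinearGroup.map φ (g : Matrix.GeneralLinearGroup ((Fin k ⊕ Fin k) ⊕ Fin 2) F) ∈
      Cfsg.isometryGroup K (Cfsg.quadFormMinus k K (φ a) (φ c)) := by
  set G : Matrix ((Fin k ⊕ Fin k) ⊕ Fin 2) ((Fin k ⊕ Fin k) ⊕ Fin 2) F :=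
    (g : Matrix.GeneralLinearGroup ((Fin k ⊕ Fin k) ⊕ Fin 2) F).val
  have hg : ∀ v, Cfsg.quadFormMinus k F a c (G *ᵥ v) = Cfsg.quadFormMinus k F a c v := fun v => g.2 v v
  have heq : (qMinus k K (φ a) (φ c)).comp (Matrix.toLin' (G.map φ)) = qMinus k K (φ a) (φ c) := by
    have hbase : ∀ v : (Fin k ⊕ Fin k) ⊕ Fin 2 → F,
        qMinus k K (φ a) (φ c) ((G.map φ) *ᵥ (φ ∘ v)) = qMinus k K (φ a) (φ c) (φ ∘ v) := by
      intro v
      have : (G.map φ) *ᵥ (φ ∘ v) = φ ∘ (G *ᵥ v) := by
        ext i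
        exact (RingHom.map_mulVec φ G v i).symm
      rw [qMinus_apply, qMinus_apply, this, map_quadFormMinus, map_quadFormMinus, hg]
    have hs : ∀ i : (Fin k ⊕ Fin k) ⊕ Fin 2, (Pi.single i (1 : K)) = φ ∘ (Pi.single i (1 : F)) := by
      intro i
      ext j
      by_cases hj : j = i <;> simp [hj]
    refine quad_ext _ _ (fun i => ?_) (fun i j => ?_)
    · rw [QuadraticMap.comp_apply, Matrix.toLin'_apply, hs, hbase]
    · have : (Pi.single i (1 : K) + Pi.single j 1) =
          φ ∘ ((Pi.single i (1 : F) : (Fin k ⊕ Fin k) ⊕ Fin 2 → F) + Pi.single j 1) := by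
        rw [hs, hs]
        ext l
        simp
      rw [QuadraticMap.comp_apply, Matrix.toLin'_apply, this, hbase]
  intro u v
  have := congrArg (fun Q : QuadraticMap K _ K => Q u) heq
  simp only [QuadraticMap.comp_apply, Matrix.toLin'_apply, qMinus_apply] at this
  exact this

/-- Extension of scalars on the minus-type isometry group. -/
def extend (φ : F →+* K) (k : ℕ) (a c : F) :
    ↥(Cfsg.isometryGroup F (Cfsg.quadFormMinus k F a c)) →*
      ↥(Cfsg.isometryGroup K (Cfsg.quadFormMinus k K (φ a) (φ c))) :=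
  MonoidHom.codRestrict ((Matrix.GeneralLinearGroup.map φ).comp (Subgroup.subtype _)) _ (map_mem φ k a c)

theorem extend_injective (φ : F →+* K) (k : ℕ) (a c : F) : Function.Injective (extend φ k a c) := by
  intro g h e
  have e' := congrArg (fun z : ↥(Cfsg.isometryGroup K (Cfsg.quadFormMinus k K (φ a) (φ c))) =>
    (z : Matrix.GeneralLinearGroup ((Fin k ⊕ Fin k) ⊕ Fin 2) K).val) e
  refine Subtype.ext (Units.ext ?_)
  exact Matrix.map_injective φ.injective e'

/-- The change of coordinates making the form hyperbolic when the binary part splits. -/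
noncomputable def split (k : ℕ) (ω ω' : K) :
    ((Fin k ⊕ Fin k) ⊕ Fin 2 → K) →ₗ[K] (Fin (k + 1) ⊕ Fin (k + 1) → K) :=
  let pr : (Fin k ⊕ Fin k) ⊕ Fin 2 → ((Fin k ⊕ Fin k) ⊕ Fin 2 → K) →ₗ[K] K := LinearMap.proj
  LinearMap.pi (Sum.elim
    (Fin.cases (pr (.inr 0) - ω • pr (.inr 1)) (fun i => pr (.inl (.inl i))))
    (Fin.cases (pr (.inr 0) - ω' • pr (.inr 1)) (fun i => pr (.inl (.inr i)))))

theorem split_injective (k : ℕ) {ω ω' : K} (h : ω ≠ ω') : Function.Injective (split k ω ω') := by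
  refine (injective_iff_map_eq_zero _).2 fun v hv => ?_
  have h0 := congrFun hv (.inl 0)
  have h1 := congrFun hv (.inr 0)
  simp [split] at h0 h1
  have hz1 : v (.inr 1) = 0 := by
    have : (ω' - ω) * v (.inr 1) = 0 := by linear_combination h0 - h1
    rcases mul_eq_zero.1 this with h2 | h2
    · exact absurd (sub_eq_zero.1 h2).symm h
    · exact h2
  funext x
  rcases x with (i | i) | i
  · simpa [split] using congrFun hv (.inl i.succ)
  · simpa [split] using congrFun hv (.inr i.succ)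
  · fin_cases i
    · simpa [hz1] using h0
    · simpa using hz1

theorem quadFormPlus_split (k : ℕ) (ω ω' : K) (v : (Fin k ⊕ Fin k) ⊕ Fin 2 → K) :
    Cfsg.quadFormPlus (k + 1) K (split k ω ω' v) =
      Cfsg.quadFormMinus k K (-(ω + ω')) (ω * ω') v := by
  simp [Cfsg.quadFormPlus, Cfsg.quadFormMinus, split, Fin.sum_univ_succ]
  ring

/-- An elliptic orthogonal group embeds in the hyperbolic orthogonal group of the same dimension over the quadratic extension: for a field F with q elements and a field K with q² elements there is an injective homomorphism from O⁻_2m(F) (isometries of Σ_(j<m−1) x_j y_j + z₁² + a z₁z₂ + c z₂², binary part anisotropic) to O⁺_2m(K) (isometries of Σ_(j<m) x_j y_j over K). -/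
theorem result {F K : Type*} [Field F] [Fintype F] [Field K] [Fintype K] {q : ℕ} (hF : Fintype.card F = q) (hK : Fintype.card K = q ^ 2) {m : ℕ} (hm : 1 ≤ m) (a c : F) (hac : ∀ z₁ z₂ : F, z₁ ^ 2 + a * z₁ * z₂ + c * z₂ ^ 2 = 0 → z₁ = 0 ∧ z₂ = 0) : ∃ φ : ↥(Cfsg.isometryGroup F (Cfsg.quadFormMinus (m - 1) F a c)) →* ↥(Cfsg.isometryGroup K (Cfsg.quadFormPlus m K)), Function.Injective φ := by
  obtain ⟨k, rfl⟩ : ∃ k, m = k + 1 := ⟨m - 1, by omega⟩
  subst hF
  obtain ⟨φ⟩ := FieldExt.exists_ringHom_of_card_pow (F := F) (K := K) two_ne_zero hK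
  letI := φ.toAlgebra
  obtain ⟨ω, hω⟩ := FieldExt.exists_root (FieldExt.finrank_eq_two (F := F) (K := K) hK) a c
  set ω' : K := -φ a - ω
  have hω' : φ c = ω * ω' := by
    have : ω ^ 2 + φ a * ω + φ c = 0 := hω
    simp only [ω']
    linear_combination this
  have hne : ω ≠ ω' := by
    intro he
    have hnoroot : ∀ x : F, φ x ≠ ω := by
      intro x hx
      subst hx
      have h0 : φ (x ^ 2 + a * x * 1 + c * 1 ^ 2) = φ 0 := by
        have : φ x ^ 2 + φ a * φ x + φ c = 0 := hω
        simpa using this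
      exact one_ne_zero (hac x 1 (φ.injective h0)).2
    by_cases h2 : (2 : F) = 0
    · have h2K : (2 : K) = 0 := by rw [← map_ofNat φ 2, h2, map_zero]
      have ha : φ a = 0 := by
        simp only [ω'] at he
        linear_combination he - ω * h2K
      haveI : CharP F 2 := CharTwo.of_one_ne_zero_of_two_eq_zero one_ne_zero h2
      obtain ⟨x, hx⟩ := FiniteField.isSquare_of_char_two (F := F) (ringChar.eq F 2) c
      apply hnoroot x
      have : (φ x - ω) ^ 2 = 0 := by
        have : ω ^ 2 + φ a * ω + φ c = 0 := hω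
        rw [hx, map_mul, ha] at this
        linear_combination this - φ x * ω * h2K
      exact sub_eq_zero.1 (pow_eq_zero_iff two_ne_zero |>.1 this)
    · apply hnoroot (-a / 2)
      have h2K : (2 : K) ≠ 0 := by rw [← map_ofNat φ 2]; exact φ.injective.ne_iff' (map_zero φ) |>.2 h2
      rw [map_div₀, map_neg, map_ofNat, div_eq_iff h2K]
      simp only [ω'] at he
      linear_combination -he
  let L := LinearMap.linearEquivOfInjective (split k ω ω') (split_injective k hne) (by simp; ring)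
  have hL : ∀ u v : (Fin k ⊕ Fin k) ⊕ Fin 2 → K,
      (fun u _ => Cfsg.quadFormPlus (k + 1) K u : _ → (Fin (k + 1) ⊕ Fin (k + 1) → K) → K) (L u) (L v) =
        (fun u _ => Cfsg.quadFormMinus k K (φ a) (φ c) u : _ → ((Fin k ⊕ Fin k) ⊕ Fin 2 → K) → K) u v := by
    intro u v
    have : (L u) = split k ω ω' u := LinearMap.linearEquivOfInjective_apply _ _ _
    simp only [this, quadFormPlus_split, hω']
    congr 1
    simp only [ω']; ring
  let E : ↥(Cfsg.isometryGroup K (Cfsg.quadFormMinus k K (φ a) (φ c))) ≃*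
      ↥(Cfsg.isometryGroup K (Cfsg.quadFormPlus (k + 1) K)) :=
    ((Forms.isometryGroupEquiv _).trans (Forms.isomCongr L hL)).trans (Forms.isometryGroupEquiv _).symm
  exact ⟨E.toMonoidHom.comp (extend φ k a c), E.injective.comp (extend_injective φ k a c)⟩

end Cfsg.Agent.S2679
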