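import Cfsg.Statements.S2680
import Cfsg.Agent.Lib.Forms.CentTwoSymp

set_option autoImplicit false
open Cfsg

namespace Cfsg.Agent.S2680

/-- Centraliser order of an involution t of Sp_2m(q), q even, with s = rank(t − 1) odd (type b_s): |C(t)| = q^(2ms − (3s² − s)/2) · |Sp_(s−1)(q)| · |Sp_(2m−2s)(q)|, where |Sp_2k(q)| = q^(k²) Π_(i=1)^k (q^(2i) − 1). -/
theorem result {F : Type*} [Field F] [Fintype F] [CharP F 2] {q : ℕ} (hF : Fintype.card F = q) {m s : ℕ} (t : Matrix.symplecticGroup (Fin m) F) (ht : t ^ 2 = 1) (hs : ((t : Matrix (Fin m ⊕ Fin m) (Fin m ⊕ Fin m) F) - 1).rank = s) (hodd : Odd s) : Nat.card ↥(Subgroup.centralizer ({t} : Set ↥(Matrix.symplecticGroup (Fin m) F))) = q ^ (2 * m * s - (3 * s ^ 2 - s) / 2) * ((q : ℕ) ^ (((s - 1) / 2) ^ 2) * ∏ i : Fin ((s - 1) / 2), (q ^ (2 * ((i : ℕ) + 1)) - 1)) * ((q : ℕ) ^ ((m - s) ^ 2) * ∏ i : Fin (m - s), (q ^ (2 * ((i : ℕ) + 1)) - 1)) := by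
  subst hF
  obtain ⟨k, rfl⟩ := hodd
  have hsq : t.1 * t.1 = 1 := by
    have := congrArg Subtype.val ht
    rwa [pow_two] at this
  have hna : ¬ ∀ v, Forms.SympTwo.form t.1 v v = 0 := fun h => by
    have := Forms.SympTwo.even_rank t.2 hsq h
    rw [hs, Nat.even_iff] at this
    omega
  have hle := Forms.InvolTwoCount.rank_le hsq
  rw [Forms.CentTwo.card_centralizer (G := (1 : Matrix (Fin (2 * k + 1)) (Fin (2 * k + 1)) F))
    Matrix.transpose_one (one_mul 1) t ht (by rw [hs, Fintype.card_fin])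
    (iff_of_false hna (Forms.CentTwo.pair_one_not_alt (by omega))),
    Forms.CentTwo.card_orth_one_odd, Fintype.card_fin]
  have hexp : 2 * (m - (2 * k + 1)) * (2 * k + 1) + (2 * k + 1 + 1).choose 2 =
      2 * m * (2 * k + 1) - (3 * (2 * k + 1) ^ 2 - (2 * k + 1)) / 2 := by
    obtain ⟨d, rfl⟩ : ∃ d, m = d + (2 * k + 1) := ⟨m - (2 * k + 1), by omega⟩
    rw [Nat.add_sub_cancel]
    have h2 := Forms.CentTwo.choose_two_twice (2 * k + 1 + 1)
    rw [Nat.add_sub_cancel] at h2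
    ring_nf at h2 ⊢
    omega
  rw [hexp, show (2 * k + 1 - 1) / 2 = k by omega]
  ring

end Cfsg.Agent.S2680
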