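import Cfsg.Statements.S2681
import Cfsg.Agent.Lib.Forms.CentTwoSymp

set_option autoImplicit false
open Cfsg

namespace Cfsg.Agent.S2681

/-- Centraliser order of an involution t of Sp_2m(q), q even, with s = rank(t − 1) even and f(v, tv) = 0 for every v, f the symplectic form (type a_s): |C(t)| = q^(2ms − (3s² − s)/2) · |Sp_s(q)| · |Sp_(2m−2s)(q)|. -/
theorem result {F : Type*} [Field F] [Fintype F] [CharP F 2] {q : ℕ} (hF : Fintype.card F = q) {m s : ℕ} (t : Matrix.symplecticGroup (Fin m) F) (ht : t ^ 2 = 1) (ht1 : t ≠ 1) (hs : ((t : Matrix (Fin m ⊕ Fin m) (Fin m ⊕ Fin m) F) - 1).rank = s) (heven : Even s) (halt : ∀ v : Fin m ⊕ Fin m → F, Cfsg.sympForm m F v ((t : Matrix (Fin m ⊕ Fin m) (Fin m ⊕ Fin m) F).mulVec v) = 0) : Nat.card ↥(Subgroup.centralizer ({t} : Set ↥(Matrix.symplecticGroup (Fin m) F))) = q ^ (2 * m * s - (3 * s ^ 2 - s) / 2) * ((q : ℕ) ^ ((s / 2) ^ 2) * ∏ i : Fin (s / 2), (q ^ (2 * ((i : ℕ) + 1)) - 1)) * ((q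 : ℕ) ^ ((m - s) ^ 2) * ∏ i : Fin (m - s), (q ^ (2 * ((i : ℕ) + 1)) - 1)) := by
  subst hF
  obtain ⟨k, rfl⟩ := heven
  have hsq : t.1 * t.1 = 1 := by
    have := congrArg Subtype.val ht
    rwa [pow_two] at this
  have halt' : ∀ v, Forms.SympTwo.form t.1 v v = 0 := fun v => by
    rw [Forms.SympTwo.form_self]; exact halt v
  have hle := Forms.InvolTwoCount.rank_le hsq
  rw [Forms.CentTwo.card_centralizer (G := Forms.CentTwo.altG (F := F) k)
    (Forms.CentTwo.altG_symm k) (Forms.CentTwo.altG_sq k) t ht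
    (by rw [hs, Fintype.card_sum, Fintype.card_fin])
    (iff_of_true halt' fun a => by
      rw [Forms.CentTwo.pair_altG, ← Forms.sympB_apply]; exact Forms.sympB_isAlt k a),
    Forms.CentTwo.card_orth_alt, Fintype.card_sum, Fintype.card_fin]
  have hexp : 2 * (m - (k + k)) * (k + k) + (k + k + 1).choose 2 =
      2 * m * (k + k) - (3 * (k + k) ^ 2 - (k + k)) / 2 := by
    obtain ⟨d, rfl⟩ : ∃ d, m = d + (k + k) := ⟨m - (k + k), by omega⟩
    rw [Nat.add_sub_cancel]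
    have h2 := Forms.CentTwo.choose_two_twice (k + k + 1)
    rw [Nat.add_sub_cancel] at h2
    have h3 : k ≤ k ^ 2 := Nat.le_self_pow two_ne_zero k
    ring_nf at h2 ⊢
    omega
  rw [hexp, show (k + k) / 2 = k by omega]
  ring

end Cfsg.Agent.S2681
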