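import Cfsg.Statements.S2682
import Cfsg.Agent.Lib.Forms.CentTwoSymp

set_option autoImplicit false
open Cfsg

namespace Cfsg.Agent.S2682

/-- Centraliser order of an involution t of Sp_2m(q), q even, with s = rank(t − 1) even and f(v, tv) ≠ 0 for some v, f the symplectic form (type c_s): |C(t)| = q^(2ms − (3s² − 3s)/2 − 1) · |Sp_(s−2)(q)| · |Sp_(2m−2s)(q)|. -/
theorem result {F : Type*} [Field F] [Fintype F] [CharP F 2] {q : ℕ} (hF : Fintype.card F = q) {m s : ℕ} (t : Matrix.symplecticGroup (Fin m) F) (ht : t ^ 2 = 1) (hs : ((t : Matrix (Fin m ⊕ Fin m) (Fin m ⊕ Fin m) F) - 1).rank = s) (heven : Even s) (hna : ∃ v : Fin m ⊕ Fin m → F, Cfsg.sympForm m F v ((t : Matrix (Fin m ⊕ Fin m) (Fin m ⊕ Fin m) F).mulVec v) ≠ 0) : Nat.card ↥(Subgroup.centralizer ({t} : Set ↥(Matrix.symplecticGroup (Fin m) F))) = q ^ (2 * m * s - (3 * s ^ 2 - 3 * s) / 2 - 1) * ((q : ℕ) ^ (((s - 2) / 2) ^ 2) * ∏ i : Fin ((s - 2) / 2), (q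 ^ (2 * ((i : ℕ) + 1)) - 1)) * ((q : ℕ) ^ ((m - s) ^ 2) * ∏ i : Fin (m - s), (q ^ (2 * ((i : ℕ) + 1)) - 1)) := by
  subst hF
  obtain ⟨j, rfl⟩ := heven
  have hsq : t.1 * t.1 = 1 := by
    have := congrArg Subtype.val ht
    rwa [pow_two] at this
  have hna' : ¬ ∀ v, Forms.SympTwo.form t.1 v v = 0 := fun h => by
    obtain ⟨v, hv⟩ := hna
    exact hv (by rw [← Forms.SympTwo.form_self]; exact h v)
  obtain ⟨k, rfl⟩ : ∃ k, j = k + 1 := by
    refine ⟨j - 1, ?_⟩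
    have : t.1 ≠ 1 := fun e => hna' fun v => by
      rw [Forms.SympTwo.form_self, e, Matrix.one_mulVec, Forms.SympTwo.symp_self]
    have := Forms.InvolTwoCount.one_le_rank this
    omega
  have hle := Forms.InvolTwoCount.rank_le hsq
  rw [Forms.CentTwo.card_centralizer (G := (1 : Matrix (Fin (2 * k + 2)) (Fin (2 * k + 2)) F))
    Matrix.transpose_one (one_mul 1) t ht (by rw [hs, Fintype.card_fin]; omega)
    (iff_of_false hna' (Forms.CentTwo.pair_one_not_alt (by omega))),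
    Forms.CentTwo.card_orth_one_even, Fintype.card_fin]
  have hexp : 2 * k + 1 + (2 * (m - (2 * k + 2)) * (2 * k + 2) + (2 * k + 2 + 1).choose 2) =
      2 * m * (k + 1 + (k + 1)) - (3 * (k + 1 + (k + 1)) ^ 2 - 3 * (k + 1 + (k + 1))) / 2 - 1 := by
    obtain ⟨d, rfl⟩ : ∃ d, m = d + (2 * k + 2) := ⟨m - (2 * k + 2), by omega⟩
    rw [Nat.add_sub_cancel]
    have h2 := Forms.CentTwo.choose_two_twice (2 * k + 2 + 1)
    rw [Nat.add_sub_cancel] at h2
    ring_nf at h2 ⊢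
    omega
  rw [← hexp, show (k + 1 + (k + 1) - 2) / 2 = k by omega, show k + 1 + (k + 1) = 2 * k + 2 by omega]
  simp only [pow_add]
  ring

end Cfsg.Agent.S2682
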