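import Cfsg.Statements.S2683
import Cfsg.Agent.Lib.Forms.CentTwoRatio
import Cfsg.Agent.S2680

set_option autoImplicit false
open Cfsg

namespace Cfsg.Agent.S2683

/-- For the hyperbolic form Σ x_j y_j on F^(2m) over a finite field with q elements, q even (excluding m = 2 over the field of two elements), and an involution x of the orthogonal group with s = rank(x − 1) odd (type b_s; such x lie outside Ω): the elements of Ω (the commutator subgroup of the orthogonal group) commuting with x number q^(2m(s−1) − (3s² − 3s)/2) · |Sp_(s−1)(q)| · |Sp_(2m−2s)(q)|, where |Sp_2k(q)| = q^(k²) Π_(i=1)^k (q^(2i) − 1). -/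
theorem result {F : Type*} [Field F] [Fintype F] [CharP F 2] {q : ℕ} (hF : Fintype.card F = q) {m s : ℕ} (h : Fintype.card F ≠ 2 ∨ m ≠ 2) (x : ↥(Cfsg.isometryGroup F (Cfsg.quadFormPlus m F))) (hx : x ^ 2 = 1) (hs : (((x : Matrix.GeneralLinearGroup (Fin m ⊕ Fin m) F) : Matrix (Fin m ⊕ Fin m) (Fin m ⊕ Fin m) F) - 1).rank = s) (hodd : Odd s) : Nat.card {g : ↥(Cfsg.Omega F (Cfsg.quadFormPlus m F)) // (g : ↥(Cfsg.isometryGroup F (Cfsg.quadFormPlus m F))) * x = x * (g : ↥(Cfsg.isometryGroup F (Cfsg.quadFormPlus m F)))} = q ^ (2 * m * (s - 1) - (3 * s ^ 2 - 3 * s) / 2) * ((q : ℕ) ^ (((s - 1) / 2) ^ 2) * ∏ i : Fin ((s - 1) / 2), (q ^ (2 * ((i : ℕ) + 1)) - 1)) * ((q : ℕ) ^ ((m - s) ^ 2) * ∏ i : Fin (m - s), (q ^ (2 * ((i : ℕ) + 1)) - 1)) := by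
  subst hF
  classical
  set a := ((x : Matrix.GeneralLinearGroup (Fin m ⊕ Fin m) F) : Matrix (Fin m ⊕ Fin m) (Fin m ⊕ Fin m) F) with ha
  have hQ : ∀ v, Forms.quadPlus m F (a.mulVec v) = Forms.quadPlus m F v := fun v => by
    rw [Forms.quadPlus_apply, Forms.quadPlus_apply]; exact x.2 v 0
  have hsq : a * a = 1 := by
    have := congrArg (fun y : ↥(Cfsg.isometryGroup F (Cfsg.quadFormPlus m F)) =>
      (y.1 : Matrix (Fin m ⊕ Fin m) (Fin m ⊕ Fin m) F)) hx
    simpa [pow_two] using this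
  have hx1 : x ≠ 1 := by
    intro e
    have : a = 1 := by rw [ha, e]; rfl
    rw [this, sub_self, Matrix.rank_zero] at hs
    subst hs
    exact absurd hodd (by decide)
  haveI : Fact (Nat.Prime 2) := ⟨Nat.prime_two⟩
  have hord : orderOf x = 2 := orderOf_eq_prime hx hx1
  have hle := Forms.InvolTwoCount.rank_le hsq
  have hna : ∃ v, Forms.SympTwo.form a v v ≠ 0 := by
    by_contra hne
    push Not at hne
    have := Forms.SympTwo.even_rank (Forms.OrthTwo.mem_symp_of_isom hQ) hsq hne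
    rw [hs] at this
    exact (Nat.not_even_iff_odd.2 hodd) this
  obtain ⟨k, rfl⟩ := hodd
  obtain ⟨t, ht, ht2, hcard⟩ :=
    Forms.CentTwo.card_omega_cent_nonalt (by omega) h x hord hna
  rw [S2680.result rfl t ht2 (by rw [ht]; exact hs) ⟨k, rfl⟩, hs] at hcard
  have hexp : 2 * m * (2 * k + 1) - (3 * (2 * k + 1) ^ 2 - (2 * k + 1)) / 2 =
      (2 * m * (2 * k + 1 - 1) - (3 * (2 * k + 1) ^ 2 - 3 * (2 * k + 1)) / 2) + (2 * m - (2 * k + 1)) := by
    obtain ⟨d, rfl⟩ : ∃ d, m = d + (2 * k + 1) := ⟨m - (2 * k + 1), by omega⟩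
    rw [Nat.add_sub_cancel]
    ring_nf
    omega
  rw [hexp, pow_add] at hcard
  refine Nat.eq_of_mul_eq_mul_right (pow_pos (Fintype.card_pos (α := F)) (2 * m - (2 * k + 1))) ?_
  rw [← hcard]
  ring

end Cfsg.Agent.S2683
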