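import Cfsg.Statements.S2684
import Cfsg.Agent.Lib.Forms.CentTwoQuad
import Cfsg.Agent.Lib.Forms.QuadOrder

set_option autoImplicit false
open Cfsg

namespace Cfsg.Agent.S2684

/-- For the hyperbolic form Q = Σ x_j y_j on F^(2m) over a finite field with q elements, q even (excluding m = 2 over the field of two elements), and an involution x ≠ 1 of the orthogonal group with s = rank(x − 1) even and Q vanishing on the image of x − 1 (equivalently f(v, xv) = 0 for all v, where f(u, w) = Q(u + w) − Q(u) − Q(w) is the bilinear form of Q; type a_s, which lies in Ω): its centraliser in Ω (the commutator subgroup of the orthogonal group) has order q^(2ms − (3s² + s)/2) · |Sp_s(q)| · |Ω⁺_(2m−2s)(q)|, where |Ω⁺_2k(q)| = q^(k(k−1)) (q^k − 1) Π_(i=1)^(k−1) (q^(2i) − 1) for k ≥ 1 and the last factor is 1 when s = m. -/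
theorem result {F : Type*} [Field F] [Fintype F] [CharP F 2] {q : ℕ} (hF : Fintype.card F = q) {m s : ℕ} (h : Fintype.card F ≠ 2 ∨ m ≠ 2) (x : ↥(Cfsg.isometryGroup F (Cfsg.quadFormPlus m F))) (hx : x ^ 2 = 1) (hx1 : x ≠ 1) (hs : (((x : Matrix.GeneralLinearGroup (Fin m ⊕ Fin m) F) : Matrix (Fin m ⊕ Fin m) (Fin m ⊕ Fin m) F) - 1).rank = s) (heven : Even s) (halt : ∀ v : Fin m ⊕ Fin m → F, Cfsg.quadFormPlus m F ((((x : Matrix.GeneralLinearGroup (Fin m ⊕ Fin m) F) : Matrix (Fin m ⊕ Fin m) (Fin m ⊕ Fin m) F) - 1).mulVec v) = 0) : Nat.card {g : ↥(Cfsg.Omega F (Cfsg.quadFormPlus m F)) // (g : ↥(Cfsg.isometryGroup F (Cfsg.quadFormPlus m F))) * x = x * (g : ↥(Cfsg.isometryGroup F (Cfsg.quadFormPlus m F)))} = q ^ (2 * m * s - (3 * s ^ 2 + s) / 2) * ((q : ℕ) ^ ((s / 2) ^ 2) * ∏ i : Fin (s / 2), (q ^ (2 * ((i : ℕ) + 1)) - 1)) * (if s = m then 1 else q ^ ((m - s) * (m - s - 1)) * (q ^ (m - s) - 1) * ∏ i : Fin (m - s - 1), (q ^ (2 * ((i : ℕ) + 1))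 - 1)) := by
  subst hF
  classical
  set a := ((x : Matrix.GeneralLinearGroup (Fin m ⊕ Fin m) F) : Matrix (Fin m ⊕ Fin m) (Fin m ⊕ Fin m) F) with ha
  have hQ : ∀ v, Forms.quadPlus m F (a.mulVec v) = Forms.quadPlus m F v := fun v => by
    rw [Forms.quadPlus_apply, Forms.quadPlus_apply]; exact x.2 v 0
  have hsq : a * a = 1 := by
    have := congrArg (fun y : ↥(Cfsg.isometryGroup F (Cfsg.quadFormPlus m F)) =>
      (y.1 : Matrix (Fin m ⊕ Fin m) (Fin m ⊕ Fin m) F)) hx
    simpa [pow_two] using this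
  have halt' : ∀ v, Forms.SympTwo.form a v v = 0 := fun v => by
    rw [← Forms.OrthTwo.q_nil hQ, Forms.quadPlus_apply]; exact halt v
  have halt'' : ∀ v, Cfsg.quadFormPlus m F (a.mulVec v - v) = 0 := fun v => by
    have := halt v
    rwa [Matrix.sub_mulVec, Matrix.one_mulVec] at this
  have ha1 : a ≠ 1 := fun e => hx1 (Subtype.ext (Units.ext e))
  haveI : Fact (Nat.Prime 2) := ⟨Nat.prime_two⟩
  have hord : orderOf x = 2 := orderOf_eq_prime hx hx1
  have hle := Forms.InvolTwoCount.rank_le hsq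
  have hpos := Forms.InvolTwoCount.one_le_rank ha1
  have hm : 1 ≤ m := by omega
  obtain ⟨k, rfl⟩ := heven
  have hC := Forms.CentTwo.card_oCent_alt (k := k) hm x hsq hs halt'
  rw [Forms.CentTwo.card_orth_alt] at hC
  have hexp : 2 * (m - (k + k)) * (k + k) + (k + k).choose 2 =
      2 * m * (k + k) - (3 * (k + k) ^ 2 + (k + k)) / 2 := by
    obtain ⟨d, rfl⟩ : ∃ d, m = d + (k + k) := ⟨m - (k + k), by omega⟩
    obtain ⟨j, rfl⟩ : ∃ j, k = j + 1 := ⟨k - 1, by omega⟩
    rw [Nat.add_sub_cancel]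
    have h2 := Forms.CentTwo.choose_two_twice (j + 1 + (j + 1))
    rw [show j + 1 + (j + 1) - 1 = 2 * j + 1 by omega] at h2
    ring_nf at h2 ⊢
    omega
  rw [hexp] at hC
  have hh : Fintype.card F ≠ 2 ∨ Fintype.card (Fin m ⊕ Fin m) ≠ 4 := h.imp_right fun hne => by simp; omega
  have hf : Cfsg.quadFormPlus m F = ⇑(QForm.plusForm F m) := (QForm.coe_plusForm F m).symm
  have hk2 : (k + k) / 2 = k := by omega
  rw [hk2]
  by_cases hsm : k + k = m
  · rw [if_pos hsm, mul_one]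
    have hall : ∀ g : ↥(Cfsg.isometryGroup F (Cfsg.quadFormPlus m F)), g * x = x * g →
        g ∈ Cfsg.Omega F (Cfsg.quadFormPlus m F) := fun g hg =>
      Forms.OmegaTwoClasses.mem_omega_of_commute _ _ hf (QForm.plusForm_nondegenerate F m) hh (m := m)
        (QForm.finrank_plus F m) halt'' (hs.trans hsm) hg
    have h0 : Nat.card (Forms.isomQ (Forms.quadPlus (m - (k + k)) F)) = 1 := by
      rw [Nat.sub_eq_zero_of_le (Nat.le_of_eq hsm.symm)]
      haveI : Subsingleton ↥(Forms.isomQ (Forms.quadPlus 0 F)) :=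
        ⟨fun a b => Subtype.ext (LinearEquiv.ext fun x => Subsingleton.elim _ _)⟩
      exact Nat.card_eq_one_iff_unique.2 ⟨inferInstance, ⟨1⟩⟩
    rw [h0, mul_one] at hC
    refine Eq.trans (Nat.card_congr ?_) (hC.trans (by ring))
    exact
      { toFun := fun g => ⟨g.1.1, g.2⟩
        invFun := fun g => ⟨⟨g.1, hall g.1 g.2⟩, g.2⟩
        left_inv := fun g => rfl
        right_inv := fun g => rfl }
  · rw [if_neg hsm]
    obtain ⟨-, hpar⟩ := Forms.OmegaTwoClasses.omega_criteria _ _ hf (QForm.plusForm_nondegenerate F m) hh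
    obtain ⟨c, hc, hcx⟩ := Forms.OmegaTwoClasses.exists_odd_commute_plus hm h x hord fun hsp => hsm (hs.symm.trans hsp.1)
    rw [Forms.CentTwo.two_mul_card_omega_cent _ hpar x hc hcx] at hC
    obtain ⟨n, hn⟩ : ∃ n, m - (k + k) = n + 1 := ⟨m - (k + k) - 1, by omega⟩
    rw [hn, Forms.card_isomQ_quadPlus] at hC
    rw [hn, Nat.add_sub_cancel, Fin.prod_univ_eq_prod_range (fun i => Fintype.card F ^ (2 * (i + 1)) - 1) n]
    refine Nat.eq_of_mul_eq_mul_left (by norm_num : 0 < 2) (hC.trans ?_)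
    ring

end Cfsg.Agent.S2684
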