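import Cfsg.Statements.S2685
import Cfsg.Agent.Lib.Forms.CentTwoRatio
import Cfsg.Agent.S2682

set_option autoImplicit false
open Cfsg

namespace Cfsg.Agent.S2685

/-- For the hyperbolic form Q = Σ x_j y_j on F^(2m) over a finite field with q elements, q even (excluding m = 2 over the field of two elements), and an involution x of the orthogonal group with s = rank(x − 1) even and Q not vanishing on the image of x − 1 (f(v, xv) ≠ 0 for some v, where f(u, w) = Q(u + w) − Q(u) − Q(w) is the bilinear form of Q; type c_s, which lies in Ω): its centraliser in Ω (the commutator subgroup of the orthogonal group) has order q^(2m(s−1) − (3s² − 5s)/2 − 1) · |Sp_(s−2)(q)| · |Sp_(2m−2s)(q)|. -/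
theorem result {F : Type*} [Field F] [Fintype F] [CharP F 2] {q : ℕ} (hF : Fintype.card F = q) {m s : ℕ} (h : Fintype.card F ≠ 2 ∨ m ≠ 2) (x : ↥(Cfsg.isometryGroup F (Cfsg.quadFormPlus m F))) (hx : x ^ 2 = 1) (hs : (((x : Matrix.GeneralLinearGroup (Fin m ⊕ Fin m) F) : Matrix (Fin m ⊕ Fin m) (Fin m ⊕ Fin m) F) - 1).rank = s) (heven : Even s) (hna : ∃ v : Fin m ⊕ Fin m → F, Cfsg.quadFormPlus m F ((((x : Matrix.GeneralLinearGroup (Fin m ⊕ Fin m) F) : Matrix (Fin m ⊕ Fin m) (Fin m ⊕ Fin m) F) - 1).mulVec v) ≠ 0) : Nat.card {g : ↥(Cfsg.Omega F (Cfsg.quadFormPlus m F)) // (g : ↥(Cfsg.isometryGroup F (Cfsg.quadFormPlus m F))) * x = x * (g : ↥(Cfsg.isometryGroup F (Cfsg.quadFormPlus m F)))} = q ^ (2 * m * (s - 1) - (3 * s ^ 2 - 5 * s) / 2 - 1) * ((q : ℕ) ^ (((s - 2) / 2) ^ 2) * ∏ i : Fin ((s - 2) / 2), (q ^ (2 * ((i : ℕ) + 1)) - 1)) * ((q : ℕ) ^ ((m - s) ^ 2) * ∏ i : Fin (m - s), (q ^ (2 * ((i : ℕ) + 1)) - 1)) := by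
  subst hF
  classical
  set a := ((x : Matrix.GeneralLinearGroup (Fin m ⊕ Fin m) F) : Matrix (Fin m ⊕ Fin m) (Fin m ⊕ Fin m) F) with ha
  have hQ : ∀ v, Forms.quadPlus m F (a.mulVec v) = Forms.quadPlus m F v := fun v => by
    rw [Forms.quadPlus_apply, Forms.quadPlus_apply]; exact x.2 v 0
  have hsq : a * a = 1 := by
    have := congrArg (fun y : ↥(Cfsg.isometryGroup F (Cfsg.quadFormPlus m F)) =>
      (y.1 : Matrix (Fin m ⊕ Fin m) (Fin m ⊕ Fin m) F)) hx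
    simpa [pow_two] using this
  obtain ⟨v, hv⟩ := hna
  have hv' : Forms.SympTwo.form a v v ≠ 0 := by
    rw [← Forms.OrthTwo.q_nil hQ, Forms.quadPlus_apply]
    exact hv
  have ha1 : a ≠ 1 := fun e => hv' (by
    rw [Forms.SympTwo.form_self, e, Matrix.one_mulVec, Forms.SympTwo.symp_self])
  have hx1 : x ≠ 1 := fun e => ha1 (by rw [ha, e]; rfl)
  haveI : Fact (Nat.Prime 2) := ⟨Nat.prime_two⟩
  have hord : orderOf x = 2 := orderOf_eq_prime hx hx1
  have hle := Forms.InvolTwoCount.rank_le hsq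
  have hpos := Forms.InvolTwoCount.one_le_rank ha1
  obtain ⟨t, ht, ht2, hcard⟩ :=
    Forms.CentTwo.card_omega_cent_nonalt (by omega) h x hord ⟨v, hv'⟩
  rw [S2682.result rfl t ht2 (by rw [ht]; exact hs) heven
    ⟨v, by rw [ht, ← Forms.SympTwo.form_self]; exact hv'⟩, hs] at hcard
  obtain ⟨k, hk⟩ := heven
  have hexp : 2 * m * s - (3 * s ^ 2 - 3 * s) / 2 - 1 =
      (2 * m * (s - 1) - (3 * s ^ 2 - 5 * s) / 2 - 1) + (2 * m - s) := by
    subst hk
    obtain ⟨j, rfl⟩ : ∃ j, k = j + 1 := ⟨k - 1, by omega⟩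
    obtain ⟨d, rfl⟩ : ∃ d, m = d + (2 * j + 2) := ⟨m - (2 * j + 2), by omega⟩
    rw [show j + 1 + (j + 1) - 1 = 2 * j + 1 by omega]
    ring_nf
    omega
  rw [hexp, pow_add] at hcard
  refine Nat.eq_of_mul_eq_mul_right (pow_pos (Fintype.card_pos (α := F)) (2 * m - s)) ?_
  rw [← hcard]
  ring

end Cfsg.Agent.S2685
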