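import Cfsg.Statements.S2686
import Cfsg.Agent.Lib.LocalBalance.PSLGraph
-- import your own Cfsg.Agent.* helpers here

set_option autoImplicit false
open Cfsg

namespace Cfsg.Agent.S2686

/-- A criterion for the failure of local balance in almost simple groups with linear socle. Let F be a finite field of characteristic r and K = PSL_n(F) (n ≥ 2) simple. Let A be a group of automorphisms of K containing all inner automorphisms (an almost simple group with socle K), and β ∈ A an automorphism of prime order p ≠ r that is not inner-diagonal (not induced by conjugation by an invertible matrix). Then the largest normal subgroup of C_A(β) of order prime to p is nontrivial if and only if β is the composite of an inner-diagonal automorphism with the automorphism induced by a field automorphism applied entrywise (β is of field type) and p does not divide the number of fixed points of β on K. -/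
theorem result
    (F : Type*) [Field F] [Fintype F] (r : ℕ) [Fact r.Prime] [CharP F r] (n : ℕ) (hn : 2 ≤ n)
    (hK : IsSimpleGroup (Matrix.ProjectiveSpecialLinearGroup (Fin n) F))
    (𝒢 : Subgroup (MulAut (Matrix.ProjectiveSpecialLinearGroup (Fin n) F))) (hinn : ∀ k : Matrix.ProjectiveSpecialLinearGroup (Fin n) F, MulAut.conj k ∈ 𝒢)
    (p : ℕ) [Fact p.Prime] (hpr : p ≠ r) (β : MulAut (Matrix.ProjectiveSpecialLinearGroup (Fin n) F)) (hβ : β ∈ 𝒢) (hord : orderOf β = p)
    (hnot : ¬ Cfsg.IsInnerDiagonalAutPSL β) :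
    Cfsg.pPrimeCore p ↥(𝒢 ⊓ Subgroup.centralizer {β}) ≠ ⊥ ↔
      ((∃ γ φ : MulAut (Matrix.ProjectiveSpecialLinearGroup (Fin n) F), Cfsg.IsInnerDiagonalAutPSL γ ∧ Cfsg.IsFieldAutPSL φ ∧ β = φ.trans γ) ∧
        Nat.Coprime p (Nat.card ↥(MonoidHom.eqLocus β.toMonoidHom (MonoidHom.id (Matrix.ProjectiveSpecialLinearGroup (Fin n) F))))) := by
  classical
  obtain ⟨m, rfl⟩ : ∃ m, n = m + 1 := ⟨n - 1, by omega⟩
  have hm : 1 ≤ m := by omega
  have hp : p.Prime := Fact.out
  have hr : r.Prime := Fact.out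
  have hpF : (p : F) ≠ 0 := fun h0 =>
    hpr ((Nat.prime_dvd_prime_iff_eq hr hp).1 ((CharP.cast_eq_zero_iff F r p).1 h0)).symm
  have hsemi : ∀ (g : GL (Fin (m + 1)) F) (σ : F ≃+* F), β = AutPSL.conjP g * AutPSL.fieldP σ →
      (Cfsg.pPrimeCore p ↥(𝒢 ⊓ Subgroup.centralizer {β}) ≠ ⊥ ↔
      ((∃ γ φ : MulAut (Matrix.ProjectiveSpecialLinearGroup (Fin (m + 1)) F), Cfsg.IsInnerDiagonalAutPSL γ ∧ Cfsg.IsFieldAutPSL φ ∧ β = φ.trans γ) ∧
        Nat.Coprime p (Nat.card ↥(MonoidHom.eqLocus β.toMonoidHom (MonoidHom.id (Matrix.ProjectiveSpecialLinearGroup (Fin (m + 1)) F)))))) := by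
    intro g σ hβe
    have hfield : ∃ γ φ : MulAut (Matrix.ProjectiveSpecialLinearGroup (Fin (m + 1)) F),
        Cfsg.IsInnerDiagonalAutPSL γ ∧ Cfsg.IsFieldAutPSL φ ∧ β = φ.trans γ :=
      ⟨AutPSL.conjP g, AutPSL.fieldP σ, AutPSL.isInnerDiagonal_conjP g, ⟨σ, AutPSL.isStdField_fieldP σ⟩,
        hβe.trans (MulEquiv.ext fun _ => rfl)⟩
    rw [and_iff_right hfield]
    subst hβe
    have hσ1 : σ ≠ 1 := fun e => hnot (by
      rw [e, AutPSL.fieldP_one, mul_one]; exact AutPSL.isInnerDiagonal_conjP g)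
    have hpow : (AutPSL.conjP g * AutPSL.fieldP σ : MulAut (Matrix.ProjectiveSpecialLinearGroup (Fin (m + 1)) F)) ^ p = 1 := by
      rw [← hord, pow_orderOf_eq_one]
    have hσ : orderOf σ = p := by
      refine orderOf_eq_prime ?_ hσ1
      have e := hpow
      rw [AutPSL.conjP_mul_fieldP_pow] at e
      exact (LocalBalance.eq_one_semilinear hm e).1
    obtain ⟨k, hk⟩ := AutPSL.lang_field hm σ hσ g hpow
    rw [hk]
    exact LocalBalance.core_ne_bot_iff_conj (LocalBalance.conj_injective_PSL hm) _ _ 𝒢 hinn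
      (LocalBalance.fix_ne_bot σ hm) (LocalBalance.core_fix_fieldP σ hm hpF)
      (fun a _ hfix hco => LocalBalance.eq_one_of_fix_fieldP σ hm hσ hfix hco)
  obtain ⟨g, σ, γ, hγ, hβe⟩ := AutPSL.exists_decomposition hm β
  rcases hγ with rfl | rfl
  · exact hsemi g σ (by rw [hβe, mul_one])
  rcases Nat.lt_or_ge m 2 with hm2 | hm2
  · obtain rfl : m = 1 := by omega
    obtain ⟨g₀, hg₀⟩ := LocalBalance.invP_inner (F := F)
    exact hsemi (g * FieldExt.glMap σ g₀) σ (by rw [hβe, hg₀, mul_assoc, AutPSL.fieldP_mul_conjP, map_mul, mul_assoc])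
  have hns : ∀ (g' : GL (Fin (m + 1)) F) (σ' : F ≃+* F), β ≠ AutPSL.conjP g' * AutPSL.fieldP σ' := by
    intro g' σ' e
    rw [hβe] at e
    refine AutPSL.invP_ne hm2 (FieldExt.glMap σ⁻¹ (g⁻¹ * g')) (σ⁻¹ * σ') ?_
    calc (AutPSL.invP : MulAut (Matrix.ProjectiveSpecialLinearGroup (Fin (m + 1)) F))
        = (AutPSL.conjP g * AutPSL.fieldP σ)⁻¹ * (AutPSL.conjP g * AutPSL.fieldP σ * AutPSL.invP) := by group
      _ = _ := by
        rw [e, show (AutPSL.fieldP (σ⁻¹ * σ') : MulAut (Matrix.ProjectiveSpecialLinearGroup (Fin (m + 1)) F)) =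
            AutPSL.fieldP σ⁻¹ * AutPSL.fieldP σ' from map_mul AutPSL.fieldPHom σ⁻¹ σ', ← mul_assoc (AutPSL.conjP _),
          ← AutPSL.fieldP_mul_conjP, map_mul, map_inv,
          show (AutPSL.fieldP σ⁻¹ : MulAut (Matrix.ProjectiveSpecialLinearGroup (Fin (m + 1)) F)) = (AutPSL.fieldP σ)⁻¹
            from map_inv AutPSL.fieldPHom σ]
        group
  have hp2 : p = 2 := by
    by_contra hp2
    obtain ⟨g', σ', e⟩ := LocalBalance.exists_semilinear_of_odd hm (a := β) (by
      rw [hord]; exact (Nat.coprime_primes hp Nat.prime_two).2 hp2)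
    exact hns g' σ' e
  subst hp2
  have hcore : Cfsg.pPrimeCore 2 ↥(𝒢 ⊓ Subgroup.centralizer {β}) = ⊥ := by
    rw [hβe] at hord ⊢
    exact LocalBalance.core_eq_bot_of_graph hm2 (by simpa using hpF) g σ hord 𝒢 hinn
  refine iff_of_false (fun h => h hcore) ?_
  rintro ⟨⟨γ, φ, hγ, ⟨σ', hφ⟩, e⟩, -⟩
  obtain ⟨g', rfl⟩ := AutPSL.eq_conjP hγ
  obtain rfl := AutPSL.eq_fieldP hφ
  exact hns g' σ' (e.trans (MulEquiv.ext fun _ => rfl))

end Cfsg.Agent.S2686
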