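import Cfsg.Statements.S2687
import Cfsg.Agent.Lib.LocalBalance.PSUField
-- import your own Cfsg.Agent.* helpers here

set_option autoImplicit false
open Cfsg

namespace Cfsg.Agent.S2687

/-- A criterion for the failure of local balance in almost simple groups with unitary socle. Let F be a finite field of characteristic r with q² elements and K = PSU_n(q) (n ≥ 3, the central quotient of the determinant-one isometries of the standard Hermitian form) simple. Let A be a group of automorphisms of K containing all inner automorphisms, and β ∈ A an automorphism of prime order p ≠ r that is not inner-diagonal (not induced by conjugation by a matrix of the general unitary group). Then the largest normal subgroup of C_A(β) of order prime to p is nontrivial if and only if β is the composite of an inner-diagonal automorphism with the automorphism induced by a field automorphism of F applied entrywise and p does not divide the number of fixed points of β on K. -/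
theorem result
    (F : Type*) [Field F] [Fintype F] (r : ℕ) [Fact r.Prime] [CharP F r] (q : ℕ) (hF : Fintype.card F = q ^ 2)
    (n : ℕ) (hn : 3 ≤ n) (hK : IsSimpleGroup (Cfsg.PSU n F q))
    (𝒢 : Subgroup (MulAut (Cfsg.PSU n F q))) (hinn : ∀ k : Cfsg.PSU n F q, MulAut.conj k ∈ 𝒢)
    (p : ℕ) [Fact p.Prime] (hpr : p ≠ r) (β : MulAut (Cfsg.PSU n F q)) (hβ : β ∈ 𝒢) (hord : orderOf β = p)
    (hnot : ¬ Cfsg.IsInnerDiagonalAutPSU β) :
    Cfsg.pPrimeCore p ↥(𝒢 ⊓ Subgroup.centralizer {β}) ≠ ⊥ ↔
      ((∃ γ φ : MulAut (Cfsg.PSU n F q), Cfsg.IsInnerDiagonalAutPSU γ ∧ (∃ σ : F ≃+* F, Cfsg.IsFieldAutPSUOf σ φ) ∧ β = φ.trans γ) ∧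
        Nat.Coprime p (Nat.card ↥(MonoidHom.eqLocus β.toMonoidHom (MonoidHom.id (Cfsg.PSU n F q))))) := by
  classical
  have hp : p.Prime := Fact.out
  have hpF : (p : F) ≠ 0 := fun h0 =>
    hpr ((Nat.prime_dvd_prime_iff_eq (Fact.out : r.Prime) hp).1 ((CharP.cast_eq_zero_iff F r p).1 h0)).symm
  have hs : ¬ (n = 3 ∧ q = 2) := by
    rintro ⟨rfl, rfl⟩
    obtain ⟨h72, hsol⟩ := S0282.result (F := F) (by rw [hF]; norm_num)
    letI : CommGroup (Cfsg.PSU 3 F 2) := { (inferInstance : Group (Cfsg.PSU 3 F 2)) with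
      mul_comm := IsSimpleGroup.comm_iff_isSolvable.2 hsol }
    have h := IsSimpleGroup.prime_card (α := Cfsg.PSU 3 F 2)
    rw [h72] at h
    norm_num at h
  obtain ⟨g, σ, hβe⟩ := AutPSU.exists_decomposition hF hn hs β
  have hfield : ∃ γ φ : MulAut (Cfsg.PSU n F q), Cfsg.IsInnerDiagonalAutPSU γ ∧
      (∃ σ : F ≃+* F, Cfsg.IsFieldAutPSUOf σ φ) ∧ β = φ.trans γ :=
    ⟨AutPSU.conjU g, AutPSU.fieldU σ, AutPSU.isInnerDiagonal_conjU g, ⟨σ, AutPSU.isFieldAut_fieldU σ⟩,
      hβe.trans (MulEquiv.ext fun _ => rfl)⟩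
  rw [and_iff_right hfield]
  subst hβe
  have hσ1 : σ ≠ 1 := fun e => hnot (by rw [e, map_one, mul_one]; exact AutPSU.isInnerDiagonal_conjU g)
  have hpow : (AutPSU.conjU g * AutPSU.fieldU σ : MulAut (Cfsg.PSU n F q)) ^ p = 1 := by
    rw [← hord, pow_orderOf_eq_one]
  have hσ : orderOf σ = p := by
    refine orderOf_eq_prime ?_ hσ1
    have e := hpow
    rw [AutPSU.conjU_mul_fieldU_pow] at e
    exact (AutPSU.eq_one_of_fix hF hn _ _ e).1
  rcases hp.eq_two_or_odd' with rfl | hodd
  · have hσq : σ = AutPSU.qAut hF := AutPSL.invol_unique (AutPSU.qAut_qAut hF) (AutPSU.qAut_ne_one hF)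
      (fun a => RingEquiv.congr_fun (show σ * σ = 1 by rw [← sq, ← hσ, pow_orderOf_eq_one]) a) hσ1
    subst hσq
    exact LocalBalance.core_ne_bot_iff_gautU hF hn hs (by simpa using hpF) g hord 𝒢 hinn
  · exact LocalBalance.core_ne_bot_iff_fieldU (r := r) hF hn hs hodd g σ hσ hpow 𝒢 hinn

end Cfsg.Agent.S2687
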