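import Cfsg.Statements.S2699
import Cfsg.Agent.Lib.GraphAut.Det

set_option autoImplicit false
open Cfsg

namespace Cfsg.Agent.S2699

open Cfsg.Agent Cfsg.Agent.GraphAut Matrix

/-- Let T = PSL_n(F) over the field with p^f elements with n ≥ 3 odd, n = 2m + 1, and G = Inndiag(T) the image of PGL_n(F). Every involutory graph automorphism γ of T (an inner-diagonal automorphism followed by inverse-transpose, of order 2) has centralizer C_G(γ) isomorphic to the projective conformal orthogonal group of the form x₀² + Σ xᵢ yᵢ in dimension n (for q even this group is isomorphic to Sp_{n−1}(q)), and any two involutory graph automorphisms are G-conjugate. -/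
theorem result {F : Type*} [Field F] [Fintype F] {p f : ℕ} [Fact p.Prime] (hF : Fintype.card F = p ^ f) (hf : 1 ≤ f) {n : ℕ} (hn : 3 ≤ n) {m : ℕ} (hnm : n = 2 * m + 1) (γ γ' : MulAut (Matrix.ProjectiveSpecialLinearGroup (Fin n) F)) (hγ : Cfsg.IsGraphAutClassPSL γ) (hγ2 : orderOf γ = 2) (hγ' : Cfsg.IsGraphAutClassPSL γ') (hγ'2 : orderOf γ' = 2) :
    Nonempty (↥(Cfsg.inndiagPSL n F ⊓ Subgroup.centralizer {γ}) ≃* Cfsg.PGO F (Cfsg.quadFormOdd m F)) ∧ Cfsg.IsConjUnder (Cfsg.inndiagPSL n F) γ γ' := by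
  obtain ⟨k, rfl⟩ : ∃ k, n = k + 1 := ⟨n - 1, by omega⟩
  have h1 : 1 ≤ k := by omega
  haveI := AutPSL.inndiag_normal (F := F) h1
  obtain ⟨g, ε, rfl, hg, hgε⟩ := exists_gaut_of_invol h1 γ hγ hγ2
  obtain ⟨g', ε', rfl, hg', hgε'⟩ := exists_gaut_of_invol h1 γ' hγ' hγ'2
  let e : Unit ⊕ (Fin m ⊕ Fin m) ≃ Fin (k + 1) := Fintype.equivFinOfCardEq (by simp; omega)
  by_cases h2 : (2 : F) = 0
  · haveI : CharP F 2 := CharTwo.of_one_ne_zero_of_two_eq_zero one_ne_zero h2
    have key : ∀ (x : GL (Fin (k + 1)) F) (δ : F), x.valᵀ = δ • x.val → (δ = 1 ∨ δ = -1) →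
        MatSim x.val (oddModel m F) := by
      intro x δ hx hδ
      have hs : x.valᵀ = x.val := by
        rcases hδ with rfl | rfl
        · rwa [one_smul] at hx
        · rwa [CharTwo.neg_eq, one_smul] at hx
      refine nonalt_matSim hs (det_ne_zero x) ?_ (oddModel_transpose m) (oddModel_det m) (oddModel_nonalt m)
        (by simp; omega)
      by_contra h
      push Not at h
      obtain ⟨j, hj, -⟩ := alt_matSim x.val (det_ne_zero x) h
      rw [Fintype.card_fin] at hj
      omega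
    obtain ⟨c1⟩ := centralizer_equiv h1 g (key g ε hg hgε)
    have hne : oddModel m F ≠ 0 := fun h => oddModel_det (F := F) m (by rw [h, Matrix.det_zero])
    exact ⟨⟨c1.trans ((isoMEquiv _ hne).symm.trans ((oddModelEquiv m).trans (pgoOddEquiv m).symm))⟩,
      (isConjUnder_gaut_iff h1 g g').2 ((key g ε hg hgε).trans (key g' ε' hg' hgε').symm)⟩
  · have hf : ⇑(Forms.quadOdd m F) = quadFormOdd m F := funext Forms.quadOdd_apply
    let G := QForm.gram ⇑(Forms.quadOdd m F) ⇑(Pi.basisFun F (Unit ⊕ (Fin m ⊕ Fin m)))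
    have hG : G.det ≠ 0 := QForm.det_gram_ne_zero (Forms.quadOdd_nondegenerate h2 m) _
    have key : ∀ (x : GL (Fin (k + 1)) F) (δ : F), x.valᵀ = δ • x.val → (δ = 1 ∨ δ = -1) → MatSim x.val G := by
      intro x δ hx hδ
      have hs := sym_of_odd h2 (r := m) hnm x hx hδ
      let M := ofMat e G hG
      have hMs : M.valᵀ = M.val := by
        rw [ofMat_val, Matrix.transpose_reindex, gram_symm]
      set c := x.val.det * M.val.det with hc
      have hc0 : c ≠ 0 := mul_ne_zero (det_ne_zero x) (det_ne_zero M)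
      obtain ⟨P, hP⟩ := cong_of_det h2 x.val (c • M.val) hs (by rw [Matrix.transpose_smul, hMs]) (det_ne_zero x)
        (by rw [Matrix.det_smul]; exact mul_ne_zero (pow_ne_zero _ hc0) (det_ne_zero M))
        ⟨c ^ (m + 1), by
          rw [Matrix.det_smul, Fintype.card_fin, mul_left_comm, ← hc, ← pow_succ, ← pow_add]
          congr 1
          omega⟩
      exact (MatSim.of_units P (Units.mk0 c hc0) hP).trans (matSim_ofMat e G hG)
    obtain ⟨c1⟩ := centralizer_equiv h1 g (key g ε hg hgε)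
    refine ⟨⟨c1.trans ?_⟩, (isConjUnder_gaut_iff h1 g g').2 ((key g ε hg hgε).trans (key g' ε' hg' hgε').symm)⟩
    show projQuot (simM G) ≃* projQuot (Geo.quadSimilarityGroup (quadFormOdd m F))
    exact projQuotCongr (MulEquiv.refl _) (fun _ => rfl) (fun x => by rw [quadSim_eq h2 _ hf]; rfl)

end Cfsg.Agent.S2699
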