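import Cfsg.Statements.S2700
import Cfsg.Agent.Lib.GraphAut.Det

set_option autoImplicit false
open Cfsg

namespace Cfsg.Agent.S2700

open Cfsg.Agent Cfsg.Agent.GraphAut Matrix

theorem pgo_equiv {κ : Type} [Fintype κ] [DecidableEq κ] {F : Type*} [Field F] (h2 : (2 : F) ≠ 0)
    (Q : QuadraticForm F (κ → F)) {f : (κ → F) → F} (hf : ⇑Q = f) :
    Nonempty (projQuot (simM (QForm.gram ⇑Q ⇑(Pi.basisFun F κ))) ≃* PGO F f) :=
  ⟨projQuotCongr (MulEquiv.refl _) (fun _ => rfl) (fun x => by rw [quadSim_eq h2 _ hf]; rfl)⟩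

theorem sym_matSim {F : Type*} [Field F] [Fintype F] (h2 : (2 : F) ≠ 0) {k : ℕ}
    (x : GL (Fin (k + 1)) F) (hs : x.valᵀ = x.val) {κ : Type} [Fintype κ] [DecidableEq κ]
    (Q : QuadraticForm F (κ → F)) (e : κ ≃ Fin (k + 1)) {d : F}
    (hd : (QForm.gram ⇑Q ⇑(Pi.basisFun F κ)).det = d) (hd0 : d ≠ 0) (hsq : IsSquare (x.val.det * d)) :
    MatSim x.val (QForm.gram ⇑Q ⇑(Pi.basisFun F κ)) := by
  set G := QForm.gram ⇑Q ⇑(Pi.basisFun F κ)
  let M := ofMat e G (by rw [hd]; exact hd0)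
  have hMs : M.valᵀ = M.val := by
    rw [ofMat_val, Matrix.transpose_reindex, gram_symm]
  obtain ⟨P, hP⟩ := cong_of_det h2 x.val M.val hs hMs (det_ne_zero x) (det_ne_zero M)
    (by rwa [ofMat_val, Matrix.det_reindex_self, hd])
  exact (MatSim.of_units P 1 (by rw [Units.val_one, one_smul]; exact hP)).trans (matSim_ofMat e G _)

theorem exists_aniso {F : Type*} [Field F] {α : F} (hα : ¬IsSquare α) :
    ∀ z₁ z₂ : F, z₁ ^ 2 + 0 * z₁ * z₂ + -α * z₂ ^ 2 = 0 → z₁ = 0 ∧ z₂ = 0 := by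
  intro z₁ z₂ h
  by_cases h0 : z₂ = 0
  · subst h0
    exact ⟨by simpa using h, rfl⟩
  · exact absurd ⟨z₁ / z₂, by field_simp; linear_combination -h⟩ hα

/-- Let T = PSL_n(F) over a finite field of odd order with n = 2m ≥ 4 even, and G = Inndiag(T) the image of PGL_n(F). The involutory graph automorphisms of T fall into exactly three G-classes, with representatives γ₁, γ₂, γ₃ whose centralizers in G are isomorphic respectively to the projective conformal symplectic group PGSp_n(F), the projective conformal orthogonal group of the plus-type form Σ xᵢ yᵢ, and that of a minus-type form Σ xᵢ yᵢ + z₁² + a z₁ z₂ + b z₂² (anisotropic binary part) in dimension n. -/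
theorem result {F : Type*} [Field F] [Fintype F] (hodd : Odd (Fintype.card F)) {n m : ℕ} (hm : 2 ≤ m) (hnm : n = 2 * m) :
    ∃ (γ₁ γ₂ γ₃ : MulAut (Matrix.ProjectiveSpecialLinearGroup (Fin n) F)) (a b : F), (∀ z₁ z₂ : F, z₁ ^ 2 + a * z₁ * z₂ + b * z₂ ^ 2 = 0 → z₁ = 0 ∧ z₂ = 0) ∧ Cfsg.IsGraphAutClassPSL γ₁ ∧ orderOf γ₁ = 2 ∧ Cfsg.IsGraphAutClassPSL γ₂ ∧ orderOf γ₂ = 2 ∧ Cfsg.IsGraphAutClassPSL γ₃ ∧ orderOf γ₃ = 2 ∧ ¬ Cfsg.IsConjUnder (Cfsg.inndiagPSL n F) γ₁ γ₂ ∧ ¬ Cfsg.IsConjUnder (Cfsg.inndiagPSL n F) γ₁ γ₃ ∧ ¬ Cfsg.IsConjUnder (Cfsg.inndiagPSL n F) γ₂ γ₃ ∧ (∀ γ : MulAut (Matrix.ProjectiveSpecialLinearGroup (Fin n) F), Cfsg.IsGraphAutClassPSL γ → orderOf γ = 2 → Cfsg.IsConjUnder (Cfsg.inndiagPSL n F) γ₁ γ ∨ Cfsg.IsConjUnder (Cfsg.inndiagPSL n F) γ₂ γ ∨ Cfsg.IsConjUnder (Cfsg.inndiagPSL n F) γ₃ γ) ∧ Nonempty (↥(Cfsg.inndiagPSL n F ⊓ Subgroup.centralizer {γ₁}) ≃* Cfsg.PGSp m F) ∧ Nonempty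 (↥(Cfsg.inndiagPSL n F ⊓ Subgroup.centralizer {γ₂}) ≃* Cfsg.PGO F (Cfsg.quadFormPlus m F)) ∧ Nonempty (↥(Cfsg.inndiagPSL n F ⊓ Subgroup.centralizer {γ₃}) ≃* Cfsg.PGO F (Cfsg.quadFormMinus (m - 1) F a b)) := by
  obtain ⟨k, rfl⟩ : ∃ k, n = k + 1 := ⟨n - 1, by omega⟩
  have h1 : 1 ≤ k := by omega
  have hk2 : 2 ≤ k := by omega
  have h2 := two_ne_zero_of_odd hodd
  obtain ⟨α, hα⟩ := FiniteField.exists_nonsquare (F := F) (fun h : ringChar F = 2 => h2 (by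
    haveI : CharP F 2 := h ▸ ringChar.charP F
    exact CharTwo.two_eq_zero))
  have hab := exists_aniso hα
  have hd := QForm.not_isSquare_disc h2 hab
  have hd0 : (0 : F) ^ 2 - 4 * -α ≠ 0 := fun h => hd ⟨0, by rw [h]; simp⟩
  let e : Fin m ⊕ Fin m ≃ Fin (k + 1) := Fintype.equivFinOfCardEq (by simp; omega)
  let e' : (Fin (m - 1) ⊕ Fin (m - 1)) ⊕ Fin 2 ≃ Fin (k + 1) := Fintype.equivFinOfCardEq (by simp; omega)
  let Gp := QForm.gram ⇑(QForm.plusForm F m) ⇑(Pi.basisFun F (Fin m ⊕ Fin m))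
  let Gm := QForm.gram ⇑(QForm.minusForm F (m - 1) 0 (-α))
    ⇑(Pi.basisFun F ((Fin (m - 1) ⊕ Fin (m - 1)) ⊕ Fin 2))
  have hdp : Gp.det = (-1) ^ m := QForm.det_gram_plus F m
  have hdm : Gm.det = (-1) ^ m * ((0 : F) ^ 2 - 4 * -α) := by
    rw [show Gm.det = _ from QForm.det_gram_minus F (m - 1) 0 (-α), Nat.sub_add_cancel (by omega : 1 ≤ m)]
  have hp1 : (-1 : F) ^ m ≠ 0 := pow_ne_zero _ (neg_ne_zero.2 one_ne_zero)
  let g1 := ofMat e (Matrix.J (Fin m) F) (det_J_ne_zero m)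
  let g2 := ofMat e Gp (by rw [hdp]; exact hp1)
  let g3 := ofMat e' Gm (by rw [hdm]; exact mul_ne_zero hp1 hd0)
  have ht1 : g1.valᵀ = (-1 : F) • g1.val := by
    rw [ofMat_val, Matrix.transpose_reindex, Matrix.J_transpose, neg_one_smul]
    rfl
  have ht2 : g2.valᵀ = (1 : F) • g2.val := by
    rw [one_smul, ofMat_val, Matrix.transpose_reindex, gram_symm]
  have ht3 : g3.valᵀ = (1 : F) • g3.val := by
    rw [one_smul, ofMat_val, Matrix.transpose_reindex, gram_symm]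
  have hne : ∀ g : GL (Fin (k + 1)) F, g.valᵀ = (1 : F) • g.val → ¬ MatSim g1.val g.val := by
    intro g hg h
    have hh := h.transpose_eq ht1
    rw [hg, ← sub_eq_zero, ← sub_smul, smul_eq_zero] at hh
    rcases hh with hh | hh
    · exact h2 (by linear_combination hh)
    · exact det_ne_zero g (by rw [hh, Matrix.det_zero])
  refine ⟨gaut g1, gaut g2, gaut g3, 0, -α, hab, isGraph_gaut hk2 g1, orderOf_gaut hk2 g1 ht1,
    isGraph_gaut hk2 g2, orderOf_gaut hk2 g2 ht2, isGraph_gaut hk2 g3, orderOf_gaut hk2 g3 ht3, ?_, ?_, ?_, ?_,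
    ?_, ?_, ?_⟩
  · rw [isConjUnder_gaut_iff h1]; exact hne g2 ht2
  · rw [isConjUnder_gaut_iff h1]; exact hne g3 ht3
  · rw [isConjUnder_gaut_iff h1]
    rintro ⟨P, Q, c, hPQ, -, hP⟩
    have hh := congrArg Matrix.det hP
    rw [Matrix.det_smul, Fintype.card_fin, Matrix.det_mul, Matrix.det_mul, Matrix.det_transpose, ofMat_val,
      ofMat_val, Matrix.det_reindex_self, Matrix.det_reindex_self, hdp, hdm, show (c : F) ^ (k + 1) = (c : F) ^ m * (c : F) ^ m by rw [← pow_add, hnm, two_mul]] at hh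
    have hP0 : P.det ≠ 0 := fun h0 => by simpa [h0] using congrArg Matrix.det hPQ
    refine hd ⟨P.det / (c : F) ^ m, ?_⟩
    refine mul_left_cancel₀ (mul_ne_zero (pow_ne_zero m c.ne_zero) (pow_ne_zero m c.ne_zero)) ?_
    have hh' : P.det * P.det = (c : F) ^ m * (c : F) ^ m * (0 ^ 2 - 4 * -α) :=
      mul_left_cancel₀ hp1 (by linear_combination hh)
    field_simp
    linear_combination -hh'
  · intro γ hγ hγ2
    obtain ⟨g, ε, rfl, hg, hε⟩ := exists_gaut_of_invol h1 γ hγ hγ2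
    rw [isConjUnder_gaut_iff h1, isConjUnder_gaut_iff h1, isConjUnder_gaut_iff h1]
    rcases hε with rfl | rfl
    · rw [one_smul] at hg
      by_cases hsq : IsSquare (g.val.det * (-1) ^ m)
      · exact Or.inr (Or.inl ((matSim_ofMat e _ _).trans
          (sym_matSim h2 g hg _ e hdp hp1 hsq).symm))
      · refine Or.inr (Or.inr ((matSim_ofMat e' _ _).trans
          (sym_matSim h2 g hg _ e' hdm (mul_ne_zero hp1 hd0) ?_).symm))
        rw [← mul_assoc, QForm.isSquare_mul_nonsquare_iff (mul_ne_zero (det_ne_zero g) hp1) hd]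
        exact hsq
    · rw [neg_one_smul] at hg
      obtain ⟨j, hj, hsim⟩ := alt_matSim g.val (det_ne_zero g) (alt_of_skew h2 hg)
      rw [Fintype.card_fin] at hj
      obtain rfl : j = m := by omega
      exact Or.inl ((matSim_ofMat e _ _).trans hsim.symm)
  · obtain ⟨c⟩ := centralizer_equiv h1 g1 (matSim_ofMat e _ _)
    exact ⟨c⟩
  · obtain ⟨c⟩ := centralizer_equiv h1 g2 (matSim_ofMat e _ _)
    obtain ⟨c'⟩ := pgo_equiv h2 (QForm.plusForm F m) (QForm.coe_plusForm F m)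
    exact ⟨c.trans c'⟩
  · obtain ⟨c⟩ := centralizer_equiv h1 g3 (matSim_ofMat e' _ _)
    obtain ⟨c'⟩ := pgo_equiv h2 (QForm.minusForm F (m - 1) 0 (-α)) (QForm.coe_minusForm F (m - 1) 0 (-α))
    exact ⟨c.trans c'⟩

end Cfsg.Agent.S2700
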