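import Cfsg.Statements.S2701
import Cfsg.Agent.Lib.GraphAut.Det

set_option autoImplicit false
open Cfsg

namespace Cfsg.Agent.S2701

open Cfsg.Agent Cfsg.Agent.GraphAut Matrix

/-- Let T = PSL_n(F) over a finite field of characteristic 2 with n = 2m ≥ 4 even, and G = Inndiag(T) the image of PGL_n(F). The involutory graph automorphisms of T fall into exactly two G-classes, with representatives γ₁ and γ₃ whose centralizers in G are isomorphic respectively to the symplectic group Sp_n(F) and to the centralizer in Sp_n(F) of a symplectic transvection. -/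
theorem result {F : Type*} [Field F] [Fintype F] [CharP F 2] {n m : ℕ} (hm : 2 ≤ m) (hnm : n = 2 * m) :
    ∃ (γ₁ γ₃ : MulAut (Matrix.ProjectiveSpecialLinearGroup (Fin n) F)) (t : ↥(Matrix.symplecticGroup (Fin m) F)), Cfsg.IsTransvection (t : Matrix (Fin m ⊕ Fin m) (Fin m ⊕ Fin m) F) ∧ Cfsg.IsGraphAutClassPSL γ₁ ∧ orderOf γ₁ = 2 ∧ Cfsg.IsGraphAutClassPSL γ₃ ∧ orderOf γ₃ = 2 ∧ ¬ Cfsg.IsConjUnder (Cfsg.inndiagPSL n F) γ₁ γ₃ ∧ (∀ γ : MulAut (Matrix.ProjectiveSpecialLinearGroup (Fin n) F), Cfsg.IsGraphAutClassPSL γ → orderOf γ = 2 → Cfsg.IsConjUnder (Cfsg.inndiagPSL n F) γ₁ γ ∨ Cfsg.IsConjUnder (Cfsg.inndiagPSL n F) γ₃ γ) ∧ Nonempty (↥(Cfsg.inndiagPSL n F ⊓ Subgroup.centralizer {γ₁}) ≃* ↥(Matrix.symplecticGroup (Fin m) F)) ∧ Nonempty (↥(Cfsg.inndiagPSL n F ⊓ Subgroup.centralizer {γ₃}) ≃* ↥(Subgroup.centralizer ({t} : Set ↥(Matrix.symplecticGroup (Fin m) F)))) := by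
  obtain ⟨k, rfl⟩ : ∃ k, n = k + 1 := ⟨n - 1, by omega⟩
  have h1 : 1 ≤ k := by omega
  have hk2 : 2 ≤ k := by omega
  let a : Fin m := ⟨0, by omega⟩
  haveI : Nonempty (Fin m ⊕ Fin m) := ⟨.inl a⟩
  let e : Fin m ⊕ Fin m ≃ Fin (k + 1) := Fintype.equivFinOfCardEq (by simp; omega)
  let g1 := ofMat e (Matrix.J (Fin m) F) (det_J_ne_zero m)
  let g3 := ofMat e (evenModel (F := F) a) (evenModel_det a)
  have ht1 : g1.valᵀ = (1 : F) • g1.val := by
    rw [one_smul, ofMat_val, Matrix.transpose_reindex, Matrix.J_transpose]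
    congr 1
    ext i j
    exact CharTwo.neg_eq _
  have ht3 : g3.valᵀ = (1 : F) • g3.val := by
    rw [one_smul, ofMat_val, Matrix.transpose_reindex, evenModel_transpose]
  refine ⟨gaut g1, gaut g3, transv a, transv_isTransvection a, isGraph_gaut hk2 g1, orderOf_gaut hk2 g1 ht1,
    isGraph_gaut hk2 g3, orderOf_gaut hk2 g3 ht3, ?_, ?_, ?_, ?_⟩
  · rw [isConjUnder_gaut_iff h1]
    intro h
    obtain ⟨v, hv⟩ := evenModel_nonalt (F := F) a
    exact hv (MatSim.self_eq_zero ((matSim_ofMat e _ _).symm.trans (h.trans (matSim_ofMat e _ _)))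
      sp_alt v)
  · intro γ hγ hγ2
    obtain ⟨g, ε, rfl, hg, hε⟩ := exists_gaut_of_invol h1 γ hγ hγ2
    have hs : g.valᵀ = g.val := by
      rcases hε with rfl | rfl
      · rwa [one_smul] at hg
      · rwa [CharTwo.neg_eq, one_smul] at hg
    rw [isConjUnder_gaut_iff h1, isConjUnder_gaut_iff h1]
    by_cases ha : ∀ v, v ⬝ᵥ (g.val *ᵥ v) = 0
    · obtain ⟨j, hj, hsim⟩ := alt_matSim g.val (det_ne_zero g) ha
      rw [Fintype.card_fin] at hj
      obtain rfl : j = m := by omega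
      exact Or.inl ((matSim_ofMat e _ _).trans hsim.symm)
    · push Not at ha
      exact Or.inr ((matSim_ofMat e _ _).trans (nonalt_matSim (evenModel_transpose a) (evenModel_det a)
        (evenModel_nonalt a) hs (det_ne_zero g) ha (by simp; omega)))
  · obtain ⟨c⟩ := centralizer_equiv h1 g1 (matSim_ofMat e _ _)
    exact ⟨c.trans ((isoMEquiv _ (fun h => det_J_ne_zero (F := F) m
      (by rw [h, Matrix.det_zero]))).symm.trans (spIsoEquiv m).symm)⟩
  · obtain ⟨c⟩ := centralizer_equiv h1 g3 (matSim_ofMat e _ _)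
    exact ⟨c.trans ((isoMEquiv _ (fun h => evenModel_det (F := F) a
      (by rw [h, Matrix.det_zero]))).symm.trans (evenModelEquiv a))⟩

end Cfsg.Agent.S2701
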