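import Cfsg.Statements.S2702
import Cfsg.Agent.S2700
import Cfsg.Agent.Lib.GraphAut.Det
import Cfsg.Agent.Lib.Forms.QuadOrder

set_option autoImplicit false
open Cfsg

namespace Cfsg.Agent.S2702

open Cfsg.Agent Cfsg.Agent.GraphAut Matrix

theorem card_isoM_congr {ι κ : Type} [Fintype ι] [DecidableEq ι] [Fintype κ] [DecidableEq κ] {F : Type*} [Field F]
    {M : Matrix ι ι F} {N : Matrix κ κ F} (h : MatSim M N) : Nat.card (isoM M) = Nat.card (isoM N) := by
  obtain ⟨P, Q, c, h1, h2, h3⟩ := h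
  refine Nat.card_congr ((conjEquiv P Q h1 h2).toEquiv.subtypeEquiv fun k => ?_)
  show k ∈ isoM M ↔ conjEquiv P Q h1 h2 k ∈ isoM N
  rw [mem_isoM, mem_isoM, conjEquiv_val]
  have key : (c : F) • ((Q * k.val * P)ᵀ * N * (Q * k.val * P)) = Pᵀ * (k.valᵀ * M * k.val) * P := by
    rw [← Matrix.smul_mul, ← Matrix.mul_smul, ← h3]
    calc _ = Pᵀ * k.valᵀ * (P * Q)ᵀ * M * (P * Q) * k.val * P := by
          simp only [Matrix.transpose_mul, Matrix.mul_assoc]
      _ = _ := by rw [h1]; simp [Matrix.mul_assoc]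
  constructor
  · intro hk
    rw [hk, h3] at key
    exact smul_right_injective _ c.ne_zero key
  · intro hk
    rw [hk, ← h3] at key
    have := congrArg (fun X => Qᵀ * X * Q) key
    have e : ∀ A : Matrix ι ι F, Qᵀ * (Pᵀ * A * P) * Q = A := fun A => by
      calc Qᵀ * (Pᵀ * A * P) * Q = (P * Q)ᵀ * A * (P * Q) := by
            rw [Matrix.transpose_mul]; simp only [Matrix.mul_assoc]
        _ = A := by rw [h1]; simp
    simpa only [e] using this.symm

theorem card_PGSp {F : Type*} [Field F] [Fintype F] (m : ℕ) (hm : 1 ≤ m) :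
    Nat.card (PGSp m F) = Fintype.card F ^ (m ^ 2) * ∏ i ∈ Finset.range m, (Fintype.card F ^ (2 * (i + 1)) - 1) := by
  haveI : Nonempty (Fin m ⊕ Fin m) := ⟨.inl ⟨0, hm⟩⟩
  show Nat.card (projQuot (simM (Matrix.J (Fin m) F))) = _
  rw [card_projQuot_simM _ (fun h => det_J_ne_zero (F := F) m (by rw [h, Matrix.det_zero]))
      (fun c => ⟨_, symSim_spec m c⟩), ← Nat.card_congr (spIsoEquiv m).toEquiv, Forms.card_symplecticGroup]

theorem cast_prod_zero {F : Type*} [Field F] [Fintype F] (j : ℕ) :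
    (((∏ i ∈ Finset.range j, (Fintype.card F ^ (2 * (i + 1)) - 1)) : ℕ) : F) = (-1) ^ j := by
  rw [Nat.cast_prod, show (-1 : F) ^ j = ∏ _i ∈ Finset.range j, (-1 : F) by simp]
  refine Finset.prod_congr rfl fun i _ => ?_
  rw [Nat.cast_sub (Nat.one_le_pow _ _ Fintype.card_pos), Nat.cast_pow, FiniteField.cast_card_eq_zero,
    zero_pow (by omega), Nat.cast_one, zero_sub]

theorem orth_card_ne {F : Type*} [Field F] [Fintype F] (h2 : (2 : F) ≠ 0) (j B : ℕ)
    (hB : ((B : ℕ) : F) = 1 ∨ ((B : ℕ) : F) = -1) :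
    2 * Fintype.card F ^ ((j + 1) * j) * B * ∏ i ∈ Finset.range j, (Fintype.card F ^ (2 * (i + 1)) - 1) ≠
      Fintype.card F ^ ((j + 1) ^ 2) * ∏ i ∈ Finset.range (j + 1), (Fintype.card F ^ (2 * (i + 1)) - 1) := by
  set q := Fintype.card F with hq
  intro h
  rw [show (j + 1) ^ 2 = (j + 1) * j + (j + 1) by ring, pow_add] at h
  have h' : 2 * B * ∏ i ∈ Finset.range j, (q ^ (2 * (i + 1)) - 1) =
      q ^ (j + 1) * ∏ i ∈ Finset.range (j + 1), (q ^ (2 * (i + 1)) - 1) :=
    Nat.eq_of_mul_eq_mul_left (pow_pos Fintype.card_pos ((j + 1) * j)) (by linarith)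
  have hc := congrArg (Nat.cast : ℕ → F) h'
  rw [Nat.cast_mul, Nat.cast_mul, hq, cast_prod_zero, Nat.cast_mul _ (∏ i ∈ Finset.range (j + 1), _),
    Nat.cast_pow, FiniteField.cast_card_eq_zero, zero_pow (by omega), zero_mul, Nat.cast_two] at hc
  rcases hB with hB | hB <;> rw [hB] at hc <;> simp [h2] at hc

/-- Let T = PSL_n(F) over the field with q = p^f elements, n ≥ 3, G = Inndiag(T) the image of PGL_n(F), and γ an involutory graph automorphism of T. The G-class of γ is the union of exactly c T-classes, where: if n is even and q is odd, c = gcd(n/2, q − 1) when C_G(γ) is isomorphic to the projective conformal symplectic group PGSp_n(F) (symplectic type) and c = gcd(n, q − 1)/2 otherwise; and c = gcd(n, q − 1) when n is odd or q is even. -/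
theorem result {F : Type*} [Field F] [Fintype F] {p f : ℕ} [Fact p.Prime] (hF : Fintype.card F = p ^ f) (hf : 1 ≤ f) {n : ℕ} (hn : 3 ≤ n) (γ : MulAut (Matrix.ProjectiveSpecialLinearGroup (Fin n) F)) (hγ : Cfsg.IsGraphAutClassPSL γ) (hγ2 : orderOf γ = 2) :
    ((Even n ∧ Odd p ∧ Nonempty (↥(Cfsg.inndiagPSL n F ⊓ Subgroup.centralizer {γ}) ≃* Cfsg.PGSp (n / 2) F)) → Cfsg.splitClassCount (Cfsg.inndiagPSL n F) (Cfsg.Inn (Matrix.ProjectiveSpecialLinearGroup (Fin n) F)) γ = Nat.gcd (n / 2) (p ^ f - 1)) ∧ ((Even n ∧ Odd p ∧ ¬ Nonempty (↥(Cfsg.inndiagPSL n F ⊓ Subgroup.centralizer {γ}) ≃* Cfsg.PGSp (n / 2) F)) → Cfsg.splitClassCount (Cfsg.inndiagPSL n F) (Cfsg.Inn (Matrix.ProjectiveSpecialLinearGroup (Fin n) F)) γ = Nat.gcd n (p ^ f - 1) / 2) ∧ (¬ (Even n ∧ Odd p) → Cfsg.splitClassCount (Cfsg.inndiagPSL n F) (Cfsg.Inn (Matrix.ProjectiveSpecialLinearGroup (Fin n) F)) γ = Nat.gcd n (p ^ f - 1)) := by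
  obtain ⟨k, rfl⟩ : ∃ k, n = k + 1 := ⟨n - 1, by omega⟩
  have h1 : 1 ≤ k := by omega
  obtain ⟨g, ε, rfl, hg, hε⟩ := exists_gaut_of_invol h1 γ hγ hγ2
  rw [split_gaut h1]
  have hq : Fintype.card F - 1 = p ^ f - 1 := by rw [hF]
  have hc3 : ¬ (Even (k + 1) ∧ Odd p) →
      ((simM g.val).map Matrix.GeneralLinearGroup.det).index = Nat.gcd (k + 1) (p ^ f - 1) := by
    intro h
    rw [not_and_or] at h
    rcases Nat.even_or_odd (k + 1) with he | ⟨r, hr⟩
    · have hp : p = 2 := ((Fact.out : p.Prime).eq_two_or_odd').resolve_right (h.resolve_left (not_not_intro he))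
      haveI : CharP F 2 := by
        subst hp
        exact charP_of_card_eq_prime_pow hF
      rw [det_simM_char2, index_range_pow, hq]
    · rw [det_simM_odd g hr, index_range_pow, hq]
  refine ⟨?_, ?_, hc3⟩
  all_goals
    rintro ⟨he, hp, hnc⟩
    have hodd : Odd (Fintype.card F) := hF ▸ hp.pow
    have h2 := two_ne_zero_of_odd hodd
    obtain ⟨j, hj⟩ := he
  · rcases hε with rfl | rfl
    · exfalso
      rw [one_smul] at hg
      obtain ⟨α, hα⟩ := FiniteField.exists_nonsquare (F := F) (fun h : ringChar F = 2 => h2 (by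
        haveI : CharP F 2 := h ▸ ringChar.charP F
        exact CharTwo.two_eq_zero))
      have hab := S2700.exists_aniso hα
      have hd := QForm.not_isSquare_disc h2 hab
      have hd0 : (0 : F) ^ 2 - 4 * -α ≠ 0 := fun h => hd ⟨0, by rw [h]; simp⟩
      have hp1 : (-1 : F) ^ j ≠ 0 := pow_ne_zero _ (neg_ne_zero.2 one_ne_zero)
      obtain ⟨e⟩ := hnc
      have hcard := Nat.card_congr ((centralizerGautEquiv h1 g).symm.trans e).toEquiv
      have hgne : g.val ≠ 0 := fun h => det_ne_zero g (by rw [h, Matrix.det_zero])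
      rw [card_PGSp _ (by omega), show (k + 1) / 2 = j by omega,
        card_projQuot_simM _ hgne (fun c => exists_sim_of_sym h2 (k := j) (by omega) g hg c)] at hcard
      obtain ⟨i, rfl⟩ : ∃ i, j = i + 1 := ⟨j - 1, by omega⟩
      by_cases hsq : IsSquare (g.val.det * (-1) ^ (i + 1))
      · have hs := S2700.sym_matSim h2 g hg (QForm.plusForm F (i + 1))
          (Fintype.equivFinOfCardEq (by simp; omega)) (QForm.det_gram_plus F _) hp1 hsq
        rw [card_isoM_congr hs, ← isometryGroup_eq h2 _ (QForm.coe_plusForm F (i + 1)),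
          Forms.card_isometryGroup _ Forms.quadPlus_apply, Forms.card_isomQ_quadPlus] at hcard
        refine orth_card_ne h2 i _ (Or.inr ?_) hcard
        rw [Nat.cast_sub (Nat.one_le_pow _ _ Fintype.card_pos), Nat.cast_pow, FiniteField.cast_card_eq_zero,
          zero_pow (by omega), Nat.cast_one, zero_sub]
      · have hs := S2700.sym_matSim h2 g hg (QForm.minusForm F i 0 (-α))
          (Fintype.equivFinOfCardEq (by simp; omega)) (QForm.det_gram_minus F i 0 (-α)) (mul_ne_zero hp1 hd0)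
          (by rw [← mul_assoc, QForm.isSquare_mul_nonsquare_iff (mul_ne_zero (det_ne_zero g) hp1) hd]; exact hsq)
        rw [card_isoM_congr hs, ← isometryGroup_eq h2 _ (QForm.coe_minusForm F i 0 (-α)),
          Forms.card_isometryGroup _ Forms.quadMinus_apply, Forms.card_isomQ_quadMinus _ hab] at hcard
        refine orth_card_ne h2 i _ (Or.inl ?_) hcard
        rw [Nat.cast_add, Nat.cast_pow, FiniteField.cast_card_eq_zero, zero_pow (by omega), Nat.cast_one, zero_add]
    · rw [neg_one_smul] at hg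
      obtain ⟨i, hi, -, hD⟩ := det_simM_alt g (alt_of_skew h2 hg)
      rw [hD, index_range_pow, hq, show (k + 1) / 2 = i by omega]
  · rcases hε with rfl | rfl
    · rw [one_smul] at hg
      rw [← hq, ← index_det_simM_sym h2 (k := j) (by omega) g hg, Nat.mul_div_cancel_left _ two_pos]
    · exfalso
      rw [neg_one_smul] at hg
      obtain ⟨i, hi, hs, -⟩ := det_simM_alt g (alt_of_skew h2 hg)
      obtain ⟨c⟩ := centralizer_equiv h1 g hs
      refine hnc ⟨c.trans ?_⟩
      rw [show (k + 1) / 2 = i by omega]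
      exact MulEquiv.refl _

end Cfsg.Agent.S2702
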