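import Cfsg.Statements.S2703
import Cfsg.Agent.Lib.GraphAut.Det

set_option autoImplicit false
open Cfsg

namespace Cfsg.Agent.S2703

open Cfsg.Agent Cfsg.Agent.GraphAut Matrix

theorem pgo_equiv {κ : Type} [Fintype κ] [DecidableEq κ] {F : Type*} [Field F] (h2 : (2 : F) ≠ 0)
    (Q : QuadraticForm F (κ → F)) {f : (κ → F) → F} (hf : ⇑Q = f) :
    Nonempty (projQuot (simM (QForm.gram ⇑Q ⇑(Pi.basisFun F κ))) ≃* PGO F f) :=
  ⟨projQuotCongr (MulEquiv.refl _) (fun _ => rfl) (fun x => by rw [quadSim_eq h2 _ hf]; rfl)⟩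

theorem sym_matSim {F : Type*} [Field F] [Fintype F] (h2 : (2 : F) ≠ 0) {k : ℕ}
    (x : GL (Fin (k + 1)) F) (hs : x.valᵀ = x.val) {κ : Type} [Fintype κ] [DecidableEq κ]
    (Q : QuadraticForm F (κ → F)) (e : κ ≃ Fin (k + 1)) {d : F}
    (hd : (QForm.gram ⇑Q ⇑(Pi.basisFun F κ)).det = d) (hd0 : d ≠ 0) (hsq : IsSquare (x.val.det * d)) :
    MatSim x.val (QForm.gram ⇑Q ⇑(Pi.basisFun F κ)) := by
  set G := QForm.gram ⇑Q ⇑(Pi.basisFun F κ)
  let M := ofMat e G (by rw [hd]; exact hd0)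
  have hMs : M.valᵀ = M.val := by
    rw [ofMat_val, Matrix.transpose_reindex, gram_symm]
  obtain ⟨P, hP⟩ := cong_of_det h2 x.val M.val hs hMs (det_ne_zero x) (det_ne_zero M)
    (by rwa [ofMat_val, Matrix.det_reindex_self, hd])
  exact (MatSim.of_units P 1 (by rw [Units.val_one, one_smul]; exact hP)).trans (matSim_ofMat e G _)

theorem exists_aniso {F : Type*} [Field F] {α : F} (hα : ¬IsSquare α) :
    ∀ z₁ z₂ : F, z₁ ^ 2 + 0 * z₁ * z₂ + -α * z₂ ^ 2 = 0 → z₁ = 0 ∧ z₂ = 0 := by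
  intro z₁ z₂ h
  by_cases h0 : z₂ = 0
  · subst h0
    exact ⟨by simpa using h, rfl⟩
  · exact absurd ⟨z₁ / z₂, by field_simp; linear_combination -h⟩ hα

/-- Let T = PSL_n(F) over the field with q elements, q odd, n = 2m ≥ 4 even, and ι the inverse-transpose automorphism. Its centralizer in G = Inndiag(T) (the image of PGL_n(F)) is isomorphic to the projective conformal orthogonal group of the plus-type form Σ xᵢ yᵢ in dimension n when n(q − 1)/4 is even, and to that of a minus-type form (Σ xᵢ yᵢ + z₁² + a z₁ z₂ + b z₂² with anisotropic binary part) when n(q − 1)/4 is odd. -/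
theorem result {F : Type*} [Field F] [Fintype F] (hodd : Odd (Fintype.card F)) {n m : ℕ} (hm : 2 ≤ m) (hnm : n = 2 * m) (ι : MulAut (Matrix.ProjectiveSpecialLinearGroup (Fin n) F)) (hι : Cfsg.IsInverseTransposeAutPSL ι) :
    (Even (n * (Fintype.card F - 1) / 4) → Nonempty (↥(Cfsg.inndiagPSL n F ⊓ Subgroup.centralizer {ι}) ≃* Cfsg.PGO F (Cfsg.quadFormPlus m F))) ∧ (¬ Even (n * (Fintype.card F - 1) / 4) → ∃ a b : F, (∀ z₁ z₂ : F, z₁ ^ 2 + a * z₁ * z₂ + b * z₂ ^ 2 = 0 → z₁ = 0 ∧ z₂ = 0) ∧ Nonempty (↥(Cfsg.inndiagPSL n F ⊓ Subgroup.centralizer {ι}) ≃* Cfsg.PGO F (Cfsg.quadFormMinus (m - 1) F a b))) := by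
  obtain ⟨k, rfl⟩ : ∃ k, n = k + 1 := ⟨n - 1, by omega⟩
  have h1 : 1 ≤ k := by omega
  have h2 := two_ne_zero_of_odd hodd
  rw [AutPSL.eq_invP hι, ← gaut_one]
  have harith : (k + 1) * (Fintype.card F - 1) / 4 = m * (Fintype.card F - 1) / 2 := by
    rw [hnm, mul_assoc]; omega
  rw [harith, ← QForm.isSquare_neg_one_pow_iff (F := F) rfl hodd m]
  have h11 : (1 : GL (Fin (k + 1)) F).valᵀ = (1 : GL (Fin (k + 1)) F).val := by simp
  constructor
  · intro hsq
    obtain ⟨c1⟩ := centralizer_equiv h1 (1 : GL (Fin (k + 1)) F)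
      (sym_matSim h2 _ h11 (QForm.plusForm F m) (Fintype.equivFinOfCardEq (by simp; omega))
        (QForm.det_gram_plus F m) (by simp) (by simpa using hsq))
    obtain ⟨c2⟩ := pgo_equiv h2 (QForm.plusForm F m) (QForm.coe_plusForm F m)
    exact ⟨c1.trans c2⟩
  · intro hsq
    obtain ⟨α, hα⟩ := FiniteField.exists_nonsquare (F := F) (fun h : ringChar F = 2 => h2 (by
      haveI : CharP F 2 := h ▸ ringChar.charP F
      exact CharTwo.two_eq_zero))
    refine ⟨0, -α, exists_aniso hα, ?_⟩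
    have hd := QForm.not_isSquare_disc h2 (exists_aniso hα)
    have hd0 : (0 : F) ^ 2 - 4 * -α ≠ 0 := fun h => hd ⟨0, by rw [h]; simp⟩
    obtain ⟨c1⟩ := centralizer_equiv h1 (1 : GL (Fin (k + 1)) F)
      (sym_matSim h2 _ h11 (QForm.minusForm F (m - 1) 0 (-α)) (Fintype.equivFinOfCardEq (by simp; omega))
        (QForm.det_gram_minus F (m - 1) 0 (-α)) (mul_ne_zero (by simp) hd0) (by
          rw [Units.val_one, Matrix.det_one, one_mul, Nat.sub_add_cancel (by omega : 1 ≤ m),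
            QForm.isSquare_mul_nonsquare_iff (pow_ne_zero _ (neg_ne_zero.2 one_ne_zero)) hd]
          exact hsq))
    obtain ⟨c2⟩ := pgo_equiv h2 (QForm.minusForm F (m - 1) 0 (-α)) (QForm.coe_minusForm F (m - 1) 0 (-α))
    exact ⟨c1.trans c2⟩

end Cfsg.Agent.S2703
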