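import Cfsg.Statements.S2704
import Cfsg.Agent.Lib.AutPSL.GraphField

set_option autoImplicit false
open Cfsg

namespace Cfsg.Agent.S2704

/-- Let T = PSL_n(F) over the field F with p^f elements, n ≥ 3, and G = Inndiag(T) the image of PGL_n(F). If x is an involutory graph-field automorphism of T then f is even; x is G-conjugate to every other involutory graph-field automorphism; C_G(x) is isomorphic to the projective general unitary group PGU_n(q₀) with q₀² = p^f, realised over F itself through the Hermitian form Σ uᵢ vᵢ^{q₀}; and the G-class of x is the union of exactly gcd(n, q₀ − 1) T-classes. -/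
theorem result {F : Type*} [Field F] [Fintype F] {p f : ℕ} [Fact p.Prime] (hF : Fintype.card F = p ^ f) (hf : 1 ≤ f) {n : ℕ} (hn : 3 ≤ n) (x : MulAut (Matrix.ProjectiveSpecialLinearGroup (Fin n) F)) (hx : Cfsg.IsGraphFieldAutClassPSL x) (hx2 : orderOf x = 2) :
    Even f ∧ (∀ y : MulAut (Matrix.ProjectiveSpecialLinearGroup (Fin n) F), Cfsg.IsGraphFieldAutClassPSL y → orderOf y = 2 → Cfsg.IsConjUnder (Cfsg.inndiagPSL n F) x y) ∧ Nonempty (↥(Cfsg.inndiagPSL n F ⊓ Subgroup.centralizer {x}) ≃* Cfsg.PGU n F (p ^ (f / 2))) ∧ Cfsg.splitClassCount (Cfsg.inndiagPSL n F) (Cfsg.Inn (Matrix.ProjectiveSpecialLinearGroup (Fin n) F)) x = Nat.gcd n (p ^ (f / 2) - 1) := by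
  classical
  obtain ⟨m, rfl⟩ : ∃ m, n = m + 1 := ⟨n - 1, by omega⟩
  have hm : 1 ≤ m := by omega
  obtain ⟨hm2, α, σ, hσ, rfl⟩ := AutPSL.exists_std_of_graphFieldClass hx
  rw [AutPSL.orderOf_conj_mul] at hx2
  obtain ⟨-, hi⟩ := AutPSL.tau_order hm2 σ hσ Nat.prime_two hx2
  obtain ⟨hdvd, hcard⟩ := FieldExt.orderOf_dvd_and_card hF σ
  rw [FieldExt.orderOf_invol hi hσ] at hdvd hcard
  have hFq : Fintype.card F = (p ^ (f / 2)) ^ 2 := by
    rw [← pow_mul, Nat.div_mul_cancel hdvd, hF]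
  have hpow : ∀ a, σ a = a ^ (p ^ (f / 2)) := by
    let ρ : F ≃+* F := RingEquiv.ofBijective (Forms.qEnd hFq)
      (Finite.injective_iff_bijective.1 (RingHom.injective _))
    have hρ : ∀ a, ρ (ρ a) = a := fun a => Forms.qEnd_qEnd hFq a
    have hρne : ρ ≠ 1 := fun h => Forms.qEnd_ne_id hFq (RingHom.ext fun a => RingEquiv.congr_fun h a)
    intro a
    rw [AutPSL.invol_unique hρ hρne hi hσ]
    rfl
  have := AutPSL.inndiag_normal (F := F) hm
  refine ⟨even_iff_two_dvd.2 hdvd, fun y hy hy2 => ?_,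
    ⟨(AutPSL.centralizerEquiv _ α _).symm.trans (AutPSL.centralizerTauEquiv hm hFq σ hpow hi hσ)⟩, ?_⟩
  · obtain ⟨-, β, ρ, hρ, rfl⟩ := AutPSL.exists_std_of_graphFieldClass hy
    rw [AutPSL.orderOf_conj_mul] at hy2
    obtain ⟨-, hi'⟩ := AutPSL.tau_order hm2 ρ hρ Nat.prime_two hy2
    rw [AutPSL.invol_unique hi hσ hi' hρ]
    obtain ⟨k, hk⟩ := AutPSL.conj_tau hm σ hi hσ (α⁻¹ * β)
    refine ⟨α * AutPSL.conjP k * α⁻¹, Subgroup.Normal.conj_mem inferInstance _ ?_ α, ?_⟩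
    · rw [AutPSL.inndiagPSL_eq_range]
      exact ⟨k, rfl⟩
    · calc β * (AutPSL.fieldP σ * AutPSL.invP) * β⁻¹
          = α * ((α⁻¹ * β) * (AutPSL.fieldP σ * AutPSL.invP) * (α⁻¹ * β)⁻¹) * α⁻¹ := by group
        _ = _ := by rw [hk]; group
  · rw [AutPSL.splitClassCount_conj _ _ AutPSL.inn_le_inndiag, AutPSL.split_tau hm hFq σ hpow hi hσ]

end Cfsg.Agent.S2704
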