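import Cfsg.Statements.S2706
import Cfsg.Agent.Lib.AutPSU.GraphClasses
import Cfsg.Agent.Lib.GraphAut.Models

set_option autoImplicit false
open Cfsg

namespace Cfsg.Agent.S2706

open Cfsg.Agent Cfsg.Agent.GraphAut Cfsg.Agent.AutPSU Matrix

/-- Let T = PSU_n(q) be simple with n = 2m + 1 ≥ 3 odd, realised over the field F with q² elements, and G = Inndiag(T) the image of PGU_n(q). Every involutory graph automorphism γ of T (an inner-diagonal automorphism times a standard field automorphism of even order, of order 2) has centralizer C_G(γ) isomorphic to the projective conformal orthogonal group of the form x₀² + Σ xᵢ yᵢ in dimension n over a field F₀ with q elements, and any two involutory graph automorphisms of T are G-conjugate. -/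
theorem result {F : Type*} [Field F] [Fintype F] {p f q : ℕ} [Fact p.Prime] (hq : q = p ^ f) (hf : 1 ≤ f) (hF : Fintype.card F = q ^ 2) {n : ℕ} (hn : 3 ≤ n) (hs : ¬ (n = 3 ∧ q = 2)) {m : ℕ} (hnm : n = 2 * m + 1) (F₀ : Type*) [Field F₀] [Fintype F₀] (hF₀ : Fintype.card F₀ = q) (γ γ' : MulAut (Cfsg.PSU n F q)) (hγ : Cfsg.IsGraphAutClassPSU γ) (hγ2 : orderOf γ = 2) (hγ' : Cfsg.IsGraphAutClassPSU γ') (hγ'2 : orderOf γ' = 2) :
    Nonempty (↥(Cfsg.inndiagPSU n F q ⊓ Subgroup.centralizer {γ}) ≃* Cfsg.PGO F₀ (Cfsg.quadFormOdd m F₀)) ∧ Cfsg.IsConjUnder (Cfsg.inndiagPSU n F q) γ γ' := by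
  obtain ⟨k, rfl⟩ : ∃ k, n = k + 1 := ⟨n - 1, by omega⟩
  obtain ⟨ι, hι⟩ := exists_iota hF hF₀
  obtain ⟨g, ε, rfl, hε, hg⟩ := exists_gautU_of_invol hF hn γ hγ hγ2
  obtain ⟨g', ε', rfl, hε', hg'⟩ := exists_gautU_of_invol hF hn γ' hγ' hγ'2
  obtain ⟨b, M, hD⟩ := exists_desc hF hι g hε hg
  obtain ⟨b', M', hD'⟩ := exists_desc hF hι g' hε' hg'
  obtain ⟨e, he, -, hT⟩ := hD.eps hF
  obtain ⟨e', he', -, hT'⟩ := hD'.eps hF
  let eqv : Unit ⊕ (Fin m ⊕ Fin m) ≃ Fin (k + 1) := Fintype.equivFinOfCardEq (by simp; omega)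
  let X := GeneralLinearGroup.mkOfDetNeZero M (hD.det_ne_zero hF)
  let X' := GeneralLinearGroup.mkOfDetNeZero M' (hD'.det_ne_zero hF)
  by_cases h2 : (2 : F₀) = 0
  · haveI : CharP F₀ 2 := CharTwo.of_one_ne_zero_of_two_eq_zero one_ne_zero h2
    have key : ∀ (x : GL (Fin (k + 1)) F₀) (δ : F₀), x.valᵀ = δ • x.val → (δ = 1 ∨ δ = -1) →
        MatSim x.val (oddModel m F₀) := by
      intro x δ hx hδ
      have hs' : x.valᵀ = x.val := by
        rcases hδ with rfl | rfl
        · rwa [one_smul] at hx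
        · rwa [CharTwo.neg_eq, one_smul] at hx
      refine nonalt_matSim hs' (GraphAut.det_ne_zero x) ?_ (oddModel_transpose m) (oddModel_det m)
        (oddModel_nonalt m) (by simp; omega)
      by_contra h
      push Not at h
      obtain ⟨j, hj, -⟩ := alt_matSim x.val (GraphAut.det_ne_zero x) h
      rw [Fintype.card_fin] at hj
      omega
    obtain ⟨c1⟩ := centralizerU_equiv hF hι hn hD (key X e hT he)
    have hne : oddModel m F₀ ≠ 0 := fun h => oddModel_det (F := F₀) m (by rw [h, Matrix.det_zero])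
    exact ⟨⟨c1.trans ((isoMEquiv _ hne).symm.trans ((oddModelEquiv m).trans (pgoOddEquiv m).symm))⟩,
      conj_of_matSim hF hι hn hD hD' ((key X e hT he).trans (key X' e' hT' he').symm)⟩
  · have hf' : ⇑(Forms.quadOdd m F₀) = quadFormOdd m F₀ := funext Forms.quadOdd_apply
    let G := QForm.gram ⇑(Forms.quadOdd m F₀) ⇑(Pi.basisFun F₀ (Unit ⊕ (Fin m ⊕ Fin m)))
    have hG : G.det ≠ 0 := QForm.det_gram_ne_zero (Forms.quadOdd_nondegenerate h2 m) _
    have key : ∀ (x : GL (Fin (k + 1)) F₀) (δ : F₀), x.valᵀ = δ • x.val → (δ = 1 ∨ δ = -1) →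
        MatSim x.val G := by
      intro x δ hx hδ
      have hs' := sym_of_odd h2 (r := m) hnm x hx hδ
      let N := ofMat eqv G hG
      have hNs : N.valᵀ = N.val := by
        rw [ofMat_val, Matrix.transpose_reindex, gram_symm]
      set c := x.val.det * N.val.det with hc
      have hc0 : c ≠ 0 := mul_ne_zero (GraphAut.det_ne_zero x) (GraphAut.det_ne_zero N)
      obtain ⟨P, hP⟩ := cong_of_det h2 x.val (c • N.val) hs' (by rw [Matrix.transpose_smul, hNs])
        (GraphAut.det_ne_zero x)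
        (by rw [Matrix.det_smul]; exact mul_ne_zero (pow_ne_zero _ hc0) (GraphAut.det_ne_zero N))
        ⟨c ^ (m + 1), by
          rw [Matrix.det_smul, Fintype.card_fin, mul_left_comm, ← hc, ← pow_succ, ← pow_add]
          congr 1
          omega⟩
      exact (MatSim.of_units P (Units.mk0 c hc0) hP).trans (matSim_ofMat eqv G hG)
    obtain ⟨c1⟩ := centralizerU_equiv hF hι hn hD (key X e hT he)
    refine ⟨⟨c1.trans ?_⟩, conj_of_matSim hF hι hn hD hD' ((key X e hT he).trans (key X' e' hT' he').symm)⟩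
    show projQuot (simM G) ≃* projQuot (Geo.quadSimilarityGroup (quadFormOdd m F₀))
    exact projQuotCongr (MulEquiv.refl _) (fun _ => rfl) (fun x => by rw [quadSim_eq h2 _ hf']; rfl)

end Cfsg.Agent.S2706
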