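import Cfsg.Statements.S2707
import Cfsg.Agent.Lib.AutPSU.GraphClasses
import Cfsg.Agent.Lib.GraphAut.Models

set_option autoImplicit false
open Cfsg

namespace Cfsg.Agent.S2707

open Cfsg.Agent Cfsg.Agent.GraphAut Cfsg.Agent.AutPSU Matrix

/-- Let T = PSU_n(q) with n = 2m ≥ 4 even and q odd, realised over the field F with q² elements, and G = Inndiag(T) the image of PGU_n(q). The involutory graph automorphisms of T fall into exactly three G-classes, with representatives whose centralizers in G are isomorphic respectively to the projective conformal symplectic group PGSp_n(F₀), the projective conformal orthogonal group of the plus-type form Σ xᵢ yᵢ, and that of a minus-type form Σ xᵢ yᵢ + z₁² + a z₁ z₂ + b z₂² (anisotropic binary part) in dimension n, all over a field F₀ with q elements. -/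
theorem result {F : Type*} [Field F] [Fintype F] {q : ℕ} (hodd : Odd q) (hF : Fintype.card F = q ^ 2) {n m : ℕ} (hm : 2 ≤ m) (hnm : n = 2 * m) (F₀ : Type*) [Field F₀] [Fintype F₀] (hF₀ : Fintype.card F₀ = q) :
    ∃ (γ₁ γ₂ γ₃ : MulAut (Cfsg.PSU n F q)) (a b : F₀), (∀ z₁ z₂ : F₀, z₁ ^ 2 + a * z₁ * z₂ + b * z₂ ^ 2 = 0 → z₁ = 0 ∧ z₂ = 0) ∧ Cfsg.IsGraphAutClassPSU γ₁ ∧ orderOf γ₁ = 2 ∧ Cfsg.IsGraphAutClassPSU γ₂ ∧ orderOf γ₂ = 2 ∧ Cfsg.IsGraphAutClassPSU γ₃ ∧ orderOf γ₃ = 2 ∧ ¬ Cfsg.IsConjUnder (Cfsg.inndiagPSU n F q) γ₁ γ₂ ∧ ¬ Cfsg.IsConjUnder (Cfsg.inndiagPSU n F q) γ₁ γ₃ ∧ ¬ Cfsg.IsConjUnder (Cfsg.inndiagPSU n F q) γ₂ γ₃ ∧ (∀ γ : MulAut (Cfsg.PSU n F q), Cfsg.IsGraphAutClassPSU γ → orderOf γ = 2 → Cfsg.IsConjUnder (Cfsg.inndiagPSU n F q) γ₁ γ ∨ Cfsg.IsConjUnder (Cfsg.inndiagPSU n F q) γ₂ γ ∨ Cfsg.IsConjUnder (Cfsg.inndiagPSU n F q) γ₃ γ) ∧ Nonempty (↥(Cfsg.inndiagPSU n F q ⊓ Subgroup.centralizer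 {γ₁}) ≃* Cfsg.PGSp m F₀) ∧ Nonempty (↥(Cfsg.inndiagPSU n F q ⊓ Subgroup.centralizer {γ₂}) ≃* Cfsg.PGO F₀ (Cfsg.quadFormPlus m F₀)) ∧ Nonempty (↥(Cfsg.inndiagPSU n F q ⊓ Subgroup.centralizer {γ₃}) ≃* Cfsg.PGO F₀ (Cfsg.quadFormMinus (m - 1) F₀ a b)) := by
  obtain ⟨k, rfl⟩ : ∃ k, n = k + 1 := ⟨n - 1, by omega⟩
  have hn : 3 ≤ k + 1 := by omega
  obtain ⟨ι, hι⟩ := exists_iota hF hF₀
  have h2 : (2 : F₀) ≠ 0 := two_ne_zero_of_odd (hF₀.symm ▸ hodd)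
  obtain ⟨α, hα⟩ := FiniteField.exists_nonsquare (F := F₀) (fun h : ringChar F₀ = 2 => h2 (by
    haveI : CharP F₀ 2 := h ▸ ringChar.charP F₀
    exact CharTwo.two_eq_zero))
  have hab := S2700.exists_aniso hα
  have hd := QForm.not_isSquare_disc h2 hab
  have hd0 : (0 : F₀) ^ 2 - 4 * -α ≠ 0 := fun h => hd ⟨0, by rw [h]; simp⟩
  let e : Fin m ⊕ Fin m ≃ Fin (k + 1) := Fintype.equivFinOfCardEq (by simp; omega)
  let e' : (Fin (m - 1) ⊕ Fin (m - 1)) ⊕ Fin 2 ≃ Fin (k + 1) := Fintype.equivFinOfCardEq (by simp; omega)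
  let Gp := QForm.gram ⇑(QForm.plusForm F₀ m) ⇑(Pi.basisFun F₀ (Fin m ⊕ Fin m))
  let Gm := QForm.gram ⇑(QForm.minusForm F₀ (m - 1) 0 (-α))
    ⇑(Pi.basisFun F₀ ((Fin (m - 1) ⊕ Fin (m - 1)) ⊕ Fin 2))
  have hdp : Gp.det = (-1) ^ m := QForm.det_gram_plus F₀ m
  have hdm : Gm.det = (-1) ^ m * ((0 : F₀) ^ 2 - 4 * -α) := by
    rw [show Gm.det = _ from QForm.det_gram_minus F₀ (m - 1) 0 (-α), Nat.sub_add_cancel (by omega : 1 ≤ m)]
  have hp1 : (-1 : F₀) ^ m ≠ 0 := pow_ne_zero _ (neg_ne_zero.2 one_ne_zero)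
  let M1 := ofMat e (Matrix.J (Fin m) F₀) (det_J_ne_zero m)
  let M2 := ofMat e Gp (by rw [hdp]; exact hp1)
  let M3 := ofMat e' Gm (by rw [hdm]; exact mul_ne_zero hp1 hd0)
  have ht1 : M1.valᵀ = (-1 : F₀) • M1.val := by
    rw [ofMat_val, Matrix.transpose_reindex, Matrix.J_transpose, neg_one_smul]
    rfl
  have ht2 : M2.valᵀ = (1 : F₀) • M2.val := by
    rw [one_smul, ofMat_val, Matrix.transpose_reindex, gram_symm]
  have ht3 : M3.valᵀ = (1 : F₀) • M3.val := by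
    rw [one_smul, ofMat_val, Matrix.transpose_reindex, gram_symm]
  have hne : ∀ g : GL (Fin (k + 1)) F₀, g.valᵀ = (1 : F₀) • g.val → ¬ MatSim M1.val g.val := by
    intro g hg h
    have hh := h.transpose_eq ht1
    rw [hg, ← sub_eq_zero, ← sub_smul, smul_eq_zero] at hh
    rcases hh with hh | hh
    · exact h2 (by linear_combination hh)
    · exact GraphAut.det_ne_zero g (by rw [hh, Matrix.det_zero])
  obtain ⟨g1, b1, hD1⟩ := exists_of_matrix hF hι M1.val (GraphAut.det_ne_zero M1) (Or.inr rfl) ht1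
  obtain ⟨g2, b2, hD2⟩ := exists_of_matrix hF hι M2.val (GraphAut.det_ne_zero M2) (Or.inl rfl) ht2
  obtain ⟨g3, b3, hD3⟩ := exists_of_matrix hF hι M3.val (GraphAut.det_ne_zero M3) (Or.inl rfl) ht3
  refine ⟨gautU hF g1, gautU hF g2, gautU hF g3, 0, -α, hab, isGraph_gautU hF hn g1,
    orderOf_gautU hF hn g1 (by simp) hD1.hg, isGraph_gautU hF hn g2, orderOf_gautU hF hn g2 (by simp) hD2.hg,
    isGraph_gautU hF hn g3, orderOf_gautU hF hn g3 (by simp) hD3.hg, ?_, ?_, ?_, ?_, ?_, ?_, ?_⟩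
  · exact fun h => hne M2 ht2 (matSim_of_conj hF hι hn hD1 hD2 h)
  · exact fun h => hne M3 ht3 (matSim_of_conj hF hι hn hD1 hD3 h)
  · intro h
    obtain ⟨P, Q, c, hPQ, -, hP⟩ := matSim_of_conj hF hι hn hD2 hD3 h
    have hh := congrArg Matrix.det hP
    rw [Matrix.det_smul, Fintype.card_fin, Matrix.det_mul, Matrix.det_mul, Matrix.det_transpose, ofMat_val,
      ofMat_val, Matrix.det_reindex_self, Matrix.det_reindex_self, hdp, hdm,
      show (c : F₀) ^ (k + 1) = (c : F₀) ^ m * (c : F₀) ^ m by rw [← pow_add, hnm, two_mul]] at hh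
    refine hd ⟨P.det / (c : F₀) ^ m, ?_⟩
    refine mul_left_cancel₀ (mul_ne_zero (pow_ne_zero m c.ne_zero) (pow_ne_zero m c.ne_zero)) ?_
    have hh' : P.det * P.det = (c : F₀) ^ m * (c : F₀) ^ m * (0 ^ 2 - 4 * -α) :=
      mul_left_cancel₀ hp1 (by linear_combination hh)
    field_simp
    linear_combination -hh'
  · intro γ hγ hγ2
    obtain ⟨g, ε, rfl, hε, hg⟩ := exists_gautU_of_invol hF hn γ hγ hγ2
    obtain ⟨b, M, hD⟩ := exists_desc hF hι g hε hg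
    obtain ⟨e₀, he₀, -, hT⟩ := hD.eps hF
    let X := GeneralLinearGroup.mkOfDetNeZero M (hD.det_ne_zero hF)
    rcases he₀ with rfl | rfl
    · have hs : X.valᵀ = X.val := by rwa [one_smul] at hT
      by_cases hsq : IsSquare (X.val.det * (-1) ^ m)
      · exact Or.inr (Or.inl (conj_of_matSim hF hι hn hD2 hD ((matSim_ofMat e _ _).trans
          (S2700.sym_matSim h2 X hs _ e hdp hp1 hsq).symm)))
      · refine Or.inr (Or.inr (conj_of_matSim hF hι hn hD3 hD ((matSim_ofMat e' _ _).trans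
          (S2700.sym_matSim h2 X hs _ e' hdm (mul_ne_zero hp1 hd0) ?_).symm)))
        rw [← mul_assoc, QForm.isSquare_mul_nonsquare_iff (mul_ne_zero (GraphAut.det_ne_zero X) hp1) hd]
        exact hsq
    · rw [neg_one_smul] at hT
      obtain ⟨j, hj, hsim⟩ := alt_matSim M (hD.det_ne_zero hF) (alt_of_skew h2 hT)
      rw [Fintype.card_fin] at hj
      obtain rfl : j = m := by omega
      exact Or.inl (conj_of_matSim hF hι hn hD1 hD ((matSim_ofMat e _ _).trans hsim.symm))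
  · obtain ⟨c⟩ := centralizerU_equiv hF hι hn hD1 (matSim_ofMat e _ _)
    exact ⟨c⟩
  · obtain ⟨c⟩ := centralizerU_equiv hF hι hn hD2 (matSim_ofMat e _ _)
    obtain ⟨c'⟩ := S2700.pgo_equiv h2 (QForm.plusForm F₀ m) (QForm.coe_plusForm F₀ m)
    exact ⟨c.trans c'⟩
  · obtain ⟨c⟩ := centralizerU_equiv hF hι hn hD3 (matSim_ofMat e' _ _)
    obtain ⟨c'⟩ := S2700.pgo_equiv h2 (QForm.minusForm F₀ (m - 1) 0 (-α)) (QForm.coe_minusForm F₀ (m - 1) 0 (-α))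
    exact ⟨c.trans c'⟩

end Cfsg.Agent.S2707
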