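import Cfsg.Statements.S2708
import Cfsg.Agent.Lib.AutPSU.GraphClasses
import Cfsg.Agent.Lib.GraphAut.Models

set_option autoImplicit false
open Cfsg

namespace Cfsg.Agent.S2708

open Cfsg.Agent Cfsg.Agent.GraphAut Cfsg.Agent.AutPSU Matrix

/-- Let T = PSU_n(q) with n = 2m ≥ 4 even and q even, realised over the field F (of characteristic 2) with q² elements, and G = Inndiag(T) the image of PGU_n(q). The involutory graph automorphisms of T fall into exactly two G-classes, with representatives whose centralizers in G are isomorphic respectively to the symplectic group Sp_n(F₀) and to the centralizer in Sp_n(F₀) of a symplectic transvection, F₀ a field with q elements. -/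
theorem result {F : Type*} [Field F] [Fintype F] [CharP F 2] {q : ℕ} (hF : Fintype.card F = q ^ 2) {n m : ℕ} (hm : 2 ≤ m) (hnm : n = 2 * m) (F₀ : Type*) [Field F₀] [Fintype F₀] (hF₀ : Fintype.card F₀ = q) :
    ∃ (γ₁ γ₃ : MulAut (Cfsg.PSU n F q)) (t : ↥(Matrix.symplecticGroup (Fin m) F₀)), Cfsg.IsTransvection (t : Matrix (Fin m ⊕ Fin m) (Fin m ⊕ Fin m) F₀) ∧ Cfsg.IsGraphAutClassPSU γ₁ ∧ orderOf γ₁ = 2 ∧ Cfsg.IsGraphAutClassPSU γ₃ ∧ orderOf γ₃ = 2 ∧ ¬ Cfsg.IsConjUnder (Cfsg.inndiagPSU n F q) γ₁ γ₃ ∧ (∀ γ : MulAut (Cfsg.PSU n F q), Cfsg.IsGraphAutClassPSU γ → orderOf γ = 2 → Cfsg.IsConjUnder (Cfsg.inndiagPSU n F q) γ₁ γ ∨ Cfsg.IsConjUnder (Cfsg.inndiagPSU n F q) γ₃ γ) ∧ Nonempty (↥(Cfsg.inndiagPSU n F q ⊓ Subgroup.centralizer {γ₁}) ≃* ↥(Matrix.symplecticGroup (Fin m) F₀)) ∧ Nonempty (↥(Cfsg.inndiagPSU n F q ⊓ Subgroup.centralizer {γ₃}) ≃* ↥(Subgroup.centralizer ({t} : Set ↥(Matrix.symplecticGroup (Fin m) F₀)))) := by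
  obtain ⟨k, rfl⟩ : ∃ k, n = k + 1 := ⟨n - 1, by omega⟩
  have hn : 3 ≤ k + 1 := by omega
  obtain ⟨ι, hι⟩ := exists_iota hF hF₀
  haveI : CharP F₀ 2 := ι.charP ι.injective 2
  let a : Fin m := ⟨0, by omega⟩
  haveI : Nonempty (Fin m ⊕ Fin m) := ⟨.inl a⟩
  let e : Fin m ⊕ Fin m ≃ Fin (k + 1) := Fintype.equivFinOfCardEq (by simp; omega)
  let M1 := ofMat e (Matrix.J (Fin m) F₀) (det_J_ne_zero m)
  let M3 := ofMat e (evenModel (F := F₀) a) (evenModel_det a)
  have ht1 : M1.valᵀ = (1 : F₀) • M1.val := by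
    rw [one_smul, ofMat_val, Matrix.transpose_reindex, Matrix.J_transpose]
    congr 1
    ext i j
    exact CharTwo.neg_eq _
  have ht3 : M3.valᵀ = (1 : F₀) • M3.val := by
    rw [one_smul, ofMat_val, Matrix.transpose_reindex, evenModel_transpose]
  obtain ⟨g1, b1, hD1⟩ := exists_of_matrix hF hι M1.val (GraphAut.det_ne_zero M1) (Or.inl rfl) ht1
  obtain ⟨g3, b3, hD3⟩ := exists_of_matrix hF hι M3.val (GraphAut.det_ne_zero M3) (Or.inl rfl) ht3
  have h10 : (ι (1 : F₀)) ≠ 0 := by simp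
  refine ⟨gautU hF g1, gautU hF g3, transv a, transv_isTransvection a, isGraph_gautU hF hn g1,
    orderOf_gautU hF hn g1 h10 hD1.hg, isGraph_gautU hF hn g3, orderOf_gautU hF hn g3 h10 hD3.hg, ?_, ?_, ?_, ?_⟩
  · intro hcj
    have h := matSim_of_conj hF hι hn hD1 hD3 hcj
    obtain ⟨v, hv⟩ := evenModel_nonalt (F := F₀) a
    exact hv (MatSim.self_eq_zero ((matSim_ofMat e _ _).symm.trans (h.trans (matSim_ofMat e _ _))) sp_alt v)
  · intro γ hγ hγ2
    obtain ⟨g, ε, rfl, hε, hg⟩ := exists_gautU_of_invol hF hn γ hγ hγ2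
    obtain ⟨b, M, hD⟩ := exists_desc hF hι g hε hg
    obtain ⟨e₀, he₀, -, hT⟩ := hD.eps hF
    have hs : Mᵀ = M := by
      rcases he₀ with rfl | rfl
      · rwa [one_smul] at hT
      · rwa [CharTwo.neg_eq, one_smul] at hT
    have hd := hD.det_ne_zero hF
    by_cases ha : ∀ v, v ⬝ᵥ (M *ᵥ v) = 0
    · obtain ⟨j, hj, hsim⟩ := alt_matSim M hd ha
      rw [Fintype.card_fin] at hj
      obtain rfl : j = m := by omega
      exact Or.inl (conj_of_matSim hF hι hn hD1 hD ((matSim_ofMat e _ _).trans hsim.symm))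
    · push Not at ha
      exact Or.inr (conj_of_matSim hF hι hn hD3 hD ((matSim_ofMat e _ _).trans
        (nonalt_matSim (evenModel_transpose a) (evenModel_det a) (evenModel_nonalt a) hs hd ha (by simp; omega))))
  · obtain ⟨c⟩ := centralizerU_equiv hF hι hn hD1 (matSim_ofMat e _ _)
    exact ⟨c.trans ((isoMEquiv _ (fun h => det_J_ne_zero (F := F₀) m
      (by rw [h, Matrix.det_zero]))).symm.trans (spIsoEquiv m).symm)⟩
  · obtain ⟨c⟩ := centralizerU_equiv hF hι hn hD3 (matSim_ofMat e _ _)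
    exact ⟨c.trans ((isoMEquiv _ (fun h => evenModel_det (F := F₀) a
      (by rw [h, Matrix.det_zero]))).symm.trans (evenModelEquiv a))⟩

end Cfsg.Agent.S2708
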