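import Cfsg.Statements.S2709
import Cfsg.Agent.Lib.AutPSU.GraphClasses
import Cfsg.Agent.Lib.GraphAut.Models

set_option autoImplicit false
open Cfsg

namespace Cfsg.Agent.S2709

open Cfsg.Agent Cfsg.Agent.GraphAut Cfsg.Agent.AutPSU Matrix

/-- Let T = PSU_n(q) be simple (n ≥ 3, (n,q) ≠ (3,2), q = p^f), realised over the field F with q² elements, G = Inndiag(T) the image of PGU_n(q), and γ an involutory graph automorphism of T. The G-class of γ is the union of exactly c T-classes, where: if n is even and q is odd, c = gcd(n/2, q + 1) when C_G(γ) is isomorphic to PGSp_n(F₀) for a field F₀ with q elements (symplectic type) and c = gcd(n, q + 1)/2 otherwise; and c = gcd(n, q + 1) when n is odd or q is even. -/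
theorem result {F : Type*} [Field F] [Fintype F] {p f q : ℕ} [Fact p.Prime] (hq : q = p ^ f) (hf : 1 ≤ f) (hF : Fintype.card F = q ^ 2) {n : ℕ} (hn : 3 ≤ n) (hs : ¬ (n = 3 ∧ q = 2)) (F₀ : Type*) [Field F₀] [Fintype F₀] (hF₀ : Fintype.card F₀ = q) (γ : MulAut (Cfsg.PSU n F q)) (hγ : Cfsg.IsGraphAutClassPSU γ) (hγ2 : orderOf γ = 2) :
    ((Even n ∧ Odd q ∧ Nonempty (↥(Cfsg.inndiagPSU n F q ⊓ Subgroup.centralizer {γ}) ≃* Cfsg.PGSp (n / 2) F₀)) → Cfsg.splitClassCount (Cfsg.inndiagPSU n F q) (Cfsg.Inn (Cfsg.PSU n F q)) γ = Nat.gcd (n / 2) (q + 1)) ∧ ((Even n ∧ Odd q ∧ ¬ Nonempty (↥(Cfsg.inndiagPSU n F q ⊓ Subgroup.centralizer {γ}) ≃* Cfsg.PGSp (n / 2) F₀)) → Cfsg.splitClassCount (Cfsg.inndiagPSU n F q) (Cfsg.Inn (Cfsg.PSU n F q)) γ = Nat.gcd n (q + 1) / 2) ∧ (¬ (Even n ∧ Odd q) → Cfsg.splitClassCount (Cfsg.inndiagPSU n F q) (Cfsg.Inn (Cfsg.PSU n F q)) γ = Nat.gcd n (q + 1)) := by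
  obtain ⟨k, rfl⟩ : ∃ k, n = k + 1 := ⟨n - 1, by omega⟩
  obtain ⟨ι, hι⟩ := exists_iota hF hF₀
  obtain ⟨g, ε, rfl, hε, hg⟩ := exists_gautU_of_invol hF hn γ hγ hγ2
  obtain ⟨b, M, hD⟩ := exists_desc hF hι g hε hg
  obtain ⟨e₀, he₀, -, hT⟩ := hD.eps hF
  rw [split_gautU hF (by omega)]
  have hc3 : ¬ (Even (k + 1) ∧ Odd q) → (detCent hF g).index = Nat.gcd (k + 1) (q + 1) := by
    intro h
    rw [not_and_or] at h
    rcases Nat.even_or_odd (k + 1) with he | ⟨r, hr⟩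
    · have hq2 : ¬ Odd q := h.resolve_left (not_not_intro he)
      haveI : CharP F 2 := by
        rcases (Fact.out : p.Prime).eq_two_or_odd' with rfl | hp
        · exact charP_of_card_eq_prime_pow (f := f * 2) (by rw [hF, hq, ← pow_mul])
        · exact absurd (hq ▸ hp.pow) hq2
      rw [detCent_char2 hF hι hn hD, index_range_powU hF]
    · rw [detCent_odd hF hι hn hD hr, index_range_powU hF]
  refine ⟨?_, ?_, hc3⟩
  all_goals
    rintro ⟨he, hqo, hnc⟩
    have h2 : (2 : F₀) ≠ 0 := two_ne_zero_of_odd (hF₀.symm ▸ hqo)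
    obtain ⟨j, hj⟩ := he
  · rcases he₀ with rfl | rfl
    · exfalso
      rw [one_smul] at hT
      obtain ⟨c⟩ := hnc
      obtain ⟨c'⟩ := centralizerU_equiv hF hι hn hD (MatSim.refl M)
      rw [show (k + 1) / 2 = j by omega] at c
      exact sym_not_PGSp h2 (by omega) (by omega) (GeneralLinearGroup.mkOfDetNeZero M (hD.det_ne_zero hF)) hT
        ⟨c'.symm.trans c⟩
    · rw [neg_one_smul] at hT
      obtain ⟨i, hi, hsim⟩ := alt_matSim M (hD.det_ne_zero hF) (alt_of_skew h2 hT)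
      rw [Fintype.card_fin] at hi
      rw [detCent_alt hF hι hn hD hi hsim, index_range_powU hF, show (k + 1) / 2 = i by omega]
  · rcases he₀ with rfl | rfl
    · rw [one_smul] at hT
      rw [← index_detCent_sym hF hι hn hD hqo h2 (k := j) (by omega) hT, Nat.mul_div_cancel_left _ two_pos]
    · exfalso
      rw [neg_one_smul] at hT
      obtain ⟨i, hi, hsim⟩ := alt_matSim M (hD.det_ne_zero hF) (alt_of_skew h2 hT)
      rw [Fintype.card_fin] at hi
      obtain ⟨c⟩ := centralizerU_equiv hF hι hn hD hsim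
      refine hnc ⟨c.trans ?_⟩
      rw [show (k + 1) / 2 = i by omega]
      exact MulEquiv.refl _

end Cfsg.Agent.S2709
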