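import Cfsg.Statements.S2710
import Cfsg.Agent.Lib.AutPSU.GraphClasses
import Cfsg.Agent.Lib.GraphAut.Models

set_option autoImplicit false
open Cfsg

namespace Cfsg.Agent.S2710

open Cfsg.Agent Cfsg.Agent.GraphAut Cfsg.Agent.AutPSU Matrix

/-- Let T = PSU_n(q) with n ≥ 4 divisible by 4 (n = 2m) and q odd, realised over the field F with q² elements, G = Inndiag(T) the image of PGU_n(q), and φ the standard field automorphism of T attached to the q-th power map of F (it induces inverse-transpose on the unitary matrices and is a graph automorphism). Its centralizer in G is isomorphic to the projective conformal orthogonal group of the plus-type form Σ xᵢ yᵢ in dimension n over a field F₀ with q elements. (Dimensions n ≡ 2 (mod 4) are not covered.) -/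
theorem result {F : Type*} [Field F] [Fintype F] {q : ℕ} (hodd : Odd q) (hF : Fintype.card F = q ^ 2) {n m : ℕ} (hm : 2 ≤ m) (hnm : n = 2 * m) (h4 : 4 ∣ n) (F₀ : Type*) [Field F₀] [Fintype F₀] (hF₀ : Fintype.card F₀ = q) (σ : F ≃+* F) (hσ : ∀ a : F, σ a = a ^ q) (φ : MulAut (Cfsg.PSU n F q)) (hφ : Cfsg.IsFieldAutPSUOf σ φ) :
    Nonempty (↥(Cfsg.inndiagPSU n F q ⊓ Subgroup.centralizer {φ}) ≃* Cfsg.PGO F₀ (Cfsg.quadFormPlus m F₀)) := by
  obtain ⟨k, rfl⟩ : ∃ k, n = k + 1 := ⟨n - 1, by omega⟩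
  have hn : 3 ≤ k + 1 := by omega
  obtain ⟨ι, hι⟩ := exists_iota hF hF₀
  have h2 : (2 : F₀) ≠ 0 := two_ne_zero_of_odd (hF₀.symm ▸ hodd)
  obtain rfl : σ = qAut hF := RingEquiv.ext hσ
  obtain rfl : φ = gautU hF 1 := by rw [eq_fieldU hφ, gautU, map_one, one_mul]
  have hg : ((1 : ↥(GU (k + 1) F q)) : GL (Fin (k + 1)) F).val *
      ((1 : ↥(GU (k + 1) F q)) : GL (Fin (k + 1)) F).val.map (qAut hF) = (1 : F) • 1 := by
    simp [Matrix.map_one _ (map_zero (qAut hF)) (map_one (qAut hF))]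
  obtain ⟨b, M, hD⟩ := exists_desc hF hι 1 (Or.inl rfl) hg
  have hT : Mᵀ = M := by rw [hD.transpose hF (map_one ι), one_smul]
  obtain ⟨hk, hd0, hdfix⟩ := twist_spec hF (e := (1 : F)) (Or.inl rfl)
  set κ := (twist hF (1 : F)).1
  set δ := (twist hF (1 : F)).2
  set τ := qAut hF
  -- the discriminant is a square
  have hbd : κ ^ (k + 1) * τ b.val.det = b.val.det := by
    have := congrArg Matrix.det hD.hb
    rw [OneMemClass.coe_one, Units.val_one, Matrix.one_mul, Matrix.det_smul, Fintype.card_fin,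
      ← RingEquiv.mapMatrix_apply, ← RingEquiv.map_det] at this
    exact this
  have hκ0 : κ ≠ 0 := fun h => by rw [h, zero_mul] at hk; exact zero_ne_one hk
  obtain ⟨x, hx⟩ : ∃ x : F₀, ι x = b.val.det / κ ^ m := by
    refine (hι _).1 ?_
    have h1 : τ κ = κ⁻¹ := eq_inv_of_mul_eq_one_right hk
    rw [map_div₀, map_pow, h1, inv_pow, div_inv_eq_mul, eq_div_iff (pow_ne_zero _ hκ0), mul_assoc, ← pow_add,
      ← two_mul, ← hnm, mul_comm]
    exact hbd
  obtain ⟨d, hd⟩ : ∃ d : F₀, ι d = δ := (hι _).1 (by rw [hdfix, one_mul])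
  have hdet : M.det = (d ^ m * x) * (d ^ m * x) := by
    refine ι.injective ?_
    rw [RingHom.map_det, RingHom.mapMatrix_apply, hD.hM, Matrix.det_smul, Fintype.card_fin, Matrix.det_mul,
      Matrix.det_transpose, ← RingEquiv.mapMatrix_apply, ← RingEquiv.map_det, map_mul, map_mul, map_pow, hd, hx]
    have hτb : τ b.val.det = b.val.det / κ ^ (k + 1) := by
      rw [eq_div_iff (pow_ne_zero _ hκ0), mul_comm]; exact hbd
    rw [hτb, show δ ^ (k + 1) = δ ^ m * δ ^ m by rw [← pow_add, hnm, two_mul],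
      show κ ^ (k + 1) = κ ^ m * κ ^ m by rw [← pow_add, hnm, two_mul]]
    field_simp
  have hm2 : Even m := by
    obtain ⟨c, hc⟩ := h4
    exact ⟨c, by omega⟩
  obtain ⟨c⟩ := centralizerU_equiv hF hι hn hD
    (S2700.sym_matSim h2 (GeneralLinearGroup.mkOfDetNeZero M (hD.det_ne_zero hF)) hT (QForm.plusForm F₀ m)
      (Fintype.equivFinOfCardEq (by simp; omega)) (QForm.det_gram_plus F₀ m) (by simp) (by
        show IsSquare (M.det * (-1) ^ m)
        rw [hm2.neg_one_pow, mul_one, hdet]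
        exact ⟨_, rfl⟩))
  obtain ⟨c'⟩ := S2700.pgo_equiv h2 (QForm.plusForm F₀ m) (QForm.coe_plusForm F₀ m)
  exact ⟨c.trans c'⟩

end Cfsg.Agent.S2710
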