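import Cfsg.Statements.S2718
import Cfsg.Agent.Lib.ClassicalSimple.GraphSplit

set_option autoImplicit false
open Cfsg
open Cfsg.Agent

namespace Cfsg.Agent.S2718

set_option maxHeartbeats 1600000 in
/-- Let T = PΩ⁺_{2m}(F) with m ≥ 4 and |F| = q odd, G = Inndiag(T), and γ an involutory graph automorphism of T induced by a similarity (one interchanging the two classes of maximal totally singular subspaces). Then the G-class of γ is either a single T-class or the union of exactly two T-classes, and it is the union of two unless m is odd and q ≡ 3 (mod 4). -/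
theorem result {F : Type*} [Field F] [Fintype F] (hodd : Odd (Fintype.card F)) {m : ℕ} (hm : 4 ≤ m) (γ : MulAut (Cfsg.POmega F (Cfsg.quadFormPlus m F))) (hγ : Cfsg.IsSimilarityGraphAutPOmegaPlus m γ) (hγ2 : orderOf γ = 2) :
    (Cfsg.splitClassCount (Cfsg.inndiagPOmegaPlus m F) (Cfsg.Inn (Cfsg.POmega F (Cfsg.quadFormPlus m F))) γ = 1 ∨ Cfsg.splitClassCount (Cfsg.inndiagPOmegaPlus m F) (Cfsg.Inn (Cfsg.POmega F (Cfsg.quadFormPlus m F))) γ = 2) ∧ (¬ (Odd m ∧ Fintype.card F % 4 = 3) → Cfsg.splitClassCount (Cfsg.inndiagPOmegaPlus m F) (Cfsg.Inn (Cfsg.POmega F (Cfsg.quadFormPlus m F))) γ = 2) := by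
  classical
  let I : (f : (Fin m ⊕ Fin m → F) → F) → Subgroup (MulAut (POmega F f)) := fun f =>
    autSubgroupOf fun β => ∃ g : GL (Fin m ⊕ Fin m) F, g ∈ Geo.quadSimilarityGroup (F := F) f ∧
      PreservesSingularClasses f (g : Matrix (Fin m ⊕ Fin m) (Fin m ⊕ Fin m) F) ∧
      IsInducedBySemilinearPOmega f g (RingEquiv.refl F) β
  suffices key : ∀ f, ⇑(QForm.plusForm F m) = f → ∀ γ : MulAut (POmega F f),
      (∃ g : GL (Fin m ⊕ Fin m) F, g ∈ Geo.quadSimilarityGroup (F := F) f ∧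
        ¬ PreservesSingularClasses f (g : Matrix (Fin m ⊕ Fin m) (Fin m ⊕ Fin m) F) ∧
        IsInducedBySemilinearPOmega f g (RingEquiv.refl F) γ) → orderOf γ = 2 →
      (splitClassCount (I f) (Inn (POmega F f)) γ = 1 ∨ splitClassCount (I f) (Inn (POmega F f)) γ = 2) ∧
        (¬ (Odd m ∧ Fintype.card F % 4 = 3) → splitClassCount (I f) (Inn (POmega F f)) γ = 2) from
    key _ (QForm.coe_plusForm F m) γ hγ hγ2
  rintro f rfl γ ⟨g, hg, hnp, hi⟩ h2
  have E := ClassicalSimple.evenForm_plus hodd (by omega : 3 ≤ m)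
  obtain ⟨T⟩ := ClassicalSimple.twist_plus E
  have hI : I ⇑(QForm.plusForm F m) = ClassicalSimple.innDiag E := ClassicalSimple.inndiag_plus E
  clear_value I
  rw [hI]
  obtain rfl := (ClassicalSimple.induced_iff _ hg).1 hi
  have hgg : (⟨g, hg⟩ : ClassicalSimple.GO (QForm.plusForm F m)) * ⟨g, hg⟩ ∈
      ClassicalSimple.scalarSub (QForm.plusForm F m) := by
    rw [← ClassicalSimple.ker_simAut _ E.nondeg E.five, MonoidHom.mem_ker, map_mul, ← pow_two, ← h2]
    exact pow_orderOf_eq_one _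
  have hd := (ClassicalSimple.dsign_pm E ⟨g, hg⟩).resolve_left fun e =>
    hnp ((ClassicalSimple.preserves_plus E ⟨g, hg⟩).2 e)
  obtain ⟨h12, hneg⟩ := ClassicalSimple.graph_split E T ⟨g, hg⟩ hgg hd
  exact ⟨h12, fun h => hneg ((ClassicalSimple.negOne_plus hodd).2 h)⟩

end Cfsg.Agent.S2718
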