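import Cfsg.Statements.S2719
import Cfsg.Agent.Lib.AutPOmega.SplitMinus

set_option autoImplicit false
open Cfsg
open Cfsg.Agent

namespace Cfsg.Agent.S2719

set_option maxHeartbeats 1600000 in
/-- Let T = PΩ⁻_{2m+2}(F) with m ≥ 3 and |F| = q odd (form with anisotropic binary part z₁² + a z₁ z₂ + b z₂²), G = Inndiag(T), and γ an involutory graph automorphism of T (an automorphism in the image of the semisimilarity group, not inner-diagonal, of order 2). Then the G-class of γ is either a single T-class or the union of exactly two T-classes, and it is the union of two unless m is even and q ≡ 1 (mod 4). -/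
theorem result {F : Type*} [Field F] [Fintype F] (hodd : Odd (Fintype.card F)) {m : ℕ} (hm : 3 ≤ m) (a b : F) (hab : (∀ z₁ z₂ : F, z₁ ^ 2 + a * z₁ * z₂ + b * z₂ ^ 2 = 0 → z₁ = 0 ∧ z₂ = 0)) (γ : MulAut (Cfsg.POmega F (Cfsg.quadFormMinus m F a b))) (hγ : Cfsg.IsGraphAutClassPOmegaMinus m a b γ) (hγ2 : orderOf γ = 2) :
    (Cfsg.splitClassCount (Cfsg.inndiagPOmegaMinus m F a b) (Cfsg.Inn (Cfsg.POmega F (Cfsg.quadFormMinus m F a b))) γ = 1 ∨ Cfsg.splitClassCount (Cfsg.inndiagPOmegaMinus m F a b) (Cfsg.Inn (Cfsg.POmega F (Cfsg.quadFormMinus m F a b))) γ = 2) ∧ (¬ (Even m ∧ Fintype.card F % 4 = 1) → Cfsg.splitClassCount (Cfsg.inndiagPOmegaMinus m F a b) (Cfsg.Inn (Cfsg.POmega F (Cfsg.quadFormMinus m F a b))) γ = 2) := by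
  classical
  let I : (f : ((Fin m ⊕ Fin m) ⊕ Fin 2 → F) → F) → Subgroup (MulAut (POmega F f)) := fun f =>
    autSubgroupOf fun β => ∃ g : GL ((Fin m ⊕ Fin m) ⊕ Fin 2) F, g ∈ Geo.quadSimilarityGroup (F := F) f ∧
      PreservesSingularClassesMinus m a b (g : Matrix ((Fin m ⊕ Fin m) ⊕ Fin 2) ((Fin m ⊕ Fin m) ⊕ Fin 2) F) ∧
      IsInducedBySemilinearPOmega f g (RingEquiv.refl F) β
  suffices key : ∀ f, ⇑(QForm.minusForm F m a b) = f → ∀ γ : MulAut (POmega F f),
      γ ∉ I f → orderOf γ = 2 →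
      (splitClassCount (I f) (Inn (POmega F f)) γ = 1 ∨ splitClassCount (I f) (Inn (POmega F f)) γ = 2) ∧
        (¬ (Even m ∧ Fintype.card F % 4 = 1) → splitClassCount (I f) (Inn (POmega F f)) γ = 2) from
    key _ (QForm.coe_minusForm F m a b) γ hγ.2.1 hγ2
  rintro f rfl γ hnI h2
  have E := ClassicalSimple.evenForm_minus (a := a) (b := b) (m := m) hodd (by omega) hab
  obtain ⟨T⟩ := ClassicalSimple.twist_minus E hab
  have hI : I ⇑(QForm.minusForm F m a b) = ClassicalSimple.innDiag E := ClassicalSimple.inndiag_minus E hab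
  clear_value I
  rw [hI] at hnI ⊢
  have hγγ : γ * γ = 1 := (pow_two γ).symm.trans (orderOf_dvd_iff_pow_eq_one.1 (dvd_of_eq h2))
  have hpgo := AutPOmega.mem_pgo_of_sq_minus hm hab hodd γ hγγ
  rw [ClassicalSimple.pgoAut_eq] at hpgo
  obtain ⟨g, rfl⟩ := hpgo
  have hgg : g * g ∈ ClassicalSimple.scalarSub (QForm.minusForm F m a b) := by
    rw [← ClassicalSimple.ker_simAut _ E.nondeg E.five, MonoidHom.mem_ker, map_mul, hγγ]
  have hd := (ClassicalSimple.dsign_pm E g).resolve_left fun e => hnI ⟨g, e, rfl⟩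
  obtain ⟨h12, hneg⟩ := ClassicalSimple.graph_split E T g hgg hd
  refine ⟨h12, fun h => ?_⟩
  have hq : Fintype.card F % 2 = 1 := Nat.odd_iff.1 hodd
  by_cases hN : ClassicalSimple.NegOneOmega (QForm.minusForm F m a b)
  · exact hneg hN
  refine AutPOmega.split_two_even E T hN ?_ g hgg hd
  rw [ClassicalSimple.negOne_minus hodd hab] at hN
  rw [Nat.even_add_one]
  intro hev
  rcases (show Fintype.card F % 4 = 1 ∨ Fintype.card F % 4 = 3 by omega) with h4 | h4
  · exact h ⟨hev, h4⟩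
  · exact hN ⟨hev, h4⟩

end Cfsg.Agent.S2719
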