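import Cfsg.Statements.S2720
import Cfsg.Agent.Lib.SemisimpleOrth.Classes
import Cfsg.Agent.Lib.ClassicalSimple.PGOModels

set_option autoImplicit false
open Cfsg
open Cfsg.Agent

namespace Cfsg.Agent.S2720

/-- Let T = PΩ⁺_{2m}(F) (m ≥ 4, F finite of odd characteristic p), G = Inndiag(T), and let x be an automorphism of T induced by a similarity of the form (an element of the image G̃ of the conformal orthogonal group) of odd prime order r ≠ p. Then the T-class, the PSO-class and the G-class of x coincide (conjugacy under inner automorphisms, under the image of the special orthogonal group, and under G), and the PO-class of x coincides with its G̃-class. (In characteristic 2 the first equality fails: there the special orthogonal group is the full orthogonal group and some such classes split.) -/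
theorem result {F : Type*} [Field F] [Fintype F] {p : ℕ} [Fact p.Prime] [CharP F p] (hp : p ≠ 2) {m : ℕ} (hm : 4 ≤ m) (x : MulAut (Cfsg.POmega F (Cfsg.quadFormPlus m F))) (hx : x ∈ Cfsg.pgoAut F (Cfsg.quadFormPlus m F)) {r : ℕ} (hr : r.Prime) (hro : Odd r) (hrp : r ≠ p) (hxr : orderOf x = r) :
    (∀ y : MulAut (Cfsg.POmega F (Cfsg.quadFormPlus m F)), (Cfsg.IsConjUnder (Cfsg.Inn (Cfsg.POmega F (Cfsg.quadFormPlus m F))) x y ↔ Cfsg.IsConjUnder (Cfsg.inndiagPOmegaPlus m F) x y) ∧ (Cfsg.IsConjUnder (Cfsg.psoAut F (Cfsg.quadFormPlus m F)) x y ↔ Cfsg.IsConjUnder (Cfsg.inndiagPOmegaPlus m F) x y)) ∧ (∀ y : MulAut (Cfsg.POmega F (Cfsg.quadFormPlus m F)), Cfsg.IsConjUnder (Cfsg.poAut F (Cfsg.quadFormPlus m F)) x y ↔ Cfsg.IsConjUnder (Cfsg.pgoAut F (Cfsg.quadFormPlus m F)) x y) := by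
  classical
  let I : (f : (Fin m ⊕ Fin m → F) → F) → Subgroup (MulAut (POmega F f)) := fun f =>
    autSubgroupOf fun β => ∃ g : GL (Fin m ⊕ Fin m) F, g ∈ Geo.quadSimilarityGroup (F := F) f ∧
      PreservesSingularClasses f (g : Matrix (Fin m ⊕ Fin m) (Fin m ⊕ Fin m) F) ∧
      IsInducedBySemilinearPOmega f g (RingEquiv.refl F) β
  suffices key : ∀ f, ⇑(QForm.plusForm F m) = f → ∀ x : MulAut (POmega F f), x ∈ pgoAut F f → orderOf x = r →
      (∀ y, (IsConjUnder (Inn (POmega F f)) x y ↔ IsConjUnder (I f) x y) ∧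
        (IsConjUnder (psoAut F f) x y ↔ IsConjUnder (I f) x y)) ∧
      ∀ y, IsConjUnder (poAut F f) x y ↔ IsConjUnder (pgoAut F f) x y from
    key _ (QForm.coe_plusForm F m) x hx hxr
  rintro f rfl x hx hxr
  have hodd : Odd (Fintype.card F) := Nat.odd_iff.2 (FiniteField.odd_card_of_char_ne_two
    (by rw [ringChar.eq F p]; exact hp))
  have E := ClassicalSimple.evenForm_plus hodd (by omega : 3 ≤ m)
  have hI : I ⇑(QForm.plusForm F m) = ClassicalSimple.innDiag E := ClassicalSimple.inndiag_plus E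
  clear_value I
  rw [hI]
  exact SemisimpleOrth.classes_eq E hx hr hro hrp hxr

end Cfsg.Agent.S2720
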