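import Cfsg.Statements.S2721
import Cfsg.Agent.Lib.SemisimpleOrth.Classes
import Cfsg.Agent.Lib.ClassicalSimple.PGOModels

set_option autoImplicit false
open Cfsg
open Cfsg.Agent

namespace Cfsg.Agent.S2721

/-- Let T = PΩ⁻_{2m+2}(F) (m ≥ 3, F finite of odd characteristic p), G = Inndiag(T), and let x be an automorphism of T induced by a similarity of the form (an element of the image G̃ of the conformal orthogonal group) of odd prime order r ≠ p. Then the T-class, the PSO-class and the G-class of x coincide (conjugacy under inner automorphisms, under the image of the special orthogonal group, and under G), and the PO-class of x coincides with its G̃-class. (In characteristic 2 the first equality fails: there the special orthogonal group is the full orthogonal group and some such classes split.) -/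
theorem result {F : Type*} [Field F] [Fintype F] {p : ℕ} [Fact p.Prime] [CharP F p] (hp : p ≠ 2) {m : ℕ} (hm : 3 ≤ m) (a b : F) (hab : (∀ z₁ z₂ : F, z₁ ^ 2 + a * z₁ * z₂ + b * z₂ ^ 2 = 0 → z₁ = 0 ∧ z₂ = 0)) (x : MulAut (Cfsg.POmega F (Cfsg.quadFormMinus m F a b))) (hx : x ∈ Cfsg.pgoAut F (Cfsg.quadFormMinus m F a b)) {r : ℕ} (hr : r.Prime) (hro : Odd r) (hrp : r ≠ p) (hxr : orderOf x = r) :
    (∀ y : MulAut (Cfsg.POmega F (Cfsg.quadFormMinus m F a b)), (Cfsg.IsConjUnder (Cfsg.Inn (Cfsg.POmega F (Cfsg.quadFormMinus m F a b))) x y ↔ Cfsg.IsConjUnder (Cfsg.inndiagPOmegaMinus m F a b) x y) ∧ (Cfsg.IsConjUnder (Cfsg.psoAut F (Cfsg.quadFormMinus m F a b)) x y ↔ Cfsg.IsConjUnder (Cfsg.inndiagPOmegaMinus m F a b) x y)) ∧ (∀ y : MulAut (Cfsg.POmega F (Cfsg.quadFormMinus m F a b)), Cfsg.IsConjUnder (Cfsg.poAut F (Cfsg.quadFormMinus m F a b)) x y ↔ Cfsg.IsConjUnder (Cfsg.pgoAut F (Cfsg.quadFormMinus m F a b)) x y) := by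
  classical
  let I : (f : ((Fin m ⊕ Fin m) ⊕ Fin 2 → F) → F) → Subgroup (MulAut (POmega F f)) := fun f =>
    autSubgroupOf fun β => ∃ g : GL ((Fin m ⊕ Fin m) ⊕ Fin 2) F, g ∈ Geo.quadSimilarityGroup (F := F) f ∧
      PreservesSingularClassesMinus m a b (g : Matrix ((Fin m ⊕ Fin m) ⊕ Fin 2) ((Fin m ⊕ Fin m) ⊕ Fin 2) F) ∧
      IsInducedBySemilinearPOmega f g (RingEquiv.refl F) β
  suffices key : ∀ f, ⇑(QForm.minusForm F m a b) = f → ∀ x : MulAut (POmega F f), x ∈ pgoAut F f → orderOf x = r →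
      (∀ y, (IsConjUnder (Inn (POmega F f)) x y ↔ IsConjUnder (I f) x y) ∧
        (IsConjUnder (psoAut F f) x y ↔ IsConjUnder (I f) x y)) ∧
      ∀ y, IsConjUnder (poAut F f) x y ↔ IsConjUnder (pgoAut F f) x y from
    key _ (QForm.coe_minusForm F m a b) x hx hxr
  rintro f rfl x hx hxr
  have hodd : Odd (Fintype.card F) := Nat.odd_iff.2 (FiniteField.odd_card_of_char_ne_two
    (by rw [ringChar.eq F p]; exact hp))
  have E := ClassicalSimple.evenForm_minus hodd (by omega : 2 ≤ m) hab
  have hI : I ⇑(QForm.minusForm F m a b) = ClassicalSimple.innDiag E := ClassicalSimple.inndiag_minus E hab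
  clear_value I
  rw [hI]
  exact SemisimpleOrth.classes_eq E hx hr hro hrp hxr

end Cfsg.Agent.S2721
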