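import Cfsg.Statements.S2725
import Cfsg.Agent.Lib.ClassicalSimple.PGOModels

set_option autoImplicit false
open Cfsg
open Cfsg.Agent

namespace Cfsg.Agent.S2725

set_option maxHeartbeats 1600000 in
/-- Let T = PΩ⁺_{2m}(F) with m ≥ 4 and |F| = q odd. The inner-diagonal group G = Inndiag(T) (image of the class-preserving similarities) taken modulo the inner automorphism group T is cyclic of order 2 when m is odd and q ≡ 3 (mod 4), cyclic of order 4 when m is odd and q ≡ 1 (mod 4), and elementary abelian of order 4 when m is even. -/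
theorem result {F : Type*} [Field F] [Fintype F] (hodd : Odd (Fintype.card F)) {m : ℕ} (hm : 4 ≤ m) :
    ((Odd m ∧ Fintype.card F % 4 = 3) → (∃ φ : ↥(Cfsg.inndiagPOmegaPlus m F) →* Multiplicative (ZMod 2), Function.Surjective φ ∧ φ.ker = (Cfsg.Inn (Cfsg.POmega F (Cfsg.quadFormPlus m F))).subgroupOf (Cfsg.inndiagPOmegaPlus m F))) ∧ ((Odd m ∧ Fintype.card F % 4 = 1) → (∃ φ : ↥(Cfsg.inndiagPOmegaPlus m F) →* Multiplicative (ZMod 4), Function.Surjective φ ∧ φ.ker = (Cfsg.Inn (Cfsg.POmega F (Cfsg.quadFormPlus m F))).subgroupOf (Cfsg.inndiagPOmegaPlus m F))) ∧ (Even m → (∃ φ : ↥(Cfsg.inndiagPOmegaPlus m F) →* Multiplicative (ZMod 2 × ZMod 2), Function.Surjective φ ∧ φ.ker = (Cfsg.Inn (Cfsg.POmega F (Cfsg.quadFormPlus m F))).subgroupOf (Cfsg.inndiagPOmegaPlus m F))) := by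
  classical
  let I : (f : ((Fin m ⊕ Fin m) → F) → F) → Subgroup (MulAut (POmega F f)) := fun f =>
    autSubgroupOf fun β => ∃ g : GL (Fin m ⊕ Fin m) F, g ∈ Geo.quadSimilarityGroup (F := F) f ∧
      PreservesSingularClasses f (g : Matrix (Fin m ⊕ Fin m) (Fin m ⊕ Fin m) F) ∧ IsInducedBySemilinearPOmega f g (RingEquiv.refl F) β
  suffices key : ∀ f, ⇑(QForm.plusForm F m) = f →
      ((Odd m ∧ Fintype.card F % 4 = 3) → ∃ φ : ↥(I f) →* Multiplicative (ZMod 2), Function.Surjective φ ∧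
        φ.ker = (Inn (POmega F f)).subgroupOf (I f)) ∧
      ((Odd m ∧ Fintype.card F % 4 = 1) → ∃ φ : ↥(I f) →* Multiplicative (ZMod 4), Function.Surjective φ ∧
        φ.ker = (Inn (POmega F f)).subgroupOf (I f)) ∧
      (Even m → ∃ φ : ↥(I f) →* Multiplicative (ZMod 2 × ZMod 2), Function.Surjective φ ∧
        φ.ker = (Inn (POmega F f)).subgroupOf (I f)) from key _ (QForm.coe_plusForm F m)
  rintro f rfl
  have E := ClassicalSimple.evenForm_plus hodd (by omega : 3 ≤ m)
  obtain ⟨T⟩ := ClassicalSimple.twist_plus E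
  have hI : I ⇑(QForm.plusForm F m) = ClassicalSimple.innDiag E := ClassicalSimple.inndiag_plus E
  clear_value I
  rw [hI]
  have hn := ClassicalSimple.negOne_plus (m := m) hodd
  exact ⟨fun h => ClassicalSimple.inndiag_inn_two E T fun e => hn.1 e h,
    fun h => ClassicalSimple.inndiag_inn_cyclic E T (hn.2 fun e => by omega) h.1,
    fun h => ClassicalSimple.inndiag_inn_klein E T
      (hn.2 fun e => (Nat.not_odd_iff_even.2 h) e.1) h⟩

end Cfsg.Agent.S2725
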