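import Cfsg.Statements.S2729
import Cfsg.Agent.Lib.ClassicalSimple.PGOModels

set_option autoImplicit false
open Cfsg
open Cfsg.Agent

namespace Cfsg.Agent.S2729

set_option maxHeartbeats 1600000 in
/-- Let T = PΩ⁻_{2m+2}(F) with m ≥ 3 and |F| = q odd (form with anisotropic binary part). The inner-diagonal group G = Inndiag(T) (image of the class-preserving similarities) taken modulo the inner automorphism group T is cyclic of order 4 when m is even and q ≡ 3 (mod 4), and of order 2 otherwise. -/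
theorem result {F : Type*} [Field F] [Fintype F] (hodd : Odd (Fintype.card F)) {m : ℕ} (hm : 3 ≤ m) (a b : F) (hab : (∀ z₁ z₂ : F, z₁ ^ 2 + a * z₁ * z₂ + b * z₂ ^ 2 = 0 → z₁ = 0 ∧ z₂ = 0)) :
    ((Even m ∧ Fintype.card F % 4 = 3) → (∃ φ : ↥(Cfsg.inndiagPOmegaMinus m F a b) →* Multiplicative (ZMod 4), Function.Surjective φ ∧ φ.ker = (Cfsg.Inn (Cfsg.POmega F (Cfsg.quadFormMinus m F a b))).subgroupOf (Cfsg.inndiagPOmegaMinus m F a b))) ∧ (¬ (Even m ∧ Fintype.card F % 4 = 3) → (∃ φ : ↥(Cfsg.inndiagPOmegaMinus m F a b) →* Multiplicative (ZMod 2), Function.Surjective φ ∧ φ.ker = (Cfsg.Inn (Cfsg.POmega F (Cfsg.quadFormMinus m F a b))).subgroupOf (Cfsg.inndiagPOmegaMinus m F a b))) := by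
  classical
  let I : (f : (((Fin m ⊕ Fin m) ⊕ Fin 2) → F) → F) → Subgroup (MulAut (POmega F f)) := fun f =>
    autSubgroupOf fun β => ∃ g : GL ((Fin m ⊕ Fin m) ⊕ Fin 2) F, g ∈ Geo.quadSimilarityGroup (F := F) f ∧
      PreservesSingularClassesMinus m a b (g : Matrix ((Fin m ⊕ Fin m) ⊕ Fin 2) ((Fin m ⊕ Fin m) ⊕ Fin 2) F) ∧ IsInducedBySemilinearPOmega f g (RingEquiv.refl F) β
  suffices key : ∀ f, ⇑(QForm.minusForm F m a b) = f →
      ((Even m ∧ Fintype.card F % 4 = 3) → ∃ φ : ↥(I f) →* Multiplicative (ZMod 4), Function.Surjective φ ∧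
        φ.ker = (Inn (POmega F f)).subgroupOf (I f)) ∧
      (¬ (Even m ∧ Fintype.card F % 4 = 3) → ∃ φ : ↥(I f) →* Multiplicative (ZMod 2), Function.Surjective φ ∧
        φ.ker = (Inn (POmega F f)).subgroupOf (I f)) from key _ (QForm.coe_minusForm F m a b)
  rintro f rfl
  have E := ClassicalSimple.evenForm_minus hodd (by omega : 2 ≤ m) hab
  obtain ⟨T⟩ := ClassicalSimple.twist_minus E hab
  have hI : I ⇑(QForm.minusForm F m a b) = ClassicalSimple.innDiag E := ClassicalSimple.inndiag_minus E hab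
  clear_value I
  rw [hI]
  have hn := ClassicalSimple.negOne_minus (m := m) hodd hab
  exact ⟨fun h => ClassicalSimple.inndiag_inn_cyclic E T (hn.2 h) h.1.add_one,
    fun h => ClassicalSimple.inndiag_inn_two E T fun e => h (hn.1 e)⟩

end Cfsg.Agent.S2729
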