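import Cfsg.Statements.S2730
import Cfsg.Agent.Lib.AutPSp.Balance

set_option autoImplicit false
open Cfsg

namespace Cfsg.Agent.S2730

/-- A criterion for the failure of local balance in almost simple groups whose socle is a projective symplectic group PSp_{2m}(F) (m ≥ 2, (2m, |F|) ≠ (4, 2)). Let F be a finite field of characteristic r and K the (simple) group in question; let A be a group of automorphisms of K containing all inner automorphisms, and x ∈ A an automorphism of prime order p ≠ r that is not inner-diagonal (not induced by a conformal symplectic matrix). Then the largest normal subgroup of C_A(x) of order prime to p is nontrivial if and only if x is a field automorphism of K (conjugate under Aut(K) to a non-identity standard field automorphism) and p does not divide the number of fixed points of x on K. -/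
theorem result {F : Type*} [Field F] [Fintype F] {r : ℕ} [Fact r.Prime] [CharP F r] {m : ℕ} (hm : 2 ≤ m) (hs : m = 2 → 3 ≤ Fintype.card F) (hK : IsSimpleGroup (Cfsg.PSp m F)) (A : Subgroup (MulAut (Cfsg.PSp m F))) (hinn : ∀ k : Cfsg.PSp m F, MulAut.conj k ∈ A) {p : ℕ} [Fact p.Prime] (hpr : p ≠ r) (x : MulAut (Cfsg.PSp m F)) (hxA : x ∈ A) (hord : orderOf x = p) (hnot : ¬ Cfsg.IsInnerDiagonalAutPSp x) :
    Cfsg.pPrimeCore p ↥(A ⊓ Subgroup.centralizer {x}) ≠ ⊥ ↔ (Cfsg.IsFieldAutClassPSp x ∧ Nat.Coprime p (Nat.card ↥(MonoidHom.eqLocus x.toMonoidHom (MonoidHom.id (Cfsg.PSp m F))))) := by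
  classical
  haveI : Finite (Cfsg.PSp m F) := inferInstance
  haveI : Finite (MulAut (Cfsg.PSp m F)) :=
    Finite.of_injective (fun e : MulAut (Cfsg.PSp m F) => (e : Cfsg.PSp m F → Cfsg.PSp m F)) DFunLike.coe_injective
  have hp : p.Prime := Fact.out
  have hr : r.Prime := Fact.out
  have hpF : (p : F) ≠ 0 := fun h0 =>
    hpr ((Nat.prime_dvd_prime_iff_eq hr hp).1 ((CharP.cast_eq_zero_iff F r p).1 h0)).symm
  have hxR : x ∈ (AutPSp.rootStab : Subgroup (MulAut (Cfsg.PSp m F))) := by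
    refine AutPSp.mem_rootStab_of_odd hm (r := r) (k := p / 2) fun _ hr2 => ?_
    have hodd := Nat.odd_iff.1 (hp.odd_of_ne_two (hr2 ▸ hpr))
    rw [show 2 * (p / 2) + 1 = p by omega, ← hord, pow_orderOf_eq_one]
  obtain ⟨g, σ, rfl⟩ := AutPSp.exists_decomposition_of hm hxR.1 hxR.2
  have hpow : (AutPSp.conjQ g * AutPSp.fieldQ σ : MulAut (Cfsg.PSp m F)) ^ p = 1 := hord ▸ pow_orderOf_eq_one _
  have hσ1 : σ ≠ 1 := fun e => hnot (by
    rw [e, map_one, mul_one]; exact AutPSp.isInnerDiagonal_conjQ g)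
  have hσ : orderOf σ = p := by
    rw [AutPSp.conjQ_mul_fieldQ_pow] at hpow
    exact orderOf_eq_prime (AutPSp.eq_one_data hm hpow).1 hσ1
  obtain ⟨k, hk⟩ := AutPSp.lang_field hm σ hσ g hpow
  set c : MulAut (Cfsg.PSp m F) := AutPSp.conjQ k
  set x₀ : MulAut (Cfsg.PSp m F) := AutPSp.fieldQ σ
  rw [hk] at hxA ⊢
  have hfield : Cfsg.IsFieldAutClassPSp (c * x₀ * c⁻¹) := by
    refine ⟨c⁻¹, σ, hσ1, ?_⟩
    rw [show c⁻¹ * (c * x₀ * c⁻¹) * c⁻¹⁻¹ = x₀ by group]
    exact AutPSp.isStdField_fieldQ σ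
  rw [and_iff_right hfield]
  set A₀ := A.map (MulAut.conj c⁻¹).toMonoidHom
  have hinn₀ : ∀ y : Cfsg.PSp m F, MulAut.conj y ∈ A₀ := fun y => ⟨MulAut.conj (c y), hinn _, by
    show c⁻¹ * MulAut.conj (c y) * c⁻¹⁻¹ = MulAut.conj y
    rw [inv_inv, mul_assoc, ← AutPSp.mul_conj, inv_mul_cancel_left]⟩
  have hmain := AutPSp.core_eq_bot_iff σ hm hpF hσ A₀ hinn₀
  have hA₀ : ∀ y, y ∈ A₀ ↔ c * y * c⁻¹ ∈ A := fun y => by
    refine ⟨?_, fun h => ⟨_, h, by show c⁻¹ * (c * y * c⁻¹) * c⁻¹⁻¹ = y; group⟩⟩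
    rintro ⟨z, hz, rfl⟩
    show c * (c⁻¹ * z * c⁻¹⁻¹) * c⁻¹ ∈ A
    rw [show c * (c⁻¹ * z * c⁻¹⁻¹) * c⁻¹ = z by group]
    exact hz
  let e : ↥(A₀ ⊓ Subgroup.centralizer {x₀}) ≃* ↥(A ⊓ Subgroup.centralizer {c * x₀ * c⁻¹}) :=
    ((MulAut.conj c).subgroupMap _).trans (MulEquiv.subgroupCongr (by
      ext y
      simp only [Subgroup.mem_map, Subgroup.mem_inf, Subgroup.mem_centralizer_singleton_iff, hA₀]
      constructor
      · rintro ⟨z, ⟨hz1, hz2⟩, rfl⟩
        refine ⟨hz1, ?_⟩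
        show c * z * c⁻¹ * (c * x₀ * c⁻¹) = c * x₀ * c⁻¹ * (c * z * c⁻¹)
        rw [show c * z * c⁻¹ * (c * x₀ * c⁻¹) = c * (z * x₀) * c⁻¹ by group, hz2]
        group
      · rintro ⟨hy1, hy2⟩
        refine ⟨c⁻¹ * y * c, ⟨?_, ?_⟩, by show c * (c⁻¹ * y * c) * c⁻¹ = y; group⟩
        · rwa [show c * (c⁻¹ * y * c) * c⁻¹ = y by group]
        · rw [show c⁻¹ * y * c * x₀ = c⁻¹ * (y * (c * x₀ * c⁻¹)) * c by group, hy2]
          group))
  have hfix : Nat.card (AutPSp.fixPts x₀) =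
      Nat.card ↥(MonoidHom.eqLocus (c * x₀ * c⁻¹).toMonoidHom (MonoidHom.id (Cfsg.PSp m F))) := by
    refine Nat.card_congr (Equiv.subtypeEquiv c.toEquiv fun y => ?_)
    show x₀ y = y ↔ (c * x₀ * c⁻¹) (c y) = c y
    rw [MulAut.mul_apply, MulAut.mul_apply, MulAut.inv_def, MulEquiv.symm_apply_apply]
    exact ⟨fun h => by rw [h], fun h => c.injective h⟩
  rw [← hfix, ← hmain, not_iff_not, ← Subgroup.card_eq_one, ← Subgroup.card_eq_one, PCore.card_pPrimeCore_congr e]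

end Cfsg.Agent.S2730
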