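import Cfsg.Statements.S2738


set_option autoImplicit false
open Cfsg

namespace Cfsg.Agent.S2738

/-- The special linear group SL(3, 4) has centre of order 3 and does not split over it: no subgroup is a complement to the centre (so SL(3, 4) is a non-split central extension of PSL(3, 4) by a group of order 3). -/
theorem result (F : Type*) [Field F] [Fintype F] (hF : Fintype.card F = 4) : Nat.card ↥(Subgroup.center (Matrix.SpecialLinearGroup (Fin 3) F)) = 3 ∧ ¬ ∃ K : Subgroup (Matrix.SpecialLinearGroup (Fin 3) F), Subgroup.IsComplement' (Subgroup.center (Matrix.SpecialLinearGroup (Fin 3) F)) K := by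
  haveI : DecidableEq F := Classical.decEq F
  have hcard : Nat.card ↥(Subgroup.center (Matrix.SpecialLinearGroup (Fin 3) F)) = 3 := by
    rw [Nat.card_congr (Matrix.SpecialLinearGroup.center_equiv_rootsOfUnity).toEquiv,
      Fintype.card_fin, max_eq_left (by norm_num : 1 ≤ 3)]
    have hu : Nat.card Fˣ = 3 := by
      rw [Nat.card_units, Nat.card_eq_fintype_card, hF]
    have : rootsOfUnity 3 F = ⊤ := by
      rw [eq_top_iff]
      intro u _
      rw [mem_rootsOfUnity, ← hu]
      exact pow_card_eq_one'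
    rw [this, Subgroup.card_top, hu]
  refine ⟨hcard, ?_⟩
  rintro ⟨K, hK⟩
  -- a primitive cube root of unity
  obtain ⟨w, hw0, hw1⟩ : ∃ w : F, w ≠ 0 ∧ w ≠ 1 := by
    obtain ⟨w, hw⟩ : ∃ w : F, w ∉ ({0, 1} : Finset F) := by
      by_contra h
      push Not at h
      have := Finset.card_le_card (s := (Finset.univ : Finset F)) (fun a _ => h a)
      have h2 := Finset.card_le_two (a := (0 : F)) (b := 1)
      rw [Finset.card_univ, hF] at this
      omega
    exact ⟨w, by simpa using fun h => hw (by simp [h]), by simpa using fun h => hw (by simp [h])⟩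
  have hw3 : w ^ 3 = 1 := by
    have := FiniteField.pow_card_sub_one_eq_one w hw0
    rwa [hF] at this
  let d : Matrix.SpecialLinearGroup (Fin 3) F :=
    ⟨!![1, 0, 0; 0, w, 0; 0, 0, w ^ 2], by
      simp [Matrix.det_fin_three]; linear_combination hw3⟩
  let P : Matrix.SpecialLinearGroup (Fin 3) F :=
    ⟨!![0, 1, 0; 0, 0, 1; 1, 0, 0], by simp [Matrix.det_fin_three]⟩
  let c : Matrix.SpecialLinearGroup (Fin 3) F :=
    ⟨!![w ^ 2, 0, 0; 0, w ^ 2, 0; 0, 0, w ^ 2], by
      simp [Matrix.det_fin_three]; linear_combination (w ^ 3 + 1) * hw3⟩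
  have hc : c ∈ Subgroup.center (Matrix.SpecialLinearGroup (Fin 3) F) := by
    refine Subgroup.mem_center_iff.2 fun a => Subtype.ext ?_
    change (a : Matrix (Fin 3) (Fin 3) F) * !![w ^ 2, 0, 0; 0, w ^ 2, 0; 0, 0, w ^ 2] =
      !![w ^ 2, 0, 0; 0, w ^ 2, 0; 0, 0, w ^ 2] * (a : Matrix (Fin 3) (Fin 3) F)
    ext i j
    fin_cases i <;> fin_cases j <;>
      simp [Matrix.mul_apply, Fin.sum_univ_three] <;> ring
  have hcomm : d * P = c * (P * d) := by
    refine Subtype.ext ?_
    change !![1, 0, 0; 0, w, 0; 0, 0, w ^ 2] * !![0, 1, 0; 0, 0, 1; 1, 0, 0] =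
      !![w ^ 2, 0, 0; 0, w ^ 2, 0; 0, 0, w ^ 2] * (!![0, 1, 0; 0, 0, 1; 1, 0, 0] * !![1, 0, 0; 0, w, 0; 0, 0, w ^ 2])
    ext i j
    fin_cases i <;> fin_cases j <;>
      simp [Matrix.mul_apply, Fin.sum_univ_three] <;>
      first
        | linear_combination (-1 : F) * hw3
        | linear_combination (-w) * hw3
        | ring
  -- project to the complement
  obtain ⟨⟨z, k⟩, hd⟩ := hK.2 d
  obtain ⟨⟨v, l⟩, hP⟩ := hK.2 P
  simp only at hd hP
  have hzc : ∀ {z a : Matrix.SpecialLinearGroup (Fin 3) F},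
      z ∈ Subgroup.center (Matrix.SpecialLinearGroup (Fin 3) F) → a * z = z * a :=
    fun hz => Subgroup.mem_center_iff.1 hz _
  have h1 : (k : Matrix.SpecialLinearGroup (Fin 3) F) * l = c * (l * k) := by
    apply mul_left_cancel (a := (z : Matrix.SpecialLinearGroup (Fin 3) F) * v)
    calc (z : Matrix.SpecialLinearGroup (Fin 3) F) * v * (k * l)
        = z * (v * k) * l := by group
      _ = z * (k * v) * l := by rw [hzc v.2]
      _ = (z * k) * (v * l) := by group
      _ = c * ((v * l) * (z * k)) := by rw [hd, hP, hcomm]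
      _ = c * (v * ((l * z) * k)) := by group
      _ = c * (v * ((z * l) * k)) := by rw [hzc z.2]
      _ = c * ((v * z) * (l * k)) := by group
      _ = c * ((z * v) * (l * k)) := by rw [hzc z.2]
      _ = (c * (z * v)) * (l * k) := by group
      _ = ((z * v) * c) * (l * k) := by rw [hzc hc]
      _ = (z : Matrix.SpecialLinearGroup (Fin 3) F) * v * (c * (l * k)) := by group
  have hcK : c ∈ K := by
    have : c = (k : Matrix.SpecialLinearGroup (Fin 3) F) * l * ((l : Matrix.SpecialLinearGroup (Fin 3) F) * k)⁻¹ := by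
      rw [h1]; group
    rw [this]
    exact K.mul_mem (K.mul_mem k.2 l.2) (K.inv_mem (K.mul_mem l.2 k.2))
  have hc1 : c = 1 := by
    have := hK.disjoint.le_bot ⟨hc, hcK⟩
    exact Subgroup.mem_bot.1 this
  have hw2 : w ^ 2 = 1 := by
    have h00 := congrArg (fun a : Matrix.SpecialLinearGroup (Fin 3) F => (a : Matrix (Fin 3) (Fin 3) F) 0 0) hc1
    simpa [c] using h00
  exact hw1 (by linear_combination hw3 - w * hw2)

end Cfsg.Agent.S2738
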