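import Cfsg.Statements.S2739

set_option autoImplicit false
open scoped Pointwise
open Cfsg

namespace Cfsg.Agent.S2739

open Matrix Polynomial in
/-- A non-scalar `g ∈ SL₃(4)` with scalar cube has characteristic roots all three cube roots of unity. -/
theorem cube_roots_charpoly {F : Type*} [Field F] [Fintype F] (hF : Fintype.card F = 4)
    (g : Matrix (Fin 3) (Fin 3) F) (hdet : g.det = 1) (c : F) (hg : g ^ 3 = c • (1 : Matrix (Fin 3) (Fin 3) F))
    (hns : ∀ r : F, g ≠ r • (1 : Matrix (Fin 3) (Fin 3) F)) :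
    c = 1 ∧ ∀ a : F, a ≠ 0 → g.charpoly.eval a = 0 := by
  have hcube : ∀ a : F, a ≠ 0 → a ^ 3 = 1 := by
    intro a ha
    have := FiniteField.pow_card_sub_one_eq_one a ha
    rwa [hF] at this
  have hdeg : g.charpoly.natDegree = 3 := by
    rw [Matrix.charpoly_natDegree_eq_dim, Fintype.card_fin]
  set e0 := g.charpoly.coeff 0
  set e1 := g.charpoly.coeff 1
  set e2 := g.charpoly.coeff 2
  have he3 : g.charpoly.coeff 3 = 1 := by
    have := (Matrix.charpoly_monic g).coeff_natDegree
    rwa [hdeg] at this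
  have he0 : e0 = -1 := by
    have := Matrix.det_eq_sign_charpoly_coeff g
    rw [hdet, Fintype.card_fin] at this
    linear_combination this
  have hp : g.charpoly = C e0 + C e1 * Polynomial.X + C e2 * Polynomial.X ^ 2 + Polynomial.X ^ 3 := by
    conv_lhs => rw [g.charpoly.as_sum_range_C_mul_X_pow, hdeg]
    simp [Finset.sum_range_succ, he3, e0, e1, e2]
  have hch : (e0 + c) • (1 : Matrix (Fin 3) (Fin 3) F) + e1 • g + e2 • g ^ 2 = 0 := by
    have := Matrix.aeval_self_charpoly g
    rw [hp] at this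
    simp only [map_add, map_mul, map_pow, aeval_C, aeval_X, Algebra.algebraMap_eq_smul_one,
      smul_mul_assoc, one_mul, hg] at this
    rw [← this, add_smul]
    abel
  have he2 : e2 = 0 := by
    by_contra h
    set α := -e2⁻¹ * e1
    set β := -e2⁻¹ * (e0 + c)
    have h2 : g ^ 2 = α • g + β • (1 : Matrix (Fin 3) (Fin 3) F) := by
      have h' := congrArg (fun M => e2⁻¹ • M) hch
      simp only [smul_add, smul_smul, smul_zero, inv_mul_cancel₀ h, one_smul] at h'
      rw [← sub_eq_zero, ← h']
      simp only [α, β, neg_mul, neg_smul]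
      abel
    have h3 : (α * α + β) • g + (α * β - c) • (1 : Matrix (Fin 3) (Fin 3) F) = 0 := by
      have : g ^ 3 = (α * α + β) • g + (α * β) • (1 : Matrix (Fin 3) (Fin 3) F) := by
        rw [pow_succ, h2, add_mul, smul_mul_assoc, smul_mul_assoc, one_mul, ← pow_two, h2]
        rw [smul_add, smul_smul, smul_smul, add_smul]
        abel
      rw [hg] at this
      rw [sub_smul, ← add_sub_assoc, ← this, sub_self]
    have hab : α * α + β = 0 := by
      by_contra hab
      refine hns (-(α * α + β)⁻¹ * (α * β - c)) ?_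
      have h' := congrArg (fun M => (α * α + β)⁻¹ • M) h3
      simp only [smul_add, smul_smul, smul_zero, inv_mul_cancel₀ hab, one_smul] at h'
      rw [neg_mul, neg_smul]
      exact eq_neg_of_add_eq_zero_left h'
    have hcv : α * β = c := by
      rw [hab, zero_smul, zero_add] at h3
      have := congrArg (fun M : Matrix (Fin 3) (Fin 3) F => M 0 0) h3
      simpa [sub_eq_zero] using this
    have hc0 : c ≠ 0 := by
      intro hc
      have hd := congrArg Matrix.det hg
      rw [Matrix.det_pow, hdet, hc] at hd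
      simp at hd
    have hα : α ≠ 0 := fun hα => hc0 (by rw [← hcv, hα, zero_mul])
    have hc1 : c = 1 := by
      rw [← hcube (-α) (neg_ne_zero.2 hα), ← hcv]
      linear_combination α * hab
    -- now `e0 + c = 0`, so `β = 0`
    apply hc0
    rw [← hcv]
    simp [β, he0, hc1]
  have he1 : e1 = 0 ∧ c = 1 := by
    rw [he2, zero_smul, add_zero, he0] at hch
    by_cases h : e1 = 0
    · refine ⟨h, ?_⟩
      rw [h, zero_smul, add_zero] at hch
      have := congrArg (fun M : Matrix (Fin 3) (Fin 3) F => M 0 0) hch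
      simp at this
      linear_combination this
    · refine absurd ?_ (hns (-e1⁻¹ * (-1 + c)))
      have h' := congrArg (fun M => e1⁻¹ • M) hch
      simp only [smul_add, smul_smul, smul_zero, inv_mul_cancel₀ h, one_smul] at h'
      rw [neg_mul, neg_smul]
      exact eq_neg_of_add_eq_zero_right h'
  refine ⟨he1.2, fun a ha => ?_⟩
  rw [hp, he2, he1.1, he0]
  simp [hcube a ha]

open Matrix in
/-- All non-central elements of `SL₃(4)` with central cube are conjugate. -/
theorem exists_conj_diag {F : Type*} [Field F] [Fintype F] (hF : Fintype.card F = 4)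
    (w : F) (hw0 : w ≠ 0) (hw1 : w ≠ 1)
    (g : Matrix.SpecialLinearGroup (Fin 3) F) (hg : g ^ 3 ∈ Subgroup.center (Matrix.SpecialLinearGroup (Fin 3) F))
    (hns : g ∉ Subgroup.center (Matrix.SpecialLinearGroup (Fin 3) F)) :
    ∃ h : Matrix.SpecialLinearGroup (Fin 3) F,
      (g : Matrix (Fin 3) (Fin 3) F) * (h : Matrix (Fin 3) (Fin 3) F) =
        (h : Matrix (Fin 3) (Fin 3) F) * Matrix.diagonal ![1, w, w ^ 2] := by
  have hw3 : w ^ 3 = 1 := by
    have := FiniteField.pow_card_sub_one_eq_one w hw0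
    rwa [hF] at this
  obtain ⟨c, -, hc⟩ := Matrix.SpecialLinearGroup.mem_center_iff.1 hg
  have hns' : ∀ r : F, (g : Matrix (Fin 3) (Fin 3) F) ≠ r • (1 : Matrix (Fin 3) (Fin 3) F) := by
    intro r hr
    refine hns (Matrix.SpecialLinearGroup.mem_center_iff.2 ⟨r, ?_, ?_⟩)
    · have := g.2
      rw [hr, Matrix.det_smul, Matrix.det_one, mul_one] at this
      exact this
    · rw [hr, Matrix.smul_one_eq_diagonal]
      rfl
  obtain ⟨-, hroot⟩ := cube_roots_charpoly hF (g : Matrix (Fin 3) (Fin 3) F) g.2 c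
    (by rw [← Matrix.SpecialLinearGroup.coe_pow, ← hc, Matrix.smul_one_eq_diagonal]; rfl) hns'
  let μ : Fin 3 → F := ![1, w, w ^ 2]
  have hμ : ∀ i, μ i ≠ 0 := by
    intro i; fin_cases i <;> simp [μ, hw0]
  have hμinj : Function.Injective μ := by
    intro i j h
    fin_cases i <;> fin_cases j <;> first | rfl | (exfalso; simp [μ] at h)
    all_goals first
      | exact hw1 h
      | exact hw1 h.symm
      | exact hw1 (by linear_combination hw3 - w * h)
      | exact hw1 (by linear_combination hw3 + w * h)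
      | exact hw1 (by linear_combination hw3 + (w - w ^ 2) * h)
      | exact hw1 (mul_left_cancel₀ hw0 (by linear_combination h))
      | exact hw1 (mul_left_cancel₀ hw0 (by linear_combination -h))
      | (rcases h with h | h <;> first | exact hw1 h | exact hw0 h | exact hw1 (by linear_combination hw3 + (w - w ^ 2) * h) | exact hw1 (by linear_combination hw3 - w * h))
  have hev : ∀ i, ∃ v : Fin 3 → F, v ≠ 0 ∧ (g : Matrix (Fin 3) (Fin 3) F) *ᵥ v = μ i • v := by
    intro i
    have := hroot (μ i) (hμ i)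
    rw [Matrix.eval_charpoly] at this
    obtain ⟨v, hv0, hv⟩ := Matrix.exists_mulVec_eq_zero_iff.2 this
    refine ⟨v, hv0, ?_⟩
    rw [Matrix.sub_mulVec, sub_eq_zero] at hv
    rw [← hv]
    ext k
    simp [Matrix.mulVec_diagonal]
  choose v hv0 hv using hev
  have hli : LinearIndependent F v := by
    refine Module.End.eigenvectors_linearIndependent' (Matrix.toLin' (g : Matrix (Fin 3) (Fin 3) F)) μ hμinj v ?_
    intro i
    refine ⟨Module.End.mem_eigenspace_iff.2 ?_, hv0 i⟩
    rw [Matrix.toLin'_apply, hv i]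
  let P : Matrix (Fin 3) (Fin 3) F := Matrix.of fun a b => v b a
  have hP : IsUnit P.det := by
    rw [← Matrix.isUnit_iff_isUnit_det, ← Matrix.linearIndependent_cols_iff_isUnit]
    exact hli
  have hgP : (g : Matrix (Fin 3) (Fin 3) F) * P = P * Matrix.diagonal μ := by
    ext a b
    rw [Matrix.mul_diagonal]
    have := congrFun (hv b) a
    simpa [Matrix.mul_apply, Matrix.mulVec, dotProduct, P, mul_comm] using this
  let D : Matrix (Fin 3) (Fin 3) F := Matrix.diagonal ![(P.det)⁻¹, 1, 1]
  refine ⟨⟨P * D, ?_⟩, ?_⟩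
  · rw [Matrix.det_mul, Matrix.det_diagonal]
    simp [Fin.prod_univ_three, mul_inv_cancel₀ hP.ne_zero]
  · change (g : Matrix (Fin 3) (Fin 3) F) * (P * D) = P * D * Matrix.diagonal μ
    rw [← mul_assoc, hgP, mul_assoc, mul_assoc, Matrix.diagonal_mul_diagonal, Matrix.diagonal_mul_diagonal]
    simp only [mul_comm]

/-- In the projective special linear group PSL(3, 4) all subgroups of order 3 are conjugate. -/
theorem result (F : Type*) [Field F] [Fintype F] (hF : Fintype.card F = 4) (X Y : Subgroup (Matrix.ProjectiveSpecialLinearGroup (Fin 3) F)) (hX : Nat.card ↥X = 3) (hY : Nat.card ↥Y = 3) : ∃ g : Matrix.ProjectiveSpecialLinearGroup (Fin 3) F, MulAut.conj g • X = Y := by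
  obtain ⟨w, hw0, hw1⟩ : ∃ w : F, w ≠ 0 ∧ w ≠ 1 := by
    classical
    obtain ⟨w, hw⟩ : ∃ w : F, w ∉ ({0, 1} : Finset F) := by
      by_contra h
      push Not at h
      have := Finset.card_le_card (s := (Finset.univ : Finset F)) (fun a _ => h a)
      have h2 := Finset.card_le_two (a := (0 : F)) (b := 1)
      rw [Finset.card_univ, hF] at this
      omega
    exact ⟨w, by simpa using fun h => hw (by simp [h]), by simpa using fun h => hw (by simp [h])⟩
  haveI : Fact (Nat.Prime 3) := ⟨by norm_num⟩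
  have hgen : ∀ Z : Subgroup (Matrix.ProjectiveSpecialLinearGroup (Fin 3) F), Nat.card ↥Z = 3 →
      ∃ g : Matrix.SpecialLinearGroup (Fin 3) F, g ^ 3 ∈ Subgroup.center _ ∧ g ∉ Subgroup.center _ ∧
        Z = Subgroup.zpowers (QuotientGroup.mk g) := by
    intro Z hZ
    haveI : Nontrivial ↥Z := Finite.one_lt_card_iff_nontrivial (α := ↥Z) |>.1 (by omega)
    obtain ⟨x, hx⟩ := exists_ne (1 : ↥Z)
    obtain ⟨g, hg⟩ := QuotientGroup.mk_surjective (x : Matrix.ProjectiveSpecialLinearGroup (Fin 3) F)
    have ho : orderOf (x : Matrix.ProjectiveSpecialLinearGroup (Fin 3) F) = 3 := by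
      rw [Subgroup.orderOf_coe]
      exact orderOf_eq_prime (by have := pow_card_eq_one' (x := x); rwa [hZ] at this) hx
    refine ⟨g, ?_, ?_, ?_⟩
    · rw [← QuotientGroup.eq_one_iff, QuotientGroup.mk_pow, hg]
      exact orderOf_dvd_iff_pow_eq_one.1 (dvd_of_eq ho)
    · intro h
      rw [← QuotientGroup.eq_one_iff, hg] at h
      exact hx (Subtype.ext h)
    · rw [hg]
      refine (Subgroup.eq_of_le_of_card_ge ((Subgroup.zpowers_le (H := Z)).2 x.2) ?_).symm
      rw [hZ, Nat.card_zpowers, ho]
  obtain ⟨a, ha3, hac, rfl⟩ := hgen X hX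
  obtain ⟨b, hb3, hbc, rfl⟩ := hgen Y hY
  obtain ⟨h, hh⟩ := exists_conj_diag hF w hw0 hw1 a ha3 hac
  obtain ⟨k, hk⟩ := exists_conj_diag hF w hw0 hw1 b hb3 hbc
  have hab : k * h⁻¹ * a * h * k⁻¹ = b := by
    have e1 : k * h⁻¹ * a * h = b * k := by
      refine Subtype.ext ?_
      have : (h⁻¹ * a * h : Matrix.SpecialLinearGroup (Fin 3) F).1 = Matrix.diagonal ![1, w, w ^ 2] := by
        rw [mul_assoc, Matrix.SpecialLinearGroup.coe_mul, Matrix.SpecialLinearGroup.coe_mul, hh,
          ← Matrix.mul_assoc, ← Matrix.SpecialLinearGroup.coe_mul, inv_mul_cancel,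
          Matrix.SpecialLinearGroup.coe_one, Matrix.one_mul]
      rw [mul_assoc k, mul_assoc k, Matrix.SpecialLinearGroup.coe_mul, this,
        Matrix.SpecialLinearGroup.coe_mul, hk]
    rw [e1, mul_inv_cancel_right]
  refine ⟨QuotientGroup.mk (k * h⁻¹), ?_⟩
  change Subgroup.map (MulAut.conj _).toMonoidHom _ = _
  rw [MonoidHom.map_zpowers]
  congr 1
  rw [← hab]
  simp [mul_assoc]

end Cfsg.Agent.S2739
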