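import Cfsg.Statements.S2755
import Cfsg.Agent.Lib.ReeS3.Families
import Cfsg.Agent.Lib.ReeS3.ReeType

set_option autoImplicit false
open Cfsg

namespace Cfsg.Agent.S2755

/-- Every finite Goldschmidt group is S₄-free (the symmetric group of degree 4 is not involved in it); and for a finite Goldschmidt group G, the symmetric group of degree 3 is not involved in G exactly when G is a Suzuki group or PSL₂ over a field with 3^(2n+1) elements. -/
theorem result {G : Type*} [Group G] [Finite G] (hG : Cfsg.IsGoldschmidtGroup G) : ¬ Cfsg.Involves (Equiv.Perm (Fin 4)) G ∧ (¬ Cfsg.Involves (Equiv.Perm (Fin 3)) G ↔ Cfsg.IsSuzukiOrPSL2OddPowerThree G) := by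
  have hfam : Cfsg.IsSuzukiOrPSL2OddPowerThree G → ¬ Cfsg.Involves (Equiv.Perm (Fin 3)) G := by
    rintro (h | ⟨F, _, _, n, hF, ⟨e⟩⟩)
    · exact ReeS3.not_involves_three_of_card (ReeS3.suzuki_not_three_dvd h)
    · rw [ReeS3.involves_congr_iff e]
      exact ReeS3.psl_three_not_involves hF
  rcases hG with h | ⟨F, _, _, n, _, hF, ⟨e⟩⟩ | h | ⟨F, _, _, n, _, hF, ⟨e⟩⟩ | ⟨F, _, _, q, hF, _, hq, ⟨e⟩⟩ | ⟨⟨e⟩⟩
  · exact ⟨ReeS3.not_involves_four_of_exp (ReeS3.ree_exp h),
      fun h3 => absurd (ReeS3.ree_involves_three h) h3, hfam⟩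
  · haveI : CharP F 2 := charP_of_card_eq_prime_pow hF
    have h2 : (2 : F) = 0 := CharTwo.two_eq_zero
    refine ⟨?_, fun h3 => absurd ?_ h3, hfam⟩
    · rw [ReeS3.involves_congr_iff e]
      exact ReeS3.not_involves_four_of_exp (ReeS3.psl_exp_two h2)
    · rw [ReeS3.involves_congr_iff e]
      exact ReeS3.psl_involves_three (ReeS3.exists_norm_neg_one_char_two h2)
  · exact ⟨ReeS3.not_involves_four_of_card_three (ReeS3.suzuki_not_three_dvd h),
      fun _ => Or.inl h, hfam⟩
  · haveI : CharP F 2 := charP_of_card_eq_prime_pow (f := 2 * n) (by rw [hF, pow_mul]; norm_num)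
    have hF' : Fintype.card F = (2 ^ n) ^ 2 := by rw [hF, ← pow_mul, mul_comm, pow_mul]; norm_num
    refine ⟨?_, fun h3 => absurd ?_ h3, hfam⟩
    · rw [ReeS3.involves_congr_iff e]
      exact fun h4 => ReeS3.su_not_involves_four hF' (PComplement.involves_of_quotient h4)
    · rw [ReeS3.involves_congr_iff e]
      exact ReeS3.psu_involves_three hF'
  · refine ⟨?_, fun h3 => ?_, hfam⟩
    · rw [ReeS3.involves_congr_iff e]
      exact ReeS3.not_involves_four_of_card (ReeS3.psl_not_eight_dvd hF hq)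
    · have h2 : (2 : F) ≠ 0 := PSL2.odd_card_iff.1 (hF ▸ Nat.odd_iff.2 (by omega))
      by_cases hc : (3 : F) = 0
      · haveI : Fact (Nat.Prime 3) := ⟨Nat.prime_three⟩
        haveI : CharP F 3 := (CharP.charP_iff_prime_eq_zero Nat.prime_three).2 (by exact_mod_cast hc)
        obtain ⟨k, -, hk⟩ := FiniteField.card F 3
        refine Or.inr ⟨F, inferInstance, inferInstance, (k : ℕ) / 2, ?_, ⟨e⟩⟩
        rcases Nat.even_or_odd' (k : ℕ) with ⟨j, hj | hj⟩
        · exfalso
          rw [hj, pow_mul] at hk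
          have : (3 ^ 2) ^ j % 8 = 1 := by rw [Nat.pow_mod]; norm_num
          rw [← hk, hF] at this
          omega
        · rw [hk, hj]
          congr 1
          omega
      · refine absurd ?_ h3
        rw [ReeS3.involves_congr_iff e]
        exact ReeS3.psl_involves_three (ReeS3.exists_norm_neg_one h2 hc)
  · refine ⟨?_, fun h3 => absurd ?_ h3, hfam⟩
    · rw [ReeS3.involves_congr_iff e]
      exact ReeS3.not_involves_four_of_exp ReeS3.j1_exp
    · rw [ReeS3.involves_congr_iff e]
      exact ReeS3.j1_involves_three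

end Cfsg.Agent.S2755
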