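-- Solution for statement S2756
import Cfsg.Statements.S2756
import Cfsg.Agent.Lib.ZJControl.Inversion
import Cfsg.Agent.Lib.PrimeParts.OddInverted

set_option autoImplicit false
open Cfsg

namespace Cfsg.Agent.S2756

open Subgroup Cfsg.Agent.ZJControl

/-- A group with normal Sylow 2-subgroup inverts no nontrivial element of odd order. -/
theorem eq_one_of_inverted {G : Type*} [Group G] [Finite G] (P : Sylow 2 G)
    (hP : (P : Subgroup G).Normal) {q : ℕ} (hq : q.Prime) (h2 : q ≠ 2) {x g : G} {n : ℕ}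
    (hx : x ^ q ^ n = 1) (h : g * x * g⁻¹ = x⁻¹) : x = 1 := by
  have hodd : Odd (P : Subgroup G).index :=
    Nat.not_even_iff_odd.1 fun he => P.not_dvd_index (even_iff_two_dvd.1 he)
  obtain ⟨j, hj⟩ := hodd
  set π := QuotientGroup.mk' (P : Subgroup G)
  have hpow : π g ^ (2 * j + 1) = 1 := by
    rw [← hj, index_eq_card]
    exact pow_card_eq_one'
  have hk : ∀ k : ℕ, π g ^ (2 * k) * π x * (π g ^ (2 * k))⁻¹ = π x := by
    intro k
    induction k with
    | zero => simp
    | succ k ih =>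
      have h1 : π g * π x * (π g)⁻¹ = (π x)⁻¹ := by
        rw [← map_inv, ← map_mul, ← map_mul, h, map_inv]
      calc π g ^ (2 * (k + 1)) * π x * (π g ^ (2 * (k + 1)))⁻¹
          = π g ^ (2 * k) * (π g * (π g * π x * (π g)⁻¹) * (π g)⁻¹) * (π g ^ (2 * k))⁻¹ := by
            rw [show 2 * (k + 1) = 2 * k + 1 + 1 by ring, pow_succ, pow_succ]; group
        _ = π x := by
            rw [show π g * (π g * π x * (π g)⁻¹) * (π g)⁻¹ = π x by
              rw [h1, show π g * (π x)⁻¹ * (π g)⁻¹ = (π g * π x * (π g)⁻¹)⁻¹ by group, h1, inv_inv]]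
            exact ih
  have h3 : (π x)⁻¹ = π x := by
    have h1 : π g * π x * (π g)⁻¹ = (π x)⁻¹ := by
      rw [← map_inv, ← map_mul, ← map_mul, h, map_inv]
    have hj' : π g ^ (2 * j) = (π g)⁻¹ := eq_inv_of_mul_eq_one_left (by rw [← pow_succ]; exact hpow)
    have h4 := hk j
    rw [hj', inv_inv] at h4
    rw [← h1]
    conv_lhs => rw [← h4]
    group
  have h5 : π (x ^ 2) = 1 := by rw [map_pow, sq]; nth_rw 1 [← h3]; exact inv_mul_cancel _
  obtain ⟨i, hi⟩ := P.2 ⟨x ^ 2, (QuotientGroup.eq_one_iff _).1 h5⟩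
  have hi' : (x ^ 2) ^ 2 ^ i = 1 := congrArg Subtype.val hi
  rw [← pow_mul, ← pow_succ'] at hi'
  have h6 := Nat.dvd_gcd (orderOf_dvd_of_pow_eq_one hi') (orderOf_dvd_of_pow_eq_one hx)
  rw [(((Nat.coprime_primes Nat.prime_two hq).2 (Ne.symm h2)).pow_left (i + 1)).pow_right n] at h6
  exact orderOf_eq_one_iff.1 (Nat.dvd_one.1 h6)

/-- For a finite group G the following are equivalent: (a) G has a normal Sylow 2-subgroup; (b) for every odd prime q dividing the order of G and every Sylow q-subgroup T, the normalizer of Z(J(T)) has a normal Sylow 2-subgroup; (c) for every odd prime q and every Sylow q-subgroup T, no nonidentity element of T is inverted by an element of the normalizer of Z(J(T)). Here J(T) is the Thompson subgroup generated by the abelian subgroups of T of largest order. Stated as the two equivalences (a) ⇔ (b) and (a) ⇔ (c). -/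
theorem result {G : Type*} [Group G] [Finite G] : ((∀ P : Sylow 2 G, (P : Subgroup G).Normal) ↔ ∀ (q : ℕ) [Fact q.Prime], q ≠ 2 → q ∣ Nat.card G → ∀ T : Sylow q G, ∀ P : Sylow 2 ↥(Subgroup.normalizer (Cfsg.centerThompsonAOf (T : Subgroup G) : Set G)), (P : Subgroup ↥(Subgroup.normalizer (Cfsg.centerThompsonAOf (T : Subgroup G) : Set G))).Normal) ∧ ((∀ P : Sylow 2 G, (P : Subgroup G).Normal) ↔ ∀ (q : ℕ) [Fact q.Prime], q ≠ 2 → ∀ T : Sylow q G, ∀ x ∈ (T : Subgroup G), x ≠ 1 → ∀ g ∈ Subgroup.normalizer (Cfsg.centerThompsonAOf (T : Subgroup G) : Set G), g * x * g⁻¹ ≠ x⁻¹) := by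
  haveI := Fact.mk Nat.prime_two
  have ab : (∀ P : Sylow 2 G, (P : Subgroup G).Normal) → ∀ (q : ℕ) [Fact q.Prime], q ≠ 2 →
      q ∣ Nat.card G → ∀ T : Sylow q G, ∀ P : Sylow 2 ↥(normalizer (centerThompsonAOf (T : Subgroup G) : Set G)),
        (P : Subgroup ↥(normalizer (centerThompsonAOf (T : Subgroup G) : Set G))).Normal := by
    intro ha q _ _ _ T P
    obtain ⟨R, hR⟩ := P.exists_comap_subtype_eq
    rw [← hR]
    exact (ha R).comap _
  have bc : (∀ (q : ℕ) [Fact q.Prime], q ≠ 2 → q ∣ Nat.card G → ∀ T : Sylow q G,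
      ∀ P : Sylow 2 ↥(normalizer (centerThompsonAOf (T : Subgroup G) : Set G)),
        (P : Subgroup ↥(normalizer (centerThompsonAOf (T : Subgroup G) : Set G))).Normal) →
      ∀ (q : ℕ) [Fact q.Prime], q ≠ 2 → ∀ T : Sylow q G, ∀ x ∈ (T : Subgroup G), x ≠ 1 →
        ∀ g ∈ normalizer (centerThompsonAOf (T : Subgroup G) : Set G), g * x * g⁻¹ ≠ x⁻¹ := by
    intro hb q hq h2 T x hx hx1 g hg he
    have hTN : (T : Subgroup G) ≤ normalizer (centerThompsonAOf (T : Subgroup G) : Set G) :=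
      le_normalizer.trans ((isZJLike_A h2).normalizer_le _)
    have hdvd : q ∣ Nat.card G := by
      refine dvd_trans ?_ (card_subgroup_dvd_card (T : Subgroup G))
      haveI := (nontrivial_iff_ne_bot (T : Subgroup G)).2 fun h => hx1 (mem_bot.1 (h ▸ hx))
      obtain ⟨k, hk, hc⟩ := T.2.nontrivial_iff_card.1 inferInstance
      rw [hc]; exact dvd_pow_self q hk.ne'
    obtain ⟨n, hn⟩ := T.2 ⟨x, hx⟩
    have := eq_one_of_inverted
      (Classical.arbitrary (Sylow 2 ↥(normalizer (centerThompsonAOf (T : Subgroup G) : Set G))))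
      (hb q h2 hdvd T _) hq.out h2 (x := ⟨x, hTN hx⟩) (g := ⟨g, hg⟩) (n := n)
      (Subtype.ext (by simpa using congrArg Subtype.val hn)) (Subtype.ext he)
    exact hx1 (congrArg Subtype.val this)
  have ca : (∀ (q : ℕ) [Fact q.Prime], q ≠ 2 → ∀ T : Sylow q G, ∀ x ∈ (T : Subgroup G), x ≠ 1 →
      ∀ g ∈ normalizer (centerThompsonAOf (T : Subgroup G) : Set G), g * x * g⁻¹ ≠ x⁻¹) →
      ∀ P : Sylow 2 G, (P : Subgroup G).Normal := by
    intro hc P
    by_contra hP
    obtain ⟨q, hq, h2, hinv⟩ : ∃ q : ℕ, q.Prime ∧ q ≠ 2 ∧ Inv q (⊤ : Subgroup G) := by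
      by_contra hno
      refine hP (PrimeParts.sylow_two_normal_of_twoCentralizesOdd _ G rfl ?_ P)
      intro x t hodd ⟨k, hk⟩ hn
      by_contra hne
      set C := zpowers x ⊓ centralizer ({t} : Set G)
      obtain ⟨q, a, hq, hdvd, hndvd⟩ :
          ∃ q a : ℕ, q.Prime ∧ q ^ a ∣ orderOf x ∧ ¬ q ^ a ∣ Nat.card C := by
        by_contra hall
        push Not at hall
        have hd : orderOf x ∣ Nat.card C :=
          (Nat.dvd_iff_prime_pow_dvd_dvd _ _).2 fun q a hq hd => hall q a hq hd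
        have he : C = zpowers x := eq_of_le_of_card_ge inf_le_left
          (by rw [Nat.card_zpowers]; exact Nat.le_of_dvd Nat.card_pos hd)
        have hx : x ∈ C := he.ge (mem_zpowers x)
        exact hne (mem_centralizer_iff.1 hx.2 t rfl)
      have ha : a ≠ 0 := fun h0 => hndvd (by rw [h0, pow_zero]; exact one_dvd _)
      have hq2 : q ≠ 2 := by
        rintro rfl
        exact Nat.not_even_iff_odd.2 hodd (even_iff_two_dvd.2 ((dvd_pow_self 2 ha).trans hdvd))
      haveI := Fact.mk hq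
      set y := x ^ (orderOf x / q ^ a)
      have hy : orderOf y = q ^ a := orderOf_pow_orderOf_div (orderOf_pos x).ne' hdvd
      refine hno ⟨q, hq, hq2, inv_of_moves (Y := zpowers y) ?_ le_top k t (mem_top t)
        (by rw [← hk, pow_orderOf_eq_one]) ?_ ⟨y, mem_zpowers y, fun e => hndvd ?_⟩⟩
      · exact IsPGroup.of_card (n := a) (by rw [Nat.card_zpowers, hy])
      · refine Subnormal.mem_normalizer_of_cj_le ?_
        show (zpowers y).map (MulAut.conj t).toMonoidHom ≤ zpowers y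
        rw [MonoidHom.map_zpowers, zpowers_le]
        obtain ⟨i, hi⟩ := (mem_normalizer_iff.1 hn x).1 (mem_zpowers x)
        refine ⟨i, ?_⟩
        show y ^ i = t * y * t⁻¹
        have hi' : x ^ i = t * x * t⁻¹ := hi
        rw [show t * y * t⁻¹ = (t * x * t⁻¹) ^ (orderOf x / q ^ a) from (conj_pow).symm, ← hi',
          show y = x ^ (orderOf x / q ^ a) from rfl, ← zpow_natCast x, ← zpow_natCast, ← zpow_mul,
          ← zpow_mul, mul_comm]
      · rw [← hy, ← Nat.card_zpowers]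
        refine card_dvd_of_le (zpowers_le.2 ⟨pow_mem (mem_zpowers x) _, mem_centralizer_iff.2 ?_⟩)
        rintro _ rfl
        exact mul_inv_eq_iff_eq_mul.1 e
    haveI := Fact.mk hq
    obtain ⟨T⟩ : Nonempty (Sylow q G) := inferInstance
    obtain ⟨x, hx, g, hg, hx1, ⟨n, hn⟩, he⟩ := inv_normalizer_zjA h2 T hinv
    set N := normalizer (zjA G (T : Subgroup G) : Set G)
    have hTN : (T : Subgroup G) ≤ N := le_normalizer.trans ((isZJLike_A h2).normalizer_le _)
    obtain ⟨h, hh, hle⟩ := ConjFun.exists_conj_le_of_relIndex (T := (T : Subgroup G)) (H := N) T.2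
      (fun hd => T.not_dvd_index (hd.trans (relIndex_dvd_index_of_le hTN)))
      (U := zpowers x) (zpowers_le.2 hx) (by
        rintro ⟨_, i, rfl⟩
        refine ⟨n, Subtype.ext ?_⟩
        show (x ^ i) ^ q ^ n = 1
        rw [← zpow_natCast, ← zpow_mul, mul_comm, zpow_mul, zpow_natCast, hn, one_zpow])
    refine hc q h2 T (h * x * h⁻¹) (hle ⟨x, mem_zpowers x, rfl⟩)
      (fun e => hx1 (by simpa using conj_eq_one_iff.1 e))
      (h * g * h⁻¹) (mul_mem (mul_mem hh hg) (inv_mem hh)) ?_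
    rw [show (h * x * h⁻¹)⁻¹ = h * x⁻¹ * h⁻¹ by group, ← he]
    group
  exact ⟨⟨ab, fun hb => ca (bc hb)⟩, ⟨fun ha => bc (ab ha), ca⟩⟩

end Cfsg.Agent.S2756
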