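import Cfsg.Statements.S2758
import Cfsg.Agent.Lib.Coprime.Sylow
-- import your own Cfsg.Agent.* helpers here

set_option autoImplicit false
open Cfsg

namespace Cfsg.Agent.S2758

/-- For an odd prime p and a finite group G the following are equivalent: the dihedral group of order 2p is involved in G; some element of 2-power order normalizes but does not centralize some p-subgroup of G; some element of 2-power order inverts some nonidentity element of p-power order. -/
theorem result {G : Type*} [Group G] [Finite G] {p : ℕ} [Fact p.Prime] (hp : p ≠ 2) : (Cfsg.Involves (DihedralGroup p) G ↔ ∃ (x : G) (P : Subgroup G), (∃ k : ℕ, orderOf x = 2 ^ k) ∧ IsPGroup p ↥P ∧ x ∈ Subgroup.normalizer (P : Set G) ∧ x ∉ Subgroup.centralizer (P : Set G)) ∧ (Cfsg.Involves (DihedralGroup p) G ↔ ∃ x y : G, (∃ k : ℕ, orderOf x = 2 ^ k) ∧ (∃ k : ℕ, orderOf y = p ^ k) ∧ y ≠ 1 ∧ x * y * x⁻¹ = y⁻¹) := by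
  classical
  have hp' : p.Prime := Fact.out
  have BC : ∀ (x : G) (P : Subgroup G), (∃ k : ℕ, orderOf x = 2 ^ k) → IsPGroup p P →
      x ∈ Subgroup.normalizer (P : Set G) → x ∉ Subgroup.centralizer (P : Set G) →
      ∃ x y : G, (∃ k : ℕ, orderOf x = 2 ^ k) ∧ (∃ k : ℕ, orderOf y = p ^ k) ∧ y ≠ 1 ∧ x * y * x⁻¹ = y⁻¹ := by
    intro x P ⟨k, hk⟩ hP hxP hxC
    have hex : ∃ j, x ^ 2 ^ j ∈ Subgroup.centralizer (P : Set G) :=
      ⟨k, by rw [← hk, pow_orderOf_eq_one]; exact one_mem _⟩
    obtain ⟨j, hj⟩ : ∃ j, Nat.find hex = j + 1 := Nat.exists_eq_succ_of_ne_zero fun h0 => hxC (by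
      have := Nat.find_spec hex
      rwa [h0, pow_zero, pow_one] at this)
    set x' := x ^ 2 ^ j with hx'
    have h1 : x' ∉ Subgroup.centralizer (P : Set G) := Nat.find_min hex (by omega)
    have h2 : x' * x' ∈ Subgroup.centralizer (P : Set G) := by
      have := Nat.find_spec hex
      rwa [hj, pow_succ, pow_mul, pow_two] at this
    obtain ⟨v, hv, hvx⟩ : ∃ v ∈ P, v * x' ≠ x' * v := by
      by_contra h
      push Not at h
      exact h1 (Subgroup.mem_centralizer_iff.2 h)
    set z := v * (x' * v⁻¹ * x'⁻¹) with hz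
    have hxP' : x' ∈ Subgroup.normalizer (P : Set G) := pow_mem hxP _
    have hzP : z ∈ P := P.mul_mem hv ((Subgroup.mem_normalizer_iff.1 hxP' _).1 (P.inv_mem hv))
    obtain ⟨a, ha⟩ := IsPGroup.iff_orderOf.1 hP ⟨z, hzP⟩
    rw [Subgroup.orderOf_mk] at ha
    obtain ⟨b, -, hb⟩ := (Nat.dvd_prime_pow Nat.prime_two).1
      (hk ▸ orderOf_pow_dvd (2 ^ j) : orderOf x' ∣ 2 ^ k)
    refine ⟨x', z, ⟨b, hb⟩, ⟨a, ha⟩, fun h => hvx ?_, ?_⟩
    · rw [hz, mul_eq_one_iff_eq_inv] at h
      have h' := congrArg (fun w => w * x') h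
      simp only [mul_inv_rev, inv_inv, mul_assoc, inv_mul_cancel, mul_one] at h'
      rw [h']
    · have h3 := Subgroup.mem_centralizer_iff.1 h2 v⁻¹ (P.inv_mem hv)
      rw [hz, show x' * (v * (x' * v⁻¹ * x'⁻¹)) * x'⁻¹ = (x' * v * x'⁻¹) * ((x' * x') * v⁻¹ * (x' * x')⁻¹) by group,
        ← h3]
      group
  have CB : ∀ x y : G, (∃ k : ℕ, orderOf x = 2 ^ k) → (∃ k : ℕ, orderOf y = p ^ k) → y ≠ 1 →
      x * y * x⁻¹ = y⁻¹ → ∃ (x : G) (P : Subgroup G), (∃ k : ℕ, orderOf x = 2 ^ k) ∧ IsPGroup p P ∧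
        x ∈ Subgroup.normalizer (P : Set G) ∧ x ∉ Subgroup.centralizer (P : Set G) := by
    intro x y hx ⟨k, hk⟩ hy hxy
    refine ⟨x, Subgroup.zpowers y, hx, IsPGroup.of_card (by rw [Nat.card_zpowers, hk]), ?_, fun h => hy ?_⟩
    · refine Cfsg.Agent.Coprime.mem_normalizer_of_conj_smul_eq ?_
      show Subgroup.map (MulAut.conj x).toMonoidHom _ = _
      rw [MonoidHom.map_zpowers]
      show Subgroup.zpowers (x * y * x⁻¹) = _
      rw [hxy, Subgroup.zpowers_inv]
    · have h1 := Subgroup.mem_centralizer_iff.1 h y (Subgroup.mem_zpowers y)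
      rw [← h1, mul_inv_cancel_right] at hxy
      have h2 : y * y = 1 := by nth_rewrite 2 [hxy]; exact mul_inv_cancel y
      have h3 : orderOf y ∣ 2 := orderOf_dvd_of_pow_eq_one (by rw [pow_two, h2])
      rw [hk] at h3
      rw [← orderOf_eq_one_iff, hk]
      rcases Nat.eq_zero_or_pos k with rfl | hk0
      · rfl
      · exact absurd ((Nat.prime_dvd_prime_iff_eq hp' Nat.prime_two).1
          ((dvd_pow_self p hk0.ne').trans h3)) hp
  have CA : ∀ x y : G, (∃ k : ℕ, orderOf x = 2 ^ k) → (∃ k : ℕ, orderOf y = p ^ k) → y ≠ 1 →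
      x * y * x⁻¹ = y⁻¹ → Cfsg.Involves (DihedralGroup p) G := by
    intro x y ⟨m, hm⟩ ⟨k, hk⟩ hy hxy
    obtain ⟨k, rfl⟩ : ∃ k', k = k' + 1 := Nat.exists_eq_succ_of_ne_zero fun h0 => hy (by
      rw [← orderOf_eq_one_iff, hk, h0, pow_zero])
    set z := y ^ p ^ k with hz
    have hzo : orderOf z = p := by
      rw [hz, orderOf_pow' y (pow_ne_zero _ hp'.ne_zero), hk, Nat.gcd_eq_right (pow_dvd_pow p (Nat.le_succ k)),
        pow_succ', Nat.mul_div_cancel _ (pow_pos hp'.pos k)]
    have hxz : x * z * x⁻¹ = z⁻¹ := by rw [hz, ← conj_pow, hxy, inv_pow]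
    set R := Subgroup.zpowers (x * x) with hR
    set K := Subgroup.closure ({x, z} : Set G) with hK
    have hxK : x ∈ K := Subgroup.subset_closure (Set.mem_insert _ _)
    have hzK : z ∈ K := Subgroup.subset_closure (Set.mem_insert_of_mem _ rfl)
    have hxxz : Commute (x * x) z := by
      show x * x * z = z * (x * x)
      calc x * x * z = x * (x * z * x⁻¹) * x⁻¹ * (x * x) := by group
        _ = x * z⁻¹ * x⁻¹ * (x * x) := by rw [hxz]
        _ = (x * z * x⁻¹)⁻¹ * (x * x) := by group
        _ = z * (x * x) := by rw [hxz, inv_inv]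
    have hKR : K ≤ Subgroup.centralizer {x * x} := by
      rw [hK, Subgroup.closure_le]
      rintro w (rfl | rfl)
      · exact Subgroup.mem_centralizer_singleton_iff.2 (by group)
      · exact Subgroup.mem_centralizer_singleton_iff.2 hxxz.eq.symm
    have hn : (R.subgroupOf K).Normal := by
      refine Cfsg.Agent.Coprime.normal_subgroupOf_of_le_normalizer (hKR.trans ?_)
      rw [← Subgroup.centralizer_closure, ← Subgroup.zpowers_eq_closure]
      exact Subgroup.centralizer_le_normalizer _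
    let π := QuotientGroup.mk' (R.subgroupOf K)
    set X : K ⧸ R.subgroupOf K := π ⟨x, hxK⟩ with hX
    set Z : K ⧸ R.subgroupOf K := π ⟨z, hzK⟩ with hZ
    have hXX : X * X = 1 := by
      rw [hX, ← map_mul, QuotientGroup.mk'_apply, QuotientGroup.eq_one_iff]
      exact Subgroup.mem_zpowers (x * x)
    have hXi : X⁻¹ = X := inv_eq_of_mul_eq_one_right hXX
    have hZp : Z ^ p = 1 := by
      rw [hZ, ← map_pow, show (⟨z, hzK⟩ : K) ^ p = 1 from
        Subtype.ext (by simp [← hzo, pow_orderOf_eq_one]), map_one]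
    have hXZ : X * Z * X⁻¹ = Z⁻¹ := by
      rw [hX, hZ, ← map_mul, ← map_inv, ← map_mul, ← map_inv]
      exact congrArg π (Subtype.ext hxz)
    have hXZn : ∀ n : ℕ, X * Z ^ n = (Z ^ n)⁻¹ * X := fun n => by
      rw [← inv_pow, ← hXZ, conj_pow, inv_mul_cancel_right]
    let f : DihedralGroup p → K ⧸ R.subgroupOf K := fun d => match d with
      | DihedralGroup.r i => Z ^ i.val
      | DihedralGroup.sr i => X * Z ^ i.val
    have hadd : ∀ i j : ZMod p, Z ^ (i + j).val = Z ^ i.val * Z ^ j.val := fun i j => by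
      rw [← pow_add, ZMod.val_add, ← pow_eq_pow_mod _ hZp]
    have hsub : ∀ i j : ZMod p, Z ^ (j - i).val = (Z ^ i.val)⁻¹ * Z ^ j.val := fun i j => by
      rw [eq_inv_mul_iff_mul_eq, ← hadd, add_sub_cancel]
    let φ : DihedralGroup p →* K ⧸ R.subgroupOf K := MonoidHom.mk' f fun a b => by
      cases a with
      | r i => cases b with
        | r j => exact hadd i j
        | sr j =>
          show X * Z ^ (j - i).val = Z ^ i.val * (X * Z ^ j.val)
          rw [hsub, ← mul_assoc X]
          have := hXZn i.val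
          rw [← mul_assoc (Z ^ i.val), show Z ^ i.val * X = X * (Z ^ i.val)⁻¹ from ?_]
          apply mul_left_cancel (a := X)
          rw [← mul_assoc, hXZn, mul_assoc, hXX, mul_one, ← mul_assoc, hXX, one_mul]
      | sr i => cases b with
        | r j =>
          show X * Z ^ (i + j).val = X * Z ^ i.val * Z ^ j.val
          rw [hadd, mul_assoc]
        | sr j =>
          show Z ^ (j - i).val = X * Z ^ i.val * (X * Z ^ j.val)
          rw [hsub, hXZn, ← mul_assoc, mul_assoc _ X X, hXX, mul_one]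
    have hsurj : Function.Surjective φ := by
      rw [← MonoidHom.range_eq_top, eq_top_iff]
      rintro q -
      obtain ⟨⟨w, hw⟩, rfl⟩ := QuotientGroup.mk'_surjective _ q
      induction hw using Subgroup.closure_induction with
      | mem w hw =>
          rcases hw with rfl | rfl
          · exact ⟨DihedralGroup.sr 0, by show X * Z ^ (0 : ZMod p).val = _; rw [ZMod.val_zero, pow_zero, mul_one]⟩
          · exact ⟨DihedralGroup.r 1, by show Z ^ (1 : ZMod p).val = _; rw [ZMod.val_one, pow_one]⟩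
      | one => exact one_mem φ.range
      | mul a b _ _ ha hb => exact mul_mem ha hb
      | inv a _ ha => exact inv_mem ha
    have hinj : Function.Injective φ := by
      have hcard : 2 * p ∣ Nat.card (K ⧸ R.subgroupOf K) := by
        refine (Nat.coprime_two_left.2 (hp'.odd_of_ne_two hp)).mul_dvd_of_dvd_of_dvd ?_ ?_
        · have : orderOf X = 2 := orderOf_eq_prime (by rw [pow_two, hXX]) fun h1 => by
            rw [hX, QuotientGroup.mk'_apply, QuotientGroup.eq_one_iff] at h1
            obtain ⟨i, hi⟩ := h1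
            have h2 : x * z * x⁻¹ = z := by
              have : Commute x z := by
                rw [show x = (x * x) ^ i from hi.symm]
                exact hxxz.zpow_left i
              rw [this.eq, mul_inv_cancel_right]
            rw [hxz] at h2
            have h3 : orderOf z ∣ 2 := orderOf_dvd_of_pow_eq_one (by
              rw [pow_two]; nth_rewrite 1 [← h2]; exact inv_mul_cancel z)
            rw [hzo] at h3
            exact hp ((Nat.prime_dvd_prime_iff_eq hp' Nat.prime_two).1 h3)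
          exact this ▸ orderOf_dvd_natCard X
        · have : orderOf Z = p := orderOf_eq_prime hZp fun h1 => by
            rw [hZ, QuotientGroup.mk'_apply, QuotientGroup.eq_one_iff] at h1
            obtain ⟨i, hi⟩ := h1
            obtain ⟨e, -, he⟩ := (Nat.dvd_prime_pow Nat.prime_two).1
              (show orderOf z ∣ 2 ^ m by
                rw [← hm, show z = (x * x) ^ i from hi.symm, ← pow_two]
                exact orderOf_dvd_of_pow_eq_one (by
                  rw [← zpow_natCast, ← zpow_mul, mul_comm, zpow_mul, zpow_natCast, ← pow_mul, mul_comm,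
                    pow_mul, pow_orderOf_eq_one, one_pow, one_zpow]))
            rw [hzo] at he
            rcases Nat.eq_zero_or_pos e with rfl | he0
            · exact hp'.ne_one he
            · exact hp ((Nat.prime_dvd_prime_iff_eq Nat.prime_two hp').1 (he ▸ dvd_pow_self 2 he0.ne')).symm
          exact this ▸ orderOf_dvd_natCard Z
      have hbij : Function.Bijective φ := (Nat.bijective_iff_surjective_and_card φ).2 ⟨hsurj, by
        refine le_antisymm ?_ (Nat.card_le_card_of_surjective φ hsurj)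
        rw [DihedralGroup.nat_card]
        exact Nat.le_of_dvd Nat.card_pos hcard⟩
      exact hbij.1
    exact ⟨K, R, hn, ⟨(MulEquiv.ofBijective φ ⟨hinj, hsurj⟩).symm⟩⟩
  have AB : Cfsg.Involves (DihedralGroup p) G →
      ∃ (x : G) (P : Subgroup G), (∃ k : ℕ, orderOf x = 2 ^ k) ∧ IsPGroup p P ∧
        x ∈ Subgroup.normalizer (P : Set G) ∧ x ∉ Subgroup.centralizer (P : Set G) := by
    rintro ⟨K, R, hn, ⟨e⟩⟩
    let f : K →* DihedralGroup p := e.toMonoidHom.comp (QuotientGroup.mk' _)
    have hf : Function.Surjective f := e.surjective.comp (QuotientGroup.mk'_surjective _)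
    let C : Subgroup (DihedralGroup p) := Subgroup.zpowers (DihedralGroup.r 1)
    have hCn : C.Normal := Subgroup.normal_of_index_eq_two (by
      have h1 := Subgroup.card_mul_index C
      rw [Nat.card_zpowers, DihedralGroup.orderOf_r_one, DihedralGroup.nat_card, Nat.mul_comm 2] at h1
      exact Nat.eq_of_mul_eq_mul_left hp'.pos h1)
    let N : Subgroup K := C.comap f
    let g : N →* C := (f.comp N.subtype).codRestrict C fun n => n.2
    have hg : Function.Surjective g := by
      rintro ⟨c, hc⟩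
      obtain ⟨k, rfl⟩ := hf c
      exact ⟨⟨k, hc⟩, Subtype.ext rfl⟩
    let T₀ : Sylow p N := default
    have hT : ((DihedralGroup.r 1 : DihedralGroup p)) ∈ ((T₀ : Subgroup N).map N.subtype).map f := by
      have h1 : (T₀.mapSurjective hg : Subgroup C) = ⊤ := Subgroup.eq_top_of_card_eq _ (by
        rw [(T₀.mapSurjective hg).card_eq_multiplicity, Nat.card_zpowers, DihedralGroup.orderOf_r_one,
          hp'.factorization_self, pow_one])
      rw [Sylow.coe_mapSurjective] at h1
      obtain ⟨t, ht, htr⟩ := (h1 ▸ Subgroup.mem_top _ :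
        (⟨DihedralGroup.r 1, Subgroup.mem_zpowers _⟩ : C) ∈ Subgroup.map g (T₀ : Subgroup N))
      exact ⟨t.1, ⟨t, ht, rfl⟩, congrArg Subtype.val htr⟩
    set T : Subgroup K := (T₀ : Subgroup N).map N.subtype with hTdef
    obtain ⟨k, hk⟩ := hf (DihedralGroup.sr 0)
    have hmem : k ∈ Subgroup.normalizer (T : Set K) ⊔ N := by
      rw [hTdef, Sylow.normalizer_sup_eq_top T₀]; exact Subgroup.mem_top k
    have hNn : N.Normal := hCn.comap f
    obtain ⟨a, ha, n, hn', rfl⟩ := (Cfsg.Agent.Coprime.mem_sup_iff_of_le_normalizer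
      (le_top.trans (Subgroup.normalizer_eq_top_iff.2 hNn).ge)).1 hmem
    obtain ⟨i, hi⟩ : ∃ i : ZMod p, f a = DihedralGroup.sr i := by
      obtain ⟨j, hj⟩ := (show f n ∈ C from hn')
      refine ⟨-(j : ZMod p), ?_⟩
      have hj' : f n = DihedralGroup.r (j : ZMod p) := by
        rw [← hj]
        exact DihedralGroup.r_one_zpow j
      rw [map_mul, hj'] at hk
      rw [eq_mul_inv_of_mul_eq hk, DihedralGroup.inv_r, DihedralGroup.sr_mul_r, zero_add]
    set e2 := (orderOf a).factorization 2 with he2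
    set m := orderOf a / 2 ^ e2 with hm
    have hmodd : Odd m := by
      rw [Nat.odd_iff]
      exact Nat.two_dvd_ne_zero.1 (Nat.not_dvd_ordCompl Nat.prime_two (orderOf_pos a).ne')
    set b := a ^ m with hb
    have hfb : f b = DihedralGroup.sr i := by
      rw [hb, map_pow, hi]
      obtain ⟨q, hq⟩ := hmodd
      rw [hq, pow_succ, pow_mul, pow_two, DihedralGroup.sr_mul_self, one_pow, one_mul]
    have hbT : b ∈ Subgroup.normalizer (T : Set K) := pow_mem ha m
    have hbo : orderOf b = 2 ^ e2 := by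
      rw [hb, orderOf_pow' a hmodd.pos.ne', hm, Nat.gcd_eq_right (Nat.ordCompl_dvd _ 2),
        Nat.div_div_self (Nat.ordProj_dvd _ _) (orderOf_pos a).ne']
    refine ⟨(b : G), T.map K.subtype, ⟨e2, by rw [Subgroup.orderOf_coe, hbo]⟩,
      (T₀.2.map _).map _, Subgroup.le_normalizer_map K.subtype ⟨b, hbT, rfl⟩, fun hc => ?_⟩
    obtain ⟨t, ht, htr⟩ := hT
    have h1 := Subgroup.mem_centralizer_iff.1 hc (t : G) ⟨t, ht, rfl⟩
    have h2 : t * b = b * t := Subtype.ext h1
    have h3 := congrArg f h2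
    rw [map_mul, map_mul, htr, hfb, DihedralGroup.r_mul_sr, DihedralGroup.sr_mul_r,
      DihedralGroup.sr.injEq, sub_eq_add_neg, add_right_inj] at h3
    have h4 : ((2 : ℕ) : ZMod p) = 0 := by
      calc ((2 : ℕ) : ZMod p) = 1 - (-1) := by norm_num
        _ = 0 := sub_eq_zero.2 h3.symm
    exact hp ((Nat.prime_dvd_prime_iff_eq hp' Nat.prime_two).1 ((ZMod.natCast_eq_zero_iff _ _).1 h4))
  refine ⟨⟨AB, fun ⟨x, P, hx, hP, hxP, hxC⟩ => ?_⟩, ⟨fun h => ?_, fun ⟨x, y, hx, hy, hy1, hxy⟩ => CA x y hx hy hy1 hxy⟩⟩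
  · obtain ⟨x', y', hx', hy', hy1, hxy⟩ := BC x P hx hP hxP hxC
    exact CA x' y' hx' hy' hy1 hxy
  · obtain ⟨x, P, hx, hP, hxP, hxC⟩ := AB h
    exact BC x P hx hP hxP hxC

end Cfsg.Agent.S2758
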