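import Cfsg.Statements.S2760
import Cfsg.Agent.Lib.PRed.Basic
import Cfsg.Agent.Lib.Balance.CharP

set_option autoImplicit false
open Cfsg
open scoped commutatorElement

namespace Cfsg.Agent.S2760

/-- Let G be a finite group with C_G(O₂(G)) ≤ O₂(G) and H a subgroup of G such that H is normal in G, or the subgroup O²(H) generated by the elements of H of odd order is normal in G. Then C_H(O₂(H)) ≤ O₂(H). -/
theorem result {G : Type*} [Group G] [Finite G] (hchar : Subgroup.centralizer (Cfsg.pCore 2 G : Set G) ≤ Cfsg.pCore 2 G) (H : Subgroup G) (hH : H.Normal ∨ ((Cfsg.pResidual 2 ↥H).map H.subtype).Normal) : Subgroup.centralizer (Cfsg.pCore 2 ↥H : Set ↥H) ≤ Cfsg.pCore 2 ↥H := by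
  have : Fact (Nat.Prime 2) := ⟨Nat.prime_two⟩
  rcases hH with hH | hR
  · exact Cfsg.Agent.LocalChar.cp_of_normal hchar hH
  · set R := (Cfsg.pResidual 2 ↥H).map H.subtype with hRdef
    have hRH : R ≤ H := Subgroup.map_subtype_le _
    have hcpR : Cfsg.Agent.LocalChar.CP 2 ↥R := Cfsg.Agent.LocalChar.cp_of_normal hchar hR
    refine Cfsg.Agent.LocalChar.cp_of_forall fun b hb hd => ?_
    have hbR : (b : G) ∈ R := ⟨b, Cfsg.Agent.PRed.mem_pResidual_of_not_dvd hd, rfl⟩
    have hcore : Cfsg.Agent.Balance.core 2 R ≤ Cfsg.Agent.Balance.core 2 H :=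
      Cfsg.Agent.Balance.core_le_core hRH (le_top.trans (Subgroup.normalizer_eq_top_iff.2 hR).ge)
    have h1 : (⟨(b : G), hbR⟩ : ↥R) = 1 := by
      refine Cfsg.Agent.LocalChar.cp_elim hcpR (fun q hq => ?_) ?_
      · obtain ⟨q', hq', he⟩ := hcore ⟨q, hq, rfl⟩
        refine Subtype.ext ?_
        have h2 := congrArg Subtype.val (hb q' hq').eq
        show (b : G) * q = q * b
        rw [← (show (q' : G) = (q : G) from he)]
        exact h2
      · rw [Subgroup.orderOf_mk, Subgroup.orderOf_coe]; exact hd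
    exact Subtype.ext (congrArg (fun z : ↥R => (z : G)) h1)

end Cfsg.Agent.S2760
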