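import Cfsg.Statements.S2762
import Cfsg.Agent.Lib.NaturalSL2.Coords
import Cfsg.Agent.Lib.PCore.Basic
-- import your own Cfsg.Agent.* helpers here

set_option autoImplicit false
open Cfsg

namespace Cfsg.Agent.S2762

section

open Matrix

variable {F : Type*} [Field F]

local notation "M3" => Matrix (Fin 3) (Fin 3) F
local notation "SL2" => Matrix.SpecialLinearGroup (Fin 2) F

/-- An entry. -/
def ent (M : ↥(Cfsg.qdOver F)) (i j : Fin 3) : F :=
  ((M : Matrix.SpecialLinearGroup (Fin 3) F) : M3) i j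

theorem shape_aux (x : Matrix.SpecialLinearGroup (Fin 3) F) (hx : x ∈ Cfsg.qdOver F) :
    (x : M3) 2 0 = 0 ∧ (x : M3) 2 1 = 0 ∧ (x : M3) 2 2 = 1 := by
  induction hx using Subgroup.closure_induction with
  | mem x hx => exact hx
  | one => simp
  | mul x y _ _ hx hy =>
    simp [Matrix.SpecialLinearGroup.coe_mul, Matrix.mul_apply, Fin.sum_univ_three, hx.1, hx.2.1,
      hx.2.2, hy.1, hy.2.1, hy.2.2]
  | inv x _ hx =>
    have h : (x : M3) * ((x⁻¹ : Matrix.SpecialLinearGroup (Fin 3) F) : M3) = 1 := by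
      exact (Matrix.SpecialLinearGroup.coe_mul x x⁻¹).symm.trans (by rw [mul_inv_cancel]; rfl)
    have e : ∀ j, ((x⁻¹ : Matrix.SpecialLinearGroup (Fin 3) F) : M3) 2 j = (1 : M3) 2 j := by
      intro j
      rw [← congrFun (congrFun h 2) j]
      simp [Matrix.mul_apply, Fin.sum_univ_three, hx.1, hx.2.1, hx.2.2,
        -Matrix.SpecialLinearGroup.coe_inv]
    refine ⟨?_, ?_, ?_⟩ <;> rw [e] <;> simp

theorem shape (M : ↥(Cfsg.qdOver F)) : ent M 2 0 = 0 ∧ ent M 2 1 = 0 ∧ ent M 2 2 = 1 :=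
  shape_aux _ M.2

theorem ent_mul (M N : ↥(Cfsg.qdOver F)) (i j : Fin 3) :
    ent (M * N) i j = ent M i 0 * ent N 0 j + ent M i 1 * ent N 1 j + ent M i 2 * ent N 2 j := by
  simp [ent, Subgroup.coe_mul, Matrix.SpecialLinearGroup.coe_mul, Matrix.mul_apply, Fin.sum_univ_three]

theorem ent_one (i j : Fin 3) : ent (1 : ↥(Cfsg.qdOver F)) i j = (1 : M3) i j := rfl

/-- The element with linear part `A` and translation part `v`. -/
def mkA (A : SL2) (v : Fin 2 → F) : ↥(Cfsg.qdOver F) :=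
  ⟨⟨!![A 0 0, A 0 1, v 0; A 1 0, A 1 1, v 1; 0, 0, 1], by
    have hd := A.2
    rw [Matrix.det_fin_two] at hd
    simp [Matrix.det_fin_three]
    linear_combination hd⟩, Subgroup.subset_closure ⟨rfl, rfl, rfl⟩⟩

theorem mkA_mul (A B : SL2) (v w : Fin 2 → F) :
    mkA A v * mkA B w = mkA (A * B) ((A : Matrix (Fin 2) (Fin 2) F) *ᵥ w + v) := by
  apply Subtype.ext; apply Subtype.ext
  ext i j
  show ent (mkA A v * mkA B w) i j = ent (mkA (A * B) _) i j
  rw [ent_mul]
  fin_cases i <;> fin_cases j <;>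
    simp [ent, mkA, Matrix.SpecialLinearGroup.coe_mul, Matrix.mul_apply, Matrix.mulVec, dotProduct,
      Fin.sum_univ_two]

theorem mkA_one : mkA (1 : SL2) (0 : Fin 2 → F) = 1 := by
  apply Subtype.ext; apply Subtype.ext
  ext i j
  fin_cases i <;> fin_cases j <;> simp [mkA]

theorem mkA_surj (M : ↥(Cfsg.qdOver F)) : ∃ A v, M = mkA A v := by
  obtain ⟨h0, h1, h2⟩ := shape M
  refine ⟨⟨!![ent M 0 0, ent M 0 1; ent M 1 0, ent M 1 1], ?_⟩, ![ent M 0 2, ent M 1 2], ?_⟩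
  · have hd := M.1.2
    rw [Matrix.det_fin_three] at hd
    simp only [ent] at *
    rw [h0, h1, h2] at hd
    simp [Matrix.det_fin_two]
    linear_combination hd
  · apply Subtype.ext; apply Subtype.ext
    ext i j
    fin_cases i <;> fin_cases j
    exacts [rfl, rfl, rfl, rfl, rfl, rfl, h0, h1, h2]

theorem mkA_inj {A B : SL2} {v w : Fin 2 → F} (h : mkA A v = mkA B w) : A = B ∧ v = w := by
  have e : ∀ i j, ent (mkA A v) i j = ent (mkA B w) i j := fun i j => by rw [h]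
  refine ⟨Subtype.ext (Matrix.ext fun i j => ?_), funext fun i => ?_⟩
  · fin_cases i <;> fin_cases j
    exacts [e 0 0, e 0 1, e 1 0, e 1 1]
  · fin_cases i
    exacts [e 0 2, e 1 2]

/-- The linear part. -/
noncomputable def lin : ↥(Cfsg.qdOver F) →* SL2 :=
  MonoidHom.mk' (fun M => (mkA_surj M).choose) fun M N => by
    obtain ⟨v, hv⟩ := (mkA_surj M).choose_spec
    obtain ⟨w, hw⟩ := (mkA_surj N).choose_spec
    obtain ⟨u, hu⟩ := (mkA_surj (M * N)).choose_spec
    exact (mkA_inj (hu.symm.trans ((congrArg₂ (· * ·) hv hw).trans (mkA_mul _ _ _ _)))).1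

theorem lin_mkA (A : SL2) (v : Fin 2 → F) : lin (mkA A v) = A := by
  obtain ⟨w, hw⟩ := (mkA_surj (mkA A v)).choose_spec
  exact (mkA_inj hw).1.symm

theorem mkA_conj (A : SL2) (v w : Fin 2 → F) :
    mkA A v * mkA 1 w * (mkA A v)⁻¹ = mkA 1 ((A : Matrix (Fin 2) (Fin 2) F) *ᵥ w) := by
  rw [mul_inv_eq_iff_eq_mul, mkA_mul, mkA_mul, mul_one, one_mul]
  congr 1
  simp [add_comm]

/-- The block-diagonal subgroup. -/
def blockDiag : Subgroup ↥(Cfsg.qdOver F) where
  carrier := {M | ent M 0 2 = 0 ∧ ent M 1 2 = 0}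
  one_mem' := ⟨rfl, rfl⟩
  mul_mem' := by
    rintro M N ⟨a, b⟩ ⟨c, d⟩
    constructor <;> rw [ent_mul] <;> simp [a, b, c, d]
  inv_mem' := by
    intro M hM
    obtain ⟨A, v, rfl⟩ := mkA_surj M
    have hv : v = 0 := by
      funext i; fin_cases i
      exacts [hM.1, hM.2]
    subst hv
    rw [inv_eq_of_mul_eq_one_right (a := mkA A 0) (b := mkA A⁻¹ 0)
      (by rw [mkA_mul, mul_inv_cancel, Matrix.mulVec_zero, add_zero, mkA_one])]
    exact ⟨rfl, rfl⟩

theorem mem_blockDiag_iff {A : SL2} {v : Fin 2 → F} : mkA A v ∈ blockDiag ↔ v = 0 := by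
  constructor
  · intro h
    funext i; fin_cases i
    exacts [h.1, h.2]
  · rintro rfl; exact ⟨rfl, rfl⟩

variable [Fintype F] {p : ℕ} [Fact p.Prime] [CharP F p]

theorem pCore_eq_ker : Cfsg.pCore p ↥(Cfsg.qdOver F) = (lin (F := F)).ker := by
  haveI : Finite ↥(Cfsg.qdOver F) := inferInstance
  refine le_antisymm ?_ ?_
  · intro M hM
    have hm : lin M ∈ Cfsg.pCore p SL2 :=
      PCore.map_pCore_le lin (fun A => ⟨mkA A 0, lin_mkA A 0⟩) ⟨M, hM, rfl⟩
    obtain ⟨n, hp', hn⟩ := FiniteField.card F p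
    obtain ⟨P, hP⟩ := NaturalSL2.exists_sylow_upperUni (F := F) hn
    let w : SL2 := ⟨!![0, -1; 1, 0], by simp [Matrix.det_fin_two]⟩
    have h1 : lin M ∈ NaturalSL2.upperUni F := hP ▸ PCore.pCore_le_sylow P hm
    have h2 : w * lin M * w⁻¹ ∈ NaturalSL2.upperUni F :=
      hP ▸ PCore.pCore_le_sylow P ((inferInstance : (Cfsg.pCore p SL2).Normal).conj_mem _ hm w)
    have h3 : ((w * lin M * w⁻¹ : SL2) : Matrix (Fin 2) (Fin 2) F) * (w : Matrix (Fin 2) (Fin 2) F) =
        (w : Matrix (Fin 2) (Fin 2) F) * (lin M : Matrix (Fin 2) (Fin 2) F) := by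
      rw [← Matrix.SpecialLinearGroup.coe_mul, ← Matrix.SpecialLinearGroup.coe_mul, inv_mul_cancel_right]
    rw [NaturalSL2.apply_of_mem_upperUni h1, NaturalSL2.apply_of_mem_upperUni h2] at h3
    have e11 := congrFun (congrFun h3 1) 1
    simp [w, Matrix.mul_apply, Fin.sum_univ_two] at e11
    rw [MonoidHom.mem_ker]
    apply Subtype.ext
    rw [NaturalSL2.apply_of_mem_upperUni h1, Matrix.SpecialLinearGroup.coe_one, Matrix.one_fin_two, ← e11]
  · refine PCore.le_pCore fun M => ?_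
    obtain ⟨A, v, hM⟩ := mkA_surj M.1
    have hA : A = 1 := by rw [← lin_mkA A v, ← hM]; exact M.2
    subst hA
    have hpow : ∀ k : ℕ, (mkA (1 : SL2) v) ^ k = mkA 1 ((k : F) • v) := by
      intro k
      induction k with
      | zero => simp [mkA_one]
      | succ k ih =>
        rw [pow_succ, ih, mkA_mul, one_mul, Matrix.SpecialLinearGroup.coe_one, Matrix.one_mulVec]
        congr 1
        push_cast
        rw [add_smul, one_smul, add_comm]
    refine ⟨1, Subtype.ext ?_⟩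
    rw [Subgroup.coe_pow, hM, pow_one, hpow, CharP.cast_eq_zero, zero_smul, mkA_one, Subgroup.coe_one]

theorem mem_pCore_iff {A : SL2} {v : Fin 2 → F} :
    mkA A v ∈ Cfsg.pCore p ↥(Cfsg.qdOver F) ↔ A = 1 := by
  rw [pCore_eq_ker, MonoidHom.mem_ker, lin_mkA]

end

open Matrix in
/-- Structure of Qd over a finite field F of characteristic p (the affine subgroup of SL₃(F)): its largest normal p-subgroup is the group of translations (matrices with upper-left block the identity), the block-diagonal matrices form a complement isomorphic to SL₂(F), and the translation subgroup is a natural SL₂(F)-module for that complement. -/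
theorem result {F : Type*} [Field F] [Fintype F] {p : ℕ} [Fact p.Prime] [CharP F p] : (∀ M : ↥(Cfsg.qdOver F), M ∈ Cfsg.pCore p ↥(Cfsg.qdOver F) ↔ ((M : Matrix.SpecialLinearGroup (Fin 3) F) : Matrix (Fin 3) (Fin 3) F) 0 0 = 1 ∧ ((M : Matrix.SpecialLinearGroup (Fin 3) F) : Matrix (Fin 3) (Fin 3) F) 0 1 = 0 ∧ ((M : Matrix.SpecialLinearGroup (Fin 3) F) : Matrix (Fin 3) (Fin 3) F) 1 0 = 0 ∧ ((M : Matrix.SpecialLinearGroup (Fin 3) F) : Matrix (Fin 3) (Fin 3) F) 1 1 = 1) ∧ ∃ K : Subgroup ↥(Cfsg.qdOver F), (∀ M : ↥(Cfsg.qdOver F), M ∈ K ↔ ((M : Matrix.SpecialLinearGroup (Fin 3) F) : Matrix (Fin 3) (Fin 3) F) 0 2 = 0 ∧ ((M : Matrix.SpecialLinearGroup (Fin 3) F) : Matrix (Fin 3) (Fin 3) F) 1 2 = 0) ∧ K ⊓ Cfsg.pCore p ↥(Cfsg.qdOver F) = ⊥ ∧ K ⊔ Cfsg.pCore p ↥(Cfsg.qdOver F) = ⊤ ∧ Nonempty (↥K ≃* Matrix.SpecialLinearGroup (Fin 2) F) ∧ Cfsg.IsNaturalSL2Module F (Cfsg.pCore p ↥(Cfsg.qdOver F)) K := by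
  refine ⟨fun M => ?_, blockDiag, fun M => Iff.rfl, ?_, ?_, ?_, ?_⟩
  · obtain ⟨A, v, rfl⟩ := mkA_surj M
    rw [mem_pCore_iff]
    constructor
    · rintro rfl
      exact ⟨rfl, rfl, rfl, rfl⟩
    · rintro ⟨a, b, c, d⟩
      apply Subtype.ext
      rw [Matrix.SpecialLinearGroup.coe_one, Matrix.one_fin_two]
      ext i j
      fin_cases i <;> fin_cases j
      exacts [a, b, c, d]
  · rw [eq_bot_iff]
    rintro M ⟨hM, hM'⟩
    obtain ⟨A, v, rfl⟩ := mkA_surj M
    rw [mem_blockDiag_iff.1 hM, mem_pCore_iff.1 hM', mkA_one]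
    exact Subgroup.one_mem _
  · refine eq_top_iff.2 fun M _ => ?_
    obtain ⟨A, v, rfl⟩ := mkA_surj M
    have h1 := Subgroup.mul_mem _
      (Subgroup.mem_sup_right (S := blockDiag) (mem_pCore_iff.2 rfl : mkA (1 : Matrix.SpecialLinearGroup (Fin 2) F) v ∈ Cfsg.pCore p ↥(Cfsg.qdOver F)))
      (Subgroup.mem_sup_left (T := Cfsg.pCore p ↥(Cfsg.qdOver F)) (mem_blockDiag_iff.2 rfl : mkA A 0 ∈ blockDiag))
    rwa [mkA_mul, one_mul, Matrix.SpecialLinearGroup.coe_one, Matrix.one_mulVec, zero_add] at h1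
  · refine ⟨MulEquiv.ofBijective (lin.comp (blockDiag (F := F)).subtype) ⟨?_, fun A => ?_⟩⟩
    · rintro ⟨M, hM⟩ ⟨N, hN⟩ h
      obtain ⟨A, v, rfl⟩ := mkA_surj M
      obtain ⟨B, w, rfl⟩ := mkA_surj N
      simp only [MonoidHom.coe_comp, Function.comp_apply, Subgroup.coe_subtype, lin_mkA] at h
      subst h
      exact Subtype.ext (by simp [mem_blockDiag_iff.1 hM, mem_blockDiag_iff.1 hN])
    · exact ⟨⟨mkA A 0, mem_blockDiag_iff.2 rfl⟩, lin_mkA A 0⟩
  · refine ⟨?_, ?_⟩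
    · rw [Subgroup.normalizer_eq_top_iff.2 inferInstance]; exact le_top
    set V := Cfsg.pCore p ↥(Cfsg.qdOver F)
    let vec : V → (Fin 2 → F) := fun M => ![ent M.1 0 2, ent M.1 1 2]
    have hvec : ∀ (M : V), M.1 = mkA 1 (vec M) := by
      intro M
      obtain ⟨A, v, hM⟩ := mkA_surj M.1
      have hA : A = 1 := mem_pCore_iff.1 (hM ▸ M.2)
      subst hA
      rw [hM]
      congr 1
      funext i; fin_cases i <;> simp [vec, hM, ent, mkA]
    have hinj : Function.Injective vec := fun M N h => Subtype.ext (by rw [hvec M, hvec N, h])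
    have hadd : ∀ M N, vec (M * N) = vec M + vec N := by
      intro M N
      have h1 : (M * N).1 = M.1 * N.1 := rfl
      rw [hvec (M * N), hvec M, hvec N, mkA_mul, one_mul, Matrix.SpecialLinearGroup.coe_one,
        Matrix.one_mulVec] at h1
      rw [(mkA_inj h1).2, add_comm]
    let e : Additive V ≃+ (Fin 2 → F) := AddEquiv.ofBijective
      (AddMonoidHom.mk' (fun M : Additive V => vec (Additive.toMul M)) fun M N => hadd _ _)
      ⟨fun M N h => Additive.toMul.injective (hinj h), fun v => ⟨Additive.ofMul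
        ⟨mkA 1 v, mem_pCore_iff.2 rfl⟩, by
          show vec ⟨mkA 1 v, _⟩ = v
          funext i; fin_cases i <;> rfl⟩⟩
    refine ⟨lin.comp (blockDiag (F := F)).subtype, e, fun A => ⟨⟨mkA A 0, mem_blockDiag_iff.2 rfl⟩, lin_mkA A 0⟩,
      ?_, fun l v => ?_⟩
    · ext ⟨M, hM⟩
      obtain ⟨A, w, rfl⟩ := mkA_surj M
      have hw := mem_blockDiag_iff.1 hM
      subst hw
      rw [MonoidHom.mem_ker, Subgroup.mem_subgroupOf, Subgroup.mem_centralizer_iff]
      simp only [MonoidHom.coe_comp, Function.comp_apply, Subgroup.coe_subtype, lin_mkA]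
      constructor
      · rintro rfl N -
        rw [mkA_one, mul_one, one_mul]
      · intro h
        have hfix : ∀ x : Fin 2 → F, (A : Matrix (Fin 2) (Fin 2) F) *ᵥ x = x := by
          intro x
          have h1 := h (mkA 1 x) (mem_pCore_iff.2 rfl)
          rw [mkA_mul, mkA_mul] at h1
          have h2 := (mkA_inj h1).2
          simpa using h2.symm
        apply Subtype.ext
        rw [Matrix.SpecialLinearGroup.coe_one]
        exact Matrix.ext_of_mulVec_single fun i => by rw [hfix, Matrix.one_mulVec]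
    · obtain ⟨A, w, hl⟩ := mkA_surj l.1
      have hw : w = 0 := mem_blockDiag_iff.1 (hl ▸ l.2)
      subst hw
      refine ⟨⟨mkA 1 ((A : Matrix (Fin 2) (Fin 2) F) *ᵥ vec v), mem_pCore_iff.2 rfl⟩, ?_, ?_⟩
      · show mkA 1 _ = (l : ↥(Cfsg.qdOver F)) * v.1 * (l : ↥(Cfsg.qdOver F))⁻¹
        rw [hl, hvec v, mkA_conj]
      · show vec ⟨mkA 1 _, _⟩ = ((lin l.1 : Matrix.SpecialLinearGroup (Fin 2) F) : Matrix (Fin 2) (Fin 2) F) *ᵥ vec v
        rw [hl, lin_mkA]
        funext i; fin_cases i <;> rfl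

end Cfsg.Agent.S2762
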