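import Cfsg.Statements.S2763
import Cfsg.Agent.Lib.Qd.TISylow
import Cfsg.Agent.Lib.PGroup.Basic
-- import your own Cfsg.Agent.* helpers here

set_option autoImplicit false
open Cfsg

namespace Cfsg.Agent.S2763

section

open Matrix Subgroup
open scoped Pointwise

variable {p : ℕ} [Fact p.Prime]

set_option quotPrecheck false in
local notation "Q" => ↥(Cfsg.qd p)

/-- An entry. -/
def ent (M : Q) (i j : Fin 3) : ZMod p := (M.1 : Matrix (Fin 3) (Fin 3) (ZMod p)) i j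

theorem shape (M : Q) : ent M 2 0 = 0 ∧ ent M 2 1 = 0 ∧ ent M 2 2 = 1 := Qd.qd_shape _ M.2

theorem ent_mul (M N : Q) (i j : Fin 3) :
    ent (M * N) i j = ent M i 0 * ent N 0 j + ent M i 1 * ent N 1 j + ent M i 2 * ent N 2 j := by
  simp [ent, Subgroup.coe_mul, Matrix.SpecialLinearGroup.coe_mul, Matrix.mul_apply, Fin.sum_univ_three]

theorem ent_ext {M N : Q} (h : ∀ i j, ent M i j = ent N i j) : M = N :=
  Subtype.ext (Subtype.ext (Matrix.ext h))

theorem ent_one (i j : Fin 3) : ent (1 : Q) i j = (1 : Matrix (Fin 3) (Fin 3) (ZMod p)) i j := rfl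

theorem det_rel (M : Q) : ent M 0 0 * ent M 1 1 - ent M 0 1 * ent M 1 0 = 1 := by
  obtain ⟨h0, h1, h2⟩ := shape M
  have hd := M.1.2
  rw [Matrix.det_fin_three] at hd
  simp only [ent] at *
  rw [h0, h1, h2] at hd
  linear_combination hd

/-- The element with given entries. -/
def mkQ (a b c d e f : ZMod p) (h : a * d - b * c = 1) : Q :=
  ⟨⟨!![a, b, e; c, d, f; 0, 0, 1], by simp [Matrix.det_fin_three]; linear_combination h⟩,
    Subgroup.subset_closure ⟨rfl, rfl, rfl⟩⟩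

theorem ext_mkQ {M : Q} {a b c d e f : ZMod p} {h : a * d - b * c = 1} (h00 : ent M 0 0 = a)
    (h01 : ent M 0 1 = b) (h10 : ent M 1 0 = c) (h11 : ent M 1 1 = d) (h02 : ent M 0 2 = e)
    (h12 : ent M 1 2 = f) : M = mkQ a b c d e f h := by
  obtain ⟨g0, g1, g2⟩ := shape M
  apply ent_ext
  intro i j
  fin_cases i <;> fin_cases j
  exacts [h00, h01, h02, h10, h11, h12, g0, g1, g2]

/-- The upper unitriangular subgroup. -/
def U0 : Subgroup Q where
  carrier := {M | ent M 0 0 = 1 ∧ ent M 1 0 = 0 ∧ ent M 1 1 = 1}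
  one_mem' := ⟨rfl, rfl, rfl⟩
  mul_mem' := by
    rintro M N ⟨a, b, c⟩ ⟨a', b', c'⟩
    obtain ⟨h0, h1, -⟩ := shape N
    refine ⟨?_, ?_, ?_⟩ <;> simp [ent_mul, a, b, c, a', b', c', h0, h1]
  inv_mem' := by
    rintro M ⟨a, b, c⟩
    obtain ⟨h0, h1, -⟩ := shape M
    obtain ⟨k0, k1, -⟩ := shape M⁻¹
    have e00 := ent_mul M⁻¹ M 0 0
    have e10 := ent_mul M⁻¹ M 1 0
    have e11 := ent_mul M⁻¹ M 1 1
    rw [inv_mul_cancel] at e00 e10 e11
    simp [ent_one, a, b, c, h0, h1] at e00 e10 e11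
    refine ⟨e00.symm, e10.symm, ?_⟩
    rw [← e10] at e11
    simpa using e11.symm

/-- `(a, b, c)`. -/
def u (a b c : ZMod p) : ↥(U0 (p := p)) := ⟨mkQ 1 a 0 1 b c (by ring), rfl, rfl, rfl⟩

theorem u_surj (M : ↥(U0 (p := p))) : ∃ a b c, M = u a b c :=
  ⟨ent M.1 0 1, ent M.1 0 2, ent M.1 1 2, Subtype.ext (ext_mkQ (h := by ring) M.2.1 rfl M.2.2.1 M.2.2.2 rfl rfl)⟩

theorem u_mul (a b c a' b' c' : ZMod p) :
    u a b c * u a' b' c' = u (a + a') (b + b' + a * c') (c + c') := by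
  apply Subtype.ext
  apply ext_mkQ <;>
    · (simp [u, ent_mul]
       all_goals simp [mkQ, ent]
       all_goals ring)

theorem u_zero : u (0 : ZMod p) 0 0 = 1 := by
  apply Subtype.ext
  symm
  apply ext_mkQ <;> first | rfl | ring

theorem u_pow (a b c : ZMod p) (k : ℕ) : ∃ b', u a b c ^ k = u ((k : ZMod p) * a) b' ((k : ZMod p) * c) := by
  induction k with
  | zero => exact ⟨0, by simp [u_zero]⟩
  | succ k ih =>
    obtain ⟨b', hb⟩ := ih
    exact ⟨b' + b + (k : ZMod p) * a * c, by rw [pow_succ, hb, u_mul]; push_cast; congr 1 <;> ring⟩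

theorem u_center_pow (b : ZMod p) (k : ℕ) : u 0 b 0 ^ k = u 0 ((k : ZMod p) * b) 0 := by
  induction k with
  | zero => simp [u_zero]
  | succ k ih => rw [pow_succ, ih, u_mul]; push_cast; congr 1 <;> ring

theorem isPGroup_U0 : IsPGroup p ↥(U0 (p := p)) := by
  intro M
  obtain ⟨a, b, c, rfl⟩ := u_surj M
  obtain ⟨b', hb⟩ := u_pow a b c p
  refine ⟨2, ?_⟩
  rw [pow_two, pow_mul, hb]
  simp only [CharP.cast_eq_zero, zero_mul]
  rw [u_center_pow]
  simp [u_zero]

/-- Upper triangular elements normalise `U0`. -/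
theorem mem_normalizer_U0 {g : Q} (h : ent g 1 0 = 0) :
    g ∈ normalizer ((U0 (p := p) : Subgroup Q) : Set Q) := by
  have key : ∀ g : Q, ent g 1 0 = 0 → ∀ M ∈ U0 (p := p), g * M * g⁻¹ ∈ U0 (p := p) := by
    intro g hg M ⟨a, b, c⟩
    obtain ⟨g0, g1, -⟩ := shape g
    obtain ⟨k0, k1, -⟩ := shape g⁻¹
    obtain ⟨m0, m1, -⟩ := shape M
    have hd := det_rel g
    rw [hg, mul_zero, sub_zero] at hd
    have e00 := ent_mul g g⁻¹ 0 0
    have e10 := ent_mul g g⁻¹ 1 0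
    have e11 := ent_mul g g⁻¹ 1 1
    rw [mul_inv_cancel] at e00 e10 e11
    simp [ent_one, hg, k0, k1] at e00 e10 e11
    have h11 : ent g 1 1 ≠ 0 := fun e => by rw [e, mul_zero] at hd; exact zero_ne_one hd
    have i10 : ent g⁻¹ 1 0 = 0 := e10.resolve_left h11
    simp [i10] at e00
    refine ⟨?_, ?_, ?_⟩ <;>
      simp [ent_mul, a, b, c, hg, i10, k0, k1, m0, m1]
    · exact e00.symm
    · exact e11.symm
  refine mem_normalizer_iff.2 fun M => ⟨fun hM => key g h M hM, fun hM => ?_⟩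
  have hg' : ent g⁻¹ 1 0 = 0 := by
    have e10 := ent_mul g g⁻¹ 1 0
    obtain ⟨k0, -, -⟩ := shape g⁻¹
    rw [mul_inv_cancel] at e10
    simp [ent_one, h, k0] at e10
    refine e10.resolve_left fun e => ?_
    have hd := det_rel g
    rw [e, h] at hd
    simp at hd
  simpa [mul_assoc] using key g⁻¹ hg' _ hM

theorem ent10_of_normalizer {g : Q} (h : g ∈ normalizer ((U0 (p := p) : Subgroup Q) : Set Q)) :
    ent g 1 0 = 0 := by
  have h1 := (mem_normalizer_iff.1 h (u 1 0 0).1).1 (u 1 0 0).2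
  set M := g * (u 1 0 0).1 * g⁻¹ with hM
  have hmul : M * g = g * (u 1 0 0).1 := by rw [hM, inv_mul_cancel_right]
  have e1 := ent_mul M g 1 1
  have e2 := ent_mul g (u 1 0 0).1 1 1
  rw [hmul, e2] at e1
  obtain ⟨g0, g1, -⟩ := shape g
  simp [h1.2.1, h1.2.2, g1] at e1
  simpa [u, mkQ, ent] using e1

theorem sylow_eq_U0 : ∃ P : Sylow p Q, (P : Subgroup Q) = U0 (p := p) := by
  obtain ⟨P, hP⟩ := (isPGroup_U0 (p := p)).exists_le_sylow
  refine ⟨P, le_antisymm ?_ hP⟩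
  by_contra hne
  obtain ⟨x, hx, hxU⟩ := SetLike.exists_of_lt
    (PGroup.lt_normalizer P.2 (H := (U0 (p := p)).subgroupOf P) fun e => hne (subgroupOf_eq_top.1 e))
  have hxn : (x : Q) ∈ normalizer ((U0 (p := p) : Subgroup Q) : Set Q) := by
    have h2 := le_normalizer_map (P : Subgroup Q).subtype (mem_map_of_mem _ hx)
    rwa [map_subgroupOf_eq_of_le hP] at h2
  have h10 := ent10_of_normalizer hxn
  obtain ⟨x0, -, -⟩ := shape (x : Q)
  have hk : ∀ k : ℕ, ent ((x : Q) ^ k) 1 0 = 0 ∧ ent ((x : Q) ^ k) 0 0 = ent (x : Q) 0 0 ^ k := by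
    intro k
    induction k with
    | zero => simp [ent_one]
    | succ k ih =>
      rw [pow_succ, ent_mul, ent_mul, ih.1, ih.2, h10, x0]
      constructor <;> ring
  obtain ⟨j, hj⟩ := P.2 x
  have hj' : (x : Q) ^ p ^ j = 1 := congrArg Subtype.val hj
  have h00 : ent (x : Q) 0 0 = 1 := by
    have h1 := (hk (p ^ j)).2
    rw [hj', ZMod.pow_card_pow] at h1
    simpa [ent_one] using h1.symm
  have hd := det_rel (x : Q)
  rw [h00, h10] at hd
  exact hxU (mem_subgroupOf.2 ⟨h00, h10, by linear_combination hd⟩)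

/-- The automorphism of `U0` exchanging the two maximal abelian subgroups. -/
def swapU (M : ↥(U0 (p := p))) : ↥(U0 (p := p)) :=
  u (-ent M.1 1 2) (ent M.1 0 1 * ent M.1 1 2 - ent M.1 0 2) (-ent M.1 0 1)

theorem swapU_u (a b c : ZMod p) : swapU (u a b c) = u (-c) (a * c - b) (-a) := by
  simp [swapU, u, mkQ, ent]

/-- `swapU` as an automorphism. -/
def swapEquiv : ↥(U0 (p := p)) ≃* ↥(U0 (p := p)) where
  toFun := swapU
  invFun := swapU
  left_inv M := by
    obtain ⟨a, b, c, rfl⟩ := u_surj M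
    rw [swapU_u, swapU_u]; congr 1 <;> ring
  right_inv M := by
    obtain ⟨a, b, c, rfl⟩ := u_surj M
    rw [swapU_u, swapU_u]; congr 1 <;> ring
  map_mul' M N := by
    obtain ⟨a, b, c, rfl⟩ := u_surj M
    obtain ⟨a', b', c', rfl⟩ := u_surj N
    rw [u_mul, swapU_u, swapU_u, swapU_u, u_mul]; congr 1 <;> ring

theorem apply_mem {T : Subgroup ↥(U0 (p := p))} (hTc : T.Characteristic)
    (φ : ↥(U0 (p := p)) ≃* ↥(U0 (p := p))) {x : ↥(U0 (p := p))} (hx : x ∈ T) : φ x ∈ T :=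
  (characteristic_iff_map_eq.1 hTc φ).le ⟨x, hx, rfl⟩

theorem core {T : Subgroup ↥(U0 (p := p))} (hT : T ≠ ⊥) (hTc : T.Characteristic) :
    normalizer ((T.map (U0 (p := p)).subtype : Subgroup Q) : Set Q) =
      normalizer ((U0 (p := p) : Subgroup Q) : Set Q) := by
  haveI := hTc
  have hn : T.Normal := inferInstance
  have hinv : ∀ x y z : ZMod p, (u x y z)⁻¹ = u (-x) (x * z - y) (-z) := fun x y z =>
    inv_eq_of_mul_eq_one_right (by rw [u_mul, ← u_zero]; congr 1 <;> ring)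
  have hz : ∀ b, u 0 b 0 ∈ T := by
    obtain ⟨t, ht, ht1⟩ := (T.bot_or_exists_ne_one).resolve_left hT
    obtain ⟨a, b, c, rfl⟩ := u_surj t
    obtain ⟨b₀, hb₀, hb0T⟩ : ∃ b₀ : ZMod p, b₀ ≠ 0 ∧ u 0 b₀ 0 ∈ T := by
      by_cases hac : a = 0 ∧ c = 0
      · obtain ⟨rfl, rfl⟩ := hac
        exact ⟨b, fun e => ht1 (by rw [e, u_zero]), ht⟩
      have hconj : ∀ a' c' : ZMod p, u 0 (a * c' - a' * c) 0 ∈ T := by
        intro a' c'
        have h1 := T.mul_mem ht (hn.conj_mem _ (T.inv_mem ht) (u a' 0 c'))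
        rw [hinv, hinv, u_mul, u_mul, u_mul] at h1
        convert h1 using 2 <;> ring
      by_cases ha : a = 0
      · refine ⟨-c, neg_ne_zero.2 fun e => hac ⟨ha, e⟩, ?_⟩
        simpa [ha] using hconj 1 0
      · refine ⟨a, ha, ?_⟩
        simpa using hconj 0 1
    intro b'
    have h1 := T.pow_mem hb0T (b' / b₀).val
    rwa [u_center_pow, ZMod.natCast_zmod_val, div_mul_cancel₀ _ hb₀] at h1
  refine le_antisymm (fun g hg => ?_) fun g hg => ?_
  · by_contra hgU
    have h10 : ent g 1 0 ≠ 0 := fun e => hgU (mem_normalizer_U0 e)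
    -- `T` contains a translation outside the centre
    obtain ⟨x, hx, hxe⟩ : g * (u 0 1 0).1 * g⁻¹ ∈ T.map (U0 (p := p)).subtype :=
      (mem_normalizer_iff.1 hg _).1 ⟨_, hz 1, rfl⟩
    obtain ⟨a₁, b₁, c₁, rfl⟩ := u_surj x
    have hmul : (u a₁ b₁ c₁).1 * g = g * (u 0 1 0).1 := by
      rw [show ((u a₁ b₁ c₁).1 : Q) = g * (u 0 1 0).1 * g⁻¹ from hxe, inv_mul_cancel_right]
    obtain ⟨g0, g1, g2⟩ := shape g
    have e0 := congrArg (fun M => ent M 0 0) hmul
    have e1 := congrArg (fun M => ent M 1 2) hmul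
    simp [ent_mul, g0, g1, g2] at e0 e1
    simp [u, mkQ, ent] at e0 e1
    simp [ent] at h10 g0 g2
    have ha₁ : a₁ = 0 := by
      rcases e0 with h | h
      · exact h
      · exact absurd h h10
    subst ha₁
    have hc₁ : c₁ ≠ 0 := fun e => h10 (by rw [e] at e1; linear_combination -e1)
    have htr : ∀ b c, u 0 b c ∈ T := by
      intro b c
      obtain ⟨b₂, hb₂⟩ := u_pow 0 b₁ c₁ (c / c₁).val
      rw [mul_zero, ZMod.natCast_zmod_val, div_mul_cancel₀ _ hc₁] at hb₂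
      have h1 := T.mul_mem (hb₂ ▸ T.pow_mem hx (c / c₁).val) (hz (b - b₂))
      rwa [u_mul, add_zero, add_zero, zero_mul, add_zero, add_sub_cancel] at h1
    have hsw : swapU (u 0 0 1) ∈ T := apply_mem hTc swapEquiv (htr 0 1)
    rw [swapU_u, zero_mul, sub_zero, neg_zero] at hsw
    have hTtop : T = ⊤ := by
      refine eq_top_iff.2 fun y _ => ?_
      obtain ⟨a, b, c, rfl⟩ := u_surj y
      obtain ⟨b₂, hb₂⟩ := u_pow (-1 : ZMod p) 0 0 (-a).val
      rw [ZMod.natCast_zmod_val, neg_mul_neg, mul_one, mul_zero] at hb₂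
      have h1 := T.mul_mem (hb₂ ▸ T.pow_mem hsw (-a).val) (htr (b - b₂ - a * c) c)
      rw [u_mul] at h1
      convert h1 using 2 <;> ring
    rw [hTtop, ← MonoidHom.range_eq_map, range_subtype] at hg
    exact hgU hg
  · let φ : ∀ g : Q, g ∈ normalizer ((U0 (p := p) : Subgroup Q) : Set Q) →
        (↥(U0 (p := p)) ≃* ↥(U0 (p := p))) := fun g hg =>
      { toFun := fun x => ⟨g * x.1 * g⁻¹, (mem_normalizer_iff.1 hg _).1 x.2⟩
        invFun := fun x => ⟨g⁻¹ * x.1 * g⁻¹⁻¹, (mem_normalizer_iff.1 (inv_mem hg) _).1 x.2⟩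
        left_inv := fun x => Subtype.ext (by simp [mul_assoc])
        right_inv := fun x => Subtype.ext (by simp [mul_assoc])
        map_mul' := fun x y => Subtype.ext (by simp [mul_assoc]) }
    refine mem_normalizer_iff.2 fun x => ⟨?_, ?_⟩
    · rintro ⟨y, hy, rfl⟩
      exact ⟨_, apply_mem hTc (φ g hg) hy, rfl⟩
    · rintro ⟨y, hy, hye⟩
      refine ⟨_, apply_mem hTc (φ g⁻¹ (inv_mem hg)) hy, ?_⟩
      show g⁻¹ * (y : Q) * g⁻¹⁻¹ = x
      rw [show (y : Q) = g * x * g⁻¹ from hye]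
      group

theorem normalizer_smul {G : Type*} [Group G] (g : G) (A : Subgroup G) :
    normalizer ((A.map (MulAut.conj g).toMonoidHom : Subgroup G) : Set G) =
      (normalizer (A : Set G)).map (MulAut.conj g).toMonoidHom :=
  (map_equiv_normalizer_eq A (MulAut.conj g)).symm

end

/-- In the group Qd(p) (p prime; the natural semidirect product of an elementary abelian group of order p² by SL₂(p)), the normalizer of every nontrivial characteristic subgroup of a Sylow p-subgroup S equals the normalizer of S, which is a proper subgroup; in particular no such characteristic subgroup is normal. -/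
theorem result {p : ℕ} [Fact p.Prime] (S : Sylow p ↥(Cfsg.qd p)) (T : Subgroup ↥(S : Subgroup ↥(Cfsg.qd p))) (hT : T ≠ ⊥) (hTc : T.Characteristic) : Subgroup.normalizer ((T.map (S : Subgroup ↥(Cfsg.qd p)).subtype : Subgroup ↥(Cfsg.qd p)) : Set ↥(Cfsg.qd p)) = Subgroup.normalizer ((S : Subgroup ↥(Cfsg.qd p)) : Set ↥(Cfsg.qd p)) ∧ Subgroup.normalizer ((S : Subgroup ↥(Cfsg.qd p)) : Set ↥(Cfsg.qd p)) ≠ ⊤ := by
  obtain ⟨P, hP⟩ := sylow_eq_U0 (p := p)
  obtain ⟨g, rfl⟩ := MulAction.exists_smul_eq ↥(Cfsg.qd p) P S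
  have hconj : ((g • P : Sylow p ↥(Cfsg.qd p)) : Subgroup ↥(Cfsg.qd p)) =
      (U0 (p := p)).map (MulAut.conj g).toMonoidHom := by
    rw [Sylow.coe_subgroup_smul, hP]; rfl
  let ψ : ↥(U0 (p := p)) ≃* ↥((g • P : Sylow p ↥(Cfsg.qd p)) : Subgroup ↥(Cfsg.qd p)) :=
    ((U0 (p := p)).equivMapOfInjective _ (MulAut.conj g).injective).trans
      (MulEquiv.subgroupCongr hconj.symm)
  have hψ : ∀ x, ((ψ x : ↥((g • P : Sylow p ↥(Cfsg.qd p)) : Subgroup ↥(Cfsg.qd p))) : ↥(Cfsg.qd p)) =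
      g * (x : ↥(Cfsg.qd p)) * g⁻¹ := fun x => rfl
  set T₀ := T.comap ψ.toMonoidHom with hT₀
  have hT₀c : T₀.Characteristic := by
    refine Subgroup.characteristic_iff_comap_eq.2 fun φ => ?_
    have h1 := Subgroup.characteristic_iff_comap_eq.1 hTc ((ψ.symm.trans φ).trans ψ)
    ext x
    show ψ (φ x) ∈ T ↔ ψ x ∈ T
    conv_rhs => rw [← h1]
    rw [Subgroup.mem_comap]
    simp
  have hmap : T₀.map ψ.toMonoidHom = T := Subgroup.map_comap_eq_self_of_surjective ψ.surjective T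
  have hT₀ne : T₀ ≠ ⊥ := fun e => hT (by rw [← hmap, e, Subgroup.map_bot])
  have hTimg : T.map ((g • P : Sylow p ↥(Cfsg.qd p)) : Subgroup ↥(Cfsg.qd p)).subtype =
      (T₀.map (U0 (p := p)).subtype).map (MulAut.conj g).toMonoidHom := by
    conv_lhs => rw [← hmap]
    rw [Subgroup.map_map, Subgroup.map_map]
    congr 1
  refine ⟨?_, ?_⟩
  · rw [hTimg, hconj, normalizer_smul, normalizer_smul, core hT₀ne hT₀c]
  · rw [hconj, normalizer_smul]
    intro e
    have htop : Subgroup.normalizer ((U0 (p := p) : Subgroup ↥(Cfsg.qd p)) : Set ↥(Cfsg.qd p)) = ⊤ := by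
      refine Subgroup.map_injective (MulAut.conj g).injective (e.trans ?_)
      exact (Subgroup.map_top_of_surjective _ (MulAut.conj g).surjective).symm
    let w : ↥(Cfsg.qd p) := mkQ 0 (-1) 1 0 0 0 (by ring)
    have h1 := ent10_of_normalizer (htop.ge (Subgroup.mem_top w))
    simp [w, mkQ, ent] at h1

end Cfsg.Agent.S2763
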