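import Cfsg.Statements.S2766
import Cfsg.Agent.Lib.PushingUp.QdSplit
import Cfsg.Agent.Lib.Components.Subnormal

set_option autoImplicit false
open Cfsg

namespace Cfsg.Agent.S2766

/-- Let p ≥ 5 be prime and G a maximal p-local subgroup of a finite group H (G is the normalizer of a nontrivial p-subgroup and lies in no other such normalizer). Suppose C_G(O_p(G)) ≤ O_p(G), G/K ≅ PSL₂(p^n) for some normal K and n ≥ 1, a Sylow p-subgroup S of G lies in exactly one maximal subgroup of G, and N_H(S) is not contained in G. Then G = G₀ × E for subgroups G₀ ≅ Qd(p^n) (the natural semidirect product of the plane over the field with p^n elements by SL₂) and E an elementary abelian p-group. -/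
theorem result {H : Type*} [Group H] [Finite H] {p : ℕ} [Fact p.Prime] (hp : 5 ≤ p) (G : Subgroup H) (hloc : ∃ R : Subgroup H, IsPGroup p ↥R ∧ R ≠ ⊥ ∧ G = Subgroup.normalizer (R : Set H)) (hmax : ∀ R : Subgroup H, IsPGroup p ↥R → R ≠ ⊥ → G ≤ Subgroup.normalizer (R : Set H) → Subgroup.normalizer (R : Set H) = G) (S : Sylow p ↥G) (hE₁ : Subgroup.centralizer (Cfsg.pCore p ↥G : Set ↥G) ≤ Cfsg.pCore p ↥G) (hE₂ : ∃! M : Subgroup ↥G, IsCoatom M ∧ (S : Subgroup ↥G) ≤ M) (K : Subgroup ↥G) [K.Normal] (F : Type) [Field F] [Fintype F] (n : ℕ) (hn : 1 ≤ n) (hF : Fintype.card F = p ^ n) (hE₃ : Nonempty (↥G ⧸ K ≃* Matrix.ProjectiveSpecialLinearGroup (Fin 2) F)) (hN : ¬ Subgroup.normalizer (((S : Subgroup ↥G).map G.subtype : Subgroup H) : Set H) ≤ G) : ∃ G₀ E : Subgroup H, Cfsg.IsInternalDirectProduct G₀ E G ∧ Cfsg.IsElementaryAbelian p E ∧ Nonempty (↥G₀ ≃* ↥(Cfsg.qdOver F)) := by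
  open Cfsg.Agent.PushingUp in
  classical
  have hf : Function.Injective G.subtype := G.subtype_injective
  have hpG : ∀ {T : Subgroup H}, T ≤ (S : Subgroup ↥G).map G.subtype → T ≠ ⊥ →
      G ≤ Subgroup.normalizer (T : Set H) → Subgroup.normalizer (T : Set H) = G := fun hT hne hn =>
    hmax _ ((S.2.map G.subtype).to_le hT) hne hn
  have hGtop : (⊤ : Subgroup ↥G).map G.subtype = G := by
    rw [← MonoidHom.range_eq_map, Subgroup.range_subtype]
  obtain ⟨M, h⟩ := exists_hyp S hE₁ hE₂ K hF hE₃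
  have hnc : ∀ T : Subgroup H, T ≤ (S : Subgroup ↥G).map G.subtype →
      (⊤ : Subgroup ↥G).map G.subtype ≤ Subgroup.normalizer (T : Set H) →
      Subgroup.normalizer (((S : Subgroup ↥G).map G.subtype : Subgroup H) : Set H) ≤
        Subgroup.normalizer (T : Set H) → T = ⊥ := by
    intro T hT hn hNS
    by_contra hne
    exact hN (hNS.trans (hpG hT hne (hGtop.symm.le.trans hn)).le)
  have hd : ∀ T : Subgroup ↥(S : Subgroup ↥G), T ≠ ⊥ → T.Characteristic →
      ¬ (T.map (S : Subgroup ↥G).subtype).Normal := by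
    intro T hT hc hn
    set T₁ := T.map (S : Subgroup ↥G).subtype with hT₁
    have hle : T₁ ≤ (S : Subgroup ↥G) := Subgroup.map_subtype_le _
    refine hT ?_
    have h0 : T₁.map G.subtype = ⊥ := by
      refine hnc _ (Subgroup.map_mono hle) ?_ fun g hg => ?_
      · have h1 := (Subgroup.le_normalizer_map G.subtype : _ ≤ Subgroup.normalizer (T₁.map G.subtype : Set H))
        rwa [Subgroup.normalizer_eq_top_iff.mpr hn] at h1
      · let ε := (S : Subgroup ↥G).equivMapOfInjective G.subtype hf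
        have : (T.map ε.toMonoidHom).Characteristic := by
          refine Subgroup.characteristic_iff_map_eq.mpr fun φ => ?_
          conv_rhs => rw [← Subgroup.characteristic_iff_map_eq.mp hc ((ε.trans φ).trans ε.symm)]
          simp only [Subgroup.map_map]
          congr 1
          ext x
          simp
        have e1 : (T.map ε.toMonoidHom).map ((S : Subgroup ↥G).map G.subtype).subtype = T₁.map G.subtype := by
          simp only [hT₁, Subgroup.map_map]
          rfl
        rw [← e1]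
        exact Cfsg.Agent.Components.normalizer_le_normalizer_map_of_characteristic _ _ hg
    rw [Subgroup.map_eq_bot_iff_of_injective _ hf, hT₁,
      Subgroup.map_eq_bot_iff_of_injective _ (S : Subgroup ↥G).subtype_injective] at h0
    exact h0
  have hb := base_map h (h.basics hd) G.subtype hf
  obtain ⟨m, e, hm, hg, hc⟩ := hb.exists_small hnc
  obtain rfl : m = 0 := by
    rcases Nat.le_one_iff_eq_zero_or_eq_one.mp hm with rfl | rfl
    · rfl
    · obtain ⟨V', Q', A, E₀, g, d, hsh⟩ := exists_dat h (h.basics hd) _ hf hb hnc hg hc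
      have := Dat.p_eq_three h (h.basics hd) d hsh
      omega
  obtain ⟨hab, hexp⟩ := hb.translate hc fun T hT hne hn => by
    show _ ≤ (⊤ : Subgroup ↥G).map G.subtype
    rw [hGtop]
    exact (hpG hT hne (hGtop.symm.le.trans hn)).le
  have hQV : Cfsg.pCore p ↥G = vQ p ↥G := le_antisymm (fun q hq =>
    Cfsg.Agent.PGroup.mem_omegaOne_of_pow_eq_one
      (show q ∈ Subgroup.centralizer (Cfsg.pCore p ↥G : Set ↥G) from
        fun r hr => hf (by rw [map_mul, map_mul]; exact hab _ ⟨r, hr, rfl⟩ _ ⟨q, hq, rfl⟩))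
      (hf (by rw [map_pow, map_one]; exact hexp _ ⟨q, hq, rfl⟩))) h.vQ_le_pCore
  obtain ⟨A, o⟩ := (main h hd).2.resolve_right (by rintro ⟨E, t⟩; have := t.eq_three; omega)
  obtain ⟨G₀, E, ⟨-, -, hc1, hc2, hc3⟩, hE, ⟨iso⟩⟩ := splitting h hd hp o hQV (card_sylow h K hF hE₃)
  refine ⟨G₀.map G.subtype, E.map G.subtype, ⟨Subgroup.map_subtype_le _, Subgroup.map_subtype_le _, ?_, ?_, ?_⟩,
    Cfsg.Agent.PGroup.isElementaryAbelian_map hE _, ⟨(G₀.equivMapOfInjective _ hf).symm.trans iso⟩⟩
  · rintro _ ⟨a, ha, rfl⟩ _ ⟨b, hb', rfl⟩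
    rw [← map_mul, ← map_mul, hc1 a ha b hb']
  · rw [← Subgroup.map_inf _ _ _ hf, hc2, Subgroup.map_bot]
  · rw [← Subgroup.map_sup, hc3, hGtop]

end Cfsg.Agent.S2766
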