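import Cfsg.Statements.S2772
import Cfsg.Agent.Lib.Sims.Shape
import Cfsg.Agent.Lib.Sims.Final
import Cfsg.Agent.Lib.PCore.Basic

set_option autoImplicit false
open Cfsg

namespace Cfsg.Agent.S2772

open Subgroup Cfsg.Agent.Sims

theorem card_subgroupOf' {H : Type*} [Group H] {K G : Subgroup H} (h : K ≤ G) :
    Nat.card (K.subgroupOf G) = Nat.card K :=
  Nat.card_congr (subgroupOfEquivOfLe h).toEquiv

/-- The splitting alternative for `|S| = 16`. -/
theorem split16 {H : Type*} [Group H] [Finite H] {g a0 : H} {S G : Subgroup H}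
    (W : Sys g S 4 a0) (R : Base.Radius g a0 4 2) (hGS : seg g S 4 1 4 ⊔ seg g S 4 2 5 = G) :
    ∃ z ∈ seg g S 4 2 4, z ≠ 1 ∧ (∀ y ∈ G, Commute z y) ∧
      ((∃ V : Subgroup H, G ≤ normalizer (V : Set H) ∧ V ≤ seg g S 4 2 4 ∧ Nat.card V = 4 ∧ z ∈ V) ∨
        ∃ A : Subgroup H, A ≤ seg g S 4 1 4 ∧ z ∉ A ∧ seg g S 4 1 4 ≤ zpowers z ⊔ A) := by
  have h4 : 1 ≤ 4 := by norm_num
  set a := inv' g a0 with ha
  have hsq : ∀ t, a t * a t = 1 := W.inv_mul_self h4
  have hinv : ∀ t, (a t)⁻¹ = a t := W.inv_inv_eq h4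
  have hcl : ∀ P : Subgroup H, (∀ t, 1 ≤ t → t ≤ 5 → a t ∈ P) → G ≤ P := by
    intro P hP
    rw [← hGS]
    exact sup_le (W.seg_le h4 4 (by omega) le_rfl fun t h1 h2 => hP t h1 (by omega))
      (W.seg_le h4 4 (by omega) le_rfl fun t h1 h2 => hP t (by omega) h2)
  refine ⟨a 3, W.inv_mem_seg (by omega) (by omega), W.inv_ne_one 3, ?_, ?_⟩
  · intro y hy
    have := hcl (centralizer {a 3}) (fun t h1 h2 =>
      mem_centralizer_singleton_iff.2 (R.comm t 3 (by omega) (by omega)).eq) hy
    exact (mem_centralizer_singleton_iff.1 this).symm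
  have hc := W.com_left R
  norm_num at hc
  set c := Base.com g a0 1 4 with hcdef
  have ha14 : a 1 * a 4 * a 1 = c * a 4 := W.conj_eq_com_mul h4 1 4
  by_cases h33 : c ∈ seg g S 4 3 3
  · refine Or.inl ⟨seg g S 4 3 4, hcl _ fun t h1 h2 => ?_, Base.seg_mono (by omega) le_rfl,
      W.card_seg (L := 2) (by omega) (by omega), W.inv_mem_seg le_rfl (by omega)⟩
    refine mem_normalizer_fintype fun v hv => ?_
    rw [hinv]
    refine W.conj_invol h4 (by omega) (fun s h1' h2' => ?_) v hv
    have hs : a s ∈ seg g S 4 3 4 := W.inv_mem_seg h1' h2'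
    by_cases hnear : t = 1 ∧ s = 4
    · rw [hnear.1, hnear.2]
      rw [hnear.2] at hs
      exact ha14 ▸ mul_mem (Base.seg_mono le_rfl (by omega) h33) hs
    · show a t * a s * a t ∈ _
      rwa [(R.comm t s (by omega) (by omega)).eq, mul_assoc, hsq, mul_one]
  · right
    have hcQ : c ∈ seg g S 4 2 4 := Base.seg_mono le_rfl (by omega) hc
    have h4Q : a 4 ∈ seg g S 4 2 4 := W.inv_mem_seg (by omega) le_rfl
    have hQc := W.seg_comm R (i := 2) (j := 4) (by omega)
    have hcc : c * c = 1 := W.seg_sq' R (by omega) hcQ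
    have hc1 : Commute (a 1) c :=
      W.commute_seg h4 (i := 2) (j := 3) (by omega)
        (fun t h1 h2 => R.comm 1 t (by omega) (by omega)) c hc
    let B : Subgroup H :=
      { carrier := {1, c, a 4, c * a 4}
        one_mem' := by simp
        inv_mem' := fun {x} hx => by
          have hx2 : x ∈ seg g S 4 2 4 := by
            rcases hx with rfl | rfl | rfl | rfl
            exacts [one_mem _, hcQ, h4Q, mul_mem hcQ h4Q]
          rw [inv_eq_of_mul_eq_one_left (W.seg_sq' R (by omega) hx2)]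
          exact hx
        mul_mem' := fun {x y} hx hy => by
          have e1 : a 4 * c = c * a 4 := (hQc _ h4Q _ hcQ).eq
          have e2 : ∀ u, c * (c * u) = u := fun u => by rw [← mul_assoc, hcc, one_mul]
          have e3 : ∀ u, a 4 * (c * u) = c * (a 4 * u) := fun u => by
            rw [← mul_assoc, e1, mul_assoc]
          rcases hx with rfl | rfl | rfl | rfl <;> rcases hy with rfl | rfl | rfl | rfl <;>
            simp [mul_assoc, hcc, hsq 4, e1, e2, e3] }
    have hBmem : ∀ {x}, x ∈ B ↔ x = 1 ∨ x = c ∨ x = a 4 ∨ x = c * a 4 := Iff.rfl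
    have hBQ : B ≤ seg g S 4 2 4 := by
      intro x hx
      rcases hBmem.1 hx with rfl | rfl | rfl | rfl
      exacts [one_mem _, hcQ, h4Q, mul_mem hcQ h4Q]
    have hN : zpowers (a 1) ≤ normalizer (B : Set H) := by
      rw [zpowers_le]
      refine mem_normalizer_fintype fun v hv => ?_
      rw [hinv]
      have e1 : a 1 * c * a 1 = c := by rw [hc1.eq, mul_assoc, hsq, mul_one]
      rcases hBmem.1 hv with rfl | rfl | rfl | rfl
      · rw [mul_one, hsq]; exact one_mem B
      · rw [e1]; exact hv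
      · rw [ha14]; exact hBmem.2 (Or.inr (Or.inr (Or.inr rfl)))
      · have : a 1 * (c * a 4) * a 1 = c * (a 1 * a 4 * a 1) := by
          rw [← mul_assoc (a 1) c, hc1.eq]; simp only [mul_assoc]
        rw [this, ha14, ← mul_assoc, hcc, one_mul]
        exact hBmem.2 (Or.inr (Or.inr (Or.inl rfl)))
    have hA1 : a 1 ∈ zpowers (a 1) ⊔ B := le_sup_left (a := zpowers (a 1)) (mem_zpowers _)
    refine ⟨zpowers (a 1) ⊔ B, sup_le (zpowers_le.2 (W.inv_mem_seg le_rfl (by omega)))
      (hBQ.trans (Base.seg_mono (by omega) le_rfl)), fun hz => ?_, ?_⟩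
    · obtain ⟨u, hu, b, hb, hub⟩ := (Coprime.mem_sup_iff_of_le_normalizer hN).1 hz
      have ho : u = 1 ∨ u = a 1 := by
        obtain ⟨m, rfl⟩ := mem_zpowers_iff.1 hu
        rcases Int.even_or_odd m with ⟨r, rfl⟩ | ⟨r, rfl⟩
        · left; rw [← two_mul, zpow_mul, zpow_two, hsq, one_zpow]
        · right; rw [zpow_add, zpow_mul, zpow_two, hsq, one_zpow, one_mul, zpow_one]
      have h3Q : a 3 ∈ seg g S 4 2 4 := W.inv_mem_seg (by omega) (by omega)
      rcases ho with rfl | rfl
      · rw [one_mul] at hub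
        subst hub
        rcases hBmem.1 hb with h | h | h | h
        · exact W.inv_ne_one 3 h
        · exact h33 (h ▸ W.inv_mem_seg le_rfl le_rfl)
        · exact W.inv_notMem (t := 4) (i := 3) (j := 3) (Or.inr ⟨by omega, by omega, by omega⟩)
            (show a 4 ∈ _ from h ▸ W.inv_mem_seg le_rfl le_rfl)
        · refine W.inv_notMem (t := 4) (i := 2) (j := 3) (Or.inr ⟨by omega, by omega, by omega⟩) ?_
          have : c⁻¹ * a 3 = a 4 := by rw [h]; group
          show a 4 ∈ seg g S 4 2 3
          rw [← this]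
          exact mul_mem (inv_mem hc) (W.inv_mem_seg (by omega) le_rfl)
      · refine W.inv_notMem (t := 1) (i := 2) (j := 4) (Or.inl ⟨by omega, by omega, by omega⟩) ?_
        have : a 3 * b⁻¹ = a 1 := by rw [← hub]; group
        show a 1 ∈ seg g S 4 2 4
        rw [← this]
        exact mul_mem h3Q (inv_mem (hBQ hb))
    · refine W.seg_le h4 4 (by omega) le_rfl fun t h1 h2 => ?_
      rcases (show t = 1 ∨ t = 2 ∨ t = 3 ∨ t = 4 by omega) with rfl | rfl | rfl | rfl
      · exact le_sup_right (a := zpowers (a 3)) hA1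
      · rcases W.decomp_left (by omega) (by omega) hc with h | h
        · exact absurd h h33
        · have h' : a 2 * c ∈ zpowers (a 3) := W.seg_le h4 1 (by omega) (by omega)
            (fun t ht ht' => by
              obtain rfl : t = 3 := by omega
              exact mem_zpowers _) h
          have hcA : c ∈ zpowers (a 3) ⊔ (zpowers (a 1) ⊔ B) :=
            le_sup_right (a := zpowers (a 3)) (le_sup_right (a := zpowers (a 1))
              (hBmem.2 (Or.inr (Or.inl rfl))))
          exact (mul_mem_cancel_right hcA).1 (le_sup_left (a := zpowers (a 3)) h')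
      · exact le_sup_left (a := zpowers (a 3)) (mem_zpowers _)
      · exact le_sup_right (a := zpowers (a 3)) (le_sup_right (a := zpowers (a 1))
          (hBmem.2 (Or.inr (Or.inr (Or.inl rfl)))))

/-- Sims' Theorem in local form: let H be a finite non-abelian simple group and G a maximal subgroup of H with C_G(O₂(G)) ≤ O₂(G), such that N_H(S) is not contained in G for a Sylow 2-subgroup S of G and G/O₂(G) is dihedral of order 2q for a prime q. Then G is isomorphic to the symmetric group of degree 4 or to its direct product with a group of order 2. -/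
theorem result {H : Type*} [Group H] [Finite H] [IsSimpleGroup H] (hna : ¬ IsMulCommutative H) (G : Subgroup H) (hG : IsCoatom G) (hchar : Subgroup.centralizer (Cfsg.pCore 2 ↥G : Set ↥G) ≤ Cfsg.pCore 2 ↥G) (S : Sylow 2 ↥G) (hN : ¬ Subgroup.normalizer (((S : Subgroup ↥G).map G.subtype : Subgroup H) : Set H) ≤ G) (q : ℕ) (hq : q.Prime) (hD : Nonempty (↥G ⧸ Cfsg.pCore 2 ↥G ≃* DihedralGroup q)) : Nonempty (↥G ≃* Equiv.Perm (Fin 4)) ∨ Nonempty (↥G ≃* Equiv.Perm (Fin 4) × Multiplicative (ZMod 2)) := by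
  classical
  haveI : Fact (Nat.Prime 2) := ⟨Nat.prime_two⟩
  set Q := Cfsg.pCore 2 ↥G with hQdef
  haveI hQn : Q.Normal := PCore.pCore_normal
  have hQ2 : IsPGroup 2 Q := PCore.isPGroup_pCore
  obtain ⟨m, hm⟩ := IsPGroup.iff_card.mp hQ2
  obtain ⟨e⟩ := hD
  have hidxQ : Q.index = 2 * q := (Nat.card_congr e.toEquiv).trans DihedralGroup.nat_card
  have hGc : Nat.card G = 2 * q * Nat.card Q := by
    rw [← card_mul_index Q, hidxQ, mul_comm]
  have hq2 : q ≠ 2 := by
    rintro rfl
    have hp : IsPGroup 2 G := IsPGroup.of_card (n := m + 2) (by rw [hGc, hm, pow_add]; ring)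
    have : (⊤ : Subgroup G) ≤ Q := PCore.le_pCore (PCore.isPGroup_top_iff.2 hp)
    rw [top_le_iff.1 this, index_top] at hidxQ
    omega
  have hS : Nat.card S = 2 * Nat.card Q := by
    rw [S.card_eq_multiplicity, hGc, hm, show 2 * q * 2 ^ m = 2 ^ (m + 1) * q by ring,
      Nat.factorization_mul (by positivity) hq.ne_zero, Finsupp.add_apply,
      Nat.Prime.factorization_pow Nat.prime_two, hq.factorization]
    simp [hq2.symm, hq2, pow_succ, mul_comm]
  have hQS : Q ≤ (S : Subgroup G) := PCore.pCore_le_sylow S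
  -- `S` is not normal; choose `x`
  have hx : ∃ x : G, x ∉ normalizer ((S : Subgroup G) : Set G) := by
    by_contra h
    push Not at h
    haveI : (S : Subgroup G).Normal :=
      normalizer_eq_top_iff.1 (top_le_iff.1 fun y _ => h y)
    have : Nat.card S ≤ Nat.card Q := card_le_of_le (PCore.le_pCore (N := (S : Subgroup G)) S.2)
    rw [hS] at this
    have := Nat.card_pos (α := Q)
    omega
  obtain ⟨x, hx⟩ := hx
  set S₁ := (S : Subgroup G).map (MulAut.conj x).toMonoidHom with hS1
  have hS1c : Nat.card S₁ = Nat.card S := card_map_of_injective (MulEquiv.injective _)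
  have hQS1 : Q ≤ S₁ := by
    intro y hy
    rw [hS1, mem_map_equiv, MulAut.conj_symm_apply]
    exact hQS (by simpa using hQn.conj_mem y hy x⁻¹)
  have hne1 : S₁ ≠ (S : Subgroup G) := by
    intro h
    apply hx
    refine mem_normalizer_fintype fun y hy => ?_
    exact h.le (mem_map_of_mem _ hy)
  have hinf : (S : Subgroup G) ⊓ S₁ = Q := by
    refine (eq_of_le_of_card_ge (le_inf hQS hQS1) ?_).symm
    have hd : Nat.card Q ∣ Nat.card ↥((S : Subgroup G) ⊓ S₁) := card_dvd_of_le (le_inf hQS hQS1)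
    have hd' : Nat.card ↥((S : Subgroup G) ⊓ S₁) ∣ 2 * Nat.card Q :=
      hS ▸ card_dvd_of_le inf_le_left
    obtain ⟨c, hc⟩ := hd
    rw [hc, mul_comm 2] at hd'
    rcases (Nat.dvd_prime Nat.prime_two).1 (Nat.dvd_of_mul_dvd_mul_left Nat.card_pos hd') with h | h
    · rw [hc, h, mul_one]
    · exfalso
      rw [h, mul_comm, ← hS] at hc
      have h1 := eq_of_le_of_card_ge (inf_le_left : (S : Subgroup G) ⊓ S₁ ≤ S) hc.ge
      exact hne1 (eq_of_le_of_card_ge (inf_eq_left.1 h1) hS1c.le).symm
  have hsup : (S : Subgroup G) ⊔ S₁ = ⊤ := by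
    refine (card_eq_iff_eq_top _).1 ?_
    have hd : Nat.card S ∣ Nat.card ↥((S : Subgroup G) ⊔ S₁) := card_dvd_of_le le_sup_left
    have hd' := card_subgroup_dvd_card ((S : Subgroup G) ⊔ S₁)
    obtain ⟨c, hc⟩ := hd
    rw [hGc, hc, hS, show 2 * q * Nat.card Q = 2 * Nat.card Q * q by ring] at hd'
    rcases (Nat.dvd_prime hq).1 (Nat.dvd_of_mul_dvd_mul_left
      (by have := Nat.card_pos (α := Q); omega) hd') with h | h
    · exfalso
      rw [h, mul_one] at hc
      have h1 := eq_of_le_of_card_ge (le_sup_left : (S : Subgroup G) ≤ (S : Subgroup G) ⊔ S₁) hc.le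
      exact hne1 (eq_of_le_of_card_ge (sup_eq_left.1 h1.symm) hS1c.ge)
    · rw [hc, h, hS, hGc]; ring
  -- pass to `H`
  set S' : Subgroup H := (S : Subgroup G).map G.subtype with hS'
  have hS'G : S' ≤ G := map_subtype_le _
  obtain ⟨α, hαN, hαG⟩ := SetLike.not_le_iff_exists.1 hN
  set g : H := (x : H) * α with hg
  have hgG : g ∉ G := fun h => hαG ((mul_mem_cancel_left x.2).1 h)
  have hsh1 : sh g 1 S' = S₁.map G.subtype := by
    ext y
    rw [mem_sh, zpow_one, hg, mul_inv_rev,
      show α⁻¹ * (x : H)⁻¹ * y * ((x : H) * α) = α⁻¹ * ((x : H)⁻¹ * y * x) * α by group]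
    have := (mem_normalizer_iff.1 (inv_mem hαN) ((x : H)⁻¹ * y * x)).symm
    rw [inv_inv] at this
    rw [this, hS', hS1]
    constructor
    · rintro ⟨s, hs, hsy⟩
      refine ⟨x * s * x⁻¹, ⟨s, hs, rfl⟩, ?_⟩
      simp only [coe_subtype, Subgroup.coe_mul, Subgroup.coe_inv] at hsy ⊢
      rw [hsy]; group
    · rintro ⟨_, ⟨s, hs, rfl⟩, rfl⟩
      refine ⟨s, hs, ?_⟩
      simp [mul_assoc]
  have hQ' : S' ⊓ sh g 1 S' = Q.map G.subtype := by
    rw [hsh1, hS', ← map_inf _ _ _ G.subtype_injective, hinf]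
  have hGc' : S' ⊔ sh g 1 S' = G := by
    rw [hsh1, hS', ← Subgroup.map_sup, hsup, ← MonoidHom.range_eq_map, range_subtype]
  obtain ⟨n, hn⟩ := IsPGroup.iff_card.mp S.2
  have hS'c : Nat.card S' = 2 ^ n := (card_map_of_injective G.subtype_injective).trans hn
  have hnG : normalizer (G : Set H) = G := by
    refine (hG.le_iff.1 le_normalizer).resolve_left fun h => ?_
    haveI := normalizer_eq_top_iff.1 h
    rcases IsSimpleGroup.eq_bot_or_eq_top_of_normal G inferInstance with h' | h'
    · rw [h'] at hS'G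
      have h1 : Nat.card S' = 1 := by rw [le_bot_iff.1 hS'G, card_bot]
      rw [hS'c] at h1
      have := Nat.card_pos (α := Q)
      omega
    · exact hG.1 h'
  have D : Data g S' n := by
    refine ⟨hS'c, ?_, ?_⟩
    · rw [← inf_relIndex_left, hQ']
      have h := Sims.card_mul_relIndex (map_mono hQS : Q.map G.subtype ≤ S')
      rw [card_map_of_injective G.subtype_injective, hS'c, ← hn, hS, mul_comm 2] at h
      exact Nat.eq_of_mul_eq_mul_left Nat.card_pos h
    · intro T hTS hm1 h0 h1
      have hGN : G ≤ normalizer (T : Set H) := hGc' ▸ sup_le h0 h1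
      have hGN' : sh g (-1) G ≤ normalizer (T : Set H) := by
        rw [← hGc', sh, Subgroup.map_sup]
        refine sup_le hm1 ?_
        have : sh g (-1) (sh g 1 S') = S' := by rw [sh_sh, neg_add_cancel, sh_zero]
        exact this.le.trans h0
      have hnot : ¬ sh g (-1) G ≤ G := by
        intro h
        apply hgG
        rw [← hnG, ← inv_mem_iff]
        refine mem_normalizer_fintype fun y hy => ?_
        have := h (mem_map_of_mem _ hy)
        simpa using this
      have htop : normalizer (T : Set H) = ⊤ :=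
        hG.2 _ (lt_of_le_of_ne hGN fun h => hnot (hGN'.trans h.ge))
      haveI := normalizer_eq_top_iff.1 htop
      rcases IsSimpleGroup.eq_bot_or_eq_top_of_normal T inferInstance with h' | h'
      · exact h'
      · exact absurd (top_le_iff.1 (h' ▸ hTS.trans hS'G)) hG.1
  have hn1 : 1 ≤ n := by
    by_contra h
    rw [show n = 0 by omega, hS, pow_zero] at hn
    omega
  obtain ⟨a0, W⟩ := exists_sys D hn1
  obtain ⟨k, R⟩ := W.exists_radius hn1 (by
    intro hab
    have hle : (S : Subgroup G) ≤ Q := by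
      intro s hs
      refine hchar (mem_centralizer_iff.2 fun v hv => Subtype.ext ?_)
      exact (hab _ (mem_map_of_mem _ (hQS hv)) _ (mem_map_of_mem _ hs)).eq
    have := card_le_of_le hle
    rw [hS] at this
    have := Nat.card_pos (α := Q)
    omega)
  have hshape := W.shape R
  have hQseg : Q.map G.subtype = seg g S' n 2 n := by rw [Base.Q_eq, hQ']
  have hQc : Nat.card Q * 2 = 2 ^ n := by rw [← hn, hS, mul_comm]
  have hk : (n : ℤ) ≤ 2 + k := by omega
  have P : Setup Q q :=
    { normal := hQn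
      cent := hchar
      sq := fun v hv => Subtype.ext (W.seg_sq' R hk (hQseg.le (mem_map_of_mem _ hv)))
      comm := fun u hu v hv => Subtype.ext
        (W.seg_comm R hk _ (hQseg.le (mem_map_of_mem _ hu)) _ (hQseg.le (mem_map_of_mem _ hv))).eq
      prime := hq
      ne_two := hq2
      card := hGc
      max := fun K hK h2 => PCore.le_pCore (hN := hK) h2 }
  rcases hshape with ⟨rfl, rfl⟩ | ⟨rfl, rfl⟩
  · exact Or.inl (P.final_four (by norm_num at hQc; omega))
  right
  obtain ⟨z, hzQ, hz1, hzc, hsplit⟩ := split16 W R (G := G) (by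
    conv_rhs => rw [← hGc', ← Base.sh_one_eq g S' 4]
    conv_rhs => arg 1; rw [← Base.S_eq g S' 4]
    norm_num)
  have hQseg4 : Q.map G.subtype = seg g S' 4 2 4 := hQseg
  rw [← hQseg4] at hzQ hsplit
  obtain ⟨z, hzQ', rfl⟩ := hzQ
  have hS4 : seg g S' 4 1 4 = S' := Base.S_eq g S' 4
  have hQsub : (Q.map G.subtype).subgroupOf G = Q := comap_map_eq_self_of_injective G.subtype_injective Q
  refine P.final_eight (by norm_num at hQc; omega) hzQ' (fun h => hz1 (by rw [h]; rfl))
    (fun y => Subtype.ext (hzc _ y.2).eq) ?_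
  rcases hsplit with ⟨V, hV, hVQ, hV4, hzV⟩ | ⟨A, hAS, hzA, hSA⟩
  · refine Or.inl ⟨V.subgroupOf G, normal_subgroupOf_of_le_normalizer hV, ?_, ?_, hzV⟩
    · exact (comap_mono hVQ).trans hQsub.le
    · rw [card_subgroupOf' (hVQ.trans (map_subtype_le Q)), hV4]
  · rw [hS4] at hAS hSA
    refine Or.inr ⟨(S : Subgroup G), A.subgroupOf G, by rw [hn]; norm_num, hQS hzQ', ?_, hzA, ?_⟩
    · exact (comap_mono hAS).trans (comap_map_eq_self_of_injective G.subtype_injective _).le
    · rw [← map_le_map_iff_of_injective G.subtype_injective, Subgroup.map_sup,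
        MonoidHom.map_zpowers, map_subgroupOf_eq_of_le (hAS.trans hS'G)]
      exact hSA

end Cfsg.Agent.S2772
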