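import Cfsg.Statements.S2779
import Cfsg.Agent.Lib.NaturalSL2.Coords
-- import your own Cfsg.Agent.* helpers here

set_option autoImplicit false
open Cfsg

namespace Cfsg.Agent.S2779

/-- Let L act on the elementary abelian p-group V (inside a finite group, by conjugation, faithfully) as SL₂(F) on its natural module, F a field with p^n elements, and let S be a Sylow p-subgroup of L. Then [V, S, S] = 1; |V| = p^(2n) and |C_V(S)| = p^n; and for every nonidentity s ∈ S and every v ∈ V outside C_V(S): C_V(s) = C_V(S) = [V, S] = [V, s] = the subgroup generated by the commutators [v, t], t ∈ S. -/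
theorem result {G : Type*} [Group G] [Finite G] {p : ℕ} [Fact p.Prime] {F : Type*} [Field F] [Fintype F] (n : ℕ) (hF : Fintype.card F = p ^ n) (V L : Subgroup G) (hnat : Cfsg.IsNaturalSL2Module F V L) (hf : L ⊓ Subgroup.centralizer (V : Set G) = ⊥) (S : Sylow p ↥L) (T : Subgroup G) (hT : T = ((S : Subgroup ↥L).map L.subtype)) : ⁅⁅V, T⁆, T⁆ = ⊥ ∧ Nat.card V = p ^ (2 * n) ∧ Nat.card ↥(V ⊓ Subgroup.centralizer ((T : Subgroup G) : Set G)) = p ^ n ∧ ∀ s ∈ T, s ≠ 1 → (V ⊓ Subgroup.centralizer ({s} : Set G)) = (V ⊓ Subgroup.centralizer ((T : Subgroup G) : Set G)) ∧ ⁅V, T⁆ = (V ⊓ Subgroup.centralizer ((T : Subgroup G) : Set G)) ∧ ⁅V, Subgroup.zpowers s⁆ = (V ⊓ Subgroup.centralizer ((T : Subgroup G) : Set G)) ∧ ∀ v ∈ V, v ∉ Subgroup.centralizer (T : Set G) → Subgroup.closure {x : G | ∃ t ∈ T, x = v * t * v⁻¹ * t⁻¹} = (V ⊓ Subgroup.centralizer ((T : Subgroup G) : Set G)) := by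
  obtain ⟨c⟩ := NaturalSL2.nonempty_coords hF hnat hf S hT
  set C := V ⊓ Subgroup.centralizer (T : Set G) with hC
  have hzero : ∀ v : V, (v : G) ∈ C ↔ c.φ v 1 = 0 := fun v => c.mem_inf_centralizer
  have hcomm : ∀ v ∈ V, ∀ t ∈ T, v * t * v⁻¹ * t⁻¹ ∈ C := fun v hv t ht => by
    obtain ⟨w, hw, hφ⟩ := c.exists_comm (l := ⟨t, c.le ht⟩) ht ⟨v, hv⟩
    have := (hzero w).2 (by rw [hφ]; simp)
    rwa [hw] at this
  have hVT : ⁅V, T⁆ ≤ C := Subgroup.commutator_le.2 fun v hv t ht => hcomm v hv t ht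
  have hn : n ≠ 0 := by
    rintro rfl
    exact absurd hF (by simpa using (Fintype.one_lt_card (α := F)).ne')
  have hsurj : ∀ s ∈ T, s ≠ 1 → ∀ x ∈ C, ∃ v ∈ V, x = v * s * v⁻¹ * s⁻¹ := by
    intro s hs hs1 x hx
    have hne := c.param_ne_zero (l := ⟨s, c.le hs⟩) hs hs1
    set b := (c.ρ ⟨s, c.le hs⟩ : Matrix (Fin 2) (Fin 2) F) 0 1
    obtain ⟨v, hv⟩ := c.exists_φ ![0, -(c.φ ⟨x, hx.1⟩ 0 / b)]
    obtain ⟨w, hw, hφ⟩ := c.exists_comm (l := ⟨s, c.le hs⟩) hs v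
    refine ⟨v, v.2, ?_⟩
    rw [← hw]
    refine congrArg Subtype.val (c.φ_bij.1 ?_ : (⟨x, hx.1⟩ : V) = w)
    rw [hφ, hv]
    funext i
    fin_cases i
    · show c.φ ⟨x, hx.1⟩ 0 = -(b * -(c.φ ⟨x, hx.1⟩ 0 / b))
      field_simp
    · exact (hzero ⟨x, hx.1⟩).1 hx
  refine ⟨?_, ?_, ?_, fun s hs hs1 => ⟨?_, ?_, ?_, fun v hv hvn => ?_⟩⟩
  · rw [Subgroup.commutator_eq_bot_iff_le_centralizer]
    exact hVT.trans inf_le_right
  · rw [Nat.card_congr (Equiv.ofBijective c.φ c.φ_bij), Nat.card_fun, Nat.card_eq_fintype_card, hF,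
      Nat.card_fin, ← pow_mul, mul_comm]
  · let e : ↥C ≃ F :=
      Equiv.ofBijective (fun x => c.φ ⟨x.1, x.2.1⟩ 0) ⟨fun x y h => Subtype.ext ?_, fun a => ?_⟩
    · rw [Nat.card_congr e, Nat.card_eq_fintype_card, hF]
    · refine congrArg (fun z : ↥V => (z : G)) (c.φ_bij.1 ?_ : (⟨x.1, x.2.1⟩ : V) = ⟨y.1, y.2.1⟩)
      funext i
      fin_cases i
      · exact h
      · exact ((hzero ⟨x.1, x.2.1⟩).1 x.2).trans ((hzero ⟨y.1, y.2.1⟩).1 y.2).symm
    · obtain ⟨v, hv⟩ := c.exists_φ ![a, 0]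
      refine ⟨⟨v, (hzero v).2 (by rw [hv]; simp)⟩, ?_⟩
      simp [hv]
  · refine le_antisymm (fun x hx => ?_) (inf_le_inf_left _ (Subgroup.centralizer_le
      (Set.singleton_subset_iff.2 hs)))
    refine (hzero ⟨x, hx.1⟩).2 ?_
    have h1 := (c.commute_iff ⟨s, c.le hs⟩ ⟨x, hx.1⟩).1 (Subgroup.mem_centralizer_singleton_iff.1 hx.2)
    rw [NaturalSL2.apply_of_mem_upperUni ((c.memT ⟨s, c.le hs⟩).1 hs)] at h1
    have h2 := congrFun h1 0
    simp [Matrix.mulVec, dotProduct, Fin.sum_univ_two] at h2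
    exact h2.resolve_left (c.param_ne_zero (l := ⟨s, c.le hs⟩) hs hs1)
  · refine le_antisymm hVT fun x hx => ?_
    obtain ⟨v, hv, rfl⟩ := hsurj s hs hs1 x hx
    exact Subgroup.commutator_mem_commutator hv hs
  · refine le_antisymm ((Subgroup.commutator_mono le_rfl (Subgroup.zpowers_le.2 hs)).trans hVT)
      fun x hx => ?_
    obtain ⟨v, hv, rfl⟩ := hsurj s hs hs1 x hx
    exact Subgroup.commutator_mem_commutator hv (Subgroup.mem_zpowers s)
  · refine le_antisymm ((Subgroup.closure_le _).2 ?_) fun x hx => Subgroup.subset_closure ?_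
    · rintro _ ⟨t, ht, rfl⟩
      exact hcomm v hv t ht
    · have hv1 : c.φ ⟨v, hv⟩ 1 ≠ 0 := fun h => hvn ((hzero ⟨v, hv⟩).2 h).2
      obtain ⟨l, hl⟩ := c.exists_ρ (NaturalSL2.uni (-(c.φ ⟨x, hx.1⟩ 0 / c.φ ⟨v, hv⟩ 1)))
      have hlT : (l : G) ∈ T := (c.memT l).2 (hl ▸ NaturalSL2.uni_mem _)
      obtain ⟨w, hw, hφ⟩ := c.exists_comm hlT ⟨v, hv⟩
      refine ⟨l, hlT, ?_⟩
      rw [← hw]
      refine congrArg Subtype.val (c.φ_bij.1 ?_ : (⟨x, hx.1⟩ : V) = w)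
      rw [hφ, hl]
      funext i
      fin_cases i
      · simp [NaturalSL2.uni]
        field_simp
      · exact (hzero ⟨x, hx.1⟩).1 hx

end Cfsg.Agent.S2779
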