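import Cfsg.Statements.S2780
import Cfsg.Agent.Lib.NaturalSL2.Coords
import Cfsg.Agent.Lib.TwoConjBound.SL2
-- import your own Cfsg.Agent.* helpers here

set_option autoImplicit false
open Cfsg

namespace Cfsg.Agent.S2780

/-- Let L act on the elementary abelian p-group V (inside a finite group, faithfully) as SL₂(F) on its natural module, F a field with p^n elements, S a Sylow p-subgroup of L. Then: for every g ∈ L not normalizing S, V is the internal direct product of C_V(S) and C_V(gSg⁻¹); every nonidentity element of L of order prime to p acts on V without nonidentity fixed points; and C_V(S) and V/C_V(S) are irreducible for N_L(S): the only N_L(S)-invariant subgroups of C_V(S) are 1 and C_V(S), and the only N_L(S)-invariant subgroups between C_V(S) and V are those two. -/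
theorem result {G : Type*} [Group G] [Finite G] {p : ℕ} [Fact p.Prime] {F : Type*} [Field F] [Fintype F] (n : ℕ) (hF : Fintype.card F = p ^ n) (V L : Subgroup G) (hnat : Cfsg.IsNaturalSL2Module F V L) (hf : L ⊓ Subgroup.centralizer (V : Set G) = ⊥) (S : Sylow p ↥L) (T : Subgroup G) (hT : T = ((S : Subgroup ↥L).map L.subtype)) : (∀ g ∈ L, g ∉ Subgroup.normalizer (T : Set G) → Cfsg.IsInternalDirectProduct (V ⊓ Subgroup.centralizer ((T : Subgroup G) : Set G)) (V ⊓ Subgroup.centralizer ((T.map (MulAut.conj g).toMonoidHom : Subgroup G) : Set G)) V) ∧ (∀ x ∈ L, x ≠ 1 → (orderOf x).Coprime p → (V ⊓ Subgroup.centralizer ({x} : Set G)) = ⊥) ∧ (∀ U : Subgroup G, U ≤ (V ⊓ Subgroup.centralizer ((T : Subgroup G) : Set G)) → L ⊓ Subgroup.normalizer (T : Set G) ≤ Subgroup.normalizer (U : Set G) → U = ⊥ ∨ U = (V ⊓ Subgroup.centralizer ((T : Subgroup G) : Set G))) ∧ (∀ U : Subgroup G, (V ⊓ Subgroup.centralizer ((T : Subgroup G) : Set G)) ≤ U → U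 ≤ V → L ⊓ Subgroup.normalizer (T : Set G) ≤ Subgroup.normalizer (U : Set G) → U = (V ⊓ Subgroup.centralizer ((T : Subgroup G) : Set G)) ∨ U = V) := by
  obtain ⟨c⟩ := NaturalSL2.nonempty_coords hF hnat hf S hT
  set C := V ⊓ Subgroup.centralizer (T : Set G) with hC
  have hzero : ∀ v : V, (v : G) ∈ C ↔ c.φ v 1 = 0 := fun v => c.mem_inf_centralizer
  have hcommV : ∀ a ∈ V, ∀ b ∈ V, a * b = b * a := fun a ha b hb =>
    congrArg Subtype.val (c.φ_bij.1 (by rw [c.φ_mul, c.φ_mul, add_comm]) :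
      (⟨a, ha⟩ * ⟨b, hb⟩ : V) = ⟨b, hb⟩ * ⟨a, ha⟩)
  -- the torus
  have htorus : ∀ d : Fˣ, ∃ l : L, (l : G) ∈ L ⊓ Subgroup.normalizer (T : Set G) ∧
      ∀ v : V, ∃ w : V, (w : G) = (l : G) * v * (l : G)⁻¹ ∧
        c.φ w = ![(d : F) * c.φ v 0, (d : F)⁻¹ * c.φ v 1] := by
    intro d
    obtain ⟨l, hl⟩ := c.exists_ρ ⟨!![(d : F), 0; 0, (d : F)⁻¹], by simp [Matrix.det_fin_two]⟩
    refine ⟨l, ⟨l.2, (c.mem_normalizer_iff l).2 (by rw [hl]; simp)⟩, fun v => ?_⟩
    obtain ⟨w, hw, he⟩ := c.φ_conj l v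
    refine ⟨w, hw, ?_⟩
    rw [he, hl]
    funext i
    fin_cases i <;> simp [Matrix.mulVec, dotProduct, Fin.sum_univ_two]
  refine ⟨fun g hg hgn => ?_, fun x hx hx1 hxp => ?_, fun U hUC hU => ?_, fun U hCU hUV hU => ?_⟩
  · have hb : (c.ρ ⟨g, hg⟩ : Matrix (Fin 2) (Fin 2) F) 1 0 ≠ 0 := fun h =>
      hgn ((c.mem_normalizer_iff ⟨g, hg⟩).2 h)
    set C' := V ⊓ Subgroup.centralizer ((T.map (MulAut.conj g).toMonoidHom : Subgroup G) : Set G)
    have hC' : ∀ x : V, (x : G) ∈ C → g * x * g⁻¹ ∈ C' := fun x hxC =>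
      ⟨(Subgroup.mem_normalizer_iff.1 (c.norm hg) _).1 x.2, Subgroup.mem_centralizer_iff.2 (by
        rintro _ ⟨t, ht, rfl⟩
        show g * t * g⁻¹ * (g * x * g⁻¹) = g * x * g⁻¹ * (g * t * g⁻¹)
        have h1 := Subgroup.mem_centralizer_iff.1 hxC.2 t ht
        calc g * t * g⁻¹ * (g * x * g⁻¹) = g * (t * x) * g⁻¹ := by group
          _ = g * ((x : G) * t) * g⁻¹ := by rw [h1]
          _ = _ := by group)⟩
    refine ⟨inf_le_left, inf_le_left, fun a ha b hb => hcommV a ha.1 b hb.1, ?_, ?_⟩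
    · rw [eq_bot_iff]
      rintro a ⟨haC, haV, haC'⟩
      have hpre : g⁻¹ * a * g ∈ C := by
        refine ⟨by simpa using (Subgroup.mem_normalizer_iff.1 (c.norm (L.inv_mem hg)) _).1 haV,
          Subgroup.mem_centralizer_iff.2 fun t ht => ?_⟩
        have h1 := Subgroup.mem_centralizer_iff.1 haC' _ ⟨t, ht, rfl⟩
        simp only [MulEquiv.coe_toMonoidHom, MulAut.conj_apply] at h1
        calc t * (g⁻¹ * a * g) = g⁻¹ * (g * t * g⁻¹ * a) * g := by group
          _ = g⁻¹ * (a * (g * t * g⁻¹)) * g := by rw [h1]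
          _ = _ := by group
      have he := c.equiv ⟨g, hg⟩ ⟨_, hpre.1⟩ ⟨a, haV⟩ (by simp [mul_assoc])
      have h0 := congrFun he 1
      simp [Matrix.mulVec, dotProduct, Fin.sum_univ_two, (hzero ⟨_, hpre.1⟩).1 hpre,
        (hzero ⟨a, haV⟩).1 haC] at h0
      have hu : c.φ ⟨_, hpre.1⟩ 0 = 0 := h0.resolve_left hb
      have hz : c.φ ⟨a, haV⟩ = 0 := by
        rw [he]
        funext i
        simp [Matrix.mulVec, dotProduct, Fin.sum_univ_two, (hzero ⟨_, hpre.1⟩).1 hpre, hu]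
      exact Subgroup.mem_bot.2 (congrArg Subtype.val (c.φ_bij.1 (hz.trans c.φ_one.symm)))
    · refine le_antisymm (sup_le inf_le_left inf_le_left) fun v hv => ?_
      set b := (c.ρ ⟨g, hg⟩ : Matrix (Fin 2) (Fin 2) F) 1 0
      obtain ⟨x, hx⟩ := c.exists_φ ![c.φ ⟨v, hv⟩ 1 / b, 0]
      obtain ⟨w, hw, hwφ⟩ := c.φ_conj ⟨g, hg⟩ x
      have hxC : (x : G) ∈ C := (hzero x).2 (by rw [hx]; simp)
      have hvw : ((⟨v, hv⟩ * w⁻¹ : V) : G) ∈ C := by
        refine (hzero _).2 ?_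
        have h1 := c.φ_mul w w⁻¹
        rw [mul_inv_cancel, c.φ_one] at h1
        rw [c.φ_mul, eq_neg_of_add_eq_zero_right h1.symm, hwφ, hx]
        simp [Matrix.mulVec, dotProduct, Fin.sum_univ_two]
        field_simp
        ring
      have := mul_mem (Subgroup.mem_sup_left (T := C') hvw)
        (Subgroup.mem_sup_right (S := C) (hC' x hxC))
      rw [Subgroup.coe_mul, Subgroup.coe_inv, hw] at this
      simpa [mul_assoc] using this
  · rw [eq_bot_iff]
    rintro v ⟨hv, hvx⟩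
    by_contra hne
    have hφ : c.φ ⟨v, hv⟩ ≠ 0 := fun h => hne (Subgroup.mem_bot.2
      (congrArg Subtype.val (c.φ_bij.1 (h.trans c.φ_one.symm))))
    set A := c.ρ ⟨x, hx⟩ with hA
    have hfix := (c.commute_iff ⟨x, hx⟩ ⟨v, hv⟩).1 (Subgroup.mem_centralizer_singleton_iff.1 hvx)
    have hdet : ((A : Matrix (Fin 2) (Fin 2) F) - 1).det = 0 :=
      Matrix.exists_mulVec_eq_zero_iff.1 ⟨_, hφ, by
        rw [Matrix.sub_mulVec, Matrix.one_mulVec, ← hA] at *; rw [hfix, sub_self]⟩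
    have hd := A.2
    rw [Matrix.det_fin_two] at hd hdet
    simp at hdet
    have htr : Matrix.trace (A : Matrix (Fin 2) (Fin 2) F) = 2 := by
      rw [Matrix.trace_fin_two]; linear_combination hd - hdet
    have hsq : ((A : Matrix (Fin 2) (Fin 2) F) - 1) ^ 2 = 0 := by
      rw [sq, sub_mul, mul_sub, one_mul, mul_one, TwoConjBound.sq_eq, htr]
      module
    haveI : CharP F p := charP_of_card_eq_prime_pow (f := n) hF
    have hAp : A ^ p = 1 := by
      apply Subtype.ext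
      rw [Matrix.SpecialLinearGroup.coe_pow, ← sub_add_cancel (A : Matrix (Fin 2) (Fin 2) F) 1,
        add_pow_char_of_commute p (Commute.one_right _),
        pow_eq_zero_of_le (Fact.out : p.Prime).two_le hsq, one_pow, zero_add,
        Matrix.SpecialLinearGroup.coe_one]
    rw [hA, ← map_pow] at hAp
    have hxp' : x ^ p = 1 := congrArg Subtype.val (c.bij.1 (hAp.trans c.ρ.map_one.symm))
    exact hx1 (orderOf_eq_one_iff.1 (Nat.eq_one_of_dvd_coprimes hxp dvd_rfl (orderOf_dvd_of_pow_eq_one hxp')))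
  · rcases eq_or_ne U ⊥ with h | h
    · exact Or.inl h
    · refine Or.inr (le_antisymm hUC fun x hx => ?_)
      obtain ⟨u, hu, hu1⟩ := U.bot_or_exists_ne_one.resolve_left h
      by_cases hx0 : c.φ ⟨x, hx.1⟩ 0 = 0
      · have : c.φ ⟨x, hx.1⟩ = c.φ 1 := by
          rw [c.φ_one]; funext i; fin_cases i
          exacts [hx0, (hzero ⟨x, hx.1⟩).1 hx]
        have h1 : x = 1 := congrArg Subtype.val (c.φ_bij.1 this)
        exact h1 ▸ U.one_mem
      have hu0 : c.φ ⟨u, (hUC hu).1⟩ 0 ≠ 0 := fun e => hu1 (by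
        have : c.φ ⟨u, (hUC hu).1⟩ = c.φ 1 := by
          rw [c.φ_one]; funext i; fin_cases i
          exacts [e, (hzero ⟨u, (hUC hu).1⟩).1 (hUC hu)]
        exact congrArg Subtype.val (c.φ_bij.1 this))
      obtain ⟨l, hl, hact⟩ := htorus (Units.mk0 _ (div_ne_zero hx0 hu0))
      obtain ⟨w, hw, hwφ⟩ := hact ⟨u, (hUC hu).1⟩
      have hwU : (w : G) ∈ U := hw ▸ (Subgroup.mem_normalizer_iff.1 (hU hl) u).1 hu
      have : w = (⟨x, hx.1⟩ : V) := c.φ_bij.1 (by
        rw [hwφ]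
        funext i
        fin_cases i
        · simp [hu0]
        · simp [(hzero ⟨x, hx.1⟩).1 hx, (hzero ⟨u, (hUC hu).1⟩).1 (hUC hu)])
      rw [this] at hwU
      exact hwU
  · by_cases h : U ≤ C
    · exact Or.inl (le_antisymm h hCU)
    · refine Or.inr (le_antisymm hUV fun x hx => ?_)
      obtain ⟨u, hu, huC⟩ := SetLike.not_le_iff_exists.1 h
      have hu1 : c.φ ⟨u, hUV hu⟩ 1 ≠ 0 := fun e => huC ((hzero ⟨u, hUV hu⟩).2 e)
      by_cases hx1 : c.φ ⟨x, hx⟩ 1 = 0
      · exact hCU ((hzero ⟨x, hx⟩).2 hx1)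
      obtain ⟨l, hl, hact⟩ := htorus (Units.mk0 _ (div_ne_zero hu1 hx1))
      obtain ⟨w, hw, hwφ⟩ := hact ⟨u, hUV hu⟩
      have hwU : (w : G) ∈ U := hw ▸ (Subgroup.mem_normalizer_iff.1 (hU hl) u).1 hu
      have hd : ((w⁻¹ * ⟨x, hx⟩ : V) : G) ∈ C := by
        refine (hzero _).2 ?_
        have h1 := c.φ_mul w w⁻¹
        rw [mul_inv_cancel, c.φ_one] at h1
        rw [c.φ_mul, eq_neg_of_add_eq_zero_right h1.symm, hwφ]
        simp
        field_simp
        ring
      have := U.mul_mem hwU (hCU hd)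
      simpa using this

end Cfsg.Agent.S2780
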