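import Cfsg.Statements.S2781
import Cfsg.Agent.Lib.PRed.Reduced

set_option autoImplicit false
open Cfsg
open scoped commutatorElement

namespace Cfsg.Agent.S2781

/-- Let H act faithfully by conjugation on the elementary abelian p-subgroup V of a finite group, let O^p(H) be the subgroup of H generated by its elements of order prime to p, and T a Sylow p-subgroup of O^p(H). If V is generated by the H-conjugates of C_V(T) (V is the smallest H-invariant subgroup containing C_V(T)), then V = [V, O^p(H)]·C_V(O^p(H)). -/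
theorem result {G : Type*} [Group G] [Finite G] {p : ℕ} [Fact p.Prime] (V H : Subgroup G) (hV : Cfsg.IsElementaryAbelian p V) (hHV : H ≤ Subgroup.normalizer (V : Set G)) (hf : H ⊓ Subgroup.centralizer (V : Set G) = ⊥) (R : Subgroup G) (hR : R = (Cfsg.pResidual p ↥H).map H.subtype) (S : Sylow p ↥R) (T : Subgroup G) (hT : T = ((S : Subgroup ↥R).map R.subtype)) (hgen : ∀ W : Subgroup G, H ≤ Subgroup.normalizer (W : Set G) → (V ⊓ Subgroup.centralizer ((T : Subgroup G) : Set G)) ≤ W → V ≤ W) : ⁅V, R⁆ ⊔ (V ⊓ Subgroup.centralizer ((R : Subgroup G) : Set G)) = V := by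
  have hp : p.Prime := Fact.out
  have hRH : R ≤ H := hR.symm ▸ Subgroup.map_subtype_le _
  have hHR : H ≤ Subgroup.normalizer (R : Set G) := hR.symm ▸ Cfsg.Agent.PRed.le_normalizer_pResidual_sub H
  have hRV : R ≤ Subgroup.normalizer (V : Set G) := hRH.trans hHV
  have hWV : ⁅V, R⁆ ≤ V := Subgroup.le_normalizer_iff_commutator_le_left.1 hRV
  refine le_antisymm (sup_le hWV inf_le_left) (hgen _ ?_ ?_)
  · intro h hh
    refine Cfsg.Agent.Coprime.mem_normalizer_of_conj_smul_eq ?_
    show Subgroup.map (MulAut.conj h).toMonoidHom _ = _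
    have eV : V.map (MulAut.conj h).toMonoidHom = V :=
      Cfsg.Agent.Coprime.conj_smul_eq_self_of_mem (hHV hh)
    have eR : R.map (MulAut.conj h).toMonoidHom = R :=
      Cfsg.Agent.Coprime.conj_smul_eq_self_of_mem (hHR hh)
    have eC : (Subgroup.centralizer (R : Set G)).map (MulAut.conj h).toMonoidHom =
        Subgroup.centralizer (R : Set G) :=
      Cfsg.Agent.Coprime.conj_smul_eq_self_of_mem
        (Cfsg.Agent.Balance.normalizer_le_normalizer_centralizer _ (hHR hh))
    rw [Subgroup.map_sup, Subgroup.map_commutator, eV, eR,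
      Subgroup.map_inf _ _ _ (MulAut.conj h).injective, eV, eC]
  · intro v hv
    obtain ⟨hvV, hvT⟩ := hv
    letI : CommGroup ↥V :=
      { (inferInstance : Group ↥V) with mul_comm := fun a b => hV.1.is_comm.comm a b }
    let act : ↥R → ↥V → ↥V := fun r w =>
      ⟨(r : G) * w * (r : G)⁻¹, (Subgroup.mem_normalizer_iff.1 (hRV r.2) _).1 w.2⟩
    have act_hom : ∀ r : ↥R, ∀ a b : ↥V, act r (a * b) = act r a * act r b := by
      intro r a b
      refine Subtype.ext ?_
      show (r : G) * ((a : G) * b) * (r : G)⁻¹ = ((r : G) * a * (r : G)⁻¹) * ((r : G) * b * (r : G)⁻¹)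
      group
    let φ : ↥R → (↥V →* ↥V) := fun r => MonoidHom.mk' (act r) (act_hom r)
    have hfix : ∀ s ∈ (S : Subgroup ↥R), (s : G) * v * (s : G)⁻¹ = v := by
      intro s hs
      have h1 := Subgroup.mem_centralizer_iff.1 hvT (s : G) (hT.symm ▸ ⟨s, hs, rfl⟩)
      rw [h1, mul_inv_cancel_right]
    let f : ↥R ⧸ (S : Subgroup ↥R) → ↥V := fun q =>
      Quotient.liftOn' q (fun r => act r ⟨v, hvV⟩) (by
        intro a b hab
        rw [QuotientGroup.leftRel_apply] at hab
        have h1 := hfix _ hab
        refine Subtype.ext ?_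
        show (a : G) * v * (a : G)⁻¹ = (b : G) * v * (b : G)⁻¹
        simp only [Subgroup.coe_mul, Subgroup.coe_inv] at h1
        have h2 : (b : G) = (a : G) * ((a : G)⁻¹ * b) := by group
        rw [h2]
        conv_lhs => rw [← h1]
        group)
    have hf : ∀ r : ↥R, f (QuotientGroup.mk r) = act r ⟨v, hvV⟩ := fun r => rfl
    have : Fintype (↥R ⧸ (S : Subgroup ↥R)) := Fintype.ofFinite _
    set N := ∏ q, f q with hN
    have hNfix : ∀ r : ↥R, φ r N = N := by
      intro r
      rw [hN, map_prod]
      refine Fintype.prod_equiv (MulAction.toPerm r) _ _ fun q => ?_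
      induction q using QuotientGroup.induction_on with
      | _ a =>
        show act r (act a ⟨v, hvV⟩) = f (QuotientGroup.mk (r * a))
        rw [hf]
        refine Subtype.ext ?_
        show (r : G) * ((a : G) * v * (a : G)⁻¹) * (r : G)⁻¹ = ((r * a : ↥R) : G) * v * ((r * a : ↥R) : G)⁻¹
        simp only [Subgroup.coe_mul]
        group
    have hNC : (N : G) ∈ V ⊓ Subgroup.centralizer (R : Set G) := by
      refine ⟨N.2, Subgroup.mem_centralizer_iff.2 fun r hr => ?_⟩
      have h1 : r * (N : G) * r⁻¹ = N := congrArg Subtype.val (hNfix ⟨r, hr⟩)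
      conv_rhs => rw [← h1]
      group
    have hmod : ∀ q, f q * (⟨v, hvV⟩ : ↥V)⁻¹ ∈ (⁅V, R⁆).subgroupOf V := by
      intro q
      induction q using QuotientGroup.induction_on with
      | _ a =>
        rw [hf, Subgroup.mem_subgroupOf]
        have := inv_mem (Subgroup.commutator_mem_commutator hvV a.2)
        rw [commutatorElement_inv] at this
        exact this
    have hprod := prod_mem (t := Finset.univ) fun q _ => hmod q
    rw [Finset.prod_mul_distrib, Finset.prod_const, ← hN, Subgroup.mem_subgroupOf] at hprod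
    set m := (Finset.univ : Finset (↥R ⧸ (S : Subgroup ↥R))).card with hm
    have hvm : v ^ m ∈ ⁅V, R⁆ ⊔ (V ⊓ Subgroup.centralizer (R : Set G)) := by
      simp only [Subgroup.coe_mul, SubmonoidClass.coe_pow, Subgroup.coe_inv, inv_pow] at hprod
      have h1 := mul_mem (Subgroup.mem_sup_left (T := V ⊓ Subgroup.centralizer (R : Set G)) (inv_mem hprod))
        (Subgroup.mem_sup_right (S := ⁅V, R⁆) hNC)
      simpa [mul_assoc] using h1
    have hidx : ¬ p ∣ m := by
      have := S.not_dvd_index
      rwa [Subgroup.index, Nat.card_eq_fintype_card, ← Finset.card_univ] at this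
    have hcop : (orderOf v).Coprime m :=
      ((hp.coprime_iff_not_dvd.2 hidx).coprime_dvd_left (orderOf_dvd_of_pow_eq_one (hV.2 v hvV)))
    obtain ⟨e, he⟩ := exists_pow_eq_self_of_coprime (n := m) (x := v) hcop.symm
    rw [← he]
    exact pow_mem hvm e

end Cfsg.Agent.S2781
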