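import Cfsg.Statements.S2787
import Cfsg.Agent.Lib.Quadratic.Stability
import Cfsg.Agent.Lib.Twisted.Ree.SylowTwo
-- import your own Cfsg.Agent.* helpers here

set_option autoImplicit false
open Cfsg

namespace Cfsg.Agent.S2787

section

open Subgroup Cfsg.Agent.Quadratic
open scoped MatrixGroups

universe u v


/-- In `PSL(2, F)`, `F` of odd characteristic `p`, an element of order `p` times a suitable
involution has order dividing 3. -/
theorem exists_involution_psl {F : Type} [Field F] [Fintype F] {p : ℕ} [hp : Fact p.Prime]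
    [CharP F p] (hp2 : p ≠ 2) (x : Matrix.ProjectiveSpecialLinearGroup (Fin 2) F) (hx : x ≠ 1)
    (hxp : x ^ p = 1) :
    ∃ w : Matrix.ProjectiveSpecialLinearGroup (Fin 2) F, w ≠ 1 ∧ w * w = 1 ∧ (x * w) ^ 3 = 1 := by
  obtain ⟨g₀, rfl⟩ := QuotientGroup.mk_surjective x
  have hz : g₀ ^ p ∈ Subgroup.center SL(2, F) := (QuotientGroup.eq_one_iff _).1 hxp
  have hzz : g₀ ^ p * g₀ ^ p = 1 := by
    obtain ⟨r, hr, hrg⟩ := Matrix.SpecialLinearGroup.mem_center_iff.1 hz
    apply Subtype.ext
    rw [Matrix.SpecialLinearGroup.coe_mul, Matrix.SpecialLinearGroup.coe_one, ← hrg, ← map_mul,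
      ← sq, show r ^ 2 = 1 by simpa using hr, map_one]
  set g := g₀ * g₀ ^ p with hg
  have hgp : g ^ p = 1 := by
    obtain ⟨k, hk⟩ := (hp.out.odd_of_ne_two hp2).add_one
    rw [hg, (Commute.self_pow g₀ p).mul_pow, ← pow_mul, ← pow_add,
      show p + p * p = p * (p + 1) by ring, pow_mul, hk, ← two_mul, pow_mul, sq, hzz, one_pow]
  have hgx : (QuotientGroup.mk g : Matrix.ProjectiveSpecialLinearGroup (Fin 2) F) =
      QuotientGroup.mk g₀ := by
    rw [hg, QuotientGroup.mk_mul, (QuotientGroup.eq_one_iff _).2 hz, mul_one]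
  have hg1 : g ≠ 1 := fun e => hx (by rw [← hgx, e, QuotientGroup.mk_one])
  set M : Matrix (Fin 2) (Fin 2) F := (g : Matrix (Fin 2) (Fin 2) F) with hM
  have hnil : (M - 1) ^ p = 0 := by
    rw [sub_pow_char_of_commute p (Commute.one_right M), one_pow, hM,
      ← Matrix.SpecialLinearGroup.coe_pow, hgp, Matrix.SpecialLinearGroup.coe_one, sub_self]
  have hdet0 : (M - 1).det = 0 := by
    have h := congrArg Matrix.det hnil
    rw [Matrix.det_pow, Matrix.det_zero] at h
    exact pow_eq_zero_iff hp.out.ne_zero |>.1 h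
  have htr : (M - 1).trace = 0 :=
    IsNilpotent.eq_zero (Matrix.isNilpotent_trace_of_isNilpotent ⟨p, hnil⟩)
  have hdet : M.det = 1 := g.2
  rw [Matrix.det_fin_two] at hdet0 hdet
  rw [Matrix.trace_fin_two] at htr
  simp only [Matrix.sub_apply, Matrix.one_apply_eq, ne_eq, zero_ne_one, not_false_eq_true,
    Matrix.one_apply_ne, one_ne_zero, sub_zero] at hdet0 htr
  obtain ⟨W, hW0, hWdet, hWtr, hWne⟩ : ∃ W : Matrix (Fin 2) (Fin 2) F,
      W 0 0 + W 1 1 = 0 ∧ W.det = 1 ∧ (M * W) 0 0 + (M * W) 1 1 = -1 ∧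
        ∀ r : F, Matrix.scalar (Fin 2) r ≠ W := by
    by_cases hb : M 0 1 = 0
    · have ha : M 0 0 = 1 := by
        have h : (M 0 0 - 1) * (M 0 0 - 1) = 0 := by
          linear_combination -hdet0 + (M 0 0 - 1) * htr - M 1 0 * hb
        exact sub_eq_zero.1 (mul_self_eq_zero.1 h)
      have hd : M 1 1 = 1 := by linear_combination htr - ha
      have hc : M 1 0 ≠ 0 := fun hc => hg1 (Subtype.ext (Matrix.ext fun i j => by
        fin_cases i <;> fin_cases j <;> simp_all [hM]))
      refine ⟨!![0, -(M 1 0)⁻¹; M 1 0, 0], by simp, by simp [Matrix.det_fin_two, hc],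
        ?_, fun r h => hc ?_⟩
      · simp [Matrix.mul_apply, Fin.sum_univ_two, hb, hc]
      · simpa using (congrFun (congrFun h 1) 0).symm
    · set a := M 0 0 - 1 with ha
      refine ⟨!![a, M 0 1; -(1 + a * a) / M 0 1, -a], by simp, ?_, ?_, fun r h => hb ?_⟩
      · simp [Matrix.det_fin_two]; field_simp; ring
      · have h11 : M 1 1 = 1 - a := by linear_combination htr
        have h00 : M 0 0 = 1 + a := by rw [ha]; ring
        have h10 : M 1 0 * M 0 1 = -(a * a) := by
          rw [h11] at hdet0; linear_combination -hdet0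
        simp [Matrix.mul_apply, Fin.sum_univ_two]
        rw [h11, h00, h10, mul_div_cancel₀ _ hb]
        ring
      · simpa using (congrFun (congrFun h 0) 1).symm
  let w : SL(2, F) := ⟨W, hWdet⟩
  rw [Matrix.det_fin_two] at hWdet
  refine ⟨QuotientGroup.mk w, fun e => ?_, ?_, ?_⟩
  · obtain ⟨r, -, hr⟩ := Matrix.SpecialLinearGroup.mem_center_iff.1 ((QuotientGroup.eq_one_iff w).1 e)
    exact hWne r hr
  · rw [← QuotientGroup.mk_mul]
    refine (QuotientGroup.eq_one_iff _).2
      (Matrix.SpecialLinearGroup.mem_center_iff.2 ⟨-1, by simp, ?_⟩)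
    show Matrix.scalar (Fin 2) (-1 : F) = W * W
    ext i j
    fin_cases i <;> fin_cases j <;> simp [Matrix.mul_apply, Fin.sum_univ_two]
    · linear_combination -(W 0 0) * hW0 + hWdet
    · linear_combination -(W 0 1) * hW0
    · linear_combination -(W 1 0) * hW0
    · linear_combination -(W 1 1) * hW0 + hWdet
  · rw [← hgx, ← QuotientGroup.mk_mul, ← QuotientGroup.mk_pow]
    refine (QuotientGroup.eq_one_iff _).2 ?_
    suffices h : (g * w) ^ 3 = 1 by rw [h]; exact one_mem _
    apply Subtype.ext
    set R := M * W with hR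
    have hRd : R 0 0 * R 1 1 - R 0 1 * R 1 0 = 1 := by
      rw [← Matrix.det_fin_two, hR, Matrix.det_mul, Matrix.det_fin_two M, Matrix.det_fin_two W,
        hdet, hWdet, one_mul]
    have hcay : R * R = -R - 1 := by
      ext i j
      fin_cases i <;> fin_cases j <;> simp [Matrix.mul_apply, Fin.sum_univ_two]
      · linear_combination R 0 0 * hWtr - hRd
      · linear_combination R 0 1 * hWtr
      · linear_combination R 1 0 * hWtr
      · linear_combination R 1 1 * hWtr - hRd
    show ((g * w) ^ 3 : SL(2, F)).1 = (1 : SL(2, F)).1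
    rw [Matrix.SpecialLinearGroup.coe_pow, Matrix.SpecialLinearGroup.coe_mul,
      Matrix.SpecialLinearGroup.coe_one]
    show R ^ 3 = 1
    rw [pow_succ, sq, hcay, sub_mul, neg_mul, hcay, one_mul]
    abel

/-- A quadratic element and an involution whose product has cube one. -/
theorem eq_one_of_cube {R : Type*} [Ring R] {p : ℕ} (hp : Odd p) (hchar : ∀ x : R, p • x = 0)
    (T W : R) (hT : (T - 1) * (T - 1) = 0) (hW : W * W = 1)
    (h3 : T * W * (T * W) * (T * W) = 1) (hWp : T ^ p = 1) : W = 1 := by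
  have two : ∀ x : R, x + x = 0 → x = 0 := fun x hx => by
    obtain ⟨k, hk⟩ := hp
    have := hchar x
    rw [hk, succ_nsmul, two_mul, add_nsmul, ← nsmul_add, hx, nsmul_zero, zero_add] at this
    exact this
  set N := T - 1 with hN
  have hT' : T = 1 + N := by rw [hN]; abel
  have inv1 : (1 - N) * T = 1 := by rw [hT', sub_mul, one_mul, mul_add, mul_one, hT]; abel
  have inv2 : T * (1 - N) = 1 := by rw [hT', add_mul, one_mul, mul_sub, mul_one, hT]; abel
  have key : W * T * W = (1 - N) * W * (1 - N) := by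
    calc W * T * W = (1 - N) * T * (W * T * W) * (T * (1 - N)) := by rw [inv1, inv2, one_mul, mul_one]
      _ = (1 - N) * (T * W * (T * W) * T) * (1 - N) := by simp only [mul_assoc]
      _ = (1 - N) * (T * W * (T * W) * T * (W * W)) * (1 - N) := by rw [hW, mul_one]
      _ = (1 - N) * (T * W * (T * W) * (T * W) * W) * (1 - N) := by simp only [mul_assoc]
      _ = _ := by rw [h3, one_mul]
  have h : 1 + W * N * W = W - N * W - W * N + N * W * N := by
    rw [hT', mul_add, mul_one, add_mul, hW] at key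
    rw [key]
    noncomm_ring
  have nn : ∀ x : R, N * (N * x) = 0 := fun x => by rw [← mul_assoc, hT, zero_mul]
  have ww : ∀ x : R, W * (W * x) = x := fun x => by rw [← mul_assoc, hW, one_mul]
  have h1 : N + N * W * N * W = N * W - N * W * N := by
    have := congrArg (N * ·) h
    simpa [mul_add, mul_sub, mul_assoc, nn, hT] using this
  have h2 : N * W + N * W * N = N - N * W * N * W := by
    have := congrArg (· * W) h1
    simpa [add_mul, sub_mul, mul_assoc, hW, ww] using this
  have hNW : N * W = N := by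
    refine sub_eq_zero.1 (two _ ?_)
    linear_combination (norm := abel) h2 - h1
  have h1' : N + W * N * W * N = W * N - N * W * N := by
    have := congrArg (· * N) h
    simpa [add_mul, sub_mul, mul_assoc, nn, hT] using this
  have h2' : W * N + N * W * N = N - W * N * W * N := by
    have := congrArg (W * ·) h1'
    simpa [mul_add, mul_sub, mul_assoc, hW, ww] using this
  have hWN : W * N = N := by
    refine sub_eq_zero.1 (two _ ?_)
    linear_combination (norm := abel) h2' - h1'
  rw [hWN, hNW, hT, add_zero] at h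
  have hW3 : W = 1 + (N + N + N) := by linear_combination (norm := abel) -h
  have h6 : (N + N + N) + (N + N + N) = 0 := by
    have := hW
    rw [hW3] at this
    simp only [mul_add, add_mul, mul_one, one_mul, hT, add_zero] at this
    linear_combination (norm := abel) this
  rw [hW3, two _ h6, add_zero]

variable {G : Type u} [Group G] {p : ℕ} [hp : Fact p.Prime]

/-- The linear action of the quotient `H/C_H(V)`. -/
theorem exists_rep (V H : Subgroup G) (hV : IsElementaryAbelian p V)
    (hHV : H ≤ normalizer (V : Set G))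
    [((centralizer (V : Set G)).subgroupOf H).Normal] :
    ∃ (W : Type u) (_ : AddCommGroup W) (_ : Module (ZMod p) W)
      (ρ : ↥H ⧸ (centralizer (V : Set G)).subgroupOf H →* Module.End (ZMod p) W)
      (ι : W → G),
      Function.Injective ρ ∧ Function.Injective ι ∧ ι 0 = 1 ∧ (∀ x, ι x ∈ V) ∧
      (∀ v ∈ V, ∃ x, ι x = v) ∧
      (∀ x y, ι (x - y) = ι x * (ι y)⁻¹) ∧
      ∀ (h : ↥H) x, ι (ρ (QuotientGroup.mk h) x) = h * ι x * (h : G)⁻¹ := by
  let _ : CommGroup V := { (inferInstance : Group V) with mul_comm := hV.1.is_comm.comm }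
  have : Module (ZMod p) (Additive V) := AddCommGroup.zmodModule fun x => by
    show Additive.ofMul ((Additive.toMul x) ^ p) = 0
    exact congrArg Additive.ofMul (Subtype.ext (hV.2 _ (Additive.toMul x).2))
  let ρ₀ : H →* Module.End (ZMod p) (Additive V) :=
    { toFun := fun h => (conjAdd V (hHV h.2)).toZModLinearMap p
      map_one' := by
        refine LinearMap.ext fun x => Additive.toMul.injective (Subtype.ext ?_)
        show ((1 : ↥H) : G) * (Additive.toMul x : V) * ((1 : ↥H) : G)⁻¹ = (Additive.toMul x : V)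
        simp
      map_mul' := fun g h => by
        refine LinearMap.ext fun x => Additive.toMul.injective (Subtype.ext ?_)
        show (g : G) * h * (Additive.toMul x : V) * ((g : G) * h)⁻¹ =
          g * (h * (Additive.toMul x : V) * (h : G)⁻¹) * (g : G)⁻¹
        group }
  have hval : ∀ (h : H) (x : Additive V),
      ((Additive.toMul (ρ₀ h x) : V) : G) = h * (Additive.toMul x : V) * (h : G)⁻¹ := fun _ _ => rfl
  have hker : ∀ h : ↥H, h ∈ (centralizer (V : Set G)).subgroupOf H ↔ ρ₀ h = 1 := by
    intro h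
    rw [mem_subgroupOf, mem_centralizer_iff]
    constructor
    · intro hc
      refine LinearMap.ext fun x => Additive.toMul.injective (Subtype.ext ?_)
      rw [hval, mul_inv_eq_iff_eq_mul]
      show _ = ((Additive.toMul x : V) : G) * _
      exact (hc _ (Additive.toMul x).2).symm
    · intro he v hv
      have h1 := hval h (Additive.ofMul ⟨v, hv⟩)
      rw [he] at h1
      exact (eq_mul_inv_iff_mul_eq.1 h1)
  refine ⟨Additive ↥V, inferInstance, inferInstance,
    QuotientGroup.lift _ ρ₀ fun h hh => (hker h).1 hh,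
    fun x => ((Additive.toMul x : V) : G), ?_, fun x y e => Additive.toMul.injective (Subtype.ext e),
    rfl, fun x => (Additive.toMul x).2, fun v hv => ⟨Additive.ofMul ⟨v, hv⟩, rfl⟩, fun x y => ?_,
    hval⟩
  · intro a b e
    induction a using QuotientGroup.induction_on with
    | _ a =>
      induction b using QuotientGroup.induction_on with
      | _ b =>
        refine QuotientGroup.eq.2 ((hker _).2 ?_)
        have e' : ρ₀ a = ρ₀ b := e
        rw [map_mul, ← e', ← map_mul, inv_mul_cancel, map_one]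
  · show ((Additive.toMul (x - y) : V) : G) = _
    rw [toMul_sub, div_eq_mul_inv, Subgroup.coe_mul, Subgroup.coe_inv]

/-- No quadratic pair in a group with abelian Sylow 2-subgroups. -/
theorem isPGroup_of_quadratic_pair {Q : Type*} [Group Q] [Finite Q] {W : Type v} [AddCommGroup W]
    [Module (ZMod p) W] [Finite W] (hp2 : p ≠ 2) (ρ : Q →* Module.End (ZMod p) W)
    (hρ : Function.Injective ρ) {a b : Q} (ha : (ρ a - 1) * (ρ a - 1) = 0)
    (hb : (ρ b - 1) * (ρ b - 1) = 0) (hab : ∀ T : Sylow 2 Q, IsMulCommutative T) :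
    IsPGroup p (closure ({a, b} : Set Q)) := by
  haveI : Fact (Nat.Prime 2) := ⟨Nat.prime_two⟩
  set X := closure ({a, b} : Set Q) with hX
  by_contra hX'
  let a' : X := ⟨a, subset_closure (by simp)⟩
  let b' : X := ⟨b, subset_closure (by simp)⟩
  set K := AlgebraicClosure (ZMod p)
  set B := Module.Free.chooseBasis (ZMod p) W
  let e : Module.End (ZMod p) W →+* Module.End K (Module.Free.ChooseBasisIndex (ZMod p) W → K) :=
    ((Matrix.toLinAlgEquiv' (R := K)).toRingEquiv.toRingHom.comp
      ((algebraMap (ZMod p) K).mapMatrix)).comp (LinearMap.toMatrixAlgEquiv B).toRingEquiv.toRingHom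
  have hinj : Function.Injective e :=
    (Matrix.toLinAlgEquiv' (R := K)).injective.comp
      ((Matrix.map_injective (algebraMap (ZMod p) K).injective).comp
        (LinearMap.toMatrixAlgEquiv B).injective)
  let σ : X →* Module.End K (Module.Free.ChooseBasisIndex (ZMod p) W → K) :=
    e.toMonoidHom.comp (ρ.comp X.subtype)
  have hq : ∀ c : X, (ρ c - 1) * (ρ c - 1) = 0 → (σ c - 1) * (σ c - 1) = 0 := by
    intro c hc
    show (e (ρ c) - 1) * (e (ρ c) - 1) = 0
    rw [← map_one e, ← map_sub, ← map_mul, hc, map_zero]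
  have hgen : closure ({a', b'} : Set X) = ⊤ := by
    apply map_injective X.subtype_injective
    rw [MonoidHom.map_closure, Set.image_pair, ← MonoidHom.range_eq_map, range_subtype]
    rfl
  have hnp : ¬ PImage p σ := fun h => hX' fun x => by
    obtain ⟨k, hk⟩ := h x
    exact ⟨k, Subtype.ext (hρ ((hinj (hk.trans (map_one e).symm)).trans (map_one ρ).symm))⟩
  obtain ⟨φ, hφ, hφa, hφb⟩ := exists_SL2_of_linear hgen σ (N := Nat.card X) Nat.card_pos
    pow_card_eq_one' (IsAlgClosed.splits _) (hq a' ha) (hq b' hb) hnp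
  haveI : Finite φ.range := Finite.of_surjective _ φ.rangeRestrict_surjective
  refine hφ ((isPGroup_range_iff φ).1 ?_)
  refine isPGroup_of_abelian_sylow_two φ.range hp2 ?_
    ((default : Sylow 2 X).mapSurjective φ.rangeRestrict_surjective) ?_
  · rw [MonoidHom.range_eq_map, ← hgen, MonoidHom.map_closure]
    refine closure_mono ?_
    rintro _ ⟨z, (rfl | rfl), rfl⟩
    exacts [⟨subset_closure ⟨_, Or.inl rfl, rfl⟩, hφa⟩,
      ⟨subset_closure ⟨_, Or.inr rfl, rfl⟩, hφb⟩]
  · have hT := isMulCommutative_sylow_two_of_forall hab X default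
    refine PGroup.isMulCommutative_of_forall ?_
    rintro _ ⟨x, hx, rfl⟩ _ ⟨y, hy, rfl⟩
    rw [← map_mul, ← map_mul, PGroup.mul_comm_of_isMulCommutative hT hx hy]

end

/-- Let p be a prime and let H act by conjugation on the elementary abelian p-subgroup V of a finite group, irreducibly (no H-invariant subgroups of V other than 1 and V) and nontrivially, and suppose H/C_H(V) is isomorphic to PSL₂(F) for a field F with p^n elements, p^n odd, or p = 3 and H/C_H(V) is isomorphic to a Ree group ²G₂(3^(2m+1)), m ≥ 1. Then no subgroup A of H acting nontrivially on V acts quadratically: [V, A, A] = 1 forces [V, A] = 1. -/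
theorem result {G : Type*} [Group G] [Finite G] {p : ℕ} [Fact p.Prime] (V H : Subgroup G) (hV : Cfsg.IsElementaryAbelian p V) (hHV : H ≤ Subgroup.normalizer (V : Set G)) (hirr : ∀ U : Subgroup G, U ≤ V → H ≤ Subgroup.normalizer (U : Set G) → U = ⊥ ∨ U = V) (hnt : ¬ H ≤ Subgroup.centralizer (V : Set G)) [hn : ((Subgroup.centralizer (V : Set G)).subgroupOf H).Normal] (hq : (∃ (F : Type) (_ : Field F) (_ : Fintype F) (n : ℕ), Fintype.card F = p ^ n ∧ Odd (Fintype.card F) ∧ Nonempty (↥H ⧸ (Subgroup.centralizer (V : Set G)).subgroupOf H ≃* Matrix.ProjectiveSpecialLinearGroup (Fin 2) F)) ∨ (p = 3 ∧ Cfsg.Lie.IsoRee (↥H ⧸ (Subgroup.centralizer (V : Set G)).subgroupOf H))) (A : Subgroup G) (hA : A ≤ H) (hquad : ⁅⁅V, A⁆, A⁆ = ⊥) : ⁅V, A⁆ = ⊥ := by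
  classical
  obtain ⟨W, _, _, ρ, ι, hρ, hι, hι0, hιV, hιs, hιsub, hval⟩ :=
    exists_rep V H hV hHV
  haveI : Finite W := Finite.of_injective ι hι
  rw [Subgroup.commutator_eq_bot_iff_le_centralizer]
  intro v hv
  rw [Subgroup.mem_centralizer_iff]
  intro a ha
  suffices hmem : (⟨a, hA ha⟩ : ↥H) ∈ (Subgroup.centralizer (V : Set G)).subgroupOf H by
    exact (Subgroup.mem_centralizer_iff.1 (Subgroup.mem_subgroupOf.1 hmem) v hv).symm
  by_contra hne
  set ā : ↥H ⧸ (Subgroup.centralizer (V : Set G)).subgroupOf H := QuotientGroup.mk ⟨a, hA ha⟩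
  have hā : ā ≠ 1 := fun e => hne ((QuotientGroup.eq_one_iff _).1 e)
  -- quadratic
  have hT : (ρ ā - 1) * (ρ ā - 1) = 0 := by
    refine LinearMap.ext fun x => ?_
    simp only [Module.End.mul_apply, LinearMap.sub_apply, Module.End.one_apply,
      LinearMap.zero_apply]
    rw [sub_eq_zero]
    apply hι
    rw [hval]
    have hm : ι (ρ ā x - x) ∈ ⁅V, A⁆ := by
      rw [hιsub, hval]
      have : (a * ι x * a⁻¹ * (ι x)⁻¹) ∈ ⁅A, V⁆ := Subgroup.commutator_mem_commutator ha (hιV x)
      rwa [Subgroup.commutator_comm] at this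
    rw [Subgroup.mem_centralizer_iff.1
      (Subgroup.commutator_eq_bot_iff_le_centralizer.1 hquad hm) a ha, mul_inv_cancel_right]
  have hap : ā ^ p = 1 := hρ (by rw [map_pow, map_one, Quadratic.pow_eq_one_of_quadratic hT])
  rcases hq with ⟨F, _, _, n, hcard, hodd, ⟨e⟩⟩ | ⟨rfl, F, _, _, m, -, hcard, ⟨e⟩⟩
  · have hp : p.Prime := Fact.out
    haveI : CharP F p := charP_of_card_eq_prime_pow hcard
    have hn0 : n ≠ 0 := by
      rintro rfl
      have := Fintype.one_lt_card (α := F)
      rw [pow_zero] at hcard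
      omega
    have hp2 : p ≠ 2 := by
      rintro rfl
      rw [hcard, Nat.odd_iff] at hodd
      have : 2 ∣ 2 ^ n := dvd_pow_self 2 hn0
      omega
    obtain ⟨w, hw1, hw2, hw3⟩ := exists_involution_psl hp2 (e ā)
      ((map_ne_one_iff e e.injective).2 hā) (by rw [← map_pow, hap, map_one])
    refine hw1 ?_
    rw [← e.apply_symm_apply w, map_eq_one_iff e e.injective]
    apply hρ
    rw [map_one]
    refine eq_one_of_cube (hp.odd_of_ne_two hp2) (fun x => ?_) _ _ hT ?_ ?_
      (Quadratic.pow_eq_one_of_quadratic hT)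
    · rw [← Nat.cast_smul_eq_nsmul (ZMod p), ZMod.natCast_self, zero_smul]
    · rw [← map_mul, ← map_mul, hw2, map_one, map_one]
    · rw [← map_mul, ← map_mul, ← map_mul]
      have : ā * e.symm w * (ā * e.symm w) * (ā * e.symm w) = 1 := by
        apply e.injective
        simpa [pow_succ, mul_assoc] using hw3
      rw [this, map_one]
  · haveI := Twisted.Ree.charP_three hcard
    haveI : Fact (Nat.Prime 2) := ⟨Nat.prime_two⟩
    have hab : ∀ T : Sylow 2 (↥H ⧸ (Subgroup.centralizer (V : Set G)).subgroupOf H),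
        IsMulCommutative T := by
      intro T
      have hT' := Twisted.Ree.isMulCommutative_sylow_two hcard
        (T.mapSurjective (f := e.toMonoidHom) e.surjective)
      refine PGroup.isMulCommutative_of_forall fun x hx y hy => e.injective ?_
      rw [map_mul, map_mul]
      exact PGroup.mul_comm_of_isMulCommutative hT' ⟨x, hx, rfl⟩ ⟨y, hy, rfl⟩
    have hcore : Cfsg.pCore 3 (↥H ⧸ (Subgroup.centralizer (V : Set G)).subgroupOf H) = ⊥ := by
      set P := Cfsg.pCore 3 (↥H ⧸ (Subgroup.centralizer (V : Set G)).subgroupOf H)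
      let U : Subgroup G :=
        { carrier := {v | v ∈ V ∧ ∀ h : ↥H, QuotientGroup.mk h ∈ P → (h : G) * v = v * h}
          one_mem' := ⟨V.one_mem, fun h _ => by simp⟩
          mul_mem' := fun {v w} hv hw => ⟨V.mul_mem hv.1 hw.1, fun h hh => by
            rw [← mul_assoc, hv.2 h hh, mul_assoc, hw.2 h hh, mul_assoc]⟩
          inv_mem' := fun {v} hv => ⟨V.inv_mem hv.1, fun h hh =>
            (Commute.inv_right (hv.2 h hh)).eq⟩ }
      have hUV : U ≤ V := fun v hv => hv.1
      have hHU : H ≤ Subgroup.normalizer (U : Set G) := by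
        have key : ∀ g : ↥H, ∀ v ∈ U, (g : G) * v * (g : G)⁻¹ ∈ U := by
          intro g v hv
          refine ⟨(Subgroup.mem_normalizer_iff.1 (hHV g.2) v).1 hv.1, fun h hh => ?_⟩
          have h1 := hv.2 (g⁻¹ * h * g) (by
            rw [QuotientGroup.mk_mul, QuotientGroup.mk_mul, QuotientGroup.mk_inv]
            exact (Cfsg.pCore_normal 3 _).conj_mem' _ hh _)
          simp only [Subgroup.coe_mul, Subgroup.coe_inv] at h1
          calc (h : G) * ((g : G) * v * (g : G)⁻¹)
              = (g : G) * ((g : G)⁻¹ * h * g * v) * (g : G)⁻¹ := by group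
            _ = (g : G) * (v * ((g : G)⁻¹ * h * g)) * (g : G)⁻¹ := by rw [h1]
            _ = _ := by group
        intro g hg
        refine Subgroup.mem_normalizer_iff.2 fun v => ⟨fun hv => key ⟨g, hg⟩ v hv, fun hv => ?_⟩
        have := key ⟨g, hg⟩⁻¹ _ hv
        simpa [mul_assoc] using this
      have hV1 : V ≠ ⊥ := fun e0 => hnt fun h _ => Subgroup.mem_centralizer_iff.2 fun v hv => by
        rw [SetLike.mem_coe, e0, Subgroup.mem_bot] at hv
        simp [hv]
      rcases hirr U hUV hHU with hU | hU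
      · exfalso
        letI : MulAction ↥P W :=
          { smul := fun q x => ρ q x
            one_smul := fun x => by
              show ρ 1 x = x
              rw [map_one]; rfl
            mul_smul := fun q r x => by
              show ρ (q * r) x = ρ q (ρ r x)
              rw [map_mul]; rfl }
        haveI : Nontrivial W := by
          obtain ⟨v, hv, hv1⟩ := (Subgroup.ne_bot_iff_exists_ne_one).1 hV1 |> fun ⟨v, h⟩ => (⟨v.1, v.2, fun e => h (Subtype.ext e)⟩ : ∃ v : G, v ∈ V ∧ v ≠ 1)
          obtain ⟨x, hx⟩ := hιs v hv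
          exact ⟨⟨x, 0, fun e => hv1 (by rw [← hx, e, hι0])⟩⟩
        obtain ⟨k, hk⟩ : ∃ k, Nat.card W = 3 ^ k := by
          rw [Nat.card_congr (Equiv.ofBijective (fun x => (⟨ι x, hιV x⟩ : ↥V))
            ⟨fun x y e => hι (congrArg Subtype.val e), fun v => (hιs v.1 v.2).imp fun x hx => Subtype.ext hx⟩)]
          exact IsPGroup.iff_card.1
            (fun x => ⟨1, Subtype.ext (by simpa using hV.2 _ x.2)⟩ : IsPGroup 3 ↥V)
        have hk0 : k ≠ 0 := by
          rintro rfl
          have := Finite.one_lt_card (α := W)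
          omega
        obtain ⟨x, hx, hx0⟩ := (PCore.isPGroup_pCore
          (p := 3)).exists_fixed_point_of_prime_dvd_card_of_fixed_point W
          (hk ▸ dvd_pow_self 3 hk0) (a := 0) (fun q => by show ρ q.1 0 = 0; exact map_zero _)
        refine hx0 (hι ?_)
        rw [hι0]
        have : ι x ∈ U := ⟨hιV x, fun h hh => by
          have h1 := hval h x
          rw [show ρ (QuotientGroup.mk h) x = x from hx ⟨_, hh⟩] at h1
          exact (eq_mul_inv_iff_mul_eq.1 h1).symm⟩
        rw [hU, Subgroup.mem_bot] at this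
        exact this.symm
      · rw [eq_bot_iff]
        intro q hq
        obtain ⟨h, rfl⟩ := QuotientGroup.mk_surjective q
        refine Subgroup.mem_bot.2 ((QuotientGroup.eq_one_iff _).2
          (Subgroup.mem_subgroupOf.2 (Subgroup.mem_centralizer_iff.2 fun v hv => ?_)))
        exact ((hU.ge hv : v ∈ U).2 h hq).symm
    obtain ⟨g, hg⟩ := Quadratic.exists_pair_of_not_mem (p := 3) (a := ā)
      (fun h => hā (Subgroup.mem_bot.1 (hcore ▸ h)))
    refine hg (isPGroup_of_quadratic_pair (by norm_num) ρ hρ hT ?_ hab)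
    have h1 : ρ (g * ā * g⁻¹) - 1 = ρ g * (ρ ā - 1) * ρ g⁻¹ := by
      rw [mul_sub, sub_mul, mul_one, ← map_mul, ← map_mul, ← map_mul, mul_inv_cancel, map_one]
    rw [h1]
    calc ρ g * (ρ ā - 1) * ρ g⁻¹ * (ρ g * (ρ ā - 1) * ρ g⁻¹)
        = ρ g * (ρ ā - 1) * (ρ g⁻¹ * ρ g) * (ρ ā - 1) * ρ g⁻¹ := by simp only [mul_assoc]
      _ = ρ g * ((ρ ā - 1) * (ρ ā - 1)) * ρ g⁻¹ := by
          rw [← map_mul, inv_mul_cancel, map_one, mul_one]; simp only [mul_assoc]
      _ = 0 := by rw [hT, mul_zero, zero_mul]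

end Cfsg.Agent.S2787
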