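import Cfsg.Statements.S2788
import Cfsg.Agent.Lib.TwoConjBound.SL2
import Cfsg.Agent.Lib.PCore.Basic
-- import your own Cfsg.Agent.* helpers here

set_option autoImplicit false
open Cfsg

namespace Cfsg.Agent.S2788

/-- Let H act faithfully by conjugation on the elementary abelian p-subgroup V of a finite group with H ≅ SL₂(F), F a field with p^n elements, S a Sylow p-subgroup of H, and A ≤ S a subgroup of order at least 3 acting quadratically on V ([V, A, A] = 1). Then |V/C_V(a)| ≥ p^n for every nonidentity a ∈ A. -/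
theorem result {G : Type*} [Group G] [Finite G] {p : ℕ} [Fact p.Prime] (V H : Subgroup G) (hV : Cfsg.IsElementaryAbelian p V) (hHV : H ≤ Subgroup.normalizer (V : Set G)) (hf : H ⊓ Subgroup.centralizer (V : Set G) = ⊥) {F : Type*} [Field F] [Fintype F] (n : ℕ) (hF : Fintype.card F = p ^ n) (hiso : Nonempty (↥H ≃* Matrix.SpecialLinearGroup (Fin 2) F)) (S : Sylow p ↥H) (T : Subgroup G) (hT : T = ((S : Subgroup ↥H).map H.subtype)) (A : Subgroup G) (hA : A ≤ T) (hA3 : 3 ≤ Nat.card A) (hquad : ⁅⁅V, A⁆, A⁆ = ⊥) : ∀ a ∈ A, a ≠ 1 → p ^ n ≤ ((V ⊓ Subgroup.centralizer ({a} : Set G))).relIndex V := by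
  intro a ha ha1
  have hn0 : n ≠ 0 := by
    rintro rfl
    exact absurd hF (by simpa using (Fintype.one_lt_card (α := F)).ne')
  haveI : CharP F p := charP_of_card_eq_prime_pow (f := n) hF
  obtain ⟨φ⟩ := hiso
  have haT : a ∈ T := hA ha
  obtain ⟨k, hk⟩ := IsPGroup.iff_orderOf.1 (hT ▸ S.2.map H.subtype : IsPGroup p ↥T) ⟨a, haT⟩
  rw [Subgroup.orderOf_mk] at hk
  exact (TwoConjBound.bounds hV hHV hf (Q := Matrix.SpecialLinearGroup (Fin 2) F)
    (fun hn => TwoConjBound.hasPairs_SL2 hn hF) φ.toMonoidHom φ.surjective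
    (by rw [(MonoidHom.ker_eq_bot_iff _).2 φ.injective, Subgroup.card_bot]; exact Nat.coprime_one_left p)
    hn0 ((hT ▸ Subgroup.map_subtype_le _ : T ≤ H) haT) ⟨k, hk⟩ ha1).2

end Cfsg.Agent.S2788
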