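import Cfsg.Statements.S2792
import Mathlib
import Cfsg.Agent.Lib.Transfer.HallWielandt
-- import your own Cfsg.Agent.* helpers here

set_option autoImplicit false
open Cfsg

namespace Cfsg.Agent.S2792

/-- Let S be a Sylow p-subgroup of the finite group G and W a subgroup of S weakly closed in S with respect to G. If S ∩ G' ≠ S ∩ (N_G(W))', then there are x ∈ S, z ∈ W and a maximal subgroup W₀ of W such that the iterated commutator [x, z; p−1] (with [x, z] = x⁻¹z⁻¹xz and [x, z; i+1] = [[x, z; i], z]) lies in W₀ but not in the Frattini subgroup of W₀; in particular [x, z; p−1] ≠ 1. -/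
theorem result {G : Type*} [Group G] [Finite G] {p : ℕ} [Fact p.Prime] (S : Sylow p G) (W : Subgroup G) (hW : Cfsg.IsWeaklyClosed W (S : Subgroup G)) (h : (S : Subgroup G) ⊓ commutator G ≠ (S : Subgroup G) ⊓ ⁅Subgroup.normalizer (W : Set G), Subgroup.normalizer (W : Set G)⁆) : ∃ x ∈ (S : Subgroup G), ∃ z ∈ W, ∃ W₀ : Subgroup ↥W, IsCoatom W₀ ∧ (fun y : G => y⁻¹ * z⁻¹ * y * z)^[p - 1] x ∈ W₀.map W.subtype ∧ (fun y : G => y⁻¹ * z⁻¹ * y * z)^[p - 1] x ∉ ((frattini ↥W₀).map W₀.subtype).map W.subtype := by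
  rcases Cfsg.Agent.Transfer.step_or_control S hW with ⟨⟨st⟩⟩ | ⟨-, h2⟩
  swap
  · exact absurd h2 h
  have hWn : ∀ u ∈ (S : Subgroup G), ∀ w ∈ W, u⁻¹ * w * u ∈ W := fun u hu w hw => by
    have hN : u⁻¹ ∈ Subgroup.normalizer (W : Set G) := Cfsg.Agent.Transfer.mem_normalizer_of_weaklyClosed hW
      fun v hv => mul_mem (mul_mem (inv_mem hu) (hW.1 hv)) (inv_mem (inv_mem hu))
    simpa using ((Subgroup.mem_normalizer_iff.1 hN) w).1 hw
  have hmemW : st.D^[p - 1] st.y ∈ W := by
    obtain ⟨k, hk⟩ : ∃ k, p - 1 = k + 1 := ⟨p - 2, by have := (Fact.out : p.Prime).two_le; omega⟩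
    rw [hk, Function.iterate_succ_apply']
    exact mul_mem (hWn _ (st.T_le (st.le_T (st.iterate_D_mem k))) _ (inv_mem st.z_mem)) st.z_mem
  set W₀ : Subgroup ↥W := st.T₀.subgroupOf W with hW₀
  have hidx : W₀.index = p := by
    have hn : (st.T₀.subgroupOf st.T).Normal :=
      (Subgroup.normal_subgroupOf_iff_le_normalizer st.le_T).2 st.le_normalizer
    have h1 : (st.T₀.subgroupOf st.T).relIndex (W.subgroupOf st.T) ∣ (st.T₀.subgroupOf st.T).index :=
      Subgroup.relIndex_dvd_index_of_normal _ _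
    rw [Subgroup.relIndex_subgroupOf st.W_le, show (st.T₀.subgroupOf st.T).index = p from st.relIndex_eq] at h1
    refine ((Fact.out : p.Prime).eq_one_or_self_of_dvd _ h1).resolve_left fun h2 => st.z_not_mem ?_
    exact Subgroup.relIndex_eq_one.1 h2 st.z_mem
  refine ⟨st.y, st.T_le (st.le_T st.y_mem), st.z, st.z_mem, W₀, Cfsg.Agent.PGroup.isCoatom_of_index_eq hidx,
    ⟨⟨_, hmemW⟩, st.iterate_D_mem (p - 1), rfl⟩, ?_⟩
  rintro ⟨v, ⟨w, hw, rfl⟩, hv⟩
  let g : ↥W₀ →* Multiplicative (ZMod p) :=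
    { toFun := fun a => Multiplicative.ofAdd (st.χ ((a : ↥W) : G))
      map_one' := by show Multiplicative.ofAdd (st.χ 1) = 1; rw [st.addOn.map_one]; rfl
      map_mul' := fun a b => by
        show Multiplicative.ofAdd (st.χ (((a : ↥W) : G) * ((b : ↥W) : G))) = _
        rw [st.addOn _ (Subgroup.mem_subgroupOf.1 a.2) _ (Subgroup.mem_subgroupOf.1 b.2)]
        rfl }
  have hker : frattini ↥W₀ ≤ g.ker := by
    refine Cfsg.Agent.PGroup.frattini_le (p := p) (Abelianization.commutator_subset_ker g) fun a => ?_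
    rw [MonoidHom.mem_ker, map_pow]
    refine Multiplicative.toAdd.injective ?_
    rw [toAdd_pow, toAdd_one, nsmul_eq_mul, ZMod.natCast_self, zero_mul]
  apply st.chi_bracket
  have h3 : g w = 1 := hker hw
  rw [show st.D^[p - 1] st.y = ((w : ↥W) : G) from hv.symm]
  exact Multiplicative.ofAdd.injective h3

end Cfsg.Agent.S2792
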