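import Cfsg.Statements.S2794
import Cfsg.Agent.Lib.Qd.Stability
import Cfsg.Agent.Lib.Qd.Converse
import Cfsg.Agent.Lib.ZJControl.Local

set_option autoImplicit false
open Cfsg

namespace Cfsg.Agent.S2794

/-- For an odd prime p and a finite group G, the group Qd(p) is not involved in G if and only if in every section K/R of G, for every Sylow p-subgroup S* of K/R, the centre of J(S*) (J generated by the abelian subgroups of largest order) controls strong fusion in K/R. -/
theorem result {G : Type*} [Group G] [Finite G] {p : ℕ} [Fact p.Prime] (hp : p ≠ 2) : ¬ Cfsg.Involves ↥(Cfsg.qd p) G ↔ ∀ (K R : Subgroup G) [hR : (R.subgroupOf K).Normal], ∀ T : Sylow p (K ⧸ R.subgroupOf K), Cfsg.ControlsStrongFusion p (Cfsg.centerThompsonAOf (T : Subgroup (K ⧸ R.subgroupOf K))) := by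
  constructor
  · intro h K R _ T
    have hq : ¬ Cfsg.Involves ↥(Cfsg.qd p) (↥K ⧸ R.subgroupOf K) := fun hq =>
      h (ConjFun.involves_trans hq (ConjFun.involves_trans (ConjFun.involves_quotient _)
        (ConjFun.involves_subgroup K)))
    refine ⟨T, (ZJControl.isZJLike_A hp).le _ _, fun A hA => ⟨hA, fun g hg => ?_⟩⟩
    exact ZJControl.controlled_of_not_involves_qd hp
      (fun H _ _ h S _ => Qd.stableOn_of_not_involves_qd hp h _) hq (ZJControl.isZJLike_A hp) T
      (Replacement.isStronglyClosed_self _) A hA g fun a ha => hg ⟨a, ha, rfl⟩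
  · rintro h ⟨K, R, hR, ⟨e⟩⟩
    obtain ⟨T, hT⟩ := Qd.exists_not_controls_zj_of_equiv e.symm
    exact hT (h K R T)

end Cfsg.Agent.S2794
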