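import Cfsg.Statements.S2803
import Cfsg.Agent.Lib.PRed.Reduced
import Cfsg.Agent.Lib.SylowCount.Basic

set_option autoImplicit false
open Cfsg
open scoped commutatorElement

namespace Cfsg.Agent.S2803

/-- Let L be a finite group and p a prime with C_L(O_p(L)) ≤ O_p(L), T a Sylow p-subgroup, and Y the largest p-reduced normal subgroup of L. Put T_L = C_T(Y) and L_T = N_L(T_L). Then L = L_T · C_L(Y) (elementwise), T_L = O_p(L_T), and Y = Ω₁(Z(T_L)). -/
theorem result {L : Type*} [Group L] [Finite L] {p : ℕ} [Fact p.Prime] (hchar : Subgroup.centralizer (Cfsg.pCore p L : Set L) ≤ Cfsg.pCore p L) (T : Sylow p L) (Y : Subgroup L) (hY : (Cfsg.IsPReducedNormal p Y ∧ ∀ V : Subgroup L, Cfsg.IsPReducedNormal p V → V ≤ Y)) (TL : Subgroup L) (hTL : TL = (T : Subgroup L) ⊓ Subgroup.centralizer (Y : Set L)) : (∀ g : L, ∃ a ∈ Subgroup.normalizer (TL : Set L), ∃ c ∈ Subgroup.centralizer (Y : Set L), g = a * c) ∧ (Cfsg.pCore p ↥(Subgroup.normalizer (TL : Set L))).map (Subgroup.normalizer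 (TL : Set L)).subtype = TL ∧ Y = Cfsg.omegaOne p (TL ⊓ Subgroup.centralizer (TL : Set L)) := by
  have hC := Cfsg.Agent.PRed.centralizer_normal hY.1.1
  have hred := (Cfsg.Agent.PRed.isPReducedNormal_iff.1 hY.1).2.2
  set C := Subgroup.centralizer (Y : Set L) with hCdef
  obtain ⟨Q, hQ⟩ := Cfsg.Agent.SylowCount.exists_sylow_inf T C
  have hQmap : (Q : Subgroup ↥C).map C.subtype = TL := by
    rw [hQ, Subgroup.subgroupOf_map_subtype, hTL]
  have htop := Sylow.normalizer_sup_eq_top Q
  rw [hQmap] at htop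
  set N := Subgroup.normalizer (TL : Set L) with hN
  have hTN : (T : Subgroup L) ≤ N := by
    rw [hN, hTL]
    intro t ht
    rw [Subgroup.mem_normalizer_iff]
    intro x
    exact and_congr ((Subgroup.mem_normalizer_iff.1 (Subgroup.le_normalizer ht)) x)
      ((Subgroup.mem_normalizer_iff.1 ((Subgroup.normalizer_eq_top_iff.2 hC).ge (Subgroup.mem_top t))) x)
  have hTLp : IsPGroup p ↥TL := T.2.to_le (hTL.le.trans inf_le_left)
  have hTLN : TL ≤ N := Subgroup.le_normalizer
  have hNC : ∀ D : Subgroup L, N ≤ Subgroup.normalizer (D : Set L) → (D ⊔ C).Normal := by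
    intro D hD
    refine Subgroup.normalizer_eq_top_iff.1 (top_le_iff.1 (htop.ge.trans (sup_le ?_ ?_)))
    · intro g hg
      refine Cfsg.Agent.Coprime.mem_normalizer_of_conj_smul_eq ?_
      show Subgroup.map (MulAut.conj g).toMonoidHom (D ⊔ C) = D ⊔ C
      rw [Subgroup.map_sup]
      exact congrArg₂ (· ⊔ ·) (Cfsg.Agent.Coprime.conj_smul_eq_self_of_mem (hD hg))
        (Cfsg.Agent.Coprime.conj_smul_eq_self_of_mem
          ((Subgroup.normalizer_eq_top_iff.2 hC).ge (Subgroup.mem_top g)))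
    · exact le_sup_right.trans Subgroup.le_normalizer
  refine ⟨fun g => ?_, ?_, ?_⟩
  · obtain ⟨a, ha, c, hc, h⟩ := Subgroup.mem_sup_of_normal_right.1 (htop.ge (Subgroup.mem_top g))
    exact ⟨a, ha, c, hc, h.symm⟩
  · refine le_antisymm ?_ (Cfsg.Agent.Balance.le_core hTLN le_rfl hTLp)
    set P := (Cfsg.pCore p ↥N).map N.subtype with hP
    have hPT : P ≤ T := by
      rintro _ ⟨x, hx, rfl⟩
      exact Subgroup.mem_subgroupOf.1 (Cfsg.Agent.PCore.pCore_le_sylow (T.subtype hTN) hx)
    have hPn : (P ⊔ C).Normal := hNC P (Cfsg.Agent.Balance.le_normalizer_core N)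
    have hPC : P ≤ C := le_sup_left.trans (hred _ hPn
      (Cfsg.Agent.PRed.pMod_sup (Cfsg.Agent.PRed.pMod_of_isPGroup
        ((Cfsg.Agent.PCore.isPGroup_pCore).map _))))
    rw [hTL]
    exact le_inf hPT hPC
  · set Z := Cfsg.omegaOne p (TL ⊓ Subgroup.centralizer (TL : Set L)) with hZ
    have hYTL : Y ≤ TL := hTL.symm ▸ le_inf
      ((Cfsg.Agent.PRed.reduced_le_pCore hY.1).trans (Cfsg.Agent.PCore.pCore_le_sylow T))
      (fun a ha => Subgroup.mem_centralizer_iff.2 fun b hb =>
        Cfsg.Agent.PGroup.mul_comm_of_elementaryAbelian hY.1.2.1 hb ha)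
    have hTLC : TL ≤ C := hTL.le.trans inf_le_right
    have hYZ : Y ≤ Z := fun a ha => Cfsg.Agent.PGroup.mem_omegaOne_of_pow_eq_one
      (show a ∈ TL ⊓ Subgroup.centralizer (TL : Set L) from ⟨hYTL ha,
        Subgroup.mem_centralizer_iff.2 fun b hb => (Subgroup.mem_centralizer_iff.1 (hTLC hb) a ha).symm⟩)
      (hY.1.2.1.2 a ha)
    refine le_antisymm hYZ ?_
    have hZTL : Z ≤ TL := (Cfsg.Agent.PGroup.omegaOne_le _).trans inf_le_left
    have hTLZ : TL ≤ Subgroup.centralizer (Z : Set L) := Subgroup.le_centralizer_iff.1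
      ((Cfsg.Agent.PGroup.omegaOne_le _).trans inf_le_right)
    have hNZ : N ≤ Subgroup.normalizer (Z : Set L) := by
      have h1 : N ≤ Subgroup.normalizer ((TL ⊓ Subgroup.centralizer (TL : Set L) : Subgroup L) : Set L) :=
        (le_inf le_rfl (Cfsg.Agent.Balance.normalizer_le_normalizer_centralizer _)).trans
          Subgroup.inf_normalizer_le_normalizer_inf
      refine Subgroup.le_normalizer_closure_iff.mpr ?_
      rintro g hg x ⟨hx, hxp⟩
      refine Subgroup.subset_closure ⟨(Subgroup.mem_normalizer_iff.1 (h1 hg) x).1 hx, ?_⟩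
      rw [conj_pow, hxp, mul_one, mul_inv_cancel]
    have hZN : Z ≤ N := hZTL.trans hTLN
    have hXe : Cfsg.IsElementaryAbelian p Z := Cfsg.Agent.PGroup.isElementaryAbelian_omegaOne
      (Cfsg.Agent.PGroup.isMulCommutative_of_forall fun a ha b hb =>
        Subgroup.mem_centralizer_iff.1 hb.2 a ha.1)
    have hX : Cfsg.IsPReducedNormal p (Z.subgroupOf N) := by
      refine Cfsg.Agent.PRed.isPReducedNormal_iff.2
        ⟨Subgroup.normal_subgroupOf_of_le_normalizer hNZ, ⟨?_, fun a ha => Subtype.ext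
          (by simpa using hXe.2 _ (Subgroup.mem_subgroupOf.1 ha))⟩, fun D hD hp => ?_⟩
      · exact Cfsg.Agent.PGroup.isMulCommutative_of_forall fun a ha b hb => Subtype.ext
          (Cfsg.Agent.PGroup.mul_comm_of_elementaryAbelian hXe (Subgroup.mem_subgroupOf.1 ha)
            (Subgroup.mem_subgroupOf.1 hb))
      set D' := D.map N.subtype with hD'
      have hp' : Cfsg.Agent.PRed.PMod p (Subgroup.centralizer (Z : Set L)) D' := by
        rintro _ ⟨d, hd, rfl⟩
        obtain ⟨k, hk⟩ := hp d hd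
        refine ⟨k, Subgroup.mem_centralizer_iff.2 fun z hz => ?_⟩
        simpa using congrArg Subtype.val
          (Subgroup.mem_centralizer_iff.1 hk ⟨z, hZN hz⟩ (Subgroup.mem_subgroupOf.2 hz))
      have hDn : (D' ⊔ C).Normal := hNC D' (by
        have h1 := (Subgroup.normalizer_eq_top_iff.2 hD).ge
        have h2 : (⊤ : Subgroup ↥N).map N.subtype ≤ Subgroup.normalizer (D' : Set L) :=
          (Subgroup.map_mono h1).trans (Subgroup.le_normalizer_map _)
        rwa [← MonoidHom.range_eq_map, Subgroup.range_subtype] at h2)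
      have hDC : D' ≤ C := le_sup_left.trans (hred _ hDn (Cfsg.Agent.PRed.pMod_sup
        (Cfsg.Agent.PRed.pMod_mono hp' le_rfl (Subgroup.centralizer_le (SetLike.coe_subset_coe.2 hYZ)))))
      intro d hd
      have hdL : (d : L) ∈ Subgroup.centralizer (Z : Set L) := by
        obtain ⟨k, hk⟩ := hp' _ ⟨d, hd, rfl⟩
        obtain ⟨j, m, hm, hjm⟩ := Nat.exists_eq_pow_mul_and_not_dvd
          (orderOf_pos (d : L)).ne' p (Fact.out : p.Prime).ne_one
        have hpel : ((d : L) ^ m) ^ p ^ j = 1 := by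
          rw [← pow_mul, mul_comm, ← hjm, pow_orderOf_eq_one]
        have hdC : (d : L) ^ m ∈ C := pow_mem (hDC ⟨d, hd, rfl⟩) m
        have hdN : (d : L) ^ m ∈ N := pow_mem d.2 m
        have hmem : (d : L) ^ m ∈ TL := by
          have hp2 : IsPGroup p ↥(Subgroup.zpowers ((d : L) ^ m)) := by
            intro x
            obtain ⟨i, hi⟩ := Subgroup.mem_zpowers_iff.1 x.2
            refine ⟨j, Subtype.ext ?_⟩
            rw [SubmonoidClass.coe_pow, ← hi, ← zpow_natCast, ← zpow_mul, mul_comm, zpow_mul,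
              zpow_natCast, hpel, one_zpow, OneMemClass.coe_one]
          have hsup : IsPGroup p ↥(Subgroup.zpowers ((d : L) ^ m) ⊔ TL) :=
            hp2.to_sup_of_normal_right' hTLp (Subgroup.zpowers_le.2 hdN)
          have hle : Subgroup.zpowers ((d : L) ^ m) ⊔ TL ≤ C :=
            sup_le (Subgroup.zpowers_le.2 hdC) hTLC
          have h1 := Q.3 (hsup.of_equiv (Subgroup.subgroupOfEquivOfLe hle).symm)
            (hQ.le.trans (fun x hx => Subgroup.mem_subgroupOf.2 (Subgroup.mem_sup_right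
              (hTL.symm.le ⟨hx, x.2⟩))))
          have h2 : (⟨_, hdC⟩ : ↥C) ∈ (Q : Subgroup ↥C) := h1.le
            (Subgroup.mem_subgroupOf.2 (Subgroup.mem_sup_left (Subgroup.mem_zpowers _)))
          exact hQmap.le ⟨_, h2, rfl⟩
        have hcop : m.Coprime (p ^ k) :=
          (Nat.Coprime.pow_right k (((Fact.out : p.Prime).coprime_iff_not_dvd.2 hm).symm))
        have hb := Nat.gcd_eq_gcd_ab m (p ^ k)
        rw [hcop.gcd_eq_one] at hb
        have he : (d : L) = ((d : L) ^ m) ^ (Nat.gcdA m (p ^ k)) * ((d : L) ^ p ^ k) ^ (Nat.gcdB m (p ^ k)) := by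
          rw [← zpow_natCast, ← zpow_natCast (d : L) (p ^ k), ← zpow_mul, ← zpow_mul, ← zpow_add, ← hb]
          simp
        rw [he]
        exact mul_mem (zpow_mem (hTLZ hmem) _) (zpow_mem hk _)
      exact Subgroup.mem_centralizer_iff.2 fun z hz => Subtype.ext
        (Subgroup.mem_centralizer_iff.1 hdL z (Subgroup.mem_subgroupOf.1 hz))
    have hred2 := Cfsg.Agent.PRed.reduced_normalClosure hchar T hTN hX
    rw [Subgroup.map_subgroupOf_eq_of_le hZN] at hred2
    exact Subgroup.le_normalClosure.trans (hY.2 _ hred2)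

end Cfsg.Agent.S2803
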