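import Cfsg.Statements.S2804
import Cfsg.Agent.Lib.PRed.Reduced

set_option autoImplicit false
open Cfsg
open scoped commutatorElement

namespace Cfsg.Agent.S2804

/-- Let L be a finite group and p a prime with C_L(O_p(L)) ≤ O_p(L), V a p-reduced normal subgroup of L and K a subnormal subgroup of L. Then [V, O^p(K)] is contained in K and is a p-reduced normal subgroup of K, where O^p(K) is the subgroup of K generated by its elements of order prime to p. -/
theorem result {L : Type*} [Group L] [Finite L] {p : ℕ} [Fact p.Prime] (hchar : Subgroup.centralizer (Cfsg.pCore p L : Set L) ≤ Cfsg.pCore p L) (V : Subgroup L) (hV : Cfsg.IsPReducedNormal p V) (K : Subgroup L) (hK : K.IsSubnormal) : ⁅V, (Cfsg.pResidual p ↥K).map K.subtype⁆ ≤ K ∧ Cfsg.IsPReducedNormal p ((⁅V, (Cfsg.pResidual p ↥K).map K.subtype⁆).subgroupOf K) := by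
  have _h := hchar
  obtain ⟨hVn, hVe, hred⟩ := Cfsg.Agent.PRed.isPReducedNormal_iff.1 hV
  have hVp := Cfsg.Agent.PRed.elementaryAbelian_pGroup hVe
  have hWK := Cfsg.Agent.PRed.commutator_le_of_subnormal (p := p) hVn hVp hK
  refine ⟨hWK, ?_⟩
  set R := (Cfsg.pResidual p ↥K).map K.subtype with hR
  set W := ⁅V, R⁆ with hW
  have hWV : W ≤ V := Subgroup.commutator_le_left V R
  have hKW : K ≤ Subgroup.normalizer (W : Set L) := by
    intro k hk
    refine Cfsg.Agent.Coprime.mem_normalizer_of_conj_smul_eq ?_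
    have h3 := Subgroup.map_commutator V R (MulAut.conj k).toMonoidHom
    show Subgroup.map (MulAut.conj k).toMonoidHom ⁅V, R⁆ = _
    rw [h3]
    refine congrArg₂ (fun X Z => ⁅X, Z⁆) ?_ ?_
    · exact Cfsg.Agent.Coprime.conj_smul_eq_self_of_mem
        ((Subgroup.normalizer_eq_top_iff.2 hVn).ge (Subgroup.mem_top k))
    · exact Cfsg.Agent.Coprime.conj_smul_eq_self_of_mem
        (Cfsg.Agent.PRed.le_normalizer_pResidual_sub K hk)
  refine Cfsg.Agent.PRed.isPReducedNormal_iff.2
    ⟨Subgroup.normal_subgroupOf_of_le_normalizer hKW, ⟨?_, fun a ha => Subtype.ext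
      (by simpa using hVe.2 _ (hWV (Subgroup.mem_subgroupOf.1 ha)))⟩, fun D hD hp => ?_⟩
  · exact Cfsg.Agent.PGroup.isMulCommutative_of_forall fun a ha b hb => Subtype.ext
      (Cfsg.Agent.PGroup.mul_comm_of_elementaryAbelian hVe (hWV (Subgroup.mem_subgroupOf.1 ha))
        (hWV (Subgroup.mem_subgroupOf.1 hb)))
  have hKD : K ≤ Subgroup.normalizer ((D.map K.subtype : Subgroup L) : Set L) := by
    have h1 := (Subgroup.normalizer_eq_top_iff.2 hD).ge
    have h2 := (Subgroup.map_mono (f := K.subtype) h1).trans (Subgroup.le_normalizer_map _)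
    rwa [← MonoidHom.range_eq_map, Subgroup.range_subtype] at h2
  have key : ∀ d : ↥K, d ∈ D → ∃ k : ℕ, (d : L) ^ p ^ k ∈ Subgroup.centralizer (V : Set L) := by
    intro d hd
    obtain ⟨k, hk⟩ := Cfsg.Agent.PRed.exists_pow_p'_order (p := p) (d : L)
    refine ⟨k, ?_⟩
    set b := d ^ p ^ k with hb
    have hbD : b ∈ D := pow_mem hd _
    have hbo : ¬ p ∣ orderOf (b : L) := by simpa [hb] using hk
    obtain ⟨i, hi⟩ := hp b hbD
    have hbW : (b : L) ∈ Subgroup.centralizer (W : Set L) := by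
      have h1 : (b : L) ^ p ^ i ∈ Subgroup.centralizer (W : Set L) :=
        Subgroup.mem_centralizer_iff.2 fun w hw => by
          simpa using congrArg Subtype.val
            (Subgroup.mem_centralizer_iff.1 hi ⟨w, hWK hw⟩ (Subgroup.mem_subgroupOf.2 hw))
      obtain ⟨e, he⟩ := exists_pow_eq_self_of_coprime (n := p ^ i) (x := (b : L))
        ((((Fact.out : p.Prime).coprime_iff_not_dvd.2 hbo)).pow_left i)
      rw [← he]
      exact pow_mem h1 e
    have hbR : (b : L) ∈ R := ⟨b, Cfsg.Agent.PRed.mem_pResidual_of_not_dvd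
      (by rwa [← Subgroup.orderOf_coe]), rfl⟩
    refine Subgroup.mem_centralizer_iff.2 fun v hv => ?_
    have h2 : (b : L) * v * (b : L)⁻¹ * v⁻¹ ∈ W := by
      have := inv_mem (Subgroup.commutator_mem_commutator hv hbR)
      rwa [commutatorElement_inv] at this
    have h3 := Cfsg.Agent.LocalChar.commute_of_commute_commutator hVp Fact.out hbo (hWV h2)
      (Subgroup.mem_centralizer_iff.1 hbW _ h2).symm
    exact (h3.eq).symm
  have h4 : D.map K.subtype ≤ Subgroup.centralizer (V : Set L) :=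
    Cfsg.Agent.PRed.le_centralizer_of_subnormal hV hK (Subgroup.map_subtype_le _) hKD (by
      rintro _ ⟨d, hd, rfl⟩
      exact key d hd)
  exact fun d hd => Subgroup.mem_centralizer_iff.2 fun w hw => Subtype.ext
    (Subgroup.mem_centralizer_iff.1 (h4 ⟨d, hd, rfl⟩) w (hWV (Subgroup.mem_subgroupOf.1 hw)))

end Cfsg.Agent.S2804
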