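import Cfsg.Statements.S2805
import Cfsg.Agent.Lib.PRed.Norm

set_option autoImplicit false
open Cfsg

namespace Cfsg.Agent.S2805

/-- Kieler's Lemma: let H be a finite group of characteristic p (C_H(O_p(H)) ≤ O_p(H)), T a Sylow p-subgroup of H and L a subnormal subgroup of H. Then C_L(Ω₁(Z(T))) = C_L(Ω₁(Z(T ∩ L))), Ω₁(Z(·)) denoting the elements of order dividing p in the centre. -/
theorem result {H : Type*} [Group H] [Finite H] {p : ℕ} [Fact p.Prime] (hH : Subgroup.centralizer (Cfsg.pCore p H : Set H) ≤ Cfsg.pCore p H) (T : Sylow p H) (L : Subgroup H) (hL : L.IsSubnormal) : L ⊓ Subgroup.centralizer ((Cfsg.omegaOne p ((T : Subgroup H) ⊓ Subgroup.centralizer ((T : Subgroup H) : Set H))) : Set H) = L ⊓ Subgroup.centralizer ((Cfsg.omegaOne p (((T : Subgroup H) ⊓ L) ⊓ Subgroup.centralizer ((((T : Subgroup H) ⊓ L) : Subgroup H) : Set H))) : Set H) := by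
  suffices ¬ p ∣ ((T : Subgroup H) ⊓ L).relIndex L ∧
      L ⊓ Subgroup.centralizer ((Cfsg.Agent.PRed.omegaCenter p (T : Subgroup H)) : Set H) =
        L ⊓ Subgroup.centralizer ((Cfsg.Agent.PRed.omegaCenter p ((T : Subgroup H) ⊓ L)) : Set H) from
    this.2
  induction hL with
  | top =>
    rw [inf_top_eq]
    exact ⟨by rw [Subgroup.relIndex_top_right]; exact T.not_dvd_index, rfl⟩
  | step A B hle hB hN ih =>
    obtain ⟨hi, he⟩ := ih
    set P := (T : Subgroup H) ⊓ B with hP
    have hPp : IsPGroup p ↥P := T.2.to_le inf_le_left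
    have hBA : B ≤ Subgroup.normalizer (A : Set H) :=
      (Subgroup.normal_subgroupOf_iff_le_normalizer hle).1 hN
    have hPA : P ⊓ A = (T : Subgroup H) ⊓ A := by rw [hP, inf_assoc, inf_eq_right.2 hle]
    have hcB : Cfsg.Agent.Balance.CharP' p B := Cfsg.Agent.Balance.charP'_of_isSubnormal hH hB
    refine ⟨?_, ?_⟩
    · rw [← hPA]; exact Cfsg.Agent.PRed.not_dvd_relIndex_inf inf_le_right hPp hi hle hBA
    have hR : Cfsg.Agent.Balance.CharP' p (B ⊓ Subgroup.centralizer ((Cfsg.Agent.PRed.omegaCenter p P) : Set H)) :=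
      hcB.inf_centralizer (hPp.to_le (Cfsg.Agent.PRed.omegaCenter_le _))
        ((Cfsg.Agent.PRed.omegaCenter_le _).trans (inf_le_right.trans Subgroup.le_normalizer))
    have hJ : Cfsg.Agent.Balance.CharP' p
        ((A ⊓ Subgroup.centralizer ((Cfsg.Agent.PRed.omegaCenter p (P ⊓ A)) : Set H)) ⊔ P) := by
      refine hcB.of_le (sup_le (inf_le_left.trans hle) inf_le_right) (le_sup_of_le_right ?_)
      exact Cfsg.Agent.PRed.le_of_sylow_normalizes inf_le_right hPp hi (Cfsg.Agent.Balance.core_le B)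
        (Cfsg.Agent.Balance.isPGroup_core B) ((inf_le_right : P ≤ B).trans (Cfsg.Agent.Balance.le_normalizer_core B))
    have key := Cfsg.Agent.PRed.inf_centralizer_omega_center inf_le_right hPp hi hle hBA hR hJ
    rw [hPA] at key
    calc A ⊓ Subgroup.centralizer ((Cfsg.Agent.PRed.omegaCenter p (T : Subgroup H)) : Set H)
        = A ⊓ (B ⊓ Subgroup.centralizer ((Cfsg.Agent.PRed.omegaCenter p (T : Subgroup H)) : Set H)) := by
          rw [← inf_assoc, inf_eq_left.2 hle]
      _ = A ⊓ (B ⊓ Subgroup.centralizer ((Cfsg.Agent.PRed.omegaCenter p P) : Set H)) := by rw [he]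
      _ = A ⊓ Subgroup.centralizer ((Cfsg.Agent.PRed.omegaCenter p P) : Set H) := by
          rw [← inf_assoc, inf_eq_left.2 hle]
      _ = _ := key

end Cfsg.Agent.S2805
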