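import Cfsg.Statements.S2806
import Cfsg.Agent.Lib.Subnormal.SylowJoin
import Cfsg.Agent.Lib.PRed.Norm
import Cfsg.Agent.Lib.Balance.PComp
-- import your own Cfsg.Agent.* helpers here

set_option autoImplicit false
open Cfsg

namespace Cfsg.Agent.S2806

section

open Subgroup Cfsg.Agent.PRed

variable {H : Type*} [Group H] [Finite H] {p : ℕ} [hp : Fact p.Prime]

theorem omegaCenter_ne_bot {R : Subgroup H} (hR : IsPGroup p ↥R) (h : R ≠ ⊥) :
    omegaCenter p R ≠ ⊥ := by
  haveI : Nontrivial ↥R := (nontrivial_iff_ne_bot R).2 h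
  haveI : Nontrivial ↥(center ↥R) := hR.center_nontrivial
  obtain ⟨n, hn⟩ := IsPGroup.iff_card.1 (hR.to_subgroup (center ↥R))
  have hdvd : p ∣ Nat.card ↥(center ↥R) := by
    rcases n with _ | n
    · rw [pow_zero] at hn
      exact absurd hn Finite.one_lt_card.ne'
    · rw [hn, pow_succ]; exact dvd_mul_left p _
  obtain ⟨z, hz⟩ := exists_prime_orderOf_dvd_card' (G := ↥(center ↥R)) p hdvd
  intro hbot
  have hzp : z ^ p = 1 := hz ▸ pow_orderOf_eq_one z
  have hz' : ((z : ↥R) : H) ∈ omegaCenter p R :=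
    mem_omegaCenter (z : ↥R).2 (fun y hy => congrArg Subtype.val (mem_center_iff.1 z.2 ⟨y, hy⟩))
      (by rw [← Subgroup.coe_pow, ← Subgroup.coe_pow, hzp]; simp)
  rw [hbot, mem_bot] at hz'
  have : z = 1 := Subtype.ext (Subtype.ext hz')
  rw [this, orderOf_one] at hz
  exact hp.out.one_lt.ne hz

theorem charP'_inf_centralizer (hH : Cfsg.IsOfLocalCharacteristic p H) {K Z : Subgroup H}
    (hK : K.IsSubnormal) (hZ : IsPGroup p ↥Z) (hZ1 : Z ≠ ⊥) :
    Balance.CharP' p (K ⊓ centralizer (Z : Set H)) := by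
  have hN : Balance.CharP' p (normalizer (Z : Set H)) :=
    (Balance.charP'_iff_type _).2 (hH.2 Z hZ hZ1)
  have hC : Balance.CharP' p (centralizer (Z : Set H)) :=
    hN.of_normal (LocalStructure.centralizer_le_normalizer Z)
      (Balance.normalizer_le_normalizer_centralizer _)
  refine hC.of_isSubnormal inf_le_right ?_
  rw [inf_subgroupOf_right]
  exact hK.subgroupOf

variable (T : Sylow p H)

theorem inf_centralizer_eq (hH : Cfsg.IsOfLocalCharacteristic p H) {X : Subgroup H}
    (hX : X.IsSubnormal) (hne : (T : Subgroup H) ⊓ X ≠ ⊥) :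
    X ⊓ centralizer (omegaCenter p ((T : Subgroup H) ⊓ X) : Set H) =
      X ⊓ centralizer (omegaCenter p (T : Subgroup H) : Set H) := by
  induction hX with
  | top => rw [inf_top_eq]
  | step X K hle hK hN ih =>
    have hne' : (T : Subgroup H) ⊓ K ≠ ⊥ := fun e =>
      hne (eq_bot_iff.2 ((inf_le_inf_left _ hle).trans e.le))
    have hKX := (normal_subgroupOf_iff_le_normalizer hle).1 hN
    have hPK : IsPGroup p ↥((T : Subgroup H) ⊓ K) := T.2.to_le inf_le_left
    have hXs : X.IsSubnormal := Subgroup.IsSubnormal.step X K hle hK hN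
    have e : (T : Subgroup H) ⊓ K ⊓ X = (T : Subgroup H) ⊓ X := by
      rw [inf_assoc, inf_eq_right.2 hle]
    have hTX : IsPGroup p ↥(omegaCenter p ((T : Subgroup H) ⊓ X)) :=
      (T.2.to_le inf_le_left).to_le (omegaCenter_le _)
    have hR := charP'_inf_centralizer hH hK (hPK.to_le (omegaCenter_le _))
      (omegaCenter_ne_bot hPK hne')
    have hD := charP'_inf_centralizer hH hXs hTX (omegaCenter_ne_bot (T.2.to_le inf_le_left) hne)
    set D := X ⊓ centralizer (omegaCenter p ((T : Subgroup H) ⊓ X) : Set H) with hDdef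
    have hPD : (T : Subgroup H) ⊓ K ≤ normalizer (D : Set H) := by
      refine LocalStructure.le_normalizer_inf (inf_le_right.trans hKX) ?_
      refine le_trans ?_ (Balance.normalizer_le_normalizer_centralizer _)
      refine le_trans ?_ (normalizer_le_normalizer_omegaCenter _)
      exact e ▸ LocalStructure.le_normalizer_inf le_normalizer (inf_le_right.trans hKX)
    have hJ : Balance.CharP' p (D ⊔ ((T : Subgroup H) ⊓ K)) := by
      refine Balance.charP'_of_forall fun y hy hc hcomm => ?_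
      rw [sup_comm] at hy
      obtain ⟨k, hk⟩ := LocalStructure.exists_pow_mem_of_mem_sup hPD hPK hy
      exact hD.eq_one (LocalStructure.mem_of_pow_mem hc hk) hc fun r hr =>
        hcomm r (Balance.core_le_core le_sup_left (sup_le le_normalizer hPD) hr)
    have h := inf_centralizer_omega_center (K := K) (P := (T : Subgroup H) ⊓ K) (L := X)
      inf_le_right hPK (SylowJoin.not_dvd_relIndex_inf T hK) hle hKX hR (by rw [e]; exact hJ)
    rw [e] at h
    rw [hDdef, ← h, ← inf_eq_left.2 hle, inf_assoc, ih hne', ← inf_assoc]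

omit [Finite H] hp in
theorem isPGroup_of_orderOf {x : H} {k : ℕ} (hk : orderOf x = p ^ k) :
    IsPGroup p ↥(zpowers x) := by
  intro g
  refine ⟨k, Subtype.ext ?_⟩
  obtain ⟨i, hi⟩ := mem_zpowers_iff.1 g.2
  rw [Subgroup.coe_pow, Subgroup.coe_one, ← hi, ← zpow_natCast, ← zpow_mul, mul_comm, zpow_mul,
    zpow_natCast, ← hk, pow_orderOf_eq_one, one_zpow]

theorem pointStabilizer_eq (hH : Cfsg.IsOfLocalCharacteristic p H) {X : Subgroup H}
    (hX : X.IsSubnormal) :
    Cfsg.pointStabilizer p X ((T : Subgroup H) ⊓ X) = closure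
      {x : H | x ∈ X ⊓ centralizer (omegaCenter p (T : Subgroup H) : Set H) ∧
        ∃ k : ℕ, orderOf x = p ^ k} := by
  by_cases hne : (T : Subgroup H) ⊓ X = ⊥
  · have hone : ∀ x ∈ X, ∀ k : ℕ, orderOf x = p ^ k → x = 1 := by
      intro x hx k hk
      have h0 := SylowJoin.not_dvd_relIndex_inf T hX
      rw [hne, relIndex_bot_left] at h0
      rcases k with _ | k
      · rw [pow_zero, orderOf_eq_one_iff] at hk; exact hk
      · refine absurd ((dvd_pow_self p k.succ_ne_zero).trans ?_) h0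
        rw [← hk]
        exact Subgroup.orderOf_dvd_natCard X hx
    unfold Cfsg.pointStabilizer
    congr 1
    ext x
    constructor <;> rintro ⟨hx, k, hk⟩ <;> refine ⟨⟨hx.1, ?_⟩, k, hk⟩ <;>
      (rw [hone x hx.1 k hk]; exact one_mem _)
  · unfold Cfsg.pointStabilizer
    rw [show X ⊓ centralizer (Cfsg.omegaOne p ((T : Subgroup H) ⊓ X ⊓
      centralizer (((T : Subgroup H) ⊓ X : Subgroup H) : Set H)) : Set H) = _ from
      inf_centralizer_eq T hH hX hne]

omit [Finite H] hp in
theorem closure_subnormal {C X : Subgroup H} (hX : X.IsSubnormal) :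
    ((closure {x : H | x ∈ X ⊓ C ∧ ∃ k : ℕ, orderOf x = p ^ k}).subgroupOf C).IsSubnormal := by
  have hsub : ((X ⊓ C).subgroupOf C).IsSubnormal := by
    rw [inf_subgroupOf_right]; exact hX.subgroupOf
  set N := closure {x : H | x ∈ X ⊓ C ∧ ∃ k : ℕ, orderOf x = p ^ k}
  have hle : N ≤ X ⊓ C := (closure_le _).2 fun x hx => hx.1
  refine Components.isSubnormal_of_normalized hsub (comap_mono hle) ?_
  intro g hg
  refine mem_normalizer_iff.2 fun y => ?_
  have key : ∀ g : H, g ∈ X ⊓ C → ∀ y ∈ N, g * y * g⁻¹ ∈ N := by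
    intro g hg y hy
    have : N.map (MulAut.conj g).toMonoidHom ≤ N := by
      rw [MonoidHom.map_closure, closure_le]
      rintro _ ⟨x, ⟨hx, k, hk⟩, rfl⟩
      refine subset_closure ⟨mul_mem (mul_mem hg hx) (inv_mem hg), k, ?_⟩
      rw [← hk]
      exact orderOf_injective (MulAut.conj g).toMonoidHom (MulAut.conj g).injective x
    exact this ⟨y, hy, rfl⟩
  rw [mem_subgroupOf, mem_subgroupOf] at *
  constructor
  · exact fun hy => by simpa using key _ hg _ hy
  · intro hy
    have := key _ (inv_mem hg) _ hy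
    simpa [mul_assoc] using this

end

/-- Let H be a finite group of local characteristic p, T a Sylow p-subgroup, and L₁, L₂ subnormal subgroups of H generating the subgroup L. Then the point stabilizer of L with respect to T ∩ L is generated by the point stabilizers of L₁ and L₂ with respect to T ∩ L₁ and T ∩ L₂ (point stabilizer of X w.r.t. R: the subgroup generated by the p-elements of X centralizing Ω₁(Z(R))). -/
theorem result {H : Type*} [Group H] [Finite H] {p : ℕ} [Fact p.Prime] (hH : Cfsg.IsOfLocalCharacteristic p H) (T : Sylow p H) (L₁ L₂ : Subgroup H) (h₁ : L₁.IsSubnormal) (h₂ : L₂.IsSubnormal) : Cfsg.pointStabilizer p (L₁ ⊔ L₂) ((T : Subgroup H) ⊓ (L₁ ⊔ L₂)) = Cfsg.pointStabilizer p L₁ ((T : Subgroup H) ⊓ L₁) ⊔ Cfsg.pointStabilizer p L₂ ((T : Subgroup H) ⊓ L₂) := by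
  set C := Subgroup.centralizer (PRed.omegaCenter p (T : Subgroup H) : Set H) with hC
  set L := L₁ ⊔ L₂ with hL
  have hLs : L.IsSubnormal := Subnormal.isSubnormal_sup h₁ h₂
  rw [pointStabilizer_eq T hH hLs, pointStabilizer_eq T hH h₁, pointStabilizer_eq T hH h₂]
  set N : Subgroup H := Subgroup.closure {x : H | x ∈ L₁ ⊓ C ∧ ∃ k : ℕ, orderOf x = p ^ k} ⊔
    Subgroup.closure {x : H | x ∈ L₂ ⊓ C ∧ ∃ k : ℕ, orderOf x = p ^ k} with hN
  have hTC : (T : Subgroup H) ≤ C :=
    Subgroup.le_centralizer_iff.1 (PRed.omegaCenter_le_centralizer _)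
  have hNle : N ≤ L ⊓ C := sup_le
    ((Subgroup.closure_le _).2 fun x hx => ⟨Subgroup.mem_sup_left hx.1.1, hx.1.2⟩)
    ((Subgroup.closure_le _).2 fun x hx => ⟨Subgroup.mem_sup_right hx.1.1, hx.1.2⟩)
  have hTN : (T : Subgroup H) ⊓ L ≤ N := by
    rw [hL, SylowJoin.inf_sup_eq T h₁ h₂]
    have hp' : ∀ X : Subgroup H, ∀ x ∈ (T : Subgroup H) ⊓ X,
        x ∈ {x : H | x ∈ X ⊓ C ∧ ∃ k : ℕ, orderOf x = p ^ k} := fun X x hx => by
      obtain ⟨k, hk⟩ := IsPGroup.iff_orderOf.1 T.2 ⟨x, hx.1⟩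
      exact ⟨⟨hx.2, hTC hx.1⟩, k, by rwa [Subgroup.orderOf_mk] at hk⟩
    exact sup_le_sup (fun x hx => Subgroup.subset_closure (hp' L₁ x hx))
      (fun x hx => Subgroup.subset_closure (hp' L₂ x hx))
  refine le_antisymm ((Subgroup.closure_le _).2 ?_) (sup_le
    (Subgroup.closure_mono fun x hx => ⟨⟨Subgroup.mem_sup_left hx.1.1, hx.1.2⟩, hx.2⟩)
    (Subgroup.closure_mono fun x hx => ⟨⟨Subgroup.mem_sup_right hx.1.1, hx.1.2⟩, hx.2⟩))
  rintro x ⟨hx, k, hk⟩
  set D : Subgroup ↥C := (L ⊓ C).subgroupOf C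
  have hNC : (N.subgroupOf C).IsSubnormal := by
    rw [hN, Subgroup.subgroupOf_sup ((Subgroup.closure_le _).2 fun y hy => hy.1.2)
      ((Subgroup.closure_le _).2 fun y hy => hy.1.2)]
    exact Subnormal.isSubnormal_sup (closure_subnormal h₁) (closure_subnormal h₂)
  have hND : N.subgroupOf C ≤ D := Subgroup.comap_mono hNle
  have hidx : (N.subgroupOf C).relIndex D = N.relIndex (L ⊓ C) :=
    Subgroup.relIndex_subgroupOf inf_le_right
  have hdvd : N.relIndex (L ⊓ C) ∣ ((T : Subgroup H) ⊓ L).relIndex L := by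
    refine dvd_trans (Subgroup.relIndex_dvd_of_le_left _ hTN) ?_
    exact Dvd.intro _ (Subgroup.relIndex_mul_relIndex _ _ _
      (le_inf inf_le_right (inf_le_left.trans hTC)) inf_le_left)
  have h := Balance.mem_of_pow_eq_one_of_coprime_index (p := p)
    (H := (N.subgroupOf C).subgroupOf D) hNC.subgroupOf
    (by
      show ((N.subgroupOf C).relIndex D).Coprime p
      rw [hidx]
      exact Nat.Coprime.coprime_dvd_left hdvd
        ((Fact.out (p := p.Prime)).coprime_iff_not_dvd.2 (SylowJoin.not_dvd_relIndex_inf T hLs)).symm)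
    (y := ⟨⟨x, hx.2⟩, Subgroup.mem_subgroupOf.2 hx⟩) (k := k)
    (by
      apply Subtype.ext; apply Subtype.ext
      simp [← hk, pow_orderOf_eq_one])
  exact h

end Cfsg.Agent.S2806
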