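import Cfsg.Statements.S2807
import Mathlib
import Cfsg.Agent.Lib.Transfer.HallWielandt
import Cfsg.Agent.Lib.Fusion.Yoshida
-- import your own Cfsg.Agent.* helpers here

set_option autoImplicit false
open Cfsg

namespace Cfsg.Agent.S2807

/-- Let S be a Sylow p-subgroup of the finite group G. If S ∩ G' ≠ S ∩ (N_G(S))' (derived subgroups), then the wreath product Z_p ≀ Z_p — realised as a Sylow p-subgroup of the symmetric group of degree p² — is a homomorphic image of S. -/
theorem result {G : Type*} [Group G] [Finite G] {p : ℕ} [Fact p.Prime] (S : Sylow p G) (h : (S : Subgroup G) ⊓ commutator G ≠ (S : Subgroup G) ⊓ ⁅Subgroup.normalizer ((S : Subgroup G) : Set G), Subgroup.normalizer ((S : Subgroup G) : Set G)⁆) : ∃ (P : Sylow p (Equiv.Perm (Fin (p ^ 2)))) (f : ↥(S : Subgroup G) →* ↥(P : Subgroup (Equiv.Perm (Fin (p ^ 2))))), Function.Surjective f := by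
  rcases Cfsg.Agent.Transfer.step_or_control S (Cfsg.Agent.Transfer.isWeaklyClosed_self (S : Subgroup G)) with
    ⟨⟨st⟩⟩ | ⟨-, h2⟩
  swap
  · exact absurd h2 h
  obtain ⟨W, ⟨e⟩⟩ := Cfsg.Agent.Fusion.Yoshida.exists_sylow_mulEquiv p
  have hTS : st.T = (S : Subgroup G) := le_antisymm st.T_le st.W_le
  have hT₀S : st.T₀ ≤ (S : Subgroup G) := st.le_T.trans st.T_le
  have hzS : st.z ∈ (S : Subgroup G) := st.z_mem
  set M : Subgroup (S : Subgroup G) := st.T₀.subgroupOf (S : Subgroup G) with hM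
  have hMi : M.index = p :=
    (congrArg (fun K => st.T₀.relIndex K) hTS).symm.trans st.relIndex_eq
  obtain ⟨π₀, hπ₀, hker⟩ := Cfsg.Agent.Fusion.Yoshida.exists_hom_ker_eq (p := p) S.2
    (Cfsg.Agent.PGroup.isCoatom_of_index_eq hMi)
  set zS : (S : Subgroup G) := ⟨st.z, hzS⟩ with hzdef
  set c : ZMod p := Multiplicative.toAdd (π₀ zS) with hc
  have hc0 : c ≠ 0 := by
    intro h0
    apply st.z_not_mem
    have : zS ∈ π₀.ker := Multiplicative.toAdd.injective h0
    rw [hker] at this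
    exact Subgroup.mem_subgroupOf.1 this
  let π : (S : Subgroup G) →* Multiplicative (ZMod p) :=
    (AddMonoidHom.toMultiplicative (AddMonoidHom.mulRight c⁻¹)).comp π₀
  have hπval : ∀ s, Multiplicative.toAdd (π s) = Multiplicative.toAdd (π₀ s) * c⁻¹ := fun s => rfl
  have hπz : Multiplicative.toAdd (π zS) = 1 := by rw [hπval, ← hc, mul_inv_cancel₀ hc0]
  let σ : Multiplicative (ZMod p) → (S : Subgroup G) := fun x => zS ^ (Multiplicative.toAdd x).val
  have hσ : ∀ x, π (σ x) = x := by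
    intro x
    apply Multiplicative.toAdd.injective
    rw [map_pow, toAdd_pow, hπz, nsmul_eq_mul, mul_one, ZMod.natCast_zmod_val]
  have hmem : ∀ s x, (((σ x)⁻¹ * s * σ ((π s)⁻¹ * x) : (S : Subgroup G)) : G) ∈ st.T₀ := by
    intro s x
    have h1 : ∀ u : (S : Subgroup G), π u = 1 → (u : G) ∈ st.T₀ := by
      intro u hu
      have h2 : Multiplicative.toAdd (π₀ u) * c⁻¹ = 0 := by rw [← hπval, hu]; rfl
      have h3 : u ∈ π₀.ker :=
        Multiplicative.toAdd.injective ((mul_eq_zero.1 h2).resolve_right (inv_ne_zero hc0))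
      rw [hker] at h3
      exact Subgroup.mem_subgroupOf.1 h3
    refine h1 _ ?_
    rw [map_mul, map_mul, map_inv, hσ, hσ, mul_assoc, mul_inv_cancel_left, inv_mul_cancel]
  let v : ↥(S : Subgroup G) → Multiplicative (ZMod p) → Multiplicative (ZMod p) := fun s x =>
    Multiplicative.ofAdd (st.χ (((σ x)⁻¹ * s * σ ((π s)⁻¹ * x) : (S : Subgroup G)) : G))
  let f : (S : Subgroup G) →* Cfsg.Agent.Fusion.Yoshida.C p ≀ᵣ Cfsg.Agent.Fusion.Yoshida.C p :=
    MonoidHom.mk' (fun s => ⟨v s, π s⟩) fun s t => by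
      refine RegularWreathProduct.ext ?_ (map_mul π s t)
      rw [RegularWreathProduct.mul_left]
      funext x
      show v (s * t) x = v s x * v t ((π s)⁻¹ * x)
      show Multiplicative.ofAdd _ = Multiplicative.ofAdd _ * Multiplicative.ofAdd _
      rw [← ofAdd_add, ← st.addOn _ (hmem s x) _ (hmem t ((π s)⁻¹ * x))]
      congr 2
      rw [← Subgroup.coe_mul, map_mul, mul_inv_rev, mul_assoc (π t)⁻¹]
      congr 1
      group
  refine ⟨W, e.toMonoidHom.comp f, e.surjective.comp (Cfsg.Agent.Fusion.Yoshida.surjective_of_base f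
    (fun g => ⟨σ g, hσ g⟩) ⟨st.y, hT₀S st.y_mem⟩ ?_ ?_)⟩
  · have hy : (⟨st.y, hT₀S st.y_mem⟩ : (S : Subgroup G)) ∈ π₀.ker := by
      rw [hker]; exact Subgroup.mem_subgroupOf.2 st.y_mem
    apply Multiplicative.toAdd.injective
    show Multiplicative.toAdd (π _) = 0
    rw [hπval, MonoidHom.mem_ker.1 hy, toAdd_one, zero_mul]
  · intro hprod
    apply st.sum_ne
    have hy1 : π ⟨st.y, hT₀S st.y_mem⟩ = 1 := by
      have hy : (⟨st.y, hT₀S st.y_mem⟩ : (S : Subgroup G)) ∈ π₀.ker := by
        rw [hker]; exact Subgroup.mem_subgroupOf.2 st.y_mem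
      apply Multiplicative.toAdd.injective
      rw [hπval, MonoidHom.mem_ker.1 hy, toAdd_one, zero_mul]
    have h3 := congrArg Multiplicative.toAdd hprod
    rw [toAdd_prod, toAdd_one] at h3
    rw [← h3]
    refine Finset.sum_bij (fun i _ => Multiplicative.ofAdd (i : ZMod p)) (fun _ _ => Finset.mem_univ _) ?_ ?_ ?_
    · intro i hi j hj hij
      have h4 := congrArg ZMod.val (Multiplicative.ofAdd.injective hij)
      rwa [ZMod.val_natCast_of_lt (Finset.mem_range.1 hi), ZMod.val_natCast_of_lt (Finset.mem_range.1 hj)] at h4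
    · intro x _
      exact ⟨(Multiplicative.toAdd x).val, Finset.mem_range.2 (ZMod.val_lt _), by
        rw [ZMod.natCast_zmod_val]; rfl⟩
    · intro i hi
      show _ = Multiplicative.toAdd (v _ _)
      simp only [v, hy1, inv_one, one_mul, toAdd_ofAdd, σ, ZMod.val_natCast_of_lt (Finset.mem_range.1 hi)]
      congr 1

end Cfsg.Agent.S2807
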