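import Cfsg.Statements.S2809
import Cfsg.Agent.Lib.PRed.Basic

set_option autoImplicit false
open Cfsg

namespace Cfsg.Agent.S2809

/-- Let H be a finite group, p a prime, R a p-subgroup of H with C_H(R) ≤ R, and L a subgroup of N_H(R) acting nilpotently on R (some iterated commutator [R, L, …, L] is trivial). Then L is a p-group. -/
theorem result {H : Type*} [Group H] [Finite H] {p : ℕ} [Fact p.Prime] (R : Subgroup H) (hR : IsPGroup p ↥R) (hC : Subgroup.centralizer (R : Set H) ≤ R) (L : Subgroup H) (hL : L ≤ Subgroup.normalizer (R : Set H)) (hnil : ∃ n : ℕ, Cfsg.iterCommutator R L n = ⊥) : IsPGroup p ↥L := by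
  obtain ⟨n, hn⟩ := hnil
  have hp := (Fact.out : p.Prime)
  have hle : ∀ i, Cfsg.iterCommutator R L i ≤ R := by
    intro i
    induction i with
    | zero => exact le_rfl
    | succ i ih =>
      exact (Subgroup.commutator_mono ih le_rfl).trans
        (Subgroup.le_normalizer_iff_commutator_le_left.1 hL)
  refine Cfsg.Agent.PRed.isPGroup_of_forall L fun b hb hd => ?_
  have key : ∀ j i, i + j = n → ∀ q ∈ Cfsg.iterCommutator R L i, Commute b q := by
    intro j
    induction j with
    | zero =>
      intro i hi q hq
      obtain rfl : i = n := by omega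
      rw [hn, Subgroup.mem_bot] at hq
      exact hq ▸ Commute.one_right b
    | succ j ih =>
      intro i hi q hq
      have hmem : b * q * b⁻¹ * q⁻¹ ∈ Cfsg.iterCommutator R L (i + 1) := by
        have h1 := inv_mem (Subgroup.commutator_mem_commutator hq hb)
        rw [commutatorElement_inv] at h1
        exact h1
      exact Cfsg.Agent.LocalChar.commute_of_commute_commutator hR hp hd (hle _ hmem)
        (ih (i + 1) (by omega) _ hmem)
  exact Cfsg.Agent.LocalChar.eq_one_of_isPGroup hR hp
    (hC (Subgroup.mem_centralizer_iff.2 fun q hq => ((key n 0 (by omega) q hq).eq).symm)) hd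

end Cfsg.Agent.S2809
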