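import Cfsg.Statements.S2810
import Cfsg.Agent.Lib.PRed.Basic

set_option autoImplicit false
open Cfsg
open scoped commutatorElement

namespace Cfsg.Agent.S2810

/-- Let H be a finite group of characteristic p and L a subgroup of H centralizing every factor of some H-invariant chain 1 = A₀ ≤ A₁ ≤ … ≤ Aₙ = O_p(H) of normal subgroups (that is, [A_{i+1}, L] ≤ Aᵢ for each i). Then L ≤ O_p(H). -/
theorem result {H : Type*} [Group H] [Finite H] {p : ℕ} [Fact p.Prime] (hchar : Subgroup.centralizer (Cfsg.pCore p H : Set H) ≤ Cfsg.pCore p H) (L : Subgroup H) (n : ℕ) (A : Fin (n + 1) → Subgroup H) (h0 : A 0 = ⊥) (hn : A (Fin.last n) = Cfsg.pCore p H) (hmono : Monotone A) (hnorm : ∀ i, (A i).Normal) (hcent : ∀ i : Fin n, ⁅A i.succ, L⁆ ≤ A i.castSucc) : L ≤ Cfsg.pCore p H := by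
  have := hnorm
  let S : Subgroup H := ⨅ i : Fin n, (Subgroup.centralizer
    ((((A i.succ).map (QuotientGroup.mk' (A i.castSucc))) : Subgroup (H ⧸ A i.castSucc)) :
      Set (H ⧸ A i.castSucc))).comap (QuotientGroup.mk' (A i.castSucc))
  have hSn : S.Normal := by
    refine Subgroup.normal_iInf_normal fun i => ?_
    have := (hnorm i.succ).map (QuotientGroup.mk' (A i.castSucc)) (QuotientGroup.mk'_surjective _)
    exact Subgroup.Normal.comap inferInstance _
  have hSmem : ∀ g ∈ S, ∀ i : Fin n, ∀ a ∈ A i.succ, g * a * g⁻¹ * a⁻¹ ∈ A i.castSucc := by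
    intro g hg i a ha
    have h1 := Subgroup.mem_centralizer_iff.1 (Subgroup.mem_iInf.1 hg i) _
      (Subgroup.mem_map_of_mem _ ha)
    apply (QuotientGroup.eq_one_iff _).1
    show QuotientGroup.mk' (A i.castSucc) (g * a * g⁻¹ * a⁻¹) = 1
    rw [map_mul, map_mul, map_mul, map_inv, map_inv, ← h1]
    group
  have hLS : L ≤ S := by
    intro g hg
    refine Subgroup.mem_iInf.2 fun i => Subgroup.mem_centralizer_iff.2 ?_
    rintro _ ⟨a, ha, rfl⟩
    have h1 : QuotientGroup.mk' (A i.castSucc) ⁅a, g⁆ = 1 :=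
      (QuotientGroup.eq_one_iff _).2 (hcent i (Subgroup.commutator_mem_commutator ha hg))
    rw [map_commutatorElement] at h1
    exact commutatorElement_eq_one_iff_mul_comm.1 h1
  refine hLS.trans (Cfsg.Agent.LocalChar.le_pCore hSn ?_)
  refine Cfsg.Agent.PRed.isPGroup_of_forall S fun b hb hd => ?_
  have key : ∀ i : Fin (n + 1), ∀ q ∈ A i, Commute b q := by
    intro i
    induction i using Fin.induction with
    | zero =>
      intro q hq
      rw [h0, Subgroup.mem_bot] at hq
      exact hq ▸ Commute.one_right b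
    | succ i ih =>
      intro q hq
      have hm := hSmem b hb i q hq
      have hAP : A i.castSucc ≤ Cfsg.pCore p H := hn ▸ hmono (Fin.le_last _)
      exact Cfsg.Agent.LocalChar.commute_of_commute_commutator
        (Cfsg.Agent.Components.isPGroup_pCore' p) Fact.out hd (hAP hm) (ih _ hm)
  exact Cfsg.Agent.LocalChar.cp_elim hchar (fun q hq => key (Fin.last n) q (hn.symm ▸ hq)) hd

end Cfsg.Agent.S2810
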