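import Cfsg.Statements.S2813
import Cfsg.Agent.Lib.PRed.Basic
import Cfsg.Agent.Lib.PCore.Basic

set_option autoImplicit false
open Cfsg
open scoped commutatorElement

namespace Cfsg.Agent.S2813

/-- Let K be a subgroup of the finite group H with O_p(K) = 1 and Y a p-subgroup of N_H(K) with [K, Y, Y] = 1. Then [K, Y] = 1. -/
theorem result {H : Type*} [Group H] [Finite H] {p : ℕ} [Fact p.Prime] (K : Subgroup H) (hO : Cfsg.pCore p ↥K = ⊥) (Y : Subgroup H) (hY : IsPGroup p ↥Y) (hYK : Y ≤ Subgroup.normalizer (K : Set H)) (hq : ⁅⁅K, Y⁆, Y⁆ = ⊥) : ⁅K, Y⁆ = ⊥ := by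
  set N := ⁅K, Y⁆ with hN
  have hNK : N ≤ K := Subgroup.le_normalizer_iff_commutator_le_left.1 hYK
  have hKN : K ≤ Subgroup.normalizer (N : Set H) := Subgroup.normalizer_commutator_ge_left K Y
  have hYc : N ≤ Subgroup.centralizer (Y : Set H) :=
    Subgroup.commutator_eq_bot_iff_le_centralizer.1 hq
  -- `N` centralises every conjugate of `Y` under `K`
  have hconj : ∀ k ∈ K, ∀ y ∈ Y, ∀ a ∈ N, Commute a (k * y * k⁻¹) := by
    intro k hk y hy a ha
    have ha' : k⁻¹ * a * k ∈ N := (Subgroup.mem_normalizer_iff''.1 (hKN hk) a).1 ha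
    have h1 : y * (k⁻¹ * a * k) = k⁻¹ * a * k * y :=
      Subgroup.mem_centralizer_iff.1 (hYc ha') y hy
    calc a * (k * y * k⁻¹) = k * ((k⁻¹ * a * k) * y) * k⁻¹ := by group
      _ = k * (y * (k⁻¹ * a * k)) * k⁻¹ := by rw [h1]
      _ = k * y * k⁻¹ * a := by group
  have hgen : ∀ k ∈ K, ∀ y ∈ Y, ∀ a ∈ N, Commute a ⁅k, y⁆ := by
    intro k hk y hy a ha
    have h1 : Commute a y := (Subgroup.mem_centralizer_iff.1 (hYc ha) y hy).symm
    rw [commutatorElement_def]
    exact (hconj k hk y hy a ha).mul_right h1.inv_right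
  have hp : IsPGroup p ↥N := by
    have hgen2 : ∀ x ∈ N, ∀ a ∈ N, Commute a x := by
      intro x hx
      have : N ≤ Subgroup.centralizer (N : Set H) := Subgroup.commutator_le.2 fun k hk y hy =>
        Subgroup.mem_centralizer_iff.2 fun a ha => hgen k hk y hy a ha
      exact fun a ha => Subgroup.mem_centralizer_iff.1 (this hx) a ha
    intro x
    suffices ∃ m : ℕ, (x : H) ^ p ^ m = 1 by
      obtain ⟨m, hm⟩ := this
      exact ⟨m, Subtype.ext hm⟩
    have hmem : (x : H) ∈ Subgroup.closure {g | ∃ g₁ ∈ K, ∃ g₂ ∈ Y, ⁅g₁, g₂⁆ = g} := by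
      have := x.2
      simp only [hN, Subgroup.commutator_def] at this
      exact this
    generalize (x : H) = z at hmem ⊢
    induction hmem using Subgroup.closure_induction with
    | mem g hg =>
      obtain ⟨k, hk, y, hy, rfl⟩ := hg
      obtain ⟨m, hm⟩ := hY ⟨y, hy⟩
      refine ⟨m, ?_⟩
      have hm' : y ^ p ^ m = 1 := congrArg Subtype.val hm
      have hN' : ⁅k, y⁆ ∈ N := Subgroup.commutator_mem_commutator hk hy
      have hc : Commute ⁅k, y⁆ y := (Subgroup.mem_centralizer_iff.1 (hYc hN') y hy).symm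
      have h1 : (k * y * k⁻¹) ^ p ^ m = 1 := by rw [conj_pow, hm']; group
      have h2 : (k * y * k⁻¹) = ⁅k, y⁆ * y := by rw [commutatorElement_def]; group
      rw [h2, hc.mul_pow, hm', mul_one] at h1
      exact h1
    | one => exact ⟨0, by simp⟩
    | mul a b ha hb iha ihb =>
      obtain ⟨m, hm⟩ := iha
      obtain ⟨l, hl⟩ := ihb
      refine ⟨m + l, ?_⟩
      have hc : Commute a b := hgen2 b hb a ha
      rw [hc.mul_pow, pow_add, pow_mul, hm, one_pow, mul_comm, pow_mul, hl, one_pow, one_mul]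
    | inv a _ ih =>
      obtain ⟨m, hm⟩ := ih
      exact ⟨m, by rw [inv_pow, hm, inv_one]⟩
  have : (N.subgroupOf K).Normal := Subgroup.normal_subgroupOf_of_le_normalizer hKN
  have h1 : N.subgroupOf K ≤ Cfsg.pCore p ↥K :=
    Cfsg.Agent.PCore.le_pCore (hp.of_equiv (Subgroup.subgroupOfEquivOfLe hNK).symm)
  rw [hO, le_bot_iff, Subgroup.subgroupOf_eq_bot] at h1
  exact le_bot_iff.1 fun x hx => h1.le_bot ⟨hx, hNK hx⟩

end Cfsg.Agent.S2813
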