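import Cfsg.Statements.S2814
import Cfsg.Agent.Lib.PRed.Basic

set_option autoImplicit false
open Cfsg
open scoped commutatorElement

namespace Cfsg.Agent.S2814

/-- Let A be a subgroup of the finite group H and K the subnormal closure of A (intersection of the subnormal subgroups containing A). Then K is the normal closure of A inside K and N_H(A) ≤ N_H(K); K = A·O^p(K), O^p(K) being generated by the elements of K of order prime to p; and if A is a p-group, O^p(K) = [O^p(K), A]. -/
theorem result {H : Type*} [Group H] [Finite H] {p : ℕ} [Fact p.Prime] (A : Subgroup H) (K : Subgroup H) (hK : K = Cfsg.subnormalClosure A) : (Subgroup.normalClosure ((A.subgroupOf K : Subgroup ↥K) : Set ↥K)).map K.subtype = K ∧ Subgroup.normalizer (A : Set H) ≤ Subgroup.normalizer (K : Set H) ∧ A ⊔ (Cfsg.pResidual p ↥K).map K.subtype = K ∧ (IsPGroup p ↥A → ⁅(Cfsg.pResidual p ↥K).map K.subtype, A⁆ = (Cfsg.pResidual p ↥K).map K.subtype) := by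
  have hmin : ∀ J : Subgroup H, A ≤ J → J.IsSubnormal → K ≤ J := fun J h1 h2 =>
    hK.le.trans (sInf_le ⟨h1, h2⟩)
  have hAK : A ≤ K := hK.symm ▸ le_sInf fun J hJ => hJ.1
  have hKs : K.IsSubnormal := by
    obtain ⟨J, hJ⟩ := (Set.toFinite {J : Subgroup H | A ≤ J ∧ J.IsSubnormal}).exists_minimal
      ⟨⊤, le_top, Subgroup.IsSubnormal.top⟩
    have hle : K ≤ J := hmin J hJ.1.1 hJ.1.2
    have hge : J ≤ K := hK.symm ▸ le_sInf fun L hL =>
      (hJ.2 ⟨le_inf hJ.1.1 hL.1, hJ.1.2.inf hL.2⟩ inf_le_left).trans inf_le_right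
    exact le_antisymm hle hge ▸ hJ.1.2
  have hRn : (Cfsg.pResidual p ↥K).Normal := Cfsg.Agent.Transfer.pResidual_normal p
  set R := (Cfsg.pResidual p ↥K).map K.subtype with hR
  have hRK : R ≤ K := Subgroup.map_subtype_le _
  have hKR : K ≤ Subgroup.normalizer (R : Set H) := by
    rintro g hg
    rw [Subgroup.mem_normalizer_iff]
    intro x
    constructor
    · rintro ⟨r, hr, rfl⟩
      exact ⟨⟨g, hg⟩ * r * ⟨g, hg⟩⁻¹, hRn.conj_mem r hr _, rfl⟩
    · rintro ⟨r, hr, he⟩
      have he' : (r : H) = g * x * g⁻¹ := he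
      refine ⟨⟨g, hg⟩⁻¹ * r * ⟨g, hg⟩, ?_, ?_⟩
      · simpa using hRn.conj_mem r hr (⟨g, hg⟩⁻¹)
      · show g⁻¹ * (r : H) * g = x
        rw [he']; group
  have hAR : A ⊔ R = K := by
    refine le_antisymm (sup_le hAK hRK) (hmin _ le_sup_left ?_)
    exact Subgroup.IsSubnormal.trans (sup_le hAK hRK)
      (Cfsg.Agent.PRed.isSubnormal_of_quotient (p := p) (Cfsg.pResidual p ↥K)
        (Cfsg.Agent.Transfer.isPGroup_quotient_pResidual p) (sup_le hAK hRK) le_sup_right) hKs
  refine ⟨?_, ?_, hAR, ?_⟩
  · refine le_antisymm (Subgroup.map_subtype_le _) (hmin _ ?_ ?_)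
    · exact fun a ha => ⟨⟨a, hAK ha⟩, Subgroup.subset_normalClosure ha, rfl⟩
    · exact Subgroup.IsSubnormal.trans' (Subgroup.Normal.isSubnormal inferInstance) hKs
  · intro g hg
    rw [Subgroup.mem_normalizer_iff_conj_image_eq] at hg ⊢
    have hgA : A.map (MulAut.conj g).toMonoidHom = A :=
      SetLike.coe_injective (by simpa using hg)
    have hinv : A.map (MulAut.conj g⁻¹).toMonoidHom = A := by
      conv_lhs => rw [← hgA]
      rw [Subgroup.map_map]
      convert Subgroup.map_id A using 2
      ext x; simp [mul_assoc]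
    have h1 : ∀ c : H, A.map (MulAut.conj c).toMonoidHom = A →
        K ≤ K.map (MulAut.conj c).toMonoidHom := fun c hc =>
      hmin _ (hc.symm.le.trans (Subgroup.map_mono hAK)) (hKs.map (MulAut.conj c).surjective)
    have h2 : K.map (MulAut.conj g).toMonoidHom = K := by
      refine le_antisymm ?_ (h1 g hgA)
      have := Subgroup.map_mono (f := (MulAut.conj g).toMonoidHom) (h1 g⁻¹ hinv)
      rw [Subgroup.map_map] at this
      convert this using 1
      convert (Subgroup.map_id K).symm using 2
      ext x; simp [mul_assoc]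
    simpa using congrArg SetLike.coe h2
  · intro hA
    set N := ⁅R, A⁆ with hN
    have hNR : N ≤ R := Subgroup.le_normalizer_iff_commutator_le_left.1 (hAK.trans hKR)
    have hKN : K ≤ Subgroup.normalizer (N : Set H) :=
      hAR.symm.le.trans (sup_le (Subgroup.normalizer_commutator_ge_right R A)
        (Subgroup.normalizer_commutator_ge_left R A))
    have hAN : A ⊔ N = K := by
      refine le_antisymm (sup_le hAK (hNR.trans hRK)) (hmin _ le_sup_left ?_)
      refine Subgroup.IsSubnormal.step _ K (sup_le hAK (hNR.trans hRK)) hKs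
        (Subgroup.normal_subgroupOf_of_le_normalizer ?_)
      refine hAR.symm.le.trans (sup_le ((le_sup_left (b := N)).trans Subgroup.le_normalizer) ?_)
      have hconj : ∀ r ∈ R, ∀ x ∈ A ⊔ N, r * x * r⁻¹ ∈ A ⊔ N := by
        intro r hr x hx
        rw [Subgroup.sup_eq_closure] at hx
        induction hx using Subgroup.closure_induction with
        | mem a ha =>
          rcases ha with ha | ha
          · have h1 : r * a * r⁻¹ = ⁅r, a⁆ * a := by simp only [commutatorElement_def]; group
            rw [h1]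
            exact mul_mem (Subgroup.mem_sup_right (Subgroup.commutator_mem_commutator hr ha))
              (Subgroup.mem_sup_left ha)
          · exact Subgroup.mem_sup_right
              ((Subgroup.mem_normalizer_iff.1 (hKN (hRK hr)) a).1 ha)
        | one => simp
        | mul a b _ _ iha ihb =>
          rw [show r * (a * b) * r⁻¹ = (r * a * r⁻¹) * (r * b * r⁻¹) by group]
          exact mul_mem iha ihb
        | inv a _ ih =>
          rw [show r * a⁻¹ * r⁻¹ = (r * a * r⁻¹)⁻¹ by group]
          exact inv_mem ih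
      intro r hr
      rw [Subgroup.mem_normalizer_iff]
      refine fun x => ⟨hconj r hr x, fun hx => ?_⟩
      simpa [mul_assoc] using hconj r⁻¹ (inv_mem hr) _ hx
    refine le_antisymm hNR ?_
    have hNn : (N.subgroupOf K).Normal := Subgroup.normal_subgroupOf_of_le_normalizer hKN
    have hq : IsPGroup p (↥K ⧸ N.subgroupOf K) := by
      have htop : (A.subgroupOf K).map (QuotientGroup.mk' (N.subgroupOf K)) = ⊤ := by
        rw [← Subgroup.map_top_of_surjective _ (QuotientGroup.mk'_surjective (N.subgroupOf K)),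
          Subgroup.map_eq_map_iff, QuotientGroup.ker_mk',
          ← Subgroup.subgroupOf_sup hAK (hNR.trans hRK), hAN, Subgroup.subgroupOf_self, top_sup_eq]
      have := (hA.of_equiv (Subgroup.subgroupOfEquivOfLe hAK).symm).map
        (QuotientGroup.mk' (N.subgroupOf K))
      rw [htop] at this
      exact this.of_equiv Subgroup.topEquiv
    rintro _ ⟨r, hr, rfl⟩
    exact Subgroup.mem_subgroupOf.1
      (Cfsg.Agent.Transfer.pResidual_le_of_isPGroup_quotient (N.subgroupOf K) hq hr)

end Cfsg.Agent.S2814
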