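import Cfsg.Statements.S2815
import Cfsg.Agent.Lib.PRed.Basic
import Cfsg.Agent.Lib.PCore.Basic
import Cfsg.Agent.Lib.Components.GenFitting

set_option autoImplicit false
open Cfsg
open scoped commutatorElement

namespace Cfsg.Agent.S2815

/-- Let H be a finite group and p a prime dividing its order with O_p(H) = 1, and suppose K = O^p(H) (generated by the elements of order prime to p) is quasisimple. Then K = F*(H); for every nontrivial p-subgroup Y of H, K = [K, Y] and K lies in the subgroup generated by the K-conjugates of Y; every normal subgroup of H not containing K has order prime to p; and H is p-irreducible. -/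
theorem result {H : Type*} [Group H] [Finite H] {p : ℕ} [Fact p.Prime] (hp : p ∣ Nat.card H) (hO : Cfsg.pCore p H = ⊥) (hq : Cfsg.IsQuasisimple ↥(Cfsg.pResidual p H)) : Cfsg.pResidual p H = Cfsg.generalizedFittingSubgroup H ∧ (∀ Y : Subgroup H, IsPGroup p ↥Y → Y ≠ ⊥ → ⁅Cfsg.pResidual p H, Y⁆ = Cfsg.pResidual p H ∧ Cfsg.pResidual p H ≤ ⨆ k : ↥(Cfsg.pResidual p H), Y.map (MulAut.conj (k : H)).toMonoidHom) ∧ (∀ C : Subgroup H, C.Normal → ¬ Cfsg.pResidual p H ≤ C → (Nat.card ↥C).Coprime p) ∧ Cfsg.IsPIrreducible p H := by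
  set K := Cfsg.pResidual p H with hK
  have hKn : K.Normal := Cfsg.Agent.Transfer.pResidual_normal p
  have hKc : Cfsg.IsComponent K := ⟨hKn.isSubnormal, hq⟩
  have hF : Cfsg.generalizedFittingSubgroup H ≤ K := by
    refine sup_le (sSup_le fun L hL => ?_) ?_
    · -- a perfect subgroup lies in `O^p(H)`
      have hperf : ⁅L, L⁆ = L := Cfsg.Agent.Components.IsComponent.commutator_self hL
      have hsol : IsPGroup p ↥(L.map (QuotientGroup.mk' K)) :=
        (Cfsg.Agent.Transfer.isPGroup_quotient_pResidual (G := H) p).to_subgroup _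
      have h1 : ⁅L.map (QuotientGroup.mk' K), L.map (QuotientGroup.mk' K)⁆ = L.map (QuotientGroup.mk' K) := by
        rw [← Subgroup.map_commutator, hperf]
      have h2 : L.map (QuotientGroup.mk' K) = ⊥ := by
        by_contra hne
        have := hsol.isNilpotent
        have hnt : Nontrivial ↥(L.map (QuotientGroup.mk' K)) :=
          (Subgroup.nontrivial_iff_ne_bot _).2 hne
        have hlt := Group.IsSolvable.commutator_lt_top_of_nontrivial ↥(L.map (QuotientGroup.mk' K))
        refine hlt.ne (Subgroup.map_injective (Subgroup.subtype_injective _) ?_)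
        rw [Subgroup.map_subtype_commutator, h1, ← MonoidHom.range_eq_map, Subgroup.range_subtype]
      rwa [Subgroup.map_eq_bot_iff, QuotientGroup.ker_mk'] at h2
    · rw [Cfsg.Agent.Components.fittingSubgroup_eq_iSup_pCore]
      refine iSup_le fun q => ?_
      have hqp := Fact.mk (Nat.prime_of_mem_primeFactors q.2)
      by_cases h : (q : ℕ) = p
      · rw [h, hO]; exact bot_le
      · intro x hx
        refine Subgroup.subset_closure ?_
        obtain ⟨k, hk⟩ := Cfsg.Agent.PCore.isPGroup_pCore (p := (q : ℕ)) (G := H) ⟨x, hx⟩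
        have hk' : x ^ (q : ℕ) ^ k = 1 := congrArg Subtype.val hk
        exact Nat.Coprime.coprime_dvd_left (orderOf_dvd_of_pow_eq_one hk')
          (((Nat.coprime_primes hqp.out Fact.out).2 h).pow_left k)
  have hEq : K = Cfsg.generalizedFittingSubgroup H := le_antisymm
    ((Cfsg.Agent.Components.IsComponent.le_layer hKc).trans
      Cfsg.Agent.Components.layer_le_generalizedFittingSubgroup) hF
  have hCle : Subgroup.centralizer (K : Set H) ≤ K := hEq.symm ▸
    Cfsg.Agent.Components.centralizer_generalizedFittingSubgroup_le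
  have hpel : ∀ x ∈ Subgroup.centralizer (K : Set H), ∀ j : ℕ, x ^ p ^ j = 1 → x = 1 := by
    intro x hx j hj
    have hCn : (Subgroup.centralizer (K : Set H)).Normal := inferInstance
    set C := Subgroup.centralizer (K : Set H)
    have hz : IsPGroup p ↥(Subgroup.zpowers (⟨x, hx⟩ : ↥C)) := by
      intro y
      obtain ⟨i, hi⟩ := Subgroup.mem_zpowers_iff.1 y.2
      refine ⟨j, Subtype.ext ?_⟩
      rw [SubmonoidClass.coe_pow, ← hi, ← zpow_natCast, ← zpow_mul, mul_comm, zpow_mul, zpow_natCast,
        show (⟨x, hx⟩ : ↥C) ^ p ^ j = 1 from Subtype.ext (by simpa using hj), one_zpow,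
        OneMemClass.coe_one]
    have hn : (Subgroup.zpowers (⟨x, hx⟩ : ↥C)).Normal := ⟨fun a ha g => by
      have hc : g * a = a * g := Subtype.ext
        (Subgroup.mem_centralizer_iff.1 a.2 (g : H) (hCle g.2))
      rwa [hc, mul_inv_cancel_right]⟩
    have h2 : Cfsg.pCore p ↥C = ⊥ := Cfsg.Agent.PCore.pCore_eq_bot_of_normal C hO
    have h1 := Cfsg.Agent.PCore.le_pCore hz
    rw [h2, Subgroup.zpowers_le, Subgroup.mem_bot] at h1
    exact congrArg Subtype.val h1
  have hYC : ∀ Y : Subgroup H, IsPGroup p ↥Y → Y ≤ Subgroup.centralizer (K : Set H) → Y = ⊥ := by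
    intro Y hY hle
    refine le_bot_iff.1 fun y hy => Subgroup.mem_bot.2 ?_
    obtain ⟨j, hj⟩ := hY ⟨y, hy⟩
    exact hpel y (hle hy) j (congrArg Subtype.val hj)
  have hcop : ∀ C : Subgroup H, C.Normal → ¬ K ≤ C → (Nat.card ↥C).Coprime p := by
    intro C hC hKC
    have hCK : C ≤ Subgroup.centralizer (K : Set H) := by
      rcases Cfsg.Agent.Components.IsComponent.le_or_commutator_eq_bot_of_normal hKc C with h | h
      · exact absurd h hKC
      · exact Subgroup.le_centralizer_iff.1
          (Subgroup.commutator_eq_bot_iff_le_centralizer.1 h)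
    rw [Nat.coprime_comm, (Fact.out : p.Prime).coprime_iff_not_dvd]
    intro hdvd
    obtain ⟨x, hx⟩ := exists_prime_orderOf_dvd_card' p hdvd
    have h1 : (x : H) = 1 := hpel _ (hCK x.2) 1 (by
      rw [pow_one, ← SubmonoidClass.coe_pow, ← hx, pow_orderOf_eq_one, OneMemClass.coe_one])
    have h2 : x = 1 := Subtype.ext h1
    rw [h2, orderOf_one] at hx
    exact (Fact.out : p.Prime).ne_one hx.symm
  refine ⟨hEq, fun Y hY hY1 => ?_, hcop, ?_, ?_⟩
  · have hsub : ⁅K, Y⁆ ≤ K := Subgroup.commutator_le_left K Y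
    have hKY : ⁅K, Y⁆ = K := by
      rcases Cfsg.Agent.Components.IsQuasisimple.eq_or_commutator_eq_bot hq hsub
        (Subgroup.normalizer_commutator_ge_left K Y) with h | h
      · exact h
      · refine absurd (hYC Y hY ?_) hY1
        have h3 : ⁅⁅Y, K⁆, K⁆ = ⊥ := by
          rw [Subgroup.commutator_comm Y K, Subgroup.commutator_comm]; exact h
        have := Cfsg.Agent.Components.commutator_eq_bot_of_commutator_commutator hq.1 h3
        exact Subgroup.le_centralizer_iff.1 (Subgroup.commutator_eq_bot_iff_le_centralizer.1 this)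
    refine ⟨hKY, hKY.ge.trans (Subgroup.commutator_le.2 fun k hk y hy => ?_)⟩
    have hy1 : y⁻¹ ∈ ⨆ k : ↥K, Y.map (MulAut.conj (k : H)).toMonoidHom :=
      Subgroup.mem_iSup_of_mem 1 ⟨y⁻¹, inv_mem hy, by simp⟩
    have hy2 : k * y * k⁻¹ ∈ ⨆ k : ↥K, Y.map (MulAut.conj (k : H)).toMonoidHom :=
      Subgroup.mem_iSup_of_mem ⟨k, hk⟩ ⟨y, hy, rfl⟩
    exact mul_mem hy2 hy1
  · intro hclosed
    obtain ⟨P⟩ := (inferInstance : Nonempty (Sylow p H))
    have := hclosed P
    have h1 := Cfsg.Agent.PCore.le_pCore P.2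
    rw [hO, le_bot_iff] at h1
    exact P.ne_bot_of_dvd_card hp h1
  · intro N hN hcl
    by_contra hle
    refine hcl fun P => ?_
    have : (P : Subgroup ↥N) = ⊥ := by
      obtain ⟨n, hn⟩ := IsPGroup.iff_card.1 P.2
      refine Subgroup.eq_bot_of_card_eq _ ?_
      have h1 : (Nat.card ↥(P : Subgroup ↥N)).Coprime p :=
        (hcop N hN hle).coprime_dvd_left (Subgroup.card_subgroup_dvd_card _)
      rcases n with _ | n
      · simpa using hn
      · rw [hn] at h1
        exact absurd (((Fact.out : p.Prime).coprime_iff_not_dvd.1 h1.symm) (dvd_pow_self p n.succ_ne_zero)) id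
    rw [this]; infer_instance

end Cfsg.Agent.S2815
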