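import Cfsg.Statements.S2816
import Cfsg.Agent.Lib.Components.PAction
-- import your own Cfsg.Agent.* helpers here

set_option autoImplicit false
open Cfsg

namespace Cfsg.Agent.S2816

open Cfsg.Agent.Components Subgroup
open scoped commutatorElement

/-- Let H be a finite group and p a prime with O_p(H) = 1, and Y a p-subgroup of H. Then for every subnormal subgroup K of H containing Y, [F*(H), Y] = [F*(K), Y] = [F*(K), Y, Y]; and if Y₀ ≤ Y with [F*(H), Y, Y₀] = 1 then Y₀ = 1 (in particular [F*(H), Y] = 1 forces Y = 1). -/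
theorem result {H : Type*} [Group H] [Finite H] {p : ℕ} [Fact p.Prime] (hO : Cfsg.pCore p H = ⊥) (Y : Subgroup H) (hY : IsPGroup p ↥Y) : (∀ K : Subgroup H, K.IsSubnormal → Y ≤ K → ⁅Cfsg.generalizedFittingSubgroup H, Y⁆ = ⁅(Cfsg.generalizedFittingSubgroup ↥K).map K.subtype, Y⁆ ∧ ⁅(Cfsg.generalizedFittingSubgroup ↥K).map K.subtype, Y⁆ = ⁅⁅(Cfsg.generalizedFittingSubgroup ↥K).map K.subtype, Y⁆, Y⁆) ∧ (∀ Y₀ : Subgroup H, Y₀ ≤ Y → ⁅⁅Cfsg.generalizedFittingSubgroup H, Y⁆, Y₀⁆ = ⊥ → Y₀ = ⊥) := by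
  set S := Cfsg.generalizedFittingSubgroup H
  obtain ⟨-, hS⟩ := commutator_genFitting_data hO hY
  refine ⟨fun K hK hYK => ?_, fun Y₀ hY₀ h => ?_⟩
  · rw [← generalizedFittingSubgroup_inf_of_isSubnormal hK]
    have key : ∀ U : Subgroup H, U.IsSubnormal → K ≤ U → ⁅S, Y⁆ ≤ U := by
      intro U hU
      induction hU with
      | top => exact fun _ => le_top
      | step U V hle hV hn ih =>
        intro hKU
        refine hS.le.trans ((commutator_mono (ih (hKU.trans hle)) (hYK.trans hKU)).trans ?_)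
        exact le_normalizer_iff_commutator_le_right.mp ((normal_subgroupOf_iff_le_normalizer hle).mp hn)
    have h1 : ⁅S, Y⁆ ≤ S ⊓ K := le_inf (commutator_le_left S Y) (key K hK le_rfl)
    have h2 : ⁅S, Y⁆ = ⁅S ⊓ K, Y⁆ :=
      le_antisymm (hS.le.trans (commutator_mono h1 le_rfl)) (commutator_mono inf_le_left le_rfl)
    exact ⟨h2, by rw [← h2]; exact hS⟩
  · refine eq_bot_of_commutator_genFitting hO (hY.to_le hY₀) (le_bot_iff.mp ?_)
    rw [← h]
    exact commutator_mono (commutator_mono le_rfl hY₀) le_rfl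

end Cfsg.Agent.S2816
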