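import Cfsg.Statements.S2817
import Cfsg.Agent.Lib.Components.PActionAux
-- import your own Cfsg.Agent.* helpers here

set_option autoImplicit false
open Cfsg

namespace Cfsg.Agent.S2817

open Cfsg.Agent.Components Subgroup
open scoped commutatorElement

/-- Let H be a finite group and p a prime with O_p(H) = 1, Q a p-subgroup of H, L = [F*(H), Q], and F the largest normal subgroup of F*(H) centralized by Q (a normal subgroup of F*(H) centralized by Q and containing every such). Then F = C_{F*(H)}(LQ); L = [L, Q]; L ∩ F ≤ Φ(L); every p-subgroup B of N_H(Q) with [L, B] ≤ F satisfies [L, B] = 1; and C_H(FL) has order prime to p. -/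
theorem result {H : Type*} [Group H] [Finite H] {p : ℕ} [Fact p.Prime] (hO : Cfsg.pCore p H = ⊥) (Q : Subgroup H) (hQ : IsPGroup p ↥Q) (L : Subgroup H) (hL : L = ⁅Cfsg.generalizedFittingSubgroup H, Q⁆) (F : Subgroup H) (hF : F ≤ Cfsg.generalizedFittingSubgroup H ∧ Cfsg.generalizedFittingSubgroup H ≤ Subgroup.normalizer (F : Set H) ∧ Q ≤ Subgroup.centralizer (F : Set H) ∧ ∀ N : Subgroup H, N ≤ Cfsg.generalizedFittingSubgroup H → Cfsg.generalizedFittingSubgroup H ≤ Subgroup.normalizer (N : Set H) → Q ≤ Subgroup.centralizer (N : Set H) → N ≤ F) : F = Cfsg.generalizedFittingSubgroup H ⊓ Subgroup.centralizer ((L ⊔ Q : Subgroup H) : Set H) ∧ ⁅L, Q⁆ = L ∧ L ⊓ F ≤ (frattini ↥L).map L.subtype ∧ (∀ B : Subgroup H, IsPGroup p ↥B → B ≤ Subgroup.normalizer (Q : Set H) → ⁅L, B⁆ ≤ F → ⁅L, B⁆ = ⊥) ∧ (Nat.card ↥(Subgroup.centralizer ((F ⊔ L : Subgroup H) : Set H))).Coprime p := by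
  set S := Cfsg.generalizedFittingSubgroup H with hSdef
  obtain ⟨hSC, hS2⟩ := commutator_genFitting_data hO hQ
  rw [← hSdef, ← hL] at hSC hS2
  obtain ⟨hFS, hFn, hFQ, hFmax⟩ := hF
  have hLS : L ≤ S := hL ▸ commutator_le_left S Q
  have hSL : S ≤ normalizer (L : Set H) := hL ▸ normalizer_commutator_ge_left S Q
  have hFQ' : ⁅F, Q⁆ = ⊥ := commutator_eq_bot_symm (commutator_eq_bot_iff_le_centralizer.mpr hFQ)
  have hFL : ⁅L, F⁆ = ⊥ := by
    rw [hL]
    refine commutator_commutator_eq_bot_of_rotate ?_ ?_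
    · rw [commutator_eq_bot_symm hFQ', commutator_bot_left]
    · refine le_bot_iff.mp ((commutator_mono (le_normalizer_iff_commutator_le_left.mp hFn) le_rfl).trans ?_)
      exact hFQ'.le
  have hC : ∀ N : Subgroup H, S ≤ normalizer (N : Set H) →
      S ≤ normalizer ((centralizer (N : Set H) : Subgroup H) : Set H) := fun N hN =>
    hN.trans (normalizer_le_normalizer_centralizer' N)
  have hFeq : F = S ⊓ centralizer ((L ⊔ Q : Subgroup H) : Set H) := by
    refine le_antisymm (le_inf hFS (le_centralizer_of_commutator_eq_bot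
      (commutator_sup_eq_bot (commutator_eq_bot_symm hFL) hFQ'))) ?_
    have hCQ : S ⊓ centralizer ((L ⊔ Q : Subgroup H) : Set H) ≤ centralizer (Q : Set H) :=
      inf_le_right.trans (centralizer_le (SetLike.coe_subset_coe.mpr le_sup_right))
    refine hFmax _ inf_le_left ?_ (le_centralizer_of_commutator_eq_bot (commutator_eq_bot_symm
      (commutator_eq_bot_iff_le_centralizer.mpr hCQ)))
    conv_lhs => rw [← hSC]
    refine sup_le ?_ ?_
    · refine le_trans ?_ (centralizer_le_normalizer _)
      refine le_centralizer_of_commutator_eq_bot (commutator_eq_bot_symm ?_)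
      exact commutator_eq_bot_iff_le_centralizer.mpr
        (inf_le_right.trans (centralizer_le (SetLike.coe_subset_coe.mpr le_sup_left)))
    · refine le_trans (le_inf (inf_le_left.trans le_normalizer) ?_) inf_normalizer_le_normalizer_inf
      refine le_trans ?_ (normalizer_le_normalizer_centralizer' _)
      refine le_trans (le_inf (inf_le_left.trans hSL) ?_)
        (inf_normalizer_le_normalizer_sup' L Q)
      exact inf_le_right.trans (centralizer_le_normalizer _)
  have hLQ : ⁅L, Q⁆ = L := hS2.symm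
  have hQL : Q ≤ normalizer (L : Set H) := hL ▸ normalizer_commutator_ge_right S Q
  have hLsn : L.IsSubnormal :=
    isSubnormal_of_normalized (generalizedFittingSubgroup_normal H).isSubnormal hLS hSL
  obtain ⟨hLtop, hLdvd⟩ := genFitting_subnormal_data hLsn hLS
  have hpFH := coprime_card_fittingSubgroup (p := p) hO
  have hD : L ⊓ F ≤ L ⊓ centralizer (L : Set H) :=
    inf_le_inf_left L (le_centralizer_of_commutator_eq_bot (commutator_eq_bot_symm hFL))
  have hDcop : (Nat.card ↥(L ⊓ F)).Coprime p :=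
    hpFH.coprime_dvd_left (card_dvd_of_le (hD.trans (inf_centralizer_le_fittingSubgroup hLsn)))
  have hQD : ∀ d ∈ L ⊓ F, ∀ q ∈ Q, d * q = q * d := fun d hd q hq =>
    mem_centralizer_iff.mp (hFQ hq) d (mem_inf.mp hd).2
  have hder : L ⊓ F ≤ ⁅L, L⁆ := fun d hd =>
    mem_commutator_of_fixed hQL hLQ hd.1 (hQD d hd)
      ((coprime_card_of_isPGroup hQ hDcop).symm.coprime_dvd_left (Subgroup.orderOf_dvd_natCard _ hd))
  refine ⟨hFeq, hLQ, ?_, fun B hB hBQ hBF => ?_, ?_⟩
  · -- `L ∩ F ≤ Φ(L)`
    intro d hd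
    refine ⟨⟨d, hd.1⟩, ?_, rfl⟩
    refine mem_frattini_of_central (⟨d, hd.1⟩ : L) ?_ ?_
    · exact mem_center_iff.mpr fun y => Subtype.ext (mem_centralizer_iff.mp (hD hd).2 y y.2)
    · rw [← Subgroup.map_subtype_commutator] at hder
      obtain ⟨z, hz, hzd⟩ := hder hd
      rwa [show (⟨d, hd.1⟩ : L) = z from Subtype.ext hzd.symm]
  · -- `[L, B] ≤ F` forces `[L, B] = 1`
    have hBL : B ≤ normalizer (L : Set H) := by
      rw [hL]
      exact (le_inf (by rw [normalizer_eq_top]; exact le_top) hBQ).trans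
        (inf_normalizer_le_normalizer_commutator' S Q)
    have hLB : ⁅L, B⁆ ≤ L ⊓ F := le_inf (le_normalizer_iff_commutator_le_left.mp hBL) hBF
    exact commutator_eq_bot_of_translate hB hDcop hLB hD hder
  · -- `C(F L)` has order prime to `p`
    by_contra hcon
    have hp : p.Prime := Fact.out
    have hd : p ∣ Nat.card ↥(centralizer ((F ⊔ L : Subgroup H) : Set H)) := by
      by_contra h; exact hcon (hp.coprime_iff_not_dvd.mpr h).symm
    have hQC : Q ≤ normalizer (centralizer ((F ⊔ L : Subgroup H) : Set H) : Set H) := by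
      refine le_trans (le_trans ?_ (inf_normalizer_le_normalizer_sup' F L))
        (normalizer_le_normalizer_centralizer' _)
      exact le_inf (hFQ.trans (centralizer_le_normalizer _)) hQL
    obtain ⟨x, hxC, hxQ, hxo⟩ := exists_fixed_element_of_dvd hQ hQC hd
    set X := Subgroup.zpowers x
    have hX : IsPGroup p X := by
      refine IsPGroup.of_card (n := 1) ?_
      rw [Nat.card_zpowers, hxo, pow_one]
    have hXQ : ⁅X, Q⁆ = ⊥ := commutator_eq_bot_iff_le_centralizer.mpr
      (zpowers_le.mpr (mem_centralizer_iff.mpr fun q hq => hxQ q hq))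
    have hXC : X ≤ centralizer ((F ⊔ L : Subgroup H) : Set H) := zpowers_le.mpr hxC
    have hXF : ⁅F, X⁆ = ⊥ := commutator_eq_bot_symm (commutator_eq_bot_iff_le_centralizer.mpr
      (hXC.trans (centralizer_le (SetLike.coe_subset_coe.mpr le_sup_left))))
    have hXL : ⁅L, X⁆ = ⊥ := commutator_eq_bot_symm (commutator_eq_bot_iff_le_centralizer.mpr
      (hXC.trans (centralizer_le (SetLike.coe_subset_coe.mpr le_sup_right))))
    have h1 : ⁅⁅S, X⁆, Q⁆ = ⊥ := by
      refine commutator_commutator_eq_bot_of_rotate ?_ ?_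
      · rw [hXQ, commutator_bot_left]
      · rw [commutator_comm Q S, ← hL]; exact hXL
    have h2 : ⁅S, X⁆ ≤ F := hFmax _ (commutator_le_left S X) (normalizer_commutator_ge_left S X)
      (le_centralizer_of_commutator_eq_bot (commutator_eq_bot_symm h1))
    have h3 : X = ⊥ := eq_bot_of_commutator_genFitting hO hX
      (le_bot_iff.mp ((commutator_mono h2 le_rfl).trans hXF.le))
    rw [zpowers_eq_bot] at h3
    rw [h3, orderOf_one] at hxo
    exact hp.one_lt.ne hxo

end Cfsg.Agent.S2817
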