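import Cfsg.Statements.S2818
import Cfsg.Agent.Lib.PGroup.Frattini
import Cfsg.Agent.Lib.PGroup.ElementaryAbelian

set_option autoImplicit false
open Cfsg
open scoped commutatorElement

namespace Cfsg.Agent.S2818

/-- Let P be a finite p-subgroup of a group G and H a subgroup of N_G(P) with [P, H] ≤ Ω₁(Z(P)) (the elements of order dividing p in the centre of P). Then H centralizes the Frattini subgroup of P. -/
theorem result {G : Type*} [Group G] [Finite G] {p : ℕ} [Fact p.Prime] (P : Subgroup G) (hP : IsPGroup p ↥P) (H : Subgroup G) (hH : H ≤ Subgroup.normalizer (P : Set G)) (h : ⁅P, H⁆ ≤ Cfsg.omegaOne p (P ⊓ Subgroup.centralizer (P : Set G))) : ⁅(frattini ↥P).map P.subtype, H⁆ = ⊥ := by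
  set Z := Cfsg.omegaOne p (P ⊓ Subgroup.centralizer (P : Set G)) with hZ
  have hc : IsMulCommutative ↥(P ⊓ Subgroup.centralizer (P : Set G)) :=
    Cfsg.Agent.PGroup.isMulCommutative_of_forall fun a ha b hb =>
      Subgroup.mem_centralizer_iff.1 hb.2 a ha.1
  have hZe : Cfsg.IsElementaryAbelian p Z := Cfsg.Agent.PGroup.isElementaryAbelian_omegaOne hc
  have hZc : ∀ z ∈ Z, ∀ x ∈ P, x * z = z * x := fun z hz x hx =>
    Subgroup.mem_centralizer_iff.1 (Cfsg.Agent.PGroup.omegaOne_le _ hz).2 x hx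
  rw [Subgroup.commutator_eq_bot_iff_le_centralizer]
  rintro _ ⟨w, hw, rfl⟩
  refine Subgroup.mem_centralizer_iff.2 fun k hk => ?_
  letI : CommGroup ↥Z :=
    { (inferInstance : Group ↥Z) with mul_comm := fun a b => hZe.1.is_comm.comm a b }
  let f : ↥P →* ↥Z :=
    { toFun := fun x => ⟨⁅(x : G), k⁆, h (Subgroup.commutator_mem_commutator x.2 hk)⟩
      map_one' := by ext; simp
      map_mul' := fun x y => by
        apply Subtype.ext
        have hy : ⁅(y : G), k⁆ ∈ Z := h (Subgroup.commutator_mem_commutator y.2 hk)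
        have hx : ⁅(x : G), k⁆ ∈ Z := h (Subgroup.commutator_mem_commutator x.2 hk)
        show ⁅(x : G) * y, k⁆ = ⁅(x : G), k⁆ * ⁅(y : G), k⁆
        calc ⁅(x : G) * y, k⁆ = ((x : G) * ⁅(y : G), k⁆) * (x : G)⁻¹ * ⁅(x : G), k⁆ := by
              simp only [commutatorElement_def]; group
          _ = ⁅(y : G), k⁆ * ⁅(x : G), k⁆ := by rw [hZc _ hy _ x.2]; group
          _ = ⁅(x : G), k⁆ * ⁅(y : G), k⁆ := Cfsg.Agent.PGroup.mul_comm_of_elementaryAbelian hZe hy hx }
  have hker : frattini ↥P ≤ f.ker := by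
    refine Cfsg.Agent.PGroup.frattini_le (p := p) (Abelianization.commutator_subset_ker f) fun x => ?_
    rw [MonoidHom.mem_ker, map_pow]
    exact Subtype.ext (by simpa using hZe.2 _ (f x).2)
  have h1 : ⁅(w : G), k⁆ = 1 := congrArg Subtype.val (MonoidHom.mem_ker.1 (hker hw))
  exact (commutatorElement_eq_one_iff_mul_comm.1 h1).symm

end Cfsg.Agent.S2818
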