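import Cfsg.Statements.S2819
import Cfsg.Agent.Lib.PRed.Basic
import Cfsg.Agent.Lib.PGroup.Frattini

set_option autoImplicit false
open Cfsg
open scoped commutatorElement

namespace Cfsg.Agent.S2819

/-- Let P be a finite p-subgroup of a group G, H a subgroup of N_G(P), and Y a subgroup of H centralizing the derived subgroup P' such that [P, Y] is elementary abelian. Then O^p(⟨Y^H⟩), the subgroup of the normal closure of Y in H generated by its elements of order prime to p, centralizes the Frattini subgroup of P. -/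
theorem result {G : Type*} [Group G] [Finite G] {p : ℕ} [Fact p.Prime] (P : Subgroup G) (hP : IsPGroup p ↥P) (H : Subgroup G) (hH : H ≤ Subgroup.normalizer (P : Set G)) (Y : Subgroup G) (hYH : Y ≤ H) (hYc : Y ≤ Subgroup.centralizer ((⁅P, P⁆ : Subgroup G) : Set G)) (hel : Cfsg.IsElementaryAbelian p ⁅P, Y⁆) (NY : Subgroup G) (hNY : NY = (Subgroup.normalClosure ((Y.subgroupOf H : Subgroup ↥H) : Set ↥H)).map H.subtype) : (Cfsg.pResidual p ↥NY).map NY.subtype ≤ Subgroup.centralizer (((frattini ↥P).map P.subtype : Subgroup G) : Set G) := by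
  have hc1 : ∀ a ∈ P, ∀ b ∈ P, a * b * a⁻¹ * b⁻¹ ∈ ⁅P, P⁆ := fun a ha b hb =>
    Subgroup.commutator_mem_commutator ha hb
  have hDP : ⁅P, P⁆ ≤ P := P.commutator_le_self
  set Φ := (frattini ↥P).map P.subtype with hΦ
  have hΦP : Φ ≤ P := Subgroup.map_subtype_le _
  have hHD : ∀ h ∈ H, ∀ d ∈ ⁅P, P⁆, h * d * h⁻¹ ∈ ⁅P, P⁆ := by
    intro h hh d hd
    have h1 := Subgroup.map_commutator P P (MulAut.conj h).toMonoidHom
    have h2 : P.map (MulAut.conj h).toMonoidHom = P := by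
      refine le_antisymm ?_ fun x hx => ⟨h⁻¹ * x * h, (Subgroup.mem_normalizer_iff''.1 (hH hh) x).1 hx, by simp [mul_assoc]⟩
      rintro _ ⟨x, hx, rfl⟩
      exact (Subgroup.mem_normalizer_iff.1 (hH hh) x).1 hx
    rw [h2] at h1
    exact h1.le ⟨d, hd, rfl⟩
  have hHΦ : ∀ h ∈ H, ∀ x ∈ Φ, h * x * h⁻¹ ∈ Φ := by
    rintro h hh x ⟨u, hu, rfl⟩
    exact (Subgroup.mem_normalizer_iff.1 (Cfsg.Agent.Components.normalizer_le_normalizer_map_of_characteristic P
      (frattini ↥P) (hH hh)) _).1 ⟨u, hu, rfl⟩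
  let S : Subgroup ↥H :=
    { carrier := {h | (∀ x ∈ Φ, (h : G) * x * (h : G)⁻¹ * x⁻¹ ∈ ⁅P, P⁆) ∧
        ∀ d ∈ ⁅P, P⁆, Commute (h : G) d}
      one_mem' := ⟨fun x _ => by simp, fun d _ => Commute.one_left d⟩
      mul_mem' := fun {a b} ha hb => ⟨fun x hx => by
        have h1 := ha.1 _ hx
        have h2 := hHD _ a.2 _ (hb.1 x hx)
        have := mul_mem h2 h1
        simpa [mul_assoc] using this, fun d hd => (ha.2 d hd).mul_left (hb.2 d hd)⟩
      inv_mem' := fun {a} ha => ⟨fun x hx => by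
        have h1 := hHD _ (inv_mem a.2) _ (inv_mem (ha.1 x hx))
        simpa [mul_assoc] using h1, fun d hd => (ha.2 d hd).inv_left⟩ }
  have hSn : S.Normal := ⟨fun a ha g => ⟨fun x hx => by
    have hx' := hHΦ _ (inv_mem g.2) x hx
    have h1 := hHD _ g.2 _ (ha.1 _ hx')
    simpa [mul_assoc] using h1, fun d hd => by
    have h1 := ha.2 _ (hHD _ (inv_mem g.2) d hd)
    show ((g : G) * a * (g : G)⁻¹) * d = d * ((g : G) * a * (g : G)⁻¹)
    calc ((g : G) * a * (g : G)⁻¹) * d = (g : G) * ((a : G) * ((g : G)⁻¹ * d * ((g : G)⁻¹)⁻¹)) * (g : G)⁻¹ := by group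
      _ = (g : G) * (((g : G)⁻¹ * d * ((g : G)⁻¹)⁻¹) * (a : G)) * (g : G)⁻¹ := by rw [h1.eq]
      _ = d * ((g : G) * a * (g : G)⁻¹) := by group⟩⟩
  have hYS : Y.subgroupOf H ≤ S := by
    intro y hy
    have hyY : (y : G) ∈ Y := Subgroup.mem_subgroupOf.1 hy
    refine ⟨?_, fun d hd => (Subgroup.mem_centralizer_iff.1 (hYc hyY) d hd).symm⟩
    have hpow : ∀ u ∈ P, (y : G) * u ^ p * (y : G)⁻¹ * (u ^ p)⁻¹ ∈ ⁅P, P⁆ := by
      intro u hu
      have hu' : (y : G) * u * (y : G)⁻¹ ∈ P := (Subgroup.mem_normalizer_iff.1 (hH y.2) u).1 hu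
      set e := (y : G) * u * (y : G)⁻¹ * u⁻¹ with he
      have he1 : e ∈ ⁅P, Y⁆ := by
        have := inv_mem (Subgroup.commutator_mem_commutator hu hyY)
        rwa [commutatorElement_inv] at this
      have heP : e ∈ P := mul_mem hu' (inv_mem hu)
      have hep : e ^ p = 1 := hel.2 e he1
      have h1 : ((⟨e, heP⟩ : ↥P) * ⟨u, hu⟩) ^ p * ((⟨u, hu⟩ : ↥P) ^ p)⁻¹ ∈ commutator ↥P := by
        rw [← Abelianization.ker_of, MonoidHom.mem_ker, map_mul, map_pow, map_mul, mul_pow,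
          map_inv, map_pow, mul_inv_cancel_right, ← map_pow,
          show (⟨e, heP⟩ : ↥P) ^ p = 1 from Subtype.ext (by simpa using hep), map_one]
      have h2 := Subgroup.mem_map_of_mem P.subtype h1
      rw [Subgroup.map_subtype_commutator] at h2
      have h3 : (y : G) * u ^ p * (y : G)⁻¹ = (e * u) ^ p := by
        rw [← conj_pow, he]; group
      rw [h3]
      simpa using h2
    rintro _ ⟨w, hw, rfl⟩
    rw [Cfsg.Agent.PGroup.frattini_eq hP] at hw
    have key : ∀ v : ↥P, v ∈ commutator ↥P ⊔ Subgroup.closure (Set.range fun x : ↥P => x ^ p) →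
        (y : G) * (v : G) * (y : G)⁻¹ * (v : G)⁻¹ ∈ ⁅P, P⁆ := by
      intro v hv
      rw [← Subgroup.closure_eq (commutator ↥P), ← Subgroup.closure_union] at hv
      induction hv using Subgroup.closure_induction with
      | mem v hv =>
        rcases hv with hv | ⟨u, rfl⟩
        · have hv' : (v : G) ∈ ⁅P, P⁆ := by
            rw [← Subgroup.map_subtype_commutator]; exact ⟨v, hv, rfl⟩
          have hcm := Subgroup.mem_centralizer_iff.1 (hYc hyY) _ hv'
          rw [← hcm]; simp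
        · simpa using hpow u u.2
      | one => simp
      | mul a b _ _ iha ihb =>
        have h1 : (a : G) * ((y : G) * b * (y : G)⁻¹ * (b : G)⁻¹) * (a : G)⁻¹ ∈ ⁅P, P⁆ :=
          (Subgroup.mem_normalizer_iff.1 (Subgroup.normalizer_commutator_ge_left P P a.2) _).1 ihb
        have := mul_mem iha h1
        simpa [mul_assoc] using this
      | inv a _ iha =>
        have h1 : (a : G)⁻¹ * ((y : G) * a * (y : G)⁻¹ * (a : G)⁻¹)⁻¹ * (a : G) ∈ ⁅P, P⁆ :=
          (Subgroup.mem_normalizer_iff''.1 (Subgroup.normalizer_commutator_ge_left P P a.2) _).1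
            (inv_mem iha)
        simpa [mul_assoc] using h1
    exact key w hw
  have hNS : ∀ g : ↥NY, ∃ s ∈ S, (s : G) = (g : G) := by
    intro g
    obtain ⟨s, hs, he⟩ := hNY.le g.2
    exact ⟨s, Subgroup.normalClosure_le_normal hYS hs, he⟩
  refine Subgroup.map_le_iff_le_comap.2 ((Subgroup.closure_le _).2 fun g hg => ?_)
  obtain ⟨s, hs, he⟩ := hNS g
  refine Subgroup.mem_centralizer_iff.2 fun x hx => ?_
  have hd : ¬ p ∣ orderOf (g : G) := by
    rw [Subgroup.orderOf_coe]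
    exact (Cfsg.Agent.PRed.not_dvd_orderOf_iff g).2 hg
  have h1 : (g : G) * x * (g : G)⁻¹ * x⁻¹ ∈ ⁅P, P⁆ := he ▸ hs.1 x hx
  have hcm := hs.2 _ h1
  rw [he] at hcm
  exact (Cfsg.Agent.LocalChar.commute_of_commute_commutator hP Fact.out hd (hDP h1)
    hcm).eq.symm

end Cfsg.Agent.S2819
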