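import Cfsg.Statements.S2823
import Cfsg.Agent.Lib.LocalStructure.PReduced
import Cfsg.Agent.Lib.LocalStructure.Averaging

set_option autoImplicit false
open Cfsg
open Subgroup Cfsg.Agent.LocalStructure
open scoped commutatorElement

namespace Cfsg.Agent.S2823

/-- Let H be a finite group, p a prime, T a Sylow p-subgroup and L a subgroup of characteristic p containing T; let Z_L be the subgroup generated by the Ω₁(Z(S)) over the Sylow p-subgroups S of L and O^p(L) the subgroup generated by the elements of L of order prime to p. Then Z_L = Ω₁(Z(L))·[Z_L, O^p(L)] and [Z_L, L] = [Z_L, O^p(L)]. -/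
theorem result {H : Type*} [Group H] [Finite H] {p : ℕ} [Fact p.Prime] (T : Sylow p H) (L : Subgroup H) (hTL : (T : Subgroup H) ≤ L) (hL : Subgroup.centralizer (Cfsg.pCore p ↥L : Set ↥L) ≤ Cfsg.pCore p ↥L) : Cfsg.sylowCenterClosure p L = (Cfsg.omegaOne p (L ⊓ Subgroup.centralizer ((L : Subgroup H) : Set H))) ⊔ ⁅Cfsg.sylowCenterClosure p L, (Cfsg.pResidual p ↥L).map L.subtype⁆ ∧ ⁅Cfsg.sylowCenterClosure p L, L⁆ = ⁅Cfsg.sylowCenterClosure p L, (Cfsg.pResidual p ↥L).map L.subtype⁆ := by
  have hL' := (hasCharP_iff L).1 hL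
  set Z := Cfsg.sylowCenterClosure p L with hZ
  have hZel : Cfsg.IsElementaryAbelian p Z := Cfsg.Agent.PGroup.isElementaryAbelian_mono
    (isPRedIn_largest p L).2.2.1 (sylowCenterClosure_le_largest hL')
  have hLZ : L ≤ normalizer (Z : Set H) := by
    intro l hl
    apply mem_normalizer_of_map_conj_le
    rw [hZ, Cfsg.sylowCenterClosure, Subgroup.map_iSup]
    refine iSup_le fun S => ?_
    refine (Cfsg.Agent.PGroup.map_omegaOne_le _ _).trans ?_
    rw [Subgroup.map_inf _ _ _ (MulAut.conj l).injective, coe_map_conj_centralizer]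
    refine omegaOne_le_sylowCenterClosure ?_
    have e : ((S : Subgroup ↥L).map L.subtype).map (MulAut.conj l).toMonoidHom =
        ((S.mapSurjective (f := (MulAut.conj (⟨l, hl⟩ : ↥L)).toMonoidHom)
          (MulAut.conj _).surjective : Sylow p ↥L) : Subgroup ↥L).map L.subtype := by
      show _ = ((S : Subgroup ↥L).map (MulAut.conj (⟨l, hl⟩ : ↥L)).toMonoidHom).map L.subtype
      rw [Subgroup.map_map, Subgroup.map_map]
      rfl
    rw [e]
    exact isSylowIn_map _
  rw [resOf_def]
  set W := ⁅Z, resOf p L⁆ with hW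
  have hfix : Z ≤ (Z ⊓ Subgroup.centralizer (L : Set H)) ⊔ W := by
    rw [hW, hZ, Cfsg.sylowCenterClosure]
    refine iSup_le fun S => ?_
    intro z hz
    refine mem_fixed_sup hZel hLZ (isSylowIn_map S)
      (omegaOne_le_sylowCenterClosure (isSylowIn_map S) hz) fun r hr => ?_
    refine Subgroup.mem_centralizer_singleton_iff.2 ?_
    exact Subgroup.mem_centralizer_iff.1 (Cfsg.Agent.PGroup.omegaOne_le _ hz).2 r hr
  have hΩ : Cfsg.omegaOne p (L ⊓ Subgroup.centralizer (L : Set H)) ≤ Z :=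
    le_trans (Cfsg.Agent.PGroup.omegaOne_mono (le_inf
      ((le_inf inf_le_left (inf_le_right.trans (Subgroup.centralizer_le (pCoreOf_le p L)))).trans
        (hL'.trans (pCoreOf_le_sylow T hTL)))
      (inf_le_right.trans (Subgroup.centralizer_le hTL))))
      (omegaOne_le_sylowCenterClosure (isSylowIn_of_sylow T hTL))
  have hWn : L ≤ normalizer (W : Set H) := le_normalizer_commutator hLZ (le_normalizer_resOf p L)
  have hfixΩ : Z ⊓ Subgroup.centralizer (L : Set H) ≤
      Cfsg.omegaOne p (L ⊓ Subgroup.centralizer (L : Set H)) :=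
    le_omegaOne (fun a ha => hZel.2 a ha.1) (inf_le_inf_right _
      ((sylowCenterClosure_le_largest hL').trans (largest_le L)))
  have hWZ : W ≤ Z := (commutator_mono le_rfl (resOf_le p L)).trans
    (le_normalizer_iff_commutator_le_left.1 hLZ)
  refine ⟨le_antisymm (hfix.trans (sup_le_sup_right hfixΩ _)) (sup_le hΩ hWZ),
    le_antisymm ?_ (commutator_mono le_rfl (resOf_le p L))⟩
  refine Subgroup.commutator_le.2 fun z hz l hl => ?_
  obtain ⟨c, hc, w, hw, rfl⟩ :=
    exists_mul_of_mem_sup (((inf_le_left.trans ((sylowCenterClosure_le_largest hL').trans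
      (largest_le L))).trans hWn)) (hfix hz)
  have hcl : c * l = l * c := (Subgroup.mem_centralizer_iff.1 hc.2 l hl).symm
  have hcw : c * (w * (l * w⁻¹ * l⁻¹)) * c⁻¹ ∈ W :=
    (mem_normalizer_iff.1 (hWn ((sylowCenterClosure_le_largest hL').trans (largest_le L) hc.1)) _).1
      (W.mul_mem hw ((mem_normalizer_iff.1 (hWn hl) _).1 (W.inv_mem hw)))
  have hcl' : c⁻¹ * l⁻¹ = l⁻¹ * c⁻¹ := by rw [← mul_inv_rev, ← mul_inv_rev, hcl]
  have e : ⁅c * w, l⁆ = c * (w * (l * w⁻¹ * l⁻¹)) * c⁻¹ := by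
    rw [commutatorElement_def]
    calc c * w * l * (c * w)⁻¹ * l⁻¹ = c * w * l * w⁻¹ * (c⁻¹ * l⁻¹) := by group
      _ = c * w * l * w⁻¹ * (l⁻¹ * c⁻¹) := by rw [hcl']
      _ = _ := by group
  rwa [e]

end Cfsg.Agent.S2823
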