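import Cfsg.Statements.S2824
import Cfsg.Agent.Lib.LocalStructure.PReduced

set_option autoImplicit false
open Cfsg
open Subgroup Cfsg.Agent.LocalStructure
open scoped commutatorElement

namespace Cfsg.Agent.S2824

/-- Let H be a finite group, p a prime, T a Sylow p-subgroup, L and M subgroups of characteristic p containing T, Y_L the largest p-reduced normal subgroup of L and T₀ = C_T(Y_L). If M·C_H(Y_L) = L·C_H(Y_L), then L* := N_M(T₀) has Y_{L*} = Y_L and L·C_H(Y_L) = L*·C_H(Y_L). -/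
theorem result {H : Type*} [Group H] [Finite H] {p : ℕ} [Fact p.Prime] (T : Sylow p H) (L M : Subgroup H) (hTL : (T : Subgroup H) ≤ L) (hTM : (T : Subgroup H) ≤ M) (hL : Subgroup.centralizer (Cfsg.pCore p ↥L : Set ↥L) ≤ Cfsg.pCore p ↥L) (hM : Subgroup.centralizer (Cfsg.pCore p ↥M : Set ↥M) ≤ Cfsg.pCore p ↥M) (T₀ : Subgroup H) (hT₀ : T₀ = (T : Subgroup H) ⊓ Subgroup.centralizer (((Cfsg.largestPReducedOf p L) : Subgroup H) : Set H)) (hfac : M ⊔ Subgroup.centralizer (((Cfsg.largestPReducedOf p L) : Subgroup H) : Set H) = L ⊔ Subgroup.centralizer (((Cfsg.largestPReducedOf p L) : Subgroup H) : Set H)) (Ls : Subgroup H) (hLs : Ls = M ⊓ Subgroup.normalizer ((T₀ : Subgroup H) : Set H)) : (Cfsg.largestPReducedOf p Ls) = (Cfsg.largestPReducedOf p L) ∧ L ⊔ Subgroup.centralizer (((Cfsg.largestPReducedOf p L) : Subgroup H) : Set H) = Ls ⊔ Subgroup.centralizer (((Cfsg.largestPReducedOf p L) : Subgroup H) : Set H) := by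
  set Y := Cfsg.largestPReducedOf p L with hY
  set C := Subgroup.centralizer (Y : Set H) with hC
  have hLN : L ≤ normalizer (Y : Set H) := le_normalizer_largest L
  have hMN : M ≤ normalizer (Y : Set H) :=
    le_sup_left.trans (hfac.le.trans (sup_le hLN (centralizer_le_normalizer Y)))
  have hR : IsSylowIn p T₀ C := hT₀ ▸ isSylowIn_inf_centralizer T (hTL.trans hLN)
  have hTT₀ : (T : Subgroup H) ≤ normalizer (T₀ : Set H) := by
    rw [hT₀]
    exact le_normalizer_inf Subgroup.le_normalizer (le_normalizer_centralizer (hTL.trans hLN))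
  have hTLs : (T : Subgroup H) ≤ Ls := hLs ▸ le_inf hTM hTT₀
  have hLsC : M ⊔ C = Ls ⊔ C := by
    refine le_antisymm (sup_le ?_ le_sup_right) (sup_le_sup_right (hLs ▸ inf_le_left) _)
    intro m hm
    have hR' : IsSylowIn p T₀ (M ⊓ C) :=
      hR.mono (le_inf (hT₀ ▸ inf_le_left.trans hTM) hR.1) inf_le_right
    obtain ⟨n, hn, hnm⟩ := hR'.frattini
      (le_normalizer_inf M.le_normalizer (le_normalizer_centralizer hMN)) hm
    have h1 : n * m ∈ Ls := hLs ▸ ⟨mul_mem hn.1 hm, hnm⟩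
    simpa using mul_mem (le_sup_right (a := Ls) (inv_mem hn.2)) (le_sup_left (b := C) h1)
  have heq : L ⊔ C = Ls ⊔ C := hfac.symm.trans hLsC
  refine ⟨le_antisymm ?_ ?_, heq⟩
  · have hY1 : Y ≤ Cfsg.largestPReducedOf p Ls := le_largestPReducedOf
      ((isPRedIn_largest p L).transfer
        ((largest_le_pCoreOf L).trans ((pCoreOf_le_sylow T hTL).trans hTLs)) heq.symm)
    have hYs := isPRedIn_largest p Ls
    have hT0Ls : T₀ ≤ Cfsg.pCoreOf p Ls :=
      LocalStructure.le_pCoreOf ((hT₀ ▸ inf_le_left).trans hTLs) (hLs ▸ inf_le_right) hR.2.1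
    have hOT : Cfsg.pCoreOf p L ≤ T₀ :=
      hT₀ ▸ le_inf (pCoreOf_le_sylow T hTL) (pCoreOf_le_centralizer_largest L)
    have hc : Cfsg.largestPReducedOf p Ls ≤ Subgroup.centralizer (Cfsg.pCoreOf p L : Set H) :=
      Subgroup.le_centralizer_iff.1 ((hOT.trans hT0Ls).trans hYs.pCoreOf_le_centralizer)
    refine le_largest_of_piece (isSylowIn_of_sylow T hTL) (le_omegaOne hYs.2.2.1.2
      (le_inf ((le_inf (hYs.le_pCoreOf.trans ((pCoreOf_le_sylow T hTLs).trans hTL)) hc).trans
        ((hasCharP_iff L).1 hL)) hc)) fun D hDL hD hpow => ?_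
    have hDC : D ≤ C := (isPRedIn_largest p L).2.2.2 D hDL hD fun x hx =>
      (hpow x hx).imp fun _ hk => Subgroup.centralizer_le hY1 hk
    exact (inf_le_inf_left _ hDC).trans (hT₀ ▸ hT0Ls.trans hYs.pCoreOf_le_centralizer)
  · exact le_largestPReducedOf ((isPRedIn_largest p L).transfer
      ((largest_le_pCoreOf L).trans ((pCoreOf_le_sylow T hTL).trans hTLs)) heq.symm)

end Cfsg.Agent.S2824
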