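import Cfsg.Statements.S2825
import Cfsg.Agent.Lib.LocalStructure.PReduced
import Cfsg.Agent.Lib.LocalStructure.Averaging

set_option autoImplicit false
open Cfsg
open Subgroup Cfsg.Agent.LocalStructure
open scoped commutatorElement

namespace Cfsg.Agent.S2825

/-- Let L be a subnormal subgroup of the finite group H, p a prime, Y_H and Y_L the largest p-reduced normal subgroups. Then Y_H ∩ L = Y_H ∩ Y_L and this subgroup is a p-reduced normal subgroup of L; C_L(Y_L) = C_L(Y_H) = C_L(Y_H ∩ L); and if O^p(H) ≤ L, then [Y_L, L] = 1 if and only if [Y_H, H] = 1. -/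
theorem result {H : Type*} [Group H] [Finite H] {p : ℕ} [Fact p.Prime] (L : Subgroup H) (hL : L.IsSubnormal) : Cfsg.largestPReduced p H ⊓ L = Cfsg.largestPReduced p H ⊓ (Cfsg.largestPReducedOf p L) ∧ Cfsg.IsPReducedNormal p ((Cfsg.largestPReduced p H ⊓ L).subgroupOf L) ∧ L ⊓ Subgroup.centralizer ((Cfsg.largestPReducedOf p L : Subgroup H) : Set H) = L ⊓ Subgroup.centralizer (Cfsg.largestPReduced p H : Set H) ∧ L ⊓ Subgroup.centralizer (Cfsg.largestPReduced p H : Set H) = L ⊓ Subgroup.centralizer ((Cfsg.largestPReduced p H ⊓ L : Subgroup H) : Set H) ∧ (Cfsg.pResidual p H ≤ L → (⁅(Cfsg.largestPReducedOf p L), L⁆ = ⊥ ↔ ⁅Cfsg.largestPReduced p H, (⊤ : Subgroup H)⁆ = ⊥)) := by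
  set Y := Cfsg.largestPReduced p H with hYdef
  have hY : IsPRedIn p Y ⊤ := isPRedIn_largest_top p
  have hYn : Y.Normal := normalizer_eq_top_iff.1 (top_unique hY.2.1)
  have hChn : (Subgroup.centralizer (Y : Set H)).Normal :=
    normalizer_eq_top_iff.1 (top_unique (le_normalizer_centralizer hY.2.1))
  have hfix : ∀ K : Subgroup H, K.IsSubnormal → ∀ x ∈ K, (orderOf x).Coprime p →
      (∀ v ∈ Y ⊓ K, Commute x v) → ∀ v ∈ Y, Commute x v := by
    intro K hK
    induction hK with
    | top => exact fun x _ _ h v hv => h v ⟨hv, Subgroup.mem_top v⟩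
    | step K K' hle _ hN ih =>
      intro x hxK hx h
      refine ih x (hle hxK) hx fun v hv => ?_
      have hn := (normal_subgroupOf_iff_le_normalizer hle).1 hN
      refine commute_of_stabilize (W := Y ⊓ K)
        ((Cfsg.Agent.PGroup.isPGroup_of_elementaryAbelian hY.2.2.1).to_le inf_le_left) hx h ⟨?_, ?_⟩
      · exact le_normalizer_iff_commutator_le_right.1
          (le_normalizer_of_normal (K := (⊤ : Subgroup H)))
          (commutator_mem_commutator (Subgroup.mem_top x) hv.1)
      · exact le_normalizer_iff_commutator_le_left.1 hn (commutator_mem_commutator hxK hv.2)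
  have hsub : ∀ D : Subgroup H, D.IsSubnormal →
      (∀ x ∈ D, ∃ k : ℕ, x ^ p ^ k ∈ Subgroup.centralizer (Y : Set H)) →
      D ≤ Subgroup.centralizer (Y : Set H) := by
    intro D hD hpow
    set q := QuotientGroup.mk' (Subgroup.centralizer (Y : Set H)) with hq
    have hs : Function.Surjective q := QuotientGroup.mk'_surjective _
    have himg : (D.map q).IsSubnormal := by
      clear hpow
      induction hD with
      | top => rw [Subgroup.map_top_of_surjective q hs]; exact Subgroup.IsSubnormal.top
      | step A B hle _ hN ih =>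
        refine Subgroup.IsSubnormal.step _ _ (Subgroup.map_mono hle) ih
          ((normal_subgroupOf_iff_le_normalizer (Subgroup.map_mono hle)).2 ?_)
        exact (Subgroup.map_mono ((normal_subgroupOf_iff_le_normalizer hle).1 hN)).trans
          (le_normalizer_map q)
    have hp' : IsPGroup p (D.map q) := by
      rintro ⟨_, x, hx, rfl⟩
      obtain ⟨k, hk⟩ := hpow x hx
      exact ⟨k, Subtype.ext (by
        show q x ^ p ^ k = 1
        rw [← map_pow]
        exact (QuotientGroup.eq_one_iff _).2 hk)⟩
    obtain ⟨-, -, hn', hcore⟩ := isPReducedNormal_iff.2 hY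
    have h1 := le_pCore_of_isSubnormal himg hp'
    rw [hcore, Subgroup.map_le_iff_le_comap, MonoidHom.comap_bot, hq, QuotientGroup.ker_mk'] at h1
    exact h1
  have hpow' : ∀ x ∈ L, x ∈ Subgroup.centralizer ((Y ⊓ L : Subgroup H) : Set H) →
      ∃ k : ℕ, x ^ p ^ k ∈ Subgroup.centralizer (Y : Set H) := by
    intro x hxL hx
    obtain ⟨k, hk⟩ := exists_coprime_pow_mem (p := p) x
    exact ⟨k, Subgroup.mem_centralizer_iff.2 fun v hv => (hfix L hL _ (pow_mem hxL _) hk
      (fun w hw => (Subgroup.mem_centralizer_iff.1 (pow_mem hx _) w hw).symm) v hv).eq.symm⟩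
  have hLYL : L ≤ normalizer ((Y ⊓ L : Subgroup H) : Set H) :=
    le_normalizer_inf le_normalizer_of_normal L.le_normalizer
  have hC2 : L ⊓ Subgroup.centralizer (Y : Set H) =
      L ⊓ Subgroup.centralizer ((Y ⊓ L : Subgroup H) : Set H) := by
    refine le_antisymm (inf_le_inf_left _ (Subgroup.centralizer_le inf_le_left)) ?_
    refine le_inf inf_le_left (hsub _ (Subgroup.IsSubnormal.step _ L inf_le_left hL
      ((normal_subgroupOf_iff_le_normalizer inf_le_left).2
        (le_normalizer_inf L.le_normalizer (le_normalizer_centralizer hLYL))))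
      fun x hx => hpow' x hx.1 hx.2)
  have hred : IsPRedIn p (Y ⊓ L) L := by
    refine ⟨inf_le_right, hLYL, Cfsg.Agent.PGroup.isElementaryAbelian_mono hY.2.2.1 inf_le_left,
      fun D hDL hD hpow => ?_⟩
    refine (hsub D (Subgroup.IsSubnormal.step _ L hDL hL
      ((normal_subgroupOf_iff_le_normalizer hDL).2 hD)) fun x hx => ?_).trans
      (Subgroup.centralizer_le inf_le_left)
    obtain ⟨k, hk⟩ := hpow x hx
    obtain ⟨j, hj⟩ := hpow' _ (pow_mem (hDL hx) _) hk
    refine ⟨k + j, ?_⟩
    rwa [pow_add, pow_mul]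
  have hYL : Y ⊓ L ≤ Cfsg.largestPReducedOf p L := le_largestPReducedOf hred
  have hnorm : ∀ X K V : Subgroup H, K ≤ X → X ≤ normalizer (K : Set H) →
      V ≤ Cfsg.largestPReducedOf p K → X ≤ normalizer (V : Set H) →
      K ⊓ Subgroup.centralizer (V : Set H) ≤
        Subgroup.centralizer (Cfsg.largestPReducedOf p K : Set H) →
      K ⊓ Subgroup.centralizer (Cfsg.largestPReducedOf p X : Set H) ≤
        Subgroup.centralizer (Cfsg.largestPReducedOf p K : Set H) := by
    intro X K V hKX hXK
    induction hn' : Nat.card V using Nat.strong_induction_on generalizing V with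
    | _ n ih =>
      intro hVY hXV hKV
      have hVel := Cfsg.Agent.PGroup.isElementaryAbelian_mono (isPRedIn_largest p K).2.2.1 hVY
      by_cases hr : IsPRedIn p V X
      · exact (inf_le_inf_left _ (Subgroup.centralizer_le (le_largestPReducedOf hr))).trans hKV
      · obtain ⟨D, hDX, hD, hpow, hne⟩ : ∃ D : Subgroup H, D ≤ X ∧ X ≤ normalizer (D : Set H) ∧
            (∀ x ∈ D, ∃ k : ℕ, x ^ p ^ k ∈ Subgroup.centralizer (V : Set H)) ∧
            ¬ D ≤ Subgroup.centralizer (V : Set H) := by
          by_contra hcon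
          exact hr ⟨hVY.trans ((largest_le K).trans hKX), hXV, hVel, fun D h1 h2 h3 =>
            by_contra fun h4 => hcon ⟨D, h1, h2, h3, h4⟩⟩
        set W := V ⊓ Subgroup.centralizer (D : Set H) with hW
        have hWlt : Nat.card W < n := by
          refine hn' ▸ Nat.lt_of_le_of_ne (Subgroup.card_le_of_le inf_le_left) fun e => hne ?_
          exact Subgroup.le_centralizer_iff.1
            ((Subgroup.eq_of_le_of_card_ge inf_le_left e.ge).ge.trans inf_le_right)
        refine ih _ hWlt W rfl (inf_le_left.trans hVY)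
          (le_normalizer_inf hXV (le_normalizer_centralizer hD)) ?_
        set E := K ⊓ Subgroup.centralizer (W : Set H) with hE
        have hKD : K ⊓ D ≤ Subgroup.centralizer (V : Set H) := by
          refine ((isPRedIn_largest p K).2.2.2 _ inf_le_left
            (le_normalizer_inf K.le_normalizer (hKX.trans hD)) fun x hx => ?_).trans
            (Subgroup.centralizer_le hVY)
          obtain ⟨k, hk⟩ := hpow x hx.2
          exact ⟨k, hKV ⟨pow_mem hx.1 _, hk⟩⟩
        obtain ⟨R, hR⟩ := exists_isSylowIn p D
        have hres : resOf p D ≤ Subgroup.centralizer (V : Set H) := resOf_le_of_pow_mem hpow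
        refine (isPRedIn_largest p K).2.2.2 E inf_le_left (le_normalizer_inf K.le_normalizer
          (le_normalizer_centralizer (le_normalizer_inf (hKX.trans hXV)
            (le_normalizer_centralizer (hKX.trans hD))))) fun x hx => ?_
        obtain ⟨k, hk⟩ := exists_coprime_pow_mem (p := p) x
        refine ⟨k, hKV ⟨pow_mem hx.1 _, Subgroup.mem_centralizer_iff.2 fun v hv => ?_⟩⟩
        refine (commute_of_centralize_fixed hVel.1
          (Cfsg.Agent.PGroup.isPGroup_of_elementaryAbelian hVel)
          ((hR.1.trans hDX).trans hXV) hR.2.1 (hXV (hKX (pow_mem hx.1 _))) hk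
          (fun d hd => hKD ⟨le_normalizer_iff_commutator_le_right.1 (hDX.trans hXK)
            (commutator_mem_commutator (hR.1 hd) (pow_mem hx.1 _)),
            le_normalizer_iff_commutator_le_left.1 (hKX.trans hD)
            (commutator_mem_commutator (hR.1 hd) (pow_mem hx.1 _))⟩)
          (fun w hw => ?_) v hv).eq.symm
        refine (Subgroup.mem_centralizer_iff.1 (pow_mem hx.2 _) w ⟨hw.1, ?_⟩).symm
        show w ∈ Subgroup.centralizer (D : Set H)
        refine Subgroup.mem_centralizer_iff.2 fun d hd => ?_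
        have hd' : d ∈ resOf p D ⊔ R := by rw [hR.resOf_sup]; exact hd
        have hle : resOf p D ⊔ R ≤ Subgroup.centralizer ({w} : Set H) :=
            sup_le (fun a ha => Subgroup.mem_centralizer_singleton_iff.2
              (Subgroup.mem_centralizer_iff.1 (hres ha) w hw.1).symm)
              (fun a ha => Subgroup.mem_centralizer_singleton_iff.2
              (Subgroup.mem_centralizer_iff.1 hw.2 a ha))
        exact Subgroup.mem_centralizer_singleton_iff.1 (hle hd')
  have hchain : ∀ K : Subgroup H, K.IsSubnormal →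
      K ⊓ Subgroup.centralizer (Y : Set H) ≤
        Subgroup.centralizer (Cfsg.largestPReducedOf p K : Set H) := by
    intro K hK
    induction hK with
    | top =>
      refine inf_le_right.trans (Subgroup.centralizer_le ?_)
      exact le_sSup (s := {V : Subgroup H | Cfsg.IsPReducedNormal p V})
        (isPReducedNormal_iff.2 (isPRedIn_largest p ⊤))
    | step K K' hle _ hN ih =>
      have hn := (normal_subgroupOf_iff_le_normalizer hle).1 hN
      exact le_trans (le_inf inf_le_left ((inf_le_inf_right _ hle).trans ih))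
        (hnorm K' K _ hle hn le_rfl (hn.trans (normalizer_le_normalizer_largest K)) inf_le_right)
  have hC1 : L ⊓ Subgroup.centralizer ((Cfsg.largestPReducedOf p L : Subgroup H) : Set H) =
      L ⊓ Subgroup.centralizer (Y : Set H) :=
    le_antisymm ((inf_le_inf_left _ (Subgroup.centralizer_le hYL)).trans hC2.ge)
      (le_inf inf_le_left (hchain L hL))
  refine ⟨le_antisymm (le_inf inf_le_left hYL) (inf_le_inf_left _ (largest_le L)), ?_, hC1, hC2,
    fun hres => ⟨fun h => ?_, fun h => ?_⟩⟩
  · refine isPReducedNormal_iff.2 (isPRedIn_map_subtype.1 ?_)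
    rwa [subgroupOf_map_subtype, inf_eq_left.2 (inf_le_right : Y ⊓ L ≤ L)]
  · rw [commutator_comm, commutator_eq_bot_iff_le_centralizer] at h ⊢
    have hLC : L ≤ Subgroup.centralizer (Y : Set H) :=
      (le_inf le_rfl h).trans (hC1.le.trans inf_le_right)
    refine hY.2.2.2 ⊤ le_rfl le_normalizer_of_normal fun x _ => ?_
    obtain ⟨k, hk⟩ := exists_coprime_pow_mem (p := p) x
    exact ⟨k, hLC (hres (mem_pResidual hk))⟩
  · rw [commutator_comm, commutator_eq_bot_iff_le_centralizer] at h ⊢
    exact (le_inf le_rfl (le_top.trans h)).trans (hC1.ge.trans inf_le_right)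

end Cfsg.Agent.S2825
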