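import Cfsg.Statements.S2826
import Cfsg.Agent.Lib.LocalStructure.PReduced
import Cfsg.Agent.Lib.LocalStructure.Averaging

set_option autoImplicit false
open Cfsg
open Subgroup Cfsg.Agent.LocalStructure
open scoped commutatorElement

namespace Cfsg.Agent.S2826

/-- Let H be a finite group of characteristic p, T a Sylow p-subgroup, and V a normal elementary abelian p-subgroup of H containing Ω₁(Z(T)). Then C_H(Ω₁(Z(T))) = C_H([V, O^p(H)] ∩ Ω₁(Z(T))), O^p(H) being generated by the elements of order prime to p. -/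
theorem result {H : Type*} [Group H] [Finite H] {p : ℕ} [Fact p.Prime] (hH : Subgroup.centralizer (Cfsg.pCore p H : Set H) ≤ Cfsg.pCore p H) (T : Sylow p H) (V : Subgroup H) [V.Normal] (hV : Cfsg.IsElementaryAbelian p V) (hZV : (Cfsg.omegaOne p ((T : Subgroup H) ⊓ Subgroup.centralizer (((T : Subgroup H) : Subgroup H) : Set H))) ≤ V) : Subgroup.centralizer ((Cfsg.omegaOne p ((T : Subgroup H) ⊓ Subgroup.centralizer (((T : Subgroup H) : Subgroup H) : Set H))) : Set H) = Subgroup.centralizer (((⁅V, Cfsg.pResidual p H⁆ ⊓ (Cfsg.omegaOne p ((T : Subgroup H) ⊓ Subgroup.centralizer (((T : Subgroup H) : Subgroup H) : Set H)))) : Subgroup H) : Set H) := by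
  set Z := Cfsg.omegaOne p ((T : Subgroup H) ⊓ Subgroup.centralizer ((T : Subgroup H) : Set H))
  refine le_antisymm (Subgroup.centralizer_le inf_le_right) fun x hx => ?_
  refine Subgroup.mem_centralizer_iff.2 fun z hz => ?_
  have hzT := Cfsg.Agent.PGroup.omegaOne_le _ hz
  have h := mem_fixed_sup (L := ⊤) hV le_normalizer_of_normal (isSylowIn_of_sylow T le_top)
    (hZV hz) (fun t ht => Subgroup.mem_centralizer_singleton_iff.2
      (Subgroup.mem_centralizer_iff.1 hzT.2 t ht))
  rw [resOf_top] at h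
  obtain ⟨c, hc, w, hw, rfl⟩ := exists_mul_of_mem_sup
    (inf_le_left.trans (normalizer_commutator_ge_left V (Cfsg.pResidual p H))) h
  have hcT : c ∈ (T : Subgroup H) :=
    (IsPGroup.le_sylow_of_normal (Cfsg.Agent.PGroup.isPGroup_of_elementaryAbelian hV) T) hc.1
  have hcZ : c ∈ Z := Cfsg.Agent.PGroup.mem_omegaOne_of_pow_eq_one
    ⟨hcT, Subgroup.centralizer_le (fun t _ => Subgroup.mem_top t) hc.2⟩ (hV.2 c hc.1)
  have hwZ : w ∈ Z := by simpa using mul_mem (inv_mem hcZ) hz
  have hxw := Subgroup.mem_centralizer_iff.1 hx w ⟨hw, hwZ⟩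
  have hxc : x * c = c * x := Subgroup.mem_centralizer_iff.1 hc.2 x (Subgroup.mem_top x)
  calc c * w * x = c * (x * w) := by rw [mul_assoc, hxw]
    _ = (c * x) * w := (mul_assoc _ _ _).symm
    _ = x * (c * w) := by rw [← hxc, mul_assoc]

end Cfsg.Agent.S2826
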