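import Cfsg.Statements.S2827
import Cfsg.Agent.Lib.LocalStructure.PClosed

set_option autoImplicit false
open Cfsg
open Subgroup Cfsg.Agent.LocalStructure
open scoped commutatorElement

namespace Cfsg.Agent.S2827

/-- Let H be a finite p-irreducible group (not p-closed, and O^p(H) lies in every normal subgroup that is not p-closed) and T a Sylow p-subgroup. Then H is generated by the conjugates of T and H = H'·T; O^p(H) ≤ H'; and for every normal subgroup Y of T not contained in O_p(H), O^p(H) = [O^p(H), Y] and O^p(H) is contained in the normal closure of Y in H. -/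
theorem result {H : Type*} [Group H] [Finite H] {p : ℕ} [Fact p.Prime] (hH : Cfsg.IsPIrreducible p H) (T : Sylow p H) : Subgroup.normalClosure ((T : Subgroup H) : Set H) = ⊤ ∧ commutator H ⊔ (T : Subgroup H) = ⊤ ∧ Cfsg.pResidual p H ≤ commutator H ∧ ∀ Y : Subgroup H, Y ≤ (T : Subgroup H) → (T : Subgroup H) ≤ Subgroup.normalizer (Y : Set H) → ¬ Y ≤ Cfsg.pCore p H → ⁅Cfsg.pResidual p H, Y⁆ = Cfsg.pResidual p H ∧ Cfsg.pResidual p H ≤ Subgroup.normalClosure (Y : Set H) := by
  have hR := pResidual_normal p H
  have hTR : (T : Subgroup H) ≤ normalizer (pResidual p H : Set H) := le_normalizer_of_normal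
  have hRT := pResidual_sup_sylow T
  have hncl : Subgroup.normalClosure ((T : Subgroup H) : Set H) = ⊤ := by
    refine eq_top_iff.2 (hRT ▸ sup_le (hH.2 _ inferInstance ?_) le_normalClosure)
    exact not_isPClosed_of_sylow_le hH.1 inferInstance T le_normalClosure
  have hcT : commutator H ⊔ (T : Subgroup H) = ⊤ := by
    have hn : (commutator H ⊔ (T : Subgroup H)).Normal :=
      Subgroup.Normal.of_commutator_le H (le_sup_left : commutator H ≤ commutator H ⊔ (T : Subgroup H))
    exact eq_top_iff.2 (hncl ▸ normalClosure_le_normal (le_sup_right : (T : Subgroup H) ≤ commutator H ⊔ (T : Subgroup H)))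
  refine ⟨hncl, hcT, ?_, fun Y hYT hTY hY => ?_⟩
  · refine pResidual_le_of_le_sup le_normalizer_of_normal T.2 ?_
    rw [sup_comm, hcT]
    exact le_top
  have hYn : Y ≤ normalizer ((⁅pResidual p H, Y⁆ : Subgroup H) : Set H) := normalizer_commutator_ge_right _ _
  have hNn : (⁅pResidual p H, Y⁆).Normal := by
    rw [← normalizer_eq_top_iff, eq_top_iff, ← hRT]
    exact sup_le (normalizer_commutator_ge_left _ _) (le_normalizer_commutator hTR hTY)
  have hKn : (Y ⊔ ⁅pResidual p H, Y⁆).Normal := by
    rw [← normalizer_eq_top_iff, eq_top_iff, ← hRT]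
    refine sup_le ?_ (le_normalizer_sup hTY le_normalizer_of_normal)
    rw [le_normalizer_iff]
    intro r hr y hy
    obtain ⟨a, ha, n, hn, rfl⟩ := exists_mul_of_mem_sup hYn hy
    have e : r * (a * n) * r⁻¹ = ⁅r, a⁆ * a * (r * n * r⁻¹) := by
      rw [commutatorElement_def]; group
    rw [e]
    exact mul_mem (mul_mem (le_sup_right (a := Y) (commutator_mem_commutator hr ha))
      (le_sup_left (b := ⁅pResidual p H, Y⁆) ha))
      (le_sup_right (a := Y) (hNn.conj_mem n hn r))
  have hle : pResidual p H ≤ Subgroup.normalClosure (Y : Set H) := by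
    refine hH.2 _ inferInstance fun hcl => hY ?_
    exact le_pCore_of_isPClosed inferInstance hcl le_normalClosure (T.2.to_le hYT)
  refine ⟨le_antisymm (commutator_le_left _ _) ?_, hle⟩
  exact pResidual_le_of_le_sup hYn (T.2.to_le hYT)
    (hle.trans (normalClosure_le_normal (le_sup_left : Y ≤ Y ⊔ ⁅pResidual p H, Y⁆)))

end Cfsg.Agent.S2827
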