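import Cfsg.Statements.S2828
import Cfsg.Agent.Lib.LocalStructure.PClosed

set_option autoImplicit false
open Cfsg
open Subgroup Cfsg.Agent.LocalStructure
open scoped commutatorElement

namespace Cfsg.Agent.S2828

/-- Let H be a finite group, p a prime and D a normal p-subgroup of H. Then H is p-irreducible if and only if H/D is p-irreducible, and H is strongly p-irreducible if and only if H/D is strongly p-irreducible. -/
theorem result {H : Type*} [Group H] [Finite H] {p : ℕ} [Fact p.Prime] (D : Subgroup H) [D.Normal] (hD : IsPGroup p ↥D) : (Cfsg.IsPIrreducible p H ↔ Cfsg.IsPIrreducible p (H ⧸ D)) ∧ (Cfsg.IsStronglyPIrreducible p H ↔ Cfsg.IsStronglyPIrreducible p (H ⧸ D)) := by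
  have hs := QuotientGroup.mk'_surjective D
  have hker : (QuotientGroup.mk' D).ker = D := QuotientGroup.ker_mk' D
  have hDO : D ≤ pCore p H := le_pCore inferInstance hD
  have hcomap : (pCore p (H ⧸ D)).comap (QuotientGroup.mk' D) = pCore p H := by
    refine le_antisymm (le_pCore ((pCore_normal p _).comap _)
      ((isPGroup_pCore p).comap_of_ker_isPGroup _ (hker.symm ▸ hD))) ?_
    rw [← map_le_iff_le_comap]
    exact le_pCore ((pCore_normal p H).map _ hs) ((isPGroup_pCore p).map _)
  have hcl : ∀ N : Subgroup H, N.Normal →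
      (IsPClosed p ↥N ↔ IsPClosed p ↥(N.map (QuotientGroup.mk' D))) := by
    intro N hN
    rw [isPClosed_normal_iff hN, isPClosed_normal_iff (hN.map _ hs)]
    constructor
    · intro h P hPN hP x hx
      obtain ⟨n, hn, rfl⟩ := hPN hx
      exact hcomap.ge (h (P.comap (QuotientGroup.mk' D) ⊓ N) inf_le_right
        ((hP.comap_of_ker_isPGroup _ (hker.symm ▸ hD)).to_le inf_le_left) ⟨hx, hn⟩)
    · intro h P hPN hP
      exact (map_le_iff_le_comap.1 (h _ (Subgroup.map_mono hPN) (hP.map _))).trans hcomap.le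
  have hcl0 : IsPClosed p H ↔ IsPClosed p (H ⧸ D) := by
    rw [← isPClosed_top_iff, hcl ⊤ inferInstance, Subgroup.map_top_of_surjective _ hs,
      isPClosed_top_iff]
  have hres : pResidual p (H ⧸ D) = (pResidual p H).map (QuotientGroup.mk' D) := by
    refine le_antisymm (pResidual_le_iff.2 ?_) ?_
    · intro y hy
      obtain ⟨x, rfl⟩ := hs y
      obtain ⟨k, hk⟩ := exists_coprime_pow_mem (p := p) x
      refine mem_of_pow_mem hy (k := k) ⟨_, mem_pResidual hk, by rw [map_pow]⟩
    · rw [map_le_iff_le_comap, pResidual_le_iff]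
      exact fun x hx => mem_pResidual (hx.coprime_dvd_left (orderOf_map_dvd _ x))
  have hle : ∀ N : Subgroup H, N.Normal →
      (pResidual p H ≤ N ↔ pResidual p (H ⧸ D) ≤ N.map (QuotientGroup.mk' D)) := by
    intro N hN
    rw [hres]
    refine ⟨fun h => Subgroup.map_mono h, fun h => ?_⟩
    refine pResidual_le_of_le_sup (le_normalizer_of_normal (K := D)) hD ?_
    refine (le_comap_map _ _).trans ((comap_mono h).trans ?_)
    rw [comap_map_eq, hker, sup_comm]
  have hcm : ∀ N : Subgroup H, (⁅N, (⊤ : Subgroup H)⁆ ≤ pCore p H ↔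
      ⁅N.map (QuotientGroup.mk' D), (⊤ : Subgroup (H ⧸ D))⁆ ≤ pCore p (H ⧸ D)) := by
    intro N
    rw [← Subgroup.map_top_of_surjective _ hs, ← map_commutator, map_le_iff_le_comap, hcomap]
  refine ⟨and_congr (not_congr hcl0) ?_, and_congr (not_congr hcl0) ?_⟩
  · constructor
    · intro h Nb hNb hnc
      have e := map_comap_eq_self_of_surjective hs Nb
      rw [← e] at hnc ⊢
      exact (hle _ (hNb.comap _)).1 (h _ (hNb.comap _) ((hcl _ (hNb.comap _)).not.2 hnc))
    · exact fun h N hN hnc => (hle N hN).2 (h _ (hN.map _ hs) ((hcl N hN).not.1 hnc))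
  · constructor
    · intro h Nb hNb hnc
      have e := map_comap_eq_self_of_surjective hs Nb
      rw [← e] at hnc ⊢
      exact (hle _ (hNb.comap _)).1 (h _ (hNb.comap _) ((hcm _).not.2 hnc))
    · exact fun h N hN hnc => (hle N hN).2 (h _ (hN.map _ hs) ((hcm N).not.1 hnc))

end Cfsg.Agent.S2828
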