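import Cfsg.Statements.S2829
import Cfsg.Agent.Lib.LocalStructure.PClosed

set_option autoImplicit false
open Cfsg
open Subgroup Cfsg.Agent.LocalStructure
open scoped commutatorElement

namespace Cfsg.Agent.S2829

/-- Every strongly p-irreducible finite group is p-irreducible. -/
theorem result {H : Type*} [Group H] [Finite H] {p : ℕ} [Fact p.Prime] (hH : Cfsg.IsStronglyPIrreducible p H) : Cfsg.IsPIrreducible p H := by
  refine ⟨hH.1, fun N hN hNc => hH.2 N hN fun hle => hNc ?_⟩
  rw [isPClosed_normal_iff hN]
  intro P hPN hP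
  have hO := pCore_normal p H
  have hnorm : (P ⊔ pCore p H).Normal := by
    rw [← normalizer_eq_top_iff, eq_top_iff, le_normalizer_iff]
    intro x _ y hy
    obtain ⟨a, ha, o, ho, rfl⟩ :=
      exists_mul_of_mem_sup (le_normalizer_of_normal (H := pCore p H)) hy
    have e : x * (a * o) * x⁻¹ = (x * a * x⁻¹ * a⁻¹) * a * (x * o * x⁻¹) := by group
    rw [e]
    refine mul_mem (mul_mem (le_sup_right (a := P) ?_) (le_sup_left (b := pCore p H) ha))
      (le_sup_right (a := P) (hO.conj_mem o ho x))
    have h1 := (pCore p H).inv_mem (hle (commutator_mem_commutator (hPN ha) (mem_top x)))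
    rwa [commutatorElement_inv] at h1
  exact le_sup_left.trans
    (le_pCore hnorm (isPGroup_sup hP (isPGroup_pCore p) le_normalizer_of_normal))

end Cfsg.Agent.S2829
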