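import Cfsg.Statements.S2830
import Cfsg.Agent.Lib.LocalStructure.PClosed

set_option autoImplicit false
open Cfsg
open Subgroup Cfsg.Agent.LocalStructure
open scoped commutatorElement

namespace Cfsg.Agent.S2830

/-- Let H act by conjugation on the elementary abelian p-subgroup V of a finite group G (H ≤ N(V)), with H p-irreducible and O^p(H) not centralizing V. Then C_H(V) is p-closed and C_T(V) ≤ O_p(H) for every p-subgroup T of H. If in addition O_p(H) centralizes V, then C_T(V) = T ∩ O_p(H) for every p-subgroup T of H, and V is p-reduced for H: O_p(H/C_H(V)) = 1. -/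
theorem result {G : Type*} [Group G] [Finite G] {p : ℕ} [Fact p.Prime] (V H : Subgroup G) (hV : Cfsg.IsElementaryAbelian p V) (hHV : H ≤ Subgroup.normalizer (V : Set G)) (hH : Cfsg.IsPIrreducible p ↥H) (hnc : ¬ (Cfsg.pResidual p ↥H).map H.subtype ≤ Subgroup.centralizer (V : Set G)) [hn : ((Subgroup.centralizer (V : Set G)).subgroupOf H).Normal] : Cfsg.IsPClosed p ↥(H ⊓ Subgroup.centralizer (V : Set G)) ∧ (∀ T : Subgroup G, T ≤ H → IsPGroup p ↥T → T ⊓ Subgroup.centralizer (V : Set G) ≤ Cfsg.pCoreOf p H) ∧ (Cfsg.pCoreOf p H ≤ Subgroup.centralizer (V : Set G) → (∀ T : Subgroup G, T ≤ H → IsPGroup p ↥T → T ⊓ Subgroup.centralizer (V : Set G) = T ⊓ Cfsg.pCoreOf p H) ∧ Cfsg.pCore p (↥H ⧸ (Subgroup.centralizer (V : Set G)).subgroupOf H) = ⊥) := by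
  set C := Subgroup.centralizer (V : Set G) with hC
  have hncC : ¬ pResidual p ↥H ≤ C.subgroupOf H := fun h => hnc (map_le_iff_le_comap.2 h)
  have hcl : IsPClosed p ↥(C.subgroupOf H) := by_contra fun h => hncC (hH.2 _ hn h)
  have hsub : ∀ P : Subgroup G, P ≤ H ⊓ C → IsPGroup p P → P ≤ pCoreOf p H := by
    intro P hP hPp x hx
    exact Subgroup.mem_map.2 ⟨⟨x, (hP hx).1⟩, le_pCore_of_isPClosed hn hcl
      (fun y (hy : y ∈ P.subgroupOf H) => (hP hy).2)
      (hPp.of_equiv (subgroupOfEquivOfLe (hP.trans inf_le_left)).symm) hx, rfl⟩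
  refine ⟨?_, fun T hT hTp => hsub _ (inf_le_inf_right _ hT) (hTp.to_le inf_le_left),
    fun hO => ⟨fun T hT hTp => le_antisymm
      (le_inf inf_le_left (hsub _ (inf_le_inf_right _ hT) (hTp.to_le inf_le_left)))
      (inf_le_inf_left _ hO), ?_⟩⟩
  · rw [isPClosed_sub_iff]
    exact fun P hP hPp => (le_inf (hsub P hP hPp) hP).trans (pCoreOf_inf_le inf_le_left)
  · set q := QuotientGroup.mk' (C.subgroupOf H) with hq
    set D := (pCore p (↥H ⧸ C.subgroupOf H)).comap q with hD
    have hDn : D.Normal := (pCore_normal p _).comap q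
    have hpow : ∀ x ∈ D, ∃ k : ℕ, x ^ p ^ k ∈ C.subgroupOf H := by
      intro x hx
      obtain ⟨k, hk⟩ := isPGroup_pCore p ⟨q x, hx⟩
      refine ⟨k, ?_⟩
      rw [← QuotientGroup.eq_one_iff, QuotientGroup.mk_pow]
      simpa [Subtype.ext_iff, hq] using hk
    have hDcl : IsPClosed p ↥D := by
      refine by_contra fun h => hncC ?_
      exact (pResidual_le_iff).2 fun x hx =>
        (hpow x (hH.2 D hDn h (mem_pResidual hx))).elim fun _ hk => mem_of_pow_mem hx hk
    have hle : D ≤ C.subgroupOf H := by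
      obtain ⟨R, hR⟩ := exists_isSylowIn p D
      rw [← hR.resOf_sup]
      refine sup_le (resOf_le_of_pow_mem hpow) ?_
      exact (le_pCore_of_isPClosed hDn hDcl hR.1 hR.2.1).trans
        (fun x hx => hO (mem_map_of_mem H.subtype hx))
    have h2 := Subgroup.map_mono (f := q) hle
    rw [hD, map_comap_eq_self_of_surjective (QuotientGroup.mk'_surjective _), hq,
      QuotientGroup.map_mk'_self] at h2
    exact le_bot_iff.1 h2

end Cfsg.Agent.S2830
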