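import Cfsg.Statements.S2831
import Cfsg.Agent.Lib.LocalStructure.PClosed

set_option autoImplicit false
open Cfsg
open Subgroup Cfsg.Agent.LocalStructure
open scoped commutatorElement

namespace Cfsg.Agent.S2831

/-- Let H be a finite group with Sylow p-subgroup T such that H is T-minimal (H is generated by the conjugates of T and T lies in exactly one maximal subgroup of H). Then H is p-irreducible: H is not p-closed and O^p(H) lies in every normal subgroup of H that is not p-closed. -/
theorem result {H : Type*} [Group H] [Finite H] {p : ℕ} [Fact p.Prime] (T : Sylow p H) (hmin : Cfsg.IsMinimalOver (T : Subgroup H)) : Cfsg.IsPIrreducible p H := by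
  obtain ⟨hgen, M, ⟨hM, hTM⟩, huniq⟩ := hmin
  have hover : ∀ X : Subgroup H, (T : Subgroup H) ≤ X → X ≠ ⊤ → X ≤ M := by
    intro X hTX hX
    obtain h | ⟨C, hC, hXC⟩ := eq_top_or_exists_le_coatom X
    · exact absurd h hX
    · exact huniq C ⟨hC, hTX.trans hXC⟩ ▸ hXC
  have hnc : ¬ IsPClosed p H := fun h => by
    have := h T
    rw [normalClosure_eq_self] at hgen
    exact hM.1 (top_unique (hgen ▸ hTM))
  refine ⟨hnc, fun N hN hNc => ?_⟩
  have hR : IsSylowIn p ((T : Subgroup H) ⊓ N) N :=
    (isSylowIn_of_sylow T le_top).inf_normal le_top le_normalizer_of_normal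
  set R := (T : Subgroup H) ⊓ N with hRdef
  have hTR : (T : Subgroup H) ≤ normalizer (R : Set H) := by
    rw [hRdef]
    exact le_normalizer_inf (Subgroup.le_normalizer) le_normalizer_of_normal
  have hfr : ∀ x : H, x ∈ N ⊔ normalizer (R : Set H) := fun x => by
    obtain ⟨n, hn, hx⟩ :=
      hR.frattini (L := ⊤) (le_normalizer_of_normal (H := N)) (mem_top x)
    have := mul_mem (inv_mem (le_sup_left (b := normalizer (R : Set H)) hn))
      (le_sup_right (a := N) hx)
    simpa using this
  have htop : N ⊔ (T : Subgroup H) = ⊤ := by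
    by_contra h
    have h1 := hover _ le_sup_right h
    have hNR : normalizer (R : Set H) ≠ ⊤ := fun e => hNc
      ((isPClosed_sub_iff_sylow hR).2 (e ▸ le_top))
    exact hM.1 (top_unique fun x _ =>
      sup_le (le_sup_left.trans h1) (hover _ hTR hNR) (hfr x))
  refine pResidual_le_of_le_sup le_normalizer_of_normal T.2 ?_
  rw [sup_comm, htop]
  exact le_top

end Cfsg.Agent.S2831
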