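import Cfsg.Statements.S2832
import Cfsg.Agent.Lib.LocalStructure.PClosed

set_option autoImplicit false
open Cfsg
open Subgroup Cfsg.Agent.LocalStructure
open scoped commutatorElement

namespace Cfsg.Agent.S2832

/-- Let H be a finite group with Sylow p-subgroup T such that H is T-minimal (generated by the conjugates of T, with T in exactly one maximal subgroup), and let N be a normal subgroup of H. Then either H/N is a p-group or H/N is minimal over the image of T in the same sense. -/
theorem result {H : Type*} [Group H] [Finite H] {p : ℕ} [Fact p.Prime] (T : Sylow p H) (hmin : Cfsg.IsMinimalOver (T : Subgroup H)) (N : Subgroup H) [N.Normal] : IsPGroup p (H ⧸ N) ∨ Cfsg.IsMinimalOver ((T : Subgroup H).map (QuotientGroup.mk' N)) := by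
  obtain ⟨hgen, M, ⟨hM, hTM⟩, huniq⟩ := hmin
  have hs := QuotientGroup.mk'_surjective N
  by_cases htop : (T : Subgroup H).map (QuotientGroup.mk' N) = ⊤
  · left
    have h1 := T.2.map (QuotientGroup.mk' N)
    rw [htop] at h1
    exact h1.of_equiv Subgroup.topEquiv
  · right
    refine ⟨?_, ?_⟩
    · rw [coe_map, ← map_normalClosure _ _ hs, hgen]
      exact Subgroup.map_top_of_surjective _ hs
    · obtain h | ⟨C, hC, hXC⟩ := eq_top_or_exists_le_coatom
        ((T : Subgroup H).map (QuotientGroup.mk' N))
      · exact absurd h htop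
      · refine ⟨C, ⟨hC, hXC⟩, fun D ⟨hD, hTD⟩ => ?_⟩
        have key : ∀ E : Subgroup (H ⧸ N), IsCoatom E →
            (T : Subgroup H).map (QuotientGroup.mk' N) ≤ E → E.comap (QuotientGroup.mk' N) = M :=
          fun E hE hTE => huniq _ ⟨isCoatom_comap_of_surjective hs hE, map_le_iff_le_comap.1 hTE⟩
        exact comap_injective hs ((key D hD hTD).trans (key C hC hXC).symm)

end Cfsg.Agent.S2832
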