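import Cfsg.Statements.S2833
import Cfsg.Agent.Lib.LocalStructure.Basic

set_option autoImplicit false
open Cfsg
open Subgroup Cfsg.Agent.LocalStructure
open scoped commutatorElement

namespace Cfsg.Agent.S2833

/-- Let V be a subgroup of a finite group G normalized by the subgroup L, let X ≤ L and g ∈ L with [V, X, X] = 1 and L generated by X and gXg⁻¹. Put W = [V, L]. Then W = [V, X]·[V, gXg⁻¹], C_W(X) = [V, X], and C_W(L) = [V, X] ∩ [V, gXg⁻¹]. -/
theorem result {G : Type*} [Group G] [Finite G] (V L : Subgroup G) (hLV : L ≤ Subgroup.normalizer (V : Set G)) (X : Subgroup G) (hX : X ≤ L) (g : G) (hg : g ∈ L) (hq : ⁅⁅V, X⁆, X⁆ = ⊥) (hgen : X ⊔ X.map (MulAut.conj g).toMonoidHom = L) (W : Subgroup G) (hW : W = ⁅V, L⁆) : ⁅V, X⁆ ⊔ ⁅V, X.map (MulAut.conj g).toMonoidHom⁆ = W ∧ W ⊓ Subgroup.centralizer (X : Set G) = ⁅V, X⁆ ∧ W ⊓ Subgroup.centralizer (L : Set G) = ⁅V, X⁆ ⊓ ⁅V, X.map (MulAut.conj g).toMonoidHom⁆ := by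
  set X' := X.map (MulAut.conj g).toMonoidHom with hX'
  set A := ⁅V, X⁆ with hA
  set B := ⁅V, X'⁆ with hB
  have hX'L : X' ≤ L := map_conj_le hX hg
  have hAV : A ≤ V := le_normalizer_iff_commutator_le_left.1 (hX.trans hLV)
  have hBV : B ≤ V := le_normalizer_iff_commutator_le_left.1 (hX'L.trans hLV)
  have hBA : B = A.map (MulAut.conj g).toMonoidHom := by
    rw [hA, hB, map_commutator, map_conj_eq_self (hLV hg)]
  have hAX : A ≤ Subgroup.centralizer (X : Set G) := commutator_eq_bot_iff_le_centralizer.1 hq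
  have hBX : B ≤ Subgroup.centralizer (X' : Set G) := by
    rw [← commutator_eq_bot_iff_le_centralizer, hBA, hX', ← map_commutator, hq, Subgroup.map_bot]
  have hVA : V ≤ normalizer (A : Set G) := normalizer_commutator_ge_left V X
  have hXA : X ≤ normalizer (A : Set G) :=
    (Subgroup.le_centralizer_iff.1 hAX).trans (LocalStructure.centralizer_le_normalizer A)
  have hX'B : X' ≤ normalizer (B : Set G) :=
    (Subgroup.le_centralizer_iff.1 hBX).trans (LocalStructure.centralizer_le_normalizer B)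
  have conj_mem : ∀ (P : Subgroup G) (v x : G), ⁅v, x⁆ ∈ P → v ∈ P → x * v * x⁻¹ ∈ P := by
    intro P v x h1 h2
    have e : x * v * x⁻¹ = ⁅v, x⁆⁻¹ * v := by rw [commutatorElement_def]; group
    exact e ▸ mul_mem (inv_mem h1) h2
  have hXAB : X ≤ normalizer ((A ⊔ B : Subgroup G) : Set G) := by
    intro x hx
    apply mem_normalizer_of_map_conj_le
    rw [Subgroup.map_sup, map_conj_eq_self (hXA hx)]
    refine sup_le le_sup_left ?_
    rintro _ ⟨b, hb, rfl⟩
    exact conj_mem _ b x (le_sup_left (b := B) (commutator_mem_commutator (hBV hb) hx))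
      (le_sup_right (a := A) hb)
  have hX'AB : X' ≤ normalizer ((A ⊔ B : Subgroup G) : Set G) := by
    intro x hx
    apply mem_normalizer_of_map_conj_le
    rw [Subgroup.map_sup, map_conj_eq_self (hX'B hx)]
    refine sup_le ?_ le_sup_right
    rintro _ ⟨b, hb, rfl⟩
    exact conj_mem _ b x (le_sup_right (a := A) (commutator_mem_commutator (hAV hb) hx))
      (le_sup_left (b := B) hb)
  have hWAB : W ≤ A ⊔ B := by
    rw [hW, Subgroup.commutator_le]
    intro v hv l hl
    rw [← hgen] at hl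
    let S : Subgroup G :=
      { carrier := {l | l ∈ normalizer (V : Set G) ∧ l ∈ normalizer ((A ⊔ B : Subgroup G) : Set G) ∧
          ∀ v ∈ V, ⁅v, l⁆ ∈ A ⊔ B}
        one_mem' := ⟨one_mem _, one_mem _, fun v _ => by simp⟩
        mul_mem' := by
          rintro a b ⟨ha1, ha2, ha3⟩ ⟨hb1, hb2, hb3⟩
          refine ⟨mul_mem ha1 hb1, mul_mem ha2 hb2, fun v hv => ?_⟩
          have e : ⁅v, a * b⁆ = ⁅v, a⁆ * (a * ⁅v, b⁆ * a⁻¹) := by
            simp only [commutatorElement_def]; group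
          exact e ▸ mul_mem (ha3 v hv) ((mem_normalizer_iff.1 ha2 _).1 (hb3 v hv))
        inv_mem' := by
          rintro a ⟨ha1, ha2, ha3⟩
          refine ⟨inv_mem ha1, inv_mem ha2, fun v hv => ?_⟩
          have e : ⁅v, a⁻¹⁆ = a⁻¹ * ⁅v, a⁆⁻¹ * a⁻¹⁻¹ := by
            simp only [commutatorElement_def]; group
          exact e ▸ (mem_normalizer_iff.1 (inv_mem ha2) _).1 (inv_mem (ha3 v hv)) }
    have hS : X ⊔ X' ≤ S := sup_le
      (fun x hx => ⟨hLV (hX hx), hXAB hx,
        fun v hv => le_sup_left (b := B) (commutator_mem_commutator hv hx)⟩)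
      (fun x hx => ⟨hLV (hX'L hx), hX'AB hx,
        fun v hv => le_sup_right (a := A) (commutator_mem_commutator hv hx)⟩)
    exact (hS hl).2.2 v hv
  have hAW : A ≤ W := hW ▸ commutator_mono le_rfl hX
  have hBW : B ≤ W := hW ▸ commutator_mono le_rfl hX'L
  have hWeq : A ⊔ B = W := le_antisymm (sup_le hAW hBW) hWAB
  have hcen : A ⊓ B ≤ Subgroup.centralizer (L : Set G) := by
    rw [Subgroup.le_centralizer_iff, ← hgen]
    exact sup_le (Subgroup.le_centralizer_iff.1 (inf_le_left.trans hAX))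
      (Subgroup.le_centralizer_iff.1 (inf_le_right.trans hBX))
  have hCX : W ⊓ Subgroup.centralizer (X : Set G) = A := by
    refine le_antisymm ?_ (le_inf hAW hAX)
    rintro w ⟨hw, hwX⟩
    obtain ⟨a, ha, b, hb, rfl⟩ := exists_mul_of_mem_sup' (hBV.trans hVA) (sup_comm A B ▸ hWAB hw)
    refine mul_mem ha ?_
    have hbX : b ∈ Subgroup.centralizer (X : Set G) := by
      have := mul_mem (inv_mem (hAX ha)) hwX
      simpa using this
    have hbL : b ∈ Subgroup.centralizer (L : Set G) := by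
      have h1 : Subgroup.zpowers b ≤ Subgroup.centralizer (L : Set G) := by
        rw [Subgroup.le_centralizer_iff, ← hgen]
        exact sup_le (Subgroup.le_centralizer_iff.1 (Subgroup.zpowers_le.2 hbX))
          (Subgroup.le_centralizer_iff.1 (Subgroup.zpowers_le.2 (hBX hb)))
      exact h1 (Subgroup.mem_zpowers b)
    rw [hBA, mem_map_conj] at hb
    have e := Subgroup.mem_centralizer_iff.1 hbL g hg
    rwa [show g⁻¹ * b * g = b by rw [mul_assoc, ← e]; group] at hb
  refine ⟨hWeq, hCX, le_antisymm ?_ (le_inf (inf_le_left.trans hAW) hcen)⟩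
  intro w hw
  have hwA : w ∈ A := hCX.le ⟨hw.1, Subgroup.centralizer_le hX hw.2⟩
  refine ⟨hwA, ?_⟩
  rw [hBA]
  refine mem_map_conj.2 ?_
  have e := Subgroup.mem_centralizer_iff.1 hw.2 g hg
  rwa [show g⁻¹ * w * g = w by rw [mul_assoc, ← e]; group]

end Cfsg.Agent.S2833
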