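import Cfsg.Statements.S2835
import Cfsg.Agent.Lib.LocalStructure.PClosed

set_option autoImplicit false
open Cfsg
open Subgroup Cfsg.Agent.LocalStructure
open scoped commutatorElement

namespace Cfsg.Agent.S2835

/-- Let L be a finite group, L₀ a maximal subgroup, T a Sylow p-subgroup of L₀ and Y ≤ T, and suppose L is Y-minimal (generated by the conjugates of Y, with Y in exactly one maximal subgroup, necessarily L₀). Then N_L(T) ≤ L₀, O_p(L) ≤ L₀ and T is a Sylow p-subgroup of L; N_L(L₀) = L₀; L = ⟨Y, gYg⁻¹⟩ for each g ∈ L outside L₀; and if Y is abelian then Y ∩ gYg⁻¹ = C_Y(L) for each such g. -/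
theorem result {L : Type*} [Group L] [Finite L] {p : ℕ} [Fact p.Prime] (L₀ : Subgroup L) (hL₀ : IsCoatom L₀) (T : Sylow p ↥L₀) (Y : Subgroup L) (hYT : Y ≤ (T : Subgroup ↥L₀).map L₀.subtype) (hmin : Cfsg.IsMinimalOver Y) : Subgroup.normalizer (((T : Subgroup ↥L₀).map L₀.subtype : Subgroup L) : Set L) ≤ L₀ ∧ Cfsg.pCore p L ≤ L₀ ∧ (∃ P : Sylow p L, (P : Subgroup L) = (T : Subgroup ↥L₀).map L₀.subtype) ∧ Subgroup.normalizer (L₀ : Set L) = L₀ ∧ (∀ g : L, g ∉ L₀ → Y ⊔ Y.map (MulAut.conj g).toMonoidHom = ⊤) ∧ (IsMulCommutative ↥Y → ∀ g : L, g ∉ L₀ → Y ⊓ Y.map (MulAut.conj g).toMonoidHom = Y ⊓ Subgroup.center L) := by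
  obtain ⟨hgen, M, ⟨hM, hYM⟩, huniq⟩ := hmin
  set T' := (T : Subgroup ↥L₀).map L₀.subtype with hT'
  have hTL : T' ≤ L₀ := map_subtype_le _
  have hTp : IsPGroup p T' := T.2.map _
  have hYL : Y ≤ L₀ := hYT.trans hTL
  have hover : ∀ X : Subgroup L, Y ≤ X → X ≠ ⊤ → X ≤ L₀ := by
    intro X hYX hX
    obtain h | ⟨C, hC, hXC⟩ := eq_top_or_exists_le_coatom X
    · exact absurd h hX
    · rw [huniq L₀ ⟨hL₀, hYL⟩]
      exact huniq C ⟨hC, hYX.trans hXC⟩ ▸ hXC
  have hnot : ∀ N : Subgroup L, N.Normal → Y ≤ N → N = ⊤ := fun N hN hYN =>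
    top_unique (hgen ▸ normalClosure_le_normal hYN)
  have hT1 : Subgroup.normalizer (T' : Set L) ≤ L₀ :=
    hover _ (hYT.trans T'.le_normalizer) fun e =>
      hL₀.1 (top_unique ((hnot T' (normalizer_eq_top_iff.1 e) hYT).ge.trans hTL))
  have hNL : Subgroup.normalizer (L₀ : Set L) = L₀ := by
    refine le_antisymm ?_ L₀.le_normalizer
    exact hover _ (hYL.trans L₀.le_normalizer) fun e =>
      hL₀.1 (hnot L₀ (normalizer_eq_top_iff.1 e) hYL)
  obtain ⟨P, hP⟩ := hTp.exists_le_sylow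
  have hT' : IsSylowIn p T' L₀ := isSylowIn_map T
  have hPT : (P : Subgroup L) = T' := by
    by_contra hne
    obtain ⟨x, hxP, hxN, hxT⟩ := exists_mem_normalizer_of_lt P.2 (lt_of_le_of_ne hP (Ne.symm hne))
    have h2 := hT'.2.2 _ le_sup_left (sup_le hTL ((zpowers_le).2 (hT1 hxN)))
      (P.2.to_le (sup_le hP ((zpowers_le).2 hxP)))
    exact hxT (h2 ▸ le_sup_right (a := T') (mem_zpowers x))
  refine ⟨hT1, ?_, ⟨P, hPT⟩, hNL, fun g hg => ?_, fun hab g hg => ?_⟩
  · exact (hPT ▸ (pCoreOf_top (G := L) (p := p)) ▸ pCoreOf_le_sylow P le_top).trans hTL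
  · by_contra h
    have h1 := le_sup_right.trans (hover _ le_sup_left h)
    have h2 : L₀.map (MulAut.conj g⁻¹).toMonoidHom ≠ ⊤ := fun e => hL₀.1 <| by
      refine Subgroup.eq_top_of_card_eq _ ?_
      rw [← card_map_conj L₀ g⁻¹, e, Subgroup.card_top]
    have h3 : L₀.map (MulAut.conj g⁻¹).toMonoidHom ≤ L₀ := hover _ (fun y hy => by
      rw [mem_map_conj, inv_inv]
      exact h1 (conj_mem_map_conj hy)) h2
    exact hg (hNL ▸ inv_inv g ▸ inv_mem (mem_normalizer_of_map_conj_le h3))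
  · have hj : Y ⊔ Y.map (MulAut.conj g).toMonoidHom = ⊤ := by
      by_contra h
      have h1 := le_sup_right.trans (hover _ le_sup_left h)
      have h2 : L₀.map (MulAut.conj g⁻¹).toMonoidHom ≠ ⊤ := fun e => hL₀.1 <| by
        refine Subgroup.eq_top_of_card_eq _ ?_
        rw [← card_map_conj L₀ g⁻¹, e, Subgroup.card_top]
      have h3 : L₀.map (MulAut.conj g⁻¹).toMonoidHom ≤ L₀ := hover _ (fun y hy => by
        rw [mem_map_conj, inv_inv]
        exact h1 (conj_mem_map_conj hy)) h2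
      exact hg (hNL ▸ inv_inv g ▸ inv_mem (mem_normalizer_of_map_conj_le h3))
    apply le_antisymm
    · rintro x ⟨hx1, hx2⟩
      refine ⟨hx1, ?_⟩
      rw [SetLike.mem_coe, ← centralizer_univ, ← coe_top, ← hj]
      have hc : Y ⊔ Y.map (MulAut.conj g).toMonoidHom ≤ Subgroup.centralizer ({x} : Set L) := by
        refine sup_le (fun y hy => mem_centralizer_singleton_iff.2 ?_) ?_
        · exact congrArg Subtype.val (hab.is_comm.comm ⟨y, hy⟩ ⟨x, hx1⟩)
        · rintro _ ⟨y, hy, rfl⟩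
          obtain ⟨z, hz, rfl⟩ := hx2
          refine mem_centralizer_singleton_iff.2 ?_
          rw [← map_mul, ← map_mul]
          exact congrArg _ (congrArg Subtype.val (hab.is_comm.comm ⟨y, hy⟩ ⟨z, hz⟩))
      exact mem_centralizer_iff.2 fun y hy => mem_centralizer_singleton_iff.1 (hc hy)
    · rintro x ⟨hx1, hx2⟩
      refine ⟨hx1, x, hx1, ?_⟩
      have := mem_center_iff.1 hx2 g
      show g * x * g⁻¹ = x
      rw [this]; group

end Cfsg.Agent.S2835
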