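import Cfsg.Statements.S2837
import Cfsg.Agent.Lib.LocalStructure.Minimal
import Cfsg.Agent.Lib.PGroup.ElementaryAbelian
import Cfsg.Agent.Lib.PGroup.Frattini

set_option autoImplicit false
open Cfsg
open Subgroup Cfsg.Agent.LocalStructure
open scoped commutatorElement

namespace Cfsg.Agent.S2837

/-- Let L be a finite group of characteristic p, L₀ a maximal subgroup, Y an elementary abelian p-subgroup of L₀ with L Y-minimal and O_p(L) ≤ N_L(Y). Put A = the normal closure of O_p(L) ∩ Y in L. Then for every g ∈ L outside L₀: Φ(A) = A' = [A ∩ Y, A] = [A ∩ Y, A ∩ gYg⁻¹] ≤ C_Y(L), and Y ∩ gYg⁻¹ = (A ∩ Y) ∩ (A ∩ gYg⁻¹) = C_Y(L) = C_A(L). -/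
theorem result {L : Type*} [Group L] [Finite L] {p : ℕ} [Fact p.Prime] (hchar : Subgroup.centralizer (Cfsg.pCore p L : Set L) ≤ Cfsg.pCore p L) (L₀ : Subgroup L) (hL₀ : IsCoatom L₀) (Y : Subgroup L) (hYL₀ : Y ≤ L₀) (hYel : Cfsg.IsElementaryAbelian p Y) (hmin : Cfsg.IsMinimalOver Y) (hOY : Cfsg.pCore p L ≤ Subgroup.normalizer (Y : Set L)) (A : Subgroup L) (hA : A = Subgroup.normalClosure (((Cfsg.pCore p L ⊓ Y : Subgroup L)) : Set L)) (g : L) (hg : g ∉ L₀) : (frattini ↥A).map A.subtype = ⁅A, A⁆ ∧ ⁅A, A⁆ = ⁅A ⊓ Y, A⁆ ∧ ⁅A ⊓ Y, A⁆ = ⁅A ⊓ Y, A ⊓ Y.map (MulAut.conj g).toMonoidHom⁆ ∧ ⁅A ⊓ Y, A⁆ ≤ Y ⊓ Subgroup.center L ∧ Y ⊓ Y.map (MulAut.conj g).toMonoidHom = Y ⊓ Subgroup.center L ∧ (A ⊓ Y) ⊓ (A ⊓ Y.map (MulAut.conj g).toMonoidHom) = Y ⊓ Subgroup.center L ∧ A ⊓ Subgroup.center L = Y ⊓ Subgroup.center L := by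
  set Y' := Y.map (MulAut.conj g).toMonoidHom with hY'
  set O := Cfsg.pCore p L with hO
  have hOn : O.Normal := LocalStructure.pCore_normal p L
  have hOt : (⊤ : Subgroup L) ≤ normalizer (O : Set L) := (normalizer_eq_top_iff.2 hOn).ge
  have hgO : O.map (MulAut.conj g).toMonoidHom = O := map_conj_eq_self (hOt (Subgroup.mem_top g))
  have hgen : Y ⊔ Y' = ⊤ := minOver_sup_conj hmin hL₀ hYL₀ hg
  have hcen : ∀ x : L, (∀ y ∈ Y, y * x = x * y) → (∀ y ∈ Y', y * x = x * y) →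
      x ∈ Subgroup.center L := by
    intro x h1 h2
    have h : Y ⊔ Y' ≤ Subgroup.centralizer ({x} : Set L) := sup_le
      (fun y hy => Subgroup.mem_centralizer_singleton_iff.2 (h1 y hy))
      (fun y hy => Subgroup.mem_centralizer_singleton_iff.2 (h2 y hy))
    rw [hgen] at h
    exact Subgroup.mem_center_iff.2 fun y =>
      Subgroup.mem_centralizer_singleton_iff.1 (h (Subgroup.mem_top y))
  have habY : ∀ a ∈ Y, ∀ b ∈ Y, a * b = b * a := fun a ha b hb =>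
    Cfsg.Agent.PGroup.mul_comm_of_elementaryAbelian hYel ha hb
  have hY'el : Cfsg.IsElementaryAbelian p Y' := Cfsg.Agent.PGroup.isElementaryAbelian_map hYel _
  have habY' : ∀ a ∈ Y', ∀ b ∈ Y', a * b = b * a := fun a ha b hb =>
    Cfsg.Agent.PGroup.mul_comm_of_elementaryAbelian hY'el ha hb
  have hOY' : O ≤ normalizer (Y' : Set L) := by
    rw [← hgO]
    exact (Subgroup.map_mono hOY).trans (le_normalizer_map _)
  have hI : Y ⊓ Y' = Y ⊓ Subgroup.center L := by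
    refine le_antisymm (fun x hx => ⟨hx.1, hcen x (fun y hy => habY y hy x hx.1)
      fun y hy => habY' y hy x hx.2⟩) (fun x hx => ⟨hx.1, ?_⟩)
    refine mem_map_conj.2 ?_
    have hc := Subgroup.mem_center_iff.1 hx.2 g
    rw [show g⁻¹ * x * g = x by rw [mul_assoc, ← hc]; group]
    exact hx.1
  set B := O ⊓ Y with hB
  set B' := O ⊓ Y' with hB'
  have hgB : B.map (MulAut.conj g).toMonoidHom = B' := by
    rw [hB, Subgroup.map_inf _ _ _ (MulAut.conj g).injective, hgO]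
  have hcomm : ∀ Z Z' : Subgroup L, O ≤ normalizer (Z : Set L) →
      Z ≤ normalizer (((O ⊓ Z) ⊔ (O ⊓ Z') : Subgroup L) : Set L) := by
    intro Z Z' hZ y hy
    apply mem_normalizer_of_map_conj_le
    rw [Subgroup.map_sup,
      map_conj_eq_self (le_normalizer_inf (le_top.trans hOt) Subgroup.le_normalizer hy)]
    refine sup_le le_sup_left ?_
    rintro _ ⟨b, hb, rfl⟩
    replace hb : b ∈ O ⊓ Z' := hb
    have hbO : b ∈ O := hb.1
    have h1 : y * b * y⁻¹ * b⁻¹ ∈ O ⊓ Z := by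
      refine Subgroup.mem_inf.2 ⟨mul_mem (hOn.conj_mem b hbO y) (inv_mem hbO), ?_⟩
      rw [show y * b * y⁻¹ * b⁻¹ = y * (b * y⁻¹ * b⁻¹) by group]
      exact mul_mem hy ((mem_normalizer_iff.1 (hZ hbO) _).1 (inv_mem hy))
    show y * b * y⁻¹ ∈ _
    rw [show y * b * y⁻¹ = (y * b * y⁻¹ * b⁻¹) * b by group]
    exact mul_mem (le_sup_left (b := O ⊓ Z') h1) (le_sup_right (a := O ⊓ Z) hb)
  have hBB'n : (B ⊔ B').Normal := by
    refine normalizer_eq_top_iff.1 (top_le_iff.1 (hgen ▸ sup_le (hcomm Y Y' hOY) ?_))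
    have h := hcomm Y' Y hOY'
    rwa [sup_comm] at h
  have hAeq : A = B ⊔ B' := by
    rw [hA]
    refine le_antisymm (Subgroup.normalClosure_le_normal (le_sup_left : B ≤ B ⊔ B'))
      (sup_le Subgroup.subset_normalClosure ?_)
    rw [← hgB]
    rintro _ ⟨b, hb, rfl⟩
    exact Subgroup.normalClosure_normal.conj_mem b (Subgroup.subset_normalClosure hb) g
  have hAO : A ≤ O := hAeq.le.trans (sup_le inf_le_left inf_le_left)
  have hBA : B ≤ A := le_sup_left.trans hAeq.ge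
  have hB'A : B' ≤ A := le_sup_right.trans hAeq.ge
  have hAY : A ⊓ Y = B := le_antisymm (inf_le_inf_right _ hAO) (le_inf hBA inf_le_right)
  have hAY' : A ⊓ Y' = B' := le_antisymm (inf_le_inf_right _ hAO) (le_inf hB'A inf_le_right)
  have hZO : Subgroup.center L ≤ O := (Subgroup.center_le_centralizer _).trans hchar
  have hI2 : B ⊓ B' = Y ⊓ Subgroup.center L := by
    rw [← hI]
    refine le_antisymm (inf_le_inf inf_le_right inf_le_right) fun x hx => ?_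
    have hxO : x ∈ O := hZO (hI.le hx).2
    exact ⟨⟨hxO, hx.1⟩, hxO, hx.2⟩
  have hBB' : ⁅B, B'⁆ ≤ Y ⊓ Subgroup.center L := by
    rw [← hI]
    refine le_inf ((commutator_mono inf_le_right le_rfl).trans
      (le_normalizer_iff_commutator_le_left.1 (inf_le_left.trans hOY))) ?_
    exact (commutator_mono le_rfl inf_le_right).trans
      (le_normalizer_iff_commutator_le_right.1 (inf_le_left.trans hOY'))
  set C := ⁅B, B'⁆ with hC
  have hCz : C ≤ Subgroup.center L := hBB'.trans inf_le_right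
  have hcz : ∀ z ∈ C, ∀ u : L, u * z * u⁻¹ = z := fun z hz u => by
    rw [Subgroup.mem_center_iff.1 (hCz hz) u]; group
  have hB'B : B' ≤ normalizer (B : Set L) :=
    le_normalizer_inf (le_top.trans hOt) (inf_le_left.trans hOY)
  have hdec : ∀ a ∈ A, ∃ c₁ ∈ B, ∃ c₂ ∈ B', c₁ * c₂ = a := fun a ha =>
    exists_mul_of_mem_sup' hB'B (sup_comm B B' ▸ hAeq.le ha)
  have h1 : ∀ b ∈ B, ∀ a ∈ A, ⁅b, a⁆ ∈ C := by
    intro b hb a ha
    obtain ⟨c₁, hc₁, c₂, hc₂, rfl⟩ := hdec a ha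
    have e0 : ⁅b, c₁⁆ = 1 := commutatorElement_eq_one_iff_mul_comm.2 (habY b hb.2 c₁ hc₁.2)
    have e : ⁅b, c₁ * c₂⁆ = ⁅b, c₁⁆ * (c₁ * ⁅b, c₂⁆ * c₁⁻¹) := by
      simp only [commutatorElement_def]; group
    rw [e, e0, one_mul, hcz _ (commutator_mem_commutator hb hc₂)]
    exact commutator_mem_commutator hb hc₂
  have h2 : ∀ b ∈ B', ∀ a ∈ A, ⁅b, a⁆ ∈ C := by
    intro b hb a ha
    obtain ⟨c₁, hc₁, c₂, hc₂, rfl⟩ := hdec a ha
    have e0 : ⁅b, c₂⁆ = 1 := commutatorElement_eq_one_iff_mul_comm.2 (habY' b hb.2 c₂ hc₂.2)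
    have e : ⁅b, c₁ * c₂⁆ = ⁅c₁, b⁆⁻¹ * (c₁ * ⁅b, c₂⁆ * c₁⁻¹) := by
      simp only [commutatorElement_def]; group
    rw [e, e0, mul_one, mul_inv_cancel, mul_one]
    exact inv_mem (commutator_mem_commutator hc₁ hb)
  have hAA : ⁅A, A⁆ = C := by
    refine le_antisymm (Subgroup.commutator_le.2 fun x hx a ha => ?_) (commutator_mono hBA hB'A)
    obtain ⟨c₁, hc₁, c₂, hc₂, rfl⟩ := hdec x hx
    have e : ⁅c₁ * c₂, a⁆ = c₁ * ⁅c₂, a⁆ * c₁⁻¹ * ⁅c₁, a⁆ := by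
      simp only [commutatorElement_def]; group
    rw [e, hcz _ (h2 c₂ hc₂ a ha)]
    exact mul_mem (h2 c₂ hc₂ a ha) (h1 c₁ hc₁ a ha)
  have hBA2 : ⁅B, A⁆ = C :=
    le_antisymm (Subgroup.commutator_le.2 h1) (commutator_mono le_rfl hB'A)
  rw [hAY, hAY', hBA2, hAA]
  refine ⟨?_, rfl, rfl, hBB', hI, hI2, ?_⟩
  · have hAp : IsPGroup p A := (isPGroup_pCore p).to_le hAO
    rw [← hAA, ← Subgroup.map_subtype_commutator]
    refine le_antisymm (Subgroup.map_mono (Cfsg.Agent.PGroup.frattini_le (p := p) le_rfl fun x => ?_))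
      (Subgroup.map_mono (Cfsg.Agent.PGroup.commutator_le_frattini hAp))
    obtain ⟨c₁, hc₁, c₂, hc₂, e⟩ := hdec x x.2
    have ex : x = (⟨c₁, hBA hc₁⟩ : ↥A) * ⟨c₂, hB'A hc₂⟩ := Subtype.ext e.symm
    rw [← Abelianization.ker_of, MonoidHom.mem_ker, map_pow, ex, map_mul, mul_pow, ← map_pow,
      ← map_pow]
    have e1 : (⟨c₁, hBA hc₁⟩ : ↥A) ^ p = 1 := Subtype.ext (hYel.2 c₁ hc₁.2)
    have e2 : (⟨c₂, hB'A hc₂⟩ : ↥A) ^ p = 1 := Subtype.ext (hY'el.2 c₂ hc₂.2)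
    rw [e1, e2, map_one, one_mul]
  · refine le_antisymm (fun z hz => ?_) (le_inf ?_ inf_le_right)
    · obtain ⟨c₁, hc₁, c₂, hc₂, rfl⟩ := hdec z hz.1
      have hc2 : c₂ ∈ Subgroup.center L := by
        refine hcen _ (fun y hy => ?_) fun y hy => habY' y hy _ hc₂.2
        have e := Subgroup.mem_center_iff.1 hz.2 y
        refine mul_left_cancel (a := c₁) ?_
        calc c₁ * (y * c₂) = y * (c₁ * c₂) := by rw [← mul_assoc, habY c₁ hc₁.2 y hy, mul_assoc]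
          _ = c₁ * c₂ * y := e
          _ = c₁ * (c₂ * y) := mul_assoc _ _ _
      have hcY : c₂ ∈ Y := by
        have h := mem_map_conj.1 hc₂.2
        have hc := Subgroup.mem_center_iff.1 hc2 g
        rwa [show g⁻¹ * c₂ * g = c₂ by rw [mul_assoc, ← hc]; group] at h
      exact ⟨mul_mem hc₁.2 hcY, hz.2⟩
    · exact hI2.ge.trans (inf_le_left.trans hBA)

end Cfsg.Agent.S2837
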