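import Cfsg.Statements.S2838
import Cfsg.Agent.Lib.LocalStructure.WeaklyClosed

set_option autoImplicit false
open Cfsg
open Subgroup Cfsg.Agent.LocalStructure
open scoped commutatorElement

namespace Cfsg.Agent.S2838

/-- For a nontrivial p-subgroup Q of a finite group H the following are equivalent: Q is a weakly closed subgroup (it is the only H-conjugate of itself inside some Sylow p-subgroup containing it); Q = P for every conjugate P of Q with [Q, P] ≤ Q ∩ P; Q is normal in N_H(R) for every p-subgroup R of H containing Q. -/
theorem result {H : Type*} [Group H] [Finite H] {p : ℕ} [Fact p.Prime] (Q : Subgroup H) (hQp : IsPGroup p ↥Q) (hQ1 : Q ≠ ⊥) : (Cfsg.IsWeaklyClosedSubgroup p Q ↔ ∀ g : H, ⁅Q, ((Q : Subgroup H).map (MulAut.conj (g : H)).toMonoidHom)⁆ ≤ Q ⊓ ((Q : Subgroup H).map (MulAut.conj (g : H)).toMonoidHom) → ((Q : Subgroup H).map (MulAut.conj (g : H)).toMonoidHom) = Q) ∧ (Cfsg.IsWeaklyClosedSubgroup p Q ↔ ∀ R : Subgroup H, IsPGroup p ↥R → Q ≤ R → Subgroup.normalizer ((R : Subgroup H) : Set H) ≤ Subgroup.normalizer ((Q : Subgroup H) : Set H)) :=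 by
  have hmutual : ∀ A B : Subgroup H, ⁅A, B⁆ ≤ A ⊓ B → B ≤ normalizer (A : Set H) := fun A B h =>
    le_normalizer_iff_commutator_le_left.2 (h.trans inf_le_left)
  constructor
  · constructor
    · intro hwc g hg
      exact wc_map_conj_eq hwc (isPGroup_comm_sup hQp (isPGroup_map_conj hQp g) (hmutual _ _ hg))
        le_sup_left le_sup_right
    · intro h
      obtain ⟨T, hQT⟩ := hQp.exists_le_sylow
      have hnorm : ∀ g : H, ∀ R : Subgroup H, IsPGroup p R →
          Q.map (MulAut.conj g).toMonoidHom ≤ R →
          R ≤ normalizer (Q.map (MulAut.conj g).toMonoidHom : Set H) := by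
        intro g R hR hgR
        set P := Q.map (MulAut.conj g).toMonoidHom with hP
        by_contra hne
        obtain ⟨x, hxR, hxN, hxP⟩ := exists_mem_normalizer_of_lt hR
          (lt_of_le_of_ne (inf_le_left : R ⊓ normalizer (P : Set H) ≤ R)
            (fun e => hne (e ▸ inf_le_right)))
        have hle : P ≤ R ⊓ normalizer (P : Set H) := le_inf hgR P.le_normalizer
        have h1 : P.map (MulAut.conj x).toMonoidHom ≤ normalizer (P : Set H) :=
          ((Subgroup.map_mono hle).trans (map_conj_eq_self hxN).le).trans inf_le_right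
        have h2 : P.map (MulAut.conj x⁻¹).toMonoidHom ≤ normalizer (P : Set H) :=
          ((Subgroup.map_mono hle).trans (map_conj_eq_self (inv_mem hxN)).le).trans inf_le_right
        have e : Q.map (MulAut.conj (g⁻¹ * x * g)).toMonoidHom = Q := by
          refine h _ ?_
          have h3 := le_normalizer_iff_commutator_le_left.1 h1
          have h4 : ⁅P, P.map (MulAut.conj x).toMonoidHom⁆ ≤ P.map (MulAut.conj x).toMonoidHom := by
            have h5 := Subgroup.map_mono (f := (MulAut.conj x).toMonoidHom)
              (le_normalizer_iff_commutator_le_left.1 h2)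
            rw [map_commutator, ← map_conj_mul P x x⁻¹, mul_inv_cancel, map_conj_one,
              commutator_comm] at h5
            exact h5
          have h6 := Subgroup.map_mono (f := (MulAut.conj g⁻¹).toMonoidHom) (le_inf h3 h4)
          rw [map_commutator, Subgroup.map_inf _ _ _ (MulAut.conj g⁻¹).injective,
            hP, map_conj_inv_map_conj, ← map_conj_mul, ← map_conj_mul] at h6
          exact h6
        refine hxP ⟨hxR, mem_normalizer_of_map_conj ?_⟩
        have e2 := congrArg (Subgroup.map (MulAut.conj g).toMonoidHom) e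
        rw [← map_conj_mul] at e2
        rw [hP, ← map_conj_mul]
        convert e2 using 4
        group
      refine ⟨T, hQT, fun g hg => h g (le_inf ?_ ?_)⟩
      · refine le_normalizer_iff_commutator_le_left.1 (hg.trans ?_)
        simpa only [map_conj_one] using hnorm 1 T T.2 (by rwa [map_conj_one])
      · exact le_normalizer_iff_commutator_le_right.1 (hQT.trans (hnorm g T T.2 hg))
  · constructor
    · exact fun hwc R hR hQR => wc_normalizer_le hwc hR hQR
    · intro h
      obtain ⟨T, hQT⟩ := hQp.exists_le_sylow
      refine wc_of_sylow T hQT (h T T.2 hQT) fun g hg => ?_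
      have h2 := h ((T : Subgroup H).map (MulAut.conj g⁻¹).toMonoidHom) (isPGroup_map_conj T.2 _)
        ((map_conj_inv_map_conj Q g).ge.trans (Subgroup.map_mono hg))
      intro t ht
      have h3 := h2 ((Subgroup.le_normalizer (H := (T : Subgroup H).map (MulAut.conj g⁻¹).toMonoidHom))
        (conj_mem_map_conj (g := g⁻¹) ht))
      have h4 := le_normalizer_map _ (conj_mem_map_conj (g := g) h3)
      simpa [mul_assoc] using h4

end Cfsg.Agent.S2838
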