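import Cfsg.Statements.S2839
import Cfsg.Agent.Lib.LocalStructure.WeaklyClosed

set_option autoImplicit false
open Cfsg
open Subgroup Cfsg.Agent.LocalStructure
open scoped commutatorElement

namespace Cfsg.Agent.S2839

/-- Let Q be a nontrivial p-subgroup of the finite group H that is a weakly closed subgroup, K a subgroup containing Q and N a normal subgroup of H. Then Q is a weakly closed subgroup of K; every H-conjugate of Q contained in K is a K-conjugate of Q; N_K(Q) contains a Sylow p-subgroup of K; N = N_N(Q)·O^p(N); and QN/N is a weakly closed subgroup of H/N. -/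
theorem result {H : Type*} [Group H] [Finite H] {p : ℕ} [Fact p.Prime] (Q : Subgroup H) (hQp : IsPGroup p ↥Q) (hQ1 : Q ≠ ⊥) (hwc : Cfsg.IsWeaklyClosedSubgroup p Q) (K : Subgroup H) (hQK : Q ≤ K) (N' : Subgroup H) [N'.Normal] : Cfsg.IsWeaklyClosedSubgroup p (Q.subgroupOf K) ∧ (∀ g : H, ((Q : Subgroup H).map (MulAut.conj (g : H)).toMonoidHom) ≤ K → ∃ k ∈ K, ((Q : Subgroup H).map (MulAut.conj (g : H)).toMonoidHom) = ((Q : Subgroup H).map (MulAut.conj (k : H)).toMonoidHom)) ∧ Cfsg.IsParabolic p ((Subgroup.normalizer ((Q : Subgroup H) : Set H)).subgroupOf K) ∧ (N' ⊓ Subgroup.normalizer ((Q : Subgroup H) : Set H)) ⊔ (Cfsg.pResidual p ↥N').map N'.subtype = N' ∧ Cfsg.IsWeaklyClosedSubgroup p (Q.map (QuotientGroup.mk' N')) := by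
  refine ⟨wc_subgroupOf hwc hQK, fun g hg => wc_exists_conj hwc hQK hg, ?_, ?_, ?_⟩
  · obtain ⟨R, hQR, hR⟩ := exists_isSylowIn_le hQp hQK
    obtain ⟨P, hP⟩ := hR.exists_sylow
    exact ⟨P, hP ▸ fun x hx => wc_le_normalizer hwc hR.2.1 hQR hx⟩
  · obtain ⟨T, hQT⟩ := hQp.exists_le_sylow
    have hR := (isSylowIn_of_sylow T le_top).inf_normal (le_top (a := N')) le_normalizer_of_normal
    refine le_antisymm (sup_le inf_le_left (map_subtype_le _)) ?_
    conv_lhs => rw [← hR.resOf_sup]
    exact sup_le le_sup_right (le_sup_of_le_left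
      (le_inf inf_le_right (inf_le_left.trans (wc_le_normalizer hwc T.2 hQT))))
  · obtain ⟨T, hQT⟩ := hQp.exists_le_sylow
    have hs := QuotientGroup.mk'_surjective N'
    refine ⟨T.mapSurjective hs, ?_, fun gb hg => ?_⟩
    · exact Subgroup.map_mono hQT
    · obtain ⟨g, rfl⟩ := hs gb
      have e : (Q.map (QuotientGroup.mk' N')).map (MulAut.conj (QuotientGroup.mk' N' g)).toMonoidHom
          = (Q.map (MulAut.conj g).toMonoidHom).map (QuotientGroup.mk' N') := by
        rw [Subgroup.map_map, Subgroup.map_map]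
        rfl
      rw [e] at hg ⊢
      have h1 : Q.map (MulAut.conj g).toMonoidHom ≤ (T : Subgroup H) ⊔ N' := by
        have h2 := map_le_iff_le_comap.1 hg
        rw [Sylow.coe_mapSurjective, comap_map_eq, QuotientGroup.ker_mk'] at h2
        exact h2
      obtain ⟨k, hk, ek⟩ := wc_exists_conj hwc (hQT.trans le_sup_left) h1
      obtain ⟨n, hn, t, ht, rfl⟩ := exists_mul_of_mem_sup' le_normalizer_of_normal hk
      rw [map_conj_mul, map_conj_eq_self (wc_le_normalizer hwc T.2 hQT ht)] at ek
      rw [ek, Subgroup.map_map]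
      have hq : (QuotientGroup.mk' N').comp (MulAut.conj n).toMonoidHom = QuotientGroup.mk' N' := by
        ext x
        have hn1 : QuotientGroup.mk' N' n = 1 := (QuotientGroup.eq_one_iff n).2 hn
        show QuotientGroup.mk' N' (n * x * n⁻¹) = QuotientGroup.mk' N' x
        rw [map_mul, map_mul, map_inv, hn1]
        simp
      rw [hq]

end Cfsg.Agent.S2839
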