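import Cfsg.Statements.S2840
import Cfsg.Agent.Lib.LocalStructure.WeaklyClosed

set_option autoImplicit false
open Cfsg
open Subgroup Cfsg.Agent.LocalStructure
open scoped commutatorElement

namespace Cfsg.Agent.S2840

/-- Let Q be a nontrivial p-subgroup of the finite group H that is a weakly closed subgroup and K a subgroup containing Q; let K° be the weak closure of Q in K (generated by the H-conjugates of Q inside K). Then K° is generated by the K-conjugates of Q, and K° is the subnormal closure of Q in K. -/
theorem result {H : Type*} [Group H] [Finite H] {p : ℕ} [Fact p.Prime] (Q : Subgroup H) (hQp : IsPGroup p ↥Q) (hQ1 : Q ≠ ⊥) (hwc : Cfsg.IsWeaklyClosedSubgroup p Q) (K : Subgroup H) (hQK : Q ≤ K) (Kc : Subgroup H) (hKc : Kc = Cfsg.weakClosure Q K) : Kc = ⨆ k : ↥K, ((Q : Subgroup H).map (MulAut.conj ((k : H) : H)).toMonoidHom) ∧ Kc = (Cfsg.subnormalClosure (Q.subgroupOf K)).map K.subtype := by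
  subst hKc
  have h1 := weakClosure_eq_iSup hwc hQK
  refine ⟨h1, le_antisymm ?_ ?_⟩
  · have key : ∀ S : Subgroup ↥K, S.IsSubnormal → Q.subgroupOf K ≤ S →
        weakClosure Q K ≤ S.map K.subtype := by
      intro S hS
      induction hS with
      | top => exact fun _ => (weakClosure_le Q K).trans (by rw [← MonoidHom.range_eq_map, range_subtype])
      | step S S' hle _ hN ih =>
        intro hQS
        rw [weakClosure_le_iff]
        intro g hg
        have hQ' : Q ≤ S.map K.subtype := fun x hx => mem_map.2 ⟨⟨x, hQK hx⟩, hQS hx, rfl⟩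
        obtain ⟨s, hs, e⟩ := wc_exists_conj hwc (hQ'.trans (Subgroup.map_mono hle))
          ((map_conj_le_weakClosure hg).trans (ih (hQS.trans hle)))
        have hn : S' ≤ normalizer (S : Set ↥K) := (normal_subgroupOf_iff_le_normalizer hle).1 hN
        rw [e]
        exact (Subgroup.map_mono hQ').trans
          (map_conj_eq_self (le_normalizer_map _ (Subgroup.map_mono hn hs))).le
    have hfix : ∀ x ∈ weakClosure Q K, x ∈ (Cfsg.subnormalClosure (Q.subgroupOf K)).map K.subtype := by
      intro x hx
      refine mem_map.2 ⟨⟨x, weakClosure_le Q K hx⟩, ?_, rfl⟩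
      refine Subgroup.mem_sInf.2 fun S hS => ?_
      obtain ⟨y, hy, e⟩ := mem_map.1 (key S hS.2 hS.1 hx)
      rwa [show (⟨x, _⟩ : ↥K) = y from Subtype.ext e.symm]
    exact hfix
  · calc (Cfsg.subnormalClosure (Q.subgroupOf K)).map K.subtype
        ≤ ((weakClosure Q K).subgroupOf K).map K.subtype := by
          refine Subgroup.map_mono (sInf_le ⟨fun x hx => le_weakClosure hQK hx, ?_⟩)
          exact Subgroup.Normal.isSubnormal ((normal_subgroupOf_iff_le_normalizer
            (weakClosure_le Q K)).2 (le_normalizer_weakClosure Q K))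
      _ ≤ weakClosure Q K := by rw [subgroupOf_map_subtype]; exact inf_le_left

end Cfsg.Agent.S2840
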