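import Cfsg.Statements.S2841
import Cfsg.Agent.Lib.LocalStructure.WeaklyClosed

set_option autoImplicit false
open Cfsg
open Subgroup Cfsg.Agent.LocalStructure
open scoped commutatorElement

namespace Cfsg.Agent.S2841

/-- Let Q be a nontrivial p-subgroup of the finite group H that is a weakly closed subgroup and N a normal subgroup of H. Then N = N_N(Q)·[N, Q] and [N, Q] = (Q ∩ [N, Q])·[N, Q, Q]. -/
theorem result {H : Type*} [Group H] [Finite H] {p : ℕ} [Fact p.Prime] (Q : Subgroup H) (hQp : IsPGroup p ↥Q) (hQ1 : Q ≠ ⊥) (hwc : Cfsg.IsWeaklyClosedSubgroup p Q) (N' : Subgroup H) [N'.Normal] : (∀ n : H, n ∈ N' → ∃ a ∈ N' ⊓ Subgroup.normalizer ((Q : Subgroup H) : Set H), ∃ b ∈ ⁅N', Q⁆, n = a * b) ∧ (∀ c : H, c ∈ ⁅N', Q⁆ → ∃ a ∈ Q ⊓ ⁅N', Q⁆, ∃ b ∈ ⁅⁅N', Q⁆, Q⁆, c = a * b) := by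
  have hC : ⁅N', Q⁆ ≤ N' := commutator_le_left _ _
  have first : ∀ n : H, n ∈ N' → ∃ a ∈ N' ⊓ normalizer (Q : Set H),
      ∃ b ∈ ⁅N', Q⁆, n = a * b := by
    intro n hn
    have h1 : Q.map (MulAut.conj n).toMonoidHom ≤ Q ⊔ ⁅N', Q⁆ := by
      rintro _ ⟨q, hq, rfl⟩
      show n * q * n⁻¹ ∈ _
      rw [show n * q * n⁻¹ = ⁅n, q⁆ * q by rw [commutatorElement_def]; group]
      exact mul_mem (le_sup_right (a := Q) (commutator_mem_commutator hn hq))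
        (le_sup_left (b := ⁅N', Q⁆) hq)
    obtain ⟨k, hk, e⟩ := wc_exists_conj hwc le_sup_left h1
    obtain ⟨c, hc, q, hq, rfl⟩ := exists_mul_of_mem_sup' (normalizer_commutator_ge_right N' Q) hk
    rw [map_conj_mul Q c q, map_conj_eq_self (Q.le_normalizer hq)] at e
    have h2 : c⁻¹ * n ∈ normalizer (Q : Set H) := mem_normalizer_of_map_conj (by
      rw [map_conj_mul, e, map_conj_inv_map_conj])
    refine ⟨c⁻¹ * n, ⟨mul_mem (N'.inv_mem (hC hc)) hn, h2⟩, (c⁻¹ * n)⁻¹ * c * (c⁻¹ * n), ?_, by group⟩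
    exact (mem_normalizer_iff''.1 (normalizer_commutator_ge_left N' Q
      (mul_mem (N'.inv_mem (hC hc)) hn)) c).1 hc
  refine ⟨first, fun c hc => ?_⟩
  have hQD : Q ≤ normalizer ((⁅⁅N', Q⁆, Q⁆ : Subgroup H) : Set H) := normalizer_commutator_ge_right _ _
  have hle : ⁅N', Q⁆ ≤ (Q ⊓ ⁅N', Q⁆) ⊔ ⁅⁅N', Q⁆, Q⁆ := by
    refine Subgroup.commutator_le.2 fun n hn q hq => ?_
    obtain ⟨a, ⟨haN, haQ⟩, b, hb, rfl⟩ := first n hn
    have haD : a ∈ normalizer ((⁅⁅N', Q⁆, Q⁆ : Subgroup H) : Set H) :=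
      le_normalizer_commutator (L := N' ⊓ normalizer (Q : Set H))
        (inf_le_left.trans (normalizer_commutator_ge_left N' Q)) inf_le_right ⟨haN, haQ⟩
    have e : ⁅a * b, q⁆ = a * ⁅b, q⁆ * a⁻¹ * ⁅a, q⁆ := by
      simp only [commutatorElement_def]; group
    rw [e]
    refine mul_mem (le_sup_right (a := Q ⊓ ⁅N', Q⁆)
      ((mem_normalizer_iff.1 haD _).1 (commutator_mem_commutator hb hq)))
      (le_sup_left (b := ⁅⁅N', Q⁆, Q⁆) ⟨?_, commutator_mem_commutator haN hq⟩)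
    rw [commutatorElement_def]
    exact Q.mul_mem ((mem_normalizer_iff.1 haQ q).1 hq) (Q.inv_mem hq)
  obtain ⟨a, ha, b, hb, e⟩ := exists_mul_of_mem_sup (inf_le_left.trans hQD) (hle hc)
  exact ⟨a, ha, b, hb, e.symm⟩

end Cfsg.Agent.S2841
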