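import Cfsg.Statements.S2842
import Cfsg.Agent.Lib.LocalStructure.Large

set_option autoImplicit false
open Cfsg
open Subgroup Cfsg.Agent.LocalStructure
open scoped commutatorElement

namespace Cfsg.Agent.S2842

/-- Let Q be a nontrivial p-subgroup of the finite group H that is a weakly closed subgroup with C_H(Q) ≤ Q, and Q ≤ L ≤ H. Suppose H has characteristic p, or more generally that C_H(y) has characteristic p for some nonidentity y ∈ C_{O_p(L)}(Q). Then [Q, C_H(O_p(L))] ≤ Q ∩ O_p(L), C_H(O_p(L)) is a p-group, and L has characteristic p. -/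
theorem result {H : Type*} [Group H] [Finite H] {p : ℕ} [Fact p.Prime] (Q : Subgroup H) (hQp : IsPGroup p ↥Q) (hQ1 : Q ≠ ⊥) (hwc : Cfsg.IsWeaklyClosedSubgroup p Q) (hCQ : Subgroup.centralizer ((Q : Subgroup H) : Set H) ≤ Q) (L : Subgroup H) (hQL : Q ≤ L) (hyp : Subgroup.centralizer (Cfsg.pCore p H : Set H) ≤ Cfsg.pCore p H ∨ ∃ y : H, y ≠ 1 ∧ y ∈ (Cfsg.pCoreOf p L) ⊓ Subgroup.centralizer ((Q : Subgroup H) : Set H) ∧ Subgroup.centralizer (Cfsg.pCore p ↥(Subgroup.centralizer ({y} : Set H)) : Set ↥(Subgroup.centralizer ({y} : Set H))) ≤ Cfsg.pCore p ↥(Subgroup.centralizer ({y} : Set H))) : ⁅Q, Subgroup.centralizer (((Cfsg.pCoreOf p L) : Subgroup H) : Set H)⁆ ≤ Q ⊓ (Cfsg.pCoreOf p L) ∧ IsPGroup p ↥(Subgroup.centralizer (((Cfsg.pCoreOf p L) : Subgroup H) : Set H)) ∧ Subgroup.centralizer (Cfsg.pCore p ↥L : Set ↥L) ≤ Cfsg.pCore p ↥L := by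
  obtain ⟨X, hQX, hX, hCX⟩ : ∃ X : Subgroup H, Q ≤ X ∧
      (X ⊓ Subgroup.centralizer (Cfsg.pCoreOf p X : Set H) ≤ Cfsg.pCoreOf p X) ∧
      Subgroup.centralizer (Cfsg.pCoreOf p L : Set H) ≤ X := by
    obtain h | ⟨y, -, ⟨hyP, hyQ⟩, hy⟩ := hyp
    · refine ⟨⊤, le_top, ?_, le_top⟩
      rw [top_inf_eq, pCoreOf_top]
      exact h
    · refine ⟨Subgroup.centralizer ({y} : Set H), fun q hq => ?_, (hasCharP_iff _).1 hy,
        Subgroup.centralizer_le (Set.singleton_subset_iff.2 hyP)⟩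
      exact Subgroup.mem_centralizer_singleton_iff.2 (Subgroup.mem_centralizer_iff.1 hyQ q hq)
  obtain ⟨h1, h2⟩ := centralizer_of_wc hwc hCQ hQL hQX hX hCX
  exact ⟨h1, h2, (hasCharP_iff L).2 (charP_of_wc hwc hCQ hQL hQX hX (inf_le_right.trans hCX))⟩

end Cfsg.Agent.S2842
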