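import Cfsg.Statements.S2843
import Cfsg.Agent.Lib.LocalStructure.Large

set_option autoImplicit false
open Cfsg
open Subgroup Cfsg.Agent.LocalStructure
open scoped commutatorElement

namespace Cfsg.Agent.S2843

/-- Let Q be a nontrivial large p-subgroup of the finite group H, Q ≤ L ≤ H, and Y a nontrivial p-subgroup of H normalized by L. Let L° be the weak closure of Q in L (generated by the conjugates of Q inside L). Then L° equals the weak closure of Q in L·C_H(Y), and [L°, C_H(Y)] ≤ O_p(L°); in particular C_H(Y) normalizes L°. -/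
theorem result {H : Type*} [Group H] [Finite H] {p : ℕ} [Fact p.Prime] (Q : Subgroup H) (hQp : IsPGroup p ↥Q) (hQ1 : Q ≠ ⊥) (hL : Cfsg.IsLarge Q) (L : Subgroup H) (hQL : Q ≤ L) (Y : Subgroup H) (hYp : IsPGroup p ↥Y) (hY1 : Y ≠ ⊥) (hLY : L ≤ Subgroup.normalizer ((Y : Subgroup H) : Set H)) : Cfsg.weakClosure Q L = Cfsg.weakClosure Q (L ⊔ Subgroup.centralizer ((Y : Subgroup H) : Set H)) ∧ ⁅Cfsg.weakClosure Q L, Subgroup.centralizer ((Y : Subgroup H) : Set H)⁆ ≤ (Cfsg.pCoreOf p (Cfsg.weakClosure Q L)) ∧ Subgroup.centralizer ((Y : Subgroup H) : Set H) ≤ Subgroup.normalizer (((Cfsg.weakClosure Q L) : Subgroup H) : Set H) := by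
  have hwc := wc_of_isLarge hQp hQ1 hL
  set C := Subgroup.centralizer (Y : Set H) with hC
  have hLC : L ≤ normalizer (C : Set H) := le_normalizer_centralizer hLY
  have hCN : ∀ g : H, Q.map (MulAut.conj g).toMonoidHom ≤ L →
      C ≤ normalizer (Q.map (MulAut.conj g).toMonoidHom : Set H) := fun g hg =>
    centralizer_le_normalizer_of_large (isPGroup_map_conj hQp g) (isLarge_map_conj hL g) hYp hY1
      (hg.trans hLY)
  set W := Cfsg.weakClosure Q L with hW
  have hWL : W ≤ L := weakClosure_le Q L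
  have hCW : C ≤ normalizer (W : Set H) := by
    intro c hc
    refine mem_normalizer_of_map_conj_le ?_
    rw [hW, map_le_iff_le_comap, weakClosure_le_iff]
    intro g hg
    rw [← map_le_iff_le_comap, map_conj_eq_self (hCN g hg hc)]
    exact map_conj_le_weakClosure hg
  set M := Cfsg.pCoreOf p C ⊓ W with hM
  have hMp : M ≤ Cfsg.pCoreOf p W :=
    le_pCoreOf inf_le_right (le_normalizer_inf (hWL.trans
      (hLC.trans (normalizer_le_normalizer_pCoreOf C))) W.le_normalizer)
      ((isPGroup_pCoreOf p C).to_le inf_le_left)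
  have hMW : W ≤ normalizer (M : Set H) := le_normalizer_inf
    (hWL.trans (hLC.trans (normalizer_le_normalizer_pCoreOf C))) W.le_normalizer
  have key : ∀ w ∈ W, w ∈ normalizer (M : Set H) ∧ ∀ c ∈ C, ⁅w, c⁆ ∈ M := by
    intro w hw
    rw [hW, Cfsg.weakClosure] at hw
    refine Subgroup.iSup_induction _ (C := fun w => w ∈ normalizer (M : Set H) ∧
        ∀ c ∈ C, ⁅w, c⁆ ∈ M) hw ?_ ?_ ?_
    · intro g x hx
      have hxW : x ∈ W := map_conj_le_weakClosure g.2 hx
      refine ⟨hMW hxW, fun c hc => ?_⟩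
      have h1 : C ≤ normalizer (Q.map (MulAut.conj (g : H)).toMonoidHom : Set H) := hCN g g.2
      have hQC : Q.map (MulAut.conj (g : H)).toMonoidHom ≤ normalizer (C : Set H) := g.2.trans hLC
      have h2 := commutator_mem_commutator hx hc
      have h3 := le_normalizer_iff_commutator_le_left.1 h1 h2
      have h4 := le_normalizer_iff_commutator_le_right.1 hQC h2
      exact ⟨le_pCoreOf inf_le_right (le_normalizer_inf h1 C.le_normalizer)
        ((isPGroup_map_conj hQp (g : H)).to_le inf_le_left) ⟨h3, h4⟩, map_conj_le_weakClosure g.2 h3⟩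
    · exact ⟨one_mem _, fun c _ => by simp⟩
    · intro a b ha hb
      refine ⟨mul_mem ha.1 hb.1, fun c hc => ?_⟩
      rw [show ⁅a * b, c⁆ = a * ⁅b, c⁆ * a⁻¹ * ⁅a, c⁆ by simp only [commutatorElement_def]; group]
      exact mul_mem ((mem_normalizer_iff.1 ha.1 _).1 (hb.2 c hc)) (ha.2 c hc)
  refine ⟨le_antisymm (weakClosure_mono le_sup_left) (weakClosure_le_iff.2 fun g hg => ?_),
    (Subgroup.commutator_le.2 fun w hw c hc => (key w hw).2 c hc).trans hMp, hCW⟩
  obtain ⟨k, hk, e⟩ := wc_exists_conj hwc (hQL.trans le_sup_left) hg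
  obtain ⟨l, hl, c, hc, rfl⟩ := exists_mul_of_mem_sup hLC hk
  have hcQ : c ∈ normalizer (Q : Set H) := by
    simpa only [map_conj_one] using hCN 1 (by rwa [map_conj_one]) hc
  rw [e, map_conj_mul, map_conj_eq_self hcQ]
  exact map_conj_le_weakClosure (map_conj_le hQL hl)

end Cfsg.Agent.S2843
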