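import Cfsg.Statements.S2844
import Cfsg.Agent.Lib.LocalStructure.Large

set_option autoImplicit false
open Cfsg
open Subgroup Cfsg.Agent.LocalStructure
open scoped commutatorElement

namespace Cfsg.Agent.S2844

/-- Let Q be a nontrivial large p-subgroup of the finite group H and Q• = O_p(N_H(Q)). Then for every g ∈ H outside N_H(Q): C_H(Q) ∩ C_H(gQg⁻¹) = 1, C_H(Q•) ∩ C_H(gQ•g⁻¹) = 1, Z(Q) ∩ Z(gQg⁻¹) = 1 and Z(Q•) ∩ Z(gQ•g⁻¹) = 1; moreover N_H(Q) = N_H(Q•) and Q• is large in H. -/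
theorem result {H : Type*} [Group H] [Finite H] {p : ℕ} [Fact p.Prime] (Q : Subgroup H) (hQp : IsPGroup p ↥Q) (hQ1 : Q ≠ ⊥) (hL : Cfsg.IsLarge Q) (Qb : Subgroup H) (hQb : Qb = Cfsg.largeBullet p Q) : (∀ g : H, g ∉ Subgroup.normalizer ((Q : Subgroup H) : Set H) → Subgroup.centralizer ((Q : Subgroup H) : Set H) ⊓ Subgroup.centralizer ((((Q : Subgroup H).map (MulAut.conj (g : H)).toMonoidHom) : Subgroup H) : Set H) = ⊥ ∧ Subgroup.centralizer ((Qb : Subgroup H) : Set H) ⊓ Subgroup.centralizer ((((Qb : Subgroup H).map (MulAut.conj (g : H)).toMonoidHom) : Subgroup H) : Set H) = ⊥ ∧ (Q ⊓ Subgroup.centralizer ((Q : Subgroup H) : Set H)) ⊓ (((Q : Subgroup H).map (MulAut.conj (g : H)).toMonoidHom) ⊓ Subgroup.centralizer ((((Q : Subgroup H).map (MulAut.conj (g : H)).toMonoidHom) : Subgroup H) : Set H)) = ⊥ ∧ (Qb ⊓ Subgroup.centralizer ((Qb : Subgroup H) : Set H)) ⊓ (((Qb : Subgroup H).map (MulAut.conj (g : H)).toMonoidHom) ⊓ Subgroup.centralizer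 ((((Qb : Subgroup H).map (MulAut.conj (g : H)).toMonoidHom) : Subgroup H) : Set H)) = ⊥) ∧ Subgroup.normalizer ((Q : Subgroup H) : Set H) = Subgroup.normalizer ((Qb : Subgroup H) : Set H) ∧ Cfsg.IsLarge Qb := by
  subst hQb
  have hwc := wc_of_isLarge hQp hQ1 hL
  set Qb := Cfsg.largeBullet p Q with hQb
  have hQQb : Q ≤ Qb := le_pCoreOf Q.le_normalizer le_rfl hQp
  have hNle : normalizer (Q : Set H) ≤ normalizer (Qb : Set H) :=
    le_normalizer_pCoreOf p _
  have hNeq : normalizer (Q : Set H) = normalizer (Qb : Set H) :=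
    le_antisymm hNle (wc_normalizer_le hwc (isPGroup_pCoreOf p _) hQQb)
  have hCle : Subgroup.centralizer (Qb : Set H) ≤ Subgroup.centralizer (Q : Set H) :=
    Subgroup.centralizer_le hQQb
  refine ⟨fun g hg => ?_, hNeq, ⟨hCle.trans (hL.1.trans hQQb), fun U hU hU1 =>
    (hL.2 U (hU.trans hCle) hU1).trans hNle⟩⟩
  have h0 : Subgroup.centralizer (Q : Set H) ⊓
      Subgroup.centralizer ((Q.map (MulAut.conj g).toMonoidHom : Subgroup H) : Set H) = ⊥ := by
    by_contra hne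
    apply hg
    set U := Subgroup.centralizer (Q : Set H) ⊓
      Subgroup.centralizer ((Q.map (MulAut.conj g).toMonoidHom : Subgroup H) : Set H) with hU
    obtain ⟨k, hk, e⟩ := wc_exists_conj hwc (Subgroup.le_centralizer_iff.1 (inf_le_left : U ≤ _))
      (Subgroup.le_centralizer_iff.1 (inf_le_right : U ≤ _))
    rw [map_conj_eq_self (((centralizer_le_normalizer U).trans
      (hL.2 U inf_le_left hne)) hk)] at e
    exact mem_normalizer_of_map_conj e
  have h1 := le_bot_iff.1 (le_trans (inf_le_inf hCle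
    (Subgroup.centralizer_le (Subgroup.map_mono hQQb))) h0.le)
  exact ⟨h0, h1, le_bot_iff.1 ((inf_le_inf inf_le_right inf_le_right).trans h0.le),
    le_bot_iff.1 ((inf_le_inf inf_le_right inf_le_right).trans h1.le)⟩

end Cfsg.Agent.S2844
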