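import Cfsg.Statements.S2845
import Cfsg.Agent.Lib.LocalStructure.Large

set_option autoImplicit false
open Cfsg
open Subgroup Cfsg.Agent.LocalStructure
open scoped commutatorElement

namespace Cfsg.Agent.S2845

/-- Let Q be a nontrivial large p-subgroup of the finite group H. Then for every subgroup L ≥ Q with O_p(L) ≠ 1, C_H(O_p(L)) is a p-group and L has characteristic p, and either the weak closure L° of Q in L equals Q or C_H(L°) = 1; for every subgroup R of H containing a Sylow p-subgroup of H with O_p(R) ≠ 1, C_H(O_p(R)) ≤ O_p(R); and H has parabolic characteristic p. -/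
theorem result {H : Type*} [Group H] [Finite H] {p : ℕ} [Fact p.Prime] (Q : Subgroup H) (hQp : IsPGroup p ↥Q) (hQ1 : Q ≠ ⊥) (hL : Cfsg.IsLarge Q) : (∀ L : Subgroup H, Q ≤ L → Cfsg.pCore p ↥L ≠ ⊥ → IsPGroup p ↥(Subgroup.centralizer (((Cfsg.pCoreOf p L) : Subgroup H) : Set H)) ∧ Subgroup.centralizer (Cfsg.pCore p ↥L : Set ↥L) ≤ Cfsg.pCore p ↥L ∧ (Cfsg.weakClosure Q L = Q ∨ Subgroup.centralizer (((Cfsg.weakClosure Q L) : Subgroup H) : Set H) = ⊥)) ∧ (∀ R : Subgroup H, Cfsg.IsParabolic p R → Cfsg.pCore p ↥R ≠ ⊥ → Subgroup.centralizer (((Cfsg.pCoreOf p R) : Subgroup H) : Set H) ≤ (Cfsg.pCoreOf p R)) ∧ Cfsg.IsOfParabolicCharacteristic p H := by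
  have hwc := wc_of_isLarge hQp hQ1 hL
  refine ⟨fun L hQL hP => ?_, fun R hR hP => centralizer_le_of_parabolic_large hQp hQ1 hL hR
    fun e => hP ((pCoreOf_eq_bot_iff _).1 e), fun R hR hR1 hpar => ?_⟩
  · obtain ⟨h1, h2⟩ := charP_of_large hQp hQ1 hL hQL fun e => hP ((pCoreOf_eq_bot_iff _).1 e)
    refine ⟨h2, (hasCharP_iff L).2 h1, or_iff_not_imp_right.2 fun hne => ?_⟩
    set U := Subgroup.centralizer ((Cfsg.weakClosure Q L : Subgroup H) : Set H) with hU
    have hN := hL.2 U (Subgroup.centralizer_le (le_weakClosure hQL)) hne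
    have hWN : Cfsg.weakClosure Q L ≤ normalizer (Q : Set H) :=
      (Subgroup.le_centralizer_iff.1 le_rfl).trans ((centralizer_le_normalizer U).trans hN)
    refine le_antisymm (weakClosure_le_iff.2 fun g hg => ?_) (le_weakClosure hQL)
    obtain ⟨k, hk, e⟩ := wc_exists_conj hwc Q.le_normalizer ((map_conj_le_weakClosure hg).trans hWN)
    rw [e, map_conj_eq_self hk]
  · rw [hasCharP_iff]
    refine inf_le_right.trans (centralizer_le_of_parabolic_large hQp hQ1 hL hpar fun e => ?_)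
    exact pCore_ne_bot_of_le_normalizer hR hR1 ((pCoreOf_eq_bot_iff _).1 e)

end Cfsg.Agent.S2845
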