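import Cfsg.Statements.S2848
import Cfsg.Agent.Lib.LocalStructure.FrakM

set_option autoImplicit false
open Cfsg
open Subgroup Cfsg.Agent.LocalStructure
open scoped commutatorElement

namespace Cfsg.Agent.S2848

/-- Standing hypotheses: G a finite group, S a Sylow p-subgroup, Q a nontrivial large p-subgroup of G contained in S (C_G(Q) ≤ Q and N_G(U) ≤ N_G(Q) for all nontrivial U ≤ C_G(Q)), and M a subgroup containing S with the basic property (M ∈ 𝔐_G(S)); Y_M denotes the largest p-reduced normal subgroup of M and M† = M·C_G(Y_M). Then O_p(M) is a weakly closed subgroup of M† (for p): it is the only M†-conjugate of itself inside some Sylow p-subgroup of M† containing it. -/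
theorem result {G : Type*} [Group G] [Finite G] {p : ℕ} [Fact p.Prime] (S : Sylow p G) (Q : Subgroup G) (hQp : IsPGroup p ↥Q) (hQ1 : Q ≠ ⊥) (hQS : Q ≤ (S : Subgroup G)) (hQ : Cfsg.IsLarge Q) (M : Subgroup G) (hSM : (S : Subgroup G) ≤ M) (hM : Cfsg.IsInFrakM p M) : Cfsg.IsWeaklyClosedSubgroup p (((Cfsg.pCoreOf p M)).subgroupOf (M ⊔ Subgroup.centralizer (((Cfsg.largestPReducedOf p M) : Subgroup G) : Set G))) := by
  have hsub := pCoreOf_le p M
  set Md := M ⊔ Subgroup.centralizer (((Cfsg.largestPReducedOf p M) : Subgroup G) : Set G)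
  have hle : Cfsg.pCoreOf p M ≤ Md := hsub.trans le_sup_left
  refine wc_of_unique ((isPGroup_pCoreOf p M).of_equiv (subgroupOfEquivOfLe hle).symm)
    fun R hR hPR g hg => ?_
  apply map_injective (f := Md.subtype) Md.subtype_injective
  have e : (((Cfsg.pCoreOf p M).subgroupOf Md).map (MulAut.conj g).toMonoidHom).map Md.subtype =
      (Cfsg.pCoreOf p M).map (MulAut.conj (g : G)).toMonoidHom := by
    rw [Subgroup.map_map]
    conv_rhs => rw [← (inf_eq_left.2 hle : Cfsg.pCoreOf p M ⊓ Md = Cfsg.pCoreOf p M),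
      ← subgroupOf_map_subtype, Subgroup.map_map]
    rfl
  rw [e, subgroupOf_map_subtype, inf_eq_left.2 hle]
  exact frakM_wc_dagger S hSM hM (hR.map Md.subtype)
    (fun x hx => mem_map.2 ⟨⟨x, hle hx⟩, hPR hx, rfl⟩) g.2 (e ▸ Subgroup.map_mono hg)

end Cfsg.Agent.S2848
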