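import Cfsg.Statements.S2849
import Cfsg.Agent.Lib.LocalStructure.FrakM

set_option autoImplicit false
open Cfsg
open Subgroup Cfsg.Agent.LocalStructure
open scoped commutatorElement

namespace Cfsg.Agent.S2849

/-- Standing hypotheses: G a finite group, S a Sylow p-subgroup, Q a nontrivial large p-subgroup of G contained in S (C_G(Q) ≤ Q and N_G(U) ≤ N_G(Q) for all nontrivial U ≤ C_G(Q)), and M a subgroup containing S with the basic property (M ∈ 𝔐_G(S)); Y_M denotes the largest p-reduced normal subgroup of M and M† = M·C_G(Y_M). Suppose Y_M is asymmetric in G. Then for every subgroup R with Y_M ≤ R ≤ M†, the normal closure of Y_M in N_G(R) is elementary abelian. -/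
theorem result {G : Type*} [Group G] [Finite G] {p : ℕ} [Fact p.Prime] (S : Sylow p G) (Q : Subgroup G) (hQp : IsPGroup p ↥Q) (hQ1 : Q ≠ ⊥) (hQS : Q ≤ (S : Subgroup G)) (hQ : Cfsg.IsLarge Q) (M : Subgroup G) (hSM : (S : Subgroup G) ≤ M) (hM : Cfsg.IsInFrakM p M) (hasym : ¬ Cfsg.IsSymmetricIn (Cfsg.largestPReducedOf p M)) (R : Subgroup G) (hYR : (Cfsg.largestPReducedOf p M) ≤ R) (hRM : R ≤ (M ⊔ Subgroup.centralizer (((Cfsg.largestPReducedOf p M) : Subgroup G) : Set G))) : Cfsg.IsElementaryAbelian p ((Subgroup.normalClosure ((((Cfsg.largestPReducedOf p M)).subgroupOf (Subgroup.normalizer ((R : Subgroup G) : Set G)) : Subgroup ↥(Subgroup.normalizer ((R : Subgroup G) : Set G))) : Set ↥(Subgroup.normalizer ((R : Subgroup G) : Set G)))).map (Subgroup.normalizer ((R : Subgroup G) : Set G)).subtype) := by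
  set Y := Cfsg.largestPReducedOf p M
  set N := Subgroup.normalizer ((R : Subgroup G) : Set G)
  have hYN : Y ≤ N := hYR.trans Subgroup.le_normalizer
  have hRY : R ≤ normalizer (Y : Set G) := hRM.trans (frakM_le_normalizer p M)
  rw [map_normalClosure_subgroupOf hYN]
  refine isElementaryAbelian_closure ?_ ?_
  · rintro _ ⟨a, ha, x, hx, rfl⟩ _ ⟨b, hb, y, hy, rfl⟩
    have hn : ∀ a ∈ N, ∀ b ∈ N, Y.map (MulAut.conj a).toMonoidHom ≤
        normalizer (Y.map (MulAut.conj b).toMonoidHom : Set G) := fun a ha b hb =>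
      ((Subgroup.map_mono hYR).trans (map_conj_eq_self ha).le).trans
        ((map_conj_eq_self hb).ge.trans ((Subgroup.map_mono hRY).trans (le_normalizer_map _)))
    exact asym_commute hasym a b (hn a ha b hb) (hn b hb a ha) x hx y hy
  · rintro _ ⟨a, _, x, hx, rfl⟩
    rw [conj_pow, (isPRedIn_largest p M).2.2.1.2 x hx]
    group

end Cfsg.Agent.S2849
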