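import Cfsg.Statements.S2850
import Cfsg.Agent.Lib.LocalStructure.FrakM

set_option autoImplicit false
open Cfsg
open Subgroup Cfsg.Agent.LocalStructure
open scoped commutatorElement

namespace Cfsg.Agent.S2850

/-- Standing hypotheses: G a finite group, S a Sylow p-subgroup, Q a nontrivial large p-subgroup of G contained in S (C_G(Q) ≤ Q and N_G(U) ≤ N_G(Q) for all nontrivial U ≤ C_G(Q)), and M a subgroup containing S with the basic property (M ∈ 𝔐_G(S)); Y_M denotes the largest p-reduced normal subgroup of M and M† = M·C_G(Y_M). Suppose Y_M is asymmetric in G. Then N_G(L) ≤ N_G(O_p(M)) ≤ M† for every p-subgroup L containing O_p(M); O_p(M) is a weakly closed subgroup of G; for every subgroup L containing O_p(M), L ∩ M† contains a Sylow p-subgroup of L; and two elements of Y_M conjugate in G are conjugate in M. -/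
theorem result {G : Type*} [Group G] [Finite G] {p : ℕ} [Fact p.Prime] (S : Sylow p G) (Q : Subgroup G) (hQp : IsPGroup p ↥Q) (hQ1 : Q ≠ ⊥) (hQS : Q ≤ (S : Subgroup G)) (hQ : Cfsg.IsLarge Q) (M : Subgroup G) (hSM : (S : Subgroup G) ≤ M) (hM : Cfsg.IsInFrakM p M) (hasym : ¬ Cfsg.IsSymmetricIn (Cfsg.largestPReducedOf p M)) : (∀ L : Subgroup G, IsPGroup p ↥L → (Cfsg.pCoreOf p M) ≤ L → Subgroup.normalizer ((L : Subgroup G) : Set G) ≤ Subgroup.normalizer (((Cfsg.pCoreOf p M) : Subgroup G) : Set G) ∧ Subgroup.normalizer (((Cfsg.pCoreOf p M) : Subgroup G) : Set G) ≤ (M ⊔ Subgroup.centralizer (((Cfsg.largestPReducedOf p M) : Subgroup G) : Set G))) ∧ Cfsg.IsWeaklyClosedSubgroup p (Cfsg.pCoreOf p M) ∧ (∀ L : Subgroup G, (Cfsg.pCoreOf p M) ≤ L → Cfsg.IsParabolic p ((L ⊓ (M ⊔ Subgroup.centralizer (((Cfsg.largestPReducedOf p M) : Subgroup G) : Set G))).subgroupOf L)) ∧ (∀ x ∈ (Cfsg.largestPReducedOf p M), ∀ g : G, g * x * g⁻¹ ∈ (Cfsg.largestPReducedOf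 p M) → ∃ m ∈ M, m * x * m⁻¹ = g * x * g⁻¹) := by
  have hwc := frakM_wc S hQp hQ1 hQ hSM hM hasym
  have hPd := frakM_normalizer_core_le S hQp hQ1 hQ hSM hM
  refine ⟨fun L hLp hPL => ⟨frakM_normalizer_le S hQp hQ1 hQ hSM hM hasym hLp hPL, hPd⟩, hwc,
    fun L hPL => ?_, fun x hx g hgx => ?_⟩
  · obtain ⟨R, hPR, hR⟩ := exists_isSylowIn_le (isPGroup_pCoreOf p M) hPL
    obtain ⟨T, hT⟩ := hR.exists_sylow
    refine ⟨T, hT ▸ fun y hy => ⟨y.2, ?_⟩⟩
    exact hPd (wc_le_normalizer hwc hR.2.1 hPR hy)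
  · set y := g * x * g⁻¹ with hy
    have hP : ∀ z ∈ Cfsg.largestPReducedOf p M, ∀ a ∈ Cfsg.pCoreOf p M, a * z = z * a :=
      fun z hz a ha =>
        (Subgroup.mem_centralizer_iff.1 (pCoreOf_le_centralizer_largest M ha) z hz).symm
    have hK : Cfsg.pCoreOf p M ≤ Subgroup.centralizer ({y} : Set G) := fun a ha =>
      Subgroup.mem_centralizer_singleton_iff.2 (hP y hgx a ha)
    have hK2 : (Cfsg.pCoreOf p M).map (MulAut.conj g).toMonoidHom ≤
        Subgroup.centralizer ({y} : Set G) := by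
      rintro _ ⟨a, ha, rfl⟩
      refine Subgroup.mem_centralizer_singleton_iff.2 ?_
      show g * a * g⁻¹ * y = y * (g * a * g⁻¹)
      calc g * a * g⁻¹ * y = g * (a * x) * g⁻¹ := by rw [hy]; group
        _ = g * (x * a) * g⁻¹ := by rw [hP x hx a ha]
        _ = y * (g * a * g⁻¹) := by rw [hy]; group
    obtain ⟨k, hk, e⟩ := wc_exists_conj hwc hK hK2
    have h1 : k⁻¹ * g ∈ normalizer (Cfsg.pCoreOf p M : Set G) := mem_normalizer_of_map_conj (by
      rw [map_conj_mul, e, map_conj_inv_map_conj])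
    obtain ⟨m, hm, c, hc, hmc⟩ :=
      exists_mul_of_mem_sup (le_sup_left.trans (frakM_centralizer_normalized p M)) (hPd h1)
    refine ⟨m, hm, ?_⟩
    have hcx := Subgroup.mem_centralizer_iff.1 hc x hx
    have hky := Subgroup.mem_centralizer_singleton_iff.1 (inv_mem hk)
    calc m * x * m⁻¹ = (m * c) * x * (m * c)⁻¹ := by
          calc m * x * m⁻¹ = m * (x * c) * c⁻¹ * m⁻¹ := by group
            _ = m * (c * x) * c⁻¹ * m⁻¹ := by rw [hcx]
            _ = _ := by group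
      _ = k⁻¹ * y * k := by rw [hmc, hy]; group
      _ = y := by rw [hky]; group

end Cfsg.Agent.S2850
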