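import Cfsg.Statements.S2851
import Cfsg.Agent.Lib.LocalStructure.FrakM
import Cfsg.Agent.Lib.Components.GenFitting

set_option autoImplicit false
open Cfsg
open Subgroup Cfsg.Agent.LocalStructure
open scoped commutatorElement

namespace Cfsg.Agent.S2851

/-- Standing hypotheses: G a finite group, S a Sylow p-subgroup, Q a nontrivial large p-subgroup of G contained in S, M a subgroup containing S with the basic property (M ∈ 𝔐_G(S)); Y_M the largest p-reduced normal subgroup of M and M† = M·C_G(Y_M). Let F be the preimage in M† of the generalized Fitting subgroup of M†/C_{M†}(Y_M). If Y_M is asymmetric in G and H is a subgroup of characteristic p containing F, then Y_M ≤ Y_H. -/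
theorem result {G : Type*} [Group G] [Finite G] {p : ℕ} [Fact p.Prime] (S : Sylow p G) (Q : Subgroup G) (hQp : IsPGroup p ↥Q) (hQ1 : Q ≠ ⊥) (hQS : Q ≤ (S : Subgroup G)) (hQ : Cfsg.IsLarge Q) (M : Subgroup G) (hSM : (S : Subgroup G) ≤ M) (hM : Cfsg.IsInFrakM p M) (hasym : ¬ Cfsg.IsSymmetricIn (Cfsg.largestPReducedOf p M)) [hn : ((Subgroup.centralizer (((Cfsg.largestPReducedOf p M) : Subgroup G) : Set G)).subgroupOf (M ⊔ Subgroup.centralizer (((Cfsg.largestPReducedOf p M) : Subgroup G) : Set G))).Normal] (F : Subgroup G) (hF : F = ((Cfsg.generalizedFittingSubgroup (↥(M ⊔ Subgroup.centralizer (((Cfsg.largestPReducedOf p M) : Subgroup G) : Set G)) ⧸ (Subgroup.centralizer (((Cfsg.largestPReducedOf p M) : Subgroup G) : Set G)).subgroupOf (M ⊔ Subgroup.centralizer (((Cfsg.largestPReducedOf p M) : Subgroup G) : Set G)))).comap (QuotientGroup.mk' ((Subgroup.centralizer (((Cfsg.largestPReducedOf p M) : Subgroup G) : Set G)).subgroupOf (M ⊔ Subgroup.centralizer (((Cfsg.largestPReducedOf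 p M) : Subgroup G) : Set G))))).map ((M ⊔ Subgroup.centralizer (((Cfsg.largestPReducedOf p M) : Subgroup G) : Set G))).subtype) (H : Subgroup G) (hFH : F ≤ H) (hH : Subgroup.centralizer (Cfsg.pCore p ↥H : Set ↥H) ≤ Cfsg.pCore p ↥H) : (Cfsg.largestPReducedOf p M) ≤ Cfsg.largestPReducedOf p H := by
  set Y := Cfsg.largestPReducedOf p M
  set P := Cfsg.pCoreOf p M
  set C := Subgroup.centralizer (Y : Set G)
  set Md := M ⊔ C
  set q := QuotientGroup.mk' (C.subgroupOf Md)
  set Fq := Cfsg.generalizedFittingSubgroup (↥Md ⧸ C.subgroupOf Md)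
  have hs : Function.Surjective q := QuotientGroup.mk'_surjective _
  have hYred : IsPRedIn p Y Md := by
    have := isPRedIn_largest p Md
    rwa [← hM.2.2.2.1] at this
  have hcore : Cfsg.pCore p (↥Md ⧸ C.subgroupOf Md) = ⊥ := by
    set D := (Cfsg.pCore p (↥Md ⧸ C.subgroupOf Md)).comap q with hD
    have hDn : D.Normal := (LocalStructure.pCore_normal p _).comap q
    have hJ : Md ≤ normalizer ((D.map Md.subtype : Subgroup G) : Set G) := by
      rw [← normal_subgroupOf_iff_le_normalizer (map_subtype_le _)]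
      show ((D.map Md.subtype).comap Md.subtype).Normal
      rwa [comap_map_eq_self_of_injective Md.subtype_injective]
    have h := hYred.2.2.2 (D.map Md.subtype) (map_subtype_le _) hJ (by
      rintro _ ⟨x, hx, rfl⟩
      obtain ⟨k, hk⟩ := isPGroup_pCore p ⟨q x, hx⟩
      refine ⟨k, ?_⟩
      have h1 : x ^ p ^ k ∈ C.subgroupOf Md :=
        (QuotientGroup.eq_one_iff _).1 (by simpa [Subtype.ext_iff, q] using hk)
      exact h1)
    have h2 : D ≤ C.subgroupOf Md := fun x hx => h (mem_map_of_mem _ hx)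
    have h3 := Subgroup.map_mono (f := q) h2
    rw [hD, map_comap_eq_self_of_surjective hs, QuotientGroup.map_mk'_self] at h3
    exact le_bot_iff.1 h3
  have hCF : C ≤ F := fun c hc => hF.ge (mem_map.2 ⟨⟨c, le_sup_right (a := M) hc⟩, by
    rw [mem_comap]
    have : q ⟨c, le_sup_right (a := M) hc⟩ = 1 := (QuotientGroup.eq_one_iff _).2 hc
    rw [this]
    exact one_mem _, rfl⟩)
  have key : ∀ D : Subgroup G, D ≤ Md → F ≤ normalizer (D : Set G) →
      (∀ x ∈ D, ∃ k : ℕ, x ^ p ^ k ∈ C) → D ≤ C := by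
    intro D hD hFD hpow
    set Db := (D.subgroupOf Md).map q
    have hDp : IsPGroup p Db := by
      rintro ⟨_, x, hx, rfl⟩
      obtain ⟨k, hk⟩ := hpow x hx
      exact ⟨k, Subtype.ext (by
        show q x ^ p ^ k = 1
        rw [← map_pow]
        exact (QuotientGroup.eq_one_iff _).2 hk)⟩
    have hFn : Fq.Normal := Cfsg.Agent.Components.generalizedFittingSubgroup_normal _
    have hFDb : Fq ≤ normalizer (Db : Set (↥Md ⧸ C.subgroupOf Md)) := by
      rw [le_normalizer_iff]
      intro f hf d hd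
      obtain ⟨f', rfl⟩ := hs f
      obtain ⟨d', hd', rfl⟩ := hd
      refine ⟨f' * d' * f'⁻¹, ?_, by simp [map_mul, map_inv]⟩
      exact (mem_normalizer_iff.1 (hFD (hF.ge ⟨f', hf, rfl⟩)) _).1 hd'
    have h1 : Db ⊓ Fq = ⊥ := by
      rw [eq_bot_iff, ← hcore]
      refine le_pCore_of_isSubnormal ?_ (hDp.to_le inf_le_left)
      exact Subgroup.IsSubnormal.step _ Fq inf_le_right hFn.isSubnormal
        ((normal_subgroupOf_iff_le_normalizer inf_le_right).2
          (le_normalizer_inf hFDb Fq.le_normalizer))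
    have h2 : ⁅Db, Fq⁆ ≤ ⊥ := h1 ▸ le_inf (le_normalizer_iff_commutator_le_left.1 hFDb)
      (le_normalizer_iff_commutator_le_right.1 le_normalizer_of_normal)
    have h3 : Db ≤ Fq := (commutator_eq_bot_iff_le_centralizer.1 (le_bot_iff.1 h2)).trans
      Cfsg.Agent.Components.centralizer_generalizedFittingSubgroup_le
    rw [inf_eq_left.2 h3] at h1
    intro x hx
    have h4 : q ⟨x, hD hx⟩ ∈ Db := mem_map.2 ⟨⟨x, hD hx⟩, hx, rfl⟩
    rw [h1, Subgroup.mem_bot] at h4
    have h5 : (⟨x, hD hx⟩ : ↥Md) ∈ C.subgroupOf Md := (QuotientGroup.eq_one_iff _).1 h4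
    exact h5
  have hwc := frakM_wc S hQp hQ1 hQ hSM hM hasym
  have hPd := frakM_normalizer_core_le S hQp hQ1 hQ hSM hM
  have hP := frakM_isSylowIn S hSM hM
  have hPH : P ≤ H := hP.1.trans (hCF.trans hFH)
  set O := Cfsg.pCoreOf p H
  have hOC : O ≤ C := key O ((wc_le_normalizer' hwc (isPGroup_pCoreOf p H)
      (hPH.trans (le_normalizer_pCoreOf p H))).trans hPd)
    (hFH.trans (le_normalizer_pCoreOf p H)) (by
      intro x hx
      obtain ⟨k, hk⟩ := isPGroup_pCoreOf p H ⟨x, hx⟩
      refine ⟨k, ?_⟩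
      have h1 : x ^ p ^ k = 1 := by simpa [Subtype.ext_iff] using hk
      rw [h1]
      exact one_mem _)
  have hYO : Y ≤ Subgroup.centralizer (O : Set G) := Subgroup.le_centralizer_iff.1 hOC
  obtain ⟨R, hPR, hR⟩ := exists_isSylowIn_le (isPGroup_pCoreOf p M) hPH
  refine le_largest_of_piece hR (le_omegaOne (isPRedIn_largest p M).2.2.1.2 (le_inf
    ((le_inf ((frakM_largest_le p M).trans hPH) hYO).trans ((hasCharP_iff H).1 hH)) hYO))
    fun D hDH hD hpow => ?_
  have hRd : R ≤ Md := (wc_le_normalizer hwc hR.2.1 hPR).trans hPd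
  refine le_trans (le_inf inf_le_right (inf_le_left.trans hRd)) ?_
  refine key _ inf_le_right (le_normalizer_inf (hFH.trans hD) ?_) fun x hx => hpow x hx.1
  exact (hF.le.trans (map_subtype_le _)).trans Md.le_normalizer

end Cfsg.Agent.S2851
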