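import Cfsg.Statements.S2852
import Cfsg.Agent.Lib.LocalStructure.FrakM

set_option autoImplicit false
open Cfsg
open Subgroup Cfsg.Agent.LocalStructure
open scoped commutatorElement

namespace Cfsg.Agent.S2852

/-- Standing hypotheses: G a finite group, S a Sylow p-subgroup, Q a nontrivial large p-subgroup of G contained in S, M a subgroup containing S with the basic property (M ∈ 𝔐_G(S)); Y_M the largest p-reduced normal subgroup of M. If Y_M is char-p-tall and asymmetric in G, then some subgroup H of G lies in ℌ_G(O_p(M)): H has characteristic p, O_p(M) ≤ H, Y_M ≰ O_p(H), and Y_M ≤ O_p(P) for every proper subgroup P of H containing O_p(M). -/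
theorem result {G : Type*} [Group G] [Finite G] {p : ℕ} [Fact p.Prime] (S : Sylow p G) (Q : Subgroup G) (hQp : IsPGroup p ↥Q) (hQ1 : Q ≠ ⊥) (hQS : Q ≤ (S : Subgroup G)) (hQ : Cfsg.IsLarge Q) (M : Subgroup G) (hSM : (S : Subgroup G) ≤ M) (hM : Cfsg.IsInFrakM p M) (htall : Cfsg.IsCharPTall p (Cfsg.largestPReducedOf p M)) (hasym : ¬ Cfsg.IsSymmetricIn (Cfsg.largestPReducedOf p M)) : ∃ H : Subgroup G, Cfsg.IsInFrakH p M H := by
  set Y := Cfsg.largestPReducedOf p M
  set P := Cfsg.pCoreOf p M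
  obtain ⟨T, L, hTL, hLchar, hYL⟩ := htall
  obtain ⟨c, hc, e⟩ := (isSylowIn_map T).exists_conj_eq (frakM_isSylowIn S hSM hM)
  have hYc : Y.map (MulAut.conj c).toMonoidHom = Y :=
    map_conj_eq_self (LocalStructure.centralizer_le_normalizer _ hc)
  set L' := L.map (MulAut.conj c).toMonoidHom with hL'
  have hPL' : P ≤ L' := e.ge.trans (Subgroup.map_mono hTL)
  have hL'char : L' ⊓ Subgroup.centralizer (Cfsg.pCoreOf p L' : Set G) ≤ Cfsg.pCoreOf p L' :=
    hasCharP_map_conj c ((hasCharP_iff L).1 hLchar)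
  have hYL' : ¬ Y ≤ Cfsg.pCoreOf p L' := fun h => hYL <| by
    have h1 := h.trans (pCoreOf_map_conj_le c)
    rw [← hYc] at h1
    exact (map_le_map_iff_of_injective (MulAut.conj c).injective).1 h1
  obtain ⟨X, ⟨hPX, hXL, hX⟩, hmin⟩ := Set.Finite.exists_minimalFor
    (fun X : Subgroup G => Nat.card X)
    {X : Subgroup G | P ≤ X ∧ X ≤ L' ∧ ¬ Y ≤ Cfsg.pCoreOf p X} (Set.toFinite _)
    ⟨L', hPL', le_rfl, hYL'⟩
  refine ⟨X, (hasCharP_iff X).2 (frakM_charP_between S hQp hQ1 hQ hSM hM hasym hPX hXL hL'char),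
    hPX, hX, fun X' hPX' hlt => ?_⟩
  by_contra hne
  have h1 := hmin ⟨hPX', hlt.le.trans hXL, hne⟩ (Subgroup.card_le_of_le hlt.le)
  exact hlt.ne (Subgroup.eq_of_le_of_card_ge hlt.le h1)

end Cfsg.Agent.S2852
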