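import Cfsg.Statements.S2854
import Cfsg.Agent.Lib.LocalStructure.FrakH

set_option autoImplicit false
open Cfsg
open Subgroup Cfsg.Agent.LocalStructure
open scoped commutatorElement

namespace Cfsg.Agent.S2854

/-- Standing hypotheses: G a finite group, S a Sylow p-subgroup, Q a nontrivial large p-subgroup of G contained in S, M a subgroup containing S with the basic property (M ∈ 𝔐_G(S)); Y_M the largest p-reduced normal subgroup of M and M† = M·C_G(Y_M). Suppose Y_M is asymmetric in G, H ∈ ℌ_G(O_p(M)), and H ≤ N_G(gQg⁻¹) for some g ∈ G. Then gQg⁻¹ ≤ O_p(H·gQg⁻¹) ≤ N_G(O_p(M)) ≤ N_G(Y_M) = M†; H is normal in H·gQg⁻¹ with O^p(H) = O^p(H·gQg⁻¹); and H·gQg⁻¹ is p-irreducible. -/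
theorem result {G : Type*} [Group G] [Finite G] {p : ℕ} [Fact p.Prime] (S : Sylow p G) (Q : Subgroup G) (hQp : IsPGroup p ↥Q) (hQ1 : Q ≠ ⊥) (hQS : Q ≤ (S : Subgroup G)) (hQ : Cfsg.IsLarge Q) (M : Subgroup G) (hSM : (S : Subgroup G) ≤ M) (hM : Cfsg.IsInFrakM p M) (hasym : ¬ Cfsg.IsSymmetricIn (Cfsg.largestPReducedOf p M)) (H : Subgroup G) (hH : Cfsg.IsInFrakH p M H) (g : G) (hHQ : H ≤ Subgroup.normalizer ((((Q : Subgroup G).map (MulAut.conj (g : G)).toMonoidHom) : Subgroup G) : Set G)) : ((Q : Subgroup G).map (MulAut.conj (g : G)).toMonoidHom) ≤ Cfsg.pCoreOf p (H ⊔ ((Q : Subgroup G).map (MulAut.conj (g : G)).toMonoidHom)) ∧ Cfsg.pCoreOf p (H ⊔ ((Q : Subgroup G).map (MulAut.conj (g : G)).toMonoidHom)) ≤ Subgroup.normalizer (((Cfsg.pCoreOf p M) : Subgroup G) : Set G) ∧ Subgroup.normalizer (((Cfsg.pCoreOf p M) : Subgroup G) : Set G) ≤ Subgroup.normalizer (((Cfsg.largestPReducedOf p M) : Subgroup G) : Set G) ∧ Subgroup.normalizer (((Cfsg.largestPReducedOf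 p M) : Subgroup G) : Set G) = (M ⊔ Subgroup.centralizer (((Cfsg.largestPReducedOf p M) : Subgroup G) : Set G)) ∧ (H.subgroupOf (H ⊔ ((Q : Subgroup G).map (MulAut.conj (g : G)).toMonoidHom))).Normal ∧ (Cfsg.pResidual p ↥H).map H.subtype = (Cfsg.pResidual p ↥(H ⊔ ((Q : Subgroup G).map (MulAut.conj (g : G)).toMonoidHom))).map (H ⊔ ((Q : Subgroup G).map (MulAut.conj (g : G)).toMonoidHom)).subtype ∧ Cfsg.IsPIrreducible p ↥(H ⊔ ((Q : Subgroup G).map (MulAut.conj (g : G)).toMonoidHom)) := by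
  set Y := Cfsg.largestPReducedOf p M
  set P := Cfsg.pCoreOf p M
  set Q' := Q.map (MulAut.conj g).toMonoidHom
  set J := H ⊔ Q'
  set R := resOf p H
  set O := Cfsg.pCoreOf p H
  obtain ⟨hRY, hRP, -, hPc⟩ := frakH_facts S hQp hQ1 hQ hSM hM hasym hH
  have hwc := frakM_wc S hQp hQ1 hQ hSM hM hasym
  have hPd := frakM_normalizer_core_le S hQp hQ1 hQ hSM hM
  have hPY : normalizer (P : Set G) ≤ normalizer (Y : Set G) :=
    hPd.trans (frakM_le_normalizer p M)
  have hYP : Y ≤ P := frakM_largest_le p M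
  have hYH : Y ≤ H := hYP.trans hH.2.1
  have hQ'p : IsPGroup p Q' := isPGroup_map_conj hQp g
  have hQ'O : Q' ≤ Cfsg.pCoreOf p J :=
    LocalStructure.le_pCoreOf le_sup_right (sup_le hHQ Subgroup.le_normalizer) hQ'p
  have hOJ : Cfsg.pCoreOf p J ≤ normalizer (P : Set G) :=
    wc_le_normalizer' hwc (isPGroup_pCoreOf p J)
      ((hH.2.1.trans le_sup_left).trans (le_normalizer_pCoreOf p J))
  have hQ'P : Q' ≤ normalizer (P : Set G) := hQ'O.trans hOJ
  have hY1 : Y ≠ ⊥ := fun e => hH.2.2.1 (e.le.trans bot_le)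
  have hNY : normalizer (Y : Set G) = M ⊔ Subgroup.centralizer (Y : Set G) :=
    le_antisymm (frakM_normalizer_le_dagger S hQp hQ1 hQ hSM hM
      ((isPGroup_pCoreOf p M).to_le hYP) hY1 (le_normalizer_largest M)) (frakM_le_normalizer p M)
  have hQ'H : Q' ≤ normalizer (H : Set G) := by
    intro q hq
    refine mem_normalizer_of_map_conj_le ?_
    conv_lhs => rw [← hPc, map_normalClosure_subgroupOf hH.2.1]
    rw [MonoidHom.map_closure, Subgroup.closure_le]
    rintro _ ⟨_, ⟨h, hh, a, ha, rfl⟩, rfl⟩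
    show q * (h * a * h⁻¹) * q⁻¹ ∈ H
    have hq2 : h⁻¹ * q * h ∈ Q' := (mem_normalizer_iff''.1 (hHQ hh) q).1 hq
    have ha' : (h⁻¹ * q * h) * a * (h⁻¹ * q * h)⁻¹ ∈ P :=
      (mem_normalizer_iff.1 (hQ'P hq2) a).1 ha
    have e : q * (h * a * h⁻¹) * q⁻¹ =
        h * ((h⁻¹ * q * h) * a * (h⁻¹ * q * h)⁻¹) * h⁻¹ := by group
    rw [e]
    exact H.mul_mem (H.mul_mem hh (hH.2.1 ha')) (H.inv_mem hh)
  have hJH : J ≤ normalizer (H : Set G) := sup_le Subgroup.le_normalizer hQ'H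
  have hJR : J ≤ normalizer (R : Set G) := hJH.trans (normalizer_le_normalizer_resOf p H)
  have hJO : J ≤ normalizer (O : Set G) := hJH.trans (normalizer_le_normalizer_pCoreOf H)
  have hresH : resOf p J ≤ H := resOf_le_of_le_sup hQ'H hQ'p
    ((resOf_le p J).trans (le_of_eq (sup_comm H Q')))
  have hresJ : resOf p J = R :=
    le_antisymm ((resOf_resOf p J).ge.trans (resOf_mono hresH)) (resOf_mono le_sup_left)
  refine ⟨hQ'O, hOJ, hPY, hNY, (normal_subgroupOf_iff_le_normalizer le_sup_left).2 hJH,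
    hresJ.symm, ?_, ?_⟩
  · intro hcl
    apply hH.2.2.1
    refine le_trans ?_ (pCoreOf_inf_le (le_sup_left : H ≤ J))
    exact le_inf (isPClosed_sub_iff.1 hcl Y (hYH.trans le_sup_left)
      ((isPGroup_pCoreOf p M).to_le hYP)) hYH
  intro Ns hNs hnc
  set N := Ns.map J.subtype
  have hNJ : N ≤ J := map_subtype_le _
  have hJN : J ≤ normalizer (N : Set G) := by
    rw [← normal_subgroupOf_iff_le_normalizer hNJ]
    show (N.comap J.subtype).Normal
    rwa [comap_map_eq_self_of_injective J.subtype_injective]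
  by_contra hres
  apply hnc
  have hgoal : ¬ R ≤ N := fun h => hres fun x hx => by
    have h1 : (x : G) ∈ resOf p J := mem_map.2 ⟨x, hx, rfl⟩
    obtain ⟨y, hy, e⟩ := mem_map.1 (h (hresJ ▸ h1))
    rwa [show x = y from Subtype.ext e.symm]
  obtain ⟨T, hPT, hT⟩ := exists_isSylowIn_le (isPGroup_pCoreOf p M) (hH.2.1.trans le_sup_left : P ≤ J)
  have hTY : T ≤ normalizer (Y : Set G) := (wc_le_normalizer hwc hT.2.1 hPT).trans hPY
  have hRP' : ∀ {A : Subgroup G}, A ≤ R → A ≤ J := fun h => (h.trans (resOf_le p H)).trans le_sup_left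
  have close : ∀ K : Subgroup G, K ≤ J → J ≤ normalizer (K : Set G) →
      ⁅R, T ⊓ K⁆ ≤ O → T ⊓ K ≤ Cfsg.pCoreOf p K := by
    intro K hKJ hJK hc
    exact le_trans (le_inf (le_pCoreOf_of_centralized (isPGroup_pCoreOf p H)
      ((pCoreOf_le p H).trans le_sup_left) hJO hKJ (hT.inf_normal hKJ hJK)
      ((commutator_mono ((resOf_mono hKJ).trans hresJ.le) le_rfl).trans hc)) inf_le_right)
      (pCoreOf_inf_le le_sup_left)
  set N1 := N ⊓ H
  have hN1J : N1 ≤ J := inf_le_left.trans hNJ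
  have hJN1 : J ≤ normalizer (N1 : Set G) := le_normalizer_inf hJN hJH
  have hN1O : Cfsg.pCoreOf p N1 ≤ O := LocalStructure.le_pCoreOf
    ((pCoreOf_le p N1).trans inf_le_right)
    ((le_sup_left.trans hJN1).trans (normalizer_le_normalizer_pCoreOf N1)) (isPGroup_pCoreOf p N1)
  have hJ1 : P ⊔ N1 < H := by
    refine lt_of_le_of_ne (sup_le hH.2.1 inf_le_right) fun e => hgoal ?_
    exact (resOf_le_of_le_sup ((hH.2.1.trans le_sup_left).trans hJN1) (isPGroup_pCoreOf p M)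
      ((resOf_le p H).trans e.ge)).trans inf_le_left
  have hN1Y : ⁅N1, Y⁆ ≤ O := by
    refine le_trans (le_trans (le_inf ?_ ?_) (pCoreOf_inf_le (le_sup_right : N1 ≤ P ⊔ N1))) hN1O
    · exact (commutator_mono le_rfl (hH.2.2.2 _ le_sup_left hJ1)).trans
        (le_normalizer_iff_commutator_le_right.1
          (le_sup_right.trans (le_normalizer_pCoreOf p _)))
    · exact le_normalizer_iff_commutator_le_left.1 ((hYH.trans le_sup_left).trans hJN1)
  have gen : ∀ n ∈ normalizer (H : Set G) ⊓ normalizer (O : Set G) ⊓ normalizer (Y : Set G),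
      (∀ r ∈ R, ⁅r, n⁆ ∈ N1) → (∀ y ∈ Y, ⁅n, y⁆ ∈ O) → ∀ r ∈ R, ⁅r, n⁆ ∈ O := by
    rintro n ⟨⟨hnH, hnO⟩, hnY⟩ hrn hyn
    let C2 : Subgroup G :=
      { carrier := {x | x ∈ H ∧ ⁅x, n⁆ ∈ O}
        one_mem' := ⟨H.one_mem, by simp⟩
        mul_mem' := by
          rintro a b ⟨ha, ha'⟩ ⟨hb, hb'⟩
          refine ⟨H.mul_mem ha hb, ?_⟩
          have e : ⁅a * b, n⁆ = a * ⁅b, n⁆ * a⁻¹ * ⁅a, n⁆ := by
            simp only [commutatorElement_def]; group
          rw [e]
          exact O.mul_mem ((mem_normalizer_iff.1 (le_normalizer_pCoreOf p H ha) _).1 hb') ha'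
        inv_mem' := by
          rintro a ⟨ha, ha'⟩
          refine ⟨H.inv_mem ha, ?_⟩
          have e : ⁅a⁻¹, n⁆ = a⁻¹ * ⁅a, n⁆⁻¹ * a := by simp only [commutatorElement_def]; group
          rw [e]
          exact (mem_normalizer_iff''.1 (le_normalizer_pCoreOf p H ha) _).1 (O.inv_mem ha') }
    suffices hle : R ≤ C2 from fun r hr => (hle hr).2
    have hrJ : ∀ r ∈ R, r ∈ H := resOf_le p H
    have hconj : ∀ r ∈ R, ∀ y ∈ Y, r * y * r⁻¹ ∈ C2 := by
      intro r hr y hy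
      refine ⟨H.mul_mem (H.mul_mem (hrJ r hr) (hYH hy)) (H.inv_mem (hrJ r hr)), ?_⟩
      set z := ⁅r⁻¹, n⁆ with hz
      have hzN : z ∈ N1 := hrn _ (R.inv_mem hr)
      have h1 : ⁅y, n⁆ ∈ O := by rw [← commutatorElement_inv]; exact O.inv_mem (hyn y hy)
      have hy' : n * y * n⁻¹ ∈ Y := (mem_normalizer_iff.1 hnY y).1 hy
      have h2 : ⁅n * y * n⁻¹, z⁆ ∈ O := by
        rw [← commutatorElement_inv]
        exact O.inv_mem (hN1Y (commutator_mem_commutator hzN hy'))
      have e : ⁅r * y * r⁻¹, n⁆ =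
          r * (⁅y, n⁆ * ⁅n * y * n⁻¹, z⁆) * r⁻¹ := by
        rw [hz]; simp only [commutatorElement_def]; group
      rw [e]
      exact (mem_normalizer_iff.1 (le_normalizer_pCoreOf p H (hrJ r hr)) _).1 (O.mul_mem h1 h2)
    refine hRY.ge.trans (Subgroup.commutator_le.2 fun r hr y hy => ?_)
    rw [commutatorElement_def]
    refine C2.mul_mem (hconj r hr y hy) (C2.inv_mem ?_)
    simpa using hconj 1 R.one_mem y hy
  have hn1mem : ∀ {A : Subgroup G}, A ≤ T →
      A ≤ normalizer (H : Set G) ⊓ normalizer (O : Set G) ⊓ normalizer (Y : Set G) := fun hA =>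
    le_inf (le_inf (hA.trans (hT.1.trans hJH)) (hA.trans (hT.1.trans hJO))) (hA.trans hTY)
  have hRN1 : ⁅R, T ⊓ N1⁆ ≤ O := by
    refine Subgroup.commutator_le.2 fun r hr n hn => gen n (hn1mem inf_le_left hn) ?_ ?_ r hr
    · intro s hs
      exact le_normalizer_iff_commutator_le_right.1 ((hRP' le_rfl).trans hJN1)
        (commutator_mem_commutator hs hn.2)
    · exact fun y hy => hN1Y (commutator_mem_commutator hn.2 hy)
  have hTN1 : T ⊓ N1 ≤ O := (close N1 hN1J hJN1 hRN1).trans hN1O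
  have hRN : ⁅R, T ⊓ N⁆ ≤ O := by
    refine Subgroup.commutator_le.2 fun r hr n hn => gen n (hn1mem inf_le_left hn) ?_ ?_ r hr
    · intro s hs
      exact ⟨le_normalizer_iff_commutator_le_right.1 ((hRP' le_rfl).trans hJN)
          (commutator_mem_commutator hs hn.2),
        le_normalizer_iff_commutator_le_left.1 (hNJ.trans hJH)
          (commutator_mem_commutator (resOf_le p H hs) hn.2)⟩
    · intro y hy
      have h := commutator_mem_commutator hn.1 hy
      have hyY := le_normalizer_iff_commutator_le_right.1 hTY h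
      exact hTN1 ⟨hPT (hYP hyY),
        le_normalizer_iff_commutator_le_left.1 ((hYH.trans le_sup_left).trans hJN)
          (commutator_mem_commutator hn.2 hy), hYH hyY⟩
  have hS := hT.inf_normal hNJ hJN
  have e := le_antisymm (close N hNJ hJN hRN) hS.pCoreOf_le
  have hNcl : Cfsg.IsPClosed p ↥N :=
    (isPClosed_sub_iff_sylow hS).2 (e ▸ le_normalizer_pCoreOf p N)
  rw [isPClosed_normal_iff hNs]
  intro A hA hAp x hx
  have h1 := le_pCoreOf_of_isPClosed hNJ hJN hNcl (Subgroup.map_mono hA) (hAp.map J.subtype)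
    (mem_map_of_mem J.subtype hx)
  exact (subgroupOf_pCoreOf p J).le h1

end Cfsg.Agent.S2854
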