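import Cfsg.Statements.S2855
import Cfsg.Agent.Lib.LocalStructure.Basic
import Cfsg.Agent.Lib.LocalStructure.PClosed
import Cfsg.Agent.Lib.LocalStructure.IrreducibleProduct
import Cfsg.Agent.Lib.LocalStructure.Minimal
import Cfsg.Agent.Lib.PCore.Basic
import Cfsg.Agent.S2827
import Cfsg.Agent.S2829

set_option autoImplicit false
open Cfsg
open Subgroup Cfsg.Agent.LocalStructure
open scoped commutatorElement

namespace Cfsg.Agent.S2855

/-- Let H be a finite group, p a prime, and 𝒦 a nonempty set of subgroups of H permuted transitively by conjugation, with R the subgroup generated by the members of 𝒦. Suppose O^p(H) ≤ R, each E ∈ 𝒦 has E·O_p(H) normal in R·O_p(H), and each E ∈ 𝒦 is p-minimal (generated by the conjugates of a Sylow p-subgroup T_E of E, with T_E in exactly one maximal subgroup of E). Then H is p-minimal in the same sense. If instead each E ∈ 𝒦 is strongly p-irreducible, then H is p-irreducible and, for E, K ∈ 𝒦, either O^p(E·O_p(H)) = O^p(K·O_p(H)) or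 [E, K] ≤ O_p(H). -/
theorem result {H : Type*} [Group H] [Finite H] {p : ℕ} [Fact p.Prime] (𝒦 : Set (Subgroup H)) (hne : 𝒦.Nonempty) (hinv : ∀ h : H, ∀ E ∈ 𝒦, E.map (MulAut.conj h).toMonoidHom ∈ 𝒦) (htr : ∀ E ∈ 𝒦, ∀ K ∈ 𝒦, ∃ h : H, K = E.map (MulAut.conj h).toMonoidHom) (hres : Cfsg.pResidual p H ≤ sSup 𝒦) (hnorm : ∀ E ∈ 𝒦, sSup 𝒦 ⊔ Cfsg.pCore p H ≤ Subgroup.normalizer ((E ⊔ Cfsg.pCore p H : Subgroup H) : Set H)) : ((∀ E ∈ 𝒦, ∀ T : Sylow p ↥E, Cfsg.IsMinimalOver (T : Subgroup ↥E)) → ∀ T : Sylow p H, Cfsg.IsMinimalOver (T : Subgroup H)) ∧ ((∀ E ∈ 𝒦, Cfsg.IsStronglyPIrreducible p ↥E) → Cfsg.IsPIrreducible p H ∧ ∀ E ∈ 𝒦, ∀ K ∈ 𝒦, (Cfsg.pResidual p ↥(E ⊔ Cfsg.pCore p H)).map (E ⊔ Cfsg.pCore p H).subtype = (Cfsg.pResidual p ↥(K ⊔ Cfsg.pCore p H)).map (K ⊔ Cfsg.pCore p H).subtype ∨ ⁅E, K⁆ ≤ Cfsg.pCore p H) := by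
  set O := Cfsg.pCore p H with hOdef
  set R := sSup 𝒦 with hRdef
  have hOn : O.Normal := LocalStructure.pCore_normal p H
  have hOp : IsPGroup p O := isPGroup_pCore p
  have hRn : R.Normal := by
    rw [← normalizer_eq_top_iff, eq_top_iff]
    intro h _
    apply mem_normalizer_of_map_conj_le
    rw [hRdef, sSup_eq_iSup', Subgroup.map_iSup]
    exact iSup_le fun E => le_iSup_of_le ⟨_, hinv h E E.2⟩ le_rfl
  have hER : ∀ {E : Subgroup H}, E ∈ 𝒦 → E ≤ R := fun hE => le_sSup hE
  have hRO : ∀ {E : Subgroup H}, E ∈ 𝒦 → E ⊔ O ≤ R ⊔ O := fun hE => sup_le_sup_right (hER hE) _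
  have hROn : (R ⊔ O).Normal := inferInstance
  have hdec : ∀ (T : Sylow p H) (h : H), ∃ t ∈ (T : Subgroup H), ∃ r ∈ R, h = t * r := by
    intro T h
    have h1 : h ∈ (T : Subgroup H) ⊔ R := by
      have e := pResidual_sup_sylow T
      exact (sup_le (hres.trans le_sup_right) le_sup_left : pResidual p H ⊔ (T : Subgroup H) ≤ _) (e ▸ Subgroup.mem_top h)
    obtain ⟨t, ht, r, hr, e⟩ := exists_mul_of_mem_sup le_normalizer_of_normal h1
    exact ⟨t, ht, r, hr, e.symm⟩
  have htrT : ∀ (T : Sylow p H) (E K : Subgroup H), E ∈ 𝒦 → K ∈ 𝒦 →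
      ∃ t ∈ (T : Subgroup H), K ⊔ O = (E ⊔ O).map (MulAut.conj t).toMonoidHom := by
    intro T E K hE hK
    obtain ⟨h, rfl⟩ := htr E hE K hK
    obtain ⟨t, ht, r, hr, rfl⟩ := hdec T h
    refine ⟨t, ht, ?_⟩
    conv_rhs => rw [← map_conj_eq_self (hnorm E hE (Subgroup.mem_sup_left hr)), ← map_conj_mul,
      Subgroup.map_sup, map_conj_eq_self (normalizer_eq_top_iff.2 hOn ▸ Subgroup.mem_top _ : t * r ∈ normalizer (O : Set H))]
  refine ⟨fun hmin T => ?_, fun hstr => ?_⟩
  · have hOT : O ≤ (T : Subgroup H) := hOp.le_sylow_of_normal T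
    have hTn : ∀ t ∈ (T : Subgroup H), t ∈ normalizer ((T : Subgroup H) : Set H) := fun t ht => Subgroup.le_normalizer ht
    have hSylF : ∀ {E : Subgroup H}, E ∈ 𝒦 → IsSylowIn p ((T : Subgroup H) ⊓ (E ⊔ O)) (E ⊔ O) := by
      intro E hE
      have h1 := ((isSylowIn_of_sylow T le_top).inf_normal (N := R ⊔ O) le_top le_normalizer_of_normal).inf_normal
        (hRO hE) (hnorm E hE)
      rwa [inf_assoc, inf_eq_right.2 (hRO hE)] at h1
    have hSylE : ∀ {E : Subgroup H}, E ∈ 𝒦 → IsSylowIn p ((T : Subgroup H) ⊓ E) E := by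
      intro E hE
      refine ⟨inf_le_right, T.2.to_le inf_le_left, fun Y h1 h2 h3 => le_antisymm (le_inf ?_ h2) h1⟩
      have h4 : (T : Subgroup H) ⊓ (E ⊔ O) ≤ Y ⊔ O := by
        rintro x ⟨hxT, hx⟩
        obtain ⟨e, he, o, ho, rfl⟩ := exists_mul_of_mem_sup le_normalizer_of_normal hx
        refine Subgroup.mul_mem _ (Subgroup.mem_sup_left (h1 ⟨?_, he⟩)) (Subgroup.mem_sup_right ho)
        have := (T : Subgroup H).mul_mem hxT ((T : Subgroup H).inv_mem (hOT ho))
        rwa [mul_inv_cancel_right] at this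
      have h5 := (hSylF hE).2.2 (Y ⊔ O) h4 (sup_le_sup_right h2 _)
        (isPGroup_sup h3 hOp le_normalizer_of_normal)
      exact le_sup_left.trans (h5.le.trans inf_le_left)
    have hW : ∀ E ∈ 𝒦, ∃ W : Subgroup H, (T : Subgroup H) ⊓ (E ⊔ O) ≤ W ∧ W < E ⊔ O ∧
        (∀ X : Subgroup H, (T : Subgroup H) ⊓ (E ⊔ O) ≤ X → X < E ⊔ O → X ≤ W) ∧
        ¬ E ⊔ O ≤ normalizer (W : Set H) := by
      intro E hE
      obtain ⟨P, hP⟩ := (hSylE hE).exists_sylow
      have hm : Cfsg.IsMinimalOver (((T : Subgroup H) ⊓ E).subgroupOf E) := hP ▸ hmin E hE P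
      obtain ⟨M, ⟨hM, hTM⟩, -⟩ := id hm.2
      have hT' : ∀ x ∈ (T : Subgroup H) ⊓ E, x ∈ M.map E.subtype := fun x hx =>
        ⟨⟨x, hx.2⟩, hTM hx, rfl⟩
      have hWlt : M.map E.subtype ⊔ O < E ⊔ O := by
        refine lt_of_le_of_ne (sup_le_sup_right (map_subtype_le _) _) fun e => hM.1 ?_
        rw [eq_top_iff]
        intro x _
        have hx : (x : H) ∈ M.map E.subtype ⊔ O := e ▸ Subgroup.mem_sup_left x.2
        obtain ⟨m, hm', o, ho, hmo⟩ := exists_mul_of_mem_sup le_normalizer_of_normal hx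
        have hoE : o ∈ E := by
          have : o = m⁻¹ * (x : H) := by rw [← hmo, inv_mul_cancel_left]
          exact this ▸ E.mul_mem (E.inv_mem (map_subtype_le _ hm')) x.2
        obtain ⟨z, hz, hzx⟩ := (M.map E.subtype).mul_mem hm' (hT' o ⟨hOT ho, hoE⟩)
        have : z = x := Subtype.ext (hzx.trans hmo)
        exact this ▸ hz
      refine ⟨M.map E.subtype ⊔ O, ?_, hWlt, ?_, ?_⟩
      · rintro x ⟨hxT, hx⟩
        obtain ⟨e, he, o, ho, rfl⟩ := exists_mul_of_mem_sup le_normalizer_of_normal hx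
        refine Subgroup.mul_mem _ (Subgroup.mem_sup_left (hT' _ ⟨?_, he⟩)) (Subgroup.mem_sup_right ho)
        have := (T : Subgroup H).mul_mem hxT ((T : Subgroup H).inv_mem (hOT ho))
        rwa [mul_inv_cancel_right] at this
      · intro X hTX hX x hx
        have hOX : O ≤ X := fun o ho => hTX ⟨hOT ho, Subgroup.mem_sup_right ho⟩
        have hne' : X.subgroupOf E ≠ ⊤ := fun e =>
          hX.not_ge (sup_le (subgroupOf_eq_top.1 e) hOX)
        have hle := minOver_le hm hM hTM (X := X.subgroupOf E)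
          (fun y hy => hTX ⟨hy.1, Subgroup.mem_sup_left y.2⟩) hne'
        obtain ⟨e, he, o, ho, rfl⟩ := exists_mul_of_mem_sup le_normalizer_of_normal (hX.le hx)
        refine Subgroup.mul_mem _ (Subgroup.mem_sup_left ?_) (Subgroup.mem_sup_right ho)
        have he' : e ∈ X := by simpa using X.mul_mem hx (X.inv_mem (hOX ho))
        exact ⟨⟨e, he⟩, hle he', rfl⟩
      · intro hn
        have h1 := minOver_not_normal hm hM hTM
        apply hM.1
        rw [← h1, normalizer_eq_top_iff]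
        have hWe : (M.map E.subtype ⊔ O).subgroupOf E = M := by
          refine le_antisymm (minOver_le hm hM hTM (fun y hy => ?_) ?_) (fun y hy => ?_)
          · exact Subgroup.mem_sup_left (hT' _ hy)
          · exact fun e => hWlt.not_ge (sup_le (subgroupOf_eq_top.1 e) le_sup_right)
          · exact Subgroup.mem_sup_left ⟨y, hy, rfl⟩
        rw [← hWe]
        exact ⟨fun n hn' g => (mem_normalizer_iff.1 (hn (Subgroup.mem_sup_left g.2)) _).1 hn'⟩
    choose W hW1 hW2 hW3 hW4 using hW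
    set 𝒲 : Set (Subgroup H) := {X | ∃ (E : Subgroup H) (hE : E ∈ 𝒦), X = W E hE} with h𝒲
    set 𝔇 : Subgroup H :=
      { carrier := {h | ∀ X, X.map (MulAut.conj h).toMonoidHom ∈ 𝒲 ↔ X ∈ 𝒲}
        one_mem' := fun X => by rw [map_conj_one]
        mul_mem' := fun {a b} ha hb X => by rw [map_conj_mul, ha, hb]
        inv_mem' := fun {a} ha X => by rw [← ha, ← map_conj_mul, mul_inv_cancel, map_conj_one] }
    have hWconj : ∀ (E : Subgroup H) (hE : E ∈ 𝒦) (t : H),
        t ∈ normalizer (((T : Subgroup H) ⊓ (R ⊔ O) : Subgroup H) : Set H) →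
        ∃ (K : Subgroup H) (hK : K ∈ 𝒦), K = E.map (MulAut.conj t).toMonoidHom ∧
          (W E hE).map (MulAut.conj t).toMonoidHom = W K hK := by
      intro E hE t ht
      refine ⟨_, hinv t E hE, rfl, ?_⟩
      set K := E.map (MulAut.conj t).toMonoidHom with hK
      have hKO : (E ⊔ O).map (MulAut.conj t).toMonoidHom = K ⊔ O := by
        rw [Subgroup.map_sup, map_conj_eq_self (normalizer_eq_top_iff.2 hOn ▸ Subgroup.mem_top t : t ∈ normalizer (O : Set H))]
      have hT2 : ((T : Subgroup H) ⊓ (E ⊔ O)).map (MulAut.conj t).toMonoidHom = (T : Subgroup H) ⊓ (K ⊔ O) := by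
        have e1 : (T : Subgroup H) ⊓ (E ⊔ O) = ((T : Subgroup H) ⊓ (R ⊔ O)) ⊓ (E ⊔ O) := by
          rw [inf_assoc, inf_eq_right.2 (hRO hE)]
        rw [e1, Subgroup.map_inf _ _ _ (MulAut.conj t).injective, map_conj_eq_self ht, hKO, inf_assoc,
          inf_eq_right.2 (hRO (hinv t E hE))]
      refine le_antisymm (hW3 K _ _ (hT2.ge.trans (Subgroup.map_mono (hW1 E hE))) ?_) ?_
      · rw [← hKO]
        exact (Subgroup.map_lt_map_iff_of_injective (MulAut.conj t).injective).2 (hW2 E hE)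
      · have h3 : (W K (hinv t E hE)).map (MulAut.conj t⁻¹).toMonoidHom ≤ W E hE := by
          refine hW3 E hE _ ?_ ?_
          · have := Subgroup.map_mono (f := (MulAut.conj t⁻¹).toMonoidHom) (hT2.le.trans (hW1 K (hinv t E hE)))
            rwa [← map_conj_mul, inv_mul_cancel, map_conj_one] at this
          · have e : (K ⊔ O).map (MulAut.conj t⁻¹).toMonoidHom = E ⊔ O := by
              rw [← hKO, ← map_conj_mul, inv_mul_cancel, map_conj_one]
            rw [← e]
            exact (Subgroup.map_lt_map_iff_of_injective (MulAut.conj t⁻¹).injective).2 (hW2 K _)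
        have := Subgroup.map_mono (f := (MulAut.conj t).toMonoidHom) h3
        rwa [← map_conj_mul, mul_inv_cancel, map_conj_one] at this
    have hmem𝔇 : ∀ h : H, (∀ (E : Subgroup H) (hE : E ∈ 𝒦), (W E hE).map (MulAut.conj h).toMonoidHom ∈ 𝒲) → h ∈ 𝔇 := by
      intro h hh
      have hinj : Function.Injective fun X : Subgroup H => X.map (MulAut.conj h).toMonoidHom :=
        Subgroup.map_injective (MulAut.conj h).injective
      have hsub : (fun X : Subgroup H => X.map (MulAut.conj h).toMonoidHom) '' 𝒲 ⊆ 𝒲 := by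
        rintro _ ⟨_, ⟨E, hE, rfl⟩, rfl⟩
        exact hh E hE
      have heq := Set.eq_of_subset_of_ncard_le hsub (by rw [Set.ncard_image_of_injective _ hinj]) (Set.toFinite _)
      intro X
      refine ⟨fun hX => ?_, fun hX => hsub ⟨X, hX, rfl⟩⟩
      rw [← heq] at hX
      obtain ⟨Y, hY, e⟩ := hX
      exact hinj e ▸ hY
    have hT𝔇 : (T : Subgroup H) ≤ 𝔇 := by
      intro t ht
      refine hmem𝔇 t fun E hE => ?_
      have hle : ((T : Subgroup H) ⊓ (R ⊔ O)).map (MulAut.conj t).toMonoidHom ≤ (T : Subgroup H) ⊓ (R ⊔ O) :=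
        (Subgroup.map_inf_le _ _ _).trans (inf_le_inf (map_conj_eq_self (hTn t ht)).le
          (map_conj_eq_self (normalizer_eq_top_iff.2 hROn ▸ Subgroup.mem_top t)).le)
      obtain ⟨K, hK, -, e⟩ := hWconj E hE t (mem_normalizer_of_map_conj_le hle)
      exact ⟨K, hK, e⟩
    have h𝔇 : 𝔇 ≠ ⊤ := by
      intro htop
      obtain ⟨E, hE⟩ := hne
      apply hW4 E hE
      intro f hf
      apply mem_normalizer_of_map_conj
      obtain ⟨K, hK, e⟩ : (W E hE).map (MulAut.conj f).toMonoidHom ∈ 𝒲 :=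
        ((htop ▸ Subgroup.mem_top f : f ∈ 𝔇) _).2 ⟨E, hE, rfl⟩
      have hlt : (W E hE).map (MulAut.conj f).toMonoidHom < E ⊔ O := by
        conv_rhs => rw [← map_conj_eq_self (Subgroup.le_normalizer hf : f ∈ normalizer ((E ⊔ O : Subgroup H) : Set H))]
        exact (Subgroup.map_lt_map_iff_of_injective (MulAut.conj f).injective).2 (hW2 E hE)
      obtain ⟨t, ht, hKO⟩ := htrT T E K hE hK
      have h1 : (T : Subgroup H) ⊓ (K ⊔ O) = ((T : Subgroup H) ⊓ (E ⊔ O)).map (MulAut.conj t).toMonoidHom := by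
        rw [hKO, Subgroup.map_inf _ _ _ (MulAut.conj t).injective, map_conj_eq_self (hTn t ht)]
      have h2 : (T : Subgroup H) ⊓ (K ⊔ O) = (T : Subgroup H) ⊓ (E ⊔ O) :=
        Subgroup.eq_of_le_of_card_ge (le_inf inf_le_left ((hW1 K hK).trans (e ▸ hlt.le)))
          (by rw [h1, card_map_conj])
      refine Subgroup.eq_of_le_of_card_ge (hW3 E hE _ ?_ hlt) (by rw [card_map_conj])
      rw [e, ← h2]
      exact hW1 K hK
    have hncl : Subgroup.normalClosure ((T : Subgroup H) : Set H) = ⊤ := by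
      set N := Subgroup.normalClosure ((T : Subgroup H) : Set H) with hN
      have hTN : (T : Subgroup H) ≤ N := Subgroup.le_normalClosure
      have hEN : ∀ E ∈ 𝒦, E ≤ N := by
        intro E hE
        obtain ⟨P, hP⟩ := (hSylE hE).exists_sylow
        rw [← subgroupOf_eq_top, eq_top_iff, ← (hmin E hE P).1]
        refine Subgroup.normalClosure_le_normal ?_
        rw [hP]
        exact fun x hx => hTN hx.1
      rw [eq_top_iff, ← pResidual_sup_sylow T]
      exact sup_le (hres.trans (sSup_le hEN)) hTN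
    refine ⟨hncl, ?_⟩
    have huniq : ∀ M : Subgroup H, IsCoatom M ∧ (T : Subgroup H) ≤ M → M = 𝔇 := by
      rintro M ⟨hM, hTM⟩
      refine ((hM.le_iff.1 ?_).resolve_left h𝔇).symm
      intro m hm
      obtain ⟨t, ht, r, hr, rfl⟩ := hdec T m
      refine 𝔇.mul_mem (hT𝔇 ht) (hmem𝔇 r fun E hE => ?_)
      have hrM : r ∈ M := by simpa using M.mul_mem (M.inv_mem (hTM ht)) hm
      have hne' : M ⊓ (E ⊔ O) < E ⊔ O := by
        refine lt_of_le_of_ne inf_le_right fun e => hM.1 ?_
        have hEM : E ⊔ O ≤ M := inf_eq_right.1 e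
        rw [eq_top_iff, ← pResidual_sup_sylow T]
        refine sup_le (hres.trans (sSup_le fun K hK => ?_)) hTM
        obtain ⟨t', ht', hKO⟩ := htrT T E K hE hK
        exact le_sup_left.trans (hKO.le.trans (map_conj_le hEM (hTM ht')))
      have hrF : r ∈ normalizer ((E ⊔ O : Subgroup H) : Set H) := hnorm E hE (Subgroup.mem_sup_left hr)
      have hsylM := (hSylF hE).mono (K := M ⊓ (E ⊔ O)) (le_inf (inf_le_left.trans hTM) inf_le_right) inf_le_right
      obtain ⟨n, hn, hnr⟩ := hsylM.frattini (L := M ⊓ normalizer ((E ⊔ O : Subgroup H) : Set H))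
        (le_normalizer_inf (inf_le_left.trans Subgroup.le_normalizer) inf_le_right) ⟨hrM, hrF⟩
      have hnW : n ∈ W E hE :=
        hW3 E hE _ (le_inf (inf_le_left.trans hTM) inf_le_right) hne' hn
      refine ⟨E, hE, ?_⟩
      have hlt : (W E hE).map (MulAut.conj (n * r)).toMonoidHom < E ⊔ O := by
        conv_rhs => rw [← map_conj_eq_self
          (mul_mem (Subgroup.le_normalizer hn.2) hrF : n * r ∈ normalizer ((E ⊔ O : Subgroup H) : Set H))]
        exact (Subgroup.map_lt_map_iff_of_injective (MulAut.conj (n * r)).injective).2 (hW2 E hE)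
      have h3 : (W E hE).map (MulAut.conj (n * r)).toMonoidHom = W E hE := by
        refine Subgroup.eq_of_le_of_card_ge (hW3 E hE _ ?_ hlt) (by rw [card_map_conj])
        conv_lhs => rw [← map_conj_eq_self hnr]
        exact Subgroup.map_mono (hW1 E hE)
      have h4 := map_conj_eq_self (Subgroup.le_normalizer ((W E hE).inv_mem hnW))
      calc (W E hE).map (MulAut.conj r).toMonoidHom
          = ((W E hE).map (MulAut.conj (n * r)).toMonoidHom).map (MulAut.conj n⁻¹).toMonoidHom := by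
            rw [← map_conj_mul, inv_mul_cancel_left]
        _ = W E hE := by rw [h3, h4]
    obtain ⟨M, hM, hle⟩ := (eq_top_or_exists_le_coatom 𝔇).resolve_left h𝔇
    exact ⟨M, ⟨hM, hT𝔇.trans hle⟩, fun M' h' => (huniq M' h').trans (huniq M ⟨hM, hT𝔇.trans hle⟩).symm⟩
  set π := QuotientGroup.mk' O with hπ
  have hπs : Function.Surjective π := QuotientGroup.mk'_surjective _
  have hker : π.ker = O := QuotientGroup.ker_mk' _
  have hQ : Cfsg.pCore p (H ⧸ O) = ⊥ := Cfsg.Agent.PCore.pCore_quotient_self_eq_bot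
  have hRb : (R.map π).Normal := hRn.map π hπs
  have hmapsup : ∀ E : Subgroup H, (E ⊔ O).map π = E.map π := fun E => by
    rw [Subgroup.map_sup, (Subgroup.map_eq_bot_iff O).2 hker.ge, sup_bot_eq]
  have hEb : ∀ E ∈ 𝒦, R.map π ≤ normalizer ((E.map π : Subgroup (H ⧸ O)) : Set (H ⧸ O)) := by
    intro E hE
    rw [← hmapsup E]
    exact (Subgroup.map_mono (le_sup_left.trans (hnorm E hE))).trans (Subgroup.le_normalizer_map _)
  have hsubn : ∀ E ∈ 𝒦, (E.map π).IsSubnormal := fun E hE =>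
    .step _ (R.map π) (Subgroup.map_mono (hER hE)) hRb.isSubnormal
      ((normal_subgroupOf_iff_le_normalizer (Subgroup.map_mono (hER hE))).2 (hEb E hE))
  have hOE : ∀ E ∈ 𝒦, Cfsg.pCoreOf p E ≤ O := by
    intro E hE
    rw [← hker, ← Subgroup.map_eq_bot_iff, ← le_bot_iff, ← hQ]
    refine le_trans (le_pCoreOf (Subgroup.map_mono (LocalStructure.pCoreOf_le p E))
      ((Subgroup.map_mono (le_normalizer_pCoreOf p E)).trans (Subgroup.le_normalizer_map _))
      ((isPGroup_pCoreOf p E).map _)) (pCoreOf_le_of_isSubnormal (hsubn E hE))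
  have hirr : ∀ E ∈ 𝒦, Cfsg.IsPIrreducible p ↥E := fun E hE => Cfsg.Agent.S2829.result (hstr E hE)
  have hpow : ∀ E ∈ 𝒦, ∀ e ∈ E.map π, ∃ j : ℕ, e ^ p ^ j ∈ ⁅E.map π, E.map π⁆ := by
    rintro E hE _ ⟨x, hx, rfl⟩
    let T0 : Sylow p ↥E := default
    have h1 := (Cfsg.Agent.S2827.result (hirr E hE) T0).2.1
    have hn : (commutator ↥E).Normal := inferInstance
    obtain ⟨j, hj⟩ := exists_pow_mem_of_mem_sup (N := commutator ↥E) (P := (T0 : Subgroup ↥E))
      le_normalizer_of_normal T0.2 (x := ⟨x, hx⟩) (by rw [sup_comm, h1]; exact Subgroup.mem_top _)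
    refine ⟨j, ?_⟩
    rw [← map_pow, ← Subgroup.map_commutator]
    refine Subgroup.mem_map_of_mem π ?_
    rw [← Subgroup.map_subtype_commutator]
    exact ⟨_, hj, rfl⟩
  have hcase : ∀ E ∈ 𝒦, ∀ N : Subgroup H, E ≤ normalizer (N : Set H) →
      resOf p E ≤ N ∨ ⁅(N ⊓ E).map π, E.map π⁆ = ⊥ := by
    intro E hE N hn
    have hN' : (N.subgroupOf E).Normal :=
      ⟨fun a ha g => (mem_normalizer_iff.1 (hn g.2) _).1 ha⟩
    by_cases hc : ⁅N.subgroupOf E, (⊤ : Subgroup ↥E)⁆ ≤ Cfsg.pCore p ↥E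
    · right
      rw [← Subgroup.map_commutator, Subgroup.map_eq_bot_iff, hker]
      have h2 := Subgroup.map_mono (f := E.subtype) hc
      rw [Subgroup.map_commutator, subgroupOf_map_subtype, ← MonoidHom.range_eq_map, range_subtype] at h2
      exact h2.trans (hOE E hE)
    · left
      rintro x ⟨y, hy, rfl⟩
      exact (hstr E hE).2 _ hN' hc hy
  have hresEO : ∀ E ∈ 𝒦, ∀ x ∈ E ⊔ O, (orderOf x).Coprime p → x ∈ resOf p E ⊔ O := by
    intro E hE x hx hc
    obtain ⟨e, he, o, ho, rfl⟩ := exists_mul_of_mem_sup le_normalizer_of_normal hx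
    obtain ⟨k, hk⟩ := exists_pow_mem_resOf (p := p) he
    refine mem_of_pow_mem hc (k := k) ?_
    obtain ⟨o', ho', e'⟩ : ∃ o' ∈ O, (e * o) ^ p ^ k = e ^ p ^ k * o' := by
      refine ⟨(e ^ p ^ k)⁻¹ * (e * o) ^ p ^ k, ?_, (mul_inv_cancel_left _ _).symm⟩
      rw [← hker, MonoidHom.mem_ker, map_mul, map_inv, map_pow, map_pow, map_mul,
        show π o = 1 from hker.ge ho, mul_one, inv_mul_cancel]
    rw [e']
    exact Subgroup.mul_mem _ (Subgroup.mem_sup_left hk) (Subgroup.mem_sup_right ho')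
  have hpair : ∀ E ∈ 𝒦, ∀ K ∈ 𝒦, resOf p (E ⊔ O) = resOf p (K ⊔ O) ∨ ⁅(E ⊓ (K ⊔ O)).map π, E.map π⁆ = ⊥ := by
    intro E hE K hK
    rcases hcase E hE (K ⊔ O) ((hER hE).trans (le_sup_left.trans (hnorm K hK))) with h | h
    · left
      have h1 : resOf p (E ⊔ O) ≤ resOf p (K ⊔ O) := resOf_le_iff.2 fun x hx hc =>
        mem_resOf (sup_le h le_sup_right (hresEO E hE x hx hc)) hc
      refine Subgroup.eq_of_le_of_card_ge h1 ?_
      obtain ⟨g, e⟩ := htr E hE K hK
      have e2 : K ⊔ O = (E ⊔ O).map (MulAut.conj g).toMonoidHom := by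
        rw [e, Subgroup.map_sup, map_conj_eq_self (normalizer_eq_top_iff.2 hOn ▸ Subgroup.mem_top g : g ∈ normalizer (O : Set H))]
      have h2 : resOf p (K ⊔ O) ≤ (resOf p (E ⊔ O)).map (MulAut.conj g).toMonoidHom := by
        rw [e2]
        refine resOf_le_iff.2 ?_
        rintro _ ⟨y, hy, rfl⟩ hc
        refine Subgroup.mem_map_of_mem _ (mem_resOf hy ?_)
        rwa [← orderOf_conj g y]
      exact (Subgroup.card_le_of_le h2).trans (by rw [card_map_conj])
    · right
      rwa [inf_comm] at h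
  refine ⟨⟨?_, ?_⟩, fun E hE K hK => ?_⟩
  · intro hc
    obtain ⟨E, hE⟩ := hne
    exact (hirr E hE).1 (isPClosed_mono le_top (isPClosed_top_iff.2 hc))
  · intro N hN hNc
    by_cases hex : ∃ E ∈ 𝒦, resOf p E ≤ N
    · obtain ⟨E, hE, hEN⟩ := hex
      have hall : ∀ K ∈ 𝒦, resOf p K ≤ N := by
        intro K hK
        obtain ⟨g, rfl⟩ := htr E hE K hK
        refine resOf_le_iff.2 ?_
        rintro _ ⟨y, hy, rfl⟩ hc
        refine hN.conj_mem y (hEN (mem_resOf hy ?_)) g
        rwa [← orderOf_conj g y]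
      set θ := QuotientGroup.mk' N with hθ
      have hθs : Function.Surjective θ := QuotientGroup.mk'_surjective _
      have hθe : ∀ E ∈ 𝒦, IsPGroup p ((E ⊔ O).map θ) := by
        intro E hE
        have h1 : IsPGroup p (E.map θ) := by
          rintro ⟨_, x, hx, rfl⟩
          obtain ⟨k, hk⟩ := exists_pow_mem_resOf (p := p) hx
          refine ⟨k, Subtype.ext ?_⟩
          show θ x ^ p ^ k = 1
          rw [← map_pow]
          exact (QuotientGroup.eq_one_iff _).2 (hall E hE hk)
        rw [Subgroup.map_sup]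
        have := hOn.map θ hθs
        exact isPGroup_sup h1 (hOp.map _) le_normalizer_of_normal
      have hROp : IsPGroup p ((R ⊔ O).map θ) := by
        refine (isPGroup_pCore p).to_le (Subgroup.map_le_iff_le_comap.2 (sup_le (sSup_le fun E hE => ?_) ?_))
        · refine le_sup_left.trans (Subgroup.map_le_iff_le_comap.1 (le_pCore_of_isSubnormal ?_ (hθe E hE)))
          refine .step _ ((R ⊔ O).map θ) (Subgroup.map_mono (hRO hE)) (hROn.map θ hθs).isSubnormal
            ((normal_subgroupOf_iff_le_normalizer (Subgroup.map_mono (hRO hE))).2 ?_)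
          exact (Subgroup.map_mono (hnorm E hE)).trans (Subgroup.le_normalizer_map _)
        · exact Subgroup.map_le_iff_le_comap.1 (le_pCore (hOn.map θ hθs) (hOp.map _))
      refine pResidual_le_iff.2 fun x hx => ?_
      obtain ⟨k, hk⟩ := hROp ⟨θ x, Subgroup.mem_map_of_mem θ (Subgroup.mem_sup_left (hres (mem_pResidual hx)))⟩
      refine mem_of_pow_mem hx (k := k) ((QuotientGroup.eq_one_iff _).1 ?_)
      have := congrArg Subtype.val hk
      exact (map_pow θ x (p ^ k)).trans this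
    · push Not at hex
      exfalso
      apply hNc
      rw [isPClosed_normal_iff hN]
      intro Q hQN hQp'
      set Nb := N.map π with hNb
      have hNbn : Nb.Normal := hN.map π hπs
      have hc1 : ∀ E ∈ 𝒦, ⁅Nb ⊓ E.map π, E.map π⁆ = ⊥ := by
        intro E hE
        have h := (hcase E hE (N ⊔ O) le_normalizer_of_normal).resolve_left fun h => hex E hE ?_
        · rw [← le_bot_iff, ← h]
          refine Subgroup.commutator_mono ?_ le_rfl
          rintro _ ⟨⟨a, ha, rfl⟩, b, hb, hba⟩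
          refine ⟨b, ⟨?_, hb⟩, hba⟩
          have : a⁻¹ * b ∈ O := by rw [← hker, MonoidHom.mem_ker, map_mul, map_inv, hba, inv_mul_cancel]
          simpa using (N ⊔ O).mul_mem (Subgroup.mem_sup_left (T := O) ha) (Subgroup.mem_sup_right (S := N) this)
        · exact resOf_le_of_le_sup (N := N) (P := O) le_normalizer_of_normal hOp (h.trans (sup_comm _ _).le)
      have hA : ∀ a ∈ Nb ⊓ R.map π, ∀ E ∈ 𝒦, a ∈ centralizer ((E.map π : Subgroup (H ⧸ O)) : Set (H ⧸ O)) := by
        intro a ha E hE e he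
        set Z := Nb ⊓ E.map π with hZ
        have hZc : Z ≤ centralizer ((E.map π : Subgroup (H ⧸ O)) : Set (H ⧸ O)) :=
          Subgroup.commutator_eq_bot_iff_le_centralizer.1 (hc1 E hE)
        have hy : ∀ k ∈ E.map π, ⁅a, k⁆ ∈ Z := fun k hk => by
          refine ⟨?_, ?_⟩
          · exact Subgroup.commutator_le_left Nb (E.map π) (commutator_mem_commutator ha.1 hk)
          · rw [commutatorElement_def]
            exact (E.map π).mul_mem ((mem_normalizer_iff.1 (hEb E hE ha.2) k).1 hk) ((E.map π).inv_mem hk)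
        obtain ⟨j, hj⟩ := hpow E hE e he
        have h1 := commutator_pow_eq_one hZc (hZc.trans (Subgroup.centralizer_le inf_le_right)) hy he hj
        have h2 := eq_one_of_pElement_central hQ (Subgroup.map_mono (hER hE)) (hEb E hE) hRb (hy e he).2
          (hZc (hy e he)) h1
        rw [commutatorElement_eq_one_iff_mul_comm] at h2
        exact h2.symm
      set A := Nb ⊓ R.map π with hAdef
      have hAR : A ≤ centralizer ((R.map π : Subgroup (H ⧸ O)) : Set (H ⧸ O)) := by
        rw [Subgroup.le_centralizer_iff]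
        refine Subgroup.map_le_iff_le_comap.2 (sSup_le fun E hE => Subgroup.map_le_iff_le_comap.1 ?_)
        intro e he a ha
        exact (hA a ha E hE e he).symm
      obtain ⟨P, hP⟩ := exists_isSylowIn p Nb
      have hPA : P ≤ centralizer (A : Set (H ⧸ O)) := by
        rw [Subgroup.le_centralizer_iff]
        intro a ha
        rw [Subgroup.mem_centralizer_iff]
        intro y hy
        suffices h : R.map π ≤ centralizer ({y} : Set (H ⧸ O)) from
          ((Subgroup.mem_centralizer_singleton_iff.1 (h ha.2))).symm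
        refine Subgroup.map_le_iff_le_comap.2 (sSup_le fun E hE => Subgroup.map_le_iff_le_comap.1 ?_)
        intro e he
        rw [Subgroup.mem_centralizer_singleton_iff]
        have heR : e ∈ R.map π := Subgroup.map_mono (hER hE) he
        have hy' : ∀ k ∈ E.map π, ⁅y, k⁆ ∈ A := fun k hk => by
          refine ⟨Subgroup.commutator_le_left Nb (E.map π) (commutator_mem_commutator (hP.1 hy) hk), ?_⟩
          exact Subgroup.commutator_le_right ⊤ (R.map π)
            (commutator_mem_commutator (Subgroup.mem_top y) (Subgroup.map_mono (hER hE) hk))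
        obtain ⟨j, hj⟩ := hpow E hE e he
        have h1 := commutator_pow_eq_one (hAR.trans (Subgroup.centralizer_le (Subgroup.map_mono (hER hE))))
          (hAR.trans (Subgroup.centralizer_le inf_le_right)) hy' he hj
        have h2 := eq_one_of_pElement_central hQ (E := R.map π) le_rfl Subgroup.le_normalizer hRb
          (hy' e he).2 (hAR (hy' e he)) h1
        rw [commutatorElement_eq_one_iff_mul_comm] at h2
        exact h2.symm
      have hcl : Cfsg.IsPClosed p ↥Nb := by
        rw [isPClosed_sub_iff_sylow hP, ← hP.resOf_sup]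
        refine sup_le ?_ Subgroup.le_normalizer
        have hra : resOf p Nb ≤ A := by
          refine le_inf (resOf_le p Nb) (resOf_le_iff.2 fun x _ hc => ?_)
          obtain ⟨x, rfl⟩ := hπs x
          obtain ⟨k, hk⟩ := exists_pow_mem_resOf (p := p) (Subgroup.mem_top x)
          rw [resOf_top] at hk
          refine mem_of_pow_mem hc (k := k) ?_
          rw [← map_pow]
          exact Subgroup.mem_map_of_mem π (hres hk)
        exact hra.trans ((Subgroup.le_centralizer_iff.1 hPA).trans (centralizer_le_normalizer P))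
      have := le_pCore_of_isPClosed hNbn hcl (Subgroup.map_mono hQN) (hQp'.map π)
      rwa [hQ, le_bot_iff, Subgroup.map_eq_bot_iff, hker] at this
  · rcases hpair E hE K hK with h | h1
    · exact Or.inl h
    rcases hpair K hK E hE with h | h2
    · exact Or.inl h.symm
    right
    set Eb := E.map π with hEbd
    set Kb := K.map π with hKbd
    have hint : ∀ A B : Subgroup H, ∀ (_ : ⁅(A ⊓ (B ⊔ O)).map π, A.map π⁆ = ⊥),
        A.map π ⊓ B.map π ≤ centralizer ((A.map π : Subgroup (H ⧸ O)) : Set (H ⧸ O)) := by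
      intro A B h
      refine le_trans ?_ (Subgroup.commutator_eq_bot_iff_le_centralizer.1 h)
      rintro _ ⟨⟨a, ha, rfl⟩, b, hb, hba⟩
      refine ⟨a, ⟨ha, ?_⟩, rfl⟩
      have : b⁻¹ * a ∈ O := by rw [← hker, MonoidHom.mem_ker, map_mul, map_inv, hba, inv_mul_cancel]
      simpa using (B ⊔ O).mul_mem (Subgroup.mem_sup_left (T := O) hb) (Subgroup.mem_sup_right (S := B) this)
    have hZE := hint E K h1
    have hZK : Eb ⊓ Kb ≤ centralizer (Kb : Set (H ⧸ O)) := by
      rw [inf_comm]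
      exact hint K E h2
    rw [← hker, ← Subgroup.map_eq_bot_iff, Subgroup.map_commutator, Subgroup.commutator_eq_bot_iff_le_centralizer]
    intro e he k hk
    have hy : ∀ x ∈ Eb, ⁅k, x⁆ ∈ Eb ⊓ Kb := by
      intro x hx
      rw [commutatorElement_def]
      refine ⟨Eb.mul_mem ((mem_normalizer_iff.1 (hEb E hE (Subgroup.map_mono (hER hK) hk)) x).1 hx) (Eb.inv_mem hx), ?_⟩
      rw [mul_assoc, mul_assoc, ← mul_assoc x]
      exact Kb.mul_mem hk ((mem_normalizer_iff.1 (hEb K hK (Subgroup.map_mono (hER hE) hx)) k⁻¹).1 (Kb.inv_mem hk))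
    obtain ⟨j, hj⟩ := hpow E hE e he
    have h3 := commutator_pow_eq_one hZE (hZE.trans (Subgroup.centralizer_le inf_le_left)) hy he hj
    have h4 := eq_one_of_pElement_central hQ (Subgroup.map_mono (hER hE)) (hEb E hE) hRb (hy e he).1
      (hZE (hy e he)) h3
    rw [commutatorElement_eq_one_iff_mul_comm] at h4
    exact h4

end Cfsg.Agent.S2855
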