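import Cfsg.Statements.S2859
import Cfsg.Agent.Lib.LocalStructure.WeaklyClosed
import Cfsg.Agent.Lib.LocalStructure.PClosed

set_option autoImplicit false
open Cfsg
open Subgroup Cfsg.Agent.LocalStructure
open scoped commutatorElement

namespace Cfsg.Agent.S2859

theorem commutator_closure_le {G : Type*} [Group G] {N P : Subgroup G} {S : Set G}
    (hS : S ⊆ (Subgroup.normalizer (P : Set G) : Set G))
    (h : ∀ n ∈ N, ∀ s ∈ S, ⁅n, s⁆ ∈ P) : ⁅N, Subgroup.closure S⁆ ≤ P := by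
  rw [Subgroup.commutator_le]
  intro n hn x hx
  induction hx using Subgroup.closure_induction with
  | mem s hs => exact h n hn s hs
  | one => simp
  | mul a b ha _ iha ihb =>
    have han : a ∈ Subgroup.normalizer (P : Set G) := (Subgroup.closure_le _).2 hS ha
    have e : ⁅n, a * b⁆ = ⁅n, a⁆ * (a * ⁅n, b⁆ * a⁻¹) := by simp only [commutatorElement_def]; group
    rw [e]
    exact P.mul_mem iha ((Subgroup.mem_normalizer_iff.1 han _).1 ihb)
  | inv a ha iha =>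
    have han : a ∈ Subgroup.normalizer (P : Set G) := (Subgroup.closure_le _).2 hS ha
    have e : ⁅n, a⁻¹⁆ = a⁻¹ * ⁅n, a⁆⁻¹ * a := by simp only [commutatorElement_def]; group
    rw [e]
    exact (Subgroup.mem_normalizer_iff''.1 han _).1 (P.inv_mem iha)

theorem wc_gen {G : Type*} [Group G] [Finite G] {p : ℕ} [Fact p.Prime] {Q X : Subgroup G}
    (hwc : Cfsg.IsWeaklyClosedSubgroup p Q) (hQX : Q ≤ X) (hX : Cfsg.weakClosure Q X = X) :
    Q ⊔ resOf p X = X ∧ ⁅resOf p X, Q⁆ = resOf p X := by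
  have hQn : Q ≤ normalizer (resOf p X : Set G) := hQX.trans (le_normalizer_resOf p X)
  have key : ∀ M : Subgroup G, Q ≤ M → M ≤ X → X ≤ normalizer (M : Set G) → M = X := by
    intro M hQM hMX hn
    refine le_antisymm hMX (le_of_eq_of_le hX.symm (weakClosure_le_iff.2 fun g hg => ?_))
    obtain ⟨k, hk, e⟩ := wc_exists_conj hwc hQX hg
    rw [e]
    exact (Subgroup.map_mono hQM).trans (map_conj_eq_self (hn hk)).le
  obtain ⟨S, hQS, hS⟩ := exists_isSylowIn_le (wc_isPGroup hwc) hQX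
  have h1 : Q ⊔ resOf p X = X := by
    refine key _ le_sup_left (sup_le hQX (resOf_le p X)) ?_
    refine le_trans hS.resOf_sup.ge (sup_le (le_sup_right.trans Subgroup.le_normalizer) ?_)
    exact le_normalizer_sup (wc_le_normalizer hwc hS.2.1 hQS) (hS.1.trans (le_normalizer_resOf p X))
  refine ⟨h1, ?_⟩
  set K := resOf p X with hK
  have hle : ⁅K, Q⁆ ≤ K :=
    Subgroup.commutator_le.2 fun k hk q hq => by
      rw [commutatorElement_def, mul_assoc, mul_assoc, ← mul_assoc q]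
      exact K.mul_mem hk ((mem_normalizer_iff.1 (hQn hq) _).1 (K.inv_mem hk))
  refine le_antisymm hle ?_
  have hQM : Q ≤ normalizer ((⁅K, Q⁆ : Subgroup G) : Set G) := normalizer_commutator_ge_right _ _
  have h2 : Q ⊔ ⁅K, Q⁆ = X := by
    refine key _ le_sup_left (sup_le hQX (hle.trans (resOf_le p X))) (h1.ge.trans (sup_le ?_ ?_))
    · exact le_sup_left.trans Subgroup.le_normalizer
    · rw [le_normalizer_iff]
      intro k hk y hy
      obtain ⟨q, hq, m, hm, rfl⟩ := exists_mul_of_mem_sup hQM hy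
      have e : k * (q * m) * k⁻¹ = ⁅k, q⁆ * q * (k * m * k⁻¹) := by rw [commutatorElement_def]; group
      rw [e]
      exact Subgroup.mul_mem _ (Subgroup.mul_mem _ (Subgroup.mem_sup_right (commutator_mem_commutator hk hq))
        (Subgroup.mem_sup_left hq))
        (Subgroup.mem_sup_right ((mem_normalizer_iff.1 (normalizer_commutator_ge_left K Q hk) m).1 hm))
  exact resOf_le_of_le_sup hQM (wc_isPGroup hwc) (h2 ▸ resOf_le p X)

theorem factor {G : Type*} [Group G] [Finite G] {p : ℕ} [Fact p.Prime] {Q Hc H₁ H₂ : Subgroup G}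
    (hwc : Cfsg.IsWeaklyClosedSubgroup p Q) (hQH : Q ≤ Hc)
    (hconj : Cfsg.weakClosure Q Hc = Hc)
    (hn₁ : H₁ ≤ Hc ∧ Hc ≤ normalizer (H₁ : Set G)) (hn₂ : H₂ ≤ Hc ∧ Hc ≤ normalizer (H₂ : Set G))
    (hprod : H₁ ⊔ H₂ = Hc) (hcomm : ⁅H₁, H₂⁆ ≤ normalizer (Q : Set G)) {K : Subgroup G}
    (hKdef : K = resOf p (Cfsg.weakClosure Q (H₁ ⊔ Q))) :
    (⁅K, Q⁆ = K ∧ ⁅K, H₁⁆ = K ∧ K ≤ ⁅H₁, H₁⁆ ∧ Hc ≤ normalizer (K : Set G)) ∧
      Cfsg.weakClosure Q (H₁ ⊔ Q) ≤ Q ⊔ K ∧ K ≤ H₁ ∧ ⁅K, H₂⁆ ≤ Cfsg.pCoreOf p Hc := by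
  set W := Cfsg.weakClosure Q (H₁ ⊔ Q) with hW
  have hQW : Q ≤ W := le_weakClosure le_sup_right
  have hWW : Cfsg.weakClosure Q W = W :=
    le_antisymm (weakClosure_le _ _) (weakClosure_le_iff.2 fun g hg =>
      map_conj_le_weakClosure (map_conj_le_weakClosure hg))
  obtain ⟨hWK, hKQ⟩ := wc_gen hwc hQW hWW
  rw [← hKdef] at hWK hKQ
  have hKK : resOf p K = K := by rw [hKdef]; exact resOf_resOf p W
  have hQn1 : Q ≤ normalizer (H₁ : Set G) := hQH.trans hn₁.2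
  have hKH : K ≤ H₁ := by
    rw [hKdef]
    refine resOf_le_of_le_sup hQn1 (wc_isPGroup hwc) ?_
    rw [sup_comm Q H₁]
    exact (resOf_le p W).trans (weakClosure_le Q _)
  have hWn : H₁ ⊔ Q ≤ normalizer (K : Set G) :=
    hKdef ▸ (le_normalizer_weakClosure Q (H₁ ⊔ Q)).trans (normalizer_le_normalizer_resOf p W)
  have hH1n : H₁ ≤ normalizer (K : Set G) := le_sup_left.trans hWn
  set N := ⁅H₁, H₂⁆ with hN
  set P := Cfsg.pCoreOf p Hc with hP
  have hPn : Hc ≤ normalizer (P : Set G) := le_normalizer_pCoreOf p Hc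
  have hNH : N ≤ Hc := (Subgroup.commutator_mono hn₁.1 hn₂.1).trans (Subgroup.commutator_le_self Hc)
  have hNn : Hc ≤ normalizer (N : Set G) := le_normalizer_commutator hn₁.2 hn₂.2
  have hNP : ⁅N, Hc⁆ ≤ P := by
    have hHc : Hc = Subgroup.closure (⋃ k : ↥Hc, (Q.map (MulAut.conj (k : G)).toMonoidHom : Set G)) := by
      conv_lhs => rw [← hconj, weakClosure_eq_iSup hwc hQH]
      rw [Subgroup.iSup_eq_closure]
    rw [hHc]
    refine commutator_closure_le ?_ ?_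
    · exact Set.iUnion_subset fun k => (map_conj_le hQH k.2).trans hPn
    · intro n hn x hx
      obtain ⟨k, hk⟩ := Set.mem_iUnion.1 hx
      set Qk := Q.map (MulAut.conj (k : G)).toMonoidHom with hQk
      have hnn : N ≤ normalizer (Qk : Set G) := by
        rw [← map_conj_eq_self (hNn k.2)]
        exact (Subgroup.map_mono hcomm).trans (Subgroup.le_normalizer_map _)
      have hQkn : Qk ≤ normalizer (N : Set G) := (map_conj_le hQH k.2).trans hNn
      have hle : Qk ⊓ N ≤ P := by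
        refine le_trans (le_pCoreOf inf_le_right ?_ ((isPGroup_map_conj (wc_isPGroup hwc) _).to_le inf_le_left))
          (le_pCoreOf ((LocalStructure.pCoreOf_le p N).trans hNH)
            (hNn.trans (normalizer_le_normalizer_pCoreOf N)) (isPGroup_pCoreOf p N))
        exact le_normalizer_inf hnn Subgroup.le_normalizer
      refine hle ⟨?_, ?_⟩
      · rw [commutatorElement_def]
        exact Qk.mul_mem ((mem_normalizer_iff.1 (hnn hn) x).1 hk) (Qk.inv_mem hk)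
      · rw [commutatorElement_def, mul_assoc, mul_assoc, ← mul_assoc x]
        exact N.mul_mem hn ((mem_normalizer_iff.1 (hQkn hk) _).1 (N.inv_mem hn))
  set M := ⁅K, H₁⁆ with hM
  have hMK : M ≤ K := Subgroup.commutator_le.2 fun k hk a ha => by
    rw [commutatorElement_def, mul_assoc, mul_assoc, ← mul_assoc a]
    exact K.mul_mem hk ((mem_normalizer_iff.1 (hH1n ha) _).1 (K.inv_mem hk))
  have hMQ : Q ≤ normalizer (M : Set G) := le_normalizer_commutator (le_sup_right.trans hWn) hQn1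
  have hMH : M ≤ Hc := hMK.trans (hKH.trans hn₁.1)
  have hH12 : H₁ ≤ normalizer (H₂ : Set G) := hn₁.1.trans hn₂.2
  have hKMN : K ≤ M ⊔ N := by
    rw [← hKQ, Subgroup.commutator_le]
    intro x hx q hq
    obtain ⟨a, ha, b, hb, rfl⟩ := exists_mul_of_mem_sup hH12 (hprod.ge (hQH hq))
    have e : ⁅x, a * b⁆ = ⁅x, a⁆ * (a * ⁅x, b⁆ * a⁻¹) := by simp only [commutatorElement_def]; group
    rw [e]
    exact Subgroup.mul_mem _ (Subgroup.mem_sup_left (commutator_mem_commutator hx ha))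
      (Subgroup.mem_sup_right ((mem_normalizer_iff.1 (hNn (hn₁.1 ha)) _).1
        (commutator_mem_commutator (hKH hx) hb)))
  have hKMP : K ≤ M ⊔ P := by
    conv_lhs => rw [← hKQ]
    rw [Subgroup.commutator_le]
    intro x hx q hq
    obtain ⟨m, hm, n, hn, rfl⟩ := exists_mul_of_mem_sup (hMH.trans hNn) (hKMN hx)
    have e : ⁅m * n, q⁆ = (m * ⁅n, q⁆ * m⁻¹) * ⁅m, q⁆ := by simp only [commutatorElement_def]; group
    rw [e]
    refine Subgroup.mul_mem _ (Subgroup.mem_sup_right ((mem_normalizer_iff.1 (hPn (hMH hm)) _).1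
      (hNP (commutator_mem_commutator hn (hQH hq))))) (Subgroup.mem_sup_left ?_)
    rw [commutatorElement_def, mul_assoc, mul_assoc, ← mul_assoc q]
    exact M.mul_mem hm ((mem_normalizer_iff.1 (hMQ hq) _).1 (M.inv_mem hm))
  have hKM : M = K := by
    refine le_antisymm hMK (le_of_eq_of_le hKK.symm ?_)
    refine resOf_le_of_le_sup (P := P ⊓ K) ?_ ((isPGroup_pCoreOf p Hc).to_le inf_le_left) ?_
    · exact inf_le_right.trans (normalizer_commutator_ge_left _ _)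
    · intro x hx
      have hxK : x ∈ K := resOf_le p _ hx
      obtain ⟨m, hm, r, hr, rfl⟩ := exists_mul_of_mem_sup (hMH.trans hPn) (hKMP hxK)
      have hrK : r ∈ K := by simpa using K.mul_mem (K.inv_mem (hMK hm)) hxK
      exact Subgroup.mul_mem _ (Subgroup.mem_sup_right hm) (Subgroup.mem_sup_left ⟨hr, hrK⟩)
  have hKH2 : ⁅K, H₂⁆ ≤ P := by
    rw [Subgroup.commutator_comm]
    conv_lhs => rw [← hKM, hM, Subgroup.commutator_def]
    refine commutator_closure_le ?_ ?_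
    · rintro _ ⟨x, hx, a, ha, rfl⟩
      exact hPn (hMH (commutator_mem_commutator hx ha))
    · rintro h hh _ ⟨x, hx, a, ha, rfl⟩
      set n := ⁅h, x⁆ with hn
      set m := ⁅h, a⁆ with hm
      have hnN : n ∈ N := by
        rw [hn, ← commutatorElement_inv x h]
        exact N.inv_mem (commutator_mem_commutator (hKH hx) hh)
      have hmN : m ∈ N := by
        rw [hm, ← commutatorElement_inv a h]
        exact N.inv_mem (commutator_mem_commutator ha hh)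
      have hxH : x ∈ Hc := hn₁.1 (hKH hx)
      have haH : a ∈ Hc := hn₁.1 ha
      have e : ⁅h, ⁅x, a⁆⁆ = n * ⁅x, m⁆ * n⁻¹ * (n * ⁅m, ⁅x, a⁆⁆ * n⁻¹) *
          (n * ⁅x, a⁆ * n⁻¹ * ⁅n, m * a⁆ * ⁅x, a⁆⁻¹) := by
        simp only [hn, hm, commutatorElement_def]; group
      rw [e]
      have hcj : ∀ g ∈ Hc, ∀ y ∈ P, g * y * g⁻¹ ∈ P := fun g hg y hy => (mem_normalizer_iff.1 (hPn hg) y).1 hy
      have hc : ⁅x, a⁆ ∈ Hc := Subgroup.commutator_le_self Hc (commutator_mem_commutator hxH haH)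
      refine P.mul_mem (P.mul_mem (hcj n (hNH hnN) _ ?_)
        (hcj n (hNH hnN) _ (hNP (commutator_mem_commutator hmN hc)))) ?_
      · rw [← commutatorElement_inv m x]
        exact P.inv_mem (hNP (commutator_mem_commutator hmN hxH))
      · have e2 : n * ⁅x, a⁆ * n⁻¹ * ⁅n, m * a⁆ * ⁅x, a⁆⁻¹ =
            ⁅n, ⁅x, a⁆⁆ * (⁅x, a⁆ * ⁅n, m * a⁆ * ⁅x, a⁆⁻¹) := by simp only [commutatorElement_def]; group
        rw [e2]
        exact P.mul_mem (hNP (commutator_mem_commutator hnN hc))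
          (hcj _ hc _ (hNP (commutator_mem_commutator hnN (Hc.mul_mem (hNH hmN) haH))))
  refine ⟨⟨hKQ, hKM, hKM.ge.trans (Subgroup.commutator_mono hKH le_rfl), ?_⟩, hWK.ge, hKH, hKH2⟩
  rw [← hprod]
  refine sup_le hH1n fun h hh => mem_normalizer_of_map_conj_le ?_
  rw [Subgroup.map_le_iff_le_comap]
  refine le_of_eq_of_le hKK.symm (resOf_le_iff.2 fun x hx hc => ?_)
  show h * x * h⁻¹ ∈ K
  have h1 : ⁅h, x⁆ ∈ P ⊓ H₁ := by
    refine ⟨?_, ?_⟩
    · rw [← commutatorElement_inv x h]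
      exact P.inv_mem (hKH2 (commutator_mem_commutator hx hh))
    · rw [commutatorElement_def]
      exact H₁.mul_mem ((mem_normalizer_iff.1 (hn₁.2 (hn₂.1 hh)) x).1 (hKH hx)) (H₁.inv_mem (hKH hx))
  obtain ⟨k, hk⟩ := exists_pow_mem_of_mem_sup (inf_le_right.trans hH1n)
    ((isPGroup_pCoreOf p Hc).to_le inf_le_left) (x := h * x * h⁻¹) (by
      rw [show h * x * h⁻¹ = ⁅h, x⁆ * x by rw [commutatorElement_def, inv_mul_cancel_right]]
      exact Subgroup.mul_mem _ (Subgroup.mem_sup_left h1) (Subgroup.mem_sup_right hx))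
  exact mem_of_pow_mem (by rwa [orderOf_conj]) hk

/-- Let Q be a nontrivial p-subgroup of the finite group H that is a weakly closed subgroup, H° the weak closure of Q in H (generated by the conjugates of Q) and H_∘ = O^p(H°). Suppose H₁, H₂ are normal subgroups of H° with H° = H₁H₂ and [H₁, H₂] ≤ N_H(Q), and put Kᵢ = O^p of the weak closure of Q in HᵢQ. Then for i = 1, 2: Kᵢ = [Kᵢ, Q] = [Kᵢ, Hᵢ] ≤ Hᵢ′ and Kᵢ is normal in H°; H_∘ = K₁K₂; and [K₁, K₂] ≤ O_p(H°). -/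
theorem result {G : Type*} [Group G] [Finite G] {p : ℕ} [Fact p.Prime] (Q : Subgroup G) (hQp : IsPGroup p ↥Q) (hQ1 : Q ≠ ⊥) (hwc : Cfsg.IsWeaklyClosedSubgroup p Q) (Hc : Subgroup G) (hHc : Hc = Cfsg.weakClosure Q ⊤) (H₁ H₂ : Subgroup G) (hn₁ : H₁ ≤ Hc ∧ Hc ≤ Subgroup.normalizer ((H₁ : Subgroup G) : Set G)) (hn₂ : H₂ ≤ Hc ∧ Hc ≤ Subgroup.normalizer ((H₂ : Subgroup G) : Set G)) (hprod : H₁ ⊔ H₂ = Hc) (hcomm : ⁅H₁, H₂⁆ ≤ Subgroup.normalizer ((Q : Subgroup G) : Set G)) (K₁ K₂ : Subgroup G) (hK₁ : K₁ = ((Cfsg.pResidual p ↥(Cfsg.weakClosure Q (H₁ ⊔ Q))).map ((Cfsg.weakClosure Q (H₁ ⊔ Q))).subtype)) (hK₂ : K₂ = ((Cfsg.pResidual p ↥(Cfsg.weakClosure Q (H₂ ⊔ Q))).map ((Cfsg.weakClosure Q (H₂ ⊔ Q))).subtype)) : (⁅K₁, Q⁆ = K₁ ∧ ⁅K₁, H₁⁆ = K₁ ∧ K₁ ≤ ⁅H₁, H₁⁆ ∧ Hc ≤ Subgroup.normalizer ((K₁ : Subgroup G) : Set G)) ∧ (⁅K₂, Q⁆ = K₂ ∧ ⁅K₂, H₂⁆ = K₂ ∧ K₂ ≤ ⁅H₂, H₂⁆ ∧ Hc ≤ Subgroup.normalizer ((K₂ : Subgroup G) : Set G)) ∧ K₁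 ⊔ K₂ = ((Cfsg.pResidual p ↥Hc).map (Hc).subtype) ∧ ⁅K₁, K₂⁆ ≤ (Cfsg.pCoreOf p Hc) := by
  have hQH : Q ≤ Hc := hHc ▸ le_weakClosure le_top
  have hHH : Cfsg.weakClosure Q Hc = Hc := le_antisymm (weakClosure_le _ _) (by
    conv_lhs => rw [hHc]
    exact weakClosure_le_iff.2 fun g _ => map_conj_le_weakClosure (by
      rw [hHc]; exact map_conj_le_weakClosure le_top))
  rw [resOf_def] at hK₁ hK₂ ⊢
  obtain ⟨h1, hW1, hK1H, h1P⟩ := factor hwc hQH hHH hn₁ hn₂ hprod hcomm hK₁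
  obtain ⟨h2, hW2, hK2H, h2P⟩ := factor hwc hQH hHH hn₂ hn₁ (by rw [sup_comm, hprod])
    (by rw [Subgroup.commutator_comm]; exact hcomm) hK₂
  refine ⟨h1, h2, ?_, ?_⟩
  · have hL : Hc ≤ normalizer ((K₁ ⊔ K₂ : Subgroup G) : Set G) := le_normalizer_sup h1.2.2.2 h2.2.2.2
    refine le_antisymm (sup_le ?_ ?_) ?_
    · rw [hK₁]
      exact resOf_mono ((weakClosure_le _ _).trans (sup_le hn₁.1 hQH))
    · rw [hK₂]
      exact resOf_mono ((weakClosure_le _ _).trans (sup_le hn₂.1 hQH))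
    · refine resOf_le_of_le_sup (hQH.trans hL) hQp ?_
      have key : ∀ (Hi Ki : Subgroup G), Hi ≤ Hc → Hc ≤ normalizer (Hi : Set G) →
          Cfsg.weakClosure Q (Hi ⊔ Q) ≤ Q ⊔ Ki → Ki ≤ K₁ ⊔ K₂ →
          Hi ≤ normalizer ((Q ⊔ (K₁ ⊔ K₂) : Subgroup G) : Set G) := by
        intro Hi Ki hi hin hW hKi x hx
        refine mem_normalizer_of_map_conj_le ?_
        rw [Subgroup.map_sup]
        refine sup_le ?_ ((map_conj_eq_self (hL (hi hx))).le.trans le_sup_right)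
        refine le_trans ?_ (hW.trans (sup_le_sup_left hKi _))
        refine map_conj_le_weakClosure ?_
        rintro _ ⟨q, hq, rfl⟩
        exact Subgroup.mul_mem _ (Subgroup.mul_mem _ (Subgroup.mem_sup_left hx) (Subgroup.mem_sup_right hq))
          (Subgroup.inv_mem _ (Subgroup.mem_sup_left hx))
      have hn : Hc ≤ normalizer ((Q ⊔ (K₁ ⊔ K₂) : Subgroup G) : Set G) := hprod ▸
        sup_le (key H₁ K₁ hn₁.1 hn₁.2 hW1 le_sup_left) (key H₂ K₂ hn₂.1 hn₂.2 hW2 le_sup_right)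
      refine (resOf_le p Hc).trans ?_
      conv_lhs => rw [← hHH, weakClosure_eq_iSup hwc hQH]
      exact iSup_le fun k => (Subgroup.map_mono le_sup_left).trans (map_conj_eq_self (hn k.2)).le
  · exact (Subgroup.commutator_mono le_rfl hK2H).trans h1P

end Cfsg.Agent.S2859
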