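import Cfsg.Statements.S2860
import Cfsg.Agent.Lib.LocalStructure.QuasisimpleResidual

set_option autoImplicit false
open Cfsg
open Subgroup Cfsg.Agent.LocalStructure
open scoped commutatorElement

namespace Cfsg.Agent.S2860

/-- Let Q be a nontrivial large p-subgroup of the finite group H, U a nontrivial elementary abelian p-subgroup of H, and Q ≤ E ≤ N_H(U) with Q not normal in E. Suppose O_p(E/C_E(U)) = 1 and O^p(E)·C_E(U)/C_E(U) is quasisimple. Let E° be the weak closure of Q in E (generated by the conjugates of Q inside E) and E_∘ = O^p(E°). Then O^p(E)·C_E(U) = E_∘·C_E(U); E_∘ is perfect and equals O^p(E_∘); E_∘/C_{E_∘}(U) and E_∘/O_p(E_∘) are quasisimple; and E_∘ = [E_∘, Y] for every p-subgroup Y of E not centralizing U. -/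
theorem result {G : Type*} [Group G] [Finite G] {p : ℕ} [Fact p.Prime] (Q : Subgroup G) (hQp : IsPGroup p ↥Q) (hQ1 : Q ≠ ⊥) (hQ : Cfsg.IsLarge Q) (U : Subgroup G) (hU : Cfsg.IsElementaryAbelian p U) (hU1 : U ≠ ⊥) (E : Subgroup G) (hQE : Q ≤ E) (hEU : E ≤ Subgroup.normalizer ((U : Subgroup G) : Set G)) (hQn : ¬ E ≤ Subgroup.normalizer ((Q : Subgroup G) : Set G)) [hn : ((Subgroup.centralizer ((U : Subgroup G) : Set G)).subgroupOf E).Normal] (hred : Cfsg.pCore p (↥E ⧸ (Subgroup.centralizer ((U : Subgroup G) : Set G)).subgroupOf E) = ⊥) (hqs : Cfsg.IsQuasisimple ↥(((Cfsg.pResidual p ↥E) ⊔ (Subgroup.centralizer ((U : Subgroup G) : Set G)).subgroupOf E).map (QuotientGroup.mk' ((Subgroup.centralizer ((U : Subgroup G) : Set G)).subgroupOf E)))) (Er : Subgroup G) (hEr : Er = ((Cfsg.pResidual p ↥(Cfsg.weakClosure Q E)).map ((Cfsg.weakClosure Q E)).subtype)) [hn2 : ((Subgroup.centralizer ((U : Subgroup G) : Set G)).subgroupOf Er).Normal]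 : ((Cfsg.pResidual p ↥E).map (E).subtype) ⊔ (E ⊓ Subgroup.centralizer ((U : Subgroup G) : Set G)) = Er ⊔ (E ⊓ Subgroup.centralizer ((U : Subgroup G) : Set G)) ∧ ⁅Er, Er⁆ = Er ∧ ((Cfsg.pResidual p ↥Er).map (Er).subtype) = Er ∧ Cfsg.IsQuasisimple (↥Er ⧸ (Subgroup.centralizer ((U : Subgroup G) : Set G)).subgroupOf Er) ∧ Cfsg.IsQuasisimple (↥Er ⧸ Cfsg.pCore p ↥Er) ∧ ∀ Y : Subgroup G, Y ≤ E → IsPGroup p ↥Y → ¬ Y ≤ Subgroup.centralizer ((U : Subgroup G) : Set G) → ⁅Er, Y⁆ = Er := by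
  obtain ⟨h1, h2, h3, ⟨f, hf, hfker⟩, h5, h6, h7⟩ :=
    resOf_quasisimple_main (U := U) hQp hQ (fun x => ⟨1, Subtype.ext (by simpa using hU.2 _ x.2)⟩) hU1 hQE hEU hQn (QuotientGroup.mk' _) (QuotientGroup.mk'_surjective _)
      (QuotientGroup.ker_mk' _) hred
      (by rwa [Subgroup.map_sup, QuotientGroup.map_mk'_self, sup_bot_eq] at hqs) (Er := Er) hEr
  rw [Subgroup.map_sup, QuotientGroup.map_mk'_self, sup_bot_eq] at hqs
  have hperf : Group.IsPerfect ↥Er := Subgroup.isPerfect_iff.mpr h2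
  have hq1 : Cfsg.IsQuasisimple (↥Er ⧸ (Subgroup.centralizer (U : Set G)).subgroupOf Er) :=
    (Cfsg.Agent.Components.isQuasisimple_congr ((QuotientGroup.quotientMulEquivOfEq hfker.symm).trans
      (QuotientGroup.quotientKerEquivOfSurjective f hf))).mpr hqs
  have hPn := pCore_normal p Er
  refine ⟨h1, h2, h3, hq1, ?_, h7⟩
  have hle : Cfsg.pCore p ↥Er ≤ (Subgroup.centralizer (U : Set G)).subgroupOf Er :=
    fun x hx => h6 (Subgroup.mem_map_of_mem _ hx)
  let ψ := QuotientGroup.map (Cfsg.pCore p ↥Er) ((Subgroup.centralizer (U : Set G)).subgroupOf Er)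
    (MonoidHom.id ↥Er) hle
  have hperf2 : Group.IsPerfect (↥Er ⧸ Cfsg.pCore p ↥Er) :=
    Group.IsPerfect.ofSurjective (QuotientGroup.mk'_surjective _)
  refine isQuasisimple_of_central_ker ψ (fun y => ?_) (fun c hc => ?_) hq1
  · obtain ⟨x, rfl⟩ := QuotientGroup.mk_surjective y
    exact ⟨(x : ↥Er ⧸ Cfsg.pCore p ↥Er), rfl⟩
  · obtain ⟨c, rfl⟩ := QuotientGroup.mk_surjective c
    have hcU : (c : G) ∈ Subgroup.centralizer (U : Set G) :=
      Subgroup.mem_subgroupOf.mp ((QuotientGroup.eq_one_iff c).mp hc)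
    rw [Subgroup.mem_center_iff]
    intro y
    obtain ⟨y, rfl⟩ := QuotientGroup.mk_surjective y
    rw [← commutatorElement_eq_one_iff_mul_comm]
    exact (QuotientGroup.eq_one_iff _).mpr (h5 y c hcU)

end Cfsg.Agent.S2860
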