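import Cfsg.Statements.S2861
import Cfsg.Agent.Lib.LocalStructure.FrakLSetup
import Cfsg.Agent.Lib.LocalStructure.FrakLUnique

set_option autoImplicit false
open Cfsg
open Subgroup Cfsg.Agent.LocalStructure
open scoped commutatorElement

namespace Cfsg.Agent.S2861

/-- Standing hypotheses: G a finite group, S a Sylow p-subgroup, Q a nontrivial large p-subgroup of G contained in S, M a subgroup containing S with the basic property (M ∈ 𝔐_G(S)); Y_M the largest p-reduced normal subgroup of M and M† = M·C_G(Y_M). Let L ∈ 𝔏_G(Y_M) (L ∈ 𝔏_G(Y_M): Y_M ≤ L; O_p(L) is the normal closure in L of Y_M ∩ O_p(L) and normalizes Y_M; L is Y_M-minimal of characteristic p with N_L(Y_M) its unique maximal subgroup over Y_M; and L/O_p(L) ≅ SL₂(q) with q = |Y_M : Y_M ∩ O_p(L)|, or p = 2 and L/O_p(L) is a Suzuki group Sz(q) or dihedral of order 2r, r an odd prime) and A = O_p(L). Then Y_M·A/A is the unique nontrivial elementary abelian normal p-subgroup of N_L(Y_M)/A. -/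
theorem result {G : Type*} [Group G] [Finite G] {p : ℕ} [Fact p.Prime] (S : Sylow p G) (Q : Subgroup G) (hQp : IsPGroup p ↥Q) (hQ1 : Q ≠ ⊥) (hQS : Q ≤ (S : Subgroup G)) (hQ : Cfsg.IsLarge Q) (M : Subgroup G) (hSM : (S : Subgroup G) ≤ M) (hM : Cfsg.IsInFrakM p M) (L : Subgroup G) (hL : Cfsg.IsInFrakL p M L) (NL : Subgroup G) (hNL : NL = L ⊓ Subgroup.normalizer (((Cfsg.largestPReducedOf p M) : Subgroup G) : Set G)) [hn : (((Cfsg.pCoreOf p L)).subgroupOf NL).Normal] : let Ybar : Subgroup (↥NL ⧸ ((Cfsg.pCoreOf p L)).subgroupOf NL) := (((Cfsg.largestPReducedOf p M)).subgroupOf NL).map (QuotientGroup.mk' (((Cfsg.pCoreOf p L)).subgroupOf NL)); Ybar ≠ ⊥ ∧ Ybar.Normal ∧ Cfsg.IsElementaryAbelian p Ybar ∧ ∀ (V : Subgroup (↥NL ⧸ ((Cfsg.pCoreOf p L)).subgroupOf NL)), V.Normal → Cfsg.IsElementaryAbelian p V → V ≠ ⊥ → V = Ybar := by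
  have hs := frakL_setup hL
  obtain ⟨hYL, -, -, -, -, -, hquot⟩ := hL
  set Y := Cfsg.largestPReducedOf p M with hY
  set Y' := Y.subgroupOf L with hY'
  have hNLle : NL ≤ L := hNL.le.trans inf_le_left
  have hYNL : Y ≤ NL := hNL ▸ le_inf hYL Subgroup.le_normalizer
  have hYn : NL ≤ normalizer (Y : Set G) := hNL.le.trans inf_le_right
  have hO : Cfsg.pCore p ↥L = (Cfsg.pCoreOf p L).subgroupOf L := (subgroupOf_pCoreOf p L).symm
  have hpn := LocalStructure.pCore_normal p ↥L
  have hYO : ¬ Y' ≤ Cfsg.pCore p ↥L := fun hle => by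
    rcases minOver_normal_le hs.min hs.coatom Subgroup.le_normalizer hpn with h1 | h1
    · exact h1 hle
    · exact hs.coatom.1 (top_le_iff.1 (h1.ge.trans hs.normalizes))
  have hYel : Cfsg.IsElementaryAbelian p (Y.subgroupOf NL) :=
    (Cfsg.Agent.PGroup.isElementaryAbelian_map_iff NL.subtype_injective).1 (by
      rw [subgroupOf_map_subtype, inf_eq_left.2 hYNL]; exact (isPRedIn_largest p M).2.2.1)
  intro Ybar
  suffices key : ∀ (Q : Type) [Group Q] [Finite Q] (e : ↥L ⧸ Cfsg.pCore p ↥L ≃* Q) (Z : Subgroup Q),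
      Z = Y'.map (e.toMonoidHom.comp (QuotientGroup.mk' (Cfsg.pCore p ↥L))) →
      (∀ V : Subgroup Q, Cfsg.IsElementaryAbelian p V → V ≠ ⊥ → V ≤ normalizer (Z : Set Q) →
        normalizer (Z : Set Q) ≤ normalizer (V : Set Q) → V = Z) →
      ∀ V : Subgroup (↥NL ⧸ (Cfsg.pCoreOf p L).subgroupOf NL), V.Normal →
        Cfsg.IsElementaryAbelian p V → V ≠ ⊥ → V = Ybar by
    refine ⟨?_, ?_, Cfsg.Agent.PGroup.isElementaryAbelian_map hYel _, ?_⟩
    · rw [Ne, Subgroup.map_eq_bot_iff, QuotientGroup.ker_mk']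
      intro h
      apply hYO
      intro y hy
      have hy' : (y : G) ∈ Y := hy
      rw [hO]
      exact h (x := ⟨y, hYNL hy'⟩) hy'
    · exact ((normal_subgroupOf_iff_le_normalizer hYNL).2 hYn).map _
        (QuotientGroup.mk'_surjective _)
    intro V hV hVe hV1
    set f' := QuotientGroup.mk' (Cfsg.pCore p ↥L) with hf'
    have hZe : ∀ (Q : Type) [Group Q] (e : ↥L ⧸ Cfsg.pCore p ↥L ≃* Q),
        Cfsg.IsElementaryAbelian p (Y'.map (e.toMonoidHom.comp f')) := fun Q _ e =>
      Cfsg.Agent.PGroup.isElementaryAbelian_map hs.elem _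
    have hcard : ∀ (Q : Type) [Group Q] (e : ↥L ⧸ Cfsg.pCore p ↥L ≃* Q),
        Nat.card (Y'.map (e.toMonoidHom.comp f')) = (Y ⊓ Cfsg.pCoreOf p L).relIndex Y := fun Q _ e => by
      rw [← Subgroup.map_map, ← Nat.card_congr ((Y'.map f').equivMapOfInjective _ e.injective).toEquiv]
      have h1 := Subgroup.relIndex_ker (K := Y') f'
      rw [hf', QuotientGroup.ker_mk'] at h1
      rw [Subgroup.inf_relIndex_left, ← Subgroup.relIndex_subgroupOf hYL, subgroupOf_pCoreOf, ← hY', h1]
    have htwo : ∀ (Q : Type) [Group Q] [Finite Q] (e : ↥L ⧸ Cfsg.pCore p ↥L ≃* Q),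
        Nat.card (Y'.map (e.toMonoidHom.comp f')) = 2 →
        ∀ V : Subgroup Q, Cfsg.IsElementaryAbelian p V → V ≠ ⊥ →
          V ≤ normalizer (Y'.map (e.toMonoidHom.comp f') : Set Q) → V = Y'.map (e.toMonoidHom.comp f') := by
      intro Q _ _ e hc W _ hW1 hWN
      obtain ⟨g, hg⟩ := hs.not_mem
      have hgen := congrArg (fun K : Subgroup ↥L => K.map (e.toMonoidHom.comp f'))
        (minOver_sup_conj hs.min hs.coatom Subgroup.le_normalizer hg)
      simp only [Subgroup.map_sup] at hgen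
      rw [Subgroup.map_top_of_surjective (e.toMonoidHom.comp f')
        (e.surjective.comp (QuotientGroup.mk'_surjective _))] at hgen
      have hle := hWN.trans (normalizer_le_of_card_two hc (g := (e.toMonoidHom.comp f') g) (by
        refine Eq.trans ?_ hgen
        congr 1
        rw [Subgroup.map_map, Subgroup.map_map]
        congr 1
        ext z
        simp))
      refine Subgroup.eq_of_le_of_card_ge hle ?_
      rw [hc]
      exact Finite.one_lt_card_iff_nontrivial.2 (Subgroup.nontrivial_iff_ne_bot W |>.2 hW1)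
    rcases hquot with ⟨F, _, _, hFc, ⟨e⟩⟩ | ⟨hp, F, _, _, m, hF, hFc, ⟨e⟩⟩ | ⟨hp, r, hr, hr2, ⟨e⟩⟩
    · obtain ⟨q, _⟩ := CharP.exists F
      obtain ⟨n, hqp, hn2⟩ := FiniteField.card F q
      obtain ⟨k, hk⟩ := (Cfsg.Agent.PGroup.isPGroup_of_elementaryAbelian (hZe _ e)).exists_card_eq
      rw [hcard _ e, ← hFc] at hk
      have hqeq : q = p := (Nat.prime_dvd_prime_iff_eq hqp (Fact.out : p.Prime)).1
        (hqp.dvd_of_dvd_pow (n := k) (by rw [← hk, hn2]; exact dvd_pow_self q n.pos.ne'))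
      subst hqeq
      exact key _ e _ rfl (fun W hW hW1 hWN hNW => sl2_unique
        (Cfsg.Agent.PGroup.isPGroup_of_elementaryAbelian (hZe _ e)) (by rw [hcard _ e, hFc])
        (Cfsg.Agent.PGroup.isPGroup_of_elementaryAbelian hW) hW1 hWN hNW) V hV hVe hV1
    · by_cases hm : 1 ≤ m
      · subst hp
        refine key _ e _ rfl (fun W hW hW1 hWN hNW => ?_) V hV hVe hV1
        set φ := Cfsg.Agent.SZ.szEquiv hm hF with hφ
        set Z := Y'.map (e.toMonoidHom.comp f') with hZdef
        have hsq : ∀ X : Subgroup _, Cfsg.IsElementaryAbelian 2 X →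
            ∀ v ∈ X.map φ.symm.toMonoidHom, v * v = 1 := by
          rintro X hX _ ⟨v, hv, rfl⟩
          rw [← map_mul, ← pow_two, hX.2 v hv, map_one]
        have hmn : ∀ X : Subgroup _, (normalizer (X : Set _)).map φ.symm.toMonoidHom =
            normalizer (X.map φ.symm.toMonoidHom : Set _) := fun X =>
          Subgroup.map_equiv_normalizer_eq X φ.symm
        refine Subgroup.map_injective (f := φ.symm.toMonoidHom) φ.symm.injective
          (Cfsg.Agent.SZ.sz_unique hm hF (hsq Z (hZe _ e)) ?_ (hsq W hW) ?_ ?_ ?_)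
        · rw [← Nat.card_congr (Z.equivMapOfInjective _ φ.symm.injective).toEquiv, hZdef, hcard _ e, hFc]
        · rwa [Ne, Subgroup.map_eq_bot_iff_of_injective _ φ.symm.injective]
        · exact (Subgroup.map_mono hWN).trans (hmn Z).le
        · exact (hmn Z).ge.trans ((Subgroup.map_mono hNW).trans (hmn W).le)
      · have hm0 : m = 0 := by omega
        subst hm0
        exact key _ e _ rfl (fun W hW hW1 hWN _ => htwo _ e
          (by rw [hcard _ e, ← hFc, hF]; norm_num) W hW hW1 hWN) V hV hVe hV1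
    · subst hp
      haveI : NeZero r := ⟨hr.ne_zero⟩
      refine key _ e _ rfl (fun W hW hW1 hWN _ => htwo _ e ?_ W hW hW1 hWN) V hV hVe hV1
      obtain ⟨k, hk⟩ := (Cfsg.Agent.PGroup.isPGroup_of_elementaryAbelian (hZe _ e)).exists_card_eq
      have hdvd := Subgroup.card_subgroup_dvd_card (Y'.map (e.toMonoidHom.comp f'))
      rw [DihedralGroup.nat_card, hk] at hdvd
      rcases k with _ | _ | k
      · exfalso
        have h0 := Subgroup.card_eq_one.1 (hk.trans (pow_zero 2))
        rw [← Subgroup.map_map, Subgroup.map_eq_bot_iff_of_injective _ e.injective,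
          Subgroup.map_eq_bot_iff, hf', QuotientGroup.ker_mk'] at h0
        exact hYO h0
      · rw [hk, pow_one]
      · exfalso
        have h4 : 4 ∣ 2 * r := (Dvd.intro (2 ^ k) (by ring) : 4 ∣ 2 ^ (k + 1 + 1)).trans hdvd
        have : 2 ∣ r := by omega
        exact hr2 ((Nat.prime_dvd_prime_iff_eq Nat.prime_two hr).1 this).symm
  intro Q _ _ e Z hZ huniq V hV hVe hV1
  set f : ↥L →* Q := e.toMonoidHom.comp (QuotientGroup.mk' (Cfsg.pCore p ↥L)) with hf
  have hker : f.ker = Cfsg.pCore p ↥L := by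
    ext z
    rw [MonoidHom.mem_ker, hf, MonoidHom.comp_apply]
    show e (QuotientGroup.mk' _ z) = 1 ↔ _
    rw [map_eq_one_iff e e.injective, QuotientGroup.mk'_apply, QuotientGroup.eq_one_iff]
  have hfs : Function.Surjective f := e.surjective.comp (QuotientGroup.mk'_surjective _)
  have hN' : normalizer (Y' : Set ↥L) = NL.subgroupOf L := by
    rw [hY', ← subgroupOf_normalizer_eq hYL, hNL, Subgroup.inf_subgroupOf_left]
  have hrange : (normalizer (Y' : Set ↥L)).map f = normalizer (Z : Set Q) := by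
    refine le_antisymm (hZ ▸ le_normalizer_map f) fun z hz => ?_
    obtain ⟨x, rfl⟩ := hfs z
    refine Subgroup.mem_map_of_mem f ?_
    set K := Z.comap f with hK
    have hYK : Y' ≤ K := fun y hy => by rw [hK, Subgroup.mem_comap, hZ]; exact Subgroup.mem_map_of_mem f hy
    have hle : normalizer (K : Set ↥L) ≤ normalizer (Y' : Set ↥L) := by
      refine minOver_le hs.min hs.coatom Subgroup.le_normalizer
        (hYK.trans Subgroup.le_normalizer) fun htop => ?_
      have hKn := normalizer_eq_top_iff.1 htop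
      rcases minOver_normal_le hs.min hs.coatom Subgroup.le_normalizer hKn with h1 | h1
      · exact h1 hYK
      · have hKp : IsPGroup p K := by
          rw [hK, hZ, Subgroup.comap_map_eq, hker]
          exact isPGroup_sup (Cfsg.Agent.PGroup.isPGroup_of_elementaryAbelian hs.elem) (isPGroup_pCore p)
            (le_top.trans (normalizer_eq_top_iff.2 hpn).ge)
        rw [h1] at hKp
        have := Cfsg.Agent.PGroup.normal_of_isCoatom (hKp.of_equiv Subgroup.topEquiv) hs.coatom
        have h2 := minOver_not_normal hs.min hs.coatom Subgroup.le_normalizer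
        rw [normalizer_eq_top_iff.2 this] at h2
        exact hs.coatom.1 h2.symm
    refine hle ?_
    rw [hK]
    exact le_normalizer_comap f hz
  set φ : ↥NL →* Q := f.comp (Subgroup.inclusion hNLle) with hφ
  have hφker : φ.ker = (Cfsg.pCoreOf p L).subgroupOf NL := by
    ext z
    rw [MonoidHom.mem_ker, hφ, MonoidHom.comp_apply, ← MonoidHom.mem_ker, hker, hO]
    rfl
  have hφr : φ.range = normalizer (Z : Set Q) := by
    rw [← hrange, hN', hφ, MonoidHom.range_comp, Subgroup.inclusion_range]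
  set ψ := QuotientGroup.lift _ φ hφker.ge with hψ
  have hψinj : Function.Injective ψ := by
    rw [← MonoidHom.ker_eq_bot_iff, hψ, QuotientGroup.ker_lift, hφker, QuotientGroup.map_mk'_self]
  have hψr : ψ.range = normalizer (Z : Set Q) := by
    rw [← hφr]
    ext z
    constructor
    · rintro ⟨w, rfl⟩
      obtain ⟨w, rfl⟩ := QuotientGroup.mk'_surjective _ w
      exact ⟨w, rfl⟩
    · rintro ⟨w, rfl⟩
      exact ⟨QuotientGroup.mk' _ w, rfl⟩
  have hYψ : Ybar.map ψ = Z := by
    show ((Y.subgroupOf NL).map _).map ψ = Z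
    rw [hZ, Subgroup.map_map]
    ext z
    constructor
    · rintro ⟨y, hy, rfl⟩
      exact ⟨Subgroup.inclusion hNLle y, hy, rfl⟩
    · rintro ⟨y, hy, rfl⟩
      exact ⟨⟨(y : G), hYNL (Subgroup.mem_subgroupOf.1 hy)⟩, Subgroup.mem_subgroupOf.2 hy, rfl⟩
  refine Subgroup.map_injective hψinj ((huniq _ (Cfsg.Agent.PGroup.isElementaryAbelian_map hVe ψ) ?_ ?_ ?_).trans hYψ.symm)
  · rwa [Ne, Subgroup.map_eq_bot_iff_of_injective _ hψinj]
  · exact (Subgroup.map_le_range _ _).trans hψr.le
  · rw [← hψr, MonoidHom.range_eq_map, ← normalizer_eq_top_iff.2 hV]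
    exact le_normalizer_map ψ

end Cfsg.Agent.S2861
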