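import Cfsg.Statements.S2862
import Cfsg.Agent.Lib.LocalStructure.FrakHMinimal
import Cfsg.Agent.Lib.LocalStructure.Minimal

set_option autoImplicit false
open Cfsg
open Subgroup Cfsg.Agent.LocalStructure
open scoped commutatorElement

namespace Cfsg.Agent.S2862

/-- Standing hypotheses: G a finite group, S a Sylow p-subgroup, Q a nontrivial large p-subgroup of G contained in S, M a subgroup containing S with the basic property (M ∈ 𝔐_G(S)); Y_M the largest p-reduced normal subgroup of M and M† = M·C_G(Y_M). Suppose Y_M is char-p-tall and asymmetric in G, H ∈ ℌ_G(O_p(M)), and L is minimal among the subgroups of H containing Y_M with Y_M ≰ O_p(L). Then H = ⟨L, O_p(M)⟩ = ⟨hY_Mh⁻¹, O_p(M)⟩ for every h ∈ L outside N_L(Y_M); L is Y_M-minimal and of characteristic p, with N_L(Y_M) the unique maximal subgroup of L containing Y_M; [V, O^p(L)] ≠ 1 for every noncentral chief factor V/W of H inside O_p(H) (that is, O^p(L) does not act trivially on V/W); and the normal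 closure of O_p(L) ∩ Y_M in L lies in O_p(H). -/
theorem result {G : Type*} [Group G] [Finite G] {p : ℕ} [Fact p.Prime] (S : Sylow p G) (Q : Subgroup G) (hQp : IsPGroup p ↥Q) (hQ1 : Q ≠ ⊥) (hQS : Q ≤ (S : Subgroup G)) (hQ : Cfsg.IsLarge Q) (M : Subgroup G) (hSM : (S : Subgroup G) ≤ M) (hM : Cfsg.IsInFrakM p M) (htall : Cfsg.IsCharPTall p (Cfsg.largestPReducedOf p M)) (hasym : ¬ Cfsg.IsSymmetricIn (Cfsg.largestPReducedOf p M)) (H : Subgroup G) (hH : Cfsg.IsInFrakH p M H) (L : Subgroup G) (hLH : L ≤ H) (hYL : (Cfsg.largestPReducedOf p M) ≤ L) (hYO : ¬ (Cfsg.largestPReducedOf p M) ≤ (Cfsg.pCoreOf p L)) (hmin : ∀ L' : Subgroup G, L' ≤ L → (Cfsg.largestPReducedOf p M) ≤ L' → ¬ (Cfsg.largestPReducedOf p M) ≤ (Cfsg.pCoreOf p L') → L' = L) : (L ⊔ (Cfsg.pCoreOf p M) = H ∧ ∀ h ∈ L, h ∉ Subgroup.normalizer (((Cfsg.largestPReducedOf p M) : Subgroup G) : Set G) → (((Cfsg.largestPReducedOf p M) : Subgroup G).map (MulAut.conj (h : G)).toMonoidHom) ⊔ (Cfsg.pCoreOf p M) =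 H) ∧ (Cfsg.IsMinimalOver (((Cfsg.largestPReducedOf p M)).subgroupOf L) ∧ Subgroup.centralizer (Cfsg.pCore p ↥L : Set ↥L) ≤ Cfsg.pCore p ↥L ∧ L ⊓ Subgroup.normalizer (((Cfsg.largestPReducedOf p M) : Subgroup G) : Set G) < L ∧ ∀ X : Subgroup G, (Cfsg.largestPReducedOf p M) ≤ X → X < L → X ≤ L ⊓ Subgroup.normalizer (((Cfsg.largestPReducedOf p M) : Subgroup G) : Set G)) ∧ (∀ V W' : Subgroup G, V ≤ (Cfsg.pCoreOf p H) → H ≤ Subgroup.normalizer ((V : Subgroup G) : Set G) → H ≤ Subgroup.normalizer ((W' : Subgroup G) : Set G) → W' < V → (∀ Z' : Subgroup G, H ≤ Subgroup.normalizer ((Z' : Subgroup G) : Set G) → W' ≤ Z' → Z' ≤ V → Z' = W' ∨ Z' = V) → ¬ ⁅V, H⁆ ≤ W' → ¬ ⁅V, ((Cfsg.pResidual p ↥L).map (L).subtype)⁆ ≤ W') ∧ (Subgroup.normalClosure (((((Cfsg.pCoreOf p L) ⊓ (Cfsg.largestPReducedOf p M)).subgroupOf L : Subgroup ↥L)) : Set ↥L)).map L.subtype ≤ (Cfsg.pCoreOf p H) := by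
  set Y := Cfsg.largestPReducedOf p M with hYdef
  set P := Cfsg.pCoreOf p M with hPdef
  obtain ⟨hcomm, hgen, hncl, -⟩ := frakH_facts S hQp hQ1 hQ hSM hM hasym hH
  have hd : MinPair p Y P H L :=
    { elem := (isPRedIn_largest p M).2.2.1
      asym := hasym
      YP := frakM_largest_le p M
      PC := pCoreOf_le_centralizer_largest M
      Pp := isPGroup_pCoreOf p M
      PH := hH.2.1
      wc := frakM_wc S hQp hQ1 hQ hSM hM hasym
      NPY := (frakM_normalizer_core_le S hQp hQ1 hQ hSM hM).trans (frakM_le_normalizer p M)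
      charp := (hasCharP_iff H).1 hH.1
      notO := hH.2.2.1
      sub := hH.2.2.2
      gen := hgen
      ncl := hncl
      LH := hLH
      YL := hYL
      notOL := hYO
      min := hmin }
  obtain ⟨l, hl, hlgen⟩ := hd.exists_gen
  set V := Cfsg.pCoreOf p H with hVdef
  set N₀ := L ⊓ Subgroup.normalizer (Y : Set G) with hN₀
  have hN₀lt : N₀ < L := hd.inf_lt
  have huniq : ∀ X : Subgroup G, Y ≤ X → X < L → X ≤ N₀ := fun X hX hlt =>
    le_inf hlt.le (hd.proper_le hlt hX)
  have hHV : H ≤ Subgroup.normalizer (V : Set G) := le_normalizer_pCoreOf p H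
  have hVH : V ≤ H := pCoreOf_le p H
  have hcoat : IsCoatom (N₀.subgroupOf L) := by
    refine ⟨fun e => hN₀lt.not_ge (subgroupOf_eq_top.1 e), fun X hX => ?_⟩
    by_contra hne
    have h1 : X.map L.subtype < L := by
      refine lt_of_le_of_ne (Subgroup.map_subtype_le X) fun e => hne ?_
      apply Subgroup.map_injective L.subtype_injective
      rw [e, ← MonoidHom.range_eq_map, Subgroup.range_subtype]
    have hYN : ∀ y (hy : y ∈ Y), (⟨y, hYL hy⟩ : ↥L) ∈ N₀.subgroupOf L := fun y hy =>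
      ⟨hYL hy, Subgroup.le_normalizer hy⟩
    have h2 : X.map L.subtype ≤ N₀ :=
      huniq _ (fun y hy => ⟨⟨y, hYL hy⟩, hX.le (hYN y hy), rfl⟩) h1
    exact hX.not_ge fun x hx => h2 ⟨x, hx, rfl⟩
  have hminO : Cfsg.IsMinimalOver (Y.subgroupOf L) := by
    refine ⟨?_, N₀.subgroupOf L, ⟨hcoat, fun x hx => ⟨x.2, Subgroup.le_normalizer hx⟩⟩, ?_⟩
    · rw [eq_top_iff]
      intro x _
      set K := Subgroup.normalClosure ((Y.subgroupOf L : Subgroup ↥L) : Set ↥L) with hK
      have hY : Y ≤ K.map L.subtype := fun y hy =>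
        ⟨⟨y, hYL hy⟩, Subgroup.subset_normalClosure hy, rfl⟩
      have hle : L ≤ K.map L.subtype := by
        conv_lhs => rw [← hlgen]
        refine sup_le hY ?_
        rintro _ ⟨y, hy, rfl⟩
        obtain ⟨z, hz, hzy⟩ := hY hy
        refine ⟨⟨l, hl⟩ * z * ⟨l, hl⟩⁻¹, Subgroup.normalClosure_normal.conj_mem z hz _, ?_⟩
        show l * (z : G) * l⁻¹ = l * y * l⁻¹
        rw [show (z : G) = y from hzy]
      obtain ⟨z, hz, hzx⟩ := hle x.2
      exact Subtype.ext hzx ▸ hz
    · rintro K ⟨hK, hYK⟩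
      have h1 : K.map L.subtype < L := by
        refine lt_of_le_of_ne (Subgroup.map_subtype_le K) fun e => hK.1 ?_
        apply Subgroup.map_injective L.subtype_injective
        rw [e, ← MonoidHom.range_eq_map, Subgroup.range_subtype]
      have hYK' : Y ≤ K.map L.subtype := fun y hy => ⟨⟨y, hYL hy⟩, hYK hy, rfl⟩
      have h2 := huniq _ hYK' h1
      exact ((hK.le_iff).1 fun x hx => h2 ⟨x, hx, rfl⟩).resolve_left hcoat.1 |>.symm
  have hVn : V ≤ Subgroup.normalizer (L : Set G) := by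
    intro v hv
    refine mem_normalizer_of_map_conj_le ?_
    conv_lhs => rw [← hlgen]
    rw [Subgroup.map_sup]
    refine sup_le ?_ ?_
    · exact (map_conj_eq_self ((hd.O_le.trans hd.NPY) hv)).le.trans hYL
    · exact (map_conj_eq_self (hd.O_le_conj (hLH hl) hv)).le.trans (map_conj_le hYL hl)
  have hVL : V ⊓ L ≤ Cfsg.pCoreOf p L := LocalStructure.le_pCoreOf inf_le_right
    (le_normalizer_inf (hLH.trans hHV) Subgroup.le_normalizer)
    ((isPGroup_pCoreOf p H).to_le inf_le_left)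
  refine ⟨⟨?_, fun h hh hhn => ?_⟩, ⟨hminO, ?_, hN₀lt, huniq⟩, ?_, ?_⟩
  · exact hd.sup_P
  · have hLgen := hd.sup_conj hh hhn
    refine le_antisymm (sup_le ((map_conj_le hYL hh).trans hLH) hd.PH) ?_
    rw [← hd.sup_P]
    refine sup_le ?_ le_sup_right
    conv_lhs => rw [← hLgen]
    exact sup_le (hd.YP.trans le_sup_right) le_sup_left
  · rw [hasCharP_iff]
    have hCn : L ≤ Subgroup.normalizer ((L ⊓ Subgroup.centralizer (Cfsg.pCoreOf p L : Set G) : Subgroup G) : Set G) :=
      le_normalizer_inf Subgroup.le_normalizer (le_normalizer_centralizer (le_normalizer_pCoreOf p L))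
    refine LocalStructure.le_pCoreOf inf_le_left hCn (isPGroup_of_forall_coprime fun d hd' hdc => ?_)
    refine eq_one_of_isPGroup (isPGroup_pCoreOf p H) (hd.charp ⟨hLH hd'.1, ?_⟩) hdc
    refine Subgroup.mem_centralizer_iff.2 fun v hv => ?_
    refine (commute_of_stabilize ((isPGroup_pCoreOf p H).to_le (inf_le_left : V ⊓ L ≤ V)) hdc
      (fun w hw => (Subgroup.mem_centralizer_iff.1 hd'.2 w (hVL hw)).symm) ⟨?_, ?_⟩).eq.symm
    · rw [commutatorElement_def]
      exact V.mul_mem ((mem_normalizer_iff.1 (hHV (hLH hd'.1)) v).1 hv) (V.inv_mem hv)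
    · rw [commutatorElement_def, mul_assoc, mul_assoc, ← mul_assoc v]
      exact L.mul_mem hd'.1 ((mem_normalizer_iff.1 (hVn hv) _).1 (L.inv_mem hd'.1))
  · intro Vf W' hVfO hHVf hHW hlt hchief hnc hres
    rw [resOf_def] at hres
    set C := stabSub H W' (Vf : Set G) hHW with hC
    have hHC : H ≤ Subgroup.normalizer (C : Set G) :=
      le_normalizer_stabSub _ _ _ _ fun g hg v hv => (mem_normalizer_iff.1 (hHVf hg) v).1 hv
    have hRC : resOf p L ≤ C := fun x hx => ⟨hLH (resOf_le p L hx), fun v hv => by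
      rw [← commutatorElement_inv]
      exact W'.inv_mem (hres (commutator_mem_commutator hv hx))⟩
    have hRn : L ≤ Subgroup.normalizer (resOf p L : Set G) := le_normalizer_resOf p L
    have hYR : Y ⊔ resOf p L = L := by
      by_contra hne'
      set K := Y ⊔ resOf p L with hK
      have hKL : K < L := lt_of_le_of_ne (sup_le hYL (resOf_le p L)) hne'
      have hRN : resOf p L ≤ N₀ := le_sup_right.trans (huniq K le_sup_left hKL)
      obtain ⟨T, hYT, hT⟩ := exists_isSylowIn_le ((isPGroup_pCoreOf p M).to_le hd.YP) hYL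
      have hne2 : T ⊓ N₀ ≠ T := fun e => hN₀lt.not_ge (by
        conv_lhs => rw [← hT.resOf_sup]
        exact sup_le hRN (inf_eq_left.1 e))
      obtain ⟨t, htT, htn, htnot⟩ := exists_mem_normalizer_of_lt hT.2.1 (lt_of_le_of_ne inf_le_left hne2)
      apply htnot
      refine ⟨htT, ?_⟩
      have hts : N₀ = (T ⊓ N₀) ⊔ resOf p L := by
        refine le_antisymm ?_ (sup_le inf_le_right hRN)
        intro x hx
        obtain ⟨a, ha, r, hr, rfl⟩ := exists_mul_of_mem_sup (hT.1.trans hRn)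
          (by rw [sup_comm, hT.resOf_sup]; exact hx.1 : x ∈ T ⊔ resOf p L)
        refine Subgroup.mul_mem _ (Subgroup.mem_sup_left ⟨ha, ?_⟩) (Subgroup.mem_sup_right hr)
        have := N₀.mul_mem hx (N₀.inv_mem (hRN hr))
        rwa [mul_inv_cancel_right] at this
      have htN : (⟨t, hT.1 htT⟩ : ↥L) ∈ Subgroup.normalizer ((N₀.subgroupOf L : Subgroup ↥L) : Set ↥L) := by
        rw [← subgroupOf_normalizer_eq hN₀lt.le]
        show t ∈ Subgroup.normalizer (N₀ : Set G)
        refine mem_normalizer_of_map_conj_le ?_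
        conv_lhs => rw [hts]
        rw [Subgroup.map_sup]
        exact sup_le ((map_conj_eq_self htn).le.trans inf_le_right)
          ((map_conj_eq_self (hRn (hT.1 htT))).le.trans hRN)
      rw [minOver_not_normal hminO hcoat (fun x hx => ⟨x.2, Subgroup.le_normalizer hx⟩)] at htN
      exact htN
    have hLPC : L ≤ P ⊔ C := hYR ▸ sup_le (hd.YP.trans le_sup_left) (hRC.trans le_sup_right)
    have hCH : C ≤ H := stabSub_le _ _ _ _
    have htop : P ⊔ C = H := le_antisymm (sup_le hd.PH hCH)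
      (hd.sup_P.ge.trans (sup_le hLPC le_sup_left))
    set J := P ⊔ Vf with hJ
    have hVfH : Vf ≤ H := hVfO.trans hVH
    have hJp : IsPGroup p J := isPGroup_sup hd.Pp ((isPGroup_pCoreOf p H).to_le hVfO) (hd.PH.trans hHVf)
    have hJW : J ≤ Subgroup.normalizer (W' : Set G) := (sup_le hd.PH hVfH).trans hHW
    set N := Subgroup.normalizer (W' : Set G)
    let π := QuotientGroup.mk' (W'.subgroupOf N)
    have hπ : ∀ z : ↥N, π z = 1 ↔ (z : G) ∈ W' := fun z => QuotientGroup.eq_one_iff _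
    set Jb := (J.subgroupOf N).map π with hJb
    set Vb := (Vf.subgroupOf N).map π with hVb
    have hVb1 : Vb ≠ ⊥ := by
      intro e
      apply hlt.not_ge
      intro v hv
      have h1 : π ⟨v, hJW (Subgroup.mem_sup_right hv)⟩ ∈ Vb := ⟨_, hv, rfl⟩
      rw [e, Subgroup.mem_bot, hπ] at h1
      exact h1
    have hJbp : IsPGroup p Jb := (hJp.of_equiv (Subgroup.subgroupOfEquivOfLe hJW).symm).map π
    have hn : Jb ≤ Subgroup.normalizer (Vb : Set (↥N ⧸ W'.subgroupOf N)) := by
      refine (Subgroup.map_mono ?_).trans (Subgroup.le_normalizer_map π)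
      intro z hz
      refine Subgroup.mem_normalizer_iff.2 fun w => ?_
      exact mem_normalizer_iff.1 (((sup_le (hd.PH.trans hHVf) Subgroup.le_normalizer) : J ≤ _) hz) w
    have hVbJ : Vb ≤ Jb := Subgroup.map_mono fun z hz => Subgroup.mem_sup_right (S := P) hz
    obtain ⟨⟨c, hc, hcc⟩, hc1⟩ : ∃ c : ↥(Vb ⊓ Subgroup.centralizer (Jb : Set (↥N ⧸ W'.subgroupOf N))), (c : ↥N ⧸ W'.subgroupOf N) ≠ 1 := by
      by_contra hno
      push Not at hno
      exact inf_centralizer_ne_bot (hJbp.to_le hVbJ) hVb1 hJbp hn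
        (eq_bot_iff.2 fun x hx => Subgroup.mem_bot.2 (hno ⟨x, hx⟩))
    obtain ⟨v, hv, rfl⟩ := hc
    let Z : Subgroup G :=
      { carrier := {u | u ∈ Vf ∧ ∀ h ∈ H, ⁅u, h⁆ ∈ W'}
        one_mem' := ⟨Vf.one_mem, fun h _ => by simp⟩
        mul_mem' := by
          rintro a b ⟨ha, ha'⟩ ⟨hb, hb'⟩
          refine ⟨Vf.mul_mem ha hb, fun h hh => ?_⟩
          rw [show ⁅a * b, h⁆ = a * ⁅b, h⁆ * a⁻¹ * ⁅a, h⁆ by simp only [commutatorElement_def]; group]
          exact W'.mul_mem ((mem_normalizer_iff.1 (hHW (hVfH ha)) _).1 (hb' h hh)) (ha' h hh)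
        inv_mem' := by
          rintro a ⟨ha, ha'⟩
          refine ⟨Vf.inv_mem ha, fun h hh => ?_⟩
          rw [show ⁅a⁻¹, h⁆ = a⁻¹ * ⁅a, h⁆⁻¹ * a by simp only [commutatorElement_def]; group]
          exact (mem_normalizer_iff''.1 (hHW (hVfH ha)) _).1 (W'.inv_mem (ha' h hh)) }
    have hZn : H ≤ Subgroup.normalizer (Z : Set G) := by
      rw [le_normalizer_iff]
      rintro g hg u ⟨hu, hu'⟩
      refine ⟨(mem_normalizer_iff.1 (hHVf hg) u).1 hu, fun h hh => ?_⟩
      rw [show ⁅g * u * g⁻¹, h⁆ = g * ⁅u, g⁻¹ * h * g⁆ * g⁻¹ by simp only [commutatorElement_def]; group]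
      exact (mem_normalizer_iff.1 (hHW hg) _).1
        (hu' _ (H.mul_mem (H.mul_mem (H.inv_mem hg) hh) hg))
    have hWZ : W' ≤ Z := fun w hw => ⟨hlt.le hw, fun h hh => by
      rw [commutatorElement_def, mul_assoc, mul_assoc, ← mul_assoc h]
      exact W'.mul_mem hw ((mem_normalizer_iff.1 (hHW hh) _).1 (W'.inv_mem hw))⟩
    have hvZ : (v : G) ∈ Z := by
      refine ⟨hv, ?_⟩
      have hle : H ≤ stabSub H W' ({(v : G)} : Set G) hHW := by
        refine htop.ge.trans (sup_le (fun t ht => ?_) (fun x hx => ⟨hx.1, fun w hw => ?_⟩))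
        · refine ⟨hd.PH ht, fun w hw => ?_⟩
          rw [Set.mem_singleton_iff.1 hw]
          have htN : t ∈ N := hJW (Subgroup.mem_sup_left ht)
          have h1 : π ⟨t, htN⟩ ∈ Jb := Subgroup.mem_map_of_mem π (Subgroup.mem_sup_left (T := Vf) ht)
          have h2 := Subgroup.mem_centralizer_iff.1 hcc _ h1
          rw [← commutatorElement_eq_one_iff_mul_comm, ← map_commutatorElement, hπ] at h2
          exact h2
        · rw [Set.mem_singleton_iff.1 hw]
          exact hx.2 v hv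
      intro h hh
      rw [← commutatorElement_inv]
      exact W'.inv_mem ((hle hh).2 v rfl)
    rcases hchief Z hZn hWZ (fun u hu => hu.1) with hZ | hZ
    · exact hc1 ((hπ v).2 (hZ ▸ hvZ))
    · exact hnc (Subgroup.commutator_le.2 fun u hu h hh => (hZ.ge hu).2 h hh)
  · set Q₀ := Cfsg.pCoreOf p L with hQ₀
    set U₀ := Q₀ ⊓ Y with hU₀
    have hU₀L : U₀ ≤ L := inf_le_right.trans hYL
    have hQN : Q₀ ≤ Subgroup.normalizer (Y : Set G) := by
      refine le_trans le_sup_left (hd.proper_le (X := Q₀ ⊔ Y) (lt_of_le_of_ne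
        (sup_le (pCoreOf_le p L) hYL) fun e => hd.notOL ?_) le_sup_right)
      exact hYL.trans (LocalStructure.le_pCoreOf le_rfl Subgroup.le_normalizer
        (e ▸ isPGroup_comm_sup (isPGroup_pCoreOf p L) (hd.Pp.to_le hd.YP)
          (hYL.trans (le_normalizer_pCoreOf p L))))
    have hQN' : Q₀ ≤ Subgroup.normalizer ((Y.map (MulAut.conj l).toMonoidHom : Subgroup G) : Set G) :=
      (map_conj_eq_self (le_normalizer_pCoreOf p L hl)).ge.trans
        ((Subgroup.map_mono hQN).trans (Subgroup.le_normalizer_map _))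
    obtain ⟨-, -, -, hdec⟩ := hd.V1_facts hl hlgen
    set Z₀ := Y ⊓ Y.map (MulAut.conj l).toMonoidHom with hZ₀
    set W := MinPair.V1 p Y H with hW
    have hYY : Y ≤ Subgroup.centralizer (Y : Set G) := fun x hx =>
      Subgroup.mem_centralizer_iff.2 fun y hy => Cfsg.Agent.PGroup.mul_comm_of_isMulCommutative hd.elem.1 hy hx
    have hZH : H ≤ Subgroup.centralizer (Z₀ : Set G) := by
      rw [← hd.sup_P]
      refine sup_le ?_ (hd.PC.trans (Subgroup.centralizer_le inf_le_left))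
      conv_lhs => rw [← hlgen]
      refine sup_le (hYY.trans (Subgroup.centralizer_le inf_le_left)) ?_
      exact (Subgroup.map_mono hYY).trans ((coe_map_conj_centralizer Y l).le.trans
        (Subgroup.centralizer_le inf_le_right))
    have hg : H ≤ Subgroup.normalizer (Z₀ : Set G) := hZH.trans (LocalStructure.centralizer_le_normalizer _)
    set S1 := stabSub H Z₀ (W : Set G) hg with hS1
    have hHS : H ≤ Subgroup.normalizer (S1 : Set G) :=
      le_normalizer_stabSub _ _ _ _ fun g hg' v hv => (mem_normalizer_iff.1 (MinPair.H_le_V1 p Y H hg') v).1 hv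
    have hS1p : IsPGroup p S1 := by
      refine isPGroup_of_forall_coprime fun d hd' hdc => ?_
      refine eq_one_of_isPGroup hd.isPGroup_centralizer_V1 ⟨hd'.1, ?_⟩ hdc
      refine Subgroup.mem_centralizer_iff.2 fun w hw => ?_
      exact (commute_of_stabilize ((hd.Pp.to_le hd.YP).to_le (inf_le_left : Z₀ ≤ Y)) hdc
        (fun z hz => (Subgroup.mem_centralizer_iff.1 (hZH hd'.1) z hz).symm) (hd'.2 w hw)).eq.symm
    have hU₀O : U₀ ≤ V := by
      refine le_trans ?_ (LocalStructure.le_pCoreOf (stabSub_le _ _ _ _) hHS hS1p)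
      rintro u ⟨huQ, huY⟩
      refine ⟨hd.YH huY, fun w hw => ?_⟩
      obtain ⟨a, ha, b, hb, rfl⟩ := hdec w hw
      have hub : u * b = b * u := Subgroup.mem_centralizer_iff.1 hb.2 u huY
      have e : ⁅u, a * b⁆ = ⁅u, a⁆ := by
        simp only [commutatorElement_def, mul_inv_rev]
        calc u * (a * b) * u⁻¹ * (b⁻¹ * a⁻¹) = u * a * ((b * u⁻¹) * b⁻¹) * a⁻¹ := by group
          _ = u * a * u⁻¹ * a⁻¹ := by
            rw [show b * u⁻¹ = u⁻¹ * b by
              calc b * u⁻¹ = u⁻¹ * (u * b) * u⁻¹ := by group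
                _ = u⁻¹ * (b * u) * u⁻¹ := by rw [hub]
                _ = u⁻¹ * b := by group]
            group
      rw [e]
      have haY : a ∈ Y.map (MulAut.conj l).toMonoidHom := Subgroup.map_mono inf_le_right ha
      have haV : a ∈ V := by
        have := Subgroup.map_mono inf_le_left ha
        rwa [map_conj_eq_self (hHV (hLH hl))] at this
      refine Subgroup.mem_inf.2 ⟨?_, ?_⟩
      · rw [commutatorElement_def, mul_assoc, mul_assoc, ← mul_assoc a]
        exact Y.mul_mem huY ((mem_normalizer_iff.1 ((hd.O_le.trans hd.NPY) haV) _).1 (Y.inv_mem huY))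
      · rw [commutatorElement_def]
        exact mul_mem ((mem_normalizer_iff.1 (hQN' huQ) a).1 haY) (inv_mem haY)
    exact map_normalClosure_le hU₀L hU₀O (hLH.trans hHV)

end Cfsg.Agent.S2862
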