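import Cfsg.Statements.S2863
import Cfsg.Agent.Lib.LocalStructure.FrakLSetup
import Cfsg.Agent.Lib.Sz.Real

set_option autoImplicit false
open Cfsg
open Subgroup Cfsg.Agent.LocalStructure
open scoped commutatorElement

namespace Cfsg.Agent.S2863

/-- Standing hypotheses: G a finite group, S a Sylow p-subgroup, Q a nontrivial large p-subgroup of G contained in S, M a subgroup containing S with the basic property (M ∈ 𝔐_G(S)); Y_M the largest p-reduced normal subgroup of M and M† = M·C_G(Y_M). Let L ∈ 𝔏_G(Y_M) (L ∈ 𝔏_G(Y_M): Y_M ≤ L; O_p(L) is the normal closure in L of Y_M ∩ O_p(L) and normalizes Y_M; L is Y_M-minimal of characteristic p with N_L(Y_M) its unique maximal subgroup over Y_M; and L/O_p(L) ≅ SL₂(q) with q = |Y_M : Y_M ∩ O_p(L)|, or p = 2 and L/O_p(L) is a Suzuki group Sz(q) or dihedral of order 2r, r an odd prime), A = O_p(L), and C = C_{Y_M}(L). Then every element h of L whose order is not a power of p acts without nontrivial fixed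 points on A/C: for a ∈ A, hah⁻¹a⁻¹ ∈ C implies a ∈ C. -/
theorem result {G : Type*} [Group G] [Finite G] {p : ℕ} [Fact p.Prime] (S : Sylow p G) (Q : Subgroup G) (hQp : IsPGroup p ↥Q) (hQ1 : Q ≠ ⊥) (hQS : Q ≤ (S : Subgroup G)) (hQ : Cfsg.IsLarge Q) (M : Subgroup G) (hSM : (S : Subgroup G) ≤ M) (hM : Cfsg.IsInFrakM p M) (L : Subgroup G) (hL : Cfsg.IsInFrakL p M L) (h : G) (hh : h ∈ L) (hnp : ¬ ∃ k : ℕ, orderOf h = p ^ k) : ∀ a ∈ (Cfsg.pCoreOf p L), h * a * h⁻¹ * a⁻¹ ∈ (Cfsg.largestPReducedOf p M) ⊓ Subgroup.centralizer ((L : Subgroup G) : Set G) → a ∈ (Cfsg.largestPReducedOf p M) ⊓ Subgroup.centralizer ((L : Subgroup G) : Set G) := by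
  have hs := frakL_setup hL
  obtain ⟨hYL, -, -, -, -, -, hquot⟩ := hL
  set Y := Cfsg.largestPReducedOf p M with hY
  set Y' := Y.subgroupOf L with hY'
  intro a ha hfix
  have hmem : ∀ z : ↥L, (z : G) ∈ Y ⊓ Subgroup.centralizer (L : Set G) ↔
      z ∈ Y' ⊓ Subgroup.center ↥L := by
    intro z
    rw [Subgroup.mem_inf, Subgroup.mem_inf, hY', Subgroup.mem_subgroupOf, Subgroup.mem_centralizer_iff,
      Subgroup.mem_center_iff]
    exact and_congr_right fun _ =>
      ⟨fun h l => Subtype.ext (h l l.2), fun h l hl => congrArg Subtype.val (h ⟨l, hl⟩)⟩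
  have haL : a ∈ L := LocalStructure.pCoreOf_le p L ha
  set h' : ↥L := ⟨h, hh⟩ with hh'
  set a' : ↥L := ⟨a, haL⟩ with ha'def
  have ha' : a' ∈ Cfsg.pCore p ↥L := by
    rw [← subgroupOf_pCoreOf p L]
    exact ha
  have hfix' : ⁅h', a'⁆ ∈ Y' ⊓ Subgroup.center ↥L := (hmem _).1 (by
    simpa [commutatorElement_def] using hfix)
  have hnp' : ¬ ∃ k : ℕ, h' ^ p ^ k = 1 := by
    rintro ⟨k, hk⟩
    have h1 : h ^ p ^ k = 1 := by simpa [hh', Subtype.ext_iff] using hk
    obtain ⟨i, -, hi⟩ := (Nat.dvd_prime_pow (Fact.out : p.Prime)).1 (orderOf_dvd_of_pow_eq_one h1)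
    exact hnp ⟨i, hi⟩
  refine (hmem a').2 ?_
  have hn := LocalStructure.pCore_normal p ↥L
  -- transfer along a quotient isomorphism
  suffices key : ∀ (Q : Type) [Group Q] [Finite Q] (e : ↥L ⧸ Cfsg.pCore p ↥L ≃* Q)
      (Z : Subgroup Q), Z = (Y'.map (QuotientGroup.mk' (Cfsg.pCore p ↥L))).map e.toMonoidHom →
      (∀ x : Q, (orderOf x).Prime → orderOf x ≠ p → DecQ Z x ∨
        ((∀ z, z * x = x * z) ∧ ∃ y ∈ Z, y ≠ 1 ∧ DecQ Z (x * y))) →
      a' ∈ Y' ⊓ Subgroup.center ↥L by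
    have hZp : ∀ (Q : Type) [Group Q] (e : ↥L ⧸ Cfsg.pCore p ↥L ≃* Q),
        IsPGroup p ((Y'.map (QuotientGroup.mk' (Cfsg.pCore p ↥L))).map e.toMonoidHom) := fun Q _ e =>
      ((Cfsg.Agent.PGroup.isPGroup_of_elementaryAbelian hs.elem).map _).map _
    have hYO : ¬ Y' ≤ Cfsg.pCore p ↥L := fun hle => by
      rcases minOver_normal_le hs.min hs.coatom Subgroup.le_normalizer hn with h1 | h1
      · exact h1 hle
      · exact hs.coatom.1 (top_le_iff.1 (h1.ge.trans hs.normalizes))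
    have hcard : ∀ (Q : Type) [Group Q] (e : ↥L ⧸ Cfsg.pCore p ↥L ≃* Q),
        Nat.card ((Y'.map (QuotientGroup.mk' (Cfsg.pCore p ↥L))).map e.toMonoidHom) =
          (Y ⊓ Cfsg.pCoreOf p L).relIndex Y := fun Q _ e => by
      rw [← Nat.card_congr ((Y'.map (QuotientGroup.mk' (Cfsg.pCore p ↥L))).equivMapOfInjective _
        e.injective).toEquiv]
      have h1 := Subgroup.relIndex_ker (K := Y') (QuotientGroup.mk' (Cfsg.pCore p ↥L))
      rw [QuotientGroup.ker_mk'] at h1
      rw [Subgroup.inf_relIndex_left, ← Subgroup.relIndex_subgroupOf hYL, subgroupOf_pCoreOf,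
        ← hY', h1]
    have hne : ∀ (Q : Type) [Group Q] (e : ↥L ⧸ Cfsg.pCore p ↥L ≃* Q),
        ((Y'.map (QuotientGroup.mk' (Cfsg.pCore p ↥L))).map e.toMonoidHom) ≠ ⊥ := fun Q _ e hb => by
      rw [Subgroup.map_eq_bot_iff_of_injective _ e.injective, Subgroup.map_eq_bot_iff,
        QuotientGroup.ker_mk'] at hb
      exact hYO hb
    have htwo : ∀ (Q : Type) [Group Q] [Finite Q] (e : ↥L ⧸ Cfsg.pCore p ↥L ≃* Q), p = 2 →
        Nat.card ((Y'.map (QuotientGroup.mk' (Cfsg.pCore p ↥L))).map e.toMonoidHom) = 2 →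
        ∀ x : Q, (orderOf x).Prime → orderOf x ≠ p →
          DecQ ((Y'.map (QuotientGroup.mk' (Cfsg.pCore p ↥L))).map e.toMonoidHom) x := by
      intro Q _ _ e hp hc x _ hxp
      obtain ⟨g, hg⟩ := hs.not_mem
      have hgen := congrArg (fun K : Subgroup ↥L =>
        (K.map (QuotientGroup.mk' (Cfsg.pCore p ↥L))).map e.toMonoidHom)
        (minOver_sup_conj hs.min hs.coatom Subgroup.le_normalizer hg)
      refine decQ_of_card_two hc (g := e (QuotientGroup.mk' _ g)) ?_ (hp ▸ hxp)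
      simp only [Subgroup.map_sup, Subgroup.map_top_of_surjective _ (QuotientGroup.mk'_surjective _),
        Subgroup.map_top_of_surjective e.toMonoidHom e.surjective] at hgen
      refine Eq.trans ?_ hgen
      congr 1
      rw [Subgroup.map_map, Subgroup.map_map, Subgroup.map_map, Subgroup.map_map]
      congr 1
      ext z
      simp
    rcases hquot with ⟨F, _, _, hFc, ⟨e⟩⟩ | ⟨hp, F, _, _, m, hF, hFc, ⟨e⟩⟩ | ⟨hp, r, hr, hr2, ⟨e⟩⟩
    · obtain ⟨q, _⟩ := CharP.exists F
      obtain ⟨n, hqp, hn2⟩ := FiniteField.card F q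
      obtain ⟨k, hk⟩ := (hZp _ e).exists_card_eq
      rw [hcard _ e, ← hFc] at hk
      have hqeq : q = p := (Nat.prime_dvd_prime_iff_eq hqp (Fact.out : p.Prime)).1
        (hqp.dvd_of_dvd_pow (n := k) (by rw [← hk, hn2]; exact dvd_pow_self q n.pos.ne'))
      subst hqeq
      exact key _ e _ rfl fun x hx hxp =>
        decQ_sl2 (hZp _ e) (by rw [hcard _ e, hFc]) hx hxp
    · by_cases hm : 1 ≤ m
      · refine key _ e _ rfl fun x hx hxp => Or.inl ?_
        subst hp
        obtain ⟨⟨t, ht⟩, ht1⟩ := Subgroup.ne_bot_iff_exists_ne_one.1 (hne _ e)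
        have ht1' : t ≠ 1 := fun e' => ht1 (Subtype.ext e')
        have htt : t * t = 1 := by
          obtain ⟨y, hy, rfl⟩ := ht
          obtain ⟨y, hy', rfl⟩ := hy
          rw [← map_mul, ← map_mul, ← pow_two, hs.elem.2 y hy', map_one, map_one]
        set φ := Cfsg.Agent.SZ.szEquiv hm hF with hφ
        have hord : orderOf (φ.symm x) = orderOf x := MulEquiv.orderOf_eq φ.symm x
        obtain ⟨w, hw, hw1, hwx⟩ := Cfsg.Agent.SZ.exists_inverting hm hF hx hxp hord
        refine decQ_of_inverting ht (w := φ w) (by rw [← map_mul, hw, map_one])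
          (fun e' => hw1 (φ.injective (e'.trans (map_one φ).symm))) ?_ ?_ ?_
        · have h2 := congrArg φ hwx
          simpa only [map_mul, map_inv, MulEquiv.apply_symm_apply] using h2
        · intro e'
          exact hxp ((Nat.prime_dvd_prime_iff_eq hx Nat.prime_two).1
            (orderOf_dvd_of_pow_eq_one (by rw [pow_two]; exact e')))
        · intro y hy hy1
          obtain ⟨g₁, hg₁⟩ := Cfsg.Agent.SZ.exists_conj_involution hm hF (x := φ.symm t)
            (by rw [← map_mul, htt, map_one]) (fun e' => ht1' (φ.symm.injective (e'.trans (map_one φ.symm).symm)))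
          obtain ⟨g₂, hg₂⟩ := Cfsg.Agent.SZ.exists_conj_involution hm hF (x := φ.symm y)
            (by rw [← map_mul, hy, map_one]) (fun e' => hy1 (φ.symm.injective (e'.trans (map_one φ.symm).symm)))
          refine ⟨φ (g₂ * g₁⁻¹), φ.symm.injective ?_⟩
          rw [map_mul, map_mul, map_inv, MulEquiv.symm_apply_apply, ← hg₂, ← hg₁]
          group
      · have hm0 : m = 0 := by omega
        subst hm0
        exact key _ e _ rfl fun x hx hxp => Or.inl (htwo _ e hp (by rw [hcard _ e, ← hFc, hF]; norm_num) x hx hxp)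
    · subst hp
      haveI : NeZero r := ⟨hr.ne_zero⟩
      refine key _ e _ rfl fun x hx hxp => Or.inl (htwo _ e rfl ?_ x hx hxp)
      obtain ⟨k, hk⟩ := (hZp _ e).exists_card_eq
      have hdvd := Subgroup.card_subgroup_dvd_card
        ((Y'.map (QuotientGroup.mk' (Cfsg.pCore 2 ↥L))).map e.toMonoidHom)
      rw [DihedralGroup.nat_card, hk] at hdvd
      rcases k with _ | _ | k
      · exact absurd (Subgroup.card_eq_one.1 (by rw [hk, pow_zero])) (hne _ e)
      · rw [hk, pow_one]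
      · exfalso
        have h4 : 4 ∣ 2 * r := (Dvd.intro (2 ^ k) (by ring) : 4 ∣ 2 ^ (k + 1 + 1)).trans hdvd
        have : 2 ∣ r := by omega
        exact hr2 ((Nat.prime_dvd_prime_iff_eq Nat.prime_two hr).1 this).symm
  intro Q _ _ e Z hZ hQ
  set f : ↥L →* Q := e.toMonoidHom.comp (QuotientGroup.mk' (Cfsg.pCore p ↥L)) with hf
  have hker : f.ker = Cfsg.pCore p ↥L := by
    ext z
    rw [MonoidHom.mem_ker, hf, MonoidHom.comp_apply]
    show e (QuotientGroup.mk' _ z) = 1 ↔ _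
    rw [map_eq_one_iff e e.injective, QuotientGroup.mk'_apply, QuotientGroup.eq_one_iff]
  have hfs : Function.Surjective f := e.surjective.comp (QuotientGroup.mk'_surjective _)
  rw [Subgroup.map_map, ← hf] at hZ
  subst hZ
  have hlift : ∀ x, DecQ (Y'.map f) x → YSetup.Dec f Y' x := by
    rintro x ⟨c, d, u, v, hu, hv, rfl⟩
    obtain ⟨c, rfl⟩ := hfs c
    obtain ⟨d, rfl⟩ := hfs d
    obtain ⟨_, ⟨u, hu', rfl⟩, rfl⟩ := hu
    obtain ⟨_, ⟨v, hv', rfl⟩, rfl⟩ := hv
    exact ⟨c, d, c * u * c⁻¹, d * v * d⁻¹, conj_mem_map_conj hu', conj_mem_map_conj hv', by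
      simp [map_mul, map_inv]⟩
  refine hs.fpf_of_quotient f hker (fun x hx hxp => ?_) hnp' ha' hfix'
  rcases hQ x hx hxp with hd | ⟨hc, y, hy, hy1, hd⟩
  · exact Or.inl (hlift x hd)
  · obtain ⟨y, hy', rfl⟩ := hy
    exact Or.inr ⟨hc, y, hy', fun ho => hy1 (by rwa [← hker, MonoidHom.mem_ker] at ho), hlift _ hd⟩

end Cfsg.Agent.S2863
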