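import Cfsg.Statements.S2864
import Cfsg.Agent.Lib.LocalStructure.FrakM
import Cfsg.Agent.Lib.Coprime.Commutator
import Cfsg.Agent.Lib.PGroup.Frattini

set_option autoImplicit false
open Cfsg
open Subgroup Cfsg.Agent.LocalStructure
open scoped commutatorElement

namespace Cfsg.Agent.S2864

/-- Standing hypotheses: G a finite group, S a Sylow p-subgroup, Q a nontrivial large p-subgroup of G contained in S, M a subgroup containing S with the basic property (M ∈ 𝔐_G(S)); Y_M the largest p-reduced normal subgroup of M and M† = M·C_G(Y_M). Let I be a nontrivial normal p-subgroup of M and Y ≤ O_p(M†); let L be a subgroup of G containing Y and A a normal p-subgroup of L with I ≤ A ≤ M. If [Y, A] ≤ [I, A], then Y ≤ O_p(L). -/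
theorem result {G : Type*} [Group G] [Finite G] {p : ℕ} [Fact p.Prime] (S : Sylow p G) (Q : Subgroup G) (hQp : IsPGroup p ↥Q) (hQ1 : Q ≠ ⊥) (hQS : Q ≤ (S : Subgroup G)) (hQ : Cfsg.IsLarge Q) (M : Subgroup G) (hSM : (S : Subgroup G) ≤ M) (hM : Cfsg.IsInFrakM p M) (I : Subgroup G) (hI1 : I ≠ ⊥) (hIp : IsPGroup p ↥I) (hIM : I ≤ M ∧ M ≤ Subgroup.normalizer ((I : Subgroup G) : Set G)) (Y : Subgroup G) (hY : Y ≤ (Cfsg.pCoreOf p (M ⊔ Subgroup.centralizer (((Cfsg.largestPReducedOf p M) : Subgroup G) : Set G)))) (L : Subgroup G) (hYL : Y ≤ L) (A : Subgroup G) (hAp : IsPGroup p ↥A) (hAL : A ≤ L ∧ L ≤ Subgroup.normalizer ((A : Subgroup G) : Set G)) (hIA : I ≤ A) (hAM : A ≤ M) (hc : ⁅Y, A⁆ ≤ ⁅I, A⁆) : Y ≤ (Cfsg.pCoreOf p L) := by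
  set Md := M ⊔ Subgroup.centralizer (((Cfsg.largestPReducedOf p M) : Subgroup G) : Set G)
  set O := Cfsg.pCoreOf p Md
  set U := Cfsg.pCoreOf p L
  have hYp : IsPGroup p Y := (isPGroup_pCoreOf p Md).to_le hY
  have hLU : L ≤ normalizer (U : Set G) := le_normalizer_pCoreOf p L
  set C := L ⊓ Subgroup.centralizer (A : Set G)
  have hLC : L ≤ normalizer (C : Set G) :=
    le_normalizer_inf L.le_normalizer (le_normalizer_centralizer hAL.2)
  have hCd : C ≤ Md := inf_le_right.trans ((Subgroup.centralizer_le hIA).trans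
    ((centralizer_le_normalizer I).trans
      (frakM_normalizer_le_dagger S hQp hQ1 hQ hSM hM hIp hI1 hIM.2)))
  have hCU : Cfsg.pCoreOf p C ≤ U :=
    LocalStructure.le_pCoreOf ((pCoreOf_le p C).trans inf_le_left)
      (hLC.trans (normalizer_le_normalizer_pCoreOf C)) (isPGroup_pCoreOf p C)
  have hYC : ⁅Y, C⁆ ≤ U := by
    refine le_trans (le_trans (le_inf ?_ ?_) (pCoreOf_inf_le hCd)) hCU
    · exact (commutator_mono hY le_rfl).trans
        (le_normalizer_iff_commutator_le_left.1 (hCd.trans (le_normalizer_pCoreOf p Md)))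
    · exact le_normalizer_iff_commutator_le_right.1 (hYL.trans hLC)
  have hLA : L ≤ normalizer ((⁅A, A⁆ : Subgroup G) : Set G) := le_normalizer_commutator hAL.2 hAL.2
  have hAA : ⁅A, A⁆ ≤ A := le_normalizer_iff_commutator_le_right.1 Subgroup.le_normalizer
  have hYA : ⁅Y, A⁆ ≤ ⁅A, A⁆ := hc.trans (commutator_mono hIA le_rfl)
  let K : Subgroup G :=
    { carrier := {x | x ∈ L ∧ (∀ a ∈ A, ⁅x, a⁆ ∈ ⁅A, A⁆) ∧ ∀ c ∈ C, ⁅x, c⁆ ∈ U}
      one_mem' := ⟨L.one_mem, fun a _ => by simp, fun c _ => by simp⟩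
      mul_mem' := by
        rintro x y ⟨hx, hx1, hx2⟩ ⟨hy, hy1, hy2⟩
        refine ⟨L.mul_mem hx hy, fun a ha => ?_, fun c hc => ?_⟩ <;>
          rw [show ∀ t : G, ⁅x * y, t⁆ = x * ⁅y, t⁆ * x⁻¹ * ⁅x, t⁆ from
            fun t => by simp only [commutatorElement_def]; group]
        · exact mul_mem ((mem_normalizer_iff.1 (hLA hx) _).1 (hy1 a ha)) (hx1 a ha)
        · exact mul_mem ((mem_normalizer_iff.1 (hLU hx) _).1 (hy2 c hc)) (hx2 c hc)
      inv_mem' := by
        rintro x ⟨hx, hx1, hx2⟩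
        refine ⟨L.inv_mem hx, fun a ha => ?_, fun c hc => ?_⟩ <;>
          rw [show ∀ t : G, ⁅x⁻¹, t⁆ = x⁻¹ * ⁅x, t⁆⁻¹ * x from
            fun t => by simp only [commutatorElement_def]; group]
        · exact (mem_normalizer_iff''.1 (hLA hx) _).1 (inv_mem (hx1 a ha))
        · exact (mem_normalizer_iff''.1 (hLU hx) _).1 (inv_mem (hx2 c hc)) }
  have hYK : Y ≤ K := fun y hy => ⟨hYL hy, fun a ha => hYA (commutator_mem_commutator hy ha),
    fun c hc => hYC (commutator_mem_commutator hy hc)⟩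
  have hKL : K ≤ L := fun x hx => hx.1
  have hLK : L ≤ normalizer (K : Set G) := by
    rw [le_normalizer_iff]
    rintro l hl x ⟨hx, hx1, hx2⟩
    refine ⟨L.mul_mem (L.mul_mem hl hx) (L.inv_mem hl), fun a ha => ?_, fun c hc => ?_⟩
    · have e : ⁅l * x * l⁻¹, a⁆ = l * ⁅x, l⁻¹ * a * l⁆ * l⁻¹ := by
        simp only [commutatorElement_def]; group
      rw [e]
      exact (mem_normalizer_iff.1 (hLA hl) _).1 (hx1 _ ((mem_normalizer_iff''.1 (hAL.2 hl) a).1 ha))
    · have e : ⁅l * x * l⁻¹, c⁆ = l * ⁅x, l⁻¹ * c * l⁆ * l⁻¹ := by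
        simp only [commutatorElement_def]; group
      rw [e]
      exact (mem_normalizer_iff.1 (hLU hl) _).1 (hx2 _ ((mem_normalizer_iff''.1 (hLC hl) c).1 hc))
  have hfr : ⁅A, A⁆ ≤ (frattini ↥A).map A.subtype := by
    have h := Subgroup.map_mono (f := A.subtype) (Cfsg.Agent.PGroup.commutator_le_frattini hAp)
    rw [_root_.commutator_def, map_commutator, ← MonoidHom.range_eq_map, range_subtype] at h
    exact h
  have hres : resOf p K ≤ K ⊓ C := by
    rw [resOf_le_iff]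
    intro x hx hxc
    refine ⟨hx, hx.1, ?_⟩
    refine Cfsg.Agent.Coprime.le_centralizer_of_frattini (A := Subgroup.zpowers x)
      ((Subgroup.zpowers_le.2 hx.1).trans hAL.2) ?_ ?_ (Subgroup.mem_zpowers x)
    · obtain ⟨n, hn⟩ := (hAp.to_subgroup (frattini ↥A)).exists_card_eq
      rw [Nat.card_zpowers, hn]
      exact hxc.pow_right n
    · intro a ha k hk
      have h := (Subgroup.zpowers_le.2 hx ha).2.1 k hk
      rw [commutatorElement_def] at h
      exact hfr h
  have hKKC : K ≤ normalizer ((K ⊓ C : Subgroup G) : Set G) :=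
    le_normalizer_inf K.le_normalizer (hKL.trans hLC)
  obtain ⟨R, hYR, hR⟩ := exists_isSylowIn_le hYp hYK
  have hR1 := hR.inf_normal inf_le_left hKKC
  have hKU : K ≤ normalizer (U : Set G) := hKL.trans hLU
  have hc1 : ∀ x ∈ K ⊓ C, ∀ y ∈ K, ⁅x, y⁆ ∈ U := fun x hx y hy => by
    rw [← commutatorElement_inv]
    exact U.inv_mem (hy.2.2 x hx.2)
  have hR1U : IsPGroup p (R ⊔ U : Subgroup G) :=
    isPGroup_sup hR.2.1 (isPGroup_pCoreOf p L) (hR.1.trans hKU)
  have hn : K ≤ normalizer ((R ⊔ U : Subgroup G) : Set G) := by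
    conv_lhs => rw [← hR.resOf_sup]
    refine sup_le ?_ (le_normalizer_sup Subgroup.le_normalizer (hR.1.trans hKU))
    rw [le_normalizer_iff]
    intro x hx k hk
    obtain ⟨a, ha, u, hu, rfl⟩ := exists_mul_of_mem_sup (hR.1.trans hKU) hk
    have e : x * (a * u) * x⁻¹ = ⁅x, a⁆ * a * (x * u * x⁻¹) := by
      rw [commutatorElement_def]; group
    rw [e]
    exact mul_mem (mul_mem (le_sup_right (a := R) (hc1 x (hres hx) a (hR.1 ha)))
      (le_sup_left (b := U) ha))
      (le_sup_right (a := R) ((mem_normalizer_iff.1 (hKU (resOf_le p K hx)) u).1 hu))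
  have h1 : R ≤ Cfsg.pCoreOf p K := (le_inf (le_sup_left.trans (LocalStructure.le_pCoreOf
    (sup_le_sup_right hR.1 U) (sup_le hn (le_sup_right.trans Subgroup.le_normalizer)) hR1U)) hR.1).trans
    (pCoreOf_inf_le le_sup_left)
  exact hYR.trans (h1.trans (LocalStructure.le_pCoreOf ((pCoreOf_le p K).trans hKL)
    (hLK.trans (normalizer_le_normalizer_pCoreOf K)) (isPGroup_pCoreOf p K)))

end Cfsg.Agent.S2864
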