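import Cfsg.Statements.S2872
import Cfsg.Agent.Lib.LocalStructure.Basic
import Cfsg.Agent.Lib.LocalStructure.TransferCentral
import Cfsg.Agent.Lib.Transfer.Central

set_option autoImplicit false
open Cfsg
open Subgroup Cfsg.Agent.LocalStructure
open scoped commutatorElement

namespace Cfsg.Agent.S2872

/-- Let S be a Sylow 2-subgroup of the finite group G. Then G has a proper normal subgroup of 2-power index (O²(G) ≠ G), or Ω₁(Z(S)) is contained in the Frattini subgroup of S, or N_G(S) acts nontrivially on Ω₁(Z(S)) by conjugation. -/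
theorem result {G : Type*} [Group G] [Finite G] (S : Sylow 2 G) : Cfsg.pResidual 2 G ≠ ⊤ ∨ Cfsg.omegaOne 2 ((S : Subgroup G) ⊓ Subgroup.centralizer ((S : Subgroup G) : Set G)) ≤ (frattini ↥(S : Subgroup G)).map (S : Subgroup G).subtype ∨ ∃ g ∈ Subgroup.normalizer ((S : Subgroup G) : Set G), ∃ z ∈ Cfsg.omegaOne 2 ((S : Subgroup G) ⊓ Subgroup.centralizer ((S : Subgroup G) : Set G)), g * z * g⁻¹ ≠ z := by
  by_contra hcon
  push Not at hcon
  obtain ⟨htop, hnle, hN⟩ := hcon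
  have : Fact (Nat.Prime 2) := ⟨Nat.prime_two⟩
  obtain ⟨z, ⟨⟨hzS, hzC⟩, hz2⟩, hzF⟩ : ∃ z : G, (z ∈ (S : Subgroup G) ⊓
      Subgroup.centralizer ((S : Subgroup G) : Set G) ∧ z ^ 2 = 1) ∧
      z ∉ (frattini ↥(S : Subgroup G)).map (S : Subgroup G).subtype := by
    by_contra hc
    push Not at hc
    exact hnle ((Subgroup.closure_le _).2 fun x hx => hc x hx)
  obtain ⟨M, hM, hzM⟩ : ∃ M : Subgroup ↥(S : Subgroup G), IsCoatom M ∧ (⟨z, hzS⟩ : ↥(S : Subgroup G)) ∉ M := by
    by_contra hc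
    push Not at hc
    refine hzF ⟨⟨z, hzS⟩, ?_, rfl⟩
    simp only [frattini, Order.radical, SetLike.mem_coe]
    rw [Subgroup.mem_iInf]
    intro M
    rw [Subgroup.mem_iInf]
    exact fun hM => hc M hM
  obtain ⟨hMn, hsq, -⟩ := Cfsg.Agent.Transfer.coatom_pGroup S.2 hM
  have hsplit : ∀ a : ↥(S : Subgroup G) ⧸ M, a = 1 ∨ a = ((⟨z, hzS⟩ : ↥(S : Subgroup G)) : ↥(S : Subgroup G) ⧸ M) := by
    intro a
    obtain ⟨s, rfl⟩ := QuotientGroup.mk_surjective a
    have h1 : M ⊔ Subgroup.zpowers (⟨z, hzS⟩ : ↥(S : Subgroup G)) = ⊤ := by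
      refine hM.2 _ (lt_of_le_of_ne le_sup_left fun e => hzM ?_)
      rw [e]
      exact Subgroup.mem_sup_right (Subgroup.mem_zpowers _)
    obtain ⟨m, hm, t, ht, rfl⟩ := Subgroup.mem_sup_of_normal_left.1
      (h1.symm ▸ Subgroup.mem_top s : s ∈ M ⊔ Subgroup.zpowers (⟨z, hzS⟩ : ↥(S : Subgroup G)))
    rw [QuotientGroup.mk_mul, (QuotientGroup.eq_one_iff m).2 hm, one_mul]
    obtain ⟨k, rfl⟩ := Subgroup.mem_zpowers_iff.1 ht
    have hz2' : (⟨z, hzS⟩ : ↥(S : Subgroup G)) ^ (2 : ℤ) = 1 := Subtype.ext (by simpa using hz2)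
    rcases Int.even_or_odd' k with ⟨l, rfl | rfl⟩
    · left
      rw [zpow_mul, hz2', one_zpow, QuotientGroup.mk_one]
    · right
      rw [zpow_add_one, zpow_mul, hz2', one_zpow, one_mul]
  letI : CommGroup (↥(S : Subgroup G) ⧸ M) :=
    { (inferInstance : Group (↥(S : Subgroup G) ⧸ M)) with
      mul_comm := fun a b => by
        rcases hsplit a with rfl | rfl <;> rcases hsplit b with rfl | rfl <;> simp }
  set φ : ↥(S : Subgroup G) →* ↥(S : Subgroup G) ⧸ M := QuotientGroup.mk' M with hφ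
  have hne := transfer_ne_one_of_normalizer_centralizes S φ hzS (by rw [← pow_two, hz2])
    (fun s hs => hzC s hs) (fun g hg => hN g hg z (Subgroup.subset_closure ⟨⟨hzS, hzC⟩, hz2⟩))
    hsplit (fun e => hzM ((QuotientGroup.eq_one_iff _).1 e))
  apply hne
  have hker : Cfsg.pResidual 2 G ≤ (MonoidHom.transfer φ).ker := by
    refine (Subgroup.closure_le _).2 fun g hg => ?_
    rw [SetLike.mem_coe, MonoidHom.mem_ker]
    rcases hsplit (MonoidHom.transfer φ g) with h | h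
    · exact h
    · have h1 : orderOf (MonoidHom.transfer φ g) ∣ 2 := by
        apply orderOf_dvd_of_pow_eq_one
        rw [h, ← QuotientGroup.mk_pow, QuotientGroup.eq_one_iff]
        exact hsq _
      rw [← orderOf_eq_one_iff]
      exact Nat.eq_one_of_dvd_coprimes hg (orderOf_map_dvd _ g) h1
  exact MonoidHom.mem_ker.1 (hker (htop ▸ Subgroup.mem_top z))

end Cfsg.Agent.S2872
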