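import Cfsg.Statements.S2873
import Cfsg.Agent.Lib.LocalStructure.Basic
import Cfsg.Agent.Lib.LocalStructure.DihedralAction

set_option autoImplicit false
open Cfsg
open Subgroup Cfsg.Agent.LocalStructure
open scoped commutatorElement

namespace Cfsg.Agent.S2873

/-- Let G be a finite group and r an odd prime such that G ⧸ O₂(G) is dihedral of order 2r, and let R be a Sylow r-subgroup of G with C_{O₂(G)}(R) = 1. Then N_G(R) is dihedral of order 2r; for any involution a of N_G(R), every involution of G outside O₂(G) is conjugate to a; and |C_{O₂(G)}(a)|² = |O₂(G)|. -/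
theorem result {G : Type*} [Group G] [Finite G] {r : ℕ} [Fact r.Prime] (hr : r ≠ 2) [hN : (Cfsg.pCore 2 G).Normal] (hquot : Nonempty (G ⧸ Cfsg.pCore 2 G ≃* DihedralGroup r)) (R : Sylow r G) (hC : Cfsg.pCore 2 G ⊓ Subgroup.centralizer ((R : Subgroup G) : Set G) = ⊥) : Nonempty (↥(Subgroup.normalizer ((R : Subgroup G) : Set G)) ≃* DihedralGroup r) ∧ ∀ a : G, a ∈ Subgroup.normalizer ((R : Subgroup G) : Set G) → orderOf a = 2 → (∀ b : G, orderOf b = 2 → b ∉ Cfsg.pCore 2 G → ∃ g : G, g * a * g⁻¹ = b) ∧ Nat.card ↥(Cfsg.pCore 2 G ⊓ Subgroup.centralizer ({a} : Set G)) ^ 2 = Nat.card ↥(Cfsg.pCore 2 G) := by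
  have hN_inst := hN
  obtain ⟨φ⟩ := hquot
  have hrp : r.Prime := Fact.out
  have : Fact (Nat.Prime 2) := ⟨Nat.prime_two⟩
  set Q := Cfsg.pCore 2 G with hQ
  have hQp : IsPGroup 2 Q := isPGroup_pCore 2
  have hidx : Q.index = 2 * r := by
    rw [Subgroup.index_eq_card, Nat.card_congr φ.toEquiv, DihedralGroup.nat_card]
  have hG : Nat.card G = Nat.card Q * (2 * r) := by rw [← hidx, Subgroup.card_mul_index]
  obtain ⟨k, hk⟩ := IsPGroup.iff_card.1 hQp
  have hndvd : ¬ r ∣ Nat.card Q := by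
    rw [hk]
    exact fun h => hr ((Nat.prime_dvd_prime_iff_eq hrp Nat.prime_two).1 (hrp.dvd_of_dvd_pow h))
  have hR : Nat.card R = r := by
    rw [R.card_eq_multiplicity, hG, Nat.factorization_mul Nat.card_pos.ne' (Nat.mul_ne_zero two_ne_zero hrp.ne_zero),
      Nat.factorization_mul two_ne_zero hrp.ne_zero, Finsupp.add_apply, Finsupp.add_apply,
      Nat.factorization_eq_zero_of_not_dvd hndvd,
      Nat.factorization_eq_zero_of_not_dvd (fun h => hr ((Nat.prime_dvd_prime_iff_eq hrp Nat.prime_two).1 h)),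
      hrp.factorization_self, zero_add, zero_add, pow_one]
  obtain ⟨x, hxgen⟩ := isCyclic_iff_exists_zpowers_eq_top.1 (isCyclic_of_prime_card hR)
  have hx : orderOf (x : G) = r := by
    rw [Subgroup.orderOf_coe, ← Nat.card_zpowers, hxgen, Subgroup.card_top]
    exact hR
  have hRx : (R : Subgroup G) = Subgroup.zpowers (x : G) := by
    have := congrArg (Subgroup.map (R : Subgroup G).subtype) hxgen
    rw [MonoidHom.map_zpowers, ← MonoidHom.range_eq_map, Subgroup.range_subtype] at this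
    exact this.symm
  have hxr : (x : G) ^ r = 1 := orderOf_dvd_iff_pow_eq_one.1 (dvd_of_eq hx)
  have hfp : ∀ q ∈ Q, q * (x : G) = x * q → q = 1 := by
    intro q hq h
    have : q ∈ Q ⊓ Subgroup.centralizer ((R : Subgroup G) : Set G) := by
      refine ⟨hq, fun y hy => ?_⟩
      obtain ⟨n, rfl⟩ := Subgroup.mem_zpowers_iff.1 (hRx ▸ hy)
      exact ((Commute.zpow_right (h : Commute q (x : G)) n).eq).symm
    rwa [hC, Subgroup.mem_bot] at this
  set π := QuotientGroup.mk' Q with hπ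
  have hπs : Function.Surjective π := QuotientGroup.mk'_surjective _
  have hπQ : ∀ {z : G}, π z = 1 ↔ z ∈ Q := fun {z} => QuotientGroup.eq_one_iff z
  have hπx : orderOf (π x) = r := by
    refine orderOf_eq_prime ?_ fun e => ?_
    · rw [← map_pow, hxr, map_one]
    · have := hfp _ (hπQ.1 e) rfl
      rw [this, orderOf_one] at hx
      exact hrp.one_lt.ne hx
  set N := Subgroup.normalizer ((R : Subgroup G) : Set G) with hN
  have hinfN : ∀ n ∈ N, n ∈ Q → n = 1 := by
    intro n hn hnQ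
    refine hfp n hnQ ?_
    have h1 : n * x * n⁻¹ ∈ (R : Subgroup G) := (Subgroup.mem_normalizer_iff.1 hn _).1 x.2
    have h2 : n * x * n⁻¹ * (x : G)⁻¹ ∈ (R : Subgroup G) ⊓ Q := by
      refine ⟨Subgroup.mul_mem _ h1 (Subgroup.inv_mem _ x.2), ?_⟩
      rw [show n * x * n⁻¹ * (x : G)⁻¹ = n * (x * n⁻¹ * (x : G)⁻¹) by group]
      exact Q.mul_mem hnQ (hN_inst.conj_mem _ (Q.inv_mem hnQ) _)
    have h3 : (R : Subgroup G) ⊓ Q = ⊥ := Subgroup.inf_eq_bot_of_coprime (by
      rw [hR]; exact (hrp.coprime_iff_not_dvd.2 hndvd))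
    rw [h3, Subgroup.mem_bot, mul_inv_eq_one] at h2
    exact mul_inv_eq_iff_eq_mul.1 h2
  set f : ↥N →* G ⧸ Q := π.comp N.subtype with hf
  have hinj : Function.Injective f := by
    rw [← MonoidHom.ker_eq_bot_iff, Subgroup.eq_bot_iff_forall]
    intro n hn
    exact Subtype.ext (hinfN n n.2 (hπQ.1 hn))
  have hsurj : Function.Surjective f := by
    intro y
    obtain ⟨g, rfl⟩ := hπs y
    have hnorm : ((R : Subgroup G).map π).Normal := by
      refine Subgroup.normal_of_index_eq_two ?_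
      have hc : Nat.card ↥((R : Subgroup G).map π) = r := by
        rw [hRx, MonoidHom.map_zpowers, Nat.card_zpowers, hπx]
      have h := Subgroup.card_mul_index ((R : Subgroup G).map π)
      rw [hc, ← Subgroup.index_eq_card, hidx, Nat.mul_comm 2] at h
      exact Nat.eq_of_mul_eq_mul_left hrp.pos h
    obtain ⟨m, hm⟩ := Subgroup.mem_zpowers_iff.1
      (show π (g * x * g⁻¹) ∈ Subgroup.zpowers (π x) by
        rw [← MonoidHom.map_zpowers, ← hRx, map_mul, map_mul, map_inv]
        exact hnorm.conj_mem _ (Subgroup.mem_map_of_mem π x.2) _)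
    have hfp' : ∀ q ∈ Q, q * (x : G) ^ m = (x : G) ^ m * q → q = 1 := by
      intro q hq h
      have hord : orderOf ((x : G) ^ m) = r := by
        refine orderOf_eq_prime ?_ fun e => ?_
        · rw [← zpow_natCast, ← zpow_mul, mul_comm, zpow_mul, zpow_natCast, hxr, one_zpow]
        · rw [← map_zpow, e, map_one, map_mul, map_mul, map_inv, eq_comm, conj_eq_one_iff] at hm
          rw [hm, orderOf_one] at hπx
          exact hrp.one_lt.ne hπx
      have hz : Subgroup.zpowers ((x : G) ^ m) = Subgroup.zpowers (x : G) :=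
        Subgroup.eq_of_le_of_card_ge (Subgroup.zpowers_le.2 (Subgroup.zpow_mem_zpowers _ _))
          (by rw [Nat.card_zpowers, Nat.card_zpowers, hord, hx])
      obtain ⟨n, hn⟩ := Subgroup.mem_zpowers_iff.1 (hz.symm ▸ Subgroup.mem_zpowers (x : G))
      refine hfp q hq ?_
      rw [← hn]
      exact (Commute.zpow_right (h : Commute q _) n).eq
    have hq : g * x * g⁻¹ * ((x : G) ^ m)⁻¹ ∈ Q := by
      rw [← hπQ, map_mul, map_inv, map_zpow, hm, mul_inv_cancel]
    obtain ⟨w, hw, hwx⟩ := exists_conj_eq_mul hfp' hq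
    rw [inv_mul_cancel_right] at hwx
    have hmemN : w⁻¹ * g ∈ N := by
      apply mem_normalizer_of_map_conj_le
      rw [hRx, MonoidHom.map_zpowers, Subgroup.zpowers_le]
      show w⁻¹ * g * x * (w⁻¹ * g)⁻¹ ∈ Subgroup.zpowers (x : G)
      rw [show w⁻¹ * g * x * (w⁻¹ * g)⁻¹ = w⁻¹ * (g * x * g⁻¹) * w by group, ← hwx,
        show w⁻¹ * (w * (x : G) ^ m * w⁻¹) * w = (x : G) ^ m by group]
      exact Subgroup.zpow_mem_zpowers _ _
    exact ⟨⟨_, hmemN⟩, by
      show π (w⁻¹ * g) = π g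
      rw [map_mul, map_inv, hπQ.2 hw, inv_one, one_mul]⟩
  set ψ : ↥N ≃* DihedralGroup r := (MulEquiv.ofBijective f ⟨hinj, hsurj⟩).trans φ with hψ
  refine ⟨⟨ψ⟩, fun a haN ha => ?_⟩
  set x' : ↥N := ⟨x, Subgroup.le_normalizer x.2⟩ with hx'
  have hx'o : orderOf x' = r := by rw [← Subgroup.orderOf_coe]; exact hx
  have hinvN : ∀ n ∈ N, orderOf n = 2 → n * x * n⁻¹ = (x : G)⁻¹ := by
    intro n hn hn2
    exact congrArg Subtype.val (dihedral_inverts hr _ ψ (e := ⟨n, hn⟩)
      (by rw [← Subgroup.orderOf_coe]; exact hn2) hx'o)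
  have haa := Cfsg.Agent.Involution.sq_of_orderOf_two ha
  have hconj : ∀ {u v : G}, u * u = 1 → v * v = 1 → (u * v) ^ r = 1 → ∃ g : G, g * u * g⁻¹ = v := by
    intro u v hu hv h
    obtain ⟨d, -, hd⟩ := Cfsg.Agent.Involution.exists_conj_pair_of_odd hu hv
      ((hrp.odd_of_ne_two hr).of_dvd_nat (orderOf_dvd_of_pow_eq_one h))
    exact ⟨d, hd⟩
  have hnx : ∀ n ∈ N, orderOf n = 2 → n * x * (n * x) = 1 := by
    intro n hn hn2
    calc n * x * (n * x) = (n * x * n⁻¹) * (n * n) * x := by group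
      _ = 1 := by rw [hinvN n hn hn2, Cfsg.Agent.Involution.sq_of_orderOf_two hn2]; group
  constructor
  · intro b hb hbQ
    have hbb := Cfsg.Agent.Involution.sq_of_orderOf_two hb
    obtain ⟨n, hn⟩ := hsurj (π b)
    have hn' : π (n : G) = π b := hn
    have hn2 : orderOf (n : G) = 2 := by
      refine orderOf_eq_prime (hinfN _ (pow_mem n.2 2) ?_) fun e => hbQ ?_
      · rw [← hπQ, map_pow, hn', ← map_pow, pow_two, hbb, map_one]
      · rw [← hπQ, ← hn', e, map_one]
    have hnn := Cfsg.Agent.Involution.sq_of_orderOf_two hn2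
    have h1 : ((a * n) : G) ^ r = 1 :=
      congrArg Subtype.val (dihedral_mul_pow_eq_one hr _ ψ (e := ⟨a, haN⟩) (f := n)
        (by rw [← Subgroup.orderOf_coe]; exact ha) (by rw [← Subgroup.orderOf_coe]; exact hn2))
    obtain ⟨g₁, hg₁⟩ := hconj haa hnn h1
    have h2 : ((n : G) * (n * x)) ^ r = 1 := by rw [← mul_assoc, hnn, one_mul, hxr]
    obtain ⟨g₂, hg₂⟩ := hconj hnn (hnx n n.2 hn2) h2
    have hq : b * n ∈ Q := by
      rw [← hπQ, map_mul, hn', ← map_mul, hbb, map_one]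
    have h3 : (b * ((n : G) * x)) ^ r = 1 := by
      rw [← mul_assoc]
      exact orderOf_dvd_iff_pow_eq_one.1 (dvd_of_eq ((orderOf_mul_eq hfp hq).trans hx))
    obtain ⟨g₃, hg₃⟩ := hconj hbb (hnx n n.2 hn2) h3
    refine ⟨g₃⁻¹ * g₂ * g₁, ?_⟩
    rw [show g₃⁻¹ * g₂ * g₁ * a * (g₃⁻¹ * g₂ * g₁)⁻¹ = g₃⁻¹ * (g₂ * (g₁ * a * g₁⁻¹) * g₂⁻¹) * g₃ by group,
      hg₁, hg₂, ← hg₃]
    group
  · have h := card_mul_card_centralizer hfp haa (hinvN a haN ha)
    obtain ⟨g, hg⟩ := hconj haa (hnx a haN ha) (by rw [← mul_assoc, haa, one_mul, hxr])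
    have hmap : (Q ⊓ Subgroup.centralizer ({a} : Set G)).map (MulAut.conj g).toMonoidHom =
        Q ⊓ Subgroup.centralizer ({a * (x : G)} : Set G) := by
      ext z
      rw [Subgroup.mem_map_equiv, MulAut.conj_symm_apply]
      simp only [Subgroup.mem_inf, Subgroup.mem_centralizer_singleton_iff, ← hg]
      refine and_congr (hN_inst.mem_comm_iff.trans (by rw [mul_inv_cancel_left])) ?_
      constructor
      · intro e
        calc z * (g * a * g⁻¹) = g * (g⁻¹ * z * g * a) * g⁻¹ := by group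
          _ = g * (a * (g⁻¹ * z * g)) * g⁻¹ := by rw [e]
          _ = _ := by group
      · intro e
        calc g⁻¹ * z * g * a = g⁻¹ * (z * (g * a * g⁻¹)) * g := by group
          _ = g⁻¹ * (g * a * g⁻¹ * z) * g := by rw [e]
          _ = _ := by group
    rw [← hmap, Subgroup.card_map_of_injective (MulAut.conj g).injective] at h
    rw [pow_two]
    exact h

end Cfsg.Agent.S2873
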