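import Cfsg.Statements.S2880
import Cfsg.Agent.Lib.LocalStructure.Basic
import Cfsg.Agent.Lib.PGroup.ExtraspecialTwo

set_option autoImplicit false
open Cfsg
open Subgroup Cfsg.Agent.LocalStructure
open scoped commutatorElement

namespace Cfsg.Agent.S2880

/-- Let E be an extraspecial 2-group of order 2^(2m+1) of plus type, that is, containing an elementary abelian subgroup of order 2^(m+1) (equivalently, a central product of m dihedral groups of order 8). Then E has exactly 2^(2m) − 2^m elements of order 4. -/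
theorem result {E : Type*} [Group E] [Finite E] (m : ℕ) (hm : 1 ≤ m) (hE : Cfsg.IsExtraspecial 2 E) (hcard : Nat.card E = 2 ^ (2 * m + 1)) (hplus : ∃ A : Subgroup E, Cfsg.IsElementaryAbelian 2 A ∧ Nat.card A = 2 ^ (m + 1)) : Nat.card {x : E // orderOf x = 4} = 2 ^ (2 * m) - 2 ^ m := by
  classical
  obtain ⟨A, hA, hAcard⟩ := hplus
  have := Fintype.ofFinite E
  have h2 := Cfsg.Agent.PGroup.two_mul_sqCount_of_elementary hE hA.1 hA.2 hcard hAcard.ge
  have key : ∀ x : E, orderOf x = 4 ↔ ¬ x ^ 2 = 1 := by
    intro x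
    constructor
    · intro h4 he
      have := orderOf_dvd_of_pow_eq_one he
      rw [h4] at this
      exact absurd (Nat.le_of_dvd two_pos this) (by norm_num)
    · intro hne
      have h4 : x ^ (4 : ℕ) = 1 := by
        rw [show (4 : ℕ) = 2 * 2 from rfl, pow_mul]
        exact Cfsg.Agent.PGroup.special_center_pow hE.1 (Cfsg.Agent.PGroup.special_pow_mem_center hE.1 x)
      exact orderOf_eq_prime_pow (p := 2) (n := 1) (by simpa using hne) (by simpa using h4)
  rw [Nat.card_congr (Equiv.subtypeEquivRight key), Nat.card_eq_fintype_card, Fintype.card_subtype_compl]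
  rw [hcard] at h2
  rw [Nat.card_eq_fintype_card (α := E)] at hcard
  rw [Nat.card_eq_fintype_card] at h2
  rw [hAcard, pow_succ, pow_succ 2 m, Nat.mul_comm _ 2, Nat.mul_comm _ 2, ← Nat.mul_add] at h2
  rw [hcard, Nat.eq_of_mul_eq_mul_left two_pos h2, pow_succ]
  omega

end Cfsg.Agent.S2880
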