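import Cfsg.Statements.S2881
import Cfsg.Agent.Lib.LocalStructure.Basic
import Cfsg.Agent.S2880
import Cfsg.Agent.Lib.PGroup.ExtraspecialTwo

set_option autoImplicit false
open Cfsg
open Subgroup Cfsg.Agent.LocalStructure
open scoped commutatorElement

namespace Cfsg.Agent.S2881

/-- Let E be an extraspecial 2-group of order 2^(2m+1) of plus type (containing an elementary abelian subgroup of order 2^(m+1)), and let ω be an automorphism of E of order 5 whose fixed points are exactly the centre of E. Then m is divisible by 4. -/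
theorem result {E : Type*} [Group E] [Finite E] (m : ℕ) (hm : 1 ≤ m) (hE : Cfsg.IsExtraspecial 2 E) (hcard : Nat.card E = 2 ^ (2 * m + 1)) (hplus : ∃ A : Subgroup E, Cfsg.IsElementaryAbelian 2 A ∧ Nat.card A = 2 ^ (m + 1)) (ω : E ≃* E) (hω : orderOf ω = 5) (hfix : ∀ x : E, ω x = x ↔ x ∈ Subgroup.center E) : 4 ∣ m := by
  classical
  have : Fact (Nat.Prime 5) := ⟨by norm_num⟩
  have := Fintype.ofFinite E
  have hc := Cfsg.Agent.S2880.result m hm hE hcard hplus
  have hω5 : ω ^ (5 : ℕ) = (1 : MulAut E) := hω ▸ pow_orderOf_eq_one _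
  set σ : Equiv.Perm {x : E // orderOf x = 4} :=
    ω.toEquiv.subtypeEquiv (fun x => by
      show orderOf x = 4 ↔ orderOf (ω.toMonoidHom x) = 4
      rw [orderOf_injective ω.toMonoidHom ω.injective x]) with hσdef
  have hσp : ∀ (k : ℕ) (x : {x : E // orderOf x = 4}), ((σ ^ k) x : E) = (ω ^ k : MulAut E) x := by
    intro k
    induction k with
    | zero => intro x; rfl
    | succ k ih =>
      intro x
      rw [pow_succ, pow_succ, Equiv.Perm.mul_apply, MulAut.mul_apply, ih]
      rfl
  have hσ5 : σ ^ (5 ^ 1) = 1 := by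
    ext x
    rw [pow_one, hσp, hω5]
    rfl
  have h1 := Equiv.Perm.card_compl_support_modEq hσ5
  have h0 : σ.supportᶜ = ∅ := by
    rw [Finset.eq_empty_iff_forall_notMem]
    intro x hx
    rw [Finset.mem_compl, Equiv.Perm.mem_support, not_not] at hx
    have hz := (hfix x).1 (congrArg Subtype.val hx)
    have h2 := Cfsg.Agent.PGroup.special_center_pow hE.1 hz
    have h3 := orderOf_dvd_of_pow_eq_one h2
    rw [x.2] at h3
    exact absurd (Nat.le_of_dvd two_pos h3) (by norm_num)
  rw [h0, Finset.card_empty, ← Nat.card_eq_fintype_card, hc] at h1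
  have h5 : (5 : ℕ) ∣ 2 ^ m * (2 ^ m - 1) := by
    rw [Nat.mul_sub, mul_one, ← pow_add, ← two_mul]
    exact Nat.modEq_zero_iff_dvd.1 h1.symm
  have hcop : Nat.Coprime 5 (2 ^ m) := Nat.Coprime.pow_right _ (by norm_num)
  have h6 := hcop.dvd_of_dvd_mul_left h5
  have h7 : 1 ≤ 2 ^ m := Nat.one_le_two_pow
  have h8 : 2 ^ m % 5 = 1 := by omega
  have h9 : 2 ^ m % 5 = 2 ^ (m % 4) % 5 := by
    conv_lhs => rw [← Nat.div_add_mod m 4, pow_add, pow_mul]
    rw [Nat.mul_mod, Nat.pow_mod]
    norm_num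
  have hm4 : m % 4 < 4 := Nat.mod_lt _ (by norm_num)
  rw [h9] at h8
  interval_cases hr : m % 4 <;> first | exact Nat.dvd_of_mod_eq_zero hr | simp at h8

end Cfsg.Agent.S2881
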