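import Cfsg.Statements.S2896
import Cfsg.Agent.Lib.LocalChar.Parabolic
-- import your own Cfsg.Agent.* helpers here

set_option autoImplicit false
open Cfsg

namespace Cfsg.Agent.S2896

/-- Let p be a prime dividing the order of the finite group G, S a Sylow p-subgroup of G and X a subgroup of S. (i) If some nontrivial element z of the centre of X has F*(C_G(z)) = O_p(C_G(z)), then F*(N_G(X)) = O_p(N_G(X)). (ii) G has parabolic characteristic p if and only if F*(C_G(z)) = O_p(C_G(z)) for every nontrivial z ∈ Ω₁(Z(S)). (iii) If F*(C_G(z)) = O_p(C_G(z)) for every element z of S of order p, then G has local characteristic p. -/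
theorem result {G : Type*} [Group G] [Finite G] {p : ℕ} [Fact p.Prime] (hdiv : p ∣ Nat.card G) (S : Sylow p G) (X : Subgroup G) (hX : X ≤ (S : Subgroup G)) : (∀ z : G, z ≠ 1 → z ∈ X → (∀ x ∈ X, x * z = z * x) → Cfsg.generalizedFittingSubgroup ↥(Subgroup.centralizer ({z} : Set G)) = Cfsg.pCore p ↥(Subgroup.centralizer ({z} : Set G)) → Cfsg.generalizedFittingSubgroup ↥(Subgroup.normalizer (X : Set G)) = Cfsg.pCore p ↥(Subgroup.normalizer (X : Set G))) ∧ (Cfsg.IsOfParabolicCharacteristic p G ↔ ∀ z : G, z ≠ 1 → z ∈ Cfsg.omegaOne p ((S : Subgroup G) ⊓ Subgroup.centralizer ((S : Subgroup G) : Set G)) → Cfsg.generalizedFittingSubgroup ↥(Subgroup.centralizer ({z} : Set G)) = Cfsg.pCore p ↥(Subgroup.centralizer ({z} : Set G))) ∧ ((∀ z : G, z ∈ (S : Subgroup G) → orderOf z = p → Cfsg.generalizedFittingSubgroup ↥(Subgroup.centralizer ({z} : Set G)) = Cfsg.pCore p ↥(Subgroup.centralizer ({z} : Set G))) → Cfsg.IsOfLocalCharacteristic p G) := by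
  refine ⟨fun z _ hzX hz h => ?_, ?_, fun h => ?_⟩
  · exact LocalChar.genFitting_eq_pCore_iff.2 (LocalChar.cp_normalizer_of_centralizer_elem
      (S.2.to_le hX) hzX hz (LocalChar.genFitting_eq_pCore_iff.1 h))
  · rw [LocalChar.parabolic_iff_omega S]
    exact forall₃_congr fun _ _ _ => LocalChar.genFitting_eq_pCore_iff.symm
  · refine ⟨hdiv, fun T hT hT1 => ?_⟩
    obtain ⟨U, hTU⟩ := hT.exists_le_sylow
    have hnt : Nontrivial ↥T := (Subgroup.nontrivial_iff_ne_bot T).2 hT1
    obtain ⟨n, hn⟩ := IsPGroup.iff_card.1 hT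
    have hd : p ∣ Nat.card ↥(Subgroup.center ↥T) := by
      obtain ⟨k, hk⟩ := IsPGroup.iff_card.1 (hT.to_subgroup (Subgroup.center ↥T))
      rcases k with _ | k
      · have := hT.center_nontrivial
        exact absurd (Subgroup.card_eq_one.1 (by simpa using hk))
          ((Subgroup.nontrivial_iff_ne_bot _).1 this)
      · exact hk ▸ dvd_pow_self p (Nat.succ_ne_zero k)
    obtain ⟨z, hz⟩ := exists_prime_orderOf_dvd_card' p hd
    rw [← Subgroup.orderOf_coe, ← Subgroup.orderOf_coe] at hz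
    obtain ⟨g, hg⟩ := MulAction.exists_smul_eq G U S
    refine LocalChar.cp_normalizer_of_centralizer_elem hT (z := (((z : ↥T)) : G)) (z : ↥T).2
      (fun x hx => congrArg Subtype.val (Subgroup.mem_center_iff.1 z.2 ⟨x, hx⟩))
      (LocalChar.cp_centralizer_conj g (LocalChar.genFitting_eq_pCore_iff.1 (h _ ?_ ?_)))
    · rw [← hg, Sylow.coe_subgroup_smul]
      exact Subgroup.smul_mem_pointwise_smul _ _ _ (hTU (z : ↥T).2)
    · rw [show g * (((z : ↥T)) : G) * g⁻¹ = MulAut.conj g (((z : ↥T)) : G) from rfl,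
        MulEquiv.orderOf_eq]
      exact hz

end Cfsg.Agent.S2896
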