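import Cfsg.Statements.S2897
import Cfsg.Agent.Lib.LocalChar.Parabolic
-- import your own Cfsg.Agent.* helpers here

set_option autoImplicit false
open Cfsg

namespace Cfsg.Agent.S2897

/-- Let p be a prime dividing the order of the finite group G, suppose G has parabolic characteristic p, let S be a Sylow p-subgroup of G and G₁ a normal subgroup of G. If Ω₁(Z(S ∩ G₁)) is nontrivial and contained in Ω₁(Z(S)), then G₁ has parabolic characteristic p. -/
theorem result {G : Type*} [Group G] [Finite G] {p : ℕ} [Fact p.Prime] (hdiv : p ∣ Nat.card G) (hG : Cfsg.IsOfParabolicCharacteristic p G) (S : Sylow p G) (G₁ : Subgroup G) [G₁.Normal] (hne : Cfsg.omegaOne p (((S : Subgroup G) ⊓ G₁) ⊓ Subgroup.centralizer (((S : Subgroup G) ⊓ G₁ : Subgroup G) : Set G)) ≠ ⊥) (hle : Cfsg.omegaOne p (((S : Subgroup G) ⊓ G₁) ⊓ Subgroup.centralizer (((S : Subgroup G) ⊓ G₁ : Subgroup G) : Set G)) ≤ Cfsg.omegaOne p ((S : Subgroup G) ⊓ Subgroup.centralizer ((S :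 Subgroup G) : Set G))) : Cfsg.IsOfParabolicCharacteristic p ↥G₁ := by
  rw [LocalChar.parabolic_iff_omega S] at hG
  obtain ⟨P⟩ : Nonempty (Sylow p ↥G₁) := inferInstance
  rw [LocalChar.parabolic_iff P]
  intro z hz hzP hcomm
  obtain ⟨T, hT⟩ := (P.2.map G₁.subtype).exists_le_sylow
  obtain ⟨g, hg⟩ := MulAction.exists_smul_eq G T S
  have hTS : ∀ t, t ∈ (T : Subgroup G) → g * t * g⁻¹ ∈ (S : Subgroup G) := by
    intro t ht
    rw [← hg, Sylow.coe_subgroup_smul]
    exact Subgroup.smul_mem_pointwise_smul _ _ _ ht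
  have hST : ∀ s ∈ (S : Subgroup G), g⁻¹ * s * g ∈ (T : Subgroup G) := by
    intro s hs
    rw [← hg, Sylow.coe_subgroup_smul, Subgroup.mem_pointwise_smul_iff_inv_smul_mem] at hs
    simpa [MulAut.smul_def] using hs
  -- `T ∩ G₁` is the image of `P`
  have hPT : (T : Subgroup G).subgroupOf G₁ = (P : Subgroup ↥G₁) := by
    refine P.is_maximal' (T.2.comap_of_injective _ G₁.subtype_injective) fun x hx => hT ⟨x, hx, rfl⟩
  have hgn : ∀ x ∈ G₁, g⁻¹ * x * g ∈ G₁ := fun x hx => by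
    simpa using (inferInstance : G₁.Normal).conj_mem x hx g⁻¹
  -- `g z g⁻¹` is central in `S ∩ G₁`
  have hw : g * (z : G) * g⁻¹ ≠ 1 ∧ g * (z : G) * g⁻¹ ∈
      Cfsg.omegaOne p (((S : Subgroup G) ⊓ G₁) ⊓
        Subgroup.centralizer (((S : Subgroup G) ⊓ G₁ : Subgroup G) : Set G)) := by
    refine (LocalChar.mem_omegaOne_center_iff _).2 ⟨?_, ⟨hTS _ (hT ⟨z, hzP, rfl⟩),
      (inferInstance : G₁.Normal).conj_mem _ z.2 g⟩, fun s hs => ?_⟩
    · rw [show g * (z : G) * g⁻¹ = MulAut.conj g (z : G) from rfl, MulEquiv.orderOf_eq,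
        Subgroup.orderOf_coe]
      exact hz
    · have hmem : (⟨g⁻¹ * s * g, hgn s hs.2⟩ : ↥G₁) ∈ (P : Subgroup ↥G₁) := by
        rw [← hPT]
        exact hST s hs.1
      have h1 : (g⁻¹ * s * g) * (z : G) = (z : G) * (g⁻¹ * s * g) :=
        congrArg Subtype.val (hcomm _ hmem).eq
      show s * (g * z * g⁻¹) = g * z * g⁻¹ * s
      calc s * (g * z * g⁻¹) = g * (g⁻¹ * s * g * z) * g⁻¹ := by group
        _ = g * (z * (g⁻¹ * s * g)) * g⁻¹ := by rw [h1]
        _ = g * z * g⁻¹ * s := by group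
  have hCP : LocalChar.CP p ↥(Subgroup.centralizer ({(z : G)} : Set G)) :=
    LocalChar.cp_centralizer_conj g (hG _ hw.1 (hle hw.2))
  have hN : ((G₁ ⊓ Subgroup.centralizer ({(z : G)} : Set G)).subgroupOf
      (Subgroup.centralizer ({(z : G)} : Set G))).Normal :=
    ⟨fun a ha c => ⟨(inferInstance : G₁.Normal).conj_mem _ ha.1 _, (c * a * c⁻¹).2⟩⟩
  have h2 := LocalChar.cp_of_normal_subgroupOf hCP inf_le_right hN
  have he : (G₁ ⊓ Subgroup.centralizer ({(z : G)} : Set G)).subgroupOf G₁ =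
      Subgroup.centralizer ({z} : Set ↥G₁) := by
    ext x
    simp [Subgroup.mem_subgroupOf, Subgroup.mem_centralizer_singleton_iff, Subtype.ext_iff]
  exact LocalChar.cp_congr ((Subgroup.subgroupOfEquivOfLe inf_le_left).symm.trans
    (MulEquiv.subgroupCongr he)) h2

end Cfsg.Agent.S2897
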