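import Cfsg.Statements.S2898
import Cfsg.Agent.Lib.LocalChar.Parabolic
import Cfsg.Agent.Lib.PCore.Basic
-- import your own Cfsg.Agent.* helpers here

set_option autoImplicit false
open Cfsg

namespace Cfsg.Agent.S2898
open scoped commutatorElement

/-- Let G be a finite group of even order with parabolic characteristic 2. If the centre of G ⧸ O(G) is trivial, then O(G) = 1. -/
theorem result {G : Type*} [Group G] [Finite G] (h2 : 2 ∣ Nat.card G) (hG : Cfsg.IsOfParabolicCharacteristic 2 G) [hN : (Cfsg.oddCore G).Normal] (hZ : Subgroup.center (G ⧸ Cfsg.oddCore G) = ⊥) : Cfsg.oddCore G = ⊥ := by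
  obtain ⟨S⟩ : Nonempty (Sylow 2 G) := inferInstance
  haveI : Fact (Nat.Prime 2) := ⟨Nat.prime_two⟩
  set O : Subgroup G := Cfsg.oddCore G with hO
  have hodd : Odd (Nat.card ↥O) := PCore.odd_card_oddCore
  have hS1 : (S : Subgroup G) ≠ ⊥ := S.ne_bot_of_dvd_card h2
  obtain ⟨z, -, hzS, hz, hzc⟩ := LocalChar.exists_central_mem S S.2 hS1 Subgroup.le_normalizer
  have hC : ∀ w : G, orderOf w = 2 → w ∈ (S : Subgroup G) →
      (∀ s ∈ (S : Subgroup G), Commute s w) → ∀ r ∈ O, Commute r w → r = 1 := by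
    intro w hw hwS hwc r hr hrw
    set Q := Cfsg.pCore 2 ↥(Subgroup.centralizer ({w} : Set G)) with hQ
    have hQn : Q.Normal := Components.pCore_normal' 2
    have hrC : r ∈ Subgroup.centralizer ({w} : Set G) :=
      Subgroup.mem_centralizer_singleton_iff.2 hrw
    have hodd' : Odd (orderOf r) :=
      hodd.of_dvd_nat (Subgroup.orderOf_dvd_natCard O hr)
    have h := LocalChar.cp_elim ((LocalChar.parabolic_iff S).1 hG w hw hwS hwc)
      (b := ⟨r, hrC⟩) (fun q hq => ?_) (by
        rw [Subgroup.orderOf_mk]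
        exact fun hd => (Nat.not_even_iff_odd.2 hodd') (even_iff_two_dvd.2 hd))
    · exact congrArg Subtype.val h
    · refine (commutatorElement_eq_one_iff_commute).1 (Subtype.ext ?_)
      have h1 : ⁅(⟨r, hrC⟩ : ↥(Subgroup.centralizer ({w} : Set G))), q⁆ ∈ Q := by
        rw [commutatorElement_def]
        exact mul_mem (hQn.conj_mem q hq _) (inv_mem hq)
      have h2 : ((⁅(⟨r, hrC⟩ : ↥(Subgroup.centralizer ({w} : Set G))), q⁆ :
          ↥(Subgroup.centralizer ({w} : Set G))) : G) ∈ O := by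
        simp only [commutatorElement_def, Subgroup.coe_mul, Subgroup.coe_inv, mul_assoc]
        have h3 := hN.conj_mem _ (inv_mem hr) (q : G)
        simpa [mul_assoc] using mul_mem hr h3
      refine LocalChar.eq_one_of_isPGroup ((Components.isPGroup_pCore' 2).map
        (Subgroup.centralizer ({w} : Set G)).subtype) Nat.prime_two ⟨_, h1, rfl⟩ ?_
      intro hd
      exact (Nat.not_even_iff_odd.2 (hodd.of_dvd_nat (Subgroup.orderOf_dvd_natCard O h2)))
        (even_iff_two_dvd.2 hd)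
  have hzz : z * z = 1 := by rw [← pow_two, ← hz, pow_orderOf_eq_one]
  have hzinv : z⁻¹ = z := inv_eq_of_mul_eq_one_right hzz
  -- `z` inverts `O`
  have hinv : ∀ x ∈ O, z * x * z⁻¹ = x⁻¹ := by
    let f : ↥O → ↥O := fun r => ⟨(r : G)⁻¹ * (z * r * z⁻¹),
      mul_mem (inv_mem r.2) (hN.conj_mem _ r.2 z)⟩
    have hf : Function.Injective f := by
      intro a b hab
      have h1 : (a : G)⁻¹ * (z * a * z⁻¹) = (b : G)⁻¹ * (z * b * z⁻¹) := congrArg Subtype.val hab
      have h2 : (b : G) * (a : G)⁻¹ * z = z * ((b : G) * (a : G)⁻¹) := by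
        calc (b : G) * (a : G)⁻¹ * z
            = (b : G) * ((a : G)⁻¹ * (z * a * z⁻¹)) * z * (a : G)⁻¹ := by group
          _ = (b : G) * ((b : G)⁻¹ * (z * b * z⁻¹)) * z * (a : G)⁻¹ := by rw [h1]
          _ = z * ((b : G) * (a : G)⁻¹) := by group
      exact Subtype.ext (mul_inv_eq_one.1 (hC z hz hzS hzc _ (mul_mem b.2 (inv_mem a.2)) h2)).symm
    intro x hx
    obtain ⟨r, hr⟩ := (Finite.injective_iff_surjective.1 hf) ⟨x, hx⟩
    have h1 : (r : G)⁻¹ * (z * r * z⁻¹) = x := congrArg Subtype.val hr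
    rw [← h1, hzinv]
    calc z * ((r : G)⁻¹ * (z * r * z)) * z = z * (r : G)⁻¹ * z * r * (z * z) := by group
      _ = ((r : G)⁻¹ * (z * r * z))⁻¹ := by
        rw [hzz, mul_inv_rev, mul_inv_rev, mul_inv_rev, inv_inv, hzinv]; group
  by_contra hne
  obtain ⟨x₀, hx₀, hx₀1⟩ : ∃ x ∈ O, x ≠ 1 := by
    by_contra h
    push Not at h
    exact hne (eq_bot_iff.2 fun x hx => Subgroup.mem_bot.2 (h x hx))
  set C : Subgroup G := Subgroup.centralizer (O : Set G) with hCdef
  have hCn : C.Normal := inferInstance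
  -- no central involution of `S` lies in `C`
  have hnot : ∀ w : G, orderOf w = 2 → w ∈ (S : Subgroup G) →
      (∀ s ∈ (S : Subgroup G), Commute s w) → w ∉ C := fun w hw hwS hwc hwC =>
    hx₀1 (hC w hw hwS hwc x₀ hx₀ (Subgroup.mem_centralizer_iff.1 hwC x₀ hx₀))
  have hCodd : Odd (Nat.card ↥C) := by
    rw [← Nat.not_even_iff_odd, even_iff_two_dvd]
    intro hd
    obtain ⟨c, hc⟩ := exists_prime_orderOf_dvd_card' 2 hd
    have hzp : IsPGroup 2 ↥(Subgroup.zpowers (c : G)) := IsPGroup.of_card (n := 1) (by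
      rw [Nat.card_zpowers, Subgroup.orderOf_coe, hc, pow_one])
    obtain ⟨T, hT⟩ := hzp.exists_le_sylow
    obtain ⟨g, hg⟩ := MulAction.exists_smul_eq G T S
    have h1 : g * (c : G) * g⁻¹ ∈ (S : Subgroup G) ⊓ C := by
      refine ⟨?_, hCn.conj_mem _ c.2 g⟩
      rw [← hg, Sylow.coe_subgroup_smul]
      exact Subgroup.smul_mem_pointwise_smul _ _ _ (hT (Subgroup.mem_zpowers _))
    have h2 : (S : Subgroup G) ⊓ C ≠ ⊥ := fun hb => by
      rw [hb, Subgroup.mem_bot, mul_inv_eq_one, mul_eq_left, OneMemClass.coe_eq_one] at h1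
      rw [h1, orderOf_one] at hc
      omega
    obtain ⟨w, hw1, hw2, hw3, hw4⟩ := LocalChar.exists_central_mem S (S.2.to_le inf_le_left) h2
      (le_trans (le_inf Subgroup.le_normalizer
        (by rw [Subgroup.normalizer_eq_top_iff.2 hCn]; exact le_top))
        Subgroup.inf_normalizer_le_normalizer_inf)
    exact hnot w hw3 hw2 hw4 hw1.2
  have hCO : C ≤ O := PCore.le_oddCore hCodd
  -- so `z` is central modulo `O`
  have hmem : (QuotientGroup.mk z : G ⧸ Cfsg.oddCore G) ∈ Subgroup.center (G ⧸ Cfsg.oddCore G) := by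
    rw [Subgroup.mem_center_iff]
    intro a
    induction a using QuotientGroup.induction_on with
    | H g =>
      rw [← QuotientGroup.mk_mul, ← QuotientGroup.mk_mul, QuotientGroup.eq]
      apply hCO
      refine Subgroup.mem_centralizer_iff.2 fun x hx => ?_
      have hgx := hN.conj_mem x hx g
      have h1 := hinv _ hgx
      have h2 := hinv x hx
      rw [hzinv] at h1 h2
      -- conjugation by `z g` and by `g z` agree on `O`
      have h3 : (g * z) * x * (g * z)⁻¹ = (z * g) * x * (z * g)⁻¹ := by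
        calc (g * z) * x * (g * z)⁻¹ = g * (z * x * z⁻¹) * g⁻¹ := by group
          _ = g * x⁻¹ * g⁻¹ := by rw [hzinv, h2]
          _ = (g * x * g⁻¹)⁻¹ := by group
          _ = z * (g * x * g⁻¹) * z := h1.symm
          _ = (z * g) * x * (z * g)⁻¹ := by rw [mul_inv_rev (z) g, hzinv]; group
      calc x * ((g * z)⁻¹ * (z * g))
          = (g * z)⁻¹ * ((g * z) * x * (g * z)⁻¹) * (z * g) := by group
        _ = (g * z)⁻¹ * ((z * g) * x * (z * g)⁻¹) * (z * g) := by rw [h3]
        _ = (g * z)⁻¹ * (z * g) * x := by group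
  rw [hZ, Subgroup.mem_bot, QuotientGroup.eq_one_iff] at hmem
  have hzo : Odd (orderOf z) := hodd.of_dvd_nat (Subgroup.orderOf_dvd_natCard O hmem)
  rw [hz] at hzo
  exact absurd hzo (by decide)

end Cfsg.Agent.S2898
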