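import Cfsg.Statements.S2905
import Cfsg.Agent.Lib.PMinimal.Basic
-- import your own Cfsg.Agent.* helpers here

set_option autoImplicit false
open Cfsg

namespace Cfsg.Agent.S2905

open Subgroup Cfsg.Agent.LocalStructure

variable {P : Type*} [Group P] [Finite P] {p : ℕ} [Fact p.Prime]

theorem primeFactors_le_two (hP : Cfsg.IsPMinimal p P) {S : Sylow p P} {M : Subgroup P}
    (hM : IsCoatom M) (hSM : (S : Subgroup P) ≤ M)
    (hcl : ∀ T : Sylow p ↥(Cfsg.pResidual p P), (T : Subgroup ↥(Cfsg.pResidual p P)).Normal) :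
    (Nat.card P).primeFactors.card ≤ 2 := by
  have hpp : p.Prime := Fact.out
  set O : Subgroup P := Cfsg.pResidual p P with hO
  have hOn : O.Normal := LocalStructure.pResidual_normal p P
  obtain ⟨T₀⟩ : Nonempty (Sylow p ↥O) := inferInstance
  have := T₀.characteristic_of_normal (hcl T₀)
  set R : Subgroup P := (T₀ : Subgroup ↥O).map O.subtype with hR
  have hRn : R.Normal := ConjAct.normal_of_characteristic_of_normal
  have hRp : IsPGroup p ↥R := T₀.2.map _
  -- for each prime `t ≠ p` some conjugate of `R ⊔ (Sylow t)` is normalised by `S`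
  have hex : ∀ t : ℕ, ∀ _ : Fact t.Prime, t ≠ p → ∃ T : Sylow t P,
      (T : Subgroup P) ≤ M ∨ ∀ q, q.Prime → q ∣ Nat.card P → q = p ∨ q = t := by
    intro t ht htp
    obtain ⟨T₁⟩ : Nonempty (Sylow t P) := inferInstance
    have hT₁O : (T₁ : Subgroup P) ≤ O := fun x hx => mem_pResidual (by
      obtain ⟨k, hk⟩ := T₁.2 ⟨x, hx⟩
      exact Nat.Coprime.coprime_dvd_left (orderOf_dvd_of_pow_eq_one (congrArg Subtype.val hk :))
        (Nat.Coprime.pow_left k ((Nat.coprime_primes ht.out hpp).2 htp)))
    set Y : Subgroup P := R ⊔ (T₁ : Subgroup P) with hY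
    have hTN : normalizer ((T₁ : Subgroup P) : Set P) ≤ normalizer (Y : Set P) :=
      LocalStructure.le_normalizer_sup (le_top.trans (Subgroup.normalizer_eq_top_iff.2 hRn).ge) le_rfl
    have hsup : O ⊔ normalizer (Y : Set P) = ⊤ := top_le_iff.1 (by
      rw [← Sylow.normalizer_sup_eq_top' T₁ hT₁O, sup_comm]
      exact sup_le_sup le_rfl hTN)
    have hidx : ¬ p ∣ (normalizer (Y : Set P)).relIndex O := by
      intro hd
      apply T₀.not_dvd_index
      refine hd.trans ?_
      show ((normalizer (Y : Set P)).subgroupOf O).index ∣ (T₀ : Subgroup ↥O).index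
      refine Subgroup.index_dvd_of_le fun x hx => ?_
      have h1 : (x : P) ∈ R := ⟨x, hx, rfl⟩
      exact Subgroup.le_normalizer (Subgroup.mem_sup_left h1 : (x : P) ∈ Y)
    obtain ⟨g, hg⟩ := PMinimal.exists_fixed_conj S hOn hsup hidx
    refine ⟨g • T₁, ?_⟩
    have hTY : ((g • T₁ : Sylow t P) : Subgroup P) = (T₁ : Subgroup P).map (MulAut.conj g).toMonoidHom := rfl
    have hmap : Y.map (MulAut.conj g).toMonoidHom = R ⊔ ((g • T₁ : Sylow t P) : Subgroup P) := by
      rw [hY, Subgroup.map_sup, hTY,
        map_conj_eq_self ((Subgroup.normalizer_eq_top_iff.2 hRn).ge (mem_top g))]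
    rw [hmap] at hg
    by_cases htop : (S : Subgroup P) ⊔ (R ⊔ ((g • T₁ : Sylow t P) : Subgroup P)) = ⊤
    · right
      intro q hq hqd
      have := Fact.mk hq
      obtain ⟨x, hx⟩ := exists_prime_orderOf_dvd_card' q hqd
      by_contra hne
      push Not at hne
      obtain ⟨k, hk⟩ := exists_pow_mem_of_mem_sup hg S.2
        (show x ∈ _ from htop.symm ▸ mem_top x)
      have hx1 := LocalStructure.mem_of_pow_mem (p := p)
        (by rw [hx]; exact (Nat.coprime_primes hq hpp).2 hne.1) hk
      obtain ⟨l, hl⟩ := exists_pow_mem_of_mem_sup (p := t)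
        (le_top.trans (Subgroup.normalizer_eq_top_iff.2 hRn).ge) (g • T₁).2
        (by rwa [sup_comm] at hx1)
      have hx2 := LocalStructure.mem_of_pow_mem (p := t)
        (by rw [hx]; exact (Nat.coprime_primes hq ht.out).2 hne.2) hl
      have h3 := LocalStructure.eq_one_of_isPGroup hRp hx2
        (by rw [hx]; exact (Nat.coprime_primes hq hpp).2 hne.1)
      rw [h3, orderOf_one] at hx
      exact hq.ne_one hx.symm
    · left
      exact (le_sup_of_le_right le_sup_right).trans (PMinimal.le_of_ne_top hP hM hSM le_sup_left htop)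
  by_contra hcard
  apply hM.1
  refine Components.eq_top_of_forall_sylow fun t ht _ => ?_
  have := Fact.mk ht
  by_cases htp : t = p
  · subst htp; exact ⟨S, hSM⟩
  obtain ⟨T, hT | hT⟩ := hex t this htp
  · exact ⟨T, hT⟩
  · refine absurd ((Finset.card_le_card (fun q hq => ?_)).trans (Finset.card_le_two (a := p) (b := t))) hcard
    obtain ⟨hq1, hq2, -⟩ := Nat.mem_primeFactors.1 hq
    rcases hT q hq1 hq2 with rfl | rfl <;> simp


/-- Let P be a finite p-minimal group (a Sylow p-subgroup S is not normal and lies in a unique maximal subgroup M of P) and let F be the normal core of M. Then: every subnormal subgroup N of P contained in M satisfies N ∩ S ≤ O_p(P); if O^p(P) has a normal Sylow p-subgroup then the order of P has at most two prime divisors; every normal subgroup N of P either contains O^p(P) or is contained in F; and O^p(P)F ⧸ F is a minimal normal subgroup of P ⧸ F. -/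
theorem result {P : Type*} [Group P] [Finite P] {p : ℕ} [Fact p.Prime] (hP : Cfsg.IsPMinimal p P) (S : Sylow p P) (M : Subgroup P) (hM : IsCoatom M) (hSM : (S : Subgroup P) ≤ M) [hF : M.normalCore.Normal] : (∀ N : Subgroup P, N.IsSubnormal → N ≤ M → N ⊓ (S : Subgroup P) ≤ Cfsg.pCore p P) ∧ ((∀ T : Sylow p ↥(Cfsg.pResidual p P), (T : Subgroup ↥(Cfsg.pResidual p P)).Normal) → (Nat.card P).primeFactors.card ≤ 2) ∧ (∀ N : Subgroup P, N.Normal → Cfsg.pResidual p P ≤ N ∨ N ≤ M.normalCore) ∧ (∀ N : Subgroup P, N.Normal → M.normalCore ≤ N → N ≤ Cfsg.pResidual p P ⊔ M.normalCore → N = M.normalCore ∨ N = Cfsg.pResidual p P ⊔ M.normalCore) ∧ M.normalCore < Cfsg.pResidual p P ⊔ M.normalCore := by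
  have hOn : (Cfsg.pResidual p P).Normal := LocalStructure.pResidual_normal p P
  have hnot := PMinimal.not_pResidual_le S hM hSM
  refine ⟨fun N hN hNM => ?_, fun h => primeFactors_le_two hP hM hSM h,
    fun N hN => PMinimal.pResidual_le_or_le hP hM hSM hN, fun N hN h1 h2 => ?_, ?_⟩
  · exact (inf_le_inf_right _ (PMinimal.subnormal_le_normalCore hP hM hSM hN hNM)).trans
      (PMinimal.inf_sylow_le_pCore hP hM hSM hF (Subgroup.normalCore_le M))
  · rcases PMinimal.pResidual_le_or_le hP hM hSM hN with h | h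
    · exact Or.inr (le_antisymm h2 (sup_le h h1))
    · exact Or.inl (le_antisymm h h1)
  · refine lt_of_le_of_ne le_sup_right fun he => hnot ?_
    exact (le_sup_left.trans he.ge).trans (Subgroup.normalCore_le M)

end Cfsg.Agent.S2905
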