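import Cfsg.Statements.S2906
import Cfsg.Agent.Lib.PMinimal.Basic
import Cfsg.Agent.Lib.Components.GenFitting
-- import your own Cfsg.Agent.* helpers here

set_option autoImplicit false
open Cfsg

namespace Cfsg.Agent.S2906

open scoped commutatorElement Pointwise
open Subgroup Cfsg.Agent.LocalStructure

variable {P : Type*} [Group P]

theorem le_pResidual_of_perfect [Finite P] {p : ℕ} [Fact p.Prime] {K : Subgroup P}
    (hK : ⁅K, K⁆ = K) : K ≤ Cfsg.pResidual p P := by
  have hn := LocalStructure.pResidual_normal p P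
  let π := QuotientGroup.mk' (Cfsg.pResidual p P)
  have hsolv : Group.IsSolvable (P ⧸ Cfsg.pResidual p P) := by
    have h1 : IsPGroup p (P ⧸ Cfsg.pResidual p P) := by
      intro a
      induction a using QuotientGroup.induction_on with
      | H x =>
        obtain ⟨k, hk⟩ := LocalStructure.exists_pow_mem_resOf (p := p) (mem_top x)
        rw [LocalStructure.resOf_top] at hk
        exact ⟨k, by rw [← QuotientGroup.mk_pow, QuotientGroup.eq_one_iff]; exact hk⟩
    have := h1.isNilpotent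
    infer_instance
  by_contra hle
  have hne : K.map π ≠ ⊥ := by
    rw [Ne, Subgroup.map_eq_bot_iff, QuotientGroup.ker_mk']
    exact hle
  have hnt : Nontrivial ↥(K.map π) := (Subgroup.nontrivial_iff_ne_bot _).2 hne
  have hlt := Group.IsSolvable.commutator_lt_top_of_nontrivial ↥(K.map π)
  refine hlt.ne ?_
  apply Subgroup.map_injective (K.map π).subtype_injective
  rw [commutator_def, Subgroup.map_commutator, ← MonoidHom.range_eq_map, Subgroup.range_subtype,
    ← Subgroup.map_commutator, hK]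


/-- Let P be a finite p-minimal group with O_p(P) = 1, S a Sylow p-subgroup of P and K a component of P. Then O^p(P) = F*(P) = E(P) is generated by the S-conjugates of K, and the subgroup K·N_S(K) is again p-minimal. -/
theorem result {P : Type*} [Group P] [Finite P] {p : ℕ} [Fact p.Prime] (hP : Cfsg.IsPMinimal p P) (hOp : Cfsg.pCore p P = ⊥) (S : Sylow p P) (K : Subgroup P) (hK : Cfsg.IsComponent K) : Cfsg.pResidual p P = Cfsg.generalizedFittingSubgroup P ∧ Cfsg.generalizedFittingSubgroup P = Cfsg.layer P ∧ Cfsg.layer P = ⨆ s : ↥(S : Subgroup P), K.map (MulAut.conj (s : P)).toMonoidHom ∧ Cfsg.IsPMinimal p ↥(K ⊔ ((S : Subgroup P) ⊓ Subgroup.normalizer (K : Set P))) := by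
  classical
  have hpp : p.Prime := Fact.out
  obtain ⟨-, M, ⟨hM, hSM⟩, -⟩ := hP S
  have hover : ∀ X : Subgroup P, (S : Subgroup P) ≤ X → X ≠ ⊤ → X ≤ M :=
    fun X => PMinimal.le_of_ne_top hP hM hSM
  -- normal subgroups inside `M` are nilpotent
  have hnilM : ∀ N : Subgroup P, N.Normal → N ≤ M → N ≤ Cfsg.fittingSubgroup P := by
    intro N hN hNM
    refine PMinimal.normal_nilpotent hP hM hSM hN hNM fun hd => ?_
    obtain ⟨x, hx⟩ := exists_prime_orderOf_dvd_card' p hd
    have hR : IsSylowIn p ((S : Subgroup P) ⊓ N) N :=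
      (isSylowIn_of_sylow S le_top).inf_normal le_top (Subgroup.normalizer_eq_top_iff.2 hN).ge
    have hbot : (S : Subgroup P) ⊓ N = ⊥ := by
      have := PMinimal.inf_sylow_le_pCore hP hM hSM hN hNM
      rw [hOp, inf_comm] at this
      exact le_bot_iff.1 this
    have hxp : IsPGroup p ↥(Subgroup.zpowers (x : P)) := IsPGroup.of_card (n := 1) (by
      rw [Nat.card_zpowers, Subgroup.orderOf_coe, hx, pow_one])
    have h1 := hR.2.2 (Subgroup.zpowers (x : P)) (by rw [hbot]; exact bot_le)
      (Subgroup.zpowers_le.2 x.2) hxp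
    rw [hbot, Subgroup.zpowers_eq_bot] at h1
    rw [← Subgroup.orderOf_coe, h1, orderOf_one] at hx
    exact hpp.ne_one hx.symm
  have hKnotF : ¬ K ≤ Cfsg.fittingSubgroup P := fun h => by
    have := Components.fittingSubgroup_isNilpotent P
    exact Components.IsComponent.not_isSolvable hK
      (Group.isSolvable_of_isSolvable_injective (f := Subgroup.inclusion h) (Subgroup.inclusion_injective h))
  set E : Subgroup P := Cfsg.layer P with hE
  have hEn : E.Normal := by
    refine ⟨fun x hx g => ?_⟩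
    have h1 := (Components.map_layer (MulAut.conj g)).le ⟨x, hx, rfl⟩
    simpa using h1
  have hKE : K ≤ E := Components.IsComponent.le_layer hK
  have hOE : Cfsg.pResidual p P ≤ E :=
    (PMinimal.pResidual_le_or_le hP hM hSM hEn).resolve_right fun h =>
      hKnotF (hKE.trans (hnilM E hEn (h.trans (Subgroup.normalCore_le M))))
  have hEO : E ≤ Cfsg.pResidual p P := sSup_le fun L hL =>
    le_pResidual_of_perfect (Components.IsComponent.commutator_self hL)
  have hres : Cfsg.pResidual p P = E := le_antisymm hOE hEO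
  have hfit : Cfsg.fittingSubgroup P ≤ E := by
    rw [Components.fittingSubgroup_eq_iSup_pCore, ← hres]
    refine iSup_le fun q => ?_
    by_cases hq : (q : ℕ) = p
    · rw [hq, hOp]; exact bot_le
    · intro x hx
      have hq' := Nat.prime_of_mem_primeFactors q.2
      obtain ⟨k, hk⟩ := Components.isPGroup_pCore' (G := P) (q : ℕ) ⟨x, hx⟩
      exact LocalStructure.mem_pResidual
        (Nat.Coprime.coprime_dvd_left (orderOf_dvd_of_pow_eq_one (congrArg Subtype.val hk :))
          (((Nat.coprime_primes hq' hpp).2 hq).pow_left k))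
  have hFstar : Cfsg.generalizedFittingSubgroup P = E := by
    rw [Cfsg.generalizedFittingSubgroup, ← hE]
    exact sup_eq_left.2 hfit
  -- the join of the `S`-conjugates of `K`
  set J : Subgroup P := ⨆ s : ↥(S : Subgroup P), K.map (MulAut.conj (s : P)).toMonoidHom with hJ
  have hJcl : J = Subnormal.cl (S : Subgroup P) K := rfl
  have hJE : J ≤ E := iSup_le fun s =>
    Components.IsComponent.le_layer (Components.IsComponent.conj hK (s : P))
  have hKJ : K ≤ J := hJcl ▸ Subnormal.le_cl _ _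
  have hJn : J.Normal := by
    rw [← Subgroup.normalizer_eq_top_iff, eq_top_iff, ← pResidual_sup_sylow S]
    refine sup_le ?_ (hJcl ▸ Subnormal.le_normalizer_cl _ _)
    refine hEO.antisymm hOE ▸ sSup_le fun L hL => ?_
    rw [hJ]
    intro l hl
    refine mem_normalizer_of_map_conj_le ?_
    rw [Subgroup.map_iSup]
    refine iSup_mono fun s => ?_
    exact (map_conj_eq_self (Components.IsComponent.le_normalizer hL
      (Components.IsComponent.conj hK (s : P)) hl)).le
  have hEJ : E ≤ J := hres ▸ (PMinimal.pResidual_le_or_le hP hM hSM hJn).resolve_right fun h =>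
    hKnotF (hKJ.trans (hnilM J hJn (h.trans (Subgroup.normalCore_le M))))
  refine ⟨by rw [hres, hFstar], hFstar, le_antisymm hEJ hJE, ?_⟩
  -- `K N_S(K)`
  have hKM : ¬ K ≤ M := fun h => by
    refine PMinimal.not_pResidual_le S hM hSM ((hres.le.trans hEJ).trans ?_)
    rw [hJcl]
    refine Subnormal.cl_le_of fun s hs => ?_
    rintro _ ⟨x, hx, rfl⟩
    exact mul_mem (mul_mem (hSM hs) (h hx)) (inv_mem (hSM hs))
  set S₀ : Subgroup P := (S : Subgroup P) ⊓ Subgroup.normalizer (K : Set P) with hS₀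
  set P₀ : Subgroup P := K ⊔ S₀ with hP₀
  have hS₀K : S₀ ≤ Subgroup.normalizer (K : Set P) := inf_le_right
  have hKP₀ : K ≤ P₀ := le_sup_left
  have hSP₀ : S₀ ≤ P₀ := le_sup_right
  -- `S ∩ K` is a Sylow subgroup of `K`
  have hSK : IsSylowIn p ((S : Subgroup P) ⊓ K) K := by
    have h1 : IsSylowIn p ((S : Subgroup P) ⊓ E) E :=
      (isSylowIn_of_sylow S le_top).inf_normal le_top (Subgroup.normalizer_eq_top_iff.2 hEn).ge
    have h2 := h1.inf_normal hKE (sSup_le fun L hL => Components.IsComponent.le_normalizer hL hK)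
    rwa [inf_assoc, inf_eq_right.2 hKE] at h2
  -- subgroups between `S₀` and `P₀`
  have hdecomp : ∀ L : Subgroup P, S₀ ≤ L → L ≤ P₀ → L ≤ (L ⊓ K) ⊔ S₀ := by
    intro L h1 h2 x hx
    obtain ⟨s, hs, k, hk, rfl⟩ := exists_mul_of_mem_sup hS₀K
      (show x ∈ S₀ ⊔ K by rw [sup_comm]; exact h2 hx)
    have hkL : k ∈ L := by simpa using mul_mem (inv_mem (h1 hs)) hx
    exact mul_mem (Subgroup.mem_sup_right hs) (Subgroup.mem_sup_left ⟨hkL, hk⟩)
  have hS₀syl : IsSylowIn p S₀ P₀ := by
    refine ⟨hSP₀, S.2.to_le inf_le_left, fun R' h1 h2 h3 => le_antisymm ((hdecomp R' h1 h2).trans ?_) h1⟩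
    have h4 : R' ⊓ K = (S : Subgroup P) ⊓ K := by
      refine hSK.2.2 _ ?_ inf_le_right (h3.to_le inf_le_left)
      exact le_inf ((le_inf inf_le_left (inf_le_right.trans Subgroup.le_normalizer)).trans h1) inf_le_right
    rw [h4]
    exact sup_le (le_inf inf_le_left (inf_le_right.trans Subgroup.le_normalizer)) le_rfl
  -- proper overgroups of `S₀` in `P₀` lie in `M`
  have hoverP₀ : ∀ L : Subgroup P, S₀ ≤ L → L ≤ P₀ → L ≠ P₀ → L ≤ (M ⊓ K) ⊔ S₀ := by
    intro L h1 h2 h3
    refine (hdecomp L h1 h2).trans (sup_le_sup (le_inf ?_ inf_le_right) le_rfl)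
    set Y : Subgroup P := Subnormal.cl (S : Subgroup P) (L ⊓ K) with hY
    by_contra hLM
    have htop : (S : Subgroup P) ⊔ Y = ⊤ := by
      by_contra h
      exact hLM (((Subnormal.le_cl _ _).trans le_sup_right).trans (hover _ le_sup_left h))
    have hEY : E ≤ Y := hres ▸ LocalStructure.pResidual_le_of_le_sup
      (Subnormal.le_normalizer_cl _ _) S.2 (htop ▸ le_top)
    have hS₀LK : ∀ s ∈ S₀, (L ⊓ K).map (MulAut.conj s).toMonoidHom ≤ L ⊓ K := fun s hs =>
      le_inf (map_conj_le inf_le_left (h1 hs))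
        ((Subgroup.map_mono inf_le_right).trans (map_conj_eq_self (hS₀K hs)).le)
    have hYle : Y ≤ (L ⊓ K) ⊔ Subgroup.centralizer (K : Set P) := by
      refine Subnormal.cl_le_of fun s hs => ?_
      by_cases hsK : s ∈ Subgroup.normalizer (K : Set P)
      · exact (hS₀LK s ⟨hs, hsK⟩).trans le_sup_left
      · refine le_trans ((Subgroup.map_mono inf_le_right).trans ?_) le_sup_right
        refine Components.le_centralizer_of_commutator_eq_bot
          (Components.IsComponent.commutator_eq_bot (Components.IsComponent.conj hK s) hK fun he => ?_)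
        exact hsK (mem_normalizer_of_map_conj he)
    -- then `K = (L ⊓ K) Z(K)`, so `K ≤ L`
    have hKL : K ≤ L := by
      conv_lhs => rw [← Components.IsComponent.commutator_self hK]
      rw [Subgroup.commutator_le]
      have hdec : ∀ k ∈ K, ∃ l ∈ L ⊓ K, ∃ c ∈ Subgroup.centralizer (K : Set P), k = l * c := by
        intro k hk
        have hk' := hYle (hEY (hKE hk))
        obtain ⟨l, hl, c, hc, he⟩ := exists_mul_of_mem_sup
          (show L ⊓ K ≤ Subgroup.normalizer ((Subgroup.centralizer (K : Set P) : Subgroup P) : Set P) from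
            le_normalizer_centralizer (inf_le_right.trans Subgroup.le_normalizer)) hk'
        exact ⟨l, hl, c, hc, he.symm⟩
      intro a ha b hb
      obtain ⟨l, hl, c, hc, rfl⟩ := hdec a ha
      obtain ⟨l', hl', c', hc', rfl⟩ := hdec b hb
      have hcK : ∀ {l c : P}, l ∈ L ⊓ K → c ∈ Subgroup.centralizer (K : Set P) → ∀ x ∈ K, Commute c x :=
        fun _ hc x hx => (Subgroup.mem_centralizer_iff.1 hc x hx).symm
      have hc2 : c ∈ K := by simpa using Subgroup.mul_mem K (Subgroup.inv_mem K hl.2) ha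
      have e1 := hcK hl' hc' _ (mul_mem hl.2 hc2)
      have e2 := hcK hl hc l' hl'.2
      show ⁅l * c, l' * c'⁆ ∈ L
      have e3 : ⁅l * c, l' * c'⁆ = ⁅l, l'⁆ := by
        simp only [commutatorElement_def]
        calc l * c * (l' * c') * (l * c)⁻¹ * (l' * c')⁻¹
            = l * c * l' * (c' * (l * c)⁻¹) * c'⁻¹ * l'⁻¹ := by group
          _ = l * c * l' * ((l * c)⁻¹ * c') * c'⁻¹ * l'⁻¹ := by rw [e1.inv_right.eq]
          _ = l * (c * l') * c⁻¹ * l⁻¹ * l'⁻¹ := by group
          _ = l * (l' * c) * c⁻¹ * l⁻¹ * l'⁻¹ := by rw [e2.eq]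
          _ = l * l' * l⁻¹ * l'⁻¹ := by group
      rw [e3, commutatorElement_def]
      exact mul_mem (mul_mem (mul_mem hl.1 hl'.1) (inv_mem hl.1)) (inv_mem hl'.1)
    exact h3 (le_antisymm h2 (sup_le hKL h1))
  set M₀ : Subgroup P := (M ⊓ K) ⊔ S₀ with hM₀
  have hM₀le : M₀ ≤ P₀ := sup_le (inf_le_right.trans hKP₀) hSP₀
  have hM₀M : M₀ ≤ M := sup_le inf_le_left (inf_le_left.trans hSM)
  have hM₀ne : M₀ ≠ P₀ := fun h => hKM ((hKP₀.trans h.ge).trans hM₀M)
  -- so `S₀` is not normal in `P₀`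
  have hnotN : ¬ P₀ ≤ Subgroup.normalizer (S₀ : Set P) := by
    intro hN
    have hR0 : (S : Subgroup P) ⊓ K = ⊥ := by
      have hn : K ≤ Subgroup.normalizer (((S : Subgroup P) ⊓ K : Subgroup P) : Set P) := by
        have he : (S : Subgroup P) ⊓ K = S₀ ⊓ K := by
          rw [hS₀, inf_assoc, inf_eq_right.2 Subgroup.le_normalizer]
        rw [he]
        exact le_normalizer_inf (hKP₀.trans hN) Subgroup.le_normalizer
      have h1 := (le_pCoreOf inf_le_right hn (S.2.to_le inf_le_left)).trans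
        (pCoreOf_le_of_isSubnormal (p := p) hK.1)
      rwa [hOp, le_bot_iff] at h1
    -- then `K` centralises `S₀`
    have hc : ∀ k ∈ K, ∀ s ∈ S₀, Commute k s := by
      intro k hk s hs
      have h1 : k * s * k⁻¹ * s⁻¹ ∈ (S : Subgroup P) ⊓ K := by
        refine ⟨inf_le_left (b := Subgroup.normalizer (K : Set P))
          (mul_mem ((Subgroup.mem_normalizer_iff.1 (hN (hKP₀ hk)) s).1 hs) (inv_mem hs)), ?_⟩
        have := mul_mem hk ((Subgroup.mem_normalizer_iff.1 (hS₀K hs) _).1 (inv_mem hk))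
        simpa [mul_assoc] using this
      rw [hR0, Subgroup.mem_bot] at h1
      exact mul_inv_eq_iff_eq_mul.1 (mul_inv_eq_one.1 h1)
    apply hKM
    intro k hk
    have hle : Subgroup.zpowers k ⊔ S₀ ≤ P₀ := sup_le ((Subgroup.zpowers_le.2 hk).trans hKP₀) hSP₀
    refine hM₀M (hoverP₀ _ le_sup_right hle ?_ (Subgroup.mem_sup_left (Subgroup.mem_zpowers k)))
    intro he
    -- otherwise `K` would be cyclic
    refine Components.IsComponent.not_isSolvable hK ?_
    have hsub : K ≤ Subgroup.zpowers k := by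
      intro x hx
      have hnorm : S₀ ≤ Subgroup.normalizer (Subgroup.zpowers k : Set P) := by
        refine le_trans (fun s hs => ?_) (Subgroup.centralizer_le_normalizer _)
        rw [Subgroup.zpowers_eq_closure, Subgroup.centralizer_closure]
        exact Subgroup.mem_centralizer_singleton_iff.2 (hc k hk s hs).eq.symm
      obtain ⟨s, hs, m, hm, rfl⟩ := exists_mul_of_mem_sup hnorm
        (sup_comm (Subgroup.zpowers k) S₀ ▸ he.ge (hKP₀ hx))
      have hsK : s ∈ K := by simpa using mul_mem hx (inv_mem (Subgroup.zpowers_le.2 hk hm))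
      have h1 : s ∈ (S : Subgroup P) ⊓ K := ⟨hs.1, hsK⟩
      rw [hR0, Subgroup.mem_bot] at h1
      simpa [h1] using hm
    exact Group.isSolvable_of_isSolvable_injective (f := Subgroup.inclusion hsub)
      (Subgroup.inclusion_injective hsub)
  -- move everything into `↥P₀`
  obtain ⟨U₀, hU₀⟩ := hS₀syl.exists_sylow
  have hmapsub : ∀ L : Subgroup ↥P₀, (L.map P₀.subtype).subgroupOf P₀ = L := fun L =>
    Subgroup.comap_map_eq_self_of_injective P₀.subtype_injective L
  have hcoatom : IsCoatom (M₀.subgroupOf P₀) ∧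
      ∀ L : Subgroup ↥P₀, (U₀ : Subgroup ↥P₀) ≤ L → L ≠ ⊤ → L ≤ M₀.subgroupOf P₀ := by
    have hmain : ∀ L : Subgroup ↥P₀, (U₀ : Subgroup ↥P₀) ≤ L → L ≠ ⊤ → L ≤ M₀.subgroupOf P₀ := by
      intro L hL hLne
      rw [← hmapsub L]
      refine Subgroup.comap_mono (hoverP₀ _ ?_ (Subgroup.map_subtype_le _) fun he => hLne ?_)
      · intro s hs
        exact ⟨⟨s, hSP₀ hs⟩, hL (by rw [hU₀]; exact hs), rfl⟩
      · rw [← hmapsub L, he, Subgroup.subgroupOf_self]
    have hne : M₀.subgroupOf P₀ ≠ ⊤ := fun h =>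
      hM₀ne (le_antisymm hM₀le (Subgroup.subgroupOf_eq_top.1 h))
    refine ⟨⟨hne, fun L hlt => ?_⟩, hmain⟩
    by_contra h
    exact hlt.not_ge (hmain L ((hU₀.le.trans (Subgroup.comap_mono le_sup_right)).trans hlt.le) h)
  intro U
  obtain ⟨g, hg⟩ := MulAction.exists_smul_eq ↥P₀ U₀ U
  subst hg
  refine ⟨fun hn => hnotN ?_, ?_⟩
  · have h0 : (U₀ : Subgroup ↥P₀).Normal := by
      have h1 : g • U₀ = U₀ := by
        have h2 : ((g • U₀ : Sylow p ↥P₀) : Subgroup ↥P₀) = U₀ := by
          have h3 : (MulAut.conj g⁻¹) • ((g • U₀ : Sylow p ↥P₀) : Subgroup ↥P₀) =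
              ((g • U₀ : Sylow p ↥P₀) : Subgroup ↥P₀) := Subgroup.Normal.conjAct hn g⁻¹
          rw [Sylow.coe_subgroup_smul, smul_smul, ← map_mul, inv_mul_cancel, map_one, one_smul] at h3
          rw [Sylow.coe_subgroup_smul]
          exact h3.symm
        exact Sylow.ext h2
      rwa [h1] at hn
    intro x hx
    rw [Subgroup.mem_normalizer_iff]
    have key : ∀ y ∈ P₀, ∀ s ∈ S₀, y * s * y⁻¹ ∈ S₀ := by
      intro y hy s hs
      have h1 : (⟨s, hSP₀ hs⟩ : ↥P₀) ∈ (U₀ : Subgroup ↥P₀) := by rw [hU₀]; exact hs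
      have h2 := h0.conj_mem _ h1 ⟨y, hy⟩
      rw [hU₀] at h2
      exact h2
    exact fun s => ⟨key x hx s, fun hs => by simpa [mul_assoc] using key x⁻¹ (inv_mem hx) _ hs⟩
  · let e : ↥P₀ ≃* ↥P₀ := MulAut.conj g
    refine ⟨(M₀.subgroupOf P₀).map e.toMonoidHom, ⟨?_, ?_⟩, ?_⟩
    · exact ((e.mapSubgroup).isCoatom_iff _).2 hcoatom.1
    · rw [Sylow.coe_subgroup_smul]
      exact Subgroup.map_mono (hU₀.le.trans (Subgroup.comap_mono le_sup_right))
    · rintro L ⟨hL, hLU⟩
      have h1 : (U₀ : Subgroup ↥P₀) ≤ L.map e.symm.toMonoidHom := by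
        intro x hx
        refine ⟨e x, hLU ?_, e.symm_apply_apply x⟩
        rw [Sylow.coe_subgroup_smul]
        exact Subgroup.smul_mem_pointwise_smul _ _ _ hx
      have hLc : IsCoatom (L.map e.symm.toMonoidHom) := ((e.symm.mapSubgroup).isCoatom_iff _).2 hL
      have h2 := hcoatom.2 _ h1 hLc.1
      have h3 : L.map e.symm.toMonoidHom = M₀.subgroupOf P₀ :=
        ((hLc.le_iff).1 h2).resolve_left hcoatom.1.1 |>.symm
      rw [← h3, Subgroup.map_map]
      ext x
      simp

end Cfsg.Agent.S2906
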