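import Cfsg.Statements.S2907
-- import your own Cfsg.Agent.* helpers here

set_option autoImplicit false
open Cfsg

namespace Cfsg.Agent.S2907

/-- Let X be a finite semi-extraspecial p-group and x an element of X outside the centre. Then the index of C_X(x) in X equals the order of Z(X), and the commutators [x, y], y ∈ X, form exactly the centre Z(X). -/
theorem result {X : Type*} [Group X] [Finite X] {p : ℕ} [Fact p.Prime] (hX : Cfsg.IsSemiExtraspecial p X) (x : X) (hx : x ∉ Subgroup.center X) : (Subgroup.centralizer ({x} : Set X)).index = Nat.card ↥(Subgroup.center X) ∧ {z : X | ∃ y : X, z = x * y * x⁻¹ * y⁻¹} = (Subgroup.center X : Set X) := by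
  obtain ⟨⟨hp, -, hcomm⟩, hY⟩ := hX
  have hcen : ∀ y : X, x * y * x⁻¹ * y⁻¹ ∈ Subgroup.center X := fun y => by
    rw [← hcomm, commutator_def]
    exact Subgroup.commutator_mem_commutator (Subgroup.mem_top x) (Subgroup.mem_top y)
  let f : X →* ↥(Subgroup.center X) :=
    { toFun := fun y => ⟨x * y * x⁻¹ * y⁻¹, hcen y⟩
      map_one' := Subtype.ext (by simp)
      map_mul' := fun y y' => Subtype.ext (by
        show x * (y * y') * x⁻¹ * (y * y')⁻¹ = (x * y * x⁻¹ * y⁻¹) * (x * y' * x⁻¹ * y'⁻¹)
        have h1 := Subgroup.mem_center_iff.1 (hcen y') y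
        calc x * (y * y') * x⁻¹ * (y * y')⁻¹
            = (x * y * x⁻¹) * ((x * y' * x⁻¹ * y'⁻¹) * y⁻¹) := by group
          _ = (x * y * x⁻¹) * (y⁻¹ * (y * (x * y' * x⁻¹ * y'⁻¹)) * y⁻¹) := by group
          _ = (x * y * x⁻¹) * (y⁻¹ * ((x * y' * x⁻¹ * y'⁻¹) * y) * y⁻¹) := by rw [h1]
          _ = (x * y * x⁻¹ * y⁻¹) * (x * y' * x⁻¹ * y'⁻¹) := by group) }
  have hf : Function.Surjective f := by
    rw [← MonoidHom.range_eq_top]
    by_contra hne
    obtain ⟨W, hW, hfW⟩ := (eq_top_or_exists_le_coatom f.range).resolve_left hne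
    set Y : Subgroup X := W.map (Subgroup.center X).subtype with hYdef
    obtain ⟨hYn, hes⟩ := hY Y (Subgroup.map_subtype_le _) (by
      have : Y.subgroupOf (Subgroup.center X) = W :=
        Subgroup.comap_map_eq_self_of_injective (Subgroup.center X).subtype_injective W
      rwa [this])
    let π := QuotientGroup.mk' Y
    have hxc : π x ∈ Subgroup.center (X ⧸ Y) := by
      rw [Subgroup.mem_center_iff]
      intro a
      induction a using QuotientGroup.induction_on with
      | H y =>
        have h1 : π (x * y * x⁻¹ * y⁻¹) = 1 :=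
          (QuotientGroup.eq_one_iff _).2 ⟨f y, hfW ⟨y, rfl⟩, rfl⟩
        rw [map_mul, map_mul, map_mul, map_inv, map_inv] at h1
        exact (mul_inv_eq_iff_eq_mul.1 (mul_inv_eq_one.1 h1)).symm
    have hZc : (Subgroup.center X).map π ≤ Subgroup.center (X ⧸ Y) := by
      rintro _ ⟨z, hz, rfl⟩
      rw [Subgroup.mem_center_iff]
      intro a
      induction a using QuotientGroup.induction_on with
      | H y => exact congrArg π (Subgroup.mem_center_iff.1 hz y)
    have hZne : (Subgroup.center X).map π ≠ ⊥ := by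
      intro hb
      obtain ⟨z, hz⟩ := SetLike.exists_of_lt (lt_top_iff_ne_top.2 hW.1)
      apply hz.2
      have h1 : π (z : X) ∈ (⊥ : Subgroup (X ⧸ Y)) := hb ▸ ⟨z, z.2, rfl⟩
      obtain ⟨w, hw, hwz⟩ := (QuotientGroup.eq_one_iff _).1 (Subgroup.mem_bot.1 h1)
      exact Subtype.ext hwz ▸ hw
    have heq : (Subgroup.center X).map π = Subgroup.center (X ⧸ Y) := by
      refine Subgroup.eq_of_le_of_card_ge hZc ?_
      have h1 := Subgroup.card_dvd_of_le hZc
      rw [hes.2] at h1 ⊢
      rcases (Nat.dvd_prime (Fact.out : p.Prime)).1 h1 with h | h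
      · exact absurd (Subgroup.card_eq_one.1 h) hZne
      · exact h.ge
    rw [← heq] at hxc
    obtain ⟨z, hz, hzx⟩ := hxc
    apply hx
    have h2 : (z⁻¹ * x : X) ∈ Y := QuotientGroup.eq.1 hzx
    have h3 := mul_mem hz (Subgroup.map_subtype_le _ h2)
    simpa using h3
  have hker : f.ker = Subgroup.centralizer ({x} : Set X) := by
    ext y
    rw [MonoidHom.mem_ker, Subgroup.mem_centralizer_singleton_iff]
    constructor
    · intro h
      exact (mul_inv_eq_iff_eq_mul.1 (mul_inv_eq_one.1 (congrArg Subtype.val h))).symm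
    · intro h
      apply Subtype.ext
      show x * y * x⁻¹ * y⁻¹ = 1
      rw [← h]; group
  refine ⟨?_, ?_⟩
  · rw [← hker, Subgroup.index_ker, MonoidHom.range_eq_top.2 hf, Subgroup.card_top]
  · ext z
    constructor
    · rintro ⟨y, rfl⟩
      exact hcen y
    · intro hz
      obtain ⟨y, hy⟩ := hf ⟨z, hz⟩
      exact ⟨y, (congrArg Subtype.val hy).symm⟩

end Cfsg.Agent.S2907
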