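import Cfsg.Statements.S2908
import Cfsg.Agent.Lib.Coprime.Commutator
import Cfsg.Agent.Lib.Coprime.ThreeSubgroup
-- import your own Cfsg.Agent.* helpers here

set_option autoImplicit false
open Cfsg

namespace Cfsg.Agent.S2908

open Subgroup

variable {G : Type*} [Group G] [Finite G] {p : ℕ} [Fact p.Prime]

/-- `[P, B] ≤ [P, A]` for commuting `A` (a `p`-group) and `B` (a `p'`-group) forces `[P, B] = 1`. -/
theorem commutator_eq_bot (P A B : Subgroup G) (hP : IsPGroup p ↥P) (hA : IsPGroup p ↥A)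
    (hB : ¬ p ∣ Nat.card ↥B) (hnA : A ≤ normalizer (P : Set G)) (hnB : B ≤ normalizer (P : Set G))
    (hAB : ⁅A, B⁆ = ⊥) (hcomm : ⁅P, B⁆ ≤ ⁅P, A⁆) : ⁅P, B⁆ = ⊥ := by
  let W : Subgroup G := P ⊔ A
  have hW : IsPGroup p ↥W := hP.to_sup_of_normal_left' hA hnA
  have hnil : Group.IsNilpotent ↥W := hW.isNilpotent
  have hcop : (Nat.card B).Coprime (Nat.card P) := by
    obtain ⟨e, he⟩ := IsPGroup.iff_card.1 hP
    rw [he]
    exact (((Fact.out : p.Prime).coprime_iff_not_dvd.2 hB).symm).pow_right e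
  have hnilP : Group.IsNilpotent ↥P := hP.isNilpotent
  have hPB : ⁅P, B⁆ ≤ P := Coprime.commutator_le_left_of_le_normalizer hnB
  have hBA : B ≤ centralizer (A : Set G) := by
    rw [← commutator_eq_bot_iff_le_centralizer, commutator_comm, hAB]
  -- descend along `D₀ = [P, W]`, `D_{n+1} = [D_n, W]`
  have step : ∀ n : ℕ, ∃ D : Subgroup G, D ≤ W.lowerCentralSeries (n + 1) ∧
      W ≤ normalizer (D : Set G) ∧ B ≤ normalizer (D : Set G) ∧ ⁅P, B⁆ ≤ D := by
    have hBW : B ≤ normalizer (W : Set G) := le_trans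
      (le_inf hnB (hBA.trans (centralizer_le_normalizer _)))
      (normalizer_inf_normalizer_le_normalizer_sup P A)
    have hBcomm : ∀ D : Subgroup G, B ≤ normalizer (D : Set G) →
        B ≤ normalizer ((⁅D, W⁆ : Subgroup G) : Set G) := by
      intro D hD b hb
      refine Coprime.mem_normalizer_of_conj_smul_eq ?_
      show Subgroup.map (MulAut.conj b).toMonoidHom ⁅D, W⁆ = _
      rw [map_commutator]
      exact congrArg₂ (fun X Y => ⁅X, Y⁆) (Coprime.conj_smul_eq_self_of_mem (hD hb))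
        (Coprime.conj_smul_eq_self_of_mem (hBW hb))
    intro n
    induction n with
    | zero =>
      refine ⟨⁅P, W⁆, ?_, normalizer_commutator_ge_right P W, hBcomm P hnB,
        hcomm.trans (commutator_mono le_rfl le_sup_right)⟩
      show ⁅P, W⁆ ≤ ⁅W, W⁆
      exact commutator_mono le_sup_left le_rfl
    | succ n ih =>
      obtain ⟨D, hDW, hWD, hBD, hPBD⟩ := ih
      refine ⟨⁅D, W⁆, commutator_mono hDW le_rfl, normalizer_commutator_ge_right D W,
        hBcomm D hBD, ?_⟩
      calc ⁅P, B⁆ = ⁅⁅P, B⁆, B⁆ :=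
            (Coprime.commutator_commutator_eq hnB hcop (Or.inr inferInstance)).symm
        _ ≤ ⁅⁅P, A⁆, B⁆ := commutator_mono hcomm le_rfl
        _ ≤ ⁅D, W⁆ := by
          refine Coprime.three_subgroup_le
            (le_trans le_sup_left (normalizer_commutator_ge_right D W))
            (le_trans le_sup_right (normalizer_commutator_ge_right D W)) (hBcomm D hBD) ?_ ?_
          · rw [hAB, commutator_bot_left]; exact bot_le
          · rw [commutator_comm B P]
            exact commutator_mono hPBD le_sup_right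
  obtain ⟨n, hn⟩ := Subgroup.nilpotent_iff_lowerCentralSeries.1 hnil
  obtain ⟨D, hD, -, -, hle⟩ := step n
  have h0 : W.lowerCentralSeries (n + 1) = ⊥ := by
    rw [← le_bot_iff]
    have h1 : W.lowerCentralSeries n = ⊥ := by
      rw [← Subgroup.top_subtype_lowerCentralSeries, hn, Subgroup.map_bot]
    show ⁅W.lowerCentralSeries n, W⁆ ≤ ⊥
    rw [h1, commutator_bot_left]
  exact le_bot_iff.1 (hle.trans (hD.trans h0.le))


/-- Let P be a p-subgroup of a finite group, normalized by a p-subgroup A and by a subgroup B of order prime to p that commutes elementwise with A. If [P, B] ≤ [P, A], then B centralizes P. -/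
theorem result {G : Type*} [Group G] [Finite G] {p : ℕ} [Fact p.Prime] (P A B : Subgroup G) (hP : IsPGroup p ↥P) (hA : IsPGroup p ↥A) (hB : ¬ p ∣ Nat.card ↥B) (hnA : A ≤ Subgroup.normalizer (P : Set G)) (hnB : B ≤ Subgroup.normalizer (P : Set G)) (hAB : ⁅A, B⁆ = ⊥) (hcomm : ⁅P, B⁆ ≤ ⁅P, A⁆) : ⁅P, B⁆ = ⊥ := by
  exact commutator_eq_bot P A B hP hA hB hnA hnB hAB hcomm

end Cfsg.Agent.S2908
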