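import Cfsg.Statements.S2909
import Cfsg.Agent.Lib.Coprime.Commutator
import Cfsg.Agent.Lib.Coprime.Generation
import Cfsg.Agent.Lib.Coprime.ThreeSubgroup
import Cfsg.Agent.Lib.PGroup.ElementaryAbelian
import Cfsg.Agent.S2908
-- import your own Cfsg.Agent.* helpers here

set_option autoImplicit false
open Cfsg

namespace Cfsg.Agent.S2909

/-- Let p be a prime, E a normal p-subgroup of the finite group G, and U a non-cyclic elementary abelian p-subgroup of G such that either C_E(U) = C_E(u) for every nontrivial u ∈ U, or [E, U] = [E, ⟨u⟩] for every nontrivial u ∈ U. If R is a subgroup of order prime to p normalized by U, then [R, U] centralizes E. -/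
theorem result {G : Type*} [Group G] [Finite G] {p : ℕ} [Fact p.Prime] (E : Subgroup G) [E.Normal] (hE : IsPGroup p ↥E) (U : Subgroup G) (hU : Cfsg.IsElementaryAbelian p U) (hnc : ¬ IsCyclic ↥U) (hcond : (∀ u ∈ U, u ≠ 1 → E ⊓ Subgroup.centralizer (U : Set G) = E ⊓ Subgroup.centralizer ({u} : Set G)) ∨ (∀ u ∈ U, u ≠ 1 → ⁅E, U⁆ = ⁅E, Subgroup.zpowers u⁆)) (R : Subgroup G) (hR : ¬ p ∣ Nat.card ↥R) (hRU : U ≤ Subgroup.normalizer (R : Set G)) : ⁅R, U⁆ ≤ Subgroup.centralizer (E : Set G) := by
  classical
  have hUp : IsPGroup p ↥U := PGroup.isPGroup_of_elementaryAbelian hU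
  have hUab : IsMulCommutative ↥U := hU.1
  have hEN : ∀ H : Subgroup G, H ≤ Subgroup.normalizer (E : Set G) := fun H => by
    rw [Subgroup.normalizer_eq_top_iff.2 inferInstance]; exact le_top
  have hcopUR : (Nat.card U).Coprime (Nat.card R) := by
    obtain ⟨e, he⟩ := IsPGroup.iff_card.1 hUp
    rw [he]
    exact ((Fact.out : p.Prime).coprime_iff_not_dvd.2 hR).pow_left e
  set C : Subgroup G := Subgroup.centralizer (E : Set G) with hCdef
  have hCn : C.Normal := inferInstance
  -- the commutator of each `C_R(u)` with `U` centralises `E`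
  have hpiece : ∀ u ∈ U, u ≠ 1 →
      ⁅R ⊓ Subgroup.centralizer ({u} : Set G), U⁆ ≤ C := by
    intro u hu hu1
    set Ru : Subgroup G := R ⊓ Subgroup.centralizer ({u} : Set G) with hRu
    set B : Subgroup G := ⁅Ru, U⁆ with hBdef
    have huz : ∀ H : Subgroup G, H ≤ Subgroup.centralizer ({u} : Set G) →
        H ≤ Subgroup.centralizer (Subgroup.zpowers u : Set G) := fun H hH => by
      rwa [Subgroup.zpowers_eq_closure, Subgroup.centralizer_closure]
    have hUu : U ≤ Subgroup.centralizer ({u} : Set G) := fun v hv =>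
      Subgroup.mem_centralizer_singleton_iff.2 (PGroup.mul_comm_of_elementaryAbelian hU hv hu)
    have hURu : U ≤ Subgroup.normalizer (Ru : Set G) :=
      le_trans (le_inf hRU (hUu.trans Subgroup.le_normalizer))
        Subgroup.inf_normalizer_le_normalizer_inf
    have hBRu : B ≤ Ru := Coprime.commutator_le_left_of_le_normalizer hURu
    have hBu : B ≤ Subgroup.centralizer (Subgroup.zpowers u : Set G) :=
      huz _ (hBRu.trans inf_le_right)
    have hRuu : Ru ≤ Subgroup.centralizer (Subgroup.zpowers u : Set G) := huz _ inf_le_right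
    have hBcard : ¬ p ∣ Nat.card ↥B := fun h =>
      hR (h.trans (Subgroup.card_dvd_of_le (hBRu.trans inf_le_left)))
    have hzp : IsPGroup p ↥(Subgroup.zpowers u) := hUp.to_le (Subgroup.zpowers_le.2 hu)
    rcases hcond with hcond | hcond
    · set D : Subgroup G := E ⊓ Subgroup.centralizer (U : Set G) with hD
      have hDu : D = E ⊓ Subgroup.centralizer ({u} : Set G) := hcond u hu hu1
      have hRuD : Ru ≤ Subgroup.normalizer (D : Set G) := by
        rw [hDu]
        exact le_trans (le_inf (hEN Ru) (inf_le_right.trans Subgroup.le_normalizer))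
          Subgroup.inf_normalizer_le_normalizer_inf
      have hUD : ⁅D, U⁆ = ⊥ := by
        rw [Subgroup.commutator_eq_bot_iff_le_centralizer]
        exact inf_le_right
      have h2 : ⁅⁅D, Ru⁆, U⁆ = ⊥ := le_bot_iff.1 (le_trans (Subgroup.commutator_mono
        (Coprime.commutator_le_left_of_le_normalizer hRuD) le_rfl) hUD.le)
      have h1 : ⁅⁅U, D⁆, Ru⁆ = ⊥ := by
        rw [Subgroup.commutator_comm U D, hUD, Subgroup.commutator_bot_left]
      have h3 : ⁅⁅Ru, U⁆, D⁆ = ⊥ := Subgroup.commutator_commutator_eq_bot_of_rotate h1 h2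
      refine Coprime.le_centralizer_of_pq hzp
        ((((Fact.out : p.Prime).coprime_iff_not_dvd.2 hBcard).symm)) hE
        (Subgroup.le_centralizer_iff.1 hBu) (hEN _) (hEN _) ?_
      have he : E ⊓ Subgroup.centralizer (Subgroup.zpowers u : Set G) = D := by
        rw [hDu, Subgroup.zpowers_eq_closure, Subgroup.centralizer_closure]
      rw [he, ← Subgroup.commutator_eq_bot_iff_le_centralizer, Subgroup.commutator_comm]
      exact h3
    · set D : Subgroup G := ⁅E, U⁆ with hD
      have hDu : D = ⁅E, Subgroup.zpowers u⁆ := hcond u hu hu1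
      have hRuD : Ru ≤ Subgroup.normalizer (D : Set G) := by
        rw [hDu]
        exact Coprime.le_normalizer_commutator (hEN Ru) hRuu
      have hUD : U ≤ Subgroup.normalizer (D : Set G) := Subgroup.normalizer_commutator_ge_right E U
      have hED : E ≤ Subgroup.normalizer (D : Set G) := Subgroup.normalizer_commutator_ge_left E U
      have h3 : ⁅⁅Ru, U⁆, E⁆ ≤ D := by
        refine Coprime.three_subgroup_le hRuD hUD hED ?_ ?_
        · rw [Subgroup.commutator_comm U E]
          exact Coprime.commutator_le_left_of_le_normalizer hRuD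
        · exact Subgroup.commutator_mono
            (Coprime.commutator_le_left_of_le_normalizer (hEN Ru)) le_rfl
      have h4 : ⁅E, B⁆ = ⊥ := S2908.commutator_eq_bot E (Subgroup.zpowers u) B hE hzp hBcard
        (hEN _) (hEN _) (by
          rw [Subgroup.commutator_eq_bot_iff_le_centralizer]
          exact Subgroup.le_centralizer_iff.1 hBu)
        (by rw [← hDu, Subgroup.commutator_comm]; exact h3)
      rw [hCdef, ← Subgroup.commutator_eq_bot_iff_le_centralizer, Subgroup.commutator_comm]
      exact h4
  -- elements of `R` moved by `U` into `C`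
  let M : Subgroup G :=
    { carrier := {r | ∀ v ∈ U, r * v * r⁻¹ * v⁻¹ ∈ C}
      one_mem' := fun v _ => by simp
      mul_mem' := fun {r s} hr hs v hv => by
        have h := Subgroup.mul_mem C (hCn.conj_mem _ (hs v hv) r) (hr v hv)
        simpa [mul_assoc] using h
      inv_mem' := fun {r} hr v hv => by
        have h := Subgroup.inv_mem C (hCn.conj_mem _ (hr v hv) r⁻¹)
        simpa [mul_assoc] using h }
  have hgen := Coprime.iSup_centralizer_eq hnc hRU hcopUR
  have hRM : R ≤ M := by
    rw [← hgen]
    refine iSup₂_le fun u hu r hr v hv => ?_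
    exact hpiece u hu.1 hu.2 (Subgroup.commutator_mem_commutator hr hv)
  rw [Subgroup.commutator_le]
  intro r hr v hv
  exact hRM hr v hv

end Cfsg.Agent.S2909
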