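import Cfsg.Statements.S2911
import Cfsg.Agent.Lib.Transfer.Thompson
import Cfsg.Agent.Lib.Transfer.Fusion
-- import your own Cfsg.Agent.* helpers here

set_option autoImplicit false
open Cfsg

namespace Cfsg.Agent.S2911

open Subgroup

set_option synthInstance.maxSize 4000
set_option maxHeartbeats 1000000

/-- The model `C₂ × D₈` of the Sylow subgroup. -/
abbrev Model : Type := Multiplicative (ZMod 2) × DihedralGroup 4

/-- The central involution outside the Frattini subgroup. -/
def eA : Model := (Multiplicative.ofAdd 1, 1)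
/-- The nontrivial square. -/
def eZ : Model := (1, DihedralGroup.r 2)
/-- A non-central involution. -/
def eB : Model := (1, DihedralGroup.sr 0)
/-- A non-central involution of the other class. -/
def eC : Model := (1, DihedralGroup.sr 1)
/-- An element of order 4. -/
def eR : Model := (1, DihedralGroup.r 1)

/-- The homomorphism to `Multiplicative (ZMod 2)` with values `i, j, k` on `eA, eB, eR`. -/
def chi (i j k : ZMod 2) (x : Model) : ZMod 2 :=
  i * Multiplicative.toAdd x.1 + match x.2 with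
    | DihedralGroup.r l => k * (l.val : ZMod 2)
    | DihedralGroup.sr l => j + k * (l.val : ZMod 2)

/-- The kernel of `chi i j k`. -/
def chiKer (i j k : ZMod 2) : Subgroup Model where
  carrier := {x | chi i j k x = 0}
  one_mem' := by revert i j k; decide
  mul_mem' := by
    intro x y
    have : ∀ i j k : ZMod 2, ∀ x y : Model, chi i j k (x * y) = chi i j k x + chi i j k y := by
      decide +kernel
    intro hx hy
    show chi i j k (x * y) = 0
    rw [this, show chi i j k x = 0 from hx, show chi i j k y = 0 from hy, add_zero]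
  inv_mem' := by
    intro x
    have : ∀ i j k : ZMod 2, ∀ x : Model, chi i j k x⁻¹ = chi i j k x := by decide +kernel
    intro hx
    show chi i j k x⁻¹ = 0
    rw [this]; exact hx

/-- The automorphism exchanging `eA` and `eA * eZ`. -/
def theta : Model →* Model where
  toFun x := (x.1, x.2 * DihedralGroup.r (2 * (Multiplicative.toAdd x.1).val))
  map_one' := by decide
  map_mul' := by decide +kernel

theorem theta_injective : Function.Injective theta := by decide +kernel

variable {G : Type*} [Group G] [Finite G] (S : Sylow 2 G) (f : Model →* G)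

theorem exists_conj_mem [Fact (Nat.Prime 2)] (hf : Function.Injective f)
    (hr : f.range = (S : Subgroup G)) (hno : ¬ ∃ H : Subgroup G, H.index = 2) (i j k : ZMod 2)
    (hne : ¬ (i = 0 ∧ j = 0 ∧ k = 0)) (u : Model) (hu : u * u = 1) :
    ∃ v : Model, chi i j k v = 0 ∧ v * v = 1 ∧ IsConj (f u) (f v) := by
  by_contra hcon
  apply hno
  have hidx : (chiKer i j k).index = 2 := by
    rw [Subgroup.index_eq_two_iff]
    have h1 : ∀ i j k : ZMod 2, ¬ (i = 0 ∧ j = 0 ∧ k = 0) →
        ∃ a : Model, ∀ b, Xor (chi i j k (b * a) = 0) (chi i j k b = 0) := by decide +kernel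
    exact h1 i j k hne
  have hQP : (chiKer i j k).map f ≤ (S : Subgroup G) := hr ▸ Subgroup.map_le_range f _
  have hQi : ((chiKer i j k).map f).relIndex (S : Subgroup G) = 2 := by
    rw [← hr, MonoidHom.range_eq_map, Subgroup.relIndex_map_map_of_injective _ _ hf,
      Subgroup.relIndex_top_right, hidx]
  have hnot : ∀ g : G, g * f u * g⁻¹ ∉ (chiKer i j k).map f := by
    rintro g ⟨v, hv, hve⟩
    refine hcon ⟨v, hv, hf ?_, isConj_iff.2 ⟨g, hve.symm⟩⟩
    rw [map_mul, map_one, hve, show g * f u * g⁻¹ * (g * f u * g⁻¹) = g * (f u * f u) * g⁻¹ by group,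
      ← map_mul, hu, map_one, mul_one, mul_inv_cancel]
  obtain ⟨M, -, hM, -⟩ := Transfer.exists_index_two_of_involution S _ hQP hQi (f u)
    (by rw [pow_two, ← map_mul, hu, map_one]) (hr ▸ ⟨u, rfl⟩)
    (fun h => hnot 1 (by simpa using h)) hnot
  exact ⟨M, hM⟩

theorem central_fusion [Fact (Nat.Prime 2)] (hf : Function.Injective f)
    (hr : f.range = (S : Subgroup G)) {u v : Model} (hu : ∀ x, x * u = u * x)
    (hv : ∀ x, x * v = v * x) (hu2 : u * u = 1) (hv2 : v * v = 1) (h : IsConj (f u) (f v)) :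
    u = v := by
  obtain ⟨g, hg⟩ := isConj_iff.1 h
  have hcS : ∀ u : Model, (∀ x, x * u = u * x) →
      f u ∈ centralizer ((S : Subgroup G) : Set G) := by
    intro u hu
    refine mem_centralizer_iff.2 fun s hs => ?_
    rw [← hr] at hs
    obtain ⟨x, rfl⟩ := hs
    rw [← map_mul, ← map_mul, hu]
  obtain ⟨n, hn, hne⟩ := Transfer.exists_sylow_normalizer_conj_eq S {f u} g
    (by simpa using hcS u hu) (by
      intro a ha
      rw [Set.mem_singleton_iff.1 ha, hg]
      exact hcS v hv)
  have hnu : n * f u * n⁻¹ = f v := (hne _ rfl).trans hg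
  -- conjugation by `n` as a map on the model
  have hact : ∀ x, ∃ y, f y = n * f x * n⁻¹ := fun x => by
    have h1 : n * f x * n⁻¹ ∈ (S : Subgroup G) :=
      (mem_normalizer_iff.1 hn _).1 (hr ▸ ⟨x, rfl⟩)
    rw [← hr] at h1
    exact h1
  choose φ hφ using hact
  have hmul : ∀ x y, φ (x * y) = φ x * φ y := fun x y => hf (by
    rw [map_mul, hφ, hφ, hφ, map_mul]; group)
  have hφu : φ u = v := hf (by rw [hφ, hnu])
  -- `eZ` is the only nontrivial square
  have hz : ∀ x : Model, x ≠ 1 → (∃ y, y * y = x) → x = eZ := by decide +kernel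
  have hφ1 : φ 1 = 1 := hf (by rw [hφ, map_one]; group)
  have hφinj : Function.Injective φ := fun x y hxy => hf (by
    have := hφ x
    rw [hxy, hφ y] at this
    simpa using this.symm)
  have hφZ : φ eZ = eZ := hz _ (fun h1 => by
    have := hφinj (h1.trans hφ1.symm)
    exact absurd this (by decide)) ⟨φ eR, by rw [← hmul]; rfl⟩
  have hcases : ∀ u : Model, (∀ x, x * u = u * x) → u * u = 1 →
      u = 1 ∨ u = eZ ∨ u = eA ∨ u = eA * eZ := by decide +kernel
  rcases hcases u hu hu2 with rfl | rfl | hAu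
  · exact hφ1.symm.trans hφu
  · exact hφZ.symm.trans hφu
  -- `φ` preserves the set `{eA, eA * eZ}`
  have hstep : ∀ x, (x = eA ∨ x = eA * eZ) → φ x = eA ∨ φ x = eA * eZ := by
    intro x hx
    have hxc : ∀ y, y * x = x * y := by
      rcases hx with rfl | rfl <;> decide +kernel
    have hx2 : x * x = 1 := by rcases hx with rfl | rfl <;> decide +kernel
    have hc1 : ∀ y, y * φ x = φ x * y := by
      intro y
      obtain ⟨y', rfl⟩ : ∃ y', φ y' = y := (Finite.injective_iff_surjective.1 hφinj) y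
      rw [← hmul, ← hmul, hxc]
    rcases hcases _ hc1 (by rw [← hmul, hx2, hφ1]) with h1 | h1 | h1
    · exact absurd (hφinj (h1.trans hφ1.symm)) (by rcases hx with rfl | rfl <;> decide)
    · exact absurd (hφinj (h1.trans hφZ.symm)) (by rcases hx with rfl | rfl <;> decide)
    · exact h1
  by_contra hne'
  have hswap : ∀ x, (x = eA ∨ x = eA * eZ) → φ x ≠ x := by
    have hvv := hφu ▸ hstep u hAu
    intro x hx hfix
    have hfix' : φ (x * eZ) = x * eZ := by rw [hmul, hfix, hφZ]
    rcases hx with rfl | rfl <;> rcases hAu with rfl | rfl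
    · exact hne' (hfix.symm.trans hφu)
    · exact hne' (hfix'.symm.trans hφu)
    · rw [show eA * eZ * eZ = eA by decide] at hfix'
      exact hne' (hfix'.symm.trans hφu)
    · exact hne' (hfix.symm.trans hφu)
  have hitswap : ∀ m : ℕ, ∀ x, (x = eA ∨ x = eA * eZ) →
      (φ^[m] x = eA ∨ φ^[m] x = eA * eZ) ∧ (Odd m → φ^[m] x ≠ x) ∧ (Even m → φ^[m] x = x) := by
    intro m
    induction m with
    | zero => exact fun x hx => ⟨hx, fun h => absurd h (by decide), fun _ => rfl⟩
    | succ m ih =>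
      intro x hx
      obtain ⟨h1, h2, h3⟩ := ih x hx
      rw [Function.iterate_succ_apply']
      refine ⟨hstep _ h1, fun hodd => ?_, fun hev => ?_⟩
      · rw [h3 (Nat.not_odd_iff_even.1 (fun h => (Nat.odd_add_one.1 hodd) h))]
        exact hswap x hx
      · have h4 := h2 (Nat.not_even_iff_odd.1 (fun h => (Nat.even_add_one.1 hev) h))
        have h5 := hswap _ h1
        have h6 := hstep _ h1
        rcases hx with rfl | rfl <;> rcases h1 with h1 | h1 <;> rcases h6 with h6 | h6 <;>
          simp only [h1] at h4 h5 h6 ⊢ <;> first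
            | exact absurd rfl h4
            | exact absurd h6 h5
            | exact h6
  have hiter : ∀ m : ℕ, ∀ x, f (φ^[m] x) = n ^ m * f x * (n ^ m)⁻¹ := by
    intro m
    induction m with
    | zero => intro x; simp
    | succ m ih => intro x; rw [Function.iterate_succ_apply', hφ, ih, pow_succ']; group
  obtain ⟨k, o, ho, hko⟩ := Nat.exists_eq_pow_mul_and_not_dvd (orderOf_pos n).ne' 2 (by norm_num)
  -- `n ^ o` is a `2`-element normalising `S`, so lies in `S`
  have hnoS : n ^ o ∈ (S : Subgroup G) := by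
    have hp : IsPGroup 2 ↥(zpowers (n ^ o)) := by
      have hd : orderOf (n ^ o) ∣ 2 ^ k := orderOf_dvd_of_pow_eq_one (by
        rw [← pow_mul, mul_comm, ← hko, pow_orderOf_eq_one])
      obtain ⟨j, -, hj⟩ := (Nat.dvd_prime_pow Nat.prime_two).1 hd
      exact IsPGroup.of_card (n := j) (by rw [Nat.card_zpowers, hj])
    have hN : zpowers (n ^ o) ≤ normalizer ((S : Subgroup G) : Set G) :=
      zpowers_le.2 (pow_mem hn o)
    have := S.is_maximal' (hp.to_sup_of_normal_right' S.2 hN) le_sup_right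
    rw [← this]
    exact mem_sup_left (mem_zpowers _)
  obtain ⟨s, hs⟩ : n ^ o ∈ f.range := hr ▸ hnoS
  have hfix : φ^[o] u = u := hf (by
    rw [hiter, ← hs, ← map_mul, hu s, map_mul]; group)
  exact (hitswap o u hAu).2.1 (Nat.not_even_iff_odd.1 fun h => ho h.two_dvd) hfix

theorem core [Fact (Nat.Prime 2)] (hf : Function.Injective f)
    (hr : f.range = (S : Subgroup G)) (hno : ¬ ∃ H : Subgroup G, H.index = 2)
    (hB : IsConj (f eB) (f eA)) : False := by
  have hcentral : ∀ u : Model, (u = eA ∨ u = eZ ∨ u = eA * eZ) →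
      (∀ x, x * u = u * x) ∧ u * u = 1 := by
    intro u hu
    rcases hu with rfl | rfl | rfl <;> exact ⟨by decide +kernel, by decide⟩
  have hd : ∀ u v : Model, (u = eA ∨ u = eZ ∨ u = eA * eZ) → (v = eA ∨ v = eZ ∨ v = eA * eZ) →
      IsConj (f u) (f v) → u = v := fun u v hu hv h =>
    central_fusion S f hf hr (hcentral u hu).1 (hcentral v hv).1 (hcentral u hu).2
      (hcentral v hv).2 h
  have hconjS : ∀ x y : Model, IsConj (f (y * x * y⁻¹)) (f x) := fun x y =>
    isConj_iff.2 ⟨f y⁻¹, by simp [mul_assoc]⟩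
  -- the involutions in the kernels not containing `eA`
  have hk : ∀ j k : ZMod 2, ∀ v : Model, chi 1 j k v = 0 → v * v = 1 →
      v = 1 ∨ v = eZ ∨ (j = 0 ∧ (v = eB ∨ v = eR * eB * eR⁻¹)) ∨
      (j = 1 ∧ (v = eA * eB ∨ v = eA * (eR * eB * eR⁻¹))) ∨
      (j + k = 0 ∧ (v = eC ∨ v = eR * eC * eR⁻¹)) ∨
      (j + k = 1 ∧ (v = eA * eC ∨ v = eA * (eR * eC * eR⁻¹))) := by decide +kernel
  have hne1 : ∀ u : Model, u ≠ 1 → ¬ IsConj (f u) (f 1) := fun u hu h => by
    rw [map_one] at h
    obtain ⟨c, hc⟩ := isConj_iff.1 h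
    exact hu (hf (by rw [map_one]; exact conj_eq_one_iff.1 hc))
  have hAB : ∀ x : Model, eA * (eR * x * eR⁻¹) = eR * (eA * x) * eR⁻¹ := by decide +kernel
  -- each of `eA`, `eA * eZ` meets the classes of `eB` or `eA eB`, and of `eC` or `eA eC`
  have hhit : ∀ u : Model, (u = eA ∨ u = eA * eZ) → ∀ j k : ZMod 2,
      (j = 0 ∧ IsConj (f u) (f eB)) ∨ (j = 1 ∧ IsConj (f u) (f (eA * eB))) ∨
      (j + k = 0 ∧ IsConj (f u) (f eC)) ∨ (j + k = 1 ∧ IsConj (f u) (f (eA * eC))) := by
    intro u hu j k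
    have hu' : u = eA ∨ u = eZ ∨ u = eA * eZ := by tauto
    obtain ⟨v, hv, hv2, hc⟩ := exists_conj_mem S f hf hr hno 1 j k (by simp) u (hcentral u hu').2
    rcases hk j k v hv hv2 with rfl | rfl | ⟨h, rfl | rfl⟩ | ⟨h, rfl | rfl⟩ | ⟨h, rfl | rfl⟩ |
      ⟨h, rfl | rfl⟩
    · exact absurd hc (hne1 u (by rcases hu with rfl | rfl <;> decide))
    · exact absurd (hd u eZ hu' (Or.inr (Or.inl rfl)) hc) (by rcases hu with rfl | rfl <;> decide)
    · exact Or.inl ⟨h, hc⟩
    · exact Or.inl ⟨h, hc.trans (hconjS _ _)⟩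
    · exact Or.inr (Or.inl ⟨h, hc⟩)
    · rw [hAB] at hc; exact Or.inr (Or.inl ⟨h, hc.trans (hconjS _ _)⟩)
    · exact Or.inr (Or.inr (Or.inl ⟨h, hc⟩))
    · exact Or.inr (Or.inr (Or.inl ⟨h, hc.trans (hconjS _ _)⟩))
    · exact Or.inr (Or.inr (Or.inr ⟨h, hc⟩))
    · rw [hAB] at hc; exact Or.inr (Or.inr (Or.inr ⟨h, hc.trans (hconjS _ _)⟩))
  have hne : eA ≠ eA * eZ := by decide
  have hsep : ∀ v : Model, IsConj (f eA) (f v) → IsConj (f (eA * eZ)) (f v) → False := fun v h h' =>
    hne (hd _ _ (Or.inl rfl) (Or.inr (Or.inr rfl)) (h.trans h'.symm))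
  have hAZC : IsConj (f (eA * eZ)) (f eC) := by
    rcases hhit (eA * eZ) (Or.inr rfl) 0 0 with ⟨-, h⟩ | ⟨h, -⟩ | ⟨-, h⟩ | ⟨h, -⟩
    · exact (hsep eB hB.symm h).elim
    · exact absurd h (by decide)
    · exact h
    · exact absurd h (by decide)
  have hAZAC : IsConj (f (eA * eZ)) (f (eA * eC)) := by
    rcases hhit (eA * eZ) (Or.inr rfl) 0 1 with ⟨-, h⟩ | ⟨h, -⟩ | ⟨h, -⟩ | ⟨-, h⟩
    · exact (hsep eB hB.symm h).elim
    · exact absurd h (by decide)
    · exact absurd h (by decide)
    · exact h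
  have hAAB : IsConj (f eA) (f (eA * eB)) := by
    rcases hhit eA (Or.inl rfl) 1 1 with ⟨h, -⟩ | ⟨-, h⟩ | ⟨-, h⟩ | ⟨h, -⟩
    · exact absurd h (by decide)
    · exact h
    · exact (hsep eC h hAZC).elim
    · exact absurd h (by decide)
  -- the classes of all involutions of the model
  let F : Model → Prop := fun v => v = eA ∨ v = eB ∨ v = eR * eB * eR⁻¹ ∨ v = eA * eB ∨
    v = eR * (eA * eB) * eR⁻¹
  have hF : ∀ v : Model, v * v = 1 → IsConj (f eA) (f v) → F v := by
    intro v hv hc
    have hall : ∀ v : Model, v * v = 1 → v = 1 ∨ v = eZ ∨ F v ∨ v = eA * eZ ∨ v = eC ∨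
        v = eR * eC * eR⁻¹ ∨ v = eA * eC ∨ v = eR * (eA * eC) * eR⁻¹ := by decide +kernel
    rcases hall v hv with rfl | rfl | h | rfl | rfl | rfl | rfl | rfl
    · exact absurd hc (hne1 _ (by decide))
    · exact absurd (hd _ _ (Or.inl rfl) (Or.inr (Or.inl rfl)) hc) (by decide)
    · exact h
    · exact absurd (hd _ _ (Or.inl rfl) (Or.inr (Or.inr rfl)) hc) hne
    · exact (hsep _ hc hAZC).elim
    · exact (hsep _ (hc.trans (hconjS _ _)) hAZC).elim
    · exact (hsep _ hc hAZAC).elim
    · exact (hsep _ (hc.trans (hconjS _ _)) hAZAC).elim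
  -- move `eB` to `eA` keeping `⟨eA, eZ, eB⟩` inside `S`
  obtain ⟨g, hg⟩ := isConj_iff.1 hB
  let E : Subgroup Model := closure {eA, eZ, eB}
  have hSC : (S : Subgroup G) ≤ centralizer ({f eA} : Set G) := fun s hs => by
    rw [← hr] at hs
    obtain ⟨x, rfl⟩ := hs
    exact mem_centralizer_singleton_iff.2 (by
      rw [← map_mul, ← map_mul, (hcentral eA (Or.inl rfl)).1 x])
  have hEle : (E.map f).map (MulAut.conj g).toMonoidHom ≤ centralizer ({f eA} : Set G) := by
    rintro _ ⟨_, ⟨x, hx, rfl⟩, rfl⟩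
    have hx' : x ∈ centralizer ({eB} : Set Model) := by
      refine (closure_le _).2 ?_ hx
      rintro y (rfl | rfl | rfl) <;> exact mem_centralizer_singleton_iff.2 (by decide)
    apply mem_centralizer_singleton_iff.2
    rw [← hg]
    show g * f x * g⁻¹ * (g * f eB * g⁻¹) = g * f eB * g⁻¹ * (g * f x * g⁻¹)
    calc g * f x * g⁻¹ * (g * f eB * g⁻¹) = g * f (x * eB) * g⁻¹ := by rw [map_mul]; group
      _ = g * f (eB * x) * g⁻¹ := by rw [mem_centralizer_singleton_iff.1 hx']
      _ = g * f eB * g⁻¹ * (g * f x * g⁻¹) := by rw [map_mul]; group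
  have hEp : IsPGroup 2 ↥((E.map f).map (MulAut.conj g).toMonoidHom) :=
    (S.2.to_le (hr ▸ map_le_range f E)).map _
  obtain ⟨U, hU⟩ := (hEp.of_equiv (subgroupOfEquivOfLe hEle).symm).exists_le_sylow
  obtain ⟨h, hh⟩ := MulAction.exists_smul_eq ↥(centralizer ({f eA} : Set G)) U (S.subtype hSC)
  have hmove : ∀ x ∈ E, ∃ y, f y = ((h : G) * g) * f x * ((h : G) * g)⁻¹ := by
    intro x hx
    have h1 : g * f x * g⁻¹ ∈ centralizer ({f eA} : Set G) :=
      hEle ⟨f x, ⟨x, hx, rfl⟩, rfl⟩
    have h2 : h * ⟨_, h1⟩ * h⁻¹ ∈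
        ((S.subtype hSC : Sylow 2 ↥(centralizer ({f eA} : Set G))) : Subgroup _) := by
      rw [← hh, Sylow.coe_subgroup_smul]
      exact smul_mem_pointwise_smul _ _ _ (hU ⟨f x, ⟨x, hx, rfl⟩, rfl⟩)
    have h3 : (h : G) * (g * f x * g⁻¹) * (h : G)⁻¹ ∈ (S : Subgroup G) := h2
    rw [← hr] at h3
    obtain ⟨y, hy⟩ := h3
    exact ⟨y, hy.trans (by group)⟩
  have hmA : eA ∈ E := subset_closure (Or.inl rfl)
  have hmZ : eZ ∈ E := subset_closure (Or.inr (Or.inl rfl))
  have hmB : eB ∈ E := subset_closure (Or.inr (Or.inr rfl))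
  obtain ⟨yA, hyA⟩ := hmove _ hmA
  obtain ⟨yZ, hyZ⟩ := hmove _ hmZ
  obtain ⟨yB, hyB⟩ := hmove _ hmB
  obtain ⟨yB', hyB'⟩ := hmove _ (mul_mem hmA (mul_mem hmB hmZ))
  have hyBA : yB = eA := hf (by
    rw [hyB]
    have h1 := mem_centralizer_singleton_iff.1 h.2
    calc (h : G) * g * f eB * ((h : G) * g)⁻¹ = (h : G) * (g * f eB * g⁻¹) * (h : G)⁻¹ := by group
      _ = (h : G) * f eA * (h : G)⁻¹ := by rw [hg]
      _ = f eA := by rw [h1]; group)
  have hmul : ∀ {x x' y y' w : Model}, f y = ((h : G) * g) * f x * ((h : G) * g)⁻¹ →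
      f y' = ((h : G) * g) * f x' * ((h : G) * g)⁻¹ →
      f w = ((h : G) * g) * f (x * x') * ((h : G) * g)⁻¹ → y * y' = w := by
    intro x x' y y' w h1 h2 h3
    apply hf
    rw [map_mul, h1, h2, h3, map_mul]
    group
  have hconj : ∀ {x y : Model}, f y = ((h : G) * g) * f x * ((h : G) * g)⁻¹ → x * x = 1 →
      y * y = 1 ∧ IsConj (f x) (f y) := by
    intro x y h1 hx
    refine ⟨hf ?_, isConj_iff.2 ⟨_, h1.symm⟩⟩
    rw [map_mul, h1, show (h : G) * g * f x * ((h : G) * g)⁻¹ * ((h : G) * g * f x * ((h : G) * g)⁻¹) =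
      (h : G) * g * (f x * f x) * ((h : G) * g)⁻¹ by group, ← map_mul, hx, map_one, mul_one,
      mul_inv_cancel]
  obtain ⟨hA2, hAc⟩ := hconj hyA (by decide)
  obtain ⟨hB'2, hB'c⟩ := hconj hyB' (by decide)
  obtain ⟨hZ2, hZc⟩ := hconj hyZ (by decide)
  have hFA : F yA := hF _ hA2 hAc
  have hFB' : F yB' := hF _ hB'2 (IsConj.trans (by
    rw [show eA * (eB * eZ) = eR * (eA * eB) * eR⁻¹ by decide]
    exact hAAB.trans (hconjS _ _).symm) hB'c)
  -- image of `eA * eZ = eB * (eA * (eB * eZ))`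
  obtain ⟨yAZ, hyAZ⟩ := hmove _ (mul_mem hmA hmZ)
  obtain ⟨hAZ2, hAZc⟩ := hconj hyAZ (by decide)
  have h5 : yB * yB' = yAZ := hmul hyB hyB'
    (by rw [show eB * (eA * (eB * eZ)) = eA * eZ by decide]; exact hyAZ)
  have h6 : yA * yAZ = yZ := hmul hyA hyAZ
    (by rw [show eA * (eA * eZ) = eZ by decide]; exact hyZ)
  -- in `⟨eA, eZ, eB⟩` only `eA * eZ` is conjugate to it
  have hsp : ∀ v, F v → eA * v = 1 ∨ eA * v = eZ ∨ F (eA * v) ∨ eA * v = eA * eZ := by decide +kernel
  have hAZ : yAZ = eA * eZ := by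
    rw [← h5, hyBA] at hAZc ⊢
    rcases hsp yB' hFB' with h | h | h | h
    · exact absurd (h ▸ hAZc) (hne1 _ (by decide))
    · exact absurd (hd _ _ (Or.inr (Or.inr rfl)) (Or.inr (Or.inl rfl)) (h ▸ hAZc)) (by decide)
    · exfalso
      have hFc : ∀ v, F v → IsConj (f eA) (f v) := by
        rintro v (rfl | rfl | rfl | rfl | rfl)
        · exact IsConj.refl _
        · exact hB.symm
        · exact hB.symm.trans (hconjS _ _).symm
        · exact hAAB
        · exact hAAB.trans (hconjS _ _).symm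
      exact hsep _ (hFc _ h) hAZc
    · exact h
  -- so `eA` is fixed
  have hZeq : yZ = eZ := by
    have hzs : ∀ v, F v → v * (eA * eZ) = eZ ∨ v * (eA * eZ) = eB ∨
        v * (eA * eZ) = eR * eB * eR⁻¹ ∨ v * (eA * eZ) = eA * eB ∨
        v * (eA * eZ) = eR * (eA * eB) * eR⁻¹ := by decide +kernel
    rw [← h6, hAZ]
    have hfin : IsConj (f eA) (f (yA * (eA * eZ))) → False := fun h7 =>
      absurd (hd _ _ (Or.inl rfl) (Or.inr (Or.inl rfl))
        (h7.trans (by rw [← hAZ, h6]; exact hZc.symm))) (by decide)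
    rcases hzs yA hFA with h | h | h | h | h
    · exact h
    · exact (hfin (by rw [h]; exact hB.symm)).elim
    · exact (hfin (by rw [h]; exact hB.symm.trans (hconjS eB eR).symm)).elim
    · exact (hfin (by rw [h]; exact hAAB)).elim
    · exact (hfin (by rw [h]; exact hAAB.trans (hconjS (eA * eB) eR).symm)).elim
  have hyAA : yA = eA := by
    rw [hAZ, hZeq] at h6
    exact mul_right_cancel (h6.trans (show eZ = eA * (eA * eZ) by decide))
  have : f eA = f eB := by
    have h1 : f eA = (h : G) * g * f eA * ((h : G) * g)⁻¹ := (congrArg f hyAA).symm.trans hyA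
    have h2 : f eA = (h : G) * g * f eB * ((h : G) * g)⁻¹ := (congrArg f hyBA).symm.trans hyB
    exact mul_left_cancel (mul_right_cancel (h1.symm.trans h2))
  exact absurd (hf this) (by decide)


/-- A finite group whose Sylow 2-subgroups are isomorphic to the direct product of a group of order 2 and a dihedral group of order 8 has a subgroup of index two. -/
theorem result {G : Type*} [Group G] [Finite G] (S : Sylow 2 G) (hS : Nonempty (↥(S : Subgroup G) ≃* Multiplicative (ZMod 2) × DihedralGroup 4)) : ∃ H : Subgroup G, H.index = 2 := by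
  have : Fact (Nat.Prime 2) := ⟨Nat.prime_two⟩
  obtain ⟨e⟩ := hS
  let f : Model →* G := (S : Subgroup G).subtype.comp e.symm.toMonoidHom
  have hf : Function.Injective f := fun a b hab =>
    e.symm.injective ((S : Subgroup G).subtype_injective hab)
  have hr : f.range = (S : Subgroup G) := by
    ext x
    exact ⟨by rintro ⟨y, rfl⟩; exact (e.symm y).2, fun hx => ⟨e ⟨x, hx⟩, by simp [f]⟩⟩
  by_contra hno
  -- `eB` is conjugate to a central involution
  obtain ⟨v, hv, hv2, hc⟩ := exists_conj_mem S f hf hr hno 0 1 0 (by simp) eB (by decide)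
  have hk : ∀ v : Model, chi 0 1 0 v = 0 → v * v = 1 →
      v = 1 ∨ v = eZ ∨ v = eA ∨ v = eA * eZ := by decide +kernel
  rcases hk v hv hv2 with rfl | rfl | rfl | rfl
  · rw [map_one] at hc
    obtain ⟨c, hc'⟩ := isConj_iff.1 hc
    exact absurd (hf (show f eB = f 1 by rw [map_one]; exact conj_eq_one_iff.1 hc'))
      (by decide)
  · -- then `eA` and `eA * eZ` would both be conjugate to `eC`
    have hd := fun u v hu hv hu2 hv2 h => central_fusion S f hf hr (u := u) (v := v) hu hv hu2 hv2 h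
    have hcj : ∀ x y : Model, IsConj (f (y * x * y⁻¹)) (f x) := fun x y =>
      isConj_iff.2 ⟨f y⁻¹, by simp [mul_assoc]⟩
    have hhit : ∀ u : Model, (u = eA ∨ u = eA * eZ) → IsConj (f u) (f eC) := by
      intro u hu
      have hu1 : ∀ x, x * u = u * x := by rcases hu with rfl | rfl <;> decide +kernel
      have hu2 : u * u = 1 := by rcases hu with rfl | rfl <;> decide +kernel
      obtain ⟨w, hw, hw2, hwc⟩ := exists_conj_mem S f hf hr hno 1 0 0 (by simp) u hu2
      have hk' : ∀ w : Model, chi 1 0 0 w = 0 → w * w = 1 → w = 1 ∨ w = eZ ∨ w = eB ∨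
          w = eR * eB * eR⁻¹ ∨ w = eC ∨ w = eR * eC * eR⁻¹ := by decide +kernel
      have hne : u ≠ eZ := by rcases hu with rfl | rfl <;> decide
      rcases hk' w hw hw2 with rfl | rfl | rfl | rfl | rfl | rfl
      · rw [map_one] at hwc
        obtain ⟨c, hc'⟩ := isConj_iff.1 hwc
        refine absurd (hf (show f u = f 1 by rw [map_one]; exact conj_eq_one_iff.1 hc')) ?_
        rcases hu with rfl | rfl <;> decide
      · exact absurd (hd u eZ hu1 (by decide +kernel) hu2 (by decide) hwc) hne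
      · exact absurd (hd u eZ hu1 (by decide +kernel) hu2 (by decide) (hwc.trans hc)) hne
      · exact absurd (hd u eZ hu1 (by decide +kernel) hu2 (by decide)
          ((hwc.trans (hcj _ _)).trans hc)) hne
      · exact hwc
      · exact hwc.trans (hcj _ _)
    exact absurd (hd eA (eA * eZ) (by decide +kernel) (by decide +kernel) (by decide) (by decide)
      ((hhit eA (Or.inl rfl)).trans (hhit (eA * eZ) (Or.inr rfl)).symm)) (by decide)
  · exact core S f hf hr hno hc
  · refine core S (f.comp theta) (hf.comp theta_injective) ?_ hno ?_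
    · rw [MonoidHom.range_comp, MonoidHom.range_eq_top.2
        (Finite.injective_iff_surjective.1 theta_injective), ← MonoidHom.range_eq_map, hr]
    · have h1 : theta eB = eB ∧ theta eA = eA * eZ := by decide
      show IsConj (f (theta eB)) (f (theta eA))
      rw [h1.1, h1.2]
      exact hc

end Cfsg.Agent.S2911
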