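import Cfsg.Statements.S2912
import Cfsg.Agent.Lib.PGroup.Extraspecial
import Mathlib
-- import your own Cfsg.Agent.* helpers here

set_option autoImplicit false
open Cfsg

namespace Cfsg.Agent.S2912

open Subgroup Finset
open scoped commutatorElement

theorem bound {E : Type*} [Group E] [Finite E] {p r w : ℕ} [hp : Fact p.Prime]
    [hr : Fact r.Prime] (hE : Cfsg.IsExtraspecial p E) (hEcard : Nat.card E = p ^ (2 * w + 1))
    {W : Type*} [AddCommGroup W] [Finite W] [Nontrivial W] (hrW : ∀ x : W, r • x = 0)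
    (ρ : E →* AddMonoid.End W) {z : E} (hz : z ∈ center E) (hρz : ρ z ≠ 1)
    (hirr : ∀ U : AddSubgroup W, (∀ e, ∀ u ∈ U, ρ e u ∈ U) → U = ⊥ ∨ U = ⊤) :
    ∃ m d : ℕ, 1 ≤ m ∧ p ∣ r ^ m - 1 ∧ p ^ w ≤ d ∧ Nat.card W = r ^ (m * d) := by
  classical
  set ζ := ρ z with hζ
  set K := Subring.closure ({ζ} : Set (AddMonoid.End W)) with hK
  have hζK : ζ ∈ K := Subring.subset_closure rfl
  have hcent : ∀ k ∈ K, ∀ e, ρ e * k = k * ρ e := by
    have h : K ≤ Subring.centralizer (Set.range ρ) := by
      rw [hK, Subring.closure_le]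
      rintro _ rfl
      rw [SetLike.mem_coe, Subring.mem_centralizer_iff]
      rintro _ ⟨e, rfl⟩
      rw [hζ, ← map_mul, ← map_mul, mem_center_iff.1 hz e]
    intro k hk e
    exact Subring.mem_centralizer_iff.1 (h hk) _ ⟨e, rfl⟩
  have hcomm : ∀ a ∈ K, ∀ b ∈ K, a * b = b * a := by
    intro a ha b hb
    have h : K ≤ Subring.centralizer {a} := by
      rw [hK, Subring.closure_le]
      rintro _ rfl
      rw [SetLike.mem_coe, Subring.mem_centralizer_iff]
      rintro _ rfl
      exact (hcent _ ha z).symm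
    exact Subring.mem_centralizer_iff.1 (h hb) a rfl
  letI : CommRing ↥K :=
    { (inferInstance : Ring ↥K) with mul_comm := fun a b => Subtype.ext (hcomm a a.2 b b.2) }
  haveI : Finite (AddMonoid.End W) :=
    Finite.of_injective (fun f : AddMonoid.End W => (f : W → W)) DFunLike.coe_injective
  haveI : Nontrivial ↥K := ⟨0, 1, fun h => by
    obtain ⟨v, hv⟩ := exists_ne (0 : W)
    exact hv (DFunLike.congr_fun (congrArg Subtype.val h) v).symm⟩
  haveI : NoZeroDivisors ↥K := ⟨fun {a b} hab => by
    refine or_iff_not_imp_left.2 fun ha => ?_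
    rcases hirr (AddMonoidHom.ker (a : AddMonoid.End W)) (fun e u hu => by
      have h := DFunLike.congr_fun (hcent a a.2 e) u
      show (a : AddMonoid.End W) (ρ e u) = 0
      rw [show (a : AddMonoid.End W) (ρ e u) = ρ e ((a : AddMonoid.End W) u) from h.symm]
      rw [show (a : AddMonoid.End W) u = 0 from hu]
      exact map_zero _) with h | h
    · refine Subtype.ext (DFunLike.ext _ _ fun v => ?_)
      have h1 : (b : AddMonoid.End W) v ∈ AddMonoidHom.ker (a : AddMonoid.End W) :=
        DFunLike.congr_fun (congrArg Subtype.val hab) v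
      rw [h] at h1
      exact h1
    · refine absurd (Subtype.ext (DFunLike.ext _ _ fun v => ?_)) ha
      exact (h ▸ AddSubgroup.mem_top v : v ∈ AddMonoidHom.ker (a : AddMonoid.End W))⟩
  haveI : IsDomain ↥K := NoZeroDivisors.to_isDomain _
  letI : Field ↥K := (Finite.isField_of_domain ↥K).toField
  haveI : CharP ↥K r := (CharP.charP_iff_prime_eq_zero hr.out).2 (Subtype.ext (by
    rw [Subring.coe_natCast, Subring.coe_zero]
    refine DFunLike.ext _ _ fun v => ?_
    exact hrW v))
  letI : Fintype ↥K := Fintype.ofFinite _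
  obtain ⟨⟨m, hm0⟩, -, hm⟩ := FiniteField.card ↥K r
  have hm' : Nat.card ↥K = r ^ m := by rw [Nat.card_eq_fintype_card, hm]; rfl
  -- the centre of `E` lands in `K`, injectively
  have hz1 : z ≠ 1 := fun h => hρz (by rw [hζ, h, map_one])
  have hzp : orderOf z = p := orderOf_eq_prime (Cfsg.Agent.PGroup.special_center_pow hE.1 hz) hz1
  have hzgen : center E = zpowers z := (eq_of_le_of_card_ge (zpowers_le.2 hz)
    (by rw [hE.2, Nat.card_zpowers, hzp])).symm
  have hζp : ζ ^ p = 1 := by rw [hζ, ← map_pow, ← hzp, pow_orderOf_eq_one, map_one]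
  have hcK : ∀ c ∈ center E, ρ c ∈ K := by
    intro c hc
    rw [hzgen, ← mem_powers_iff_mem_zpowers] at hc
    obtain ⟨k, rfl⟩ := hc
    exact (map_pow ρ z k).symm ▸ pow_mem hζK k
  have hinj : ∀ c ∈ center E, ρ c = 1 → c = 1 := by
    intro c hc h
    rw [hzgen, ← mem_powers_iff_mem_zpowers] at hc
    obtain ⟨k, rfl⟩ := hc
    rw [show (fun i : ℕ => z ^ i) k = z ^ k from rfl, map_pow, ← hζ] at h
    have h1 : orderOf ζ = p := orderOf_eq_prime hζp hρz
    have h2 := orderOf_dvd_of_pow_eq_one h
    rw [h1, ← hzp] at h2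
    exact orderOf_dvd_iff_pow_eq_one.1 h2
  have hpm : p ∣ r ^ m - 1 := by
    set u : (↥K)ˣ := Units.ofPowEqOne (⟨ζ, hζK⟩ : ↥K) p (Subtype.ext hζp) hp.out.ne_zero
    have hu : orderOf u = p := orderOf_eq_prime
      (Units.ext (Subtype.ext hζp))
      (fun h => hρz (congrArg (fun x : (↥K)ˣ => ((x : ↥K) : AddMonoid.End W)) h))
    rw [← hm', ← Nat.card_units, ← hu]
    exact orderOf_dvd_natCard u
  -- coset representatives of the centre are independent
  let T : E → W →ₗ[↥K] W := fun e =>
    { toFun := fun v => ρ e v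
      map_add' := fun a b => map_add _ a b
      map_smul' := fun k v => DFunLike.congr_fun (hcent k k.2 e) v }
  have hcm : ∀ s t : E, ⁅s, t⁆ ∈ center E := Cfsg.Agent.PGroup.special_commutator_mem_center hE.1
  let χ : E → E → ↥K := fun s t => ⟨ρ ⁅s, t⁆, hcK _ (hcm s t)⟩
  have hmulρ : ∀ a b : E, ∀ v : W, ρ a (ρ b v) = ρ (a * b) v := fun a b v => by
    rw [map_mul]; rfl
  have hTχ : ∀ s t : E, ∀ v : W, T s (T t (T s⁻¹ v)) = χ s t • T t v := by
    intro s t v
    show ρ s (ρ t (ρ s⁻¹ v)) = ρ ⁅s, t⁆ (ρ t v)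
    rw [hmulρ, hmulρ, hmulρ, commutatorElement_def]
    simp [mul_assoc]
  have hind : ∀ S : Finset (E ⧸ center E), ∀ c : E ⧸ center E → ↥K,
      (∀ v : W, ∑ t ∈ S, c t • T t.out v = 0) → ∀ t ∈ S, c t = 0 := by
    intro S
    induction S using Finset.induction_on with
    | empty => simp
    | @insert a S ha ih =>
      intro c hc
      have key : ∀ t ∈ S, c t = 0 := by
        intro t ht
        by_contra hct
        have hta : t ≠ a := fun h => ha (h ▸ ht)
        refine hta ?_
        have hall : ∀ s : E, χ s t.out = χ s a.out := by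
          intro s
          have h0 := ih (fun u => c u * (χ s u.out - χ s a.out)) (fun v => by
            have h1 := congrArg (T s) (hc (T s⁻¹ v))
            rw [map_sum, map_zero] at h1
            simp only [map_smul, hTχ, smul_smul] at h1
            have h2 := congrArg (fun y => χ s a.out • y) (hc v)
            simp only [Finset.smul_sum, smul_zero, smul_smul] at h2
            rw [Finset.sum_insert ha] at h1 h2
            simp only [mul_sub, sub_smul, Finset.sum_sub_distrib]
            rw [mul_comm (χ s a.out) (c a)] at h2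
            have h3 : ∑ u ∈ S, (c u * χ s u.out) • T u.out v =
                ∑ u ∈ S, (χ s a.out * c u) • T u.out v := add_left_cancel (h1.trans h2.symm)
            rw [h3, sub_eq_zero]
            simp only [mul_comm (χ s a.out)]) t ht
          exact sub_eq_zero.1 ((mul_eq_zero.1 h0).resolve_left hct)
        rw [← QuotientGroup.out_eq' t, ← QuotientGroup.out_eq' a, QuotientGroup.eq]
        refine mem_center_iff.2 fun s => commutatorElement_eq_one_iff_mul_comm.1 ?_
        have h4 : ⁅s, t.out⁆ = ⁅s, a.out⁆ := by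
          refine mul_inv_eq_one.1 (hinj _ (mul_mem (hcm _ _) (inv_mem (hcm _ _))) ?_)
          rw [map_mul, show ρ ⁅s, t.out⁆ = ρ ⁅s, a.out⁆ from congrArg Subtype.val (hall s),
            ← map_mul, mul_inv_cancel, map_one]
        have h5 : s * t.out * s⁻¹ * t.out⁻¹ = s * a.out * s⁻¹ * a.out⁻¹ := h4
        rw [commutatorElement_def]
        have h6 : s * t.out * s⁻¹ = s * a.out * s⁻¹ * a.out⁻¹ * t.out := by
          rw [← h5, inv_mul_cancel_right]
        calc s * (t.out⁻¹ * a.out) * s⁻¹ * (t.out⁻¹ * a.out)⁻¹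
            = (s * t.out * s⁻¹)⁻¹ * (s * a.out * s⁻¹) * a.out⁻¹ * t.out := by group
          _ = (s * t.out * s⁻¹)⁻¹ * (s * a.out * s⁻¹ * a.out⁻¹ * t.out) := by group
          _ = 1 := by rw [← h6, inv_mul_cancel]
      intro t ht
      rcases Finset.mem_insert.1 ht with rfl | ht
      · refine Subtype.ext (DFunLike.ext _ _ fun v => ?_)
        have h := hc (T t.out⁻¹ v)
        rw [Finset.sum_insert ha, Finset.sum_eq_zero (fun u hu => by rw [key u hu, zero_smul]),
          add_zero] at h
        have h' : (c t : AddMonoid.End W) (ρ t.out (ρ t.out⁻¹ v)) = 0 := h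
        rwa [hmulρ, mul_inv_cancel, map_one] at h'
      · exact key t ht
  letI : Fintype (E ⧸ center E) := Fintype.ofFinite _
  have hli : LinearIndependent ↥K (fun t : E ⧸ center E => T t.out) := by
    refine Fintype.linearIndependent_iff.2 fun c hc t => hind Finset.univ c (fun v => ?_) t (by simp)
    have := DFunLike.congr_fun hc v
    simpa using this
  have hd := hli.fintype_card_le_finrank
  rw [Module.finrank_linearMap, ← Nat.card_eq_fintype_card] at hd
  have hq : Nat.card (E ⧸ center E) = p ^ w * p ^ w := by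
    have h := card_eq_card_quotient_mul_card_subgroup (center E)
    rw [hE.2, hEcard, pow_succ] at h
    rw [← pow_add, ← two_mul]
    exact (Nat.eq_of_mul_eq_mul_right hp.out.pos h).symm
  refine ⟨m, Module.finrank ↥K W, hm0, hpm, Nat.mul_self_le_mul_self_iff.1 (hq ▸ hd), ?_⟩
  rw [Module.natCard_eq_pow_finrank (K := ↥K), hm', pow_mul]


/-- Let p and r be distinct primes, let E be an extraspecial subgroup of order p^(2w+1) of a finite group, and let A be an elementary abelian r-subgroup normalized by E on which E acts faithfully (C_E(A) = 1). If n ≥ 1 is least with p dividing rⁿ − 1 (the smallest dimension of a faithful representation of a group of order p over the field with r elements), then the order of A is at least r^(n·p^w). -/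
theorem result {G : Type*} [Group G] [Finite G] {p r : ℕ} [Fact p.Prime] [hr : Fact r.Prime] (hpr : p ≠ r) (E A : Subgroup G) (w : ℕ) (hE : Cfsg.IsExtraspecial p ↥E) (hEcard : Nat.card ↥E = p ^ (2 * w + 1)) (hA : Cfsg.IsElementaryAbelian r A) (hnorm : E ≤ Subgroup.normalizer (A : Set G)) (hfaith : E ⊓ Subgroup.centralizer (A : Set G) = ⊥) (n : ℕ) (hn : 1 ≤ n) (hdiv : p ∣ r ^ n - 1) (hmin : ∀ k : ℕ, 1 ≤ k → p ∣ r ^ k - 1 → n ≤ k) : r ^ (n * p ^ w) ≤ Nat.card ↥A := by
  classical
  have hn' := hmin
  have hzc : ∃ z : ↥E, z ∈ Subgroup.center ↥E ∧ z ≠ 1 := by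
    have h : Nat.card ↥(Subgroup.center ↥E) ≠ 1 := by
      rw [hE.2]; exact (Fact.out : p.Prime).ne_one
    rw [Ne, Subgroup.card_eq_one] at h
    obtain ⟨⟨z, hz⟩, hz1⟩ := (Subgroup.ne_bot_iff_exists_ne_one).1 h
    exact ⟨z, hz, fun h => hz1 (Subtype.ext h)⟩
  obtain ⟨z, hz, hz1⟩ := hzc
  haveI := hA.1
  letI : CommGroup ↥A := { (inferInstance : Group ↥A) with mul_comm := fun a b => mul_comm' a b }
  -- the action on `A`, written additively
  let ρ : ↥E →* AddMonoid.End (Additive ↥A) :=
    { toFun := fun e =>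
        { toFun := fun a => Additive.ofMul ⟨e * ((Additive.toMul a : ↥A) : G) * (e : G)⁻¹,
            (mem_normalizer_iff.1 (hnorm e.2) _).1 (Additive.toMul a).2⟩
          map_zero' := congrArg Additive.ofMul
            (Subtype.ext (show (e : G) * 1 * (e : G)⁻¹ = 1 by simp))
          map_add' := fun a b => congrArg Additive.ofMul (Subtype.ext
            (show (e : G) * (((Additive.toMul a : ↥A) : G) * ((Additive.toMul b : ↥A) : G)) *
              (e : G)⁻¹ = (e : G) * ((Additive.toMul a : ↥A) : G) * (e : G)⁻¹ *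
                ((e : G) * ((Additive.toMul b : ↥A) : G) * (e : G)⁻¹) by simp [mul_assoc])) }
      map_one' := AddMonoidHom.ext fun a => congrArg Additive.ofMul (Subtype.ext
        (show ((1 : ↥E) : G) * ((Additive.toMul a : ↥A) : G) * ((1 : ↥E) : G)⁻¹ =
          ((Additive.toMul a : ↥A) : G) by simp))
      map_mul' := fun e e' => AddMonoidHom.ext fun a => congrArg Additive.ofMul (Subtype.ext
        (show ((e * e' : ↥E) : G) * ((Additive.toMul a : ↥A) : G) * ((e * e' : ↥E) : G)⁻¹ =
          (e : G) * ((e' : G) * ((Additive.toMul a : ↥A) : G) * (e' : G)⁻¹) * (e : G)⁻¹ by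
          simp [mul_assoc])) }
  have hr0 : ∀ x : Additive ↥A, r • x = 0 := fun x => by
    apply Additive.toMul.injective
    rw [toMul_nsmul, toMul_zero]
    exact Subtype.ext (by simpa using hA.2 _ (Additive.toMul x).2)
  set ζ := ρ z with hζ
  have hζp : ζ ^ p = 1 := by
    rw [hζ, ← map_pow, Cfsg.Agent.PGroup.special_center_pow hE.1 hz, map_one]
  set π : AddMonoid.End (Additive ↥A) := ∑ i ∈ Finset.range p, ζ ^ i with hπ
  have hπζ : π * (ζ - 1) = 0 := by rw [hπ, geom_sum_mul, hζp, sub_self]
  have hfix : ∀ u, π u = 0 → ζ u = u → u = 0 := by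
    intro u h1 h2
    have h3 : ∀ i : ℕ, (ζ ^ i : AddMonoid.End (Additive ↥A)) u = u := by
      intro i
      induction i with
      | zero => rfl
      | succ i ih => rw [pow_succ', show (ζ * ζ ^ i) u = ζ ((ζ ^ i) u) from rfl, ih, h2]
    have h4 : π u = p • u := by
      rw [hπ, show (∑ i ∈ Finset.range p, ζ ^ i) u = ∑ i ∈ Finset.range p, (ζ ^ i) u from
        map_sum (AddMonoidHom.eval u) _ _]
      simp [h3]
    rw [h1] at h4
    have hcop : Nat.gcd p r = 1 :=
      (Nat.coprime_primes (Fact.out : p.Prime) hr.out).2 hpr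
    have h5 : (p : ℤ) • u = 0 := by rw [natCast_zsmul]; exact h4.symm
    have h6 : (r : ℤ) • u = 0 := by rw [natCast_zsmul]; exact hr0 u
    have hb : ((1 : ℕ) : ℤ) • u = 0 := by
      rw [← hcop, Nat.gcd_eq_gcd_ab, add_smul, mul_comm, mul_smul, h5, mul_comm (r : ℤ), mul_smul,
        h6, smul_zero, smul_zero, add_zero]
    simpa using hb
  -- an irreducible piece on which `z` is fixed-point-free
  let inv : Set (AddSubgroup (Additive ↥A)) :=
    {U | U ≠ ⊥ ∧ U ≤ AddMonoidHom.ker π ∧ ∀ e, ∀ u ∈ U, ρ e u ∈ U}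
  have hker : AddMonoidHom.ker π ∈ inv := by
    refine ⟨fun hb => ?_, le_rfl, fun e u hu => ?_⟩
    · have hζ1 : ζ - 1 = 0 := DFunLike.ext _ _ fun v => by
        have h : (ζ - 1) v ∈ AddMonoidHom.ker π := DFunLike.congr_fun hπζ v
        rw [hb] at h
        exact h
      refine hz1 (Subtype.ext ?_)
      have h : (z : G) ∈ E ⊓ Subgroup.centralizer (A : Set G) := by
        refine ⟨z.2, Subgroup.mem_centralizer_iff.2 fun a ha => ?_⟩
        have h1 := congrArg (fun y => ((Additive.toMul y : ↥A) : G))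
          (DFunLike.congr_fun (sub_eq_zero.1 hζ1) (Additive.ofMul ⟨a, ha⟩))
        have h2 : (z : G) * a * (z : G)⁻¹ = a := h1
        exact (mul_inv_eq_iff_eq_mul.1 h2).symm
      rw [hfaith] at h
      simpa using h
    · have hc : π * ρ e = ρ e * π := by
        rw [hπ, Finset.sum_mul, Finset.mul_sum]
        refine Finset.sum_congr rfl fun i _ => ?_
        rw [hζ, ← map_pow, ← map_mul, ← map_mul,
          Subgroup.mem_center_iff.1 (pow_mem hz i) e]
      show π (ρ e u) = 0
      rw [show π (ρ e u) = ρ e (π u) from DFunLike.congr_fun hc u, show π u = 0 from hu, map_zero]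
  obtain ⟨U, hU, hmin⟩ := (Set.toFinite inv).exists_minimal ⟨_, hker⟩
  obtain ⟨hUne, hUker, hUinv⟩ := hU
  let ρU : ↥E →* AddMonoid.End ↥U :=
    { toFun := fun e => (((ρ e : Additive ↥A →+ Additive ↥A).comp U.subtype).codRestrict U
        (fun u => hUinv e u u.2) : ↥U →+ ↥U)
      map_one' := by
        refine AddMonoidHom.ext fun u => Subtype.ext ?_
        exact DFunLike.congr_fun (map_one ρ) (u : Additive ↥A)
      map_mul' := fun a b => by
        refine AddMonoidHom.ext fun u => Subtype.ext ?_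
        exact DFunLike.congr_fun (map_mul ρ a b) (u : Additive ↥A) }
  haveI : Nontrivial ↥U := (AddSubgroup.nontrivial_iff_ne_bot U).2 hUne
  have hρz : ρU z ≠ 1 := by
    intro h
    refine hUne ((AddSubgroup.eq_bot_iff_forall _).2 fun u hu => ?_)
    have h1 : (ρU z : ↥U →+ ↥U) ⟨u, hu⟩ = ⟨u, hu⟩ :=
      DFunLike.congr_fun (F := ↥U →+ ↥U) h ⟨u, hu⟩
    exact hfix u (hUker hu) (congrArg Subtype.val h1)
  obtain ⟨m, d, hm, hpm, hd, hcard⟩ := bound (W := ↥U) hE hEcard
    (fun x => Subtype.ext (hr0 x)) ρU hz hρz (fun V hV => by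
      by_cases hVb : V = ⊥
      · exact Or.inl hVb
      · refine Or.inr ?_
        have hmem : V.map U.subtype ∈ inv := by
          refine ⟨fun h => hVb ((AddSubgroup.map_eq_bot_iff_of_injective _ U.subtype_injective).1 h),
            ?_, ?_⟩
          · rintro _ ⟨y, -, rfl⟩
            exact hUker y.2
          · rintro e _ ⟨y, hy, rfl⟩
            exact ⟨_, hV e y hy, rfl⟩
        have hle := hmin hmem (AddSubgroup.map_subtype_le V)
        refine (AddSubgroup.eq_top_iff' _).2 fun y => ?_
        obtain ⟨y', hy', he⟩ := hle y.2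
        exact (U.subtype_injective he) ▸ hy')
  calc r ^ (n * p ^ w) ≤ r ^ (m * d) :=
        Nat.pow_le_pow_right hr.out.pos (Nat.mul_le_mul (hn' m hm hpm) hd)
    _ = Nat.card ↥U := hcard.symm
    _ ≤ Nat.card (Additive ↥A) := Nat.card_le_card_of_injective _ U.subtype_injective
    _ = Nat.card ↥A := rfl

end Cfsg.Agent.S2912
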