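import Cfsg.Statements.S2924
import Cfsg.Agent.Lib.LocalChar.Basic
import Cfsg.Agent.Lib.PCore.Basic
import Cfsg.Agent.Lib.PGroup.ElementaryAbelian
-- import your own Cfsg.Agent.* helpers here

set_option autoImplicit false
open Cfsg

namespace Cfsg.Agent.S2924

open Subgroup

variable {X : Type*} [Group X]

/-- `O(C(y))` inside `X`. -/
def theta (y : X) : Subgroup X :=
  (Cfsg.oddCore ↥(centralizer ({y} : Set X))).map (centralizer ({y} : Set X)).subtype

theorem theta_le (y : X) : theta y ≤ centralizer ({y} : Set X) := map_subtype_le _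

theorem theta_odd [Finite X] (y : X) : Odd (Nat.card ↥(theta y)) := by
  rw [theta, card_map_of_injective (subtype_injective _)]
  exact PCore.odd_card_oddCore

theorem theta_conj {y : X} {g r : X} (hg : g ∈ centralizer ({y} : Set X)) (hr : r ∈ theta y) :
    g * r * g⁻¹ ∈ theta y := by
  obtain ⟨q, hq, rfl⟩ := hr
  exact ⟨⟨g, hg⟩ * q * ⟨g, hg⟩⁻¹, PCore.oddCore_normal.conj_mem q hq _, rfl⟩

theorem le_theta {y : X} {R : Subgroup X} (h1 : R ≤ centralizer ({y} : Set X))
    (h2 : ∀ g ∈ centralizer ({y} : Set X), ∀ r ∈ R, g * r * g⁻¹ ∈ R)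
    (h3 : Odd (Nat.card ↥R)) : R ≤ theta y := by
  intro r hr
  have hn : (R.subgroupOf (centralizer ({y} : Set X))).Normal :=
    ⟨fun a ha g => h2 g g.2 a ha⟩
  have hc : Odd (Nat.card ↥(R.subgroupOf (centralizer ({y} : Set X)))) := by
    rwa [Nat.card_congr (subgroupOfEquivOfLe h1).toEquiv]
  exact ⟨⟨r, h1 hr⟩, PCore.le_oddCore hc hr, rfl⟩

theorem odd_orderOf {R : Subgroup X} (h : Odd (Nat.card ↥R)) {r : X} (hr : r ∈ R) :
    Odd (orderOf r) :=
  h.of_dvd_nat (orderOf_dvd_natCard R hr)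

theorem eq_one_of_two_group [Finite X] {R T : Subgroup X} (hR : Odd (Nat.card ↥R))
    (hT : IsPGroup 2 ↥T) {r : X} (hr : r ∈ R) (hrT : r ∈ T) : r = 1 :=
  LocalChar.eq_one_of_isPGroup hT Nat.prime_two hrT
    (fun h => (Nat.not_even_iff_odd.2 (odd_orderOf hR hr)) (even_iff_two_dvd.2 h))

theorem mem_of_sq {R : Subgroup X} {r : X} (ho : Odd (orderOf r)) (h : r ^ 2 ∈ R) : r ∈ R := by
  obtain ⟨m, hm⟩ := exists_pow_eq_self_of_coprime (x := r) (n := 2) (Nat.coprime_two_left.2 ho)
  exact hm ▸ pow_mem h m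

theorem commute_of_sq {a r : X} (ho : Odd (orderOf r)) (h : Commute (r ^ 2) a) : Commute r a := by
  obtain ⟨m, hm⟩ := exists_pow_eq_self_of_coprime (x := r) (n := 2) (Nat.coprime_two_left.2 ho)
  exact hm ▸ h.pow_left m

/-- An abelian group of odd order acted on by a four-group is generated by the fixed points. -/
theorem four_group_generation {R : Subgroup X} {u v : X} (hu : u * u = 1) (hv : v * v = 1)
    (huv : Commute u v) (hodd : Odd (Nat.card ↥R)) (hab : ∀ a ∈ R, ∀ b ∈ R, Commute a b)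
    (huR : ∀ r ∈ R, u * r * u⁻¹ ∈ R) (hvR : ∀ r ∈ R, v * r * v⁻¹ ∈ R) :
    R ≤ (R ⊓ centralizer ({u} : Set X)) ⊔ (R ⊓ centralizer ({v} : Set X)) ⊔
      (R ⊓ centralizer ({u * v} : Set X)) := by
  intro r hr
  have hw : (u * v) * (u * v) = 1 := by
    rw [mul_assoc, ← mul_assoc v u v, ← huv.eq, mul_assoc u v v, hv, mul_one, hu]
  have hwR : ∀ r ∈ R, (u * v) * r * (u * v)⁻¹ ∈ R := fun r hr => by
    simpa [mul_assoc] using huR _ (hvR r hr)
  have fix : ∀ w : X, w * w = 1 → (∀ r ∈ R, w * r * w⁻¹ ∈ R) → ∀ r ∈ R,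
      r * (w * r * w⁻¹) ∈ R ⊓ centralizer ({w} : Set X) := by
    intro w hw hwR r hr
    refine ⟨mul_mem hr (hwR r hr), mem_centralizer_singleton_iff.2 ?_⟩
    have hwi : w⁻¹ = w := inv_eq_of_mul_eq_one_right hw
    calc r * (w * r * w⁻¹) * w = r * (w * r) := by group
      _ = (w * r * w⁻¹) * (r * w) := by
        rw [← mul_assoc (w * r * w⁻¹), (hab _ (hwR r hr) _ hr).eq]; group
      _ = w * r * w * (r * w) := by rw [hwi]
      _ = w * (r * (w * r * w⁻¹)) := by rw [hwi]; group
  set A := r * (u * r * u⁻¹) with hA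
  set B := r * (v * r * v⁻¹) with hB
  set C := r * ((u * v) * r * (u * v)⁻¹) with hC
  have hAm := fix u hu huR r hr
  have hBm := fix v hv hvR r hr
  have hCm := fix (u * v) hw hwR r hr
  -- the full product over the four-group is fixed by `u`
  set D := A * (v * A * v⁻¹) with hD
  have hDm : D ∈ R ⊓ centralizer ({u} : Set X) := by
    refine ⟨mul_mem hAm.1 (hvR _ hAm.1), mul_mem hAm.2 ?_⟩
    apply mem_centralizer_singleton_iff.2
    have h1 : Commute A u := mem_centralizer_singleton_iff.1 hAm.2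
    exact ((huv.symm.mul_left h1).mul_left huv.symm.inv_left).eq
  set p := u * r * u⁻¹ with hp
  set q := v * r * v⁻¹ with hq
  set s := (u * v) * r * (u * v)⁻¹ with hs
  have hvA : v * A * v⁻¹ = q * s := by
    rw [hA, hq, hs, hp, huv.eq]; group
  have e1 : A * B * C = r ^ 2 * D := by
    rw [hD, hvA, hA, hB, hC, pow_two]
    have hpR : p ∈ R := huR r hr
    have hqR : q ∈ R := hvR r hr
    calc r * p * (r * q) * (r * s) = r * (p * r) * (q * r) * s := by group
      _ = r * (r * p) * (r * q) * s := by rw [(hab p hpR r hr).eq, (hab q hqR r hr).eq]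
      _ = r * r * (p * r) * (q * s) := by group
      _ = r * r * (r * p) * (q * s) := by rw [(hab p hpR r hr).eq]
      _ = r * r * (r * p * (q * s)) := by group
  apply mem_of_sq (odd_orderOf hodd hr)
  have e2 : r ^ 2 = A * B * C * D⁻¹ := by rw [e1]; group
  rw [e2]
  refine mul_mem (mul_mem (mul_mem ?_ ?_) ?_) (inv_mem ?_)
  · exact mem_sup_left (mem_sup_left hAm)
  · exact mem_sup_left (mem_sup_right hBm)
  · exact mem_sup_right hCm
  · exact mem_sup_left (mem_sup_left hDm)


/-- Let X be a finite group and Y an elementary abelian 2-subgroup of X of order at least 8 such that C_X(x) has no components (E(C_X(x)) = 1) for every nontrivial x ∈ Y, and F*(C_X(z)) = O₂(C_X(z)) for some nontrivial z ∈ Y. Then the subgroup generated by the cores O(C_X(y)), y ∈ Y nontrivial, has odd order and is normalized by N_X(Y). -/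
theorem result {X : Type*} [Group X] [Finite X] (Y : Subgroup X) (hY : Cfsg.IsElementaryAbelian 2 Y) (h8 : 8 ≤ Nat.card ↥Y) (hE : ∀ x ∈ Y, x ≠ 1 → Cfsg.layer ↥(Subgroup.centralizer ({x} : Set X)) = ⊥) (hz : ∃ z ∈ Y, z ≠ 1 ∧ Cfsg.generalizedFittingSubgroup ↥(Subgroup.centralizer ({z} : Set X)) = Cfsg.pCore 2 ↥(Subgroup.centralizer ({z} : Set X))) : Odd (Nat.card ↥(⨆ y : {y : X // y ∈ Y ∧ y ≠ 1}, (Cfsg.oddCore ↥(Subgroup.centralizer ({(y : X)} : Set X))).map (Subgroup.centralizer ({(y : X)} : Set X)).subtype)) ∧ Subgroup.normalizer (Y : Set X) ≤ Subgroup.normalizer ((⨆ y : {y : X // y ∈ Y ∧ y ≠ 1}, (Cfsg.oddCore ↥(Subgroup.centralizer ({(y : X)} : Set X))).map (Subgroup.centralizer ({(y : X)} : Set X)).subtype : Subgroup X) : Set X) := by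
  classical
  have : Fact (Nat.Prime 2) := ⟨Nat.prime_two⟩
  obtain ⟨z, hzY, hz1, hzC⟩ := hz
  have hYc : ∀ a ∈ Y, ∀ b ∈ Y, Commute a b := fun a ha b hb =>
    PGroup.mul_comm_of_elementaryAbelian hY ha hb
  have hY2 : ∀ a ∈ Y, a * a = 1 := fun a ha => by rw [← pow_two]; exact hY.2 a ha
  have hinvY : ∀ a ∈ Y, a⁻¹ = a := fun a ha => inv_eq_of_mul_eq_one_right (hY2 a ha)
  have hYCy : ∀ a ∈ Y, ∀ b ∈ Y, a ∈ centralizer ({b} : Set X) := fun a ha b hb =>
    mem_centralizer_singleton_iff.2 (hYc a ha b hb)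
  have hCPz : LocalChar.CP 2 ↥(centralizer ({z} : Set X)) :=
    LocalChar.genFitting_eq_pCore_iff.1 hzC
  -- `z` has no fixed point on `θ(y)`
  have hfpf : ∀ y ∈ Y, ∀ r ∈ theta y, Commute r z → r = 1 := by
    intro y hy r hr hrz
    set U : Subgroup X := Subgroup.closure {y, z} with hU
    have hUY : U ≤ Y := (closure_le _).2 (by
      rintro a (rfl | rfl) <;> assumption)
    have hU2 : IsPGroup 2 ↥U := (PGroup.isPGroup_of_elementaryAbelian hY).to_le hUY
    have hzU : z ∈ U := subset_closure (Or.inr rfl)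
    have hCU : centralizer (U : Set X) ≤ centralizer ({z} : Set X) :=
      centralizer_le (by simpa using hzU)
    have hCP := LocalChar.cp_centralizer_of_le hCPz hU2
      (fun a ha => hYCy a (hUY ha) z hzY) hCU
    have hrU : r ∈ centralizer (U : Set X) := by
      rw [hU, centralizer_closure]
      apply mem_centralizer_iff.2
      rintro a (rfl | rfl)
      · exact (mem_centralizer_singleton_iff.1 (theta_le _ hr)).symm
      · exact hrz.eq.symm
    have h := LocalChar.cp_elim hCP (b := ⟨r, hrU⟩) (fun q hq => Subtype.ext ?_) (by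
      rw [orderOf_mk]
      exact fun hd => Nat.not_even_iff_odd.2 (odd_orderOf (theta_odd y) hr)
        (even_iff_two_dvd.2 hd))
    · exact congrArg Subtype.val h
    · have hQn : (Cfsg.pCore 2 ↥(centralizer (U : Set X))).Normal := Components.pCore_normal' 2
      have hqy : (q : X) ∈ centralizer ({y} : Set X) :=
        centralizer_le (Set.singleton_subset_iff.2 (Subgroup.subset_closure (show y ∈ ({y, z} : Set X) from Or.inl rfl))) q.2
      have h1 : r * (q : X) * r⁻¹ * (q : X)⁻¹ ∈ theta y := by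
        have h2 := mul_mem hr (theta_conj hqy (inv_mem hr))
        simpa [mul_assoc] using h2
      have h2 : (⟨r, hrU⟩ : ↥(centralizer (U : Set X))) * q * ⟨r, hrU⟩⁻¹ * q⁻¹ ∈
          Cfsg.pCore 2 ↥(centralizer (U : Set X)) :=
        mul_mem (hQn.conj_mem q hq _) (inv_mem hq)
      have h3 : r * (q : X) * r⁻¹ * (q : X)⁻¹ = 1 :=
        eq_one_of_two_group (theta_odd y)
          ((Components.isPGroup_pCore' 2).map (centralizer (U : Set X)).subtype) h1 ⟨_, h2, rfl⟩
      show r * (q : X) = (q : X) * r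
      exact mul_inv_eq_iff_eq_mul.1 (mul_inv_eq_one.1 h3)
  -- so `z` inverts `θ(y)`, which is therefore abelian
  have hzinv : z⁻¹ = z := hinvY z hzY
  have hinv : ∀ y ∈ Y, ∀ x ∈ theta y, z * x * z⁻¹ = x⁻¹ := by
    intro y hy
    have hzy := hYCy z hzY y hy
    let f : ↥(theta y) → ↥(theta y) := fun r => ⟨(r : X)⁻¹ * (z * r * z⁻¹),
      mul_mem (inv_mem r.2) (theta_conj hzy r.2)⟩
    have hf : Function.Injective f := by
      intro a b hab
      have h1 : (a : X)⁻¹ * (z * a * z⁻¹) = (b : X)⁻¹ * (z * b * z⁻¹) := congrArg Subtype.val hab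
      have h2 : (b : X) * (a : X)⁻¹ * z = z * ((b : X) * (a : X)⁻¹) := by
        calc (b : X) * (a : X)⁻¹ * z
            = (b : X) * ((a : X)⁻¹ * (z * a * z⁻¹)) * z * (a : X)⁻¹ := by group
          _ = (b : X) * ((b : X)⁻¹ * (z * b * z⁻¹)) * z * (a : X)⁻¹ := by rw [h1]
          _ = z * ((b : X) * (a : X)⁻¹) := by group
      exact Subtype.ext (mul_inv_eq_one.1 (hfpf y hy _ (mul_mem b.2 (inv_mem a.2)) h2)).symm
    intro x hx
    obtain ⟨r, hr⟩ := (Finite.injective_iff_surjective.1 hf) ⟨x, hx⟩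
    have h1 : (r : X)⁻¹ * (z * r * z⁻¹) = x := congrArg Subtype.val hr
    rw [← h1]
    calc z * ((r : X)⁻¹ * (z * r * z⁻¹)) * z⁻¹
        = z * (r : X)⁻¹ * z * r * (z⁻¹ * z⁻¹) := by group
      _ = z * (r : X)⁻¹ * z⁻¹ * r := by rw [hzinv, hY2 z hzY, mul_one]
      _ = ((r : X)⁻¹ * (z * r * z⁻¹))⁻¹ := by group
  have hab : ∀ y ∈ Y, ∀ a ∈ theta y, ∀ b ∈ theta y, Commute a b := by
    intro y hy a ha b hb
    have h1 := hinv y hy _ (mul_mem ha hb)
    have h2 : z * (a * b) * z⁻¹ = (z * a * z⁻¹) * (z * b * z⁻¹) := by group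
    rw [h2, hinv y hy a ha, hinv y hy b hb, mul_inv_rev] at h1
    have h3 : (a⁻¹ * b⁻¹)⁻¹ = (b⁻¹ * a⁻¹)⁻¹ := by rw [h1]
    simp only [mul_inv_rev, inv_inv] at h3
    exact h3.symm
  -- balance
  have hbal : ∀ x ∈ Y, ∀ y ∈ Y, y ≠ 1 → ∀ w ∈ theta x, Commute w y → w ∈ theta y := by
    intro x hx y hy hy1 w hw hwy
    set H : Subgroup X := centralizer ({y} : Set X) with hH
    have hwH : w ∈ H := mem_centralizer_singleton_iff.2 hwy
    set T : Subgroup X := (Cfsg.pCore 2 ↥H).map H.subtype with hT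
    have hT2 : IsPGroup 2 ↥T := (Components.isPGroup_pCore' 2).map _
    have hTc : ∀ g ∈ H, ∀ t ∈ T, g * t * g⁻¹ ∈ T := by
      rintro g hg _ ⟨q, hq, rfl⟩
      exact ⟨⟨g, hg⟩ * q * ⟨g, hg⟩⁻¹, (Components.pCore_normal' 2).conj_mem q hq _, rfl⟩
    have hTN : H ≤ normalizer (T : Set X) := fun g hg => mem_normalizer_iff.2 fun t =>
      ⟨hTc g hg t, fun ht => by simpa [mul_assoc] using hTc g⁻¹ (inv_mem hg) _ ht⟩
    have hwd : ¬ 2 ∣ orderOf w := fun hd =>
      Nat.not_even_iff_odd.2 (odd_orderOf (theta_odd x) hw) (even_iff_two_dvd.2 hd)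
    have hwT : ∀ t ∈ T, Commute w t := by
      refine LocalChar.thompson_axb (X := zpowers x) hT2
        ((PGroup.isPGroup_of_elementaryAbelian hY).to_le (zpowers_le.2 hx))
        ((zpowers_le.2 (hYCy x hx y hy)).trans hTN) (hTN hwH) hwd (fun a ha => ?_) fun t ht htx => ?_
      · obtain ⟨k, rfl⟩ := mem_zpowers_iff.1 ha
        exact Commute.zpow_right (mem_centralizer_singleton_iff.1 (theta_le _ hw)) k
      · have htC : t ∈ centralizer ({x} : Set X) :=
          mem_centralizer_singleton_iff.2 (htx x (mem_zpowers x)).eq.symm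
        have h1 : w * t * w⁻¹ * t⁻¹ ∈ theta x := by
          simpa [mul_assoc] using mul_mem hw (theta_conj htC (inv_mem hw))
        have h2 := eq_one_of_two_group (theta_odd x) hT2 h1
          (mul_mem (hTc w hwH t ht) (inv_mem ht))
        exact mul_inv_eq_iff_eq_mul.1 (mul_inv_eq_one.1 h2)
    have hwA : ∀ a ∈ theta y, Commute w a := by
      intro a ha
      refine commute_of_sq (odd_orderOf (theta_odd x) hw) ?_
      have h1 := hinv y hy _ (theta_conj hwH ha)
      have h2 : z * (w * a * w⁻¹) * z⁻¹ = (z * w * z⁻¹) * (z * a * z⁻¹) * (z * w * z⁻¹)⁻¹ := by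
        group
      rw [h2, hinv x hx w hw, hinv y hy a ha] at h1
      have h3 : (w⁻¹ * a⁻¹ * w⁻¹⁻¹)⁻¹ = ((w * a * w⁻¹)⁻¹)⁻¹ := by rw [h1]
      simp only [mul_inv_rev, inv_inv] at h3
      show w ^ 2 * a = a * w ^ 2
      rw [pow_two]
      calc w * w * a = w * (w * a * w⁻¹) * w := by group
        _ = w * (w⁻¹ * (a * w)) * w := by rw [← h3]
        _ = a * (w * w) := by group
    -- hence `w` centralises `F*(H) = F(H)`
    have hF : Cfsg.generalizedFittingSubgroup ↥H = Cfsg.fittingSubgroup ↥H := by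
      rw [Cfsg.generalizedFittingSubgroup, hE y hy hy1, bot_sup_eq]
    have hsplit : (Cfsg.fittingSubgroup ↥H).map H.subtype ≤ T ⊔ theta y := by
      rw [Components.fittingSubgroup_eq_iSup_pCore, Subgroup.map_iSup]
      refine iSup_le fun q => ?_
      by_cases hq : (q : ℕ) = 2
      · rw [hq]; exact le_sup_left
      · refine le_trans (map_mono ?_) le_sup_right
        have := Components.pCore_normal' (G := ↥H) (q : ℕ)
        have hqp : (q : ℕ).Prime := Nat.prime_of_mem_primeFactors q.2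
        have := Fact.mk hqp
        refine PCore.le_oddCore ?_
        obtain ⟨k, hk⟩ := IsPGroup.iff_card.1 (Components.isPGroup_pCore' (G := ↥H) (q : ℕ))
        rw [hk]
        exact (hqp.odd_of_ne_two hq).pow
    have hwcent : ∀ a ∈ T ⊔ theta y, Commute w a := by
      intro a ha
      have h1 : T ⊔ theta y ≤ centralizer ({w} : Set X) := sup_le
        (fun t ht => mem_centralizer_singleton_iff.2 (hwT t ht).eq.symm)
        (fun t ht => mem_centralizer_singleton_iff.2 (hwA t ht).eq.symm)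
      exact (mem_centralizer_singleton_iff.1 (h1 ha)).symm
    have hwF : (⟨w, hwH⟩ : ↥H) ∈ Cfsg.fittingSubgroup ↥H := by
      rw [← hF]
      apply Components.centralizer_generalizedFittingSubgroup_le
      rw [hF]
      exact mem_centralizer_iff.2 fun a ha =>
        Subtype.ext (hwcent _ (hsplit ⟨a, ha, rfl⟩)).eq.symm
    have hmem : w ∈ T ⊔ theta y := hsplit ⟨_, hwF, rfl⟩
    have hAN : T ≤ normalizer (theta y : Set X) := fun g hg => mem_normalizer_iff.2 fun t =>
      ⟨theta_conj ((map_subtype_le _) hg), fun ht => by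
        simpa [mul_assoc] using theta_conj (inv_mem ((map_subtype_le _) hg)) ht⟩
    rw [← SetLike.mem_coe, Subgroup.coe_mul_of_left_le_normalizer_right _ _ hAN] at hmem
    obtain ⟨t, ht, a, ha, rfl⟩ := hmem
    have hat : Commute t a := by
      have h1 : t * a * t⁻¹ * a⁻¹ ∈ theta y :=
        mul_mem (theta_conj ((map_subtype_le _) ht) ha) (inv_mem ha)
      have h2 : t * a * t⁻¹ * a⁻¹ ∈ T := by
        have h3 := mul_mem ht (hTc a (theta_le y ha) _ (inv_mem ht))
        simpa [mul_assoc] using h3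
      exact mul_inv_eq_iff_eq_mul.1 (mul_inv_eq_one.1
        (eq_one_of_two_group (theta_odd y) hT2 h1 h2))
    -- the 2-part `t` is trivial
    have hn : (t * a) ^ orderOf (t * a) = 1 := pow_orderOf_eq_one _
    rw [hat.mul_pow] at hn
    have hn' : t ^ orderOf (t * a) = (a ^ orderOf (t * a))⁻¹ := eq_inv_of_mul_eq_one_left hn
    have h4 : t ^ orderOf (t * a) = 1 := eq_one_of_two_group (theta_odd y) hT2
      (hn' ▸ inv_mem (pow_mem ha _)) (pow_mem ht _)
    have h5 : t = 1 := by
      refine orderOf_eq_one_iff.1 (Nat.eq_one_of_dvd_coprimes (LocalChar.coprime_orderOf hT2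
        Nat.prime_two ht hwd).symm dvd_rfl (orderOf_dvd_of_pow_eq_one h4))
    simpa [h5] using ha
  -- any two of the `θ(y)` commute
  have hcomm : ∀ x ∈ Y, x ≠ 1 → ∀ y ∈ Y, y ≠ 1 → ∀ a ∈ theta x, ∀ b ∈ theta y, Commute a b := by
    intro x hx hx1 y hy hy1
    -- fixed points of two different involutions of `Y` on `θ(x)` centralise `θ(y)`
    have hpiece : ∀ u ∈ Y, u ≠ 1 → ∀ e ∈ Y, e ≠ 1 → e ≠ u → ∀ a ∈ theta x,
        Commute a u → Commute a e → ∀ b ∈ theta y, Commute a b := by
      intro u hu hu1 e he he1 heu a ha hau hae b hb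
      have hle := four_group_generation (hY2 u hu) (hY2 e he) (hYc u hu e he) (theta_odd y)
        (hab y hy) (fun r hr => theta_conj (hYCy u hu y hy) hr)
        (fun r hr => theta_conj (hYCy e he y hy) hr)
      have hue : u * e ≠ 1 := fun h => heu (by rw [← inv_eq_of_mul_eq_one_right h, hinvY u hu])
      have key : ∀ f ∈ Y, f ≠ 1 → Commute a f →
          theta y ⊓ centralizer ({f} : Set X) ≤ centralizer ({a} : Set X) := by
        intro f hf hf1 haf c hc
        exact mem_centralizer_singleton_iff.2 (hab f hf c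
          (hbal y hy f hf hf1 c hc.1 (mem_centralizer_singleton_iff.1 hc.2)) a
          (hbal x hx f hf hf1 a ha haf)).eq
      have hmem := (sup_le (sup_le (key u hu hu1 hau) (key e he he1 hae))
        (key (u * e) (mul_mem hu he) hue (hau.mul_right hae))) (hle hb)
      exact (mem_centralizer_singleton_iff.1 hmem).symm
    -- an element `v ∈ Y` outside a given four-group
    have hex : ∀ S : Finset X, S.card ≤ 4 → ∃ v ∈ Y, v ∉ S := by
      intro S hS
      by_contra h
      push Not at h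
      have h1 : Nat.card ↥Y ≤ Nat.card ↥(S : Set X) :=
        Nat.card_le_card_of_injective (fun v => ⟨v.1, h v.1 v.2⟩) fun v w hvw =>
          Subtype.ext (congrArg Subtype.val hvw :)
      rw [Nat.card_coe_set_eq, Set.ncard_coe_finset] at h1
      omega
    intro a ha b hb
    -- first four-group: `x` and some `v`
    obtain ⟨v, hv, hvn⟩ := hex {1, x} (Finset.card_le_two.trans (by norm_num))
    simp only [Finset.mem_insert, Finset.mem_singleton, not_or] at hvn
    have hgen := four_group_generation (hY2 x hx) (hY2 v hv) (hYc x hx v hv) (theta_odd x)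
      (hab x hx) (fun r hr => theta_conj (hYCy x hx x hx) hr)
      (fun r hr => theta_conj (hYCy v hv x hx) hr)
    have hxv : x * v ≠ 1 := fun h => hvn.2 (by rw [← inv_eq_of_mul_eq_one_right h, hinvY x hx])
    have key : ∀ u ∈ Y, u ≠ 1 → theta x ⊓ centralizer ({u} : Set X) ≤ centralizer ({b} : Set X) := by
      intro u hu hu1
      obtain ⟨v, hv, hvn⟩ := hex {1, u} (Finset.card_le_two.trans (by norm_num))
      obtain ⟨t, ht, htn⟩ := hex {1, u, v, u * v} Finset.card_le_four
      simp only [Finset.mem_insert, Finset.mem_singleton, not_or] at hvn htn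
      obtain ⟨hv1, hvu⟩ := hvn
      obtain ⟨ht1, htu, htv, htuv⟩ := htn
      have hvt1 : v * t ≠ 1 := fun h => htv (by rw [← inv_eq_of_mul_eq_one_right h, hinvY v hv])
      have hvtu : v * t ≠ u := fun h => htuv (by
        calc t = v * v * t := by rw [hY2 v hv, one_mul]
          _ = v * u := by rw [mul_assoc, h]
          _ = u * v := (hYc v hv u hu).eq)
      have hnorm : ∀ g ∈ Y, ∀ r ∈ theta x ⊓ centralizer ({u} : Set X),
          g * r * g⁻¹ ∈ theta x ⊓ centralizer ({u} : Set X) := fun g hg r hr =>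
        ⟨theta_conj (hYCy g hg x hx) hr.1,
          Subgroup.mul_mem _ (Subgroup.mul_mem _ (hYCy g hg u hu) hr.2) (Subgroup.inv_mem _ (hYCy g hg u hu))⟩
      have hle := four_group_generation (hY2 v hv) (hY2 t ht) (hYc v hv t ht)
        ((theta_odd x).of_dvd_nat (card_dvd_of_le inf_le_left))
        (fun p hp q hq => hab x hx p hp.1 q hq.1) (hnorm v hv) (hnorm t ht)
      refine hle.trans (sup_le (sup_le ?_ ?_) ?_)
      · exact fun c hc => mem_centralizer_singleton_iff.2 (hpiece u hu hu1 v hv hv1 hvu c hc.1.1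
          (mem_centralizer_singleton_iff.1 hc.1.2) (mem_centralizer_singleton_iff.1 hc.2) b hb).eq
      · exact fun c hc => mem_centralizer_singleton_iff.2 (hpiece u hu hu1 t ht ht1 htu c hc.1.1
          (mem_centralizer_singleton_iff.1 hc.1.2) (mem_centralizer_singleton_iff.1 hc.2) b hb).eq
      · exact fun c hc => mem_centralizer_singleton_iff.2 (hpiece u hu hu1 (v * t) (mul_mem hv ht)
          hvt1 hvtu c hc.1.1
          (mem_centralizer_singleton_iff.1 hc.1.2) (mem_centralizer_singleton_iff.1 hc.2) b hb).eq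
    exact mem_centralizer_singleton_iff.1 ((sup_le (sup_le (key x hx hx1) (key v hv hvn.1))
      (key (x * v) (mul_mem hx hv) hxv)) (hgen ha))
  -- the join
  set J : Subgroup X := ⨆ y : {y : X // y ∈ Y ∧ y ≠ 1}, theta (y : X) with hJ
  change Odd (Nat.card ↥J) ∧ normalizer (Y : Set X) ≤ normalizer (J : Set X)
  have hJc : ∀ a ∈ J, ∀ b ∈ J, Commute a b := by
    have h1 : ∀ y : {y : X // y ∈ Y ∧ y ≠ 1}, ∀ a ∈ theta (y : X),
        J ≤ centralizer ({a} : Set X) := fun y a ha => iSup_le fun y' b hb =>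
      mem_centralizer_singleton_iff.2 (hcomm y' y'.2.1 y'.2.2 y y.2.1 y.2.2 b hb a ha).eq
    intro a ha b hb
    have h2 : J ≤ centralizer ({a} : Set X) := iSup_le fun y c hc =>
      mem_centralizer_singleton_iff.2 (mem_centralizer_singleton_iff.1 (h1 y c hc ha)).symm
    exact (mem_centralizer_singleton_iff.1 (h2 hb)).symm
  refine ⟨?_, fun g hg => ?_⟩
  · rw [← Nat.not_even_iff_odd, even_iff_two_dvd]
    intro hd
    obtain ⟨c, hc⟩ := exists_prime_orderOf_dvd_card' 2 hd
    rw [← orderOf_coe] at hc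
    have hall : ∀ a ∈ J, Odd (orderOf a) := by
      intro a ha
      suffices h : a ∈ J ∧ Odd (orderOf a) from h.2
      refine Subgroup.iSup_induction (C := fun a => a ∈ J ∧ Odd (orderOf a)) _ ha
        (fun y b hb => ⟨le_iSup (fun y : {y : X // y ∈ Y ∧ y ≠ 1} => theta (y : X)) y hb,
          odd_orderOf (theta_odd _) hb⟩) ⟨one_mem J, by simp⟩ fun b c hb hc => ⟨mul_mem hb.1 hc.1, ?_⟩
      exact ((Nat.odd_mul.2 ⟨hb.2, hc.2⟩).of_dvd_nat
        (hJc b hb.1 c hc.1).orderOf_mul_dvd_mul_orderOf)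
    have h2 := hall _ c.2
    rw [hc] at h2
    exact absurd h2 (by decide)
  · have hmap : ∀ g ∈ normalizer (Y : Set X), ∀ a ∈ J, g * a * g⁻¹ ∈ J := by
      intro g hg
      suffices h : J ≤ J.comap (MulAut.conj g).toMonoidHom from fun a ha => h ha
      refine iSup_le fun y => map_le_iff_le_comap.1 ?_
      have hy' : g * (y : X) * g⁻¹ ∈ Y ∧ g * (y : X) * g⁻¹ ≠ 1 :=
        ⟨(mem_normalizer_iff.1 hg _).1 y.2.1, fun h => y.2.2 (conj_eq_one_iff.1 h)⟩
      refine le_trans ?_ (le_iSup (fun y : {y : X // y ∈ Y ∧ y ≠ 1} => theta (y : X)) ⟨_, hy'⟩)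
      refine le_theta ?_ ?_ ?_
      · rintro _ ⟨r, hr, rfl⟩
        apply mem_centralizer_singleton_iff.2
        show g * r * g⁻¹ * (g * (y : X) * g⁻¹) = g * (y : X) * g⁻¹ * (g * r * g⁻¹)
        have h1 := mem_centralizer_singleton_iff.1 (theta_le _ hr)
        calc g * r * g⁻¹ * (g * (y : X) * g⁻¹) = g * (r * (y : X)) * g⁻¹ := by group
          _ = g * ((y : X) * r) * g⁻¹ := by rw [h1]
          _ = g * (y : X) * g⁻¹ * (g * r * g⁻¹) := by group
      · rintro h hh _ ⟨r, hr, rfl⟩
        refine ⟨(g⁻¹ * h * g) * r * (g⁻¹ * h * g)⁻¹, theta_conj ?_ hr, by simp [mul_assoc]⟩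
        apply mem_centralizer_singleton_iff.2
        have h1 := mem_centralizer_singleton_iff.1 hh
        calc g⁻¹ * h * g * (y : X) = g⁻¹ * (h * (g * (y : X) * g⁻¹)) * g := by group
          _ = g⁻¹ * (g * (y : X) * g⁻¹ * h) * g := by rw [h1]
          _ = (y : X) * (g⁻¹ * h * g) := by group
      · rw [card_map_of_injective (MulEquiv.injective _)]
        exact theta_odd _
    rw [mem_normalizer_iff]
    exact fun a => ⟨hmap g hg a, fun ha => by
      simpa [mul_assoc] using hmap g⁻¹ (inv_mem hg) _ ha⟩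

end Cfsg.Agent.S2924
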