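import Cfsg.Statements.S2925
import Cfsg.Agent.Lib.Components.Layer
import Cfsg.Agent.Lib.PGroup.ElementaryAbelian
-- import your own Cfsg.Agent.* helpers here

set_option autoImplicit false
open Cfsg

namespace Cfsg.Agent.S2925

/-- Let K be a component of the finite group X and T a Sylow 2-subgroup of X. If some abelian normal subgroup Y of T does not normalize K, then K ⧸ Z(K) has abelian Sylow 2-subgroups. -/
theorem result {X : Type*} [Group X] [Finite X] (K : Subgroup X) (hK : Cfsg.IsComponent K) (T : Sylow 2 X) (Y : Subgroup X) (hYT : Y ≤ (T : Subgroup X)) (hYn : (Y.subgroupOf (T : Subgroup X)).Normal) (hYab : IsMulCommutative ↥Y) (hnot : ¬ Y ≤ Subgroup.normalizer (K : Set X)) (P : Sylow 2 (↥K ⧸ Subgroup.center ↥K)) : IsMulCommutative ↥(P : Subgroup (↥K ⧸ Subgroup.center ↥K)) := by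
  classical
  have hp2 : Fact (Nat.Prime 2) := ⟨Nat.prime_two⟩
  obtain ⟨y, hyY, hyK⟩ := SetLike.not_le_iff_exists.1 hnot
  set K' : Subgroup X := K.map (MulAut.conj y).toMonoidHom with hK'
  have hne : K ≠ K' := fun h => hyK (Subgroup.mem_normalizer_iff_map_conj_eq.2 h.symm)
  have hcomm : ⁅K, K'⁆ = ⊥ :=
    Components.IsComponent.commutator_eq_bot hK (Components.IsComponent.conj hK y) hne
  have hcc : ∀ a ∈ K, ∀ b ∈ K', Commute a b := fun a ha b hb =>
    (Subgroup.mem_centralizer_iff.1 (Components.le_centralizer_of_commutator_eq_bot hcomm ha) b hb).symm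
  have hTY : ∀ t ∈ (T : Subgroup X), ∀ x ∈ Y, t * x * t⁻¹ ∈ Y := fun t ht x hx =>
    hYn.conj_mem ⟨x, hYT hx⟩ hx ⟨t, ht⟩
  -- elements of `T ∩ K` commute modulo the centre
  have hkey : ∀ r ∈ (T : Subgroup X) ⊓ K, ∀ s ∈ (T : Subgroup X) ⊓ K, ∀ k ∈ K,
      Commute (r * s * r⁻¹ * s⁻¹) k := by
    intro r hr s hs k hk
    have hmem : ∀ r ∈ (T : Subgroup X) ⊓ K, r⁻¹ * (y * r * y⁻¹) ∈ Y := fun r hr => by
      have := mul_mem (hTY r⁻¹ (inv_mem hr.1) y hyY) (inv_mem hyY)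
      simpa [mul_assoc] using this
    have hab' : ∀ u ∈ Y, ∀ v ∈ Y, u * v = v * u := fun u hu v hv =>
      congrArg Subtype.val (hYab.1.1 ⟨u, hu⟩ ⟨v, hv⟩)
    have h1 := hab' _ (hmem r hr) _ (hmem s hs)
    set r' := y * r * y⁻¹ with hr'
    set s' := y * s * y⁻¹ with hs'
    have hr'K : r' ∈ K' := ⟨r, hr.2, rfl⟩
    have hs'K : s' ∈ K' := ⟨s, hs.2, rfl⟩
    have h2 : r⁻¹ * s⁻¹ * (r' * s') = s⁻¹ * r⁻¹ * (s' * r') := by
      calc r⁻¹ * s⁻¹ * (r' * s') = r⁻¹ * (s⁻¹ * r') * s' := by group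
        _ = r⁻¹ * (r' * s⁻¹) * s' := by rw [(hcc _ (inv_mem hs.2) _ hr'K).eq]
        _ = (r⁻¹ * r') * (s⁻¹ * s') := by group
        _ = (s⁻¹ * s') * (r⁻¹ * r') := h1
        _ = s⁻¹ * (s' * r⁻¹) * r' := by group
        _ = s⁻¹ * (r⁻¹ * s') * r' := by rw [(hcc _ (inv_mem hr.2) _ hs'K).eq]
        _ = s⁻¹ * r⁻¹ * (s' * r') := by group
    have h3 : r * s * r⁻¹ * s⁻¹ = s' * r' * (r' * s')⁻¹ := by
      calc r * s * r⁻¹ * s⁻¹ = r * s * (r⁻¹ * s⁻¹ * (r' * s')) * (r' * s')⁻¹ := by group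
        _ = r * s * (s⁻¹ * r⁻¹ * (s' * r')) * (r' * s')⁻¹ := by rw [h2]
        _ = s' * r' * (r' * s')⁻¹ := by group
    rw [h3]
    exact (hcc k hk _ (mul_mem (mul_mem hs'K hr'K) (inv_mem (mul_mem hr'K hs'K)))).symm
  -- `T ∩ K` is a Sylow subgroup of `K`
  have hmax : ∀ {A : Subgroup X}, A.IsSubnormal → ∀ Q : Subgroup X, Q ≤ A → IsPGroup 2 ↥Q →
      Nat.card ↥Q ≤ Nat.card ↥((T : Subgroup X) ⊓ A) := by
    intro A hA
    induction hA with
    | top =>
      intro Q _ hQ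
      obtain ⟨U, hU⟩ := hQ.exists_le_sylow
      rw [inf_top_eq]
      exact (Subgroup.card_le_of_le hU).trans (le_of_eq (by
        rw [U.card_eq_multiplicity, T.card_eq_multiplicity]))
    | step A B hle hB hn ih =>
      intro Q hQA hQ
      have hTBp : IsPGroup 2 ↥(((T : Subgroup X) ⊓ B).subgroupOf B) :=
        (T.2.to_le inf_le_left).of_equiv (Subgroup.subgroupOfEquivOfLe inf_le_right).symm
      obtain ⟨U, hU⟩ := hTBp.exists_le_sylow
      have hUeq : (U : Subgroup ↥B) = ((T : Subgroup X) ⊓ B).subgroupOf B := by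
        refine (Subgroup.eq_of_le_of_card_ge hU ?_).symm
        rw [Nat.card_congr (Subgroup.subgroupOfEquivOfLe (inf_le_right : (T : Subgroup X) ⊓ B ≤ B)).toEquiv,
          ← Subgroup.card_map_of_injective (f := B.subtype) B.subtype_injective (K := (U : Subgroup ↥B))]
        exact ih _ (Subgroup.map_subtype_le _) (U.2.map _)
      obtain ⟨V, hV⟩ :=
        (hQ.of_equiv (Subgroup.subgroupOfEquivOfLe (hQA.trans hle)).symm).exists_le_sylow
      obtain ⟨b, hb⟩ := MulAction.exists_smul_eq ↥B V U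
      rw [← Subgroup.card_map_of_injective (f := (MulAut.conj (b : X)).toMonoidHom) (MulEquiv.injective _) (K := Q)]
      refine Subgroup.card_le_of_le ?_
      rintro _ ⟨q, hq, rfl⟩
      have h : b * ⟨q, hle (hQA hq)⟩ * b⁻¹ ∈ (U : Subgroup ↥B) := by
        rw [← hb, Sylow.coe_subgroup_smul]
        exact Subgroup.smul_mem_pointwise_smul _ _ _ (hV hq)
      rw [hUeq] at h
      refine ⟨h.1, ?_⟩
      exact hn.conj_mem (⟨q, hle (hQA hq)⟩ : ↥B) (hQA hq) b
  obtain ⟨R, hR⟩ := ((T.2.to_le inf_le_left).of_equiv (Subgroup.subgroupOfEquivOfLe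
    (inf_le_right : (T : Subgroup X) ⊓ K ≤ K)).symm).exists_le_sylow
  have hReq : (R : Subgroup ↥K) = ((T : Subgroup X) ⊓ K).subgroupOf K := by
    refine (Subgroup.eq_of_le_of_card_ge hR ?_).symm
    rw [Nat.card_congr (Subgroup.subgroupOfEquivOfLe (inf_le_right : (T : Subgroup X) ⊓ K ≤ K)).toEquiv,
      ← Subgroup.card_map_of_injective (f := K.subtype) K.subtype_injective (K := (R : Subgroup ↥K))]
    exact hmax hK.1 _ (Subgroup.map_subtype_le _) (R.2.map _)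
  let f := QuotientGroup.mk' (Subgroup.center ↥K)
  obtain ⟨c, hc⟩ := MulAction.exists_smul_eq (↥K ⧸ Subgroup.center ↥K)
    (R.mapSurjective (QuotientGroup.mk'_surjective (Subgroup.center ↥K))) P
  refine PGroup.isMulCommutative_of_forall fun a ha b hb => ?_
  have hpull : ∀ a ∈ (P : Subgroup (↥K ⧸ Subgroup.center ↥K)),
      ∃ r ∈ (R : Subgroup ↥K), c⁻¹ * a * c = f r := by
    intro a ha
    rw [← hc, Sylow.coe_subgroup_smul, Subgroup.mem_pointwise_smul_iff_inv_smul_mem] at ha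
    obtain ⟨r, hr, hre⟩ := ha
    exact ⟨r, hr, by simpa [MulAut.smul_def, f] using hre.symm⟩
  obtain ⟨r, hr, hra⟩ := hpull a ha
  obtain ⟨s, hs, hsb⟩ := hpull b hb
  rw [hReq] at hr hs
  have hz : r * s * r⁻¹ * s⁻¹ ∈ Subgroup.center ↥K :=
    Subgroup.mem_center_iff.2 fun k => Subtype.ext (hkey _ hr _ hs k k.2).eq.symm
  have h4 : f r * f s * (f r)⁻¹ * (f s)⁻¹ = 1 := by
    rw [← map_inv, ← map_inv, ← map_mul, ← map_mul, ← map_mul]
    exact (QuotientGroup.eq_one_iff _).2 hz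
  have h5 : f r * f s = f s * f r := mul_inv_eq_iff_eq_mul.1 (mul_inv_eq_one.1 h4)
  rw [← hra, ← hsb] at h5
  calc a * b = c * ((c⁻¹ * a * c) * (c⁻¹ * b * c)) * c⁻¹ := by group
    _ = c * ((c⁻¹ * b * c) * (c⁻¹ * a * c)) * c⁻¹ := by rw [h5]
    _ = b * a := by group

end Cfsg.Agent.S2925
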