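import Cfsg.Statements.S2928
import Cfsg.Agent.Lib.Perm.SylowTwoQuasisimple
import Cfsg.Agent.Lib.Components.GenFitting

set_option autoImplicit false
open Cfsg

namespace Cfsg.Agent.S2928

/-- Let n ≥ 8 and let H be a subgroup of the symmetric group of degree n whose generalized Fitting subgroup F*(H) is quasisimple. If H contains a Sylow 2-subgroup of the alternating group of degree n, then F*(H) is isomorphic to an alternating group of degree m for some m ∈ {n − 3, n − 2, n − 1, n}. -/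
theorem result (n : ℕ) (hn : 8 ≤ n) (H : Subgroup (Equiv.Perm (Fin n))) (hF : Cfsg.IsQuasisimple ↥(Cfsg.generalizedFittingSubgroup ↥H)) (hS : ∃ P : Sylow 2 ↥(alternatingGroup (Fin n)), ((P : Subgroup ↥(alternatingGroup (Fin n))).map (alternatingGroup (Fin n)).subtype) ≤ H) : ∃ m : ℕ, (m = n - 3 ∨ m = n - 2 ∨ m = n - 1 ∨ m = n) ∧ Nonempty (↥(Cfsg.generalizedFittingSubgroup ↥H) ≃* ↥(alternatingGroup (Fin m))) := by
  classical
  obtain ⟨P, hP⟩ := hS
  obtain ⟨τ, hinv, hfix, hmem⟩ := Agent.Perm.SylowTwoMatching.exists_matching P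
  have hτ : Agent.Perm.SylowTwoQuasisimple.Match H τ :=
    ⟨hinv, hfix, fun u v a b c d => hP (hmem u v a b c d)⟩
  set E0 := Cfsg.generalizedFittingSubgroup ↥H with hE0
  have hn0 : E0.Normal := Agent.Components.generalizedFittingSubgroup_normal ↥H
  have hSetup : Agent.Perm.SylowTwoQuasisimple.Setup H (E0.map H.subtype) := by
    refine ⟨Subgroup.map_subtype_le E0, ?_,
      Agent.Components.IsQuasisimple.map_injective hF H.subtype_injective, ?_⟩
    · rintro h hh _ ⟨e, he, rfl⟩
      exact ⟨⟨h, hh⟩ * e * ⟨h, hh⟩⁻¹, hn0.conj_mem e he ⟨h, hh⟩, rfl⟩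
    · intro g hg hc
      refine ⟨⟨g, hg⟩, Agent.Components.centralizer_generalizedFittingSubgroup_le ?_, rfl⟩
      exact Subgroup.mem_centralizer_iff.2 fun e he =>
        Subtype.ext (hc e ⟨e, he, rfl⟩).symm
  obtain ⟨B, h1, h2, ⟨φ⟩⟩ := Agent.Perm.SylowTwoQuasisimple.exists_alternating hSetup hτ
    (by rw [Fintype.card_fin]; exact hn)
  rw [Fintype.card_fin] at h1 h2
  refine ⟨B.card, by omega, ⟨?_⟩⟩
  exact ((E0.equivMapOfInjective H.subtype H.subtype_injective).trans φ).trans
    (Equiv.altCongrHom B.equivFin)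

end Cfsg.Agent.S2928
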