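import Cfsg.Statements.S2929
import Cfsg.Agent.Lib.Components.GenFitting
import Cfsg.Agent.Lib.Components.Quasisimple
import Cfsg.Agent.Lib.LocalStructure.Basic
import Mathlib
-- import your own Cfsg.Agent.* helpers here

set_option autoImplicit false
open Cfsg

namespace Cfsg.Agent.S2929

open Subgroup Equiv

section Cyc

variable {α : Type*} [Fintype α] [DecidableEq α]

/-- The cycle `a → b → c → a`. -/
def cyc (a b c : α) : Perm α := swap a c * swap a b

theorem cyc_fst {a b c : α} (hab : a ≠ b) (hbc : b ≠ c) : cyc a b c a = b := by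
  simp [cyc, swap_apply_of_ne_of_ne hab.symm hbc]

theorem cyc_rot {a b c : α} (hab : a ≠ b) (hac : a ≠ c) (hbc : b ≠ c) :
    cyc a b c = cyc b c a := by
  ext x
  simp only [cyc, Perm.mul_apply, swap_apply_def]
  split_ifs <;> grind

theorem cyc_inv {a b c : α} (hab : a ≠ b) (hac : a ≠ c) (hbc : b ≠ c) :
    (cyc a b c)⁻¹ = cyc a c b := by
  simp [cyc, mul_inv_rev, swap_inv]

theorem cyc_conj (g : Perm α) (a b c : α) : g * cyc a b c * g⁻¹ = cyc (g a) (g b) (g c) := by
  simp only [cyc, ← mul_assoc, mul_swap_eq_swap_mul g a c]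
  simp only [mul_assoc]
  rw [← mul_assoc g (swap a b) g⁻¹, mul_swap_eq_swap_mul g a b]
  simp [mul_assoc]

theorem cyc_isThreeCycle {a b c : α} (hab : a ≠ b) (hac : a ≠ c) (hbc : b ≠ c) :
    Perm.IsThreeCycle (cyc a b c) :=
  Perm.isThreeCycle_swap_mul_swap_same hac hab hbc.symm

theorem cyc_apply_of_ne {a b c x : α} (ha : x ≠ a) (hb : x ≠ b) (hc : x ≠ c) :
    cyc a b c x = x := by
  simp [cyc, swap_apply_of_ne_of_ne ha hb, swap_apply_of_ne_of_ne ha hc]

theorem exists_cyc {σ : Perm α} (h : σ.IsThreeCycle) :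
    ∃ a b c, a ≠ b ∧ a ≠ c ∧ b ≠ c ∧ σ = cyc a b c := by
  obtain ⟨a, ha⟩ := h.isCycle.nonempty_support
  have hnd := h.nodup_iff_mem_support.mpr ha
  have heq := h.eq_swap_mul_swap_iff_mem_support.mpr ha
  simp only [List.nodup_cons, List.mem_cons, List.not_mem_nil, or_false, not_or] at hnd
  refine ⟨a, σ a, σ (σ a), hnd.1.1, hnd.1.2, hnd.2.1, heq.trans ?_⟩
  ext x
  simp only [cyc, Perm.mul_apply, swap_apply_def]
  split_ifs <;> grind

/-- All `3`-cycles on `Δ` lie in `H`. -/
def All3 (H : Subgroup (Perm α)) (Δ : Finset α) : Prop :=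
  ∀ a ∈ Δ, ∀ b ∈ Δ, ∀ c ∈ Δ, a ≠ b → a ≠ c → b ≠ c → cyc a b c ∈ H

theorem all3_base {H : Subgroup (Perm α)} {a b c : α} (hab : a ≠ b) (hac : a ≠ c) (hbc : b ≠ c)
    (h : cyc a b c ∈ H) : All3 H {a, b, c} := by
  have h1 : cyc b c a ∈ H := cyc_rot hab hac hbc ▸ h
  have h2 : cyc c a b ∈ H := cyc_rot hbc hab.symm hac.symm ▸ h1
  have i0 := H.inv_mem h
  have i1 := H.inv_mem h1
  have i2 := H.inv_mem h2
  rw [cyc_inv hab hac hbc] at i0
  rw [cyc_inv hbc hab.symm hac.symm] at i1
  rw [cyc_inv hac.symm hbc.symm hab] at i2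
  intro x hx y hy z hz hxy hxz hyz
  simp only [Finset.mem_insert, Finset.mem_singleton] at hx hy hz
  rcases hx with rfl | rfl | rfl <;> rcases hy with rfl | rfl | rfl <;>
    rcases hz with rfl | rfl | rfl <;>
    first | contradiction | assumption

theorem all3_insert {H : Subgroup (Perm α)} {Δ : Finset α} (hΔ : All3 H Δ) {a b x : α}
    (ha : a ∈ Δ) (hb : b ∈ Δ) (hab : a ≠ b) (hx : x ∉ Δ) (h : cyc a b x ∈ H) :
    All3 H (insert x Δ) := by
  have hne : ∀ p ∈ Δ, p ≠ x := fun p hp e => hx (e ▸ hp)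
  have sw : ∀ p ∈ Δ, ∀ q ∈ Δ, p ≠ q → cyc p q x ∈ H → cyc q p x ∈ H := by
    intro p hp q hq hpq h
    have h1 := H.inv_mem h
    rw [cyc_inv hpq (hne p hp) (hne q hq), cyc_rot (hne p hp) hpq (hne q hq).symm,
      cyc_rot (hne q hq).symm (hne p hp).symm hpq.symm] at h1
    exact h1
  have move : ∀ p ∈ Δ, ∀ q ∈ Δ, ∀ e ∈ Δ, p ≠ q → p ≠ e → q ≠ e → cyc p q x ∈ H →
      cyc q e x ∈ H := by
    intro p hp q hq e he hpq hpe hqe h
    have hg := hΔ p hp q hq e he hpq hpe hqe
    have h1 := H.mul_mem (H.mul_mem hg h) (H.inv_mem hg)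
    rwa [cyc_conj, cyc_fst hpq hqe,
      show cyc p q e q = e by rw [cyc_rot hpq hpe hqe]; exact cyc_fst hqe hpe.symm,
      cyc_apply_of_ne (hne p hp).symm (hne q hq).symm (hne e he).symm] at h1
  have fromA : ∀ p ∈ Δ, ∀ q ∈ Δ, p ≠ q → cyc p q x ∈ H → ∀ e ∈ Δ, p ≠ e → cyc p e x ∈ H := by
    intro p hp q hq hpq h e he hpe
    by_cases hqe : q = e
    · exact hqe ▸ h
    · exact move q hq p hp e he hpq.symm hqe hpe (sw p hp q hq hpq h)
  have all : ∀ p ∈ Δ, ∀ q ∈ Δ, p ≠ q → cyc p q x ∈ H := by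
    intro p hp q hq hpq
    by_cases hpa : p = a
    · subst hpa
      exact fromA p hp b hb hab h q hq hpq
    · have h1 := fromA a ha b hb hab h p hp (Ne.symm hpa)
      exact fromA p hp a ha hpa (sw a ha p hp (Ne.symm hpa) h1) q hq hpq
  intro p hp q hq r hr hpq hpr hqr
  rcases Finset.mem_insert.1 hp with rfl | hp'
  · have hq' := (Finset.mem_insert.1 hq).resolve_left hpq.symm
    have hr' := (Finset.mem_insert.1 hr).resolve_left hpr.symm
    rw [cyc_rot hpq hpr hqr]
    exact all q hq' r hr' hqr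
  rcases Finset.mem_insert.1 hq with rfl | hq'
  · have hr' := (Finset.mem_insert.1 hr).resolve_left hqr.symm
    rw [cyc_rot hpq hpr hqr, cyc_rot hqr hpq.symm hpr.symm]
    exact all r hr' p hp' hpr.symm
  rcases Finset.mem_insert.1 hr with rfl | hr'
  · exact all p hp' q hq' hpq
  · exact hΔ p hp' q hq' r hr' hpq hpr hqr

/-- `Δ` is as large as possible. -/
def IsMax3 (H : Subgroup (Perm α)) (Δ : Finset α) : Prop :=
  3 ≤ Δ.card ∧ All3 H Δ ∧ ∀ Δ' : Finset α, 3 ≤ Δ'.card → All3 H Δ' → Δ'.card ≤ Δ.card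

theorem IsMax3.mem_of_cyc {H : Subgroup (Perm α)} {Δ : Finset α} (hΔ : IsMax3 H Δ) {a y z : α}
    (hay : a ≠ y) (haz : a ≠ z) (hyz : y ≠ z) (h : cyc a y z ∈ H) (ha : a ∈ Δ) :
    y ∈ Δ ∧ z ∈ Δ := by
  obtain ⟨h3, hall, hmax⟩ := hΔ
  have grow : ∀ p ∈ Δ, ∀ q ∈ Δ, ∀ x, p ≠ q → x ∉ Δ → cyc p q x ∉ H := by
    intro p hp q hq x hpq hx hmem
    have hc := hmax (insert x Δ) (by rw [Finset.card_insert_of_notMem hx]; omega)
      (all3_insert hall hp hq hpq hx hmem)
    rw [Finset.card_insert_of_notMem hx] at hc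
    omega
  by_cases hy : y ∈ Δ
  · exact ⟨hy, by_contra fun hz => grow a ha y hy z hay hz h⟩
  by_cases hz : z ∈ Δ
  · rw [cyc_rot hay haz hyz, cyc_rot hyz hay.symm haz.symm] at h
    exact absurd h (grow z hz a ha y haz.symm hy)
  obtain ⟨b, hb, hba⟩ := Finset.exists_mem_ne (s := Δ) (by omega) a
  obtain ⟨e, he, hea, heb⟩ : ∃ e ∈ Δ, e ≠ a ∧ e ≠ b := by
    obtain ⟨e, he, hne⟩ := Finset.exists_mem_ne (s := Δ.erase a)
      (by rw [Finset.card_erase_of_mem ha]; omega) b
    exact ⟨e, Finset.mem_of_mem_erase he, Finset.ne_of_mem_erase he, hne⟩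
  have hg := hall a ha b hb e he hba.symm hea.symm heb.symm
  have h1 := H.mul_mem (H.mul_mem h hg) (H.inv_mem h)
  rw [cyc_conj, cyc_fst hay hyz, cyc_apply_of_ne hba (fun q : b = y => hy (q ▸ hb)) (fun q : b = z => hz (q ▸ hb)),
    cyc_apply_of_ne hea (fun q : e = y => hy (q ▸ he)) (fun q : e = z => hz (q ▸ he))] at h1
  rw [cyc_rot (fun q : y = b => hy (q.symm ▸ hb)) (fun q : y = e => hy (q.symm ▸ he)) heb.symm] at h1
  exact absurd h1 (grow b hb e he y heb.symm hy)

/-- The group generated by the `3`-cycles on `Δ`. -/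
def K3 (Δ : Finset α) : Subgroup (Perm α) :=
  closure {σ | ∃ a ∈ Δ, ∃ b ∈ Δ, ∃ c ∈ Δ, a ≠ b ∧ a ≠ c ∧ b ≠ c ∧ σ = cyc a b c}

theorem cyc_mem_K3 {Δ : Finset α} {a b c : α} (ha : a ∈ Δ) (hb : b ∈ Δ) (hc : c ∈ Δ)
    (hab : a ≠ b) (hac : a ≠ c) (hbc : b ≠ c) : cyc a b c ∈ K3 Δ :=
  subset_closure ⟨a, ha, b, hb, c, hc, hab, hac, hbc, rfl⟩

theorem apply_of_mem_K3 {Δ : Finset α} {σ : Perm α} (h : σ ∈ K3 Δ) {x : α} (hx : x ∉ Δ) :
    σ x = x := by
  induction h using closure_induction with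
  | mem σ hσ =>
    obtain ⟨a, ha, b, hb, c, hc, -, -, -, rfl⟩ := hσ
    exact cyc_apply_of_ne (fun e => hx (e ▸ ha)) (fun e => hx (e ▸ hb)) (fun e => hx (e ▸ hc))
  | one => rfl
  | mul _ _ _ _ h1 h2 => simp [h1, h2]
  | inv _ _ h1 => rw [Perm.inv_eq_iff_eq, h1]

theorem map_K3 (g : Perm α) (Δ : Finset α) :
    (K3 Δ).map (MulAut.conj g).toMonoidHom ≤ K3 (Δ.image g) := by
  rw [K3, MonoidHom.map_closure, closure_le]
  rintro _ ⟨_, ⟨a, ha, b, hb, c, hc, hab, hac, hbc, rfl⟩, rfl⟩
  refine subset_closure ⟨g a, Finset.mem_image_of_mem g ha, g b, Finset.mem_image_of_mem g hb,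
    g c, Finset.mem_image_of_mem g hc, g.injective.ne hab, g.injective.ne hac, g.injective.ne hbc,
    cyc_conj g a b c⟩

theorem map_alternatingGroup (Δ : Finset α) :
    (alternatingGroup {x // x ∈ Δ}).map (Perm.ofSubtype (p := (· ∈ Δ))) = K3 Δ := by
  have hcyc : ∀ u v w : {x // x ∈ Δ},
      Perm.ofSubtype (cyc u v w) = cyc (u : α) (v : α) (w : α) := fun u v w => by
    rw [cyc, cyc, map_mul, Perm.ofSubtype_swap_eq, Perm.ofSubtype_swap_eq]
  refine le_antisymm ?_ ?_
  · rw [← Perm.closure_three_cycles_eq_alternating, MonoidHom.map_closure, closure_le]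
    rintro _ ⟨σ, hσ, rfl⟩
    obtain ⟨u, v, w, huv, huw, hvw, rfl⟩ := exists_cyc (σ := σ) hσ
    rw [hcyc]
    exact cyc_mem_K3 u.2 v.2 w.2 (Subtype.coe_injective.ne huv) (Subtype.coe_injective.ne huw)
      (Subtype.coe_injective.ne hvw)
  · rw [K3, closure_le]
    rintro _ ⟨a, ha, b, hb, c, hc, hab, hac, hbc, rfl⟩
    refine ⟨cyc ⟨a, ha⟩ ⟨b, hb⟩ ⟨c, hc⟩, ?_, hcyc _ _ _⟩
    exact Perm.IsThreeCycle.mem_alternatingGroup (cyc_isThreeCycle
      (fun e => hab (congrArg Subtype.val e)) (fun e => hac (congrArg Subtype.val e))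
      (fun e => hbc (congrArg Subtype.val e)))

/-- `K3 Δ` is the alternating group on `Δ`. -/
noncomputable def k3Equiv (Δ : Finset α) :
    ↥(alternatingGroup (Fin Δ.card)) ≃* ↥(K3 Δ) :=
  ((Equiv.altCongrHom Δ.equivFin.symm).trans
    (equivMapOfInjective _ Perm.ofSubtype Perm.ofSubtype_injective)).trans
    (MulEquiv.subgroupCongr (map_alternatingGroup Δ))

theorem isSolvable_alternatingGroup_four :
    Group.IsSolvable ↥(alternatingGroup (Fin 4)) := by
  have h4 : Nat.card (Fin 4) = 4 := by simp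
  have : IsKleinFour ↥(alternatingGroup.kleinFour (Fin 4)) :=
    alternatingGroup.kleinFour_isKleinFour h4
  refine (isSolvable_def _).2 ⟨2, ?_⟩
  rw [derivedSeries_succ, derivedSeries_one, ← alternatingGroup.kleinFour_eq_commutator h4,
    eq_bot_iff, commutator_le]
  intro a ha b hb
  rw [mem_bot, commutatorElement_eq_one_iff_mul_comm]
  exact congrArg Subtype.val (mul_comm_of_exponent_two IsKleinFour.exponent_two
    (⟨a, ha⟩ : ↥(alternatingGroup.kleinFour (Fin 4))) ⟨b, hb⟩)

end Cyc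

theorem exists_triples {n : ℕ} (H : Subgroup (Perm (Fin n))) (P : Sylow 3 (Perm (Fin n)))
    (hP : (P : Subgroup (Perm (Fin n))) ≤ H) :
    ∃ L : Finset (Fin n), L.card ≤ 2 ∧ ∀ x ∉ L, ∃ b c, x ≠ b ∧ x ≠ c ∧ b ≠ c ∧ cyc x b c ∈ H := by
  classical
  let pt : Fin (n / 3) → Fin 3 → Fin n := fun i j => ⟨3 * i + j, by omega⟩
  have hpt : ∀ i j i' j', pt i j = pt i' j' → i = i' ∧ j = j' := by
    intro i j i' j' h
    have h' : 3 * (i : ℕ) + j = 3 * (i' : ℕ) + j' := congrArg Fin.val h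
    exact ⟨Fin.ext (by omega), Fin.ext (by omega)⟩
  let c : Fin (n / 3) → Perm (Fin n) := fun i => cyc (pt i 0) (pt i 1) (pt i 2)
  have hne : ∀ i (j j' : Fin 3), j ≠ j' → pt i j ≠ pt i j' := fun i j j' h e => h (hpt _ _ _ _ e).2
  have hcomm : ∀ i i', c i * c i' = c i' * c i := by
    intro i i'
    by_cases h : i = i'
    · rw [h]
    · have hfix : ∀ j, c i (pt i' j) = pt i' j := fun j =>
        cyc_apply_of_ne (fun e => h (hpt _ _ _ _ e).1.symm) (fun e => h (hpt _ _ _ _ e).1.symm)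
          (fun e => h (hpt _ _ _ _ e).1.symm)
      have h1 : c i * c i' * (c i)⁻¹ = c i' := by
        rw [cyc_conj, hfix, hfix, hfix]
      rwa [mul_inv_eq_iff_eq_mul] at h1
  set E : Subgroup (Perm (Fin n)) := closure (Set.range c) with hE
  have hEc : ∀ x ∈ E, ∀ y ∈ E, x * y = y * x := by
    have h1 : E ≤ centralizer (Set.range c) := by
      rw [hE, closure_le]
      rintro _ ⟨i, rfl⟩
      rw [SetLike.mem_coe, mem_centralizer_iff]
      rintro _ ⟨j, rfl⟩
      exact hcomm j i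
    have h2 : E ≤ centralizer (E : Set (Perm (Fin n))) := by
      conv_lhs => rw [hE]
      rw [closure_le]
      rintro _ ⟨i, rfl⟩
      rw [SetLike.mem_coe, mem_centralizer_iff]
      exact fun x hx => ((mem_centralizer_iff.1 (h1 hx)) _ ⟨i, rfl⟩).symm
    exact fun x hx y hy => mem_centralizer_iff.1 (h2 hy) x hx
  have hEp : IsPGroup 3 ↥E := by
    rintro ⟨x, hx⟩
    refine ⟨1, Subtype.ext ?_⟩
    show x ^ 3 ^ 1 = 1
    rw [pow_one]
    suffices h : x ∈ E ∧ x ^ 3 = 1 from h.2
    induction hx using closure_induction with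
    | mem x hx =>
      obtain ⟨i, rfl⟩ := hx
      refine ⟨subset_closure ⟨i, rfl⟩, ?_⟩
      have := (cyc_isThreeCycle (hne i 0 1 (by decide)) (hne i 0 2 (by decide))
        (hne i 1 2 (by decide))).orderOf
      rw [← this]
      exact pow_orderOf_eq_one _
    | one => exact ⟨one_mem E, one_pow 3⟩
    | mul x y _ _ h1 h2 =>
      refine ⟨mul_mem h1.1 h2.1, ?_⟩
      rw [(show Commute x y from hEc x h1.1 y h2.1).mul_pow, h1.2, h2.2, one_mul]
    | inv x _ h1 => exact ⟨inv_mem h1.1, by rw [inv_pow, h1.2, inv_one]⟩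
  obtain ⟨Q, hQ⟩ := hEp.exists_le_sylow
  have : Fact (Nat.Prime 3) := ⟨Nat.prime_three⟩
  obtain ⟨g, hg⟩ := MulAction.exists_smul_eq (Perm (Fin n)) Q P
  have hgc : ∀ i, cyc (g (pt i 0)) (g (pt i 1)) (g (pt i 2)) ∈ H := by
    intro i
    refine hP ?_
    rw [← hg, Sylow.coe_subgroup_smul, ← cyc_conj]
    exact smul_mem_pointwise_smul _ _ _ (hQ (subset_closure ⟨i, rfl⟩))
  refine ⟨(Finset.univ.filter fun x : Fin n => 3 * (n / 3) ≤ x.val).image g, ?_, fun x hx => ?_⟩
  · refine Finset.card_image_le.trans ?_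
    calc (Finset.univ.filter fun x : Fin n => 3 * (n / 3) ≤ x.val).card
        ≤ (Finset.Ico (3 * (n / 3)) n).card := by
          refine Finset.card_le_card_of_injOn Fin.val (fun a ha => ?_) Fin.val_injective.injOn
          rw [Finset.mem_coe, Finset.mem_filter] at ha
          rw [Finset.mem_coe, Finset.mem_Ico]
          exact ⟨ha.2, a.isLt⟩
      _ ≤ 2 := by rw [Nat.card_Ico]; omega
  · obtain ⟨y, rfl⟩ := g.surjective x
    have hy : y.val < 3 * (n / 3) := by
      by_contra h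
      exact hx (Finset.mem_image_of_mem g (Finset.mem_filter.2 ⟨Finset.mem_univ _, not_lt.1 h⟩))
    set i : Fin (n / 3) := ⟨y.val / 3, by omega⟩ with hi
    have hyi : y = pt i 0 ∨ y = pt i 1 ∨ y = pt i 2 := by
      rcases (show y.val % 3 = 0 ∨ y.val % 3 = 1 ∨ y.val % 3 = 2 by omega) with h | h | h
      · exact Or.inl (Fin.ext (show y.val = 3 * (y.val / 3) + 0 by omega))
      · exact Or.inr (Or.inl (Fin.ext (show y.val = 3 * (y.val / 3) + 1 by omega)))
      · exact Or.inr (Or.inr (Fin.ext (show y.val = 3 * (y.val / 3) + 2 by omega)))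
    have h01 := g.injective.ne (hne i 0 1 (by decide))
    have h02 := g.injective.ne (hne i 0 2 (by decide))
    have h12 := g.injective.ne (hne i 1 2 (by decide))
    rcases hyi with h | h | h <;> rw [h]
    · exact ⟨_, _, h01, h02, h12, hgc i⟩
    · refine ⟨_, _, h12, h01.symm, h02.symm, ?_⟩
      rw [← cyc_rot h01 h02 h12]
      exact hgc i
    · refine ⟨_, _, h02.symm, h12.symm, h01, ?_⟩
      rw [cyc_rot h02.symm h12.symm h01]
      exact hgc i


/-- Let n ≥ 5 and let H be a subgroup of the symmetric group of degree n whose generalized Fitting subgroup F*(H) is quasisimple. If H contains a Sylow 3-subgroup of the symmetric group, then F*(H) is isomorphic to an alternating group of degree m for some m ∈ {n − 2, n − 1, n}. -/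
theorem result (n : ℕ) (hn : 5 ≤ n) (H : Subgroup (Equiv.Perm (Fin n))) (hF : Cfsg.IsQuasisimple ↥(Cfsg.generalizedFittingSubgroup ↥H)) (hS : ∃ P : Sylow 3 (Equiv.Perm (Fin n)), (P : Subgroup (Equiv.Perm (Fin n))) ≤ H) : ∃ m : ℕ, (m = n - 2 ∨ m = n - 1 ∨ m = n) ∧ Nonempty (↥(Cfsg.generalizedFittingSubgroup ↥H) ≃* ↥(alternatingGroup (Fin m))) := by
  classical
  obtain ⟨P, hP⟩ := hS
  obtain ⟨L, hL, hLcyc⟩ := exists_triples H P hP
  obtain ⟨x₀, hx₀⟩ : ∃ x, x ∉ L := by
    by_contra h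
    push Not at h
    have h1 : (Finset.univ : Finset (Fin n)).card ≤ L.card :=
      Finset.card_le_card fun a _ => h a
    rw [Finset.card_univ, Fintype.card_fin] at h1
    omega
  set F : Subgroup ↥H := Cfsg.generalizedFittingSubgroup ↥H with hFdef
  have hFc : Cfsg.IsComponent F :=
    ⟨(Cfsg.Agent.Components.generalizedFittingSubgroup_normal ↥H).isSubnormal, hF⟩
  -- the normal subgroup generated by the `3`-cycles
  set T : Subgroup ↥H := closure {h : ↥H | Perm.IsThreeCycle (h : Perm (Fin n))} with hT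
  have hTn : T.Normal := by
    rw [← normalizer_eq_top_iff, eq_top_iff]
    rintro h -
    refine Cfsg.Agent.LocalStructure.mem_normalizer_of_map_conj_le ?_
    rw [hT, MonoidHom.map_closure, closure_le]
    rintro _ ⟨c, hc, rfl⟩
    refine subset_closure ?_
    show Perm.IsThreeCycle ((h : Perm (Fin n)) * (c : Perm (Fin n)) * (h : Perm (Fin n))⁻¹)
    rw [Perm.IsThreeCycle, Perm.cycleType_conj]
    exact hc
  have hK : ∀ Δ : Finset (Fin n), IsMax3 H Δ →
      K3 Δ ≤ H ∧ ((K3 Δ).subgroupOf H).IsSubnormal := by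
    intro Δ hΔ
    have hle : K3 Δ ≤ H := by
      rw [K3, closure_le]
      rintro _ ⟨a, ha, b, hb, c, hc, hab, hac, hbc, rfl⟩
      exact hΔ.2.1 a ha b hb c hc hab hac hbc
    refine ⟨hle, ?_⟩
    have hKT : (K3 Δ).subgroupOf H ≤ T := by
      have h1 : K3 Δ ≤ T.map H.subtype := by
        rw [K3, closure_le]
        rintro _ ⟨a, ha, b, hb, c, hc, hab, hac, hbc, rfl⟩
        exact ⟨⟨_, hΔ.2.1 a ha b hb c hc hab hac hbc⟩,
          subset_closure (cyc_isThreeCycle hab hac hbc), rfl⟩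
      intro k hk
      exact (mem_map_iff_mem H.subtype_injective).1 (h1 hk)
    refine Subgroup.IsSubnormal.step _ T hKT hTn.isSubnormal
      ((normal_subgroupOf_iff_le_normalizer hKT).2 ?_)
    rw [hT, closure_le]
    intro t ht
    obtain ⟨a, b, c, hab, hac, hbc, he⟩ := exists_cyc ht
    refine Cfsg.Agent.LocalStructure.mem_normalizer_of_map_conj_le ?_
    rintro _ ⟨k, hk, rfl⟩
    have himg : Δ.image (t : Perm (Fin n)) ⊆ Δ := by
      intro y hy
      obtain ⟨x, hx, rfl⟩ := Finset.mem_image.1 hy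
      by_contra hnot
      rw [he] at hnot
      have hH : cyc a b c ∈ H := he ▸ t.2
      by_cases hxa : x = a
      · subst hxa
        exact hnot ((cyc_fst hab hbc).symm ▸ (hΔ.mem_of_cyc hab hac hbc hH hx).1)
      by_cases hxb : x = b
      · subst hxb
        rw [cyc_rot hab hac hbc] at hnot hH
        exact hnot ((cyc_fst hbc hac.symm).symm ▸ (hΔ.mem_of_cyc hbc hab.symm hac.symm hH hx).1)
      by_cases hxc : x = c
      · subst hxc
        rw [cyc_rot hab hac hbc, cyc_rot hbc hab.symm hac.symm] at hnot hH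
        exact hnot ((cyc_fst hac.symm hab).symm ▸ (hΔ.mem_of_cyc hac.symm hbc.symm hab hH hx).1)
      exact hnot ((cyc_apply_of_ne hxa hxb hxc).symm ▸ hx)
    have hsub : K3 (Δ.image (t : Perm (Fin n))) ≤ K3 Δ := by
      rw [K3, closure_le]
      rintro _ ⟨a, ha, b, hb, c, hc, hab, hac, hbc, rfl⟩
      exact cyc_mem_K3 (himg ha) (himg hb) (himg hc) hab hac hbc
    exact hsub (map_K3 _ Δ ⟨(k : Perm (Fin n)), hk, rfl⟩)
  obtain ⟨Δ, hΔ⟩ : ∃ Δ, IsMax3 H Δ := by
    obtain ⟨b, c, hxb, hxc, hbc, hmem⟩ := hLcyc x₀ hx₀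
    obtain ⟨Δ, hΔ, hmax⟩ := Finset.exists_max_image
      (Finset.univ.filter fun D : Finset (Fin n) => 3 ≤ D.card ∧ All3 H D) Finset.card
      ⟨{x₀, b, c}, Finset.mem_filter.2 ⟨Finset.mem_univ _,
        (Finset.card_eq_three.2 ⟨x₀, b, c, hxb, hxc, hbc, rfl⟩).ge,
        all3_base hxb hxc hbc hmem⟩⟩
    obtain ⟨-, h3, hall⟩ := Finset.mem_filter.1 hΔ
    exact ⟨Δ, h3, hall, fun D h1 h2 =>
      hmax D (Finset.mem_filter.2 ⟨Finset.mem_univ _, h1, h2⟩)⟩
  obtain ⟨hle, hsn⟩ := hK Δ hΔ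
  by_cases h5 : 5 ≤ Δ.card
  · -- a big block is a component, hence all of `F*`
    have hqA : Cfsg.IsQuasisimple ↥(alternatingGroup (Fin Δ.card)) := by
      have : IsSimpleGroup ↥(alternatingGroup (Fin Δ.card)) :=
        alternatingGroup.isSimpleGroup (by simpa using h5)
      refine Cfsg.Agent.Components.isQuasisimple_of_isSimpleGroup fun hc => ?_
      have h0 : center ↥(alternatingGroup (Fin Δ.card)) = ⊥ :=
        alternatingGroup.center_eq_bot (by simp; omega)
      have h1 : center ↥(alternatingGroup (Fin Δ.card)) = ⊤ :=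
        eq_top_iff.2 fun a _ => mem_center_iff.2 fun b => hc.is_comm.comm b a
      exact (bot_ne_top (α := Subgroup ↥(alternatingGroup (Fin Δ.card)))) (h0.symm.trans h1)
    let e : ↥(alternatingGroup (Fin Δ.card)) ≃* ↥((K3 Δ).subgroupOf H) :=
      (k3Equiv Δ).trans (subgroupOfEquivOfLe hle).symm
    have hKc : Cfsg.IsComponent ((K3 Δ).subgroupOf H) :=
      ⟨hsn, (Cfsg.Agent.Components.isQuasisimple_congr e).1 hqA⟩
    have hKF : (K3 Δ).subgroupOf H = F := by
      refine Cfsg.Agent.Components.IsComponent.eq_of_le hKc hFc ?_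
      exact (Cfsg.Agent.Components.IsComponent.le_layer hKc).trans
        Cfsg.Agent.Components.layer_le_generalizedFittingSubgroup
    have hout : ∀ a b c, a ≠ b → a ≠ c → b ≠ c → cyc a b c ∈ H → a ∈ Δ := by
      intro a b c hab hac hbc hmem
      by_contra ha
      have hb : b ∉ Δ := fun hb =>
        ha ((hΔ.mem_of_cyc hbc hab.symm hac.symm (cyc_rot hab hac hbc ▸ hmem) hb).2)
      have hc : c ∉ Δ := fun hc => ha ((hΔ.mem_of_cyc hac.symm hbc.symm hab
        (cyc_rot hbc hab.symm hac.symm ▸ cyc_rot hab hac hbc ▸ hmem) hc).1)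
      have hfix : ∀ x ∈ Δ, cyc a b c x = x := fun x hx =>
        cyc_apply_of_ne (fun e : x = a => ha (e ▸ hx)) (fun e : x = b => hb (e ▸ hx)) (fun e : x = c => hc (e ▸ hx))
      have hC : (⟨_, hmem⟩ : ↥H) ∈ centralizer (F : Set ↥H) := by
        rw [← hKF, mem_centralizer_iff]
        intro k hk
        refine Subtype.ext (Equiv.ext fun x => ?_)
        show (k : Perm (Fin n)) (cyc a b c x) = cyc a b c ((k : Perm (Fin n)) x)
        by_cases hx : x ∈ Δ
        · have hkx : (k : Perm (Fin n)) x ∈ Δ := by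
            by_contra h
            have h1 := (k : Perm (Fin n)).injective (apply_of_mem_K3 hk h)
            exact h (h1.symm ▸ hx)
          rw [hfix x hx, hfix _ hkx]
        · have hcx : cyc a b c x ∉ Δ := fun h => hx ((cyc a b c).injective (hfix _ h) ▸ h)
          have hk' : (k : Perm (Fin n)) ∈ K3 Δ := hk
          rw [apply_of_mem_K3 hk' hcx, apply_of_mem_K3 hk' hx]
      have h1 := Cfsg.Agent.Components.centralizer_generalizedFittingSubgroup_le hC
      rw [← hFdef, ← hKF] at h1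
      exact hab (((cyc_fst hab hbc).symm.trans (apply_of_mem_K3 h1 ha)).symm)
    refine ⟨Δ.card, ?_, ⟨((MulEquiv.subgroupCongr hKF).symm.trans e.symm)⟩⟩
    have h1 : Finset.univ \ Δ ⊆ L := fun x hx => by
      by_contra hxL
      obtain ⟨b, c, hxb, hxc, hbc, hmem⟩ := hLcyc x hxL
      exact (Finset.mem_sdiff.1 hx).2 (hout x b c hxb hxc hbc hmem)
    have h2 := Finset.card_le_card h1
    rw [Finset.card_sdiff, Finset.inter_univ, Finset.card_univ, Fintype.card_fin] at h2
    have h3 : Δ.card ≤ n := (Finset.card_le_univ Δ).trans (Fintype.card_fin n).le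
    omega
  · exfalso
    -- small blocks are centralised by `F*`
    have hcent : ∀ D, IsMax3 H D → (K3 D).subgroupOf H ≤ centralizer (F : Set ↥H) := by
      intro D hD
      obtain ⟨hDle, hDsn⟩ := hK D hD
      have hle4 : D.card ≤ Δ.card := hΔ.2.2 D hD.1 hD.2.1
      have hsol : Group.IsSolvable ↥(alternatingGroup (Fin D.card)) := by
        rcases (show D.card = 3 ∨ D.card = 4 by have := hD.1; omega) with h | h
        · rw [h]
          have : IsCyclic ↥(alternatingGroup (Fin 3)) :=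
            alternatingGroup.isCyclic_iff_card_le_three.2 (by simp)
          letI := IsCyclic.commGroup (α := ↥(alternatingGroup (Fin 3)))
          infer_instance
        · rw [h]
          exact isSolvable_alternatingGroup_four
      have : Group.IsSolvable ↥((K3 D).subgroupOf H) :=
        Group.isSolvable_of_isSolvable_injective (G' := ↥(alternatingGroup (Fin D.card)))
          (f := ((k3Equiv D).trans (subgroupOfEquivOfLe hDle).symm).symm.toMonoidHom)
          (MulEquiv.injective _)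
      have h1 := Cfsg.Agent.Components.IsComponent.commutator_eq_bot_of_isSolvable hFc hDsn
      rwa [commutator_comm, commutator_eq_bot_iff_le_centralizer] at h1
    have hΔ3 : Δ.card = 3 := by
      by_contra hne
      have h4 : Δ.card = 4 := by have := hΔ.1; omega
      have hab : ∀ x ∈ (K3 Δ).subgroupOf H, ∀ y ∈ (K3 Δ).subgroupOf H, x * y = y * x := by
        intro x hx y hy
        exact (mem_centralizer_iff.1 (hcent Δ hΔ hx)) y
          (Cfsg.Agent.Components.centralizer_generalizedFittingSubgroup_le (hcent Δ hΔ hy)) |>.symm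
      have hc : IsMulCommutative ↥(alternatingGroup (Fin Δ.card)) := ⟨⟨fun u v => by
        let e : ↥(alternatingGroup (Fin Δ.card)) ≃* ↥((K3 Δ).subgroupOf H) :=
          (k3Equiv Δ).trans (subgroupOfEquivOfLe hle).symm
        apply e.injective
        rw [map_mul, map_mul]
        exact Subtype.ext (hab _ (e u).2 _ (e v).2)⟩⟩
      have h0 : center ↥(alternatingGroup (Fin Δ.card)) = ⊥ :=
        alternatingGroup.center_eq_bot (by simp; omega)
      have h1 : center ↥(alternatingGroup (Fin Δ.card)) = ⊤ :=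
        eq_top_iff.2 fun a _ => mem_center_iff.2 fun b => hc.is_comm.comm b a
      have : Nontrivial ↥(alternatingGroup (Fin Δ.card)) :=
        alternatingGroup.nontrivial_of_three_le_card (by simp; omega)
      exact (bot_ne_top (α := Subgroup ↥(alternatingGroup (Fin Δ.card)))) (h0.symm.trans h1)
    -- so `F*` commutes with every `3`-cycle of `H`
    have hcyc : ∀ a b c, a ≠ b → a ≠ c → b ≠ c → cyc a b c ∈ H → ∀ g ∈ F,
        (g : Perm (Fin n)) (cyc a b c a) = cyc a b c ((g : Perm (Fin n)) a) ∧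
        (g : Perm (Fin n)) * cyc a b c = cyc a b c * (g : Perm (Fin n)) := by
      intro a b c hab hac hbc hmem g hg
      have hD : IsMax3 H {a, b, c} := by
        have h3 : ({a, b, c} : Finset (Fin n)).card = 3 :=
          Finset.card_eq_three.2 ⟨a, b, c, hab, hac, hbc, rfl⟩
        refine ⟨h3.ge, all3_base hab hac hbc hmem, fun D h1 h2 => ?_⟩
        rw [h3, ← hΔ3]
        exact hΔ.2.2 D h1 h2
      have h1 : (⟨_, hmem⟩ : ↥H) ∈ (K3 ({a, b, c} : Finset (Fin n))).subgroupOf H :=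
        cyc_mem_K3 (by simp) (by simp) (by simp) hab hac hbc
      have h2 := congrArg Subtype.val (mem_centralizer_iff.1 (hcent _ hD h1) g hg)
      exact ⟨congrArg (fun s : Perm (Fin n) => s a) h2, h2⟩
    -- hence `F*` is abelian
    have hcomm : ∀ g ∈ F, ∀ h ∈ F, g * h = h * g := by
      intro g hg h hh
      refine Subtype.ext (Equiv.ext fun x => ?_)
      show (g : Perm (Fin n)) ((h : Perm (Fin n)) x) = (h : Perm (Fin n)) ((g : Perm (Fin n)) x)
      -- the points moved by some `3`-cycle of `H`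
      let U : Fin n → Prop := fun y => ∃ b c, y ≠ b ∧ y ≠ c ∧ b ≠ c ∧ cyc y b c ∈ H
      have hinv : ∀ k : ↥H, ∀ y, U y → U ((k : Perm (Fin n)) y) := by
        rintro k y ⟨b, c, h1, h2, h3, h4⟩
        refine ⟨(k : Perm (Fin n)) b, (k : Perm (Fin n)) c, (k : Perm (Fin n)).injective.ne h1,
          (k : Perm (Fin n)).injective.ne h2, (k : Perm (Fin n)).injective.ne h3, ?_⟩
        rw [← cyc_conj]
        exact H.mul_mem (H.mul_mem k.2 h4) (H.inv_mem k.2)
      by_cases hx : U x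
      · obtain ⟨b, c, hxb, hxc, hbc, hmem⟩ := hx
        set σ := cyc x b c with hσ
        have hmem3 : ∀ k ∈ F, (k : Perm (Fin n)) x = x ∨ (k : Perm (Fin n)) x = σ x ∨
            (k : Perm (Fin n)) x = σ (σ x) := by
          intro k hk
          have h1 := (hcyc x b c hxb hxc hbc hmem k hk).1
          rw [← hσ] at h1
          have hb : σ x = b := cyc_fst hxb hbc
          have hc : σ (σ x) = c := by
            rw [hb, hσ, cyc_rot hxb hxc hbc]
            exact cyc_fst hbc hxc.symm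
          rw [hc, hb]
          by_contra hno
          push Not at hno
          have h5 : σ ((k : Perm (Fin n)) x) = (k : Perm (Fin n)) x :=
            cyc_apply_of_ne hno.1 hno.2.1 hno.2.2
          rw [h5, hb] at h1
          exact hxb ((k : Perm (Fin n)).injective h1).symm
        have hc2 : ∀ k ∈ F, ∀ y, (k : Perm (Fin n)) (σ y) = σ ((k : Perm (Fin n)) y) := fun k hk y =>
          congrArg (fun s : Perm (Fin n) => s y) (hcyc x b c hxb hxc hbc hmem k hk).2
        rcases hmem3 g hg with e1 | e1 | e1 <;> rcases hmem3 h hh with e2 | e2 | e2 <;>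
          simp only [e1, e2, hc2 g hg, hc2 h hh]
      · have hU : ∀ k : ↥H, ¬ U ((k : Perm (Fin n)) x) := fun k hk => by
          have h1 := hinv k⁻¹ _ hk
          rw [Subgroup.coe_inv, Perm.inv_def, Equiv.symm_apply_apply] at h1
          exact hx h1
        have hLmem : ∀ y, ¬ U y → y ∈ L := fun y hy => by_contra fun h => hy (hLcyc y h)
        have m0 := hLmem x hx
        have m1 := hLmem _ (hU g)
        have m2 := hLmem _ (hU h)
        have m3 : (g : Perm (Fin n)) ((h : Perm (Fin n)) x) ∈ L := hLmem _ (hU (g * h))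
        have m4 : (h : Perm (Fin n)) ((g : Perm (Fin n)) x) ∈ L := hLmem _ (hU (h * g))
        have key : ∀ p ∈ L, ∀ q ∈ L, ∀ r ∈ L, p ≠ q → p ≠ r → q ≠ r → False :=
          fun p hp q hq r hr h1 h2 h3 => by
            have h4 : ({p, q, r} : Finset (Fin n)) ⊆ L := by
              simp [Finset.insert_subset_iff, hp, hq, hr]
            have h5 := Finset.card_le_card h4
            rw [Finset.card_eq_three.2 ⟨p, q, r, h1, h2, h3, rfl⟩] at h5
            omega
        have ig := (g : Perm (Fin n)).injective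
        have ih := (h : Perm (Fin n)).injective
        grind
    exact Cfsg.Agent.Components.IsQuasisimple.not_isMulCommutative hF
      ⟨⟨fun a b => Subtype.ext (hcomm a a.2 b b.2)⟩⟩

end Cfsg.Agent.S2929
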