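import Cfsg.Statements.S4231
import Mathlib
import Cfsg.Agent.S2119
-- import your own Cfsg.Agent.* helpers here

set_option autoImplicit false
open Cfsg

namespace Cfsg.Agent.S4231

open Equiv Equiv.Perm

theorem not_pow_two_dvd_factorial (q : ℕ) (hq : q.Prime) : ¬ q ^ 2 ∣ q.factorial := by
  intro h
  obtain ⟨r, hr⟩ : ∃ r, q = r + 1 := ⟨q - 1, (Nat.sub_add_cancel hq.one_le).symm⟩
  have hf : q.factorial = q * r.factorial := by rw [hr, Nat.factorial_succ]
  rw [pow_two, hf] at h
  have h1 := (hq.dvd_factorial).1 (Nat.dvd_of_mul_dvd_mul_left hq.pos h)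
  omega

/-- A `q`-subgroup of a symmetric group of degree less than `q²` is abelian. -/
theorem comm_of_card_lt {n q : ℕ} [hq : Fact q.Prime] (hn : n < q ^ 2) (P : Subgroup (Perm (Fin n)))
    (hP : IsPGroup q P) (a b : P) : a * b = b * a := by
  classical
  apply Subtype.ext
  refine Equiv.ext fun x => ?_
  let O := MulAction.orbit P x
  obtain ⟨k, hk⟩ := hP.card_orbit x
  have hk1 : k ≤ 1 := by
    have h1 : Nat.card O ≤ n := by
      simpa using Nat.card_le_card_of_injective (fun y : O => (y : Fin n)) Subtype.val_injective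
    by_contra hc
    push Not at hc
    have := Nat.pow_le_pow_right hq.out.pos (show 2 ≤ k by omega)
    rw [← hk] at this
    exact absurd (this.trans h1) (not_le.2 hn)
  let f : P →* Perm O := MulAction.toPermHom P O
  obtain ⟨j, hj⟩ := (hP.of_surjective f.rangeRestrict f.rangeRestrict_surjective).exists_card_eq
  have hj1 : j ≤ 1 := by
    by_contra hc
    push Not at hc
    have h2 := Subgroup.card_subgroup_dvd_card f.range
    rw [hj, Nat.card_perm, hk] at h2
    have h3 : (q ^ k).factorial ∣ q.factorial :=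
      Nat.factorial_dvd_factorial (le_of_le_of_eq (Nat.pow_le_pow_right hq.out.pos hk1) (pow_one q))
    exact not_pow_two_dvd_factorial q hq.out
      ((pow_dvd_pow q (show 2 ≤ j by omega)).trans (h2.trans h3))
  have hc : f a * f b = f b * f a := by
    have hcyc : IsCyclic f.range := by
      rcases Nat.le_one_iff_eq_zero_or_eq_one.1 hj1 with rfl | rfl
      · have : Subsingleton f.range := (Nat.card_eq_one_iff_unique.1 (by rw [hj, pow_zero])).1
        infer_instance
      · exact isCyclic_of_prime_card (p := q) (by rw [hj, pow_one])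
    let _ : CommGroup f.range := IsCyclic.commGroup
    exact congrArg Subtype.val (mul_comm (⟨f a, a, rfl⟩ : f.range) ⟨f b, b, rfl⟩)
  have h1 := congrArg (fun σ : Perm O => (σ ⟨x, MulAction.mem_orbit_self x⟩ : Fin n)) hc
  exact h1

/-- An element of prime product order in the alternating group. -/
theorem exists_orderOf_mul {n p q : ℕ} (hp : p.Prime) (hq : q.Prime) (hpq : p ≠ q) (hq2 : q ≠ 2)
    (h : (p ≠ 2 ∧ p + q ≤ n) ∨ (p = 2 ∧ q + 4 ≤ n)) :
    ∃ σ : alternatingGroup (Fin n), orderOf σ = p * q := by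
  classical
  have hqo : Odd q := hq.odd_of_ne_two hq2
  rcases h with ⟨hp2, hle⟩ | ⟨rfl, hle⟩
  · have hpo : Odd p := hp.odd_of_ne_two hp2
    obtain ⟨σ, hσ⟩ := (Equiv.Perm.exists_with_cycleType_iff (Fin n) (m := {p, q})).2
      ⟨by simpa using hle, by intro a ha; simp at ha; rcases ha with rfl | rfl; exacts [hp.two_le, hq.two_le]⟩
    refine ⟨⟨σ, mem_alternatingGroup.2 ?_⟩, ?_⟩
    · rw [sign_of_cycleType, hσ]
      obtain ⟨a, rfl⟩ := hpo; obtain ⟨b, rfl⟩ := hqo
      simp only [Multiset.insert_eq_cons, Multiset.sum_cons, Multiset.sum_singleton, Multiset.card_cons,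
        Multiset.card_singleton]
      exact Even.neg_one_pow ⟨a + b + 2, by ring⟩
    · rw [Subgroup.orderOf_mk, ← lcm_cycleType, hσ]
      simp only [Multiset.insert_eq_cons, Multiset.lcm_cons, Multiset.lcm_singleton, normalize_eq]
      exact ((Nat.coprime_primes hp hq).2 hpq).lcm_eq_mul
  · obtain ⟨σ, hσ⟩ := (Equiv.Perm.exists_with_cycleType_iff (Fin n) (m := {q, 2, 2})).2
      ⟨by simp; omega, by intro a ha; simp at ha; rcases ha with rfl | rfl; exacts [hq.two_le, le_rfl]⟩
    refine ⟨⟨σ, mem_alternatingGroup.2 ?_⟩, ?_⟩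
    · rw [sign_of_cycleType, hσ]
      obtain ⟨b, rfl⟩ := hqo
      simp only [Multiset.insert_eq_cons, Multiset.sum_cons, Multiset.sum_singleton, Multiset.card_cons,
        Multiset.card_singleton]
      exact Even.neg_one_pow ⟨b + 4, by ring⟩
    · rw [Subgroup.orderOf_mk, ← lcm_cycleType, hσ]
      simp only [Multiset.insert_eq_cons, Multiset.lcm_cons, Multiset.lcm_singleton, normalize_eq]
      show Nat.lcm q (Nat.lcm 2 2) = 2 * q
      rw [Nat.lcm_self, Nat.Coprime.lcm_eq_mul ((Nat.coprime_primes hq Nat.prime_two).2 hq2), mul_comm]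

/-- A five-cycle of `A₆`. -/
def X : alternatingGroup (Fin 6) :=
  ⟨swap 0 1 * swap 1 2 * swap 2 3 * swap 3 4, Perm.mem_alternatingGroup.2 (by decide)⟩

/-- An involution generating `A₆` with `X`. -/
def Y : alternatingGroup (Fin 6) := ⟨swap 0 5 * swap 1 2, Perm.mem_alternatingGroup.2 (by decide)⟩

theorem count_Y : ((Finset.univ : Finset (alternatingGroup (Fin 6))).filter fun b =>
    b ^ 2 = 1 ∧ b ≠ 1 ∧ (X * b) ^ 5 = 1 ∧ (X ^ 2 * b) ^ 4 = 1).card = 10 := by decide +kernel

theorem rel_Y : Y ^ 2 = 1 ∧ Y ≠ 1 ∧ (X * Y) ^ 5 = 1 ∧ (X ^ 2 * Y) ^ 4 = 1 := by decide +kernel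

theorem ord_rel : X ^ 5 = 1 ∧ X ≠ 1 ∧ (X * Y * X ^ 2 * Y * X ^ 3 * Y) ^ 3 = 1 ∧
    X * Y * X ^ 2 * Y * X ^ 3 * Y ≠ 1 ∧ (X ^ 2 * Y) ^ 2 ≠ 1 := by decide +kernel

theorem no_even_four : ∀ σ : Perm (Fin 6), σ 0 = 0 → σ ^ 4 = 1 → σ ^ 2 ≠ 1 → Perm.sign σ = -1 := by
  decide +kernel

attribute [local irreducible] X Y

theorem card_A6 : Nat.card (alternatingGroup (Fin 6)) = 360 := by
  rw [nat_card_alternatingGroup, Nat.card_fin]; decide

theorem closure_XY : Subgroup.closure ({X, Y} : Set (alternatingGroup (Fin 6))) = ⊤ := by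
  set H := Subgroup.closure ({X, Y} : Set (alternatingGroup (Fin 6))) with hH
  have hX : X ∈ H := Subgroup.subset_closure (by simp)
  have hY : Y ∈ H := Subgroup.subset_closure (by simp)
  obtain ⟨h5, h51, h3, h31, h2⟩ := ord_rel
  have h4 := rel_Y.2.2.2
  have : Fact (Nat.Prime 5) := ⟨by norm_num⟩
  have : Fact (Nat.Prime 3) := ⟨Nat.prime_three⟩
  have : Fact (Nat.Prime 2) := ⟨Nat.prime_two⟩
  have d5 : 5 ∣ Nat.card H := (orderOf_eq_prime h5 h51) ▸ Subgroup.orderOf_dvd_natCard H hX
  have d3 : 3 ∣ Nat.card H := (orderOf_eq_prime h3 h31) ▸ Subgroup.orderOf_dvd_natCard H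
    (mul_mem (mul_mem (mul_mem (mul_mem (mul_mem hX hY) (pow_mem hX 2)) hY) (pow_mem hX 3)) hY)
  have ho4 : orderOf (X ^ 2 * Y) = 2 ^ 2 := orderOf_eq_prime_pow (by simpa using h2) (by simpa using h4)
  have d4 : 4 ∣ Nat.card H := by
    have := Subgroup.orderOf_dvd_natCard H (mul_mem (pow_mem hX 2) hY)
    rw [ho4] at this; exact this
  have d60 : 60 ∣ Nat.card H :=
    Nat.Coprime.mul_dvd_of_dvd_of_dvd (show Nat.Coprime 12 5 by norm_num)
      (Nat.Coprime.mul_dvd_of_dvd_of_dvd (show Nat.Coprime 4 3 by norm_num) d4 d3) d5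
  have hi := H.card_mul_index
  rw [card_A6] at hi
  have hidx : H.index ∣ 6 := by
    obtain ⟨c, hc⟩ := d60
    rw [hc] at hi
    exact Dvd.intro_left c (by nlinarith)
  by_contra hne
  have hne1 : H.index ≠ 1 := fun h => hne (Subgroup.index_eq_one.1 h)
  have : IsSimpleGroup (alternatingGroup (Fin 6)) := alternatingGroup.isSimpleGroup (by simp)
  let f := MulAction.toPermHom (alternatingGroup (Fin 6)) (alternatingGroup (Fin 6) ⧸ H)
  have hker : f.ker = ⊥ := by
    rcases (inferInstance : f.ker.Normal).eq_bot_or_eq_top with h | h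
    · exact h
    · exfalso
      apply hne
      rw [eq_top_iff]
      intro g _
      have h1 : f g = 1 := h.ge (Subgroup.mem_top g)
      have h2 := congrArg (fun σ : Perm _ => σ ((1 : alternatingGroup (Fin 6)) : _ ⧸ H)) h1
      have h2' : ((g * 1 : alternatingGroup (Fin 6)) : _ ⧸ H) = ((1 : alternatingGroup (Fin 6)) : _ ⧸ H) := h2
      simpa using inv_mem (QuotientGroup.eq.1 h2')
  have hinj : Function.Injective f := f.ker_eq_bot_iff.1 hker
  have hQ : Nat.card (alternatingGroup (Fin 6) ⧸ H) = 6 := by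
    have h1 : (360 : ℕ) ≤ (H.index).factorial := by
      rw [← card_A6, Subgroup.index_eq_card, ← Nat.card_perm]
      exact Nat.card_le_card_of_injective f hinj
    have h2 := Nat.le_of_dvd (by norm_num) hidx
    rw [← Subgroup.index_eq_card]
    interval_cases h : H.index <;> simp_all [Nat.factorial] <;> omega
  let _ : Fintype (alternatingGroup (Fin 6) ⧸ H) := Fintype.ofFinite _
  let e : (alternatingGroup (Fin 6) ⧸ H) ≃ Fin 6 :=
    (Fintype.equivFinOfCardEq (by rw [← Nat.card_eq_fintype_card, hQ])).trans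
      (Equiv.swap (Fintype.equivFinOfCardEq (by rw [← Nat.card_eq_fintype_card, hQ])
        ((1 : alternatingGroup (Fin 6)) : _ ⧸ H)) 0)
  have he : e ((1 : alternatingGroup (Fin 6)) : _ ⧸ H) = 0 := by simp [e]
  let g : alternatingGroup (Fin 6) →* Perm (Fin 6) := e.permCongrHom.toMonoidHom.comp f
  have hginj : Function.Injective g := e.permCongrHom.injective.comp hinj
  have hsign : ∀ a, Perm.sign (g a) = 1 := by
    intro a
    have hk : (Perm.sign.comp g).ker = ⊤ := by
      refine ((inferInstance : (Perm.sign.comp g).ker.Normal).eq_bot_or_eq_top).resolve_left fun h => ?_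
      have h1 := Nat.card_le_card_of_injective _ ((MonoidHom.ker_eq_bot_iff _).1 h)
      rw [card_A6, Nat.card_eq_fintype_card, Fintype.card_units_int] at h1
      omega
    exact hk.ge (Subgroup.mem_top a)
  have hfix : g (X ^ 2 * Y) 0 = 0 := by
    have h1 : e.symm 0 = ((1 : alternatingGroup (Fin 6)) : _ ⧸ H) := by rw [← he, Equiv.symm_apply_apply]
    show e (f (X ^ 2 * Y) (e.symm 0)) = 0
    rw [h1]
    refine Eq.trans (congrArg e ?_) he
    show ((X ^ 2 * Y * 1 : alternatingGroup (Fin 6)) : _ ⧸ H) = _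
    refine QuotientGroup.eq.2 ?_
    rw [mul_one, mul_one]
    exact inv_mem (mul_mem (pow_mem hX 2) hY)
  have h7 := no_even_four _ hfix (by rw [← map_pow, h4, map_one]) (fun h => h2 (hginj (by
    rw [map_pow, h, map_one])))
  rw [hsign] at h7
  exact absurd h7 (by decide)

theorem card_aut_A6 : Nat.card (MulAut (alternatingGroup (Fin 6))) ∣ 2880 := by
  classical
  let C : Subgroup (MulAut (alternatingGroup (Fin 6))) :=
    { carrier := {α | α X = X}
      one_mem' := rfl
      mul_mem' := fun {α β} (ha : α X = X) (hb : β X = X) => by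
        show α (β X) = X
        rw [hb, ha]
      inv_mem' := fun {α} (ha : α X = X) => by
        show α⁻¹ X = X
        conv_lhs => rw [← ha]
        exact α.symm_apply_apply X }
  let Z := Subgroup.zpowers X
  let St : Subgroup (MulAut (alternatingGroup (Fin 6))) :=
    { carrier := {α | Z.map α.toMonoidHom = Z}
      one_mem' := Subgroup.map_id Z
      mul_mem' := fun {α β} (ha : Z.map α.toMonoidHom = Z) (hb : Z.map β.toMonoidHom = Z) => by
        show Z.map (α * β).toMonoidHom = Z
        rw [show (α * β).toMonoidHom = α.toMonoidHom.comp β.toMonoidHom from rfl, ← Subgroup.map_map, hb, ha]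
      inv_mem' := fun {α} (ha : Z.map α.toMonoidHom = Z) => by
        show Z.map α⁻¹.toMonoidHom = Z
        conv_lhs => rw [← ha]
        rw [Subgroup.map_map, show (α⁻¹).toMonoidHom.comp α.toMonoidHom = MonoidHom.id _ from
          MonoidHom.ext fun a => α.symm_apply_apply a, Subgroup.map_id] }
  have hX5 : orderOf X = 5 := @orderOf_eq_prime _ _ _ _ ⟨by norm_num⟩ ord_rel.1 ord_rel.2.1
  have : Fact (Nat.Prime 5) := ⟨by norm_num⟩
  have hconjX : MulAut.conj X ∈ C := by
    show X * X * X⁻¹ = X
    group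
  have hoconj : orderOf (MulAut.conj X : (MulAut (alternatingGroup (Fin 6)))) = 5 := by
    refine orderOf_eq_prime (by rw [← map_pow, ord_rel.1, map_one]) fun h => ?_
    have h1 : ∀ a, X * a * X⁻¹ = a := fun a => congrArg (fun α : (MulAut (alternatingGroup (Fin 6))) => α a) h
    have h2 := mul_inv_eq_iff_eq_mul.1 (h1 Y)
    have hne : X * Y ≠ Y * X := by decide +kernel
    exact hne h2
  have hC : Nat.card C ∣ 10 := by
    have h5 : 5 ∣ Nat.card C := hoconj ▸ Subgroup.orderOf_dvd_natCard C hconjX
    have hle : Nat.card C ≤ 10 := by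
      rw [← count_Y, ← Nat.card_eq_finsetCard]
      refine Nat.card_le_card_of_injective (fun α => ⟨(α : (MulAut (alternatingGroup (Fin 6)))) Y, ?_⟩) ?_
      · obtain ⟨r1, r2, r3, r4⟩ := rel_Y
        have ha : (α : (MulAut (alternatingGroup (Fin 6)))) X = X := α.2
        simp only [Finset.mem_filter, Finset.mem_univ, true_and]
        refine ⟨by rw [← map_pow, r1, map_one], fun h => r2 ((α : (MulAut (alternatingGroup (Fin 6)))).injective (by rw [h, map_one])), ?_, ?_⟩
        · conv_lhs => rw [← ha]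
          rw [← map_mul, ← map_pow, r3, map_one]
        · conv_lhs => rw [← ha]
          rw [← map_pow, ← map_mul, ← map_pow, r4, map_one]
      · intro α β hab
        have hY : (α : (MulAut (alternatingGroup (Fin 6)))) Y = (β : (MulAut (alternatingGroup (Fin 6)))) Y := congrArg Subtype.val hab
        apply Subtype.ext
        refine MulEquiv.ext fun a => ?_
        have hle : Subgroup.closure ({X, Y} : Set (alternatingGroup (Fin 6))) ≤
            MonoidHom.eqLocus (α : (MulAut (alternatingGroup (Fin 6)))).toMonoidHom (β : (MulAut (alternatingGroup (Fin 6)))).toMonoidHom := by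
          rw [Subgroup.closure_le]
          rintro a (rfl | rfl)
          · exact (α.2 : (α : (MulAut (alternatingGroup (Fin 6)))) X = X).trans (β.2 : (β : (MulAut (alternatingGroup (Fin 6)))) X = X).symm
          · exact hY
        rw [closure_XY] at hle
        exact hle (Subgroup.mem_top a)
    obtain ⟨c, hc⟩ := h5
    have : 0 < Nat.card C := Nat.card_pos
    have hc2 : c ≤ 2 := by omega
    interval_cases c <;> simp_all
  have hSt : Nat.card St ∣ 40 := by
    let res : St →* MulAut Z := MonoidHom.mk'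
      (fun α => ((α : (MulAut (alternatingGroup (Fin 6)))).subgroupMap Z).trans (MulEquiv.subgroupCongr α.2))
      (fun α β => MulEquiv.ext fun z => Subtype.ext rfl)
    have hker : Nat.card res.ker ∣ 10 := by
      refine dvd_trans ?_ hC
      let i : res.ker →* C :=
        (St.subtype.comp res.ker.subtype).codRestrict C fun α =>
          congrArg Subtype.val (congrArg (fun γ : MulAut Z => γ ⟨X, Subgroup.mem_zpowers X⟩)
            (MonoidHom.mem_ker.1 α.2))
      exact Subgroup.card_dvd_of_injective i fun α β h =>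
        Subtype.ext (Subtype.ext (congrArg (fun c : C => (c : MulAut (alternatingGroup (Fin 6)))) h))
    have himg : Nat.card res.range ∣ 4 := by
      refine (Subgroup.card_subgroup_dvd_card _).trans (dvd_of_eq ?_)
      rw [IsCyclic.card_mulAut, Nat.card_zpowers, hX5]
      decide
    rw [← res.ker.card_mul_index, Subgroup.index_ker]
    exact Nat.mul_dvd_mul hker himg
  let I : Subgroup (MulAut (alternatingGroup (Fin 6))) := (MulAut.conj : (alternatingGroup (Fin 6)) →* (MulAut (alternatingGroup (Fin 6)))).range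
  have hIn : I.Normal := ⟨by
    rintro _ ⟨a, rfl⟩ α
    refine ⟨α a, MulEquiv.ext fun b => ?_⟩
    show α a * b * (α a)⁻¹ = α (a * α.symm b * a⁻¹)
    rw [map_mul, map_mul, map_inv, MulEquiv.apply_symm_apply]⟩
  have hsup : I ⊔ St = ⊤ := by
    rw [eq_top_iff]
    intro α _
    have hz : ∀ β : (MulAut (alternatingGroup (Fin 6))), IsPGroup 5 (Z.map β.toMonoidHom) := fun β =>
      IsPGroup.of_card (n := 1) (by
        rw [Subgroup.card_map_of_injective β.injective, Nat.card_zpowers, hX5, pow_one])
    have hcard : (Nat.card (alternatingGroup (Fin 6))).factorization 5 = 1 := by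
      rw [card_A6, show (360 : ℕ) = 5 ^ 1 * 72 by norm_num,
        Nat.factorization_mul (by norm_num) (by norm_num), Finsupp.add_apply,
        Nat.factorization_pow_self (by norm_num),
        Nat.factorization_eq_zero_of_not_dvd (by norm_num)]
    let P : (MulAut (alternatingGroup (Fin 6))) → Sylow 5 (alternatingGroup (Fin 6)) := fun β => Sylow.ofCard (Z.map β.toMonoidHom)
      (by rw [Subgroup.card_map_of_injective β.injective, Nat.card_zpowers, hX5, hcard, pow_one])
    obtain ⟨a, ha⟩ := MulAction.exists_smul_eq (alternatingGroup (Fin 6)) (P α) (P 1)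
    have ha' := congrArg Sylow.toSubgroup ha
    rw [Sylow.coe_subgroup_smul] at ha'
    have h1 : MulAut.conj a * α ∈ St := by
      show Z.map (MulAut.conj a * α).toMonoidHom = Z
      rw [show (MulAut.conj a * α).toMonoidHom = (MulAut.conj a).toMonoidHom.comp α.toMonoidHom from rfl,
        ← Subgroup.map_map]
      refine Eq.trans ?_ (Subgroup.map_id Z)
      exact ha'
    have h2 := mul_mem (Subgroup.mem_sup_left (T := St) (inv_mem (⟨a, rfl⟩ : MulAut.conj a ∈ I)))
      (Subgroup.mem_sup_right (S := I) h1)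
    rwa [inv_mul_cancel_left] at h2
  have hrel : I.relIndex St = I.index := by
    rw [← Subgroup.relIndex_top_right I, ← hsup, sup_comm, Subgroup.relIndex_sup_right]
  have hI : Nat.card I ∣ 360 := by
    rw [← card_A6]
    exact Subgroup.card_range_dvd _
  have h5 : 5 ∣ Nat.card (I ⊓ St : Subgroup (MulAut (alternatingGroup (Fin 6)))) := by
    refine hoconj ▸ Subgroup.orderOf_dvd_natCard _ (Subgroup.mem_inf.2 ⟨⟨X, rfl⟩, ?_⟩)
    show Z.map (MulAut.conj X).toMonoidHom = Z
    rw [MonoidHom.map_zpowers]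
    refine congrArg Subgroup.zpowers ?_
    show X * X * X⁻¹ = X
    group
  have hprod : Nat.card (MulAut (alternatingGroup (Fin 6))) * Nat.card (I ⊓ St : Subgroup (MulAut (alternatingGroup (Fin 6)))) = Nat.card I * Nat.card St := by
    have h1 := Subgroup.card_mul_index I
    have h2 := Subgroup.card_mul_index (I.subgroupOf St)
    rw [← Subgroup.relIndex, hrel] at h2
    have h3 : Nat.card (I.subgroupOf St) = Nat.card (I ⊓ St : Subgroup (MulAut (alternatingGroup (Fin 6)))) := by
      rw [← Subgroup.card_map_of_injective St.subtype_injective, Subgroup.subgroupOf_map_subtype]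
    rw [← h1, ← h2, h3]; ring
  obtain ⟨c, hc⟩ := h5
  have h4 : Nat.card I * Nat.card St ∣ 5 * 2880 := Nat.mul_dvd_mul hI hSt |>.trans (dvd_of_eq (by norm_num))
  rw [← hprod, hc, show Nat.card (MulAut (alternatingGroup (Fin 6))) * (5 * c) = 5 * (Nat.card (MulAut (alternatingGroup (Fin 6))) * c) by ring] at h4
  exact (Dvd.intro c rfl).trans (Nat.dvd_of_mul_dvd_mul_left (by norm_num) h4)

theorem main (n : ℕ) (hn : 5 ≤ n) (G : Subgroup (MulAut (alternatingGroup (Fin n))))
    (hG : (MulAut.conj : alternatingGroup (Fin n) →* MulAut (alternatingGroup (Fin n))).range ≤ G)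
    (p q : ℕ) [hp : Fact p.Prime] [hq : Fact q.Prime] (hpq : p ≠ q) (hq2 : q ≠ 2) (h : ∀ g : G, orderOf g ≠ p * q) :
    (∀ P : Sylow p G, IsMulCommutative (P : Subgroup G)) ∨ (∀ Q : Sylow q G, IsMulCommutative (Q : Subgroup G)) := by
  by_cases h6 : n = 6
  · subst h6
    right
    intro Q
    obtain ⟨k, hk⟩ := Q.isPGroup'.exists_card_eq
    have hd : q ^ k ∣ 2880 := hk ▸ (Subgroup.card_subgroup_dvd_card _).trans
      ((Subgroup.card_subgroup_dvd_card G).trans card_aut_A6)
    have hk2 : k ≤ 2 := by
      by_contra hc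
      push Not at hc
      have h3 : q ^ 3 ∣ 2880 := (pow_dvd_pow q hc).trans hd
      have hq15 : q ^ 3 ≤ 2880 := Nat.le_of_dvd (by norm_num) h3
      have hqb : q ≤ 14 := by
        by_contra hh
        push Not at hh
        have h15 : 15 ^ 3 ≤ q ^ 3 := Nat.pow_le_pow_left hh 3
        omega
      have hqp := hq.out
      interval_cases q <;> first | omega | norm_num at hqp | norm_num at h3
    interval_cases k
    · have : Subsingleton (Q : Subgroup G) := (Nat.card_eq_one_iff_unique.1 (by rw [hk, pow_zero])).1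
      exact ⟨⟨fun a b => Subsingleton.elim _ _⟩⟩
    · have := isCyclic_of_prime_card (p := q) (α := (Q : Subgroup G)) (by rw [hk, pow_one])
      let _ : CommGroup (Q : Subgroup G) := IsCyclic.commGroup
      exact ⟨⟨mul_comm⟩⟩
    · exact IsPGroup.isMulCommutative_of_card_eq_prime_sq hk
  have hbij := S2119.result n (by omega) h6
  let e : Perm (Fin n) ≃* MulAut (alternatingGroup (Fin n)) := MulEquiv.ofBijective _ hbij
  have hab : ∀ (r : ℕ) [Fact r.Prime], n < r ^ 2 → ∀ R : Sylow r G, IsMulCommutative (R : Subgroup G) := by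
    intro r _ hr R
    let i : (R : Subgroup G) →* Perm (Fin n) :=
      e.symm.toMonoidHom.comp (G.subtype.comp (R : Subgroup G).subtype)
    have hi : Function.Injective i := e.symm.injective.comp (Subtype.val_injective.comp Subtype.val_injective)
    refine ⟨⟨fun a b => hi ?_⟩⟩
    have := comm_of_card_lt hr i.range (R.isPGroup'.of_surjective _ i.rangeRestrict_surjective)
      ⟨i a, a, rfl⟩ ⟨i b, b, rfl⟩
    rw [map_mul, map_mul]
    exact congrArg Subtype.val this
  by_cases hqn : n < q ^ 2
  · exact Or.inr (hab q hqn)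
  by_cases hpn : n < p ^ 2
  · exact Or.inl (hab p hpn)
  exfalso
  push Not at hqn hpn
  have hq3 : 3 ≤ q := by have := hq.out.two_le; omega
  have hcond : (p ≠ 2 ∧ p + q ≤ n) ∨ (p = 2 ∧ q + 4 ≤ n) := by
    by_cases hp2 : p = 2
    · exact Or.inr ⟨hp2, by nlinarith⟩
    · have hp3 : 3 ≤ p := by have := hp.out.two_le; omega
      exact Or.inl ⟨hp2, by nlinarith⟩
  obtain ⟨σ, hσ⟩ := exists_orderOf_mul hp.out hq.out hpq hq2 hcond
  have hinj : Function.Injective (MulAut.conj : alternatingGroup (Fin n) →* MulAut (alternatingGroup (Fin n))) := by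
    intro a b hab'
    apply Subtype.ext
    apply hbij.1
    refine MulEquiv.ext fun c => ?_
    have := congrArg (fun α : MulAut (alternatingGroup (Fin n)) => α c) hab'
    apply Subtype.ext
    simpa [MulAut.conjNormal_apply] using congrArg Subtype.val this
  refine h ⟨MulAut.conj σ, hG ⟨σ, rfl⟩⟩ ?_
  rw [Subgroup.orderOf_mk, orderOf_injective _ hinj, hσ]


/-- Let n ≥ 5 and let G be a group of automorphisms of the alternating group of degree n containing all inner automorphisms. If p ≠ q are primes and G has no element of order pq, then every Sylow p-subgroup of G is abelian or every Sylow q-subgroup of G is abelian. -/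
theorem result (n : ℕ) (hn : 5 ≤ n) (G : Subgroup (MulAut (alternatingGroup (Fin n))))
    (hG : (MulAut.conj : alternatingGroup (Fin n) →* MulAut (alternatingGroup (Fin n))).range ≤ G)
    (p q : ℕ) [Fact p.Prime] [Fact q.Prime] (hpq : p ≠ q) (h : ∀ g : G, orderOf g ≠ p * q) :
    (∀ P : Sylow p G, IsMulCommutative (P : Subgroup G)) ∨ (∀ Q : Sylow q G, IsMulCommutative (Q : Subgroup G)) := by
  by_cases hq2 : q = 2
  · exact (main n hn G hG q p hpq.symm (fun h2 => hpq (h2.trans hq2.symm)) fun g => by rw [mul_comm q p]; exact h g).symm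
  · exact main n hn G hG p q hpq hq2 h

end Cfsg.Agent.S4231
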