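import Cfsg.Statements.S2930
import Cfsg.Agent.Lib.Perm.ThreeMinimal
import Cfsg.Agent.Lib.Components.GenFitting
import Cfsg.Agent.S2119
import Cfsg.Agent.S4231

set_option autoImplicit false
open Cfsg

namespace Cfsg.Agent.S2930

open scoped Nat
open Cfsg.Agent

theorem card_aut_dvd {n : ℕ} (hn : 5 ≤ n) :
    Nat.card (MulAut (alternatingGroup (Fin n))) ∣ 8 * Nat.card (alternatingGroup (Fin n)) := by
  have : Nontrivial (Fin n) := Fin.nontrivial_iff_two_le.2 (by omega)
  have h2 : 2 * Nat.card (alternatingGroup (Fin n)) = n ! := by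
    rw [two_mul_nat_card_alternatingGroup, Nat.card_perm, Nat.card_fin]
  by_cases h6 : n = 6
  · subst h6
    refine S4231.card_aut_A6.trans (dvd_of_eq ?_)
    have : Nat.factorial 6 = 720 := rfl
    omega
  · rw [← Nat.card_congr (Equiv.ofBijective _ (S2119.result n (by omega) h6)), Nat.card_perm,
      Nat.card_fin, ← h2]
    exact Nat.mul_dvd_mul_right (by norm_num) _

/-- Part one: the group is its generalized Fitting subgroup. -/
theorem eq_top {X : Type*} [Group X] [Finite X] (hX : Cfsg.IsPMinimal 3 X) {n : ℕ} (hn : 5 ≤ n)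
    (e : ↥(Cfsg.generalizedFittingSubgroup X) ≃* ↥(alternatingGroup (Fin n))) :
    Cfsg.generalizedFittingSubgroup X = ⊤ := by
  classical
  have : Fact (Nat.Prime 3) := ⟨Nat.prime_three⟩
  set E := Cfsg.generalizedFittingSubgroup X with hE
  have hEn : E.Normal := Components.generalizedFittingSubgroup_normal X
  have hA : IsSimpleGroup (alternatingGroup (Fin n)) :=
    alternatingGroup.isSimpleGroup (by rw [Nat.card_fin]; exact hn)
  have hES : IsSimpleGroup E := e.isSimpleGroup
  have hnc : Subgroup.center E = ⊥ := by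
    refine (hES.eq_bot_or_eq_top_of_normal _ inferInstance).resolve_right fun h => ?_
    have hcA : Subgroup.center (alternatingGroup (Fin n)) = ⊥ :=
      alternatingGroup.center_eq_bot (by rw [Nat.card_fin]; omega)
    obtain ⟨a, ha⟩ := exists_ne (1 : alternatingGroup (Fin n))
    apply ha
    have : a ∈ Subgroup.center (alternatingGroup (Fin n)) := Subgroup.mem_center_iff.2 fun b => by
      have h' := Subgroup.mem_center_iff.1 (h ▸ Subgroup.mem_top (e.symm a)) (e.symm b)
      simpa using congrArg e h'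
    rwa [hcA, Subgroup.mem_bot] at this
  have hinj : Function.Injective (MulAut.conjNormal : X →* MulAut E) := by
    rw [← MonoidHom.ker_eq_bot_iff, Subgroup.eq_bot_iff_forall]
    intro x hx
    have hc : x ∈ Subgroup.centralizer (E : Set X) := Subgroup.mem_centralizer_iff.2 fun y hy => by
      have h := congrArg Subtype.val (DFunLike.congr_fun (MonoidHom.mem_ker.1 hx) ⟨y, hy⟩)
      rw [MulAut.conjNormal_apply] at h
      simp only [MulAut.one_apply] at h
      exact (mul_inv_eq_iff_eq_mul.1 h).symm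
    have hxE := Components.centralizer_generalizedFittingSubgroup_le hc
    have : (⟨x, hxE⟩ : E) ∈ Subgroup.center E := Subgroup.mem_center_iff.2 fun y =>
      Subtype.ext (Subgroup.mem_centralizer_iff.1 hc y y.2)
    rw [hnc, Subgroup.mem_bot] at this
    exact congrArg Subtype.val this
  have hd : E.index ∣ 8 := by
    have h1 := Subgroup.card_dvd_of_injective _ hinj
    rw [Nat.card_congr (MulAut.congr e).toEquiv] at h1
    have h2 := h1.trans (card_aut_dvd hn)
    rw [← Nat.card_congr e.toEquiv, ← E.index_mul_card] at h2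
    exact Nat.dvd_of_mul_dvd_mul_right Nat.card_pos h2
  by_contra hne
  let Q : Sylow 3 E := default
  have hQX : IsPGroup 3 ((Q : Subgroup E).map E.subtype) := Q.isPGroup'.map _
  obtain ⟨P, hP⟩ := hQX.exists_le_sylow
  obtain ⟨-, M, ⟨hM, hPM⟩, huniq⟩ := hX P
  have hQP : (Q : Subgroup E) = (P : Subgroup X).subgroupOf E :=
    (Q.is_maximal' (P.isPGroup'.comap_of_injective _ E.subtype_injective)
      (fun q hq => hP ⟨q, hq, rfl⟩)).symm
  set N := Subgroup.normalizer (((Q : Subgroup E).map E.subtype : Subgroup X) : Set X) with hN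
  have hPN : (P : Subgroup X) ≤ N := by
    rw [hN, hQP, Subgroup.subgroupOf_map_subtype]
    intro g hg
    rw [Subgroup.mem_normalizer_iff]
    intro h
    refine and_congr ?_ ⟨fun hh => hEn.conj_mem h hh g, fun hh => ?_⟩
    · change h ∈ (P : Subgroup X) ↔ g * h * g⁻¹ ∈ (P : Subgroup X)
      exact ⟨fun hh => mul_mem (mul_mem hg hh) (inv_mem hg), fun hh => by
        simpa [mul_assoc] using mul_mem (mul_mem (inv_mem (show g ∈ (P : Subgroup X) from hg)) hh) hg⟩
    · simpa [mul_assoc] using hEn.conj_mem _ hh g⁻¹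
  have hNE : N ⊔ E = ⊤ := Q.normalizer_sup_eq_top
  have hNtop : N ≠ ⊤ := by
    intro h
    have hQn : (Q : Subgroup E).Normal := by
      refine ⟨fun q hq g => ?_⟩
      have hg : (g : X) ∈ N := h ▸ Subgroup.mem_top _
      obtain ⟨q', hq', e'⟩ := (Subgroup.mem_normalizer_iff.1 hg q).1 ⟨q, hq, rfl⟩
      rw [show g * q * g⁻¹ = q' from Subtype.ext e'.symm]
      exact hq'
    rcases hES.eq_bot_or_eq_top_of_normal _ hQn with hb | ht
    · have h3 : 3 ∣ Nat.card E := by
        rw [Nat.card_congr e.toEquiv]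
        have : Nontrivial (Fin n) := Fin.nontrivial_iff_two_le.2 (by omega)
        have h : 3 ∣ 2 * Nat.card (alternatingGroup (Fin n)) := by
          rw [two_mul_nat_card_alternatingGroup, Nat.card_perm, Nat.card_fin]
          exact Nat.prime_three.dvd_factorial.2 (by omega)
        exact (Nat.Coprime.dvd_mul_left (by norm_num)).1 h
      exact Q.ne_bot_of_dvd_card h3 hb
    · obtain ⟨k, hk⟩ := IsPGroup.iff_card.1 Q.isPGroup'
      rw [ht, Subgroup.card_top, Nat.card_congr e.toEquiv] at hk
      have : Nontrivial (Fin n) := Fin.nontrivial_iff_two_le.2 (by omega)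
      have h : 4 ∣ 2 * Nat.card (alternatingGroup (Fin n)) := by
        rw [two_mul_nat_card_alternatingGroup, Nat.card_perm, Nat.card_fin]
        exact Nat.dvd_factorial (by norm_num) (by omega)
      obtain ⟨c, hc⟩ := h
      have h2 : 2 ∣ 3 ^ k := ⟨c, by omega⟩
      exact absurd (Nat.prime_two.dvd_of_dvd_pow h2) (by norm_num)
  by_cases hEP : E ⊔ P = ⊤
  · refine hne (Subgroup.index_eq_one.1 ?_)
    have hs : Function.Surjective ((QuotientGroup.mk' E).comp (P : Subgroup X).subtype) := by
      intro q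
      obtain ⟨x, rfl⟩ := QuotientGroup.mk'_surjective E q
      obtain ⟨a, ha, p, hp, rfl⟩ := Subgroup.mem_sup_of_normal_left.1 (hEP ▸ Subgroup.mem_top x)
      exact ⟨⟨p, hp⟩, by
        show QuotientGroup.mk' E p = QuotientGroup.mk' E (a * p)
        rw [map_mul, (show QuotientGroup.mk' E a = 1 from (QuotientGroup.eq_one_iff a).2 ha),
          one_mul]⟩
    obtain ⟨k, hk⟩ := IsPGroup.iff_card.1 (P.isPGroup'.of_surjective _ hs)
    rw [← Subgroup.index_eq_card] at hk
    rw [hk] at hd ⊢
    rcases k with _ | k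
    · rfl
    · exact absurd ((dvd_pow_self 3 (Nat.succ_ne_zero k)).trans hd) (by norm_num)
  · obtain ⟨M1, hM1, hle1⟩ := (eq_top_or_exists_le_coatom (E ⊔ P)).resolve_left hEP
    obtain ⟨M2, hM2, hle2⟩ := (eq_top_or_exists_le_coatom N).resolve_left hNtop
    have e1 := huniq M1 ⟨hM1, le_sup_right.trans hle1⟩
    have e2 := huniq M2 ⟨hM2, hPN.trans hle2⟩
    refine hM1.1 (top_le_iff.1 (hNE ▸ sup_le ?_ (le_sup_left.trans hle1)))
    rwa [e1, ← e2]

/-- Let X be a finite 3-minimal group (a Sylow 3-subgroup is not normal and lies in a unique maximal subgroup) whose generalized Fitting subgroup is isomorphic to an alternating group of degree n ≥ 5. Then X = F*(X), and n = 6, n = 9, or n = 3ᵃ + 1 for some a ≥ 2. -/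
theorem result {X : Type*} [Group X] [Finite X] (hX : Cfsg.IsPMinimal 3 X) (n : ℕ) (hn : 5 ≤ n) (hF : Nonempty (↥(Cfsg.generalizedFittingSubgroup X) ≃* ↥(alternatingGroup (Fin n)))) : Cfsg.generalizedFittingSubgroup X = ⊤ ∧ (n = 6 ∨ n = 9 ∨ ∃ a : ℕ, 2 ≤ a ∧ n = 3 ^ a + 1) := by
  classical
  obtain ⟨e⟩ := hF
  have htop := eq_top hX hn e
  refine ⟨htop, ?_⟩
  by_contra hlist
  push Not at hlist
  let ψ : X ≃* ↥(alternatingGroup (Fin n)) :=
    Subgroup.topEquiv.symm.trans ((MulEquiv.subgroupCongr htop.symm).trans e)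
  let f : X →* Equiv.Perm (Fin n) := (alternatingGroup (Fin n)).subtype.comp ψ.toMonoidHom
  have hf : Function.Injective f := (alternatingGroup (Fin n)).subtype_injective.comp ψ.injective
  have hrange : f.range = alternatingGroup (Fin n) := by
    rw [MonoidHom.range_comp, MonoidHom.range_eq_top.2 ψ.surjective, ← MonoidHom.range_eq_map,
      Subgroup.range_subtype]
  let P : Sylow 3 X := default
  obtain ⟨-, M, ⟨hM, hPM⟩, huniq⟩ := hX P
  obtain ⟨L1, L2, h1, h2, hl1, hl2, hsup⟩ := Perm.ThreeMinimal.exists_two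
    (P := (P : Subgroup X).map f) (by rw [Fintype.card_fin]; exact hn)
    (hrange ▸ Subgroup.map_le_range f _) (P.isPGroup'.map f)
    (by rw [Fintype.card_fin]; exact hlist.1) (by rw [Fintype.card_fin]; exact hlist.2.1)
    (by rw [Fintype.card_fin]; exact hlist.2.2)
  have hle : ∀ L : Subgroup (Equiv.Perm (Fin n)), (P : Subgroup X).map f ≤ L →
      L < alternatingGroup (Fin n) → L ≤ M.map f := by
    intro L hPL hL
    have hmap : (L.comap f).map f = L :=
      Subgroup.map_comap_eq_self (hrange.symm ▸ hL.le)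
    have hne : L.comap f ≠ ⊤ := fun h => hL.ne (by
      rw [← hmap, h, ← MonoidHom.range_eq_map, hrange])
    obtain ⟨K, hK, hLK⟩ := (eq_top_or_exists_le_coatom _).resolve_left hne
    rw [← hmap, ← huniq K ⟨hK, le_trans (Subgroup.map_le_iff_le_comap.1 hPL) hLK⟩]
    exact Subgroup.map_mono hLK
  have hall : (⊤ : Subgroup X).map f ≤ M.map f := by
    rw [← MonoidHom.range_eq_map, hrange]
    exact hsup.trans (sup_le (hle L1 h1 hl1) (hle L2 h2 hl2))
  exact hM.1 (top_le_iff.1 ((Subgroup.map_le_map_iff_of_injective hf).1 hall))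

end Cfsg.Agent.S2930
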