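import Cfsg.Statements.S2932
import Cfsg.Agent.Lib.NaturalSL2.Embedded.Four

set_option autoImplicit false
open Cfsg

namespace Cfsg.Agent.S2932

/-- Let p be a prime. Inside a finite ambient group let V be an elementary abelian p-subgroup and G a subgroup normalizing V and acting faithfully on it (G ∩ C(V) = 1), and let L ≤ G act on V as SL₂(F) on its natural module, F a finite field of characteristic p, with L ≅ SL₂(F). If every Sylow p-subgroup of N_G(L) is a Sylow p-subgroup of G, then either L is normal in G, or F has 4 elements and G is isomorphic to the alternating group of degree 7. -/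
theorem result {X : Type*} [Group X] [Finite X] {p : ℕ} [Fact p.Prime] (F : Type) [Field F] [Fintype F] [CharP F p] (V G L : Subgroup X) (hV : Cfsg.IsElementaryAbelian p V) (hGV : G ≤ Subgroup.normalizer (V : Set X)) (hfaith : G ⊓ Subgroup.centralizer (V : Set X) = ⊥) (hLG : L ≤ G) (hnat : Cfsg.IsNaturalSL2Module F V L) (hLiso : Nonempty (↥L ≃* Matrix.SpecialLinearGroup (Fin 2) F)) (hSyl : ∀ S : Sylow p ↥(G ⊓ Subgroup.normalizer (L : Set X)), ∀ P : Sylow p ↥G, Nat.card S = Nat.card P) : (L.subgroupOf G).Normal ∨ (Fintype.card F = 4 ∧ Nonempty (↥G ≃* ↥(alternatingGroup (Fin 7)))) := by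
  classical
  obtain ⟨hLN, ρ, ψ, hρs, hρk, heq⟩ := hnat
  have hρi : Function.Injective ρ := by
    rw [← MonoidHom.ker_eq_bot_iff, hρk, Subgroup.eq_bot_iff_forall]
    intro l hl
    exact Subtype.ext (Subgroup.mem_bot.1 (hfaith.le ⟨hLG l.2, Subgroup.mem_subgroupOf.1 hl⟩))
  let cj : ↥G → ↥V → ↥V := fun g v =>
    ⟨(g : X) * v * (g : X)⁻¹, (Subgroup.mem_normalizer_iff.1 (hGV g.2) _).1 v.2⟩
  let a : ↥G → (Fin 2 → F) → (Fin 2 → F) := fun g x =>
    ψ (Additive.ofMul (cj g (Additive.toMul (ψ.symm x))))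
  have a_one : ∀ x, a 1 x = x := fun x => by
    simp [a, cj]
  have a_mul : ∀ g h x, a (g * h) x = a g (a h x) := fun g h x => by
    simp only [a, AddEquiv.symm_apply_apply, toMul_ofMul]
    congr 2
    exact Subtype.ext (by simp [cj, mul_assoc])
  let act : ↥G →* Equiv.Perm (Fin 2 → F) :=
    { toFun := fun g => ⟨a g, a g⁻¹, fun x => by rw [← a_mul, inv_mul_cancel, a_one],
        fun x => by rw [← a_mul, mul_inv_cancel, a_one]⟩
      map_one' := Equiv.ext a_one
      map_mul' := fun g h => Equiv.ext (a_mul g h) }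
  let e : ↥L ≃* Matrix.SpecialLinearGroup (Fin 2) F := MulEquiv.ofBijective ρ ⟨hρi, hρs⟩
  let ι : Matrix.SpecialLinearGroup (Fin 2) F →* ↥G :=
    (Subgroup.inclusion hLG).comp e.symm.toMonoidHom
  have hact_ι : ∀ (s : Matrix.SpecialLinearGroup (Fin 2) F) v,
      act (ι s) v = (s : Matrix (Fin 2) (Fin 2) F).mulVec v := by
    intro s v
    obtain ⟨w, hw, he⟩ := heq (e.symm s) (Additive.toMul (ψ.symm v))
    have hs : ρ (e.symm s) = s := e.apply_symm_apply s
    rw [hs, ofMul_toMul, AddEquiv.apply_symm_apply] at he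
    rw [← he]
    show ψ (Additive.ofMul (cj (ι s) (Additive.toMul (ψ.symm v)))) = _
    congr 2
    exact Subtype.ext hw.symm
  have hinj : Function.Injective act := by
    rw [← MonoidHom.ker_eq_bot_iff, Subgroup.eq_bot_iff_forall]
    intro g hg
    refine Subtype.ext (Subgroup.mem_bot.1 (hfaith.le ⟨g.2, ?_⟩))
    refine Subgroup.mem_centralizer_iff.2 fun v hv => ?_
    have h1 : a g (ψ (Additive.ofMul ⟨v, hv⟩)) = ψ (Additive.ofMul ⟨v, hv⟩) :=
      DFunLike.congr_fun (MonoidHom.mem_ker.1 hg) _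
    have h2 : cj g ⟨v, hv⟩ = ⟨v, hv⟩ := by
      simpa [a] using h1
    have h3 : (g : X) * v * (g : X)⁻¹ = v := congrArg Subtype.val h2
    exact (mul_inv_eq_iff_eq_mul.1 h3).symm
  let c : Cfsg.Agent.NaturalSL2.Embedded.Ctx F ↥G :=
    { act := act
      inj := hinj
      map_add := fun g v w => by
        show a g (v + w) = a g v + a g w
        simp only [a, map_add, toMul_add]
        rw [← map_add, ← ofMul_mul]
        congr 2
        exact Subtype.ext (by simp [cj, mul_assoc])
      ι := ι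
      act_ι := hact_ι }
  have hcL : c.L = L.subgroupOf G := by
    ext g
    constructor
    · rintro ⟨s, rfl⟩
      exact (e.symm s).2
    · intro hg
      exact ⟨ρ ⟨g, hg⟩, Subtype.ext (congrArg Subtype.val (e.symm_apply_apply ⟨g, hg⟩) :)⟩
  have hN : Subgroup.normalizer (c.L : Set ↥G)
      = (G ⊓ Subgroup.normalizer (L : Set X)).subgroupOf G := by
    rw [hcL]
    ext g
    simp only [Subgroup.mem_normalizer_iff, Subgroup.mem_subgroupOf, Subgroup.mem_inf,
      SetLike.mem_coe]
    constructor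
    · intro h
      refine ⟨g.2, fun x => ⟨fun hx => ?_, fun hx => ?_⟩⟩
      · simpa using (h ⟨x, hLG hx⟩).1 hx
      · have hxG : x ∈ G := by
          have := mul_mem (mul_mem (inv_mem g.2) (hLG hx)) g.2
          simpa [mul_assoc] using this
        exact (h ⟨x, hxG⟩).2 (by simpa using hx)
    · intro h x
      simpa using h.2 (x : X)
  have hidx : ¬ p ∣ (Subgroup.normalizer (c.L : Set ↥G)).index := by
    rw [hN]
    set H := G ⊓ Subgroup.normalizer (L : Set X)
    obtain ⟨S⟩ : Nonempty (Sylow p ↥H) := inferInstance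
    obtain ⟨P⟩ : Nonempty (Sylow p ↥G) := inferInstance
    have h := hSyl S P
    rw [S.card_eq_multiplicity, P.card_eq_multiplicity] at h
    have hfac := Nat.pow_right_injective (Fact.out : p.Prime).two_le h
    intro hd
    have hm := (H.subgroupOf G).card_mul_index
    rw [Nat.card_congr (Subgroup.subgroupOfEquivOfLe (inf_le_left : H ≤ G)).toEquiv] at hm
    have hi0 : (H.subgroupOf G).index ≠ 0 := Subgroup.index_ne_zero_of_finite
    have h1 := (Nat.factorization_mul (Nat.card_pos (α := ↥H)).ne' hi0)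
    rw [hm] at h1
    have h2 := DFunLike.congr_fun h1 p
    rw [Finsupp.add_apply, hfac] at h2
    have h3 := (Fact.out : p.Prime).factorization_pos_of_dvd hi0 hd
    omega
  obtain ⟨y⟩ := Cfsg.Agent.NaturalSL2.Embedded.nonempty_sys (p := p) c hidx
  by_cases hall : ∀ x ∈ c.X, c.Wof x = Cfsg.Agent.NaturalSL2.Embedded.W
  · exact Or.inl (hcL ▸ y.normal_L hall)
  · push Not at hall
    obtain ⟨x₀, hx₀, hne⟩ := hall
    obtain ⟨rfl, hF, w, hw, hwU⟩ := y.exceptional hx₀ hne
    rcases y.four_case hF hw hwU hx₀ hne with h | h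
    · exact Or.inl (hcL ▸ h)
    · exact Or.inr ⟨by rw [← Nat.card_eq_fintype_card]; exact hF, h⟩

end Cfsg.Agent.S2932
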