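import Cfsg.Statements.S2933
import Cfsg.Agent.Lib.HigmanRankTwo.ByInvolution
import Cfsg.Agent.Lib.HigmanRankTwo.Model
import Cfsg.Agent.Lib.SylL34.L34
-- import your own Cfsg.Agent.* helpers here

set_option autoImplicit false
set_option linter.style.haveILetI false
open Cfsg

namespace Cfsg.Agent.S2933

/-- Let T be a 2-subgroup of a finite group G, V ≤ Z(T) a four-group, and t, ρ ∈ N_G(V) ∩ N_G(T) elements of order 2 and 3 with t commuting with ρ and with V. If [V, ρ] = V and C_T(t) = V, then T is elementary abelian of order 16, or homocyclic of rank 2 (ℤ/2ⁿ × ℤ/2ⁿ for some n ≥ 1), or isomorphic to a Sylow 2-subgroup of PSL₃(4) or of PSU₃(4). -/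
theorem result {G : Type*} [Group G] [Finite G] (T V : Subgroup G) (hT : IsPGroup 2 ↥T) (hVT : V ≤ T ⊓ Subgroup.centralizer (T : Set G)) (hV : Nat.card ↥V = 4 ∧ ∀ v ∈ V, v ^ 2 = 1) (t ρ : G) (ht : orderOf t = 2) (hρ : orderOf ρ = 3) (htn : t ∈ Subgroup.normalizer (V : Set G) ⊓ Subgroup.normalizer (T : Set G)) (hρn : ρ ∈ Subgroup.normalizer (V : Set G) ⊓ Subgroup.normalizer (T : Set G)) (htρ : t * ρ = ρ * t) (htV : t ∈ Subgroup.centralizer (V : Set G)) (hVρ : ⁅V, Subgroup.zpowers ρ⁆ = V) (hCt : T ⊓ Subgroup.centralizer ({t} : Set G) = V) : (Nat.card ↥T = 16 ∧ ∀ x ∈ T, x ^ 2 = 1) ∨ (∃ n : ℕ, 1 ≤ n ∧ Nonempty (↥T ≃* Multiplicative (ZMod (2 ^ n)) × Multiplicative (ZMod (2 ^ n)))) ∨ (∃ (F : Type) (_ : Field F) (_ : Fintype F), Fintype.card F = 4 ∧ ∀ P : Sylow 2 (Matrix.ProjectiveSpecialLinearGroup (Fin 3) F), Nonempty (↥T ≃* ↥(P : Subgroup (Matrix.ProjectiveSpecialLinearGroup (Fin 3) F)))) ∨ (∃ (F : Type) (_ : Field F) (_ : Fintype F), Fintype.card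 F = 16 ∧ ∀ P : Sylow 2 (Cfsg.PSU 3 F 4), Nonempty (↥T ≃* ↥(P : Subgroup (Cfsg.PSU 3 F 4)))) := by
  classical
  haveI : Fact (Nat.Prime 2) := ⟨Nat.prime_two⟩
  obtain ⟨hVle, hVc⟩ := le_inf_iff.mp hVT
  let τ : MulAut T := T.normalizerMonoidHom ⟨t, htn.2⟩
  let σ : MulAut T := T.normalizerMonoidHom ⟨ρ, hρn.2⟩
  have hτ : ∀ x : T, ((τ x : T) : G) = t * x * t⁻¹ := fun x => rfl
  have hσ : ∀ x : T, ((σ x : T) : G) = ρ * x * ρ⁻¹ := fun x => rfl
  have ht2 : t * t = 1 := by rw [← sq, ← ht]; exact pow_orderOf_eq_one t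
  have hρ3 : ρ * ρ * ρ = 1 := by
    have h := pow_orderOf_eq_one ρ
    rw [hρ, pow_succ, pow_two] at h
    exact h
  -- `ρ` moves every element of `V`
  have hmoveV : ∀ v ∈ V, ρ * v * ρ⁻¹ = v → v = 1 := by
    intro v hv hfix
    by_contra hv1
    have hcomm : ∀ w ∈ V, ρ * w * ρ⁻¹ = w := by
      intro w hw
      by_contra hne
      set u := ρ * w * ρ⁻¹ with hu
      have huV : u ∈ V := (Subgroup.mem_normalizer_iff.mp hρn.1 w).mp hw
      have hw1 : w ≠ 1 := fun e => hne (by rw [hu, e]; group)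
      have hwv : w ≠ v := fun e => hne (by rw [hu, e]; exact hfix)
      have hu1 : u ≠ 1 := fun e => hw1 (by
        have h2 := congrArg (fun z => ρ⁻¹ * z * ρ) e
        simpa [hu, mul_assoc] using h2)
      have huv : u ≠ v := fun e => hwv (by
        have h2 := congrArg (fun z => ρ⁻¹ * z * ρ) (e.trans hfix.symm)
        simpa [hu, mul_assoc] using h2)
      haveI : Fintype G := Fintype.ofFinite G
      have hsub : ({1, v, w, u} : Finset G) = (V : Set G).toFinset := by
        refine Finset.eq_of_subset_of_card_le ?_ ?_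
        · intro x hx
          simp only [Finset.mem_insert, Finset.mem_singleton] at hx
          simp only [Set.mem_toFinset, SetLike.mem_coe]
          rcases hx with rfl | rfl | rfl | rfl
          exacts [one_mem _, hv, hw, huV]
        · rw [Finset.card_insert_of_notMem, Finset.card_insert_of_notMem, Finset.card_insert_of_notMem,
            Finset.card_singleton, Set.toFinset_card, Fintype.card_eq_nat_card]
          · exact le_of_eq hV.1
          all_goals simp only [Finset.mem_insert, Finset.mem_singleton, not_or]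
          exacts [fun e => hne (show u = w from e.symm), ⟨Ne.symm hwv, Ne.symm huv⟩, ⟨Ne.symm hv1, Ne.symm hw1, Ne.symm hu1⟩]
      set u2 := ρ * u * ρ⁻¹ with hu2
      have hu2V : u2 ∈ V := (Subgroup.mem_normalizer_iff.mp hρn.1 u).mp huV
      have hm : u2 ∈ ({1, v, w, u} : Finset G) := by rw [hsub]; simpa using hu2V
      have h3w : ρ * u2 * ρ⁻¹ = w := by
        calc ρ * u2 * ρ⁻¹ = (ρ * ρ * ρ) * w * (ρ * ρ * ρ)⁻¹ := by rw [hu2, hu]; group
          _ = w := by rw [hρ3]; group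
      simp only [Finset.mem_insert, Finset.mem_singleton] at hm
      rcases hm with e | e | e | e
      · exact hw1 (by rw [← h3w, e]; group)
      · exact hwv (by rw [← h3w, e]; exact hfix)
      · -- period two and three
        exact hne (by rw [← h3w, e])
      · have h4 : ρ * u * ρ⁻¹ = w := by rw [← e]; exact h3w
        exact hne (e.symm.trans h4)
    have hbot : ⁅V, Subgroup.zpowers ρ⁆ = ⊥ := by
      rw [Subgroup.commutator_eq_bot_iff_le_centralizer]
      intro w hw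
      refine Subgroup.mem_centralizer_iff.mpr ?_
      rintro _ ⟨i, rfl⟩
      have hc : Commute ρ w := mul_inv_eq_iff_eq_mul.mp (hcomm w hw)
      exact (hc.zpow_left i).eq
    rw [hVρ] at hbot
    have h4 := hV.1
    rw [hbot, Subgroup.card_bot] at h4
    omega
  have hP : Agent.HigmanRankTwo.Pair T (V.subgroupOf T) τ σ := by
    refine ⟨hT, by rw [Nat.card_congr (Subgroup.subgroupOfEquivOfLe hVle).toEquiv]; exact hV.1,
      fun v hv => Subgroup.mem_center_iff.mpr fun g => Subtype.ext ?_, fun v hv => Subtype.ext ?_,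
      fun v hv => ?_, fun x => Subtype.ext ?_, fun x => Subtype.ext ?_, fun x => Subtype.ext ?_,
      fun x => ?_, fun v hv he => Subtype.ext ?_⟩
    · exact Subgroup.mem_centralizer_iff.mp (hVc (Subgroup.mem_subgroupOf.mp hv)) g g.2
    · show (v : G) * v = 1
      rw [← sq]; exact hV.2 _ (Subgroup.mem_subgroupOf.mp hv)
    · rw [Subgroup.mem_subgroupOf, hσ]
      exact (Subgroup.mem_normalizer_iff.mp hρn.1 _).mp (Subgroup.mem_subgroupOf.mp hv)
    · rw [hτ, hτ]
      calc t * (t * x * t⁻¹) * t⁻¹ = t * t * x * (t * t)⁻¹ := by group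
        _ = x := by rw [ht2]; group
    · rw [hσ, hσ, hσ]
      calc ρ * (ρ * (ρ * x * ρ⁻¹) * ρ⁻¹) * ρ⁻¹ = ρ * ρ * ρ * x * (ρ * ρ * ρ)⁻¹ := by group
        _ = x := by rw [hρ3]; group
    · rw [hτ, hσ, hσ, hτ]
      calc t * (ρ * x * ρ⁻¹) * t⁻¹ = (t * ρ) * x * (t * ρ)⁻¹ := by group
        _ = (ρ * t) * x * (ρ * t)⁻¹ := by rw [htρ]
        _ = _ := by group
    · rw [Subgroup.mem_subgroupOf, ← hCt, Subgroup.mem_inf, Subgroup.mem_centralizer_singleton_iff,
        Subtype.ext_iff, hτ, mul_inv_eq_iff_eq_mul]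
      exact ⟨fun e => ⟨x.2, e.symm⟩, fun e => e.2.symm⟩
    · exact hmoveV _ (Subgroup.mem_subgroupOf.mp hv) ((hσ v).symm.trans (congrArg Subtype.val he))
  rcases hP.shape with ⟨h16, hsq⟩ | ⟨n, hn, ⟨e⟩⟩ | hF
  · exact Or.inl ⟨h16, fun x hx => by
      have := congrArg Subtype.val (hsq ⟨x, hx⟩)
      rw [sq]; exact this⟩
  · exact Or.inr (Or.inl ⟨n, hn, ⟨e.trans (MulEquiv.prodMultiplicative _ _)⟩⟩)
  · by_cases hy : ∃ y : T, y * y = 1 ∧ y ∉ Subgroup.center T
    · refine Or.inr (Or.inr (Or.inl ⟨Agent.SylL34.F4, inferInstance, inferInstance,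
        Agent.SylL34.card_F4, fun P => ?_⟩))
      obtain ⟨S, ⟨e⟩⟩ := hF.exists_sylow_equiv hy
      exact ⟨e.trans (S.equiv P)⟩
    · push Not at hy
      refine Or.inr (Or.inr (Or.inr ⟨Agent.Unital16.K16, inferInstance, inferInstance, by decide,
        fun P => ?_⟩))
      exact Agent.HigmanRankTwo.equiv_syl_of_fpf hF hy (by decide) P

end Cfsg.Agent.S2933
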