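import Cfsg.Statements.S2939
import Cfsg.Agent.Lib.SylowChain.Basic
-- import your own Cfsg.Agent.* helpers here

set_option autoImplicit false
open Cfsg

namespace Cfsg.Agent.S2939

open Cfsg.Agent.SylowChain

theorem prod_snoc {G : Type*} [Monoid G] {n : ℕ} (y : Fin n → G) (a : G) :
    List.ofFn (Fin.snoc y a : Fin (n + 1) → G) = List.ofFn y ++ [a] := by
  rw [List.ofFn_succ', List.concat_eq_append]
  simp


/-- Let p be a prime dividing the order of the finite group G and 𝓕 a family of subgroups of G closed under conjugation, with conjugates taken as X^g = g⁻¹Xg. Then 𝓕 controls Sylow p-intersections in G (any two distinct Sylow p-subgroups S and T with S ∩ T ≠ 1 are joined by a chain S = S₀, S₁, …, Sₙ = T of Sylow p-subgroups where, for each i, some member Xᵢ of 𝓕 meets both S_{i-1} and Sᵢ in Sylow p-subgroups of Xᵢ, satisfies S ∩ T ≤ Sᵢ ∩ Xᵢ, and contains an element xᵢ with Sᵢ^{xᵢ} = S_{i-1}) if and only if 𝓕 strongly controls p-fusion in G (whenever A is a subset of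 a Sylow p-subgroup S, A contains an element other than 1, and A^g ⊆ S, the element g factorises as g = y₁⋯yₙy with y ∈ N_G(S) and each yᵢ in a member Yᵢ of 𝓕 that meets S in a Sylow p-subgroup of Yᵢ, with A^{y₁⋯yᵢ} ⊆ S ∩ Yᵢ for each i). -/
theorem result {G : Type*} [Group G] [Finite G] {p : ℕ} [Fact p.Prime] (hdiv : p ∣ Nat.card G) (𝓕 : Set (Subgroup G)) (h𝓕 : Cfsg.IsNormalSet 𝓕) : Cfsg.ControlsSylowIntersections p 𝓕 ↔ Cfsg.FamilyStronglyControlsFusion p 𝓕 := by
  constructor
  · intro hc S A g hA ⟨a, haA, ha1⟩ hg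
    set D : Subgroup G := (S : Subgroup G) ⊓ ((g • S : Sylow p G) : Subgroup G) with hD
    have hAD : A ⊆ (D : Set G) := fun b hb => ⟨hA hb, mem_smul'.2 (hg ⟨b, hb, rfl⟩)⟩
    have hl : Linked p 𝓕 D S (g • S) := by
      by_cases he : S = g • S
      · rw [← he]
        exact Relation.ReflTransGen.refl
      · refine controls_iff.1 hc _ _ he fun hb => ha1 ?_
        have h1 : a ∈ D := hAD haA
        rwa [hD, hb, Subgroup.mem_bot] at h1
    suffices h : ∀ T, Linked p 𝓕 D S T → ∃ (n : ℕ) (Y : Fin n → Subgroup G) (y : Fin n → G),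
        (∀ i, Y i ∈ Cfsg.sylowMembers p 𝓕 (S : Subgroup G) ∧ y i ∈ Y i) ∧
        (List.ofFn y).prod • S = T ∧
        ∀ i : Fin n, Cfsg.conjRight (((List.ofFn y).take (i.val + 1)).prod) A ⊆
          (S : Set G) ∩ (Y i : Set G) by
      obtain ⟨n, Y, y, h1, h2, h3⟩ := h _ hl
      refine ⟨n, Y, y, (List.ofFn y).prod⁻¹ * g, ?_, h1, by rw [mul_inv_cancel_left], h3⟩
      refine Sylow.smul_eq_iff_mem_normalizer.1 ?_
      rw [mul_smul, inv_smul_eq_iff, h2]
    intro T hT
    induction hT with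
    | refl => exact ⟨0, Fin.elim0, Fin.elim0, fun i => i.elim0, by simp, fun i => i.elim0⟩
    | @tail T T' _ hs ih =>
      obtain ⟨n, Y, y, h1, h2, h3⟩ := ih
      obtain ⟨X, x, hX, hTX, hx, rfl, -, hDT', hDX⟩ := hs
      set h := (List.ofFn y).prod with hh
      refine ⟨n + 1, Fin.snoc Y (X.map (MulAut.conj h⁻¹).toMonoidHom),
        Fin.snoc y (h⁻¹ * x * h), fun i => ?_, ?_, fun i => ?_⟩
      · refine Fin.lastCases ?_ (fun j => ?_) i
        · simp only [Fin.snoc_last]
          refine ⟨mem_sylowMembers_iff.2 ⟨map_conj_mem h𝓕 hX _, ?_⟩, ⟨x, hx, by simp⟩⟩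
          have h4 := isSylowIn_smul hTX h⁻¹
          rwa [← h2, inv_smul_smul] at h4
        · simp only [Fin.snoc_castSucc]
          exact h1 j
      · rw [prod_snoc, List.prod_append, List.prod_singleton, ← hh, ← h2, ← mul_smul]
        group
      · refine Fin.lastCases ?_ (fun j => ?_) i
        · rw [prod_snoc, List.take_of_length_le (by simp), List.prod_append, List.prod_singleton,
            Fin.snoc_last, ← hh]
          rintro _ ⟨b, hb, rfl⟩
          have hb1 := hDT' (hAD hb)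
          rw [← h2, ← mul_smul, mem_smul'] at hb1
          refine ⟨?_, ?_⟩
          · show (h * (h⁻¹ * x * h))⁻¹ * b * (h * (h⁻¹ * x * h)) ∈ (S : Subgroup G)
            simpa [mul_assoc] using hb1
          · refine ⟨x⁻¹ * b * x, X.mul_mem (X.mul_mem (X.inv_mem hx) (hDX (hAD hb))) hx, ?_⟩
            simp [mul_assoc]
        · rw [prod_snoc, List.take_append_of_le_length (by simp), Fin.snoc_castSucc]
          exact h3 j
  · intro hc
    refine controls_iff.2 fun S T hne hD0 => ?_
    obtain ⟨g, rfl⟩ := MulAction.exists_smul_eq G S T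
    set D : Subgroup G := (S : Subgroup G) ⊓ ((g • S : Sylow p G) : Subgroup G) with hD
    obtain ⟨⟨d, hd⟩, hd1⟩ := (Subgroup.ne_bot_iff_exists_ne_one).1 hD0
    obtain ⟨n, Y, y, y₀, hy₀, hY, hg, hpre⟩ := hc S (D : Set G) g (fun b hb => hb.1)
      ⟨d, hd, fun h => hd1 (Subtype.ext h)⟩ (by
        rintro _ ⟨b, hb, rfl⟩
        exact mem_smul'.1 hb.2)
    suffices h : ∀ i ≤ n, D ≤ ((((List.ofFn y).take i).prod • S : Sylow p G) : Subgroup G) ∧
        Linked p 𝓕 D S (((List.ofFn y).take i).prod • S) by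
      have h2 := (h n le_rfl).2
      rw [List.take_of_length_le (by simp)] at h2
      rw [hg, mul_smul, Sylow.smul_eq_iff_mem_normalizer.2 hy₀]
      exact h2
    intro i hi
    induction i with
    | zero =>
      simp only [List.take_zero, List.prod_nil, one_smul]
      exact ⟨inf_le_left, Relation.ReflTransGen.refl⟩
    | succ i ih =>
      obtain ⟨ih1, ih2⟩ := ih (by omega)
      set q := ((List.ofFn y).take i).prod with hq
      set q' := ((List.ofFn y).take (i + 1)).prod with hq'
      have hqq : q' = q * y ⟨i, by omega⟩ := by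
        rw [hq', List.prod_take_succ _ _ (by simp; omega), ← hq]
        simp
      have hp := hpre ⟨i, by omega⟩
      have hD' : D ≤ ((q' • S : Sylow p G) : Subgroup G) := fun b hb =>
        mem_smul'.2 (hp ⟨b, hb, rfl⟩).1
      obtain ⟨hYm, hyY⟩ := hY ⟨i, by omega⟩
      refine ⟨hD', ih2.tail ⟨(Y ⟨i, by omega⟩).map (MulAut.conj q).toMonoidHom,
        q * y ⟨i, by omega⟩ * q⁻¹, map_conj_mem h𝓕 (mem_sylowMembers_iff.1 hYm).1 q,
        isSylowIn_smul (mem_sylowMembers_iff.1 hYm).2 q, ⟨_, hyY, rfl⟩, ?_, ih1, hD', ?_⟩⟩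
      · rw [← mul_smul, inv_mul_cancel_right, hqq]
      · intro b hb
        have h5 : q'⁻¹ * b * q' ∈ Y ⟨i, by omega⟩ := (hp ⟨b, hb, rfl⟩).2
        refine Cfsg.Agent.LocalStructure.mem_map_conj.2 ?_
        have h6 := mul_mem (mul_mem hyY h5) (inv_mem hyY)
        simpa [hqq, mul_assoc] using h6

end Cfsg.Agent.S2939
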