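import Cfsg.Statements.S2940
-- import your own Cfsg.Agent.* helpers here

set_option autoImplicit false
open Cfsg

namespace Cfsg.Agent.S2940

/-- Let S be a Sylow p-subgroup of the finite group G and G₁, G₂ subgroups containing S with G = G₁G₂. Then for every g ∈ G there is a Sylow p-subgroup U of G with S ∩ S^g ≤ U ≤ G₁ ∩ G₂^g (conjugates taken as X^g = g⁻¹Xg). -/
theorem result {G : Type*} [Group G] [Finite G] {p : ℕ} [Fact p.Prime] (S : Sylow p G) (G₁ G₂ : Subgroup G) (h1 : (S : Subgroup G) ≤ G₁) (h2 : (S : Subgroup G) ≤ G₂) (hfact : ∀ g : G, ∃ g₁ ∈ G₁, ∃ g₂ ∈ G₂, g = g₁ * g₂) (g : G) : ∃ U : Sylow p G, (S : Subgroup G) ⊓ Cfsg.subgroupConjRight g (S : Subgroup G) ≤ (U : Subgroup G) ∧ (U : Subgroup G) ≤ G₁ ⊓ Cfsg.subgroupConjRight g G₂ := by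
  obtain ⟨g₂, hg₂, g₁, hg₁, hg⟩ : ∃ g₂ ∈ G₂, ∃ g₁ ∈ G₁, g = g₂ * g₁ := by
    obtain ⟨a, ha, b, hb, hab⟩ := hfact g⁻¹
    refine ⟨b⁻¹, inv_mem hb, a⁻¹, inv_mem ha, ?_⟩
    rw [← inv_inv g, hab, mul_inv_rev]
  have hmem : ∀ (X : Subgroup G) (k x : G),
      x ∈ Cfsg.subgroupConjRight k X ↔ k * x * k⁻¹ ∈ X := by
    intro X k x
    constructor
    · rintro ⟨y, hy, rfl⟩
      simpa [mul_assoc] using hy
    · intro hx
      exact ⟨_, hx, by simp [mul_assoc]⟩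
  let W : Subgroup G := G₁ ⊓ Cfsg.subgroupConjRight g G₂
  -- a Sylow subgroup of `G` inside `W`
  let T : Sylow p G := g₁⁻¹ • S
  have hT : ∀ x, x ∈ (T : Subgroup G) ↔ g₁ * x * g₁⁻¹ ∈ (S : Subgroup G) := by
    intro x
    simp [T, Sylow.coe_subgroup_smul, Subgroup.mem_pointwise_smul_iff_inv_smul_mem,
      MulAut.smul_def]
  have hTW : (T : Subgroup G) ≤ W := by
    intro x hx
    have hx' := (hT x).1 hx
    refine ⟨?_, ?_⟩
    · have h3 := mul_mem (mul_mem (inv_mem hg₁) (h1 hx')) hg₁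
      simpa [mul_assoc] using h3
    · show x ∈ Cfsg.subgroupConjRight g G₂
      rw [hmem, hg]
      have h3 := mul_mem (mul_mem hg₂ (h2 hx')) (inv_mem hg₂)
      simpa [mul_assoc] using h3
  let P : Subgroup G := (S : Subgroup G) ⊓ Cfsg.subgroupConjRight g (S : Subgroup G)
  have hPW : P ≤ W := by
    intro x hx
    exact ⟨h1 hx.1, (hmem G₂ g x).2 (h2 ((hmem _ g x).1 hx.2))⟩
  have hPp : IsPGroup p ↥P := S.2.to_le inf_le_left
  obtain ⟨U₀, hU₀⟩ := (hPp.of_equiv (Subgroup.subgroupOfEquivOfLe hPW).symm).exists_le_sylow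
  obtain ⟨w, hw⟩ := MulAction.exists_smul_eq ↥W (T.subtype hTW) U₀
  refine ⟨(w : G) • T, ?_, ?_⟩
  · intro x hx
    have h4 : (⟨x, hPW hx⟩ : ↥W) ∈ (U₀ : Subgroup ↥W) := hU₀ hx
    rw [← hw, Sylow.smul_subtype] at h4
    · exact h4
  · intro x hx
    have hx' : (w : G)⁻¹ * x * (w : G) ∈ (T : Subgroup G) := by
      simpa [Sylow.coe_subgroup_smul, Subgroup.mem_pointwise_smul_iff_inv_smul_mem,
        MulAut.smul_def] using hx
    have h5 := mul_mem (mul_mem w.2 (hTW hx')) (inv_mem w.2)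
    simpa [mul_assoc, W] using h5

end Cfsg.Agent.S2940
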