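import Cfsg.Statements.S2941
-- import your own Cfsg.Agent.* helpers here

set_option autoImplicit false
open Cfsg

namespace Cfsg.Agent.S2941

/-- Let G be a finite group of characteristic 2 type in which every 2-local subgroup is solvable and the centralizer of Ω₁(Z(S)) lies in N_G(S) for every Sylow 2-subgroup S, and let T be a nontrivial 2-subgroup and K a J(T)-component (J the Thompson subgroup generated by the elementary abelian 2-subgroups of largest order). If a subgroup Q is normalized by ⟨K, J(T)⟩ and normalizes J(T), then Q normalizes K. -/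
theorem result {G : Type*} [Group G] [Finite G] (hL : Cfsg.IsCharacteristicTwoType G) (hN : ∀ N : Subgroup G, Cfsg.IsTwoLocal N → Group.IsSolvable ↥N)
    (hZ : ∀ S : Sylow 2 G, Subgroup.centralizer (Cfsg.omegaCenterOf (S : Subgroup G) : Set G) ≤ Subgroup.normalizer ((S : Subgroup G) : Set G)) (T : Subgroup G) (hT : IsPGroup 2 ↥T) (hT1 : T ≠ ⊥) (K : Subgroup G) (hK : Cfsg.IsJComponent T K)
    (Q : Subgroup G) (hQ1 : K ⊔ Cfsg.thompsonSubgroupOf 2 T ≤ Subgroup.normalizer (Q : Set G)) (hQ2 : Q ≤ Subgroup.normalizer (Cfsg.thompsonSubgroupOf 2 T : Set G)) :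
    Q ≤ Subgroup.normalizer (K : Set G) := by
  set J : Subgroup G := Cfsg.thompsonSubgroupOf 2 T with hJdef
  obtain ⟨hKgen, hKJ, -⟩ := hK
  have hJ2 : IsPGroup 2 ↥J := hT.to_le (Subgroup.map_subtype_le _)
  -- `J` normalises `K = [K, J]`
  have hJK : J ≤ Subgroup.normalizer (K : Set G) := by
    conv_rhs => rw [← hKJ]
    exact Subgroup.normalizer_commutator_ge_right K J
  -- elements of odd order of `K ⊔ J` lie in `K`
  have hodd : ∀ x ∈ K ⊔ J, Odd (orderOf x) → x ∈ K := by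
    intro x hx hxo
    rw [← SetLike.mem_coe, Subgroup.coe_mul_of_right_le_normalizer_left _ _ hJK] at hx
    obtain ⟨k, hk, j, hj, rfl⟩ := hx
    have hpow : ∀ n : ℕ, ∃ k' ∈ K, (k * j) ^ n = k' * j ^ n := by
      intro n
      induction n with
      | zero => exact ⟨1, one_mem K, by simp⟩
      | succ n ih =>
        obtain ⟨k', hk', he⟩ := ih
        refine ⟨k' * (j ^ n * k * (j ^ n)⁻¹), mul_mem hk' ?_, ?_⟩
        · exact ((Subgroup.mem_normalizer_iff).1 (hJK (pow_mem hj n)) k).1 hk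
        · rw [pow_succ, he, pow_succ]
          group
    obtain ⟨k', hk', he⟩ := hpow (orderOf (k * j))
    rw [pow_orderOf_eq_one] at he
    have hjn : j ^ orderOf (k * j) ∈ K := by
      rw [(eq_inv_of_mul_eq_one_right he.symm)]
      exact inv_mem hk'
    obtain ⟨e, he2⟩ := hJ2 ⟨j, hj⟩
    have he2' : j ^ 2 ^ e = 1 := congrArg Subtype.val he2
    have hcop : Nat.Coprime (orderOf (k * j)) (orderOf j) :=
      Nat.Coprime.coprime_dvd_right (orderOf_dvd_of_pow_eq_one he2')
        ((Nat.coprime_two_right.2 hxo).pow_right e)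
    obtain ⟨m, hm⟩ := exists_pow_eq_self_of_coprime hcop
    exact mul_mem hk (hm ▸ pow_mem hjn m)
  -- conjugation by `q ∈ Q` maps `K` into `K ⊔ J`
  have hconj : ∀ q ∈ Q, ∀ x ∈ K, q * x * q⁻¹ ∈ K ⊔ J := by
    intro q hq
    suffices h : ⁅K, J⁆ ≤ (K ⊔ J).comap (MulAut.conj q).toMonoidHom by
      intro x hx
      rw [← hKJ] at hx
      simpa using h hx
    rw [Subgroup.commutator_le]
    intro k hk j hj
    show q * (k * j * k⁻¹ * j⁻¹) * q⁻¹ ∈ K ⊔ J
    -- `q k q⁻¹ = k q'` with `q' ∈ Q`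
    have hkQ := hQ1 (Subgroup.mem_sup_left hk)
    have hq' : k⁻¹ * q * k * q⁻¹ ∈ Q :=
      mul_mem (((Subgroup.mem_normalizer_iff'').1 hkQ q).1 hq) (inv_mem hq)
    have hj' : q * j * q⁻¹ ∈ J := ((Subgroup.mem_normalizer_iff).1 (hQ2 hq) j).1 hj
    have hj'' := ((Subgroup.mem_normalizer_iff).1 (hQ2 hq') _).1 hj'
    have h := mul_mem (mul_mem (mul_mem (Subgroup.mem_sup_left hk : k ∈ K ⊔ J)
      (Subgroup.mem_sup_right hj'' : _ ∈ K ⊔ J))
      (inv_mem (Subgroup.mem_sup_left hk : k ∈ K ⊔ J)))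
      (inv_mem (Subgroup.mem_sup_right hj' : q * j * q⁻¹ ∈ K ⊔ J))
    convert h using 1
    simp [mul_assoc]
  have hle : ∀ q ∈ Q, ∀ x ∈ K, q * x * q⁻¹ ∈ K := by
    intro q hq
    suffices h : K ≤ K.comap (MulAut.conj q).toMonoidHom by
      intro x hx
      simpa using h hx
    conv_lhs => rw [← hKgen]
    rw [Subgroup.closure_le]
    rintro g ⟨hgK, hgo⟩
    show q * g * q⁻¹ ∈ K
    refine hodd _ (hconj q hq g hgK) ?_
    rw [show q * g * q⁻¹ = MulAut.conj q g from rfl, MulEquiv.orderOf_eq]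
    exact hgo
  intro q hq
  rw [Subgroup.mem_normalizer_iff]
  intro x
  refine ⟨hle q hq x, fun hx => ?_⟩
  simpa [mul_assoc] using hle q⁻¹ (inv_mem hq) _ hx

end Cfsg.Agent.S2941
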