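import Cfsg.Statements.S2945
import Cfsg.Agent.Lib.JComponent.Orbit
import Cfsg.Agent.Lib.JComponent.Zero

set_option autoImplicit false
open Cfsg Cfsg.Agent.JComponent

namespace Cfsg.Agent.S2945

/-- Let G be a finite group of characteristic 2 type in which every 2-local subgroup is solvable and the centralizer of Ω₁(Z(S)) lies in N_G(S) for every Sylow 2-subgroup S, and let T be a nontrivial 2-subgroup (below, J is the Thompson subgroup generated by the elementary abelian 2-subgroups of largest order), L a subgroup in which T is a Sylow 2-subgroup with J(T) not contained in O₂(L) and C_G(O₂(L)) ≤ O₂(L), and K ≤ L a subgroup that is subnormal in ⟨K, J(T)⟩. If for some conjugate Tᵍ of T, K is a J(Tᵍ)-component with J(Tᵍ) the Thompson subgroup of every Sylow 2-subgroup of N_G(W_K) containing J(Tᵍ) (W_K = [Ω₁(Z(O₂(K))), K]), then K is a J(T)-component. -/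
theorem result {G : Type*} [Group G] [Finite G] (hL : Cfsg.IsCharacteristicTwoType G) (hN : ∀ N : Subgroup G, Cfsg.IsTwoLocal N → Group.IsSolvable ↥N)
    (hZ : ∀ S : Sylow 2 G, Subgroup.centralizer (Cfsg.omegaCenterOf (S : Subgroup G) : Set G) ≤ Subgroup.normalizer ((S : Subgroup G) : Set G)) (T : Subgroup G) (hT : IsPGroup 2 ↥T) (hT1 : T ≠ ⊥) (L : Subgroup G) (hLT : L ∈ Cfsg.jOvergroups T)
    (K : Subgroup G) (hKL : K ≤ L) (hKsn : (K.subgroupOf (K ⊔ Cfsg.thompsonSubgroupOf 2 T)).IsSubnormal)
    (g : G) (hKg : K ∈ Cfsg.jComponentsZero (T.map (MulAut.conj g).toMonoidHom)) : Cfsg.IsJComponent T K := by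
  have hT' : IsPGroup 2 ↥(T.map (MulAut.conj g).toMonoidHom) :=
    LocalStructure.isPGroup_map_conj hT g
  have hKc : IsJComponent (T.map (MulAut.conj g).toMonoidHom) K := hKg.1
  have hNN := zero_normalizer_eq hL hN hZ hT' hKg
  have h := setting_of_mem hN hZ hLT
  have hle : jOf T ≤ Subgroup.normalizer (wOf K : Set G) := by
    conv_lhs => rw [jOf, PGroup.thompsonSubgroupOf_eq]
    refine sSup_le fun A hA => ?_
    refine le_normalizer_of_maxEA (IsJComponent.pre hKc) hKc.2.2.2.2.1
      (le_sup_left : K ≤ K ⊔ jOf T) hKsn hNN.ge (maxEA_anti (h.maxEA hA) ?_ (sup_le hKL h.j_le))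
    exact (PGroup.le_thompsonSubgroupOf hA).trans le_sup_right
  have hid : (T.map (MulAut.conj g).toMonoidHom).map (MulAut.conj g⁻¹).toMonoidHom = T := by
    rw [Subgroup.map_map]
    convert Subgroup.map_id T using 2
    ext x
    simp [mul_assoc]
  have := zero_comp_conj hL hN hZ hT' hKg (g := g⁻¹) (by rw [hid]; exact hle)
  rwa [hid] at this

end Cfsg.Agent.S2945
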