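import Cfsg.Statements.S2951
import Cfsg.Agent.Lib.JComponent.Amalgam

set_option autoImplicit false
open Cfsg Cfsg.Agent.JComponent

namespace Cfsg.Agent.S2951

/-- Let G be a finite group of characteristic 2 type in which every 2-local subgroup is solvable and the centralizer of Ω₁(Z(S)) lies in N_G(S) for every Sylow 2-subgroup S; suppose O₂(G) = 1, fix a Sylow 2-subgroup S and a 2-local subgroup M containing N_G(J(S)) (J the Thompson subgroup generated by the elementary abelian 2-subgroups of largest order), and put Z = Ω₁(Z(S)). Let T ≤ S be maximal (for the order of a largest elementary abelian subgroup, then the order of J(T), then the order of T) among the nontrivial 2-subgroups of M lying in a 2-local subgroup not inside M, K a J(T)-component not contained in M with J(T) the Thompson subgroup of every Sylow 2-subgroup of N_G(W_K) containing J(T), and O₂(⟨K, T⟩) ≠ 1, L a maximal 2-local subgroup containing ⟨K, J(T)⟩ (there is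 only one), and Z₀ = Ω₁(Z(J(T))). Then Z₀ ∩ W_K ≠ 1, and one of: Z = Z₀ has order 2; Z = Z₀ has order 4 and T = S; Ω₁(Z(T)) = Z₀ has order 4 and C_L(Z₀) has index 2 in N_G(Z₀). -/
theorem result {G : Type*} [Group G] [Finite G] (hL : Cfsg.IsCharacteristicTwoType G) (hN : ∀ N : Subgroup G, Cfsg.IsTwoLocal N → Group.IsSolvable ↥N)
    (hZ : ∀ S : Sylow 2 G, Subgroup.centralizer (Cfsg.omegaCenterOf (S : Subgroup G) : Set G) ≤ Subgroup.normalizer ((S : Subgroup G) : Set G)) (hO : Cfsg.pCore 2 G = ⊥) (S : Sylow 2 G) (M : Subgroup G) (hM : Cfsg.IsTwoLocal M)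
    (hMJ : Subgroup.normalizer (Cfsg.thompsonSubgroupOf 2 (S : Subgroup G) : Set G) ≤ M) (T : Subgroup G) (hT : T ∈ Cfsg.maxStraddlingTwoSubgroups M)
    (hTS : T ≤ (S : Subgroup G)) (K : Subgroup G) (hK : K ∈ Cfsg.jComponentsOutside M T)
    (L : Subgroup G) (hLmax : Cfsg.IsMaximalTwoLocal L) (hKL : K ⊔ Cfsg.thompsonSubgroupOf 2 T ≤ L)
    (Z Z₀ : Subgroup G) (hZdef : Z = Cfsg.omegaCenterOf (S : Subgroup G)) (hZ₀ : Z₀ = Cfsg.omegaCenterOf (Cfsg.thompsonSubgroupOf 2 T)) :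
    Z₀ ⊓ Cfsg.wOf K ≠ ⊥ ∧
      ((Z = Z₀ ∧ Nat.card ↥Z₀ = 2) ∨ (Z = Z₀ ∧ Nat.card ↥Z₀ = 4 ∧ T = (S : Subgroup G)) ∨
        (Cfsg.omegaCenterOf T = Z₀ ∧ Nat.card ↥Z₀ = 4 ∧
          (L ⊓ Subgroup.centralizer (Z₀ : Set G)).relIndex (Subgroup.normalizer (Z₀ : Set G)) = 2)) := by
  subst hZdef hZ₀
  have hG : ZN G := ⟨hL, hN, hZ⟩
  have hMJT := max_normalizer_le hT S hMJ
  obtain ⟨L', h'⟩ := sit_of_outside hG hT hMJT hK
  obtain rfl : L' = L := hLmax.2 L' h'.max.1 (h'.uniq L hLmax.1 hKL)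
  have h2 := (card_omega_inf_wOf h'.comp h'.syl.2.1).1
  refine ⟨fun e => ?_, ?_⟩
  · have e' : omegaCenterOf (jOf T) ⊓ wOf K = ⊥ := e
    rw [e', Subgroup.card_bot] at h2
    omega
  have hcz := h'.card_z
  have hpos : 0 < Nat.card ↥(hOf (jOf T) K) := Nat.card_pos
  by_cases hne : T = S
  · subst hne
    obtain ⟨hc, h4⟩ := sylow_facts hG (L := L') (K := K)
      ⟨ref_of_sylow hL S, h'.comp, comp_not_le h'.comp S.2, h'.syl, h'.max, h'.le, h'.uniq⟩ hO
    have e := le_antisymm (omega_le_z (T := (S : Subgroup G))) hc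
    rcases (by omega : Nat.card ↥(omegaCenterOf (jOf (S : Subgroup G))) = 2 ∨
        Nat.card ↥(omegaCenterOf (jOf (S : Subgroup G))) = 4) with h | h
    · exact Or.inl ⟨e, h⟩
    · exact Or.inr (Or.inl ⟨e, h, rfl⟩)
  · obtain ⟨g, hgS, hgT, hgL⟩ := h'.exists_g hTS hne
    obtain ⟨h4, -, -, hZ2⟩ := h'.lower_facts hG hTS hgS hgT hgL
    have hle := (h'.omega_sylow_le hG hTS).trans omega_le_z
    rcases (by omega : Nat.card ↥(omegaCenterOf (jOf T)) = 2 ∨
        Nat.card ↥(omegaCenterOf (jOf T)) = 4) with h | h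
    · exact Or.inl ⟨Subgroup.eq_of_le_of_card_ge hle (h.trans hZ2.symm).le, h⟩
    · exact Or.inr (Or.inr ⟨le_antisymm omega_le_z (h'.lower_central hG hTS hgS hgT hgL), h,
        h'.lower_index hG hTS hgS hgT hgL h⟩)

end Cfsg.Agent.S2951
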