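import Cfsg.Statements.S2953
import Cfsg.Agent.Lib.JComponent.Amalgam

set_option autoImplicit false
open Cfsg Cfsg.Agent.JComponent

namespace Cfsg.Agent.S2953

/-- Let G be a finite group of characteristic 2 type in which every 2-local subgroup is solvable and the centralizer of Ω₁(Z(S)) lies in N_G(S) for every Sylow 2-subgroup S; suppose O₂(G) = 1, fix a Sylow 2-subgroup S and a 2-local subgroup M containing N_G(J(S)) (J the Thompson subgroup generated by the elementary abelian 2-subgroups of largest order). Let T be maximal (for the order of a largest elementary abelian subgroup, then the order of J(T), then the order of T) among the nontrivial 2-subgroups of M lying in a 2-local subgroup not inside M. Then there are two distinct J(T)-components K₁, K₂ such that, with Pᵢ = ⟨Kᵢ, T⟩: C_G(O₂(Pᵢ)) ≤ O₂(Pᵢ), T is a Sylow 2-subgroup of Pᵢ, O₂(Pᵢ) has index 6 in Pᵢ with Pᵢ/O₂(Pᵢ) non-abelian, [Ω₁(Z(T)), Pᵢ]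 ≠ 1, O₂(⟨P₁, P₂⟩) = 1, and each Pᵢ lies in exactly one maximal 2-local subgroup Lᵢ of G, in which T is a Sylow 2-subgroup. -/
theorem result {G : Type*} [Group G] [Finite G] (hL : Cfsg.IsCharacteristicTwoType G) (hN : ∀ N : Subgroup G, Cfsg.IsTwoLocal N → Group.IsSolvable ↥N)
    (hZ : ∀ S : Sylow 2 G, Subgroup.centralizer (Cfsg.omegaCenterOf (S : Subgroup G) : Set G) ≤ Subgroup.normalizer ((S : Subgroup G) : Set G)) (hO : Cfsg.pCore 2 G = ⊥) (S : Sylow 2 G) (M : Subgroup G) (hM : Cfsg.IsTwoLocal M)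
    (hMJ : Subgroup.normalizer (Cfsg.thompsonSubgroupOf 2 (S : Subgroup G) : Set G) ≤ M) (T : Subgroup G) (hT : T ∈ Cfsg.maxStraddlingTwoSubgroups M) :
    ∃ K₁ K₂ : Subgroup G, K₁ ≠ K₂ ∧ Cfsg.IsJComponent T K₁ ∧ Cfsg.IsJComponent T K₂ ∧
      Cfsg.pCoreOf 2 ((K₁ ⊔ T) ⊔ (K₂ ⊔ T)) = ⊥ ∧
      ∀ P ∈ [K₁ ⊔ T, K₂ ⊔ T],
        Subgroup.centralizer (Cfsg.pCoreOf 2 P : Set G) ≤ Cfsg.pCoreOf 2 P ∧ Cfsg.IsSylowTwoIn T P ∧
        (Cfsg.pCoreOf 2 P).relIndex P = 6 ∧ ¬ ⁅P, P⁆ ≤ Cfsg.pCoreOf 2 P ∧ ⁅Cfsg.omegaCenterOf T, P⁆ ≠ ⊥ ∧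
        ∃ L : Subgroup G, Cfsg.IsMaximalTwoLocal L ∧ P ≤ L ∧ Cfsg.IsSylowTwoIn T L ∧
          ∀ L' : Subgroup G, Cfsg.IsMaximalTwoLocal L' → P ≤ L' → L' = L := by
  have hG : ZN G := ⟨hL, hN, hZ⟩
  have : Fact (Nat.Prime 2) := ⟨Nat.prime_two⟩
  have hMJT := max_normalizer_le hT S hMJ
  obtain ⟨K, hK⟩ := exists_component_outside hT hMJT hL hN hZ
  obtain ⟨L, L₂, K₂, -, e⟩ := exists_edge hG hO hT hMJT hK
  have hJT : jOf T ≤ T := PGroup.thompsonSubgroupOf_le T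
  -- the facts at one end
  have key : ∀ {A B A' B' : Subgroup G}, Edge T A B A' B' →
      Subgroup.centralizer (pCoreOf 2 (B ⊔ T) : Set G) ≤ pCoreOf 2 (B ⊔ T) ∧
      IsSylowTwoIn T (B ⊔ T) ∧ (pCoreOf 2 (B ⊔ T)).relIndex (B ⊔ T) = 6 ∧
      ¬ ⁅B ⊔ T, B ⊔ T⁆ ≤ pCoreOf 2 (B ⊔ T) ∧ ⁅omegaCenterOf T, B ⊔ T⁆ ≠ ⊥ ∧
      ∃ X : Subgroup G, IsMaximalTwoLocal X ∧ B ⊔ T ≤ X ∧ IsSylowTwoIn T X ∧
        ∀ X' : Subgroup G, IsMaximalTwoLocal X' → B ⊔ T ≤ X' → X' = X := by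
    intro A B A' B' e
    obtain ⟨-, hKT, hQ, hcard, -⟩ := e.local_eq hG
    have v := e.left
    rw [← hKT]
    refine ⟨(cen_of_twoLocal hL v.max.1).1, v.syl, ?_, fun hle => ?_, fun h0 => ?_,
      A, v.max, le_rfl, v.syl, fun X' hX' hle => ?_⟩
    · have h1 := Subgroup.relIndex_mul_relIndex ⊥ (pCoreOf 2 A) A bot_le
        (LocalStructure.pCoreOf_le 2 A)
      rw [Subgroup.relIndex_bot_left, Subgroup.relIndex_bot_left, hcard, hQ, v.v_card hG,
        v.card_z] at h1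
      rw [hQ]
      refine Nat.eq_of_mul_eq_mul_left (show 0 < 4 * Nat.card ↥(hOf T B) from
        Nat.mul_pos (by omega) Nat.card_pos) ?_
      linarith
    · refine (IsJComponent.pre v.comp).not_isPGroup
        ((LocalStructure.isPGroup_pCoreOf 2 A).to_le ?_)
      conv_lhs => rw [← show ⁅B, jOf T⁆ = B from v.comp.2.1]
      exact (Subgroup.commutator_mono (le_sup_left.trans hKT.ge)
        ((hJT.trans le_sup_right).trans hKT.ge)).trans hle
    · have h2 := v.line_card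
      obtain ⟨⟨w, hw⟩, hw1, -⟩ := (Nat.card_eq_two_iff' (1 : ↥(lineOf T B))).mp h2
      obtain ⟨y, hy, -, -, hfy⟩ := v.exists_y
      have h3 := Subgroup.commutator_mem_commutator hw.1
        (show y ∈ A from hKT.ge (Subgroup.mem_sup_left hy))
      rw [h0, Subgroup.mem_bot] at h3
      exact hw1 (Subtype.ext (hfy.2 w hw.2 (commutatorElement_eq_one_iff_mul_comm.mp h3)))
    · exact (hX'.2 A v.max.1 (v.uniq X' hX'.1
        (sup_le ((le_sup_left.trans hKT.ge).trans hle) ((hJT.trans v.syl.1).trans hle)))).symm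
  have hT₂ : T ≤ K₂ ⊔ T := le_sup_right
  refine ⟨K, K₂, fun h => ?_, e.left.comp, e.right.comp, by_contra fun h0 => ?_, ?_⟩
  · subst h
    exact e.no_local e.left.max.1 (le_sup_left.trans e.left.le) (le_sup_left.trans e.left.le)
      (le_sup_right.trans e.left.le)
  · have hle := LocalStructure.le_normalizer_pCoreOf 2 ((K ⊔ T) ⊔ (K₂ ⊔ T))
    exact e.no_local (X := Subgroup.normalizer (pCoreOf 2 ((K ⊔ T) ⊔ (K₂ ⊔ T)) : Set G))
      ⟨_, LocalStructure.isPGroup_pCoreOf 2 _, h0, rfl⟩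
      ((le_sup_left.trans le_sup_left).trans hle) ((le_sup_left.trans le_sup_right).trans hle)
      (((hJT.trans hT₂).trans le_sup_right).trans hle)
  · intro P hP
    simp only [List.mem_cons, List.not_mem_nil, or_false] at hP
    rcases hP with rfl | rfl
    exacts [key e, key e.symm]

end Cfsg.Agent.S2953
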