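import Cfsg.Statements.S2954
import Cfsg.Agent.Lib.JComponent.Amalgam

set_option autoImplicit false
open Cfsg Cfsg.Agent.JComponent

namespace Cfsg.Agent.S2954

/-- Let G be a finite group of characteristic 2 type in which every 2-local subgroup is solvable and the centralizer of Ω₁(Z(S)) lies in N_G(S) for every Sylow 2-subgroup S; suppose O₂(G) = 1, fix a Sylow 2-subgroup S and a 2-local subgroup M containing N_G(J(S)) (J the Thompson subgroup generated by the elementary abelian 2-subgroups of largest order). If T is maximal (for the order of a largest elementary abelian subgroup, then the order of J(T), then the order of T) among the nontrivial 2-subgroups of M lying in a 2-local subgroup not inside M, then there are two distinct maximal 2-local subgroups P₁, P₂ of G, each having T as a Sylow 2-subgroup, that are both isomorphic to the symmetric group on four letters or both isomorphic to its direct product with a group of order 2. -/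
theorem result {G : Type*} [Group G] [Finite G] (hL : Cfsg.IsCharacteristicTwoType G) (hN : ∀ N : Subgroup G, Cfsg.IsTwoLocal N → Group.IsSolvable ↥N)
    (hZ : ∀ S : Sylow 2 G, Subgroup.centralizer (Cfsg.omegaCenterOf (S : Subgroup G) : Set G) ≤ Subgroup.normalizer ((S : Subgroup G) : Set G)) (hO : Cfsg.pCore 2 G = ⊥) (S : Sylow 2 G) (M : Subgroup G) (hM : Cfsg.IsTwoLocal M)
    (hMJ : Subgroup.normalizer (Cfsg.thompsonSubgroupOf 2 (S : Subgroup G) : Set G) ≤ M) (T : Subgroup G) (hT : T ∈ Cfsg.maxStraddlingTwoSubgroups M) :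
    ∃ P₁ P₂ : Subgroup G, P₁ ≠ P₂ ∧ Cfsg.IsMaximalTwoLocal P₁ ∧ Cfsg.IsMaximalTwoLocal P₂ ∧
      Cfsg.IsSylowTwoIn T P₁ ∧ Cfsg.IsSylowTwoIn T P₂ ∧
      ((Nonempty (↥P₁ ≃* Equiv.Perm (Fin 4)) ∧ Nonempty (↥P₂ ≃* Equiv.Perm (Fin 4))) ∨
        (Nonempty (↥P₁ ≃* Equiv.Perm (Fin 4) × Multiplicative (ZMod 2)) ∧
          Nonempty (↥P₂ ≃* Equiv.Perm (Fin 4) × Multiplicative (ZMod 2)))) := by
  have hG : ZN G := ⟨hL, hN, hZ⟩
  have hMJT := max_normalizer_le hT S hMJ
  obtain ⟨K, hK⟩ := exists_component_outside hT hMJT hL hN hZ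
  obtain ⟨L, L₂, K₂, -, e⟩ := exists_edge hG hO hT hMJT hK
  refine ⟨L, L₂, e.ne, e.left.max, e.right.max, e.left.syl, e.right.syl, ?_⟩
  have h1 := e.left.card_z
  have h2 := e.right.card_z
  have h3 := e.left.h_card
  have hpos : 0 < Nat.card ↥(hOf T K) := Nat.card_pos
  rcases (by omega : (Nat.card ↥(hOf T K) = 1 ∧ Nat.card ↥(hOf T K₂) = 1) ∨
      (Nat.card ↥(hOf T K) = 2 ∧ Nat.card ↥(hOf T K₂) = 2)) with ⟨ha, hb⟩ | ⟨ha, hb⟩
  · exact Or.inl ⟨(e.iso hG).1 ha, (e.symm.iso hG).1 hb⟩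
  · exact Or.inr ⟨(e.iso hG).2 ha, (e.symm.iso hG).2 hb⟩

end Cfsg.Agent.S2954
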