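import Cfsg.Statements.S2955
-- import your own Cfsg.Agent.* helpers here

set_option autoImplicit false
open Cfsg

namespace Cfsg.Agent.S2955

/-- Let p be a prime dividing the order of the finite group G and 𝓕 a conjugation-closed family of subgroups that controls Sylow p-intersections in G. Suppose the Sylow p-subgroups of G are chain-connected: any two of them are joined by a chain of Sylow p-subgroups, consecutive ones distinct with nontrivial intersection, all containing the intersection of the two ends (equivalently, the graph on the Sylow p-subgroups whose edges are the distinct pairs meeting nontrivially is connected). Then for every Sylow p-subgroup S, G is generated by N_G(S) together with the members of 𝓕 that meet S in a Sylow p-subgroup of themselves. -/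
theorem result {G : Type*} [Group G] [Finite G] (p : ℕ) [Fact p.Prime] (hdiv : p ∣ Nat.card G)
    (𝓕 : Set (Subgroup G)) (h𝓕 : Cfsg.IsNormalSet 𝓕) (hc : Cfsg.ControlsSylowIntersections p 𝓕)
    (hconn : Cfsg.IsSylowChainConnected p G) (S : Sylow p G) :
    (⨆ X ∈ Cfsg.sylowMembers p 𝓕 (S : Subgroup G), X) ⊔ Subgroup.normalizer ((S : Subgroup G) : Set G) = ⊤ := by
  classical
  set H : Subgroup G := (⨆ X ∈ Cfsg.sylowMembers p 𝓕 (S : Subgroup G), X) ⊔
    Subgroup.normalizer ((S : Subgroup G) : Set G) with hH
  have hnormal : ∀ (X : Subgroup G) (g : G), X ∈ 𝓕 → X.map (MulAut.conj g).toMonoidHom ∈ 𝓕 := by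
    intro X g hX
    simpa [Cfsg.subgroupConjRight] using h𝓕 X hX g⁻¹
  -- one step of an intersection chain stays inside the orbit of `S` under `H`
  have hstep : ∀ (A B : Sylow p G), (∃ h ∈ H, h • S = A) →
      (A ≠ B → (A : Subgroup G) ⊓ (B : Subgroup G) ≠ ⊥ → ∃ h ∈ H, h • S = B) := by
    intro A B hA hne hmeet
    obtain ⟨n, c, X, x, hc0, hcn, hcx⟩ := hc A B hne hmeet
    have key : ∀ i : Fin (n + 1), ∃ h ∈ H, h • S = c i := by
      intro i
      induction i using Fin.induction with
      | zero => rw [hc0]; exact hA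
      | succ i ih =>
        obtain ⟨h, hh, hhS⟩ := ih
        obtain ⟨⟨hXF, P, hP⟩, -, hxX, hxc, -⟩ := hcx i
        -- move `X i` back to `S`
        let e : G ≃* G := MulAut.conj h⁻¹
        let Y : Subgroup G := (X i).map e.toMonoidHom
        have hci : ((c i.castSucc : Sylow p G) : Subgroup G).map e.toMonoidHom =
            (S : Subgroup G) := by
          have hh2 : h⁻¹ • c i.castSucc = S := by rw [← hhS, inv_smul_smul]
          rw [← hh2]
          rfl
        have hYF : Y ∈ Cfsg.sylowMembers p 𝓕 (S : Subgroup G) := by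
          refine ⟨hnormal _ _ hXF, ?_⟩
          let f : ↥(X i) ≃* ↥Y := (X i).equivMapOfInjective e.toMonoidHom e.injective
          refine ⟨P.comapOfInjective f.symm.toMonoidHom f.symm.injective (by
            intro y _; exact ⟨f y, by simp⟩), ?_⟩
          rw [← hci]
          show _ = _ ⊓ (X i).map e.toMonoidHom
          rw [← Subgroup.map_inf _ _ e.toMonoidHom e.injective, ← hP]
          ext z
          constructor
          · rintro ⟨w, hw, rfl⟩
            refine ⟨(f.symm w : G), ⟨f.symm w, hw, rfl⟩, ?_⟩
            exact congrArg Subtype.val (f.apply_symm_apply w)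
          · rintro ⟨-, ⟨w, hw, rfl⟩, rfl⟩
            refine ⟨f w, ?_, rfl⟩
            show f.symm (f w) ∈ (P : Subgroup ↥(X i))
            rw [f.symm_apply_apply]
            exact hw
        have hYH : Y ≤ H := le_sup_of_le_left
          (le_iSup₂ (f := fun X (_ : X ∈ Cfsg.sylowMembers p 𝓕 (S : Subgroup G)) => X) Y hYF)
        have hxH : x i ∈ H := by
          have h1 : h⁻¹ * x i * h ∈ H := hYH ⟨x i, hxX, by simp [e]⟩
          have h2 := mul_mem (mul_mem hh h1) (inv_mem hh)
          simpa [mul_assoc] using h2
        refine ⟨x i * h, mul_mem hxH hh, ?_⟩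
        rw [mul_smul, hhS]
        have h3 : (x i)⁻¹ • c i.succ = c i.castSucc := Sylow.ext hxc
        rw [← h3, smul_inv_smul]
    exact hcn ▸ key (Fin.last n)
  have hall : ∀ T : Sylow p G, ∃ h ∈ H, h • S = T := by
    intro T
    obtain ⟨n, c, hc0, hcn, -, hcc⟩ := hconn S T
    have key : ∀ i : Fin (n + 1), ∃ h ∈ H, h • S = c i := by
      intro i
      induction i using Fin.induction with
      | zero => exact ⟨1, one_mem H, by rw [one_smul, hc0]⟩
      | succ i ih => exact hstep _ _ ih (hcc i).1 (hcc i).2
    exact hcn ▸ key (Fin.last n)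
  rw [eq_top_iff]
  intro g _
  obtain ⟨h, hh, hhS⟩ := hall (g • S)
  have hn : h⁻¹ * g ∈ Subgroup.normalizer ((S : Subgroup G) : Set G) :=
    Sylow.smul_eq_iff_mem_normalizer.1 (by rw [mul_smul, ← hhS, inv_smul_smul])
  have := mul_mem hh (Subgroup.mem_sup_right (S := ⨆ X ∈ Cfsg.sylowMembers p 𝓕 (S : Subgroup G), X) hn)
  simpa using this

end Cfsg.Agent.S2955
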