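import Cfsg.Statements.S2956
import Cfsg.Agent.Lib.SylowChain.Basic
-- import your own Cfsg.Agent.* helpers here

set_option autoImplicit false
open Cfsg

namespace Cfsg.Agent.S2956

open Subgroup Cfsg.Agent.SylowChain
open Cfsg.Agent.LocalStructure (IsSylowIn)

variable {G : Type*} [Group G] [Finite G] {p : ℕ} [Fact p.Prime]
  {f : Subgroup G → Set (Subgroup G)}

/-- The family of the statement. -/
def bigFam (p : ℕ) (f : Subgroup G → Set (Subgroup G)) : Set (Subgroup G) :=
  topFam p f ∪ {M | Cfsg.IsMaximalPLocal p M ∧ ¬ Cfsg.IsFunctorRegular p f M}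

/-- All pairs meeting in more than `d` elements are linked. -/
def LinkedAbove (p : ℕ) (f : Subgroup G → Set (Subgroup G)) (d : ℕ) : Prop :=
  ∀ S T : Sylow p G, d < Nat.card ↥((S : Subgroup G) ⊓ (T : Subgroup G)) →
    Linked p (bigFam p f) ((S : Subgroup G) ⊓ (T : Subgroup G)) S T

theorem link {d : ℕ} (hIH : LinkedAbove p f d) {S T : Sylow p G} {R D : Subgroup G}
    (hRS : R ≤ (S : Subgroup G)) (hRT : R ≤ (T : Subgroup G)) (hd : d < Nat.card ↥R)
    (hDS : D ≤ (S : Subgroup G)) (hDT : D ≤ (T : Subgroup G)) :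
    Linked p (bigFam p f) D S T :=
  (hIH S T (hd.trans_le (card_le_of_le (le_inf hRS hRT)))).mono (le_inf hDS hDT)

theorem exists_maximal {L : Subgroup G} (hL : Cfsg.IsPLocal p L) :
    ∃ M, L ≤ M ∧ Cfsg.IsMaximalPLocal p M := by
  obtain ⟨M, hLM, hM⟩ := Finite.exists_le_maximal (p := fun N => Cfsg.IsPLocal p N) hL
  exact ⟨M, hLM, hM.1, fun N hN hle => le_antisymm (hM.2 hN hle) hle⟩

theorem move (hf : Cfsg.IsNormalizerFunctor p f)
    (hf1 : ∀ P : Subgroup G, IsPGroup p ↥P → P ≠ ⊥ → ∀ F ∈ f P, F ≠ ⊥) {d : ℕ}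
    (hIH : LinkedAbove p f d) (k : ℕ) :
    ∀ (L : Subgroup G) (U : Sylow p G) (x : G) (D : Subgroup G),
      Nat.card G - Nat.card ↥((U : Subgroup G) ⊓ L) = k → Cfsg.IsPLocal p L →
      IsSylowIn p ((U : Subgroup G) ⊓ L) L → x ∈ L → d < Nat.card ↥((U : Subgroup G) ⊓ L) →
      D ≠ ⊥ → D ≤ (U : Subgroup G) → D ≤ ((x • U : Sylow p G) : Subgroup G) → D ≤ L →
      Linked p (bigFam p f) D U (x • U) := by
  induction k using Nat.strong_induction_on with
  | _ k ihk =>
  intro L U x D hk hL hUL hxL hd hD hDU hDxU hDL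
  obtain ⟨M, hLM, hM⟩ := exists_maximal hL
  obtain ⟨R, hR, hRM⟩ := LocalStructure.exists_isSylowIn_le
    (U.2.to_le (inf_le_left : (U : Subgroup G) ⊓ L ≤ U)) (inf_le_right.trans hLM)
  obtain ⟨U₃, hU₃⟩ := hRM.2.1.exists_le_sylow
  have hU₃M : (U₃ : Subgroup G) ⊓ M = R := sylow_inf_eq hRM hU₃
  have hDR : D ≤ R := (le_inf hDU hDL).trans hR
  have hDxR : D ≤ ((U : Subgroup G) ⊓ L).map (MulAut.conj x).toMonoidHom := fun b hb =>
    LocalStructure.mem_map_conj.2 ⟨mem_smul'.1 (hDxU hb),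
      L.mul_mem (L.mul_mem (L.inv_mem hxL) (hDL hb)) hxL⟩
  have hRU : ((U : Subgroup G) ⊓ L).map (MulAut.conj x).toMonoidHom ≤
      ((x • U₃ : Sylow p G) : Subgroup G) := map_mono (hR.trans hU₃)
  refine (link hIH inf_le_left (hR.trans hU₃) hd hDU (hDR.trans hU₃)).trans ?_
  refine Relation.ReflTransGen.trans ?_ (link hIH hRU (map_mono inf_le_left)
    (by rwa [LocalStructure.card_map_conj]) (hDxR.trans hRU) hDxU)
  by_cases hreg : Cfsg.IsFunctorRegular p f M
  swap
  · exact Relation.ReflTransGen.single ⟨M, x, Or.inr ⟨hM, hreg⟩, hU₃M.symm ▸ hRM, hLM hxL, rfl,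
      hDR.trans hU₃, hDxR.trans hRU, hDL.trans hLM⟩
  obtain ⟨C₀, hC₀⟩ := hRM.exists_map_eq
  have hdR : d < Nat.card ↥R := hd.trans_le (card_le_of_le hR)
  have hxM : x ∈ M := hLM hxL
  set C₁ : Sylow p ↥M := (⟨x, hxM⟩ : ↥M) • C₀ with hC₁
  have hC₁map : (C₁ : Subgroup ↥M).map M.subtype = R.map (MulAut.conj x).toMonoidHom := by
    rw [hC₁, coe_smul', ← hC₀, map_map, map_map]
    rfl
  have hDM : D ≤ M := hDL.trans hLM
  have hE : D.subgroupOf M ≠ ⊥ := fun h0 => hD (by
    have := subgroupOf_eq_bot.1 h0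
    rwa [disjoint_iff, inf_eq_left.2 hDM] at this)
  have hE0 : D.subgroupOf M ≤ C₀ := fun b hb => by
    have h1 : (b : G) ∈ (C₀ : Subgroup ↥M).map M.subtype := hC₀.symm ▸ hDR hb
    exact (mem_map_iff_mem M.subtype_injective).1 h1
  have hE1 : D.subgroupOf M ≤ C₁ := fun b hb => by
    have h1 : (b : G) ∈ (C₁ : Subgroup ↥M).map M.subtype :=
      hC₁map.symm ▸ map_mono hR (hDxR hb)
    exact (mem_map_iff_mem M.subtype_injective).1 h1
  have hl := linked_of_regular hreg C₀ C₁ hE hE0 hE1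
  suffices h : ∀ C, Linked p (subFam p f M) (D.subgroupOf M) C₀ C →
      D ≤ (C : Subgroup ↥M).map M.subtype ∧ ∀ V : Sylow p G,
        (C : Subgroup ↥M).map M.subtype ≤ (V : Subgroup G) → Linked p (bigFam p f) D U₃ V by
    refine (h C₁ hl).2 (x • U₃) ?_
    rw [hC₁map]
    exact map_mono hU₃
  intro C hC
  induction hC with
  | refl =>
    rw [hC₀]
    exact ⟨hDR, fun V hV => link hIH hU₃ hV hdR (hDR.trans hU₃) (hDR.trans hV)⟩
  | @tail C C' _ hs ih =>
    obtain ⟨hDC, ih⟩ := ih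
    obtain ⟨P, F, y, hF, hCF, hC'F, hy, he, -, hE'⟩ := step_decode hf hs
    set Cg := (C : Subgroup ↥M).map M.subtype with hCg
    have hC'map : (C' : Subgroup ↥M).map M.subtype = Cg.map (MulAut.conj (y : G)).toMonoidHom := by
      rw [hCg, ← he, coe_smul', map_map, map_map]
      rfl
    have hDC' : D ≤ (C' : Subgroup ↥M).map M.subtype := fun b hb =>
      ⟨⟨b, hDM hb⟩, hE' (show (⟨b, hDM hb⟩ : ↥M) ∈ D.subgroupOf M from hb), rfl⟩
    refine ⟨hDC', fun V' hV' => ?_⟩
    have hcard : ∀ Q : Sylow p ↥M, Nat.card ↥((Q : Subgroup ↥M).map M.subtype) = Nat.card ↥R := by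
      intro Q
      rw [← hC₀, card_map_of_injective M.subtype_injective,
        card_map_of_injective M.subtype_injective, Q.card_eq_multiplicity, C₀.card_eq_multiplicity]
    obtain ⟨V, hV⟩ := (C.2.map M.subtype).exists_le_sylow
    have hyV : (C' : Subgroup ↥M).map M.subtype ≤ (((y : G) • V : Sylow p G) : Subgroup G) :=
      hC'map ▸ map_mono hV
    refine ((ih V hV).trans ?_).trans
      (link hIH hyV hV' (by rw [hcard]; exact hdR) (hDC'.trans hyV) (hDC'.trans hV'))
    set Pg := (P : Subgroup ↥M).map M.subtype with hPg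
    have hPgp : IsPGroup p ↥Pg := P.2.map _
    obtain ⟨W, hW⟩ := hPgp.exists_le_sylow
    by_cases hfull : Pg = (W : Subgroup G)
    · have hCV : Cg = (V : Subgroup G) := eq_of_le_of_card_ge hV (by
        rw [hcard, ← hcard P, ← hPg, hfull, V.card_eq_multiplicity, W.card_eq_multiplicity])
      refine Relation.ReflTransGen.single (step_of_le (X := normalizer (F : Set G)) (Or.inl ?_)
        (hCV ▸ hCF) hy (hDC.trans hV) (hDC'.trans hyV))
      exact ⟨W, F, hfull ▸ hF, rfl⟩
    · have hPne : Pg ≠ ⊥ := fun h => by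
        have h1 : d < Nat.card ↥Pg := by rw [hPg, hcard]; exact hdR
        have h2 : 1 ≤ Nat.card ↥((U : Subgroup G) ⊓ L) := Nat.card_pos
        rw [h, card_bot] at h1
        have h3 : 1 < Nat.card ↥D := one_lt_card_iff_ne_bot D |>.2 hD
        have h4 : Nat.card ↥D ≤ Nat.card ↥Cg := card_le_of_le hDC
        rw [hcard C, ← hcard P, ← hPg, h, card_bot] at h4
        omega
      have hL' : Cfsg.IsPLocal p (normalizer (F : Set G)) :=
        ⟨F, hPgp.to_le ((hf Pg hPgp).1 F hF).1, hf1 Pg hPgp hPne F hF, rfl⟩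
      obtain ⟨R₂, hR₂, hR₂L⟩ := LocalStructure.exists_isSylowIn_le (C.2.map M.subtype) hCF
      obtain ⟨U', hU'⟩ := hR₂L.2.1.exists_le_sylow
      have hU'L := sylow_inf_eq hR₂L hU'
      have hgrow : Nat.card ↥R < Nat.card ↥R₂ := by
        rw [← hcard P, ← hPg]
        refine (card_lt_inf_normalizer W.2 (lt_of_le_of_ne hW hfull)).trans_le
          (card_le_of_isSylowIn hR₂L (W.2.to_le inf_le_left) ?_)
        exact inf_le_right.trans ((hf Pg hPgp).1 F hF).2
      have hyU' : (C' : Subgroup ↥M).map M.subtype ≤ (((y : G) • U' : Sylow p G) : Subgroup G) :=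
        hC'map ▸ map_mono (hR₂.trans hU')
      refine (link hIH hV (hR₂.trans hU') (by rw [hcard]; exact hdR) (hDC.trans hV)
        (hDC.trans (hR₂.trans hU'))).trans ?_
      refine Relation.ReflTransGen.trans ?_ (link hIH hyU' hyV (by rw [hcard]; exact hdR)
        (hDC'.trans hyU') (hDC'.trans hyV))
      have h2 : Nat.card ↥((U : Subgroup G) ⊓ L) ≤ Nat.card ↥R := card_le_of_le hR
      have h3 : Nat.card ↥R₂ ≤ Nat.card G := card_le_card_group _
      refine ihk _ (by rw [← hU'L] at hgrow h3; omega) (normalizer (F : Set G)) U' y D rfl hL'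
        (hU'L.symm ▸ hR₂L) hy (by rw [hU'L]; omega) hD (hDC.trans (hR₂.trans hU'))
        (hDC'.trans hyU') (hDC.trans hCF)


/-- Let p be a prime dividing the order of the finite group G, and f an assignment to every p-subgroup P of a set f(P) of subgroups of P, each normalized by N_G(P), compatible with conjugation, such that for P ≠ 1 the members of f(P) are nontrivial. Let 𝓕 be the family of the normalizers N_G(F) of the members F of f(S) over the Sylow p-subgroups S of G, and 𝓕' the family of the maximal p-local subgroups M of G that are singular for f (the corresponding family of normalizers inside M does not control Sylow p-intersections in M). Then 𝓕 ∪ 𝓕' controls Sylow p-intersections in G. -/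
theorem result {G : Type*} [Group G] [Finite G] (p : ℕ) [Fact p.Prime] (hdiv : p ∣ Nat.card G)
    (f : Subgroup G → Set (Subgroup G)) (hf : Cfsg.IsNormalizerFunctor p f)
    (hf1 : ∀ P : Subgroup G, IsPGroup p ↥P → P ≠ ⊥ → ∀ F ∈ f P, F ≠ ⊥)
    (𝓕 𝓕' : Set (Subgroup G)) (h𝓕 : 𝓕 = Cfsg.functorFamily p f ⊤)
    (h𝓕' : 𝓕' = {M | Cfsg.IsMaximalPLocal p M ∧ ¬ Cfsg.IsFunctorRegular p f M}) :
    Cfsg.ControlsSylowIntersections p (𝓕 ∪ 𝓕') := by
  suffices h : ∀ k, ∀ A B : Sylow p G, A ≠ B → (A : Subgroup G) ⊓ (B : Subgroup G) ≠ ⊥ →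
      Nat.card G - Nat.card ↥((A : Subgroup G) ⊓ (B : Subgroup G)) = k →
      Linked p (bigFam p f) ((A : Subgroup G) ⊓ (B : Subgroup G)) A B by
    rw [h𝓕, h𝓕', functorFamily_top]
    exact controls_iff.2 fun A B hne hbot => h _ A B hne hbot rfl
  intro k
  induction k using Nat.strong_induction_on with
  | _ k ihk =>
  intro S T hne hbot hk
  set D : Subgroup G := (S : Subgroup G) ⊓ (T : Subgroup G) with hD
  have hIH : LinkedAbove p f (Nat.card ↥D) := by
    intro A B hlt
    by_cases he : A = B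
    · rw [he]
      exact Relation.ReflTransGen.refl
    · have h1 : Nat.card ↥((A : Subgroup G) ⊓ (B : Subgroup G)) ≤ Nat.card G :=
        card_le_card_group _
      refine ihk _ (by omega) A B he (fun h => ?_) rfl
      have h2 : 0 < Nat.card ↥D := Nat.card_pos
      rw [h, card_bot] at hlt
      omega
  have hDp : IsPGroup p ↥D := S.2.to_le inf_le_left
  have hL : Cfsg.IsPLocal p (normalizer (D : Set G)) := ⟨D, hDp, hbot, rfl⟩
  have hlt : ∀ V : Sylow p G, D ≤ (V : Subgroup G) → D ≠ (V : Subgroup G) →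
      Nat.card ↥D < Nat.card ↥((V : Subgroup G) ⊓ normalizer (D : Set G)) :=
    fun V hV hV' => card_lt_inf_normalizer V.2 (lt_of_le_of_ne hV hV')
  have hS := hlt S inf_le_left fun e => hne (Sylow.ext
    (S.3 T.2 ((e ▸ inf_le_right : (S : Subgroup G) ≤ (T : Subgroup G)))).symm)
  have hT := hlt T inf_le_right fun e => hne (Sylow.ext
    (T.3 S.2 ((e ▸ inf_le_left : (T : Subgroup G) ≤ (S : Subgroup G)))))
  obtain ⟨R, hR, hRL⟩ := LocalStructure.exists_isSylowIn_le
    (S.2.to_le inf_le_left : IsPGroup p ↥((S : Subgroup G) ⊓ normalizer (D : Set G))) inf_le_right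
  obtain ⟨R', hR', hR'L⟩ := LocalStructure.exists_isSylowIn_le
    (T.2.to_le inf_le_left : IsPGroup p ↥((T : Subgroup G) ⊓ normalizer (D : Set G))) inf_le_right
  obtain ⟨S', hS'⟩ := hRL.2.1.exists_le_sylow
  obtain ⟨x, hx, hxR⟩ := hRL.exists_conj_eq hR'L
  have hDS' : D ≤ (S' : Subgroup G) := ((le_inf inf_le_left le_normalizer).trans hR).trans hS'
  have hR'S : R' ≤ ((x • S' : Sylow p G) : Subgroup G) := hxR ▸ map_mono hS'
  have hDT' : D ≤ ((x • S' : Sylow p G) : Subgroup G) :=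
    ((le_inf inf_le_right le_normalizer).trans hR').trans hR'S
  refine (link hIH inf_le_left (hR.trans hS') hS inf_le_left hDS').trans ?_
  refine Relation.ReflTransGen.trans ?_
    (link hIH (hR'.trans hR'S) inf_le_left hT hDT' inf_le_right)
  refine move hf hf1 hIH _ (normalizer (D : Set G)) S' x D rfl hL ?_ hx ?_ hbot hDS' hDT'
    le_normalizer
  · rw [sylow_inf_eq hRL hS']
    exact hRL
  · rw [sylow_inf_eq hRL hS']
    exact hS.trans_le (card_le_of_le hR)

end Cfsg.Agent.S2956
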