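import Cfsg.Statements.S2957
import Cfsg.Agent.Lib.SylowChain.Basic
import Cfsg.Agent.S2940
-- import your own Cfsg.Agent.* helpers here

set_option autoImplicit false
open Cfsg

namespace Cfsg.Agent.S2957

/-- Let p be a prime dividing the order of the finite group G, f an equivariant assignment of a set of subgroups f(P) of P to every p-subgroup P, each normalized by N_G(P), and S a Sylow p-subgroup. If G = G₁G₂ for subgroups G₁, G₂ both containing S and both regular for f (in each Gᵢ, the family of normalizers in Gᵢ of the members of f(P), P a Sylow p-subgroup of Gᵢ, controls Sylow p-intersections), then G itself is regular for f. -/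
theorem result {G : Type*} [Group G] [Finite G] (p : ℕ) [Fact p.Prime] (hdiv : p ∣ Nat.card G)
    (f : Subgroup G → Set (Subgroup G)) (hf : Cfsg.IsNormalizerFunctor p f) (S : Sylow p G)
    (G₁ G₂ : Subgroup G) (h₁ : (S : Subgroup G) ≤ G₁) (h₂ : (S : Subgroup G) ≤ G₂)
    (hprod : ∀ g : G, ∃ g₁ ∈ G₁, ∃ g₂ ∈ G₂, g = g₁ * g₂)
    (hr₁ : Cfsg.IsFunctorRegular p f G₁) (hr₂ : Cfsg.IsFunctorRegular p f G₂) :
    Cfsg.IsFunctorRegular p f ⊤ := by
  open Cfsg.Agent.SylowChain in
  refine isFunctorRegular_top hf fun A B _ hD0 => ?_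
  obtain ⟨a, rfl⟩ := MulAction.exists_smul_eq G S A
  obtain ⟨k, rfl⟩ := MulAction.exists_smul_eq G (a • S) B
  -- move `A` to `S`
  obtain ⟨b, hb⟩ := MulAction.exists_smul_eq G S (a⁻¹ • k • a • S)
  have hB : k • a • S = a • b • S := by rw [hb, smul_inv_smul]
  rw [hB] at hD0 ⊢
  set D : Subgroup G := (S : Subgroup G) ⊓ ((b • S : Sylow p G) : Subgroup G) with hDdef
  have hmap : ((a • S : Sylow p G) : Subgroup G) ⊓ ((a • b • S : Sylow p G) : Subgroup G) =
      D.map (MulAut.conj a).toMonoidHom := by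
    rw [hDdef, Subgroup.map_inf _ _ _ (MulAut.conj a).injective]
    rfl
  rw [hmap] at hD0 ⊢
  have hD : D ≠ ⊥ := fun h => hD0 (by rw [h, Subgroup.map_bot])
  refine Linked.smul (topFam_normal hf) ?_ a
  obtain ⟨U, hDU, hU⟩ := Cfsg.Agent.S2940.result S G₁ G₂ h₁ h₂ hprod b⁻¹
  rw [Cfsg.subgroupConjRight, inv_inv] at hDU hU
  refine (linked_lift hf hr₁ h₁ (hU.trans inf_le_left) inf_le_left hDU hD).trans ?_
  have hU2 : ((b⁻¹ • U : Sylow p G) : Subgroup G) ≤ G₂ := by
    intro x hx
    rw [mem_smul'] at hx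
    obtain ⟨y, hy, he⟩ := (hU.trans inf_le_right) hx
    have he' : b * y * b⁻¹ = b⁻¹⁻¹ * x * b⁻¹ := he
    rw [inv_inv] at he'
    rwa [← mul_left_cancel (mul_right_cancel he')]
  have hl := linked_lift hf hr₂ hU2 h₂ (D := D.map (MulAut.conj b⁻¹).toMonoidHom)
    (Subgroup.map_mono hDU) (fun x hx => by
      obtain ⟨y, hy, rfl⟩ := hx
      simpa [MulAut.conj_apply] using Cfsg.Agent.LocalStructure.mem_map_conj.1 hy.2)
    (fun h => hD ((Subgroup.map_eq_bot_iff_of_injective _ (MulAut.conj b⁻¹).injective).1 h))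
  have hl' := Linked.smul (topFam_normal hf) hl b
  rwa [smul_inv_smul, ← Cfsg.Agent.LocalStructure.map_conj_mul, mul_inv_cancel,
    Cfsg.Agent.LocalStructure.map_conj_one] at hl'

end Cfsg.Agent.S2957
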