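import Cfsg.Statements.S2958
-- import your own Cfsg.Agent.* helpers here

set_option autoImplicit false
open Cfsg

namespace Cfsg.Agent.S2958

/-- Let X, A, B be subgroups of a group G such that G is generated by the conjugates of X and every conjugate of X is contained in A or in B. Then A = G or B = G. -/
theorem result {G : Type*} [Group G] (X A B : Subgroup G) (hgen : (⨆ g : G, X.map (MulAut.conj g).toMonoidHom) = ⊤) (hcover : ∀ g : G, X.map (MulAut.conj g).toMonoidHom ≤ A ∨ X.map (MulAut.conj g).toMonoidHom ≤ B) : A = ⊤ ∨ B = ⊤ := by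
  classical
  let c : G → Subgroup G := fun g => X.map (MulAut.conj g).toMonoidHom
  by_cases hex : ∀ g, c g ≤ B
  · right
    exact top_le_iff.mp (hgen ▸ iSup_le hex)
  left
  let A1 : Subgroup G := ⨆ g : {g : G // ¬ c g ≤ B}, c g.1
  have hA1 : A1 ≤ A := iSup_le fun g => (hcover g.1).resolve_right g.2
  have hcc : ∀ h g, (c g).map (MulAut.conj h).toMonoidHom = c (h * g) := by
    intro h g
    simp only [c, Subgroup.map_map]
    congr 1
    ext x
    simp
  have hmove : ∀ h ∈ B, A1.map (MulAut.conj h).toMonoidHom ≤ A1 := by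
    intro h hh
    simp only [A1, Subgroup.map_iSup]
    refine iSup_le fun g => ?_
    have hnot : ¬ c (h * g.1) ≤ B := by
      intro hle
      apply g.2
      intro x hx
      have hy : h * x * h⁻¹ ∈ c (h * g.1) := by
        rw [← hcc]
        exact ⟨x, hx, by simp⟩
      have h2 := B.mul_mem (B.mul_mem (B.inv_mem hh) (hle hy)) hh
      simpa [mul_assoc] using h2
    rw [hcc]
    exact le_iSup (fun g : {g : G // ¬ c g ≤ B} => c g.1) ⟨h * g.1, hnot⟩
  have hN : (⊤ : Subgroup G) ≤ Subgroup.normalizer (A1 : Set G) := by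
    rw [← hgen]
    refine iSup_le fun g => ?_
    by_cases hg : c g ≤ B
    · intro x hx
      rw [Subgroup.mem_normalizer_iff]
      intro a
      constructor
      · intro ha
        exact hmove x (hg hx) ⟨a, ha, by simp⟩
      · intro ha
        have h3 := hmove x⁻¹ (B.inv_mem (hg hx)) ⟨_, ha, rfl⟩
        simpa [mul_assoc] using h3
    · exact le_trans (le_iSup (fun g : {g : G // ¬ c g ≤ B} => c g.1) ⟨g, hg⟩)
        Subgroup.le_normalizer
  have hnorm : A1.Normal := Subgroup.normalizer_eq_top_iff.mp (top_le_iff.mp hN)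
  push Not at hex
  obtain ⟨g₀, hg₀⟩ := hex
  have hall : ∀ g, c g ≤ A1 := by
    intro g
    have h1 : c g₀ ≤ A1 := le_iSup (fun g : {g : G // ¬ c g ≤ B} => c g.1) ⟨g₀, hg₀⟩
    have h2 : c g = (c g₀).map (MulAut.conj (g * g₀⁻¹)).toMonoidHom := by
      rw [hcc]
      simp [mul_assoc]
    rw [h2]
    rintro _ ⟨a, ha, rfl⟩
    simpa [mul_assoc] using hnorm.conj_mem a (h1 ha) (g * g₀⁻¹)
  exact top_le_iff.mp (hgen ▸ (iSup_le hall).trans hA1)

end Cfsg.Agent.S2958
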