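import Cfsg.Statements.S2960
import Cfsg.Agent.Lib.LocalChar.Basic
-- import your own Cfsg.Agent.* helpers here

set_option autoImplicit false
open Cfsg

namespace Cfsg.Agent.S2960

open Subgroup

variable {G : Type*} [Group G] [Finite G] {p : ℕ} [hp : Fact p.Prime]

/-- In a group of characteristic `p`, a self-centralising subgroup normal in a Sylow subgroup. -/
theorem centralizer_le (hG : LocalChar.CP p G) (T : Sylow p G) {Q : Subgroup G}
    (hQT : Q ≤ (T : Subgroup G)) (hQn : (T : Subgroup G) ≤ normalizer (Q : Set G))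
    (hC : (T : Subgroup G) ⊓ centralizer (Q : Set G) ≤ Q) : centralizer (Q : Set G) ≤ Q := by
  have hCn : ∀ n ∈ normalizer (Q : Set G), ∀ c ∈ centralizer (Q : Set G),
      n * c * n⁻¹ ∈ centralizer (Q : Set G) := by
    intro n hn c hc
    refine mem_centralizer_iff.2 fun x hx => ?_
    have h1 := mem_centralizer_iff.1 hc _ ((mem_normalizer_iff''.1 hn x).1 hx)
    calc x * (n * c * n⁻¹) = n * (n⁻¹ * x * n * c) * n⁻¹ := by group
      _ = n * (c * (n⁻¹ * x * n)) * n⁻¹ := by rw [h1]
      _ = n * c * n⁻¹ * x := by group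
  have hpel : ∀ c ∈ centralizer (Q : Set G), IsPGroup p ↥(zpowers c) → c ∈ Q := by
    intro c hc hcp
    have hcN : zpowers c ≤ normalizer (Q : Set G) :=
      (zpowers_le.2 hc).trans (centralizer_le_normalizer _)
    obtain ⟨U, hU⟩ := (hcp.of_equiv (subgroupOfEquivOfLe hcN).symm).exists_le_sylow
    obtain ⟨n, hn⟩ := MulAction.exists_smul_eq ↥(normalizer (Q : Set G)) U (T.subtype hQn)
    have h1 : (n : G) * c * (n : G)⁻¹ ∈ (T : Subgroup G) := by
      have h : n * ⟨c, hcN (mem_zpowers c)⟩ * n⁻¹ ∈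
          ((T.subtype hQn : Sylow p ↥(normalizer (Q : Set G))) : Subgroup _) := by
        rw [← hn, Sylow.coe_subgroup_smul]
        exact smul_mem_pointwise_smul _ _ _ (hU (mem_zpowers c))
      exact h
    exact (mem_normalizer_iff.1 n.2 c).2 (hC ⟨h1, hCn n n.2 c hc⟩)
  have hp' : ∀ b ∈ centralizer (Q : Set G), ¬ p ∣ orderOf b → b = 1 := by
    intro b hb hd
    refine LocalChar.cp_elim hG (fun r hr => ?_) hd
    have hRT : Cfsg.pCore p G ≤ (T : Subgroup G) := by
      have := Components.pCore_normal' (G := G) p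
      rw [← T.is_maximal' (IsPGroup.to_sup_of_normal_right T.2
        (Components.isPGroup_pCore' (G := G) p)) le_sup_left]
      exact le_sup_right
    have h1 : b * r * b⁻¹ * r⁻¹ ∈ Cfsg.pCore p G :=
      mul_mem ((Components.pCore_normal' p).conj_mem r hr b) (inv_mem hr)
    have h2 : b * r * b⁻¹ * r⁻¹ ∈ centralizer (Q : Set G) := by
      have := Subgroup.mul_mem _ hb (hCn r (hQn (hRT hr)) _ (Subgroup.inv_mem _ hb))
      simpa [mul_assoc] using this
    exact LocalChar.commute_of_commute_commutator (Components.isPGroup_pCore' p) hp.out hd h1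
      (mem_centralizer_iff.1 hb _ (hC ⟨hRT h1, h2⟩)).symm
  intro c hc
  obtain ⟨k, m, hm, hkm⟩ := Nat.exists_eq_pow_mul_and_not_dvd
    (orderOf_pos c).ne' p hp.out.ne_one
  have hone : c ^ p ^ k = 1 := hp' _ (pow_mem hc _) (by
    rw [orderOf_pow' _ (pow_ne_zero k hp.out.ne_zero), hkm,
      Nat.gcd_eq_right (dvd_mul_right _ _), Nat.mul_div_cancel_left _ (pow_pos hp.out.pos k)]
    exact hm)
  obtain ⟨j, -, hj⟩ := (Nat.dvd_prime_pow hp.out).1 (orderOf_dvd_of_pow_eq_one hone)
  exact hpel c hc (IsPGroup.of_card (n := j) (by rw [Nat.card_zpowers, hj]))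


/-- Let G be a finite group of characteristic p (C_G(O_p(G)) ≤ O_p(G)), p prime, T a Sylow p-subgroup of G and Q a normal subgroup of T with C_T(Q) ≤ Q. Then C_G(Q) ≤ Q. -/
theorem result {G : Type*} [Group G] [Finite G] {p : ℕ} [Fact p.Prime] (hG : Subgroup.centralizer (Cfsg.pCore p G : Set G) ≤ Cfsg.pCore p G) (T : Sylow p G) (Q : Subgroup G) (hQT : Q ≤ (T : Subgroup G)) (hQn : (T : Subgroup G) ≤ Subgroup.normalizer (Q : Set G)) (hC : (T : Subgroup G) ⊓ Subgroup.centralizer (Q : Set G) ≤ Q) : Subgroup.centralizer (Q : Set G) ≤ Q := by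
  exact centralizer_le hG T hQT hQn hC

end Cfsg.Agent.S2960
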