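import Cfsg.Statements.S2961
import Cfsg.Agent.S2960
-- import your own Cfsg.Agent.* helpers here

set_option autoImplicit false
open Cfsg

namespace Cfsg.Agent.S2961

/-- Let G be a finite group of characteristic p (C_G(O_p(G)) ≤ O_p(G)), p prime, T a Sylow p-subgroup of G and Q a normal subgroup of T with C_T(Q) ≤ Q. Then every subgroup L of G containing Q has characteristic p: C_L(O_p(L)) ≤ O_p(L). -/
theorem result {G : Type*} [Group G] [Finite G] {p : ℕ} [Fact p.Prime] (hG : Subgroup.centralizer (Cfsg.pCore p G : Set G) ≤ Cfsg.pCore p G) (T : Sylow p G) (Q : Subgroup G) (hQT : Q ≤ (T : Subgroup G)) (hQn : (T : Subgroup G) ≤ Subgroup.normalizer (Q : Set G)) (hC : (T : Subgroup G) ⊓ Subgroup.centralizer (Q : Set G) ≤ Q) (L : Subgroup G) (hQL : Q ≤ L) : Subgroup.centralizer (Cfsg.pCore p ↥L : Set ↥L) ≤ Cfsg.pCore p ↥L := by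
  have hCQ : Subgroup.centralizer (Q : Set G) ≤ Q := S2960.centralizer_le hG T hQT hQn hC
  have hRn : (Cfsg.pCore p G).Normal := Components.pCore_normal' p
  have hRp : IsPGroup p ↥(Cfsg.pCore p G) := Components.isPGroup_pCore' p
  have hLR : L ≤ Subgroup.normalizer (Cfsg.pCore p G : Set G) := by
    rw [Subgroup.normalizer_eq_top_iff.2 hRn]; exact le_top
  have hRT : Cfsg.pCore p G ≤ (T : Subgroup G) := by
    rw [← T.is_maximal' (T.2.to_sup_of_normal_right hRp) le_sup_left]
    exact le_sup_right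
  set O := Cfsg.pCore p ↥L with hO
  have hOn : O.Normal := Components.pCore_normal' p
  have hR0 : ∀ (x : G) (hx : x ∈ L), x ∈ Cfsg.pCore p G → (⟨x, hx⟩ : ↥L) ∈ O := fun x hx hxR =>
    LocalChar.mem_pCore_subgroup hRp hLR hx hxR
  -- elements of `L` acting trivially on `R / (R ∩ L)`
  let N0 : Subgroup ↥L :=
    { carrier := {x | ∀ r ∈ Cfsg.pCore p G, (x : G) * r * (x : G)⁻¹ * r⁻¹ ∈ L}
      one_mem' := fun r _ => by simp
      mul_mem' := fun {x y} hx hy r hr => by
        have h1 := mul_mem (hx _ (hRn.conj_mem r hr (y : G))) (hy r hr)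
        simpa [mul_assoc] using h1
      inv_mem' := fun {x} hx r hr => by
        have h1 := inv_mem (hx _ (hRn.conj_mem r hr (x : G)⁻¹))
        simpa [mul_assoc] using h1 }
  have hN0n : N0.Normal := ⟨fun x hx g r hr => by
    have h1 := hx _ (hRn.conj_mem r hr (g : G)⁻¹)
    have h2 := mul_mem (mul_mem g.2 h1) (inv_mem g.2)
    simpa [mul_assoc] using h2⟩
  -- `p'`-elements of `C_L(O) ∩ N0` are trivial
  have hkill : ∀ g : ↥L, g ∈ N0 → (∀ x ∈ O, Commute g x) → ¬ p ∣ orderOf g → g = 1 := by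
    intro g hg hgO hd
    refine Subtype.ext (LocalChar.cp_elim hG (fun r hr => ?_) (by rwa [Subgroup.orderOf_coe]))
    have h1 : (g : G) * r * (g : G)⁻¹ * r⁻¹ ∈ Cfsg.pCore p G :=
      mul_mem (hRn.conj_mem r hr _) (inv_mem hr)
    exact LocalChar.commute_of_commute_commutator hRp (Fact.out (p := p.Prime))
      (by rwa [Subgroup.orderOf_coe]) h1 (congrArg Subtype.val (hgO _ (hR0 _ (hg r hr) h1)).eq)
  have hW : Subgroup.centralizer (O : Set ↥L) ⊓ N0 ≤ O := by
    refine LocalChar.le_pCore inferInstance fun x => ?_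
    obtain ⟨k, m, hm, hkm⟩ := Nat.exists_eq_pow_mul_and_not_dvd
      (orderOf_pos (x : ↥L)).ne' p (Fact.out (p := p.Prime)).ne_one
    refine ⟨k, Subtype.ext (hkill ((x : ↥L) ^ p ^ k) (pow_mem x.2.2 _) (fun q hq => ?_) ?_)⟩
    · exact Commute.pow_left (Subgroup.mem_centralizer_iff.1 x.2.1 q hq).symm _
    · rw [orderOf_pow' _ (pow_ne_zero k (Fact.out (p := p.Prime)).ne_zero), hkm,
        Nat.gcd_eq_right (dvd_mul_right _ _),
        Nat.mul_div_cancel_left _ (pow_pos (Fact.out (p := p.Prime)).pos k)]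
      exact hm
  refine LocalChar.cp_of_forall fun b hb hd => ?_
  have hbC : b ∈ Subgroup.centralizer (O : Set ↥L) :=
    Subgroup.mem_centralizer_iff.2 fun q hq => (hb q hq).symm
  have hbQ : (b : G) ∈ Subgroup.centralizer (Q : Set G) := by
    refine Subgroup.mem_centralizer_iff.2 fun q hq => ?_
    set q' : ↥L := ⟨q, hQL hq⟩ with hq'
    have hqN : q' ∈ N0 := fun r hr => by
      have h1 := (Subgroup.mem_normalizer_iff.1 (hQn (hRT hr)) q⁻¹).1 (inv_mem hq)
      have h2 := hQL (mul_mem hq h1)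
      simpa [mul_assoc, hq'] using h2
    have hc : b * q' * b⁻¹ * q'⁻¹ ∈ O := by
      refine hW ⟨?_, Subgroup.mul_mem N0 (hN0n.conj_mem q' hqN b) (Subgroup.inv_mem N0 hqN)⟩
      have h1 : q' * b⁻¹ * q'⁻¹ ∈ Subgroup.centralizer (O : Set ↥L) :=
        (inferInstance : (Subgroup.centralizer (O : Set ↥L)).Normal).conj_mem _ (Subgroup.inv_mem _ hbC) q'
      have h2 := Subgroup.mul_mem _ hbC h1
      simpa [mul_assoc] using h2
    exact (congrArg Subtype.val (LocalChar.commute_of_commute_commutator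
      (Components.isPGroup_pCore' (G := ↥L) p) (Fact.out (p := p.Prime)) hd hc (hb _ hc)).eq).symm
  have hbp := hCQ hbQ
  exact Subtype.ext (LocalChar.eq_one_of_isPGroup (T.2.to_le hQT) (Fact.out (p := p.Prime)) hbp
    (by rwa [Subgroup.orderOf_coe]))

end Cfsg.Agent.S2961
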