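import Cfsg.Statements.S2963
-- import your own Cfsg.Agent.* helpers here

set_option autoImplicit false
open Cfsg

namespace Cfsg.Agent.S2963
open scoped Pointwise


/-- Let n be odd. If the symmetric group of degree n is a minimal parabolic group for the prime 2, that is, a Sylow 2-subgroup is not normal and lies in exactly one maximal subgroup, then n = 2^m + 1 for some natural number m. -/
theorem result (n : ℕ) (hn : Odd n) (h : Cfsg.IsPMinimal 2 (Equiv.Perm (Fin n))) : ∃ m : ℕ, n = 2 ^ m + 1 := by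
  classical
  have hfact : Fact (Nat.Prime 2) := ⟨Nat.prime_two⟩
  obtain ⟨S⟩ : Nonempty (Sylow 2 (Equiv.Perm (Fin n))) := inferInstance
  obtain ⟨-, M, ⟨hM, hSM⟩, huniq⟩ := h S
  have hcont : ∀ L : Subgroup (Equiv.Perm (Fin n)), (S : Subgroup _) ≤ L → L ≠ ⊤ → L ≤ M := by
    intro L hSL hL
    obtain ⟨M', hM', hLM'⟩ := (eq_top_or_exists_le_coatom L).resolve_left hL
    exact hLM'.trans (le_of_eq (huniq M' ⟨hM', hSL.trans hLM'⟩))
  -- a fixed point of `S`
  obtain ⟨a, ha⟩ : (MulAction.fixedPoints ↥(S : Subgroup (Equiv.Perm (Fin n))) (Fin n)).Nonempty :=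
    S.2.nonempty_fixed_point_of_prime_not_dvd_card _ (by
      rw [Nat.card_fin]
      exact fun h2 => Nat.not_even_iff_odd.2 hn (even_iff_two_dvd.2 h2))
  by_cases hone : n = 1
  · subst hone
    have hsub : Subsingleton (Equiv.Perm (Fin 1)) := inferInstance
    exact absurd ((Subgroup.eq_top_iff' M).2 fun x => by rw [Subsingleton.elim x 1]; exact one_mem _) hM.1
  obtain ⟨b, hb⟩ : ∃ b : Fin n, b ≠ a := by
    haveI : Nontrivial (Fin n) := by
      rw [Fin.nontrivial_iff_two_le]
      have := a.pos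
      omega
    exact exists_ne a
  -- the orbit of `b`
  set O : Set (Fin n) := MulAction.orbit ↥(S : Subgroup (Equiv.Perm (Fin n))) b with hO
  obtain ⟨m, hm⟩ := S.2.card_orbit b
  by_cases hall : ∀ x, x ≠ a → x ∈ O
  · refine ⟨m, ?_⟩
    have hOeq : O = {a}ᶜ := Set.ext fun x => ⟨fun hx hxa => by
      obtain ⟨s, hs⟩ := hx
      rw [Set.mem_singleton_iff] at hxa
      have h2 : s • b = s • a := by rw [ha s, ← hxa]; exact hs
      exact hb (MulAction.injective s h2), hall x⟩
    rw [hO] at hOeq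
    rw [hOeq, Nat.card_coe_set_eq, Set.ncard_compl, Set.ncard_singleton, Nat.card_fin] at hm
    omega
  push Not at hall
  obtain ⟨c, hca, hcO⟩ := hall
  exfalso
  -- the stabilisers of `a` and of the orbit of `b`
  let A : Subgroup (Equiv.Perm (Fin n)) := MulAction.stabilizer (Equiv.Perm (Fin n)) a
  let B : Subgroup (Equiv.Perm (Fin n)) := MulAction.stabilizer (Equiv.Perm (Fin n)) O
  have hSA : (S : Subgroup _) ≤ A := fun s hs => ha ⟨s, hs⟩
  have hSB : (S : Subgroup _) ≤ B := fun s hs => MulAction.mem_stabilizer_iff.2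
    (show (⟨s, hs⟩ : ↥(S : Subgroup (Equiv.Perm (Fin n)))) • O = O from
      MulAction.smul_orbit (⟨s, hs⟩ : ↥(S : Subgroup (Equiv.Perm (Fin n)))) b)
  have hswapA : ∀ x y, x ≠ a → y ≠ a → Equiv.swap x y ∈ A := fun x y hx hy =>
    Equiv.swap_apply_of_ne_of_ne hx.symm hy.symm
  have haO : a ∉ O := fun hx => by
    obtain ⟨s, hs⟩ := hx
    have h2 : s • b = s • a := by rw [ha s]; exact hs
    exact hb (MulAction.injective s h2)
  have hswapB : Equiv.swap a c ∈ B := by
    show Equiv.swap a c • O = O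
    refine Set.ext fun x => ⟨?_, fun hx => ?_⟩
    · rintro ⟨y, hy, rfl⟩
      show Equiv.swap a c y ∈ O
      rw [Equiv.swap_apply_of_ne_of_ne (fun h => haO (by rw [← h]; exact hy)) (fun h => hcO (by rw [← h]; exact hy))]
      exact hy
    · exact ⟨x, hx, Equiv.swap_apply_of_ne_of_ne (fun h => haO (by rw [← h]; exact hx)) (fun h => hcO (by rw [← h]; exact hx))⟩
  have hAtop : A ≠ ⊤ := fun h => by
    have h1 : Equiv.swap a b ∈ A := h ▸ Subgroup.mem_top _
    exact hb ((Equiv.swap_apply_left a b).symm.trans h1)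
  have hBtop : B ≠ ⊤ := fun h => by
    have h1 : Equiv.swap a b ∈ B := h ▸ Subgroup.mem_top _
    exact haO ((show Equiv.swap a b • O = O from h1) ▸
      ⟨b, MulAction.mem_orbit_self b, Equiv.swap_apply_right a b⟩)
  have hAM := hcont A hSA hAtop
  have hBM := hcont B hSB hBtop
  refine hM.1 (top_le_iff.1 ?_)
  rw [← Equiv.Perm.closure_isSwap, Subgroup.closure_le]
  rintro _ ⟨x, y, hxy, rfl⟩
  have hac : Equiv.swap a c ∈ M := hBM hswapB
  have hswap : ∀ x, x ≠ a → Equiv.swap a x ∈ M := by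
    intro x hx
    by_cases hxc : x = c
    · rw [hxc]; exact hac
    have h1 := mul_mem (mul_mem (hAM (hswapA c x hca hx)) hac) (hAM (hswapA c x hca hx))
    have h2 : Equiv.swap c x * Equiv.swap a c * Equiv.swap c x = Equiv.swap a x := by
      rw [Equiv.mul_swap_eq_swap_mul (Equiv.swap c x) a c, Equiv.swap_apply_of_ne_of_ne hca.symm (Ne.symm hx),
        Equiv.swap_apply_left, mul_assoc, Equiv.swap_mul_self, mul_one]
    exact h2 ▸ h1
  by_cases hx : x = a
  · subst hx; exact hswap y (Ne.symm hxy)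
  by_cases hy : y = a
  · subst hy; rw [Equiv.swap_comm]; exact hswap x hx
  exact hAM (hswapA x y hx hy)

end Cfsg.Agent.S2963
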