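import Cfsg.Statements.S2968
import Cfsg.Agent.Lib.IsolatedP.Basic

set_option autoImplicit false
open Cfsg

namespace Cfsg.Agent.S2968

/-- Let G be a finite group, p a prime, P a Sylow p-subgroup of G and x ∈ P an element of p-power order which is isolated in G (the only conjugate of x commuting with x is x itself). Then x lies in the centre of P, and the subgroup generated by x is both strongly closed and weakly closed in P with respect to G. -/
theorem result {G : Type*} [Group G] [Finite G] {p : ℕ} [Fact p.Prime] (P : Sylow p G) (x : G) (hxP : x ∈ (P : Subgroup G)) (hx : ∃ k : ℕ, orderOf x = p ^ k) (hiso : Cfsg.IsIsolated x) : x ∈ (P : Subgroup G) ⊓ Subgroup.centralizer ((P : Subgroup G) : Set G) ∧ Cfsg.IsStronglyClosed (Subgroup.zpowers x) (P : Subgroup G) ∧ Cfsg.IsWeaklyClosed (Subgroup.zpowers x) (P : Subgroup G) := by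
  have hcl : Cfsg.IsStronglyClosed (Subgroup.zpowers x) (P : Subgroup G) :=
    ⟨Subgroup.zpowers_le.mpr hxP, fun y hy g hg => by
      rw [IsolatedP.conj_zpow_eq hiso hx P hxP hy hg]; exact hy⟩
  refine ⟨IsolatedP.mem_inf_centralizer_sylow P hxP (IsolatedP.le_centralizer hiso P.2 hxP), hcl,
    hcl.1, fun g hg => Subgroup.eq_of_le_of_card_ge ?_ ?_⟩
  · rintro _ ⟨y, hy, rfl⟩
    exact hcl.2 y hy g (hg ⟨y, hy, rfl⟩)
  · rw [Subgroup.card_map_of_injective (MulAut.conj g).injective]

end Cfsg.Agent.S2968
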