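import Cfsg.Statements.S2971
import Cfsg.Agent.Lib.IsolatedP.Basic
import Cfsg.Agent.Lib.IsolatedP.Cyclic
import Cfsg.Agent.Lib.PCore.Basic

set_option autoImplicit false
open Cfsg

namespace Cfsg.Agent.S2971

/-- Let G be a finite group and p an odd prime such that G has p-rank at most 1 (no elementary abelian subgroup of order p²). If x ∈ G is an isolated element of order p, then x is central modulo the largest normal subgroup of G of order prime to p. -/
theorem result {G : Type*} [Group G] [Finite G] {p : ℕ} [Fact p.Prime] (hp : p ≠ 2) (hrk : Cfsg.PRankLE p 1 G) (x : G) (hx : orderOf x = p) (hiso : Cfsg.IsIsolated x) : Cfsg.InZStar p x := by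
  have hp' : p.Prime := Fact.out
  have hxp : ∃ k : ℕ, orderOf x = p ^ k := ⟨1, by rw [hx, pow_one]⟩
  obtain ⟨P, hP⟩ := IsolatedP.exists_sylow_ge hxp
  have hcyc := IsolatedP.isCyclic_of_pRankLE_one hp P.2 (IsolatedP.pRankLE_subgroup hrk _)
  have hx1 : x ≠ 1 := fun h => hp'.ne_one (hx.symm.trans (h ▸ orderOf_one))
  have hnpc := IsolatedP.hasNormalPComplement_of_isolated hiso hx1 P hP hcyc
  obtain ⟨N, hN, hNP⟩ := (Transfer.hasNormalPComplement_iff_exists P).mp hnpc
  have hcop : (Nat.card N).Coprime p := Transfer.coprime_card_of_isComplement'_sylow P hNP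
  intro g
  refine PCore.le_pPrimeCore (hN := hN) hcop ?_
  obtain ⟨⟨⟨n, hn⟩, ⟨q, hq⟩⟩, rfl⟩ := hNP.surjective g
  have : IsMulCommutative ↥(P : Subgroup G) := inferInstance
  have hqx : q * x = x * q := congrArg Subtype.val (this.is_comm.comm (⟨q, hq⟩ : (P : Subgroup G)) ⟨x, hP⟩)
  have e : n * q * x * (n * q)⁻¹ * x⁻¹ = n * (x * n⁻¹ * x⁻¹) := by
    calc n * q * x * (n * q)⁻¹ * x⁻¹ = n * (q * x) * q⁻¹ * n⁻¹ * x⁻¹ := by group
      _ = _ := by rw [hqx]; group
  show n * q * x * (n * q)⁻¹ * x⁻¹ ∈ N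
  rw [e]
  exact N.mul_mem hn (hN.conj_mem _ (N.inv_mem hn) x)

end Cfsg.Agent.S2971
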