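import Cfsg.Statements.S2972
import Cfsg.Agent.Lib.IsolatedP.MinimalCounterexample

set_option autoImplicit false
open scoped Pointwise commutatorElement
open Cfsg

namespace Cfsg.Agent.S2972

/-- Let G be a finite group, p a prime and x ∈ G an isolated element of order p (the only conjugate of x commuting with x is x) which is not central modulo the largest normal subgroup of order prime to p, while x is central modulo the largest normal subgroup of order prime to p in every proper subgroup containing x, and the image of x is so in every quotient of G by a nontrivial normal subgroup (a minimal counterexample to the Z*_p statement). Then the derived subgroup G' is a non-abelian simple group and G = G'⟨x⟩. -/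
theorem result {G : Type*} [Group G] [Finite G] {p : ℕ} [Fact p.Prime] (x : G) (hx : orderOf x = p) (hiso : Cfsg.IsIsolated x) (hnz : ¬ Cfsg.InZStar p x) (hmin : ∀ (H : Subgroup G) (hxH : x ∈ H), H ≠ ⊤ → Cfsg.InZStar p (⟨x, hxH⟩ : ↥H)) (hquot : ∀ (N : Subgroup G) [N.Normal], N ≠ ⊥ → Cfsg.InZStar p (QuotientGroup.mk x : G ⧸ N)) : IsSimpleGroup ↥(commutator G) ∧ ¬ IsMulCommutative ↥(commutator G) ∧ commutator G ⊔ Subgroup.zpowers x = ⊤ := by
  classical
  have hp : p.Prime := Fact.out
  have hxp : ∃ k : ℕ, orderOf x = p ^ k := ⟨1, by rw [hx, pow_one]⟩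
  have hcore := IsolatedP.pPrimeCore_eq_bot_of_minimal hnz hquot
  have hZ := IsolatedP.center_eq_bot_of_minimal hx hiso hnz hquot
  have hx1 : x ≠ 1 := fun h => hp.ne_one (hx.symm.trans (h ▸ orderOf_one))
  have hnotp : ¬ IsPGroup p G := fun h => IsolatedP.not_mem_center_of_minimal hnz
    (Subgroup.mem_center_iff.mpr fun g => Subgroup.mem_centralizer_singleton_iff.mp
      (IsolatedP.le_centralizer hiso (R := ⊤) (PCore.isPGroup_top_iff.mpr h) (Subgroup.mem_top x)
        (Subgroup.mem_top g)))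
  have hsup : ∀ (N : Subgroup G) [N.Normal], N ≠ ⊥ → N ⊔ Subgroup.zpowers x = ⊤ := by
    intro N _ hN
    refine (IsolatedP.normal_le_center_or_sup_eq_top hx hiso hnz hquot hmin N).resolve_left fun h => ?_
    exact hN (le_bot_iff.mp (hZ ▸ h))
  set D := commutator G with hD
  have hDne : D ≠ ⊥ := fun h => IsolatedP.not_mem_center_of_minimal hnz
    (Subgroup.mem_center_iff.mpr fun g => commutatorElement_eq_one_iff_mul_comm.mp
      (Subgroup.mem_bot.mp (h ▸ Subgroup.commutator_mem_commutator (Subgroup.mem_top g)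
        (Subgroup.mem_top x))))
  have hDtop := hsup D hDne
  have hnab : ¬ IsMulCommutative ↥D := by
    intro hab
    have hDp : IsPGroup p ↥D := by
      intro d
      obtain ⟨e, b, hb, hb'⟩ := Nat.exists_eq_pow_mul_and_not_dvd (orderOf_pos d).ne' p hp.ne_one
      refine ⟨e, ?_⟩
      let φ : ↥D →* ↥D :=
        { toFun := fun y => y ^ b
          map_one' := one_pow b
          map_mul' := fun y z => (show Commute y z from hab.is_comm.comm y z).mul_pow b }
      have hkn : (φ.ker.map D.subtype).Normal := ⟨by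
        rintro _ ⟨y, hy, rfl⟩ g
        refine ⟨⟨g * (y : G) * g⁻¹, (inferInstance : D.Normal).conj_mem _ y.2 g⟩, ?_, rfl⟩
        refine Subtype.ext ?_
        show (g * (y : G) * g⁻¹) ^ b = 1
        have hy' : (y : G) ^ b = 1 := congrArg Subtype.val (show y ^ b = 1 from hy)
        rw [conj_pow, hy', mul_one, mul_inv_cancel]⟩
      have hcop : (Nat.card ↥(φ.ker.map D.subtype)).Coprime p := by
        rw [Subgroup.card_map_of_injective D.subtype_injective, Nat.coprime_comm, hp.coprime_iff_not_dvd]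
        intro hdvd
        obtain ⟨y, hy⟩ := exists_prime_orderOf_dvd_card' p hdvd
        have h1 : orderOf (y : ↥D) ∣ b := orderOf_dvd_of_pow_eq_one y.2
        rw [Subgroup.orderOf_coe, hy] at h1
        exact hb h1
      have hle := PCore.le_pPrimeCore (hN := hkn) hcop
      rw [hcore, le_bot_iff, Subgroup.map_eq_bot_iff_of_injective _ D.subtype_injective] at hle
      have hmem : d ^ (p ^ e) ∈ φ.ker := by
        show (d ^ (p ^ e)) ^ b = 1
        rw [← pow_mul, ← hb', pow_orderOf_eq_one]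
      rwa [hle, Subgroup.mem_bot] at hmem
    refine hnotp (PCore.isPGroup_top_iff.mp ?_)
    rw [← hDtop]
    exact hDp.to_sup_of_normal_left (IsolatedP.isPGroup_zpowers hxp)
  obtain ⟨P, hPx⟩ := IsolatedP.exists_sylow_ge hxp
  have hDnt : Nontrivial ↥D := (Subgroup.nontrivial_iff_ne_bot D).mpr hDne
  refine ⟨⟨fun N hN => ?_⟩, hnab, hDtop⟩
  refine or_iff_not_imp_left.mpr fun hNne => ?_
  obtain ⟨S, ⟨hSn, hSle, hSne⟩, hSmin⟩ := Set.Finite.exists_minimal
    (Set.toFinite {S : Subgroup ↥D | S.Normal ∧ S ≤ N ∧ S ≠ ⊥}) ⟨N, hN, le_rfl, hNne⟩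
  have hpS : p ∣ Nat.card S := by
    by_contra h
    have h1 := PCore.le_pPrimeCore (hN := hSn) ((hp.coprime_iff_not_dvd.mpr h).symm)
    rw [PCore.pPrimeCore_eq_bot_of_normal D hcore, le_bot_iff] at h1
    exact hSne h1
  obtain ⟨⟨s, hsS⟩, hs⟩ := exists_prime_orderOf_dvd_card' p hpS
  rw [Subgroup.orderOf_mk] at hs
  have hsp : ∃ k : ℕ, orderOf (s : G) = p ^ k := ⟨1, by rw [pow_one, Subgroup.orderOf_coe, hs]⟩
  obtain ⟨R, hR⟩ := (IsolatedP.isPGroup_zpowers hsp).exists_le_sylow
  obtain ⟨g, hg⟩ := MulAction.exists_smul_eq G R P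
  have hgs : g * (s : G) * g⁻¹ ∈ (P : Subgroup G) := by
    rw [← hg, Sylow.coe_subgroup_smul]
    exact ⟨_, hR (Subgroup.mem_zpowers _), rfl⟩
  obtain ⟨a, ha, c, hc, hac⟩ : g ∈ ((Subgroup.zpowers x : Set G) * (D : Set G)) := by
    rw [← Subgroup.mul_normal, sup_comm, hDtop]; trivial
  have hxPC := IsolatedP.le_centralizer hiso P.2 hPx
  have hcs : c * (s : G) * c⁻¹ ∈ (P : Subgroup G) := by
    have e : c * (s : G) * c⁻¹ = a⁻¹ * (g * (s : G) * g⁻¹) * a := by rw [← hac]; group
    rw [e]
    have haP : a ∈ (P : Subgroup G) := (Subgroup.zpowers_le.mpr hPx) ha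
    exact Subgroup.mul_mem _ (Subgroup.mul_mem _ (Subgroup.inv_mem _ haP) hgs) haP
  set s' : ↥D := ⟨c, hc⟩ * s * ⟨c, hc⟩⁻¹ with hs'
  have hs'S : s' ∈ S := hSn.conj_mem s hsS _
  have hs'1 : s' ≠ 1 := fun h => by
    rw [hs', conj_eq_one_iff] at h
    exact hp.ne_one (hs.symm.trans (h ▸ orderOf_one))
  have hs'x : x * (s' : G) * x⁻¹ = (s' : G) :=
    mul_inv_eq_iff_eq_mul.mpr (Subgroup.mem_centralizer_singleton_iff.mp (hxPC hcs)).symm
  let e : ↥D →* ↥D :=
    { toFun := fun y => ⟨x * (y : G) * x⁻¹, (inferInstance : D.Normal).conj_mem _ y.2 x⟩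
      map_one' := Subtype.ext (by simp)
      map_mul' := fun y z => Subtype.ext (by simp) }
  have hesurj : Function.Surjective e := fun y => ⟨⟨x⁻¹ * (y : G) * x, by
    simpa using (inferInstance : D.Normal).conj_mem _ y.2 x⁻¹⟩, Subtype.ext (by
    show x * (x⁻¹ * (y : G) * x) * x⁻¹ = (y : G)
    group)⟩
  have hSe : (S.map e).Normal := hSn.map e hesurj
  have hSx : S ≤ S.map e := by
    refine le_trans (hSmin (y := S ⊓ S.map e) ⟨Subgroup.normal_inf_normal _ _, inf_le_left.trans hSle,
      fun h => ?_⟩ inf_le_left) inf_le_right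
    have : s' ∈ S ⊓ S.map e := ⟨hs'S, s', hs'S, Subtype.ext hs'x⟩
    rw [h, Subgroup.mem_bot] at this
    exact hs'1 this
  have hSG : (S.map D.subtype).Normal := by
    rw [← Subgroup.normalizer_eq_top_iff, ← top_le_iff, ← hDtop, sup_le_iff]
    constructor
    · have := Subgroup.le_normalizer_map (H := S) D.subtype
      rw [Subgroup.normalizer_eq_top_iff.mpr hSn, ← MonoidHom.range_eq_map, Subgroup.range_subtype] at this
      exact this
    · rw [Subgroup.zpowers_le]
      have hle : (S.map D.subtype).map (MulAut.conj x⁻¹).toMonoidHom ≤ S.map D.subtype := by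
        rintro _ ⟨_, ⟨y, hy, rfl⟩, rfl⟩
        obtain ⟨z, hz, hze⟩ := hSx hy
        refine ⟨z, hz, ?_⟩
        have : x * (z : G) * x⁻¹ = (y : G) := congrArg Subtype.val hze
        show (z : G) = x⁻¹ * (y : G) * x⁻¹⁻¹
        rw [← this]; group
      have heq := Subgroup.eq_of_le_of_card_ge hle
        (Subgroup.card_map_of_injective (MulAut.conj x⁻¹).injective).ge
      rw [← inv_mem_iff]
      refine Subgroup.mem_normalizer_iff.mpr fun a => ⟨fun ha => hle ⟨a, ha, rfl⟩, fun ha => ?_⟩
      obtain ⟨c, hc, hce⟩ : (MulAut.conj x⁻¹) a ∈ (S.map D.subtype).map (MulAut.conj x⁻¹).toMonoidHom :=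
        heq.symm ▸ ha
      exact (MulAut.conj x⁻¹).injective hce ▸ hc
  have hSne' : S.map D.subtype ≠ ⊥ := fun h =>
    hSne ((Subgroup.map_eq_bot_iff_of_injective _ D.subtype_injective).mp h)
  have hDle : D ≤ S.map D.subtype := by
    have htop := hsup (S.map D.subtype) hSne'
    refine Subgroup.commutator_le.mpr fun u _ v _ => ?_
    obtain ⟨u₁, hu₁, u₂, hu₂, rfl⟩ : u ∈ ((S.map D.subtype : Set G) * (Subgroup.zpowers x : Set G)) := by
      rw [← Subgroup.normal_mul, htop]; trivial
    obtain ⟨v₁, hv₁, v₂, hv₂, rfl⟩ : v ∈ ((S.map D.subtype : Set G) * (Subgroup.zpowers x : Set G)) := by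
      rw [← Subgroup.normal_mul, htop]; trivial
    rw [← QuotientGroup.eq_one_iff]
    obtain ⟨i, rfl⟩ := Subgroup.mem_zpowers_iff.mp hu₂
    obtain ⟨j, rfl⟩ := Subgroup.mem_zpowers_iff.mp hv₂
    simp only [commutatorElement_def, QuotientGroup.mk_mul, QuotientGroup.mk_inv,
      (QuotientGroup.eq_one_iff u₁).mpr hu₁, (QuotientGroup.eq_one_iff v₁).mpr hv₁, one_mul,
      QuotientGroup.mk_zpow]
    group
  rw [eq_top_iff]
  intro y _
  obtain ⟨z, hz, hzy⟩ := hDle y.2
  exact D.subtype_injective hzy ▸ hSle hz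

end Cfsg.Agent.S2972
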