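import Cfsg.Statements.S2975
import Cfsg.Agent.Lib.IsolatedP.MinimalCounterexample
import Cfsg.Agent.Lib.Coprime.Sylow

set_option autoImplicit false
open scoped Pointwise
open Cfsg

namespace Cfsg.Agent.S2975

/-- Let G be a finite group, p a prime and x ∈ G an isolated element of order p (the only conjugate of x commuting with x is x) which is not central modulo the largest normal subgroup of order prime to p, while x is central modulo the largest normal subgroup of order prime to p in every proper subgroup containing x, and the image of x is so in every quotient of G by a nontrivial normal subgroup (a minimal counterexample to the Z*_p statement). Then for every prime q, every q-subgroup of G that is normalized by x and maximal among the q-subgroups normalized by x is either trivial or a Sylow q-subgroup of G; and C_G(x) permutes the x-invariant Sylow q-subgroups of G transitively by conjugation. -/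
theorem result {G : Type*} [Group G] [Finite G] {p : ℕ} [Fact p.Prime] (x : G) (hx : orderOf x = p) (hiso : Cfsg.IsIsolated x) (hnz : ¬ Cfsg.InZStar p x) (hmin : ∀ (H : Subgroup G) (hxH : x ∈ H), H ≠ ⊤ → Cfsg.InZStar p (⟨x, hxH⟩ : ↥H)) (hquot : ∀ (N : Subgroup G) [N.Normal], N ≠ ⊥ → Cfsg.InZStar p (QuotientGroup.mk x : G ⧸ N)) (q : ℕ) [Fact q.Prime] : (∀ Q : Subgroup G, IsPGroup q ↥Q → x ∈ Subgroup.normalizer (Q : Set G) → (∀ R : Subgroup G, IsPGroup q ↥R → x ∈ Subgroup.normalizer (R : Set G) → Q ≤ R → R = Q) → Q = ⊥ ∨ ∃ S : Sylow q G, (S : Subgroup G) = Q) ∧ (∀ S₁ S₂ : Sylow q G, x ∈ Subgroup.normalizer ((S₁ : Subgroup G) : Set G) → x ∈ Subgroup.normalizer ((S₂ : Subgroup G) : Set G) → ∃ c ∈ Subgroup.centralizer ({x} : Set G), (S₁ : Subgroup G).map (MulAut.conj c).toMonoidHom = (S₂ : Subgroup G)) := by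
  classical
  have hp : p.Prime := Fact.out
  have hxp : ∃ k : ℕ, orderOf x = p ^ k := ⟨1, by rw [hx, pow_one]⟩
  constructor
  · intro Q hQ hxQ hmax
    refine or_iff_not_imp_left.mpr fun hne => ?_
    by_cases hpq : q = p
    · subst hpq
      have hsup := IsPGroup.to_sup_of_normal_left' (p := q) hQ
        (IsolatedP.isPGroup_zpowers hxp) (Subgroup.zpowers_le.mpr hxQ)
      have hxN : x ∈ Subgroup.normalizer ((Q ⊔ Subgroup.zpowers x : Subgroup G) : Set G) :=
        Subgroup.le_normalizer (Subgroup.mem_sup_right (Subgroup.mem_zpowers x))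
      have hQx := hmax _ hsup hxN le_sup_left
      obtain ⟨S, hS⟩ := hQ.exists_le_sylow
      exact ⟨S, hmax S S.2 (Subgroup.le_normalizer (hS (hQx.le (Subgroup.mem_sup_right
        (Subgroup.mem_zpowers x))))) hS⟩
    · have hcore := IsolatedP.pPrimeCore_eq_bot_of_minimal hnz hquot
      set H := Subgroup.normalizer (Q : Set G) with hH
      have hqp : Nat.Coprime q p := (Nat.coprime_primes Fact.out hp).mpr hpq
      have hHne : H ≠ ⊤ := fun h => by
        have hQn : Q.Normal := Subgroup.normalizer_eq_top_iff.mp h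
        obtain ⟨k, hk⟩ := hQ.exists_card_eq
        have hle := PCore.le_pPrimeCore (hN := hQn) (by rw [hk]; exact hqp.pow_left k)
        rw [hcore, le_bot_iff] at hle
        exact hne hle
      obtain ⟨T, hT⟩ := hQ.exists_le_sylow
      refine ⟨T, ?_⟩
      set R := (T : Subgroup G) ⊓ H with hR
      have hQR : Q ≤ R := le_inf hT Subgroup.le_normalizer
      suffices hRQ : R = Q by
        by_contra hTQ
        have hnil : Group.IsNilpotent ↥(T : Subgroup G) := T.2.isNilpotent
        obtain ⟨t, ht, htQ⟩ := SetLike.exists_of_lt (Group.normalizerCondition_of_isNilpotent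
          (Q.subgroupOf (T : Subgroup G)) (lt_top_iff_ne_top.mpr fun h =>
            hTQ (le_antisymm (Subgroup.subgroupOf_eq_top.mp h) hT)))
        refine htQ (hRQ.le ⟨t.2, Subgroup.mem_normalizer_iff.mpr fun a => ⟨fun ha => ?_, fun ha => ?_⟩⟩)
        · exact (Subgroup.mem_normalizer_iff.mp ht ⟨a, hT ha⟩).mp ha
        · have haT : a ∈ (T : Subgroup G) := by
            have := Subgroup.mul_mem _ (Subgroup.mul_mem _ (Subgroup.inv_mem _ t.2) (hT ha)) t.2
            simpa [mul_assoc] using this
          exact (Subgroup.mem_normalizer_iff.mp ht ⟨a, haT⟩).mpr ha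
      set K := (Cfsg.pPrimeCore p ↥H).map H.subtype with hK
      set W := R ⊔ K with hW
      have hKH : K ≤ H := Subgroup.map_subtype_le _
      have hWH : W ≤ H := sup_le inf_le_right hKH
      have hKn : H ≤ Subgroup.normalizer (K : Set G) := by
        have := Subgroup.le_normalizer_map (H := Cfsg.pPrimeCore p ↥H) H.subtype
        rw [Subgroup.normalizer_eq_top_iff.mpr inferInstance, ← MonoidHom.range_eq_map,
          Subgroup.range_subtype] at this
        exact this
      have hRq : IsPGroup q ↥R := T.2.to_le inf_le_left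
      have hWc : (Nat.card ↥W).Coprime p := by
        have hd : Nat.card ↥(K ⊔ R) ∣ Nat.card ↥K * Nat.card ↥R := by
          have h1 := PCore.card_sup_dvd (Cfsg.pPrimeCore p ↥H) (R.subgroupOf H)
          rw [← Subgroup.card_map_of_injective H.subtype_injective, Subgroup.map_sup,
            Subgroup.map_subgroupOf_eq_of_le (show R ≤ H from inf_le_right),
            Nat.card_congr (Subgroup.subgroupOfEquivOfLe (show R ≤ H from inf_le_right)).toEquiv] at h1
          rw [hK, Subgroup.card_map_of_injective H.subtype_injective]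
          exact h1
        rw [hW, sup_comm]
        refine Nat.Coprime.coprime_dvd_left hd (Nat.Coprime.mul_left ?_ ?_)
        · rw [hK, Subgroup.card_map_of_injective H.subtype_injective]
          exact PCore.coprime_card_pPrimeCore
        · obtain ⟨k, hk⟩ := hRq.exists_card_eq
          rw [hk]; exact hqp.pow_left k
      have hxW : Subgroup.zpowers x ≤ Subgroup.normalizer (W : Set G) := by
        rw [Subgroup.zpowers_le]
        have hle : W.map (MulAut.conj x).toMonoidHom ≤ W := by
          rw [hW, Subgroup.map_sup, sup_le_iff]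
          constructor
          · rintro _ ⟨r, hr, rfl⟩
            have hk : r⁻¹ * x * r * x⁻¹ ∈ K :=
              ⟨⟨r, hr.2⟩⁻¹ * ⟨x, hxQ⟩ * ⟨r, hr.2⟩ * ⟨x, hxQ⟩⁻¹, by
                simpa using hmin H hxQ hHne ⟨r, hr.2⟩⁻¹, by simp⟩
            have e : x * r * x⁻¹ = r * (r⁻¹ * x * r * x⁻¹) := by group
            show x * r * x⁻¹ ∈ R ⊔ K
            rw [e]
            exact mul_mem (Subgroup.mem_sup_left hr) (Subgroup.mem_sup_right hk)
          · rintro _ ⟨k, hk, rfl⟩
            exact Subgroup.mem_sup_right ((Subgroup.mem_normalizer_iff.mp (hKn hxQ) k).mp hk)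
        have heq := Subgroup.eq_of_le_of_card_ge hle
          (Subgroup.card_map_of_injective (MulAut.conj x).injective).ge
        refine Subgroup.mem_normalizer_iff.mpr fun a => ⟨fun ha => hle ⟨a, ha, rfl⟩, fun ha => ?_⟩
        obtain ⟨c, hc, hce⟩ : (MulAut.conj x) a ∈ W.map (MulAut.conj x).toMonoidHom := heq.symm ▸ ha
        exact (MulAut.conj x).injective hce ▸ hc
      have hcop : (Nat.card ↥(Subgroup.zpowers x)).Coprime (Nat.card ↥W) := by
        rw [Nat.card_zpowers, hx]; exact hWc.symm
      have hsol : Group.IsSolvable ↥(Subgroup.zpowers x) :=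
        Group.isSolvable_of_comm fun a b => mul_comm' a b
      obtain ⟨S, hS⟩ := Coprime.exists_invariant_sylow hxW hcop (Or.inl hsol) q
      set S' := (S : Subgroup ↥W).map W.subtype with hS'
      have hQW : Q ≤ W := hQR.trans le_sup_left
      have hQWn : (Q.subgroupOf W).Normal :=
        (Subgroup.normal_subgroupOf_iff_le_normalizer hQW).mpr hWH
      have hQS : Q ≤ S' := fun a ha =>
        ⟨⟨a, hQW ha⟩, (PCore.le_pCore (hN := hQWn) hQ.comap_subtype).trans (PCore.pCore_le_sylow S)
          (show (⟨a, hQW ha⟩ : ↥W) ∈ Q.subgroupOf W from ha), rfl⟩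
      have hxS : x ∈ Subgroup.normalizer (S' : Set G) := hS (Subgroup.mem_zpowers x)
      have hSQ := hmax S' (S.2.map _) hxS hQS
      obtain ⟨S₂, hS₂⟩ := (hRq.comap_subtype (K := W)).exists_le_sylow
      obtain ⟨k, hk⟩ := MulAction.exists_smul_eq ↥W S₂ S
      refine le_antisymm ?_ hQR
      have hcardR : Nat.card ↥R ≤ Nat.card ↥Q := by
        rw [← hSQ, hS', Subgroup.card_map_of_injective W.subtype_injective,
          ← Nat.card_congr (Subgroup.subgroupOfEquivOfLe (le_sup_left : R ≤ W)).toEquiv]
        refine (Subgroup.card_le_of_le hS₂).trans ?_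
        rw [← hk]
        exact (Nat.card_congr (Sylow.equiv S₂ (k • S₂)).toEquiv).le
      exact (Subgroup.eq_of_le_of_card_ge hQR hcardR).ge
  · intro S₁ S₂ h1 h2
    obtain ⟨g, hg⟩ := MulAction.exists_smul_eq G S₁ S₂
    have hgx : g * x * g⁻¹ ∈ Subgroup.normalizer ((S₂ : Subgroup G) : Set G) := by
      refine Sylow.smul_eq_iff_mem_normalizer.mp ?_
      rw [← hg, ← mul_smul]
      conv_lhs => rw [show g * x * g⁻¹ * g = g * x by group]
      rw [mul_smul, Sylow.smul_eq_iff_mem_normalizer.mpr h1]
    obtain ⟨k, hk, hkg⟩ := IsolatedP.exists_conj_eq hiso hxp h2 hgx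
    refine ⟨k * g, hkg, ?_⟩
    have : (k * g) • S₁ = S₂ := by
      rw [mul_smul, hg, Sylow.smul_eq_iff_mem_normalizer.mpr hk]
    exact congrArg (fun T : Sylow q G => (T : Subgroup G)) this

end Cfsg.Agent.S2975
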