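import Cfsg.Statements.S2984
import Cfsg.Agent.Lib.BaumannBlock.Facts

set_option autoImplicit false
open Cfsg

namespace Cfsg.Agent.S2984

/-- Let G be a finite group of characteristic p (C_G(O_p(G)) ≤ O_p(G)), T a Sylow p-subgroup and E a B(T)-block of G, with W_E = [Ω₁(Z(O_p(E))), E]. Then E = O^p(E·O_p(G)), W_E ≤ Ω₁(Z(O_p(G))), and [W_E, J(T)] ≠ 1, where J(T) is generated by the elementary abelian p-subgroups of T of largest order. -/
theorem result {G : Type*} [Group G] [Finite G] {p : ℕ} [Fact p.Prime] (hG : Subgroup.centralizer (Cfsg.pCore p G : Set G) ≤ Cfsg.pCore p G) (T : Sylow p G) (E : Subgroup G) (hE : Cfsg.IsBaumannBlock p (T : Subgroup G) E) : Cfsg.pResidualOf p (E ⊔ Cfsg.pCore p G) = E ∧ ⁅Cfsg.omegaOneCenter p (Cfsg.pCoreOf p E), E⁆ ≤ Cfsg.omegaOneCenter p (Cfsg.pCore p G) ∧ ⁅⁅Cfsg.omegaOneCenter p (Cfsg.pCoreOf p E), E⁆, Cfsg.thompsonSubgroupOf p (T : Subgroup G)⁆ ≠ ⊥ := by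
  refine ⟨?_, fun x hx => BaumannBlock.commutator_le_omega hG hE hx, BaumannBlock.thompson_not_centralize hG hE⟩
  have hR : IsPGroup p ↥(Cfsg.pCore p G) := LocalStructure.isPGroup_pCore p
  have hRn : (Cfsg.pCore p G).Normal := LocalStructure.pCore_normal p G
  have hnR : ∀ H : Subgroup G, H ≤ Subgroup.normalizer (Cfsg.pCore p G : Set G) := fun H => by
    rw [Subgroup.normalizer_eq_top]; exact le_top
  have hRE : Cfsg.pCore p G ≤ Subgroup.normalizer (E : Set G) :=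
    BaumannBlock.le_normalizer_block hE.1 hE.2.1 hR (hnR _) (hnR _)
  set X := E ⊔ Cfsg.pCore p G
  have hEn : (E.subgroupOf X).Normal :=
    Subgroup.normal_subgroupOf_of_le_normalizer (sup_le Subgroup.le_normalizer hRE)
  refine le_antisymm ?_ ?_
  · rw [Cfsg.pResidualOf, Subgroup.map_le_iff_le_comap]
    refine Transfer.pResidual_le_of_isPGroup_quotient (E.subgroupOf X) ?_
    intro y
    obtain ⟨⟨x, hx⟩, rfl⟩ := QuotientGroup.mk_surjective y
    rw [← SetLike.mem_coe, Subgroup.coe_mul_of_right_le_normalizer_left _ _ hRE] at hx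
    obtain ⟨e, he, r, hr, rfl⟩ := hx
    obtain ⟨k, hk⟩ := hR ⟨r, hr⟩
    refine ⟨k, ?_⟩
    have heX : e ∈ X := Subgroup.mem_sup_left he
    have hrX : r ∈ X := Subgroup.mem_sup_right hr
    have h1 : (QuotientGroup.mk (⟨e, heX⟩ * ⟨r, hrX⟩ : ↥X) : ↥X ⧸ E.subgroupOf X) = QuotientGroup.mk ⟨r, hrX⟩ := by
      rw [QuotientGroup.mk_mul, (QuotientGroup.eq_one_iff (⟨e, heX⟩ : ↥X)).mpr he, one_mul]
    show (QuotientGroup.mk (⟨e, heX⟩ * ⟨r, hrX⟩ : ↥X) : ↥X ⧸ E.subgroupOf X) ^ p ^ k = 1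
    rw [h1, ← QuotientGroup.mk_pow, QuotientGroup.eq_one_iff, Subgroup.mem_subgroupOf]
    have : r ^ p ^ k = 1 := congrArg Subtype.val hk
    rw [Subgroup.coe_pow, this]
    exact one_mem E
  · refine BaumannBlock.le_of_coprime_mem hE.1 fun x hx hxp => ?_
    exact ⟨⟨x, Subgroup.mem_sup_left hx⟩, Transfer.mem_residual_of_coprime (by rwa [Subgroup.orderOf_mk]), rfl⟩

end Cfsg.Agent.S2984
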