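import Cfsg.Statements.S2989
import Cfsg.Agent.Lib.PushingUp.CentralProduct

set_option autoImplicit false
open Cfsg

namespace Cfsg.Agent.S2989

/-- Let G be a finite group and S a Sylow p-subgroup of G in the basic pushing-up situation (G ≠ 1, C_G(O_p(G)) ≤ O_p(G), S lies in a unique maximal subgroup of G, and some quotient of G is isomorphic to PSL₂ over a field of order a power of p), and suppose that S centralizes Z(J(S)), where J(S) is generated by the abelian subgroups of S of largest order (that is, J̃(S) = C_S(Z(J(S))) = S). Call a subgroup R of S centrally large if |R|·|Z(R)| is as large as possible among subgroups of S, and let S_Φ be the subgroup generated by the Frattini subgroups Φ(Q) of those minimal centrally large subgroups Q of S whose Ω₁(Z(Q)) has the largest order among minimal centrally large subgroups. Then Z(S) or S_Φ is normal in G; and if S_Φ = 1, the minimal centrally large subgroups of S are exactly the abelian subgroups of S of largest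 order, and at least one of them is elementary abelian. -/
theorem result {G : Type*} [Group G] [Finite G] {p : ℕ} [Fact p.Prime] (S : Subgroup G) (hE : Cfsg.IsPushingUpSituation p S) (hJ : S ≤ Subgroup.centralizer (Cfsg.centerThompsonAOf S : Set G)) : ((S ⊓ Subgroup.centralizer (S : Set G)).Normal ∨ ((Cfsg.frattiniOfMinimalCLJoin p ↥S).map S.subtype).Normal) ∧ (Cfsg.frattiniOfMinimalCLJoin p ↥S = ⊥ → (∀ Q : Subgroup ↥S, Cfsg.IsMinimalCentrallyLarge Q ↔ Q ∈ Cfsg.maxAbelianSubgroups ↥S) ∧ ∃ A ∈ Cfsg.maxAbelianSubgroups ↥S, Cfsg.IsElementaryAbelian p A) := by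
  open Cfsg.Agent.PushingUp in
  obtain ⟨-, ⟨P, rfl⟩, hc, hM, K, hK, F, iF, iFt, n, hF, hE3⟩ := hE
  obtain ⟨M, h⟩ := exists_hyp P hc hM K hF hE3
  refine ⟨?_, fun hΦ => ?_⟩
  · by_cases hZn : ((P : Subgroup G) ⊓ Subgroup.centralizer ((P : Subgroup G) : Set G)).Normal
    · exact Or.inl hZn
    · obtain ⟨hA, hV⟩ := h.act_of_not_normal hZn hJ
      exact Or.inr (h.frattiniJoin_normal hA hV)
  · obtain ⟨R₀, hR₀⟩ := Cfsg.Agent.CLarge.exists_isCentrallyLarge (G := ↥(P : Subgroup G))
    obtain ⟨R₁, -, hR₁⟩ := Cfsg.Agent.CLarge.exists_isMinimalCentrallyLarge_le hR₀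
    obtain ⟨R, hR, hmax⟩ := Set.exists_max_image
      {Q : Subgroup ↥(P : Subgroup G) | Cfsg.IsMinimalCentrallyLarge Q}
      (fun Q => Nat.card ↥(Cfsg.omegaOneCenter p Q)) (Set.toFinite _) ⟨R₁, hR₁⟩
    have hRm : Nat.card ↥(Cfsg.omegaOneCenter p R) = Cfsg.maxOmegaCenterOfMinimalCL p ↥(P : Subgroup G) :=
      le_antisymm (le_csSup ⟨Nat.card ↥(Cfsg.omegaOneCenter p R), fun k hk => by
          obtain ⟨Q, hQ, e⟩ := Set.mem_ofPred.mp hk
          exact e ▸ hmax Q hQ⟩ (Set.mem_ofPred.mpr ⟨R, hR, rfl⟩))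
        (csSup_le ⟨_, Set.mem_ofPred.mpr ⟨R, hR, rfl⟩⟩ fun k hk => by
          obtain ⟨Q, hQ, e⟩ := Set.mem_ofPred.mp hk
          exact e ▸ hmax Q hQ)
    have h0 : frattini ↥R = ⊥ := by
      refine (Subgroup.map_eq_bot_iff_of_injective _ R.subtype_injective).mp (le_bot_iff.mp ?_)
      exact le_trans (le_iSup_of_le (⟨R, hR, hRm⟩ : {Q : Subgroup ↥(P : Subgroup G) //
        Cfsg.IsMinimalCentrallyLarge Q ∧ Nat.card ↥(Cfsg.omegaOneCenter p Q) =
          Cfsg.maxOmegaCenterOfMinimalCL p ↥(P : Subgroup G)}) le_rfl) hΦ.le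
    obtain ⟨hab, hexp⟩ := (Cfsg.Agent.PGroup.frattini_eq_bot_iff (P.2.to_subgroup R)).mp h0
    have hiff := (Cfsg.Agent.S3007.result _ P.2 R R hR hR).2.2.2.2 hab
    exact ⟨hiff, R, (hiff R).mp hR, hab, fun a ha => congrArg Subtype.val (hexp ⟨a, ha⟩)⟩

end Cfsg.Agent.S2989
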