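import Cfsg.Statements.S2990
import Cfsg.Agent.Lib.PushingUp.CentralProduct

set_option autoImplicit false
open Cfsg

namespace Cfsg.Agent.S2990

/-- Let G be a finite group and S a Sylow p-subgroup of G in the basic pushing-up situation (G ≠ 1, C_G(O_p(G)) ≤ O_p(G), S lies in a unique maximal subgroup of G, and some quotient of G is isomorphic to PSL₂ over a field of order a power of p), and suppose that S centralizes Z(J(S)), where J(S) is generated by the abelian subgroups of S of largest order (that is, J̃(S) = C_S(Z(J(S))) = S). Call a subgroup R of S centrally large if |R|·|Z(R)| is as large as possible among subgroups of S, let Q be a minimal centrally large subgroup of S and let S_MCL be the subgroup generated by all minimal centrally large subgroups of S. Then the derived subgroup [Q, Q] is characteristic in S; Z(S) ∩ [Q, Q] or S_MCL is normal in G; and if [Q, Q] = 1, the minimal centrally large subgroups of S are exactly the abelian subgroups of S of largest order. -/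
theorem result {G : Type*} [Group G] [Finite G] {p : ℕ} [Fact p.Prime] (S : Subgroup G) (hE : Cfsg.IsPushingUpSituation p S) (hJ : S ≤ Subgroup.centralizer (Cfsg.centerThompsonAOf S : Set G)) (Q : Subgroup ↥S) (hQ : Cfsg.IsMinimalCentrallyLarge Q) : (⁅Q, Q⁆).Characteristic ∧ (((S ⊓ Subgroup.centralizer (S : Set G)) ⊓ (⁅Q, Q⁆).map S.subtype).Normal ∨ ((Cfsg.minimalCentrallyLargeJoin ↥S).map S.subtype).Normal) ∧ (⁅Q, Q⁆ = ⊥ → ∀ R : Subgroup ↥S, Cfsg.IsMinimalCentrallyLarge R ↔ R ∈ Cfsg.maxAbelianSubgroups ↥S) := by
  open Cfsg.Agent.PushingUp in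
  obtain ⟨-, ⟨P, rfl⟩, hc, hM, K, hK, F, iF, iFt, n, hF, hE3⟩ := hE
  refine ⟨commutator_map_equiv P.2 hQ, ?_, fun hD R => (Cfsg.Agent.S3007.result _ P.2 Q Q hQ hQ).2.2.2.2
    (Cfsg.Agent.CLarge.isMulCommutative_iff_le_centralizer.mpr
      (Subgroup.commutator_eq_bot_iff_le_centralizer.mp hD)) R⟩
  obtain ⟨M, h⟩ := exists_hyp P hc hM K hF hE3
  by_cases hZn : ((P : Subgroup G) ⊓ Subgroup.centralizer ((P : Subgroup G) : Set G)).Normal
  · exact Or.inl (normal_of_le_center (inf_le_left.trans (h.center_of_normal hZn)))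
  · obtain ⟨hA, hV⟩ := h.act_of_not_normal hZn hJ
    exact h.minimalJoin_or hA hV hQ

end Cfsg.Agent.S2990
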