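import Cfsg.Statements.S2998
import Cfsg.Agent.Lib.IsolatedP.Basic

set_option autoImplicit false
open scoped Pointwise
open Cfsg

namespace Cfsg.Agent.S2998

/-- Let G be a finite group, p a prime, P a Sylow p-subgroup of G and x ∈ P an element such that N_G(R) ≤ C_G(x) for every nontrivial subgroup R of P. Then P ≤ C_G(x); every G-conjugate of x lying in P equals x (so g ∈ C_G(x) whenever g x g⁻¹ ∈ P); and for every normal subgroup N of G, the image of x in G ⧸ N has the same property with respect to the image of P: the normalizer of every nontrivial subgroup of the image of P centralizes the image of x. -/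
theorem result {G : Type*} [Group G] [Finite G] {p : ℕ} [Fact p.Prime] (P : Sylow p G) (x : G) (hxP : x ∈ (P : Subgroup G)) (hlc : ∀ R : Subgroup G, R ≤ (P : Subgroup G) → R ≠ ⊥ → Subgroup.normalizer (R : Set G) ≤ Subgroup.centralizer ({x} : Set G)) : (P : Subgroup G) ≤ Subgroup.centralizer ({x} : Set G) ∧ (∀ g : G, g * x * g⁻¹ ∈ (P : Subgroup G) → g * x * g⁻¹ = x) ∧ ∀ (N : Subgroup G) [N.Normal], ∀ R : Subgroup (G ⧸ N), R ≤ (P : Subgroup G).map (QuotientGroup.mk' N) → R ≠ ⊥ → Subgroup.normalizer (R : Set (G ⧸ N)) ≤ Subgroup.centralizer ({(QuotientGroup.mk x : G ⧸ N)} : Set (G ⧸ N)) := by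
  have hp : p.Prime := Fact.out
  by_cases hx1 : x = 1
  · subst hx1
    exact ⟨fun y _ => Subgroup.mem_centralizer_singleton_iff.mpr (by rw [mul_one, one_mul]),
      fun g _ => by group, fun N _ R _ _ y _ => Subgroup.mem_centralizer_singleton_iff.mpr
        (by rw [QuotientGroup.mk_one, mul_one, one_mul])⟩
  have hne : (P : Subgroup G) ≠ ⊥ := fun h => hx1 (Subgroup.mem_bot.mp (h ▸ hxP))
  have hPC : (P : Subgroup G) ≤ Subgroup.centralizer ({x} : Set G) :=
    Subgroup.le_normalizer.trans (hlc _ le_rfl hne)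
  have key : ∀ g : G, g * x * g⁻¹ ∈ (P : Subgroup G) → g * x * g⁻¹ = x := by
    intro g hg
    set y := g * x * g⁻¹ with hy
    have hy1 : Subgroup.zpowers y ≠ ⊥ := by
      rw [ne_eq, Subgroup.zpowers_eq_bot]
      exact fun h => hx1 (conj_eq_one_iff.mp h)
    have h1 : ((g • P : Sylow p G) : Subgroup G) ≤ Subgroup.centralizer ({x} : Set G) := by
      refine le_trans ?_ (hlc _ (Subgroup.zpowers_le.mpr hg) hy1)
      refine le_trans ?_ (Subgroup.centralizer_le_normalizer _)
      rw [Sylow.coe_subgroup_smul]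
      rintro _ ⟨q, hq, rfl⟩ z hz
      obtain ⟨m, rfl⟩ := Subgroup.mem_zpowers_iff.mp hz
      have hc : Commute x q := (Subgroup.mem_centralizer_singleton_iff.mp (hPC hq)).symm
      exact ((hc.map (MulAut.conj g).toMonoidHom).zpow_left m).eq
    obtain ⟨h, hh⟩ := MulAction.exists_smul_eq ↥(Subgroup.centralizer ({x} : Set G))
      (P.subtype hPC) ((g • P).subtype h1)
    have hh' : ((h : G) • P : Sylow p G) = g • P := by
      apply Sylow.subtype_injective (hP := Sylow.smul_le hPC h) (hQ := h1)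
      rw [← hh]
      exact (Sylow.smul_subtype hPC h).symm
    have hn : (h : G)⁻¹ * g ∈ Subgroup.normalizer ((P : Subgroup G) : Set G) := by
      refine Sylow.smul_eq_iff_mem_normalizer.mp ?_
      rw [mul_smul, ← hh', inv_smul_smul]
    have hg' : g = (h : G) * ((h : G)⁻¹ * g) := (mul_inv_cancel_left _ _).symm
    exact IsolatedP.conj_eq_of_mem_centralizer_singleton
      (hg' ▸ Subgroup.mul_mem _ h.2 (hlc _ le_rfl hne hn))
  refine ⟨hPC, key, fun N _ R hR hR1 n hn => ?_⟩
  obtain ⟨n, rfl⟩ := QuotientGroup.mk_surjective n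
  set L := R.comap (QuotientGroup.mk' N) with hL
  have hPLne : L ⊓ (P : Subgroup G) ≠ ⊥ := by
    intro h
    obtain ⟨r, hr, hr1⟩ := (R.bot_or_exists_ne_one).resolve_left hR1
    obtain ⟨q, hq, rfl⟩ := hR hr
    have hm : q ∈ L ⊓ (P : Subgroup G) := ⟨hr, hq⟩
    rw [h, Subgroup.mem_bot] at hm
    exact hr1 (by rw [hm, map_one])
  have hLeq : L ≤ N ⊔ (P : Subgroup G) := by
    intro l hl
    obtain ⟨q, hq, he⟩ := hR hl
    have : l = (l * q⁻¹) * q := by group
    rw [this]
    refine mul_mem (Subgroup.mem_sup_left ?_) (Subgroup.mem_sup_right hq)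
    rw [← QuotientGroup.eq_one_iff, QuotientGroup.mk_mul, QuotientGroup.mk_inv]
    exact mul_inv_eq_one.mpr he.symm
  have formula : ∀ M : Subgroup G, N ≤ M → M ≤ N ⊔ (M ⊓ (P : Subgroup G)) →
      (M ⊓ (P : Subgroup G)).relIndex M = (P : Subgroup G).relIndex N := by
    intro M hNM hM
    have hMeq : (M ⊓ (P : Subgroup G)) ⊔ N = M :=
      le_antisymm (sup_le inf_le_left hNM) (by rw [sup_comm]; exact hM)
    have h1 : N.relIndex M = N.relIndex (M ⊓ (P : Subgroup G)) := by
      conv_lhs => rw [← hMeq]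
      exact Subgroup.relIndex_sup_right (H := M ⊓ (P : Subgroup G)) (K := N)
    rw [← Subgroup.inf_relIndex_right N (M ⊓ (P : Subgroup G)), ← inf_assoc, inf_eq_left.mpr hNM] at h1
    have h2 := Subgroup.relIndex_mul_relIndex (N ⊓ (P : Subgroup G)) (M ⊓ (P : Subgroup G)) M
      (inf_le_inf_right _ hNM) inf_le_left
    have h3 := Subgroup.relIndex_mul_relIndex (N ⊓ (P : Subgroup G)) N M inf_le_left hNM
    rw [h1, mul_comm ((N ⊓ (P : Subgroup G)).relIndex N), ← h2, Subgroup.inf_relIndex_left] at h3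
    exact (Nat.eq_of_mul_eq_mul_left (Nat.pos_of_ne_zero Subgroup.index_ne_zero_of_finite) h3).symm
  have hidx : ¬ p ∣ (L ⊓ (P : Subgroup G)).relIndex L := by
    have hNL : N ≤ L := fun a ha => by
      show QuotientGroup.mk' N a ∈ R
      rw [show QuotientGroup.mk' N a = 1 from (QuotientGroup.eq_one_iff a).mpr ha]
      exact R.one_mem
    have hL' : L ≤ N ⊔ (L ⊓ (P : Subgroup G)) := fun l hl => by
      obtain ⟨a, ha, q, hq, rfl⟩ : l ∈ ((N : Set G) * ((P : Subgroup G) : Set G)) := by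
        rw [← Subgroup.normal_mul]; exact hLeq hl
      have hqL : q ∈ L := (Subgroup.mul_mem_cancel_left _ (hNL ha)).mp hl
      exact mul_mem (Subgroup.mem_sup_left ha) (Subgroup.mem_sup_right ⟨hqL, hq⟩)
    have h2 : (N ⊔ (P : Subgroup G)) ⊓ (P : Subgroup G) = (P : Subgroup G) := inf_eq_right.mpr le_sup_right
    have h4 := formula (N ⊔ (P : Subgroup G)) le_sup_left (by rw [h2])
    rw [h2] at h4
    rw [formula L hNL hL', ← h4]
    exact fun hd => P.not_dvd_index (hd.trans (Subgroup.relIndex_dvd_index_of_le le_sup_right))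
  have hQp : IsPGroup p ↥((L ⊓ (P : Subgroup G)).subgroupOf L) :=
    (P.2.to_le inf_le_right).comap_subtype
  set Q₁ : Sylow p ↥L := hQp.toSylow hidx with hQ₁
  have hconjL : ∀ a : G, a ∈ L ↔ n * a * n⁻¹ ∈ L := fun a => by
    show QuotientGroup.mk' N a ∈ R ↔ QuotientGroup.mk' N (n * a * n⁻¹) ∈ R
    rw [map_mul, map_mul, map_inv]
    exact Subgroup.mem_normalizer_iff.mp hn _
  let e : ↥L →* ↥L :=
    { toFun := fun a => ⟨n * (a : G) * n⁻¹, (hconjL _).mp a.2⟩
      map_one' := Subtype.ext (by simp)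
      map_mul' := fun a b => Subtype.ext (by simp) }
  have he : Function.Surjective e := fun a => ⟨⟨n⁻¹ * (a : G) * n, (hconjL _).mpr (by
      rw [show n * (n⁻¹ * (a : G) * n) * n⁻¹ = a by group]; exact a.2)⟩, Subtype.ext (by
      show n * (n⁻¹ * (a : G) * n) * n⁻¹ = a
      group)⟩
  obtain ⟨l, hl⟩ := MulAction.exists_smul_eq ↥L (Q₁.mapSurjective he) Q₁
  have hln : ∀ a : G, a ∈ L ⊓ (P : Subgroup G) → ((l : G) * n) * a * ((l : G) * n)⁻¹ ∈ L ⊓ (P : Subgroup G) := by
    intro a ha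
    have h1 : (⟨a, ha.1⟩ : ↥L) ∈ (Q₁ : Subgroup ↥L) := ha
    have h2 : l * e ⟨a, ha.1⟩ * l⁻¹ ∈ (Q₁ : Subgroup ↥L) := by
      rw [← hl, Sylow.coe_subgroup_smul]
      exact ⟨e ⟨a, ha.1⟩, ⟨_, h1, rfl⟩, rfl⟩
    have h3 : (l : G) * (n * a * n⁻¹) * (l : G)⁻¹ ∈ L ⊓ (P : Subgroup G) := h2
    rw [show ((l : G) * n) * a * ((l : G) * n)⁻¹ = (l : G) * (n * a * n⁻¹) * (l : G)⁻¹ by group]
    exact h3
  have hlnN : (l : G) * n ∈ Subgroup.normalizer ((L ⊓ (P : Subgroup G) : Subgroup G) : Set G) := by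
    set Q := L ⊓ (P : Subgroup G)
    have hle : Q.map (MulAut.conj ((l : G) * n)).toMonoidHom ≤ Q := by
      rintro _ ⟨a, ha, rfl⟩; exact hln a ha
    have heq := Subgroup.eq_of_le_of_card_ge hle
      (Subgroup.card_map_of_injective (MulAut.conj ((l : G) * n)).injective).ge
    rw [Subgroup.mem_normalizer_iff]
    refine fun a => ⟨hln a, fun ha => ?_⟩
    have ha' : (MulAut.conj ((l : G) * n)) a ∈ Q.map (MulAut.conj ((l : G) * n)).toMonoidHom :=
      heq.symm ▸ ha
    obtain ⟨c, hc, hce⟩ := ha'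
    exact (MulAut.conj ((l : G) * n)).injective hce ▸ hc
  have h1 := hlc _ inf_le_right hPLne hlnN
  obtain ⟨q, hq, hql⟩ := hR (show QuotientGroup.mk' N (l : G) ∈ R from l.2)
  have h2 : Commute ((QuotientGroup.mk' N) (l : G)) (QuotientGroup.mk' N x) := by
    rw [← hql]
    exact Commute.map (Subgroup.mem_centralizer_singleton_iff.mp (hPC hq)) _
  have h3 : Commute ((QuotientGroup.mk' N) ((l : G) * n)) (QuotientGroup.mk' N x) :=
    Commute.map (Subgroup.mem_centralizer_singleton_iff.mp h1) _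
  rw [map_mul] at h3
  have h4 := h2.inv_left.mul_left h3
  rw [inv_mul_cancel_left] at h4
  exact Subgroup.mem_centralizer_singleton_iff.mpr h4

end Cfsg.Agent.S2998
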