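import Cfsg.Statements.S2999
import Cfsg.Agent.Lib.FFPair.Natural
import Cfsg.Agent.Lib.PMinimal.Basic
import Cfsg.Agent.Lib.PCore.Basic

set_option autoImplicit false
open Cfsg

namespace Cfsg.Agent.S2999

/-- Let p be a prime and let P and V be subgroups of a finite group with V elementary abelian, P normalizing V and acting faithfully on it (P ∩ C(V) = 1). Suppose P is p-minimal (a Sylow p-subgroup T of P is not normal and lies in a unique maximal subgroup M of P) and A ≤ T is an elementary abelian subgroup such that: |V/C_V(A)| ≤ |A| while |A₀|·|C_V(A₀)| < |A|·|C_V(A)| for every nontrivial proper subgroup A₀ of A; [C_V(T), P] ≠ 1; and P = ⟨A, xAx⁻¹⟩ for every x ∈ P outside M. Then, with q = |A|, there is a field F with q elements such that P ≅ SL₂(F), C_V(A) = [V, A]·C_V(P), and P acts on V/C_V(P) as SL₂(F) on its natural two-dimensional module. -/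
theorem result {G : Type*} [Group G] [Finite G] {p : ℕ} [Fact p.Prime] (V P : Subgroup G) (hV : Cfsg.IsElementaryAbelian p V) (hPV : P ≤ Subgroup.normalizer (V : Set G)) (hfaith : P ⊓ Subgroup.centralizer (V : Set G) = ⊥) (hmin : Cfsg.IsPMinimal p ↥P) (T : Sylow p ↥P) (M : Subgroup ↥P) (hM : IsCoatom M) (hTM : (T : Subgroup ↥P) ≤ M) (A : Subgroup G) (hAT : A ≤ ((T : Subgroup ↥P).map P.subtype)) (hAel : Cfsg.IsElementaryAbelian p A) (hi : Nat.card ↥V ≤ Nat.card ↥A * Nat.card ↥(V ⊓ Subgroup.centralizer ((A : Subgroup G) : Set G)) ∧ ∀ A₀ : Subgroup G, A₀ ≤ A → A₀ ≠ ⊥ → A₀ ≠ A → Nat.card ↥A₀ * Nat.card ↥(V ⊓ Subgroup.centralizer ((A₀ : Subgroup G) : Set G)) < Nat.card ↥A * Nat.card ↥(V ⊓ Subgroup.centralizer ((A : Subgroup G) : Set G))) (hii : ⁅(V ⊓ Subgroup.centralizer ((((T : Subgroup ↥P).map P.subtype) : Subgroup G) : Set G)), P⁆ ≠ ⊥) (hiii : ∀ x : ↥P, x ∉ M → A ⊔ A.map (MulAut.conj (x : G)).toMonoidHom = P) : ∃ (F : Type) (_ : Field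 F) (_ : Fintype F), Fintype.card F = Nat.card ↥A ∧ Nonempty (↥P ≃* Matrix.SpecialLinearGroup (Fin 2) F) ∧ (V ⊓ Subgroup.centralizer ((A : Subgroup G) : Set G)) = ⁅V, A⁆ ⊔ (V ⊓ Subgroup.centralizer ((P : Subgroup G) : Set G)) ∧ Cfsg.ActsAsSL2OnSection F ⊤ P V (V ⊓ Subgroup.centralizer ((P : Subgroup G) : Set G)) := by
  classical
  have hK : ∀ K : Subgroup G, K ≤ P → P ≤ Subgroup.normalizer (K : Set G) → IsPGroup p ↥K →
      K ≤ Subgroup.centralizer (FFPair.span P (V ⊓ Subgroup.centralizer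
        ((((T : Subgroup ↥P).map P.subtype) : Subgroup G) : Set G)) : Set G) := by
    intro K hKP hKn hKp
    have hKT : K ≤ (T : Subgroup ↥P).map P.subtype := by
      rw [← Subgroup.map_subgroupOf_eq_of_le hKP]
      have : (K.subgroupOf P).Normal := (Subgroup.normal_subgroupOf_iff_le_normalizer hKP).mpr hKn
      exact Subgroup.map_mono ((PCore.le_pCore (hKp.of_equiv
        (Subgroup.subgroupOfEquivOfLe hKP).symm)).trans (PCore.pCore_le_sylow T))
    rw [Subgroup.le_centralizer_iff]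
    refine iSup_le fun g => ?_
    rintro _ ⟨w, hw, rfl⟩ k hk
    have h1 := hw.2 _ (hKT ((Subgroup.mem_normalizer_iff.mp (hKn (inv_mem g.2)) k).mp hk))
    show k * ((g : G) * w * (g : G)⁻¹) = (g : G) * w * (g : G)⁻¹ * k
    calc k * ((g : G) * w * (g : G)⁻¹) = g * ((g : G)⁻¹ * k * (g : G)⁻¹⁻¹ * w) * (g : G)⁻¹ := by group
      _ = (g : G) * w * (g : G)⁻¹ * k := by rw [h1]; group
  have hS : FFPair.Setting p V P (M.map P.subtype) A (V ⊓ Subgroup.centralizer
      ((((T : Subgroup ↥P).map P.subtype) : Subgroup G) : Set G)) := by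
    refine ⟨hV, hPV, hfaith, hAT.trans (Subgroup.map_mono hTM), Subgroup.map_subtype_le M, ?_, hAel,
      hi.1, FFPair.max_of_strict hi.1 hi.2, fun A₀ h _ => hi.2 A₀ h, inf_le_left, inf_le_right.trans
        (Subgroup.centralizer_le (SetLike.coe_subset_coe.mpr hAT)), hii, ?_, ?_, hK⟩
    · intro e
      refine hM.1 (Subgroup.map_injective P.subtype_injective ?_)
      rw [e, ← MonoidHom.range_eq_map, Subgroup.range_subtype]
    · intro x hx hxM
      exact hiii ⟨x, hx⟩ fun hm => hxM ⟨⟨x, hx⟩, hm, rfl⟩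
    · intro a ha hg
      obtain ⟨a', haT, ea⟩ := hAT ha
      subst ea
      have hn : a' ∈ M.normalCore := fun g => by
        obtain ⟨m, hm, e⟩ := hg g g.2
        rwa [show g * a' * g⁻¹ = m from Subtype.ext e.symm]
      have hp := PMinimal.inf_sylow_le_pCore hmin hM hTM (Subgroup.normalCore_normal M)
        (Subgroup.normalCore_le M) ⟨hn, haT⟩
      refine hK ((Cfsg.pCore p ↥P).map P.subtype) (Subgroup.map_subtype_le _) ?_
        (PCore.isPGroup_pCore.map _) ⟨a', hp, rfl⟩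
      intro g hg'
      refine Subgroup.mem_normalizer_iff.mpr fun k => ?_
      constructor
      · rintro ⟨k', hk', rfl⟩
        exact ⟨⟨g, hg'⟩ * k' * ⟨g, hg'⟩⁻¹, PCore.pCore_normal.conj_mem _ hk' _, rfl⟩
      · rintro ⟨k', hk', e⟩
        refine ⟨⟨g, hg'⟩⁻¹ * k' * ⟨g, hg'⟩⁻¹⁻¹, PCore.pCore_normal.conj_mem _ hk' _, ?_⟩
        show g⁻¹ * (k' : G) * g⁻¹⁻¹ = k
        rw [show (k' : G) = g * k * g⁻¹ from e]
        group
  obtain ⟨F, hF, hFt, h1, h2, h3⟩ := hS.exists_sl_two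
  exact ⟨F, hF, hFt, h1, h2, hS.meet_eq, h3⟩

end Cfsg.Agent.S2999
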