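import Cfsg.Statements.S3003
import Cfsg.Agent.Lib.Coprime.Generation

set_option autoImplicit false
open Cfsg

namespace Cfsg.Agent.S3003

/-- Let G be a finite group, p a prime and Q a large p-subgroup of G: C_G(Q) ≤ Q and N_G(U) ≤ N_G(Q) for every nontrivial subgroup U of C_G(Q). Let Q ≤ G₁ ≤ G, let R be a subgroup of order prime to p normalized by G₁, and let U ≤ G₁ be a p-subgroup. If U contains a nontrivial element which is G₁-conjugate to an element of Z(Q), then C_R(U) = 1. In particular, if U is elementary abelian of order at least p² and every maximal subgroup of U contains a nontrivial element G₁-conjugate into Z(Q), then R = 1. -/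
theorem result {G : Type*} [Group G] [Finite G] {p : ℕ} [Fact p.Prime] (Q : Subgroup G) (hQp : IsPGroup p ↥Q) (hlarge : Cfsg.IsLarge Q) (G₁ : Subgroup G) (hQG : Q ≤ G₁) (R : Subgroup G) (hR : (Nat.card ↥R).Coprime p) (hGR : G₁ ≤ Subgroup.normalizer (R : Set G)) (U : Subgroup G) (hUG : U ≤ G₁) (hUp : IsPGroup p ↥U) : ((∃ x ∈ U, x ≠ 1 ∧ ∃ g ∈ G₁, g * x * g⁻¹ ∈ Q ⊓ Subgroup.centralizer (Q : Set G)) → R ⊓ Subgroup.centralizer (U : Set G) = ⊥) ∧ (Cfsg.IsElementaryAbelian p U → p ^ 2 ≤ Nat.card ↥U → (∀ U₀ : Subgroup G, U₀ ≤ U → IsCoatom (U₀.subgroupOf U) → ∃ x ∈ U₀, x ≠ 1 ∧ ∃ g ∈ G₁, g * x * g⁻¹ ∈ Q ⊓ Subgroup.centralizer (Q : Set G)) → R = ⊥) := by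
  have hp : p.Prime := Fact.out
  have hdisj : ∀ y, y ∈ Q → y ∈ R → y = 1 := fun y hyQ hyR => by
    obtain ⟨k, hk⟩ := hQp ⟨y, hyQ⟩
    have h1 : orderOf y ∣ p ^ k := orderOf_dvd_of_pow_eq_one (congrArg Subtype.val hk)
    have h2 : orderOf y ∣ Nat.card R := by
      rw [← Subgroup.orderOf_mk y hyR]; exact orderOf_dvd_natCard _
    rw [← orderOf_eq_one_iff]
    exact Nat.eq_one_of_dvd_coprimes ((hR.symm).pow_left k) h1 h2
  have key : ∀ U' : Subgroup G, (∃ x ∈ U', x ≠ 1 ∧ ∃ g ∈ G₁, g * x * g⁻¹ ∈ Q ⊓ Subgroup.centralizer (Q : Set G)) →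
      R ⊓ Subgroup.centralizer (U' : Set G) = ⊥ := by
    rintro U' ⟨x, hxU, hx1, g, hg, hzQ, hzC⟩
    rw [Subgroup.eq_bot_iff_forall]
    rintro r ⟨hrR, hrC⟩
    set z := g * x * g⁻¹ with hz
    set r' := g * r * g⁻¹ with hr'
    have hr'R : r' ∈ R := (Subgroup.mem_normalizer_iff.mp (hGR hg) r).mp hrR
    have hz1 : Subgroup.zpowers z ≠ ⊥ := by
      rw [ne_eq, Subgroup.zpowers_eq_bot]
      exact fun h => hx1 (conj_eq_one_iff.mp h)
    have hcomm : Commute r' z :=
      Commute.map (show Commute r x from (hrC x hxU).symm) (MulAut.conj g).toMonoidHom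
    have hrN : r' ∈ Subgroup.normalizer (Q : Set G) := by
      refine hlarge.2 _ (Subgroup.zpowers_le.mpr hzC) hz1 (Subgroup.centralizer_le_normalizer _ ?_)
      intro y hy
      obtain ⟨m, rfl⟩ := Subgroup.mem_zpowers_iff.mp hy
      exact (hcomm.zpow_right m).eq.symm
    have hr'Q : r' ∈ Q := by
      refine hlarge.1 fun q hq => ?_
      have h1 : r' * q * r'⁻¹ * q⁻¹ = 1 := by
        refine hdisj _ (Q.mul_mem ((Subgroup.mem_normalizer_iff.mp hrN q).mp hq) (Q.inv_mem hq)) ?_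
        rw [mul_assoc, mul_assoc, ← mul_assoc q]
        exact R.mul_mem hr'R ((Subgroup.mem_normalizer_iff.mp (hGR (hQG hq)) _).mp (R.inv_mem hr'R))
      rw [mul_inv_eq_one, mul_inv_eq_iff_eq_mul] at h1
      exact h1.symm
    exact conj_eq_one_iff.mp (hr'.symm.trans (hdisj r' hr'Q hr'R))
  refine ⟨key U, fun hU hcard hmax => ?_⟩
  have : IsMulCommutative ↥U := hU.1
  refine le_bot_iff.mp (Coprime.le_of_forall_cyclic_quotient (A := U) (hUG.trans hGR) ?_ ?_)
  · obtain ⟨k, hk⟩ := hUp.exists_card_eq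
    rw [hk]; exact hR.symm.pow_left k
  intro B hBU ⟨a, haU, hsup⟩
  refine le_of_eq ?_
  by_cases hB : B.subgroupOf U = ⊤
  · obtain hU0 | ⟨U₀, hU₀, -⟩ := eq_top_or_exists_le_coatom (⊥ : Subgroup ↥U)
    · exfalso
      have h1 : Nat.card U = 1 := by
        rw [← Subgroup.card_top (G := U), ← hU0, Subgroup.card_bot]
      rw [h1] at hcard
      nlinarith [hp.two_le]
    · have hle : U₀.map U.subtype ≤ U := Subgroup.map_subtype_le _
      obtain ⟨x, hx, hx'⟩ := hmax _ hle (by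
        rw [← Subgroup.comap_subtype, Subgroup.comap_map_eq_self_of_injective U.subtype_injective]
        exact hU₀)
      exact key B ⟨x, Subgroup.subgroupOf_eq_top.mp hB (hle hx), hx'⟩
  · obtain h | ⟨U₀, hU₀, hle⟩ := eq_top_or_exists_le_coatom (B.subgroupOf U)
    · exact absurd h hB
    have hBeq : U₀ ≤ B.subgroupOf U := by
      intro y hy
      have hcB : Subgroup.zpowers a ≤ Subgroup.centralizer (B : Set G) := Subgroup.zpowers_le.mpr
        fun b hb => congrArg Subtype.val (hU.1.is_comm.comm (⟨b, hBU hb⟩ : U) ⟨a, haU⟩)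
      have hy' : (y : G) ∈ B ⊔ Subgroup.zpowers a := hsup.symm ▸ y.2
      rw [← SetLike.mem_coe, Subgroup.coe_mul_of_left_le_normalizer_right B (Subgroup.zpowers a)
        ((Subgroup.le_centralizer_iff.mp hcB).trans (Subgroup.centralizer_le_normalizer _))] at hy'
      obtain ⟨b, hb, c, hc, hbc⟩ := hy'
      obtain ⟨i, rfl⟩ := Subgroup.mem_zpowers_iff.mp hc
      have hai : (⟨a, haU⟩ : U) ^ i ∈ U₀ := by
        have : (⟨a, haU⟩ : U) ^ i = (⟨b, hBU hb⟩ : U)⁻¹ * y :=
          Subtype.ext (by simp [← hbc])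
        rw [this]
        exact U₀.mul_mem (U₀.inv_mem (hle hb)) hy
      show (y : G) ∈ B
      rw [← hbc]
      by_cases hdvd : (p : ℤ) ∣ i
      · obtain ⟨j, rfl⟩ := hdvd
        simp only [zpow_mul, zpow_natCast, hU.2 a haU, one_zpow, mul_one]
        exact hb
      · exfalso
        obtain ⟨u, v, huv⟩ := (Nat.prime_iff_prime_int.mp hp).coprime_iff_not_dvd.mpr hdvd
        have haU0 : (⟨a, haU⟩ : U) ∈ U₀ := by
          have : (⟨a, haU⟩ : U) = (⟨a, haU⟩ : U) ^ (u * (p : ℤ) + v * i) := by rw [huv, zpow_one]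
          rw [this, zpow_add]
          refine U₀.mul_mem ?_ ?_
          · rw [mul_comm, zpow_mul, zpow_natCast, show (⟨a, haU⟩ : U) ^ p = 1 from
              Subtype.ext (by simpa using hU.2 a haU), one_zpow]
            exact U₀.one_mem
          · rw [mul_comm, zpow_mul]; exact U₀.zpow_mem hai v
        refine hU₀.1 (top_le_iff.mp fun w _ => ?_)
        have hw : (w : G) ∈ B ⊔ Subgroup.zpowers a := hsup.symm ▸ w.2
        have hsub : B ⊔ Subgroup.zpowers a ≤ U₀.map U.subtype :=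
          sup_le (fun b' hb' => ⟨⟨b', hBU hb'⟩, hle hb', rfl⟩) (Subgroup.zpowers_le.mpr ⟨_, haU0, rfl⟩)
        obtain ⟨w', hw', hww⟩ := hsub hw
        exact U.subtype_injective hww ▸ hw'
    exact key B (hmax B hBU (le_antisymm hle hBeq ▸ hU₀))

end Cfsg.Agent.S3003
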