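import Cfsg.Statements.S3006
import Cfsg.Agent.Lib.CLarge.Basic

set_option autoImplicit false
open scoped Pointwise
open Cfsg

namespace Cfsg.Agent.S3006

/-- Let P be a finite p-group, Q a centrally large subgroup of P (|Q|·|Z(Q)| maximal among subgroups of P) and A an abelian subgroup of P of largest order. Then QA = AQ is a centrally large subgroup of P, C_{QA}(Q ∩ A) = Z(Q)·A, and the subgroup generated by all centrally large subgroups of P contains C_P(Z(J(P))), where J(P) is generated by the abelian subgroups of largest order. -/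
theorem result {p : ℕ} [Fact p.Prime] (P : Type*) [Group P] [Finite P] (hP : IsPGroup p P) (Q A : Subgroup P) (hQ : Cfsg.IsCentrallyLarge Q) (hA : A ∈ Cfsg.maxAbelianSubgroups P) : ((Q ⊔ A : Subgroup P) : Set P) = (Q : Set P) * (A : Set P) ∧ Cfsg.IsCentrallyLarge (Q ⊔ A) ∧ (Q ⊔ A) ⊓ Subgroup.centralizer ((Q ⊓ A : Subgroup P) : Set P) = (Q ⊓ Subgroup.centralizer (Q : Set P)) ⊔ A ∧ (((Q ⊓ Subgroup.centralizer (Q : Set P)) ⊔ A : Subgroup P) : Set P) = ((Q ⊓ Subgroup.centralizer (Q : Set P)) : Set P) * (A : Set P) ∧ Subgroup.centralizer ((Cfsg.thompsonSubgroupA P ⊓ Subgroup.centralizer (Cfsg.thompsonSubgroupA P : Set P) : Subgroup P) : Set P) ≤ Cfsg.centrallyLargeJoin P := by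
  obtain ⟨hQm, hZQ⟩ := CLarge.isCentrallyLarge_iff.mp hQ
  obtain ⟨hset, hCL, hX⟩ := CLarge.sup_maxAbelian hQ hA
  have hZ : Q ⊓ Subgroup.centralizer (Q : Set P) = Subgroup.centralizer (Q : Set P) :=
    inf_eq_right.mpr hZQ
  rw [hZ, (inf_eq_right.mpr (SetLike.coe_subset_coe.mpr hZQ) :
    (Q : Set P) ⊓ (Subgroup.centralizer (Q : Set P) : Set P) = _)]
  set Z := Subgroup.centralizer (Q : Set P) with hZdef
  have hCA := CLarge.centralizer_eq_of_mem_maxAbelian hA
  have hXC := CLarge.centralizer_eq_of_mem_maxAbelian hX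
  have key : ∀ r ∈ (Q ⊔ A) ⊓ Subgroup.centralizer ((Q ⊓ A : Subgroup P) : Set P),
      r ∈ (Z : Set P) * (A : Set P) := by
    intro r ⟨hr', hrC⟩
    have hr : r ∈ ((Q ⊔ A : Subgroup P) : Set P) := hr'
    rw [hset] at hr
    obtain ⟨q, hq, a, ha, rfl⟩ := hr
    have haC : a ∈ Subgroup.centralizer ((Q ⊓ A : Subgroup P) : Set P) :=
      Subgroup.centralizer_le (SetLike.coe_subset_coe.mpr inf_le_right) (hCA.ge ha)
    have hqC : q ∈ Subgroup.centralizer ((Q ⊓ A : Subgroup P) : Set P) :=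
      (Subgroup.mul_mem_cancel_right _ haC).mp hrC
    have hqX : q ∈ Z ⊔ (Q ⊓ A) := by
      rw [← hXC, CLarge.centralizer_sup]
      exact ⟨hZdef ▸ CLarge.le_centralizer_centralizer' Q hq, hqC⟩
    obtain ⟨z, hz, i, hi, rfl⟩ := CLarge.exists_mul_of_commute
      (Subgroup.le_centralizer_iff.mp (hZdef ▸ Subgroup.centralizer_le
        (SetLike.coe_subset_coe.mpr inf_le_left) : Z ≤ Subgroup.centralizer
        ((Q ⊓ A : Subgroup P) : Set P))) hqX
    exact ⟨z, hz, i * a, A.mul_mem hi.2 ha, (mul_assoc z i a).symm⟩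
  have hle : Z ⊔ A ≤ (Q ⊔ A) ⊓ Subgroup.centralizer ((Q ⊓ A : Subgroup P) : Set P) := by
    refine sup_le (le_inf (hZQ.trans le_sup_left) ?_) (le_inf le_sup_right ?_)
    · exact hZdef ▸ Subgroup.centralizer_le (SetLike.coe_subset_coe.mpr inf_le_left)
    · exact hCA.ge.trans (Subgroup.centralizer_le (SetLike.coe_subset_coe.mpr inf_le_right))
  refine ⟨hset, hCL, le_antisymm (fun r hr => ?_) hle, Set.Subset.antisymm (fun r hr => key r (hle hr)) ?_, ?_⟩
  · obtain ⟨z, hz, a, ha, rfl⟩ := key r hr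
    exact mul_mem (Subgroup.mem_sup_left hz) (Subgroup.mem_sup_right ha)
  · rintro _ ⟨z, hz, a, ha, rfl⟩
    exact mul_mem (Subgroup.mem_sup_left hz) (Subgroup.mem_sup_right ha)
  · refine CLarge.centralizer_thompsonCenter_le CLarge.isCentrallyLarge_centrallyLargeJoin
      (sSup_le fun B hB => ?_)
    exact le_trans le_sup_right
      (le_sSup (Set.mem_ofPred.mpr (CLarge.sup_maxAbelian hQ hB).2.1))

end Cfsg.Agent.S3006
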