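import Cfsg.Statements.S3009
import Cfsg.Agent.Lib.SL2Quadratic.Criteria
import Cfsg.Agent.Lib.PSL2.Sylow

set_option autoImplicit false
open Cfsg

namespace Cfsg.Agent.S3009

open scoped MatrixGroups commutatorElement

/-- Conjugation action on a normalized abelian subgroup, as an additive endomorphism. -/
def conjEnd {X : Type*} [Group X] (V : Subgroup X) [IsMulCommutative V] {H : Subgroup X}
    (hHV : H ≤ Subgroup.normalizer (V : Set X)) : ↥H →* AddMonoid.End (Additive ↥V) where
  toFun h := MonoidHom.toAdditive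
    { toFun := fun v => ⟨(h : X) * v * (h : X)⁻¹, (Subgroup.mem_normalizer_iff.mp (hHV h.2) _).mp v.2⟩
      map_one' := Subtype.ext (by simp)
      map_mul' := fun a b => Subtype.ext (by simp [mul_assoc]) }
  map_one' := AddMonoidHom.ext fun x => Additive.toMul.injective (Subtype.ext (by
    show ((1 : ↥H) : X) * (Additive.toMul x : ↥V) * ((1 : ↥H) : X)⁻¹ = (Additive.toMul x : ↥V)
    simp))
  map_mul' g h := AddMonoidHom.ext fun x => Additive.toMul.injective (Subtype.ext (by
    show ((g * h : ↥H) : X) * (Additive.toMul x : ↥V) * ((g * h : ↥H) : X)⁻¹ =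
      (g : X) * ((h : X) * (Additive.toMul x : ↥V) * (h : X)⁻¹) * (g : X)⁻¹
    simp [mul_assoc]))

theorem coe_conjEnd {X : Type*} [Group X] (V : Subgroup X) [IsMulCommutative V] {H : Subgroup X}
    (hHV : H ≤ Subgroup.normalizer (V : Set X)) (h : ↥H) (a : Additive ↥V) :
    ((Additive.toMul (conjEnd V hHV h a) : ↥V) : X) = (h : X) * (Additive.toMul a : ↥V) * (h : X)⁻¹ :=
  rfl

/-- Let p be a prime and let G and V be subgroups of a finite group with V elementary abelian and normalized by G, and G isomorphic to SL₂(F) for a finite field F with pⁿ elements. Suppose G acts irreducibly and nontrivially on V by conjugation (no G-invariant subgroups of V other than 1 and V, and [V, G] ≠ 1), and let S be a Sylow p-subgroup of G and V₀ = C_V(S). If [V, S, S] = 1 or |V| ≤ |V₀|², then G acts on V as SL₂(F) on its natural two-dimensional module; in particular |V| = |F|². -/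
theorem result {X : Type*} [Group X] [Finite X] {p : ℕ} [Fact p.Prime] (G V : Subgroup X) (hV : Cfsg.IsElementaryAbelian p V) (hGV : G ≤ Subgroup.normalizer (V : Set X)) (F : Type) [Field F] [Fintype F] (n : ℕ) (hF : Fintype.card F = p ^ n) (hG : Nonempty (↥G ≃* Matrix.SpecialLinearGroup (Fin 2) F)) (hirr : ∀ U : Subgroup X, U ≤ V → G ≤ Subgroup.normalizer (U : Set X) → U = ⊥ ∨ U = V) (hnt : ⁅V, G⁆ ≠ ⊥) (S : Sylow p ↥G) (hyp : ⁅⁅V, (S : Subgroup ↥G).map G.subtype⁆, (S : Subgroup ↥G).map G.subtype⁆ = ⊥ ∨ Nat.card ↥V ≤ Nat.card ↥(V ⊓ Subgroup.centralizer (((S : Subgroup ↥G).map G.subtype : Subgroup X) : Set X)) ^ 2) : Cfsg.ActsAsSL2OnSection F ⊤ G V ⊥ := by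
  classical
  obtain ⟨e0⟩ := hG
  have hp : p.Prime := Fact.out
  have : CharP F p := by
    obtain ⟨q, hq⟩ := CharP.exists F
    obtain ⟨m, hq', hm⟩ := FiniteField.card F q
    rw [hF] at hm
    have hn : n ≠ 0 := by
      rintro rfl
      exact absurd hF (by simpa using (Fintype.one_lt_card (α := F)).ne')
    have : q = p := (Nat.prime_dvd_prime_iff_eq hq' hp).mp
      (hq'.dvd_of_dvd_pow (hm ▸ dvd_pow_self q m.ne_zero))
    exact this ▸ hq
  -- align `S` with the upper unitriangular group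
  obtain ⟨g, hg⟩ := MulAction.exists_smul_eq (Matrix.SpecialLinearGroup (Fin 2) F)
    (S.mapSurjective (f := e0.toMonoidHom) e0.surjective) (Cfsg.Agent.PSL2.unipSylow F p)
  set e : ↥G ≃* Matrix.SpecialLinearGroup (Fin 2) F := e0.trans (MulAut.conj g) with he
  have hS : ∀ x : ↥G, x ∈ (S : Subgroup ↥G) ↔ e x ∈ Cfsg.Agent.PSL2.unip F := by
    intro x
    rw [← Cfsg.Agent.PSL2.coe_unipSylow p, ← hg]
    show _ ↔ (MulAut.conj g) (e0 x) ∈
      ((S : Subgroup ↥G).map e0.toMonoidHom).map (MulAut.conj g).toMonoidHom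
    rw [Subgroup.map_map]
    exact (Subgroup.mem_map_iff_mem (f := (MulAut.conj g).toMonoidHom.comp e0.toMonoidHom)
      ((MulAut.conj g).injective.comp e0.injective)).symm
  have : IsMulCommutative ↥V := hV.1
  let _ : CommGroup ↥V := { (inferInstance : Group ↥V) with mul_comm := hV.1.is_comm.comm }
  let r : SL(2, F) →* AddMonoid.End (Additive ↥V) := (conjEnd V hGV).comp e.symm.toMonoidHom
  have hr : ∀ (g : SL(2, F)) (a : Additive ↥V), ((Additive.toMul (r g a) : ↥V) : X) =
      ((e.symm g : ↥G) : X) * (Additive.toMul a : ↥V) * ((e.symm g : ↥G) : X)⁻¹ := fun g a => rfl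
  have hext : ∀ a b : Additive ↥V, ((Additive.toMul a : ↥V) : X) = (Additive.toMul b : ↥V) → a = b :=
    fun a b h => Additive.toMul.injective (Subtype.ext h)
  set SX : Subgroup X := (S : Subgroup ↥G).map G.subtype with hSX
  have hfix : ∀ a, a ∈ SL2Quadratic.fix r ↔
      ((Additive.toMul a : ↥V) : X) ∈ Subgroup.centralizer (SX : Set X) := by
    intro a
    constructor
    · rintro h _ ⟨x, hx, rfl⟩
      obtain ⟨t, ht⟩ := Cfsg.Agent.PSL2.mem_unip.mp ((hS x).mp hx)
      have h1 := congrArg (fun b : Additive ↥V => ((Additive.toMul b : ↥V) : X)) (h t)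
      simp only [hr, ht, MulEquiv.symm_apply_apply] at h1
      exact mul_inv_eq_iff_eq_mul.mp h1
    · intro h t
      refine hext _ _ ?_
      rw [hr, mul_inv_eq_iff_eq_mul]
      exact h _ ⟨e.symm (Cfsg.Agent.PSL2.uu t), (hS _).mpr (by
        rw [e.apply_symm_apply]; exact Cfsg.Agent.PSL2.uu_mem_unip t), rfl⟩
  have hpA : ∀ a : Additive ↥V, p • a = 0 := fun a => hext _ _ (by
    rw [toMul_nsmul, Subgroup.coe_pow, toMul_zero, Subgroup.coe_one]
    exact hV.2 _ (Additive.toMul a).2)
  have hirr' : SL2Quadratic.Irred r := by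
    intro U hU
    let U' : Subgroup X := (AddSubgroup.toSubgroup' U).map V.subtype
    have hmem : ∀ a : Additive ↥V, ((Additive.toMul a : ↥V) : X) ∈ U' ↔ a ∈ U := fun a =>
      Subgroup.mem_map_iff_mem V.subtype_injective
    have hn : G ≤ Subgroup.normalizer (U' : Set X) := by
      have key : ∀ x ∈ G, ∀ u ∈ U', x * u * x⁻¹ ∈ U' := by
        rintro x hx _ ⟨v, hv, rfl⟩
        have h1 := (hmem _).mpr (hU (e ⟨x, hx⟩) (Additive.ofMul v) hv)
        rw [hr, e.symm_apply_apply] at h1
        exact h1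
      intro x hx
      refine Subgroup.mem_normalizer_iff.mpr fun u => ⟨key x hx u, fun h => ?_⟩
      have := key x⁻¹ (inv_mem hx) _ h
      rwa [show x⁻¹ * (x * u * x⁻¹) * x⁻¹⁻¹ = u by group] at this
    rcases hirr U' (Subgroup.map_subtype_le _) hn with h | h
    · refine Or.inl (eq_bot_iff.mpr fun a ha => ?_)
      have h1 := (hmem a).mpr ha
      rw [h, Subgroup.mem_bot] at h1
      exact hext _ _ h1
    · exact Or.inr (eq_top_iff.mpr fun a _ => (hmem a).mp (by rw [h]; exact (Additive.toMul a).2))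
  have hnt' : ∃ g a, r g a ≠ a := by
    by_contra hc
    refine hnt (Subgroup.commutator_eq_bot_iff_le_centralizer.mpr fun v hv x hx => ?_)
    have h1 : r (e ⟨x, hx⟩) (Additive.ofMul ⟨v, hv⟩) = Additive.ofMul ⟨v, hv⟩ :=
      not_not.mp fun h => hc ⟨_, _, h⟩
    have h2 := congrArg (fun b : Additive ↥V => ((Additive.toMul b : ↥V) : X)) h1
    simp only [hr, e.symm_apply_apply] at h2
    exact mul_inv_eq_iff_eq_mul.mp h2
  have hA : ∃ a : Additive ↥V, a ≠ 0 := by
    obtain ⟨g, a, ha⟩ := hnt'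
    exact ⟨a, fun h => ha (by rw [h, map_zero])⟩
  have hdis := SL2Quadratic.eq_zero_of_mem_fix r hirr' hnt'
  have hgood : SL2Quadratic.good r ≠ ⊥ := by
    rcases hyp with h | h
    · refine SL2Quadratic.good_ne_bot_of_quadratic r hpA hA fun a t => (hfix _).mpr ?_
      rw [Subgroup.commutator_eq_bot_iff_le_centralizer] at h
      refine h ?_
      have hx : ((e.symm (Cfsg.Agent.PSL2.uu t) : ↥G) : X) ∈ SX :=
        ⟨_, (hS _).mpr (by rw [e.apply_symm_apply]; exact Cfsg.Agent.PSL2.uu_mem_unip t), rfl⟩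
      have h1 := inv_mem (Subgroup.commutator_mem_commutator (Additive.toMul a).2 hx)
      rw [toMul_sub, Subgroup.coe_div, hr, div_eq_mul_inv]
      rwa [commutatorElement_def, show ∀ v x : X, (v * x * v⁻¹ * x⁻¹)⁻¹ = x * v * x⁻¹ * v⁻¹ from
        fun v x => by group] at h1
    · refine SL2Quadratic.good_ne_bot_of_card r hpA hA hdis ?_
      have hc : Nat.card ↥(SL2Quadratic.fix r) =
          Nat.card ↥(V ⊓ Subgroup.centralizer (SX : Set X)) :=
        Nat.card_congr
          { toFun := fun a => ⟨_, (Additive.toMul a.1).2, (hfix a.1).mp a.2⟩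
            invFun := fun v => ⟨Additive.ofMul ⟨v.1, v.2.1⟩, (hfix _).mpr v.2.2⟩
            left_inv := fun a => rfl
            right_inv := fun v => rfl }
      rw [hc, Nat.card_congr (Additive.toMul : Additive ↥V ≃ ↥V)]
      exact h
  obtain ⟨E, hE⟩ := SL2Quadratic.exists_equiv r hpA hirr' hdis hgood
  refine ⟨hGV, bot_le, e.toMonoidHom, AddMonoidHom.toMultiplicativeRight E.symm.toAddMonoidHom,
    MonoidHom.range_eq_top.mpr e.surjective,
    fun x => ⟨Additive.toMul (E (Multiplicative.toAdd x)), E.symm_apply_apply _⟩, fun u => ?_,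
    fun x u => ⟨⟨_, (Subgroup.mem_normalizer_iff.mp (hGV x.2) _).mp u.2⟩, rfl, ?_⟩⟩
  · constructor
    · intro h
      have h' : E.symm (Additive.ofMul u) = 0 := congrArg Multiplicative.toAdd h
      rw [AddEquiv.map_eq_zero_iff] at h'
      rw [Subgroup.mem_bot]
      exact congrArg (fun b : Additive ↥V => ((Additive.toMul b : ↥V) : X)) h'
    · intro h
      rw [Subgroup.mem_bot] at h
      rw [show u = 1 from Subtype.ext h, map_one]
  · have h1 := hE (e x) (E.symm (Additive.ofMul u))
    rw [E.apply_symm_apply] at h1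
    have h2 := congrArg E.symm h1
    rw [E.symm_apply_apply] at h2
    refine Eq.trans (congrArg E.symm (hext _ _ ?_)) h2
    rw [hr, e.symm_apply_apply]
    rfl

end Cfsg.Agent.S3009
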