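import Cfsg.Statements.S3011
import Cfsg.Agent.Lib.Involution.BaerSuzuki
import Cfsg.Agent.Lib.PCore.Basic

set_option autoImplicit false
open Cfsg

namespace Cfsg.Agent.S3011

theorem eq_one_of_sq {G : Type*} [Group G] [Finite G] {x : G} (hx : Odd (orderOf x)) (h : x⁻¹ = x) : x = 1 := by
  have h2 : orderOf x ∣ 2 := orderOf_dvd_of_pow_eq_one (by rw [pow_two]; nth_rewrite 1 [← h]; exact inv_mul_cancel x)
  rcases (Nat.dvd_prime Nat.prime_two).mp h2 with h1 | h1
  · exact orderOf_eq_one_iff.mp h1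
  · rw [h1] at hx; exact absurd hx (by decide)

theorem commute_of_sq {G : Type*} [Group G] [Finite G] {x y : G} (hy : Odd (orderOf y)) (h : Commute (y ^ 2) x) :
    Commute y x := by
  obtain ⟨f, hf⟩ := exists_pow_eq_self_of_coprime (x := y) (n := 2) (Nat.coprime_two_left.mpr hy)
  rw [← hf]; exact h.pow_left f

theorem no_two_types {G : Type*} [Group G] [Finite G] {u w x y : G} (hu : u * u = 1) (hw : w * w = 1)
    (huw : Commute u w) (hx : Odd (orderOf x)) (hy : Odd (orderOf y)) (hx1 : x ≠ 1) (hy1 : y ≠ 1)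
    (hux : u * x * u⁻¹ = x⁻¹) (hwx : w * x * w⁻¹ = x) (huy : u * y * u⁻¹ = y) (hwy : w * y * w⁻¹ = y⁻¹)
    (hS : ∀ (h v : G), (v = u ∨ v = w ∨ v = u * w) → Odd (orderOf h) → v * h * v⁻¹ = h⁻¹ →
      u * h * u⁻¹ = h ∨ w * h * w⁻¹ = h ∨ (u * w) * h * (u * w)⁻¹ = h) : False := by
  have conj2 : ∀ a b c : G, a * b * c * (a * b)⁻¹ = a * (b * c * b⁻¹) * a⁻¹ := fun a b c => by group
  have cz : ∀ a : G, a * (y * x * y⁻¹) * a⁻¹ = (a * y * a⁻¹) * (a * x * a⁻¹) * (a * y * a⁻¹)⁻¹ := fun a => by group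
  have hzu : u * (y * x * y⁻¹) * u⁻¹ = (y * x * y⁻¹)⁻¹ := by rw [cz, hux, huy]; group
  have hxz : Odd (orderOf (y * x * y⁻¹)) := by
    rw [show y * x * y⁻¹ = MulAut.conj y x from rfl, MulEquiv.orderOf_eq]; exact hx
  have hxy : Commute y x := by
    rcases hS (y * x * y⁻¹) u (Or.inl rfl) hxz hzu with h | h | h
    · rw [hzu] at h
      exact absurd (conj_eq_one_iff.mp (eq_one_of_sq hxz h)) hx1
    · rw [cz, hwy, hwx] at h
      refine commute_of_sq hy ?_
      calc y ^ 2 * x = y * (y * x * y⁻¹) * y := by rw [pow_two]; group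
        _ = y * (y⁻¹ * x * y⁻¹⁻¹) * y := by rw [h]
        _ = x * y ^ 2 := by rw [pow_two]; group
    · rw [conj2, cz w, hwy, hwx, show u * (y⁻¹ * x * y⁻¹⁻¹) * u⁻¹ =
        (u * y * u⁻¹)⁻¹ * (u * x * u⁻¹) * (u * y * u⁻¹) by group, hux, huy] at h
      have h2 : y ^ 2 * x * (y ^ 2)⁻¹ = x⁻¹ := by
        calc y ^ 2 * x * (y ^ 2)⁻¹ = y * (y * x * y⁻¹) * y⁻¹ := by rw [pow_two]; group
          _ = y * (y⁻¹ * x⁻¹ * y) * y⁻¹ := by rw [h]
          _ = x⁻¹ := by group
      have h4 : Commute ((y ^ 2) ^ 2) x := by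
        refine mul_inv_eq_iff_eq_mul.mp ?_
        rw [pow_two (y ^ 2), conj2, h2, ← conj_inv, h2, inv_inv]
      have hy2 : Odd (orderOf (y ^ 2)) := Odd.of_dvd_nat hy (orderOf_pow_dvd 2)
      have h5 : Commute (y ^ 2) x := commute_of_sq hy2 h4
      rw [h5.mul_inv_cancel] at h2
      exact absurd (eq_one_of_sq hx h2.symm) hx1
  have hoxy : Odd (orderOf (x * y)) := Odd.of_dvd_nat (hx.mul hy) hxy.symm.orderOf_mul_dvd_mul_orderOf
  have cm : ∀ a : G, a * (x * y) * a⁻¹ = (a * x * a⁻¹) * (a * y * a⁻¹) := fun a => by group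
  have hinv : (u * w) * (x * y) * (u * w)⁻¹ = (x * y)⁻¹ := by
    rw [conj2, cm w, hwx, hwy, show u * (x * y⁻¹) * u⁻¹ = (u * x * u⁻¹) * (u * y * u⁻¹)⁻¹ by group,
      hux, huy, mul_inv_rev, hxy.inv_inv.eq]
  rcases hS (x * y) (u * w) (Or.inr (Or.inr rfl)) hoxy hinv with h | h | h
  · rw [cm, hux, huy, mul_left_inj] at h
    exact hx1 (eq_one_of_sq hx h)
  · rw [cm, hwx, hwy, mul_right_inj] at h
    exact hy1 (eq_one_of_sq hy h)
  · rw [hinv] at h
    have e : x = y⁻¹ := eq_inv_of_mul_eq_one_left (eq_one_of_sq hoxy h)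
    rw [e, ← conj_inv, hwy, inv_inv] at hwx
    exact hy1 (eq_one_of_sq hy hwx.symm)

theorem exists_inverted {G : Type*} [Group G] [Finite G] {v : G} (hv : v * v = 1) (hO : v ∉ Cfsg.pCore 2 G) :
    ∃ x : G, x ≠ 1 ∧ Odd (orderOf x) ∧ v * x * v⁻¹ = x⁻¹ := by
  have := Fact.mk Nat.prime_two
  by_contra hcon
  refine hO ?_
  have hv1 : v⁻¹ = v := inv_eq_of_mul_eq_one_right hv
  have key : ∀ g : G, IsPGroup 2 (Subgroup.closure ({v, g * v * g⁻¹} : Set G)) := by
    intro g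
    set v' := g * v * g⁻¹ with hv'
    set y := v * v' with hy
    have hv'2 : v' * v' = 1 := by
      rw [hv', show g * v * g⁻¹ * (g * v * g⁻¹) = g * (v * v) * g⁻¹ by group, hv]; group
    have hyinv : v * y * v⁻¹ = y⁻¹ := by
      rw [hy, mul_inv_rev, inv_eq_of_mul_eq_one_right hv'2, hv1, ← mul_assoc, hv, one_mul]
    obtain ⟨e, b, hb2, hbe⟩ := Nat.exists_eq_pow_mul_and_not_dvd (orderOf_pos y).ne' 2 (by omega)
    have hy2 : orderOf (y ^ (2 ^ e)) = b := by
      rw [orderOf_pow' y (Nat.two_pow_pos e).ne', hbe, Nat.gcd_mul_right_left,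
        Nat.mul_div_cancel_left _ (Nat.two_pow_pos e)]
    have hone : y ^ (2 ^ e) = 1 := by
      by_contra h1
      exact hcon ⟨_, h1, by rw [hy2]; exact Nat.odd_iff.mpr (by omega), by rw [← conj_pow, hyinv, inv_pow]⟩
    have hpy : IsPGroup 2 (Subgroup.zpowers y) := by
      obtain ⟨j, -, hj⟩ := (Nat.dvd_prime_pow Nat.prime_two).mp (orderOf_dvd_of_pow_eq_one hone)
      exact IsPGroup.of_card (n := j) (by rw [Nat.card_zpowers, hj])
    have hpv : IsPGroup 2 (Subgroup.zpowers v) := by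
      obtain ⟨j, -, hj⟩ := (Nat.dvd_prime_pow Nat.prime_two).mp
        (orderOf_dvd_of_pow_eq_one (x := v) (n := 2 ^ 1) (by rw [pow_one, pow_two, hv]))
      exact IsPGroup.of_card (n := j) (by rw [Nat.card_zpowers, hj])
    have hnorm : Subgroup.zpowers v ≤ Subgroup.normalizer (Subgroup.zpowers y : Set G) := by
      refine Subgroup.zpowers_le.mpr (Subgroup.mem_normalizer_iff.mpr ?_)
      have key : ∀ h ∈ Subgroup.zpowers y, v * h * v⁻¹ ∈ Subgroup.zpowers y := fun h hh => by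
        obtain ⟨i, rfl⟩ := Subgroup.mem_zpowers_iff.mp hh
        rw [← conj_zpow, hyinv]
        exact zpow_mem (inv_mem (Subgroup.mem_zpowers y)) i
      refine fun h => ⟨key h, fun hh => ?_⟩
      have := key _ hh
      rwa [show v * (v * h * v⁻¹) * v⁻¹ = v * v * h * (v * v)⁻¹ by group, hv, one_mul, inv_one, mul_one] at this
    refine (hpv.to_sup_of_normal_right' hpy hnorm).to_le ((Subgroup.closure_le _).mpr ?_)
    have hvm : v ∈ Subgroup.zpowers v ⊔ Subgroup.zpowers y := Subgroup.mem_sup_left (Subgroup.mem_zpowers v)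
    rintro z (rfl | rfl)
    · exact hvm
    · have e : v' = v * y := by rw [hy, ← mul_assoc, hv, one_mul]
      rw [e]
      exact mul_mem hvm (Subgroup.mem_sup_right (Subgroup.mem_zpowers y))
  exact PCore.le_pCore (Involution.baer_suzuki v key) (Subgroup.subset_normalClosure rfl)

/-- Let G be a finite group and V a nontrivial elementary abelian 2-subgroup of G of order at most 4 such that, whenever an element of V inverts an element h of G of odd order, some nontrivial element of V commutes with h. Then V meets O₂(G) nontrivially. (The case of order at most 4 has a short argument from the Baer–Suzuki theorem.) -/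
theorem result {G : Type*} [Group G] [Finite G] (V : Subgroup G) (hV : Cfsg.IsElementaryAbelian 2 V) (hV1 : V ≠ ⊥) (hS : Cfsg.IsSidkiPair V) (h4 : Nat.card V ≤ 4) : V ⊓ Cfsg.pCore 2 G ≠ ⊥ := by
  classical
  intro hbot
  have hsq : ∀ {a : G}, a ∈ V → a * a = 1 := fun {a} ha => by rw [← pow_two]; exact hV.2 a ha
  have hcomm : ∀ {a b : G}, a ∈ V → b ∈ V → Commute a b := fun {a b} ha hb =>
    congrArg Subtype.val (hV.1.is_comm.comm (⟨a, ha⟩ : V) ⟨b, hb⟩)
  have hinvt : ∀ v ∈ V, v ≠ 1 → ∃ x : G, x ≠ 1 ∧ Odd (orderOf x) ∧ v * x * v⁻¹ = x⁻¹ := fun v hv hv1 =>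
    exists_inverted (hsq hv) fun hh => hv1 (by
      have : v ∈ V ⊓ Cfsg.pCore 2 G := ⟨hv, hh⟩
      rwa [hbot, Subgroup.mem_bot] at this)
  have hother : ∀ (v x : G), v ∈ V → x ≠ 1 → Odd (orderOf x) → v * x * v⁻¹ = x⁻¹ →
      ∃ w ∈ V, w ≠ 1 ∧ w ≠ v ∧ w * x * w⁻¹ = x := by
    intro v x hv hx1 hx hi
    obtain ⟨w, hw, hw1, hwx⟩ := hS x v hv hx hi
    have e : w * x * w⁻¹ = x := mul_inv_eq_iff_eq_mul.mpr hwx
    refine ⟨w, hw, hw1, fun h => hx1 (eq_one_of_sq hx ?_), e⟩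
    rw [h, hi] at e
    exact e
  obtain ⟨v, hv, hv1⟩ := (V.bot_or_exists_ne_one).resolve_left hV1
  obtain ⟨x, hx1, hx, hvx⟩ := hinvt v hv hv1
  obtain ⟨w, hw, hw1, hwv, hwx⟩ := hother v x hv hx1 hx hvx
  obtain ⟨y, hy1, hy, hwy⟩ := hinvt w hw hw1
  obtain ⟨u, hu, hu1, huw, huy⟩ := hother w y hw hy1 hy hwy
  have hmem : ∀ t ∈ V, t = 1 ∨ t = v ∨ t = w ∨ t = v * w := by
    intro t ht
    by_contra hcon
    simp only [not_or] at hcon
    obtain ⟨t1, t2, t3, t4⟩ := hcon
    have hvw1 : v * w ≠ 1 := fun h => hwv (mul_left_cancel (h.trans (hsq hv).symm))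
    have hsub : ({1, v, w, v * w, t} : Finset G) ⊆ (V : Set G).toFinite.toFinset := by
      intro z hz
      simp only [Finset.mem_insert, Finset.mem_singleton] at hz
      simp only [Set.Finite.mem_toFinset, SetLike.mem_coe]
      rcases hz with rfl | rfl | rfl | rfl | rfl
      exacts [one_mem V, hv, hw, mul_mem hv hw, ht]
    have h5 : ({1, v, w, v * w, t} : Finset G).card = 5 := by
      simp [Finset.card_insert_of_notMem, Ne.symm hv1, Ne.symm hw1, Ne.symm hvw1, Ne.symm t1, Ne.symm t2,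
        Ne.symm t3, Ne.symm t4, Ne.symm hwv, hv1, hw1]
    have := Finset.card_le_card hsub
    rw [h5, ← Set.ncard_eq_toFinset_card _ _, ← Nat.card_coe_set_eq] at this
    exact absurd (this.trans h4) (by omega)
  have hux : u * x * u⁻¹ = x⁻¹ := by
    rcases hmem u hu with h | h | h | h
    · exact absurd h hu1
    · rw [h]; exact hvx
    · exact absurd h huw
    · rw [h]
      calc v * w * x * (v * w)⁻¹ = v * (w * x * w⁻¹) * v⁻¹ := by group
        _ = x⁻¹ := by rw [hwx, hvx]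
  refine no_two_types (hsq hu) (hsq hw) (hcomm hu hw) hx hy hx1 hy1 hux hwx huy hwy fun h t ht hodd hi => ?_
  have htV : t ∈ V := by
    rcases ht with rfl | rfl | rfl
    exacts [hu, hw, mul_mem hu hw]
  obtain ⟨s, hs, hs1, hsh⟩ := hS h t htV hodd hi
  have hsh' : s * h * s⁻¹ = h := mul_inv_eq_iff_eq_mul.mpr hsh
  rcases hmem s hs with e | e | e | e
  · exact absurd e hs1
  · rcases hmem u hu with h' | h' | h' | h'
    · exact absurd h' hu1
    · exact Or.inl (by rw [h', ← e]; exact hsh')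
    · exact absurd h' huw
    · refine Or.inr (Or.inr ?_)
      rw [h', mul_assoc v w w, hsq hw, mul_one, ← e]; exact hsh'
  · exact Or.inr (Or.inl (by rw [← e]; exact hsh'))
  · rcases hmem u hu with h' | h' | h' | h'
    · exact absurd h' hu1
    · refine Or.inr (Or.inr ?_)
      rw [h', ← e]; exact hsh'
    · exact absurd h' huw
    · exact Or.inl (by rw [h', ← e]; exact hsh')

end Cfsg.Agent.S3011
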