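import Cfsg.Statements.S3012


set_option autoImplicit false
open Cfsg

namespace Cfsg.Agent.S3012

/-- Let G be a finite group, V a nontrivial elementary abelian 2-subgroup of G satisfying the Sidki pair condition (every odd-order element inverted by an element of V commutes with a nontrivial element of V), and K a normal subgroup of G with V ∩ K = 1. Then the image of V in G/K satisfies the Sidki pair condition in G/K. -/
theorem result {G : Type*} [Group G] [Finite G] (V K : Subgroup G) [K.Normal] (hV : Cfsg.IsElementaryAbelian 2 V) (hV1 : V ≠ ⊥) (hS : Cfsg.IsSidkiPair V) (hVK : V ⊓ K = ⊥) : Cfsg.IsSidkiPair (V.map (QuotientGroup.mk' K)) := by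
  have hmem : ∀ {a : G}, a ∈ V → a * a = 1 := fun {a} ha => by rw [← pow_two]; exact hV.2 a ha
  intro hb vb hvb hodd hinv
  obtain ⟨v, hv, rfl⟩ := hvb
  obtain ⟨h, rfl⟩ := QuotientGroup.mk_surjective hb
  obtain ⟨m, hm⟩ := hodd
  set k := h ^ (m + 1) with hk
  set v' := k⁻¹ * v * k with hv'
  set y := v * v' with hy
  have hv2 := hmem hv
  have hv'2 : v' * v' = 1 := by
    rw [hv']; calc k⁻¹ * v * k * (k⁻¹ * v * k) = k⁻¹ * (v * v) * k := by group
      _ = 1 := by rw [hv2]; group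
  have hvi : v⁻¹ = v := inv_eq_of_mul_eq_one_right hv2
  have hyinv : v * y * v⁻¹ = y⁻¹ := by
    rw [hy, mul_inv_rev, inv_eq_of_mul_eq_one_right hv'2, hvi, ← mul_assoc, hv2, one_mul]
  set hb : G ⧸ K := QuotientGroup.mk h with hhb
  have hkb : (QuotientGroup.mk' K k : G ⧸ K) = hb ^ (m + 1) := map_pow _ _ _
  have hyb : (QuotientGroup.mk' K y : G ⧸ K) = hb := by
    have e1 : (QuotientGroup.mk' K v) * (hb ^ (m + 1))⁻¹ * (QuotientGroup.mk' K v)⁻¹ = hb ^ (m + 1) := by
      rw [← inv_pow, ← conj_pow, ← map_inv]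
      congr 1
      calc QuotientGroup.mk' K v * (hb)⁻¹ * (QuotientGroup.mk' K v⁻¹)
          = (QuotientGroup.mk' K v * hb * (QuotientGroup.mk' K v)⁻¹)⁻¹ := by
            simp only [map_inv, mul_inv_rev, inv_inv, mul_assoc]
        _ = hb := by rw [hinv, inv_inv]
    calc (QuotientGroup.mk' K y : G ⧸ K)
        = QuotientGroup.mk' K v * (hb ^ (m + 1))⁻¹ * (QuotientGroup.mk' K v)⁻¹ *
            ((QuotientGroup.mk' K v) * (QuotientGroup.mk' K v)) * hb ^ (m + 1) := by
          rw [hy, hv', map_mul, map_mul, map_mul, map_inv, hkb]; group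
      _ = hb ^ (2 * m + 1 + 1) := by
          rw [e1, ← map_mul, hv2, map_one, mul_one, ← pow_add]; congr 1; omega
      _ = hb := by rw [pow_succ, ← hm, pow_orderOf_eq_one, one_mul]
  obtain ⟨e, b, hb2, hbe⟩ := Nat.exists_eq_pow_mul_and_not_dvd (orderOf_pos y).ne' 2 (by omega)
  have hy2 : orderOf (y ^ (2 ^ e)) = b := by
    rw [orderOf_pow' y (Nat.two_pow_pos e).ne', hbe, Nat.gcd_mul_right_left,
      Nat.mul_div_cancel_left _ (Nat.two_pow_pos e)]
  obtain ⟨w, hw, hw1, hwy⟩ := hS (y ^ (2 ^ e)) v hv (by rw [hy2]; exact Nat.odd_iff.mpr (by omega))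
    (by rw [← conj_pow, hyinv, inv_pow])
  refine ⟨QuotientGroup.mk' K w, Subgroup.mem_map_of_mem _ hw, fun h1 => hw1 ?_, ?_⟩
  · have : w ∈ V ⊓ K := ⟨hw, (QuotientGroup.eq_one_iff w).mp h1⟩
    rwa [hVK, Subgroup.mem_bot] at this
  · have hc : Commute (QuotientGroup.mk' K w) (hb ^ (2 ^ e)) := by
      rw [← hyb, ← map_pow]; exact Commute.map hwy _
    obtain ⟨f, hf⟩ := exists_pow_eq_self_of_coprime (x := hb) (n := 2 ^ e)
      ((Nat.coprime_two_left.mpr (by rw [hm]; exact odd_two_mul_add_one m)).pow_left e)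
    rw [← hf]
    exact hc.pow_right f

end Cfsg.Agent.S3012
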