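import Cfsg.Statements.S3013


set_option autoImplicit false
open Cfsg

namespace Cfsg.Agent.S3013

/-- Let G be a finite group and V a nontrivial elementary abelian 2-subgroup of G satisfying the Sidki pair condition. Let v ∈ V and let x be an element of odd order inverted by v, and put C = C_G(v) ∩ C_G(x), the centralizer of the dihedral subgroup generated by v and x. Then C ∩ V is nontrivial and satisfies the Sidki pair condition inside C: every odd-order element of C inverted by an element of C ∩ V commutes with a nontrivial element of C ∩ V. -/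
theorem result {G : Type*} [Group G] [Finite G] (V : Subgroup G) (hV : Cfsg.IsElementaryAbelian 2 V) (hV1 : V ≠ ⊥) (hS : Cfsg.IsSidkiPair V) (v x : G) (hv : v ∈ V) (hx : Odd (orderOf x)) (hinv : v * x * v⁻¹ = x⁻¹) (C : Subgroup G) (hC : C = Subgroup.centralizer ({v} : Set G) ⊓ Subgroup.centralizer ({x} : Set G)) : C ⊓ V ≠ ⊥ ∧ Cfsg.IsSidkiPair ((C ⊓ V).subgroupOf C) := by
  subst hC
  have hmem : ∀ {a : G}, a ∈ V → a⁻¹ = a := fun {a} ha =>
    inv_eq_of_mul_eq_one_right (by rw [← pow_two]; exact hV.2 a ha)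
  have hcomm : ∀ {a b : G}, a ∈ V → b ∈ V → Commute a b := fun {a b} ha hb =>
    congrArg Subtype.val (hV.1.is_comm.comm (⟨a, ha⟩ : V) ⟨b, hb⟩)
  constructor
  · obtain ⟨w, hw, hw1, hwx⟩ := hS x v hv hx hinv
    intro h
    have : w ∈ (Subgroup.centralizer ({v} : Set G) ⊓ Subgroup.centralizer ({x} : Set G)) ⊓ V :=
      ⟨⟨Subgroup.mem_centralizer_singleton_iff.mpr (hcomm hw hv),
        Subgroup.mem_centralizer_singleton_iff.mpr hwx⟩, hw⟩
    rw [h, Subgroup.mem_bot] at this
    exact hw1 this
  · rintro ⟨h, hhv, hhx⟩ ⟨u, huv, hux⟩ ⟨-, huV⟩ hodd huinv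
    replace huV : u ∈ V := huV
    have huinv' : u * h * u⁻¹ = h⁻¹ := congrArg Subtype.val huinv
    have hodd' : Odd (orderOf h) := Subgroup.orderOf_mk h _ ▸ hodd
    have cv : Commute h v := Subgroup.mem_centralizer_singleton_iff.mp hhv
    have cx : Commute h x := Subgroup.mem_centralizer_singleton_iff.mp hhx
    have cu : Commute u x := Subgroup.mem_centralizer_singleton_iff.mp hux
    have e1 : (v * u) * (h * x) * (v * u)⁻¹ = (h * x)⁻¹ := by
      calc (v * u) * (h * x) * (v * u)⁻¹
          = v * ((u * h * u⁻¹) * (u * x * u⁻¹)) * v⁻¹ := by group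
        _ = (v * h⁻¹ * v⁻¹) * (v * x * v⁻¹) := by rw [huinv', cu.mul_inv_cancel]; group
        _ = h⁻¹ * x⁻¹ := by rw [(cv.inv_left.symm).mul_inv_cancel, hinv]
        _ = _ := by rw [mul_inv_rev]; exact (cx.inv_inv).eq
    have hox : Odd (orderOf (h * x)) :=
      Odd.of_dvd_nat (hodd'.mul hx) cx.orderOf_mul_dvd_mul_orderOf
    obtain ⟨w, hw, hw1, hwhx⟩ := hS (h * x) (v * u) (V.mul_mem hv huV) hox e1
    have hc : Commute w (h * x) := hwhx
    have hc2 : Commute w (h⁻¹ * x) := by
      have := hc.map (MulAut.conj u).toMonoidHom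
      simp only [MulEquiv.coe_toMonoidHom, map_mul, MulAut.conj_apply] at this
      rwa [(hcomm huV hw).mul_inv_cancel, huinv', cu.mul_inv_cancel] at this
    have hx2 : Commute w (x ^ 2) := by
      have e : (h * x) * (h⁻¹ * x) = x ^ 2 := by
        rw [pow_two, ← mul_assoc, cx.eq, mul_inv_cancel_right]
      rw [← e]; exact hc.mul_right hc2
    have hwx : Commute w x := by
      obtain ⟨f, hf⟩ := exists_pow_eq_self_of_coprime (x := x) (n := 2)
        (Nat.coprime_two_left.mpr hx)
      rw [← hf]; exact hx2.pow_right f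
    have hwh : Commute w h := by
      have := hc.mul_right hwx.inv_right
      rwa [mul_inv_cancel_right] at this
    refine ⟨⟨w, ⟨Subgroup.mem_centralizer_singleton_iff.mpr (hcomm hw hv),
      Subgroup.mem_centralizer_singleton_iff.mpr hwx⟩⟩, ⟨⟨Subgroup.mem_centralizer_singleton_iff.mpr (hcomm hw hv),
      Subgroup.mem_centralizer_singleton_iff.mpr hwx⟩, hw⟩, fun h' => hw1 (congrArg Subtype.val h'),
      Subtype.ext hwh⟩

end Cfsg.Agent.S3013
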