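import Cfsg.Statements.S3014
import Cfsg.Agent.Lib.IsolatedP.MaxTransfer

set_option autoImplicit false
open Cfsg

namespace Cfsg.Agent.S3014

/-- Let G be a finite group and H ≤ M ≤ G subgroups such that for every g ∈ G the subgroup generated by H and g H g⁻¹ meets M exactly in H. If H is a maximal subgroup of M and M is a maximal subgroup of G, then the normal closure of H in G meets M exactly in H. -/
theorem result {G : Type*} [Group G] [Finite G] (H M : Subgroup G) (hHM : H ≤ M) (hcl : ∀ g : G, (H ⊔ H.map (MulAut.conj g).toMonoidHom) ⊓ M = H) (hmaxH : IsCoatom (H.subgroupOf M)) (hmaxM : IsCoatom M) : Subgroup.normalClosure (H : Set G) ⊓ M = H := by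
  classical
  have hMconj : ∀ m ∈ M, ∀ a ∈ H, m * a * m⁻¹ ∈ H := by
    intro m hm a ha
    have hle : (H ⊔ H.map (MulAut.conj m).toMonoidHom) ≤ M := by
      refine sup_le hHM ?_
      rintro _ ⟨b, hb, rfl⟩
      exact M.mul_mem (M.mul_mem hm (hHM hb)) (M.inv_mem hm)
    have := hcl m
    rw [inf_eq_left.mpr hle] at this
    exact this.le (Subgroup.mem_sup_right ⟨a, ha, rfl⟩)
  have hN : M ≤ Subgroup.normalizer (H : Set G) := fun m hm => Subgroup.mem_normalizer_iff.mpr
    fun a => ⟨hMconj m hm a, fun ha => by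
      have := hMconj m⁻¹ (M.inv_mem hm) _ ha
      rwa [show m⁻¹ * (m * a * m⁻¹) * m⁻¹⁻¹ = a by group] at this⟩
  have hn : (H.subgroupOf M).Normal := (Subgroup.normal_subgroupOf_iff_le_normalizer hHM).mpr hN
  obtain ⟨m, hmM, hmH⟩ : ∃ m ∈ M, m ∉ H := by
    by_contra h
    push Not at h
    exact hmaxH.1 (Subgroup.subgroupOf_eq_top.mpr h)
  have hHle : H ≤ Subgroup.normalClosure (H : Set G) ⊓ M := le_inf Subgroup.subset_normalClosure hHM
  by_cases hHn : H.Normal
  · rw [Subgroup.normalClosure_eq_self]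
    exact inf_eq_left.mpr hHM
  by_cases hbad : ∃ g y : G, g ∉ M ∧ y ∈ M ∧ y ∉ H ∧ g * y * g⁻¹ ∈ M
  · obtain ⟨g, y, hg, hy, hyH, hgy⟩ := hbad
    have hMT := IsolatedP.sup_conj_normalizer hN hHM hmaxH hy hyH hgy
    set T := H ⊔ H.map (MulAut.conj g⁻¹).toMonoidHom with hT
    have hTM : T ⊓ M = H := hcl g⁻¹
    have hNT : Subgroup.normalizer (T : Set G) = ⊤ := by
      refine hmaxM.2 _ (lt_of_le_of_ne hMT fun e => hg ?_)
      have hTle : T ≤ M := e ▸ Subgroup.le_normalizer
      have hTH : T = H := (inf_eq_left.mpr hTle).symm.trans hTM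
      have hgN : g⁻¹ ∈ Subgroup.normalizer (H : Set G) := by
        have hle : H.map (MulAut.conj g⁻¹).toMonoidHom ≤ H := le_sup_right.trans hTH.le
        have heq := Subgroup.eq_of_le_of_card_ge hle
          (Subgroup.card_map_of_injective (MulAut.conj g⁻¹).injective).ge
        refine Subgroup.mem_normalizer_iff.mpr fun a => ⟨fun ha => hle ⟨a, ha, rfl⟩, fun ha => ?_⟩
        obtain ⟨c, hc, hce⟩ : (MulAut.conj g⁻¹) a ∈ H.map (MulAut.conj g⁻¹).toMonoidHom :=
          heq.symm ▸ ha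
        exact (MulAut.conj g⁻¹).injective hce ▸ hc
      have hNH : Subgroup.normalizer (H : Set G) = M := by
        refine (hmaxM.le_iff.mp hN).resolve_left fun h => hHn ?_
        exact Subgroup.normalizer_eq_top_iff.mp h
      exact inv_mem_iff.mp (hNH ▸ hgN)
    have hTn : T.Normal := Subgroup.normalizer_eq_top_iff.mp hNT
    exact le_antisymm ((inf_le_inf_right M (Subgroup.normalClosure_le_normal (SetLike.coe_subset_coe.mpr le_sup_left))).trans hTM.le) hHle
  push Not at hbad
  obtain ⟨K, hK, hmK, -, hKH⟩ := IsolatedP.exists_normal_not_mem hHM hn hmaxH hmM hmH (by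
    intro k g hg hgM
    by_contra hH
    exact hbad g _ hg hgM hH (by
      rw [show g * (g⁻¹ * m ^ k * g) * g⁻¹ = m ^ k by group]; exact M.pow_mem hmM k))
  have hHK : (H : Set G) ⊆ K := fun h hh => hKH h hh fun k g hgM => by
    have : g⁻¹ * h ^ k * g ∈ (H ⊔ H.map (MulAut.conj g⁻¹).toMonoidHom) ⊓ M :=
      ⟨Subgroup.mem_sup_right ⟨h ^ k, H.pow_mem hh k, by simp⟩, hgM⟩
    exact (hcl g⁻¹).le this
  refine le_antisymm ?_ hHle
  by_contra hne
  obtain ⟨a, ha, haH⟩ := SetLike.not_le_iff_exists.mp hne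
  refine hmK (?_ : m ∈ K)
  have hsup := IsolatedP.sup_zpowers_eq hHM hmaxH ha.2 haH
  have : M ≤ K := hsup ▸ sup_le hHK
    (Subgroup.zpowers_le.mpr (Subgroup.normalClosure_le_normal hHK ha.1))
  exact this hmM

end Cfsg.Agent.S3014
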