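import Cfsg.Statements.S3015
import Cfsg.Agent.Lib.IsolatedP.MaxTransfer
import Mathlib.Data.Set.Finite.Lemmas

set_option autoImplicit false
open Cfsg

namespace Cfsg.Agent.S3015

/-- Let G be a finite non-abelian simple group, M a maximal subgroup of G and H a normal subgroup of M of prime index in M. Then G is generated by H together with one of its conjugates. -/
theorem result {G : Type*} [Group G] [Finite G] [IsSimpleGroup G] (hG : ¬ IsMulCommutative G) (M H : Subgroup G) (hmaxM : IsCoatom M) (hHM : H ≤ M) (hHn : (H.subgroupOf M).Normal) (hidx : (H.relIndex M).Prime) : ∃ g : G, H ⊔ H.map (MulAut.conj g).toMonoidHom = ⊤ := by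
  classical
  by_contra hcon
  push Not at hcon
  have hN : M ≤ Subgroup.normalizer (H : Set G) := (Subgroup.normal_subgroupOf_iff_le_normalizer hHM).mp hHn
  have hmaxH : IsCoatom (H.subgroupOf M) := by
    refine ⟨fun h => hidx.ne_one (Subgroup.index_eq_one.mpr h), fun K hK => ?_⟩
    have h1 := Subgroup.relIndex_mul_index hK.le
    have h2 : K.index ∣ H.relIndex M := Dvd.intro_left _ h1
    rcases (Nat.dvd_prime hidx).mp h2 with h | h
    · exact Subgroup.index_eq_one.mp h
    · exfalso
      rw [show (H.subgroupOf M).index = H.relIndex M from rfl, h] at h1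
      have h3 : (H.subgroupOf M).relIndex K = 1 := by
        nlinarith [hidx.pos]
      exact hK.ne (le_antisymm hK.le (Subgroup.relIndex_eq_one.mp h3))
  have hMne : M ≠ ⊥ := by
    rintro rfl
    exact hidx.ne_one (Subgroup.relIndex_eq_one.mpr bot_le)
  have hnormal : ∀ T : Subgroup G, Subgroup.normalizer (T : Set G) = ⊤ → T = ⊥ ∨ T = ⊤ :=
    fun T h => IsSimpleGroup.eq_bot_or_eq_top_of_normal T (Subgroup.normalizer_eq_top_iff.mp h)
  have hNM : Subgroup.normalizer (M : Set G) = M := by
    refine (hmaxM.le_iff.mp Subgroup.le_normalizer).resolve_left fun h => ?_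
    exact (hnormal M h).elim hMne hmaxM.1
  obtain ⟨m, ⟨hmM, hmH⟩, hmmin⟩ := Set.exists_min_image {m : G | m ∈ M ∧ m ∉ H} orderOf
    (Set.toFinite _) (by
      by_contra h
      rw [Set.not_nonempty_iff_eq_empty] at h
      exact hmaxH.1 (Subgroup.subgroupOf_eq_top.mpr fun a ha => by
        by_contra haH
        exact (h ▸ (show a ∈ {m : G | m ∈ M ∧ m ∉ H} from ⟨ha, haH⟩) : a ∈ (∅ : Set G))))
  obtain ⟨K, hK, hmK, hab, -⟩ := IsolatedP.exists_normal_not_mem hHM hHn hmaxH hmM hmH (by
    intro k g hg hgM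
    by_contra hyH
    set y := g⁻¹ * m ^ k * g with hy
    have hmk : g * y * g⁻¹ = m ^ k := by rw [hy]; group
    have hoy : orderOf y = orderOf (m ^ k) := by
      rw [← hmk]; exact (SemiconjBy.conj_mk g y).orderOf_eq
    have hoeq : orderOf (m ^ k) = orderOf m := le_antisymm
      (Nat.le_of_dvd (orderOf_pos m) (orderOf_pow_dvd k))
      (hoy ▸ hmmin y ⟨hgM, hyH⟩)
    have hmkH : m ^ k ∉ H := by
      intro h
      have := Subgroup.eq_of_le_of_card_ge (Subgroup.zpowers_le.mpr
        (pow_mem (Subgroup.mem_zpowers m) k) : Subgroup.zpowers (m ^ k) ≤ Subgroup.zpowers m)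
        (by rw [Nat.card_zpowers, Nat.card_zpowers, hoeq])
      exact hmH ((Subgroup.zpowers_le.mpr h) (this.symm ▸ Subgroup.mem_zpowers m))
    have hMT := IsolatedP.sup_conj_normalizer hN hHM hmaxH hgM hyH
      (hmk ▸ M.pow_mem hmM k)
    set T := H ⊔ H.map (MulAut.conj g⁻¹).toMonoidHom with hT
    have hTle : T ≤ M := by
      rcases hmaxM.le_iff.mp hMT with h | h
      · rcases hnormal T h with h' | h'
        · exact h' ▸ bot_le
        · exact absurd h' (hcon g⁻¹)
      · exact Subgroup.le_normalizer.trans h.le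
    have hle : M.map (MulAut.conj g⁻¹).toMonoidHom ≤ M := by
      rw [← IsolatedP.sup_zpowers_eq hHM hmaxH (M.pow_mem hmM k) hmkH, Subgroup.map_sup, sup_le_iff,
        IsolatedP.sup_zpowers_eq hHM hmaxH (M.pow_mem hmM k) hmkH]
      refine ⟨le_sup_right.trans hTle, ?_⟩
      rw [MonoidHom.map_zpowers, Subgroup.zpowers_le]
      simpa [hy] using hgM
    refine hg (inv_mem_iff.mp (hNM ▸ ?_ : g⁻¹ ∈ M))
    have heq := Subgroup.eq_of_le_of_card_ge hle
      (Subgroup.card_map_of_injective (MulAut.conj g⁻¹).injective).ge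
    refine Subgroup.mem_normalizer_iff.mpr fun a => ⟨fun ha => hle ⟨a, ha, rfl⟩, fun ha => ?_⟩
    obtain ⟨c, hc, hce⟩ : (MulAut.conj g⁻¹) a ∈ M.map (MulAut.conj g⁻¹).toMonoidHom :=
      heq.symm ▸ ha
    exact (MulAut.conj g⁻¹).injective hce ▸ hc)
  rcases IsSimpleGroup.eq_bot_or_eq_top_of_normal K hK with rfl | rfl
  · refine hG ⟨⟨fun a b => ?_⟩⟩
    have := Subgroup.mem_bot.mp (hab a b)
    rwa [mul_inv_eq_one, mul_inv_eq_iff_eq_mul] at this
  · exact hmK (Subgroup.mem_top m)

end Cfsg.Agent.S3015
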