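import Cfsg.Statements.S3020
import Cfsg.Agent.Lib.Transfer.Burnside
import Cfsg.Agent.Lib.PCore.Basic

set_option autoImplicit false
open Cfsg

namespace Cfsg.Agent.S3020

/-- Let G be a finite group, p a prime and H an abelian p-subgroup of G that is extremely closed (for every g, the subgroup generated by H and g H g⁻¹ meets N_G(H) exactly in H). Then for every g ∈ G, the subgroup T generated by H and g H g⁻¹ is the product of H with O_{p'}(T), and H meets O_{p'}(T) trivially; that is, O_{p'}(T) is a normal p-complement of H in T. -/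
theorem result {G : Type*} [Group G] [Finite G] {p : ℕ} [Fact p.Prime] (H : Subgroup G) (hHp : IsPGroup p H) (hHab : IsMulCommutative H) (hcl : Cfsg.IsExtremelyClosed H) (g : G) (T : Subgroup G) (hT : T = H ⊔ H.map (MulAut.conj g).toMonoidHom) : H ⊔ (Cfsg.pPrimeCore p ↥T).map T.subtype = T ∧ H ⊓ (Cfsg.pPrimeCore p ↥T).map T.subtype = ⊥ := by
  subst hT
  set T := H ⊔ H.map (MulAut.conj g).toMonoidHom with hT
  have hHT : H ≤ T := le_sup_left
  set H' : Subgroup ↥T := H.subgroupOf T with hH'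
  have hN : ∀ t : ↥T, t ∈ Subgroup.normalizer (H' : Set ↥T) → t ∈ H' := by
    intro t ht
    have h1 : (t : G) ∈ Subgroup.normalizer (H : Set G) := by
      refine Subgroup.mem_normalizer_iff.mpr fun a => ⟨fun ha => ?_, fun ha => ?_⟩
      · exact (Subgroup.mem_normalizer_iff.mp ht ⟨a, hHT ha⟩).mp ha
      · have haT : a ∈ T := by
          have := T.mul_mem (T.mul_mem (T.inv_mem t.2) (hHT ha)) t.2
          rwa [show (t : G)⁻¹ * ((t : G) * a * (t : G)⁻¹) * (t : G) = a by group] at this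
        exact (Subgroup.mem_normalizer_iff.mp ht ⟨a, haT⟩).mpr ha
    exact (hcl g).le ⟨t.2, h1⟩
  have hH'p : IsPGroup p ↥H' := hHp.comap_subtype
  obtain ⟨P, hP⟩ := hH'p.exists_le_sylow
  have hPeq : (P : Subgroup ↥T) = H' := by
    by_contra hne
    have hnil : Group.IsNilpotent ↥(P : Subgroup ↥T) := P.2.isNilpotent
    obtain ⟨q, hq, hqH⟩ := SetLike.exists_of_lt (Group.normalizerCondition_of_isNilpotent
      (H'.subgroupOf (P : Subgroup ↥T)) (lt_top_iff_ne_top.mpr fun h =>
        hne (le_antisymm (Subgroup.subgroupOf_eq_top.mp h) hP)))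
    refine hqH (show (q : ↥T) ∈ H' from hN _ ?_)
    refine Subgroup.mem_normalizer_iff.mpr fun a => ⟨fun ha => ?_, fun ha => ?_⟩
    · exact (Subgroup.mem_normalizer_iff.mp hq ⟨a, hP ha⟩).mp ha
    · have haP : a ∈ (P : Subgroup ↥T) := by
        have := Subgroup.mul_mem _ (Subgroup.mul_mem _ (Subgroup.inv_mem _ q.2) (hP ha)) q.2
        rwa [show (q : ↥T)⁻¹ * ((q : ↥T) * a * (q : ↥T)⁻¹) * (q : ↥T) = a by group] at this
      exact (Subgroup.mem_normalizer_iff.mp hq ⟨a, haP⟩).mpr ha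
  have hnpc : Cfsg.HasNormalPComplement p ↥T := by
    refine Transfer.hasNormalPComplement_of_normalizer_le_centralizer P fun n hn => ?_
    have hn' : n ∈ Subgroup.normalizer ((P : Subgroup ↥T) : Set ↥T) := hn
    show n ∈ Subgroup.centralizer ((P : Subgroup ↥T) : Set ↥T)
    rw [hPeq] at hn' ⊢
    intro y hy
    exact Subtype.ext (congrArg (fun z : H => (z : G)) (hHab.is_comm.comm
      (⟨(y : G), hy⟩ : H) ⟨(n : G), hN n hn'⟩))
  obtain ⟨N, hN', hNP⟩ := (Transfer.hasNormalPComplement_iff_exists P).mp hnpc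
  have hNle : N ≤ Cfsg.pPrimeCore p ↥T :=
    PCore.le_pPrimeCore (hN := hN') (Transfer.coprime_card_of_isComplement'_sylow P hNP)
  refine ⟨le_antisymm (sup_le hHT (Subgroup.map_subtype_le _)) fun t ht => ?_, ?_⟩
  · obtain ⟨⟨⟨a, ha⟩, ⟨b, hb⟩⟩, hab⟩ := hNP.surjective ⟨t, ht⟩
    have : t = (a : G) * (b : G) := (congrArg Subtype.val hab).symm
    rw [this]
    refine mul_mem (Subgroup.mem_sup_right ⟨a, hNle ha, rfl⟩) (Subgroup.mem_sup_left ?_)
    exact (hPeq ▸ hb : b ∈ H')
  · rw [Subgroup.eq_bot_iff_forall]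
    rintro _ ⟨hx, x, hxK, rfl⟩
    have h1 := PCore.disjoint_of_isPGroup_of_coprime hH'p (PCore.coprime_card_pPrimeCore (p := p) (G := ↥T))
    exact congrArg Subtype.val (Subgroup.disjoint_def.mp h1 hx hxK)

end Cfsg.Agent.S3020
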