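import Cfsg.Statements.S3021
import Mathlib.GroupTheory.Nilpotent


set_option autoImplicit false
open Cfsg

namespace Cfsg.Agent.S3021

/-- Let G be a finite group, p a prime and H a p-subgroup of G that is extremely closed (for every g, the subgroup generated by H and g H g⁻¹ meets N_G(H) exactly in H). Then every p-subgroup Q of G containing H has N_G(Q) ≤ N_G(H); in particular every Sylow p-subgroup P of G containing H normalizes H, and H is strongly closed in P with respect to G. -/
theorem result {G : Type*} [Group G] [Finite G] {p : ℕ} [Fact p.Prime] (H : Subgroup G) (hHp : IsPGroup p H) (hcl : Cfsg.IsExtremelyClosed H) : (∀ Q : Subgroup G, IsPGroup p Q → H ≤ Q → Subgroup.normalizer (Q : Set G) ≤ Subgroup.normalizer (H : Set G)) ∧ ∀ P : Sylow p G, H ≤ (P : Subgroup G) → (P : Subgroup G) ≤ Subgroup.normalizer (H : Set G) ∧ Cfsg.IsStronglyClosed H (P : Subgroup G) := by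
  have key : ∀ Q : Subgroup G, IsPGroup p Q → H ≤ Q → ∀ n : G,
      n ∈ Subgroup.normalizer (Q : Set G) → n ∈ Subgroup.normalizer (H : Set G) := by
    intro Q hQ hHQ n hn
    set T := H ⊔ H.map (MulAut.conj n).toMonoidHom with hT
    have hTQ : T ≤ Q := sup_le hHQ (by
      rintro _ ⟨a, ha, rfl⟩
      exact (Subgroup.mem_normalizer_iff.mp hn a).mp (hHQ ha))
    have hTH : T = H := by
      by_contra hne
      have hnil : Group.IsNilpotent ↥T := (hQ.to_le hTQ).isNilpotent
      have hlt : H.subgroupOf T < Subgroup.normalizer ((H.subgroupOf T : Subgroup ↥T) : Set ↥T) :=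
        Group.normalizerCondition_of_isNilpotent _ (lt_top_iff_ne_top.mpr fun h' =>
          hne (le_antisymm (Subgroup.subgroupOf_eq_top.mp h') le_sup_left))
      obtain ⟨⟨t, htT⟩, htn, htH⟩ := SetLike.exists_of_lt hlt
      refine htH ?_
      show t ∈ H
      rw [← hcl n]
      refine ⟨htT, Subgroup.mem_normalizer_iff.mpr fun a => ⟨fun ha => ?_, fun ha => ?_⟩⟩
      · exact (Subgroup.mem_normalizer_iff.mp htn ⟨a, Subgroup.mem_sup_left ha⟩).mp ha
      · have hconj : t * a * t⁻¹ ∈ T := Subgroup.mem_sup_left ha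
        have haT : a ∈ T := by
          have := T.mul_mem (T.mul_mem (T.inv_mem htT) hconj) htT
          rwa [show t⁻¹ * (t * a * t⁻¹) * t = a by group] at this
        exact (Subgroup.mem_normalizer_iff.mp htn ⟨a, haT⟩).mpr ha
    have hle : H.map (MulAut.conj n).toMonoidHom ≤ H := le_sup_right.trans hTH.le
    have heq := Subgroup.eq_of_le_of_card_ge hle
      (Subgroup.card_map_of_injective (MulAut.conj n).injective).ge
    rw [Subgroup.mem_normalizer_iff]
    refine fun a => ⟨fun ha => hle ⟨a, ha, rfl⟩, fun ha => ?_⟩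
    have ha' : (MulAut.conj n) a ∈ H.map (MulAut.conj n).toMonoidHom := heq.symm ▸ ha
    obtain ⟨c, hc, hce⟩ := ha'
    exact (MulAut.conj n).injective hce ▸ hc
  refine ⟨key, fun P hP => ⟨fun y hy => key _ P.2 hP y (Subgroup.le_normalizer hy), hP, ?_⟩⟩
  intro y hy g hg
  have hPN : (P : Subgroup G) ≤ Subgroup.normalizer (H : Set G) :=
    fun y hy => key _ P.2 hP y (Subgroup.le_normalizer hy)
  exact (hcl g).le ⟨Subgroup.mem_sup_right ⟨y, hy, rfl⟩, hPN hg⟩

end Cfsg.Agent.S3021
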