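import Cfsg.Statements.S3022
import Cfsg.Agent.Lib.PushUpOdd.Core
import Cfsg.Agent.Lib.PMinPush.Existence
import Cfsg.Agent.Lib.PMinPush.Setup
import Cfsg.Agent.Lib.PMinPush.SpecExists
import Cfsg.Agent.Lib.PMinPush.RankOne

set_option autoImplicit false
set_option linter.style.haveILetI false
open Cfsg
open Cfsg.Agent

namespace Cfsg.Agent.S3022

/-- Let G be a finite group all of whose non-abelian simple sections are known simple groups, such that a Sylow 2-subgroup of G lies in exactly one maximal subgroup of G and C_G(O₂(G)) ≤ O₂(G). Let S be a Sylow 2-subgroup of G and A a group of automorphisms of S of odd order. Then some nontrivial A-invariant subgroup of S is normal in G. -/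
theorem result {G : Type*} [Group G] [Finite G] (hK : Cfsg.IsKGroup G) (hirr : ∀ S : Sylow 2 G, ∃! M : Subgroup G, IsCoatom M ∧ (S : Subgroup G) ≤ M) (hchar : Subgroup.centralizer (Cfsg.pCore 2 G : Set G) ≤ Cfsg.pCore 2 G) (S : Sylow 2 G) (A : Subgroup (MulAut ↥(S : Subgroup G))) (hA : Odd (Nat.card A)) : ∃ U : Subgroup G, U ≠ ⊥ ∧ U.Normal ∧ U ≤ (S : Subgroup G) ∧ ∀ a ∈ A, ∀ x : ↥(S : Subgroup G), (x : G) ∈ U → ((a x : ↥(S : Subgroup G)) : G) ∈ U := by
  classical
  haveI : Fact (Nat.Prime 2) := ⟨Nat.prime_two⟩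
  have hne : (S : Subgroup G) ≠ ⊥ := fun hS => by
    have hp : Cfsg.pCore 2 G ≤ ⊥ := by
      obtain ⟨P, hP⟩ := (PCore.isPGroup_pCore (p := 2) (G := G)).exists_le_sylow
      refine hP.trans (le_of_eq (Subgroup.eq_bot_of_card_eq _ ?_))
      rw [Sylow.card_eq_multiplicity, ← Sylow.card_eq_multiplicity S, hS, Subgroup.card_bot]
    have h1 : (⊤ : Subgroup G) ≤ ⊥ := by
      have hc : (⊤ : Subgroup G) ≤ Subgroup.centralizer (Cfsg.pCore 2 G : Set G) := fun g _ u hu => by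
        rw [Subgroup.mem_bot.mp (hp hu), one_mul, mul_one]
      exact hc.trans (hchar.trans hp)
    obtain ⟨M, ⟨hM, -⟩, -⟩ := hirr S
    exact hM.1 (top_le_iff.mp (h1.trans bot_le))
  by_cases hn : (S : Subgroup G).Normal
  · exact ⟨S, hne, hn, le_rfl, fun a _ x _ => (a x).2⟩
  have hmin : Cfsg.IsPMinimal 2 G := fun P => ⟨fun hP => hn ?_, hirr P⟩
  swap
  · obtain ⟨g, hg⟩ := MulAction.exists_smul_eq G P S
    have h2 : g • P = P := Sylow.smul_eq_iff_mem_normalizer.mpr (by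
      show g ∈ Subgroup.normalizer ((P : Subgroup G) : Set G)
      rw [Subgroup.normalizer_eq_top_iff.mpr hP]; trivial)
    rw [← hg, h2]
    exact hP
  by_cases hC : ∃ C : Subgroup G, C ≤ Cfsg.baumannSubgroupOf 2 (S : Subgroup G) ∧ C ≠ ⊥ ∧
      (C.subgroupOf (Cfsg.baumannSubgroupOf 2 (S : Subgroup G))).Characteristic ∧ C.Normal
  · obtain ⟨C, hCB, hC1, hCc, hCn⟩ := hC
    refine ⟨C, hC1, hCn, hCB.trans inf_le_left, fun a _ x hx => ?_⟩
    exact (PushUpOdd.img_of_char_baumann a 2 hCB hCc).le (PushUpOdd.apply_mem_img a hx)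
  push Not at hC
  by_cases hz : (Cfsg.omegaOneCenter 2 (S : Subgroup G)).Normal
  · refine ⟨_, ?_, hz, BaumannBlock.omegaOneCenter_le _, fun a _ x hx => ?_⟩
    · exact PushUpOdd.omega_ne_bot S hne
    · exact (PushUpOdd.img_omega (S : Subgroup G) 2 a).le (PushUpOdd.apply_mem_img a hx)
  obtain ⟨H, _, _, W, _, _, _, M, f, j, -, c⟩ := PMinPush.exists_ctx hmin hchar S hC hz
  obtain ⟨D, hD, hDT⟩ := c.root
  obtain ⟨s⟩ := PMinPush.exists_spec c.sys hD
  have b := c.base s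
  obtain ⟨Hs, X, rs, h1 | ⟨E, N, Dd, Am, h2⟩⟩ := PMinPush.exists_rankSub c b s ⟨D, hD, hDT⟩
  · exact PushUpOdd.exists_normal c b s rs h1 A hA
  · exact absurd h2.three (by decide)

end Cfsg.Agent.S3022
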