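import Cfsg.Statements.S3023
import Cfsg.Agent.Lib.LocalChar.Basic
import Cfsg.Agent.Lib.PGroup.Basic
import Cfsg.Agent.Lib.SylowCount.Basic

set_option autoImplicit false
open scoped Pointwise
open Cfsg

namespace Cfsg.Agent.S3023

theorem not_dvd_relIndex {G : Type*} [Group G] [Finite G] {p : ℕ} [Fact p.Prime] (S : Sylow p G)
    {A : Subgroup G} (hA : A.IsSubnormal) : ¬ p ∣ (S : Subgroup G).relIndex A := by
  induction hA with
  | top => rw [Subgroup.relIndex_top_right]; exact S.not_dvd_index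
  | step H K hle hK hN ih =>
    have hQp : IsPGroup p ↥((S : Subgroup G).subgroupOf K) := S.2.comap_subtype
    obtain ⟨R, hR⟩ := SylowCount.exists_sylow_inf (hQp.toSylow ih) (H.subgroupOf K)
    have h := R.not_dvd_index
    rw [hR] at h
    rwa [show (((hQp.toSylow ih : Sylow p ↥K) : Subgroup ↥K).subgroupOf (H.subgroupOf K)).index =
      ((S : Subgroup G).subgroupOf K).relIndex (H.subgroupOf K) from rfl,
      Subgroup.relIndex_subgroupOf hle] at h

/-- Let p be a prime, G a finite group of parabolic characteristic p (every p-local subgroup containing a Sylow p-subgroup of G has characteristic p), S a Sylow p-subgroup of G and G₁ a subnormal subgroup of G. If the centre of S ∩ G₁ is nontrivial and contained in the centre of S, then G₁ has parabolic characteristic p. -/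
theorem result {G : Type*} [Group G] [Finite G] {p : ℕ} [Fact p.Prime] (hG : Cfsg.IsOfParabolicCharacteristic p G) (S : Sylow p G) (G₁ : Subgroup G) (hsn : G₁.IsSubnormal) (hne : ((S : Subgroup G) ⊓ G₁) ⊓ Subgroup.centralizer (((S : Subgroup G) ⊓ G₁ : Subgroup G) : Set G) ≠ ⊥) (hle : ((S : Subgroup G) ⊓ G₁) ⊓ Subgroup.centralizer (((S : Subgroup G) ⊓ G₁ : Subgroup G) : Set G) ≤ (S : Subgroup G) ⊓ Subgroup.centralizer ((S : Subgroup G) : Set G)) : Cfsg.IsOfParabolicCharacteristic p ↥G₁ := by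
  intro R hRp hR1 hRpar
  obtain ⟨T, hT⟩ := hRpar
  obtain ⟨S', hS'⟩ := T.exists_comap_subtype_eq
  have hT' : (T : Subgroup ↥G₁) = (S' : Subgroup G).subgroupOf G₁ := hS'.symm
  have hRn : (R.subgroupOf (Subgroup.normalizer (R : Set ↥G₁))).Normal := Subgroup.normal_in_normalizer
  have hRT : R ≤ (T : Subgroup ↥G₁) := by
    have hsup := IsPGroup.to_sup_of_normal_right' (p := p) (H := (T : Subgroup ↥G₁)) (K := R) T.2 hRp hT
    exact (T.3 hsup le_sup_left).le.trans' le_sup_right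
  set RT : Subgroup ↥(T : Subgroup ↥G₁) :=
    (R ⊓ Subgroup.centralizer (R : Set ↥G₁)).subgroupOf (T : Subgroup ↥G₁) with hRTdef
  have hRTn : RT.Normal := by
    refine ⟨fun a ha t => ?_⟩
    have ht := Subgroup.mem_normalizer_iff.mp (hT t.2)
    refine ⟨(ht _).mp ha.1, fun r hr => ?_⟩
    have hr' : (t : ↥G₁)⁻¹ * r * (t : ↥G₁) ∈ R := (Subgroup.mem_normalizer_iff''.mp (hT t.2) r).mp hr
    have h2 : (t : ↥G₁)⁻¹ * r * (t : ↥G₁) * (a : ↥G₁) = (a : ↥G₁) * ((t : ↥G₁)⁻¹ * r * (t : ↥G₁)) :=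
      ha.2 _ hr'
    show r * ((t : ↥G₁) * (a : ↥G₁) * (t : ↥G₁)⁻¹) = (t : ↥G₁) * (a : ↥G₁) * (t : ↥G₁)⁻¹ * r
    calc r * ((t : ↥G₁) * (a : ↥G₁) * (t : ↥G₁)⁻¹)
        = (t : ↥G₁) * ((t : ↥G₁)⁻¹ * r * (t : ↥G₁) * (a : ↥G₁)) * (t : ↥G₁)⁻¹ := by group
      _ = (t : ↥G₁) * ((a : ↥G₁) * ((t : ↥G₁)⁻¹ * r * (t : ↥G₁))) * (t : ↥G₁)⁻¹ := by rw [h2]
      _ = _ := by group
  have hRTne : RT ≠ ⊥ := by
    intro h
    have hnt : Nontrivial ↥R := (Subgroup.nontrivial_iff_ne_bot R).mpr hR1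
    obtain ⟨c, hc, hc1⟩ := ((Subgroup.center ↥R).bot_or_exists_ne_one).resolve_left hRp.bot_lt_center.ne'
    have hm : (⟨(c : ↥G₁), hRT c.2⟩ : ↥(T : Subgroup ↥G₁)) ∈ RT :=
      ⟨c.2, fun r hr => congrArg Subtype.val (Subgroup.mem_center_iff.mp hc ⟨r, hr⟩)⟩
    rw [h, Subgroup.mem_bot] at hm
    exact hc1 (Subtype.ext (Subtype.mk.inj hm))
  obtain ⟨z, hzR, hzT, hzo⟩ := PGroup.exists_orderOf_eq_mem_center T.2 RT hRTne
  set z₁ : ↥G₁ := (z : ↥G₁) with hz₁
  set zG : G := (z₁ : G) with hzG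
  refine LocalChar.cp_normalizer_of_centralizer_elem hRp hzR.1 (fun r hr => hzR.2 r hr) ?_
  -- `zG` is central in `S'`
  have hmax : IsPGroup p ↥((S : Subgroup G).subgroupOf G₁) := S.2.comap_subtype
  obtain ⟨g, hg⟩ := MulAction.exists_smul_eq ↥G₁ T (hmax.toSylow (not_dvd_relIndex S hsn))
  have hmemS : ∀ y : ↥G₁, y ∈ (T : Subgroup ↥G₁) →
      ((g : G) * (y : G) * (g : G)⁻¹) ∈ (S : Subgroup G) ⊓ G₁ := by
    intro y hy
    have : g * y * g⁻¹ ∈ ((g • T : Sylow p ↥G₁) : Subgroup ↥G₁) := by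
      rw [Sylow.coe_subgroup_smul]; exact ⟨y, hy, rfl⟩
    rw [hg] at this
    exact ⟨this, (g * y * g⁻¹).2⟩
  have hz' : (g : G) * zG * (g : G)⁻¹ ∈ ((S : Subgroup G) ⊓ G₁) ⊓
      Subgroup.centralizer (((S : Subgroup G) ⊓ G₁ : Subgroup G) : Set G) := by
    refine ⟨hmemS z₁ z.2, fun a ha => ?_⟩
    have haT : g⁻¹ * ⟨a, ha.2⟩ * g ∈ (T : Subgroup ↥G₁) := by
      have h1 : (⟨a, ha.2⟩ : ↥G₁) ∈ ((g • T : Sylow p ↥G₁) : Subgroup ↥G₁) := by rw [hg]; exact ha.1
      rw [Sylow.coe_subgroup_smul] at h1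
      obtain ⟨b, hb, hbe⟩ := h1
      have : g⁻¹ * ⟨a, ha.2⟩ * g = b := by
        rw [← hbe]
        show g⁻¹ * (g * b * g⁻¹) * g = b
        group
      rw [this]; exact hb
    have h2 : (g : G)⁻¹ * a * (g : G) * zG = zG * ((g : G)⁻¹ * a * (g : G)) :=
      congrArg (fun y : ↥(T : Subgroup ↥G₁) => ((y : ↥G₁) : G))
        (Subgroup.mem_center_iff.mp hzT ⟨_, haT⟩)
    calc a * ((g : G) * zG * (g : G)⁻¹) = (g : G) * ((g : G)⁻¹ * a * (g : G) * zG) * (g : G)⁻¹ := by group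
      _ = (g : G) * (zG * ((g : G)⁻¹ * a * (g : G))) * (g : G)⁻¹ := by rw [h2]
      _ = _ := by group
  have hzS : ∀ s ∈ (S : Subgroup G), Commute s ((g : G) * zG * (g : G)⁻¹) := fun s hs => (hle hz').2 s hs
  have hSC : ((((g : G)⁻¹) • S : Sylow p G) : Subgroup G) ≤ Subgroup.centralizer ({zG} : Set G) := by
    rw [Sylow.coe_subgroup_smul]
    rintro _ ⟨s, hs, rfl⟩
    rw [Subgroup.mem_centralizer_singleton_iff]
    have h := (hzS s hs).map (MulAut.conj (g : G)⁻¹).toMonoidHom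
    have e : (MulAut.conj (g : G)⁻¹) ((g : G) * zG * (g : G)⁻¹) = zG := by
      show (g : G)⁻¹ * ((g : G) * zG * (g : G)⁻¹) * (g : G)⁻¹⁻¹ = zG
      group
    rw [← e]
    exact h.eq
  have hzne : Subgroup.zpowers zG ≠ ⊥ := by
    rw [ne_eq, Subgroup.zpowers_eq_bot]
    intro h
    have : orderOf z = 1 := by
      rw [← Subgroup.orderOf_coe, ← Subgroup.orderOf_coe]; exact orderOf_eq_one_iff.mpr h
    exact (Fact.out : p.Prime).ne_one (hzo.symm.trans this)
  have hzp : IsPGroup p ↥(Subgroup.zpowers zG) := by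
    refine IsPGroup.of_card (n := 1) ?_
    rw [Nat.card_zpowers, pow_one, hzG, Subgroup.orderOf_coe, hz₁, Subgroup.orderOf_coe, hzo]
  have hCz : Subgroup.centralizer ((Subgroup.zpowers zG : Subgroup G) : Set G) =
      Subgroup.centralizer ({zG} : Set G) := by
    rw [Subgroup.zpowers_eq_closure, Subgroup.centralizer_closure]
  have hCN : Subgroup.centralizer ({zG} : Set G) ≤
      Subgroup.normalizer ((Subgroup.zpowers zG : Subgroup G) : Set G) := by
    rw [← hCz]; exact Subgroup.centralizer_le_normalizer _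
  have hM := hG _ hzp hzne ⟨_, hSC.trans hCN⟩
  have hC := LocalChar.cp_centralizer_of_le hM hzp Subgroup.le_normalizer
    (Subgroup.centralizer_le_normalizer _)
  rw [hCz] at hC
  set C := Subgroup.centralizer ({zG} : Set G)
  have h1 := LocalChar.cp_of_isSubnormal hC (hsn.subgroupOf (K := C))
  have hmeq : (G₁.subgroupOf C).map C.subtype =
      ((Subgroup.centralizer ({z₁} : Set ↥G₁))).map G₁.subtype := by
    ext y
    constructor
    · rintro ⟨c, hc, rfl⟩
      refine ⟨⟨(c : G), hc⟩, Subgroup.mem_centralizer_singleton_iff.mpr (Subtype.ext ?_), rfl⟩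
      exact Subgroup.mem_centralizer_singleton_iff.mp c.2
    · rintro ⟨c, hc, rfl⟩
      exact ⟨⟨(c : G), Subgroup.mem_centralizer_singleton_iff.mpr
        (congrArg Subtype.val (Subgroup.mem_centralizer_singleton_iff.mp hc))⟩, c.2, rfl⟩
  exact LocalChar.cp_congr (((Subgroup.equivMapOfInjective _ _ C.subtype_injective).trans
    (MulEquiv.subgroupCongr hmeq)).trans
      (Subgroup.equivMapOfInjective _ _ G₁.subtype_injective).symm) h1

end Cfsg.Agent.S3023
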