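import Cfsg.Statements.S3025
import Cfsg.Agent.Lib.PGroup.UniqueOrderP
import Mathlib.RingTheory.IntegralDomain
import Mathlib.FieldTheory.Finite.Basic

set_option autoImplicit false
open Cfsg

namespace Cfsg.Agent.S3025

/-- Let F be a finite group and H a nontrivial subgroup of F that is contained in every nontrivial subgroup of F which H normalizes. Then F has a nontrivial normal subgroup N contained in every nontrivial normal subgroup of F (a unique minimal normal subgroup), N is simple, and one of the following holds: C_F(N) = 1; or H = N has prime order p, C_F(N) is cyclic of order a power of p, and F/C_F(N) is cyclic of order dividing p − 1; or H = N has order 2, N is central in F, and F is a generalized quaternion group. -/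
theorem result {F : Type*} [Group F] [Finite F] (H : Subgroup F) (hH : H ≠ ⊥)
    (hmin : ∀ R : Subgroup F, R ≠ ⊥ → H ≤ Subgroup.normalizer (R : Set F) → H ≤ R) :
    ∃ N : Subgroup F, N.Normal ∧ N ≠ ⊥ ∧ (∀ M : Subgroup F, M.Normal → M ≠ ⊥ → N ≤ M) ∧ IsSimpleGroup ↥N ∧
      (Subgroup.centralizer (N : Set F) = ⊥ ∨
       (H = N ∧ (Nat.card N).Prime ∧ IsCyclic ↥(Subgroup.centralizer (N : Set F)) ∧
          (∃ k : ℕ, 1 ≤ k ∧ Nat.card ↥(Subgroup.centralizer (N : Set F)) = Nat.card N ^ k) ∧
          (∃ g : F, Subgroup.centralizer (N : Set F) ⊔ Subgroup.zpowers g = ⊤) ∧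
          (Subgroup.centralizer (N : Set F)).index ∣ Nat.card N - 1) ∨
       (H = N ∧ Nat.card N = 2 ∧ Subgroup.centralizer (N : Set F) = ⊤ ∧
          ∃ k : ℕ, 1 ≤ k ∧ Nonempty (F ≃* QuaternionGroup (2 ^ k)))) := by
  classical
  set N := Subgroup.normalClosure (H : Set F) with hNdef
  have hHN : H ≤ N := Subgroup.subset_normalClosure
  have hNne : N ≠ ⊥ := ne_bot_of_le_ne_bot hH hHN
  have hNn : N.Normal := inferInstance
  have hmin' : ∀ M : Subgroup F, M.Normal → M ≠ ⊥ → N ≤ M := fun M hM hMne => by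
    refine Subgroup.normalClosure_le_normal (hmin M hMne ?_)
    rw [Subgroup.normalizer_eq_top_iff.mpr hM]; exact le_top
  have hsub : ∀ S : Subgroup ↥N, S.Normal → S ≠ ⊥ → H ≤ S.map N.subtype := by
    intro S hS hSne
    refine hmin _ ((Subgroup.map_eq_bot_iff_of_injective _ N.subtype_injective).not.mpr hSne)
      (hHN.trans ?_)
    have := Subgroup.le_normalizer_map (H := S) N.subtype
    rw [Subgroup.normalizer_eq_top_iff.mpr hS, ← MonoidHom.range_eq_map, Subgroup.range_subtype] at this
    exact this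
  have hNnt : Nontrivial ↥N := (Subgroup.nontrivial_iff_ne_bot N).mpr hNne
  have hsimple : IsSimpleGroup ↥N := by
    refine ⟨fun S hS => or_iff_not_imp_left.mpr fun hSne => ?_⟩
    obtain ⟨S₀, ⟨hS₀, hS₀ne, hS₀le⟩, hS₀min⟩ := Set.Finite.exists_minimal
      (Set.toFinite {T : Subgroup ↥N | T.Normal ∧ T ≠ ⊥ ∧ T ≤ S}) ⟨S, hS, hSne, le_rfl⟩
    have hleast : ∀ T : Subgroup ↥N, T.Normal → T ≠ ⊥ → S₀ ≤ T := by
      intro T hT hTne
      refine le_trans (hS₀min (y := S₀ ⊓ T) ⟨Subgroup.normal_inf_normal _ _, ?_,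
        inf_le_left.trans hS₀le⟩ inf_le_left) inf_le_right
      intro h
      obtain ⟨a, ha, ha1⟩ := (H.bot_or_exists_ne_one).resolve_left hH
      obtain ⟨b, hb, hba⟩ := hsub S₀ hS₀ hS₀ne ha
      obtain ⟨c, hc, hca⟩ := hsub T hT hTne ha
      have hbc : b = c := N.subtype_injective (hba.trans hca.symm)
      have : b ∈ S₀ ⊓ T := ⟨hb, hbc ▸ hc⟩
      rw [h, Subgroup.mem_bot] at this
      exact ha1 (by rw [← hba, this, map_one])
    have hn : (S₀.map N.subtype).Normal := by
      refine ⟨fun a ⟨b, hb, hba⟩ g => ?_⟩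
      let e : ↥N ≃* ↥N := MulAut.conjNormal g
      have hne : S₀.map e.toMonoidHom ≠ ⊥ :=
        (Subgroup.map_eq_bot_iff_of_injective _ e.injective).not.mpr hS₀ne
      have hle := hleast _ (hS₀.map e.toMonoidHom e.surjective) hne
      have heq := Subgroup.eq_of_le_of_card_ge hle (Subgroup.card_map_of_injective e.injective).le
      refine ⟨e b, heq.symm ▸ ⟨b, hb, rfl⟩, ?_⟩
      rw [← hba]
      exact MulAut.conjNormal_apply g b
    have hle : N ≤ S₀.map N.subtype :=
      hmin' _ hn ((Subgroup.map_eq_bot_iff_of_injective _ N.subtype_injective).not.mpr hS₀ne)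
    rw [eq_top_iff]
    intro y _
    obtain ⟨z, hz, hzy⟩ := hle y.2
    exact N.subtype_injective hzy ▸ hS₀le hz
  refine ⟨N, hNn, hNne, hmin', hsimple, or_iff_not_imp_left.mpr fun hC => ?_⟩
  set C := Subgroup.centralizer (N : Set F) with hCdef
  have hNC : N ≤ C := hmin' C inferInstance hC
  have hab : IsMulCommutative ↥N :=
    ⟨⟨fun a b => Subtype.ext (hNC b.2 a a.2)⟩⟩
  have hprime : (Nat.card N).Prime := by
    let : CommGroup ↥N := { (inferInstance : Group ↥N) with mul_comm := hab.is_comm.comm }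
    exact IsSimpleGroup.prime_card
  set p := Nat.card N with hpdef
  have := Fact.mk hprime
  have hHeq : H = N := by
    refine le_antisymm hHN ?_
    rcases Subgroup.eq_bot_or_eq_top_of_prime_card (H.subgroupOf N) with h | h
    · rw [Subgroup.subgroupOf_eq_bot, disjoint_iff, inf_eq_left.mpr hHN] at h
      exact absurd h hH
    · exact Subgroup.subgroupOf_eq_top.mp h
  have hall : ∀ R : Subgroup F, R ≤ C → R ≠ ⊥ → N ≤ R := fun R hRC hR => by
    rw [← hHeq]
    refine hmin R hR ((hHeq.le.trans ?_).trans (Subgroup.centralizer_le_normalizer _))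
    exact Subgroup.le_centralizer_iff.mp hRC
  have hCp : IsPGroup p ↥C := by
    refine IsPGroup.of_card (n := (Nat.card C).primeFactorsList.length) ?_
    refine Nat.eq_prime_pow_of_unique_prime_dvd Nat.card_pos.ne' fun {q} hq hqd => ?_
    have := Fact.mk hq
    obtain ⟨y, hy⟩ := exists_prime_orderOf_dvd_card' q hqd
    have hle := hall (Subgroup.zpowers (y : F)) (Subgroup.zpowers_le.mpr y.2) (by
      rw [ne_eq, Subgroup.zpowers_eq_bot]
      intro h
      rw [← Subgroup.orderOf_coe, h, orderOf_one] at hy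
      exact hq.ne_one hy.symm)
    have := Subgroup.card_dvd_of_le hle
    rw [Nat.card_zpowers, Subgroup.orderOf_coe, hy] at this
    exact ((Nat.prime_dvd_prime_iff_eq hprime hq).mp this).symm
  have huniq : ∀ X Y : Subgroup ↥C, Nat.card X = p → Nat.card Y = p → X = Y := by
    have key : ∀ X : Subgroup ↥C, Nat.card X = p → X.map C.subtype = N := fun X hX => by
      have hne : X.map C.subtype ≠ ⊥ := fun h => by
        rw [Subgroup.map_eq_bot_iff_of_injective _ C.subtype_injective] at h
        rw [h, Subgroup.card_bot] at hX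
        exact hprime.ne_one hX.symm
      exact (Subgroup.eq_of_le_of_card_ge (hall _ (Subgroup.map_subtype_le _) hne)
        (by rw [Subgroup.card_map_of_injective C.subtype_injective, hX])).symm
    exact fun X Y hX hY => Subgroup.map_injective C.subtype_injective ((key X hX).trans (key Y hY).symm)
  obtain ⟨k, hk⟩ := hCp.exists_card_eq
  have hk1 : 1 ≤ k := by
    by_contra h
    rw [show k = 0 by omega, pow_zero] at hk
    exact hC (Subgroup.card_eq_one.mp hk)
  rcases PGroup.cyclic_or_quaternion_of_unique hCp huniq with hcyc | ⟨hp2, n, hn, -, ⟨e⟩⟩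
  · left
    have hker : (MulAut.conjNormal : F →* MulAut ↥N).ker = C := by
      ext g
      rw [MonoidHom.mem_ker]
      constructor
      · intro h a ha
        have h1 := congrArg (fun f : MulAut ↥N => ((f ⟨a, ha⟩ : ↥N) : F)) h
        simp only [MulAut.conjNormal_apply, MulAut.one_apply] at h1
        exact (mul_inv_eq_iff_eq_mul.mp h1).symm
      · intro h
        ext a
        rw [MulAut.conjNormal_apply, MulAut.one_apply]
        exact mul_inv_eq_iff_eq_mul.mpr (h (a : F) a.2).symm
    have hNcyc : IsCyclic ↥N := isCyclic_of_prime_card hpdef.symm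
    have hrange : IsCyclic ↥(MulAut.conjNormal : F →* MulAut ↥N).range :=
      have : IsCyclic (MulAut ↥N) := by
        have : IsCyclic (ZMod (Nat.card ↥N))ˣ := inferInstanceAs (IsCyclic (ZMod p)ˣ)
        exact isCyclic_of_injective (IsCyclic.mulAutMulEquiv ↥N).toMonoidHom (IsCyclic.mulAutMulEquiv ↥N).injective
      inferInstance
    refine ⟨hHeq, hprime, hcyc, ⟨k, hk1, hk⟩, ?_, ?_⟩
    · obtain ⟨⟨_, g, rfl⟩, hg⟩ := hrange.exists_generator
      refine ⟨g, top_le_iff.mp fun y _ => ?_⟩
      obtain ⟨i, hi⟩ := Subgroup.mem_zpowers_iff.mp (hg ⟨_, y, rfl⟩)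
      have hi' : (MulAut.conjNormal g : MulAut ↥N) ^ i = MulAut.conjNormal y :=
        congrArg Subtype.val hi
      have : y * (g ^ i)⁻¹ ∈ C := by
        rw [← hker, MonoidHom.mem_ker, map_mul, map_inv, map_zpow, hi', mul_inv_cancel]
      rw [show y = y * (g ^ i)⁻¹ * g ^ i by group]
      exact mul_mem (Subgroup.mem_sup_left this)
        (Subgroup.mem_sup_right (zpow_mem (Subgroup.mem_zpowers g) i))
    · rw [← hker, Subgroup.index_ker]
      refine (Subgroup.card_subgroup_dvd_card _).trans ?_
      rw [hNcyc.card_mulAut, ← hpdef, Nat.totient_prime hprime]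
  · right
    have hp2' : Nat.card N = 2 := hp2
    have hCtop : C = ⊤ := by
      rw [eq_top_iff]
      intro g _ a ha
      rcases eq_or_ne a 1 with rfl | ha1
      · rw [one_mul, mul_one]
      · have h1 : g * a * g⁻¹ ∈ N := hNn.conj_mem a ha g
        have hcard := (Nat.card_eq_two_iff' (⟨1, N.one_mem⟩ : ↥N)).mp hp2'
        have h2 := hcard.unique (y₁ := ⟨a, ha⟩) (y₂ := ⟨g * a * g⁻¹, h1⟩)
          (fun h => ha1 (congrArg Subtype.val h))
          (fun h => ha1 (conj_eq_one_iff.mp (congrArg Subtype.val h)))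
        exact (mul_inv_eq_iff_eq_mul.mp (congrArg Subtype.val h2).symm).symm
    exact ⟨hHeq, hp2', hCtop, n, hn,
      ⟨(Subgroup.topEquiv.symm.trans (MulEquiv.subgroupCongr hCtop.symm)).trans e⟩⟩

end Cfsg.Agent.S3025
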