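import Cfsg.Statements.S3027
-- import your own Cfsg.Agent.* helpers here

set_option autoImplicit false
open scoped Pointwise commutatorElement
open Cfsg

namespace Cfsg.Agent.S3027

/-- Let G be a finite group and D a normal subgroup of G such that G/D is perfect (that is, G = G′D). Then among the subnormal subgroups B of G with BD = G there is a least one, and it is normal in G. -/
theorem result {G : Type*} [Group G] [Finite G] (D : Subgroup G) [D.Normal] (hperf : ⁅(⊤ : Subgroup G), (⊤ : Subgroup G)⁆ ⊔ D = ⊤) :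
    ∃ B : Subgroup G, B.Normal ∧ B ⊔ D = ⊤ ∧ ∀ B' : Subgroup G, B'.IsSubnormal → B' ⊔ D = ⊤ → B ≤ B' := by
  classical
  have inter : ∀ C₁ C₂ : Subgroup G, C₂ ≤ Subgroup.normalizer (C₁ : Set G) →
      C₁ ≤ Subgroup.normalizer (C₂ : Set G) → C₁ ⊔ D = ⊤ → C₂ ⊔ D = ⊤ → (C₁ ⊓ C₂) ⊔ D = ⊤ := by
    intro C₁ C₂ h21 h12 h1 h2
    refine top_le_iff.mp (hperf.ge.trans (sup_le ?_ le_sup_right))
    rw [Subgroup.commutator_le]
    intro u _ v _
    obtain ⟨a, ha, d, hd, rfl⟩ : u ∈ ((C₁ : Set G) * (D : Set G)) := by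
      rw [← Subgroup.mul_normal, h1]; trivial
    obtain ⟨b, hb, e, he, rfl⟩ : v ∈ ((C₂ : Set G) * (D : Set G)) := by
      rw [← Subgroup.mul_normal, h2]; trivial
    have hc : ⁅a, b⁆ ∈ C₁ ⊓ C₂ := by
      rw [commutatorElement_def]
      refine ⟨?_, C₂.mul_mem ((Subgroup.mem_normalizer_iff.mp (h12 ha) b).mp hb) (C₂.inv_mem hb)⟩
      rw [mul_assoc, mul_assoc, ← mul_assoc b]
      exact C₁.mul_mem ha ((Subgroup.mem_normalizer_iff.mp (h21 hb) _).mp (C₁.inv_mem ha))
    have : ⁅a, b⁆⁻¹ * ⁅a * d, b * e⁆ ∈ D := by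
      rw [← QuotientGroup.eq_one_iff]
      simp only [commutatorElement_def, QuotientGroup.mk_mul, QuotientGroup.mk_inv,
        (QuotientGroup.eq_one_iff d).mpr hd, (QuotientGroup.eq_one_iff e).mpr he]
      group
    exact (Subgroup.mul_mem_cancel_left _ (Subgroup.mem_sup_left (T := D)
      ((C₁ ⊓ C₂).inv_mem hc))).mp (Subgroup.mem_sup_right this)
  obtain ⟨B, ⟨hBn, hBD⟩, hBmin⟩ := Set.Finite.exists_minimal
    (Set.toFinite {B : Subgroup G | B.Normal ∧ B ⊔ D = ⊤}) ⟨⊤, inferInstance, top_sup_eq D⟩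
  have hBN : ∀ C : Subgroup G, C ≤ Subgroup.normalizer (B : Set G) := fun C => by
    rw [Subgroup.normalizer_eq_top_iff.mpr hBn]; exact le_top
  have hBtopN : B ≤ Subgroup.normalizer ((⊤ : Subgroup G) : Set G) := by
    rw [Subgroup.normalizer_eq_top_iff.mpr inferInstance]; exact le_top
  refine ⟨B, hBn, hBD, fun B' hB' => ?_⟩
  induction hB' with
  | top => exact fun _ => le_top
  | step H K hle hsn hN ih =>
    intro hHD
    have hBK : B ≤ K := ih (top_le_iff.mp (hHD.ge.trans (sup_le_sup_right hle D)))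
    have hKH : K ≤ Subgroup.normalizer (H : Set G) := (Subgroup.normal_subgroupOf_iff_le_normalizer hle).mp hN
    have h0 : (H ⊓ B) ⊔ D = ⊤ := inter H B (hBK.trans hKH) (hBN H) hHD hBD
    have hnorm : B ≤ Subgroup.normalizer ((H ⊓ B : Subgroup G) : Set G) :=
      (le_inf (hBK.trans hKH) Subgroup.le_normalizer).trans Subgroup.inf_normalizer_le_normalizer_inf
    obtain ⟨C, ⟨hC1, hC2, hC3⟩, hCmin⟩ := Set.Finite.exists_minimal
      (Set.toFinite {C : Subgroup G | C ≤ B ∧ B ≤ Subgroup.normalizer (C : Set G) ∧ C ⊔ D = ⊤})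
      ⟨H ⊓ B, inf_le_right, hnorm, h0⟩
    have least : ∀ C' : Subgroup G, C' ≤ B → B ≤ Subgroup.normalizer (C' : Set G) → C' ⊔ D = ⊤ → C ≤ C' :=
      fun C' h1 h2 h3 => le_trans (hCmin (y := C ⊓ C') ⟨inf_le_left.trans hC1,
        (le_inf hC2 h2).trans Subgroup.inf_normalizer_le_normalizer_inf,
        inter C C' (h1.trans hC2) (hC1.trans h2) hC3 h3⟩ inf_le_left) inf_le_right
    have hCn : C.Normal := by
      refine ⟨fun a ha g => ?_⟩
      have hle' := least (C.map (MulAut.conj g).toMonoidHom) ?_ ?_ ?_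
      · have heq := Subgroup.eq_of_le_of_card_ge hle'
          (Subgroup.card_map_of_injective (MulAut.conj g).injective).le
        rw [heq]
        exact ⟨a, ha, rfl⟩
      · rintro _ ⟨c, hc, rfl⟩
        exact hBn.conj_mem c (hC1 hc) g
      · intro b hb
        have := Subgroup.le_normalizer_map (H := C) (MulAut.conj g).toMonoidHom
          ⟨g⁻¹ * b * g, hC2 (by simpa using hBn.conj_mem b hb g⁻¹), rfl⟩
        simpa [mul_assoc] using this
      · refine top_le_iff.mp fun y _ => ?_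
        obtain ⟨c, hc, d, hd, hcd⟩ : g⁻¹ * y * g ∈ ((C : Set G) * (D : Set G)) := by
          rw [← Subgroup.mul_normal, hC3]; trivial
        have : y = g * c * g⁻¹ * (g * d * g⁻¹) := by
          rw [show g * c * g⁻¹ * (g * d * g⁻¹) = g * (c * d) * g⁻¹ by group, show c * d = _ from hcd]
          group
        rw [this]
        exact mul_mem (Subgroup.mem_sup_left ⟨c, hc, rfl⟩)
          (Subgroup.mem_sup_right ((inferInstance : D.Normal).conj_mem d hd g))
    exact (hBmin ⟨hCn, hC3⟩ hC1).trans ((least _ inf_le_right hnorm h0).trans inf_le_left)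

end Cfsg.Agent.S3027
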