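import Cfsg.Statements.S3028
import Cfsg.Agent.Lib.Components.Wielandt
import Cfsg.Agent.Lib.Offender.Factorization
import Cfsg.Agent.Lib.Transfer.Residual
import Mathlib.GroupTheory.Transfer
import Cfsg.Agent.Lib.Subnormal.Join
-- import your own Cfsg.Agent.* helpers here

set_option autoImplicit false
open Cfsg

namespace Cfsg.Agent.S3028

open Subgroup

theorem exists_sylow_eq_inf_of_normal {G : Type*} [Group G] [Finite G] {p : ℕ} [Fact p.Prime] (P : Sylow p G)
    (N : Subgroup G) [N.Normal] : ¬ p ∣ (P : Subgroup G).relIndex N := by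
  obtain ⟨Q, hQ⟩ := Offender.exists_sylow_eq_inf P N
  have e : (P : Subgroup G).subgroupOf N = (Q : Subgroup N) := by
    rw [← inf_subgroupOf_right, ← hQ]
    exact comap_map_eq_self_of_injective N.subtype_injective _
  show ¬ p ∣ ((P : Subgroup G).subgroupOf N).index
  rw [e]
  exact Q.not_dvd_index

theorem exists_sylow_subnormal {G : Type*} [Group G] [Finite G] {p : ℕ} [Fact p.Prime] (S : Sylow p G)
    {A : Subgroup G} (hA : A.IsSubnormal) :
    ∃ P : Sylow p A, (P : Subgroup A).map A.subtype = A ⊓ (S : Subgroup G) := by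
  have key : ¬ p ∣ (S : Subgroup G).relIndex A := by
    induction hA with
    | top => rw [relIndex_top_right]; exact S.not_dvd_index
    | step H K hHK _ hN ih =>
      have := hN
      let P : Sylow p K := (S.2.comap_subtype (K := K)).toSylow ih
      have hQ := exists_sylow_eq_inf_of_normal P (H.subgroupOf K)
      have h1 : ((S : Subgroup G).subgroupOf K).relIndex (H.subgroupOf K) = (S : Subgroup G).relIndex H :=
        relIndex_subgroupOf hHK
      rw [← h1]
      exact hQ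
  refine ⟨(S.2.comap_subtype (K := A)).toSylow key, ?_⟩
  show ((S : Subgroup G).subgroupOf A).map A.subtype = _
  rw [subgroupOf_map_subtype, inf_comm]

/-- A Sylow subgroup of a subnormal subgroup maps onto that of its image. -/
theorem inf_map_le {G H : Type*} [Group G] [Finite G] [Group H] {p : ℕ} [Fact p.Prime] (S : Sylow p G)
    {A : Subgroup G} (hA : A.IsSubnormal) (f : G →* H) :
    A.map f ⊓ (S : Subgroup G).map f ≤ (A ⊓ (S : Subgroup G)).map f := by
  obtain ⟨P, hP⟩ := exists_sylow_subnormal S hA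
  set g := f.subgroupMap A
  let P' : Sylow p (A.map f) := P.mapSurjective (f.subgroupMap_surjective A)
  have h1 : (P' : Subgroup (A.map f)).map (A.map f).subtype = (A ⊓ (S : Subgroup G)).map f := by
    rw [← hP, Subgroup.map_map]
    show ((P : Subgroup A).map g).map (A.map f).subtype = _
    rw [Subgroup.map_map]
    rfl
  have hp : IsPGroup p ↥(((S : Subgroup G).map f).subgroupOf (A.map f)) :=
    (S.2.map f).comap_subtype
  have h2 : (P' : Subgroup (A.map f)) ≤ ((S : Subgroup G).map f).subgroupOf (A.map f) := by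
    intro x hx
    rw [mem_subgroupOf]
    have : (x : H) ∈ (A ⊓ (S : Subgroup G)).map f := h1 ▸ mem_map_of_mem (A.map f).subtype hx
    exact map_mono inf_le_right this
  rw [← h1, ← P'.3 hp h2, subgroupOf_map_subtype, inf_comm]

/-- A Sylow subgroup of a product of two normal subgroups is the product of its intersections. -/
theorem sylow_le_of_normal_sup {G : Type*} [Group G] [Finite G] {p : ℕ} [Fact p.Prime] (P : Sylow p G)
    (C D : Subgroup G) [C.Normal] [D.Normal] (h : C ⊔ D = ⊤) :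
    (P : Subgroup G) ≤ (C ⊓ (P : Subgroup G)) ⊔ (D ⊓ (P : Subgroup G)) := by
  intro x hx
  have hD : D.map (QuotientGroup.mk' C) = ⊤ := by
    rw [← map_top_of_surjective (QuotientGroup.mk' C) (QuotientGroup.mk'_surjective C), ← h,
      Subgroup.map_sup, QuotientGroup.map_mk'_self, bot_sup_eq]
  obtain ⟨d, hd, hde⟩ := inf_map_le P (Subgroup.Normal.isSubnormal inferInstance) (QuotientGroup.mk' C)
    (A := D) (show QuotientGroup.mk' C x ∈ _ from ⟨hD ▸ mem_top _, mem_map_of_mem _ hx⟩)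
  have hc : d⁻¹ * x ∈ C := QuotientGroup.eq.mp hde
  rw [← mul_inv_cancel_left d x]
  exact mul_mem (mem_sup_right hd) (mem_sup_left ⟨hc, (P : Subgroup G).mul_mem ((P : Subgroup G).inv_mem hd.2) hx⟩)

theorem eq_bot_of_coprime_sylow {G : Type*} [Group G] [Finite G] {p q : ℕ} [hp : Fact p.Prime] (hq : q.Prime)
    (hpq : p ≠ q) (S : Sylow p G) {M : Subgroup G} (hM : Nat.card M = q) : M ⊓ (S : Subgroup G) = ⊥ := by
  refine inf_eq_bot_of_coprime ?_
  obtain ⟨k, hk⟩ := S.2.exists_card_eq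
  rw [hM, hk]
  exact ((Nat.coprime_primes hq hp.out).mpr (Ne.symm hpq)).pow_right k

theorem main.{u} : ∀ (n : ℕ) (G : Type u) [Group G] [Finite G], Nat.card G = n →
    ∀ (A₁ A₂ : Subgroup G), A₁.IsSubnormal → A₂.IsSubnormal → ∀ (p : ℕ) [Fact p.Prime] (S : Sylow p G),
    (A₁ ⊔ A₂) ⊓ (S : Subgroup G) ≤ (A₁ ⊓ (S : Subgroup G)) ⊔ (A₂ ⊓ (S : Subgroup G)) := by
  intro n
  induction n using Nat.strong_induction_on with
  | _ n ih =>
  intro G _ _ hn A₁ A₂ h₁ h₂
  -- the statement inside a proper subnormal subgroup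
  have hsub : ∀ (W : Subgroup G), W.IsSubnormal → W ≠ ⊤ → ∀ (B₁ B₂ : Subgroup G), B₁.IsSubnormal →
      B₂.IsSubnormal → B₁ ≤ W → B₂ ≤ W → ∀ (p : ℕ) [Fact p.Prime] (S : Sylow p G),
      (B₁ ⊔ B₂) ⊓ (S : Subgroup G) ≤ (B₁ ⊓ (S : Subgroup G)) ⊔ (B₂ ⊓ (S : Subgroup G)) := by
    intro W hW hWne B₁ B₂ hB₁ hB₂ l₁ l₂ p _ S
    obtain ⟨P, hP⟩ := exists_sylow_subnormal S hW
    have hlt : Nat.card W < n := by
      rw [← hn]
      refine (Subgroup.card_le_card_group W).lt_of_ne fun he => hWne ?_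
      exact eq_top_of_card_eq _ he
    have h := map_mono (f := W.subtype)
      (ih _ hlt W rfl (B₁.subgroupOf W) (B₂.subgroupOf W) hB₁.subgroupOf hB₂.subgroupOf p P)
    rw [Subgroup.map_inf _ _ _ W.subtype_injective, Subgroup.map_sup, Subgroup.map_sup,
      Subgroup.map_inf _ _ _ W.subtype_injective, Subgroup.map_inf _ _ _ W.subtype_injective,
      map_subgroupOf_eq_of_le l₁, map_subgroupOf_eq_of_le l₂, hP] at h
    have h2 := h.trans (sup_le_sup (inf_le_inf_left B₁ inf_le_right) (inf_le_inf_left B₂ inf_le_right))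
    exact fun x hx => h2 ⟨hx.1, (sup_le l₁ l₂ : B₁ ⊔ B₂ ≤ W) hx.1, hx.2⟩
  intro p hp S
  by_cases hJ : A₁ ⊔ A₂ ≠ ⊤
  · exact hsub _ (Subnormal.isSubnormal_sup h₁ h₂) hJ A₁ A₂ h₁ h₂ le_sup_left le_sup_right p S
  rw [not_not] at hJ
  rw [hJ, top_inf_eq]
  rcases subsingleton_or_nontrivial G with hss | hnt
  · intro x _
    rw [Subsingleton.elim x 1]
    exact one_mem _
  obtain ⟨M, hMn, hMne, -, hMmin⟩ :=
    Components.exists_minimalNormal_le (N := (⊤ : Subgroup G)) inferInstance top_ne_bot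
  have hquot : ∀ (q : ℕ) [Fact q.Prime] (Q : Sylow q G), M ⊓ (Q : Subgroup G) ≤
      (A₁ ⊓ (Q : Subgroup G)) ⊔ (A₂ ⊓ (Q : Subgroup G)) →
      (Q : Subgroup G) ≤ (A₁ ⊓ (Q : Subgroup G)) ⊔ (A₂ ⊓ (Q : Subgroup G)) := by
    intro q _ Q hMQ x hx
    have hlt : Nat.card (G ⧸ M) < n := by
      rw [← hn, Subgroup.card_eq_card_quotient_mul_card_subgroup M]
      have := (Subgroup.nontrivial_iff_ne_bot M).mpr hMne
      exact lt_mul_of_one_lt_right Nat.card_pos Finite.one_lt_card
    set f := QuotientGroup.mk' M with hf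
    have hs := QuotientGroup.mk'_surjective M
    have h := ih _ hlt (G ⧸ M) rfl (A₁.map f) (A₂.map f) h₁.quotient h₂.quotient q (Q.mapSurjective hs)
    rw [← Subgroup.map_sup, hJ, map_top_of_surjective f hs, top_inf_eq] at h
    have h' := h.trans (sup_le_sup (inf_map_le Q h₁ f) (inf_map_le Q h₂ f))
    rw [← Subgroup.map_sup] at h'
    obtain ⟨y, hy, hye⟩ := h' (mem_map_of_mem f hx)
    have hm : y⁻¹ * x ∈ M := QuotientGroup.eq.mp hye
    have hyQ : y ∈ (Q : Subgroup G) :=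
      (sup_le inf_le_right inf_le_right : (A₁ ⊓ (Q : Subgroup G)) ⊔ (A₂ ⊓ (Q : Subgroup G)) ≤ Q) hy
    rw [← mul_inv_cancel_left y x]
    exact mul_mem hy (hMQ ⟨hm, (Q : Subgroup G).mul_mem ((Q : Subgroup G).inv_mem hyQ) hx⟩)
  have hMN : ∀ A : Subgroup G, A.IsSubnormal → M ≤ normalizer (A : Set G) := fun A hA =>
    Components.minimalNormal_le_normalizer hMn hMmin hA
  set M₁ := (M ⊓ A₁) ⊔ (M ⊓ A₂) with hM₁
  have hM₁le : M₁ ≤ M := sup_le inf_le_left inf_le_left
  have hcomm : ∀ (A : Subgroup G), A.IsSubnormal → ∀ a ∈ A, ∀ m ∈ M, a * m * a⁻¹ * m⁻¹ ∈ M ⊓ A := by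
    intro A hA a ha m hm
    refine ⟨M.mul_mem (hMn.conj_mem m hm a) (M.inv_mem hm), ?_⟩
    have := (mem_normalizer_iff.mp (hMN A hA hm) a⁻¹).mp (inv_mem ha)
    rw [show a * m * a⁻¹ * m⁻¹ = a * (m * a⁻¹ * m⁻¹) by group]
    exact mul_mem ha this
  have hM₁n : M₁.Normal := by
    have hA : ∀ (A : Subgroup G), A.IsSubnormal → M ⊓ A ≤ M₁ → A ≤ normalizer (M₁ : Set G) := by
      intro A hA hle a ha
      have key : ∀ a ∈ A, ∀ m ∈ M₁, a * m * a⁻¹ ∈ M₁ := fun a ha m hm => by
        rw [show a * m * a⁻¹ = (a * m * a⁻¹ * m⁻¹) * m by group]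
        exact mul_mem (hle (hcomm A hA a ha m (hM₁le hm))) hm
      refine mem_normalizer_iff.mpr fun m => ⟨key a ha m, fun hm => ?_⟩
      have := key a⁻¹ (inv_mem ha) _ hm
      rwa [show a⁻¹ * (a * m * a⁻¹) * a⁻¹⁻¹ = m by group] at this
    exact normalizer_eq_top_iff.mp (eq_top_iff.mpr (hJ ▸ sup_le (hA A₁ h₁ le_sup_left) (hA A₂ h₂ le_sup_right)))
  rcases hMmin M₁ hM₁n hM₁le with hbot | htop
  swap
  · -- `M` is the product of `M ⊓ A₁` and `M ⊓ A₂`
    refine hquot p S ?_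
    obtain ⟨P, hP⟩ := exists_sylow_subnormal S hMn.isSubnormal
    have hn1 : (A₁.subgroupOf M).Normal := normal_subgroupOf_of_le_normalizer (hMN A₁ h₁)
    have hn2 : (A₂.subgroupOf M).Normal := normal_subgroupOf_of_le_normalizer (hMN A₂ h₂)
    have hsup : A₁.subgroupOf M ⊔ A₂.subgroupOf M = ⊤ := by
      refine map_injective M.subtype_injective ?_
      rw [Subgroup.map_sup, subgroupOf_map_subtype, subgroupOf_map_subtype, inf_comm A₁, inf_comm A₂,
        ← MonoidHom.range_eq_map, range_subtype]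
      exact htop
    have h := map_mono (f := M.subtype) (sylow_le_of_normal_sup P _ _ hsup)
    rw [Subgroup.map_sup, Subgroup.map_inf _ _ _ M.subtype_injective,
      Subgroup.map_inf _ _ _ M.subtype_injective, subgroupOf_map_subtype, subgroupOf_map_subtype, hP] at h
    exact h.trans (sup_le_sup (inf_le_inf inf_le_left inf_le_right) (inf_le_inf inf_le_left inf_le_right))
  -- otherwise `M` is central of prime order
  have hMc : M ≤ center G := by
    intro m hm
    rw [mem_center_iff]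
    have hA : ∀ (A : Subgroup G), A.IsSubnormal → M ⊓ A ≤ M₁ → A ≤ centralizer ({m} : Set G) := by
      intro A hA hle a ha
      have h1 := hle (hcomm A hA a ha m hm)
      rw [hbot, mem_bot, mul_inv_eq_one, mul_inv_eq_iff_eq_mul] at h1
      exact mem_centralizer_singleton_iff.mpr h1
    intro g
    have hg : g ∈ centralizer ({m} : Set G) :=
      (hJ ▸ sup_le (hA A₁ h₁ le_sup_left) (hA A₂ h₂ le_sup_right) : ⊤ ≤ centralizer ({m} : Set G)) (mem_top g)
    exact mem_centralizer_singleton_iff.mp hg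
  obtain ⟨r, hr, hrM⟩ := Nat.exists_prime_and_dvd (n := Nat.card M) (fun h1 => hMne (eq_bot_of_card_eq _ h1))
  have := Fact.mk hr
  obtain ⟨⟨z, hzM⟩, hz⟩ := exists_prime_orderOf_dvd_card' r hrM
  rw [Subgroup.orderOf_mk] at hz
  have hzn : (zpowers z).Normal := ⟨fun x hx g => by
    have : x ∈ center G := zpowers_le.mpr (hMc hzM) hx
    rw [mem_center_iff.mp this g, mul_inv_cancel_right]
    exact hx⟩
  have hzeq : zpowers z = M := (hMmin _ hzn (zpowers_le.mpr hzM)).resolve_left fun h1 => by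
    rw [zpowers_eq_bot] at h1
    rw [h1, orderOf_one] at hz
    exact hr.ne_one hz.symm
  have hMcard : Nat.card M = r := by rw [← hzeq, Nat.card_zpowers, hz]
  by_cases hrp : p = r
  swap
  · exact hquot p S (by rw [eq_bot_of_coprime_sylow hr hrp S hMcard]; exact bot_le)
  subst hrp
  set X := (A₁ ⊓ (S : Subgroup G)) ⊔ (A₂ ⊓ (S : Subgroup G)) with hX
  by_cases hzX : z ∈ X
  · exact hquot p S (inf_le_left.trans (hzeq ▸ zpowers_le.mpr hzX))
  have hXS : X ≤ S := sup_le inf_le_right inf_le_right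
  have hMS : M ≤ S := by
    have hMp : IsPGroup p M := IsPGroup.of_card (n := 1) (by rw [hMcard, pow_one])
    have hsp : IsPGroup p ↥(M ⊔ (S : Subgroup G)) := hMp.to_sup_of_normal_left S.2
    exact le_sup_left.trans (S.3 hsp le_sup_right).le
  have hzS : z ∈ (S : Subgroup G) := hMS hzM
  have hcover : ∀ s ∈ (S : Subgroup G), ∃ i : ℤ, (z ^ i)⁻¹ * s ∈ X := by
    intro s hs
    have hlt : Nat.card (G ⧸ M) < n := by
      rw [← hn, Subgroup.card_eq_card_quotient_mul_card_subgroup M, hMcard]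
      exact lt_mul_of_one_lt_right Nat.card_pos hp.out.one_lt
    set f := QuotientGroup.mk' M
    have hsf := QuotientGroup.mk'_surjective M
    have h := ih _ hlt (G ⧸ M) rfl (A₁.map f) (A₂.map f) h₁.quotient h₂.quotient p (S.mapSurjective hsf)
    rw [← Subgroup.map_sup, hJ, map_top_of_surjective f hsf, top_inf_eq] at h
    have h' := h.trans (sup_le_sup (inf_map_le S h₁ f) (inf_map_le S h₂ f))
    rw [← Subgroup.map_sup] at h'
    obtain ⟨x, hx, hxe⟩ := h' (mem_map_of_mem f hs)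
    have hm : x⁻¹ * s ∈ M := QuotientGroup.eq.mp hxe
    rw [← hzeq] at hm
    obtain ⟨i, hi⟩ := mem_zpowers_iff.mp hm
    refine ⟨i, ?_⟩
    have hc : z ^ i ∈ center G := zpow_mem (hMc hzM) i
    have hs' : s = z ^ i * x := by rw [← mem_center_iff.mp hc x, hi, mul_inv_cancel_left]
    rw [hs', inv_mul_cancel_left]
    exact hx
  set X' := X.subgroupOf (S : Subgroup G)
  have hX'n : X'.Normal := by
    refine normal_subgroupOf_of_le_normalizer fun s hs => ?_
    obtain ⟨i, hi⟩ := hcover s hs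
    have hn1 : z ^ i ∈ normalizer (X : Set G) := mem_normalizer_iff.mpr fun x => by
      rw [← mem_center_iff.mp (zpow_mem (hMc hzM) i) x, mul_inv_cancel_right]
    rw [← mul_inv_cancel_left (z ^ i) s]
    exact mul_mem hn1 (le_normalizer hi)
  have hcyc : IsCyclic ((S : Subgroup G) ⧸ X') := by
    refine ⟨QuotientGroup.mk ⟨z, hzS⟩, fun y => ?_⟩
    obtain ⟨⟨s, hs⟩, rfl⟩ := QuotientGroup.mk_surjective y
    obtain ⟨i, hi⟩ := hcover s hs
    refine ⟨i, ?_⟩
    show (QuotientGroup.mk ⟨z, hzS⟩ : (S : Subgroup G) ⧸ X') ^ i = _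
    rw [← QuotientGroup.mk_zpow, QuotientGroup.eq]
    exact hi
  let cg : CommGroup ((S : Subgroup G) ⧸ X') := IsCyclic.commGroup
  let φ : (S : Subgroup G) →* (S : Subgroup G) ⧸ X' := QuotientGroup.mk' X'
  set L := Cfsg.pResidual p G with hL
  have hLne : L ≠ ⊤ := by
    intro hLt
    have hker : L ≤ φ.transfer.ker := Cfsg.Agent.Transfer.pResidual_le_ker _ ((S.2.to_quotient X'))
    have hz1 : φ.transfer z = 1 := hker (hLt ▸ mem_top z)
    have hc : ∀ g : G, g * z = z * g := mem_center_iff.mp (hMc hzM)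
    rw [φ.transfer_eq_pow z (fun k g₀ hg => by
      have hzk : Commute g₀ (z ^ k) := (Commute.pow_right (hc g₀) k)
      rw [mul_assoc, ← hzk.eq, inv_mul_cancel_left])] at hz1
    have hmem : z ^ (S : Subgroup G).index ∈ X := (QuotientGroup.eq_one_iff (N := X') _).mp hz1
    have hcop : Nat.Coprime (S : Subgroup G).index (orderOf z) := by
      rw [hz]
      exact ((hp.out.coprime_iff_not_dvd).mpr S.not_dvd_index).symm
    obtain ⟨k, hk⟩ := exists_pow_eq_self_of_coprime hcop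
    exact hzX (hk ▸ pow_mem hmem k)
  have hLn : L.Normal := Cfsg.Agent.Transfer.pResidual_normal p
  -- `L` is generated by its intersections with the `A_i`
  have hLle : L ≤ (A₁ ⊓ L) ⊔ (A₂ ⊓ L) := by
    set B := (A₁ ⊓ L) ⊔ (A₂ ⊓ L)
    rw [hL]
    refine (closure_le _).mpr fun g (hg : Nat.Coprime (orderOf g) p) => ?_
    have hQB : ∀ (q : ℕ) [Fact q.Prime], q ≠ p → ∀ Q : Sylow q G, (Q : Subgroup G) ≤ B := by
      intro q _ hqp Q
      have hQL : (Q : Subgroup G) ≤ L := fun x hx => Cfsg.Agent.Transfer.mem_residual_of_coprime (by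
        obtain ⟨k, hk⟩ := IsPGroup.iff_orderOf.mp Q.2 ⟨x, hx⟩
        rw [Subgroup.orderOf_mk] at hk
        rw [hk]
        exact ((Nat.coprime_primes Fact.out hp.out).mpr hqp).pow_left k)
      refine (hquot q Q (by rw [eq_bot_of_coprime_sylow hp.out hqp Q hMcard]; exact bot_le)).trans
        (sup_le_sup (inf_le_inf_left _ hQL) (inf_le_inf_left _ hQL))
    by_contra hgB
    have hne1 : B.relIndex (zpowers g) ≠ 1 := fun h1 => hgB (relIndex_eq_one.mp h1 (mem_zpowers g))
    obtain ⟨q, hq, hqd⟩ := Nat.exists_prime_and_dvd hne1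
    have := Fact.mk hq
    have hqg : q ∣ orderOf g := by
      rw [← Nat.card_zpowers]
      exact hqd.trans (index_dvd_card _)
    have hqp : q ≠ p := fun e => hp.out.not_dvd_one (by
      have := Nat.dvd_gcd (e ▸ hqg) (dvd_refl p)
      rwa [hg.gcd_eq_one] at this)
    obtain ⟨W⟩ := (inferInstance : Nonempty (Sylow q (zpowers g)))
    obtain ⟨Q, hWQ⟩ := (W.2.map (zpowers g).subtype).exists_le_sylow
    refine W.not_dvd_index (hqd.trans (index_dvd_of_le fun x hx => ?_))
    exact hQB q hqp Q (hWQ (mem_map_of_mem _ hx))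
  have hAL : ∀ A : Subgroup G, A.IsSubnormal → A ≤ (A ⊓ (S : Subgroup G)) ⊔ L := by
    intro A hA
    obtain ⟨P, hP⟩ := exists_sylow_subnormal S hA
    have h := map_mono (f := A.subtype) (Cfsg.Agent.Transfer.sylow_sup_pResidual_eq_top P).ge
    rw [← MonoidHom.range_eq_map, range_subtype, Subgroup.map_sup, hP] at h
    exact h.trans (sup_le_sup le_rfl (Cfsg.Agent.Transfer.map_residual_le A.subtype p))
  intro s hs
  have hsXL : s ∈ X ⊔ L := (sup_le ((hAL A₁ h₁).trans (sup_le_sup le_sup_left le_rfl))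
    ((hAL A₂ h₂).trans (sup_le_sup le_sup_right le_rfl))) (hJ ▸ mem_top s)
  obtain ⟨x, hx, l, hl, rfl⟩ := mem_sup_of_normal_right.mp hsXL
  have hlS : l ∈ (S : Subgroup G) := by
    have := mul_mem (inv_mem (hXS hx)) hs
    rwa [inv_mul_cancel_left] at this
  have hin := hsub L hLn.isSubnormal hLne (A₁ ⊓ L) (A₂ ⊓ L) (h₁.inf hLn.isSubnormal)
    (h₂.inf hLn.isSubnormal) inf_le_right inf_le_right p S ⟨hLle hl, hlS⟩
  have hle : (A₁ ⊓ L) ⊓ (S : Subgroup G) ⊔ (A₂ ⊓ L) ⊓ (S : Subgroup G) ≤ X :=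
    sup_le_sup (inf_le_inf_right _ inf_le_left) (inf_le_inf_right _ inf_le_left)
  exact mul_mem hx (hle hin)

/-- Let G be a finite group, p a prime, S a Sylow p-subgroup of G and A₁, A₂ subnormal subgroups of G. Then the join of S ∩ A₁ and S ∩ A₂ is a Sylow p-subgroup of the join of A₁ and A₂; equivalently ⟨A₁, A₂⟩ ∩ S = ⟨A₁ ∩ S, A₂ ∩ S⟩. -/
theorem result {G : Type*} [Group G] [Finite G] {p : ℕ} [Fact p.Prime] (S : Sylow p G) (A₁ A₂ : Subgroup G)
    (h₁ : A₁.IsSubnormal) (h₂ : A₂.IsSubnormal) :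
    (A₁ ⊔ A₂) ⊓ (S : Subgroup G) = (A₁ ⊓ (S : Subgroup G)) ⊔ (A₂ ⊓ (S : Subgroup G)) := by
  exact le_antisymm (main _ G rfl A₁ A₂ h₁ h₂ p S)
    (sup_le (inf_le_inf_right _ le_sup_left) (inf_le_inf_right _ le_sup_right))

end Cfsg.Agent.S3028
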