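import Cfsg.Statements.S3033
import Cfsg.Agent.Lib.Solvable.Basic
import Cfsg.Agent.Lib.Supersolvable.Nilpotent
import Cfsg.Agent.Lib.Supersolvable.Basic
import Cfsg.Agent.Lib.Transfer.MinimalNonPNilpotent
import Cfsg.Agent.Lib.Transfer.Residual
import Cfsg.Agent.Lib.PGroup.Basic
import Mathlib.FieldTheory.Finite.Basic

set_option autoImplicit false
open scoped Pointwise
open Cfsg

namespace Cfsg.Agent.S3033

open Subgroup

/-- The hypothesis. -/
def Hyp (G : Type*) [Group G] : Prop :=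
  ∀ (p q : ℕ), p.Prime → q.Prime → p ≠ q → ∀ (x g : G), (∃ a : ℕ, orderOf x = p ^ a) → (∃ b : ℕ, orderOf g = q ^ b) →
      ¬ q ^ 2 ∣ Nat.card ↥(zpowers x ⊔ zpowers (g * x * g⁻¹))

theorem hyp_subgroup {G : Type*} [Group G] (h : Hyp G) (H : Subgroup G) : Hyp H := by
  intro p q hp hq hpq x g hx hg hd
  refine h p q hp hq hpq (x : G) (g : G) (by simpa using hx) (by simpa using hg) ?_
  have e : (zpowers x ⊔ zpowers (g * x * g⁻¹)).map H.subtype =
      zpowers (x : G) ⊔ zpowers ((g : G) * x * (g : G)⁻¹) := by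
    rw [Subgroup.map_sup, MonoidHom.map_zpowers, MonoidHom.map_zpowers]; rfl
  rwa [← e, card_map_of_injective H.subtype_injective]

/-- A `p`-element lift. -/
theorem exists_p_lift {G : Type*} [Group G] [Finite G] {N : Subgroup G} [N.Normal] {p : ℕ}
    (hp : p.Prime) (g : G) (hg : ∃ a : ℕ, g ^ (p ^ a) ∈ N) :
    ∃ k : ℕ, (∃ a : ℕ, orderOf (g ^ k) = p ^ a) ∧ (QuotientGroup.mk (g ^ k) : G ⧸ N) = QuotientGroup.mk g := by
  obtain ⟨a, ha⟩ := hg
  obtain ⟨e, b, hb, hb'⟩ := Nat.exists_eq_pow_mul_and_not_dvd (orderOf_pos g).ne' p hp.ne_one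
  have hcop : b.Coprime (p ^ (a + e)) := ((hp.coprime_iff_not_dvd.mpr hb).pow_left (a + e)).symm
  obtain ⟨k, hk1, hk2⟩ := Nat.chineseRemainder hcop 0 1
  refine ⟨k, ?_, ?_⟩
  · have hbk : b ∣ k := Nat.modEq_zero_iff_dvd.mp hk1
    have h1 : (g ^ k) ^ (p ^ e) = 1 := by
      obtain ⟨c, rfl⟩ := hbk
      rw [← pow_mul, show b * c * p ^ e = p ^ e * b * c by ring, ← hb', pow_mul, pow_orderOf_eq_one, one_pow]
    obtain ⟨j, -, hj⟩ := (Nat.dvd_prime_pow hp).mp (orderOf_dvd_of_pow_eq_one h1)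
    exact ⟨j, hj⟩
  · rw [QuotientGroup.mk_pow]
    conv_rhs => rw [← pow_one (QuotientGroup.mk g : G ⧸ N)]
    refine pow_eq_pow_iff_modEq.mpr ?_
    refine hk2.of_dvd ?_
    refine (orderOf_dvd_of_pow_eq_one (x := (QuotientGroup.mk g : G ⧸ N)) (n := p ^ a) ?_).trans
      (pow_dvd_pow p (Nat.le_add_right a e))
    rw [← QuotientGroup.mk_pow, QuotientGroup.eq_one_iff]
    exact ha

theorem hyp_quotient {G : Type*} [Group G] [Finite G] (h : Hyp G) (N : Subgroup G) [N.Normal] :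
    Hyp (G ⧸ N) := by
  intro p q hp hq hpq xb gb hxb hgb hd
  obtain ⟨a, ha⟩ := hxb
  obtain ⟨b, hb⟩ := hgb
  obtain ⟨x, rfl⟩ := QuotientGroup.mk_surjective xb
  obtain ⟨g, rfl⟩ := QuotientGroup.mk_surjective gb
  obtain ⟨i, hi, hxi⟩ := exists_p_lift (N := N) hp x ⟨a, by
    rw [← QuotientGroup.eq_one_iff, QuotientGroup.mk_pow, ← ha, pow_orderOf_eq_one]⟩
  obtain ⟨j, hj, hgj⟩ := exists_p_lift (N := N) hq g ⟨b, by
    rw [← QuotientGroup.eq_one_iff, QuotientGroup.mk_pow, ← hb, pow_orderOf_eq_one]⟩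
  refine h p q hp hq hpq (x ^ i) (g ^ j) hi hj (hd.trans ?_)
  rw [← hxi, ← hgj]
  have e : (zpowers (x ^ i) ⊔ zpowers (g ^ j * x ^ i * (g ^ j)⁻¹)).map (QuotientGroup.mk' N) =
      zpowers (QuotientGroup.mk (x ^ i) : G ⧸ N) ⊔
        zpowers ((QuotientGroup.mk (g ^ j) : G ⧸ N) * QuotientGroup.mk (x ^ i) *
          (QuotientGroup.mk (g ^ j) : G ⧸ N)⁻¹) := by
    rw [Subgroup.map_sup, MonoidHom.map_zpowers, MonoidHom.map_zpowers]; rfl
  rw [← e]
  exact Subgroup.card_map_dvd _ _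

/-- A `p`-element normalizing a `q`-group `Q` stabilizes `⟨[v, x]⟩` for every `v ∈ Q`. -/
theorem commutator_eigen {G : Type*} [Group G] [Finite G] (h : Hyp G) {p q : ℕ} (hp : p.Prime)
    (hq : q.Prime) (hpq : p ≠ q) {x : G} (hx : ∃ a : ℕ, orderOf x = p ^ a) {Q : Subgroup G}
    (hQ : IsPGroup q ↥Q) (hxQ : x ∈ normalizer (Q : Set G)) {v : G} (hv : v ∈ Q) :
    (v * x * v⁻¹ * x⁻¹) ^ q = 1 ∧
      x * (v * x * v⁻¹ * x⁻¹) * x⁻¹ ∈ zpowers (v * x * v⁻¹ * x⁻¹) := by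
  have := Fact.mk hq
  set c := v * x * v⁻¹ * x⁻¹ with hc
  have hcQ : c ∈ Q := by
    rw [hc, mul_assoc, mul_assoc, ← mul_assoc x]
    exact Q.mul_mem hv ((mem_normalizer_iff.mp hxQ _).mp (Q.inv_mem hv))
  set T := zpowers x ⊔ zpowers (v * x * v⁻¹)
  have hxT : x ∈ T := mem_sup_left (mem_zpowers x)
  have hcT : c ∈ T := T.mul_mem (mem_sup_right (mem_zpowers _)) (T.inv_mem hxT)
  obtain ⟨b, hb⟩ := IsPGroup.iff_orderOf.mp hQ ⟨v, hv⟩
  have hnd : ¬ q ^ 2 ∣ Nat.card T := h p q hp hq hpq x v hx ⟨b, by rw [← hb, orderOf_mk]⟩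
  have hcard : Nat.card ↥(T ⊓ Q) ∣ q := by
    obtain ⟨k, hk⟩ := (hQ.to_le (inf_le_right : T ⊓ Q ≤ Q)).exists_card_eq
    have hd : q ^ k ∣ Nat.card T := hk ▸ card_dvd_of_le inf_le_left
    have hk2 : k ≤ 1 := by
      by_contra hk2
      exact hnd ((pow_dvd_pow q (by omega)).trans hd)
    rw [hk]
    simpa using pow_dvd_pow q hk2
  have hcW : c ∈ T ⊓ Q := ⟨hcT, hcQ⟩
  have hcq : c ^ q = 1 := by
    rw [← orderOf_dvd_iff_pow_eq_one]
    exact (Subgroup.orderOf_dvd_natCard _ hcW).trans hcard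
  refine ⟨hcq, ?_⟩
  have hW : x * c * x⁻¹ ∈ T ⊓ Q :=
    ⟨T.mul_mem (T.mul_mem hxT hcT) (T.inv_mem hxT), (mem_normalizer_iff.mp hxQ c).mp hcQ⟩
  rcases eq_or_ne c 1 with h1 | h1
  · rw [h1, mul_one, mul_inv_cancel]; exact one_mem _
  · have hle : zpowers c ≤ T ⊓ Q := zpowers_le.mpr hcW
    have heq := eq_of_le_of_card_ge hle (by
      rw [Nat.card_zpowers, orderOf_eq_prime hcq h1]
      exact Nat.le_of_dvd hq.pos hcard)
    exact heq.symm ▸ hW

theorem commute_of_fixed_commutator {G : Type*} [Group G] {x v : G} {p q : ℕ} (hp : p.Prime)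
    (hq : q.Prime) (hpq : p ≠ q) (hx : ∃ a : ℕ, orderOf x = p ^ a)
    (hc : (v * x * v⁻¹ * x⁻¹) ^ q = 1) (hxc : Commute x (v * x * v⁻¹ * x⁻¹)) : Commute v x := by
  obtain ⟨a, ha⟩ := hx
  set c := v * x * v⁻¹ * x⁻¹ with hc'
  have e : c * x = v * x * v⁻¹ := by rw [hc']; group
  have h1 : (c * x) ^ (p ^ a) = 1 := by rw [e, conj_pow, ← ha, pow_orderOf_eq_one]; group
  rw [hxc.symm.mul_pow, ← ha, pow_orderOf_eq_one, mul_one, ha] at h1
  have : c = 1 := orderOf_eq_one_iff.mp (Nat.eq_one_of_dvd_coprimes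
    (((Nat.coprime_primes hp hq).mpr hpq).pow_left a) (orderOf_dvd_of_pow_eq_one h1)
    (orderOf_dvd_of_pow_eq_one hc))
  rw [this, one_mul] at e
  exact mul_inv_eq_iff_eq_mul.mp e.symm

theorem hasNormalPComplement_of_smallest {G : Type*} [Group G] [Finite G] (h : Hyp G) {s : ℕ}
    [Fact s.Prime] (hmin : ∀ q : ℕ, q.Prime → q ∣ Nat.card G → s ≤ q) :
    Cfsg.HasNormalPComplement s G := by
  by_contra hn
  obtain ⟨P⟩ := (inferInstance : Nonempty (Sylow s G))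
  obtain ⟨Q, g, q, k, hQP, hq, hqs, hord, hgN, hgC⟩ := Transfer.exists_prime_pow_not_centralize P hn
  have hs : s.Prime := Fact.out
  refine hgC fun v hv => ?_
  obtain ⟨h1, h2⟩ := commutator_eigen h hq hs hqs ⟨k, hord⟩ (P.2.to_le hQP) hgN hv
  have hcomm : Commute g (v * g * v⁻¹ * g⁻¹) := by
    set c := v * g * v⁻¹ * g⁻¹
    rcases eq_or_ne c 1 with hc1 | hc1
    · rw [hc1]; exact Commute.one_right g
    obtain ⟨r, hr⟩ := mem_zpowers_iff.mp h2
    have iter : ∀ i : ℕ, g ^ i * c * (g ^ i)⁻¹ = c ^ (r ^ i) := by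
      intro i
      induction i with
      | zero => simp
      | succ i ih =>
        calc g ^ (i + 1) * c * (g ^ (i + 1))⁻¹ = g * (g ^ i * c * (g ^ i)⁻¹) * g⁻¹ := by
              rw [pow_succ']; group
          _ = (g * c * g⁻¹) ^ (r ^ i) := by rw [ih, conj_zpow]
          _ = _ := by rw [← hr, ← zpow_mul, pow_succ']
    have hos : orderOf c = s := orderOf_eq_prime h1 hc1
    have e1 : c ^ (r ^ (q ^ k)) = c ^ (1 : ℤ) := by
      rw [← iter, ← hord, pow_orderOf_eq_one]; group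
    rw [zpow_eq_zpow_iff_modEq, hos, ← ZMod.intCast_eq_intCast_iff, Int.cast_pow, Int.cast_one] at e1
    have hr0 : (r : ZMod s) ≠ 0 := by
      intro h0
      rw [h0, zero_pow (pow_ne_zero _ hq.ne_zero)] at e1
      exact zero_ne_one e1
    have hcop : Nat.Coprime (q ^ k) (s - 1) := by
      rcases Nat.eq_zero_or_pos k with rfl | hk
      · exact Nat.coprime_one_left _
      refine Nat.Coprime.pow_left k (hq.coprime_iff_not_dvd.mpr fun hd => ?_)
      have hqG : q ∣ Nat.card G := (dvd_pow_self q hk.ne').trans (hord ▸ orderOf_dvd_natCard g)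
      have := Nat.le_of_dvd (by have := hs.two_le; omega) hd
      have := hmin q hq hqG
      omega
    have hr1 : (r : ZMod s) = 1 := by
      rw [← orderOf_eq_one_iff]
      exact Nat.eq_one_of_dvd_coprimes hcop (orderOf_dvd_of_pow_eq_one e1)
        (orderOf_dvd_of_pow_eq_one (ZMod.pow_card_sub_one_eq_one hr0))
    have : g * c * g⁻¹ = c := by
      rw [← hr]
      conv_rhs => rw [← zpow_one c]
      rw [zpow_eq_zpow_iff_modEq, hos, ← ZMod.intCast_eq_intCast_iff, Int.cast_one]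
      exact hr1
    exact mul_inv_eq_iff_eq_mul.mp this
  exact (commute_of_fixed_commutator hq hs hqs ⟨k, hord⟩ h1 hcomm).eq

/-- The linear algebra core: a minimal normal elementary abelian `q`-subgroup with supersolvable
quotient has order `q`. -/
theorem card_minimal_normal {G : Type*} [Group G] [Finite G] (h : Hyp G) {q : ℕ} [Fact q.Prime]
    (M : Subgroup G) [hMn : M.Normal] (hab : IsMulCommutative ↥M) (hexp : ∀ v ∈ M, v ^ q = 1)
    (hne : M ≠ ⊥) (hmin : ∀ N : Subgroup G, N.Normal → N ≤ M → N = ⊥ ∨ N = M)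
    (hsuper : Cfsg.IsSupersolvable (G ⧸ M)) : Nat.card M = q := by
  classical
  have hq : q.Prime := Fact.out
  have hcomm : ∀ u ∈ M, ∀ v ∈ M, Commute u v := fun u hu v hv =>
    congrArg Subtype.val (hab.is_comm.comm (⟨u, hu⟩ : M) ⟨v, hv⟩)
  obtain ⟨v₀, hv₀, hv₀1⟩ := (M.bot_or_exists_ne_one).resolve_left hne
  have hzeq : ∀ v ∈ M, v ≠ 1 → ∀ a b : ℤ, v ^ a = v ^ b ↔ (a : ZMod q) = b := fun v hv hv1 a b => by
    rw [zpow_eq_zpow_iff_modEq, orderOf_eq_prime (hexp v hv) hv1, ZMod.intCast_eq_intCast_iff]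
  have hfaith : ∀ v ∈ M, ∀ a b : ℤ, (a : ZMod q) = b → v ^ a = v ^ b := fun v hv a b hh => by
    rcases eq_or_ne v 1 with rfl | h1
    · simp
    · exact (hzeq v hv h1 a b).mpr hh
  have hconjM : ∀ g, ∀ v ∈ M, g * v * g⁻¹ ∈ M := fun g v hv => hMn.conj_mem v hv g
  have conj2 : ∀ g g' v : G, g * g' * v * (g * g')⁻¹ = g * (g' * v * g'⁻¹) * g⁻¹ := fun g g' v => by group
  have pow_scal : ∀ (g v : G) (r : ℤ), g * v * g⁻¹ = v ^ r → ∀ i : ℕ, g ^ i * v * (g ^ i)⁻¹ = v ^ (r ^ i) := by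
    intro g v r hgv i
    induction i with
    | zero => simp
    | succ i ih => rw [pow_succ', conj2, ih, ← conj_zpow, hgv, ← zpow_mul, pow_succ']
  -- the group `Z` of elements acting as scalars
  let Z : Subgroup G :=
    { carrier := {g | ∃ r : ℤ, ∀ v ∈ M, g * v * g⁻¹ = v ^ r}
      one_mem' := ⟨1, fun v _ => by simp⟩
      mul_mem' := fun {g g'} ⟨r, hr⟩ ⟨r', hr'⟩ => ⟨r * r', fun v hv => by
        rw [conj2, hr' v hv, ← conj_zpow, hr v hv, ← zpow_mul]⟩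
      inv_mem' := fun {g} ⟨r, hr⟩ => by
        obtain ⟨k, hk⟩ : ∃ k : ℕ, g ^ k = g⁻¹ := ⟨orderOf g - 1, eq_inv_of_mul_eq_one_left (by
          rw [← pow_succ, Nat.sub_add_cancel (orderOf_pos g), pow_orderOf_eq_one])⟩
        exact ⟨r ^ k, fun v hv => by rw [← hk]; exact pow_scal g v r (hr v hv) k⟩ }
  have hMZ : M ≤ Z := fun g hg => ⟨1, fun v hv => by rw [zpow_one, (hcomm g hg v hv).eq, mul_inv_cancel_right]⟩
  have hZn : Z.Normal := ⟨fun z ⟨r, hr⟩ g => ⟨r, fun v hv => by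
    have hw : g⁻¹ * v * g ∈ M := by simpa using hconjM g⁻¹ v hv
    calc g * z * g⁻¹ * v * (g * z * g⁻¹)⁻¹ = g * (z * (g⁻¹ * v * g) * z⁻¹) * g⁻¹ := by group
      _ = (g * (g⁻¹ * v * g) * g⁻¹) ^ r := by rw [hr _ hw, conj_zpow]
      _ = v ^ r := by group⟩⟩
  -- subgroups of `M` stable under all of `G`
  have hstab : ∀ E : Subgroup G, E ≤ M → E ≠ ⊥ → (∀ g : G, ∀ v ∈ E, g * v * g⁻¹ ∈ E) → E = M :=
    fun E hE hE1 hg => (hmin E ⟨fun v hv g => hg g v hv⟩ hE).resolve_left hE1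
  by_cases hZ : Z = ⊤
  · have : zpowers v₀ = M := hstab _ (zpowers_le.mpr hv₀) (by rwa [ne_eq, zpowers_eq_bot])
      fun g v hv => by
        obtain ⟨r, hr⟩ : g ∈ Z := hZ ▸ mem_top g
        rw [hr v (zpowers_le.mpr hv₀ hv)]
        exact zpow_mem hv r
    rw [← this, Nat.card_zpowers, orderOf_eq_prime (hexp v₀ hv₀) hv₀1]
  exfalso
  -- a chief factor `L / Z`
  have hGZ : Cfsg.IsSupersolvable (G ⧸ Z) := Supersolvable.of_surjective hsuper
    (QuotientGroup.map M Z (MonoidHom.id G) hMZ) (fun y => by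
      obtain ⟨g, rfl⟩ := QuotientGroup.mk_surjective y
      exact ⟨QuotientGroup.mk g, rfl⟩)
  have : Nontrivial (G ⧸ Z) := by
    obtain ⟨g, -, hg⟩ := SetLike.exists_of_lt (lt_top_iff_ne_top.mpr hZ)
    exact ⟨QuotientGroup.mk g, 1, fun he => hg ((QuotientGroup.eq_one_iff g).mp he)⟩
  obtain ⟨L, hLn, hLp⟩ := Supersolvable.exists_prime_normal hGZ
  set p := Nat.card L with hpdef
  have := Fact.mk hLp
  obtain ⟨⟨lb, hlb⟩, hlo⟩ := exists_prime_orderOf_dvd_card' (G := L) p dvd_rfl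
  obtain ⟨g₀, rfl⟩ := QuotientGroup.mk_surjective lb
  rw [Subgroup.orderOf_mk] at hlo
  have hg₀ : g₀ ∉ Z := fun hh => hLp.ne_one (by
    rw [← hlo, (QuotientGroup.eq_one_iff g₀).mpr hh, orderOf_one])
  have hg₀p : g₀ ^ p ∈ Z := by
    rw [← QuotientGroup.eq_one_iff, QuotientGroup.mk_pow, ← hlo, pow_orderOf_eq_one]
  have hgen : ∀ (g₁ : G), g₁ ∉ Z → (QuotientGroup.mk g₁ : G ⧸ Z) ∈ L → ∀ g : G,
      ∃ (j : ℕ) (z : G), z ∈ Z ∧ g * g₁ * g⁻¹ = g₁ ^ j * z := by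
    intro g₁ hg₁ hg₁L g
    have hgL := hLn.conj_mem _ hg₁L (g : G ⧸ Z)
    have hne1 : (⟨_, hg₁L⟩ : L) ≠ 1 := fun hh => hg₁ ((QuotientGroup.eq_one_iff g₁).mp
      (congrArg Subtype.val hh))
    obtain ⟨j, hj⟩ := (mem_powers_iff_mem_zpowers.mpr
      (mem_zpowers_of_prime_card hpdef.symm hne1 (g' := (⟨_, hgL⟩ : L))) :
      (⟨_, hgL⟩ : L) ∈ Submonoid.powers (⟨_, hg₁L⟩ : L))
    refine ⟨j, (g₁ ^ j)⁻¹ * (g * g₁ * g⁻¹), ?_, by group⟩
    rw [← QuotientGroup.eq_one_iff, QuotientGroup.mk_mul, QuotientGroup.mk_inv, QuotientGroup.mk_pow,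
      QuotientGroup.mk_mul, QuotientGroup.mk_mul, QuotientGroup.mk_inv, inv_mul_eq_one]
    exact congrArg Subtype.val hj
  -- scalars of elements of `Z`, as `q`-th roots
  have hqm1 : ∀ (g : G) (r : ℤ), (∀ v ∈ M, g * v * g⁻¹ = v ^ r) → (r : ZMod q) ≠ 0 := by
    intro g r hr h0
    have := hr v₀ hv₀
    rw [hfaith v₀ hv₀ r 0 (by rw [h0, Int.cast_zero]), zpow_zero, conj_eq_one_iff] at this
    exact hv₀1 this
  let φ : G → (↥M →* ↥M) := fun g =>
    { toFun := fun v => ⟨g * (v : G) * g⁻¹, hconjM g _ v.2⟩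
      map_one' := Subtype.ext (by simp)
      map_mul' := fun u v => Subtype.ext (by simp) }
  by_cases hpq : p = q
  · -- `p = q`
    set g₁ := g₀ ^ (q - 1) with hg₁
    have hq1 : 1 ≤ q - 1 := by have := hq.two_le; omega
    have hcop : Nat.Coprime (q - 1) q :=
      (hq.coprime_iff_not_dvd.mpr (Nat.not_dvd_of_pos_of_lt (by omega) (by omega))).symm
    have hg₁Z : g₁ ∉ Z := fun hh => hg₀ (by
      have e := Nat.gcd_eq_gcd_ab (q - 1) q
      rw [hcop.gcd_eq_one, Nat.cast_one] at e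
      rw [← zpow_one g₀, e, zpow_add, zpow_mul, zpow_mul, zpow_natCast, zpow_natCast]
      exact Z.mul_mem (Z.zpow_mem hh _) (Z.zpow_mem (hpq ▸ hg₀p) _))
    have hg₁q : ∀ v ∈ M, g₁ ^ q * v * (g₁ ^ q)⁻¹ = v := by
      intro v hv
      obtain ⟨r, hr⟩ : g₀ ^ q ∈ Z := hpq ▸ hg₀p
      rw [hg₁, ← pow_mul, mul_comm, pow_mul, pow_scal _ v r (hr v hv) (q - 1)]
      conv_rhs => rw [← zpow_one v]
      exact hfaith v hv _ _ (by rw [Int.cast_pow, Int.cast_one, ZMod.pow_card_sub_one_eq_one (hqm1 _ r hr)])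
    -- a fixed point
    set E := M ⊓ centralizer ({g₁} : Set G) with hE
    have hE1 : E ≠ ⊥ := by
      have hP : IsPGroup q ↥M := fun v => ⟨1, Subtype.ext (by rw [pow_one]; exact hexp v v.2)⟩
      set H := M ⊔ zpowers g₁
      obtain ⟨k, hk1, hk2⟩ := exists_p_lift (N := centralizer (M : Set G)) hq g₁ ⟨1, fun v hv => by
        rw [pow_one]; exact (mul_inv_eq_iff_eq_mul.mp (hg₁q v hv)).symm⟩
      obtain ⟨a, ha⟩ := hk1
      have hgk : IsPGroup q ↥(zpowers (g₁ ^ k)) := IsPGroup.of_card (n := a) (by rw [Nat.card_zpowers, ha])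
      have hH : IsPGroup q ↥(M ⊔ zpowers (g₁ ^ k) : Subgroup G) := hP.to_sup_of_normal_left hgk
      have hnM : (M.subgroupOf (M ⊔ zpowers (g₁ ^ k))).Normal := inferInstance
      obtain ⟨z, hzM, hzc, hzo⟩ := PGroup.exists_orderOf_eq_mem_center hH (M.subgroupOf _) (by
        rw [ne_eq, Subgroup.subgroupOf_eq_bot, disjoint_iff, inf_eq_left.mpr le_sup_left]; exact hne)
      intro hh
      have hzE : (z : G) ∈ E := by
        refine ⟨hzM, mem_centralizer_singleton_iff.mpr ?_⟩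
        have h1 : Commute (g₁ ^ k) (z : G) :=
          congrArg Subtype.val (mem_center_iff.mp hzc ⟨g₁ ^ k, mem_sup_right (mem_zpowers _)⟩)
        have hd : (g₁ ^ k)⁻¹ * g₁ ∈ centralizer (M : Set G) := QuotientGroup.eq.mp hk2
        have h2 : Commute ((g₁ ^ k)⁻¹ * g₁) (z : G) := (hd (z : G) hzM).symm
        have h3 := h1.mul_left h2
        rw [mul_inv_cancel_left] at h3
        exact h3.eq.symm
      rw [hh, mem_bot] at hzE
      rw [← orderOf_coe, hzE, orderOf_one] at hzo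
      exact hq.ne_one hzo.symm
    have hEM : E = M := hstab E inf_le_left hE1 fun g v hv => by
      refine ⟨hconjM g v hv.1, mem_centralizer_singleton_iff.mpr ?_⟩
      have hg₁L : (QuotientGroup.mk g₁ : G ⧸ Z) ∈ L := by rw [hg₁, QuotientGroup.mk_pow]; exact L.pow_mem hlb _
      obtain ⟨j, z, ⟨s, hs⟩, hjz⟩ := hgen g₁ hg₁Z hg₁L g⁻¹
      have hv' : g₁ * v * g₁⁻¹ = v :=
        mul_inv_eq_iff_eq_mul.mpr (mem_centralizer_singleton_iff.mp hv.2).symm
      have hjv : g₁ ^ j * v * (g₁ ^ j)⁻¹ = v := by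
        have := pow_scal g₁ v 1 (by rw [zpow_one]; exact hv') j
        rwa [one_pow, zpow_one] at this
      have hone : ∀ i : ℕ, (g⁻¹ * g₁ * g⁻¹⁻¹) ^ i * v * ((g⁻¹ * g₁ * g⁻¹⁻¹) ^ i)⁻¹ = v ^ (s ^ i) := by
        refine pow_scal _ v s ?_
        rw [hjz, conj2, hs v hv.1, ← conj_zpow, hjv]
      rcases eq_or_ne v 1 with rfl | hv1
      · group
      have hs1 : (s : ZMod q) = 1 := by
        have h1 := hone q
        have h2 : (g⁻¹ * g₁ * g⁻¹⁻¹) ^ q * v * ((g⁻¹ * g₁ * g⁻¹⁻¹) ^ q)⁻¹ = v ^ (1 : ℤ) := by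
          rw [conj_pow, conj2, conj2, hg₁q _ (hconjM _ v hv.1)]
          group
        rw [h2, hzeq v hv.1 hv1, Int.cast_one, Int.cast_pow, ZMod.pow_card] at h1
        exact h1.symm
      have h1 := hone 1
      rw [pow_one, pow_one, hfaith v hv.1 s 1 (by rw [hs1, Int.cast_one]), zpow_one] at h1
      have : g₁ * (g * v * g⁻¹) * g₁⁻¹ = g * v * g⁻¹ := by
        calc g₁ * (g * v * g⁻¹) * g₁⁻¹
            = g * ((g⁻¹ * g₁ * g⁻¹⁻¹) * v * (g⁻¹ * g₁ * g⁻¹⁻¹)⁻¹) * g⁻¹ := by group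
          _ = _ := by rw [h1]
      exact (mul_inv_eq_iff_eq_mul.mp this).symm
    refine hg₁Z ⟨1, fun v hv => ?_⟩
    rw [zpow_one]
    exact mul_inv_eq_iff_eq_mul.mpr (mem_centralizer_singleton_iff.mp (hEM.symm ▸ hv : v ∈ E).2).symm
  · -- `p ≠ q`
    -- every element with a `p`-power action satisfies a quadratic relation
    have rel : ∀ g : G, (∃ a : ℕ, ∀ v ∈ M, g ^ (p ^ a) * v * (g ^ (p ^ a))⁻¹ = v) →
        ∀ v ∈ M, g * (v * (g * v⁻¹ * g⁻¹)) * g⁻¹ ∈ zpowers (v * (g * v⁻¹ * g⁻¹)) ∧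
          (g * (v * (g * v⁻¹ * g⁻¹)) * g⁻¹ = v * (g * v⁻¹ * g⁻¹) → g * v * g⁻¹ = v) := by
      intro g ⟨a, ha⟩ v hv
      obtain ⟨k, hk1, hk2⟩ := exists_p_lift (N := centralizer (M : Set G)) hLp g
        ⟨a, fun w hw => (mul_inv_eq_iff_eq_mul.mp (ha w hw)).symm⟩
      set x := g ^ k
      have hd : x⁻¹ * g ∈ centralizer (M : Set G) := QuotientGroup.eq.mp hk2
      have hxg : ∀ w ∈ M, g * w * g⁻¹ = x * w * x⁻¹ := fun w hw => by
        have h1 : x⁻¹ * g * w * (x⁻¹ * g)⁻¹ = w := mul_inv_eq_iff_eq_mul.mpr (hd w hw).symm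
        calc g * w * g⁻¹ = x * (x⁻¹ * g * w * (x⁻¹ * g)⁻¹) * x⁻¹ := by group
          _ = _ := by rw [h1]
      have hP : IsPGroup q ↥M := fun w => ⟨1, Subtype.ext (by rw [pow_one]; exact hexp w w.2)⟩
      have hxN : x ∈ normalizer (M : Set G) := by
        rw [normalizer_eq_top_iff.mpr hMn]; trivial
      obtain ⟨c1, c2⟩ := commutator_eigen h hLp hq hpq hk1 hP hxN hv
      have hcM : v * (x * v⁻¹ * x⁻¹) ∈ M := M.mul_mem hv (hconjM x _ (M.inv_mem hv))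
      have e : v * x * v⁻¹ * x⁻¹ = v * (x * v⁻¹ * x⁻¹) := by group
      rw [e] at c1 c2
      rw [hxg _ (M.inv_mem hv), hxg _ hcM, hxg v hv]
      refine ⟨c2, fun he => mul_inv_eq_iff_eq_mul.mpr (Commute.symm ?_).eq⟩
      refine commute_of_fixed_commutator hLp hq hpq hk1 (by rw [e]; exact c1) ?_
      rw [e]
      exact mul_inv_eq_iff_eq_mul.mp he
    -- an element of `p`-power action outside `Z`
    obtain ⟨a, b, hb, hb'⟩ := Nat.exists_eq_pow_mul_and_not_dvd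
      (show q - 1 ≠ 0 by have := hq.two_le; omega) p hLp.ne_one
    set g₁ := g₀ ^ b with hg₁
    have hg₁Z : g₁ ∉ Z := fun hh => hg₀ (by
      have hcop : Nat.Coprime b p := (hLp.coprime_iff_not_dvd.mpr hb).symm
      have e := Nat.gcd_eq_gcd_ab b p
      rw [hcop.gcd_eq_one, Nat.cast_one] at e
      rw [← zpow_one g₀, e, zpow_add, zpow_mul, zpow_mul, zpow_natCast, zpow_natCast]
      exact Z.mul_mem (Z.zpow_mem hh _) (Z.zpow_mem hg₀p _))
    have hg₁L : (QuotientGroup.mk g₁ : G ⧸ Z) ∈ L := by rw [hg₁, QuotientGroup.mk_pow]; exact L.pow_mem hlb _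
    have hg₁pow : ∀ v ∈ M, g₁ ^ (p ^ (a + 1)) * v * (g₁ ^ (p ^ (a + 1)))⁻¹ = v := by
      intro v hv
      obtain ⟨r, hr⟩ := hg₀p
      rw [hg₁, ← pow_mul, show b * p ^ (a + 1) = p * (q - 1) by rw [hb']; ring, pow_mul,
        pow_scal _ v r (hr v hv) (q - 1)]
      conv_rhs => rw [← zpow_one v]
      exact hfaith v hv _ _ (by rw [Int.cast_pow, Int.cast_one, ZMod.pow_card_sub_one_eq_one (hqm1 _ r hr)])
    let d : ↥M →* ↥M :=
      { toFun := fun v => v * (φ g₁ v⁻¹)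
        map_one' := by simp
        map_mul' := fun u v => by
          have hc : ∀ u v : ↥M, u * v = v * u := hab.is_comm.comm
          rw [mul_inv_rev, map_mul, hc (φ g₁ v⁻¹), mul_assoc u, mul_assoc u, ← mul_assoc v,
            hc v (φ g₁ u⁻¹), mul_assoc] }
    set E1 := d.ker.map M.subtype with hE1def
    set E2 := d.range.map M.subtype with hE2def
    have hE1M : E1 ≤ M := map_subtype_le _
    have hE2M : E2 ≤ M := map_subtype_le _
    have memE1 : ∀ v ∈ M, v ∈ E1 ↔ g₁ * v * g₁⁻¹ = v := by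
      intro v hv
      constructor
      · rintro ⟨w, hw, rfl⟩
        have h1 : (w : G) * (g₁ * (w : G)⁻¹ * g₁⁻¹) = 1 := congrArg Subtype.val (show d w = 1 from hw)
        rw [← conj_inv, mul_inv_eq_one] at h1
        exact h1.symm
      · intro h1
        refine ⟨⟨v, hv⟩, Subtype.ext ?_, rfl⟩
        show v * (g₁ * v⁻¹ * g₁⁻¹) = 1
        rw [← conj_inv, h1, mul_inv_cancel]
    have hrel1 : ∀ c ∈ E2, g₁ * c * g₁⁻¹ ∈ zpowers c := by
      rintro _ ⟨_, ⟨w, rfl⟩, rfl⟩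
      exact (rel g₁ ⟨a + 1, hg₁pow⟩ w w.2).1
    have hdisj : ∀ c ∈ E2, g₁ * c * g₁⁻¹ = c → c = 1 := by
      rintro _ ⟨_, ⟨w, rfl⟩, rfl⟩ hc
      have h1 := (rel g₁ ⟨a + 1, hg₁pow⟩ w w.2).2 hc
      show (w : G) * (g₁ * (w : G)⁻¹ * g₁⁻¹) = 1
      rw [← conj_inv, h1, mul_inv_cancel]
    -- one eigenvalue on `E2`
    have hscal : ∃ r : ℤ, ∀ c ∈ E2, g₁ * c * g₁⁻¹ = c ^ r := by
      by_cases hb2 : E2 = ⊥
      · exact ⟨1, fun c hc => by rw [hb2, mem_bot] at hc; subst hc; simp⟩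
      obtain ⟨c₀, hc₀, hc₀1⟩ := (E2.bot_or_exists_ne_one).resolve_left hb2
      obtain ⟨r, hr⟩ := mem_zpowers_iff.mp (hrel1 c₀ hc₀)
      refine ⟨r, fun c hc => ?_⟩
      obtain ⟨s, hs⟩ := mem_zpowers_iff.mp (hrel1 c hc)
      by_cases hcc : c ∈ zpowers c₀
      · obtain ⟨i, rfl⟩ := mem_zpowers_iff.mp hcc
        rw [← conj_zpow, ← hr, ← zpow_mul, ← zpow_mul, mul_comm]
      obtain ⟨u, hu⟩ := mem_zpowers_iff.mp (hrel1 _ (E2.mul_mem hc₀ hc))
      have hcm := hcomm c₀ (hE2M hc₀) c (hE2M hc)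
      have hc1 : c ≠ 1 := fun hh => hcc (hh ▸ one_mem _)
      have e : c₀ ^ r * c ^ s = c₀ ^ u * c ^ u := by
        rw [← hcm.mul_zpow, hu, hr, hs]; group
      have e2 : c₀ ^ (r - u) = c ^ (u - s) := by
        rw [zpow_sub, zpow_sub]
        calc c₀ ^ r * (c₀ ^ u)⁻¹ = (c₀ ^ u)⁻¹ * (c₀ ^ r * c ^ s) * (c ^ s)⁻¹ := by
              rw [mul_assoc, mul_assoc, mul_inv_cancel, mul_one]
              exact (((Commute.refl c₀).zpow_zpow r u).inv_right).eq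
          _ = _ := by rw [e]; group
      have hus : ((u - s : ℤ) : ZMod q) = 0 := by
        by_contra hne0
        apply hcc
        set t : ZMod q := ((u - s : ℤ) : ZMod q)⁻¹
        have : c = (c ^ (u - s)) ^ ((t.val : ℤ)) := by
          rw [← zpow_mul]
          conv_lhs => rw [← zpow_one c]
          refine hfaith c (hE2M hc) _ _ ?_
          rw [Int.cast_one, Int.cast_mul, Int.cast_natCast, ZMod.natCast_zmod_val, mul_inv_cancel₀ hne0]
        rw [this, ← e2, ← zpow_mul]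
        exact zpow_mem (mem_zpowers c₀) _
      have hru : ((r - u : ℤ) : ZMod q) = 0 := by
        have : c₀ ^ (r - u) = c₀ ^ (0 : ℤ) := by
          rw [e2, hfaith c (hE2M hc) _ 0 (by rw [hus, Int.cast_zero]), zpow_zero, zpow_zero]
        rw [hzeq c₀ (hE2M hc₀) hc₀1, Int.cast_zero] at this
        exact this
      rw [← hs]
      refine hfaith c (hE2M hc) _ _ ?_
      rw [Int.cast_sub, sub_eq_zero] at hus hru
      rw [← hus, hru]
    obtain ⟨r, hr⟩ := hscal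
    have hinf : ∀ v, v ∈ E1 → v ∈ E2 → v = 1 := fun v h1 h2 =>
      hdisj v h2 ((memE1 v (hE1M h1)).mp h1)
    have hdec : ∀ v ∈ M, ∃ e₁ ∈ E1, ∃ e₂ ∈ E2, v = e₁ * e₂ := by
      intro v hv
      have hinj : Function.Injective (fun w : ↥(d.ker) × ↥(d.range) => (w.1 : ↥M) * (w.2 : ↥M)) := by
        rintro ⟨a1, b1⟩ ⟨a2, b2⟩ (he : (a1 : ↥M) * (b1 : ↥M) = (a2 : ↥M) * (b2 : ↥M))
        have h1 : (a2 : ↥M)⁻¹ * a1 = b2 * (b1 : ↥M)⁻¹ := by
          rw [inv_mul_eq_iff_eq_mul, ← mul_assoc, ← he, mul_inv_cancel_right]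
        have hm1 : ((a2 : ↥M)⁻¹ * a1 : ↥M) ∈ d.ker := mul_mem (inv_mem a2.2) a1.2
        have hm2 : ((a2 : ↥M)⁻¹ * a1 : ↥M) ∈ d.range := h1 ▸ mul_mem b2.2 (inv_mem b1.2)
        have h2 : ((a2 : ↥M)⁻¹ * a1 : ↥M) = 1 := Subtype.ext (hinf _ ⟨_, hm1, rfl⟩ ⟨_, hm2, rfl⟩)
        have ha : a1 = a2 := Subtype.ext (inv_mul_eq_one.mp h2).symm
        subst ha
        exact Prod.ext rfl (Subtype.ext (mul_left_cancel he))
      have hcard : Nat.card (↥(d.ker) × ↥(d.range)) = Nat.card ↥M := by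
        rw [Nat.card_prod, ← Subgroup.index_ker, Subgroup.card_mul_index]
      obtain ⟨⟨w1, w2⟩, hw⟩ := ((Nat.bijective_iff_injective_and_card _).mpr ⟨hinj, hcard⟩).2 ⟨v, hv⟩
      exact ⟨_, ⟨_, w1.2, rfl⟩, _, ⟨_, w2.2, rfl⟩, (congrArg Subtype.val hw).symm⟩
    have hE2ne : E2 ≠ ⊥ := fun hb2 => hg₁Z ⟨1, fun v hv => by
      obtain ⟨e₁, he₁, e₂, he₂, rfl⟩ := hdec v hv
      rw [hb2, mem_bot] at he₂
      subst he₂
      rw [mul_one, zpow_one]
      exact (memE1 e₁ (hE1M he₁)).mp he₁⟩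
    have hE1ne : E1 ≠ ⊥ := fun hb1 => hg₁Z ⟨r, fun v hv => by
      obtain ⟨e₁, he₁, e₂, he₂, rfl⟩ := hdec v hv
      rw [hb1, mem_bot] at he₁
      subst he₁
      rw [one_mul]
      exact hr e₂ he₂⟩
    obtain ⟨y, hy, hy1⟩ := (E2.bot_or_exists_ne_one).resolve_left hE2ne
    have hr1 : (r : ZMod q) ≠ 1 := fun hh => hy1 (hdisj y hy (by
      rw [hr y hy, hfaith y (hE2M hy) r 1 (by rw [hh, Int.cast_one]), zpow_one]))
    -- `g` permutes the two eigenspaces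
    have himg : ∀ (g : G) (e : G), e ∈ E1 ∨ e ∈ E2 → g * e * g⁻¹ ∈ E1 ∨ g * e * g⁻¹ ∈ E2 := by
      intro g e he
      obtain ⟨j, z, ⟨s, hs⟩, hjz⟩ := hgen g₁ hg₁Z hg₁L g
      have heM : e ∈ M := he.elim (fun x => hE1M x) (fun x => hE2M x)
      set v := g * e * g⁻¹ with hv
      have hvM : v ∈ M := hconjM g e heM
      obtain ⟨t, ht⟩ : ∃ t : ℤ, g₁ * e * g₁⁻¹ = e ^ t := by
        rcases he with h1 | h2
        · exact ⟨1, by rw [zpow_one]; exact (memE1 e heM).mp h1⟩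
        · exact ⟨r, hr e h2⟩
      have hz0 := hqm1 z s hs
      set si : ℤ := (((s : ZMod q)⁻¹).val : ℤ)
      -- `g₁ ^ j` acts on `v` as a scalar
      have h1 : g₁ ^ j * v * (g₁ ^ j)⁻¹ = v ^ (t * si) := by
        have h2 : (g * g₁ * g⁻¹) * v * (g * g₁ * g⁻¹)⁻¹ = v ^ t := by
          rw [hv, conj2, show g⁻¹ * (g * e * g⁻¹) * g⁻¹⁻¹ = e by group, conj2, ht, conj_zpow]
        rw [hjz, conj2, hs v hvM, ← conj_zpow] at h2
        calc g₁ ^ j * v * (g₁ ^ j)⁻¹ = (g₁ ^ j * v * (g₁ ^ j)⁻¹) ^ (s * si) := by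
              conv_lhs => rw [← zpow_one (g₁ ^ j * v * (g₁ ^ j)⁻¹)]
              refine hfaith _ (hconjM _ v hvM) _ _ ?_
              rw [Int.cast_one, Int.cast_mul, Int.cast_natCast, ZMod.natCast_zmod_val, mul_inv_cancel₀ hz0]
          _ = _ := by rw [zpow_mul, h2, ← zpow_mul]
      obtain ⟨e₁, he₁, e₂, he₂, hve⟩ := hdec v hvM
      have hj1 : g₁ ^ j * e₁ * (g₁ ^ j)⁻¹ = e₁ := by
        have := pow_scal g₁ e₁ 1 (by rw [zpow_one]; exact (memE1 e₁ (hE1M he₁)).mp he₁) j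
        rwa [one_pow, zpow_one] at this
      have hj2 := pow_scal g₁ e₂ r (hr e₂ he₂) j
      rw [hve, show g₁ ^ j * (e₁ * e₂) * (g₁ ^ j)⁻¹ = (g₁ ^ j * e₁ * (g₁ ^ j)⁻¹) * (g₁ ^ j * e₂ * (g₁ ^ j)⁻¹) by group,
        hj1, hj2, (hcomm _ (hE1M he₁) _ (hE2M he₂)).mul_zpow] at h1
      have h3 : e₁ ^ (1 - t * si) = 1 ∧ e₂ ^ (r ^ j - t * si) = 1 := by
        have h4 : (e₁ ^ (t * si))⁻¹ * e₁ = e₂ ^ (t * si) * (e₂ ^ (r ^ j))⁻¹ := by
          rw [inv_mul_eq_iff_eq_mul, ← mul_assoc, ← h1, mul_inv_cancel_right]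
        have hz1 : (e₁ ^ (t * si))⁻¹ * e₁ = 1 := hinf _ (E1.mul_mem (E1.inv_mem (E1.zpow_mem he₁ _)) he₁)
          (by rw [h4]; exact E2.mul_mem (E2.zpow_mem he₂ _) (E2.inv_mem (E2.zpow_mem he₂ _)))
        rw [hz1, eq_comm, mul_inv_eq_one] at h4
        refine ⟨?_, ?_⟩
        · rw [zpow_sub, zpow_one, mul_inv_eq_one]; exact (inv_mul_eq_one.mp hz1).symm
        · rw [zpow_sub, mul_inv_eq_one]; exact h4.symm
      by_cases hcase : e₂ = 1
      · left; rw [hve, hcase, mul_one]; exact he₁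
      · right
        have : e₁ = 1 := by
          by_contra he11
          have h5 : e₁ ^ (1 - t * si) = e₁ ^ (0 : ℤ) := by rw [h3.1, zpow_zero]
          have h6 : e₂ ^ (r ^ j - t * si) = e₂ ^ (0 : ℤ) := by rw [h3.2, zpow_zero]
          rw [hzeq _ (hE1M he₁) he11, Int.cast_sub, Int.cast_zero, Int.cast_one, sub_eq_zero] at h5
          rw [hzeq _ (hE2M he₂) hcase, Int.cast_sub, Int.cast_zero, sub_eq_zero, ← h5] at h6
          have hjf : ∀ w ∈ M, g₁ ^ j * w * (g₁ ^ j)⁻¹ = w := fun w hw => by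
            obtain ⟨f₁, hf₁, f₂, hf₂, rfl⟩ := hdec w hw
            have k1 : g₁ ^ j * f₁ * (g₁ ^ j)⁻¹ = f₁ := by
              have := pow_scal g₁ f₁ 1 (by rw [zpow_one]; exact (memE1 f₁ (hE1M hf₁)).mp hf₁) j
              rwa [one_pow, zpow_one] at this
            have k2 : g₁ ^ j * f₂ * (g₁ ^ j)⁻¹ = f₂ := by
              rw [pow_scal g₁ f₂ r (hr f₂ hf₂) j, hfaith f₂ (hE2M hf₂) _ 1 (by rw [h6, Int.cast_one]), zpow_one]
            calc g₁ ^ j * (f₁ * f₂) * (g₁ ^ j)⁻¹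
                = (g₁ ^ j * f₁ * (g₁ ^ j)⁻¹) * (g₁ ^ j * f₂ * (g₁ ^ j)⁻¹) := by group
              _ = f₁ * f₂ := by rw [k1, k2]
          have hjZ : g₁ ^ j * z ∈ Z := Z.mul_mem ⟨1, fun w hw => by rw [zpow_one]; exact hjf w hw⟩ ⟨s, hs⟩
          have := hZn.conj_mem _ (hjz ▸ hjZ : g * g₁ * g⁻¹ ∈ Z) g⁻¹
          rw [show g⁻¹ * (g * g₁ * g⁻¹) * g⁻¹⁻¹ = g₁ by group] at this
          exact hg₁Z this
        rw [hve, this, one_mul]; exact he₂
    have himg' : ∀ (g : G) (A : Subgroup G), A = E1 ∨ A = E2 → (∀ e ∈ A, g * e * g⁻¹ ∈ E1) ∨ (∀ e ∈ A, g * e * g⁻¹ ∈ E2) := by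
      intro g A hA
      have hsub : A.map (MulAut.conj g).toMonoidHom ≤ E1 ∨ A.map (MulAut.conj g).toMonoidHom ≤ E2 := by
        by_contra hcon
        rw [not_or, SetLike.not_le_iff_exists, SetLike.not_le_iff_exists] at hcon
        obtain ⟨⟨u, hu, hu1⟩, ⟨w, hw, hw2⟩⟩ := hcon
        have hmem : ∀ x ∈ A.map (MulAut.conj g).toMonoidHom, x ∈ E1 ∨ x ∈ E2 := by
          rintro _ ⟨e, he, rfl⟩
          exact himg g e (hA.elim (fun h => Or.inl (h ▸ he)) (fun h => Or.inr (h ▸ he)))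
        rcases hmem _ (mul_mem hu hw) with h1 | h2
        · exact hu1 ((Subgroup.mul_mem_cancel_right E1 ((hmem w hw).resolve_right hw2)).mp h1)
        · exact hw2 ((Subgroup.mul_mem_cancel_left E2 ((hmem u hu).resolve_left hu1)).mp h2)
      rcases hsub with h1 | h1
      · exact Or.inl fun e he => h1 ⟨e, he, rfl⟩
      · exact Or.inr fun e he => h1 ⟨e, he, rfl⟩
    -- some element swaps them
    have hswap : ∃ g : G, (∀ e ∈ E1, g * e * g⁻¹ ∈ E2) ∧ (∀ e ∈ E2, g * e * g⁻¹ ∈ E1) := by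
      by_contra hcon
      have hno : ∀ g : G, ∀ e ∈ E1, g * e * g⁻¹ ∈ E1 := by
        intro g
        rcases himg' g E1 (Or.inl rfl) with h1 | h1
        · exact h1
        · exfalso
          rcases himg' g E2 (Or.inr rfl) with h2 | h2
          · exact hcon ⟨g, h1, h2⟩
          · obtain ⟨x1, hx1, hx11⟩ := (E1.bot_or_exists_ne_one).resolve_left hE1ne
            have hw : g⁻¹ * x1 * g ∈ M := by simpa using hconjM g⁻¹ x1 (hE1M hx1)
            obtain ⟨e₁, he₁, e₂, he₂, he⟩ := hdec _ hw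
            refine hx11 (hinf x1 hx1 ?_)
            rw [show x1 = (g * e₁ * g⁻¹) * (g * e₂ * g⁻¹) by
              rw [show g * e₁ * g⁻¹ * (g * e₂ * g⁻¹) = g * (e₁ * e₂) * g⁻¹ by group, ← he]; group]
            exact E2.mul_mem (h1 e₁ he₁) (h2 e₂ he₂)
      have := hstab E1 hE1M hE1ne hno
      exact hy1 (hinf y (this.symm ▸ hE2M hy) hy)
    obtain ⟨g, hgs1, hgs2⟩ := hswap
    obtain ⟨x1, hx1, hx11⟩ := (E1.bot_or_exists_ne_one).resolve_left hE1ne
    have hg₁E1 : ∀ e ∈ E1, g₁ * e * g₁⁻¹ = e ^ (1 : ℤ) := fun e he => by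
      rw [zpow_one]; exact (memE1 e (hE1M he)).mp he
    have preim1 : ∀ e ∈ E1, g⁻¹ * e * g ∈ E2 := by
      intro e he
      have hw : g⁻¹ * e * g ∈ M := by simpa using hconjM g⁻¹ e (hE1M he)
      obtain ⟨e₁, he₁, e₂, he₂, hee⟩ := hdec _ hw
      have h3 : g * e₁ * g⁻¹ = 1 := by
        refine hinf _ ?_ (hgs1 e₁ he₁)
        have : g * e₁ * g⁻¹ = e * (g * e₂ * g⁻¹)⁻¹ := by
          rw [show g * e₁ * g⁻¹ = g * (g⁻¹ * e * g * e₂⁻¹) * g⁻¹ by rw [hee]; group]; group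
        rw [this]
        exact E1.mul_mem he (E1.inv_mem (hgs2 e₂ he₂))
      rw [hee, conj_eq_one_iff.mp h3, one_mul]
      exact he₂
    have preim2 : ∀ e ∈ E2, g⁻¹ * e * g ∈ E1 := by
      intro e he
      have hw : g⁻¹ * e * g ∈ M := by simpa using hconjM g⁻¹ e (hE2M he)
      obtain ⟨e₁, he₁, e₂, he₂, hee⟩ := hdec _ hw
      have h3 : g * e₂ * g⁻¹ = 1 := by
        refine hinf _ (hgs2 e₂ he₂) ?_
        have : g * e₂ * g⁻¹ = (g * e₁ * g⁻¹)⁻¹ * e := by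
          rw [show g * e₂ * g⁻¹ = g * (e₁⁻¹ * (g⁻¹ * e * g)) * g⁻¹ by rw [hee]; group]; group
        rw [this]
        exact E2.mul_mem (E2.inv_mem (hgs1 e₁ he₁)) he
      rw [hee, conj_eq_one_iff.mp h3, mul_one]
      exact he₁
    -- eigenvalue: `r = -1`, `p = 2`
    set pk := p ^ (a + 1)
    have hrpk : (r : ZMod q) ^ pk = 1 := by
      have h1 := pow_scal g₁ y r (hr y hy) pk
      rw [hg₁pow y (hE2M hy)] at h1
      nth_rewrite 1 [← zpow_one y] at h1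
      rw [hzeq y (hE2M hy) hy1, Int.cast_one, Int.cast_pow] at h1
      exact h1.symm
    set h₁ := g * g₁ * g⁻¹ with hh₁
    have hh₁E1 : ∀ e ∈ E1, h₁ * e * h₁⁻¹ = e ^ r := fun e he => by
      rw [hh₁, conj2, show g⁻¹ * e * g⁻¹⁻¹ = g⁻¹ * e * g by group, conj2, hr _ (preim1 e he), ← conj_zpow]
      group
    have hh₁E2 : ∀ e ∈ E2, h₁ * e * h₁⁻¹ = e ^ (1 : ℤ) := fun e he => by
      rw [hh₁, conj2, show g⁻¹ * e * g⁻¹⁻¹ = g⁻¹ * e * g by group, conj2, hg₁E1 _ (preim2 e he), ← conj_zpow]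
      group
    set ri : ℤ := (((r : ZMod q)⁻¹).val : ℤ)
    have hr0 : (r : ZMod q) ≠ 0 := fun hh => by
      rw [hh, zero_pow (pow_ne_zero _ hLp.ne_zero)] at hrpk; exact zero_ne_one hrpk
    have hginv2 : ∀ e ∈ E2, g₁⁻¹ * e * g₁⁻¹⁻¹ = e ^ ri := fun e he => by
      have h1 := hr _ (E2.zpow_mem he ri)
      have h2 : (e ^ ri) ^ r = e := by
        rw [← zpow_mul]
        conv_rhs => rw [← zpow_one e]
        refine hfaith e (hE2M he) _ _ ?_
        rw [Int.cast_mul, Int.cast_natCast, ZMod.natCast_zmod_val, inv_mul_cancel₀ hr0, Int.cast_one]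
      rw [h2] at h1
      calc g₁⁻¹ * e * g₁⁻¹⁻¹ = g₁⁻¹ * (g₁ * e ^ ri * g₁⁻¹) * g₁⁻¹⁻¹ := by rw [h1]
        _ = _ := by group
    set w := g₁⁻¹ * h₁ with hw
    have hwE2 : ∀ e ∈ E2, w * e * w⁻¹ = e ^ ri := fun e he => by
      rw [hw, conj2, hh₁E2 e he, zpow_one]; exact hginv2 e he
    have hwE1 : ∀ e ∈ E1, w * e * w⁻¹ = e ^ r := fun e he => by
      rw [hw, conj2, hh₁E1 e he, ← conj_zpow]
      congr 1
      calc g₁⁻¹ * e * g₁⁻¹⁻¹ = g₁⁻¹ * (g₁ * e * g₁⁻¹) * g₁⁻¹⁻¹ := by rw [hg₁E1 e he, zpow_one]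
        _ = e := by group
    have hwp : ∀ v ∈ M, w ^ pk * v * (w ^ pk)⁻¹ = v := by
      intro v hv
      obtain ⟨e₁, he₁, e₂, he₂, rfl⟩ := hdec v hv
      have k1 : w ^ pk * e₁ * (w ^ pk)⁻¹ = e₁ := by
        rw [pow_scal w e₁ r (hwE1 e₁ he₁)]
        conv_rhs => rw [← zpow_one e₁]
        exact hfaith _ (hE1M he₁) _ _ (by rw [Int.cast_pow, hrpk, Int.cast_one])
      have k2 : w ^ pk * e₂ * (w ^ pk)⁻¹ = e₂ := by
        rw [pow_scal w e₂ ri (hwE2 e₂ he₂)]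
        conv_rhs => rw [← zpow_one e₂]
        exact hfaith _ (hE2M he₂) _ _ (by
          rw [Int.cast_pow, Int.cast_natCast, ZMod.natCast_zmod_val, inv_pow, hrpk, inv_one, Int.cast_one])
      calc w ^ pk * (e₁ * e₂) * (w ^ pk)⁻¹
          = (w ^ pk * e₁ * (w ^ pk)⁻¹) * (w ^ pk * e₂ * (w ^ pk)⁻¹) := by group
        _ = e₁ * e₂ := by rw [k1, k2]
    have hr2 : (r : ZMod q) = (r : ZMod q)⁻¹ := by
      have hv : x1 * y ∈ M := M.mul_mem (hE1M hx1) (hE2M hy)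
      obtain ⟨t, ht⟩ := mem_zpowers_iff.mp (rel w ⟨a + 1, hwp⟩ _ hv).1
      set c := x1 * y * (w * (x1 * y)⁻¹ * w⁻¹) with hc
      set c1 := x1 ^ (1 - r) with hc1
      set c2 := y ^ (1 - ri) with hc2
      have hc12 : c = c1 * c2 := by
        have hi : w * (x1 * y)⁻¹ * w⁻¹ = (x1 ^ r * y ^ ri)⁻¹ := by
          rw [← hwE1 x1 hx1, ← hwE2 y hy]; group
        rw [hc, hi, hc1, hc2, zpow_sub, zpow_sub, zpow_one, zpow_one, mul_inv_rev,
          ((hcomm _ (M.inv_mem (M.zpow_mem (hE2M hy) ri)) _ (M.inv_mem (M.zpow_mem (hE1M hx1) r)))).eq]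
        rw [mul_assoc x1 y, ← mul_assoc y,
          (hcomm y (hE2M hy) _ (M.inv_mem (M.zpow_mem (hE1M hx1) r))).eq]
        group
      have hwc : w * c * w⁻¹ = c1 ^ r * c2 ^ ri := by
        rw [hc12, ← hwE1 c1 (E1.zpow_mem hx1 _), ← hwE2 c2 (E2.zpow_mem hy _)]; group
      rw [hwc, hc12, (hcomm _ (M.zpow_mem (hE1M hx1) _) _ (M.zpow_mem (hE2M hy) _)).mul_zpow] at ht
      have hm1 : c1 ∈ E1 := E1.zpow_mem hx1 _
      have hm2 : c2 ∈ E2 := E2.zpow_mem hy _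
      have h4 : (c1 ^ r)⁻¹ * c1 ^ t = c2 ^ ri * (c2 ^ t)⁻¹ := by
        rw [inv_mul_eq_iff_eq_mul, ← mul_assoc, ← ht, mul_inv_cancel_right]
      have hz1 : (c1 ^ r)⁻¹ * c1 ^ t = 1 := hinf _
        (E1.mul_mem (E1.inv_mem (E1.zpow_mem hm1 _)) (E1.zpow_mem hm1 _))
        (by rw [h4]; exact E2.mul_mem (E2.zpow_mem hm2 _) (E2.inv_mem (E2.zpow_mem hm2 _)))
      rw [hz1, eq_comm, mul_inv_eq_one] at h4
      rw [inv_mul_eq_one] at hz1
      rw [hc1, ← zpow_mul, ← zpow_mul, hzeq x1 (hE1M hx1) hx11] at hz1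
      rw [hc2, ← zpow_mul, ← zpow_mul, hzeq y (hE2M hy) hy1] at h4
      simp only [Int.cast_mul, Int.cast_sub, Int.cast_one] at hz1 h4
      have hrt : (r : ZMod q) = t := mul_left_cancel₀ (sub_ne_zero.mpr (Ne.symm hr1)) hz1
      have hri1 : (1 : ZMod q) - (ri : ZMod q) ≠ 0 := by
        rw [sub_ne_zero, Int.cast_natCast, ZMod.natCast_zmod_val]
        exact fun hh => hr1 (inv_eq_one.mp hh.symm)
      have hrit := mul_left_cancel₀ hri1 h4
      rw [Int.cast_natCast, ZMod.natCast_zmod_val] at hrit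
      exact hrt.trans hrit.symm
    have hrsq : (r : ZMod q) ^ 2 = 1 := by
      rw [pow_two]; nth_rewrite 2 [hr2]; exact mul_inv_cancel₀ hr0
    have hrneg : (r : ZMod q) = -1 := (sq_eq_one_iff.mp hrsq).resolve_left hr1
    have hp2 : p = 2 := by
      by_contra hp2
      have hodd : Odd pk := (hLp.odd_of_ne_two hp2).pow
      rw [hrneg, hodd.neg_one_pow] at hrpk
      exact hr1 (hrneg.trans hrpk)
    have hq2 : q ≠ 2 := fun h2 => hpq (hp2.trans h2.symm)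
    have hneg : (-1 : ZMod q) ≠ 1 := fun hh => hr1 (hrneg.trans hh)
    -- a `2`-element swapping
    obtain ⟨e, o, ho, ho'⟩ := Nat.exists_eq_pow_mul_and_not_dvd (orderOf_pos g).ne' p hLp.ne_one
    have hsw : ∀ i : ℕ, (Odd i → (∀ e ∈ E1, g ^ i * e * (g ^ i)⁻¹ ∈ E2) ∧ (∀ e ∈ E2, g ^ i * e * (g ^ i)⁻¹ ∈ E1)) ∧
        (Even i → (∀ e ∈ E1, g ^ i * e * (g ^ i)⁻¹ ∈ E1) ∧ (∀ e ∈ E2, g ^ i * e * (g ^ i)⁻¹ ∈ E2)) := by
      intro i
      induction i with
      | zero => exact ⟨fun hh => absurd hh (by decide), fun _ => by simp⟩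
      | succ i ih =>
        rcases Nat.even_or_odd i with hi | hi
        · obtain ⟨i1, i2⟩ := ih.2 hi
          refine ⟨fun _ => ⟨fun e he => ?_, fun e he => ?_⟩, fun hh => absurd hh (by
            rw [Nat.even_add_one]; exact fun hn => hn hi)⟩
          · rw [pow_succ', conj2]; exact hgs1 _ (i1 e he)
          · rw [pow_succ', conj2]; exact hgs2 _ (i2 e he)
        · obtain ⟨i1, i2⟩ := ih.1 hi
          refine ⟨fun hh => absurd hh (by
            rw [Nat.odd_add_one]; exact fun hn => hn hi), fun _ => ⟨fun e he => ?_, fun e he => ?_⟩⟩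
          · rw [pow_succ', conj2]; exact hgs2 _ (i1 e he)
          · rw [pow_succ', conj2]; exact hgs1 _ (i2 e he)
    set g₂ := g ^ o with hg₂
    obtain ⟨hs1, hs2⟩ := (hsw o).1 (Nat.odd_iff.mpr (by rw [hp2] at ho; omega))
    have hg₂p : g₂ ^ (p ^ e) = 1 := by rw [hg₂, ← pow_mul, mul_comm, ← ho', pow_orderOf_eq_one]
    -- squares
    have sq : ∀ u : G, (∀ e ∈ E1, u * e * u⁻¹ ∈ E2) → (∀ e ∈ E2, u * e * u⁻¹ ∈ E1) →
        (∃ a : ℕ, ∀ v ∈ M, u ^ (p ^ a) * v * (u ^ (p ^ a))⁻¹ = v) →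
        ∀ e, e ∈ E1 ∨ e ∈ E2 → u * (u * e * u⁻¹) * u⁻¹ = e := by
      intro u hu1 hu2 hup e he
      have heM : e ∈ M := he.elim (fun x => hE1M x) (fun x => hE2M x)
      rcases eq_or_ne e 1 with rfl | he1
      · group
      obtain ⟨t, ht⟩ := mem_zpowers_iff.mp (rel u hup e heM).1
      set f := u * e * u⁻¹ with hf
      set f' := u * f * u⁻¹ with hf'
      have hfM : f ∈ M := hconjM u e heM
      have he' : u * e⁻¹ * u⁻¹ = f⁻¹ := by rw [hf]; group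
      rw [he', show u * (e * f⁻¹) * u⁻¹ = f * f'⁻¹ by rw [hf', hf]; group,
        (hcomm e heM f⁻¹ (M.inv_mem hfM)).mul_zpow] at ht
      have key : f = (f ^ t)⁻¹ ∧ f'⁻¹ = e ^ t := by
        rw [inv_zpow] at ht
        have h5 : f * f ^ t = e ^ t * f' := by
          have hm := hcomm _ (M.zpow_mem heM t) _ (M.inv_mem (M.zpow_mem hfM t))
          rw [hm.eq] at ht
          calc f * f ^ t = f ^ t * f := ((Commute.refl f).zpow_right t).eq
            _ = f ^ t * (f * f'⁻¹) * f' := by group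
            _ = e ^ t * f' := by rw [← ht]; group
        have hone : e ^ t * f' = 1 := by
          rcases he with h1 | h2
          · have hf2 : f ∈ E2 := hu1 e h1
            have hf'1 : f' ∈ E1 := hu2 f hf2
            exact hinf _ (E1.mul_mem (E1.zpow_mem h1 _) hf'1) (h5 ▸ E2.mul_mem hf2 (E2.zpow_mem hf2 _))
          · have hf1 : f ∈ E1 := hu2 e h2
            have hf'2 : f' ∈ E2 := hu1 f hf1
            exact hinf _ (h5 ▸ E1.mul_mem hf1 (E1.zpow_mem hf1 _)) (E2.mul_mem (E2.zpow_mem h2 _) hf'2)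
        exact ⟨eq_inv_of_mul_eq_one_left (h5.trans hone), inv_eq_of_mul_eq_one_left hone⟩
      obtain ⟨k1, k2⟩ := key
      have hf1 : f ≠ 1 := fun hh => he1 (conj_eq_one_iff.mp hh)
      rw [← zpow_neg] at k1
      nth_rewrite 1 [← zpow_one f] at k1
      rw [hzeq f hfM hf1, Int.cast_one, Int.cast_neg] at k1
      have ht1 : (t : ZMod q) = -1 := by rw [k1, neg_neg]
      rw [hfaith e heM t (-1) (by rw [ht1, Int.cast_neg, Int.cast_one]), zpow_neg, zpow_one, inv_inj] at k2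
      exact k2
    have hsq2 := sq g₂ hs1 hs2 ⟨e, fun v _ => by rw [hg₂p]; group⟩
    -- `u = g₂ g₁` has square `-1`
    set u := g₂ * g₁ with hu
    have hu1 : ∀ e ∈ E1, u * e * u⁻¹ = g₂ * e * g₂⁻¹ := fun e he => by
      rw [hu, conj2, hg₁E1 e he, zpow_one]
    have hu2 : ∀ e ∈ E2, u * e * u⁻¹ = (g₂ * e * g₂⁻¹)⁻¹ := fun e he => by
      rw [hu, conj2, hr e he, hfaith e (hE2M he) r (-1) (by rw [hrneg, Int.cast_neg, Int.cast_one]),
        zpow_neg, zpow_one, conj_inv]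
    have husq : ∀ e, e ∈ E1 ∨ e ∈ E2 → u * (u * e * u⁻¹) * u⁻¹ = e⁻¹ := by
      intro e he
      rcases he with h1 | h2
      · rw [hu1 e h1, hu2 _ (hs1 e h1), hsq2 e (Or.inl h1)]
      · rw [hu2 e h2, hu1 _ (E1.inv_mem (hs2 e h2)), ← conj_inv, hsq2 e (Or.inr h2)]
    have hu4 : ∀ v ∈ M, u ^ (p ^ 2) * v * (u ^ (p ^ 2))⁻¹ = v := by
      intro v hv
      obtain ⟨e₁, he₁, e₂, he₂, rfl⟩ := hdec v hv
      have k : ∀ e, e ∈ E1 ∨ e ∈ E2 → u ^ (p ^ 2) * e * (u ^ (p ^ 2))⁻¹ = e := fun e he => by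
        rw [hp2]
        calc u ^ (2 ^ 2) * e * (u ^ (2 ^ 2))⁻¹ = u * (u * (u * (u * e * u⁻¹) * u⁻¹) * u⁻¹) * u⁻¹ := by
              rw [show u ^ (2 ^ 2) = u * u * u * u by
                rw [show (2 ^ 2 : ℕ) = 4 from rfl, pow_succ, pow_succ, pow_succ, pow_one]]
              simp only [mul_inv_rev, mul_assoc]
          _ = u * (u * e⁻¹ * u⁻¹) * u⁻¹ := by rw [husq e he]
          _ = (u * (u * e * u⁻¹) * u⁻¹)⁻¹ := by simp only [mul_inv_rev, inv_inv, mul_assoc]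
          _ = e := by rw [husq e he, inv_inv]
      calc u ^ (p ^ 2) * (e₁ * e₂) * (u ^ (p ^ 2))⁻¹
          = (u ^ (p ^ 2) * e₁ * (u ^ (p ^ 2))⁻¹) * (u ^ (p ^ 2) * e₂ * (u ^ (p ^ 2))⁻¹) := by group
        _ = e₁ * e₂ := by rw [k _ (Or.inl he₁), k _ (Or.inr he₂)]
    have hfin := sq u (fun e he => by rw [hu1 e he]; exact hs1 e he)
      (fun e he => by rw [hu2 e he]; exact E1.inv_mem (hs2 e he)) ⟨2, hu4⟩ x1 (Or.inl hx1)
    rw [husq x1 (Or.inl hx1)] at hfin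
    nth_rewrite 2 [← zpow_one x1] at hfin
    rw [← zpow_neg_one, hzeq x1 (hE1M hx1) hx11] at hfin
    simp only [Int.cast_neg, Int.cast_one] at hfin
    exact hneg hfin

theorem supersolvable_of_hyp.{u} : ∀ (n : ℕ) (G : Type u) [Group G] [Finite G], Nat.card G = n →
    Hyp G → Cfsg.IsSupersolvable G := by
  intro n
  induction n using Nat.strong_induction_on with
  | _ n ih =>
  intro G _ _ hn h
  rcases subsingleton_or_nontrivial G with hsub | hnt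
  · exact Supersolvable.of_subsingleton
  have hcard : Nat.card G ≠ 1 := fun h1 => not_subsingleton G (Nat.card_eq_one_iff_unique.mp h1).1
  have hs := Nat.minFac_prime hcard
  have := Fact.mk hs
  obtain ⟨P, N, hNn, hNP⟩ := hasNormalPComplement_of_smallest h (s := (Nat.card G).minFac)
    fun q hq hd => Nat.minFac_le_of_dvd hq.two_le hd
  have hsolv : Group.IsSolvable G := by
    have hPq : IsPGroup (Nat.card G).minFac (G ⧸ N) := by
      refine IsPGroup.of_card (n := (Nat.card G).factorization (Nat.card G).minFac) ?_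
      rw [← Subgroup.index_eq_card, hNP.symm.index_eq_card, P.card_eq_multiplicity]
    have := hPq.isNilpotent
    have hNs : Group.IsSolvable N := by
      have hlt : Nat.card N < n := by
        have h1 := hNP.card_mul_card
        rw [← hn]
        have hPd : (Nat.card G).minFac ∣ Nat.card (P : Subgroup G) := P.dvd_card_of_dvd_card (Nat.minFac_dvd _)
        have hP1 : 1 < Nat.card (P : Subgroup G) := lt_of_lt_of_le hs.one_lt (Nat.le_of_dvd Nat.card_pos hPd)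
        rw [← h1]
        exact lt_mul_of_one_lt_right Nat.card_pos hP1
      exact Supersolvable.isSolvable (ih _ hlt N rfl (hyp_subgroup h N))
    exact Group.isSolvable_of_ker_le_range N.subtype (QuotientGroup.mk' N)
      (by rw [QuotientGroup.ker_mk', Subgroup.range_subtype])
  obtain ⟨M, q, hMn, -, hMne, hMmin, hMab, hq, -⟩ := Solvable.exists_abelian_minimal_normal
    (K := (⊤ : Subgroup G)) (Group.isSolvable_of_isSolvable_injective (f := (⊤ : Subgroup G).subtype)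
      (Subgroup.subtype_injective _)) top_ne_bot
  obtain ⟨q', hq', hexp, -⟩ := Solvable.exists_prime_of_minimal hMne hMmin
  have hlt : Nat.card (G ⧸ M) < n := hn ▸ Supersolvable.card_quotient_lt M (by
    have := (Subgroup.nontrivial_iff_ne_bot M).mpr hMne
    exact Finite.one_lt_card)
  have hsuper := ih _ hlt (G ⧸ M) rfl (hyp_quotient h M)
  have := Fact.mk hq'
  have hc := card_minimal_normal h M hMab hexp hMne hMmin hsuper
  exact Supersolvable.of_prime_normal M (hc ▸ hq') hsuper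

/-- Let G be a finite group such that for every pair of distinct primes p and q, every p-element x and every q-element g of G, the order of the subgroup generated by x and g x g⁻¹ is not divisible by q². Then G is supersolvable. -/
theorem result {G : Type*} [Group G] [Finite G]
    (h : ∀ (p q : ℕ), p.Prime → q.Prime → p ≠ q → ∀ (x g : G), (∃ a : ℕ, orderOf x = p ^ a) → (∃ b : ℕ, orderOf g = q ^ b) →
      ¬ q ^ 2 ∣ Nat.card ↥(Subgroup.zpowers x ⊔ Subgroup.zpowers (g * x * g⁻¹))) :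
    Cfsg.IsSupersolvable G := by
  exact supersolvable_of_hyp _ G rfl h

end Cfsg.Agent.S3033
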