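import Cfsg.Statements.S3036
import Cfsg.Agent.Lib.CLarge.Basic

set_option autoImplicit false
open scoped Pointwise
open Cfsg

namespace Cfsg.Agent.S3036

/-- Let G be a finite non-abelian simple group and A a proper nontrivial subgroup of G. Then |G| > |A| · |C_G(A)|. In particular |G| > |A|² for every nontrivial abelian subgroup A of G. -/
theorem result {G : Type*} [Group G] [Finite G] [IsSimpleGroup G] (hG : ¬ IsMulCommutative G) (A : Subgroup G) (hA1 : A ≠ ⊥) (hA2 : A ≠ ⊤) : Nat.card A * Nat.card ↥(Subgroup.centralizer (A : Set G)) < Nat.card G := by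
  classical
  by_contra hcon
  rw [not_lt] at hcon
  have hZ : Subgroup.center G = ⊥ := by
    refine (IsSimpleGroup.eq_bot_or_eq_top_of_normal _ inferInstance).resolve_right fun h => hG ?_
    exact ⟨⟨fun a b => Subgroup.mem_center_iff.mp (h ▸ Subgroup.mem_top b) a⟩⟩
  have hT : Nat.card ↥(⊤ : Subgroup G) *
      Nat.card ↥(Subgroup.centralizer ((⊤ : Subgroup G) : Set G)) = Nat.card G := by
    rw [Subgroup.coe_top, Subgroup.centralizer_univ, hZ, Subgroup.card_top, Subgroup.card_bot, mul_one]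
  have hB : Nat.card ↥(⊥ : Subgroup G) *
      Nat.card ↥(Subgroup.centralizer ((⊥ : Subgroup G) : Set G)) = Nat.card G := by
    have : Subgroup.centralizer ((⊥ : Subgroup G) : Set G) = ⊤ :=
      top_le_iff.mp (Subgroup.le_centralizer_iff.mp bot_le)
    rw [this, Subgroup.card_top, Subgroup.card_bot, one_mul]
  have hex : {R : Subgroup G | Cfsg.IsCentralizerLarge R ∧ R ≠ ⊥ ∧ R ≠ ⊤}.Nonempty := by
    obtain ⟨R, hR⟩ := CLarge.exists_isCentralizerLarge (G := G)
    by_cases h : R = ⊥ ∨ R = ⊤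
    · refine ⟨A, CLarge.isCentralizerLarge_of_le ?_, hA1, hA2⟩
      rw [← hR]
      rcases h with h | h <;> subst h
      · rw [hB]; exact hcon
      · rw [hT]; exact hcon
    · exact ⟨R, hR, not_or.mp h⟩
  obtain ⟨M, ⟨hM, hM1, hM2⟩, hmax⟩ := Set.Finite.exists_maximal (Set.toFinite _) hex
  have key : ∀ g : G, ∀ x ∈ M, g * x * g⁻¹ ∈ M := by
    intro g x hx
    have hg := CLarge.isCentralizerLarge_map_equiv hM (MulAut.conj g)
    obtain ⟨hset, -, hJ, -⟩ := CLarge.chermakDelgado hM hg
    have hmem : g * x * g⁻¹ ∈ M ⊔ M.map (MulAut.conj g).toMonoidHom :=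
      Subgroup.mem_sup_right ⟨x, hx, rfl⟩
    by_cases htop : M ⊔ M.map (MulAut.conj g).toMonoidHom = ⊤
    · have hgm : g⁻¹ ∈ (M : Set G) * (M.map (MulAut.conj g).toMonoidHom : Set G) := by
        rw [← hset, htop]; trivial
      obtain ⟨a, ha, _, ⟨b, hb, rfl⟩, hab⟩ := hgm
      have hab' : a * (g * b * g⁻¹) = g⁻¹ := hab
      have h1 : a * g * b = 1 := by
        calc a * g * b = a * (g * b * g⁻¹) * g := by group
          _ = 1 := by rw [hab', inv_mul_cancel]
      have this : g ∈ M := by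
        have h2 : g = a⁻¹ * (a * g * b) * b⁻¹ := by group
        rw [h2, h1, mul_one]
        exact M.mul_mem (M.inv_mem ha) (M.inv_mem hb)
      exact M.mul_mem (M.mul_mem this hx) (M.inv_mem this)
    · have hle := hmax ⟨hJ, ne_bot_of_le_ne_bot hM1 le_sup_left, htop⟩ le_sup_left
      exact hle hmem
  rcases IsSimpleGroup.eq_bot_or_eq_top_of_normal M ⟨fun x hx g => key g x hx⟩ with h | h
  · exact hM1 h
  · exact hM2 h

end Cfsg.Agent.S3036
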